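import Cfsg.Statements.S2487
import Cfsg.Agent.Lib.Linear.SympQuadForms
-- import your own Cfsg.Agent.* helpers here

set_option autoImplicit false
open scoped Pointwise
open Cfsg

namespace Cfsg.Agent.S2487

open Cfsg.Lib.Linear.Orth Module
open scoped Matrix

section General

variable {ι : Type} [Fintype ι] [DecidableEq ι] {F : Type*} [Field F] [Fintype F]
  {Q : (ι → F) → F} {B : LinearMap.BilinForm F (ι → F)}

/-- A totally singular flag of length `k` inside `U`. -/
structure Flag (Q : (ι → F) → F) (U : Submodule F (ι → F)) (k : ℕ)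
    (V : ℕ → Submodule F (ι → F)) : Prop where
  mono : ∀ i j, i ≤ j → j < k → V i ≤ V j
  le : ∀ i, i < k → V i ≤ U
  ts : ∀ i, i < k → ∀ v ∈ V i, Q v = 0
  dim : ∀ i, i < k → finrank F (V i) = i

omit [Fintype F] in
theorem ts_perp (C : Space Q B) {A : Submodule F (ι → F)} (hA : ∀ v ∈ A, Q v = 0) {u v : ι → F}
    (hu : u ∈ A) (hv : v ∈ A) : B u v = 0 := by
  have := hA _ (A.add_mem hu hv)
  rw [C.add, hA u hu, hA v hv] at this
  simpa using this

theorem finrank_perp2 (C : Space Q B) {U : Submodule F (ι → F)} {e f : ι → F}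
    (H : Hyp Q B U e f) {n : ℕ} (hn : finrank F U = n + 2) : finrank F (perp2 B U e f) = n := by
  have h := card_step C H
  rw [Module.natCard_eq_pow_finrank (K := F) (V := U), hn,
    Module.natCard_eq_pow_finrank (K := F) (V := perp2 B U e f)] at h
  push_cast at h
  rw [← pow_add] at h
  have h' : Nat.card F ^ (n + 2) = Nat.card F ^ (2 + finrank F (perp2 B U e f)) := by exact_mod_cast h
  have := Nat.pow_right_injective (show 2 ≤ Nat.card F from Finite.one_lt_card) h'
  omega

omit [Fintype F] in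
theorem Flag.step (C : Space Q B) {U : Submodule F (ι → F)} {k : ℕ} {V : ℕ → Submodule F (ι → F)}
    (hV : Flag Q U (k + 1) V) {e f : ι → F} (H : Hyp Q B U e f) (he : ∀ i, 1 ≤ i → i < k + 1 → e ∈ V i) :
    Flag Q (perp2 B U e f) k (fun i => V (i + 1) ⊓ LinearMap.ker (B f)) ∧
      ∀ i, i < k → V (i + 1) = Submodule.span F {e} ⊔ (V (i + 1) ⊓ LinearMap.ker (B f)) := by
  have hsplit : ∀ i, i < k → V (i + 1) = Submodule.span F {e} ⊔ (V (i + 1) ⊓ LinearMap.ker (B f)) := by
    intro i hi
    have hei := he (i + 1) (by omega) (by omega)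
    refine le_antisymm (fun v hv => ?_)
      (sup_le ((Submodule.span_singleton_le_iff_mem _ _).mpr hei) inf_le_left)
    refine Submodule.mem_sup.mpr ⟨B f v • e, Submodule.smul_mem _ _ (Submodule.mem_span_singleton_self e),
      v - B f v • e, ⟨Submodule.sub_mem _ hv (Submodule.smul_mem _ _ hei), ?_⟩, by abel⟩
    simp [H.pair' C]
  refine ⟨⟨fun i j hij hj => inf_le_inf_right _ (hV.mono _ _ (by omega) (by omega)), fun i hi v hv => ?_,
    fun i hi v hv => hV.ts (i + 1) (by omega) v hv.1, fun i hi => ?_⟩, hsplit⟩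
  · exact mem_perp2.mpr ⟨hV.le (i + 1) (by omega) hv.1,
      ts_perp C (hV.ts (i + 1) (by omega)) (he (i + 1) (by omega) (by omega)) hv.1, hv.2⟩
  · have hne : e ≠ 0 := fun h => by
      have := H.pair; rw [h, map_zero, LinearMap.zero_apply] at this; exact zero_ne_one this
    have hd : Disjoint (Submodule.span F {e}) (V (i + 1) ⊓ LinearMap.ker (B f)) := by
      rw [Submodule.disjoint_def]
      intro v hv hv'
      obtain ⟨c, rfl⟩ := Submodule.mem_span_singleton.mp hv
      have := LinearMap.mem_ker.mp hv'.2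
      rw [map_smul, H.pair' C, smul_eq_mul, mul_one] at this
      rw [this, zero_smul]
    have h1 := Submodule.finrank_sup_add_finrank_inf_eq (Submodule.span F {e})
      (V (i + 1) ⊓ LinearMap.ker (B f))
    rw [← hsplit i hi, hd.eq_bot, finrank_bot, finrank_span_singleton hne, hV.dim (i + 1) (by omega)] at h1
    show finrank F (V (i + 1) ⊓ LinearMap.ker (B f) : Submodule F (ι → F)) = i
    omega

omit [Fintype F] in
theorem map_split {g : GL ι F} {e : ι → F} {A A' : Submodule F (ι → F)}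
    (h : A = Submodule.span F {e} ⊔ A') (he : g.val *ᵥ e = e) (hA' : ∀ v ∈ A', g.val *ᵥ v ∈ A') :
    ∀ v ∈ A, g.val *ᵥ v ∈ A := by
  intro v hv
  rw [h] at hv ⊢
  obtain ⟨_, hu, w, hw, rfl⟩ := Submodule.mem_sup.mp hv
  obtain ⟨c, rfl⟩ := Submodule.mem_span_singleton.mp hu
  rw [Matrix.mulVec_add, Matrix.mulVec_smul, he]
  exact Submodule.add_mem_sup (Submodule.smul_mem _ _ (Submodule.mem_span_singleton_self e)) (hA' w hw)

omit [Fintype F] in
theorem fix_zero {k : ℕ} {U : Submodule F (ι → F)} {V : ℕ → Submodule F (ι → F)}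
    (hV : Flag Q U (k + 1) V) (g : GL ι F) : ∀ v ∈ V 0, g.val *ᵥ v ∈ V 0 := fun v hv => by
  have := Submodule.finrank_eq_zero.mp (hV.dim 0 (by omega))
  rw [this, Submodule.mem_bot] at hv
  rw [hv, Matrix.mulVec_zero]
  exact Submodule.zero_mem _

/-- Two flags are preserved by a common involution. -/
theorem exists_involution (C : Space Q B) (h2 : (2 : F) = 0) : ∀ (k : ℕ) (U : Submodule F (ι → F)),
    NDeg B U → finrank F U = 2 * (k + 1) → ∀ V W : ℕ → Submodule F (ι → F),
      Flag Q U (k + 1) V → Flag Q U (k + 1) W →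
        ∃ z ∈ relIso Q B U, z * z = 1 ∧ z ≠ 1 ∧
          (∀ i, i < k + 1 → ∀ v ∈ V i, z.val *ᵥ v ∈ V i) ∧
          (∀ i, i < k + 1 → ∀ v ∈ W i, z.val *ᵥ v ∈ W i) := by
  intro k
  induction k with
  | zero =>
    intro U hU hfr V W hV hW
    obtain ⟨v, hv, hQv⟩ := exists_nonsing C hU (fun h => by rw [h, finrank_bot] at hfr; omega)
    refine ⟨rGL Q v, rGL_mem_relIso C hv hQv, congrArg Subtype.val (rI_sq C hQv), fun h => ?_,
      fun i hi => ?_, fun i hi => ?_⟩
    · obtain ⟨w, hw⟩ := C.exists_pair (v := v) (fun h => hQv (by rw [h, C.zero]))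
      have := congrArg (fun g : GL ι F => g.val *ᵥ w) h
      simp only [rGL_act C hQv, hw, mul_one, Units.val_one, Matrix.one_mulVec, sub_eq_self,
        smul_eq_zero, inv_eq_zero] at this
      rcases this with h' | h'
      · exact hQv h'
      · exact hQv (by rw [h', C.zero])
    · obtain rfl : i = 0 := by omega
      exact fix_zero hV _
    · obtain rfl : i = 0 := by omega
      exact fix_zero hW _
  | succ k ih =>
    intro U hU hfr V W hV hW
    have hne : ∀ {V : ℕ → Submodule F (ι → F)}, Flag Q U (k + 1 + 1) V → ∃ e ∈ V 1, e ≠ 0 :=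
      fun hV => Submodule.exists_mem_ne_zero_of_ne_bot fun h => by
        have := hV.dim 1 (by omega); rw [h, finrank_bot] at this; omega
    obtain ⟨e, he, he0⟩ := hne hV
    obtain ⟨f, hf, hf0⟩ := hne hW
    have heV : ∀ i, 1 ≤ i → i < k + 1 + 1 → e ∈ V i := fun i h1 hi => hV.mono 1 i h1 hi he
    by_cases hef : B e f = 0
    · have hee : B e e = 0 := C.self_zero (hV.ts 1 (by omega) e he)
      obtain ⟨a, haU, hea, ha, hWa⟩ : ∃ a ∈ U, B e a = 0 ∧ a ∉ Submodule.span F {e} ∧
          ∀ i, i < k + 1 + 1 → ∀ v ∈ W i, v + B e v • a - (B a v + Q a * B e v) • e ∈ W i := by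
        by_cases hfe : f ∈ Submodule.span F {e}
        · obtain ⟨c, hc⟩ := Submodule.mem_span_singleton.mp hfe
          have hc0 : c ≠ 0 := fun h => hf0 (by rw [← hc, h, zero_smul])
          obtain ⟨a, ha, ha'⟩ : ∃ a ∈ U ⊓ LinearMap.ker (B e), a ∉ Submodule.span F {e} := by
            by_contra hcon
            push Not at hcon
            have h1 := Submodule.finrank_mono
              (show U ⊓ LinearMap.ker (B e) ≤ Submodule.span F {e} from fun a ha => hcon a ha)
            rw [finrank_span_singleton he0] at h1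
            have h3 := Submodule.finrank_sup_add_finrank_inf_eq U (LinearMap.ker (B e))
            have h4 := LinearMap.finrank_range_add_finrank_ker (B e)
            have h5 : finrank F (LinearMap.range (B e)) ≤ 1 := by
              simpa using Submodule.finrank_le (LinearMap.range (B e))
            have h6 := Submodule.finrank_le (U ⊔ LinearMap.ker (B e))
            omega
          refine ⟨a, ha.1, LinearMap.mem_ker.mp ha.2, ha', fun i hi v hv => ?_⟩
          rcases Nat.eq_zero_or_pos i with rfl | hi1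
          · have := Submodule.finrank_eq_zero.mp (hW.dim 0 hi)
            rw [this, Submodule.mem_bot] at hv
            simp [hv]
          have hfi := hW.mono 1 i hi1 hi hf
          have heW : e ∈ W i := by
            have : e = c⁻¹ • f := by rw [← hc, smul_smul, inv_mul_cancel₀ hc0, one_smul]
            rw [this]; exact Submodule.smul_mem _ _ hfi
          rw [ts_perp C (hW.ts i hi) heW hv, zero_smul, add_zero]
          exact Submodule.sub_mem _ hv (Submodule.smul_mem _ _ heW)
        · refine ⟨f, hW.le 1 (by omega) hf, hef, hfe, fun i hi v hv => ?_⟩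
          rcases Nat.eq_zero_or_pos i with rfl | hi1
          · have := Submodule.finrank_eq_zero.mp (hW.dim 0 hi)
            rw [this, Submodule.mem_bot] at hv
            simp [hv]
          have hfi := hW.mono 1 i hi1 hi hf
          rw [ts_perp C (hW.ts i hi) hfi hv, hW.ts 1 (by omega) f hf, zero_mul, add_zero, zero_smul,
            sub_zero]
          exact Submodule.add_mem _ hv (Submodule.smul_mem _ _ hfi)
      have hQe := hV.ts 1 (by omega) e he
      have hact := sGL_act C hQe hea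
      refine ⟨sGL Q B e a, ⟨sGL_mem C hQe hea, fun x hx => by
        rw [hact, hx e (hV.le 1 (by omega) he), hx a haU]; simp⟩, ?_, fun h => ?_, fun i hi v hv => ?_,
        fun i hi v hv => by rw [hact]; exact hWa i hi v hv⟩
      · refine gl_ext fun x => ?_
        rw [mul_act, Units.val_one, Matrix.one_mulVec, hact, hact]
        have haa : B a a = 0 := by rw [C.self, h2, zero_mul]
        simp only [map_add, map_sub, map_smul, hea, hee, haa, C.symm a e, smul_eq_mul, mul_zero,
          add_zero, sub_zero, zero_add]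
        funext j
        simp only [Pi.add_apply, Pi.sub_apply, Pi.smul_apply, smul_eq_mul]
        linear_combination (B e x * a j - (B a x + Q a * B e x) * e j) * h2
      · obtain ⟨w, hw⟩ := C.exists_pair he0
        have := congrArg (fun g : GL ι F => g.val *ᵥ w) h
        simp only [hact, hw, one_smul, Units.val_one, Matrix.one_mulVec] at this
        refine ha (Submodule.mem_span_singleton.mpr ⟨B a w + Q a * 1, ?_⟩)
        rw [add_sub_assoc, add_eq_left, sub_eq_zero] at this
        exact this.symm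
      · rw [hact]
        rcases Nat.eq_zero_or_pos i with rfl | hi1
        · have := Submodule.finrank_eq_zero.mp (hV.dim 0 hi)
          rw [this, Submodule.mem_bot] at hv
          simp [hv]
        have hei := heV i hi1 hi
        rw [ts_perp C (hV.ts i hi) hei hv, zero_smul, add_zero]
        exact Submodule.sub_mem _ hv (Submodule.smul_mem _ _ hei)
    · set f' := (B e f)⁻¹ • f with hf'
      have hQe := hV.ts 1 (by omega) e he
      have hfW : f' ∈ W 1 := Submodule.smul_mem _ _ hf
      have H : Hyp Q B U e f' := ⟨hV.le 1 (by omega) he, hW.le 1 (by omega) hfW, hQe,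
        hW.ts 1 (by omega) f' hfW, by rw [hf', map_smul, smul_eq_mul, inv_mul_cancel₀ hef]⟩
      have H' : Hyp Q B U f' e := ⟨H.memF, H.memE, H.singF, H.singE, H.pair' C⟩
      obtain ⟨hV', hVs⟩ := hV.step C H heV
      obtain ⟨hW', hWs⟩ := hW.step C H' (fun i h1 hi => hW.mono 1 i h1 hi hfW)
      rw [show perp2 B U f' e = perp2 B U e f' by ext x; simp [mem_perp2, and_comm]] at hW'
      obtain ⟨z, hz, hz2, hz1, hzV, hzW⟩ := ih (perp2 B U e f') (H.ndeg C hU)
        (finrank_perp2 C H (by omega)) _ _ hV' hW'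
      obtain ⟨hzU, hze, hzf⟩ := (mem_relIso_perp2 C H z).mp hz
      refine ⟨z, hzU, hz2, hz1, fun i hi => ?_, fun i hi => ?_⟩
      · rcases i with _ | i
        · exact fix_zero hV z
        · exact map_split (hVs i (by omega)) hze (hzV i (by omega))
      · rcases i with _ | i
        · exact fix_zero hW z
        · exact map_split (hWs i (by omega)) hzf (hzW i (by omega))

omit [Fintype F] in
/-- The average of an orbit of odd length. -/
theorem exists_fixed_partner (C : Space Q B) (h2 : (2 : F) = 0) {U : Submodule F (ι → F)}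
    (hU : NDeg B U) {g : GL ι F} (hg : g ∈ Cfsg.isometryGroup F Q)
    (hgU : ∀ v ∈ U, g.val *ᵥ v ∈ U) {N : ℕ} (hN : Odd N) (hgN : g ^ N = 1) {e : ι → F}
    (he : e ∈ U) (he0 : e ≠ 0) (hQe : Q e = 0) (hge : g.val *ᵥ e = e) :
    ∃ f, Hyp Q B U e f ∧ g.val *ᵥ f = f := by
  obtain ⟨f0, H⟩ := exists_hyp C hU he he0 hQe
  have hpowU : ∀ n : ℕ, (g ^ n).val *ᵥ f0 ∈ U := fun n => by
    induction n with
    | zero => simpa using H.memF
    | succ n ih => rw [pow_succ', mul_act]; exact hgU _ ih
  have hpowB : ∀ n : ℕ, B e ((g ^ n).val *ᵥ f0) = 1 := fun n => by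
    induction n with
    | zero => simpa using H.pair
    | succ n ih =>
      rw [pow_succ', mul_act]
      conv_lhs => rw [← hge]
      rw [C.B_act hg, ih]
  set f1 := ∑ n ∈ Finset.range N, (g ^ n).val *ᵥ f0 with hf1
  have hf1U : f1 ∈ U := Submodule.sum_mem _ fun n _ => hpowU n
  have hf1e : B e f1 = 1 := by
    rw [hf1, map_sum, Finset.sum_congr rfl fun n _ => hpowB n, Finset.sum_const, Finset.card_range,
      nsmul_eq_mul, mul_one]
    obtain ⟨k, rfl⟩ := hN
    push_cast
    linear_combination (k : F) * h2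
  have hgf1 : g.val *ᵥ f1 = f1 := by
    obtain ⟨M, rfl⟩ : ∃ M, N = M + 1 := ⟨N - 1, by obtain ⟨k, rfl⟩ := hN; omega⟩
    rw [hf1, Matrix.mulVec_sum]
    simp only [← mul_act, ← pow_succ']
    rw [Finset.sum_range_succ, hgN, Units.val_one, Matrix.one_mulVec]
    conv_rhs => rw [Finset.sum_range_succ', pow_zero, Units.val_one, Matrix.one_mulVec]
  refine ⟨f1 - Q f1 • e, ⟨he, U.sub_mem hf1U (U.smul_mem _ he), hQe, ?_, ?_⟩, ?_⟩
  · rw [sub_eq_add_neg, ← neg_smul, C.add, C.smul, hQe, map_smul, C.symm f1 e, hf1e]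
    simp
  · simp [hf1e, C.self_zero hQe]
  · rw [Matrix.mulVec_sub, Matrix.mulVec_smul, hgf1, hge]

/-- Over two elements an element of odd order fixing a flag of a plus space is trivial on it. -/
theorem fixes_of_odd (C : Space Q B) (hF : Nat.card F = 2) (h2 : (2 : F) = 0) :
    ∀ (k : ℕ) (U : Submodule F (ι → F)), NDeg B U → finrank F U = 2 * (k + 1) →
      sgCount Q U = 2 ^ (2 * k + 1) + 2 ^ (k + 1) - 2 ^ k →
      ∀ V : ℕ → Submodule F (ι → F), Flag Q U (k + 1) V → ∀ g ∈ Cfsg.isometryGroup F Q,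
        (∀ v ∈ U, g.val *ᵥ v ∈ U) → ∀ N, Odd N → g ^ N = 1 →
          (∀ i, i < k + 1 → ∀ v ∈ V i, g.val *ᵥ v ∈ V i) → ∀ v ∈ U, g.val *ᵥ v = v := by
  have hsc : ∀ c : F, c ≠ 0 → c = 1 := fun c hc => by
    have h1 : Nat.card Fˣ = 1 := by rw [Nat.card_units, hF]
    haveI := (Nat.card_eq_one_iff_unique.mp h1).1
    exact congrArg Units.val (Subsingleton.elim (Units.mk0 c hc) 1)
  have finish : ∀ (U : Submodule F (ι → F)) (g : GL ι F) (e f : ι → F), Hyp Q B U e f →
      g.val *ᵥ e = e → g.val *ᵥ f = f → (∀ v ∈ perp2 B U e f, g.val *ᵥ v = v) →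
      ∀ v ∈ U, g.val *ᵥ v = v := by
    intro U g e f H he hf hW v hv
    rw [show v = (v - B f v • e - B e v • f) + B f v • e + B e v • f by abel, Matrix.mulVec_add,
      Matrix.mulVec_add, Matrix.mulVec_smul, Matrix.mulVec_smul, he, hf, hW _ (H.proj C hv)]
  intro k
  induction k with
  | zero =>
    intro U hU hfr hcnt V hV g hg hgU N hN hgN hgV
    obtain ⟨e, he, he0, hQe⟩ : ∃ e ∈ U, e ≠ 0 ∧ Q e = 0 := by
      by_contra hc
      push Not at hc
      have : sgCount Q U = 1 := by
        rw [sgCount, Nat.cast_eq_one, Nat.card_eq_one_iff_unique]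
        refine ⟨⟨fun a b => Subtype.ext ?_⟩, ⟨⟨0, U.zero_mem, C.zero⟩⟩⟩
        have h0 : ∀ x : {x : ι → F // x ∈ U ∧ Q x = 0}, x.1 = 0 := fun x => by
          by_contra h
          exact hc x.1 x.2.1 h x.2.2
        rw [h0 a, h0 b]
      rw [this] at hcnt
      norm_num at hcnt
    obtain ⟨f, H⟩ := exists_hyp C hU he he0 hQe
    have hW : perp2 B U e f = ⊥ := Submodule.finrank_eq_zero.mp (finrank_perp2 C H hfr)
    have hsing : ∀ v ∈ U, Q v = 0 → v ≠ 0 → v = e ∨ v = f := by
      intro v hv hQ h0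
      have hp := H.proj C hv
      rw [hW, Submodule.mem_bot] at hp
      have hv' : v = (0 : ι → F) + B f v • e + B e v • f := by rw [← hp]; abel
      rw [hv', Q_hyp C H (Submodule.zero_mem _), C.zero, zero_add] at hQ
      rcases mul_eq_zero.mp hQ with h | h
      · right
        rw [h, zero_smul, add_zero, zero_add] at hv'
        rw [hv', hsc (B e v) (fun h' => h0 (by rw [hv', h', zero_smul])), one_smul]
      · left
        rw [h, zero_smul, add_zero, zero_add] at hv'
        rw [hv', hsc (B f v) (fun h' => h0 (by rw [hv', h', zero_smul])), one_smul]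
    have hf0 : f ≠ 0 := fun h => by
      have := H.pair; rw [h, map_zero] at this; exact zero_ne_one this
    have hge : g.val *ᵥ e = e := by
      refine (hsing _ (hgU e he) (by rw [mem_iso.mp hg, hQe]) (act_ne_zero he0)).resolve_right fun h1 => ?_
      have hgf : g.val *ᵥ f = e := by
        refine (hsing _ (hgU f H.memF) (by rw [mem_iso.mp hg, H.singF]) (act_ne_zero hf0)).resolve_right
          fun h3 => ?_
        have he' : e = f := act_injective g (h1.trans h3.symm)
        have := H.pair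
        rw [← he', C.self_zero hQe] at this
        exact zero_ne_one this
      have h4 : ∀ n : ℕ, (g ^ (2 * n)).val *ᵥ e = e := fun n => by
        induction n with
        | zero => simp
        | succ n ih =>
          rw [mul_add, mul_one, pow_add, mul_act, sq, mul_act, h1, hgf, ih]
      obtain ⟨n, rfl⟩ := hN
      have h5 : (g ^ (2 * n + 1)).val *ᵥ e = f := by rw [pow_succ', mul_act, h4, h1]
      rw [hgN, Units.val_one, Matrix.one_mulVec] at h5
      have := H.pair
      rw [← h5, C.self_zero hQe] at this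
      exact zero_ne_one this
    obtain ⟨f', H', hgf'⟩ := exists_fixed_partner C h2 hU hg hgU hN hgN he he0 hQe hge
    refine finish U g e f' H' hge hgf' fun v hv => ?_
    rw [Submodule.finrank_eq_zero.mp (finrank_perp2 C H' hfr), Submodule.mem_bot] at hv
    rw [hv, Matrix.mulVec_zero]
  | succ k ih =>
    intro U hU hfr hcnt V hV g hg hgU N hN hgN hgV
    obtain ⟨e, he, he0⟩ := Submodule.exists_mem_ne_zero_of_ne_bot (p := V 1) fun h => by
      have := hV.dim 1 (by omega); rw [h, finrank_bot] at this; omega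
    have hge : g.val *ᵥ e = e := by
      obtain ⟨c, hc⟩ := (finrank_eq_one_iff_of_nonzero' (⟨e, he⟩ : V 1) (by simpa using he0)).mp
        (hV.dim 1 (by omega)) ⟨_, hgV 1 (by omega) e he⟩
      have hc' : c • e = g.val *ᵥ e := congrArg Subtype.val hc
      rw [← hc', hsc c (fun h => act_ne_zero he0 (by rw [← hc', h, zero_smul])), one_smul]
    obtain ⟨f, H, hgf⟩ := exists_fixed_partner C h2 hU hg hgU hN hgN (hV.le 1 (by omega) he) he0
      (hV.ts 1 (by omega) e he) hge
    obtain ⟨hV', hVs⟩ := hV.step C H fun i h1 hi => hV.mono 1 i h1 hi he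
    have hgperp : ∀ v ∈ perp2 B U e f, g.val *ᵥ v ∈ perp2 B U e f := fun v hv => by
      obtain ⟨hvU, hev, hfv⟩ := mem_perp2.mp hv
      refine mem_perp2.mpr ⟨hgU v hvU, ?_, ?_⟩
      · conv_lhs => rw [← hge]
        rw [C.B_act hg, hev]
      · conv_lhs => rw [← hgf]
        rw [C.B_act hg, hfv]
    have hcnt' : sgCount Q (perp2 B U e f) = 2 ^ (2 * k + 1) + 2 ^ (k + 1) - 2 ^ k := by
      have h := sgCount_step C H
      rw [hcnt, hF, Module.natCard_eq_pow_finrank (K := F) (V := perp2 B U e f), hF,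
        finrank_perp2 C H (show finrank F U = 2 * (k + 1) + 2 by omega)] at h
      push_cast at h
      ring_nf at h ⊢
      linarith
    refine finish U g e f H hge hgf (ih _ (H.ndeg C hU) (finrank_perp2 C H (by omega)) hcnt' _ hV' g hg
      hgperp N hN hgN fun i hi v hv => ⟨hgV (i + 1) (by omega) v hv.1, ?_⟩)
    show B f (g.val *ᵥ v) = 0
    conv_lhs => rw [← hgf]
    rw [C.B_act hg]
    exact LinearMap.mem_ker.mp hv.2

end General

variable {F : Type*} [Field F] [Fintype F] {m : ℕ}

/-- The span of the first `i` standard singular vectors. -/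
def stdFlag (F : Type*) [Field F] (m i : ℕ) : Submodule F (Fin m ⊕ Fin m → F) where
  carrier := {v | (∀ j, v (.inr j) = 0) ∧ ∀ j : Fin m, i ≤ j.1 → v (.inl j) = 0}
  add_mem' ha hb := ⟨fun j => by simp [ha.1 j, hb.1 j], fun j hj => by simp [ha.2 j hj, hb.2 j hj]⟩
  zero_mem' := ⟨fun _ => rfl, fun _ _ => rfl⟩
  smul_mem' c v hv := ⟨fun j => by simp [hv.1 j], fun j hj => by simp [hv.2 j hj]⟩

theorem stdFlag_flag (hm : 1 ≤ m) :
    Flag (Cfsg.quadFormPlus m F) ⊤ m (stdFlag F m) := by
  refine ⟨fun i j hij _ v hv => ⟨hv.1, fun l hl => hv.2 l (le_trans hij hl)⟩, fun _ _ => le_top,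
    fun i _ v hv => Finset.sum_eq_zero fun j _ => by rw [hv.1 j, mul_zero], fun i hi => ?_⟩
  have e : (Fin i → F) ≃ₗ[F] stdFlag F m i :=
    { toFun := fun u => ⟨Sum.elim (fun j => if h : j.1 < i then u ⟨j.1, h⟩ else 0) 0,
        fun j => rfl, fun j hj => dif_neg (not_lt.mpr hj)⟩
      invFun := fun v j => v.1 (.inl ⟨j.1, lt_trans j.2 hi⟩)
      map_add' := fun a b => Subtype.ext (funext fun j => by
        rcases j with j | j <;> simp; split_ifs <;> simp)
      map_smul' := fun c a => Subtype.ext (funext fun j => by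
        rcases j with j | j <;> simp)
      left_inv := fun u => funext fun j => by simp [j.2]
      right_inv := fun v => Subtype.ext (funext fun j => by
        rcases j with j | j
        · by_cases h : j.1 < i
          · simp [h]
          · simp [h, v.2.2 j (not_lt.mp h)]
        · simp [v.2.1 j]) }
  rw [← e.finrank_eq, finrank_fin_fun]

theorem flag_map {ι : Type} [Fintype ι] [DecidableEq ι] {Q : (ι → F) → F} {k : ℕ}
    {V : ℕ → Submodule F (ι → F)} (hV : Flag Q ⊤ k V) {g : GL ι F}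
    (hg : g ∈ Cfsg.isometryGroup F Q) :
    Flag Q ⊤ k (fun i => (V i).map (Matrix.mulVecLin g.val)) := by
  refine ⟨fun i j hij hj => Submodule.map_mono (hV.mono i j hij hj), fun _ _ => le_top, ?_, fun i hi => ?_⟩
  · rintro i hi _ ⟨v, hv, rfl⟩
    show Q (g.val *ᵥ v) = 0
    rw [mem_iso.mp hg, hV.ts i hi v hv]
  · rw [← (Submodule.equivMapOfInjective (Matrix.mulVecLin g.val) (act_injective g) (V i)).finrank_eq]
    exact hV.dim i hi

/-- Let m ≥ 4 and let G be the full isometry group of the hyperbolic quadratic form x₁y₁ + ⋯ + x_m y_m on the 2m-dimensional space over the field with 2 elements (the orthogonal group O⁺(2m,2), which contains Ω⁺(2m,2) with index 2). Then any two Sylow 2-subgroups of G have a non-trivial intersection: for a Sylow 2-subgroup H and every x ∈ G, H ∩ H^x ≠ 1. -/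
theorem result {F : Type*} [Field F] [Fintype F] (hF : Fintype.card F = 2) {m : ℕ} (hm : 4 ≤ m)
    (H : Sylow 2 (Cfsg.isometryGroup F (Cfsg.quadFormPlus m F)))
    (x : Cfsg.isometryGroup F (Cfsg.quadFormPlus m F)) :
    (H : Subgroup (Cfsg.isometryGroup F (Cfsg.quadFormPlus m F))) ⊓ MulAut.conj x • (H : Subgroup _) ≠ ⊥ := by
  classical
  have h2 : (2 : F) = 0 := by
    have := FiniteField.cast_card_eq_zero F
    rw [hF] at this
    exact_mod_cast this
  have hF' : Nat.card F = 2 := by rw [Nat.card_eq_fintype_card, hF]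
  obtain ⟨B, C⟩ := exists_space_plus (F := F) m
  obtain ⟨k, rfl⟩ : ∃ k, m = k + 1 := ⟨m - 1, by omega⟩
  have hfr : finrank F (⊤ : Submodule F (Fin (k + 1) ⊕ Fin (k + 1) → F)) = 2 * (k + 1) := by
    rw [finrank_top, finrank_fintype_fun_eq_card]; simp; ring
  have hcnt : sgCount (Cfsg.quadFormPlus (k + 1) F) (⊤ : Submodule F (Fin (k + 1) ⊕ Fin (k + 1) → F)) =
      2 ^ (2 * k + 1) + 2 ^ (k + 1) - 2 ^ k := by
    rw [sgCount_top, (counts_plus (F := F) (k + 1)).1 (by omega), hF', show 0 + (k + 1) - 1 = k by omega]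
    push_cast
    ring
  let M : Submonoid ↥(Cfsg.isometryGroup F (Cfsg.quadFormPlus (k + 1) F)) :=
    { carrier := {g | ∀ i, i < k + 1 → ∀ v ∈ stdFlag F (k + 1) i, (g : GL (Fin (k + 1) ⊕ Fin (k + 1)) F).val *ᵥ v ∈ stdFlag F (k + 1) i}
      mul_mem' := fun {a b} ha hb i hi v hv => by
        rw [Subgroup.coe_mul, mul_act]; exact ha i hi _ (hb i hi v hv)
      one_mem' := fun i _ v hv => by rw [Subgroup.coe_one, Units.val_one, Matrix.one_mulVec]; exact hv }
  let S : Subgroup ↥(Cfsg.isometryGroup F (Cfsg.quadFormPlus (k + 1) F)) :=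
    { M with
      inv_mem' := fun {a} ha => by
        have : a⁻¹ = a ^ (orderOf a - 1) := by
          rw [inv_eq_iff_mul_eq_one, ← pow_succ', Nat.sub_add_cancel (orderOf_pos a), pow_orderOf_eq_one]
        show a⁻¹ ∈ M
        rw [this]; exact pow_mem ha _ }
  have hS : IsPGroup 2 S := by
    refine IsPGroup.iff_card.mpr ⟨(Nat.card S).primeFactorsList.length,
      Nat.eq_prime_pow_of_unique_prime_dvd Nat.card_pos.ne' fun {r} hr hrd => ?_⟩
    by_contra hr2
    haveI := Fact.mk hr
    obtain ⟨g, hg⟩ := exists_prime_orderOf_dvd_card' r hrd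
    have hgr : ((g : ↥(Cfsg.isometryGroup F (Cfsg.quadFormPlus (k + 1) F))) : GL (Fin (k + 1) ⊕ Fin (k + 1)) F) ^ r = 1 := by
      have := pow_orderOf_eq_one g
      rw [hg] at this
      exact congrArg (fun s : S => ((s : ↥(Cfsg.isometryGroup F (Cfsg.quadFormPlus (k + 1) F))) : GL (Fin (k + 1) ⊕ Fin (k + 1)) F)) this
    have hfix := fixes_of_odd C hF' h2 k ⊤ C.ndeg_top hfr hcnt _ (stdFlag_flag (by omega))
      ((g : ↥(Cfsg.isometryGroup F (Cfsg.quadFormPlus (k + 1) F))) : GL (Fin (k + 1) ⊕ Fin (k + 1)) F) (g : ↥(Cfsg.isometryGroup F (Cfsg.quadFormPlus (k + 1) F))).2 (fun _ _ => trivial) r (hr.odd_of_ne_two hr2) hgr g.2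
    have : g = 1 := Subtype.ext (Subtype.ext (gl_ext fun v => by
      rw [hfix v trivial]; simp))
    rw [this, orderOf_one] at hg
    exact hr.ne_one hg.symm
  obtain ⟨P, hP⟩ := hS.exists_le_sylow
  set_option synthInstance.maxHeartbeats 400000 in
  obtain ⟨c, hc⟩ := MulAction.exists_smul_eq ↥(Cfsg.isometryGroup F (Cfsg.quadFormPlus (k + 1) F)) P H
  obtain ⟨z, hz, hz2, hz1, hzV, hzW⟩ := exists_involution C h2 k ⊤ C.ndeg_top hfr _ _
    (flag_map (stdFlag_flag (by omega)) c.2) (flag_map (stdFlag_flag (by omega)) (x * c).2)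
  have key : ∀ a : ↥(Cfsg.isometryGroup F (Cfsg.quadFormPlus (k + 1) F)), (∀ i, i < k + 1 → ∀ v ∈ (stdFlag F (k + 1) i).map (Matrix.mulVecLin (a : GL (Fin (k + 1) ⊕ Fin (k + 1)) F).val),
      z.val *ᵥ v ∈ (stdFlag F (k + 1) i).map (Matrix.mulVecLin (a : GL (Fin (k + 1) ⊕ Fin (k + 1)) F).val)) →
      (⟨z, hz.1⟩ : ↥(Cfsg.isometryGroup F (Cfsg.quadFormPlus (k + 1) F))) ∈ MulAut.conj a • (P : Subgroup ↥(Cfsg.isometryGroup F (Cfsg.quadFormPlus (k + 1) F))) := by
    intro a ha
    rw [Subgroup.mem_pointwise_smul_iff_inv_smul_mem]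
    refine hP ?_
    intro i hi v hv
    obtain ⟨w, hw, hw'⟩ := ha i hi _ ⟨v, hv, rfl⟩
    show (((MulAut.conj a)⁻¹ • (⟨z, hz.1⟩ : ↥(Cfsg.isometryGroup F (Cfsg.quadFormPlus (k + 1) F))) : ↥(Cfsg.isometryGroup F (Cfsg.quadFormPlus (k + 1) F))) : GL (Fin (k + 1) ⊕ Fin (k + 1)) F).val *ᵥ v ∈ stdFlag F (k + 1) i
    simp only [MulAut.smul_def, MulAut.inv_apply, MulAut.conj_symm_apply, Subgroup.coe_mul,
      Subgroup.coe_inv, mul_act]
    rw [show z.val *ᵥ ((a : GL (Fin (k + 1) ⊕ Fin (k + 1)) F).val *ᵥ v) = (a : GL (Fin (k + 1) ⊕ Fin (k + 1)) F).val *ᵥ w from hw'.symm, inv_act]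
    exact hw
  have hHP : (H : Subgroup ↥(Cfsg.isometryGroup F (Cfsg.quadFormPlus (k + 1) F))) = MulAut.conj c • (P : Subgroup ↥(Cfsg.isometryGroup F (Cfsg.quadFormPlus (k + 1) F))) := by
    rw [← hc]; rfl
  refine Subgroup.ne_bot_iff_exists_ne_one.mpr ⟨⟨⟨z, hz.1⟩, ⟨?_, ?_⟩⟩, fun h => hz1 ?_⟩
  · rw [hHP]; exact key c hzV
  · show (⟨z, hz.1⟩ : ↥(Cfsg.isometryGroup F (Cfsg.quadFormPlus (k + 1) F))) ∈ MulAut.conj x • (H : Subgroup ↥(Cfsg.isometryGroup F (Cfsg.quadFormPlus (k + 1) F)))
    rw [hHP, smul_smul, ← map_mul]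
    exact key (x * c) hzW
  · exact congrArg (fun s => ((s : ↥(Cfsg.isometryGroup F (Cfsg.quadFormPlus (k + 1) F))) : GL (Fin (k + 1) ⊕ Fin (k + 1)) F)) (congrArg Subtype.val h)

end Cfsg.Agent.S2487
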