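import Cfsg.Statements.S2488
import Cfsg.Agent.Lib.PGroup.Basic

set_option linter.style.haveILetI false

set_option autoImplicit false
open scoped Pointwise
open Cfsg

namespace Cfsg.Agent.S2488

abbrev A6 := alternatingGroup (Fin 6)

/-- Which of the identities u³ = 1, u⁵ = 1 hold. -/
def kap (u : A6) : Bool × Bool := (decide (u * u * u = 1), decide (u * u * u * u * u = 1))

def z0 : A6 := ⟨Equiv.swap 0 1 * Equiv.swap 2 3, Equiv.Perm.mem_alternatingGroup.2 (by decide)⟩

theorem z0_sets : ∀ k : Bool × Bool,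
    (Finset.univ.filter fun w : A6 => w * w = 1 ∧ kap (z0 * w) = k).card < 32 := by decide +kernel

theorem z0_cent : (Finset.univ.filter fun w : A6 => w * z0 = z0 * w).card = 8 := by decide +kernel

theorem conj_z0 : ∀ a : A6, a * a = 1 → a ≠ 1 → ∃ g : A6, g * z0 * g⁻¹ = a := by decide +kernel

/-- Let G be a finite group with a normal subgroup N of index 4 isomorphic to the alternating group of degree 6 and with trivial centralizer in G (so G is the full automorphism group of A₆). Then any two Sylow 2-subgroups of G have a non-trivial intersection: for a Sylow 2-subgroup H and every x ∈ G, H ∩ H^x ≠ 1. -/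
theorem result {G : Type*} [Group G] [Finite G] (N : Subgroup G) [N.Normal]
    (e : N ≃* alternatingGroup (Fin 6)) (hidx : N.index = 4)
    (hC : Subgroup.centralizer (N : Set G) = ⊥)
    (H : Sylow 2 G) (x : G) :
    (H : Subgroup G) ⊓ MulAut.conj x • (H : Subgroup G) ≠ ⊥ := by
  classical
  haveI : Fact (Nat.Prime 2) := ⟨Nat.prime_two⟩
  have hNcard : Nat.card N = 360 := by
    rw [Nat.card_congr e.toEquiv, nat_card_alternatingGroup, Nat.card_eq_fintype_card, Fintype.card_fin]
    rfl
  have hG : Nat.card G = 1440 := by rw [← N.card_mul_index, hNcard, hidx]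
  have hH : Nat.card (H : Subgroup G) = 32 := by
    rw [Sylow.card_eq_multiplicity, hG, show (1440 : ℕ) = 2 ^ 5 * 45 from rfl,
      Nat.factorization_mul (by norm_num) (by norm_num), Finsupp.add_apply,
      Nat.Prime.factorization_pow Nat.prime_two, Finsupp.single_eq_same,
      Nat.factorization_eq_zero_of_not_dvd (by norm_num : ¬ (2 : ℕ) ∣ 45)]
    rfl
  have hH2 : IsPGroup 2 (H : Subgroup G) := H.isPGroup'
  -- a central involution of H in N
  haveI hNH : (N.subgroupOf (H : Subgroup G)).Normal := inferInstance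
  have hne : N.subgroupOf (H : Subgroup G) ≠ ⊥ := by
    intro h
    have h1 := Subgroup.index_bot (G := (H : Subgroup G))
    rw [← h, ← Subgroup.relIndex, hH] at h1
    have h2 : N.relIndex (H : Subgroup G) ∣ N.index := Subgroup.relIndex_dvd_index_of_normal N _
    rw [h1, hidx] at h2
    exact absurd (Nat.le_of_dvd (by norm_num) h2) (by norm_num)
  obtain ⟨y, ⟨hyN, hyc⟩, hy1⟩ : ∃ y, y ∈ N.subgroupOf (H : Subgroup G) ⊓ Subgroup.center _ ∧ y ≠ 1 := by
    have h := Cfsg.Lib.PGroup.inf_center_ne_bot hH2 hne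
    contrapose! h
    exact (Subgroup.eq_bot_iff_forall _).2 h
  obtain ⟨n, hn0, hn⟩ : ∃ n, 0 < n ∧ orderOf y = 2 * n := by
    obtain ⟨j, hj⟩ := (IsPGroup.iff_orderOf.1 hH2) y
    rcases j with _ | j
    · exact absurd (orderOf_eq_one_iff.1 (hj.trans (pow_zero _))) hy1
    · exact ⟨2 ^ j, by positivity, by rw [hj]; ring⟩
  set z : (H : Subgroup G) := y ^ n with hz
  have hz2 : orderOf z = 2 := by
    rw [hz, orderOf_pow_of_dvd (by omega) (Dvd.intro_left 2 hn.symm), hn, Nat.mul_div_cancel _ hn0]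
  have hzsq : z * z = 1 := by
    rw [← pow_two]
    exact orderOf_dvd_iff_pow_eq_one.1 hz2.dvd
  have hzN : (z : G) ∈ N := by
    have := (N.subgroupOf (H : Subgroup G)).pow_mem hyN n
    exact this
  have hzc : ∀ h ∈ (H : Subgroup G), h * (z : G) = (z : G) * h := fun h hh =>
    congrArg Subtype.val (Subgroup.mem_center_iff.1 ((Subgroup.center _).pow_mem hyc n) ⟨h, hh⟩)
  let a : A6 := e ⟨z, hzN⟩
  have ha : a * a = 1 := by
    rw [← map_mul, ← map_one e]
    congr 1
    exact Subtype.ext (congrArg (fun q : (H : Subgroup G) => (q : G)) hzsq)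
  have ha1 : a ≠ 1 := by
    intro h
    rw [← map_one e] at h
    have h' : z = 1 := Subtype.ext (congrArg Subtype.val (e.injective h) : (z : G) = 1)
    rw [h', orderOf_one] at hz2
    exact absurd hz2 (by norm_num)
  obtain ⟨g, hg⟩ := conj_z0 a ha ha1
  have hcent : (Finset.univ.filter fun w : A6 => w * a = a * w).card = 8 := by
    rw [← z0_cent]
    refine Finset.card_equiv (MulAut.conj g⁻¹).toEquiv fun w => ?_
    simp only [Finset.mem_filter, Finset.mem_univ, true_and, MulEquiv.toEquiv_eq_coe, MulEquiv.coe_toEquiv,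
      MulAut.conj_apply, inv_inv, ← hg]
    constructor <;> intro h
    · calc g⁻¹ * w * g * z0 = g⁻¹ * (w * (g * z0 * g⁻¹)) * g := by group
        _ = g⁻¹ * (g * z0 * g⁻¹ * w) * g := by rw [h]
        _ = z0 * (g⁻¹ * w * g) := by group
    · calc w * (g * z0 * g⁻¹) = g * (g⁻¹ * w * g * z0) * g⁻¹ := by group
        _ = g * (z0 * (g⁻¹ * w * g)) * g⁻¹ := by rw [h]
        _ = g * z0 * g⁻¹ * w := by group
  -- the centraliser of z is H
  set C := Subgroup.centralizer ({(z : G)} : Set G) with hCdef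
  have hHC : (H : Subgroup G) ≤ C := fun h hh => Subgroup.mem_centralizer_singleton_iff.2 (hzc h hh)
  have hCcard : Nat.card C ≤ 32 := by
    have h1 := (N.subgroupOf C).card_mul_index
    have h2 : Nat.card (N.subgroupOf C) ≤ 8 := by
      rw [← hcent, ← Fintype.card_subtype, ← Nat.card_eq_fintype_card]
      refine Nat.card_le_card_of_injective
        (fun w => ⟨e ⟨w.1.1, w.2⟩, by
          show e ⟨w.1.1, w.2⟩ * e ⟨z, hzN⟩ = e ⟨z, hzN⟩ * e ⟨w.1.1, w.2⟩
          rw [← map_mul, ← map_mul]
          exact congrArg e (Subtype.ext (Subgroup.mem_centralizer_singleton_iff.1 w.1.2))⟩)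
        (fun v w h => Subtype.ext (Subtype.ext (show v.1.1 = w.1.1 from congrArg (fun q : N => (q : G)) (e.injective (congrArg Subtype.val h)))))
    have h3 : (N.subgroupOf C).index ≤ 4 := by
      rw [← hidx]
      exact Nat.le_of_dvd (by rw [hidx]; norm_num) (Subgroup.relIndex_dvd_index_of_normal N C)
    calc Nat.card C = Nat.card (N.subgroupOf C) * (N.subgroupOf C).index := h1.symm
      _ ≤ 8 * 4 := Nat.mul_le_mul h2 h3
  have hHeq : (H : Subgroup G) = C := Subgroup.eq_of_le_of_card_ge hHC (by rw [hH]; exact hCcard)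
  -- the conjugate involution
  set z' : G := x * (z : G) * x⁻¹ with hz'
  have hz'N : z' ∈ N := Subgroup.Normal.conj_mem inferInstance _ hzN x
  let k := kap (a * e ⟨z', hz'N⟩)
  have hkap : ∀ (h : G) (u : N), kap (e ⟨h * u * h⁻¹, Subgroup.Normal.conj_mem inferInstance _ u.2 h⟩) = kap (e u) := by
    intro h u
    have hf : ∃ f : A6 ≃* A6, f (e u) = e ⟨h * u * h⁻¹, Subgroup.Normal.conj_mem inferInstance _ u.2 h⟩ :=
      ⟨(e.symm.trans (MulAut.conjNormal h)).trans e, by
        simp only [MulEquiv.trans_apply, MulEquiv.symm_apply_apply]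
        exact congrArg e (Subtype.ext (by rw [MulAut.conjNormal_apply]))⟩
    obtain ⟨f, hf⟩ := hf
    rw [← hf]
    simp only [kap, ← map_mul, EmbeddingLike.map_eq_one_iff]
  have hsmall : (Finset.univ.filter fun w : A6 => w * w = 1 ∧ kap (a * w) = k).card < 32 := by
    refine lt_of_eq_of_lt ?_ (z0_sets k)
    refine Finset.card_equiv (MulAut.conj g⁻¹).toEquiv fun w => ?_
    simp only [Finset.mem_filter, Finset.mem_univ, true_and, MulEquiv.toEquiv_eq_coe, MulEquiv.coe_toEquiv]
    have hzz : z0 = MulAut.conj g⁻¹ a := by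
      rw [MulAut.conj_apply, ← hg]; group
    rw [hzz, ← map_mul, ← map_mul]
    simp only [kap, ← map_mul, EmbeddingLike.map_eq_one_iff]
  have hcollide : ∃ h ∈ (H : Subgroup G), h ≠ 1 ∧ h * z' = z' * h := by
    by_contra hno
    push Not at hno
    have h32 : 32 ≤ (Finset.univ.filter fun w : A6 => w * w = 1 ∧ kap (a * w) = k).card := by
      rw [← hH, ← Fintype.card_subtype, ← Nat.card_eq_fintype_card]
      refine Nat.card_le_card_of_injective
        (fun h : (H : Subgroup G) =>
          ⟨e ⟨h * z' * (h : G)⁻¹, Subgroup.Normal.conj_mem inferInstance _ hz'N h⟩, ?_, ?_⟩) ?_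
      · rw [← map_mul, ← map_one e]
        congr 1
        apply Subtype.ext
        have hzz : (z : G) * z = 1 := congrArg Subtype.val
          (show z * z = 1 from hzsq)
        calc (h : G) * z' * (h : G)⁻¹ * ((h : G) * z' * (h : G)⁻¹) = h * x * ((z : G) * z) * x⁻¹ * (h : G)⁻¹ := by
              rw [hz']; group
          _ = 1 := by rw [hzz]; group
      · show kap (e ⟨z, hzN⟩ * e ⟨h * z' * (h : G)⁻¹, _⟩) = kap (e ⟨z, hzN⟩ * e ⟨z', hz'N⟩)
        rw [← map_mul, ← map_mul, ← hkap h (⟨z, hzN⟩ * ⟨z', hz'N⟩)]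
        congr 2
        apply Subtype.ext
        show (z : G) * ((h : G) * z' * (h : G)⁻¹) = (h : G) * ((z : G) * z') * (h : G)⁻¹
        calc (z : G) * ((h : G) * z' * (h : G)⁻¹) = (z : G) * (h : G) * z' * (h : G)⁻¹ := by group
          _ = (h : G) * z * z' * (h : G)⁻¹ := by rw [hzc h h.2]
          _ = _ := by group
      · intro h1 h2 h12
        have h3 : (h1 : G) * z' * (h1 : G)⁻¹ = h2 * z' * (h2 : G)⁻¹ :=
          congrArg Subtype.val (e.injective (congrArg Subtype.val h12))
        by_contra hne12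
        refine hno ((h2 : G)⁻¹ * h1) ((H : Subgroup G).mul_mem ((H : Subgroup G).inv_mem h2.2) h1.2) ?_ ?_
        · exact fun h => hne12 (Subtype.ext (inv_mul_eq_one.1 h).symm)
        · calc (h2 : G)⁻¹ * h1 * z' = (h2 : G)⁻¹ * ((h1 : G) * z' * (h1 : G)⁻¹) * h1 := by group
            _ = z' * ((h2 : G)⁻¹ * h1) := by rw [h3]; group
    omega
  obtain ⟨h, hh, hh1, hhz⟩ := hcollide
  intro hbot
  refine hh1 ((Subgroup.eq_bot_iff_forall _).1 hbot h ⟨hh, ?_⟩)
  show h ∈ MulAut.conj x • (H : Subgroup G)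
  rw [Subgroup.mem_pointwise_smul_iff_inv_smul_mem, hHeq, hCdef, Subgroup.mem_centralizer_singleton_iff]
  show (MulAut.conj x)⁻¹ h * (z : G) = (z : G) * (MulAut.conj x)⁻¹ h
  rw [MulAut.conj_inv_apply]
  calc x⁻¹ * h * x * (z : G) = x⁻¹ * (h * z') * x := by rw [hz']; group
    _ = x⁻¹ * (z' * h) * x := by rw [hhz]
    _ = (z : G) * (x⁻¹ * h * x) := by rw [hz']; group

end Cfsg.Agent.S2488
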