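import Mathlib
import Cfsg.Statements.S2490
import Cfsg.Agent.S0496
import Cfsg.Agent.Lib.Small.OrderFilter
import Cfsg.Agent.Lib.Core.PSolvable
import Cfsg.Agent.Lib.Recog.Icosahedral
import Cfsg.Agent.Lib.Fischer.Structure

set_option autoImplicit false
open Cfsg
open scoped Pointwise

namespace Cfsg.Agent.S2490

open Cfsg.Lib.Core (IsMinNormal exists_isMinNormal minimal_solvable_elementary)

variable {G : Type*} [Group G] [Finite G]

/-- An edge of the prime graph. -/
def Edge (G : Type*) [Monoid G] (a b : ℕ) : Prop := ∃ g : G, orderOf g = a * b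

theorem edge_symm {a b : ℕ} (h : Edge G a b) : Edge G b a := by rwa [Edge, mul_comm]

theorem edge_of_commute {a b : ℕ} (ha : a.Prime) (hb : b.Prime) (hab : a ≠ b) {x y : G}
    (hx : orderOf x = a) (hy : orderOf y = b) (h : Commute x y) : Edge G a b := by
  refine ⟨x * y, ?_⟩
  rw [h.orderOf_mul_eq_mul_orderOf_of_coprime (by rw [hx, hy]; exact (Nat.coprime_primes ha hb).2 hab), hx, hy]

/-- A `q`-group normalising an `r`-group, with non-semiregular action. -/
theorem edge_of_normalizes {r q : ℕ} [Fact r.Prime] [Fact q.Prime] (hrq : r ≠ q) {N Q : Subgroup G}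
    (hN : IsPGroup r N) (hQ : IsPGroup q Q) (hQN : Q ≤ Subgroup.normalizer (N : Set G))
    (hnd : ¬ Nat.card Q ∣ Nat.card N - 1) : Edge G r q := by
  classical
  let act : MulAction Q {x : N // x ≠ 1} :=
    { smul := fun g x => ⟨⟨(g : G) * x.1 * (g : G)⁻¹, (Subgroup.mem_normalizer_iff.1 (hQN g.2) _).1 x.1.2⟩,
        fun h => x.2 (Subtype.ext (conj_eq_one_iff.1 (congrArg Subtype.val h)))⟩
      one_smul := fun x => Subtype.ext (Subtype.ext (by
        change (1 : G) * (x.1 : G) * (1 : G)⁻¹ = x.1; group))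
      mul_smul := fun g g' x => Subtype.ext (Subtype.ext (by
        change ((g : G) * g') * (x.1 : G) * ((g : G) * g')⁻¹ = (g : G) * ((g' : G) * x.1 * (g' : G)⁻¹) * (g : G)⁻¹
        group)) }
  obtain ⟨x, hx⟩ : ∃ x : {x : N // x ≠ 1}, MulAction.stabilizer Q x ≠ ⊥ := by
    by_contra h
    push Not at h
    apply hnd
    have hc : Nat.card {x : N // x ≠ 1} = Nat.card N - 1 := by
      have := Fintype.ofFinite N
      rw [Nat.card_eq_fintype_card, Nat.card_eq_fintype_card, Fintype.card_subtype_compl,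
        Fintype.card_subtype_eq]
    have := Fintype.ofFinite (MulAction.orbitRel.Quotient Q {x : N // x ≠ 1})
    rw [← hc, Nat.card_congr (MulAction.selfEquivSigmaOrbits Q {x : N // x ≠ 1}), Nat.card_sigma]
    refine Finset.dvd_sum fun o _ => dvd_of_eq ?_
    rw [Nat.card_congr (MulAction.orbitEquivQuotientStabilizer Q _), ← Subgroup.index_eq_card, h,
      Subgroup.index_bot]
  obtain ⟨g, hg, hg1⟩ : ∃ g ∈ MulAction.stabilizer Q x, g ≠ 1 := by
    by_contra h
    push Not at h
    exact hx ((Subgroup.eq_bot_iff_forall _).2 h)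
  obtain ⟨i, hi⟩ : ∃ i, orderOf (g : G) = q ^ (i + 1) := by
    obtain ⟨i, hi⟩ := IsPGroup.iff_orderOf.1 hQ g
    rw [← Subgroup.orderOf_coe] at hi
    rcases i with _ | i
    · rw [pow_zero, orderOf_eq_one_iff, OneMemClass.coe_eq_one] at hi; exact absurd hi hg1
    · exact ⟨i, hi⟩
  obtain ⟨j, hj⟩ : ∃ j, orderOf (x.1 : G) = r ^ (j + 1) := by
    obtain ⟨i, hi⟩ := IsPGroup.iff_orderOf.1 hN x.1
    rw [← Subgroup.orderOf_coe] at hi
    rcases i with _ | i
    · rw [pow_zero, orderOf_eq_one_iff, OneMemClass.coe_eq_one] at hi; exact absurd hi x.2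
    · exact ⟨i, hi⟩
  have hcomm : Commute (x.1 : G) (g : G) := by
    have h := congrArg (fun y : {x : N // x ≠ 1} => (y.1 : G)) (MulAction.mem_stabilizer_iff.1 hg)
    exact (mul_inv_eq_iff_eq_mul.1 h).symm
  refine edge_of_commute Fact.out Fact.out hrq (x := (x.1 : G) ^ r ^ j) (y := (g : G) ^ q ^ i) ?_ ?_ (hcomm.pow_pow _ _)
  · rw [orderOf_pow' _ (pow_ne_zero _ (Fact.out : r.Prime).ne_zero), hj,
      Nat.gcd_eq_right (pow_dvd_pow r (Nat.le_succ j)), pow_succ, Nat.mul_div_cancel_left _ (pow_pos (Fact.out : r.Prime).pos j)]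
  · rw [orderOf_pow' _ (pow_ne_zero _ (Fact.out : q.Prime).ne_zero), hi,
      Nat.gcd_eq_right (pow_dvd_pow q (Nat.le_succ i)), pow_succ, Nat.mul_div_cancel_left _ (pow_pos (Fact.out : q.Prime).pos i)]

theorem card_sylow_of_eq {p a m : ℕ} [Fact p.Prime] (h : Nat.card G = p ^ a * m) (hm : ¬ p ∣ m) (P : Sylow p G) :
    Nat.card (P : Subgroup G) = p ^ a := by
  have hm0 : m ≠ 0 := fun h0 => hm (h0 ▸ dvd_zero p)
  rw [P.card_eq_multiplicity, h, Nat.factorization_mul (pow_ne_zero _ (Fact.out : p.Prime).ne_zero) hm0,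
    Finsupp.add_apply, (Fact.out : p.Prime).factorization_pow, Finsupp.single_eq_same,
    Nat.factorization_eq_zero_of_not_dvd hm, add_zero]

theorem edge_sylow {r q : ℕ} [Fact r.Prime] [Fact q.Prime] (hrq : r ≠ q) {N : Subgroup G} [N.Normal]
    (hN : IsPGroup r N) {a m : ℕ} (h : Nat.card G = q ^ a * m) (hm : ¬ q ∣ m)
    (hnd : ¬ q ^ a ∣ Nat.card N - 1) : Edge G r q := by
  obtain ⟨Q⟩ : Nonempty (Sylow q G) := inferInstance
  refine edge_of_normalizes hrq hN Q.isPGroup' ?_ (by rwa [card_sylow_of_eq h hm Q])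
  rw [Subgroup.normalizer_eq_top (H := N)]; exact le_top

/-- Frattini. -/
theorem frattini_dvd {p q : ℕ} [Fact p.Prime] (hq : q.Prime) (K : Subgroup G) [K.Normal] (P : Sylow p K)
    (hqG : q ∣ Nat.card G) (hqK : ¬ q ∣ Nat.card K) :
    q ∣ Nat.card ↥(Subgroup.normalizer (((P : Subgroup K).map K.subtype : Subgroup G) : Set G)) := by
  set H := Subgroup.normalizer (((P : Subgroup K).map K.subtype : Subgroup G) : Set G)
  have h1 : K.relIndex H = K.index := by
    rw [← Subgroup.relIndex_sup_right H K, Sylow.normalizer_sup_eq_top P, Subgroup.relIndex_top_right]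
  have h2 : K.relIndex H ∣ Nat.card H := Subgroup.index_dvd_card _
  have h3 := K.card_mul_index
  have : q ∣ K.index := by
    rcases hq.dvd_mul.1 (h3 ▸ hqG) with h | h
    · exact absurd h hqK
    · exact h
  exact (h1 ▸ this).trans h2

/-- A normal subgroup of order eleven links five to three or eleven. -/
theorem eleven_lemma {R H : Subgroup G} (hR : Nat.card R = 11) (hH : H ≤ Subgroup.normalizer (R : Set G))
    (h9 : 9 ∣ Nat.card H) (h5 : 5 ∣ Nat.card H) (h27 : ¬ 27 ∣ Nat.card G) : Edge G 3 5 ∨ Edge G 11 5 := by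
  have : Fact (Nat.Prime 3) := ⟨by norm_num⟩
  have : Fact (Nat.Prime 5) := ⟨by norm_num⟩
  have : Fact (Nat.Prime 11) := ⟨by norm_num⟩
  let C : Subgroup H := (Subgroup.centralizer (R : Set G)).subgroupOf H
  let f : H →* MulAut R :=
    (MulAut.conjNormal (H := R.subgroupOf (Subgroup.normalizer (R : Set G)))).comp (Subgroup.inclusion hH) |> fun g =>
      ((MulAut.congr (Subgroup.subgroupOfEquivOfLe Subgroup.le_normalizer)).toMonoidHom.comp g)
  have hker : f.ker ≤ C := by
    intro x hx
    rw [Subgroup.mem_subgroupOf, Subgroup.mem_centralizer_iff]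
    intro r hr
    have h := congrArg (fun φ : MulAut R => ((φ ⟨r, hr⟩ : R) : G)) hx
    simp only [MulAut.one_apply] at h
    have h' : (x : G) * r * (x : G)⁻¹ = r := h
    exact (mul_inv_eq_iff_eq_mul.1 h').symm
  have : IsCyclic R := isCyclic_of_prime_card hR
  have hidx : C.index ∣ 10 := by
    refine (Subgroup.index_dvd_of_le hker).trans ?_
    rw [Subgroup.index_ker]
    refine (Subgroup.card_subgroup_dvd_card _).trans ?_
    rw [IsCyclic.card_mulAut, hR, Nat.totient_prime (by norm_num : Nat.Prime 11)]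
  have hC9 : 9 ∣ Nat.card C := by
    have hcop : Nat.Coprime 9 C.index := Nat.Coprime.coprime_dvd_right hidx (by norm_num)
    exact hcop.dvd_of_dvd_mul_right (by rw [C.card_mul_index]; exact h9)
  by_cases hC5 : 5 ∣ Nat.card C
  · right
    obtain ⟨u, hu⟩ := exists_prime_orderOf_dvd_card' 5 hC5
    obtain ⟨v, hv⟩ := exists_prime_orderOf_dvd_card' (G := R) 11 (dvd_of_eq hR.symm)
    rw [← Subgroup.orderOf_coe] at hu hv
    rw [← Subgroup.orderOf_coe] at hu
    exact edge_of_commute (by norm_num) (by norm_num) (by norm_num) hv hu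
      (Subgroup.mem_centralizer_iff.1 (Subgroup.mem_subgroupOf.1 u.2) _ v.2)
  · left
    have hCn : C.Normal := by
      constructor
      intro c hc g
      rw [Subgroup.mem_subgroupOf, Subgroup.mem_centralizer_iff] at hc ⊢
      intro r hr
      have hr' : (g : G)⁻¹ * r * g ∈ R := by
        have := (Subgroup.mem_normalizer_iff.1 (inv_mem (hH g.2)) r).1 hr
        rwa [inv_inv] at this
      have := hc _ hr'
      simp only [Subgroup.coe_mul, Subgroup.coe_inv]
      calc r * ((g : G) * c * (g : G)⁻¹) = g * (((g : G)⁻¹ * r * g) * c) * (g : G)⁻¹ := by group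
        _ = g * (c * ((g : G)⁻¹ * r * g)) * (g : G)⁻¹ := by rw [this]
        _ = _ := by group
    obtain ⟨P⟩ : Nonempty (Sylow 3 C) := inferInstance
    have h5' := frattini_dvd (by norm_num : Nat.Prime 5) C P h5 hC5
    obtain ⟨u, hu⟩ := exists_prime_orderOf_dvd_card' 5 h5'
    have hQ : IsPGroup 5 ↥(Subgroup.zpowers (u : H)) := IsPGroup.of_card (n := 1) (by
      rw [Nat.card_zpowers, Subgroup.orderOf_coe, hu, pow_one])
    obtain ⟨g, hg⟩ := edge_of_normalizes (r := 3) (q := 5) (by norm_num) (P.isPGroup'.map C.subtype) hQ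
      (Subgroup.zpowers_le.2 u.2) (by
        rw [Nat.card_zpowers, Subgroup.orderOf_coe, hu,
          Nat.card_congr ((P : Subgroup C).equivMapOfInjective _ C.subtype_injective).symm.toEquiv]
        obtain ⟨k, hk⟩ := IsPGroup.iff_card.1 P.isPGroup'
        have hle : Nat.card (P : Subgroup C) ∣ Nat.card G :=
          ((Subgroup.card_subgroup_dvd_card _).trans (Subgroup.card_subgroup_dvd_card C)).trans
            (Subgroup.card_subgroup_dvd_card H)
        have h9' : 9 ∣ Nat.card (P : Subgroup C) := by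
          simpa using P.pow_dvd_card_of_pow_dvd_card (n := 2) hC9
        rw [hk] at hle h9' ⊢
        have hk2 : k ≤ 2 := by
          by_contra hk3
          exact h27 ((pow_dvd_pow 3 (show 3 ≤ k by omega)).trans hle)
        interval_cases k <;> omega)
    exact ⟨g, by rw [Subgroup.orderOf_coe]; exact hg⟩

theorem card_pow {r : ℕ} [Fact r.Prime] {N : Subgroup G} (hN : IsPGroup r N) {a m : ℕ}
    (h : Nat.card G = r ^ a * m) (hm : ¬ r ∣ m) : ∃ k, k ≤ a ∧ Nat.card N = r ^ k := by
  obtain ⟨k, hk⟩ := IsPGroup.iff_card.1 hN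
  refine ⟨k, ?_, hk⟩
  by_contra hka
  apply hm
  have hd : r ^ (a + 1) ∣ r ^ a * m := by
    rw [← h]
    exact ((pow_dvd_pow r (Nat.lt_of_not_le hka)).trans (dvd_of_eq hk.symm)).trans (Subgroup.card_subgroup_dvd_card N)
  rw [pow_succ] at hd
  exact (Nat.mul_dvd_mul_iff_left (pow_pos (Fact.out : r.Prime).pos a)).1 hd

/-- An element of order fifteen modulo a normal subgroup. -/
theorem edge_of_quotient (N : Subgroup G) [N.Normal] {g : G ⧸ N} (hg : orderOf g = 15) : Edge G 3 5 := by
  obtain ⟨x, rfl⟩ := QuotientGroup.mk'_surjective N g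
  have hd : 15 ∣ orderOf x := hg ▸ orderOf_map_dvd (QuotientGroup.mk' N) x
  have hx : 0 < orderOf x := orderOf_pos x
  refine ⟨x ^ (orderOf x / 15), ?_⟩
  rw [orderOf_pow' _ (by
    have := Nat.le_of_dvd hx hd
    exact (Nat.div_pos this (by norm_num)).ne'), Nat.gcd_eq_right (Nat.div_dvd_of_dvd hd),
    Nat.div_div_self hd hx.ne']

set_option maxHeartbeats 1000000 in
/-- Everything is joined when there is an abelian normal subgroup. -/
theorem abelian_case (hord : Nat.card G = 7920) {p : ℕ} [hp : Fact p.Prime] {N : Subgroup G} [N.Normal]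
    (hN : IsPGroup p N) (hne : N ≠ ⊥) :
    (Edge G 2 3 ∧ Edge G 2 11 ∧ (Edge G 2 5 ∨ Edge G 3 5 ∨ Edge G 11 5)) ∨
    (Edge G 3 2 ∧ Edge G 3 11 ∧ Edge G 3 5) ∨ (Edge G 5 2 ∧ Edge G 5 11 ∧ Edge G 5 3) ∨
    (Edge G 11 2 ∧ Edge G 11 3 ∧ (Edge G 3 5 ∨ Edge G 11 5)) := by
  have f2 : Fact (Nat.Prime 2) := ⟨Nat.prime_two⟩
  have f3 : Fact (Nat.Prime 3) := ⟨Nat.prime_three⟩
  have f5 : Fact (Nat.Prime 5) := ⟨by norm_num⟩
  have f11 : Fact (Nat.Prime 11) := ⟨by norm_num⟩
  have h2 : Nat.card G = 2 ^ 4 * 495 := by rw [hord]; norm_num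
  have h3 : Nat.card G = 3 ^ 2 * 880 := by rw [hord]; norm_num
  have h5 : Nat.card G = 5 ^ 1 * 1584 := by rw [hord]; norm_num
  have h11 : Nat.card G = 11 ^ 1 * 720 := by rw [hord]; norm_num
  have h27 : ¬ 27 ∣ Nat.card G := by rw [hord]; norm_num
  have hdiv : p ∣ Nat.card G := by
    obtain ⟨k, hk⟩ := IsPGroup.iff_card.1 hN
    rcases k with _ | k
    · exact absurd (Subgroup.eq_bot_of_card_eq N (by simpa using hk)) hne
    · exact ((dvd_pow_self p (Nat.succ_ne_zero k)).trans (dvd_of_eq hk.symm)).trans (Subgroup.card_subgroup_dvd_card N)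
  have h1N : 1 < Nat.card N := (Subgroup.one_lt_card_iff_ne_bot N).2 hne
  have hcases : p = 2 ∨ p = 3 ∨ p = 5 ∨ p = 11 := by
    rw [hord, show (7920 : ℕ) = 2 ^ 4 * 3 ^ 2 * 5 * 11 by norm_num] at hdiv
    rcases hp.out.dvd_mul.1 hdiv with h | h
    · rcases hp.out.dvd_mul.1 h with h | h
      · rcases hp.out.dvd_mul.1 h with h | h
        · exact Or.inl ((Nat.prime_dvd_prime_iff_eq hp.out Nat.prime_two).1 (hp.out.dvd_of_dvd_pow h))
        · exact Or.inr (Or.inl ((Nat.prime_dvd_prime_iff_eq hp.out Nat.prime_three).1 (hp.out.dvd_of_dvd_pow h)))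
      · exact Or.inr (Or.inr (Or.inl ((Nat.prime_dvd_prime_iff_eq hp.out f5.out).1 h)))
    · exact Or.inr (Or.inr (Or.inr ((Nat.prime_dvd_prime_iff_eq hp.out f11.out).1 h)))
  rcases hcases with rfl | rfl | rfl | rfl
  · obtain ⟨k, hk4, hk⟩ := card_pow hN h2 (by norm_num)
    refine Or.inl ⟨edge_sylow (by norm_num) hN h3 (by norm_num) ?_, edge_sylow (by norm_num) hN h11 (by norm_num) ?_, ?_⟩
    · rw [hk]; rw [hk] at h1N; interval_cases k <;> omega
    · rw [hk]; rw [hk] at h1N; interval_cases k <;> omega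
    by_cases h54 : 5 ∣ Nat.card N - 1
    swap
    · exact Or.inl (edge_sylow (by norm_num) hN h5 (by norm_num) (by simpa using h54))
    have hk' : Nat.card N = 16 := by
      rw [hk] at h54 h1N ⊢; interval_cases k <;> omega
    right
    -- the quotient of order 495
    have hQ : Nat.card (G ⧸ N) = 495 := by
      have := Subgroup.card_eq_card_quotient_mul_card_subgroup N
      rw [hord, hk'] at this; omega
    have q5 : Nat.card (G ⧸ N) = 5 ^ 1 * 99 := by rw [hQ]; norm_num
    have q11 : Nat.card (G ⧸ N) = 11 ^ 1 * 45 := by rw [hQ]; norm_num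
    have q3 : Nat.card (G ⧸ N) = 3 ^ 2 * 55 := by rw [hQ]; norm_num
    by_cases h5n : ∃ Q : Subgroup (G ⧸ N), Q.Normal ∧ Nat.card Q = 5
    · obtain ⟨Q, hQn, hQ5⟩ := h5n
      obtain ⟨g, hg⟩ := edge_sylow (r := 5) (q := 3) (by norm_num) (IsPGroup.of_card (n := 1) (by simpa using hQ5))
        q3 (by norm_num) (by rw [hQ5]; norm_num)
      exact Or.inl (edge_of_quotient N (g := g) (by rw [hg]))
    · obtain ⟨R⟩ : Nonempty (Sylow 11 (G ⧸ N)) := inferInstance
      have hRc : Nat.card (R : Subgroup (G ⧸ N)) = 11 := by simpa using card_sylow_of_eq q11 (by norm_num) R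
      have hn : Nat.card (Sylow 11 (G ⧸ N)) ∣ 45 := by
        have h := R.card_dvd_index
        have h2 := (R : Subgroup (G ⧸ N)).card_mul_index
        rw [hRc, hQ] at h2
        rwa [show (R : Subgroup (G ⧸ N)).index = 45 by omega] at h
      have hmod := card_sylow_modEq_one 11 (G ⧸ N)
      have hn' : Nat.card (Sylow 11 (G ⧸ N)) = 1 ∨ Nat.card (Sylow 11 (G ⧸ N)) = 45 := by
        have := Nat.le_of_dvd (by norm_num) hn
        unfold Nat.ModEq at hmod
        interval_cases hh : Nat.card (Sylow 11 (G ⧸ N)) <;> omega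
      have hRn : (R : Subgroup (G ⧸ N)).Normal := by
        rcases hn' with h | h
        · rw [← Subgroup.normalizer_eq_top_iff, ← Subgroup.index_eq_one, Sylow.coe_coe, ← R.card_eq_index_normalizer, h]
        · exfalso
          apply h5n
          have hidx := R.card_eq_index_normalizer
          rw [← Sylow.coe_coe] at hidx
          rw [h] at hidx
          have hc := (Subgroup.normalizer ((R : Subgroup (G ⧸ N)) : Set (G ⧸ N))).card_mul_index
          rw [← hidx, hQ] at hc
          have heq : Subgroup.normalizer ((R : Subgroup (G ⧸ N)) : Set (G ⧸ N)) = R :=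
            (Subgroup.eq_of_le_of_card_ge Subgroup.le_normalizer (by rw [hRc]; omega)).symm
          have : IsCyclic (R : Subgroup (G ⧸ N)) := isCyclic_of_prime_card hRc
          have hP : Subgroup.normalizer ((R : Subgroup (G ⧸ N)) : Set (G ⧸ N)) ≤
              Subgroup.centralizer ((R : Subgroup (G ⧸ N)) : Set (G ⧸ N)) := by
            rw [heq]; exact Subgroup.le_centralizer _
          have hK := MonoidHom.ker_transferSylow_isComplement' R hP
          set K := (MonoidHom.transferSylow R hP).ker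
          have hKn : K.Normal := inferInstance
          have hK45 : Nat.card K = 45 := by
            have := hK.card_mul_card
            rw [hRc, hQ] at this; omega
          obtain ⟨Q⟩ : Nonempty (Sylow 5 K) := inferInstance
          have hQ5 : Nat.card (Q : Subgroup K) = 5 := by
            simpa using card_sylow_of_eq (a := 1) (m := 9) (by rw [hK45]; norm_num) (by norm_num) Q
          have hm := card_sylow_modEq_one 5 K
          have hd : Nat.card (Sylow 5 K) ∣ 9 := by
            have h := Q.card_dvd_index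
            have h2 := (Q : Subgroup K).card_mul_index
            rw [hQ5, hK45] at h2
            rwa [show (Q : Subgroup K).index = 9 by omega] at h
          have h1 : Nat.card (Sylow 5 K) = 1 := by
            have := Nat.le_of_dvd (by norm_num) hd
            unfold Nat.ModEq at hm
            interval_cases hh : Nat.card (Sylow 5 K) <;> omega
          have hQn : (Q : Subgroup K).Normal := by
            rw [← Subgroup.normalizer_eq_top_iff, ← Subgroup.index_eq_one, Sylow.coe_coe, ← Q.card_eq_index_normalizer, h1]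
          have hQc : (Q : Subgroup K).Characteristic := Q.characteristic_of_normal hQn
          exact ⟨(Q : Subgroup K).map K.subtype, inferInstance, by
            rw [Nat.card_congr ((Q : Subgroup K).equivMapOfInjective _ K.subtype_injective).symm.toEquiv, hQ5]⟩
      let M := (R : Subgroup (G ⧸ N)).comap (QuotientGroup.mk' N)
      have hMn : M.Normal := hRn.comap _
      have hMc : Nat.card M = 176 := by
        have h1 := M.card_mul_index
        rw [Subgroup.index_comap_of_surjective _ (QuotientGroup.mk'_surjective N)] at h1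
        have h2 := (R : Subgroup (G ⧸ N)).card_mul_index
        rw [hRc, hQ] at h2
        rw [show (R : Subgroup (G ⧸ N)).index = 45 by omega, hord] at h1
        omega
      obtain ⟨R'⟩ : Nonempty (Sylow 11 M) := inferInstance
      set H := Subgroup.normalizer (((R' : Subgroup M).map M.subtype : Subgroup G) : Set G)
      have hH5 : 5 ∣ Nat.card H := frattini_dvd f5.out M R' (by rw [hord]; norm_num) (by rw [hMc]; norm_num)
      have hH9 : 9 ∣ Nat.card H := by
        have h1 : M.relIndex H = M.index := by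
          rw [← Subgroup.relIndex_sup_right H M, Sylow.normalizer_sup_eq_top R', Subgroup.relIndex_top_right]
        have h2 : M.index ∣ Nat.card H := h1 ▸ Subgroup.index_dvd_card _
        refine dvd_trans ?_ h2
        have := M.card_mul_index
        rw [hMc, hord] at this
        omega
      have hR' : Nat.card ((R' : Subgroup M).map M.subtype) = 11 := by
        rw [Nat.card_congr ((R' : Subgroup M).equivMapOfInjective _ M.subtype_injective).symm.toEquiv]
        simpa using card_sylow_of_eq (a := 1) (m := 16) (by rw [hMc]; norm_num) (by norm_num) R'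
      exact eleven_lemma hR' le_rfl hH9 hH5 h27
  · obtain ⟨k, hk2, hk⟩ := card_pow hN h3 (by norm_num)
    refine Or.inr (Or.inl ⟨edge_sylow (by norm_num) hN h2 (by norm_num) ?_, edge_sylow (by norm_num) hN h11 (by norm_num) ?_,
      edge_sylow (by norm_num) hN h5 (by norm_num) ?_⟩) <;>
      (rw [hk]; rw [hk] at h1N; interval_cases k <;> omega)
  · obtain ⟨k, hk2, hk⟩ := card_pow hN h5 (by norm_num)
    refine Or.inr (Or.inr (Or.inl ⟨edge_sylow (by norm_num) hN h2 (by norm_num) ?_, edge_sylow (by norm_num) hN h11 (by norm_num) ?_,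
      edge_sylow (by norm_num) hN h3 (by norm_num) ?_⟩)) <;>
      (rw [hk]; rw [hk] at h1N; interval_cases k <;> omega)
  · obtain ⟨k, hk2, hk⟩ := card_pow hN h11 (by norm_num)
    have hk1 : Nat.card N = 11 := by rw [hk] at h1N ⊢; interval_cases k <;> omega
    refine Or.inr (Or.inr (Or.inr ⟨edge_sylow (by norm_num) hN h2 (by norm_num) (by rw [hk1]; norm_num),
      edge_sylow (by norm_num) hN h3 (by norm_num) (by rw [hk1]; norm_num), ?_⟩))
    exact eleven_lemma (H := ⊤) hk1 (by rw [Subgroup.normalizer_eq_top (H := N)])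
      (by rw [Subgroup.card_top, hord]; norm_num) (by rw [Subgroup.card_top, hord]; norm_num) h27

/-- The possible orders of a non-abelian simple normal subgroup. -/
theorem simple_orders {S : Type*} [Group S] [Finite S] [IsSimpleGroup S] (hS : ¬ IsMulCommutative S)
    (hd : Nat.card S ∣ 7920) (hne : Nat.card S ≠ 7920) :
    Nat.card S = 60 ∨ Nat.card S = 360 ∨ Nat.card S = 660 := by
  obtain ⟨q, hq⟩ := hd
  have hq2 : 2 ≤ q := by
    rcases q with _ | _ | q
    · simp at hq
    · exact absurd (by simpa using hq.symm) hne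
    · omega
  by_cases hle : Nat.card S ≤ 1092
  · rcases Cfsg.Agent.S0496.result hS hle with h | h | h | h | h | h <;> rw [h] at hq <;> omega
  · exfalso
    have hq7 : q ≤ 7 := by nlinarith
    have hn : Nat.card S = 1320 ∨ Nat.card S = 1584 ∨ Nat.card S = 1980 ∨ Nat.card S = 2640 ∨ Nat.card S = 3960 := by
      interval_cases q <;> omega
    rcases hn with h | h | h | h | h <;>
      exact absurd (Cfsg.Lib.Small.OrderFilter.check_sound hS h (w := 300110001) (by norm_num) (by decide +kernel))
        (by decide)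

/-- A minimal normal subgroup which is not simple is abelian. -/
theorem simple_or_pgroup (hord : Nat.card G = 7920) {M : Subgroup G} (hM : IsMinNormal M) :
    (IsSimpleGroup M ∧ ¬ IsMulCommutative M) ∨ ∃ p, p.Prime ∧ IsPGroup p M := by
  have := hM.1
  by_cases hs : Group.IsSolvable M
  · obtain ⟨-, p, hp, -, hpM⟩ := minimal_solvable_elementary hM hs
    exact Or.inr ⟨p, hp, hpM⟩
  left
  have hnc : ¬ IsMulCommutative M := fun h => hs (haveI := h; Cfsg.Lib.Core.isSolvable_of_isMulCommutative M)
  refine ⟨?_, hnc⟩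
  have : Nontrivial M := (Subgroup.nontrivial_iff_ne_bot M).2 hM.2.1
  obtain ⟨T, hT, -⟩ := exists_isMinNormal (N := (⊤ : Subgroup M)) inferInstance top_ne_bot
  by_cases hTtop : T = ⊤
  · subst hTtop
    exact { eq_bot_or_eq_top_of_normal := fun K hK => hT.2.2 K hK le_top }
  exfalso
  apply hs
  by_contra hs'
  -- T is not normal in G
  obtain ⟨g, hg⟩ : ∃ g : G, (T.map M.subtype).map (MulAut.conj g).toMonoidHom ≠ T.map M.subtype := by
    by_contra h
    push Not at h
    have hn : (T.map M.subtype).Normal := ⟨fun x hx g => by rw [← h g]; exact ⟨x, hx, rfl⟩⟩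
    rcases hM.2.2 _ hn (Subgroup.map_subtype_le T) with h1 | h1
    · exact hT.2.1 ((Subgroup.map_eq_bot_iff_of_injective _ M.subtype_injective).1 h1)
    · refine hTtop (Subgroup.map_injective M.subtype_injective ?_)
      rw [h1, ← MonoidHom.range_eq_map, Subgroup.range_subtype]
  let φ : M →* M := (MulAut.conjNormal g : MulAut M).toMonoidHom
  have hφ : Function.Bijective φ := (MulAut.conjNormal g : MulAut M).bijective
  set T' := T.map φ
  have hT' : T'.Normal := hT.1.map φ hφ.2
  have hne : T' ≠ T := by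
    intro h
    apply hg
    conv_rhs => rw [← h]
    rw [Subgroup.map_map, Subgroup.map_map]
    rfl
  have hcard : Nat.card T' = Nat.card T := (Nat.card_congr (T.equivMapOfInjective φ hφ.1).toEquiv).symm
  have := hT.1
  have hinf : T ⊓ T' = ⊥ := by
    rcases hT.2.2 (T ⊓ T') inferInstance inf_le_left with h | h
    · exact h
    · exact absurd (Subgroup.eq_of_le_of_card_ge (inf_eq_left.1 h) hcard.le).symm hne
  have hsq : Nat.card T * Nat.card T ∣ 7920 := by
    let ψ : T × T' →* M := MonoidHom.noncommCoprod T.subtype T'.subtype (fun a b => by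
      exact Subgroup.commute_of_normal_of_disjoint T T' hT.1 hT' (disjoint_iff.2 hinf) a b a.2 b.2)
    have hinj : Function.Injective ψ := by
      rw [injective_iff_map_eq_one]
      rintro ⟨a, b⟩ hab
      have h : (a : M) * b = 1 := hab
      have ha : (a : M) ∈ T ⊓ T' := ⟨a.2, by rw [eq_inv_of_mul_eq_one_left h]; exact T'.inv_mem b.2⟩
      rw [hinf, Subgroup.mem_bot] at ha
      rw [ha, one_mul] at h
      exact Prod.ext (Subtype.ext ha) (Subtype.ext h)
    have h1 := Subgroup.card_dvd_of_injective ψ hinj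
    rw [Nat.card_prod, hcard] at h1
    exact h1.trans ((Subgroup.card_subgroup_dvd_card M).trans (dvd_of_eq hord))
  have hT60 : Nat.card T < 60 := by
    by_contra h
    have h2 : Nat.card T * Nat.card T ≤ 7920 := Nat.le_of_dvd (by norm_num) hsq
    have h3 : Nat.card T ≤ 88 := by nlinarith
    interval_cases hh : Nat.card T <;> omega
  have hTs : Group.IsSolvable T := Cfsg.Lib.Recog.Icosa.solvable_of_lt_sixty _ T rfl hT60
  obtain ⟨-, p, hp, -, hpT⟩ := minimal_solvable_elementary hT hTs
  have := Fact.mk hp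
  have hcore : T ≤ Cfsg.pCore p M := le_sSup ⟨hT.1, hpT⟩
  have hch : (Cfsg.pCore p M).Characteristic := inferInstance
  rcases hM.2.2 ((Cfsg.pCore p M).map M.subtype) inferInstance (Subgroup.map_subtype_le _) with h | h
  · exact hT.2.1 (eq_bot_iff.2 (hcore.trans ((Subgroup.map_eq_bot_iff_of_injective _ M.subtype_injective).1 h).le))
  · have htop : Cfsg.pCore p M = ⊤ := Subgroup.map_injective M.subtype_injective (by
      rw [h, ← MonoidHom.range_eq_map, Subgroup.range_subtype])
    have hp' : IsPGroup p M := (htop ▸ Cfsg.Lib.Core.pCore_isPGroup p M : IsPGroup p (⊤ : Subgroup M)).of_equiv Subgroup.topEquiv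
    exact hs' (have := hp'.isNilpotent; inferInstance)

/-- An element of order eleven centralises small simple groups. -/
theorem eleven_centralizes (hord : Nat.card G = 7920) (M : Subgroup G) [M.Normal] (h11 : ¬ 11 ∣ Nat.card M)
    (h16 : ¬ 16 ∣ Nat.card M) :
    Subgroup.centralizer (M : Set G) ≠ ⊥ := by
  have f11 : Fact (Nat.Prime 11) := ⟨by norm_num⟩
  obtain ⟨u, hu⟩ := exists_prime_orderOf_dvd_card' (G := G) 11 (by rw [hord]; norm_num)
  intro hbot
  have hfix : ∀ (q : ℕ) [Fact q.Prime], ∃ P : Sylow q M, ∀ x ∈ (P : Subgroup M), u * (x : G) * u⁻¹ = x := by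
    intro q _
    have hQ : IsPGroup 11 (Subgroup.zpowers u) := IsPGroup.of_card (n := 1) (by rw [Nat.card_zpowers, hu, pow_one])
    let α : Subgroup.zpowers u →* MulAut M := MulAut.conjNormal.comp (Subgroup.zpowers u).subtype
    let act : MulAction (Subgroup.zpowers u) (Sylow q M) := MulAction.compHom (Sylow q M) α
    obtain ⟨P0⟩ : Nonempty (Sylow q M) := inferInstance
    have hnd : ¬ 11 ∣ Nat.card (Sylow q M) := fun h => h11 (h.trans (P0.card_dvd_index.trans (P0 : Subgroup M).index_dvd_card))
    obtain ⟨P, hP⟩ := hQ.nonempty_fixed_point_of_prime_not_dvd_card (Sylow q M) hnd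
    refine ⟨P, fun x hx => ?_⟩
    -- the element permutes a set with fewer than eleven points
    have hstab : ∀ y ∈ (P : Subgroup M), (MulAut.conjNormal u : MulAut M) y ∈ (P : Subgroup M) := by
      intro y hy
      have h := hP ⟨u, Subgroup.mem_zpowers u⟩
      have h2 : (MulAut.conjNormal u : MulAut M) • P = P := h
      have h3 : (MulAut.conjNormal u : MulAut M) • (P : Subgroup M) = P := by
        rw [← Sylow.pointwise_smul_def, h2]
      have h4 := Subgroup.smul_mem_pointwise_smul y (MulAut.conjNormal u : MulAut M) _ hy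
      rwa [h3] at h4
    let σ : Equiv.Perm (P : Subgroup M) := Equiv.ofBijective (fun y => ⟨_, hstab y y.2⟩)
      (Finite.injective_iff_bijective.1 (fun a b h => Subtype.ext ((MulAut.conjNormal u : MulAut M).injective (congrArg Subtype.val h))))
    have hiter : ∀ n : ℕ, ∀ y, (((σ ^ n) y : (P : Subgroup M)) : M) = (MulAut.conjNormal (u ^ n) : MulAut M) y := by
      intro n
      induction n with
      | zero => intro y; simp
      | succ n ih =>
        intro y
        rw [pow_succ', Equiv.Perm.mul_apply, pow_succ', map_mul, MulAut.mul_apply, ← ih]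
        rfl
    have hσ11 : σ ^ 11 = 1 := Equiv.ext fun y => Subtype.ext (by
      rw [hiter, ← hu, pow_orderOf_eq_one, map_one]; rfl)
    have hcard : Nat.card (P : Subgroup M) < 11 := by
      obtain ⟨a, ha⟩ := IsPGroup.iff_card.1 P.isPGroup'
      have hd : Nat.card (P : Subgroup M) ∣ 720 := by
        have h1 : Nat.card (P : Subgroup M) ∣ 720 * 11 :=
          ((Subgroup.card_subgroup_dvd_card _).trans (Subgroup.card_subgroup_dvd_card M)).trans (dvd_of_eq hord)
        refine (Nat.Coprime.dvd_of_dvd_mul_right ?_ h1)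
        exact ((f11.out.coprime_iff_not_dvd).2 (fun h => h11 (h.trans (Subgroup.card_subgroup_dvd_card _)))).symm
      have hdiv : Nat.card (P : Subgroup M) ∣ 16 ∨ Nat.card (P : Subgroup M) ∣ 9 ∨ Nat.card (P : Subgroup M) ∣ 5 := by
        rw [ha] at hd ⊢
        have hq := (Fact.out : q.Prime)
        rcases Nat.eq_zero_or_pos a with rfl | ha0
        · simp
        have hq720 : q ∣ 2 ^ 4 * 3 ^ 2 * 5 := (dvd_pow_self q ha0.ne').trans hd
        rcases hq.dvd_mul.1 hq720 with h | h
        · rcases hq.dvd_mul.1 h with h | h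
          · obtain rfl := (Nat.prime_dvd_prime_iff_eq hq Nat.prime_two).1 (hq.dvd_of_dvd_pow h)
            exact Or.inl (Nat.Coprime.dvd_of_dvd_mul_right (Nat.Coprime.pow_left a (show Nat.Coprime 2 45 by norm_num))
              (show 2 ^ a ∣ 16 * 45 from hd))
          · obtain rfl := (Nat.prime_dvd_prime_iff_eq hq Nat.prime_three).1 (hq.dvd_of_dvd_pow h)
            exact Or.inr (Or.inl (Nat.Coprime.dvd_of_dvd_mul_right (Nat.Coprime.pow_left a (show Nat.Coprime 3 80 by norm_num))
              (show 3 ^ a ∣ 9 * 80 from hd)))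
        · obtain rfl := (Nat.prime_dvd_prime_iff_eq hq (by norm_num)).1 h
          exact Or.inr (Or.inr (Nat.Coprime.dvd_of_dvd_mul_right (Nat.Coprime.pow_left a (show Nat.Coprime 5 144 by norm_num))
            (show 5 ^ a ∣ 5 * 144 from hd)))
      rcases hdiv with h | h | h
      · by_contra hge
        have h16' : Nat.card (P : Subgroup M) = 16 := by
          have := Nat.le_of_dvd (by norm_num) h
          interval_cases hh : Nat.card (P : Subgroup M) <;> omega
        exact h16 ((dvd_of_eq h16'.symm).trans (Subgroup.card_subgroup_dvd_card _))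
      · exact lt_of_le_of_lt (Nat.le_of_dvd (by norm_num) h) (by norm_num)
      · exact lt_of_le_of_lt (Nat.le_of_dvd (by norm_num) h) (by norm_num)
    have hσ1 : σ = 1 := by
      by_contra hne
      have h11' : orderOf σ = 11 := orderOf_eq_prime hσ11 hne
      have := Fintype.ofFinite (P : Subgroup M)
      classical
      have hd : 11 ∣ (Fintype.card (P : Subgroup M)).factorial := by
        rw [← h11', ← Fintype.card_perm]; exact orderOf_dvd_card
      rw [f11.out.dvd_factorial, ← Nat.card_eq_fintype_card] at hd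
      omega
    have := congrArg (fun τ : Equiv.Perm (P : Subgroup M) => (((τ ⟨x, hx⟩ : (P : Subgroup M)) : M) : G)) hσ1
    exact this
  let C : Subgroup M := (Subgroup.centralizer {u}).subgroupOf M
  have hC : ∀ (q : ℕ) [Fact q.Prime], ∀ k, q ^ k ∣ Nat.card M → q ^ k ∣ Nat.card C := by
    intro q _ k hk
    obtain ⟨P, hP⟩ := hfix q
    refine (P.pow_dvd_card_of_pow_dvd_card hk).trans (Subgroup.card_dvd_of_le fun x hx => ?_)
    rw [Subgroup.mem_subgroupOf, Subgroup.mem_centralizer_singleton_iff]
    exact (mul_inv_eq_iff_eq_mul.1 (hP x hx)).symm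
  have hCtop : C = ⊤ := by
    refine Subgroup.eq_top_of_card_eq C (Nat.dvd_antisymm (Subgroup.card_subgroup_dvd_card C) ?_)
    refine (Nat.dvd_iff_prime_pow_dvd_dvd _ _).2 fun q k hq hk => ?_
    exact @hC q ⟨hq⟩ k hk
  have huC : u ∈ Subgroup.centralizer (M : Set G) := by
    rw [Subgroup.mem_centralizer_iff]
    intro x hx
    have := hCtop.ge (Subgroup.mem_top (⟨x, hx⟩ : M))
    rw [Subgroup.mem_subgroupOf, Subgroup.mem_centralizer_singleton_iff] at this
    exact this
  rw [hbot, Subgroup.mem_bot] at huC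
  rw [huC, orderOf_one] at hu
  norm_num at hu

open Equiv in
/-- No simple normal subgroup of order 660 acts faithfully. -/
theorem no_660 (hord : Nat.card G = 7920) (M : Subgroup G) [M.Normal] (hMs : IsSimpleGroup M)
    (hM : Nat.card M = 660) : Subgroup.centralizer (M : Set G) ≠ ⊥ := by
  classical
  intro hbot
  have f11 : Fact (Nat.Prime 11) := ⟨by norm_num⟩
  obtain ⟨P0⟩ : Nonempty (Sylow 11 M) := inferInstance
  have hP0 : Nat.card (P0 : Subgroup M) = 11 := by
    simpa using card_sylow_of_eq (a := 1) (m := 60) (by rw [hM]; norm_num) (by norm_num) P0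
  have hd : Nat.card (Sylow 11 M) ∣ 60 := by
    have h := P0.card_dvd_index
    have h2 := (P0 : Subgroup M).card_mul_index
    rw [hP0, hM] at h2
    rwa [show (P0 : Subgroup M).index = 60 by omega] at h
  have hmod := card_sylow_modEq_one 11 M
  have hnn : ¬ (P0 : Subgroup M).Normal := fun h => by
    rcases hMs.eq_bot_or_eq_top_of_normal _ h with h | h
    · rw [h, Subgroup.card_bot] at hP0; omega
    · rw [h, Subgroup.card_top] at hP0; omega
  have h12 : Nat.card (Sylow 11 M) = 12 := by
    have h1 : Nat.card (Sylow 11 M) ≠ 1 := fun h => hnn (by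
      rw [← Subgroup.normalizer_eq_top_iff, ← Subgroup.index_eq_one, Sylow.coe_coe, ← P0.card_eq_index_normalizer, h])
    have := Nat.le_of_dvd (by norm_num) hd
    unfold Nat.ModEq at hmod
    interval_cases hh : Nat.card (Sylow 11 M) <;> omega
  let α : G →* MulAut M := MulAut.conjNormal
  have hconj : ∀ x : M, MulAut.conj x = α (x : G) := fun x => by ext y; simp [α]
  have hex : ∀ P : Sylow 11 M, ∃ x : M, MulAut.conj x • P0 = P := fun P => MulAction.exists_smul_eq M P0 P
  letI actG : MulAction G (Sylow 11 M) := MulAction.compHom _ α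
  have hsm : ∀ (g : G) (P : Sylow 11 M), g • P = α g • P := fun _ _ => rfl
  let φ : G →* Perm (Sylow 11 M) := MulAction.toPermHom G _
  have hφ : Function.Injective φ := by
    rw [← MonoidHom.ker_eq_bot_iff]
    rcases hMs.eq_bot_or_eq_top_of_normal (φ.ker.subgroupOf M) inferInstance with h | h
    · rw [eq_bot_iff, ← hbot]
      intro k hk
      rw [Subgroup.mem_centralizer_iff]
      intro m hm
      refine (Subgroup.commute_of_normal_of_disjoint φ.ker M inferInstance inferInstance ?_ k m hk hm).symm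
      rwa [Subgroup.subgroupOf_eq_bot] at h
    · exfalso
      apply hnn
      rw [Subgroup.subgroupOf_eq_top] at h
      rw [← Subgroup.normalizer_eq_top_iff, eq_top_iff]
      intro x _
      have hx : φ (x : G) = 1 := h x.2
      have h2 : α (x : G) • P0 = P0 := congrFun (congrArg DFunLike.coe hx) P0
      rw [Sylow.coe_coe, ← Sylow.smul_eq_iff_mem_normalizer]
      rwa [← hconj x] at h2
  set H := MulAction.stabilizer G P0
  have htrans : MulAction.orbit G P0 = Set.univ := by
    refine Set.eq_univ_of_forall fun P => ?_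
    obtain ⟨x, hx⟩ := hex P
    refine ⟨(x : G), ?_⟩
    change (x : G) • P0 = P
    rw [hsm, ← hconj x, hx]
  have hHc : Nat.card H = 660 := by
    have h := H.card_mul_index
    rw [MulAction.index_stabilizer, htrans, Set.ncard_univ, h12, hord] at h
    omega
  let R : Subgroup G := (P0 : Subgroup M).map M.subtype
  have hRc : Nat.card R = 11 := by
    rw [Nat.card_congr ((P0 : Subgroup M).equivMapOfInjective _ M.subtype_injective).symm.toEquiv, hP0]
  have hHR : H ≤ Subgroup.normalizer (R : Set G) := by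
    intro g hg
    have h : α g • P0 = P0 := hg
    have hmem : ∀ g : G, α g • P0 = P0 → ∀ r ∈ R, g * r * g⁻¹ ∈ R := by
      rintro g h r ⟨y, hy, rfl⟩
      refine ⟨α g y, ?_, by simp [α]⟩
      have h3 : α g • (P0 : Subgroup M) = P0 := by rw [← Sylow.pointwise_smul_def, h]
      have h4 := Subgroup.smul_mem_pointwise_smul y (α g) _ hy
      rwa [h3] at h4
    rw [Subgroup.mem_normalizer_iff]
    intro r
    refine ⟨hmem g h r, fun hr => ?_⟩
    have hinv : α g⁻¹ • P0 = P0 := by rw [map_inv, inv_smul_eq_iff, h]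
    have := hmem g⁻¹ hinv _ hr
    simpa [mul_assoc] using this
  let f : H →* MulAut R :=
    (MulAut.congr (Subgroup.subgroupOfEquivOfLe Subgroup.le_normalizer)).toMonoidHom.comp
      ((MulAut.conjNormal (H := R.subgroupOf (Subgroup.normalizer (R : Set G)))).comp (Subgroup.inclusion hHR))
  have : IsCyclic R := isCyclic_of_prime_card hRc
  obtain ⟨v, hv⟩ := exists_prime_orderOf_dvd_card' (G := R) 11 (dvd_of_eq hRc.symm)
  have hρ : orderOf (φ (v : G)) = 11 := by rw [orderOf_injective φ hφ, Subgroup.orderOf_coe, hv]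
  have hker : ∀ k : f.ker, φ ((k : H) : G) ∈ Subgroup.centralizer {φ (v : G)} := by
    intro k
    rw [Subgroup.mem_centralizer_singleton_iff, ← map_mul, ← map_mul]
    congr 1
    have h := congrArg (fun ψ : MulAut R => ((ψ v : R) : G)) k.2
    simp only [MulAut.one_apply] at h
    have h' : ((k : H) : G) * v * ((k : H) : G)⁻¹ = v := h
    exact mul_inv_eq_iff_eq_mul.1 h'
  have hcent : Nat.card (Subgroup.centralizer {φ (v : G)}) = 11 := by
    have := Fintype.ofFinite (Sylow 11 M)
    obtain ⟨n, hn⟩ := Equiv.Perm.cycleType_prime_order (σ := φ (v : G)) (by rw [hρ]; norm_num)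
    rw [hρ] at hn
    have hsum : (φ (v : G)).cycleType.sum ≤ 12 := by
      rw [Equiv.Perm.sum_cycleType, ← h12, Nat.card_eq_fintype_card]; exact Finset.card_le_univ _
    have hn0 : n = 0 := by
      rw [hn, Multiset.sum_replicate, smul_eq_mul] at hsum; omega
    subst hn0
    rw [Equiv.Perm.nat_card_centralizer, hn]
    rw [← Nat.card_eq_fintype_card, h12]
    simp
  have hk : Nat.card f.ker ≤ 11 := by
    rw [← hcent]
    exact Nat.card_le_card_of_injective (fun k => ⟨_, hker k⟩) fun a b hab =>
      Subtype.ext (Subtype.ext (hφ (congrArg Subtype.val hab)))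
  have hr : f.ker.index ≤ 10 := by
    rw [Subgroup.index_ker]
    refine Nat.le_of_dvd (by norm_num) ((Subgroup.card_subgroup_dvd_card _).trans ?_)
    rw [IsCyclic.card_mulAut, hRc, Nat.totient_prime (by norm_num : Nat.Prime 11)]
  have h1 := f.ker.card_mul_index
  rw [hHc] at h1
  have h2 := Nat.mul_le_mul hk hr
  omega

/-- The same with both conclusions. -/
theorem centralizer_ne_bot (hord : Nat.card G = 7920) (M : Subgroup G) [M.Normal] (hMs : IsSimpleGroup M)
    (hM : Nat.card M = 60 ∨ Nat.card M = 360 ∨ Nat.card M = 660) :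
    Subgroup.centralizer (M : Set G) ≠ ⊥ := by
  rcases hM with h | h | h
  · exact eleven_centralizes hord M (by rw [h]; norm_num) (by rw [h]; norm_num)
  · exact eleven_centralizes hord M (by rw [h]; norm_num) (by rw [h]; norm_num)
  · exact no_660 hord M hMs h

theorem exists_pgroup_normal (hord : Nat.card G = 7920) (hns : ¬ IsSimpleGroup G) :
    ∃ p, p.Prime ∧ ∃ N : Subgroup G, N.Normal ∧ IsPGroup p N ∧ N ≠ ⊥ := by
  have : Nontrivial G := Finite.one_lt_card_iff_nontrivial.1 (by rw [hord]; norm_num)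
  obtain ⟨K, hKn, hK0, hKtop⟩ : ∃ K : Subgroup G, K.Normal ∧ K ≠ ⊥ ∧ K ≠ ⊤ := by
    by_contra h
    push Not at h
    exact hns { eq_bot_or_eq_top_of_normal := fun K hK => or_iff_not_imp_left.2 (h K hK) }
  obtain ⟨M, hM, hMK⟩ := exists_isMinNormal (N := K) hKn hK0
  have := hM.1
  rcases simple_or_pgroup hord hM with ⟨hMs, hMc⟩ | ⟨p, hp, hpM⟩
  swap
  · exact ⟨p, hp, M, hM.1, hpM, hM.2.1⟩
  have hMd : Nat.card M ∣ 7920 := (Subgroup.card_subgroup_dvd_card M).trans (dvd_of_eq hord)
  have hMne : Nat.card M ≠ 7920 := fun h =>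
    hKtop (eq_top_iff.2 ((Subgroup.eq_top_of_card_eq M (h.trans hord.symm)).ge.trans hMK))
  have hMo := simple_orders hMc hMd hMne
  have hCn : (Subgroup.centralizer (M : Set G)).Normal := inferInstance
  obtain ⟨M2, hM2, hM2C⟩ := exists_isMinNormal (N := Subgroup.centralizer (M : Set G)) hCn
    (centralizer_ne_bot hord M hMs hMo)
  have := hM2.1
  rcases simple_or_pgroup hord hM2 with ⟨hM2s, hM2c⟩ | ⟨p, hp, hpM⟩
  swap
  · exact ⟨p, hp, M2, hM2.1, hpM, hM2.2.1⟩
  exfalso
  have hinf : Disjoint M M2 := by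
    rcases hMs.eq_bot_or_eq_top_of_normal (M2.subgroupOf M) inferInstance with h | h
    · rw [Subgroup.subgroupOf_eq_bot] at h; exact h.symm
    · exfalso
      rw [Subgroup.subgroupOf_eq_top] at h
      apply hMc
      exact ⟨⟨fun a b => Subtype.ext ((Subgroup.mem_centralizer_iff.1 (hM2C (h b.2)) a a.2))⟩⟩
  let ψ : M × M2 →* G := MonoidHom.noncommCoprod M.subtype M2.subtype (fun a b =>
    Subgroup.commute_of_normal_of_disjoint M M2 hM.1 hM2.1 hinf a b a.2 b.2)
  have hinj : Function.Injective ψ := by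
    rw [injective_iff_map_eq_one]
    rintro ⟨a, b⟩ hab
    have h : (a : G) * b = 1 := hab
    have ha : (a : G) ∈ M ⊓ M2 := ⟨a.2, by rw [eq_inv_of_mul_eq_one_left h]; exact M2.inv_mem b.2⟩
    rw [hinf.eq_bot, Subgroup.mem_bot] at ha
    rw [ha, one_mul] at h
    exact Prod.ext (Subtype.ext ha) (Subtype.ext h)
  have h1 := Subgroup.card_dvd_of_injective ψ hinj
  rw [Nat.card_prod, hord] at h1
  have hMo2 := simple_orders hM2c ((Subgroup.card_subgroup_dvd_card M2).trans (dvd_of_eq hord)) (by
    intro h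
    rw [h] at h1
    have := Nat.le_of_dvd (by norm_num) h1
    rcases hMo with h | h | h <;> rw [h] at this <;> omega)
  rcases hMo with h | h | h <;> rcases hMo2 with h' | h' | h' <;> rw [h, h'] at h1 <;> norm_num at h1

set_option maxHeartbeats 1000000 in
/-- Let G be a finite group of order 7920 = 2⁴·3²·5·11 (the order of the smallest Mathieu group) and suppose its prime graph (vertices the prime divisors of the order, distinct p, q joined when there is an element of order pq) is disconnected: the prime divisors split into two non-empty parts with no element of order pq for p in one part and q in the other. Then G is simple. -/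
theorem result {G : Type*} [Group G] [Finite G] (hord : Nat.card G = 7920)
    (hdisc : (∃ A : Set ℕ, (∃ a ∈ A, a.Prime ∧ a ∣ Nat.card G) ∧ (∃ b ∉ A, b.Prime ∧ b ∣ Nat.card G) ∧
      ∀ a ∈ A, ∀ b ∉ A, a.Prime → b.Prime → a ∣ Nat.card G → b ∣ Nat.card G → ¬ ∃ g : G, orderOf g = a * b)) :
    IsSimpleGroup G := by
  by_contra hns
  obtain ⟨A, ⟨a, haA, hap, had⟩, ⟨b, hbA, hbp, hbd⟩, hA⟩ := hdisc
  obtain ⟨p, hp, N, hNn, hN, hN0⟩ := exists_pgroup_normal hord hns
  have := Fact.mk hp
  have hd : ∀ x ∈ ({2, 3, 5, 11} : Finset ℕ), x.Prime ∧ x ∣ Nat.card G := by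
    rw [hord]; intro x hx; fin_cases hx <;> norm_num
  have key : ∀ x ∈ ({2, 3, 5, 11} : Finset ℕ), ∀ y ∈ ({2, 3, 5, 11} : Finset ℕ), Edge G x y → (x ∈ A ↔ y ∈ A) := by
    intro x hx y hy h
    constructor
    · intro hxA
      by_contra hyA
      exact hA x hxA y hyA (hd x hx).1 (hd y hy).1 (hd x hx).2 (hd y hy).2 h
    · intro hyA
      by_contra hxA
      exact hA y hyA x hxA (hd y hy).1 (hd x hx).1 (hd y hy).2 (hd x hx).2 (edge_symm h)
  have hmem : ∀ q : ℕ, q.Prime → q ∣ Nat.card G → q = 2 ∨ q = 3 ∨ q = 5 ∨ q = 11 := by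
    intro q hq h
    rw [hord, show (7920 : ℕ) = 2 ^ 4 * 3 ^ 2 * 5 * 11 by norm_num] at h
    rcases hq.dvd_mul.1 h with h | h
    · rcases hq.dvd_mul.1 h with h | h
      · rcases hq.dvd_mul.1 h with h | h
        · exact Or.inl ((Nat.prime_dvd_prime_iff_eq hq Nat.prime_two).1 (hq.dvd_of_dvd_pow h))
        · exact Or.inr (Or.inl ((Nat.prime_dvd_prime_iff_eq hq Nat.prime_three).1 (hq.dvd_of_dvd_pow h)))
      · exact Or.inr (Or.inr (Or.inl ((Nat.prime_dvd_prime_iff_eq hq (by norm_num)).1 h)))
    · exact Or.inr (Or.inr (Or.inr ((Nat.prime_dvd_prime_iff_eq hq (by norm_num)).1 h)))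
  have hall : ((2 ∈ A ↔ 3 ∈ A) ∧ (2 ∈ A ↔ 5 ∈ A) ∧ (2 ∈ A ↔ 11 ∈ A)) := by
    have k23 := key 2 (by simp) 3 (by simp)
    have k25 := key 2 (by simp) 5 (by simp)
    have k211 := key 2 (by simp) 11 (by simp)
    have k35 := key 3 (by simp) 5 (by simp)
    have k311 := key 3 (by simp) 11 (by simp)
    have k115 := key 11 (by simp) 5 (by simp)
    rcases abelian_case hord hN hN0 with ⟨h1, h2, h3⟩ | ⟨h1, h2, h3⟩ | ⟨h1, h2, h3⟩ | ⟨h1, h2, h3⟩
    · refine ⟨k23 h1, ?_, k211 h2⟩
      rcases h3 with h | h | h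
      · exact k25 h
      · exact (k23 h1).trans (k35 h)
      · exact (k211 h2).trans (k115 h)
    · exact ⟨k23 (edge_symm h1), (k23 (edge_symm h1)).trans (k35 h3), (k23 (edge_symm h1)).trans (k311 h2)⟩
    · exact ⟨(k25 (edge_symm h1)).trans (k35 (edge_symm h3)).symm, k25 (edge_symm h1),
        (k25 (edge_symm h1)).trans (k115 (edge_symm h2)).symm⟩
    · refine ⟨(k211 (edge_symm h1)).trans (k311 (edge_symm h2)).symm, ?_, k211 (edge_symm h1)⟩
      rcases h3 with h | h
      · exact ((k211 (edge_symm h1)).trans (k311 (edge_symm h2)).symm).trans (k35 h)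
      · exact (k211 (edge_symm h1)).trans (k115 h)
  have hto : ∀ q : ℕ, q.Prime → q ∣ Nat.card G → (q ∈ A ↔ 2 ∈ A) := by
    intro q hq h
    rcases hmem q hq h with rfl | rfl | rfl | rfl
    · exact Iff.rfl
    · exact hall.1.symm
    · exact hall.2.1.symm
    · exact hall.2.2.symm
  exact hbA ((hto b hbp hbd).2 ((hto a hap had).1 haA))

end Cfsg.Agent.S2490
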