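import Cfsg.Statements.S2493
import Cfsg.Agent.S0892
import Cfsg.Agent.Lib.Perm.InvolutionPair

set_option autoImplicit false
open Cfsg

namespace Cfsg.Agent.S2493

open Equiv Equiv.Perm
open Cfsg.Agent.S0892 (Ext central comm_const two_facts exists_lift_pow eq_one_of_pow pow_card_ker)
open Cfsg.Agent.S3335 (gen gen_mem pt pt_ne)
open Cfsg.Lib.Perm.InvolutionPair
open scoped commutatorElement

variable {Γ : Type*} [Group Γ] [Finite Γ] {m : ℕ} {π : Γ →* Perm (Fin (m + 2))}

theorem lift_exists (h : Ext m π) {p : Perm (Fin (m + 2))} (hp : sign p = 1) : ∃ X, π X = p := by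
  have : p ∈ π.range := by rw [h.range_eq]; exact Equiv.Perm.mem_alternatingGroup.2 hp
  exact this

/-- Lifts of commuting permutations of which one is a product of three-cycles commute. -/
theorem commute_lift (h : Ext m π) (h3 : (Nat.card π.ker).Coprime 3) {A C : Γ} (hC : (π C) ^ 3 = 1)
    (hcomm : π A * π C = π C * π A) : Commute A C := by
  obtain ⟨C', hC', hC3⟩ := exists_lift_pow h h3 (g := π C) (by rw [← h.range_eq]; exact ⟨C, rfl⟩) hC
  have hz : π ⁅A, C'⁆ = 1 := by rw [map_commutatorElement, hC', commutatorElement_eq_one_iff_mul_comm, hcomm]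
  have hcz : Commute ⁅A, C'⁆ C' := (central h hz C').symm
  have h1 : ⁅A, C'⁆ ^ 3 = 1 := by
    have e : A * C' * A⁻¹ = ⁅A, C'⁆ * C' := by rw [commutatorElement_def]; group
    have := congrArg (· ^ 3) e
    simp only [conj_pow, hcz.mul_pow, hC3, mul_one, mul_inv_cancel] at this
    exact this.symm
  have h2 : ⁅A, C'⁆ = 1 := eq_one_of_pow h3 hz h1
  rw [← comm_const h rfl hC'.symm] at h2
  exact commutatorElement_eq_one_iff_mul_comm.1 h2

theorem dtr_sq (h : Ext m π) (hm : 2 ≤ m) {X a : Γ} (hk : ∀ z, π z = 1 → z * z = 1) (hX : π X = gen m 1)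
    (hXa : X ^ 2 = a) (ha : π a = 1) {u u' v v' : Fin (m + 2)} (h1 : u ≠ u') (h2 : u ≠ v) (h3 : u ≠ v')
    (h4 : u' ≠ v) (h5 : u' ≠ v') (h6 : v ≠ v') {P : Γ} (hP : π P = swap u u' * swap v v') : P * P = a := by
  have hne : ∀ i j : ℕ, i ≠ j → i ≤ 3 → j ≤ 3 → pt m i ≠ pt m j := fun i j e hi hj => pt_ne e (by omega) (by omega)
  have q01 := hne 0 1 (by omega) (by omega) (by omega)
  have q02 := hne 0 2 (by omega) (by omega) (by omega)
  have q03 := hne 0 3 (by omega) (by omega) (by omega)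
  have q12 := hne 1 2 (by omega) (by omega) (by omega)
  have q13 := hne 1 3 (by omega) (by omega) (by omega)
  have q23 := hne 2 3 (by omega) (by omega) (by omega)
  have hg : gen m 1 = swap (pt m 0) (pt m 1) * swap (pt m 2) (pt m 3) := rfl
  obtain ⟨w, hw⟩ := isConj_iff.1 (isConj_iff_cycleType_eq.2 ((cycleType_swap_pair q01 q02 q03 q12 q13 q23).trans
    (cycleType_swap_pair h1 h2 h3 h4 h5 h6).symm))
  obtain ⟨W, hW⟩ : ∃ W, π W * gen m 1 * (π W)⁻¹ = π P := by
    rw [hP, hg]
    rcases Int.units_eq_one_or (sign w) with hs | hs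
    · obtain ⟨W, hW⟩ := lift_exists h hs
      exact ⟨W, by rw [hW, hw]⟩
    · obtain ⟨W, hW⟩ := lift_exists h (p := w * swap (pt m 0) (pt m 1)) (by rw [map_mul, hs, sign_swap q01]; rfl)
      refine ⟨W, ?_⟩
      rw [hW, ← hw]
      have e := Cfsg.Agent.S3335.commute_swap q02 q03 q12 q13
      calc w * swap (pt m 0) (pt m 1) * (swap (pt m 0) (pt m 1) * swap (pt m 2) (pt m 3)) *
            (w * swap (pt m 0) (pt m 1))⁻¹
          = w * swap (pt m 0) (pt m 1) * (swap (pt m 2) (pt m 3) * swap (pt m 0) (pt m 1)) *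
            (w * swap (pt m 0) (pt m 1))⁻¹ := by rw [e]
        _ = _ := by group
  set d := W * X * W⁻¹ with hd
  have hz : π (P * d⁻¹) = 1 := by
    rw [map_mul, map_inv, hd, map_mul, map_mul, map_inv, hX, hW, mul_inv_cancel]
  have hc : Commute (P * d⁻¹) d := (central h hz d).symm
  have e : P ^ 2 = (P * d⁻¹) ^ 2 * d ^ 2 := by rw [← hc.mul_pow, inv_mul_cancel_right]
  rw [← pow_two, e, pow_two (P * d⁻¹), hk _ hz, one_mul, hd, conj_pow, hXa, central h ha W, mul_inv_cancel_right]

/-- An element over a flexible permutation anticommutes with some element over a centraliser. -/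
theorem anticommute (h : Ext m π) (hm : 2 ≤ m) (h3 : (Nat.card π.ker).Coprime 3) {X a : Γ}
    (hk : ∀ z, π z = 1 → z * z = 1) (hX : π X = gen m 1) (hXa : X ^ 2 = a) (ha : π a = 1) {A : Γ}
    (hA : Flex (π A)) : ∃ C, π C * π A = π A * π C ∧ ⁅A, C⁆ = a := by
  obtain ⟨u, u', v, v', h1, h2, h4, h5, h6, h7, e1, e2, e3, e4⟩ := hA
  obtain ⟨P, hP⟩ := lift_exists h (flex_swap_pair h1 h2 h4 h5 h6 h7).2
  obtain ⟨C, hC⟩ := lift_exists h (flex_swap_pair h2 h1 h4 (Ne.symm h5) h7 h6).2
  obtain ⟨D₁, hD₁⟩ := lift_exists h (p := swap u v * swap v u')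
    (by rw [map_mul, sign_swap h2, sign_swap (Ne.symm h5)]; rfl)
  obtain ⟨D₂, hD₂⟩ := lift_exists h (p := swap v u' * swap u' v')
    (by rw [map_mul, sign_swap (Ne.symm h5), sign_swap h6]; rfl)
  set R := P⁻¹ * A with hR
  have hRv : ∀ x y, π A x = y → (swap u u' * swap v v') x = y → π R x = x := fun x y hx hy => by
    rw [hR, map_mul, map_inv, Perm.mul_apply, hP, hx, ← hy, ← Perm.mul_apply, inv_mul_cancel, Perm.one_apply]
  have fu : π R u = u := hRv u u' e1 (by simp [swap_apply_of_ne_of_ne h2 h4])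
  have fu' : π R u' = u' := hRv u' u e2 (by simp [swap_apply_of_ne_of_ne h5 h6])
  have fv : π R v = v := hRv v v' e3 (by simp [swap_apply_of_ne_of_ne (Ne.symm h4) (Ne.symm h6)])
  have fv' : π R v' = v' := hRv v' v e4 (by simp [swap_apply_of_ne_of_ne (Ne.symm h2) (Ne.symm h5)])
  have hsw : ∀ x y, π R x = x → π R y = y → π R * swap x y = swap x y * π R := fun x y hx hy => by
    have e := Equiv.swap_apply_apply (π R) x y
    rw [hx, hy] at e
    conv_rhs => rw [e]
    rw [inv_mul_cancel_right]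
  have c1 : Commute R D₁ := commute_lift h h3
    (by rw [hD₁]; exact Cfsg.Agent.S3335.pow_three_swap h2 h1 (Ne.symm h5)) (by
      rw [hD₁, ← mul_assoc, hsw u v fu fv, mul_assoc, hsw v u' fv fu', mul_assoc])
  have c2 : Commute R D₂ := commute_lift h h3
    (by rw [hD₂]; exact Cfsg.Agent.S3335.pow_three_swap (Ne.symm h5) h7 h6) (by
      rw [hD₂, ← mul_assoc, hsw v u' fv fu', mul_assoc, hsw u' v' fu' fv', mul_assoc])
  have hCD : π (C * (D₁ * D₂)⁻¹) = 1 := by
    rw [map_mul, map_inv, map_mul, hC, hD₁, hD₂,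
      show swap u v * swap v u' * (swap v u' * swap u' v') = swap u v * swap u' v' by
        rw [mul_assoc, ← mul_assoc (swap v u'), swap_mul_self, one_mul],
      mul_inv_cancel]
  have cR : Commute R C := by
    have : Commute R (C * (D₁ * D₂)⁻¹ * (D₁ * D₂)) :=
      Commute.mul_right (central h hCD R) (c1.mul_right c2)
    rwa [inv_mul_cancel_right] at this
  have hPQ : π (P * C) = swap u v' * swap u' v := by
    rw [map_mul, hP, hC]
    ext z
    simp only [Perm.mul_apply]
    rcases eq_or_ne z u with rfl | zu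
    · simp [swap_apply_def, h1, h2, h4, h5, h6, h7, Ne.symm h1, Ne.symm h2, Ne.symm h4, Ne.symm h5, Ne.symm h6, Ne.symm h7]
    rcases eq_or_ne z u' with rfl | zu'
    · simp [swap_apply_def, h1, h2, h4, h5, h6, h7, Ne.symm h1, Ne.symm h2, Ne.symm h4, Ne.symm h5, Ne.symm h6, Ne.symm h7]
    rcases eq_or_ne z v with rfl | zv
    · simp [swap_apply_def, h1, h2, h4, h5, h6, h7, Ne.symm h1, Ne.symm h2, Ne.symm h4, Ne.symm h5, Ne.symm h6, Ne.symm h7]
    rcases eq_or_ne z v' with rfl | zv'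
    · simp [swap_apply_def, h1, h2, h4, h5, h6, h7, Ne.symm h1, Ne.symm h2, Ne.symm h4, Ne.symm h5, Ne.symm h6, Ne.symm h7]
    simp [swap_apply_def, zu, zu', zv, zv']
  have sP := dtr_sq h hm hk hX hXa ha h1 h2 h4 h5 h6 h7 hP
  have sC := dtr_sq h hm hk hX hXa ha h2 h1 h4 (Ne.symm h5) h7 h6 hC
  have sPC := dtr_sq h hm hk hX hXa ha h4 h1 h2 (Ne.symm h6) (Ne.symm h7) h5 hPQ
  have haa := hk a ha
  have hinv : ∀ y : Γ, y * y = a → y⁻¹ = a * y := fun y hy => by
    refine inv_eq_of_mul_eq_one_right ?_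
    rw [← mul_assoc, central h ha y, mul_assoc, hy, haa]
  have hPCa : ⁅P, C⁆ = a := by
    rw [commutatorElement_def, hinv P sP, hinv C sC]
    calc P * C * (a * P) * (a * C) = a * (P * C * P) * (a * C) := by
          rw [← mul_assoc (P * C) a P, central h ha (P * C)]; simp only [mul_assoc]
      _ = a * a * (P * C * (P * C)) := by
          rw [← mul_assoc (a * (P * C * P)) a C, central h ha (a * (P * C * P))]; simp only [mul_assoc]
      _ = a := by rw [haa, sPC, one_mul]
  have hAC : ⁅A, C⁆ = a := by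
    rw [show A = P * R by rw [hR]; group, commutatorElement_def]
    calc P * R * C * (P * R)⁻¹ * C⁻¹ = P * (R * C) * R⁻¹ * P⁻¹ * C⁻¹ := by group
      _ = P * (C * R) * R⁻¹ * P⁻¹ * C⁻¹ := by rw [cR.eq]
      _ = ⁅P, C⁆ := by rw [commutatorElement_def]; group
      _ = a := hPCa
  refine ⟨C, ?_, hAC⟩
  have e := congrArg π hAC
  rw [map_commutatorElement, ha, commutatorElement_eq_one_iff_mul_comm] at e
  exact e.symm

/-- Let n ≥ 5 and let G be a finite perfect group whose centre has order 2 with G/Z(G) isomorphic to the alternating group of degree n (the double cover of the alternating group). Then every element of G is a commutator. -/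
theorem result {G : Type*} [Group G] [Finite G] (hperf : commutator G = ⊤) {n : ℕ} (hn : 5 ≤ n)
    (hZ : Nat.card (Subgroup.center G) = 2) (e : G ⧸ Subgroup.center G ≃* alternatingGroup (Fin n))
    (g : G) :
    ∃ a b : G, a * b * a⁻¹ * b⁻¹ = g := by
  obtain ⟨m, rfl⟩ : ∃ m, n = m + 2 := ⟨n - 2, by omega⟩
  let π : G →* Perm (Fin (m + 2)) :=
    ((alternatingGroup (Fin (m + 2))).subtype.comp e.toMonoidHom).comp (QuotientGroup.mk' _)
  have hker : π.ker = Subgroup.center G := by
    ext x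
    rw [MonoidHom.mem_ker, ← QuotientGroup.eq_one_iff]
    exact ⟨fun hx => (MulEquiv.map_eq_one_iff e).1 (Subtype.ext hx), fun hx => by
      change ((e (x : G ⧸ Subgroup.center G) : alternatingGroup (Fin (m + 2))) : Perm (Fin (m + 2))) = 1
      rw [hx, map_one]; rfl⟩
  have hext : Ext m π := by
    refine ⟨?_, hker.le, by rw [hperf]; exact le_top⟩
    rw [MonoidHom.range_comp, MonoidHom.range_eq_top.2 (QuotientGroup.mk'_surjective _), ← MonoidHom.range_eq_map,
      MonoidHom.range_comp, MonoidHom.range_eq_top.2 e.surjective, ← MonoidHom.range_eq_map, Subgroup.range_subtype]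
  have hc : Nat.card π.ker = 2 := by rw [hker, hZ]
  have h3 : (Nat.card π.ker).Coprime 3 := by rw [hc]; decide
  have hk : ∀ z, π z = 1 → z * z = 1 := fun z hz => by
    have := pow_card_ker (π := π) hz
    rwa [hc, pow_two] at this
  obtain ⟨X, a, ha, ha2, hle, hX, hall, -⟩ := two_facts hext (by omega) h3
  obtain ⟨p, q, hp, hq, hflex, hpq⟩ := exists_commutator (σ := π g) (by simpa using hn)
    (Equiv.Perm.mem_alternatingGroup.1 (hext.range_eq ▸ ⟨g, rfl⟩))
  obtain ⟨A, rfl⟩ := lift_exists hext hp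
  obtain ⟨B, rfl⟩ := lift_exists hext hq
  have hz : π (⁅A, B⁆⁻¹ * g) = 1 := by
    rw [map_mul, map_inv, map_commutatorElement, commutatorElement_def, hpq, inv_mul_cancel]
  obtain ⟨i, hi⟩ := hle hz
  have hz' : ⁅A, B⁆⁻¹ * g = 1 ∨ ⁅A, B⁆⁻¹ * g = a := by
    rcases Int.even_or_odd i with ⟨k, rfl⟩ | ⟨k, rfl⟩
    · left
      rw [← hi]
      show a ^ (k + k) = 1
      rw [← two_mul, zpow_mul, zpow_two, ha2, one_zpow]
    · right
      rw [← hi]
      show a ^ (2 * k + 1) = a
      rw [zpow_add, zpow_mul, zpow_two, ha2, one_zpow, one_mul, zpow_one]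
  rcases hz' with h1 | h1
  · exact ⟨A, B, by rw [inv_mul_eq_one] at h1; rw [← h1, commutatorElement_def]⟩
  · obtain ⟨C, -, hAC⟩ := anticommute hext (by omega) h3 hk (hX 1 (by omega)) (hall 1 le_rfl (by omega)) ha hflex
    refine ⟨A, B * C, ?_⟩
    calc A * (B * C) * A⁻¹ * (B * C)⁻¹ = ⁅A, B⁆ * (B * ⁅A, C⁆ * B⁻¹) := by
          simp only [commutatorElement_def]; group
      _ = ⁅A, B⁆ * a := by rw [hAC, central hext ha B, mul_inv_cancel_right]
      _ = g := by rw [← h1, mul_inv_cancel_left]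

end Cfsg.Agent.S2493
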