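import Cfsg.Statements.S2495
import Mathlib
import Cfsg.Agent.S2904
import Cfsg.Agent.S2638

set_option autoImplicit false
open Cfsg

namespace Cfsg.Agent.S2495

open Pointwise

/-- The two-part condition. -/
theorem gcd_dvd_half {n D : ℕ} (hn : n ≠ 0) (hev : Even n) (hD : D ≠ 0) :
    Nat.gcd n D ∣ n / 2 ↔ padicValNat 2 D < padicValNat 2 n := by
  haveI : Fact (Nat.Prime 2) := ⟨Nat.prime_two⟩
  obtain ⟨m, rfl⟩ := hev
  have hm : m ≠ 0 := by omega
  rw [show m + m = 2 * m by ring, Nat.mul_div_cancel_left m two_pos]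
  have hv : padicValNat 2 (2 * m) = padicValNat 2 m + 1 := by
    rw [padicValNat.mul two_ne_zero hm, padicValNat.self Nat.one_lt_two, add_comm]
  rw [hv]
  have hpd : ∀ a x : ℕ, x ≠ 0 → (2 ^ a ∣ x ↔ a ≤ padicValNat 2 x) := fun a x hx =>
    padicValNat_dvd_iff_le hx
  constructor
  · intro h
    by_contra hlt
    have h1 : 2 ^ (padicValNat 2 m + 1) ∣ Nat.gcd (2 * m) D :=
      Nat.dvd_gcd ((hpd _ _ (by omega)).2 (by omega)) ((hpd _ _ hD).2 (by omega))
    have := (hpd _ _ hm).1 (h1.trans h)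
    omega
  · intro hlt
    set d := Nat.gcd (2 * m) D with hd
    have hd2 : d ∣ 2 * m := Nat.gcd_dvd_left _ _
    obtain ⟨c, hc⟩ := hd2
    rcases Nat.even_or_odd c with ⟨e, he⟩ | ⟨e, he⟩
    · exact ⟨e, by subst he; nlinarith⟩
    · exfalso
      have hd0 : d ≠ 0 := fun h0 => by rw [h0, zero_mul] at hc; omega
      have hc0 : c ≠ 0 := by omega
      have h1 : padicValNat 2 (2 * m) = padicValNat 2 d := by
        rw [hc, padicValNat.mul hd0 hc0, padicValNat.eq_zero_of_not_dvd (n := c) (by omega), add_zero]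
      have h2 : padicValNat 2 d ≤ padicValNat 2 D :=
        (hpd _ _ hD).1 (pow_padicValNat_dvd.trans (Nat.gcd_dvd_right _ _))
      omega

/-- A geometric sum modulo `q - 1`. -/
theorem geom_modEq (q k : ℕ) (hq : 1 ≤ q) :
    (∑ i ∈ Finset.range k, q ^ i) ≡ k [MOD q - 1] := by
  have h1 : q ≡ 1 [MOD q - 1] := ((Nat.modEq_iff_dvd' hq).2 dvd_rfl).symm
  induction k with
  | zero => rfl
  | succ k ih =>
    rw [Finset.sum_range_succ]
    have h2 := h1.pow k
    rw [one_pow] at h2
    exact ih.add h2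


/-- Let q be an odd prime power, n ≥ 4 even, and L = PSL(n,q). Then L has an element of order q^(n/2) + 1 if and only if the 2-part of n exceeds the 2-part of q − 1. -/
theorem result {F : Type*} [Field F] [Fintype F] {q : ℕ} (hF : Fintype.card F = q) (hodd : Odd q)
    {n : ℕ} (hn : 4 ≤ n) (heven : Even n) :
    (∃ g : Matrix.ProjectiveSpecialLinearGroup (Fin n) F, orderOf g = q ^ (n / 2) + 1) ↔
      padicValNat 2 (q - 1) < padicValNat 2 n := by
  classical
  obtain ⟨p, hcp⟩ := CharP.exists F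
  haveI : Fact p.Prime := ⟨CharP.char_is_prime F p⟩
  have hpq : p ∣ q := by
    obtain ⟨k, hp, hk⟩ := FiniteField.card F p
    rw [← hF, hk]
    exact dvd_pow_self _ k.ne_zero
  have hq3 : 3 ≤ q := by
    have := Fintype.one_lt_card (α := F)
    obtain ⟨j, hj⟩ := hodd
    omega
  haveI : NeZero n := ⟨by omega⟩
  haveI : Nonempty (Fin n) := ⟨⟨0, by omega⟩⟩
  rw [← gcd_dvd_half (by omega) heven (D := q - 1) (by omega)]
  set m := n / 2 with hm
  have hn2 : n = 2 * m := by obtain ⟨c, hc⟩ := heven; omega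
  set D := q - 1 with hD
  set d := Nat.gcd n D with hd
  set S := ∑ i ∈ Finset.range n, q ^ i with hSdef
  set R := ∑ i ∈ Finset.range m, q ^ i with hRdef
  have hDS : S * D = q ^ n - 1 := by
    rw [hSdef, Nat.geomSum_eq (by omega), Nat.div_mul_cancel]
    simpa using Nat.sub_dvd_pow_sub_pow q 1 n
  have hDR : R * D = q ^ m - 1 := by
    rw [hRdef, Nat.geomSum_eq (by omega), Nat.div_mul_cancel]
    simpa using Nat.sub_dvd_pow_sub_pow q 1 m
  have hD0 : 0 < D := by omega
  have hqm : 1 ≤ q ^ m := Nat.one_le_pow _ _ (by omega)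
  have hSN : S = (q ^ m + 1) * R := by
    refine Nat.eq_of_mul_eq_mul_right hD0 ?_
    rw [hDS, mul_assoc, hDR, hn2, pow_mul', ← one_pow (M := ℕ) 2, Nat.sq_sub_sq, one_pow]
  have hdS : Nat.gcd S D = d := by rw [Nat.ModEq.gcd_eq (geom_modEq q n (by omega))]
  have hdR : d ∣ R ↔ d ∣ m := ((geom_modEq q m (by omega)).of_dvd (Nat.gcd_dvd_right _ _)).dvd_iff dvd_rfl
  have hd0 : 0 < d := Nat.gcd_pos_of_pos_right _ hD0
  obtain ⟨M, hM⟩ : d ∣ S := hdS ▸ Nat.gcd_dvd_left _ _
  obtain ⟨D', hD'⟩ : d ∣ D := Nat.gcd_dvd_right _ _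
  have hS0 : 0 < S := Nat.pos_of_ne_zero fun h => by
    rw [h, zero_mul] at hDS
    have := Nat.one_lt_pow (show n ≠ 0 by omega) (show 1 < q by omega)
    omega
  have hM0 : 0 < M := Nat.pos_of_ne_zero fun h => by rw [h, mul_zero] at hM; omega
  have hcopM : M.Coprime D' := by
    have h := Nat.coprime_div_gcd_div_gcd (m := S) (n := D) (hdS ▸ hd0)
    rw [hdS] at h
    rwa [hM, hD', Nat.mul_div_cancel_left _ hd0, Nat.mul_div_cancel_left _ hd0] at h
  -- the field with `q ^ n` elements
  let E := FiniteField.Extension F p n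
  let β : Module.Basis (Fin n) F E :=
    (Module.finBasis F E).reindex (finCongr (FiniteField.finrank_extension F p n))
  haveI : Finite E := Module.finite_of_finite F
  letI : Fintype E := Fintype.ofFinite _
  have hEc : Nat.card E = q ^ n := by
    rw [FiniteField.natCard_extension, Nat.card_eq_fintype_card, hF]
  let ψ : Eˣ →* GL (Fin n) F := Units.map (Algebra.leftMulMatrix β).toRingHom.toMonoidHom
  have hψ : ∀ v : Eˣ, ((ψ v : GL (Fin n) F) : Matrix (Fin n) (Fin n) F) = Algebra.leftMulMatrix β (v : E) :=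
    fun v => rfl
  have hψinj : Function.Injective ψ := fun a b h =>
    Units.ext (Algebra.leftMulMatrix_injective β (congrArg Units.val h))
  have hψdet : ∀ v : Eˣ, (ψ v : Matrix (Fin n) (Fin n) F).det = 1 ↔ v ^ S = 1 := fun v => by
    rw [hψ, ← Algebra.norm_eq_matrix_det, ← (algebraMap F E).injective.eq_iff,
      FiniteField.algebraMap_norm_eq_pow, map_one, Units.ext_iff, Units.val_pow_eq_pow_val, Units.val_one]
    have e : (Nat.card E - 1) / (Nat.card F - 1) = S := by
      rw [hEc, Nat.card_eq_fintype_card (α := F), hF, ← hDS, Nat.mul_div_cancel _ hD0]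
    rw [e]
  have hψscal : ∀ v : Eˣ, (∃ c : F, (ψ v : Matrix (Fin n) (Fin n) F) = c • (1 : Matrix (Fin n) (Fin n) F)) ↔
      v ^ D = 1 := by
    intro v
    have hsc : ∀ c : F, Algebra.leftMulMatrix β (algebraMap F E c) = c • (1 : Matrix (Fin n) (Fin n) F) :=
      fun c => by rw [AlgHom.commutes, Algebra.algebraMap_eq_smul_one]
    constructor
    · rintro ⟨c, hc⟩
      rw [hψ, ← hsc] at hc
      have hv := Algebra.leftMulMatrix_injective β hc
      have hc0 : c ≠ 0 := fun h => v.ne_zero (by rw [hv, h, map_zero])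
      refine Units.ext ?_
      rw [Units.val_pow_eq_pow_val, hv, ← map_pow, hD, ← hF, FiniteField.pow_card_sub_one_eq_one c hc0, map_one,
        Units.val_one]
    · intro hv
      let ι : Fˣ →* Eˣ := Units.map (algebraMap F E).toMonoidHom
      have hι : Function.Injective ι := Units.map_injective (algebraMap F E).injective
      have hsub : (Finset.univ.image ι) = Finset.univ.filter fun u : Eˣ => u ^ D = 1 := by
        refine Finset.eq_of_subset_of_card_le (fun u hu => ?_) ?_
        · obtain ⟨c, -, rfl⟩ := Finset.mem_image.1 hu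
          refine Finset.mem_filter.2 ⟨Finset.mem_univ _, ?_⟩
          rw [← map_pow, hD, ← hF, ← Fintype.card_units, pow_card_eq_one, map_one]
        · rw [Finset.card_image_of_injective _ hι, Finset.card_univ, Fintype.card_units, hF]
          exact IsCyclic.card_pow_eq_one_le hD0
      have := hsub.ge (Finset.mem_filter.2 ⟨Finset.mem_univ v, hv⟩)
      obtain ⟨c, -, rfl⟩ := Finset.mem_image.1 this
      exact ⟨c, hsc c⟩
  obtain ⟨ω, hω⟩ := IsCyclic.exists_ofOrder_eq_natCard (α := Eˣ)
  rw [Nat.card_units, hEc, ← hDS] at hω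
  have hkill : ∀ v : Eˣ, v ^ S = 1 → ∀ t, M ∣ t → (v ^ t) ^ D = 1 := by
    intro v hv t ht
    obtain ⟨u, rfl⟩ := ht
    rw [← pow_mul, show M * u * D = S * (u * D') by rw [hM, hD']; ring, pow_mul, hv, one_pow]
  have hcen : ∀ (X : Matrix.SpecialLinearGroup (Fin n) F), X ∈ Subgroup.center (Matrix.SpecialLinearGroup (Fin n) F) ↔
      ∃ c : F, (X : Matrix (Fin n) (Fin n) F) = c • (1 : Matrix (Fin n) (Fin n) F) := fun X => by
    rw [Matrix.SpecialLinearGroup.mem_center_iff]
    constructor
    · rintro ⟨c, -, hc⟩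
      exact ⟨c, by rw [← hc, Matrix.scalar_apply, Matrix.smul_one_eq_diagonal]⟩
    · rintro ⟨c, hc⟩
      have hdet := X.2
      rw [hc, Matrix.det_smul, Matrix.det_one, mul_one] at hdet
      exact ⟨c, hdet, by rw [hc, Matrix.scalar_apply, Matrix.smul_one_eq_diagonal]⟩
  show (∃ g : Matrix.SpecialLinearGroup (Fin n) F ⧸ Subgroup.center (Matrix.SpecialLinearGroup (Fin n) F),
    orderOf g = q ^ m + 1) ↔ d ∣ m
  rw [← hdR]
  constructor
  · rintro ⟨g, hg⟩
    -- the image of the element has order dividing `M`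
    suffices hgM : g ^ M = 1 by
      obtain ⟨c, hc⟩ := hg ▸ orderOf_dvd_of_pow_eq_one hgM
      refine ⟨c, Nat.eq_of_mul_eq_mul_left (show 0 < q ^ m + 1 by omega) ?_⟩
      rw [← hSN, hM, hc]
      ring
    obtain ⟨X, rfl⟩ := QuotientGroup.mk_surjective g
    obtain ⟨r, hr, hrd, hrmin⟩ := Cfsg.Agent.S2904.result q n (by omega) (by omega) (by omega) (by omega)
    haveI : Fact r.Prime := ⟨hr⟩
    have hrD : ¬ r ∣ D := fun h => hrmin 1 one_pos (by omega) (by rwa [pow_one])
    have hrp : r ≠ p := by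
      rintro rfl
      have h1 : r ∣ q ^ n := hpq.trans (dvd_pow_self _ (by omega))
      have h2 := Nat.dvd_sub h1 hrd
      rw [Nat.sub_sub_self (Nat.one_le_pow _ _ (by omega))] at h2
      exact hr.ne_one (Nat.dvd_one.1 h2)
    have hrN : r ∣ q ^ m + 1 := by
      rw [← hDS, hSN] at hrd
      rcases hr.dvd_mul.1 hrd with h | h
      · rcases hr.dvd_mul.1 h with h' | h'
        · exact h'
        · exact absurd (hDR ▸ dvd_mul_of_dvd_left h' D) (hrmin m (by omega) (by omega))
      · exact absurd h hrD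
    have hord : orderOf (q : ZMod r) = n := by
      have h1 : ∀ k, (q : ZMod r) ^ k = 1 ↔ r ∣ q ^ k - 1 := fun k => by
        rw [← ZMod.natCast_eq_zero_iff, Nat.cast_sub (Nat.one_le_pow _ _ (by omega)), Nat.cast_pow, Nat.cast_one,
          sub_eq_zero]
      refine (orderOf_eq_iff (by omega)).2 ⟨(h1 n).2 hrd, fun k hk hk0 => fun h => hrmin k hk0 hk ((h1 k).1 h)⟩
    -- an element of order `r` commuting with `X`
    let Y : Matrix.SpecialLinearGroup (Fin n) F := X ^ ((q ^ m + 1) / r * D)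
    have hY1 : Y ≠ 1 := fun h => by
      have h' := congrArg (QuotientGroup.mk : _ → Matrix.SpecialLinearGroup (Fin n) F ⧸ Subgroup.center _) h
      rw [QuotientGroup.mk_pow, QuotientGroup.mk_one] at h'
      have h2 := orderOf_dvd_of_pow_eq_one h'
      rw [hg] at h2
      have h3 : r * ((q ^ m + 1) / r) ∣ ((q ^ m + 1) / r) * D := by rwa [Nat.mul_div_cancel' hrN]
      rw [mul_comm r] at h3
      exact hrD (Nat.dvd_of_mul_dvd_mul_left (Nat.div_pos (Nat.le_of_dvd (by omega) hrN) hr.pos) h3)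
    have hYr : Y ^ r = 1 := by
      have h1 : X ^ (q ^ m + 1) ∈ Subgroup.center (Matrix.SpecialLinearGroup (Fin n) F) := by
        rw [← QuotientGroup.eq_one_iff, QuotientGroup.mk_pow, ← hg, pow_orderOf_eq_one]
      obtain ⟨c, hc1, hc⟩ := Matrix.SpecialLinearGroup.mem_center_iff.1 h1
      have hc0 : c ≠ 0 := fun h => by
        rw [h, Fintype.card_fin, zero_pow (by omega)] at hc1
        exact zero_ne_one hc1
      rw [← pow_mul, show (q ^ m + 1) / r * D * r = (q ^ m + 1) / r * r * D by ring, Nat.div_mul_cancel hrN, pow_mul]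
      refine Subtype.ext ?_
      rw [Matrix.SpecialLinearGroup.coe_pow, ← hc, ← map_pow, hD, ← hF,
        FiniteField.pow_card_sub_one_eq_one c hc0, map_one, Matrix.SpecialLinearGroup.coe_one]
    set y : GL (Fin n) F := Matrix.SpecialLinearGroup.toGL Y with hy
    have hyord : orderOf y = r := by
      rw [hy, orderOf_injective _ Matrix.SpecialLinearGroup.toGL_injective]
      exact orderOf_eq_prime hYr hY1
    -- Sylow: the element is conjugate into the torus
    haveI : Finite (GL (Fin n) F) := inferInstance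
    have hvr : (Nat.card (GL (Fin n) F)).factorization r = (q ^ n - 1).factorization r := by
      rw [Matrix.card_GL_field, Nat.factorization_prod_apply]
      · rw [Finset.sum_eq_single_of_mem (⟨0, by omega⟩ : Fin n) (Finset.mem_univ _)]
        · simp [hF]
        · intro i _ hi
          have hi0 : 0 < (i : ℕ) := Nat.pos_of_ne_zero fun h => hi (Fin.ext h)
          refine Nat.factorization_eq_zero_of_not_dvd fun h => ?_
          rw [hF, show q ^ n - q ^ (i : ℕ) = q ^ (i : ℕ) * (q ^ (n - i) - 1) by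
            rw [Nat.mul_sub, mul_one, ← pow_add, Nat.add_sub_cancel' i.2.le]] at h
          rcases hr.dvd_mul.1 h with h' | h'
          · have hrq := hr.dvd_of_dvd_pow h'
            have h2 := Nat.dvd_sub (hrq.trans (dvd_pow_self q (show n ≠ 0 by omega))) hrd
            rw [Nat.sub_sub_self (Nat.one_le_pow _ _ (by omega))] at h2
            exact hr.ne_one (Nat.dvd_one.1 h2)
          · exact hrmin (n - i) (by omega) (by omega) h'
      · intro i _
        rw [hF]
        exact Nat.sub_ne_zero_of_lt (Nat.pow_lt_pow_right (by omega) i.2)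
    obtain ⟨P₀⟩ := (inferInstance : Nonempty (Sylow r Eˣ))
    have hP₀ : Nat.card ((P₀ : Subgroup Eˣ).map ψ) = r ^ (Nat.card (GL (Fin n) F)).factorization r := by
      rw [Nat.card_congr ((P₀ : Subgroup Eˣ).equivMapOfInjective ψ hψinj).toEquiv.symm, P₀.card_eq_multiplicity,
        Nat.card_units, hEc, hvr]
    let PE : Sylow r (GL (Fin n) F) := Sylow.ofCard _ hP₀
    have hyp : IsPGroup r (Subgroup.zpowers y) :=
      IsPGroup.of_card (n := 1) (by rw [Nat.card_zpowers, hyord, pow_one])
    obtain ⟨Q, hQ⟩ := hyp.exists_le_sylow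
    obtain ⟨P, hP⟩ := MulAction.exists_smul_eq (GL (Fin n) F) Q PE
    have hmem : P * y * P⁻¹ ∈ (PE : Subgroup (GL (Fin n) F)) := by
      rw [← hP]
      show P * y * P⁻¹ ∈ MulAut.conj P • (Q : Subgroup (GL (Fin n) F))
      exact ⟨y, hQ (Subgroup.mem_zpowers y), rfl⟩
    obtain ⟨u, -, hu⟩ : P * y * P⁻¹ ∈ (P₀ : Subgroup Eˣ).map ψ := hmem
    have hxord : orderOf (P * y * P⁻¹) = r := by
      rw [← MulAut.conj_apply, MulEquiv.orderOf_eq, hyord]
    obtain ⟨hcyc, hcardC⟩ := Cfsg.Agent.S2638.result (p := p) hF (by omega) hr hrp hord (P * y * P⁻¹) hxord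
    have hle : ψ.range ≤ Subgroup.centralizer ({P * y * P⁻¹} : Set (GL (Fin n) F)) := by
      rintro _ ⟨v, rfl⟩
      rw [Subgroup.mem_centralizer_singleton_iff, ← hu, ← map_mul, ← map_mul, mul_comm]
    have heq : ψ.range = Subgroup.centralizer ({P * y * P⁻¹} : Set (GL (Fin n) F)) := by
      refine Subgroup.eq_of_le_of_card_ge hle ?_
      rw [hcardC, Nat.card_congr (MonoidHom.ofInjective hψinj).toEquiv.symm, Nat.card_units, hEc]
    obtain ⟨v, hv⟩ : P * Matrix.SpecialLinearGroup.toGL X * P⁻¹ ∈ ψ.range := by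
      rw [heq, Subgroup.mem_centralizer_singleton_iff, hy]
      have hc : Commute (Matrix.SpecialLinearGroup.toGL X) (Matrix.SpecialLinearGroup.toGL Y) :=
        ((Commute.refl X).pow_right _).map _
      have := hc.eq
      simp only [mul_assoc, inv_mul_cancel_left]
      rw [← mul_assoc (Matrix.SpecialLinearGroup.toGL X), this, mul_assoc]
    have hvS : v ^ S = 1 := by
      rw [← hψdet, hv, Units.val_mul, Units.val_mul, Matrix.det_units_conj]
      exact X.2
    obtain ⟨c, hc⟩ := (hψscal _).2 (hkill v hvS M dvd_rfl)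
    rw [← QuotientGroup.mk_pow, QuotientGroup.eq_one_iff, hcen]
    refine ⟨c, ?_⟩
    have h3 : P * (Matrix.SpecialLinearGroup.toGL (X ^ M)) * P⁻¹ = ψ (v ^ M) := by
      rw [map_pow, map_pow, hv, conj_pow]
    have h4 := congrArg Units.val h3
    rw [Units.val_mul, Units.val_mul, hc] at h4
    calc ((X ^ M : Matrix.SpecialLinearGroup (Fin n) F) : Matrix (Fin n) (Fin n) F)
        = (P⁻¹ : GL (Fin n) F).val * ((P : GL (Fin n) F).val * (Matrix.SpecialLinearGroup.toGL (X ^ M)).val *
            (P⁻¹ : GL (Fin n) F).val) * (P : GL (Fin n) F).val := by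
          rw [← Units.val_mul, ← Units.val_mul, ← Units.val_mul, ← Units.val_mul]
          simp [mul_assoc]
      _ = c • 1 := by rw [h4]; simp [← Units.val_mul]
  · rintro ⟨c, hc⟩
    have hc0 : 0 < c := Nat.pos_of_ne_zero fun h => by rw [h, mul_zero] at hc; rw [hc, mul_zero] at hSN; omega
    have hMN : M = (q ^ m + 1) * c :=
      Nat.eq_of_mul_eq_mul_left hd0 (by rw [← hM, hSN, hc]; ring)
    set v : Eˣ := ω ^ (D * c) with hv
    have hvS : v ^ S = 1 := by
      rw [hv, ← pow_mul, show D * c * S = S * D * c by ring, pow_mul, ← hω, pow_orderOf_eq_one, one_pow]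
    have hX : (ψ v : Matrix (Fin n) (Fin n) F).det = 1 := (hψdet v).2 hvS
    let X : Matrix.SpecialLinearGroup (Fin n) F := ⟨(ψ v : Matrix (Fin n) (Fin n) F), hX⟩
    have key : ∀ t, (QuotientGroup.mk X : Matrix.SpecialLinearGroup (Fin n) F ⧸ Subgroup.center _) ^ t = 1 ↔
        q ^ m + 1 ∣ t := by
      intro t
      rw [← QuotientGroup.mk_pow, QuotientGroup.eq_one_iff, hcen]
      have e : ((X ^ t : Matrix.SpecialLinearGroup (Fin n) F) : Matrix (Fin n) (Fin n) F) =
          (ψ (v ^ t) : Matrix (Fin n) (Fin n) F) := by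
        rw [Matrix.SpecialLinearGroup.coe_pow, map_pow, Units.val_pow_eq_pow_val]
      rw [e, hψscal, hv, ← pow_mul, ← pow_mul, ← orderOf_dvd_iff_pow_eq_one, hω,
        show D * c * (t * D) = D * c * t * D by ring, show S * D = M * (d * D) by rw [hM]; ring,
        show D * c * t * D = D' * c * t * (d * D) by rw [hD']; ring,
        Nat.mul_dvd_mul_iff_right (Nat.mul_pos hd0 hD0)]
      constructor
      · intro h
        rw [show D' * c * t = D' * (c * t) by ring] at h
        have h2 := hcopM.dvd_of_dvd_mul_left h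
        rw [hMN, mul_comm c t] at h2
        exact Nat.dvd_of_mul_dvd_mul_right hc0 h2
      · intro h
        rw [hMN, show D' * c * t = t * c * D' by ring]
        exact dvd_mul_of_dvd_left (Nat.mul_dvd_mul_right h c) D'
    exact ⟨QuotientGroup.mk X, Nat.dvd_antisymm (orderOf_dvd_of_pow_eq_one ((key _).2 dvd_rfl))
      ((key _).1 (pow_orderOf_eq_one _))⟩

end Cfsg.Agent.S2495
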