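import Cfsg.Statements.S2500
import Cfsg.Agent.Lib.Cover.PSL
import Cfsg.Agent.Lib.Cover.PSUFour
import Cfsg.Agent.Lib.Cover.PSUThree
import Cfsg.Agent.Lib.Cover.PSpEven
import Cfsg.Agent.Lib.Cover.PSpSix
import Cfsg.Agent.Lib.Cover.G2

set_option autoImplicit false
open Cfsg

namespace Cfsg.Agent.S2500

theorem charP_of_dvd_card {F : Type} [Field F] [Fintype F] {p : ℕ} (hp : p.Prime) (h : p ∣ Fintype.card F) :
    CharP F p := by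
  obtain ⟨r, hr⟩ := CharP.exists F
  haveI := hr
  obtain ⟨n, hr', hc⟩ := FiniteField.card F r
  rw [hc] at h
  rwa [(Nat.prime_dvd_prime_iff_eq hp hr').1 (hp.dvd_of_dvd_pow h)]

/-- The infinite families of simple groups with normal covering number 2. For a finite field F: each of PSL_2(F) (|F| ≥ 4), PSL_3(F), PSL_4(F), PSU_4 over F (|F| = q²), PSU_3 over F when |F| = q² with q a power of 3, PSp_{2m}(F) for |F| even, m ≥ 2 and (m, |F|) ≠ (2, 2), PSp_6(F) for |F| a power of 3, and G_2(F) (automorphisms of the split octonions) for |F| = 2^a ≥ 4 is the union of the conjugates of two proper subgroups: there are proper subgroups H, K such that every element is conjugate into H or into K. -/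
theorem result {F : Type} [Field F] [Fintype F] :
    (4 ≤ Fintype.card F → (∃ H K : Subgroup (Matrix.ProjectiveSpecialLinearGroup (Fin 2) F), H ≠ ⊤ ∧ K ≠ ⊤ ∧ ∀ g : (Matrix.ProjectiveSpecialLinearGroup (Fin 2) F), ∃ x : (Matrix.ProjectiveSpecialLinearGroup (Fin 2) F), x * g * x⁻¹ ∈ H ∨ x * g * x⁻¹ ∈ K)) ∧
    (∃ H K : Subgroup (Matrix.ProjectiveSpecialLinearGroup (Fin 3) F), H ≠ ⊤ ∧ K ≠ ⊤ ∧ ∀ g : (Matrix.ProjectiveSpecialLinearGroup (Fin 3) F), ∃ x : (Matrix.ProjectiveSpecialLinearGroup (Fin 3) F), x * g * x⁻¹ ∈ H ∨ x * g * x⁻¹ ∈ K) ∧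
    (∃ H K : Subgroup (Matrix.ProjectiveSpecialLinearGroup (Fin 4) F), H ≠ ⊤ ∧ K ≠ ⊤ ∧ ∀ g : (Matrix.ProjectiveSpecialLinearGroup (Fin 4) F), ∃ x : (Matrix.ProjectiveSpecialLinearGroup (Fin 4) F), x * g * x⁻¹ ∈ H ∨ x * g * x⁻¹ ∈ K) ∧
    (∀ q : ℕ, Fintype.card F = q ^ 2 → (∃ H K : Subgroup (Cfsg.PSU 4 F q), H ≠ ⊤ ∧ K ≠ ⊤ ∧ ∀ g : (Cfsg.PSU 4 F q), ∃ x : (Cfsg.PSU 4 F q), x * g * x⁻¹ ∈ H ∨ x * g * x⁻¹ ∈ K)) ∧
    (∀ q a : ℕ, Fintype.card F = q ^ 2 → 1 ≤ a → q = 3 ^ a → (∃ H K : Subgroup (Cfsg.PSU 3 F q), H ≠ ⊤ ∧ K ≠ ⊤ ∧ ∀ g : (Cfsg.PSU 3 F q), ∃ x : (Cfsg.PSU 3 F q), x * g * x⁻¹ ∈ H ∨ x * g * x⁻¹ ∈ K)) ∧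
    (∀ m : ℕ, 2 ≤ m → ¬ Odd (Fintype.card F) → ¬ (m = 2 ∧ Fintype.card F = 2) → (∃ H K : Subgroup (Cfsg.PSp m F), H ≠ ⊤ ∧ K ≠ ⊤ ∧ ∀ g : (Cfsg.PSp m F), ∃ x : (Cfsg.PSp m F), x * g * x⁻¹ ∈ H ∨ x * g * x⁻¹ ∈ K)) ∧
    (∀ a : ℕ, 1 ≤ a → Fintype.card F = 3 ^ a → (∃ H K : Subgroup (Cfsg.PSp 3 F), H ≠ ⊤ ∧ K ≠ ⊤ ∧ ∀ g : (Cfsg.PSp 3 F), ∃ x : (Cfsg.PSp 3 F), x * g * x⁻¹ ∈ H ∨ x * g * x⁻¹ ∈ K)) ∧
    (∀ a : ℕ, 2 ≤ a → Fintype.card F = 2 ^ a → (∃ H K : Subgroup (Cfsg.Lie.G2 F), H ≠ ⊤ ∧ K ≠ ⊤ ∧ ∀ g : (Cfsg.Lie.G2 F), ∃ x : (Cfsg.Lie.G2 F), x * g * x⁻¹ ∈ H ∨ x * g * x⁻¹ ∈ K)) := by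
  refine ⟨fun _ => Lib.Cover.twoCover_PSL_two, Lib.Cover.twoCover_PSL_three, Lib.Cover.twoCover_PSL_four,
    fun q hF => Lib.Cover.twoCover_PSU_four hF, fun q a hF ha hq => ?_, fun m hm hodd _ => ?_, fun a ha hF => ?_,
    fun a ha hF => ?_⟩
  · haveI : CharP F 3 := charP_of_dvd_card Nat.prime_three
      (by rw [hF, hq, ← pow_mul]; exact dvd_pow_self 3 (by omega))
    exact Lib.Cover.U3.twoCover_PSU_three hF ⟨a, hq⟩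
  · haveI : CharP F 2 := charP_of_dvd_card Nat.prime_two (even_iff_two_dvd.1 (Nat.not_odd_iff_even.1 hodd))
    exact Lib.Cover.twoCover_PSp_even hm
  · haveI : CharP F 3 := charP_of_dvd_card Nat.prime_three (by rw [hF]; exact dvd_pow_self 3 (by omega))
    exact Lib.Cover.Sp6.twoCover_PSp_six
  · haveI : CharP F 2 := charP_of_dvd_card Nat.prime_two (by rw [hF]; exact dvd_pow_self 2 (by omega))
    exact Lib.Cover.G2C.twoCover_G2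

end Cfsg.Agent.S2500
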