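import Cfsg.Statements.S2503
import Mathlib
import Cfsg.Agent.Lib.Dickson.Orders
-- import your own Cfsg.Agent.* helpers here

set_option autoImplicit false
open Cfsg

namespace Cfsg.Agent.S2503

open Matrix

variable {F : Type*} [Field F]

local notation "SL2" => Matrix.SpecialLinearGroup (Fin 2) F

/-- Multiplication by norm one elements of `F(ω)`, `ω² = ω + d`, in the basis `1, ω`. -/
def torus [CharP F 2] (d : F) : Subgroup SL2 where
  carrier := {g | g 0 1 = d * g 1 0 ∧ g 1 1 = g 0 0 + g 1 0}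
  one_mem' := by simp
  mul_mem' := fun {g h} ⟨h1, h2⟩ ⟨h3, h4⟩ => by
    constructor
    · show (g.1 * h.1) 0 1 = d * (g.1 * h.1) 1 0
      simp [Matrix.mul_apply, h1, h2, h3, h4]
      ring
    · show (g.1 * h.1) 1 1 = (g.1 * h.1) 0 0 + (g.1 * h.1) 1 0
      simp [Matrix.mul_apply, h1, h2, h3, h4]
      ring
  inv_mem' := fun {g} ⟨h1, h2⟩ => by
    rw [SpecialLinearGroup.SL2_inv_expl]
    constructor
    · simp [h1]
    · simp [h2, CharTwo.neg_eq, add_assoc, CharTwo.add_self_eq_zero]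

/-- The upper unitriangular group. -/
def uni : Subgroup SL2 where
  carrier := {g | g 1 0 = 0 ∧ g 0 0 = 1}
  one_mem' := by simp
  mul_mem' := fun {g h} ⟨h1, h2⟩ ⟨h3, h4⟩ => by
    simp [Matrix.mul_apply, h1, h2, h3, h4]
  inv_mem' := fun {g} ⟨h1, h2⟩ => by
    have h := g.2
    rw [Matrix.det_fin_two, h1, h2] at h
    simp [SpecialLinearGroup.coe_inv, Matrix.adjugate_fin_two, h1]
    simpa using h

theorem det_uni {g : SL2} (hg : g ∈ (uni : Subgroup SL2)) : g 1 1 = 1 := by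
  have h := g.2
  rw [Matrix.det_fin_two, hg.1, hg.2] at h
  simpa using h

noncomputable def uniEquiv : (uni : Subgroup SL2) ≃ F where
  toFun g := g.1 0 1
  invFun t := ⟨⟨!![1, t; 0, 1], by simp [Matrix.det_fin_two]⟩, ⟨by simp, by simp⟩⟩
  left_inv g := by
    apply Subtype.ext
    apply Matrix.SpecialLinearGroup.ext
    intro i j
    fin_cases i <;> fin_cases j <;> simp [g.2.1, g.2.2, det_uni g.2]
  right_inv t := by simp

/-- The quadratic form of the norm. -/
def Q (d : F) (x y : F) : F := x ^ 2 + x * y + d * y ^ 2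

theorem Q_mul_sq (d c x y : F) : Q d (c * x) (c * y) = c ^ 2 * Q d x y := by unfold Q; ring

theorem Q_ne_zero [CharP F 2] {d : F} (hd : ∀ r : F, r ^ 2 + r ≠ d) {x y : F} (h : x ≠ 0 ∨ y ≠ 0) : Q d x y ≠ 0 := by
  intro hQ
  by_cases hy : y = 0
  · subst hy
    simp [Q] at hQ
    simp [hQ] at h
  · refine hd (x / y) ?_
    have : (x / y) ^ 2 + x / y = (Q d x y) / y ^ 2 - d := by unfold Q; field_simp; ring
    rw [this, hQ, zero_div, zero_sub, CharTwo.neg_eq]

/-- `SL₂ = T U T`. -/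
theorem exists_tut [Finite F] [CharP F 2] {d : F} (hd : ∀ r : F, r ^ 2 + r ≠ d) (g : SL2) :
    ∃ a ∈ torus d, ∃ b ∈ (uni : Subgroup SL2), ∃ c ∈ torus d, g = a * b * c := by
  have h2 : (2 : F) = 0 := CharTwo.two_eq_zero
  have sq : ∀ w : F, ∃ r, r ^ 2 = w := fun w => by
    obtain ⟨r, hr⟩ := (frobeniusEquiv F 2).surjective w
    exact ⟨r, hr⟩
  have hdet : g 0 0 * g 1 1 - g 0 1 * g 1 0 = 1 := by rw [← Matrix.det_fin_two]; exact g.2
  set A := Q d (g 0 0) (g 1 0) + 1 with hA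
  set C := Q d (g 0 1) (g 1 1) + d with hC
  obtain ⟨x, y, hxy, hz⟩ : ∃ x y : F, (x ≠ 0 ∨ y ≠ 0) ∧
      Q d (g 0 0 * x + g 0 1 * y) (g 1 0 * x + g 1 1 * y) = Q d x y := by
    obtain ⟨sA, hsA⟩ := sq A
    obtain ⟨sC, hsC⟩ := sq C
    have key : ∀ x y : F, Q d (g 0 0 * x + g 0 1 * y) (g 1 0 * x + g 1 1 * y) =
        Q d x y + (A * x ^ 2 + C * y ^ 2) := by
      intro x y
      rw [hA, hC]
      unfold Q
      linear_combination (x * y) * hdet + (g 0 0 * g 0 1 * x * y + g 0 1 * g 1 0 * x * y +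
        d * g 1 0 * g 1 1 * x * y - x ^ 2 - d * y ^ 2) * h2
    by_cases h : A = 0
    · exact ⟨1, 0, Or.inl one_ne_zero, by rw [key, h]; ring⟩
    · refine ⟨sC, sA, Or.inr fun h' => h (by rw [← hsA, h', zero_pow two_ne_zero]), ?_⟩
      rw [key, hsA, hsC]
      linear_combination A * C * h2
  obtain ⟨r, hr⟩ := sq (Q d x y)⁻¹
  have hQ := Q_ne_zero hd hxy
  have h1 : Q d (r * x) (r * y) = 1 := by rw [Q_mul_sq, hr, inv_mul_cancel₀ hQ]
  set x' := r * x
  set y' := r * y
  set u := g 0 0 * x' + g 0 1 * y' with hu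
  set w := g 1 0 * x' + g 1 1 * y' with hw
  have h3 : Q d u w = 1 := by
    rw [show u = r * (g 0 0 * x + g 0 1 * y) by rw [hu]; ring, show w = r * (g 1 0 * x + g 1 1 * y) by rw [hw]; ring,
      Q_mul_sq, hz, hr, inv_mul_cancel₀ hQ]
  have hdetT : ∀ a b : F, Q d a b = 1 → (!![a, d * b; b, a + b] : Matrix (Fin 2) (Fin 2) F).det = 1 := by
    intro a b h
    rw [Matrix.det_fin_two_of, ← h]
    unfold Q
    linear_combination (-(d * b ^ 2)) * h2
  set v : SL2 := ⟨!![x', d * y'; y', x' + y'], hdetT _ _ h1⟩ with hv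
  set a : SL2 := ⟨!![u, d * w; w, u + w], hdetT _ _ h3⟩ with ha
  have hvT : v ∈ torus d := ⟨by simp [hv], by simp [hv]⟩
  have haT : a ∈ torus d := ⟨by simp [ha], by simp [ha]⟩
  refine ⟨a, haT, a⁻¹ * g * v, ?_, v⁻¹, inv_mem hvT, by group⟩
  have e0 : (g * v).1 0 0 = u := by
    show (g.1 * v.1) 0 0 = u
    simp [hv, hu, Matrix.mul_apply]
  have e1 : (g * v).1 1 0 = w := by
    show (g.1 * v.1) 1 0 = w
    simp [hv, hw, Matrix.mul_apply]
  have ea : (a⁻¹).1 = !![u + w, -(d * w); -w, u] := by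
    show Matrix.adjugate a.1 = _
    simp [ha, Matrix.adjugate_fin_two]
  constructor
  · show ((a⁻¹).1 * g.1 * v.1) 1 0 = 0
    rw [Matrix.mul_assoc, show g.1 * v.1 = (g * v).1 from rfl, Matrix.mul_apply, Fin.sum_univ_two, e0, e1, ea]
    simp
    ring
  · show ((a⁻¹).1 * g.1 * v.1) 0 0 = 1
    rw [Matrix.mul_assoc, show g.1 * v.1 = (g * v).1 from rfl, Matrix.mul_apply, Fin.sum_univ_two, e0, e1, ea]
    simp
    rw [← h3]
    unfold Q
    linear_combination (-(d * w ^ 2)) * h2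

theorem isCyclic_torus [Finite F] [CharP F 2] {d : F} (hd : ∀ r : F, r ^ 2 + r ≠ d) : IsCyclic (torus d) := by
  haveI : Fact (∀ r : F, r ^ 2 ≠ d + 1 * r) := ⟨fun r h => hd r (by
    rw [h, one_mul, add_assoc, CharTwo.add_self_eq_zero, add_zero])⟩
  let f : torus d →* QuadraticAlgebra F d 1 :=
    { toFun := fun g => ⟨g.1 0 0, g.1 1 0⟩
      map_one' := by ext <;> simp [QuadraticAlgebra.re_one, QuadraticAlgebra.im_one]
      map_mul' := fun g h => by
        obtain ⟨h1, h2⟩ := g.2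
        ext <;> simp [Matrix.mul_apply, h1, h2] <;> ring }
  refine isCyclic_of_injective_ringHom f ?_
  intro g h e
  obtain ⟨g1, g2⟩ := g.2
  obtain ⟨k1, k2⟩ := h.2
  have e0 : g.1 0 0 = h.1 0 0 := congrArg QuadraticAlgebra.re e
  have e1 : g.1 1 0 = h.1 1 0 := congrArg QuadraticAlgebra.im e
  refine Subtype.ext (Matrix.SpecialLinearGroup.ext _ _ fun i j => ?_)
  fin_cases i <;> fin_cases j <;> simp [g1, g2, k1, k2, e0, e1]

theorem card_torus [Fintype F] [CharP F 2] {d : F} (hd : ∀ r : F, r ^ 2 + r ≠ d) :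
    Nat.card (torus d) = Fintype.card F + 1 := by
  classical
  have h2 : (2 : F) = 0 := CharTwo.two_eq_zero
  let f : Fˣ × torus d → {z : F × F // z ≠ 0} := fun p =>
    ⟨((p.1 : F) * p.2.1 0 0, (p.1 : F) * p.2.1 1 0), fun h => by
      simp only [Prod.mk_eq_zero, mul_eq_zero, Units.ne_zero, false_or] at h
      have := p.2.1.2
      rw [Matrix.det_fin_two, h.1, h.2] at this
      simp at this⟩
  have hT : ∀ g : torus d, Q d (g.1 0 0) (g.1 1 0) = 1 := fun g => by
    obtain ⟨h1, h2'⟩ := g.2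
    have := g.1.2
    rw [Matrix.det_fin_two, h1, h2'] at this
    refine Eq.trans ?_ this
    unfold Q
    linear_combination (d * g.1 1 0 ^ 2) * h2
  have hb : Function.Bijective f := by
    constructor
    · rintro ⟨c, g⟩ ⟨c', g'⟩ h
      simp only [f, Subtype.mk.injEq, Prod.mk.injEq] at h
      have hc : (c : F) ^ 2 = (c' : F) ^ 2 := by
        have := congrArg₂ (Q d) h.1 h.2
        rwa [Q_mul_sq, Q_mul_sq, hT, hT, mul_one, mul_one] at this
      obtain rfl : c = c' := Units.ext (CharTwo.sq_inj.mp hc)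
      obtain ⟨g1, g2⟩ := g.2
      obtain ⟨k1, k2⟩ := g'.2
      have e0 := mul_left_cancel₀ c.ne_zero h.1
      have e1 := mul_left_cancel₀ c.ne_zero h.2
      refine Prod.ext rfl (Subtype.ext (Matrix.SpecialLinearGroup.ext _ _ fun i j => ?_))
      fin_cases i <;> fin_cases j <;> simp [g1, g2, k1, k2, e0, e1]
    · rintro ⟨⟨x, y⟩, hz⟩
      have hxy : x ≠ 0 ∨ y ≠ 0 := by
        by_contra h; push Not at h; exact hz (by rw [h.1, h.2]; rfl)
      obtain ⟨r, hr⟩ := (frobeniusEquiv F 2).surjective (Q d x y)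
      have hr' : r ^ 2 = Q d x y := hr
      have hr0 : r ≠ 0 := fun h => Q_ne_zero hd hxy (by rw [← hr', h, zero_pow two_ne_zero])
      have hdet : (!![r⁻¹ * x, d * (r⁻¹ * y); r⁻¹ * y, r⁻¹ * x + r⁻¹ * y] : Matrix (Fin 2) (Fin 2) F).det = 1 := by
        rw [Matrix.det_fin_two_of, ← inv_mul_cancel₀ (pow_ne_zero 2 hr0), ← inv_pow]
        rw [hr']
        unfold Q
        linear_combination (-(d * y ^ 2 * (r⁻¹) ^ 2)) * h2
      refine ⟨(Units.mk0 r hr0, ⟨⟨_, hdet⟩, ⟨by simp, by simp⟩⟩), ?_⟩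
      simp [f, hr0]
  have h := Nat.card_eq_of_bijective f hb
  rw [Nat.card_prod, Nat.card_eq_fintype_card (α := Fˣ), Fintype.card_units,
    Nat.card_eq_fintype_card (α := {z : F × F // z ≠ 0}), Fintype.card_subtype_compl, Fintype.card_prod,
    Fintype.card_subtype_eq] at h
  have hq : 2 ≤ Fintype.card F := Fintype.one_lt_card
  refine Nat.eq_of_mul_eq_mul_left (show 0 < Fintype.card F - 1 by omega) ?_
  have e := Nat.mul_self_sub_mul_self_eq (Fintype.card F) 1
  rw [mul_one] at e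
  rw [h, e, mul_comm]

/-- Let F be a finite field with q = 2^t ≥ 4 elements and L = PSL(2,F). Then L has a cyclic subgroup A of order q + 1 and an elementary abelian 2-subgroup B of order q such that L = ABA: every element of L is a product a·b·a' with a, a' ∈ A and b ∈ B. -/
theorem result {F : Type*} [Field F] [Fintype F]
    (h2 : 2 ∣ Fintype.card F) (h4 : 4 ≤ Fintype.card F) :
    ∃ A B : Subgroup (Matrix.ProjectiveSpecialLinearGroup (Fin 2) F),
      IsCyclic A ∧ Nat.card A = Fintype.card F + 1 ∧ IsMulCommutative B ∧ (∀ b ∈ B, b * b = 1) ∧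
        Nat.card B = Fintype.card F ∧
        ∀ g : Matrix.ProjectiveSpecialLinearGroup (Fin 2) F, ∃ a ∈ A, ∃ b ∈ B, ∃ c ∈ A, g = a * b * c := by
  classical
  obtain ⟨p, hp⟩ := CharP.exists F
  haveI := Fact.mk (CharP.char_is_prime F p)
  obtain ⟨n, hpp, hn⟩ := FiniteField.card F p
  obtain rfl : p = 2 := ((Nat.prime_dvd_prime_iff_eq Nat.prime_two hpp).mp (Nat.prime_two.dvd_of_dvd_pow (hn ▸ h2))).symm
  have h20 : (2 : F) = 0 := CharTwo.two_eq_zero
  obtain ⟨d, hd⟩ : ∃ d : F, ∀ r : F, r ^ 2 + r ≠ d := by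
    by_contra h
    push Not at h
    have hs : Function.Surjective (fun r : F => r ^ 2 + r) := h
    have := Finite.injective_iff_surjective.mpr hs (show (fun r : F => r ^ 2 + r) 0 = (fun r : F => r ^ 2 + r) 1 by
      simp [CharTwo.add_self_eq_zero, one_add_one_eq_two, h20])
    exact zero_ne_one this
  set π := QuotientGroup.mk' (Subgroup.center (Matrix.SpecialLinearGroup (Fin 2) F))
  have hπ : Function.Injective π := by
    rw [← MonoidHom.ker_eq_bot_iff, QuotientGroup.ker_mk', eq_bot_iff]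
    intro z hz
    obtain ⟨a, b, c⟩ := Cfsg.Lib.Dickson.mem_center_sl hz
    have hdet := z.2
    rw [Matrix.det_fin_two, a, b, c, mul_zero, sub_zero, ← pow_two] at hdet
    have : z 0 0 = 1 := CharTwo.sq_inj.mp (by rw [hdet, one_pow])
    rw [Subgroup.mem_bot]
    refine Matrix.SpecialLinearGroup.ext _ _ fun i j => ?_
    fin_cases i <;> fin_cases j <;> simp [a, b, c, this]
  haveI := isCyclic_torus hd
  refine ⟨(torus d).map π, uni.map π,
    isCyclic_of_surjective _ ((torus d).equivMapOfInjective π hπ).surjective, ?_, ?_, ?_, ?_, ?_⟩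
  · rw [Subgroup.card_map_of_injective hπ, card_torus hd]
  · refine ⟨⟨?_⟩⟩
    rintro ⟨_, a, ha, rfl⟩ ⟨_, b, hb, rfl⟩
    refine Subtype.ext ?_
    show π a * π b = π b * π a
    rw [← map_mul, ← map_mul]
    congr 1
    refine Matrix.SpecialLinearGroup.ext _ _ fun i j => ?_
    fin_cases i <;> fin_cases j <;>
      simp [Matrix.mul_apply, ha.1, ha.2, hb.1, hb.2, det_uni ha, det_uni hb, add_comm]
  · rintro _ ⟨a, ha, rfl⟩
    rw [← map_mul, ← map_one π]
    congr 1
    refine Matrix.SpecialLinearGroup.ext _ _ fun i j => ?_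
    fin_cases i <;> fin_cases j <;>
      simp [Matrix.mul_apply, ha.1, ha.2, det_uni ha, CharTwo.add_self_eq_zero]
  · rw [Subgroup.card_map_of_injective hπ, Nat.card_congr uniEquiv, Nat.card_eq_fintype_card]
  · intro g
    obtain ⟨g, rfl⟩ := QuotientGroup.mk'_surjective _ g
    obtain ⟨a, ha, b, hb, c, hc, rfl⟩ := exists_tut hd g
    exact ⟨_, ⟨a, ha, rfl⟩, _, ⟨b, hb, rfl⟩, _, ⟨c, hc, rfl⟩, by rw [← map_mul, ← map_mul]⟩

end Cfsg.Agent.S2503
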