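import Cfsg.Statements.S2504
import Cfsg.Agent.Lib.Perm.AbelianEvenBound

set_option autoImplicit false
open Cfsg

namespace Cfsg.Agent.S2504

/-- The largest order of an abelian subgroup of the alternating group of degree n is 3^k when n = 3k, 4·3^(k−1) when n = 3k + 1, and 16·3^(k−2) when n = 3k + 2, for every k ≥ 2 (so for all degrees n ≥ 6). -/
theorem result (k : ℕ) (hk : 2 ≤ k) :
    IsGreatest {c : ℕ | ∃ A : Subgroup (alternatingGroup (Fin (3 * k))), IsMulCommutative A ∧ Nat.card A = c} (3 ^ k) ∧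
    IsGreatest {c : ℕ | ∃ A : Subgroup (alternatingGroup (Fin (3 * k + 1))), IsMulCommutative A ∧ Nat.card A = c}
      (4 * 3 ^ (k - 1)) ∧
    IsGreatest {c : ℕ | ∃ A : Subgroup (alternatingGroup (Fin (3 * k + 2))), IsMulCommutative A ∧ Nat.card A = c}
      (16 * 3 ^ (k - 2)) := by
    classical
    have hb : ∀ (n : ℕ) (A : Subgroup (alternatingGroup (Fin n))), IsMulCommutative A →
        Nat.card A ≤ Cfsg.Lib.AbelianPerm.maxProd n ∧
          (∀ j, 2 ≤ j → n = 3 * j + 2 → Nat.card A ≤ 16 * 3 ^ (j - 2)) := by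
      intro n A hA
      have hmap : IsMulCommutative (A.map (alternatingGroup (Fin n)).subtype) := ⟨⟨fun a b => Subtype.ext (by
        obtain ⟨x, hx, hxa⟩ := a.2
        obtain ⟨y, hy, hyb⟩ := b.2
        rw [Subgroup.coe_mul, Subgroup.coe_mul, ← hxa, ← hyb, ← map_mul, ← map_mul,
          show x * y = y * x from congrArg Subtype.val (hA.is_comm.comm ⟨x, hx⟩ ⟨y, hy⟩)])⟩⟩
      rw [← Subgroup.card_map_of_injective (alternatingGroup (Fin n)).subtype_injective]
      refine ⟨(Cfsg.Lib.AbelianPerm.card_le_maxProd _ hmap).trans (by rw [Fintype.card_fin]),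
        fun j hj hn => Cfsg.Lib.AbelianPerm.card_le_even hj (by rw [Fintype.card_fin, hn]) _ hmap ?_⟩
      rintro _ ⟨x, -, rfl⟩
      exact x.2
    have hcon : ∀ m j : ℕ, ∃ A : Subgroup (alternatingGroup (Fin (4 * m + 3 * j))),
        IsMulCommutative A ∧ Nat.card A = 4 ^ m * 3 ^ j := by
      intro m j
      have e2 : ∀ x : ZMod 2 × ZMod 2, Equiv.Perm.sign (Equiv.addLeft x) = 1 := by decide
      have e3 : ∀ x : ZMod 3 × ZMod 1, Equiv.Perm.sign (Equiv.addLeft x) = 1 := by decide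
      let a : Fin m ⊕ Fin j → ℕ := Sum.elim (fun _ => 2) (fun _ => 3)
      let b : Fin m ⊕ Fin j → ℕ := Sum.elim (fun _ => 2) (fun _ => 1)
      haveI : ∀ i, NeZero (a i) := fun i => by cases i <;> (dsimp only [a, Sum.elim_inl, Sum.elim_inr]; infer_instance)
      haveI : ∀ i, NeZero (b i) := fun i => by cases i <;> (dsimp only [b, Sum.elim_inl, Sum.elim_inr]; infer_instance)
      obtain ⟨A, hA, hc⟩ := Cfsg.Lib.AbelianPerm.exists_abelian_even (fun i => ZMod (a i) × ZMod (b i))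
        (fun i => by cases i <;> (dsimp only [a, b, Sum.elim_inl, Sum.elim_inr]; intro x; first | (refine Eq.trans ?_ (e2 x); congr!) | (refine Eq.trans ?_ (e3 x); congr!)))
        (n := 4 * m + 3 * j) (by simp [a, b, Fintype.sum_sum_type]; ring)
      exact ⟨A, hA, hc.trans (by simp [a, b, Fintype.prod_sum_type])⟩
    refine ⟨⟨?_, ?_⟩, ⟨?_, ?_⟩, ⟨?_, ?_⟩⟩
    · obtain ⟨A, hA, hc⟩ := Cfsg.Lib.AbelianPerm.exists_abelian_even (fun _ : Fin k => ZMod 3)
        (fun _ x => by revert x; decide) (n := 3 * k) (by simp [mul_comm])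
      exact ⟨A, hA, hc.trans (by simp)⟩
    · rintro _ ⟨A, hA, rfl⟩
      exact (hb _ A hA).1.trans_eq (Cfsg.Lib.AbelianPerm.maxProd_three_mul k)
    · obtain ⟨A, hA, hc⟩ := hcon 1 (k - 1)
      rw [show 3 * k + 1 = 4 * 1 + 3 * (k - 1) by omega]
      exact ⟨A, hA, hc.trans (by simp)⟩
    · rintro _ ⟨A, hA, rfl⟩
      exact (hb _ A hA).1.trans_eq (Cfsg.Lib.AbelianPerm.maxProd_three_mul_add_one k (by omega))
    · obtain ⟨A, hA, hc⟩ := hcon 2 (k - 2)
      rw [show 3 * k + 2 = 4 * 2 + 3 * (k - 2) by omega]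
      exact ⟨A, hA, hc.trans (by simp)⟩
    · rintro _ ⟨A, hA, rfl⟩
      exact (hb _ A hA).2 k hk rfl

end Cfsg.Agent.S2504
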