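import Cfsg.Statements.S2505
import Cfsg.Agent.Lib.Perm.AbelianBound

set_option autoImplicit false
open Cfsg

namespace Cfsg.Agent.S2505

/-- The largest order of an abelian subgroup of the symmetric group of degree n is 3^k when n = 3k, 4·3^(k−1) when n = 3k + 1, and 2·3^k when n = 3k + 2, for every k ≥ 1. -/
theorem result (k : ℕ) (hk : 1 ≤ k) :
    IsGreatest {c : ℕ | ∃ A : Subgroup (Equiv.Perm (Fin (3 * k))), IsMulCommutative A ∧ Nat.card A = c} (3 ^ k) ∧
    IsGreatest {c : ℕ | ∃ A : Subgroup (Equiv.Perm (Fin (3 * k + 1))), IsMulCommutative A ∧ Nat.card A = c}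
      (4 * 3 ^ (k - 1)) ∧
    IsGreatest {c : ℕ | ∃ A : Subgroup (Equiv.Perm (Fin (3 * k + 2))), IsMulCommutative A ∧ Nat.card A = c}
      (2 * 3 ^ k) := by
    open Cfsg.Lib.AbelianPerm in
    have key : ∀ (n c : ℕ), maxProd n = c → ∀ {ι : Type} [Fintype ι] (l : ι → ℕ) [∀ i, NeZero (l i)],
        ∑ i, l i = n → ∏ i, l i = c →
        IsGreatest {c : ℕ | ∃ A : Subgroup (Equiv.Perm (Fin n)), IsMulCommutative A ∧ Nat.card A = c} c := by
      intro n c hc ι _ l _ hs hp
      obtain ⟨A, hA, hAc, -⟩ := exists_abelian l hs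
      refine ⟨⟨A, hA, hAc.trans hp⟩, ?_⟩
      rintro _ ⟨B, hB, rfl⟩
      exact (card_le_maxProd B hB).trans (by rw [Fintype.card_fin, hc])
    have hnz : ∀ (a : ℕ) [NeZero a] (o : Option (Fin k)), NeZero (o.elim a fun _ => 3) := fun a _ o => by
      cases o <;> (dsimp only [Option.elim]; infer_instance)
    refine ⟨key _ _ (Cfsg.Lib.AbelianPerm.maxProd_three_mul k) (fun _ : Fin k => 3) (by simp [mul_comm]) (by simp),
      ?_, ?_⟩
    · obtain ⟨j, rfl⟩ : ∃ j, k = j + 1 := ⟨k - 1, by omega⟩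
      haveI : ∀ i : Option (Fin j), NeZero (i.elim 4 fun _ => 3) := fun i => by
        cases i <;> (dsimp only [Option.elim]; infer_instance)
      exact key _ _ (Cfsg.Lib.AbelianPerm.maxProd_three_mul_add_one _ (by omega))
        (fun i : Option (Fin j) => i.elim 4 fun _ => 3) (by simp [Fintype.sum_option]; omega)
        (by simp [Fintype.prod_option])
    · haveI := hnz 2
      exact key _ _ (Cfsg.Lib.AbelianPerm.maxProd_three_mul_add_two k)
        (fun i : Option (Fin k) => i.elim 2 fun _ => 3) (by simp [Fintype.sum_option]; omega)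
        (by simp [Fintype.prod_option])

end Cfsg.Agent.S2505
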