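import Mathlib
import Cfsg.Agent.Lib.Perm.AbelianEvenBound
import Cfsg.Agent.S2504

set_option autoImplicit false

namespace Cfsg.Agent.S2506

open Equiv MulAction Cfsg.Lib.AbelianPerm
open scoped Pointwise

/-! ### Arithmetic -/

theorem maxProdNoTwo_lt_succ : ∀ n, 6 ≤ n + 1 → maxProdNoTwo n < maxProdNoTwo (n + 1) := by
  intro n
  induction n using Nat.strong_induction_on with
  | _ n ih =>
    intro h
    by_cases hn : 9 ≤ n
    · obtain ⟨m, rfl⟩ : ∃ m, n = m + 9 := ⟨n - 9, by omega⟩
      rw [show m + 9 + 1 = m + 1 + 9 by ring, maxProdNoTwo, maxProdNoTwo]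
      have := ih (m + 6) (by omega) (by omega)
      rw [show m + 6 + 1 = m + 1 + 6 by ring] at this
      omega
    interval_cases n <;> first | omega | simp [maxProdNoTwo]

theorem five_mul_lt : ∀ m, 1 ≤ m → 5 * maxProdNoTwo m < maxProdNoTwo (m + 5) := by
  intro m
  induction m using Nat.strong_induction_on with
  | _ m ih =>
    intro h
    by_cases hn : 9 ≤ m
    · obtain ⟨j, rfl⟩ : ∃ j, m = j + 9 := ⟨m - 9, by omega⟩
      rw [show j + 9 + 5 = j + 5 + 9 by ring, maxProdNoTwo, maxProdNoTwo]
      have := ih (j + 6) (by omega) (by omega)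
      rw [show j + 6 + 5 = j + 5 + 6 by ring] at this
      omega
    interval_cases m <;> simp [maxProdNoTwo]

theorem sixtyfour_mul_lt : ∀ m, 64 * maxProdNoTwo m < maxProdNoTwo (m + 12) := by
  intro m
  induction m using Nat.strong_induction_on with
  | _ m ih =>
    by_cases hn : 9 ≤ m
    · obtain ⟨j, rfl⟩ : ∃ j, m = j + 9 := ⟨m - 9, by omega⟩
      rw [show j + 9 + 12 = j + 12 + 9 by ring, maxProdNoTwo, maxProdNoTwo]
      have := ih (j + 6) (by omega)
      rw [show j + 6 + 12 = j + 12 + 6 by ring] at this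
      omega
    interval_cases m <;> simp [maxProdNoTwo]

theorem maxProdNoTwo_pos : ∀ n, 0 < maxProdNoTwo n
  | 0 => one_pos
  | 1 => one_pos
  | 2 => one_pos
  | 3 => three_pos
  | 4 => four_pos
  | 5 => by simp [maxProdNoTwo]
  | 6 => by simp [maxProdNoTwo]
  | 7 => by simp [maxProdNoTwo]
  | 8 => by simp [maxProdNoTwo]
  | n + 9 => by rw [maxProdNoTwo]; exact Nat.mul_pos three_pos (maxProdNoTwo_pos _)

theorem lt_self : ∀ v, 6 ≤ v → v < maxProdNoTwo v
  | 0, h | 1, h | 2, h | 3, h | 4, h | 5, h => absurd h (by omega)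
  | 6, _ => by simp [maxProdNoTwo]
  | 7, _ => by simp [maxProdNoTwo]
  | 8, _ => by simp [maxProdNoTwo]
  | n + 9, _ => by
    have := le_maxProdNoTwo (n + 6) (by omega)
    rw [maxProdNoTwo]; omega

/-- The partitions realising the largest product without a part two. -/
theorem parts {ι : Type*} [Fintype ι] [DecidableEq ι] (f : ι → ℕ) (n : ℕ) (hn : 6 ≤ n)
    (hsum : ∑ i, f i = n) (hf : ∀ i, f i ≠ 2) (hpos : ∀ i, 0 < f i)
    (h : maxProdNoTwo n ≤ ∏ i, f i) :
    (∀ i, f i = 3 ∨ f i = 4) ∧ (Finset.univ.filter fun i => f i = 4).card ≤ 2 := by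
  constructor
  · intro i
    by_contra hi
    rw [not_or] at hi
    rw [← Finset.mul_prod_erase _ f (Finset.mem_univ i)] at h
    rw [← Finset.add_sum_erase _ f (Finset.mem_univ i)] at hsum
    have hle := prod_le_maxProdNoTwo (Finset.univ.erase i) f (fun j _ => hf j)
    set m := ∑ j ∈ Finset.univ.erase i, f j
    have h2 : maxProdNoTwo n ≤ f i * maxProdNoTwo m := h.trans (Nat.mul_le_mul_left _ hle)
    rcases Nat.lt_or_ge (f i) 6 with hlt | hge
    · have := hpos i
      have := hf i
      obtain hv | hv : f i = 1 ∨ f i = 5 := by omega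
      · rw [hv] at h2 hsum
        have := maxProdNoTwo_lt_succ m (by omega)
        rw [← hsum, add_comm 1 m] at h2
        omega
      · rw [hv] at h2 hsum
        have := five_mul_lt m (by omega)
        rw [← hsum, add_comm 5 m] at h2
        omega
    · have h3 := maxProdNoTwo_mul_le (f i) m
      rw [hsum] at h3
      have := Nat.mul_lt_mul_of_lt_of_le (lt_self _ hge) (le_refl (maxProdNoTwo m))
        (maxProdNoTwo_pos m)
      omega
  · by_contra hc
    obtain ⟨s, hs, hsc⟩ := Finset.exists_subset_card_eq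
      (s := Finset.univ.filter fun i => f i = 4) (n := 3) (by omega)
    rw [← Finset.prod_sdiff (Finset.subset_univ s)] at h
    rw [← Finset.sum_sdiff (Finset.subset_univ s)] at hsum
    have hs4 : ∀ i ∈ s, f i = 4 := fun i hi => (Finset.mem_filter.1 (hs hi)).2
    rw [Finset.prod_congr rfl hs4, Finset.prod_const, hsc] at h
    rw [Finset.sum_congr rfl hs4, Finset.sum_const, hsc] at hsum
    have hle := prod_le_maxProdNoTwo (Finset.univ \ s) f (fun j _ => hf j)
    have := sixtyfour_mul_lt (∑ j ∈ Finset.univ \ s, f j)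
    simp only [smul_eq_mul] at hsum
    rw [show ∑ j ∈ Finset.univ \ s, f j + 12 = n by omega] at this
    norm_num at h
    omega

/-! ### Orbits of large abelian groups of even permutations -/

theorem maxProd_lt : ∀ m, 4 ≤ m → maxProd m < maxProdNoTwo (m + 2)
  | 0, h | 1, h | 2, h | 3, h => absurd h (by omega)
  | 4, _ => by simp [maxProd, maxProdNoTwo]
  | 5, _ => by simp [maxProd, maxProdNoTwo]
  | 6, _ => by simp [maxProd, maxProdNoTwo]
  | n + 7, _ => by
    have := maxProd_lt (n + 4) (by omega)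
    rw [show n + 7 = n + 2 + 5 by ring, maxProd, show n + 2 + 5 + 2 = n + 9 by ring, maxProdNoTwo]
    rw [show n + 4 + 2 = n + 6 by ring, show n + 2 + 2 = n + 4 by ring] at *
    omega

variable {α : Type*} [Fintype α] [DecidableEq α]

theorem no_orbit_two (A : Subgroup (Perm α)) (hA : IsMulCommutative A)
    (hev : ∀ a ∈ A, Perm.sign a = 1) (hn : 6 ≤ Fintype.card α)
    (hc : maxProdNoTwo (Fintype.card α) ≤ Nat.card A) (ω : orbitRel.Quotient A α) :
    Nat.card ω.orbit ≠ 2 := by
  classical
  intro hω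
  set S : Finset α := ω.orbit.toFinset with hS
  have hSc : S.card = 2 := by rw [hS, Set.toFinset_card, ← Nat.card_eq_fintype_card, hω]
  have hinv : ∀ a : A, ∀ x, (a : Perm α) x ∈ S ↔ x ∈ S := fun a x => by
    simp only [hS, Set.mem_toFinset, orbitRel.Quotient.mem_orbit]
    rw [show (Quotient.mk'' ((a : Perm α) x) : orbitRel.Quotient A α) = Quotient.mk'' x from
      Quotient.sound' (⟨a, rfl⟩ : a • x ∈ orbit A x)]
  let r : A →* Perm {x // x ∉ S} :=
    { toFun := fun a => (a : Perm α).subtypePerm fun x => not_congr (hinv a x)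
      map_one' := Equiv.ext fun x => rfl
      map_mul' := fun a b => Equiv.ext fun x => rfl }
  have hr : Function.Injective r := by
    rw [injective_iff_map_eq_one]
    intro a ha
    refine Subtype.ext (eq_one_of_even_of_eq_two (hev a a.2) hSc fun x hx => ?_)
    exact congrArg Subtype.val (Equiv.ext_iff.1 ha ⟨x, hx⟩)
  rw [Nat.card_congr (MonoidHom.ofInjective hr).toEquiv] at hc
  have hR : IsMulCommutative r.range := ⟨⟨fun a b => by
    obtain ⟨x, hx⟩ := a.2
    obtain ⟨y, hy⟩ := b.2
    refine Subtype.ext ?_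
    rw [Subgroup.coe_mul, Subgroup.coe_mul, ← hx, ← hy, ← map_mul, ← map_mul, hA.is_comm.comm]⟩⟩
  have h := card_le_maxProd r.range hR
  rw [Fintype.card_subtype_compl, Fintype.card_coe, hSc] at h
  have := maxProd_lt (Fintype.card α - 2) (by omega)
  rw [Nat.sub_add_cancel (by omega)] at this
  omega

/-- `σ` preserves the fibres of `q`, moves or fixes each fibre wholly and is an involution on the
fibres of size four. -/
def Good {Q : Type*} (q : α → Q) (σ : Perm α) : Prop :=
  ∀ x, q (σ x) = q x ∧ (σ x = x → ∀ y, q y = q x → σ y = y) ∧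
    (Nat.card {y // q y = q x} = 4 → σ (σ x) = x)

theorem three_unique : ∀ s t : Perm (Fin 3), ∀ p : Fin 3, s p = t p →
    ((∀ x, s x = x) ∨ ∀ x, s x ≠ x) → ((∀ x, t x = x) ∨ ∀ x, t x ≠ x) → s = t := by
  decide +kernel

theorem four_unique : ∀ s : Perm (Fin 4), ((∀ x, s x = x) ∨ ∀ x, s x ≠ x) → (∀ x, s (s x) = x) →
    ∀ t : Perm (Fin 4), ((∀ x, t x = x) ∨ ∀ x, t x ≠ x) → (∀ x, t (t x) = x) →
      ∀ p : Fin 4, s p = t p → s = t := by
  decide +kernel

theorem four_even : ∀ s : Perm (Fin 4), Perm.sign s = 1 → (∀ x, s x ≠ x) → ∀ x, s (s x) = x := by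
  decide +kernel

theorem good_agree {Q : Type*} (q : α → Q) (σ τ : Perm α) (hσ : Good q σ) (hτ : Good q τ) (x : α)
    (hsize : Nat.card {y // q y = q x} = 3 ∨ Nat.card {y // q y = q x} = 4)
    (heq : σ x = τ x) : ∀ y, q y = q x → σ y = τ y := by
  classical
  obtain ⟨m, hm⟩ : ∃ m, Nat.card {y // q y = q x} = m := ⟨_, rfl⟩
  let e : {y // q y = q x} ≃ Fin m :=
    (Fintype.equivFin _).trans (finCongr (Nat.card_eq_fintype_card.symm.trans hm))
  let R : ∀ ρ : Perm α, Good q ρ → Perm (Fin m) := fun ρ h =>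
    e.permCongr (ρ.subtypePerm fun y => by rw [(h y).1])
  have hR : ∀ ρ (h : Good q ρ) (y : {y // q y = q x}), R ρ h (e y) = e ⟨ρ y, by rw [(h y).1]; exact y.2⟩ :=
    fun ρ h y => by
      simp only [R, Equiv.permCongr_apply, Equiv.symm_apply_apply]
      rfl
  have hfpf : ∀ ρ (h : Good q ρ), (∀ i, R ρ h i = i) ∨ ∀ i, R ρ h i ≠ i := by
    intro ρ h
    by_cases hex : ∃ y : {y // q y = q x}, ρ y = y
    · obtain ⟨y, hy⟩ := hex
      left
      intro i
      obtain ⟨z, rfl⟩ := e.surjective i
      rw [hR ρ h z]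
      exact congrArg e (Subtype.ext ((h y).2.1 hy z (z.2.trans y.2.symm)))
    · right
      intro i hi
      obtain ⟨z, rfl⟩ := e.surjective i
      rw [hR ρ h z] at hi
      exact hex ⟨z, congrArg Subtype.val (e.injective hi)⟩
  have hp : R σ hσ (e ⟨x, rfl⟩) = R τ hτ (e ⟨x, rfl⟩) := by
    rw [hR σ hσ, hR τ hτ]; exact congrArg e (Subtype.ext heq)
  have key : R σ hσ = R τ hτ := by
    rcases hsize with h3 | h4
    · obtain rfl : m = 3 := hm.symm.trans h3
      exact three_unique _ _ _ hp (hfpf σ hσ) (hfpf τ hτ)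
    · have hinv : ∀ ρ (h : Good q ρ) i, R ρ h (R ρ h i) = i := by
        intro ρ h i
        obtain ⟨z, rfl⟩ := e.surjective i
        rw [hR ρ h z, hR ρ h ⟨ρ z, _⟩]
        exact congrArg e (Subtype.ext ((h z).2.2 (by rw [z.2]; exact h4)))
      obtain rfl : m = 4 := hm.symm.trans h4
      exact four_unique _ (hfpf σ hσ) (hinv σ hσ) _ (hfpf τ hτ) (hinv τ hτ) _ hp
  intro y hy
  have h := congrArg (fun π : Perm (Fin m) => π (e ⟨y, hy⟩)) key
  simp only [hR] at h
  exact congrArg Subtype.val (e.injective h)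

theorem eq_good (A : Subgroup (Perm α)) (hA : IsMulCommutative A)
    (hev : ∀ a ∈ A, Perm.sign a = 1) (hn : 6 ≤ Fintype.card α)
    (hc : maxProdNoTwo (Fintype.card α) ≤ Nat.card A) :
    (∀ ω : orbitRel.Quotient A α, Nat.card {y // (Quotient.mk'' y : orbitRel.Quotient A α) = ω} = 3 ∨
      Nat.card {y // (Quotient.mk'' y : orbitRel.Quotient A α) = ω} = 4) ∧
    Nat.card {ω : orbitRel.Quotient A α //
      Nat.card {y // (Quotient.mk'' y : orbitRel.Quotient A α) = ω} = 4} ≤ 2 ∧
    ∀ σ, σ ∈ A ↔ Good (fun y => (Quotient.mk'' y : orbitRel.Quotient A α)) σ := by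
  classical
  haveI := Fintype.ofFinite (orbitRel.Quotient A α)
  have horb : ∀ ω : orbitRel.Quotient A α,
      Nat.card {y // (Quotient.mk'' y : orbitRel.Quotient A α) = ω} = Nat.card ω.orbit := fun ω =>
    Nat.card_congr (Equiv.subtypeEquivRight fun y => (orbitRel.Quotient.mem_orbit).symm)
  have hsum := sum_orbits A
  have hne2 := no_orbit_two A hA hev hn hc
  have hpos : ∀ ω : orbitRel.Quotient A α, 0 < Nat.card ω.orbit := fun ω => by
    have : Nonempty ω.orbit := ⟨⟨ω.out, by rw [orbitRel.Quotient.mem_orbit]; exact Quotient.out_eq' ω⟩⟩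
    exact Nat.card_pos
  have hle := card_le_prod_orbits A hA
  have hprod : ∏ ω : orbitRel.Quotient A α, Nat.card ω.orbit ≤ maxProdNoTwo (Fintype.card α) :=
    hsum ▸ prod_le_maxProdNoTwo Finset.univ _ fun ω _ => hne2 ω
  obtain ⟨h34, h4⟩ := parts (fun ω : orbitRel.Quotient A α => Nat.card ω.orbit) _ hn hsum hne2 hpos
    (hc.trans hle)
  let ev : A → ∀ ω : orbitRel.Quotient A α, ω.orbit := fun a ω => ⟨a • ω.out, by
    rw [orbitRel.Quotient.mem_orbit]
    exact (Quotient.sound' (⟨a, rfl⟩ : a • ω.out ∈ orbit A ω.out)).trans (Quotient.out_eq' ω)⟩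
  have same : ∀ (a b : A) (x y : α), (Quotient.mk'' x : orbitRel.Quotient A α) = Quotient.mk'' y →
      a • y = b • y → a • x = b • x := by
    intro a b x y hxy h
    obtain ⟨c, rfl⟩ : x ∈ orbit A y := Quotient.exact' hxy
    change a • c • y = b • c • y
    rw [← mul_smul, ← mul_smul, hA.is_comm.comm a c, hA.is_comm.comm b c, mul_smul, mul_smul, h]
  have hinj : Function.Injective ev := by
    intro a b h
    refine Subtype.ext (Equiv.ext fun x => ?_)
    exact same a b x (Quotient.mk'' x : orbitRel.Quotient A α).out (Quotient.out_eq' _).symm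
      (congrArg Subtype.val (congrFun h _))
  have hbij : Function.Bijective ev := by
    refine hinj.bijective_of_nat_card_le ?_
    rw [Nat.card_pi]
    exact hprod.trans hc
  have hq : ∀ a : A, ∀ x, (Quotient.mk'' ((a : Perm α) x) : orbitRel.Quotient A α) = Quotient.mk'' x :=
    fun a x => Quotient.sound' (⟨a, rfl⟩ : a • x ∈ orbit A x)
  have hgood : ∀ a ∈ A, Good (fun y => (Quotient.mk'' y : orbitRel.Quotient A α)) a := by
    intro a ha x
    have hfix : ∀ b : A, b • x = x → ∀ y, (Quotient.mk'' y : orbitRel.Quotient A α) = Quotient.mk'' x →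
        b • y = y := fun b hb y hy => by
      have := same b 1 y x hy (by rw [hb, one_smul])
      rwa [one_smul] at this
    refine ⟨hq ⟨a, ha⟩ x, hfix ⟨a, ha⟩, fun hsz => ?_⟩
    set ω : orbitRel.Quotient A α := Quotient.mk'' x with hω
    -- the part of `a` supported on the orbit
    obtain ⟨b, hb⟩ := hbij.2 (Function.update (ev 1) ω (ev ⟨a, ha⟩ ω))
    have hb1 : b • ω.out = (⟨a, ha⟩ : A) • ω.out := by
      have := congrArg Subtype.val (congrFun hb ω)
      rwa [Function.update_self] at this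
    have hbne : ∀ y, (Quotient.mk'' y : orbitRel.Quotient A α) ≠ ω → b • y = y := fun y hy => by
      have := congrArg Subtype.val (congrFun hb (Quotient.mk'' y))
      rw [Function.update_of_ne hy] at this
      have h := same b 1 y _ (Quotient.out_eq' _).symm this
      rwa [one_smul] at h
    have hbx : ∀ y, (Quotient.mk'' y : orbitRel.Quotient A α) = ω → b • y = a y := fun y hy =>
      same b ⟨a, ha⟩ y ω.out (hy.trans (Quotient.out_eq' ω).symm) hb1
    by_cases hax : a x = x
    · rw [hax, hax]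
    let e : {y // (Quotient.mk'' y : orbitRel.Quotient A α) = ω} ≃ Fin 4 :=
      (Fintype.equivFin _).trans (finCongr (Nat.card_eq_fintype_card.symm.trans hsz))
    have hbq : ∀ y, ((Quotient.mk'' y : orbitRel.Quotient A α) = ω ↔
        (Quotient.mk'' ((b : Perm α) y) : orbitRel.Quotient A α) = ω) := fun y => by rw [hq b y]
    set s := (b : Perm α).subtypePerm (p := fun y => (Quotient.mk'' y : orbitRel.Quotient A α) = ω) fun y => (hbq y).symm with hs
    have hsign : Perm.sign (e.permCongr s) = 1 := by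
      rw [Perm.sign_permCongr, hs, Perm.sign_subtypePerm]
      · exact hev _ b.2
      · intro y hy
        by_contra h
        exact hy (hbne y h)
    have h' := four_even _ hsign (fun i hi => by
      obtain ⟨z, rfl⟩ := e.surjective i
      rw [Equiv.permCongr_apply, Equiv.symm_apply_apply] at hi
      have hz : (b : Perm α) z = z := congrArg Subtype.val (e.injective hi)
      have hbx0 : b • x = x := same b 1 x z (z.2.symm) (by rw [one_smul]; exact hz) |>.trans (one_smul _ x)
      exact hax ((hbx x rfl).symm.trans hbx0)) (e ⟨x, rfl⟩)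
    rw [Equiv.permCongr_apply, Equiv.permCongr_apply, Equiv.symm_apply_apply,
      Equiv.symm_apply_apply] at h'
    have h'' : b • b • x = x := congrArg Subtype.val (e.injective h')
    rw [hbx x rfl] at h''
    rwa [hbx (a x) (hq ⟨a, ha⟩ x)] at h''
  refine ⟨fun ω => by rw [horb]; exact h34 ω, ?_, fun σ => ⟨hgood σ, fun hσ => ?_⟩⟩
  · rw [Nat.card_eq_fintype_card, Fintype.card_subtype]
    simpa only [horb] using h4
  obtain ⟨b, hb⟩ := hbij.2 fun ω => ⟨σ ω.out, by
    rw [orbitRel.Quotient.mem_orbit]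
    exact ((hσ ω.out).1).trans (Quotient.out_eq' ω)⟩
  have : σ = (b : Perm α) := by
    refine Equiv.ext fun x => ?_
    set ω : orbitRel.Quotient A α := Quotient.mk'' x
    refine good_agree _ σ b hσ (hgood b b.2) ω.out ?_ (congrArg Subtype.val (congrFun hb ω)).symm x
      (Quotient.out_eq' ω).symm
    have : (Quotient.mk'' ω.out : orbitRel.Quotient A α) = ω := Quotient.out_eq' ω
    simp only [this, horb]
    exact h34 ω
  rw [this]; exact b.2

omit [DecidableEq α] in
theorem good_conj {Q Q' : Type*} (q : α → Q) (q' : α → Q') (π : Q ≃ Q') (s : Perm α)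
    (hs : ∀ x, q' (s x) = π (q x)) {σ : Perm α} (h : Good q σ) : Good q' (s * σ * s⁻¹) := by
  intro x
  obtain ⟨x, rfl⟩ := s.surjective x
  have e1 : (s * σ * s⁻¹) (s x) = s (σ x) := by simp
  have e2 : (s * σ * s⁻¹) (s (σ x)) = s (σ (σ x)) := by simp
  obtain ⟨h1, h2, h3⟩ := h x
  refine ⟨?_, ?_, ?_⟩
  · rw [e1, hs, hs, h1]
  · intro hx y hy
    rw [e1] at hx
    obtain ⟨y, rfl⟩ := s.surjective y
    have hy' : q y = q x := π.injective (by rw [← hs, ← hs]; exact hy)
    have := h2 (s.injective hx) y hy'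
    simp [this]
  · intro hc
    have hcard : Nat.card {y // q y = q x} = Nat.card {y // q' y = q' (s x)} := by
      refine Nat.card_congr (Equiv.subtypeEquiv s fun y => ?_)
      rw [hs, hs, π.injective.eq_iff]
    rw [e1, e2, h3 (hcard.trans hc)]

omit [DecidableEq α] in
theorem count_eq {Q : Type*} [Fintype Q] (q : α → Q)
    (h : ∀ ω, Nat.card {y // q y = ω} = 3 ∨ Nat.card {y // q y = ω} = 4) :
    3 * Nat.card {ω // Nat.card {y // q y = ω} = 3} + 4 * Nat.card {ω // Nat.card {y // q y = ω} = 4}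
      = Fintype.card α := by
  classical
  rw [← Nat.card_eq_fintype_card, ← Nat.card_congr (Equiv.sigmaFiberEquiv q), Nat.card_sigma,
    ← Finset.sum_filter_add_sum_filter_not Finset.univ (fun ω => Nat.card {y // q y = ω} = 3),
    Finset.sum_congr rfl (g := fun _ => 3) (fun ω hω => (Finset.mem_filter.1 hω).2),
    Finset.sum_congr rfl (g := fun _ => 4)
      (fun ω hω => (h ω).resolve_left (Finset.mem_filter.1 hω).2),
    Finset.sum_const, Finset.sum_const, smul_eq_mul, smul_eq_mul,
    Nat.card_eq_fintype_card (α := {ω // Nat.card {y // q y = ω} = 3}),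
    Nat.card_eq_fintype_card (α := {ω // Nat.card {y // q y = ω} = 4}),
    Fintype.card_subtype, Fintype.card_subtype]
  rw [mul_comm, mul_comm 4]
  congr 2
  refine congrArg Finset.card (Finset.filter_congr fun ω _ => ?_)
  rcases h ω with e | e <;> omega

theorem conj_large (A B : Subgroup (Perm α)) (hA : IsMulCommutative A) (hB : IsMulCommutative B)
    (hAe : ∀ a ∈ A, Perm.sign a = 1) (hBe : ∀ b ∈ B, Perm.sign b = 1) (hn : 6 ≤ Fintype.card α)
    (hAc : maxProdNoTwo (Fintype.card α) ≤ Nat.card A)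
    (hBc : maxProdNoTwo (Fintype.card α) ≤ Nat.card B) :
    ∃ s : Perm α, Perm.sign s = 1 ∧ ∀ σ, σ ∈ B ↔ s⁻¹ * σ * s ∈ A := by
  classical
  haveI := Fintype.ofFinite (orbitRel.Quotient A α)
  haveI := Fintype.ofFinite (orbitRel.Quotient B α)
  obtain ⟨a34, a4, hAg⟩ := eq_good A hA hAe hn hAc
  obtain ⟨b34, b4, hBg⟩ := eq_good B hB hBe hn hBc
  set q := fun y : α => (Quotient.mk'' y : orbitRel.Quotient A α) with hq
  set q' := fun y : α => (Quotient.mk'' y : orbitRel.Quotient B α) with hq'
  have ca := count_eq q a34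
  have cb := count_eq q' b34
  change Nat.card {ω // Nat.card {y // q y = ω} = 4} ≤ 2 at a4
  change Nat.card {ω // Nat.card {y // q' y = ω} = 4} ≤ 2 at b4
  have key : ∀ v : ℕ, Nonempty ({ω // Nat.card {y // q y = ω} = v} ≃
      {ω // Nat.card {y // q' y = ω} = v}) := by
    intro v
    refine ⟨Fintype.equivOfCardEq ?_⟩
    rw [← Nat.card_eq_fintype_card, ← Nat.card_eq_fintype_card]
    by_cases h3 : v = 3
    · subst h3; omega
    by_cases h4 : v = 4
    · subst h4; omega
    have e1 : IsEmpty {ω // Nat.card {y // q y = ω} = v} :=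
      ⟨fun w => by rcases a34 w.1 with e | e <;> exact absurd (e.symm.trans w.2) (by omega)⟩
    have e2 : IsEmpty {ω // Nat.card {y // q' y = ω} = v} :=
      ⟨fun w => by rcases b34 w.1 with e | e <;> exact absurd (e.symm.trans w.2) (by omega)⟩
    rw [Nat.card_of_isEmpty, Nat.card_of_isEmpty]
  let π : orbitRel.Quotient A α ≃ orbitRel.Quotient B α :=
    Equiv.ofFiberEquiv fun v => (key v).some
  have hπ : ∀ ω, Nat.card {y // q' y = π ω} = Nat.card {y // q y = ω} := fun ω =>
    Equiv.ofFiberEquiv_map (fun v => (key v).some) ω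
  let fib : ∀ ω, {y // q y = ω} ≃ {y // q' y = π ω} := fun ω =>
    Fintype.equivOfCardEq (by rw [← Nat.card_eq_fintype_card, ← Nat.card_eq_fintype_card, hπ])
  let s : Perm α := (Equiv.sigmaFiberEquiv q).symm.trans
    ((Equiv.sigmaCongr π fib).trans (Equiv.sigmaFiberEquiv q'))
  have hs : ∀ x, q' (s x) = π (q x) := fun x => (fib (q x) ⟨x, rfl⟩).2
  obtain ⟨z, hz, hzq⟩ : ∃ z : Perm α, Perm.sign z = -1 ∧ ∀ x, q (z x) = q x := by
    have x₀ : α := (Fintype.card_pos_iff.1 (show 0 < Fintype.card α by omega)).some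
    have h1 : 1 < Fintype.card {y // q y = q x₀} := by
      have h34 : Nat.card {y // q y = q x₀} = 3 ∨ Nat.card {y // q y = q x₀} = 4 := a34 (q x₀)
      rw [← Nat.card_eq_fintype_card]; omega
    obtain ⟨⟨u, hu⟩, ⟨v, hv⟩, huv⟩ := Fintype.one_lt_card_iff.1 h1
    refine ⟨swap u v, Perm.sign_swap (fun h => huv (Subtype.ext h)), fun x => ?_⟩
    rcases eq_or_ne x u with rfl | hxu
    · rw [swap_apply_left, hv, hu]
    rcases eq_or_ne x v with rfl | hxv
    · rw [swap_apply_right, hv, hu]
    · rw [swap_apply_of_ne_of_ne hxu hxv]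
  obtain ⟨t, ht, htq⟩ : ∃ t : Perm α, Perm.sign t = 1 ∧ ∀ x, q' (t x) = π (q x) := by
    rcases Int.units_eq_one_or (Perm.sign s) with h | h
    · exact ⟨s, h, hs⟩
    · exact ⟨s * z, by simp [h, hz], fun x => by rw [Perm.mul_apply, hs, hzq]⟩
  refine ⟨t, ht, fun σ => ?_⟩
  rw [hAg, hBg]
  constructor
  · intro h
    have := good_conj q' q π.symm t⁻¹ (fun x => by
      rw [← Equiv.apply_eq_iff_eq π, Equiv.apply_symm_apply, ← htq]; simp) h
    simpa using this
  · intro h
    have := good_conj q q' π t htq h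
    simpa [mul_assoc] using this

theorem no_six : ∀ s : Perm (Fin 5), ¬ (Perm.sign s = 1 ∧ s ^ 6 = 1 ∧ s ^ 2 ≠ 1 ∧ s ^ 3 ≠ 1) := by
  decide +kernel

theorem main (n : ℕ) (A B : Subgroup (alternatingGroup (Fin n))) (hA : IsMulCommutative A)
    (hB : IsMulCommutative B)
    (hAmax : ∀ C : Subgroup (alternatingGroup (Fin n)), IsMulCommutative C → Nat.card C ≤ Nat.card A)
    (hBmax : ∀ C : Subgroup (alternatingGroup (Fin n)), IsMulCommutative C → Nat.card C ≤ Nat.card B) :
    ∃ g : alternatingGroup (Fin n), B = MulAut.conj g • A := by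
  classical
  have hmap : ∀ C : Subgroup (alternatingGroup (Fin n)), IsMulCommutative C →
      IsMulCommutative (C.map (alternatingGroup (Fin n)).subtype) := fun C hC => ⟨⟨fun a b => Subtype.ext (by
    obtain ⟨x, hx, hxa⟩ := a.2
    obtain ⟨y, hy, hyb⟩ := b.2
    rw [Subgroup.coe_mul, Subgroup.coe_mul, ← hxa, ← hyb, ← map_mul, ← map_mul,
      show x * y = y * x from congrArg Subtype.val (hC.is_comm.comm ⟨x, hx⟩ ⟨y, hy⟩)])⟩⟩
  rcases Nat.lt_or_ge n 6 with hn | hn
  · rcases Nat.lt_or_ge n 4 with hn3 | hn4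
    · have htop : ∀ C : Subgroup (alternatingGroup (Fin n)), IsMulCommutative C →
          (∀ D : Subgroup (alternatingGroup (Fin n)), IsMulCommutative D → Nat.card D ≤ Nat.card C) →
          C = ⊤ := by
        intro C _ h
        refine Subgroup.eq_top_of_le_card _ ?_
        have hc : IsMulCommutative (⊤ : Subgroup (alternatingGroup (Fin n))) := by
          refine ⟨⟨fun a b => Subtype.ext ?_⟩⟩
          have key : ∀ (m : ℕ), m < 4 → ∀ a b : Perm (Fin m), Perm.sign a = 1 → Perm.sign b = 1 →
              a * b = b * a := by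
            intro m hm; interval_cases m <;> decide +kernel
          exact Subtype.ext (key n hn3 _ _ (Perm.mem_alternatingGroup.1 a.1.2)
            (Perm.mem_alternatingGroup.1 b.1.2))
        simpa using h ⊤ hc
      exact ⟨1, by rw [htop A hA hAmax, htop B hB hBmax, map_one, one_smul]⟩
    -- n = 4, 5 : Sylow subgroups
    obtain ⟨p, k, hp, hk2, hfac⟩ : ∃ p k : ℕ, p.Prime ∧ k ≤ 2 ∧
        (Nat.card (alternatingGroup (Fin n))).factorization p = k ∧
        p ^ k = n ∧ (∀ C : Subgroup (alternatingGroup (Fin n)), IsMulCommutative C → Nat.card C ≤ p ^ k) := by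
      interval_cases n
      · refine ⟨2, 2, Nat.prime_two, le_rfl, ?_, rfl, fun C hC => ?_⟩
        · rw [nat_card_alternatingGroup, Nat.card_fin]
          norm_num [Nat.factorial]
          rw [show (12 : ℕ) = 2 ^ 2 * 3 by rfl, Nat.factorization_mul (by norm_num) (by norm_num),
            Nat.Prime.factorization_pow Nat.prime_two]
          simp [Nat.factorization_eq_zero_of_not_dvd (show ¬ 2 ∣ 3 by norm_num)]
        · rw [← Subgroup.card_map_of_injective (alternatingGroup (Fin 4)).subtype_injective]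
          exact (card_le_maxProd _ (hmap C hC)).trans (by rw [Fintype.card_fin]; rfl)
      · refine ⟨5, 1, by norm_num, by norm_num, ?_, rfl, fun C hC => ?_⟩
        · rw [nat_card_alternatingGroup, Nat.card_fin]
          norm_num [Nat.factorial]
          rw [show (60 : ℕ) = 5 ^ 1 * 12 by rfl, Nat.factorization_mul (by norm_num) (by norm_num),
            Nat.Prime.factorization_pow (by norm_num : Nat.Prime 5)]
          simp [Nat.factorization_eq_zero_of_not_dvd (show ¬ 5 ∣ 12 by norm_num)]
        · have h6 : Nat.card C ≤ 6 := by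
            rw [← Subgroup.card_map_of_injective (alternatingGroup (Fin 5)).subtype_injective]
            exact (card_le_maxProd _ (hmap C hC)).trans (by rw [Fintype.card_fin]; rfl)
          by_contra hlt
          have he : Nat.card C = 6 := by rw [pow_one] at hlt; omega
          have : Fact (Nat.Prime 2) := ⟨Nat.prime_two⟩
          have : Fact (Nat.Prime 3) := ⟨by norm_num⟩
          obtain ⟨a, ha⟩ := exists_prime_orderOf_dvd_card' (G := C) 2 (by omega)
          obtain ⟨b, hb⟩ := exists_prime_orderOf_dvd_card' (G := C) 3 (by omega)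
          have ho : orderOf (a * b) = 6 := by
            rw [(show Commute a b from hC.is_comm.comm a b).orderOf_mul_eq_mul_orderOf_of_coprime
              (by rw [ha, hb]; decide), ha, hb]
          have ho' : orderOf (((a * b : C) : alternatingGroup (Fin 5)) : Perm (Fin 5)) = 6 := by
            rw [Subgroup.orderOf_coe, Subgroup.orderOf_coe, ho]
          refine no_six _ ⟨Perm.mem_alternatingGroup.1 (a * b).1.2, ?_, ?_, ?_⟩
          · rw [← ho']; exact pow_orderOf_eq_one _
          · exact pow_ne_one_of_lt_orderOf (by norm_num) (by rw [ho']; norm_num)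
          · exact pow_ne_one_of_lt_orderOf (by norm_num) (by rw [ho']; norm_num)
    obtain ⟨hval, hpk, hub⟩ := hfac
    have : Fact p.Prime := ⟨hp⟩
    obtain ⟨S⟩ : Nonempty (Sylow p (alternatingGroup (Fin n))) := inferInstance
    have hS : Nat.card (S : Subgroup (alternatingGroup (Fin n))) = p ^ k := by
      rw [S.card_eq_multiplicity, hval]
    have hS' : IsMulCommutative (S : Subgroup (alternatingGroup (Fin n))) := by
      interval_cases k
      · rw [pow_zero] at hpk; omega
      · rw [pow_one] at hS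
        have := isCyclic_of_prime_card hS
        exact IsCyclic.isMulCommutative
      · exact IsPGroup.isMulCommutative_of_card_eq_prime_sq hS
    have hcard : ∀ C : Subgroup (alternatingGroup (Fin n)), IsMulCommutative C →
        (∀ D : Subgroup (alternatingGroup (Fin n)), IsMulCommutative D → Nat.card D ≤ Nat.card C) →
        Nat.card C = p ^ (Nat.card (alternatingGroup (Fin n))).factorization p := fun C hC h => by
      rw [hval]; exact le_antisymm (hub C hC) (hS ▸ h _ hS')
    obtain ⟨g, hg⟩ := MulAction.exists_smul_eq (alternatingGroup (Fin n))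
      (Sylow.ofCard A (hcard A hA hAmax)) (Sylow.ofCard B (hcard B hB hBmax))
    exact ⟨g, (congrArg (fun P : Sylow p _ => (P : Subgroup (alternatingGroup (Fin n)))) hg).symm⟩
  have hc : ∀ C : Subgroup (alternatingGroup (Fin n)), IsMulCommutative C →
      (∀ D : Subgroup (alternatingGroup (Fin n)), IsMulCommutative D → Nat.card D ≤ Nat.card C) →
      maxProdNoTwo (Fintype.card (Fin n)) ≤ Nat.card (C.map (alternatingGroup (Fin n)).subtype) := by
    intro C _ hmax
    rw [Subgroup.card_map_of_injective (alternatingGroup (Fin n)).subtype_injective, Fintype.card_fin]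
    have hval : ∀ k, 2 ≤ k → maxProdNoTwo (3 * k) = 3 ^ k ∧
        maxProdNoTwo (3 * k + 1) = 4 * 3 ^ (k - 1) ∧ maxProdNoTwo (3 * k + 2) = 16 * 3 ^ (k - 2) := by
      intro k hk
      induction k, hk using Nat.le_induction with
      | base => simp [maxProdNoTwo]
      | succ k hk ih =>
        obtain ⟨j, rfl⟩ : ∃ j, k = j + 2 := ⟨k - 2, by omega⟩
        obtain ⟨i1, i2, i3⟩ := ih
        refine ⟨?_, ?_, maxProdNoTwo_three_mul_add_two _ (by omega)⟩
        · rw [show 3 * (j + 2 + 1) = 3 * j + 9 by ring, maxProdNoTwo, show 3 * j + 6 = 3 * (j + 2) by ring, i1,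
            pow_succ]
          ring
        · rw [show 3 * (j + 2 + 1) + 1 = 3 * j + 1 + 9 by ring, maxProdNoTwo,
            show 3 * j + 1 + 6 = 3 * (j + 2) + 1 by ring, i2, show j + 2 + 1 - 1 = (j + 2 - 1) + 1 by omega,
            pow_succ]
          ring
    obtain ⟨j, hj⟩ : ∃ j, j = n / 3 := ⟨_, rfl⟩
    obtain ⟨h0, h1, h2⟩ := Cfsg.Agent.S2504.result j (by omega)
    obtain ⟨v0, v1, v2⟩ := hval j (by omega)
    have : n % 3 = 0 ∨ n % 3 = 1 ∨ n % 3 = 2 := by omega
    rcases this with e | e | e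
    · obtain ⟨⟨D, hD, hDc⟩, -⟩ := h0
      obtain rfl : n = 3 * j := by omega
      rw [v0, ← hDc]; exact hmax D hD
    · obtain ⟨⟨D, hD, hDc⟩, -⟩ := h1
      obtain rfl : n = 3 * j + 1 := by omega
      rw [v1, ← hDc]; exact hmax D hD
    · obtain ⟨⟨D, hD, hDc⟩, -⟩ := h2
      obtain rfl : n = 3 * j + 2 := by omega
      rw [v2, ← hDc]; exact hmax D hD
  have hev : ∀ C : Subgroup (alternatingGroup (Fin n)),
      ∀ a ∈ C.map (alternatingGroup (Fin n)).subtype, Perm.sign a = 1 := by
    rintro C _ ⟨x, -, rfl⟩; exact x.2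
  obtain ⟨s, hs, hsB⟩ := conj_large _ _ (hmap A hA) (hmap B hB) (hev A) (hev B)
    (by rw [Fintype.card_fin]; exact hn) (hc A hA hAmax) (hc B hB hBmax)
  let g : alternatingGroup (Fin n) := ⟨s, Perm.mem_alternatingGroup.2 hs⟩
  refine ⟨g, ?_⟩
  ext x
  rw [Subgroup.mem_pointwise_smul_iff_inv_smul_mem]
  have h := hsB (x : Perm (Fin n))
  have e : s⁻¹ * (x : Perm (Fin n)) * s = (alternatingGroup (Fin n)).subtype
      ((MulAut.conj g)⁻¹ • x) := by simp [g, MulAut.smul_def]
  rw [e, show (x : Perm (Fin n)) = (alternatingGroup (Fin n)).subtype x from rfl,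
    Subgroup.mem_map_iff_mem (alternatingGroup (Fin n)).subtype_injective,
    Subgroup.mem_map_iff_mem (alternatingGroup (Fin n)).subtype_injective] at h
  exact h

/-- In the alternating group of any degree, any two abelian subgroups of the largest possible order (among abelian subgroups) are conjugate. -/
theorem result (n : ℕ)
    (A B : Subgroup (alternatingGroup (Fin n))) (hA : IsMulCommutative A) (hB : IsMulCommutative B)
    (hAmax : ∀ C : Subgroup (alternatingGroup (Fin n)), IsMulCommutative C → Nat.card C ≤ Nat.card A)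
    (hBmax : ∀ C : Subgroup (alternatingGroup (Fin n)), IsMulCommutative C → Nat.card C ≤ Nat.card B) :
    ∃ g : alternatingGroup (Fin n), B = MulAut.conj g • A := by
  exact main n A B hA hB hAmax hBmax

end Cfsg.Agent.S2506
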