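import Cfsg.Statements.S2508
import Cfsg.Agent.Lib.Dickson.Involutions
-- import your own Cfsg.Agent.* helpers here

set_option autoImplicit false
open Cfsg

namespace Cfsg.Agent.S2508

open Cfsg.Lib.Dickson

variable {F : Type*} [Field F] [Fintype F]

local notation "PSL2" => Matrix.ProjectiveSpecialLinearGroup (Fin 2) F

/-- `q` times one less times one more. -/
theorem card_psl_split : Nat.gcd 2 (Fintype.card F - 1) * Nat.card PSL2 =
    Fintype.card F * ((Fintype.card F + 1) * (Fintype.card F - 1)) := by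
  rw [Cfsg.Lib.Linear.Two.card_PSL_two (F := F)]
  congr 1
  have e := Nat.mul_self_sub_mul_self_eq (Fintype.card F) 1
  rw [mul_one] at e
  rwa [sq]

theorem index_eq {x : PSL2} {c i : ℕ} (hc : Nat.card (Subgroup.centralizer ({x} : Set PSL2)) = c) (hc0 : 0 < c)
    (h : Nat.card PSL2 = c * i) : (Subgroup.centralizer ({x} : Set PSL2)).index = i := by
  refine Nat.eq_of_mul_eq_mul_left hc0 ?_
  rw [← h, ← Subgroup.card_mul_index (Subgroup.centralizer ({x} : Set PSL2)), hc]

theorem index_one : (Subgroup.centralizer ({(1 : PSL2)} : Set PSL2)).index = 1 :=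
  Subgroup.index_eq_one.mpr (eq_top_iff.mpr fun a _ => Subgroup.mem_centralizer_singleton_iff.mpr (by simp))

theorem not_dvd_torus (p : ℕ) [Fact p.Prime] [CharP F p] {o : ℕ}
    (ho : o ∣ (Fintype.card F + 1) / Nat.gcd 2 (Fintype.card F - 1) ∨
      o ∣ (Fintype.card F - 1) / Nat.gcd 2 (Fintype.card F - 1)) : ¬ p ∣ o := by
  intro h
  obtain ⟨n, hpp, hn⟩ := FiniteField.card F p
  have hpq : p ∣ Fintype.card F := hn ▸ dvd_pow_self p n.pos.ne'
  have h2 : 2 ≤ Fintype.card F := two_le_card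
  rcases ho with ho | ho
  · have hdvd : Nat.gcd 2 (Fintype.card F - 1) ∣ Fintype.card F + 1 := by
      rcases (Nat.dvd_prime Nat.prime_two).mp (Nat.gcd_dvd_left 2 (Fintype.card F - 1)) with h' | h'
      · rw [h']; exact one_dvd _
      · have := Nat.gcd_dvd_right 2 (Fintype.card F - 1)
        rw [h'] at this ⊢
        omega
    have := Nat.dvd_sub (h.trans (ho.trans (Nat.div_dvd_of_dvd hdvd))) hpq
    rw [show Fintype.card F + 1 - Fintype.card F = 1 by omega] at this
    exact hpp.not_dvd_one this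
  · have := Nat.dvd_sub hpq (h.trans (ho.trans (Nat.div_dvd_of_dvd (Nat.gcd_dvd_right _ _))))
    rw [show Fintype.card F - (Fintype.card F - 1) = 1 by omega] at this
    exact hpp.not_dvd_one this


/-- Let F be a finite field with q elements, q odd and q ≥ 7. If q ≡ 1 (mod 4) the conjugacy class sizes of PSL(2,F) are exactly 1, (q² − 1)/2, q(q + 1)/2, q(q − 1) and q(q + 1); if q ≡ 3 (mod 4) they are exactly 1, (q² − 1)/2, q(q − 1)/2, q(q + 1) and q(q − 1). -/
theorem result {F : Type*} [Field F] [Fintype F]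
    (hodd : ¬ 2 ∣ Fintype.card F) (h7 : 7 ≤ Fintype.card F) :
    (Fintype.card F % 4 = 1 →
      Set.range (fun g : (Matrix.ProjectiveSpecialLinearGroup (Fin 2) F) => (Subgroup.centralizer ({g} : Set (Matrix.ProjectiveSpecialLinearGroup (Fin 2) F))).index) =
        {1, (Fintype.card F ^ 2 - 1) / 2, Fintype.card F * (Fintype.card F + 1) / 2,
          Fintype.card F * (Fintype.card F - 1), Fintype.card F * (Fintype.card F + 1)}) ∧
    (Fintype.card F % 4 = 3 →
      Set.range (fun g : (Matrix.ProjectiveSpecialLinearGroup (Fin 2) F) => (Subgroup.centralizer ({g} : Set (Matrix.ProjectiveSpecialLinearGroup (Fin 2) F))).index) =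
        {1, (Fintype.card F ^ 2 - 1) / 2, Fintype.card F * (Fintype.card F - 1) / 2,
          Fintype.card F * (Fintype.card F + 1), Fintype.card F * (Fintype.card F - 1)}) := by
  classical
  obtain ⟨p, hp⟩ := CharP.exists F
  haveI := Fact.mk (CharP.char_is_prime F p)
  obtain ⟨n, hpp, hn⟩ := FiniteField.card F p
  have hd : Nat.gcd 2 (Fintype.card F - 1) = 2 := Nat.gcd_eq_left (by omega)
  have hG := card_psl_split (F := F)
  rw [hd] at hG
  have hnd := @not_dvd_torus F _ _ p _ _
  have hinv := fun (x : Matrix.ProjectiveSpecialLinearGroup (Fin 2) F) =>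
    card_centralizer_involution (x := x) (show Fintype.card F % 2 = 1 by omega) h7
  have hss := fun (x : Matrix.ProjectiveSpecialLinearGroup (Fin 2) F) => card_centralizer_semisimple (x := x)
    (show 4 ≤ Fintype.card F by omega) p
  have hspec := Cfsg.Lib.Spec.psl_two_spectrum (F := F) p (show 4 ≤ Fintype.card F by omega)
  rw [hd] at hspec
  simp only [hd] at hss hnd
  have hp2 : p ≠ 2 := by
    rintro rfl
    exact hodd (hn ▸ dvd_pow_self 2 n.pos.ne')
  set q := Fintype.card F with hq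
  have hsq' : (q + 1) * (q - 1) = q ^ 2 - 1 := by
    have e := Nat.mul_self_sub_mul_self_eq q 1
    rw [mul_one] at e
    rw [sq, e]
  have h8 : 2 ∣ q ^ 2 - 1 := by rw [← hsq']; exact (show 2 ∣ q + 1 by omega).mul_right _
  have eU : Nat.card (Matrix.ProjectiveSpecialLinearGroup (Fin 2) F) = q * ((q ^ 2 - 1) / 2) := by
    rw [← Nat.mul_div_assoc _ h8, ← hsq', ← hG, Nat.mul_div_cancel_left _ two_pos]
  have eP : Nat.card (Matrix.ProjectiveSpecialLinearGroup (Fin 2) F) = (q + 1) / 2 * (q * (q - 1)) := by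
    refine Nat.eq_of_mul_eq_mul_left two_pos ?_
    rw [hG, ← mul_assoc 2, Nat.mul_div_cancel' (show 2 ∣ q + 1 by omega)]; ring
  have eM : Nat.card (Matrix.ProjectiveSpecialLinearGroup (Fin 2) F) = (q - 1) / 2 * (q * (q + 1)) := by
    refine Nat.eq_of_mul_eq_mul_left two_pos ?_
    rw [hG, ← mul_assoc 2, Nat.mul_div_cancel' (show 2 ∣ q - 1 by omega)]; ring
  have eI1 : Nat.card (Matrix.ProjectiveSpecialLinearGroup (Fin 2) F) = (q - 1) * (q * (q + 1) / 2) := by
    rw [← Nat.mul_div_assoc _ ((show 2 ∣ q + 1 by omega).mul_left q),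
      show (q - 1) * (q * (q + 1)) = q * ((q + 1) * (q - 1)) by ring, ← hG, Nat.mul_div_cancel_left _ two_pos]
  have eI3 : Nat.card (Matrix.ProjectiveSpecialLinearGroup (Fin 2) F) = (q + 1) * (q * (q - 1) / 2) := by
    rw [← Nat.mul_div_assoc _ ((show 2 ∣ q - 1 by omega).mul_left q),
      show (q + 1) * (q * (q - 1)) = q * ((q + 1) * (q - 1)) by ring, ← hG, Nat.mul_div_cancel_left _ two_pos]
  -- the possible centralisers
  have hall : ∀ g : Matrix.ProjectiveSpecialLinearGroup (Fin 2) F, g ≠ 1 →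
      (Subgroup.centralizer ({g} : Set (Matrix.ProjectiveSpecialLinearGroup (Fin 2) F))).index = (q ^ 2 - 1) / 2 ∨
      (q % 4 = 1 → (Subgroup.centralizer ({g} : Set (Matrix.ProjectiveSpecialLinearGroup (Fin 2) F))).index =
        q * (q + 1) / 2) ∧ (q % 4 = 3 →
        (Subgroup.centralizer ({g} : Set (Matrix.ProjectiveSpecialLinearGroup (Fin 2) F))).index = q * (q - 1) / 2) ∨
      (Subgroup.centralizer ({g} : Set (Matrix.ProjectiveSpecialLinearGroup (Fin 2) F))).index = q * (q - 1) ∨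
      (Subgroup.centralizer ({g} : Set (Matrix.ProjectiveSpecialLinearGroup (Fin 2) F))).index = q * (q + 1) := by
    intro g h1
    have hm : orderOf g ∈ {m : ℕ | m ∣ p ∨ m ∣ (q - 1) / 2 ∨ m ∣ (q + 1) / 2} :=
      hspec ▸ (⟨g, rfl⟩ : orderOf g ∈ Set.range _)
    rcases hm with hm | hm
    · have h2' : orderOf g = p :=
        ((Nat.dvd_prime hpp).mp hm).resolve_left fun h => h1 (orderOf_eq_one_iff.mp h)
      exact Or.inl (index_eq (card_centralizer_unipotent p h2') (by omega) eU)
    · by_cases hsq : g ^ 2 = 1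
      · exact Or.inr (Or.inl ⟨fun h4 => index_eq ((hinv g hsq h1).1 h4) (by omega) eI1,
          fun h4 => index_eq ((hinv g hsq h1).2 h4) (by omega) eI3⟩)
      · rcases hss g hsq (hnd hm.symm) with ⟨hc, -⟩ | ⟨hc, -⟩
        · exact Or.inr (Or.inr (Or.inl (index_eq hc (by omega) eP)))
        · exact Or.inr (Or.inr (Or.inr (index_eq hc (by omega) eM)))
  have hexU : ∃ g : Matrix.ProjectiveSpecialLinearGroup (Fin 2) F,
      (Subgroup.centralizer ({g} : Set (Matrix.ProjectiveSpecialLinearGroup (Fin 2) F))).index = (q ^ 2 - 1) / 2 := by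
    obtain ⟨g, hg⟩ : p ∈ Set.range (orderOf : Matrix.ProjectiveSpecialLinearGroup (Fin 2) F → ℕ) := by
      rw [hspec]; exact Or.inl dvd_rfl
    exact ⟨g, index_eq (card_centralizer_unipotent p hg) (by omega) eU⟩
  have hexI : ∃ g : Matrix.ProjectiveSpecialLinearGroup (Fin 2) F, g ^ 2 = 1 ∧ g ≠ 1 := by
    obtain ⟨g, hg⟩ : 2 ∈ Set.range (orderOf : Matrix.ProjectiveSpecialLinearGroup (Fin 2) F → ℕ) := by
      rw [hspec]
      rcases (show q % 4 = 1 ∨ q % 4 = 3 by omega) with h | h
      · exact Or.inr (Or.inl (by omega))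
      · exact Or.inr (Or.inr (by omega))
    exact ⟨g, by have := pow_orderOf_eq_one g; rwa [hg] at this, fun h => by rw [h, orderOf_one] at hg; omega⟩
  have hexS : ∀ k, (k = (q - 1) / 2 ∨ k = (q + 1) / 2) → ∃ g : Matrix.ProjectiveSpecialLinearGroup (Fin 2) F,
      Nat.card (Subgroup.centralizer ({g} : Set (Matrix.ProjectiveSpecialLinearGroup (Fin 2) F))) = k := by
    intro k hk
    obtain ⟨g, hg⟩ : k ∈ Set.range (orderOf : Matrix.ProjectiveSpecialLinearGroup (Fin 2) F → ℕ) := by
      rw [hspec]; rcases hk with rfl | rfl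
      exacts [Or.inr (Or.inl dvd_rfl), Or.inr (Or.inr dvd_rfl)]
    refine ⟨g, ?_⟩
    have hsq : g ^ 2 ≠ 1 := fun h => by
      have := Nat.le_of_dvd (by norm_num) (hg ▸ orderOf_dvd_of_pow_eq_one h)
      omega
    have hn2 : ¬ p ∣ orderOf g := hnd (hg ▸ (by rcases hk with rfl | rfl <;> simp))
    rcases hss g hsq hn2 with ⟨hc, ho⟩ | ⟨hc, ho⟩ <;> rw [hg] at ho
    · rcases hk with rfl | rfl
      · exfalso
        have := Nat.le_of_dvd one_pos (show (q - 1) / 2 ∣ 1 by
          have := Nat.dvd_sub ho (dvd_refl ((q - 1) / 2))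
          rwa [show (q + 1) / 2 - (q - 1) / 2 = 1 by omega] at this)
        omega
      · exact hc
    · rcases hk with rfl | rfl
      · exact hc
      · exfalso
        have := Nat.le_of_dvd (by omega) ho
        omega
  obtain ⟨gU, hgU⟩ := hexU
  obtain ⟨gI, hgI, hgI1⟩ := hexI
  obtain ⟨gM, hgM⟩ := hexS _ (Or.inl rfl)
  obtain ⟨gP, hgP⟩ := hexS _ (Or.inr rfl)
  constructor <;> intro h4 <;> ext i <;> simp only [Set.mem_range, Set.mem_insert_iff, Set.mem_singleton_iff]
  · constructor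
    · rintro ⟨g, rfl⟩
      by_cases h1 : g = 1
      · subst h1; exact Or.inl index_one
      rcases hall g h1 with h | ⟨h, -⟩ | h | h
      exacts [Or.inr (Or.inl h), Or.inr (Or.inr (Or.inl (h h4))), Or.inr (Or.inr (Or.inr (Or.inl h))),
        Or.inr (Or.inr (Or.inr (Or.inr h)))]
    · rintro (rfl | rfl | rfl | rfl | rfl)
      exacts [⟨1, index_one⟩, ⟨gU, hgU⟩, ⟨gI, index_eq ((hinv gI hgI hgI1).1 h4) (by omega) eI1⟩,
        ⟨gP, index_eq hgP (by omega) eP⟩, ⟨gM, index_eq hgM (by omega) eM⟩]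
  · constructor
    · rintro ⟨g, rfl⟩
      by_cases h1 : g = 1
      · subst h1; exact Or.inl index_one
      rcases hall g h1 with h | ⟨-, h⟩ | h | h
      exacts [Or.inr (Or.inl h), Or.inr (Or.inr (Or.inl (h h4))), Or.inr (Or.inr (Or.inr (Or.inr h))),
        Or.inr (Or.inr (Or.inr (Or.inl h)))]
    · rintro (rfl | rfl | rfl | rfl | rfl)
      exacts [⟨1, index_one⟩, ⟨gU, hgU⟩, ⟨gI, index_eq ((hinv gI hgI hgI1).2 h4) (by omega) eI3⟩,
        ⟨gM, index_eq hgM (by omega) eM⟩, ⟨gP, index_eq hgP (by omega) eP⟩]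

end Cfsg.Agent.S2508
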