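import Cfsg.Statements.S2509
import Cfsg.Agent.Lib.Linear.Pronormal.Sp.Main

set_option autoImplicit false
open Cfsg

namespace Cfsg.Agent.S2509

/-- Let G be a finite direct product of groups PSp_{2m_i}(F_i) (the symplectic group on a 2m_i-dimensional space modulo its centre), where each m_i is a power of 2 (m_i = 1, giving PSL₂, is allowed), each F_i is a finite field of odd order, and each factor PSp_{2m_i}(F_i) is a simple group. Then every subgroup H of G of odd index is pronormal in G: for every g ∈ G the subgroups H and gHg⁻¹ are conjugate by an element of the subgroup they generate. -/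
theorem result {t : ℕ}
    (m : Fin t → ℕ) (F : Fin t → Type*) [∀ i, Field (F i)] [∀ i, Fintype (F i)]
    (hm : ∀ i, ∃ k : ℕ, m i = 2 ^ k) (hodd : ∀ i, Odd (Fintype.card (F i)))
    (hs : ∀ i, IsSimpleGroup (Cfsg.PSp (m i) (F i)))
    (H : Subgroup (Π i, Cfsg.PSp (m i) (F i))) (hH : Odd H.index) : Cfsg.IsPronormal H := by
  haveI : ∀ i, NeZero (2 : F i) := fun i => ⟨fun h => by
    have h2 : ringChar (F i) ∣ 2 := (CharP.cast_eq_zero_iff (F i) (ringChar (F i)) 2).1 (by exact_mod_cast h)
    rcases (Nat.dvd_prime Nat.prime_two).1 h2 with h1 | h1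
    · exact CharP.ringChar_ne_one h1
    · exact Nat.not_even_iff_odd.2 (hodd i) (Nat.even_iff.2 (FiniteField.even_card_of_char_two h1))⟩
  let f : ((i : Fin t) → Cfsg.Lib.Linear.Pronormal.SpPlanes.Sp (Fin (m i)) (F i)) →* (Π i, Cfsg.PSp (m i) (F i)) :=
    MonoidHom.pi fun i => ((QuotientGroup.mk' (Subgroup.center (Matrix.symplecticGroup (Fin (m i)) (F i)))).comp
      (Cfsg.Lib.Linear.Pronormal.SpPlanes.toSymp (m i) (F i)).toMonoidHom).comp
        (Pi.evalMonoidHom (fun i => Cfsg.Lib.Linear.Pronormal.SpPlanes.Sp (Fin (m i)) (F i)) i)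
  have hf : Function.Surjective f := by
    intro x
    choose y hy using fun i => QuotientGroup.mk'_surjective (Subgroup.center (Matrix.symplecticGroup (Fin (m i)) (F i))) (x i)
    refine ⟨fun i => (Cfsg.Lib.Linear.Pronormal.SpPlanes.toSymp (m i) (F i)).symm (y i), funext fun i => ?_⟩
    show QuotientGroup.mk' _ (Cfsg.Lib.Linear.Pronormal.SpPlanes.toSymp (m i) (F i)
      ((Cfsg.Lib.Linear.Pronormal.SpPlanes.toSymp (m i) (F i)).symm (y i))) = x i
    rw [MulEquiv.apply_symm_apply, hy]
  exact Cfsg.Lib.Linear.Pronormal.pronormal_of_comap f hf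
    (Cfsg.Lib.Linear.Pronormal.SpPlanes.pronormal_pi hm (by rwa [Subgroup.index_comap_of_surjective _ hf]))

end Cfsg.Agent.S2509
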