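import Cfsg.Statements.S2510
import Cfsg.Agent.Lib.Linear.AbsorbPSL
-- import your own Cfsg.Agent.* helpers here

set_option autoImplicit false
open Cfsg

namespace Cfsg.Agent.S2510

open Cfsg.Lib.Linear

theorem mul_dvd_lcm (p : ℕ) (hp : p.Prime) {F : Type*} [Field F] [Fintype F] [Fact p.Prime] [CharP F p] (n e : ℕ) :
    p ^ e * AbsorbPSL.singerN n (Fintype.card F) ∣ (p ^ e).lcm (AbsorbPSL.singerN n (Fintype.card F)) := by
  rcases Nat.eq_zero_or_pos n with rfl | hn
  · simp [AbsorbPSL.singerN]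
  rw [Nat.Coprime.lcm_eq_mul]
  refine Nat.Coprime.pow_left _ ((hp.coprime_iff_not_dvd).2 fun h => ?_)
  have h2 := h.trans (Nat.div_dvd_of_dvd (AbsorbPSL.gcd_dvd_geomSum n _ Fintype.card_pos))
  obtain ⟨k, hk⟩ := FiniteField.card F p
  obtain ⟨s, rfl⟩ : ∃ s, n = s + 1 := ⟨n - 1, by omega⟩
  rw [Finset.sum_range_succ', pow_zero] at h2
  refine hp.not_dvd_one ((Nat.dvd_add_right (Finset.dvd_sum fun i _ => ?_)).1 h2)
  rw [hk.2, ← pow_mul]
  exact dvd_pow_self p (by positivity)

/-- Let F be a finite field with q = p^a elements, n ≥ 2 (with q ≥ 4 when n = 2), L = PSL(n, F), and let r be a prime dividing q − 1 and not dividing n. Then for every m the direct product L × L × L × (ℤ/r)^m has the same set of element orders as L × L × L; and if n − 1 ≠ p^j for every j ≥ 0 (so never when n = 2, since 1 = p^0), then already L × L × (ℤ/r)^m has the same set of element orders as L × L. -/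
theorem result {F : Type*} [Field F] [Fintype F] (p a n r m : ℕ) (hp : p.Prime) (ha : 1 ≤ a) (hF : Fintype.card F = p ^ a)
    (hn : 2 ≤ n) (hn2 : n = 2 → 4 ≤ Fintype.card F) (hr : r.Prime) (hrq : r ∣ Fintype.card F - 1) (hrn : ¬ r ∣ n) :
    Set.range (orderOf : Matrix.ProjectiveSpecialLinearGroup (Fin n) F × Matrix.ProjectiveSpecialLinearGroup (Fin n) F × Matrix.ProjectiveSpecialLinearGroup (Fin n) F × Multiplicative (Fin m → ZMod r) → ℕ) =
      Set.range (orderOf : Matrix.ProjectiveSpecialLinearGroup (Fin n) F × Matrix.ProjectiveSpecialLinearGroup (Fin n) F × Matrix.ProjectiveSpecialLinearGroup (Fin n) F → ℕ) ∧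
    ((¬ ∃ j : ℕ, n - 1 = p ^ j) →
      Set.range (orderOf : Matrix.ProjectiveSpecialLinearGroup (Fin n) F × Matrix.ProjectiveSpecialLinearGroup (Fin n) F × Multiplicative (Fin m → ZMod r) → ℕ) =
        Set.range (orderOf : Matrix.ProjectiveSpecialLinearGroup (Fin n) F × Matrix.ProjectiveSpecialLinearGroup (Fin n) F → ℕ)) := by
  classical
  have : Fact p.Prime := ⟨hp⟩
  have : CharP F p := by
    obtain ⟨p', hc⟩ := CharP.exists F
    have := (CharP.char_is_prime F p')
    have h1 : p' ∣ Fintype.card F := by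
      rw [← CharP.cast_eq_zero_iff F p', FiniteField.cast_card_eq_zero]
    rw [hF] at h1
    rwa [← (Nat.prime_dvd_prime_iff_eq this hp).1 (this.dvd_of_dvd_pow h1)]
  have : NeZero n := ⟨by omega⟩
  obtain ⟨ω, hω⟩ := IsCyclic.exists_ofOrder_eq_natCard (α := Fˣ)
  rw [Nat.card_units, Nat.card_eq_fintype_card] at hω
  have hq1 : 1 < Fintype.card F := Fintype.one_lt_card
  obtain ⟨t, ht⟩ := hrq
  have hζ : IsPrimitiveRoot ((ω ^ t : Fˣ) : F) r := by
    refine IsPrimitiveRoot.coe_units_iff.2 (IsPrimitiveRoot.iff_orderOf.2 ?_)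
    have ht0 : t ≠ 0 := fun h => by rw [h, mul_zero] at ht; omega
    rw [orderOf_pow' _ ht0, hω, ht, Nat.gcd_eq_right (dvd_mul_left _ _),
      Nat.mul_div_cancel _ (Nat.pos_of_ne_zero ht0)]
  -- the exponent of a Sylow `p`-subgroup
  set e := Nat.clog p n
  have he : n ≤ p ^ e := Nat.le_pow_clog hp.one_lt n
  obtain ⟨e', he'⟩ : ∃ k, e = k + 1 := ⟨e - 1, by have := Nat.clog_pos hp.one_lt (show 1 < n by omega); omega⟩
  have hlt : p ^ e' < n := (Nat.lt_clog_iff_pow_lt hp.one_lt).1 (show e' < e by omega)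
  have hdich := fun x => AbsorbPSL.dichotomy p hr hζ hrn he x
  obtain ⟨y, hy⟩ := AbsorbPSL.exists_singer (n := n) (F := F) p
  have hext : ∀ (l : ℕ) (hl : l = 1 ∨ l = n - 1) (u : Matrix.SpecialLinearGroup (Fin n) F),
      Commute (u : Matrix (Fin n) (Fin n) F) (Matrix.diagonal fun i : Fin n => if i.val < l then (1 : F) else 0) →
      ∃ v : Matrix.ProjectiveSpecialLinearGroup (Fin n) F, orderOf (AbsorbPSL.cls u) ∣ orderOf v ∧ r ∣ orderOf v := by
    intro l hl u hu
    have hE : IsIdempotentElem (Matrix.diagonal fun i : Fin n => if i.val < l then (1 : F) else 0) := by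
      rw [IsIdempotentElem, Matrix.diagonal_mul_diagonal]
      congr 1; funext i; split <;> simp
    obtain ⟨h, ho, hc⟩ := AbsorbPSL.exists_orderOf_eq_of_idempotent hr hζ hrn hE
      (fun h => by
        have := congrFun (congrFun h ⟨0, by omega⟩) ⟨0, by omega⟩
        rw [Matrix.diagonal_apply_eq, if_pos (show 0 < l by omega)] at this
        exact one_ne_zero this)
      (fun h => by
        have := congrFun (congrFun h ⟨n - 1, by omega⟩) ⟨n - 1, by omega⟩
        rw [Matrix.diagonal_apply_eq, if_neg (show ¬ n - 1 < l by omega), Matrix.one_apply_eq] at this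
        exact zero_ne_one this)
    exact Absorb.exists_dvd_of_commute hr (hc u hu) ho
  constructor
  · obtain ⟨u, hu, -⟩ := AbsorbPSL.exists_unipotent p (F := F) (he' ▸ he) hlt (le_refl n)
    obtain ⟨h, -, hh⟩ := hext 1 (Or.inl rfl) 1 (by
      rw [Matrix.SpecialLinearGroup.coe_one]; exact Commute.one_left _)
    refine Absorb.absorb_cube hdich ⟨y, AbsorbPSL.cls u, h, ?_⟩
    refine Nat.lcm_dvd ((mul_dvd_lcm p hp _ _).trans ?_) (hh.trans ((Nat.dvd_lcm_right _ _).trans (Nat.dvd_lcm_right _ _)))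
    exact Nat.lcm_dvd ((he' ▸ hu).trans ((Nat.dvd_lcm_left _ _).trans (Nat.dvd_lcm_right _ _)))
      (hy.trans (Nat.dvd_lcm_left _ _))
  · intro hnp
    have hlt' : p ^ e' < n - 1 := lt_of_le_of_ne (by omega) fun h => hnp ⟨e', h.symm⟩
    obtain ⟨u, hu, huc⟩ := AbsorbPSL.exists_unipotent p (F := F) (l := n - 1) (he' ▸ he) hlt' (by omega)
    obtain ⟨v, hv, hv'⟩ := hext (n - 1) (Or.inr rfl) u huc
    refine Absorb.absorb_square hdich ⟨y, v, ?_⟩
    refine Nat.lcm_dvd ((mul_dvd_lcm p hp _ _).trans ?_) (hv'.trans (Nat.dvd_lcm_right _ _))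
    exact Nat.lcm_dvd (((he' ▸ hu).trans hv).trans (Nat.dvd_lcm_right _ _)) (hy.trans (Nat.dvd_lcm_left _ _))

end Cfsg.Agent.S2510
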