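import Cfsg.Statements.S2511
import Cfsg.Agent.Lib.Linear.AbsorbPSUElems

set_option autoImplicit false
open Cfsg

namespace Cfsg.Agent.S2511

open Cfsg.Lib.Linear
open Cfsg.Lib.Linear.Herm (frob)

theorem mul_dvd_lcm {p : ℕ} (hp : p.Prime) {q : ℕ} (hq : p ∣ q) (n e : ℕ) (hn : 0 < n) :
    p ^ e * AbsorbPSU.singerU n q ∣ (p ^ e).lcm (AbsorbPSU.singerU n q) := by
  rw [Nat.Coprime.lcm_eq_mul]
  refine Nat.Coprime.pow_left _ ((hp.coprime_iff_not_dvd).2 fun h => ?_)
  have h2 := Int.natCast_dvd.2 (h.trans (Nat.div_dvd_of_dvd (AbsorbPSU.gcd_dvd_tau n q)))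
  obtain ⟨s, rfl⟩ : ∃ s, n = s + 1 := ⟨n - 1, by omega⟩
  rw [AbsorbPSU.tau, Finset.sum_range_succ', pow_zero] at h2
  have h3 : (p : ℤ) ∣ 1 := (dvd_add_right (Finset.dvd_sum fun i _ => ?_)).1 h2
  · exact hp.not_dvd_one (by exact_mod_cast h3)
  · rw [pow_succ]
    exact dvd_mul_of_dvd_right ((dvd_neg (α := ℤ)).2 (Int.natCast_dvd_natCast.2 hq)) _

/-- Let F be a finite field with q² elements, q = p^a, n ≥ 3 with (n, q) ≠ (3, 2), L = PSU(n, q) realised over F, and let r be a prime dividing q + 1 and not dividing n. Then for every m the direct product L × L × L × (ℤ/r)^m has the same set of element orders as L × L × L; and if n − 1 is not a power of p, then already L × L × (ℤ/r)^m has the same set of element orders as L × L. -/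
theorem result {F : Type*} [Field F] [Fintype F] (p a n q r m : ℕ) (hp : p.Prime) (ha : 1 ≤ a) (hq : q = p ^ a) (hF : Fintype.card F = q ^ 2)
    (hn : 3 ≤ n) (hn3 : ¬ (n = 3 ∧ q = 2)) (hr : r.Prime) (hrq : r ∣ q + 1) (hrn : ¬ r ∣ n) :
    Set.range (orderOf : Cfsg.PSU n F q × Cfsg.PSU n F q × Cfsg.PSU n F q × Multiplicative (Fin m → ZMod r) → ℕ) = Set.range (orderOf : Cfsg.PSU n F q × Cfsg.PSU n F q × Cfsg.PSU n F q → ℕ) ∧
    ((¬ ∃ j : ℕ, n - 1 = p ^ j) →
      Set.range (orderOf : Cfsg.PSU n F q × Cfsg.PSU n F q × Multiplicative (Fin m → ZMod r) → ℕ) = Set.range (orderOf : Cfsg.PSU n F q × Cfsg.PSU n F q → ℕ)) := by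
  classical
  have : Fact p.Prime := ⟨hp⟩
  have : CharP F p := by
    obtain ⟨p', hc⟩ := CharP.exists F
    have := (CharP.char_is_prime F p')
    have h1 : p' ∣ Fintype.card F := by
      rw [← CharP.cast_eq_zero_iff F p', FiniteField.cast_card_eq_zero]
    rw [hF, hq, ← pow_mul] at h1
    rwa [← (Nat.prime_dvd_prime_iff_eq this hp).1 (this.dvd_of_dvd_pow h1)]
  have : NeZero n := ⟨by omega⟩
  have hpq : p ∣ q := hq ▸ dvd_pow_self p (by omega)
  have hq1 : 2 ≤ q := (Cfsg.Lib.Spec.UThree.char_facts p hF).2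
  obtain ⟨ω, hω⟩ := IsCyclic.exists_ofOrder_eq_natCard (α := Fˣ)
  rw [Nat.card_units, Nat.card_eq_fintype_card, hF] at hω
  obtain ⟨t, ht⟩ : r ∣ q ^ 2 - 1 := hrq.trans ⟨q - 1, by simpa using Nat.sq_sub_sq q 1⟩
  have hζ : IsPrimitiveRoot ((ω ^ t : Fˣ) : F) r := by
    refine IsPrimitiveRoot.coe_units_iff.2 (IsPrimitiveRoot.iff_orderOf.2 ?_)
    have ht0 : t ≠ 0 := fun h => by
      rw [h, mul_zero] at ht
      have : 2 ^ 2 ≤ q ^ 2 := Nat.pow_le_pow_left hq1 2
      omega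
    rw [orderOf_pow' _ ht0, hω, ht, Nat.gcd_eq_right (dvd_mul_left _ _),
      Nat.mul_div_cancel _ (Nat.pos_of_ne_zero ht0)]
  set e := Nat.clog p n
  have he : n ≤ p ^ e := Nat.le_pow_clog hp.one_lt n
  obtain ⟨e', he'⟩ : ∃ k, e = k + 1 := ⟨e - 1, by have := Nat.clog_pos hp.one_lt (show 1 < n by omega); omega⟩
  have hlt : p ^ e' < n := (Nat.lt_clog_iff_pow_lt hp.one_lt).1 (show e' < e by omega)
  have hdich := fun x => AbsorbPSU.dichotomy p hF (by omega) hr hζ hrq hrn he x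
  obtain ⟨y, hy⟩ := AbsorbPSU.exists_torus hF p (show 2 ≤ n by omega)
  obtain ⟨⟨u, hu⟩, hsq⟩ := AbsorbPSU.exists_unipotent hF p hn hlt
  constructor
  · obtain ⟨h, hh, -⟩ := AbsorbPSU.exists_orderOf_eq hF (by omega) hr hζ hrq hrn
      (E := Matrix.diagonal fun i : Fin n => if i.val < 1 then (1 : F) else 0)
      (by
        rw [IsIdempotentElem, Matrix.diagonal_mul_diagonal]
        congr 1; funext i; split <;> simp)
      (by
        rw [AbsorbPSU.ad, Matrix.diagonal_map (map_zero _), Matrix.diagonal_transpose]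
        congr 1; funext i; split <;> simp [*])
      (fun h => by
        have := congrFun (congrFun h ⟨0, by omega⟩) ⟨0, by omega⟩
        rw [Matrix.diagonal_apply_eq, if_pos (show 0 < 1 by omega)] at this
        exact one_ne_zero this)
      (fun h => by
        have := congrFun (congrFun h ⟨n - 1, by omega⟩) ⟨n - 1, by omega⟩
        rw [Matrix.diagonal_apply_eq, if_neg (show ¬ n - 1 < 1 by omega), Matrix.one_apply_eq] at this
        exact zero_ne_one this)
    refine Absorb.absorb_cube hdich ⟨AbsorbPSU.cls y, AbsorbPSU.cls u, AbsorbPSU.cls h, ?_⟩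
    refine Nat.lcm_dvd ((mul_dvd_lcm hp hpq n e (by omega)).trans ?_)
      (hh.symm.dvd.trans ((Nat.dvd_lcm_right _ _).trans (Nat.dvd_lcm_right _ _)))
    exact Nat.lcm_dvd ((he' ▸ hu).trans ((Nat.dvd_lcm_left _ _).trans (Nat.dvd_lcm_right _ _)))
      (hy.trans (Nat.dvd_lcm_left _ _))
  · intro hnp
    have hlt' : p ^ e' < n - 1 := lt_of_le_of_ne (by omega) fun h => hnp ⟨e', h.symm⟩
    obtain ⟨v, hv, hv'⟩ := hsq hr _ hζ hrq hrn hlt'
    refine Absorb.absorb_square hdich ⟨AbsorbPSU.cls y, v, ?_⟩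
    refine Nat.lcm_dvd ((mul_dvd_lcm hp hpq n e (by omega)).trans ?_) (hv'.trans (Nat.dvd_lcm_right _ _))
    exact Nat.lcm_dvd ((he' ▸ hv).trans (Nat.dvd_lcm_right _ _)) (hy.trans (Nat.dvd_lcm_left _ _))

end Cfsg.Agent.S2511
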