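import Cfsg.Statements.S2512
import Cfsg.Agent.Lib.Linear.AbsorbPSpElems
-- import your own Cfsg.Agent.* helpers here

set_option autoImplicit false
open Cfsg

namespace Cfsg.Agent.S2512

open Cfsg.Lib.Linear

theorem half_dvd_orderOf {n T : ℕ} {F : Type*} [Field F] (g : Matrix.symplecticGroup (Fin n) F) (hT : 2 ∣ T)
    (h : ∀ N : ℕ, ((g : Matrix (Fin n ⊕ Fin n) (Fin n ⊕ Fin n) F) ^ N = 1 → T ∣ N) ∧
      ((g : Matrix (Fin n ⊕ Fin n) (Fin n ⊕ Fin n) F) ^ N = -1 → T ∣ 2 * N)) :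
    T / 2 ∣ orderOf (AbsorbPSp.cls g) := by
  obtain ⟨c, rfl⟩ := hT
  rw [Nat.mul_div_cancel_left _ (by norm_num)]
  rcases (AbsorbPSp.cls_pow_eq_one_iff g _).1 (pow_orderOf_eq_one (AbsorbPSp.cls g)) with h1 | h1
  · exact (dvd_mul_left c 2).trans ((h _).1 h1)
  · exact Nat.dvd_of_mul_dvd_mul_left (by norm_num) ((h _).2 h1)

/-- Let F be a finite field of odd order q = p^a, n ≥ 2 (with q ≥ 3 automatic), and L = PSp(2n, F). Then for every m the direct product L × L × L × (ℤ/2)^m has the same set of element orders as L × L × L; and if 2n − 1 is not a power of p, then already L × L × (ℤ/2)^m has the same set of element orders as L × L. -/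
theorem result {F : Type*} [Field F] [Fintype F] (p a n m : ℕ) (hp : p.Prime) (ha : 1 ≤ a) (hF : Fintype.card F = p ^ a) (hodd : Odd (Fintype.card F))
    (hn : 2 ≤ n) :
    Set.range (orderOf : Cfsg.PSp n F × Cfsg.PSp n F × Cfsg.PSp n F × Multiplicative (Fin m → ZMod 2) → ℕ) = Set.range (orderOf : Cfsg.PSp n F × Cfsg.PSp n F × Cfsg.PSp n F → ℕ) ∧
    ((¬ ∃ j : ℕ, 2 * n - 1 = p ^ j) →
      Set.range (orderOf : Cfsg.PSp n F × Cfsg.PSp n F × Multiplicative (Fin m → ZMod 2) → ℕ) = Set.range (orderOf : Cfsg.PSp n F × Cfsg.PSp n F → ℕ)) := by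
  classical
  have : Fact p.Prime := ⟨hp⟩
  have : CharP F p := by
    obtain ⟨p', hc⟩ := CharP.exists F
    have := (CharP.char_is_prime F p')
    have h1 : p' ∣ Fintype.card F := by
      rw [← CharP.cast_eq_zero_iff F p', FiniteField.cast_card_eq_zero]
    rw [hF] at h1
    rwa [← (Nat.prime_dvd_prime_iff_eq this hp).1 (this.dvd_of_dvd_pow h1)]
  have hp2 : p ≠ 2 := by
    rintro rfl
    rw [hF] at hodd
    exact (Nat.not_even_iff_odd.2 hodd) ((even_two.pow_of_ne_zero (by omega)))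
  have h2F := AbsorbPSp.two_ne (F := F) p hp2
  set q := Fintype.card F with hq
  set e := Nat.clog p (2 * n)
  have he : 2 * n ≤ p ^ e := Nat.le_pow_clog hp.one_lt _
  have heven : ∀ i, 2 ∣ q ^ i + 1 ∧ 2 ∣ q ^ i - 1 := fun i =>
    ⟨(hodd.pow.add_odd odd_one).two_dvd, (Nat.Odd.sub_odd hodd.pow odd_one).two_dvd⟩
  -- a torus element next to a unipotent one
  have hsum : ∀ i m, 1 ≤ i → 1 ≤ m → i + m = n → ∀ T, (T = q ^ i + 1 ∨ T = q ^ i - 1) →
      ∃ y : Cfsg.PSp n F, T / 2 * p ^ Nat.clog p (2 * m) ∣ orderOf y ∧ 2 ∣ orderOf y := by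
    intro i m hi hm him T hT
    have : NeZero i := ⟨by omega⟩
    obtain ⟨u, hu⟩ := AbsorbPSp.exists_unipotent (F := F) p hp2 m hm
    obtain ⟨⟨g1, hg1⟩, g2, hg2⟩ := AbsorbPSp.exists_tori (F := F) p hp2 i
    obtain ⟨g, hg⟩ : ∃ g : Matrix.symplecticGroup (Fin i) F, ∀ N : ℕ,
        ((g : Matrix (Fin i ⊕ Fin i) (Fin i ⊕ Fin i) F) ^ N = 1 → T ∣ N) := by
      rcases hT with rfl | rfl
      exacts [⟨g1, fun N => (hg1 N).1⟩, ⟨g2, fun N => (hg2 N).1⟩]
    obtain ⟨h, hh, y, hy, hy2⟩ :=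
      AbsorbPSp.exists_sum (finSumFinEquiv.trans (finCongr him)) h2F hi hm g u
    refine ⟨y, (Dvd.dvd.trans ?_ hy), hy2⟩
    set N := orderOf (AbsorbPSp.cls h)
    have hpow : (g : Matrix (Fin i ⊕ Fin i) (Fin i ⊕ Fin i) F) ^ N = 1 ∧
        (u : Matrix (Fin m ⊕ Fin m) (Fin m ⊕ Fin m) F) ^ N = 1 := by
      rcases (AbsorbPSp.cls_pow_eq_one_iff h N).1 (pow_orderOf_eq_one _) with h1 | h1 <;>
        rw [hh, AbsorbPSp.bsum_pow] at h1
      · exact AbsorbPSp.bsum_inj _ (h1.trans (AbsorbPSp.bsum_one _).symm)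
      · exact absurd (AbsorbPSp.bsum_inj _ (h1.trans ((congrArg Neg.neg (AbsorbPSp.bsum_one _).symm).trans
          (AbsorbPSp.bsum_neg _ _ _).symm))).2 (hu N).1
    have hT2 : 2 ∣ T := by rcases hT with rfl | rfl; exacts [(heven i).1, (heven i).2]
    refine Nat.Coprime.mul_dvd_of_dvd_of_dvd (Nat.Coprime.pow_right _ ?_)
      ((Nat.div_dvd_of_dvd hT2).trans (hg N hpow.1)) ((hu N).2 hpow.2)
    refine Nat.Coprime.symm (hp.coprime_iff_not_dvd.2 fun hd => hp.not_dvd_one ?_)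
    have hd' := hd.trans (Nat.div_dvd_of_dvd hT2)
    have hpq : p ∣ q ^ i := by
      rw [hF, ← pow_mul]; exact dvd_pow_self p (Nat.mul_ne_zero (by omega) (by omega))
    have h1q : 1 ≤ q ^ i := Nat.one_le_pow _ _ Fintype.card_pos
    rcases hT with rfl | rfl
    · exact (Nat.dvd_add_right hpq).1 hd'
    · have := Nat.dvd_sub hpq hd'
      rwa [Nat.sub_sub_self h1q] at this
  have hdich : ∀ x : Cfsg.PSp n F, (∃ y : Cfsg.PSp n F, orderOf x ∣ orderOf y ∧ 2 ∣ orderOf y) ∨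
      orderOf x ∣ p ^ e ∨ orderOf x ∣ Nat.lcm ((q ^ n + 1) / 2) ((q ^ n - 1) / 2) := by
    intro x
    rcases AbsorbPSp.dichotomy p hp2 (by omega) he x with h | h | ⟨i, k, hik, h⟩
    · exact Or.inl h
    · exact Or.inr (Or.inl h)
    have hk : k ≠ 0 := by rintro rfl; omega
    have hi : i ≠ 0 := by rintro rfl; omega
    by_cases hk1 : k = 1
    · subst hk1
      simp only [mul_one] at hik
      subst hik
      rw [Nat.clog_one_right, pow_zero, mul_one, mul_one] at h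
      exact Or.inr (Or.inr (h.elim (fun h => h.trans (Nat.dvd_lcm_left _ _)) (fun h => h.trans (Nat.dvd_lcm_right _ _))))
    left
    have hin : i < n := by rw [← hik]; exact lt_mul_of_one_lt_right (by omega) (by omega)
    have hle : k ≤ 2 * (n - i) := by
      have h1 : n - i = i * (k - 1) := by rw [← hik, Nat.mul_sub, mul_one]
      have h2 : k - 1 ≤ i * (k - 1) := Nat.le_mul_of_pos_left _ (by omega)
      omega
    have hpow : p ^ Nat.clog p k ∣ p ^ Nat.clog p (2 * (n - i)) := pow_dvd_pow _ (Nat.clog_mono_right _ hle)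
    rcases h with h | h
    · obtain ⟨y, hy, hy2⟩ := hsum i (n - i) (by omega) (by omega) (by omega) _ (Or.inl rfl)
      exact ⟨y, (h.trans (mul_dvd_mul_left _ hpow)).trans hy, hy2⟩
    · obtain ⟨y, hy, hy2⟩ := hsum i (n - i) (by omega) (by omega) (by omega) _ (Or.inr rfl)
      exact ⟨y, (h.trans (mul_dvd_mul_left _ hpow)).trans hy, hy2⟩
  have : NeZero n := ⟨by omega⟩
  obtain ⟨⟨g1, hg1⟩, g2, hg2⟩ := AbsorbPSp.exists_tori (F := F) p hp2 n
  have hy1 := half_dvd_orderOf g1 (heven n).1 hg1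
  have hy2 := half_dvd_orderOf g2 (heven n).2 hg2
  have htwo : 2 ∣ Nat.lcm ((q ^ n + 1) / 2) ((q ^ n - 1) / 2) := by
    have h1 := Nat.odd_iff.1 (hodd.pow (n := n))
    rcases Nat.even_or_odd ((q ^ n + 1) / 2) with h | h
    · exact h.two_dvd.trans (Nat.dvd_lcm_left _ _)
    · refine Dvd.dvd.trans ?_ (Nat.dvd_lcm_right _ _)
      have := Nat.odd_iff.1 h
      omega
  constructor
  · obtain ⟨u, hu⟩ := AbsorbPSp.exists_unipotent (F := F) p hp2 n (by omega)
    have hu' : p ^ e ∣ orderOf (AbsorbPSp.cls u) := by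
      rcases (AbsorbPSp.cls_pow_eq_one_iff u _).1 (pow_orderOf_eq_one (AbsorbPSp.cls u)) with h1 | h1
      · exact (hu _).2 h1
      · exact absurd h1 (hu _).1
    refine Absorb.absorb_cube (N := Nat.lcm (p ^ e) (Nat.lcm ((q ^ n + 1) / 2) ((q ^ n - 1) / 2)))
      (fun x => (hdich x).imp_right ?_) ⟨AbsorbPSp.cls g1, AbsorbPSp.cls g2, AbsorbPSp.cls u, ?_⟩
    · rintro (h | h)
      exacts [h.trans (Nat.dvd_lcm_left _ _), h.trans (Nat.dvd_lcm_right _ _)]
    · have hM := Nat.lcm_dvd (hy1.trans (Nat.dvd_lcm_left (orderOf (AbsorbPSp.cls g1))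
          ((orderOf (AbsorbPSp.cls g2)).lcm (orderOf (AbsorbPSp.cls u)))))
        (hy2.trans ((Nat.dvd_lcm_left _ _).trans (Nat.dvd_lcm_right _ _)))
      exact Nat.lcm_dvd (Nat.lcm_dvd (hu'.trans ((Nat.dvd_lcm_right _ _).trans (Nat.dvd_lcm_right _ _))) hM)
        (htwo.trans hM)
  · intro hnp
    obtain ⟨y, hy, hy2'⟩ := hsum 1 (n - 1) le_rfl (by omega) (by omega) _ (Or.inl rfl)
    have hclog : e ≤ Nat.clog p (2 * (n - 1)) := by
      obtain ⟨e', he'⟩ : ∃ k, e = k + 1 :=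
        ⟨e - 1, by have := Nat.clog_pos hp.one_lt (show 1 < 2 * n by omega); omega⟩
      have hlt : p ^ e' < 2 * n := (Nat.lt_clog_iff_pow_lt hp.one_lt).1 (show e' < e by omega)
      have hne : p ^ e' ≠ 2 * n - 1 := fun h => hnp ⟨e', h.symm⟩
      have hne2 : p ^ e' ≠ 2 * n - 2 := fun h => by
        have := Nat.odd_iff.1 ((hp.odd_of_ne_two hp2).pow (n := e'))
        omega
      rw [he']
      exact (Nat.lt_clog_iff_pow_lt hp.one_lt).2 (show p ^ e' < 2 * (n - 1) by omega)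
    refine Absorb.absorb_square (N := Nat.lcm ((q ^ n + 1) / 2) ((q ^ n - 1) / 2)) (fun x => ?_)
      ⟨AbsorbPSp.cls g1, AbsorbPSp.cls g2, ?_⟩
    · rcases hdich x with h | h | h
      · exact Or.inl h
      · exact Or.inl ⟨y, (h.trans ((pow_dvd_pow p hclog).trans (dvd_mul_left _ _))).trans hy, hy2'⟩
      · exact Or.inr h
    · have hM := Nat.lcm_dvd (hy1.trans (Nat.dvd_lcm_left _ _))
        (hy2.trans (Nat.dvd_lcm_right (orderOf (AbsorbPSp.cls g1)) _))
      exact Nat.lcm_dvd hM (htwo.trans hM)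

end Cfsg.Agent.S2512
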