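import Cfsg.Statements.S2513
import Mathlib

set_option autoImplicit false
open Cfsg

namespace Cfsg.Agent.S2513

open Polynomial in
theorem aux_ppart {n p a : ℕ} (hp : p.Prime) (hp2 : p ≠ 2) (g : (Matrix (Fin n) (Fin n) (ZMod 2))ˣ)
    (hg : orderOf g = p ^ (a + 1)) : ∃ d, 1 ≤ d ∧ d ≤ n ∧ p ^ (a + 1) ∣ 2 ^ d - 1 := by
  set A : Matrix (Fin n) (Fin n) (ZMod 2) := (g : Matrix (Fin n) (Fin n) (ZMod 2)) with hA
  have hA' : orderOf A = p ^ (a + 1) := by rw [hA, orderOf_units, hg]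
  set μ := minpoly (ZMod 2) A with hμ
  have hint : IsIntegral (ZMod 2) A := Matrix.isIntegral A
  have hμN : μ ∣ (X ^ (p ^ (a + 1)) - 1 : (ZMod 2)[X]) :=
    minpoly.dvd _ _ (by simp [← hA', pow_orderOf_eq_one])
  have hμQ : ¬ μ ∣ (X ^ (p ^ a) - 1 : (ZMod 2)[X]) := by
    rintro ⟨c, hc⟩
    have h0 : A ^ p ^ a - 1 = 0 := by
      have := congrArg (aeval A) hc
      simpa [hμ, minpoly.aeval] using this
    have h1 := orderOf_dvd_of_pow_eq_one (sub_eq_zero.1 h0)
    rw [hA'] at h1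
    have := (Nat.pow_dvd_pow_iff_le_right hp.one_lt).1 h1
    omega
  have hsep : (X ^ (p ^ (a + 1)) - 1 : (ZMod 2)[X]).Separable := by
    rw [X_pow_sub_one_separable_iff, Ne, ZMod.natCast_eq_zero_iff_even]
    exact Nat.not_even_iff_odd.2 ((hp.odd_of_ne_two hp2).pow)
  have hsq : Squarefree μ := hsep.squarefree.squarefree_of_dvd hμN
  set h := EuclideanDomain.gcd μ (X ^ (p ^ a) - 1 : (ZMod 2)[X]) with hh
  obtain ⟨c, hc⟩ := EuclideanDomain.gcd_dvd_left μ (X ^ (p ^ a) - 1 : (ZMod 2)[X])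
  rw [← hh] at hc
  have hμ0 : μ ≠ 0 := minpoly.ne_zero hint
  have hcu : ¬ IsUnit c := by
    intro hu
    apply hμQ
    rw [hc]
    exact (associated_mul_unit_left h c hu).dvd.trans (EuclideanDomain.gcd_dvd_right _ _)
  have hc0 : c ≠ 0 := by
    intro h0; exact hμ0 (by rw [hc, h0, mul_zero])
  obtain ⟨f, hf, hfc⟩ := WfDvdMonoid.exists_irreducible_factor hcu hc0
  have hfμ : f ∣ μ := hc ▸ hfc.mul_left h
  have hfQ : ¬ f ∣ (X ^ (p ^ a) - 1 : (ZMod 2)[X]) := by
    intro hfQ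
    have hfh : f ∣ h := EuclideanDomain.dvd_gcd hfμ hfQ
    exact hf.not_isUnit (hsq f (hc ▸ mul_dvd_mul hfh hfc))
  have : Fact (Irreducible f) := ⟨hf⟩
  let K := AdjoinRoot f
  let pb := AdjoinRoot.powerBasis hf.ne_zero
  have : Module.Finite (ZMod 2) K := pb.finite
  have : Finite K := Module.finite_of_finite (ZMod 2)
  have : Fintype K := Fintype.ofFinite K
  have hcard : Fintype.card K = 2 ^ f.natDegree := by
    rw [Module.card_eq_pow_finrank (K := ZMod 2) (V := K), pb.finrank, ZMod.card]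
    simp [pb]
  have hroot : ∀ m : ℕ, f ∣ (X ^ m - 1 : (ZMod 2)[X]) ↔ AdjoinRoot.root f ^ m = 1 := by
    intro m
    rw [← AdjoinRoot.mk_eq_zero, map_sub, map_pow, map_one, AdjoinRoot.mk_X, sub_eq_zero]
  have h1 : AdjoinRoot.root f ^ p ^ (a + 1) = 1 := (hroot _).1 (hfμ.trans hμN)
  have h2 : ¬ AdjoinRoot.root f ^ p ^ a = 1 := fun h => hfQ ((hroot _).2 h)
  have : Fact p.Prime := ⟨hp⟩
  have h3 : orderOf (AdjoinRoot.root f) = p ^ (a + 1) := orderOf_eq_prime_pow h2 h1
  have h4 : AdjoinRoot.root f ≠ 0 := by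
    intro h0; rw [h0, zero_pow (pow_ne_zero _ hp.ne_zero)] at h1; exact zero_ne_one h1
  refine ⟨f.natDegree, hf.natDegree_pos, ?_, ?_⟩
  · calc f.natDegree ≤ μ.natDegree := natDegree_le_of_dvd hfμ hμ0
      _ ≤ A.charpoly.natDegree := natDegree_le_of_dvd (Matrix.minpoly_dvd_charpoly A)
            (Matrix.charpoly_monic A).ne_zero
      _ = n := by simp
  · rw [← h3, ← hcard]
    exact orderOf_dvd_of_pow_eq_one (FiniteField.pow_card_sub_one_eq_one _ h4)

theorem aux_singer {n d : ℕ} (hd : 1 ≤ d) (hdn : d ≤ n) :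
    ∃ g : (Matrix (Fin n) (Fin n) (ZMod 2))ˣ, orderOf g = 2 ^ d - 1 := by
  let K := GaloisField 2 d
  have : Fintype K := Fintype.ofFinite K
  let V := K × (Fin (n - d) → ZMod 2)
  have hV : Module.finrank (ZMod 2) V = n := by
    rw [Module.finrank_prod, GaloisField.finrank 2 (by omega), Module.finrank_fin_fun]
    omega
  let b := Module.finBasisOfFinrankEq (ZMod 2) V hV
  let ψ : K →* Module.End (ZMod 2) V :=
    { toFun := fun u => LinearMap.prodMap (LinearMap.mulLeft (ZMod 2) u) LinearMap.id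
      map_one' := by ext x <;> simp
      map_mul' := fun u v => by ext x <;> simp [mul_assoc] }
  let φ : K →* Matrix (Fin n) (Fin n) (ZMod 2) :=
    (LinearMap.toMatrixAlgEquiv b).toAlgHom.toRingHom.toMonoidHom.comp ψ
  have hinj : Function.Injective φ := by
    intro u v huv
    have h1 : ψ u = ψ v := (LinearMap.toMatrixAlgEquiv b).injective huv
    have h2 := LinearMap.congr_fun h1 (1, 0)
    have h3 := congrArg Prod.fst h2

    have h4 : u * 1 = v * 1 := h3
    rwa [mul_one, mul_one] at h4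
  obtain ⟨u, hu⟩ := IsCyclic.exists_ofOrder_eq_natCard (α := Kˣ)
  refine ⟨Units.map φ u, ?_⟩
  rw [orderOf_injective (Units.map φ) (Units.map_injective hinj) u, hu, Nat.card_units,
    GaloisField.card 2 d (by omega)]

theorem aux_exists_dvd_order {G : Type*} [Group G] [Finite G] (g : G) {m : ℕ} (h : m ∣ orderOf g) :
    ∃ h : G, orderOf h = m :=
  ⟨g ^ (orderOf g / m), orderOf_pow_orderOf_div (orderOf_pos g).ne' h⟩

theorem aux_pp_lcm {ι : Type*} (s : Finset ι) (f : ι → ℕ) (hf : ∀ i ∈ s, f i ≠ 0) {p k : ℕ}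
    (hp : p.Prime) (h : p ^ (k + 1) ∣ s.lcm f) : ∃ i ∈ s, p ^ (k + 1) ∣ f i := by
  classical
  induction s using Finset.induction with
  | empty =>
    simp at h
    exact absurd h hp.ne_one
  | insert a t hat ih =>
    rw [Finset.lcm_insert] at h
    have ha0 := hf a (Finset.mem_insert_self _ _)
    have ht0 : t.lcm f ≠ 0 := by
      simp only [Ne, Finset.lcm_eq_zero_iff]
      rintro ⟨x, hx, hx0⟩
      exact hf x (Finset.mem_insert_of_mem hx) hx0
    rw [hp.pow_dvd_iff_le_factorization (lcm_ne_zero_iff.2 ⟨ha0, ht0⟩)] at h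
    change k + 1 ≤ (Nat.lcm (f a) (t.lcm f)).factorization p at h
    rw [Nat.factorization_lcm ha0 ht0, Finsupp.sup_apply, le_sup_iff] at h
    rcases h with h | h
    · exact ⟨a, Finset.mem_insert_self _ _, (hp.pow_dvd_iff_le_factorization ha0).2 h⟩
    · obtain ⟨i, hi, hi'⟩ := ih (fun i hi => hf i (Finset.mem_insert_of_mem hi))
        ((hp.pow_dvd_iff_le_factorization ht0).2 h)
      exact ⟨i, Finset.mem_insert_of_mem hi, hi'⟩

theorem aux_reduce {n k : ℕ} (hn : 2 ≤ n) {K : ℕ} (hK : K = (n + 3) / 2)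
    (x : Fin k → (Matrix (Fin n) (Fin n) (ZMod 2))ˣ) :
    ∃ y : Fin K → (Matrix (Fin n) (Fin n) (ZMod 2))ˣ, orderOf y = orderOf x := by
  classical
  have hx : orderOf x = Finset.univ.lcm (fun i => orderOf (x i)) := Pi.orderOf x
  obtain ⟨e, m, hm2, hN⟩ := Nat.exists_eq_pow_mul_and_not_dvd (orderOf_pos x).ne' 2 (by norm_num)
  have hne : ∀ i ∈ (Finset.univ : Finset (Fin k)), orderOf (x i) ≠ 0 :=
    fun i _ => (orderOf_pos (x i)).ne'
  obtain ⟨g2, hg2⟩ : ∃ g : (Matrix (Fin n) (Fin n) (ZMod 2))ˣ, orderOf g = 2 ^ e := by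
    rcases Nat.eq_zero_or_pos e with h0 | h0
    · exact ⟨1, by simp [h0]⟩
    obtain ⟨e', rfl⟩ : ∃ e', e = e' + 1 := ⟨e - 1, by omega⟩
    obtain ⟨i, -, hi⟩ := aux_pp_lcm Finset.univ _ hne Nat.prime_two (k := e')
      (by rw [← hx, hN]; exact Dvd.intro _ rfl)
    exact aux_exists_dvd_order _ hi
  have hd : ∀ d, ∃ g : (Matrix (Fin n) (Fin n) (ZMod 2))ˣ,
      1 ≤ d → d ≤ n → orderOf g = Nat.gcd m (2 ^ d - 1) := by
    intro d
    by_cases h : 1 ≤ d ∧ d ≤ n
    · obtain ⟨g, hg⟩ := aux_singer h.1 h.2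
      obtain ⟨g', hg'⟩ := aux_exists_dvd_order g (m := Nat.gcd m (2 ^ d - 1))
        (by rw [hg]; exact Nat.gcd_dvd_right _ _)
      exact ⟨g', fun _ _ => hg'⟩
    · exact ⟨1, fun h1 h2 => absurd ⟨h1, h2⟩ h⟩
  choose c hc using hd
  let y : Fin K → (Matrix (Fin n) (Fin n) (ZMod 2))ˣ :=
    fun j => if (j : ℕ) = 0 then g2 else if n / 2 + (j : ℕ) ≤ n then c (n / 2 + (j : ℕ)) else 1
  refine ⟨y, Nat.dvd_antisymm ?_ ?_⟩
  · rw [Pi.orderOf y, hN]
    refine Finset.lcm_dvd fun j _ => ?_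
    simp only [y]
    split_ifs with h1 h2
    · rw [hg2]; exact Dvd.intro _ rfl
    · rw [hc _ (by omega) h2]; exact dvd_mul_of_dvd_right (Nat.gcd_dvd_left _ _) _
    · simp
  · rw [hN, Pi.orderOf y]
    have hle : ∀ j, orderOf (y j) ∣ Finset.univ.lcm (fun j => orderOf (y j)) :=
      fun j => Finset.dvd_lcm (f := fun j => orderOf (y j)) (Finset.mem_univ j)
    refine Nat.Coprime.mul_dvd_of_dvd_of_dvd ?_ ?_ ?_
    · exact ((Nat.prime_two.coprime_iff_not_dvd).2 hm2).pow_left e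
    · have h := hle ⟨0, by omega⟩
      simpa [y, hg2] using h
    · rw [Nat.dvd_iff_prime_pow_dvd_dvd]
      intro p s hp hps
      rcases Nat.eq_zero_or_pos s with rfl | hs
      · simp
      obtain ⟨s, rfl⟩ : ∃ s', s = s' + 1 := ⟨s - 1, by omega⟩
      have hp2 : p ≠ 2 := by
        rintro rfl; exact hm2 ((dvd_pow_self 2 (Nat.succ_ne_zero s)).trans hps)
      obtain ⟨i, -, hi⟩ := aux_pp_lcm Finset.univ _ hne hp (k := s)
        (by rw [← hx, hN]; exact dvd_mul_of_dvd_right hps _)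
      obtain ⟨g, hg⟩ := aux_exists_dvd_order _ hi
      obtain ⟨d, hd1, hdn, hdvd⟩ := aux_ppart hp hp2 g hg
      have hle1 : d * (n / d) ≤ n := Nat.mul_div_le n d
      have hlt : n < d * (n / d) + d := by
        have h := Nat.div_add_mod n d
        have := Nat.mod_lt n (show d > 0 by omega)
        omega
      have hge : d ≤ d * (n / d) := Nat.le_mul_of_pos_right _ (Nat.div_pos hdn (by omega))
      have hdvd' : p ^ (s + 1) ∣ 2 ^ (d * (n / d)) - 1 :=
        hdvd.trans (Nat.pow_sub_one_dvd_pow_sub_one 2 ⟨_, rfl⟩)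
      have hj : d * (n / d) - n / 2 < K := by omega
      have hy : orderOf (y ⟨_, hj⟩) = Nat.gcd m (2 ^ (d * (n / d)) - 1) := by
        have e1 : n / 2 + (d * (n / d) - n / 2) = d * (n / d) := by omega
        have e0 : ¬ (d * (n / d) - n / 2 = 0) := by omega
        simp only [y, if_neg e0, e1, if_pos hle1]
        exact hc _ (by omega) hle1
      exact (Nat.dvd_gcd hps hdvd').trans (hy ▸ hle ⟨_, hj⟩)


/-- Let F be the field with two elements, n ≥ 2, L = PSL(n, F) and k₀ = ⌊(n + 3)/2⌋. Then for every k ≥ k₀ the direct product of k copies of L has the same set of element orders as the direct product of k₀ copies of L. -/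
theorem result {F : Type*} [Field F] [Fintype F] (hF : Fintype.card F = 2) (n k : ℕ) (hn : 2 ≤ n) (hk : (n + 3) / 2 ≤ k) :
    Set.range (orderOf : (Fin k → Matrix.ProjectiveSpecialLinearGroup (Fin n) F) → ℕ) = Set.range (orderOf : (Fin ((n + 3) / 2) → Matrix.ProjectiveSpecialLinearGroup (Fin n) F) → ℕ) := by
  classical
  set K := (n + 3) / 2 with hK
  let φ : F ≃+* ZMod 2 := (ZMod.ringEquivOfPrime F Nat.prime_two hF).symm
  have h1 : ∀ x : F, x ≠ 0 → x = 1 := by
    intro x hx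
    have h2 : ∀ a : ZMod 2, a ≠ 0 → a = 1 := by decide
    apply φ.injective
    rw [map_one]
    exact h2 _ (fun h => hx (φ.injective (by rw [h, map_zero])))
  have hbot : Subgroup.center (Matrix.SpecialLinearGroup (Fin n) F) = ⊥ := by
    rw [Subgroup.eq_bot_iff_forall]
    intro A hA
    obtain ⟨r, hr, hr'⟩ := Matrix.SpecialLinearGroup.mem_center_iff.1 hA
    have hr1 : r = 1 := h1 r (fun h => by
      subst h
      simp [zero_pow (show n ≠ 0 by omega)] at hr)
    subst hr1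
    exact Subtype.ext (by rw [← hr', map_one]; rfl)
  let toG : Matrix.SpecialLinearGroup (Fin n) F →* (Matrix (Fin n) (Fin n) (ZMod 2))ˣ :=
    (Units.map φ.mapMatrix.toMonoidHom).comp Matrix.SpecialLinearGroup.toGL
  have htoG : Function.Bijective toG := by
    constructor
    · intro A B h
      apply Subtype.ext
      exact φ.mapMatrix.injective (congrArg Units.val h)
    · intro g
      let A : (Matrix (Fin n) (Fin n) F)ˣ := Units.map φ.mapMatrix.symm.toMonoidHom g
      have hdet : (A : Matrix (Fin n) (Fin n) F).det = 1 :=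
        h1 _ ((Matrix.isUnit_iff_isUnit_det _).1 A.isUnit).ne_zero
      refine ⟨⟨A, hdet⟩, Units.ext ?_⟩
      exact φ.mapMatrix.apply_symm_apply _
  let E : Matrix.ProjectiveSpecialLinearGroup (Fin n) F ≃* (Matrix (Fin n) (Fin n) (ZMod 2))ˣ :=
    ((QuotientGroup.quotientMulEquivOfEq hbot).trans QuotientGroup.quotientBot).trans
      (MulEquiv.ofBijective toG htoG)
  have hEk : ∀ (j : ℕ) (x : Fin j → Matrix.ProjectiveSpecialLinearGroup (Fin n) F),
      orderOf (fun i => E (x i)) = orderOf x := fun j x =>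
    orderOf_injective ((MonoidHom.compLeft E.toMonoidHom (Fin j))) E.injective.comp_left x
  apply Set.Subset.antisymm
  · rintro _ ⟨x, rfl⟩
    obtain ⟨y, hy⟩ := aux_reduce hn hK (fun i => E (x i))
    refine ⟨fun i => E.symm (y i), ?_⟩
    rw [← hEk, ← hEk k x, ← hy]
    simp
  · rintro _ ⟨y, rfl⟩
    refine ⟨fun i => if h : (i : ℕ) < K then y ⟨i, h⟩ else 1, ?_⟩
    rw [Pi.orderOf, Pi.orderOf]
    apply Nat.dvd_antisymm
    · refine Finset.lcm_dvd fun i _ => ?_
      by_cases h : (i : ℕ) < K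
      · rw [dif_pos h]
        exact Finset.dvd_lcm (f := fun j => orderOf (y j)) (Finset.mem_univ _)
      · simp [dif_neg h]
    · refine Finset.lcm_dvd fun j _ => ?_
      have h : (j : ℕ) < k := lt_of_lt_of_le j.2 hk
      refine dvd_trans ?_ (Finset.dvd_lcm (Finset.mem_univ (⟨(j : ℕ), h⟩ : Fin k)))
      simp

end Cfsg.Agent.S2513
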