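import Cfsg.Statements.S2514


set_option autoImplicit false
open Cfsg

namespace Cfsg.Agent.S2514

theorem orderOf_pi_dvd {ι : Type*} {M : ι → Type*} [∀ i, Monoid (M i)] (f : ∀ i, M i) (N : ℕ) :
    orderOf f ∣ N ↔ ∀ i, orderOf (f i) ∣ N := by
  simp only [orderOf_dvd_iff_pow_eq_one, funext_iff, Pi.pow_apply, Pi.one_apply]

theorem orderOf_prod_dvd {A B : Type*} [Monoid A] [Monoid B] (x : A × B) (N : ℕ) :
    orderOf x ∣ N ↔ orderOf x.1 ∣ N ∧ orderOf x.2 ∣ N := by
  simp only [orderOf_dvd_iff_pow_eq_one, Prod.ext_iff, Prod.pow_fst, Prod.pow_snd, Prod.fst_one, Prod.snd_one]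

theorem exists_orderOf_of_dvd {A : Type*} [Group A] [Finite A] (a : A) {d : ℕ} (hd : d ∣ orderOf a) :
    ∃ b : A, orderOf b = d := by
  obtain ⟨e, he⟩ := hd
  have hpos := orderOf_pos a
  have he0 : e ≠ 0 := by rintro rfl; omega
  exact ⟨a ^ e, by rw [orderOf_pow_of_dvd he0 ⟨d, by rw [he, mul_comm]⟩, he, Nat.mul_div_cancel _ (Nat.pos_of_ne_zero he0)]⟩

theorem exists_max_orderOf {A : Type*} [Group A] [Finite A] (a : A) :
    ∃ m ∈ {n : ℕ | n ∈ Set.range (orderOf : A → ℕ) ∧ ∀ k ∈ Set.range (orderOf : A → ℕ), n ∣ k → k = n}, orderOf a ∣ m := by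
  classical
  have := Fintype.ofFinite A
  obtain ⟨b, hb, hmax⟩ := (Finset.univ.filter fun b : A => orderOf a ∣ orderOf b).exists_max_image orderOf ⟨a, by simp⟩
  simp only [Finset.mem_filter, Finset.mem_univ, true_and] at hb hmax
  refine ⟨_, ⟨⟨b, rfl⟩, ?_⟩, hb⟩
  rintro _ ⟨c, rfl⟩ hbc
  exact le_antisymm (hmax c (hb.trans hbc)) (Nat.le_of_dvd (orderOf_pos c) hbc)

/-- For a finite group X write μ(X) for the set of element orders of X that are maximal under divisibility. Let G and H be finite groups and k ≥ 1 such that μ(H) ⊆ μ(G) and μ(G) has fewer than k elements outside μ(H). Then the direct product of k copies of G has the same set of element orders as the direct product of k − 1 copies of G with H. -/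
theorem result {G H : Type*} [Group G] [Finite G] [Group H] [Finite H] (k : ℕ) (hk : 1 ≤ k)
    (hsub : {n : ℕ | n ∈ Set.range (orderOf : H → ℕ) ∧ ∀ m ∈ Set.range (orderOf : H → ℕ), n ∣ m → m = n} ⊆ {n : ℕ | n ∈ Set.range (orderOf : G → ℕ) ∧ ∀ m ∈ Set.range (orderOf : G → ℕ), n ∣ m → m = n})
    (hfew : ({n : ℕ | n ∈ Set.range (orderOf : G → ℕ) ∧ ∀ m ∈ Set.range (orderOf : G → ℕ), n ∣ m → m = n} \ {n : ℕ | n ∈ Set.range (orderOf : H → ℕ) ∧ ∀ m ∈ Set.range (orderOf : H → ℕ), n ∣ m → m = n}).ncard < k) :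
    Set.range (orderOf : (Fin k → G) → ℕ) = Set.range (orderOf : (Fin (k - 1) → G) × H → ℕ) := by
  obtain ⟨k, rfl⟩ : ∃ j, k = j + 1 := ⟨k - 1, by omega⟩
  have eq_of : ∀ a b : ℕ, (∀ N, a ∣ N ↔ b ∣ N) → a = b := fun a b h =>
    Nat.dvd_antisymm ((h b).2 dvd_rfl) ((h a).1 dvd_rfl)
  ext n
  constructor
  · rintro ⟨f, rfl⟩
    choose M hM hdM using fun i => exists_max_orderOf (f i)
    by_cases hex : ∃ i, M i ∈ {n : ℕ | n ∈ Set.range (orderOf : H → ℕ) ∧ ∀ m ∈ Set.range (orderOf : H → ℕ), n ∣ m → m = n}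
    · obtain ⟨i, hi⟩ := hex
      obtain ⟨b, hb⟩ := hi.1
      obtain ⟨h, hh⟩ := exists_orderOf_of_dvd b (hb ▸ hdM i)
      refine ⟨((fun j => f (i.succAbove j)), h), eq_of _ _ fun N => ?_⟩
      rw [orderOf_prod_dvd, orderOf_pi_dvd, orderOf_pi_dvd, Fin.forall_iff_succAbove i, hh]
      exact and_comm
    · push Not at hex
      have hc : ({n : ℕ | n ∈ Set.range (orderOf : G → ℕ) ∧ ∀ m ∈ Set.range (orderOf : G → ℕ), n ∣ m → m = n} \ {n : ℕ | n ∈ Set.range (orderOf : H → ℕ) ∧ ∀ m ∈ Set.range (orderOf : H → ℕ), n ∣ m → m = n}).ncard < (Set.univ : Set (Fin (k + 1))).ncard := by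
        rwa [Set.ncard_univ, Nat.card_fin]
      obtain ⟨i, -, j, -, hij, hMij⟩ := Set.exists_ne_map_eq_of_ncard_lt_of_maps_to hc (f := M)
        (fun i _ => ⟨hM i, hex i⟩) ((Set.finite_range (orderOf : G → ℕ)).subset fun x hx => hx.1.1)
      obtain ⟨b, hb⟩ := (hM i).1
      obtain ⟨g, hg⟩ := exists_orderOf_of_dvd b
        (hb ▸ Nat.lcm_dvd (hdM i) (hMij ▸ hdM j) : Nat.lcm (orderOf (f i)) (orderOf (f j)) ∣ orderOf b)
      refine ⟨((fun l => Function.update f i g (j.succAbove l)), 1), eq_of _ _ fun N => ?_⟩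
      rw [orderOf_prod_dvd, orderOf_pi_dvd, orderOf_pi_dvd, orderOf_one, Fin.forall_iff_succAbove j]
      simp only [one_dvd, and_true]
      constructor
      · intro hl
        obtain ⟨l, hl'⟩ := Fin.exists_succAbove_eq hij
        have h1 := hl l
        rw [hl', Function.update_self, hg] at h1
        refine ⟨(Nat.dvd_lcm_right _ _).trans h1, fun m => ?_⟩
        rcases eq_or_ne (j.succAbove m) i with e | e
        · rw [e]; exact (Nat.dvd_lcm_left _ _).trans h1
        · have := hl m; rwa [Function.update_of_ne e] at this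
      · rintro ⟨hj, hl⟩ m
        rcases eq_or_ne (j.succAbove m) i with e | e
        · have := hl m
          rw [e] at this ⊢
          rw [Function.update_self, hg]
          exact Nat.lcm_dvd this hj
        · rw [Function.update_of_ne e]; exact hl m
  · rintro ⟨⟨f, h⟩, rfl⟩
    obtain ⟨m, hm, hdm⟩ := exists_max_orderOf h
    obtain ⟨b, hb⟩ := (hsub hm).1
    obtain ⟨g, hg⟩ := exists_orderOf_of_dvd b (hb ▸ hdm)
    refine ⟨Fin.cons g f, eq_of _ _ fun N => ?_⟩
    rw [orderOf_prod_dvd, orderOf_pi_dvd, Fin.forall_fin_succ]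
    simp only [Fin.cons_zero, Fin.cons_succ, hg]
    rw [orderOf_pi_dvd]
    exact and_comm

end Cfsg.Agent.S2514
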