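import Cfsg.Statements.S2515
import Cfsg.Agent.Lib.Concrete.TwistedTensorSpectrum
-- import your own Cfsg.Agent.* helpers here

set_option autoImplicit false
open Cfsg

namespace Cfsg.Agent.S2515

/-- Let q = 3^α with α ≥ 3 odd. There is a finite group H having a non-trivial normal 3-subgroup and whose element orders maximal under divisibility are exactly 6, 9, q − 1 and (q + 1)/2. -/
theorem result (α : ℕ) (hα : 3 ≤ α) (hodd : Odd α) :
    ∃ (H : Type) (_ : Group H) (_ : Fintype H), (∃ P : Subgroup H, P.Normal ∧ P ≠ ⊥ ∧ IsPGroup 3 ↥P) ∧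
      {n : ℕ | n ∈ Set.range (orderOf : H → ℕ) ∧ ∀ m ∈ Set.range (orderOf : H → ℕ), n ∣ m → m = n} = ({6, 9, 3 ^ α - 1, (3 ^ α + 1) / 2} : Set ℕ) := by
  classical
  have : Fact (Nat.Prime 3) := ⟨Nat.prime_three⟩
  let K := GaloisField 3 α
  have := Fintype.ofFinite K
  have hK : Fintype.card K = 3 ^ α := by rw [← Nat.card_eq_fintype_card, GaloisField.card 3 α (by omega)]
  open Cfsg.Lib.Concrete.TwTensor in
  have : Finite (Grp K) := Finite.of_injective (fun h : Grp K => (h.left, h.right)) (fun a b e => by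
    exact SemidirectProduct.ext (congrArg Prod.fst e) (congrArg Prod.snd e))
  refine ⟨Cfsg.Lib.Concrete.TwTensor.Grp K, inferInstance, Fintype.ofFinite _,
    ⟨(SemidirectProduct.inl).range, ?_, ?_, ?_⟩, ?_⟩
  · rw [SemidirectProduct.range_inl_eq_ker_rightHom]; infer_instance
  · intro hb
    have h : (SemidirectProduct.inl (Multiplicative.ofAdd (1 : Cfsg.Lib.Concrete.TwTensor.M2 K)) :
        Cfsg.Lib.Concrete.TwTensor.Grp K) ∈ (SemidirectProduct.inl).range := ⟨_, rfl⟩
    rw [hb, Subgroup.mem_bot, ← map_one SemidirectProduct.inl] at h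
    exact one_ne_zero (congrArg Multiplicative.toAdd (SemidirectProduct.inl_injective h))
  · refine fun x => ⟨1, ?_⟩
    obtain ⟨_, v, rfl⟩ := x
    refine Subtype.ext ?_
    rw [Subgroup.coe_pow, ← map_pow, Subgroup.coe_one, pow_one]
    convert map_one SemidirectProduct.inl
    refine Multiplicative.toAdd.injective ?_
    ext i j
    rw [toAdd_pow, Matrix.smul_apply, nsmul_eq_mul, CharP.cast_eq_zero K 3, zero_mul]
    rfl
  have hm := Cfsg.Lib.Concrete.TwTensor.mod_four hodd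
  have h27 : 27 ≤ 3 ^ α := le_trans (by norm_num) (Nat.pow_le_pow_right (by norm_num : 0 < 3) hα)
  have h3d : 3 ∣ 3 ^ α := dvd_pow_self 3 (by omega)
  obtain ⟨a6, h6⟩ := Cfsg.Lib.Concrete.TwTensor.exists_six (K := K) (α := α)
  obtain ⟨a9, h9⟩ := Cfsg.Lib.Concrete.TwTensor.exists_nine (K := K)
  obtain ⟨as, hs⟩ := Cfsg.Lib.Concrete.TwTensor.exists_split hodd hK
  obtain ⟨an, hn⟩ := Cfsg.Lib.Concrete.TwTensor.exists_nonsplit hodd hK
  have hocc : ∀ m ∈ ({6, 9, 3 ^ α - 1, (3 ^ α + 1) / 2} : Set ℕ), m ∈ Set.range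
      (orderOf : Cfsg.Lib.Concrete.TwTensor.Grp K → ℕ) := by
    intro m hm
    simp only [Set.mem_insert_iff, Set.mem_singleton_iff] at hm
    rcases hm with rfl | rfl | rfl | rfl
    exacts [⟨_, h6⟩, ⟨_, h9⟩, ⟨_, hs⟩, ⟨_, hn⟩]
  have hcover : ∀ n ∈ Set.range (orderOf : Cfsg.Lib.Concrete.TwTensor.Grp K → ℕ),
      ∃ m ∈ ({6, 9, 3 ^ α - 1, (3 ^ α + 1) / 2} : Set ℕ), n ∣ m := by
    rintro n ⟨h, rfl⟩
    rcases Cfsg.Lib.Concrete.TwTensor.order_dvd hodd hK h with h | h | h | h <;> exact ⟨_, by simp, h⟩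
  have hanti : ∀ a ∈ ({6, 9, 3 ^ α - 1, (3 ^ α + 1) / 2} : Set ℕ),
      ∀ b ∈ ({6, 9, 3 ^ α - 1, (3 ^ α + 1) / 2} : Set ℕ), a ∣ b → a = b := by
    have hsmall : ∀ a b : ℕ, b ∣ a → a < b → a = 0 := fun a b h hlt => Nat.eq_zero_of_dvd_of_lt h hlt
    have hA : ¬ 3 ∣ 3 ^ α - 1 := by omega
    have hB : ¬ 3 ∣ (3 ^ α + 1) / 2 := fun h => by
      have := dvd_mul_of_dvd_left h 2
      omega
    intro a ha b hb hab
    simp only [Set.mem_insert_iff, Set.mem_singleton_iff] at ha hb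
    rcases ha with rfl | rfl | rfl | rfl <;> rcases hb with rfl | rfl | rfl | rfl
    · rfl
    · omega
    · exact absurd ((show 3 ∣ 6 by norm_num).trans hab) hA
    · exact absurd ((show 3 ∣ 6 by norm_num).trans hab) hB
    · omega
    · rfl
    · exact absurd ((show 3 ∣ 9 by norm_num).trans hab) hA
    · exact absurd ((show 3 ∣ 9 by norm_num).trans hab) hB
    · exact absurd (hsmall _ _ hab (by omega)) (by norm_num)
    · exact absurd (hsmall _ _ hab (by omega)) (by norm_num)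
    · rfl
    · exact absurd (hsmall _ _ hab (by omega)) (by omega)
    · exact absurd (hsmall _ _ hab (by omega)) (by norm_num)
    · exact absurd (hsmall _ _ hab (by omega)) (by norm_num)
    · obtain ⟨k, hk⟩ := hab
      rcases k with _ | _ | k
      · omega
      · omega
      · have : (3 ^ α + 1) / 2 * (k + 1 + 1) = (3 ^ α + 1) / 2 * k + (3 ^ α + 1) / 2 * 2 := by ring
        omega
    · rfl
  ext n
  constructor
  · rintro ⟨hr, hmax⟩
    obtain ⟨m, hm', hdvd⟩ := hcover n hr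
    rw [← hmax m (hocc m hm') hdvd]
    exact hm'
  · intro hn'
    refine ⟨hocc n hn', fun k hk hnk => ?_⟩
    obtain ⟨m, hm', hdvd⟩ := hcover k hk
    have := hanti n hn' m hm' (hnk.trans hdvd)
    subst this
    exact Nat.dvd_antisymm hdvd hnk

end Cfsg.Agent.S2515
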