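import Cfsg.Statements.S2516
import Mathlib

set_option autoImplicit false
open Cfsg

namespace Cfsg.Agent.S2516

/-- Let F be a field of characteristic p > 0, V a non-zero finite-dimensional F-vector space, G a finite group and ρ a representation of G on V; form the semidirect product V ⋊ G. For g ∈ G of order k, the coset Vg contains an element of order pk if and only if the minimal polynomial of ρ(g) does not divide 1 + X + ⋯ + X^(k−1). -/
theorem result {F : Type*} [Field F] (p : ℕ) [Fact p.Prime] [CharP F p] {V : Type*} [AddCommGroup V] [Module F V] [FiniteDimensional F V] [Nontrivial V]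
    {G : Type*} [Group G] [Finite G] (ρ : Representation F G V) (g : G) :
    (∃ x : Multiplicative V ⋊[(MulAutMultiplicative V).symm.toMonoidHom.comp
        ((DistribMulAction.toAddAut ((V →ₗ[F] V)ˣ) V).comp ρ.asGroupHom)] G,
        x.right = g ∧ orderOf x = p * orderOf g) ↔
      ¬ (minpoly F (ρ g) ∣ ∑ i ∈ Finset.range (orderOf g), (Polynomial.X : Polynomial F) ^ i) := by
  classical
  set S : V →ₗ[F] V := ∑ i ∈ Finset.range (orderOf g), (ρ g) ^ i with hS
  have hev : Polynomial.aeval (ρ g) (∑ i ∈ Finset.range (orderOf g), (Polynomial.X : Polynomial F) ^ i) = S := by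
    simp [hS, map_sum]
  rw [minpoly.dvd_iff, hev]
  set φ := (MulAutMultiplicative V).symm.toMonoidHom.comp
    ((DistribMulAction.toAddAut ((V →ₗ[F] V)ˣ) V).comp ρ.asGroupHom) with hφ
  have hact : ∀ (h : G) (w : V), φ h (Multiplicative.ofAdd w) = Multiplicative.ofAdd (ρ h w) := fun h w => rfl
  have hpow : ∀ (v : V) (j : ℕ), (⟨Multiplicative.ofAdd v, g⟩ : Multiplicative V ⋊[φ] G) ^ j =
      ⟨Multiplicative.ofAdd ((∑ i ∈ Finset.range j, (ρ g) ^ i) v), g ^ j⟩ := by
    intro v j
    induction j with
    | zero => simp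
    | succ j ih =>
      rw [pow_succ, ih]
      refine SemidirectProduct.ext ?_ ?_
      · rw [SemidirectProduct.mul_left, hact, ← ofAdd_add, Finset.sum_range_succ, LinearMap.add_apply, map_pow]
      · rw [SemidirectProduct.mul_right, pow_succ]
  have hp : p.Prime := Fact.out
  have hk : 0 < orderOf g := orderOf_pos g
  have hord : ∀ v : V, orderOf (⟨Multiplicative.ofAdd v, g⟩ : Multiplicative V ⋊[φ] G) =
      if S v = 0 then orderOf g else p * orderOf g := by
    intro v
    set x : Multiplicative V ⋊[φ] G := ⟨Multiplicative.ofAdd v, g⟩ with hx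
    have hd : orderOf g ∣ orderOf x := orderOf_map_dvd SemidirectProduct.rightHom x
    have hxk : x ^ orderOf g = SemidirectProduct.inl (Multiplicative.ofAdd (S v)) := by
      rw [hx, hpow, pow_orderOf_eq_one]; rfl
    have hinl : orderOf (x ^ orderOf g) = orderOf (Multiplicative.ofAdd (S v)) := by
      rw [hxk, orderOf_injective _ SemidirectProduct.inl_injective]
    by_cases h0 : S v = 0
    · rw [if_pos h0]
      refine Nat.dvd_antisymm (orderOf_dvd_of_pow_eq_one ?_) hd
      rw [hxk, h0, ofAdd_zero, map_one]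
    · rw [if_neg h0]
      have hp' : orderOf (Multiplicative.ofAdd (S v)) = p := by
        refine orderOf_eq_prime ?_ (fun h => h0 (ofAdd_eq_one.mp h))
        rw [← ofAdd_nsmul, ← Nat.cast_smul_eq_nsmul F, CharP.cast_eq_zero, zero_smul, ofAdd_zero]
      rw [orderOf_pow' x hk.ne', Nat.gcd_eq_right hd, hp'] at hinl
      rw [← Nat.div_mul_cancel hd, hinl]
  constructor
  · rintro ⟨⟨a, b⟩, hb, ho⟩ h0
    simp only at hb
    subst hb
    have hne : p * orderOf b ≠ orderOf b := fun e => by
      have := Nat.mul_lt_mul_of_pos_right hp.one_lt hk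
      omega
    have h := hord a.toAdd
    rw [if_pos (by rw [h0]; rfl), ofAdd_toAdd] at h
    exact hne (ho.symm.trans h)
  · intro h0
    obtain ⟨v, hv⟩ : ∃ v, S v ≠ 0 := by
      by_contra! h; exact h0 (LinearMap.ext h)
    exact ⟨⟨Multiplicative.ofAdd v, g⟩, rfl, by rw [hord, if_neg hv]⟩

end Cfsg.Agent.S2516
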