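import Cfsg.Statements.S2517
import Cfsg.Agent.Lib.Spec.NineEight.BoundMain
import Cfsg.Agent.Lib.Spec.NineEight.Targets
import Cfsg.Agent.Lib.Linear.OrthCenter
import Cfsg.Agent.Lib.Linear.OrthSpinorApp

set_option autoImplicit false
open Cfsg

namespace Cfsg.Agent.S2517

open Module Cfsg.Lib.Linear Cfsg.Lib.Linear.Orth Cfsg.Lib.Spec.NineEight

theorem omega_bot {F : Type*} [Field F] [Fintype F] {ι : Type} [Fintype ι] [DecidableEq ι] {Q : (ι → F) → F}
    {B : LinearMap.BilinForm F (ι → F)} (C : Space Q B) (h2 : (2 : F) ≠ 0) (h7 : 7 ≤ Fintype.card ι)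
    (hodd : Odd (Fintype.card ι)) : Subgroup.center ↥(Cfsg.Omega F Q) = ⊥ := by
  rw [eq_bot_iff]
  intro z hz
  rw [Subgroup.mem_bot]
  rcases omega_center_pm C h7 hz with h | h
  · exact Subtype.ext (Subtype.ext (Units.ext h))
  · exfalso
    have := Abelianization.commutator_subset_ker (detSpin Q) z.2
    have hdet : ((z : ↥(isometryGroup F Q)) : GL ι F).val.det = 1 :=
      congrArg Units.val (congrArg Prod.fst this)
    rw [h, Matrix.det_neg, Matrix.det_one, mul_one, hodd.neg_one_pow] at hdet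
    exact h2 (by linear_combination -hdet)

/-- Element orders of the simple group are those of `Ω` of any similar nine dimensional space. -/
theorem range_pOmega {F : Type*} [Field F] [Fintype F] {ι κ : Type} [Fintype ι] [DecidableEq ι] [Fintype κ]
    [DecidableEq κ] {Q : (ι → F) → F} {B : LinearMap.BilinForm F (ι → F)} {R : (κ → F) → F} (C : Space Q B)
    (h2 : (2 : F) ≠ 0) (h7 : 7 ≤ Fintype.card ι) (hodd : Odd (Fintype.card ι)) (e : (ι → F) ≃ₗ[F] (κ → F)) {c : F}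
    (hc : c ≠ 0) (he : ∀ v, R (e v) = c * Q v) (n : ℕ) :
    n ∈ Set.range (orderOf : Cfsg.POmega F Q → ℕ) ↔
      ∃ g : ↥(isometryGroup F R), g ∈ Cfsg.Omega F R ∧ orderOf g = n := by
  obtain ⟨Φ, -⟩ := exists_transport e hc he
  let E : Cfsg.POmega F Q ≃* ↥(Cfsg.Omega F Q) :=
    (QuotientGroup.quotientMulEquivOfEq (omega_bot C h2 h7 hodd)).trans QuotientGroup.quotientBot
  constructor
  · rintro ⟨x, rfl⟩
    refine ⟨Φ (E x : ↥(isometryGroup F Q)), (map_omega Φ _).2 (E x).2, ?_⟩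
    rw [MulEquiv.orderOf_eq, Subgroup.orderOf_coe, MulEquiv.orderOf_eq]
  · rintro ⟨g, hg, rfl⟩
    have hmem : Φ.symm g ∈ Cfsg.Omega F Q := (map_omega Φ _).1 (by rw [MulEquiv.apply_symm_apply]; exact hg)
    refine ⟨E.symm ⟨Φ.symm g, hmem⟩, ?_⟩
    rw [MulEquiv.orderOf_eq, Subgroup.orderOf_mk, MulEquiv.orderOf_eq]

/-- Let F be a finite field of odd order q, let Ω₉ be the simple orthogonal group PΩ(9, F), and let Ω₈⁻ be the commutator subgroup of the isometry group of a minus-type non-singular quadratic form on V = F⁸ (the simple group PΩ⁻(8, F), acting on its natural module V). Then Ω₉ and the semidirect product V ⋊ Ω₈⁻ have exactly the same set of element orders. -/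
theorem result {F : Type*} [Field F] [Fintype F] (hF : Odd (Fintype.card F)) (a b : F)
    (hab : ∀ z₁ z₂ : F, z₁ ^ 2 + a * z₁ * z₂ + b * z₂ ^ 2 = 0 → z₁ = 0 ∧ z₂ = 0) :
    Set.range (orderOf : Cfsg.POmega F (Cfsg.quadFormOdd 4 F) → ℕ) =
      Set.range (orderOf :
        (Multiplicative (((Fin 3 ⊕ Fin 3) ⊕ Fin 2) → F)) ⋊[
          (MulAutMultiplicative (((Fin 3 ⊕ Fin 3) ⊕ Fin 2) → F)).symm.toMonoidHom.comp
           ((DistribMulAction.toAddAut (LinearMap.GeneralLinearGroup F (((Fin 3 ⊕ Fin 3) ⊕ Fin 2) → F))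
              (((Fin 3 ⊕ Fin 3) ⊕ Fin 2) → F)).comp
            (Matrix.GeneralLinearGroup.toLin.toMonoidHom.comp
              ((Cfsg.isometryGroup F (Cfsg.quadFormMinus 3 F a b)).subtype.comp
                (Cfsg.Omega F (Cfsg.quadFormMinus 3 F a b)).subtype)))]
          ↥(Cfsg.Omega F (Cfsg.quadFormMinus 3 F a b)) → ℕ) := by
  classical
  obtain ⟨p, hcp⟩ := CharP.exists F
  haveI := hcp
  haveI hp : Fact p.Prime := ⟨CharP.char_is_prime F p⟩
  have h2 : (2 : F) ≠ 0 := fun h => by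
    have hc : ringChar F = 2 := by
      rcases (Nat.dvd_prime Nat.prime_two).1 (ringChar.dvd (R := F) (x := 2) (by exact_mod_cast h)) with h1 | h1
      · exact absurd h1 (CharP.ringChar_ne_one)
      · exact h1
    have := FiniteField.even_card_iff_char_two.1 hc
    rw [Nat.odd_iff] at hF
    omega
  obtain ⟨B8, C8⟩ := exists_space_minus 3 a b hab
  obtain ⟨D, C1⟩ := exists_space_line (F := F) h2
  obtain ⟨D1, C1'⟩ := exists_space_line (F := F) h2
  obtain ⟨D2, C2⟩ := exists_space_plus (F := F) 4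
  have CO : Space (Cfsg.quadFormOdd 4 F) (sumB D1 D2) := C1'.sum C2
  have C9 := C8.sum C1
  have h9 : Fintype.card (((Fin 3 ⊕ Fin 3) ⊕ Fin 2) ⊕ Unit) = 9 := by simp
  obtain ⟨e, c, hc, he⟩ := odd_similar C9 h2 h9
  have hR : lineQ F 1 ≠ 0 := by simp [lineQ]
  have h8 : 2 ≤ Fintype.card ((Fin 3 ⊕ Fin 3) ⊕ Fin 2) := by simp
  ext n
  rw [range_pOmega CO h2 (by simp) ⟨4, by simp⟩ e hc he n]
  show _ ↔ AffOrd (Cfsg.quadFormMinus 3 F a b) n
  refine ⟨?_, fun h => affOrd_to_sum p C8 C1 h2 h8 ⟨4, by simp⟩ h⟩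
  rintro ⟨g, hg, rfl⟩
  obtain ⟨s, u, M, j, hsu, hcomm, hso, huo, hpM, hM0, -, -, -⟩ := exists_parts p g (orderOf_pos g).ne'
  have hsM : s ^ M = 1 := hso ▸ pow_orderOf_eq_one s
  have hsΩ : s ∈ Cfsg.Omega F _ := by
    have := mul_mem hg (inv_mem (omega_of_pElement p C9 h2 (by rw [h9]; norm_num) u (huo ▸ pow_orderOf_eq_one u)))
    rwa [hsu, mul_inv_cancel_right] at this
  obtain ⟨⟨k, hk⟩, hsum⟩ := fix_parity p C9 h2 hsΩ hsM hM0 hpM
  rw [h9] at hsum
  rcases Nat.lt_or_ge (finrank F (LinearMap.ker (lin (s : GL (((Fin 3 ⊕ Fin 3) ⊕ Fin 2) ⊕ Unit) F) - 1))) 2 with h | h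
  · exact affOrd_of_target p h2 hab (bound p C9 h2 h9 hg hsu hcomm hso huo hpM (by omega))
  · exact affOrd_of_sum p C8 C1 hR h2 h8 hg hsu hcomm hso huo hpM h

end Cfsg.Agent.S2517
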