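import Cfsg.Statements.S2518
import Cfsg.Agent.S1059
import Cfsg.Agent.S2371
import Cfsg.Agent.Lib.Chev.DescentField
import Cfsg.Agent.Lib.Chev.TorusG2Cox
import Cfsg.Agent.Lib.Spec.PSLTwoSpectrum
import Cfsg.Agent.Lib.Dickson.Overgroups

set_option autoImplicit false
open Cfsg

namespace Cfsg.Agent.S2518

open Cfsg.Lib.Chev Cfsg.Lie

variable {F : Type*} [Field F] [Fintype F]

theorem card_g2_three (hF : Fintype.card F = 3) : Nat.card ↥(chevG2.group F) = 4245696 := by
  rw [Cfsg.Agent.S1059.result hF]; norm_num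

/-- A self-centralising cyclic subgroup of prime order which is a Sylow subgroup isolates its prime. -/
theorem isolated {G : Type*} [Group G] [Finite G] {r : ℕ} [Fact r.Prime] (H : Subgroup G)
    (hH : Nat.card ↥H = r) (hidx : ¬ r ∣ H.index) (hc : Subgroup.centralizer (H : Set G) = H)
    {s : ℕ} (hs : s.Prime) (hrs : r ≠ s) (x : G) : orderOf x ≠ r * s := by
  intro hx
  have hy : orderOf (x ^ s) = r := by
    rw [orderOf_pow_of_dvd hs.pos.ne' (by rw [hx]; exact dvd_mul_left s r), hx, Nat.mul_div_cancel _ hs.pos]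
  let P : Sylow r G := (IsPGroup.of_card (n := 1) (by rw [hH, pow_one]) : IsPGroup r ↥H).toSylow hidx
  obtain ⟨R, hR⟩ := (IsPGroup.of_card (n := 1) (by rw [Nat.card_zpowers, hy, pow_one]) :
    IsPGroup r ↥(Subgroup.zpowers (x ^ s))).exists_le_sylow
  obtain ⟨g, hg⟩ := MulAction.exists_smul_eq G R P
  have hyH : g * x ^ s * g⁻¹ ∈ H := by
    have h1 : g * x ^ s * g⁻¹ ∈ ((g • R : Sylow r G) : Subgroup G) := by
      rw [Sylow.coe_subgroup_smul]
      exact ⟨x ^ s, hR (Subgroup.mem_zpowers _), rfl⟩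
    rw [hg] at h1
    exact h1
  have hgen : Subgroup.zpowers (g * x ^ s * g⁻¹) = H := by
    refine Subgroup.eq_of_le_of_card_ge (Subgroup.zpowers_le.2 hyH) ?_
    rw [hH, Nat.card_zpowers, ← MulAut.conj_apply, MulEquiv.orderOf_eq, hy]
  have hxH : g * x * g⁻¹ ∈ H := by
    rw [← hc, Subgroup.mem_centralizer_iff]
    intro h hh
    rw [SetLike.mem_coe, ← hgen, Subgroup.mem_zpowers_iff] at hh
    obtain ⟨i, rfl⟩ := hh
    have h2 : Commute (g * x * g⁻¹) (g * x ^ s * g⁻¹) := by
      rw [← conj_pow]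
      exact Commute.self_pow _ _
    exact ((h2.zpow_right i).eq).symm
  have h1 : orderOf (g * x * g⁻¹) ∣ r := hH ▸ Subgroup.orderOf_dvd_natCard _ hxH
  rw [← MulAut.conj_apply, MulEquiv.orderOf_eq, hx] at h1
  have := Nat.le_of_dvd (Nat.pos_of_ne_zero (Fact.out : r.Prime).ne_zero) h1
  have := hs.two_le
  have := (Fact.out : r.Prime).pos
  nlinarith

theorem no_seven (hF : Fintype.card F = 3) {s : ℕ} (hs : s.Prime) (h : 7 ≠ s) (x : ↥(chevG2.group F)) :
    orderOf x ≠ 7 * s := by
  haveI : Fact (Nat.Prime 7) := ⟨by norm_num⟩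
  have hsep : TorSep chevG2 tblG2 torG2cox (3 : ℕ) := torSep_of_pair certG2
    (show chkPair tblG2 torG2cox ((3 : ℕ) : ℤ) [2, 3, 4, 5, 6, 6, 1, 1, 2, 3, 4, 5] = true by decide +kernel)
  obtain ⟨H, -, h2, h3⟩ := exists_cyclic_self_centralizing certG2 hF (K := fullCertG2) inv_G2
    (torOK_of_chk certG2 _ chkTor_G2cox) rfl hsep
  rw [ord_G2cox] at h2
  norm_num at h2
  have h2' : Nat.card ↥H = 7 := by exact_mod_cast h2
  refine isolated H h2' (fun hd => ?_) h3 hs h x
  have hm := H.card_mul_index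
  rw [h2', card_g2_three hF] at hm
  omega

theorem no_thirteen (hF : Fintype.card F = 3) {s : ℕ} (hs : s.Prime) (h : 13 ≠ s) (x : ↥(chevG2.group F)) :
    orderOf x ≠ 13 * s := by
  haveI : Fact (Nat.Prime 13) := ⟨by norm_num⟩
  obtain ⟨H, -, h2, h3⟩ := Cfsg.Agent.S2371.result (F := F) 3 hF le_rfl
  refine isolated H h2 (fun hd => ?_) h3 hs h x
  have hm := H.card_mul_index
  rw [h2, card_g2_three hF] at hm
  omega

theorem exists_six (hF : Fintype.card F = 3) : ∃ x : ↥(chevG2.group F), orderOf x = 6 := by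
  haveI : Fact (Nat.Prime 3) := ⟨Nat.prime_three⟩
  haveI : CharP F 3 := charP_of_card_eq_prime hF
  have h3 : (3 : F) = 0 := by simpa using CharP.cast_eq_zero F 3
  let c : Fin chevG2.rank → Fˣ := fun i => if i.val = 0 then -1 else 1
  set t := torusHom chevG2 tblG2 F c with ht
  have htG : t ∈ chevG2.group F := diag_le_group certG2 (by rw [← torusHom_range certG2]; exact ⟨c, rfl⟩)
  have hc2 : c ^ 2 = 1 := funext fun i => by
    simp only [c, Pi.pow_apply, Pi.one_apply]; split_ifs <;> simp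
  have hchr : ∀ r, chr tblG2 chevG2 (extend' c) r = (-1 : F) ^ tblG2.cartan 0 r := by
    intro r
    rw [chr, show chevG2.rank = 2 from rfl, Finset.prod_range_succ, Finset.prod_range_one,
      extend', extend', dif_pos (show 0 < chevG2.rank by decide), dif_pos (show 1 < chevG2.rank by decide)]
    simp [c]
  have hconj : ∀ r < chevG2.nroots, ∀ u : F,
      t * xg certG2 r u = xg certG2 r (chr tblG2 chevG2 (extend' c) r * u) * t := by
    intro r hr u
    refine Units.ext ?_
    rw [Units.val_mul, Units.val_mul, ht, coe_torusHom, coe_xg, coe_xg,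
      scal_mul_x certG2.spec (extend' c) (fun j _ => extend'_ne c j) hr]
  have hcomm : Commute t (xg certG2 11 1) := by
    have := hconj 11 (by decide) 1
    rwa [hchr, show tblG2.cartan 0 11 = 0 by decide +kernel, zpow_zero, one_mul] at this
  have ho2 : orderOf t = 2 := by
    refine orderOf_eq_prime ?_ ?_
    · rw [ht, ← map_pow, hc2, map_one]
    · intro e
      have := hconj 10 (by decide) 1
      rw [e, one_mul, mul_one, hchr, show tblG2.cartan 0 10 = 3 by decide +kernel] at this
      have h' := xg_injective certG2 (by decide) this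
      norm_num at h'
      exact one_ne_zero (α := F) (by linear_combination h3 - h')
  have ho3 : orderOf (xg certG2 11 (1 : F)) = 3 := by
    refine orderOf_eq_prime ?_ ?_
    · rw [pow_succ, pow_succ, pow_one, xg_add, xg_add, show (1 : F) + 1 + 1 = 0 by linear_combination h3, xg_zero]
    · intro e
      exact one_ne_zero (α := F) (xg_injective certG2 (r := 11) (by decide) (e.trans (xg_zero certG2 11).symm))
  refine ⟨⟨t * xg certG2 11 1, mul_mem htG (xg_mem_group certG2 11 1)⟩, ?_⟩
  rw [Subgroup.orderOf_mk, hcomm.orderOf_mul_eq_mul_orderOf_of_coprime (by rw [ho2, ho3]; norm_num), ho2, ho3]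

theorem psl_thirteen {E : Type*} [Field E] [Fintype E] (hE : Fintype.card E = 13) :
    Nat.card (Matrix.ProjectiveSpecialLinearGroup (Fin 2) E) = 1092 ∧
      ∀ m, (∃ x : Matrix.ProjectiveSpecialLinearGroup (Fin 2) E, orderOf x = m) ↔ (m ∣ 13 ∨ m ∣ 6 ∨ m ∣ 7) := by
  haveI : Fact (Nat.Prime 13) := ⟨by norm_num⟩
  haveI : CharP E 13 := charP_of_card_eq_prime hE
  refine ⟨?_, fun m => ?_⟩
  · have := Cfsg.Lib.Dickson.card_psl_mul (K := E) (by rw [hE])
    rw [hE] at this
    omega
  · have := Set.ext_iff.1 (Cfsg.Lib.Spec.psl_two_spectrum (F := E) 13 (by omega)) m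
    rw [hE] at this
    exact this

end Cfsg.Agent.S2518

namespace Cfsg.Agent.S2518

/-- Let F₃ be the field with 3 elements and F₁₃ the field with 13 elements. The Chevalley group G₂(F₃) and PSL(2, F₁₃) have the same prime graph: the same prime divisors of their orders, and for distinct primes r, s an element of order rs in one iff in the other. -/
theorem result {F : Type*} [Field F] [Fintype F] (hF : Fintype.card F = 3) {E : Type*} [Field E] [Fintype E] (hE : Fintype.card E = 13) :
    ((∀ r : ℕ, r.Prime → (r ∣ Nat.card ↥(Cfsg.Lie.chevG2.group F) ↔ r ∣ Nat.card (Matrix.ProjectiveSpecialLinearGroup (Fin 2) E))) ∧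
      (∀ r s : ℕ, r.Prime → s.Prime → r ≠ s → ((∃ x : ↥(Cfsg.Lie.chevG2.group F), orderOf x = r * s) ↔ (∃ y : (Matrix.ProjectiveSpecialLinearGroup (Fin 2) E), orderOf y = r * s)))) := by
  obtain ⟨hcE, hspec⟩ := psl_thirteen hE
  have hcG := card_g2_three hF
  have hpr : ∀ r : ℕ, r.Prime → (r ∣ Nat.card ↥(Cfsg.Lie.chevG2.group F) ↔ r = 2 ∨ r = 3 ∨ r = 7 ∨ r = 13) := by
    intro r hr
    rw [hcG]
    constructor
    · intro h
      rw [show (4245696 : ℕ) = 2 ^ 6 * 3 ^ 6 * 7 * 13 by norm_num, hr.dvd_mul, hr.dvd_mul, hr.dvd_mul] at h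
      rcases h with ((h | h) | h) | h
      · exact Or.inl ((Nat.prime_dvd_prime_iff_eq hr Nat.prime_two).1 (hr.dvd_of_dvd_pow h))
      · exact Or.inr (Or.inl ((Nat.prime_dvd_prime_iff_eq hr Nat.prime_three).1 (hr.dvd_of_dvd_pow h)))
      · exact Or.inr (Or.inr (Or.inl ((Nat.prime_dvd_prime_iff_eq hr (by norm_num)).1 h)))
      · exact Or.inr (Or.inr (Or.inr ((Nat.prime_dvd_prime_iff_eq hr (by norm_num)).1 h)))
    · rintro (rfl | rfl | rfl | rfl) <;> norm_num
  refine ⟨fun r hr => ?_, fun r s hr hs hrs => ⟨?_, ?_⟩⟩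
  · rw [hpr r hr, hcE]
    constructor
    · rintro (rfl | rfl | rfl | rfl) <;> norm_num
    · intro h
      rw [show (1092 : ℕ) = 2 ^ 2 * 3 * 7 * 13 by norm_num, hr.dvd_mul, hr.dvd_mul, hr.dvd_mul] at h
      rcases h with ((h | h) | h) | h
      · exact Or.inl ((Nat.prime_dvd_prime_iff_eq hr Nat.prime_two).1 (hr.dvd_of_dvd_pow h))
      · exact Or.inr (Or.inl ((Nat.prime_dvd_prime_iff_eq hr Nat.prime_three).1 h))
      · exact Or.inr (Or.inr (Or.inl ((Nat.prime_dvd_prime_iff_eq hr (by norm_num)).1 h)))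
      · exact Or.inr (Or.inr (Or.inr ((Nat.prime_dvd_prime_iff_eq hr (by norm_num)).1 h)))
  · rintro ⟨x, hx⟩
    have h1 : r ∣ Nat.card ↥(Cfsg.Lie.chevG2.group F) := (hx ▸ dvd_mul_right r s).trans (orderOf_dvd_natCard x)
    have h2 : s ∣ Nat.card ↥(Cfsg.Lie.chevG2.group F) := (hx ▸ dvd_mul_left s r).trans (orderOf_dvd_natCard x)
    have hx' : orderOf x = s * r := hx.trans (Nat.mul_comm r s)
    rw [hspec]
    rcases (hpr r hr).1 h1 with rfl | rfl | rfl | rfl <;> rcases (hpr s hs).1 h2 with rfl | rfl | rfl | rfl <;>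
      first
        | exact absurd rfl hrs
        | exact absurd hx (no_seven hF hs (by decide) x)
        | exact absurd hx' (no_seven hF hr (by decide) x)
        | exact absurd hx (no_thirteen hF hs (by decide) x)
        | exact absurd hx' (no_thirteen hF hr (by decide) x)
        | norm_num
  · rintro ⟨y, hy⟩
    have h := (hspec _).1 ⟨y, hy⟩
    have e6 : r * s = 6 := by
      rcases h with h | h | h
      · exfalso
        rcases (Nat.dvd_prime (show Nat.Prime 13 by norm_num)).1 h with h | h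
        · exact hr.ne_one (Nat.eq_one_of_mul_eq_one_right h)
        · exact Nat.prime_mul_iff.1 (h ▸ (by norm_num : Nat.Prime 13)) |>.elim (fun h => hs.ne_one h.2) fun h => hr.ne_one h.2
      · have := Nat.le_of_dvd (by norm_num) h
        have := hr.two_le
        have := hs.two_le
        have : 4 ≤ r * s := by nlinarith

        interval_cases hv : r * s <;> first | rfl | omega
      · exfalso
        rcases (Nat.dvd_prime (show Nat.Prime 7 by norm_num)).1 h with h | h
        · exact hr.ne_one (Nat.eq_one_of_mul_eq_one_right h)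
        · exact Nat.prime_mul_iff.1 (h ▸ (by norm_num : Nat.Prime 7)) |>.elim (fun h => hs.ne_one h.2) fun h => hr.ne_one h.2
    rw [e6]
    exact exists_six hF

end Cfsg.Agent.S2518
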