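import Cfsg.Statements.S2519
import Cfsg.Agent.Lib.Chev.G2Seven.ExistOdd

set_option autoImplicit false
open Cfsg

namespace Cfsg.Agent.S2519

open Cfsg.Lie Cfsg.Lib.Chev Cfsg.Lib.Chev.G2Seven

/-- Let F be a finite field of odd order q = p^a ≥ 5. The element orders of the Chevalley group G₂(F) that are maximal under divisibility are exactly p(q + 1), p(q − 1), q² − 1, q² + q + 1, q² − q + 1, together with p² when p is 3 or 5. -/
theorem result {F : Type*} [Field F] [Fintype F] (p a : ℕ) (hp : p.Prime) (hp2 : p ≠ 2) (ha : 1 ≤ a) (hF : Fintype.card F = p ^ a) (hq5 : 5 ≤ Fintype.card F) :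
    {n : ℕ | n ∈ Set.range (orderOf : ↥(Cfsg.Lie.chevG2.group F) → ℕ) ∧ ∀ m ∈ Set.range (orderOf : ↥(Cfsg.Lie.chevG2.group F) → ℕ), n ∣ m → m = n} =
      ({p * (p ^ a + 1), p * (p ^ a - 1), p ^ (2 * a) - 1, p ^ (2 * a) + p ^ a + 1, p ^ (2 * a) - p ^ a + 1} : Set ℕ) ∪
        (if p = 3 ∨ p = 5 then ({p ^ 2} : Set ℕ) else ∅) := by
  classical
  haveI := Fact.mk hp
  haveI : CharP F p := charP_of_card_eq_prime_pow hF
  set q := Fintype.card F with hq
  rw [show p ^ (2 * a) = q ^ 2 by rw [hF, ← pow_mul, mul_comm], ← hF]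
  have hp3 : 3 ≤ p := by have := hp.two_le; omega
  have hq1 : 1 ≤ q := by omega
  have hpq : p ∣ q := by rw [hF]; exact dvd_pow_self p (by omega)
  have hodd : Odd q := by rw [hF]; exact (hp.odd_of_ne_two hp2).pow
  have hq2 : q ≤ q ^ 2 := Nat.le_self_pow two_ne_zero q
  have hsq : 5 * q ≤ q ^ 2 := by rw [pow_two]; exact Nat.mul_le_mul_right q hq5
  have hnd : ∀ n, n = q - 1 ∨ n = q + 1 ∨ n = q ^ 2 - 1 ∨ n = q ^ 2 + q + 1 ∨ n = q ^ 2 - q + 1 → n.Coprime p := by
    intro n hn
    refine (hp.coprime_iff_not_dvd.2 fun hd => ?_).symm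
    have h1 : (p : ℤ) ∣ n := Int.natCast_dvd_natCast.2 hd
    have h2 : (p : ℤ) ∣ q := Int.natCast_dvd_natCast.2 hpq
    have h3 : (p : ℤ) ∣ 1 := by
      rcases hn with rfl | rfl | rfl | rfl | rfl
      · rw [Nat.cast_sub hq1, Nat.cast_one] at h1; simpa using dvd_sub h2 h1
      · push_cast at h1; simpa using dvd_sub h1 h2
      · rw [Nat.cast_sub (by omega), Nat.cast_one, Nat.cast_pow] at h1
        simpa using dvd_sub (dvd_pow h2 two_ne_zero) h1
      · push_cast at h1; simpa [add_assoc, add_comm, add_left_comm] using dvd_sub h1 (dvd_add (dvd_pow h2 two_ne_zero) h2)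
      · rw [Nat.cast_add, Nat.cast_sub hq2, Nat.cast_one, Nat.cast_pow] at h1
        simpa using dvd_sub h1 (dvd_sub (dvd_pow h2 two_ne_zero) h2)
    have := Int.le_of_dvd one_pos h3
    omega
  set S : Set ℕ := ({p * (q + 1), p * (q - 1), q ^ 2 - 1, q ^ 2 + q + 1, q ^ 2 - q + 1} : Set ℕ) ∪
    (if p = 3 ∨ p = 5 then ({p ^ 2} : Set ℕ) else ∅) with hS
  have hS' : ∀ m, m ∈ S ↔ m = p * (q + 1) ∨ m = p * (q - 1) ∨ m = q ^ 2 - 1 ∨ m = q ^ 2 + q + 1 ∨
      m = q ^ 2 - q + 1 ∨ ((p = 3 ∨ p = 5) ∧ m = p ^ 2) := fun m => by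
    rw [hS]; split_ifs with h <;> simp [h, or_assoc] <;> tauto
  -- every member is the order of an element
  have hmem : ∀ m ∈ S, m ∈ Set.range (orderOf : ↥(chevG2.group F) → ℕ) := by
    have key : ∀ m, (∃ g ∈ chevG2.group F, orderOf g = m) → m ∈ Set.range (orderOf : ↥(chevG2.group F) → ℕ) := by
      rintro m ⟨g, hg, rfl⟩
      exact ⟨⟨g, hg⟩, (Subgroup.orderOf_coe _).symm⟩
    have h2 : ∀ b : Bool, ∃ g ∈ chevG2.group F, orderOf g = p * (if b then q + 1 else q - 1) := by
      intro b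
      obtain ⟨A, hA, hAo⟩ := exists_det_one (F := F) b
      obtain ⟨g, hg, hgo⟩ := exists_mul_prime p A hA (by
        rw [hAo]; cases b
        · exact hnd _ (Or.inl rfl)
        · exact hnd _ (Or.inr (Or.inl rfl)))
      exact ⟨g, hg, by rw [hgo, hAo, mul_comm]⟩
    intro m hm
    rcases (hS' m).1 hm with rfl | rfl | rfl | rfl | rfl | ⟨h, rfl⟩
    · exact key _ (by simpa using h2 true)
    · exact key _ (by simpa using h2 false)
    · exact key _ exists_sq_sub_one
    · exact key _ (exists_plus (by omega))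
    · exact key _ (exists_minus_odd hq5)
    · exact key _ (exists_p_sq p h)
  -- every order divides a member
  have hup : ∀ g : ↥(chevG2.group F), ∃ m ∈ S, orderOf g ∣ m := by
    intro g
    obtain ⟨n, e, hn, hcop, hcase⟩ := order_cases p g.2
    rw [← Subgroup.orderOf_coe, hn]
    have hpm : ∀ m ∈ [(q : ℤ) - 1, (q : ℤ) + 1], (n : ℤ) ∣ m → n ∣ q - 1 ∨ n ∣ q + 1 := by
      intro m hm hd
      simp only [List.mem_cons, List.not_mem_nil, or_false] at hm
      rcases hm with rfl | rfl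
      · exact Or.inl (Int.natCast_dvd_natCast.1 (by rwa [Nat.cast_sub hq1, Nat.cast_one]))
      · exact Or.inr (Int.natCast_dvd_natCast.1 (by push_cast; exact hd))
    have hP : ∀ {n e : ℕ}, (n ∣ q - 1 ∨ n ∣ q + 1) → e ∣ p → ∃ m ∈ S, n * e ∣ m := fun h he => by
      rcases h with h | h
      · exact ⟨p * (q - 1), (hS' _).2 (Or.inr (Or.inl rfl)), mul_comm p _ ▸ Nat.mul_dvd_mul h he⟩
      · exact ⟨p * (q + 1), (hS' _).2 (Or.inl rfl), mul_comm p _ ▸ Nat.mul_dvd_mul h he⟩
    rcases hcase with ⟨rfl, he⟩ | ⟨rfl, m, hm, hd⟩ | ⟨he, m, hm, hd⟩ | ⟨rfl, he⟩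
    · by_cases h35 : p = 3 ∨ p = 5
      · refine ⟨p ^ 2, (hS' _).2 (by simp [h35]), ?_⟩
        rw [one_mul]; exact he 2 (lt_of_lt_of_le (by norm_num) (Nat.pow_le_pow_left hp3 2))
      · push Not at h35
        have hp4 : p ≠ 4 := fun h => by rw [h] at hp; norm_num at hp
        have hp6 : p ≠ 6 := fun h => by rw [h] at hp; norm_num at hp
        exact hP (Or.inl (one_dvd _)) (by simpa using he 1 (by rw [pow_one]; omega))
    · simp only [List.mem_cons, List.not_mem_nil, or_false] at hm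
      rcases hm with rfl | rfl | rfl | rfl | rfl
      · exact hP (hpm _ (by simp [hq]) hd) (one_dvd _)
      · exact hP (hpm _ (by simp [hq]) hd) (one_dvd _)
      · exact ⟨q ^ 2 - 1, (hS' _).2 (by simp), by
          rw [mul_one]; refine Int.natCast_dvd_natCast.1 ?_
          rw [Nat.cast_sub (Nat.one_le_pow _ _ (by omega)), Nat.cast_pow, Nat.cast_one, pow_two]; exact hd⟩
      · exact ⟨q ^ 2 + q + 1, (hS' _).2 (by simp), by
          rw [mul_one]; refine Int.natCast_dvd_natCast.1 ?_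
          push_cast; rw [pow_two]; exact hd⟩
      · exact ⟨q ^ 2 - q + 1, (hS' _).2 (by simp), by
          rw [mul_one]; refine Int.natCast_dvd_natCast.1 ?_
          rw [Nat.cast_add, Nat.cast_sub hq2, Nat.cast_pow, Nat.cast_one, pow_two]; exact hd⟩
    · exact hP (hpm m hm hd) he
    · have h3 : 3 ∣ q - 1 ∨ 3 ∣ q + 1 := by
        have hne : ¬ 3 ∣ q := fun h => by
          rw [hF] at h
          have h3p := (Nat.prime_dvd_prime_iff_eq Nat.prime_three hp).1 (Nat.prime_three.dvd_of_dvd_pow h)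
          rw [← h3p] at hcop; norm_num at hcop
        omega
      exact hP h3 (by simpa using he 1 (by rw [pow_one]; omega))
  -- no member divides another
  have hinc : ∀ m ∈ S, ∀ m' ∈ S, m ∣ m' → m = m' := by
    have hP : ∀ {x y : ℕ}, x.Coprime p → x ∣ p * y → x ∣ y := fun h hd => h.dvd_of_dvd_mul_left hd
    have hsmall : ∀ {x y : ℕ}, 0 < y → y < x → ¬ x ∣ y := fun h1 h2 h => by
      have := Nat.le_of_dvd h1 h; omega
    have hdouble : ∀ {x y : ℕ}, x < y → y < 2 * x → ¬ x ∣ y := fun h1 h2 ⟨c, hc⟩ => by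
      rcases c with _ | _ | c
      · simp at hc; omega
      · simp at hc; omega
      · rw [hc] at h2; nlinarith
    have hpn : ∀ {x y : ℕ}, y.Coprime p → ¬ p * x ∣ y := fun h hd =>
      hp.coprime_iff_not_dvd.1 h.symm (dvd_trans (dvd_mul_right p _) hd)
    have c1 := hnd _ (Or.inl rfl)
    have c2 := hnd _ (Or.inr (Or.inl rfl))
    have c3 := hnd _ (Or.inr (Or.inr (Or.inl rfl)))
    have c4 := hnd _ (Or.inr (Or.inr (Or.inr (Or.inl rfl))))
    have c5 := hnd _ (Or.inr (Or.inr (Or.inr (Or.inr rfl))))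
    have hone : ∀ {x : ℕ}, x.Coprime p → 1 < x → ¬ x ∣ p ^ 2 := fun h hx hd => by
      have := Nat.eq_one_of_dvd_coprimes (h.pow_right 2) dvd_rfl hd; omega
    intro m hm m' hm' hd
    rcases (hS' m).1 hm with rfl | rfl | rfl | rfl | rfl | ⟨-, rfl⟩ <;>
      rcases (hS' m').1 hm' with rfl | rfl | rfl | rfl | rfl | ⟨-, rfl⟩ <;> first | rfl | exfalso
    · exact hsmall (by omega) (by omega) (Nat.dvd_of_mul_dvd_mul_left hp.pos hd)
    · exact hpn c3 hd
    · exact hpn c4 hd
    · exact hpn c5 hd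
    · rw [pow_two] at hd
      exact hone c2 (by omega) (dvd_trans (Nat.dvd_of_mul_dvd_mul_left hp.pos hd) (dvd_pow_self p two_ne_zero))
    · have h := Nat.dvd_of_mul_dvd_mul_left hp.pos hd
      have h2 : q - 1 ∣ 2 := by
        have := Nat.dvd_sub h (dvd_refl (q - 1))
        rwa [show q + 1 - (q - 1) = 2 by omega] at this
      exact hsmall two_pos (by omega) h2
    · exact hpn c3 hd
    · exact hpn c4 hd
    · exact hpn c5 hd
    · rw [pow_two] at hd
      exact hone c1 (by omega) (dvd_trans (Nat.dvd_of_mul_dvd_mul_left hp.pos hd) (dvd_pow_self p two_ne_zero))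
    · exact hsmall (by omega) (by omega) (hP c3 hd)
    · exact hsmall (by omega) (by omega) (hP c3 hd)
    · exact hdouble (by omega) (by omega) hd
    · exact hsmall (by omega) (by omega) hd
    · exact hone c3 (by omega) hd
    · exact hsmall (by omega) (by omega) (hP c4 hd)
    · exact hsmall (by omega) (by omega) (hP c4 hd)
    · exact hsmall (by omega) (by omega) hd
    · exact hsmall (by omega) (by omega) hd
    · exact hone c4 (by omega) hd
    · exact hsmall (by omega) (by omega) (hP c5 hd)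
    · exact hsmall (by omega) (by omega) (hP c5 hd)
    · exact hdouble (by omega) (by omega) hd
    · exact hdouble (by omega) (by omega) hd
    · exact hone c5 (by omega) hd
    · rw [pow_two] at hd
      exact hp.coprime_iff_not_dvd.1 c2.symm (Nat.dvd_of_mul_dvd_mul_left hp.pos hd)
    · rw [pow_two] at hd
      exact hp.coprime_iff_not_dvd.1 c1.symm (Nat.dvd_of_mul_dvd_mul_left hp.pos hd)
    · rw [pow_two] at hd; exact hpn c3 hd
    · rw [pow_two] at hd; exact hpn c4 hd
    · rw [pow_two] at hd; exact hpn c5 hd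
  ext n
  constructor
  · rintro ⟨⟨g, rfl⟩, hmax⟩
    obtain ⟨m, hm, hd⟩ := hup g
    exact hmax m (hmem m hm) hd ▸ hm
  · intro hn
    refine ⟨hmem n hn, ?_⟩
    rintro _ ⟨g, rfl⟩ hd
    obtain ⟨m', hm', hd'⟩ := hup g
    have := hinc n hn m' hm' (hd.trans hd')
    subst this
    exact Nat.dvd_antisymm hd' hd

end Cfsg.Agent.S2519
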