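import Cfsg.Statements.S2520
import Cfsg.Agent.Lib.Chev.G2Seven.ExistTwo

set_option autoImplicit false
open Cfsg

namespace Cfsg.Agent.S2520

open Cfsg.Lie Cfsg.Lib.Chev Cfsg.Lib.Chev.G2Seven

/-- Let F be a finite field with q = 2^a ≥ 4 elements and G₂(F) the Chevalley group of type G₂ over it. Every element order of G₂(F) maximal under divisibility lies in the set {8, 12, 2(q + 1), 2(q − 1), q² − 1, q² + q + 1, q² − q + 1}, and every member of that set is an element order of G₂(F). -/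
theorem result {F : Type*} [Field F] [Fintype F] (a : ℕ) (ha : 2 ≤ a) (hF : Fintype.card F = 2 ^ a) :
    {n : ℕ | n ∈ Set.range (orderOf : ↥(Cfsg.Lie.chevG2.group F) → ℕ) ∧ ∀ m ∈ Set.range (orderOf : ↥(Cfsg.Lie.chevG2.group F) → ℕ), n ∣ m → m = n} ⊆ ({8, 12, 2 * (2 ^ a + 1), 2 * (2 ^ a - 1), 2 ^ (2 * a) - 1, 2 ^ (2 * a) + 2 ^ a + 1, 2 ^ (2 * a) - 2 ^ a + 1} : Set ℕ) ∧
    ({8, 12, 2 * (2 ^ a + 1), 2 * (2 ^ a - 1), 2 ^ (2 * a) - 1, 2 ^ (2 * a) + 2 ^ a + 1, 2 ^ (2 * a) - 2 ^ a + 1} : Set ℕ) ⊆ Set.range (orderOf : ↥(Cfsg.Lie.chevG2.group F) → ℕ) := by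
  classical
  haveI := Fact.mk Nat.prime_two
  haveI : CharP F 2 := charP_of_card_eq_prime_pow hF
  set q := Fintype.card F with hq
  have hq4 : 4 ≤ q := by
    rw [hF, show (4 : ℕ) = 2 ^ 2 from rfl]; exact Nat.pow_le_pow_right (by norm_num) ha
  have hev : Even q := by rw [hF]; exact (Nat.even_pow).2 ⟨even_two, by omega⟩
  have hq6 : q = 4 ∨ 6 ≤ q := by
    rcases eq_or_ne a 2 with rfl | h
    · exact Or.inl (by rw [hF]; rfl)
    · exact Or.inr ((by norm_num : 6 ≤ 2 ^ 3).trans (hF ▸ Nat.pow_le_pow_right (by norm_num) (by omega)))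
  rw [show 2 ^ (2 * a) = q ^ 2 by rw [hF, ← pow_mul, mul_comm], ← hF]
  -- every member is the order of an element
  have hmem : ∀ m ∈ ({8, 12, 2 * (q + 1), 2 * (q - 1), q ^ 2 - 1, q ^ 2 + q + 1, q ^ 2 - q + 1} : Set ℕ),
      m ∈ Set.range (orderOf : ↥(chevG2.group F) → ℕ) := by
    have key : ∀ m, (∃ g ∈ chevG2.group F, orderOf g = m) → m ∈ Set.range (orderOf : ↥(chevG2.group F) → ℕ) := by
      rintro m ⟨g, hg, rfl⟩
      exact ⟨⟨g, hg⟩, (Subgroup.orderOf_coe _).symm⟩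
    have h2 : ∀ b : Bool, ∃ g ∈ chevG2.group F, orderOf g = (if b then q + 1 else q - 1) * 2 := by
      intro b
      obtain ⟨A, hA, hAo⟩ := exists_det_one (F := F) b
      obtain ⟨g, hg, hgo⟩ := exists_mul_prime 2 A hA (by
        rw [hAo, Nat.coprime_two_right]
        obtain ⟨k, hk⟩ := hev
        cases b
        · exact ⟨k - 1, by simp; omega⟩
        · exact ⟨k, by simp; omega⟩)
      exact ⟨g, hg, by rw [hgo, hAo]⟩
    intro m hm
    simp only [Set.mem_insert_iff, Set.mem_singleton_iff] at hm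
    rcases hm with rfl | rfl | rfl | rfl | rfl | rfl | rfl
    · exact key _ exists_eight
    · exact key _ exists_twelve
    · exact key _ (by simpa [mul_comm] using h2 true)
    · exact key _ (by simpa [mul_comm] using h2 false)
    · exact key _ exists_sq_sub_one
    · exact key _ (exists_plus (by omega))
    · exact key _ (exists_minus hq6)
  refine ⟨?_, hmem⟩
  rintro n ⟨⟨g, rfl⟩, hmax⟩
  suffices h : ∃ m ∈ ({8, 12, 2 * (q + 1), 2 * (q - 1), q ^ 2 - 1, q ^ 2 + q + 1, q ^ 2 - q + 1} : Set ℕ),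
      orderOf g ∣ m by
    obtain ⟨m, hm, hd⟩ := h
    exact hmax m (hmem m hm) hd ▸ hm
  obtain ⟨n, e, hn, -, hcase⟩ := order_cases 2 g.2
  rw [← Subgroup.orderOf_coe, hn]
  have hq1 : 1 ≤ q := by omega
  have hq2 : q ≤ q ^ 2 := Nat.le_self_pow two_ne_zero q
  have hpm : ∀ m ∈ [(q : ℤ) - 1, (q : ℤ) + 1], (n : ℤ) ∣ m → n ∣ q - 1 ∨ n ∣ q + 1 := by
    intro m hm hd
    simp only [List.mem_cons, List.not_mem_nil, or_false] at hm
    rcases hm with rfl | rfl
    · exact Or.inl (Int.natCast_dvd_natCast.1 (by rwa [Nat.cast_sub hq1, Nat.cast_one]))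
    · exact Or.inr (Int.natCast_dvd_natCast.1 (by push_cast; exact hd))
  rcases hcase with ⟨rfl, he⟩ | ⟨rfl, m, hm, hd⟩ | ⟨he, m, hm, hd⟩ | ⟨rfl, he⟩
  · exact ⟨8, by simp, by rw [one_mul]; exact he 3 (by norm_num)⟩
  · simp only [List.mem_cons, List.not_mem_nil, or_false] at hm
    rw [mul_one]
    rcases hm with rfl | rfl | rfl | rfl | rfl
    · exact ⟨2 * (q - 1), by simp, Dvd.dvd.mul_left (Int.natCast_dvd_natCast.1 (by rwa [Nat.cast_sub hq1, Nat.cast_one])) 2⟩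
    · exact ⟨2 * (q + 1), by simp, Dvd.dvd.mul_left (Int.natCast_dvd_natCast.1 (by push_cast; exact hd)) 2⟩
    · exact ⟨q ^ 2 - 1, by simp, Int.natCast_dvd_natCast.1 (by
        rw [Nat.cast_sub (Nat.one_le_pow _ _ (by omega)), Nat.cast_pow, Nat.cast_one, pow_two]; exact hd)⟩
    · exact ⟨q ^ 2 + q + 1, by simp, Int.natCast_dvd_natCast.1 (by push_cast; rw [pow_two]; exact hd)⟩
    · exact ⟨q ^ 2 - q + 1, by simp, Int.natCast_dvd_natCast.1 (by
        rw [Nat.cast_add, Nat.cast_sub hq2, Nat.cast_pow, Nat.cast_one, pow_two]; exact hd)⟩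
  · rcases hpm m hm hd with h | h
    · exact ⟨2 * (q - 1), by simp, by rw [mul_comm 2]; exact Nat.mul_dvd_mul h he⟩
    · exact ⟨2 * (q + 1), by simp, by rw [mul_comm 2]; exact Nat.mul_dvd_mul h he⟩
  · exact ⟨12, by simp, Nat.mul_dvd_mul_left 3 (he 2 (by norm_num))⟩

end Cfsg.Agent.S2520
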