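import Cfsg.Statements.S2521


set_option autoImplicit false
open Cfsg

namespace Cfsg.Agent.S2521

/-- Let B be a finite group that is the semidirect product of a nilpotent normal subgroup U by an abelian subgroup T (U ∩ T = 1, UT = B), and let t ∈ T have centralizer exactly T. Then every element of the coset tU is conjugate to t in B: for each u ∈ U there is b ∈ B with b t b⁻¹ = t u. -/
theorem result {B : Type*} [Group B] [Finite B] (U T : Subgroup B) [U.Normal] (hU : Group.IsNilpotent ↥U) (hT : IsMulCommutative ↥T)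
    (hcompl : Subgroup.IsComplement' U T) (t : B) (ht : t ∈ T) (hreg : Subgroup.centralizer ({t} : Set B) = T) (u : B) (hu : u ∈ U) :
    ∃ b : B, b * t * b⁻¹ = t * u := by
  have htU : ∀ b ∈ U, t⁻¹ * b * t * b⁻¹ ∈ U := fun b hb => by
    have := Subgroup.Normal.conj_mem inferInstance b hb t⁻¹
    rw [inv_inv] at this
    exact U.mul_mem this (U.inv_mem hb)
  let f : U → U := fun b => ⟨t⁻¹ * (b : B) * t * (b : B)⁻¹, htU b b.2⟩
  have hf : Function.Injective f := by
    rintro ⟨b, hb⟩ ⟨c, hc⟩ h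
    have h' : t⁻¹ * b * t * b⁻¹ = t⁻¹ * c * t * c⁻¹ := congrArg Subtype.val h
    have hmem : c⁻¹ * b ∈ Subgroup.centralizer ({t} : Set B) := by
      rw [Subgroup.mem_centralizer_singleton_iff]
      calc c⁻¹ * b * t = c⁻¹ * t * (t⁻¹ * b * t * b⁻¹) * b := by group
        _ = c⁻¹ * t * (t⁻¹ * c * t * c⁻¹) * b := by rw [h']
        _ = t * (c⁻¹ * b) := by group
    rw [hreg] at hmem
    have : c⁻¹ * b ∈ U ⊓ T := ⟨U.mul_mem (U.inv_mem hc) hb, hmem⟩
    rw [hcompl.disjoint.eq_bot, Subgroup.mem_bot] at this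
    exact Subtype.ext (inv_mul_eq_one.1 this).symm
  obtain ⟨b, hb⟩ := (Finite.injective_iff_surjective.1 hf) ⟨u, hu⟩
  refine ⟨b, ?_⟩
  have : t⁻¹ * (b : B) * t * (b : B)⁻¹ = u := congrArg Subtype.val hb
  show (b : B) * t * (b : B)⁻¹ = t * u
  rw [← this]
  show (b : B) * t * (b : B)⁻¹ = t * (t⁻¹ * b * t * (b : B)⁻¹)
  group

end Cfsg.Agent.S2521
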