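import Cfsg.Statements.S2524
import Cfsg.Agent.Lib.Linear.WeilUnique.Main
-- import your own Cfsg.Agent.* helpers here

set_option autoImplicit false
open Cfsg

namespace Cfsg.Agent.S2524

open Matrix Cfsg.Lib.Linear.WeilUnique

/-- Let F be a finite field of odd order q and G = Sp(2n, F) with n ≥ 2. Then G has exactly four irreducible complex characters of degree (q^n + 1)/2 or (q^n − 1)/2 (two of each), and every other non-principal irreducible character has degree at least (q^n − 1)(q^n − q)/(2(q + 1)). -/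
theorem result {F : Type*} [Field F] [Fintype F] (hodd : Odd (Fintype.card F)) (n : ℕ) (hn : 2 ≤ n) :
    Nat.card {χ : Cfsg.IrrCharacter ↥(Matrix.symplecticGroup (Fin n) F) // (χ : ↥(Matrix.symplecticGroup (Fin n) F) → ℂ) 1 = (((Fintype.card F) ^ n + 1 : ℕ) : ℂ) / 2} = 2 ∧
    Nat.card {χ : Cfsg.IrrCharacter ↥(Matrix.symplecticGroup (Fin n) F) // (χ : ↥(Matrix.symplecticGroup (Fin n) F) → ℂ) 1 = (((Fintype.card F) ^ n - 1 : ℕ) : ℂ) / 2} = 2 ∧
    ∀ χ : Cfsg.IrrCharacter ↥(Matrix.symplecticGroup (Fin n) F),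
      (χ : ↥(Matrix.symplecticGroup (Fin n) F) → ℂ) 1 ≠ 1 →
      (χ : ↥(Matrix.symplecticGroup (Fin n) F) → ℂ) 1 ≠ (((Fintype.card F) ^ n + 1 : ℕ) : ℂ) / 2 →
      (χ : ↥(Matrix.symplecticGroup (Fin n) F) → ℂ) 1 ≠ (((Fintype.card F) ^ n - 1 : ℕ) : ℂ) / 2 →
      (((Fintype.card F) ^ n - 1 : ℕ) : ℝ) * (((Fintype.card F) ^ n - Fintype.card F : ℕ) : ℝ) / (2 * ((Fintype.card F : ℕ) + 1 : ℝ)) ≤ ‖(χ : ↥(Matrix.symplecticGroup (Fin n) F) → ℂ) 1‖ := by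
  classical
  obtain ⟨q, hq⟩ : ∃ q, q = Fintype.card F := ⟨_, rfl⟩
  have h2 : (2 : F) ≠ 0 := by
    refine Ring.two_ne_zero fun h => ?_
    have := FiniteField.even_card_of_char_two h
    have := Nat.odd_iff.mp hodd
    omega
  have hq3 : 3 ≤ q := by
    have h1 := Fintype.one_lt_card (α := F)
    have := Nat.odd_iff.mp hodd
    omega
  obtain ⟨ψ, hψ⟩ : ∃ ψ : AddChar F ℂ, ψ.IsPrimitive :=
    ⟨_, AddChar.FiniteField.primitiveChar_to_Complex_isPrimitive F⟩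
  obtain ⟨c, hc0, hc⟩ := exists_nonsquare h2
  obtain ⟨i, -⟩ : ∃ i : Fin n, i = ⟨0, by omega⟩ := ⟨_, rfl⟩
  rw [← hq]
  obtain ⟨Q, hQ⟩ : ∃ Q, Q = q ^ n := ⟨_, rfl⟩
  rw [← hQ]
  have hqQ : q * q ≤ Q := by rw [hQ, ← sq]; exact Nat.pow_le_pow_right (by omega) hn
  have hqq : 3 * q ≤ q * q := Nat.mul_le_mul_right q hq3
  -- the degrees of Weil type lie below the gap
  have hgap : ∀ k : ℕ, 2 * k ≤ Q + 1 → 2 * (q + 1) * k < (Q - 1) * (Q - q) := by
    intro k hk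
    have h1 : 2 * (q + 1) * k ≤ (q + 1) * (Q + 1) := by
      rw [mul_assoc, mul_left_comm]; exact Nat.mul_le_mul_left _ hk
    have h3 : (2 * q) * (Q - 1) ≤ (Q - q) * (Q - 1) := Nat.mul_le_mul_right _ (by omega)
    obtain ⟨R, rfl⟩ : ∃ R, Q = R + 1 := ⟨Q - 1, by omega⟩
    simp only [Nat.add_sub_cancel] at h1 h3 ⊢
    have h4 : 2 * q * R ≤ R * (R + 1 - q) := by rw [mul_comm R]; exact h3
    nlinarith
  have hsmall : ∀ χ : Sp F n → ℂ, (2 * χ 1 = ((Q + 1 : ℕ) : ℂ) ∨ 2 * χ 1 = ((Q - 1 : ℕ) : ℂ)) → χ 1 ≠ 1 ∧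
      ∀ k : ℕ, χ 1 = k → 2 * (Fintype.card F + 1) * k <
        (Fintype.card F ^ n - 1) * (Fintype.card F ^ n - Fintype.card F) := by
    intro χ h
    refine ⟨fun h1 => ?_, fun k hk => ?_⟩
    · rw [h1, mul_one] at h
      rcases h with h | h
      · have := Nat.cast_injective (R := ℂ) (show ((2 : ℕ) : ℂ) = ((Q + 1 : ℕ) : ℂ) by exact_mod_cast h)
        omega
      · have := Nat.cast_injective (R := ℂ) (show ((2 : ℕ) : ℂ) = ((Q - 1 : ℕ) : ℂ) by exact_mod_cast h)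
        omega
    · rw [← hq, ← hQ]
      refine hgap k ?_
      rw [hk] at h
      rcases h with h | h
      · have := Nat.cast_injective (R := ℂ) (show ((2 * k : ℕ) : ℂ) = ((Q + 1 : ℕ) : ℂ) by rw [Nat.cast_mul]; exact h)
        omega
      · have := Nat.cast_injective (R := ℂ) (show ((2 * k : ℕ) : ℂ) = ((Q - 1 : ℕ) : ℂ) by rw [Nat.cast_mul]; exact h)
        omega
  -- exactly one character for each weight class in each of the two degrees
  have count : ∀ D : ℕ, (D = Q + 1 ∨ D = Q - 1) →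
      (∀ a : F, a = 1 ∨ a = c * 1 → ∃ χ : Sp F n → ℂ, Cfsg.IsIrrCharacter (Sp F n) χ ∧ 2 * χ 1 = (D : ℂ) ∧
        wt ψ χ (rk1 a (Pi.single i 1)) ≠ 0) →
      Nat.card {χ : Cfsg.IrrCharacter (Sp F n) // (χ : Sp F n → ℂ) 1 = (D : ℂ) / 2} = 2 := by
    intro D hD hex
    obtain ⟨χ₁, hχ₁, hd₁, hw₁⟩ := hex 1 (Or.inl rfl)
    obtain ⟨χ₂, hχ₂, hd₂, hw₂⟩ := hex (c * 1) (Or.inr rfl)
    have hs : ∀ χ : Sp F n → ℂ, 2 * χ 1 = (D : ℂ) → χ 1 ≠ 1 ∧ ∀ k : ℕ, χ 1 = k → 2 * (Fintype.card F + 1) * k <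
        (Fintype.card F ^ n - 1) * (Fintype.card F ^ n - Fintype.card F) := fun χ h =>
      hsmall χ (by rcases hD with e | e <;> rw [e] at h <;> [exact Or.inl h; exact Or.inr h])
    have hdeg : ∀ χ : Sp F n → ℂ, χ 1 = (D : ℂ) / 2 ↔ 2 * χ 1 = (D : ℂ) := fun χ => by
      constructor <;> intro h
      · rw [h]; ring
      · rw [← h]; ring
    rw [Nat.card_eq_two_iff]
    refine ⟨⟨⟨χ₁, hχ₁⟩, (hdeg χ₁).mpr hd₁⟩, ⟨⟨χ₂, hχ₂⟩, (hdeg χ₂).mpr hd₂⟩, fun e => ?_, ?_⟩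
    · have e' : χ₁ = χ₂ := congrArg (fun z => z.1.1) e
      obtain ⟨k, σ, hσ, rfl⟩ := hχ₁
      obtain ⟨hk1, hk2⟩ := hs _ hd₁
      rw [Representation.char_one, Module.finrank_fin_fun] at hk1 hk2
      obtain ⟨-, b, ε, f, hb, hf, hspan, -⟩ := small_cases hψ h2 hn one_ne_zero hc i σ hσ
        (fun e => hk1 (by rw [e, Nat.cast_one])) (hk2 k rfl)
      rcases hb with hb | hb
      · refine hw₂ ?_
        rw [← e']
        exact wt_eq_zero hψ h2 hf hspan fun x => by rw [hb]; exact (class_ne hc one_ne_zero i x).1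
      · refine hw₁ ?_
        exact wt_eq_zero hψ h2 hf hspan fun x => by rw [hb]; exact (class_ne hc one_ne_zero i x).2
    · refine Set.eq_univ_of_forall fun z => ?_
      obtain ⟨⟨χ, hχ⟩, hd⟩ := z
      have hd' := (hdeg χ).mp hd
      obtain ⟨hk1, hk2⟩ := hs χ hd'
      have hmain : ∃ a : F, (a = 1 ∨ a = c * 1) ∧ wt ψ χ (rk1 a (Pi.single i 1)) ≠ 0 := by
        obtain ⟨k, σ, hσ, rfl⟩ := hχ
        rw [Representation.char_one, Module.finrank_fin_fun] at hk1 hk2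
        obtain ⟨-, b, ε, f, hb, hf, hspan, -⟩ := small_cases hψ h2 hn one_ne_zero hc i σ hσ
          (fun e => hk1 (by rw [e, Nat.cast_one])) (hk2 k rfl)
        exact ⟨b, hb, wt_ne_zero (hf.mem_ws _) (hf.ne_zero _ (by simp))⟩
      obtain ⟨a, ha, hw⟩ := hmain
      rcases ha with ha | ha <;> subst ha
      · refine Or.inl (Subtype.ext (Subtype.ext ?_))
        exact char_eq_of_wt hψ h2 hn one_ne_zero hc i hχ hχ₁ (hd.trans ((hdeg χ₁).mpr hd₁).symm) hk1 hk2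
          (Or.inl rfl) hw hw₁
      · refine Or.inr (Subtype.ext (Subtype.ext ?_))
        exact char_eq_of_wt hψ h2 hn one_ne_zero hc i hχ hχ₂ (hd.trans ((hdeg χ₂).mpr hd₂).symm) hk1 hk2
          (Or.inr rfl) hw hw₂
  have hhalves : ∀ a : F, a = 1 ∨ a = c * 1 → _ := fun a ha =>
    exists_halves (n := n) hψ h2 hn (show a ≠ 0 by rcases ha with e | e <;> rw [e] <;> simp [hc0]) i
  refine ⟨count (Q + 1) (Or.inl rfl) fun a ha => ?_, count (Q - 1) (Or.inr rfl) fun a ha => ?_, fun χ h1 hp hm => ?_⟩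
  · obtain ⟨χ, χ', hχ, -, hd, -, hw, -⟩ := hhalves a ha
    exact ⟨χ, hχ, by rw [hd, hQ, hq], hw⟩
  · obtain ⟨χ, χ', -, hχ', -, hd, -, hw⟩ := hhalves a ha
    exact ⟨χ', hχ', by rw [hd, hQ, hq], hw⟩
  · obtain ⟨k, σ, hσ, hχ⟩ := χ.2
    rw [← hχ, Representation.char_one, Module.finrank_fin_fun] at h1 hp hm ⊢
    have hle : (Q - 1) * (Q - q) ≤ 2 * (q + 1) * k := by
      by_contra hlt
      push Not at hlt
      have hk1 : k ≠ 1 := fun e => h1 (by rw [e, Nat.cast_one])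
      obtain ⟨hdeg, -⟩ := small_cases hψ h2 hn one_ne_zero hc i σ hσ hk1 (by rw [← hq, ← hQ]; exact hlt)
      rw [← hq, ← hQ] at hdeg
      rcases hdeg with hd | hd
      · exact hp (by rw [← hd, Nat.cast_mul]; ring)
      · exact hm (by rw [← hd, Nat.add_sub_cancel, Nat.cast_mul]; ring)
    rw [Complex.norm_natCast, div_le_iff₀ (by positivity)]
    have : (((Q - 1) * (Q - q) : ℕ) : ℝ) ≤ ((2 * (q + 1) * k : ℕ) : ℝ) := Nat.cast_le.mpr hle
    push_cast at this ⊢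
    linarith


end Cfsg.Agent.S2524
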