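import Cfsg.Statements.S2530
-- import your own Cfsg.Agent.* helpers here

set_option autoImplicit false
open Cfsg

namespace Cfsg.Agent.S2530

section

variable {G : Type*} [Group G] (r : ℕ → G)

/-- the coset representative `r k * r (k-1) * ... * r j` -/
def cw : ℕ → ℕ → G
  | 0, j => if j = 0 then r 0 else 1
  | k + 1, j => if j ≤ k + 1 then r (k + 1) * cw k j else 1

theorem cw_gt : ∀ (k j : ℕ), k < j → cw r k j = 1
  | 0, j, h => by simp [cw, Nat.ne_of_gt h]
  | k + 1, j, h => by simp [cw, Nat.not_le_of_lt h]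

theorem cw_succ (k j : ℕ) (h : j ≤ k + 1) : cw r (k + 1) j = r (k + 1) * cw r k j := by
  simp [cw, h]

theorem cw_self : ∀ k : ℕ, cw r k k = r k
  | 0 => by simp [cw]
  | k + 1 => by rw [cw_succ r k (k + 1) le_rfl, cw_gt r k (k + 1) (Nat.lt_succ_self k), mul_one]

structure ARel (n : ℕ) : Prop where
  sq : ∀ i < n, r i * r i = 1
  comm : ∀ i j, i < n → j < n → i + 1 < j → r i * r j = r j * r i
  braid : ∀ i, i + 1 < n → r i * r (i + 1) * r i = r (i + 1) * r i * r (i + 1)

variable {r} {n : ℕ} (h : ARel r n)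

include h

theorem cw_comm : ∀ (k j m : ℕ), k + 1 < m → m < n → cw r k j * r m = r m * cw r k j
  | 0, j, m, h1, h2 => by
    rcases Nat.eq_zero_or_pos j with rfl | hj
    · rw [cw_self]; exact h.comm 0 m (by omega) h2 (by omega)
    · rw [cw_gt r 0 j hj, one_mul, mul_one]
  | k + 1, j, m, h1, h2 => by
    by_cases hj : j ≤ k + 1
    · rw [cw_succ r k j hj, mul_assoc, cw_comm k j m (by omega) h2, ← mul_assoc,
        h.comm (k + 1) m (by omega) h2 h1, mul_assoc]
    · rw [cw_gt r _ j (by omega), one_mul, mul_one]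

/-- right multiplication by a generator permutes the cosets -/
theorem cw_mul : ∀ (k : ℕ), k < n → ∀ i ≤ k, ∀ j ≤ k + 1,
    (∃ j' ≤ k + 1, cw r k j * r i = cw r k j') ∨ ∃ i' < k, cw r k j * r i = r i' * cw r k j
  | 0, hk, i, hi, j, hj => by
    left
    obtain rfl : i = 0 := by omega
    rcases Nat.eq_zero_or_pos j with rfl | hj0
    · exact ⟨1, le_rfl, by rw [cw_self, cw_gt r 0 1 one_pos, h.sq 0 hk]⟩
    · exact ⟨0, by omega, by rw [cw_self, cw_gt r 0 j hj0, one_mul]⟩
  | k + 1, hk, i, hi, j, hj => by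
    by_cases hjk : j ≤ k + 1
    · rcases Nat.lt_or_ge i (k + 1) with hik | hik
      · rcases cw_mul k (by omega) i (by omega) j hjk with ⟨j', hj', he⟩ | ⟨i', hi', he⟩
        · exact Or.inl ⟨j', by omega, by rw [cw_succ r k j hjk, mul_assoc, he, cw_succ r k j' hj']⟩
        · refine Or.inr ⟨i', by omega, ?_⟩
          rw [cw_succ r k j hjk, mul_assoc, he, ← mul_assoc,
            ← h.comm i' (k + 1) (by omega) hk (by omega), mul_assoc]
      · obtain rfl : i = k + 1 := by omega
        rcases Nat.eq_or_lt_of_le hjk with rfl | hlt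
        · exact Or.inl ⟨k + 2, le_rfl, by rw [cw_self, h.sq _ hk, cw_gt r _ _ (Nat.lt_succ_self _)]⟩
        · refine Or.inr ⟨k, Nat.lt_succ_self k, ?_⟩
          rw [cw_succ r k j hjk]
          obtain rfl | ⟨t, rfl⟩ : k = 0 ∨ ∃ t, k = t + 1 := by
            rcases k with _ | t
            · exact Or.inl rfl
            · exact Or.inr ⟨t, rfl⟩
          · obtain rfl : j = 0 := by omega
            rw [cw_self, ← h.braid 0 hk, mul_assoc]
          · rw [cw_succ r t j (by omega)]
            calc r (t + 1 + 1) * (r (t + 1) * cw r t j) * r (t + 1 + 1)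
                = r (t + 1 + 1) * r (t + 1) * (cw r t j * r (t + 1 + 1)) := by group
              _ = r (t + 1 + 1) * r (t + 1) * r (t + 1 + 1) * cw r t j := by
                rw [cw_comm h t j (t + 1 + 1) (by omega) hk]; group
              _ = _ := by rw [← h.braid (t + 1) hk]; group
    · obtain rfl : j = k + 2 := by omega
      rw [cw_gt r _ _ (Nat.lt_succ_self _), one_mul]
      rcases Nat.lt_or_ge i (k + 1) with hik | hik
      · exact Or.inr ⟨i, hik, (mul_one _).symm⟩
      · obtain rfl : i = k + 1 := by omega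
        exact Or.inl ⟨k + 1, by omega, (cw_self r (k + 1)).symm⟩

theorem exists_finset : ∀ k ≤ n, ∃ S : Finset G, S.card ≤ (k + 1).factorial ∧ 1 ∈ S ∧
    ∀ x ∈ S, ∀ i < k, x * r i ∈ S := by
  classical
  intro k
  induction k with
  | zero => exact fun _ => ⟨{1}, by simp, by simp, fun x _ i hi => by omega⟩
  | succ k ih =>
    intro hk
    obtain ⟨S, hS, h1, hm⟩ := ih (by omega)
    refine ⟨(S ×ˢ Finset.range (k + 2)).image fun z => z.1 * cw r k z.2, ?_, ?_, ?_⟩
    · refine Finset.card_image_le.trans ?_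
      rw [Finset.card_product, Finset.card_range, Nat.factorial_succ (k + 1), mul_comm]
      exact Nat.mul_le_mul_left _ hS
    · exact Finset.mem_image.mpr ⟨(1, k + 1), Finset.mem_product.mpr ⟨h1, Finset.mem_range.mpr (by omega)⟩,
        by rw [cw_gt r k (k + 1) (Nat.lt_succ_self k), one_mul]⟩
    · intro x hx i hi
      obtain ⟨⟨y, j⟩, hz, rfl⟩ := Finset.mem_image.mp hx
      obtain ⟨hy, hj⟩ := Finset.mem_product.mp hz
      rw [Finset.mem_range] at hj
      rcases cw_mul h k (by omega) i (by omega) j (by omega) with ⟨j', hj', he⟩ | ⟨i', hi', he⟩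
      · refine Finset.mem_image.mpr ⟨(y, j'), Finset.mem_product.mpr ⟨hy, Finset.mem_range.mpr (by omega)⟩, ?_⟩
        show y * cw r k j' = _
        rw [mul_assoc, he]
      · refine Finset.mem_image.mpr ⟨(y * r i', j),
          Finset.mem_product.mpr ⟨hm y hy i' hi', Finset.mem_range.mpr (by omega)⟩, ?_⟩
        show y * r i' * cw r k j = _
        rw [mul_assoc, mul_assoc, he]

theorem mem_of_closure : ∃ S : Finset G, S.card ≤ (n + 1).factorial ∧
    ∀ x ∈ Subgroup.closure (r '' {i | i < n}), x ∈ S := by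
  obtain ⟨S, hS, h1, hm⟩ := exists_finset h n le_rfl
  refine ⟨S, hS, fun x hx => ?_⟩
  induction hx using Subgroup.closure_induction_right with
  | one => exact h1
  | mul_right z _ y hy hz => obtain ⟨i, hi, rfl⟩ := hy; exact hm z hz i hi
  | mul_inv_cancel z _ y hy hz =>
    obtain ⟨i, hi, rfl⟩ := hy
    rw [inv_eq_of_mul_eq_one_right (h.sq i hi)]
    exact hm z hz i hi

end

theorem liftable (n : ℕ) :
    CoxeterMatrix.IsLiftable (CoxeterMatrix.A n) fun i : Fin n => Equiv.swap i.castSucc i.succ := by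
  have key : ∀ i j : Fin n, (i : ℕ) < j →
      (Equiv.swap i.castSucc i.succ * Equiv.swap j.castSucc j.succ) ^ (if (i : ℕ) + 1 = j then 3 else 2) = 1 := by
    intro i j hij
    by_cases hadj : (i : ℕ) + 1 = j
    · rw [if_pos hadj]
      have : i.succ = j.castSucc := Fin.ext (by simpa using hadj)
      rw [← this]
      have hs := (Equiv.Perm.isThreeCycle_swap_mul_swap_same (a := i.succ) (b := i.castSucc) (c := j.succ)
        (by simp [Fin.ext_iff]) (by simp [Fin.ext_iff]; omega) (by simp [Fin.ext_iff]; omega)).orderOf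
      rw [Equiv.swap_comm i.castSucc i.succ, ← hs, pow_orderOf_eq_one]
    · rw [if_neg hadj]
      have hd : Equiv.Perm.Disjoint (Equiv.swap i.castSucc i.succ) (Equiv.swap j.castSucc j.succ) := by
        intro x
        by_cases hx : x = i.castSucc ∨ x = i.succ
        · right
          apply Equiv.swap_apply_of_ne_of_ne <;>
          · rcases hx with rfl | rfl <;> simp [Fin.ext_iff] <;> omega
        · push Not at hx
          exact Or.inl (Equiv.swap_apply_of_ne_of_ne hx.1 hx.2)
      rw [hd.commute.mul_pow, pow_two, pow_two, Equiv.swap_mul_self, Equiv.swap_mul_self, one_mul]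
  intro i j
  simp only [CoxeterMatrix.A, Matrix.of_apply]
  rcases lt_trichotomy (i : ℕ) j with hlt | heq | hgt
  · rw [if_neg (fun h => by rw [h] at hlt; exact lt_irrefl _ hlt)]
    have := key i j hlt
    rwa [if_congr (show ((j : ℕ) + 1 = i ∨ (i : ℕ) + 1 = j) ↔ (i : ℕ) + 1 = j by omega) rfl rfl]
  · obtain rfl := Fin.ext heq
    simp
  · rw [if_neg (fun h => by rw [h] at hgt; exact lt_irrefl _ hgt),
      if_congr (show ((j : ℕ) + 1 = i ∨ (i : ℕ) + 1 = j) ↔ (j : ℕ) + 1 = i by omega) rfl rfl]
    have := key j i hgt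
    rw [← inv_inj, ← inv_pow, mul_inv_rev, Equiv.swap_inv, Equiv.swap_inv, this, inv_one]

theorem arel (n : ℕ) : ARel (fun i : ℕ => if hi : i < n then (CoxeterMatrix.A n).toCoxeterSystem.simple ⟨i, hi⟩ else 1) n := by
  set cs := (CoxeterMatrix.A n).toCoxeterSystem
  refine ⟨fun i hi => ?_, fun i j hi hj hij => ?_, fun i hi => ?_⟩
  · simp [hi]
  · simp only [hi, hj, dite_true]
    have h2 := cs.simple_mul_simple_pow ⟨i, hi⟩ ⟨j, hj⟩
    have e : CoxeterMatrix.A n ⟨i, hi⟩ ⟨j, hj⟩ = 2 := by
      show (if _ then 1 else _) = _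
      rw [if_neg (by simp only [Fin.mk.injEq]; omega)]
      show (if _ then 3 else 2) = _
      rw [if_neg (by simp only; omega)]
    rw [e, pow_two] at h2
    have h3 := eq_inv_of_mul_eq_one_left h2
    rwa [mul_inv_rev, cs.inv_simple, cs.inv_simple] at h3
  · have hi' : i < n := by omega
    simp only [hi, hi', dite_true]
    have h2 := cs.simple_mul_simple_pow ⟨i, hi'⟩ ⟨i + 1, hi⟩
    have e : CoxeterMatrix.A n ⟨i, hi'⟩ ⟨i + 1, hi⟩ = 3 := by
      show (if _ then 1 else _) = _
      rw [if_neg (by simp only [Fin.mk.injEq]; omega)]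
      show (if _ then 3 else 2) = _
      rw [if_pos (Or.inr rfl)]
    rw [e] at h2
    set s := cs.simple ⟨i, hi'⟩
    set t := cs.simple ⟨i + 1, hi⟩
    have h3 : (s * t * s) * (t * s * t) = 1 := by rw [← h2]; simp only [pow_succ, pow_zero, one_mul, mul_assoc]
    have h4 := eq_inv_of_mul_eq_one_left h3
    rwa [mul_inv_rev, mul_inv_rev, cs.inv_simple, cs.inv_simple, ← mul_assoc] at h4

/-- The Coxeter presentation of the symmetric group: for every n, the symmetric group on n+1 letters is the Coxeter group of type A_n with the adjacent transpositions (i, i+1) as simple reflections; that is, it is presented by generators r_1, …, r_n subject to r_i² = 1, (r_i r_j)² = 1 for |i − j| > 1 and (r_i r_{i+1})³ = 1, with r_i mapping to (i, i+1). -/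
theorem result (n : ℕ) :
    ∃ cs : CoxeterSystem (CoxeterMatrix.A n) (Equiv.Perm (Fin (n + 1))), ∀ i : Fin n, cs.simple i = Equiv.swap i.castSucc i.succ := by
  classical
  let cs0 := (CoxeterMatrix.A n).toCoxeterSystem
  let f := cs0.lift ⟨_, liftable n⟩
  have hf : ∀ i, f (cs0.simple i) = Equiv.swap i.castSucc i.succ := cs0.lift_apply_simple (liftable n)
  have hsurj : Function.Surjective f := by
    intro σ
    have hσ : σ ∈ Submonoid.closure (Set.range fun i : Fin n => Equiv.swap i.castSucc i.succ) := by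
      rw [Equiv.Perm.mclosure_swap_castSucc_succ]; exact Submonoid.mem_top _
    induction hσ using Submonoid.closure_induction with
    | mem x hx => obtain ⟨i, rfl⟩ := hx; exact ⟨_, hf i⟩
    | one => exact ⟨1, map_one f⟩
    | mul x y _ _ hx hy =>
      obtain ⟨a, rfl⟩ := hx
      obtain ⟨b, rfl⟩ := hy
      exact ⟨a * b, map_mul f a b⟩
  obtain ⟨S, hS, hmem⟩ := mem_of_closure (arel n)
  have hall : ∀ x, x ∈ S := by
    intro x
    apply hmem
    have htop : x ∈ Subgroup.closure (Set.range cs0.simple) := by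
      rw [cs0.subgroup_closure_range_simple]; exact Subgroup.mem_top _
    refine Subgroup.closure_mono ?_ htop
    rintro _ ⟨i, rfl⟩
    exact ⟨i, i.2, by simp [cs0]⟩
  haveI : Fintype (CoxeterMatrix.A n).Group := ⟨S, hall⟩
  have hcard : Nat.card (CoxeterMatrix.A n).Group ≤ Nat.card (Equiv.Perm (Fin (n + 1))) := by
    rw [Nat.card_eq_fintype_card (α := Equiv.Perm _), Fintype.card_perm, Fintype.card_fin, Nat.card_eq_fintype_card, ← Finset.card_univ]
    exact (Finset.card_le_card fun x _ => hall x).trans hS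
  have hbij : Function.Bijective f :=
    (Nat.bijective_iff_surjective_and_card f).mpr ⟨hsurj, le_antisymm hcard (Nat.card_le_card_of_surjective f hsurj)⟩
  exact ⟨cs0.map (MulEquiv.ofBijective f hbij), fun i => hf i⟩

end Cfsg.Agent.S2530
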