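import Cfsg.Statements.S2532
import Mathlib

set_option autoImplicit false
open Cfsg

namespace Cfsg.Agent.S2532

open Equiv

theorem sign_hom_alternating {r : ℕ} (χ : Equiv.Perm (Fin r) →* ℤˣ) {σ : Equiv.Perm (Fin r)}
    (hσ : σ ∈ alternatingGroup (Fin r)) : χ σ = 1 := by
  by_cases hs : Function.Surjective χ
  · rw [Equiv.Perm.eq_sign_of_surjective_hom hs]
    exact hσ
  · rcases Int.units_eq_one_or (χ σ) with h | h
    · exact h
    · exfalso
      apply hs
      intro u
      rcases Int.units_eq_one_or u with rfl | rfl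
      · exact ⟨1, map_one χ⟩
      · exact ⟨σ, h⟩

theorem core {Γ α : Type*} [Group Γ] [Finite Γ] [Fintype α] [DecidableEq α] [MulAction Γ α]
    (r : ℕ) (hm : Nat.card Γ * (2 ^ Nat.card Γ * r) + 1 ≤ Fintype.card α) :
    ∃ ψ : Equiv.Perm (Fin r) →* Equiv.Perm α, Function.Injective ψ ∧
      ∀ (σ : Equiv.Perm (Fin r)) (g : Γ) (a : α), ψ σ (g • a) = g • ψ σ a := by
  classical
  haveI := Fintype.ofFinite Γ
  haveI : Fintype (MulAction.orbitRel.Quotient Γ α) := Fintype.ofFinite _
  haveI : Fintype (Subgroup Γ) := Fintype.ofFinite _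
  let Ω := MulAction.orbitRel.Quotient Γ α
  let rep : Ω → α := fun o => Quotient.out o
  have hsmall : Fintype.card α ≤ Nat.card Γ * Fintype.card Ω := by
    have hsurj : Function.Surjective fun p : Γ × Ω => p.1 • rep p.2 := by
      intro a
      obtain ⟨g, hg⟩ : a ∈ MulAction.orbit Γ (rep (Quotient.mk _ a)) :=
        MulAction.orbit_eq_iff.mp (MulAction.orbit_eq_iff.mpr
          (MulAction.mem_orbit_symm.mp (Quotient.mk_out (s := MulAction.orbitRel Γ α) a)))
      exact ⟨(g, Quotient.mk _ a), hg⟩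
    have := Fintype.card_le_of_surjective _ hsurj
    rwa [Fintype.card_prod, ← Nat.card_eq_fintype_card (α := Γ)] at this
  have hnum : Fintype.card (Subgroup Γ) ≤ 2 ^ Nat.card Γ := by
    rw [Nat.card_eq_fintype_card, ← Fintype.card_set]
    exact Fintype.card_le_of_injective _ SetLike.coe_injective
  have hbig : Fintype.card (Subgroup Γ) * r < Fintype.card Ω := by
    by_contra hc
    push Not at hc
    have h1 : Fintype.card Ω ≤ 2 ^ Nat.card Γ * r :=
      hc.trans (Nat.mul_le_mul_right r hnum)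
    have h2 := Nat.mul_le_mul_left (Nat.card Γ) h1
    omega
  obtain ⟨S, hS⟩ := Fintype.exists_lt_card_fiber_of_mul_lt_card
    (fun o : Ω => MulAction.stabilizer Γ (rep o)) hbig
  obtain ⟨T, hT, hTr⟩ := Finset.exists_subset_card_eq (le_of_lt hS)
  let idx : Fin r ≃ T := (T.equivFinOfCardEq hTr).symm
  let x : Fin r → α := fun i => rep (idx i)
  have hstab : ∀ i, MulAction.stabilizer Γ (x i) = S := fun i =>
    (Finset.mem_filter.mp (hT (idx i).2)).2
  let φ : Fin r × (Γ ⧸ S) → α := fun p => Quotient.liftOn' p.2 (fun g => g • x p.1) (by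
    intro a b hab
    rw [QuotientGroup.leftRel_apply, ← hstab p.1, MulAction.mem_stabilizer_iff, mul_smul,
      inv_smul_eq_iff] at hab
    exact hab.symm)
  have hφmk : ∀ i (g : Γ), φ (i, (g : Γ ⧸ S)) = g • x i := fun i g => rfl
  have hφ : Function.Injective φ := by
    rintro ⟨i, c⟩ ⟨j, d⟩ he
    induction c using QuotientGroup.induction_on with
    | _ a =>
    induction d using QuotientGroup.induction_on with
    | _ b =>
    rw [hφmk, hφmk] at he
    have hij : i = j := by
      apply idx.injective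
      apply Subtype.ext
      rw [← Quotient.out_eq' (idx i : Ω), ← Quotient.out_eq' (idx j : Ω)]
      apply Quotient.sound
      show x i ∈ MulAction.orbit Γ (x j)
      exact ⟨a⁻¹ * b, by simp only [mul_smul, ← he, inv_smul_smul]⟩
    subst hij
    have : (a : Γ ⧸ S) = b := by
      rw [QuotientGroup.eq, ← hstab i, MulAction.mem_stabilizer_iff, mul_smul, ← he, inv_smul_smul]
    rw [this]
  have hequiv : ∀ (g : Γ) (i : Fin r) (c : Γ ⧸ S), g • φ (i, c) = φ (i, g • c) := by
    intro g i c
    induction c using QuotientGroup.induction_on with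
    | _ a => rw [hφmk, MulAction.Quotient.smul_mk, smul_eq_mul, hφmk, mul_smul]
  let e : Fin r × (Γ ⧸ S) ≃ {a // a ∈ Set.range φ} := Equiv.ofInjective φ hφ
  let pr : Equiv.Perm (Fin r) →* Equiv.Perm (Fin r × (Γ ⧸ S)) :=
    { toFun := fun σ => Equiv.prodCongr σ (Equiv.refl _)
      map_one' := Equiv.ext fun _ => rfl
      map_mul' := fun _ _ => Equiv.ext fun _ => rfl }
  refine ⟨(Equiv.Perm.extendDomainHom e).comp pr, ?_, ?_⟩
  · intro σ τ h
    apply Equiv.ext
    intro i
    have h2 := Equiv.Perm.extendDomainHom_injective e h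
    exact congrArg Prod.fst (congrFun (congrArg DFunLike.coe h2) (i, ((1 : Γ) : Γ ⧸ S)))
  · intro σ g a
    show (pr σ).extendDomain e (g • a) = g • (pr σ).extendDomain e a
    by_cases ha : a ∈ Set.range φ
    · obtain ⟨⟨i, c⟩, rfl⟩ := ha
      rw [hequiv]
      have h1 : ∀ p, (pr σ).extendDomain e (φ p) = φ (σ p.1, p.2) := fun p =>
        Equiv.Perm.extendDomain_apply_image (pr σ) e p
      rw [h1, h1, hequiv]
    · have hga : g • a ∉ Set.range φ := by
        rintro ⟨⟨i, c⟩, hc⟩
        exact ha ⟨(i, g⁻¹ • c), by rw [← hequiv, hc, inv_smul_smul]⟩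
      rw [Equiv.Perm.extendDomain_apply_not_subtype (pr σ) e hga,
        Equiv.Perm.extendDomain_apply_not_subtype (pr σ) e ha]

/-- There is a function `f` of two natural-number arguments such that, whenever `m ≥ f(n, r)`, every subgroup of order `n` of the alternating group of degree `m` centralizes some subgroup of that alternating group isomorphic to the alternating group of degree `r`. -/
theorem result :
    ∃ f : ℕ → ℕ → ℕ, ∀ (m r : ℕ) (H : Subgroup ↥(alternatingGroup (Fin m))), f (Nat.card H) r ≤ m →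
      ∃ K : Subgroup ↥(alternatingGroup (Fin m)), Nonempty (↥K ≃* ↥(alternatingGroup (Fin r))) ∧
        K ≤ Subgroup.centralizer (H : Set ↥(alternatingGroup (Fin m))) := by
  refine ⟨fun h r => h * (2 ^ h * r) + 1, fun m r H hm => ?_⟩
  obtain ⟨ψ, hψ, hcomm⟩ := core (Γ := ↥H) (α := Fin m) r (by simpa using hm)
  let ρ : ↥(alternatingGroup (Fin r)) →* ↥(alternatingGroup (Fin m)) :=
    (ψ.comp (alternatingGroup (Fin r)).subtype).codRestrict _
      fun σ => Equiv.Perm.mem_alternatingGroup.mpr (by
      have h := sign_hom_alternating (Equiv.Perm.sign.comp ψ) σ.2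
      exact h)
  have hρ : Function.Injective ρ := fun a b h =>
    Subtype.ext (hψ (congrArg Subtype.val h))
  refine ⟨ρ.range, ⟨(MonoidHom.ofInjective hρ).symm⟩, ?_⟩
  rintro _ ⟨σ, rfl⟩
  rw [Subgroup.mem_centralizer_iff]
  intro g hg
  apply Subtype.ext
  apply Equiv.ext
  intro a
  exact (hcomm σ.1 ⟨g, hg⟩ a).symm

end Cfsg.Agent.S2532
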