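import Cfsg.Statements.S2534
import Cfsg.Agent.Lib.Perm.HallSym.Witness

set_option autoImplicit false
open Cfsg

namespace Cfsg.Agent.S2534

/-- For `n ≥ 5` and a set of primes `π`, the alternating group of degree `n` satisfies the full Sylow analogue for `π` (its maximal `π`-subgroups are pairwise conjugate; for a finite group this says Hall `π`-subgroups exist, are all conjugate, and contain every `π`-subgroup up to conjugacy) if and only if either at most one prime of `π` divides its order or every prime dividing its order lies in `π`. -/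
theorem result (n : ℕ) (hn : 5 ≤ n) (π : Set ℕ) :
    Cfsg.IsDPiGroup π ↥(alternatingGroup (Fin n)) ↔
      ((∀ r s : ℕ, r.Prime → s.Prime → r ∈ π → s ∈ π → r ∣ Nat.card ↥(alternatingGroup (Fin n)) → s ∣ Nat.card ↥(alternatingGroup (Fin n)) → r = s) ∨
        ∀ r : ℕ, r.Prime → r ∣ Nat.card ↥(alternatingGroup (Fin n)) → r ∈ π) := by
  have hc : Fintype.card (Fin n) = n := Fintype.card_fin n
  have hdvd : ∀ r : ℕ, r.Prime → (r ∣ Nat.card ↥(alternatingGroup (Fin n)) ↔ r ≤ n) :=
    fun r hr => ⟨fun h => hc ▸ Cfsg.Lib.HallSym.prime_le_of_dvd_perm hr h,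
      fun h => Cfsg.Lib.HallSym.dvd_card_alternating (by omega) hr (hc.symm ▸ h)⟩
  constructor
  · intro h
    rcases Cfsg.Lib.HallSym.easy_of_isDPiGroup hn h with he | he
    · exact Or.inl fun r s hr hs hrπ hsπ hrd hsd =>
        he r s hr hs hrπ hsπ ((hdvd r hr).1 hrd) ((hdvd s hs).1 hsd)
    · exact Or.inr fun r hr hd => he r hr ((hdvd r hr).1 hd)
  · rintro (h | h)
    · exact (Cfsg.Lib.HallSym.dominated_of_subsingleton fun r s hr hs hrπ hsπ hrd hsd =>
        h r s hr hs hrπ hsπ hrd hsd).isDPiGroup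
    · exact (Cfsg.Lib.HallSym.dominated_of_all h).isDPiGroup

end Cfsg.Agent.S2534
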