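import Cfsg.Statements.S2536
import Cfsg.Agent.Lib.Perm.HallSym.Std

set_option autoImplicit false
open Cfsg

namespace Cfsg.Agent.S2536

/-- Let `π` be a set of primes and `n` a natural number such that at least two primes of `π` divide `n!` but not every prime dividing `n!` lies in `π`. Then the symmetric group of degree `n` has a Hall `π`-subgroup if and only if either `n` is prime and the primes of `π` dividing `n!` are exactly the primes smaller than `n` (a point stabilizer is then such a subgroup), or `n ∈ {7, 8}` and the primes of `π` dividing `n!` are exactly 2 and 3. -/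
theorem result (n : ℕ) (π : Set ℕ)
    (h2 : ∃ r s : ℕ, r.Prime ∧ s.Prime ∧ r ≠ s ∧ r ∈ π ∧ s ∈ π ∧ r ≤ n ∧ s ≤ n)
    (hns : ∃ r : ℕ, r.Prime ∧ r ≤ n ∧ r ∉ π) :
    Cfsg.IsEPiGroup π (Equiv.Perm (Fin n)) ↔
      ((n.Prime ∧ ∀ r : ℕ, r.Prime → r ≤ n → (r ∈ π ↔ r < n)) ∨
       ((n = 7 ∨ n = 8) ∧ ∀ r : ℕ, r.Prime → r ≤ n → (r ∈ π ↔ (r = 2 ∨ r = 3)))) := by
  classical
  have hc : Fintype.card (Fin n) = n := Fintype.card_fin n
  constructor
  · intro ⟨H, hH⟩
    obtain ⟨r, hr, hrn, hrπ⟩ := hns
    have h := (Cfsg.Lib.HallSym.exc_of_nearHall _ (Fin n) le_rfl H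
      (Cfsg.Lib.HallSym.nearHall_of_isPiHall hH) (by rwa [hc]) ⟨r, hr, by rwa [hc], hrπ⟩).excPi
    rw [hc] at h
    rcases h with h | ⟨hn, h2p, h3p, h5p, h7p⟩
    · exact Or.inl h
    · refine Or.inr ⟨hn, fun t ht htn => ⟨fun htπ => ?_, ?_⟩⟩
      · have h8 : t ≤ 8 := by omega
        have := ht.two_le
        interval_cases t <;> first
          | exact Or.inl rfl
          | exact Or.inr rfl
          | exact absurd ht (by decide)
          | contradiction
      · rintro (rfl | rfl) <;> assumption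
  · intro h
    obtain ⟨St, hSt⟩ := Cfsg.Lib.HallSym.exists_std_of_excPi (α := Fin n) (π := π) (by
      rw [hc]
      rcases h with h | ⟨hn, h⟩
      · exact Or.inl h
      · refine Or.inr ⟨hn, (h 2 Nat.prime_two (by omega)).2 (Or.inl rfl),
          (h 3 Nat.prime_three (by omega)).2 (Or.inr rfl), fun h5 => ?_, fun h7 => ?_⟩
        · exact absurd ((h 5 (by norm_num) (by omega)).1 h5) (by decide)
        · exact absurd ((h 7 (by norm_num) (by omega)).1 h7) (by decide))
    exact ⟨St, hSt.isPiHall⟩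

end Cfsg.Agent.S2536
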