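import Cfsg.Statements.S2537
import Cfsg.Agent.Lib.Solv.Hall
import Cfsg.Agent.Lib.Dickson.DihedralMax
import Cfsg.Agent.Lib.Dickson.Solvable
import Cfsg.Agent.Lib.Dickson.Existence
-- import your own Cfsg.Agent.* helpers here

set_option autoImplicit false
open Cfsg

namespace Cfsg.Agent.S2537

open Cfsg.Lib.Dickson

theorem two_three_part {N : ℕ} (hN : N ≠ 0) :
    ∃ M K : ℕ, M = 2 ^ N.factorization 2 * 3 ^ N.factorization 3 ∧ N = M * K ∧ K.Coprime 6 ∧
      (∀ r : ℕ, r.Prime → r ∣ M → r = 2 ∨ r = 3) := by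
  obtain ⟨a, K1, hK1, hN1⟩ := Nat.exists_eq_pow_mul_and_not_dvd hN 2 (by norm_num)
  have hK10 : K1 ≠ 0 := by rintro rfl; simp at hK1
  obtain ⟨b, K, hK, hK'⟩ := Nat.exists_eq_pow_mul_and_not_dvd hK10 3 (by norm_num)
  have hK0 : K ≠ 0 := by rintro rfl; simp at hK
  have h2K : ¬ 2 ∣ K := fun h => hK1 (hK' ▸ h.mul_left _)
  have e2 : N.factorization 2 = a := by
    rw [hN1, Nat.factorization_mul (by positivity) hK10, Nat.Prime.factorization_pow Nat.prime_two,
      Finsupp.add_apply, Finsupp.single_eq_same, Nat.factorization_eq_zero_of_not_dvd hK1, add_zero]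
  have e3 : N.factorization 3 = b := by
    rw [hN1, hK', Nat.factorization_mul (by positivity) (by positivity), Nat.factorization_mul (by positivity) hK0,
      Nat.Prime.factorization_pow Nat.prime_two, Nat.Prime.factorization_pow Nat.prime_three,
      Finsupp.add_apply, Finsupp.add_apply, Finsupp.single_eq_of_ne (by norm_num), Finsupp.single_eq_same,
      Nat.factorization_eq_zero_of_not_dvd hK]
    simp
  refine ⟨2 ^ a * 3 ^ b, K, by rw [e2, e3], by rw [hN1, hK']; ring, ?_, ?_⟩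
  · rw [show (6 : ℕ) = 2 * 3 from rfl, Nat.coprime_mul_iff_right]
    exact ⟨Nat.Coprime.symm ((Nat.Prime.coprime_iff_not_dvd Nat.prime_two).mpr h2K),
      Nat.Coprime.symm ((Nat.Prime.coprime_iff_not_dvd Nat.prime_three).mpr hK)⟩
  · intro r hr h
    rcases hr.dvd_mul.mp h with h | h
    · exact Or.inl ((Nat.prime_dvd_prime_iff_eq hr Nat.prime_two).mp (hr.dvd_of_dvd_pow h))
    · exact Or.inr ((Nat.prime_dvd_prime_iff_eq hr Nat.prime_three).mp (hr.dvd_of_dvd_pow h))

theorem coprime_of_two_three {a b : ℕ} (ha : ∀ r : ℕ, r.Prime → r ∣ a → r = 2 ∨ r = 3) (h2 : ¬ 2 ∣ b)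
    (h3 : ¬ 3 ∣ b) : a.Coprime b := by
  refine Nat.coprime_of_dvd' fun r hr h1 h1' => ?_
  rcases ha r hr h1 with rfl | rfl
  exacts [absurd h1' h2, absurd h1' h3]

theorem hall_of_dihedral {G : Type*} [Group G] [Finite G] {D : Subgroup G} {k : ℕ} (e : D ≃* DihedralGroup k)
    (h2 : ¬ 2 ∣ D.index) (h3 : ¬ 3 ∣ D.index) :
    ∃ H : Subgroup G, Cfsg.IsPiHall ({2, 3} : Set ℕ) H := by
  haveI : Group.IsSolvable D := isSolvable_congr e (isSolvable_dihedral k)
  obtain ⟨H, hH1, hH2⟩ := Cfsg.Lib.Solv.exists_isPiHall ({2, 3} : Set ℕ) D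
  refine ⟨H.map D.subtype, fun r hr h => hH1 r hr (by rwa [Subgroup.card_map_of_injective D.subtype_injective] at h),
    fun r hr hrm h => ?_⟩
  rw [Subgroup.index_map_subtype] at h
  rcases hr.dvd_mul.mp h with h | h
  · exact hH2 r hr hrm h
  · rcases hrm with rfl | hrm
    · exact h2 h
    · exact h3 (Set.mem_singleton_iff.mp hrm ▸ h)

/-- Let `F` be a finite field with `q` elements of characteristic `p ≥ 5`, and `ε = 1` if `q ≡ 1 (mod 4)`, `ε = -1` otherwise. Then `PSL(2, F)` has a Hall `{2, 3}`-subgroup if and only if `3` divides `q − ε`, or the `{2,3}`-part of `q² − 1` is 24, or the `{2,3}`-part of `q² − 1` is 48 (the `{2,3}`-part of `m` being the largest divisor of `m` with no prime factor other than 2 and 3). -/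
theorem result {F : Type*} [Field F] [Fintype F] {p : ℕ} [Fact p.Prime] [CharP F p]
    (hp : 5 ≤ p) (q : ℕ) (hq : Fintype.card F = q) :
    (∃ H : Subgroup (Matrix.ProjectiveSpecialLinearGroup (Fin 2) F), Cfsg.IsPiHall ({2, 3} : Set ℕ) H) ↔
      (3 ∣ q - 1 ∧ q % 4 = 1) ∨ (3 ∣ q + 1 ∧ q % 4 = 3) ∨
        2 ^ (q ^ 2 - 1).factorization 2 * 3 ^ (q ^ 2 - 1).factorization 3 = 24 ∨
        2 ^ (q ^ 2 - 1).factorization 2 * 3 ^ (q ^ 2 - 1).factorization 3 = 48 := by
  subst hq
  set q := Fintype.card F with hq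
  have hpp := (Fact.out : p.Prime)
  obtain ⟨n, -, hn⟩ := FiniteField.card F p
  rw [← hq] at hn
  have hnp := n.pos
  have hq5 : 5 ≤ q := by
    have : p ∣ q := hn ▸ dvd_pow_self p (ne_of_gt hnp)
    exact hp.trans (Nat.le_of_dvd Fintype.card_pos this)
  have hodd : q % 2 = 1 := by
    refine Nat.two_dvd_ne_zero.mp fun h => ?_
    have := (Nat.prime_dvd_prime_iff_eq Nat.prime_two hpp).mp (Nat.prime_two.dvd_of_dvd_pow (hn ▸ h))
    omega
  have h3q : q % 3 ≠ 0 := fun h => by
    have := (Nat.prime_dvd_prime_iff_eq Nat.prime_three hpp).mp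
      (Nat.prime_three.dvd_of_dvd_pow (hn ▸ Nat.dvd_of_mod_eq_zero h)); omega
  have hq2 : 1 ≤ q ^ 2 := Nat.one_le_pow _ _ (by omega)
  set N := q ^ 2 - 1 with hN
  have h24 : 8 ∣ N ∧ 3 ∣ N := by
    constructor
    · rw [← Nat.modEq_iff_dvd' hq2]
      show 1 % 8 = q ^ 2 % 8
      rw [Nat.pow_mod]
      have : q % 8 < 8 := Nat.mod_lt _ (by norm_num)
      interval_cases h : q % 8 <;> first | rfl | omega
    · rw [← Nat.modEq_iff_dvd' hq2]
      show 1 % 3 = q ^ 2 % 3
      rw [Nat.pow_mod]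
      have : q % 3 < 3 := Nat.mod_lt _ (by norm_num)
      interval_cases h : q % 3 <;> first | rfl | omega
  obtain ⟨M, K, hM, hNM, hK, hMp⟩ := two_three_part (N := N) (by
    have : 2 * 2 ≤ q ^ 2 := by rw [sq]; exact Nat.mul_le_mul (by omega) (by omega)
    omega)
  rw [← hM]
  have hK2 : ¬ 2 ∣ K := fun h => absurd (Nat.Coprime.eq_one_of_dvd (hK.of_dvd_left h) (by norm_num)) (by norm_num)
  have hK3 : ¬ 3 ∣ K := fun h => absurd (Nat.Coprime.eq_one_of_dvd (hK.of_dvd_left h) (by norm_num)) (by norm_num)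
  have hG : 2 * Nat.card (Matrix.ProjectiveSpecialLinearGroup (Fin 2) F) = q * N := by
    have h := Cfsg.Lib.Linear.Two.card_PSL_two (F := F)
    rwa [Nat.gcd_eq_left (show 2 ∣ q - 1 by omega)] at h
  constructor
  · rintro ⟨H, hH1, hH2⟩
    set h := Nat.card H with hh
    have hh2 : ∀ r : ℕ, r.Prime → r ∣ 2 * h → r = 2 ∨ r = 3 := fun r hr hd => by
      rcases hr.dvd_mul.mp hd with hd | hd
      · exact Or.inl ((Nat.prime_dvd_prime_iff_eq hr Nat.prime_two).mp hd)
      · exact hH1 r hr hd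
    have hi2 : ¬ 2 ∣ H.index := hH2 2 Nat.prime_two (Or.inl rfl)
    have hi3 : ¬ 3 ∣ H.index := hH2 3 Nat.prime_three (Or.inr rfl)
    have hmul : 2 * h * H.index = q * (M * K) := by
      rw [← hNM, ← hG, mul_assoc, hh, H.card_mul_index]
    have hMh : 2 * h = M := by
      apply Nat.dvd_antisymm
      · have h1 : (2 * h).Coprime q := coprime_of_two_three hh2 (by omega) (by omega)
        have h2 : (2 * h).Coprime K := coprime_of_two_three hh2 hK2 hK3
        exact h2.dvd_of_dvd_mul_right (h1.dvd_of_dvd_mul_left (hmul ▸ dvd_mul_right _ _))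
      · exact (coprime_of_two_three hMp hi2 hi3).dvd_of_dvd_mul_right
          (hmul ▸ (dvd_mul_right M K).mul_left q)
    have h8 : 8 ∣ M := (Nat.Coprime.pow_left 3 ((Nat.Prime.coprime_iff_not_dvd Nat.prime_two).mpr hK2)).dvd_of_dvd_mul_right
      (hNM ▸ h24.1)
    have h3 : 3 ∣ M := ((Nat.Prime.coprime_iff_not_dvd Nat.prime_three).mpr hK3).dvd_of_dvd_mul_right (hNM ▸ h24.2)
    have key : ∀ s, (s = q + 1 ∨ s = q - 1) → h ∣ s →
        (3 ∣ q - 1 ∧ q % 4 = 1) ∨ (3 ∣ q + 1 ∧ q % 4 = 3) ∨ M = 24 ∨ M = 48 := by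
      intro s hs hd
      have h12 : 12 ∣ s := dvd_trans (by omega) hd
      rcases hs with rfl | rfl <;> omega
    rcases card_subgroup_cases p H with ⟨k, hk, hc⟩ | hc | hc | ⟨r, m, hr, hm, hc⟩
    · rw [← hq, Nat.gcd_eq_left (show 2 ∣ q - 1 by omega)] at hk
      have h2k : h ∣ 2 * k := by
        rcases hc with hc | hc <;> rw [hh, hc]
        exact dvd_mul_left k 2
      rcases hk with hk | hk
      · refine key (q + 1) (Or.inl rfl) (h2k.trans ?_)
        rw [show q + 1 = 2 * ((q + 1) / 2) by omega]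
        exact Nat.mul_dvd_mul_left 2 hk
      · refine key (q - 1) (Or.inr rfl) (h2k.trans ?_)
        rw [show q - 1 = 2 * ((q - 1) / 2) by omega]
        exact Nat.mul_dvd_mul_left 2 hk
    · rw [← hq, Nat.gcd_eq_left (show 2 ∣ q - 1 by omega), ← hh] at hc
      exact key (q - 1) (Or.inr rfl) (dvd_trans (dvd_mul_left h 2)
        ((coprime_of_two_three hh2 (by omega) (by omega)).dvd_of_dvd_mul_left hc))
    · rcases hc with hc | hc | hc
      · omega
      · omega
      · have := hh2 5 (by norm_num) (by rw [hh, hc]; norm_num)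
        omega
    · exfalso
      have hpr : p ∣ r := hpp.dvd_of_dvd_pow (show p ∣ r ^ m by rw [hm, ← hq, hn]; exact dvd_pow_self p (by omega))
      have hd : p ∣ 2 * h := by
        rcases hc with ⟨-, hc⟩ | hc
        · rw [hc]; exact hpr.mul_right _
        · rw [hh, hc]; exact (hpr.mul_right _).mul_left 2
      have := hh2 p hpp hd
      omega
  · intro hcase
    have h2F : (2 : F) ≠ 0 := two_ne_zero_of_odd hodd
    have dih : ∀ s t : ℕ, (s = q + 1 ∧ t = q - 1 ∧ q % 4 = 3 ∧ 3 ∣ q + 1 ∨ s = q - 1 ∧ t = q + 1 ∧ q % 4 = 1 ∧ 3 ∣ q - 1) →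
        ∃ H : Subgroup (Matrix.ProjectiveSpecialLinearGroup (Fin 2) F), Cfsg.IsPiHall ({2, 3} : Set ℕ) H := by
      intro s t hst
      obtain ⟨D, -, ⟨e⟩⟩ := exists_maximal_dihedral (F := F) (s / 2) (by omega) (by omega) (by
        rw [← hq, Nat.gcd_eq_left (show 2 ∣ q - 1 by omega)]
        rcases hst with ⟨rfl, -, h4, h3⟩ | ⟨rfl, -, h4, h3⟩
        · exact Or.inl ⟨rfl, by omega⟩
        · exact Or.inr ⟨rfl, by omega, by omega, by omega⟩)
      have hD : Nat.card D = s := by
        rw [Nat.card_congr e.toEquiv, DihedralGroup.nat_card]; omega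
      have hst' : s * t = N := by
        rw [hN, Nat.pow_two, show q * q - 1 = (q + 1) * (q - 1) by
          have := Nat.mul_self_sub_mul_self_eq q 1
          rwa [mul_one] at this]
        rcases hst with ⟨rfl, rfl, -⟩ | ⟨rfl, rfl, -⟩
        · rfl
        · ring
      have hi : 2 * D.index = q * t := by
        have h1 := D.card_mul_index
        rw [hD] at h1
        refine Nat.eq_of_mul_eq_mul_left (show 0 < s by omega) ?_
        rw [← mul_assoc, mul_comm s 2, mul_assoc, h1, hG, ← hst']; ring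
      refine hall_of_dihedral e (fun h => ?_) (fun h => ?_)
      · have h4 : 4 ∣ q * t := hi ▸ Nat.mul_dvd_mul_left 2 h
        have := (coprime_of_two_three (a := 4) (fun r hr hd => Or.inl ((Nat.prime_dvd_prime_iff_eq hr Nat.prime_two).mp
          (hr.dvd_of_dvd_pow (show r ∣ 2 ^ 2 from hd)))) (by omega) (by omega)).dvd_of_dvd_mul_left h4
        omega
      · have h3' : 3 ∣ q * t := hi ▸ h.mul_left 2
        rcases Nat.prime_three.dvd_mul.mp h3' with h | h <;> omega
    have small : ∀ (H : Subgroup (Matrix.ProjectiveSpecialLinearGroup (Fin 2) F)) (c : ℕ), Nat.card H = c →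
        2 * c = M → Cfsg.IsPiHall ({2, 3} : Set ℕ) H := by
      intro H c hc h2c
      have hi : H.index = q * K := by
        have h1 := H.card_mul_index
        refine Nat.eq_of_mul_eq_mul_left (show 0 < M by
          rcases Nat.eq_zero_or_pos M with h | h
          · have := Nat.card_pos (α := H); omega
          · exact h) ?_
        rw [← h2c, ← hc, mul_assoc, h1, hG, hNM, ← h2c, hc]; ring
      refine ⟨fun r hr h => ?_, fun r hr hrm h => ?_⟩
      · rcases hMp r hr (h2c ▸ (hc ▸ h).mul_left 2) with rfl | rfl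
        exacts [Or.inl rfl, Or.inr rfl]
      · rw [hi] at h
        rcases hrm with rfl | hrm
        · rcases Nat.prime_two.dvd_mul.mp h with h | h
          · omega
          · exact hK2 h
        · rw [Set.mem_singleton_iff] at hrm
          subst hrm
          rcases Nat.prime_three.dvd_mul.mp h with h | h
          · omega
          · exact hK3 h
    rcases hcase with h | h | h | h
    · exact dih (q - 1) (q + 1) (Or.inr ⟨rfl, rfl, h.2, h.1⟩)
    · exact dih (q + 1) (q - 1) (Or.inl ⟨rfl, rfl, h.2, h.1⟩)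
    · obtain ⟨H, ⟨e⟩⟩ := exists_alternating_four h2F
      exact ⟨H, small H 12 (by rw [Nat.card_congr e.toEquiv, nat_card_alternatingGroup, Nat.card_fin]; rfl) (by omega)⟩
    · have h16 : q ^ 2 % 16 = 1 := by
        have : 16 ∣ N := hNM ▸ ((show 16 ∣ M by omega).mul_right K)
        omega
      obtain ⟨H, ⟨e⟩⟩ := exists_perm_four h2F (isSquare_two_of_sq_mod h16).2
      exact ⟨H, small H 24 (by rw [Nat.card_congr e.toEquiv, Nat.card_perm, Nat.card_fin]; rfl) (by omega)⟩

end Cfsg.Agent.S2537
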