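import Cfsg.Statements.S2540
import Cfsg.Agent.Lib.Linear.SLPerfect

set_option autoImplicit false
open Cfsg

namespace Cfsg.Agent.S2540

open scoped commutatorElement

/-- Let F be a finite field and n ≥ 1, excluding the case n = 2 with #F ≤ 3. A subgroup of GL_n(F) that is normalized by every element of SL_n(F) either consists of scalar matrices or contains SL_n(F). -/
theorem result {F : Type*} [Field F] [Fintype F] (n : ℕ) (hn : 1 ≤ n) (hex : ¬ (n = 2 ∧ Fintype.card F ≤ 3)) (G : Subgroup (Matrix.GeneralLinearGroup (Fin n) F)) (hG : ∀ s : Matrix.SpecialLinearGroup (Fin n) F, ∀ g ∈ G, (Matrix.SpecialLinearGroup.toGL s) * g * (Matrix.SpecialLinearGroup.toGL s)⁻¹ ∈ G) : (∀ g ∈ G, ∃ c : F, (g : Matrix (Fin n) (Fin n) F) = c • (1 : Matrix (Fin n) (Fin n) F)) ∨ (Matrix.SpecialLinearGroup.toGL : Matrix.SpecialLinearGroup (Fin n) F →* _).range ≤ G := by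
  classical
  rcases Nat.lt_or_ge n 2 with hn2 | hn2
  · refine Or.inl fun g _ => ⟨(g : Matrix (Fin n) (Fin n) F) ⟨0, by omega⟩ ⟨0, by omega⟩, ?_⟩
    ext i j
    obtain rfl : i = ⟨0, by omega⟩ := Fin.ext (by omega)
    obtain rfl : j = ⟨0, by omega⟩ := Fin.ext (by omega)
    simp
  have h4 : n = 2 → 4 ≤ Fintype.card F := fun h => by
    by_contra hq
    exact hex ⟨h, by omega⟩
  have hperf : commutator (Matrix.SpecialLinearGroup (Fin n) F) = ⊤ :=
    Cfsg.Lib.Linear.commutator_SL_eq_top' (by
      rw [Fintype.card_fin]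
      rcases eq_or_ne n 2 with h | h
      · exact Or.inr (h4 h)
      · exact Or.inl (by omega))
  have : IsSimpleGroup (Matrix.ProjectiveSpecialLinearGroup (Fin n) F) :=
    Cfsg.Lib.Linear.PSL_simple n hn2 (fun h => by rw [Nat.card_eq_fintype_card]; exact h4 h)
  set f : Matrix.SpecialLinearGroup (Fin n) F →* Matrix.GeneralLinearGroup (Fin n) F := Matrix.SpecialLinearGroup.toGL
  set π := QuotientGroup.mk' (Subgroup.center (Matrix.SpecialLinearGroup (Fin n) F))
  let N := G.comap f
  have hN : N.Normal := ⟨fun x hx s => by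
    show f (s * x * s⁻¹) ∈ G
    rw [map_mul, map_mul, map_inv]
    exact hG s _ hx⟩
  rcases (hN.map π (QuotientGroup.mk'_surjective _)).eq_bot_or_eq_top with h | h
  · refine Or.inl fun g hg => ?_
    rw [Subgroup.map_eq_bot_iff, QuotientGroup.ker_mk'] at h
    -- the commutators with `g` are central, so they define a homomorphism, which is trivial
    have hc : ∀ s, ∃ z ∈ Subgroup.center (Matrix.SpecialLinearGroup (Fin n) F), f z = g * f s * g⁻¹ * (f s)⁻¹ := by
      intro s
      have hm : g * f s * g⁻¹ * (f s)⁻¹ ∈ G := by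
        rw [mul_assoc, mul_assoc, ← mul_assoc (f s)]
        exact G.mul_mem hg (hG s _ (G.inv_mem hg))
      have hdet : g * f s * g⁻¹ * (f s)⁻¹ ∈ f.range := by
        rw [Cfsg.Lib.Linear.range_toGL, MonoidHom.mem_ker, map_mul, map_mul, map_mul, map_inv, map_inv,
          mul_comm (Matrix.GeneralLinearGroup.det g), mul_inv_cancel_right, mul_inv_cancel]
      obtain ⟨z, hz⟩ := hdet
      exact ⟨z, h (show f z ∈ G by rw [hz]; exact hm), hz⟩
    choose z hz hzf using hc
    have hzc : ∀ (s : Matrix.SpecialLinearGroup (Fin n) F) (y : Matrix.GeneralLinearGroup (Fin n) F),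
        f (z s) * y = y * f (z s) := by
      intro s y
      obtain ⟨r, -, hr⟩ := Matrix.SpecialLinearGroup.mem_center_iff.1 (hz s)
      refine Units.ext ?_
      show (z s).1 * y.val = y.val * (z s).1
      rw [← hr]
      exact (Matrix.scalar_commute r (Commute.all r) y.val).eq
    have hz' : ∀ s, g * f s * g⁻¹ = f (z s) * f s := fun s => by rw [hzf, inv_mul_cancel_right]
    have hmul : ∀ s t, z (s * t) = z s * z t := fun s t => Cfsg.Lib.Linear.toGL_injective' (by
      show f (z (s * t)) = f (z s * z t)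
      refine mul_right_cancel (b := f (s * t)) ?_
      rw [← hz', map_mul, show g * (f s * f t) * g⁻¹ = (g * f s * g⁻¹) * (g * f t * g⁻¹) by group, hz', hz', map_mul,
        mul_assoc, ← mul_assoc (f s) (f (z t)), ← hzc t (f s)]
      simp only [mul_assoc])
    let φ : Matrix.SpecialLinearGroup (Fin n) F →* Matrix.SpecialLinearGroup (Fin n) F := MonoidHom.mk' z hmul
    have hφ : commutator (Matrix.SpecialLinearGroup (Fin n) F) ≤ φ.ker := by
      rw [commutator_def, Subgroup.commutator_le]
      intro a _ b _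
      rw [MonoidHom.mem_ker, map_commutatorElement, commutatorElement_eq_one_iff_mul_comm]
      exact (Subgroup.mem_center_iff.1 (hz a) (φ b)).symm
    rw [hperf, top_le_iff, MonoidHom.ker_eq_top_iff] at hφ
    have hcomm : ∀ i j : Fin n, i ≠ j → Commute (Matrix.single i j (1 : F)) g.val := by
      intro i j hij
      have h1 := hz' (Matrix.SpecialLinearGroup.transvection hij (1 : F))
      rw [show z (Matrix.SpecialLinearGroup.transvection hij (1 : F)) = 1 from DFunLike.congr_fun hφ _, map_one, one_mul,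
        mul_inv_eq_iff_eq_mul] at h1
      have h2 := congrArg Units.val h1
      rw [Units.val_mul, Units.val_mul] at h2
      change g.val * (1 + Matrix.single i j 1) = (1 + Matrix.single i j 1) * g.val at h2
      rw [Matrix.mul_add, Matrix.add_mul, Matrix.mul_one, Matrix.one_mul, add_right_inj] at h2
      exact h2.symm
    obtain ⟨c, hc⟩ := Matrix.mem_range_scalar_of_commute_single hcomm
    exact ⟨c, by rw [← hc, Matrix.smul_one_eq_diagonal]; rfl⟩
  · refine Or.inr ?_
    rintro _ ⟨x, rfl⟩
    have hle : commutator (Matrix.SpecialLinearGroup (Fin n) F) ≤ N := by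
      rw [commutator_def, Subgroup.commutator_le]
      intro a _ b _
      obtain ⟨a', ha', hea⟩ := show π a ∈ N.map π from h ▸ Subgroup.mem_top _
      obtain ⟨b', hb', heb⟩ := show π b ∈ N.map π from h ▸ Subgroup.mem_top _
      obtain ⟨za, hza, rfl⟩ : ∃ za ∈ Subgroup.center (Matrix.SpecialLinearGroup (Fin n) F), a = a' * za :=
        ⟨a'⁻¹ * a, QuotientGroup.eq.1 hea, by group⟩
      obtain ⟨zb, hzb, rfl⟩ : ∃ zb ∈ Subgroup.center (Matrix.SpecialLinearGroup (Fin n) F), b = b' * zb :=
        ⟨b'⁻¹ * b, QuotientGroup.eq.1 heb, by group⟩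
      have e : ⁅a' * za, b' * zb⁆ = ⁅a', b'⁆ := by
        have e1 : ∀ y, za * y = y * za := fun y => (Subgroup.mem_center_iff.1 hza y).symm
        have e2 : ∀ y, zb * y = y * zb := fun y => (Subgroup.mem_center_iff.1 hzb y).symm
        rw [commutatorElement_def, commutatorElement_def, mul_inv_rev, mul_inv_rev, mul_assoc a' za, ← mul_assoc za,
          e1 b', mul_assoc b' za zb, ← mul_assoc a' b', mul_assoc (a' * b') (za * zb), ← mul_assoc (za * zb) za⁻¹,
          e1 zb, mul_inv_cancel_right, e2 a'⁻¹]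
        group
      rw [e, commutatorElement_def]
      exact N.mul_mem (N.mul_mem (N.mul_mem ha' hb') (N.inv_mem ha')) (N.inv_mem hb')
    exact hle (hperf ▸ Subgroup.mem_top x)

end Cfsg.Agent.S2540
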