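import Cfsg.Statements.S2541


set_option autoImplicit false
open Cfsg

namespace Cfsg.Agent.S2541

/-- Let F be a field with 9 elements. The symmetric group S_6 is not isomorphic to PGL_2(F) (although both have index-2 subgroups isomorphic to A_6). -/
theorem result {F : Type*} [Field F] [Fintype F] (hF : Fintype.card F = 9) : ¬ Nonempty (Equiv.Perm (Fin 6) ≃* Matrix.ProjGenLinGroup (Fin 2) F) := by
  classical
  rintro ⟨e⟩
  obtain ⟨g, hg⟩ := IsCyclic.exists_ofOrder_eq_natCard (α := Fˣ)
  rw [Nat.card_eq_fintype_card, Fintype.card_units, hF] at hg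
  let φ : Fˣ →* Matrix.ProjGenLinGroup (Fin 2) F := (Matrix.ProjGenLinGroup.mk).comp
    { toFun := fun a => Matrix.GeneralLinearGroup.mkOfDetNeZero (Matrix.diagonal ![(a : F), 1]) (by simp [Matrix.det_diagonal, Fin.prod_univ_two])
      map_one' := by ext i j; fin_cases i <;> fin_cases j <;> simp [Matrix.GeneralLinearGroup.mkOfDetNeZero]
      map_mul' := fun a b => Units.ext (by
        show Matrix.diagonal ![((a * b : Fˣ) : F), 1] = Matrix.diagonal ![(a : F), 1] * Matrix.diagonal ![(b : F), 1]
        rw [Matrix.diagonal_mul_diagonal]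
        congr 1
        funext i; fin_cases i <;> simp) }
  have hinj : Function.Injective φ := by
    refine (injective_iff_map_eq_one φ).2 fun a ha => ?_
    have h1 := (Matrix.ProjGenLinGroup.mk_eq_one.1 ha)
    rw [Matrix.GeneralLinearGroup.mem_center_iff_val_eq_scalar] at h1
    obtain ⟨c, hc⟩ := h1
    have e0 := congrFun (congrFun hc 0) 0
    have e1 := congrFun (congrFun hc 1) 1
    simp [Matrix.GeneralLinearGroup.mkOfDetNeZero] at e0 e1
    exact Units.ext (by rw [Units.val_one]; first | exact e0.trans e1.symm | exact e0.symm.trans e1 | linear_combination e0 - e1)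
  have h8 : orderOf (e.symm (φ g)) = 8 := by
    rw [MulEquiv.orderOf_eq, orderOf_injective φ hinj, hg]
  generalize e.symm (φ g) = σ at h8
  have h4 : σ.cycleType.lcm ∣ 4 := by
    refine Multiset.lcm_dvd.2 fun a ha => ?_
    have h1 := Equiv.Perm.dvd_of_mem_cycleType ha
    rw [h8] at h1
    have h2 : a ≤ 6 := (Multiset.le_sum_of_mem ha).trans (by simpa using σ.sum_cycleType_le)
    have : a ∈ Nat.divisors 8 := Nat.mem_divisors.2 ⟨h1, by norm_num⟩
    have h3 : Nat.divisors 8 = {1, 2, 4, 8} := by decide
    rw [h3] at this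
    simp only [Finset.mem_insert, Finset.mem_singleton] at this
    rcases this with rfl | rfl | rfl | rfl <;> omega
  rw [Equiv.Perm.lcm_cycleType, h8] at h4
  omega

end Cfsg.Agent.S2541
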