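import Cfsg.Statements.S2542
import Cfsg.Agent.S0804
import Cfsg.Agent.Lib.Dickson.Maximal.Common
-- import your own Cfsg.Agent.* helpers here

set_option autoImplicit false
set_option maxHeartbeats 1000000
open Cfsg

namespace Cfsg.Agent.S2542

open Subgroup MulAction Cfsg.Lib.Dickson

theorem index_ge_five {H : Type*} [Group H] [Finite H] [IsSimpleGroup H] (h60 : Nat.card H = 60) (S : Subgroup H)
    (hS : S ≠ ⊤) : 5 ≤ S.index := by
  have hcore : S.normalCore = ⊥ :=
    (IsSimpleGroup.eq_bot_or_eq_top_of_normal S.normalCore inferInstance).resolve_right fun h =>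
      hS (top_le_iff.mp (h ▸ S.normalCore_le))
  have hinj : Function.Injective (MulAction.toPermHom H (H ⧸ S)) := by
    rw [← MonoidHom.ker_eq_bot_iff, ← Subgroup.normalCore_eq_ker, hcore]
  have h := Subgroup.card_dvd_of_injective _ hinj
  rw [h60, Nat.card_perm, ← Subgroup.index_eq_card] at h
  by_contra hlt
  have : S.index.factorial ≤ 24 := by
    calc S.index.factorial ≤ (4).factorial := Nat.factorial_le (by omega)
      _ = 24 := rfl
  have := Nat.le_of_dvd (Nat.factorial_pos _) h
  omega

theorem two_trans {G : Type*} [Group G] [Finite G] [IsSimpleGroup G] (H : Subgroup G)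
    (e : H ≃* alternatingGroup (Fin 5)) (hG : Nat.card G = 660) (hH : Nat.card H = 60) (hidx : H.index = 11)
    (hkey : ∀ A : Subgroup G, A ≤ H → Nat.card A = 12 →
      ∃ V : Subgroup G, V ≤ A ∧ Nat.card V = 4 ∧ A = Subgroup.normalizer (V : Set G)) :
    MulAction.IsMultiplyPretransitive G (G ⧸ H) 2 := by
  classical
  haveI hsH : IsSimpleGroup H := e.isSimpleGroup
  have hHt : H ≠ ⊤ := fun h => by rw [h, Subgroup.index_top] at hidx; omega
  have hHb : H ≠ ⊥ := fun h => by rw [h, Subgroup.card_bot] at hH; omega
  have hnorm : ∀ g, (∀ h ∈ H, g⁻¹ * h * g ∈ H) → g ∈ H := by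
    intro g hg
    by_contra hgH
    have hgN : g⁻¹ ∈ Subgroup.normalizer (H : Set G) := by
      rw [Subgroup.mem_normalizer_iff]
      intro h
      have hle : H.map (MulAut.conj g⁻¹).toMonoidHom ≤ H := by
        rintro _ ⟨x, hx, rfl⟩
        simpa using hg x hx
      have heq := Subgroup.eq_of_le_of_card_ge hle
        (le_of_eq (Subgroup.card_map_of_injective (MulAut.conj g⁻¹).injective).symm)
      refine ⟨fun hh => by simpa using hg h hh, fun hh => ?_⟩
      rw [← heq] at hh
      obtain ⟨x, hx, hxe⟩ := hh
      have : x = h := by simpa using hxe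
      exact this ▸ hx
    obtain h | h : H = Subgroup.normalizer (H : Set G) ∨ Subgroup.normalizer (H : Set G) = ⊤ := by
      have hd := Subgroup.index_dvd_of_le (H.le_normalizer)
      rw [hidx] at hd
      rcases (Nat.dvd_prime (by norm_num)).mp hd with h | h
      · exact Or.inr (Subgroup.index_eq_one.mp h)
      · refine Or.inl (Subgroup.eq_of_le_of_card_ge H.le_normalizer (le_of_eq ?_))
        have h1 := (Subgroup.normalizer (H : Set G)).card_mul_index
        rw [h, hG] at h1
        omega
    · exact hgH (by rw [h]; exact inv_mem_iff.mp hgN)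
    · haveI := Subgroup.normalizer_eq_top_iff.mp h
      rcases IsSimpleGroup.eq_bot_or_eq_top_of_normal H this with h' | h'
      exacts [hHb h', hHt h']
  let x0 : G ⧸ H := ((1 : G) : G ⧸ H)
  have hx0 : ∀ h ∈ H, h • x0 = x0 := fun h hh => by
    show ((h * 1 : G) : G ⧸ H) = ((1 : G) : G ⧸ H)
    rw [mul_one, QuotientGroup.eq, mul_one]; exact inv_mem hh
  have hbig : ∀ y : G ⧸ H, y ≠ x0 → 5 ≤ (MulAction.orbit H y).ncard := by
    intro y hy
    induction y using QuotientGroup.induction_on with
    | _ g => ?_
    have h := index_ge_five hH (MulAction.stabilizer H ((g : G) : G ⧸ H)) fun htop => by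
      refine hy (QuotientGroup.eq.mpr ?_)
      rw [mul_one]
      refine inv_mem (hnorm g fun h hh => ?_)
      have hm : (⟨h, hh⟩ : H) ∈ MulAction.stabilizer H ((g : G) : G ⧸ H) := htop ▸ Subgroup.mem_top _
      have hm' : ((h * g : G) : G ⧸ H) = ((g : G) : G ⧸ H) := hm
      have := QuotientGroup.eq.mp hm'.symm
      simpa [mul_assoc] using this
    rwa [MulAction.index_stabilizer] at h
  have htrans : ∀ y z : G ⧸ H, y ≠ x0 → z ≠ x0 → ∃ h : H, h • y = z := by
    intro y z hy hz
    by_contra hno
    have hdisj : Disjoint (MulAction.orbit H y) (MulAction.orbit H z) := by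
      rw [Set.disjoint_left]
      intro w hw1 hw2
      rw [← MulAction.orbit_eq_iff] at hw1 hw2
      exact hno (MulAction.mem_orbit_iff.mp (MulAction.orbit_eq_iff.mp (hw2.symm.trans hw1)))
    have hsub : MulAction.orbit H y ∪ MulAction.orbit H z ⊆ {x0}ᶜ := by
      rintro w (⟨h, rfl⟩ | ⟨h, rfl⟩) hw <;> rw [Set.mem_singleton_iff] at hw
      · refine hy ?_
        rw [← inv_smul_smul h y]
        exact (congrArg (h⁻¹ • ·) hw).trans (hx0 _ (inv_mem h.2))
      · refine hz ?_
        rw [← inv_smul_smul h z]
        exact (congrArg (h⁻¹ • ·) hw).trans (hx0 _ (inv_mem h.2))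
    have hc := Set.ncard_le_ncard hsub
    rw [Set.ncard_union_eq hdisj, Set.ncard_compl, Set.ncard_singleton,
      ← Subgroup.index_eq_card, hidx] at hc
    have hy5 : (MulAction.orbit H y).ncard = 5 := by have := hbig y hy; have := hbig z hz; omega
    induction y using QuotientGroup.induction_on with
    | _ g => ?_
    set S := MulAction.stabilizer H ((g : G) : G ⧸ H) with hSdef
    have hS : Nat.card S = 12 := by
      have h1 : S.index = 5 := by rw [hSdef, MulAction.index_stabilizer, hy5]
      have h2 := S.card_mul_index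
      rw [h1, hH] at h2
      omega
    have hSg : ∀ s ∈ S, g⁻¹ * (s : H) * g ∈ H := by
      intro s hs
      have hm : (((s : H) : G) * g : G ⧸ H) = ((g : G) : G ⧸ H) := hs
      have := QuotientGroup.eq.mp hm.symm
      simpa [mul_assoc] using this
    have hSG : Nat.card (S.map H.subtype) = 12 := by
      rw [Subgroup.card_map_of_injective H.subtype_injective, hS]
    obtain ⟨V, hVS, hV, hNeq⟩ := hkey (S.map H.subtype) (Subgroup.map_subtype_le S) hSG
    have hVH : V ≤ H := hVS.trans (Subgroup.map_subtype_le S)
    let V' : Subgroup G := V.map (MulAut.conj g⁻¹).toMonoidHom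
    have hV'H : V' ≤ H := by
      rintro _ ⟨v, hv, rfl⟩
      obtain ⟨s, hs, rfl⟩ := hVS hv
      simpa using hSg s hs
    haveI := Fact.mk Nat.prime_two
    have hsyl : ∀ U : Subgroup G, U ≤ H → Nat.card U = 4 → ∃ P : Sylow 2 H, (P : Subgroup H) = U.subgroupOf H := by
      intro U hU hc
      have hc' : Nat.card (U.subgroupOf H) = 2 ^ 2 := by
        rw [Nat.card_congr (Subgroup.subgroupOfEquivOfLe hU).toEquiv, hc]; rfl
      exact ⟨(IsPGroup.of_card hc').toSylow (by
        have := (U.subgroupOf H).card_mul_index
        rw [hc', hH] at this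
        omega), rfl⟩
    obtain ⟨P, hP⟩ := hsyl V hVH hV
    obtain ⟨Q, hQ⟩ := hsyl V' hV'H (by rw [Subgroup.card_map_of_injective (MulAut.conj g⁻¹).injective, hV])
    obtain ⟨h, hh⟩ := MulAction.exists_smul_eq H Q P
    have hk : (h : G) * g⁻¹ ∈ Subgroup.normalizer (V : Set G) := by
      rw [Subgroup.mem_normalizer_iff]
      intro v
      have key : ∀ w : H, w ∈ (Q : Subgroup H) ↔ h * w * h⁻¹ ∈ (P : Subgroup H) := fun w => by
        rw [← hh, Sylow.coe_subgroup_smul, Subgroup.mem_smul_pointwise_iff_exists]
        exact ⟨fun hw => ⟨w, hw, rfl⟩, fun ⟨s, hs, he⟩ => by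
          have : s = w := by simpa using he
          exact this ▸ hs⟩
      constructor
      · intro hv
        have hw : g⁻¹ * v * g ∈ V' := ⟨v, hv, by simp⟩
        have := (key ⟨_, hV'H hw⟩).mp (by rw [hQ]; exact hw)
        rw [hP] at this
        simpa [Subgroup.mem_subgroupOf, mul_assoc] using this
      · intro hv
        have := (key (h⁻¹ * ⟨_, hVH hv⟩ * h)).mpr (by rw [hP]; simpa [Subgroup.mem_subgroupOf, mul_assoc] using hv)
        rw [hQ, Subgroup.mem_subgroupOf] at this
        obtain ⟨u, hu, he⟩ := this
        simp [mul_assoc] at he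
        exact he ▸ hu
    rw [← hNeq] at hk
    have hgH : g ∈ H := inv_mem_iff.mp ((mul_mem_cancel_left h.2).mp (Subgroup.map_subtype_le S hk))
    exact hy (QuotientGroup.eq.mpr (by rw [mul_one]; exact inv_mem hgH))
  rw [MulAction.is_two_pretransitive_iff]
  intro a b c d hab hcd
  obtain ⟨g1, hg1⟩ := MulAction.exists_smul_eq G a x0
  obtain ⟨g2, hg2⟩ := MulAction.exists_smul_eq G c x0
  obtain ⟨h, hh⟩ := htrans (g1 • b) (g2 • d) (fun h => hab (smul_left_cancel g1 (hg1.trans h.symm)))
    (fun h => hcd (smul_left_cancel g2 (hg2.trans h.symm)))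
  refine ⟨g2⁻¹ * h * g1, ?_, ?_⟩
  · rw [mul_smul, mul_smul, hg1, hx0 _ h.2, ← hg2, inv_smul_smul]
  · rw [mul_smul, mul_smul, show (h : G) • g1 • b = g2 • d from hh, inv_smul_smul]


variable {F : Type*} [Field F] [Fintype F]

local notation "PSL2" => Matrix.ProjectiveSpecialLinearGroup (Fin 2) F

theorem card_psl_eleven (hF : Fintype.card F = 11) : Nat.card PSL2 = 660 := by
  have h := Cfsg.Lib.Linear.Two.card_PSL_two (F := F)
  rw [hF] at h
  norm_num at h
  omega

theorem mul_three_cases (hF : Fintype.card F = 11) (N : Subgroup PSL2) (h12 : 12 ∣ Nat.card N) (hN : N ≠ ⊤) :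
    Nat.card N = 12 ∨ Nonempty (N ≃* alternatingGroup (Fin 5)) := by
  obtain ⟨p, hpp, hp, n, -, hn⟩ := exists_char (F := F)
  haveI := Fact.mk hpp
  have hG := card_psl_eleven hF
  have hd : Nat.card N ∣ 660 := hG ▸ N.card_subgroup_dvd_card
  have hlt : Nat.card N ≠ 660 := fun h => hN (Subgroup.eq_top_of_card_eq _ (h.trans hG.symm))
  have hpos : 0 < Nat.card N := Nat.card_pos
  rcases card_subgroup_cases p N with ⟨k, hk, h⟩ | h | h | ⟨r, m, hr, hm, h⟩
  · rw [hF] at hk
    norm_num at hk
    have hk6 : k ≤ 6 := by
      rcases hk with hk | hk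
      · exact Nat.le_of_dvd (by norm_num) hk
      · exact (Nat.le_of_dvd (by norm_num) hk).trans (by norm_num)
    have h12' := Nat.le_of_dvd hpos h12
    left; omega
  · rw [hF] at h
    norm_num at h
    have := h12.trans (dvd_mul_left (Nat.card N) 2) |>.trans h
    norm_num at this
  · rcases h with h | h | h
    · exact Or.inl h
    · rw [h] at hd; norm_num at hd
    · right
      rcases psl_subgroup_cases p N with ⟨k, hk, hH⟩ | ⟨-, P, hP⟩ | ⟨-, hc⟩
      · exfalso
        rw [hF] at hk
        norm_num at hk
        have hk6 : k ≤ 6 := by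
          rcases hk with hk | hk
          · exact Nat.le_of_dvd (by norm_num) hk
          · exact (Nat.le_of_dvd (by norm_num) hk).trans (by norm_num)
        rcases hH with ⟨-, hc⟩ | ⟨⟨e⟩⟩
        · omega
        · have := (Nat.card_congr e.toEquiv).trans DihedralGroup.nat_card
          omega
      · exfalso
        have h2 := Nat.mul_dvd_mul_left (Nat.gcd 2 (Fintype.card F - 1)) (Subgroup.card_dvd_of_le hP)
        rw [card_normalizer_sylow_psl p P, hF, h] at h2
        norm_num at h2
      · rcases hc with ⟨⟨e⟩⟩ | ⟨⟨e⟩⟩ | he | ⟨K, _, _, m, -, h3, hm, hiso⟩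
        · have := Nat.card_congr e.toEquiv
          rw [h, nat_card_alternatingGroup, Nat.card_fin] at this
          norm_num [Nat.factorial] at this
        · have := Nat.card_congr e.toEquiv
          rw [h, Nat.card_perm, Nat.card_fin] at this
          norm_num [Nat.factorial] at this
        · exact he
        · exfalso
          have hr : Fintype.card K = 11 := by
            rw [hF] at hm
            rcases Nat.lt_or_ge m 2 with hm2 | hm2
            · interval_cases m <;> simp_all
            · have := Nat.pow_le_pow_right (show 1 ≤ Fintype.card K by omega) hm2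
              have h4 : Fintype.card K < 4 := by nlinarith
              interval_cases hK : Fintype.card K
              have : 3 ∣ 3 ^ m := dvd_pow_self _ (by omega)
              rw [hm] at this
              norm_num at this
          rcases hiso with ⟨⟨e⟩, -⟩ | ⟨⟨e⟩⟩
          · have := Nat.card_congr e.toEquiv
            have h' := Cfsg.Lib.Linear.Two.card_PSL_two (F := K)
            rw [← this, hr, h] at h'
            norm_num at h'
          · have := Nat.card_congr e.toEquiv
            rw [card_PGL_two_eq, hr, h] at this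
            norm_num at this
  · exfalso
    rw [hF] at hm
    have hr11 : r = 11 := by
      rcases Nat.lt_or_ge m 2 with hm2 | hm2
      · interval_cases m <;> simp_all
      · have := Nat.pow_le_pow_right (show 1 ≤ r by omega) hm2
        have h4 : r < 4 := by nlinarith
        obtain rfl : r = 3 := by omega
        have : 3 ∣ 3 ^ m := dvd_pow_self _ (by omega)
        rw [hm] at this
        norm_num at this
    subst hr11
    have := Nat.le_of_dvd (by norm_num) hd
    omega

theorem key (hF : Fintype.card F = 11) [IsSimpleGroup PSL2] (H : Subgroup PSL2)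
    (e : H ≃* alternatingGroup (Fin 5)) (A : Subgroup PSL2) (hAH : A ≤ H) (hSG : Nat.card A = 12) :
    ∃ V : Subgroup PSL2, V ≤ A ∧ Nat.card V = 4 ∧ A = Subgroup.normalizer (V : Set PSL2) := by
  classical
  have hG := card_psl_eleven hF
  obtain ⟨p, hpp, hp, n, -, hn⟩ := exists_char (F := F)
  haveI := Fact.mk hpp
  obtain ⟨eA⟩ : Nonempty (A ≃* alternatingGroup (Fin 4)) := by
    rcases psl_subgroup_cases p (A) with ⟨k, hk, hk'⟩ | ⟨hp', -⟩ | ⟨-, hc⟩
    · exfalso
      rw [hF] at hk
      norm_num at hk
      have hk6 : k ≤ 6 := by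
        rcases hk with hk | hk
        · exact Nat.le_of_dvd (by norm_num) hk
        · exact (Nat.le_of_dvd (by norm_num) hk).trans (by norm_num)
      rcases hk' with ⟨-, hc⟩ | ⟨⟨d⟩⟩
      · omega
      · have hk2 := (Nat.card_congr d.toEquiv).trans DihedralGroup.nat_card
        obtain rfl : k = 6 := by omega
        let r : alternatingGroup (Fin 5) :=
          e ⟨_, hAH (d.symm (DihedralGroup.r 1)).2⟩
        have hr : orderOf r = 6 := by
          rw [e.orderOf_eq, Subgroup.orderOf_mk, Subgroup.orderOf_coe, d.symm.orderOf_eq, DihedralGroup.orderOf_r_one]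
        rcases alternating_five_exponents r with h | h | h <;>
        · have := orderOf_dvd_of_pow_eq_one h
          rw [hr] at this
          norm_num at this
    · exfalso
      rw [hSG] at hp'
      have hp11 : p = 11 := by
        have : p ∣ 11 := by
          rw [← hF, hn]; refine dvd_pow_self p ?_
          rintro rfl; rw [pow_zero] at hn; omega
        exact (Nat.prime_dvd_prime_iff_eq hpp (by norm_num)).mp this
      subst hp11
      norm_num at hp'
    · rcases hc with he | ⟨⟨d⟩⟩ | ⟨⟨d⟩⟩ | ⟨K, _, _, m, -, h3, hm, hiso⟩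
      · exact he
      · have := Nat.card_congr d.toEquiv
        rw [hSG, Nat.card_perm, Nat.card_fin] at this
        norm_num [Nat.factorial] at this
      · have := Nat.card_congr d.toEquiv
        rw [hSG, nat_card_alternatingGroup, Nat.card_fin] at this
        norm_num [Nat.factorial] at this
      · exfalso
        have hr : Fintype.card K = 11 := by
          rw [hF] at hm
          rcases Nat.lt_or_ge m 2 with hm2 | hm2
          · interval_cases m <;> simp_all
          · have := Nat.pow_le_pow_right (show 1 ≤ Fintype.card K by omega) hm2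
            have h4 : Fintype.card K < 4 := by nlinarith
            interval_cases hK : Fintype.card K
            have : 3 ∣ 3 ^ m := dvd_pow_self _ (by omega)
            rw [hm] at this
            norm_num at this
        rcases hiso with ⟨⟨d⟩, -⟩ | ⟨⟨d⟩⟩
        · have := Nat.card_congr d.toEquiv
          have h' := Cfsg.Lib.Linear.Two.card_PSL_two (F := K)
          rw [← this, hr, hSG] at h'
          norm_num at h'
        · have := Nat.card_congr d.toEquiv
          rw [card_PGL_two_eq, hr, hSG] at this
          norm_num at this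
  let W : Subgroup (A) := (fourFour.comap (alternatingGroup (Fin 4)).subtype).comap eA.toMonoidHom
  haveI : W.Normal := inferInstance
  let V : Subgroup PSL2 := W.map A.subtype
  have hVS : V ≤ A := Subgroup.map_subtype_le W
  have hV : Nat.card V = 4 := by
    rw [Subgroup.card_map_of_injective (Subgroup.subtype_injective _)]
    rw [Nat.card_congr ((eA.toEquiv.subtypeEquiv (q := fun a : alternatingGroup (Fin 4) =>
      (a : Equiv.Perm (Fin 4)) * a = 1) fun a => ?_) : W ≃ _), Nat.card_eq_fintype_card]
    · decide +kernel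
    · exact ⟨fun h => h.1, fun h => ⟨h, (eA a).2⟩⟩
  have hSN : A ≤ Subgroup.normalizer (V : Set PSL2) := by
    intro a ha
    rw [Subgroup.mem_normalizer_iff]
    intro v
    constructor
    · rintro ⟨w, hw, rfl⟩
      exact ⟨_, (inferInstance : W.Normal).conj_mem w hw ⟨a, ha⟩, rfl⟩
    · rintro ⟨w, hw, hwe⟩
      refine ⟨⟨a, ha⟩⁻¹ * w * ⟨a, ha⟩, by simpa using (inferInstance : W.Normal).conj_mem w hw ⟨a, ha⟩⁻¹, ?_⟩
      simp only [map_mul, map_inv, hwe]
      simp [mul_assoc]
  have hNt : Subgroup.normalizer (V : Set PSL2) ≠ ⊤ := by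
    intro h
    haveI := Subgroup.normalizer_eq_top_iff.mp h
    rcases IsSimpleGroup.eq_bot_or_eq_top_of_normal V this with h' | h'
    · rw [h', Subgroup.card_bot] at hV; omega
    · rw [h', Subgroup.card_top, hG] at hV; omega
  have hNeq : A = Subgroup.normalizer (V : Set PSL2) := by
    have h12 : 12 ∣ Nat.card (Subgroup.normalizer (V : Set PSL2)) := hSG ▸ Subgroup.card_dvd_of_le hSN
    rcases mul_three_cases hF _ h12 hNt with h | ⟨⟨d⟩⟩
    · exact Subgroup.eq_of_le_of_card_ge hSN (by omega)
    · exfalso
      haveI := d.isSimpleGroup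
      have hc : Nat.card (V.subgroupOf (Subgroup.normalizer (V : Set PSL2))) = 4 := by
        rw [Nat.card_congr (Subgroup.subgroupOfEquivOfLe V.le_normalizer).toEquiv, hV]
      rcases IsSimpleGroup.eq_bot_or_eq_top_of_normal (V.subgroupOf (Subgroup.normalizer (V : Set PSL2)))
        inferInstance with h | h
      · rw [h, Subgroup.card_bot] at hc; omega
      · rw [h, Subgroup.card_top, Nat.card_congr d.toEquiv, nat_card_alternatingGroup, Nat.card_fin] at hc
        norm_num [Nat.factorial] at hc
  exact ⟨V, hVS, hV, hNeq⟩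

/-- Let F be a field with 11 elements. PSL_2(F) has a subgroup H of index 11 isomorphic to the alternating group A_5, and the action of PSL_2(F) on the cosets of H is 2-transitive (of degree 11). -/
theorem result {F : Type*} [Field F] [Fintype F] (hF : Fintype.card F = 11) : ∃ H : Subgroup (Matrix.ProjectiveSpecialLinearGroup (Fin 2) F), H.index = 11 ∧ Nonempty (H ≃* alternatingGroup (Fin 5)) ∧ MulAction.IsMultiplyPretransitive (Matrix.ProjectiveSpecialLinearGroup (Fin 2) F) ((Matrix.ProjectiveSpecialLinearGroup (Fin 2) F) ⧸ H) 2 := by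
  classical
  obtain ⟨H, ⟨e⟩⟩ := (Cfsg.Agent.S0804.result hF).mpr (by norm_num)
  haveI hsimp := isSimpleGroup_psl_two (F := F) (by omega)
  have hG := card_psl_eleven hF
  have hH : Nat.card H = 60 := by
    rw [Nat.card_congr e.toEquiv, nat_card_alternatingGroup, Nat.card_fin]; rfl
  have hidx : H.index = 11 := by
    have := H.card_mul_index; rw [hH, hG] at this; omega
  exact ⟨H, hidx, ⟨e⟩, two_trans H e hG hH hidx fun A hA hA' => key hF H e A hA hA'⟩

end Cfsg.Agent.S2542
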