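import Cfsg.Statements.S2543
import Cfsg.Agent.Lib.Recog.Icosahedral
import Cfsg.Agent.Lib.Dickson.Targets
import Cfsg.Agent.Lib.Dickson.Maximal.Basic

set_option linter.style.haveILetI false

set_option autoImplicit false
open scoped Pointwise
open Cfsg

namespace Cfsg.Agent.S2543


open scoped Pointwise

/-! ## The count in `A₅` -/

theorem five_count : ∀ b : alternatingGroup (Fin 5), b ^ 5 = 1 → b ≠ 1 →
    (Finset.univ.filter fun a : alternatingGroup (Fin 5) => a ≠ 1 ∧ a ^ 3 = 1 ∧ (a * b) ^ 2 = 1).card = 5 := by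
  decide +kernel

/-! ## A group of order 660 -/

variable {G : Type*} [Group G] [Finite G] [IsSimpleGroup G]

theorem five_gen (a b : G) (ha : a ^ 3 = 1) (hb : b ^ 5 = 1) (hab : (a * b) ^ 2 = 1) (hb1 : b ≠ 1) :
    Nonempty (↥(Subgroup.closure ({a, b} : Set G)) ≃* alternatingGroup (Fin 5)) := by
  obtain ⟨φ⟩ := Cfsg.Lib.Recog.Icosa.iso_presented_five
  set u : Fin 2 → G := ![a, b] with hu
  have hrel : ∀ r ∈ Cfsg.Lib.Recog.Icosa.rels5, FreeGroup.lift u r = 1 := by
    rintro r (rfl | rfl | rfl) <;> simp [hu, ha, hb, hab]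
  set f := PresentedGroup.toGroup hrel with hf
  have hf0 : f (PresentedGroup.of 0) = a := by rw [hf, PresentedGroup.toGroup.of]; rfl
  have hf1 : f (PresentedGroup.of 1) = b := by rw [hf, PresentedGroup.toGroup.of]; rfl
  haveI : IsSimpleGroup (alternatingGroup (Fin 5)) := alternatingGroup.isSimpleGroup (by simp)
  haveI : Nontrivial (PresentedGroup Cfsg.Lib.Recog.Icosa.rels5) := φ.toEquiv.nontrivial
  haveI : IsSimpleGroup (PresentedGroup Cfsg.Lib.Recog.Icosa.rels5) :=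
    IsSimpleGroup.isSimpleGroup_of_surjective φ.symm.toMonoidHom φ.symm.surjective
  have hinj : Function.Injective f := by
    rw [← MonoidHom.ker_eq_bot_iff]
    rcases IsSimpleGroup.eq_bot_or_eq_top_of_normal f.ker inferInstance with h | h
    · exact h
    · exfalso
      exact hb1 (by rw [← hf1]; exact MonoidHom.mem_ker.1 (h ▸ Subgroup.mem_top _))
  have hrange : f.range = Subgroup.closure ({a, b} : Set G) := by
    rw [MonoidHom.range_eq_map, ← PresentedGroup.closure_range_of, MonoidHom.map_closure, ← Set.range_comp]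
    congr 1
    ext y
    constructor
    · rintro ⟨i, rfl⟩
      fin_cases i <;> simp [hf0, hf1]
    · rintro (rfl | rfl)
      · exact ⟨0, hf0⟩
      · exact ⟨1, hf1⟩
  exact ⟨((MonoidHom.ofInjective hinj).trans (MulEquiv.subgroupCongr hrange)).symm.trans φ⟩

/-- The statement for an abstract group. -/
theorem twenty_two (hcard : Nat.card G = 660) (a₁ a₂ b : G) (hb : b ^ 5 = 1) (hb1 : b ≠ 1)
    (h₁ : a₁ ^ 3 = 1 ∧ (a₁ * b) ^ 2 = 1) (h₂ : a₂ ^ 3 = 1 ∧ (a₂ * b) ^ 2 = 1) (hne₁ : a₁ ≠ 1) (hne₂ : a₂ ≠ 1)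
    (hten : ∀ k : Fin 5, b ^ (k : ℕ) * a₁ * (b ^ (k : ℕ))⁻¹ ≠ a₂ ∧
      (k ≠ 0 → b ^ (k : ℕ) * a₁ * (b ^ (k : ℕ))⁻¹ ≠ a₁))
    (hN : ∀ g : G, MulAut.conj g • Subgroup.zpowers b = Subgroup.zpowers b → g ∈ Subgroup.closure ({a₁, b} : Set G))
    (hclass : ∀ a : G, a ≠ 1 → a ^ 3 = 1 → (a * b) ^ 2 = 1 →
      ∃ k : Fin 5, a = b ^ (k : ℕ) * a₁ * (b ^ (k : ℕ))⁻¹ ∨ a = b ^ (k : ℕ) * a₂ * (b ^ (k : ℕ))⁻¹) :
    Nat.card {H : Subgroup G // Nonempty (H ≃* alternatingGroup (Fin 5))} = 22 ∧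
      ∃ H K : Subgroup G, Nonempty (H ≃* alternatingGroup (Fin 5)) ∧ Nonempty (K ≃* alternatingGroup (Fin 5)) ∧
        (∀ g : G, MulAut.conj g • H ≠ K) ∧
        ∀ L : Subgroup G, Nonempty (L ≃* alternatingGroup (Fin 5)) →
          ∃ g : G, MulAut.conj g • L = H ∨ MulAut.conj g • L = K := by
  classical
  haveI : Fact (Nat.Prime 5) := ⟨by norm_num⟩
  set H := Subgroup.closure ({a₁, b} : Set G) with hH
  set K := Subgroup.closure ({a₂, b} : Set G) with hK
  have hHi := five_gen a₁ b h₁.1 hb h₁.2 hb1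
  have hKi := five_gen a₂ b h₂.1 hb h₂.2 hb1
  have hc60 : ∀ L : Subgroup G, Nonempty (L ≃* alternatingGroup (Fin 5)) → Nat.card ↥L = 60 := fun L ⟨e⟩ =>
    Cfsg.Lib.Dickson.card_target_five e
  have hbH : b ∈ H := Subgroup.subset_closure (Or.inr rfl)
  have hbK : b ∈ K := Subgroup.subset_closure (Or.inr rfl)
  have horder : orderOf b = 5 := orderOf_eq_prime hb hb1
  -- subgroups with the given element of order five
  have hwith : ∀ L : Subgroup G, Nonempty (L ≃* alternatingGroup (Fin 5)) → b ∈ L → L = H ∨ L = K := by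
    intro L hL hbL
    obtain ⟨e⟩ := hL
    have hb' : e ⟨b, hbL⟩ ^ 5 = 1 := by
      rw [← map_pow, show (⟨b, hbL⟩ : ↥L) ^ 5 = 1 from Subtype.ext hb, map_one]
    have hb'1 : e ⟨b, hbL⟩ ≠ 1 := by
      rw [map_ne_one_iff e e.injective]
      exact fun h => hb1 (congrArg Subtype.val h)
    have hc := five_count _ hb' hb'1
    obtain ⟨a', ha'⟩ := Finset.card_pos.1 (lt_of_lt_of_eq (Nat.succ_pos 4) hc.symm)
    obtain ⟨-, ha1, ha3, ha2⟩ := Finset.mem_filter.1 ha'
    set a : ↥L := e.symm a' with ha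
    have hane : (a : G) ≠ 1 := fun h => ha1 (by
      rw [← e.apply_symm_apply a', ← ha, show a = 1 from Subtype.ext h, map_one])
    have hA3 : (a : G) ^ 3 = 1 := by
      have : a ^ 3 = 1 := by rw [ha, ← map_pow, ha3, map_one]
      exact congrArg Subtype.val this
    have hA2 : ((a : G) * b) ^ 2 = 1 := by
      have : (a * ⟨b, hbL⟩) ^ 2 = 1 := e.injective (by rw [map_pow, map_mul, ha, e.apply_symm_apply, ha2, map_one])
      exact congrArg Subtype.val this
    obtain ⟨k, hk⟩ := hclass _ hane hA3 hA2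
    have hin : ∀ c : G, (a : G) = b ^ (k : ℕ) * c * (b ^ (k : ℕ))⁻¹ → c ∈ L := by
      intro c hc'
      have : c = (b ^ (k : ℕ))⁻¹ * a * b ^ (k : ℕ) := by rw [hc']; group
      rw [this]
      exact mul_mem (mul_mem (inv_mem (pow_mem hbL _)) a.2) (pow_mem hbL _)
    rcases hk with hk | hk
    · left
      refine (Subgroup.eq_of_le_of_card_ge ?_ (by rw [hc60 L ⟨e⟩, hc60 H hHi])).symm
      rw [hH, Subgroup.closure_le]
      rintro y (rfl | rfl)
      · exact hin _ hk
      · exact hbL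
    · right
      refine (Subgroup.eq_of_le_of_card_ge ?_ (by rw [hc60 L ⟨e⟩, hc60 K hKi])).symm
      rw [hK, Subgroup.closure_le]
      rintro y (rfl | rfl)
      · exact hin _ hk
      · exact hbL
  have hHK : H ≠ K := by
    intro h
    obtain ⟨e⟩ := hHi
    have hc := five_count (e ⟨b, hbH⟩) (by rw [← map_pow, show (⟨b, hbH⟩ : ↥H) ^ 5 = 1 from Subtype.ext hb, map_one])
      ((map_ne_one_iff e e.injective).2 fun h => hb1 (congrArg Subtype.val h))
    have ha₁H : a₁ ∈ H := Subgroup.subset_closure (Or.inl rfl)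
    have ha₂H : a₂ ∈ H := h.symm ▸ Subgroup.subset_closure (Or.inl rfl)
    let v : Option (Fin 5) → ↥H := fun o => o.elim ⟨a₂, ha₂H⟩ fun k =>
      ⟨b ^ (k : ℕ) * a₁ * (b ^ (k : ℕ))⁻¹, mul_mem (mul_mem (pow_mem hbH _) ha₁H) (inv_mem (pow_mem hbH _))⟩
    have hv : Function.Injective (e ∘ v) := by
      refine e.injective.comp ?_
      rintro (_ | k) (_ | l) hkl
      · rfl
      · exact absurd (congrArg Subtype.val hkl).symm (hten l).1
      · exact absurd (congrArg Subtype.val hkl) (hten k).1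
      · congr 1
        by_contra hne
        have e0 : b ^ (k : ℕ) * a₁ * (b ^ (k : ℕ))⁻¹ = b ^ (l : ℕ) * a₁ * (b ^ (l : ℕ))⁻¹ := congrArg Subtype.val hkl
        rcases lt_or_gt_of_ne hne with hlt | hlt
        · refine (hten (l - k)).2 (fun h => hne (sub_eq_zero.1 h).symm) ?_
          have hsub : ((l - k : Fin 5) : ℕ) = (l : ℕ) - (k : ℕ) := Fin.sub_val_of_le hlt.le
          rw [hsub, pow_sub b (Fin.le_def.1 hlt.le)]
          calc b ^ (l : ℕ) * (b ^ (k : ℕ))⁻¹ * a₁ * (b ^ (l : ℕ) * (b ^ (k : ℕ))⁻¹)⁻¹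
              = (b ^ (k : ℕ))⁻¹ * (b ^ (l : ℕ) * a₁ * (b ^ (l : ℕ))⁻¹) * b ^ (k : ℕ) := by group
            _ = a₁ := by rw [← e0]; group
        · refine (hten (k - l)).2 (fun h => hne (sub_eq_zero.1 h)) ?_
          have hsub : ((k - l : Fin 5) : ℕ) = (k : ℕ) - (l : ℕ) := Fin.sub_val_of_le hlt.le
          rw [hsub, pow_sub b (Fin.le_def.1 hlt.le)]
          calc b ^ (k : ℕ) * (b ^ (l : ℕ))⁻¹ * a₁ * (b ^ (k : ℕ) * (b ^ (l : ℕ))⁻¹)⁻¹
              = (b ^ (l : ℕ))⁻¹ * (b ^ (k : ℕ) * a₁ * (b ^ (k : ℕ))⁻¹) * b ^ (l : ℕ) := by group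
            _ = a₁ := by rw [e0]; group
    have hmem : ∀ o, (v o : G) ≠ 1 ∧ (v o : G) ^ 3 = 1 ∧ ((v o : G) * b) ^ 2 = 1 := by
      rintro (_ | k)
      · exact ⟨hne₂, h₂⟩
      · refine ⟨?_, ?_, ?_⟩
        · show b ^ (k : ℕ) * a₁ * (b ^ (k : ℕ))⁻¹ ≠ 1
          rw [Ne, conj_eq_one_iff]
          exact hne₁
        · show (b ^ (k : ℕ) * a₁ * (b ^ (k : ℕ))⁻¹) ^ 3 = 1
          rw [conj_pow, h₁.1, mul_one, mul_inv_cancel]
        · show (b ^ (k : ℕ) * a₁ * (b ^ (k : ℕ))⁻¹ * b) ^ 2 = 1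
          rw [show b ^ (k : ℕ) * a₁ * (b ^ (k : ℕ))⁻¹ * b = b ^ (k : ℕ) * (a₁ * b) * (b ^ (k : ℕ))⁻¹ by group,
            conj_pow, h₁.2, mul_one, mul_inv_cancel]
    have hle := Finset.card_le_card (s := Finset.univ.image (e ∘ v))
      (t := Finset.univ.filter fun a : alternatingGroup (Fin 5) => a ≠ 1 ∧ a ^ 3 = 1 ∧ (a * e ⟨b, hbH⟩) ^ 2 = 1) (by
        intro y hy
        obtain ⟨o, -, rfl⟩ := Finset.mem_image.1 hy
        obtain ⟨m1, m3, m2⟩ := hmem o
        refine Finset.mem_filter.2 ⟨Finset.mem_univ _, ?_, ?_, ?_⟩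
        · exact (map_ne_one_iff e e.injective).2 fun h => m1 (congrArg Subtype.val h)
        · show e (v o) ^ 3 = 1
          rw [← map_pow, show v o ^ 3 = 1 from Subtype.ext m3, map_one]
        · show (e (v o) * e ⟨b, hbH⟩) ^ 2 = 1
          rw [← map_mul, ← map_pow, show (v o * ⟨b, hbH⟩) ^ 2 = 1 from Subtype.ext m2, map_one])
    rw [hc, Finset.card_image_of_injective _ hv, Finset.card_univ] at hle
    simp at hle
  -- every subgroup is conjugate to one of them
  have hall : ∀ L : Subgroup G, Nonempty (L ≃* alternatingGroup (Fin 5)) →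
      ∃ g : G, MulAut.conj g • L = H ∨ MulAut.conj g • L = K := by
    intro L hL
    obtain ⟨e⟩ := hL
    obtain ⟨Z, hZ⟩ := (IsPGroup.of_card (n := 1) (by rw [Nat.card_zpowers, horder, pow_one]) :
      IsPGroup 5 ↥(Subgroup.zpowers b)).exists_le_sylow
    have hZc : Nat.card ↥(Z : Subgroup G) = 5 := by
      rw [Z.card_eq_multiplicity, hcard, Nat.factorization_def _ Fact.out,
        show (660 : ℕ) = 5 * 132 from rfl, padicValNat.mul (by norm_num) (by norm_num), padicValNat.self (by norm_num),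
        padicValNat.eq_zero_of_not_dvd (by norm_num : ¬ 5 ∣ 132)]
      norm_num
    have hZb : Subgroup.zpowers b = (Z : Subgroup G) :=
      Subgroup.eq_of_le_of_card_ge hZ (by rw [hZc, Nat.card_zpowers, horder])
    have h5 : 5 ∣ Nat.card ↥L := by rw [hc60 L ⟨e⟩]; norm_num
    obtain ⟨y, hy⟩ := exists_prime_orderOf_dvd_card' 5 h5
    have hy' : orderOf (y : G) = 5 := by rw [Subgroup.orderOf_coe, hy]
    obtain ⟨V, hV⟩ := (IsPGroup.of_card (n := 1) (by rw [Nat.card_zpowers, hy', pow_one]) :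
      IsPGroup 5 ↥(Subgroup.zpowers (y : G))).exists_le_sylow
    have hVy : Subgroup.zpowers (y : G) = (V : Subgroup G) :=
      Subgroup.eq_of_le_of_card_ge hV (le_of_eq (((V.card_eq_multiplicity.trans Z.card_eq_multiplicity.symm).trans hZc).trans
        (by rw [Nat.card_zpowers, hy'])))
    obtain ⟨g, hg⟩ := MulAction.exists_smul_eq G V Z
    refine ⟨g, ?_⟩
    have hb' : b ∈ MulAut.conj g • L := by
      have h1 : b ∈ MulAut.conj g • (V : Subgroup G) := by
        rw [← Sylow.coe_subgroup_smul, hg, ← hZb]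
        exact Subgroup.mem_zpowers b
      rw [← hVy] at h1
      exact Subgroup.pointwise_smul_le_pointwise_smul_iff.2 (Subgroup.zpowers_le.2 y.2) h1
    exact hwith _ ⟨(Subgroup.equivSMul (MulAut.conj g) L).symm.trans e⟩ hb'
  have hnormal : ∀ L : Subgroup G, Nonempty (L ≃* alternatingGroup (Fin 5)) →
      Subgroup.normalizer (L : Set G) = L := by
    intro L hL
    have h1 := hc60 L hL
    refine (Subgroup.eq_of_le_of_card_ge Subgroup.le_normalizer ?_).symm
    obtain ⟨t, ht⟩ := Subgroup.card_dvd_of_le (Subgroup.le_normalizer : L ≤ Subgroup.normalizer (L : Set G))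
    obtain ⟨s, hs⟩ := Subgroup.card_subgroup_dvd_card (Subgroup.normalizer (L : Set G))
    rw [hcard, ht, h1] at hs
    have hts : t * s = 11 := by nlinarith
    rcases (Nat.dvd_prime (by norm_num : Nat.Prime 11)).1 ⟨s, hts.symm⟩ with e | e
    · rw [ht, e, mul_one]
    · exfalso
      have htop : Subgroup.normalizer (L : Set G) = ⊤ := Subgroup.eq_top_of_card_eq _ (by rw [ht, h1, e, hcard])
      haveI : L.Normal := Subgroup.normalizer_eq_top_iff.1 htop
      rcases IsSimpleGroup.eq_bot_or_eq_top_of_normal L inferInstance with hh | hh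
      · rw [hh, Subgroup.card_bot] at h1; norm_num at h1
      · rw [hh, Subgroup.card_top, hcard] at h1; norm_num at h1
  have hnc : ∀ g : G, MulAut.conj g • H ≠ K := by
    intro g hg
    obtain ⟨h0, hh0, hfix⟩ : ∃ h0 : G, h0 ∈ K ∧ MulAut.conj h0 • (MulAut.conj g • Subgroup.zpowers b) = Subgroup.zpowers b := by
      have hc : Nat.card ↥(Subgroup.zpowers b) = 5 := by rw [Nat.card_zpowers, horder]
      set Y := MulAut.conj g • Subgroup.zpowers b with hY
      have hYK : Y ≤ K := hg ▸ Subgroup.pointwise_smul_le_pointwise_smul_iff.2 (Subgroup.zpowers_le.2 hbH)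
      have hYc : Nat.card ↥Y = 5 := by
        rw [hY, ← Nat.card_congr (Subgroup.equivSMul (MulAut.conj g) (Subgroup.zpowers b)).toEquiv, hc]
      have hbK' : Subgroup.zpowers b ≤ K := Subgroup.zpowers_le.2 hbK
      have hsyl : ∀ X : Subgroup G, X ≤ K → Nat.card ↥X = 5 → ∃ P : Sylow 5 ↥K, (P : Subgroup ↥K) = X.subgroupOf K := by
        intro X hX hXc
        refine ⟨Sylow.ofCard (X.subgroupOf K) ?_, rfl⟩
        rw [Nat.card_congr (Subgroup.subgroupOfEquivOfLe hX).toEquiv, hXc, hc60 K hKi,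
          Nat.factorization_def _ Fact.out, show (60 : ℕ) = 5 * 12 from rfl, padicValNat.mul (by norm_num) (by norm_num),
          padicValNat.self (by norm_num), padicValNat.eq_zero_of_not_dvd (by norm_num : ¬ 5 ∣ 12)]
        norm_num
      obtain ⟨P, hP⟩ := hsyl Y hYK hYc
      obtain ⟨P', hP'⟩ := hsyl _ hbK' hc
      obtain ⟨k, hk⟩ := MulAction.exists_smul_eq (↥K) P P'
      refine ⟨k, k.2, Subgroup.eq_of_le_of_card_ge ?_ ?_⟩
      · rintro _ ⟨y, hy, rfl⟩
        have h1 : (MulAut.conj k) ⟨y, hYK hy⟩ ∈ (P' : Subgroup ↥K) := by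
          rw [← hk, Sylow.coe_subgroup_smul]
          exact ⟨⟨y, hYK hy⟩, hP.symm ▸ hy, rfl⟩
        rw [hP'] at h1
        exact h1
      · rw [hc, ← Nat.card_congr (Subgroup.equivSMul (MulAut.conj (k : G)) Y).toEquiv, hYc]
    have h1 : MulAut.conj (h0 * g) • H = K := by
      rw [map_mul, mul_smul, hg]
      exact Subgroup.conj_smul_eq_self_of_mem hh0
    have hinv : MulAut.conj (h0 * g)⁻¹ • K = H := by rw [← h1, map_inv, inv_smul_smul]
    -- the element normalises the subgroup of order five, so it lies in `H`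
    have hnz : h0 * g ∈ H := by
      have hz : MulAut.conj (h0 * g) • Subgroup.zpowers b = Subgroup.zpowers b := by rw [map_mul, mul_smul]; exact hfix
      exact hN _ hz
    rw [Subgroup.conj_smul_eq_self_of_mem hnz] at h1
    exact hHK h1
  refine ⟨?_, H, K, hHi, hKi, hnc, hall⟩
  have horb : ∀ L : Subgroup G, Nonempty (L ≃* alternatingGroup (Fin 5)) →
      Nat.card {X : Subgroup G // ∃ g : G, MulAut.conj g • L = X} = 11 := by
    intro L hL
    have h2 : Nat.card {X : Subgroup G // ∃ g : G, MulAut.conj g • L = X} = (Subgroup.normalizer (L : Set G)).index := by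
      refine (Nat.card_congr (Equiv.ofBijective
        (fun q : G ⧸ Subgroup.normalizer (L : Set G) => (⟨MulAut.conj q.out • L, _, rfl⟩ :
          {X : Subgroup G // ∃ g : G, MulAut.conj g • L = X})) ⟨fun q q' h => ?_, fun X => ?_⟩)).symm
      · have h' : MulAut.conj q.out • L = MulAut.conj q'.out • L := congrArg Subtype.val h
        have : (q.out)⁻¹ * q'.out ∈ Subgroup.normalizer (L : Set G) := by
          rw [Subgroup.mem_normalizer_iff_map_conj_eq]
          show MulAut.conj ((q.out)⁻¹ * q'.out) • L = L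
          rw [map_mul, mul_smul, ← h', map_inv, inv_smul_smul]
        rw [← Quotient.out_eq q, ← Quotient.out_eq q']
        exact QuotientGroup.eq.2 this
      · obtain ⟨g, hg⟩ := X.2
        refine ⟨QuotientGroup.mk g, Subtype.ext ?_⟩
        show MulAut.conj (QuotientGroup.mk g : G ⧸ _).out • L = X.1
        obtain ⟨n, hn⟩ := QuotientGroup.mk_out_eq_mul (Subgroup.normalizer (L : Set G)) g
        rw [hn, map_mul, mul_smul, show MulAut.conj (n : G) • L = L from Subgroup.mem_normalizer_iff_map_conj_eq.1 n.2, hg]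
    rw [h2, hnormal L hL]
    have h3 := L.card_mul_index
    rw [hc60 L hL, hcard] at h3
    omega
  have hiso : ∀ (L : Subgroup G) (g : G), Nonempty (L ≃* alternatingGroup (Fin 5)) →
      Nonempty (↥(MulAut.conj g • L : Subgroup G) ≃* alternatingGroup (Fin 5)) :=
    fun L g ⟨e⟩ => ⟨(Subgroup.equivSMul (MulAut.conj g) L).symm.trans e⟩
  let f : {X : Subgroup G // ∃ g : G, MulAut.conj g • H = X} ⊕ {X : Subgroup G // ∃ g : G, MulAut.conj g • K = X} →
      {L : Subgroup G // Nonempty (L ≃* alternatingGroup (Fin 5))} :=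
    Sum.elim (fun X => ⟨X.1, by obtain ⟨g, hg⟩ := X.2; rw [← hg]; exact hiso H g hHi⟩)
      fun X => ⟨X.1, by obtain ⟨g, hg⟩ := X.2; rw [← hg]; exact hiso K g hKi⟩
  have hf : Function.Bijective f := by
    refine ⟨?_, fun L => ?_⟩
    · rintro (X | X) (Y | Y) h <;> have h' := congrArg Subtype.val h <;> simp only [f, Sum.elim_inl, Sum.elim_inr] at h'
      · exact congrArg Sum.inl (Subtype.ext h')
      · obtain ⟨g, hg⟩ := X.2
        obtain ⟨g', hg'⟩ := Y.2
        exact absurd (by rw [map_mul, mul_smul, hg, h', ← hg', map_inv, inv_smul_smul]) (hnc (g'⁻¹ * g))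
      · obtain ⟨g, hg⟩ := Y.2
        obtain ⟨g', hg'⟩ := X.2
        exact absurd (by rw [map_mul, mul_smul, hg, ← h', ← hg', map_inv, inv_smul_smul]) (hnc (g'⁻¹ * g))
      · exact congrArg Sum.inr (Subtype.ext h')
    · obtain ⟨g, hg | hg⟩ := hall L.1 L.2
      · exact ⟨Sum.inl ⟨L.1, g⁻¹, by rw [← hg, map_inv, inv_smul_smul]⟩, rfl⟩
      · exact ⟨Sum.inr ⟨L.1, g⁻¹, by rw [← hg, map_inv, inv_smul_smul]⟩, rfl⟩
  rw [← Nat.card_eq_of_bijective f hf, Nat.card_sum, horb H hHi, horb K hKi]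

/-! ## The model over `ZMod 11` -/

/-- Entries of a two-by-two matrix. -/
abbrev Q4 : Type := ZMod 11 × ZMod 11 × ZMod 11 × ZMod 11

/-- The product of two matrices given by entries. -/
def m4 (A B : Q4) : Q4 :=
  (A.1 * B.1 + A.2.1 * B.2.2.1, A.1 * B.2.1 + A.2.1 * B.2.2.2,
    A.2.2.1 * B.1 + A.2.2.2 * B.2.2.1, A.2.2.1 * B.2.1 + A.2.2.2 * B.2.2.2)

/-- Equality up to sign. -/
def pm (A B : Q4) : Prop := A = B ∨ A = -B

instance (A B : Q4) : Decidable (pm A B) := inferInstanceAs (Decidable (_ ∨ _))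

/-- The powers of the diagonal element. -/
def bk (k : Fin 5) : Q4 := (3 ^ (k : ℕ), 0, 0, 4 ^ (k : ℕ))

/-- An antidiagonal word. -/
def w4 : Q4 := (0, 1, 10, 0)

def one4 : Q4 := (1, 0, 0, 1)

set_option maxRecDepth 100000 in
theorem classify : ∀ x y z w : ZMod 11, x * w - y * z = 1 → ¬ pm (x, y, z, w) one4 →
    pm (m4 (m4 (x, y, z, w) (x, y, z, w)) (x, y, z, w)) one4 →
    pm (m4 (m4 (x, y, z, w) (bk 1)) (m4 (x, y, z, w) (bk 1))) one4 →
    ∃ k : Fin 5, pm (m4 (x, y, z, w) (bk k)) (m4 (bk k) (4, 1, 9, 8)) ∨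
      pm (m4 (x, y, z, w) (bk k)) (m4 (bk k) (4, 2, 10, 8)) := by decide +kernel

set_option maxRecDepth 100000 in
theorem normalizes : ∀ x y z w : ZMod 11, x * w - y * z = 1 →
    (∃ k : Fin 5, pm (m4 (x, y, z, w) (bk 1)) (m4 (bk k) (x, y, z, w))) →
    ∃ k : Fin 5, pm (x, y, z, w) (bk k) ∨ pm (x, y, z, w) (m4 w4 (bk k)) := by decide +kernel

theorem facts : pm (m4 (m4 (4, 1, 9, 8) (4, 1, 9, 8)) (4, 1, 9, 8)) one4 ∧
    pm (m4 (m4 (4, 2, 10, 8) (4, 2, 10, 8)) (4, 2, 10, 8)) one4 ∧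
    pm (m4 (m4 (4, 1, 9, 8) (bk 1)) (m4 (4, 1, 9, 8) (bk 1))) one4 ∧
    pm (m4 (m4 (4, 2, 10, 8) (bk 1)) (m4 (4, 2, 10, 8) (bk 1))) one4 ∧
    ¬ pm (4, 1, 9, 8) one4 ∧ ¬ pm (4, 2, 10, 8) one4 ∧ ¬ pm (bk 1) one4 ∧
    (∀ k : Fin 5, m4 (bk k) (bk 1) = bk (k + 1) ∨ k = 4) ∧ pm (m4 (bk 4) (bk 1)) one4 ∧
    (∀ k : Fin 5, ¬ pm (m4 (bk k) (4, 1, 9, 8)) (m4 (4, 2, 10, 8) (bk k)) ∧
      (k ≠ 0 → ¬ pm (m4 (bk k) (4, 1, 9, 8)) (m4 (4, 1, 9, 8) (bk k)))) ∧
    pm (m4 (m4 (m4 (m4 (m4 (m4 (m4 (m4 (4, 1, 9, 8) (bk 1)) (bk 1)) (4, 1, 9, 8)) (4, 1, 9, 8)) (bk 1)) (bk 1))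
      (4, 1, 9, 8)) (4, 1, 9, 8)) w4 := by decide +kernel

abbrev SL11 : Type := Matrix.SpecialLinearGroup (Fin 2) (ZMod 11)

abbrev PSL11 : Type := Matrix.ProjectiveSpecialLinearGroup (Fin 2) (ZMod 11)

/-- The entries. -/
def ent (A : SL11) : Q4 := (A.1 0 0, A.1 0 1, A.1 1 0, A.1 1 1)

theorem ent_mul (A B : SL11) : ent (A * B) = m4 (ent A) (ent B) := by
  simp [ent, m4, Matrix.mul_apply, Fin.sum_univ_two]

theorem ent_det (A : SL11) : (ent A).1 * (ent A).2.2.2 - (ent A).2.1 * (ent A).2.2.1 = 1 := by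
  have h := A.2
  rw [Matrix.det_fin_two] at h
  exact h

theorem proj_eq {A B : SL11} : (QuotientGroup.mk A : PSL11) = QuotientGroup.mk B ↔ pm (ent A) (ent B) := by
  haveI : Fact (Nat.Prime 11) := ⟨by norm_num⟩
  rw [QuotientGroup.eq, Matrix.SpecialLinearGroup.mem_center_iff]
  constructor
  · rintro ⟨c, hc, he⟩
    have hc' : c = 1 ∨ c = -1 := by simpa [sq_eq_one_iff] using hc
    have hB : B.1 = c • A.1 := by
      have h1 : (A * (A⁻¹ * B)).1 = A.1 * (A⁻¹ * B).1 := Matrix.SpecialLinearGroup.coe_mul _ _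
      rw [mul_inv_cancel_left, ← he] at h1
      rw [h1, Matrix.scalar_apply, ← Matrix.smul_eq_mul_diagonal]
    rcases hc' with rfl | rfl
    · exact Or.inl (by simp [ent, hB])
    · exact Or.inr (by simp [ent, hB, Prod.ext_iff])
  · intro h
    obtain ⟨c, hc, hB⟩ : ∃ c : ZMod 11, c ^ 2 = 1 ∧ B.1 = c • A.1 := by
      rcases h with h | h
      · refine ⟨1, one_pow 2, ?_⟩
        simp [ent, Prod.ext_iff] at h
        ext i j
        fin_cases i <;> fin_cases j <;> simp [h]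
      · refine ⟨-1, by ring, ?_⟩
        simp [ent, Prod.ext_iff] at h
        ext i j
        fin_cases i <;> fin_cases j <;> simp [h]
    refine ⟨c, by simpa using hc, ?_⟩
    rw [Matrix.SpecialLinearGroup.coe_mul, hB, Matrix.mul_smul, ← Matrix.SpecialLinearGroup.coe_mul, inv_mul_cancel,
      Matrix.scalar_apply, Matrix.SpecialLinearGroup.coe_one, Matrix.smul_one_eq_diagonal]

/-- The element of order five. -/
def bM : SL11 := ⟨!![3, 0; 0, 4], by decide +kernel⟩
def aM : SL11 := ⟨!![4, 1; 9, 8], by decide +kernel⟩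
def cM : SL11 := ⟨!![4, 2; 10, 8], by decide +kernel⟩

theorem ent_aM : ent aM = (4, 1, 9, 8) := by simp [ent, aM]
theorem ent_cM : ent cM = (4, 2, 10, 8) := by simp [ent, cM]

theorem ent_bM_pow (k : Fin 5) : ent (bM ^ (k : ℕ)) = bk k := by
  have key : ∀ j : ℕ, (h : j < 5) → ent (bM ^ j) = bk ⟨j, h⟩ := by
    intro j
    induction j with
    | zero => intro h; simp [ent, bk]
    | succ j ih =>
      intro h
      rw [pow_succ, ent_mul, ih (by omega)]
      rcases facts.2.2.2.2.2.2.2.1 ⟨j, by omega⟩ with e | e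
      · rw [show ent bM = bk 1 by simp [ent, bM, bk], e]
        congr 1
        apply Fin.ext
        rw [Fin.val_add]
        simp
        omega
      · exact absurd (congrArg Fin.val e) (by show j ≠ 4; omega)
  exact key k k.2

theorem ent_bM : ent bM = bk 1 := by simp [ent, bM, bk]

theorem model {H : Type*} [Group H] [Finite H] [IsSimpleGroup H] (hcard : Nat.card H = 660) (e : PSL11 ≃* H) :
    Nat.card {L : Subgroup H // Nonempty (L ≃* alternatingGroup (Fin 5))} = 22 ∧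
      ∃ K M : Subgroup H, Nonempty (K ≃* alternatingGroup (Fin 5)) ∧ Nonempty (M ≃* alternatingGroup (Fin 5)) ∧
        (∀ g : H, MulAut.conj g • K ≠ M) ∧
        ∀ L : Subgroup H, Nonempty (L ≃* alternatingGroup (Fin 5)) →
          ∃ g : H, MulAut.conj g • L = K ∨ MulAut.conj g • L = M := by
  obtain ⟨fa, fc, fab, fcb, fa1, fc1, fb1, -, fb5, ften, fw⟩ := facts
  let π : SL11 →* H := e.toMonoidHom.comp (QuotientGroup.mk' (Subgroup.center SL11))
  have hπ : ∀ {A B : SL11}, π A = π B ↔ pm (ent A) (ent B) := fun {A B} => by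
    rw [← proj_eq]; exact e.injective.eq_iff
  have hone : ent 1 = one4 := by simp [ent, one4]
  have hπ1 : ∀ {A : SL11}, π A = 1 ↔ pm (ent A) one4 := fun {A} => by rw [← map_one π, hπ, hone]
  have hb5 : π bM ^ 5 = 1 := by
    rw [← map_pow, hπ1, show (5 : ℕ) = (4 : Fin 5).val + 1 from rfl, pow_succ, ent_mul, ent_bM_pow, ent_bM]
    exact fb5
  have hsurj : Function.Surjective π := e.surjective.comp (QuotientGroup.mk'_surjective _)
  have hcanc : ∀ (A C : SL11) (k : Fin 5), pm (m4 (ent A) (bk k)) (m4 (bk k) (ent C)) →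
      π A = π bM ^ (k : ℕ) * π C * (π bM ^ (k : ℕ))⁻¹ := fun A C k h => by
    rw [eq_mul_inv_iff_mul_eq, ← map_pow, ← map_mul, ← map_mul, hπ, ent_mul, ent_mul, ent_bM_pow]
    exact h
  refine twenty_two hcard (π aM) (π cM) (π bM) hb5 (fun h => fb1 ?_) ⟨?_, ?_⟩ ⟨?_, ?_⟩ (fun h => fa1 ?_) (fun h => fc1 ?_)
    (fun k => ⟨fun h => (ften k).1 ?_, fun hk h => (ften k).2 hk ?_⟩) (fun g hg => ?_) (fun a ha ha3 ha2 => ?_)
  · rw [← ent_bM, ← hπ1]; exact h
  · rw [← map_pow, hπ1, pow_succ, sq, ent_mul, ent_mul, ent_aM]; exact fa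
  · rw [← map_mul, ← map_pow, hπ1, sq, ent_mul, ent_mul, ent_aM, ent_bM]; exact fab
  · rw [← map_pow, hπ1, pow_succ, sq, ent_mul, ent_mul, ent_cM]; exact fc
  · rw [← map_mul, ← map_pow, hπ1, sq, ent_mul, ent_mul, ent_cM, ent_bM]; exact fcb
  · rw [← ent_aM, ← hπ1]; exact h
  · rw [← ent_cM, ← hπ1]; exact h
  · rw [mul_inv_eq_iff_eq_mul, ← map_pow, ← map_mul, ← map_mul, hπ, ent_mul, ent_mul, ent_bM_pow, ent_aM, ent_cM] at h
    exact h
  · rw [mul_inv_eq_iff_eq_mul, ← map_pow, ← map_mul, ← map_mul, hπ, ent_mul, ent_mul, ent_bM_pow, ent_aM] at h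
    exact h
  · obtain ⟨A, rfl⟩ := hsurj g
    have h1 : π A * π bM * (π A)⁻¹ ∈ Subgroup.zpowers (π bM) :=
      hg ▸ Subgroup.smul_mem_pointwise_smul (π bM) (MulAut.conj (π A)) _ (Subgroup.mem_zpowers _)
    have hbne : π bM ≠ 1 := fun h => fb1 (by rw [← ent_bM, ← hπ1]; exact h)
    have hord : orderOf (π bM) = 5 := haveI : Fact (Nat.Prime 5) := ⟨by norm_num⟩; orderOf_eq_prime hb5 hbne
    classical
    rw [mem_zpowers_iff_mem_range_orderOf, Finset.mem_image] at h1
    obtain ⟨i, hi, hi'⟩ := h1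
    rw [Finset.mem_range, hord] at hi
    have h2 : π (bM ^ ((⟨i, hi⟩ : Fin 5) : ℕ) * A) = π (A * bM) := by
      rw [map_mul, map_mul, map_pow]
      show π bM ^ i * π A = π A * π bM
      rw [hi', inv_mul_cancel_right]
    rw [hπ, ent_mul, ent_mul, ent_bM_pow, ent_bM] at h2
    have h3 : pm (m4 (ent A) (bk 1)) (m4 (bk ⟨i, hi⟩) (ent A)) := by
      rcases h2 with h | h
      · exact Or.inl h.symm
      · exact Or.inr (by rw [h, neg_neg])
    obtain ⟨k, hk⟩ := normalizes _ _ _ _ (ent_det A) ⟨_, h3⟩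
    have hb : π bM ∈ Subgroup.closure ({π aM, π bM} : Set H) := Subgroup.subset_closure (Or.inr rfl)
    have haa : π aM ∈ Subgroup.closure ({π aM, π bM} : Set H) := Subgroup.subset_closure (Or.inl rfl)
    rcases hk with hk | hk
    · rw [show π A = π (bM ^ (k : ℕ)) from hπ.2 (by rw [ent_bM_pow]; exact hk), map_pow]
      exact pow_mem hb _
    · set wM : SL11 := aM * bM * bM * aM * aM * bM * bM * aM * aM with hwM
      have hwin : π wM ∈ Subgroup.closure ({π aM, π bM} : Set H) := by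
        rw [hwM]; simp only [map_mul]
        exact mul_mem (mul_mem (mul_mem (mul_mem (mul_mem (mul_mem (mul_mem (mul_mem haa hb) hb) haa) haa) hb) hb) haa) haa
      have hwe : pm (ent wM) w4 := by rw [hwM]; simp only [ent_mul, ent_aM, ent_bM]; exact fw
      have hflip : ∀ P R S : Q4, pm P R → m4 P S = m4 R S ∨ m4 P S = -m4 R S := by
        rintro P R S (rfl | rfl)
        · exact Or.inl rfl
        · refine Or.inr ?_
          simp only [m4, Prod.neg_mk, Prod.fst_neg, Prod.snd_neg, neg_mul, neg_add]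
      have h4 : pm (ent A) (ent (wM * bM ^ (k : ℕ))) := by
        rw [ent_mul, ent_bM_pow]
        rcases hflip _ _ (bk k) hwe with e | e <;> rcases hk with h | h
        · exact Or.inl (h.trans e.symm)
        · exact Or.inr (h.trans (by rw [e]))
        · exact Or.inr (h.trans (by rw [e, neg_neg]))
        · exact Or.inl (h.trans e.symm)
      rw [hπ.2 h4, map_mul, map_pow]
      exact mul_mem hwin (pow_mem hb _)
  · obtain ⟨A, rfl⟩ := hsurj a
    rw [Ne, hπ1] at ha
    rw [← map_pow, hπ1, pow_succ, sq, ent_mul, ent_mul] at ha3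
    rw [← map_mul, ← map_pow, hπ1, sq, ent_mul, ent_mul, ent_bM] at ha2
    obtain ⟨k, hk | hk⟩ := classify _ _ _ _ (ent_det A) ha ha3 ha2
    · exact ⟨k, Or.inl (hcanc A aM k (by rw [ent_aM]; exact hk))⟩
    · exact ⟨k, Or.inr (hcanc A cM k (by rw [ent_cM]; exact hk))⟩
/-- Let F be a field with 11 elements. PSL_2(F) has exactly 22 subgroups isomorphic to the alternating group A_5, and they form two conjugacy classes: there are two such subgroups that are not conjugate, and every such subgroup is conjugate to one of these two. -/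
theorem result {F : Type*} [Field F] [Fintype F] (hF : Fintype.card F = 11) : Nat.card {H : Subgroup (Matrix.ProjectiveSpecialLinearGroup (Fin 2) F) // Nonempty (H ≃* alternatingGroup (Fin 5))} = 22 ∧ ∃ H K : Subgroup (Matrix.ProjectiveSpecialLinearGroup (Fin 2) F), Nonempty (H ≃* alternatingGroup (Fin 5)) ∧ Nonempty (K ≃* alternatingGroup (Fin 5)) ∧ (∀ g : Matrix.ProjectiveSpecialLinearGroup (Fin 2) F, MulAut.conj g • H ≠ K) ∧ ∀ L : Subgroup (Matrix.ProjectiveSpecialLinearGroup (Fin 2) F), Nonempty (L ≃* alternatingGroup (Fin 5)) → ∃ g : Matrix.ProjectiveSpecialLinearGroup (Fin 2) F, MulAut.conj g • L = H ∨ MulAut.conj g • L = K := by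
  classical
  haveI : Fact (Nat.Prime 11) := ⟨by norm_num⟩
  let φ : ZMod 11 ≃+* F := ZMod.ringEquivOfPrime F (by norm_num) hF
  let f : Matrix.SpecialLinearGroup (Fin 2) (ZMod 11) ≃* Matrix.SpecialLinearGroup (Fin 2) F :=
    MulEquiv.ofBijective (Matrix.SpecialLinearGroup.map φ.toRingHom) ⟨fun A B h => Subtype.ext (Matrix.ext fun i j =>
      φ.injective (congrFun (congrFun (congrArg Subtype.val h) i) j)),
      fun B => ⟨Matrix.SpecialLinearGroup.map φ.symm.toRingHom B, Subtype.ext (Matrix.ext fun i j => φ.apply_symm_apply _)⟩⟩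
  let e : Matrix.ProjectiveSpecialLinearGroup (Fin 2) (ZMod 11) ≃* Matrix.ProjectiveSpecialLinearGroup (Fin 2) F :=
    QuotientGroup.congr _ _ f (by
      ext x
      simp only [Subgroup.mem_map, MulEquiv.coe_toMonoidHom, Subgroup.mem_center_iff]
      constructor
      · rintro ⟨y, hy, rfl⟩ g
        obtain ⟨g', rfl⟩ := f.surjective g
        exact (map_mul f g' y).symm.trans ((congrArg f (hy g')).trans (map_mul f y g'))
      · intro hx
        refine ⟨f.symm x, fun g => f.injective ?_, f.apply_symm_apply x⟩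
        rw [map_mul, map_mul, f.apply_symm_apply]
        exact hx _)
  haveI : IsSimpleGroup (Matrix.ProjectiveSpecialLinearGroup (Fin 2) F) :=
    Cfsg.Lib.Linear.PSL_simple 2 le_rfl fun _ => by rw [Nat.card_eq_fintype_card, hF]; norm_num
  have hcard : Nat.card (Matrix.ProjectiveSpecialLinearGroup (Fin 2) F) = 660 := by
    have h := Cfsg.Lib.Linear.Two.card_PSL_two (F := F)
    rw [hF, Nat.gcd_eq_left (by norm_num : 2 ∣ 11 - 1)] at h
    have h' := h.trans (show (11 : ℕ) * (11 ^ 2 - 1) = 1320 by norm_num)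
    omega
  exact model hcard e
end Cfsg.Agent.S2543
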