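import Cfsg.Statements.S2544
import Cfsg.Agent.Lib.Linear.Unipotent.Steinberg

set_option autoImplicit false
open Cfsg

namespace Cfsg.Agent.S2544

/-- Let F be a finite field of characteristic p and consider the projective special linear group PSL_n(F) with n ≥ 2. This group has an irreducible complex character χ whose degree equals the order of a Sylow p-subgroup (namely q^(n(n−1)/2) when #F = q) and whose restriction to any Sylow p-subgroup P is the regular character of P: χ vanishes on the non-identity elements of P. (This is the Steinberg character.) -/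
theorem result {F : Type*} [Field F] [Fintype F] (p : ℕ) [Fact p.Prime] [CharP F p] (n : ℕ) (hn : 2 ≤ n) : ∃ χ : Matrix.ProjectiveSpecialLinearGroup (Fin n) F → ℂ, Cfsg.IsIrrCharacter (Matrix.ProjectiveSpecialLinearGroup (Fin n) F) χ ∧ ∀ P : Sylow p (Matrix.ProjectiveSpecialLinearGroup (Fin n) F), χ 1 = Nat.card P ∧ ∀ x : Matrix.ProjectiveSpecialLinearGroup (Fin n) F, x ∈ P → x ≠ 1 → χ x = 0 := by
  classical
  obtain ⟨χ, hχ, hdeg⟩ := Cfsg.Lib.Linear.Unipotent.exists_steinberg_PSL (F := F) p (n := n) (by omega)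
  refine ⟨χ, hχ, fun P => ⟨?_, fun x hx hx1 => ?_⟩⟩
  · rw [hdeg, P.card_eq_multiplicity]
  · refine Cfsg.Lib.Linear.Unipotent.vanish_of_full_degree p hχ hdeg ?_
    obtain ⟨k, hk⟩ := IsPGroup.iff_orderOf.1 P.isPGroup' ⟨x, hx⟩
    rw [Subgroup.orderOf_mk] at hk
    rw [hk]
    refine dvd_pow_self p fun h => hx1 ?_
    rw [h, pow_zero, orderOf_eq_one_iff] at hk
    exact hk

end Cfsg.Agent.S2544
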