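import Cfsg.Statements.S2546
import Cfsg.Agent.Lib.Linear.Steinberg.Herm

set_option autoImplicit false
open Cfsg

namespace Cfsg.Agent.S2546

/-- Let F be a finite field of characteristic p and consider the projective special unitary group PSU_n(q), n ≥ 2, realised over the field F with q² elements. This group has an irreducible complex character χ whose degree equals the order of a Sylow p-subgroup (namely q^(n(n−1)/2)) and whose restriction to any Sylow p-subgroup P is the regular character of P: χ vanishes on the non-identity elements of P. (This is the Steinberg character.) -/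
theorem result {F : Type*} [Field F] [Fintype F] (p : ℕ) [Fact p.Prime] [CharP F p] (n q : ℕ) (hn : 2 ≤ n) (hF : Fintype.card F = q ^ 2) : ∃ χ : Cfsg.PSU n F q → ℂ, Cfsg.IsIrrCharacter (Cfsg.PSU n F q) χ ∧ ∀ P : Sylow p (Cfsg.PSU n F q), χ 1 = Nat.card P ∧ ∀ x : Cfsg.PSU n F q, x ∈ P → x ≠ 1 → χ x = 0 := by
  classical
  have hμ : (-1 : F) ^ q = -1 := Cfsg.Lib.Linear.Steinberg.neg_one_pow_q hF
  have hc := Cfsg.Lib.Linear.Herm.card_norm_eq hF (neg_ne_zero.2 one_ne_zero) hμ
  have hq := Cfsg.Lib.Linear.Herm.two_le_q hF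
  rw [Nat.card_eq_fintype_card] at hc
  obtain ⟨⟨a, ha⟩, ⟨b, hb⟩, hab⟩ := Fintype.one_lt_card_iff.1 (show 1 < Fintype.card {x : F // x ^ (q + 1) = -1} by omega)
  exact (Cfsg.Lib.Linear.Steinberg.herm_good hF p hn ha hb fun e => hab (Subtype.ext e)).exists_steinberg

end Cfsg.Agent.S2546
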