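import Cfsg.Statements.S2548
import Cfsg.Agent.Lib.Linear.Steinberg.Plus
import Cfsg.Agent.Lib.Linear.Steinberg.PlusFour
import Cfsg.Agent.Lib.Linear.OrthForms

set_option autoImplicit false
open Cfsg

namespace Cfsg.Agent.S2548

open scoped Matrix

/-- The plus-type group over a field with two elements is the one over `ZMod 2`. -/
theorem pomega_congr {F : Type*} [Field F] [Fintype F] (hF : Fintype.card F = 2) :
    Nonempty (Cfsg.POmega F (Cfsg.quadFormPlus 2 F) ≃*
      Cfsg.POmega (ZMod 2) (Cfsg.quadFormPlus 2 (ZMod 2))) := by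
  let i : ZMod 2 ≃+* F := ZMod.ringEquivOfPrime F Nat.prime_two hF
  let μ : GL (Fin 2 ⊕ Fin 2) (ZMod 2) ≃* GL (Fin 2 ⊕ Fin 2) F := Units.mapEquiv i.mapMatrix.toMulEquiv
  have hμ : ∀ (g : GL (Fin 2 ⊕ Fin 2) (ZMod 2)) (v : Fin 2 ⊕ Fin 2 → ZMod 2),
      (μ g).val *ᵥ (i ∘ v) = i ∘ (g.val *ᵥ v) := fun g v => funext fun k =>
    ((i : ZMod 2 →+* F).map_mulVec g.val v k).symm
  have hq : ∀ v : Fin 2 ⊕ Fin 2 → ZMod 2,
      Cfsg.quadFormPlus 2 F (i ∘ v) = i (Cfsg.quadFormPlus 2 (ZMod 2) v) := fun v => by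
    simp [Cfsg.quadFormPlus]
  have hmap : (Cfsg.isometryGroup (ZMod 2) (Cfsg.quadFormPlus 2 (ZMod 2))).map μ.toMonoidHom =
      Cfsg.isometryGroup F (Cfsg.quadFormPlus 2 F) := by
    refine le_antisymm ?_ fun g hg => ⟨μ.symm g, fun u _ => ?_, μ.apply_symm_apply g⟩
    · rintro _ ⟨g, hg, rfl⟩ u _
      obtain ⟨v, rfl⟩ : ∃ v, u = i ∘ v := ⟨i.symm ∘ u, funext fun k => (i.apply_symm_apply _).symm⟩
      show Cfsg.quadFormPlus 2 F ((μ g).val *ᵥ (i ∘ v)) = Cfsg.quadFormPlus 2 F (i ∘ v)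
      rw [hμ, hq, hq]
      exact congrArg i (hg v v)
    · show Cfsg.quadFormPlus 2 (ZMod 2) ((μ.symm g).val *ᵥ u) = Cfsg.quadFormPlus 2 (ZMod 2) u
      apply i.injective
      rw [← hq, ← hq, ← hμ, μ.apply_symm_apply]
      exact hg (i ∘ u) (i ∘ u)
  let e : ↥(Cfsg.isometryGroup (ZMod 2) (Cfsg.quadFormPlus 2 (ZMod 2))) ≃*
      ↥(Cfsg.isometryGroup F (Cfsg.quadFormPlus 2 F)) :=
    (μ.subgroupMap _).trans (MulEquiv.subgroupCongr hmap)
  have hc : (commutator ↥(Cfsg.isometryGroup (ZMod 2) (Cfsg.quadFormPlus 2 (ZMod 2)))).map e.toMonoidHom =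
      commutator ↥(Cfsg.isometryGroup F (Cfsg.quadFormPlus 2 F)) := by
    rw [_root_.commutator_def, _root_.commutator_def, Subgroup.map_commutator,
      Subgroup.map_top_of_surjective _ e.surjective]
  let e' : ↥(Cfsg.Omega (ZMod 2) (Cfsg.quadFormPlus 2 (ZMod 2))) ≃* ↥(Cfsg.Omega F (Cfsg.quadFormPlus 2 F)) :=
    (e.subgroupMap _).trans (MulEquiv.subgroupCongr hc)
  refine ⟨(QuotientGroup.congr _ _ e' ?_).symm⟩
  apply le_antisymm
  · rintro _ ⟨z, hz, rfl⟩
    exact Subgroup.mem_center_iff.2 fun y => by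
      obtain ⟨x, rfl⟩ := e'.surjective y
      show e' x * e' z = e' z * e' x
      rw [← map_mul, ← map_mul, Subgroup.mem_center_iff.1 hz x]
  · intro y hy
    obtain ⟨x, rfl⟩ := e'.surjective y
    exact ⟨x, Subgroup.mem_center_iff.2 fun w => e'.injective (by
      rw [map_mul, map_mul, Subgroup.mem_center_iff.1 hy]), rfl⟩

/-- Let F be a finite field of characteristic p and consider the group PΩ⁺_{2m}(F) of the hyperbolic quadratic form Σ x_i y_i with m ≥ 1, where Ω denotes the commutator subgroup of the full isometry group. This group has an irreducible complex character χ whose degree equals the order of a Sylow p-subgroup (equal to q^(m(m−1)) when #F = q, except in the degenerate case m = 2, q = 2, where this commutator subgroup has order 18 and its Sylow 2-subgroups have order 2) and whose restriction to any Sylow p-subgroup P is the regular character of P: χ vanishes on the non-identity elements of P. (This is the Steinberg character.)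 -/
theorem result {F : Type*} [Field F] [Fintype F] (p : ℕ) [Fact p.Prime] [CharP F p] (m : ℕ) (hm : 1 ≤ m) : ∃ χ : Cfsg.POmega F (Cfsg.quadFormPlus m F) → ℂ, Cfsg.IsIrrCharacter (Cfsg.POmega F (Cfsg.quadFormPlus m F)) χ ∧ ∀ P : Sylow p (Cfsg.POmega F (Cfsg.quadFormPlus m F)), χ 1 = Nat.card P ∧ ∀ x : Cfsg.POmega F (Cfsg.quadFormPlus m F), x ∈ P → x ≠ 1 → χ x = 0 := by
  by_cases h : Fintype.card F ≠ 2 ∨ m ≠ 2
  · obtain ⟨B, C⟩ := Cfsg.Lib.Linear.Orth.exists_space_plus (F := F) m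
    exact (Cfsg.Lib.Linear.Steinberg.plus_good C p hm h).exists_steinberg
  · push Not at h
    obtain ⟨hF, rfl⟩ := h
    have hp : p = 2 := by
      obtain ⟨k, hp', hk⟩ := FiniteField.card F p
      rw [hF] at hk
      exact (Nat.prime_dvd_prime_iff_eq hp' Nat.prime_two).1 (hk ▸ dvd_pow_self p k.pos.ne')
    subst hp
    obtain ⟨e⟩ := pomega_congr hF
    obtain ⟨χ, hχ, hdeg⟩ := Cfsg.Lib.Linear.Steinberg.PlusFour.exists_char
    have hψ := hχ.comp_surjective e.toMonoidHom e.surjective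
    have hdeg' : χ (e.toMonoidHom 1) =
        ((2 ^ (Nat.card (Cfsg.POmega F (Cfsg.quadFormPlus 2 F))).factorization 2 : ℕ) : ℂ) := by
      rw [map_one, hdeg, Nat.card_congr e.toEquiv]
    refine ⟨_, hψ, fun P => ⟨hdeg'.trans (by rw [P.card_eq_multiplicity]), fun x hx hx1 => ?_⟩⟩
    refine Cfsg.Lib.Linear.Unipotent.vanish_of_full_degree 2 hψ hdeg' ?_
    obtain ⟨k, hk⟩ := IsPGroup.iff_orderOf.1 P.isPGroup' ⟨x, hx⟩
    rw [Subgroup.orderOf_mk] at hk
    rw [hk]
    refine dvd_pow_self 2 fun h => hx1 ?_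
    rw [h, pow_zero, orderOf_eq_one_iff] at hk
    exact hk

end Cfsg.Agent.S2548
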