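import Cfsg.Statements.S2549
import Cfsg.Agent.Lib.Linear.Steinberg.OrthInst
import Cfsg.Agent.Lib.Linear.OrthForms
import Cfsg.Agent.S0300

set_option autoImplicit false
open Cfsg

namespace Cfsg.Agent.S2549

open Cfsg.Lib.Linear.Unipotent in
/-- Full-degree irreducible characters pass along isomorphisms. -/
theorem transfer {G H : Type*} [Group G] [Group H] [Finite G] [Finite H] (p : ℕ) [Fact p.Prime]
    (e : G ≃* H) {χ : H → ℂ} (hχ : Cfsg.IsIrrCharacter H χ)
    (hdeg : χ 1 = ((p ^ (Nat.card H).factorization p : ℕ) : ℂ)) :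
    ∃ ψ : G → ℂ, Cfsg.IsIrrCharacter G ψ ∧ ∀ P : Sylow p G, ψ 1 = Nat.card P ∧ ∀ x : G, x ∈ P → x ≠ 1 → ψ x = 0 := by
  have hψ := hχ.comp_surjective e.toMonoidHom e.surjective
  have hdeg' : (fun g => χ (e.toMonoidHom g)) 1 = ((p ^ (Nat.card G).factorization p : ℕ) : ℂ) := by
    show χ (e.toMonoidHom 1) = _
    rw [map_one, hdeg, Nat.card_congr e.toEquiv]
  refine ⟨_, hψ, fun P => ⟨hdeg'.trans (by rw [P.card_eq_multiplicity]), fun x hx hx1 => ?_⟩⟩
  refine vanish_of_full_degree p hψ hdeg' ?_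
  obtain ⟨k, hk⟩ := IsPGroup.iff_orderOf.1 P.isPGroup' ⟨x, hx⟩
  rw [Subgroup.orderOf_mk] at hk
  rw [hk]
  refine dvd_pow_self p fun h => hx1 ?_
  rw [h, pow_zero, orderOf_eq_one_iff] at hk
  exact hk

/-- Let F be a finite field of characteristic p and consider the group PΩ⁻_{2m+2}(F) of the quadratic form Σ_{i<m} x_i y_i + (z₁² + a z₁ z₂ + b z₂²) with anisotropic binary part, m ≥ 0. This group has an irreducible complex character χ whose degree equals the order of a Sylow p-subgroup (namely q^(m(m+1)) when #F = q) and whose restriction to any Sylow p-subgroup P is the regular character of P: χ vanishes on the non-identity elements of P. (This is the Steinberg character.) -/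
theorem result {F : Type*} [Field F] [Fintype F] (p : ℕ) [Fact p.Prime] [CharP F p] (m : ℕ) (a b : F) (hab : ∀ z₁ z₂ : F, z₁ ^ 2 + a * z₁ * z₂ + b * z₂ ^ 2 = 0 → z₁ = 0 ∧ z₂ = 0) : ∃ χ : Cfsg.POmega F (Cfsg.quadFormMinus m F a b) → ℂ, Cfsg.IsIrrCharacter (Cfsg.POmega F (Cfsg.quadFormMinus m F a b)) χ ∧ ∀ P : Sylow p (Cfsg.POmega F (Cfsg.quadFormMinus m F a b)), χ 1 = Nat.card P ∧ ∀ x : Cfsg.POmega F (Cfsg.quadFormMinus m F a b), x ∈ P → x ≠ 1 → χ x = 0 := by
  by_cases h : Fintype.card F ≠ 2 ∨ m ≠ 1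
  · obtain ⟨B, C⟩ := Cfsg.Lib.Linear.Orth.exists_space_minus m a b hab
    exact (Cfsg.Lib.Linear.Steinberg.minus_good p h C hab).exists_steinberg
  · push Not at h
    obtain ⟨hF, rfl⟩ := h
    haveI : Fact (Nat.Prime 2) := ⟨Nat.prime_two⟩
    have hp : p = 2 := by
      obtain ⟨k, hp', hk⟩ := FiniteField.card F p
      rw [hF] at hk
      exact (Nat.prime_dvd_prime_iff_eq hp' Nat.prime_two).1 (hk ▸ dvd_pow_self p k.pos.ne')
    subst hp
    letI : Fintype (GaloisField 2 2) := Fintype.ofFinite _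
    have hK : Fintype.card (GaloisField 2 2) = 2 ^ 2 := by
      rw [← Nat.card_eq_fintype_card, GaloisField.card 2 2 two_ne_zero]
    obtain ⟨e⟩ := Cfsg.Agent.S0300.result (F := F) (K := GaloisField 2 2) hF hK a b hab
    obtain ⟨χ, hχ, hdeg⟩ := Cfsg.Lib.Linear.Unipotent.exists_steinberg_PSL (F := GaloisField 2 2) 2 (n := 2) (by omega)
    exact transfer 2 e hχ hdeg

end Cfsg.Agent.S2549
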