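import Cfsg.Statements.S2550
import Cfsg.Agent.S0243
import Cfsg.Agent.S0256
import Mathlib.LinearAlgebra.Determinant
import Mathlib.FieldTheory.Finite.Basic

set_option autoImplicit false
open Cfsg

namespace Cfsg.Agent.S2550

open Matrix

variable {K : Type*} [Field K] [Fintype K]

/-- In `SL₃(4)` an element commuting with an involution whose cube is scalar is scalar. -/
theorem scalar_of_commute (hK : Fintype.card K = 4) (u y : Matrix (Fin 3) (Fin 3) K)
    (hu1 : u ≠ 1) (hu2 : u * u = 1) (hdet : y.det = 1) (hyu : y * u = u * y) (c : K)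
    (hy3 : y * y * y = c • 1) : ∃ a : K, y = a • 1 := by
  classical
  have h2 : (2 : K) = 0 := by
    have h := FiniteField.cast_card_eq_zero K
    rw [hK] at h
    exact mul_self_eq_zero.1 (by linear_combination h)
  set N := u - 1 with hN
  have hNN : N * N = 0 := by
    rw [hN, mul_sub, sub_mul, hu2, mul_one, one_mul,
      show (1 - u) - (u - 1) = (2 : K) • (1 - u) by rw [two_smul]; abel, h2, zero_smul]
  set L := Matrix.toLin' N
  set f := Matrix.toLin' y
  have hLL : ∀ w, L (L w) = 0 := fun w => by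
    rw [← LinearMap.comp_apply, ← Matrix.toLin'_mul, hNN, map_zero, LinearMap.zero_apply]
  have hfL : ∀ w, f (L w) = L (f w) := fun w => by
    rw [← LinearMap.comp_apply, ← Matrix.toLin'_mul, ← LinearMap.comp_apply, ← Matrix.toLin'_mul,
      hN, mul_sub, sub_mul, hyu, mul_one, one_mul]
  obtain ⟨w, hw⟩ : ∃ w, L w ≠ 0 := by
    by_contra h
    push Not at h
    exact hu1 (sub_eq_zero.1 ((map_eq_zero_iff _ Matrix.toLin'.injective).1 (LinearMap.ext h)))
  set v := L w with hv
  have hsum := LinearMap.finrank_range_add_finrank_ker L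
  rw [Module.finrank_pi, Fintype.card_fin] at hsum
  have hle : LinearMap.range L ≤ LinearMap.ker L := by
    rintro _ ⟨x, rfl⟩; exact hLL x
  have hle' := Submodule.finrank_mono hle
  obtain ⟨k, hk, hkv⟩ : ∃ k ∈ LinearMap.ker L, k ∉ (K ∙ v) := by
    refine Set.not_subset.1 fun h => ?_
    have h1 := Submodule.finrank_mono (h : LinearMap.ker L ≤ K ∙ v)
    rw [finrank_span_singleton hw] at h1
    omega
  have hLk : L k = 0 := hk
  have hLv : L v = 0 := hLL w
  have hli : LinearIndependent K ![v, k, w] := by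
    rw [Fintype.linearIndependent_iff]
    intro g hg
    simp [Fin.sum_univ_three] at hg
    have h3 : g 2 = 0 := by
      have := congrArg L hg
      simp [hLv, hLk, ← hv] at this
      exact this.resolve_right hw
    rw [h3, zero_smul, add_zero] at hg
    have h1 : g 1 = 0 := by
      by_contra h1
      refine hkv (Submodule.mem_span_singleton.2 ⟨-(g 1)⁻¹ * g 0, ?_⟩)
      have h := congrArg (fun x => (g 1)⁻¹ • x) hg
      simp only [smul_add, smul_smul, inv_mul_cancel₀ h1, one_smul, smul_zero] at h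
      rw [neg_mul, neg_smul]
      exact neg_eq_of_add_eq_zero_right h
    rw [h1, zero_smul, add_zero, smul_eq_zero] at hg
    intro i
    fin_cases i
    exacts [hg.resolve_right hw, h1, h3]
  let b := basisOfLinearIndependentOfCardEqFinrank hli (by simp)
  have hb : ⇑b = ![v, k, w] := coe_basisOfLinearIndependentOfCardEqFinrank hli _
  set Y := LinearMap.toMatrix b b f with hY
  set E := LinearMap.toMatrix b b L with hE
  have hE' : E = !![0, 0, 1; 0, 0, 0; 0, 0, 0] := by
    ext i j
    rw [hE, LinearMap.toMatrix_apply]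
    fin_cases j
    · simp [hb, hLv]
      fin_cases i <;> rfl
    · simp [hb, hLk]
      fin_cases i <;> rfl
    · have : L (b 2) = b 0 := by rw [hb]; rfl
      show b.repr (L (b 2)) i = _
      rw [this, Module.Basis.repr_self]
      fin_cases i <;> simp
  have hcomm : Y * E = E * Y := by
    rw [hY, hE, ← LinearMap.toMatrix_comp, ← LinearMap.toMatrix_comp]
    exact congrArg _ (LinearMap.ext hfL)
  have hcube : Y * Y * Y = c • 1 := by
    rw [hY, ← LinearMap.toMatrix_comp, ← LinearMap.toMatrix_comp, ← Matrix.toLin'_mul,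
      ← Matrix.toLin'_mul, hy3, map_smul, Matrix.toLin'_one, map_smul, LinearMap.toMatrix_id]
  have hdY : Y.det = 1 := by rw [hY, LinearMap.det_toMatrix, LinearMap.det_toLin', hdet]
  have hx3 : ∀ x : K, x ≠ 0 → x * x * x = 1 := fun x hx => by
    have := FiniteField.pow_card_sub_one_eq_one x hx
    rw [hK] at this
    linear_combination this
  suffices hs : Y = Y 0 0 • 1 by
    refine ⟨Y 0 0, Matrix.toLin'.injective ((LinearMap.toMatrix b b).injective ?_)⟩
    rw [map_smul, Matrix.toLin'_one, map_smul, LinearMap.toMatrix_id]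
    exact hs
  have c10 := congrFun (congrFun hcomm 1) 2
  have c20 := congrFun (congrFun hcomm 2) 2
  have c00 := congrFun (congrFun hcomm 0) 2
  have c01 := congrFun (congrFun hcomm 0) 1
  simp [hE', Matrix.mul_apply, Fin.sum_univ_three] at c10 c20 c00 c01
  rw [Matrix.det_fin_three] at hdY
  have q00 := congrFun (congrFun hcube 0) 0
  have q11 := congrFun (congrFun hcube 1) 1
  have q01 := congrFun (congrFun hcube 0) 1
  have q12 := congrFun (congrFun hcube 1) 2
  have q02 := congrFun (congrFun hcube 0) 2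
  simp [Matrix.mul_apply, Fin.sum_univ_three] at q00 q11 q01 q12 q02
  have h10 : Y 1 0 = 0 := by first | exact c10 | exact c10.symm
  have h20 : Y 2 0 = 0 := by first | exact c20 | exact c20.symm
  have h21 : Y 2 1 = 0 := by first | exact c01 | exact c01.symm
  have h22 : Y 2 2 = Y 0 0 := by first | exact c00.symm | exact c00
  simp only [h10, h20, h21, h22, mul_zero, zero_mul, add_zero, zero_add, sub_zero] at q00 q11 q01 q12 q02 hdY
  have ha : Y 0 0 ≠ 0 := fun h => by rw [h] at hdY; simp at hdY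
  have hd : Y 1 1 ≠ 0 := fun h => by rw [h] at hdY; simp at hdY
  have hdd : Y 1 1 = Y 0 0 := by
    linear_combination (Y 0 0) * hdY - (Y 1 1) * hx3 _ ha
  rw [hdd] at q01 q12
  have h01 : Y 0 1 = 0 := by
    have : Y 0 1 * (Y 0 0 * Y 0 0) = 0 := by linear_combination q01 - (Y 0 0 * Y 0 0 * Y 0 1) * h2
    simpa [ha] using this
  have h12 : Y 1 2 = 0 := by
    have : Y 1 2 * (Y 0 0 * Y 0 0) = 0 := by linear_combination q12 - (Y 0 0 * Y 0 0 * Y 1 2) * h2
    simpa [ha] using this
  simp only [h01, h12, mul_zero, zero_mul, add_zero, zero_add] at q02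
  have h02 : Y 0 2 = 0 := by
    have : Y 0 2 * (Y 0 0 * Y 0 0) = 0 := by linear_combination q02 - (Y 0 0 * Y 0 0 * Y 0 2) * h2
    simpa [ha] using this
  ext i j
  fin_cases i <;> fin_cases j <;> simp [h10, h20, h21, h22, h01, h12, h02, hdd]

/-- `PSL₃(4)` has no element of order 6. -/
theorem orderOf_ne_six (hK : Fintype.card K = 4) (g : Matrix.ProjectiveSpecialLinearGroup (Fin 3) K) :
    orderOf g ≠ 6 := by
  intro hg
  obtain ⟨g', rfl⟩ := QuotientGroup.mk'_surjective (Subgroup.center (Matrix.SpecialLinearGroup (Fin 3) K)) g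
  set π := QuotientGroup.mk' (Subgroup.center (Matrix.SpecialLinearGroup (Fin 3) K))
  have hcent : ∀ z : Matrix.SpecialLinearGroup (Fin 3) K, π z = 1 ↔ z ∈ Subgroup.center _ := fun z =>
    QuotientGroup.eq_one_iff z
  have hsc : ∀ z : Matrix.SpecialLinearGroup (Fin 3) K, z ∈ Subgroup.center _ →
      ∃ r : K, r ^ 3 = 1 ∧ (z : Matrix (Fin 3) (Fin 3) K) = r • 1 := fun z hz => by
    obtain ⟨r, hr, hrz⟩ := Matrix.SpecialLinearGroup.mem_center_iff.1 hz
    exact ⟨r, by simpa using hr, by rw [← hrz, Matrix.scalar_apply, Matrix.smul_one_eq_diagonal]⟩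
  have hz3 : ∀ z : Matrix.SpecialLinearGroup (Fin 3) K, z ∈ Subgroup.center _ → z ^ 3 = 1 := fun z hz => by
    obtain ⟨r, hr, hrz⟩ := hsc z hz
    refine Subtype.ext ?_
    rw [Matrix.SpecialLinearGroup.coe_pow, hrz, smul_pow, one_pow, hr, one_smul]
    rfl
  have hpow : ∀ n, π (g' ^ n) = π g' ^ n := fun n => map_pow π g' n
  have hne : ∀ n, 0 < n → n < 6 → g' ^ n ∉ Subgroup.center _ := fun n h0 h6 h => by
    have := (hcent _).2 h
    rw [hpow] at this
    exact absurd (orderOf_le_of_pow_eq_one h0 this) (by omega)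
  have h6 : g' ^ 6 ∈ Subgroup.center _ := (hcent _).1 (by rw [hpow, ← hg, pow_orderOf_eq_one])
  set u := (g' ^ 3) ^ 3 with hu
  have hu2 : u * u = 1 := by rw [← hz3 _ h6, hu, ← pow_mul, ← pow_mul, ← pow_add]
  have hu1 : (u : Matrix (Fin 3) (Fin 3) K) ≠ 1 := fun h => by
    have hu' : u = 1 := Subtype.ext h
    refine hne 3 (by norm_num) (by norm_num) ((hcent _).1 ?_)
    have h9 : π g' ^ 9 = 1 := by rw [← hpow, show g' ^ 9 = u by rw [hu, ← pow_mul], hu', map_one]
    have h6' : π g' ^ 6 = 1 := by rw [← hg, pow_orderOf_eq_one]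
    rw [hpow]
    calc π g' ^ 3 = π g' ^ 6 * π g' ^ 3 := by rw [h6', one_mul]
      _ = 1 := by rw [← pow_add]; exact h9
  set y := g' ^ 2
  obtain ⟨c, hc, hcy⟩ := hsc _ h6
  obtain ⟨a, ha⟩ := scalar_of_commute hK (u : Matrix (Fin 3) (Fin 3) K) (y : Matrix (Fin 3) (Fin 3) K) hu1
    (by rw [← Matrix.SpecialLinearGroup.coe_mul, hu2, Matrix.SpecialLinearGroup.coe_one]) y.2
    (by
      rw [← Matrix.SpecialLinearGroup.coe_mul, ← Matrix.SpecialLinearGroup.coe_mul, hu]
      congr 1
      exact ((Commute.refl g').pow_pow 2 3).pow_right 3) c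
    (by
      rw [← hcy, ← Matrix.SpecialLinearGroup.coe_mul, ← Matrix.SpecialLinearGroup.coe_mul]
      congr 1
      simp only [y, ← pow_add]
      rfl)
  refine hne 2 (by norm_num) (by norm_num) (Matrix.SpecialLinearGroup.mem_center_iff.2 ⟨a, ?_, ?_⟩)
  · have hd : (y : Matrix (Fin 3) (Fin 3) K).det = 1 := y.2
    rw [ha, Matrix.det_smul, Matrix.det_one, mul_one] at hd
    simpa using hd
  · rw [Matrix.scalar_apply, ← Matrix.smul_one_eq_diagonal]
    exact ha.symm

theorem main {F : Type*} [Field F] [Fintype F] {K : Type*} [Field K] [Fintype K] (hF : Fintype.card F = 2)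
    (hK : Fintype.card K = 4) :
    Nat.card (Matrix.ProjectiveSpecialLinearGroup (Fin 4) F) = Nat.card (Matrix.ProjectiveSpecialLinearGroup (Fin 3) K) ∧
      ¬ Nonempty (Matrix.ProjectiveSpecialLinearGroup (Fin 4) F ≃* Matrix.ProjectiveSpecialLinearGroup (Fin 3) K) := by
  refine ⟨?_, ?_⟩
  · have h1 := Cfsg.Agent.S0243.result hF 4 (by norm_num)
    have h2 := Cfsg.Agent.S0243.result hK 3 (by norm_num)
    simp [Fin.prod_univ_succ] at h1 h2
    omega
  · rintro ⟨e⟩
    obtain ⟨e'⟩ := Cfsg.Agent.S0256.result (F := F) hF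
    let s : Equiv.Perm (Fin 8) := Equiv.swap 0 1 * Equiv.swap 1 2 * (Equiv.swap 3 4 * Equiv.swap 5 6)
    have hs : s ∈ alternatingGroup (Fin 8) := by
      rw [Equiv.Perm.mem_alternatingGroup]
      simp [s, Equiv.Perm.sign_mul, Equiv.Perm.sign_swap']
    have ho : orderOf s = 6 := by
      rw [orderOf_eq_iff (by norm_num)]
      refine ⟨by ext x; fin_cases x <;> simp [s, pow_succ, Equiv.swap_apply_def], ?_⟩
      intro m h1 h2 h
      have e0 := Equiv.Perm.congr_fun h 0
      have e3 := Equiv.Perm.congr_fun h 3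
      interval_cases m <;> simp [s, pow_succ, Equiv.swap_apply_def] at e0 e3
    apply orderOf_ne_six hK ((e'.symm.trans e) ⟨s, hs⟩)
    rw [MulEquiv.orderOf_eq, Subgroup.orderOf_mk, ho]

/-- Let F be a field with 2 elements and K a field with 4 elements. PSL_4(F) and PSL_3(K) have the same order (20160) but are not isomorphic. -/
theorem result {F K : Type*} [Field F] [Fintype F] [Field K] [Fintype K] (hF : Fintype.card F = 2) (hK : Fintype.card K = 4) : Nat.card (Matrix.ProjectiveSpecialLinearGroup (Fin 4) F) = Nat.card (Matrix.ProjectiveSpecialLinearGroup (Fin 3) K) ∧ ¬ Nonempty (Matrix.ProjectiveSpecialLinearGroup (Fin 4) F ≃* Matrix.ProjectiveSpecialLinearGroup (Fin 3) K) := by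
  exact main hF hK

end Cfsg.Agent.S2550
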