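import Cfsg.Agent.S0256
import Cfsg.Agent.Lib.Linear.SLBasic

set_option autoImplicit false
open Cfsg

namespace Cfsg.Agent.S2551

open MulAction Equiv

variable {F : Type*} [Field F] [Fintype F]

local notation "V" => (Fin 4 → F)
local notation "GLF" => Matrix.GeneralLinearGroup (Fin 4) F

theorem exists_copy (hF : Fintype.card F = 2) :
    ∃ H : Subgroup GLF, Nonempty (H ≃* alternatingGroup (Fin 7)) := by
  classical
  obtain ⟨e⟩ := Cfsg.Agent.S0256.result hF
  have hc : Nat.card (Subgroup.center (Matrix.SpecialLinearGroup (Fin 4) F)) = 1 := by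
    rw [Cfsg.Lib.Linear.card_center_SL, hF]; simp
  have hbot : Subgroup.center (Matrix.SpecialLinearGroup (Fin 4) F) = ⊥ := Subgroup.card_eq_one.1 hc
  let q : Matrix.SpecialLinearGroup (Fin 4) F →* Matrix.ProjectiveSpecialLinearGroup (Fin 4) F :=
    QuotientGroup.mk' _
  have hq : Function.Bijective q := by
    refine ⟨?_, QuotientGroup.mk'_surjective _⟩
    rw [← MonoidHom.ker_eq_bot_iff]
    show (QuotientGroup.mk' _).ker = ⊥
    rw [QuotientGroup.ker_mk', hbot]
  let e' := (MulEquiv.ofBijective q hq).trans e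
  let p : Perm (Fin 7) →* Perm (Fin 8) := Equiv.Perm.viaEmbeddingHom Fin.castSuccEmb
  have hp : ∀ x : alternatingGroup (Fin 7), p x ∈ alternatingGroup (Fin 8) := by
    intro x
    have hx := Perm.mem_alternatingGroup.1 x.2
    rw [Perm.mem_alternatingGroup]
    show Perm.sign (Equiv.Perm.viaEmbedding (x : Perm (Fin 7)) Fin.castSuccEmb) = 1
    rw [Equiv.Perm.viaEmbedding, Equiv.Perm.sign_extendDomain, hx]
  let i : alternatingGroup (Fin 7) →* alternatingGroup (Fin 8) :=
    MonoidHom.codRestrict (p.comp (alternatingGroup (Fin 7)).subtype) _ hp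
  have hi : Function.Injective i := by
    intro x y h
    have := congrArg Subtype.val h
    exact Subtype.ext (Equiv.Perm.viaEmbeddingHom_injective _ this)
  let f : alternatingGroup (Fin 7) →* GLF :=
    Matrix.SpecialLinearGroup.toGL.comp (e'.symm.toMonoidHom.comp i)
  have hf : Function.Injective f :=
    Cfsg.Lib.Linear.toGL_injective'.comp (e'.symm.injective.comp hi)
  exact ⟨f.range, ⟨(MonoidHom.ofInjective hf).symm⟩⟩

/-- The fixed vectors of `g`. -/
def fix (g : GLF) : AddSubgroup V where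
  carrier := {v | g • v = v}
  zero_mem' := smul_zero g
  add_mem' := fun {a b} ha hb => by simp only [Set.mem_setOf_eq] at *; rw [smul_add, ha, hb]
  neg_mem' := fun {a} ha => by simp only [Set.mem_setOf_eq] at *; rw [smul_neg, ha]

theorem mem_fix {g : GLF} {v : V} : v ∈ fix g ↔ g • v = v := Iff.rfl

theorem card_V (hF : Fintype.card F = 2) : Nat.card V = 16 := by
  classical
  rw [Nat.card_eq_fintype_card, Fintype.card_fun, hF, Fintype.card_fin]; norm_num

theorem eq_one_of_fix_card (hF : Fintype.card F = 2) {g : GLF} (h : Nat.card (fix g) = 16) :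
    g = 1 := by
  have htop : fix g = ⊤ := AddSubgroup.eq_top_of_card_eq _ (h.trans (card_V hF).symm)
  apply Units.ext
  ext i j
  have hm : (Pi.single j 1 : V) ∈ fix g := htop ▸ AddSubgroup.mem_top _
  have h' : (g : Matrix (Fin 4) (Fin 4) F).mulVec (Pi.single j 1) = Pi.single j 1 := hm
  have := congrFun h' i
  rw [Matrix.mulVec_single_one] at this
  simpa [Matrix.one_apply, Pi.single_apply] using this

theorem modEq_fix (g : GLF) {p : ℕ} [Fact p.Prime] (hg : orderOf g = p) :
    Nat.card V ≡ Nat.card (fix g) [MOD p] := by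
  have hP : IsPGroup p (Subgroup.zpowers g) := IsPGroup.of_card (n := 1) (by rw [Nat.card_zpowers, hg, pow_one])
  have h := hP.card_modEq_card_fixedPoints (α := V)
  refine h.trans ?_
  have : fixedPoints (Subgroup.zpowers g) V = (fix g : Set V) := by
    ext v
    rw [mem_fixedPoints, SetLike.mem_coe, mem_fix]
    refine ⟨fun h => h ⟨g, Subgroup.mem_zpowers g⟩, fun h x => ?_⟩
    obtain ⟨x, n, rfl⟩ := x
    exact (Subgroup.zpow_mem (stabilizer GLF v) (mem_stabilizer_iff.2 h) n)
  rw [this]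
  exact Nat.ModEq.refl _

theorem fix_order_five (hF : Fintype.card F = 2) {g : GLF} (hg : orderOf g = 5) {v : V}
    (h : g • v = v) : v = 0 := by
  have : Fact (Nat.Prime 5) := ⟨by norm_num⟩
  have h1 : 16 ≡ Nat.card (fix g) [MOD 5] := card_V hF ▸ modEq_fix g hg
  have h2 : Nat.card (fix g) ∣ 16 := card_V hF ▸ AddSubgroup.card_addSubgroup_dvd_card _
  rcases (Nat.dvd_prime_pow Nat.prime_two (m := 4)).1 h2 with ⟨k, hk, hk'⟩
  interval_cases k <;> rw [hk'] at h1 <;> norm_num [Nat.ModEq] at h1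
  · have := AddSubgroup.card_eq_one.1 hk'
    have hm : v ∈ fix g := h
    rwa [this, AddSubgroup.mem_bot] at hm
  · rw [eq_one_of_fix_card hF hk', orderOf_one] at hg
    norm_num at hg

theorem fix_order_seven (hF : Fintype.card F = 2) {g : GLF} (hg : orderOf g = 7) :
    Nat.card (fix g) = 2 := by
  have : Fact (Nat.Prime 7) := ⟨by norm_num⟩
  have h1 : 16 ≡ Nat.card (fix g) [MOD 7] := card_V hF ▸ modEq_fix g hg
  have h2 : Nat.card (fix g) ∣ 16 := card_V hF ▸ AddSubgroup.card_addSubgroup_dvd_card _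
  rcases (Nat.dvd_prime_pow Nat.prime_two (m := 4)).1 h2 with ⟨k, hk, hk'⟩
  interval_cases k <;> rw [hk'] at h1 <;> norm_num [Nat.ModEq] at h1
  · exact hk'
  · rw [eq_one_of_fix_card hF hk', orderOf_one] at hg
    norm_num at hg

/-- If `s` and a conjugate have product of order five, `s` has fewer than eight fixed vectors. -/
theorem fix_card_lt (hF : Fintype.card F = 2) {s c : GLF} (h : orderOf (s * (c * s * c⁻¹)) = 5) :
    Nat.card (fix s) < 8 := by
  by_contra h8
  rw [not_lt] at h8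
  set t := c * s * c⁻¹ with ht
  have k1 : ∀ v : V, t • v = v → s • c⁻¹ • v = c⁻¹ • v := by
    intro v hv
    rw [ht, mul_smul, mul_smul] at hv
    exact (eq_inv_smul_iff (g := c)).2 hv
  have k2 : ∀ v : V, s • v = v → t • c • v = c • v := by
    intro v hv
    rw [ht, mul_smul, mul_smul, inv_smul_smul, hv]
  have hcard : Nat.card (fix t) = Nat.card (fix s) :=
    Nat.card_congr
      { toFun := fun x => ⟨c⁻¹ • (x : V), k1 _ x.2⟩
        invFun := fun x => ⟨c • (x : V), k2 _ x.2⟩
        left_inv := fun x => Subtype.ext (smul_inv_smul c _)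
        right_inv := fun x => Subtype.ext (inv_smul_smul c _) }
  have hs := (fix s).index_mul_card
  have ht' := (fix t).index_mul_card
  rw [card_V hF] at hs ht'
  rw [hcard] at ht'
  have hi : (fix s ⊓ fix t).index ≤ (fix s).index * (fix t).index := AddSubgroup.index_inf_le
  have hi' := (fix s ⊓ fix t).index_mul_card
  rw [card_V hF] at hi'
  have hs2 : (fix s).index ≤ 2 := by nlinarith
  have ht2 : (fix t).index ≤ 2 := by nlinarith
  have hne : fix s ⊓ fix t ≠ ⊥ := by
    intro hb
    rw [hb] at hi' hi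
    rw [AddSubgroup.card_bot, mul_one] at hi'
    nlinarith
  obtain ⟨v, hv, hv0⟩ := (AddSubgroup.bot_or_exists_ne_zero _).resolve_left hne
  refine hv0 (fix_order_five hF h ?_)
  rw [mul_smul, mem_fix.1 hv.2, mem_fix.1 hv.1]

theorem char_two (hF : Fintype.card F = 2) (x : V) : x + x = 0 := by
  have : CharP F 2 := by
    obtain ⟨p, hp⟩ := CharP.exists F
    obtain ⟨n, hp', hn⟩ := FiniteField.card F p
    rw [hF] at hn
    have hd : p ∣ 2 := hn ▸ dvd_pow_self p (PNat.ne_zero n)
    rwa [(Nat.prime_dvd_prime_iff_eq hp' Nat.prime_two).1 hd] at hp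
  funext i
  exact CharTwo.add_self_eq_zero (x i)

/-- Two involutions with the same fixed vectors commute. -/
theorem commute_of_fix_eq (hF : Fintype.card F = 2) {s t : GLF} (hs : s * s = 1) (ht : t * t = 1)
    (h : fix s = fix t) : s * t = t * s := by
  have key : ∀ g : GLF, g * g = 1 → ∀ x : V, g • x + x ∈ fix g := by
    intro g hg x
    rw [mem_fix, smul_add, ← mul_smul, hg, one_smul, add_comm]
  have e : ∀ x : V, (s * t) • x = (t * s) • x := by
    intro x
    have h1 : s • (t • x + x) = t • x + x := mem_fix.1 (h.symm ▸ key t ht x)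
    have h2 : t • (s • x + x) = s • x + x := mem_fix.1 (h ▸ key s hs x)
    rw [smul_add] at h1 h2
    rw [mul_smul, mul_smul]
    have e1 : s • t • x = t • x + x + s • x := by
      rw [← h1, add_assoc, char_two hF, add_zero]
    have e2 : t • s • x = s • x + x + t • x := by
      rw [← h2, add_assoc, char_two hF, add_zero]
    rw [e1, e2]; abel
  apply Units.ext
  exact Matrix.ext_of_mulVec_single fun j => e (Pi.single j 1)

theorem card_alt : Nat.card (alternatingGroup (Fin 7)) = 2520 := by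
  rw [nat_card_alternatingGroup, Nat.card_fin]; rfl

theorem card_H (_hF : Fintype.card F = 2) {H : Subgroup GLF} (e : H ≃* alternatingGroup (Fin 7)) : Nat.card H = 2520 := (Nat.card_congr e.toEquiv).trans card_alt

theorem orbit_card (hF : Fintype.card F = 2) {H : Subgroup GLF} (e : H ≃* alternatingGroup (Fin 7)) (v : V) (hv : v ≠ 0) : (orbit H v).ncard = 15 := by
  classical
  have : Fact (Nat.Prime 5) := ⟨by norm_num⟩
  have hS : IsSimpleGroup H := by
    have := alternatingGroup.isSimpleGroup (α := Fin 7) (by simp)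
    exact e.isSimpleGroup
  obtain ⟨g, hg⟩ := exists_prime_orderOf_dvd_card' 5 (show 5 ∣ Nat.card H by
    rw [card_H hF e]; norm_num)
  have hg' : orderOf (g : GLF) = 5 := by rw [Subgroup.orderOf_coe, hg]
  have hne : ∀ u : V, u ≠ 0 → ∀ x ∈ orbit H u, x ≠ (0 : V) := by
    rintro u hu x ⟨a, rfl⟩ hx
    exact hu ((smul_eq_zero_iff_eq (a : GLF)).1 hx)
  have five : ∀ u : V, u ≠ 0 → 5 ∣ (orbit H u).ncard ∧ (orbit H u).ncard ≠ 5 := by
    intro u hu
    constructor
    · have hP : IsPGroup 5 (Subgroup.zpowers g) := IsPGroup.of_card (n := 1) (by rw [Nat.card_zpowers, hg, pow_one])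
      have h := hP.card_modEq_card_fixedPoints (α := orbit H u)
      have : IsEmpty (fixedPoints (Subgroup.zpowers g) (orbit H u)) := ⟨fun x => by
        have hx := x.2 ⟨g, Subgroup.mem_zpowers g⟩
        have hx' : (g : GLF) • (x.1 : V) = x.1 := congrArg Subtype.val hx
        exact hne u hu _ x.1.2 (fix_order_five hF hg' hx')⟩
      rw [Nat.card_coe_set_eq, Nat.card_of_isEmpty] at h
      exact Nat.modEq_zero_iff_dvd.1 h
    · intro h5
      let f := MulAction.toPermHom H (orbit H u)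
      rcases f.normal_ker.eq_bot_or_eq_top with hk | hk
      · have hinj : Function.Injective f := (MonoidHom.ker_eq_bot_iff f).1 hk
        have hle := Nat.card_le_card_of_injective f hinj
        rw [card_H hF e, Nat.card_perm, Nat.card_coe_set_eq, h5] at hle
        norm_num [Nat.factorial] at hle
      · have hg1 : f g = 1 := MonoidHom.mem_ker.1 (hk ▸ Subgroup.mem_top g)
        have h1 := congrArg (fun p => ((p ⟨u, mem_orbit_self u⟩ : orbit H u) : V)) hg1
        exact hu (fix_order_five hF hg' h1)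
  have hsub : ∀ u : V, u ≠ 0 → orbit H u ⊆ ({0}ᶜ : Set V) := fun u hu x hx => hne u hu x hx
  have h15 : ({0}ᶜ : Set V).ncard = 15 := by
    rw [Set.ncard_compl, Set.ncard_singleton, card_V hF]
  have hle : (orbit H v).ncard ≤ 15 := h15 ▸ Set.ncard_le_ncard (hsub v hv)
  obtain ⟨⟨a, ha⟩, h5⟩ := five v hv
  have hpos : 0 < (orbit H v).ncard :=
    (Set.ncard_pos (Set.toFinite _)).2 ⟨v, mem_orbit_self v⟩
  have ha2 : a = 2 ∨ a = 3 := by omega
  rcases ha2 with rfl | rfl
  · exfalso
    have hlt : (orbit H v).ncard < ({0}ᶜ : Set V).ncard := by omega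
    obtain ⟨w, hw, hwn⟩ := Set.exists_mem_notMem_of_ncard_lt_ncard hlt
    have hw0 : w ≠ 0 := hw
    obtain ⟨⟨b, hb⟩, hb5⟩ := five w hw0
    have hd : Disjoint (orbit H v) (orbit H w) := by
      rw [Set.disjoint_left]
      intro x hxv hxw
      exact hwn (orbit_eq_iff.1 ((orbit_eq_iff.2 hxw).symm.trans (orbit_eq_iff.2 hxv)))
    have hu := Set.ncard_le_ncard (Set.union_subset (hsub v hv) (hsub w hw0))
    rw [Set.ncard_union_eq hd, h15] at hu
    have hbpos : 0 < (orbit H w).ncard :=
      (Set.ncard_pos (Set.toFinite _)).2 ⟨w, mem_orbit_self w⟩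
    omega
  · exact ha

theorem card_stab (hF : Fintype.card F = 2) {H : Subgroup GLF} (e : H ≃* alternatingGroup (Fin 7)) (v : V) (hv : v ≠ 0) : Nat.card (stabilizer H v) = 168 := by
  have h := (stabilizer H v).index_mul_card
  rw [index_stabilizer, orbit_card hF e v hv, card_H hF e] at h
  omega


def a7 : alternatingGroup (Fin 7) := ⟨swap 0 1 * swap 4 5, Perm.mem_alternatingGroup.2 (by decide +kernel)⟩
def b7 : alternatingGroup (Fin 7) := ⟨swap 0 2 * swap 1 3, Perm.mem_alternatingGroup.2 (by decide +kernel)⟩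
def c7 : alternatingGroup (Fin 7) := ⟨swap 0 2 * swap 2 1 * swap 1 3 * swap 4 5, Perm.mem_alternatingGroup.2 (by decide +kernel)⟩
def u7 : alternatingGroup (Fin 7) := ⟨swap 0 1 * swap 1 4 * swap 4 5 * swap 5 2, Perm.mem_alternatingGroup.2 (by decide +kernel)⟩
def w7 : alternatingGroup (Fin 7) := ⟨swap 0 2 * swap 2 1 * swap 1 3 * swap 3 4, Perm.mem_alternatingGroup.2 (by decide +kernel)⟩

theorem facts : orderOf (a7 * (u7 * a7 * u7⁻¹)) = 5 ∧ orderOf (b7 * (w7 * b7 * w7⁻¹)) = 5 ∧
    a7 * a7 = 1 ∧ b7 * b7 = 1 ∧ a7 * b7 ≠ b7 * a7 ∧ b7 = a7 * c7 ∧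
    c7 ^ 4 = 1 ∧ a7 * c7 * a7⁻¹ = c7⁻¹ := by
  have : Fact (Nat.Prime 5) := ⟨by norm_num⟩
  exact ⟨orderOf_eq_prime (by decide +kernel) (by decide +kernel), orderOf_eq_prime (by decide +kernel) (by decide +kernel),
    by decide +kernel, by decide +kernel, by decide +kernel, by decide +kernel, by decide +kernel, by decide +kernel⟩

theorem exists_two_group : ∃ Q : Subgroup (alternatingGroup (Fin 7)),
    IsPGroup 2 Q ∧ a7 ∈ Q ∧ b7 ∈ Q := by
  obtain ⟨-, -, ha, -, -, hb, hc, hac⟩ := facts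
  have h1 : IsPGroup 2 (Subgroup.zpowers a7) := by
    have hd : orderOf a7 ∣ 2 ^ 1 := orderOf_dvd_of_pow_eq_one (by rw [pow_one, pow_two, ha])
    obtain ⟨k, -, hk⟩ := (Nat.dvd_prime_pow Nat.prime_two).1 hd
    exact IsPGroup.of_card (n := k) (by rw [Nat.card_zpowers, hk])
  have h2 : IsPGroup 2 (Subgroup.zpowers c7) := by
    have hd : orderOf c7 ∣ 2 ^ 2 := orderOf_dvd_of_pow_eq_one hc
    obtain ⟨k, -, hk⟩ := (Nat.dvd_prime_pow Nat.prime_two).1 hd
    exact IsPGroup.of_card (n := k) (by rw [Nat.card_zpowers, hk])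
  refine ⟨Subgroup.zpowers a7 ⊔ Subgroup.zpowers c7, h1.to_sup_of_normal_right' h2 ?_,
    Subgroup.mem_sup_left (Subgroup.mem_zpowers _), ?_⟩
  · rw [Subgroup.zpowers_le]
    refine Subgroup.mem_normalizer_iff.2 fun x => ?_
    have hinv : a7⁻¹ = a7 := inv_eq_of_mul_eq_one_right ha
    have key : ∀ y ∈ Subgroup.zpowers c7, a7 * y * a7⁻¹ ∈ Subgroup.zpowers c7 := by
      rintro y ⟨n, rfl⟩
      show a7 * c7 ^ n * a7⁻¹ ∈ _
      rw [← conj_zpow, hac]
      exact Subgroup.zpow_mem _ (inv_mem (Subgroup.mem_zpowers c7)) n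
    refine ⟨key x, fun h => ?_⟩
    have h2 := key _ h
    rwa [show a7 * (a7 * x * a7⁻¹) * a7⁻¹ = x by
      rw [hinv, ← mul_assoc, ← mul_assoc, ha, one_mul, mul_assoc, ha, mul_one]] at h2
  · rw [hb]
    exact mul_mem (Subgroup.mem_sup_left (Subgroup.mem_zpowers _))
      (Subgroup.mem_sup_right (Subgroup.mem_zpowers _))

theorem no_eight (hF : Fintype.card F = 2) {H : Subgroup GLF} (e : H ≃* alternatingGroup (Fin 7))
    (P : Subgroup H) (hP : Nat.card P = 8) (U : AddSubgroup V) (hU : 4 ≤ Nat.card U)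
    (hfix : ∀ p ∈ P, U ≤ fix (p : GLF)) : False := by
  classical
  obtain ⟨oa, ob, ha, hb, hab, -, -, -⟩ := facts
  obtain ⟨Q, hQ, haQ, hbQ⟩ := exists_two_group
  have hQ' : IsPGroup 2 (Q.map e.symm.toMonoidHom) := hQ.map _
  obtain ⟨P', hP'⟩ := hQ'.exists_le_sylow
  have hfac : Nat.card P = 2 ^ (Nat.card H).factorization 2 := by
    rw [hP, card_H hF e]
    have h2520 : (2520 : ℕ).factorization 2 = 3 := by
      rw [show (2520 : ℕ) = 2 ^ 3 * 315 by norm_num, Nat.factorization_mul (by norm_num) (by norm_num),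
        Nat.Prime.factorization_pow Nat.prime_two]
      simp [Nat.factorization_eq_zero_of_not_dvd (show ¬ 2 ∣ 315 by norm_num)]
    rw [h2520]; norm_num
  obtain ⟨g, hg⟩ := MulAction.exists_smul_eq H (Sylow.ofCard P hfac) P'
  set A : H := e.symm a7 with hA
  set B : H := e.symm b7 with hB
  let U' : AddSubgroup V := U.map (DistribMulAction.toAddMonoidHom V (g : GLF))
  have hU' : 4 ≤ Nat.card U' := by
    rw [AddSubgroup.card_map_of_injective]
    · exact hU
    · exact MulAction.injective (g : GLF)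
  have hmem : ∀ x ∈ (P' : Subgroup H), U' ≤ fix (x : GLF) := by
    intro x hx
    rw [← hg] at hx
    have hx' : g⁻¹ * x * g ∈ P := by
      have := (Subgroup.mem_pointwise_smul_iff_inv_smul_mem (a := MulAut.conj g)).1 hx
      simpa using this
    rintro _ ⟨u, hu, rfl⟩
    have h1 := mem_fix.1 (hfix _ hx' hu)
    simp only [Subgroup.coe_mul, Subgroup.coe_inv, mul_smul, inv_smul_eq_iff] at h1
    exact h1
  have key : ∀ (s c : alternatingGroup (Fin 7)), orderOf (s * (c * s * c⁻¹)) = 5 →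
      e.symm s ∈ (P' : Subgroup H) → fix (e.symm s : GLF) = U' := by
    intro s c ho hs
    have hlt : Nat.card (fix (e.symm s : GLF)) < 8 := by
      refine fix_card_lt hF (c := (e.symm c : GLF)) ?_
      rw [← Subgroup.coe_inv, ← Subgroup.coe_mul, ← Subgroup.coe_mul, ← Subgroup.coe_mul,
        Subgroup.orderOf_coe, ← map_inv, ← map_mul, ← map_mul, ← map_mul,
        MulEquiv.orderOf_eq, ho]
    have h2 : Nat.card (fix (e.symm s : GLF)) ∣ 16 :=
      card_V hF ▸ AddSubgroup.card_addSubgroup_dvd_card _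
    rcases (Nat.dvd_prime_pow Nat.prime_two (m := 4)).1 h2 with ⟨k, hk, hk'⟩
    have hle := hmem _ hs
    have hcle := AddSubgroup.card_le_of_le hle
    refine (AddSubgroup.eq_of_le_of_card_ge hle ?_).symm
    interval_cases k <;> omega
  have hA' : A ∈ (P' : Subgroup H) := hP' ⟨a7, haQ, rfl⟩
  have hB' : B ∈ (P' : Subgroup H) := hP' ⟨b7, hbQ, rfl⟩
  have hA2 : (A : GLF) * A = 1 := by
    rw [← Subgroup.coe_mul, hA, ← map_mul, ha, map_one, Subgroup.coe_one]
  have hB2 : (B : GLF) * B = 1 := by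
    rw [← Subgroup.coe_mul, hB, ← map_mul, hb, map_one, Subgroup.coe_one]
  have := commute_of_fix_eq hF hA2 hB2
    ((key _ _ oa hA').trans (key _ _ ob hB').symm)
  rw [← Subgroup.coe_mul, ← Subgroup.coe_mul, Subtype.coe_injective.eq_iff, hA, hB, ← map_mul,
    ← map_mul, e.symm.injective.eq_iff] at this
  exact hab this

theorem stab_transitive (hF : Fintype.card F = 2) {H : Subgroup GLF}
    (e : H ≃* alternatingGroup (Fin 7)) (v w w' : V) (hv : v ≠ 0) (hw : w ≠ 0) (hvw : v ≠ w)
    (hw' : w' ≠ 0) (hvw' : v ≠ w') : w' ∈ orbit (stabilizer H v) w := by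
  classical
  have : Fact (Nat.Prime 7) := ⟨by norm_num⟩
  set K := stabilizer H v with hK
  obtain ⟨g, hg⟩ := exists_prime_orderOf_dvd_card' 7 (show 7 ∣ Nat.card K by
    rw [hK, card_stab hF e v hv]; norm_num)
  have hg' : orderOf ((g : H) : GLF) = 7 := by rw [Subgroup.orderOf_coe, Subgroup.orderOf_coe, hg]
  have hfix : (fix ((g : H) : GLF) : Set V) = {0, v} := by
    symm
    refine Set.eq_of_subset_of_ncard_le ?_ ?_
    · rintro x (rfl | rfl)
      · exact zero_mem _
      · exact g.2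
    · rw [← Nat.card_coe_set_eq, Set.ncard_pair (Ne.symm hv)]
      exact (fix_order_seven hF hg').le
  have hsub : orbit K w ⊆ ({0, v}ᶜ : Set V) := by
    rintro x ⟨a, rfl⟩ (hx | hx)
    · exact hw ((smul_eq_zero_iff_eq ((a : H) : GLF)).1 hx)
    · have ha : ((a : H) : GLF) • v = v := a.2
      exact hvw (MulAction.injective ((a : H) : GLF) (ha.trans hx.symm))
  have h14 : ({0, v}ᶜ : Set V).ncard = 14 := by
    rw [Set.ncard_compl, Set.ncard_pair (Ne.symm hv), card_V hF]
  have h7 : 7 ∣ (orbit K w).ncard := by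
    have hP : IsPGroup 7 (Subgroup.zpowers g) := IsPGroup.of_card (n := 1) (by rw [Nat.card_zpowers, hg, pow_one])
    have h := hP.card_modEq_card_fixedPoints (α := orbit K w)
    have : IsEmpty (fixedPoints (Subgroup.zpowers g) (orbit K w)) := ⟨fun x => by
      have hx := x.2 ⟨g, Subgroup.mem_zpowers g⟩
      have hx' : (x.1 : V) ∈ (fix ((g : H) : GLF) : Set V) := congrArg Subtype.val hx
      rw [hfix] at hx'
      exact hsub x.1.2 hx'⟩
    rw [Nat.card_coe_set_eq, Nat.card_of_isEmpty] at h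
    exact Nat.modEq_zero_iff_dvd.1 h
  have hpos : 0 < (orbit K w).ncard :=
    (Set.ncard_pos (Set.toFinite _)).2 ⟨w, mem_orbit_self w⟩
  have hle : (orbit K w).ncard ≤ 14 := h14 ▸ Set.ncard_le_ncard hsub
  obtain ⟨a, ha⟩ := h7
  have hne : (orbit K w).ncard ≠ 7 := by
    intro h
    have hL := (stabilizer K w).index_mul_card
    rw [index_stabilizer, h, hK, card_stab hF e v hv] at hL
    have : Fact (Nat.Prime 2) := ⟨Nat.prime_two⟩
    obtain ⟨P, hP⟩ := Sylow.exists_subgroup_card_pow_prime 2 (G := stabilizer K w) (n := 3)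
      ⟨3, Nat.eq_of_mul_eq_mul_left (show 7 > 0 by norm_num) (by rw [hL]; norm_num)⟩
    let P' : Subgroup H := (P.map (stabilizer K w).subtype).map K.subtype
    have hP' : Nat.card P' = 8 := by
      rw [Subgroup.card_subtype, Subgroup.card_subtype, hP]; norm_num
    let U : AddSubgroup V := AddSubgroup.closure {v, w}
    refine no_eight hF e P' hP' U ?_ ?_
    · have h3 : ({0, v, w} : Set V) ⊆ U := by
        rintro x (rfl | rfl | rfl)
        · exact zero_mem _
        · exact AddSubgroup.subset_closure (Or.inl rfl)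
        · exact AddSubgroup.subset_closure (Or.inr rfl)
      have hc := Set.ncard_le_ncard h3
      rw [Set.ncard_eq_three.2 ⟨0, v, w, Ne.symm hv, Ne.symm hw, hvw, rfl⟩,
        ← Nat.card_coe_set_eq] at hc
      have hd : Nat.card U ∣ 16 := card_V hF ▸ AddSubgroup.card_addSubgroup_dvd_card _
      by_contra hlt
      have h4 : Nat.card U = 3 := by
        change ¬ 4 ≤ Nat.card U at hlt
        change 3 ≤ Nat.card U at hc
        omega
      rw [h4] at hd; norm_num at hd
    · rintro p ⟨q, ⟨r, -, rfl⟩, rfl⟩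
      refine (AddSubgroup.closure_le _).2 ?_
      rintro x (rfl | rfl)
      · exact (r : K).2
      · exact r.2
  have h14' : (orbit K w).ncard = 14 := by omega
  have heq : orbit K w = ({0, v}ᶜ : Set V) := Set.eq_of_subset_of_ncard_le hsub (by omega)
  rw [heq]
  simp [hw', Ne.symm hvw']

theorem main (hF : Fintype.card F = 2) :
    (∃ H : Subgroup GLF, Nonempty (H ≃* alternatingGroup (Fin 7))) ∧
    ∀ H : Subgroup GLF, Nonempty (H ≃* alternatingGroup (Fin 7)) → ∀ v w v' w' : V,
      v ≠ 0 → w ≠ 0 → v ≠ w → v' ≠ 0 → w' ≠ 0 → v' ≠ w' →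
      ∃ g ∈ H, (g : Matrix (Fin 4) (Fin 4) F).mulVec v = v' ∧
        (g : Matrix (Fin 4) (Fin 4) F).mulVec w = w' := by
  classical
  refine ⟨exists_copy hF, fun H ⟨e⟩ v w v' w' hv hw hvw hv' hw' hvw' => ?_⟩
  have hsub : orbit H v ⊆ ({0}ᶜ : Set V) := by
    rintro x ⟨a, rfl⟩ hx
    exact hv ((smul_eq_zero_iff_eq (a : GLF)).1 hx)
  have hall : orbit H v = ({0}ᶜ : Set V) := by
    refine Set.eq_of_subset_of_ncard_le hsub ?_
    rw [orbit_card hF e v hv, Set.ncard_compl, Set.ncard_singleton, card_V hF]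
  obtain ⟨g, hg⟩ : v' ∈ orbit H v := hall ▸ hv'
  have hgw : (g : GLF) • w ≠ 0 := fun h => hw ((smul_eq_zero_iff_eq (g : GLF)).1 h)
  have hgvw : v' ≠ (g : GLF) • w := by
    rw [← hg]; exact fun h => hvw (MulAction.injective (g : GLF) h)
  obtain ⟨k, hk⟩ := stab_transitive hF e v' ((g : GLF) • w) w' hv' hgw hgvw hw' hvw'
  refine ⟨((k : H) * g : H), Subtype.coe_prop _, ?_, ?_⟩
  · show (((k : H) : GLF) * (g : GLF)) • v = v'
    rw [mul_smul]
    exact (congrArg (fun x => ((k : H) : GLF) • x) hg).trans k.2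
  · show (((k : H) : GLF) * (g : GLF)) • w = w'
    rw [mul_smul]; exact hk

/-- Let F be the field with 2 elements. GL_4(F) (≅ A_8) has a subgroup isomorphic to the alternating group A_7, and every such subgroup acts 2-transitively on the 15 non-zero vectors of F⁴: any ordered pair of distinct non-zero vectors is carried to any other by some element of the subgroup. -/
theorem result {F : Type*} [Field F] [Fintype F] (hF : Fintype.card F = 2) : (∃ H : Subgroup (Matrix.GeneralLinearGroup (Fin 4) F), Nonempty (H ≃* alternatingGroup (Fin 7))) ∧ ∀ H : Subgroup (Matrix.GeneralLinearGroup (Fin 4) F), Nonempty (H ≃* alternatingGroup (Fin 7)) → ∀ v w v' w' : Fin 4 → F, v ≠ 0 → w ≠ 0 → v ≠ w → v' ≠ 0 → w' ≠ 0 → v' ≠ w' → ∃ g ∈ H, (g : Matrix (Fin 4) (Fin 4) F).mulVec v = v' ∧ (g : Matrix (Fin 4) (Fin 4) F).mulVec w = w' := by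
  exact main hF

end Cfsg.Agent.S2551
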