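import Cfsg.Statements.S2552


set_option autoImplicit false
open Cfsg

namespace Cfsg.Agent.S2552

/-- Let F be a finite field and n ≥ 1. For every k, the special linear group SL_n(F) acts transitively on the set of k-dimensional subspaces of F^n: any two subspaces of the same dimension are carried onto each other by some matrix of determinant 1. -/
theorem result {F : Type*} [Field F] [Fintype F] (n : ℕ) (hn : 1 ≤ n) (U₁ U₂ : Submodule F (Fin n → F)) (h : Module.finrank F U₁ = Module.finrank F U₂) : ∃ g : Matrix.SpecialLinearGroup (Fin n) F, U₁.map ((Matrix.SpecialLinearGroup.toLin' g : (Fin n → F) ≃ₗ[F] (Fin n → F)) : (Fin n → F) →ₗ[F] (Fin n → F)) = U₂ := by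
  classical
  by_cases h0 : U₂ = ⊥
  · refine ⟨1, ?_⟩
    subst h0
    rw [finrank_bot] at h
    rw [Submodule.finrank_eq_zero.1 h, Submodule.map_bot]
  obtain ⟨C₁, hC₁⟩ := U₁.exists_isCompl
  obtain ⟨C₂, hC₂⟩ := U₂.exists_isCompl
  have hC : Module.finrank F C₁ = Module.finrank F C₂ := by
    have h1 := Submodule.finrank_add_eq_of_isCompl hC₁
    have h2 := Submodule.finrank_add_eq_of_isCompl hC₂
    omega
  let e : (Fin n → F) ≃ₗ[F] (Fin n → F) := (Submodule.prodEquivOfIsCompl U₁ C₁ hC₁).symm ≪≫ₗ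
    ((LinearEquiv.ofFinrankEq _ _ h).prodCongr (LinearEquiv.ofFinrankEq _ _ hC)) ≪≫ₗ
    Submodule.prodEquivOfIsCompl U₂ C₂ hC₂
  have he : ∀ u ∈ U₁, e u ∈ U₂ := fun u hu => by
    have h1 : (Submodule.prodEquivOfIsCompl U₁ C₁ hC₁).symm u = (⟨u, hu⟩, 0) :=
      Submodule.prodEquivOfIsCompl_symm_apply_left U₁ C₁ hC₁ ⟨u, hu⟩
    simp [e, h1]
  obtain ⟨v, hv, hv0⟩ := Submodule.exists_mem_ne_zero_of_ne_bot h0
  obtain ⟨φ, hφ⟩ := Module.Projective.exists_dual_eq_one F hv0
  set d := LinearMap.det (e : (Fin n → F) →ₗ[F] (Fin n → F)) with hd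
  have hd0 : d ≠ 0 := (LinearEquiv.isUnit_det' e).ne_zero
  let L : (Fin n → F) →ₗ[F] (Fin n → F) := (LinearMap.transvection ((d⁻¹ - 1) • φ) v).comp (e : (Fin n → F) →ₗ[F] (Fin n → F))
  have hL : LinearMap.det L = 1 := by
    rw [LinearMap.det_comp, LinearMap.transvection.det, LinearMap.smul_apply, hφ, ← hd]
    simp [hd0]
  refine ⟨⟨LinearMap.toMatrix' L, by rw [LinearMap.det_toMatrix']; exact hL⟩, ?_⟩
  have hg : ((Matrix.SpecialLinearGroup.toLin' (⟨LinearMap.toMatrix' L, by rw [LinearMap.det_toMatrix']; exact hL⟩ : Matrix.SpecialLinearGroup (Fin n) F) : (Fin n → F) ≃ₗ[F] (Fin n → F)) : (Fin n → F) →ₗ[F] (Fin n → F)) = L := by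
    refine LinearMap.ext fun x => ?_
    show Matrix.toLin' (LinearMap.toMatrix' L) x = L x
    rw [Matrix.toLin'_toMatrix']
  rw [hg]
  have hle : U₁.map L ≤ U₂ := by
    rintro _ ⟨u, hu, rfl⟩
    show e u + ((d⁻¹ - 1) • φ) (e u) • v ∈ U₂
    exact U₂.add_mem (he u hu) (U₂.smul_mem _ hv)
  have hinj : Function.Injective L :=
    (LinearMap.equivOfDetNeZero L (by rw [hL]; exact one_ne_zero)).injective
  refine Submodule.eq_of_le_of_finrank_eq hle ?_
  rw [← h, LinearEquiv.finrank_eq (Submodule.equivMapOfInjective L hinj U₁).symm]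

end Cfsg.Agent.S2552
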