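import Cfsg.Statements.S2561
import Cfsg.Agent.Lib.Linear.OrthOrderStd
import Cfsg.Agent.Lib.Linear.OrthStdBasis

set_option autoImplicit false
open Cfsg Cfsg.Lib.Linear.Orth

namespace Cfsg.Agent.S2561

abbrev V (m : ℕ) := Fin m ⊕ Fin m → ZMod 2
abbrev W (m : ℕ) := (Fin (m - 1) ⊕ Fin (m - 1)) ⊕ Fin 2 → ZMod 2

theorem zmod_two (c : ZMod 2) : c = 0 ∨ c = 1 := by
  revert c; decide

/-- A quadratic form from a `Space`. -/
def qf {ι : Type} [Fintype ι] [DecidableEq ι] {F : Type*} [Field F] {Q : (ι → F) → F}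
    {B : LinearMap.BilinForm F (ι → F)} (C : Space Q B) : QuadraticForm F (ι → F) :=
  QuadraticMap.ofPolar Q (fun c v => by rw [C.smul, smul_eq_mul, sq])
    (fun x x' y => by rw [C.polar, C.polar, C.polar, map_add, LinearMap.add_apply])
    (fun c x y => by rw [C.polar, C.polar, map_smul, LinearMap.smul_apply])

theorem eq_of_basis {κ U F : Type*} [Field F] [AddCommGroup U] [Module F U]
    (b : Module.Basis κ F U) (Q₁ Q₂ : QuadraticForm F U) (h1 : ∀ k, Q₁ (b k) = Q₂ (b k))
    (h2 : ∀ k l, QuadraticMap.polar ⇑Q₁ (b k) (b l) = QuadraticMap.polar ⇑Q₂ (b k) (b l)) (v : U) :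
    Q₁ v = Q₂ v := by
  have hB : QuadraticMap.polarBilin Q₁ = QuadraticMap.polarBilin Q₂ :=
    LinearMap.ext_basis b b fun k l => h2 k l
  have hv : v ∈ Submodule.span F (Set.range b) := b.span_eq ▸ Submodule.mem_top
  induction hv using Submodule.span_induction with
  | mem v hv => obtain ⟨k, rfl⟩ := hv; exact h1 k
  | zero => simp
  | add u w _ _ hu hw =>
    rw [QuadraticMap.map_add (⇑Q₁), QuadraticMap.map_add (⇑Q₂), hu, hw]
    congr 1
    exact LinearMap.congr_fun (LinearMap.congr_fun hB u) w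
  | smul r u _ hu => rw [QuadraticMap.map_smul, QuadraticMap.map_smul, hu]

def P (m : ℕ) (q : V m → ZMod 2) : Prop :=
  ∀ u v : V m, q (u + v) = q u + q v + (Cfsg.quadFormPlus m (ZMod 2) (u + v) - Cfsg.quadFormPlus m (ZMod 2) u - Cfsg.quadFormPlus m (ZMod 2) v)

def Pl (m : ℕ) (q : V m → ZMod 2) : Prop :=
  ∃ g : V m ≃ₗ[ZMod 2] V m, ∀ v, q v = Cfsg.quadFormPlus m (ZMod 2) (g v)

def Mi (m : ℕ) (q : V m → ZMod 2) : Prop :=
  ∃ g : V m ≃ₗ[ZMod 2] W m, ∀ v, q v = Cfsg.quadFormMinus (m - 1) (ZMod 2) 1 1 (g v)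

theorem aniso : ∀ z₁ z₂ : ZMod 2, z₁ ^ 2 + 1 * z₁ * z₂ + 1 * z₂ ^ 2 = 0 → z₁ = 0 ∧ z₂ = 0 := by
  decide

theorem dichotomy (m : ℕ) (hm : 1 ≤ m) (q : V m → ZMod 2) (hq : P m q) : Pl m q ∨ Mi m q := by
  obtain ⟨BP, CP⟩ := exists_space_plus (F := ZMod 2) m
  obtain ⟨BM, CM⟩ := exists_space_minus (F := ZMod 2) (m - 1) 1 1 aniso
  have hp : ∀ u v, QuadraticMap.polar q u v = BP u v := fun u v => by
    rw [← CP.polar]; simp only [QuadraticMap.polar]; rw [hq]; ring
  have hq0 : q 0 = 0 := by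
    have h1 := hq 0 0
    simpa [Cfsg.quadFormPlus] using h1
  let Qq : QuadraticForm (ZMod 2) (V m) := QuadraticMap.ofPolar q
    (fun c v => by rcases zmod_two c with rfl | rfl <;> simp [hq0])
    (fun x x' y => by rw [hp, hp, hp, map_add, LinearMap.add_apply])
    (fun c x y => by rw [hp, hp, map_smul, LinearMap.smul_apply])
  have hnd : (QuadraticMap.polarBilin Qq).Nondegenerate := by
    have h1 : ∀ x y, QuadraticMap.polarBilin Qq x y = BP x y := fun x y => hp x y
    exact ⟨fun v hv => CP.nondeg' fun u => by rw [← h1]; exact hv u,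
      fun v hv => CP.nondeg' fun u => by rw [CP.symm, ← h1]; exact hv u⟩
  have hV : Module.finrank (ZMod 2) (V m) = 2 * m := by simp; ring
  rcases std_basis_even hm hV Qq hnd with ⟨b, hs, hef, hee⟩ | ⟨b, ζ, hζ, hs, hef, hee, hpl, hx, hxy, hy⟩
  · left
    refine ⟨b.equivFun, fun v => ?_⟩
    refine eq_of_basis b Qq ((qf CP).comp b.equivFun.toLinearMap) (fun k => ?_) (fun k l => ?_) v
    · have hbk : b.equivFun (b k) = Pi.single k 1 := by funext j; simp [Pi.single_apply, Finsupp.single_apply, eq_comm]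
      show Qq (b k) = Cfsg.quadFormPlus m (ZMod 2) (b.equivFun (b k))
      rw [hbk]
      rcases k with i | i
      · rw [(hs i).1]; simp [Cfsg.quadFormPlus, Pi.single_apply]
      · rw [(hs i).2]; simp [Cfsg.quadFormPlus, Pi.single_apply]
    · have hbk : ∀ k, b.equivFun (b k) = Pi.single k 1 := fun k => by funext j; simp [Pi.single_apply, Finsupp.single_apply, eq_comm]
      show _ = QuadraticMap.polar (fun v => Cfsg.quadFormPlus m (ZMod 2) (b.equivFun v)) (b k) (b l)
      have he : QuadraticMap.polar (fun v => Cfsg.quadFormPlus m (ZMod 2) (b.equivFun v)) (b k) (b l) =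
          QuadraticMap.polar (Cfsg.quadFormPlus m (ZMod 2)) (b.equivFun (b k)) (b.equivFun (b l)) := by
        simp only [QuadraticMap.polar, map_add]
      rw [he, hbk, hbk, polar_plus_apply]
      rcases k with i | i <;> rcases l with j | j
      · rw [(hee i j).1]; simp [Pi.single_apply]
      · rw [hef i j]; simp [Pi.single_apply, eq_comm]
      · rw [QuadraticMap.polar_comm, hef j i]; simp [Pi.single_apply, eq_comm]
      · rw [(hee i j).2]; simp [Pi.single_apply]
  · right
    have hζ1 : ζ = 1 := by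
      rcases zmod_two ζ with rfl | rfl
      · exact absurd (by simp) (hζ 0)
      · rfl
    subst hζ1
    refine ⟨b.equivFun, fun v => ?_⟩
    refine eq_of_basis b Qq ((qf CM).comp b.equivFun.toLinearMap) (fun k => ?_) (fun k l => ?_) v
    · have hbk : b.equivFun (b k) = Pi.single k 1 := by funext j; simp [Pi.single_apply, Finsupp.single_apply, eq_comm]
      show Qq (b k) = Cfsg.quadFormMinus (m - 1) (ZMod 2) 1 1 (b.equivFun (b k))
      rw [hbk]
      rcases k with (i | i) | i
      · rw [(hs i).1]; simp [Cfsg.quadFormMinus, Pi.single_apply]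
      · rw [(hs i).2]; simp [Cfsg.quadFormMinus, Pi.single_apply]
      · fin_cases i
        · exact hx.trans (by simp [Cfsg.quadFormMinus, Pi.single_apply])
        · exact hy.trans (by simp [Cfsg.quadFormMinus, Pi.single_apply])
    · have hbk : ∀ k, b.equivFun (b k) = Pi.single k 1 := fun k => by funext j; simp [Pi.single_apply, Finsupp.single_apply, eq_comm]
      show _ = QuadraticMap.polar (fun v => Cfsg.quadFormMinus (m - 1) (ZMod 2) 1 1 (b.equivFun v)) (b k) (b l)
      have he : QuadraticMap.polar (fun v => Cfsg.quadFormMinus (m - 1) (ZMod 2) 1 1 (b.equivFun v)) (b k) (b l) =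
          QuadraticMap.polar (Cfsg.quadFormMinus (m - 1) (ZMod 2) 1 1) (b.equivFun (b k)) (b.equivFun (b l)) := by
        simp only [QuadraticMap.polar, map_add]
      rw [he, hbk, hbk]
      have hpm : ∀ x y : W m, QuadraticMap.polar (Cfsg.quadFormMinus (m - 1) (ZMod 2) 1 1) x y =
          (∑ i, (x (.inl (.inl i)) * y (.inl (.inr i)) + x (.inl (.inr i)) * y (.inl (.inl i)))) +
            (x (.inr 0) * y (.inr 1) + x (.inr 1) * y (.inr 0)) := fun x y => by
        simp only [QuadraticMap.polar, Cfsg.quadFormMinus, Pi.add_apply]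
        have : ∀ i : Fin (m - 1), (x (.inl (.inl i)) + y (.inl (.inl i))) * (x (.inl (.inr i)) + y (.inl (.inr i)))
            = x (.inl (.inl i)) * x (.inl (.inr i)) + y (.inl (.inl i)) * y (.inl (.inr i)) +
              (x (.inl (.inl i)) * y (.inl (.inr i)) + x (.inl (.inr i)) * y (.inl (.inl i))) :=
          fun i => by ring
        simp only [this, Finset.sum_add_distrib]
        have h2 : (2 : ZMod 2) = 0 := rfl
        linear_combination (x (.inr 0) * y (.inr 0) + x (.inr 1) * y (.inr 1)) * h2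
      rw [hpm]
      have hxx : QuadraticMap.polar ⇑Qq (b (.inr 0)) (b (.inr 0)) = 0 := by
        rw [QuadraticMap.polar_self, hx]; rfl
      have hyy : QuadraticMap.polar ⇑Qq (b (.inr 1)) (b (.inr 1)) = 0 := by
        rw [QuadraticMap.polar_self, hy]; rfl
      have hyx : QuadraticMap.polar ⇑Qq (b (.inr 1)) (b (.inr 0)) = 1 := by
        rw [QuadraticMap.polar_comm]; exact hxy
      rcases k with (i | i) | i <;> rcases l with (j | j) | j
      · rw [(hee i j).1]; simp [Pi.single_apply]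
      · rw [hef i j]; simp [Pi.single_apply, eq_comm]
      · rw [(hpl i j).1]; simp [Pi.single_apply]
      · rw [QuadraticMap.polar_comm, hef j i]; simp [Pi.single_apply, eq_comm]
      · rw [(hee i j).2]; simp [Pi.single_apply]
      · rw [(hpl i j).2]; simp [Pi.single_apply]
      · rw [QuadraticMap.polar_comm, (hpl j i).1]; simp [Pi.single_apply]
      · rw [QuadraticMap.polar_comm, (hpl j i).2]; simp [Pi.single_apply]
      · fin_cases i <;> fin_cases j
        · exact hxx.trans (by simp [Pi.single_apply])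
        · exact hxy.trans (by simp [Pi.single_apply])
        · exact hyx.trans (by simp [Pi.single_apply])
        · exact hyy.trans (by simp [Pi.single_apply])

theorem classify (m : ℕ) (hm : 1 ≤ m) : ∃ B : LinearMap.BilinForm (ZMod 2) (V m),
    Space (Cfsg.quadFormPlus m (ZMod 2)) B ∧ ∀ a : V m,
      (Pl m (fun v => Cfsg.quadFormPlus m (ZMod 2) v + B a v) ↔ Cfsg.quadFormPlus m (ZMod 2) a = 0) ∧
      (Mi m (fun v => Cfsg.quadFormPlus m (ZMod 2) v + B a v) ↔ Cfsg.quadFormPlus m (ZMod 2) a = 1) := by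
  classical
  obtain ⟨B, C⟩ := exists_space_plus (F := ZMod 2) m
  set Q := Cfsg.quadFormPlus m (ZMod 2) with hQ
  let qa : V m → (V m → ZMod 2) := fun a v => Q v + B a v
  have hPa : ∀ a, P m (qa a) := fun a u v => by
    show Q (u + v) + B a (u + v) = _
    rw [map_add]
    simp only [qa, ← hQ]
    ring
  have hcard : Nat.card (V m) = 2 ^ (2 * m) := by simp [two_mul]
  set Zp := Nat.card {x : V m // Q x = 0} with hZp
  obtain ⟨k, rfl⟩ : ∃ k, m = k + 1 := ⟨m - 1, by omega⟩
  set Zm := Nat.card {x : (Fin k ⊕ Fin k) ⊕ Fin 2 → ZMod 2 // Cfsg.quadFormMinus k (ZMod 2) 1 1 x = 0} with hZm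
  have hZp' : Zp = 2 ^ (2 * k + 1) + 2 ^ k := by
    have h := (counts_plus (F := ZMod 2) (k + 1)).1 (by omega)
    rw [Nat.card_zmod] at h
    have : (Zp : ℤ) = ((2 ^ (2 * k + 1) + 2 ^ k : ℕ) : ℤ) := by
      rw [hZp, hQ, h, show 0 + (k + 1) - 1 = k by omega]
      push_cast; ring
    exact_mod_cast this
  have hZm' : Zm + 2 ^ k = 2 ^ (2 * k + 1) := by
    have h := counts_minus (F := ZMod 2) (a := 1) (b := 1) k aniso
    rw [Nat.card_zmod] at h
    rcases eq_or_ne k 0 with rfl | hk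
    · have := h.2.1 rfl
      rw [← hZm] at this
      have h1 : Zm = 1 := by exact_mod_cast this
      simp [h1]
    · have := h.1 hk
      have h2 : ((Zm + 2 ^ k : ℕ) : ℤ) = ((2 ^ (2 * k + 1) : ℕ) : ℤ) := by
        push_cast
        rw [hZm]
        rw [this, show 2 + k - 1 = k + 1 by omega]
        push_cast; ring
      exact_mod_cast h2
  have hpow : 0 < 2 ^ k := by positivity
  have hZpl : ∀ q, Pl (k + 1) q → Nat.card {v // q v = 0} = Zp := fun q ⟨g, hg⟩ =>
    Nat.card_congr (g.toEquiv.subtypeEquiv fun v => by rw [hg]; rfl)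
  have hZmi : ∀ q, Mi (k + 1) q → Nat.card {v // q v = 0} = Zm := fun q ⟨g, hg⟩ =>
    Nat.card_congr (g.toEquiv.subtypeEquiv fun v => by rw [hg]; rfl)
  have hqa : ∀ a v, qa a v = Q (v + a) + Q a := fun a v => by
    show Q v + B a v = _
    rw [C.add, C.symm v a]
    have h2 : (2 : ZMod 2) = 0 := rfl
    linear_combination -(Q a) * h2
  have hzero : ∀ a, Nat.card {v // qa a v = 0} = Nat.card {v // Q v = Q a} := fun a =>
    Nat.card_congr ((Equiv.addRight a).subtypeEquiv fun v => by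
      rw [hqa, Equiv.coe_addRight]
      rcases zmod_two (Q (v + a)) with h | h <;> rcases zmod_two (Q a) with h' | h' <;> simp [h, h']
      all_goals decide)
  have hone : Nat.card {v : V (k + 1) // Q v = 1} + Zp = 2 ^ (2 * (k + 1)) := by
    rw [← hcard, ← Nat.card_sum]
    refine Nat.card_congr ((Equiv.sumCongr (Equiv.refl _) (Equiv.subtypeEquivRight fun v => ?_)).trans
      (Equiv.sumCompl fun v => Q v = 1))
    rcases zmod_two (Q v) with h | h <;> simp [h]
  have hexp : (2 : ℕ) ^ (2 * (k + 1)) = 2 * 2 ^ (2 * k + 1) := by ring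
  have hnum : Zp ≠ Zm ∧ Zp ≠ Nat.card {v : V (k + 1) // Q v = 1} ∧ Zm = Nat.card {v : V (k + 1) // Q v = 1} := by
    rw [hexp] at hone
    clear_value Zp Zm
    generalize Nat.card {v : V (k + 1) // Q v = 1} = o at hone ⊢
    generalize 2 ^ (2 * k + 1) = A at hZp' hZm' hone
    generalize 2 ^ k = D at hZp' hZm' hpow
    refine ⟨?_, ?_, ?_⟩ <;> omega
  have hPl : ∀ a, Pl (k + 1) (qa a) ↔ Q a = 0 := by
    intro a
    constructor
    · intro h
      rcases zmod_two (Q a) with h' | h'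
      · exact h'
      · have h1 := hzero a
        rw [hZpl _ h, h'] at h1
        exact absurd h1 hnum.2.1
    · intro h
      rcases dichotomy (k + 1) hm (qa a) (hPa a) with h' | h'
      · exact h'
      · have h1 := hzero a
        rw [hZmi _ h', h, ← hZp] at h1
        exact absurd h1.symm hnum.1
  have hMi : ∀ a, Mi (k + 1) (qa a) ↔ Q a = 1 := by
    intro a
    constructor
    · intro h
      rcases zmod_two (Q a) with h' | h'
      · have h1 := hzero a
        rw [hZmi _ h, h', ← hZp] at h1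
        exact absurd h1.symm hnum.1
      · exact h'
    · intro h
      rcases dichotomy (k + 1) hm (qa a) (hPa a) with h' | h'
      · have h1 := (hPl a).1 h'
        rw [h] at h1
        exact absurd h1 one_ne_zero
      · exact h'
  exact ⟨B, C, fun a => ⟨hPl a, hMi a⟩⟩

theorem main (m : ℕ) (hm : 1 ≤ m) :
    Nat.card {q : V m → ZMod 2 // P m q} = 2 ^ (2 * m) ∧
    (∀ q, P m q → Pl m q ∨ Mi m q) ∧
    Nat.card {q : V m → ZMod 2 // P m q ∧ Pl m q} = 2 ^ (2 * m - 1) + 2 ^ (m - 1) ∧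
    Nat.card {q : V m → ZMod 2 // P m q ∧ Mi m q} = 2 ^ (2 * m - 1) - 2 ^ (m - 1) := by
  classical
  obtain ⟨B, C⟩ := exists_space_plus (F := ZMod 2) m
  set Q := Cfsg.quadFormPlus m (ZMod 2) with hQ
  let qa : V m → (V m → ZMod 2) := fun a v => Q v + B a v
  have hPa : ∀ a, P m (qa a) := fun a u v => by
    show Q (u + v) + B a (u + v) = _
    rw [map_add]
    simp only [qa, ← hQ]
    ring
  have hB : ∀ u v, B u v = ∑ i, (u (.inl i) * v (.inr i) + u (.inr i) * v (.inl i)) := fun u v =>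
    (C.polar u v).symm.trans (polar_plus_apply m u v)
  let E : V m ≃ {q : V m → ZMod 2 // P m q} := Equiv.ofBijective (fun a => ⟨qa a, hPa a⟩) ⟨fun a a' h => by
      have h1 : ∀ v, B a v = B a' v := fun v => add_left_cancel (congrFun (congrArg Subtype.val h) v)
      exact sub_eq_zero.1 (C.nondeg' fun u => by rw [map_sub, LinearMap.sub_apply, h1, sub_self]), fun ⟨q, hq⟩ => by
      let d : V m →+ ZMod 2 := AddMonoidHom.mk' (fun v => q v - Q v) fun u v => by rw [hq, ← hQ]; ring
      have hd : ∀ v, d v = ∑ j, v j * d (Pi.single j 1) := fun v => by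
        conv_lhs => rw [pi_eq_sum_univ' v]
        rw [map_sum]
        refine Finset.sum_congr rfl fun j _ => ?_
        rcases zmod_two (v j) with h | h <;> rw [h] <;> simp
      let a : V m := Sum.elim (fun i => d (Pi.single (.inr i) 1)) (fun i => d (Pi.single (.inl i) 1))
      refine ⟨a, Subtype.ext (funext fun v => ?_)⟩
      show Q v + B a v = q v
      have h1 : B a v = d v := by
        rw [hB, hd, Fintype.sum_sum_type, Finset.sum_add_distrib, add_comm]
        simp [a, mul_comm]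
      rw [h1]
      show Q v + (q v - Q v) = q v
      ring⟩
  have hcard : Nat.card (V m) = 2 ^ (2 * m) := by simp [two_mul]
  set Zp := Nat.card {x : V m // Q x = 0} with hZp
  obtain ⟨k, rfl⟩ : ∃ k, m = k + 1 := ⟨m - 1, by omega⟩
  set Zm := Nat.card {x : (Fin k ⊕ Fin k) ⊕ Fin 2 → ZMod 2 // Cfsg.quadFormMinus k (ZMod 2) 1 1 x = 0} with hZm
  have hZp' : Zp = 2 ^ (2 * k + 1) + 2 ^ k := by
    have h := (counts_plus (F := ZMod 2) (k + 1)).1 (by omega)
    rw [Nat.card_zmod] at h
    have : (Zp : ℤ) = ((2 ^ (2 * k + 1) + 2 ^ k : ℕ) : ℤ) := by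
      rw [hZp, hQ, h, show 0 + (k + 1) - 1 = k by omega]
      push_cast; ring
    exact_mod_cast this
  have hZm' : Zm + 2 ^ k = 2 ^ (2 * k + 1) := by
    have h := counts_minus (F := ZMod 2) (a := 1) (b := 1) k aniso
    rw [Nat.card_zmod] at h
    rcases eq_or_ne k 0 with rfl | hk
    · have := h.2.1 rfl
      rw [← hZm] at this
      have h1 : Zm = 1 := by exact_mod_cast this
      simp [h1]
    · have := h.1 hk
      have h2 : ((Zm + 2 ^ k : ℕ) : ℤ) = ((2 ^ (2 * k + 1) : ℕ) : ℤ) := by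
        push_cast
        rw [hZm]
        rw [this, show 2 + k - 1 = k + 1 by omega]
        push_cast; ring
      exact_mod_cast h2
  have hpow : 0 < 2 ^ k := by positivity
  have hZpl : ∀ q, Pl (k + 1) q → Nat.card {v // q v = 0} = Zp := fun q ⟨g, hg⟩ =>
    Nat.card_congr (g.toEquiv.subtypeEquiv fun v => by rw [hg]; rfl)
  have hZmi : ∀ q, Mi (k + 1) q → Nat.card {v // q v = 0} = Zm := fun q ⟨g, hg⟩ =>
    Nat.card_congr (g.toEquiv.subtypeEquiv fun v => by rw [hg]; rfl)
  have hqa : ∀ a v, qa a v = Q (v + a) + Q a := fun a v => by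
    show Q v + B a v = _
    rw [C.add, C.symm v a]
    have h2 : (2 : ZMod 2) = 0 := rfl
    linear_combination -(Q a) * h2
  have hzero : ∀ a, Nat.card {v // qa a v = 0} = Nat.card {v // Q v = Q a} := fun a =>
    Nat.card_congr ((Equiv.addRight a).subtypeEquiv fun v => by
      rw [hqa, Equiv.coe_addRight]
      rcases zmod_two (Q (v + a)) with h | h <;> rcases zmod_two (Q a) with h' | h' <;> simp [h, h']
      all_goals decide)
  have hone : Nat.card {v : V (k + 1) // Q v = 1} + Zp = 2 ^ (2 * (k + 1)) := by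
    rw [← hcard, ← Nat.card_sum]
    refine Nat.card_congr ((Equiv.sumCongr (Equiv.refl _) (Equiv.subtypeEquivRight fun v => ?_)).trans
      (Equiv.sumCompl fun v => Q v = 1))
    rcases zmod_two (Q v) with h | h <;> simp [h]
  have hexp : (2 : ℕ) ^ (2 * (k + 1)) = 2 * 2 ^ (2 * k + 1) := by ring
  have hnum : Zp ≠ Zm ∧ Zp ≠ Nat.card {v : V (k + 1) // Q v = 1} ∧ Zm = Nat.card {v : V (k + 1) // Q v = 1} := by
    rw [hexp] at hone
    clear_value Zp Zm
    generalize Nat.card {v : V (k + 1) // Q v = 1} = o at hone ⊢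
    generalize 2 ^ (2 * k + 1) = A at hZp' hZm' hone
    generalize 2 ^ k = D at hZp' hZm' hpow
    refine ⟨?_, ?_, ?_⟩ <;> omega
  have hPl : ∀ a, Pl (k + 1) (qa a) ↔ Q a = 0 := by
    intro a
    constructor
    · intro h
      rcases zmod_two (Q a) with h' | h'
      · exact h'
      · have h1 := hzero a
        rw [hZpl _ h, h'] at h1
        exact absurd h1 hnum.2.1
    · intro h
      rcases dichotomy (k + 1) hm (qa a) (hPa a) with h' | h'
      · exact h'
      · have h1 := hzero a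
        rw [hZmi _ h', h, ← hZp] at h1
        exact absurd h1.symm hnum.1
  have hMi : ∀ a, Mi (k + 1) (qa a) ↔ Q a = 1 := by
    intro a
    constructor
    · intro h
      rcases zmod_two (Q a) with h' | h'
      · have h1 := hzero a
        rw [hZmi _ h, h', ← hZp] at h1
        exact absurd h1.symm hnum.1
      · exact h'
    · intro h
      rcases dichotomy (k + 1) hm (qa a) (hPa a) with h' | h'
      · have h1 := (hPl a).1 h'
        rw [h] at h1
        exact absurd h1 one_ne_zero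
      · exact h'
  refine ⟨(Nat.card_congr E).symm.trans hcard, dichotomy (k + 1) hm, ?_, ?_⟩
  · have h := Nat.card_congr ((E.subtypeEquiv (p := fun a => Q a = 0) (q := fun q => Pl (k + 1) q.1)
      fun a => (hPl a).symm).trans (Equiv.subtypeSubtypeEquivSubtypeInter (P (k + 1)) (Pl (k + 1))))
    rw [← h, ← hZp, hZp']
    congr 1 <;> congr 1 <;> omega
  · have h := Nat.card_congr ((E.subtypeEquiv (p := fun a => Q a = 1) (q := fun q => Mi (k + 1) q.1)
      fun a => (hMi a).symm).trans (Equiv.subtypeSubtypeEquivSubtypeInter (P (k + 1)) (Mi (k + 1))))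
    rw [← h, show 2 * (k + 1) - 1 = 2 * k + 1 by omega, show k + 1 - 1 = k by omega, ← hnum.2.2]
    exact Nat.eq_sub_of_add_eq hZm'

/-- Fix the non-singular alternating form on the 2m-dimensional space over the field of two elements obtained by polarizing the plus-type form Σ xᵢyᵢ (m ≥ 1). The functions q on the space with q(u + v) = q(u) + q(v) + f(u, v) (the quadratic forms polarizing to f) number 2^(2m); each is equivalent under an invertible linear map either to the plus-type form or to the minus-type form Σ xᵢyᵢ + (z₁² + z₁z₂ + z₂²); and those of plus type number 2^(2m−1) + 2^(m−1), those of minus type 2^(2m−1) − 2^(m−1). -/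
theorem result (m : ℕ) (hm : 1 ≤ m) :
    Nat.card {q : (Fin m ⊕ Fin m → ZMod 2) → ZMod 2 // (∀ u v : (Fin m ⊕ Fin m → ZMod 2), q (u + v) = q u + q v + (Cfsg.quadFormPlus m (ZMod 2) (u + v) - Cfsg.quadFormPlus m (ZMod 2) u - Cfsg.quadFormPlus m (ZMod 2) v))} = 2 ^ (2 * m) ∧
    (∀ q : (Fin m ⊕ Fin m → ZMod 2) → ZMod 2, (∀ u v : (Fin m ⊕ Fin m → ZMod 2), q (u + v) = q u + q v + (Cfsg.quadFormPlus m (ZMod 2) (u + v) - Cfsg.quadFormPlus m (ZMod 2) u - Cfsg.quadFormPlus m (ZMod 2) v)) →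
      (∃ g : (Fin m ⊕ Fin m → ZMod 2) ≃ₗ[ZMod 2] (Fin m ⊕ Fin m → ZMod 2), ∀ v, q v = Cfsg.quadFormPlus m (ZMod 2) (g v)) ∨
      (∃ g : (Fin m ⊕ Fin m → ZMod 2) ≃ₗ[ZMod 2] ((Fin (m - 1) ⊕ Fin (m - 1)) ⊕ Fin 2 → ZMod 2), ∀ v, q v = Cfsg.quadFormMinus (m - 1) (ZMod 2) 1 1 (g v))) ∧
    Nat.card {q : (Fin m ⊕ Fin m → ZMod 2) → ZMod 2 // (∀ u v : (Fin m ⊕ Fin m → ZMod 2), q (u + v) = q u + q v + (Cfsg.quadFormPlus m (ZMod 2) (u + v) - Cfsg.quadFormPlus m (ZMod 2) u - Cfsg.quadFormPlus m (ZMod 2) v)) ∧ ∃ g : (Fin m ⊕ Fin m → ZMod 2) ≃ₗ[ZMod 2] (Fin m ⊕ Fin m → ZMod 2), ∀ v, q v = Cfsg.quadFormPlus m (ZMod 2) (g v)} = 2 ^ (2 * m - 1) + 2 ^ (m - 1) ∧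
    Nat.card {q : (Fin m ⊕ Fin m → ZMod 2) → ZMod 2 // (∀ u v : (Fin m ⊕ Fin m → ZMod 2), q (u + v) = q u + q v + (Cfsg.quadFormPlus m (ZMod 2) (u + v) - Cfsg.quadFormPlus m (ZMod 2) u - Cfsg.quadFormPlus m (ZMod 2) v)) ∧ ∃ g : (Fin m ⊕ Fin m → ZMod 2) ≃ₗ[ZMod 2] ((Fin (m - 1) ⊕ Fin (m - 1)) ⊕ Fin 2 → ZMod 2), ∀ v, q v = Cfsg.quadFormMinus (m - 1) (ZMod 2) 1 1 (g v)} = 2 ^ (2 * m - 1) - 2 ^ (m - 1) := by
  exact main m hm

end Cfsg.Agent.S2561
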