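import Cfsg.Statements.S2562


set_option autoImplicit false
open Cfsg

namespace Cfsg.Agent.S2562

theorem isotropic_bound (m : ℕ) (U : Submodule (ZMod 2) (Fin m ⊕ Fin m → ZMod 2))
    (h : ∀ x ∈ U, ∀ y ∈ U, (∑ i : Fin m, (x (.inl i) * y (.inr i) + x (.inr i) * y (.inl i))) = 0) :
    Module.finrank (ZMod 2) ↥U ≤ m := by
  classical
  let S : (Fin m ⊕ Fin m → ZMod 2) →ₗ[ZMod 2] (Fin m ⊕ Fin m → ZMod 2) :=
    LinearMap.funLeft (ZMod 2) (ZMod 2) Sum.swap
  have hS : Function.Injective S := LinearMap.funLeft_injective_of_surjective _ _ _ (fun x => ⟨x.swap, Sum.swap_swap x⟩)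
  let D : (Fin m ⊕ Fin m → ZMod 2) →ₗ[ZMod 2] Module.Dual (ZMod 2) (Fin m ⊕ Fin m → ZMod 2) :=
    dotProductBilin (ZMod 2) (ZMod 2)
  have hD : Function.Injective D := fun x y hxy => funext fun i => by
    have := LinearMap.congr_fun hxy (Pi.single i 1)
    simpa [D] using this
  have hle : U.map (D.comp S) ≤ U.dualAnnihilator := by
    rintro φ ⟨x, hx, rfl⟩
    rw [Submodule.mem_dualAnnihilator]
    intro y hy
    have h1 := h x hx y hy
    show (S x) ⬝ᵥ y = 0
    rw [dotProduct, Fintype.sum_sum_type, ← h1, ← Finset.sum_add_distrib]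
    exact Finset.sum_congr rfl fun i _ => by simp [S, LinearMap.funLeft_apply, add_comm]
  have h1 := Submodule.finrank_mono hle
  rw [← LinearEquiv.finrank_eq (Submodule.equivMapOfInjective (D.comp S) (hD.comp hS) U)] at h1
  have h2 := Subspace.finrank_add_finrank_dualAnnihilator_eq U
  rw [Module.finrank_pi, Fintype.card_sum, Fintype.card_fin] at h2
  omega

theorem minus_no_lift {F : Type*} [Field F] {m : ℕ} (hm : 1 ≤ m) (ζ : F) (hζ : ∀ t : F, t ^ 2 + t + ζ ≠ 0)
    (L : (Fin m → F) →ₗ[F] ((Fin (m - 1) ⊕ Fin (m - 1)) ⊕ Fin 2 → F)) (hLinj : Function.Injective L)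
    (hQ : ∀ t, Cfsg.quadFormMinus (m - 1) F 1 ζ (L t) = 0) : False := by
  classical
  let πy : ((Fin (m - 1) ⊕ Fin (m - 1)) ⊕ Fin 2 → F) →ₗ[F] (Fin (m - 1) → F) :=
    { toFun := fun v i => v (.inl (.inr i))
      map_add' := fun _ _ => rfl
      map_smul' := fun _ _ => rfl }
  let πx : ((Fin (m - 1) ⊕ Fin (m - 1)) ⊕ Fin 2 → F) →ₗ[F] (Fin (m - 1) → F) :=
    { toFun := fun v i => v (.inl (.inl i))
      map_add' := fun _ _ => rfl
      map_smul' := fun _ _ => rfl }
  set K := LinearMap.ker (πy.comp L) with hK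
  have hKz : ∀ s ∈ K, ∀ j, L s (.inl (.inr j)) = 0 ∧ L s (.inr 0) = 0 ∧ L s (.inr 1) = 0 := by
    intro s hs j
    have hy : ∀ i, L s (.inl (.inr i)) = 0 := fun i => congrFun (LinearMap.mem_ker.1 hs) i
    have h0 := hQ s
    simp only [Cfsg.quadFormMinus, hy, mul_zero, Finset.sum_const_zero, zero_add, one_mul] at h0
    have hz1 : L s (.inr 1) = 0 := by
      by_contra hne
      apply hζ (L s (.inr 0) / L s (.inr 1))
      field_simp
      linear_combination h0
    rw [hz1] at h0
    simp at h0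
    exact ⟨hy j, h0, hz1⟩
  have hρinj : Function.Injective ((πx.comp L).domRestrict K) := by
    refine LinearMap.ker_eq_bot.1 (LinearMap.ker_eq_bot'.2 fun s hs => ?_)
    obtain ⟨s, hsK⟩ := s
    have hy : ∀ i, L s (.inl (.inr i)) = 0 := fun i => congrFun (LinearMap.mem_ker.1 hsK) i
    refine Subtype.ext (hLinj ?_)
    rw [ZeroMemClass.coe_zero, map_zero]
    show L s = 0
    have hz : L s (.inr 0) = 0 ∧ L s (.inr 1) = 0 := by
      have h0 := hQ s
      simp only [Cfsg.quadFormMinus, hy, mul_zero, Finset.sum_const_zero, zero_add, one_mul] at h0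
      have hz1 : L s (.inr 1) = 0 := by
        by_contra hne
        apply hζ (L s (.inr 0) / L s (.inr 1))
        field_simp
        linear_combination h0
      rw [hz1] at h0
      simp at h0
      exact ⟨h0, hz1⟩
    funext i
    rcases i with (i | i) | i
    · exact congrFun hs i
    · exact hy i
    · fin_cases i
      · exact hz.1
      · exact hz.2
  set A := LinearMap.range ((πx.comp L).domRestrict K) with hA
  set B := LinearMap.range (πy.comp L) with hB
  have hAK : Module.finrank F A = Module.finrank F K := LinearMap.finrank_range_of_inj hρinj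
  have hsum : Module.finrank F B + Module.finrank F K = m := by
    rw [hB, hK, LinearMap.finrank_range_add_finrank_ker, Module.finrank_fin_fun]
  have hle : B.map (dotProductEquiv F (Fin (m - 1)) : (Fin (m - 1) → F) →ₗ[F] Module.Dual F (Fin (m - 1) → F)) ≤ A.dualAnnihilator := by
    rintro _ ⟨_, ⟨t, rfl⟩, rfl⟩
    rw [Submodule.mem_dualAnnihilator]
    rintro _ ⟨⟨s, hs⟩, rfl⟩
    show dotProduct (πy (L t)) (πx (L s)) = 0
    have hst := hQ (s + t)
    have ht := hQ t
    have hy : ∀ i, L s (.inl (.inr i)) = 0 := fun i => congrFun (LinearMap.mem_ker.1 hs) i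
    rcases Nat.eq_zero_or_pos (m - 1) with h0 | h0
    · exact Finset.sum_eq_zero fun i _ => absurd i.2 (by omega)
    obtain ⟨-, hz0, hz1⟩ := hKz s hs ⟨0, h0⟩
    rw [map_add] at hst
    simp only [Cfsg.quadFormMinus, Pi.add_apply, hy, hz0, hz1, zero_add, add_mul, Finset.sum_add_distrib] at hst ht
    show ∑ i, L t (.inl (.inr i)) * L s (.inl (.inl i)) = 0
    simp only [mul_comm (L t (.inl (.inr _)))]
    linear_combination hst - ht
  have h1 := Submodule.finrank_mono hle
  rw [← LinearEquiv.finrank_eq (Submodule.equivMapOfInjective _ (dotProductEquiv F (Fin (m - 1))).injective B)] at h1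
  have h2 := Subspace.finrank_add_finrank_dualAnnihilator_eq A
  rw [Module.finrank_fin_fun] at h2
  omega

theorem minus_bound (k : ℕ) (U : Submodule (ZMod 2) ((Fin k ⊕ Fin k) ⊕ Fin 2 → ZMod 2))
    (hU : ∀ u ∈ U, Cfsg.quadFormMinus k (ZMod 2) 1 1 u = 0) : Module.finrank (ZMod 2) ↥U ≤ k := by
  classical
  by_contra! h
  let e := Module.finBasis (ZMod 2) ↥U
  have hli : LinearIndependent (ZMod 2) (fun i : Fin (k + 1) => ((e (Fin.castLE h i) : ↥U) : (Fin k ⊕ Fin k) ⊕ Fin 2 → ZMod 2)) :=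
    (e.linearIndependent.comp _ (Fin.castLE_injective h)).map' U.subtype U.ker_subtype
  let L := Fintype.linearCombination (ZMod 2) (fun i : Fin (k + 1) => ((e (Fin.castLE h i) : ↥U) : (Fin k ⊕ Fin k) ⊕ Fin 2 → ZMod 2))
  refine minus_no_lift (m := k + 1) (Nat.succ_pos k) 1 (by decide) L
    ((injective_iff_map_eq_zero L).mpr fun t ht => funext fun i => Fintype.linearIndependent_iff.mp hli t (by rw [← Fintype.linearCombination_apply]; exact ht) i) fun t => hU _ ?_
  rw [Fintype.linearCombination_apply]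
  exact U.sum_mem fun i _ => U.smul_mem _ (e _).2

/-- Witt indices over the field of two elements, m ≥ 1: for the plus-type form Σ xᵢyᵢ in dimension 2m some m-dimensional subspace is totally singular and no totally singular subspace has larger dimension; for the minus-type form Σ xᵢyᵢ + (z₁² + z₁z₂ + z₂²) in dimension 2m the maximal dimension of a totally singular subspace is m − 1. -/
theorem result (m : ℕ) (hm : 1 ≤ m) :
    (∃ U : Submodule (ZMod 2) (Fin m ⊕ Fin m → ZMod 2), (∀ u ∈ U, Cfsg.quadFormPlus m (ZMod 2) u = 0) ∧ Module.finrank (ZMod 2) ↥U = m) ∧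
    (∀ U : Submodule (ZMod 2) (Fin m ⊕ Fin m → ZMod 2), (∀ u ∈ U, Cfsg.quadFormPlus m (ZMod 2) u = 0) → Module.finrank (ZMod 2) ↥U ≤ m) ∧
    (∃ U : Submodule (ZMod 2) ((Fin (m - 1) ⊕ Fin (m - 1)) ⊕ Fin 2 → ZMod 2), (∀ u ∈ U, Cfsg.quadFormMinus (m - 1) (ZMod 2) 1 1 u = 0) ∧ Module.finrank (ZMod 2) ↥U = m - 1) ∧
    (∀ U : Submodule (ZMod 2) ((Fin (m - 1) ⊕ Fin (m - 1)) ⊕ Fin 2 → ZMod 2), (∀ u ∈ U, Cfsg.quadFormMinus (m - 1) (ZMod 2) 1 1 u = 0) → Module.finrank (ZMod 2) ↥U ≤ m - 1) := by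
  classical
  refine ⟨?_, ?_, ?_, ?_⟩
  · let L : (Fin m → ZMod 2) →ₗ[ZMod 2] (Fin m ⊕ Fin m → ZMod 2) :=
      { toFun := fun x => Sum.elim x 0
        map_add' := fun x y => by ext (i | i) <;> simp
        map_smul' := fun c x => by ext (i | i) <;> simp }
    have hL : Function.Injective L := fun x y h => funext fun i => congrFun h (Sum.inl i)
    refine ⟨LinearMap.range L, ?_, by rw [LinearMap.finrank_range_of_inj hL, Module.finrank_fin_fun]⟩
    rintro u ⟨x, rfl⟩
    simp [Cfsg.quadFormPlus, L]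
  · intro U hU
    let Q : (Fin m ⊕ Fin m → ZMod 2) → ZMod 2 := Cfsg.quadFormPlus m (ZMod 2)
    refine isotropic_bound m U ?_
    intro x hx y hy
    have h := hU _ (U.add_mem hx hy)
    have hx0 := hU x hx
    have hy0 := hU y hy
    simp only [Cfsg.quadFormPlus, Pi.add_apply, add_mul, mul_add, Finset.sum_add_distrib] at h hx0 hy0 ⊢
    rw [hx0, hy0] at h
    rw [Finset.sum_congr rfl fun i (_ : i ∈ Finset.univ) => mul_comm (x (Sum.inr i)) (y (Sum.inl i))]
    linear_combination h
  · let L : (Fin (m - 1) → ZMod 2) →ₗ[ZMod 2] ((Fin (m - 1) ⊕ Fin (m - 1)) ⊕ Fin 2 → ZMod 2) :=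
      { toFun := fun x => Sum.elim (Sum.elim x 0) 0
        map_add' := fun x y => by ext ((i | i) | i) <;> simp
        map_smul' := fun c x => by ext ((i | i) | i) <;> simp }
    have hL : Function.Injective L := fun x y h => funext fun i => congrFun h (Sum.inl (Sum.inl i))
    refine ⟨LinearMap.range L, ?_, by rw [LinearMap.finrank_range_of_inj hL, Module.finrank_fin_fun]⟩
    rintro u ⟨x, rfl⟩
    simp [Cfsg.quadFormMinus, L]
  · intro U hU
    exact minus_bound (m - 1) U hU

end Cfsg.Agent.S2562
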