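import Cfsg.Statements.S2563
import Cfsg.Agent.S2561
import Cfsg.Agent.Lib.Linear.PermOrth

set_option autoImplicit false
open Cfsg Cfsg.Lib.Linear.Orth Cfsg.Lib.Linear.PermModule

namespace Cfsg.Agent.S2563

open scoped Matrix

variable {P : Type*} [Fintype P]

theorem weight_cast (v : P → ZMod 2) :
    (((Finset.univ.filter fun p => v p = 1).card : ℕ) : ZMod 2) = ∑ p, v p := by
  rw [Finset.natCast_card_filter]
  refine Finset.sum_congr rfl fun p _ => ?_
  rcases Cfsg.Agent.S2561.zmod_two (v p) with h | h <;> simp [h]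

theorem halfWeight_add (v w : P → ZMod 2) (hv : ∑ p, v p = 0) (hw : ∑ p, w p = 0) :
    halfWeight (v + w) = halfWeight v + halfWeight w + v ⬝ᵥ w := by
  classical
  have hvw : ∑ p, (v + w) p = 0 := by simp [Finset.sum_add_distrib, hv, hw]
  have e2 : ∀ u : P → ZMod 2, ∑ p, u p = 0 → 2 ∣ (Finset.univ.filter fun p => u p = 1).card := fun u hu => by
    rw [← ZMod.natCast_eq_zero_iff _ 2, weight_cast, hu]
  obtain ⟨a, ha⟩ := e2 v hv
  obtain ⟨b, hb⟩ := e2 w hw
  obtain ⟨c, hc⟩ := e2 (v + w) hvw
  have key : (Finset.univ.filter fun p => (v + w) p = 1).card +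
      2 * (Finset.univ.filter fun p => v p = 1 ∧ w p = 1).card =
      (Finset.univ.filter fun p => v p = 1).card + (Finset.univ.filter fun p => w p = 1).card := by
    simp only [Finset.card_filter, Finset.mul_sum, ← Finset.sum_add_distrib]
    refine Finset.sum_congr rfl fun p _ => ?_
    rcases Cfsg.Agent.S2561.zmod_two (v p) with h | h <;>
      rcases Cfsg.Agent.S2561.zmod_two (w p) with h' | h' <;> simp [h, h'] <;> rfl
  have hdot : (((Finset.univ.filter fun p => v p = 1 ∧ w p = 1).card : ℕ) : ZMod 2) = v ⬝ᵥ w := by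
    rw [Finset.natCast_card_filter]
    refine Finset.sum_congr rfl fun p _ => ?_
    rcases Cfsg.Agent.S2561.zmod_two (v p) with h | h <;>
      rcases Cfsg.Agent.S2561.zmod_two (w p) with h' | h' <;> simp [h, h']
  unfold halfWeight
  rw [ha, hb, hc] at key
  rw [ha, hb, hc, Nat.mul_div_cancel_left _ (by norm_num), Nat.mul_div_cancel_left _ (by norm_num),
    Nat.mul_div_cancel_left _ (by norm_num), ← hdot]
  have h1 : c + (Finset.univ.filter fun p => v p = 1 ∧ w p = 1).card = a + b := by omega
  have h2 := congrArg (Nat.cast : ℕ → ZMod 2) h1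
  push_cast at h2
  rw [← h2, add_assoc, CharTwo.add_self_eq_zero, add_zero]

theorem halfWeight_one : halfWeight (1 : P → ZMod 2) = ((Fintype.card P / 2 : ℕ) : ZMod 2) := by
  simp [halfWeight]

theorem card_std (k : ℕ) : Fintype.card ((Fin (2 * k + 1) × Fin 2) ⊕ Fin 2) = 4 * k + 4 := by
  simp; ring

theorem main (k : ℕ) (hk : 1 ≤ k) :
    (Odd k → ∃ φ : Equiv.Perm (Fin (4 * k + 4)) →* ↥(Cfsg.isometryGroup (ZMod 2) (Cfsg.quadFormPlus (2 * k + 1) (ZMod 2))), Function.Injective φ) ∧
    (Even k → ∃ φ : Equiv.Perm (Fin (4 * k + 4)) →* ↥(Cfsg.isometryGroup (ZMod 2) (Cfsg.quadFormMinus (2 * k) (ZMod 2) 1 1)), Function.Injective φ) := by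
  classical
  set m := 2 * k + 1 with hm
  have G := good_std m
  set P := (Fin m × Fin 2) ⊕ Fin 2
  have hP : Fintype.card P = 4 * k + 4 := card_std k
  let E : Equiv.Perm (Fin (4 * k + 4)) ≃* Equiv.Perm P :=
    (Fintype.equivFinOfCardEq hP).symm.permCongrHom
  obtain ⟨B, C, hcls⟩ := Cfsg.Agent.S2561.classify m (by omega)
  set Q := Cfsg.quadFormPlus m (ZMod 2)
  set e := eStd m
  set f := fStd m
  let q : (Fin m ⊕ Fin m → ZMod 2) → ZMod 2 := fun y => halfWeight (sec e f y)
  have hadd : ∀ y z, q (y + z) = q y + q z + (Q (y + z) - Q y - Q z) := by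
    intro y z
    show halfWeight (sec e f (y + z)) = _
    rw [map_add, halfWeight_add _ _ (G.sec_even y) (G.sec_even z)]
    congr 1
    rw [sec_dot, G.pr_sec]
    have : Q (y + z) - Q y - Q z = QuadraticMap.polar Q y z := rfl
    rw [this, polar_plus_apply, Finset.sum_add_distrib]
  let a : Fin m ⊕ Fin m → ZMod 2 := Sum.elim (fun i => ((i.val + 1 : ℕ) : ZMod 2)) (fun _ => 1)
  have hd : ∀ j, q (Pi.single j 1) = a (Sum.swap j) := by
    intro j
    have hs : sec e f (Pi.single j 1) = Sum.elim e f j := by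
      rw [sec, Fintype.linearCombination_apply_single, one_smul]
    show halfWeight (sec e f (Pi.single j 1)) = _
    rw [hs]
    rcases j with i | i
    · show halfWeight (eStd m i) = 1
      have : (Finset.univ.filter fun p => eStd m i p = 1).card = 2 := by
        rw [Finset.card_filter, Fintype.sum_sum_type, Fintype.sum_prod_type]
        simp [eStd, Fin.sum_univ_two, Finset.sum_add_distrib]
      simp [halfWeight, this]
    · show halfWeight (fStd m i) = ((i.val + 1 : ℕ) : ZMod 2)
      have : (Finset.univ.filter fun p => fStd m i p = 1).card = 2 * (i.val + 1) := by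
        rw [Finset.card_filter, Fintype.sum_sum_type, Fintype.sum_prod_type]
        have h0 : ∀ x : Fin m, (if fStd m i (.inl (x, 0)) = 1 then 1 else 0 : ℕ) = if x < i then 1 else 0 := fun x => by
          simp [fStd]
        have h1 : ∀ x : Fin m, (if fStd m i (.inl (x, 1)) = 1 then 1 else 0 : ℕ) = if x ≤ i then 1 else 0 := fun x => by
          simp [fStd, ← le_iff_lt_or_eq]
        simp only [Fin.sum_univ_two, Finset.sum_add_distrib, h0, h1]
        rw [← Finset.card_filter, ← Finset.card_filter, Finset.filter_gt_eq_Iio, Fin.card_Iio,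
          show (Finset.univ.filter fun x : Fin m => x ≤ i) = Finset.Iic i from Finset.ext fun x => by simp,
          Fin.card_Iic]
        simp [fStd]
        ring
      simp [halfWeight, this]
  have hqa : q = fun v => Q v + B a v := by
    funext v
    let d : (Fin m ⊕ Fin m → ZMod 2) →+ ZMod 2 :=
      AddMonoidHom.mk' (fun v => q v - Q v) fun u v => by rw [hadd]; ring
    have h0 : ∀ v, d v = ∑ j, v j * d (Pi.single j 1) := fun v => by
      conv_lhs => rw [pi_eq_sum_univ' v]
      rw [map_sum]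
      refine Finset.sum_congr rfl fun j _ => ?_
      rcases Cfsg.Agent.S2561.zmod_two (v j) with h | h <;> rw [h] <;> simp
    have hQs : ∀ j, d (Pi.single j 1) = a (Sum.swap j) := fun j => by
      show q (Pi.single j 1) - Q (Pi.single j 1) = _
      rw [hd]
      rcases j with i | i <;> simp [Q, Cfsg.quadFormPlus, Pi.single_apply]
    have h1 : B a v = d v := by
      rw [← C.polar, polar_plus_apply, h0, Fintype.sum_sum_type, Finset.sum_add_distrib]
      simp only [hQs, Sum.swap_inl, Sum.swap_inr]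
      simp [mul_comm, add_comm]
    rw [h1]
    show q v = Q v + (q v - Q v)
    ring
  have hQa : Q a = ((k + 1 : ℕ) : ZMod 2) := by
    show ∑ i : Fin m, a (.inl i) * a (.inr i) = _
    simp only [a, Sum.elim_inl, Sum.elim_inr, mul_one, ← Nat.cast_sum]
    rw [Fin.sum_univ_eq_sum_range (fun i => i + 1) m, hm]
    have h2 : ∀ n, (∑ i ∈ Finset.range n, (i + 1)) * 2 = n * (n + 1) := fun n => by
      induction n with
      | zero => simp
      | succ n ih => rw [Finset.sum_range_succ, add_mul, ih]; ring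
    have h3 : ∑ i ∈ Finset.range (2 * k + 1), (i + 1) = (2 * k + 1) * (k + 1) := by
      have := h2 (2 * k + 1)
      nlinarith
    rw [h3]
    have h2' : ((2 : ℕ) : ZMod 2) = 0 := rfl
    rw [Nat.cast_mul, Nat.cast_add, Nat.cast_mul, h2', zero_mul, zero_add, Nat.cast_one, one_mul]
  have hc : ∀ v : P → ZMod 2, ∑ p, v p = 0 → halfWeight (v + 1) = halfWeight v := by
    intro v hv
    have h1 : ∑ p : P, (1 : P → ZMod 2) p = 0 := by
      simp only [Pi.one_apply, Finset.sum_const, Finset.card_univ, hP, nsmul_eq_mul, mul_one]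
      exact (ZMod.natCast_eq_zero_iff _ 2).2 ⟨2 * k + 2, by ring⟩
    rw [halfWeight_add v 1 hv h1, halfWeight_one, hP, dotProduct_one, hv,
      show (4 * k + 4) / 2 = 2 * (k + 1) by omega, Nat.cast_mul, show ((2 : ℕ) : ZMod 2) = 0 from rfl,
      zero_mul, add_zero, add_zero]
  have hinv : ∀ (g : Equiv.Perm P) y, q ((G.hom g).val *ᵥ y) = q y := fun g y =>
    G.invariant halfWeight hc halfWeight_perm g y
  have build : ∀ {ι : Type} [Fintype ι] [DecidableEq ι] (R : (ι → ZMod 2) → ZMod 2)
      (ψ : (Fin m ⊕ Fin m → ZMod 2) ≃ₗ[ZMod 2] (ι → ZMod 2)), (∀ v, q v = R (ψ v)) →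
      ∃ φ : Equiv.Perm (Fin (4 * k + 4)) →* ↥(Cfsg.isometryGroup (ZMod 2) R), Function.Injective φ := by
    intro ι _ _ R ψ hψ
    let M : Equiv.Perm P →* GL ι (ZMod 2) := MonoidHom.toHomUnits
      { toFun := fun g => LinearMap.toMatrix' (ψ.toLinearMap ∘ₗ (G.hom g).val.mulVecLin ∘ₗ ψ.symm.toLinearMap)
        map_one' := by
          apply Matrix.toLin'.injective
          ext v : 1
          simp
        map_mul' := fun g h => by
          apply Matrix.toLin'.injective
          refine LinearMap.ext fun v => ?_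
          simp [Matrix.toLin'_mul] }
    have hM : ∀ g v, (M g).val *ᵥ v = ψ ((G.hom g).val *ᵥ ψ.symm v) := fun g v => by
      simp [M, LinearMap.toMatrix'_mulVec]
    have hmem : ∀ g, M g ∈ Cfsg.isometryGroup (ZMod 2) R := fun g v _ => by
      show R ((M g).val *ᵥ v) = R v
      rw [hM, ← hψ, hinv, hψ, LinearEquiv.apply_symm_apply]
    refine ⟨(M.codRestrict _ hmem).comp E.toMonoidHom, fun x y h => E.injective ?_⟩
    refine G.hom_injective (le_trans (by omega : 5 ≤ 4 * k + 4) hP.ge) (Units.ext (Matrix.mulVec_injective (funext fun v => ?_)))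
    have h1 : M (E x) = M (E y) := congrArg Subtype.val h
    have h2 := congrArg (fun z : GL ι (ZMod 2) => ψ.symm (z.val *ᵥ ψ v)) h1
    simpa [hM] using h2
  refine ⟨fun ho => ?_, fun he => ?_⟩
  · have h := (hcls a).1.2 (by
      rw [hQa]
      exact (ZMod.natCast_eq_zero_iff _ 2).2 ((Odd.add_one ho).two_dvd))
    obtain ⟨g, hg⟩ := h
    exact build _ g fun v => by rw [hqa]; exact hg v
  · have h := (hcls a).2.2 (by
      rw [hQa, Nat.cast_add, (ZMod.natCast_eq_zero_iff _ 2).2 he.two_dvd, zero_add, Nat.cast_one])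
    obtain ⟨g, hg⟩ := h
    exact build _ g fun v => by rw [hqa]; exact hg v

/-- For k ≥ 1 the symmetric group of degree 4k + 4 embeds in a full orthogonal group in dimension 4k + 2 over the field of two elements: in the isometry group of the plus-type form Σ xᵢyᵢ when k is odd, and in that of the minus-type form Σ xᵢyᵢ + (z₁² + z₁z₂ + z₂²) when k is even (through its action on even partitions of a (4k+4)-set, with the form 'half the size of a part, modulo 2'). -/
theorem result (k : ℕ) (hk : 1 ≤ k) :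
    (Odd k → ∃ φ : Equiv.Perm (Fin (4 * k + 4)) →* ↥(Cfsg.isometryGroup (ZMod 2) (Cfsg.quadFormPlus (2 * k + 1) (ZMod 2))), Function.Injective φ) ∧
    (Even k → ∃ φ : Equiv.Perm (Fin (4 * k + 4)) →* ↥(Cfsg.isometryGroup (ZMod 2) (Cfsg.quadFormMinus (2 * k) (ZMod 2) 1 1)), Function.Injective φ) := by
  exact main k hk

end Cfsg.Agent.S2563
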