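import Cfsg.Statements.S2564
import Cfsg.Agent.Lib.Linear.OrthForms

set_option autoImplicit false
open Cfsg

namespace Cfsg.Agent.S2564

/-- On the 2m-dimensional space over the field of two elements (m ≥ 1) let f be the alternating form obtained by polarizing the plus-type form Σ xᵢyᵢ, and let q be any quadratic form polarizing to f. For a vector w, the function q + f(·, w) again polarizes to f, and it is equivalent to q under an invertible linear map (that is, has the same type) if and only if q(w) = 0. -/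
theorem result (m : ℕ) (hm : 1 ≤ m) (q : (Fin m ⊕ Fin m → ZMod 2) → ZMod 2) (hq : (∀ u v : (Fin m ⊕ Fin m → ZMod 2), q (u + v) = q u + q v + (Cfsg.quadFormPlus m (ZMod 2) (u + v) - Cfsg.quadFormPlus m (ZMod 2) u - Cfsg.quadFormPlus m (ZMod 2) v))) (w : (Fin m ⊕ Fin m → ZMod 2)) :
    (∀ u v : (Fin m ⊕ Fin m → ZMod 2), (q (u + v) + (Cfsg.quadFormPlus m (ZMod 2) (u + v + w) - Cfsg.quadFormPlus m (ZMod 2) (u + v) - Cfsg.quadFormPlus m (ZMod 2) w)) =
        (q u + (Cfsg.quadFormPlus m (ZMod 2) (u + w) - Cfsg.quadFormPlus m (ZMod 2) u - Cfsg.quadFormPlus m (ZMod 2) w)) + (q v + (Cfsg.quadFormPlus m (ZMod 2) (v + w) - Cfsg.quadFormPlus m (ZMod 2) v - Cfsg.quadFormPlus m (ZMod 2) w)) +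
        (Cfsg.quadFormPlus m (ZMod 2) (u + v) - Cfsg.quadFormPlus m (ZMod 2) u - Cfsg.quadFormPlus m (ZMod 2) v)) ∧
    ((∃ g : (Fin m ⊕ Fin m → ZMod 2) ≃ₗ[ZMod 2] (Fin m ⊕ Fin m → ZMod 2), ∀ v, q v + (Cfsg.quadFormPlus m (ZMod 2) (v + w) - Cfsg.quadFormPlus m (ZMod 2) v - Cfsg.quadFormPlus m (ZMod 2) w) = q (g v)) ↔ q w = 0) := by
  classical
  obtain ⟨B, hB⟩ := Cfsg.Lib.Linear.Orth.exists_space_plus (F := ZMod 2) m
  have hf : ∀ u v, Cfsg.quadFormPlus m (ZMod 2) (u + v) - Cfsg.quadFormPlus m (ZMod 2) u -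
      Cfsg.quadFormPlus m (ZMod 2) v = B u v := fun u v => (hB.polar u v)
  have hpm : ∀ x : ZMod 2, x * x = x := by decide
  have h11 : ∀ x : ZMod 2, x + x = 0 := by decide
  rw [forall₂_congr fun u v => by rw [hf]] at hq
  simp only [hf]
  have hsymm : ∀ u v, B u v = B v u := fun u v => by rw [← hf, ← hf, add_comm]; ring
  have hq0 : q 0 = 0 := by
    have := hq 0 0
    rw [add_zero, map_zero, add_zero, h11] at this
    exact this
  have halt : ∀ v, B v v = 0 := by
    intro v
    have hvv : v + v = 0 := funext fun i => h11 (v i)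
    have := hq v v
    rwa [hvv, hq0, h11, zero_add, eq_comm] at this
  have hnd : ∀ v, (∀ u, B v u = 0) → v = 0 := fun v h => hB.nondeg v fun u => by rw [hsymm]; exact h u
  refine ⟨fun u v => ?_, ?_, ?_⟩
  · rw [hq u v, map_add, LinearMap.add_apply]
    ring
  · rintro ⟨g, hg⟩
    by_contra hw
    have hw1 : q w = 1 := by
      have : ∀ x : ZMod 2, x ≠ 0 → x = 1 := by decide
      exact this _ hw
    let χ : ZMod 2 → ℤ := fun z => if z = 0 then 1 else -1
    have hχ : ∀ x y, χ (x + y) = χ x * χ y := by decide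
    let s : ℤ := ∑ v, χ (q v)
    have h1 : ∑ v, χ (q v + B v w) = s := by
      rw [Finset.sum_congr rfl fun v _ => by rw [hg v]]
      exact Fintype.sum_equiv g.toEquiv _ _ fun v => rfl
    have h2 : ∑ v, χ (q v + B v w) = -s := by
      have e : ∀ v, χ (q v + B v w) = χ (q w) * χ (q (v + w)) := fun v => by
        rw [← hχ, hq]
        congr 1
        have : ∀ a b c : ZMod 2, a + c = b + (a + b + c) := by decide
        exact this _ _ _
      rw [Finset.sum_congr rfl fun v _ => e v, ← Finset.mul_sum,
        Fintype.sum_equiv (Equiv.addRight w) (fun v => χ (q (v + w))) (fun v => χ (q v)) fun v => rfl, hw1]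
      show χ 1 * s = -s
      simp [χ]
    have hs : s * s = (2 ^ (m + m) : ℤ) := by
      have e : ∀ d u, χ (q u) * χ (q (u + d)) = χ (q d) * χ (B u d) := fun d u => by
        rw [← hχ, ← hχ, hq]
        congr 1
        have : ∀ a b c : ZMod 2, a + (a + b + c) = b + c := by decide
        exact this _ _ _
      calc s * s = ∑ u, ∑ d, χ (q u) * χ (q (u + d)) := by
            simp only [s, Finset.sum_mul_sum]
            exact Finset.sum_congr rfl fun u _ => (Fintype.sum_equiv (Equiv.addLeft u) _ _ fun d => rfl).symm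
        _ = ∑ d, χ (q d) * ∑ u, χ (B u d) := by
            rw [Finset.sum_comm]
            exact Finset.sum_congr rfl fun d _ => by rw [Finset.mul_sum]; exact Finset.sum_congr rfl fun u _ => e d u
        _ = χ (q 0) * ∑ u, χ (B u 0) := by
            refine Finset.sum_eq_single 0 (fun d _ hd => ?_) (by simp)
            obtain ⟨u₀, hu₀⟩ : ∃ u₀, B d u₀ ≠ 0 := by
              by_contra! h
              exact hd (hnd d h)
            have h01 : ∀ x : ZMod 2, x ≠ 0 → χ x = -1 := by decide
            have hz : ∑ u, χ (B u d) = -∑ u, χ (B u d) := by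
              conv_lhs => rw [← Equiv.sum_comp (Equiv.addRight u₀)]
              rw [← Finset.sum_neg_distrib]
              refine Finset.sum_congr rfl fun u _ => ?_
              rw [Equiv.coe_addRight, map_add, LinearMap.add_apply, hχ, h01 (B u₀ d) (by rwa [hsymm]), mul_neg, mul_one]
            have : ∑ u, χ (B u d) = 0 := by linarith
            rw [this, mul_zero]
        _ = _ := by
            simp only [hq0, map_zero, χ, if_true, one_mul, Finset.sum_const, Finset.card_univ, Fintype.card_fun,
              ZMod.card, Fintype.card_sum, Fintype.card_fin]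
            simp
    have : s = 0 := by linarith [h1.symm.trans h2]
    rw [this, mul_zero] at hs
    exact pow_ne_zero _ two_ne_zero hs.symm
  · intro hw
    let T : (Fin m ⊕ Fin m → ZMod 2) →ₗ[ZMod 2] (Fin m ⊕ Fin m → ZMod 2) :=
      LinearMap.id + (B.flip w).smulRight w
    have hTv : ∀ v, T v = v + B v w • w := fun v => rfl
    have hinv : ∀ v, T (T v) = v := fun v => by
      have hdd : ∀ x : Fin m ⊕ Fin m → ZMod 2, x + x = 0 := fun x => funext fun i => h11 (x i)
      rw [hTv, hTv, map_add, LinearMap.add_apply, map_smul, LinearMap.smul_apply, halt, smul_zero, add_zero,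
        add_assoc, hdd, add_zero]
    refine ⟨LinearEquiv.ofLinear T T (LinearMap.ext hinv) (LinearMap.ext hinv), fun v => ?_⟩
    show q v + B v w = q (T v)
    rw [hTv]
    rcases (by decide : ∀ x : ZMod 2, x = 0 ∨ x = 1) (B v w) with h | h
    · rw [h, zero_smul, add_zero, add_zero]
    · rw [h, one_smul, hq, hw, h, add_zero]

end Cfsg.Agent.S2564
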