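import Cfsg.Statements.S2565
import Cfsg.Agent.S0825
import Mathlib.GroupTheory.SpecificGroups.Alternating.Centralizer

set_option linter.style.haveILetI false

set_option autoImplicit false
open Cfsg

namespace Cfsg.Agent.S2565

/-- The commutator subgroup of the full orthogonal group of the plus-type form Σ xᵢyᵢ in dimension 6 over the field of two elements (the group Ω⁺₆(2), of index 2) is isomorphic to the alternating group of degree 8. -/
theorem result :
    (Cfsg.Omega (ZMod 2) (Cfsg.quadFormPlus 3 (ZMod 2))).index = 2 ∧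
    Nonempty (↥(Cfsg.Omega (ZMod 2) (Cfsg.quadFormPlus 3 (ZMod 2))) ≃* alternatingGroup (Fin 8)) := by
  classical
  obtain ⟨u⟩ := Cfsg.Agent.S0825.plus_six (F := ZMod 2) (ZMod.card 2)
  have hmap : (Cfsg.Omega (ZMod 2) (Cfsg.quadFormPlus 3 (ZMod 2))).map u.toMonoidHom = alternatingGroup (Fin 8) := by
    show (commutator _).map _ = _
    rw [commutator_def, Subgroup.map_commutator, Subgroup.map_top_of_surjective _ u.surjective, ← commutator_def]
    exact alternatingGroup.commutator_perm_eq (by simp)
  refine ⟨?_, ⟨((Cfsg.Omega (ZMod 2) (Cfsg.quadFormPlus 3 (ZMod 2))).equivMapOfInjective _ u.injective).trans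
    (MulEquiv.subgroupCongr hmap)⟩⟩
  rw [← Subgroup.index_map_equiv _ u]
  rw [show (Cfsg.Omega (ZMod 2) (Cfsg.quadFormPlus 3 (ZMod 2))).map (u : _ →* _) = alternatingGroup (Fin 8) from hmap]
  exact alternatingGroup.index_eq_two

end Cfsg.Agent.S2565
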