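import Cfsg.Statements.S2566
import Cfsg.Agent.Lib.Linear.OrthOrderStd

set_option linter.style.haveILetI false

set_option autoImplicit false
open Cfsg

namespace Cfsg.Agent.S2566

abbrev I4 := Fin 2 ⊕ Fin 2

/-- matrix position of a coordinate -/
def pos : I4 → Fin 2 × Fin 2 :=
  Sum.elim ![(0, 0), (0, 1)] ![(1, 1), (1, 0)]

def wv : Fin 3 → Fin 2 → ZMod 2 := ![![1, 0], ![0, 1], ![1, 1]]

def rho (σ : Equiv.Perm (Fin 3)) (i j : Fin 2) : ZMod 2 := wv (σ (Fin.castSucc j)) i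

def Lm (σ : Equiv.Perm (Fin 3)) : Matrix I4 I4 (ZMod 2) :=
  Matrix.of fun i j => if (pos i).2 = (pos j).2 then rho σ (pos i).1 (pos j).1 else 0

def Rm (σ : Equiv.Perm (Fin 3)) : Matrix I4 I4 (ZMod 2) :=
  Matrix.of fun i j => if (pos i).1 = (pos j).1 then rho σ (pos i).2 (pos j).2 else 0

def Tm : Matrix I4 I4 (ZMod 2) :=
  Matrix.of fun i j => if (pos i).2 = (pos j).1 ∧ (pos i).1 = (pos j).2 then 1 else 0

set_option maxRecDepth 8000 in
set_option maxHeartbeats 4000000 in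
theorem Lm_one : Lm 1 = 1 ∧ Rm 1 = 1 ∧ Tm * Tm = 1 := by decide +kernel

set_option maxRecDepth 8000 in
set_option maxHeartbeats 4000000 in
theorem Lm_mul : ∀ s t : Equiv.Perm (Fin 3), Lm (s * t) = Lm s * Lm t ∧ Rm (s * t) = Rm s * Rm t := by decide +kernel

set_option maxRecDepth 8000 in
set_option maxHeartbeats 4000000 in
theorem Lm_comm : ∀ s t : Equiv.Perm (Fin 3),
    Lm s * Rm t = Rm t * Lm s ∧ Tm * Lm s = Rm s * Tm ∧ (Lm s = Rm t → s = 1 ∧ t = 1) := by decide +kernel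

set_option maxRecDepth 8000 in
set_option maxHeartbeats 4000000 in
theorem Lm_inj : ∀ s : Equiv.Perm (Fin 3), (Lm s = 1 → s = 1) ∧ (Rm s = 1 → s = 1) := by decide +kernel

set_option maxRecDepth 8000 in
set_option maxHeartbeats 4000000 in
theorem Lm_form : ∀ u : I4 → ZMod 2, (∀ s : Equiv.Perm (Fin 3),
    Cfsg.quadFormPlus 2 (ZMod 2) (Matrix.mulVec (Lm s) u) = Cfsg.quadFormPlus 2 (ZMod 2) u ∧
    Cfsg.quadFormPlus 2 (ZMod 2) (Matrix.mulVec (Rm s) u) = Cfsg.quadFormPlus 2 (ZMod 2) u) ∧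
    Cfsg.quadFormPlus 2 (ZMod 2) (Matrix.mulVec Tm u) = Cfsg.quadFormPlus 2 (ZMod 2) u := by decide +kernel

abbrev O4 := ↥(Cfsg.isometryGroup (ZMod 2) (Cfsg.quadFormPlus 2 (ZMod 2)))

def Lhom : Equiv.Perm (Fin 3) →* O4 :=
  (MonoidHom.toHomUnits
    { toFun := Lm, map_one' := Lm_one.1, map_mul' := fun s t => (Lm_mul s t).1 }).codRestrict _
    fun s u _ => ((Lm_form u).1 s).1

def Rhom : Equiv.Perm (Fin 3) →* O4 :=
  (MonoidHom.toHomUnits
    { toFun := Rm, map_one' := Lm_one.2.1, map_mul' := fun s t => (Lm_mul s t).2 }).codRestrict _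
    fun s u _ => ((Lm_form u).1 s).2

def swapT : O4 := ⟨⟨Tm, Tm, Lm_one.2.2, Lm_one.2.2⟩, fun u _ => (Lm_form u).2⟩

theorem val_Lhom (s : Equiv.Perm (Fin 3)) :
    (((Lhom s : O4) : GL I4 (ZMod 2)) : Matrix I4 I4 (ZMod 2)) = Lm s := rfl

theorem val_Rhom (s : Equiv.Perm (Fin 3)) :
    (((Rhom s : O4) : GL I4 (ZMod 2)) : Matrix I4 I4 (ZMod 2)) = Rm s := rfl

/-- The full orthogonal group of the plus-type form x₁y₁ + x₂y₂ in dimension 4 over the field of two elements has order 72 and is isomorphic to the wreath product of the symmetric group of degree 3 by a group of order 2: it has a normal subgroup isomorphic to the direct product of two symmetric groups of degree 3, of index 2, whose two direct factors are interchanged by conjugation by some element. -/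
theorem result :
    Nat.card ↥(Cfsg.isometryGroup (ZMod 2) (Cfsg.quadFormPlus 2 (ZMod 2))) = 72 ∧
    ∃ (A B : Subgroup ↥(Cfsg.isometryGroup (ZMod 2) (Cfsg.quadFormPlus 2 (ZMod 2)))),
      Nonempty (↥A ≃* Equiv.Perm (Fin 3)) ∧ Nonempty (↥B ≃* Equiv.Perm (Fin 3)) ∧ A ⊓ B = ⊥ ∧ (∀ a ∈ A, ∀ b ∈ B, a * b = b * a) ∧
      (A ⊔ B).index = 2 ∧ ∃ g : ↥(Cfsg.isometryGroup (ZMod 2) (Cfsg.quadFormPlus 2 (ZMod 2))), A.map (MulAut.conj g).toMonoidHom = B := by
  have hinjL : Function.Injective Lhom := by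
    rw [injective_iff_map_eq_one]
    intro s hs
    exact (Lm_inj s).1 ((val_Lhom s).symm.trans (by rw [hs]; rfl))
  have hinjR : Function.Injective Rhom := by
    rw [injective_iff_map_eq_one]
    intro s hs
    exact (Lm_inj s).2 ((val_Rhom s).symm.trans (by rw [hs]; rfl))
  have hext : ∀ a b : O4, ((a : GL I4 (ZMod 2)) : Matrix I4 I4 (ZMod 2)) = ((b : GL I4 (ZMod 2)) : Matrix I4 I4 (ZMod 2)) → a = b :=
    fun a b h => Subtype.ext (Units.ext h)
  have h72 : Nat.card O4 = 72 := by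
    have h := (Cfsg.Lib.Linear.Orth.counts_plus (F := ZMod 2) 2).2
    rw [Nat.card_zmod] at h
    simp [Finset.prod_range_succ] at h
    exact_mod_cast h
  have comm : ∀ s t, Commute (Lhom s) (Rhom t) := fun s t => hext _ _ (Lm_comm s t).1
  refine ⟨h72, Lhom.range, Rhom.range, ⟨(MonoidHom.ofInjective hinjL).symm⟩, ⟨(MonoidHom.ofInjective hinjR).symm⟩,
    ?_, ?_, ?_, swapT, ?_⟩
  · refine eq_bot_iff.mpr ?_
    rintro x ⟨⟨s, hs⟩, ⟨t, ht⟩⟩
    have h := (Lm_comm s t).2.2 (by rw [← val_Lhom, ← val_Rhom, hs, ht])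
    rw [Subgroup.mem_bot, ← hs, h.1, map_one]
  · rintro a ⟨s, rfl⟩ b ⟨t, rfl⟩
    exact comm s t
  · have hN : Function.Injective (Lhom.noncommCoprod Rhom comm) := by
      rw [injective_iff_map_eq_one]
      rintro ⟨s, t⟩ h
      have h' : Lhom s = Rhom t⁻¹ := by
        rw [map_inv]
        exact eq_inv_of_mul_eq_one_left h
      obtain ⟨rfl, ht⟩ := (Lm_comm s t⁻¹).2.2 (by rw [← val_Lhom, ← val_Rhom, h'])
      rw [inv_eq_one] at ht
      rw [ht]; rfl
    have hc : Nat.card ↥(Lhom.range ⊔ Rhom.range) = 36 := by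
      rw [← MonoidHom.noncommCoprod_range Lhom Rhom comm, ← Nat.card_congr (MonoidHom.ofInjective hN).toEquiv,
        Nat.card_prod, Nat.card_perm, Nat.card_fin]
      rfl
    have hI := (Lhom.range ⊔ Rhom.range).card_mul_index
    rw [hc, h72] at hI
    omega
  · rw [MonoidHom.map_range]
    have : (MulAut.conj swapT).toMonoidHom.comp Lhom = Rhom := by
      refine MonoidHom.ext fun s => ?_
      show swapT * Lhom s * swapT⁻¹ = Rhom s
      rw [mul_inv_eq_iff_eq_mul]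
      exact hext _ _ (Lm_comm s 1).2.1
    rw [this]

end Cfsg.Agent.S2566
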