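import Cfsg.Statements.S2567
import Cfsg.Agent.Lib.Linear.SLBasic

set_option autoImplicit false
open Cfsg

namespace Cfsg.Agent.S2567

/-- Lifting elements of prime order from PGL to GL: let F be a finite field with q elements, r a prime not dividing q − 1, and x an element of order r in GL_n(F) modulo its centre (the scalar matrices). Then x has exactly one preimage in GL_n(F) of order r. -/
theorem result {F : Type*} [Field F] [Fintype F] {q n r : ℕ} (hF : Fintype.card F = q) (hr : r.Prime) (hdiv : ¬ r ∣ q - 1) (x : GL (Fin n) F ⧸ Subgroup.center (GL (Fin n) F)) (hx : orderOf x = r) : ∃! g : GL (Fin n) F, (QuotientGroup.mk g : GL (Fin n) F ⧸ Subgroup.center (GL (Fin n) F)) = x ∧ orderOf g = r := by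
  classical
  rcases Nat.eq_zero_or_pos n with rfl | hn
  · exfalso
    have : Subsingleton (GL (Fin 0) F ⧸ Subgroup.center (GL (Fin 0) F)) := Quotient.instSubsingletonQuotient _
    rw [Subsingleton.elim x 1, orderOf_one] at hx
    exact hr.ne_one hx.symm
  have : Nonempty (Fin n) := ⟨⟨0, hn⟩⟩
  have hcop : (Nat.card (Subgroup.center (GL (Fin n) F))).Coprime r := by
    rw [Lib.Linear.card_center_GL, hF]
    exact (hr.coprime_iff_not_dvd.2 hdiv).symm
  obtain ⟨g₀, rfl⟩ := QuotientGroup.mk_surjective x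
  have hr0 : g₀ ^ r ∈ (Subgroup.center (GL (Fin n) F)) := by
    rw [← QuotientGroup.eq_one_iff, QuotientGroup.mk_pow, ← hx, pow_orderOf_eq_one]
  obtain ⟨z, hz⟩ := (powCoprime hcop).surjective ⟨g₀ ^ r, hr0⟩
  have hz' : (z : GL (Fin n) F) ^ r = g₀ ^ r := congrArg Subtype.val hz
  have hc : Commute g₀ (z : GL (Fin n) F)⁻¹ :=
    (Commute.inv_right (Subgroup.mem_center_iff.1 z.2 g₀))
  have hmk : (QuotientGroup.mk (g₀ * (z : GL (Fin n) F)⁻¹) : GL (Fin n) F ⧸ (Subgroup.center (GL (Fin n) F))) = QuotientGroup.mk g₀ :=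
    (QuotientGroup.eq).2 (by rw [mul_inv_rev, inv_inv, mul_assoc, inv_mul_cancel, mul_one]; exact z.2)
  have hord : orderOf (g₀ * (z : GL (Fin n) F)⁻¹) = r := by
    have : Fact r.Prime := ⟨hr⟩
    refine orderOf_eq_prime ?_ ?_
    · rw [hc.mul_pow, inv_pow, hz', mul_inv_cancel]
    · intro h
      rw [← hmk, h] at hx
      rw [QuotientGroup.mk_one, orderOf_one] at hx
      exact hr.ne_one hx.symm
  refine ⟨_, ⟨hmk, hord⟩, ?_⟩
  rintro g ⟨hg, hgo⟩
  have hw : (g₀ * (z : GL (Fin n) F)⁻¹)⁻¹ * g ∈ (Subgroup.center (GL (Fin n) F)) := QuotientGroup.eq.1 (hmk.trans hg.symm)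
  have hcw : Commute (g₀ * (z : GL (Fin n) F)⁻¹) ((g₀ * (z : GL (Fin n) F)⁻¹)⁻¹ * g) :=
    Subgroup.mem_center_iff.1 hw _
  have h1 := hcw.mul_pow r
  rw [mul_inv_cancel_left, ← hgo, pow_orderOf_eq_one, hgo, ← hord, pow_orderOf_eq_one, one_mul, hord] at h1
  have h2 : powCoprime hcop ⟨_, hw⟩ = powCoprime hcop 1 := Subtype.ext (by
    show ((g₀ * (z : GL (Fin n) F)⁻¹)⁻¹ * g) ^ r = ((1 : (Subgroup.center (GL (Fin n) F))) ^ r : (Subgroup.center (GL (Fin n) F))).1
    rw [← h1, one_pow]; rfl)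
  have h3 := congrArg Subtype.val ((powCoprime hcop).injective h2)
  exact (inv_mul_eq_one.1 h3).symm

end Cfsg.Agent.S2567
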