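import Cfsg.Statements.S2568
import Cfsg.Agent.Lib.Linear.SemisimpleClasses

set_option autoImplicit false
open Cfsg

namespace Cfsg.Agent.S2568

open Polynomial
open Cfsg.Lib
open Cfsg.Agent.Lib.Linear
open UniqueFactorizationMonoid

universe u

variable {F : Type u} [Field F] [Fintype F]

theorem option_decomp {α : Type*} [DecidableEq α] (s : Multiset (Option α)) :
    s = (s.filterMap id).map some + Multiset.replicate (s.count none) none := by
  induction s using Multiset.induction_on with
  | empty => simp
  | cons a s ih =>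
    rcases a with _ | a
    · rw [Multiset.filterMap_cons_none _ _ rfl, Multiset.count_cons_self, Multiset.replicate_succ,
        Multiset.add_cons, ← ih]
    · rw [Multiset.filterMap_cons_some id _ _ (b := a) rfl, Multiset.count_cons_of_ne (by simp),
        Multiset.map_cons, Multiset.cons_add, ← ih]

theorem exists_form_of_multiset {n : ℕ} (M : Multiset F[X]) (hM : ∀ x ∈ M, x.Monic)
    (hdeg : (M.map natDegree).sum = n) :
    ∃ (A : Matrix (Fin n) (Fin n) F) (ι : Type u) (_ : Fintype ι) (f : ι → F[X]),
      (Finset.univ : Finset ι).val.map f = M ∧ CanonicalForm.HasForm A f := by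
  classical
  let l := M.toList
  let ι := ULift.{u} (Fin l.length)
  let f : ι → F[X] := fun i => l.get i.down
  have hmem : ∀ i, f i ∈ M := fun i => Multiset.mem_toList.mp (List.get_mem _ _)
  have hmap : (Finset.univ : Finset ι).val.map f = M := by
    rw [← Finset.map_univ_equiv (Equiv.ulift.{u}.symm : Fin l.length ≃ ι), Finset.map_val, Multiset.map_map]
    show (Finset.univ : Finset (Fin l.length)).val.map l.get = M
    rw [Fin.univ_val_map, List.ofFn_get]
    exact Multiset.coe_toList _
  have hd : ∑ i, (f i).natDegree = n := by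
    rw [← hdeg, ← hmap, Multiset.map_map]
    rfl
  obtain ⟨A, hA⟩ := CanonicalForm.exists_matrix f (fun i => hM _ (hmem i)) hd
  exact ⟨A, ι, inferInstance, f, hmap, hA⟩

theorem natDegree_factor {r : ℕ} (hr : r.Prime) {f : F[X]} (hi : Irreducible f) (hm : f.Monic)
    (hd : f ∣ X ^ r - 1) (hne : f ≠ X - C 1) (hq : ¬ r ∣ Fintype.card F) :
    f.natDegree = orderOf (Fintype.card F : ZMod r) := by
  haveI : Fact r.Prime := ⟨hr⟩
  haveI : Fact (Irreducible f) := ⟨hi⟩
  set i := orderOf (Fintype.card F : ZMod r) with hidef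
  have hq0 : (Fintype.card F : ZMod r) ≠ 0 := fun h => hq ((ZMod.natCast_eq_zero_iff _ _).mp h)
  have hdvd : ∀ d : ℕ, r ∣ Fintype.card F ^ d - 1 ↔ i ∣ d := by
    intro d
    rw [← ZMod.natCast_eq_zero_iff, Nat.cast_sub (Nat.one_le_pow _ _ Fintype.card_pos), Nat.cast_pow, Nat.cast_one,
      sub_eq_zero, hidef, orderOf_dvd_iff_pow_eq_one]
  apply Nat.dvd_antisymm
  · refine hi.natDegree_dvd_of_dvd_X_pow_card_pow_sub_X ?_
    rw [Nat.card_eq_fintype_card]
    obtain ⟨c, hc⟩ := (hdvd i).mpr dvd_rfl
    have h1 : (X : F[X]) ^ Fintype.card F ^ i - X = X * ((X ^ r) ^ c - 1 ^ c) := by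
      rw [one_pow, ← pow_mul, ← hc, mul_sub, mul_one, ← pow_succ',
        Nat.sub_add_cancel (Nat.one_le_pow _ _ Fintype.card_pos)]
    rw [h1]
    exact (hd.trans (sub_dvd_pow_sub_pow _ _ _)).mul_left X
  · have h1 := (hi.natDegree_dvd_iff_dvd_X_pow_card_pow_sub_X (n := f.natDegree)).mp dvd_rfl
    rw [Nat.card_eq_fintype_card] at h1
    have hroot : AdjoinRoot.root f ^ r = 1 := by
      have := AdjoinRoot.mk_eq_zero.mpr hd
      rwa [map_sub, map_pow, AdjoinRoot.mk_X, map_one, sub_eq_zero] at this
    have hne1 : AdjoinRoot.root f ≠ 1 := by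
      intro h
      refine hne (Polynomial.eq_of_monic_of_associated hm (monic_X_sub_C 1) ?_)
      refine hi.associated_of_dvd (irreducible_X_sub_C 1) ?_
      rw [← AdjoinRoot.mk_eq_zero, map_sub, AdjoinRoot.mk_X, AdjoinRoot.mk_C, map_one, h, sub_self]
    have ho : orderOf (AdjoinRoot.root f) = r := orderOf_eq_prime hroot hne1
    have h2 := AdjoinRoot.mk_eq_zero.mpr h1
    rw [map_sub, map_pow, AdjoinRoot.mk_X, sub_eq_zero] at h2
    have h0 : AdjoinRoot.root f ≠ 0 := fun h => by rw [h, zero_pow hr.ne_zero] at hroot; exact zero_ne_one hroot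
    rw [← hdvd, ← ho]
    refine orderOf_dvd_of_pow_eq_one (mul_right_cancel₀ h0 ?_)
    rw [← pow_succ, Nat.sub_add_cancel (Nat.one_le_pow _ _ Fintype.card_pos), h2, one_mul]

/-- Number of conjugacy classes of elements of a given prime order r, coprime to the characteristic, in GL_n(q): if i is the multiplicative order of q modulo r and t = (r − 1)/i, the classes correspond to the non-zero t-tuples of natural numbers (a_1, …, a_t) with i(a_1 + ⋯ + a_t) ≤ n (a_j is the multiplicity of the j-th Frobenius orbit of nontrivial r-th roots of unity among the eigenvalues), so there are exactly C(⌊n/i⌋ + t, t) − 1 of them. -/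
theorem result {F : Type*} [Field F] [Fintype F] {p q : ℕ} [Fact p.Prime] [CharP F p] (hF : Fintype.card F = q) (n r i t : ℕ) (hr : r.Prime) (hrp : r ≠ p) (hi : i = orderOf (q : ZMod r)) (ht : t * i = r - 1) : Nat.card {C : ConjClasses (GL (Fin n) F) // ∃ g : GL (Fin n) F, ConjClasses.mk g = C ∧ orderOf g = r} = Nat.choose (n / i + t) t - 1 := by
  classical
  subst hF
  subst hi
  haveI : Fact r.Prime := ⟨hr⟩
  have hq : ¬ r ∣ Fintype.card F := by
    obtain ⟨k, -, hk⟩ := FiniteField.card F p
    rw [hk]
    exact fun h => hrp ((Nat.prime_dvd_prime_iff_eq hr Fact.out).mp (hr.dvd_of_dvd_pow h))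
  have hr0 : (r : F) ≠ 0 := fun h => hrp
    ((Nat.prime_dvd_prime_iff_eq Fact.out hr).mp ((CharP.cast_eq_zero_iff F p r).mp h)).symm
  have hXm : (X ^ r - 1 : F[X]).Monic := by simpa using monic_X_pow_sub_C (1 : F) hr.ne_zero
  generalize hidef : orderOf (Fintype.card F : ZMod r) = i at ht ⊢
  have hi0 : 0 < i := by
    rcases Nat.eq_zero_or_pos i with h | h
    · rw [h, mul_zero] at ht; have := hr.two_le; omega
    · exact h
  obtain ⟨𝒩, h𝒩def⟩ : ∃ 𝒩, 𝒩 = normalizedFactors (X ^ r - 1 : F[X]) := ⟨_, rfl⟩
  have hmem : ∀ f : F[X], f ∈ 𝒩 ↔ Irreducible f ∧ f.Monic ∧ f ∣ X ^ r - 1 := by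
    intro f
    rw [h𝒩def]
    constructor
    · intro h
      have h1 := irreducible_of_normalized_factor _ h
      refine ⟨h1, ?_, dvd_of_mem_normalizedFactors h⟩
      rw [← normalize_normalized_factor _ h]
      exact monic_normalize h1.ne_zero
    · rintro ⟨h1, h2, h3⟩
      obtain ⟨g, hg, hfg⟩ := exists_mem_normalizedFactors_of_dvd hXm.ne_zero h1 h3
      have h4 := irreducible_of_normalized_factor _ hg
      have h5 : g.Monic := by rw [← normalize_normalized_factor _ hg]; exact monic_normalize h4.ne_zero
      rwa [Polynomial.eq_of_monic_of_associated h2 h5 hfg]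
  have hY : X - C (1 : F) ∈ 𝒩 := (hmem _).mpr ⟨irreducible_X_sub_C 1, monic_X_sub_C 1, by
    rw [C_1]; simpa using sub_dvd_pow_sub_pow (X : F[X]) 1 r⟩
  have hnd : 𝒩.Nodup := by
    rw [h𝒩def, ← squarefree_iff_nodup_normalizedFactors hXm.ne_zero]
    exact (X_pow_sub_one_separable_iff.mpr hr0).squarefree
  let 𝒬 : Finset F[X] := 𝒩.toFinset.erase (X - C 1)
  have hQ : ∀ f ∈ 𝒬, Irreducible f ∧ f.Monic ∧ f ∣ X ^ r - 1 ∧ f ≠ X - C 1 ∧ f.natDegree = i := by
    intro f hf
    obtain ⟨h1, h2⟩ := Finset.mem_erase.mp hf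
    obtain ⟨a, b, c⟩ := (hmem f).mp (Multiset.mem_toFinset.mp h2)
    exact ⟨a, b, c, h1, hidef ▸ natDegree_factor hr a b c h1 hq⟩
  have hcardQ : 𝒬.card = t := by
    have h1 : 𝒩.prod = X ^ r - 1 := by
      refine Polynomial.eq_of_monic_of_associated ?_ hXm (h𝒩def ▸ prod_normalizedFactors hXm.ne_zero)
      have := monic_multiset_prod_of_monic 𝒩 id fun x hx => ((hmem x).mp hx).2.1
      rwa [Multiset.map_id] at this
    have h2 : ∑ f ∈ 𝒩.toFinset, f.natDegree = r := by
      rw [← natDegree_prod_of_monic _ _ fun f hf => ((hmem f).mp (Multiset.mem_toFinset.mp hf)).2.1,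
        Finset.prod_eq_multiset_prod, Multiset.toFinset_val, hnd.dedup, Multiset.map_id', h1]
      simpa using natDegree_X_pow_sub_C (n := r) (r := (1 : F))
    rw [← Finset.add_sum_erase _ _ (Multiset.mem_toFinset.mpr hY), natDegree_X_sub_C,
      Finset.sum_congr rfl fun f hf => (hQ f hf).2.2.2.2, Finset.sum_const, smul_eq_mul] at h2
    exact Nat.eq_of_mul_eq_mul_right hi0 (by rw [ht]; show 𝒬.card * i = r - 1; omega)
  obtain ⟨N, hN⟩ : ∃ N, N = n / i := ⟨_, rfl⟩
  let body : Sym (Option 𝒬) N → Multiset 𝒬 := fun s => (s : Multiset (Option 𝒬)).filterMap id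
  let M : Sym (Option 𝒬) N → Multiset F[X] := fun s =>
    (body s).map (↑) + Multiset.replicate (n - i * (body s).card) (X - C 1)
  have hbody : ∀ s, (body s).card ≤ N := fun s => by
    have h := congrArg Multiset.card (option_decomp (s : Multiset (Option 𝒬)))
    rw [Multiset.card_add, Multiset.card_map, Multiset.card_replicate] at h
    have := s.2
    simp only [body] at *
    change Multiset.card (s : Multiset (Option 𝒬)) = N at this
    omega
  have hMdeg : ∀ s, ((M s).map natDegree).sum = n := by
    intro s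
    have h1 : ((body s).map fun f : 𝒬 => (f : F[X]).natDegree) = Multiset.replicate (body s).card i := by
      rw [Multiset.map_congr rfl fun f _ => (hQ f.1 f.2).2.2.2.2]
      exact Multiset.map_const' _ _
    have h2 : i * (body s).card ≤ n := by
      calc i * (body s).card ≤ i * N := Nat.mul_le_mul_left _ (hbody s)
        _ ≤ n := hN ▸ Nat.mul_div_le n i
    simp only [M, Multiset.map_add, Multiset.map_map, Function.comp_def, Multiset.map_replicate, Multiset.sum_add,
      Multiset.sum_replicate, natDegree_X_sub_C, smul_eq_mul, mul_one, h1]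
    rw [mul_comm _ i]
    omega
  have hMmem : ∀ s, ∀ x ∈ M s, Irreducible x ∧ x.Monic ∧ x ∣ X ^ r - 1 := by
    intro s x hx
    rcases Multiset.mem_add.mp hx with h | h
    · obtain ⟨f, -, rfl⟩ := Multiset.mem_map.mp h
      exact ⟨(hQ f.1 f.2).1, (hQ f.1 f.2).2.1, (hQ f.1 f.2).2.2.1⟩
    · rw [Multiset.eq_of_mem_replicate h]
      exact (hmem _).mp hY
  have hfilter : ∀ s, (M s).filter (fun x => x ≠ X - C 1) = (body s).map (↑) := by
    intro s
    rw [Multiset.filter_add, Multiset.filter_eq_self.mpr, Multiset.filter_eq_nil.mpr, add_zero]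
    · intro x hx; simp [Multiset.eq_of_mem_replicate hx]
    · intro x hx
      obtain ⟨f, -, rfl⟩ := Multiset.mem_map.mp hx
      exact (hQ f.1 f.2).2.2.2.1
  choose A ι hι f hf hform using fun s => exists_form_of_multiset (M s) (fun x hx => (hMmem s x hx).2.1) (hMdeg s)
  have hpow : ∀ s, A s ^ r = 1 := by
    intro s
    letI := hι s
    have h : aeval (A s) (X ^ r - 1 : F[X]) = 0 := ((hform s).aeval_eq_zero_iff _).mpr fun j =>
      (hMmem s _ (hf s ▸ Multiset.mem_map_of_mem _ (Finset.mem_univ_val j))).2.2
    rwa [map_sub, map_pow, aeval_X, map_one, sub_eq_zero] at h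
  let g : Sym (Option 𝒬) N → GL (Fin n) F := fun s => (IsUnit.of_pow_eq_one (hpow s) hr.ne_zero).unit
  let S : Set (ConjClasses (GL (Fin n) F)) := {C | ∃ g : GL (Fin n) F, ConjClasses.mk g = C ∧ g ^ r = 1}
  have hgr : ∀ s, g s ^ r = 1 := fun s => Units.ext (by rw [Units.val_pow_eq_pow_val]; exact hpow s)
  have hbij : Function.Bijective (fun s => (⟨ConjClasses.mk (g s), g s, rfl, hgr s⟩ : S)) := by
    constructor
    · intro s s' h
      have h1 : IsConj (g s) (g s') := ConjClasses.mk_eq_mk_iff_isConj.mp (congrArg Subtype.val h)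
      have h2 : (A s).charpoly = (A s').charpoly :=
        SemisimpleClasses.charpoly_eq_of_isConj ((Units.coeHom _).map_isConj h1)
      letI := hι s; letI := hι s'
      have hm : ∀ s j, Irreducible (f s j) ∧ (f s j).Monic ∧ f s j ∣ X ^ r - 1 := fun s j => by
        letI := hι s
        exact hMmem s _ (hf s ▸ Multiset.mem_map_of_mem _ (Finset.mem_univ_val j))
      have h3 : M s = M s' := by
        rw [← hf s, ← hf s', CanonicalForm.map_eq_normalizedFactors (hform s) (fun j => (hm s j).2.1) (fun j => (hm s j).1),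
          CanonicalForm.map_eq_normalizedFactors (hform s') (fun j => (hm s' j).2.1) (fun j => (hm s' j).1), h2]
      have h4 : body s = body s' := Multiset.map_injective Subtype.val_injective
        ((hfilter s).symm.trans ((congrArg _ h3).trans (hfilter s')))
      have e1 := option_decomp (s : Multiset (Option 𝒬))
      have e2 := option_decomp (s' : Multiset (Option 𝒬))
      have c1 := congrArg Multiset.card e1
      have c2 := congrArg Multiset.card e2
      rw [Multiset.card_add, Multiset.card_map, Multiset.card_replicate] at c1 c2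
      have : Multiset.card (s : Multiset (Option 𝒬)) = Multiset.card (s' : Multiset (Option 𝒬)) := s.2.trans s'.2.symm
      change (s : Multiset (Option 𝒬)).filterMap id = (s' : Multiset (Option 𝒬)).filterMap id at h4
      apply Sym.coe_injective
      rw [h4] at c1 e1
      rw [show Multiset.count none (s : Multiset (Option 𝒬)) = Multiset.count none (s' : Multiset (Option 𝒬)) by omega] at e1
      exact e1.trans e2.symm
    · rintro ⟨C, x, rfl, hx⟩
      have hxm : (x : Matrix (Fin n) (Fin n) F) ^ r = 1 := by rw [← Units.val_pow_eq_pow_val, hx, Units.val_one]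
      obtain ⟨κ, hκ, φ, hφ1, hφ2, hφ⟩ := CanonicalForm.exists_form_of_pow_eq_one _ r hr0 hxm
      have hd : ∀ j, φ j ∣ X ^ r - 1 := (hφ.aeval_eq_zero_iff _).mp (by simp [hxm])
      have hcl : ∀ j, φ j ≠ X - C 1 → φ j ∈ 𝒬 := fun j hj =>
        Finset.mem_erase.mpr ⟨hj, Multiset.mem_toFinset.mpr ((hmem _).mpr ⟨hφ2 j, hφ1 j, hd j⟩)⟩
      let T : Multiset F[X] := (Finset.univ : Finset κ).val.map φ
      have hT : ∀ x ∈ T.filter (fun x => x ≠ X - C 1), x ∈ 𝒬 := by
        intro x hx
        obtain ⟨h1, h2⟩ := Multiset.mem_filter.mp hx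
        obtain ⟨j, -, rfl⟩ := Multiset.mem_map.mp h1
        exact hcl j h2
      let b : Multiset 𝒬 := (T.filter fun x => x ≠ X - C 1).pmap (fun x hx => ⟨x, hx⟩) hT
      have hb : b.map (↑) = T.filter (fun x => x ≠ X - C 1) := by
        simp only [b, Multiset.map_pmap, Multiset.pmap_eq_map]
        exact Multiset.map_id' _
      have hdeg : i * b.card + T.count (X - C 1) = n := by
        have h1 := hφ.sum_natDegree hφ1
        have h2 : (T.map natDegree).sum = n := by
          rw [Multiset.map_map]
          exact h1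
        have h3 : T = b.map (↑) + Multiset.replicate (T.count (X - C 1)) (X - C 1) := by
          rw [hb, ← Multiset.filter_eq']
          conv_lhs => rw [← Multiset.filter_add_not (fun x => x ≠ X - C 1) T]
          congr 1
          exact Multiset.filter_congr fun x _ => not_not
        rw [h3] at h2
        simp only [Multiset.map_add, Multiset.map_map, Function.comp_def, Multiset.map_replicate, Multiset.sum_add,
          Multiset.sum_replicate, natDegree_X_sub_C, smul_eq_mul, mul_one] at h2
        rw [Multiset.map_congr rfl fun f _ => (hQ f.1 f.2).2.2.2.2, Multiset.map_const', Multiset.sum_replicate,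
          smul_eq_mul, mul_comm] at h2
        exact h2
      have hbN : b.card ≤ N := by
        rw [hN, Nat.le_div_iff_mul_le hi0, mul_comm]
        omega
      let s : Sym (Option 𝒬) N := Sym.mk (b.map some + Multiset.replicate (N - b.card) none) (by
        rw [Multiset.card_add, Multiset.card_map, Multiset.card_replicate]; omega)
      have hbs : body s = b := by
        show Multiset.filterMap id (b.map some + Multiset.replicate (N - b.card) none) = b
        have h0 : Multiset.filterMap id (Multiset.replicate (N - b.card) (none : Option 𝒬)) = 0 :=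
          Multiset.eq_zero_of_forall_notMem fun a ha => by
            obtain ⟨o, ho, ho'⟩ := (Multiset.mem_filterMap _ _).mp ha
            rw [Multiset.eq_of_mem_replicate ho] at ho'
            exact absurd ho' (by simp)
        rw [Multiset.filterMap_add, Multiset.filterMap_map, h0, add_zero]
        exact Multiset.filterMap_some b
      refine ⟨s, Subtype.ext (ConjClasses.mk_eq_mk_iff_isConj.mpr
        (SemisimpleClasses.isConj_units_of_isConj _ _ ?_))⟩
      letI := hι s
      show IsConj (A s) (x : Matrix (Fin n) (Fin n) F)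
      refine CanonicalForm.isConj_of_map_eq (hform s) hφ ((hf s).trans ?_)
      show (body s).map (↑) + Multiset.replicate (n - i * (body s).card) (X - C 1) = T
      rw [hbs, hb, show n - i * b.card = T.count (X - C 1) by omega, ← Multiset.filter_eq']
      conv_rhs => rw [← Multiset.filter_add_not (fun x => x ≠ X - C 1) T]
      congr 1
      exact Multiset.filter_congr fun x _ => not_not.symm
  have hcard : Nat.card S = Nat.choose (n / i + t) t := by
    rw [← Nat.card_eq_of_bijective _ hbij, Nat.card_eq_fintype_card, Sym.card_sym_eq_choose, Fintype.card_option,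
      Fintype.card_coe, hcardQ, ← hN, Nat.add_right_comm, Nat.add_sub_cancel]
    rw [add_comm t N, Nat.choose_symm_add]
  have h1 : ConjClasses.mk (1 : GL (Fin n) F) ∈ S := ⟨1, rfl, one_pow r⟩
  calc _ = Nat.card ↥(S \ {ConjClasses.mk 1}) := by
        refine Nat.card_congr (Equiv.subtypeEquivRight fun C => ?_)
        constructor
        · rintro ⟨g, hg, hgp⟩
          refine ⟨⟨g, hg, by rw [← hgp, pow_orderOf_eq_one]⟩, fun h => ?_⟩
          rw [Set.mem_singleton_iff, ← hg, ConjClasses.mk_eq_mk_iff_isConj] at h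
          rw [isConj_one_left.mp h, orderOf_one] at hgp
          exact hr.one_lt.ne hgp
        · rintro ⟨⟨g, hg, hgp⟩, hne⟩
          refine ⟨g, hg, orderOf_eq_prime hgp fun h => hne ?_⟩
          rw [Set.mem_singleton_iff, ← hg, h]
    _ = _ := by rw [Nat.card_coe_set_eq, Set.ncard_diff_singleton_of_mem h1, ← Nat.card_coe_set_eq, hcard]

end Cfsg.Agent.S2568
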