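import Cfsg.Statements.S2570
import Cfsg.Agent.Lib.Linear.UnipotentClasses

set_option autoImplicit false
open Cfsg

namespace Cfsg.Agent.S2570

open Cfsg.Agent.Lib.Linear

/-- Number of conjugacy classes of elements of order p in GL_n over a finite field of characteristic p: they correspond to the Jordan types, that is, to the partitions of n with all parts at most p other than the partition into ones, so there are (number of partitions of n with parts ≤ p) − 1 of them. -/
theorem result {F : Type*} [Field F] [Fintype F] {p : ℕ} [Fact p.Prime] [CharP F p] (n : ℕ) : Nat.card {C : ConjClasses (GL (Fin n) F) // ∃ g : GL (Fin n) F, ConjClasses.mk g = C ∧ orderOf g = p} = (Finset.univ.filter (fun μ : Nat.Partition n => ∀ a ∈ μ.parts, a ≤ p)).card - 1 := by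
  classical
  have key : ∀ g : GL (Fin n) F, orderOf g = p ↔ ((g : Matrix (Fin n) (Fin n) F) - 1) ^ p = 0 ∧ g ≠ 1 := by
    intro g
    have h1 : g ^ p = 1 ↔ ((g : Matrix (Fin n) (Fin n) F) - 1) ^ p = 0 := by
      rw [Units.ext_iff, Units.val_pow_eq_pow_val, Units.val_one]
      simpa using UnipotentClasses.pow_eq_one_iff (p := p) (g : Matrix (Fin n) (Fin n) F) 1
    rw [orderOf_eq_prime_iff, h1]
  rw [← UnipotentClasses.card_classes (F := F) p]
  let S : Set (ConjClasses (GL (Fin n) F)) :=
    {C | ∃ g : GL (Fin n) F, ConjClasses.mk g = C ∧ ((g : Matrix (Fin n) (Fin n) F) - 1) ^ p = 0}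
  have h1 : ConjClasses.mk (1 : GL (Fin n) F) ∈ S :=
    ⟨1, rfl, by rw [Units.val_one, sub_self, zero_pow (Fact.out : p.Prime).ne_zero]⟩
  calc _ = Nat.card ↥(S \ {ConjClasses.mk 1}) := by
        refine Nat.card_congr (Equiv.subtypeEquivRight fun C => ?_)
        constructor
        · rintro ⟨g, hg, hgp⟩
          refine ⟨⟨g, hg, ((key g).mp hgp).1⟩, fun h => ((key g).mp hgp).2 ?_⟩
          rw [Set.mem_singleton_iff, ← hg, ConjClasses.mk_eq_mk_iff_isConj] at h
          exact isConj_one_left.mp h
        · rintro ⟨⟨g, hg, hgp⟩, hne⟩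
          refine ⟨g, hg, (key g).mpr ⟨hgp, fun h => hne ?_⟩⟩
          rw [Set.mem_singleton_iff, ← hg, h]
    _ = _ := by
        rw [Nat.card_coe_set_eq, Set.ncard_diff_singleton_of_mem h1, ← Nat.card_coe_set_eq]
        rfl

end Cfsg.Agent.S2570
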