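import Cfsg.Statements.S2573
import Mathlib

set_option autoImplicit false
open Cfsg

namespace Cfsg.Agent.S2573

open Module

/-- kernels of powers of a one-block nilpotent map grow by at most one -/
theorem finrank_ker_pow_le {F V : Type*} [Field F] [AddCommGroup V] [Module F V] [FiniteDimensional F V]
    (N : V →ₗ[F] V) (h1 : finrank F (LinearMap.ker N) ≤ 1) (j : ℕ) :
    finrank F (LinearMap.ker (N ^ j)) ≤ j := by
  induction j with
  | zero => rw [pow_zero, Module.End.one_eq_id, LinearMap.ker_id, finrank_bot]
  | succ j ih =>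
      let φ : LinearMap.ker (N ^ (j + 1)) →ₗ[F] LinearMap.ker (N ^ j) :=
        N.restrict fun x hx => by
          rw [LinearMap.mem_ker] at hx ⊢
          rwa [pow_succ] at hx
      have h2 := LinearMap.finrank_range_add_finrank_ker φ
      have h3 := Submodule.finrank_le (LinearMap.range φ)
      have h4 : finrank F (LinearMap.ker φ) ≤ finrank F (LinearMap.ker N) := by
        refine LinearMap.finrank_le_finrank_of_injective
          (f := ((LinearMap.ker (N ^ (j + 1))).subtype.comp (LinearMap.ker φ).subtype).codRestrict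
            (LinearMap.ker N) fun x => congrArg Subtype.val (LinearMap.mem_ker.mp x.2)) ?_
        intro a b hab
        have h := congrArg Subtype.val hab
        exact Subtype.ext (Subtype.ext h)
      omega

theorem eq_ker_pow {F V : Type*} [Field F] [AddCommGroup V] [Module F V] [FiniteDimensional F V]
    (N : V →ₗ[F] V) (h1 : finrank F (LinearMap.ker N) ≤ 1) (hn : IsNilpotent N)
    (W : Submodule F V) (hW : ∀ x ∈ W, N x ∈ W) : W = LinearMap.ker (N ^ finrank F W) := by
  obtain ⟨k, hk⟩ := hn
  have hf : IsNilpotent (N.restrict hW) := by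
    refine ⟨k, ?_⟩
    rw [Module.End.pow_restrict]
    ext x
    simp [hk]
  have hz : (N.restrict hW) ^ finrank F W = 0 := by
    have h := LinearMap.aeval_self_charpoly (N.restrict hW)
    rwa [(N.restrict hW).charpoly_eq_X_pow_iff.mpr (fun m => ⟨_, by
      rw [hf.choose_spec, LinearMap.zero_apply]⟩), map_pow, Polynomial.aeval_X] at h
  refine Submodule.eq_of_le_of_finrank_le ?_ (finrank_ker_pow_le N h1 _)
  intro x hx
  rw [LinearMap.mem_ker]
  have h := congrArg Subtype.val (LinearMap.congr_fun hz ⟨x, hx⟩)
  rw [Module.End.pow_restrict] at h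
  simpa using h

theorem finrank_ker_le_one {F : Type*} [Field F] {n : ℕ} (N : Matrix (Fin n) (Fin n) F)
    (hreg : N.rank = n - 1) : finrank F (LinearMap.ker (Matrix.mulVecLin N)) ≤ 1 := by
  have h := LinearMap.finrank_range_add_finrank_ker (Matrix.mulVecLin N)
  have h2 : finrank F (LinearMap.range (Matrix.mulVecLin N)) = n - 1 := hreg
  rw [h2, finrank_fin_fun] at h
  omega

theorem mulVecLin_pow {F : Type*} [Field F] {n : ℕ} (N : Matrix (Fin n) (Fin n) F) (k : ℕ) :
    Matrix.mulVecLin (N ^ k) = (Matrix.mulVecLin N) ^ k := by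
  induction k with
  | zero => rw [pow_zero, pow_zero, Matrix.mulVecLin_one]; rfl
  | succ k ih => rw [pow_succ, pow_succ, Matrix.mulVecLin_mul, ih]; rfl

theorem mulVecLin_isNilpotent {F : Type*} [Field F] {n : ℕ} (N : Matrix (Fin n) (Fin n) F)
    (hnil : N ^ n = 0) : IsNilpotent (Matrix.mulVecLin N) :=
  ⟨n, by rw [← mulVecLin_pow, hnil, Matrix.mulVecLin_zero]⟩

/-- The invariant subspaces of a regular unipotent matrix form a chain: over a finite field, if u is an n × n matrix with (u − 1)^n = 0 and rank(u − 1) = n − 1, then every subspace W of F^n with u W ⊆ W is the kernel of (u − 1)^(dim W); so u has at most one invariant subspace of each dimension. -/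
theorem result {F : Type*} [Field F] [Finite F] {n : ℕ} (u : Matrix (Fin n) (Fin n) F) (hnil : (u - 1) ^ n = 0) (hreg : (u - 1).rank = n - 1) (W : Submodule F (Fin n → F)) (hW : ∀ v ∈ W, u.mulVec v ∈ W) : W = LinearMap.ker (Matrix.mulVecLin ((u - 1) ^ Module.finrank F W)) := by
  have hT : ∀ x ∈ W, Matrix.mulVecLin (u - 1) x ∈ W := fun x hx => by
    rw [Matrix.mulVecLin_apply, Matrix.sub_mulVec, Matrix.one_mulVec]
    exact W.sub_mem (hW x hx) hx
  have h1 := finrank_ker_le_one (u - 1) hreg
  have h2 := mulVecLin_isNilpotent (u - 1) hnil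
  have h := eq_ker_pow (F := F) (V := Fin n → F) (Matrix.mulVecLin (u - 1)) h1 h2 W hT
  rw [mulVecLin_pow]
  exact h

end Cfsg.Agent.S2573
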