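import Cfsg.Statements.S2571
import Cfsg.Agent.S2573

set_option autoImplicit false
open Cfsg
open scoped Matrix

namespace Cfsg.Agent.S2571

open Module Cfsg.Agent.S2573

/-- Centraliser of a regular unipotent element in GL_n(q): if u is an invertible n × n matrix over the field with q elements, n ≥ 1, with (u − 1)^n = 0 and rank(u − 1) = n − 1 (a single unipotent Jordan block), then its centraliser in GL_n(q) has order (q − 1) q^(n−1). -/
theorem result {F : Type*} [Field F] [Fintype F] {q n : ℕ} (hF : Fintype.card F = q) (hn : 1 ≤ n) (u : GL (Fin n) F) (hnil : ((u : Matrix (Fin n) (Fin n) F) - 1) ^ n = 0) (hreg : ((u : Matrix (Fin n) (Fin n) F) - 1).rank = n - 1) : Nat.card ↥(Subgroup.centralizer ({u} : Set (GL (Fin n) F))) = (q - 1) * q ^ (n - 1) := by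
  classical
  set N : Matrix (Fin n) (Fin n) F := (u : Matrix (Fin n) (Fin n) F) - 1 with hNdef
  set T := Matrix.mulVecLin N with hT
  have h1 := finrank_ker_le_one N hreg
  have hnl := mulVecLin_isNilpotent N hnil
  have hTn : T ^ n = 0 := by rw [hT, ← mulVecLin_pow, hnil, Matrix.mulVecLin_zero]
  set K : Submodule F (Fin n → F) := LinearMap.ker (T ^ (n - 1)) with hK
  -- a vector outside `K` is cyclic
  have hbasis : ∀ v, v ∉ K → ∃ b : Basis (Fin n) F (Fin n → F), ∀ j, b j = (T ^ (j : ℕ)) v := by
    intro v hv
    let w : Fin n → (Fin n → F) := fun j => (T ^ (j : ℕ)) v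
    have hinv : ∀ x ∈ Submodule.span F (Set.range w), T x ∈ Submodule.span F (Set.range w) := by
      intro x hx
      induction hx using Submodule.span_induction with
      | mem x hx =>
          obtain ⟨j, rfl⟩ := hx
          show T ((T ^ (j : ℕ)) v) ∈ _
          by_cases hj : (j : ℕ) + 1 < n
          · exact Submodule.subset_span ⟨⟨(j : ℕ) + 1, hj⟩, by
              show (T ^ ((j : ℕ) + 1)) v = _
              rw [pow_succ', Module.End.mul_apply]⟩
          · have hjn : (j : ℕ) + 1 = n := by have := j.isLt; omega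
            rw [← Module.End.mul_apply, ← pow_succ', hjn, hTn, LinearMap.zero_apply]
            exact Submodule.zero_mem _
      | zero => rw [map_zero]; exact Submodule.zero_mem _
      | add x y _ _ hx hy => rw [map_add]; exact Submodule.add_mem _ hx hy
      | smul a x _ hx => rw [map_smul]; exact Submodule.smul_mem _ _ hx
    have htop : Submodule.span F (Set.range w) = ⊤ := by
      have he := eq_ker_pow T h1 hnl _ hinv
      set k := finrank F (Submodule.span F (Set.range w)) with hk
      by_contra hne
      have hlt : k < n := by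
        have := Submodule.finrank_lt hne
        rwa [finrank_fin_fun] at this
      have hmem : v ∈ Submodule.span F (Set.range w) :=
        Submodule.subset_span ⟨⟨0, hn⟩, by simp [w]⟩
      rw [he, LinearMap.mem_ker] at hmem
      apply hv
      rw [hK, LinearMap.mem_ker, show n - 1 = (n - 1 - k) + k by omega, pow_add,
        Module.End.mul_apply, hmem, map_zero]
    exact ⟨basisOfTopLeSpanOfCardEqFinrank w htop.ge (by rw [finrank_fin_fun, Fintype.card_fin]),
      fun j => by rw [coe_basisOfTopLeSpanOfCardEqFinrank]⟩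
  obtain ⟨e, he⟩ : ∃ e, e ∉ K := by
    by_contra h
    push Not at h
    have htop : K = ⊤ := eq_top_iff.mpr fun x _ => h x
    have := finrank_ker_pow_le T h1 (n - 1)
    rw [← hK, htop, finrank_top, finrank_fin_fun] at this
    omega
  obtain ⟨be, hbe⟩ := hbasis e he
  -- elements of the centraliser commute with `T`
  have hcomm : ∀ g : ↥(Subgroup.centralizer ({u} : Set (GL (Fin n) F))), ∀ (j : ℕ) (x : Fin n → F),
      (g : GL (Fin n) F).val *ᵥ ((T ^ j) x) = (T ^ j) ((g : GL (Fin n) F).val *ᵥ x) := by
    intro g j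
    have hu : (g : GL (Fin n) F).val * N = N * (g : GL (Fin n) F).val := by
      have h2 := congrArg Units.val (Subgroup.mem_centralizer_singleton_iff.mp g.2)
      rw [Units.val_mul, Units.val_mul] at h2
      rw [hNdef, mul_sub, sub_mul, mul_one, one_mul, h2]
    induction j with
    | zero => intro x; simp
    | succ j ih =>
        intro x
        rw [pow_succ, Module.End.mul_apply, Module.End.mul_apply, ih]
        congr 1
        show _ *ᵥ (N *ᵥ x) = N *ᵥ _
        rw [Matrix.mulVec_mulVec, hu, ← Matrix.mulVec_mulVec]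
  have hmaps : ∀ g : ↥(Subgroup.centralizer ({u} : Set (GL (Fin n) F))),
      (g : GL (Fin n) F).val *ᵥ e ∈ (↑K : Set (Fin n → F))ᶜ := by
    intro g hmem
    apply he
    rw [SetLike.mem_coe, hK, LinearMap.mem_ker, ← hcomm] at hmem
    rw [hK, LinearMap.mem_ker]
    have := congrArg ((g⁻¹ : ↥(Subgroup.centralizer ({u} : Set (GL (Fin n) F)))) : GL (Fin n) F).val.mulVec hmem
    rw [Matrix.mulVec_mulVec, ← Units.val_mul, ← Subgroup.coe_mul, inv_mul_cancel,
      OneMemClass.coe_one, Units.val_one, Matrix.one_mulVec, Matrix.mulVec_zero] at this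
    exact this
  have hbij : Function.Bijective (fun g : ↥(Subgroup.centralizer ({u} : Set (GL (Fin n) F))) =>
      (⟨(g : GL (Fin n) F).val *ᵥ e, hmaps g⟩ : ↥((↑K : Set (Fin n → F))ᶜ))) := by
    constructor
    · intro g h hgh
      have h0 : (g : GL (Fin n) F).val *ᵥ e = (h : GL (Fin n) F).val *ᵥ e := congrArg Subtype.val hgh
      apply Subtype.ext
      apply Units.ext
      apply Matrix.mulVec_injective
      have : Matrix.mulVecLin (g : GL (Fin n) F).val = Matrix.mulVecLin (h : GL (Fin n) F).val :=
        be.ext fun j => by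
          rw [Matrix.mulVecLin_apply, Matrix.mulVecLin_apply, hbe, hcomm, hcomm, h0]
      funext x
      exact LinearMap.congr_fun this x
    · rintro ⟨v, hv⟩
      obtain ⟨bv, hbv⟩ := hbasis v hv
      let φ : (Fin n → F) ≃ₗ[F] (Fin n → F) := be.equiv bv (Equiv.refl _)
      have hφ : ∀ j : Fin n, φ ((T ^ (j : ℕ)) e) = (T ^ (j : ℕ)) v := fun j : Fin n => by
        rw [← hbe, ← hbv]
        simp [φ]
      have hφT : ∀ x, φ (T x) = T (φ x) := by
        have : φ.toLinearMap.comp T = T.comp φ.toLinearMap := be.ext fun j => by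
          show φ (T (be j)) = T (φ (be j))
          rw [hbe, hφ, ← Module.End.mul_apply, ← pow_succ']
          by_cases hj : (j : ℕ) + 1 < n
          · rw [show T ((T ^ (j : ℕ)) v) = (T ^ ((⟨(j : ℕ) + 1, hj⟩ : Fin n) : ℕ)) v by
              rw [← Module.End.mul_apply, ← pow_succ']]
            exact hφ ⟨(j : ℕ) + 1, hj⟩
          · have hjn : (j : ℕ) + 1 = n := by have := j.isLt; omega
            rw [hjn, hTn, LinearMap.zero_apply, map_zero, ← Module.End.mul_apply, ← pow_succ', hjn,
              hTn, LinearMap.zero_apply]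
        exact fun x => LinearMap.congr_fun this x
      let g : GL (Fin n) F :=
        ⟨LinearMap.toMatrix' φ.toLinearMap, LinearMap.toMatrix' φ.symm.toLinearMap,
          by rw [← LinearMap.toMatrix'_comp]; simp,
          by rw [← LinearMap.toMatrix'_comp]; simp⟩
      have hg : ∀ x, g.val *ᵥ x = φ x := fun x => LinearMap.toMatrix'_mulVec φ.toLinearMap x
      have hgu : g ∈ Subgroup.centralizer ({u} : Set (GL (Fin n) F)) := by
        rw [Subgroup.mem_centralizer_singleton_iff]
        apply Units.ext
        apply Matrix.mulVec_injective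
        funext x
        have h3 := hφT x
        rw [hT, Matrix.mulVecLin_apply, Matrix.mulVecLin_apply, hNdef, Matrix.sub_mulVec,
          Matrix.sub_mulVec, Matrix.one_mulVec, Matrix.one_mulVec, map_sub, sub_left_inj] at h3
        show (g * u).val *ᵥ x = (u * g).val *ᵥ x
        rw [Units.val_mul, Units.val_mul, ← Matrix.mulVec_mulVec, ← Matrix.mulVec_mulVec, hg, hg]
        exact h3
      refine ⟨⟨g, hgu⟩, Subtype.ext ?_⟩
      show g.val *ᵥ e = v
      rw [hg]
      have := hφ ⟨0, hn⟩
      simpa using this
  rw [Nat.card_congr (Equiv.ofBijective _ hbij), Nat.card_coe_set_eq, Set.ncard_compl]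
  have hKd : finrank F K = n - 1 := by
    refine le_antisymm (finrank_ker_pow_le T h1 (n - 1)) ?_
    have h2 := LinearMap.finrank_range_add_finrank_ker (T ^ (n - 1))
    rw [finrank_fin_fun] at h2
    have h3 : finrank F (LinearMap.range (T ^ (n - 1))) ≤ finrank F (LinearMap.ker T) := by
      refine Submodule.finrank_mono ?_
      rintro _ ⟨x, rfl⟩
      rw [LinearMap.mem_ker, ← Module.End.mul_apply, ← pow_succ', Nat.sub_add_cancel hn, hTn,
        LinearMap.zero_apply]
    have h1' : finrank F (LinearMap.ker T) ≤ 1 := h1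
    rw [hK]
    omega
  rw [← Nat.card_coe_set_eq, show Nat.card ↥(↑K : Set (Fin n → F)) = Nat.card K from rfl,
    Module.natCard_eq_pow_finrank (K := F) (V := K), hKd, Nat.card_eq_fintype_card,
    Nat.card_eq_fintype_card, Fintype.card_fun, Fintype.card_fin, hF]
  have hqn : q ^ n = q * q ^ (n - 1) := by
    rw [← pow_succ', Nat.sub_add_cancel hn]
  rw [hqn, Nat.sub_mul, one_mul]

end Cfsg.Agent.S2571
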