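import Cfsg.Statements.S2572
import Cfsg.Agent.S0839
import Cfsg.Agent.Lib.Linear.UnipotentClasses

set_option autoImplicit false
open Cfsg

namespace Cfsg.Agent.S2572

open Cfsg.Agent.Lib.Linear
open Polynomial
open scoped Matrix

universe u

variable {F : Type u} [Field F] [Fintype F]

theorem det_eq_one {n : ℕ} {A : Matrix (Fin n) (Fin n) F} (hA : (A - 1) ^ 2 = 0) : A.det = 1 := by
  obtain ⟨μ, -, ι, hι, e, -, hmap, h⟩ := UnipotentClasses.exists_type 2 hA
  rw [Matrix.det_eq_sign_charpoly_coeff, h.charpoly fun i => UnipotentClasses.monic_Y.pow _,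
    Finset.prod_pow_eq_pow_sum, show ∑ i, e i = n by
      conv_rhs => rw [← μ.parts_sum, ← hmap]
      rfl,
    coeff_zero_eq_eval_zero, eval_pow, eval_sub, eval_X, eval_C, zero_sub, Fintype.card_fin, ← mul_pow,
    neg_one_mul, neg_neg, one_pow]

theorem exists_move {m : ℕ} (v : Fin (m + 2) → F) (hv : v 0 = 0) (hv0 : v ≠ 0) :
    ∃ P : GL (Fin (m + 2)) F, (1 + Matrix.vecMulVec v (Pi.single 0 1)) * (P : Matrix (Fin (m + 2)) (Fin (m + 2)) F) =
      (P : Matrix (Fin (m + 2)) (Fin (m + 2)) F) * (1 + Matrix.single (Fin.last (m + 1)) 0 1) := by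
  classical
  obtain ⟨j, hj⟩ := Function.ne_iff.mp hv0
  have hj0 : j ≠ 0 := fun h => hj (h ▸ hv)
  let σ : Equiv.Perm (Fin (m + 2)) := Equiv.swap j (Fin.last (m + 1))
  let M : Matrix (Fin (m + 2)) (Fin (m + 2)) F := ((1 : Matrix (Fin (m + 2)) (Fin (m + 2)) F).updateCol j v).submatrix id σ
  have hM : M.det ≠ 0 := by
    show (Matrix.submatrix _ id σ).det ≠ 0
    rw [Matrix.det_permute', ← Matrix.cramer_apply, Matrix.cramer_one]
    exact mul_ne_zero (by rcases Int.units_eq_one_or (Equiv.Perm.sign σ) with h | h <;> simp [h]) hj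
  refine ⟨Matrix.GeneralLinearGroup.mkOfDetNeZero M hM, ?_⟩
  show (1 + Matrix.vecMulVec v (Pi.single 0 1)) * M = M * (1 + Matrix.single (Fin.last (m + 1)) 0 1)
  rw [add_mul, one_mul, mul_add, mul_one, Matrix.vecMulVec_mul, Matrix.single_eq_single_vecMulVec_single,
    Matrix.mul_vecMulVec]
  congr 1
  have hl : (Fin.last (m + 1)) ≠ 0 := (Fin.last_pos (n := m)).ne'
  congr 1
  · funext i
    rw [Matrix.mulVec_single_one]
    simp [M, σ, Matrix.col]
  · funext k
    rw [Matrix.single_one_vecMul]
    by_cases hk : σ k = j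
    · have : k ≠ 0 := by
        intro h0
        subst h0
        rw [Equiv.swap_apply_of_ne_of_ne hj0.symm hl.symm] at hk
        exact hj0 hk.symm
      simp [M, Matrix.row, hk, hv, this]
    · have : σ k = 0 ↔ k = 0 := by
        have h0 : σ 0 = 0 := Equiv.swap_apply_of_ne_of_ne hj0.symm hl.symm
        exact ⟨fun h => σ.injective (h.trans h0.symm), fun h => h ▸ h0⟩
      by_cases hk0 : k = 0
      · subst hk0
        simp [M, Matrix.row, hk, this.mpr rfl, hj0.symm]
      · simp [M, Matrix.row, hk, Matrix.one_apply, Pi.single_apply, hk0, Ne.symm (mt this.mp hk0)]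

theorem card_std {m : ℕ} (T : GL (Option (Option (Fin m))) F)
    (hT : (T : Matrix (Option (Option (Fin m))) (Option (Option (Fin m))) F) = 1 + Matrix.single (some none) none 1) :
    Nat.card ↥(Subgroup.centralizer ({T} : Set (GL (Option (Option (Fin m))) F))) =
      Fintype.card F ^ (m + m + 1) * (Fintype.card F - 1) *
        ∏ i : Fin m, (Fintype.card F ^ m - Fintype.card F ^ (i : ℕ)) := by
  classical
  let p : Matrix (Option (Option (Fin m))) (Option (Option (Fin m))) F → Prop := fun g => g (some none) (some none) = g none none ∧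
    (∀ j : Option (Fin m), g none (some j) = 0) ∧ ∀ i : Fin m, g (some (some i)) (some none) = 0
  have hp : ∀ g : GL (Option (Option (Fin m))) F, g ∈ Subgroup.centralizer ({T} : Set (GL (Option (Option (Fin m))) F)) ↔ p (g : Matrix (Option (Option (Fin m))) (Option (Option (Fin m))) F) := by
    intro g
    rw [Subgroup.mem_centralizer_singleton_iff, Units.ext_iff, Units.val_mul, Units.val_mul, hT,
      mul_add, add_mul, mul_one, one_mul, add_right_inj, Matrix.single_eq_single_vecMulVec_single,
      Matrix.mul_vecMulVec, Matrix.vecMulVec_mul, Matrix.mulVec_single_one, Matrix.single_one_vecMul]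
    constructor
    · intro h
      refine ⟨by simpa [Matrix.vecMulVec_apply, Matrix.col, Matrix.row] using congrFun₂ h (some none) none,
        fun j => ?_, fun i => by simpa [Matrix.vecMulVec_apply, Matrix.col, Matrix.row] using congrFun₂ h (some (some i)) none⟩
      simpa [Matrix.vecMulVec_apply, Matrix.col, Matrix.row] using (congrFun₂ h (some none) (some j)).symm
    · rintro ⟨h1, h2, h3⟩
      ext i j
      rcases i with _ | _ | i <;> rcases j with _ | _ | j <;>
        simp [Matrix.vecMulVec_apply, Matrix.col, Matrix.row, h1, h2, h3]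
  let D := Fˣ × GL (Fin m) F × (Fin m → F) × (Fin m → F) × F
  let mk : D → Matrix (Option (Option (Fin m))) (Option (Option (Fin m))) F := fun x => Matrix.of fun i j =>
    match i, j with
    | none, none => (x.1 : F)
    | none, some _ => 0
    | some none, none => x.2.2.2.2
    | some none, some none => (x.1 : F)
    | some none, some (some j) => x.2.2.2.1 j
    | some (some i), none => x.2.2.1 i
    | some (some _), some none => 0
    | some (some i), some (some j) => (x.2.1 : Matrix (Fin m) (Fin m) F) i j
  have hu : ∀ x, IsUnit (mk x) := by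
    intro x
    rw [← Matrix.mulVec_injective_iff_isUnit]
    refine (injective_iff_map_eq_zero (mk x).mulVecLin).mpr fun y hy => ?_
    have e1 : y none = 0 := by
      have := congrFun hy none
      simpa [Matrix.mulVec, dotProduct, Fintype.sum_option, mk] using this
    have e2 : (fun i => y (some (some i))) = 0 := by
      refine (Matrix.mulVec_injective_iff_isUnit.mpr x.2.1.isUnit) ?_
      rw [Matrix.mulVec_zero]
      funext i
      simpa [Matrix.mulVec, dotProduct, Fintype.sum_option, mk, e1] using congrFun hy (some (some i))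
    have e3 : y (some none) = 0 := by
      have := congrFun hy (some none)
      simpa [Matrix.mulVec, dotProduct, Fintype.sum_option, mk, e1, fun i => congrFun e2 i] using this
    funext i
    rcases i with _ | _ | i
    · exact e1
    · exact e3
    · exact congrFun e2 i
  have hsurj : ∀ g : GL (Option (Option (Fin m))) F, p (g : Matrix (Option (Option (Fin m))) (Option (Option (Fin m))) F) → ∃ x, mk x = (g : Matrix (Option (Option (Fin m))) (Option (Option (Fin m))) F) := by
    rintro g ⟨h1, h2, h3⟩
    have hinj := Matrix.mulVec_injective_iff_isUnit.mpr g.isUnit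
    have hl : (g : Matrix (Option (Option (Fin m))) (Option (Option (Fin m))) F) none none ≠ 0 := by
      intro h0
      have : (g : Matrix (Option (Option (Fin m))) (Option (Option (Fin m))) F) *ᵥ (Pi.single (some none) 1) = 0 := by
        rw [Matrix.mulVec_single_one]
        funext i
        rcases i with _ | _ | i
        · exact h2 _
        · exact h1.trans h0
        · exact h3 i
      have := congrFun (hinj (this.trans (Matrix.mulVec_zero _).symm)) (some none)
      simp at this
    let B : Matrix (Fin m) (Fin m) F := Matrix.of fun i j => (g : Matrix (Option (Option (Fin m))) (Option (Option (Fin m))) F) (some (some i)) (some (some j))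
    have hB : IsUnit B := by
      rw [← Matrix.mulVec_injective_iff_isUnit]
      refine (injective_iff_map_eq_zero B.mulVecLin).mpr fun y hy => ?_
      let d : F := ∑ j, (g : Matrix (Option (Option (Fin m))) (Option (Option (Fin m))) F) (some none) (some (some j)) * y j
      let z : (Option (Option (Fin m))) → F := fun i => match i with
        | none => 0
        | some none => -d / (g : Matrix (Option (Option (Fin m))) (Option (Option (Fin m))) F) none none
        | some (some j) => y j
      have hz : (g : Matrix (Option (Option (Fin m))) (Option (Option (Fin m))) F) *ᵥ z = 0 := by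
        funext i
        rcases i with _ | _ | i
        · simp [Matrix.mulVec, dotProduct, Fintype.sum_option, z, h2]
        · simp [Matrix.mulVec, dotProduct, Fintype.sum_option, z, h1, mul_div_cancel₀ _ hl, d]
        · have := congrFun hy i
          simp only [Matrix.mulVecLin_apply, Matrix.mulVec, dotProduct, B, Matrix.of_apply, Pi.zero_apply] at this
          simpa [Matrix.mulVec, dotProduct, Fintype.sum_option, z, h3] using this
      have := hinj (hz.trans (Matrix.mulVec_zero _).symm)
      funext j
      exact congrFun this (some (some j))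
    refine ⟨⟨Units.mk0 _ hl, hB.unit, fun i => (g : Matrix (Option (Option (Fin m))) (Option (Option (Fin m))) F) (some (some i)) none,
      fun j => (g : Matrix (Option (Option (Fin m))) (Option (Option (Fin m))) F) (some none) (some (some j)), (g : Matrix (Option (Option (Fin m))) (Option (Option (Fin m))) F) (some none) none⟩, ?_⟩
    ext i j
    rcases i with _ | _ | i <;> rcases j with _ | _ | j <;> simp [mk, h1, h2, h3, B]
  have hbij : Function.Bijective (fun x => (⟨(hu x).unit, (hp _).mpr ⟨rfl, fun _ => rfl, fun _ => rfl⟩⟩ :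
      ↥(Subgroup.centralizer ({T} : Set (GL (Option (Option (Fin m))) F))))) := by
    constructor
    · intro x y h
      have h' : mk x = mk y := congrArg (fun z : ↥(Subgroup.centralizer ({T} : Set (GL (Option (Option (Fin m))) F))) => (z.1 : Matrix (Option (Option (Fin m))) (Option (Option (Fin m))) F)) h
      refine Prod.ext (Units.ext (congrFun₂ h' none none)) (Prod.ext (Units.ext ?_) (Prod.ext ?_ (Prod.ext ?_ ?_)))
      · ext i j
        exact congrFun₂ h' (some (some i)) (some (some j))
      · funext i
        exact congrFun₂ h' (some (some i)) none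
      · funext j
        exact congrFun₂ h' (some none) (some (some j))
      · exact congrFun₂ h' (some none) none
    · rintro ⟨g, hg⟩
      obtain ⟨x, hx⟩ := hsurj g ((hp g).mp hg)
      exact ⟨x, Subtype.ext (Units.ext hx)⟩
  rw [← Nat.card_eq_of_bijective _ hbij]
  simp only [D, Nat.card_prod, Nat.card_fun, Nat.card_units, Nat.card_eq_fintype_card (α := F), Nat.card_fin,
    Matrix.card_GL_field]
  ring

/-- Centraliser of a transvection in GL_n(q), n ≥ 2: if t − 1 has rank one and square zero, the centraliser of t in GL_n(q) has order q^(2n−3) (q − 1) |GL_(n−2)(q)| (a group of order q^(2n−3) extended by GL_1(q) × GL_(n−2)(q)). -/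
theorem result {F : Type*} [Field F] [Fintype F] {q n : ℕ} (hF : Fintype.card F = q) (hn : 2 ≤ n) (t : GL (Fin n) F) (ht : Cfsg.IsTransvection (t : Matrix (Fin n) (Fin n) F)) : Nat.card ↥(Subgroup.centralizer ({t} : Set (GL (Fin n) F))) = q ^ (2 * n - 3) * (q - 1) * ∏ i : Fin (n - 2), (q ^ (n - 2) - q ^ (i : ℕ)) := by
  classical
  obtain ⟨m, rfl⟩ : ∃ m, n = m + 2 := ⟨n - 2, by omega⟩
  subst hF
  obtain ⟨hrk, hsq⟩ := id ht
  have hdet : (t : Matrix (Fin (m + 2)) (Fin (m + 2)) F).det = 1 := det_eq_one (by rw [pow_two, hsq])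
  obtain ⟨s, hs⟩ : ∃ s : Matrix.SpecialLinearGroup (Fin (m + 2)) F,
      (s : Matrix (Fin (m + 2)) (Fin (m + 2)) F) = (t : Matrix (Fin (m + 2)) (Fin (m + 2)) F) := ⟨⟨_, hdet⟩, rfl⟩
  obtain ⟨g, v, hv, hg⟩ := Cfsg.Agent.S0839.result m s (by rw [hs]; exact ht)
  have hv0 : v ≠ 0 := by
    intro h0
    rw [h0, Matrix.zero_vecMulVec, add_zero] at hg
    have h1 : g⁻¹ * s * g = 1 := Matrix.SpecialLinearGroup.ext _ _ fun i j => by rw [hg]; rfl
    have h2 : s = 1 := by
      calc s = g * (g⁻¹ * s * g) * g⁻¹ := by group
        _ = 1 := by rw [h1]; group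
    rw [← hs, h2, Matrix.SpecialLinearGroup.coe_one, sub_self, Matrix.rank_zero] at hrk
    exact zero_ne_one hrk
  obtain ⟨P, hP⟩ := exists_move v hv hv0
  let G : (Matrix (Fin (m + 2)) (Fin (m + 2)) F)ˣ :=
    ⟨g.1, (g⁻¹ : Matrix.SpecialLinearGroup (Fin (m + 2)) F).1,
      by rw [← Matrix.SpecialLinearGroup.coe_mul, mul_inv_cancel, Matrix.SpecialLinearGroup.coe_one],
      by rw [← Matrix.SpecialLinearGroup.coe_mul, inv_mul_cancel, Matrix.SpecialLinearGroup.coe_one]⟩
  let E : Fin (m + 2) ≃ Option (Option (Fin m)) := (finSuccEquiv (m + 1)).trans (Equiv.optionCongr finSuccEquivLast)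
  let R : GL (Fin (m + 2)) F ≃* GL (Option (Option (Fin m))) F :=
    Units.mapEquiv (Matrix.reindexAlgEquiv F F E).toMulEquiv
  let C : GL (Fin (m + 2)) F ≃* GL (Option (Option (Fin m))) F := (MulAut.conj (G * P)⁻¹).trans R
  have h0 : E 0 = none := by simp [E]
  have hl : E (Fin.last (m + 1)) = some none := by
    rw [show Fin.last (m + 1) = (Fin.last m).succ from rfl]
    show Option.map finSuccEquivLast (finSuccEquiv (m + 1) (Fin.last m).succ) = some none
    rw [finSuccEquiv_succ, Option.map_some, finSuccEquivLast_last]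
  have hT : (C t : Matrix (Option (Option (Fin m))) (Option (Option (Fin m))) F) =
      1 + Matrix.single (some none) none 1 := by
    have h1 : (((G * P)⁻¹ * t * (G * P) : GL (Fin (m + 2)) F) : Matrix (Fin (m + 2)) (Fin (m + 2)) F) =
        1 + Matrix.single (Fin.last (m + 1)) 0 1 := by
      rw [mul_inv_rev, show P⁻¹ * G⁻¹ * t * (G * P) = P⁻¹ * (G⁻¹ * t * G) * P by group, Units.val_mul, Units.val_mul]
      rw [show ((G⁻¹ * t * G : GL (Fin (m + 2)) F) : Matrix (Fin (m + 2)) (Fin (m + 2)) F) =
        1 + Matrix.vecMulVec v (Pi.single 0 1) by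
          rw [← hg, Units.val_mul, Units.val_mul, ← hs, Matrix.SpecialLinearGroup.coe_mul,
            Matrix.SpecialLinearGroup.coe_mul]
          rfl]
      rw [mul_assoc, hP, ← mul_assoc, Units.inv_mul, one_mul]
    show Matrix.reindex E E (((G * P)⁻¹ * t * ((G * P)⁻¹)⁻¹ : GL (Fin (m + 2)) F) :
      Matrix (Fin (m + 2)) (Fin (m + 2)) F) = _
    rw [inv_inv, h1, Matrix.reindex_apply, ← hl, ← h0]
    ext i k
    simp [Matrix.one_apply, Matrix.single_apply, Equiv.eq_symm_apply]
  have e1 : ↥(Subgroup.centralizer ({t} : Set (GL (Fin (m + 2)) F))) ≃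
      ↥(Subgroup.centralizer ({C t} : Set (GL (Option (Option (Fin m))) F))) :=
    C.toEquiv.subtypeEquiv fun x => by
      rw [Subgroup.mem_centralizer_singleton_iff, Subgroup.mem_centralizer_singleton_iff]
      show x * t = t * x ↔ C x * C t = C t * C x
      rw [← map_mul, ← map_mul, C.injective.eq_iff]
  rw [Nat.card_congr e1, card_std (C t) hT, Nat.add_sub_cancel,
    show 2 * (m + 2) - 3 = m + m + 1 by omega]

end Cfsg.Agent.S2572
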