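import Cfsg.Statements.S2575


set_option autoImplicit false
open Cfsg

namespace Cfsg.Agent.S2575

/-- Which diagonal involutions of PGL_n(q) lie in PSL_n(q), q odd: for the diagonal matrix t with i entries −1 and n − i entries 1, some non-zero scalar multiple of t has determinant one if and only if i is even or the 2-part of q − 1 exceeds the 2-part of n (that is, −1 is an n-th power in the field exactly in the latter case). -/
theorem result {F : Type*} [Field F] [Fintype F] {q : ℕ} (hF : Fintype.card F = q) (hq : Odd q) {n : ℕ} (hn : 1 ≤ n) (i : ℕ) (hi : i ≤ n) : (∃ c : F, c ≠ 0 ∧ (c • Matrix.diagonal (fun j : Fin n => if (j : ℕ) < i then (-1 : F) else 1)).det = 1) ↔ (Even i ∨ padicValNat 2 n < padicValNat 2 (q - 1)) := by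
  have hdet : ∀ c : F, (c • Matrix.diagonal (fun j : Fin n => if (j : ℕ) < i then (-1 : F) else 1)).det = c ^ n * (-1) ^ i := by
    intro c
    rw [Matrix.det_smul, Fintype.card_fin, Matrix.det_diagonal, Finset.prod_ite, Finset.prod_const, Finset.prod_const, one_pow, mul_one, Fin.card_filter_val_lt, Nat.min_eq_right hi]
  simp only [hdet]
  classical
  rcases Nat.even_or_odd i with hev | hod
  · exact iff_of_true ⟨1, one_ne_zero, by rw [one_pow, one_mul, hev.neg_one_pow]⟩ (Or.inl hev)
  rw [hod.neg_one_pow]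
  have : Fact (Nat.Prime 2) := ⟨Nat.prime_two⟩
  have hne : (-1 : F) ≠ 1 := by
    intro h
    have h2 : ringChar F ≠ 2 := fun h2 => by
      have := FiniteField.even_card_iff_char_two.1 h2
      rw [hF] at this
      rw [Nat.odd_iff] at hq
      omega
    exact Ring.neg_one_ne_one_of_char_ne_two h2 h
  have hq1 : q - 1 ≠ 0 := by have := Fintype.one_lt_card (α := F); omega
  obtain ⟨g, hg⟩ := IsCyclic.exists_ofOrder_eq_natCard (α := Fˣ)
  rw [Nat.card_eq_fintype_card, Fintype.card_units, hF] at hg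
  constructor
  · rintro ⟨c, hc0, hc⟩
    right
    have hcn : c ^ n = -1 := by linear_combination -hc
    by_contra hle
    rw [not_lt] at hle
    obtain ⟨m, hm⟩ : 2 ^ padicValNat 2 (q - 1) ∣ n := (pow_dvd_pow 2 hle).trans pow_padicValNat_dvd
    obtain ⟨M, hM⟩ : 2 ^ padicValNat 2 (q - 1) ∣ q - 1 := pow_padicValNat_dvd
    have hModd : Odd M := by
      rw [Nat.odd_iff]
      by_contra hMe
      obtain ⟨r, rfl⟩ : 2 ∣ M := by omega
      exact pow_succ_padicValNat_not_dvd (p := 2) hq1 ⟨r, by rw [pow_succ]; linear_combination hM⟩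
    have h1 : c ^ (n * M) = -1 := by rw [pow_mul, hcn, hModd.neg_one_pow]
    have h2 : c ^ (n * M) = 1 := by
      have h3 : c ^ (Fintype.card F - 1) = 1 := FiniteField.pow_card_sub_one_eq_one c hc0
      rw [hF] at h3
      rw [hm, show 2 ^ padicValNat 2 (q - 1) * m * M = (2 ^ padicValNat 2 (q - 1) * M) * m by ring, ← hM, pow_mul, h3, one_pow]
    exact hne (h1.symm.trans h2)
  · rintro (hev | hlt)
    · exact absurd hev (Nat.not_even_iff_odd.2 hod)
    obtain ⟨M, hM⟩ : 2 ^ (padicValNat 2 n + 1) ∣ q - 1 := (pow_dvd_pow 2 hlt).trans pow_padicValNat_dvd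
    obtain ⟨m, hm⟩ : 2 ^ padicValNat 2 n ∣ n := pow_padicValNat_dvd
    have hmodd : Odd m := by
      rw [Nat.odd_iff]
      by_contra hme
      obtain ⟨r, rfl⟩ : 2 ∣ m := by omega
      exact pow_succ_padicValNat_not_dvd (p := 2) (n := n) (by omega) ⟨r, by rw [pow_succ]; linear_combination hm⟩
    set x : Fˣ := g ^ M with hx
    have hxo : orderOf x = 2 ^ (padicValNat 2 n + 1) := by
      have hM0 : M ≠ 0 := fun h => hq1 (by rw [hM, h, mul_zero])
      rw [hx, orderOf_pow_of_dvd hM0 ⟨_, hg.trans (hM.trans (mul_comm _ _))⟩, hg, hM, Nat.mul_div_cancel _ (Nat.pos_of_ne_zero hM0)]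
    have h2 : ((x : F) ^ 2 ^ padicValNat 2 n) = -1 := by
      refine (sq_eq_one_iff.1 ?_).resolve_left ?_
      · rw [← pow_mul, ← pow_succ, ← hxo, ← Units.val_pow_eq_pow_val, pow_orderOf_eq_one, Units.val_one]
      · rw [← Units.val_pow_eq_pow_val, Units.val_eq_one]
        intro h
        have := orderOf_dvd_of_pow_eq_one h
        rw [hxo, Nat.pow_dvd_pow_iff_le_right (by norm_num)] at this
        omega
    refine ⟨x, Units.ne_zero x, ?_⟩
    rw [hm, pow_mul, h2, hmodd.neg_one_pow]
    ring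

end Cfsg.Agent.S2575
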