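import Cfsg.Statements.S2576


set_option autoImplicit false
open Cfsg

namespace Cfsg.Agent.S2576

/-- Which involutions of PGL_2m(q) coming from a scalar of the quadratic extension field lie in PSL_2m(q), q odd: let μ generate the Sylow 2-subgroup of the multiplicative group of the field with q elements (μ has order the 2-part of q − 1) and let t be the block-diagonal matrix with m diagonal blocks [[0, 1], [μ, 0]] (so t² is the scalar μ and t is an involution modulo scalars). Then some non-zero scalar multiple of t has determinant one if and only if q ≡ 3 (mod 4) or the 2-part of q − 1 is less than the 2-part of 2m. -/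
theorem result {F : Type*} [Field F] [Fintype F] {q : ℕ} (hF : Fintype.card F = q) (hq : Odd q) {m : ℕ} (hm : 1 ≤ m) (μ : F) (hμ : orderOf μ = 2 ^ padicValNat 2 (q - 1)) : (∃ c : F, c ≠ 0 ∧ (c • Matrix.blockDiagonal (fun _ : Fin m => !![(0 : F), 1; μ, 0])).det = 1) ↔ (q % 4 = 3 ∨ padicValNat 2 (q - 1) < padicValNat 2 (2 * m)) := by
  have hdet : ∀ c : F, (c • Matrix.blockDiagonal (fun _ : Fin m => !![(0 : F), 1; μ, 0])).det = c ^ (2 * m) * (-μ) ^ m := by
    intro c
    rw [Matrix.det_smul, Matrix.det_blockDiagonal, Finset.prod_const, Finset.card_univ, Fintype.card_fin, Matrix.det_fin_two_of]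
    simp [Fintype.card_prod, mul_comm m 2]
  simp only [hdet]
  have : Fact (Nat.Prime 2) := ⟨Nat.prime_two⟩
  have h2 : ringChar F ≠ 2 := fun h2 => by
    have := FiniteField.even_card_iff_char_two.1 h2
    rw [hF] at this
    rw [Nat.odd_iff] at hq
    omega
  have hne : (-1 : F) ≠ 1 := Ring.neg_one_ne_one_of_char_ne_two h2
  have hq2 : 2 ≤ q := by have := Fintype.one_lt_card (α := F); omega
  have hq1 : q - 1 ≠ 0 := by omega
  set a := padicValNat 2 (q - 1) with ha
  obtain ⟨M, hM⟩ : 2 ^ a ∣ q - 1 := pow_padicValNat_dvd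
  have hModd : Odd M := by
    rw [Nat.odd_iff]
    by_contra hMe
    obtain ⟨r, rfl⟩ : 2 ∣ M := by omega
    exact pow_succ_padicValNat_not_dvd (p := 2) hq1 ⟨r, by rw [pow_succ]; linear_combination hM⟩
  have hv2 : padicValNat 2 (2 * m) = padicValNat 2 m + 1 := by
    rw [padicValNat.mul (by norm_num) (by omega), padicValNat.self (by norm_num)]; omega
  rw [hv2]
  have ha1 : 1 ≤ a := one_le_padicValNat_of_dvd hq1 (by rw [Nat.odd_iff] at hq; omega)
  have hμ1 : μ ^ 2 ^ a = 1 := hμ ▸ pow_orderOf_eq_one μ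
  have hμh : μ ^ 2 ^ (a - 1) = -1 := by
    refine (sq_eq_one_iff.1 ?_).resolve_left ?_
    · rw [← pow_mul, ← pow_succ, show a - 1 + 1 = a by omega, hμ1]
    · intro h
      have := orderOf_dvd_of_pow_eq_one h
      rw [hμ, Nat.pow_dvd_pow_iff_le_right (by norm_num)] at this
      omega
  have h4 : q % 4 = 3 ↔ a = 1 := by
    rw [Nat.odd_iff] at hq
    constructor
    · intro h
      by_contra hne'
      have : 2 ^ 2 ∣ q - 1 := (pow_dvd_pow 2 (show 2 ≤ a by omega)).trans pow_padicValNat_dvd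
      omega
    · intro h
      rw [h] at hM
      rw [Nat.odd_iff] at hModd
      omega
  rw [h4]
  obtain ⟨k, hk⟩ : 2 ^ padicValNat 2 m ∣ m := pow_padicValNat_dvd
  have hkodd : Odd k := by
    rw [Nat.odd_iff]
    by_contra hme
    obtain ⟨r, rfl⟩ : 2 ∣ k := by omega
    exact pow_succ_padicValNat_not_dvd (p := 2) (n := m) (by omega) ⟨r, by rw [pow_succ]; linear_combination hk⟩
  constructor
  · rintro ⟨c, hc0, hc⟩
    by_contra hcon
    rw [not_or, not_lt] at hcon
    obtain ⟨hane, hsa⟩ := hcon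
    set s := padicValNat 2 m with hs
    have hc3 : c ^ (Fintype.card F - 1) = 1 := FiniteField.pow_card_sub_one_eq_one c hc0
    rw [hF] at hc3
    have h5 : (c ^ (2 * m) * (-μ) ^ m) ^ (2 ^ (a - (s + 1)) * M) = 1 := by rw [hc, one_pow]
    rw [mul_pow, ← pow_mul, ← pow_mul] at h5
    have e1 : 2 * m * (2 ^ (a - (s + 1)) * M) = (q - 1) * k := by
      rw [hM, hk, show 2 ^ a = 2 ^ (s + 1) * 2 ^ (a - (s + 1)) by rw [← pow_add]; congr 1; omega, pow_succ]
      ring
    have e2 : m * (2 ^ (a - (s + 1)) * M) = 2 ^ (a - 1) * (k * M) := by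
      rw [hk, show 2 ^ (a - 1) = 2 ^ s * 2 ^ (a - (s + 1)) by rw [← pow_add]; congr 1; omega]
      ring
    rw [e1, pow_mul, hc3, one_pow, one_mul, e2, pow_mul, neg_pow,
      Even.neg_one_pow ((Nat.even_pow).2 ⟨even_two, by omega⟩), one_mul, hμh, (hkodd.mul hModd).neg_one_pow] at h5
    exact hne h5
  · intro h
    refine ⟨1, one_ne_zero, ?_⟩
    rw [one_pow, one_mul]
    rcases h with h | h
    · rw [h] at hμh
      rw [show μ = -1 by simpa using hμh, neg_neg, one_pow]
    · obtain ⟨r, hr⟩ : 2 ^ a ∣ m := (pow_dvd_pow 2 (show a ≤ padicValNat 2 m by omega)).trans pow_padicValNat_dvd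
      rw [hr, pow_mul, neg_pow, Even.neg_one_pow ((Nat.even_pow).2 ⟨even_two, by omega⟩), one_mul, hμ1, one_pow]

end Cfsg.Agent.S2576
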