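import Cfsg.Statements.S2578
import Cfsg.Agent.Lib.Linear.UnipotentCommutant

set_option autoImplicit false
open Cfsg

namespace Cfsg.Agent.S2578

open Polynomial
open Cfsg.Lib
open Cfsg.Agent.Lib.Linear

universe u

variable {F : Type u} [Field F] [Fintype F]

theorem sum_pred {ι : Type*} [Fintype ι] (e : ι → ℕ) (he : ∀ i, 1 ≤ e i) :
    ∑ i, e i = ∑ i, (e i - 1) + Fintype.card ι := by
  rw [← Finset.card_univ, Finset.card_eq_sum_ones, ← Finset.sum_add_distrib]
  exact Finset.sum_congr rfl fun i _ => by have := he i; omega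

theorem swap_inv {M : Type*} [Monoid M] (P : Mˣ) (a v : M) (h : (P : M) * a = v * P) : (↑P⁻¹ : M) * v = a * ↑P⁻¹ := by
  rw [Units.inv_mul_eq_iff_eq_mul, ← mul_assoc, h, mul_assoc, P.mul_inv, mul_one]

/-- Regular unipotent classes of SL_n(q): for n ≥ 2 over the field with q elements, the matrices u of determinant one with (u − 1)^n = 0 and rank(u − 1) = n − 1 form a single GL_n(q)-class which splits into exactly gcd(n, q − 1) conjugacy classes of SL_n(q). -/
theorem result {F : Type*} [Field F] [Fintype F] {q : ℕ} (hF : Fintype.card F = q) {n : ℕ} (hn : 2 ≤ n) : Nat.card {C : ConjClasses (Matrix.SpecialLinearGroup (Fin n) F) // ∃ u : Matrix.SpecialLinearGroup (Fin n) F, ConjClasses.mk u = C ∧ ((u : Matrix (Fin n) (Fin n) F) - 1) ^ n = 0 ∧ ((u : Matrix (Fin n) (Fin n) F) - 1).rank = n - 1} = Nat.gcd n (q - 1) := by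
  classical
  subst hF
  have hn0 : n ≠ 0 := by omega
  obtain ⟨u, hu, ι, hι, e, he, hmap, hform⟩ := UnipotentClasses.exists_GL_of_type (F := F) n
    (Nat.Partition.indiscrete n) (fun x hx => by
      rw [Nat.Partition.indiscrete_parts hn0, Multiset.mem_singleton] at hx
      exact hx.le)
  rw [Nat.Partition.indiscrete_parts hn0] at hmap
  have hcard : Fintype.card ι = 1 := by
    have := congrArg Multiset.card hmap
    simpa using this
  haveI : Unique ι := (Fintype.card_eq_one_iff_nonempty_unique.mp hcard).some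
  obtain ⟨A, hAu⟩ : ∃ A, A = (u : Matrix (Fin n) (Fin n) F) := ⟨_, rfl⟩
  rw [← hAu] at hu hform
  have hrank : (A - 1).rank = n - 1 := by
    rw [UnipotentCommutant.rank_sub_one hform]
    show ((Finset.univ : Finset ι).val.map fun i => e i - 1).sum = n - 1
    rw [show (fun i => e i - 1) = (fun x => x - 1) ∘ e from rfl, ← Multiset.map_map, hmap]
    simp
  have hconj : ∀ v : Matrix.SpecialLinearGroup (Fin n) F, ((v : Matrix (Fin n) (Fin n) F) - 1) ^ n = 0 →
      ((v : Matrix (Fin n) (Fin n) F) - 1).rank = n - 1 →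
        ∃ Q : GL (Fin n) F, (Q : Matrix (Fin n) (Fin n) F) * A = (v : Matrix (Fin n) (Fin n) F) * (Q : Matrix (Fin n) (Fin n) F) := by
    intro v hv hvr
    obtain ⟨μ, -, κ, hκ, d, hd, hmap', hform'⟩ := UnipotentClasses.exists_type n hv
    rw [UnipotentCommutant.rank_sub_one hform'] at hvr
    have hs : ∑ i, d i = n := by
      conv_rhs => rw [← μ.parts_sum, ← hmap']
      rfl
    have hκ1 : Fintype.card κ = 1 := by
      have := sum_pred d hd
      omega
    obtain ⟨j, hj⟩ := Fintype.card_eq_one_iff.mp hκ1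
    have hall : (Finset.univ : Finset κ).val.map d = {n} := by
      have : (Finset.univ : Finset κ) = {j} := Finset.eq_singleton_iff_unique_mem.mpr ⟨Finset.mem_univ _, fun x _ => hj x⟩
      rw [this, Finset.sum_singleton] at hs
      rw [this, Finset.singleton_val, Multiset.map_singleton, hs]
    have hmm := congrArg (Multiset.map fun k => (X - C (1 : F)) ^ k) (hmap.trans hall.symm)
    rw [Multiset.map_map, Multiset.map_map] at hmm
    exact CanonicalForm.isConj_of_map_eq hform hform' hmm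
  let N : Subgroup Fˣ := (powMonoidHom n : Fˣ →* Fˣ).range
  have key : ∀ δ : Fˣ, ∃ (v : Matrix.SpecialLinearGroup (Fin n) F) (P : GL (Fin n) F),
      (P : Matrix (Fin n) (Fin n) F).det = δ ∧ ((v : Matrix (Fin n) (Fin n) F) - 1) ^ n = 0 ∧
      ((v : Matrix (Fin n) (Fin n) F) - 1).rank = n - 1 ∧
      (P : Matrix (Fin n) (Fin n) F) * A = (v : Matrix (Fin n) (Fin n) F) * (P : Matrix (Fin n) (Fin n) F) := by
    intro δ
    let D : Matrix (Fin n) (Fin n) F := Matrix.diagonal (Function.update 1 ⟨0, by omega⟩ (δ : F))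
    have hD : D.det = δ := by
      rw [Matrix.det_diagonal, Finset.prod_eq_single ⟨0, by omega⟩ (fun i _ hi => by simp [Function.update_of_ne hi]) (by simp)]
      simp
    have hDu : IsUnit D.det := by rw [hD]; exact δ.isUnit
    have hAd : A.det = 1 := UnipotentCommutant.det_unipotent n hu
    have hv : D * A * D⁻¹ - 1 = D * (A - 1) * D⁻¹ := by
      rw [mul_sub, sub_mul, mul_one, Matrix.mul_nonsing_inv _ hDu]
    have hvd : (D * A * D⁻¹).det = 1 := by
      rw [Matrix.det_mul, Matrix.det_mul, hAd, Matrix.det_nonsing_inv, mul_one, Ring.mul_inverse_cancel _ hDu]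
    refine ⟨⟨D * A * D⁻¹, hvd⟩, Matrix.GeneralLinearGroup.mkOfDetNeZero D hDu.ne_zero, hD, ?_, ?_, ?_⟩
    · show (D * A * D⁻¹ - 1) ^ n = 0
      have hp : ∀ k : ℕ, (D * (A - 1) * D⁻¹) ^ k = D * (A - 1) ^ k * D⁻¹ := by
        intro k
        induction k with
        | zero => simp [Matrix.mul_nonsing_inv _ hDu]
        | succ k ih =>
          rw [pow_succ, ih, pow_succ]
          simp only [mul_assoc, Matrix.nonsing_inv_mul_cancel_left _ _ hDu]
      rw [hv, hp, hu, mul_zero, zero_mul]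
    · show (D * A * D⁻¹ - 1).rank = n - 1
      rw [hv, Matrix.rank_mul_eq_left_of_isUnit_det _ _ (by rw [Matrix.det_nonsing_inv]; exact hDu.ringInverse),
        Matrix.rank_mul_eq_right_of_isUnit_det _ _ hDu, hrank]
    · show D * A = D * A * D⁻¹ * D
      rw [Matrix.nonsing_inv_mul_cancel_right _ _ hDu]
  choose v P hP hv1 hv2 hvP using key
  let T := {C : ConjClasses (Matrix.SpecialLinearGroup (Fin n) F) //
    ∃ u : Matrix.SpecialLinearGroup (Fin n) F, ConjClasses.mk u = C ∧ ((u : Matrix (Fin n) (Fin n) F) - 1) ^ n = 0 ∧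
      ((u : Matrix (Fin n) (Fin n) F) - 1).rank = n - 1}
  let Φ : Fˣ ⧸ N → T := fun x => ⟨ConjClasses.mk (v x.out), v x.out, rfl, hv1 _, hv2 _⟩
  have hbij : Function.Bijective Φ := by
    constructor
    · intro x y hxy
      obtain ⟨s, hs⟩ := isConj_iff.mp (ConjClasses.mk_eq_mk_iff_isConj.mp (congrArg Subtype.val hxy))
      have hs' : (s : Matrix (Fin n) (Fin n) F) * (v x.out : Matrix (Fin n) (Fin n) F) =
          (v y.out : Matrix (Fin n) (Fin n) F) * (s : Matrix (Fin n) (Fin n) F) :=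
        congrArg (fun z : Matrix.SpecialLinearGroup (Fin n) F => (z : Matrix (Fin n) (Fin n) F)) (mul_inv_eq_iff_eq_mul.mp hs)
      let Z : Matrix (Fin n) (Fin n) F := (↑(P y.out)⁻¹ : Matrix (Fin n) (Fin n) F) * (s : Matrix (Fin n) (Fin n) F) * (P x.out : Matrix (Fin n) (Fin n) F)
      have hZ : Z * A = A * Z := by
        have e1 := swap_inv (P y.out) A (v y.out : Matrix (Fin n) (Fin n) F) (hvP y.out)
        calc Z * A = ↑(P y.out)⁻¹ * ((s : Matrix (Fin n) (Fin n) F) * (v x.out : Matrix (Fin n) (Fin n) F)) * (P x.out : Matrix (Fin n) (Fin n) F) := by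
              simp only [Z, mul_assoc, hvP]
          _ = A * Z := by rw [hs', ← mul_assoc, e1]; simp only [Z, mul_assoc]
      obtain ⟨g, hg⟩ := UnipotentCommutant.exists_aeval_of_commute hform hZ
      have hdet := congrArg Matrix.det hg
      rw [UnipotentCommutant.det_aeval n hu g, Matrix.det_mul, Matrix.det_mul, s.2, mul_one, hP,
        Matrix.coe_units_inv, Matrix.det_nonsing_inv, hP, Ring.inverse_eq_inv] at hdet
      have hg1 : g.eval 1 ≠ 0 := by
        intro h0
        rw [h0, zero_pow hn0] at hdet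
        exact mul_ne_zero (inv_ne_zero (Units.ne_zero _)) (Units.ne_zero _) hdet
      rw [← x.out_eq', ← y.out_eq', QuotientGroup.eq]
      refine ⟨Units.mk0 _ (inv_ne_zero hg1), Units.ext ?_⟩
      rw [powMonoidHom_apply, Units.val_pow_eq_pow_val, Units.val_mk0, inv_pow, ← hdet, Units.val_mul,
        Units.val_inv_eq_inv_val, mul_inv_rev, inv_inv]
    · rintro ⟨C, w, rfl, hw1, hw2⟩
      obtain ⟨Q, hQ⟩ := hconj w hw1 hw2
      let δ : Fˣ := Units.mk0 _ ((Matrix.isUnit_iff_isUnit_det _).mp Q.isUnit).ne_zero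
      obtain ⟨⟨_, c, rfl⟩, hc⟩ := QuotientGroup.mk_out_eq_mul N δ
      refine ⟨QuotientGroup.mk δ, Subtype.ext (ConjClasses.mk_eq_mk_iff_isConj.mpr (isConj_iff.mpr ?_))⟩
      show ∃ s, s * v (QuotientGroup.mk δ : Fˣ ⧸ N).out * s⁻¹ = w
      rw [hc]
      obtain ⟨ε, hε⟩ : ∃ ε, ε = δ * powMonoidHom n c := ⟨_, rfl⟩
      rw [← hε]
      obtain ⟨S, hS⟩ : ∃ S : Matrix.SpecialLinearGroup (Fin n) F, (S : Matrix (Fin n) (Fin n) F) =
          (c : F) • ((Q : Matrix (Fin n) (Fin n) F) * (↑(P ε)⁻¹ : Matrix (Fin n) (Fin n) F)) := by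
        refine ⟨⟨_, ?_⟩, rfl⟩
        rw [Matrix.det_smul, Fintype.card_fin, Matrix.det_mul, Matrix.coe_units_inv, Matrix.det_nonsing_inv, hP,
          Ring.inverse_eq_inv, hε, Units.val_mul, powMonoidHom_apply, Units.val_pow_eq_pow_val]
        show (c : F) ^ n * ((Q : Matrix (Fin n) (Fin n) F).det * ((Q : Matrix (Fin n) (Fin n) F).det * (c : F) ^ n)⁻¹) = 1
        have := ((Matrix.isUnit_iff_isUnit_det _).mp Q.isUnit).ne_zero
        field_simp
      refine ⟨S, ?_⟩
      · rw [mul_inv_eq_iff_eq_mul]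
        apply Subtype.ext
        rw [Matrix.SpecialLinearGroup.coe_mul, Matrix.SpecialLinearGroup.coe_mul, hS]
        show ((c : F) • ((Q : Matrix (Fin n) (Fin n) F) * (↑(P ε)⁻¹ : Matrix (Fin n) (Fin n) F))) * (v ε : Matrix (Fin n) (Fin n) F) =
          (w : Matrix (Fin n) (Fin n) F) * ((c : F) • ((Q : Matrix (Fin n) (Fin n) F) * (↑(P ε)⁻¹ : Matrix (Fin n) (Fin n) F)))
        have e1 := swap_inv (P ε) A (v ε : Matrix (Fin n) (Fin n) F) (hvP ε)
        rw [smul_mul_assoc, mul_smul_comm, mul_assoc, e1, ← mul_assoc, hQ, mul_assoc]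
  rw [← Nat.card_eq_of_bijective Φ hbij]
  show N.index = _
  rw [IsCyclic.index_powMonoidHom_range, Nat.card_units, Nat.card_eq_fintype_card, Nat.gcd_comm]

end Cfsg.Agent.S2578
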