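import Cfsg.Statements.S2580
import Mathlib

set_option autoImplicit false
open Cfsg

namespace Cfsg.Agent.S2580

open Polynomial
open scoped DirectSum

section

variable {F : Type*} [Field F]

/-- a functional on `F[X]` killing the multiples of `f` with no ideal in its kernel beyond them -/
theorem exists_functional (f : F[X]) (hf : f ≠ 0) :
    ∃ τ : F[X] →ₗ[F] F, (∀ g, f ∣ g → τ g = 0) ∧ ∀ a, ¬ f ∣ a → ∃ b, τ (a * b) ≠ 0 := by
  set m := f * C f.leadingCoeff⁻¹ with hm
  have hmon : m.Monic := monic_mul_leadingCoeff_inv hf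
  have hu : IsUnit (C f.leadingCoeff⁻¹) :=
    isUnit_C.mpr (isUnit_iff_ne_zero.mpr (inv_ne_zero (leadingCoeff_ne_zero.mpr hf)))
  have hdvd : ∀ g, f ∣ g ↔ m ∣ g := fun g => by rw [hm]; exact (hu.mul_right_dvd).symm
  refine ⟨(lcoeff F (m.natDegree - 1)).comp (modByMonicHom m), fun g hg => ?_, fun a ha => ?_⟩
  · show (g %ₘ m).coeff _ = 0
    rw [(modByMonic_eq_zero_iff_dvd hmon).mpr ((hdvd g).mp hg), coeff_zero]
  · set r := a %ₘ m with hr
    have hr0 : r ≠ 0 := fun h => ha ((hdvd a).mpr ((modByMonic_eq_zero_iff_dvd hmon).mp h))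
    have hdeg : r.degree < m.degree := degree_modByMonic_lt a hmon
    have hnat : r.natDegree < m.natDegree := natDegree_lt_natDegree hr0 hdeg
    refine ⟨X ^ (m.natDegree - 1 - r.natDegree), ?_⟩
    show ((a * X ^ (m.natDegree - 1 - r.natDegree)) %ₘ m).coeff (m.natDegree - 1) ≠ 0
    have h1 : m ∣ a * X ^ (m.natDegree - 1 - r.natDegree) - r * X ^ (m.natDegree - 1 - r.natDegree) := by
      rw [← sub_mul]
      refine dvd_mul_of_dvd_left ⟨a /ₘ m, ?_⟩ _
      have := modByMonic_add_div a m
      rw [← hr] at this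
      linear_combination -this
    rw [← modByMonic_eq_zero_iff_dvd hmon, sub_modByMonic, sub_eq_zero] at h1
    rw [h1, modByMonic_eq_self_iff hmon |>.mpr]
    · have := coeff_mul_X_pow r (m.natDegree - 1 - r.natDegree) r.natDegree
      rw [show r.natDegree + (m.natDegree - 1 - r.natDegree) = m.natDegree - 1 by omega] at this
      rw [this]
      exact leadingCoeff_ne_zero.mpr hr0
    · rw [degree_eq_natDegree hmon.ne_zero, degree_eq_natDegree (mul_ne_zero hr0 (pow_ne_zero _ X_ne_zero)),
        natDegree_mul hr0 (pow_ne_zero _ X_ne_zero), natDegree_X_pow]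
      exact_mod_cast (show r.natDegree + (m.natDegree - 1 - r.natDegree) < m.natDegree by omega)

theorem exists_symm (n : ℕ) (A : Matrix (Fin n) (Fin n) F) :
    ∃ P : Matrix (Fin n) (Fin n) F, IsUnit P ∧ P * A = A.transpose * P := by
  classical
  let a : Module.End F (Fin n → F) := Matrix.toLin' A
  let M := Module.AEval F (Fin n → F) a
  obtain ⟨ι, hfι, p, hp, e, ⟨φ⟩⟩ := Module.equiv_directSum_of_isTorsion (R := F[X]) (M := M)
    (Module.AEval.isTorsion_of_finiteDimensional F (Fin n → F) a)
  choose τ hτ0 hτ using fun i => exists_functional (p i ^ e i) (pow_ne_zero _ (hp i).ne_zero)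
  have hwd : ∀ i (x y : F[X]), Submodule.Quotient.mk (p := Submodule.span F[X] {p i ^ e i}) x =
      Submodule.Quotient.mk y → ∀ z, τ i (x * z) = τ i (y * z) := by
    intro i x y h z
    rw [Submodule.Quotient.eq, Submodule.mem_span_singleton] at h
    obtain ⟨c, hc⟩ := h
    rw [← sub_eq_zero, ← map_sub, ← sub_mul]
    exact hτ0 i _ ⟨c * z, by rw [← hc, smul_eq_mul]; ring⟩
  let co : ∀ i, (Fin n → F) → (F[X] ⧸ Submodule.span F[X] {p i ^ e i}) :=
    fun i v => φ (Module.AEval.of F (Fin n → F) a v) i
  let rep : ∀ i, (Fin n → F) → F[X] := fun i v => Quotient.out (co i v)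
  have hrep : ∀ i v, Submodule.Quotient.mk (rep i v) = co i v := fun i v => Quotient.out_eq _
  let f : (Fin n → F) → (Fin n → F) → F := fun u v => ∑ i, τ i (rep i u * rep i v)
  have fsymm : ∀ u v, f u v = f v u := fun u v => Finset.sum_congr rfl fun i _ => by rw [mul_comm]
  have fadd : ∀ u u' v, f (u + u') v = f u v + f u' v := by
    intro u u' v
    rw [← Finset.sum_add_distrib]
    refine Finset.sum_congr rfl fun i _ => ?_
    rw [← map_add, ← add_mul]
    apply hwd
    rw [Submodule.Quotient.mk_add, hrep, hrep, hrep]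
    show φ _ i = _
    rw [map_add, map_add]; rfl
  have fsmul : ∀ (c : F) u v, f (c • u) v = c * f u v := by
    intro c u v
    rw [Finset.mul_sum]
    refine Finset.sum_congr rfl fun i _ => ?_
    rw [show c * τ i (rep i u * rep i v) = τ i (C c * rep i u * rep i v) from by
      rw [mul_assoc, ← smul_eq_C_mul, map_smul, smul_eq_mul]]
    apply hwd
    rw [← smul_eq_mul, Submodule.Quotient.mk_smul, hrep, hrep]
    show φ _ i = _
    rw [map_smul, ← Module.AEval.C_smul, map_smul]
    rfl
  have fX : ∀ u v, f (a u) v = f u (a v) := by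
    have hX : ∀ i u, co i (a u) = (X : F[X]) • co i u := by
      intro i u
      show φ _ i = _
      rw [show (Module.AEval.of F (Fin n → F) a) (a u) = (X : F[X]) • Module.AEval.of F (Fin n → F) a u from
        (Module.AEval.X_smul_of a u).symm, map_smul]
      rfl
    intro u v
    refine Finset.sum_congr rfl fun i _ => ?_
    have h1 : τ i (rep i (a u) * rep i v) = τ i (X * rep i u * rep i v) := hwd i _ _ (by
      rw [hrep, hX, ← hrep, ← Submodule.Quotient.mk_smul, smul_eq_mul]) _
    have h2 : τ i (rep i (a v) * rep i u) = τ i (X * rep i v * rep i u) := hwd i _ _ (by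
      rw [hrep, hX, ← hrep, ← Submodule.Quotient.mk_smul, smul_eq_mul]) _
    rw [h1, mul_comm (rep i u), h2]
    congr 1; ring
  let B : LinearMap.BilinForm F (Fin n → F) := LinearMap.mk₂ F f fadd fsmul
    (fun u v v' => by rw [fsymm, fadd, fsymm v, fsymm v'])
    (fun c u v => by rw [fsymm, fsmul, fsymm v, smul_eq_mul])
  have hnd : ∀ u, (∀ v, f u v = 0) → u = 0 := by
    intro u hu
    have hz : φ (Module.AEval.of F (Fin n → F) a u) = 0 := by
      refine DFunLike.ext _ _ fun i => ?_
      by_contra hne
      have hnd' : ¬ p i ^ e i ∣ rep i u := by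
        rintro ⟨c, hc⟩
        apply hne
        show co i u = _
        rw [← hrep, hc]
        exact (Submodule.Quotient.mk_eq_zero _).mpr
          (Submodule.mem_span_singleton.mpr ⟨c, by rw [smul_eq_mul, mul_comm]⟩)
      obtain ⟨b, hb⟩ := hτ i _ hnd'
      let v : Fin n → F := (Module.AEval.of F (Fin n → F) a).symm
        (φ.symm (DirectSum.of _ i (Submodule.Quotient.mk b)))
      have hv : ∀ j, co j v = (DirectSum.of (fun j => F[X] ⧸ Submodule.span F[X] {p j ^ e j}) i
          (Submodule.Quotient.mk b)) j := fun j => by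
        show φ _ j = _
        rw [LinearEquiv.apply_symm_apply, LinearEquiv.apply_symm_apply]
      apply hb
      have h := hu v
      have hsum : f u v = τ i (rep i u * rep i v) := by
        refine Finset.sum_eq_single i (fun j _ hji => ?_) (by simp)
        refine hτ0 j _ (Dvd.dvd.mul_left ?_ _)
        have hj : Submodule.Quotient.mk (p := Submodule.span F[X] {p j ^ e j}) (rep j v) = 0 := by
          rw [hrep, hv, DirectSum.of_eq_of_ne _ _ _ hji]
        rw [Submodule.Quotient.mk_eq_zero, Submodule.mem_span_singleton] at hj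
        obtain ⟨c, hc⟩ := hj
        exact ⟨c, by rw [← hc, smul_eq_mul, mul_comm]⟩
      rw [hsum, mul_comm] at h
      rw [mul_comm]
      rw [← h]
      exact hwd i _ _ (by rw [hrep, hv, DirectSum.of_eq_same]) _
    simpa using hz
  refine ⟨LinearMap.BilinForm.toMatrix' B, ?_, ?_⟩
  · rw [← Matrix.linearIndependent_cols_iff_isUnit, ← Matrix.mulVec_injective_iff,
      ← Matrix.coe_mulVecLin, injective_iff_map_eq_zero]
    intro v hv
    refine hnd v fun w => ?_
    rw [fsymm, show f w v = B w v from rfl, ← LinearMap.BilinForm.toMatrix'.symm_apply_apply B]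
    rw [LinearMap.BilinForm.toMatrix'_symm, Matrix.toBilin'_apply']
    rw [Matrix.mulVecLin_apply] at hv
    rw [hv, dotProduct_zero]
  · apply Matrix.toBilin'.injective
    refine LinearMap.ext₂ fun u v => ?_
    rw [Matrix.toBilin'_apply', Matrix.toBilin'_apply', ← Matrix.mulVec_mulVec,
      ← Matrix.mulVec_mulVec, Matrix.dotProduct_mulVec u A.transpose, Matrix.vecMul_transpose,
      ← Matrix.toBilin'_apply', ← Matrix.toBilin'_apply', Matrix.toBilin'_toMatrix']
    exact (fX u v).symm

end

/-- Over a finite field, a square matrix is similar to its transpose: for every n × n matrix A there is an invertible matrix P with P A P⁻¹ = Aᵀ (stated as conjugacy in the monoid of matrices, whose units are the invertible matrices). -/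
theorem result {F : Type*} [Field F] [Finite F] {n : ℕ} (A : Matrix (Fin n) (Fin n) F) : IsConj A A.transpose := by
  obtain ⟨P, hP, h⟩ := exists_symm n A
  exact ⟨hP.unit, h⟩

end Cfsg.Agent.S2580
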