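import Cfsg.Statements.S2581


set_option linter.style.haveILetI false

set_option autoImplicit false
open Cfsg

namespace Cfsg.Agent.S2581

open Finset Matrix

variable {F : Type*} [Field F] {t : ℕ}

abbrev Idx (d : Fin t → ℕ) := (k : Fin t) × Fin (d k)

abbrev Free (d : Fin t → ℕ) := (l : Fin t) × (k : Fin t) × {s : Fin (d l) // d l ≤ d k + (s : ℕ)}

abbrev K (d : Fin t → ℕ) (i : Fin (Finset.univ.sup d + 1)) := {k : Fin t // d k = (i : ℕ)}

def zext (d : Fin t → ℕ) (z : Free d → F) (l k : Fin t) (s : ℕ) : F :=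
  if h : s < d l ∧ d l ≤ d k + s then z ⟨l, k, ⟨s, h.1⟩, h.2⟩ else 0

def build (d : Fin t → ℕ) (z : Free d → F) : Matrix (Idx d) (Idx d) F :=
  Matrix.of fun i j => if (j.2 : ℕ) ≤ i.2 then zext d z i.1 j.1 (i.2 - j.2) else 0

/-- entries with natural number coordinates -/
def ent (d : Fin t → ℕ) (M : Matrix (Idx d) (Idx d) F) (l : Fin t) (a : ℕ) (k : Fin t) (b : ℕ) : F :=
  if h : a < d l ∧ b < d k then M ⟨l, a, h.1⟩ ⟨k, b, h.2⟩ else 0

theorem ent_coe (d : Fin t → ℕ) (M : Matrix (Idx d) (Idx d) F) (i j : Idx d) :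
    ent d M i.1 i.2 j.1 j.2 = M i j := by
  rw [ent, dif_pos ⟨i.2.2, j.2.2⟩]

theorem mul_J (d : Fin t → ℕ) (M : Matrix (Idx d) (Idx d) F) (l : Fin t) (a : Fin (d l)) (k : Fin t) (b : Fin (d k)) :
    (M * Cfsg.jordanTypeMatrix d F) ⟨l, a⟩ ⟨k, b⟩ = ent d M l a k b + ent d M l a k (b + 1) := by
  classical
  rw [Matrix.mul_apply, Fintype.sum_sigma, Finset.sum_eq_single k]
  · have : ∀ x : Fin (d k), M ⟨l, a⟩ ⟨k, x⟩ * Cfsg.jordanTypeMatrix d F ⟨k, x⟩ ⟨k, b⟩ =
        (if x = b then M ⟨l, a⟩ ⟨k, x⟩ else 0) + (if (x : ℕ) = b + 1 then M ⟨l, a⟩ ⟨k, x⟩ else 0) := by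
      intro x
      rw [Cfsg.jordanTypeMatrix, Matrix.blockDiagonal'_apply_eq, Cfsg.jordanBlock, Matrix.of_apply]
      by_cases h1 : x = b
      · subst h1; simp
      · have : ¬ (x : ℕ) = b := fun h => h1 (Fin.ext h)
        by_cases h2 : (x : ℕ) = b + 1 <;> simp [h1, h2, this]
    rw [Finset.sum_congr rfl (fun x _ => this x), Finset.sum_add_distrib, Finset.sum_ite_eq' Finset.univ b,
      if_pos (Finset.mem_univ b), ← ent_coe d M ⟨l, a⟩ ⟨k, b⟩]
    congr 1
    by_cases h : (b : ℕ) + 1 < d k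
    · rw [Finset.sum_eq_single ⟨b + 1, h⟩, if_pos rfl, ← ent_coe d M ⟨l, a⟩ ⟨k, ⟨b + 1, h⟩⟩]
      · intro x _ hx
        rw [if_neg fun h' => hx (Fin.ext h')]
      · simp
    · rw [ent, dif_neg fun h' => h h'.2]
      exact Finset.sum_eq_zero fun x _ => if_neg (by have := x.2; omega)
  · intro k' _ hk
    exact Finset.sum_eq_zero fun x _ => by
      rw [Cfsg.jordanTypeMatrix, Matrix.blockDiagonal'_apply_ne _ _ _ hk, mul_zero]
  · simp

theorem J_mul (d : Fin t → ℕ) (M : Matrix (Idx d) (Idx d) F) (l : Fin t) (a : Fin (d l)) (k : Fin t) (b : Fin (d k)) :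
    (Cfsg.jordanTypeMatrix d F * M) ⟨l, a⟩ ⟨k, b⟩ =
      ent d M l a k b + if (a : ℕ) = 0 then 0 else ent d M l ((a : ℕ) - 1) k b := by
  classical
  rw [Matrix.mul_apply, Fintype.sum_sigma, Finset.sum_eq_single l]
  · have : ∀ x : Fin (d l), Cfsg.jordanTypeMatrix d F ⟨l, a⟩ ⟨l, x⟩ * M ⟨l, x⟩ ⟨k, b⟩ =
        (if a = x then M ⟨l, x⟩ ⟨k, b⟩ else 0) + (if (a : ℕ) = x + 1 then M ⟨l, x⟩ ⟨k, b⟩ else 0) := by
      intro x
      rw [Cfsg.jordanTypeMatrix, Matrix.blockDiagonal'_apply_eq, Cfsg.jordanBlock, Matrix.of_apply]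
      by_cases h1 : a = x
      · subst h1; simp
      · have : ¬ (a : ℕ) = x := fun h => h1 (Fin.ext h)
        by_cases h2 : (a : ℕ) = x + 1 <;> simp [h1, h2, this]
    rw [Finset.sum_congr rfl (fun x _ => this x), Finset.sum_add_distrib, Finset.sum_ite_eq Finset.univ a,
      if_pos (Finset.mem_univ a), ← ent_coe d M ⟨l, a⟩ ⟨k, b⟩]
    congr 1
    by_cases h : (a : ℕ) = 0
    · rw [if_pos h]
      exact Finset.sum_eq_zero fun x _ => if_neg (by omega)
    · have hlt : (a : ℕ) - 1 < d l := by have := a.2; omega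
      rw [if_neg h, Finset.sum_eq_single ⟨(a : ℕ) - 1, hlt⟩, if_pos (by simp; omega),
        ← ent_coe d M ⟨l, ⟨(a : ℕ) - 1, hlt⟩⟩ ⟨k, b⟩]
      · intro x _ hx
        rw [if_neg fun h' => hx (Fin.ext (by simp; omega))]
      · simp
  · intro l' _ hl
    exact Finset.sum_eq_zero fun x _ => by
      rw [Cfsg.jordanTypeMatrix, Matrix.blockDiagonal'_apply_ne _ _ _ (Ne.symm hl), zero_mul]
  · simp

theorem ent_build (d : Fin t → ℕ) (z : Free d → F) (l : Fin t) (a : ℕ) (k : Fin t) (b : ℕ) :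
    ent d (build d z) l a k b = if a < d l ∧ b < d k ∧ b ≤ a then zext d z l k (a - b) else 0 := by
  by_cases h : a < d l ∧ b < d k
  · rw [ent, dif_pos h]
    show (if b ≤ a then _ else _) = _
    by_cases hb : b ≤ a
    · rw [if_pos hb, if_pos ⟨h.1, h.2, hb⟩]
    · rw [if_neg hb, if_neg fun h' => hb h'.2.2]
  · rw [ent, dif_neg h, if_neg fun h' => h ⟨h'.1, h'.2.1⟩]

theorem build_comm (d : Fin t → ℕ) (z : Free d → F) :
    build d z * Cfsg.jordanTypeMatrix d F = Cfsg.jordanTypeMatrix d F * build d z := by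
  ext ⟨l, a⟩ ⟨k, b⟩
  rw [mul_J, J_mul, ent_build, ent_build, ent_build]
  congr 1
  have ha := a.2
  have hb := b.2
  by_cases h0 : (a : ℕ) = 0
  · rw [if_pos h0, if_neg (by omega)]
  rw [if_neg h0]
  by_cases h1 : (b : ℕ) + 1 ≤ a
  · by_cases h2 : (b : ℕ) + 1 < d k
    · rw [if_pos ⟨ha, h2, h1⟩, if_pos ⟨by omega, hb, by omega⟩]
      congr 1
      omega
    · rw [if_neg (by omega), if_pos ⟨by omega, hb, by omega⟩, zext, dif_neg (by omega)]
  · rw [if_neg (by omega), if_neg (by omega)]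

/-- the parameters of a commuting matrix -/
def param (d : Fin t → ℕ) (M : Matrix (Idx d) (Idx d) F) : Free d → F :=
  fun x => ent d M x.1 (x.2.2.1 : ℕ) x.2.1 0

theorem comm_step (d : Fin t → ℕ) (M : Matrix (Idx d) (Idx d) F)
    (hM : M * Cfsg.jordanTypeMatrix d F = Cfsg.jordanTypeMatrix d F * M) (l k : Fin t) (a b : ℕ)
    (ha : a < d l) (hb : b < d k) :
    ent d M l a k (b + 1) = if a = 0 then 0 else ent d M l (a - 1) k b := by
  have h := congrFun (congrFun hM ⟨l, a, ha⟩) ⟨k, b, hb⟩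
  rw [mul_J, J_mul] at h
  exact add_left_cancel h

theorem comm_toeplitz (d : Fin t → ℕ) (M : Matrix (Idx d) (Idx d) F)
    (hM : M * Cfsg.jordanTypeMatrix d F = Cfsg.jordanTypeMatrix d F * M) (l k : Fin t) :
    ∀ b, b < d k → ∀ a, a < d l → ent d M l a k b = if b ≤ a then ent d M l (a - b) k 0 else 0 := by
  intro b
  induction b with
  | zero => intro _ a _; simp
  | succ b ih =>
    intro hb a ha
    rw [comm_step d M hM l k a b ha (by omega)]
    by_cases h0 : a = 0
    · rw [if_pos h0, if_neg (by omega)]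
    · rw [if_neg h0, ih (by omega) (a - 1) (by omega)]
      by_cases hba : b + 1 ≤ a
      · rw [if_pos hba, if_pos (by omega), show a - 1 - b = a - (b + 1) by omega]
      · rw [if_neg hba, if_neg (by omega)]

theorem comm_zero (d : Fin t → ℕ) (M : Matrix (Idx d) (Idx d) F)
    (hM : M * Cfsg.jordanTypeMatrix d F = Cfsg.jordanTypeMatrix d F * M) (l k : Fin t) (s : ℕ)
    (hs : d k + s < d l) (hk : 1 ≤ d k) : ent d M l s k 0 = 0 := by
  have h := comm_step d M hM l k (s + d k) (d k - 1) (by omega) (by omega)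
  rw [if_neg (by omega), comm_toeplitz d M hM l k (d k - 1) (by omega) (s + d k - 1) (by omega),
    if_pos (by omega), show s + d k - 1 - (d k - 1) = s by omega, ent, dif_neg (by omega)] at h
  exact h.symm

theorem build_param (d : Fin t → ℕ) (hd : ∀ k, 1 ≤ d k) (M : Matrix (Idx d) (Idx d) F)
    (hM : M * Cfsg.jordanTypeMatrix d F = Cfsg.jordanTypeMatrix d F * M) : build d (param d M) = M := by
  ext i j
  rw [← ent_coe d M i j, comm_toeplitz d M hM i.1 j.1 j.2 j.2.2 i.2 i.2.2]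
  show (if (j.2 : ℕ) ≤ i.2 then _ else _) = _
  by_cases h : (j.2 : ℕ) ≤ i.2
  · rw [if_pos h, if_pos h, zext]
    have hi := i.2.2
    by_cases h' : d i.1 ≤ d j.1 + ((i.2 : ℕ) - j.2)
    · rw [dif_pos ⟨by omega, h'⟩]; rfl
    · rw [dif_neg fun h'' => h' h''.2, comm_zero d M hM _ _ _ (by omega) (hd _)]
  · rw [if_neg h, if_neg h]

theorem param_build (d : Fin t → ℕ) (hd : ∀ k, 1 ≤ d k) (z : Free d → F) : param d (build d z) = z := by
  funext ⟨l, k, s, hs⟩
  rw [param, ent_build, if_pos ⟨s.2, hd k, Nat.zero_le _⟩, zext, dif_pos ⟨s.2, by simpa using hs⟩]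
  rfl

/-- the diagonal blocks -/
def dblock (d : Fin t → ℕ) (z : Free d → F) (i : Fin (Finset.univ.sup d + 1)) : Matrix (K d i) (K d i) F :=
  Matrix.of fun l k => zext d z l.1 k.1 0

def wgt (d : Fin t → ℕ) (i : Idx d) : ℤ ×ₗ ℤ := toLex ((d i.1 : ℤ) - 2 * (i.2 : ℕ), -((i.2 : ℕ) : ℤ))

theorem build_tri (d : Fin t → ℕ) (z : Free d → F) : (build d z).BlockTriangular (wgt d) := by
  intro i j hlt
  by_contra hne
  rw [wgt, wgt, Prod.Lex.toLex_lt_toLex] at hlt
  change (if (j.2 : ℕ) ≤ i.2 then _ else _) ≠ (0 : F) at hne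
  by_cases h : (j.2 : ℕ) ≤ i.2
  · rw [if_pos h, zext] at hne
    by_cases h' : ((i.2 : ℕ) - j.2) < d i.1 ∧ d i.1 ≤ d j.1 + ((i.2 : ℕ) - j.2)
    · simp only at hlt
      omega
    · exact hne (dif_neg h')
  · exact hne (if_neg h)

theorem det_build_ne_zero (d : Fin t → ℕ) (hd : ∀ k, 1 ≤ d k) (z : Free d → F) :
    (build d z).det ≠ 0 ↔ ∀ i, (dblock d z i).det ≠ 0 := by
  classical
  rw [(build_tri d z).det, Finset.prod_ne_zero_iff]
  have key : ∀ (p : Idx d) (i : Fin (Finset.univ.sup d + 1)), (i : ℕ) = d p.1 →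
      ((build d z).toSquareBlock (wgt d) (wgt d p)).det = (dblock d z i).det := by
    intro p i hi
    have hw : ∀ q : Idx d, wgt d q = wgt d p ↔ (q.2 : ℕ) = p.2 ∧ d q.1 = d p.1 := by
      intro q
      rw [wgt, wgt, EmbeddingLike.apply_eq_iff_eq, Prod.ext_iff]
      simp only
      omega
    let e : K d i ≃ {q : Idx d // wgt d q = wgt d p} :=
      { toFun := fun k => ⟨⟨k.1, ⟨p.2, by rw [k.2, hi]; exact p.2.2⟩⟩, (hw _).mpr ⟨rfl, k.2.trans hi⟩⟩
        invFun := fun q => ⟨q.1.1, ((hw _).mp q.2).2.trans hi.symm⟩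
        left_inv := fun k => rfl
        right_inv := fun q => Subtype.ext (by
          obtain ⟨⟨k, c⟩, hq⟩ := q
          have hc := ((hw _).mp hq).1
          exact Sigma.ext rfl (heq_of_eq (Fin.ext hc.symm))) }
    rw [← Matrix.det_submatrix_equiv_self e]
    congr 1
    ext l k
    show (if (p.2 : ℕ) ≤ p.2 then zext d z l.1 k.1 ((p.2 : ℕ) - p.2) else 0) = zext d z l.1 k.1 0
    rw [if_pos le_rfl, Nat.sub_self]
  constructor
  · intro h i
    rcases isEmpty_or_nonempty (K d i) with hE | ⟨⟨k, hk⟩⟩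
    · rw [Matrix.det_isEmpty]; exact one_ne_zero
    · rw [← key ⟨k, ⟨0, hd k⟩⟩ i hk.symm]
      exact h _ (Finset.mem_image_of_mem _ (Finset.mem_univ _))
  · intro h a ha
    obtain ⟨p, -, rfl⟩ := Finset.mem_image.mp ha
    rw [key p ⟨d p.1, Nat.lt_succ_of_le (Finset.le_sup (Finset.mem_univ p.1))⟩ rfl]
    exact h _

abbrev isDiag (d : Fin t → ℕ) (x : Free d) : Prop := (x.2.2.1 : ℕ) = 0 ∧ d x.1 = d x.2.1

def diagEquiv (d : Fin t → ℕ) (hd : ∀ k, 1 ≤ d k) :
    ({x : Free d // isDiag d x} → F) ≃ ((i : Fin (Finset.univ.sup d + 1)) → Matrix (K d i) (K d i) F) where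
  toFun z i := Matrix.of fun l k => z ⟨⟨l.1, k.1, ⟨0, hd _⟩, by
    have h1 := l.2
    have h2 := k.2
    show d l.1 ≤ d k.1 + 0
    omega⟩, rfl, l.2.trans k.2.symm⟩
  invFun A x := A ⟨d x.1.1, Nat.lt_succ_of_le (Finset.le_sup (Finset.mem_univ x.1.1))⟩ ⟨x.1.1, rfl⟩ ⟨x.1.2.1, x.2.2.symm⟩
  left_inv z := by
    funext x
    obtain ⟨⟨l, k, s, hs⟩, h0, heq⟩ := x
    obtain rfl : s = ⟨0, hd l⟩ := Fin.ext h0
    rfl
  right_inv A := by
    funext i
    obtain ⟨i, hi⟩ := i
    ext ⟨l, hl⟩ ⟨k, hk⟩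
    dsimp only at hl hk
    subst hl
    rfl

theorem card_min (n m : ℕ) : Nat.card {s : Fin n // n ≤ m + (s : ℕ)} = min n m := by
  have e : {s : Fin n // n ≤ m + (s : ℕ)} ≃ Fin (min n m) :=
    { toFun := fun s => ⟨(s.1 : ℕ) - (n - m), by have := s.2; have := s.1.2; omega⟩
      invFun := fun s => ⟨⟨(s : ℕ) + (n - m), by have := s.2; omega⟩, by have := s.2; simp only; omega⟩
      left_inv := fun s => Subtype.ext (Fin.ext (by have := s.2; have := s.1.2; simp only; omega))
      right_inv := fun s => Fin.ext (by simp only; omega) }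
  rw [Nat.card_congr e, Nat.card_fin]

theorem exponent (d : Fin t → ℕ) (hd : ∀ k, 1 ≤ d k) :
    (∑ l : Fin t, ∑ k : Fin t, min (d l) (d k)) =
      (2 * (∑ i ∈ Finset.range (Finset.univ.sup d + 1), ∑ j ∈ Finset.range (Finset.univ.sup d + 1), if i < j then i * (Finset.univ.filter (fun k : Fin t => d k = i)).card * (Finset.univ.filter (fun k : Fin t => d k = j)).card else 0) + ∑ i ∈ Finset.range (Finset.univ.sup d + 1), (i - 1) * (Finset.univ.filter (fun k : Fin t => d k = i)).card ^ 2) +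
        ∑ i ∈ Finset.range (Finset.univ.sup d + 1), (Finset.univ.filter (fun k : Fin t => d k = i)).card ^ 2 := by
  classical
  set R := Finset.range (Finset.univ.sup d + 1) with hR
  set a : ℕ → ℕ := fun i => (Finset.univ.filter (fun k : Fin t => d k = i)).card with ha
  have hfib : ∀ f : ℕ → ℕ, ∑ l : Fin t, f (d l) = ∑ i ∈ R, a i * f i := by
    intro f
    rw [← Finset.sum_fiberwise_of_maps_to (t := R) (g := d)
      (fun l _ => Finset.mem_range.mpr (Nat.lt_succ_of_le (Finset.le_sup (Finset.mem_univ l))))]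
    refine Finset.sum_congr rfl fun i _ => ?_
    rw [Finset.sum_congr rfl (g := fun _ => f i) (fun l hl => by rw [(Finset.mem_filter.mp hl).2]), Finset.sum_const, smul_eq_mul]
  have h1 : (∑ l : Fin t, ∑ k : Fin t, min (d l) (d k)) = ∑ i ∈ R, ∑ j ∈ R, a i * a j * min i j := by
    rw [hfib fun i => ∑ k : Fin t, min i (d k)]
    refine Finset.sum_congr rfl fun i _ => ?_
    rw [hfib fun j => min i j, Finset.mul_sum]
    exact Finset.sum_congr rfl fun j _ => by ring
  have h2 : (∑ i ∈ R, ∑ j ∈ R, a i * a j * min i j) =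
      (∑ i ∈ R, ∑ j ∈ R, if i < j then i * a i * a j else 0) +
      (∑ i ∈ R, ∑ j ∈ R, if j < i then j * a j * a i else 0) + ∑ i ∈ R, i * a i ^ 2 := by
    rw [← Finset.sum_add_distrib, ← Finset.sum_add_distrib]
    refine Finset.sum_congr rfl fun i hi => ?_
    have : i * a i ^ 2 = ∑ j ∈ R, if i = j then i * a i ^ 2 else 0 := by
      rw [Finset.sum_ite_eq, if_pos hi]
    rw [this, ← Finset.sum_add_distrib, ← Finset.sum_add_distrib]
    refine Finset.sum_congr rfl fun j _ => ?_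
    rcases lt_trichotomy i j with h | rfl | h
    · rw [if_pos h, if_neg (by omega), if_neg h.ne, min_eq_left h.le]; ring
    · simp; ring
    · rw [if_neg (by omega), if_pos h, if_neg h.ne', min_eq_right h.le]; ring
  have h3 : (∑ i ∈ R, ∑ j ∈ R, if j < i then j * a j * a i else 0) =
      ∑ i ∈ R, ∑ j ∈ R, if i < j then i * a i * a j else 0 := Finset.sum_comm
  have h4 : (∑ i ∈ R, i * a i ^ 2) = (∑ i ∈ R, (i - 1) * a i ^ 2) + ∑ i ∈ R, a i ^ 2 := by
    rw [← Finset.sum_add_distrib]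
    refine Finset.sum_congr rfl fun i _ => ?_
    rcases Nat.eq_zero_or_pos i with rfl | hi
    · have : a 0 = 0 := Finset.card_eq_zero.mpr (Finset.filter_eq_empty_iff.mpr fun k _ => by have := hd k; omega)
      simp [this]
    · obtain ⟨i, rfl⟩ : ∃ j, i = j + 1 := ⟨i - 1, by omega⟩
      rw [Nat.add_sub_cancel]; ring
  rw [h1, h2, h3, h4]
  ring

theorem card_det_ne_zero [Fintype F] (ι : Type) [Fintype ι] [DecidableEq ι] :
    Nat.card {A : Matrix ι ι F // A.det ≠ 0} =
      ∏ j : Fin (Fintype.card ι), (Fintype.card F ^ Fintype.card ι - Fintype.card F ^ (j : ℕ)) := by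
  rw [← Matrix.card_GL_field (𝔽 := F) (Fintype.card ι)]
  refine Nat.card_congr (Equiv.trans ?_ ((Matrix.reindexAlgEquiv F F (Fintype.equivFin ι)).toRingEquiv.toMulEquiv |> Units.mapEquiv).toEquiv)
  exact
    { toFun := fun A => Matrix.GeneralLinearGroup.mkOfDetNeZero A.1 A.2
      invFun := fun g => ⟨(g : Matrix ι ι F), (Matrix.isUnit_iff_isUnit_det _).mp g.isUnit |>.ne_zero⟩
      left_inv := fun A => rfl
      right_inv := fun g => Units.ext rfl }

/-- Order of the centraliser in GL of a unipotent matrix of given Jordan type over the field with q elements: if the type has a_i blocks of size i (all block sizes at least 1), the invertible matrices commuting with it number q^γ · Π_i |GL_(a_i)(q)| with γ = 2 Σ_(i<j) i a_i a_j + Σ_i (i − 1) a_i² (a group of order q^γ extended by Π GL_(a_i)(q)). -/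
theorem result {F : Type*} [Field F] [Fintype F] {q : ℕ} (hF : Fintype.card F = q) {t : ℕ} (d : Fin t → ℕ) (hd : ∀ k, 1 ≤ d k) : Nat.card {g : GL ((k : Fin t) × Fin (d k)) F // (g : Matrix ((k : Fin t) × Fin (d k)) ((k : Fin t) × Fin (d k)) F) * Cfsg.jordanTypeMatrix d F = Cfsg.jordanTypeMatrix d F * (g : Matrix ((k : Fin t) × Fin (d k)) ((k : Fin t) × Fin (d k)) F)} = q ^ (2 * (∑ i ∈ Finset.range (Finset.univ.sup d + 1), ∑ j ∈ Finset.range (Finset.univ.sup d + 1), if i < j then i * (Finset.univ.filter (fun k : Fin t => d k = i)).card * (Finset.univ.filter (fun k : Fin t => d k = j)).card else 0) + ∑ i ∈ Finset.range (Finset.univ.sup d + 1), (i - 1) * (Finset.univ.filter (fun k : Fin t => d k = i)).card ^ 2) * ∏ i ∈ Finset.range (Finset.univ.sup d + 1), ∏ j : Fin ((Finset.univ.filter (fun k : Fin t => d k = i)).card), (q ^ (Finset.univ.filter (fun k : Fin t => d k = i)).card - q ^ (j : ℕ)) := by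
  classical
  set J := Cfsg.jordanTypeMatrix d F with hJ
  let e1 : {g : GL (Idx d) F // (g : Matrix (Idx d) (Idx d) F) * J = J * g} ≃
      {z : Free d → F // ∀ i, (dblock d z i).det ≠ 0} :=
    { toFun := fun g => ⟨param d (g.1 : Matrix (Idx d) (Idx d) F), (det_build_ne_zero d hd _).mp (by
        rw [build_param d hd _ g.2]
        exact ((Matrix.isUnit_iff_isUnit_det _).mp g.1.isUnit).ne_zero)⟩
      invFun := fun z => ⟨Matrix.GeneralLinearGroup.mkOfDetNeZero (build d z.1) ((det_build_ne_zero d hd _).mpr z.2),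
        build_comm d z.1⟩
      left_inv := fun g => Subtype.ext (Units.ext (build_param d hd _ g.2))
      right_inv := fun z => Subtype.ext (param_build d hd z.1) }
  let e0 : (Free d → F) ≃ ({x : Free d // isDiag d x} → F) × ({x : Free d // ¬ isDiag d x} → F) :=
    Equiv.piEquivPiSubtypeProd (fun x => isDiag d x) (fun _ => F)
  have hblk : ∀ z i, dblock d z i = diagEquiv d hd (e0 z).1 i := by
    intro z i
    ext l k
    have h1 := l.2
    have h2 := k.2
    show zext d z l.1 k.1 0 = _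
    rw [zext, dif_pos ⟨hd _, by omega⟩]
    rfl
  let e2 : {z : Free d → F // ∀ i, (dblock d z i).det ≠ 0} ≃
      ((i : Fin (Finset.univ.sup d + 1)) → {A : Matrix (K d i) (K d i) F // A.det ≠ 0}) × ({x : Free d // ¬ isDiag d x} → F) :=
    { toFun := fun z => (fun i => ⟨dblock d z.1 i, z.2 i⟩, (e0 z.1).2)
      invFun := fun w => ⟨e0.symm ((diagEquiv d hd).symm (fun i => (w.1 i).1), w.2), fun i => by
        rw [hblk, Equiv.apply_symm_apply, Equiv.apply_symm_apply]
        exact (w.1 i).2⟩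
      left_inv := fun z => Subtype.ext (by
        show e0.symm ((diagEquiv d hd).symm (fun i => dblock d z.1 i), (e0 z.1).2) = z.1
        rw [show (fun i => dblock d z.1 i) = diagEquiv d hd (e0 z.1).1 from funext (hblk z.1), Equiv.symm_apply_apply]
        exact e0.symm_apply_apply z.1)
      right_inv := fun w => by
        refine Prod.ext (funext fun i => Subtype.ext ?_) ?_
        · show dblock d (e0.symm _) i = _
          rw [hblk, Equiv.apply_symm_apply, Equiv.apply_symm_apply]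
        · show (e0 (e0.symm _)).2 = _
          rw [Equiv.apply_symm_apply] }
  rw [Nat.card_congr (e1.trans e2), Nat.card_prod, Nat.card_pi, Nat.card_fun, Nat.card_eq_fintype_card (α := F), hF, mul_comm]
  have hcK : ∀ i : Fin (Finset.univ.sup d + 1),
      Fintype.card (K d i) = (Finset.univ.filter (fun k : Fin t => d k = (i : ℕ))).card := fun i => Fintype.card_subtype _
  congr 1
  · congr 1
    have hfree : Nat.card (Free d) = ∑ l : Fin t, ∑ k : Fin t, min (d l) (d k) := by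
      rw [Nat.card_sigma]
      exact Finset.sum_congr rfl fun l _ => by rw [Nat.card_sigma]; exact Finset.sum_congr rfl fun k _ => card_min _ _
    have hdiag : Nat.card {x : Free d // isDiag d x} =
        ∑ i ∈ Finset.range (Finset.univ.sup d + 1), (Finset.univ.filter (fun k : Fin t => d k = i)).card ^ 2 := by
      have e : {x : Free d // isDiag d x} ≃ (i : Fin (Finset.univ.sup d + 1)) × (K d i × K d i) :=
        { toFun := fun x => ⟨⟨d x.1.1, Nat.lt_succ_of_le (Finset.le_sup (Finset.mem_univ x.1.1))⟩,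
            ⟨x.1.1, rfl⟩, ⟨x.1.2.1, x.2.2.symm⟩⟩
          invFun := fun y => ⟨⟨y.2.1.1, y.2.2.1, ⟨0, hd _⟩, by
            have h1 := y.2.1.2
            have h2 := y.2.2.2
            show d y.2.1.1 ≤ d y.2.2.1 + 0
            omega⟩, rfl, y.2.1.2.trans y.2.2.2.symm⟩
          left_inv := fun x => by
            obtain ⟨⟨l, k, s, hs⟩, h0, heq⟩ := x
            obtain rfl : s = ⟨0, hd l⟩ := Fin.ext h0
            rfl
          right_inv := fun y => by
            obtain ⟨⟨i, hi⟩, ⟨l, hl⟩, ⟨k, hk⟩⟩ := y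
            dsimp only at hl hk
            subst hl
            rfl }
      rw [Nat.card_congr e, Nat.card_sigma, ← Fin.sum_univ_eq_sum_range
        (fun i => (Finset.univ.filter (fun k : Fin t => d k = i)).card ^ 2)]
      exact Finset.sum_congr rfl fun i _ => by rw [Nat.card_prod, Nat.card_eq_fintype_card, hcK, sq]
    have hsum : Nat.card {x : Free d // isDiag d x} + Nat.card {x : Free d // ¬ isDiag d x} = Nat.card (Free d) := by
      rw [← Nat.card_sum]
      exact Nat.card_congr (Equiv.sumCompl _)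
    rw [hfree, hdiag, exponent d hd] at hsum
    omega
  · rw [← Fin.prod_univ_eq_prod_range (fun i => ∏ j : Fin ((Finset.univ.filter (fun k : Fin t => d k = i)).card),
      (q ^ (Finset.univ.filter (fun k : Fin t => d k = i)).card - q ^ (j : ℕ)))]
    refine Finset.prod_congr rfl fun i _ => ?_
    rw [card_det_ne_zero, hF, hcK]

end Cfsg.Agent.S2581
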