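import Cfsg.Statements.S2583
import Cfsg.Agent.Lib.Linear.JordanForms.Main

set_option autoImplicit false
open Cfsg

namespace Cfsg.Agent.S2583

open Cfsg.Lib.Linear.JordanForms

theorem block {F : Type*} [Field F] (h2 : (2 : F) ≠ 0) {n : ℕ} (hn : n ≠ 0) (hbad : ¬ (Even n ∧ 0 < n)) :
    ∃ f : LinearMap.BilinForm F (A F n), (∀ a, f (uu * a) (uu * a) = f a a) ∧
      ∀ a, a ≠ 0 → ∃ b, f a b + f b a ≠ 0 := by
  obtain ⟨τ, hτ, hτs⟩ := exists_tau (F := F) h2 hn
  refine ⟨frm τ, fun a => frm_uu τ a a, fun a ha => ?_⟩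
  obtain ⟨b, hb⟩ := frm_nondeg τ hτ ha
  refine ⟨b, fun h0 => hb ?_⟩
  have hev : Even (n - 1) := by
    rcases Nat.even_or_odd n with h | ⟨r, hr⟩
    · exact absurd ⟨h, by omega⟩ hbad
    · exact ⟨r, by omega⟩
  have hsym : frm τ b a = frm τ a b := by
    rw [frm_apply, frm_apply, show b * st a = st (a * st b) by rw [map_mul, st_st, mul_comm], hτs, hev.neg_one_pow, one_mul]
  rw [hsym, ← two_mul] at h0
  exact (mul_eq_zero.1 h0).resolve_left h2

/-- Which unipotent Jordan types occur in a finite orthogonal group in odd characteristic: over a finite field of odd order, a unipotent matrix with Jordan block sizes d_1, …, d_t (sum n, all at least 1) is similar to an isometry of some quadratic form on F^n with non-degenerate polar form if and only if every even block size occurs an even number of times. -/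
theorem result {F : Type*} [Field F] [Fintype F] (h2 : (2 : F) ≠ 0) {n t : ℕ} (d : Fin t → ℕ) (hd : ∀ k, 1 ≤ d k) (hsum : ∑ k, d k = n) : (∃ Q : QuadraticForm F (Fin n → F), (QuadraticMap.polarBilin Q).Nondegenerate ∧ ∃ e : ((k : Fin t) × Fin (d k)) ≃ Fin n, ∃ A : ↥(Cfsg.isometryGroup F ⇑Q), IsConj (Matrix.reindex e e (Cfsg.jordanTypeMatrix d F)) ((A : Matrix.GeneralLinearGroup (Fin n) F) : Matrix (Fin n) (Fin n) F)) ↔ ∀ j : ℕ, Even j → 0 < j → Even (Finset.univ.filter (fun k : Fin t => d k = j)).card := by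
  constructor
  · rintro ⟨Q, hQ, e, A, h⟩ j hj hj0
    refine Cfsg.Lib.Linear.JordanForms.parity_sym d (QuadraticMap.polarBilin Q) hQ h2
      (fun x y => QuadraticMap.polar_comm _ x y) (A : Matrix.GeneralLinearGroup (Fin n) F).isUnit (fun x y => ?_) e h j hj hj0
    have hm := Cfsg.Lib.Linear.Orth.mem_iso.1 A.2
    simp only [QuadraticMap.polarBilin_apply_apply, QuadraticMap.polar, ← Matrix.mulVec_add, hm]
  · intro h
    obtain ⟨C, hC, hnd⟩ := Cfsg.Lib.Linear.JordanForms.exists_quad_form (F := F) d (fun j => Even j ∧ 0 < j) hd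
      (fun j hj => h j hj.1 hj.2) (fun k hk hbad => block h2 hk hbad)
    exact Cfsg.Lib.Linear.JordanForms.orthogonal_of_form d hsum C hC hnd

end Cfsg.Agent.S2583
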