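import Cfsg.Statements.S2584
import Cfsg.Agent.Lib.Linear.JordanForms.Main

set_option autoImplicit false
open Cfsg

namespace Cfsg.Agent.S2584

open Cfsg.Lib.Linear.JordanForms

theorem block {F : Type*} [Field F] [CharP F 2] {n : ℕ} (hn : n ≠ 0) (hbad : ¬ Odd n) :
    ∃ f : LinearMap.BilinForm F (A F n), (∀ a, f (uu * a) (uu * a) = f a a) ∧
      ∀ a, a ≠ 0 → ∃ b, f a b + f b a ≠ 0 :=
  ⟨qfrm n, qfrm_uu hn, fun _ ha => qfrm_polar_nondeg hn (Nat.not_odd_iff_even.1 hbad) ha⟩

/-- Which unipotent Jordan types occur in a finite orthogonal group in characteristic two: over a finite field of characteristic 2 and in even dimension 2m, a unipotent matrix with Jordan block sizes d_1, …, d_t (sum 2m, all at least 1) is similar to an isometry of some quadratic form on F^(2m) with non-degenerate polar form if and only if every odd block size occurs an even number of times (the same condition as for the symplectic group, which contains these orthogonal groups). -/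
theorem result {F : Type*} [Field F] [Fintype F] [CharP F 2] {m t : ℕ} (d : Fin t → ℕ) (hd : ∀ k, 1 ≤ d k) (hsum : ∑ k, d k = 2 * m) : (∃ Q : QuadraticForm F (Fin (2 * m) → F), (QuadraticMap.polarBilin Q).Nondegenerate ∧ ∃ e : ((k : Fin t) × Fin (d k)) ≃ Fin (2 * m), ∃ A : ↥(Cfsg.isometryGroup F ⇑Q), IsConj (Matrix.reindex e e (Cfsg.jordanTypeMatrix d F)) ((A : Matrix.GeneralLinearGroup (Fin (2 * m)) F) : Matrix (Fin (2 * m)) (Fin (2 * m)) F)) ↔ ∀ j : ℕ, Odd j → Even (Finset.univ.filter (fun k : Fin t => d k = j)).card := by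
  constructor
  · rintro ⟨Q, hQ, e, A, h⟩ j hj
    refine Cfsg.Lib.Linear.JordanForms.parity_alt d (QuadraticMap.polarBilin Q) hQ
      (fun x => ?_) (A : Matrix.GeneralLinearGroup (Fin (2 * m)) F).isUnit (fun x y => ?_) e h j hj
    · rw [QuadraticMap.polarBilin_apply_apply, QuadraticMap.polar_self, two_nsmul, CharTwo.add_self_eq_zero]
    · have hm := Cfsg.Lib.Linear.Orth.mem_iso.1 A.2
      simp only [QuadraticMap.polarBilin_apply_apply, QuadraticMap.polar, ← Matrix.mulVec_add, hm]
  · intro h
    obtain ⟨C, hC, hnd⟩ := Cfsg.Lib.Linear.JordanForms.exists_quad_form (F := F) d Odd hd h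
      (fun k hk hbad => block hk hbad)
    exact Cfsg.Lib.Linear.JordanForms.orthogonal_of_form d hsum C hC hnd

end Cfsg.Agent.S2584
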