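import Cfsg.Statements.S2590
import Cfsg.Agent.Lib.Linear.PrimeClasses.OrthConj

set_option linter.style.haveILetI false

set_option autoImplicit false
open Cfsg

namespace Cfsg.Agent.S2590

theorem main {F : Type*} [Field F] [Fintype F] {p : ℕ} [Fact p.Prime] [CharP F p] {n : ℕ} (Q : QuadraticForm F (Fin n → F)) (hQ : (QuadraticMap.polarBilin Q).Nondegenerate) (A B : ↥(Cfsg.isometryGroup F ⇑Q)) (hodd : Odd (orderOf A)) (hA : (orderOf A).Coprime p) : IsConj A B ↔ IsConj ((A : Matrix.GeneralLinearGroup (Fin n) F) : Matrix (Fin n) (Fin n) F) ((B : Matrix.GeneralLinearGroup (Fin n) F) : Matrix (Fin n) (Fin n) F) := by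
  refine ⟨fun h => MonoidHom.map_isConj ((Units.coeHom _).comp (Cfsg.isometryGroup F ⇑Q).subtype) h, fun h =>
    Cfsg.Agent.Lib.Linear.OrthConj.isConj_isometry (Cfsg.Lib.Linear.Orth.space_of_quadraticForm Q hQ) A B
      (N := orderOf A) ?_ hodd (pow_orderOf_eq_one A) h⟩
  intro h0
  exact (Fact.out : p.Prime).not_dvd_one (hA ▸ Nat.dvd_gcd ((CharP.cast_eq_zero_iff F p _).mp h0) dvd_rfl)

/-- Two semisimple elements of odd order of a finite orthogonal group (isometry group of a quadratic form on F^n with non-degenerate polar form, F finite of characteristic p; the elements have odd order prime to p) are conjugate in the orthogonal group if and only if they are conjugate in GL_n(F). -/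
theorem result {F : Type*} [Field F] [Fintype F] {p : ℕ} [Fact p.Prime] [CharP F p] {n : ℕ} (Q : QuadraticForm F (Fin n → F)) (hQ : (QuadraticMap.polarBilin Q).Nondegenerate) (A B : ↥(Cfsg.isometryGroup F ⇑Q)) (hodd : Odd (orderOf A)) (hA : (orderOf A).Coprime p) : IsConj A B ↔ IsConj ((A : Matrix.GeneralLinearGroup (Fin n) F) : Matrix (Fin n) (Fin n) F) ((B : Matrix.GeneralLinearGroup (Fin n) F) : Matrix (Fin n) (Fin n) F) := by
  exact main Q hQ A B hodd hA

end Cfsg.Agent.S2590
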