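import Cfsg.Statements.S2594
import Cfsg.Agent.S0245
import Cfsg.Agent.Lib.Linear.SymplecticGroup

set_option autoImplicit false
open Cfsg Cfsg.Lib.Linear Cfsg.Lib.Linear.Symp Module

namespace Cfsg.Agent.S2594

theorem main {F : Type*} [Field F] [Fintype F] [CharP F 2] {q : ℕ} (hF : Fintype.card F = q) {m : ℕ} (hm : 1 ≤ m)
    (t : Matrix.symplecticGroup (Fin m) F) (ht : ((t : Matrix (Fin m ⊕ Fin m) (Fin m ⊕ Fin m) F) - 1).rank = 1) :
    Nat.card ↥(Subgroup.centralizer ({t} : Set ↥(Matrix.symplecticGroup (Fin m) F))) =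
      q ^ (2 * m - 1) * (q ^ ((m - 1) ^ 2) * ∏ i : Fin (m - 1), (q ^ (2 * ((i : ℕ) + 1)) - 1)) := by
  classical
  subst hF
  let V := Fin m ⊕ Fin m → F
  let B := spB m F
  have hA : B.IsAlt := spB_isAlt m F
  have hB : B.Nondegenerate := spB_nondegenerate m F
  set T := (t : Matrix (Fin m ⊕ Fin m) (Fin m ⊕ Fin m) F) with hT
  set N : V →ₗ[F] V := Matrix.mulVecLin (T - 1) with hN
  have hr : finrank F (LinearMap.range N) = 1 := ht
  obtain ⟨⟨v, hv⟩, hv0, hgen⟩ := finrank_eq_one_iff'.1 hr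
  have hv0' : v ≠ 0 := fun h => hv0 (Subtype.ext h)
  have hphi : ∀ x, ∃ c : F, N x = c • v := fun x => by
    obtain ⟨c, hc⟩ := hgen ⟨N x, LinearMap.mem_range_self N x⟩
    exact ⟨c, (congrArg Subtype.val hc).symm⟩
  choose φ hφ using hphi
  have hTx : ∀ x, T.mulVec x = x + φ x • v := fun x => by
    rw [← hφ]
    show T.mulVec x = x + (T - 1).mulVec x
    rw [Matrix.sub_mulVec, Matrix.one_mulVec, add_sub_cancel]
  obtain ⟨x₀, hx₀⟩ := exists_apply_ne_zero (B := B) hB hv0'
  have hlin : ∀ y, φ y = φ x₀ / B x₀ v * B y v := fun y => by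
    have h := (mem_symplecticGroup_iff _).1 t.2 x₀ y
    rw [← hT, hTx, hTx] at h
    simp only [map_add, map_smul, LinearMap.add_apply, LinearMap.smul_apply, smul_eq_mul] at h
    have h1 : spB m F v v = 0 := hA v
    have h2 : spB m F v y = - spB m F y v := (LinearMap.IsAlt.neg hA y v).symm
    rw [h1, h2] at h
    show φ y = φ x₀ / spB m F x₀ v * spB m F y v
    have hx₀' : spB m F x₀ v ≠ 0 := hx₀
    field_simp
    linear_combination h
  obtain ⟨a, ha⟩ := FiniteField.isSquare_of_char_two (F := F) (CharP.ringChar_of_prime_eq_zero Nat.prime_two (CharP.cast_eq_zero F 2)) (φ x₀ / B x₀ v)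
  set w : V := a • v with hw
  set g : iso B := spEquiv t with hg
  have hgt : g = tvG hA w 1 := by
    refine Subtype.ext (LinearEquiv.ext fun x => ?_)
    rw [hg, spEquiv_apply, ← hT, hTx, hlin, ha]
    show _ = tv hA w 1 x
    rw [tv_apply, hw, map_smul, smul_smul, one_mul, smul_eq_mul]
    congr 2
    ring
  have hw0 : w ≠ 0 := by
    intro h
    have h1 : g = 1 := by
      rw [hgt, h]; refine Subtype.ext (LinearEquiv.ext fun x => ?_)
      show tv hA (0 : V) 1 x = x
      rw [tv_apply]; simp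
    have h2 : t = 1 := spEquiv.injective (by rw [map_one, ← hg, h1])
    rw [hT, h2] at ht
    simp at ht
  have hinj : ∀ u, tvG hA u 1 = tvG hA w 1 → u = w := by
    intro u h
    have h1 : ∀ x, B x u • u = B x w • w := fun x => by
      have h2 := congrArg (fun z : iso B => (z : V ≃ₗ[F] V) x) h
      change tv hA u 1 x = tv hA w 1 x at h2
      simpa [tv_apply] using h2
    obtain ⟨x, hx⟩ := exists_apply_ne_zero (B := B) hB hw0
    have hxu : B x u ≠ 0 := fun h0 => by
      have := h1 x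
      rw [h0, zero_smul, eq_comm, smul_eq_zero] at this
      exact this.elim hx hw0
    have hu : u = (B x w / B x u) • w := by
      rw [div_eq_inv_mul, mul_smul, ← h1, inv_smul_smul₀ hxu]
    set l := B x w / B x u
    have h3 := h1 x
    rw [hu, map_smul, smul_smul, smul_eq_mul] at h3
    have h4 : l ^ 2 = 1 := by
      have h5 := smul_left_injective F hw0 h3
      clear_value l
      exact mul_left_cancel₀ hx (by linear_combination h5)
    have h6 : (l - 1) ^ 2 = 0 := by
      have h2 : (2 : F) = 0 := by exact_mod_cast CharP.cast_eq_zero F 2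
      linear_combination h4 - (l - 1) * h2
    rw [hu, sub_eq_zero.1 (pow_eq_zero_iff two_ne_zero |>.1 h6), one_smul]
  have hcent : (Subgroup.centralizer ({t} : Set ↥(Matrix.symplecticGroup (Fin m) F))).map spEquiv.toMonoidHom =
      MulAction.stabilizer (iso B) w := by
    ext k
    rw [MulAction.mem_stabilizer_iff, Subgroup.mem_map_equiv, Subgroup.mem_centralizer_singleton_iff]
    have hk : spEquiv.symm k * t = t * spEquiv.symm k ↔ k * g = g * k := by
      rw [hg, ← spEquiv.injective.eq_iff, map_mul, map_mul, MulEquiv.apply_symm_apply]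
    rw [hk, hgt, ← mul_inv_eq_iff_eq_mul, tvG_conj]
    exact ⟨fun h => hinj _ h, fun h => by show tvG hA (k • w) 1 = _; rw [h]⟩
  have hstab : Nat.card (Subgroup.centralizer ({t} : Set ↥(Matrix.symplecticGroup (Fin m) F))) =
      Nat.card (MulAction.stabilizer (iso B) w) := by
    rw [← hcent, Subgroup.card_map_of_injective spEquiv.injective]
  have horb : MulAction.orbit (iso B) w = {u : V | u ≠ 0} := by
    ext u
    constructor
    · rintro ⟨k, rfl⟩ h
      exact hw0 ((k : V ≃ₗ[F] V).injective (h.trans (map_zero _).symm))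
    · intro hu
      obtain ⟨k, hk, he⟩ := exists_iso_vec hB hA hw0 hu
      exact ⟨⟨k, T_le_iso hA ⊥ hk⟩, he⟩
  have hprod := Subgroup.card_mul_index (MulAction.stabilizer (iso B) w)
  rw [MulAction.index_stabilizer, horb, ← Nat.card_coe_set_eq, mul_comm] at hprod
  have horbc : Nat.card ({u : V | u ≠ 0} : Set V) = Fintype.card F ^ (2 * m) - 1 := by
    rw [Nat.card_coe_set_eq, show ({u : V | u ≠ 0} : Set V) = {0}ᶜ from rfl, Set.ncard_compl, Set.ncard_singleton,
      Nat.card_eq_fintype_card, Fintype.card_fun, Fintype.card_sum, Fintype.card_fin, two_mul]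
  rw [horbc, ← Nat.card_congr spEquiv.toEquiv, ← hstab, Cfsg.Agent.S0245.result (q := Fintype.card F) rfl m] at hprod
  obtain ⟨k, rfl⟩ : ∃ k, m = k + 1 := ⟨m - 1, by omega⟩
  have hpos : 0 < Fintype.card F ^ (2 * (k + 1)) - 1 := by
    have := Nat.one_lt_pow (by omega : 2 * (k + 1) ≠ 0) (Fintype.one_lt_card (α := F))
    omega
  refine Nat.eq_of_mul_eq_mul_left hpos (hprod.trans ?_)
  rw [Finset.prod_range_succ, Nat.add_sub_cancel, show 2 * (k + 1) - 1 = 2 * k + 1 by omega,
    Fin.prod_univ_eq_prod_range (fun i => Fintype.card F ^ (2 * (i + 1)) - 1) k]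
  ring

/-- Over a finite field with q elements, q even, an element t of Sp_2m(F) with rank(t − 1) = 1 (a symplectic transvection) has centraliser in Sp_2m(F) of order q^(2m−1) · |Sp_(2m−2)(q)| = q^(2m−1) · q^((m−1)²) · Π_(i=1)^(m−1) (q^(2i) − 1). -/
theorem result {F : Type*} [Field F] [Fintype F] [CharP F 2] {q : ℕ} (hF : Fintype.card F = q) {m : ℕ} (hm : 1 ≤ m) (t : Matrix.symplecticGroup (Fin m) F) (ht : ((t : Matrix (Fin m ⊕ Fin m) (Fin m ⊕ Fin m) F) - 1).rank = 1) : Nat.card ↥(Subgroup.centralizer ({t} : Set ↥(Matrix.symplecticGroup (Fin m) F))) = q ^ (2 * m - 1) * (q ^ ((m - 1) ^ 2) * ∏ i : Fin (m - 1), (q ^ (2 * ((i : ℕ) + 1)) - 1)) := by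
  exact main hF hm t ht

end Cfsg.Agent.S2594
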