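import Cfsg.Statements.S2598
import Cfsg.Agent.Lib.Linear.OrthInvolutionStd
import Mathlib.GroupTheory.SpecificGroups.Alternating.Centralizer
-- import your own Cfsg.Agent.* helpers here

set_option autoImplicit false
open Cfsg

namespace Cfsg.Agent.S2598

open Module Cfsg.Lib.Linear.Orth
open scoped Matrix

set_option linter.deprecated false in
/-- The involutions of `A₅` form one class. -/
theorem card_classes_a5 :
    Nat.card {C : ConjClasses ↥(alternatingGroup (Fin 5)) //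
      ∃ g : ↥(alternatingGroup (Fin 5)), ConjClasses.mk g = C ∧ orderOf g = 2} = 1 := by
  have hs : Equiv.swap (0 : Fin 5) 4 * Equiv.swap 1 3 ∈ alternatingGroup (Fin 5) := by
    rw [Equiv.Perm.mem_alternatingGroup]; decide
  set s : ↥(alternatingGroup (Fin 5)) := ⟨_, hs⟩ with hsdef
  have hs2 : orderOf s = 2 := orderOf_eq_prime
    (Subtype.ext (show (Equiv.swap (0 : Fin 5) 4 * Equiv.swap 1 3) ^ 2 = 1 by decide))
    fun h => (show Equiv.swap (0 : Fin 5) 4 * Equiv.swap 1 3 ≠ 1 by decide) (congrArg Subtype.val h)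
  rw [Nat.card_eq_one_iff_unique]
  refine ⟨⟨?_⟩, ⟨⟨ConjClasses.mk s, s, rfl, hs2⟩⟩⟩
  suffices key : ∀ g : ↥(alternatingGroup (Fin 5)), orderOf g = 2 → IsConj s g by
    intro K1 K2
    obtain ⟨g1, h1, o1⟩ := K1.2
    obtain ⟨g2, h2, o2⟩ := K2.2
    refine Subtype.ext ?_
    rw [← h1, ← h2, ConjClasses.mk_eq_mk_iff_isConj]
    exact (key g1 o1).symm.trans (key g2 o2)
  intro g hg
  have hg' : orderOf g.1 = 2 := by rw [Subgroup.orderOf_coe, hg]
  obtain ⟨n, hn⟩ := Equiv.Perm.cycleType_prime_order (σ := g.1) (by rw [hg']; exact Nat.prime_two)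
  rw [hg'] at hn
  have hc : IsConj (s : Equiv.Perm (Fin 5)) g.1 :=
    alternatingGroup.isConj_swap_mul_swap_of_cycleType_two g.2 (fun h => by simp [h] at hg')
      (fun m hm => by rw [hn] at hm; exact Multiset.eq_of_mem_replicate hm)
  obtain ⟨c, hc⟩ := isConj_iff.1 hc
  rcases Int.units_eq_one_or (Equiv.Perm.sign c) with h | h
  · exact isConj_iff.2 ⟨⟨c, Equiv.Perm.mem_alternatingGroup.2 h⟩, Subtype.ext hc⟩
  · refine isConj_iff.2 ⟨⟨c * Equiv.swap 0 4, ?_⟩, Subtype.ext ?_⟩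
    · rw [Equiv.Perm.mem_alternatingGroup, map_mul, h, Equiv.Perm.sign_swap (by decide), Int.units_mul_self]
    · show c * Equiv.swap 0 4 * s.1 * (c * Equiv.swap 0 4)⁻¹ = g.1
      rw [← hc, _root_.mul_inv_rev, Equiv.swap_inv]
      have e : Equiv.swap (0 : Fin 5) 4 * s.1 * Equiv.swap 0 4 = s.1 := by
        show Equiv.swap (0 : Fin 5) 4 * (Equiv.swap 0 4 * Equiv.swap 1 3) * Equiv.swap 0 4 =
          Equiv.swap 0 4 * Equiv.swap 1 3
        decide
      conv_rhs => rw [← e]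
      simp only [mul_assoc]

variable {F : Type*} [Field F] [Fintype F] [CharP F 2]

/-- The elliptic group in dimension four over two elements is `Sym 5`, on the singular vectors. -/
theorem two_four (hq : Fintype.card F = 2) (a b : F)
    (hab : ∀ z₁ z₂ : F, z₁ ^ 2 + a * z₁ * z₂ + b * z₂ ^ 2 = 0 → z₁ = 0 ∧ z₂ = 0) :
    Nat.card {C : ConjClasses ↥(Cfsg.Omega F (Cfsg.quadFormMinus 1 F a b)) //
      ∃ g : ↥(Cfsg.Omega F (Cfsg.quadFormMinus 1 F a b)), ConjClasses.mk g = C ∧ orderOf g = 2} = 1 := by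
  classical
  set Q := Cfsg.quadFormMinus 1 F a b with hQ
  obtain ⟨hc, -, hord⟩ := counts_minus 1 hab
  have hqn : Nat.card F = 2 := by rw [Nat.card_eq_fintype_card, hq]
  have hc6 : Nat.card {x // Q x = 0} = 6 := by
    have := hc one_ne_zero
    rw [hqn] at this
    norm_num at this
    rw [Nat.card_eq_fintype_card]
    exact_mod_cast this
  have hG : Nat.card ↥(Cfsg.isometryGroup F Q) = 120 := by
    rw [hqn] at hord
    norm_num at hord
    rw [Nat.card_eq_fintype_card]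
    exact_mod_cast hord
  obtain ⟨B, C⟩ := exists_space_minus (F := F) 1 a b hab
  let X := {x : (Fin 1 ⊕ Fin 1) ⊕ Fin 2 → F // Q x = 0 ∧ x ≠ 0}
  have hX : Fintype.card X = 5 := by
    have e : X ≃ {x : {x // Q x = 0} // ¬ x = ⟨0, C.zero⟩} :=
      { toFun := fun x => ⟨⟨x.1, x.2.1⟩, fun h => x.2.2 (congrArg Subtype.val h)⟩
        invFun := fun x => ⟨x.1.1, x.1.2, fun h => x.2 (Subtype.ext h)⟩
        left_inv := fun _ => rfl
        right_inv := fun _ => rfl }
    rw [Fintype.card_congr e, Fintype.card_subtype_compl, Fintype.card_subtype_eq,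
      ← Nat.card_eq_fintype_card, hc6]
  have hpres : ∀ (g : ↥(Cfsg.isometryGroup F Q)) (x : X),
      Q (g.1.val *ᵥ x.1) = 0 ∧ g.1.val *ᵥ x.1 ≠ 0 := fun g x =>
    ⟨(mem_iso.1 g.2 x.1).trans x.2.1, fun h => x.2.2 (by rw [← inv_act g.1 x.1, h, Matrix.mulVec_zero])⟩
  letI : MulAction ↥(Cfsg.isometryGroup F Q) X :=
    { smul := fun g x => ⟨g.1.val *ᵥ x.1, hpres g x⟩
      one_smul := fun x => Subtype.ext (Matrix.one_mulVec _)
      mul_smul := fun g h x => Subtype.ext (mul_act _ _ _) }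
  let f := MulAction.toPermHom ↥(Cfsg.isometryGroup F Q) X
  have hone : ∀ z : F, z ≠ 0 → z = 1 := fun z hz => by
    have := FiniteField.pow_card_sub_one_eq_one z hz
    rwa [hq, pow_one] at this
  have ha : a = 1 := hone a (Cfsg.Lib.Linear.OrthInvol.minus_coeff_ne_zero hab)
  have hb : b = 1 := hone b fun h0 => one_ne_zero (hab 0 1 (by rw [h0]; ring)).2
  have hinj : Function.Injective f := by
    refine (injective_iff_map_eq_one f).2 fun g hg => Subtype.ext (gl_ext fun v => ?_)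
    rw [Subgroup.coe_one, Units.val_one, Matrix.one_mulVec]
    have hfix : ∀ x, Q x = 0 → g.1.val *ᵥ x = x := fun x hx => by
      by_cases h0 : x = 0
      · rw [h0, Matrix.mulVec_zero]
      · exact congrArg Subtype.val (DFunLike.congr_fun hg ⟨x, hx, h0⟩)
    let e : (Fin 1 ⊕ Fin 1) ⊕ Fin 2 → F := Pi.single (Sum.inl (Sum.inl 0)) 1
    let f' : (Fin 1 ⊕ Fin 1) ⊕ Fin 2 → F := Pi.single (Sum.inl (Sum.inr 0)) 1
    let v0 : (Fin 1 ⊕ Fin 1) ⊕ Fin 2 → F := Pi.single (Sum.inr 0) 1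
    let v1 : (Fin 1 ⊕ Fin 1) ⊕ Fin 2 → F := Pi.single (Sum.inr 1) 1
    have h2 : (1 : F) + 1 = 0 := CharTwo.add_self_eq_zero 1
    have he : g.1.val *ᵥ e = e := hfix _ (by simp [hQ, Cfsg.quadFormMinus, e])
    have hf : g.1.val *ᵥ f' = f' := hfix _ (by simp [hQ, Cfsg.quadFormMinus, f'])
    have hv0 : g.1.val *ᵥ v0 = v0 := by
      have := hfix (e + f' + v0) (by simp [hQ, Cfsg.quadFormMinus, e, f', v0, h2])
      rwa [Matrix.mulVec_add, Matrix.mulVec_add, he, hf, add_right_inj] at this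
    have hv1 : g.1.val *ᵥ v1 = v1 := by
      have := hfix (e + f' + v1) (by simp [hQ, Cfsg.quadFormMinus, e, f', v1, hb, h2])
      rwa [Matrix.mulVec_add, Matrix.mulVec_add, he, hf, add_right_inj] at this
    have hv : v = v (Sum.inl (Sum.inl 0)) • e + v (Sum.inl (Sum.inr 0)) • f' + v (Sum.inr 0) • v0 +
        v (Sum.inr 1) • v1 := by
      funext j
      rcases j with (j | j) | j <;> fin_cases j <;> simp [e, f', v0, v1]
    rw [hv]
    simp only [Matrix.mulVec_add, Matrix.mulVec_smul, he, hf, hv0, hv1]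
  have hbij : Function.Bijective f := by
    rw [Fintype.bijective_iff_injective_and_card]
    refine ⟨hinj, ?_⟩
    rw [Fintype.card_perm, hX, ← Nat.card_eq_fintype_card, hG]
    rfl
  let Φ : ↥(Cfsg.isometryGroup F Q) ≃* Equiv.Perm (Fin 5) :=
    (MulEquiv.ofBijective f hbij).trans (Fintype.equivFinOfCardEq hX).permCongrHom
  obtain ⟨Ψ⟩ := Cfsg.Lib.Linear.OrthInvol.nonempty_comm_equiv Φ
  rw [Cfsg.Lib.Linear.OrthInvol.card_congr_classes
    (Ψ.trans (MulEquiv.subgroupCongr (alternatingGroup.commutator_perm_eq (by simp))))]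
  exact card_classes_a5

/-- Number of conjugacy classes of involutions in Ω⁻_2m(F) (the commutator subgroup of the orthogonal group of an elliptic quadratic form, Σ_(i<m−1) x_i y_i plus an anisotropic binary form) over a finite field F of characteristic two, m ≥ 1: the involutions of Ω are those with s = rank(t − 1) even, one O-class for each even s with 2 ≤ s ≤ m on which v ↦ f(v, tv) is not identically zero and one for each even s with 2 ≤ s < m on which it is zero (f the polar form; in characteristic 2, f(v, tv) = Q(v + tv)), none of which splits in Ω; in all ⌊m/2⌋ + ⌊(m − 1)/2⌋. -/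
theorem result {F : Type*} [Field F] [Fintype F] [CharP F 2] {m : ℕ} (hm : 1 ≤ m) (a b : F) (hab : ∀ z₁ z₂ : F, z₁ ^ 2 + a * z₁ * z₂ + b * z₂ ^ 2 = 0 → z₁ = 0 ∧ z₂ = 0) : Nat.card {C : ConjClasses ↥(Cfsg.Omega F (Cfsg.quadFormMinus (m - 1) F a b)) // ∃ g : ↥(Cfsg.Omega F (Cfsg.quadFormMinus (m - 1) F a b)), ConjClasses.mk g = C ∧ orderOf g = 2} = m / 2 + (m - 1) / 2 := by
  obtain ⟨k, rfl⟩ : ∃ k, m = k + 1 := ⟨m - 1, by omega⟩
  by_cases h : Fintype.card F ≠ 2 ∨ Fintype.card (Fin (k + 1) ⊕ Fin (k + 1)) ≠ 4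
  · obtain ⟨Q, C, ⟨e⟩, hno⟩ := Cfsg.Lib.Linear.OrthInvol.minus_model k a b hab
    obtain ⟨eΩ⟩ := Cfsg.Lib.Linear.OrthInvol.nonempty_comm_equiv e
    refine (Cfsg.Lib.Linear.OrthInvol.card_congr_classes eΩ).symm.trans ?_
    rw [Cfsg.Lib.Linear.OrthInvol.count_omega C h rfl _ 0 (fun h' => absurd h' hno) (fun _ => ⟨rfl, rfl⟩)]
    rfl
  · push Not at h
    obtain rfl : k = 1 := by have := h.2; simp at this; omega
    exact two_four h.1 a b hab

end Cfsg.Agent.S2598
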