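import Cfsg.Statements.S2599


set_option linter.style.haveILetI false

set_option autoImplicit false
open Cfsg

namespace Cfsg.Agent.S2599

/-- An irreducible invariant subspace of a semisimple isometry is non-degenerate or totally singular: let Q be a quadratic form on F^n (F finite of characteristic p) with non-degenerate polar form f, x an isometry of Q of order prime to p, and U a non-zero x-invariant subspace containing no x-invariant subspace other than 0 and U. Then U meets its f-orthogonal trivially, or Q vanishes on U, or p = 2, U is a line spanned by a non-singular vector and x fixes U pointwise. -/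
theorem result {F : Type*} [Field F] [Fintype F] {p : ℕ} [Fact p.Prime] [CharP F p] {n : ℕ} (Q : QuadraticForm F (Fin n → F)) (hQ : (QuadraticMap.polarBilin Q).Nondegenerate) (x : ↥(Cfsg.isometryGroup F ⇑Q)) (hx : (orderOf x).Coprime p) (U : Submodule F (Fin n → F)) (hU0 : U ≠ ⊥) (hUx : ∀ u ∈ U, ((x : Matrix.GeneralLinearGroup (Fin n) F) : Matrix (Fin n) (Fin n) F).mulVec u ∈ U) (hirr : ∀ W : Submodule F (Fin n → F), W ≤ U → (∀ w ∈ W, ((x : Matrix.GeneralLinearGroup (Fin n) F) : Matrix (Fin n) (Fin n) F).mulVec w ∈ W) → W = ⊥ ∨ W = U) : U ⊓ LinearMap.BilinForm.orthogonal (QuadraticMap.polarBilin Q) U = ⊥ ∨ (∀ u ∈ U, Q u = 0) ∨ (p = 2 ∧ Module.finrank F U = 1 ∧ (∃ u ∈ U, Q u ≠ 0) ∧ ∀ u ∈ U, ((x : Matrix.GeneralLinearGroup (Fin n) F) : Matrix (Fin n) (Fin n) F).mulVec u = u) := by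
  classical
  set M : Matrix (Fin n) (Fin n) F := ((x : Matrix.GeneralLinearGroup (Fin n) F) : Matrix (Fin n) (Fin n) F) with hM
  have hQx : ∀ v, Q (M.mulVec v) = Q v := fun v => x.2 v 0
  have hPx : ∀ u v, QuadraticMap.polar ⇑Q (M.mulVec u) (M.mulVec v) = QuadraticMap.polar ⇑Q u v := fun u v => by
    simp only [QuadraticMap.polar, ← Matrix.mulVec_add, hQx]
  have hinj : Function.Injective M.mulVec :=
    Matrix.mulVec_injective_iff_isUnit.mpr (x : Matrix.GeneralLinearGroup (Fin n) F).isUnit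
  have hsurj : ∀ u ∈ U, ∃ u' ∈ U, M.mulVec u' = u := by
    let f : U →ₗ[F] U := (M.mulVecLin).restrict hUx
    have hf : Function.Injective f := fun a b h => Subtype.ext (hinj (congrArg Subtype.val h))
    intro u hu
    obtain ⟨u', hu'⟩ := LinearMap.surjective_of_injective hf ⟨u, hu⟩
    exact ⟨u', u'.2, congrArg Subtype.val hu'⟩
  rcases hirr (U ⊓ LinearMap.BilinForm.orthogonal (QuadraticMap.polarBilin Q) U) inf_le_left (fun w hw => by
    refine Submodule.mem_inf.mpr ⟨hUx w (Submodule.mem_inf.mp hw).1,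
      LinearMap.BilinForm.mem_orthogonal_iff.mpr fun u hu => ?_⟩
    obtain ⟨u', hu', rfl⟩ := hsurj u hu
    exact (hPx u' w).trans (LinearMap.BilinForm.mem_orthogonal_iff.mp (Submodule.mem_inf.mp hw).2 u' hu'))
    with h | h
  · exact Or.inl h
  · right
    have hP0 : ∀ u ∈ U, ∀ v ∈ U, QuadraticMap.polar ⇑Q u v = 0 := fun u hu v hv =>
      LinearMap.BilinForm.mem_orthogonal_iff.mp (Submodule.mem_inf.mp (h.symm ▸ hv)).2 u hu
    by_cases h2 : (2 : F) = 0
    swap
    · left
      intro u hu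
      have h := hP0 u hu u hu
      rw [QuadraticMap.polar_self, two_nsmul, ← two_mul] at h
      exact (mul_eq_zero.mp h).resolve_left h2
    have hc2 : CharP F 2 := CharTwo.of_one_ne_zero_of_two_eq_zero one_ne_zero h2
    have hp2 : p = 2 := CharP.eq F ‹CharP F p› hc2
    subst hp2
    have hadd : ∀ u ∈ U, ∀ v ∈ U, Q (u + v) = Q u + Q v := fun u hu v hv => by
      rw [QuadraticMap.map_add (⇑Q), hP0 u hu v hv, add_zero]
    let K : Submodule F (Fin n → F) :=
      { carrier := {u | u ∈ U ∧ Q u = 0}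
        zero_mem' := ⟨U.zero_mem, map_zero Q⟩
        add_mem' := fun {a b} ha hb => ⟨U.add_mem ha.1 hb.1, by rw [hadd a ha.1 b hb.1, ha.2, hb.2, add_zero]⟩
        smul_mem' := fun c a ha => ⟨U.smul_mem c ha.1, by rw [QuadraticMap.map_smul, ha.2, smul_zero]⟩ }
    rcases hirr K (fun u hu => hu.1) (fun w hw => ⟨hUx w hw.1, (hQx w).trans hw.2⟩) with hK | hK
    swap
    · exact Or.inl fun u hu => (show u ∈ K by rw [hK]; exact hu).2
    right
    have hker : ∀ u ∈ U, Q u = 0 → u = 0 := fun u hu h0 => (Submodule.mem_bot F).mp (hK ▸ (⟨hu, h0⟩ : u ∈ K))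
    have heq : ∀ u ∈ U, ∀ v ∈ U, Q u = Q v → u = v := fun u hu v hv he => by
      have h := hker (u + v) (U.add_mem hu hv) (by rw [hadd u hu v hv, he, CharTwo.add_self_eq_zero])
      rw [add_eq_zero_iff_eq_neg] at h
      rw [h]
      funext i
      simp [CharTwo.neg_eq]
    obtain ⟨u₀, hu₀, hu₀0⟩ := Submodule.exists_mem_ne_zero_of_ne_bot hU0
    have hQ0 : Q u₀ ≠ 0 := fun h => hu₀0 (hker u₀ hu₀ h)
    refine ⟨rfl, ?_, ⟨u₀, hu₀, hQ0⟩, fun u hu => heq _ (hUx u hu) u hu (hQx u)⟩
    have hUe : U = Submodule.span F {u₀} := by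
      refine le_antisymm (fun v hv => Submodule.mem_span_singleton.mpr ?_) ((Submodule.span_singleton_le_iff_mem u₀ U).mpr hu₀)
      obtain ⟨r, hr⟩ := FiniteField.isSquare_of_char_two (ringChar.eq F 2) (Q v / Q u₀)
      exact ⟨r, heq _ (U.smul_mem r hu₀) v hv (by
        rw [QuadraticMap.map_smul, smul_eq_mul, ← hr, div_mul_cancel₀ _ hQ0])⟩
    rw [hUe, finrank_span_singleton hu₀0]

end Cfsg.Agent.S2599
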