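import Cfsg.Statements.S2601
import Cfsg.Agent.Lib.Linear.AutPSL.Out
-- import your own Cfsg.Agent.* helpers here

set_option autoImplicit false
open Cfsg

namespace Cfsg.Agent.S2601

open Cfsg.Lib.Linear.AutPSL

/-- Structure of the outer automorphism group of PSL_n(q), n ≥ 3, q = p^f: it has a normal cyclic subgroup of order gcd(n, q − 1) (the diagonal automorphisms) whose quotient is the direct product of a cyclic group of order f (field automorphisms) and a group of order 2 (the inverse-transpose graph automorphism). -/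
theorem result {F : Type*} [Field F] [Fintype F] {p f n : ℕ} [Fact p.Prime] (hf : 1 ≤ f) (hF : Fintype.card F = p ^ f) (hn : 3 ≤ n) : ∃ φ : Cfsg.Out (Matrix.ProjectiveSpecialLinearGroup (Fin n) F) →* Multiplicative (ZMod f × ZMod 2), Function.Surjective φ ∧ IsCyclic φ.ker ∧ Nat.card φ.ker = Nat.gcd n (p ^ f - 1) := by
  classical
  haveI := charP_of_card hf hF
  obtain ⟨E⟩ := exists_galEquiv hf hF
  let enc : (F ≃+* F) → ZMod 2 → Multiplicative (ZMod f × ZMod 2) := fun σ e =>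
    Multiplicative.ofAdd ((E σ).toAdd, e)
  let R : MulAut (Matrix.ProjectiveSpecialLinearGroup (Fin n) F) → Multiplicative (ZMod f × ZMod 2) → Prop :=
    fun β z => ∃ (g : GL (Fin n) F) (σ : F ≃+* F),
      (β = innd g * fld σ ∧ z = enc σ 0) ∨ (β = innd g * fld σ * gr ∧ z = enc σ 1)
  have huniq : ∀ β z z', R β z → R β z' → z = z' := by
    rintro β z z' ⟨g, σ, ⟨h, rfl⟩ | ⟨h, rfl⟩⟩ ⟨g', σ', ⟨h', rfl⟩ | ⟨h', rfl⟩⟩
    · rw [fld_eq_of_eq (by omega) (h.symm.trans h')]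
    · exact absurd (h.symm.trans h') (ne_mul_gr hn _ _ _ _)
    · exact absurd (h'.symm.trans h) (ne_mul_gr hn _ _ _ _)
    · rw [fld_eq_of_eq (by omega) (mul_right_cancel (h.symm.trans h'))]
  have hex : ∀ β, ∃ z, R β z := fun β => by
    obtain ⟨g, σ, h | h⟩ := exists_decomp (p := p) (by omega : 2 ≤ n) β
    · exact ⟨_, g, σ, Or.inl ⟨h, rfl⟩⟩
    · exact ⟨_, g, σ, Or.inr ⟨h, rfl⟩⟩
  choose ψ₀ hψ₀ using hex
  have henc : ∀ σ σ' e e', enc σ e * enc σ' e' = enc (σ * σ') (e + e') := fun σ σ' e e' => by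
    simp only [enc, map_mul, ← ofAdd_add, toAdd_mul, Prod.mk_add_mk]
  have hswap : ∀ (σ : F ≃+* F) (g' : GL (Fin n) F) (τ : F ≃+* F),
      fld σ * (innd g' * fld τ) = (innd (Matrix.GeneralLinearGroup.map σ.toRingHom g') * fld (σ * τ) :
        MulAut (Matrix.ProjectiveSpecialLinearGroup (Fin n) F)) := fun σ g' τ => by
    rw [← mul_assoc, fld_mul_innd, mul_assoc, ← map_mul]
  have hgr : ∀ (g' : GL (Fin n) F) (τ : F ≃+* F),
      gr * (innd g' * fld τ) = (innd (dual g') * fld τ * gr :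
        MulAut (Matrix.ProjectiveSpecialLinearGroup (Fin n) F)) := fun g' τ => by
    rw [← mul_assoc, gr_mul_innd, mul_assoc, gr_mul_fld, ← mul_assoc]
  have hmul : ∀ β β', ψ₀ (β * β') = ψ₀ β * ψ₀ β' := by
    intro β β'
    refine huniq _ _ _ (hψ₀ _) ?_
    obtain ⟨g, σ, ⟨h, hz⟩ | ⟨h, hz⟩⟩ := hψ₀ β <;> obtain ⟨g', σ', ⟨h', hz'⟩ | ⟨h', hz'⟩⟩ := hψ₀ β'
    · refine ⟨g * Matrix.GeneralLinearGroup.map σ.toRingHom g', σ * σ', Or.inl ⟨?_, by rw [hz, hz', henc]; rfl⟩⟩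
      rw [h, h', map_mul innd, mul_assoc, hswap, ← mul_assoc]
    · refine ⟨g * Matrix.GeneralLinearGroup.map σ.toRingHom g', σ * σ', Or.inr ⟨?_, by rw [hz, hz', henc]; rfl⟩⟩
      rw [h, h', map_mul innd, ← mul_assoc, mul_assoc (innd g), hswap, ← mul_assoc]
    · refine ⟨g * Matrix.GeneralLinearGroup.map σ.toRingHom (dual g'), σ * σ',
        Or.inr ⟨?_, by rw [hz, hz', henc]; rfl⟩⟩
      rw [h, h', map_mul innd, mul_assoc (innd g * fld σ), hgr, ← mul_assoc, mul_assoc (innd g), hswap, ← mul_assoc]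
    · refine ⟨g * Matrix.GeneralLinearGroup.map σ.toRingHom (dual g'), σ * σ', Or.inl ⟨?_, by
        rw [hz, hz', henc, show (1 : ZMod 2) + 1 = 0 by decide]⟩⟩
      rw [h, h', map_mul innd, mul_assoc (innd g * fld σ), ← mul_assoc gr, hgr, mul_assoc _ gr gr, gr_mul_gr, mul_one,
        mul_assoc (innd g), hswap, ← mul_assoc]
  let ψ := MonoidHom.mk' ψ₀ hmul
  have hz0 : enc 1 0 = 1 := by simp only [enc, map_one, toAdd_one]; rfl
  have hinn : Cfsg.Inn _ ≤ ψ.ker := by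
    rintro _ ⟨x, rfl⟩
    obtain ⟨s, rfl⟩ := QuotientGroup.mk_surjective x
    rw [MonoidHom.mem_ker]
    exact (huniq _ _ _ (hψ₀ _) ⟨Matrix.SpecialLinearGroup.toGL s, 1, Or.inl ⟨by rw [conj_mk, map_one, mul_one], rfl⟩⟩).trans hz0
  refine ⟨QuotientGroup.lift _ ψ hinn, ?_, ?_⟩
  · intro z
    obtain ⟨⟨a, e⟩, rfl⟩ := Multiplicative.ofAdd.surjective z
    obtain ⟨σ, hσ⟩ := E.surjective (Multiplicative.ofAdd a)
    have hze : Multiplicative.ofAdd (a, e) = enc σ e := by simp only [enc, hσ, toAdd_ofAdd]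
    rcases (by decide : ∀ e : ZMod 2, e = 0 ∨ e = 1) e with rfl | rfl
    · exact ⟨QuotientGroup.mk (fld σ), huniq _ _ _ (hψ₀ _) ⟨1, σ, Or.inl ⟨by rw [map_one, one_mul], hze⟩⟩⟩
    · exact ⟨QuotientGroup.mk (fld σ * gr), huniq _ _ _ (hψ₀ _) ⟨1, σ, Or.inr ⟨by rw [map_one, one_mul], hze⟩⟩⟩
  have hker : (QuotientGroup.lift _ ψ hinn).ker =
      (outInnd : GL (Fin n) F →* Cfsg.Out (Matrix.ProjectiveSpecialLinearGroup (Fin n) F)).range := by
    ext x
    obtain ⟨β, rfl⟩ := QuotientGroup.mk_surjective x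
    rw [MonoidHom.mem_ker, QuotientGroup.lift_mk]
    constructor
    · intro h
      obtain ⟨g, σ, ⟨hβ, hz⟩ | ⟨hβ, hz⟩⟩ := hψ₀ β
      · have h1 := congrArg Multiplicative.toAdd (hz.symm.trans h)
        simp only [enc, toAdd_ofAdd, toAdd_one, Prod.ext_iff, Prod.fst_zero] at h1
        have : σ = 1 := E.injective (by rw [map_one]; exact Multiplicative.toAdd.injective h1.1)
        exact ⟨g, by rw [hβ, this, map_one, mul_one]; rfl⟩
      · have h1 := congrArg Multiplicative.toAdd (hz.symm.trans h)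
        simp only [enc, toAdd_ofAdd, toAdd_one, Prod.ext_iff, Prod.snd_zero] at h1
        exact absurd h1.2 (by decide)
    · rintro ⟨g, hg⟩
      rw [← QuotientGroup.lift_mk (Cfsg.Inn _) hinn β, ← hg]
      exact (huniq _ _ _ (hψ₀ _) ⟨g, 1, Or.inl ⟨by rw [map_one, mul_one], rfl⟩⟩).trans hz0
  rw [hker, ← hF]
  exact outInnd_range_card (by omega)

end Cfsg.Agent.S2601
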