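import Cfsg.Statements.S2610
import Cfsg.Agent.Lib.Linear.OrthSpinorApp
import Cfsg.Agent.Lib.Linear.OrthForms
import Cfsg.Agent.Lib.Linear.FormsNormal

set_option linter.style.haveILetI false

set_option autoImplicit false
open Cfsg

namespace Cfsg.Agent.S2610

open Cfsg.Lib.Linear.Orth Module
open scoped Matrix

/-- For a quadratic form Q on F^n with non-degenerate polar form, F finite of odd order and n ≥ 2 even, the isometry −1 lies in Ω (the commutator subgroup of the orthogonal group) if and only if the discriminant of Q (the determinant of the Gram matrix of its polar form) is a square. -/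
theorem result {F : Type*} [Field F] [Fintype F] (h2 : (2 : F) ≠ 0) {n : ℕ} (hn : 2 ≤ n) (he : Even n) (Q : QuadraticForm F (Fin n → F)) (hQ : (QuadraticMap.polarBilin Q).Nondegenerate) : (∃ g : ↥(Cfsg.isometryGroup F ⇑Q), g ∈ Cfsg.Omega F ⇑Q ∧ ((g : Matrix.GeneralLinearGroup (Fin n) F) : Matrix (Fin n) (Fin n) F) = -1) ↔ IsSquare (Matrix.of (fun i j : Fin n => QuadraticMap.polar ⇑Q (Pi.single i 1) (Pi.single j 1))).det := by
  classical
  have C := space_of_quadraticForm Q hQ
  set B : LinearMap.BilinForm F (Fin n → F) := QuadraticMap.polarBilin Q with hB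
  have hchar : ringChar F ≠ 2 := fun hc => h2 (by
    haveI := ringChar.charP F
    have := CharP.cast_eq_zero F (ringChar F)
    rw [hc] at this
    exact_mod_cast this)
  obtain ⟨α, hα⟩ := FiniteField.exists_nonsquare hchar
  obtain ⟨b, horth, hb1, hblast⟩ := Cfsg.Lib.Linear.Forms.exists_normal_basis h2 B C.symm
    (fun x hx => C.nondeg' hx) (n := n - 1) (by rw [Module.finrank_fin_fun]; omega) α hα
  have hbne : ∀ i, Q (b i) ≠ 0 := fun i h => by
    have e := C.self (b i)
    rw [h, mul_zero] at e
    by_cases hi : i = Fin.last (n - 1)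
    · rw [hi] at e
      rcases hblast with h1 | h1 <;> rw [h1] at e
      · exact one_ne_zero e
      · exact hα (e ▸ ⟨0, (mul_zero 0).symm⟩)
    · rw [hb1 i hi] at e; exact one_ne_zero e
  have hcard : Fintype.card (Fin (n - 1 + 1)) = Fintype.card (Fin n) := by
    simp only [Fintype.card_fin]; omega
  have hiff := neg_one_mem_omega_iff C h2 (by simpa using he) (by simpa using hn) (⇑b) hcard hbne horth
  refine hiff.trans ?_
  have hne : ∀ s : Finset (Fin (n - 1 + 1)), ∏ i ∈ s, Q (b i) ≠ 0 := fun s =>
    Finset.prod_ne_zero_iff.mpr fun i _ => hbne i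
  have hsign : ∀ s : Finset (Fin (n - 1 + 1)),
      (∏ i ∈ s, if IsSquare (Q (b i)) then (-1 : ℤˣ) else 1) = (-1) ^ s.card * sqSign (∏ i ∈ s, Q (b i)) := by
    intro s
    induction s using Finset.induction with
    | empty => simp [sqSign_eq_one.mpr (IsSquare.one (α := F))]
    | insert a s ha ih =>
      rw [Finset.prod_insert ha, Finset.prod_insert ha, ih, Finset.card_insert_of_notMem ha, pow_succ',
        sqSign_mul h2 (hbne a) (hne s)]
      unfold sqSign
      split_ifs <;> simp
  rw [hsign, Finset.card_univ, hcard, Fintype.card_fin, he.neg_one_pow, one_mul, sqSign_eq_one]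
  -- the Gram determinant
  set c := Pi.basisFun F (Fin n)
  have hG : Matrix.of (fun i j : Fin n => QuadraticMap.polar ⇑Q (Pi.single i 1) (Pi.single j 1)) = LinearMap.BilinForm.toMatrix c B := by
    ext i j
    rw [Matrix.of_apply, LinearMap.BilinForm.toMatrix_apply, Pi.basisFun_apply, Pi.basisFun_apply, ← C.polar]
  let e : Fin (n - 1 + 1) ≃ Fin n := finCongr (by omega)
  set b' := b.reindex e with hb'
  have hdiag : LinearMap.BilinForm.toMatrix b' B = Matrix.diagonal (fun i => 2 * Q (b' i)) := by
    ext i j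
    rw [LinearMap.BilinForm.toMatrix_apply]
    by_cases hij : i = j
    · subst hij; rw [Matrix.diagonal_apply_eq, C.self]
    · rw [Matrix.diagonal_apply_ne _ hij, hb', Basis.reindex_apply, Basis.reindex_apply]
      exact horth _ _ fun h => hij (e.symm.injective h)
  have hdet : (Matrix.of (fun i j : Fin n => QuadraticMap.polar ⇑Q (Pi.single i 1) (Pi.single j 1))).det =
      ((b'.toMatrix c).det * (2 : F) ^ (n / 2)) ^ 2 * ∏ i, Q (b i) := by
    rw [hG, ← LinearMap.BilinForm.toMatrix_mul_basis_toMatrix b' c B, hdiag, Matrix.det_mul, Matrix.det_mul,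
      Matrix.det_transpose, Matrix.det_diagonal, Finset.prod_mul_distrib, Finset.prod_const, Finset.card_univ,
      Fintype.card_fin]
    have hn2 : n = 2 * (n / 2) := by obtain ⟨k, hk⟩ := he; omega
    have hprod : ∏ i, Q (b' i) = ∏ i, Q (b i) := by
      rw [hb']
      simp only [Basis.reindex_apply]
      exact Equiv.prod_comp e.symm (fun i => Q (b i))
    rw [hprod]
    have hp : (2 : F) ^ n = ((2 : F) ^ (n / 2)) ^ 2 := by rw [← pow_mul, mul_comm, ← hn2]
    rw [hp]
    ring
  have hD : (b'.toMatrix c).det * (2 : F) ^ (n / 2) ≠ 0 := by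
    refine mul_ne_zero ?_ (pow_ne_zero _ h2)
    intro h0
    have h1 := congrArg Matrix.det (Basis.toMatrix_mul_toMatrix_flip b' c)
    rw [Matrix.det_mul, h0, zero_mul, Matrix.det_one] at h1
    exact zero_ne_one h1
  rw [hdet]
  set D := (b'.toMatrix c).det * (2 : F) ^ (n / 2) with hDdef
  constructor
  · intro h
    exact ((even_two).isSquare_pow D).mul h
  · rintro ⟨r, hr⟩
    refine ⟨r / D, ?_⟩
    rw [div_mul_div_comm, ← hr]
    field_simp

end Cfsg.Agent.S2610
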