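import Cfsg.Statements.S2613
import Cfsg.Agent.Lib.Linear.OrthSpinorApp
import Cfsg.Agent.Lib.Linear.OrthForms
import Cfsg.Agent.Lib.Linear.FormsNormal

set_option linter.style.haveILetI false

set_option autoImplicit false
open Cfsg

namespace Cfsg.Agent.S2613

open Cfsg.Lib.Linear.Orth
open scoped Matrix

/-- For the hyperbolic form Σ x_j y_j on F^(2m), F finite with q elements, q odd, and 1 ≤ i ≤ m: the involution negating the first i hyperbolic pairs (x_j, y_j ↦ −x_j, −y_j for j < i) and fixing the rest lies in Ω⁺_2m(q) (commutator subgroup of the orthogonal group) if and only if q^i ≡ 1 (mod 4); its (−1)-eigenspace is a hyperbolic 2i-space. -/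
theorem result {F : Type*} [Field F] [Fintype F] {q : ℕ} (hF : Fintype.card F = q) (hq : Odd q) {m : ℕ} (i : ℕ) (hi : 1 ≤ i) (him : i ≤ m) : (∃ g : ↥(Cfsg.isometryGroup F (Cfsg.quadFormPlus m F)), g ∈ Cfsg.Omega F (Cfsg.quadFormPlus m F) ∧ ((g : Matrix.GeneralLinearGroup (Fin m ⊕ Fin m) F) : Matrix (Fin m ⊕ Fin m) (Fin m ⊕ Fin m) F) = Matrix.diagonal (fun k : Fin m ⊕ Fin m => if (Sum.elim (fun j : Fin m => (j : ℕ)) (fun j : Fin m => (j : ℕ)) k) < i then (-1 : F) else 1)) ↔ q ^ i % 4 = 1 := by
  classical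
  subst hF
  have h2 : (2 : F) ≠ 0 := two_ne_of_odd hq
  obtain ⟨B, C⟩ := exists_space_plus (F := F) m
  let b : Fin m ⊕ Fin m → Fin m ⊕ Fin m → F :=
    Sum.elim (fun i => Pi.single (Sum.inl i) 1 + Pi.single (Sum.inr i) 1)
      (fun i => Pi.single (Sum.inl i) 1 - Pi.single (Sum.inr i) 1)
  have hQ1 : ∀ i, Cfsg.quadFormPlus m F (b (.inl i)) = 1 := fun i => by
    simp [b, Cfsg.quadFormPlus, Pi.single_apply]
  have hQ2 : ∀ i, Cfsg.quadFormPlus m F (b (.inr i)) = -1 := fun i => by
    simp [b, Cfsg.quadFormPlus, Pi.single_apply]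
  have horth : ∀ i j, i ≠ j → B (b i) (b j) = 0 := fun i j hij => by
    rw [← C.polar, polar_plus_apply]
    rcases i with i | i <;> rcases j with j | j <;> rcases eq_or_ne i j with rfl | hne <;>
      first
        | exact absurd rfl hij
        | (simp [b, Pi.single_apply, Finset.sum_add_distrib]; done)
        | (simp [b, Pi.single_apply, Finset.sum_add_distrib, hne, Ne.symm hne]; done)
  set sj : Finset (Fin m) := Finset.univ.filter (fun j : Fin m => (j : ℕ) < i) with hsj
  have hcard : sj.card = i := by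
    rw [hsj, show (Finset.univ.filter fun j : Fin m => (j : ℕ) < i) = (Finset.univ : Finset (Fin i)).map (Fin.castLEEmb him) by
      ext j; simp only [Finset.mem_filter, Finset.mem_univ, true_and, Finset.mem_map]
      exact ⟨fun h => ⟨⟨j, h⟩, rfl⟩, fun ⟨k, hk⟩ => hk ▸ k.2⟩]
    simp
  refine (sign_change_mem_omega_iff C h2 (by simp; omega) b rfl
    (fun k => by rcases k with k | k <;> simp [hQ1, hQ2]) horth (sj.disjSum sj) _ fun k => ?_).trans ?_
  · ext x
    rw [Matrix.mulVec_diagonal]
    rcases k with k | k <;> rcases x with x | x <;> by_cases hxk : x = k <;>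
      by_cases hki : (k : ℕ) < i <;> simp [b, hsj, hxk, hki, Pi.single_apply]
  · rw [Finset.card_disjSum, hcard, Finset.prod_disjSum]
    simp only [hQ1, hQ2, Finset.prod_const, hcard, one_pow, one_mul]
    rw [isSquare_neg_one_pow_iff hq]
    exact and_iff_right (Even.add_self i)

end Cfsg.Agent.S2613
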