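import Cfsg.Statements.S2614
import Cfsg.Agent.Lib.Linear.OrthSpinorApp
import Cfsg.Agent.Lib.Linear.OrthForms
import Cfsg.Agent.Lib.Linear.FormsNormal

set_option linter.style.haveILetI false

set_option autoImplicit false
open Cfsg

namespace Cfsg.Agent.S2614

open Cfsg.Lib.Linear.Orth
open scoped Matrix

/-- For the form x_0² + Σ x_j y_j on F^(2m+1), F finite with q elements, q odd, and 1 ≤ i ≤ m: the involution of determinant one negating the first i hyperbolic pairs (and fixing x_0 and the other pairs) lies in Ω_(2m+1)(q) (commutator subgroup of the orthogonal group) if and only if q^i ≡ 1 (mod 4); its (−1)-eigenspace is a hyperbolic 2i-space. -/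
theorem result {F : Type*} [Field F] [Fintype F] {q : ℕ} (hF : Fintype.card F = q) (hq : Odd q) {m : ℕ} (i : ℕ) (hi : 1 ≤ i) (him : i ≤ m) : (∃ g : ↥(Cfsg.isometryGroup F (Cfsg.quadFormOdd m F)), g ∈ Cfsg.Omega F (Cfsg.quadFormOdd m F) ∧ ((g : Matrix.GeneralLinearGroup (Unit ⊕ (Fin m ⊕ Fin m)) F) : Matrix (Unit ⊕ (Fin m ⊕ Fin m)) (Unit ⊕ (Fin m ⊕ Fin m)) F) = Matrix.diagonal (fun k : Unit ⊕ (Fin m ⊕ Fin m) => if (Sum.elim (fun _ : Unit => i) (Sum.elim (fun j : Fin m => (j : ℕ)) (fun j : Fin m => (j : ℕ))) k) < i then (-1 : F) else 1)) ↔ q ^ i % 4 = 1 := by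
  classical
  subst hF
  have h2 : (2 : F) ≠ 0 := two_ne_of_odd hq
  have hpolar : ∀ u v : Unit ⊕ (Fin m ⊕ Fin m) → F, QuadraticMap.polar (Cfsg.quadFormOdd m F) u v =
      2 * u (.inl ()) * v (.inl ()) + ∑ j : Fin m, (u (.inr (.inl j)) * v (.inr (.inr j)) + u (.inr (.inr j)) * v (.inr (.inl j))) := by
    intro u v
    simp only [QuadraticMap.polar, Cfsg.quadFormOdd, Pi.add_apply]
    have : ∀ j : Fin m, (u (.inr (.inl j)) + v (.inr (.inl j))) * (u (.inr (.inr j)) + v (.inr (.inr j))) =
        u (.inr (.inl j)) * u (.inr (.inr j)) + v (.inr (.inl j)) * v (.inr (.inr j)) +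
          (u (.inr (.inl j)) * v (.inr (.inr j)) + u (.inr (.inr j)) * v (.inr (.inl j))) := fun j => by ring
    simp only [this, Finset.sum_add_distrib]
    ring
  obtain ⟨B, C⟩ : ∃ B : LinearMap.BilinForm F (Unit ⊕ (Fin m ⊕ Fin m) → F), Space (Cfsg.quadFormOdd m F) B := by
    refine ⟨LinearMap.mk₂ F (fun u v => 2 * u (.inl ()) * v (.inl ()) +
      ∑ j : Fin m, (u (.inr (.inl j)) * v (.inr (.inr j)) + u (.inr (.inr j)) * v (.inr (.inl j))))
      (fun p r c => by simp only [Pi.add_apply, add_mul, mul_add, Finset.sum_add_distrib]; ring)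
      (fun r p c => by
        simp only [Pi.smul_apply, smul_eq_mul, mul_add, Finset.mul_sum]
        congr 1
        · ring
        · exact Finset.sum_congr rfl fun j _ => by ring)
      (fun p r c => by simp only [Pi.add_apply, add_mul, mul_add, Finset.sum_add_distrib]; ring)
      (fun r p c => by
        simp only [Pi.smul_apply, smul_eq_mul, mul_add, Finset.mul_sum]
        congr 1
        · ring
        · exact Finset.sum_congr rfl fun j _ => by ring), fun c v => ?_, fun u v => hpolar u v, fun v hv => funext fun j => ?_⟩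
    · simp only [Cfsg.quadFormOdd, Pi.smul_apply, smul_eq_mul, Finset.mul_sum, mul_add]
      congr 1
      · ring
      · exact Finset.sum_congr rfl fun j _ => by ring
    rcases j with u | j | j
    · have := hv (Pi.single (.inl ()) 1)
      simpa [Pi.single_apply, h2] using this
    · simpa [Pi.single_apply] using hv (Pi.single (.inr (.inr j)) 1)
    · simpa [Pi.single_apply] using hv (Pi.single (.inr (.inl j)) 1)
  let b : Unit ⊕ (Fin m ⊕ Fin m) → Unit ⊕ (Fin m ⊕ Fin m) → F :=
    Sum.elim (fun _ => Pi.single (Sum.inl ()) 1) (Sum.elim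
      (fun i => Pi.single (Sum.inr (Sum.inl i)) 1 + Pi.single (Sum.inr (Sum.inr i)) 1)
      (fun i => Pi.single (Sum.inr (Sum.inl i)) 1 - Pi.single (Sum.inr (Sum.inr i)) 1))
  have hQ0 : Cfsg.quadFormOdd m F (b (.inl ())) = 1 := by simp [b, Cfsg.quadFormOdd, Pi.single_apply]
  have hQ1 : ∀ i, Cfsg.quadFormOdd m F (b (.inr (.inl i))) = 1 := fun i => by
    simp [b, Cfsg.quadFormOdd, Pi.single_apply]
  have hQ2 : ∀ i, Cfsg.quadFormOdd m F (b (.inr (.inr i))) = -1 := fun i => by
    simp [b, Cfsg.quadFormOdd, Pi.single_apply]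
  have horth : ∀ i j, i ≠ j → B (b i) (b j) = 0 := fun i j hij => by
    rw [← C.polar, hpolar]
    rcases i with u | i | i <;> rcases j with u' | j | j
    all_goals
      first
        | exact absurd rfl hij
        | (simp [b, Pi.single_apply]; done)
        | (rcases eq_or_ne i j with rfl | hne
           · first
              | exact absurd rfl hij
              | simp [b, Pi.single_apply, Finset.sum_add_distrib]
           · simp [b, Pi.single_apply, Finset.sum_add_distrib, hne, Ne.symm hne])
  set sj : Finset (Fin m) := Finset.univ.filter (fun j : Fin m => (j : ℕ) < i) with hsj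
  have hcard : sj.card = i := by
    rw [hsj, show (Finset.univ.filter fun j : Fin m => (j : ℕ) < i) = (Finset.univ : Finset (Fin i)).map (Fin.castLEEmb him) by
      ext j; simp only [Finset.mem_filter, Finset.mem_univ, true_and, Finset.mem_map]
      exact ⟨fun h => ⟨⟨j, h⟩, rfl⟩, fun ⟨k, hk⟩ => hk ▸ k.2⟩]
    simp
  refine (sign_change_mem_omega_iff C h2 (by simp; omega) b rfl
    (fun k => by rcases k with u | k | k <;> simp [hQ0, hQ1, hQ2]) horth ((∅ : Finset Unit).disjSum (sj.disjSum sj)) _ fun k => ?_).trans ?_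
  · ext x
    rw [Matrix.mulVec_diagonal]
    rcases k with u | k | k
    · rcases x with u' | x | x <;> simp [b, hsj, Pi.single_apply]
    all_goals
      rcases x with u' | x | x
      · simp [b, hsj, Pi.single_apply]; by_cases hki : (k : ℕ) < i <;> simp [hki]
      all_goals by_cases hxk : x = k <;>
        by_cases hki : (k : ℕ) < i <;> simp [b, hsj, hxk, hki, Pi.single_apply]
  · rw [Finset.card_disjSum, Finset.card_disjSum, hcard, Finset.card_empty, zero_add, Finset.prod_disjSum,
      Finset.prod_disjSum, Finset.prod_empty, one_mul]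
    simp only [hQ1, hQ2, Finset.prod_const, hcard, one_pow, one_mul]
    rw [isSquare_neg_one_pow_iff hq]
    exact and_iff_right (Even.add_self i)

end Cfsg.Agent.S2614
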