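import Cfsg.Statements.S2615
import Cfsg.Agent.Lib.Linear.OrthSpinorApp
import Cfsg.Agent.Lib.Linear.OrthForms
import Cfsg.Agent.Lib.Linear.FormsNormal

set_option linter.style.haveILetI false

set_option autoImplicit false
open Cfsg

namespace Cfsg.Agent.S2615

open Cfsg.Lib.Linear.Orth
open scoped Matrix

/-- For an elliptic form Σ_(j<m−1) x_j y_j + (z₁² + a z₁z₂ + b z₂²) (anisotropic binary part) on F^(2m), F finite with q elements, q odd, and 1 ≤ i ≤ m − 1: the involution negating the first i hyperbolic pairs and fixing the rest lies in Ω⁻_2m(q) (commutator subgroup of the orthogonal group) if and only if q^i ≡ 1 (mod 4). -/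
theorem result {F : Type*} [Field F] [Fintype F] {q : ℕ} (hF : Fintype.card F = q) (hq : Odd q) {m : ℕ} (a b : F) (hab : ∀ z₁ z₂ : F, z₁ ^ 2 + a * z₁ * z₂ + b * z₂ ^ 2 = 0 → z₁ = 0 ∧ z₂ = 0) (i : ℕ) (hi : 1 ≤ i) (him : i + 1 ≤ m) : (∃ g : ↥(Cfsg.isometryGroup F (Cfsg.quadFormMinus (m - 1) F a b)), g ∈ Cfsg.Omega F (Cfsg.quadFormMinus (m - 1) F a b) ∧ ((g : Matrix.GeneralLinearGroup ((Fin (m - 1) ⊕ Fin (m - 1)) ⊕ Fin 2) F) : Matrix ((Fin (m - 1) ⊕ Fin (m - 1)) ⊕ Fin 2) ((Fin (m - 1) ⊕ Fin (m - 1)) ⊕ Fin 2) F) = Matrix.diagonal (fun k : (Fin (m - 1) ⊕ Fin (m - 1)) ⊕ Fin 2 => if (Sum.elim (Sum.elim (fun j : Fin (m - 1) => (j : ℕ)) (fun j : Fin (m - 1) => (j : ℕ))) (fun _ : Fin 2 => i) k) < i then (-1 : F) else 1)) ↔ q ^ i % 4 = 1 := by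
  classical
  subst hF
  have h2 : (2 : F) ≠ 0 := two_ne_of_odd hq
  obtain ⟨k, rfl⟩ : ∃ k, m = k + 1 := ⟨m - 1, by omega⟩
  show (∃ g : ↥(Cfsg.isometryGroup F (Cfsg.quadFormMinus k F a b)), g ∈ Cfsg.Omega F (Cfsg.quadFormMinus k F a b) ∧ _) ↔ _
  obtain ⟨B, C⟩ := exists_space_minus (F := F) k a b hab
  set δ : F := b - a ^ 2 / 4 with hδ
  have h4 : (4 : F) ≠ 0 := by
    rw [show (4 : F) = 2 * 2 by norm_num]; exact mul_ne_zero h2 h2
  have hδ0 : δ ≠ 0 := fun h => one_ne_zero (hab (-a / 2) 1 (by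
    rw [hδ] at h
    field_simp at h ⊢
    linear_combination h)).2
  let v : (Fin k ⊕ Fin k) ⊕ Fin 2 → (Fin k ⊕ Fin k) ⊕ Fin 2 → F :=
    Sum.elim (Sum.elim
      (fun i => Pi.single (Sum.inl (Sum.inl i)) 1 + Pi.single (Sum.inl (Sum.inr i)) 1)
      (fun i => Pi.single (Sum.inl (Sum.inl i)) 1 - Pi.single (Sum.inl (Sum.inr i)) 1))
      ![Pi.single (Sum.inr 0) 1, Pi.single (Sum.inr 0) (-a / 2) + Pi.single (Sum.inr 1) 1]
  have hQ1 : ∀ i, Cfsg.quadFormMinus k F a b (v (.inl (.inl i))) = 1 := fun i => by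
    simp [v, Cfsg.quadFormMinus, Pi.single_apply]
  have hQ2 : ∀ i, Cfsg.quadFormMinus k F a b (v (.inl (.inr i))) = -1 := fun i => by
    simp [v, Cfsg.quadFormMinus, Pi.single_apply]
  have hQ3 : Cfsg.quadFormMinus k F a b (v (.inr 0)) = 1 := by
    simp [v, Cfsg.quadFormMinus, Pi.single_apply]
  have hQ4 : Cfsg.quadFormMinus k F a b (v (.inr 1)) = δ := by
    simp [v, Cfsg.quadFormMinus, Pi.single_apply, hδ]
    field_simp
    ring
  have horth : ∀ i j, i ≠ j → B (v i) (v j) = 0 := fun i j hij => by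
    rw [← C.polar]
    rcases i with (i | i) | i <;> rcases j with (j | j) | j
    all_goals (try fin_cases i) <;> (try fin_cases j)
    all_goals
      first
        | exact absurd rfl hij
        | (simp [v, QuadraticMap.polar, Cfsg.quadFormMinus, Pi.single_apply]; done)
        | (rcases eq_or_ne i j with rfl | hne
           · first
              | exact absurd rfl hij
              | simp [v, QuadraticMap.polar, Cfsg.quadFormMinus, Pi.single_apply, add_mul, mul_add,
                  sub_mul, mul_sub, Finset.sum_add_distrib]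
           · simp [v, QuadraticMap.polar, Cfsg.quadFormMinus, Pi.single_apply, add_mul, mul_add,
               sub_mul, mul_sub, Finset.sum_add_distrib, hne, Ne.symm hne])
        | (simp [v, QuadraticMap.polar, Cfsg.quadFormMinus, Pi.single_apply]; field_simp; ring)
  set sj : Finset (Fin k) := Finset.univ.filter (fun j : Fin k => (j : ℕ) < i) with hsj
  have hik : i ≤ k := by omega
  have hcard : sj.card = i := by
    rw [hsj, show (Finset.univ.filter fun j : Fin k => (j : ℕ) < i) = (Finset.univ : Finset (Fin i)).map (Fin.castLEEmb hik) by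
      ext j; simp only [Finset.mem_filter, Finset.mem_univ, true_and, Finset.mem_map]
      exact ⟨fun h => ⟨⟨j, h⟩, rfl⟩, fun ⟨l, hl⟩ => hl ▸ l.2⟩]
    simp
  refine (sign_change_mem_omega_iff C h2 (by simp) v rfl
    (fun l => by
      rcases l with (l | l) | l
      · simp [hQ1]
      · simp [hQ2]
      · fin_cases l
        · simp [hQ3]
        · simp [hQ4, hδ0]) horth ((sj.disjSum sj).disjSum (∅ : Finset (Fin 2))) _ fun l => ?_).trans ?_
  · ext x
    rw [Matrix.mulVec_diagonal]
    rcases l with (l | l) | l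
    rotate_right
    · rcases x with (x | x) | x <;> fin_cases l <;> simp [v, hsj, Pi.single_apply] <;> fin_cases x <;> simp
    all_goals
      rcases x with (x | x) | x
      rotate_right
      · simp [v, hsj, Pi.single_apply]; by_cases hki : (l : ℕ) < i <;> simp [hki]
      all_goals by_cases hxk : x = l <;>
        by_cases hki : (l : ℕ) < i <;> simp [v, hsj, hxk, hki, Pi.single_apply]
  · rw [Finset.card_disjSum, Finset.card_disjSum, hcard, Finset.card_empty, add_zero, Finset.prod_disjSum,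
      Finset.prod_disjSum, Finset.prod_empty, mul_one]
    simp only [hQ1, hQ2, Finset.prod_const, hcard, one_pow, one_mul]
    rw [isSquare_neg_one_pow_iff hq]
    exact and_iff_right (Even.add_self i)

end Cfsg.Agent.S2615
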