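import Cfsg.Statements.S2617


set_option autoImplicit false
open Cfsg

namespace Cfsg.Agent.S2617

/-- The two standard quadratic forms of even dimension 2m over a finite field are not isometric: there is no linear isomorphism carrying the elliptic form Σ_(i<m−1) x_i y_i + z₁² + z₁z₂ + ζ z₂² (t² + t + ζ without roots) to the hyperbolic form Σ_(i<m) x_i y_i (they have different Witt index). -/
theorem result {F : Type*} [Field F] [Finite F] {m : ℕ} (hm : 1 ≤ m) (ζ : F) (hζ : ∀ t : F, t ^ 2 + t + ζ ≠ 0) (g : (Fin m ⊕ Fin m → F) ≃ₗ[F] ((Fin (m - 1) ⊕ Fin (m - 1)) ⊕ Fin 2 → F)) : ¬ (∀ v : Fin m ⊕ Fin m → F, Cfsg.quadFormMinus (m - 1) F 1 ζ (g v) = Cfsg.quadFormPlus m F v) := by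
  classical
  intro h
  set L : (Fin m → F) →ₗ[F] ((Fin (m - 1) ⊕ Fin (m - 1)) ⊕ Fin 2 → F) :=
    (g : (Fin m ⊕ Fin m → F) →ₗ[F] _).comp
      ({ toFun := fun t => Sum.elim t 0
         map_add' := fun a b => by funext i; cases i <;> simp
         map_smul' := fun c a => by
           funext i; rcases i with i | i
           · simp
           · exact (mul_zero c).symm } : (Fin m → F) →ₗ[F] (Fin m ⊕ Fin m → F)) with hL
  have hLinj : Function.Injective L := fun a b hab => by
    have := g.injective hab
    funext i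
    exact congrFun this (Sum.inl i)
  have hQ : ∀ t, Cfsg.quadFormMinus (m - 1) F 1 ζ (L t) = 0 := fun t => by
    show Cfsg.quadFormMinus (m - 1) F 1 ζ (g (Sum.elim t 0)) = 0
    rw [h]
    simp [Cfsg.quadFormPlus]
  let πy : ((Fin (m - 1) ⊕ Fin (m - 1)) ⊕ Fin 2 → F) →ₗ[F] (Fin (m - 1) → F) :=
    { toFun := fun v i => v (.inl (.inr i))
      map_add' := fun _ _ => rfl
      map_smul' := fun _ _ => rfl }
  let πx : ((Fin (m - 1) ⊕ Fin (m - 1)) ⊕ Fin 2 → F) →ₗ[F] (Fin (m - 1) → F) :=
    { toFun := fun v i => v (.inl (.inl i))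
      map_add' := fun _ _ => rfl
      map_smul' := fun _ _ => rfl }
  set K := LinearMap.ker (πy.comp L) with hK
  have hKz : ∀ s ∈ K, ∀ j, L s (.inl (.inr j)) = 0 ∧ L s (.inr 0) = 0 ∧ L s (.inr 1) = 0 := by
    intro s hs j
    have hy : ∀ i, L s (.inl (.inr i)) = 0 := fun i => congrFun (LinearMap.mem_ker.1 hs) i
    have h0 := hQ s
    simp only [Cfsg.quadFormMinus, hy, mul_zero, Finset.sum_const_zero, zero_add, one_mul] at h0
    have hz1 : L s (.inr 1) = 0 := by
      by_contra hne
      apply hζ (L s (.inr 0) / L s (.inr 1))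
      field_simp
      linear_combination h0
    rw [hz1] at h0
    simp at h0
    exact ⟨hy j, h0, hz1⟩
  have hρinj : Function.Injective ((πx.comp L).domRestrict K) := by
    refine LinearMap.ker_eq_bot.1 (LinearMap.ker_eq_bot'.2 fun s hs => ?_)
    obtain ⟨s, hsK⟩ := s
    have hy : ∀ i, L s (.inl (.inr i)) = 0 := fun i => congrFun (LinearMap.mem_ker.1 hsK) i
    refine Subtype.ext (hLinj ?_)
    rw [ZeroMemClass.coe_zero, map_zero]
    show L s = 0
    have hz : L s (.inr 0) = 0 ∧ L s (.inr 1) = 0 := by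
      have h0 := hQ s
      simp only [Cfsg.quadFormMinus, hy, mul_zero, Finset.sum_const_zero, zero_add, one_mul] at h0
      have hz1 : L s (.inr 1) = 0 := by
        by_contra hne
        apply hζ (L s (.inr 0) / L s (.inr 1))
        field_simp
        linear_combination h0
      rw [hz1] at h0
      simp at h0
      exact ⟨h0, hz1⟩
    funext i
    rcases i with (i | i) | i
    · exact congrFun hs i
    · exact hy i
    · fin_cases i
      · exact hz.1
      · exact hz.2
  set A := LinearMap.range ((πx.comp L).domRestrict K) with hA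
  set B := LinearMap.range (πy.comp L) with hB
  have hAK : Module.finrank F A = Module.finrank F K := LinearMap.finrank_range_of_inj hρinj
  have hsum : Module.finrank F B + Module.finrank F K = m := by
    rw [hB, hK, LinearMap.finrank_range_add_finrank_ker, Module.finrank_fin_fun]
  have hle : B.map (dotProductEquiv F (Fin (m - 1)) : (Fin (m - 1) → F) →ₗ[F] Module.Dual F (Fin (m - 1) → F)) ≤ A.dualAnnihilator := by
    rintro _ ⟨_, ⟨t, rfl⟩, rfl⟩
    rw [Submodule.mem_dualAnnihilator]
    rintro _ ⟨⟨s, hs⟩, rfl⟩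
    show dotProduct (πy (L t)) (πx (L s)) = 0
    have hst := hQ (s + t)
    have ht := hQ t
    have hy : ∀ i, L s (.inl (.inr i)) = 0 := fun i => congrFun (LinearMap.mem_ker.1 hs) i
    rcases Nat.eq_zero_or_pos (m - 1) with h0 | h0
    · exact Finset.sum_eq_zero fun i _ => absurd i.2 (by omega)
    obtain ⟨-, hz0, hz1⟩ := hKz s hs ⟨0, h0⟩
    rw [map_add] at hst
    simp only [Cfsg.quadFormMinus, Pi.add_apply, hy, hz0, hz1, zero_add, add_mul, Finset.sum_add_distrib] at hst ht
    show ∑ i, L t (.inl (.inr i)) * L s (.inl (.inl i)) = 0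
    simp only [mul_comm (L t (.inl (.inr _)))]
    linear_combination hst - ht
  have h1 := Submodule.finrank_mono hle
  rw [← LinearEquiv.finrank_eq (Submodule.equivMapOfInjective _ (dotProductEquiv F (Fin (m - 1))).injective B)] at h1
  have h2 := Subspace.finrank_add_finrank_dualAnnihilator_eq A
  rw [Module.finrank_fin_fun] at h2
  omega

end Cfsg.Agent.S2617
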