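import Cfsg.Statements.S2619


set_option autoImplicit false
open Cfsg

namespace Cfsg.Agent.S2619

/-- Over a finite field of characteristic two, given an alternating bilinear form B on a finite-dimensional space, a basis (v_i) and scalars (λ_i), there is exactly one quadratic form whose polar form is B and whose value at each v_i is λ_i. -/
theorem result {F V ι : Type*} [Field F] [Finite F] [CharP F 2] [AddCommGroup V] [Module F V] [Fintype ι] (b : Module.Basis ι F V) (B : LinearMap.BilinForm F V) (hB : B.IsAlt) (c : ι → F) : ∃! Q : QuadraticForm F V, QuadraticMap.polarBilin Q = B ∧ ∀ i, Q (b i) = c i := by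
  classical
  letI : LinearOrder ι := LinearOrder.lift' (Fintype.equivFin ι) (Fintype.equivFin ι).injective
  let f : ι → ι → F := fun i j => if i < j then B (b i) (b j) else if i = j then c i else 0
  let C : LinearMap.BilinForm F V := b.constr F fun i => b.constr F fun j => f i j
  have hC : ∀ i j, C (b i) (b j) = f i j := fun i j => by simp [C]
  have h2 : (2 : F) = 0 := CharTwo.two_eq_zero
  have hB0 : ∀ i, B (b i) (b i) = 0 := fun i => hB (b i)
  have hBs : ∀ i j, B (b i) (b j) = B (b j) (b i) := fun i j => by
    rw [← LinearMap.IsAlt.neg hB, CharTwo.neg_eq]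
  refine ⟨LinearMap.BilinMap.toQuadraticMap C, ⟨?_, fun i => ?_⟩, ?_⟩
  · refine LinearMap.ext_basis b b fun i j => ?_
    rw [LinearMap.BilinMap.polarBilin_toQuadraticMap, LinearMap.add_apply, LinearMap.add_apply,
      LinearMap.flip_apply, hC, hC]
    rcases lt_trichotomy i j with h | rfl | h
    · simp [f, h, h.not_gt, h.ne']
    · simp [f, hB0, ← two_mul, h2]
    · simp [f, h, h.not_gt, h.ne', hBs]
  · simp [LinearMap.BilinMap.toQuadraticMap_apply, hC, f]
  · rintro Q ⟨hQp, hQb⟩
    have hp : ∀ x y, QuadraticMap.polar Q x y = B x y := fun x y => by rw [← hQp]; rfl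
    have hp' : ∀ x y, QuadraticMap.polar (LinearMap.BilinMap.toQuadraticMap C) x y = B x y := by
      intro x y
      have : QuadraticMap.polarBilin (LinearMap.BilinMap.toQuadraticMap C) = B := by
        refine LinearMap.ext_basis b b fun i j => ?_
        rw [LinearMap.BilinMap.polarBilin_toQuadraticMap, LinearMap.add_apply, LinearMap.add_apply,
          LinearMap.flip_apply, hC, hC]
        rcases lt_trichotomy i j with h | rfl | h
        · simp [f, h, h.not_gt, h.ne']
        · simp [f, hB0, ← two_mul, h2]
        · simp [f, h, h.not_gt, h.ne', hBs]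
      rw [← this]; rfl
    refine QuadraticMap.ext fun x => ?_
    induction b.mem_span x using Submodule.span_induction with
    | mem y hy =>
      obtain ⟨i, rfl⟩ := hy
      rw [hQb, LinearMap.BilinMap.toQuadraticMap_apply, hC]
      simp [f]
    | zero => rw [QuadraticMap.map_zero, QuadraticMap.map_zero]
    | add x y _ _ hx hy => rw [QuadraticMap.map_add Q, QuadraticMap.map_add (LinearMap.BilinMap.toQuadraticMap C), hx, hy, hp, hp']
    | smul a x _ hx => rw [QuadraticMap.map_smul, QuadraticMap.map_smul, hx]

end Cfsg.Agent.S2619
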