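import Cfsg.Statements.S2621
import Cfsg.Agent.Lib.Concrete.HypDet

set_option autoImplicit false
open Cfsg Cfsg.Lib.Concrete

namespace Cfsg.Agent.S2621

/-- Discriminant of an elliptic quadratic form Σ_(i<m−1) x_i y_i + z₁² + a z₁z₂ + c z₂² (binary part anisotropic) in dimension 2m over a field with q elements, q odd, m ≥ 1: the determinant of the Gram matrix of its polar form in any basis is a square if and only if m(q − 1)/2 is odd (equivalently q^m ≡ 3 (mod 4)). -/
theorem result {F : Type*} [Field F] [Fintype F] {q : ℕ} (hF : Fintype.card F = q) (hq : Odd q) {m : ℕ} (hm : 1 ≤ m) (a c : F) (hac : ∀ z₁ z₂ : F, z₁ ^ 2 + a * z₁ * z₂ + c * z₂ ^ 2 = 0 → z₁ = 0 ∧ z₂ = 0) {ι : Type*} [Fintype ι] [DecidableEq ι] (b : Module.Basis ι F ((Fin (m - 1) ⊕ Fin (m - 1)) ⊕ Fin 2 → F)) : IsSquare (Matrix.of (fun i j : ι => QuadraticMap.polar (Cfsg.quadFormMinus (m - 1) F a c) (b i) (b j))).det ↔ ¬ Even (m * (q - 1) / 2) := by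
  classical
  let B₂ : Matrix (Fin 2) (Fin 2) F := !![2, a; a, 2 * c]
  let M : Matrix ((Fin (m - 1) ⊕ Fin (m - 1)) ⊕ Fin 2) ((Fin (m - 1) ⊕ Fin (m - 1)) ⊕ Fin 2) F :=
    Matrix.fromBlocks (hypMat (m - 1) F) 0 0 B₂
  have hM : ∀ u v, Matrix.toBilin' M u v = QuadraticMap.polar (Cfsg.quadFormMinus (m - 1) F a c) u v := by
    intro u v
    have h1 := hypMat_bilin (F := F) (m - 1) (u ∘ Sum.inl) (v ∘ Sum.inl)
    simp only [Matrix.toBilin'_apply', M, Matrix.fromBlocks_mulVec, QuadraticMap.polar,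
      Cfsg.quadFormMinus, Cfsg.quadFormPlus, Pi.add_apply, Function.comp_apply] at h1 ⊢
    simp only [dotProduct, Fintype.sum_sum_type, Fin.sum_univ_two, Sum.elim_inl, Sum.elim_inr,
      Matrix.zero_mulVec, zero_add, add_zero, Function.comp_apply] at h1 ⊢
    simp [B₂, Matrix.mulVec, dotProduct, Fin.sum_univ_two] at *
    linear_combination h1
  have h : (Matrix.of fun i j : ι => QuadraticMap.polar (Cfsg.quadFormMinus (m - 1) F a c) (b i) (b j)) =
      Matrix.of fun i j : ι => Matrix.toBilin' M (b i) (b j) := by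
    ext i j; simp only [Matrix.of_apply, hM]
  rw [h, isSquare_gram_iff]
  have h2 : LinearMap.toMatrix₂' F (Matrix.toBilin' M) = M :=
    LinearMap.BilinForm.toMatrix'_toBilin' _
  rw [h2, Matrix.det_fromBlocks_zero₁₂, det_hypMat, Matrix.det_fin_two_of,
    show (-1 : F) ^ (m - 1) * (2 * (2 * c) - a * a) = (-1) ^ m * (a * a - 4 * c) by
      obtain ⟨k, rfl⟩ : ∃ k, m = k + 1 := ⟨m - 1, by omega⟩
      rw [Nat.add_sub_cancel]; ring]
  have hchar : ringChar F ≠ 2 := fun h2' => by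
    have := FiniteField.even_card_iff_char_two.1 h2'
    rw [Nat.odd_iff] at hq
    omega
  have h2' : (2 : F) ≠ 0 := Ring.two_ne_zero hchar
  have hd : ¬ IsSquare (a * a - 4 * c) := by
    rintro ⟨r, hr⟩
    have := hac ((-a + r) / 2) 1 (by field_simp; linear_combination -hr)
    exact one_ne_zero this.2
  rw [← quadraticChar_neg_one_iff_not_isSquare] at hd
  rw [← isSquare_neg_one_pow_iff hF hq m]
  have hne : (-1 : F) ^ m ≠ 0 := pow_ne_zero _ (by norm_num)
  have hd0 : a * a - 4 * c ≠ 0 := fun h0 => by rw [h0, quadraticChar_zero] at hd; exact absurd hd (by norm_num)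
  rw [← quadraticChar_one_iff_isSquare (mul_ne_zero hne hd0), ← quadraticChar_one_iff_isSquare hne, map_mul, hd]
  rcases quadraticChar_dichotomy hne with e | e <;> simp [e]

end Cfsg.Agent.S2621
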