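import Cfsg.Statements.S2622
import Mathlib

set_option autoImplicit false
open Cfsg

namespace Cfsg.Agent.S2622

theorem zero_or_orth {F : Type*} [Field F] [Finite F] [CharP F 2] (n : ℕ) :
    ∀ {V : Type _} [AddCommGroup V] [Module F V] [FiniteDimensional F V],
      Module.finrank F V = n → ∀ B : LinearMap.BilinForm F V, B.IsSymm →
      (∀ x, (∀ y, B x y = 0) → x = 0) → (n = 0 ∨ ∃ v : V, B v v ≠ 0) →
      ∃ b : Module.Basis (Fin n) F V, ∀ i j, B (b i) (b j) = if i = j then 1 else 0 := by
  induction n with
  | zero =>
      intro V _ _ _ hV B _ _ _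
      exact ⟨Module.finBasisOfFinrankEq F V hV, fun i => i.elim0⟩
  | succ n ih =>
      intro V _ _ _ hV B hS hB hna
      obtain ⟨v0, hv0⟩ := hna.resolve_left (Nat.succ_ne_zero n)
      haveI : Fact (Nat.Prime 2) := ⟨Nat.prime_two⟩
      obtain ⟨c, hc⟩ : ∃ c : F, B v0 v0 = c * c := by
        obtain ⟨c, hc⟩ := FiniteField.isSquare_of_char_two (ringChar.eq F 2) (B v0 v0)
        exact ⟨c, hc⟩
      have hc0 : c ≠ 0 := fun h => hv0 (by rw [hc, h, mul_zero])
      have key : ∀ v : V, B v v = 1 → (n = 0 ∨ ∃ w, B v w = 0 ∧ B w w ≠ 0) →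
          ∃ b : Module.Basis (Fin (n + 1)) F V, ∀ i j, B (b i) (b j) = if i = j then 1 else 0 := by
        intro v hv hw
        have hsurj : LinearMap.range (B v) = ⊤ :=
          LinearMap.range_eq_top.mpr fun a => ⟨a • v, by rw [map_smul, hv, smul_eq_mul, mul_one]⟩
        have hd := LinearMap.finrank_range_add_finrank_ker (B v)
        rw [hsurj, finrank_top, Module.finrank_self, hV] at hd
        set W := LinearMap.ker (B v) with hW
        have hBW : ∀ x : W, (∀ y : W, B.restrict W x y = 0) → x = 0 := by
          intro x hx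
          apply Subtype.ext
          refine hB x fun y => ?_
          have hy : y - B v y • v ∈ W := by
            rw [hW, LinearMap.mem_ker, map_sub, map_smul, hv, smul_eq_mul, mul_one, sub_self]
          have h1 : B (x : V) (y - B v y • v) = 0 := hx ⟨_, hy⟩
          have h2 : B (x : V) v = 0 := by rw [hS.eq]; exact x.2
          rwa [map_sub, map_smul, h2, smul_zero, sub_zero] at h1
        obtain ⟨b, hb⟩ := ih (V := W) (by omega) (B.restrict W) ⟨fun x y => hS.eq _ _⟩ hBW
          (by
            rcases hw with h | ⟨w, h1, h2⟩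
            · exact Or.inl h
            · exact Or.inr ⟨⟨w, h1⟩, h2⟩)
        let b' : Module.Basis (Fin (n + 1)) F V := Module.Basis.mkFinCons v b
          (fun a x hx hax => by
            have := congrArg (B v) hax
            rw [map_add, map_smul, hv, map_zero, (show B v x = 0 from hx), add_zero, smul_eq_mul,
              mul_one] at this
            exact this)
          (fun z => ⟨-B v z, by
            rw [hW, LinearMap.mem_ker, map_add, map_smul, hv, smul_eq_mul, mul_one, add_neg_cancel]⟩)
        refine ⟨b', fun i j => ?_⟩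
        have hco : ∀ i, b' i = Fin.cons (α := fun _ => V) v (fun k => (b k : V)) i := fun i => by
          rw [Module.Basis.coe_mkFinCons]; rfl
        rw [hco, hco]
        refine Fin.cases ?_ (fun i => ?_) i <;> refine Fin.cases ?_ (fun j => ?_) j
        · simpa using hv
        · rw [Fin.cons_zero, Fin.cons_succ, if_neg (Fin.succ_ne_zero j).symm]
          exact (b j).2
        · rw [Fin.cons_zero, Fin.cons_succ, if_neg (Fin.succ_ne_zero i), hS.eq]
          exact (b i).2
        · simpa using hb i j
      have hv1 : B (c⁻¹ • v0) (c⁻¹ • v0) = 1 := by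
        simp only [map_smul, LinearMap.smul_apply, smul_eq_mul, hc]
        field_simp
      obtain ⟨v1, hv1⟩ : ∃ v1, B v1 v1 = 1 := ⟨_, hv1⟩
      by_cases h : n = 0 ∨ ∃ w, B v1 w = 0 ∧ B w w ≠ 0
      · exact key v1 hv1 h
      push Not at h
      obtain ⟨hn, halt⟩ := h
      obtain ⟨x, hx, hx0⟩ : ∃ x, B v1 x = 0 ∧ x ≠ 0 := by
        by_contra hcon
        push Not at hcon
        have hbot : LinearMap.ker (B v1) = ⊥ := by
          rw [Submodule.eq_bot_iff]
          exact fun x hx => hcon x hx
        have := LinearMap.finrank_range_add_finrank_ker (B v1)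
        have h2 := Submodule.finrank_le (LinearMap.range (B v1))
        rw [hbot, finrank_bot] at this
        rw [Module.finrank_self] at h2
        omega
      obtain ⟨y0, hy0⟩ : ∃ y, B x y ≠ 0 := by
        by_contra hcon
        push Not at hcon
        exact hx0 (hB x hcon)
      set y1 := y0 - B v1 y0 • v1 with hy1
      have h1 : B v1 y1 = 0 := by rw [hy1, map_sub, map_smul, hv1, smul_eq_mul, mul_one, sub_self]
      have h2 : B x y1 = B x y0 := by
        rw [hy1, map_sub, map_smul, hS.eq x v1, hx, smul_zero, sub_zero]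
      set y := (B x y1)⁻¹ • y1 with hy
      have hy2 : B x y = 1 := by rw [hy, map_smul, smul_eq_mul, inv_mul_cancel₀ (h2 ▸ hy0)]
      have hy3 : B v1 y = 0 := by rw [hy, map_smul, h1, smul_zero]
      refine key (v1 + x) ?_ (Or.inr ⟨v1 + y, ?_, ?_⟩)
      · simp only [map_add, LinearMap.add_apply, hv1, hx, hS.eq x v1, halt x hx]; simp
      · simp only [map_add, LinearMap.add_apply, hv1, hy3, hy2, hS.eq x v1, hx]
        simp [CharTwo.add_self_eq_zero]
      · simp only [map_add, LinearMap.add_apply, hv1, hy3, hS.eq y v1, halt y hy3]; simp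

/-- Over a finite field of characteristic two, a non-degenerate symmetric bilinear form that is not alternating (some vector v has B(v, v) ≠ 0) admits an orthonormal basis. -/
theorem result {F V : Type*} [Field F] [Finite F] [CharP F 2] [AddCommGroup V] [Module F V] [FiniteDimensional F V] {n : ℕ} (hV : Module.finrank F V = n) (B : LinearMap.BilinForm F V) (hS : B.IsSymm) (hB : B.Nondegenerate) (hna : ∃ v : V, B v v ≠ 0) : ∃ b : Module.Basis (Fin n) F V, ∀ i j, B (b i) (b j) = if i = j then 1 else 0 := by
  exact zero_or_orth n hV B hS (fun x hx => hB.1 x hx) (Or.inr hna)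

end Cfsg.Agent.S2622
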