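import Cfsg.Statements.S2623
import Cfsg.Agent.Lib.Linear.FormsNormal

set_option autoImplicit false
open Cfsg

namespace Cfsg.Agent.S2623

theorem det_normal {F : Type*} [Field F] {n : ℕ} (B : LinearMap.BilinForm F (Fin (n + 1) → F))
    (e b : Module.Basis (Fin (n + 1)) F (Fin (n + 1) → F)) (ho : ∀ i j, i ≠ j → B (b i) (b j) = 0)
    (hu : ∀ i, i ≠ Fin.last n → B (b i) (b i) = 1) :
    ∃ r : F, r ≠ 0 ∧ r ^ 2 * (LinearMap.BilinForm.toMatrix e B).det = B (b (Fin.last n)) (b (Fin.last n)) := by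
  classical
  let P := LinearMap.toMatrix b e (LinearMap.id : (Fin (n + 1) → F) →ₗ[F] _)
  have hP : P.det ≠ 0 := by
    intro h0
    have h := congrArg Matrix.det (LinearMap.toMatrix_comp b e b (LinearMap.id : (Fin (n + 1) → F) →ₗ[F] _) LinearMap.id)
    rw [LinearMap.comp_id, LinearMap.toMatrix_id, Matrix.det_one, Matrix.det_mul] at h
    rw [show (LinearMap.toMatrix b e (LinearMap.id : (Fin (n + 1) → F) →ₗ[F] _)).det = 0 from h0, mul_zero] at h
    exact one_ne_zero h
  refine ⟨P.det, hP, ?_⟩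
  have hd : LinearMap.BilinForm.toMatrix b B = Matrix.diagonal fun i => B (b i) (b i) := by
    ext i j
    rw [LinearMap.BilinForm.toMatrix_apply, Matrix.diagonal_apply]
    split_ifs with h
    · rw [h]
    · exact ho i j h
  have h := congrArg Matrix.det (LinearMap.BilinForm.toMatrix_comp e (c := b) B
    (LinearMap.id : (Fin (n + 1) → F) →ₗ[F] _) LinearMap.id)
  rw [show B.comp (LinearMap.id : (Fin (n + 1) → F) →ₗ[F] _) LinearMap.id = B from rfl, hd, Matrix.det_diagonal, Matrix.det_mul, Matrix.det_mul,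
    Matrix.det_transpose, Finset.prod_eq_single (Fin.last n) (fun i _ hi => hu i hi) (by simp)] at h
  rw [h]
  ring

/-- Over a finite field of odd order, two quadratic forms on F^n with non-degenerate polar forms are isometric (related by an invertible linear change of variables) if and only if their discriminants (determinants of the Gram matrices of their polar forms) lie in the same square class. -/
theorem result {F : Type*} [Field F] [Fintype F] (h2 : (2 : F) ≠ 0) {n : ℕ} (Q₁ Q₂ : QuadraticForm F (Fin n → F)) (h₁ : (QuadraticMap.polarBilin Q₁).Nondegenerate) (h₂ : (QuadraticMap.polarBilin Q₂).Nondegenerate) : (∃ g : (Fin n → F) ≃ₗ[F] (Fin n → F), ∀ v, Q₂ (g v) = Q₁ v) ↔ IsSquare ((Matrix.of (fun i j : Fin n => QuadraticMap.polar ⇑Q₁ (Pi.single i 1) (Pi.single j 1))).det * (Matrix.of (fun i j : Fin n => QuadraticMap.polar ⇑Q₂ (Pi.single i 1) (Pi.single j 1))).det) := by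
  classical
  let e := Pi.basisFun F (Fin n)
  have hgram : ∀ Q : QuadraticForm F (Fin n → F),
      Matrix.of (fun i j : Fin n => QuadraticMap.polar ⇑Q (Pi.single i 1) (Pi.single j 1)) =
        LinearMap.BilinForm.toMatrix e (QuadraticMap.polarBilin Q) := by
    intro Q
    ext i j
    rw [LinearMap.BilinForm.toMatrix_apply]
    simp [e]
  rw [hgram Q₁, hgram Q₂]
  set B₁ := QuadraticMap.polarBilin Q₁
  set B₂ := QuadraticMap.polarBilin Q₂
  have hd₂ : (LinearMap.BilinForm.toMatrix e B₂).det ≠ 0 :=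
    (LinearMap.BilinForm.nondegenerate_iff_det_ne_zero e).mp h₂
  constructor
  · rintro ⟨g, hg⟩
    have hB : B₁ = LinearMap.BilinForm.comp B₂ g.toLinearMap g.toLinearMap := by
      refine LinearMap.ext₂ fun x y => ?_
      show QuadraticMap.polar Q₁ x y = QuadraticMap.polar Q₂ (g x) (g y)
      simp only [QuadraticMap.polar, ← hg, map_add]
    rw [hB, LinearMap.BilinForm.toMatrix_comp e (c := e), Matrix.det_mul, Matrix.det_mul, Matrix.det_transpose]
    exact ⟨(LinearMap.toMatrix e e g.toLinearMap).det * (LinearMap.BilinForm.toMatrix e B₂).det, by ring⟩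
  · intro hsq
    rcases n with _ | n
    · exact ⟨LinearEquiv.refl F _, fun v => by
        rw [Subsingleton.elim ((LinearEquiv.refl F _) v) 0, Subsingleton.elim v 0, QuadraticMap.map_zero, QuadraticMap.map_zero]⟩
    obtain ⟨α, hα⟩ := FiniteField.exists_nonsquare (F := F) (fun h => h2 (by
      haveI := ringChar.charP F
      have := CharP.cast_eq_zero F (ringChar F)
      rw [h] at this
      exact_mod_cast this))
    have hsymm : ∀ Q : QuadraticForm F (Fin (n + 1) → F), ∀ x y,
        QuadraticMap.polarBilin Q x y = QuadraticMap.polarBilin Q y x :=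
      fun Q x y => QuadraticMap.polar_comm _ x y
    obtain ⟨b₁, ho₁, hu₁, hl₁⟩ := Cfsg.Lib.Linear.Forms.exists_normal_basis h2 B₁ (hsymm Q₁) h₁.1
      (by rw [Module.finrank_fin_fun]) α hα
    obtain ⟨b₂, ho₂, hu₂, hl₂⟩ := Cfsg.Lib.Linear.Forms.exists_normal_basis h2 B₂ (hsymm Q₂) h₂.1
      (by rw [Module.finrank_fin_fun]) α hα
    obtain ⟨r₁, hr₁, hd₁'⟩ := det_normal B₁ e b₁ ho₁ hu₁
    obtain ⟨r₂, hr₂, hd₂'⟩ := det_normal B₂ e b₂ ho₂ hu₂
    have hl : B₁ (b₁ (Fin.last n)) (b₁ (Fin.last n)) = B₂ (b₂ (Fin.last n)) (b₂ (Fin.last n)) := by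
      obtain ⟨s, hs⟩ := hsq
      have key : IsSquare (B₁ (b₁ (Fin.last n)) (b₁ (Fin.last n)) * B₂ (b₂ (Fin.last n)) (b₂ (Fin.last n))) :=
        ⟨s * r₁ * r₂, by rw [← hd₁', ← hd₂']; linear_combination (r₁ ^ 2 * r₂ ^ 2) * hs⟩
      rcases hl₁ with a | a <;> rcases hl₂ with b | b <;> rw [a, b] at key ⊢
      · rw [one_mul] at key; exact absurd key hα
      · rw [mul_one] at key; exact absurd key hα
    refine ⟨b₁.equiv b₂ (Equiv.refl _), fun v => ?_⟩
    let g := b₁.equiv b₂ (Equiv.refl _)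
    have hB : B₁ = LinearMap.BilinForm.comp B₂ g.toLinearMap g.toLinearMap := by
      refine LinearMap.BilinForm.ext_basis b₁ fun i j => ?_
      show B₁ (b₁ i) (b₁ j) = B₂ (g (b₁ i)) (g (b₁ j))
      rw [Module.Basis.equiv_apply, Module.Basis.equiv_apply, Equiv.refl_apply, Equiv.refl_apply]
      by_cases hij : i = j
      · subst hij
        by_cases hi : i = Fin.last n
        · subst hi; exact hl
        · rw [hu₁ i hi, hu₂ i hi]
      · rw [ho₁ i j hij, ho₂ i j hij]
    have h := LinearMap.congr_fun₂ hB v v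
    change QuadraticMap.polar Q₁ v v = QuadraticMap.polar Q₂ (g v) (g v) at h
    rw [QuadraticMap.polar_self, QuadraticMap.polar_self, two_nsmul, two_nsmul, ← two_mul, ← two_mul] at h
    exact (mul_left_cancel₀ h2 h).symm

end Cfsg.Agent.S2623
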