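import Cfsg.Statements.S2625


set_option autoImplicit false
open Cfsg

namespace Cfsg.Agent.S2625

/-- For a quadratic form Q on F^n with non-degenerate polar form, F finite and n odd (so |F| is odd), the multiplier of any similarity is a square: if g is an invertible linear map with Q(g v) = c·Q(v) for all v then c is a square. -/
theorem result {F : Type*} [Field F] [Fintype F] {n : ℕ} (hn : Odd n) (Q : QuadraticForm F (Fin n → F)) (hQ : (QuadraticMap.polarBilin Q).Nondegenerate) (g : (Fin n → F) ≃ₗ[F] (Fin n → F)) (c : F) (hg : ∀ v, Q (g v) = c * Q v) : IsSquare c := by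
  classical
  let M : Matrix (Fin n) (Fin n) F := LinearMap.toMatrix₂' F (QuadraticMap.polarBilin Q)
  have hM : M.det ≠ 0 := Matrix.separatingLeft_iff_det_ne_zero.1 (LinearMap.separatingLeft_toMatrix₂'_iff.2 hQ.1)
  let A : Matrix (Fin n) (Fin n) F := LinearMap.toMatrix' (g : (Fin n → F) →ₗ[F] (Fin n → F))
  have h1 : (QuadraticMap.polarBilin Q).compl₁₂ (g : (Fin n → F) →ₗ[F] (Fin n → F)) (g : (Fin n → F) →ₗ[F] (Fin n → F)) =
      c • QuadraticMap.polarBilin Q := by
    refine LinearMap.ext fun x => LinearMap.ext fun y => ?_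
    show QuadraticMap.polar Q (g x) (g y) = c • QuadraticMap.polar Q x y
    simp only [QuadraticMap.polar, ← map_add, hg, smul_eq_mul]
    ring
  have h2 := congrArg Matrix.det (congrArg (LinearMap.toMatrix₂' F) h1)
  rw [LinearMap.toMatrix₂'_compl₁₂, map_smul, Matrix.det_mul, Matrix.det_mul, Matrix.det_transpose,
    Matrix.det_smul, Fintype.card_fin] at h2
  obtain ⟨k, rfl⟩ := hn
  rcases eq_or_ne c 0 with rfl | hc
  · exact ⟨0, by simp⟩
  refine ⟨A.det / c ^ k, ?_⟩
  field_simp
  have h3 : A.det * A.det = c ^ (2 * k + 1) := mul_right_cancel₀ hM (by rw [← h2]; ring)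
  linear_combination -h3

end Cfsg.Agent.S2625
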