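import Cfsg.Statements.S2629
import Cfsg.Agent.Lib.Linear.OrthParity
import Cfsg.Agent.Lib.Linear.OrthSpinor
import Cfsg.Agent.Lib.Linear.OrthForms

set_option linter.style.haveILetI false

set_option autoImplicit false
open Cfsg

namespace Cfsg.Agent.S2629

/-- For the hyperbolic form Σ x_i y_i on F^(2m) over a finite field of odd order (m ≥ 1), an isometry g preserves the class of the maximal totally singular subspace U₀ = {y = 0} (that is, m − dim(U₀ ∩ gU₀) is even) if and only if det g = 1: the stabiliser of each of the two classes of maximal totally singular subspaces is SO. -/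
theorem result {F : Type*} [Field F] [Fintype F] (h2 : (2 : F) ≠ 0) {m : ℕ} (hm : 1 ≤ m) (g : ↥(Cfsg.isometryGroup F (Cfsg.quadFormPlus m F))) : Even (m - Module.finrank F ↥(LinearMap.ker (LinearMap.funLeft F F (Sum.inr : Fin m → Fin m ⊕ Fin m)) ⊓ (LinearMap.ker (LinearMap.funLeft F F (Sum.inr : Fin m → Fin m ⊕ Fin m))).map (Matrix.mulVecLin ((g : Matrix.GeneralLinearGroup (Fin m ⊕ Fin m) F) : Matrix (Fin m ⊕ Fin m) (Fin m ⊕ Fin m) F)))) ↔ ((g : Matrix.GeneralLinearGroup (Fin m ⊕ Fin m) F) : Matrix (Fin m ⊕ Fin m) (Fin m ⊕ Fin m) F).det = 1 := by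
  classical
  obtain ⟨B, C⟩ := Cfsg.Lib.Linear.Orth.exists_space_plus (F := F) m
  set U := LinearMap.ker (LinearMap.funLeft F F (Sum.inr : Fin m → Fin m ⊕ Fin m)) with hU
  have hUr : Module.finrank F U = m := by
    have h := LinearMap.finrank_range_add_finrank_ker (LinearMap.funLeft F F (Sum.inr : Fin m → Fin m ⊕ Fin m))
    rw [LinearMap.range_eq_top.2 (LinearMap.funLeft_surjective_of_injective F F _ Sum.inr_injective),
      finrank_top, Module.finrank_fintype_fun_eq_card, Module.finrank_fintype_fun_eq_card] at h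
    simp at h
    rw [hU]; omega
  have hhalf : Cfsg.Lib.Linear.Orth.IsHalf (Cfsg.quadFormPlus m F) U := by
    refine ⟨fun x hx => ?_, by rw [hUr, Fintype.card_sum, Fintype.card_fin]; ring⟩
    refine Finset.sum_eq_zero fun i _ => ?_
    have : x (Sum.inr i) = 0 := congrFun (LinearMap.mem_ker.1 hx) i
    rw [this, mul_zero]
  have hh : Fintype.card F ≠ 2 ∨ Fintype.card (Fin m ⊕ Fin m) ≠ 4 :=
    Or.inl (Cfsg.Lib.Linear.Orth.card_ne_two h2)
  have hne : (-1 : F) ≠ 1 := fun h => h2 (by linear_combination -h)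
  have key : ∀ g : ↥(Cfsg.isometryGroup F (Cfsg.quadFormPlus m F)),
      ((g : GL (Fin m ⊕ Fin m) F).val.det = 1 ∧
        Module.finrank F (U ⊓ Cfsg.Lib.Linear.Orth.img (g : GL (Fin m ⊕ Fin m) F) U :
          Submodule F (Fin m ⊕ Fin m → F)) % 2 = m % 2) ∨
      ((g : GL (Fin m ⊕ Fin m) F).val.det = -1 ∧
        Module.finrank F (U ⊓ Cfsg.Lib.Linear.Orth.img (g : GL (Fin m ⊕ Fin m) F) U :
          Submodule F (Fin m ⊕ Fin m → F)) % 2 = (m + 1) % 2) := by
    refine Cfsg.Lib.Linear.Orth.refl_induction C hh _ ?_ ?_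
    · left
      refine ⟨Matrix.det_one, ?_⟩
      rw [OneMemClass.coe_one, Cfsg.Lib.Linear.Orth.img_one, inf_idem, hUr]
    · intro v hv g ih
      have hf := Cfsg.Lib.Linear.Orth.parity_flip C hhalf (hhalf.img g.2) hv
      rw [← Cfsg.Lib.Linear.Orth.img_mul] at hf
      rw [Subgroup.coe_mul, Cfsg.Lib.Linear.Orth.rI_val C hv, Units.val_mul, Matrix.det_mul,
        Cfsg.Lib.Linear.Orth.rGL_det C hv]
      rcases ih with ⟨hd, hp⟩ | ⟨hd, hp⟩
      · right; rw [hd]; exact ⟨mul_one _, by omega⟩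
      · left; rw [hd]; exact ⟨by ring, by omega⟩
  show Even (m - Module.finrank F ↥(U ⊓ Cfsg.Lib.Linear.Orth.img (g : GL (Fin m ⊕ Fin m) F) U)) ↔ _
  have hle : Module.finrank F ↥(U ⊓ Cfsg.Lib.Linear.Orth.img (g : GL (Fin m ⊕ Fin m) F) U) ≤ m :=
    (Submodule.finrank_mono inf_le_left).trans_eq hUr
  rcases key g with ⟨hd, hp⟩ | ⟨hd, hp⟩
  · rw [Nat.even_iff]
    exact iff_of_true (by omega) hd
  · rw [Nat.even_iff]
    exact iff_of_false (by omega) (fun h => hne (hd.symm.trans h))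

end Cfsg.Agent.S2629
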