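import Cfsg.Statements.S2631
import Cfsg.Agent.Lib.H3.OmegaAdjust
import Cfsg.Agent.Lib.Linear.OrthForms

set_option linter.style.haveILetI false

set_option autoImplicit false
open Cfsg

namespace Cfsg.Agent.S2631

/-- For the hyperbolic form Σ x_i y_i on F^(2m) over a finite field (m ≥ 1, excluding m = 2 over the field of two elements), Ω (the commutator subgroup of the orthogonal group) acts transitively on each of the two classes of maximal totally singular subspaces: if U and W are m-dimensional totally singular subspaces with m − dim(U ∩ W) even, some element of Ω carries U to W. -/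
theorem result {F : Type*} [Field F] [Fintype F] {m : ℕ} (hm : 1 ≤ m) (h : Fintype.card F ≠ 2 ∨ m ≠ 2) (U W : Submodule F (Fin m ⊕ Fin m → F)) (hU : Module.finrank F U = m) (hW : Module.finrank F W = m) (hU0 : ∀ u ∈ U, Cfsg.quadFormPlus m F u = 0) (hW0 : ∀ w ∈ W, Cfsg.quadFormPlus m F w = 0) (he : Even (m - Module.finrank F ↥(U ⊓ W))) : ∃ g : ↥(Cfsg.isometryGroup F (Cfsg.quadFormPlus m F)), g ∈ Cfsg.Omega F (Cfsg.quadFormPlus m F) ∧ U.map (Matrix.mulVecLin ((g : Matrix.GeneralLinearGroup (Fin m ⊕ Fin m) F) : Matrix (Fin m ⊕ Fin m) (Fin m ⊕ Fin m) F)) = W := by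
  classical
  obtain ⟨B, C⟩ := Cfsg.Lib.Linear.Orth.exists_space_plus (F := F) m
  have hUh : Cfsg.Lib.Linear.Orth.IsHalf (Cfsg.quadFormPlus m F) U :=
    ⟨hU0, by rw [hU, Fintype.card_sum, Fintype.card_fin]; ring⟩
  have hn : 2 ≤ Fintype.card (Fin m ⊕ Fin m) := by rw [Fintype.card_sum, Fintype.card_fin]; omega
  have hh : Fintype.card F ≠ 2 ∨ Fintype.card (Fin m ⊕ Fin m) ≠ 4 := by
    rcases h with h | h
    · exact Or.inl h
    · exact Or.inr (by rw [Fintype.card_sum, Fintype.card_fin]; omega)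
  let e : U ≃ₗ[F] W := LinearEquiv.ofFinrankEq U W (hU.trans hW.symm)
  obtain ⟨g, hg, -⟩ := Cfsg.Lib.H3.exists_img_eq C e (fun u => by
    rw [hW0 _ (e u).2, hU0 _ u.2])
  have hUW : Module.finrank F ↥(U ⊓ W) ≤ m := (Submodule.finrank_mono inf_le_left).trans_eq hU
  have he' := Nat.even_iff.1 he
  by_cases h2 : (2 : F) = 0
  · obtain ⟨δ, hδ, hiff⟩ := Cfsg.Lib.H3.omega_char_two C h2 hn hh
    have key : ∀ g : ↥(Cfsg.isometryGroup F (Cfsg.quadFormPlus m F)),
        (δ g = 1 ∧ Module.finrank F (U ⊓ Cfsg.Lib.Linear.Orth.img (g : GL (Fin m ⊕ Fin m) F) U :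
            Submodule F (Fin m ⊕ Fin m → F)) % 2 = m % 2) ∨
        (δ g = -1 ∧ Module.finrank F (U ⊓ Cfsg.Lib.Linear.Orth.img (g : GL (Fin m ⊕ Fin m) F) U :
            Submodule F (Fin m ⊕ Fin m → F)) % 2 = (m + 1) % 2) := by
      refine Cfsg.Lib.Linear.Orth.refl_induction C hh _ ?_ ?_
      · left
        refine ⟨map_one δ, ?_⟩
        rw [OneMemClass.coe_one, Cfsg.Lib.Linear.Orth.img_one, inf_idem, hU]
      · intro v hv g ih
        have hf := Cfsg.Lib.Linear.Orth.parity_flip C hUh (hUh.img g.2) hv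
        rw [← Cfsg.Lib.Linear.Orth.img_mul] at hf
        rw [Subgroup.coe_mul, Cfsg.Lib.Linear.Orth.rI_val C hv, map_mul, hδ]
        rcases ih with ⟨hd, hp⟩ | ⟨hd, hp⟩
        · right; rw [hd]; exact ⟨mul_one _, by omega⟩
        · left; rw [hd]; exact ⟨by norm_num, by omega⟩
    refine ⟨g, (hiff g).2 ?_, hg⟩
    rcases key g with ⟨hd, -⟩ | ⟨-, hp⟩
    · exact hd
    · rw [hg] at hp; omega
  · have key : ∀ g : ↥(Cfsg.isometryGroup F (Cfsg.quadFormPlus m F)),
        ((g : GL (Fin m ⊕ Fin m) F).val.det = 1 ∧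
          Module.finrank F (U ⊓ Cfsg.Lib.Linear.Orth.img (g : GL (Fin m ⊕ Fin m) F) U :
            Submodule F (Fin m ⊕ Fin m → F)) % 2 = m % 2) ∨
        ((g : GL (Fin m ⊕ Fin m) F).val.det = -1 ∧
          Module.finrank F (U ⊓ Cfsg.Lib.Linear.Orth.img (g : GL (Fin m ⊕ Fin m) F) U :
            Submodule F (Fin m ⊕ Fin m → F)) % 2 = (m + 1) % 2) := by
      refine Cfsg.Lib.Linear.Orth.refl_induction C hh _ ?_ ?_
      · left
        refine ⟨Matrix.det_one, ?_⟩
        rw [OneMemClass.coe_one, Cfsg.Lib.Linear.Orth.img_one, inf_idem, hU]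
      · intro v hv g ih
        have hf := Cfsg.Lib.Linear.Orth.parity_flip C hUh (hUh.img g.2) hv
        rw [← Cfsg.Lib.Linear.Orth.img_mul] at hf
        rw [Subgroup.coe_mul, Cfsg.Lib.Linear.Orth.rI_val C hv, Units.val_mul, Matrix.det_mul,
          Cfsg.Lib.Linear.Orth.rGL_det C hv]
        rcases ih with ⟨hd, hp⟩ | ⟨hd, hp⟩
        · right; rw [hd]; exact ⟨mul_one _, by omega⟩
        · left; rw [hd]; exact ⟨by ring, by omega⟩
    rcases key g with ⟨hd, -⟩ | ⟨-, hp⟩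
    · obtain ⟨s, hs, hsd, hss⟩ := Cfsg.Lib.H3.exists_levi C h2 hW0 (fun h => by
        rw [h, finrank_bot] at hW; omega)
      rcases Int.units_eq_one_or (Cfsg.Lib.Linear.Orth.spin _ g) with hq | hq
      · exact ⟨g, (Cfsg.Lib.H3.omega_char_odd C h2 hn g).2 ⟨hd, hq⟩, hg⟩
      · refine ⟨s * g, (Cfsg.Lib.H3.omega_char_odd C h2 hn _).2 ⟨?_, ?_⟩, ?_⟩
        · rw [Subgroup.coe_mul, Units.val_mul, Matrix.det_mul, hsd, hd, one_mul]
        · rw [map_mul, hss, hq]; norm_num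
        · show Cfsg.Lib.Linear.Orth.img ((s * g : ↥(Cfsg.isometryGroup F (Cfsg.quadFormPlus m F))) : GL (Fin m ⊕ Fin m) F) U = W
          rw [Subgroup.coe_mul, Cfsg.Lib.Linear.Orth.img_mul, hg]
          exact hs
    · rw [hg] at hp; omega

end Cfsg.Agent.S2631
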