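import Cfsg.Statements.S2632
import Cfsg.Agent.Lib.H3.OmegaAdjust
import Cfsg.Agent.Lib.Linear.OrthForms

set_option linter.style.haveILetI false

set_option autoImplicit false
open Cfsg

namespace Cfsg.Agent.S2632

/-- Ω is transitive on non-degenerate subspaces of each isometry type: for a quadratic form Q on F^n, n ≥ 3, with non-degenerate polar form (F finite; excluding dimension 4 over the field of two elements), if U and W are subspaces on which the polar form is non-degenerate and there is a Q-preserving linear isomorphism U → W, then some element of Ω (the commutator subgroup of the orthogonal group) carries U to W. (In dimension 2 this fails: Ω can be {±1}, which fixes every line.) -/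
theorem result {F : Type*} [Field F] [Fintype F] {n : ℕ} (hn : 3 ≤ n) (h : Fintype.card F ≠ 2 ∨ n ≠ 4) (Q : QuadraticForm F (Fin n → F)) (hQ : (QuadraticMap.polarBilin Q).Nondegenerate) (U W : Submodule F (Fin n → F)) (hU : U ⊓ LinearMap.BilinForm.orthogonal (QuadraticMap.polarBilin Q) U = ⊥) (hW : W ⊓ LinearMap.BilinForm.orthogonal (QuadraticMap.polarBilin Q) W = ⊥) (e : U ≃ₗ[F] W) (he : ∀ u : U, Q (e u : Fin n → F) = Q (u : Fin n → F)) : ∃ g : ↥(Cfsg.isometryGroup F ⇑Q), g ∈ Cfsg.Omega F ⇑Q ∧ U.map (Matrix.mulVecLin ((g : Matrix.GeneralLinearGroup (Fin n) F) : Matrix (Fin n) (Fin n) F)) = W := by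
  classical
  have C := Cfsg.Lib.Linear.Orth.space_of_quadraticForm Q hQ
  have hn2 : 2 ≤ Fintype.card (Fin n) := by rw [Fintype.card_fin]; omega
  have hh : Fintype.card F ≠ 2 ∨ Fintype.card (Fin n) ≠ 4 := by rw [Fintype.card_fin]; exact h
  have hrefl : (QuadraticMap.polarBilin Q).IsRefl := fun u v huv => by rw [← huv]; exact C.symm v u
  set W' := LinearMap.BilinForm.orthogonal (QuadraticMap.polarBilin Q) W with hW'
  have hW'W : LinearMap.BilinForm.orthogonal (QuadraticMap.polarBilin Q) W' = W :=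
    LinearMap.BilinForm.orthogonal_orthogonal hQ hrefl W
  have hWd : Cfsg.Lib.Linear.Orth.NDeg (QuadraticMap.polarBilin Q) W := fun x hx hxy => by
    have : x ∈ W ⊓ W' := ⟨hx, fun y hy => (C.symm y x).trans (hxy y hy)⟩
    rwa [hW, Submodule.mem_bot] at this
  have hW'd : Cfsg.Lib.Linear.Orth.NDeg (QuadraticMap.polarBilin Q) W' := fun x hx hxy => by
    have hxW : x ∈ LinearMap.BilinForm.orthogonal (QuadraticMap.polarBilin Q) W' :=
      fun y hy => (C.symm y x).trans (hxy y hy)
    rw [hW'W] at hxW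
    have : x ∈ W ⊓ W' := ⟨hxW, hx⟩
    rwa [hW, Submodule.mem_bot] at this
  have hsum : Module.finrank F W + Module.finrank F W' = n := by
    have := Submodule.finrank_le W
    rw [Module.finrank_fintype_fun_eq_card, Fintype.card_fin] at this
    rw [hW', LinearMap.BilinForm.finrank_orthogonal hQ, Module.finrank_fintype_fun_eq_card,
      Fintype.card_fin]
    omega
  have hside : ∀ z, z ∈ W ∨ z ∈ W' → z ∈ W ∨ ∀ w ∈ W, QuadraticMap.polarBilin Q z w = 0 := by
    rintro z (hz | hz)
    · exact Or.inl hz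
    · exact Or.inr fun w hw => (C.symm z w).trans (hz w hw)
  obtain ⟨K, hK, hKd, hK2⟩ : ∃ K : Submodule F (Fin n → F), (K = W ∨ K = W') ∧
      Cfsg.Lib.Linear.Orth.NDeg (QuadraticMap.polarBilin Q) K ∧ 2 ≤ Module.finrank F K := by
    by_cases h2W : 2 ≤ Module.finrank F W
    · exact ⟨W, Or.inl rfl, hWd, h2W⟩
    · exact ⟨W', Or.inr rfl, hW'd, by omega⟩
  have hKside : ∀ z ∈ K, z ∈ W ∨ ∀ w ∈ W, QuadraticMap.polarBilin Q z w = 0 := fun z hz => hside z (by
    rcases hK with rfl | rfl
    · exact Or.inl hz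
    · exact Or.inr hz)
  obtain ⟨g, hg, himg⟩ := Cfsg.Lib.H3.exists_omega_img C hn2 hh e he (by
      obtain ⟨z, hz, hQz⟩ := Cfsg.Lib.Linear.Orth.exists_nonsing C hKd (fun h => by
        rw [h, finrank_bot] at hK2; omega)
      exact ⟨z, hQz, hKside z hz⟩) (fun h2 => by
      have hchar : ringChar F ≠ 2 := fun hc => h2 (by
        haveI := ringChar.charP F
        have := CharP.cast_eq_zero F (ringChar F)
        rw [hc] at this
        exact_mod_cast this)
      obtain ⟨α, hα⟩ := FiniteField.exists_nonsquare hchar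
      have hα0 : α ≠ 0 := fun h => hα (h ▸ ⟨0, (mul_zero 0).symm⟩)
      obtain ⟨v1, hv1K, hv1⟩ := Cfsg.Lib.H3.exists_value_sub C h2 hKd hK2 (one_ne_zero : (1 : F) ≠ 0)
      obtain ⟨va, hvaK, hva⟩ := Cfsg.Lib.H3.exists_value_sub C h2 hKd hK2 hα0
      have h1 : Q v1 ≠ 0 := by rw [hv1]; exact one_ne_zero
      have ha : Q va ≠ 0 := by rw [hva]; exact hα0
      refine ⟨Cfsg.Lib.Linear.Orth.rI C v1 h1 * Cfsg.Lib.Linear.Orth.rI C va ha,
        mul_mem (Cfsg.Lib.H3.rI_mem_stabSub_of_mem C h1 (hKside _ hv1K))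
          (Cfsg.Lib.H3.rI_mem_stabSub_of_mem C ha (hKside _ hvaK)), ?_, ?_⟩
      · rw [Subgroup.coe_mul, Units.val_mul, Matrix.det_mul, Cfsg.Lib.Linear.Orth.rI_val,
          Cfsg.Lib.Linear.Orth.rI_val, Cfsg.Lib.Linear.Orth.rGL_det C h1,
          Cfsg.Lib.Linear.Orth.rGL_det C ha]
        norm_num
      · rw [map_mul, Cfsg.Lib.Linear.Orth.spin_rI C h2, Cfsg.Lib.Linear.Orth.spin_rI C h2, hv1, hva,
          if_pos IsSquare.one, if_neg hα, mul_one])
  exact ⟨g, hg, himg⟩

end Cfsg.Agent.S2632
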