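import Cfsg.Statements.S2633
import Cfsg.Agent.Lib.H3.OmegaAdjust
import Cfsg.Agent.Lib.Linear.OrthForms

set_option linter.style.haveILetI false

set_option autoImplicit false
open Cfsg

namespace Cfsg.Agent.S2633

/-- Ω is transitive on totally singular subspaces of each dimension less than half the dimension: for a quadratic form Q on F^n with non-degenerate polar form (F finite; excluding dimension 4 over the field of two elements), if U and W are subspaces of the same dimension k with 2k < n on which Q vanishes, then some element of Ω (the commutator subgroup of the orthogonal group) carries U to W. -/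
theorem result {F : Type*} [Field F] [Fintype F] {n : ℕ} (h : Fintype.card F ≠ 2 ∨ n ≠ 4) (Q : QuadraticForm F (Fin n → F)) (hQ : (QuadraticMap.polarBilin Q).Nondegenerate) (U W : Submodule F (Fin n → F)) {k : ℕ} (hk : 2 * k < n) (hU : Module.finrank F U = k) (hW : Module.finrank F W = k) (hU0 : ∀ u ∈ U, Q u = 0) (hW0 : ∀ w ∈ W, Q w = 0) : ∃ g : ↥(Cfsg.isometryGroup F ⇑Q), g ∈ Cfsg.Omega F ⇑Q ∧ U.map (Matrix.mulVecLin ((g : Matrix.GeneralLinearGroup (Fin n) F) : Matrix (Fin n) (Fin n) F)) = W := by
  classical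
  have C := Cfsg.Lib.Linear.Orth.space_of_quadraticForm Q hQ
  rcases Nat.eq_zero_or_pos k with rfl | hk0
  · refine ⟨1, one_mem _, ?_⟩
    rw [Submodule.finrank_eq_zero.1 hU, Submodule.finrank_eq_zero.1 hW, Submodule.map_bot]
  have hn : 2 ≤ Fintype.card (Fin n) := by rw [Fintype.card_fin]; omega
  have hh : Fintype.card F ≠ 2 ∨ Fintype.card (Fin n) ≠ 4 := by rw [Fintype.card_fin]; exact h
  let e : U ≃ₗ[F] W := LinearEquiv.ofFinrankEq U W (hU.trans hW.symm)
  obtain ⟨g, hg, himg⟩ := Cfsg.Lib.H3.exists_omega_img C hn hh e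
    (fun u => by rw [hW0 _ (e u).2, hU0 _ u.2]) (by
      obtain ⟨z, hz, hQz⟩ := Cfsg.Lib.Linear.Orth.exists_nonsing_of_lt C
        (A := LinearMap.BilinForm.orthogonal (QuadraticMap.polarBilin Q) W) (by
          rw [LinearMap.BilinForm.finrank_orthogonal hQ,
            Module.finrank_fintype_fun_eq_card, hW, Fintype.card_fin]
          omega)
      exact ⟨z, hQz, Or.inr fun w hw => (C.symm z w).trans (hz w hw)⟩)
    (fun h2 => Cfsg.Lib.H3.exists_levi C h2 hW0 (fun h => by rw [h, finrank_bot] at hW; omega))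
  exact ⟨g, hg, himg⟩

end Cfsg.Agent.S2633
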