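import Cfsg.Statements.S2634
import Cfsg.Agent.Lib.H3.OmegaAdjust
import Cfsg.Agent.Lib.Linear.OrthForms

set_option linter.style.haveILetI false

set_option autoImplicit false
open Cfsg

namespace Cfsg.Agent.S2634

/-- Over a finite field of characteristic two, Ω (the commutator subgroup of the orthogonal group of a quadratic form Q on F^n with non-degenerate polar form; excluding dimension 4 over the field of two elements) acts transitively on the non-singular 1-spaces: for u, v with Q(u) ≠ 0 and Q(v) ≠ 0 some element of Ω carries the line through u to the line through v. -/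
theorem result {F : Type*} [Field F] [Fintype F] [CharP F 2] {n : ℕ} (h : Fintype.card F ≠ 2 ∨ n ≠ 4) (Q : QuadraticForm F (Fin n → F)) (hQ : (QuadraticMap.polarBilin Q).Nondegenerate) (u v : Fin n → F) (hu : Q u ≠ 0) (hv : Q v ≠ 0) : ∃ g : ↥(Cfsg.isometryGroup F ⇑Q), g ∈ Cfsg.Omega F ⇑Q ∧ (F ∙ ((g : Matrix.GeneralLinearGroup (Fin n) F) : Matrix (Fin n) (Fin n) F).mulVec u) = F ∙ v := by
  classical
  have C := Cfsg.Lib.Linear.Orth.space_of_quadraticForm Q hQ
  have h2 : (2 : F) = 0 := CharTwo.two_eq_zero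
  obtain ⟨c, hc⟩ : IsSquare (Q v / Q u) := FiniteField.isSquare_of_char_two (ringChar.eq F 2) _
  have hc0 : c ≠ 0 := fun h0 => div_ne_zero hv hu (by rw [hc, h0, mul_zero])
  have hcu : Q (c • u) = Q v := by rw [C.smul, sq, ← hc, div_mul_cancel₀ _ hu]
  have hcu0 : c • u ≠ 0 := fun h0 => hv (by rw [← hcu, h0, QuadraticMap.map_zero])
  have hv0 : v ≠ 0 := fun h0 => hv (by rw [h0, QuadraticMap.map_zero])
  have hn : 2 ≤ Fintype.card (Fin n) := by
    rcases n with _ | _ | n
    · exact absurd (show u = 0 from funext fun i => i.elim0) (fun h0 => hu (by rw [h0, QuadraticMap.map_zero]))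
    · exfalso
      have huv : ∀ x : Fin 1 → F, QuadraticMap.polar Q u x = 0 := by
        intro x
        have hu1 : u 0 ≠ 0 := fun h0 => hu (by
          rw [show u = 0 from funext fun i => by fin_cases i; simpa using h0, QuadraticMap.map_zero])
        have hx : x = (x 0 / u 0) • u := by
          funext i; fin_cases i; simp [hu1]
        rw [hx, QuadraticMap.polar_smul_right, QuadraticMap.polar_self, smul_eq_mul]
        simp [h2]
      exact hu (by rw [hQ.1 u huv, QuadraticMap.map_zero])
    · simp
  have hh : Fintype.card F ≠ 2 ∨ Fintype.card (Fin n) ≠ 4 := by rw [Fintype.card_fin]; exact h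
  let e : (F ∙ (c • u)) ≃ₗ[F] (F ∙ v) :=
    (LinearEquiv.toSpanNonzeroSingleton F _ _ hcu0).symm.trans (LinearEquiv.toSpanNonzeroSingleton F _ _ hv0)
  obtain ⟨g, hg, himg⟩ := Cfsg.Lib.H3.exists_omega_img C hn hh e (fun x => by
      obtain ⟨a, rfl⟩ := (LinearEquiv.toSpanNonzeroSingleton F _ _ hcu0).surjective x
      simp only [e, LinearEquiv.trans_apply, LinearEquiv.symm_apply_apply]
      simp only [LinearEquiv.toSpanNonzeroSingleton_apply, QuadraticMap.map_smul, hcu])
    ⟨v, hv, Or.inl (Submodule.mem_span_singleton_self v)⟩ (fun h => absurd h2 h)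
  refine ⟨g, hg, ?_⟩
  rw [← himg, Cfsg.Lib.Linear.Orth.img, Submodule.map_span, Set.image_singleton, Matrix.mulVecLin_apply,
    Matrix.mulVec_smul, Submodule.span_singleton_smul_eq (IsUnit.mk0 c hc0)]

end Cfsg.Agent.S2634
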