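import Cfsg.Statements.S2635
import Cfsg.Agent.Lib.H3.OmegaAdjust
import Cfsg.Agent.Lib.Linear.OrthForms

set_option linter.style.haveILetI false

set_option autoImplicit false
open Cfsg

namespace Cfsg.Agent.S2635

/-- Over a finite field of characteristic two, for a quadratic form Q on F^n with non-degenerate polar form, n ≥ 2, other than dimension 4 over the field of two elements, Ω (the commutator subgroup of the orthogonal group) is exactly the subgroup generated by the products of two reflections (orthogonal transvections) x ↦ x − Q(v)⁻¹ f(x, v) v, Q(v) ≠ 0: the products of an even number of reflections. -/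
theorem result {F : Type*} [Field F] [Fintype F] [CharP F 2] {n : ℕ} (hn : 2 ≤ n) (h : Fintype.card F ≠ 2 ∨ n ≠ 4) (Q : QuadraticForm F (Fin n → F)) (hQ : (QuadraticMap.polarBilin Q).Nondegenerate) : Cfsg.Omega F ⇑Q = Subgroup.closure {g : ↥(Cfsg.isometryGroup F ⇑Q) | ∃ u v : Fin n → F, Q u ≠ 0 ∧ Q v ≠ 0 ∧ ((g : Matrix.GeneralLinearGroup (Fin n) F) : Matrix (Fin n) (Fin n) F) = Cfsg.reflectionMatrix ⇑Q u * Cfsg.reflectionMatrix ⇑Q v} := by
  classical
  have C := Cfsg.Lib.Linear.Orth.space_of_quadraticForm Q hQ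
  have h2 : (2 : F) = 0 := CharTwo.two_eq_zero
  have hn' : 2 ≤ Fintype.card (Fin n) := by rw [Fintype.card_fin]; exact hn
  have hh : Fintype.card F ≠ 2 ∨ Fintype.card (Fin n) ≠ 4 := by rw [Fintype.card_fin]; exact h
  obtain ⟨δ, hδ, hiff⟩ := Cfsg.Lib.H3.omega_char_two C h2 hn' hh
  obtain ⟨v0, h0⟩ := Cfsg.Lib.H3.exists_nonsing_vec C (by omega)
  set P := Subgroup.closure {g : ↥(Cfsg.isometryGroup F ⇑Q) | ∃ u v : Fin n → F, Q u ≠ 0 ∧ Q v ≠ 0 ∧
    ((g : Matrix.GeneralLinearGroup (Fin n) F) : Matrix (Fin n) (Fin n) F) =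
      Cfsg.reflectionMatrix ⇑Q u * Cfsg.reflectionMatrix ⇑Q v} with hP
  have hpair : ∀ u (hu : Q u ≠ 0) v (hv : Q v ≠ 0),
      Cfsg.Lib.Linear.Orth.rI C u hu * Cfsg.Lib.Linear.Orth.rI C v hv ∈ P := fun u hu v hv =>
    Subgroup.subset_closure ⟨u, v, hu, hv, by
      rw [Subgroup.coe_mul, Units.val_mul, Cfsg.Lib.Linear.Orth.rI_val C hu,
        Cfsg.Lib.Linear.Orth.rI_val C hv, Cfsg.Lib.Linear.Orth.rGL_val C hu,
        Cfsg.Lib.Linear.Orth.rGL_val C hv]⟩
  have hPle : P ≤ δ.ker := by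
    rw [hP, Subgroup.closure_le]
    rintro g ⟨u, v, hu, hv, hg⟩
    have : g = Cfsg.Lib.Linear.Orth.rI C u hu * Cfsg.Lib.Linear.Orth.rI C v hv := by
      apply Subtype.ext
      apply Units.ext
      rw [Subgroup.coe_mul, Units.val_mul, Cfsg.Lib.Linear.Orth.rI_val C hu,
        Cfsg.Lib.Linear.Orth.rI_val C hv, Cfsg.Lib.Linear.Orth.rGL_val C hu,
        Cfsg.Lib.Linear.Orth.rGL_val C hv, hg]
    rw [this, SetLike.mem_coe, MonoidHom.mem_ker, map_mul, hδ, hδ]
    norm_num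
  have key : ∀ g, g ∈ P ∨ Cfsg.Lib.Linear.Orth.rI C v0 h0 * g ∈ P := by
    refine Cfsg.Lib.Linear.Orth.refl_induction C hh _ (Or.inl (one_mem _)) ?_
    rintro v hv k (hk | hk)
    · right
      rw [← mul_assoc]
      exact mul_mem (hpair _ h0 _ hv) hk
    · left
      have e : Cfsg.Lib.Linear.Orth.rI C v hv * k =
          (Cfsg.Lib.Linear.Orth.rI C v hv * Cfsg.Lib.Linear.Orth.rI C v0 h0) *
            (Cfsg.Lib.Linear.Orth.rI C v0 h0 * k) := by
        rw [mul_assoc, ← mul_assoc (Cfsg.Lib.Linear.Orth.rI C v0 h0),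
          Cfsg.Lib.Linear.Orth.rI_sq, one_mul]
      rw [e]
      exact mul_mem (hpair _ hv _ h0) hk
  refine le_antisymm (fun g hg => ?_) (fun g hg => (hiff g).2 (MonoidHom.mem_ker.1 (hPle hg)))
  refine (key g).resolve_right fun hk => ?_
  have := MonoidHom.mem_ker.1 (hPle hk)
  rw [map_mul, hδ, (hiff g).1 hg] at this
  exact absurd this (by decide)

end Cfsg.Agent.S2635
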