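import Cfsg.Statements.S2636
import Cfsg.Agent.Lib.Linear.AutPSL.FieldCentralizer
-- import your own Cfsg.Agent.* helpers here

set_option autoImplicit false
open Cfsg

namespace Cfsg.Agent.S2636

open Cfsg.Lib.Linear.AutPSL Cfsg.Lib.Linear.Descent Matrix

/-- Centraliser of a field automorphism in PGL_n: let F be the field with q = q₀^r elements, σ a field automorphism of F of prime order r (so its fixed field has q₀ elements) and n ≥ 1. The invertible matrices g whose entrywise image under σ is a scalar multiple of g — those whose coset modulo scalars is fixed by σ — number (q − 1)/(q₀ − 1) · |GL_n(q₀)|; equivalently the centraliser in PGL_n(q) of the induced automorphism has the order of PGL_n(q₀). -/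
theorem result {F : Type*} [Field F] [Fintype F] {q₀ r n : ℕ} (hr : r.Prime) (hn : 1 ≤ n) (hF : Fintype.card F = q₀ ^ r) (σ : F ≃+* F) (hσ : orderOf σ = r) : Nat.card {g : GL (Fin n) F // ∃ c : F, c ≠ 0 ∧ (g : Matrix (Fin n) (Fin n) F).map σ = c • (g : Matrix (Fin n) (Fin n) F)} = (q₀ ^ r - 1) / (q₀ - 1) * ∏ i : Fin n, (q₀ ^ n - q₀ ^ (i : ℕ)) := by
  classical
  haveI : Fact r.Prime := ⟨hr⟩
  haveI : Nonempty (Fin n) := ⟨⟨0, hn⟩⟩
  set K := fixedF σ
  have hK : Nat.card K = q₀ := by
    have h := card_fixedF_pow σ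
    rw [hσ, hF] at h
    exact Nat.pow_left_injective hr.ne_zero h
  let i : K →+* F := K.subtype
  let u : Kˣ →* Fˣ := Units.map i.toMonoidHom
  let ψ : Fˣ × GL (Fin n) K →* GL (Fin n) F := MonoidHom.mk' (fun z => sc z.1 * GeneralLinearGroup.map i z.2)
    (fun a b => by
      simp only [Prod.fst_mul, Prod.snd_mul, map_mul, mul_assoc]
      rw [← mul_assoc (sc b.1), sc_comm b.1, mul_assoc])
  have hset : ∀ g : GL (Fin n) F, g ∈ ψ.range ↔
      ∃ c : F, c ≠ 0 ∧ (g : Matrix (Fin n) (Fin n) F).map σ = c • (g : Matrix (Fin n) (Fin n) F) := by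
    intro g
    constructor
    · rintro ⟨⟨d, B⟩, rfl⟩
      refine ⟨σ d / d, div_ne_zero (by simp) d.ne_zero, ?_⟩
      have hB : ∀ a b, σ (i (B.val a b)) = i (B.val a b) := fun a b => (B.val a b).2
      ext a b
      show σ ((((sc d : GL (Fin n) F).val * (GeneralLinearGroup.map i B).val : Matrix (Fin n) (Fin n) F)) a b) = (σ d / d) • ((((sc d : GL (Fin n) F).val * (GeneralLinearGroup.map i B).val : Matrix (Fin n) (Fin n) F)) a b)
      rw [sc_val, smul_mul_assoc, one_mul, Matrix.smul_apply, smul_eq_mul, map_mul, smul_eq_mul, ← mul_assoc,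
        div_mul_cancel₀ _ d.ne_zero]
      congr 1
      exact hB a b
    · rintro ⟨c, hc, hg⟩
      obtain ⟨d, B, hB, rfl⟩ := exists_fixed hσ g (c := Units.mk0 c hc) (Units.ext (by
        rw [Units.val_mul, sc_val, smul_mul_assoc, one_mul]; exact hg))
      obtain ⟨B', rfl⟩ := exists_map_eq (σ := σ) i (fun x => ⟨fun hx => ⟨⟨x, hx⟩, rfl⟩, fun ⟨y, hy⟩ => hy ▸ y.2⟩) hB
      exact ⟨(d, B'), rfl⟩
  have hker : Nat.card ψ.ker = Nat.card Kˣ := by
    let κ : Kˣ →* ψ.ker := (MonoidHom.prod ((invMonoidHom).comp u) sc).codRestrict ψ.ker fun b => by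
      show sc (u b)⁻¹ * GeneralLinearGroup.map i (sc b) = 1
      have : GeneralLinearGroup.map i (sc b : GL (Fin n) K) = sc (u b) :=
        Units.ext (Matrix.ext fun a c => by simp [Matrix.diagonal_apply, apply_ite i, u])
      rw [this, ← map_mul, inv_mul_cancel, map_one]
    refine (Nat.card_eq_of_bijective κ ⟨fun a b h => ?_, fun z => ?_⟩).symm
    · have h1 := congrArg (fun z : ψ.ker => (z : Fˣ × GL (Fin n) K).1) h
      simp only [κ, MonoidHom.codRestrict_apply, MonoidHom.prod_apply, MonoidHom.comp_apply, invMonoidHom_apply,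
        _root_.inv_inj] at h1
      exact Units.map_injective Subtype.val_injective h1
    · obtain ⟨⟨d, B⟩, hz⟩ := z
      have h1 : GeneralLinearGroup.map i B = sc d⁻¹ := by
        rw [MonoidHom.mem_ker] at hz
        rw [map_inv, eq_inv_iff_mul_eq_one, ← sc_comm]
        exact hz
      have hval : ∀ a c, (B.val a c : F) = ((sc d⁻¹ : GL (Fin n) F).val) a c := fun a c =>
        congrArg (fun g : GL (Fin n) F => g.val a c) h1
      let a₀ : Fin n := ⟨0, hn⟩
      have hd : ((B.val a₀ a₀ : K) : F) = (d⁻¹ : Fˣ) := by rw [hval]; simp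
      have hne : B.val a₀ a₀ ≠ 0 := fun h0 => (d⁻¹).ne_zero (by rw [← hd, h0]; rfl)
      refine ⟨Units.mk0 _ hne, Subtype.ext (Prod.ext ?_ ?_)⟩
      · show (u (Units.mk0 _ hne))⁻¹ = d
        rw [inv_eq_iff_eq_inv]
        exact Units.ext hd
      · show sc (Units.mk0 _ hne) = B
        refine Units.ext (Matrix.ext fun a c => Subtype.ext ?_)
        rw [hval, sc_val, sc_val, Matrix.smul_apply, Matrix.smul_apply, Matrix.one_apply, Matrix.one_apply]
        split <;> simp [hd]
  rw [Nat.card_congr (Equiv.subtypeEquivRight fun g => (hset g).symm)]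
  have h := Subgroup.card_mul_index ψ.ker
  haveI : Fintype K := Fintype.ofFinite _
  rw [Subgroup.index_ker, hker, Nat.card_prod, Matrix.card_GL_field, Nat.card_units, Nat.card_units,
    ← Nat.card_eq_fintype_card (α := K), hK, Nat.card_eq_fintype_card (α := F), hF] at h
  have hq : 2 ≤ q₀ := hK ▸ Finite.one_lt_card
  obtain ⟨m, hm⟩ : q₀ - 1 ∣ q₀ ^ r - 1 := by simpa using Nat.sub_dvd_pow_sub_pow q₀ 1 r
  rw [hm, Nat.mul_div_cancel_left _ (show 0 < q₀ - 1 by omega)]
  rw [hm, mul_assoc] at h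
  exact Nat.eq_of_mul_eq_mul_left (show 0 < q₀ - 1 by omega) h

end Cfsg.Agent.S2636
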