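import Cfsg.Statements.S2637
import Cfsg.Agent.Lib.Linear.SymplecticGroup
import Cfsg.Agent.Lib.Linear.HermStandard

set_option autoImplicit false
open Cfsg

namespace Cfsg.Agent.S2637

open Cfsg.Lib.Linear Cfsg.Lib.Linear.Symp Module Polynomial
open scoped Matrix

variable {F : Type*} [Field F] {ι : Type*} [Fintype ι] [DecidableEq ι]

/-- `X² + X + 1`. -/
noncomputable def cyc (F : Type*) [Field F] : F[X] := X ^ 2 + X + 1

theorem cyc_monic : (cyc F).Monic := by
  unfold cyc; monicity!

theorem cyc_natDegree : (cyc F).natDegree = 2 := by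
  unfold cyc; compute_degree!

/-- The scalar action through a matrix. -/
noncomputable def φ (M : Matrix ι ι F) : AdjoinRoot (cyc F) →ₗ[F] Matrix ι ι F :=
  (aeval M).toLinearMap ∘ₗ AdjoinRoot.modByMonicHom cyc_monic

theorem φ_mk {M : Matrix ι ι F} (hM : aeval M (cyc F) = 0) (p : F[X]) :
    φ M (AdjoinRoot.mk (cyc F) p) = aeval M p := by
  show aeval M (AdjoinRoot.modByMonicHom cyc_monic (AdjoinRoot.mk (cyc F) p)) = _
  rw [AdjoinRoot.modByMonicHom_mk]
  conv_rhs => rw [← modByMonic_add_div p (cyc F)]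
  rw [map_add, map_mul, hM, zero_mul, add_zero]

theorem φ_mul {M : Matrix ι ι F} (hM : aeval M (cyc F) = 0) (c d : AdjoinRoot (cyc F)) :
    φ M (c * d) = φ M c * φ M d := by
  induction c using AdjoinRoot.induction_on with | _ p =>
  induction d using AdjoinRoot.induction_on with | _ r =>
  rw [← map_mul, φ_mk hM, φ_mk hM, φ_mk hM, map_mul]

theorem φ_of {M : Matrix ι ι F} (hM : aeval M (cyc F) = 0) (a : F) :
    φ M (AdjoinRoot.of (cyc F) a) = a • 1 := by
  rw [← AdjoinRoot.mk_C, φ_mk hM, aeval_C, Algebra.algebraMap_eq_smul_one]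

theorem φ_root {M : Matrix ι ι F} (hM : aeval M (cyc F) = 0) : φ M (AdjoinRoot.root (cyc F)) = M := by
  rw [← AdjoinRoot.mk_X, φ_mk hM, aeval_X]

/-- The coordinate on the root. -/
noncomputable def lam (F : Type*) [Field F] : AdjoinRoot (cyc F) →ₗ[F] F :=
  (Polynomial.lcoeff F 1) ∘ₗ AdjoinRoot.modByMonicHom cyc_monic

theorem lam_of (a : F) : lam F (AdjoinRoot.of (cyc F) a) = 0 := by
  show (AdjoinRoot.modByMonicHom cyc_monic _).coeff 1 = 0
  rw [← AdjoinRoot.mk_C, AdjoinRoot.modByMonicHom_mk,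
    (modByMonic_eq_self_iff cyc_monic).2 (degree_C_le.trans_lt ?_), coeff_C]
  · simp
  · rw [degree_eq_natDegree cyc_monic.ne_zero, cyc_natDegree]; decide

theorem lam_root : lam F (AdjoinRoot.root (cyc F)) = 1 := by
  show (AdjoinRoot.modByMonicHom cyc_monic _).coeff 1 = 1
  rw [← AdjoinRoot.mk_X, AdjoinRoot.modByMonicHom_mk,
    (modByMonic_eq_self_iff cyc_monic).2 ?_, coeff_X_one]
  rw [degree_X, degree_eq_natDegree cyc_monic.ne_zero, cyc_natDegree]; decide

theorem decomp (c : AdjoinRoot (cyc F)) :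
    ∃ a b : F, c = AdjoinRoot.of (cyc F) a + AdjoinRoot.of (cyc F) b * AdjoinRoot.root (cyc F) := by
  set r := AdjoinRoot.modByMonicHom cyc_monic c with hr
  have hdeg : r.natDegree ≤ 1 := by
    induction c using AdjoinRoot.induction_on with | _ p =>
    have := natDegree_modByMonic_lt p cyc_monic (fun h => by
      have := cyc_natDegree (F := F); rw [h] at this; simp at this)
    rw [cyc_natDegree] at this
    rw [hr, AdjoinRoot.modByMonicHom_mk]
    omega
  refine ⟨r.coeff 0, r.coeff 1, ?_⟩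
  rw [← AdjoinRoot.mk_leftInverse cyc_monic c, ← hr]
  conv_lhs => rw [eq_X_add_C_of_natDegree_le_one hdeg]
  rw [map_add, map_mul, AdjoinRoot.mk_C, AdjoinRoot.mk_C, AdjoinRoot.mk_X, add_comm]

section
variable {F : Type*} [Field F] [Fintype F] {m : ℕ} [Fact (Irreducible (cyc F))]

local notation "𝕂" => AdjoinRoot (cyc F)
local notation "V" => (Fin m ⊕ Fin m → F)

variable {M : Matrix (Fin m ⊕ Fin m) (Fin m ⊕ Fin m) F}

theorem card_K [Fintype 𝕂] : Fintype.card 𝕂 = Fintype.card F ^ 2 := by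
  rw [(Module.card_eq_pow_finrank (K := F) : Fintype.card 𝕂 = _),
    (AdjoinRoot.powerBasis' cyc_monic).finrank, AdjoinRoot.powerBasis'_dim, cyc_natDegree]

theorem root_rel : AdjoinRoot.root (cyc F) ^ 2 + AdjoinRoot.root (cyc F) + 1 = 0 := by
  have h := AdjoinRoot.mk_self (f := cyc F)
  rw [cyc, map_add, map_add, map_pow, map_one] at h
  exact h

theorem root_pow_q (hq : Fintype.card F % 3 = 2) :
    AdjoinRoot.root (cyc F) ^ Fintype.card F = AdjoinRoot.root (cyc F) ^ 2 := by
  have h3 : AdjoinRoot.root (cyc F) ^ 3 = 1 := by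
    linear_combination (AdjoinRoot.root (cyc F) - 1) * root_rel (F := F)
  conv_lhs => rw [← Nat.div_add_mod (Fintype.card F) 3, hq, pow_add, pow_mul, h3, one_pow, one_mul]

variable (hM : aeval M (cyc F) = 0) (hMB : ∀ u v, spB m F (M *ᵥ u) (M *ᵥ v) = spB m F u v)

include hM hMB in
theorem adj_root (u w : V) : spB m F (M *ᵥ u) w = spB m F u ((M * M) *ᵥ w) := by
  have h3 : M * (M * M) = 1 := by
    have h : M * M + M + 1 = 0 := by simpa [cyc, pow_two] using hM
    have : M * M = -M - 1 := by rw [sub_eq_add_neg, ← neg_add, eq_neg_iff_add_eq_zero, ← h, add_assoc]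
    rw [this, mul_sub, mul_neg, mul_one, this]; abel
  conv_rhs => rw [← hMB]
  rw [Matrix.mulVec_mulVec, h3, Matrix.one_mulVec]

include hM hMB in
theorem adj [Fintype 𝕂] (hq : Fintype.card F % 3 = 2) (c : 𝕂) :
    ∀ u w : V, spB m F (φ M c *ᵥ u) w = spB m F u (φ M (c ^ Fintype.card F) *ᵥ w) := by
  obtain ⟨a, b, rfl⟩ := decomp c
  intro u w
  have hfr : (AdjoinRoot.of (cyc F) a + AdjoinRoot.of (cyc F) b * AdjoinRoot.root (cyc F)) ^ Fintype.card F
      = AdjoinRoot.of (cyc F) a + AdjoinRoot.of (cyc F) b * (AdjoinRoot.root (cyc F) * AdjoinRoot.root (cyc F)) := by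
    rw [← Herm.frob_apply card_K, map_add, map_mul, Herm.frob_apply card_K, Herm.frob_apply card_K,
      Herm.frob_apply card_K, root_pow_q hq, ← map_pow, ← map_pow, FiniteField.pow_card,
      FiniteField.pow_card, pow_two]
  rw [hfr]
  simp only [map_add, φ_mul hM, φ_of hM, φ_root hM, smul_mul_assoc, one_mul, Matrix.add_mulVec,
    Matrix.smul_mulVec, Matrix.one_mulVec, map_smul, LinearMap.add_apply, LinearMap.smul_apply]
  rw [adj_root hM hMB]

include hM hMB in
theorem exists_family [Fintype 𝕂] (hq : Fintype.card F % 3 = 2) :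
    ∀ (k : ℕ) (W : Submodule F V), finrank F W = 2 * k → (∀ u ∈ W, M *ᵥ u ∈ W) →
      (∀ u ∈ W, (∀ v ∈ W, spB m F u v = 0) → u = 0) →
      ∃ v : Fin k → V, (∀ i, v i ∈ W) ∧
        ∀ i j c, spB m F (v i) (φ M c *ᵥ v j) = if i = j then lam F c else 0 := by
  have alt : ∀ u, spB m F u u = 0 := spB_isAlt m F
  have sk : ∀ u w, spB m F u w = -spB m F w u := fun u w => (LinearMap.IsAlt.neg (spB_isAlt m F) w u).symm
  have hrel : ∀ u : V, (M * M) *ᵥ u = -(M *ᵥ u) - u := fun u => by
    have h : M * M + M + 1 = 0 := by simpa [cyc, pow_two] using hM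
    have := congrArg (fun N => N *ᵥ u) h
    simp only [Matrix.add_mulVec, Matrix.one_mulVec, Matrix.zero_mulVec] at this
    rw [← sub_eq_zero, ← this]; abel
  intro k
  induction k with
  | zero => exact fun W _ _ _ => ⟨Fin.elim0, fun i => i.elim0, fun i => i.elim0⟩
  | succ k ih =>
    intro W hWk hWM hWn
    have hφW : ∀ c, ∀ u ∈ W, φ M c *ᵥ u ∈ W := fun c u hu => by
      obtain ⟨a, b, rfl⟩ := decomp c
      simp only [map_add, φ_mul hM, φ_of hM, φ_root hM, smul_mul_assoc, one_mul, Matrix.add_mulVec,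
        Matrix.smul_mulVec, Matrix.one_mulVec]
      exact W.add_mem (W.smul_mem _ hu) (W.smul_mem _ (hWM u hu))
    obtain ⟨w, hw, hw0⟩ : ∃ w ∈ W, spB m F w (M *ᵥ w) ≠ 0 := by
      by_contra hc
      push Not at hc
      have hz : ∀ u ∈ W, ∀ v ∈ W, spB m F u (M *ᵥ v) + spB m F v (M *ᵥ u) = 0 := fun u hu v hv => by
        have := hc (u + v) (W.add_mem hu hv)
        simpa [Matrix.mulVec_add, hc u hu, hc v hv] using this
      have hbot : W = ⊥ := by
        rw [eq_bot_iff]
        intro u hu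
        rw [Submodule.mem_bot]
        have h1 : ∀ v ∈ W, spB m F ((2 : ℕ) • (M *ᵥ u) + u) v = 0 := fun v hv => by
          have := hz u hu v hv
          rw [sk u (M *ᵥ v), adj_root hM hMB, hrel] at this
          simp only [map_sub, map_neg] at this
          rw [map_add, map_nsmul, LinearMap.add_apply, LinearMap.smul_apply, two_nsmul,
            sk (M *ᵥ u) v, sk u v]
          linear_combination (-1 : F) * this
        have h2 := hWn _ (W.add_mem (W.smul_of_tower_mem _ (hWM u hu)) hu) h1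
        have h3 : M *ᵥ ((2 : ℕ) • (M *ᵥ u) + u) = 0 := by rw [h2, Matrix.mulVec_zero]
        rw [Matrix.mulVec_add, Matrix.mulVec_smul, Matrix.mulVec_mulVec, hrel] at h3
        have h4 : (3 : ℕ) • u = 0 := by
          linear_combination (norm := module) -((2 : ℤ) • h3) - h2
        have h3F : ((3 : ℕ) : F) ≠ 0 := fun h0 => by
          haveI : Fact (Nat.Prime 3) := ⟨Nat.prime_three⟩
          have h5 : ringChar F ∣ 3 := ringChar.dvd h0
          have hp : (ringChar F).Prime := CharP.char_is_prime F _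
          rw [Nat.prime_dvd_prime_iff_eq hp Nat.prime_three] at h5
          haveI : CharP F 3 := ringChar.of_eq h5
          obtain ⟨n, -, hn⟩ := FiniteField.card F 3
          rw [hn, Nat.pow_mod, Nat.mod_self, zero_pow n.pos.ne'] at hq
          omega
        rw [← Nat.cast_smul_eq_nsmul F] at h4
        exact (smul_eq_zero.1 h4).resolve_left h3F
      rw [hbot, finrank_bot] at hWk
      omega
    -- normalisation
    set μ := spB m F w (M *ᵥ w)
    obtain ⟨c, hc⟩ : ∃ c : 𝕂, c ^ Fintype.card F * c = AdjoinRoot.of (cyc F) μ⁻¹ := by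
      obtain ⟨c, hc⟩ := Herm.exists_norm_eq (μ := AdjoinRoot.of (cyc F) μ⁻¹) card_K
        ((_root_.map_ne_zero _).2 (inv_ne_zero hw0)) (by rw [← map_pow, FiniteField.pow_card])
      exact ⟨c, by rw [← pow_succ]; exact hc⟩
    set v := φ M c *ᵥ w with hv
    have hvW : v ∈ W := hφW c w hw
    have hvv : spB m F v (M *ᵥ v) = 1 := by
      rw [hv, adj hM hMB hq, Matrix.mulVec_mulVec, Matrix.mulVec_mulVec]
      nth_rw 2 [← φ_root hM]
      rw [← φ_mul hM, ← φ_mul hM, mul_comm _ c, ← mul_assoc, mul_comm c (c ^ Fintype.card F), hc, φ_mul hM, φ_of hM, φ_root hM,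
        smul_mul_assoc, one_mul, Matrix.smul_mulVec, map_smul, smul_eq_mul]
      exact inv_mul_cancel₀ hw0
    have hvv' : spB m F (M *ᵥ v) v = -1 := by rw [sk, hvv]
    have hlam : ∀ d, spB m F v (φ M d *ᵥ v) = lam F d := fun d => by
      obtain ⟨a, b, rfl⟩ := decomp d
      rw [show lam F (AdjoinRoot.of (cyc F) a + AdjoinRoot.of (cyc F) b * AdjoinRoot.root (cyc F)) = b by
        rw [map_add, lam_of, zero_add, ← AdjoinRoot.algebraMap_eq, ← Algebra.smul_def, map_smul, lam_root,
          smul_eq_mul, mul_one]]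
      simp only [map_add, φ_mul hM, φ_of hM, φ_root hM, smul_mul_assoc, one_mul, Matrix.add_mulVec,
        Matrix.smul_mulVec, Matrix.one_mulVec, map_smul, smul_eq_mul, alt v, hvv, mul_zero, mul_one,
        zero_add]
    let P : W →ₗ[F] F × F := ((spB m F v).prod (spB m F (M *ᵥ v))).comp W.subtype
    let W' : Submodule F V := (LinearMap.ker P).map W.subtype
    have memW' : ∀ y, y ∈ W' ↔ y ∈ W ∧ spB m F v y = 0 ∧ spB m F (M *ᵥ v) y = 0 := fun y => by
      constructor
      · rintro ⟨z, hz, rfl⟩; exact ⟨z.2, congrArg Prod.fst hz, congrArg Prod.snd hz⟩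
      · rintro ⟨hy, h1, h2⟩; exact ⟨⟨y, hy⟩, Prod.ext h1 h2, rfl⟩
    have hdim : finrank F W' = 2 * k := by
      have h1 := LinearMap.finrank_range_add_finrank_ker P
      have hs : Function.Surjective P := fun p =>
        ⟨⟨p.1 • (M *ᵥ v) - p.2 • v, W.sub_mem (W.smul_mem _ (hWM v hvW)) (W.smul_mem _ hvW)⟩, by
          simp [P, alt, hvv, hvv']⟩
      rw [LinearMap.range_eq_top.2 hs, finrank_top, finrank_prod, finrank_self, hWk] at h1
      rw [Submodule.finrank_map_subtype_eq]
      omega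
    have hW'M : ∀ y ∈ W', M *ᵥ y ∈ W' := fun y hy => by
      obtain ⟨hyW, h1, h2⟩ := (memW' y).1 hy
      refine (memW' _).2 ⟨hWM y hyW, ?_, by rw [hMB]; exact h1⟩
      have h5 : spB m F y (M *ᵥ v) = 0 := by rw [sk, h2, neg_zero]
      rw [sk, adj_root hM hMB, hrel, map_sub, map_neg, h5, sk y v, h1]
      simp
    have hW'n : ∀ u ∈ W', (∀ y ∈ W', spB m F u y = 0) → u = 0 := fun u hu h => by
      obtain ⟨huW, h1, h2⟩ := (memW' u).1 hu
      refine hWn u huW fun y hy => ?_
      have := h (y - spB m F v y • (M *ᵥ v) + spB m F (M *ᵥ v) y • v) ((memW' _).2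
        ⟨W.add_mem (W.sub_mem hy (W.smul_mem _ (hWM v hvW))) (W.smul_mem _ hvW),
          by simp [alt, hvv], by simp [alt, hvv']⟩)
      simpa [sk u v, sk u (M *ᵥ v), h1, h2] using this
    obtain ⟨f, hf, hfo⟩ := ih W' hdim hW'M hW'n
    have hW'φ : ∀ d, ∀ y ∈ W', φ M d *ᵥ y ∈ W' := fun d y hy => by
      obtain ⟨a, b, rfl⟩ := decomp d
      simp only [map_add, φ_mul hM, φ_of hM, φ_root hM, smul_mul_assoc, one_mul, Matrix.add_mulVec,
        Matrix.smul_mulVec, Matrix.one_mulVec]
      exact W'.add_mem (W'.smul_mem _ hy) (W'.smul_mem _ (hW'M y hy))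
    refine ⟨Fin.cons v f, fun i => Fin.cases hvW (fun j => ((memW' _).1 (hf j)).1) i, fun i j d => ?_⟩
    induction i using Fin.cases with
    | zero =>
      induction j using Fin.cases with
      | zero => simpa using hlam d
      | succ j =>
        rw [if_neg (Fin.succ_ne_zero j).symm]
        simpa using ((memW' _).1 (hW'φ d _ (hf j))).2.1
    | succ i =>
      induction j using Fin.cases with
      | zero =>
        rw [if_neg (Fin.succ_ne_zero i)]
        simp only [Fin.cons_succ, Fin.cons_zero]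
        rw [sk, adj hM hMB hq, ((memW' _).1 (hW'φ _ _ (hf i))).2.1, neg_zero]
      | succ j => simpa [Fin.succ_inj] using hfo i j d

end

variable [Fintype F]

theorem main {q : ℕ} (hF : Fintype.card F = q) (hq : q % 3 = 2) {m : ℕ}
    (x : Matrix.symplecticGroup (Fin m) F) (hx3 : x ^ 3 = 1)
    (hfpf : IsUnit ((x : Matrix (Fin m ⊕ Fin m) (Fin m ⊕ Fin m) F) - 1)) :
    (Nat.card ↥(Subgroup.centralizer ({x} : Set ↥(Matrix.symplecticGroup (Fin m) F))) : ℤ) =
      (q : ℤ) ^ (m * (m - 1) / 2) * ∏ i : Fin m, ((q : ℤ) ^ ((i : ℕ) + 1) - (-1) ^ ((i : ℕ) + 1)) := by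
  classical
  subst hF
  haveI : Fact (Irreducible (cyc F)) := ⟨by
    rw [Monic.irreducible_iff_roots_eq_zero_of_degree_le_three cyc_monic (by rw [cyc_natDegree])
      (by rw [cyc_natDegree]; omega), Multiset.eq_zero_iff_forall_notMem]
    intro r hr
    rw [mem_roots cyc_monic.ne_zero, IsRoot, cyc] at hr
    simp only [eval_add, eval_pow, eval_X, eval_one] at hr
    have h3 : r ^ 3 = 1 := by linear_combination (r - 1) * hr
    have hr0 : r ≠ 0 := fun h => by simp [h] at hr
    have hr1 : r = 1 := by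
      have h1 := FiniteField.pow_card_sub_one_eq_one r hr0
      have : r ^ (Fintype.card F - 1) = r := by
        conv_lhs => rw [show Fintype.card F - 1 = 3 * (Fintype.card F / 3) + 1 by omega, pow_add, pow_mul,
          h3, one_pow, one_mul, pow_one]
      rw [← this, h1]
    subst hr1
    have h5 : ((3 : ℕ) : F) = 0 := by norm_num; linear_combination hr
    have h6 : ringChar F ∣ 3 := ringChar.dvd h5
    rw [Nat.prime_dvd_prime_iff_eq (CharP.char_is_prime F _) Nat.prime_three] at h6
    haveI : CharP F 3 := ringChar.of_eq h6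
    haveI : Fact (Nat.Prime 3) := ⟨Nat.prime_three⟩
    obtain ⟨n, -, hn⟩ := FiniteField.card F 3
    rw [hn, Nat.pow_mod, Nat.mod_self, zero_pow n.pos.ne'] at hq
    omega⟩
  haveI : Module.Finite F (AdjoinRoot (cyc F)) := cyc_monic.finite_adjoinRoot
  haveI : Finite (AdjoinRoot (cyc F)) := Module.finite_of_finite F
  haveI := Fintype.ofFinite (AdjoinRoot (cyc F))
  set K := AdjoinRoot (cyc F)
  set M : Matrix (Fin m ⊕ Fin m) (Fin m ⊕ Fin m) F := x.1 with hMdef
  have hMB : ∀ u v, spB m F (M *ᵥ u) (M *ᵥ v) = spB m F u v := (mem_symplecticGroup_iff _).1 x.2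
  have hM : aeval M (cyc F) = 0 := by
    have h : (M - 1) * aeval M (cyc F) = 0 := by
      have e : M ^ 3 = 1 := by rw [hMdef, ← SubmonoidClass.coe_pow, hx3]; rfl
      have : (M - 1) * (M ^ 2 + M + 1) = M ^ 3 - 1 := by noncomm_ring
      simpa [cyc, e] using this
    exact hfpf.mul_right_eq_zero.1 h
  obtain ⟨v, -, hvo⟩ := exists_family hM hMB hq m ⊤ (by rw [finrank_top, finrank_space])
    (fun _ _ => trivial) (fun u _ h => (spB_nondegenerate m F).1 u fun w => h w trivial)
  -- the parametrisation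
  let e0 : (Fin m → K) →ₗ[F] (Fin m ⊕ Fin m → F) :=
    ∑ i, ((Matrix.mulVecBilin F F).flip (v i)) ∘ₗ φ M ∘ₗ LinearMap.proj i
  have e0_apply : ∀ a, e0 a = ∑ i, φ M (a i) *ᵥ v i := fun a => by
    simp [e0, LinearMap.sum_apply]
  have hform : ∀ a b, spB m F (e0 a) (e0 b) = lam F (Herm.hB card_K m a b) := fun a b => by
    rw [e0_apply, e0_apply, Herm.hB_apply, Cfsg.hermForm, map_sum (spB m F (∑ i, φ M (a i) *ᵥ v i)), map_sum (lam F)]
    refine Finset.sum_congr rfl fun j _ => ?_
    rw [map_sum, LinearMap.sum_apply, Finset.sum_eq_single j]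
    · rw [adj hM hMB hq, Matrix.mulVec_mulVec, ← φ_mul hM, hvo, if_pos rfl, mul_comm]
    · intro i _ hij
      rw [adj hM hMB hq, Matrix.mulVec_mulVec, ← φ_mul hM, hvo, if_neg hij]
    · simp
  have hlamnd : ∀ z : K, (∀ d, lam F (d * z) = 0) → z = 0 := fun z hz => by
    by_contra h
    have := hz (AdjoinRoot.root (cyc F) * z⁻¹)
    rw [mul_assoc, inv_mul_cancel₀ h, mul_one, lam_root] at this
    exact one_ne_zero this
  have hinj : Function.Injective e0 := by
    rw [← LinearMap.ker_eq_bot, LinearMap.ker_eq_bot']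
    intro b hb
    refine (Herm.hB_nondegenerate card_K m).2 b fun a => hlamnd _ fun d => ?_
    have h := hform (Herm.frob card_K d • a) b
    rw [hb, map_zero, LinearMap.map_smulₛₗ, LinearMap.smul_apply, smul_eq_mul, Herm.frob_frob] at h
    exact h.symm
  let e : (Fin m → K) ≃ₗ[F] (Fin m ⊕ Fin m → F) := LinearEquiv.ofBijective e0
    ⟨hinj, (LinearMap.injective_iff_surjective_of_finrank_eq_finrank (by
      rw [finrank_space, Module.finrank_pi_fintype, (AdjoinRoot.powerBasis' cyc_monic).finrank,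
        AdjoinRoot.powerBasis'_dim, cyc_natDegree, Finset.sum_const, Finset.card_univ, Fintype.card_fin,
        smul_eq_mul, mul_comm])).1 hinj⟩
  have he : ∀ a b, spB m F (e a) (e b) = lam F (Herm.hB card_K m a b) := hform
  have heM : ∀ a, e (AdjoinRoot.root (cyc F) • a) = M *ᵥ e a := fun a => by
    show e0 _ = M *ᵥ e0 a
    rw [e0_apply, e0_apply, Matrix.mulVec_sum]
    refine Finset.sum_congr rfl fun i _ => ?_
    rw [Pi.smul_apply, smul_eq_mul, φ_mul hM, φ_root hM, Matrix.mulVec_mulVec]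
  let down : Herm.iso (Herm.hB (card_K (F := F)) m) → Subgroup.centralizer ({spEquiv x} : Set (iso (spB m F))) :=
    fun g => ⟨⟨e.symm ≪≫ₗ (g : (Fin m → K) ≃ₗ[K] (Fin m → K)).restrictScalars F ≪≫ₗ e, fun u w => by
      obtain ⟨a, rfl⟩ := e.surjective u
      obtain ⟨b, rfl⟩ := e.surjective w
      simp only [LinearEquiv.trans_apply, LinearEquiv.symm_apply_apply, LinearEquiv.restrictScalars_apply, he]
      rw [g.2]⟩, Subgroup.mem_centralizer_singleton_iff.2 (Subtype.ext (LinearEquiv.ext fun u => by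
        obtain ⟨a, rfl⟩ := e.surjective u
        simp only [Subgroup.coe_mul, LinearEquiv.mul_apply, spEquiv_apply, LinearEquiv.trans_apply,
          LinearEquiv.symm_apply_apply, LinearEquiv.restrictScalars_apply, ← hMdef]
        rw [← heM, ← heM, e.symm_apply_apply]
        exact congrArg e (map_smul (g : (Fin m → K) ≃ₗ[K] (Fin m → K)) _ a)))⟩
  have hdown : Function.Bijective down := by
    constructor
    · intro g h hgh
      refine Subtype.ext (LinearEquiv.ext fun a => e.injective ?_)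
      have := LinearEquiv.congr_fun (congrArg (fun z : Subgroup.centralizer ({spEquiv x} : Set (iso (spB m F))) =>
        ((z : iso (spB m F)) : (Fin m ⊕ Fin m → F) ≃ₗ[F] (Fin m ⊕ Fin m → F))) hgh) (e a)
      simpa [down] using this
    · intro h
      set T : (Fin m → K) ≃ₗ[F] (Fin m → K) :=
        e ≪≫ₗ ((h : iso (spB m F)) : (Fin m ⊕ Fin m → F) ≃ₗ[F] (Fin m ⊕ Fin m → F)) ≪≫ₗ e.symm with hT
      have hTr : ∀ a, T (AdjoinRoot.root (cyc F) • a) = AdjoinRoot.root (cyc F) • T a := fun a => by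
        apply e.injective
        have hc := LinearEquiv.congr_fun (congrArg Subtype.val
          (Subgroup.mem_centralizer_singleton_iff.1 h.2)) (e a)
        simp only [Subgroup.coe_mul, LinearEquiv.mul_apply, spEquiv_apply, ← hMdef] at hc
        simp only [hT, LinearEquiv.trans_apply, e.apply_symm_apply, heM]
        exact hc
      have hTs : ∀ (c : K) a, T (c • a) = c • T a := fun c a => by
        obtain ⟨p, r, rfl⟩ := decomp c
        have hsm : ∀ (p : F) (z : Fin m → K), (algebraMap F (AdjoinRoot (cyc F)) p) • z = p • z := fun p z => by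
          funext i; exact (Algebra.smul_def p (z i)).symm
        simp only [add_smul, mul_smul, ← AdjoinRoot.algebraMap_eq, hsm, map_add, map_smul, hTr]
      let TK : (Fin m → K) ≃ₗ[K] (Fin m → K) := { T with map_smul' := hTs }
      have hTK : ∀ a b, Herm.hB card_K m (TK a) (TK b) = Herm.hB card_K m a b := fun a b => by
        refine sub_eq_zero.1 (hlamnd _ fun d => ?_)
        have h1 : ∀ a b, lam F (Herm.hB card_K m (T a) (T b)) = lam F (Herm.hB card_K m a b) := fun a b => by
          rw [← he, ← he]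
          simp only [hT, LinearEquiv.trans_apply, e.apply_symm_apply]
          exact (h : iso (spB m F)).2 _ _
        have h2 := h1 a (d • b)
        rw [hTs, (Herm.hB card_K m (T a)).map_smul, (Herm.hB card_K m a).map_smul, smul_eq_mul, smul_eq_mul] at h2
        rw [mul_sub, map_sub, sub_eq_zero]
        exact h2
      refine ⟨⟨TK, hTK⟩, Subtype.ext (Subtype.ext (LinearEquiv.ext fun u => ?_))⟩
      obtain ⟨a, rfl⟩ := e.surjective u
      show e (T (e.symm (e a))) = _
      simp [hT]
  have hcongr : Nat.card (Subgroup.centralizer ({x} : Set ↥(Matrix.symplecticGroup (Fin m) F))) =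
      Nat.card (Subgroup.centralizer ({spEquiv x} : Set (iso (spB m F)))) := by
    refine Nat.card_congr (spEquiv.toEquiv.subtypeEquiv fun g => ?_)
    show g ∈ _ ↔ spEquiv g ∈ _
    rw [Subgroup.mem_centralizer_singleton_iff, Subgroup.mem_centralizer_singleton_iff, ← map_mul,
      ← map_mul, spEquiv.injective.eq_iff]
  rw [hcongr, ← Nat.card_congr (Equiv.ofBijective down hdown), Herm.card_iso_hB, Nat.cast_mul,
    Nat.cast_pow, Nat.cast_prod, Finset.prod_range]
  refine congrArg _ (Finset.prod_congr rfl fun i _ => ?_)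
  split_ifs with hi
  · obtain ⟨j, hj⟩ := hi
    rw [hj, pow_succ (-1 : ℤ), Even.neg_one_pow ⟨j, rfl⟩]
    push_cast; ring
  · rw [Nat.not_even_iff_odd] at hi
    rw [Even.neg_one_pow hi.add_one, Nat.cast_sub (Nat.one_le_pow _ _ (by omega))]
    push_cast; ring

/-- Centraliser of a fixed-point-free element of order three in Sp_2m(q) when q ≡ 2 (mod 3): if x ∈ Sp_2m(F) (|F| = q, m ≥ 1) satisfies x³ = 1 and x − 1 is invertible, then its centraliser in Sp_2m(F) has the order of the unitary group GU_m(q), namely q^(m(m−1)/2) Π_(i=1)^m (q^i − (−1)^i) (x lies in the centre of a subgroup GU_m(q) of Sp_2m(q)). -/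
theorem result {F : Type*} [Field F] [Fintype F] {q : ℕ} (hF : Fintype.card F = q) (hq : q % 3 = 2) {m : ℕ} (hm : 1 ≤ m) (x : Matrix.symplecticGroup (Fin m) F) (hx3 : x ^ 3 = 1) (hfpf : IsUnit ((x : Matrix (Fin m ⊕ Fin m) (Fin m ⊕ Fin m) F) - 1)) : (Nat.card ↥(Subgroup.centralizer ({x} : Set ↥(Matrix.symplecticGroup (Fin m) F))) : ℤ) = (q : ℤ) ^ (m * (m - 1) / 2) * ∏ i : Fin m, ((q : ℤ) ^ ((i : ℕ) + 1) - (-1) ^ ((i : ℕ) + 1)) := by
  exact main hF hq x hx3 hfpf

end Cfsg.Agent.S2637
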