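import Cfsg.Statements.S2639
import Cfsg.Agent.Lib.Linear.FieldReduce

set_option autoImplicit false
open Cfsg
open scoped Matrix

namespace Cfsg.Agent.S2639

/-- The unitary group embeds in the symplectic group of twice the dimension over the subfield: for a field K with q² elements and a field F with q elements (isomorphic to the subfield of K of order q), there is an injective homomorphism GU_m(q) → Sp_2m(F). -/
theorem result {K F : Type*} [Field K] [Fintype K] [Field F] [Fintype F] {q : ℕ} (hK : Fintype.card K = q ^ 2) (hF : Fintype.card F = q) (m : ℕ) : ∃ φ : ↥(Cfsg.GU m K q) →* ↥(Matrix.symplecticGroup (Fin m) F), Function.Injective φ := by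
  classical
  obtain ⟨_inst, hfr⟩ := Lib.Linear.FieldReduce.exists_algebra hF hK
  obtain ⟨w, hw⟩ := Lib.Linear.FieldReduce.exists_outside hF hK
  obtain ⟨P, hP⟩ := Lib.Linear.FieldReduce.exists_basis_equiv hF hK hw
  let f : (Fin m → K) →ₗ[F] (Fin m ⊕ Fin m → F) := LinearMap.pi (Sum.elim
    (fun i => ((LinearMap.fst F F F).comp P.symm.toLinearMap).comp (LinearMap.proj i))
    (fun i => ((LinearMap.snd F F F).comp P.symm.toLinearMap).comp (LinearMap.proj i)))
  have hf : ∀ u, f u = 0 → u = 0 := fun u hu => funext fun i => P.symm.injective (by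
    rw [Pi.zero_apply, map_zero]
    exact Prod.ext (congrFun hu (.inl i)) (congrFun hu (.inr i)))
  obtain ⟨E, hE⟩ := Lib.Linear.FieldReduce.exists_coords (by rw [hfr, Fintype.card_sum]; ring) f hf
  have key : ∀ u v, (P.symm (Cfsg.hermForm m K q u v)).2 = E u ⬝ᵥ (Matrix.J (Fin m) F *ᵥ E v) := by
    intro u v
    rw [Lib.Linear.FieldReduce.dot_J, Cfsg.hermForm, map_sum, Prod.snd_sum]
    refine Finset.sum_congr rfl fun i _ => ?_
    rw [hE, hE]
    show (P.symm (u i * v i ^ q)).2 = (P.symm (u i)).2 * (P.symm (v i)).1 - (P.symm (u i)).1 * (P.symm (v i)).2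
    obtain ⟨⟨a, b⟩, hab⟩ := P.surjective (u i)
    obtain ⟨⟨c, d⟩, hcd⟩ := P.surjective (v i)
    rw [← hab, ← hcd, P.symm_apply_apply, P.symm_apply_apply]
    obtain ⟨t, ht⟩ := Lib.Linear.FieldReduce.mem_range_of_fixed hF hK (Lib.Linear.FieldReduce.fixed_trace hF hK w)
    obtain ⟨n, hn⟩ := Lib.Linear.FieldReduce.mem_range_of_fixed hF hK (x := w * w ^ q)
      (by rw [mul_pow, Lib.Linear.FieldReduce.conj_conj hK, mul_comm])
    have h : P (a, b) * P (c, d) ^ q = P (a * c + a * d * t + b * d * n, b * c - a * d) := by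
      rw [hP, hP, hP, Lib.Linear.FieldReduce.conj_add hF hK, mul_pow, Lib.Linear.FieldReduce.conj_base hF hK,
        Lib.Linear.FieldReduce.conj_base hF hK]
      simp only [map_add, map_mul, map_sub, ht, hn]
      ring
    rw [h, P.symm_apply_apply]
  have mem : ∀ g : Cfsg.GU m K q, Lib.Linear.FieldReduce.restrictMat E ((g : GL (Fin m) K) : Matrix _ _ K) ∈
      Matrix.symplecticGroup (Fin m) F := by
    intro g
    refine Lib.Linear.FieldReduce.symp_of_form fun x y => ?_
    obtain ⟨u, rfl⟩ := E.surjective x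
    obtain ⟨v, rfl⟩ := E.surjective y
    rw [Lib.Linear.FieldReduce.restrictMat_mulVec, Lib.Linear.FieldReduce.restrictMat_mulVec, ← key, ← key]
    have := g.2 u v
    exact congrArg (fun z => (P.symm z).2) this
  refine ⟨{ toFun := fun g => ⟨_, mem g⟩, map_one' := Subtype.ext (map_one _),
            map_mul' := fun g h => Subtype.ext (map_mul _ _ _) }, fun g h e => ?_⟩
  exact Subtype.ext (Units.ext (Lib.Linear.FieldReduce.restrictMat_injective E (congrArg Subtype.val e)))

end Cfsg.Agent.S2639
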