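import Cfsg.Statements.S2640
import Cfsg.Agent.Lib.Linear.FieldReduce

set_option autoImplicit false
open Cfsg
open scoped Matrix

namespace Cfsg.Agent.S2640

/-- For m even, the unitary group GU_m(q) (over the field with q² elements) embeds in the orthogonal group O⁺_2m(q) of the hyperbolic form Σ x_i y_i over the field with q elements (there is an injective homomorphism). -/
theorem result {K F : Type*} [Field K] [Fintype K] [Field F] [Fintype F] {q : ℕ} (hK : Fintype.card K = q ^ 2) (hF : Fintype.card F = q) (m : ℕ) (hm : Even m) : ∃ φ : ↥(Cfsg.GU m K q) →* ↥(Cfsg.isometryGroup F (Cfsg.quadFormPlus m F)), Function.Injective φ := by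
  classical
  obtain ⟨_inst, hfr⟩ := Lib.Linear.FieldReduce.exists_algebra hF hK
  obtain ⟨w, hw⟩ := Lib.Linear.FieldReduce.exists_outside hF hK
  obtain ⟨f₂, hf₂, hsum⟩ := Lib.Linear.FieldReduce.exists_pair hF hK hw
  obtain ⟨k, rfl⟩ := hm
  let π : Fin k → (Fin (k + k) → K) →ₗ[F] (F × F) × (F × F) := fun i =>
    f₂.comp (LinearMap.prod (LinearMap.proj (Fin.castAdd k i)) (LinearMap.proj (Fin.natAdd k i)))
  let f : (Fin (k + k) → K) →ₗ[F] (Fin (k + k) ⊕ Fin (k + k) → F) := LinearMap.pi (Sum.elim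
    (fun j => Sum.elim (fun i => ((LinearMap.fst F F F).comp (LinearMap.fst F (F × F) (F × F))).comp (π i))
      (fun i => ((LinearMap.snd F F F).comp (LinearMap.fst F (F × F) (F × F))).comp (π i)) (finSumFinEquiv.symm j))
    (fun j => Sum.elim (fun i => ((LinearMap.fst F F F).comp (LinearMap.snd F (F × F) (F × F))).comp (π i))
      (fun i => ((LinearMap.snd F F F).comp (LinearMap.snd F (F × F) (F × F))).comp (π i)) (finSumFinEquiv.symm j)))
  have h11 : ∀ u i, f u (.inl (Fin.castAdd k i)) = (f₂ (u (Fin.castAdd k i), u (Fin.natAdd k i))).1.1 :=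
    fun u i => by simp [f, π, -Fin.natAdd_eq_addNat]
  have h12 : ∀ u i, f u (.inl (Fin.natAdd k i)) = (f₂ (u (Fin.castAdd k i), u (Fin.natAdd k i))).1.2 :=
    fun u i => by simp [f, π, -Fin.natAdd_eq_addNat]
  have h21 : ∀ u i, f u (.inr (Fin.castAdd k i)) = (f₂ (u (Fin.castAdd k i), u (Fin.natAdd k i))).2.1 :=
    fun u i => by simp [f, π, -Fin.natAdd_eq_addNat]
  have h22 : ∀ u i, f u (.inr (Fin.natAdd k i)) = (f₂ (u (Fin.castAdd k i), u (Fin.natAdd k i))).2.2 :=
    fun u i => by simp [f, π, -Fin.natAdd_eq_addNat]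
  have hf : ∀ u, f u = 0 → u = 0 := by
    intro u hu
    have hz : ∀ i, (u (Fin.castAdd k i), u (Fin.natAdd k i)) = (0 : K × K) := fun i => hf₂ _ (Prod.ext
      (Prod.ext ((h11 u i).symm.trans (congrFun hu _)) ((h12 u i).symm.trans (congrFun hu _)))
      (Prod.ext ((h21 u i).symm.trans (congrFun hu _)) ((h22 u i).symm.trans (congrFun hu _))))
    funext j
    refine Fin.addCases (fun i => congrArg Prod.fst (hz i)) (fun i => congrArg Prod.snd (hz i)) j
  obtain ⟨E, hE⟩ := Lib.Linear.FieldReduce.exists_coords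
    (by rw [hfr, Fintype.card_sum, Fintype.card_fin]; ring) f hf
  have key : ∀ u, algebraMap F K (Cfsg.quadFormPlus (k + k) F (E u)) = Cfsg.hermForm (k + k) K q u u := by
    intro u
    rw [hE, Cfsg.quadFormPlus, Cfsg.hermForm, Fin.sum_univ_add, Fin.sum_univ_add, map_add, map_sum, map_sum,
      ← Finset.sum_add_distrib, ← Finset.sum_add_distrib]
    refine Finset.sum_congr rfl fun i _ => ?_
    rw [h11, h12, h21, h22, ← map_add]
    exact hsum _
  have mem : ∀ g : Cfsg.GU (k + k) K q, Units.map (Lib.Linear.FieldReduce.restrictMat E) (g : GL (Fin (k + k)) K) ∈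
      Cfsg.isometryGroup F (Cfsg.quadFormPlus (k + k) F) := by
    intro g x y
    obtain ⟨u, rfl⟩ := E.surjective x
    refine (algebraMap F K).injective ?_
    show algebraMap F K (Cfsg.quadFormPlus (k + k) F (Lib.Linear.FieldReduce.restrictMat E _ *ᵥ E u)) = _
    rw [Lib.Linear.FieldReduce.restrictMat_mulVec, key, key]
    exact g.2 u u
  refine ⟨{ toFun := fun g => ⟨_, mem g⟩, map_one' := Subtype.ext (map_one _),
            map_mul' := fun g h => Subtype.ext (map_mul _ _ _) }, fun g h e' => ?_⟩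
  exact Subtype.ext (Units.ext (Lib.Linear.FieldReduce.restrictMat_injective E
    (congrArg Units.val (congrArg Subtype.val e'))))

end Cfsg.Agent.S2640
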