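import Cfsg.Statements.S2641
import Cfsg.Agent.Lib.Linear.FieldReduce

set_option autoImplicit false
open Cfsg
open scoped Matrix

namespace Cfsg.Agent.S2641

/-- For m odd, the unitary group GU_m(q) (over the field with q² elements) embeds in the orthogonal group O⁻_2m(q) of an elliptic form (Σ_(i<m−1) x_i y_i plus an anisotropic binary form) over the field with q elements (there is an injective homomorphism). -/
theorem result {K F : Type*} [Field K] [Fintype K] [Field F] [Fintype F] {q : ℕ} (hK : Fintype.card K = q ^ 2) (hF : Fintype.card F = q) (m : ℕ) (hm : Odd m) (a b : F) (hab : ∀ z₁ z₂ : F, z₁ ^ 2 + a * z₁ * z₂ + b * z₂ ^ 2 = 0 → z₁ = 0 ∧ z₂ = 0) : ∃ φ : ↥(Cfsg.GU m K q) →* ↥(Cfsg.isometryGroup F (Cfsg.quadFormMinus (m - 1) F a b)), Function.Injective φ := by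
  classical
  obtain ⟨_inst, hfr⟩ := Lib.Linear.FieldReduce.exists_algebra hF hK
  obtain ⟨k, rfl⟩ : ∃ k, m = k + k + 1 := by obtain ⟨k, hk⟩ := hm; exact ⟨k, by omega⟩
  show ∃ φ : ↥(Cfsg.GU (k + k + 1) K q) →* ↥(Cfsg.isometryGroup F (Cfsg.quadFormMinus (k + k) F a b)),
    Function.Injective φ
  -- a root outside `F` of `X² - a X + b`
  obtain ⟨w, hw, hsum', hprod⟩ : ∃ w : K, w ^ q ≠ w ∧ w + w ^ q = algebraMap F K a ∧
      w * w ^ q = algebraMap F K b := by
    have hirr : Irreducible (Polynomial.X ^ 2 - Polynomial.C a * Polynomial.X + Polynomial.C b : Polynomial F) := by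
      have hdeg : (Polynomial.X ^ 2 - Polynomial.C a * Polynomial.X + Polynomial.C b : Polynomial F).natDegree = 2 := by
        compute_degree!
      refine (Polynomial.irreducible_iff_roots_eq_zero_of_degree_le_three (by omega) (by omega)).mpr ?_
      refine Multiset.eq_zero_of_forall_notMem fun r hr => ?_
      rw [Polynomial.mem_roots (fun h => by rw [h] at hdeg; simp at hdeg)] at hr
      simp at hr
      exact one_ne_zero (neg_eq_zero.mp (hab r (-1) (by linear_combination hr)).2)
    haveI := Fact.mk hirr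
    have hne : (Polynomial.X ^ 2 - Polynomial.C a * Polynomial.X + Polynomial.C b : Polynomial F) ≠ 0 := hirr.ne_zero
    obtain ⟨ψ⟩ : Nonempty (AdjoinRoot (Polynomial.X ^ 2 - Polynomial.C a * Polynomial.X + Polynomial.C b :
        Polynomial F) →ₐ[F] K) := by
      refine FiniteField.nonempty_algHom_of_finrank_dvd (dvd_of_eq ?_)
      rw [(AdjoinRoot.powerBasis hne).finrank, hfr, AdjoinRoot.powerBasis_dim]
      compute_degree!
    set w := ψ (AdjoinRoot.root _) with hwdef
    have hroot : w ^ 2 - algebraMap F K a * w + algebraMap F K b = 0 := by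
      have h1 := congrArg ψ (AdjoinRoot.eval₂_root (Polynomial.X ^ 2 - Polynomial.C a * Polynomial.X + Polynomial.C b :
        Polynomial F))
      simp only [Polynomial.eval₂_add, Polynomial.eval₂_sub, Polynomial.eval₂_mul, Polynomial.eval₂_X_pow,
        Polynomial.eval₂_C, Polynomial.eval₂_X, map_add, map_sub, map_mul, map_pow, map_zero] at h1
      rwa [← AdjoinRoot.algebraMap_eq, ψ.commutes, ψ.commutes] at h1
    have hw : w ^ q ≠ w := by
      intro h
      obtain ⟨r, hr⟩ := Lib.Linear.FieldReduce.mem_range_of_fixed hF hK h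
      rw [← hr, ← map_pow, ← map_mul, ← map_sub, ← map_add, map_eq_zero] at hroot
      exact one_ne_zero (neg_eq_zero.mp (hab r (-1) (by linear_combination hroot)).2)
    have hroot' : (w ^ q) ^ 2 - algebraMap F K a * w ^ q + algebraMap F K b = 0 := by
      have hz : (0 : K) ^ q = 0 := zero_pow (show q ≠ 0 from hF ▸ Fintype.card_ne_zero)
      have h1 := congrArg (fun z => z ^ q) hroot
      simp only [hz] at h1
      rw [Lib.Linear.FieldReduce.conj_add hF hK, sub_eq_add_neg, Lib.Linear.FieldReduce.conj_add hF hK,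
        ← neg_mul, ← map_neg, mul_pow, Lib.Linear.FieldReduce.conj_base hF hK,
        Lib.Linear.FieldReduce.conj_base hF hK, ← pow_mul, mul_comm 2 q, pow_mul, map_neg, neg_mul,
        ← sub_eq_add_neg] at h1
      exact h1
    have hs : w + w ^ q = algebraMap F K a := by
      have : (w ^ q - w) * (w + w ^ q - algebraMap F K a) = 0 := by linear_combination hroot' - hroot
      rcases mul_eq_zero.mp this with h | h
      · exact absurd (sub_eq_zero.mp h) hw
      · exact sub_eq_zero.mp h
    exact ⟨w, hw, hs, by linear_combination w * hs - hroot⟩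
  obtain ⟨P, hP⟩ := Lib.Linear.FieldReduce.exists_basis_equiv hF hK hw
  obtain ⟨f₂, hf₂, hsum⟩ := Lib.Linear.FieldReduce.exists_pair hF hK hw
  let π : Fin k → (Fin (k + k + 1) → K) →ₗ[F] (F × F) × (F × F) := fun i =>
    f₂.comp (LinearMap.prod (LinearMap.proj (Fin.castSucc (Fin.castAdd k i)))
      (LinearMap.proj (Fin.castSucc (Fin.natAdd k i))))
  let f : (Fin (k + k + 1) → K) →ₗ[F] ((Fin (k + k) ⊕ Fin (k + k)) ⊕ Fin 2 → F) := LinearMap.pi (Sum.elim (Sum.elim
    (fun j => Sum.elim (fun i => ((LinearMap.fst F F F).comp (LinearMap.fst F (F × F) (F × F))).comp (π i))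
      (fun i => ((LinearMap.snd F F F).comp (LinearMap.fst F (F × F) (F × F))).comp (π i)) (finSumFinEquiv.symm j))
    (fun j => Sum.elim (fun i => ((LinearMap.fst F F F).comp (LinearMap.snd F (F × F) (F × F))).comp (π i))
      (fun i => ((LinearMap.snd F F F).comp (LinearMap.snd F (F × F) (F × F))).comp (π i)) (finSumFinEquiv.symm j)))
    ![((LinearMap.fst F F F).comp P.symm.toLinearMap).comp (LinearMap.proj (Fin.last (k + k))),
      ((LinearMap.snd F F F).comp P.symm.toLinearMap).comp (LinearMap.proj (Fin.last (k + k)))])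
  have h11 : ∀ u i, f u (.inl (.inl (Fin.castAdd k i))) =
      (f₂ (u (Fin.castSucc (Fin.castAdd k i)), u (Fin.castSucc (Fin.natAdd k i)))).1.1 := fun u i => by simp [f, π, -Fin.natAdd_eq_addNat]
  have h12 : ∀ u i, f u (.inl (.inl (Fin.natAdd k i))) =
      (f₂ (u (Fin.castSucc (Fin.castAdd k i)), u (Fin.castSucc (Fin.natAdd k i)))).1.2 := fun u i => by simp [f, π, -Fin.natAdd_eq_addNat]
  have h21 : ∀ u i, f u (.inl (.inr (Fin.castAdd k i))) =
      (f₂ (u (Fin.castSucc (Fin.castAdd k i)), u (Fin.castSucc (Fin.natAdd k i)))).2.1 := fun u i => by simp [f, π, -Fin.natAdd_eq_addNat]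
  have h22 : ∀ u i, f u (.inl (.inr (Fin.natAdd k i))) =
      (f₂ (u (Fin.castSucc (Fin.castAdd k i)), u (Fin.castSucc (Fin.natAdd k i)))).2.2 := fun u i => by simp [f, π, -Fin.natAdd_eq_addNat]
  have hl0 : ∀ u, f u (.inr 0) = (P.symm (u (Fin.last (k + k)))).1 := fun u => rfl
  have hl1 : ∀ u, f u (.inr 1) = (P.symm (u (Fin.last (k + k)))).2 := fun u => rfl
  have hf : ∀ u, f u = 0 → u = 0 := by
    intro u hu
    have hz : ∀ i, (u (Fin.castSucc (Fin.castAdd k i)), u (Fin.castSucc (Fin.natAdd k i))) = (0 : K × K) :=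
      fun i => hf₂ _ (Prod.ext
        (Prod.ext ((h11 u i).symm.trans (congrFun hu _)) ((h12 u i).symm.trans (congrFun hu _)))
        (Prod.ext ((h21 u i).symm.trans (congrFun hu _)) ((h22 u i).symm.trans (congrFun hu _))))
    funext j
    refine Fin.lastCases ?_ (fun j => ?_) j
    · refine P.symm.injective ?_
      rw [Pi.zero_apply, map_zero]
      exact Prod.ext ((hl0 u).symm.trans (congrFun hu _)) ((hl1 u).symm.trans (congrFun hu _))
    · exact Fin.addCases (fun i => congrArg Prod.fst (hz i)) (fun i => congrArg Prod.snd (hz i)) j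
  obtain ⟨E, hE⟩ := Lib.Linear.FieldReduce.exists_coords
    (by rw [hfr, Fintype.card_sum, Fintype.card_sum, Fintype.card_fin, Fintype.card_fin, Fintype.card_fin]; ring) f hf
  have key : ∀ u, algebraMap F K (Cfsg.quadFormMinus (k + k) F a b (E u)) =
      Cfsg.hermForm (k + k + 1) K q u u := by
    intro u
    rw [hE, Cfsg.quadFormMinus, Cfsg.hermForm, Fin.sum_univ_castSucc, Fin.sum_univ_add, Fin.sum_univ_add,
      map_add, map_add, map_sum, map_sum, ← Finset.sum_add_distrib, ← Finset.sum_add_distrib]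
    refine congrArg₂ (· + ·) (Finset.sum_congr rfl fun i _ => ?_) ?_
    · rw [h11, h12, h21, h22, ← map_add]
      exact hsum _
    · rw [hl0, hl1]
      obtain ⟨⟨x, y⟩, hxy⟩ := P.surjective (u (Fin.last (k + k)))
      rw [← hxy, P.symm_apply_apply, hP, Lib.Linear.FieldReduce.conj_add hF hK, mul_pow,
        Lib.Linear.FieldReduce.conj_base hF hK, Lib.Linear.FieldReduce.conj_base hF hK]
      simp only [map_add, map_mul, map_pow, ← hsum', ← hprod]
      ring
  have mem : ∀ g : Cfsg.GU (k + k + 1) K q,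
      Units.map (Lib.Linear.FieldReduce.restrictMat E) (g : GL (Fin (k + k + 1)) K) ∈
        Cfsg.isometryGroup F (Cfsg.quadFormMinus (k + k) F a b) := by
    intro g x y
    obtain ⟨u, rfl⟩ := E.surjective x
    refine (algebraMap F K).injective ?_
    show algebraMap F K (Cfsg.quadFormMinus (k + k) F a b (Lib.Linear.FieldReduce.restrictMat E _ *ᵥ E u)) = _
    rw [Lib.Linear.FieldReduce.restrictMat_mulVec, key, key]
    exact g.2 u u
  refine ⟨{ toFun := fun g => ⟨_, mem g⟩, map_one' := Subtype.ext (map_one _),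
            map_mul' := fun g h => Subtype.ext (map_mul _ _ _) }, fun g h e' => ?_⟩
  exact Subtype.ext (Units.ext (Lib.Linear.FieldReduce.restrictMat_injective E
    (congrArg Units.val (congrArg Subtype.val e'))))

end Cfsg.Agent.S2641
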