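import Cfsg.Statements.S2642
import Cfsg.Agent.S2570
import Cfsg.Agent.S2587
import Cfsg.Agent.S2588
import Cfsg.Agent.Lib.Linear.TransposeSimilar
-- import your own Cfsg.Agent.* helpers here

set_option autoImplicit false
open Cfsg
open scoped Matrix

namespace Cfsg.Agent.S2642

universe u

open Polynomial in
theorem parts_eq {ι κ : Type u} [Fintype ι] [Fintype κ] {e : ι → ℕ} {d : κ → ℕ} (he : ∀ i, 1 ≤ e i) (hd : ∀ i, 1 ≤ d i)
    (hS : ∀ k, (∑ i, (e i - k)) = ∑ i, (d i - k)) :
    (Finset.univ : Finset ι).val.map e = (Finset.univ : Finset κ).val.map d := by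
  classical
  have hgt : ∀ k, (Finset.univ.filter fun i => k < e i).card = (Finset.univ.filter fun i => k < d i).card := by
    intro k
    have h1 := Cfsg.Lib.CanonicalForm.count_eq_sub e k
    have h2 := Cfsg.Lib.CanonicalForm.count_eq_sub d k
    have h3 := hS k
    have h4 := hS (k + 1)
    omega
  refine Multiset.ext.mpr fun a => ?_
  rw [Multiset.count_map, Multiset.count_map]
  rcases a with _ | a
  · rw [Multiset.filter_eq_nil.mpr (fun i _ hi => by have := he i; omega),
      Multiset.filter_eq_nil.mpr (fun i _ hi => by have := hd i; omega)]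
    rfl
  · have split : ∀ {τ : Type u} [Fintype τ] (g : τ → ℕ), (Finset.univ.filter fun i => a < g i).card =
        ((Finset.univ : Finset τ).val.filter fun i => a + 1 = g i).card +
          (Finset.univ.filter fun i => a + 1 < g i).card := by
      intro τ _ g
      rw [← Finset.filter_val, ← Finset.card_def, Finset.card_filter, Finset.card_filter, Finset.card_filter,
        ← Finset.sum_add_distrib]
      exact Finset.sum_congr rfl fun i _ => by split_ifs <;> omega
    have h1 := hgt a
    have h2 := hgt (a + 1)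
    have h3 := split e
    have h4 := split d
    omega

open Polynomial in
/-- Unipotent matrices with equally large power images are conjugate. -/
theorem isConj_of_ranges {F : Type u} [Field F] [Fintype F] {n : ℕ} {A B : Matrix (Fin n) (Fin n) F} (N : ℕ)
    (hA : (A - 1) ^ N = 0) (hB : (B - 1) ^ N = 0)
    (h : ∀ k, Nat.card (Set.range (((A - 1) ^ k).mulVec)) = Nat.card (Set.range (((B - 1) ^ k).mulVec))) :
    IsConj A B := by
  obtain ⟨μ, -, ι, hι, e, he, hmap, hf⟩ := Cfsg.Agent.Lib.Linear.UnipotentClasses.exists_type N hA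
  obtain ⟨ν, -, κ, hκ, d, hd, hmap', hf'⟩ := Cfsg.Agent.Lib.Linear.UnipotentClasses.exists_type N hB
  have hS : ∀ k, (∑ i, (e i - k)) = ∑ i, (d i - k) := fun k => by
    have h1 := hf.card_range (monic_X_sub_C (1 : F)) (natDegree_X_sub_C 1) k
    have h2 := hf'.card_range (monic_X_sub_C (1 : F)) (natDegree_X_sub_C 1) k
    rw [Cfsg.Agent.Lib.Linear.UnipotentClasses.aeval_Y] at h1 h2
    exact Nat.pow_right_injective Fintype.one_lt_card ((h1.symm.trans (h k)).trans h2)
  refine Cfsg.Lib.CanonicalForm.isConj_of_map_eq hf hf' ?_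
  have e1 := congrArg (Multiset.map fun k => (X - C (1 : F)) ^ k) (parts_eq he hd hS)
  simpa [Multiset.map_map, Function.comp_def] using e1

/-- Number of conjugacy classes of elements of order p in the general unitary group GU_n(q), q a power of p: every unipotent Jordan type occurs and the classes correspond to the partitions of n with all parts at most p other than the all-ones partition, exactly as in GL_n; so there are (number of partitions of n with parts ≤ p) − 1 classes. -/
theorem result {K : Type*} [Field K] [Fintype K] {p q n : ℕ} [Fact p.Prime] [CharP K p] (hK : Fintype.card K = q ^ 2) : Nat.card {C : ConjClasses ↥(Cfsg.GU n K q) // ∃ g : ↥(Cfsg.GU n K q), ConjClasses.mk g = C ∧ orderOf g = p} = (Finset.univ.filter (fun μ : Nat.Partition n => ∀ a ∈ μ.parts, a ≤ p)).card - 1 := by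
  classical
  obtain ⟨σ, hσ, hσσ, w, hw⟩ := Lib.Linear.HermitianFactor.exists_involution hK
  rw [← Cfsg.Agent.S2570.result (F := K) (p := p) n]
  let inc : Cfsg.GU n K q →* GL (Fin n) K := (Cfsg.GU n K q).subtype
  have hinc : Function.Injective inc := Subtype.val_injective
  refine Nat.card_eq_of_bijective
    (fun C : {C : ConjClasses ↥(Cfsg.GU n K q) // ∃ g : ↥(Cfsg.GU n K q), ConjClasses.mk g = C ∧ orderOf g = p} =>
      (⟨ConjClasses.map inc C.1, by
        obtain ⟨g, hg, hgp⟩ := C.2
        exact ⟨inc g, by rw [← hg]; rfl, by rw [orderOf_injective inc hinc, hgp]⟩⟩ :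
        {C : ConjClasses (GL (Fin n) K) // ∃ g : GL (Fin n) K, ConjClasses.mk g = C ∧ orderOf g = p})) ⟨?_, ?_⟩
  · rintro ⟨C, g, rfl, hg⟩ ⟨D, h, rfl, hh⟩ e
    have e' : IsConj (inc g) (inc h) := ConjClasses.mk_eq_mk_iff_isConj.mp (congrArg Subtype.val e)
    exact Subtype.ext (ConjClasses.mk_eq_mk_iff_isConj.mpr ((Cfsg.Agent.S2587.result hK g h).mpr e'))
  rintro ⟨C, g, rfl, hg⟩
  set a : Matrix (Fin n) (Fin n) K := (g : Matrix (Fin n) (Fin n) K) with ha
  have hap : a ^ p = 1 := by
    rw [ha, ← Units.val_pow_eq_pow_val, ← hg, pow_orderOf_eq_one, Units.val_one]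
  have hN : ∀ M : Matrix (Fin n) (Fin n) K, M ^ p = 1 → (M - 1) ^ p = 0 := fun M hM => by
    have := (Cfsg.Agent.Lib.Linear.UnipotentClasses.pow_eq_one_iff (p := p) M 1).mp (by rwa [pow_one])
    rwa [pow_one] at this
  set ai : Matrix (Fin n) (Fin n) K := ((g⁻¹ : GL (Fin n) K) : Matrix (Fin n) (Fin n) K) with hai
  have hai1 : a * ai = 1 := g.mul_inv
  have hai2 : ai * a = 1 := g.inv_mul
  let b : Matrix (Fin n) (Fin n) K := a.map σ
  let bi : Matrix (Fin n) (Fin n) K := ai.map σ
  have hb1 : b * bi = 1 := by rw [← Matrix.map_mul, hai1, Matrix.map_one _ (map_zero σ) (map_one σ)]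
  have hbu : IsUnit b := IsUnit.of_mul_eq_one _ hb1
  have hbp : bi ^ p = 1 := by
    have h1 : bi = σ.mapMatrix ai := rfl
    have h2 : ai ^ p = 1 := by
      rw [hai, ← Units.val_pow_eq_pow_val, inv_pow, ← hg, pow_orderOf_eq_one, inv_one, Units.val_one]
    rw [h1, ← map_pow, h2, map_one]
  have hranges : ∀ k, Nat.card (Set.range (((bi - 1) ^ k).mulVec)) = Nat.card (Set.range (((a - 1) ^ k).mulVec)) := by
    intro k
    have e1 : (bi - 1) ^ k = σ.mapMatrix ((ai - 1) ^ k) := by
      rw [map_pow, map_sub, map_one]; rfl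
    have hcomm : Commute a ai := by show a * ai = ai * a; rw [hai1, hai2]
    have e2 : (ai - 1) ^ k = ((-1 : Matrix (Fin n) (Fin n) K) * ai) ^ k * (a - 1) ^ k := by
      have h1 : ai - 1 = ((-1 : Matrix (Fin n) (Fin n) K) * ai) * (a - 1) := by
        rw [mul_sub, mul_assoc, hai2, mul_one, mul_one, neg_one_mul, sub_neg_eq_add, neg_add_eq_sub]
      rw [← Commute.mul_pow, ← h1]
      exact (Commute.sub_right (Commute.mul_left (Commute.neg_one_left a) hcomm.symm) (Commute.one_right _))
    obtain ⟨u, hu⟩ : IsUnit ((((-1 : Matrix (Fin n) (Fin n) K) * ai)) ^ k) :=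
      (isUnit_one.neg.mul (IsUnit.of_mul_eq_one _ hai2)).pow k
    rw [e1]
    refine (Nat.card_eq_of_bijective (fun y : Set.range (((a - 1) ^ k).mulVec) =>
      (⟨fun i => σ (((u : Matrix (Fin n) (Fin n) K) *ᵥ y.1) i), ?_⟩ : Set.range ((σ.mapMatrix ((ai - 1) ^ k)).mulVec)))
      ⟨?_, ?_⟩).symm
    · obtain ⟨x, hx⟩ := y.2
      refine ⟨fun i => σ (x i), funext fun i => ?_⟩
      rw [← hx, Matrix.mulVec_mulVec, hu, ← e2, RingHom.mapMatrix_apply]
      exact (RingHom.map_mulVec σ _ x i).symm
    · intro y z h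
      have h' : (u : Matrix (Fin n) (Fin n) K) *ᵥ y.1 = (u : Matrix (Fin n) (Fin n) K) *ᵥ z.1 :=
        funext fun i => σ.injective (congrFun (congrArg Subtype.val h) i)
      have h'' := congrArg (((u⁻¹ : (Matrix (Fin n) (Fin n) K)ˣ) : Matrix (Fin n) (Fin n) K) *ᵥ ·) h'
      simp only [Matrix.mulVec_mulVec, Units.inv_mul, Matrix.one_mulVec] at h''
      exact Subtype.ext h''
    · rintro ⟨_, x, rfl⟩
      refine ⟨⟨((a - 1) ^ k) *ᵥ (fun i => σ (x i)), ⟨_, rfl⟩⟩, Subtype.ext (funext fun i => ?_)⟩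
      show σ (((u : Matrix (Fin n) (Fin n) K) *ᵥ _) i) = _
      rw [Matrix.mulVec_mulVec, hu, ← e2, RingHom.map_mulVec]
      congr 1
      funext j
      exact hσσ (x j)
  have hconj : IsConj a ((a.map (fun x : K => x ^ q)).transpose)⁻¹ := by
    have hm : a.map (fun x : K => x ^ q) = b := Matrix.ext fun i j => (hσ _).symm
    rw [hm, ← Matrix.transpose_nonsing_inv, Matrix.inv_eq_right_inv hb1]
    refine IsConj.trans ?_ (Cfsg.Agent.Lib.Linear.TransposeSimilar.isConj_transpose bi)
    exact isConj_of_ranges p (hN a hap) (hN bi hbp) fun k => (hranges k).symm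
  obtain ⟨B, hB⟩ := (Cfsg.Agent.S2588.result hK g).mpr hconj
  refine ⟨⟨ConjClasses.mk B, B, rfl, ?_⟩, Subtype.ext ?_⟩
  · rw [← orderOf_injective inc hinc, ← hg]
    obtain ⟨c, hc⟩ := isConj_iff.mp hB
    show orderOf (B : GL (Fin n) K) = orderOf g
    rw [← hc]
    exact orderOf_injective (MulAut.conj c).toMonoidHom (MulEquiv.injective _) g
  · exact ConjClasses.mk_eq_mk_iff_isConj.mpr hB.symm

end Cfsg.Agent.S2642
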