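import Cfsg.Statements.S2643
import Cfsg.Agent.S2386
import Cfsg.Agent.S2587
import Cfsg.Agent.Lib.Linear.UnipotentCommutant

/-! Regular unipotent classes of special unitary groups. -/

set_option autoImplicit false
open Cfsg Polynomial
open scoped Matrix

namespace Cfsg.Agent.S2643

open Cfsg.Lib
open Cfsg.Lib.Linear.Herm
open Cfsg.Agent.Lib.Linear

universe u

variable {F : Type u} [Field F] [Fintype F] {q : ℕ}

theorem sum_pred {ι : Type*} [Fintype ι] (e : ι → ℕ) (he : ∀ i, 1 ≤ e i) :
    ∑ i, e i = ∑ i, (e i - 1) + Fintype.card ι := by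
  rw [← Finset.card_univ, Finset.card_eq_sum_ones, ← Finset.sum_add_distrib]
  exact Finset.sum_congr rfl fun i _ => by have := he i; omega

/-- A regular unipotent unitary matrix. -/
theorem exists_regular (hF : Fintype.card F = q ^ 2) {n : ℕ} (hn : 2 ≤ n) :
    ∃ A : Matrix (Fin n) (Fin n) F, Aᵀ * A.map (frob hF) = 1 ∧ (A - 1) ^ n = 0 ∧
      ∀ g : F[X], aeval A g = 0 → (X - C (1 : F)) ^ n ∣ g := by
  classical
  set P : F[X] := (X - C (1 : F)) ^ n with hP
  have hPm : P.Monic := (monic_X_sub_C 1).pow n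
  have hd : P.natDegree = n := by rw [hP, (monic_X_sub_C (1 : F)).natDegree_pow, natDegree_X_sub_C, mul_one]
  have hsr : ∀ k, Cfsg.Agent.S2386.SR (frob hF) ((X - C (1 : F)) ^ k) := by
    intro k
    have hc : ((X - C (1 : F)) ^ k).coeff 0 = (-1) ^ k := by simp [coeff_zero_eq_eval_zero]
    rw [Cfsg.Agent.S2386.SR, hc, Polynomial.map_pow, Polynomial.map_sub, map_X, Polynomial.map_C, map_one, map_pow,
      ← mul_pow]
    have h1 : (X - C (1 : F)).reverse = (X - C 1) * C (-1) := by
      rw [sub_eq_add_neg, ← map_neg, reverse_add_C, natDegree_X, pow_one,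
        show reverse (Polynomial.X : F[X]) = 1 by simp [reverse, reflect]]
      simp
    clear hc
    induction k with
    | zero => rw [pow_zero, pow_zero, ← C_1, reverse_C]
    | succ k ih => rw [pow_succ _ k, pow_succ _ k, reverse_mul_of_domain, h1, ih]
  have hc0 : P.coeff 0 ≠ 0 := (hsr n).coeff_zero hPm
  have hQ : ∀ Q : F[X], Q.Monic → Q ∣ P → ∃ j ≤ n, Q = (X - C (1 : F)) ^ j := by
    intro Q hQm hQP
    obtain ⟨j, hj, hass⟩ := (dvd_prime_pow (prime_X_sub_C (1 : F)) n).1 hQP
    exact ⟨j, hj, eq_of_monic_of_associated hQm ((monic_X_sub_C 1).pow j) hass⟩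
  suffices ∃ A : Matrix (Fin n) (Fin n) F, Aᵀ * A.map (frob hF) = 1 ∧ A.charpoly = P ∧
      ∀ g : F[X], aeval A g = 0 → P ∣ g by
    obtain ⟨A, h1, h2, h3⟩ := this
    refine ⟨A, h1, ?_, h3⟩
    have := Matrix.aeval_self_charpoly A
    rwa [h2, hP, UnipotentClasses.aeval_Y] at this
  obtain ⟨m, hm | hm⟩ := n.even_or_odd'
  · obtain ⟨c, hc0', hc⟩ : ∃ c : F, c ≠ 0 ∧ frob hF c = -P.coeff 0 * c := by
      obtain ⟨y, hy0, hy⟩ := exists_trace_zero (frob_ne_id hF) (frob_frob hF)
      refine ⟨y, hy0, ?_⟩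
      rw [hP, coeff_zero_eq_eval_zero, eval_pow, eval_sub, eval_X, eval_C, zero_sub, hm, pow_mul, neg_one_sq,
        one_pow, neg_one_mul]
      linear_combination hy
    refine Cfsg.Agent.S2386.exists_unitary_cyclic hF P hPm hd hc0 (hsr n) (Cfsg.Agent.S2386.func P hPm 0 0 c) m ?_ ?_
    · intro k hk r hr
      rcases Nat.eq_zero_or_pos k with rfl | hk0
      · rw [pow_zero, mul_one] at hr
        rw [hr, Cfsg.Agent.S2386.func_root_pow P hPm 0 0 c (j := 0) (by omega), if_pos rfl, if_pos rfl]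
        rw [← AdjoinRoot.mk_X, ← map_pow, Cfsg.Agent.S2386.func_mk]
        have hmod : (X ^ (2 * m) : F[X]) %ₘ P = X ^ (2 * m) - P := by
          refine (div_modByMonic_unique 1 _ hPm ⟨by ring, ?_⟩).2
          refine (degree_sub_lt ?_ (by simp) ?_).trans_le ?_
          · rw [degree_X_pow, degree_eq_natDegree hPm.ne_zero, hd, hm]
          · rw [leadingCoeff_X_pow, hPm.leadingCoeff]
          · rw [degree_X_pow, degree_eq_natDegree hPm.ne_zero, hd, hm]
        rw [hmod, coeff_sub, coeff_X_pow, if_neg (by omega), zero_mul, zero_add, zero_add, hc]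
        ring
      · have hr' : r = AdjoinRoot.root P ^ (2 * m - k) := by
          refine ((Cfsg.Agent.S2386.isUnit_root P hc0).pow k).mul_right_cancel ?_
          rw [hr, ← pow_add]
          congr 1
          omega
        rw [hr', Cfsg.Agent.S2386.func_root_pow P hPm _ _ _ (by omega),
          Cfsg.Agent.S2386.func_root_pow P hPm _ _ _ (by omega)]
        simp [show k ≠ 0 by omega, show ¬ (2 * m - k = 0) by omega, show ¬ (0 = k) by omega]
    · refine Cfsg.Agent.S2386.nondeg P hPm _ fun Q hQm hQP hlt hall => ?_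
      have := hall 1
      rw [one_mul, Cfsg.Agent.S2386.func_small P hPm _ _ _ Q hlt, zero_mul, zero_add] at this
      obtain ⟨j, -, rfl⟩ := hQ Q hQm hQP
      refine mul_ne_zero hc0' ?_ this
      simp [coeff_zero_eq_eval_zero]
  · obtain ⟨c, hc0', hc2⟩ : ∃ c : F, c ≠ 0 ∧ c + frob hF c ≠ 0 := by
      by_contra hcon
      push Not at hcon
      have h1 := hcon 1 one_ne_zero
      rw [map_one] at h1
      refine frob_ne_id hF (RingHom.ext fun y => ?_)
      rcases eq_or_ne y 0 with rfl | hy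
      · rw [map_zero, RingHom.id_apply]
      · rw [RingHom.id_apply]
        linear_combination hcon y hy - y * h1
    refine Cfsg.Agent.S2386.exists_unitary_cyclic hF P hPm hd hc0 (hsr n)
      (Cfsg.Agent.S2386.func P hPm c (2 * m) (frob hF c)) m ?_ ?_
    · intro k hk r hr
      have hr' : r = AdjoinRoot.root P ^ (2 * m - k) := by
        refine ((Cfsg.Agent.S2386.isUnit_root P hc0).pow k).mul_right_cancel ?_
        rw [hr, ← pow_add]
        congr 1
        omega
      rw [hr', Cfsg.Agent.S2386.func_root_pow P hPm _ _ _ (by omega), Cfsg.Agent.S2386.func_root_pow P hPm _ _ _ (by omega),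
        map_add, apply_ite (frob hF), apply_ite (frob hF), frob_frob, map_zero]
      split_ifs <;> first | omega | ring
    · refine Cfsg.Agent.S2386.nondeg P hPm _ fun Q hQm hQP hlt hall => ?_
      obtain ⟨j, -, rfl⟩ := hQ Q hQm hQP
      rw [(monic_X_sub_C (1 : F)).natDegree_pow, natDegree_X_sub_C, mul_one, hd] at hlt
      have := hall (X ^ (2 * m - j))
      rw [Cfsg.Agent.S2386.func_small P hPm _ _ _ _ (by
          rw [natDegree_mul (pow_ne_zero _ X_ne_zero) hQm.ne_zero, natDegree_X_pow,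
            (monic_X_sub_C (1 : F)).natDegree_pow, natDegree_X_sub_C, mul_one, hd]
          omega),
        mul_comm (X ^ _), coeff_mul_X_pow', coeff_mul_X_pow', if_pos (by omega)] at this
      rcases Nat.lt_or_ge j (2 * m) with hj | hj
      · rw [if_neg (by omega), Nat.sub_sub_self hj.le] at this
        have h1 := hQm.coeff_natDegree
        rw [(monic_X_sub_C (1 : F)).natDegree_pow, natDegree_X_sub_C, mul_one] at h1
        rw [h1, mul_one, mul_zero, add_zero] at this
        exact hc0' this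
      · have hj' : j = 2 * m := by omega
        subst hj'
        rw [Nat.sub_self, Nat.sub_zero, if_pos le_rfl, Nat.sub_zero] at this
        have h1 := hQm.coeff_natDegree
        rw [(monic_X_sub_C (1 : F)).natDegree_pow, natDegree_X_sub_C, mul_one] at h1
        have h0 : ((X - C (1 : F)) ^ (2 * m)).coeff 0 = 1 := by
          simp [coeff_zero_eq_eval_zero, pow_mul]
        rw [h1, h0, mul_one, mul_one] at this
        exact hc2 this

theorem main {n : ℕ} (hF : Fintype.card F = q ^ 2) (hn : 2 ≤ n) :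
    Nat.card {C : ConjClasses ↥(Cfsg.SU n F q) // ∃ u : ↥(Cfsg.SU n F q), ConjClasses.mk u = C ∧
      (((u : GL (Fin n) F) : Matrix (Fin n) (Fin n) F) - 1) ^ n = 0 ∧
      (((u : GL (Fin n) F) : Matrix (Fin n) (Fin n) F) - 1).rank = n - 1} = Nat.gcd n (q + 1) := by
  classical
  have hn0 : n ≠ 0 := by omega
  obtain ⟨A, hAu, hAn, hAg⟩ := exists_regular hF hn
  obtain ⟨μ, -, ι, hι, e, he, hmap, hform⟩ := UnipotentClasses.exists_type n hAn
  have hsum : ∑ i, e i = n := by
    conv_rhs => rw [← μ.parts_sum, ← hmap]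
    rfl
  obtain ⟨i₀, hi₀⟩ : ∃ i, n ≤ e i := by
    by_contra hcon
    push Not at hcon
    have h1 : aeval A ((X - C (1 : F)) ^ (n - 1)) = 0 :=
      (hform.aeval_eq_zero_iff _).2 fun i => pow_dvd_pow _ (by have := hcon i; omega)
    have h2 := Polynomial.natDegree_le_of_dvd (hAg _ h1) (pow_ne_zero _ (X_sub_C_ne_zero 1))
    simp only [(monic_X_sub_C (1 : F)).natDegree_pow, natDegree_X_sub_C, mul_one] at h2
    omega
  have huniq : ∀ i, i = i₀ := fun i => by
    by_contra hne
    have := Finset.add_le_sum (f := e) (fun _ _ => Nat.zero_le _) (Finset.mem_univ i) (Finset.mem_univ i₀) hne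
    have := he i
    omega
  haveI : Unique ι := { default := i₀, uniq := huniq }
  have hei : e i₀ = n := by
    rw [Fintype.sum_unique, show (default : ι) = i₀ from huniq _] at hsum
    exact hsum
  have hmapn : (Finset.univ : Finset ι).val.map e = {n} := by
    rw [Finset.univ_unique, Finset.singleton_val, Multiset.map_singleton]
    rw [show (default : ι) = i₀ from huniq _]
    rw [hei]
  have hrank : (A - 1).rank = n - 1 := by
    rw [UnipotentCommutant.rank_sub_one hform, Fintype.sum_unique]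
    rw [show (default : ι) = i₀ from huniq _]
    rw [hei]
  have hconj : ∀ v : Matrix (Fin n) (Fin n) F, (v - 1) ^ n = 0 → (v - 1).rank = n - 1 → IsConj A v := by
    intro v hv hvr
    obtain ⟨ν, -, κ, hκ, d, hd, hmap', hform'⟩ := UnipotentClasses.exists_type n hv
    rw [UnipotentCommutant.rank_sub_one hform'] at hvr
    have hs : ∑ i, d i = n := by
      conv_rhs => rw [← ν.parts_sum, ← hmap']
      rfl
    have hκ1 : Fintype.card κ = 1 := by
      have := sum_pred d hd
      omega
    obtain ⟨j, hj⟩ := Fintype.card_eq_one_iff.mp hκ1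
    have hall : (Finset.univ : Finset κ).val.map d = {n} := by
      have : (Finset.univ : Finset κ) = {j} := Finset.eq_singleton_iff_unique_mem.mpr ⟨Finset.mem_univ _, fun x _ => hj x⟩
      rw [this, Finset.sum_singleton] at hs
      rw [this, Finset.singleton_val, Multiset.map_singleton, hs]
    have hmm := congrArg (Multiset.map fun k => (X - C (1 : F)) ^ k) (hmapn.trans hall.symm)
    rw [Multiset.map_map, Multiset.map_map] at hmm
    exact CanonicalForm.isConj_of_map_eq hform hform' hmm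
  have hAd : A.det = 1 := UnipotentCommutant.det_unipotent n hAn
  -- the group and its determinant
  let G := Cfsg.GU n F q
  let M : G →* Matrix (Fin n) (Fin n) F := (Units.coeHom _).comp G.subtype
  have hMi : Function.Injective M := fun a b h => Subtype.ext (Units.ext h)
  let φ : ↥(Cfsg.SU n F q) →* G :=
    (Matrix.SpecialLinearGroup.toGL.comp (Cfsg.SU n F q).subtype).codRestrict _ fun a => a.2
  have hφ : Function.Injective φ := fun a b hab =>
    Subtype.ext (Matrix.SpecialLinearGroup.toGL_injective (congrArg Subtype.val hab))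
  have hMd : ∀ g, (M g).det ≠ 0 := fun g => Matrix.GeneralLinearGroup.det_ne_zero (g : GL (Fin n) F)
  let A₀ : G := ⟨Matrix.GeneralLinearGroup.mkOfDetNeZero A (by rw [hAd]; exact one_ne_zero),
    Cfsg.Agent.S2386.mem_GU_of_eq hF _ hAu⟩
  have hA₀ : M A₀ = A := rfl
  let H : Subgroup Fˣ := (powMonoidHom (q + 1) : Fˣ →* Fˣ).ker
  have hH : ∀ z : Fˣ, z ∈ H ↔ (z : F) ^ (q + 1) = 1 := fun z => by
    rw [MonoidHom.mem_ker, powMonoidHom_apply, Units.ext_iff, Units.val_pow_eq_pow_val, Units.val_one]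
  -- centraliser determinants
  have hcent : ∀ Z : G, Z * A₀ = A₀ * Z → ∃ γ : H, (M Z).det = ((γ : Fˣ) : F) ^ n := by
    intro Z hZ
    have hZ' : M Z * A = A * M Z := by rw [← hA₀, ← map_mul, ← map_mul, hZ]
    obtain ⟨g, hg⟩ := UnipotentCommutant.exists_aeval_of_commute hform hZ'
    have hdet : (M Z).det = g.eval 1 ^ n := by rw [hg, UnipotentCommutant.det_aeval n hAn g]
    have hgn : g.eval 1 ≠ 0 := fun h0 => hMd Z (by rw [hdet, h0, zero_pow hn0])
    obtain ⟨N, hN0, hN⟩ : ∃ N, 0 < N ∧ A ^ N = 1 :=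
      ⟨orderOf A₀, orderOf_pos A₀, by rw [← hA₀, ← map_pow, pow_orderOf_eq_one, map_one]⟩
    have hσA : A.map (frob hF) = Aᵀ ^ (N - 1) := by
      calc A.map (frob hF) = (Aᵀ ^ (N - 1) * Aᵀ) * A.map (frob hF) := by
            rw [← pow_succ, Nat.sub_add_cancel hN0, ← Matrix.transpose_pow, hN, Matrix.transpose_one, one_mul]
        _ = _ := by rw [mul_assoc, hAu, mul_one]
    have hu := Cfsg.Agent.S2386.transpose_mul_map hF Z
    change (M Z)ᵀ * (M Z).map (frob hF) = 1 at hu
    have htr : ∀ f : F[X], (aeval A f)ᵀ = aeval Aᵀ f := fun f => by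
      induction f using Polynomial.induction_on' with
      | add a b ha hb => rw [map_add, map_add, Matrix.transpose_add, ha, hb]
      | monomial k c =>
        simp only [aeval_monomial, Algebra.algebraMap_eq_smul_one, smul_mul_assoc, one_mul, Matrix.transpose_smul,
          Matrix.transpose_pow]
    have hmp : ∀ f : F[X], (aeval A f).map (frob hF) = aeval (A.map (frob hF)) (f.map (frob hF)) := fun f => by
      induction f using Polynomial.induction_on' with
      | add a b ha hb => rw [map_add, Polynomial.map_add, map_add, Matrix.map_add _ (map_add (frob hF)), ha, hb]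
      | monomial k c =>
        rw [Polynomial.map_monomial, aeval_monomial, aeval_monomial, Algebra.algebraMap_eq_smul_one,
          Algebra.algebraMap_eq_smul_one, smul_mul_assoc, smul_mul_assoc, one_mul, one_mul,
          Matrix.map_smul' _ _ _ (map_mul (frob hF)), Matrix.map_pow]
    set K : F[X] := g * (g.map (frob hF)).comp (X ^ (N - 1)) - 1
    have hK : aeval A K = 0 := by
      apply Matrix.transpose_injective
      rw [htr, Matrix.transpose_zero]
      simp only [K, map_sub, map_mul, map_one, aeval_comp, map_pow, aeval_X]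
      rw [← hσA, ← hmp, ← htr, ← hg, hu, sub_self]
    obtain ⟨K', hK'⟩ := hAg K hK
    have he1 : g.eval 1 * frob hF (g.eval 1) - 1 = 0 := by
      have := congrArg (eval (1 : F)) hK'
      simp only [K, eval_sub, eval_mul, eval_one, eval_comp, eval_pow, eval_X, one_pow, eval_C, sub_self,
        zero_pow hn0, zero_mul] at this
      rw [Polynomial.eval_one_map] at this
      exact this
    refine ⟨⟨Units.mk0 _ hgn, (hH _).2 ?_⟩, hdet⟩
    rw [Units.val_mk0, pow_succ', ← frob_apply hF]
    exact sub_eq_zero.1 he1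
  -- elements of prescribed determinant and scalars
  have hD : ∀ δ : H, ∃ P : G, (M P).det = ((δ : Fˣ) : F) ∧ M P = Matrix.diagonal (Function.update 1 ⟨0, by omega⟩ ((δ : Fˣ) : F)) := by
    intro δ
    have hd : (Matrix.diagonal (Function.update 1 ⟨0, by omega⟩ ((δ : Fˣ) : F)) : Matrix (Fin n) (Fin n) F).det = ((δ : Fˣ) : F) := by
      rw [Matrix.det_diagonal, Finset.prod_eq_single ⟨0, by omega⟩ (fun i _ hi => by simp [Function.update_of_ne hi]) (by simp)]
      simp
    refine ⟨⟨Matrix.GeneralLinearGroup.mkOfDetNeZero (Matrix.diagonal (Function.update 1 ⟨0, by omega⟩ ((δ : Fˣ) : F))) (by rw [hd]; exact (δ : Fˣ).ne_zero),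
      Cfsg.Agent.S2386.mem_GU_of_eq hF _ ?_⟩, hd, rfl⟩
    show (Matrix.diagonal _)ᵀ * (Matrix.diagonal _).map (frob hF) = 1
    rw [Matrix.diagonal_transpose, Matrix.diagonal_map (map_zero _), Matrix.diagonal_mul_diagonal, ← Matrix.diagonal_one]
    congr 1
    funext i
    rw [Function.update_apply]
    split_ifs with h
    · rw [frob_apply, ← pow_succ']
      exact (hH _).1 δ.2
    · simp
  choose P hP _hP' using hD
  have hS : ∀ c : H, ∃ S : G, (M S).det = ((c : Fˣ) : F) ^ n ∧ ∀ Z : G, S * Z = Z * S := by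
    intro c
    have hd : ((((c : Fˣ) : F)) • (1 : Matrix (Fin n) (Fin n) F)).det = ((c : Fˣ) : F) ^ n := by
      rw [Matrix.det_smul, Matrix.det_one, mul_one, Fintype.card_fin]
    refine ⟨⟨Matrix.GeneralLinearGroup.mkOfDetNeZero (((c : Fˣ) : F) • (1 : Matrix (Fin n) (Fin n) F)) (by rw [hd]; exact pow_ne_zero _ (c : Fˣ).ne_zero),
      Cfsg.Agent.S2386.mem_GU_of_eq hF _ ?_⟩, hd, fun Z => hMi ?_⟩
    · show (((c : Fˣ) : F) • (1 : Matrix (Fin n) (Fin n) F))ᵀ * ((((c : Fˣ) : F)) • (1 : Matrix (Fin n) (Fin n) F)).map (frob hF) = 1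
      rw [Matrix.transpose_smul, Matrix.transpose_one, Matrix.map_smul' _ _ _ (map_mul (frob hF)),
        Matrix.map_one _ (map_zero _) (map_one _), smul_mul_smul_comm, one_mul, frob_apply, ← pow_succ',
        (hH _).1 c.2, one_smul]
    · show (((c : Fˣ) : F) • (1 : Matrix (Fin n) (Fin n) F)) * M Z = M Z * (((c : Fˣ) : F) • (1 : Matrix (Fin n) (Fin n) F))
      rw [smul_mul_assoc, mul_smul_comm, one_mul, mul_one]
  choose S hSd hSc using hS
  have hlift : ∀ g : G, (M g).det = 1 → ∃ s : ↥(Cfsg.SU n F q), φ s = g := fun g hg =>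
    ⟨⟨⟨M g, hg⟩, g.2⟩, hMi rfl⟩
  have hv : ∀ δ : H, (M (P δ * A₀ * (P δ)⁻¹)).det = 1 := fun δ => by
    rw [map_mul, map_mul, Matrix.det_mul, Matrix.det_mul, hA₀, hAd, mul_one, ← Matrix.det_mul, ← map_mul,
      mul_inv_cancel, map_one, Matrix.det_one]
  choose v hv' using fun δ => hlift _ (hv δ)
  have hcl : ∀ g : G, (M (g * A₀ * g⁻¹) - 1) ^ n = 0 ∧ (M (g * A₀ * g⁻¹) - 1).rank = n - 1 := by
    intro g
    let U : (Matrix (Fin n) (Fin n) F)ˣ := (g : GL (Fin n) F)
    have hv : M (g * A₀ * g⁻¹) - 1 = U.val * (A - 1) * U⁻¹.val := by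
      rw [mul_sub, sub_mul, mul_one, Units.mul_inv]
      rfl
    rw [hv]
    refine ⟨?_, ?_⟩
    · have hp : ∀ k : ℕ, (U.val * (A - 1) * U⁻¹.val) ^ k = U.val * (A - 1) ^ k * U⁻¹.val := by
        intro k
        induction k with
        | zero => rw [pow_zero, pow_zero, mul_one, Units.mul_inv]
        | succ k ih =>
          rw [pow_succ, ih, pow_succ]
          simp only [mul_assoc, Units.inv_mul_cancel_left]
      rw [hp, hAn, mul_zero, zero_mul]
    · rw [Matrix.rank_mul_eq_left_of_isUnit_det _ _ (Matrix.isUnit_iff_isUnit_det _ |>.1 U⁻¹.isUnit),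
        Matrix.rank_mul_eq_right_of_isUnit_det _ _ (Matrix.isUnit_iff_isUnit_det _ |>.1 U.isUnit), hrank]
  let N : Subgroup H := (powMonoidHom n : H →* H).range
  let T := {C : ConjClasses ↥(Cfsg.SU n F q) // ∃ u : ↥(Cfsg.SU n F q), ConjClasses.mk u = C ∧
      (((u : GL (Fin n) F) : Matrix (Fin n) (Fin n) F) - 1) ^ n = 0 ∧
      (((u : GL (Fin n) F) : Matrix (Fin n) (Fin n) F) - 1).rank = n - 1}
  have hvM : ∀ u : ↥(Cfsg.SU n F q), ((u : GL (Fin n) F) : Matrix (Fin n) (Fin n) F) = M (φ u) := fun u => rfl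
  let Φ : H ⧸ N → T := fun x => ⟨ConjClasses.mk (v x.out), v x.out, rfl,
    by rw [hvM, hv']; exact hcl _⟩
  have hbij : Function.Bijective Φ := by
    constructor
    · intro x y hxy
      obtain ⟨s, hs⟩ := isConj_iff.mp (ConjClasses.mk_eq_mk_iff_isConj.mp (congrArg Subtype.val hxy))
      have hs' : φ s * (P x.out * A₀ * (P x.out)⁻¹) * (φ s)⁻¹ = P y.out * A₀ * (P y.out)⁻¹ := by
        rw [← hv', ← hv', ← map_inv, ← map_mul, ← map_mul, hs]
      set Z := (P y.out)⁻¹ * φ s * P x.out with hZd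
      have hZ : Z * A₀ = A₀ * Z := by
        have h2 := congrArg (fun w => (P y.out)⁻¹ * w * (φ s * P x.out)) hs'
        simp only [mul_assoc, inv_mul_cancel_left, inv_mul_cancel, mul_one] at h2
        simp only [hZd, mul_assoc]
        exact h2
      obtain ⟨γ, hγ⟩ := hcent Z hZ
      have hds : (M (φ s)).det = 1 := (s : Matrix.SpecialLinearGroup (Fin n) F).2
      have hdd : ((γ : Fˣ) : F) ^ n * ((y.out : Fˣ) : F) = ((x.out : Fˣ) : F) := by
        rw [← hγ, ← hP y.out, hZd, map_mul, map_mul, Matrix.det_mul, Matrix.det_mul, hds, mul_one, hP x.out]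
        rw [mul_comm, ← mul_assoc, ← Matrix.det_mul, ← map_mul, mul_inv_cancel, map_one, Matrix.det_one, one_mul]
      rw [← x.out_eq', ← y.out_eq', QuotientGroup.eq]
      refine ⟨γ⁻¹, ?_⟩
      have he : x.out = γ ^ n * y.out := Subtype.ext (Units.ext (by
        simp only [Subgroup.coe_mul, SubgroupClass.coe_pow, Units.val_mul, Units.val_pow_eq_pow_val, hdd]))
      rw [powMonoidHom_apply, he, inv_pow, mul_inv_rev, mul_comm (y.out)⁻¹, mul_assoc, inv_mul_cancel, mul_one]
    · rintro ⟨C, w, rfl, hw1, hw2⟩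
      obtain ⟨Q₀, hQ₀⟩ := hconj _ hw1 hw2
      have hGL : IsConj (A₀ : GL (Fin n) F) (φ w : GL (Fin n) F) :=
        SemisimpleClasses.isConj_units_of_isConj _ _ ⟨Q₀, hQ₀⟩
      obtain ⟨Q, hQ⟩ := isConj_iff.1 ((Cfsg.Agent.S2587.result hF A₀ (φ w)).2 hGL)
      let δ : H := ⟨Units.mk0 _ (hMd Q), (hH _).2 (det_GU_pow hF Q)⟩
      obtain ⟨⟨_, c, rfl⟩, hc⟩ := QuotientGroup.mk_out_eq_mul N δ
      refine ⟨QuotientGroup.mk δ, Subtype.ext (ConjClasses.mk_eq_mk_iff_isConj.mpr (isConj_iff.mpr ?_))⟩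
      show ∃ s, s * v (QuotientGroup.mk δ : H ⧸ N).out * s⁻¹ = w
      rw [hc]
      set ε := δ * powMonoidHom n c with hε
      obtain ⟨s, hs⟩ := hlift (S c * (Q * (P ε)⁻¹)) (by
        have h1 : (M (P ε)).det * (M (P ε)⁻¹).det = 1 := by
          rw [← Matrix.det_mul, ← map_mul, mul_inv_cancel, map_one, Matrix.det_one]
        rw [map_mul, map_mul, Matrix.det_mul, Matrix.det_mul, hSd]
        rw [hP] at h1
        refine mul_left_cancel₀ (ε : Fˣ).ne_zero ?_
        rw [mul_one, ← mul_assoc, ← mul_assoc, mul_comm _ ((M (P ε)⁻¹).det), ← mul_assoc, ← mul_assoc,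
          mul_comm ((M (P ε)⁻¹).det), h1, one_mul, hε, Subgroup.coe_mul, Units.val_mul, powMonoidHom_apply,
          SubgroupClass.coe_pow, Units.val_pow_eq_pow_val, mul_comm]
        rfl)
      refine ⟨s, hφ ?_⟩
      rw [map_mul, map_mul, map_inv, hs, hv', ← hQ]
      rw [mul_inv_eq_iff_eq_mul]
      have := hSc c (Q * A₀ * Q⁻¹)
      calc S c * (Q * (P ε)⁻¹) * (P ε * A₀ * (P ε)⁻¹) = (S c * (Q * A₀ * Q⁻¹)) * (Q * (P ε)⁻¹) := by
            simp only [mul_assoc, inv_mul_cancel_left]
        _ = _ := by rw [this]; simp only [mul_assoc]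
  rw [← Nat.card_eq_of_bijective Φ hbij]
  show N.index = _
  rw [IsCyclic.index_powMonoidHom_range, card_norm_one hF, Nat.gcd_comm]

/-- Regular unipotent classes of SU_n(q), n ≥ 2: the elements u of the special unitary group (isometries of Σ u_i v_i^q of determinant one over the field with q² elements) with (u − 1)^n = 0 and rank(u − 1) = n − 1 form exactly gcd(n, q + 1) conjugacy classes of SU_n(q). -/
theorem result {K : Type*} [Field K] [Fintype K] {q n : ℕ} (hK : Fintype.card K = q ^ 2) (hn : 2 ≤ n) : Nat.card {C : ConjClasses ↥(Cfsg.SU n K q) // ∃ u : ↥(Cfsg.SU n K q), ConjClasses.mk u = C ∧ (((u : GL (Fin n) K) : Matrix (Fin n) (Fin n) K) - 1) ^ n = 0 ∧ (((u : GL (Fin n) K) : Matrix (Fin n) (Fin n) K) - 1).rank = n - 1} = Nat.gcd n (q + 1) := by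
  exact main hK hn

end Cfsg.Agent.S2643
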