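import Cfsg.Statements.S2644
import Cfsg.Agent.S2587
import Cfsg.Agent.S2579
import Cfsg.Agent.Lib.Linear.HermitianFactor
-- import your own Cfsg.Agent.* helpers here

set_option autoImplicit false
open Cfsg
open scoped Matrix

namespace Cfsg.Agent.S2644

/-- In the special unitary group SU_n(q) with n ≥ 3 (isometries of Σ u_i v_i^q of determinant one over the field with q² elements), any two transvections (elements t with t − 1 of rank one and square zero) are conjugate. -/
theorem result {K : Type*} [Field K] [Fintype K] {q n : ℕ} (hK : Fintype.card K = q ^ 2) (hn : 3 ≤ n) (s t : ↥(Cfsg.SU n K q)) (hs : Cfsg.IsTransvection (((s : GL (Fin n) K) : Matrix (Fin n) (Fin n) K))) (ht : Cfsg.IsTransvection (((t : GL (Fin n) K) : Matrix (Fin n) (Fin n) K))) : IsConj s t := by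
  classical
  obtain ⟨σ, hσ, hσσ, w₀, hw₀⟩ := Lib.Linear.HermitianFactor.exists_involution hK
  have hgl : IsConj ((s : GL (Fin n) K)) ((t : GL (Fin n) K)) :=
    MonoidHom.map_isConj Matrix.SpecialLinearGroup.toGL
      (Cfsg.Agent.S2579.result hn (s : Matrix.SpecialLinearGroup (Fin n) K) (t : Matrix.SpecialLinearGroup (Fin n) K) hs ht)
  have hsG : ((s : GL (Fin n) K)) ∈ Cfsg.GU n K q := s.2
  have htG : ((t : GL (Fin n) K)) ∈ Cfsg.GU n K q := t.2
  obtain ⟨c, hc⟩ := isConj_iff.mp ((Cfsg.Agent.S2587.result hK ⟨_, hsG⟩ ⟨_, htG⟩).mpr hgl)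
  set S : Matrix (Fin n) (Fin n) K := ((s : GL (Fin n) K) : Matrix (Fin n) (Fin n) K) with hS
  have hform : ∀ u v : Fin n → K, Cfsg.hermForm n K q u v = u ⬝ᵥ (fun i => σ (v i)) := fun u v => by
    simp [Cfsg.hermForm, dotProduct, hσ]
  have hpres : ∀ u v, Cfsg.hermForm n K q (S *ᵥ u) (S *ᵥ v) = Cfsg.hermForm n K q u v := s.2
  -- an anisotropic fixed vector
  let W : Submodule K (Fin n → K) := LinearMap.ker (Matrix.toLin' (S - 1))
  have hWmem : ∀ x, x ∈ W ↔ S *ᵥ x = x := fun x => by
    simp [W, Matrix.sub_mulVec, sub_eq_zero]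
  have hWdim : Module.finrank K W = n - 1 := by
    have h := LinearMap.finrank_range_add_finrank_ker (Matrix.toLin' (S - 1))
    rw [Module.finrank_fin_fun] at h
    have h1 : Module.finrank K (LinearMap.range (Matrix.toLin' (S - 1))) = 1 := by
      rw [Matrix.toLin'_apply']; exact hs.1
    rw [h1] at h
    show Module.finrank K (LinearMap.ker _) = n - 1
    omega
  obtain ⟨w, hwW, hwQ⟩ : ∃ w ∈ W, Cfsg.hermForm n K q w w ≠ 0 := by
    by_contra hall
    push Not at hall
    have hzero : ∀ u ∈ W, ∀ v ∈ W, u ⬝ᵥ (fun i => σ (v i)) = 0 := by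
      intro u hu v hv
      by_contra hne
      have key : ∀ a : K, a * (u ⬝ᵥ (fun i => σ (v i))) + σ (a * (u ⬝ᵥ (fun i => σ (v i)))) = 0 := by
        intro a
        have h1 := hall (a • u + v) (W.add_mem (W.smul_mem _ hu) hv)
        have h2 := hall (a • u) (W.smul_mem _ hu)
        have h3 := hall v hv
        have e : σ (a * (u ⬝ᵥ (fun i => σ (v i)))) = v ⬝ᵥ (fun i => σ ((a • u) i)) := by
          simp only [dotProduct, Finset.mul_sum, map_sum, map_mul, hσσ, Pi.smul_apply, smul_eq_mul]
          exact Finset.sum_congr rfl fun i _ => by ring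
        rw [e]
        rw [hform] at h1 h2 h3
        have e2 : (fun i => σ ((a • u + v) i)) = (fun i => σ ((a • u) i)) + (fun i => σ (v i)) := by
          funext i; simp [map_add]
        rw [e2, add_dotProduct, dotProduct_add, dotProduct_add, h2, h3] at h1
        simpa [smul_dotProduct] using h1
      have hx : ∀ x : K, x + σ x = 0 := fun x => by
        simpa [div_mul_cancel₀ x hne] using key (x / (u ⬝ᵥ (fun i => σ (v i))))
      have h1 := hx 1
      rw [map_one] at h1
      exact hw₀ (by linear_combination hx w₀ - w₀ * h1)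
    let ψ : W → (W.dualAnnihilator : Submodule K (Module.Dual K (Fin n → K))) := fun v =>
      ⟨dotProductEquiv K (Fin n) (fun i => σ ((v : Fin n → K) i)), (Submodule.mem_dualAnnihilator _).mpr fun u hu => by
        show (fun i => σ ((v : Fin n → K) i)) ⬝ᵥ u = 0
        rw [dotProduct_comm]
        exact hzero u hu _ v.2⟩
    have hψ : Function.Injective ψ := fun a b h => Subtype.ext (funext fun i => σ.injective
      (congrFun ((dotProductEquiv K (Fin n)).injective (congrArg Subtype.val h)) i))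
    haveI : Finite (W.dualAnnihilator : Submodule K (Module.Dual K (Fin n → K))) := Module.finite_of_finite K
    have hcard := Nat.card_le_card_of_injective ψ hψ
    rw [Module.natCard_eq_pow_finrank (K := K), Module.natCard_eq_pow_finrank (K := K) (V := W.dualAnnihilator)] at hcard
    have h2 := Subspace.finrank_add_finrank_dualAnnihilator_eq W
    rw [Module.finrank_fin_fun, hWdim] at h2
    have h3 := (Nat.pow_le_pow_iff_right (Finite.one_lt_card (α := K))).mp hcard
    omega
  set Q : K := w ⬝ᵥ (fun i => σ (w i)) with hQ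
  have hQ0 : Q ≠ 0 := by rwa [hQ, ← hform]
  have hQσ : σ Q = Q := by
    simp only [hQ, dotProduct, map_sum, map_mul, hσσ]
    exact Finset.sum_congr rfl fun i _ => mul_comm _ _
  set C : Matrix (Fin n) (Fin n) K := (((c : Cfsg.GU n K q) : GL (Fin n) K) : Matrix (Fin n) (Fin n) K) with hC
  have hCu : IsUnit C := ((c : Cfsg.GU n K q) : GL (Fin n) K).isUnit
  have hd0 : C.det ≠ 0 := ((Matrix.isUnit_iff_isUnit_det _).mp hCu).ne_zero
  have hCd : Cᵀ * C.map σ = 1 := by
    refine Matrix.ext fun i j => ?_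
    have h' : Cfsg.hermForm n K q (C *ᵥ Pi.single i 1) (C *ᵥ Pi.single j 1) =
        Cfsg.hermForm n K q (Pi.single i 1) (Pi.single j 1) := c.2 _ _
    rw [hform, hform] at h'
    have e : (fun a => σ ((C *ᵥ Pi.single j 1) a)) = (fun a => C.map σ a j) := by
      funext a; simp [Matrix.mulVec_single_one]
    rw [e, Matrix.mulVec_single_one, single_one_dotProduct] at h'
    rw [Matrix.mul_apply]
    refine Eq.trans ?_ (h'.trans ?_)
    · simp [dotProduct]
    · by_cases hij : i = j <;> simp [hij, Pi.single_apply, Matrix.one_apply]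
  have hN : C.det * σ C.det = 1 := by
    have h := congrArg Matrix.det hCd
    rw [Matrix.det_mul, Matrix.det_transpose, Matrix.det_one, ← RingHom.mapMatrix_apply, ← RingHom.map_det] at h
    exact h
  set α : K := (σ C.det - 1) / Q with hα
  let wb : Fin n → K := fun i => σ (w i)
  let R : Matrix (Fin n) (Fin n) K := 1 + Matrix.vecMulVec (α • w) wb
  have hRv : ∀ x, R *ᵥ x = x + (α * (wb ⬝ᵥ x)) • w := fun x => by
    simp only [R, Matrix.add_mulVec, Matrix.one_mulVec, Matrix.vecMulVec_mulVec, op_smul_eq_smul, smul_smul]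
    rw [mul_comm]
  have hRdet : R.det = σ C.det := by
    simp only [R]
    rw [Matrix.vecMulVec_eq Unit, Matrix.det_one_add_replicateCol_mul_replicateRow, dotProduct_smul, smul_eq_mul,
      dotProduct_comm, ← hQ, hα, div_mul_cancel₀ _ hQ0]
    ring
  have hRS : R * S = S * R := by
    refine Matrix.ext_iff_mulVec.mpr fun x => ?_
    rw [← Matrix.mulVec_mulVec, ← Matrix.mulVec_mulVec, hRv, hRv, Matrix.mulVec_add, Matrix.mulVec_smul,
      (hWmem w).mp hwW]
    congr 3
    show wb ⬝ᵥ (S *ᵥ x) = wb ⬝ᵥ x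
    have h := hpres x w
    rw [(hWmem w).mp hwW, hform, hform] at h
    rw [dotProduct_comm, dotProduct_comm wb x]
    exact h
  have hRform : ∀ u v, Cfsg.hermForm n K q (R *ᵥ u) (R *ᵥ v) = Cfsg.hermForm n K q u v := by
    intro u v
    have hQ' : w ⬝ᵥ wb = Q := rfl
    have hαQ : α * Q = σ C.det - 1 := div_mul_cancel₀ _ hQ0
    have hσα : σ α * Q = C.det - 1 := by
      rw [hα, map_div₀, map_sub, map_one, hσσ, hQσ, div_mul_cancel₀ _ hQ0]
    have hzero : α + σ α + α * σ α * Q = 0 := by
      refine mul_left_cancel₀ hQ0 ?_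
      rw [mul_zero]
      linear_combination hN + (1 + σ α * Q) * hαQ + σ C.det * hσα
    rw [hform, hform, hRv, hRv]
    have e : (fun i => σ ((v + (α * (wb ⬝ᵥ v)) • w) i)) = (fun i => σ (v i)) + (σ α * σ (wb ⬝ᵥ v)) • wb := by
      funext i; simp [wb]
    have e2 : σ (wb ⬝ᵥ v) = w ⬝ᵥ (fun i => σ (v i)) := by
      simp [dotProduct, wb, hσσ]
    rw [e, e2]
    simp only [add_dotProduct, dotProduct_add, smul_dotProduct, dotProduct_smul, smul_eq_mul, hQ',
      dotProduct_comm u wb]
    linear_combination (w ⬝ᵥ (fun i => σ (v i))) * (wb ⬝ᵥ u) * hzero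
  have hdet1 : (C * R).det = 1 := by rw [Matrix.det_mul, hRdet, hN]
  let g : Matrix.SpecialLinearGroup (Fin n) K := ⟨C * R, hdet1⟩
  have hg : g ∈ Cfsg.SU n K q := by
    intro u v
    show Cfsg.hermForm n K q ((C * R) *ᵥ u) ((C * R) *ᵥ v) = _
    rw [← Matrix.mulVec_mulVec, ← Matrix.mulVec_mulVec]
    exact (c.2 _ _).trans (hRform u v)
  refine isConj_iff.mpr ⟨⟨g, hg⟩, ?_⟩
  rw [mul_inv_eq_iff_eq_mul]
  refine Subtype.ext (Subtype.ext ?_)
  show C * R * S = ((t : GL (Fin n) K) : Matrix (Fin n) (Fin n) K) * (C * R)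
  have h : C * S = ((t : GL (Fin n) K) : Matrix (Fin n) (Fin n) K) * C :=
    congrArg (fun x : Cfsg.GU n K q => ((x : GL (Fin n) K) : Matrix (Fin n) (Fin n) K)) (mul_inv_eq_iff_eq_mul.mp hc)
  rw [mul_assoc, hRS, ← mul_assoc, h, mul_assoc]

end Cfsg.Agent.S2644
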