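import Cfsg.Statements.S2645
import Cfsg.Agent.Lib.Linear.PrimeClasses.SympReal
import Cfsg.Agent.Lib.Linear.SympConjApps

set_option linter.style.haveILetI false

set_option autoImplicit false
open Cfsg

namespace Cfsg.Agent.S2645

open Polynomial
open scoped Matrix
open Cfsg.Agent.Lib.Linear.PrimeClasses

theorem even_sum_units {r : ℕ} [Fact r.Prime] {w : (ZMod r)ˣ} (hw2 : 2 ∣ orderOf w) {n : ℕ} {m : ZMod r → ℕ}
    (hm : Inv w n m) : 2 ∣ ∑ u : (ZMod r)ˣ, m u := by
  have h : ∑ u : (ZMod r)ˣ, m u = ∑ u : (ZMod r)ˣ, (cosetEquiv w n ⟨m, hm⟩).1 u :=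
    Finset.sum_congr rfl fun u _ => rfl
  rw [h, sum_coset]
  exact dvd_mul_of_dvd_left hw2 _

theorem two_dvd_orderOf {r : ℕ} [Fact r.Prime] (hr2 : r ≠ 2) {w : (ZMod r)ˣ}
    (hwn : ∃ k : ℕ, (-1 : (ZMod r)ˣ) = w ^ k) : 2 ∣ orderOf w := by
  obtain ⟨k, hk⟩ := hwn
  have h2 : orderOf (-1 : (ZMod r)ˣ) = 2 := by
    rw [← orderOf_units, Units.val_neg, Units.val_one, orderOf_neg_one, ringChar.eq (ZMod r) r, if_neg hr2]
  rw [← h2, hk]
  exact orderOf_pow_dvd k

theorem main {F : Type*} [Field F] [Fintype F] {p q : ℕ} [Fact p.Prime] [CharP F p] (hF : Fintype.card F = q) (m r i t : ℕ) (hr : r.Prime) (hr2 : r ≠ 2) (hrp : r ≠ p) (hi : i = orderOf (q : ZMod r)) (ht : t * i = r - 1) : Nat.card {C : ConjClasses ↥(Matrix.symplecticGroup (Fin m) F) // ∃ g : Matrix.symplecticGroup (Fin m) F, ConjClasses.mk g = C ∧ orderOf g = r} = if Odd i then Nat.choose (m / i + t / 2) (t / 2) - 1 else Nat.choose (2 * m / i + t) t - 1 := by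
  classical
  haveI : Fact r.Prime := ⟨hr⟩
  let L := AlgebraicClosure F
  haveI : CharP L p := charP_of_injective_algebraMap (algebraMap F L).injective p
  have hrL : (r : L) ≠ 0 := fun h =>
    hrp ((Nat.prime_dvd_prime_iff_eq Fact.out hr).mp ((CharP.cast_eq_zero_iff L p r).mp h)).symm
  have hrF : (r : F) ≠ 0 := fun h => hrL (by rw [← map_natCast (algebraMap F L), h, map_zero])
  haveI : NeZero (r : L) := ⟨hrL⟩
  obtain ⟨ζ, hζ⟩ := HasEnoughRootsOfUnity.exists_primitiveRoot L r
  have hpc : (Fintype.card F : ZMod r) ≠ 0 := by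
    intro h
    obtain ⟨k, -, hk⟩ := FiniteField.card F p
    rw [hk, ZMod.natCast_eq_zero_iff] at h
    exact hrp ((Nat.prime_dvd_prime_iff_eq hr Fact.out).mp (hr.dvd_of_dvd_pow h))
  let uq : (ZMod r)ˣ := Units.mk0 _ hpc
  have huq : (uq : ZMod r) = (Fintype.card F : ZMod r) := rfl
  have hiu : orderOf uq = i := by rw [hi, ← orderOf_units, huq, hF]
  obtain ⟨w, hw, hwq, hwn, hwo⟩ := exists_gen hr2 uq
  rw [hiu] at hwo
  let e : Fin m ⊕ Fin m ≃ Fin (m + m) := finSumFinEquiv
  let R := Matrix.reindexAlgEquiv F F e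
  let ρ : Matrix.symplecticGroup (Fin m) F →* Matrix (Fin (m + m)) (Fin (m + m)) F :=
    R.toAlgHom.toRingHom.toMonoidHom.comp (Matrix.symplecticGroup (Fin m) F).subtype
  have hρc : ∀ a, (ρ a).charpoly = (a : Matrix (Fin m ⊕ Fin m) (Fin m ⊕ Fin m) F).charpoly := fun a =>
    Matrix.charpoly_reindex e _
  have hcard := card_classes (F := F) (L := L) hζ ρ w (fun _ => True)
    (fun a b ha hb hab => ?_) (fun a ha f hf hs => ⟨?_, trivial⟩) (fun f hf _ => ?_)
  · rw [hcard, Nat.card_congr (Equiv.subtypeEquivRight (q := Inv w (m + m)) fun f => by simp)]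
    by_cases hodd : Odd i
    · rw [if_pos hodd] at hwo ⊢
      have hte : 2 ∣ t := by
        have hev : Even (r - 1) := hr.even_sub_one hr2
        rw [← ht, Nat.even_mul] at hev
        rcases hev with h | h
        · exact even_iff_two_dvd.mp h
        · exact absurd h (Nat.not_even_iff_odd.mpr hodd)
      obtain ⟨s, rfl⟩ := hte
      rw [card_inv w (m + m) (s := s) (by rw [hwo, ← ht]; ring), hwo, ← two_mul,
        Nat.mul_div_mul_left _ _ two_pos, Nat.mul_div_cancel_left _ two_pos]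
    · rw [if_neg hodd] at hwo ⊢
      rw [card_inv w (m + m) (s := t) (by rw [hwo, ht]), hwo, ← two_mul]
  · by_cases h1 : a = b
    · subst h1; exact IsConj.refl a
    refine Cfsg.Lib.Linear.SympConj.isConj_sp_of_isConj a b ?_ ?_
    · intro h0
      rcases (Nat.dvd_prime hr).mp (orderOf_dvd_of_pow_eq_one ha) with h | h
      · rw [h, Nat.cast_one] at h0; exact one_ne_zero h0
      · rw [h] at h0; exact hrF h0
    · exact Cfsg.Lib.Linear.SympConj.isConj_matrix_of_charpoly_eq a b hrF hrF ha hb (by rw [← hρc, hab, hρc])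
  · refine inv_of_charpoly hζ hrL huq w hw (ρ a) (ρ a⁻¹) (by rw [← map_pow, ha, map_one])
      (by rw [← map_mul, mul_inv_cancel, map_one]) ?_ hf hs
    rw [hρc, hρc]
    exact charpoly_inv_of_form (Matrix.J (Fin m) F) _ _ (isUnit_sympJ m) (SymplecticGroup.mem_iff'.mp a.2)
      (congrArg Subtype.val (mul_inv_cancel a))
  · obtain ⟨P, -, hP⟩ := exists_descent (F := F) hζ huq f (fun x => by
      obtain ⟨k, hk⟩ := hwq
      rw [hk, Units.val_pow_eq_pow_val]
      exact inv_pow hf k x)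
    let f' : ZMod r → ℕ := fun x => if x = 0 then 0 else f x
    have hf' : Inv w (∑ x, f' x) f' := ⟨rfl, fun x => by
      simp only [f', mul_eq_zero, Units.ne_zero, false_or]
      rw [hf.2]⟩
    obtain ⟨P', -, hP'⟩ := exists_descent (F := F) hζ huq f' (fun x => by
      obtain ⟨k, hk⟩ := hwq
      rw [hk, Units.val_pow_eq_pow_val]
      exact inv_pow hf' k x)
    have hA : AltReal r P' := altReal_of_inv hζ huq hr2 w hwq hwn hf' (if_pos rfl) P' hP'
    obtain ⟨a, ha⟩ : ∃ a, f 0 = a + a := by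
      have h2 := even_sum_units (two_dvd_orderOf hr2 hwn) hf
      have h3 := hf.1
      rw [sum_eq] at h3
      obtain ⟨c, hc⟩ := h2
      exact ⟨m - c, by omega⟩
    have hPP : P = P' * (X - 1) ^ (a + a) := Polynomial.map_injective _ (algebraMap F L).injective (by
      rw [Polynomial.map_mul, hP', Polynomial.map_pow, Polynomial.map_sub, map_X, Polynomial.map_one, hP,
        ← Pm_single (r := r) ζ (a + a), ← Pm_add, ← ha]
      congr 1
      funext x
      by_cases hx : x = 0
      · subst hx; simp [f']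
      · simp [f', hx])
    have hdeg : P.natDegree = m + m := by
      rw [← Polynomial.natDegree_map (algebraMap F L), hP, Pm_natDegree, hf.1]
    obtain ⟨g, hg, hgp⟩ := exists_sp_of_altReal (hPP ▸ hA.mul (AltReal.pow_X_sub_one a)) hdeg
    exact ⟨g, hg, by rw [hρc, hgp, hP]⟩

/-- Number of conjugacy classes of elements of odd prime order r, r different from the characteristic, in the symplectic group Sp_2m(q): let i be the multiplicative order of q modulo r and t = (r − 1)/i. If i is odd the eigenvalue orbits pair off (Λ ≠ Λ⁻¹) and the classes correspond to the non-zero (t/2)-tuples (a_j) with 2i Σ a_j ≤ 2m, giving C(⌊m/i⌋ + t/2, t/2) − 1 classes; if i is even (Λ = Λ⁻¹) they correspond to the non-zero t-tuples with i Σ a_j ≤ 2m, giving C(⌊2m/i⌋ + t, t) − 1 classes. -/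
theorem result {F : Type*} [Field F] [Fintype F] {p q : ℕ} [Fact p.Prime] [CharP F p] (hF : Fintype.card F = q) (m r i t : ℕ) (hr : r.Prime) (hr2 : r ≠ 2) (hrp : r ≠ p) (hi : i = orderOf (q : ZMod r)) (ht : t * i = r - 1) : Nat.card {C : ConjClasses ↥(Matrix.symplecticGroup (Fin m) F) // ∃ g : Matrix.symplecticGroup (Fin m) F, ConjClasses.mk g = C ∧ orderOf g = r} = if Odd i then Nat.choose (m / i + t / 2) (t / 2) - 1 else Nat.choose (2 * m / i + t) t - 1 := by
  exact main hF m r i t hr hr2 hrp hi ht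

end Cfsg.Agent.S2645
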