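import Cfsg.Statements.S2646
import Cfsg.Agent.Lib.Linear.HermUnipCent

set_option autoImplicit false
open Cfsg

namespace Cfsg.Agent.S2646

open Cfsg.Lib.Linear.Herm Cfsg.Lib.Linear.IsoFix Cfsg.Lib.Linear.HermUnipCent

theorem fiber_sum {t : ℕ} (d : Fin t → ℕ) {D : ℕ} (hD : ∀ k, d k < D) (h : ℕ → ℕ) :
    ∑ k, h (d k) = ∑ i ∈ Finset.range D, (Finset.univ.filter fun k : Fin t => d k = i).card * h i := by
  rw [← Finset.sum_fiberwise_of_maps_to (g := d) (t := Finset.range D) fun k _ => Finset.mem_range.2 (hD k)]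
  refine Finset.sum_congr rfl fun i _ => ?_
  rw [Finset.sum_congr rfl fun k hk => by rw [(Finset.mem_filter.1 hk).2], Finset.sum_const, smul_eq_mul]

theorem exponent_eq {t : ℕ} (d : Fin t → ℕ) {D : ℕ} (hD : ∀ k, d k < D) :
    (∑ k, ∑ m, (min (d k) (d m) - if d k = d m then 1 else 0)) =
      2 * (∑ i ∈ Finset.range D, ∑ j ∈ Finset.range D, if i < j then
        i * (Finset.univ.filter (fun k : Fin t => d k = i)).card * (Finset.univ.filter (fun k : Fin t => d k = j)).card
        else 0) + ∑ i ∈ Finset.range D, (i - 1) * (Finset.univ.filter (fun k : Fin t => d k = i)).card ^ 2 := by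
  obtain ⟨r, hr⟩ : ∃ r : ℕ → ℕ, ∀ i, (Finset.univ.filter fun k : Fin t => d k = i).card = r i := ⟨_, fun i => rfl⟩
  rw [fiber_sum d hD fun x => ∑ m, (min x (d m) - if x = d m then 1 else 0)]
  simp only [fun x => fiber_sum d hD fun y => min x y - if x = y then 1 else 0, hr, Finset.mul_sum]
  have key : ∀ i j, r i * (r j * (min i j - if i = j then 1 else 0)) =
      (if i < j then i * r i * r j else 0) + (if j < i then j * r j * r i else 0) +
        if i = j then (i - 1) * r i ^ 2 else 0 := fun i j => by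
    rcases lt_trichotomy i j with h | rfl | h
    · rw [if_neg h.ne, if_pos h, if_neg h.asymm, if_neg h.ne, min_eq_left h.le, Nat.sub_zero]; ring
    · rw [if_pos rfl, if_neg (lt_irrefl _), if_pos rfl, min_self]; ring
    · rw [if_neg h.ne', if_neg h.asymm, if_pos h, if_neg h.ne', min_eq_right h.le, Nat.sub_zero]; ring
  simp only [key, Finset.sum_add_distrib]
  rw [Finset.sum_comm (f := fun i j => if j < i then j * r j * r i else 0)]
  simp only [two_mul, Finset.sum_add_distrib]
  congr 1
  refine Finset.sum_congr rfl fun i hi => ?_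
  rw [Finset.sum_ite_eq, if_pos hi]

theorem guCard_cast {q : ℕ} (hq : 1 ≤ q) (r : ℕ) :
    (guCard q r : ℤ) = (q : ℤ) ^ (r * (r - 1) / 2) * ∏ j : Fin r, ((q : ℤ) ^ ((j : ℕ) + 1) - (-1) ^ ((j : ℕ) + 1)) := by
  rw [guCard, Nat.cast_mul, Nat.cast_pow, Nat.cast_prod,
    Fin.prod_univ_eq_prod_range (fun j => (q : ℤ) ^ (j + 1) - (-1) ^ (j + 1)) r]
  refine congrArg _ (Finset.prod_congr rfl fun j _ => ?_)
  split_ifs with h
  · rw [h.add_one.neg_one_pow, sub_neg_eq_add]; push_cast; ring
  · rw [(Nat.not_even_iff_odd.1 h).add_one.neg_one_pow, Nat.cast_sub (Nat.one_le_pow _ _ hq)]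
    push_cast
    ring

/-- Order of the centraliser in the general unitary group GU_n(q) of a unipotent element of given Jordan type: if u ∈ GU_n(q) (isometries of Σ u_i v_i^q over the field with q² elements) is similar to the unipotent matrix with a_i Jordan blocks of size i (all sizes at least 1), then its centraliser in GU_n(q) has order q^γ · Π_i |GU_(a_i)(q)| with γ = 2 Σ_(i<j) i a_i a_j + Σ_i (i − 1) a_i², the same exponent as in GL_n(q), where |GU_a(q)| = q^(a(a−1)/2) Π_(k=1)^a (q^k − (−1)^k). -/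
theorem result {K : Type*} [Field K] [Fintype K] {q n t : ℕ} (hK : Fintype.card K = q ^ 2) (d : Fin t → ℕ) (hd : ∀ k, 1 ≤ d k) (e : ((k : Fin t) × Fin (d k)) ≃ Fin n) (u : ↥(Cfsg.GU n K q)) (hu : IsConj (Matrix.reindex e e (Cfsg.jordanTypeMatrix d K)) ((u : GL (Fin n) K) : Matrix (Fin n) (Fin n) K)) : (Nat.card ↥(Subgroup.centralizer ({u} : Set ↥(Cfsg.GU n K q))) : ℤ) = (q : ℤ) ^ (2 * (∑ i ∈ Finset.range (Finset.univ.sup d + 1), ∑ j ∈ Finset.range (Finset.univ.sup d + 1), if i < j then i * (Finset.univ.filter (fun k : Fin t => d k = i)).card * (Finset.univ.filter (fun k : Fin t => d k = j)).card else 0) + ∑ i ∈ Finset.range (Finset.univ.sup d + 1), (i - 1) * (Finset.univ.filter (fun k : Fin t => d k = i)).card ^ 2) * ∏ i ∈ Finset.range (Finset.univ.sup d + 1), ((q : ℤ) ^ ((Finset.univ.filter (fun k : Fin t => d k = i)).card * ((Finset.univ.filter (fun k : Fin t => d k = i)).card - 1) / 2) * ∏ j : Fin (Finset.univ.filter (fun k : Fin t => d k = i)).card, ((q : ℤ) ^ ((j : ℕ) + 1) - (-1)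 ^ ((j : ℕ) + 1))) := by
  classical
  obtain ⟨c, hc⟩ := hu
  replace hc : c.val * (Matrix.reindexAlgEquiv K K e) (Cfsg.jordanTypeMatrix d K) = (u : GL (Fin n) K).val * c.val := hc
  let R := Matrix.reindexAlgEquiv K K e
  have hR : ∀ X, adj hK (R X) = R (adj hK X) := fun X => rfl
  have hU : adj hK (u : GL (Fin n) K).val * (u : GL (Fin n) K).val = 1 := (mem_GU_iff hK _).1 u.2
  have hc' : R (Cfsg.jordanTypeMatrix d K) * (c⁻¹).val = (c⁻¹).val * (u : GL (Fin n) K).val := by
    calc R (Cfsg.jordanTypeMatrix d K) * (c⁻¹).val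
        = (c⁻¹).val * (c.val * R (Cfsg.jordanTypeMatrix d K)) * (c⁻¹).val := by
          rw [← mul_assoc (c⁻¹).val, Units.inv_mul, one_mul]
      _ = (c⁻¹).val * (u : GL (Fin n) K).val * (c.val * (c⁻¹).val) := by rw [hc]; simp only [mul_assoc]
      _ = _ := by rw [Units.mul_inv, mul_one]
  have hGa : R (R.symm (adj hK c.val * c.val)) = adj hK c.val * c.val := R.apply_symm_apply _
  have hherm : adj hK (adj hK c.val * c.val) = adj hK c.val * c.val := by rw [adj_mul, adj_adj]
  have hG : Gram hK (R.symm (adj hK c.val * c.val)) := by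
    refine ⟨R.injective ?_, ?_, R.injective ?_⟩
    · rw [← hR, hGa, hherm]
    · refine (IsUnit.mul ?_ c.isUnit).map R.symm
      exact IsUnit.of_mul_eq_one (adj hK (c⁻¹).val) (by rw [← adj_mul, Units.inv_mul, adj_one])
    · rw [map_mul R, map_mul R, ← hR, hGa]
      calc adj hK (R (Cfsg.jordanTypeMatrix d K)) * (adj hK c.val * c.val) * R (Cfsg.jordanTypeMatrix d K)
          = adj hK (c.val * R (Cfsg.jordanTypeMatrix d K)) * (c.val * R (Cfsg.jordanTypeMatrix d K)) := by
            rw [adj_mul]; simp only [mul_assoc]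
        _ = adj hK c.val * (adj hK (u : GL (Fin n) K).val * (u : GL (Fin n) K).val) * c.val := by
            rw [hc, adj_mul]; simp only [mul_assoc]
        _ = _ := by rw [hU, mul_one]
  have hD : ∀ k, d k < Finset.univ.sup d + 1 := fun k => Nat.lt_succ_of_le (Finset.le_sup (f := d) (Finset.mem_univ k))
  have hcard : Nat.card ↥(Subgroup.centralizer ({u} : Set ↥(Cfsg.GU n K q))) =
      Nat.card {X : Mat K d // Cm X ∧ adj hK X * R.symm (adj hK c.val * c.val) * X = R.symm (adj hK c.val * c.val)} := by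
    have hgU : ∀ g : ↥(Subgroup.centralizer ({u} : Set ↥(Cfsg.GU n K q))),
        (u : GL (Fin n) K).val * (g.1 : GL (Fin n) K).val = (g.1 : GL (Fin n) K).val * (u : GL (Fin n) K).val := fun g =>
      congrArg (fun x : ↥(Cfsg.GU n K q) => (x : GL (Fin n) K).val) (Subgroup.mem_centralizer_iff.1 g.2 u rfl)
    have hinv : ∀ X : {X : Mat K d // Cm X ∧
        adj hK X * R.symm (adj hK c.val * c.val) * X = R.symm (adj hK c.val * c.val)},
        adj hK (c.val * R X.1 * (c⁻¹).val) * (c.val * R X.1 * (c⁻¹).val) = 1 := fun X => by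
      calc adj hK (c.val * R X.1 * (c⁻¹).val) * (c.val * R X.1 * (c⁻¹).val)
          = adj hK (c⁻¹).val * R (adj hK X.1 * R.symm (adj hK c.val * c.val) * X.1) * (c⁻¹).val := by
            rw [map_mul R, map_mul R, hGa, ← hR, adj_mul, adj_mul]; simp only [mul_assoc]
        _ = adj hK (c⁻¹).val * adj hK c.val * (c.val * (c⁻¹).val) := by rw [X.2.2, hGa]; simp only [mul_assoc]
        _ = 1 := by rw [← adj_mul, Units.mul_inv, adj_one, one_mul]
    refine Nat.card_congr
      { toFun := fun g => ⟨R.symm ((c⁻¹).val * (g.1 : GL (Fin n) K).val * c.val), ?_, R.injective ?_⟩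
        invFun := fun X => ⟨⟨⟨c.val * R X.1 * (c⁻¹).val, adj hK (c.val * R X.1 * (c⁻¹).val),
          mul_eq_one_comm.1 (hinv X), hinv X⟩, (mem_GU_iff hK _).2 (hinv X)⟩, ?_⟩
        left_inv := fun g => Subtype.ext (Subtype.ext (Units.ext (by
          show c.val * R (R.symm ((c⁻¹).val * (g.1 : GL (Fin n) K).val * c.val)) * (c⁻¹).val = _
          rw [AlgEquiv.apply_symm_apply]
          simp [mul_assoc])))
        right_inv := fun X => Subtype.ext (by
          show R.symm ((c⁻¹).val * (c.val * R X.1 * (c⁻¹).val) * c.val) = X.1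
          simp [mul_assoc]) }
    · refine R.injective ?_
      rw [map_mul R, map_mul R, AlgEquiv.apply_symm_apply]
      calc (c⁻¹).val * (g.1 : GL (Fin n) K).val * c.val * R (Cfsg.jordanTypeMatrix d K)
          = (c⁻¹).val * ((g.1 : GL (Fin n) K).val * (u : GL (Fin n) K).val) * c.val := by
            simp only [mul_assoc]; rw [hc]
        _ = ((c⁻¹).val * (u : GL (Fin n) K).val) * (g.1 : GL (Fin n) K).val * c.val := by
            rw [← hgU g]; simp only [mul_assoc]
        _ = _ := by rw [← hc']; simp only [mul_assoc]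
    · rw [map_mul R, map_mul R, ← hR, hGa, AlgEquiv.apply_symm_apply, adj_mul, adj_mul]
      calc adj hK c.val * (adj hK (g.1 : GL (Fin n) K).val * adj hK (c⁻¹).val) * (adj hK c.val * c.val) *
            ((c⁻¹).val * (g.1 : GL (Fin n) K).val * c.val)
          = adj hK c.val * (adj hK (g.1 : GL (Fin n) K).val * (adj hK (c⁻¹).val * adj hK c.val) * (c.val * (c⁻¹).val) *
              (g.1 : GL (Fin n) K).val) * c.val := by simp only [mul_assoc]
        _ = adj hK c.val * (adj hK (g.1 : GL (Fin n) K).val * (g.1 : GL (Fin n) K).val) * c.val := by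
            rw [← adj_mul, Units.mul_inv, adj_one, mul_one, mul_one]
        _ = _ := by rw [(mem_GU_iff hK _).1 g.1.2, mul_one]
    · refine Subgroup.mem_centralizer_iff.2 fun x hx => ?_
      rw [Set.mem_singleton_iff] at hx
      subst hx
      refine Subtype.ext (Units.ext ?_)
      show (x : GL (Fin n) K).val * (c.val * R X.1 * (c⁻¹).val) = c.val * R X.1 * (c⁻¹).val * (x : GL (Fin n) K).val
      calc (x : GL (Fin n) K).val * (c.val * R X.1 * (c⁻¹).val)
          = c.val * (R (Cfsg.jordanTypeMatrix d K * X.1)) * (c⁻¹).val := by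
            rw [map_mul R, ← mul_assoc c.val, hc]; simp only [mul_assoc]
        _ = c.val * R X.1 * (R (Cfsg.jordanTypeMatrix d K) * (c⁻¹).val) := by
            rw [← (show X.1 * _ = Cfsg.jordanTypeMatrix d K * X.1 from X.2.1), map_mul R]; simp only [mul_assoc]
        _ = _ := by rw [hc']; simp only [mul_assoc]
  rw [hcard, card_uset hG hd hD, card_radSupp hd, exponent_eq d hD, Nat.cast_mul, Nat.cast_pow, Nat.cast_prod,
    mul_comm]
  refine congrArg _ (Finset.prod_congr rfl fun i _ => ?_)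
  exact guCard_cast (le_trans (by norm_num) (two_le_q hK)) _

end Cfsg.Agent.S2646
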