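import Cfsg.Statements.S2648
import Cfsg.Agent.Lib.H3.SylTwoDerived
import Cfsg.Agent.Lib.H3.SylTwoEigenLines
import Cfsg.Agent.S4624

set_option linter.style.haveILetI false

set_option autoImplicit false
open Cfsg

namespace Cfsg.Agent.S2648


open Module Cfsg.Lib.H3.SylTwo Cfsg.Lib.Linear.Orth Cfsg.Agent.S4624
open scoped Matrix commutatorElement
/-- Let q be odd, F a field with q elements and n ≥ 1. A Sylow 2-subgroup R of the symplectic group Sp_{2n}(F) has derived length exactly k + 1, where 2^k ≤ 2n < 2^{k+1}: the (k+1)-st term of its derived series is trivial and the k-th is not. -/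
theorem result {F : Type*} [Field F] [Fintype F] [DecidableEq F] (q : ℕ) (hF : Fintype.card F = q) (hq : Odd q) (n : ℕ) (hn : 1 ≤ n) (R : Sylow 2 ↥(Matrix.symplecticGroup (Fin n) F)) : derivedSeries ↥(R : Subgroup ↥(Matrix.symplecticGroup (Fin n) F)) (Nat.log 2 (2 * n) + 1) = ⊥ ∧ derivedSeries ↥(R : Subgroup ↥(Matrix.symplecticGroup (Fin n) F)) (Nat.log 2 (2 * n)) ≠ ⊥ := by
  classical
  haveI : Fact (Nat.Prime 2) := ⟨Nat.prime_two⟩
  subst hF
  have hq1 : 1 < Fintype.card F := Fintype.one_lt_card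
  have h2 := Cfsg.Lib.Linear.Orth.two_ne_zero_of_odd_card hq
  obtain ⟨Q, r, hQ, hQd, hQs, hQc, -, -, -, hQab⟩ := plane_groups (F := F) hq
  set K := (Matrix.GeneralLinearGroup.det (R := F) (n := Fin 2)).ker with hK
  have hQK : Q ≤ K := fun x hx => MonoidHom.mem_ker.2 (hQd x hx)
  let j : ↥Q →* ↥K := Subgroup.inclusion hQK
  -- the monomial group in the symplectic group
  have hconj : ∀ (σ : Equiv.Perm (Fin n)) (h : Fin n → ↥K),
      spPerm n F σ * spBlock n F h * (spPerm n F σ)⁻¹ = spBlock n F fun i => h (σ⁻¹ i) := by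
    intro σ h
    rw [mul_inv_eq_iff_eq_mul]
    refine Subtype.ext ?_
    show toSpace n F (permGL σ) * toSpace n F (blockGL fun i => (h i).1) =
      toSpace n F (blockGL fun i => (h (σ⁻¹ i)).1) * toSpace n F (permGL σ)
    rw [← map_mul, ← map_mul, ← gl_conj_block σ fun i => (h i).1, inv_mul_cancel_right]
  let Θ : Wr ↥Q (Fin n) →* ↥(Matrix.symplecticGroup (Fin n) F) :=
    SemidirectProduct.lift ((spBlock n F).comp (j.compLeft (Fin n))) (spPerm n F) fun σ => MonoidHom.ext fun h =>
      (hconj σ fun i => j (h i)).symm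
  have hΘ : Function.Injective Θ := by
    intro p p' h
    have h1 : toSpace n F (blockGL fun i => (p.left i).1) * toSpace n F (permGL p.right) =
        toSpace n F (blockGL fun i => (p'.left i).1) * toSpace n F (permGL p'.right) := congrArg Subtype.val h
    rw [← map_mul, ← map_mul] at h1
    obtain ⟨e1, e2⟩ := glBlockPerm_injective (toSpace_injective h1)
    exact SemidirectProduct.ext (funext fun i => Subtype.ext (congrFun e1 i)) e2
  haveI : Finite (Wr ↥Q (Fin n)) := Finite.of_injective Θ hΘ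
  have hlog : Nat.log 2 (2 * n) = Nat.log 2 n + 1 := by
    rw [mul_comm, Nat.log_mul_base (by norm_num) (by omega)]
  refine ⟨?_, ?_⟩
  · -- a Sylow subgroup inside the monomial group
    obtain ⟨W⟩ : Nonempty (Sylow 2 (Equiv.Perm (Fin n))) := inferInstance
    let M : Subgroup (Wr ↥Q (Fin n)) := (W : Subgroup (Equiv.Perm (Fin n))).comap SemidirectProduct.rightHom
    let φ : ↥M →* ↥(W : Subgroup (Equiv.Perm (Fin n))) :=
      (SemidirectProduct.rightHom.comp M.subtype).codRestrict _ fun p => p.2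
    have hker : ∀ p : ↥φ.ker, p.1.1.right = 1 := fun p => congrArg Subtype.val (MonoidHom.mem_ker.1 p.2)
    let π : ↥φ.ker →* (Fin n → ↥Q) :=
      { toFun := fun p => p.1.1.left
        map_one' := rfl
        map_mul' := fun p p' => by
          show (p.1.1 * p'.1.1).left = p.1.1.left * p'.1.1.left
          rw [SemidirectProduct.mul_left, hker p, map_one]; rfl }
    have hπ : Function.Injective π := fun p p' h =>
      Subtype.ext (Subtype.ext (SemidirectProduct.ext h ((hker p).trans (hker p').symm)))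
    have hker2 : derivedSeries ↥φ.ker 2 = ⊥ := by
      by_contra h
      refine derived_ne_bot_of_injective π hπ h (le_bot_iff.1 fun x hx => ?_)
      refine Subgroup.mem_bot.2 (funext fun i => ?_)
      have h1 := map_derivedSeries_le_derivedSeries (Pi.evalMonoidHom (fun _ : Fin n => ↥Q) i) 2
        (Subgroup.mem_map_of_mem _ hx)
      have hbot : derivedSeries ↥Q 2 = ⊥ := by
        rw [eq_bot_iff, derivedSeries_succ, derivedSeries_one, Subgroup.commutator_le]
        intro a ha b hb
        rw [Subgroup.mem_bot, commutatorElement_eq_one_iff_mul_comm]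
        have hm : ∀ z ∈ commutator ↥Q, (z : GL (Fin 2) F) ∈ ⁅Q, Q⁆ := fun z hz => by
          rw [← Subgroup.map_subtype_commutator]
          exact ⟨z, hz, rfl⟩
        exact Subtype.ext (hQab _ (hm a ha) _ (hm b hb)).eq
      rw [hbot] at h1
      exact Subgroup.mem_bot.1 h1
    have hM : derivedSeries ↥M (Nat.log 2 (2 * n) + 1) = ⊥ := by
      rw [hlog, show Nat.log 2 n + 1 + 1 = Nat.log 2 n + 2 by ring]
      exact derived_extension φ (derived_perm_bot _ W.isPGroup'
        (by rw [Nat.card_fin]; exact Nat.lt_pow_succ_log_self (by norm_num) n)) hker2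
    have hM2 : IsPGroup 2 ↥M := by
      intro p
      obtain ⟨a, ha⟩ := W.isPGroup' (φ p)
      have hin : p ^ 2 ^ a ∈ φ.ker := by rw [MonoidHom.mem_ker, map_pow, ha]
      obtain ⟨b, hb⟩ := isPGroup_pi (κ := Fin n) (⊤ : Subgroup ↥Q) (hQ.to_subgroup ⊤)
        ⟨π ⟨_, hin⟩, fun i _ => Subgroup.mem_top _⟩
      refine ⟨a + b, ?_⟩
      have h1 : π (⟨_, hin⟩ ^ 2 ^ b) = 1 := by rw [map_pow]; exact congrArg Subtype.val hb
      have h3 := congrArg Subtype.val (hπ (h1.trans π.map_one.symm))
      rw [pow_add, pow_mul]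
      exact h3
    set T := M.map Θ with hT
    have hT2 : IsPGroup 2 ↥T := hM2.map Θ
    have hTc : 2 ^ (n * twoT (Fintype.card F) + padicValNat 2 (Nat.factorial n)) ≤ Nat.card ↥T := by
      rw [hT, Subgroup.card_map_of_injective hΘ]
      let Φ : (Fin n → ↥Q) × ↥(W : Subgroup (Equiv.Perm (Fin n))) → ↥M := fun p => ⟨⟨p.1, p.2.1⟩, p.2.2⟩
      refine le_trans ?_ (Nat.card_le_card_of_injective Φ fun p p' h => Prod.ext
        (congrArg (fun z : ↥M => z.1.left) h) (Subtype.ext (congrArg (fun z : ↥M => z.1.right) h)))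
      rw [Nat.card_prod, Nat.card_fun, Nat.card_fin, W.card_eq_multiplicity, Nat.factorization_def _ Nat.prime_two,
        Nat.card_perm, Nat.card_fin, pow_add, mul_comm n, pow_mul]
      exact Nat.mul_le_mul_right _ (Nat.pow_le_pow_left hQc n)
    have hv : padicValNat 2 (Nat.card ↥(Matrix.symplecticGroup (Fin n) F)) ≤
        n * twoT (Fintype.card F) + padicValNat 2 (Nat.factorial n) := by
      rw [Cfsg.Agent.S0245.result rfl n, ← prodSq, val_pow_mul hq _ _ (prodSq_ne_zero hq1 n), val_prodSq hq hq1]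
    obtain ⟨V, hV⟩ := hT2.exists_le_sylow
    have hTV : T = (V : Subgroup _) := by
      refine Subgroup.eq_of_le_of_card_ge hV ?_
      rw [V.card_eq_multiplicity, Nat.factorization_def _ Nat.prime_two]
      exact (Nat.pow_le_pow_right two_pos hv).trans hTc
    let e : ↥M ≃* ↥(R : Subgroup ↥(Matrix.symplecticGroup (Fin n) F)) :=
      ((M.equivMapOfInjective Θ hΘ).trans (MulEquiv.subgroupCongr hTV)).trans (V.equiv R)
    rw [← map_derivedSeries_eq (f := e.toMonoidHom) e.surjective, hM, Subgroup.map_bot]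
  · -- a deep subgroup
    have hnc : derivedSeries ↥Q 1 ≠ ⊥ := by
      intro h
      rw [derivedSeries_one] at h
      have hcomm : ∀ a b : ↥Q, a * b = b * a := fun a b => commutatorElement_eq_one_iff_mul_comm.1
        (Subgroup.mem_bot.1 (h ▸ Subgroup.commutator_mem_commutator (Subgroup.mem_top a) (Subgroup.mem_top b)))
      have hQQ : ⁅Q, Q⁆ = ⊥ := by rw [← Subgroup.map_subtype_commutator, h, Subgroup.map_bot]
      have hsq : ∀ a : ↥Q, a ^ 2 = 1 := fun a => Subtype.ext (by
        show a.1 ^ 2 = 1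
        rw [sq]; exact Subgroup.mem_bot.1 (hQQ ▸ hQs a.1 a.2))
      have hle := Cfsg.Lib.Linear.SignTorus.card_le_of_det_one
        (f := (Units.coeHom (Matrix (Fin 2) (Fin 2) F)).comp Q.subtype)
        (fun a b h => Subtype.ext (Units.ext h)) hcomm hsq h2 (fun a => congrArg Units.val (hQd a.1 a.2))
      have h3 := three_le_twoT hq hq1
      have := (Nat.pow_le_pow_right two_pos h3).trans (hQc.trans hle)
      simp at this
    obtain ⟨U, hU, hUd⟩ := exists_deep (hQ : IsPGroup 2 ↥Q) hnc (Nat.log 2 n)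
    have hLn : 2 ^ Nat.log 2 n ≤ n := Nat.pow_log_le_self 2 (by omega)
    let e : Fin (2 ^ Nat.log 2 n) ⊕ Fin (n - 2 ^ Nat.log 2 n) ≃ Fin n :=
      Fintype.equivOfCardEq (by simp; omega)
    let f : ↥U →* ↥(Matrix.symplecticGroup (Fin n) F) :=
      Θ.comp ((wrRelabel e).comp (wrInl.comp U.subtype))
    have hf : Function.Injective f :=
      hΘ.comp ((wrRelabel_injective e).comp (wrInl_injective.comp Subtype.val_injective))
    obtain ⟨V, hV⟩ := (hU.of_surjective f.rangeRestrict f.rangeRestrict_surjective).exists_le_sylow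
    rw [hlog, Nat.add_comm]
    exact derived_ne_bot_of_injective ((V.equiv R).toMonoidHom.comp (f.codRestrict _ fun u => hV ⟨u, rfl⟩))
      ((V.equiv R).injective.comp fun a b h => hf (congrArg Subtype.val h)) hUd
end Cfsg.Agent.S2648
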