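import Cfsg.Statements.S2657
import Cfsg.Agent.Lib.Chev.AltSection.F4
import Cfsg.Agent.Lib.Chev.AltSection.Section
-- import your own Cfsg.Agent.* helpers here

set_option autoImplicit false
open scoped MatrixGroups
open Cfsg

namespace Cfsg.Agent.S2657

/-- The permutations used in degree eleven. -/
theorem data_eleven : ∃ a s : ↥(alternatingGroup (Fin 11)), orderOf a = 11 ∧ s * a * s⁻¹ = a ^ 4 := by
  refine ⟨⟨Equiv.swap 0 1 * Equiv.swap 1 2 * Equiv.swap 2 3 * Equiv.swap 3 4 * Equiv.swap 4 5 * Equiv.swap 5 6 * Equiv.swap 6 7 * Equiv.swap 7 8 * Equiv.swap 8 9 * Equiv.swap 9 10, Equiv.Perm.mem_alternatingGroup.mpr (by decide +kernel)⟩,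
    ⟨(Equiv.swap 1 4 * Equiv.swap 4 5 * Equiv.swap 5 9 * Equiv.swap 9 3) * (Equiv.swap 2 8 * Equiv.swap 8 10 * Equiv.swap 10 7 * Equiv.swap 7 6), Equiv.Perm.mem_alternatingGroup.mpr (by decide +kernel)⟩, ?_, by decide +kernel⟩
  haveI : Fact (Nat.Prime 11) := ⟨by norm_num⟩
  exact orderOf_eq_prime (by decide +kernel) (by decide +kernel)

/-- The permutations used in degree twelve. -/
theorem data_twelve : ∃ a b s : ↥(alternatingGroup (Fin 12)), orderOf a = 5 ∧ orderOf b = 7 ∧ a * b = b * a ∧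
    s * a * s⁻¹ = a ^ 17 ∧ s * b * s⁻¹ = b ^ 17 := by
  refine ⟨⟨Equiv.swap 0 1 * Equiv.swap 1 2 * Equiv.swap 2 3 * Equiv.swap 3 4, Equiv.Perm.mem_alternatingGroup.mpr (by decide +kernel)⟩, ⟨Equiv.swap 5 6 * Equiv.swap 6 7 * Equiv.swap 7 8 * Equiv.swap 8 9 * Equiv.swap 9 10 * Equiv.swap 10 11, Equiv.Perm.mem_alternatingGroup.mpr (by decide +kernel)⟩,
    ⟨(Equiv.swap 1 2 * Equiv.swap 2 4 * Equiv.swap 4 3) * (Equiv.swap 6 8 * Equiv.swap 8 7 * Equiv.swap 7 11 * Equiv.swap 11 9 * Equiv.swap 9 10), Equiv.Perm.mem_alternatingGroup.mpr (by decide +kernel)⟩, ?_, ?_, by decide +kernel, by decide +kernel, by decide +kernel⟩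
  · haveI : Fact (Nat.Prime 5) := ⟨by norm_num⟩
    exact orderOf_eq_prime (by decide +kernel) (by decide +kernel)
  · haveI : Fact (Nat.Prime 7) := ⟨by norm_num⟩
    exact orderOf_eq_prime (by decide +kernel) (by decide +kernel)

/-- Alternating sections of the groups of type F₄. Let `F` be a finite field of characteristic `p` and let `G` be the Chevalley group of type F₄ over `F`. If some subgroup of `G` has a quotient isomorphic to the alternating group of degree `r`, then `r` is at most 10, or 11 in characteristic 11. (Only an upper bound is asserted.) -/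
theorem result {F : Type*} [Field F] [Fintype F] (p : ℕ) [Fact p.Prime] [CharP F p]
    (r : ℕ) (H : Subgroup ↥(Cfsg.Lie.chevF4.group F)) (K : Subgroup ↥H) [K.Normal]
    (h : Nonempty (↥H ⧸ K ≃* ↥(alternatingGroup (Fin r)))) :
    r ≤ 10 + (if p = 11 then 1 else 0) := by
  classical
  by_contra hcon
  obtain ⟨e⟩ := h
  let π : ↥H →* ↥(alternatingGroup (Fin r)) := e.toMonoidHom.comp (QuotientGroup.mk' K)
  have hπ : Function.Surjective π := e.surjective.comp (QuotientGroup.mk'_surjective K)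
  by_cases hp : p = 11
  · simp only [if_pos hp] at hcon
    obtain ⟨H', π', hπ'⟩ := Cfsg.Lib.Chev.AltSection.exists_subsection (show 12 ≤ r by omega) π hπ
    obtain ⟨E, _, _, g, hg, hE⟩ := Cfsg.Lib.Chev.AltSection.exists_extension (F := F)
      Cfsg.Lib.Chev.fullCertF4.comm.cert p 12
    obtain ⟨a, b, s, ha, hb, hab, hsa, hsb⟩ := data_twelve
    exact Cfsg.Lib.Chev.AltSection.F4_no_five_seven
      (by rw [hE]; exact Cfsg.Lib.Chev.AltSection.card_pow_mod p (by norm_num) (by omega) (by norm_num))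
      (by rw [hE]; exact Cfsg.Lib.Chev.AltSection.card_pow_mod p (by norm_num) (by omega) (by norm_num))
      ((g.comp H.subtype).comp H'.subtype) ((hg.comp H.subtype_injective).comp H'.subtype_injective)
      π' hπ' ha hb hab hsa hsb
  · simp only [if_neg hp] at hcon
    obtain ⟨H', π', hπ'⟩ := Cfsg.Lib.Chev.AltSection.exists_subsection (show 11 ≤ r by omega) π hπ
    obtain ⟨E, _, _, g, hg, hE⟩ := Cfsg.Lib.Chev.AltSection.exists_extension (F := F)
      Cfsg.Lib.Chev.fullCertF4.comm.cert p 10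
    obtain ⟨a, s, ha, hs⟩ := data_eleven
    exact Cfsg.Lib.Chev.AltSection.F4_no_eleven
      (by rw [hE]; exact Cfsg.Lib.Chev.AltSection.card_pow_mod p (by norm_num) hp (by norm_num))
      ((g.comp H.subtype).comp H'.subtype) ((hg.comp H.subtype_injective).comp H'.subtype_injective)
      π' hπ' ha hs

end Cfsg.Agent.S2657
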