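import Cfsg.Statements.S2658
import Cfsg.Agent.Lib.Chev.G2Alt.Main
-- import your own Cfsg.Agent.* helpers here

set_option autoImplicit false
open scoped MatrixGroups
open Cfsg

namespace Cfsg.Agent.S2658

/-- The permutations used in degree eight. -/
theorem data_eight : ∃ a b t s : ↥(alternatingGroup (Fin 8)), orderOf a = 3 ∧ b ^ 3 = 1 ∧ a * b = b * a ∧
    (b ≠ 1 ∧ b ≠ a ∧ b ≠ a * a) ∧ t * a * t⁻¹ = a⁻¹ ∧ t * b * t⁻¹ = b ∧ s * a * s⁻¹ = b ∧ s * b * s⁻¹ = a⁻¹ ∧
    a * s ≠ s * a := by
  refine ⟨⟨Equiv.swap 0 1 * Equiv.swap 1 2, Equiv.Perm.mem_alternatingGroup.mpr (by decide)⟩, ⟨Equiv.swap 3 4 * Equiv.swap 4 5, Equiv.Perm.mem_alternatingGroup.mpr (by decide)⟩,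
    ⟨Equiv.swap 0 1 * Equiv.swap 6 7, Equiv.Perm.mem_alternatingGroup.mpr (by decide)⟩,
    ⟨Equiv.swap 0 3 * (Equiv.swap 1 4 * Equiv.swap 4 2 * Equiv.swap 2 5), Equiv.Perm.mem_alternatingGroup.mpr (by decide)⟩, ?_⟩
  exact ⟨haveI : Fact (Nat.Prime 3) := ⟨Nat.prime_three⟩; orderOf_eq_prime (by decide) (by decide),
    by decide, by decide, by decide, by decide, by decide, by decide, by decide, by decide⟩

/-- The permutations used in degree seven. -/
theorem data_seven : ∃ a s : ↥(alternatingGroup (Fin 7)), orderOf a = 5 ∧ s * a * s⁻¹ = a ^ 2 := by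
  refine ⟨⟨Equiv.swap 0 1 * Equiv.swap 1 2 * Equiv.swap 2 3 * Equiv.swap 3 4, Equiv.Perm.mem_alternatingGroup.mpr (by decide)⟩,
    ⟨Equiv.swap 1 2 * Equiv.swap 2 4 * Equiv.swap 4 3 * Equiv.swap 5 6, Equiv.Perm.mem_alternatingGroup.mpr (by decide)⟩, ?_⟩
  exact ⟨haveI : Fact (Nat.Prime 5) := ⟨by norm_num⟩; orderOf_eq_prime (by decide) (by decide), by decide⟩

/-- An embedding of a smaller alternating group and a section onto it. -/
theorem exists_subsection {H : Type*} [Group H] {r m : ℕ} (hmr : m ≤ r) (π : H →* ↥(alternatingGroup (Fin r)))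
    (hπ : Function.Surjective π) :
    ∃ (H' : Subgroup H) (π' : ↥H' →* ↥(alternatingGroup (Fin m))), Function.Surjective π' := by
  let ι := Equiv.Perm.viaEmbeddingHom (Fin.castLEEmb hmr)
  have hι : Function.Injective ι := Equiv.Perm.viaEmbeddingHom_injective _
  have hmem : ∀ q : ↥(alternatingGroup (Fin m)), ι q ∈ alternatingGroup (Fin r) := fun q => by
    rw [Equiv.Perm.mem_alternatingGroup, Equiv.Perm.viaEmbeddingHom_apply, Equiv.Perm.viaEmbedding,
      Equiv.Perm.sign_extendDomain]
    exact Equiv.Perm.mem_alternatingGroup.mp q.2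
  let j : ↥(alternatingGroup (Fin m)) →* ↥(alternatingGroup (Fin r)) :=
    (ι.comp (alternatingGroup (Fin m)).subtype).codRestrict _ hmem
  have hj : Function.Injective j := fun x y h => Subtype.ext (hι (congrArg Subtype.val h))
  let e := MonoidHom.ofInjective hj
  refine ⟨j.range.comap π,
    e.symm.toMonoidHom.comp ((π.comp (j.range.comap π).subtype).codRestrict _ fun x => x.2), ?_⟩
  refine e.symm.surjective.comp fun z => ?_
  obtain ⟨x, hx⟩ := hπ z
  exact ⟨⟨x, show π x ∈ j.range by rw [hx]; exact z.2⟩, Subtype.ext hx⟩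


/-- Alternating sections of the groups of type G₂. Let `F` be a finite field of characteristic `p` and let `G` be the Chevalley group of type G₂ over `F`. If some subgroup of `G` has a quotient isomorphic to the alternating group of degree `r`, then `r` is at most 6, or 7 in characteristic 5. (Only an upper bound is asserted.) -/
theorem result {F : Type*} [Field F] [Fintype F] (p : ℕ) [Fact p.Prime] [CharP F p]
    (r : ℕ) (H : Subgroup ↥(Cfsg.Lie.chevG2.group F)) (K : Subgroup ↥H) [K.Normal]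
    (h : Nonempty (↥H ⧸ K ≃* ↥(alternatingGroup (Fin r)))) :
    r ≤ 6 + (if p = 5 then 1 else 0) := by
  classical
  by_contra hcon
  obtain ⟨e⟩ := h
  let π : ↥H →* ↥(alternatingGroup (Fin r)) := e.toMonoidHom.comp (QuotientGroup.mk' K)
  have hπ : Function.Surjective π := e.surjective.comp (QuotientGroup.mk'_surjective K)
  have hq : Fintype.card F ≠ 0 := Fintype.card_ne_zero
  obtain ⟨k, -, hk⟩ := FiniteField.card F p
  have hext : ∀ n : ℕ, [NeZero n] → ∃ (E : Type) (_ : Field E) (_ : Fintype E) (_ : CharP E p)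
      (g : ↥(Cfsg.Lie.chevG2.group F) →* ↥(Cfsg.Lie.chevG2.group E)), Function.Injective g ∧
        Fintype.card E = Fintype.card F ^ n := by
    intro n _
    let E := FiniteField.Extension F p n
    letI : Fintype E := Fintype.ofFinite E
    have : CharP E p := charP_of_injective_algebraMap (algebraMap F E).injective p
    refine ⟨E, inferInstance, inferInstance, this,
      ((Matrix.GeneralLinearGroup.map (algebraMap F E)).comp (Cfsg.Lie.chevG2.group F).subtype).codRestrict _
        (fun x => Cfsg.Lib.Chev.map_group_le Cfsg.Lib.Chev.fullCertG2.comm.cert _ x.2), ?_, ?_⟩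
    · intro x y hxy
      exact Subtype.ext (Cfsg.Lib.Chev.map_gl_injective _ (congrArg Subtype.val hxy))
    · rw [Fintype.card_eq_nat_card, FiniteField.natCard_extension, Nat.card_eq_fintype_card]
  by_cases hp : p = 5
  · subst hp
    simp only [if_true] at hcon
    obtain ⟨H', π', hπ'⟩ := exists_subsection (show 8 ≤ r by omega) π hπ
    obtain ⟨E, _, _, _, g, hg, hE⟩ := hext 2
    have h3 : Fintype.card E % 3 = 1 := by
      rw [hE, hk, ← pow_mul, mul_comm, pow_mul, Nat.pow_mod]
      norm_num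
    have hz : ∀ n : ℕ, n < 5 → n ≠ 0 → (n : E) ≠ 0 := fun n h1 h2 h0 => by
      rw [CharP.cast_eq_zero_iff E 5] at h0
      exact h2 (Nat.eq_zero_of_dvd_of_lt h0 h1)
    haveI : NeZero (2 : E) := ⟨by exact_mod_cast hz 2 (by norm_num) (by norm_num)⟩
    haveI : NeZero (3 : E) := ⟨by exact_mod_cast hz 3 (by norm_num) (by norm_num)⟩
    haveI : IsSimpleGroup ↥(alternatingGroup (Fin 8)) := alternatingGroup.isSimpleGroup (by simp)
    obtain ⟨a, b, t, s, ha, hb, hab, hnot, hta, htb, hsa, hsb, hns⟩ := data_eight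
    have hna : ¬ IsMulCommutative ↥(alternatingGroup (Fin 8)) := fun h => hns (h.is_comm.comm a s)
    have hcard : Nat.card ↥(alternatingGroup (Fin 8)) = 20160 := by
      rw [nat_card_alternatingGroup, Nat.card_fin]; rfl
    obtain ⟨α, β, σ, h1, h2, h4, h5, h6, h7, h8, h9, h10⟩ :=
      Cfsg.Lib.Chev.G2Alt.exists_config hna (Cfsg.Lib.Chev.G2Alt.frattini_bound h3)
        ((g.comp H.subtype).comp H'.subtype) ((hg.comp H.subtype_injective).comp H'.subtype_injective) π' hπ'
        (by rw [hcard]; norm_num) (by rw [hcard]; norm_num) (a := a) (b := b) (t := t) (s := s)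
        ha hb hab hnot hta htb hsa hsb
    exact Cfsg.Lib.Chev.G2Alt.no_three_config h3 h1 h2 h4 h5 h6 h7 h8 h9 h10
  · simp only [if_neg hp] at hcon
    obtain ⟨H', π', hπ'⟩ := exists_subsection (show 7 ≤ r by omega) π hπ
    obtain ⟨E, _, _, _, g, hg, hE⟩ := hext 4
    have h5 : Fintype.card E % 5 = 1 := by
      rw [hE, hk, ← pow_mul, mul_comm, pow_mul, Nat.pow_mod]
      have hr : p ^ 4 % 5 = 1 := by
        have h0 : p % 5 ≠ 0 := fun h0 => hp
          ((Nat.prime_dvd_prime_iff_eq (by norm_num : Nat.Prime 5) Fact.out).mp (Nat.dvd_of_mod_eq_zero h0)).symm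
        have : p % 5 < 5 := Nat.mod_lt _ (by norm_num)
        rw [Nat.pow_mod]
        interval_cases h : p % 5 <;> simp_all
      rw [hr]
      norm_num
    obtain ⟨a, s, ha, hs⟩ := data_seven
    haveI : Fact (Nat.Prime 5) := ⟨by norm_num⟩
    exact Cfsg.Lib.Chev.G2Alt.no_five h5 ((g.comp H.subtype).comp H'.subtype)
      ((hg.comp H.subtype_injective).comp H'.subtype_injective) π' hπ'
      (a := a) (s := s) ha hs

end Cfsg.Agent.S2658
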