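import Cfsg.Statements.S2660
import Cfsg.Agent.Lib.Chev.TriAlt.Main
-- import your own Cfsg.Agent.* helpers here

set_option autoImplicit false
open scoped MatrixGroups
open Cfsg

namespace Cfsg.Agent.S2660

/-- The permutations used in degree eight. -/
theorem data_eight : ∃ a b t s : ↥(alternatingGroup (Fin 8)), orderOf a = 3 ∧ b ^ 3 = 1 ∧ a * b = b * a ∧
    (b ≠ 1 ∧ b ≠ a ∧ b ≠ a * a) ∧ t * a * t⁻¹ = a⁻¹ ∧ t * b * t⁻¹ = b ∧ s * a * s⁻¹ = b ∧ s * b * s⁻¹ = a⁻¹ ∧
    a * s ≠ s * a := by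
  refine ⟨⟨Equiv.swap 0 1 * Equiv.swap 1 2, Equiv.Perm.mem_alternatingGroup.mpr (by decide)⟩, ⟨Equiv.swap 3 4 * Equiv.swap 4 5, Equiv.Perm.mem_alternatingGroup.mpr (by decide)⟩,
    ⟨Equiv.swap 0 1 * Equiv.swap 6 7, Equiv.Perm.mem_alternatingGroup.mpr (by decide)⟩,
    ⟨Equiv.swap 0 3 * (Equiv.swap 1 4 * Equiv.swap 4 2 * Equiv.swap 2 5), Equiv.Perm.mem_alternatingGroup.mpr (by decide)⟩, ?_⟩
  exact ⟨haveI : Fact (Nat.Prime 3) := ⟨Nat.prime_three⟩; orderOf_eq_prime (by decide) (by decide),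
    by decide, by decide, by decide, by decide, by decide, by decide, by decide, by decide⟩

/-- The permutations used in degree seven. -/
theorem data_seven : ∃ a s : ↥(alternatingGroup (Fin 7)), orderOf a = 5 ∧ s * a * s⁻¹ = a ^ 2 := by
  refine ⟨⟨Equiv.swap 0 1 * Equiv.swap 1 2 * Equiv.swap 2 3 * Equiv.swap 3 4, Equiv.Perm.mem_alternatingGroup.mpr (by decide)⟩,
    ⟨Equiv.swap 1 2 * Equiv.swap 2 4 * Equiv.swap 4 3 * Equiv.swap 5 6, Equiv.Perm.mem_alternatingGroup.mpr (by decide)⟩, ?_⟩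
  exact ⟨haveI : Fact (Nat.Prime 5) := ⟨by norm_num⟩; orderOf_eq_prime (by decide) (by decide), by decide⟩

/-- An embedding of a smaller alternating group and a section onto it. -/
theorem exists_subsection {H : Type*} [Group H] {r m : ℕ} (hmr : m ≤ r) (π : H →* ↥(alternatingGroup (Fin r)))
    (hπ : Function.Surjective π) :
    ∃ (H' : Subgroup H) (π' : ↥H' →* ↥(alternatingGroup (Fin m))), Function.Surjective π' := by
  let ι := Equiv.Perm.viaEmbeddingHom (Fin.castLEEmb hmr)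
  have hι : Function.Injective ι := Equiv.Perm.viaEmbeddingHom_injective _
  have hmem : ∀ q : ↥(alternatingGroup (Fin m)), ι q ∈ alternatingGroup (Fin r) := fun q => by
    rw [Equiv.Perm.mem_alternatingGroup, Equiv.Perm.viaEmbeddingHom_apply, Equiv.Perm.viaEmbedding,
      Equiv.Perm.sign_extendDomain]
    exact Equiv.Perm.mem_alternatingGroup.mp q.2
  let j : ↥(alternatingGroup (Fin m)) →* ↥(alternatingGroup (Fin r)) :=
    (ι.comp (alternatingGroup (Fin m)).subtype).codRestrict _ hmem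
  have hj : Function.Injective j := fun x y h => Subtype.ext (hι (congrArg Subtype.val h))
  let e := MonoidHom.ofInjective hj
  refine ⟨j.range.comap π,
    e.symm.toMonoidHom.comp ((π.comp (j.range.comap π).subtype).codRestrict _ fun x => x.2), ?_⟩
  refine e.symm.surjective.comp fun z => ?_
  obtain ⟨x, hx⟩ := hπ z
  exact ⟨⟨x, show π x ∈ j.range by rw [hx]; exact z.2⟩, Subtype.ext hx⟩

/-- Alternating sections of the triality-twisted groups ³D₄. Let `q = p^a` be a prime power and `K` a field with `q³` elements, and let `G` be the twisted group ³D₄(q) realised over `K`. If some subgroup of `G` has a quotient isomorphic to the alternating group of degree `r`, then `r` is at most 6, or 7 in characteristic 5. (Only an upper bound is asserted.) -/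
theorem result {K : Type*} [Field K] [Fintype K] (p a : ℕ) [Fact p.Prime] [CharP K p]
    (ha : 1 ≤ a) (hK : Fintype.card K = (p ^ a) ^ 3) (r : ℕ) (H : Subgroup ↥(Cfsg.Lie.twistedD4 K (p ^ a))) (N : Subgroup ↥H) [N.Normal]
    (h : Nonempty (↥H ⧸ N ≃* ↥(alternatingGroup (Fin r)))) :
    r ≤ 6 + (if p = 5 then 1 else 0) := by
  classical
  by_contra hcon
  obtain ⟨e⟩ := h
  let π : ↥H →* ↥(alternatingGroup (Fin r)) := e.toMonoidHom.comp (QuotientGroup.mk' N)
  have hπ : Function.Surjective π := e.surjective.comp (QuotientGroup.mk'_surjective N)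
  have hp := (Fact.out : p.Prime)
  have hq : IsPrimePow (p ^ a) := ⟨p, a, hp.prime, by omega, rfl⟩
  obtain ⟨X⟩ := Cfsg.Lib.Chev.TriAlt.exists_triData hq hK
  let E := FiniteField.Extension K p 4
  letI : Fintype E := Fintype.ofFinite E
  have hE : Fintype.card E = ((p ^ a) ^ 4) ^ 3 := by
    rw [Fintype.card_eq_nat_card, FiniteField.natCard_extension, Nat.card_eq_fintype_card, hK]
    ring
  obtain ⟨Y⟩ := Cfsg.Lib.Chev.TriAlt.exists_triData (IsPrimePow.pow hq (by norm_num : (4 : ℕ) ≠ 0)) hE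
  let ι : K →+* E := algebraMap K E
  have hmem : ∀ x : ↥(Cfsg.Lie.twistedD4 K (p ^ a)),
      Matrix.GeneralLinearGroup.map ι x.1 ∈ Cfsg.Lie.twistedD4 E ((p ^ a) ^ 4) := fun x => by
    obtain ⟨h1, h2⟩ := (Cfsg.Lib.Chev.TriAlt.mem_iff X).1 x.2
    refine (Cfsg.Lib.Chev.TriAlt.mem_iff Y).2 ⟨Cfsg.Lib.Chev.map_group_le Cfsg.Lib.Chev.certD4C ι h1, ?_⟩
    rw [← Cfsg.Lib.Chev.twSigma_map' Cfsg.Lib.Chev.symOKD4_tri ι X.f Y.f (fun t => ?_), h2]
    rw [X.pow, Y.pow, ← map_pow]
    congr 1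
    rw [show (p ^ a) ^ 4 = (p ^ a) ^ 3 * p ^ a by ring, pow_mul, ← hK, FiniteField.pow_card]
  let g : ↥(Cfsg.Lie.twistedD4 K (p ^ a)) →* ↥(Cfsg.Lie.twistedD4 E ((p ^ a) ^ 4)) :=
    ((Matrix.GeneralLinearGroup.map ι).comp (Cfsg.Lie.twistedD4 K (p ^ a)).subtype).codRestrict _ hmem
  have hg : Function.Injective g := fun x y hxy =>
    Subtype.ext (Cfsg.Lib.Chev.map_gl_injective ι (congrArg Subtype.val hxy))
  by_cases hp5 : p = 5
  · simp only [if_pos hp5] at hcon
    obtain ⟨H', π', hπ'⟩ := exists_subsection (show 8 ≤ r by omega) π hπ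
    let f : ↥H' →* ↥(Cfsg.Lie.twistedD4 E ((p ^ a) ^ 4)) := (g.comp H.subtype).comp H'.subtype
    have hf : Function.Injective f := fun x y h => Subtype.ext (Subtype.ext (hg h))
    have h3 : (p ^ a) ^ 4 % 3 = 1 := by
      rw [hp5, ← pow_mul, mul_comm, pow_mul, Nat.pow_mod]
      norm_num
    haveI : IsSimpleGroup ↥(alternatingGroup (Fin 8)) := alternatingGroup.isSimpleGroup (by simp)
    obtain ⟨c, d, t, s, hc, hd, hcd, hnot, htc, htd, hsc, hsd, hns⟩ := data_eight
    have hna : ¬ IsMulCommutative ↥(alternatingGroup (Fin 8)) := fun h => hns (h.is_comm.comm c s)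
    have hcard : Nat.card ↥(alternatingGroup (Fin 8)) = 20160 := by
      rw [nat_card_alternatingGroup, Nat.card_fin]; rfl
    obtain ⟨α, β, σ, y, h1, h2, h4, h5, h6, h7, h8, h9, h10, h11, h12⟩ :=
      Cfsg.Lib.Chev.G2Alt.exists_config' hna (Cfsg.Lib.Chev.TriAlt.frattini_bound Y h3)
        f hf π' hπ'
        (by rw [hcard]; norm_num) (by rw [hcard]; norm_num) (a := c) (b := d) (t := t) (s := s)
        hc hd hcd hnot htc htd hsc hsd
    exact Cfsg.Lib.Chev.TriAlt.no_config Y h3 h1 h2 h4 h5 h6 h7 h8 h9 h10 h11 h12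
  · simp only [if_neg hp5] at hcon
    obtain ⟨H', π', hπ'⟩ := exists_subsection (show 7 ≤ r by omega) π hπ
    let f : ↥H' →* ↥(Cfsg.Lie.twistedD4 E ((p ^ a) ^ 4)) := (g.comp H.subtype).comp H'.subtype
    have hf : Function.Injective f := fun x y h => Subtype.ext (Subtype.ext (hg h))
    have h5 : (p ^ a) ^ 4 % 5 = 1 := by
      rw [← pow_mul, mul_comm, pow_mul, Nat.pow_mod]
      have hr : p ^ 4 % 5 = 1 := by
        have h0 : p % 5 ≠ 0 := fun h0 => hp5
          ((Nat.prime_dvd_prime_iff_eq (by norm_num : Nat.Prime 5) hp).mp (Nat.dvd_of_mod_eq_zero h0)).symm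
        have : p % 5 < 5 := Nat.mod_lt _ (by norm_num)
        rw [Nat.pow_mod]
        interval_cases h : p % 5 <;> simp_all
      rw [hr]
      norm_num
    obtain ⟨c, s, hc, hs⟩ := data_seven
    haveI : Fact (Nat.Prime 5) := ⟨by norm_num⟩
    exact Cfsg.Lib.Chev.TriAlt.no_five Y h5 f hf π' hπ' (a := c) (s := s) hc hs

end Cfsg.Agent.S2660
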