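import Cfsg.Statements.S2665
import Mathlib

set_option autoImplicit false
open scoped MatrixGroups
open Cfsg

namespace Cfsg.Agent.S2665

open Polynomial

section

variable {K : Type*} [Field K] [IsAlgClosed K]

/-- the polynomial giving the `i`-th coefficient -/
noncomputable def coefPoly (q : ℕ) (c : ℕ → K) : ℕ → K[X]
  | 0 => C (c 0) * X ^ q
  | i + 1 => coefPoly q c i ^ q + C (c (i + 1)) * X ^ q

theorem coefPoly_natDegree (q : ℕ) (hq : 2 ≤ q) (c : ℕ → K) (h0 : c 0 ≠ 0) (i : ℕ) :
    (coefPoly q c i).natDegree = q ^ (i + 1) := by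
  induction i with
  | zero => rw [coefPoly, natDegree_C_mul_X_pow q _ h0, pow_one]
  | succ i ih =>
      rw [coefPoly, natDegree_add_eq_left_of_natDegree_lt]
      · rw [natDegree_pow, ih, ← pow_succ']
      · rw [natDegree_pow, ih, ← pow_succ']
        refine lt_of_le_of_lt (natDegree_C_mul_X_pow_le _ _) ?_
        calc q = q ^ 1 := (pow_one q).symm
          _ < q ^ (i + 1 + 1) := Nat.pow_lt_pow_right (by omega) (by omega)

theorem sq_dvd_coefPoly (q : ℕ) (hq : 2 ≤ q) (c : ℕ → K) (i : ℕ) : X ^ 2 ∣ coefPoly q c i := by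
  induction i with
  | zero => exact (pow_dvd_pow X hq).mul_left _
  | succ i ih =>
      exact dvd_add (ih.trans (dvd_pow_self _ (by omega))) ((pow_dvd_pow X hq).mul_left _)

theorem exists_nonzero_root (q : ℕ) (hq : 2 ≤ q) (c : ℕ → K) (h0 : c 0 ≠ 0) (m : ℕ) :
    ∃ t : K, t ≠ 0 ∧ (coefPoly q c m).eval t = t := by
  obtain ⟨Q, hQ⟩ := sq_dvd_coefPoly q hq c m
  have hd := coefPoly_natDegree q hq c h0 m
  have hQ0 : Q ≠ 0 := fun h => by
    rw [hQ, h, mul_zero, natDegree_zero] at hd
    exact absurd hd.symm (pow_ne_zero _ (by omega))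
  set S : K[X] := X * Q - 1 with hS
  have hSd : S.natDegree = Q.natDegree + 1 := by
    rw [hS, ← C_1, natDegree_sub_C, natDegree_X_mul hQ0]
  obtain ⟨t, ht⟩ := IsAlgClosed.exists_root S (by
    intro h
    have := natDegree_eq_zero_iff_degree_le_zero.mpr h.le
    omega)
  rw [IsRoot, hS, eval_sub, eval_mul, eval_X, eval_one, sub_eq_zero] at ht
  refine ⟨t, fun h => by rw [h, zero_mul] at ht; exact zero_ne_one ht, ?_⟩
  rw [hQ, eval_mul, eval_pow, eval_X]
  linear_combination t * ht

theorem exists_root_as (q : ℕ) (hq : 2 ≤ q) (l : K) : ∃ b : K, b ^ q - b + l = 0 := by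
  have hd : (X ^ q + (-(X : K[X])) + C l).natDegree = q := by
    rw [natDegree_add_C, natDegree_add_eq_left_of_natDegree_lt]
    · exact natDegree_X_pow q
    · rw [natDegree_neg, natDegree_X, natDegree_X_pow]; omega
  obtain ⟨b, hb⟩ := IsAlgClosed.exists_root (X ^ q + (-(X : K[X])) + C l) (by
    intro h
    have := natDegree_eq_zero_iff_degree_le_zero.mpr h.le
    omega)
  refine ⟨b, ?_⟩
  simpa [IsRoot, sub_eq_add_neg] using hb

variable {V : Type*} [AddCommGroup V] [Module K V] [FiniteDimensional K V]

/-- A bijective Frobenius-semilinear map has a basis worth of fixed points. -/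
theorem span_fixed_eq_top (q : ℕ) (hq : 2 ≤ q) (φ : V →+ V) (hsm : ∀ (a : K) x, φ (a • x) = a ^ q • φ x)
    (hinj : Function.Injective φ) : Submodule.span K {x | φ x = x} = ⊤ := by
  classical
  set W := Submodule.span K {x | φ x = x} with hW
  have hWφ : ∀ w ∈ W, φ w ∈ W := by
    intro w hw
    induction hw using Submodule.span_induction with
    | mem x hx => exact Submodule.subset_span (show φ (φ x) = φ x by rw [show φ x = x from hx, show φ x = x from hx])
    | zero => rw [map_zero]; exact W.zero_mem
    | add x y _ _ hx hy => rw [map_add]; exact W.add_mem hx hy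
    | smul a x _ hx => rw [hsm]; exact W.smul_mem _ hx
  have hWsurj : ∀ w ∈ W, ∃ w' ∈ W, φ w' = w := by
    intro w hw
    induction hw using Submodule.span_induction with
    | mem x hx => exact ⟨x, Submodule.subset_span hx, hx⟩
    | zero => exact ⟨0, W.zero_mem, map_zero φ⟩
    | add x y _ _ hx hy =>
        obtain ⟨x', hx', rfl⟩ := hx
        obtain ⟨y', hy', rfl⟩ := hy
        exact ⟨x' + y', W.add_mem hx' hy', map_add φ x' y'⟩
    | smul a x _ hx =>
        obtain ⟨x', hx', rfl⟩ := hx
        obtain ⟨b, hb⟩ := IsAlgClosed.exists_pow_nat_eq a (show 0 < q by omega)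
        exact ⟨b • x', W.smul_mem _ hx', by rw [hsm, hb]⟩
  have hWas : ∀ w ∈ W, ∃ w' ∈ W, φ w' - w' + w = 0 := by
    intro w hw
    induction hw using Submodule.span_induction with
    | mem x hx =>
        obtain ⟨b, hb⟩ := exists_root_as q hq (1 : K)
        refine ⟨b • x, W.smul_mem _ (Submodule.subset_span hx), ?_⟩
        rw [hsm, show φ x = x from hx, ← sub_smul]
        conv_lhs => arg 2; rw [← one_smul K x]
        rw [← add_smul, hb, zero_smul]
    | zero => exact ⟨0, W.zero_mem, by simp⟩
    | add x y _ _ hx hy =>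
        obtain ⟨x', hx', hx2⟩ := hx
        obtain ⟨y', hy', hy2⟩ := hy
        refine ⟨x' + y', W.add_mem hx' hy', ?_⟩
        rw [map_add]
        linear_combination (norm := module) hx2 + hy2
    | smul a x hxW hx =>
        -- write x = Σ over fixed generators
        obtain ⟨s, hs, hxs⟩ := Submodule.mem_span_set.mp hxW
        choose b hb using fun z : V => exists_root_as q hq (a * s z)
        refine ⟨∑ z ∈ s.support, b z • z, W.sum_mem fun z hz => W.smul_mem _
          (Submodule.subset_span (hs hz)), ?_⟩
        rw [← hxs, Finsupp.sum, Finset.smul_sum, map_sum, ← Finset.sum_sub_distrib,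
          ← Finset.sum_add_distrib]
        refine Finset.sum_eq_zero fun z hz => ?_
        rw [hsm, show φ z = z from hs hz, smul_smul, ← sub_smul, ← add_smul, hb, zero_smul]
  by_contra hne
  obtain ⟨v, hv⟩ : ∃ v, v ∉ W := by
    by_contra h
    push Not at h
    exact hne (eq_top_iff.mpr fun x _ => h x)
  let N : ℕ → Submodule K V := fun k => W ⊔ Submodule.span K (Set.range fun i : Fin k => φ^[(i : ℕ)] v)
  have hex : ∃ k, φ^[k] v ∈ N k := by
    by_contra h
    push Not at h
    have hli : ∀ k, LinearIndependent K (fun i : Fin k => φ^[(i : ℕ)] v) := by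
      intro k
      induction k with
      | zero => exact linearIndependent_empty_type
      | succ k ih =>
          have e : (fun i : Fin (k + 1) => φ^[(i : ℕ)] v) =
              Fin.snoc (fun i : Fin k => φ^[(i : ℕ)] v) (φ^[k] v) := by
            funext i
            refine Fin.lastCases ?_ (fun j => ?_) i <;> simp
          rw [e, linearIndependent_finSnoc]
          exact ⟨ih, fun hm => h k (Submodule.mem_sup_right hm)⟩
    have := (hli (Module.finrank K V + 1)).fintype_card_le_finrank
    rw [Fintype.card_fin] at this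
    omega
  have hk0 : Nat.find hex ≠ 0 := by
    intro h0
    have h := Nat.find_spec hex
    rw [h0] at h
    simp only [N, Set.range_eq_empty, Submodule.span_empty, sup_bot_eq, Function.iterate_zero_apply] at h
    exact hv h
  obtain ⟨m, hm⟩ := Nat.exists_eq_succ_of_ne_zero hk0
  have hspec := Nat.find_spec hex
  have hmin : φ^[m] v ∉ N m := Nat.find_min hex (by omega)
  rw [hm] at hspec
  obtain ⟨w, hw, y, hy, hwy⟩ := Submodule.mem_sup.mp hspec
  obtain ⟨c', hc'⟩ := (Submodule.mem_span_range_iff_exists_fun K).mp hy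
  let c : ℕ → K := fun i => if h : i < m + 1 then c' ⟨i, h⟩ else 0
  have hrel : φ^[m + 1] v = w + ∑ i ∈ Finset.range (m + 1), c i • φ^[i] v := by
    rw [← hwy, ← hc', ← Fin.sum_univ_eq_sum_range]
    congr 1
    refine Finset.sum_congr rfl fun i _ => ?_
    simp [c]
    intro h
    exact absurd i.isLt (by omega)
  have hc0 : c 0 ≠ 0 := by
    intro h0
    obtain ⟨w', hw', hφw⟩ := hWsurj w hw
    choose d hd using fun i => IsAlgClosed.exists_pow_nat_eq (c (i + 1)) (show 0 < q by omega)
    apply hmin
    have he : φ^[m] v = w' + ∑ i ∈ Finset.range m, d i • φ^[i] v := by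
      apply hinj
      rw [← Function.iterate_succ_apply' φ m v, hrel, map_add, hφw, map_sum, Finset.sum_range_succ', h0,
        zero_smul, add_zero]
      congr 1
      refine Finset.sum_congr rfl fun i _ => ?_
      rw [hsm, hd, Function.iterate_succ_apply']
    rw [he]
    refine Submodule.mem_sup.mpr ⟨w', hw', _, ?_, rfl⟩
    exact Submodule.sum_mem _ fun i hi => Submodule.smul_mem _ _
      (Submodule.subset_span ⟨⟨i, Finset.mem_range.mp hi⟩, rfl⟩)
  obtain ⟨t, ht0, ht⟩ := exists_nonzero_root q hq c hc0 m
  let A : ℕ → K := fun i => (coefPoly q c i).eval t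
  have hA0 : A 0 = t ^ q * c 0 := by
    simp only [A, coefPoly, eval_mul, eval_C, eval_pow, eval_X]; ring
  have hAs : ∀ i, A (i + 1) = A i ^ q + t ^ q * c (i + 1) := fun i => by
    simp only [A, coefPoly, eval_add, eval_mul, eval_C, eval_pow, eval_X]; ring
  have hAm : A m = t := ht
  set u : V := ∑ i ∈ Finset.range (m + 1), A i • φ^[i] v with hu
  have hφu : φ u = u + t ^ q • w := by
    have h1 : φ u = ∑ i ∈ Finset.range m, A i ^ q • φ^[i + 1] v + t ^ q • φ^[m + 1] v := by
      rw [hu, map_sum, Finset.sum_range_succ, hAm, hsm, ← Function.iterate_succ_apply' φ m v]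
      congr 1
      refine Finset.sum_congr rfl fun i _ => ?_
      rw [hsm, Function.iterate_succ_apply']
    rw [h1, hrel, hu, Finset.sum_range_succ' (fun i => A i • φ^[i] v), Finset.sum_range_succ']
    simp only [hAs, hA0, smul_add, Finset.smul_sum, smul_smul, add_smul, Finset.sum_add_distrib]
    abel
  have huW : u ∉ W := by
    intro hu'
    apply hmin
    rw [hu, Finset.sum_range_succ, hAm] at hu'
    set rest := ∑ i ∈ Finset.range m, A i • φ^[i] v with hrest
    have e : φ^[m] v = t⁻¹ • (rest + t • φ^[m] v) + (-(t⁻¹ • rest)) := by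
      rw [smul_add, smul_smul, inv_mul_cancel₀ ht0, one_smul]; abel
    rw [e]
    refine Submodule.add_mem_sup (W.smul_mem _ hu') (Submodule.neg_mem _ (Submodule.smul_mem _ _ ?_))
    exact Submodule.sum_mem _ fun i hi => Submodule.smul_mem _ _
      (Submodule.subset_span ⟨⟨i, Finset.mem_range.mp hi⟩, rfl⟩)
  obtain ⟨w', hw', hw2⟩ := hWas (t ^ q • w) (W.smul_mem _ hw)
  apply huW
  have hfix : u + w' ∈ W := Submodule.subset_span (show φ (u + w') = u + w' by
    rw [map_add, hφu]
    linear_combination (norm := module) hw2)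
  simpa using W.sub_mem hfix hw'

end

/-- The Lang–Steinberg Theorem for the general linear group. Let `K` be an algebraically closed field of prime characteristic `p`, let `q = p^f` with `f ≥ 1`, and let `σ` be the endomorphism of GL_n(K) raising every matrix entry to the `q`-th power. Then every element `g` of GL_n(K) can be written `g = x · σ(x)⁻¹` for some `x` in GL_n(K): the map `x ↦ x σ(x)⁻¹` is surjective. -/
theorem result {K : Type*} [Field K] [IsAlgClosed K] (p : ℕ) [Fact p.Prime] [CharP K p]
    (f : ℕ) (hf : 1 ≤ f) (n : ℕ) (g : GL (Fin n) K) :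
    ∃ x : GL (Fin n) K, g = x * (Matrix.GeneralLinearGroup.map (iterateFrobenius K p f) x)⁻¹ := by
  classical
  have hp := (Fact.out : p.Prime).two_le
  set q := p ^ f with hqdef
  have hq : 2 ≤ q := le_trans hp (Nat.le_self_pow (by omega) p)
  set σ := iterateFrobenius K p f with hσ
  have hσa : ∀ a : K, σ a = a ^ q := fun a => by rw [hσ, iterateFrobenius_def]
  let φ : (Fin n → K) →+ (Fin n → K) :=
    { toFun := fun v => (g : Matrix (Fin n) (Fin n) K).mulVec fun i => σ (v i)
      map_zero' := by
        simp only [Pi.zero_apply, map_zero]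
        exact Matrix.mulVec_zero _
      map_add' := fun a b => by
        simp only [Pi.add_apply, map_add]
        exact Matrix.mulVec_add _ _ _ }
  have hsm : ∀ (a : K) x, φ (a • x) = a ^ q • φ x := by
    intro a x
    show (g : Matrix (Fin n) (Fin n) K).mulVec (fun i => σ ((a • x) i)) = _
    rw [show (fun i => σ ((a • x) i)) = a ^ q • (fun i => σ (x i)) from funext fun i => by
      simp [hσa, mul_pow], Matrix.mulVec_smul]
    rfl
  have hinj : Function.Injective φ := by
    intro a b hab
    have h1 : (fun i => σ (a i)) = fun i => σ (b i) :=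
      (Matrix.mulVec_injective_iff_isUnit.mpr g.isUnit) hab
    funext i
    exact σ.injective (congrFun h1 i)
  have htop := span_fixed_eq_top q hq φ hsm hinj
  obtain ⟨s, hs, hspan, hli⟩ := exists_linearIndependent K {x : Fin n → K | φ x = x}
  rw [htop] at hspan
  let b : Module.Basis s K (Fin n → K) := Module.Basis.mk hli (by rw [Subtype.range_coe, hspan])
  haveI : Fintype s := FiniteDimensional.fintypeBasisIndex b
  have hcard : Fintype.card s = n := by
    rw [← Module.finrank_eq_card_basis b, Module.finrank_fin_fun]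
  let e : Fin n ≃ s := (Fintype.equivFinOfCardEq hcard).symm
  let X : Matrix (Fin n) (Fin n) K := Matrix.of fun i j => (e j : Fin n → K) i
  have hX : IsUnit X := by
    rw [← Matrix.linearIndependent_cols_iff_isUnit]
    exact hli.comp e e.injective
  obtain ⟨x, hx⟩ := hX
  refine ⟨x, ?_⟩
  rw [eq_mul_inv_iff_mul_eq]
  apply Units.ext
  apply Matrix.ext
  intro i j
  have h2 := congrFun (show φ (e j : Fin n → K) = e j from hs (e j).2) i
  rw [Units.val_mul, hx]
  show ((g : Matrix (Fin n) (Fin n) K) * (x : Matrix (Fin n) (Fin n) K).map σ) i j = X i j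
  rw [hx, Matrix.mul_apply]
  exact h2

end Cfsg.Agent.S2665
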