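import Cfsg.Statements.S2666


set_option autoImplicit false
open Cfsg

namespace Cfsg.Agent.S2666

/-- Shintani descent, in an abstract form. Let `σ` be an automorphism of a group `X` such that the maps `a ↦ a·σ(a)⁻¹` and `a ↦ a·σᵉ(a)⁻¹` are surjective on `X` (the Lang–Steinberg property, which holds when `X` is a connected algebraic group and `σ` a Steinberg endomorphism), where `e ≥ 1`. Write `G` for the subgroup of fixed points of `σᵉ` and `H` for the subgroup of fixed points of `σ`. The `G`-conjugacy classes in the coset `G σ` of the semidirect product of `G` by `σ` correspond to the orbits of `G` on itself under twisted conjugation `g ↦ k g σ(k)⁻¹`, and the `e`-th power of `g σ` has `G`-part the norm `g σ(g) ⋯ σ^(e-1)(g)`. For `g` in `G` and any `a` with `g = a σ(a)⁻¹`, put `x = σᵉ(a)⁻¹ a`. Then: (1) `x` lies in `H`, and `a⁻¹ · (g σ(g) ⋯ σ^(e-1)(g)) · a = x`; (2) for `g, g'` in `G` with such elements `a, b` and `x, x'`, the elements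 `g, g'` are twisted-conjugate under `G` if and only if `x, x'` are conjugate in `H`; (3) every element of `H` arises as such an `x`. So `g ↦ x` induces a well-defined bijection from the twisted `G`-classes of `G` onto the conjugacy classes of `H` (the Shintani map). -/
theorem result {X : Type*} [Group X] (σ : MulAut X) (e : ℕ) (he : 1 ≤ e)
    (hL : ∀ g : X, ∃ a : X, g = a * (σ a)⁻¹) (hLe : ∀ g : X, ∃ a : X, g = a * ((σ ^ e) a)⁻¹) :
    (∀ g ∈ (MulEquiv.toMonoidHom (σ ^ e)).eqLocus (MonoidHom.id X), ∀ a : X, g = a * (σ a)⁻¹ →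
        ((σ ^ e) a)⁻¹ * a ∈ (MulEquiv.toMonoidHom σ).eqLocus (MonoidHom.id X) ∧
          a⁻¹ * ((List.range e).map (fun i => (σ ^ i) g)).prod * a = ((σ ^ e) a)⁻¹ * a) ∧
    (∀ g ∈ (MulEquiv.toMonoidHom (σ ^ e)).eqLocus (MonoidHom.id X), ∀ g' ∈ (MulEquiv.toMonoidHom (σ ^ e)).eqLocus (MonoidHom.id X), ∀ a b : X,
        g = a * (σ a)⁻¹ → g' = b * (σ b)⁻¹ →
          ((∃ k ∈ (MulEquiv.toMonoidHom (σ ^ e)).eqLocus (MonoidHom.id X), g' = k * g * (σ k)⁻¹) ↔
            (∃ h ∈ (MulEquiv.toMonoidHom σ).eqLocus (MonoidHom.id X), ((σ ^ e) b)⁻¹ * b = h * (((σ ^ e) a)⁻¹ * a) * h⁻¹))) ∧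
    (∀ x ∈ (MulEquiv.toMonoidHom σ).eqLocus (MonoidHom.id X), ∃ g ∈ (MulEquiv.toMonoidHom (σ ^ e)).eqLocus (MonoidHom.id X), ∃ a : X,
        g = a * (σ a)⁻¹ ∧ ((σ ^ e) a)⁻¹ * a = x) := by
  have hcomm : ∀ x, (σ ^ e) (σ x) = σ ((σ ^ e) x) := fun x => by
    rw [← MulAut.mul_apply, ← MulAut.mul_apply, ((Commute.refl σ).pow_left e).eq]
  have hfix : ∀ (n : ℕ) x, σ x = x → (σ ^ n) x = x := fun n x hx => by
    induction n with
    | zero => simp
    | succ n ih => rw [pow_succ, MulAut.mul_apply, hx]; exact ih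
  have hnorm : ∀ (n : ℕ) (g a : X), g = a * (σ a)⁻¹ →
      ((List.range n).map (fun i => (σ ^ i) g)).prod = a * ((σ ^ n) a)⁻¹ := fun n g a hga => by
    induction n with
    | zero => simp
    | succ n ih =>
      rw [List.range_succ, List.map_append, List.prod_append, ih, List.map_singleton, List.prod_singleton,
        hga, map_mul, map_inv, pow_succ, MulAut.mul_apply]
      group
  refine ⟨?_, ?_, ?_⟩
  · intro g hg a hga
    have hg' : (σ ^ e) g = g := hg
    refine ⟨?_, ?_⟩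
    · show σ (((σ ^ e) a)⁻¹ * a) = ((σ ^ e) a)⁻¹ * a
      rw [map_mul, map_inv, ← hcomm]
      rw [hga, map_mul, map_inv] at hg'
      have h1 : (σ ^ e) a = a * (σ a)⁻¹ * (σ ^ e) (σ a) := mul_inv_eq_iff_eq_mul.1 hg'
      conv_rhs => rw [h1]
      group
    · rw [hnorm e g a hga]; group
  · intro g hg g' hg' a b hga hgb
    constructor
    · rintro ⟨k, hk, hkg⟩
      have hk' : (σ ^ e) k = k := hk
      have hc : σ ((k * a)⁻¹ * b) = (k * a)⁻¹ * b := by
        rw [hgb, hga] at hkg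
        have h1 : b = k * (a * (σ a)⁻¹) * (σ k)⁻¹ * σ b := mul_inv_eq_iff_eq_mul.1 hkg
        conv_rhs => rw [h1]
        rw [map_mul, map_inv, map_mul]
        group
      refine ⟨((k * a)⁻¹ * b)⁻¹, ?_, ?_⟩
      · show σ _ = _
        rw [map_inv, hc]
        rfl
      · have h2 := hfix e _ hc
        rw [map_mul, map_inv, map_mul, hk'] at h2
        have h3 : (σ ^ e) b = k * (σ ^ e) a * ((k * a)⁻¹ * b) := inv_mul_eq_iff_eq_mul.1 h2
        rw [h3]
        group
    · rintro ⟨h, hh, hn⟩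
      have hh' : σ h = h := hh
      refine ⟨b * h * a⁻¹, ?_, ?_⟩
      · show (σ ^ e) (b * h * a⁻¹) = b * h * a⁻¹
        rw [map_mul, map_mul, map_inv, hfix e h hh']
        have h1 : b = (σ ^ e) b * (h * (((σ ^ e) a)⁻¹ * a) * h⁻¹) := inv_mul_eq_iff_eq_mul.1 hn
        conv_rhs => rw [h1]
        group
      · rw [hgb, hga, map_mul, map_mul, map_inv, hh']
        group
  · intro x hx
    have hx' : σ x = x := hx
    obtain ⟨c, hc⟩ := hLe x⁻¹
    have hn : ((σ ^ e) c⁻¹)⁻¹ * c⁻¹ = x := by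
      rw [map_inv, inv_inv, ← inv_inj, mul_inv_rev, inv_inv]
      exact hc.symm
    refine ⟨c⁻¹ * (σ c⁻¹)⁻¹, ?_, c⁻¹, rfl, hn⟩
    show (σ ^ e) _ = _
    generalize c⁻¹ = a at hn ⊢
    rw [← hn, map_mul, map_inv, ← hcomm] at hx'
    show (σ ^ e) (a * (σ a)⁻¹) = a * (σ a)⁻¹
    rw [map_mul, map_inv]
    generalize (σ ^ e) (σ a) = c' at hx'
    generalize σ a = b at hx' ⊢
    generalize (σ ^ e) a = d at hx' ⊢
    have h1 : b = c' * (d⁻¹ * a) := inv_mul_eq_iff_eq_mul.1 hx'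
    rw [h1]
    group

end Cfsg.Agent.S2666
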