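import Cfsg.Statements.S2667


set_option autoImplicit false
open Cfsg

namespace Cfsg.Agent.S2667

/-- Shintani descent, in an abstract form. Let `σ` be an automorphism of a group `X` and `e ≥ 1` (no surjectivity of the Lang maps is needed for this part; in the classical setting `X` is a connected algebraic group and `σ` a Steinberg endomorphism). Write `G` for the subgroup of fixed points of `σᵉ` and `H` for the subgroup of fixed points of `σ`. The `G`-conjugacy classes in the coset `G σ` of the semidirect product of `G` by `σ` correspond to the orbits of `G` on itself under twisted conjugation `g ↦ k g σ(k)⁻¹`, and the `e`-th power of `g σ` has `G`-part the norm `g σ(g) ⋯ σ^(e-1)(g)`. For `g` in `G` and any `a` with `g = a σ(a)⁻¹`, put `x = σᵉ(a)⁻¹ a`. Then conjugation by `a⁻¹` carries the twisted centralizer `{k ∈ G : k g σ(k)⁻¹ = g}` (the centralizer of `g σ` in `G`) exactly onto the centralizer of `x` in `H`: an element `k` of `X` lies in `G` and satisfies `k g σ(k)⁻¹ = g` if and only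 if `a⁻¹ k a` lies in `H` and commutes with `x`. In particular the two centralizers are conjugate in `X` and have the same order. -/
theorem result {X : Type*} [Group X] (σ : MulAut X) (e : ℕ) (he : 1 ≤ e)
    (g : X) (hg : g ∈ (MulEquiv.toMonoidHom (σ ^ e)).eqLocus (MonoidHom.id X)) (a : X) (ha : g = a * (σ a)⁻¹) (k : X) :
    (k ∈ (MulEquiv.toMonoidHom (σ ^ e)).eqLocus (MonoidHom.id X) ∧ k * g * (σ k)⁻¹ = g) ↔
      (a⁻¹ * k * a ∈ (MulEquiv.toMonoidHom σ).eqLocus (MonoidHom.id X) ∧
        (a⁻¹ * k * a) * (((σ ^ e) a)⁻¹ * a) = (((σ ^ e) a)⁻¹ * a) * (a⁻¹ * k * a)) := by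
  have hfix : ∀ (n : ℕ) x, σ x = x → (σ ^ n) x = x := fun n x hx => by
    induction n with
    | zero => simp
    | succ n ih => rw [pow_succ, MulAut.mul_apply, hx]; exact ih
  have hmem : ∀ (τ : MulAut X) x, x ∈ (MulEquiv.toMonoidHom τ).eqLocus (MonoidHom.id X) ↔ τ x = x :=
    fun τ x => Iff.rfl
  simp only [hmem] at hg ⊢
  subst ha
  set t := σ ^ e with ht
  constructor
  · rintro ⟨hk, hkg⟩
    have hc : σ (a⁻¹ * k * a) = a⁻¹ * k * a := by
      have h1 : σ k = (a * (σ a)⁻¹)⁻¹ * k * (a * (σ a)⁻¹) := by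
        have h := mul_inv_eq_iff_eq_mul.1 hkg
        rw [mul_assoc, h]
        group
      rw [map_mul, map_mul, map_inv, h1]
      group
    refine ⟨hc, ?_⟩
    have h2 : t (a⁻¹ * k * a) = a⁻¹ * k * a := hfix e _ hc
    rw [map_mul, map_mul, map_inv, hk] at h2
    generalize t a = s at h2 ⊢
    have h3 : k = s * (a⁻¹ * k * a) * s⁻¹ := by rw [← h2]; group
    conv_rhs => rw [h3]
    group
  · rintro ⟨hc, hn⟩
    have h2 : t (a⁻¹ * k * a) = a⁻¹ * k * a := hfix e _ hc
    rw [map_mul, map_mul, map_inv] at h2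
    rw [map_mul, map_mul, map_inv] at hc
    refine ⟨?_, ?_⟩
    · generalize t a = s at h2 hn
      generalize t k = u at h2 ⊢
      have h3 : u = s * (a⁻¹ * k * a) * s⁻¹ := by rw [← h2]; group
      have h4 : a⁻¹ * k * a * s⁻¹ = s⁻¹ * a * (a⁻¹ * k * a) * a⁻¹ := by rw [← hn]; group
      rw [h3, mul_assoc, h4]
      group
    · have h3 : σ k = σ a * (a⁻¹ * k * a) * (σ a)⁻¹ := by rw [← hc]; group
      rw [h3]
      group

end Cfsg.Agent.S2667
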