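import Cfsg.Statements.S2668


set_option autoImplicit false
open Cfsg

namespace Cfsg.Agent.S2668

/-- Shintani descent and powers (abstract form). Let `σ` be an automorphism of a group `X`, `e ≥ 1` and `d ≥ 1`, let `g` be fixed by `σᵉ` and let `a` satisfy `g = a σ(a)⁻¹`, so that the Shintani map of `(X, σ, e)` sends the class of `g σ` to the class of `x = σᵉ(a)⁻¹ a`. Put `h = g σ(g) ⋯ σ^(d-1)(g)`, the part in `X` of the `d`-th power `(g σ)^d = h σ^d`. Then `h = a σ^d(a)⁻¹` (so `a` also serves for `h` with respect to `σ^d`), `h` is fixed by `(σ^d)ᵉ`, and `(σ^d)ᵉ(a)⁻¹ a = x^d`: the Shintani map of `(X, σ^d, e)` sends the class of `(g σ)^d` to the class of `x^d`. (When `d` divides `e`, the Shintani map of `(X, σ^d, e/d)` sends it to the class of `x` itself, since `(σ^d)^(e/d) = σᵉ`.) -/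
theorem result {X : Type*} [Group X] (σ : MulAut X) (e d : ℕ) (he : 1 ≤ e) (hd : 1 ≤ d)
    (g : X) (hg : g ∈ (MulEquiv.toMonoidHom (σ ^ e)).eqLocus (MonoidHom.id X)) (a : X) (ha : g = a * (σ a)⁻¹) :
    ((List.range d).map (fun i => (σ ^ i) g)).prod = a * ((σ ^ d) a)⁻¹ ∧
      ((List.range d).map (fun i => (σ ^ i) g)).prod ∈ (MulEquiv.toMonoidHom ((σ ^ d) ^ e)).eqLocus (MonoidHom.id X) ∧
      (((σ ^ d) ^ e) a)⁻¹ * a = (((σ ^ e) a)⁻¹ * a) ^ d := by
  have hcomm : ∀ (n : ℕ) x, (σ ^ e) ((σ ^ n) x) = (σ ^ n) ((σ ^ e) x) := fun n x => by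
    rw [← MulAut.mul_apply, ← MulAut.mul_apply, ((Commute.refl σ).pow_pow e n).eq]
  have hnorm : ∀ n : ℕ,
      ((List.range n).map (fun i => (σ ^ i) g)).prod = a * ((σ ^ n) a)⁻¹ := fun n => by
    induction n with
    | zero => simp
    | succ n ih =>
      rw [List.range_succ, List.map_append, List.prod_append, ih, List.map_singleton, List.prod_singleton,
        ha, map_mul, map_inv, pow_succ, MulAut.mul_apply]
      group
  have hpe : ∀ (n : ℕ) x, (σ ^ e) x = x → ((σ ^ e) ^ n) x = x := fun n x hx => by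
    induction n with
    | zero => simp
    | succ n ih => rw [pow_succ, MulAut.mul_apply, hx]; exact ih
  have hpow : (σ ^ d) ^ e = (σ ^ e) ^ d := by rw [← pow_mul, ← pow_mul, mul_comm]
  have hfix : ∀ (n : ℕ) x, σ x = x → (σ ^ n) x = x := fun n x hx => by
    induction n with
    | zero => simp
    | succ n ih => rw [pow_succ, MulAut.mul_apply, hx]; exact ih
  have hg' : (σ ^ e) g = g := hg
  refine ⟨hnorm d, ?_, ?_⟩
  · show ((σ ^ d) ^ e) _ = _
    rw [hpow, hpe]
    rfl
    rw [map_list_prod, List.map_map]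
    congr 1
    refine List.map_congr_left fun i _ => ?_
    rw [Function.comp_apply, hcomm, hg']
  · rw [hpow]
    set n0 := ((σ ^ e) a)⁻¹ * a with hn0
    have hs : σ n0 = n0 := by
      have h1 := hg'
      rw [ha, map_mul, map_inv] at h1
      have h2 : (σ ^ e) a = a * (σ a)⁻¹ * (σ ^ e) (σ a) := mul_inv_eq_iff_eq_mul.1 h1
      have h3 := hcomm 1 a
      rw [pow_one] at h3
      rw [hn0, map_mul, map_inv, ← h3]
      conv_rhs => rw [h2]
      group
    have ht : (σ ^ e) n0 = n0 := hfix e _ hs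
    clear_value n0
    clear hnorm hg hg' ha hs hpow hd
    induction d with
    | zero => simp
    | succ m ih =>
      rw [pow_succ (σ ^ e), MulAut.mul_apply, pow_succ n0]
      have h5 : (σ ^ e) a = a * n0⁻¹ := by rw [hn0]; group
      rw [h5, map_mul, map_inv, hpe m _ ht, mul_inv_rev, inv_inv, mul_assoc, ih, ← pow_succ', ← pow_succ]

end Cfsg.Agent.S2668
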