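import Cfsg.Statements.S2669


set_option linter.style.haveILetI false

set_option autoImplicit false
open Cfsg

namespace Cfsg.Agent.S2669

/-- Shintani descent preserves numbers of fixed points on coset spaces (abstract form). Let `σ` be an automorphism of a group `X` and `e ≥ 1`; write `G` for the fixed points of `σᵉ` and `H` for the fixed points of `σ`, and assume `G` is finite. Let `Y` be a `σ`-stable subgroup of `X` on which the maps `a ↦ a σ(a)⁻¹` and `a ↦ a σᵉ(a)⁻¹` are surjective (as for a closed connected `σ`-stable subgroup of an algebraic group). Let `g ∈ G`, let `a ∈ X` satisfy `g = a σ(a)⁻¹` and put `x = σᵉ(a)⁻¹ a` (the Shintani image, an element of `H`). The element `g σ` of the semidirect product acts on the cosets of `Y ∩ G` in `G` by `k (Y ∩ G) ↦ g σ(k) (Y ∩ G)`, fixing that coset exactly when `k⁻¹ g σ(k) ∈ Y`; and `x` fixes the coset `h (Y ∩ H)` of `H` exactly when `h⁻¹ x h ∈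 Y`. Then the two numbers of fixed cosets agree; in cross-multiplied form, `#{k ∈ G : k⁻¹ g σ(k) ∈ Y} · |Y ∩ H| = #{h ∈ H : h⁻¹ x h ∈ Y} · |Y ∩ G|`. -/
theorem result {X : Type*} [Group X] (σ : MulAut X) (e : ℕ) (he : 1 ≤ e)
    [Finite ↥((MulEquiv.toMonoidHom (σ ^ e)).eqLocus (MonoidHom.id X))]
    (Y : Subgroup X) (hY : ∀ y : X, y ∈ Y ↔ σ y ∈ Y)
    (hYL : ∀ y ∈ Y, ∃ a ∈ Y, y = a * (σ a)⁻¹) (hYLe : ∀ y ∈ Y, ∃ a ∈ Y, y = a * ((σ ^ e) a)⁻¹)
    (g : X) (hg : g ∈ (MulEquiv.toMonoidHom (σ ^ e)).eqLocus (MonoidHom.id X)) (a : X) (ha : g = a * (σ a)⁻¹) :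
    Nat.card {k : ↥((MulEquiv.toMonoidHom (σ ^ e)).eqLocus (MonoidHom.id X)) // (k : X)⁻¹ * g * σ k ∈ Y} *
        Nat.card ↥(Y ⊓ (MulEquiv.toMonoidHom σ).eqLocus (MonoidHom.id X)) =
      Nat.card {h : ↥((MulEquiv.toMonoidHom σ).eqLocus (MonoidHom.id X)) // (h : X)⁻¹ * (((σ ^ e) a)⁻¹ * a) * h ∈ Y} *
        Nat.card ↥(Y ⊓ (MulEquiv.toMonoidHom (σ ^ e)).eqLocus (MonoidHom.id X)) := by
  classical
  set τ : MulAut X := σ ^ e with hτ
  have memG : ∀ z : X, z ∈ (MulEquiv.toMonoidHom τ).eqLocus (MonoidHom.id X) ↔ τ z = z := fun _ => Iff.rfl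
  have memH : ∀ z : X, z ∈ (MulEquiv.toMonoidHom σ).eqLocus (MonoidHom.id X) ↔ σ z = z := fun _ => Iff.rfl
  have hfix : ∀ z : X, σ z = z → τ z = z := by
    intro z hz
    rw [hτ]
    suffices ∀ k : ℕ, (σ ^ k) z = z from this e
    intro k
    induction k with
    | zero => rw [pow_zero]; rfl
    | succ k ih => rw [pow_succ, MulAut.mul_apply, hz, ih]
  have hg' : τ g = g := (memG g).mp hg
  set x := (τ a)⁻¹ * a with hx
  have hP : ∀ k : X, τ k = k → k⁻¹ * g * σ k ∈ Y → ∃ h b : X, σ h = h ∧ b ∈ Y ∧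
      (τ b)⁻¹ * b = h⁻¹ * x * h ∧ k = a * h * b⁻¹ := by
    intro k hk hy
    obtain ⟨b, hb, hbe⟩ := hYL _ hy
    have hsb : σ b = (σ k)⁻¹ * g⁻¹ * k * b := by
      have := congrArg (fun t => t⁻¹ * b) hbe
      simpa [mul_assoc] using this.symm
    have hh : σ (a⁻¹ * k * b) = a⁻¹ * k * b := by
      rw [map_mul, map_mul, map_inv, hsb, ha]; group
    refine ⟨a⁻¹ * k * b, b, hh, hb, ?_, by group⟩
    have h2 := hfix _ hh
    rw [map_mul, map_mul, map_inv, hk] at h2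
    have hτb : τ b = k⁻¹ * τ a * (a⁻¹ * k * b) := by rw [← h2]; group
    rw [hτb, hx]; group
  have hQ : ∀ h b : X, σ h = h → b ∈ Y → (τ b)⁻¹ * b = h⁻¹ * x * h →
      τ (a * h * b⁻¹) = a * h * b⁻¹ ∧ (a * h * b⁻¹)⁻¹ * g * σ (a * h * b⁻¹) ∈ Y := by
    intro h b hh hb hE
    constructor
    · have hτb : τ b = b * (h⁻¹ * x * h)⁻¹ := by rw [← hE]; group
      rw [map_mul, map_mul, map_inv, hfix h hh, hτb, hx]; group
    · have : (a * h * b⁻¹)⁻¹ * g * σ (a * h * b⁻¹) = b * (σ b)⁻¹ := by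
        rw [map_mul, map_mul, map_inv, hh, ha]; group
      rw [this]
      exact Y.mul_mem hb (Y.inv_mem ((hY b).mp hb))
  have hR : ∀ h : X, h⁻¹ * x * h ∈ Y → ∃ b ∈ Y, (τ b)⁻¹ * b = h⁻¹ * x * h := by
    intro h hy
    obtain ⟨c, hc, hce⟩ := hYLe _ (Y.inv_mem hy)
    refine ⟨c⁻¹, Y.inv_mem hc, ?_⟩
    rw [map_inv, inv_inv, ← inv_inv (h⁻¹ * x * h), hce]; group
  choose hk bk hkH hkY hkE hkK using hP
  choose bh bhY bhE using hR
  let A := {k : ↥((MulEquiv.toMonoidHom τ).eqLocus (MonoidHom.id X)) // (k : X)⁻¹ * g * σ k ∈ Y}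
  let B := {h : ↥((MulEquiv.toMonoidHom σ).eqLocus (MonoidHom.id X)) // (h : X)⁻¹ * x * h ∈ Y}
  let P := {p : X × X // σ p.1 = p.1 ∧ p.2 ∈ Y ∧ (τ p.2)⁻¹ * p.2 = p.1⁻¹ * x * p.1}
  let φ : A × ↥(Y ⊓ (MulEquiv.toMonoidHom σ).eqLocus (MonoidHom.id X)) → P := fun q =>
    ⟨(hk q.1.1 ((memG _).mp q.1.1.2) q.1.2 * q.2, bk q.1.1 ((memG _).mp q.1.1.2) q.1.2 * q.2), by
      have hc : σ (q.2 : X) = q.2 := (memH _).mp (Subgroup.mem_inf.mp q.2.2).2
      refine ⟨by rw [map_mul, hkH, hc], Y.mul_mem (hkY _ _ _) (Subgroup.mem_inf.mp q.2.2).1, ?_⟩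
      rw [map_mul, hfix _ hc, mul_inv_rev, mul_inv_rev]
      have := congrArg (fun t => (q.2 : X)⁻¹ * t * q.2) (hkE q.1.1 ((memG _).mp q.1.1.2) q.1.2)
      simpa [mul_assoc] using this⟩
  have hφ : Function.Bijective φ := by
    constructor
    · rintro ⟨⟨⟨k, hk1⟩, hk2⟩, c⟩ ⟨⟨⟨k', hk1'⟩, hk2'⟩, c'⟩ he'
      have e1 := congrArg (fun p => p.val.1) he'
      have e2 := congrArg (fun p => p.val.2) he'
      simp only [φ] at e1 e2
      have hkk : k = k' := by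
        rw [hkK k ((memG k).mp hk1) hk2, hkK k' ((memG k').mp hk1') hk2']
        calc a * hk k _ hk2 * (bk k _ hk2)⁻¹
            = a * (hk k _ hk2 * (c : X)) * (bk k _ hk2 * (c : X))⁻¹ := by group
          _ = _ := by rw [e1, e2]; group
      subst hkk
      exact Prod.ext rfl (Subtype.ext (mul_left_cancel e1))
    · rintro ⟨⟨h, b⟩, hh, hb, hE⟩
      obtain ⟨q1, q2⟩ := hQ h b hh hb hE
      have hK := hkK _ q1 q2
      have hcc : (hk _ q1 q2)⁻¹ * h = (bk _ q1 q2)⁻¹ * b := by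
        generalize hk (a * h * b⁻¹) q1 q2 = u, bk (a * h * b⁻¹) q1 q2 = v at hK ⊢
        have h3 : h * b⁻¹ = u * v⁻¹ := mul_left_cancel (a := a) (by rw [← mul_assoc, hK, mul_assoc])
        calc u⁻¹ * h = u⁻¹ * (h * b⁻¹) * b := by group
          _ = _ := by rw [h3]; group
      refine ⟨(⟨⟨a * h * b⁻¹, (memG _).mpr q1⟩, q2⟩, ⟨(hk _ q1 q2)⁻¹ * h, ?_, ?_⟩), Subtype.ext (Prod.ext ?_ ?_)⟩
      · rw [hcc]; exact Y.mul_mem (Y.inv_mem (hkY _ _ _)) hb
      · exact (memH _).mpr (by rw [map_mul, map_inv, hkH, hh])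
      · simp [φ]
      · simp only [φ]
        refine (congrArg (bk _ q1 q2 * ·) hcc).trans ?_
        group
  let ψ : B × ↥(Y ⊓ (MulEquiv.toMonoidHom τ).eqLocus (MonoidHom.id X)) → P := fun q =>
    ⟨((q.1.1 : X), (q.2 : X) * bh q.1.1 q.1.2), by
      refine ⟨(memH _).mp q.1.1.2, Y.mul_mem (Subgroup.mem_inf.mp q.2.2).1 (bhY _ _), ?_⟩
      rw [map_mul, (memG _).mp (Subgroup.mem_inf.mp q.2.2).2, ← bhE q.1.1 q.1.2]; group⟩
  have hψ : Function.Bijective ψ := by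
    constructor
    · rintro ⟨⟨⟨h, hh⟩, hh2⟩, z⟩ ⟨⟨⟨h', hh'⟩, hh2'⟩, z'⟩ he'
      have e1 := congrArg (fun p => p.val.1) he'
      have e2 := congrArg (fun p => p.val.2) he'
      simp only [ψ] at e1 e2
      subst e1
      exact Prod.ext rfl (Subtype.ext (mul_right_cancel e2))
    · rintro ⟨⟨h, b⟩, hh, hb, hE⟩
      dsimp only at hh hb hE
      have hy : h⁻¹ * x * h ∈ Y := hE ▸ Y.mul_mem (Y.inv_mem (by
        have : ∀ k : ℕ, ∀ y ∈ Y, (σ ^ k) y ∈ Y := by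
          intro k
          induction k with
          | zero => intro y hy; exact hy
          | succ k ih => intro y hy; rw [pow_succ, MulAut.mul_apply]; exact ih _ ((hY y).mp hy)
        exact this e b hb)) hb
      refine ⟨(⟨⟨h, (memH _).mpr hh⟩, hy⟩, ⟨b * (bh h hy)⁻¹, Y.mul_mem hb (Y.inv_mem (bhY h hy)), ?_⟩),
        Subtype.ext (Prod.ext rfl ?_)⟩
      · refine (memG _).mpr ?_
        rw [map_mul, map_inv]
        have h3 := hE.trans (bhE h hy).symm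
        calc τ b * (τ (bh h hy))⁻¹ = τ b * ((τ (bh h hy))⁻¹ * bh h hy) * (bh h hy)⁻¹ := by group
          _ = _ := by rw [← h3]; group
      · simp [ψ]
  have h1 := Nat.card_congr (Equiv.ofBijective φ hφ)
  have h2 := Nat.card_congr (Equiv.ofBijective ψ hψ)
  rw [Nat.card_prod] at h1 h2
  exact h1.trans h2.symm

end Cfsg.Agent.S2669
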