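import Cfsg.Statements.S2670
import Cfsg.Agent.Lib.Linear.CanonicalForm

set_option linter.style.haveILetI false

set_option autoImplicit false
open Cfsg

namespace Cfsg.Agent.S2670

open Finset Polynomial

universe u

variable {F : Type u} [Field F] {n r : ℕ}

abbrev PG (F : Type u) [Field F] (n : ℕ) := GL (Fin n) F ⧸ Subgroup.center (GL (Fin n) F)

theorem val_scalar (s : Fˣ) :
    ((Matrix.GeneralLinearGroup.scalar (Fin n) s : GL (Fin n) F) : Matrix (Fin n) (Fin n) F) =
      Matrix.diagonal fun _ => (s : F) := rfl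

theorem mk_eq_iff (A B : GL (Fin n) F) (hn : 1 ≤ n) : (A : PG F n) = (B : PG F n) ↔
    ∃ s : F, s ≠ 0 ∧ (A : Matrix (Fin n) (Fin n) F) = s • (B : Matrix (Fin n) (Fin n) F) := by
  rw [QuotientGroup.eq_iff_div_mem, Matrix.GeneralLinearGroup.center_eq_range_scalar, MonoidHom.mem_range]
  constructor
  · rintro ⟨s, hs⟩
    refine ⟨s, s.ne_zero, ?_⟩
    have h : A = Matrix.GeneralLinearGroup.scalar (Fin n) s * B := by rw [hs, div_mul_cancel]
    rw [h, Units.val_mul, val_scalar, ← Matrix.smul_eq_diagonal_mul]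
  · rintro ⟨s, hs0, hs⟩
    refine ⟨Units.mk0 s hs0, eq_div_iff_mul_eq'.mpr (Units.ext ?_)⟩
    rw [Units.val_mul, val_scalar, ← Matrix.smul_eq_diagonal_mul, hs]
    rfl

theorem class_eq_iff (A B : GL (Fin n) F) (hn : 1 ≤ n) :
    ConjClasses.mk (A : PG F n) = ConjClasses.mk (B : PG F n) ↔
      ∃ s : F, s ≠ 0 ∧ IsConj (A : Matrix (Fin n) (Fin n) F) (s • (B : Matrix (Fin n) (Fin n) F)) := by
  rw [ConjClasses.mk_eq_mk_iff_isConj]
  constructor
  · intro h
    obtain ⟨c, hc⟩ := isConj_iff.mp h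
    obtain ⟨c, rfl⟩ := QuotientGroup.mk_surjective c
    rw [← QuotientGroup.mk_inv, ← QuotientGroup.mk_mul, ← QuotientGroup.mk_mul, mk_eq_iff _ _ hn] at hc
    obtain ⟨s, hs0, hs⟩ := hc
    refine ⟨s, hs0, c, ?_⟩
    show (c : Matrix (Fin n) (Fin n) F) * A = (s • (B : Matrix (Fin n) (Fin n) F)) * c
    have h2 : (c * A * c⁻¹ * c : GL (Fin n) F) = c * A := inv_mul_cancel_right _ _
    rw [← Units.val_mul, ← h2, Units.val_mul, hs]
  · rintro ⟨s, hs0, c, hc⟩
    refine isConj_iff.mpr ⟨(c : PG F n), ?_⟩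
    rw [← QuotientGroup.mk_inv, ← QuotientGroup.mk_mul, ← QuotientGroup.mk_mul, mk_eq_iff _ _ hn]
    refine ⟨s, hs0, ?_⟩
    have h1 : (c : Matrix (Fin n) (Fin n) F) * A = (s • (B : Matrix (Fin n) (Fin n) F)) * c := hc
    rw [Units.val_mul, Units.val_mul, h1, mul_assoc, ← Units.val_mul, mul_inv_cancel, Units.val_one, mul_one]

theorem smul_one_inj (hn : 1 ≤ n) {a b : F}
    (h : a • (1 : Matrix (Fin n) (Fin n) F) = b • (1 : Matrix (Fin n) (Fin n) F)) : a = b := by
  simpa using congrFun (congrFun h ⟨0, hn⟩) ⟨0, hn⟩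

theorem pow_eq_of_isConj (hn : 1 ≤ n) {A B : Matrix (Fin n) (Fin n) F} {s a b : F} {k : ℕ}
    (h : IsConj A (s • B)) (hA : A ^ k = a • 1) (hB : B ^ k = b • 1) : a = s ^ k * b := by
  obtain ⟨c, hc⟩ := h
  have h2 : (c : Matrix (Fin n) (Fin n) F) * A ^ k = (s • B) ^ k * (c : Matrix (Fin n) (Fin n) F) := hc.pow_right k
  rw [hA, _root_.smul_pow, hB, smul_smul, mul_smul_comm, mul_one, smul_mul_assoc, one_mul] at h2
  have h3 := congrArg (fun M => M * ((c⁻¹ : (Matrix (Fin n) (Fin n) F)ˣ) : Matrix (Fin n) (Fin n) F)) h2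
  simp only [smul_mul_assoc, Units.mul_inv] at h3
  exact smul_one_inj hn h3

variable (ζ : Fˣ)

def z (j : ZMod r) : F := ((ζ ^ j.val : Fˣ) : F)

theorem z_add [NeZero r] (hζ : orderOf ζ = r) (i j : ZMod r) : z ζ (i + j) = z ζ i * z ζ j := by
  rw [z, z, z, ← Units.val_mul, ← pow_add, ZMod.val_add]
  congr 1
  conv_rhs => rw [← pow_mod_orderOf, hζ]

theorem z_inj [NeZero r] (hζ : orderOf ζ = r) : Function.Injective (z ζ : ZMod r → F) := fun i j h =>
  ZMod.val_injective r (pow_injOn_Iio_orderOf (x := ζ) (hζ ▸ ZMod.val_lt i) (hζ ▸ ZMod.val_lt j) (Units.ext h))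

theorem z_pow [NeZero r] (hζ : orderOf ζ = r) (j : ZMod r) : z ζ j ^ r = 1 := by
  rw [z, ← Units.val_pow_eq_pow_val, ← pow_mul, mul_comm, pow_mul, orderOf_dvd_iff_pow_eq_one.mp (dvd_of_eq hζ),
    one_pow, Units.val_one]

theorem z_surj [NeZero r] (hζ : orderOf ζ = r) {w : F} (hw : w ^ r = 1) : ∃ j : ZMod r, z ζ j = w := by
  have h1 : IsPrimitiveRoot (ζ : F) r := IsPrimitiveRoot.coe_units_iff.mpr (hζ ▸ IsPrimitiveRoot.orderOf ζ)
  obtain ⟨i, hi, rfl⟩ := h1.eq_pow_of_pow_eq_one hw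
  exact ⟨(i : ZMod r), by rw [z, ZMod.val_natCast, Nat.mod_eq_of_lt hi, Units.val_pow_eq_pow_val]⟩

abbrev Tup (n r : ℕ) [NeZero r] := {a : ZMod r → Fin n // ∑ j, (a j : ℕ) = n}

variable [NeZero r]

noncomputable def P (b : ZMod r → ℕ) : F[X] := ∏ j, (X - C (z ζ j)) ^ b j

theorem P_inj (hζ : orderOf ζ = r) {b c : ZMod r → ℕ} (h : P ζ b = P ζ c) : b = c := by
  classical
  have key : ∀ (d : ZMod r → ℕ) (k : ZMod r), (P ζ d).roots.count (z ζ k) = d k := by
    intro d k
    rw [P, Polynomial.roots_prod _ _ (Finset.prod_ne_zero_iff.mpr fun j _ => pow_ne_zero _ (X_sub_C_ne_zero _)),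
      Multiset.count_bind]
    show (∑ j, ((X - C (z ζ j)) ^ d j).roots.count (z ζ k)) = d k
    rw [Finset.sum_eq_single k]
    · rw [Polynomial.roots_pow, roots_X_sub_C, Multiset.count_nsmul, Multiset.count_singleton_self, mul_one]
    · intro j _ hj
      rw [Polynomial.roots_pow, roots_X_sub_C, Multiset.count_nsmul, Multiset.count_singleton,
        if_neg fun h => hj (z_inj ζ hζ h.symm), mul_zero]
    · simp
  funext k
  rw [← key b k, h, key]

noncomputable def idx (a : Tup n r) : Fin n ≃ (j : ZMod r) × Fin (a.1 j : ℕ) :=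
  (Fintype.equivFinOfCardEq (by rw [Fintype.card_sigma]; simp [a.2])).symm

noncomputable def D (a : Tup n r) : GL (Fin n) F :=
  Matrix.GeneralLinearGroup.mkOfDetNeZero (Matrix.diagonal fun i => z ζ (idx a i).1) (by
    rw [Matrix.det_diagonal]
    exact Finset.prod_ne_zero_iff.mpr fun i _ => Units.ne_zero _)

theorem charpoly_smul_D (hζ : orderOf ζ = r) (a : Tup n r) (c : ZMod r) :
    (z ζ c • (D ζ a : Matrix (Fin n) (Fin n) F)).charpoly = P ζ fun j => (a.1 (j - c) : ℕ) := by
  have : z ζ c • (D ζ a : Matrix (Fin n) (Fin n) F) = Matrix.diagonal fun i => z ζ ((idx a i).1 + c) := by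
    show z ζ c • Matrix.diagonal (fun i => z ζ (idx a i).1) = _
    rw [← Matrix.diagonal_smul]
    congr 1
    funext i
    rw [Pi.smul_apply, smul_eq_mul, z_add ζ hζ, mul_comm]
  rw [this, Matrix.charpoly_diagonal,
    Fintype.prod_equiv (idx a) (fun i => X - C (z ζ ((idx a i).1 + c))) (fun p => X - C (z ζ (p.1 + c))) (fun i => rfl),
    Fintype.prod_sigma, P]
  refine Fintype.prod_equiv (Equiv.addRight c) _ _ fun j => ?_
  simp

theorem z_zero : z ζ (0 : ZMod r) = 1 := by simp [z]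

theorem charpoly_D (hζ : orderOf ζ = r) (a : Tup n r) :
    (D ζ a : Matrix (Fin n) (Fin n) F).charpoly = P ζ fun j => (a.1 j : ℕ) := by
  have := charpoly_smul_D ζ hζ a 0
  simpa [z_zero] using this

theorem D_pow (hζ : orderOf ζ = r) (a : Tup n r) : (D ζ a : Matrix (Fin n) (Fin n) F) ^ r = 1 := by
  show (Matrix.diagonal fun i => z ζ (idx a i).1) ^ r = 1
  rw [Matrix.diagonal_pow, ← Matrix.diagonal_one]
  congr 1
  funext i
  exact z_pow ζ hζ _

theorem D_not_scalar (hζ : orderOf ζ = r) (hn : 1 ≤ n) (a : Tup n r) (s : F) :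
    (D ζ a : Matrix (Fin n) (Fin n) F) ≠ s • 1 := by
  intro h
  have hv : ∀ i, z ζ (idx a i).1 = s := fun i => by
    have := congrFun (congrFun h i) i
    simpa [D] using this
  have hall : ∀ p : (j : ZMod r) × Fin (a.1 j : ℕ), p.1 = (idx a ⟨0, hn⟩).1 := fun p =>
    z_inj ζ hζ (by rw [← (idx a).apply_symm_apply p, hv, hv])
  have hsum := a.2
  rw [Finset.sum_eq_single (idx a ⟨0, hn⟩).1 (fun j _ hj => by
    by_contra h0
    exact hj (hall ⟨j, ⟨0, Nat.pos_of_ne_zero h0⟩⟩)) (by simp)] at hsum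
  have := (a.1 (idx a ⟨0, hn⟩).1).isLt
  omega

theorem exists_tup (hζ : orderOf ζ = r) (hrF : (r : F) ≠ 0) {M : Matrix (Fin n) (Fin n) F} (hM : M ^ r = 1)
    (hns : ∀ s : F, M ≠ s • 1) : ∃ a : Tup n r, M.charpoly = P ζ fun j => (a.1 j : ℕ) := by
  classical
  obtain ⟨ι, hι, f, hf1, hf2, hf⟩ := Cfsg.Lib.CanonicalForm.exists_form_of_pow_eq_one M r hrF hM
  have hd := (hf.aeval_eq_zero_iff (X ^ r - 1)).mp (by simp [hM])
  have h1 : IsPrimitiveRoot (ζ : F) r := IsPrimitiveRoot.coe_units_iff.mpr (hζ ▸ IsPrimitiveRoot.orderOf ζ)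
  have hlin : ∀ i, ∃ j : ZMod r, f i = X - C (z ζ j) := by
    intro i
    have h2 := hd i
    rw [X_pow_sub_one_eq_prod (NeZero.pos r) h1] at h2
    obtain ⟨w, hw, hdiv⟩ := (hf2 i).prime.exists_mem_finset_dvd h2
    obtain ⟨j, rfl⟩ := z_surj ζ hζ ((Polynomial.mem_nthRootsFinset (NeZero.pos r) _).mp hw)
    exact ⟨j, eq_of_monic_of_associated (hf1 i) (monic_X_sub_C _)
      ((hf2 i).associated_of_dvd (irreducible_X_sub_C _) hdiv)⟩
  choose σ hσ using hlin
  have hdeg := hf.sum_natDegree hf1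
  rw [Finset.sum_congr rfl (g := fun _ => 1) (fun i _ => by rw [hσ i, natDegree_X_sub_C]), Finset.sum_const,
    smul_eq_mul, mul_one, Finset.card_univ] at hdeg
  let b : ZMod r → ℕ := fun j => (Finset.univ.filter fun i => σ i = j).card
  have hbs : ∑ j, b j = n := by
    rw [← hdeg, ← Finset.card_univ]
    exact (Finset.card_eq_sum_card_fiberwise fun i _ => Finset.mem_univ (σ i)).symm
  have hblt : ∀ j, b j < n := by
    intro j
    rcases (le_trans (Finset.single_le_sum (fun k _ => Nat.zero_le (b k)) (Finset.mem_univ j)) hbs.le).lt_or_eq with h | h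
    · exact h
    exfalso
    have hall : ∀ i, σ i = j := fun i => by
      have hu := Finset.eq_univ_of_card (Finset.univ.filter fun i => σ i = j) (h.trans hdeg.symm)
      have hi : i ∈ Finset.univ.filter fun i => σ i = j := by rw [hu]; exact Finset.mem_univ i
      exact (Finset.mem_filter.mp hi).2
    refine hns (z ζ j) ?_
    have h3 := (hf.aeval_eq_zero_iff (X - C (z ζ j))).mpr fun i => by rw [hσ i, hall i]
    rw [map_sub, aeval_X, aeval_C, sub_eq_zero] at h3
    rw [h3, Algebra.algebraMap_eq_smul_one]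
  refine ⟨⟨fun j => ⟨b j, hblt j⟩, hbs⟩, ?_⟩
  rw [hf.charpoly hf1, P, ← Finset.prod_fiberwise_of_maps_to (g := σ) (fun i _ => Finset.mem_univ (σ i))]
  refine Finset.prod_congr rfl fun j _ => ?_
  rw [Finset.prod_congr rfl (g := fun _ => X - C (z ζ j)) (fun i hi => by rw [hσ i, (Finset.mem_filter.mp hi).2]),
    Finset.prod_const]

theorem card_tup (hn : 1 ≤ n) (r : ℕ) [NeZero r] :
    Nat.card (Tup n r) + r = Nat.choose (n + r - 1) (r - 1) := by
  classical
  let U := {b : ZMod r → ℕ // ∑ j, b j = n}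
  have hUe : Sym (ZMod r) n ≃ U := Sym.equivNatSumOfFintype (ZMod r) n
  haveI : Finite U := Finite.of_equiv _ hUe
  have hU : Nat.card U = Nat.choose (n + r - 1) (r - 1) := by
    have hr0 := NeZero.pos r
    rw [← Nat.card_congr hUe, Nat.card_eq_fintype_card, Sym.card_sym_eq_choose, ZMod.card, Nat.add_comm r n,
      ← Nat.choose_symm (by omega : n ≤ n + r - 1)]
    congr 1
    omega
  let φ : Tup n r ⊕ ZMod r → U := Sum.elim (fun a => ⟨fun j => (a.1 j : ℕ), a.2⟩)
    (fun j => ⟨Pi.single j n, Finset.sum_pi_single' j n _ |>.trans (if_pos (Finset.mem_univ j))⟩)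
  have hφ : Function.Bijective φ := by
    constructor
    · rintro (a | j) (b | k) h <;> have h' := congrArg Subtype.val h
      · exact congrArg Sum.inl (Subtype.ext (funext fun j => Fin.ext (congrFun h' j)))
      · exfalso; have := congrFun h' k; simp [φ] at this; have := (a.1 k).isLt; omega
      · exfalso; have := congrFun h' j; simp [φ] at this; have := (b.1 j).isLt; omega
      · refine congrArg Sum.inr ?_
        by_contra hne
        have := congrFun h' j
        simp [φ, Pi.single_eq_of_ne hne] at this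
        omega
    · rintro ⟨b, hb⟩
      by_cases h : ∀ j, b j < n
      · exact ⟨.inl ⟨fun j => ⟨b j, h j⟩, hb⟩, rfl⟩
      · push Not at h
        obtain ⟨j, hj⟩ := h
        refine ⟨.inr j, Subtype.ext (funext fun k => ?_)⟩
        have hle : ∀ k, k ≠ j → b j + b k ≤ n := fun k hk => by
          rw [← Finset.sum_pair (Ne.symm hk), ← hb]
          exact Finset.sum_le_sum_of_subset (Finset.subset_univ _)
        rcases eq_or_ne k j with rfl | hk
        · have : b k ≤ n := hb ▸ Finset.single_le_sum (fun i _ => Nat.zero_le (b i)) (Finset.mem_univ k)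
          simp [φ]; omega
        · have := hle k hk
          simp [φ, Pi.single_eq_of_ne hk]; omega
  rw [← hU, ← Nat.card_congr (Equiv.ofBijective φ hφ), Nat.card_sum, Nat.card_zmod]

/-- Number of conjugacy classes of elements of prime order r in PGL_n(q) = GL_n(q)/scalars when r divides q − 1 (n ≥ 2): the classes of elements with a diagonalisable lift correspond to the orbits of the cyclic rotation on the r-tuples of eigenvalue multiplicities (a_0, …, a_(r−1)) summing to n with every a_j < n, and when r divides n there are r − 1 further classes (lifts acting irreducibly on blocks of size r); in all (C(n+r−1, r−1) − r − [r ∣ n])/r + r·[r ∣ n] classes. -/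
theorem result {F : Type*} [Field F] [Fintype F] {q : ℕ} (hF : Fintype.card F = q) {n r : ℕ} (hn : 2 ≤ n) (hr : r.Prime) (hrq : r ∣ q - 1) : Nat.card {C : ConjClasses (GL (Fin n) F ⧸ Subgroup.center (GL (Fin n) F)) // ∃ g : GL (Fin n) F ⧸ Subgroup.center (GL (Fin n) F), ConjClasses.mk g = C ∧ orderOf g = r} = (Nat.choose (n + r - 1) (r - 1) - r - (if r ∣ n then 1 else 0)) / r + r * (if r ∣ n then 1 else 0) := by
  classical
  haveI : Fact r.Prime := ⟨hr⟩
  haveI : NeZero r := ⟨hr.ne_zero⟩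
  have hn1 : 1 ≤ n := by omega
  have hq1 : 1 < q := hF ▸ Fintype.one_lt_card
  obtain ⟨γ, hγ⟩ := IsCyclic.exists_generator (α := Fˣ)
  have hordγ : orderOf γ = q - 1 := by
    rw [orderOf_eq_card_of_forall_mem_zpowers hγ, Nat.card_eq_fintype_card, Fintype.card_units, hF]
  obtain ⟨k₀, hk₀⟩ := hrq
  have hk00 : k₀ ≠ 0 := fun h => by rw [h, mul_zero] at hk₀; omega
  set ζ := γ ^ k₀ with hζdef
  have hζ : orderOf ζ = r := by
    rw [hζdef, orderOf_pow_of_dvd hk00 (hordγ ▸ hk₀ ▸ Dvd.intro_left r rfl), hordγ, hk₀,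
      Nat.mul_div_cancel _ (Nat.pos_of_ne_zero hk00)]
  have hdec : ∀ μ : Fˣ, ∃ (t : Fˣ) (i : Fin r), μ = t ^ r * γ ^ (i : ℕ) := fun μ => by
    obtain ⟨k, hk⟩ : ∃ k : ℕ, γ ^ k = μ := (isOfFinOrder_of_finite γ).mem_zpowers_iff_mem_range_orderOf.mp (hγ μ) |>
      fun h => by obtain ⟨k, -, hk⟩ := Finset.mem_image.mp h; exact ⟨k, hk⟩
    exact ⟨γ ^ (k / r), ⟨k % r, Nat.mod_lt _ hr.pos⟩, by rw [← pow_mul, ← pow_add, ← hk, Nat.div_add_mod']⟩
  have huniq : ∀ (t : Fˣ) (i j : Fin r), γ ^ (i : ℕ) = t ^ r * γ ^ (j : ℕ) → i = j := by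
    intro t i j h
    obtain ⟨k, hk, rfl⟩ := Finset.mem_image.mp ((isOfFinOrder_of_finite γ).mem_zpowers_iff_mem_range_orderOf.mp (hγ t))
    rw [← pow_mul, ← pow_add, pow_eq_pow_iff_modEq, hordγ, hk₀] at h
    have h2 : (i : ℕ) % r = (k * r + j) % r := Nat.ModEq.of_mul_right k₀ h
    rw [Nat.mul_add_mod_self_right, Nat.mod_eq_of_lt i.2, Nat.mod_eq_of_lt j.2] at h2
    exact Fin.ext h2
  have hrF : (r : F) ≠ 0 := by
    intro h0
    have h1 : ((q - 1 : ℕ) : F) = 0 := by rw [hk₀, Nat.cast_mul, h0, zero_mul]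
    rw [Nat.cast_sub hq1.le, ← hF, FiniteField.cast_card_eq_zero, Nat.cast_one, zero_sub, neg_eq_zero] at h1
    exact one_ne_zero h1
  have hqF : ((q - 1 : ℕ) : F) ≠ 0 := by
    rw [Nat.cast_sub hq1.le, ← hF, FiniteField.cast_card_eq_zero]; simp
  have hfin : ∀ (M : Matrix (Fin n) (Fin n) F) (i : ℕ), M ^ r = ((γ ^ i : Fˣ) : F) • 1 → M ^ (r * (q - 1)) = 1 := by
    intro M i h
    rw [pow_mul, h, _root_.smul_pow, one_pow, ← Units.val_pow_eq_pow_val, ← pow_mul, mul_comm i, pow_mul, ← hordγ,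
      pow_orderOf_eq_one, one_pow, Units.val_one, one_smul]
  have hrqF : ((r * (q - 1) : ℕ) : F) ≠ 0 := by rw [Nat.cast_mul]; exact mul_ne_zero hrF hqF
  -- irreducible levels
  have hirr : ∀ i : Fin r, (i : ℕ) ≠ 0 → Irreducible (X ^ r - C ((γ ^ (i : ℕ) : Fˣ) : F)) := fun i hi =>
    X_pow_sub_C_irreducible_of_prime hr fun b hb => by
      have hb0 : b ≠ 0 := fun h => Units.ne_zero _ (hb.symm.trans (by rw [h, zero_pow hr.ne_zero]))
      have := huniq (Units.mk0 b hb0) i ⟨0, hr.pos⟩ (Units.ext (by simp only [Units.val_mul, Units.val_pow_eq_pow_val, Units.val_mk0]; simpa using hb.symm))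
      exact hi (congrArg Fin.val this)
  have hlev : ∀ (i : Fin r), (i : ℕ) ≠ 0 → ∀ M : Matrix (Fin n) (Fin n) F, M ^ r = ((γ ^ (i : ℕ) : Fˣ) : F) • 1 →
      r ∣ n ∧ M.charpoly = (X ^ r - C ((γ ^ (i : ℕ) : Fˣ) : F)) ^ (n / r) := by
    intro i hi M hM
    obtain ⟨ι, hι, f, hf1, hf2, hf⟩ :=
      Cfsg.Lib.CanonicalForm.exists_form_of_pow_eq_one M _ hrqF (hfin M i hM)
    have hd := (hf.aeval_eq_zero_iff (X ^ r - C ((γ ^ (i : ℕ) : Fˣ) : F))).mp (by
      rw [map_sub, map_pow, aeval_X, aeval_C, hM, Algebra.algebraMap_eq_smul_one, sub_self])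
    have heq : ∀ x, f x = X ^ r - C ((γ ^ (i : ℕ) : Fˣ) : F) := fun x =>
      eq_of_monic_of_associated (hf1 x) (monic_X_pow_sub_C _ hr.ne_zero) ((hf2 x).associated_of_dvd (hirr i hi) (hd x))
    have hdeg := hf.sum_natDegree hf1
    rw [Finset.sum_congr rfl (g := fun _ => r) (fun x _ => by rw [heq x, natDegree_X_pow_sub_C]), Finset.sum_const,
      smul_eq_mul, Finset.card_univ] at hdeg
    refine ⟨⟨_, by rw [mul_comm]; exact hdeg.symm⟩, ?_⟩
    rw [hf.charpoly hf1, Finset.prod_congr rfl (fun x _ => heq x), Finset.prod_const, Finset.card_univ, ← hdeg,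
      Nat.mul_div_cancel _ hr.pos]
  let J := {i : Fin r // (i : ℕ) ≠ 0 ∧ r ∣ n}
  have hex : ∀ i : J, ∃ g : GL (Fin n) F, (g : Matrix (Fin n) (Fin n) F) ^ r = ((γ ^ (i.1 : ℕ) : Fˣ) : F) • 1 := by
    intro i
    obtain ⟨A, hA⟩ := Cfsg.Lib.CanonicalForm.exists_matrix (F := F) (n := n)
      (ι := ULift (Fin (n / r))) (fun _ => X ^ r - C ((γ ^ (i.1 : ℕ) : Fˣ) : F)) (fun _ => monic_X_pow_sub_C _ hr.ne_zero)
      (by rw [Finset.sum_congr rfl (g := fun _ => r) (fun x _ => natDegree_X_pow_sub_C), Finset.sum_const, smul_eq_mul,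
        Finset.card_univ, Fintype.card_ulift, Fintype.card_fin, Nat.div_mul_cancel i.2.2])
    have h1 := (hA.aeval_eq_zero_iff (X ^ r - C ((γ ^ (i.1 : ℕ) : Fˣ) : F))).mpr fun _ => dvd_rfl
    rw [map_sub, map_pow, aeval_X, aeval_C, sub_eq_zero, Algebra.algebraMap_eq_smul_one] at h1
    have hdet : A.det ≠ 0 := fun h => by
      have h2 := congrArg Matrix.det h1
      rw [Matrix.det_pow, h, zero_pow hr.ne_zero, Matrix.det_smul, Matrix.det_one, mul_one] at h2
      exact pow_ne_zero _ (Units.ne_zero _) h2.symm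
    exact ⟨Matrix.GeneralLinearGroup.mkOfDetNeZero A hdet, h1⟩
  choose Cg hCg using hex
  have hord : ∀ (g : GL (Fin n) F) (i : ℕ), (g : Matrix (Fin n) (Fin n) F) ^ r = ((γ ^ i : Fˣ) : F) • 1 →
      (∀ s : F, (g : Matrix (Fin n) (Fin n) F) ≠ s • 1) → orderOf (g : PG F n) = r := by
    intro g i hg hns
    refine orderOf_eq_prime ?_ ?_
    · rw [← QuotientGroup.mk_pow, ← QuotientGroup.mk_one, mk_eq_iff _ _ hn1]
      exact ⟨((γ ^ i : Fˣ) : F), Units.ne_zero _, by rw [Units.val_pow_eq_pow_val, hg, Units.val_one]⟩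
    · rw [← QuotientGroup.mk_one, Ne, mk_eq_iff _ _ hn1]
      rintro ⟨s, -, hs⟩
      exact hns s (by rw [hs, Units.val_one])
  have hns : ∀ i : J, ∀ s : F, (Cg i : Matrix (Fin n) (Fin n) F) ≠ s • 1 := by
    intro i s h
    have h2 := hCg i
    rw [h, _root_.smul_pow, one_pow] at h2
    have h3 := smul_one_inj hn1 h2
    have hs0 : s ≠ 0 := fun h0 => by rw [h0, zero_pow hr.ne_zero] at h3; exact Units.ne_zero _ h3.symm
    have := huniq (Units.mk0 s hs0) i.1 ⟨0, hr.pos⟩ (Units.ext (by simp only [Units.val_mul, Units.val_pow_eq_pow_val, Units.val_mk0]; simpa using h3.symm))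
    exact i.2.1 (congrArg Fin.val this)
  have hD : ∀ a : Tup n r, (D ζ a : Matrix (Fin n) (Fin n) F) ^ r = ((γ ^ (0 : ℕ) : Fˣ) : F) • 1 := fun a => by
    rw [D_pow ζ hζ, pow_zero, Units.val_one, one_smul]
  let φ₁ : Tup n r → ConjClasses (PG F n) := fun a => ConjClasses.mk (D ζ a : PG F n)
  let φ₂ : J → ConjClasses (PG F n) := fun i => ConjClasses.mk (Cg i : PG F n)
  let rot : Tup n r → ZMod r → Tup n r := fun a c => ⟨fun j => a.1 (j - c), by
    exact (Equiv.sum_comp (Equiv.subRight c) (fun j => (a.1 j : ℕ))).trans a.2⟩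
  have h11 : ∀ a b, φ₁ a = φ₁ b ↔ ∃ c, a = rot b c := by
    intro a b
    rw [show (φ₁ a = φ₁ b) = (ConjClasses.mk (D ζ a : PG F n) = ConjClasses.mk (D ζ b : PG F n)) from rfl,
      class_eq_iff _ _ hn1]
    constructor
    · rintro ⟨s, hs0, hs⟩
      have h1 := pow_eq_of_isConj hn1 hs (hD a) (hD b)
      rw [pow_zero, Units.val_one, mul_one] at h1
      obtain ⟨c, rfl⟩ := z_surj ζ hζ h1.symm
      refine ⟨c, ?_⟩
      have h2 : (D ζ a : Matrix (Fin n) (Fin n) F).charpoly = (z ζ c • (D ζ b : Matrix (Fin n) (Fin n) F)).charpoly := by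
        obtain ⟨u, hu⟩ := hs
        rw [← Matrix.charpoly_units_conj u, show (u : Matrix (Fin n) (Fin n) F) * D ζ a = _ from hu, mul_assoc,
          Matrix.mul_nonsing_inv _ ((Matrix.isUnit_iff_isUnit_det _).mp u.isUnit), mul_one]
      rw [charpoly_D ζ hζ, charpoly_smul_D ζ hζ] at h2
      exact Subtype.ext (funext fun j => Fin.ext (congrFun (P_inj ζ hζ h2) j))
    · rintro ⟨c, rfl⟩
      refine ⟨z ζ c, Units.ne_zero _, Cfsg.Lib.CanonicalForm.isConj_of_charpoly_eq r r hrF hrF (D_pow ζ hζ _)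
        (by rw [_root_.smul_pow, z_pow ζ hζ, D_pow ζ hζ, one_smul]) ?_⟩
      rw [charpoly_D ζ hζ, charpoly_smul_D ζ hζ]
  have h2inj : Function.Injective φ₂ := by
    intro i j h
    obtain ⟨s, hs0, hs⟩ := (class_eq_iff _ _ hn1).mp h
    have h1 := pow_eq_of_isConj hn1 hs (hCg i) (hCg j)
    exact Subtype.ext (huniq (Units.mk0 s hs0) _ _ (Units.ext (by simpa using h1)))
  have h12 : ∀ a i, φ₁ a ≠ φ₂ i := by
    intro a i h
    obtain ⟨s, hs0, hs⟩ := (class_eq_iff _ _ hn1).mp h
    have h1 := pow_eq_of_isConj hn1 hs (hD a) (hCg i)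
    have := huniq (Units.mk0 s hs0) ⟨0, hr.pos⟩ i.1 (Units.ext (by simpa using h1))
    exact i.2.1 (congrArg Fin.val this).symm
  have hcover : {C : ConjClasses (PG F n) | ∃ g : PG F n, ConjClasses.mk g = C ∧ orderOf g = r} =
      Set.range φ₁ ∪ Set.range φ₂ := by
    ext C
    constructor
    · rintro ⟨g, rfl, hg⟩
      obtain ⟨A, rfl⟩ := QuotientGroup.mk_surjective g
      have hAr := pow_orderOf_eq_one (A : PG F n)
      rw [hg, ← QuotientGroup.mk_pow, ← QuotientGroup.mk_one, mk_eq_iff _ _ hn1, Units.val_one,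
        Units.val_pow_eq_pow_val] at hAr
      obtain ⟨μ, hμ0, hμ⟩ := hAr
      obtain ⟨t, i, hti⟩ := hdec (Units.mk0 μ hμ0)
      have hti' : μ = (t : F) ^ r * ((γ ^ (i : ℕ) : Fˣ) : F) := by
        have := congrArg Units.val hti; simpa using this
      set M := (t : F)⁻¹ • (A : Matrix (Fin n) (Fin n) F) with hMdef
      have hM : M ^ r = ((γ ^ (i : ℕ) : Fˣ) : F) • 1 := by
        rw [hMdef, _root_.smul_pow, hμ, smul_smul, hti', inv_pow, ← mul_assoc,
          inv_mul_cancel₀ (pow_ne_zero _ t.ne_zero), one_mul]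
      have hAM : (A : Matrix (Fin n) (Fin n) F) = (t : F) • M := by rw [hMdef, smul_inv_smul₀ t.ne_zero]
      have hMns : ∀ s : F, M ≠ s • 1 := by
        intro s hs
        have : (A : PG F n) = 1 := by
          rw [← QuotientGroup.mk_one, mk_eq_iff _ _ hn1]
          refine ⟨t * s, mul_ne_zero t.ne_zero fun h0 => ?_, by rw [hAM, hs, smul_smul, Units.val_one]⟩
          rw [hs, h0, zero_smul, zero_pow hr.ne_zero] at hM
          exact Units.ne_zero _ (smul_one_inj hn1 (hM.symm.trans (zero_smul F _).symm))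
        rw [this, orderOf_one] at hg
        exact hr.ne_one hg.symm
      have key : ∀ B : GL (Fin n) F, IsConj M (B : Matrix (Fin n) (Fin n) F) →
          ConjClasses.mk (B : PG F n) = ConjClasses.mk (A : PG F n) := by
        intro B hB
        symm
        refine (class_eq_iff _ _ hn1).mpr ⟨t, t.ne_zero, ?_⟩
        obtain ⟨u, hu⟩ := hB
        refine ⟨u, ?_⟩
        show (u : Matrix (Fin n) (Fin n) F) * A = _ * (u : Matrix (Fin n) (Fin n) F)
        rw [hAM, mul_smul_comm, smul_mul_assoc, show (u : Matrix (Fin n) (Fin n) F) * M = _ from hu]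
      by_cases hi : (i : ℕ) = 0
      · rw [hi, pow_zero, Units.val_one, one_smul] at hM
        obtain ⟨a, ha⟩ := exists_tup ζ hζ hrF hM hMns
        exact Or.inl ⟨a, key _ (Cfsg.Lib.CanonicalForm.isConj_of_charpoly_eq r r hrF hrF hM (D_pow ζ hζ a)
          (by rw [ha, charpoly_D ζ hζ]))⟩
      · obtain ⟨hrn, hc⟩ := hlev i hi M hM
        exact Or.inr ⟨⟨i, hi, hrn⟩, key _ (Cfsg.Lib.CanonicalForm.isConj_of_charpoly_eq _ _ hrqF hrqF (hfin _ _ hM)
          (hfin _ _ (hCg ⟨i, hi, hrn⟩)) (by rw [hc, (hlev i hi _ (hCg ⟨i, hi, hrn⟩)).2]))⟩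
    · rintro (⟨a, rfl⟩ | ⟨i, rfl⟩)
      · exact ⟨_, rfl, hord _ 0 (hD a) (D_not_scalar ζ hζ hn1 a)⟩
      · exact ⟨_, rfl, hord _ _ (hCg i) (hns i)⟩
  show Nat.card ↥{C : ConjClasses (PG F n) | ∃ g : PG F n, ConjClasses.mk g = C ∧ orderOf g = r} = _
  rw [hcover, Nat.card_coe_set_eq, Set.ncard_union_eq (Set.disjoint_left.mpr (by
      rintro _ ⟨a, rfl⟩ ⟨i, hi⟩; exact h12 a i hi.symm)) (Set.finite_range _) (Set.finite_range _),
    ← Nat.card_coe_set_eq, ← Nat.card_coe_set_eq, Nat.card_range_of_injective h2inj]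
  -- the orbits of the rotation
  set T : Finset (ConjClasses (PG F n)) := Finset.univ.image φ₁ with hT
  have hcard1 : Nat.card (Set.range φ₁) = T.card := by
    rw [← Nat.card_eq_finsetCard]
    exact Nat.card_congr (Equiv.setCongr (by rw [hT]; simp))
  have hfib : ∀ a : Tup n r, (Finset.univ.filter fun b => φ₁ b = φ₁ a).card =
      if (∀ j, a.1 j = a.1 0) then 1 else r := by
    intro a
    have himg : (Finset.univ.filter fun b => φ₁ b = φ₁ a) = Finset.univ.image (rot a) := by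
      ext b; simp [h11, eq_comm]
    rw [himg]
    split_ifs with hc
    · rw [show rot a = fun _ => a from funext fun c => Subtype.ext (funext fun j => (hc (j - c)).trans (hc j).symm),
        Finset.image_const Finset.univ_nonempty, Finset.card_singleton]
    · rw [Finset.card_image_of_injective, Finset.card_univ, ZMod.card]
      intro c c' hcc
      by_contra hne
      refine hc fun j => ?_
      have hd0 : c' - c ≠ 0 := sub_ne_zero.mpr (Ne.symm hne)
      have hper : ∀ x, a.1 (x + (c' - c)) = a.1 x := fun x => by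
        have := congrFun (congrArg Subtype.val hcc) (x + c')
        simpa [rot, add_sub_assoc] using this
      have hk : ∀ k : ℕ, a.1 ((k : ZMod r) * (c' - c)) = a.1 0 := by
        intro k
        induction k with
        | zero => simp
        | succ k ih => rw [Nat.cast_succ, add_mul, one_mul, hper, ih]
      have := hk (j * (c' - c)⁻¹).val
      rwa [ZMod.natCast_zmod_val, inv_mul_cancel_right₀ hd0] at this
  have hconst : (Finset.univ.filter fun a : Tup n r => ∀ j, a.1 j = a.1 0).card = if r ∣ n then 1 else 0 := by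
    split_ifs with hrn
    · obtain ⟨m, hm⟩ := hrn
      have hmn : m < n := by
        have := hr.two_le
        rcases Nat.eq_zero_or_pos m with rfl | h
        · omega
        · calc m < 2 * m := by omega
            _ ≤ n := hm ▸ Nat.mul_le_mul_right m this
      refine Finset.card_eq_one.mpr ⟨⟨fun _ => ⟨m, hmn⟩, by simp [hm]⟩, ?_⟩
      ext a
      simp only [Finset.mem_filter, Finset.mem_univ, true_and, Finset.mem_singleton]
      refine ⟨fun h => Subtype.ext (funext fun j => Fin.ext ?_), fun h => by subst h; simp⟩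
      have h2 := a.2
      rw [Finset.sum_congr rfl (g := fun _ => (a.1 0 : ℕ)) (fun j _ => by rw [h j]), Finset.sum_const, Finset.card_univ,
        ZMod.card, smul_eq_mul] at h2
      rw [h j]
      exact Nat.eq_of_mul_eq_mul_left hr.pos (h2.trans hm)
    · rw [Finset.card_eq_zero, Finset.filter_eq_empty_iff]
      intro a _ h
      refine hrn ⟨(a.1 0 : ℕ), ?_⟩
      have h2 := a.2
      rw [Finset.sum_congr rfl (g := fun _ => (a.1 0 : ℕ)) (fun j _ => by rw [h j]), Finset.sum_const, Finset.card_univ,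
        ZMod.card, smul_eq_mul] at h2
      exact h2.symm
  set ε := if r ∣ n then 1 else 0 with hε
  have hJ : Nat.card J = (r - 1) * ε := by
    rw [hε]
    split_ifs with hrn
    · rw [mul_one]
      have : Nat.card J = (Finset.univ.filter fun i : Fin r => i ≠ (⟨0, hr.pos⟩ : Fin r)).card := by
        rw [← Nat.card_eq_finsetCard]
        exact Nat.card_congr (Equiv.subtypeEquivRight fun i => by
          rw [Finset.mem_filter]
          exact ⟨fun h => ⟨Finset.mem_univ _, fun he => h.1 (congrArg Fin.val he)⟩,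
            fun h => ⟨fun he => h.2 (Fin.ext he), hrn⟩⟩)
      rw [this, Finset.filter_ne', Finset.card_erase_of_mem (Finset.mem_univ _), Finset.card_univ, Fintype.card_fin]
    · rw [mul_zero]
      haveI : IsEmpty J := ⟨fun i => hrn i.2.2⟩
      exact Nat.card_of_isEmpty
  have hkey : (Finset.univ : Finset (Tup n r)).card + (r - 1) * ε = r * T.card := by
    have hcnt := Finset.card_eq_sum_card_fiberwise (s := (Finset.univ : Finset (Tup n r))) (t := T) (f := φ₁)
      fun a _ => Finset.mem_image_of_mem _ (Finset.mem_univ a)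
    have himg2 : ((Finset.univ.filter fun a : Tup n r => ∀ j, a.1 j = a.1 0).image φ₁).card = ε := by
      rw [Finset.card_image_of_injOn, hconst]
      intro a ha b hb h
      obtain ⟨c, hc⟩ := (h11 a b).mp h
      rw [hc]
      refine Subtype.ext (funext fun j => ?_)
      have hb' := (Finset.mem_filter.mp hb).2
      exact (hb' (j - c)).trans (hb' j).symm
    rw [hcnt, ← himg2, Finset.card_eq_sum_ones ((Finset.univ.filter fun a : Tup n r => ∀ j, a.1 j = a.1 0).image φ₁),
      Finset.mul_sum, ← Finset.sum_filter_add_sum_filter_not T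
        (fun C => C ∈ (Finset.univ.filter fun a : Tup n r => ∀ j, a.1 j = a.1 0).image φ₁),
      show T.filter (fun C => C ∈ (Finset.univ.filter fun a : Tup n r => ∀ j, a.1 j = a.1 0).image φ₁) =
        (Finset.univ.filter fun a : Tup n r => ∀ j, a.1 j = a.1 0).image φ₁ from by
        ext C; simp only [Finset.mem_filter, hT, Finset.mem_image, Finset.mem_univ, true_and]
        exact ⟨fun h => h.2, fun h => ⟨h.imp fun a ha => ha.2, h⟩⟩,
      add_right_comm, ← Finset.sum_add_distrib, mul_comm r, ← smul_eq_mul T.card r, ← Finset.sum_const,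
      ← Finset.sum_filter_add_sum_filter_not T
        (fun C => C ∈ (Finset.univ.filter fun a : Tup n r => ∀ j, a.1 j = a.1 0).image φ₁) (fun _ => r),
      show T.filter (fun C => C ∈ (Finset.univ.filter fun a : Tup n r => ∀ j, a.1 j = a.1 0).image φ₁) =
        (Finset.univ.filter fun a : Tup n r => ∀ j, a.1 j = a.1 0).image φ₁ from by
        ext C; simp only [Finset.mem_filter, hT, Finset.mem_image, Finset.mem_univ, true_and]
        exact ⟨fun h => h.2, fun h => ⟨h.imp fun a ha => ha.2, h⟩⟩]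
    congr 1
    · refine Finset.sum_congr rfl fun C hC => ?_
      obtain ⟨a, ha, rfl⟩ := Finset.mem_image.mp hC
      have := hr.one_le
      rw [hfib, if_pos (Finset.mem_filter.mp ha).2]
      omega
    · refine Finset.sum_congr rfl fun C hC => ?_
      obtain ⟨hC1, hC2⟩ := Finset.mem_filter.mp hC
      obtain ⟨a, -, rfl⟩ := Finset.mem_image.mp hC1
      rw [hfib, if_neg]
      exact fun h => hC2 (Finset.mem_image_of_mem _ (Finset.mem_filter.mpr ⟨Finset.mem_univ _, h⟩))
  have hTr := card_tup hn1 r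
  rw [Nat.card_eq_fintype_card, ← Finset.card_univ] at hTr
  have hεT : ε ≤ T.card := by
    rw [hε]
    split_ifs with hrn
    · rw [hε, if_pos hrn] at hconst
      obtain ⟨a, ha⟩ := Finset.card_pos.mp (by omega : 0 < (Finset.univ.filter fun a : Tup n r => ∀ j, a.1 j = a.1 0).card)
      exact Finset.card_pos.mpr ⟨_, Finset.mem_image_of_mem φ₁ (Finset.mem_univ a)⟩
    · exact Nat.zero_le _
  rw [hcard1, hJ, ← hTr]
  obtain ⟨d, hd⟩ : ∃ d, T.card = ε + d := ⟨T.card - ε, by omega⟩
  have h1r : (r - 1) * ε + ε = r * ε := by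
    rw [← Nat.succ_mul, Nat.succ_eq_add_one, Nat.sub_add_cancel hr.one_le]
  have hX : (Finset.univ : Finset (Tup n r)).card + r - r - ε = r * d := by
    rw [hd, mul_add] at hkey
    omega
  rw [hX, Nat.mul_div_cancel_left _ hr.pos, hd]
  omega

end Cfsg.Agent.S2670
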