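import Cfsg.Statements.S2671
import Cfsg.Agent.Lib.Linear.PrimeClasses.LinearReal
import Cfsg.Agent.S2587
import Cfsg.Agent.S2588
import Cfsg.Agent.Lib.Linear.SemisimpleClasses

set_option linter.style.haveILetI false

set_option autoImplicit false
open Cfsg

namespace Cfsg.Agent.S2671

open Polynomial
open scoped Matrix
open Cfsg.Agent.Lib.Linear.PrimeClasses

theorem orderOf_neg_mod4 {r : ℕ} [Fact r.Prime] (hr2 : r ≠ 2) {u : (ZMod r)ˣ} {i : ℕ} (hi : orderOf u = i)
    (he : Even i) : orderOf (-u) = if i % 4 = 2 then i / 2 else i := by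
  obtain ⟨k, hk⟩ := he
  have hk2 : i / 2 = k := by omega
  have hpos : 0 < i := hi ▸ orderOf_pos u
  have h1 : (-1 : (ZMod r)ˣ) = u ^ k := by
    rw [← hk2, ← hi]; exact neg_one_mem_of_even (by rw [hi]; exact ⟨k, hk⟩)
  have hne : (-1 : (ZMod r)ˣ) ≠ 1 := by
    intro h
    have h' := congrArg (fun x : (ZMod r)ˣ => (x : ZMod r)) h
    simp only [Units.val_neg, Units.val_one] at h'
    exact neg_ne_self hr2 one_ne_zero h'
  have hdvd : k ∣ orderOf (-u) := by
    have hs : u ^ (2 * orderOf (-u)) = 1 := by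
      rw [pow_mul, ← neg_sq, ← pow_mul, mul_comm, pow_mul, pow_orderOf_eq_one, one_pow]
    have := orderOf_dvd_of_pow_eq_one hs
    rw [hi, hk, ← two_mul] at this
    exact Nat.dvd_of_mul_dvd_mul_left two_pos this
  have hle : orderOf (-u) ∣ i := orderOf_dvd_of_pow_eq_one (by
    rw [Even.neg_pow ⟨k, hk⟩, ← hi, pow_orderOf_eq_one])
  obtain ⟨e, he⟩ := hdvd
  have he2 : e = 1 ∨ e = 2 := by
    have h2 : e ∣ 2 := by
      rw [he, hk, ← two_mul, mul_comm 2 k] at hle
      exact Nat.dvd_of_mul_dvd_mul_left (by omega) hle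
    exact (Nat.dvd_prime Nat.prime_two).mp h2
  have hk1 : (-u) ^ k = if i % 4 = 2 then 1 else -1 := by
    rcases Nat.even_or_odd k with hke | hko
    · have : i % 4 ≠ 2 := by obtain ⟨l, hl⟩ := hke; omega
      rw [if_neg this, hke.neg_pow, ← h1]
    · have : i % 4 = 2 := by obtain ⟨l, hl⟩ := hko; omega
      rw [if_pos this, hko.neg_pow, ← h1, neg_neg]
  rcases he2 with rfl | rfl
  · rw [mul_one] at he
    have := pow_orderOf_eq_one (-u)
    rw [he, hk1] at this
    by_cases h4 : i % 4 = 2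
    · rw [if_pos h4, he, hk2]
    · rw [if_neg h4] at this; exact absurd this hne
  · by_cases h4 : i % 4 = 2
    · rw [if_pos h4] at hk1
      have := Nat.le_of_dvd (by omega) (orderOf_dvd_of_pow_eq_one hk1)
      omega
    · rw [if_neg h4, he]; omega

theorem main {K : Type*} [Field K] [Fintype K] {p q n r i b s : ℕ} [Fact p.Prime] [CharP K p] (hK : Fintype.card K = q ^ 2) (hr : r.Prime) (hr2 : r ≠ 2) (hrp : r ≠ p) (hi : i = orderOf (q : ZMod r)) (hi2 : i ≠ 2) (hb : b = if Odd i then i else i / 2) (hs : s * b = r - 1) : Nat.card {C : ConjClasses ↥(Cfsg.GU n K q) // ∃ g : ↥(Cfsg.GU n K q), ConjClasses.mk g = C ∧ orderOf g = r} = if i % 4 = 2 then Nat.choose (2 * n / i + s) s - 1 else Nat.choose (n / (2 * b) + s / 2) (s / 2) - 1 := by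
  classical
  haveI : Fact r.Prime := ⟨hr⟩
  let L := AlgebraicClosure K
  haveI : CharP L p := charP_of_injective_algebraMap (algebraMap K L).injective p
  obtain ⟨kq, hkq⟩ : ∃ k, q = p ^ k := by
    obtain ⟨N, -, hN⟩ := FiniteField.card K p
    have : q ∣ p ^ (N : ℕ) := by rw [← hN, hK]; exact dvd_pow_self q two_ne_zero
    obtain ⟨k, -, hk⟩ := (Nat.dvd_prime_pow Fact.out).mp this
    exact ⟨k, hk⟩
  have hrL : (r : L) ≠ 0 := fun h =>
    hrp ((Nat.prime_dvd_prime_iff_eq Fact.out hr).mp ((CharP.cast_eq_zero_iff L p r).mp h)).symm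
  have hrF : (r : K) ≠ 0 := fun h => hrL (by rw [← map_natCast (algebraMap K L), h, map_zero])
  haveI : NeZero (r : L) := ⟨hrL⟩
  obtain ⟨ζ, hζ⟩ := HasEnoughRootsOfUnity.exists_primitiveRoot L r
  have hpc : (q : ZMod r) ≠ 0 := by
    intro h
    rw [hkq, ZMod.natCast_eq_zero_iff] at h
    exact hrp ((Nat.prime_dvd_prime_iff_eq hr Fact.out).mp (hr.dvd_of_dvd_pow h))
  let u : (ZMod r)ˣ := Units.mk0 _ hpc
  let uQ : (ZMod r)ˣ := u ^ 2
  have huQ : (uQ : ZMod r) = (Fintype.card K : ZMod r) := by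
    show ((u ^ 2 : (ZMod r)ˣ) : ZMod r) = _
    rw [Units.val_pow_eq_pow_val, hK, Nat.cast_pow]; rfl
  have hiu : orderOf u = i := by rw [hi, ← orderOf_units]; rfl
  let w : (ZMod r)ˣ := -u
  have hwq : ∃ k : ℕ, uQ = w ^ k := ⟨2, (neg_sq u).symm⟩
  let φ : L →+* L := iterateFrobenius L p kq
  have hφ : ∀ x, φ x = x ^ q := fun x => by rw [iterateFrobenius_def, ← hkq]
  let σ : K →+* K := iterateFrobenius K p kq
  have hσ : ∀ x, σ x = x ^ q := fun x => by rw [iterateFrobenius_def, ← hkq]
  have hφσ : φ.comp (algebraMap K L) = (algebraMap K L).comp σ := RingHom.ext fun x => by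
    rw [RingHom.comp_apply, RingHom.comp_apply, hφ, hσ, map_pow]
  let ρ : ↥(Cfsg.GU n K q) →* Matrix (Fin n) (Fin n) K :=
    (Units.coeHom _).comp (Cfsg.GU n K q).subtype
  -- the characteristic polynomial of the twisted inverse transpose
  have htw : ∀ (A : GL (Fin n) K), A ^ r = 1 → ∀ f : ZMod r → ℕ,
      (A : Matrix (Fin n) (Fin n) K).charpoly.map (algebraMap K L) = Pm ζ f →
      (((A : Matrix (Fin n) (Fin n) K).map (fun x : K => x ^ q)).transpose)⁻¹ ^ r = 1 ∧
      ((((A : Matrix (Fin n) (Fin n) K).map (fun x : K => x ^ q)).transpose)⁻¹).charpoly.map (algebraMap K L) =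
        Pm ζ (fun x => f (((u⁻¹ : (ZMod r)ˣ) : ZMod r) * -x)) := by
    intro A hA f hf
    have hMσ : ((A : Matrix (Fin n) (Fin n) K).map (fun x : K => x ^ q)) =
        σ.mapMatrix (A : Matrix (Fin n) (Fin n) K) := by
      ext a b; simp [hσ]
    set M := ((A : Matrix (Fin n) (Fin n) K).map (fun x : K => x ^ q)).transpose with hM
    have hAr : (A : Matrix (Fin n) (Fin n) K) ^ r = 1 := by rw [← Units.val_pow_eq_pow_val, hA, Units.val_one]
    have hMr : M ^ r = 1 := by
      rw [hM, ← Matrix.transpose_pow, hMσ, ← map_pow, hAr, map_one, Matrix.transpose_one]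
    have hMdet : IsUnit M.det := (Matrix.isUnit_iff_isUnit_det M).mp
      (IsUnit.of_mul_eq_one (M ^ (r - 1)) (by rw [← pow_succ', Nat.sub_add_cancel hr.one_le, hMr]))
    have hMi : M⁻¹ ^ r = 1 := by rw [Matrix.inv_pow', hMr, inv_one]
    refine ⟨hMi, ?_⟩
    have hMc : (M.map (algebraMap K L)).charpoly = Pm ζ (fun x => f (((u⁻¹ : (ZMod r)ˣ) : ZMod r) * x)) := by
      rw [Matrix.charpoly_map, hM, Matrix.charpoly_transpose, hMσ, RingHom.mapMatrix_apply, Matrix.charpoly_map,
        Polynomial.map_map, ← hφσ, ← Polynomial.map_map, hf,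
        Pm_map φ hζ u (by rw [hφ]; exact (zp_natCast hζ q).symm)]
    rw [← Matrix.charpoly_map]
    exact charpoly_inv hζ hrL (M.map (algebraMap K L)) (M⁻¹.map (algebraMap K L))
      (by rw [← RingHom.mapMatrix_apply, ← map_pow, hMr, map_one])
      (by rw [← Matrix.map_mul, Matrix.mul_nonsing_inv M hMdet, Matrix.map_one _ (map_zero _) (map_one _)]) _ hMc
  have hinvw : ∀ {f : ZMod r → ℕ}, (∀ x, f ((w : ZMod r) * x) = f x) →
      (fun x => f (((u⁻¹ : (ZMod r)ˣ) : ZMod r) * -x)) = f := fun {f} h => funext fun x => by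
    conv_lhs => rw [← h]
    congr 1
    show (w : ZMod r) * _ = x
    rw [show (w : ZMod r) = -(u : ZMod r) from Units.val_neg _, neg_mul, Units.mul_inv_cancel_left, neg_neg]
  have hcard := card_classes (F := K) (L := L) hζ ρ w (fun _ => True)
    (fun a b ha hb hab => ?_) (fun a ha f hf hfs => ⟨⟨hfs, ?_⟩, trivial⟩) (fun f hf _ => ?_)
  · rw [hcard, Nat.card_congr (Equiv.subtypeEquivRight (q := Inv w n) fun f => by simp)]
    by_cases hodd : Odd i
    · have h4 : i % 4 ≠ 2 := by rcases hodd with ⟨k, hk⟩; omega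
      rw [if_neg h4]
      rw [if_pos hodd] at hb
      have hwo : orderOf w = 2 * b := by
        show orderOf (-u) = _
        rw [orderOf_neg_of_odd hr2 (hiu.symm ▸ hodd), hiu, hb]
      have hse : 2 ∣ s := by
        have hev : Even (r - 1) := hr.even_sub_one hr2
        rw [← hs, Nat.even_mul] at hev
        rcases hev with h | h
        · exact even_iff_two_dvd.mp h
        · exact absurd h (Nat.not_even_iff_odd.mpr (hb ▸ hodd))
      obtain ⟨s', rfl⟩ := hse
      rw [card_inv w n (s := s') (by rw [hwo, ← hs]; ring), hwo, Nat.mul_div_cancel_left _ two_pos]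
    · rw [if_neg hodd] at hb
      have hev : Even i := Nat.not_odd_iff_even.mp hodd
      obtain ⟨k, hk⟩ := hev
      have hwo := orderOf_neg_mod4 hr2 hiu ⟨k, hk⟩
      by_cases h4 : i % 4 = 2
      · rw [if_pos h4] at hwo ⊢
        rw [card_inv w n (s := s) (by show s * orderOf (-u) = _; rw [hwo, ← hb, hs]), show orderOf w = i / 2 from hwo]
        have h2 : 2 * n / i = n / (i / 2) := by
          conv_lhs => rw [show i = 2 * (i / 2) by omega]
          rw [Nat.mul_div_mul_left _ _ two_pos]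
        rw [h2]
      · rw [if_neg h4] at hwo ⊢
        have hse : 2 ∣ s := by
          have hev : Even (r - 1) := hr.even_sub_one hr2
          have h1 : orderOf u ∣ r - 1 := ZMod.card_units r ▸ orderOf_dvd_card
          rw [hiu, ← hs, show i = 2 * b by omega] at h1
          exact Nat.dvd_of_mul_dvd_mul_right (by have := hiu ▸ orderOf_pos u; omega) h1
        obtain ⟨s', rfl⟩ := hse
        rw [card_inv w n (s := s') (by show s' * orderOf (-u) = _; rw [hwo, ← hs, show i = 2 * b by omega]; ring),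
          show orderOf w = i from hwo, Nat.mul_div_cancel_left _ two_pos, show 2 * b = i by omega]
  · refine (Cfsg.Agent.S2587.result hK a b).mpr (Cfsg.Agent.Lib.Linear.SemisimpleClasses.isConj_units_of_isConj _ _
      (Cfsg.Lib.CanonicalForm.isConj_of_charpoly_eq r r hrF hrF ?_ ?_ hab))
    · rw [← Units.val_pow_eq_pow_val, ← SubmonoidClass.coe_pow, ha]; rfl
    · rw [← Units.val_pow_eq_pow_val, ← SubmonoidClass.coe_pow, hb]; rfl
  · have hc := (Cfsg.Agent.S2588.result hK (a : GL (Fin n) K)).mp ⟨a, IsConj.refl _⟩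
    have h1 := Cfsg.Agent.Lib.Linear.SemisimpleClasses.charpoly_eq_of_isConj hc
    obtain ⟨-, h2⟩ := htw (a : GL (Fin n) K) (by rw [← SubmonoidClass.coe_pow, ha]; rfl) f hf
    have h3 : f = _ := Pm_inj hζ ((hf.symm.trans (congrArg (Polynomial.map (algebraMap K L)) h1)).trans h2)
    intro x
    conv_lhs => rw [h3]
    show f (((u⁻¹ : (ZMod r)ˣ) : ZMod r) * -((w : ZMod r) * x)) = f x
    rw [show (w : ZMod r) = -(u : ZMod r) from Units.val_neg _, neg_mul, neg_neg, Units.inv_mul_cancel_left]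
  · obtain ⟨A, hA, hAp⟩ := exists_linear hζ huQ w hwq hf
    let Au : GL (Fin n) K := Units.mk A (A ^ (r - 1))
      (by rw [← pow_succ', Nat.sub_add_cancel hr.one_le, hA])
      (by rw [← pow_succ, Nat.sub_add_cancel hr.one_le, hA])
    have hAu : Au ^ r = 1 := Units.ext hA
    obtain ⟨h1, h2⟩ := htw Au hAu f hAp
    rw [hinvw hf.2] at h2
    obtain ⟨B, hB⟩ := (Cfsg.Agent.S2588.result hK Au).mpr
      (Cfsg.Lib.CanonicalForm.isConj_of_charpoly_eq r r hrF hrF hA h1
        (Polynomial.map_injective _ (algebraMap K L).injective (hAp.trans h2.symm)))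
    obtain ⟨c, hc⟩ := isConj_iff.mp hB
    refine ⟨B, Subtype.ext ?_, ?_⟩
    · rw [SubmonoidClass.coe_pow, ← hc, conj_pow, hAu, mul_one, mul_inv_cancel]; rfl
    · show ((B : GL (Fin n) K) : Matrix (Fin n) (Fin n) K).charpoly.map _ = _
      rw [← hc, Units.val_mul, Units.val_mul, Matrix.coe_units_inv, Matrix.charpoly_units_conj]
      exact hAp

/-- Number of conjugacy classes of elements of odd prime order r in the general unitary group GU_n(q), for r not dividing q(q + 1): let i be the multiplicative order of q modulo r, b = i if i is odd and b = i/2 if i is even, and s = (r − 1)/b. If i ≢ 2 (mod 4) the eigenvalue orbits pair off into dual pairs of totally isotropic blocks and there are C(⌊n/(2b)⌋ + s/2, s/2) − 1 classes; if i ≡ 2 (mod 4) each orbit gives a non-degenerate block of dimension i/2 and there are C(⌊2n/i⌋ + s, s) − 1 classes. -/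
theorem result {K : Type*} [Field K] [Fintype K] {p q n r i b s : ℕ} [Fact p.Prime] [CharP K p] (hK : Fintype.card K = q ^ 2) (hr : r.Prime) (hr2 : r ≠ 2) (hrp : r ≠ p) (hi : i = orderOf (q : ZMod r)) (hi2 : i ≠ 2) (hb : b = if Odd i then i else i / 2) (hs : s * b = r - 1) : Nat.card {C : ConjClasses ↥(Cfsg.GU n K q) // ∃ g : ↥(Cfsg.GU n K q), ConjClasses.mk g = C ∧ orderOf g = r} = if i % 4 = 2 then Nat.choose (2 * n / i + s) s - 1 else Nat.choose (n / (2 * b) + s / 2) (s / 2) - 1 := by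
  exact main hK hr hr2 hrp hi hi2 hb hs

end Cfsg.Agent.S2671
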