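import Cfsg.Statements.S2672
import Cfsg.Agent.S2587
import Cfsg.Agent.S2588
import Cfsg.Agent.S2670
import Cfsg.Agent.Lib.Linear.UnitaryCenter
import Cfsg.Agent.Lib.Linear.SemisimpleClasses

set_option linter.style.haveILetI false

set_option autoImplicit false
open Cfsg

namespace Cfsg.Agent.S2672

open Polynomial
open scoped Matrix
open Cfsg.Agent.Lib.Linear.SemisimpleClasses

universe u

variable {K : Type u} [Field K] [Fintype K] {q n r : ℕ}


theorem val_scalar' (s : Kˣ) :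
    ((Matrix.GeneralLinearGroup.scalar (Fin n) s : GL (Fin n) K) : Matrix (Fin n) (Fin n) K) =
      (s : K) • 1 := by
  rw [Cfsg.Agent.S2670.val_scalar, Matrix.smul_one_eq_diagonal]

theorem scalar_norm (hn : 1 ≤ n) {s : Kˣ}
    (h : Matrix.GeneralLinearGroup.scalar (Fin n) s ∈ Cfsg.GU n K q) : (s : K) ^ (q + 1) = 1 := by
  have h2 := Cfsg.Lib.Linear.Herm.mem_GU.mp h (Pi.single ⟨0, hn⟩ 1) (Pi.single ⟨0, hn⟩ 1)
  simp only [Cfsg.hermForm, Cfsg.Agent.S2670.val_scalar, Matrix.mulVec_diagonal] at h2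
  rw [Finset.sum_eq_single ⟨0, hn⟩ (fun b _ hb => by simp [hb]) (by simp),
    Finset.sum_eq_single ⟨0, hn⟩ (fun b _ hb => by simp [hb]) (by simp)] at h2
  simp only [Pi.single_eq_same, mul_one, one_pow] at h2
  rw [pow_succ', h2]

theorem mem_center_iff' (hK : Fintype.card K = q ^ 2) (hn : 2 ≤ n) (a : ↥(Cfsg.GU n K q)) :
    a ∈ Subgroup.center ↥(Cfsg.GU n K q) ↔ (a : GL (Fin n) K) ∈ Subgroup.center (GL (Fin n) K) := by
  constructor
  · intro ha
    obtain ⟨c, hc⟩ := Cfsg.Lib.Linear.Herm.exists_scalar hK hn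
      ((a : GL (Fin n) K) : Matrix (Fin n) (Fin n) K) (fun A hA => by
        have hA' : Matrix.SpecialLinearGroup.toGL A ∈ Cfsg.GU n K q :=
          Cfsg.Lib.Linear.Herm.mem_GU.mpr (Cfsg.Lib.Linear.Herm.mem_SU.mp hA)
        exact congrArg (fun x : ↥(Cfsg.GU n K q) => ((x : GL (Fin n) K) : Matrix (Fin n) (Fin n) K))
          (Subgroup.mem_center_iff.mp ha ⟨_, hA'⟩))
    refine Subgroup.mem_center_iff.mpr fun g => Units.ext ?_
    rw [Units.val_mul, Units.val_mul, hc, Matrix.scalar_apply, ← Matrix.smul_one_eq_diagonal, mul_smul_comm,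
      smul_mul_assoc, one_mul, mul_one]
  · exact fun h => Subgroup.mem_center_iff.mpr fun g => Subtype.ext (Subgroup.mem_center_iff.mp h _)

theorem isConj_twist {A B : Matrix (Fin n) (Fin n) K} (h : IsConj A B) (hB : IsUnit B) {σ : K →+* K} :
    IsConj ((A.map σ).transpose)⁻¹ ((B.map σ).transpose)⁻¹ := by
  obtain ⟨c, hc⟩ := h
  have hc' : (c : Matrix (Fin n) (Fin n) K) * A = B * c := hc
  have hA : IsUnit A := by
    have : A = (↑c⁻¹ : Matrix (Fin n) (Fin n) K) * B * c := by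
      rw [mul_assoc, ← hc', ← mul_assoc, Units.inv_mul, one_mul]
    rw [this]
    exact (c⁻¹.isUnit.mul hB).mul c.isUnit
  let T : (Matrix (Fin n) (Fin n) K)ˣ :=
    { val := ((c : Matrix (Fin n) (Fin n) K).map σ).transpose
      inv := ((↑c⁻¹ : Matrix (Fin n) (Fin n) K).map σ).transpose
      val_inv := by rw [← Matrix.transpose_mul, ← Matrix.map_mul, Units.inv_mul, Matrix.map_one _ (map_zero _) (map_one _), Matrix.transpose_one]
      inv_val := by rw [← Matrix.transpose_mul, ← Matrix.map_mul, Units.mul_inv, Matrix.map_one _ (map_zero _) (map_one _), Matrix.transpose_one] }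
  have h2 : (A.map σ).transpose * (T : Matrix (Fin n) (Fin n) K) = T * (B.map σ).transpose := by
    show (A.map σ).transpose * ((c : Matrix (Fin n) (Fin n) K).map σ).transpose = _ * _
    rw [← Matrix.transpose_mul, ← Matrix.map_mul, hc', Matrix.map_mul, Matrix.transpose_mul]
  have hu : ∀ M : Matrix (Fin n) (Fin n) K, IsUnit M → IsUnit (M.map σ).transpose.det := fun M hM => by
    rw [Matrix.det_transpose, ← RingHom.mapMatrix_apply, ← RingHom.map_det]
    exact ((Matrix.isUnit_iff_isUnit_det M).mp hM).map σ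
  refine ⟨T⁻¹, ?_⟩
  set Ti : Matrix (Fin n) (Fin n) K := ((T⁻¹ : (Matrix (Fin n) (Fin n) K)ˣ) : Matrix (Fin n) (Fin n) K) with hTi
  show Ti * _ = _ * Ti
  have h3 : Ti * (A.map σ).transpose = (B.map σ).transpose * Ti := by
    calc Ti * (A.map σ).transpose
        = Ti * ((A.map σ).transpose * (T : Matrix (Fin n) (Fin n) K)) * Ti := by rw [hTi, mul_assoc, mul_assoc, Units.mul_inv, mul_one]
      _ = _ := by rw [h2, hTi, ← mul_assoc, Units.inv_mul, one_mul]
  calc Ti * (A.map σ).transpose⁻¹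
      = (B.map σ).transpose⁻¹ * ((B.map σ).transpose * Ti) * (A.map σ).transpose⁻¹ := by
        rw [← mul_assoc, Matrix.nonsing_inv_mul _ (hu B hB), one_mul]
    _ = _ := by rw [← h3, mul_assoc, mul_assoc, Matrix.mul_nonsing_inv _ (hu A hA), mul_one]

/-- An `r`-th root of a norm-one scalar, or an irreducible binomial. -/
theorem exists_unitary_conj (hK : Fintype.card K = q ^ 2) (hn : 1 ≤ n) (hr : r.Prime) (hr2 : r ≠ 2) (hrq : r ∣ q + 1)
    {σ : K →+* K} (hσ : ∀ x, σ x = x ^ q) (A : GL (Fin n) K) (μ : K) (hμ : μ ^ (q + 1) = 1)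
    (hA : (A : Matrix (Fin n) (Fin n) K) ^ r = μ • 1) (hns : ∀ s : K, (A : Matrix (Fin n) (Fin n) K) ≠ s • 1) :
    ∃ B : ↥(Cfsg.GU n K q), IsConj A (B : GL (Fin n) K) := by
  classical
  haveI : Fact r.Prime := ⟨hr⟩
  haveI : NeZero r := ⟨hr.ne_zero⟩
  have hq2 := Cfsg.Lib.Linear.Herm.two_le_q hK
  have hqr : ¬ r ∣ q - 1 := fun h => hr2 ((Nat.prime_dvd_prime_iff_eq hr Nat.prime_two).mp (by
    have := Nat.dvd_sub hrq h
    rwa [show q + 1 - (q - 1) = 2 by omega] at this))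
  obtain ⟨k₀, hk₀⟩ : r ∣ Fintype.card Kˣ := by
    rw [Fintype.card_units, hK, show q ^ 2 - 1 = (q + 1) * (q - 1) from Nat.sq_sub_sq q 1]
    exact dvd_mul_of_dvd_left hrq _
  have hrK : (r : K) ≠ 0 := by
    intro h
    have h1 : ((Fintype.card Kˣ : ℕ) : K) = 0 := by rw [hk₀, Nat.cast_mul, h, zero_mul]
    rw [Fintype.card_units, Nat.cast_sub Fintype.card_pos, FiniteField.cast_card_eq_zero] at h1
    simp at h1
  have hμ0 : μ ≠ 0 := fun h => by rw [h, zero_pow (by omega)] at hμ; exact zero_ne_one hμ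
  by_cases hν : ∃ ν : K, ν ^ r = μ
  · obtain ⟨ν, hν⟩ := hν
    have hν0 : ν ≠ 0 := fun h => hμ0 (by rw [← hν, h, zero_pow hr.ne_zero])
    have hν1 : ν ^ (q + 1) = 1 := by
      have h1 : (ν ^ (q + 1)) ^ r = 1 := by rw [← pow_mul, mul_comm, pow_mul, hν, hμ]
      have h2 : (ν ^ (q + 1)) ^ (q - 1) = 1 := by
        rw [← pow_mul, ← Nat.sq_sub_sq q 1, one_pow, ← hK]
        exact FiniteField.pow_card_sub_one_eq_one ν hν0
      have h := pow_gcd_eq_one.mpr ⟨h1, h2⟩
      rwa [Nat.Coprime.gcd_eq_one ((Nat.Prime.coprime_iff_not_dvd hr).mpr hqr), pow_one] at h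
    set M := ν⁻¹ • (A : Matrix (Fin n) (Fin n) K) with hMdef
    have hM : M ^ r = 1 := by
      rw [hMdef, _root_.smul_pow, hA, smul_smul, inv_pow, hν, inv_mul_cancel₀ hμ0, one_smul]
    have hAM : (A : Matrix (Fin n) (Fin n) K) = ν • M := by rw [hMdef, smul_inv_smul₀ hν0]
    obtain ⟨γ, hγ⟩ := IsCyclic.exists_generator (α := Kˣ)
    have hordγ : orderOf γ = Fintype.card Kˣ := by
      rw [orderOf_eq_card_of_forall_mem_zpowers hγ, Nat.card_eq_fintype_card]
    have hk00 : k₀ ≠ 0 := fun h => by rw [h, mul_zero] at hk₀; exact Fintype.card_ne_zero hk₀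
    set ζ := γ ^ k₀
    have hζ : orderOf ζ = r := by
      rw [orderOf_pow_of_dvd hk00 (hordγ ▸ hk₀ ▸ Dvd.intro_left r rfl), hordγ, hk₀,
        Nat.mul_div_cancel _ (Nat.pos_of_ne_zero hk00)]
    obtain ⟨a, ha⟩ := Cfsg.Agent.S2670.exists_tup ζ hζ hrK hM (fun s hs => hns (ν * s) (by rw [hAM, hs, smul_smul]))
    have hmem : Matrix.GeneralLinearGroup.scalar (Fin n) (Units.mk0 ν hν0) * Cfsg.Agent.S2670.D ζ a ∈ Cfsg.GU n K q := by
      refine mul_mem (Cfsg.Lib.Linear.Herm.scalar_mem_GU hν1) (Cfsg.Lib.Linear.Herm.mem_GU.mpr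
        (Cfsg.Lib.Linear.Herm.hermForm_diagonal _ fun i => ?_))
      obtain ⟨k, hk⟩ := hrq
      rw [hk, pow_mul, Cfsg.Agent.S2670.z_pow ζ hζ, one_pow]
    refine ⟨⟨_, hmem⟩, isConj_units_of_isConj _ _ ?_⟩
    show IsConj _ ((Matrix.GeneralLinearGroup.scalar (Fin n) (Units.mk0 ν hν0) * Cfsg.Agent.S2670.D ζ a :
      GL (Fin n) K) : Matrix (Fin n) (Fin n) K)
    rw [Units.val_mul, val_scalar', smul_mul_assoc, one_mul, hAM, Units.val_mk0]
    obtain ⟨c, hc⟩ := Cfsg.Lib.CanonicalForm.isConj_of_charpoly_eq r r hrK hrK hM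
      (Cfsg.Agent.S2670.D_pow ζ hζ a) (by rw [ha, Cfsg.Agent.S2670.charpoly_D ζ hζ])
    exact ⟨c, show _ = _ by rw [mul_smul_comm, smul_mul_assoc]; exact congrArg (ν • ·) hc⟩
  · have hirr : Irreducible (X ^ r - C μ) := X_pow_sub_C_irreducible_of_prime hr fun b hb => hν ⟨b, hb⟩
    set N := r * Fintype.card Kˣ with hN
    have hNK : (N : K) ≠ 0 := by
      rw [hN, Nat.cast_mul]
      refine mul_ne_zero hrK ?_
      rw [Fintype.card_units, Nat.cast_sub Fintype.card_pos, FiniteField.cast_card_eq_zero]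
      simp
    have hfin : ∀ M : Matrix (Fin n) (Fin n) K, M ^ r = μ • 1 → M ^ N = 1 := fun M h => by
      rw [hN, pow_mul, h, _root_.smul_pow, one_pow, Fintype.card_units,
        FiniteField.pow_card_sub_one_eq_one μ hμ0, one_smul]
    have hlev : ∀ M : Matrix (Fin n) (Fin n) K, M ^ r = μ • 1 → M.charpoly = (X ^ r - C μ) ^ (n / r) := by
      intro M hM
      obtain ⟨ι, hι, f, hf1, hf2, hf⟩ := Cfsg.Lib.CanonicalForm.exists_form_of_pow_eq_one M N hNK (hfin M hM)
      have hd := (hf.aeval_eq_zero_iff (X ^ r - C μ)).mp (by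
        rw [map_sub, map_pow, aeval_X, aeval_C, hM, Algebra.algebraMap_eq_smul_one, sub_self])
      have heq : ∀ x, f x = X ^ r - C μ := fun x =>
        eq_of_monic_of_associated (hf1 x) (monic_X_pow_sub_C _ hr.ne_zero) ((hf2 x).associated_of_dvd hirr (hd x))
      have hdeg := hf.sum_natDegree hf1
      rw [Finset.sum_congr rfl (g := fun _ => r) (fun x _ => by rw [heq x, natDegree_X_pow_sub_C]), Finset.sum_const,
        smul_eq_mul, Finset.card_univ] at hdeg
      rw [hf.charpoly hf1, Finset.prod_congr rfl (fun x _ => heq x), Finset.prod_const, Finset.card_univ, ← hdeg,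
        Nat.mul_div_cancel _ hr.pos]
    refine ((Cfsg.Agent.S2588.result hK A).mpr ?_)
    set M := ((A : Matrix (Fin n) (Fin n) K).map (fun x : K => x ^ q)).transpose with hMdef
    have hMσ : M = ((A : Matrix (Fin n) (Fin n) K).map σ).transpose := by
      rw [hMdef]; congr 1; ext a b; simp [hσ]
    have hμq : μ ^ q = μ⁻¹ := eq_inv_of_mul_eq_one_left (by rw [← pow_succ, hμ])
    have hMr : M ^ r = μ⁻¹ • 1 := by
      rw [hMσ, ← Matrix.transpose_pow, ← RingHom.mapMatrix_apply, ← map_pow, hA, RingHom.mapMatrix_apply,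
        Matrix.map_smul' _ _ _ (map_mul σ), Matrix.map_one _ (map_zero _) (map_one _), Matrix.transpose_smul,
        Matrix.transpose_one, hσ, hμq]
    have hMi : M⁻¹ ^ r = μ • 1 := by
      rw [Matrix.inv_pow', hMr]
      exact Matrix.inv_eq_right_inv (by rw [smul_mul_assoc, one_mul, smul_smul, inv_mul_cancel₀ hμ0, one_smul])
    exact Cfsg.Lib.CanonicalForm.isConj_of_charpoly_eq N N hNK hNK (hfin _ hA) (hfin _ hMi)
      ((hlev _ hA).trans (hlev _ hMi).symm)

theorem main {K : Type u} [Field K] [Fintype K] {q n r : ℕ} (hK : Fintype.card K = q ^ 2) (hn : 3 ≤ n) (hr : r.Prime) (hr2 : r ≠ 2) (hrq : r ∣ q + 1) : Nat.card {C : ConjClasses (↥(Cfsg.GU n K q) ⧸ Subgroup.center ↥(Cfsg.GU n K q)) // ∃ g : ↥(Cfsg.GU n K q) ⧸ Subgroup.center ↥(Cfsg.GU n K q), ConjClasses.mk g = C ∧ orderOf g = r} = (Nat.choose (n + r - 1) (r - 1) - r - (if r ∣ n then 1 else 0)) / r + r * (if r ∣ n then 1 else 0) := by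
  classical
  haveI : Fact r.Prime := ⟨hr⟩
  have hn1 : 1 ≤ n := by omega
  have hq2 := Cfsg.Lib.Linear.Herm.two_le_q hK
  obtain ⟨σ, hσ⟩ := Cfsg.Lib.Linear.Herm.exists_frob hK
  have hqr : ¬ r ∣ q - 1 := fun h => hr2 ((Nat.prime_dvd_prime_iff_eq hr Nat.prime_two).mp (by
    have := Nat.dvd_sub hrq h
    rwa [show q + 1 - (q - 1) = 2 by omega] at this))
  have hcard : r ∣ q ^ 2 - 1 := by
    rw [show q ^ 2 - 1 = (q + 1) * (q - 1) from Nat.sq_sub_sq q 1]
    exact dvd_mul_of_dvd_left hrq _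
  rw [← Cfsg.Agent.S2670.result (F := K) hK (by omega : 2 ≤ n) hr hcard]
  let Q := (↥(Cfsg.GU n K q) ⧸ Subgroup.center ↥(Cfsg.GU n K q))
  let f : Q →* Cfsg.Agent.S2670.PG K n := QuotientGroup.map _ _ (Cfsg.GU n K q).subtype
    fun a ha => (mem_center_iff' hK (by omega) a).mp ha
  have hfmk : ∀ a : ↥(Cfsg.GU n K q), f (a : Q) = ((a : GL (Fin n) K) : Cfsg.Agent.S2670.PG K n) := fun a =>
    QuotientGroup.map_mk _ _ _ _ a
  have hfinj : Function.Injective f := (injective_iff_map_eq_one f).mpr fun x hx => by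
    obtain ⟨a, rfl⟩ := QuotientGroup.mk_surjective x
    rw [hfmk, QuotientGroup.eq_one_iff] at hx
    exact (QuotientGroup.eq_one_iff a).mpr ((mem_center_iff' hK (by omega) a).mpr hx)
  let Φ : {C : ConjClasses Q // ∃ g : Q, ConjClasses.mk g = C ∧ orderOf g = r} →
      {C : ConjClasses (Cfsg.Agent.S2670.PG K n) // ∃ g, ConjClasses.mk g = C ∧ orderOf g = r} := fun C =>
    ⟨ConjClasses.map f C.1, by
      obtain ⟨g, hg, ho⟩ := C.2
      exact ⟨f g, by rw [← hg]; rfl, by rw [orderOf_injective f hfinj, ho]⟩⟩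
  refine Nat.card_congr (Equiv.ofBijective Φ ⟨?_, ?_⟩)
  · rintro ⟨C, g, rfl, hg⟩ ⟨C', g', rfl, hg'⟩ h
    obtain ⟨a, rfl⟩ := QuotientGroup.mk_surjective g
    obtain ⟨b, rfl⟩ := QuotientGroup.mk_surjective g'
    have h1 : ConjClasses.mk (f (a : Q)) = ConjClasses.mk (f (b : Q)) := congrArg Subtype.val h
    rw [hfmk, hfmk, Cfsg.Agent.S2670.class_eq_iff _ _ hn1] at h1
    obtain ⟨s, hs0, hs⟩ := h1
    set A := ((a : GL (Fin n) K) : Matrix (Fin n) (Fin n) K) with hAdef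
    set B := ((b : GL (Fin n) K) : Matrix (Fin n) (Fin n) K) with hBdef
    have hBu : IsUnit B := (b : GL (Fin n) K).isUnit
    have hsB : IsUnit (s • B) := by
      rw [← Units.val_mk0 hs0, ← one_mul B, ← smul_mul_assoc, ← val_scalar']
      exact (Units.isUnit _).mul hBu
    have hmap : ∀ M : Matrix (Fin n) (Fin n) K, M.map (fun x : K => x ^ q) = M.map σ := fun M => by
      ext i j; simp [hσ]
    have hA' : IsConj A ((A.map σ).transpose)⁻¹ := by
      rw [← hmap]; exact (Cfsg.Agent.S2588.result hK (a : GL (Fin n) K)).mp ⟨a, IsConj.refl _⟩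
    have hB' : IsConj B ((B.map σ).transpose)⁻¹ := by
      rw [← hmap]; exact (Cfsg.Agent.S2588.result hK (b : GL (Fin n) K)).mp ⟨b, IsConj.refl _⟩
    have hsq : s ^ q ≠ 0 := pow_ne_zero _ hs0
    have hBud : IsUnit (B.map σ).transpose.det := by
      rw [Matrix.det_transpose, ← RingHom.mapMatrix_apply, ← RingHom.map_det]
      exact ((Matrix.isUnit_iff_isUnit_det B).mp hBu).map σ
    have heq : (((s • B).map σ).transpose)⁻¹ = (s ^ q)⁻¹ • ((B.map σ).transpose)⁻¹ := by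
      rw [Matrix.map_smul' _ _ _ (map_mul σ), Matrix.transpose_smul, hσ]
      exact Matrix.inv_eq_right_inv (by rw [smul_mul_smul_comm, mul_inv_cancel₀ hsq, Matrix.mul_nonsing_inv _ hBud, one_smul])
    have hsmul : IsConj ((s ^ q)⁻¹ • B) ((s ^ q)⁻¹ • ((B.map σ).transpose)⁻¹) := by
      obtain ⟨c, hc⟩ := hB'
      exact ⟨c, show _ = _ by rw [mul_smul_comm, smul_mul_assoc]; exact congrArg ((s ^ q)⁻¹ • ·) hc⟩
    have hchain : IsConj (s • B) ((s ^ q)⁻¹ • B) :=
      (hs.symm.trans hA').trans ((isConj_twist hs hsB).trans (heq ▸ hsmul.symm))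
    have hbr := pow_orderOf_eq_one (b : Q)
    rw [hg', ← QuotientGroup.mk_pow, QuotientGroup.eq_one_iff, mem_center_iff' hK (by omega),
      Matrix.GeneralLinearGroup.center_eq_range_scalar] at hbr
    obtain ⟨μ, hμ⟩ := hbr
    have hBr : B ^ r = (μ : K) • 1 := by
      rw [hBdef, ← Units.val_pow_eq_pow_val, ← SubmonoidClass.coe_pow, ← hμ, val_scalar']
    have h3 := Cfsg.Agent.S2670.pow_eq_of_isConj hn1 (A := s • B) (B := B) (s := (s ^ q)⁻¹) (k := r)
      (a := s ^ r * (μ : K)) (b := (μ : K)) hchain (by rw [_root_.smul_pow, hBr, smul_smul]) hBr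
    have hs1 : s ^ (q + 1) = 1 := by
      have h4 : (s ^ (q + 1)) ^ r = 1 := by
        have h5 : s ^ r = ((s ^ q)⁻¹) ^ r := mul_right_cancel₀ μ.ne_zero h3
        rw [pow_succ, mul_pow, h5, inv_pow, mul_inv_cancel₀ (pow_ne_zero _ hsq)]
      have h2 : (s ^ (q + 1)) ^ (q - 1) = 1 := by
        rw [← pow_mul, ← Nat.sq_sub_sq q 1, one_pow, ← hK]
        exact FiniteField.pow_card_sub_one_eq_one s hs0
      have h := pow_gcd_eq_one.mpr ⟨h4, h2⟩
      rwa [Nat.Coprime.gcd_eq_one ((Nat.Prime.coprime_iff_not_dvd hr).mpr hqr), pow_one] at h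
    let z : ↥(Cfsg.GU n K q) := ⟨_, Cfsg.Lib.Linear.Herm.scalar_mem_GU (n := n) (u := Units.mk0 s hs0) hs1⟩
    have hz : z ∈ Subgroup.center ↥(Cfsg.GU n K q) := (mem_center_iff' hK (by omega) z).mpr (by
      rw [Matrix.GeneralLinearGroup.center_eq_range_scalar]; exact ⟨_, rfl⟩)
    have hconj : IsConj a (z * b) := (Cfsg.Agent.S2587.result hK a (z * b)).mpr (isConj_units_of_isConj _ _ (by
      show IsConj A ((Matrix.GeneralLinearGroup.scalar (Fin n) (Units.mk0 s hs0) * (b : GL (Fin n) K) : GL (Fin n) K) :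
        Matrix (Fin n) (Fin n) K)
      rw [Units.val_mul, val_scalar', smul_mul_assoc, one_mul]
      exact hs))
    refine Subtype.ext (ConjClasses.mk_eq_mk_iff_isConj.mpr ?_)
    have hzb : ((z * b : ↥(Cfsg.GU n K q)) : Q) = (b : Q) := by
      rw [QuotientGroup.mk_mul, (QuotientGroup.eq_one_iff z).mpr hz, one_mul]
    rw [← hzb]
    exact MonoidHom.map_isConj (QuotientGroup.mk' _) hconj
  · rintro ⟨C, g, rfl, hg⟩
    obtain ⟨A, rfl⟩ := QuotientGroup.mk_surjective g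
    have hAr := pow_orderOf_eq_one (A : Cfsg.Agent.S2670.PG K n)
    rw [hg, ← QuotientGroup.mk_pow, ← QuotientGroup.mk_one, Cfsg.Agent.S2670.mk_eq_iff _ _ hn1, Units.val_one,
      Units.val_pow_eq_pow_val] at hAr
    obtain ⟨μ, hμ0, hμ⟩ := hAr
    -- normalise the scalar to norm one
    set N0 := μ ^ (q + 1) with hN0
    have hN1 : N0 ^ (q - 1) = 1 := by
      rw [hN0, ← pow_mul, ← Nat.sq_sub_sq q 1, one_pow, ← hK]
      exact FiniteField.pow_card_sub_one_eq_one μ hμ0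
    haveI : NeZero (q - 1) := ⟨by omega⟩
    have hcop : r.Coprime (q - 1) := (Nat.Prime.coprime_iff_not_dvd hr).mpr hqr
    set k := (-((r : ZMod (q - 1))⁻¹)).val with hk
    have hdiv : (q - 1) ∣ k * r + 1 := by
      rw [← ZMod.natCast_eq_zero_iff, Nat.cast_add, Nat.cast_mul, hk, ZMod.natCast_zmod_val, Nat.cast_one,
        neg_mul, mul_comm, ZMod.coe_mul_inv_eq_one r hcop, neg_add_cancel]
    set t := μ ^ k with htdef
    have ht0 : t ≠ 0 := pow_ne_zero _ hμ0
    let A' : GL (Fin n) K := Matrix.GeneralLinearGroup.scalar (Fin n) (Units.mk0 t ht0) * A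
    have hA'v : (A' : Matrix (Fin n) (Fin n) K) = t • (A : Matrix (Fin n) (Fin n) K) := by
      rw [Units.val_mul, val_scalar', smul_mul_assoc, one_mul, Units.val_mk0]
    have hA'r : (A' : Matrix (Fin n) (Fin n) K) ^ r = (t ^ r * μ) • 1 := by
      rw [hA'v, _root_.smul_pow, hμ, smul_smul]
    have hnorm : (t ^ r * μ) ^ (q + 1) = 1 := by
      obtain ⟨d, hd⟩ := hdiv
      calc (t ^ r * μ) ^ (q + 1) = N0 ^ (k * r + 1) := by
            rw [hN0, htdef, ← pow_mul, ← pow_succ, ← pow_mul, ← pow_mul, mul_comm (k * r + 1)]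
        _ = 1 := by rw [hd, pow_mul, hN1, one_pow]
    have hA'ns : ∀ c : K, (A' : Matrix (Fin n) (Fin n) K) ≠ c • 1 := by
      intro c hc
      have hA1 : (A : Cfsg.Agent.S2670.PG K n) = 1 := by
        rw [← QuotientGroup.mk_one, Cfsg.Agent.S2670.mk_eq_iff _ _ hn1]
        refine ⟨t⁻¹ * c, mul_ne_zero (inv_ne_zero ht0) fun h0 => ?_, ?_⟩
        · rw [h0, zero_smul] at hc
          haveI : Nonempty (Fin n) := ⟨⟨0, hn1⟩⟩
          exact A'.ne_zero hc
        · rw [Units.val_one, ← smul_smul, ← hc, hA'v, smul_smul, inv_mul_cancel₀ ht0, one_smul]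
      rw [hA1, orderOf_one] at hg
      exact hr.one_lt.ne hg
    obtain ⟨B, hB⟩ := exists_unitary_conj hK hn1 hr hr2 hrq hσ A' _ hnorm hA'r hA'ns
    have hfB : ConjClasses.mk (f (B : Q)) = ConjClasses.mk (A : Cfsg.Agent.S2670.PG K n) := by
      rw [ConjClasses.mk_eq_mk_iff_isConj, hfmk]
      refine IsConj.symm ?_
      have h1 := MonoidHom.map_isConj (QuotientGroup.mk' (Subgroup.center (GL (Fin n) K))) hB
      have h2 : (A' : Cfsg.Agent.S2670.PG K n) = (A : Cfsg.Agent.S2670.PG K n) :=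
        (Cfsg.Agent.S2670.mk_eq_iff _ _ hn1).mpr ⟨t, ht0, hA'v⟩
      rw [QuotientGroup.mk'_apply, QuotientGroup.mk'_apply, h2] at h1
      exact h1
    refine ⟨⟨ConjClasses.mk (B : Q), (B : Q), rfl, ?_⟩, Subtype.ext hfB⟩
    rw [ConjClasses.mk_eq_mk_iff_isConj] at hfB
    obtain ⟨c, hc⟩ := isConj_iff.mp hfB
    rw [← orderOf_injective f hfinj, ← hg, ← hc, ← MulAut.conj_apply]
    exact ((MulAut.conj c).orderOf_eq _).symm

/-- Number of conjugacy classes of elements of odd prime order r in PGU_n(q) = GU_n(q)/scalars (n ≥ 3) when r divides q + 1: as in the linear case with q − 1 replaced by q + 1, the classes correspond to the rotation orbits on r-tuples of eigenvalue multiplicities summing to n with every entry < n, plus r − 1 further classes when r divides n; in all (C(n+r−1, r−1) − r − [r ∣ n])/r + r·[r ∣ n]. -/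
theorem result {K : Type*} [Field K] [Fintype K] {q n r : ℕ} (hK : Fintype.card K = q ^ 2) (hn : 3 ≤ n) (hr : r.Prime) (hr2 : r ≠ 2) (hrq : r ∣ q + 1) : Nat.card {C : ConjClasses (↥(Cfsg.GU n K q) ⧸ Subgroup.center ↥(Cfsg.GU n K q)) // ∃ g : ↥(Cfsg.GU n K q) ⧸ Subgroup.center ↥(Cfsg.GU n K q), ConjClasses.mk g = C ∧ orderOf g = r} = (Nat.choose (n + r - 1) (r - 1) - r - (if r ∣ n then 1 else 0)) / r + r * (if r ∣ n then 1 else 0) := by
  exact main hK hn hr hr2 hrq

end Cfsg.Agent.S2672
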