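import Cfsg.Statements.S2673
import Cfsg.Agent.Lib.Linear.PrimeClasses.OrthReal
import Cfsg.Agent.Lib.Linear.OrthOdd

set_option linter.style.haveILetI false

set_option autoImplicit false
open Cfsg

namespace Cfsg.Agent.S2673

open Polynomial
open scoped Matrix
open Cfsg.Agent.Lib.Linear.PrimeClasses
open Cfsg.Lib.Linear.Orth

theorem main {F : Type*} [Field F] [Fintype F] {p q : ℕ} [Fact p.Prime] [CharP F p] (hF : Fintype.card F = q) (hq : Odd q) (m r i t : ℕ) (hr : r.Prime) (hr2 : r ≠ 2) (hrp : r ≠ p) (hi : i = orderOf (q : ZMod r)) (ht : t * i = r - 1) : Nat.card {C : ConjClasses ↥(Cfsg.isometryGroup F (Cfsg.quadFormOdd m F)) // ∃ g : ↥(Cfsg.isometryGroup F (Cfsg.quadFormOdd m F)), ConjClasses.mk g = C ∧ orderOf g = r} = if Odd i then Nat.choose (m / i + t / 2) (t / 2) - 1 else Nat.choose ((2 * m + 1) / i + t) t - 1 := by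
  classical
  haveI : Fact r.Prime := ⟨hr⟩
  let L := AlgebraicClosure F
  haveI : CharP L p := charP_of_injective_algebraMap (algebraMap F L).injective p
  have hrL : (r : L) ≠ 0 := fun h =>
    hrp ((Nat.prime_dvd_prime_iff_eq Fact.out hr).mp ((CharP.cast_eq_zero_iff L p r).mp h)).symm
  have hrF : (r : F) ≠ 0 := fun h => hrL (by rw [← map_natCast (algebraMap F L), h, map_zero])
  haveI : NeZero (r : L) := ⟨hrL⟩
  obtain ⟨ζ, hζ⟩ := HasEnoughRootsOfUnity.exists_primitiveRoot L r
  have hpc : (Fintype.card F : ZMod r) ≠ 0 := by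
    intro h
    obtain ⟨k, -, hk⟩ := FiniteField.card F p
    rw [hk, ZMod.natCast_eq_zero_iff] at h
    exact hrp ((Nat.prime_dvd_prime_iff_eq hr Fact.out).mp (hr.dvd_of_dvd_pow h))
  let uq : (ZMod r)ˣ := Units.mk0 _ hpc
  have huq : (uq : ZMod r) = (Fintype.card F : ZMod r) := rfl
  have hiu : orderOf uq = i := by rw [hi, ← orderOf_units, huq, hF]
  obtain ⟨w, hw, hwq, hwn, hwo⟩ := exists_gen hr2 uq
  rw [hiu] at hwo
  have hpos : 0 < i := hiu ▸ orderOf_pos uq
  have hte : Odd i → 2 ∣ t := fun hodd => by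
    have hev : Even (r - 1) := hr.even_sub_one hr2
    rw [← ht, Nat.even_mul] at hev
    rcases hev with h | h
    · exact even_iff_two_dvd.mp h
    · exact absurd h (Nat.not_even_iff_odd.mpr hodd)
  have hne : Even i → (uq : ZMod r) ≠ 1 := fun he h => by
    have h1 : uq = 1 := Units.ext h
    rw [← hiu, h1, orderOf_one] at he
    exact Nat.not_even_one he
  have h2 : (2 : F) ≠ 0 := by
    intro h
    haveI : CharP F 2 := CharTwo.of_one_ne_zero_of_two_eq_zero one_ne_zero h
    obtain ⟨k, -, hk⟩ := FiniteField.card F 2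
    rw [← hF, hk] at hq
    exact (Nat.not_even_iff_odd.mpr hq) ((Nat.even_pow).mpr ⟨even_two, k.ne_zero⟩)
  obtain ⟨B, C⟩ := exists_space (isQuad_odd (F := F) m h2)
  have hcard := card_orth (F := F) (L := L) C hζ hrL hrF huq hr2 w hw (fun _ => True) (fun _ _ _ _ _ => trivial)
    (fun f hf _ => orth_real C hζ huq hr2 w hwq hwn hf
      (fun k _ hk _ => embeds_plus_odd (by simp at hk; omega))
      (fun k hk1 hk z _ _ => embeds_minus_odd h2 (by simp at hk; omega) z))
  have hc : Fintype.card (Unit ⊕ (Fin m ⊕ Fin m)) = 2 * m + 1 := by simp; omega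
  rw [hcard, Nat.card_congr (Equiv.subtypeEquivRight (q := Inv w (Fintype.card (Unit ⊕ (Fin m ⊕ Fin m)))) fun f => by simp),
    hc]
  by_cases hodd : Odd i
  · rw [if_pos hodd] at hwo ⊢
    obtain ⟨s, rfl⟩ := hte hodd
    rw [card_inv w _ (s := s) (by rw [hwo, ← ht]; ring), hwo, Nat.mul_div_cancel_left _ two_pos,
      ← Nat.div_div_eq_div_mul, show (2 * m + 1) / 2 = m by omega]
  · rw [if_neg hodd] at hwo ⊢
    rw [card_inv w _ (s := t) (by rw [hwo, ht]), hwo]

/-- Number of conjugacy classes of elements of odd prime order r ≠ p in the orthogonal group O_(2m+1)(q) of x_0² + Σ x_j y_j, q odd: with i the multiplicative order of q mod r and t = (r − 1)/i, there are C(⌊m/i⌋ + t/2, t/2) − 1 classes if i is odd (dual pairs of totally singular i-blocks) and C(⌊(2m+1)/i⌋ + t, t) − 1 if i is even (elliptic i-blocks). -/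
theorem result {F : Type*} [Field F] [Fintype F] {p q : ℕ} [Fact p.Prime] [CharP F p] (hF : Fintype.card F = q) (hq : Odd q) (m r i t : ℕ) (hr : r.Prime) (hr2 : r ≠ 2) (hrp : r ≠ p) (hi : i = orderOf (q : ZMod r)) (ht : t * i = r - 1) : Nat.card {C : ConjClasses ↥(Cfsg.isometryGroup F (Cfsg.quadFormOdd m F)) // ∃ g : ↥(Cfsg.isometryGroup F (Cfsg.quadFormOdd m F)), ConjClasses.mk g = C ∧ orderOf g = r} = if Odd i then Nat.choose (m / i + t / 2) (t / 2) - 1 else Nat.choose ((2 * m + 1) / i + t) t - 1 := by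
  exact main hF hq m r i t hr hr2 hrp hi ht

end Cfsg.Agent.S2673
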