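import Cfsg.Statements.S2674
import Cfsg.Agent.Lib.Linear.PrimeClasses.OrthReal
import Cfsg.Agent.Lib.Linear.OrthOdd

set_option linter.style.haveILetI false

set_option autoImplicit false
open Cfsg

namespace Cfsg.Agent.S2674

open Polynomial
open scoped Matrix
open Cfsg.Agent.Lib.Linear.PrimeClasses
open Cfsg.Lib.Linear.Orth

theorem main {F : Type*} [Field F] [Fintype F] {p q : ℕ} [Fact p.Prime] [CharP F p] (hF : Fintype.card F = q) (m r i t : ℕ) (hm : 1 ≤ m) (hr : r.Prime) (hr2 : r ≠ 2) (hrp : r ≠ p) (hi : i = orderOf (q : ZMod r)) (ht : t * i = r - 1) : Nat.card {C : ConjClasses ↥(Cfsg.isometryGroup F (Cfsg.quadFormPlus m F)) // ∃ g : ↥(Cfsg.isometryGroup F (Cfsg.quadFormPlus m F)), ConjClasses.mk g = C ∧ orderOf g = r} = if Odd i then Nat.choose (m / i + t / 2) (t / 2) - 1 else Nat.choose (2 * m / i + t) t - 1 - (if i ∣ 2 * m ∧ Odd (2 * m / i) then Nat.choose (2 * m / i + t - 1) (t - 1) else 0) := by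
  classical
  haveI : Fact r.Prime := ⟨hr⟩
  let L := AlgebraicClosure F
  haveI : CharP L p := charP_of_injective_algebraMap (algebraMap F L).injective p
  have hrL : (r : L) ≠ 0 := fun h =>
    hrp ((Nat.prime_dvd_prime_iff_eq Fact.out hr).mp ((CharP.cast_eq_zero_iff L p r).mp h)).symm
  have hrF : (r : F) ≠ 0 := fun h => hrL (by rw [← map_natCast (algebraMap F L), h, map_zero])
  haveI : NeZero (r : L) := ⟨hrL⟩
  obtain ⟨ζ, hζ⟩ := HasEnoughRootsOfUnity.exists_primitiveRoot L r
  have hpc : (Fintype.card F : ZMod r) ≠ 0 := by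
    intro h
    obtain ⟨k, -, hk⟩ := FiniteField.card F p
    rw [hk, ZMod.natCast_eq_zero_iff] at h
    exact hrp ((Nat.prime_dvd_prime_iff_eq hr Fact.out).mp (hr.dvd_of_dvd_pow h))
  let uq : (ZMod r)ˣ := Units.mk0 _ hpc
  have huq : (uq : ZMod r) = (Fintype.card F : ZMod r) := rfl
  have hiu : orderOf uq = i := by rw [hi, ← orderOf_units, huq, hF]
  obtain ⟨w, hw, hwq, hwn, hwo⟩ := exists_gen hr2 uq
  rw [hiu] at hwo
  have hpos : 0 < i := hiu ▸ orderOf_pos uq
  have hte : Odd i → 2 ∣ t := fun hodd => by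
    have hev : Even (r - 1) := hr.even_sub_one hr2
    rw [← ht, Nat.even_mul] at hev
    rcases hev with h | h
    · exact even_iff_two_dvd.mp h
    · exact absurd h (Nat.not_even_iff_odd.mpr hodd)
  have hne : Even i → (uq : ZMod r) ≠ 1 := fun he h => by
    have h1 : uq = 1 := Units.ext h
    rw [← hiu, h1, orderOf_one] at he
    exact Nat.not_even_one he
  obtain ⟨B, C⟩ := exists_space_plus (F := F) m
  have hc : Fintype.card (Fin m ⊕ Fin m) = 2 * m := by simp; omega
  have hcard := card_orth (F := F) (L := L) C hζ hrL hrF huq hr2 w hw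
    (fun f => ¬(Even i ∧ Odd (2 * m / i) ∧ f 0 = 0)) (fun g hg f hf hgf ⟨he, ho, h0⟩ => ?_) (fun f hf hok => ?_)
  · rw [hcard]
    by_cases hodd : Odd i
    · have he : ¬ Even i := Nat.not_even_iff_odd.mpr hodd
      rw [Nat.card_congr (Equiv.subtypeEquivRight (q := Inv w (Fintype.card (Fin m ⊕ Fin m))) fun f => by simp [he])]
      rw [if_pos hodd] at hwo ⊢
      obtain ⟨s, rfl⟩ := hte hodd
      rw [card_inv w _ (s := s) (by rw [hwo, ← ht]; ring), hwo, hc, Nat.mul_div_cancel_left _ two_pos,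
        Nat.mul_div_mul_left _ _ two_pos]
    · have he : Even i := Nat.not_odd_iff_even.mp hodd
      rw [if_neg hodd] at hwo ⊢
      by_cases ho : Odd (2 * m / i)
      · rw [Nat.card_congr (Equiv.subtypeEquivRight
          (q := fun f => Inv w (Fintype.card (Fin m ⊕ Fin m)) f ∧ f 0 ≠ 0) fun f => by simp [he, ho]),
          card_inv_compl, card_inv w _ (s := t) (by rw [hwo, ht]), card_inv_full w _ (s := t) (by rw [hwo, ht]), hwo, hc]
        by_cases hd : i ∣ 2 * m
        · rw [if_pos hd, if_pos ⟨hd, ho⟩]; omega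
        · rw [if_neg hd, if_neg (fun h => hd h.1)]; omega
      · rw [Nat.card_congr (Equiv.subtypeEquivRight (q := Inv w (Fintype.card (Fin m ⊕ Fin m))) fun f => by simp [ho]),
          card_inv w _ (s := t) (by rw [hwo, ht]), hwo, hc, if_neg (fun h => ho h.2), Nat.sub_zero]
  · have hd : i ∣ 2 * m := by
      have h := dvd_of_full hf h0
      rwa [hwo, if_neg (Nat.not_odd_iff_even.mpr he), hc] at h
    refine no_fixed_plus hr2 huq (hne he) ?_ g hg (fun v hv => fixed_free hζ _ hgf h0 v hv)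
    rw [pow_half hiu he (Nat.mul_div_cancel' hd).symm, ho.neg_one_pow]
  · refine orth_real C hζ huq hr2 w hwq hwn hf (fun k _ hk _ => embeds_plus_plus (by rw [hc] at hk; omega))
      (fun k hk1 hk z hz ⟨g, hg, hfix⟩ => ?_)
    rw [hc] at hk
    rcases Nat.eq_zero_or_pos (f 0) with h0 | h0
    · exfalso
      have hkm : k = m := by omega
      subst hkm
      obtain ⟨Bz, Cz⟩ := exists_space_minus (k - 1) 1 z hz
      by_cases hodd : Odd i
      · obtain ⟨W₁, W₂, h₁, h₂, hdim⟩ := exists_halves Cz hζ hr2 huq (hiu.symm ▸ hodd) g hg hfix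
        have e1 := Cfsg.Lib.Linear.AutPO.minus_ts_bound hz Cz h₁
        have e2 := Cfsg.Lib.Linear.AutPO.minus_ts_bound hz Cz h₂
        simp only [Fintype.card_sum, Fintype.card_fin] at hdim
        omega
      · have he : Even i := Nat.not_odd_iff_even.mp hodd
        have hd : i ∣ 2 * k := by
          have h := dvd_of_full hf h0
          rwa [hwo, if_neg hodd, hc] at h
        have hev : Even (2 * k / i) := Nat.not_odd_iff_even.mp fun ho => hok ⟨he, ho, h0⟩
        refine no_fixed_minus hr2 huq (hne he) hz ?_ g hg hfix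
        rw [Nat.sub_add_cancel hk1, pow_half hiu he (Nat.mul_div_cancel' hd).symm, hev.neg_one_pow]
    · exact embeds_minus_plus (by omega) z

/-- Number of conjugacy classes of elements of odd prime order r ≠ p in the orthogonal group O⁺_2m(q) of Σ x_j y_j (m ≥ 1): with i the multiplicative order of q mod r and t = (r − 1)/i — if i is odd, C(⌊m/i⌋ + t/2, t/2) − 1; if i is even, C(⌊2m/i⌋ + t, t) − 1 minus, when i divides 2m with odd quotient, the C(2m/i + t − 1, t − 1) tuples using the whole space (an odd number of elliptic i-blocks fills an elliptic, not a hyperbolic, space). -/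
theorem result {F : Type*} [Field F] [Fintype F] {p q : ℕ} [Fact p.Prime] [CharP F p] (hF : Fintype.card F = q) (m r i t : ℕ) (hm : 1 ≤ m) (hr : r.Prime) (hr2 : r ≠ 2) (hrp : r ≠ p) (hi : i = orderOf (q : ZMod r)) (ht : t * i = r - 1) : Nat.card {C : ConjClasses ↥(Cfsg.isometryGroup F (Cfsg.quadFormPlus m F)) // ∃ g : ↥(Cfsg.isometryGroup F (Cfsg.quadFormPlus m F)), ConjClasses.mk g = C ∧ orderOf g = r} = if Odd i then Nat.choose (m / i + t / 2) (t / 2) - 1 else Nat.choose (2 * m / i + t) t - 1 - (if i ∣ 2 * m ∧ Odd (2 * m / i) then Nat.choose (2 * m / i + t - 1) (t - 1) else 0) := by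
  exact main hF m r i t hm hr hr2 hrp hi ht

end Cfsg.Agent.S2674
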