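import Cfsg.Statements.S2677
import Cfsg.Agent.Lib.Linear.HermStandard

/-! Cosets of the unitary scalars fixed by a field automorphism of odd prime order. -/

set_option autoImplicit false
open Cfsg
open scoped Matrix

namespace Cfsg.Agent.S2677

open Cfsg.Lib.Linear

variable {K : Type*} [Field K] [Fintype K] {q₀ q r n : ℕ}

/-- The subfield of elements fixed by a ring automorphism. -/
def fixedSub (σ : K ≃+* K) : Subfield K := RingHom.eqLocusField σ.toRingHom (RingHom.id K)

omit [Fintype K] in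
theorem mem_fixedSub {σ : K ≃+* K} {x : K} : x ∈ fixedSub σ ↔ σ x = x := Iff.rfl

theorem card_fixedSub (σ : K ≃+* K) : Nat.card (fixedSub σ) ^ orderOf σ = Nat.card K := by
  classical
  haveI : Finite (RingAut K) := Finite.of_injective (fun s : RingAut K => (s : K → K)) DFunLike.coe_injective
  let G : Subgroup (RingAut K) := Subgroup.zpowers σ
  let P := FixedPoints.subfield G K
  have hP : ∀ x : K, x ∈ P ↔ σ x = x := by
    intro x
    constructor
    · intro h
      exact h (⟨σ, Subgroup.mem_zpowers σ⟩ : G)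
    · intro h g
      have hg : (g : RingAut K) ∈ MulAction.stabilizer (RingAut K) x := by
        refine (Subgroup.zpowers_le.2 ?_) g.2
        exact h
      exact hg
  have : Fintype G := Fintype.ofFinite G
  have hr := FixedPoints.finrank_eq_card G K
  rw [← Nat.card_eq_fintype_card, Nat.card_zpowers] at hr
  rw [Module.natCard_eq_pow_finrank (K := P) (V := K), hr]
  congr 1
  exact Nat.card_congr (Equiv.subtypeEquivRight fun x => (mem_fixedSub.trans (hP x).symm))

/-- Hilbert's theorem 90. -/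
theorem exists_div (σ : K ≃+* K) {c : K} (hc : c ≠ 0)
    (hN : ∏ i ∈ Finset.range (orderOf σ), (σ ^ i) c = 1) : ∃ b : K, b ≠ 0 ∧ σ b = c * b := by
  classical
  haveI : Finite (RingAut K) := Finite.of_injective (fun s : RingAut K => (s : K → K)) DFunLike.coe_injective
  set r := orderOf σ
  let a : ℕ → K := fun i => ∏ j ∈ Finset.range i, (σ ^ j) c
  have hli := linearIndependent_monoidHom K K
  have hinj : Function.Injective fun i : Fin r => ((σ ^ (i : ℕ)).toRingHom.toMonoidHom : K →* K) := fun i j h => by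
    refine Fin.ext (pow_injOn_Iio_orderOf i.2 j.2 (RingEquiv.ext fun x => ?_))
    exact DFunLike.congr_fun h x
  have hli' := hli.comp _ hinj
  obtain ⟨y, hy⟩ : ∃ y, ∑ i : Fin r, a i * (σ ^ (i : ℕ)) y ≠ 0 := by
    by_contra h
    push Not at h
    have hr : 0 < r := orderOf_pos σ
    have := Fintype.linearIndependent_iff.1 hli' (fun i => a i) (funext fun y => by
      simpa [Finset.sum_apply, Pi.smul_apply, smul_eq_mul] using h y) ⟨0, hr⟩
    simp [a] at this
  refine ⟨(∑ i : Fin r, a i * (σ ^ (i : ℕ)) y)⁻¹, inv_ne_zero hy, ?_⟩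
  have key : c * σ (∑ i : Fin r, a i * (σ ^ (i : ℕ)) y) = ∑ i : Fin r, a i * (σ ^ (i : ℕ)) y := by
    rw [Fin.sum_univ_eq_sum_range (fun i => a i * (σ ^ i) y), map_sum, Finset.mul_sum]
    have hstep : ∀ i, c * σ (a i * (σ ^ i) y) = a (i + 1) * (σ ^ (i + 1)) y := fun i => by
      simp only [a, map_mul, map_prod, Finset.prod_range_succ', pow_zero, RingAut.one_apply]
      have e : ∀ j z, (σ ^ (j + 1)) z = σ ((σ ^ j) z) := fun j z => by rw [pow_succ']; rfl
      simp only [e]
      ring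
    rw [Finset.sum_congr rfl fun i _ => hstep i]
    have h1 := Finset.sum_range_succ' (fun i => a i * (σ ^ i) y) r
    rw [Finset.sum_range_succ] at h1
    have e0 : a r * (σ ^ r) y = a 0 * (σ ^ 0) y := by
      show a r * (σ ^ orderOf σ) y = _
      rw [pow_orderOf_eq_one, pow_zero]
      simp only [a, Finset.range_zero, Finset.prod_empty]
      rw [show ∏ j ∈ Finset.range r, (σ ^ j) c = 1 from hN]
    rw [e0] at h1
    exact (add_right_cancel h1).symm
  have hσ : σ (∑ i : Fin r, a i * (σ ^ (i : ℕ)) y) ≠ 0 := (map_ne_zero_iff _ σ.injective).2 hy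
  rw [map_inv₀]
  field_simp
  linear_combination key.symm

section

variable (hr : r.Prime) (hr2 : r ≠ 2) (hq : q = q₀ ^ r) (hK : Fintype.card K = q ^ 2)
  (σ : K ≃+* K) (hσ : orderOf σ = r)

include hr hq hK hσ in
theorem card_fixed_eq : Nat.card (fixedSub σ) = q₀ ^ 2 := by
  refine Nat.pow_left_injective hr.ne_zero ?_
  show Nat.card (fixedSub σ) ^ r = (q₀ ^ 2) ^ r
  rw [← hσ, card_fixedSub, Nat.card_eq_fintype_card, hK, hσ, hq, ← pow_mul, ← pow_mul, mul_comm]

include hr hr2 hq hK hσ in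
theorem pow_q_fixed {x : K} (hx : σ x = x) : x ^ q = x ^ q₀ := by
  classical
  letI := Fintype.ofFinite (fixedSub σ)
  have h1 : ∀ j, x ^ ((q₀ ^ 2) ^ j) = x := fun j => by
    have := FiniteField.pow_card_pow j (⟨x, hx⟩ : fixedSub σ)
    rw [← Nat.card_eq_fintype_card, card_fixed_eq hr hq hK σ hσ] at this
    exact congrArg Subtype.val this
  obtain ⟨j, hj⟩ := hr.odd_of_ne_two hr2
  rw [hq, hj, pow_succ, pow_mul q₀ 2 j, pow_mul, h1]

include hr hr2 hq hK hσ in
theorem fixed_of_scalar (g : ↥(Cfsg.GU n K q)) (hn : 1 ≤ n) {c : K}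
    (hg : ((g : GL (Fin n) K) : Matrix (Fin n) (Fin n) K).map σ = c • ((g : GL (Fin n) K) : Matrix (Fin n) (Fin n) K))
    (hc : c ≠ 0) : ∃ a : K, a ^ (q + 1) = 1 ∧ σ a = c * a := by
  classical
  set A := ((g : GL (Fin n) K) : Matrix (Fin n) (Fin n) K) with hA
  have hσA : ∀ i j, σ (A i j) = c * A i j := fun i j => by
    have := congrFun (congrFun hg i) j
    simpa using this
  let i0 : Fin n := ⟨0, hn⟩
  have hq0 : q ≠ 0 := by have := Herm.two_le_q hK; omega
  have hnorm : ∑ l, A l i0 * A l i0 ^ q = 1 := by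
    have := g.2 (Pi.single i0 1) (Pi.single i0 1)
    simp only [Units.coeHom_apply, Cfsg.hermForm, Matrix.mulVec_single_one, Matrix.col_apply] at this
    rw [hA, this, Finset.sum_eq_single i0 (fun l _ hl => by simp [hl]) (by simp)]
    simp
  have hc1 : c ^ (q + 1) = 1 := by
    have := congrArg σ hnorm
    simp only [map_sum, map_mul, map_pow, hσA, map_one, mul_pow] at this
    rw [Finset.sum_congr rfl (fun l _ => show c * A l i0 * (c ^ q * A l i0 ^ q) = c ^ (q + 1) * (A l i0 * A l i0 ^ q) by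
      ring), ← Finset.mul_sum, hnorm, mul_one] at this
    exact this
  obtain ⟨l0, hl0⟩ : ∃ l, A l i0 ≠ 0 := by
    by_contra h
    push Not at h
    simp [h] at hnorm
  have hN : ∏ i ∈ Finset.range (orderOf σ), (σ ^ i) c = 1 := by
    have hit : ∀ j, (σ ^ j) (A l0 i0) = (∏ i ∈ Finset.range j, (σ ^ i) c) * A l0 i0 := fun j => by
      induction j with
      | zero => simp
      | succ j ih =>
        rw [Finset.prod_range_succ, pow_succ]
        show (σ ^ j) (σ (A l0 i0)) = _
        rw [hσA, map_mul, ih]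
        ring
    have := hit (orderOf σ)
    rw [pow_orderOf_eq_one, RingAut.one_apply] at this
    exact mul_right_cancel₀ hl0 (by rw [one_mul]; exact this.symm)
  obtain ⟨b, hb, hσb⟩ := exists_div σ hc hN
  have hd : σ (b ^ (q + 1)) = b ^ (q + 1) := by rw [map_pow, hσb, mul_pow, hc1, one_mul]
  have hdq : (b ^ (q + 1)) ^ q₀ = b ^ (q + 1) := by
    rw [← pow_q_fixed hr hr2 hq hK σ hσ hd, ← pow_mul, add_mul, one_mul, ← pow_two, pow_add,
      ← hK, FiniteField.pow_card, pow_succ']
  letI := Fintype.ofFinite (fixedSub σ)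
  have hF0 : Fintype.card (fixedSub σ) = q₀ ^ 2 := by
    rw [← Nat.card_eq_fintype_card]; exact card_fixed_eq hr hq hK σ hσ
  set d : (fixedSub σ)ˣ := Units.mk0 ⟨b ^ (q + 1), hd⟩ (fun h => pow_ne_zero (q + 1) hb (congrArg Subtype.val h))
  obtain ⟨e, he⟩ : d ∈ (powMonoidHom (q₀ + 1) : (fixedSub σ)ˣ →* (fixedSub σ)ˣ).range := by
    rw [Herm.norm_range_eq hF0, MonoidHom.mem_ker, powMonoidHom_apply]
    have h0 : 1 ≤ q₀ := by have := Herm.two_le_q hF0; omega
    have h1 : (d : (fixedSub σ)ˣ) ^ (q₀ - 1) * d = d := by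
      rw [← pow_succ, Nat.sub_add_cancel h0]
      exact Units.ext (Subtype.ext hdq)
    simpa using h1
  have he' : (((e : (fixedSub σ)ˣ) : fixedSub σ) : K) ^ (q + 1) = b ^ (q + 1) := by
    rw [pow_succ, pow_q_fixed hr hr2 hq hK σ hσ (e : fixedSub σ).2, ← pow_succ]
    exact congrArg (fun u : (fixedSub σ)ˣ => ((u : fixedSub σ) : K)) he
  have he0 : (((e : (fixedSub σ)ˣ) : fixedSub σ) : K) ≠ 0 := fun h => e.ne_zero (Subtype.ext h)
  refine ⟨b / (((e : (fixedSub σ)ˣ) : fixedSub σ) : K), by rw [div_pow, he', div_self (pow_ne_zero _ hb)], ?_⟩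
  rw [map_div₀, hσb, show σ (((e : (fixedSub σ)ˣ) : fixedSub σ) : K) = _ from (e : fixedSub σ).2]
  field_simp
  rfl

include hr hr2 hq hK hσ in
theorem main (hn : 1 ≤ n) :
    (Nat.card {g : ↥(Cfsg.GU n K q) // ∃ c : K, c ≠ 0 ∧ ((g : GL (Fin n) K) : Matrix (Fin n) (Fin n) K).map σ = c • ((g : GL (Fin n) K) : Matrix (Fin n) (Fin n) K)} : ℤ) = ((q + 1) / (q₀ + 1) : ℕ) * ((q₀ : ℤ) ^ (n * (n - 1) / 2) * ∏ i : Fin n, ((q₀ : ℤ) ^ ((i : ℕ) + 1) - (-1) ^ ((i : ℕ) + 1))) := by
  classical
  letI := Fintype.ofFinite (fixedSub σ)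
  set F₀ := fixedSub σ
  have hF0 : Fintype.card F₀ = q₀ ^ 2 := by
    rw [← Nat.card_eq_fintype_card]; exact card_fixed_eq hr hq hK σ hσ
  have hpow : ∀ x : F₀, (x : K) ^ q = ((x ^ q₀ : F₀) : K) := fun x => by
    rw [pow_q_fixed hr hr2 hq hK σ hσ x.2]; rfl
  let μ := (powMonoidHom (q + 1) : Kˣ →* Kˣ).ker
  -- the subgroup of fixed elements
  let Fix : Subgroup ↥(Cfsg.GU n K q) :=
    { carrier := {g | ((g : GL (Fin n) K) : Matrix (Fin n) (Fin n) K).map σ = ((g : GL (Fin n) K) : Matrix (Fin n) (Fin n) K)}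
      one_mem' := by simp
      mul_mem' := fun {g h} hg hh => by
        simp only [Set.mem_setOf_eq, Subgroup.coe_mul, Units.val_mul, Matrix.map_mul] at hg hh ⊢
        rw [hg, hh]
      inv_mem' := fun {g} hg => by
        simp only [Set.mem_setOf_eq] at hg ⊢
        have h1 : ((g : GL (Fin n) K) : Matrix (Fin n) (Fin n) K) *
            ((((g⁻¹ : ↥(Cfsg.GU n K q)) : GL (Fin n) K) : Matrix (Fin n) (Fin n) K).map σ) = 1 := by
          conv_lhs => arg 1; rw [← hg]
          rw [← Matrix.map_mul, Subgroup.coe_inv, Units.mul_inv, Matrix.map_one _ (map_zero _) (map_one _)]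
        rw [Subgroup.coe_inv] at h1 ⊢
        exact (Units.mul_eq_one_iff_inv_eq.1 h1).symm }
  let sc : Kˣ →* GL (Fin n) K := Units.map (Matrix.scalar (Fin n) : K →+* Matrix (Fin n) (Fin n) K).toMonoidHom
  have hscv : ∀ a : Kˣ, (sc a).val = (a : K) • (1 : Matrix (Fin n) (Fin n) K) := fun a => by
    rw [Matrix.smul_one_eq_diagonal]
    rfl
  have hsc : ∀ a : μ, sc a.1 ∈ Cfsg.GU n K q := fun a u v => by
    have ha : ((a.1 : Kˣ) : K) ^ (q + 1) = 1 := congrArg Units.val a.2
    simp only [Units.coeHom_apply, hscv, Matrix.smul_mulVec, Matrix.one_mulVec, Cfsg.hermForm, Pi.smul_apply, smul_eq_mul]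
    refine Finset.sum_congr rfl fun i _ => ?_
    linear_combination (u i * v i ^ q) * ha
  let ψ : μ × Fix →* ↥(Cfsg.GU n K q) :=
    MonoidHom.mk' (fun p => ⟨sc p.1.1, hsc p.1⟩ * p.2.1) fun x y => by
      refine Subtype.ext (Units.ext ?_)
      simp only [Prod.fst_mul, Prod.snd_mul, Subgroup.coe_mul, map_mul, Units.val_mul, hscv, smul_mul_assoc, one_mul,
        mul_smul_comm, smul_smul]
  have hψ : ∀ p, ((ψ p : GL (Fin n) K) : Matrix (Fin n) (Fin n) K) =
      ((p.1.1 : Kˣ) : K) • ((p.2.1 : GL (Fin n) K) : Matrix (Fin n) (Fin n) K) := fun p => by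
    show ((sc p.1.1) * (p.2.1 : GL (Fin n) K) : GL (Fin n) K).val = _
    rw [Units.val_mul, hscv, smul_mul_assoc, one_mul]
  have hrange : ∀ g : ↥(Cfsg.GU n K q), g ∈ ψ.range ↔ ∃ c : K, c ≠ 0 ∧
      ((g : GL (Fin n) K) : Matrix (Fin n) (Fin n) K).map σ = c • ((g : GL (Fin n) K) : Matrix (Fin n) (Fin n) K) := fun g => by
    constructor
    · rintro ⟨p, rfl⟩
      set a := ((p.1.1 : Kˣ) : K)
      have ha : a ≠ 0 := Units.ne_zero _
      refine ⟨σ a / a, div_ne_zero ((map_ne_zero_iff _ σ.injective).2 ha) ha, ?_⟩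
      rw [hψ, smul_smul, div_mul_cancel₀ _ ha]
      refine Matrix.ext fun i j => ?_
      have := congrFun (congrFun p.2.2 i) j
      simp only [Matrix.map_apply] at this
      simp [this, a]
    · rintro ⟨c, hc, hg⟩
      obtain ⟨a, ha, hσa⟩ := fixed_of_scalar hr hr2 hq hK σ hσ g hn hg hc
      have ha0 : a ≠ 0 := fun h => by simp [h] at ha
      let a' : μ := ⟨Units.mk0 a ha0, Units.ext ha⟩
      set h : ↥(Cfsg.GU n K q) := ⟨sc a'.1, hsc a'⟩⁻¹ * g with hh
      have hgh : ((g : GL (Fin n) K) : Matrix (Fin n) (Fin n) K) = a • ((h : GL (Fin n) K) : Matrix (Fin n) (Fin n) K) := by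
        have : g = ⟨sc a'.1, hsc a'⟩ * h := by rw [hh, mul_inv_cancel_left]
        conv_lhs => rw [this]
        rw [Subgroup.coe_mul, Units.val_mul, hscv, smul_mul_assoc, one_mul]
        rfl
      have hfix : h ∈ Fix := by
        refine Matrix.ext fun i j => ?_
        have := congrFun (congrFun hg i) j
        rw [hgh] at this
        simp only [Matrix.map_apply, Matrix.smul_apply, smul_eq_mul, map_mul, hσa] at this ⊢
        rw [mul_assoc] at this
        exact mul_left_cancel₀ ha0 (mul_left_cancel₀ hc this)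
      exact ⟨(a', ⟨h, hfix⟩), Subtype.ext (Units.ext ((hψ _).trans hgh.symm))⟩
  have hker : Nat.card ψ.ker = q₀ + 1 := by
    rw [← Herm.card_norm_one hF0]
    symm
    let ν := (powMonoidHom (q₀ + 1) : F₀ˣ →* F₀ˣ).ker
    have hmem : ∀ u : ν, (Units.map (F₀.subtype : F₀ →* K) u.1) ∈ μ := fun u => by
      refine Units.ext ?_
      show ((u.1 : F₀) : K) ^ (q + 1) = 1
      rw [pow_succ, hpow, ← Subfield.coe_mul, ← pow_succ]
      exact congrArg (fun v : F₀ˣ => ((v : F₀) : K)) u.2
    have hmem' : ∀ u : ν, (⟨_, hsc ⟨_, hmem u⟩⟩ : ↥(Cfsg.GU n K q))⁻¹ ∈ Fix := fun u => by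
      refine Fix.inv_mem ?_
      show (sc (Units.map (F₀.subtype : F₀ →* K) u.1)).val.map σ = (sc _).val
      rw [hscv]
      refine Matrix.ext fun i j => ?_
      rw [Matrix.map_apply, Matrix.smul_apply, smul_eq_mul, map_mul, show σ ((Units.map (F₀.subtype : F₀ →* K) u.1 : Kˣ) : K) = _ from (u.1 : F₀).2]
      congr 1
      rcases eq_or_ne i j with rfl | hij
      · simp
      · simp [Matrix.one_apply_ne hij]
    refine Nat.card_eq_of_bijective (fun u : ν => ⟨(⟨_, hmem u⟩, ⟨_, hmem' u⟩), by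
      rw [MonoidHom.mem_ker]; exact mul_inv_cancel _⟩) ⟨fun u v huv => ?_, fun p => ?_⟩
    · have := congrArg (fun x : ψ.ker => ((x.1.1.1 : Kˣ) : K)) huv
      exact Subtype.ext (Units.ext (Subtype.ext this))
    · obtain ⟨⟨a, h⟩, hp⟩ := p
      have hp' : ((a.1 : Kˣ) : K) • ((h.1 : GL (Fin n) K) : Matrix (Fin n) (Fin n) K) = 1 := by
        rw [← hψ (a, h), MonoidHom.mem_ker.1 hp]
        rfl
      have ha : σ ((a.1 : Kˣ) : K) = ((a.1 : Kˣ) : K) := by
        have h1 := congrFun (congrFun (congrArg (fun M : Matrix (Fin n) (Fin n) K => M.map σ) hp') ⟨0, hn⟩) ⟨0, hn⟩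
        have h2 := congrFun (congrFun hp' ⟨0, hn⟩) ⟨0, hn⟩
        have h3 : σ ((h.1 : GL (Fin n) K).val ⟨0, hn⟩ ⟨0, hn⟩) = (h.1 : GL (Fin n) K).val ⟨0, hn⟩ ⟨0, hn⟩ :=
          congrFun (congrFun h.2 ⟨0, hn⟩) ⟨0, hn⟩
        simp only [Matrix.map_apply, Matrix.smul_apply, smul_eq_mul, map_mul, h3, Matrix.one_apply_eq, map_one] at h1 h2
        exact mul_right_cancel₀ (fun h0 => by simp [h0] at h2) (h1.trans h2.symm)
      let v : F₀ˣ := Units.mk0 ⟨((a.1 : Kˣ) : K), ha⟩ fun h0 => a.1.ne_zero (congrArg Subtype.val h0)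
      have hv : v ∈ ν := Units.ext (Subtype.ext (by
        show ((a.1 : Kˣ) : K) ^ (q₀ + 1) = 1
        rw [pow_succ, ← pow_q_fixed hr hr2 hq hK σ hσ ha, ← pow_succ]
        exact congrArg Units.val a.2))
      refine ⟨⟨v, hv⟩, Subtype.ext (Prod.ext (Subtype.ext (Units.ext rfl)) ?_)⟩
      refine Subtype.ext ?_
      have h4 : (⟨sc a.1, hsc a⟩ : ↥(Cfsg.GU n K q)) * h.1 = 1 := MonoidHom.mem_ker.1 hp
      show (⟨sc (Units.map (F₀.subtype : F₀ →* K) v), _⟩ : ↥(Cfsg.GU n K q))⁻¹ = h.1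
      rw [eq_inv_of_mul_eq_one_right h4]
      exact congrArg (·⁻¹) (Subtype.ext (congrArg sc (Units.ext rfl)))
  have hFix : Nat.card Fix = Nat.card ↥(Cfsg.GU n F₀ q₀) := by
    let φ : GL (Fin n) F₀ →* GL (Fin n) K := Matrix.GeneralLinearGroup.map F₀.subtype
    have hφ : ∀ g i j, (φ g).val i j = (g.val i j : K) := fun g i j => rfl
    have hiff : ∀ g, φ g ∈ Cfsg.GU n K q ↔ g ∈ Cfsg.GU n F₀ q₀ := fun g => by
      constructor
      · intro hg u v
        refine Subtype.ext ?_
        have := hg (fun i => (u i : K)) (fun i => (v i : K))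
        have hsum : ∀ x, (∑ l, ((g.val x l : F₀) : K) * (v l : K)) ^ q = (∑ l, ((g.val x l : F₀) : K) * (v l : K)) ^ q₀ :=
          fun x => pow_q_fixed hr hr2 hq hK σ hσ (mem_fixedSub.1 (sum_mem fun l _ => mul_mem (g.val x l).2 (v l).2))
        simp only [Units.coeHom_apply, Cfsg.hermForm, Matrix.mulVec, dotProduct, hφ, hsum, hpow] at this ⊢
        simpa using this
      · intro hg
        have hbasis : ∀ i j, ∑ l, (φ g).val l i * (φ g).val l j ^ q = if i = j then 1 else 0 := fun i j => by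
          have h := congrArg Subtype.val (hg (Pi.single i 1) (Pi.single j 1))
          simp only [Units.coeHom_apply, Cfsg.hermForm, Matrix.mulVec_single_one, Matrix.col_apply] at h
          simp only [hφ, hpow, ← Subfield.coe_mul]
          rw [show ∑ l, ((g.val l i * g.val l j ^ q₀ : F₀) : K) = ((∑ l, g.val l i * g.val l j ^ q₀ : F₀) : K) from
            (by simp), h]
          rw [Finset.sum_eq_single i (fun l _ hl => by simp [hl]) (by simp)]
          have hq0 : q₀ ≠ 0 := by have := Herm.two_le_q hF0; omega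
          rcases eq_or_ne i j with rfl | hij
          · simp
          · simp [hij, zero_pow hq0]
        intro u v
        simp only [Units.coeHom_apply, Cfsg.hermForm, Matrix.mulVec, dotProduct]
        have hfrob : ∀ (s : Finset (Fin n)) (f : Fin n → K), (∑ j ∈ s, f j) ^ q = ∑ j ∈ s, f j ^ q := fun s f => by
          simp only [← Herm.frob_apply hK]
          exact map_sum _ _ _
        simp only [hfrob, mul_pow, Finset.sum_mul, Finset.mul_sum]
        rw [Finset.sum_comm]
        refine Finset.sum_congr rfl fun i _ => ?_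
        rw [Finset.sum_comm]
        calc _ = ∑ j, u j * v i ^ q * ∑ l, (φ g).val l j * (φ g).val l i ^ q := by
              refine Finset.sum_congr rfl fun j _ => ?_
              rw [Finset.mul_sum]
              exact Finset.sum_congr rfl fun l _ => by ring
          _ = _ := by simp [hbasis]
    symm
    refine Nat.card_eq_of_bijective (fun g => ⟨⟨φ g.1, (hiff _).2 g.2⟩, Matrix.ext fun i j => (g.1.val i j).2⟩)
      ⟨fun g h hgh => ?_, fun h => ?_⟩
    · refine Subtype.ext (Units.ext (Matrix.ext fun i j => Subtype.ext ?_))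
      exact congrFun (congrFun (congrArg (fun x : Fix => ((x.1 : GL (Fin n) K) : Matrix (Fin n) (Fin n) K)) hgh) i) j
    · let A : Matrix (Fin n) (Fin n) F₀ := Matrix.of fun i j => ⟨(h.1 : GL (Fin n) K).val i j, congrFun (congrFun h.2 i) j⟩
      have hA : A.map F₀.subtype = (h.1 : GL (Fin n) K).val := rfl
      have hu : IsUnit A := by
        rw [Matrix.isUnit_iff_isUnit_det, isUnit_iff_ne_zero]
        intro h0
        have h1 := congrArg F₀.subtype h0
        rw [RingHom.map_det, map_zero] at h1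
        exact ((Matrix.isUnit_iff_isUnit_det _).1 (h.1 : GL (Fin n) K).isUnit).ne_zero h1
      have hh : φ hu.unit = (h.1 : GL (Fin n) K) := Units.ext hA
      exact ⟨⟨hu.unit, (hiff _).1 (hh ▸ h.1.2)⟩, Subtype.ext (Subtype.ext hh)⟩
  have hcount := Subgroup.card_mul_index ψ.ker
  rw [Subgroup.index_ker, Nat.card_prod, hker, hFix, Herm.card_norm_one hK, Herm.card_GU hF0] at hcount
  have hdiv : q₀ + 1 ∣ q + 1 := by
    have := (hr.odd_of_ne_two hr2).nat_add_dvd_pow_add_pow q₀ 1
    rwa [one_pow, ← hq] at this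
  obtain ⟨d, hd⟩ := hdiv
  rw [hd, mul_assoc] at hcount
  rw [hd, Nat.mul_div_cancel_left _ (Nat.succ_pos q₀),
    Nat.card_congr (Equiv.subtypeEquivRight fun g => (hrange g).symm),
    Nat.eq_of_mul_eq_mul_left (Nat.succ_pos q₀) hcount]
  have h0 : 1 ≤ q₀ := by have := Herm.two_le_q hF0; omega
  push_cast
  rw [Fin.prod_univ_eq_prod_range (fun i => (q₀ : ℤ) ^ (i + 1) - (-1) ^ (i + 1))]
  congr 2
  refine Finset.prod_congr rfl fun i _ => ?_
  by_cases hi : Even i
  · rw [if_pos hi, (hi.add_one).neg_one_pow]; push_cast; ring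
  · rw [if_neg hi, ((Nat.not_even_iff_odd.1 hi).add_one).neg_one_pow, Nat.cast_sub (Nat.one_le_pow _ _ h0)]
    push_cast; ring

end

/-- Centraliser of a field automorphism of odd prime order in PGU_n(q): let q = q₀^r with r an odd prime, K the field with q² elements and σ a field automorphism of K of order r (fixed field of order q₀²). The elements g of GU_n(q) whose entrywise image under σ is a scalar multiple of g — those whose coset modulo the q + 1 unitary scalars is fixed by σ — number (q + 1)/(q₀ + 1) · |GU_n(q₀)|; equivalently the centraliser in PGU_n(q) of the induced automorphism has the order of PGU_n(q₀). -/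
theorem result {K : Type*} [Field K] [Fintype K] {q₀ q r n : ℕ} (hr : r.Prime) (hr2 : r ≠ 2) (hn : 1 ≤ n) (hq : q = q₀ ^ r) (hK : Fintype.card K = q ^ 2) (σ : K ≃+* K) (hσ : orderOf σ = r) : (Nat.card {g : ↥(Cfsg.GU n K q) // ∃ c : K, c ≠ 0 ∧ ((g : GL (Fin n) K) : Matrix (Fin n) (Fin n) K).map σ = c • ((g : GL (Fin n) K) : Matrix (Fin n) (Fin n) K)} : ℤ) = ((q + 1) / (q₀ + 1) : ℕ) * ((q₀ : ℤ) ^ (n * (n - 1) / 2) * ∏ i : Fin n, ((q₀ : ℤ) ^ ((i : ℕ) + 1) - (-1) ^ ((i : ℕ) + 1))) := by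
  exact main hr hr2 hq hK σ hσ hn

end Cfsg.Agent.S2677
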