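import Cfsg.Statements.S2678
import Cfsg.Agent.Lib.Linear.FieldReduce

set_option autoImplicit false
open Cfsg
open scoped Matrix

namespace Cfsg.Agent.S2678

/-- Field-extension embedding of symplectic groups: for a field K with q² elements and a field F with q elements there is an injective homomorphism Sp_2a(K) → Sp_4a(F). -/
theorem result {K F : Type*} [Field K] [Fintype K] [Field F] [Fintype F] {q : ℕ} (hK : Fintype.card K = q ^ 2) (hF : Fintype.card F = q) (a : ℕ) : ∃ φ : ↥(Matrix.symplecticGroup (Fin a) K) →* ↥(Matrix.symplecticGroup (Fin (2 * a)) F), Function.Injective φ := by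
  classical
  obtain ⟨_inst, hfr⟩ := Lib.Linear.FieldReduce.exists_algebra hF hK
  obtain ⟨w, hw⟩ := Lib.Linear.FieldReduce.exists_outside hF hK
  obtain ⟨P, hP⟩ := Lib.Linear.FieldReduce.exists_basis_equiv hF hK hw
  let e : Fin 2 × Fin a ≃ Fin (2 * a) := finProdFinEquiv
  let C : Fin 2 → K →ₗ[F] F :=
    ![(LinearMap.fst F F F).comp P.symm.toLinearMap, (LinearMap.snd F F F).comp P.symm.toLinearMap]
  let T : Fin 2 → K →ₗ[F] F := ![Algebra.trace F K, (Algebra.trace F K).comp (LinearMap.mulLeft F w)]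
  let f : (Fin a ⊕ Fin a → K) →ₗ[F] (Fin (2 * a) ⊕ Fin (2 * a) → F) := LinearMap.pi (Sum.elim
    (fun k => (C (e.symm k).1).comp (LinearMap.proj (Sum.inl (e.symm k).2)))
    (fun k => (T (e.symm k).1).comp (LinearMap.proj (Sum.inr (e.symm k).2))))
  have hfl : ∀ u j i, f u (.inl (e (j, i))) = C j (u (.inl i)) := fun u j i => by simp [f]
  have hfr' : ∀ u j i, f u (.inr (e (j, i))) = T j (u (.inr i)) := fun u j i => by simp [f]
  have hf : ∀ u, f u = 0 → u = 0 := fun u hu => funext fun i => by
    rcases i with i | i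
    · refine P.symm.injective ?_
      rw [Pi.zero_apply, map_zero]
      exact Prod.ext ((hfl u 0 i).symm.trans (by rw [hu]; rfl)) ((hfl u 1 i).symm.trans (by rw [hu]; rfl))
    · exact Lib.Linear.FieldReduce.eq_zero_of_traces hF hK hw
        ((hfr' u 0 i).symm.trans (by rw [hu]; rfl)) ((hfr' u 1 i).symm.trans (by rw [hu]; rfl))
  obtain ⟨E, hE⟩ := Lib.Linear.FieldReduce.exists_coords
    (by rw [hfr, Fintype.card_sum, Fintype.card_sum, Fintype.card_fin, Fintype.card_fin]; ring) f hf
  have hpair : ∀ x y : K, T 0 y * C 0 x + T 1 y * C 1 x = Algebra.trace F K (y * x) := by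
    intro x y
    obtain ⟨⟨c, d⟩, rfl⟩ := P.surjective x
    show Algebra.trace F K y * (P.symm (P (c, d))).1 + Algebra.trace F K (w * y) * (P.symm (P (c, d))).2 = _
    rw [P.symm_apply_apply, hP,
      show y * (algebraMap F K c + algebraMap F K d * w) = c • y + d • (w * y) by
        rw [Algebra.smul_def, Algebra.smul_def]; ring, map_add, map_smul, map_smul, smul_eq_mul, smul_eq_mul]
    ring
  have key : ∀ u v, Algebra.trace F K (u ⬝ᵥ (Matrix.J (Fin a) K *ᵥ v)) =
      E u ⬝ᵥ (Matrix.J (Fin (2 * a)) F *ᵥ E v) := by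
    intro u v
    rw [Lib.Linear.FieldReduce.dot_J, Lib.Linear.FieldReduce.dot_J, map_sum, hE, hE, ← e.sum_comp,
      Fintype.sum_prod_type, Fin.sum_univ_two, ← Finset.sum_add_distrib]
    refine Finset.sum_congr rfl fun i _ => ?_
    simp only [hfl, hfr', map_sub]
    rw [mul_comm (u (.inl i)), ← hpair, ← hpair]
    ring
  have mem : ∀ g : Matrix.symplecticGroup (Fin a) K, Lib.Linear.FieldReduce.restrictMat E (g : Matrix _ _ K) ∈
      Matrix.symplecticGroup (Fin (2 * a)) F := by
    intro g
    refine Lib.Linear.FieldReduce.symp_of_form fun x y => ?_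
    obtain ⟨u, rfl⟩ := E.surjective x
    obtain ⟨v, rfl⟩ := E.surjective y
    rw [Lib.Linear.FieldReduce.restrictMat_mulVec, Lib.Linear.FieldReduce.restrictMat_mulVec, ← key, ← key,
      Lib.Linear.FieldReduce.symp_form g.2]
  refine ⟨{ toFun := fun g => ⟨_, mem g⟩, map_one' := Subtype.ext (map_one _),
            map_mul' := fun g h => Subtype.ext (map_mul _ _ _) }, fun g h e' => ?_⟩
  exact Subtype.ext (Lib.Linear.FieldReduce.restrictMat_injective E (congrArg Subtype.val e'))

end Cfsg.Agent.S2678
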