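import Cfsg.Statements.S2679
import Cfsg.Agent.Lib.Linear.FieldReduce

set_option autoImplicit false
open Cfsg
open scoped Matrix

namespace Cfsg.Agent.S2679

/-- An elliptic orthogonal group embeds in the hyperbolic orthogonal group of the same dimension over the quadratic extension: for a field F with q elements and a field K with q² elements there is an injective homomorphism from O⁻_2m(F) (isometries of Σ_(j<m−1) x_j y_j + z₁² + a z₁z₂ + c z₂², binary part anisotropic) to O⁺_2m(K) (isometries of Σ_(j<m) x_j y_j over K). -/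
theorem result {F K : Type*} [Field F] [Fintype F] [Field K] [Fintype K] {q : ℕ} (hF : Fintype.card F = q) (hK : Fintype.card K = q ^ 2) {m : ℕ} (hm : 1 ≤ m) (a c : F) (hac : ∀ z₁ z₂ : F, z₁ ^ 2 + a * z₁ * z₂ + c * z₂ ^ 2 = 0 → z₁ = 0 ∧ z₂ = 0) : ∃ φ : ↥(Cfsg.isometryGroup F (Cfsg.quadFormMinus (m - 1) F a c)) →* ↥(Cfsg.isometryGroup K (Cfsg.quadFormPlus m K)), Function.Injective φ := by
  classical
  obtain ⟨_inst, hfr⟩ := Lib.Linear.FieldReduce.exists_algebra hF hK
  obtain ⟨n, rfl⟩ : ∃ n, m = n + 1 := ⟨m - 1, by omega⟩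
  show ∃ φ : ↥(Cfsg.isometryGroup F (Cfsg.quadFormMinus n F a c)) →* ↥(Cfsg.isometryGroup K (Cfsg.quadFormPlus (n + 1) K)),
    Function.Injective φ
  obtain ⟨w, hw, hsum', hprod⟩ : ∃ w : K, w ^ q ≠ w ∧ w + w ^ q = algebraMap F K a ∧
      w * w ^ q = algebraMap F K c := by
    have hirr : Irreducible (Polynomial.X ^ 2 - Polynomial.C a * Polynomial.X + Polynomial.C c : Polynomial F) := by
      have hdeg : (Polynomial.X ^ 2 - Polynomial.C a * Polynomial.X + Polynomial.C c : Polynomial F).natDegree = 2 := by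
        compute_degree!
      refine (Polynomial.irreducible_iff_roots_eq_zero_of_degree_le_three (by omega) (by omega)).mpr ?_
      refine Multiset.eq_zero_of_forall_notMem fun r hr => ?_
      rw [Polynomial.mem_roots (fun h => by rw [h] at hdeg; simp at hdeg)] at hr
      simp at hr
      exact one_ne_zero (neg_eq_zero.mp (hac r (-1) (by linear_combination hr)).2)
    haveI := Fact.mk hirr
    have hne : (Polynomial.X ^ 2 - Polynomial.C a * Polynomial.X + Polynomial.C c : Polynomial F) ≠ 0 := hirr.ne_zero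
    obtain ⟨ψ⟩ : Nonempty (AdjoinRoot (Polynomial.X ^ 2 - Polynomial.C a * Polynomial.X + Polynomial.C c :
        Polynomial F) →ₐ[F] K) := by
      refine FiniteField.nonempty_algHom_of_finrank_dvd (dvd_of_eq ?_)
      rw [(AdjoinRoot.powerBasis hne).finrank, hfr, AdjoinRoot.powerBasis_dim]
      compute_degree!
    set w := ψ (AdjoinRoot.root _) with hwdef
    have hroot : w ^ 2 - algebraMap F K a * w + algebraMap F K c = 0 := by
      have h1 := congrArg ψ (AdjoinRoot.eval₂_root (Polynomial.X ^ 2 - Polynomial.C a * Polynomial.X + Polynomial.C c :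
        Polynomial F))
      simp only [Polynomial.eval₂_add, Polynomial.eval₂_sub, Polynomial.eval₂_mul, Polynomial.eval₂_X_pow,
        Polynomial.eval₂_C, Polynomial.eval₂_X, map_add, map_sub, map_mul, map_pow, map_zero] at h1
      rwa [← AdjoinRoot.algebraMap_eq, ψ.commutes, ψ.commutes] at h1
    have hw : w ^ q ≠ w := by
      intro h
      obtain ⟨r, hr⟩ := Lib.Linear.FieldReduce.mem_range_of_fixed hF hK h
      rw [← hr, ← map_pow, ← map_mul, ← map_sub, ← map_add, map_eq_zero] at hroot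
      exact one_ne_zero (neg_eq_zero.mp (hac r (-1) (by linear_combination hroot)).2)
    have hroot' : (w ^ q) ^ 2 - algebraMap F K a * w ^ q + algebraMap F K c = 0 := by
      have hz : (0 : K) ^ q = 0 := zero_pow (show q ≠ 0 from hF ▸ Fintype.card_ne_zero)
      have h1 := congrArg (fun z => z ^ q) hroot
      simp only [hz] at h1
      rw [Lib.Linear.FieldReduce.conj_add hF hK, sub_eq_add_neg, Lib.Linear.FieldReduce.conj_add hF hK,
        ← neg_mul, ← map_neg, mul_pow, Lib.Linear.FieldReduce.conj_base hF hK,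
        Lib.Linear.FieldReduce.conj_base hF hK, ← pow_mul, mul_comm 2 q, pow_mul, map_neg, neg_mul,
        ← sub_eq_add_neg] at h1
      exact h1
    have hs : w + w ^ q = algebraMap F K a := by
      have : (w ^ q - w) * (w + w ^ q - algebraMap F K a) = 0 := by linear_combination hroot' - hroot
      rcases mul_eq_zero.mp this with h | h
      · exact absurd (sub_eq_zero.mp h) hw
      · exact sub_eq_zero.mp h
    exact ⟨w, hw, hs, by linear_combination w * hs - hroot⟩
  obtain ⟨P, hP⟩ := Lib.Linear.FieldReduce.exists_basis_equiv hF hK hw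
  let ι := algebraMap F K
  let f : ((Fin n ⊕ Fin n) ⊕ Fin 2 → K) →ₗ[K] (Fin (n + 1) ⊕ Fin (n + 1) → K) := LinearMap.pi (Sum.elim
    (Fin.lastCases (LinearMap.proj (Sum.inr 0) + w • LinearMap.proj (Sum.inr 1))
      (fun j => LinearMap.proj (Sum.inl (Sum.inl j))))
    (Fin.lastCases (LinearMap.proj (Sum.inr 0) + (w ^ q) • LinearMap.proj (Sum.inr 1))
      (fun j => LinearMap.proj (Sum.inl (Sum.inr j)))))
  have h1 : ∀ v j, f v (.inl (Fin.castSucc j)) = v (.inl (.inl j)) := fun v j => by simp [f]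
  have h2 : ∀ v j, f v (.inr (Fin.castSucc j)) = v (.inl (.inr j)) := fun v j => by simp [f]
  have h3 : ∀ v, f v (.inl (Fin.last n)) = v (.inr 0) + w * v (.inr 1) := fun v => by simp [f]
  have h4 : ∀ v, f v (.inr (Fin.last n)) = v (.inr 0) + w ^ q * v (.inr 1) := fun v => by simp [f]
  have hf : ∀ v, f v = 0 → v = 0 := by
    intro v hv
    have e1 := (h3 v).symm.trans (congrFun hv _)
    have e2 := (h4 v).symm.trans (congrFun hv _)
    simp only [Pi.zero_apply] at e1 e2
    have e3 : (w ^ q - w) * v (.inr 1) = 0 := by linear_combination e2 - e1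
    have e4 := (mul_eq_zero.mp e3).resolve_left (sub_ne_zero.mpr hw)
    rw [e4, mul_zero, add_zero] at e1
    funext i
    rcases i with (j | j) | j
    · exact (h1 v j).symm.trans (congrFun hv _)
    · exact (h2 v j).symm.trans (congrFun hv _)
    · fin_cases j
      · exact e1
      · exact e4
  obtain ⟨E, hE⟩ := Lib.Linear.FieldReduce.exists_coords (F := K) (K := K)
    (by rw [Module.finrank_self, Fintype.card_sum, Fintype.card_sum, Fintype.card_sum, Fintype.card_fin,
      Fintype.card_fin, Fintype.card_fin]; ring) f hf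
  let QK := Cfsg.quadFormMinus n K (ι a) (ι c)
  have hQ : ∀ v, Cfsg.quadFormPlus (n + 1) K (E v) = QK v := by
    intro v
    rw [hE]
    show _ = Cfsg.quadFormMinus n K (ι a) (ι c) v
    rw [Cfsg.quadFormPlus, Cfsg.quadFormMinus, Fin.sum_univ_castSucc]
    simp only [h1, h2, h3, h4]
    rw [show ι a = algebraMap F K a from rfl, show ι c = algebraMap F K c from rfl, ← hsum', ← hprod]
    ring
  let QF := Cfsg.quadFormMinus n F a c
  have hext : ∀ x y : (Fin n ⊕ Fin n) ⊕ Fin 2 → F, QK (fun i => ι (x i) + ι (y i) * w) =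
      ι (QF x) + w * (ι (QF (x + y)) - ι (QF x) - ι (QF y)) + w ^ 2 * ι (QF y) := by
    intro x y
    show Cfsg.quadFormMinus n K (ι a) (ι c) _ = _
    simp only [QF, Cfsg.quadFormMinus, Pi.add_apply, map_add, map_mul, map_pow, map_sum, add_mul, mul_add,
      Finset.sum_add_distrib]
    simp only [Finset.mul_sum, mul_sub, mul_add, Finset.sum_add_distrib]
    have s1 : ∑ i, ι (x (Sum.inl (Sum.inl i))) * (ι (y (Sum.inl (Sum.inr i))) * w) =
        ∑ i, w * (ι (x (Sum.inl (Sum.inl i))) * ι (y (Sum.inl (Sum.inr i)))) :=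
      Finset.sum_congr rfl fun i _ => by ring
    have s2 : ∑ i, ι (y (Sum.inl (Sum.inl i))) * w * ι (x (Sum.inl (Sum.inr i))) =
        ∑ i, w * (ι (y (Sum.inl (Sum.inl i))) * ι (x (Sum.inl (Sum.inr i)))) :=
      Finset.sum_congr rfl fun i _ => by ring
    have s3 : ∑ i, ι (y (Sum.inl (Sum.inl i))) * w * (ι (y (Sum.inl (Sum.inr i))) * w) =
        ∑ i, w ^ 2 * (ι (y (Sum.inl (Sum.inl i))) * ι (y (Sum.inl (Sum.inr i)))) :=
      Finset.sum_congr rfl fun i _ => by ring
    rw [s1, s2, s3]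
    ring
  let φ₀ : Matrix ((Fin n ⊕ Fin n) ⊕ Fin 2) ((Fin n ⊕ Fin n) ⊕ Fin 2) F →*
      Matrix (Fin (n + 1) ⊕ Fin (n + 1)) (Fin (n + 1) ⊕ Fin (n + 1)) K :=
    (Lib.Linear.FieldReduce.restrictMat E).comp ι.mapMatrix.toMonoidHom
  have mem : ∀ g : Cfsg.isometryGroup F (Cfsg.quadFormMinus n F a c),
      Units.map φ₀ (g : GL ((Fin n ⊕ Fin n) ⊕ Fin 2) F) ∈ Cfsg.isometryGroup K (Cfsg.quadFormPlus (n + 1) K) := by
    intro g z z'
    obtain ⟨v, rfl⟩ := E.surjective z
    show Cfsg.quadFormPlus (n + 1) K (Lib.Linear.FieldReduce.restrictMat E _ *ᵥ E v) = Cfsg.quadFormPlus (n + 1) K (E v)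
    rw [Lib.Linear.FieldReduce.restrictMat_mulVec, hQ, hQ]
    set A := ((g : GL ((Fin n ⊕ Fin n) ⊕ Fin 2) F) : Matrix ((Fin n ⊕ Fin n) ⊕ Fin 2) ((Fin n ⊕ Fin n) ⊕ Fin 2) F) with hA
    have hg : ∀ x, QF (A *ᵥ x) = QF x := fun x => g.2 x x
    obtain ⟨x, y, rfl⟩ : ∃ x y, v = fun i => ι (x i) + ι (y i) * w :=
      ⟨fun i => (P.symm (v i)).1, fun i => (P.symm (v i)).2, funext fun i => by
        rw [← hP, Prod.mk.eta, P.apply_symm_apply]⟩
    have hmv : ι.mapMatrix.toMonoidHom A *ᵥ (fun i => ι (x i) + ι (y i) * w) =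
        fun i => ι ((A *ᵥ x) i) + ι ((A *ᵥ y) i) * w := by
      funext i
      simp only [Matrix.mulVec, dotProduct, map_sum, map_mul, Finset.sum_mul, ← Finset.sum_add_distrib]
      refine Finset.sum_congr rfl fun j _ => ?_
      show ι (A i j) * _ = _
      ring
    rw [hmv, hext, hext, hg, hg, ← Matrix.mulVec_add, hg]
  refine ⟨{ toFun := fun g => ⟨_, mem g⟩, map_one' := Subtype.ext (map_one _),
            map_mul' := fun g h => Subtype.ext (map_mul _ _ _) }, fun g h e' => ?_⟩
  refine Subtype.ext (Units.ext ?_)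
  exact Matrix.map_injective ι.injective (Lib.Linear.FieldReduce.restrictMat_injective E
    (congrArg Units.val (congrArg Subtype.val e')))

end Cfsg.Agent.S2679
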