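import Cfsg.Statements.S2686
import Cfsg.Agent.Lib.Linear.Balance.PSLGraph

set_option autoImplicit false
open Cfsg

namespace Cfsg.Agent.S2686

open Cfsg.Lib.Linear Cfsg.Lib.Linear.AutPSL
open Cfsg.Lib.Linear.Descent (sm tw)

/-- A criterion for the failure of local balance in almost simple groups with linear socle. Let F be a finite field of characteristic r and K = PSL_n(F) (n ≥ 2) simple. Let A be a group of automorphisms of K containing all inner automorphisms (an almost simple group with socle K), and β ∈ A an automorphism of prime order p ≠ r that is not inner-diagonal (not induced by conjugation by an invertible matrix). Then the largest normal subgroup of C_A(β) of order prime to p is nontrivial if and only if β is the composite of an inner-diagonal automorphism with the automorphism induced by a field automorphism applied entrywise (β is of field type) and p does not divide the number of fixed points of β on K. -/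
theorem result
    (F : Type*) [Field F] [Fintype F] (r : ℕ) [Fact r.Prime] [CharP F r] (n : ℕ) (hn : 2 ≤ n)
    (hK : IsSimpleGroup (Matrix.ProjectiveSpecialLinearGroup (Fin n) F))
    (𝒢 : Subgroup (MulAut (Matrix.ProjectiveSpecialLinearGroup (Fin n) F))) (hinn : ∀ k : Matrix.ProjectiveSpecialLinearGroup (Fin n) F, MulAut.conj k ∈ 𝒢)
    (p : ℕ) [Fact p.Prime] (hpr : p ≠ r) (β : MulAut (Matrix.ProjectiveSpecialLinearGroup (Fin n) F)) (hβ : β ∈ 𝒢) (hord : orderOf β = p)
    (hnot : ¬ Cfsg.IsInnerDiagonalAutPSL β) :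
    Cfsg.pPrimeCore p ↥(𝒢 ⊓ Subgroup.centralizer {β}) ≠ ⊥ ↔
      ((∃ γ φ : MulAut (Matrix.ProjectiveSpecialLinearGroup (Fin n) F), Cfsg.IsInnerDiagonalAutPSL γ ∧ Cfsg.IsFieldAutPSL φ ∧ β = φ.trans γ) ∧
        Nat.Coprime p (Nat.card ↥(MonoidHom.eqLocus β.toMonoidHom (MonoidHom.id (Matrix.ProjectiveSpecialLinearGroup (Fin n) F))))) := by
  have hp : p.Prime := Fact.out
  haveI : Nontrivial (Fin n) := Fin.nontrivial_iff_two_le.2 hn
  have field : ∀ (g : GL (Fin n) F) (σ : F ≃+* F), β = innd g * fld σ →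
      (Cfsg.pPrimeCore p ↥(𝒢 ⊓ Subgroup.centralizer {β}) ≠ ⊥ ↔
        ((∃ γ φ : MulAut (Matrix.ProjectiveSpecialLinearGroup (Fin n) F), Cfsg.IsInnerDiagonalAutPSL γ ∧
            Cfsg.IsFieldAutPSL φ ∧ β = φ.trans γ) ∧
          Nat.Coprime p (Nat.card ↥(MonoidHom.eqLocus β.toMonoidHom
            (MonoidHom.id (Matrix.ProjectiveSpecialLinearGroup (Fin n) F)))))) := by
    intro g σ hb
    have hσ : σ ≠ 1 := fun h => hnot ((isInnerDiagonal_iff β).2 ⟨g, by rw [hb, h, map_one, mul_one]⟩)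
    have hσp : orderOf σ = p := by
      refine orderOf_eq_prime ?_ hσ
      have h1 : (innd g * fld σ : MulAut (Matrix.ProjectiveSpecialLinearGroup (Fin n) F)) ^ p = 1 := by
        rw [← hb, ← hord, pow_orderOf_eq_one]
      rw [innd_fld_pow] at h1
      have h2 := eq_inv_of_mul_eq_one_left h1
      rw [← map_inv] at h2
      exact inv_eq_one.1 (innd_eq_fld h2).1
    obtain ⟨a, -, ha⟩ := (field_coset hn hp hσp g).1 (hb ▸ hord)
    rw [← hb] at ha
    have hbb : a⁻¹ * β * a⁻¹⁻¹ = fld σ := by rw [ha]; group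
    have key := Balance.field_balance r hn hpr hσp (𝒢.map (MulAut.conj a⁻¹).toMonoidHom) (Balance.inn_map 𝒢 hinn a⁻¹)
    rw [← hbb, Balance.card_fixed_conj] at key
    rw [ne_eq, Balance.core_conj] at key
    rw [ne_eq, key]
    refine ⟨fun h => ⟨⟨innd g, fld σ, (isInnerDiagonal_iff _).2 ⟨g, rfl⟩, ⟨σ, fun s s' hs => ?_⟩, hb⟩, h⟩, And.right⟩
    rw [fld_mk]
    exact congrArg _ (Subtype.ext (by rw [frobHom_coe, hs]))
  obtain ⟨g, σ, hb | hb⟩ := exists_decomp (p := r) hn β
  · exact field g σ hb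
  rcases Nat.lt_or_ge n 3 with h3 | h3
  · obtain rfl : n = 2 := by omega
    obtain ⟨J, hJ⟩ := gr_eq_innd_two (F := F)
    exact field (g * sm σ J) σ (by rw [hb, hJ, mul_assoc, fld_mul_innd', ← mul_assoc, ← map_mul])
  have hp2 : p = 2 := by
    by_contra h
    obtain ⟨T, τ, hT⟩ := Balance.exists_plain r hn (b := β)
      (hord.symm ▸ (Nat.coprime_primes hp Nat.prime_two).2 h)
    exact ne_mul_gr h3 T g τ σ (hT.symm.trans hb)
  subst hp2
  have hcore := Balance.graph_balance r h3 (fun h => hpr h.symm) 𝒢 hinn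
    (by rw [← sq, ← hord, pow_orderOf_eq_one]) hb
  refine ⟨fun h => absurd hcore h, ?_⟩
  rintro ⟨⟨γ, φ, hγ, ⟨τ, hτ⟩, hβφ⟩, -⟩
  obtain ⟨T, rfl⟩ := (isInnerDiagonal_iff γ).1 hγ
  obtain rfl : φ = fld τ := aut_ext fun s => hτ s _ (frobHom_coe τ s)
  exact absurd (hβφ.symm.trans hb) (ne_mul_gr h3 T g τ σ)

end Cfsg.Agent.S2686
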