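import Cfsg.Statements.S2687
import Cfsg.Agent.Lib.Linear.Balance.PSUFieldMain
import Cfsg.Agent.Lib.Linear.Balance.PSUGraph
-- import your own Cfsg.Agent.* helpers here

set_option autoImplicit false
open Cfsg

namespace Cfsg.Agent.S2687

open Cfsg.Lib.Linear Cfsg.Lib.Linear.AutPSU
open scoped MatrixGroups

/-- `PSU_3(2)` is not simple. -/
theorem not_simple_three_two {F : Type*} [Field F] [Fintype F] (hF : Fintype.card F = 4) :
    ¬ IsSimpleGroup (Cfsg.PSU 3 F 2) := fun hK => by
  obtain ⟨h72, f, -, h9, -⟩ := Cfsg.Lib.H3.UnitaryThreeTwo.exists_hom hF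
  rcases (inferInstance : f.ker.Normal).eq_bot_or_eq_top with h | h
  · rw [h, Subgroup.card_bot] at h9
    omega
  · rw [h, Subgroup.card_top, h72] at h9
    omega

/-- A criterion for the failure of local balance in almost simple groups with unitary socle. Let F be a finite field of characteristic r with q² elements and K = PSU_n(q) (n ≥ 3, the central quotient of the determinant-one isometries of the standard Hermitian form) simple. Let A be a group of automorphisms of K containing all inner automorphisms, and β ∈ A an automorphism of prime order p ≠ r that is not inner-diagonal (not induced by conjugation by a matrix of the general unitary group). Then the largest normal subgroup of C_A(β) of order prime to p is nontrivial if and only if β is the composite of an inner-diagonal automorphism with the automorphism induced by a field automorphism of F applied entrywise and p does not divide the number of fixed points of β on K. -/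
theorem result
    (F : Type*) [Field F] [Fintype F] (r : ℕ) [Fact r.Prime] [CharP F r] (q : ℕ) (hF : Fintype.card F = q ^ 2)
    (n : ℕ) (hn : 3 ≤ n) (hK : IsSimpleGroup (Cfsg.PSU n F q))
    (𝒢 : Subgroup (MulAut (Cfsg.PSU n F q))) (hinn : ∀ k : Cfsg.PSU n F q, MulAut.conj k ∈ 𝒢)
    (p : ℕ) [Fact p.Prime] (hpr : p ≠ r) (β : MulAut (Cfsg.PSU n F q)) (hβ : β ∈ 𝒢) (hord : orderOf β = p)
    (hnot : ¬ Cfsg.IsInnerDiagonalAutPSU β) :
    Cfsg.pPrimeCore p ↥(𝒢 ⊓ Subgroup.centralizer {β}) ≠ ⊥ ↔
      ((∃ γ φ : MulAut (Cfsg.PSU n F q), Cfsg.IsInnerDiagonalAutPSU γ ∧ (∃ σ : F ≃+* F, Cfsg.IsFieldAutPSUOf σ φ) ∧ β = φ.trans γ) ∧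
        Nat.Coprime p (Nat.card ↥(MonoidHom.eqLocus β.toMonoidHom (MonoidHom.id (Cfsg.PSU n F q))))) := by
  classical
  have hp : p.Prime := Fact.out
  have h32 : ¬ (n = 3 ∧ q = 2) := fun h => by
    obtain ⟨rfl, rfl⟩ := h
    exact not_simple_three_two hF hK
  obtain ⟨g, σ, hb⟩ := exists_decomp hF (p := r) hn h32 β
  subst hb
  have hfirst : ∃ γ φ : MulAut (Cfsg.PSU n F q), Cfsg.IsInnerDiagonalAutPSU γ ∧
      (∃ τ : F ≃+* F, Cfsg.IsFieldAutPSUOf τ φ) ∧ (innd g * fld σ : MulAut (Cfsg.PSU n F q)) = φ.trans γ := by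
    refine ⟨innd g, fld σ, ⟨g.1, g.2, fun s s' h => ?_⟩, ⟨σ, isFieldAutPSUOf_iff.2 rfl⟩, rfl⟩
    rw [innd_mk]
    exact congrArg _ (Subtype.ext (Subtype.ext h.symm))
  have hσ : σ ≠ 1 := fun h => hnot ⟨g.1, g.2, fun s s' hs => by
    rw [h, map_one, mul_one, innd_mk]
    exact congrArg _ (Subtype.ext (Subtype.ext hs.symm))⟩
  have hσp : orderOf σ = p := by
    refine orderOf_eq_prime ?_ hσ
    obtain ⟨T, -, e⟩ := innd_fld_pow (n := n) (q := q) σ g p
    rw [← hord, pow_orderOf_eq_one, hord] at e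
    exact (innd_mul_fld_eq_one hF r hn e.symm).2
  rcases hp.eq_two_or_odd' with rfl | hodd
  · obtain ⟨hbot, hncop⟩ := Balance.psu_graph_balance hF r hn h32 (fun h => hpr h.symm) 𝒢 hinn hσp g
      (by rw [← sq, ← hord, pow_orderOf_eq_one])
    exact ⟨fun h => absurd hbot h, fun h => absurd h.2 hncop⟩
  · letI : Fintype (AutPSL.fixedF σ) := Fintype.ofFinite _
    obtain ⟨q₀, f, -, -, -, D⟩ := Balance.exists_small hF r hodd hσp
    obtain ⟨a, -, ha⟩ := (D.field_coset hF r hn hp hσp g).1 hord
    have hbb : a⁻¹ * (innd g * fld σ) * a⁻¹⁻¹ = fld σ := by rw [ha]; group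
    have key := Balance.psu_field_balance hF r hn h32 hodd hσp (𝒢.map (MulAut.conj a⁻¹).toMonoidHom)
      (Balance.inn_map 𝒢 hinn a⁻¹)
    rw [← hbb, Balance.card_fixed_conj] at key
    rw [ne_eq, Balance.core_conj] at key
    rw [ne_eq, key]
    exact ⟨fun h => ⟨hfirst, h⟩, And.right⟩

end Cfsg.Agent.S2687
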