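import Cfsg.Statements.S2697
import Cfsg.Agent.Lib.Linear.AutPSL.FieldClass
-- import your own Cfsg.Agent.* helpers here

set_option autoImplicit false
open Cfsg

namespace Cfsg.Agent.S2697

open Cfsg.Lib.Linear.AutPSL

/-- Let T = PSL_n(F) be simple over a finite field (n ≥ 2; |F| ≥ 4 when n = 2) and let x be a field automorphism or a graph-field automorphism of T of prime order r. Then an element y of the coset Inndiag(T)·x (that is, y = δ x with δ in the inner-diagonal group, the image of PGL_n(F)) has order r if and only if y is conjugate to x by an element of Inndiag(T). -/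
theorem result {F : Type*} [Field F] [Fintype F] {p f : ℕ} [Fact p.Prime] (hF : Fintype.card F = p ^ f) (hf : 1 ≤ f) {n : ℕ} (hn : 2 ≤ n) (hs : n = 2 → 4 ≤ Fintype.card F) (x δ : MulAut (Matrix.ProjectiveSpecialLinearGroup (Fin n) F)) (hx : Cfsg.IsFieldAutClassPSL x ∨ Cfsg.IsGraphFieldAutClassPSL x) {r : ℕ} (hr : r.Prime) (hxr : orderOf x = r) (hδ : δ ∈ Cfsg.inndiagPSL n F) :
    orderOf (δ * x) = r ↔ Cfsg.IsConjUnder (Cfsg.inndiagPSL n F) x (δ * x) := by
  rw [inndiag_eq] at hδ ⊢
  obtain ⟨d, rfl⟩ := hδ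
  have key : ∀ (θ : MulAut (Matrix.ProjectiveSpecialLinearGroup (Fin n) F)) (g : GL (Fin n) F),
      (∀ A : GL (Fin n) F, orderOf (innd A * θ) = r ↔
        Cfsg.IsConjUnder (innd : GL (Fin n) F →* MulAut _).range θ (innd A * θ)) →
      x = innd g * θ * (innd g)⁻¹ →
      (orderOf (innd d * x) = r ↔ Cfsg.IsConjUnder (innd : GL (Fin n) F →* MulAut _).range x (innd d * x)) := by
    intro θ g hθ hx'
    have e : innd d * x = innd g * (innd (g⁻¹ * d * g) * θ) * (innd g)⁻¹ := by
      rw [hx']; simp only [map_mul, map_inv]; group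
    rw [e, orderOf_conj, hθ, hx', isConjUnder_conj (MonoidHom.mem_range.2 ⟨g, rfl⟩)]
  rcases hx with hx | hx
  · obtain ⟨σ, g, hg, hσ⟩ := field_class hn hf hF hx
    exact key _ g (fun A => field_coset hn hr (hσ.trans hxr) A) hg
  · obtain ⟨σ, g, hg, hσ, h2⟩ := graphField_class hx.1 hf hF hx (hxr ▸ hr)
    obtain rfl : r = 2 := hxr.symm.trans h2
    exact key _ g (fun A => graphField_coset hx.1 hσ A) hg

end Cfsg.Agent.S2697
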