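import Cfsg.Statements.S2699
import Cfsg.Agent.Lib.Linear.AutPSL.GraphOdd
import Cfsg.Agent.Lib.Linear.AutPSL.GraphTwoCent
-- import your own Cfsg.Agent.* helpers here

set_option autoImplicit false
open Cfsg

namespace Cfsg.Agent.S2699

open Cfsg.Lib.Linear.AutPSL Cfsg.Lib.Linear.AutPSL.GForms

/-- Let T = PSL_n(F) over the field with p^f elements with n ≥ 3 odd, n = 2m + 1, and G = Inndiag(T) the image of PGL_n(F). Every involutory graph automorphism γ of T (an inner-diagonal automorphism followed by inverse-transpose, of order 2) has centralizer C_G(γ) isomorphic to the projective conformal orthogonal group of the form x₀² + Σ xᵢ yᵢ in dimension n (for q even this group is isomorphic to Sp_{n−1}(q)), and any two involutory graph automorphisms are G-conjugate. -/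
theorem result {F : Type*} [Field F] [Fintype F] {p f : ℕ} [Fact p.Prime] (hF : Fintype.card F = p ^ f) (hf : 1 ≤ f) {n : ℕ} (hn : 3 ≤ n) {m : ℕ} (hnm : n = 2 * m + 1) (γ γ' : MulAut (Matrix.ProjectiveSpecialLinearGroup (Fin n) F)) (hγ : Cfsg.IsGraphAutClassPSL γ) (hγ2 : orderOf γ = 2) (hγ' : Cfsg.IsGraphAutClassPSL γ') (hγ'2 : orderOf γ' = 2) :
    Nonempty (↥(Cfsg.inndiagPSL n F ⊓ Subgroup.centralizer {γ}) ≃* Cfsg.PGO F (Cfsg.quadFormOdd m F)) ∧ Cfsg.IsConjUnder (Cfsg.inndiagPSL n F) γ γ' := by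
  obtain ⟨M₀, ⟨e0⟩, hcl⟩ : ∃ M₀ : Matrix.GeneralLinearGroup (Fin n) F,
      Nonempty (↥((innd : Matrix.GeneralLinearGroup (Fin n) F →* _).range ⊓ Subgroup.centralizer {grOf M₀}) ≃*
        Cfsg.PGO F (Cfsg.quadFormOdd m F)) ∧
      ∀ δ : MulAut (Matrix.ProjectiveSpecialLinearGroup (Fin n) F), Cfsg.IsGraphAutClassPSL δ → orderOf δ = 2 →
        Cfsg.IsConjUnder (innd : Matrix.GeneralLinearGroup (Fin n) F →* _).range (grOf M₀) δ := by
    rcases Nat.even_or_odd (Fintype.card F) with h | h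
    · haveI : CharP F 2 := by
        have h2 := FiniteField.even_card_iff_char_two.2 (Nat.even_iff.1 h)
        exact ringChar.eq_iff.1 h2
      exact odd_dim_two hn hnm
    · exact odd_dim h hn hnm
  rw [inndiag_eq]
  obtain ⟨k, hk, hk'⟩ := hcl γ hγ hγ2
  obtain ⟨k', hk1, hk1'⟩ := hcl γ' hγ' hγ'2
  obtain ⟨ec⟩ := centralizer_conj_equiv hk (grOf M₀)
  refine ⟨?_, k' * k⁻¹, mul_mem hk1 (inv_mem hk), ?_⟩
  · rw [hk']
    exact ⟨ec.trans e0⟩
  · rw [hk', hk1']
    group

end Cfsg.Agent.S2699
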