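import Cfsg.Statements.S2700
import Cfsg.Agent.Lib.Linear.AutPSL.GraphOdd
-- import your own Cfsg.Agent.* helpers here

set_option autoImplicit false
open Cfsg

namespace Cfsg.Agent.S2700

open Cfsg.Lib.Linear.AutPSL Cfsg.Lib.Linear.AutPSL.GForms

/-- Let T = PSL_n(F) over a finite field of odd order with n = 2m ≥ 4 even, and G = Inndiag(T) the image of PGL_n(F). The involutory graph automorphisms of T fall into exactly three G-classes, with representatives γ₁, γ₂, γ₃ whose centralizers in G are isomorphic respectively to the projective conformal symplectic group PGSp_n(F), the projective conformal orthogonal group of the plus-type form Σ xᵢ yᵢ, and that of a minus-type form Σ xᵢ yᵢ + z₁² + a z₁ z₂ + b z₂² (anisotropic binary part) in dimension n. -/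
theorem result {F : Type*} [Field F] [Fintype F] (hodd : Odd (Fintype.card F)) {n m : ℕ} (hm : 2 ≤ m) (hnm : n = 2 * m) :
    ∃ (γ₁ γ₂ γ₃ : MulAut (Matrix.ProjectiveSpecialLinearGroup (Fin n) F)) (a b : F), (∀ z₁ z₂ : F, z₁ ^ 2 + a * z₁ * z₂ + b * z₂ ^ 2 = 0 → z₁ = 0 ∧ z₂ = 0) ∧ Cfsg.IsGraphAutClassPSL γ₁ ∧ orderOf γ₁ = 2 ∧ Cfsg.IsGraphAutClassPSL γ₂ ∧ orderOf γ₂ = 2 ∧ Cfsg.IsGraphAutClassPSL γ₃ ∧ orderOf γ₃ = 2 ∧ ¬ Cfsg.IsConjUnder (Cfsg.inndiagPSL n F) γ₁ γ₂ ∧ ¬ Cfsg.IsConjUnder (Cfsg.inndiagPSL n F) γ₁ γ₃ ∧ ¬ Cfsg.IsConjUnder (Cfsg.inndiagPSL n F) γ₂ γ₃ ∧ (∀ γ : MulAut (Matrix.ProjectiveSpecialLinearGroup (Fin n) F), Cfsg.IsGraphAutClassPSL γ → orderOf γ = 2 → Cfsg.IsConjUnder (Cfsg.inndiagPSL n F) γ₁ γ ∨ Cfsg.IsConjUnder (Cfsg.inndiagPSL n F) γ₂ γ ∨ Cfsg.IsConjUnder (Cfsg.inndiagPSL n F) γ₃ γ) ∧ Nonempty (↥(Cfsg.inndiagPSL n F ⊓ Subgroup.centralizer {γ₁}) ≃* Cfsg.PGSp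 m F) ∧ Nonempty (↥(Cfsg.inndiagPSL n F ⊓ Subgroup.centralizer {γ₂}) ≃* Cfsg.PGO F (Cfsg.quadFormPlus m F)) ∧ Nonempty (↥(Cfsg.inndiagPSL n F ⊓ Subgroup.centralizer {γ₃}) ≃* Cfsg.PGO F (Cfsg.quadFormMinus (m - 1) F a b)) := by
  obtain ⟨α, hα⟩ := exists_nonsquare' hodd
  obtain ⟨M₁, M₂, M₃, h1, h2, h2s, h3, h3s, e1, e2, e3, hcl⟩ := even_dim (n := n) hodd hm hnm hα
  have hg : ∀ M : Matrix.GeneralLinearGroup (Fin n) F, (M.val.transpose = M.val ∨ M.val.transpose = -M.val) →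
      Cfsg.IsGraphAutClassPSL (grOf M) ∧ orderOf (grOf M) = 2 := fun M hM => by
    refine (graph_iff (by omega) _).2 ⟨M, rfl, ?_⟩
    rcases hM with h | h
    · exact ⟨1, by rw [h, Units.val_one, one_smul]⟩
    · exact ⟨-1, by rw [h, Units.val_neg, Units.val_one, neg_one_smul, neg_neg]⟩
  have h20 := GForms.two_ne_zero' hodd
  rw [inndiag_eq]
  refine ⟨grOf M₁, grOf M₂, grOf M₃, 0, -α, aniso F hα, (hg M₁ (Or.inr h1)).1, (hg M₁ (Or.inr h1)).2,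
    (hg M₂ (Or.inl h2)).1, (hg M₂ (Or.inl h2)).2, (hg M₃ (Or.inl h3)).1, (hg M₃ (Or.inl h3)).2,
    not_conj_skew h20 (by omega) h1 h2, not_conj_skew h20 (by omega) h1 h3, ?_, fun γ hγ hγ2 => ?_, e1, e2, e3⟩
  · refine not_conj_det (m := m) (by omega) hnm fun h => h3s ?_
    obtain ⟨a, ha⟩ := h
    obtain ⟨b, hb⟩ := h2s
    have hd : M₂.val.det ≠ 0 := (Matrix.GeneralLinearGroup.det M₂).ne_zero
    refine isSquare_of_two hd ⟨a * b, ?_⟩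
    linear_combination (-1) ^ m * M₂.val.det * ha + a * a * hb
  · obtain ⟨M, rfl, c, hc⟩ := (graph_iff (by omega) γ).1 ⟨hγ, hγ2⟩
    rcases scale_iff (val_ne_zero (by omega) M) hc with h | h
    · by_cases hs : IsSquare ((-1 : F) ^ m * M.val.det)
      · exact Or.inr (Or.inl ((hcl M).2.1 h hs))
      · exact Or.inr (Or.inr ((hcl M).2.2 h hs))
    · exact Or.inl ((hcl M).1 h)

end Cfsg.Agent.S2700
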