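import Cfsg.Statements.S2702
import Cfsg.Agent.Lib.Linear.AutPSL.GraphSplit
-- import your own Cfsg.Agent.* helpers here

set_option autoImplicit false
open Cfsg

namespace Cfsg.Agent.S2702

open Cfsg.Lib.Linear.AutPSL Cfsg.Lib.Linear.AutPSL.GForms

/-- Let T = PSL_n(F) over the field with q = p^f elements, n ≥ 3, G = Inndiag(T) the image of PGL_n(F), and γ an involutory graph automorphism of T. The G-class of γ is the union of exactly c T-classes, where: if n is even and q is odd, c = gcd(n/2, q − 1) when C_G(γ) is isomorphic to the projective conformal symplectic group PGSp_n(F) (symplectic type) and c = gcd(n, q − 1)/2 otherwise; and c = gcd(n, q − 1) when n is odd or q is even. -/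
theorem result {F : Type*} [Field F] [Fintype F] {p f : ℕ} [Fact p.Prime] (hF : Fintype.card F = p ^ f) (hf : 1 ≤ f) {n : ℕ} (hn : 3 ≤ n) (γ : MulAut (Matrix.ProjectiveSpecialLinearGroup (Fin n) F)) (hγ : Cfsg.IsGraphAutClassPSL γ) (hγ2 : orderOf γ = 2) :
    ((Even n ∧ Odd p ∧ Nonempty (↥(Cfsg.inndiagPSL n F ⊓ Subgroup.centralizer {γ}) ≃* Cfsg.PGSp (n / 2) F)) → Cfsg.splitClassCount (Cfsg.inndiagPSL n F) (Cfsg.Inn (Matrix.ProjectiveSpecialLinearGroup (Fin n) F)) γ = Nat.gcd (n / 2) (p ^ f - 1)) ∧ ((Even n ∧ Odd p ∧ ¬ Nonempty (↥(Cfsg.inndiagPSL n F ⊓ Subgroup.centralizer {γ}) ≃* Cfsg.PGSp (n / 2) F)) → Cfsg.splitClassCount (Cfsg.inndiagPSL n F) (Cfsg.Inn (Matrix.ProjectiveSpecialLinearGroup (Fin n) F)) γ = Nat.gcd n (p ^ f - 1) / 2) ∧ (¬ (Even n ∧ Odd p) → Cfsg.splitClassCount (Cfsg.inndiagPSL n F) (Cfsg.Inn (Matrix.ProjectiveSpecialLinearGroup (Fin n) F)) γ = Nat.gcd n (p ^ f - 1)) := by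
  obtain ⟨M, rfl, c, hc⟩ := (graph_iff hn γ).1 ⟨hγ, hγ2⟩
  rw [inndiag_eq]
  have hpow : p ^ f - 1 = Fintype.card F - 1 := by rw [hF]
  rw [hpow]
  -- the symplectic type is the skew symmetric one
  have hskew : ∀ m : ℕ, n = 2 * m → Odd p →
      (M.val.transpose = -M.val → Nonempty (↥((innd : Matrix.GeneralLinearGroup (Fin n) F →* _).range ⊓
        Subgroup.centralizer {grOf M}) ≃* Cfsg.PGSp m F)) ∧
      (M.val.transpose = M.val → ¬ Nonempty (↥((innd : Matrix.GeneralLinearGroup (Fin n) F →* _).range ⊓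
        Subgroup.centralizer {grOf M}) ≃* Cfsg.PGSp m F)) := by
    intro m hnm hp
    have hodd : Odd (Fintype.card F) := hF ▸ hp.pow
    obtain ⟨α, hα⟩ := exists_nonsquare' hodd
    obtain ⟨M₁, M₂, M₃, -, -, -, -, -, ⟨e1⟩, ⟨e2⟩, ⟨e3⟩, hcl⟩ :=
      even_dim (n := n) hodd (by omega) hnm hα
    refine ⟨fun h => ?_, fun h ⟨e⟩ => ?_⟩
    · obtain ⟨k, hk, hk'⟩ := (hcl M).1 h
      rw [hk']
      obtain ⟨ec⟩ := centralizer_conj_equiv hk (grOf M₁)
      exact ⟨ec.trans e1⟩
    · by_cases hs : IsSquare ((-1 : F) ^ m * M.val.det)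
      · obtain ⟨k, hk, hk'⟩ := (hcl M).2.1 h hs
        rw [hk'] at e
        obtain ⟨ec⟩ := centralizer_conj_equiv hk (grOf M₂)
        exact not_iso_plus hodd (by omega) ⟨(e.symm.trans ec).trans e2⟩
      · obtain ⟨k, hk, hk'⟩ := (hcl M).2.2 h hs
        rw [hk'] at e
        obtain ⟨ec⟩ := centralizer_conj_equiv hk (grOf M₃)
        exact not_iso_minus hodd (by omega) (aniso F hα) ⟨(e.symm.trans ec).trans e3⟩
  refine ⟨?_, ?_, fun h => split_bot (by omega) M ?_⟩
  · rintro ⟨⟨m, hm⟩, hp, he⟩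
    have hnm : n = 2 * m := by omega
    have hdiv : n / 2 = m := by omega
    rw [hdiv] at he ⊢
    rcases scale_iff (val_ne_zero (by omega) M) hc with h | h
    · exact absurd he ((hskew m hnm hp).2 h)
    · exact split_skew (by omega) hnm (GForms.two_ne_zero' (hF ▸ hp.pow)) M h
  · rintro ⟨⟨m, hm⟩, hp, he⟩
    have hnm : n = 2 * m := by omega
    have hdiv : n / 2 = m := by omega
    rw [hdiv] at he
    rcases scale_iff (val_ne_zero (by omega) M) hc with h | h
    · exact split_symm (by omega) hnm (hF ▸ hp.pow) M h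
    · exact absurd ((hskew m hnm hp).1 h) he
  · rw [not_and_or] at h
    refine h.imp Nat.not_even_iff_odd.1 fun hp => ?_
    have hp2 : p = 2 := ((Fact.out : p.Prime).eq_two_or_odd').resolve_right hp
    subst hp2
    exact charP_of_card hf hF

end Cfsg.Agent.S2702
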