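import Cfsg.Statements.S2703
import Cfsg.Agent.Lib.Linear.AutPSL.GraphOdd
-- import your own Cfsg.Agent.* helpers here

set_option autoImplicit false
open Cfsg

namespace Cfsg.Agent.S2703

open Cfsg.Lib.Linear.AutPSL Cfsg.Lib.Linear.AutPSL.GForms

/-- Let T = PSL_n(F) over the field with q elements, q odd, n = 2m ≥ 4 even, and ι the inverse-transpose automorphism. Its centralizer in G = Inndiag(T) (the image of PGL_n(F)) is isomorphic to the projective conformal orthogonal group of the plus-type form Σ xᵢ yᵢ in dimension n when n(q − 1)/4 is even, and to that of a minus-type form (Σ xᵢ yᵢ + z₁² + a z₁ z₂ + b z₂² with anisotropic binary part) when n(q − 1)/4 is odd. -/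
theorem result {F : Type*} [Field F] [Fintype F] (hodd : Odd (Fintype.card F)) {n m : ℕ} (hm : 2 ≤ m) (hnm : n = 2 * m) (ι : MulAut (Matrix.ProjectiveSpecialLinearGroup (Fin n) F)) (hι : Cfsg.IsInverseTransposeAutPSL ι) :
    (Even (n * (Fintype.card F - 1) / 4) → Nonempty (↥(Cfsg.inndiagPSL n F ⊓ Subgroup.centralizer {ι}) ≃* Cfsg.PGO F (Cfsg.quadFormPlus m F))) ∧ (¬ Even (n * (Fintype.card F - 1) / 4) → ∃ a b : F, (∀ z₁ z₂ : F, z₁ ^ 2 + a * z₁ * z₂ + b * z₂ ^ 2 = 0 → z₁ = 0 ∧ z₂ = 0) ∧ Nonempty (↥(Cfsg.inndiagPSL n F ⊓ Subgroup.centralizer {ι}) ≃* Cfsg.PGO F (Cfsg.quadFormMinus (m - 1) F a b))) := by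
  obtain rfl := (isInverseTranspose_iff ι).1 hι
  obtain ⟨α, hα⟩ := exists_nonsquare' hodd
  obtain ⟨M₁, M₂, M₃, -, -, -, -, -, -, ⟨e2⟩, ⟨e3⟩, hcl⟩ := even_dim (n := n) hodd hm hnm hα
  rw [inndiag_eq, ← grOf_one]
  obtain ⟨-, hplus, hminus⟩ := hcl 1
  have hiff : IsSquare ((-1 : F) ^ m * (1 : Matrix.GeneralLinearGroup (Fin n) F).val.det) ↔
      Even (n * (Fintype.card F - 1) / 4) := by
    obtain ⟨k, hk⟩ := hodd
    rw [Units.val_one, Matrix.det_one, mul_one, hnm, hk, Nat.add_sub_cancel,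
      show 2 * m * (2 * k) / 4 = m * k by rw [show 2 * m * (2 * k) = 4 * (m * k) by ring]; omega, Nat.even_mul]
    rcases Nat.even_or_odd m with hm' | hm'
    · simp [hm'.neg_one_pow, hm']
    · rw [hm'.neg_one_pow, FiniteField.isSquare_neg_one_iff, hk]
      simp only [Nat.not_even_iff_odd.2 hm', false_or, Nat.even_iff]
      omega
  constructor
  · intro hev
    obtain ⟨k, hk, hk'⟩ := hplus (by simp) (hiff.2 hev)
    rw [hk']
    obtain ⟨ec⟩ := centralizer_conj_equiv hk (grOf M₂)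
    exact ⟨ec.trans e2⟩
  · intro hev
    obtain ⟨k, hk, hk'⟩ := hminus (by simp) (fun h => hev (hiff.1 h))
    refine ⟨0, -α, aniso F hα, ?_⟩
    rw [hk']
    obtain ⟨ec⟩ := centralizer_conj_equiv hk (grOf M₃)
    exact ⟨ec.trans e3⟩

end Cfsg.Agent.S2703
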