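import Cfsg.Statements.S2705
import Cfsg.Agent.Lib.Linear.AutPSU.Field
-- import your own Cfsg.Agent.* helpers here

set_option autoImplicit false
open Cfsg

namespace Cfsg.Agent.S2705

open Cfsg.Lib.Linear

/-- Let T = PSU_n(q) be simple (n ≥ 3, (n, q) ≠ (3, 2), q = p^f), realised over the field F with q² elements, G = Inndiag(T) the image of PGU_n(q) in Aut(T), and x a field automorphism of T (conjugate to a standard field automorphism of odd order) of odd prime order r. Then r divides f; C_G(x) is isomorphic to PGU_n(q₀) with q₀ = p^(f/r), realised over a field F₀ with q₀² elements; and the G-class of x is the union of exactly gcd(n, (q + 1)/(q₀ + 1)) T-classes. -/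
theorem result {F : Type*} [Field F] [Fintype F] {p f q : ℕ} [Fact p.Prime] (hq : q = p ^ f) (hf : 1 ≤ f) (hF : Fintype.card F = q ^ 2) {n : ℕ} (hn : 3 ≤ n) (hs : ¬ (n = 3 ∧ q = 2)) (x : MulAut (Cfsg.PSU n F q)) (hx : Cfsg.IsFieldAutClassPSU x) {r : ℕ} (hr : r.Prime) (hro : Odd r) (hxr : orderOf x = r) (F₀ : Type*) [Field F₀] [Fintype F₀] (hF₀ : Fintype.card F₀ = p ^ (2 * (f / r))) :
    r ∣ f ∧ Nonempty (↥(Cfsg.inndiagPSU n F q ⊓ Subgroup.centralizer {x}) ≃* Cfsg.PGU n F₀ (p ^ (f / r))) ∧ Cfsg.splitClassCount (Cfsg.inndiagPSU n F q) (Cfsg.Inn (Cfsg.PSU n F q)) x = Nat.gcd n ((q + 1) / (p ^ (f / r) + 1)) := by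
  haveI : CharP F p := AutPSL.charP_of_card (f := 2 * f) (by omega) (by rw [hF, hq, ← pow_mul, mul_comm f])
  obtain ⟨σ, g, hg, hσ, -⟩ := AutPSU.field_class hF p hn hs hf hq hx
  rw [hxr] at hσ
  subst hg
  have hdvd := AutPSU.dvd_of_orderOf hF p hf hq hr hro hσ
  obtain ⟨i, hi⟩ := AutPSL.exists_embedding (p := p) (f := 2 * f) (by omega)
    (by rw [hF, hq, ← pow_mul, mul_comm f]) hr.pos hσ F₀ (by rw [hF₀, Nat.mul_div_assoc 2 hdvd])
  have D := AutPSU.Small.of_fix (q := q) p hq hr hro hdvd hi hF₀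
  rw [AutPSU.inndiag_eq_range]
  have hmem : (AutPSU.innd g : MulAut (Cfsg.PSU n F q)) ∈
      (AutPSU.innd : ↥(Cfsg.GU n F q) →* MulAut (Cfsg.PSU n F q)).range := ⟨g, rfl⟩
  refine ⟨hdvd, ?_, ?_⟩
  · obtain ⟨e₁⟩ := AutPSL.centralizer_conj_equiv hmem (AutPSU.fld σ)
    obtain ⟨e₂⟩ := D.field_centralizer hF p hn hr hσ
    exact ⟨e₁.trans e₂⟩
  · rw [AutPSL.splitClassCount_conj hmem, D.field_split hF p hn hr hσ]

end Cfsg.Agent.S2705
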