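import Cfsg.Statements.S2708
import Cfsg.Agent.Lib.Linear.AutPSU.GraphClasses
import Cfsg.Agent.S2701
-- import your own Cfsg.Agent.* helpers here

set_option autoImplicit false
open Cfsg

namespace Cfsg.Agent.S2708

open Cfsg.Lib.Linear Cfsg.Lib.Linear.AutPSU.Proxy

/-- Let T = PSU_n(q) with n = 2m ≥ 4 even and q even, realised over the field F (of characteristic 2) with q² elements, and G = Inndiag(T) the image of PGU_n(q). The involutory graph automorphisms of T fall into exactly two G-classes, with representatives whose centralizers in G are isomorphic respectively to the symplectic group Sp_n(F₀) and to the centralizer in Sp_n(F₀) of a symplectic transvection, F₀ a field with q elements. -/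
theorem result {F : Type*} [Field F] [Fintype F] [CharP F 2] {q : ℕ} (hF : Fintype.card F = q ^ 2) {n m : ℕ} (hm : 2 ≤ m) (hnm : n = 2 * m) (F₀ : Type*) [Field F₀] [Fintype F₀] (hF₀ : Fintype.card F₀ = q) :
    ∃ (γ₁ γ₃ : MulAut (Cfsg.PSU n F q)) (t : ↥(Matrix.symplecticGroup (Fin m) F₀)), Cfsg.IsTransvection (t : Matrix (Fin m ⊕ Fin m) (Fin m ⊕ Fin m) F₀) ∧ Cfsg.IsGraphAutClassPSU γ₁ ∧ orderOf γ₁ = 2 ∧ Cfsg.IsGraphAutClassPSU γ₃ ∧ orderOf γ₃ = 2 ∧ ¬ Cfsg.IsConjUnder (Cfsg.inndiagPSU n F q) γ₁ γ₃ ∧ (∀ γ : MulAut (Cfsg.PSU n F q), Cfsg.IsGraphAutClassPSU γ → orderOf γ = 2 → Cfsg.IsConjUnder (Cfsg.inndiagPSU n F q) γ₁ γ ∨ Cfsg.IsConjUnder (Cfsg.inndiagPSU n F q) γ₃ γ) ∧ Nonempty (↥(Cfsg.inndiagPSU n F q ⊓ Subgroup.centralizer {γ₁}) ≃* ↥(Matrix.symplecticGroup (Fin m) F₀)) ∧ Nonempty (↥(Cfsg.inndiagPSU n F q ⊓ Subgroup.centralizer {γ₃}) ≃* ↥(Subgroup.centralizer ({t} : Set ↥(Matrix.symplecticGroup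 (Fin m) F₀)))) := by
  have hchar : CharP F 2 := inferInstance
  obtain ⟨p', hp', hcp', σ, i, δ, X⟩ := exists_ctx hF F₀ hF₀
  haveI : CharP F₀ 2 := (i.charP_iff i.injective 2).2 hchar
  have hn : 3 ≤ n := by omega
  have h := Cfsg.Agent.S2701.result (F := F₀) (n := n) hm hnm
  rw [AutPSL.inndiag_eq] at h
  obtain ⟨δ₁, δ₃, t, ht, c1, o1, c3, o3, n13, hall, ⟨e1⟩, ⟨e3⟩⟩ := h
  obtain ⟨N₁, γ₁, rfl, p1, g1, h1⟩ := exists_unitary hF p' hn X c1 o1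
  obtain ⟨N₃, γ₃, rfl, p3, g3, h3⟩ := exists_unitary hF p' hn X c3 o3
  rw [AutPSU.inndiag_eq_range]
  obtain ⟨e1'⟩ := centralizer_proxy hF p' hn X p1
  obtain ⟨e3'⟩ := centralizer_proxy hF p' hn X p3
  refine ⟨γ₁, γ₃, t, ht, g1, h1, g3, h3, fun h => n13 ((conj_proxy hF p' hn X p1 p3).1 h),
    fun γ hγ hγ2 => ?_, ⟨e1'.trans e1⟩, ⟨e3'.trans e3⟩⟩
  obtain ⟨N, hN, hNc, hN2⟩ := exists_proxy hF p' hn X hγ hγ2
  rcases hall _ hNc hN2 with h | h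
  · exact Or.inl ((conj_proxy hF p' hn X p1 hN).2 h)
  · exact Or.inr ((conj_proxy hF p' hn X p3 hN).2 h)

end Cfsg.Agent.S2708
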