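import Cfsg.Statements.S2709
import Cfsg.Agent.Lib.Linear.AutPSU.GraphSplit
-- import your own Cfsg.Agent.* helpers here

set_option autoImplicit false
open Cfsg

namespace Cfsg.Agent.S2709

open Cfsg.Lib.Linear Cfsg.Lib.Linear.AutPSU.Proxy

/-- Let T = PSU_n(q) be simple (n ≥ 3, (n,q) ≠ (3,2), q = p^f), realised over the field F with q² elements, G = Inndiag(T) the image of PGU_n(q), and γ an involutory graph automorphism of T. The G-class of γ is the union of exactly c T-classes, where: if n is even and q is odd, c = gcd(n/2, q + 1) when C_G(γ) is isomorphic to PGSp_n(F₀) for a field F₀ with q elements (symplectic type) and c = gcd(n, q + 1)/2 otherwise; and c = gcd(n, q + 1) when n is odd or q is even. -/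
theorem result {F : Type*} [Field F] [Fintype F] {p f q : ℕ} [Fact p.Prime] (hq : q = p ^ f) (hf : 1 ≤ f) (hF : Fintype.card F = q ^ 2) {n : ℕ} (hn : 3 ≤ n) (hs : ¬ (n = 3 ∧ q = 2)) (F₀ : Type*) [Field F₀] [Fintype F₀] (hF₀ : Fintype.card F₀ = q) (γ : MulAut (Cfsg.PSU n F q)) (hγ : Cfsg.IsGraphAutClassPSU γ) (hγ2 : orderOf γ = 2) :
    ((Even n ∧ Odd q ∧ Nonempty (↥(Cfsg.inndiagPSU n F q ⊓ Subgroup.centralizer {γ}) ≃* Cfsg.PGSp (n / 2) F₀)) → Cfsg.splitClassCount (Cfsg.inndiagPSU n F q) (Cfsg.Inn (Cfsg.PSU n F q)) γ = Nat.gcd (n / 2) (q + 1)) ∧ ((Even n ∧ Odd q ∧ ¬ Nonempty (↥(Cfsg.inndiagPSU n F q ⊓ Subgroup.centralizer {γ}) ≃* Cfsg.PGSp (n / 2) F₀)) → Cfsg.splitClassCount (Cfsg.inndiagPSU n F q) (Cfsg.Inn (Cfsg.PSU n F q)) γ = Nat.gcd n (q + 1) / 2) ∧ (¬ (Even n ∧ Odd q) → Cfsg.splitClassCount (Cfsg.inndiagPSU n F q) (Cfsg.Inn (Cfsg.PSU n F q)) γ = Nat.gcd n (q + 1)) := by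
  obtain ⟨p', hp', hcp', σ, i, δ, X⟩ := exists_ctx hF F₀ hF₀
  obtain ⟨N, hN, hNc, hN2⟩ := exists_proxy hF p' hn X hγ hγ2
  obtain ⟨M, hM, c, hc⟩ := (AutPSL.GForms.graph_iff hn _).1 ⟨hNc, hN2⟩
  obtain ⟨e⟩ := centralizer_proxy hF p' hn X hN
  rw [AutPSU.inndiag_eq_range]
  have hsign : N.val.transpose = N.val ∨ N.val.transpose = -N.val := by
    obtain ⟨g, A, μ, -, -, -, -, h | h⟩ := hN
    · exact Or.inl h.1
    · exact Or.inr h.1
  refine ⟨?_, ?_, fun h => ?_⟩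
  · rintro ⟨⟨m, hm⟩, hodd, he⟩
    have hnm : n = 2 * m := by omega
    have hdiv : n / 2 = m := by omega
    rw [hdiv] at he ⊢
    obtain ⟨eγ⟩ := he
    have hodd' : Odd (Fintype.card F₀) := by rw [hF₀]; exact hodd
    rcases hsign with h | h
    · exact absurd ⟨e.symm.trans eγ⟩ ((skew_iff hodd' (by omega) hnm N).2 h)
    · exact split_skew hF p' hn X hnm (AutPSL.GForms.two_ne_zero' hodd') hN h
  · rintro ⟨⟨m, hm⟩, hodd, he⟩
    have hnm : n = 2 * m := by omega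
    have hdiv : n / 2 = m := by omega
    rw [hdiv] at he
    have hodd' : Odd (Fintype.card F₀) := by rw [hF₀]; exact hodd
    rcases hsign with h | h
    · exact split_symm hF p' hn X hnm hodd hF₀ hN h
    · obtain ⟨e'⟩ := (skew_iff hodd' (by omega) hnm N).1 h
      exact absurd ⟨e.trans e'⟩ he
  · rw [not_and_or] at h
    refine split_bot hF p' hn X hN (h.imp Nat.not_even_iff_odd.1 fun hq' => ?_)
    have h2 := FiniteField.even_card_iff_char_two (F := F₀)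
    exact ringChar.eq_iff.1 (h2.2 (by rw [hF₀]; exact Nat.even_iff.1 (Nat.not_odd_iff_even.1 hq')))

end Cfsg.Agent.S2709
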