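import Cfsg.Statements.S2710
import Cfsg.Agent.Lib.Linear.AutPSU.GraphClasses
import Cfsg.Agent.S2703
-- import your own Cfsg.Agent.* helpers here

set_option autoImplicit false
open Cfsg

namespace Cfsg.Agent.S2710

open Cfsg.Lib.Linear Cfsg.Lib.Linear.AutPSU.Proxy

/-- Let T = PSU_n(q) with n ≥ 4 divisible by 4 (n = 2m) and q odd, realised over the field F with q² elements, G = Inndiag(T) the image of PGU_n(q), and φ the standard field automorphism of T attached to the q-th power map of F (it induces inverse-transpose on the unitary matrices and is a graph automorphism). Its centralizer in G is isomorphic to the projective conformal orthogonal group of the plus-type form Σ xᵢ yᵢ in dimension n over a field F₀ with q elements. (Dimensions n ≡ 2 (mod 4) are not covered.) -/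
theorem result {F : Type*} [Field F] [Fintype F] {q : ℕ} (hodd : Odd q) (hF : Fintype.card F = q ^ 2) {n m : ℕ} (hm : 2 ≤ m) (hnm : n = 2 * m) (h4 : 4 ∣ n) (F₀ : Type*) [Field F₀] [Fintype F₀] (hF₀ : Fintype.card F₀ = q) (σ : F ≃+* F) (hσ : ∀ a : F, σ a = a ^ q) (φ : MulAut (Cfsg.PSU n F q)) (hφ : Cfsg.IsFieldAutPSUOf σ φ) :
    Nonempty (↥(Cfsg.inndiagPSU n F q ⊓ Subgroup.centralizer {φ}) ≃* Cfsg.PGO F₀ (Cfsg.quadFormPlus m F₀)) := by
  obtain ⟨p', hp', hcp', τ, i, δ, X⟩ := exists_ctx hF F₀ hF₀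
  have hn : 3 ≤ n := by omega
  obtain rfl : σ = τ := RingEquiv.ext fun x => by rw [hσ, X.hfrob]
  obtain rfl := AutPSU.isFieldAutPSUOf_iff.1 hφ
  have hprox : IsProxy σ i δ (AutPSU.fld σ : MulAut (Cfsg.PSU n F q)) 1 := by
    refine ⟨1, 1, 1, by rw [grU, map_one, one_mul], ⟨1, one_ne_zero, ?_⟩, ?_, one_ne_zero, Or.inl ⟨?_, rfl⟩⟩ <;> simp
  have h := (Cfsg.Agent.S2703.result (F := F₀) (n := n) (by rw [hF₀]; exact hodd) hm hnm AutPSL.gr
    ((AutPSL.isInverseTranspose_iff _).2 rfl)).1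
  rw [AutPSL.inndiag_eq, ← AutPSL.GForms.grOf_one, hF₀] at h
  obtain ⟨e⟩ := h (by
    obtain ⟨a, ha⟩ := h4
    obtain ⟨b, hb⟩ := hodd
    rw [ha, hb, Nat.add_sub_cancel, mul_assoc, Nat.mul_div_cancel_left _ (by norm_num : 0 < 4)]
    exact ⟨a * b, by ring⟩)
  rw [AutPSU.inndiag_eq_range]
  obtain ⟨e'⟩ := centralizer_proxy hF p' hn X hprox
  exact ⟨e'.trans e⟩

end Cfsg.Agent.S2710
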