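import Cfsg.Statements.S2711
import Cfsg.Agent.Lib.Linear.AutPSU.Field
-- import your own Cfsg.Agent.* helpers here

set_option autoImplicit false
open Cfsg

namespace Cfsg.Agent.S2711

open Cfsg.Lib.Linear

/-- Let T = PSU_n(q) be simple (n ≥ 3, (n,q) ≠ (3,2)), realised over the field F with q² elements, and let x be a field automorphism of T (conjugate to a standard field automorphism of odd order) of prime order r. Then an element y of the coset Inndiag(T)·x (y = δ x with δ in the image of PGU_n(q)) has order r if and only if y is conjugate to x by an element of Inndiag(T). (T has no graph-field automorphisms.) -/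
theorem result {F : Type*} [Field F] [Fintype F] {p f q : ℕ} [Fact p.Prime] (hq : q = p ^ f) (hf : 1 ≤ f) (hF : Fintype.card F = q ^ 2) {n : ℕ} (hn : 3 ≤ n) (hs : ¬ (n = 3 ∧ q = 2)) (x δ : MulAut (Cfsg.PSU n F q)) (hx : Cfsg.IsFieldAutClassPSU x) {r : ℕ} (hr : r.Prime) (hxr : orderOf x = r) (hδ : δ ∈ Cfsg.inndiagPSU n F q) :
    orderOf (δ * x) = r ↔ Cfsg.IsConjUnder (Cfsg.inndiagPSU n F q) x (δ * x) := by
  classical
  haveI : CharP F p := AutPSL.charP_of_card (f := 2 * f) (by omega) (by rw [hF, hq, ← pow_mul, mul_comm f])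
  obtain ⟨σ, g, hg, hσ, hodd⟩ := AutPSU.field_class hF p hn hs hf hq hx
  rw [hxr] at hσ
  rw [hσ] at hodd
  have hdvd := AutPSU.dvd_of_orderOf hF p hf hq hr hodd hσ
  haveI : Fintype (AutPSL.fixedF σ) := Fintype.ofFinite _
  have hK : Fintype.card (AutPSL.fixedF σ) = p ^ (2 * (f / r)) := by
    have h := AutPSL.card_fixedF_pow σ
    rw [hσ, hF, hq, ← pow_mul, Nat.card_eq_fintype_card] at h
    refine Nat.pow_left_injective hr.ne_zero (h.trans ?_)
    show p ^ (f * 2) = (p ^ (2 * (f / r))) ^ r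
    rw [← pow_mul, mul_assoc, Nat.div_mul_cancel hdvd, mul_comm]
  have D := AutPSU.Small.of_fix (q := q) (i := (AutPSL.fixedF σ).subtype) p hq hr hodd hdvd
    (fun z => ⟨fun hz => ⟨⟨z, hz⟩, rfl⟩, fun ⟨y, hy⟩ => hy ▸ y.2⟩) hK
  rw [AutPSU.inndiag_eq_range] at hδ ⊢
  obtain ⟨d, rfl⟩ := hδ
  subst hg
  have key : (AutPSU.innd d : MulAut (Cfsg.PSU n F q)) * (AutPSU.innd g * AutPSU.fld σ * (AutPSU.innd g)⁻¹) =
      AutPSU.innd g * (AutPSU.innd (g⁻¹ * d * g) * AutPSU.fld σ) * (AutPSU.innd g)⁻¹ := by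
    simp only [map_mul, map_inv]
    group
  rw [key, AutPSL.orderOf_conj, D.field_coset hF p hn hr hσ]
  have hmem : (AutPSU.innd g : MulAut (Cfsg.PSU n F q)) ∈
      (AutPSU.innd : ↥(Cfsg.GU n F q) →* MulAut (Cfsg.PSU n F q)).range := ⟨g, rfl⟩
  exact (AutPSL.isConjUnder_conj hmem).symm

end Cfsg.Agent.S2711
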