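import Cfsg.Statements.S2712
import Cfsg.Agent.Lib.Linear.AutPSp.FieldCases
-- import your own Cfsg.Agent.* helpers here

set_option autoImplicit false
open Cfsg

namespace Cfsg.Agent.S2712

open Cfsg.Lib.Linear.AutPSp

/-- Let T = PSp_{2m}(F) be simple over the field F with p^f elements (m ≥ 2, (2m, |F|) ≠ (4, 2)), G = Inndiag(T) the image of the projective conformal symplectic group PGSp_{2m}(F), and x a field automorphism of T of prime order r. Then r divides f; C_G(x) is isomorphic to PGSp_{2m}(F₀) for a field F₀ with p^(f/r) elements; and the G-class of x is the union of exactly gcd(gcd(2, p^f − 1), r) T-classes. -/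
theorem result {F : Type*} [Field F] [Fintype F] {p f : ℕ} [Fact p.Prime] (hF : Fintype.card F = p ^ f) (hf : 1 ≤ f) {m : ℕ} (hm : 2 ≤ m) (hs : m = 2 → 3 ≤ Fintype.card F) (x : MulAut (Cfsg.PSp m F)) (hx : Cfsg.IsFieldAutClassPSp x) {r : ℕ} (hr : r.Prime) (hxr : orderOf x = r) (F₀ : Type*) [Field F₀] [Fintype F₀] (hF₀ : Fintype.card F₀ = p ^ (f / r)) :
    r ∣ f ∧ Nonempty (↥(Cfsg.inndiagPSp m F ⊓ Subgroup.centralizer {x}) ≃* Cfsg.PGSp m F₀) ∧ Cfsg.splitClassCount (Cfsg.inndiagPSp m F) (Cfsg.Inn (Cfsg.PSp m F)) x = Nat.gcd (Nat.gcd 2 (p ^ f - 1)) r := by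
  haveI := Cfsg.Lib.Linear.AutPSL.charP_of_card hf hF
  obtain ⟨σ, α, hα, rfl, hσ⟩ := exists_norms_conj p hm hf hF hx
  rw [hxr] at hσ
  obtain ⟨i, hi⟩ := Cfsg.Lib.Linear.AutPSL.exists_embedding hf hF hr.pos hσ F₀ hF₀
  obtain ⟨k, hk⟩ := Cfsg.Lib.Linear.AutPSL.orderOf_dvd_exp hf hF σ
  rw [hσ] at hk
  rw [inndiag_eq_range p]
  refine ⟨⟨k, hk⟩, ?_, ?_⟩
  · obtain ⟨e₁⟩ := centralizer_norms hα (fld σ)
    obtain ⟨e₂⟩ := field_centralizer p (by omega : 1 ≤ m) hr hσ i hi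
    exact ⟨e₁.trans e₂⟩
  · rw [splitClassCount_norms hα (norms_of_normal inn_normal α), field_split p (by omega : 1 ≤ m) hr hσ, hF]
    have hq : Nat.card (Cfsg.Lib.Linear.AutPSL.fixedF σ) = p ^ k := by
      have h := Cfsg.Lib.Linear.AutPSL.card_fixedF_pow σ
      rw [hσ, hF, hk, mul_comm r k, pow_mul] at h
      exact Nat.pow_left_injective hr.ne_zero h
    rw [hq, hk, mul_comm r k, pow_mul]
    have hp := (Fact.out : p.Prime)
    have hk0 : k ≠ 0 := by rintro rfl; omega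
    have h2 : 2 ≤ p ^ k := Nat.one_lt_pow hk0 hp.one_lt
    set q := p ^ k
    rw [← Nat.geomSum_eq h2 r]
    rcases Nat.even_or_odd q with hev | hodd
    · have hb : (∑ i ∈ Finset.range r, q ^ i) % 2 = 1 := by
        have h := geom_sum_mul_add (R := ℕ) (q - 1) r
        rw [Nat.sub_add_cancel (by omega : 1 ≤ q)] at h
        have he : (q ^ r) % 2 = 0 := Nat.even_iff.1 (hev.pow_of_ne_zero hr.ne_zero)
        have ho : (q - 1) % 2 = 1 := by have := Nat.even_iff.1 hev; omega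
        have := congrArg (· % 2) h
        simp [Nat.add_mod, Nat.mul_mod, he, ho] at this
        omega
      have hq1 : (q ^ r - 1) % 2 = 1 := by
        have := Nat.even_iff.1 (hev.pow_of_ne_zero hr.ne_zero)
        have : 1 ≤ q ^ r := Nat.one_le_pow _ _ (by omega)
        omega
      rw [Nat.gcd_rec 2 (∑ i ∈ Finset.range r, q ^ i), hb, Nat.gcd_rec 2 (q ^ r - 1), hq1]
      simp
    · have hb : (∑ i ∈ Finset.range r, q ^ i) % 2 = r % 2 := by
        rw [Finset.sum_nat_mod]; simp [Nat.pow_mod, Nat.odd_iff.1 hodd]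
      have hq1 : (q ^ r - 1) % 2 = 0 := by have := Nat.odd_iff.1 (hodd.pow (n := r)); omega
      rw [Nat.gcd_rec 2 (∑ i ∈ Finset.range r, q ^ i), hb, Nat.gcd_rec 2 (q ^ r - 1), hq1, Nat.gcd_zero_left,
        ← Nat.gcd_rec]

end Cfsg.Agent.S2712
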