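import Cfsg.Statements.S2713
import Cfsg.Agent.Lib.Linear.AutPSp.FieldCases
-- import your own Cfsg.Agent.* helpers here

set_option autoImplicit false
open Cfsg

namespace Cfsg.Agent.S2713

open Cfsg.Lib.Linear.AutPSp

/-- Let T = PSp_{2m}(F) be simple over a finite field (m ≥ 2, (2m, |F|) ≠ (4, 2)) and let x be a field automorphism of T of prime order r. Then an element y of the coset Inndiag(T)·x (y = δ x with δ in the image of the projective conformal symplectic group) has order r if and only if y is conjugate to x by an element of Inndiag(T). -/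
theorem result {F : Type*} [Field F] [Fintype F] {m : ℕ} (hm : 2 ≤ m) (hs : m = 2 → 3 ≤ Fintype.card F) (x δ : MulAut (Cfsg.PSp m F)) (hx : Cfsg.IsFieldAutClassPSp x) {r : ℕ} (hr : r.Prime) (hxr : orderOf x = r) (hδ : δ ∈ Cfsg.inndiagPSp m F) :
    orderOf (δ * x) = r ↔ Cfsg.IsConjUnder (Cfsg.inndiagPSp m F) x (δ * x) := by
  obtain ⟨p, hp⟩ := CharP.exists F
  haveI : Fact p.Prime := ⟨CharP.char_is_prime F p⟩
  obtain ⟨f, -, hF⟩ := FiniteField.card F p
  obtain ⟨σ, α, hα, rfl, hσ⟩ := exists_norms_conj p hm f.pos hF hx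
  rw [hxr] at hσ
  rw [inndiag_eq_range p] at hδ ⊢
  have hA : α⁻¹ * δ * α ∈ (innd : ↥(Cfsg.GSp m F) →* MulAut (Cfsg.PSp m F)).range :=
    (hα _).1 (by simpa [mul_assoc] using hδ)
  obtain ⟨A, hA⟩ := hA
  have he : δ * (α * fld σ * α⁻¹) = α * (innd A * fld σ) * α⁻¹ := by rw [hA]; group
  rw [he, Cfsg.Lib.Linear.AutPSL.orderOf_conj, isConjUnder_norms hα]
  exact field_coset p (by omega) hr hσ A

end Cfsg.Agent.S2713
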