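import Cfsg.Statements.S2714
import Cfsg.Agent.Lib.Linear.AutPO.OddField
import Cfsg.Agent.Lib.Linear.AutPSp.FieldCases

set_option autoImplicit false
open Cfsg

namespace Cfsg.Agent.S2714

open Cfsg.Lib.Linear.AutPO

set_option maxHeartbeats 800000 in
/-- Let T = Ω_{2m+1}(F) (m ≥ 3, |F| = p^f odd; realised as PΩ of the form x₀² + Σ xᵢ yᵢ), G = Inndiag(T) the image of the conformal orthogonal group in Aut(T), and x a field automorphism of T of prime order r. Then r divides f; C_G(x) is isomorphic to Inndiag(Ω_{2m+1}(F₀)) for a field F₀ with p^(f/r) elements; and the G-class of x is a single T-class when r is odd and the union of exactly two T-classes when r = 2. -/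
theorem result {F : Type*} [Field F] [Fintype F] {p f : ℕ} [Fact p.Prime] (hF : Fintype.card F = p ^ f) (hf : 1 ≤ f) (hodd : Odd (Fintype.card F)) {m : ℕ} (hm : 3 ≤ m) (x : MulAut (Cfsg.POmega F (Cfsg.quadFormOdd m F))) (hx : Cfsg.IsFieldAutClassPOmega (Cfsg.quadFormOdd m F) x) {r : ℕ} (hr : r.Prime) (hxr : orderOf x = r) (F₀ : Type*) [Field F₀] [Fintype F₀] (hF₀ : Fintype.card F₀ = p ^ (f / r)) :
    r ∣ f ∧ Nonempty (↥(Cfsg.inndiagPOmegaOdd m F ⊓ Subgroup.centralizer {x}) ≃* ↥(Cfsg.inndiagPOmegaOdd m F₀)) ∧ (Odd r → Cfsg.splitClassCount (Cfsg.inndiagPOmegaOdd m F) (Cfsg.Inn (Cfsg.POmega F (Cfsg.quadFormOdd m F))) x = 1) ∧ (r = 2 → Cfsg.splitClassCount (Cfsg.inndiagPOmegaOdd m F) (Cfsg.Inn (Cfsg.POmega F (Cfsg.quadFormOdd m F))) x = 2) := by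
  haveI := Cfsg.Lib.Linear.AutPSL.charP_of_card hf hF
  have h2 := Cfsg.Lib.Linear.Orth.two_ne_zero_of_odd_card hodd
  obtain ⟨B, C⟩ := Cfsg.Lib.Linear.Orth.exists_space (Cfsg.Lib.Linear.Orth.isQuad_odd m h2)
  obtain ⟨σ, α, rfl, hσ⟩ := field_class C h2 hm p hx
  rw [hxr] at hσ
  obtain ⟨i, hi⟩ := Cfsg.Lib.Linear.AutPSL.exists_embedding hf hF hr.pos hσ F₀ hF₀
  obtain ⟨k, hk⟩ := Cfsg.Lib.Linear.AutPSL.orderOf_dvd_exp hf hF σ
  rw [hσ] at hk
  haveI : CharP F₀ p := Cfsg.Lib.Linear.AutPSL.charP_of_card (f := f / r)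
    (Nat.div_pos (Nat.le_of_dvd hf ⟨k, hk⟩) hr.pos) hF₀
  have h20 : (2 : F₀) ≠ 0 := fun h => h2 (by rw [← map_ofNat i 2, h, map_zero])
  obtain ⟨B₀, C₀⟩ := Cfsg.Lib.Linear.Orth.exists_space (Cfsg.Lib.Linear.Orth.isQuad_odd m h20)
  have h7 : 7 ≤ Fintype.card (Unit ⊕ (Fin m ⊕ Fin m)) := by
    rw [Cfsg.Lib.Linear.Orth.card_odd_index]; omega
  rw [show Cfsg.inndiagPOmegaOdd m F = _ from pgoAut_eq_range, show Cfsg.inndiagPOmegaOdd m F₀ = _ from pgoAut_eq_range]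
  haveI hR := range_normal C h7 p (good_odd C) (stdForm_odd m)
  have hnR := Cfsg.Lib.Linear.AutPSp.norms_of_normal hR α
  have hnI := Cfsg.Lib.Linear.AutPSp.norms_of_normal (K := Cfsg.Inn (Cfsg.POmega F (Cfsg.quadFormOdd m F)))
    ⟨fun _ ⟨y, hy⟩ β => ⟨β y, MulEquiv.ext fun z => by rw [← hy]; simp [MulAut.mul_apply]⟩⟩ α
  refine ⟨⟨k, hk⟩, ?_, ?_, ?_⟩
  · obtain ⟨e₁⟩ := Cfsg.Lib.Linear.AutPSp.centralizer_norms hnR (fld (stdForm_odd m) σ)
    obtain ⟨e₂⟩ := field_centralizer C h2 hm p C₀ i hi hr hσ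
    exact ⟨e₁.trans e₂⟩
  · intro ho
    rw [Cfsg.Lib.Linear.AutPSp.splitClassCount_norms hnR hnI, field_split C h2 hm p C₀ i hi hr hσ,
      if_neg (by rintro rfl; exact absurd ho (by decide))]
  · intro h
    rw [Cfsg.Lib.Linear.AutPSp.splitClassCount_norms hnR hnI, field_split C h2 hm p C₀ i hi hr hσ, if_pos h]

end Cfsg.Agent.S2714
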