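import Cfsg.Statements.S2715
import Cfsg.Agent.Lib.Linear.AutPO.PlusField
import Cfsg.Agent.Lib.Linear.AutPO.D4Diag
import Cfsg.Agent.Lib.Linear.AutPO.PlusMain

set_option autoImplicit false
open Cfsg

namespace Cfsg.Agent.S2715

open Cfsg.Lib.Linear.AutPO

set_option maxHeartbeats 1600000 in
/-- Let T = PΩ⁺_{2m}(F) (m ≥ 4, |F| = p^f; the form Σ xᵢ yᵢ), G = Inndiag(T) the image of the class-preserving similarities in Aut(T), and x a field automorphism of T of prime order r. Then r divides f; C_G(x) is isomorphic to Inndiag(PΩ⁺_{2m}(F₀)) for a field F₀ with p^(f/r) elements; and the G-class of x is the union of exactly c T-classes, where c = 1 if r is odd or p = 2, and otherwise (r = 2, p odd) c = 2 when m is odd and p^(f/2) ≡ 1 (mod 4), and c = 4 in the remaining cases. -/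
theorem result {F : Type*} [Field F] [Fintype F] {p f : ℕ} [Fact p.Prime] (hF : Fintype.card F = p ^ f) (hf : 1 ≤ f) {m : ℕ} (hm : 4 ≤ m) (x : MulAut (Cfsg.POmega F (Cfsg.quadFormPlus m F))) (hx : Cfsg.IsFieldAutClassPOmega (Cfsg.quadFormPlus m F) x) {r : ℕ} (hr : r.Prime) (hxr : orderOf x = r) (F₀ : Type*) [Field F₀] [Fintype F₀] (hF₀ : Fintype.card F₀ = p ^ (f / r)) :
    r ∣ f ∧ Nonempty (↥(Cfsg.inndiagPOmegaPlus m F ⊓ Subgroup.centralizer {x}) ≃* ↥(Cfsg.inndiagPOmegaPlus m F₀)) ∧ ((Odd r ∨ p = 2) → Cfsg.splitClassCount (Cfsg.inndiagPOmegaPlus m F) (Cfsg.Inn (Cfsg.POmega F (Cfsg.quadFormPlus m F))) x = 1) ∧ ((r = 2 ∧ p ≠ 2 ∧ Odd m ∧ p ^ (f / 2) % 4 = 1) → Cfsg.splitClassCount (Cfsg.inndiagPOmegaPlus m F) (Cfsg.Inn (Cfsg.POmega F (Cfsg.quadFormPlus m F))) x = 2) ∧ ((r = 2 ∧ p ≠ 2 ∧ ¬ (Odd m ∧ p ^ (f / 2) % 4 = 1)) → Cfsg.splitClassCount (Cfsg.inndiagPOmegaPlus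 m F) (Cfsg.Inn (Cfsg.POmega F (Cfsg.quadFormPlus m F))) x = 4) := by
  obtain ⟨n, rfl⟩ : ∃ n, m = n + 1 := ⟨m - 1, by omega⟩
  haveI := Cfsg.Lib.Linear.AutPSL.charP_of_card hf hF
  obtain ⟨B, C⟩ := Cfsg.Lib.Linear.Orth.exists_space_plus (F := F) (n + 1)
  have hn : 3 ≤ n := by omega
  obtain ⟨σ, α, hσ, rfl⟩ := plus_field_class hn p C hx hr hxr
  obtain ⟨i, hi⟩ := Cfsg.Lib.Linear.AutPSL.exists_embedding hf hF hr.pos hσ F₀ hF₀
  have hD := plus_normal_all (F := F) p (m := n + 1) hm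
  have hnD := Cfsg.Lib.Linear.AutPSp.norms_of_normal hD α
  have hnI := Cfsg.Lib.Linear.AutPSp.norms_of_normal
    (K := Cfsg.Inn (Cfsg.POmega F (Cfsg.quadFormPlus (n + 1) F))) inferInstance α
  obtain ⟨⟨e₂⟩, h1, h24⟩ := plus_field_auto hm p C hr hσ i hi
  have h2p : (2 : F) = 0 ↔ p = 2 := by
    rw [show (2 : F) = ((2 : ℕ) : F) by norm_num, CharP.cast_eq_zero_iff F p,
      Nat.prime_dvd_prime_iff_eq Fact.out Nat.prime_two]
  refine ⟨hσ ▸ Cfsg.Lib.Linear.AutPSL.orderOf_dvd_exp hf hF σ, ?_, fun h => ?_, fun ⟨h2, hp, hmo, hq⟩ => ?_,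
    fun ⟨h2, hp, hcase⟩ => ?_⟩
  · obtain ⟨e₁⟩ := Cfsg.Lib.Linear.AutPSp.centralizer_norms hnD (fld stdForm_plus σ)
    exact ⟨e₁.trans e₂⟩
  · rw [Cfsg.Lib.Linear.AutPSp.splitClassCount_norms hnD hnI]
    exact h1 (h.imp_right h2p.2)
  · subst h2
    rw [Cfsg.Lib.Linear.AutPSp.splitClassCount_norms hnD hnI]
    exact (h24 ⟨rfl, fun h => hp (h2p.1 h)⟩).1 ⟨hmo, by rw [hF₀]; exact hq⟩
  · subst h2
    rw [Cfsg.Lib.Linear.AutPSp.splitClassCount_norms hnD hnI]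
    exact (h24 ⟨rfl, fun h => hp (h2p.1 h)⟩).2 (by rw [hF₀]; exact hcase)

end Cfsg.Agent.S2715
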