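import Cfsg.Statements.S2716
import Cfsg.Agent.Lib.Linear.AutPO.MinusField
import Cfsg.Agent.Lib.Linear.AutPSp.FieldCases

set_option autoImplicit false
open Cfsg

namespace Cfsg.Agent.S2716

open Cfsg.Lib.Linear.AutPO

/-- Let T = PΩ⁻_{2m+2}(F) (m ≥ 3, |F| = p^f; the form Σ xᵢ yᵢ + z₁² + a z₁ z₂ + b z₂² with anisotropic binary part), G = Inndiag(T), and x a field automorphism of T of prime order r. Then r is odd and divides f; C_G(x) is isomorphic to Inndiag(PΩ⁻_{2m+2}(F₀)) for a field F₀ with p^(f/r) elements and some anisotropic binary part over F₀; and the G-class of x is a single T-class. -/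
theorem result {F : Type*} [Field F] [Fintype F] {p f : ℕ} [Fact p.Prime] (hF : Fintype.card F = p ^ f) (hf : 1 ≤ f) {m : ℕ} (hm : 3 ≤ m) (a b : F) (hab : (∀ z₁ z₂ : F, z₁ ^ 2 + a * z₁ * z₂ + b * z₂ ^ 2 = 0 → z₁ = 0 ∧ z₂ = 0)) (x : MulAut (Cfsg.POmega F (Cfsg.quadFormMinus m F a b))) (hx : Cfsg.IsFieldAutClassPOmegaMinus m x) {r : ℕ} (hr : r.Prime) (hxr : orderOf x = r) (F₀ : Type*) [Field F₀] [Fintype F₀] (hF₀ : Fintype.card F₀ = p ^ (f / r)) :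
    Odd r ∧ r ∣ f ∧ (∃ a₀ b₀ : F₀, (∀ z₁ z₂ : F₀, z₁ ^ 2 + a₀ * z₁ * z₂ + b₀ * z₂ ^ 2 = 0 → z₁ = 0 ∧ z₂ = 0) ∧ Nonempty (↥(Cfsg.inndiagPOmegaMinus m F a b ⊓ Subgroup.centralizer {x}) ≃* ↥(Cfsg.inndiagPOmegaMinus m F₀ a₀ b₀))) ∧ Cfsg.splitClassCount (Cfsg.inndiagPOmegaMinus m F a b) (Cfsg.Inn (Cfsg.POmega F (Cfsg.quadFormMinus m F a b))) x = 1 := by
  haveI := Cfsg.Lib.Linear.AutPSL.charP_of_card hf hF
  obtain ⟨a', b', σ, M, hM, hfa, hfb, α, hab', -, rfl⟩ := exists_frame hab hx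
  have hσ : orderOf σ = r := by
    rw [← orderOf_frameAut hM hfa hfb hab hm p, ← hxr, Cfsg.Lib.Linear.AutPSL.orderOf_conj]
  obtain ⟨i, hi⟩ := Cfsg.Lib.Linear.AutPSL.exists_embedding hf hF hr.pos hσ F₀ hF₀
  obtain ⟨a₀, ha₀⟩ := (hi a').1 hfa
  obtain ⟨b₀, hb₀⟩ := (hi b').1 hfb
  have hD := inndiag_normal hab hm p
  have hnD := Cfsg.Lib.Linear.AutPSp.norms_of_normal hD α
  have hnI := Cfsg.Lib.Linear.AutPSp.norms_of_normal
    (K := Cfsg.Inn (Cfsg.POmega F (Cfsg.quadFormMinus m F a b))) inferInstance α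
  refine ⟨odd_of_fixed hab' hfa hfb hr hσ, hσ ▸ Cfsg.Lib.Linear.AutPSL.orderOf_dvd_exp hf hF σ,
    ⟨a₀, b₀, aniso_sub hab' i ha₀ hb₀, ?_⟩, ?_⟩
  · obtain ⟨e₁⟩ := Cfsg.Lib.Linear.AutPSp.centralizer_norms hnD (frameAut hM hfa hfb)
    obtain ⟨e₂⟩ := minus_centralizer hM hfa hfb hab hab' hm p hr hσ i hi ha₀ hb₀
    exact ⟨e₁.trans e₂⟩
  · rw [Cfsg.Lib.Linear.AutPSp.splitClassCount_norms hnD hnI]
    exact minus_split hM hfa hfb hab hab' hm p hr hσ i hi ha₀ hb₀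

end Cfsg.Agent.S2716
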