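import Cfsg.Statements.S2717
import Cfsg.Agent.Lib.Linear.AutPO.PlusGraph

set_option autoImplicit false
open Cfsg

namespace Cfsg.Agent.S2717

open Cfsg.Lib.Linear.AutPO

set_option maxHeartbeats 1600000 in
/-- Let T = PΩ⁺_{2m}(F) with m ≥ 5 (dimension 2m ≠ 8) and |F| = p^f, G = Inndiag(T), and x an involutory graph-field automorphism of T. Then f is even; any two involutory graph-field automorphisms of T are G-conjugate; C_G(x) is isomorphic to Inndiag(PΩ⁻_{2m}(F₀)) for a field F₀ with p^(f/2) elements (some anisotropic binary part over F₀); and the G-class of x is the union of exactly c T-classes with c = 1 if p = 2, c = 4 if p is odd, m is odd and p^(f/2) ≡ 1 (mod 4), and c = 2 otherwise. -/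
theorem result {F : Type*} [Field F] [Fintype F] {p f : ℕ} [Fact p.Prime] (hF : Fintype.card F = p ^ f) (hf : 1 ≤ f) {m : ℕ} (hm : 5 ≤ m) (x : MulAut (Cfsg.POmega F (Cfsg.quadFormPlus m F))) (hx : Cfsg.IsGraphFieldAutClassPOmegaPlus m x) (hx2 : orderOf x = 2) (F₀ : Type*) [Field F₀] [Fintype F₀] (hF₀ : Fintype.card F₀ = p ^ (f / 2)) :
    Even f ∧ (∀ y : MulAut (Cfsg.POmega F (Cfsg.quadFormPlus m F)), Cfsg.IsGraphFieldAutClassPOmegaPlus m y → orderOf y = 2 → Cfsg.IsConjUnder (Cfsg.inndiagPOmegaPlus m F) x y) ∧ (∃ a₀ b₀ : F₀, (∀ z₁ z₂ : F₀, z₁ ^ 2 + a₀ * z₁ * z₂ + b₀ * z₂ ^ 2 = 0 → z₁ = 0 ∧ z₂ = 0) ∧ Nonempty (↥(Cfsg.inndiagPOmegaPlus m F ⊓ Subgroup.centralizer {x}) ≃* ↥(Cfsg.inndiagPOmegaMinus (m - 1) F₀ a₀ b₀))) ∧ (p = 2 → Cfsg.splitClassCount (Cfsg.inndiagPOmegaPlus m F) (Cfsg.Inn (Cfsg.POmega F (Cfsg.quadFormPlus m F))) x = 1) ∧ ((p ≠ 2 ∧ Odd m ∧ p ^ (f / 2) % 4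 = 1) → Cfsg.splitClassCount (Cfsg.inndiagPOmegaPlus m F) (Cfsg.Inn (Cfsg.POmega F (Cfsg.quadFormPlus m F))) x = 4) ∧ ((p ≠ 2 ∧ ¬ (Odd m ∧ p ^ (f / 2) % 4 = 1)) → Cfsg.splitClassCount (Cfsg.inndiagPOmegaPlus m F) (Cfsg.Inn (Cfsg.POmega F (Cfsg.quadFormPlus m F))) x = 2) := by
  obtain ⟨n, rfl⟩ : ∃ n, m = n + 1 := ⟨m - 1, by omega⟩
  haveI := Cfsg.Lib.Linear.AutPSL.charP_of_card hf hF
  obtain ⟨B, C⟩ := Cfsg.Lib.Linear.Orth.exists_space_plus (F := F) (n + 1)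
  have hn : 3 ≤ n := by omega
  have hn4 : 4 ≤ n := by omega
  obtain ⟨-, σ, α, hσ, rfl⟩ := plus_graph_class hn p C hx Nat.prime_two hx2
  have hfeven : Even f := even_iff_two_dvd.2 (hσ ▸ Cfsg.Lib.Linear.AutPSL.orderOf_dvd_exp hf hF σ)
  obtain ⟨i, hi⟩ := Cfsg.Lib.Linear.AutPSL.exists_embedding hf hF two_pos hσ F₀ hF₀
  set t := innd (swapS C) * fld stdForm_plus σ with ht
  obtain ⟨h₀, hh₀, e₀⟩ := plus_conj_std hn4 p C σ (swapS C) (Or.inr rfl) α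
  have hD := plus_normal (m := n + 1) (by omega) p C (plus_good (by omega))
  have hnD := Cfsg.Lib.Linear.AutPSp.norms_of_normal hD α
  have hnI := Cfsg.Lib.Linear.AutPSp.norms_of_normal
    (K := Cfsg.Inn (Cfsg.POmega F (Cfsg.quadFormPlus (n + 1) F))) inferInstance α
  obtain ⟨a₀, b₀, hab₀, ⟨e₂⟩, hsplit⟩ := plus_graph_invol hn p C hσ i hi
  have h2p : (2 : F) = 0 ↔ p = 2 := by
    rw [show (2 : F) = ((2 : ℕ) : F) by norm_num, CharP.cast_eq_zero_iff F p,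
      Nat.prime_dvd_prime_iff_eq Fact.out Nat.prime_two]
  refine ⟨hfeven, fun y hy hy2 => ?_, ⟨a₀, b₀, hab₀, ?_⟩, fun hp => ?_, fun ⟨hp, hmo, hq⟩ => ?_, fun ⟨hp, hcase⟩ => ?_⟩
  · obtain ⟨-, σ', β, hσ', rfl⟩ := plus_graph_class hn p C hy Nat.prime_two hy2
    obtain rfl : σ' = σ := by
      classical
      haveI := Cfsg.Lib.Chev.isCyclic_ringAut_field F
      haveI : Fintype (F ≃+* F) := Fintype.ofInjective (fun τ : F ≃+* F => (τ : F → F)) DFunLike.coe_injective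
      have h1 : Nat.totient 2 = 1 := rfl
      have h2 := IsCyclic.card_orderOf_eq_totient (α := F ≃+* F) (d := 2) (by rw [← hσ]; exact orderOf_dvd_card)
      rw [h1, Finset.card_eq_one] at h2
      obtain ⟨g, hg⟩ := h2
      have m1 : σ ∈ ({g} : Finset (F ≃+* F)) := hg ▸ Finset.mem_filter.2 ⟨Finset.mem_univ _, hσ⟩
      have m2 : σ' ∈ ({g} : Finset (F ≃+* F)) := hg ▸ Finset.mem_filter.2 ⟨Finset.mem_univ _, hσ'⟩
      rw [Finset.mem_singleton.1 m1, Finset.mem_singleton.1 m2]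
    obtain ⟨h₁, hh₁, e₁⟩ := plus_conj_std hn4 p C σ' (swapS C) (Or.inr rfl) β
    refine ⟨h₁ * h₀⁻¹, mul_mem hh₁ (inv_mem hh₀), ?_⟩
    rw [e₀, e₁]
    group
  · obtain ⟨e₁⟩ := Cfsg.Lib.Linear.AutPSp.centralizer_norms hnD t
    exact ⟨e₁.trans (e₂.trans (MulEquiv.refl _))⟩
  · exact plus_split_two_char (by omega) p C (h2p.2 hp) _
  · rw [Cfsg.Lib.Linear.AutPSp.splitClassCount_norms hnD hnI]
    exact (hsplit fun h => hp (h2p.1 h)).1 ⟨hmo, by rw [hF₀]; exact hq⟩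
  · rw [Cfsg.Lib.Linear.AutPSp.splitClassCount_norms hnD hnI]
    exact (hsplit fun h => hp (h2p.1 h)).2 (by rw [hF₀]; exact hcase)

end Cfsg.Agent.S2717
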