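import Cfsg.Statements.S2718
import Cfsg.Agent.Lib.H3.InndiagShapes
import Cfsg.Agent.S0790
import Cfsg.Agent.S0791
import Cfsg.Agent.Lib.H3.GraphSplit

set_option linter.style.haveILetI false

set_option autoImplicit false
open Cfsg

namespace Cfsg.Agent.S2718

open Cfsg.Lib.H3.InndiagMod Cfsg.Lib.H3.GraphSplit Cfsg.Lib.Linear.AutPO

set_option maxHeartbeats 1000000 in
/-- Let T = PΩ⁺_{2m}(F) with m ≥ 4 and |F| = q odd, G = Inndiag(T), and γ an involutory graph automorphism of T induced by a similarity (one interchanging the two classes of maximal totally singular subspaces). Then the G-class of γ is either a single T-class or the union of exactly two T-classes, and it is the union of two unless m is odd and q ≡ 3 (mod 4). -/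
theorem result {F : Type*} [Field F] [Fintype F] (hodd : Odd (Fintype.card F)) {m : ℕ} (hm : 4 ≤ m) (γ : MulAut (Cfsg.POmega F (Cfsg.quadFormPlus m F))) (hγ : Cfsg.IsSimilarityGraphAutPOmegaPlus m γ) (hγ2 : orderOf γ = 2) :
    (Cfsg.splitClassCount (Cfsg.inndiagPOmegaPlus m F) (Cfsg.Inn (Cfsg.POmega F (Cfsg.quadFormPlus m F))) γ = 1 ∨ Cfsg.splitClassCount (Cfsg.inndiagPOmegaPlus m F) (Cfsg.Inn (Cfsg.POmega F (Cfsg.quadFormPlus m F))) γ = 2) ∧ (¬ (Odd m ∧ Fintype.card F % 4 = 3) → Cfsg.splitClassCount (Cfsg.inndiagPOmegaPlus m F) (Cfsg.Inn (Cfsg.POmega F (Cfsg.quadFormPlus m F))) γ = 2) := by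
  classical
  haveI := ringChar.charP F
  haveI : Fact (ringChar F).Prime := ⟨CharP.char_is_prime F _⟩
  obtain ⟨B, C⟩ := Cfsg.Lib.Linear.Orth.exists_space_plus (F := F) m
  have h2 : (2 : F) ≠ 0 := Cfsg.Agent.S0790.two_ne hodd
  have hn : Fintype.card (Fin m ⊕ Fin m) = 2 * m := by simp only [Fintype.card_sum, Fintype.card_fin]; omega
  have h7 : 7 ≤ Fintype.card (Fin m ⊕ Fin m) := by omega
  have hi := Cfsg.Agent.S0790.result (rfl : Fintype.card F = _) hodd m (by omega)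
  rw [(Cfsg.Agent.S0790.sign_pow _ m hodd).1] at hi
  have hsim := fun c (hc : c ≠ 0) => exists_sim_plus (F := F) (m := m) (by omega) hc
  have hp := fun (h : ¬ (Odd m ∧ Fintype.card F % 4 = 3)) => hi.2 fun h' => h ⟨h'.2, h'.1⟩
  have hno := fun (h : Odd m ∧ Fintype.card F % 4 = 3) => fun hg => hi.1 hg ⟨h.2, h.1⟩
  obtain ⟨g, hg, hnp, hind⟩ := hγ
  obtain ⟨c, hc⟩ := id hg
  have hdet : g.val.det ≠ (c : F) ^ m := fun h =>
    hnp ((Cfsg.Lib.H3.Singular.preserves_plus_iff h2 m c.ne_zero hc C).2 h)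
  have hγe := eq_semiAut (isSemi_sim ⟨g, hg⟩) hind
  rw [← innd_eq] at hγe
  subst hγe
  have hsq := pow_orderOf_eq_one (innd (⟨g, hg⟩ : ↥(Cfsg.Geo.quadSimilarityGroup (F := F) (Cfsg.quadFormPlus m F))))
  rw [hγ2, sq] at hsq
  rw [inndiag_plus_eq h2]
  have h2c := fun h => count_two C h7 hn h2 (ringChar F) hsim (hp h) (A := ⟨g, hg⟩) hc hdet hsq
  by_cases h : Odd m ∧ Fintype.card F % 4 = 3
  · exact ⟨count_le_two C h7 hn h2 (ringChar F) hsim (hno h) _, fun h' => absurd h h'⟩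
  · exact ⟨Or.inr (h2c h), h2c⟩

end Cfsg.Agent.S2718
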