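import Cfsg.Statements.S2719
import Cfsg.Agent.Lib.H3.InndiagShapes
import Cfsg.Agent.S0790
import Cfsg.Agent.S0791
import Cfsg.Agent.Lib.H3.GraphSplit

set_option linter.style.haveILetI false

set_option autoImplicit false
open Cfsg

namespace Cfsg.Agent.S2719

open Cfsg.Lib.H3.InndiagMod Cfsg.Lib.H3.GraphSplit Cfsg.Lib.Linear.AutPO

set_option maxHeartbeats 1000000 in
/-- An involution of `Aut PΩ⁻` is induced by a similitude. -/
theorem involution_in_range {F : Type*} [Field F] [Fintype F] {p f : ℕ} [Fact p.Prime] [CharP F p] (hp : p ≠ 2)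
    (hf : 1 ≤ f) (hF : Fintype.card F = p ^ f) {m : ℕ} (hm : 3 ≤ m) {a b : F}
    (hab : ∀ z₁ z₂ : F, z₁ ^ 2 + a * z₁ * z₂ + b * z₂ ^ 2 = 0 → z₁ = 0 ∧ z₂ = 0)
    (β : MulAut (Cfsg.POmega F (Cfsg.quadFormMinus m F a b))) (hβ : β * β = 1) :
    β ∈ (innd : ↥(Cfsg.Geo.quadSimilarityGroup (F := F) (Cfsg.quadFormMinus m F a b)) →* _).range := by
  classical
  obtain ⟨B, C⟩ := Cfsg.Lib.Linear.Orth.exists_space_minus (F := F) m a b hab
  have hn : Fintype.card ((Fin m ⊕ Fin m) ⊕ Fin 2) = 2 * (m + 1) := by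
    simp only [Fintype.card_sum, Fintype.card_fin]; omega
  have h7 : 7 ≤ Fintype.card ((Fin m ⊕ Fin m) ⊕ Fin 2) := by omega
  obtain ⟨π, hsurj, hker, -⟩ := exists_field_part hab hm p hf hF
  have h2 : (2 : F) ≠ 0 := fun h => hp (((Nat.prime_dvd_prime_iff_eq (Fact.out : p.Prime) Nat.prime_two).1
    ((CharP.cast_eq_zero_iff F p 2).1 (by exact_mod_cast h))))
  have hodd : Odd (Fintype.card F) := hF ▸ ((Fact.out : p.Prime).odd_of_ne_two hp).pow
  rw [← hker, MonoidHom.mem_ker]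
  rcases Nat.even_or_odd f with hfe | hfo
  swap
  · have h1 : orderOf (π β) ∣ 2 := orderOf_dvd_of_pow_eq_one (by rw [sq, ← map_mul, hβ, map_one])
    haveI : Finite (F ≃+* F) := Nat.finite_of_card_ne_zero (by rw [card_gal p hf hF]; omega)
    have h2' : orderOf (π β) ∣ f := card_gal (F := F) p hf hF ▸ orderOf_dvd_natCard _
    rcases (Nat.dvd_prime Nat.prime_two).1 h1 with h | h
    · exact orderOf_eq_one_iff.1 h
    · rw [h] at h2'
      exact absurd (even_iff_two_dvd.2 h2') (Nat.not_even_iff_odd.2 hfo)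
  -- even exponent: the outer group is `2 × 2f`
  have hc : ¬ (Even m ∧ p ^ f % 4 = 3) := by
    obtain ⟨l, rfl⟩ := hfe
    obtain ⟨j, hj⟩ := ((Fact.out : p.Prime).odd_of_ne_two hp).pow (n := l)
    rintro ⟨-, h3⟩
    rw [pow_add, hj, show (2 * j + 1) * (2 * j + 1) = 4 * (j * j + j) + 1 by ring] at h3
    omega
  have hout := out_odd_minus hab hm p hf hF hp
  rw [if_neg hc] at hout
  obtain ⟨θ⟩ := hout
  set R := π.ker with hR
  set I := Cfsg.Inn (Cfsg.POmega F (Cfsg.quadFormMinus m F a b)) with hI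
  have hIR : I ≤ R := by rw [hker]; exact inn_le_range
  haveI : NeZero (2 * f) := ⟨by omega⟩
  let S : Finset (ZMod 2 × ZMod (2 * f)) := ({0, 1} : Finset (ZMod 2)) ×ˢ {0, (f : ZMod (2 * f))}
  have hS : ∀ y : ZMod 2 × ZMod (2 * f), y + y = 0 → y ∈ S := by
    rintro ⟨u, w⟩ h
    rw [Prod.mk_add_mk, Prod.mk_eq_zero] at h
    refine Finset.mem_product.2 ⟨(show ∀ u : ZMod 2, u ∈ ({0, 1} : Finset (ZMod 2)) by decide) u, ?_⟩
    have hw : ((2 * w.val : ℕ) : ZMod (2 * f)) = 0 := by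
      rw [Nat.cast_mul, ZMod.natCast_zmod_val]; simpa [two_mul] using h.2
    rw [ZMod.natCast_eq_zero_iff] at hw
    have hlt := ZMod.val_lt w
    obtain ⟨k, hk⟩ := Nat.dvd_of_mul_dvd_mul_left two_pos hw
    have : k < 2 := by nlinarith
    rw [← ZMod.natCast_zmod_val w, hk]
    interval_cases k <;> simp
  let ψ : ↥R →* Multiplicative (ZMod 2 × ZMod (2 * f)) :=
    θ.toMonoidHom.comp ((QuotientGroup.mk' I).comp R.subtype)
  have hψker : ψ.ker = I.subgroupOf R := by
    ext x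
    simp [ψ, MonoidHom.mem_ker, Subgroup.mem_subgroupOf]
  have hno : ¬ ∃ z : ↥(Cfsg.isometryGroup F (Cfsg.quadFormMinus m F a b)), z ∈ Cfsg.Omega F (Cfsg.quadFormMinus m F a b) ∧
      (z : GL ((Fin m ⊕ Fin m) ⊕ Fin 2) F).val = -1 := fun hz => by
    have h := (Cfsg.Agent.S0791.sign_pow (p ^ f) (m + 1) (hF ▸ hodd)).2.1
      ((Cfsg.Agent.S0791.result hF (hF ▸ hodd) (m + 1) (by omega) a b hab).1 hz)
    exact hc ⟨Nat.not_odd_iff_even.1 (Nat.odd_add_one.1 h.2), h.1⟩
  have hso := (Cfsg.Lib.H3.inn_relIndex_pso C h2 ⟨m + 1, by omega⟩ h7).2 hno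
  rw [← soImage_eq_pso, Subgroup.relIndex_eq_one] at hso
  have hrange : Nat.card ψ.range = 4 := by
    rw [← Subgroup.index_ker, hψker]
    have h := relIndex_range hab hm p hf hF
    rw [if_neg hp, if_neg hc] at h
    show I.relIndex R = 4
    rw [hker]; exact h
  have hsubS : ∀ y ∈ ψ.range, Multiplicative.toAdd y ∈ S := by
    rintro _ ⟨x, rfl⟩
    refine hS _ ?_
    rw [← toAdd_mul, ← map_mul]
    have : x * x ∈ ψ.ker := by
      rw [hψker, Subgroup.mem_subgroupOf, Subgroup.coe_mul]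
      obtain ⟨A, hA⟩ : (x : MulAut _) ∈ (innd : ↥(Cfsg.Geo.quadSimilarityGroup (F := F) (Cfsg.quadFormMinus m F a b)) →* _).range :=
        hker ▸ x.2
      rw [← hA]
      exact hso (sq_mem_soImage C h7 p hn A)
    rw [MonoidHom.mem_ker.1 this, toAdd_one]
  let emb : ↥ψ.range → ↥S := fun y => ⟨Multiplicative.toAdd (y : Multiplicative (ZMod 2 × ZMod (2 * f))), hsubS _ y.2⟩
  have hemb : Function.Injective emb := fun y z e => by
    have e' := congrArg Subtype.val e
    exact Subtype.ext (Multiplicative.toAdd.injective e')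
  have hcardS : S.card ≤ 4 := by
    rw [Finset.card_product]
    exact Nat.mul_le_mul (Finset.card_le_two) (Finset.card_le_two)
  have hbij : Function.Bijective emb := (Fintype.bijective_iff_injective_and_card emb).2 ⟨hemb, by
    have h1 := Fintype.card_le_of_injective emb hemb
    rw [Fintype.card_coe, ← Nat.card_eq_fintype_card, hrange] at h1
    rw [Fintype.card_coe, ← Nat.card_eq_fintype_card, hrange]
    omega⟩
  have hmem : Multiplicative.toAdd (θ (QuotientGroup.mk β)) ∈ S := by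
    refine hS _ ?_
    rw [← toAdd_mul, ← map_mul, ← QuotientGroup.mk_mul, hβ, QuotientGroup.mk_one, map_one, toAdd_one]
  obtain ⟨⟨_, x, rfl⟩, hx⟩ := hbij.2 ⟨_, hmem⟩
  have he : θ (QuotientGroup.mk (x : MulAut _)) = θ (QuotientGroup.mk β) :=
    Multiplicative.toAdd.injective (congrArg Subtype.val hx)
  have hx' := hIR (QuotientGroup.eq.1 (θ.injective he))
  have h1 := MonoidHom.mem_ker.1 hx'
  rw [map_mul, map_inv, MonoidHom.mem_ker.1 x.2, inv_one, one_mul] at h1
  exact h1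

set_option maxHeartbeats 1000000 in
/-- Let T = PΩ⁻_{2m+2}(F) with m ≥ 3 and |F| = q odd (form with anisotropic binary part z₁² + a z₁ z₂ + b z₂²), G = Inndiag(T), and γ an involutory graph automorphism of T (an automorphism in the image of the semisimilarity group, not inner-diagonal, of order 2). Then the G-class of γ is either a single T-class or the union of exactly two T-classes, and it is the union of two unless m is even and q ≡ 1 (mod 4). -/
theorem result {F : Type*} [Field F] [Fintype F] (hodd : Odd (Fintype.card F)) {m : ℕ} (hm : 3 ≤ m) (a b : F) (hab : (∀ z₁ z₂ : F, z₁ ^ 2 + a * z₁ * z₂ + b * z₂ ^ 2 = 0 → z₁ = 0 ∧ z₂ = 0)) (γ : MulAut (Cfsg.POmega F (Cfsg.quadFormMinus m F a b))) (hγ : Cfsg.IsGraphAutClassPOmegaMinus m a b γ) (hγ2 : orderOf γ = 2) :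
    (Cfsg.splitClassCount (Cfsg.inndiagPOmegaMinus m F a b) (Cfsg.Inn (Cfsg.POmega F (Cfsg.quadFormMinus m F a b))) γ = 1 ∨ Cfsg.splitClassCount (Cfsg.inndiagPOmegaMinus m F a b) (Cfsg.Inn (Cfsg.POmega F (Cfsg.quadFormMinus m F a b))) γ = 2) ∧ (¬ (Even m ∧ Fintype.card F % 4 = 1) → Cfsg.splitClassCount (Cfsg.inndiagPOmegaMinus m F a b) (Cfsg.Inn (Cfsg.POmega F (Cfsg.quadFormMinus m F a b))) γ = 2) := by
  classical
  haveI := ringChar.charP F
  haveI : Fact (ringChar F).Prime := ⟨CharP.char_is_prime F _⟩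
  obtain ⟨B, C⟩ := Cfsg.Lib.Linear.Orth.exists_space_minus (F := F) m a b hab
  have h2 : (2 : F) ≠ 0 := Cfsg.Agent.S0791.two_ne hodd
  have hn : Fintype.card ((Fin m ⊕ Fin m) ⊕ Fin 2) = 2 * (m + 1) := by
    simp only [Fintype.card_sum, Fintype.card_fin]; omega
  have h7 : 7 ≤ Fintype.card ((Fin m ⊕ Fin m) ⊕ Fin 2) := by omega
  have hi := Cfsg.Agent.S0791.result (rfl : Fintype.card F = _) hodd (m + 1) (by omega) a b hab
  rw [(Cfsg.Agent.S0791.sign_pow _ (m + 1) hodd).2] at hi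
  have hsim := fun c (hc : c ≠ 0) => Cfsg.Lib.Linear.AutPO.exists_sim hab (m := m) (by omega) hc
  have hmo : Odd (m + 1) ↔ Even m := Nat.odd_add_one.trans Nat.not_odd_iff_even
  have hp := fun (h : Even m ∧ Fintype.card F % 4 = 3) => hi.2 ⟨h.2, hmo.2 h.1⟩
  have hno := fun (h : ¬ (Even m ∧ Fintype.card F % 4 = 3)) => fun hg => h ⟨hmo.1 (hi.1 hg).2, (hi.1 hg).1⟩
  obtain ⟨f, hpr, hF⟩ := FiniteField.card F (ringChar F)
  have hp2 : ringChar F ≠ 2 := fun h => h2 (by haveI := ringChar.of_eq h; exact CharTwo.two_eq_zero)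
  have hsq := pow_orderOf_eq_one γ
  rw [hγ2, sq] at hsq
  obtain ⟨A, rfl⟩ := involution_in_range hp2 f.2 hF hm hab γ hsq
  obtain ⟨c, hc⟩ := A.2
  have hdet : A.1.val.det ≠ (c : F) ^ (m + 1) := fun h => hγ.2.1 (by
    rw [inndiag_minus_eq h2 hab]; exact ⟨A, ⟨c, hc, h⟩, rfl⟩)
  rw [inndiag_minus_eq h2 hab]
  by_cases h : Even m ∧ Fintype.card F % 4 = 3
  · have h2c := count_two C h7 hn h2 (ringChar F) hsim (hp h) (A := A) hc hdet hsq
    exact ⟨Or.inr h2c, fun _ => h2c⟩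
  · refine ⟨count_le_two C h7 hn h2 (ringChar F) hsim (hno h) _, fun h' => ?_⟩
    have hev : Even (m + 1) := by
      have h4 : Fintype.card F % 4 = 1 ∨ Fintype.card F % 4 = 3 := by rw [Nat.odd_iff] at hodd; omega
      rw [Nat.even_add_one]
      exact fun hm' => h4.elim (fun h1 => h' ⟨hm', h1⟩) (fun h3 => h ⟨hm', h3⟩)
    exact count_two_of_even C h7 hn h2 (ringChar F) hsim (hno h) hev (A := A) hc hdet hsq

end Cfsg.Agent.S2719
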