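import Cfsg.Statements.S2722
import Cfsg.Agent.Lib.H3.PGOQuot
import Cfsg.Agent.Lib.Linear.OrthForms

set_option linter.style.haveILetI false

set_option autoImplicit false
open Cfsg

namespace Cfsg.Agent.S2722

/-- Let T = PΩ⁺_{2m}(F) with m ≥ 4 and |F| = q odd. Inside Aut(T), the image G̃ of the conformal orthogonal group of the form modulo the image of the special orthogonal group is elementary abelian of order 4. -/
theorem result {F : Type*} [Field F] [Fintype F] (hodd : Odd (Fintype.card F)) {m : ℕ} (hm : 4 ≤ m) :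
    (∃ φ : ↥(Cfsg.pgoAut F (Cfsg.quadFormPlus m F)) →* Multiplicative (ZMod 2 × ZMod 2), Function.Surjective φ ∧ φ.ker = (Cfsg.psoAut F (Cfsg.quadFormPlus m F)).subgroupOf (Cfsg.pgoAut F (Cfsg.quadFormPlus m F))) := by
  classical
  obtain ⟨B, C⟩ := Cfsg.Lib.Linear.Orth.exists_space_plus (F := F) m
  have h2 : (2 : F) ≠ 0 := by
    intro h2
    haveI : CharP F 2 := CharTwo.of_one_ne_zero_of_two_eq_zero one_ne_zero h2
    have := FiniteField.even_card_of_char_two (ringChar.eq F 2)
    obtain ⟨a, ha⟩ := hodd
    omega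
  refine Cfsg.Lib.H3.pgo_mod_pso C h2 (k := m) ((show Fintype.card (Fin m ⊕ Fin m) = 2 * m by simp only [Fintype.card_sum, Fintype.card_fin]; omega)) (by simp only [Fintype.card_sum, Fintype.card_fin]; omega) (fun x hx => ?_)
  let q : QuadraticForm F ((Fin m ⊕ Fin m) → F) := QuadraticMap.ofPolar (Cfsg.quadFormPlus m F)
    (fun a v => by rw [C.smul, smul_eq_mul, sq])
    (fun u u' v => by simp only [C.polar, map_add, LinearMap.add_apply])
    (fun a u v => by simp only [C.polar, map_smul, LinearMap.smul_apply])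
  have hq : (QuadraticMap.polarBilin q).Nondegenerate := by
    constructor
    · intro u hu
      refine C.nondeg' fun y => ?_
      rw [← C.polar]
      exact hu y
    · intro y hy
      refine C.nondeg y fun u => ?_
      rw [← C.polar]
      exact hy u
  obtain ⟨t, ht⟩ := Cfsg.Lib.Linear.Orth.exists_similarity (m := m) (by omega)
    (by rw [Module.finrank_fintype_fun_eq_card]; exact (show Fintype.card (Fin m ⊕ Fin m) = 2 * m by simp only [Fintype.card_sum, Fintype.card_fin]; omega)) q hq x hx
  have hinv : LinearMap.toMatrix' t.toLinearMap * LinearMap.toMatrix' t.symm.toLinearMap = 1 := by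
    rw [← LinearMap.toMatrix'_comp, LinearEquiv.comp_symm, LinearMap.toMatrix'_id]
  refine ⟨Cfsg.Lib.Linear.Orth.toGL (LinearMap.toMatrix' t.toLinearMap), fun v => ?_⟩
  rw [Cfsg.Lib.Linear.Orth.toGL_val hinv, LinearMap.toMatrix'_mulVec]
  exact ht v

end Cfsg.Agent.S2722
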