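import Cfsg.Statements.S2723
import Cfsg.Agent.Lib.H3.PGOIndex
import Cfsg.Agent.S0790
import Cfsg.Agent.S0791

set_option linter.style.haveILetI false

set_option autoImplicit false
open Cfsg

namespace Cfsg.Agent.S2723

/-- Let T = PΩ⁺_{2m}(F) with m ≥ 4 and |F| = q odd. The image of the special orthogonal group in Aut(T) contains the inner automorphism group T with index 1 (they coincide) when m is odd and q ≡ 3 (mod 4), and with index 2 otherwise (the index is 2 exactly when the discriminant of the form is a square). -/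
theorem result {F : Type*} [Field F] [Fintype F] (hodd : Odd (Fintype.card F)) {m : ℕ} (hm : 4 ≤ m) :
    ((Odd m ∧ Fintype.card F % 4 = 3) → (Cfsg.Inn (Cfsg.POmega F (Cfsg.quadFormPlus m F))).relIndex (Cfsg.psoAut F (Cfsg.quadFormPlus m F)) = 1) ∧ (¬ (Odd m ∧ Fintype.card F % 4 = 3) → (Cfsg.Inn (Cfsg.POmega F (Cfsg.quadFormPlus m F))).relIndex (Cfsg.psoAut F (Cfsg.quadFormPlus m F)) = 2) := by
  classical
  obtain ⟨B, C⟩ := Cfsg.Lib.Linear.Orth.exists_space_plus (F := F) m
  obtain ⟨hA, hB⟩ := Cfsg.Lib.H3.inn_relIndex_pso C (Cfsg.Agent.S0790.two_ne hodd)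
    ⟨m, by simp only [Fintype.card_sum, Fintype.card_fin]⟩
    (by simp only [Fintype.card_sum, Fintype.card_fin]; omega)
  have hi := Cfsg.Agent.S0790.result (rfl : Fintype.card F = _) hodd m (by omega)
  have hp := (Cfsg.Agent.S0790.sign_pow (Fintype.card F) m hodd).1
  refine ⟨fun h => hB fun hg => ?_, fun h => hA (hi.2 (hp.2 fun hc => h ⟨hc.2, hc.1⟩))⟩
  exact hp.1 (hi.1 hg) ⟨h.2, h.1⟩

end Cfsg.Agent.S2723
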