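import Cfsg.Statements.S2724
import Cfsg.Agent.Lib.H3.InndiagShapes
import Cfsg.Agent.S0790
import Cfsg.Agent.S0791

set_option linter.style.haveILetI false

set_option autoImplicit false
open Cfsg

namespace Cfsg.Agent.S2724

open Cfsg.Lib.H3.InndiagMod

/-- Let T = PΩ⁺_{2m}(F) with m ≥ 4 and |F| = q odd. The image G̃ of the conformal orthogonal group in Aut(T), taken modulo the inner automorphism group T, is elementary abelian of order 4 when m is odd and q ≡ 3 (mod 4), and dihedral of order 8 otherwise. -/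
theorem result {F : Type*} [Field F] [Fintype F] (hodd : Odd (Fintype.card F)) {m : ℕ} (hm : 4 ≤ m) :
    ((Odd m ∧ Fintype.card F % 4 = 3) → (∃ φ : ↥(Cfsg.pgoAut F (Cfsg.quadFormPlus m F)) →* Multiplicative (ZMod 2 × ZMod 2), Function.Surjective φ ∧ φ.ker = (Cfsg.Inn (Cfsg.POmega F (Cfsg.quadFormPlus m F))).subgroupOf (Cfsg.pgoAut F (Cfsg.quadFormPlus m F)))) ∧ (¬ (Odd m ∧ Fintype.card F % 4 = 3) → (∃ φ : ↥(Cfsg.pgoAut F (Cfsg.quadFormPlus m F)) →* DihedralGroup 4, Function.Surjective φ ∧ φ.ker = (Cfsg.Inn (Cfsg.POmega F (Cfsg.quadFormPlus m F))).subgroupOf (Cfsg.pgoAut F (Cfsg.quadFormPlus m F)))) := by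
  classical
  haveI := ringChar.charP F
  haveI : Fact (ringChar F).Prime := ⟨CharP.char_is_prime F _⟩
  obtain ⟨B, C⟩ := Cfsg.Lib.Linear.Orth.exists_space_plus (F := F) m
  have h2 : (2 : F) ≠ 0 := Cfsg.Agent.S0790.two_ne hodd
  have hn : Fintype.card (Fin m ⊕ Fin m) = 2 * m := by simp only [Fintype.card_sum, Fintype.card_fin]; omega
  have h7 : 7 ≤ Fintype.card (Fin m ⊕ Fin m) := by omega
  have hi := Cfsg.Agent.S0790.result (rfl : Fintype.card F = _) hodd m (by omega)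
  rw [(Cfsg.Agent.S0790.sign_pow _ m hodd).1] at hi
  have hsim := fun c (hc : c ≠ 0) => exists_sim_plus (F := F) (m := m) (by omega) hc
  have hp := fun (h : ¬ (Odd m ∧ Fintype.card F % 4 = 3)) => hi.2 fun h' => h ⟨h'.2, h'.1⟩
  have hno := fun (h : Odd m ∧ Fintype.card F % 4 = 3) => fun hg => hi.1 hg ⟨h.2, h.1⟩
  exact ⟨fun h => pgo_klein C h7 (ringChar F) hn h2 hsim (hno h),
    fun h => pgo_dihedral C h7 (ringChar F) hn h2 hsim (hp h)⟩

end Cfsg.Agent.S2724
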