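import Cfsg.Statements.S2726
import Cfsg.Agent.Lib.H3.PGOQuot
import Cfsg.Agent.Lib.Linear.OrthForms

set_option linter.style.haveILetI false

set_option autoImplicit false
open Cfsg

namespace Cfsg.Agent.S2726

/-- Let T = PΩ⁻_{2m+2}(F) with m ≥ 3 and |F| = q odd (form with anisotropic binary part). Inside Aut(T), the image G̃ of the conformal orthogonal group of the form modulo the image of the special orthogonal group is elementary abelian of order 4. -/
theorem result {F : Type*} [Field F] [Fintype F] (hodd : Odd (Fintype.card F)) {m : ℕ} (hm : 3 ≤ m) (a b : F) (hab : (∀ z₁ z₂ : F, z₁ ^ 2 + a * z₁ * z₂ + b * z₂ ^ 2 = 0 → z₁ = 0 ∧ z₂ = 0)) :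
    (∃ φ : ↥(Cfsg.pgoAut F (Cfsg.quadFormMinus m F a b)) →* Multiplicative (ZMod 2 × ZMod 2), Function.Surjective φ ∧ φ.ker = (Cfsg.psoAut F (Cfsg.quadFormMinus m F a b)).subgroupOf (Cfsg.pgoAut F (Cfsg.quadFormMinus m F a b))) := by
  classical
  obtain ⟨B, C⟩ := Cfsg.Lib.Linear.Orth.exists_space_minus (F := F) m a b hab
  have h2 : (2 : F) ≠ 0 := by
    intro h2
    haveI : CharP F 2 := CharTwo.of_one_ne_zero_of_two_eq_zero one_ne_zero h2
    have := FiniteField.even_card_of_char_two (ringChar.eq F 2)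
    obtain ⟨a, ha⟩ := hodd
    omega
  refine Cfsg.Lib.H3.pgo_mod_pso C h2 (k := (m + 1)) ((show Fintype.card ((Fin m ⊕ Fin m) ⊕ Fin 2) = 2 * (m + 1) by simp only [Fintype.card_sum, Fintype.card_fin]; omega)) (by simp only [Fintype.card_sum, Fintype.card_fin]; omega) (fun x hx => ?_)
  let q : QuadraticForm F (((Fin m ⊕ Fin m) ⊕ Fin 2) → F) := QuadraticMap.ofPolar (Cfsg.quadFormMinus m F a b)
    (fun a v => by rw [C.smul, smul_eq_mul, sq])
    (fun u u' v => by simp only [C.polar, map_add, LinearMap.add_apply])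
    (fun a u v => by simp only [C.polar, map_smul, LinearMap.smul_apply])
  have hq : (QuadraticMap.polarBilin q).Nondegenerate := by
    constructor
    · intro u hu
      refine C.nondeg' fun y => ?_
      rw [← C.polar]
      exact hu y
    · intro y hy
      refine C.nondeg y fun u => ?_
      rw [← C.polar]
      exact hy u
  obtain ⟨t, ht⟩ := Cfsg.Lib.Linear.Orth.exists_similarity (m := (m + 1)) (by omega)
    (by rw [Module.finrank_fintype_fun_eq_card]; exact (show Fintype.card ((Fin m ⊕ Fin m) ⊕ Fin 2) = 2 * (m + 1) by simp only [Fintype.card_sum, Fintype.card_fin]; omega)) q hq x hx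
  have hinv : LinearMap.toMatrix' t.toLinearMap * LinearMap.toMatrix' t.symm.toLinearMap = 1 := by
    rw [← LinearMap.toMatrix'_comp, LinearEquiv.comp_symm, LinearMap.toMatrix'_id]
  refine ⟨Cfsg.Lib.Linear.Orth.toGL (LinearMap.toMatrix' t.toLinearMap), fun v => ?_⟩
  rw [Cfsg.Lib.Linear.Orth.toGL_val hinv, LinearMap.toMatrix'_mulVec]
  exact ht v

end Cfsg.Agent.S2726
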