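import Cfsg.Statements.S2727
import Cfsg.Agent.Lib.H3.PGOIndex
import Cfsg.Agent.S0790
import Cfsg.Agent.S0791

set_option linter.style.haveILetI false

set_option autoImplicit false
open Cfsg

namespace Cfsg.Agent.S2727

/-- Let T = PΩ⁻_{2m+2}(F) with m ≥ 3 and |F| = q odd (form with anisotropic binary part). The image of the special orthogonal group in Aut(T) contains the inner automorphism group T with index 2 when m is even and q ≡ 3 (mod 4), and coincides with it otherwise (the index is 2 exactly when the discriminant of the form is a square). -/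
theorem result {F : Type*} [Field F] [Fintype F] (hodd : Odd (Fintype.card F)) {m : ℕ} (hm : 3 ≤ m) (a b : F) (hab : (∀ z₁ z₂ : F, z₁ ^ 2 + a * z₁ * z₂ + b * z₂ ^ 2 = 0 → z₁ = 0 ∧ z₂ = 0)) :
    ((Even m ∧ Fintype.card F % 4 = 3) → (Cfsg.Inn (Cfsg.POmega F (Cfsg.quadFormMinus m F a b))).relIndex (Cfsg.psoAut F (Cfsg.quadFormMinus m F a b)) = 2) ∧ (¬ (Even m ∧ Fintype.card F % 4 = 3) → (Cfsg.Inn (Cfsg.POmega F (Cfsg.quadFormMinus m F a b))).relIndex (Cfsg.psoAut F (Cfsg.quadFormMinus m F a b)) = 1) := by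
  classical
  obtain ⟨B, C⟩ := Cfsg.Lib.Linear.Orth.exists_space_minus (F := F) m a b hab
  obtain ⟨hA, hB⟩ := Cfsg.Lib.H3.inn_relIndex_pso C (Cfsg.Agent.S0790.two_ne hodd)
    ⟨m + 1, by simp only [Fintype.card_sum, Fintype.card_fin]; omega⟩
    (by simp only [Fintype.card_sum, Fintype.card_fin]; omega)
  have hi := Cfsg.Agent.S0791.result (rfl : Fintype.card F = _) hodd (m + 1) (by omega) a b hab
  have hp := (Cfsg.Agent.S0791.sign_pow (Fintype.card F) (m + 1) hodd).2
  have hmo : Odd (m + 1) ↔ Even m := Nat.odd_add_one.trans Nat.not_odd_iff_even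
  refine ⟨fun h => hA (hi.2 (hp.2 ⟨h.2, hmo.2 h.1⟩)), fun h => hB fun hg => ?_⟩
  exact h ⟨hmo.1 (hp.1 (hi.1 hg)).2, (hp.1 (hi.1 hg)).1⟩

end Cfsg.Agent.S2727
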