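import Cfsg.Statements.S2728
import Cfsg.Agent.Lib.H3.InndiagShapes
import Cfsg.Agent.S0790
import Cfsg.Agent.S0791

set_option linter.style.haveILetI false

set_option autoImplicit false
open Cfsg

namespace Cfsg.Agent.S2728

open Cfsg.Lib.H3.InndiagMod

/-- Let T = PΩ⁻_{2m+2}(F) with m ≥ 3 and |F| = q odd (form with anisotropic binary part). The image G̃ of the conformal orthogonal group in Aut(T), taken modulo the inner automorphism group T, is dihedral of order 8 when m is even and q ≡ 3 (mod 4), and elementary abelian of order 4 otherwise. -/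
theorem result {F : Type*} [Field F] [Fintype F] (hodd : Odd (Fintype.card F)) {m : ℕ} (hm : 3 ≤ m) (a b : F) (hab : (∀ z₁ z₂ : F, z₁ ^ 2 + a * z₁ * z₂ + b * z₂ ^ 2 = 0 → z₁ = 0 ∧ z₂ = 0)) :
    ((Even m ∧ Fintype.card F % 4 = 3) → (∃ φ : ↥(Cfsg.pgoAut F (Cfsg.quadFormMinus m F a b)) →* DihedralGroup 4, Function.Surjective φ ∧ φ.ker = (Cfsg.Inn (Cfsg.POmega F (Cfsg.quadFormMinus m F a b))).subgroupOf (Cfsg.pgoAut F (Cfsg.quadFormMinus m F a b)))) ∧ (¬ (Even m ∧ Fintype.card F % 4 = 3) → (∃ φ : ↥(Cfsg.pgoAut F (Cfsg.quadFormMinus m F a b)) →* Multiplicative (ZMod 2 × ZMod 2), Function.Surjective φ ∧ φ.ker = (Cfsg.Inn (Cfsg.POmega F (Cfsg.quadFormMinus m F a b))).subgroupOf (Cfsg.pgoAut F (Cfsg.quadFormMinus m F a b)))) := by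
  classical
  haveI := ringChar.charP F
  haveI : Fact (ringChar F).Prime := ⟨CharP.char_is_prime F _⟩
  obtain ⟨B, C⟩ := Cfsg.Lib.Linear.Orth.exists_space_minus (F := F) m a b hab
  have h2 : (2 : F) ≠ 0 := Cfsg.Agent.S0791.two_ne hodd
  have hn : Fintype.card ((Fin m ⊕ Fin m) ⊕ Fin 2) = 2 * (m + 1) := by
    simp only [Fintype.card_sum, Fintype.card_fin]; omega
  have h7 : 7 ≤ Fintype.card ((Fin m ⊕ Fin m) ⊕ Fin 2) := by omega
  have hi := Cfsg.Agent.S0791.result (rfl : Fintype.card F = _) hodd (m + 1) (by omega) a b hab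
  rw [(Cfsg.Agent.S0791.sign_pow _ (m + 1) hodd).2] at hi
  have hsim := fun c (hc : c ≠ 0) => Cfsg.Lib.Linear.AutPO.exists_sim hab (m := m) (by omega) hc
  have hmo : Odd (m + 1) ↔ Even m := Nat.odd_add_one.trans Nat.not_odd_iff_even
  have hp := fun (h : Even m ∧ Fintype.card F % 4 = 3) => hi.2 ⟨h.2, hmo.2 h.1⟩
  have hno := fun (h : ¬ (Even m ∧ Fintype.card F % 4 = 3)) => fun hg => h ⟨hmo.1 (hi.1 hg).2, (hi.1 hg).1⟩
  exact ⟨fun h => pgo_dihedral C h7 (ringChar F) hn h2 hsim (hp h),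
    fun h => pgo_klein C h7 (ringChar F) hn h2 hsim (hno h)⟩

end Cfsg.Agent.S2728
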