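import Cfsg.Statements.S2732
import Cfsg.Agent.Lib.Linear.AutPO.D4Comp
import Cfsg.Agent.Lib.Linear.AutPO.TriCore
import Cfsg.Agent.Lib.Linear.AutPO.D4Diag

set_option autoImplicit false
open Cfsg

namespace Cfsg.Agent.S2732

open Cfsg.Lib.Linear.AutPO Cfsg.Lib.Linear.Orth
open Cfsg.Lie (chevD4)

set_option maxHeartbeats 4000000
set_option synthInstance.maxHeartbeats 400000
set_option linter.unusedSectionVars false

/-- Not inner-diagonal, as a statement about the inner-diagonal group. -/
theorem notMem_inndiag {F : Type*} [Field F] [Fintype F] {m : ℕ} (hm : 4 ≤ m) (r : ℕ) [Fact r.Prime] [CharP F r]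
    {x : MulAut (Cfsg.POmega F (Cfsg.quadFormPlus m F))} (hnot : ¬ Cfsg.IsInnerDiagonalAutPOmegaPlus m x) :
    x ∉ Cfsg.inndiagPOmegaPlus m F := by
  obtain ⟨B, C⟩ := exists_space_plus (F := F) m
  intro h
  obtain ⟨A, hA, rfl⟩ := (mem_inndiag_plus hm r C).1 h
  exact hnot ⟨A.1, A.2, hA, isInduced_innd A⟩

/-- Transport of the core along an isomorphism. -/
theorem core_transport {G H : Type*} [Group G] [Group H] [Finite (MulAut G)] [Finite (MulAut H)] (p : ℕ) [Fact p.Prime]
    (e : MulAut G ≃* MulAut H) (A : Subgroup (MulAut H)) (x : MulAut G)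
    (h : Cfsg.pPrimeCore p ↥(A.comap e.toMonoidHom ⊓ Subgroup.centralizer {x}) = ⊥) :
    Cfsg.pPrimeCore p ↥(A ⊓ Subgroup.centralizer {e x}) = ⊥ := by
  have hS : (A.comap e.toMonoidHom ⊓ Subgroup.centralizer {x}).map e.toMonoidHom =
      A ⊓ Subgroup.centralizer {e x} := by
    ext y
    rw [Subgroup.mem_map_equiv, Subgroup.mem_inf, Subgroup.mem_inf, Subgroup.mem_comap,
      Subgroup.mem_centralizer_singleton_iff, Subgroup.mem_centralizer_singleton_iff]
    refine and_congr (by simp) ⟨fun h => ?_, fun h => e.injective (by simpa using h)⟩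
    simpa using congrArg e h
  let E : ↥(A.comap e.toMonoidHom ⊓ Subgroup.centralizer {x}) ≃* ↥(A ⊓ Subgroup.centralizer {e x}) :=
    ((A.comap e.toMonoidHom ⊓ Subgroup.centralizer {x}).equivMapOfInjective e.toMonoidHom e.injective).trans
      (MulEquiv.subgroupCongr hS)
  rw [← Cfsg.Lib.Core.map_pPrimeCore_equiv E, h, Subgroup.map_bot]

/-- A criterion for the failure of local balance in almost simple groups whose socle is a plus-type orthogonal group PΩ⁺_{2m}(F) (m ≥ 4; the form Σ xᵢ yᵢ). Let F be a finite field of characteristic r and K the (simple) group in question; let A be a group of automorphisms of K containing all inner automorphisms, and x ∈ A an automorphism of prime order p ≠ r that is not inner-diagonal (not induced by a similarity preserving the two classes of maximal totally singular subspaces). Then the largest normal subgroup of C_A(x) of order prime to p is nontrivial if and only if x is a field automorphism of K (conjugate under Aut(K) to a non-identity standard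 field automorphism) and p does not divide the number of fixed points of x on K. -/
theorem result {F : Type*} [Field F] [Fintype F] {r : ℕ} [Fact r.Prime] [CharP F r] {m : ℕ} (hm : 4 ≤ m) (hK : IsSimpleGroup (Cfsg.POmega F (Cfsg.quadFormPlus m F))) (A : Subgroup (MulAut (Cfsg.POmega F (Cfsg.quadFormPlus m F)))) (hinn : ∀ k : Cfsg.POmega F (Cfsg.quadFormPlus m F), MulAut.conj k ∈ A) {p : ℕ} [Fact p.Prime] (hpr : p ≠ r) (x : MulAut (Cfsg.POmega F (Cfsg.quadFormPlus m F))) (hxA : x ∈ A) (hord : orderOf x = p) (hnot : ¬ Cfsg.IsInnerDiagonalAutPOmegaPlus m x) :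
    Cfsg.pPrimeCore p ↥(A ⊓ Subgroup.centralizer {x}) ≠ ⊥ ↔ (Cfsg.IsFieldAutClassPOmega (Cfsg.quadFormPlus m F) x ∧ Nat.Coprime p (Nat.card ↥(MonoidHom.eqLocus x.toMonoidHom (MonoidHom.id (Cfsg.POmega F (Cfsg.quadFormPlus m F)))))) := by
  classical
  obtain ⟨n, rfl⟩ : ∃ n, m = n + 1 := ⟨m - 1, by omega⟩
  have hD := notMem_inndiag hm r hnot
  have hn : 3 ≤ n := by omega
  haveI : Finite (Cfsg.POmega F (Cfsg.quadFormPlus (n + 1) F)) := inferInstanceAs (Finite (_ ⧸ _))
  obtain ⟨B, C⟩ := exists_space_plus (F := F) (n + 1)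
  rcases eq_or_lt_of_le hn with rfl | h5
  swap
  · have hall : ∀ b : MulAut (Cfsg.POmega F (Cfsg.quadFormPlus (n + 1) F)),
        IsSemiAut (Cfsg.quadFormPlus (n + 1) F) b := fun b =>
      exists_decomp C (by simp only [Fintype.card_sum, Fintype.card_fin]; omega) r b (plus_good (by omega))
    obtain ⟨g, σ, hs, e⟩ := hall x
    subst e
    rw [semiAut_eq_mul stdForm_plus hs] at hord hD ⊢
    exact plus_balance_semi hn r hpr A hinn _ σ hord hD (fun _ _ _ b _ => hall b) (fun _ _ _ b _ => hall b)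
  obtain ⟨e, he⟩ := exists_rootEquiv (F := F)
  haveI : (Cfsg.inndiagPOmegaPlus 4 F).Normal := plus_normal_all r hm
  set π := autPerm e x with hπ
  have hcases : ∀ π : Equiv.Perm (Fin 3), (π ^ 3 = 1 ∧ π ≠ 1) ∨ ∃ τ : Equiv.Perm (Fin 3), (τ⁻¹ * π * τ) 0 = 0 := by
    decide +kernel
  rcases hcases π with ⟨h3, h1⟩ | ⟨τ, hτ⟩
  · -- triality
    have hp : π ^ p = 1 := by rw [hπ, ← map_pow, ← hord, pow_orderOf_eq_one, map_one]
    have hp3 : p = 3 := by
      rcases (Nat.dvd_prime Fact.out).1 ((orderOf_eq_prime h3 h1 : orderOf π = 3) ▸ orderOf_dvd_of_pow_eq_one hp) with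
        h | h
      · omega
      · exact h.symm
    subst hp3
    have hcore : Cfsg.pPrimeCore 3 ↥(A ⊓ Subgroup.centralizer {x}) = ⊥ := by
      have h := core_transport 3 (trf e) A ((trf e).symm x) (Tri.tri_core_eq_bot r hpr.symm
        (A.comap (trf e).toMonoidHom) (fun k => by
          show trf e (MulAut.conj k) ∈ A
          rw [trf_conj]
          exact hinn _)
        (by rw [← map_pow, ← hord, pow_orderOf_eq_one, map_one]) h1)
      rwa [MulEquiv.apply_symm_apply] at h
    refine iff_of_false (not_not.2 hcore) ?_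
    rintro ⟨⟨α, φ, σ, -, hφ, hc⟩, -⟩
    rw [isFieldAut_iff stdForm_plus] at hφ
    subst hφ
    apply h1
    have h := congrArg (autPerm e) hc
    rw [autPerm_fld he, map_mul, map_mul, map_inv, mul_inv_eq_one, mul_eq_left] at h
    exact h
  · -- semisimilarities
    set a := trf e (endGraph τ) with ha
    set y := a⁻¹ * x * a with hy
    have hxy : x = a * y * a⁻¹ := by rw [hy]; group
    obtain ⟨hcore, hcard⟩ := balance_of_conj (ℓ := p) A hxy
    have hyD : y ∉ Cfsg.inndiagPOmegaPlus 4 F := fun h => hD (by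
      rw [hxy]; exact Subgroup.Normal.conj_mem inferInstance y h a)
    have hy0 : autPerm e y 0 = 0 := by
      rw [hy, map_mul, map_mul, map_inv, ha, autPerm_graph]
      exact hτ
    obtain ⟨g, σ, hs, ey⟩ := isSemi_of_perm he r C hy0
    rw [semiAut_eq_mul stdForm_plus hs] at ey
    have hyord : orderOf y = p := by rw [← hord, hxy, Cfsg.Lib.Linear.AutPSL.orderOf_conj]
    rw [ey] at hyord hyD
    have key := plus_balance_semi (n := 3) le_rfl r hpr (A.map (MulAut.conj a⁻¹).toMonoidHom)
      (Cfsg.Lib.Linear.Balance.inn_map A hinn _) _ σ hyord hyD (ratDec_three he r) (twistDec_three he r)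
    rw [← ey] at key
    rw [Ne, hcore, ← Ne, key, hcard]
    refine and_congr_left' ⟨fun ⟨α, φ, ρ, h1, h2, h3⟩ => ⟨α * a⁻¹, φ, ρ, h1, h2, ?_⟩,
      fun ⟨α, φ, ρ, h1, h2, h3⟩ => ⟨α * a, φ, ρ, h1, h2, ?_⟩⟩
    · rw [← h3, hxy]; group
    · rw [← h3, hxy]; group

end Cfsg.Agent.S2732
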