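import Cfsg.Statements.S2733
import Cfsg.Agent.Lib.Linear.AutPO.MinusBalanceInv
import Cfsg.Agent.Lib.Linear.AutPO.MinusBalanceField
import Cfsg.Agent.Lib.Linear.AutPO.MinusBalanceClass
import Cfsg.Agent.Lib.Linear.Balance.Generic

set_option autoImplicit false
open Cfsg

namespace Cfsg.Agent.S2733

open Cfsg.Lib.Linear Cfsg.Lib.Linear.Orth Cfsg.Lib.Linear.AutPO

/-- A similitude in the inner-diagonal group is inner-diagonal. -/
theorem isInnerDiagonal_of_mem {F : Type*} [Field F] [Fintype F] {m : ℕ} {a b : F}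
    (hab : ∀ z₁ z₂ : F, z₁ ^ 2 + a * z₁ * z₂ + b * z₂ ^ 2 = 0 → z₁ = 0 ∧ z₂ = 0) (hm : 3 ≤ m)
    (r : ℕ) [Fact r.Prime] [CharP F r] {β : MulAut (Cfsg.POmega F (Cfsg.quadFormMinus m F a b))}
    (h : β ∈ Cfsg.inndiagPOmegaMinus m F a b) : Cfsg.IsInnerDiagonalAutPOmegaMinus m a b β := by
  obtain ⟨B, C⟩ := exists_space_minus (F := F) m a b hab
  have h7 : 7 ≤ Fintype.card ((Fin m ⊕ Fin m) ⊕ Fin 2) := by
    simp only [Fintype.card_sum, Fintype.card_fin]; omega
  obtain ⟨K, iK, iA, hK⟩ := exists_quadratic_ext hab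
  by_cases h2 : (2 : F) = 0
  · rw [inndiag_two hab hm r h2] at h
    obtain ⟨x, rfl⟩ := h
    obtain ⟨s, rfl⟩ := QuotientGroup.mk_surjective x
    obtain ⟨A, hA, hA'⟩ := conj_mk_eq C h7 r s
    refine ⟨A.1, A.2, ⟨K, iK, iA, hK, ?_⟩, hA' ▸ isInduced_innd A⟩
    exact (preserves_ext_two hab h2 (s : ↥(isometryGroup F (Cfsg.quadFormMinus m F a b))) one_ne_zero
      (fun x => by rw [one_smul, hA]; rfl) hm hK).2 s.2
  · obtain ⟨A, c, hc, hd, rfl⟩ := (mem_inndiag_odd hab hm r h2).1 h
    obtain ⟨c', hc'⟩ := A.2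
    obtain ⟨v, hv⟩ := Cfsg.Lib.H3.exists_nonsing_vec C (by omega)
    have hc0 : c ≠ 0 := by
      rw [mul_right_cancel₀ hv ((hc v).symm.trans (hc' v))]
      exact c'.ne_zero
    exact ⟨A.1, A.2, ⟨K, iK, iA, hK, (preserves_ext_odd hab h2 hc0 hc hK).2 hd⟩, isInduced_innd A⟩

set_option maxHeartbeats 3200000 in
/-- A criterion for the failure of local balance in almost simple groups whose socle is a minus-type orthogonal group PΩ⁻_{2m+2}(F) (m ≥ 3; the form Σ xᵢ yᵢ + z₁² + a z₁ z₂ + b z₂² with anisotropic binary part). Let F be a finite field of characteristic r and K the (simple) group in question; let A be a group of automorphisms of K containing all inner automorphisms, and x ∈ A an automorphism of prime order p ≠ r that is not inner-diagonal (not induced by a class-preserving similarity, classes read over a quadratic extension). Then the largest normal subgroup of C_A(x) of order prime to p is nontrivial if and only if x is a field automorphism of K (conjugate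 under Aut(K) to a non-identity standard field automorphism) and p does not divide the number of fixed points of x on K. -/
theorem result {F : Type*} [Field F] [Fintype F] {r : ℕ} [Fact r.Prime] [CharP F r] {m : ℕ} (hm : 3 ≤ m) (a b : F) (hab : (∀ z₁ z₂ : F, z₁ ^ 2 + a * z₁ * z₂ + b * z₂ ^ 2 = 0 → z₁ = 0 ∧ z₂ = 0)) (hK : IsSimpleGroup (Cfsg.POmega F (Cfsg.quadFormMinus m F a b))) (A : Subgroup (MulAut (Cfsg.POmega F (Cfsg.quadFormMinus m F a b)))) (hinn : ∀ k : Cfsg.POmega F (Cfsg.quadFormMinus m F a b), MulAut.conj k ∈ A) {p : ℕ} [Fact p.Prime] (hpr : p ≠ r) (x : MulAut (Cfsg.POmega F (Cfsg.quadFormMinus m F a b))) (hxA : x ∈ A) (hord : orderOf x = p) (hnot : ¬ Cfsg.IsInnerDiagonalAutPOmegaMinus m a b x) :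
    Cfsg.pPrimeCore p ↥(A ⊓ Subgroup.centralizer {x}) ≠ ⊥ ↔ (Cfsg.IsFieldAutClassPOmegaMinus m x ∧ Nat.Coprime p (Nat.card ↥(MonoidHom.eqLocus x.toMonoidHom (MonoidHom.id (Cfsg.POmega F (Cfsg.quadFormMinus m F a b)))))) := by
  classical
  have hp : p.Prime := Fact.out
  obtain ⟨⟨f, hf⟩, -, hF⟩ := FiniteField.card F r
  obtain ⟨B, C⟩ := exists_space_minus (F := F) m a b hab
  by_cases hx : x ∈ (innd : ↥(Cfsg.Geo.quadSimilarityGroup (F := F) (Cfsg.quadFormMinus m F a b)) →*
      MulAut (Cfsg.POmega F (Cfsg.quadFormMinus m F a b))).range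
  · obtain ⟨g₀, rfl⟩ := hx
    have hD : innd g₀ ∉ Cfsg.inndiagPOmegaMinus m F a b := fun h => hnot (isInnerDiagonal_of_mem hab hm r h)
    obtain ⟨v, hv⟩ := Cfsg.Lib.H3.exists_nonsing_vec C (by simp)
    have h1 := (diag_or_refl hab hm r C g₀ hv).resolve_left hD
    have h1' := (diag_or_refl hab hm r C g₀⁻¹ hv).resolve_left fun h => hD (by
      rw [map_inv] at h; exact inv_mem_iff.1 h)
    have hsq : innd g₀ ^ 2 ∈ Cfsg.inndiagPOmegaMinus m F a b := by
      have := mul_mem h1 (inv_mem h1')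
      simp only [map_mul, map_inv] at this
      convert this using 1
      rw [pow_two]
      group
    have hp2 : p = 2 := hp.eq_two_or_odd'.resolve_right fun ⟨k, hk⟩ => hD (by
      have e : innd g₀ = ((innd g₀ ^ 2) ^ k)⁻¹ := eq_inv_of_mul_eq_one_left (by
        rw [← pow_mul, ← pow_succ', ← hk, ← hord, pow_orderOf_eq_one])
      rw [e]
      exact inv_mem (pow_mem hsq k))
    subst hp2
    have h2 : (2 : F) ≠ 0 := fun h => hpr (((Nat.prime_dvd_prime_iff_eq (Fact.out : r.Prime) Nat.prime_two).1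
      ((CharP.cast_eq_zero_iff F r 2).1 (by exact_mod_cast h)))).symm
    have hcore := minus_inv_core_eq_bot hab hm r h2 A hinn g₀ hord hD
    refine ⟨fun h => absurd hcore h, fun h => ?_⟩
    exfalso
    obtain ⟨a', b', σ, M, hM, hfa, hfb, α, hab', -, hxe⟩ := exists_frame hab h.1
    have hσ : orderOf σ = 2 := by
      rw [← orderOf_frameAut hM hfa hfb hab hm r]
      refine Eq.trans ?_ hord
      rw [hxe]
      exact (orderOf_injective (MulAut.conj α).toMonoidHom (MulEquiv.injective _) _).symm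
    exact absurd (odd_of_fixed hab' hfa hfb Nat.prime_two hσ) (by decide)
  · obtain ⟨a', b', σ, M, hM, hfa, hfb, α, hab', hσ, hxe⟩ := exists_frame_conj hab hm r hf hF hp hpr hord hx
    have hσ1 : σ ≠ 1 := fun h => hp.one_lt.ne' (by rw [← hσ, h, orderOf_one])
    have hbb : α⁻¹ * x * α⁻¹⁻¹ = frameAut hM hfa hfb := by rw [hxe]; group
    have key := minus_field_balance hM hfa hfb hab hab' hm r hσ (A.map (MulAut.conj α⁻¹).toMonoidHom)
      (Balance.inn_map A hinn α⁻¹)
    rw [← hbb, Balance.card_fixed_conj] at key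
    rw [ne_eq, Balance.core_conj] at key
    rw [ne_eq, key]
    exact ⟨fun h => ⟨hxe ▸ frame_class hab hM hfa hfb hab' hσ1 α, h⟩, And.right⟩

end Cfsg.Agent.S2733
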