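import Cfsg.Statements.S2734
import Cfsg.Agent.Lib.Chev.FoldD4
import Cfsg.Agent.Lib.Chev.FoldGraph

set_option autoImplicit false
open Cfsg

namespace Cfsg.Agent.S2734

open Cfsg.Lie

theorem isLong_D4 : ∀ j : Fin chevD4.rank, chevD4.isLong (chevD4.simple j) = false := by decide +kernel

theorem perms_D4 : ∀ π : Equiv.Perm (Fin chevD4.rank), chevD4.IsDiagramSymmetry π →
    (∀ i, ((π (π i)) : ℕ) = i) ∨ (∀ i, ((π i) : ℕ) = Cfsg.Lib.Chev.symD4_3.node i) ∨
      (∀ i, ((π (π i)) : ℕ) = Cfsg.Lib.Chev.symD4_3.node i) := by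
  unfold ChevalleyDatum.IsDiagramSymmetry
  decide +kernel


/-- In the Chevalley group of type D₄ over a finite field F (the matrix group generated by the root elements), a graph automorphism attached to a symmetry π of the Dynkin diagram (sending each fundamental root element x_p(t) to x_{π(p)}(t) and each x_{−p}(t) to x_{−π(p)}(t)) that has order 3 — a standard triality graph automorphism, π being a 3-cycle of the three outer nodes — has fixed-point subgroup isomorphic to the Chevalley group of type G₂ over F. -/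
theorem result {F : Type*} [Field F] [Fintype F] (τ : MulAut ↥(Cfsg.Lie.chevD4.group F)) (hτ : Cfsg.Lie.chevD4.IsGraphAut τ) (hτ3 : orderOf τ = 3) :
    Nonempty (↥(MonoidHom.eqLocus τ.toMonoidHom (MonoidHom.id ↥(Cfsg.Lie.chevD4.group F))) ≃* ↥(Cfsg.Lie.chevG2.group F)) := by
  classical
  have hone : ∀ i j : Fin chevD4.rank, chevD4.isLong (chevD4.simple j) = false ∨ chevD4.isLong (chevD4.simple i) = true :=
    fun i j => Or.inl (isLong_D4 j)
  obtain ⟨π, hsym, hact⟩ := Cfsg.Lib.Chev.nodeAct_of_isGraphAut Cfsg.Lib.Chev.certD4C hone hτ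
  have ht2 : τ * τ ≠ 1 := fun e => by
    have h2 : orderOf τ ∣ 2 := orderOf_dvd_of_pow_eq_one (by rw [sq]; exact e)
    rw [hτ3] at h2; norm_num at h2
  have h3 : τ * τ * τ = 1 := by rw [← pow_three', ← hτ3]; exact pow_orderOf_eq_one τ
  have hlt : ∀ i, i < chevD4.rank → (if hi : i < chevD4.rank then (π ⟨i, hi⟩ : ℕ) else i) < chevD4.rank :=
    fun i hi => by rw [dif_pos hi]; exact (π ⟨i, hi⟩).2
  have hsq := hact.comp Cfsg.Lib.Chev.certD4C hact hlt
  have key : ∃ α : MulAut ↥(chevD4.group F), Cfsg.Lib.Chev.NodeAct Cfsg.Lib.Chev.certD4C Cfsg.Lib.Chev.symD4_3.node α ∧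
      ∀ g, τ g = g ↔ α g = g := by
    rcases perms_D4 π hsym with e | e | e
    · refine absurd (hsq.eq_one Cfsg.Lib.Chev.certD4C fun i hi => ?_) ht2
      simp only [dif_pos hi, dif_pos (π ⟨i, hi⟩).2]
      exact e ⟨i, hi⟩
    · exact ⟨τ, hact.congr Cfsg.Lib.Chev.certD4C (fun i hi => by simp only [dif_pos hi]; exact e ⟨i, hi⟩), fun g => Iff.rfl⟩
    · refine ⟨τ * τ, hsq.congr Cfsg.Lib.Chev.certD4C (fun i hi => ?_), fun g => ⟨fun h => ?_, fun h => ?_⟩⟩
      · simp only [dif_pos hi, dif_pos (π ⟨i, hi⟩).2]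
        exact e ⟨i, hi⟩
      · show τ (τ g) = g
        rw [h, h]
      · have h' : τ (τ g) = g := h
        have := DFunLike.congr_fun h3 g
        have h'' : τ (τ (τ g)) = g := this
        rw [h'] at h''
        exact h''
  obtain ⟨α, hα, hfix⟩ := key
  obtain ⟨e1⟩ := Cfsg.Lib.Chev.graphFixed_equiv (F := F) Cfsg.Lib.Chev.certD4C Cfsg.Lib.Chev.symOKD4_tri
    Cfsg.Lib.Chev.fullCertD4 Cfsg.Lib.Chev.twCombD4 Cfsg.Lib.Chev.twSimplyD4 α hα
    (MonoidHom.eqLocus τ.toMonoidHom (MonoidHom.id ↥(chevD4.group F))) fun g => hfix g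
  obtain ⟨e2⟩ := Cfsg.Lib.Chev.foldD4_iso (K := F)
  exact ⟨e1.trans e2⟩

end Cfsg.Agent.S2734
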