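import Cfsg.Statements.S2735
import Cfsg.Agent.Lib.Linear.AutPO.OddField
import Cfsg.Agent.Lib.Linear.AutPSp.FieldCases

set_option autoImplicit false
open Cfsg

namespace Cfsg.Agent.S2735

open Cfsg.Lib.Linear.AutPO

/-- Let T = Ω_{2m+1}(F) (m ≥ 3, |F| odd) and x a field automorphism of T of prime order r. Then an element y of the coset Inndiag(T)·x (y = δ x with δ induced by a similarity of the form) has order r if and only if y is conjugate to x by an element of Inndiag(T). (T has no graph or graph-field automorphisms.) -/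
theorem result {F : Type*} [Field F] [Fintype F] (hodd : Odd (Fintype.card F)) {m : ℕ} (hm : 3 ≤ m) (x δ : MulAut (Cfsg.POmega F (Cfsg.quadFormOdd m F))) (hx : Cfsg.IsFieldAutClassPOmega (Cfsg.quadFormOdd m F) x) {r : ℕ} (hr : r.Prime) (hxr : orderOf x = r) (hδ : δ ∈ Cfsg.inndiagPOmegaOdd m F) :
    orderOf (δ * x) = r ↔ Cfsg.IsConjUnder (Cfsg.inndiagPOmegaOdd m F) x (δ * x) := by
  have h2 := Cfsg.Lib.Linear.Orth.two_ne_zero_of_odd_card hodd
  obtain ⟨B, C⟩ := Cfsg.Lib.Linear.Orth.exists_space (Cfsg.Lib.Linear.Orth.isQuad_odd m h2)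
  obtain ⟨p, hchar⟩ := CharP.exists F
  haveI : Fact p.Prime := ⟨CharP.char_is_prime F p⟩
  obtain ⟨σ, α, rfl, hσ⟩ := field_class C h2 hm p hx
  rw [hxr] at hσ
  have h7 : 7 ≤ Fintype.card (Unit ⊕ (Fin m ⊕ Fin m)) := by
    rw [Cfsg.Lib.Linear.Orth.card_odd_index]; omega
  rw [show Cfsg.inndiagPOmegaOdd m F = _ from pgoAut_eq_range] at hδ ⊢
  have hR := range_normal C h7 p (good_odd C) (stdForm_odd m)
  obtain ⟨A, hA⟩ := hR.conj_mem _ hδ α⁻¹
  have e : δ * (α * fld (stdForm_odd m) σ * α⁻¹) = α * (innd A * fld (stdForm_odd m) σ) * α⁻¹ := by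
    rw [hA]; group
  rw [e, Cfsg.Lib.Linear.AutPSp.isConjUnder_norms (Cfsg.Lib.Linear.AutPSp.norms_of_normal hR α),
    Cfsg.Lib.Linear.AutPSL.orderOf_conj]
  refine ⟨fun h => field_coset C h2 hm p hr hσ A h, ?_⟩
  rintro ⟨h, -, e'⟩
  rw [e', Cfsg.Lib.Linear.AutPSL.orderOf_conj, orderOf_injective _ (fld_injective C h7 p (stdForm_odd m)), hσ]

end Cfsg.Agent.S2735
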