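import Cfsg.Statements.S2736
import Cfsg.Agent.Lib.Linear.AutPO.PlusMain
import Cfsg.Agent.Lib.Linear.AutPSp.FieldCases

set_option autoImplicit false
open Cfsg

namespace Cfsg.Agent.S2736

open Cfsg.Lib.Linear.AutPO

set_option maxHeartbeats 1600000 in
/-- Let T = PΩ⁺_{2m}(F) with m ≥ 5 (dimension ≠ 8) and x a field automorphism or a graph-field automorphism of T of prime order r. Then an element y of the coset Inndiag(T)·x (y = δ x with δ induced by a class-preserving similarity) has order r if and only if y is conjugate to x by an element of Inndiag(T). -/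
theorem result {F : Type*} [Field F] [Fintype F] {m : ℕ} (hm : 5 ≤ m) (x δ : MulAut (Cfsg.POmega F (Cfsg.quadFormPlus m F))) (hx : Cfsg.IsFieldAutClassPOmega (Cfsg.quadFormPlus m F) x ∨ Cfsg.IsGraphFieldAutClassPOmegaPlus m x) {r : ℕ} (hr : r.Prime) (hxr : orderOf x = r) (hδ : δ ∈ Cfsg.inndiagPOmegaPlus m F) :
    orderOf (δ * x) = r ↔ Cfsg.IsConjUnder (Cfsg.inndiagPOmegaPlus m F) x (δ * x) := by
  obtain ⟨n, rfl⟩ : ∃ n, m = n + 1 := ⟨m - 1, by omega⟩
  obtain ⟨p, hchar⟩ := CharP.exists F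
  haveI : Fact p.Prime := ⟨CharP.char_is_prime F p⟩
  obtain ⟨B, C⟩ := Cfsg.Lib.Linear.Orth.exists_space_plus (F := F) (n + 1)
  have hn : 3 ≤ n := by omega
  obtain ⟨σ, α, S, hS, hσ, rfl⟩ : ∃ (σ : F ≃+* F) (α : MulAut (Cfsg.POmega F (Cfsg.quadFormPlus (n + 1) F)))
      (S : ↥(Cfsg.Geo.quadSimilarityGroup (F := F) (Cfsg.quadFormPlus (n + 1) F))),
      (S = 1 ∨ S = swapS C) ∧ orderOf σ = r ∧ x = α * (innd S * fld stdForm_plus σ) * α⁻¹ := by
    rcases hx with hx | hx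
    · obtain ⟨σ, α, hσ, e⟩ := plus_field_class hn p C hx hr hxr
      exact ⟨σ, α, 1, Or.inl rfl, hσ, by rw [map_one, one_mul]; exact e⟩
    · obtain ⟨rfl, σ, α, hσ, e⟩ := plus_graph_class hn p C hx hr hxr
      exact ⟨σ, α, _, Or.inr rfl, hσ, e⟩
  have hD := plus_normal (m := n + 1) (by omega) p C (plus_good (by omega))
  obtain ⟨A, hA⟩ := inndiag_plus_le_range (m := n + 1) (by omega) p C (hD.conj_mem _ hδ α⁻¹)
  have hAD : innd A ∈ Cfsg.inndiagPOmegaPlus (n + 1) F := by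
    rw [hA]; exact hD.conj_mem _ hδ α⁻¹
  have e : δ * (α * (innd S * fld stdForm_plus σ) * α⁻¹) =
      α * (innd A * (innd S * fld stdForm_plus σ)) * α⁻¹ := by
    rw [hA]; group
  rw [e, Cfsg.Lib.Linear.AutPSp.isConjUnder_norms (Cfsg.Lib.Linear.AutPSp.norms_of_normal hD α),
    Cfsg.Lib.Linear.AutPSL.orderOf_conj]
  refine ⟨fun h => plus_coset_conj hn p C hr hσ hAD S hS h, ?_⟩
  rintro ⟨h, -, e'⟩
  rw [e', Cfsg.Lib.Linear.AutPSL.orderOf_conj]
  rwa [Cfsg.Lib.Linear.AutPSL.orderOf_conj] at hxr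

end Cfsg.Agent.S2736
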