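import Cfsg.Statements.S2737
import Cfsg.Agent.Lib.Linear.AutPO.MinusField
import Cfsg.Agent.Lib.Linear.AutPSp.FieldCases

set_option autoImplicit false
open Cfsg

namespace Cfsg.Agent.S2737

open Cfsg.Lib.Linear.AutPO

/-- Let T = PΩ⁻_{2m+2}(F) (m ≥ 3; form with anisotropic binary part) and x a field automorphism of T of prime order r. Then an element y of the coset Inndiag(T)·x has order r if and only if y is conjugate to x by an element of Inndiag(T). (T has no graph-field automorphisms.) -/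
theorem result {F : Type*} [Field F] [Fintype F] {m : ℕ} (hm : 3 ≤ m) (a b : F) (hab : (∀ z₁ z₂ : F, z₁ ^ 2 + a * z₁ * z₂ + b * z₂ ^ 2 = 0 → z₁ = 0 ∧ z₂ = 0)) (x δ : MulAut (Cfsg.POmega F (Cfsg.quadFormMinus m F a b))) (hx : Cfsg.IsFieldAutClassPOmegaMinus m x) {r : ℕ} (hr : r.Prime) (hxr : orderOf x = r) (hδ : δ ∈ Cfsg.inndiagPOmegaMinus m F a b) :
    orderOf (δ * x) = r ↔ Cfsg.IsConjUnder (Cfsg.inndiagPOmegaMinus m F a b) x (δ * x) := by
  obtain ⟨p, hchar⟩ := CharP.exists F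
  haveI : Fact p.Prime := ⟨CharP.char_is_prime F p⟩
  obtain ⟨a', b', σ, M, hM, hfa, hfb, α, hab', -, rfl⟩ := exists_frame hab hx
  have hσ : orderOf σ = r := by
    rw [← orderOf_frameAut hM hfa hfb hab hm p, ← hxr, Cfsg.Lib.Linear.AutPSL.orderOf_conj]
  have hD := inndiag_normal hab hm p
  obtain ⟨A, hA⟩ := inndiag_le_range hab hm p (hD.conj_mem _ hδ α⁻¹)
  have e : δ * (α * frameAut hM hfa hfb * α⁻¹) = α * (innd A * frameAut hM hfa hfb) * α⁻¹ := by
    rw [hA]; group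
  rw [e, Cfsg.Lib.Linear.AutPSp.isConjUnder_norms (Cfsg.Lib.Linear.AutPSp.norms_of_normal hD α),
    Cfsg.Lib.Linear.AutPSL.orderOf_conj]
  refine ⟨fun h => minus_coset hM hfa hfb hab hab' hm p hr hσ A h, ?_⟩
  rintro ⟨h, -, e'⟩
  rw [e', Cfsg.Lib.Linear.AutPSL.orderOf_conj, orderOf_frameAut hM hfa hfb hab hm p, hσ]

end Cfsg.Agent.S2737
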