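import Cfsg.Statements.S2738
import Cfsg.Agent.Lib.Linear.SLBasic

set_option autoImplicit false
open Cfsg

namespace Cfsg.Agent.S2738

/-- The special linear group SL(3, 4) has centre of order 3 and does not split over it: no subgroup is a complement to the centre (so SL(3, 4) is a non-split central extension of PSL(3, 4) by a group of order 3). -/
theorem result (F : Type*) [Field F] [Fintype F] (hF : Fintype.card F = 4) : Nat.card ↥(Subgroup.center (Matrix.SpecialLinearGroup (Fin 3) F)) = 3 ∧ ¬ ∃ K : Subgroup (Matrix.SpecialLinearGroup (Fin 3) F), Subgroup.IsComplement' (Subgroup.center (Matrix.SpecialLinearGroup (Fin 3) F)) K := by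
  have hc : Nat.card ↥(Subgroup.center (Matrix.SpecialLinearGroup (Fin 3) F)) = 3 := by
    rw [Lib.Linear.card_center_SL]
    simp [Fintype.card_fin, hF]
  refine ⟨hc, ?_⟩
  rintro ⟨K, hK⟩
  have hi : K.index = 3 := by
    exact hK.index_eq_card.trans hc
  have hn : K.Normal := by
    refine ⟨fun k hk g => ?_⟩
    obtain ⟨⟨z, k'⟩, hg⟩ := hK.2 g
    have hg' : (z : Matrix.SpecialLinearGroup (Fin 3) F) * (k' : Matrix.SpecialLinearGroup (Fin 3) F) = g := hg
    rw [← hg']
    have hz := Subgroup.mem_center_iff.1 z.2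
    have : (z : Matrix.SpecialLinearGroup (Fin 3) F) * k' * k * ((z : Matrix.SpecialLinearGroup (Fin 3) F) * k')⁻¹ = k' * k * (k' : Matrix.SpecialLinearGroup (Fin 3) F)⁻¹ := by
      calc _ = (z : Matrix.SpecialLinearGroup (Fin 3) F) * ((k' : Matrix.SpecialLinearGroup (Fin 3) F) * k * (k' : Matrix.SpecialLinearGroup (Fin 3) F)⁻¹) * (z : Matrix.SpecialLinearGroup (Fin 3) F)⁻¹ := by group
        _ = _ := by rw [← hz, mul_inv_cancel_right]
    rw [this]
    exact K.mul_mem (K.mul_mem k'.2 hk) (K.inv_mem k'.2)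
  have : Fact (Nat.Prime 3) := ⟨Nat.prime_three⟩
  have : IsCyclic (Matrix.SpecialLinearGroup (Fin 3) F ⧸ K) := isCyclic_of_prime_card (p := 3) hi
  have hle : commutator (Matrix.SpecialLinearGroup (Fin 3) F) ≤ K :=
    (Subgroup.Normal.quotient_commutative_iff_commutator_le).1 ⟨⟨(IsCyclic.commGroup).mul_comm⟩⟩
  rw [Lib.Linear.commutator_SL_eq_top (by simp)] at hle
  rw [top_le_iff.1 hle, Subgroup.index_top] at hi
  exact absurd hi (by norm_num)

end Cfsg.Agent.S2738
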