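import Cfsg.Statements.S2755
import Cfsg.Agent.Lib.ReeType.Main
import Cfsg.Agent.Lib.Local.SL2Involved
import Cfsg.Agent.Lib.Local.QdInvolved
import Cfsg.Agent.Lib.U3Qd.Unitary
import Cfsg.Agent.Lib.J1Weak.JFacts
import Cfsg.Agent.Lib.Spec.SuzukiChar.Borel
import Cfsg.Agent.Lib.Linear.Suzuki.LieForm
import Cfsg.Agent.S2758
import Cfsg.Agent.S2759
import Mathlib.Algebra.Group.Shrink
import Mathlib.Algebra.CharP.CharAndCard

set_option autoImplicit false
set_option linter.style.haveILetI false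
set_option linter.unusedVariables false
open Cfsg

namespace Cfsg.Agent.S2755

open Subgroup Cfsg.Lib.FusionSys
open scoped Pointwise

universe u v

theorem perm_three_iff {G : Type u} [Group G] :
    Involves (Equiv.Perm (Fin 3)) G ↔ Involves (DihedralGroup 3) G := by
  obtain ⟨e⟩ := S2759.dihedral_three
  constructor <;> intro h <;> obtain ⟨K, f, hf⟩ := involves_iff_exists_hom.1 h
  · exact involves_iff_exists_hom.2 ⟨K, e.symm.toMonoidHom.comp f, e.symm.surjective.comp hf⟩
  · exact involves_iff_exists_hom.2 ⟨K, e.toMonoidHom.comp f, e.surjective.comp hf⟩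

/-- An element of two-power order inverting an element of order three gives `S₃`. -/
theorem involves_three {G : Type u} [Group G] [Finite G] {x y : G} {k : ℕ}
    (hx : x ^ (2 ^ k) = 1) (hy : y ^ 3 = 1) (hy1 : y ≠ 1) (h : x * y * x⁻¹ = y⁻¹) :
    Involves (Equiv.Perm (Fin 3)) G := by
  haveI : Fact (Nat.Prime 3) := ⟨Nat.prime_three⟩
  haveI : Fact (Nat.Prime 2) := ⟨Nat.prime_two⟩
  obtain ⟨j, -, hj⟩ := (Nat.dvd_prime_pow Nat.prime_two).mp (orderOf_dvd_of_pow_eq_one hx)
  exact perm_three_iff.2 ((S2758.result (p := 3) (by norm_num)).2.2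
    ⟨x, y, ⟨j, hj⟩, ⟨1, by rw [orderOf_eq_prime hy hy1, pow_one]⟩, hy1, h⟩)

/-- A group with abelian Sylow two-subgroups does not involve `S₄`. -/
theorem not_four_of_abelian {G : Type u} [Group G] [Finite G]
    (hab : ∀ T : Sylow 2 G, IsMulCommutative T) : ¬ Involves (Equiv.Perm (Fin 4)) G := by
  haveI : Fact (Nat.Prime 2) := ⟨Nat.prime_two⟩
  intro h
  set c : Equiv.Perm (Fin 4) := Equiv.swap 0 1 * Equiv.swap 2 3 with hc
  have hcard : Nat.card (Subgroup.centralizer ({c} : Set (Equiv.Perm (Fin 4)))) = 2 ^ 3 := by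
    rw [Nat.card_congr (Equiv.subtypeEquivRight fun σ : Equiv.Perm (Fin 4) =>
      (Subgroup.mem_centralizer_singleton_iff : σ ∈ Subgroup.centralizer {c} ↔ σ * c = c * σ)),
      Nat.card_eq_fintype_card, hc]
    decide +kernel
  have hD := Cfsg.Lib.Local.SL2Involved.commute_of_involves h hab _ (IsPGroup.of_card hcard)
  have h1 : Equiv.swap 0 1 ∈ Subgroup.centralizer ({c} : Set (Equiv.Perm (Fin 4))) := by
    rw [Subgroup.mem_centralizer_singleton_iff, hc]; decide +kernel
  have h2 : Equiv.swap 0 2 * Equiv.swap 1 3 ∈ Subgroup.centralizer ({c} : Set (Equiv.Perm (Fin 4))) := by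
    rw [Subgroup.mem_centralizer_singleton_iff, hc]; decide +kernel
  have h3 := congrArg Subtype.val (hD.is_comm.comm ⟨_, h1⟩ ⟨_, h2⟩)
  revert h3
  simp only [Subgroup.coe_mul]
  decide +kernel

theorem card_dvd_of_involves {G : Type u} [Group G] [Finite G] {H : Type} [Group H]
    (h : Involves H G) : Nat.card H ∣ Nat.card G := by
  obtain ⟨K, f, hf⟩ := involves_iff_exists_hom.1 h
  exact (Subgroup.card_dvd_of_surjective f hf).trans (Subgroup.card_subgroup_dvd_card K)

theorem suzuki_not_three_dvd {G : Type u} [Group G] (h : Lie.IsoSuzuki G) : ¬ 3 ∣ Nat.card G := by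
  classical
  obtain ⟨F, _, _, m, hm, hcard, ⟨e⟩⟩ := h
  rw [Nat.card_congr e.toEquiv]
  have hp : Cfsg.Lib.Linear.Suz.Params F m := ⟨hm, hcard⟩
  have hG := Cfsg.Lib.SuzChar.card_G hp
  have h2 : Fintype.card F % 3 = 2 := by
    rw [hcard, pow_succ, pow_mul, Nat.mul_mod, Nat.pow_mod]; norm_num
  intro hdvd
  obtain ⟨e', -⟩ := Cfsg.Lib.Linear.Suz.exists_lie_equiv hp
  rw [← Nat.card_congr e'.toEquiv, hG] at hdvd
  rcases Nat.prime_three.dvd_mul.mp hdvd with h | h
  · rcases Nat.prime_three.dvd_mul.mp h with h | h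
    · have := Nat.prime_three.dvd_of_dvd_pow h; omega
    · have e2 : (Fintype.card F ^ 2 + 1) % 3 = 2 := by rw [Nat.add_mod, Nat.pow_mod, h2]
      omega
  · omega

section PSL

variable {F : Type} [Field F] [Fintype F]

local notation "SL2" => Matrix.SpecialLinearGroup (Fin 2) F
local notation "PSL2" => Matrix.ProjectiveSpecialLinearGroup (Fin 2) F

theorem sylow_char_commutative (p : ℕ) [Fact p.Prime] [CharP F p] (P : Sylow p PSL2) :
    IsMulCommutative P := ⟨⟨fun a b => by
  by_cases ha : (a : PSL2) = 1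
  · rw [show a = 1 from Subtype.ext ha, one_mul, mul_one]
  · have hb : (b : PSL2) ∈ Subgroup.centralizer ({(a : PSL2)} : Set PSL2) :=
      (Cfsg.Lib.Dickson.centralizer_eq_sylow p P a.2 ha).symm ▸ b.2
    exact Subtype.ext (Subgroup.mem_centralizer_singleton_iff.mp hb).symm⟩⟩

/-- The family `PSL₂(3^(2n+1))` does not involve `S₃`. -/
theorem psl_three_free {n : ℕ} (hF : Fintype.card F = 3 ^ (2 * n + 1)) :
    ¬ Involves (Equiv.Perm (Fin 3)) PSL2 := by
  haveI : Fact (Nat.Prime 3) := ⟨Nat.prime_three⟩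
  haveI := Cfsg.Lib.ReeType.charP_three hF
  intro h
  obtain ⟨a, b, ⟨k, hk⟩, ⟨i, hi⟩, hb1, hab⟩ :=
    (S2758.result (p := 3) (by norm_num)).2.1 (perm_three_iff.1 h)
  obtain ⟨P, hP⟩ := (IsPGroup.of_card (G := Subgroup.zpowers b) (n := i)
    (by rw [Nat.card_zpowers, hi])).exists_le_sylow
  have hbP : b ∈ (P : Subgroup PSL2) := hP (Subgroup.mem_zpowers b)
  have haN : a ∈ Subgroup.normalizer ((P : Subgroup PSL2) : Set PSL2) := by
    have e1 := Cfsg.Lib.Dickson.centralizer_eq_sylow 3 P hbP hb1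
    have e2 := Cfsg.Lib.Dickson.centralizer_eq_sylow 3 P (inv_mem hbP) (inv_ne_one.2 hb1)
    rw [Subgroup.mem_normalizer_iff]
    intro g
    have key : g * b = b * g ↔ a * g * a⁻¹ * b⁻¹ = b⁻¹ * (a * g * a⁻¹) := by
      rw [← hab]
      constructor
      · intro hh
        calc a * g * a⁻¹ * (a * b * a⁻¹) = a * (g * b) * a⁻¹ := by group
          _ = a * (b * g) * a⁻¹ := by rw [hh]
          _ = _ := by group
      · intro hh
        calc g * b = a⁻¹ * (a * g * a⁻¹ * (a * b * a⁻¹)) * a := by group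
          _ = a⁻¹ * (a * b * a⁻¹ * (a * g * a⁻¹)) * a := by rw [hh]
          _ = _ := by group
    constructor
    · intro hg
      rw [← e2, Subgroup.mem_centralizer_singleton_iff, ← key, ← Subgroup.mem_centralizer_singleton_iff, e1]
      exact hg
    · intro hg
      rw [← e1, Subgroup.mem_centralizer_singleton_iff, key, ← Subgroup.mem_centralizer_singleton_iff, e2]
      exact hg
  have hN := Cfsg.Lib.Dickson.card_normalizer_sylow_psl 3 P
  have hd : 2 ^ k ∣ Nat.card (Subgroup.normalizer ((P : Subgroup PSL2) : Set PSL2)) :=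
    hk ▸ Subgroup.orderOf_dvd_natCard _ haN
  have hk0 : k = 0 := by
    by_contra hk0
    have h8 := Cfsg.Lib.ReeType.card_mod_eight n
    rw [hF, Nat.gcd_eq_left (show 2 ∣ 3 ^ (2 * n + 1) - 1 by omega)] at hN
    have h2 := Nat.mul_dvd_mul_left 2 ((dvd_pow_self 2 hk0).trans hd)
    rw [hN] at h2
    obtain ⟨c, hc⟩ : ∃ c, 3 ^ (2 * n + 1) = 8 * c + 3 := ⟨3 ^ (2 * n + 1) / 8, by omega⟩
    rw [hc, show 8 * c + 3 - 1 = 8 * c + 2 by omega,
      show (8 * c + 3) * (8 * c + 2) = 4 * (16 * (c * c) + 10 * c + 1) + 2 by ring] at h2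
    omega
  rw [hk0, pow_zero, orderOf_eq_one_iff] at hk
  rw [hk, one_mul, inv_one, mul_one] at hab
  have hb2 : b ^ 2 = 1 := by rw [sq]; exact mul_eq_one_iff_eq_inv.2 hab
  rcases (Nat.dvd_prime Nat.prime_two).mp (orderOf_dvd_of_pow_eq_one hb2) with e | e
  · exact hb1 (orderOf_eq_one_iff.mp e)
  · rw [e] at hi
    have h2 : 3 ^ i % 2 = 1 := by rw [Nat.pow_mod]; norm_num
    omega

/-- A pair in `SL₂` giving an `S₃` in `PSL₂`. -/
theorem psl_involves_three {a b : F} (hab : -a * a - b * (b - a) = 1) :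
    Involves (Equiv.Perm (Fin 3)) PSL2 := by
  let x : SL2 := ⟨!![a, b; b - a, -a], by rw [Matrix.det_fin_two_of]; linear_combination hab⟩
  let y : SL2 := ⟨!![0, 1; -1, -1], by simp [Matrix.det_fin_two_of]⟩
  have hx : x ^ 4 = 1 := by
    rw [show (4 : ℕ) = 2 * 2 by norm_num, pow_mul, sq, sq]
    apply Subtype.ext
    have hxx : ((x * x : SL2) : Matrix (Fin 2) (Fin 2) F) = -1 := by
      show (!![a, b; b - a, -a] : Matrix (Fin 2) (Fin 2) F) * !![a, b; b - a, -a] = -1
      ext i j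
      fin_cases i <;> fin_cases j <;> simp [Matrix.mul_apply, Fin.sum_univ_two] <;>
        (first | linear_combination hab | linear_combination -hab | ring)
    rw [Matrix.SpecialLinearGroup.coe_mul, hxx, Matrix.SpecialLinearGroup.coe_one, neg_mul_neg,
      one_mul]
  have hy : y ^ 3 = 1 := by
    apply Subtype.ext
    show (!![0, 1; -1, -1] : Matrix (Fin 2) (Fin 2) F) ^ 3 = 1
    ext i j
    fin_cases i <;> fin_cases j <;> simp [pow_succ, Matrix.mul_apply, Fin.sum_univ_two]
  have hinv : x * y = y⁻¹ * x := by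
    apply Subtype.ext
    rw [Matrix.SpecialLinearGroup.coe_mul, Matrix.SpecialLinearGroup.coe_mul,
      Matrix.SpecialLinearGroup.coe_inv]
    show (!![a, b; b - a, -a] : Matrix (Fin 2) (Fin 2) F) * !![0, 1; -1, -1] =
      Matrix.adjugate !![0, 1; -1, -1] * !![a, b; b - a, -a]
    ext i j
    fin_cases i <;> fin_cases j <;>
      simp [Matrix.adjugate_fin_two, Matrix.mul_apply, Fin.sum_univ_two] <;> ring
  set π := QuotientGroup.mk' (Subgroup.center SL2)
  refine involves_three (x := π x) (y := π y) (k := 2)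
    (by rw [← map_pow]; norm_num [hx]) (by rw [← map_pow, hy, map_one]) ?_
    (by rw [← map_inv, ← map_mul, ← map_mul, ← map_inv, hinv, mul_inv_cancel_right])
  intro h
  have h10 := (Cfsg.Lib.Dickson.mem_center_sl ((QuotientGroup.eq_one_iff y).mp h)).1
  simp [y] at h10

theorem psl_two_pow {n : ℕ} (hn : 1 ≤ n) (hF : Fintype.card F = 2 ^ n) :
    ¬ Involves (Equiv.Perm (Fin 4)) PSL2 ∧ Involves (Equiv.Perm (Fin 3)) PSL2 := by
  haveI : Fact (Nat.Prime 2) := ⟨Nat.prime_two⟩
  haveI : CharP F 2 := charP_of_card_eq_prime_pow hF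
  refine ⟨not_four_of_abelian (sylow_char_commutative 2), psl_involves_three (a := 1) (b := 1) ?_⟩
  rw [sub_self, mul_zero, sub_zero, neg_mul, one_mul, CharTwo.neg_eq]

theorem psl_three_five {q : ℕ} (hF : Fintype.card F = q) (hq : q % 8 = 3 ∨ q % 8 = 5) :
    ¬ Involves (Equiv.Perm (Fin 4)) PSL2 ∧
      (Involves (Equiv.Perm (Fin 3)) PSL2 ∨ ∃ n, Fintype.card F = 3 ^ (2 * n + 1)) := by
  haveI : Fact (Nat.Prime 2) := ⟨Nat.prime_two⟩
  refine ⟨not_four_of_abelian fun T => ?_, ?_⟩
  · have h := Cfsg.Lib.Linear.Two.card_PSL_two (F := F)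
    rw [hF, Nat.gcd_eq_left (show 2 ∣ q - 1 by omega)] at h
    obtain ⟨j, hj⟩ := IsPGroup.iff_card.mp T.isPGroup'
    have hd : 2 * 2 ^ j ∣ q * (q ^ 2 - 1) := h ▸ Nat.mul_dvd_mul_left 2 (hj ▸ Subgroup.card_subgroup_dvd_card _)
    rw [← pow_succ'] at hd
    have hd' : 2 ^ (j + 1) ∣ q ^ 2 - 1 := Nat.Coprime.dvd_of_dvd_mul_left
      (Nat.Coprime.pow_left _ ((Nat.prime_two.coprime_iff_not_dvd).mpr (by omega))) hd
    have hj2 : j ≤ 2 := by
      by_contra hj2
      have h16 : 16 ∣ q ^ 2 - 1 := (pow_dvd_pow 2 (show 4 ≤ j + 1 by omega)).trans hd'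
      rcases hq with hq | hq
      · obtain ⟨c, rfl⟩ : ∃ c, q = 8 * c + 3 := ⟨q / 8, by omega⟩
        rw [show (8 * c + 3) ^ 2 = 16 * (4 * c * c + 3 * c) + 9 by ring] at h16; omega
      · obtain ⟨c, rfl⟩ : ∃ c, q = 8 * c + 5 := ⟨q / 8, by omega⟩
        rw [show (8 * c + 5) ^ 2 = 16 * (4 * c * c + 5 * c + 1) + 9 by ring] at h16; omega
    interval_cases j
    · haveI := (Nat.card_eq_one_iff_unique.1 hj).1
      exact ⟨⟨fun a b => Subsingleton.elim _ _⟩⟩
    · haveI := isCyclic_of_prime_card (by rw [hj, pow_one] : Nat.card T = 2)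
      exact IsCyclic.isMulCommutative
    · exact IsPGroup.isMulCommutative_of_card_eq_prime_sq hj
  · obtain ⟨p, hp, hpc, m, hm0, hm⟩ := Cfsg.Lib.Dickson.exists_char (F := F)
    haveI := hpc
    haveI : Fact p.Prime := ⟨hp⟩
    by_cases h3 : p = 3
    · subst h3
      refine Or.inr ⟨m / 2, ?_⟩
      rcases Nat.even_or_odd m with ⟨r, rfl⟩ | ⟨r, rfl⟩
      · exfalso
        have : q % 8 = 1 := by rw [← hF, hm, ← two_mul, pow_mul, Nat.pow_mod]; norm_num
        omega
      · rw [hm]; congr 1; omega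
    · left
      have hodd : Fintype.card F % 2 = 1 := by omega
      have h2 : (2 : F) ≠ 0 := by
        intro h2
        have := (CharP.cast_eq_zero_iff F p 2).1 (by exact_mod_cast h2)
        rw [Nat.prime_dvd_prime_iff_eq hp Nat.prime_two] at this
        subst this
        rw [hm] at hodd
        have : 2 ∣ 2 ^ m := dvd_pow_self 2 hm0.ne'
        omega
      have h30 : (3 : F) ≠ 0 := fun h => h3 ((Nat.prime_dvd_prime_iff_eq hp Nat.prime_three).1
        ((CharP.cast_eq_zero_iff F p 3).1 (by exact_mod_cast h)))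
      obtain ⟨u, v, huv⟩ := FiniteField.exists_root_sum_quadratic
        (f := (Polynomial.X ^ 2 : Polynomial F)) (g := Polynomial.C 3 * Polynomial.X ^ 2 + Polynomial.C 4)
        (by simp) (Polynomial.degree_add_C (a := (4 : F)) (by
          rw [Polynomial.degree_C_mul_X_pow 2 h30]; norm_num) ▸ Polynomial.degree_C_mul_X_pow 2 h30) hodd
      simp only [Polynomial.eval_pow, Polynomial.eval_X, Polynomial.eval_add, Polynomial.eval_mul,
        Polynomial.eval_C] at huv
      refine psl_involves_three (a := (u + v) / 2) (b := v) ?_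
      field_simp
      linear_combination -huv

end PSL

section PSU

variable {F : Type} [Field F] [Fintype F] {n : ℕ}

theorem psu_not_four (hF : Fintype.card F = 4 ^ n) (hn : 1 ≤ n) :
    ¬ Involves (Equiv.Perm (Fin 4)) (PSU 3 F (2 ^ n)) := by
  intro h
  haveI : Fact (Nat.Prime 2) := ⟨Nat.prime_two⟩
  haveI : Fact (Nat.Prime 3) := ⟨Nat.prime_three⟩
  have hK : Fintype.card F = (2 ^ n) ^ 2 := by rw [hF, ← pow_mul, mul_comm, pow_mul]; norm_num
  haveI : CharP F 2 := charP_of_card_eq_prime_pow (f := n * 2) (by rw [hK, pow_mul])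
  have h' : Involves (Equiv.Perm (Fin 4)) (SU 3 F (2 ^ n)) :=
    involves_of_surjective (QuotientGroup.mk'_surjective (Subgroup.center (SU 3 F (2 ^ n)))) h
  obtain ⟨T, hT, h3⟩ := (S2759.result (G := SU 3 F (2 ^ n))).1 h'
  set N := Subgroup.normalizer (T : Set (SU 3 F (2 ^ n))) with hN
  set C := (Subgroup.centralizer (T : Set (SU 3 F (2 ^ n)))).subgroupOf N with hC
  obtain ⟨a, b, ⟨k, hk⟩, ⟨i, hi⟩, hb1, hab⟩ :=
    (S2758.result (G := N ⧸ C) (p := 3) (by norm_num)).2.1 (perm_three_iff.1 h3)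
  have hne : T ≠ ⊥ := by
    intro hT0
    apply hb1
    obtain ⟨g, rfl⟩ := QuotientGroup.mk'_surjective C b
    refine (QuotientGroup.eq_one_iff g).2 (Subgroup.mem_subgroupOf.2 (Subgroup.mem_centralizer_iff.2 ?_))
    intro t ht
    rw [hT0] at ht
    rw [show t = 1 from Subgroup.mem_bot.1 ht, one_mul, mul_one]
  obtain ⟨x, hxa, j, hxo⟩ := S2759.lift (QuotientGroup.mk' C) (QuotientGroup.mk'_surjective C) (p := 2) ⟨k, hk⟩
  obtain ⟨y, rfl⟩ := QuotientGroup.mk'_surjective C b
  set x' := y * x⁻¹ * y⁻¹ with hx'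
  have hxp : Cfsg.Lib.U3Qd.IsPElt 2 (x : SU 3 F (2 ^ n)) :=
    ⟨j, by rw [← hxo, ← Subgroup.orderOf_coe]; exact pow_orderOf_eq_one _⟩
  have hx'p : Cfsg.Lib.U3Qd.IsPElt 2 (x' : SU 3 F (2 ^ n)) := by
    refine ⟨j, ?_⟩
    have h1 : x' ^ 2 ^ j = 1 := by
      rw [hx', conj_pow, inv_pow, ← hxo, pow_orderOf_eq_one]; group
    rw [← SubmonoidClass.coe_pow, h1]; rfl
  obtain ⟨l, hl⟩ := Cfsg.Lib.U3Qd.local_pclosed hK T hT hne x x.2 x' x'.2 hxp hx'p
  have hl' : (x * x') ^ 2 ^ l = 1 := Subtype.ext (by simpa using hl)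
  have := congrArg (QuotientGroup.mk' C) hl'
  rw [map_pow, map_mul, hx', map_mul, map_mul, map_inv, map_inv, hxa, map_one] at this
  set B := QuotientGroup.mk' C y
  rw [show a * (B * a⁻¹ * B⁻¹) = a * B * a⁻¹ * B⁻¹ by group, hab, ← pow_two, ← pow_mul,
    inv_pow, inv_eq_one] at this
  have hd := orderOf_dvd_of_pow_eq_one this
  rw [hi, ← pow_succ'] at hd
  have hi0 : i = 0 := by
    by_contra hi0
    have := Nat.prime_three.dvd_of_dvd_pow ((dvd_pow_self 3 hi0).trans hd)
    norm_num at this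
  rw [hi0, pow_zero, orderOf_eq_one_iff] at hi
  exact hb1 hi

/-- A permutation matrix in characteristic two, as a special unitary matrix. -/
theorem psu_involves (hF : Fintype.card F = 4 ^ n) (hn : 1 ≤ n) :
    Involves (Equiv.Perm (Fin 3)) (PSU 3 F (2 ^ n)) := by
  haveI : Fact (Nat.Prime 2) := ⟨Nat.prime_two⟩
  haveI : CharP F 2 := charP_of_card_eq_prime_pow (f := n * 2) (by rw [hF, mul_comm, pow_mul]; norm_num)
  let xm : Matrix (Fin 3) (Fin 3) F := !![0, 1, 0; 1, 0, 0; 0, 0, 1]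
  let ym : Matrix (Fin 3) (Fin 3) F := !![0, 1, 0; 0, 0, 1; 1, 0, 0]
  let xs : Matrix.SpecialLinearGroup (Fin 3) F := ⟨xm, by simp [xm, Matrix.det_fin_three, CharTwo.neg_eq]⟩
  let ys : Matrix.SpecialLinearGroup (Fin 3) F := ⟨ym, by simp [ym, Matrix.det_fin_three]⟩
  let x : SU 3 F (2 ^ n) := ⟨xs, fun u v => by
    show hermForm 3 F (2 ^ n) (xm.mulVec u) (xm.mulVec v) = _
    simp [hermForm, xm, Matrix.mulVec, dotProduct, Fin.sum_univ_three]; ring⟩
  let y : SU 3 F (2 ^ n) := ⟨ys, fun u v => by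
    show hermForm 3 F (2 ^ n) (ym.mulVec u) (ym.mulVec v) = _
    simp [hermForm, ym, Matrix.mulVec, dotProduct, Fin.sum_univ_three]; ring⟩
  have hx : x * x = 1 := Subtype.ext (Subtype.ext (by
    show xm * xm = 1
    ext i j; fin_cases i <;> fin_cases j <;> simp [xm, Matrix.mul_apply, Fin.sum_univ_three]))
  have hy : y ^ 3 = 1 := Subtype.ext (Subtype.ext (by
    show ym ^ 3 = 1
    ext i j; fin_cases i <;> fin_cases j <;> simp [ym, pow_succ, Matrix.mul_apply, Fin.sum_univ_three]))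
  have hxy : x * y * x⁻¹ = y⁻¹ := by
    have h : x * y * x * y = 1 := Subtype.ext (Subtype.ext (by
      show xm * ym * xm * ym = 1
      ext i j; fin_cases i <;> fin_cases j <;> simp [xm, ym, Matrix.mul_apply, Fin.sum_univ_three]))
    rw [inv_eq_of_mul_eq_one_right hx, ← mul_eq_one_iff_eq_inv, h]
  set π := QuotientGroup.mk' (Subgroup.center (SU 3 F (2 ^ n)))
  refine involves_three (x := π x) (y := π y) (k := 1) (by rw [← map_pow, pow_one, sq, hx, map_one])
    (by rw [← map_pow, hy, map_one]) (fun h => ?_) (by rw [← map_inv, ← map_mul, ← map_mul, hxy, map_inv])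
  have hc := Subgroup.mem_center_iff.1 ((QuotientGroup.eq_one_iff y).mp h) x
  have h2 : y * y = 1 := by
    rw [hc, mul_inv_cancel_right] at hxy
    exact mul_eq_one_iff_eq_inv.2 hxy
  have h1 : y = 1 := by
    calc y = y ^ 3 * (y * y)⁻¹ := by group
      _ = 1 := by rw [hy, h2]; group
  have := congrArg (fun g : SU 3 F (2 ^ n) => (g.1 : Matrix (Fin 3) (Fin 3) F) 0 0) h1
  simp [y, ys, ym] at this

end PSU

theorem model_pair :
    ((1, Cfsg.Lib.J1Order.Model.invert) : Cfsg.Lib.J1Order.Model.M) ^ 2 ^ 1 = 1 ∧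
    ((1, Cfsg.Lib.J1Order.Model.three) : Cfsg.Lib.J1Order.Model.M) ^ 3 = 1 ∧
    ((1, Cfsg.Lib.J1Order.Model.three) : Cfsg.Lib.J1Order.Model.M) ≠ 1 ∧
    ((1, Cfsg.Lib.J1Order.Model.invert) : Cfsg.Lib.J1Order.Model.M) *
      (1, Cfsg.Lib.J1Order.Model.three) * (1, Cfsg.Lib.J1Order.Model.invert)⁻¹ =
      (1, Cfsg.Lib.J1Order.Model.three)⁻¹ := by
  decide +kernel

theorem j1_facts {G : Type u} [Group G] (h : Spor.IsoJ1 G) :
    ¬ Involves (Equiv.Perm (Fin 4)) G ∧ Involves (Equiv.Perm (Fin 3)) G := by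
  haveI := Cfsg.Lib.J1Weak.finite_of_isoJ1 h
  haveI : Fact (Nat.Prime 2) := ⟨Nat.prime_two⟩
  refine ⟨not_four_of_abelian fun T => ?_, ?_⟩
  · have hsq : ∀ x : T, x * x = 1 := by
      intro x
      obtain ⟨j, hj⟩ := IsPGroup.iff_orderOf.1 T.isPGroup' x
      have hmem := Cfsg.Lib.J1Weak.orderOf_mem_spec h (x : G)
      rw [Subgroup.orderOf_coe, hj] at hmem
      have hj1 : j ≤ 1 := by
        by_contra hj1
        have h4 : 4 ∣ 2 ^ j := pow_dvd_pow 2 (show 2 ≤ j by omega)
        simp only [List.mem_cons, List.not_mem_nil, or_false] at hmem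
        omega
      rw [← sq, ← orderOf_dvd_iff_pow_eq_one, hj]
      exact (pow_dvd_pow 2 hj1).trans (by norm_num)
    exact ⟨⟨fun a b => by
      rw [← inv_eq_of_mul_eq_one_right (hsq (a * b)), mul_inv_rev,
        inv_eq_of_mul_eq_one_right (hsq a), inv_eq_of_mul_eq_one_right (hsq b)]⟩⟩
  · obtain ⟨u, hu⟩ := exists_prime_orderOf_dvd_card' (G := G) 2 (by
      rw [Cfsg.Lib.J1Weak.card_of_isoJ1 h]; norm_num)
    obtain ⟨-, ⟨f⟩, -⟩ := Cfsg.Lib.J1Weak.invol_facts h hu
    let i : Cfsg.Lib.J1Order.Model.M →* G :=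
      (Subgroup.centralizer ({u} : Set G)).subtype.comp f.symm.toMonoidHom
    have hi : Function.Injective i := Subtype.val_injective.comp f.symm.injective
    obtain ⟨m1, m2, m3, m4⟩ := model_pair
    refine involves_three (x := i (1, Cfsg.Lib.J1Order.Model.invert))
      (y := i (1, Cfsg.Lib.J1Order.Model.three)) (k := 1) ?_ ?_ ?_ ?_
    · rw [← map_pow, m1, map_one]
    · rw [← map_pow, m2, map_one]
    · rw [Ne, ← map_one i, hi.eq_iff]; exact m3
    · rw [← map_inv, ← map_mul, ← map_mul, ← map_inv, hi.eq_iff]; exact m4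

/-- The abelian Sylow subgroups and the inverted element of order three in a group of Ree type. -/
theorem ree_facts {G : Type u} [Group G] [Finite G] (h : IsReeType G) :
    ¬ Involves (Equiv.Perm (Fin 4)) G ∧ Involves (Equiv.Perm (Fin 3)) G := by
  obtain ⟨hsimple, hna, t, K, n, hn, ht, hidx, ⟨htC, hKC, hcomm, hinf, hsup⟩, F, _, _, hF, ⟨e⟩⟩ := h
  haveI : Fact (Nat.Prime 2) := ⟨Nat.prime_two⟩
  obtain ⟨T, hT, ⟨D⟩⟩ := Cfsg.Lib.ReeType.exists_LData hn hF
  let σ : Shrink.{0} G ≃* G := Shrink.mulEquiv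
  haveI : Finite (Shrink.{0} G) := Finite.of_injective σ σ.injective
  letI : Fintype (Shrink.{0} G) := Fintype.ofFinite _
  haveI : IsSimpleGroup (Shrink.{0} G) := σ.isSimpleGroup
  have hna' : ¬ IsMulCommutative (Shrink.{0} G) := fun hc => hna ⟨⟨fun a b => σ.symm.injective (by
    rw [map_mul, map_mul]; exact hc.is_comm.comm _ _)⟩⟩
  have htsq : t * t = 1 := by rw [← sq, ← ht, pow_orderOf_eq_one]
  let S : Cfsg.Lib.ReeType.Setup (Shrink.{0} G)
      (Matrix.ProjectiveSpecialLinearGroup (Fin 2) F) n T :=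
    { D := D
      φ := σ.symm.toMonoidHom.comp (K.subtype.comp e.symm.toMonoidHom)
      inj := σ.symm.injective.comp (Subtype.val_injective.comp e.symm.injective)
      t := σ.symm t
      t_sq := by rw [← map_mul, htsq, map_one]
      t_ne := fun h => by
        rw [map_eq_one_iff _ σ.symm.injective] at h
        rw [h, orderOf_one] at ht; omega
      comm := fun l => by
        show σ.symm t * σ.symm (e.symm l : G) = σ.symm (e.symm l : G) * σ.symm t
        rw [← map_mul, ← map_mul, hcomm t (Subgroup.mem_zpowers t) _ (e.symm l).2]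
      not_mem := fun l h => by
        have h' : (e.symm l : G) = t := σ.symm.injective h
        have : t ∈ Subgroup.zpowers t ⊓ K := ⟨Subgroup.mem_zpowers t, h' ▸ (e.symm l).2⟩
        rw [hinf, Subgroup.mem_bot] at this
        rw [this, orderOf_one] at ht; omega
      cent := fun g hg => by
        have hg' : σ g ∈ Subgroup.centralizer ({t} : Set G) := by
          rw [Subgroup.mem_centralizer_singleton_iff]
          have := congrArg σ hg
          rwa [map_mul, map_mul, MulEquiv.apply_symm_apply] at this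
        have hnorm : K ≤ Subgroup.normalizer ((Subgroup.zpowers t : Subgroup G) : Set G) :=
          fun k hk => Subgroup.centralizer_le_normalizer _ (Subgroup.mem_centralizer_iff.2 fun z hz =>
            hcomm z hz k hk)
        have hg'' : σ g ∈ ((Subgroup.zpowers t : Set G) * (K : Set G)) := by
          rw [← Subgroup.coe_mul_of_right_le_normalizer_left _ _ hnorm, hsup]
          exact hg'
        obtain ⟨z, hz, k, hk, hzk⟩ := hg''
        obtain ⟨i, rfl⟩ := Subgroup.mem_zpowers_iff.1 hz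
        refine ⟨e ⟨k, hk⟩, ?_⟩
        show g = σ.symm (e.symm (e ⟨k, hk⟩) : G) ∨ g = σ.symm t * σ.symm (e.symm (e ⟨k, hk⟩) : G)
        rw [MulEquiv.symm_apply_apply, ← map_mul, MulEquiv.eq_symm_apply, MulEquiv.eq_symm_apply, ← hzk]
        rcases Int.even_or_odd i with ⟨r, rfl⟩ | ⟨r, rfl⟩
        · left
          show t ^ (r + r) * k = k
          rw [← two_mul, zpow_mul, zpow_two, htsq, one_zpow, one_mul]
        · right
          show t ^ (2 * r + 1) * k = t * k
          rw [zpow_add, zpow_mul, zpow_two, htsq, one_zpow, one_mul, zpow_one]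
      odd_index := by
        have hmap : Subgroup.centralizer ({σ.symm t} : Set (Shrink.{0} G)) =
            (Subgroup.centralizer ({t} : Set G)).map σ.symm.toMonoidHom := by
          ext x
          rw [Subgroup.mem_map_equiv, Subgroup.mem_centralizer_singleton_iff,
            Subgroup.mem_centralizer_singleton_iff, MulEquiv.symm_symm, ← σ.injective.eq_iff,
            map_mul, map_mul, MulEquiv.apply_symm_apply]
        rw [hmap, Subgroup.index_map_of_bijective σ.symm.bijective]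
        exact hidx
      one_le := hn
      hT := hT }
  constructor
  · intro h4
    have h4' : Involves (Equiv.Perm (Fin 4)) (Shrink.{0} G) :=
      involves_of_surjective (f := σ.toMonoidHom) σ.surjective h4
    exact not_four_of_abelian (fun P => ⟨⟨fun a b => Subtype.ext
      ((S.isPGroup_sq P.isPGroup').2.1 a a.2 b b.2)⟩⟩) h4'
  · have hI : ¬ Cfsg.Lib.ReeType.NoInv (Shrink.{0} G) := fun hI => S.contradiction_of_noInv hna' hI
    simp only [Cfsg.Lib.ReeType.NoInv, not_forall] at hI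
    obtain ⟨x, y, hx, hxy, hy, hy1⟩ := hI
    refine involves_three (x := σ x) (y := σ y) (k := 1) (by rw [← map_pow, pow_one, sq, hx, map_one])
      (by rw [← map_pow, hy, map_one]) (fun h => hy1 ((map_eq_one_iff _ σ.injective).1 h))
      (by rw [← map_inv, ← map_mul, ← map_mul, hxy, map_inv])

theorem family_free {G : Type u} [Group G] [Finite G] (h : IsSuzukiOrPSL2OddPowerThree G) :
    ¬ Involves (Equiv.Perm (Fin 3)) G := by
  rcases h with h | ⟨F, _, _, n, hF, ⟨e⟩⟩
  · intro h3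
    refine suzuki_not_three_dvd h ((show 3 ∣ 6 by norm_num).trans ?_)
    have := card_dvd_of_involves h3
    rwa [Nat.card_perm, Nat.card_fin, show Nat.factorial 3 = 6 from rfl] at this
  · exact fun h3 => psl_three_free hF (involves_of_injective (f := e.toMonoidHom) e.injective h3)

/-- Every finite Goldschmidt group is S₄-free (the symmetric group of degree 4 is not involved in it); and for a finite Goldschmidt group G, the symmetric group of degree 3 is not involved in G exactly when G is a Suzuki group or PSL₂ over a field with 3^(2n+1) elements. -/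
theorem result {G : Type*} [Group G] [Finite G] (hG : Cfsg.IsGoldschmidtGroup G) : ¬ Cfsg.Involves (Equiv.Perm (Fin 4)) G ∧ (¬ Cfsg.Involves (Equiv.Perm (Fin 3)) G ↔ Cfsg.IsSuzukiOrPSL2OddPowerThree G) := by
  suffices h : ¬ Cfsg.Involves (Equiv.Perm (Fin 4)) G ∧
      (Cfsg.Involves (Equiv.Perm (Fin 3)) G ∨ Cfsg.IsSuzukiOrPSL2OddPowerThree G) from
    ⟨h.1, fun hn => h.2.resolve_left hn, family_free⟩
  rcases hG with h | ⟨F, _, _, n, hn, hF, ⟨e⟩⟩ | h | ⟨F, _, _, n, hn, hF, ⟨e⟩⟩ |
      ⟨F, _, _, q, hF, hq5, hq, ⟨e⟩⟩ | h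
  · exact ⟨(ree_facts h).1, Or.inl (ree_facts h).2⟩
  · obtain ⟨h4, h3⟩ := psl_two_pow (F := F) (by omega) hF
    exact ⟨fun h => h4 (involves_of_injective (f := e.toMonoidHom) e.injective h),
      Or.inl (involves_of_injective (f := e.symm.toMonoidHom) e.symm.injective h3)⟩
  · refine ⟨fun h4 => suzuki_not_three_dvd h ((show 3 ∣ 24 by norm_num).trans ?_), Or.inr (Or.inl h)⟩
    have := card_dvd_of_involves h4
    rwa [Nat.card_perm, Nat.card_fin, show Nat.factorial 4 = 24 from rfl] at this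
  · exact ⟨fun h => psu_not_four hF (by omega) (involves_of_injective (f := e.toMonoidHom) e.injective h),
      Or.inl (involves_of_injective (f := e.symm.toMonoidHom) e.symm.injective (psu_involves hF (by omega)))⟩
  · obtain ⟨h4, h3⟩ := psl_three_five (F := F) hF hq
    refine ⟨fun h => h4 (involves_of_injective (f := e.toMonoidHom) e.injective h), h3.imp
      (fun h3 => involves_of_injective (f := e.symm.toMonoidHom) e.symm.injective h3) ?_⟩
    rintro ⟨n, hn⟩
    exact Or.inr ⟨F, _, _, n, hn, ⟨e⟩⟩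
  · exact ⟨(j1_facts h).1, Or.inl (j1_facts h).2⟩

end Cfsg.Agent.S2755
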