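import Cfsg.Statements.S2756
import Cfsg.Agent.Lib.Local.InversionZJ
-- import your own Cfsg.Agent.* helpers here

set_option autoImplicit false
open Cfsg

namespace Cfsg.Agent.S2756

open Subgroup Cfsg.Lib.Local.InversionZJ

/-- No inversion of elements of odd prime power order gives a normal Sylow `2`-subgroup. -/
theorem normal_of_no_inversion {G : Type*} [Group G] [Finite G]
    (h : ∀ (q : ℕ) [Fact q.Prime], q ≠ 2 → ¬ InvIn q (⊤ : Subgroup G)) (P : Sylow 2 G) :
    (P : Subgroup G).Normal := by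
  set O := Cfsg.pCore 2 G with hO
  have hOP : O ≤ (P : Subgroup G) := Cfsg.Lib.Core.pCore_le_sylow P
  set f := QuotientGroup.mk' O
  suffices hodd : ¬ 2 ∣ Nat.card (G ⧸ O) by
    have h1 : (P : Subgroup G).map f = ⊥ := by
      rw [← Sylow.coe_mapSurjective (P := P) (QuotientGroup.mk'_surjective O)]
      exact Subgroup.eq_bot_of_card_eq _ (by
        rw [Sylow.card_eq_multiplicity, Nat.factorization_eq_zero_of_not_dvd hodd, pow_zero])
    have h2 : (P : Subgroup G) ≤ O := fun x hx =>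
      (QuotientGroup.eq_one_iff x).1 (mem_bot.1 (h1 ▸ mem_map_of_mem f hx))
    rw [le_antisymm h2 hOP]
    infer_instance
  intro h2
  obtain ⟨t, ht⟩ := exists_prime_orderOf_dvd_card' (G := G ⧸ O) 2 h2
  obtain ⟨x, hx1, hxodd, hxt⟩ := Cfsg.Lib.Invol.exists_inverted_odd ht fun N hN hNp htN => by
    have h3 := Cfsg.Lib.Core.le_pCore' hN hNp htN
    rw [Cfsg.Lib.Core.pCore_quotient_pCore_eq_bot, mem_bot] at h3
    rw [h3, orderOf_one] at ht
    omega
  obtain ⟨r, hr, hrd⟩ := Nat.exists_prime_and_dvd (fun e => hx1 (orderOf_eq_one_iff.1 e))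
  haveI : Fact r.Prime := ⟨hr⟩
  have hr2 : r ≠ 2 := fun e => by
    obtain ⟨k, hk⟩ := hxodd
    rw [e] at hrd
    omega
  obtain ⟨m, hm⟩ := hrd
  have hm0 : m ≠ 0 := fun e => (orderOf_pos x).ne' (by rw [hm, e, mul_zero])
  refine h r hr2 (invIn_of_map hr2 f ?_)
  refine ⟨t, ?_, x ^ m, ?_, ?_, ⟨1, ?_⟩, ?_⟩
  · rw [Subgroup.map_top_of_surjective f (QuotientGroup.mk'_surjective O)]; exact mem_top _
  · rw [Subgroup.map_top_of_surjective f (QuotientGroup.mk'_surjective O)]; exact mem_top _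
  · exact fun e => by
      have := Nat.le_of_dvd (Nat.pos_of_ne_zero hm0) (orderOf_dvd_of_pow_eq_one e)
      rw [hm] at this
      have h2r := hr.two_le
      nlinarith [Nat.pos_of_ne_zero hm0]
  · rw [pow_one, ← pow_mul, mul_comm, ← hm, pow_orderOf_eq_one]
  · rw [← conj_pow, hxt, inv_pow]

/-- A group with a normal Sylow `2`-subgroup inverts no nontrivial element of odd prime power order. -/
theorem no_inversion_of_normal {G : Type*} [Group G] [Finite G] (P : Sylow 2 G) (hP : (P : Subgroup G).Normal)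
    {q : ℕ} [Fact q.Prime] (hq : q ≠ 2) {t y : G} (hy : y ≠ 1) (hyk : ∃ k : ℕ, y ^ q ^ k = 1)
    (hty : t * y * t⁻¹ = y⁻¹) : False := by
  haveI := hP
  obtain ⟨k, hk⟩ := hyk
  have hP2 : (QuotientGroup.mk' (P : Subgroup G) t) * QuotientGroup.mk' _ y *
      (QuotientGroup.mk' (P : Subgroup G) t)⁻¹ = (QuotientGroup.mk' (P : Subgroup G) y)⁻¹ := by
    rw [← map_inv, ← map_inv, ← map_mul, ← map_mul, hty]
  set T := QuotientGroup.mk' (P : Subgroup G) t
  set Y := QuotientGroup.mk' (P : Subgroup G) y with hY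
  have hTodd : Odd (orderOf T) := by
    rw [← Nat.not_even_iff_odd, even_iff_two_dvd]
    exact fun h => P.not_dvd_index ((h.trans (orderOf_dvd_natCard T)).trans (by rw [Subgroup.index]))
  have hinv : ∀ n : ℕ, T ^ (2 * n + 1) * Y * (T ^ (2 * n + 1))⁻¹ = Y⁻¹ := by
    intro n
    induction n with
    | zero => simpa using hP2
    | succ n ih =>
      calc T ^ (2 * (n + 1) + 1) * Y * (T ^ (2 * (n + 1) + 1))⁻¹
          = T * (T * (T ^ (2 * n + 1) * Y * (T ^ (2 * n + 1))⁻¹) * T⁻¹) * T⁻¹ := by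
            rw [show 2 * (n + 1) + 1 = (2 * n + 1) + 1 + 1 by ring, pow_succ', pow_succ']; group
        _ = Y⁻¹ := by rw [ih, ← conj_inv, hP2, inv_inv, hP2]
  obtain ⟨n, hn⟩ := hTodd
  have h1 := hinv n
  rw [← hn, pow_orderOf_eq_one, one_mul, inv_one, mul_one] at h1
  have hqodd : Odd (q ^ k) := ((Fact.out : q.Prime).odd_of_ne_two hq).pow
  obtain ⟨j, hj⟩ := hqodd
  have hY1 : Y = 1 := by
    have h2 : Y ^ 2 = 1 := by rw [pow_two]; nth_rewrite 1 [h1]; exact inv_mul_cancel Y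
    have h3 : Y ^ q ^ k = 1 := by rw [hY, ← map_pow, hk, map_one]
    rwa [hj, pow_succ, pow_mul, h2, one_pow, one_mul] at h3
  obtain ⟨i, hi⟩ := P.isPGroup' ⟨y, (QuotientGroup.eq_one_iff y).1 hY1⟩
  have hi' : y ^ 2 ^ i = 1 := congrArg Subtype.val hi
  have hco : Nat.Coprime (2 ^ i) (q ^ k) :=
    (((Nat.coprime_primes Nat.prime_two (Fact.out : q.Prime)).2 (Ne.symm hq)).pow i k)
  exact hy (orderOf_eq_one_iff.1 (Nat.eq_one_of_dvd_coprimes hco (orderOf_dvd_of_pow_eq_one hi')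
    (orderOf_dvd_of_pow_eq_one hk)))

/-- A subgroup of a group with a normal Sylow `2`-subgroup has a normal Sylow `2`-subgroup. -/
theorem normal_subgroup {G : Type*} [Group G] [Finite G] (h : ∀ P : Sylow 2 G, (P : Subgroup G).Normal)
    (N : Subgroup G) (P : Sylow 2 ↥N) : (P : Subgroup ↥N).Normal := by
  obtain ⟨Q, hQ⟩ := P.exists_comap_subtype_eq
  rw [← hQ]
  exact (h Q).comap _

/-- For a finite group G the following are equivalent: (a) G has a normal Sylow 2-subgroup; (b) for every odd prime q dividing the order of G and every Sylow q-subgroup T, the normalizer of Z(J(T)) has a normal Sylow 2-subgroup; (c) for every odd prime q and every Sylow q-subgroup T, no nonidentity element of T is inverted by an element of the normalizer of Z(J(T)). Here J(T) is the Thompson subgroup generated by the abelian subgroups of T of largest order. Stated as the two equivalences (a) ⇔ (b) and (a) ⇔ (c). -/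
theorem result {G : Type*} [Group G] [Finite G] : ((∀ P : Sylow 2 G, (P : Subgroup G).Normal) ↔ ∀ (q : ℕ) [Fact q.Prime], q ≠ 2 → q ∣ Nat.card G → ∀ T : Sylow q G, ∀ P : Sylow 2 ↥(Subgroup.normalizer (Cfsg.centerThompsonAOf (T : Subgroup G) : Set G)), (P : Subgroup ↥(Subgroup.normalizer (Cfsg.centerThompsonAOf (T : Subgroup G) : Set G))).Normal) ∧ ((∀ P : Sylow 2 G, (P : Subgroup G).Normal) ↔ ∀ (q : ℕ) [Fact q.Prime], q ≠ 2 → ∀ T : Sylow q G, ∀ x ∈ (T : Subgroup G), x ≠ 1 → ∀ g ∈ Subgroup.normalizer (Cfsg.centerThompsonAOf (T : Subgroup G) : Set G), g * x * g⁻¹ ≠ x⁻¹) := by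
  have hca : (∀ (q : ℕ) [Fact q.Prime], q ≠ 2 → ∀ T : Sylow q G, ∀ x ∈ (T : Subgroup G), x ≠ 1 → ∀ g ∈ Subgroup.normalizer (Cfsg.centerThompsonAOf (T : Subgroup G) : Set G), g * x * g⁻¹ ≠ x⁻¹) → ∀ P : Sylow 2 G, (P : Subgroup G).Normal := by
    intro h P
    refine normal_of_no_inversion (fun q _ hq hi => ?_) P
    obtain ⟨T⟩ : Nonempty (Sylow q G) := inferInstance
    obtain ⟨x, hx, hx1, g, hg, hgx⟩ := exists_inverted_mem hq hi T
    exact h q hq T x hx hx1 g hg hgx
  have hpow : ∀ (q : ℕ) [Fact q.Prime] (T : Sylow q G), ∀ x ∈ (T : Subgroup G), ∃ k : ℕ, x ^ q ^ k = 1 := by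
    intro q _ T x hx
    obtain ⟨k, hk⟩ := T.isPGroup' ⟨x, hx⟩
    exact ⟨k, congrArg Subtype.val hk⟩
  refine ⟨⟨fun h q _ _ _ T P => normal_subgroup h _ P, fun h => hca ?_⟩, ⟨fun h q _ hq T x hx hx1 g _ hgx => ?_, hca⟩⟩
  · intro q _ hq T x hx hx1 g hg hgx
    set N := Subgroup.normalizer (Cfsg.centerThompsonAOf (T : Subgroup G) : Set G)
    obtain ⟨k, hk⟩ := hpow q T x hx
    have hd : q ∣ Nat.card G := by
      by_contra hd
      have h0 : (T : Subgroup G) = ⊥ := Subgroup.eq_bot_of_card_eq _ (by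
        rw [T.card_eq_multiplicity, Nat.factorization_eq_zero_of_not_dvd hd, pow_zero])
      rw [h0, mem_bot] at hx
      exact hx1 hx
    obtain ⟨P⟩ : Nonempty (Sylow 2 ↥N) := inferInstance
    have hxN : x ∈ N := (le_normalizer.trans
      (Cfsg.Lib.Local.GlaubermanZJ.normalizer_le_normalizer_centerThompsonAOf _)) hx
    exact no_inversion_of_normal P (h q hq hd T P) hq (t := ⟨g, hg⟩) (y := ⟨x, hxN⟩)
      (fun e => hx1 (congrArg Subtype.val e)) ⟨k, Subtype.ext hk⟩ (Subtype.ext hgx)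
  · obtain ⟨P⟩ : Nonempty (Sylow 2 G) := inferInstance
    exact no_inversion_of_normal P (h P) hq hx1 (hpow q T x hx) hgx

end Cfsg.Agent.S2756
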