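import Cfsg.Statements.S2760
import Cfsg.Agent.Lib.Local.Basic
-- import your own Cfsg.Agent.* helpers here

set_option autoImplicit false
open Cfsg

namespace Cfsg.Agent.S2760

/-- Let G be a finite group with C_G(O₂(G)) ≤ O₂(G) and H a subgroup of G such that H is normal in G, or the subgroup O²(H) generated by the elements of H of odd order is normal in G. Then C_H(O₂(H)) ≤ O₂(H). -/
theorem result {G : Type*} [Group G] [Finite G] (hchar : Subgroup.centralizer (Cfsg.pCore 2 G : Set G) ≤ Cfsg.pCore 2 G) (H : Subgroup G) (hH : H.Normal ∨ ((Cfsg.pResidual 2 ↥H).map H.subtype).Normal) : Subgroup.centralizer (Cfsg.pCore 2 ↥H : Set ↥H) ≤ Cfsg.pCore 2 ↥H := by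
  haveI : Fact (Nat.Prime 2) := ⟨Nat.prime_two⟩
  rw [← Cfsg.Lib.Local.isCharP_iff]
  have key : ∀ L : Subgroup G, L.Normal → Cfsg.Lib.Local.IsCharP 2 L := fun L hL => by
    haveI := hL
    exact Cfsg.Lib.Local.isCharP_of_normalized (Cfsg.Lib.Core.pCore_isPGroup 2 G)
      (Cfsg.Lib.Local.le_normalizer_normal _) (Cfsg.Lib.Local.le_normalizer_normal _)
      (inf_le_right.trans hchar)
  rcases hH with hH | hH
  · exact key H hH
  haveI := hH
  set R := (Cfsg.pResidual 2 ↥H).map H.subtype with hR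
  have hRH : R ≤ H := Subgroup.map_subtype_le _
  have hcore : Cfsg.pCoreOf 2 R ≤ Cfsg.pCoreOf 2 H :=
    Cfsg.Lib.Local.le_pCoreOf ((Cfsg.Lib.Local.pCoreOf_le R).trans hRH)
      ((Cfsg.Lib.Local.le_normalizer_normal (H := R) H).trans
        (Cfsg.Lib.Local.normalizer_le_normalizer_pCoreOf R))
      (Cfsg.Lib.Local.pCoreOf_isPGroup R)
  refine Cfsg.Lib.Local.le_pCoreOf inf_le_left (Cfsg.Lib.Local.le_normalizer_inf Subgroup.le_normalizer
    ((Cfsg.Lib.Local.le_normalizer_pCoreOf H).trans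
      (Cfsg.Lib.Local.normalizer_le_normalizer_centralizer _))) ?_
  refine Cfsg.Lib.Local.isPGroup_of_forall_coprime fun x hx hxc => ?_
  have hxR : x ∈ R := ⟨⟨x, hx.1⟩, Subgroup.subset_closure (by
    show (orderOf (⟨x, hx.1⟩ : ↥H)).Coprime 2
    rwa [← Subgroup.orderOf_coe]), rfl⟩
  exact Cfsg.Lib.Local.orderOf_eq_one_of_coprime_mem (Cfsg.Lib.Local.pCoreOf_isPGroup R)
    (key R hH ⟨hxR, Subgroup.mem_centralizer_iff.mpr fun y hy =>
      Subgroup.mem_centralizer_iff.mp hx.2 y (hcore hy)⟩) hxc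

end Cfsg.Agent.S2760
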