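import Cfsg.Statements.S2762
import Cfsg.Agent.Lib.Local.QdOver
-- import your own Cfsg.Agent.* helpers here

set_option autoImplicit false
open Cfsg

namespace Cfsg.Agent.S2762

/-- Structure of Qd over a finite field F of characteristic p (the affine subgroup of SL₃(F)): its largest normal p-subgroup is the group of translations (matrices with upper-left block the identity), the block-diagonal matrices form a complement isomorphic to SL₂(F), and the translation subgroup is a natural SL₂(F)-module for that complement. -/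
theorem result {F : Type*} [Field F] [Fintype F] {p : ℕ} [Fact p.Prime] [CharP F p] : (∀ M : ↥(Cfsg.qdOver F), M ∈ Cfsg.pCore p ↥(Cfsg.qdOver F) ↔ ((M : Matrix.SpecialLinearGroup (Fin 3) F) : Matrix (Fin 3) (Fin 3) F) 0 0 = 1 ∧ ((M : Matrix.SpecialLinearGroup (Fin 3) F) : Matrix (Fin 3) (Fin 3) F) 0 1 = 0 ∧ ((M : Matrix.SpecialLinearGroup (Fin 3) F) : Matrix (Fin 3) (Fin 3) F) 1 0 = 0 ∧ ((M : Matrix.SpecialLinearGroup (Fin 3) F) : Matrix (Fin 3) (Fin 3) F) 1 1 = 1) ∧ ∃ K : Subgroup ↥(Cfsg.qdOver F), (∀ M : ↥(Cfsg.qdOver F), M ∈ K ↔ ((M : Matrix.SpecialLinearGroup (Fin 3) F) : Matrix (Fin 3) (Fin 3) F) 0 2 = 0 ∧ ((M : Matrix.SpecialLinearGroup (Fin 3) F) : Matrix (Fin 3) (Fin 3) F) 1 2 = 0) ∧ K ⊓ Cfsg.pCore p ↥(Cfsg.qdOver F) = ⊥ ∧ K ⊔ Cfsg.pCore p ↥(Cfsg.qdOver F) = ⊤ ∧ Nonempty (↥K ≃* Matrix.SpecialLinearGroup (Fin 2) F) ∧ Cfsg.IsNaturalSL2Module F (Cfsg.pCore p ↥(Cfsg.qdOver F)) K := by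
  classical
  have hcore := Cfsg.Lib.Local.QdOver.pCore_eq_ker F p
  refine ⟨fun M => by rw [hcore]; exact Cfsg.Lib.Local.QdOver.mem_ker_iff F M, ?_⟩
  let Φ : Matrix.SpecialLinearGroup (Fin 2) F →* ↥(Cfsg.qdOver F) :=
    { toFun := fun A => Cfsg.Lib.Local.QdOver.affine F A 0
      map_one' := Cfsg.Lib.Local.QdOver.affine_one F
      map_mul' := fun A B => by
        rw [Cfsg.Lib.Local.QdOver.affine_mul]
        simp [Prod.zero_eq_mk] }
  have hΦ : ∀ A, Cfsg.Lib.Local.QdOver.block F (Φ A) = A :=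
    fun A => Cfsg.Lib.Local.QdOver.block_affine F A 0
  have hΦinj : Function.Injective Φ := fun A B h => by rw [← hΦ A, h, hΦ]
  refine ⟨Φ.range, fun M => ?_, ?_, ?_, ⟨(MonoidHom.ofInjective hΦinj).symm⟩, ?_⟩
  · constructor
    · rintro ⟨A, rfl⟩
      exact ⟨rfl, rfl⟩
    · rintro ⟨h1, h2⟩
      refine ⟨Cfsg.Lib.Local.QdOver.block F M, ?_⟩
      conv_rhs => rw [Cfsg.Lib.Local.QdOver.eq_affine F M]
      show Cfsg.Lib.Local.QdOver.affine F _ 0 = _
      rw [h1, h2, Prod.zero_eq_mk]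
  · refine (Subgroup.eq_bot_iff_forall _).mpr ?_
    rintro M ⟨⟨A, rfl⟩, h⟩
    replace h : Φ A ∈ (Cfsg.Lib.Local.QdOver.block F).ker := hcore ▸ h
    rw [MonoidHom.mem_ker, hΦ] at h
    rw [h, map_one]
  · refine eq_top_iff.mpr fun M _ => ?_
    set A := Cfsg.Lib.Local.QdOver.block F M with hA
    rw [show M = Φ A * ((Φ A)⁻¹ * M) by rw [mul_inv_cancel_left]]
    refine mul_mem (Subgroup.mem_sup_left ⟨A, rfl⟩) (Subgroup.mem_sup_right ?_)
    rw [hcore, MonoidHom.mem_ker, map_mul, map_inv, hΦ, inv_mul_cancel]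
  · have hker : ∀ v : Cfsg.pCore p ↥(Cfsg.qdOver F),
        (v : ↥(Cfsg.qdOver F)) = Cfsg.Lib.Local.QdOver.affine F 1
          (((v.1.1 : Matrix.SpecialLinearGroup (Fin 3) F) : Matrix (Fin 3) (Fin 3) F) 0 2,
           ((v.1.1 : Matrix.SpecialLinearGroup (Fin 3) F) : Matrix (Fin 3) (Fin 3) F) 1 2) := by
      intro v
      have h : Cfsg.Lib.Local.QdOver.block F (v : ↥(Cfsg.qdOver F)) = 1 :=
        MonoidHom.mem_ker.mp (hcore.le v.2)
      conv_lhs => rw [Cfsg.Lib.Local.QdOver.eq_affine F (v : ↥(Cfsg.qdOver F)), h]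
    have hmk : ∀ x : Fin 2 → F, Cfsg.Lib.Local.QdOver.affine F 1 (x 0, x 1) ∈
        Cfsg.pCore p ↥(Cfsg.qdOver F) := fun x => by
      rw [hcore, MonoidHom.mem_ker, Cfsg.Lib.Local.QdOver.block_affine]
    have hmul : ∀ v w : F × F, Cfsg.Lib.Local.QdOver.affine F 1 v * Cfsg.Lib.Local.QdOver.affine F 1 w =
        Cfsg.Lib.Local.QdOver.affine F 1 (v + w) := fun v w => by
      rw [Cfsg.Lib.Local.QdOver.affine_mul, one_mul]
      congr 1
      have e : ((1 : Matrix.SpecialLinearGroup (Fin 2) F) : Matrix (Fin 2) (Fin 2) F) = 1 := rfl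
      rw [e]
      simp [Prod.ext_iff, add_comm]
    let e : (Fin 2 → F) ≃+ Additive ↥(Cfsg.pCore p ↥(Cfsg.qdOver F)) :=
      AddEquiv.ofBijective
        (AddMonoidHom.mk' (fun x => Additive.ofMul (⟨_, hmk x⟩ : ↥(Cfsg.pCore p ↥(Cfsg.qdOver F))))
          (fun x y => by
            rw [← ofMul_mul]
            congr 1
            exact Subtype.ext (hmul (x 0, x 1) (y 0, y 1)).symm))
        ⟨fun x y h => by
          have := (Cfsg.Lib.Local.QdOver.affine_inj F (congrArg Subtype.val (Additive.ofMul.injective h))).2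
          rw [Prod.mk.injEq] at this
          ext i
          fin_cases i
          exacts [this.1, this.2],
        fun v => ⟨![_, _], congrArg Additive.ofMul (Subtype.ext (hker v.toMul).symm)⟩⟩
    have hsymm : ∀ v : ↥(Cfsg.pCore p ↥(Cfsg.qdOver F)), ∃ x, Additive.ofMul v = e x :=
      fun v => ⟨e.symm (Additive.ofMul v), (e.apply_symm_apply _).symm⟩
    haveI : (Cfsg.pCore p ↥(Cfsg.qdOver F)).Normal := inferInstance
    have hconj : ∀ (A : Matrix.SpecialLinearGroup (Fin 2) F) (x : Fin 2 → F),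
        Φ A * Cfsg.Lib.Local.QdOver.affine F 1 (x 0, x 1) * (Φ A)⁻¹ =
          Cfsg.Lib.Local.QdOver.affine F 1 ((A.1.mulVec x) 0, (A.1.mulVec x) 1) := by
      intro A x
      rw [mul_inv_eq_iff_eq_mul]
      show Cfsg.Lib.Local.QdOver.affine F A 0 * _ = _ * Cfsg.Lib.Local.QdOver.affine F A 0
      rw [Cfsg.Lib.Local.QdOver.affine_mul, Cfsg.Lib.Local.QdOver.affine_mul, mul_one, one_mul]
      congr 1
      simp [Matrix.mulVec, dotProduct, Fin.sum_univ_two]
    refine ⟨fun k _ => by rw [Subgroup.normalizer_eq_top]; trivial,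
      (Cfsg.Lib.Local.QdOver.block F).comp Φ.range.subtype, e.symm,
      fun A => ⟨⟨Φ A, A, rfl⟩, hΦ A⟩, ?_, ?_⟩
    · ext l
      obtain ⟨M, A, rfl⟩ := l
      rw [MonoidHom.mem_ker, Subgroup.mem_subgroupOf, Subgroup.mem_centralizer_iff]
      show Cfsg.Lib.Local.QdOver.block F (Φ A) = 1 ↔ _
      rw [hΦ]
      constructor
      · rintro rfl v _
        simp
      · intro h
        have key : ∀ x : Fin 2 → F, A.1.mulVec x = x := fun x => by
          have h1 := hconj A x
          rw [← h _ (hmk x), mul_inv_cancel_right] at h1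
          have h2 := (Cfsg.Lib.Local.QdOver.affine_inj F h1).2
          rw [Prod.mk.injEq] at h2
          ext i
          fin_cases i
          exacts [h2.1.symm, h2.2.symm]
        have a := key ![1, 0]
        have b := key ![0, 1]
        ext i j
        have a' := congrFun a i
        have b' := congrFun b i
        fin_cases i <;> fin_cases j <;>
          simp [Matrix.mulVec, dotProduct, Fin.sum_univ_two] at a' b' ⊢ <;> assumption
    · rintro ⟨M, A, rfl⟩ v
      obtain ⟨x, hx⟩ := hsymm v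
      refine ⟨⟨_, hmk (A.1.mulVec x)⟩, ?_, ?_⟩
      · rw [show v = (e x).toMul from congrArg Additive.toMul hx]
        exact (hconj A x).symm
      · rw [hx, AddEquiv.symm_apply_apply]
        show e.symm (e (A.1.mulVec x)) = _
        rw [AddEquiv.symm_apply_apply]
        show _ = ((Cfsg.Lib.Local.QdOver.block F (Φ A) : Matrix.SpecialLinearGroup (Fin 2) F).1).mulVec x
        rw [hΦ]

end Cfsg.Agent.S2762
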