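import Cfsg.Statements.S2772
import Cfsg.Agent.Lib.Local.SThreePair.Dihedral

set_option autoImplicit false
open Cfsg

namespace Cfsg.Agent.S2772

open Subgroup Cfsg.Lib Cfsg.Lib.Local Cfsg.Lib.Local.SThreePair

/-- Sims' Theorem in local form: let H be a finite non-abelian simple group and G a maximal subgroup of H with C_G(O₂(G)) ≤ O₂(G), such that N_H(S) is not contained in G for a Sylow 2-subgroup S of G and G/O₂(G) is dihedral of order 2q for a prime q. Then G is isomorphic to the symmetric group of degree 4 or to its direct product with a group of order 2. -/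
theorem result {H : Type*} [Group H] [Finite H] [IsSimpleGroup H] (hna : ¬ IsMulCommutative H) (G : Subgroup H) (hG : IsCoatom G) (hchar : Subgroup.centralizer (Cfsg.pCore 2 ↥G : Set ↥G) ≤ Cfsg.pCore 2 ↥G) (S : Sylow 2 ↥G) (hN : ¬ Subgroup.normalizer (((S : Subgroup ↥G).map G.subtype : Subgroup H) : Set H) ≤ G) (q : ℕ) (hq : q.Prime) (hD : Nonempty (↥G ⧸ Cfsg.pCore 2 ↥G ≃* DihedralGroup q)) : Nonempty (↥G ≃* Equiv.Perm (Fin 4)) ∨ Nonempty (↥G ≃* Equiv.Perm (Fin 4) × Multiplicative (ZMod 2)) := by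
  haveI : Fact (Nat.Prime 2) := ⟨Nat.prime_two⟩
  obtain ⟨e⟩ := hD
  set T : Subgroup H := (S : Subgroup ↥G).map G.subtype with hT
  have hTG : T ≤ G := map_subtype_le _
  have hTp : IsPGroup 2 T := S.isPGroup'.map _
  have hQp : IsPGroup 2 ↥(pCoreOf 2 G) := (Core.pCore_isPGroup 2 ↥G).map G.subtype
  obtain ⟨g, hg, hgG⟩ := SetLike.not_le_iff_exists.mp hN
  -- a subgroup of `T` normalized by `G` and `g` is trivial
  have hno : ∀ N : Subgroup H, N ≤ T → G ≤ normalizer (N : Set H) → g ∈ normalizer (N : Set H) → N = ⊥ := by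
    intro N hle h1 h2
    have htop : normalizer (N : Set H) = ⊤ := by
      rcases hG.le_iff.mp h1 with h | h
      · exact h
      · exact absurd (h ▸ h2) hgG
    rcases (normalizer_eq_top_iff.mp htop).eq_bot_or_eq_top with h | h
    · exact h
    · exact absurd (top_le_iff.mp (h ▸ hle.trans hTG)) hG.1
  have hcQ : Nat.card G = 2 * q * Nat.card (pCoreOf 2 G) := by
    rw [pCoreOf, ← Nat.card_congr ((pCore 2 ↥G).equivMapOfInjective _ G.subtype_injective).toEquiv,
      ← (pCore 2 ↥G).card_mul_index, Nat.mul_comm (2 * q)]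
    congr 1
    show Nat.card (↥G ⧸ pCore 2 ↥G) = 2 * q
    rw [Nat.card_congr e.toEquiv, DihedralGroup.nat_card]
  obtain ⟨i, hi⟩ := IsPGroup.iff_card.mp hQp
  have hq2 : q ≠ 2 := by
    rintro rfl
    have hp : IsPGroup 2 ↥G := IsPGroup.of_card (n := i + 2) (by rw [hcQ, hi]; ring)
    have : pCoreOf 2 G = G := by
      rw [pCoreOf, Core.pCore_eq_top hp, ← MonoidHom.range_eq_map, range_subtype]
    rw [this] at hcQ
    have := Nat.card_pos (α := G)
    omega
  have hTc : Nat.card T = 2 * Nat.card (pCoreOf 2 G) := by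
    rw [hT, ← Nat.card_congr ((S : Subgroup ↥G).equivMapOfInjective _ G.subtype_injective).toEquiv,
      S.card_eq_multiplicity, hcQ, hi, show 2 * q * 2 ^ i = q * 2 ^ (i + 1) by ring,
      Nat.factorization_mul hq.ne_zero (by positivity), Nat.Prime.factorization hq,
      Nat.Prime.factorization_pow Nat.prime_two]
    simp [hq2, pow_succ']
  have hGc : Nat.card G = q * Nat.card T := by rw [hcQ, hTc]; ring
  have hchar' : G ⊓ Subgroup.centralizer (pCoreOf 2 G : Set H) ≤ pCoreOf 2 G := fun x hx =>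
    ⟨⟨x, hx.1⟩, hchar (mem_centralizer_iff.mpr fun y hy => Subtype.ext
      (mem_centralizer_iff.mp hx.2 y (mem_map_of_mem _ hy))), rfl⟩
  set O := omegaOne 2 (T ⊓ Subgroup.centralizer (T : Set H)) with hO
  have hgT := Core.map_conj_eq_of_mem_normalizer hg
  have hnc : ¬ G ≤ Subgroup.centralizer (O : Set H) := by
    intro hc
    have hOT : O ≤ T := (closure_le _).mpr fun x hx => hx.1.1
    have hgO : g ∈ normalizer (O : Set H) := Core.mem_normalizer_iff_map_conj.mpr (by
      rw [hO, omegaCenter_map, hgT])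
    have hbot := hno O hOT (hc.trans (centralizer_le_normalizer _)) hgO
    haveI : Nontrivial ↥T := Finite.one_lt_card_iff_nontrivial.mp (by
      rw [hTc]; have := Nat.card_pos (α := ↥(pCoreOf 2 G)); omega)
    obtain ⟨z, hz⟩ := exists_prime_orderOf_dvd_card' (G := ↥(center ↥T)) 2 (by
      haveI := hTp.center_nontrivial
      obtain ⟨j, hj⟩ := IsPGroup.iff_card.mp (hTp.to_subgroup (center ↥T))
      have : 1 < Nat.card ↥(center ↥T) := Finite.one_lt_card
      rcases j with _ | j
      · rw [hj] at this; simp at this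
      · exact hj ▸ dvd_pow_self 2 j.succ_ne_zero)
    have h2 : orderOf ((z : ↥T) : H) = 2 := by rw [orderOf_coe, orderOf_coe]; exact hz
    have hmem : ((z : ↥T) : H) ∈ O := subset_closure ⟨⟨(z : ↥T).2, mem_centralizer_iff.mpr fun y hy =>
      congrArg Subtype.val (mem_center_iff.mp z.2 ⟨y, hy⟩)⟩, by rw [← h2]; exact pow_orderOf_eq_one _⟩
    rw [hbot, mem_bot] at hmem
    rw [hmem, orderOf_one] at h2
    omega
  obtain rfl := residue_eq_three G T hTG hTp hq hq2 hGc hTc hchar' hnc hg hno
  -- the amalgam of `G` and its conjugate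
  set c := MulAut.conj g
  set G' := G.map c.toMonoidHom
  have hne : G' ≠ G := fun e => by
    have h1 : g ∈ normalizer (G : Set H) := Core.mem_normalizer_iff_map_conj.mpr e
    rcases hG.le_iff.mp (le_normalizer : G ≤ normalizer (G : Set H)) with h | h
    · rcases (normalizer_eq_top_iff.mp h).eq_bot_or_eq_top with h' | h'
      · have := hGc
        rw [h', card_bot] at this
        omega
      · exact hG.1 h'
    · exact hgG (h ▸ h1)
  have hT' : T ≤ G' := hgT ▸ map_mono hTG
  have hcG' : Nat.card G' = Nat.card G := card_map_equiv c G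
  have hinf : G ⊓ G' = T := by
    refine (Subgroup.eq_of_le_of_card_ge (le_inf hTG hT') ?_).symm
    have h1 := Core.card_mul_relIndex (le_inf hTG hT' : T ≤ G ⊓ G')
    have h2 := Core.card_mul_relIndex (inf_le_left : G ⊓ G' ≤ G)
    have hd : T.relIndex (G ⊓ G') ∣ 3 := by
      refine Nat.dvd_of_mul_dvd_mul_left (Nat.card_pos (α := T)) ⟨(G ⊓ G').relIndex G, ?_⟩
      rw [h1, h2, hGc, mul_comm]
    rcases (Nat.dvd_prime Nat.prime_three).mp hd with h | h
    · rw [← h1, h, mul_one]
    · exfalso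
      have h3 : G ⊓ G' = G := Subgroup.eq_of_le_of_card_ge inf_le_left (by rw [← h1, h, hGc, mul_comm])
      exact hne (Subgroup.eq_of_le_of_card_ge (inf_eq_left.mp h3) (le_of_eq hcG')).symm
  have hsup : G ⊔ G' = ⊤ := by
    rcases hG.le_iff.mp (le_sup_left : G ≤ G ⊔ G') with h | h
    · exact h
    · exact absurd (Subgroup.eq_of_le_of_card_ge (sup_eq_left.mp h) (le_of_eq hcG'.symm)) hne
  have hGtop : G ≠ ⊤ := hG.1
  have hG'top : G' ≠ ⊤ := fun h => hne (Subgroup.eq_of_le_of_card_ge (h ▸ le_top) (le_of_eq hcG')).symm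
  have cen : Subgroup.centralizer (pCore 2 ↥G' : Set ↥G') ≤ pCore 2 ↥G' := by
    let ε : ↥G ≃* ↥G' := c.subgroupMap G
    intro x hx
    rw [← Core.map_pCore_equiv ε] at hx ⊢
    refine ⟨ε.symm x, hchar (mem_centralizer_iff.mpr fun y hy => ε.injective ?_), ε.apply_symm_apply x⟩
    rw [map_mul, map_mul, MulEquiv.apply_symm_apply]
    exact mem_centralizer_iff.mp hx _ ⟨y, hy, rfl⟩
  have s₁ : Side G T := ⟨hTG, hGc, hTc, hnc⟩
  have s₂ : Side G' T := by
    have := s₁.map c
    rwa [hgT] at this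
  have two_dvd : ∀ P : Subgroup H, Side P T → 2 ∣ Nat.card P := fun P s =>
    ⟨3 * Nat.card (pCoreOf 2 P), by rw [s.card_M, s.card_T]; ring⟩
  have fac : ∀ P : Subgroup H, Side P T → (Nat.card P).factorization 2 = i + 1 := fun P s => by
    rw [s.card_M, hTc, hi, show 2 * 2 ^ i = 2 ^ (i + 1) by ring, Nat.factorization_mul (by norm_num) (by positivity),
      Nat.Prime.factorization Nat.prime_three, Nat.Prime.factorization_pow Nat.prime_two]
    simp
  have hpair : Cfsg.IsCharPAmalgamPair 2 G G' := by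
    refine ⟨⟨hsup, hGtop, hG'top, fun N hN hn => ?_⟩, inferInstance, inferInstance, two_dvd G s₁, two_dvd G' s₂,
      fun A B C => ?_, hchar, cen⟩
    · rcases hn.eq_bot_or_eq_top with h | h
      · exact h
      · exact absurd (top_le_iff.mp (h ▸ hN.trans inf_le_left)) hGtop
    · rw [A.card_eq_multiplicity, B.card_eq_multiplicity, C.card_eq_multiplicity, fac G s₁, fac G' s₂, hinf, hTc,
        hi, show 2 * 2 ^ i = 2 ^ (i + 1) by ring, Nat.Prime.factorization_pow Nat.prime_two]
      simp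
  rcases Hyp.classify (⟨hpair, hinf.symm ▸ hTp, hinf.symm ▸ s₁, hinf.symm ▸ s₂⟩ : Hyp G G') with h | h
  · exact Or.inl h.1
  · exact Or.inr (h.1.map fun f => f.trans MulEquiv.prodComm)

end Cfsg.Agent.S2772
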