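import Cfsg.Statements.S2779
import Cfsg.Agent.Lib.Local.NaturalModule
-- import your own Cfsg.Agent.* helpers here

set_option autoImplicit false
open Cfsg

namespace Cfsg.Agent.S2779

/-- Let L act on the elementary abelian p-group V (inside a finite group, by conjugation, faithfully) as SL₂(F) on its natural module, F a field with p^n elements, and let S be a Sylow p-subgroup of L. Then [V, S, S] = 1; |V| = p^(2n) and |C_V(S)| = p^n; and for every nonidentity s ∈ S and every v ∈ V outside C_V(S): C_V(s) = C_V(S) = [V, S] = [V, s] = the subgroup generated by the commutators [v, t], t ∈ S. -/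
theorem result {G : Type*} [Group G] [Finite G] {p : ℕ} [Fact p.Prime] {F : Type*} [Field F] [Fintype F] (n : ℕ) (hF : Fintype.card F = p ^ n) (V L : Subgroup G) (hnat : Cfsg.IsNaturalSL2Module F V L) (hf : L ⊓ Subgroup.centralizer (V : Set G) = ⊥) (S : Sylow p ↥L) (T : Subgroup G) (hT : T = ((S : Subgroup ↥L).map L.subtype)) : ⁅⁅V, T⁆, T⁆ = ⊥ ∧ Nat.card V = p ^ (2 * n) ∧ Nat.card ↥(V ⊓ Subgroup.centralizer ((T : Subgroup G) : Set G)) = p ^ n ∧ ∀ s ∈ T, s ≠ 1 → (V ⊓ Subgroup.centralizer ({s} : Set G)) = (V ⊓ Subgroup.centralizer ((T : Subgroup G) : Set G)) ∧ ⁅V, T⁆ = (V ⊓ Subgroup.centralizer ((T : Subgroup G) : Set G)) ∧ ⁅V, Subgroup.zpowers s⁆ = (V ⊓ Subgroup.centralizer ((T : Subgroup G) : Set G)) ∧ ∀ v ∈ V, v ∉ Subgroup.centralizer (T : Set G) → Subgroup.closure {x : G | ∃ t ∈ T, x = v * t * v⁻¹ * t⁻¹} = (V ⊓ Subgroup.centralizer ((T : Subgroup G) : Set G)) := by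
  classical
  obtain ⟨d⟩ := Cfsg.Lib.Local.exists_natData n hF hnat hf S
  rw [← hT] at d
  set C := V ⊓ Subgroup.centralizer ((T : Subgroup G) : Set G) with hC
  have hcomm : ∀ v ∈ V, ∀ t ∈ T, v * t * v⁻¹ * t⁻¹ ∈ C := by
    intro v hv t ht
    obtain ⟨x, rfl⟩ := d.exists_emb hv
    obtain ⟨a, rfl⟩ := d.exists_elt ht
    rw [d.commutator_elt]
    exact d.fixed_mem _
  have hVT : ⁅V, T⁆ ≤ C := Subgroup.commutator_le.mpr fun v hv t ht => by
    rw [commutatorElement_def]; exact hcomm v hv t ht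
  refine ⟨?_, ?_, ?_, fun s hs hs1 => ?_⟩
  · rw [Subgroup.commutator_eq_bot_iff_le_centralizer]
    exact hVT.trans inf_le_right
  · rw [show Nat.card V = Nat.card (Fin 2 → F) from
      Nat.card_congr (Additive.ofMul.trans d.ψ.toEquiv), Nat.card_fun, Nat.card_eq_fintype_card (α := F), hF,
      Nat.card_fin, ← pow_mul, mul_comm]
  · rw [← hF, ← Nat.card_eq_fintype_card (α := F)]
    refine (Nat.card_eq_of_bijective (fun c : F => (⟨d.emb ![c, 0], d.fixed_mem c⟩ : C)) ⟨?_, ?_⟩).symm
    · intro a b h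
      have h' : d.emb ![a, 0] = d.emb ![b, 0] := congrArg (fun z : C => (z : G)) h
      simpa using congrFun (d.emb_injective h') 0
    · rintro ⟨v, hv⟩
      obtain ⟨c, hc⟩ := d.exists_fixed hv
      exact ⟨c, Subtype.ext hc⟩
  · obtain ⟨a, rfl⟩ := d.exists_elt hs
    have ha : a ≠ 0 := by
      rintro rfl
      exact hs1 (by rw [d.elt_zero]; rfl)
    refine ⟨le_antisymm (fun v hv => ?_) (fun v hv => ⟨hv.1, Subgroup.mem_centralizer_iff.mpr
      fun t ht => ?_⟩), le_antisymm hVT ?_, le_antisymm ((Subgroup.commutator_mono le_rfl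
        (Subgroup.zpowers_le.mpr hs)).trans hVT) ?_, fun v hv hvC => ?_⟩
    · obtain ⟨x, rfl⟩ := d.exists_emb hv.1
      refine d.mem_fixed.mpr ?_
      have := (d.comm_elt_iff x).mp (Subgroup.mem_centralizer_iff.mp hv.2 _ rfl)
      exact (mul_eq_zero.mp this).resolve_left ha
    · rw [Set.mem_singleton_iff.mp ht]
      exact Subgroup.mem_centralizer_iff.mp hv.2 _ (d.elt_mem a)
    · intro v hv
      obtain ⟨c, rfl⟩ := d.exists_fixed hv
      have := Subgroup.commutator_mem_commutator (d.emb_mem ![0, -c]) (d.elt_mem 1)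
      rw [commutatorElement_def, d.commutator_elt] at this
      simpa using this
    · intro v hv
      obtain ⟨c, rfl⟩ := d.exists_fixed hv
      have := Subgroup.commutator_mem_commutator (d.emb_mem ![0, -c / a])
        (Subgroup.mem_zpowers ((d.elt a : L) : G))
      rw [commutatorElement_def, d.commutator_elt] at this
      simpa [mul_div_cancel₀ _ ha] using this
    · refine le_antisymm ((Subgroup.closure_le _).mpr ?_) fun w hw => ?_
      · rintro _ ⟨t, ht, rfl⟩
        exact hcomm v hv t ht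
      · obtain ⟨x, rfl⟩ := d.exists_emb hv
        have hx : x 1 ≠ 0 := fun h => hvC (d.mem_fixed.mpr h).2
        obtain ⟨c, rfl⟩ := d.exists_fixed hw
        refine Subgroup.subset_closure ⟨_, d.elt_mem (-c / x 1), ?_⟩
        rw [d.commutator_elt, div_mul_cancel₀ _ hx, neg_neg]

end Cfsg.Agent.S2779
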