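import Cfsg.Statements.S2780
import Cfsg.Agent.Lib.Local.NaturalModule
-- import your own Cfsg.Agent.* helpers here

set_option autoImplicit false
open Cfsg

namespace Cfsg.Agent.S2780

/-- Let L act on the elementary abelian p-group V (inside a finite group, faithfully) as SL₂(F) on its natural module, F a field with p^n elements, S a Sylow p-subgroup of L. Then: for every g ∈ L not normalizing S, V is the internal direct product of C_V(S) and C_V(gSg⁻¹); every nonidentity element of L of order prime to p acts on V without nonidentity fixed points; and C_V(S) and V/C_V(S) are irreducible for N_L(S): the only N_L(S)-invariant subgroups of C_V(S) are 1 and C_V(S), and the only N_L(S)-invariant subgroups between C_V(S) and V are those two. -/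
theorem result {G : Type*} [Group G] [Finite G] {p : ℕ} [Fact p.Prime] {F : Type*} [Field F] [Fintype F] (n : ℕ) (hF : Fintype.card F = p ^ n) (V L : Subgroup G) (hnat : Cfsg.IsNaturalSL2Module F V L) (hf : L ⊓ Subgroup.centralizer (V : Set G) = ⊥) (S : Sylow p ↥L) (T : Subgroup G) (hT : T = ((S : Subgroup ↥L).map L.subtype)) : (∀ g ∈ L, g ∉ Subgroup.normalizer (T : Set G) → Cfsg.IsInternalDirectProduct (V ⊓ Subgroup.centralizer ((T : Subgroup G) : Set G)) (V ⊓ Subgroup.centralizer ((T.map (MulAut.conj g).toMonoidHom : Subgroup G) : Set G)) V) ∧ (∀ x ∈ L, x ≠ 1 → (orderOf x).Coprime p → (V ⊓ Subgroup.centralizer ({x} : Set G)) = ⊥) ∧ (∀ U : Subgroup G, U ≤ (V ⊓ Subgroup.centralizer ((T : Subgroup G) : Set G)) → L ⊓ Subgroup.normalizer (T : Set G) ≤ Subgroup.normalizer (U : Set G) → U = ⊥ ∨ U = (V ⊓ Subgroup.centralizer ((T : Subgroup G) : Set G))) ∧ (∀ U : Subgroup G, (V ⊓ Subgroup.centralizer ((T : Subgroup G) : Set G)) ≤ U → U ≤ V → L ⊓ Subgroup.normalizer (T : Set G) ≤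 Subgroup.normalizer (U : Set G) → U = (V ⊓ Subgroup.centralizer ((T : Subgroup G) : Set G)) ∨ U = V) := by
  classical
  haveI : CharP F p := by
    obtain ⟨q, hq⟩ := CharP.exists F
    haveI := hq
    obtain ⟨k, hqp, hk⟩ := FiniteField.card F q
    have h : q ∣ p ^ n := hF ▸ hk ▸ dvd_pow_self q k.ne_zero
    rwa [(Nat.prime_dvd_prime_iff_eq hqp Fact.out).mp (hqp.dvd_of_dvd_pow h)] at hq
  obtain ⟨d⟩ := Cfsg.Lib.Local.exists_natData n hF hnat hf S
  rw [← hT] at d
  have hdiag : ∀ (t : F), t ≠ 0 → ∃ l : L, (l : G) ∈ L ⊓ Subgroup.normalizer (T : Set G) ∧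
      ∀ x : Fin 2 → F, (l : G) * d.emb x * (l : G)⁻¹ = d.emb ![t * x 0, t⁻¹ * x 1] := by
    intro t ht
    let D : Matrix.SpecialLinearGroup (Fin 2) F := ⟨!![t, 0; 0, t⁻¹], by simp [Matrix.det_fin_two, ht]⟩
    refine ⟨d.ρ.symm D, ⟨(d.ρ.symm D).2, d.mem_normalizer_of_low ?_⟩, fun x => ?_⟩
    · rw [MulEquiv.apply_symm_apply]; rfl
    · rw [d.conj_emb, MulEquiv.apply_symm_apply, Cfsg.Lib.Local.mulVec_two]
      simp [D]
  have hconj : ∀ (U : Subgroup G), L ⊓ Subgroup.normalizer (T : Set G) ≤ Subgroup.normalizer (U : Set G) →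
      ∀ (t : F) (x : Fin 2 → F), t ≠ 0 → d.emb x ∈ U → d.emb ![t * x 0, t⁻¹ * x 1] ∈ U := by
    intro U hU t x ht hx
    obtain ⟨l, hl, he⟩ := hdiag t ht
    rw [← he x]
    exact (Subgroup.mem_normalizer_iff.mp (hU hl) _).mp hx
  refine ⟨fun g hg hgN => ?_, fun x hx hx1 hco => ?_, fun U hUC hU => ?_, fun U hCU hUV hU => ?_⟩
  · set M := d.ρ ⟨g, hg⟩ with hM
    have hc : M 1 0 ≠ 0 := fun h => hgN (d.mem_normalizer_of_low h)
    have hval : ∀ y : Fin 2 → F,
        g⁻¹ * d.emb y * g = d.emb ((M⁻¹ : Matrix.SpecialLinearGroup (Fin 2) F).1.mulVec y) := by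
      intro y
      have := d.conj_emb (⟨g, hg⟩⁻¹ : L) y
      rwa [map_inv, Subgroup.coe_inv, inv_inv] at this
    have hC' : ∀ y, d.emb y ∈ V ⊓ Subgroup.centralizer
          ((T.map (MulAut.conj g).toMonoidHom : Subgroup G) : Set G) ↔
        -M 1 0 * y 0 + M 0 0 * y 1 = 0 := by
      intro y
      have e : -M 1 0 * y 0 + M 0 0 * y 1 =
          ((M⁻¹ : Matrix.SpecialLinearGroup (Fin 2) F).1.mulVec y) 1 := by
        rw [Cfsg.Lib.Local.mulVec_two]
        simp [Matrix.SpecialLinearGroup.coe_inv, Matrix.adjugate_fin_two]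
      rw [e, ← d.mem_fixed, ← hval]
      constructor
      · rintro ⟨-, h2⟩
        refine ⟨by rw [hval]; exact d.emb_mem _, Subgroup.mem_centralizer_iff.mpr fun t ht => ?_⟩
        have := Subgroup.mem_centralizer_iff.mp h2 _ ⟨t, ht, rfl⟩
        simp only [MulEquiv.coe_toMonoidHom, MulAut.conj_apply] at this
        have := congrArg (fun z => g⁻¹ * z * g) this
        simpa [mul_assoc] using this
      · rintro ⟨-, h2⟩
        refine ⟨d.emb_mem _, Subgroup.mem_centralizer_iff.mpr ?_⟩
        rintro _ ⟨t, ht, rfl⟩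
        have := congrArg (fun z => g * z * g⁻¹) (Subgroup.mem_centralizer_iff.mp h2 t ht)
        simpa [mul_assoc] using this
    haveI : IsMulCommutative V := ⟨⟨fun a b => Additive.ofMul.injective (d.ψ.injective (by
      rw [ofMul_mul, ofMul_mul, map_add, map_add, add_comm]))⟩⟩
    refine ⟨inf_le_left, inf_le_left, fun a ha b hb => congrArg Subtype.val
      (mul_comm' (⟨a, ha.1⟩ : V) ⟨b, hb.1⟩), ?_, le_antisymm (sup_le inf_le_left inf_le_left) ?_⟩
    · refine (Subgroup.eq_bot_iff_forall _).mpr fun v hv => ?_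
      obtain ⟨y, rfl⟩ := d.exists_emb hv.1.1
      have h1 := d.mem_fixed.mp hv.1
      have h0 := (hC' y).mp hv.2
      rw [h1, mul_zero, add_zero, neg_mul, neg_eq_zero, mul_eq_zero] at h0
      rw [← d.emb_zero]
      congr 1
      ext i
      fin_cases i <;> simp [h1, h0.resolve_left hc]
    · intro v hv
      obtain ⟨y, rfl⟩ := d.exists_emb hv
      set z : Fin 2 → F := ![M 0 0 * (y 1 / M 1 0), y 1] with hz
      have e : y = ![y 0 - z 0, 0] + z := by
        ext i
        fin_cases i <;> simp [hz]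
      rw [e, d.emb_add]
      refine mul_mem (Subgroup.mem_sup_left (d.fixed_mem _)) (Subgroup.mem_sup_right ((hC' z).mpr ?_))
      simp [hz]
      field_simp
      ring
  · refine (Subgroup.eq_bot_iff_forall _).mpr fun v hv => ?_
    obtain ⟨y, rfl⟩ := d.exists_emb hv.1
    have hfix := (d.comm_emb_iff ⟨x, hx⟩ y).mp (Subgroup.mem_centralizer_iff.mp hv.2 x rfl)
    by_contra hy
    apply hx1
    have hy0 : y ≠ 0 := fun h => hy (by rw [h, d.emb_zero])
    set A := (d.ρ ⟨x, hx⟩).1 with hA
    have hdet : (A - 1).det = 0 := by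
      refine Matrix.exists_mulVec_eq_zero_iff.mp ⟨y, hy0, ?_⟩
      rw [Matrix.sub_mulVec, Matrix.one_mulVec, hfix, sub_self]
    have hdA : A.det = 1 := (d.ρ ⟨x, hx⟩).2
    have hsq : (A - 1) * (A - 1) = 0 := by
      rw [Matrix.det_fin_two] at hdet hdA
      simp only [Matrix.sub_apply, Matrix.one_apply_eq, ne_eq, zero_ne_one, not_false_eq_true,
        Matrix.one_apply_ne, one_ne_zero, sub_zero] at hdet
      have htr : A 0 0 + A 1 1 = 2 := by linear_combination hdA - hdet
      ext i j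
      fin_cases i <;> fin_cases j <;> simp [Matrix.mul_apply, Fin.sum_univ_two]
      · linear_combination (A 0 0 - 1) * htr - hdet
      · linear_combination A 0 1 * htr
      · linear_combination A 1 0 * htr
      · linear_combination (A 1 1 - 1) * htr - hdet
    have hp2 : 2 ≤ p := (Fact.out : p.Prime).two_le
    have h3 : (A - 1) ^ p = 0 := by
      rw [show p = 2 + (p - 2) by omega, pow_add, pow_two, hsq, zero_mul]
    rw [sub_pow_char_of_commute p (Commute.one_right A), one_pow, sub_eq_zero] at h3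
    have h4 : (⟨x, hx⟩ : L) ^ p = 1 := d.ρ.injective (by
      rw [map_pow, map_one]
      exact Subtype.ext (by rw [Matrix.SpecialLinearGroup.coe_pow]; exact h3))
    have h5 : orderOf x ∣ p := orderOf_dvd_of_pow_eq_one (congrArg Subtype.val h4)
    exact orderOf_eq_one_iff.mp (Nat.Coprime.eq_one_of_dvd hco h5)
  · by_cases hb : U = ⊥
    · exact Or.inl hb
    obtain ⟨⟨v, hv⟩, hv0⟩ := (Subgroup.ne_bot_iff_exists_ne_one (H := U)).mp hb
    have hv1 : v ≠ 1 := fun e => hv0 (Subtype.ext e)
    obtain ⟨c, rfl⟩ := d.exists_fixed (hUC hv)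
    have hc : c ≠ 0 := by
      rintro rfl
      refine hv1 ?_
      rw [← d.emb_zero]
      congr 1
      ext i
      fin_cases i <;> rfl
    refine Or.inr (le_antisymm hUC fun w hw => ?_)
    obtain ⟨e, rfl⟩ := d.exists_fixed hw
    by_cases he : e = 0
    · subst he
      convert one_mem U using 1
      rw [← d.emb_zero]
      congr 1
      ext i
      fin_cases i <;> rfl
    have := hconj U hU (e / c) _ (div_ne_zero he hc) hv
    simpa [div_mul_cancel₀ _ hc] using this
  · by_cases hb : U ≤ V ⊓ Subgroup.centralizer ((T : Subgroup G) : Set G)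
    · exact Or.inl (le_antisymm hb hCU)
    obtain ⟨v, hv, hvC⟩ := SetLike.not_le_iff_exists.mp hb
    obtain ⟨x, rfl⟩ := d.exists_emb (hUV hv)
    have hx : x 1 ≠ 0 := fun h => hvC (d.mem_fixed.mpr h)
    refine Or.inr (le_antisymm hUV fun w hw => ?_)
    obtain ⟨y, rfl⟩ := d.exists_emb hw
    by_cases hy : y 1 = 0
    · exact hCU (d.mem_fixed.mpr hy)
    have h1 := hconj U hU (x 1 / y 1) x (div_ne_zero hx hy) hv
    have h2 := mul_mem (hCU (d.fixed_mem (y 0 - x 1 / y 1 * x 0))) h1
    rw [← d.emb_add] at h2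
    convert h2 using 2
    ext i
    fin_cases i <;> simp
    field_simp

end Cfsg.Agent.S2780
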