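import Cfsg.Statements.S2781
import Cfsg.Agent.Lib.Local.Norm
import Cfsg.Agent.Lib.Fusion.Basic
-- import your own Cfsg.Agent.* helpers here

set_option autoImplicit false
open Cfsg

namespace Cfsg.Agent.S2781

/-- Let H act faithfully by conjugation on the elementary abelian p-subgroup V of a finite group, let O^p(H) be the subgroup of H generated by its elements of order prime to p, and T a Sylow p-subgroup of O^p(H). If V is generated by the H-conjugates of C_V(T) (V is the smallest H-invariant subgroup containing C_V(T)), then V = [V, O^p(H)]·C_V(O^p(H)). -/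
theorem result {G : Type*} [Group G] [Finite G] {p : ℕ} [Fact p.Prime] (V H : Subgroup G) (hV : Cfsg.IsElementaryAbelian p V) (hHV : H ≤ Subgroup.normalizer (V : Set G)) (hf : H ⊓ Subgroup.centralizer (V : Set G) = ⊥) (R : Subgroup G) (hR : R = (Cfsg.pResidual p ↥H).map H.subtype) (S : Sylow p ↥R) (T : Subgroup G) (hT : T = ((S : Subgroup ↥R).map R.subtype)) (hgen : ∀ W : Subgroup G, H ≤ Subgroup.normalizer (W : Set G) → (V ⊓ Subgroup.centralizer ((T : Subgroup G) : Set G)) ≤ W → V ≤ W) : ⁅V, R⁆ ⊔ (V ⊓ Subgroup.centralizer ((R : Subgroup G) : Set G)) = V := by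
  haveI := hV.1
  have hRH : R ≤ H := hR ▸ Subgroup.map_subtype_le _
  have hRV : R ≤ Subgroup.normalizer (V : Set G) := hRH.trans hHV
  set W := ⁅V, R⁆ ⊔ (V ⊓ Subgroup.centralizer ((R : Subgroup G) : Set G)) with hW
  have hWV : W ≤ V := sup_le (Subgroup.commutator_le.mpr fun v hv r hr => by
    rw [commutatorElement_def, mul_assoc v r, mul_assoc v]
    exact mul_mem hv ((Subgroup.mem_normalizer_iff.mp (hRV hr) _).mp (inv_mem hv))) inf_le_left
  refine le_antisymm hWV (hgen W ?_ ?_)
  · have hHR : H ≤ Subgroup.normalizer (R : Set G) := by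
      haveI : (Cfsg.pResidual p ↥H).Normal := Cfsg.Lib.Fusion.pResidual_normal p ↥H
      rw [hR]
      exact (le_of_eq (H.range_subtype.symm.trans (MonoidHom.range_eq_map _))).trans
        ((Subgroup.map_mono (le_of_eq (Subgroup.normalizer_eq_top (Cfsg.pResidual p ↥H)).symm)).trans
          (Subgroup.le_normalizer_map _))
    intro h hh
    have e1 : V.map (MulAut.conj h).toMonoidHom = V :=
      Subgroup.mem_normalizer_iff_map_conj_eq.mp (hHV hh)
    have e2 : R.map (MulAut.conj h).toMonoidHom = R :=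
      Subgroup.mem_normalizer_iff_map_conj_eq.mp (hHR hh)
    refine Subgroup.mem_normalizer_iff_map_conj_eq.mpr ?_
    show W.map (MulAut.conj h).toMonoidHom = W
    rw [hW, Subgroup.map_sup, Subgroup.map_commutator, e1, e2,
      Subgroup.map_inf _ _ _ (MulAut.conj h).injective, e1]
    congr 2
    refine le_antisymm ?_ ?_
    · rintro _ ⟨c, hc, rfl⟩
      refine Subgroup.mem_centralizer_iff.mpr fun r hr => ?_
      obtain ⟨r', hr', rfl⟩ : r ∈ R.map (MulAut.conj h).toMonoidHom := by rwa [e2]
      rw [← map_mul, ← map_mul, Subgroup.mem_centralizer_iff.mp hc r' hr']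
    · intro c hc
      refine ⟨(MulAut.conj h).symm c, Subgroup.mem_centralizer_iff.mpr fun r hr => ?_, (MulAut.conj h).apply_symm_apply c⟩
      apply (MulAut.conj h).injective
      rw [map_mul, map_mul, MulEquiv.apply_symm_apply]
      exact Subgroup.mem_centralizer_iff.mp hc _ (e2.le ⟨r, hr, rfl⟩)
  · rintro v ⟨hv, hvT⟩
    have hfix : ∀ s ∈ T, s * v = v * s := Subgroup.mem_centralizer_iff.mp hvT
    have h1 := Cfsg.Lib.Local.pow_mul_normHom_inv_mem (S := T) (hCV := hRV) ⟨v, hv⟩
    set N := Cfsg.Lib.Local.normHom T hRV ⟨v, hv⟩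
    have h2 : (N : G) ∈ V ⊓ Subgroup.centralizer ((R : Subgroup G) : Set G) :=
      ⟨N.2, Subgroup.mem_centralizer_iff.mpr fun r hr =>
        Cfsg.Lib.Local.normHom_fixed (S := T) (v := ⟨v, hv⟩) hfix hr⟩
    have h3 : v ^ T.relIndex R ∈ W := by
      have := mul_mem (Subgroup.mem_sup_left h1 : _ ∈ W) (Subgroup.mem_sup_right h2)
      simpa using this
    have hm : ¬ p ∣ T.relIndex R := by
      rw [hT, Subgroup.relIndex, Subgroup.subgroupOf, Subgroup.comap_map_eq_self_of_injective R.subtype_injective]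
      exact S.not_dvd_index
    have hcop : (orderOf v).Coprime (T.relIndex R) :=
      Nat.Coprime.coprime_dvd_left (orderOf_dvd_of_pow_eq_one (hV.2 v hv))
        ((Fact.out : p.Prime).coprime_iff_not_dvd.mpr hm)
    obtain ⟨k, hk⟩ := exists_pow_eq_self_of_coprime hcop.symm
    exact hk ▸ pow_mem h3 k

end Cfsg.Agent.S2781
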