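import Cfsg.Statements.S2787
import Cfsg.Agent.Lib.Local.NoQuadratic
import Cfsg.Agent.Lib.Dickson.RedundantSylow
import Cfsg.Agent.Lib.FusionSys.SylowTwoPSL
import Cfsg.Agent.Lib.Chev.ReeSylowTwo

set_option autoImplicit false
open Cfsg

namespace Cfsg.Agent.S2787

/-- Sylow 2-subgroups of `PSL₂(q)`, `q` odd, have an abelian subgroup containing all elements of order > 2. -/
theorem psl_two_sylow {F : Type} [Field F] [Fintype F] (hodd : Odd (Fintype.card F))
    (T : Sylow 2 (Matrix.ProjectiveSpecialLinearGroup (Fin 2) F)) :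
    ∃ C : Subgroup (Matrix.ProjectiveSpecialLinearGroup (Fin 2) F), IsMulCommutative C ∧
      ∀ x ∈ T, x * x ≠ 1 → x ∈ C := by
  classical
  haveI : Fact (Nat.Prime 2) := ⟨Nat.prime_two⟩
  by_cases h16 : 16 ∣ Fintype.card F ^ 2 - 1
  · obtain ⟨n, hn, ⟨e⟩⟩ := Cfsg.Lib.FusionSys.Lin.sylow_psl_two_equiv_dihedral hodd h16 T
    let R : Subgroup (DihedralGroup n) := Subgroup.zpowers (DihedralGroup.r 1)
    refine ⟨((R.comap e.toMonoidHom)).map (T : Subgroup _).subtype, ⟨⟨?_⟩⟩, fun x hx hx1 => ?_⟩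
    · rintro ⟨_, a, ha, rfl⟩ ⟨_, b, hb, rfl⟩
      have hab : a * b = b * a := e.injective (by
        rw [map_mul, map_mul]
        exact congrArg Subtype.val ((inferInstance : IsMulCommutative R).is_comm.comm (⟨e a, ha⟩ : R) ⟨e b, hb⟩))
      refine Subtype.ext ?_
      show ((a : Matrix.ProjectiveSpecialLinearGroup (Fin 2) F) * b) = b * a
      exact congrArg Subtype.val hab
    · refine ⟨⟨x, hx⟩, ?_, rfl⟩
      show e ⟨x, hx⟩ ∈ R
      have hne : e ⟨x, hx⟩ * e ⟨x, hx⟩ ≠ 1 := fun h => hx1 (by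
        rw [← map_mul, map_eq_one_iff e e.injective] at h
        exact congrArg Subtype.val h)
      revert hne
      generalize e ⟨x, hx⟩ = y
      cases y with
      | r i => exact fun _ => ⟨(i.cast : ℤ), by simp [DihedralGroup.r_one_zpow]⟩
      | sr i => exact fun h => absurd (DihedralGroup.sr_mul_self i) h
  · refine ⟨(T : Subgroup _), ?_, fun x hx _ => hx⟩
    have h := Cfsg.Lib.Dickson.Redundant.card_sylow_two (Nat.odd_iff.1 hodd) T
    obtain ⟨v, hv⟩ : ∃ v, v = (Fintype.card F ^ 2 - 1).factorization 2 := ⟨_, rfl⟩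
    rw [← hv] at h
    have hv3 : v ≤ 3 := by
      by_contra hlt
      refine h16 ?_
      have h2 : 2 ^ v ∣ Fintype.card F ^ 2 - 1 := hv ▸ Nat.ordProj_dvd _ 2
      exact (pow_dvd_pow 2 (show 4 ≤ v by omega)).trans h2
    interval_cases v
    · omega
    · haveI : Subsingleton (T : Subgroup (Matrix.ProjectiveSpecialLinearGroup (Fin 2) F)) :=
        (Nat.card_eq_one_iff_unique.1 (by omega)).1
      exact ⟨⟨fun a b => Subsingleton.elim _ _⟩⟩
    · haveI := isCyclic_of_prime_card (p := 2)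
        (show Nat.card (T : Subgroup (Matrix.ProjectiveSpecialLinearGroup (Fin 2) F)) = 2 by omega)
      infer_instance
    · exact IsPGroup.isMulCommutative_of_card_eq_prime_sq (p := 2)
        (show Nat.card (T : Subgroup (Matrix.ProjectiveSpecialLinearGroup (Fin 2) F)) = 2 ^ 2 by omega)

/-- Let p be a prime and let H act by conjugation on the elementary abelian p-subgroup V of a finite group, irreducibly (no H-invariant subgroups of V other than 1 and V) and nontrivially, and suppose H/C_H(V) is isomorphic to PSL₂(F) for a field F with p^n elements, p^n odd, or p = 3 and H/C_H(V) is isomorphic to a Ree group ²G₂(3^(2m+1)), m ≥ 1. Then no subgroup A of H acting nontrivially on V acts quadratically: [V, A, A] = 1 forces [V, A] = 1. -/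
theorem result {G : Type*} [Group G] [Finite G] {p : ℕ} [Fact p.Prime] (V H : Subgroup G) (hV : Cfsg.IsElementaryAbelian p V) (hHV : H ≤ Subgroup.normalizer (V : Set G)) (hirr : ∀ U : Subgroup G, U ≤ V → H ≤ Subgroup.normalizer (U : Set G) → U = ⊥ ∨ U = V) (hnt : ¬ H ≤ Subgroup.centralizer (V : Set G)) [hn : ((Subgroup.centralizer (V : Set G)).subgroupOf H).Normal] (hq : (∃ (F : Type) (_ : Field F) (_ : Fintype F) (n : ℕ), Fintype.card F = p ^ n ∧ Odd (Fintype.card F) ∧ Nonempty (↥H ⧸ (Subgroup.centralizer (V : Set G)).subgroupOf H ≃* Matrix.ProjectiveSpecialLinearGroup (Fin 2) F)) ∨ (p = 3 ∧ Cfsg.Lie.IsoRee (↥H ⧸ (Subgroup.centralizer (V : Set G)).subgroupOf H))) (A : Subgroup G) (hA : A ≤ H) (hquad : ⁅⁅V, A⁆, A⁆ = ⊥) : ⁅V, A⁆ = ⊥ := by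
  classical
  rcases hq with ⟨F, iF, iFt, n, hcard, hodd, ⟨e⟩⟩ | ⟨hp3, K, iK, iKt, m, hm, hK, ⟨e⟩⟩
  · have hp2 : p ≠ 2 := by
      intro h
      have hn0 : n ≠ 0 := by
        rintro rfl
        rw [pow_zero] at hcard
        exact Fintype.one_lt_card.ne' hcard
      rw [hcard, h, Nat.odd_pow_iff hn0] at hodd
      exact absurd hodd (by decide)
    exact Cfsg.Lib.Local.NoQuadratic.quadratic_trivial hp2 V H hV hHV hirr
      (Cfsg.Lib.Local.NoQuadratic.not_involves_SL2_of_equiv e hp2 fun T => psl_two_sylow hodd T) A hA hquad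
  · subst hp3
    haveI := Cfsg.Lib.Chev.g2_charP hK
    have e' := e.trans (MulEquiv.subgroupCongr (Cfsg.Lib.Chev.twistedG2_eq hK))
    refine Cfsg.Lib.Local.NoQuadratic.quadratic_trivial (by norm_num) V H hV hHV hirr
      (Cfsg.Lib.Local.NoQuadratic.not_involves_SL2_of_equiv e' (by norm_num) fun T =>
        ⟨(T : Subgroup _), ⟨⟨fun a b => Subtype.ext ?_⟩⟩, fun x hx _ => hx⟩) A hA hquad
    haveI : Fact (Nat.Prime 2) := ⟨Nat.prime_two⟩
    have h1 := Cfsg.Lib.Chev.Ree.sylow_two_elementary hK T (mul_mem a.2 b.2)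
    have h2 := Cfsg.Lib.Chev.Ree.sylow_two_elementary hK T a.2
    have h3 := Cfsg.Lib.Chev.Ree.sylow_two_elementary hK T b.2
    have i1 := inv_eq_of_mul_eq_one_right h1
    rw [mul_inv_rev, inv_eq_of_mul_eq_one_right h2, inv_eq_of_mul_eq_one_right h3] at i1
    exact i1.symm

end Cfsg.Agent.S2787
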