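import Cfsg.Statements.S2788
import Cfsg.Agent.Lib.Local.SLTwoConjAction
import Cfsg.Agent.Lib.Linear.SLTwoQuadraticBound

set_option autoImplicit false
open Cfsg

namespace Cfsg.Agent.S2788

open scoped Pointwise commutatorElement

/-- Let H act faithfully by conjugation on the elementary abelian p-subgroup V of a finite group with H ≅ SL₂(F), F a field with p^n elements, S a Sylow p-subgroup of H, and A ≤ S a subgroup of order at least 3 acting quadratically on V ([V, A, A] = 1). Then |V/C_V(a)| ≥ p^n for every nonidentity a ∈ A. -/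
theorem result {G : Type*} [Group G] [Finite G] {p : ℕ} [Fact p.Prime] (V H : Subgroup G) (hV : Cfsg.IsElementaryAbelian p V) (hHV : H ≤ Subgroup.normalizer (V : Set G)) (hf : H ⊓ Subgroup.centralizer (V : Set G) = ⊥) {F : Type*} [Field F] [Fintype F] (n : ℕ) (hF : Fintype.card F = p ^ n) (hiso : Nonempty (↥H ≃* Matrix.SpecialLinearGroup (Fin 2) F)) (S : Sylow p ↥H) (T : Subgroup G) (hT : T = ((S : Subgroup ↥H).map H.subtype)) (A : Subgroup G) (hA : A ≤ T) (hA3 : 3 ≤ Nat.card A) (hquad : ⁅⁅V, A⁆, A⁆ = ⊥) : ∀ a ∈ A, a ≠ 1 → p ^ n ≤ ((V ⊓ Subgroup.centralizer ({a} : Set G))).relIndex V := by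
  classical
  intro a ha ha1
  have hp : p.Prime := Fact.out
  haveI := hV.1
  obtain ⟨e₀⟩ := hiso
  have hn : n ≠ 0 := by
    rintro rfl
    rw [pow_zero] at hF
    exact absurd hF (Fintype.one_lt_card (α := F)).ne'
  obtain ⟨p', hp'⟩ := CharP.exists F
  obtain ⟨k, hk', hk⟩ := FiniteField.card F p'
  have hpp : p = p' := by
    have hd : p ∣ p' ^ (k : ℕ) := by rw [← hk, hF]; exact dvd_pow_self p hn
    exact (Nat.prime_dvd_prime_iff_eq hp hk').1 (hp.dvd_of_dvd_pow hd)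
  subst hpp
  obtain ⟨s, hs, hsa⟩ : a ∈ (S : Subgroup ↥H).map H.subtype := hT ▸ hA ha
  obtain ⟨g₀, hg₀⟩ := Cfsg.Lib.Linear.Two.exists_conj_UT p (S.mapSurjective (f := e₀.toMonoidHom) e₀.surjective)
  obtain ⟨c, hc⟩ : (MulAut.conj g₀)⁻¹ (e₀ s) ∈ Cfsg.Lib.Linear.Two.UT F := by
    have : e₀ s ∈ (S : Subgroup ↥H).map e₀.toMonoidHom := Subgroup.mem_map_of_mem _ hs
    rw [show (S : Subgroup ↥H).map e₀.toMonoidHom = MulAut.conj g₀ • Cfsg.Lib.Linear.Two.UT F from hg₀] at this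
    exact Subgroup.mem_pointwise_smul_iff_inv_smul_mem.1 this
  have hc' : (MulAut.conj g₀)⁻¹ (e₀ s) = Cfsg.Lib.Linear.SLTwoNatural.u c.toAdd := hc.symm
  have hc0 : c.toAdd ≠ 0 := by
    intro h0
    rw [h0, Cfsg.Lib.Linear.SLTwoNatural.u_zero] at hc'
    have hs1 : s = 1 := e₀.injective ((((MulAut.conj g₀)⁻¹).map_eq_one_iff.1 hc').trans (map_one e₀).symm)
    exact ha1 (by rw [← hsa, hs1]; rfl)
  obtain ⟨e, he⟩ : ∃ e : ↥H ≃* Matrix.SpecialLinearGroup (Fin 2) F, e = (e₀.trans (MulAut.conj g₀)⁻¹).trans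
      (Cfsg.Lib.Linear.SLTwoNatural.diagConj (Units.mk0 c.toAdd hc0)⁻¹) := ⟨_, rfl⟩
  have hes : e s = Cfsg.Lib.Linear.SLTwoNatural.u 1 := by
    rw [he]
    show Cfsg.Lib.Linear.SLTwoNatural.diagConj _ ((MulAut.conj g₀)⁻¹ (e₀ s)) = _
    rw [hc', Cfsg.Lib.Linear.SLTwoNatural.diagConj_u, Units.val_inv_eq_inv_val, Units.val_mk0,
      inv_mul_cancel₀ hc0]
  obtain ⟨ρ, hρ⟩ : ∃ ρ, ρ = Cfsg.Lib.Local.conjRep H V hHV e.symm.toMonoidHom := ⟨_, rfl⟩
  have hcoe : ∀ g z, ((ρ g z).toMul : G) = (e.symm g : G) * (z.toMul : G) * (e.symm g : G)⁻¹ := by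
    intro g z; rw [hρ, Cfsg.Lib.Local.conjRep_apply]; rfl
  have hu : (e.symm (Cfsg.Lib.Linear.SLTwoNatural.u 1) : G) = a := by
    rw [← hes, e.symm_apply_apply]; exact hsa
  have hfaith : ∀ g, (∀ z, ρ g z = z) → g = 1 := by
    intro g hg
    have hmem : (e.symm g : G) ∈ H ⊓ Subgroup.centralizer (V : Set G) := by
      refine ⟨(e.symm g).2, Subgroup.mem_centralizer_iff.2 fun v hv => ?_⟩
      have := congrArg (fun z : Cfsg.Lib.Local.ConjModule V => (z.toMul : G)) (hg (Additive.ofMul ⟨v, hv⟩))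
      rw [hcoe] at this
      exact (mul_inv_eq_iff_eq_mul.1 this).symm
    rw [hf, Subgroup.mem_bot] at hmem
    exact e.symm.injective (Subtype.ext (hmem.trans (by rw [map_one]; rfl)))
  have hq : ∀ z, ρ (Cfsg.Lib.Linear.SLTwoNatural.u 1) (ρ (Cfsg.Lib.Linear.SLTwoNatural.u 1) z - z) =
      ρ (Cfsg.Lib.Linear.SLTwoNatural.u 1) z - z := by
    intro z
    refine Additive.toMul.injective (Subtype.ext ?_)
    rw [hcoe, hu]
    have key : ((ρ (Cfsg.Lib.Linear.SLTwoNatural.u 1) z - z).toMul : G) = a * (z.toMul : G) * a⁻¹ * (z.toMul : G)⁻¹ := by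
      rw [sub_eq_add_neg, toMul_add, toMul_neg, Subgroup.coe_mul, Subgroup.coe_inv, hcoe, hu]
    rw [key]
    rw [Subgroup.commutator_eq_bot_iff_le_centralizer] at hquad
    have hm := inv_mem (hquad (Subgroup.commutator_mem_commutator z.toMul.2 ha))
    rw [commutatorElement_inv, commutatorElement_def] at hm
    exact mul_inv_eq_iff_eq_mul.2 (Subgroup.mem_centralizer_iff.1 hm a ha)
  have hmain := Cfsg.Lib.Linear.SLTwoNatural.le_index_fix_u ρ hF (Cfsg.Lib.Local.conjModule_nsmul V hV) hfaith hq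
  refine hmain.trans (le_of_eq ?_)
  obtain ⟨C, hC⟩ : ∃ C, C = V ⊓ Subgroup.centralizer ({a} : Set G) := ⟨_, rfl⟩
  rw [← hC, Subgroup.relIndex]
  have h1 := (Cfsg.Lib.Linear.SLTwoNatural.fixOne ρ (Cfsg.Lib.Linear.SLTwoNatural.u 1)).card_mul_index
  have h2 := (C.subgroupOf V).card_mul_index
  have h3 : Nat.card (Cfsg.Lib.Linear.SLTwoNatural.fixOne ρ (Cfsg.Lib.Linear.SLTwoNatural.u 1)) =
      Nat.card (C.subgroupOf V) := by
    refine Nat.card_congr (Additive.toMul.subtypeEquiv fun z => ?_)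
    rw [Cfsg.Lib.Linear.SLTwoNatural.mem_fixOne, Subgroup.mem_subgroupOf, hC]
    constructor
    · intro h
      have := congrArg (fun z : Cfsg.Lib.Local.ConjModule V => (z.toMul : G)) h
      rw [hcoe, hu] at this
      exact ⟨z.toMul.2, Subgroup.mem_centralizer_singleton_iff.2 (mul_inv_eq_iff_eq_mul.1 this).symm⟩
    · intro h
      refine Additive.toMul.injective (Subtype.ext ?_)
      rw [hcoe, hu]
      exact mul_inv_eq_iff_eq_mul.2 (Subgroup.mem_centralizer_singleton_iff.1 h.2).symm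
  rw [h3, Nat.card_congr (Additive.toMul : Cfsg.Lib.Local.ConjModule V ≃ ↥V), ← h2] at h1
  exact Nat.eq_of_mul_eq_mul_left Nat.card_pos h1

end Cfsg.Agent.S2788
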