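import Cfsg.Statements.S2791
import Cfsg.Agent.Lib.Local.StronglyClosedAbelianFusion
-- import your own Cfsg.Agent.* helpers here

set_option autoImplicit false
open Cfsg

namespace Cfsg.Agent.S2791

/-- Let S be a Sylow p-subgroup of the finite group G and A an abelian subgroup of S that is strongly closed in S with respect to G. Then A controls strong fusion in G: for some Sylow p-subgroup T containing A, whenever a subset of T is conjugated into T by an element of G, the same elementwise conjugation is induced by an element of N_G(A). -/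
theorem result {G : Type*} [Group G] [Finite G] {p : ℕ} [Fact p.Prime] (S : Sylow p G) (A : Subgroup G) (hA : IsMulCommutative ↥A) (hsc : Cfsg.IsStronglyClosed A (S : Subgroup G)) : Cfsg.ControlsStrongFusion p A := by
  refine ⟨S, hsc.1, fun X hX => ⟨hX, fun g hg => ?_⟩⟩
  have hD : Subgroup.closure X ≤ (S : Subgroup G) := (Subgroup.closure_le _).mpr hX
  have hDg : Cfsg.Lib.Fusion.conjR g⁻¹ (Subgroup.closure X) ≤ (S : Subgroup G) := by
    rw [Cfsg.Lib.Fusion.conjR, inv_inv, MonoidHom.map_closure, Subgroup.closure_le]
    exact hg
  obtain ⟨m, hm, hm2⟩ := Cfsg.Lib.Local.SCAbelian.controls S A hA hsc hD hDg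
  refine ⟨m⁻¹, inv_mem hm, fun a ha => ?_⟩
  have h := hm2 a (Subgroup.subset_closure ha)
  rw [inv_inv] at h
  rw [inv_inv]
  exact h

end Cfsg.Agent.S2791
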