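import Cfsg.Statements.S2793
import Cfsg.Agent.Lib.Local.QuadTorus.Reach

set_option autoImplicit false
open Cfsg

namespace Cfsg.Agent.S2793

/-- Let p be an odd prime, S a Sylow p-subgroup of the finite group G, J(S) the subgroup generated by the abelian subgroups of S of largest order, and suppose Z(J(S)) does not control strong fusion in G. Put H = N_G(Z(J(S))). Then the group F(p) of upper triangular 3 × 3 matrices (a b c; 0 a⁻¹ d; 0 0 1) over the field with p elements is involved in H, and Z(J(S)) contains a subgroup C of order p with |N_H(C) : C_H(C)| = p − 1. -/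
theorem result {G : Type*} [Group G] [Finite G] {p : ℕ} [Fact p.Prime] (hp : p ≠ 2) (S : Sylow p G) (h : ¬ Cfsg.ControlsStrongFusion p (Cfsg.centerThompsonAOf (S : Subgroup G))) (H : Subgroup G) (hH : H = Subgroup.normalizer ((Cfsg.centerThompsonAOf (S : Subgroup G)) : Set G)) : Cfsg.Involves ↥(Cfsg.fOver (ZMod p)) ↥H ∧ ∃ C : Subgroup G, C ≤ (Cfsg.centerThompsonAOf (S : Subgroup G)) ∧ Nat.card C = p ∧ (H ⊓ Subgroup.centralizer (C : Set G)).relIndex (H ⊓ Subgroup.normalizer (C : Set G)) = p - 1 := by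
  have hYS : centerThompsonAOf (S : Subgroup G) ≤ (S : Subgroup G) := inf_le_left.trans (Subgroup.map_subtype_le _)
  obtain ⟨A, hA⟩ : ∃ A, Lib.Local.QuadTorus.Fail (S : Subgroup G) A := by
    by_contra hcon
    refine h ⟨S, hYS, fun A hA => ⟨hA, fun g hg => ?_⟩⟩
    by_contra hn
    refine hcon ⟨Subgroup.closure A, (Subgroup.closure_le _).2 hA, g, ?_, ?_⟩
    · intro a ha
      have hle : Subgroup.closure A ≤ (S : Subgroup G).comap (MulAut.conj g).toMonoidHom :=
        (Subgroup.closure_le _).2 fun a ha => hg ⟨a, ha, rfl⟩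
      simpa using hle ha
    · rintro ⟨x, hx, hxe⟩
      exact hn ⟨x, hx, fun a ha => (hxe a (Subgroup.subset_closure ha)).symm⟩
  obtain ⟨hinv, c, hc, hco, x, hx, k, hk, hxe⟩ :=
    Lib.Local.QuadTorus.concl_of_fail hp _ G rfl S A hA
  subst hH
  exact ⟨hinv, Subgroup.zpowers c, Subgroup.zpowers_le.2 hc, by rw [Nat.card_zpowers, hco],
    Lib.Local.QuadTorus.relIndex_eq_of_eigen _ hx hco hk hxe⟩

end Cfsg.Agent.S2793
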