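import Cfsg.Statements.S2803
import Cfsg.Agent.Lib.Local.PReduced
-- import your own Cfsg.Agent.* helpers here

set_option autoImplicit false
open Cfsg

namespace Cfsg.Agent.S2803

/-- Let L be a finite group and p a prime with C_L(O_p(L)) ≤ O_p(L), T a Sylow p-subgroup, and Y the largest p-reduced normal subgroup of L. Put T_L = C_T(Y) and L_T = N_L(T_L). Then L = L_T · C_L(Y) (elementwise), T_L = O_p(L_T), and Y = Ω₁(Z(T_L)). -/
theorem result {L : Type*} [Group L] [Finite L] {p : ℕ} [Fact p.Prime] (hchar : Subgroup.centralizer (Cfsg.pCore p L : Set L) ≤ Cfsg.pCore p L) (T : Sylow p L) (Y : Subgroup L) (hY : (Cfsg.IsPReducedNormal p Y ∧ ∀ V : Subgroup L, Cfsg.IsPReducedNormal p V → V ≤ Y)) (TL : Subgroup L) (hTL : TL = (T : Subgroup L) ⊓ Subgroup.centralizer (Y : Set L)) : (∀ g : L, ∃ a ∈ Subgroup.normalizer (TL : Set L), ∃ c ∈ Subgroup.centralizer (Y : Set L), g = a * c) ∧ (Cfsg.pCore p ↥(Subgroup.normalizer (TL : Set L))).map (Subgroup.normalizer (TL : Set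 L)).subtype = TL ∧ Y = Cfsg.omegaOne p (TL ⊓ Subgroup.centralizer (TL : Set L)) := by
  classical
  obtain ⟨hYr, hYmax⟩ := hY
  haveI := hYr.1
  set C := Subgroup.centralizer (Y : Set L) with hC
  haveI : C.Normal := inferInstance
  obtain ⟨P, hP⟩ := Cfsg.Lib.Local.exists_sylow_centralizer T (Y := Y) (by rw [Subgroup.normalizer_eq_top]; exact le_top)
  rw [← hTL] at hP
  have hTC : TL ≤ C := hTL ▸ inf_le_right
  have hTT : TL ≤ (T : Subgroup L) := hTL ▸ inf_le_left
  have hPmap : (P : Subgroup ↥C).map C.subtype = TL := by rw [hP, Subgroup.map_subgroupOf_eq_of_le hTC]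
  have hfr : Subgroup.normalizer (TL : Set L) ⊔ C = ⊤ := by
    have h := Sylow.normalizer_sup_eq_top P
    rwa [hPmap] at h
  have hdecomp : ∀ g : L, ∃ a ∈ Subgroup.normalizer (TL : Set L), ∃ c ∈ C, g = a * c := by
    intro g
    obtain ⟨a, ha, c, hc, e⟩ := Subgroup.mem_sup_of_normal_right.1 (show g ∈ Subgroup.normalizer (TL : Set L) ⊔ C by rw [hfr]; trivial)
    exact ⟨a, ha, c, hc, e.symm⟩
  set N₀ := Subgroup.normalizer (TL : Set L) with hN₀
  have hTN : (T : Subgroup L) ≤ N₀ := by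
    intro t ht
    rw [hN₀, hTL, Cfsg.Lib.Core.mem_normalizer_iff_map_conj, Subgroup.map_inf _ _ _ (MulAut.conj t).injective,
      Cfsg.Lib.Core.map_conj_eq_of_mem_normalizer (Subgroup.le_normalizer ht),
      Cfsg.Lib.Core.normal_iff_map_conj.mp inferInstance t]
  -- a p-subgroup of C ∩ N₀ lies in TL
  have hpC : ∀ Q : Subgroup L, IsPGroup p ↥Q → Q ≤ C → Q ≤ N₀ → Q ≤ TL := by
    intro Q hQ hQC hQN
    have hsup : IsPGroup p ↥(TL ⊔ Q) := (T.2.to_le hTT).to_sup_of_normal_left' hQ hQN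
    have h3 := P.3 (hsup.comap_subtype (K := C)) (fun x hx => by
      rw [hP] at hx
      exact Subgroup.mem_sup_left hx)
    intro x hx
    have hx' : (⟨x, hQC hx⟩ : ↥C) ∈ (P : Subgroup ↥C) := by rw [← h3]; exact Subgroup.mem_sup_right hx
    rw [hP] at hx'
    exact hx'
  refine ⟨hdecomp, ?_, ?_⟩
  · refine le_antisymm ?_ (Cfsg.Lib.Local.le_pCoreOf Subgroup.le_normalizer le_rfl (T.2.to_le hTT))
    set R := (Cfsg.pCore p ↥N₀).map N₀.subtype with hR
    have hRp : IsPGroup p ↥R := (Cfsg.Lib.Core.pCore_isPGroup p ↥N₀).map _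
    refine hpC R hRp ?_ (Subgroup.map_subtype_le _)
    haveI : (R ⊔ C).Normal := by
      constructor
      intro n hn g
      obtain ⟨a, ha, c, hc, rfl⟩ := hdecomp g
      have haR : a ∈ Subgroup.normalizer ((R ⊔ C : Subgroup L) : Set L) := by
        rw [Cfsg.Lib.Core.mem_normalizer_iff_map_conj, Subgroup.map_sup]
        congr 1
        · exact Cfsg.Lib.Core.map_conj_eq_of_mem_normalizer (Cfsg.Lib.Local.le_normalizer_pCoreOf N₀ ha)
        · exact Cfsg.Lib.Core.normal_iff_map_conj.mp inferInstance a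
      exact (Subgroup.mem_normalizer_iff.1 (mul_mem haR (Subgroup.le_normalizer (Subgroup.mem_sup_right hc))) n).1 hn
    refine le_trans le_sup_left ((Cfsg.Lib.Local.isPReducedNormal_iff.mp hYr).2.2 (R ⊔ C) inferInstance fun x hx => ?_)
    obtain ⟨r, hr, c, hc, rfl⟩ := Subgroup.mem_sup_of_normal_right.1 hx
    obtain ⟨k, hk⟩ := hRp ⟨r, hr⟩
    refine ⟨k, ?_⟩
    rw [← QuotientGroup.eq_one_iff, QuotientGroup.mk_pow, QuotientGroup.mk_mul,
      (QuotientGroup.eq_one_iff c).2 hc, mul_one, ← QuotientGroup.mk_pow,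
      show r ^ p ^ k = 1 from congrArg Subtype.val hk, QuotientGroup.mk_one]
  · set W := Cfsg.omegaOne p (TL ⊓ Subgroup.centralizer (TL : Set L)) with hW
    have hYW : Y ≤ W := by
      refine Cfsg.Lib.Local.le_omegaOne (le_inf ?_ (Subgroup.le_centralizer_iff.1 hTC)) hYr.2.1.2
      rw [hTL]
      exact le_inf ((Cfsg.Lib.Core.le_pCore' hYr.1 (Cfsg.Lib.PGroup.isPGroup_of_isElementaryAbelian hYr.2.1)).trans
        (Cfsg.Lib.Core.pCore_le_sylow T))
        (fun y hy => Subgroup.mem_centralizer_iff.2 fun z hz =>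
          congrArg Subtype.val (hYr.2.1.1.1.comm ⟨z, hz⟩ ⟨y, hy⟩))
    refine le_antisymm hYW ?_
    have hWT : W ≤ TL := Cfsg.Lib.Local.omegaOne_le.trans inf_le_left
    have hWN : W ≤ N₀ := hWT.trans Subgroup.le_normalizer
    have hel := Cfsg.Lib.Local.isElementaryAbelian_omegaOne (p := p) (Cfsg.Lib.Local.isMulCommutative_center_inf TL)
    have hTW : TL ≤ Subgroup.centralizer (W : Set L) :=
      Subgroup.le_centralizer_iff.1 (Cfsg.Lib.Local.omegaOne_le.trans inf_le_right)
    have hN₀W : N₀ ≤ Subgroup.normalizer (W : Set L) := by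
      intro a ha
      rw [Cfsg.Lib.Core.mem_normalizer_iff_map_conj, hW, Cfsg.omegaOne, MonoidHom.map_closure]
      congr 1
      have hTa : TL.map (MulAut.conj a).toMonoidHom = TL := Cfsg.Lib.Core.map_conj_eq_of_mem_normalizer ha
      have hCa : a ∈ Subgroup.normalizer ((TL ⊓ Subgroup.centralizer (TL : Set L) : Subgroup L) : Set L) := by
        have h2 := Cfsg.Lib.Local.normalizer_le_normalizer_centralizer TL ha
        exact Cfsg.Lib.Local.mem_normalizer_inf ha h2
      ext z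
      constructor
      · rintro ⟨y, ⟨hy1, hy2⟩, rfl⟩
        exact ⟨(Subgroup.mem_normalizer_iff.1 hCa y).1 hy1, by rw [← map_pow, hy2, map_one]⟩
      · rintro ⟨hz1, hz2⟩
        refine ⟨a⁻¹ * z * a, ⟨(Subgroup.mem_normalizer_iff''.1 hCa z).1 hz1, ?_⟩, by simp [mul_assoc]⟩
        have : (a⁻¹ * z * a⁻¹⁻¹) ^ p = a⁻¹ * z ^ p * a⁻¹⁻¹ := conj_pow
        rw [inv_inv, hz2, mul_one, inv_mul_cancel] at this
        exact this
    have hXr : Cfsg.IsPReducedNormal p (W.subgroupOf N₀) := by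
      refine Cfsg.Lib.Local.isPReducedNormal_iff.mpr ⟨(Subgroup.normal_subgroupOf_iff_le_normalizer hWN).2 hN₀W, ?_, ?_⟩
      · refine ⟨⟨⟨fun a b => Subtype.ext (Subtype.ext ?_)⟩⟩, fun a ha => Subtype.ext (hel.2 a ha)⟩
        exact (congrArg Subtype.val (hel.1.1.comm ⟨(a : L), a.2⟩ ⟨(b : L), b.2⟩) :)
      intro N hN hx
      have hc : ∀ y : ↥N₀, y ∈ Subgroup.centralizer ((W.subgroupOf N₀ : Subgroup ↥N₀) : Set ↥N₀) ↔
          (y : L) ∈ Subgroup.centralizer (W : Set L) := by
        intro y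
        constructor
        · intro h
          exact Subgroup.mem_centralizer_iff.2 fun w hw =>
            congrArg Subtype.val (Subgroup.mem_centralizer_iff.1 h ⟨w, hWN hw⟩ hw)
        · intro h
          exact Subgroup.mem_centralizer_iff.2 fun w hw => Subtype.ext (Subgroup.mem_centralizer_iff.1 h w hw)
      haveI : ((N.map N₀.subtype) ⊔ C).Normal := by
        constructor
        intro n hn g
        obtain ⟨a, ha, c, hc', rfl⟩ := hdecomp g
        have haR : a ∈ Subgroup.normalizer (((N.map N₀.subtype) ⊔ C : Subgroup L) : Set L) := by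
          rw [Cfsg.Lib.Core.mem_normalizer_iff_map_conj, Subgroup.map_sup,
            Cfsg.Lib.Core.normal_iff_map_conj.mp (show C.Normal from inferInstance) a]
          congr 1
          refine Cfsg.Lib.Core.map_conj_eq_of_mem_normalizer ?_
          refine (Subgroup.normal_subgroupOf_iff_le_normalizer (Subgroup.map_subtype_le _)).1 ?_ ha
          rw [Subgroup.subgroupOf, Subgroup.comap_map_eq_self_of_injective N₀.subtype_injective]
          exact hN
        exact (Subgroup.mem_normalizer_iff.1 (mul_mem haR (Subgroup.le_normalizer (Subgroup.mem_sup_right hc'))) n).1 hn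
      have hNC : N.map N₀.subtype ⊔ C ≤ C := by
        refine (Cfsg.Lib.Local.isPReducedNormal_iff.mp hYr).2.2 _ inferInstance fun x hxm => ?_
        obtain ⟨r, ⟨r', hr', rfl⟩, c, hc', rfl⟩ := Subgroup.mem_sup_of_normal_right.1 hxm
        obtain ⟨k, hk⟩ := hx r' hr'
        refine ⟨k, ?_⟩
        have h1 : ((r' : L)) ^ p ^ k ∈ C := by
          rw [hc, Subgroup.coe_pow] at hk
          exact Subgroup.centralizer_le hYW hk
        rw [← QuotientGroup.eq_one_iff, QuotientGroup.mk_pow, QuotientGroup.mk_mul,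
          (QuotientGroup.eq_one_iff c).2 hc', mul_one, ← QuotientGroup.mk_pow, QuotientGroup.eq_one_iff]
        exact h1
      intro x hxN
      rw [hc]
      obtain ⟨k, hk⟩ := hx x hxN
      rw [hc, Subgroup.coe_pow] at hk
      obtain ⟨j, m, hm, e⟩ := Nat.exists_eq_pow_mul_and_not_dvd (orderOf_pos (x : L)).ne' p (Fact.out : p.Prime).ne_one
      have hpm : (x : L) ^ m ∈ Subgroup.centralizer (W : Set L) := by
        refine hTW (hpC (Subgroup.zpowers ((x : L) ^ m)) ?_ ?_ ?_ (Subgroup.mem_zpowers _))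
        · refine fun ⟨y, hy⟩ => ⟨j, Subtype.ext ?_⟩
          obtain ⟨i, rfl⟩ := Subgroup.mem_zpowers_iff.1 hy
          rw [SubgroupClass.coe_pow, OneMemClass.coe_one, ← zpow_natCast, ← zpow_mul, mul_comm, zpow_mul,
            zpow_natCast, ← pow_mul, mul_comm m, ← e, pow_orderOf_eq_one, one_zpow]
        · exact Subgroup.zpowers_le.2 (pow_mem (hNC (Subgroup.mem_sup_left ⟨x, hxN, rfl⟩)) _)
        · exact Subgroup.zpowers_le.2 (pow_mem x.2 _)
      have hcop : (p ^ k).Coprime m := ((Fact.out : p.Prime).coprime_iff_not_dvd.2 hm).pow_left k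
      have h2 := mul_mem (Subgroup.zpow_mem _ hk ((p ^ k).gcdA m)) (Subgroup.zpow_mem _ hpm ((p ^ k).gcdB m))
      rw [← zpow_natCast (x : L), ← zpow_natCast (x : L) m, ← zpow_mul, ← zpow_mul, ← zpow_add,
        ← Nat.gcd_eq_gcd_ab, hcop.gcd_eq_one, Nat.cast_one, zpow_one] at h2
      exact h2
    have h := hYmax _ (Cfsg.Lib.Local.isPReducedNormal_normalClosure hchar T hTN hXr)
    rw [Subgroup.map_subgroupOf_eq_of_le hWN] at h
    exact Subgroup.le_normalClosure.trans h

end Cfsg.Agent.S2803
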