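import Cfsg.Statements.S2804
import Cfsg.Agent.Lib.Local.PReduced
import Cfsg.Agent.Lib.Local.SubnormalSylow
import Cfsg.Agent.Lib.Coprime.Action
-- import your own Cfsg.Agent.* helpers here

set_option autoImplicit false
open Cfsg

namespace Cfsg.Agent.S2804

/-- Let L be a finite group and p a prime with C_L(O_p(L)) ≤ O_p(L), V a p-reduced normal subgroup of L and K a subnormal subgroup of L. Then [V, O^p(K)] is contained in K and is a p-reduced normal subgroup of K, where O^p(K) is the subgroup of K generated by its elements of order prime to p. -/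
theorem result {L : Type*} [Group L] [Finite L] {p : ℕ} [Fact p.Prime] (hchar : Subgroup.centralizer (Cfsg.pCore p L : Set L) ≤ Cfsg.pCore p L) (V : Subgroup L) (hV : Cfsg.IsPReducedNormal p V) (K : Subgroup L) (hK : K.IsSubnormal) : ⁅V, (Cfsg.pResidual p ↥K).map K.subtype⁆ ≤ K ∧ Cfsg.IsPReducedNormal p ((⁅V, (Cfsg.pResidual p ↥K).map K.subtype⁆).subgroupOf K) := by
  classical
  open scoped commutatorElement in
  have hVn := hV.1
  haveI := hVn
  have hVp : IsPGroup p ↥V := Cfsg.Lib.PGroup.isPGroup_of_isElementaryAbelian hV.2.1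
  set O := (Cfsg.pResidual p ↥K).map K.subtype with hO
  have hOK : O ≤ K := Subgroup.map_subtype_le _
  haveI := Cfsg.Lib.Fusion.pResidual_normal p ↥K
  have hOsn : O.IsSubnormal := (Subgroup.Normal.isSubnormal inferInstance).trans' hK
  have hOres : (Cfsg.pResidual p ↥O).map O.subtype = O := by
    rw [← Cfsg.Lib.Fusion.map_pResidual_equiv ((Cfsg.pResidual p ↥K).equivMapOfInjective _ K.subtype_injective),
      Cfsg.Lib.Fusion.pResidual_pResidual, Subgroup.map_top_of_surjective _ (MulEquiv.surjective _),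
      ← MonoidHom.range_eq_map, Subgroup.range_subtype]
  have hVO : V ≤ Subgroup.normalizer (O : Set L) :=
    Cfsg.Lib.Local.le_normalizer_of_pResidual hVn.isSubnormal hVp hOsn hOres
  set W := ⁅V, O⁆ with hW
  have hWO : W ≤ O := by
    rw [hW, Subgroup.commutator_comm]
    exact Subgroup.le_normalizer_iff_commutator_le_left.mp hVO
  have hWK : W ≤ K := hWO.trans hOK
  have hWV : W ≤ V := Subgroup.commutator_le_left V O
  refine ⟨hWK, Cfsg.Lib.Local.isPReducedNormal_iff.mpr ⟨?_, ?_, ?_⟩⟩
  · refine (Subgroup.normal_subgroupOf_iff_le_normalizer hWK).2 ?_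
    intro k hk
    rw [Cfsg.Lib.Core.mem_normalizer_iff_map_conj, hW, Subgroup.map_commutator]
    congr 1
    · exact Cfsg.Lib.Core.normal_iff_map_conj.mp hVn k
    · refine Cfsg.Lib.Core.map_conj_eq_of_mem_normalizer ?_
      exact (Subgroup.normal_subgroupOf_iff_le_normalizer hOK).1 (by
        rw [hO, Subgroup.subgroupOf, Subgroup.comap_map_eq_self_of_injective K.subtype_injective]
        infer_instance) hk
  · refine ⟨⟨⟨fun a b => Subtype.ext (Subtype.ext ?_)⟩⟩, fun a ha => Subtype.ext (hV.2.1.2 (a : L) (hWV ha))⟩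
    exact (congrArg Subtype.val (hV.2.1.1.1.comm ⟨(a : L), hWV a.2⟩ ⟨(b : L), hWV b.2⟩) :)
  · intro N hN hx
    set N' := N.map K.subtype with hN'
    have hN'sn : N'.IsSubnormal := hN.isSubnormal.trans' hK
    have hcomm : ∀ (x : ↥K), x ∈ Subgroup.centralizer ((W.subgroupOf K : Subgroup ↥K) : Set ↥K) ↔
        (x : L) ∈ Subgroup.centralizer (W : Set L) := by
      intro x
      constructor
      · intro h
        rw [Subgroup.mem_centralizer_iff]
        intro w hw
        exact congrArg Subtype.val (Subgroup.mem_centralizer_iff.1 h ⟨w, hWK hw⟩ hw)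
      · intro h
        rw [Subgroup.mem_centralizer_iff]
        intro w hw
        exact Subtype.ext (Subgroup.mem_centralizer_iff.1 h w hw)
    have hcopc : ∀ x : ↥K, x ∈ N → (orderOf x).Coprime p → (x : L) ∈ Subgroup.centralizer (V : Set L) := by
      intro x hxN hxc
      obtain ⟨k, hk⟩ := hx x hxN
      have hxW : (x : L) ∈ Subgroup.centralizer (W : Set L) := by
        rw [hcomm] at hk
        obtain ⟨m, hm⟩ := exists_pow_eq_self_of_coprime (x := (x : L)) (n := p ^ k)
          (by rw [Subgroup.orderOf_coe]; exact (hxc.pow_right k).symm)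
        rw [← hm, ← Subgroup.coe_pow]
        exact pow_mem hk m
      have hxO : (x : L) ∈ O := ⟨x, Cfsg.Lib.Fusion.mem_pResidual_of_coprime hxc, rfl⟩
      obtain ⟨n, hn⟩ := IsPGroup.iff_card.mp hVp
      have hcop : (Nat.card ↥(Subgroup.zpowers (x : L))).Coprime (Nat.card ↥V) := by
        rw [Nat.card_zpowers, Subgroup.orderOf_coe, hn]; exact hxc.pow_right n
      have h0 : ⁅V, Subgroup.zpowers (x : L)⁆ = ⊥ := by
        refine Cfsg.Lib.Coprime.commutator_eq_bot_of_stabilizes (by rw [Subgroup.normalizer_eq_top]; exact le_top)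
          hcop (Or.inl (Cfsg.Lib.Local.isSolvable_zpowers _)) (N := W)
          (Subgroup.commutator_mono le_rfl (Subgroup.zpowers_le.2 hxO)) ?_
        rw [Subgroup.commutator_comm, Subgroup.commutator_eq_bot_iff_le_centralizer]
        exact Subgroup.zpowers_le.2 hxW
      rw [Subgroup.commutator_comm, Subgroup.commutator_eq_bot_iff_le_centralizer] at h0
      exact h0 (Subgroup.mem_zpowers _)
    obtain ⟨-, -, hCn, hcore⟩ := hV
    set q := QuotientGroup.mk' (Subgroup.centralizer (V : Set L)) with hq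
    have hNp : IsPGroup p ↥(N'.map q) := by
      rintro ⟨_, _, ⟨x, hxN, rfl⟩, rfl⟩
      obtain ⟨j, m, hm, e⟩ := Nat.exists_eq_pow_mul_and_not_dvd (orderOf_pos x).ne' p (Fact.out : p.Prime).ne_one
      refine ⟨j, Subtype.ext ?_⟩
      rw [SubgroupClass.coe_pow, OneMemClass.coe_one, ← map_pow, hq, QuotientGroup.mk'_apply,
        QuotientGroup.eq_one_iff]
      refine hcopc (x ^ p ^ j) (pow_mem hxN _) ?_
      have hd : orderOf (x ^ p ^ j) ∣ m := orderOf_dvd_of_pow_eq_one (by rw [← pow_mul, ← e, pow_orderOf_eq_one])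
      exact Nat.Coprime.coprime_dvd_left hd (Nat.coprime_comm.1 ((Fact.out : p.Prime).coprime_iff_not_dvd.2 hm))
    have hle : N'.map q ≤ ⊥ :=
      hcore ▸ Cfsg.Lib.Core.le_pCore_of_isSubnormal (hN'sn.map (QuotientGroup.mk'_surjective _)) hNp
    intro x hxN
    rw [hcomm]
    refine Subgroup.centralizer_le hWV ?_
    rw [← QuotientGroup.eq_one_iff]
    exact Subgroup.mem_bot.1 (hle ⟨(x : L), ⟨x, hxN, rfl⟩, rfl⟩)

end Cfsg.Agent.S2804
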