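import Cfsg.Statements.S2806
import Cfsg.Agent.Lib.Local.PointStabilizer
-- import your own Cfsg.Agent.* helpers here

set_option autoImplicit false
open Cfsg

namespace Cfsg.Agent.S2806

open Subgroup Cfsg.Lib.Local

/-- Let H be a finite group of local characteristic p, T a Sylow p-subgroup, and L₁, L₂ subnormal subgroups of H generating the subgroup L. Then the point stabilizer of L with respect to T ∩ L is generated by the point stabilizers of L₁ and L₂ with respect to T ∩ L₁ and T ∩ L₂ (point stabilizer of X w.r.t. R: the subgroup generated by the p-elements of X centralizing Ω₁(Z(R))). -/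
theorem result {H : Type*} [Group H] [Finite H] {p : ℕ} [Fact p.Prime] (hH : Cfsg.IsOfLocalCharacteristic p H) (T : Sylow p H) (L₁ L₂ : Subgroup H) (h₁ : L₁.IsSubnormal) (h₂ : L₂.IsSubnormal) : Cfsg.pointStabilizer p (L₁ ⊔ L₂) ((T : Subgroup H) ⊓ (L₁ ⊔ L₂)) = Cfsg.pointStabilizer p L₁ ((T : Subgroup H) ⊓ L₁) ⊔ Cfsg.pointStabilizer p L₂ ((T : Subgroup H) ⊓ L₂) := by
  classical
  have hJsub := Cfsg.Lib.SubnormalJoin.isSubnormal_join h₁ h₂
  set L := L₁ ⊔ L₂ with hLdef
  set R := (T : Subgroup H) ⊓ L with hR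
  set Z := Cfsg.omegaOne p (R ⊓ centralizer ((R : Subgroup H) : Set H)) with hZ
  -- the generators of the smaller stabilizers
  have hpieces : ∀ Li : Subgroup H, Li.IsSubnormal → Li ≤ L →
      Cfsg.pointStabilizer p Li ((T : Subgroup H) ⊓ Li) =
        closure {x : H | x ∈ Li ⊓ centralizer (Z : Set H) ∧ ∃ k : ℕ, orderOf x = p ^ k} := by
    intro Li hLi hle
    by_cases hd : p ∣ Nat.card Li
    · have h := PointStab.inf_centralizer_eq_of_isSubnormal hH T hLi hd (Nat.card L) L le_rfl hJsub hle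
      rw [Cfsg.pointStabilizer, ← h]
    · have key : ∀ (C : Subgroup H), closure {x : H | x ∈ Li ⊓ C ∧ ∃ k : ℕ, orderOf x = p ^ k} = ⊥ := by
        intro C
        rw [closure_eq_bot_iff]
        rintro x ⟨hx, k, hk⟩
        refine Set.mem_singleton_iff.2 (orderOf_eq_one_iff.1 ?_)
        rcases Nat.eq_zero_or_pos k with rfl | hk0
        · rw [hk, pow_zero]
        · exact absurd (((dvd_pow_self p hk0.ne').trans hk.symm.dvd).trans
            (Subgroup.orderOf_dvd_natCard Li hx.1)) hd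
      rw [Cfsg.pointStabilizer, key, key]
  rw [hpieces L₁ h₁ le_sup_left, hpieces L₂ h₂ le_sup_right, Cfsg.pointStabilizer]
  refine le_antisymm ?_ (sup_le ?_ ?_)
  swap
  · exact closure_mono fun x hx => ⟨⟨(le_sup_left : L₁ ≤ L) hx.1.1, hx.1.2⟩, hx.2⟩
  swap
  · exact closure_mono fun x hx => ⟨⟨(le_sup_right : L₂ ≤ L) hx.1.1, hx.1.2⟩, hx.2⟩
  set C := L ⊓ centralizer (Z : Set H) with hC
  set P : Subgroup H → Subgroup H := fun Li =>
    closure {x : H | x ∈ Li ⊓ centralizer (Z : Set H) ∧ ∃ k : ℕ, orderOf x = p ^ k} with hP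
  have hPle : ∀ Li : Subgroup H, Li ≤ L → P Li ≤ C := fun Li hle =>
    (closure_le _).2 fun x hx => ⟨hle hx.1.1, hx.1.2⟩
  have hPsub : ∀ Li : Subgroup H, Li.IsSubnormal → Li ≤ L → ((P Li).subgroupOf C).IsSubnormal := by
    intro Li hLi hle
    set D := Li ⊓ centralizer (Z : Set H) with hD
    have hDC : D ≤ C := inf_le_inf_right _ hle
    have hDsub : (D.subgroupOf C).IsSubnormal := by
      have : D.subgroupOf C = Li.subgroupOf C := by
        ext x
        exact ⟨fun h => h.1, fun h => ⟨h, x.2.2⟩⟩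
      rw [this]
      exact hLi.subgroupOf (H := Li) (K := C)
    have hPD : P Li ≤ D := (closure_le _).2 fun x hx => hx.1
    refine Cfsg.Lib.Core.isSubnormal_of_normal_subgroupOf (comap_mono hPD) hDsub ?_
    refine (normal_subgroupOf_iff_le_normalizer (comap_mono hPD)).2 ?_
    refine Cfsg.Lib.Core.le_normalizer_iff_conj_mem.mpr fun d hd x hx => ?_
    change ((d * x * d⁻¹ : C) : H) ∈ P Li
    change (x : H) ∈ P Li at hx
    change (d : H) ∈ D at hd
    simp only [Subgroup.coe_mul, Subgroup.coe_inv]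
    have hle' : P Li ≤ (P Li).comap (MulAut.conj (d : H)).toMonoidHom := by
      refine (closure_le _).2 fun y hy => subset_closure ⟨D.mul_mem (D.mul_mem hd hy.1) (D.inv_mem hd), ?_⟩
      obtain ⟨k, hk⟩ := hy.2
      exact ⟨k, by rw [← hk]; exact (MulAut.conj (d : H)).orderOf_eq y⟩
    exact hle' hx
  have hRC : R ≤ C := le_inf inf_le_right fun r hr => mem_centralizer_iff.2 fun z hz =>
    ((PointStab.comm_of_mem_omegaCenter hz).2 r hr).symm
  have hRJ : R ≤ P L₁ ⊔ P L₂ := by
    have h := Cfsg.Lib.Local.inf_sylow_sup_of_isSubnormal T h₁ h₂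
    rw [hR, inf_comm, h]
    refine sup_le_sup ?_ ?_
    all_goals
      intro x hx
      refine subset_closure ⟨⟨hx.1, (hRC ⟨hx.2, ?_⟩).2⟩, ?_⟩
      · first
          | exact (le_sup_left : L₁ ≤ L) hx.1
          | exact (le_sup_right : L₂ ≤ L) hx.1
      · obtain ⟨k, hk⟩ := IsPGroup.iff_orderOf.1 T.isPGroup' ⟨x, hx.2⟩
        exact ⟨k, by rwa [Subgroup.orderOf_mk] at hk⟩
  set J := (P L₁).subgroupOf C ⊔ (P L₂).subgroupOf C with hJ
  have hJs : J.IsSubnormal :=
    Cfsg.Lib.SubnormalJoin.isSubnormal_join (hPsub L₁ h₁ le_sup_left) (hPsub L₂ h₂ le_sup_right)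
  have hJeq : J = (P L₁ ⊔ P L₂).subgroupOf C :=
    (subgroupOf_sup (hPle L₁ le_sup_left) (hPle L₂ le_sup_right)).symm
  have hRp : IsPGroup p (R.subgroupOf C) := (T.isPGroup'.to_le inf_le_left : IsPGroup p R).comap_subtype
  have hnd : ¬ p ∣ (R.subgroupOf C).index := fun h =>
    Cfsg.Lib.Local.not_dvd_relIndex_inf T hJsub
      (h.trans (Dvd.intro _ (relIndex_mul_relIndex R C L hRC inf_le_left)))
  have hSJ : ((hRp.toSylow hnd : Sylow p C) : Subgroup C) ≤ J := by
    rw [IsPGroup.toSylow_coe, hJeq]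
    exact comap_mono hRJ
  refine (closure_le _).2 fun x hx => ?_
  have hmem := PointStab.mem_of_isSubnormal_of_sylow hJs (hRp.toSylow hnd) hSJ
    (x := (⟨x, hx.1⟩ : C)) (by obtain ⟨k, hk⟩ := hx.2; exact ⟨k, by rw [Subgroup.orderOf_mk, hk]⟩)
  rw [hJeq] at hmem
  exact hmem

end Cfsg.Agent.S2806
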