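import Cfsg.Statements.S2807
import Cfsg.Agent.Lib.Fusion.WeakTransfer

set_option autoImplicit false
open Cfsg

namespace Cfsg.Agent.S2807

/-- Let S be a Sylow p-subgroup of the finite group G. If S ∩ G' ≠ S ∩ (N_G(S))' (derived subgroups), then the wreath product Z_p ≀ Z_p — realised as a Sylow p-subgroup of the symmetric group of degree p² — is a homomorphic image of S. -/
theorem result {G : Type*} [Group G] [Finite G] {p : ℕ} [Fact p.Prime] (S : Sylow p G) (h : (S : Subgroup G) ⊓ commutator G ≠ (S : Subgroup G) ⊓ ⁅Subgroup.normalizer ((S : Subgroup G) : Set G), Subgroup.normalizer ((S : Subgroup G) : Set G)⁆) : ∃ (P : Sylow p (Equiv.Perm (Fin (p ^ 2)))) (f : ↥(S : Subgroup G) →* ↥(P : Subgroup (Equiv.Perm (Fin (p ^ 2))))), Function.Surjective f := by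
  classical
  by_contra hcon
  apply h
  have hWC : Cfsg.IsWeaklyClosed (S : Subgroup G) (S : Subgroup G) :=
    ⟨le_rfl, fun g hg => Subgroup.eq_of_le_of_card_ge hg
      (by rw [Subgroup.card_map_of_injective (MulAut.conj g).injective])⟩
  refine Cfsg.Lib.Fusion.WeakTransfer.commutator_eq S hWC fun x hx M _ hM φ z hz hzM y => ?_
  by_contra hne
  have hR : Subgroup.zpowers x ⊔ (S : Subgroup G) = (S : Subgroup G) :=
    sup_eq_right.2 (Subgroup.zpowers_le.2 hx)
  have hp' : IsPGroup p ↥(Subgroup.zpowers x ⊔ (S : Subgroup G)) := by rw [hR]; exact S.2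
  obtain ⟨P, f, hf⟩ := Cfsg.Lib.FusionSys.Yoshida.exists_wreath_quotient hp' hM
    (b := z⁻¹) (fun hh => hzM (inv_inv z ▸ M.inv_mem hh)) φ y (by
      convert hne using 6
      rw [inv_pow])
  exact hcon ⟨P, f.comp (MulEquiv.subgroupCongr hR.symm).toMonoidHom,
    hf.comp (MulEquiv.subgroupCongr hR.symm).surjective⟩

end Cfsg.Agent.S2807
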