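import Cfsg.Statements.S2810
import Cfsg.Agent.Lib.Local.Basic
-- import your own Cfsg.Agent.* helpers here

set_option autoImplicit false
open Cfsg

namespace Cfsg.Agent.S2810

/-- Let H be a finite group of characteristic p and L a subgroup of H centralizing every factor of some H-invariant chain 1 = A₀ ≤ A₁ ≤ … ≤ Aₙ = O_p(H) of normal subgroups (that is, [A_{i+1}, L] ≤ Aᵢ for each i). Then L ≤ O_p(H). -/
theorem result {H : Type*} [Group H] [Finite H] {p : ℕ} [Fact p.Prime] (hchar : Subgroup.centralizer (Cfsg.pCore p H : Set H) ≤ Cfsg.pCore p H) (L : Subgroup H) (n : ℕ) (A : Fin (n + 1) → Subgroup H) (h0 : A 0 = ⊥) (hn : A (Fin.last n) = Cfsg.pCore p H) (hmono : Monotone A) (hnorm : ∀ i, (A i).Normal) (hcent : ∀ i : Fin n, ⁅A i.succ, L⁆ ≤ A i.castSucc) : L ≤ Cfsg.pCore p H := by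
  have hnor : ∀ K : Subgroup H, ∀ i, K ≤ Subgroup.normalizer ((A i : Subgroup H) : Set H) := fun K i => by
    have := hnorm i
    exact Cfsg.Lib.Local.le_normalizer_normal K
  set M := Subgroup.normalClosure (L : Set H) with hM
  have hMc : ∀ i : Fin n, ⁅A i.succ, M⁆ ≤ A i.castSucc := by
    intro i
    have := hnorm i.castSucc
    have := hnorm i.succ
    have hSn : (Cfsg.Lib.Local.chainStab (A i.succ) (A i.castSucc)).Normal := by
      rw [← Subgroup.normalizer_eq_top_iff, eq_top_iff]
      exact le_trans (le_inf (hnor ⊤ i.succ) (hnor ⊤ i.castSucc))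
        (Cfsg.Lib.Local.normalizer_inf_le_normalizer_chainStab _ _)
    have hL : L ≤ Cfsg.Lib.Local.chainStab (A i.succ) (A i.castSucc) :=
      Cfsg.Lib.Local.le_chainStab_iff.mpr ⟨hnor L _, hcent i⟩
    exact (Cfsg.Lib.Local.le_chainStab_iff.mp (Subgroup.normalClosure_le_normal (N := Cfsg.Lib.Local.chainStab (A i.succ) (A i.castSucc)) hL)).2
  have key : ∀ k : ℕ, (hk : k ≤ n) → Cfsg.iterCommutator (Cfsg.pCore p H) M k ≤ A ⟨n - k, by omega⟩ := by
    intro k
    induction k with
    | zero => intro _; exact hn.ge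
    | succ k ih =>
      intro hk
      refine (Subgroup.commutator_mono (ih (by omega)) le_rfl).trans ?_
      have h := hMc ⟨n - (k + 1), by omega⟩
      have e : (⟨n - k, by omega⟩ : Fin (n + 1)) = (⟨n - (k + 1), by omega⟩ : Fin n).succ := by
        ext; simp; omega
      rw [e]
      exact h
  have hb : Cfsg.iterCommutator (Cfsg.pCore p H) M n = ⊥ := by
    refine eq_bot_iff.mpr ((key n le_rfl).trans (le_of_eq ?_))
    rw [← h0]
    exact congrArg A (Fin.ext (by simp))
  have hp := Cfsg.Lib.Local.isPGroup_of_iterCommutator (Cfsg.Lib.Core.pCore_isPGroup p H)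
    (inf_le_right.trans hchar) (Cfsg.Lib.Local.le_normalizer_normal M) hb
  exact Subgroup.le_normalClosure.trans (Cfsg.Lib.Core.le_pCore' Subgroup.normalClosure_normal hp)

end Cfsg.Agent.S2810
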