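import Cfsg.Statements.S2813
import Cfsg.Agent.Lib.Local.Basic
-- import your own Cfsg.Agent.* helpers here

set_option autoImplicit false
open Cfsg

namespace Cfsg.Agent.S2813

/-- Let K be a subgroup of the finite group H with O_p(K) = 1 and Y a p-subgroup of N_H(K) with [K, Y, Y] = 1. Then [K, Y] = 1. -/
theorem result {H : Type*} [Group H] [Finite H] {p : ℕ} [Fact p.Prime] (K : Subgroup H) (hO : Cfsg.pCore p ↥K = ⊥) (Y : Subgroup H) (hY : IsPGroup p ↥Y) (hYK : Y ≤ Subgroup.normalizer (K : Set H)) (hq : ⁅⁅K, Y⁆, Y⁆ = ⊥) : ⁅K, Y⁆ = ⊥ := by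
  open scoped commutatorElement in
  set L := ⁅K, Y⁆ with hLdef
  have hYc : Y ≤ Subgroup.centralizer (L : Set H) :=
    Subgroup.le_centralizer_iff.mp (Subgroup.commutator_eq_bot_iff_le_centralizer.mp hq)
  have hKn : K ≤ Subgroup.normalizer (Subgroup.centralizer (L : Set H) : Set H) :=
    (Subgroup.normalizer_commutator_ge_left K Y).trans
      (Cfsg.Lib.Local.normalizer_le_normalizer_centralizer L)
  have hab : L ≤ Subgroup.centralizer (L : Set H) := by
    rw [hLdef, Cfsg.Lib.Local.commutator_le_iff_conj]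
    intro k hk y hy
    exact mul_mem ((Subgroup.mem_normalizer_iff.mp (hKn hk) y).mp (hYc hy)) (inv_mem (hYc hy))
  have hLK : L ≤ K := Cfsg.Lib.Coprime.commutator_le_of_le_normalizer hYK
  have hcomm : ∀ a ∈ L, ∀ b ∈ L, Commute a b := fun a ha b hb =>
    Subgroup.mem_centralizer_iff.mp (hab hb) a ha
  have hgen : ∀ x ∈ L, ∃ n : ℕ, x ^ p ^ n = 1 := by
    intro x hx
    refine Subgroup.closure_induction (p := fun x _ => ∃ n : ℕ, x ^ p ^ n = 1) ?_ ⟨0, one_pow _⟩ ?_ ?_ hx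
    · rintro z ⟨k, hk, y, hy, rfl⟩
      obtain ⟨n, hn⟩ := hY ⟨y, hy⟩
      refine ⟨n, ?_⟩
      have hpow : ∀ j : ℕ, (k * y * k⁻¹ * y⁻¹) ^ j = k * y ^ j * k⁻¹ * (y ^ j)⁻¹ := by
        intro j
        induction j with
        | zero => simp
        | succ j ih =>
          have hmem : k * y ^ j * k⁻¹ * (y ^ j)⁻¹ ∈ L :=
            Subgroup.commutator_mem_commutator hk (Y.pow_mem hy j)
          have hc : y * (k * y ^ j * k⁻¹ * (y ^ j)⁻¹) = (k * y ^ j * k⁻¹ * (y ^ j)⁻¹) * y :=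
            (Subgroup.mem_centralizer_iff.mp (hYc hy) _ hmem).symm
          rw [pow_succ', ih, pow_succ']
          calc k * y * k⁻¹ * y⁻¹ * (k * y ^ j * k⁻¹ * (y ^ j)⁻¹)
              = k * y * k⁻¹ * y⁻¹ * (y * (k * y ^ j * k⁻¹ * (y ^ j)⁻¹) * y⁻¹) := by
                rw [hc, mul_inv_cancel_right]
            _ = k * (y * y ^ j) * k⁻¹ * (y * y ^ j)⁻¹ := by group
      have hy1 : y ^ p ^ n = 1 := congrArg Subtype.val hn
      simp only [commutatorElement_def]
      rw [hpow, hy1]; simp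
    · rintro a b ha hb ⟨m, hm⟩ ⟨n, hn⟩
      refine ⟨m + n, ?_⟩
      rw [(hcomm a ha b hb).mul_pow]
      nth_rewrite 1 [pow_add]
      rw [pow_mul, hm, one_pow, one_mul, pow_add, mul_comm, pow_mul, hn, one_pow]
    · rintro a _ ⟨m, hm⟩
      exact ⟨m, by rw [inv_pow, hm, inv_one]⟩
  have hp : IsPGroup p L := fun x => by
    obtain ⟨n, hn⟩ := hgen x x.2
    exact ⟨n, Subtype.ext (by simpa using hn)⟩
  have := Cfsg.Lib.Local.le_pCoreOf hLK (Subgroup.normalizer_commutator_ge_left K Y) hp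
  rw [Cfsg.pCoreOf, hO, Subgroup.map_bot] at this
  exact le_bot_iff.mp this

end Cfsg.Agent.S2813
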