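import Cfsg.Statements.S2815
import Cfsg.Agent.Lib.Local.FittingStarAction
import Cfsg.Agent.Lib.Fusion.Basic
import Cfsg.Agent.Lib.Local.Basic
-- import your own Cfsg.Agent.* helpers here

set_option autoImplicit false
open Cfsg

namespace Cfsg.Agent.S2815

/-- Let H be a finite group and p a prime dividing its order with O_p(H) = 1, and suppose K = O^p(H) (generated by the elements of order prime to p) is quasisimple. Then K = F*(H); for every nontrivial p-subgroup Y of H, K = [K, Y] and K lies in the subgroup generated by the K-conjugates of Y; every normal subgroup of H not containing K has order prime to p; and H is p-irreducible. -/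
theorem result {H : Type*} [Group H] [Finite H] {p : ℕ} [Fact p.Prime] (hp : p ∣ Nat.card H) (hO : Cfsg.pCore p H = ⊥) (hq : Cfsg.IsQuasisimple ↥(Cfsg.pResidual p H)) : Cfsg.pResidual p H = Cfsg.generalizedFittingSubgroup H ∧ (∀ Y : Subgroup H, IsPGroup p ↥Y → Y ≠ ⊥ → ⁅Cfsg.pResidual p H, Y⁆ = Cfsg.pResidual p H ∧ Cfsg.pResidual p H ≤ ⨆ k : ↥(Cfsg.pResidual p H), Y.map (MulAut.conj (k : H)).toMonoidHom) ∧ (∀ C : Subgroup H, C.Normal → ¬ Cfsg.pResidual p H ≤ C → (Nat.card ↥C).Coprime p) ∧ Cfsg.IsPIrreducible p H := by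
  classical
  open scoped commutatorElement in
  haveI := Cfsg.Lib.Fusion.pResidual_normal p H
  set K := Cfsg.pResidual p H with hKdef
  set S := Cfsg.generalizedFittingSubgroup H with hSdef
  have hKc : Cfsg.IsComponent K := ⟨Subgroup.Normal.isSubnormal inferInstance, hq⟩
  have hperf : ⁅K, K⁆ = K := Cfsg.Lib.Core.IsComponent.commutator_eq hKc
  have hFit : ¬ p ∣ Nat.card ↥(Cfsg.fittingSubgroup H) :=
    Cfsg.Lib.Local.FStarAction.not_dvd_card_fitting hO
  have hKS : K = S := by
    refine le_antisymm ((Cfsg.Lib.Core.le_layer hKc).trans Cfsg.Lib.Core.layer_le_generalizedFitting) ?_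
    refine sup_le (sSup_le fun L hL => ?_) ?_
    · intro l hl
      have h1 : (QuotientGroup.mk' K).comp L.subtype = 1 := by
        have hq' : IsPGroup p (H ⧸ K) := Cfsg.Lib.Fusion.isPGroup_quotient_pResidual
        haveI := hq'.isNilpotent
        by_contra hne
        haveI : Group.IsSolvable ↥((QuotientGroup.mk' K).comp L.subtype).range := inferInstance
        haveI := hL.2.1
        haveI := Group.IsPerfect.ofSurjective (f := ((QuotientGroup.mk' K).comp L.subtype).rangeRestrict)
          (MonoidHom.rangeRestrict_surjective _)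
        haveI : Nontrivial ↥((QuotientGroup.mk' K).comp L.subtype).range := by
          rw [Subgroup.nontrivial_iff_ne_bot]
          exact fun h => hne (MonoidHom.range_eq_bot_iff.1 h)
        exact Group.IsPerfect.not_isSolvable ↥((QuotientGroup.mk' K).comp L.subtype).range inferInstance
      exact (QuotientGroup.eq_one_iff _).1 (DFunLike.congr_fun h1 ⟨l, hl⟩)
    · intro x hx
      refine Cfsg.Lib.Fusion.mem_pResidual_of_coprime (Nat.Coprime.symm ?_)
      rw [(Fact.out : p.Prime).coprime_iff_not_dvd]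
      intro hd
      exact hFit (hd.trans ((Subgroup.orderOf_mk x hx).symm.dvd.trans (orderOf_dvd_natCard _)))
  have hcent : ∀ C : Subgroup H, ⁅C, K⁆ ≤ K ⊓ Subgroup.centralizer (K : Set H) → C ≤ K ⊓ Subgroup.centralizer (K : Set H) := by
    intro C hC
    have h1 : ⁅⁅C, K⁆, K⁆ = ⊥ := by
      rw [Subgroup.commutator_eq_bot_iff_le_centralizer]
      exact hC.trans inf_le_right
    have h2 := Cfsg.Lib.Core.commutator_eq_bot_of_perfect hperf h1
    rw [Subgroup.commutator_eq_bot_iff_le_centralizer] at h2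
    exact le_inf ((hKS ▸ h2 : C ≤ Subgroup.centralizer (S : Set H)).trans
      (Cfsg.Lib.Core.centralizer_generalizedFitting_le.trans hKS.ge)) h2
  have hZp : (Nat.card ↥(K ⊓ Subgroup.centralizer (K : Set H))).Coprime p := by
    rw [Nat.coprime_comm, (Fact.out : p.Prime).coprime_iff_not_dvd]
    intro hd
    refine hFit (hd.trans (Subgroup.card_dvd_of_le ?_))
    haveI : IsMulCommutative ↥(K ⊓ Subgroup.centralizer (K : Set H)) :=
      ⟨⟨fun a b => Subtype.ext (Subgroup.mem_centralizer_iff.1 b.2.2 a a.2.1)⟩⟩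
    exact Cfsg.Lib.Core.le_fittingSubgroup' inferInstance (Cfsg.Lib.Core.isNilpotent_of_isMulCommutative _)
  have hdich : ∀ N : Subgroup H, N.Normal → ¬ K ≤ N → (Nat.card ↥N).Coprime p := by
    intro C hC hKC
    refine hZp.coprime_dvd_left (Subgroup.card_dvd_of_le (hcent C ?_))
    have hle : ⁅C, K⁆ ≤ C ⊓ K := le_inf (Subgroup.commutator_le_left C K) (Subgroup.commutator_le_right C K)
    rcases Cfsg.Lib.Core.quasisimple_normal hq (N := C.subgroupOf K) with h | h
    · refine hle.trans fun x hx => ⟨hx.2, Subgroup.mem_centralizer_iff.2 fun y hy => ?_⟩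
      exact congrArg Subtype.val (Subgroup.mem_center_iff.1 (h (show (⟨x, hx.2⟩ : ↥K) ∈ C.subgroupOf K from hx.1)) ⟨y, hy⟩)
    · exact absurd (Subgroup.subgroupOf_eq_top.1 h) hKC
  refine ⟨hKS, fun Y hY hY1 => ?_, hdich, ?_, fun N hN hNc => ?_⟩
  · have hn : (⁅K, Y⁆.subgroupOf K).Normal :=
      (Subgroup.normal_subgroupOf_iff_le_normalizer (Subgroup.commutator_le_left K Y)).2
        (Subgroup.normalizer_commutator_ge_left K Y)
    have heq : ⁅K, Y⁆ = K := by
      rcases Cfsg.Lib.Core.quasisimple_normal hq (N := ⁅K, Y⁆.subgroupOf K) with h | h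
      · exfalso
        have h1 := hcent Y (by
          rw [Subgroup.commutator_comm]
          refine le_inf (Subgroup.commutator_le_left K Y) fun x hx => Subgroup.mem_centralizer_iff.2 fun y hy => ?_
          exact congrArg Subtype.val (Subgroup.mem_center_iff.1 (h (show (⟨x, Subgroup.commutator_le_left K Y hx⟩ : ↥K) ∈ ⁅K, Y⁆.subgroupOf K from hx)) ⟨y, hy⟩))
        obtain ⟨n, hn⟩ := IsPGroup.iff_card.mp hY
        have h2 : Nat.card ↥Y = 1 := Nat.eq_one_of_dvd_coprimes (hZp.pow_right n)
          (Subgroup.card_dvd_of_le h1) hn.dvd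
        exact hY1 (Subgroup.card_eq_one.1 h2)
      · exact le_antisymm (Subgroup.commutator_le_left K Y) (Subgroup.subgroupOf_eq_top.1 h)
    refine ⟨heq, ?_⟩
    conv_lhs => rw [← heq]
    rw [Subgroup.commutator_le]
    intro k hk y hy
    rw [commutatorElement_def]
    refine mul_mem (Subgroup.mem_iSup_of_mem (⟨k, hk⟩ : ↥K) ⟨y, hy, rfl⟩) (inv_mem ?_)
    exact Subgroup.mem_iSup_of_mem (1 : ↥K) ⟨y, hy, by simp⟩
  · intro hcl
    obtain ⟨P⟩ : Nonempty (Sylow p H) := inferInstance
    have h1 : (P : Subgroup H) ≤ ⊥ := hO ▸ Cfsg.Lib.Core.le_pCore' (hcl P) P.2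
    apply P.not_dvd_index
    rwa [le_bot_iff.1 h1, Subgroup.index_bot]
  · by_contra hle
    refine hNc fun P => ?_
    obtain ⟨n, hn⟩ := IsPGroup.iff_card.mp P.2
    have h1 : Nat.card ↥(P : Subgroup ↥N) = 1 := Nat.eq_one_of_dvd_coprimes ((hdich N hN hle).pow_right n)
      (Subgroup.card_subgroup_dvd_card _) hn.dvd
    rw [Subgroup.card_eq_one.1 h1]
    infer_instance

end Cfsg.Agent.S2815
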