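import Cfsg.Statements.S2816
import Cfsg.Agent.Lib.Local.FittingStarAction
-- import your own Cfsg.Agent.* helpers here

set_option autoImplicit false
open Cfsg

namespace Cfsg.Agent.S2816

/-- Let H be a finite group and p a prime with O_p(H) = 1, and Y a p-subgroup of H. Then for every subnormal subgroup K of H containing Y, [F*(H), Y] = [F*(K), Y] = [F*(K), Y, Y]; and if Y₀ ≤ Y with [F*(H), Y, Y₀] = 1 then Y₀ = 1 (in particular [F*(H), Y] = 1 forces Y = 1). -/
theorem result {H : Type*} [Group H] [Finite H] {p : ℕ} [Fact p.Prime] (hO : Cfsg.pCore p H = ⊥) (Y : Subgroup H) (hY : IsPGroup p ↥Y) : (∀ K : Subgroup H, K.IsSubnormal → Y ≤ K → ⁅Cfsg.generalizedFittingSubgroup H, Y⁆ = ⁅(Cfsg.generalizedFittingSubgroup ↥K).map K.subtype, Y⁆ ∧ ⁅(Cfsg.generalizedFittingSubgroup ↥K).map K.subtype, Y⁆ = ⁅⁅(Cfsg.generalizedFittingSubgroup ↥K).map K.subtype, Y⁆, Y⁆) ∧ (∀ Y₀ : Subgroup H, Y₀ ≤ Y → ⁅⁅Cfsg.generalizedFittingSubgroup H, Y⁆,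 Y₀⁆ = ⊥ → Y₀ = ⊥) := by
  classical
  open Cfsg.Lib.Local.FStarAction in
  set F := Cfsg.generalizedFittingSubgroup H with hFdef
  have hFn : ∀ A : Subgroup H, A ≤ Subgroup.normalizer (F : Set H) := fun A => by
    rw [Subgroup.normalizer_eq_top]; exact le_top
  have hfull : Full p ↥F := full_of_isSubnormal hO (Subgroup.Normal.isSubnormal inferInstance) le_rfl
  have hFY := commutator_commutator_eq hfull hY (hFn Y)
  refine ⟨fun K hK hYK => ?_, fun Y₀ hY₀ h0 => ?_⟩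
  · have hmap := Cfsg.Lib.Core.generalizedFitting_map_eq_inf_of_isSubnormal hK
    rw [hmap, ← hFdef]
    have h1 : ⁅F, Y⁆ ≤ F ⊓ K :=
      le_inf (Subgroup.le_normalizer_iff_commutator_le_left.mp (hFn Y)) (le_of_commutator_eq hFY hK hYK)
    have h2 : ⁅F, Y⁆ = ⁅F ⊓ K, Y⁆ :=
      le_antisymm (hFY.symm.le.trans (Subgroup.commutator_mono h1 le_rfl))
        (Subgroup.commutator_mono inf_le_left le_rfl)
    refine ⟨h2, ?_⟩
    rw [← h2, hFY]
  · have hY₀p : IsPGroup p ↥Y₀ := hY.to_le hY₀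
    have h3 : ⁅F, Y₀⁆ = ⊥ := by
      rw [← commutator_commutator_eq hfull hY₀p (hFn Y₀), eq_bot_iff]
      exact (Subgroup.commutator_mono (Subgroup.commutator_mono le_rfl hY₀) le_rfl).trans h0.le
    have hc : Y₀ ≤ Subgroup.centralizer (F : Set H) := by
      rw [← Subgroup.commutator_eq_bot_iff_le_centralizer, Subgroup.commutator_comm, h3]
    have hZ : Y₀ ≤ F ⊓ Subgroup.centralizer (F : Set H) :=
      le_inf (hc.trans Cfsg.Lib.Core.centralizer_generalizedFitting_le) hc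
    haveI : IsMulCommutative ↥(F ⊓ Subgroup.centralizer (F : Set H)) :=
      ⟨⟨fun a b => Subtype.ext (Subgroup.mem_centralizer_iff.1 b.2.2 a a.2.1)⟩⟩
    have hsn : Y₀.IsSubnormal := by
      refine Subgroup.IsSubnormal.step Y₀ _ hZ (Subgroup.Normal.isSubnormal inferInstance) ?_
      exact ⟨fun y hy g => by rwa [mul_comm' g y, mul_inv_cancel_right]⟩
    exact le_bot_iff.1 (hO ▸ Cfsg.Lib.Core.le_pCore_of_isSubnormal hsn hY₀p)

end Cfsg.Agent.S2816
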