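import Cfsg.Statements.S2817
import Cfsg.Agent.Lib.Local.FittingStarAction
import Mathlib.GroupTheory.Frattini
-- import your own Cfsg.Agent.* helpers here

set_option autoImplicit false
open Cfsg

namespace Cfsg.Agent.S2817

/-- Let H be a finite group and p a prime with O_p(H) = 1, Q a p-subgroup of H, L = [F*(H), Q], and F the largest normal subgroup of F*(H) centralized by Q (a normal subgroup of F*(H) centralized by Q and containing every such). Then F = C_{F*(H)}(LQ); L = [L, Q]; L ∩ F ≤ Φ(L); every p-subgroup B of N_H(Q) with [L, B] ≤ F satisfies [L, B] = 1; and C_H(FL) has order prime to p. -/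
theorem result {H : Type*} [Group H] [Finite H] {p : ℕ} [Fact p.Prime] (hO : Cfsg.pCore p H = ⊥) (Q : Subgroup H) (hQ : IsPGroup p ↥Q) (L : Subgroup H) (hL : L = ⁅Cfsg.generalizedFittingSubgroup H, Q⁆) (F : Subgroup H) (hF : F ≤ Cfsg.generalizedFittingSubgroup H ∧ Cfsg.generalizedFittingSubgroup H ≤ Subgroup.normalizer (F : Set H) ∧ Q ≤ Subgroup.centralizer (F : Set H) ∧ ∀ N : Subgroup H, N ≤ Cfsg.generalizedFittingSubgroup H → Cfsg.generalizedFittingSubgroup H ≤ Subgroup.normalizer (N : Set H) → Q ≤ Subgroup.centralizer (N : Set H) → N ≤ F) : F = Cfsg.generalizedFittingSubgroup H ⊓ Subgroup.centralizer ((L ⊔ Q : Subgroup H) : Set H) ∧ ⁅L, Q⁆ = L ∧ L ⊓ F ≤ (frattini ↥L).map L.subtype ∧ (∀ B : Subgroup H, IsPGroup p ↥B → B ≤ Subgroup.normalizer (Q : Set H) → ⁅L, B⁆ ≤ F → ⁅L, B⁆ = ⊥) ∧ (Nat.card ↥(Subgroup.centralizer ((F ⊔ L : Subgroup H) : Set H))).Coprime p := by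
  classical
  open Cfsg.Lib.Local.FStarAction in
  open scoped commutatorElement in
  obtain ⟨hFle, hFnorm, hFQ, hFmax⟩ := hF
  set S := Cfsg.generalizedFittingSubgroup H with hSdef
  have hSn : ∀ A : Subgroup H, A ≤ Subgroup.normalizer (S : Set H) := fun A => by
    rw [Subgroup.normalizer_eq_top]; exact le_top
  have hfull : Full p ↥S := full_of_isSubnormal hO (Subgroup.Normal.isSubnormal inferInstance) le_rfl
  have hLS : L ≤ S := hL ▸ Subgroup.le_normalizer_iff_commutator_le_left.mp (hSn Q)
  have hSL : S ≤ Subgroup.normalizer (L : Set H) := hL ▸ Subgroup.normalizer_commutator_ge_left S Q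
  have hQL : Q ≤ Subgroup.normalizer (L : Set H) := hL ▸ Subgroup.normalizer_commutator_ge_right S Q
  have hLQ : ⁅L, Q⁆ = L := by rw [hL]; exact commutator_commutator_eq hfull hQ (hSn Q)
  have hFL : ⁅F, L⁆ = ⊥ := by
    have h1 : ⁅⁅Q, F⁆, S⁆ = ⊥ := by
      rw [Subgroup.commutator_eq_bot_iff_le_centralizer.2 hFQ, Subgroup.commutator_bot_left]
    have h2 : ⁅⁅F, S⁆, Q⁆ = ⊥ := by
      rw [eq_bot_iff]
      refine (Subgroup.commutator_mono (Subgroup.le_normalizer_iff_commutator_le_left.mp hFnorm) le_rfl).trans ?_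
      rw [Subgroup.commutator_comm, Subgroup.commutator_eq_bot_iff_le_centralizer.2 hFQ]
    have h3 := Subgroup.commutator_commutator_eq_bot_of_rotate (H₁ := S) (H₂ := Q) (H₃ := F) h1 h2
    rwa [← hL, Subgroup.commutator_comm] at h3
  have hFeq : F = S ⊓ Subgroup.centralizer ((L ⊔ Q : Subgroup H) : Set H) := by
    refine le_antisymm (le_inf hFle ?_) (hFmax _ inf_le_left ?_ ?_)
    · rw [← Subgroup.commutator_eq_bot_iff_le_centralizer, Subgroup.commutator_comm]
      refine Cfsg.Lib.Core.commutator_sup_left_eq_bot ?_ ?_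
      · rw [Subgroup.commutator_comm, hFL]
      · exact Subgroup.commutator_eq_bot_iff_le_centralizer.2 hFQ
    · set W := S ⊓ Subgroup.centralizer ((L ⊔ Q : Subgroup H) : Set H) with hW
      have hdec := sup_centralizer_eq hfull hQ (hSn Q)
      rw [← hL] at hdec
      conv_lhs => rw [← hdec]
      refine sup_le ((?_ : L ≤ Subgroup.centralizer (W : Set H)).trans (Subgroup.centralizer_le_normalizer _)) ?_
      · intro l hl
        exact Subgroup.mem_centralizer_iff.2 fun w hw =>
          (Subgroup.mem_centralizer_iff.1 hw.2 l (Subgroup.mem_sup_left hl)).symm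
      · intro c hc
        have hLQc : c ∈ Subgroup.normalizer ((L ⊔ Q : Subgroup H) : Set H) :=
          Cfsg.Lib.Core.mem_normalizer_iff_map_conj.2 (by
            rw [Subgroup.map_sup, Cfsg.Lib.Core.map_conj_eq_of_mem_normalizer (hSL hc.1),
              Cfsg.Lib.Core.map_conj_eq_of_mem_normalizer (Subgroup.centralizer_le_normalizer _ hc.2)])
        exact Cfsg.Lib.Local.FStarAction.mem_normalizer_inf' (hSn ⊤ (Subgroup.mem_top c))
          (Cfsg.Lib.Local.FStarAction.normalizer_le_centralizer' _ hLQc)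
    · intro q hq
      exact Subgroup.mem_centralizer_iff.2 fun w hw =>
        (Subgroup.mem_centralizer_iff.1 hw.2 q (Subgroup.mem_sup_right hq)).symm
  have hLfull : Full p ↥L := by
    refine full_of_isSubnormal hO (Subgroup.IsSubnormal.step L S hLS (Subgroup.Normal.isSubnormal inferInstance) ?_) hLS
    exact (Subgroup.normal_subgroupOf_iff_le_normalizer hLS).2 hSL
  have habp : ¬ p ∣ Nat.card (Abelianization ↥L) := by
    intro hd
    obtain ⟨x, hx⟩ := exists_prime_orderOf_dvd_card' (G := Abelianization ↥L) p hd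
    have hsurj : Function.Surjective ((Abelianization.of (G := ↥L)).comp (Cfsg.fittingSubgroup ↥L).subtype) := by
      intro y
      obtain ⟨l, rfl⟩ := QuotientGroup.mk_surjective (s := commutator ↥L) y
      obtain ⟨e, he, f, hf, rfl⟩ := Cfsg.Lib.Core.mem_generalizedFitting.1
        (show l ∈ Cfsg.generalizedFittingSubgroup ↥L by rw [hLfull.1]; exact Subgroup.mem_top l)
      refine ⟨⟨f, hf⟩, ?_⟩
      have hek : Abelianization.of e = 1 := by
        rw [← MonoidHom.mem_ker, Abelianization.ker_of]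
        rw [← Cfsg.Lib.Core.layer_perfect] at he
        exact Subgroup.commutator_mono le_top le_top he
      change Abelianization.of f = Abelianization.of (e * f)
      rw [map_mul, hek, one_mul]
    exact not_dvd_card_fitting hLfull.2 (hd.trans (Subgroup.card_dvd_of_surjective _ hsurj))
  have hZ : ∀ z : ↥L, (z : H) ∈ Subgroup.centralizer (Q : Set H) → z ∈ commutator ↥L := by
    intro z hz
    haveI : Fintype ↥Q := Fintype.ofFinite _
    set c : ↥Q → (↥L →* ↥L) := fun q =>
      { toFun := fun x => ⟨(q : H) * x * (q : H)⁻¹, (Subgroup.mem_normalizer_iff.1 (hQL q.2) _).1 x.2⟩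
        map_one' := Subtype.ext (by simp)
        map_mul' := fun x y => Subtype.ext (by simp [mul_assoc]) } with hc
    set τ : ↥L →* Abelianization ↥L := ∏ q : ↥Q, Abelianization.of.comp (c q) with hτ
    have hτinv : ∀ (x : ↥L) (q₀ : ↥Q), τ (c q₀ x) = τ x := by
      intro x q₀
      simp only [hτ, MonoidHom.finsetProd_apply, MonoidHom.comp_apply]
      refine Fintype.prod_equiv (Equiv.mulRight q₀) _ _ fun q => ?_
      congr 1
      apply Subtype.ext
      simp [hc, mul_assoc]
    have hτ0 : ∀ x : ↥L, τ x = 1 := by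
      intro x
      have hle : L ≤ τ.ker.map L.subtype := by
        conv_lhs => rw [← hLQ]
        rw [Subgroup.commutator_le]
        intro l hl q hq
        refine ⟨⟨⁅l, q⁆, hLQ.le (Subgroup.commutator_mem_commutator hl hq)⟩, ?_, rfl⟩
        rw [SetLike.mem_coe, MonoidHom.mem_ker]
        have e : (⟨⁅l, q⁆, hLQ.le (Subgroup.commutator_mem_commutator hl hq)⟩ : ↥L) =
            ⟨l, hl⟩ * c ⟨q, hq⟩ (⟨l, hl⟩⁻¹) := Subtype.ext (by simp [hc, commutatorElement_def, mul_assoc])
        rw [e, map_mul, hτinv, map_inv, mul_inv_cancel]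
      obtain ⟨x', hx', e⟩ := hle x.2
      rw [← Subtype.ext e]
      exact hx'
    have h1 := hτ0 z
    simp only [hτ, MonoidHom.finsetProd_apply, MonoidHom.comp_apply] at h1
    have hfix : ∀ q : ↥Q, c q z = z := fun q => Subtype.ext (by
      change (q : H) * (z : H) * (q : H)⁻¹ = (z : H)
      rw [Subgroup.mem_centralizer_iff.1 hz q q.2, mul_inv_cancel_right])
    simp only [hfix, Finset.prod_const, Finset.card_univ] at h1
    rw [← Nat.card_eq_fintype_card] at h1
    obtain ⟨n, hn⟩ := IsPGroup.iff_card.mp hQ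
    rw [hn] at h1
    rw [← Abelianization.ker_of, MonoidHom.mem_ker]
    have h2 := orderOf_dvd_of_pow_eq_one h1
    have h3 : orderOf (Abelianization.of z) = 1 := Nat.eq_one_of_dvd_coprimes
      (((Fact.out : p.Prime).coprime_iff_not_dvd.2 habp).pow_left n) h2 (orderOf_dvd_natCard _)
    exact orderOf_eq_one_iff.1 h3
  refine ⟨hFeq, hLQ, ?_, ?_, ?_⟩
  · intro z hz
    refine ⟨⟨z, hz.1⟩, ?_, rfl⟩
    have hzc : (⟨z, hz.1⟩ : ↥L) ∈ commutator ↥L := hZ _ (by
      rw [Subgroup.mem_centralizer_iff]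
      intro q hq
      exact (Subgroup.mem_centralizer_iff.1 (hFQ hq) z hz.2).symm)
    have hzZ : (⟨z, hz.1⟩ : ↥L) ∈ Subgroup.center ↥L := Subgroup.mem_center_iff.2 fun y => Subtype.ext
      (Cfsg.Lib.Core.commutator_eq_bot_iff_forall.1 hFL z hz.2 y y.2).symm
    refine Cfsg.Lib.Local.FStarAction.mem_frattini_of_center hzc hzZ
  · intro B hB hBQ hBF
    have hBL : B ≤ Subgroup.normalizer (L : Set H) := by
      intro b hb
      rw [Cfsg.Lib.Core.mem_normalizer_iff_map_conj, hL, Subgroup.map_commutator,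
        Cfsg.Lib.Core.map_conj_eq_of_mem_normalizer (hSn B hb),
        Cfsg.Lib.Core.map_conj_eq_of_mem_normalizer (hBQ hb)]
    have hLB : ⁅L, B⁆ ≤ L ⊓ F := le_inf (Subgroup.le_normalizer_iff_commutator_le_left.mp hBL) hBF
    have hLLB : ⁅⁅L, L⁆, B⁆ = ⊥ := by
      refine Subgroup.commutator_commutator_eq_bot_of_rotate (H₁ := L) (H₂ := L) (H₃ := B) ?_ ?_
      · rw [eq_bot_iff, ← hFL]; exact Subgroup.commutator_mono hBF le_rfl
      · rw [eq_bot_iff, ← hFL]
        exact Subgroup.commutator_mono ((Subgroup.commutator_comm B L).le.trans hBF) le_rfl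
    rw [Cfsg.Lib.Core.commutator_eq_bot_iff_forall]
    intro x hx b hb
    rw [← commutatorElement_eq_one_iff_mul_comm]
    obtain ⟨n, hn⟩ := IsPGroup.iff_orderOf.1 hB ⟨b, hb⟩
    rw [Subgroup.orderOf_mk] at hn
    exact Cfsg.Lib.Local.FStarAction.commutator_eq_one_of_central (p := p) (F := F) hFL hLLB hLB habp hx hb hn
      (fun z hz => hZ z (by
        rw [Subgroup.mem_centralizer_iff]
        intro q hq
        exact (Subgroup.mem_centralizer_iff.1 (hFQ hq) (z : H) hz).symm))
  · rw [Nat.coprime_comm, (Fact.out : p.Prime).coprime_iff_not_dvd]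
    intro hd
    obtain ⟨x, hx⟩ := exists_prime_orderOf_dvd_card' (G := ↥(Subgroup.centralizer ((F ⊔ L : Subgroup H) : Set H))) p hd
    have hxo : orderOf (x : H) = p := by rw [Subgroup.orderOf_coe, hx]
    have hXp : IsPGroup p ↥(Subgroup.zpowers (x : H)) :=
      IsPGroup.of_card (n := 1) (by rw [Nat.card_zpowers, hxo, pow_one])
    set R := L ⊔ F with hR
    have hSR : S ≤ Subgroup.normalizer (R : Set H) := by
      intro s hs
      rw [Cfsg.Lib.Core.mem_normalizer_iff_map_conj, Subgroup.map_sup,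
        Cfsg.Lib.Core.map_conj_eq_of_mem_normalizer (hSL hs),
        Cfsg.Lib.Core.map_conj_eq_of_mem_normalizer (hFnorm hs)]
    set C := S ⊓ Subgroup.centralizer (L : Set H) with hC
    have hSC : S ≤ Subgroup.normalizer (C : Set H) := fun s hs =>
      Cfsg.Lib.Local.FStarAction.mem_normalizer_inf' (hSn S hs)
        (Cfsg.Lib.Local.FStarAction.normalizer_le_centralizer' _ (hSL hs))
    have hQC : Q ≤ Subgroup.normalizer (C : Set H) := fun s hs =>
      Cfsg.Lib.Local.FStarAction.mem_normalizer_inf' (hSn Q hs)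
        (Cfsg.Lib.Local.FStarAction.normalizer_le_centralizer' _ (hQL hs))
    have hCfull : Full p ↥C := by
      refine full_of_isSubnormal hO (Subgroup.IsSubnormal.step C S inf_le_left (Subgroup.Normal.isSubnormal inferInstance) ?_) inf_le_left
      exact (Subgroup.normal_subgroupOf_iff_le_normalizer inf_le_left).2 hSC
    have hCR : C ≤ R := by
      rw [← sup_centralizer_eq hCfull hQ hQC]
      refine sup_le ((Subgroup.commutator_mono inf_le_left le_rfl).trans (hL ▸ le_sup_left)) ?_
      refine le_trans ?_ le_sup_right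
      intro c hc
      rw [hFeq]
      refine ⟨hc.1.1, Subgroup.mem_centralizer_iff.2 fun y hy => ?_⟩
      exact (Subgroup.mem_centralizer_iff.1
        ((sup_le (Subgroup.le_centralizer_iff.1 (Subgroup.zpowers_le.2 hc.1.2))
          (Subgroup.le_centralizer_iff.1 (Subgroup.zpowers_le.2 hc.2))) hy) c (Subgroup.mem_zpowers c)).symm
    set X := Subgroup.zpowers (x : H) with hXdef
    have hXR : ⁅R, X⁆ = ⊥ := by
      rw [Subgroup.commutator_comm, Subgroup.commutator_eq_bot_iff_le_centralizer, hR, sup_comm]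
      exact Subgroup.zpowers_le.2 x.2
    have h4 : ⁅⁅S, X⁆, R⁆ = ⊥ := by
      refine Subgroup.commutator_commutator_eq_bot_of_rotate (H₁ := S) (H₂ := X) (H₃ := R) ?_ ?_
      · rw [Subgroup.commutator_comm X R, hXR, Subgroup.commutator_bot_left]
      · rw [eq_bot_iff, ← hXR]
        exact Subgroup.commutator_mono (Subgroup.le_normalizer_iff_commutator_le_left.mp hSR) le_rfl
    have h5 : ⁅S, X⁆ ≤ R := by
      refine le_trans ?_ hCR
      refine le_inf (Subgroup.le_normalizer_iff_commutator_le_left.mp (hSn X)) ?_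
      refine le_trans ?_ (Subgroup.centralizer_le (show (L : Set H) ⊆ R from SetLike.coe_subset_coe.2 le_sup_left))
      exact Subgroup.commutator_eq_bot_iff_le_centralizer.1 h4
    have h6 : ⁅S, X⁆ = ⊥ := by
      rw [← commutator_commutator_eq hfull hXp (hSn X), eq_bot_iff]
      exact (Subgroup.commutator_mono h5 le_rfl).trans hXR.le
    have hxc : (x : H) ∈ Subgroup.centralizer (S : Set H) := by
      have : X ≤ Subgroup.centralizer (S : Set H) := by
        rw [← Subgroup.commutator_eq_bot_iff_le_centralizer, Subgroup.commutator_comm, h6]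
      exact this (Subgroup.mem_zpowers _)
    have hxS : (x : H) ∈ S := Cfsg.Lib.Core.centralizer_generalizedFitting_le hxc
    have hZp : X ≤ S ⊓ Subgroup.centralizer (S : Set H) := Subgroup.zpowers_le.2 ⟨hxS, hxc⟩
    haveI : IsMulCommutative ↥(S ⊓ Subgroup.centralizer (S : Set H)) :=
      ⟨⟨fun a b => Subtype.ext (Subgroup.mem_centralizer_iff.1 b.2.2 a a.2.1)⟩⟩
    have hsn : X.IsSubnormal := by
      refine Subgroup.IsSubnormal.step X _ hZp (Subgroup.Normal.isSubnormal inferInstance) ?_
      exact ⟨fun y hy g => by rwa [mul_comm' g y, mul_inv_cancel_right]⟩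
    have h7 : X ≤ ⊥ := hO ▸ Cfsg.Lib.Core.le_pCore_of_isSubnormal hsn hXp
    have h8 : (x : H) = 1 := Subgroup.mem_bot.1 (h7 (Subgroup.mem_zpowers _))
    rw [h8, orderOf_one] at hxo
    exact (Fact.out : p.Prime).one_lt.ne hxo

end Cfsg.Agent.S2817
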