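import Cfsg.Statements.S2818
import Cfsg.Agent.Lib.Local.Basic
import Cfsg.Agent.Lib.PGroup.Basic
-- import your own Cfsg.Agent.* helpers here

set_option autoImplicit false
open Cfsg
open scoped commutatorElement

namespace Cfsg.Agent.S2818

/-- Let P be a finite p-subgroup of a group G and H a subgroup of N_G(P) with [P, H] ≤ Ω₁(Z(P)) (the elements of order dividing p in the centre of P). Then H centralizes the Frattini subgroup of P. -/
theorem result {G : Type*} [Group G] [Finite G] {p : ℕ} [Fact p.Prime] (P : Subgroup G) (hP : IsPGroup p ↥P) (H : Subgroup G) (hH : H ≤ Subgroup.normalizer (P : Set G)) (h : ⁅P, H⁆ ≤ Cfsg.omegaOne p (P ⊓ Subgroup.centralizer (P : Set G))) : ⁅(frattini ↥P).map P.subtype, H⁆ = ⊥ := by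
  set Z := P ⊓ Subgroup.centralizer (P : Set G) with hZ
  have hW : Cfsg.omegaOne p Z ≤ Z := (Subgroup.closure_le _).mpr fun x hx => hx.1
  have hWp : ∀ z ∈ Cfsg.omegaOne p Z, z ^ p = 1 := by
    intro z hz
    refine Subgroup.closure_induction (p := fun z _ => z ^ p = 1) (fun x hx => hx.2) (one_pow _) ?_ ?_ hz
    · intro a b ha hb ha' hb'
      have hc : Commute a b := (Subgroup.mem_centralizer_iff.mp (hW ha).2 b (hW hb).1).symm
      rw [hc.mul_pow, ha', hb', one_mul]
    · intro a _ ha'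
      rw [inv_pow, ha', inv_one]
  rw [Subgroup.commutator_eq_bot_iff_le_centralizer, Subgroup.map_le_iff_le_comap]
  refine Cfsg.Lib.PGroup.frattini_le_of_commutator_le_of_pow_mem (p := p) ?_ ?_
  all_goals
    have key : ∀ g ∈ H, ∀ x ∈ P, ∃ c ∈ Cfsg.omegaOne p Z, g * x * g⁻¹ = c * x := fun g hg x hx =>
      ⟨g * x * g⁻¹ * x⁻¹, by
        have := (h (Subgroup.commutator_mem_commutator hx hg))
        have := inv_mem this
        simpa [commutatorElement_def, mul_assoc] using this, by group⟩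
    have cent : ∀ c ∈ Cfsg.omegaOne p Z, ∀ x ∈ P, Commute c x := fun c hc x hx =>
      (Subgroup.mem_centralizer_iff.mp (hW hc).2 x hx).symm
  · rw [commutator_eq_closure, Subgroup.closure_le]
    rintro _ ⟨x, y, rfl⟩
    rw [SetLike.mem_coe, Subgroup.mem_comap, Subgroup.mem_centralizer_iff]
    intro g hg
    obtain ⟨c, hc, hgx⟩ := key g hg x x.2
    obtain ⟨d, hd, hgy⟩ := key g hg y y.2
    have e : g * ((⁅x, y⁆ : ↥P) : G) * g⁻¹ = ((⁅x, y⁆ : ↥P) : G) := by
      simp only [commutatorElement_def, Subgroup.coe_mul, InvMemClass.coe_inv]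
      calc g * ((x : G) * y * (x : G)⁻¹ * (y : G)⁻¹) * g⁻¹
          = (g * x * g⁻¹) * (g * y * g⁻¹) * (g * x * g⁻¹)⁻¹ * (g * y * g⁻¹)⁻¹ := by group
        _ = (c * x) * (d * y) * (c * x)⁻¹ * (d * y)⁻¹ := by rw [hgx, hgy]
        _ = (x : G) * y * (x : G)⁻¹ * (y : G)⁻¹ := by
          have h1 := cent c hc x x.2
          have h2 := cent c hc y y.2
          have h3 := cent d hd x x.2
          have h4 := cent d hd y y.2
          have h5 : Commute c d := cent c hc d (hW hd).1
          calc c * x * (d * y) * (c * x)⁻¹ * (d * y)⁻¹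
              = c * (x * d) * y * (x : G)⁻¹ * (c⁻¹ * (y : G)⁻¹) * d⁻¹ := by group
            _ = c * (d * x) * y * (x : G)⁻¹ * ((y : G)⁻¹ * c⁻¹) * d⁻¹ := by
              rw [h3.eq, (h2.inv_inv).eq]
            _ = (c * d) * ((x : G) * y * (x : G)⁻¹ * (y : G)⁻¹) * (c * d)⁻¹ := by
              rw [mul_inv_rev, (h5.inv_inv).symm.eq]; group
            _ = _ := by
              have hm : (x : G) * y * (x : G)⁻¹ * (y : G)⁻¹ ∈ P :=
                mul_mem (mul_mem (mul_mem x.2 y.2) (inv_mem x.2)) (inv_mem y.2)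
              rw [((cent c hc _ hm).mul_left (cent d hd _ hm)).eq, mul_inv_cancel_right]
    exact mul_inv_eq_iff_eq_mul.mp e
  · intro x
    rw [Subgroup.mem_comap, Subgroup.mem_centralizer_iff]
    intro g hg
    obtain ⟨c, hc, hgx⟩ := key g hg x x.2
    have e : g * ((x ^ p : ↥P) : G) * g⁻¹ = ((x ^ p : ↥P) : G) := by
      rw [SubgroupClass.coe_pow, ← conj_pow, hgx, (cent c hc x x.2).mul_pow, hWp c hc, one_mul]
    exact mul_inv_eq_iff_eq_mul.mp e

end Cfsg.Agent.S2818
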