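import Cfsg.Statements.S2819
import Cfsg.Agent.Lib.PGroup.Basic
import Cfsg.Agent.Lib.Coprime.Action
import Cfsg.Agent.Lib.Local.Basic
-- import your own Cfsg.Agent.* helpers here

set_option autoImplicit false
open Cfsg

namespace Cfsg.Agent.S2819

/-- Let P be a finite p-subgroup of a group G, H a subgroup of N_G(P), and Y a subgroup of H centralizing the derived subgroup P' such that [P, Y] is elementary abelian. Then O^p(⟨Y^H⟩), the subgroup of the normal closure of Y in H generated by its elements of order prime to p, centralizes the Frattini subgroup of P. -/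
theorem result {G : Type*} [Group G] [Finite G] {p : ℕ} [Fact p.Prime] (P : Subgroup G) (hP : IsPGroup p ↥P) (H : Subgroup G) (hH : H ≤ Subgroup.normalizer (P : Set G)) (Y : Subgroup G) (hYH : Y ≤ H) (hYc : Y ≤ Subgroup.centralizer ((⁅P, P⁆ : Subgroup G) : Set G)) (hel : Cfsg.IsElementaryAbelian p ⁅P, Y⁆) (NY : Subgroup G) (hNY : NY = (Subgroup.normalClosure ((Y.subgroupOf H : Subgroup ↥H) : Set ↥H)).map H.subtype) : (Cfsg.pResidual p ↥NY).map NY.subtype ≤ Subgroup.centralizer (((frattini ↥P).map P.subtype : Subgroup G) : Set G) := by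
  classical
  open scoped commutatorElement in
  set P' := ⁅P, P⁆ with hP'
  set F := (frattini ↥P).map P.subtype with hF
  have hP'P : P' ≤ P := Subgroup.commutator_le_self P
  have hP'F : P' ≤ F := by
    rw [hP', ← P.map_subtype_commutator]
    exact Subgroup.map_mono (Cfsg.Lib.PGroup.commutator_le_frattini hP)
  have hNP : Subgroup.normalizer (P : Set G) ≤ Subgroup.normalizer (P' : Set G) := fun g hg => by
    rw [Cfsg.Lib.Core.mem_normalizer_iff_map_conj, hP', Subgroup.map_commutator,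
      Cfsg.Lib.Core.map_conj_eq_of_mem_normalizer hg]
  haveI : (frattini ↥P).Characteristic := inferInstance
  have hNF : Subgroup.normalizer (P : Set G) ≤ Subgroup.normalizer (F : Set G) :=
    Cfsg.Lib.Core.normalizer_le_normalizer_map_char _
  -- the elements acting trivially on `P'` and on `F / P'`
  set Good : G → Prop := fun g => g ∈ H ∧ g ∈ Subgroup.centralizer (P' : Set G) ∧
    ∀ u ∈ F, g * u * g⁻¹ * u⁻¹ ∈ P' with hGood
  have gone : Good 1 := ⟨one_mem _, one_mem _, fun u _ => by simp⟩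
  have gmul : ∀ g h : G, Good g → Good h → Good (g * h) := by
    rintro g h ⟨gH, gC, gF⟩ ⟨hH', hC', hF'⟩
    refine ⟨mul_mem gH hH', mul_mem gC hC', fun u hu => ?_⟩
    have e : g * h * u * (g * h)⁻¹ * u⁻¹ = g * (h * u * h⁻¹ * u⁻¹) * g⁻¹ * (g * u * g⁻¹ * u⁻¹) := by group
    rw [e]
    exact mul_mem ((Subgroup.mem_normalizer_iff.1 (hNP (hH gH)) _).1 (hF' u hu)) (gF u hu)
  have ginv : ∀ g : G, Good g → Good g⁻¹ := by
    rintro g ⟨gH, gC, gF⟩
    refine ⟨inv_mem gH, inv_mem gC, fun u hu => ?_⟩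
    have e : g⁻¹ * u * g⁻¹⁻¹ * u⁻¹ = g⁻¹ * (g * u * g⁻¹ * u⁻¹)⁻¹ * g⁻¹⁻¹ := by group
    rw [e]
    exact (Subgroup.mem_normalizer_iff.1 (hNP (inv_mem (hH gH))) _).1 (inv_mem (gF u hu))
  have gconj : ∀ (g : G), ∀ a ∈ H, Good g → Good (a * g * a⁻¹) := by
    rintro g a ha ⟨gH, gC, gF⟩
    refine ⟨mul_mem (mul_mem ha gH) (inv_mem ha), ?_, fun u hu => ?_⟩
    · rw [Subgroup.mem_centralizer_iff]
      intro c hc
      have h := Subgroup.mem_centralizer_iff.1 gC (a⁻¹ * c * a) ((Subgroup.mem_normalizer_iff''.1 (hNP (hH ha)) c).1 hc)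
      have h' := congrArg (fun t => a * t * a⁻¹) h
      simpa [mul_assoc] using h'
    · have hu' : a⁻¹ * u * a ∈ F := (Subgroup.mem_normalizer_iff''.1 (hNF (hH ha)) u).1 hu
      have e : a * g * a⁻¹ * u * (a * g * a⁻¹)⁻¹ * u⁻¹ =
          a * (g * (a⁻¹ * u * a) * g⁻¹ * (a⁻¹ * u * a)⁻¹) * a⁻¹ := by group
      rw [e]
      exact (Subgroup.mem_normalizer_iff.1 (hNP (hH ha)) _).1 (gF _ hu')
  have gY : ∀ y ∈ Y, Good y := by
    intro y hy
    have hyN : y ∈ Subgroup.normalizer (P : Set G) := hH (hYH hy)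
    refine ⟨hYH hy, hYc hy, ?_⟩
    have hpr : ∀ u ∈ F, ∀ v ∈ F, y * u * y⁻¹ * u⁻¹ ∈ P' → y * v * y⁻¹ * v⁻¹ ∈ P' →
        y * (u * v) * y⁻¹ * (u * v)⁻¹ ∈ P' := by
      intro u hu v _ h1 h2
      have huP : u ∈ P := Subgroup.map_subtype_le _ hu
      have e : y * (u * v) * y⁻¹ * (u * v)⁻¹ =
          (y * u * y⁻¹ * u⁻¹) * (u * (y * v * y⁻¹ * v⁻¹) * u⁻¹) := by group
      rw [e]
      exact mul_mem h1 ((Subgroup.mem_normalizer_iff.1 (hNP (Subgroup.le_normalizer huP)) _).1 h2)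
    intro u hu
    obtain ⟨w, hw, rfl⟩ := hu
    change w ∈ frattini ↥P at hw
    rw [Cfsg.Lib.PGroup.frattini_eq_sup hP, commutator_def, Subgroup.commutator_def, ← Subgroup.closure_union] at hw
    change y * (w : G) * y⁻¹ * (w : G)⁻¹ ∈ P'
    refine Subgroup.closure_induction (p := fun (t : ↥P) _ => y * (t : G) * y⁻¹ * (t : G)⁻¹ ∈ P' ∧ (t : G) ∈ F)
      ?_ ?_ ?_ ?_ hw |>.1
    · rintro t (⟨a, -, b, -, rfl⟩ | ⟨x, rfl⟩)
      · have ht : ((⁅a, b⁆ : ↥P) : G) ∈ P' := by
          exact Subgroup.commutator_mem_commutator a.2 b.2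
        refine ⟨?_, hP'F ht⟩
        rw [← Subgroup.mem_centralizer_iff.1 (hYc hy) _ ht, mul_inv_cancel_right, mul_inv_cancel]
        exact one_mem _
      · refine ⟨?_, ⟨x ^ p, Cfsg.Lib.PGroup.pow_mem_frattini hP x, rfl⟩⟩
        set c : G := (x : G)⁻¹ * y * x * y⁻¹ with hc
        have hcY : c ∈ ⁅P, Y⁆ := by
          have := Subgroup.commutator_mem_commutator (inv_mem x.2) hy
          rwa [commutatorElement_def, inv_inv] at this
        have hcP : c ∈ P := by
          rw [hc, mul_assoc, mul_assoc]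
          refine mul_mem (inv_mem x.2) ?_
          rw [← mul_assoc]
          exact (Subgroup.mem_normalizer_iff.1 hyN _).1 x.2
        have hcp : c ^ p = 1 := hel.2 c hcY
        set q : ↥P →* Abelianization ↥P := Abelianization.of
        have h1 : q ((x * ⟨c, hcP⟩) ^ p * (x ^ p)⁻¹) = 1 := by
          rw [map_mul, map_pow, map_mul, mul_pow, ← map_pow q (⟨c, hcP⟩ : ↥P),
            show (⟨c, hcP⟩ : ↥P) ^ p = 1 from Subtype.ext hcp, map_one, mul_one, map_inv, map_pow, mul_inv_cancel]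
        rw [← MonoidHom.mem_ker, Abelianization.ker_of] at h1
        have h2 : ((((x * ⟨c, hcP⟩) ^ p * (x ^ p)⁻¹ : ↥P)) : G) ∈ P' := by
          rw [hP', ← P.map_subtype_commutator]; exact ⟨_, h1, rfl⟩
        simp only [Subgroup.coe_mul, SubgroupClass.coe_pow, InvMemClass.coe_inv] at h2 ⊢
        rw [show (x : G) * c = y * x * y⁻¹ by rw [hc]; group, conj_pow] at h2
        exact h2
    · simp
    · intro a b _ _ ha hb
      exact ⟨hpr _ ha.2 _ hb.2 ha.1 hb.1, mul_mem ha.2 hb.2⟩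
    · intro a _ ha
      refine ⟨?_, inv_mem ha.2⟩
      have haP : ((a : G))⁻¹ ∈ P := inv_mem a.2
      have e : y * ((a⁻¹ : ↥P) : G) * y⁻¹ * ((a⁻¹ : ↥P) : G)⁻¹ =
          (a : G)⁻¹ * (y * (a : G) * y⁻¹ * (a : G)⁻¹)⁻¹ * (a : G)⁻¹⁻¹ := by
        rw [InvMemClass.coe_inv]; group
      rw [e]
      exact (Subgroup.mem_normalizer_iff.1 (hNP (Subgroup.le_normalizer haP)) _).1 (inv_mem ha.1)
  have gNY : ∀ g ∈ NY, Good g := by
    intro g hg
    rw [hNY] at hg
    obtain ⟨h, hh, rfl⟩ := hg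
    change Good (h : G)
    refine Subgroup.closure_induction (p := fun (t : ↥H) _ => Good (t : G)) ?_ gone (fun a b _ _ => gmul _ _)
      (fun a _ => ginv _) hh
    intro t ht
    obtain ⟨y, hy, hc⟩ := Group.mem_conjugatesOfSet_iff.1 ht
    obtain ⟨a, ha⟩ := isConj_iff.1 hc
    rw [← ha, Subgroup.coe_mul, Subgroup.coe_mul, InvMemClass.coe_inv]
    exact gconj _ _ a.2 (gY _ hy)
  rintro g ⟨g', hg', rfl⟩
  change g' ∈ Cfsg.pResidual p ↥NY at hg'
  refine Subgroup.closure_induction (p := fun (t : ↥NY) _ => (t : G) ∈ Subgroup.centralizer (F : Set G)) ?_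
    (one_mem _) (fun a b _ _ => mul_mem) (fun a _ => inv_mem) hg'
  intro t ht
  change (orderOf t).Coprime p at ht
  obtain ⟨tH, tC, tF⟩ := gNY _ t.2
  set Z := Subgroup.zpowers (t : G)
  have hZN : Z ≤ Subgroup.normalizer (F : Set G) := Subgroup.zpowers_le.2 (hNF (hH tH))
  obtain ⟨n, hn⟩ := IsPGroup.iff_card.mp (hP.to_le (Subgroup.map_subtype_le (frattini ↥P)))
  have h0 : ⁅F, Z⁆ = ⊥ := by
    refine Cfsg.Lib.Coprime.commutator_eq_bot_of_stabilizes hZN ?_
      (Or.inl (Cfsg.Lib.Local.isSolvable_zpowers _)) (N := P') ?_ ?_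
    · rw [Nat.card_zpowers, Subgroup.orderOf_coe, hn]; exact ht.pow_right n
    · rw [Subgroup.commutator_le]
      intro u hu z hz
      obtain ⟨i, hi⟩ := (isOfFinOrder_of_finite (t : G)).mem_powers_iff_mem_zpowers.2 hz
      have hgood : ∀ j : ℕ, Good ((t : G) ^ j) := by
        intro j
        induction j with
        | zero => simpa using gone
        | succ j ih => rw [pow_succ]; exact gmul _ _ ih ⟨tH, tC, tF⟩
      obtain ⟨-, -, hz3⟩ := hgood i
      have hi' : (t : G) ^ i = z := hi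
      rw [← hi']
      have := inv_mem (hz3 u hu)
      simpa [commutatorElement_def, mul_assoc] using this
    · rw [Subgroup.commutator_comm, Subgroup.commutator_eq_bot_iff_le_centralizer]
      exact Subgroup.zpowers_le.2 tC
  rw [Subgroup.commutator_comm, Subgroup.commutator_eq_bot_iff_le_centralizer] at h0
  exact h0 (Subgroup.mem_zpowers _)

end Cfsg.Agent.S2819
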