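import Cfsg.Statements.S2820
import Cfsg.Agent.Lib.Local.YMinimal
-- import your own Cfsg.Agent.* helpers here

set_option autoImplicit false
open Cfsg

namespace Cfsg.Agent.S2820

/-- Let A and B be subnormal subgroups of the finite group H with A a p-group and B = O^p(B) (B generated by its elements of order prime to p). Then A normalizes B and B = O^p(AB), the subgroup of ⟨A, B⟩ generated by its elements of order prime to p. -/
theorem result {H : Type*} [Group H] [Finite H] {p : ℕ} [Fact p.Prime] (A B : Subgroup H) (hA : A.IsSubnormal) (hB : B.IsSubnormal) (hAp : IsPGroup p ↥A) (hBres : (Cfsg.pResidual p ↥B).map B.subtype = B) : A ≤ Subgroup.normalizer (B : Set H) ∧ (Cfsg.pResidual p ↥(A ⊔ B)).map (A ⊔ B).subtype = B := by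
  have h := Lib.Local.map_pResidual_sup_eq hA hB hAp hBres
  refine ⟨fun a ha => ?_, h⟩
  have hn : ((Cfsg.pResidual p ↥(A ⊔ B)).map (A ⊔ B).subtype) =
      B := h
  rw [← hn, Lib.Core.mem_normalizer_iff_map_conj]
  have hm : a ∈ A ⊔ B := Subgroup.mem_sup_left ha
  have := Lib.Core.map_conj_eq_of_mem_normalizer (H := Cfsg.pResidual p ↥(A ⊔ B))
    (g := ⟨a, hm⟩) ((Subgroup.normalizer_eq_top_iff.mpr (Lib.Fusion.pResidual_normal p ↥(A ⊔ B))).ge (Subgroup.mem_top _))
  conv_rhs => rw [← this]
  rw [Subgroup.map_map, Subgroup.map_map]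
  rfl

end Cfsg.Agent.S2820
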