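import Cfsg.Statements.S2823
import Cfsg.Agent.Lib.Local.PReduced
-- import your own Cfsg.Agent.* helpers here

set_option autoImplicit false
open Cfsg

namespace Cfsg.Agent.S2823

/-- Let H be a finite group, p a prime, T a Sylow p-subgroup and L a subgroup of characteristic p containing T; let Z_L be the subgroup generated by the Ω₁(Z(S)) over the Sylow p-subgroups S of L and O^p(L) the subgroup generated by the elements of L of order prime to p. Then Z_L = Ω₁(Z(L))·[Z_L, O^p(L)] and [Z_L, L] = [Z_L, O^p(L)]. -/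
theorem result {H : Type*} [Group H] [Finite H] {p : ℕ} [Fact p.Prime] (T : Sylow p H) (L : Subgroup H) (hTL : (T : Subgroup H) ≤ L) (hL : Subgroup.centralizer (Cfsg.pCore p ↥L : Set ↥L) ≤ Cfsg.pCore p ↥L) : Cfsg.sylowCenterClosure p L = (Cfsg.omegaOne p (L ⊓ Subgroup.centralizer ((L : Subgroup H) : Set H))) ⊔ ⁅Cfsg.sylowCenterClosure p L, (Cfsg.pResidual p ↥L).map L.subtype⁆ ∧ ⁅Cfsg.sylowCenterClosure p L, L⁆ = ⁅Cfsg.sylowCenterClosure p L, (Cfsg.pResidual p ↥L).map L.subtype⁆ := by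
  classical
  set Z := Cfsg.sylowCenterClosure p L with hZdef
  set R := (Cfsg.pResidual p ↥L).map L.subtype with hRdef
  set W := ⁅Z, R⁆ with hWdef
  set U := Cfsg.omegaOne p ((T : Subgroup H) ⊓ Subgroup.centralizer ((T : Subgroup H) : Set H)) with hUdef
  have hUZ : U ≤ Z := Cfsg.Lib.Local.omegaCenter_le_sylowCenterClosure T hTL
  have hZY : Z ≤ Cfsg.largestPReducedOf p L := Cfsg.Lib.Local.sylowCenterClosure_le_largestPReducedOf hL
  have hZab : ∀ a ∈ Z, ∀ b ∈ Z, Commute a b := fun a ha b hb =>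
    (congrArg Subtype.val ((Cfsg.Lib.Local.largestPReducedOf_isElementaryAbelian (p := p) L).1.1.comm
      ⟨a, hZY ha⟩ ⟨b, hZY hb⟩) :)
  have hZp : ∀ a ∈ Z, a ^ p = 1 := fun a ha =>
    (Cfsg.Lib.Local.largestPReducedOf_isElementaryAbelian (p := p) L).2 a (hZY ha)
  -- normalizers
  have hLZ : L ≤ Subgroup.normalizer (Z : Set H) := by
    refine Cfsg.Lib.Core.le_normalizer_iff_conj_mem.mpr fun g hg x hx => ?_
    have hle : Z.map (MulAut.conj g).toMonoidHom ≤ Z := by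
      rw [hZdef, Cfsg.sylowCenterClosure, Subgroup.map_iSup]
      refine iSup_le fun S => le_iSup_of_le ((⟨g, hg⟩ : L) • S) ?_
      rw [Cfsg.omegaOne, MonoidHom.map_closure]
      refine Subgroup.closure_mono ?_
      rintro _ ⟨y, ⟨⟨⟨s, hs, rfl⟩, hyC⟩, hyp⟩, rfl⟩
      refine ⟨⟨⟨⟨g, hg⟩ * s * ⟨g, hg⟩⁻¹, ⟨s, hs, rfl⟩, rfl⟩, ?_⟩, by rw [← map_pow, hyp, map_one]⟩
      refine Subgroup.mem_centralizer_iff.mpr ?_
      rintro _ ⟨_, ⟨s', hs', rfl⟩, rfl⟩
      have := Subgroup.mem_centralizer_iff.mp hyC s' ⟨s', hs', rfl⟩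
      show g * (s' : H) * g⁻¹ * (g * s * g⁻¹) = g * s * g⁻¹ * (g * (s' : H) * g⁻¹)
      simp only [Subgroup.coe_subtype] at this
      calc g * (s' : H) * g⁻¹ * (g * s * g⁻¹) = g * ((s' : H) * s) * g⁻¹ := by group
        _ = g * ((s : H) * s') * g⁻¹ := by rw [this]
        _ = _ := by group
    exact hle (Subgroup.mem_map_of_mem _ hx)
  have hLR : L ≤ Subgroup.normalizer (R : Set H) := by
    refine Cfsg.Lib.Core.le_normalizer_iff_conj_mem.mpr ?_
    rintro g hg _ ⟨y, hy, rfl⟩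
    exact ⟨⟨g, hg⟩ * y * ⟨g, hg⟩⁻¹, (inferInstance : (Cfsg.pResidual p ↥L).Normal).conj_mem y hy _, rfl⟩
  have hRL : R ≤ L := Subgroup.map_subtype_le _
  have hLW : L ≤ Subgroup.normalizer (W : Set H) := by
    intro g hg
    rw [Cfsg.Lib.Core.mem_normalizer_iff_map_conj, hWdef, Subgroup.map_commutator,
      Cfsg.Lib.Core.mem_normalizer_iff_map_conj.mp (hLZ hg), Cfsg.Lib.Core.mem_normalizer_iff_map_conj.mp (hLR hg)]
  have hWZ : W ≤ Z := Cfsg.Lib.Coprime.commutator_le_of_le_normalizer (hRL.trans hLZ)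
  have hUfix : ∀ t ∈ (T : Subgroup H), ∀ u ∈ U, t * u * t⁻¹ = u := fun t ht u hu =>
    mul_inv_eq_iff_eq_mul.mpr
      (Subgroup.mem_centralizer_iff.mp (Cfsg.Lib.Local.omegaOne_le hu).2 t ht)
  -- `g = t m`
  have hdec : ∀ g : L, ∃ t : L, (t : H) ∈ (T : Subgroup H) ∧ ∃ m : L, (m : H) ∈ R ∧ g = t * m := by
    intro g
    obtain ⟨t, ht, m, hm, he⟩ := Cfsg.Lib.Fusion.exists_mul_of_sylow (T.subtype hTL) g
    rw [Sylow.coe_subtype, Subgroup.mem_subgroupOf] at ht
    exact ⟨t, ht, m, ⟨m, hm, rfl⟩, he⟩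
  have hmove : ∀ g ∈ L, ∀ u ∈ U, g * u * g⁻¹ * u⁻¹ ∈ W := by
    intro g hg u hu
    obtain ⟨t, ht, m, hm, he⟩ := hdec ⟨g, hg⟩
    have hg' : g = (t : H) * m := congrArg Subtype.val he
    have e : g * u * g⁻¹ * u⁻¹ = (t : H) * ((m : H) * u * (m : H)⁻¹ * u⁻¹) * (t : H)⁻¹ *
        ((t : H) * u * (t : H)⁻¹ * u⁻¹) := by rw [hg']; group
    rw [e, hUfix t ht u hu, mul_inv_cancel, mul_one]
    refine (Subgroup.mem_normalizer_iff.mp (hLW t.2) _).mp ?_
    rw [hWdef, Subgroup.commutator_comm]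
    exact Subgroup.commutator_mem_commutator hm (hUZ hu)
  have hWn : W ≤ Subgroup.normalizer (U : Set H) := fun w hw => by
    refine Cfsg.Lib.Core.le_normalizer_iff_conj_mem.mpr (fun a ha x hx => ?_) hw
    have e : a * x * a⁻¹ = x := mul_inv_eq_iff_eq_mul.mpr (hZab a (hWZ ha) x (hUZ hx)).eq
    rw [e]; exact hx
  have hZle : Z ≤ W ⊔ U := by
    rw [hZdef, Cfsg.sylowCenterClosure]
    refine iSup_le fun S => ?_
    obtain ⟨g, hgS⟩ := MulAction.exists_smul_eq L (T.subtype hTL) S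
    obtain ⟨t, ht, m, hm, he⟩ := hdec g⁻¹
    rw [Cfsg.omegaOne, Subgroup.closure_le]
    rintro x ⟨⟨⟨s, hs, rfl⟩, hxC⟩, hxp⟩
    have hg' : (g : H) = (m : H)⁻¹ * (t : H)⁻¹ := by
      have := congrArg (fun z : L => (z⁻¹ : L)) he
      simp only [inv_inv, mul_inv_rev] at this
      rw [this]; simp
    have hconj : ∀ z ∈ (T : Subgroup H), ∃ z' : L, z' ∈ (S : Subgroup L) ∧ (z' : H) = (m : H)⁻¹ * z * m := by
      intro z hz
      refine ⟨g * ⟨(t : H) * z * (t : H)⁻¹, L.mul_mem (L.mul_mem t.2 (hTL hz)) (L.inv_mem t.2)⟩ * g⁻¹, ?_, ?_⟩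
      · rw [← hgS, Sylow.coe_subgroup_smul]
        refine ⟨_, ?_, rfl⟩
        rw [Sylow.coe_subtype]
        exact Subgroup.mem_subgroupOf.mpr
          ((T : Subgroup H).mul_mem ((T : Subgroup H).mul_mem ht hz) ((T : Subgroup H).inv_mem ht))
      · simp only [Subgroup.coe_mul, InvMemClass.coe_inv, hg']; group
    rw [← hgS, Sylow.coe_subgroup_smul] at hs
    obtain ⟨s₀, hs₀, hs₀e⟩ := hs
    rw [Sylow.coe_subtype] at hs₀
    have hs₁ : (s₀ : H) ∈ (T : Subgroup H) := Subgroup.mem_subgroupOf.mp hs₀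
    have hsv : (s : H) = (g : H) * s₀ * (g : H)⁻¹ := (congrArg Subtype.val hs₀e).symm.trans rfl
    set u := (m : H) * s * (m : H)⁻¹ with hu
    have hue : u = (t : H)⁻¹ * s₀ * t := by rw [hu, hsv, hg']; group
    have huT : u ∈ (T : Subgroup H) := by
      rw [hue]; exact mul_mem (mul_mem (inv_mem ht) hs₁) ht
    have huU : u ∈ U := by
      refine Subgroup.subset_closure ⟨⟨huT, Subgroup.mem_centralizer_iff.mpr fun z hz => ?_⟩, ?_⟩
      · obtain ⟨z', hz', hze⟩ := hconj z hz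
        have := Subgroup.mem_centralizer_iff.mp hxC z' ⟨z', hz', rfl⟩
        simp only [Subgroup.coe_subtype, hze] at this
        calc z * u = (m : H) * ((m : H)⁻¹ * z * m * s) * (m : H)⁻¹ := by rw [hu]; group
          _ = (m : H) * (s * ((m : H)⁻¹ * z * m)) * (m : H)⁻¹ := by rw [this]
          _ = u * z := by rw [hu]; group
      · rw [hu, conj_pow]; simp only [Subgroup.coe_subtype] at hxp; rw [hxp]; simp
    have e : L.subtype s = ((m : H)⁻¹ * u * (m : H)⁻¹⁻¹ * u⁻¹) * u := by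
      simp only [Subgroup.coe_subtype, hu]; group
    rw [SetLike.mem_coe, e]
    exact Subgroup.mul_mem_sup (hmove _ (inv_mem m.2) u huU) huU
  have hcomm : ⁅Z, L⁆ = W := by
    refine le_antisymm ?_ (Subgroup.commutator_mono le_rfl hRL)
    rw [Cfsg.Lib.Local.commutator_le_iff_conj]
    intro z hz g hg
    obtain ⟨w, hw, u, hu, rfl⟩ := (Cfsg.Lib.Core.mem_sup_of_le_normalizer hWn).mp (hZle hz)
    have h1 := hmove g hg u hu
    have e : w * u * g * (w * u)⁻¹ * g⁻¹ =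
        w * ((g * u * g⁻¹ * u⁻¹)⁻¹ * (g * w * g⁻¹)⁻¹) := by
      group
    rw [e]
    exact mul_mem hw (mul_mem (inv_mem h1) (inv_mem ((Subgroup.mem_normalizer_iff.mp (hLW hg) w).mp hw)))
  refine ⟨le_antisymm ?_ (sup_le ?_ hWZ), hcomm⟩
  · -- averaging
    refine hZle.trans (sup_le le_sup_right fun u hu => ?_)
    set T' := (T : Subgroup H).subgroupOf L with hT'
    let f : ↥L ⧸ T' → ↥Z := fun q =>
      ⟨(q.out : H) * u * (q.out : H)⁻¹, (Subgroup.mem_normalizer_iff.mp (hLZ q.out.2) u).mp (hUZ hu)⟩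
    have hf : ∀ a : L, (f (QuotientGroup.mk a) : H) = (a : H) * u * (a : H)⁻¹ := by
      intro a
      obtain ⟨⟨t, ht⟩, he⟩ := QuotientGroup.mk_out_eq_mul T' a
      show (((QuotientGroup.mk a : ↥L ⧸ T').out : L) : H) * u * _ = _
      rw [he]
      simp only [Subgroup.coe_mul, mul_inv_rev]
      calc (a : H) * t * u * ((t : H)⁻¹ * (a : H)⁻¹) = (a : H) * ((t : H) * u * (t : H)⁻¹) * (a : H)⁻¹ := by group
        _ = _ := by rw [hUfix (t : H) ht u hu]
    have : Fintype (↥L ⧸ T') := Fintype.ofFinite _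
    have : IsMulCommutative ↥Z := ⟨⟨fun a b => Subtype.ext (hZab a a.2 b b.2).eq⟩⟩
    open scoped IsMulCommutative in
    let u' : ↥Z := ∏ q, f q
    have hu'c : ∀ g ∈ L, g * (u' : H) * g⁻¹ = u' := by
      intro g hg
      open scoped IsMulCommutative in
      let c : ↥Z →* ↥Z :=
        { toFun := fun z => ⟨g * z * g⁻¹, (Subgroup.mem_normalizer_iff.mp (hLZ hg) _).mp z.2⟩
          map_one' := Subtype.ext (by simp)
          map_mul' := fun a b => Subtype.ext (by simp [mul_assoc]) }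
      have hperm : c u' = u' := by
        show c (∏ q, f q) = ∏ q, f q
        rw [map_prod]
        refine Fintype.prod_equiv (MulAction.toPerm (⟨g, hg⟩ : L)) _ _ fun q => ?_
        obtain ⟨a, rfl⟩ := QuotientGroup.mk_surjective q
        refine Subtype.ext ?_
        show g * (f (QuotientGroup.mk a) : H) * g⁻¹ = (f (QuotientGroup.mk ((⟨g, hg⟩ : L) * a)) : H)
        rw [hf, hf]
        simp [mul_assoc]
      exact congrArg Subtype.val hperm
    have hu'mem : (u' : H) ∈ Cfsg.omegaOne p (L ⊓ Subgroup.centralizer (L : Set H)) :=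
      Subgroup.subset_closure ⟨⟨(hZY.trans (Cfsg.Lib.Local.largestPReducedOf_le L)) u'.2,
        Subgroup.mem_centralizer_iff.mpr fun g hg => mul_inv_eq_iff_eq_mul.mp (hu'c g hg)⟩, hZp _ u'.2⟩
    have hum : u ^ T'.index ∈ Cfsg.omegaOne p (L ⊓ Subgroup.centralizer (L : Set H)) ⊔ W := by
      open scoped IsMulCommutative in
      let u₀ : ↥Z := ⟨u, hUZ hu⟩
      have h1 : ((u₀ ^ T'.index)⁻¹ * u' : ↥Z) ∈ W.subgroupOf Z := by
        have : (u₀ ^ T'.index)⁻¹ * u' = ∏ q, (u₀⁻¹ * f q) := by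
          open scoped IsMulCommutative in
          rw [Finset.prod_mul_distrib, Finset.prod_const, Finset.card_univ, ← Nat.card_eq_fintype_card,
            ← Subgroup.index_eq_card, inv_pow]
        rw [this]
        refine Subgroup.prod_mem _ fun q _ => ?_
        rw [Subgroup.mem_subgroupOf]
        have h := hmove q.out q.out.2 u hu
        have hc : Commute u⁻¹ ((q.out : H) * u * (q.out : H)⁻¹) := (hZab u (hUZ hu) _ (f q).2).inv_left
        show u⁻¹ * ((q.out : H) * u * (q.out : H)⁻¹) ∈ W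
        rwa [hc.eq]
      rw [Subgroup.mem_subgroupOf] at h1
      simp only [Subgroup.coe_mul, InvMemClass.coe_inv, SubmonoidClass.coe_pow] at h1
      have e : u ^ T'.index = (u' : H) * ((u ^ T'.index)⁻¹ * (u' : H))⁻¹ := by
        rw [mul_inv_rev, inv_inv, mul_inv_cancel_left]
      rw [e]
      exact Subgroup.mul_mem_sup hu'mem (inv_mem h1)
    have hcop : (orderOf u).Coprime T'.index := by
      have h1 : orderOf u ∣ p := orderOf_dvd_of_pow_eq_one (hZp u (hUZ hu))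
      refine Nat.Coprime.coprime_dvd_left h1 ((Fact.out : p.Prime).coprime_iff_not_dvd.mpr ?_)
      have := (T.subtype hTL).not_dvd_index
      rwa [Sylow.coe_subtype] at this
    obtain ⟨j, hj⟩ := exists_pow_eq_self_of_coprime (x := u) hcop.symm
    rw [← hj]
    exact pow_mem hum j
  · rintro x hx
    refine Subgroup.closure_induction (p := fun x _ => x ∈ Z) ?_ (one_mem Z) (fun _ _ _ _ => Z.mul_mem)
      (fun _ _ => Z.inv_mem) hx
    rintro y ⟨⟨hyL, hyC⟩, hyp⟩
    refine hUZ (Subgroup.subset_closure ⟨⟨?_, Subgroup.centralizer_le (fun z hz => hTL hz) hyC⟩, hyp⟩)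
    have h1 : y ∈ Cfsg.pCoreOf p L := ((Cfsg.Lib.Local.isCharP_iff L).mpr hL)
      ⟨hyL, Subgroup.centralizer_le (fun z hz => Cfsg.Lib.Local.pCoreOf_le L hz) hyC⟩
    have hle := Subgroup.map_mono (f := L.subtype) (Cfsg.Lib.Core.pCore_le_sylow (T.subtype hTL) (p := p))
    rw [Sylow.coe_subtype, Subgroup.map_subgroupOf_eq_of_le hTL] at hle
    exact hle h1

end Cfsg.Agent.S2823
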