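import Cfsg.Statements.S2824
import Cfsg.Agent.Lib.Local.PReduced
import Cfsg.Agent.Lib.Local.Sylow
import Cfsg.Agent.Lib.Invol.BaerSuzuki
import Cfsg.Agent.Lib.Coprime.Action
import Cfsg.Agent.Lib.PGroup.Basic
import Cfsg.Agent.Lib.Core.Cores
import Mathlib.GroupTheory.SchurZassenhaus
-- import your own Cfsg.Agent.* helpers here

set_option autoImplicit false
open Cfsg

namespace Cfsg.Agent.S2824
open Subgroup
open scoped commutatorElement

/-- Let H be a finite group, p a prime, T a Sylow p-subgroup, L and M subgroups of characteristic p containing T, Y_L the largest p-reduced normal subgroup of L and T₀ = C_T(Y_L). If M·C_H(Y_L) = L·C_H(Y_L), then L* := N_M(T₀) has Y_{L*} = Y_L and L·C_H(Y_L) = L*·C_H(Y_L). -/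
theorem result {H : Type*} [Group H] [Finite H] {p : ℕ} [Fact p.Prime] (T : Sylow p H) (L M : Subgroup H) (hTL : (T : Subgroup H) ≤ L) (hTM : (T : Subgroup H) ≤ M) (hL : Subgroup.centralizer (Cfsg.pCore p ↥L : Set ↥L) ≤ Cfsg.pCore p ↥L) (hM : Subgroup.centralizer (Cfsg.pCore p ↥M : Set ↥M) ≤ Cfsg.pCore p ↥M) (T₀ : Subgroup H) (hT₀ : T₀ = (T : Subgroup H) ⊓ Subgroup.centralizer (((Cfsg.largestPReducedOf p L) : Subgroup H) : Set H)) (hfac : M ⊔ Subgroup.centralizer (((Cfsg.largestPReducedOf p L) : Subgroup H) : Set H) = L ⊔ Subgroup.centralizer (((Cfsg.largestPReducedOf p L) : Subgroup H) : Set H)) (Ls : Subgroup H) (hLs : Ls = M ⊓ Subgroup.normalizer ((T₀ : Subgroup H) : Set H)) : (Cfsg.largestPReducedOf p Ls) = (Cfsg.largestPReducedOf p L) ∧ L ⊔ Subgroup.centralizer (((Cfsg.largestPReducedOf p L) : Subgroup H) : Set H) = Ls ⊔ Subgroup.centralizer (((Cfsg.largestPReducedOf p L) : Subgroup H) : Set H) := by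
  classical
  set Y := Cfsg.largestPReducedOf p L with hY
  set C := centralizer (Y : Set H) with hC
  subst hLs
  set Ls := M ⊓ normalizer (T₀ : Set H) with hLsdef
  set L₀ := L ⊓ normalizer (T₀ : Set H) with hL₀def
  set E := C ⊓ normalizer (T₀ : Set H) with hEdef
  have hLY : L ≤ normalizer (Y : Set H) := Cfsg.Lib.Local.normalizer_le_normalizer_largestPReducedOf L
  have hMY : M ≤ normalizer (Y : Set H) :=
    (le_sup_left.trans hfac.le).trans (sup_le hLY (centralizer_le_normalizer _))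
  have hTY : (T : Subgroup H) ≤ normalizer (Y : Set H) := hTL.trans hLY
  have hNC : normalizer (Y : Set H) ≤ normalizer (C : Set H) :=
    Cfsg.Lib.Local.normalizer_le_normalizer_centralizer Y
  have hT₀T : T₀ ≤ (T : Subgroup H) := hT₀ ▸ inf_le_left
  have hT₀C : T₀ ≤ C := hT₀ ▸ inf_le_right
  have hT₀p : IsPGroup p T₀ := T.isPGroup'.to_le hT₀T
  have hTN : (T : Subgroup H) ≤ normalizer (T₀ : Set H) := by
    rw [hT₀]
    refine Cfsg.Lib.Core.le_normalizer_iff_conj_mem.mpr fun t ht x hx => ⟨?_, ?_⟩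
    · exact mul_mem (mul_mem ht hx.1) ((T : Subgroup H).inv_mem ht)
    · exact (mem_normalizer_iff.1 (hNC (hTY ht)) x).1 hx.2
  have hT₀dvd : ∀ K : Subgroup H, T₀ ≤ K → K ≤ C → ¬ p ∣ T₀.relIndex K := by
    intro K h1 h2 hd
    obtain ⟨P, hP⟩ := Cfsg.Lib.Local.exists_sylow_centralizer T hTY
    refine P.not_dvd_index ?_
    rw [hP, ← hT₀]
    exact hd.trans (Dvd.intro _ (relIndex_mul_relIndex T₀ K C h1 h2))
  -- Frattini argument
  have hfrat : ∀ A : Subgroup H, (T : Subgroup H) ≤ A → A ≤ normalizer (Y : Set H) → ∀ a ∈ A,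
      ∃ d ∈ A ⊓ C, d * a ∈ normalizer (T₀ : Set H) := by
    intro A hTA hAY a ha
    have hle : T₀ ≤ A ⊓ C := le_inf (hT₀T.trans hTA) hT₀C
    set T' := T₀.map (MulAut.conj a).toMonoidHom with hT'
    have hle' : T' ≤ A ⊓ C := by
      rintro _ ⟨x, hx, rfl⟩
      exact ⟨A.mul_mem (A.mul_mem ha (hle hx).1) (A.inv_mem ha),
        (mem_normalizer_iff.1 (hNC (hAY ha)) x).1 (hle hx).2⟩
    have hp1 : IsPGroup p (T₀.subgroupOf (A ⊓ C)) :=
      hT₀p.comap_of_injective (A ⊓ C).subtype (A ⊓ C).subtype_injective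
    have hnd : ¬ p ∣ (T₀.subgroupOf (A ⊓ C)).index := hT₀dvd _ hle inf_le_right
    obtain ⟨P₂, hP₂⟩ := ((hT₀p.map (MulAut.conj a).toMonoidHom).comap_of_injective (A ⊓ C).subtype
      (A ⊓ C).subtype_injective).exists_le_sylow
    obtain ⟨d, hd⟩ := MulAction.exists_smul_eq (↥(A ⊓ C : Subgroup H)) P₂ (hp1.toSylow hnd)
    refine ⟨d, d.2, Cfsg.Lib.Invol.mem_normalizer_of_map_le ?_⟩
    rintro _ ⟨x, hx, rfl⟩
    have hx' : a * x * a⁻¹ ∈ T' := ⟨x, hx, rfl⟩
    have h2 : d * ⟨a * x * a⁻¹, hle' hx'⟩ * d⁻¹ ∈ ((d • P₂ : Sylow p ↥(A ⊓ C : Subgroup H)) : Subgroup _) :=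
      ⟨⟨a * x * a⁻¹, hle' hx'⟩, hP₂ (show (⟨a * x * a⁻¹, hle' hx'⟩ : ↥(A ⊓ C : Subgroup H)).1 ∈ T' from hx'), rfl⟩
    rw [hd, IsPGroup.toSylow_coe] at h2
    have h3 : (d : H) * (a * x * a⁻¹) * (d : H)⁻¹ ∈ T₀ := h2
    show (d : H) * a * x * ((d : H) * a)⁻¹ ∈ T₀
    rwa [show (d : H) * a * x * ((d : H) * a)⁻¹ = (d : H) * (a * x * a⁻¹) * (d : H)⁻¹ by group]
  have hcross : ∀ A B : Subgroup H, (T : Subgroup H) ≤ B → A ≤ B ⊔ C → B ≤ normalizer (Y : Set H) →
      A ⊓ normalizer (T₀ : Set H) ≤ (B ⊓ normalizer (T₀ : Set H)) ⊔ E := by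
    intro A B hTB hAB hBY x hx
    obtain ⟨b, hb, c, hc, rfl⟩ := (Cfsg.Lib.Core.mem_sup_of_le_normalizer (hBY.trans hNC)).1 (hAB hx.1)
    obtain ⟨d, hd, hdN⟩ := hfrat B hTB hBY b hb
    rw [show b * c = (d * b) * ((d * b)⁻¹ * (b * c)) by group]
    refine mul_mem_sup ⟨B.mul_mem hd.1 hb, hdN⟩ ⟨?_, mul_mem ((normalizer (T₀ : Set H)).inv_mem hdN) hx.2⟩
    rw [show (d * b)⁻¹ * (b * c) = (b⁻¹ * d⁻¹ * b) * c by group]
    refine C.mul_mem ?_ hc
    simpa using (mem_normalizer_iff.1 (hNC (hBY (B.inv_mem hb))) d⁻¹).1 (C.inv_mem hd.2)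
  have hLsC : Ls ⊔ C = M ⊔ C := by
    refine le_antisymm (sup_le_sup_right inf_le_left C) (sup_le (fun m hm => ?_) le_sup_right)
    obtain ⟨d, hd, hdN⟩ := hfrat M hTM hMY m hm
    have h1 : d⁻¹ * (d * m) ∈ Ls ⊔ C :=
      mul_mem (mem_sup_right (C.inv_mem hd.2)) (mem_sup_left ⟨M.mul_mem hd.1 hm, hdN⟩)
    rwa [inv_mul_cancel_left] at h1
  have hTLs : (T : Subgroup H) ≤ Ls := le_inf hTM hTN
  have hYT : Cfsg.pCoreOf p L ≤ T₀ := by
    rw [hT₀]
    refine le_inf ?_ (Cfsg.Lib.Local.pCoreOf_le_centralizer_largestPReducedOf L)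
    rintro _ ⟨x, hx, rfl⟩
    exact (Cfsg.Lib.Core.pCore_le_sylow (T.subtype hTL) hx : x ∈ (T : Subgroup H).subgroupOf L)
  -- `E` centralizes `Ω₁(Z(T₀))`
  set U := Cfsg.omegaOne p (T₀ ⊓ centralizer (T₀ : Set H)) with hU
  have hUel : Cfsg.IsElementaryAbelian p U :=
    Cfsg.Lib.Local.isElementaryAbelian_omegaOne (Cfsg.Lib.Local.isMulCommutative_center_inf T₀)
  haveI : IsMulCommutative U := hUel.1
  have hUT₀ : U ≤ T₀ := Cfsg.Lib.Local.omegaOne_le.trans inf_le_left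
  have hUc : ∀ t ∈ T₀, ∀ u ∈ U, t * u = u * t := fun t ht u hu =>
    mem_centralizer_iff.1 (Cfsg.Lib.Local.omegaOne_le hu).2 t ht
  have hNU : normalizer (T₀ : Set H) ≤ normalizer (U : Set H) := by
    refine Cfsg.Lib.Core.le_normalizer_iff_conj_mem.mpr fun g hg x hx => ?_
    have h1 : U ≤ U.comap (MulAut.conj g).toMonoidHom := by
      rw [hU, Cfsg.omegaOne, closure_le]
      rintro z ⟨⟨hz1, hz2⟩, hzp⟩
      refine subset_closure ⟨⟨(mem_normalizer_iff.1 hg z).1 hz1, ?_⟩, ?_⟩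
      · exact (mem_normalizer_iff.1 (Cfsg.Lib.Local.normalizer_le_normalizer_centralizer T₀ hg) z).1 hz2
      · show (g * z * g⁻¹) ^ p = 1
        rw [conj_pow, hzp, mul_one, mul_inv_cancel]
    exact h1 hx
  have hT₀E : T₀ ≤ E := le_inf hT₀C Subgroup.le_normalizer
  haveI hT₀En : (T₀.subgroupOf E).Normal := normal_subgroupOf_of_le_normalizer inf_le_right
  obtain ⟨K, hK⟩ := exists_right_complement'_of_coprime (N := T₀.subgroupOf E) (by
    obtain ⟨k, hk⟩ := (hT₀p.comap_of_injective E.subtype E.subtype_injective).exists_card_eq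
    rw [show Nat.card ↥(T₀.subgroupOf E) = p ^ k from hk]
    exact Nat.Coprime.pow_left k ((Fact.out : p.Prime).coprime_iff_not_dvd.2 (hT₀dvd E hT₀E inf_le_left)))
  set K' := K.map E.subtype with hK'
  have hK'E : K' ≤ E := map_subtype_le _
  have hEU : E ≤ centralizer (U : Set H) := by
    set W := ⁅U, E⁆ with hW
    have hWK : W = ⁅U, K'⁆ := by
      refine le_antisymm ?_ (commutator_mono le_rfl hK'E)
      rw [hW, Subgroup.commutator_le]
      intro u hu e he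
      have h1 : (⟨e, he⟩ : E) ∈ T₀.subgroupOf E ⊔ K := hK.sup_eq_top ▸ mem_top _
      obtain ⟨t, ht, k, hk, htk⟩ := mem_sup_of_normal_left.1 h1
      have he' : e = (t : H) * (k : H) := (congrArg Subtype.val htk).symm
      have htU : (t : H) * ⁅u, (k : H)⁆ * (t : H)⁻¹ = ⁅u, (k : H)⁆ := by
        have hm : ⁅u, (k : H)⁆ ∈ U := by
          rw [commutatorElement_def, mul_assoc, mul_assoc, ← mul_assoc (k : H)]
          exact U.mul_mem hu ((mem_normalizer_iff.1 (hNU k.2.2) _).1 (U.inv_mem hu))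
        rw [hUc t ht _ hm, mul_inv_cancel_right]
      rw [he', show ⁅u, (t : H) * (k : H)⁆ = ⁅u, (t : H)⁆ * ((t : H) * ⁅u, (k : H)⁆ * (t : H)⁻¹) by
        simp only [commutatorElement_def]; group, htU,
        show ⁅u, (t : H)⁆ = 1 from commutatorElement_eq_one_iff_mul_comm.2 (hUc t ht u hu).symm, one_mul]
      exact Subgroup.commutator_mem_commutator hu ⟨k, hk, rfl⟩
    have hWU : W ≤ U := by
      rw [hW, Subgroup.commutator_le]
      intro u hu e he
      rw [commutatorElement_def, mul_assoc, mul_assoc, ← mul_assoc e]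
      exact U.mul_mem hu ((mem_normalizer_iff.1 (hNU he.2) _).1 (U.inv_mem hu))
    have hTW : (T : Subgroup H) ≤ normalizer (W : Set H) := by
      intro t ht
      rw [Cfsg.Lib.Core.mem_normalizer_iff_map_conj, hW, Subgroup.map_commutator,
        Cfsg.Lib.Core.map_conj_eq_of_mem_normalizer (hNU (hTN ht)),
        Cfsg.Lib.Core.map_conj_eq_of_mem_normalizer (H := E) ?_]
      refine (show (T : Subgroup H) ≤ normalizer (E : Set H) from
        Cfsg.Lib.Core.le_normalizer_iff_conj_mem.mpr (fun g hg x hx => ⟨?_, ?_⟩)) ht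
      · exact (mem_normalizer_iff.1 (hNC (hTY hg)) x).1 hx.1
      · exact (normalizer (T₀ : Set H)).mul_mem ((normalizer (T₀ : Set H)).mul_mem (hTN hg) hx.2)
          ((normalizer (T₀ : Set H)).inv_mem (hTN hg))
    suffices hb : W = ⊥ by
      rw [hW, Subgroup.commutator_comm] at hb
      exact Subgroup.commutator_eq_bot_iff_le_centralizer.1 hb
    by_contra hne
    haveI := normal_subgroupOf_of_le_normalizer hTW
    have hWT : W ≤ (T : Subgroup H) := (hWU.trans hUT₀).trans hT₀T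
    have hz := Cfsg.Lib.PGroup.inf_center_ne_bot T.isPGroup' (N := W.subgroupOf (T : Subgroup H))
      (fun h => hne (by
        rw [← map_subgroupOf_eq_of_le hWT, h, Subgroup.map_bot]))
    obtain ⟨⟨w, hwW, hwc⟩, hw1⟩ := ne_bot_iff_exists_ne_one.1 hz
    have hwW' : (w : H) ∈ W := hwW
    have hwY : (w : H) ∈ Y := by
      refine Cfsg.Lib.Local.sylowCenterClosure_le_largestPReducedOf hL
        (Cfsg.Lib.Local.omegaCenter_le_sylowCenterClosure T hTL
          (subset_closure ⟨⟨w.2, mem_centralizer_iff.2 fun t ht => ?_⟩, hUel.2 _ (hWU hwW')⟩))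
      exact congrArg Subtype.val (mem_center_iff.1 hwc ⟨t, ht⟩)
    have hcop : (Nat.card K').Coprime (Nat.card U) := by
      obtain ⟨j, hj⟩ := (hT₀p.to_le hUT₀).exists_card_eq
      rw [hK', card_map_of_injective E.subtype_injective, ← hK.symm.index_eq_card, hj]
      exact Nat.Coprime.pow_right j
        ((Fact.out : p.Prime).coprime_iff_not_dvd.2 (hT₀dvd E hT₀E inf_le_left)).symm
    have hd := Cfsg.Lib.Coprime.disjoint_commutator_centralizer (A := K') (G := U)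
      ((hK'E.trans inf_le_right).trans hNU) hcop
    have h1 : (w : H) ∈ (⊥ : Subgroup H) := by
      refine hd.le_bot ⟨hWK ▸ hwW', mem_centralizer_iff.2 fun k hk => ?_⟩
      exact (mem_centralizer_iff.1 (hK'E hk).1 (w : H) hwY).symm
    exact hw1 (Subtype.ext (Subtype.ext (Subgroup.mem_bot.1 h1)))
  -- comparison of the reduced subgroups
  set V := Cfsg.largestPReducedOf p Ls with hV
  have hT₀Ls : T₀ ≤ Cfsg.pCoreOf p Ls :=
    Cfsg.Lib.Local.le_pCoreOf (hT₀T.trans hTLs) inf_le_right hT₀p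
  have hVT₀c : V ≤ centralizer (T₀ : Set H) :=
    Subgroup.le_centralizer_iff.1 (hT₀Ls.trans (Cfsg.Lib.Local.pCoreOf_le_centralizer_largestPReducedOf Ls))
  have hVT : V ≤ (T : Subgroup H) := by
    refine (Cfsg.Lib.Local.largestPReducedOf_le_pCoreOf Ls).trans ?_
    rintro _ ⟨x, hx, rfl⟩
    exact (Cfsg.Lib.Core.pCore_le_sylow (T.subtype hTLs) hx : x ∈ (T : Subgroup H).subgroupOf Ls)
  have hYT₀ : Y ≤ T₀ := (Cfsg.Lib.Local.largestPReducedOf_le_pCoreOf L).trans hYT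
  have hVT₀ : V ≤ T₀ := by
    rw [hT₀]
    refine le_inf hVT fun v hv => mem_centralizer_iff.2 fun y hy => ?_
    exact mem_centralizer_iff.1 (hVT₀c hv) y (hYT₀ hy)
  have hVU : V ≤ U := Cfsg.Lib.Local.le_omegaOne (le_inf hVT₀ hVT₀c)
    (Cfsg.Lib.Local.largestPReducedOf_isElementaryAbelian Ls).2
  have hEV : E ≤ centralizer (V : Set H) := hEU.trans (centralizer_le hVU)
  have hYV : Y ≤ V := by
    refine Cfsg.Lib.Local.largestPReducedOf_le_of_sup_eq ((hYT₀.trans hT₀T).trans hTLs) ?_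
    exact hLsC.trans hfac
  have hV0 : V ≤ Cfsg.largestPReducedOf p L₀ := by
    refine Cfsg.Lib.Local.largestPReducedOf_le_of_sup_eq (hVT₀.trans (le_inf (hT₀T.trans hTL) Subgroup.le_normalizer)) ?_
    refine le_antisymm (sup_le ?_ le_sup_right) (sup_le ?_ le_sup_right)
    · exact (hcross L M hTM (le_sup_left.trans hfac.ge) hMY).trans (sup_le_sup_left hEV _)
    · exact (hcross M L hTL (le_sup_left.trans hfac.le) hLY).trans (sup_le_sup_left hEV _)
  have h0 : Cfsg.largestPReducedOf p L₀ ≤ Y := by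
    set V₀ := Cfsg.largestPReducedOf p L₀ with hV₀
    set R := (normalizer (T₀ : Set H)).subgroupOf L with hR
    have hV₀L : V₀ ≤ L := (Cfsg.Lib.Local.largestPReducedOf_le L₀).trans inf_le_left
    have hel := Cfsg.Lib.Local.largestPReducedOf_isElementaryAbelian (p := p) L₀
    have hX : Cfsg.IsPReducedNormal p ((V₀.subgroupOf L).subgroupOf R) := by
      refine Cfsg.Lib.Local.isPReducedNormal_iff.2 ⟨⟨fun x hx r => ?_⟩, ⟨⟨⟨fun a b => ?_⟩⟩, fun a ha => ?_⟩,
        fun N hN hpow => ?_⟩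
      · exact (mem_normalizer_iff.1 (Cfsg.Lib.Local.normalizer_le_normalizer_largestPReducedOf L₀
          (⟨(r : L).2, r.2⟩ : ((r : L) : H) ∈ L₀)) _).1 hx
      · exact Subtype.ext (Subtype.ext (Subtype.ext
          (congrArg Subtype.val (hel.1.1.comm ⟨_, a.2⟩ ⟨_, b.2⟩) :)))
      · exact Subtype.ext (Subtype.ext (hel.2 _ ha))
      · have hle := Cfsg.Lib.Local.le_centralizer_largestPReducedOf (p := p) (L := L₀)
          (N := (N.map R.subtype).map L.subtype) ?_ ?_ ?_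
        · intro x hx
          refine mem_centralizer_iff.2 fun v hv => Subtype.ext (Subtype.ext ?_)
          exact mem_centralizer_iff.1 (hle ⟨x.1, ⟨x, hx, rfl⟩, rfl⟩) _ hv
        · rintro _ ⟨_, ⟨x, -, rfl⟩, rfl⟩
          exact ⟨(x : L).2, x.2⟩
        · refine Cfsg.Lib.Core.le_normalizer_iff_conj_mem.mpr ?_
          rintro g hg _ ⟨_, ⟨x, hx, rfl⟩, rfl⟩
          exact ⟨_, ⟨(⟨⟨g, hg.1⟩, hg.2⟩ : R) * x * (⟨⟨g, hg.1⟩, hg.2⟩ : R)⁻¹, hN.conj_mem x hx _, rfl⟩, rfl⟩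
        · rintro _ ⟨_, ⟨x, hx, rfl⟩, rfl⟩
          obtain ⟨k, hk⟩ := hpow x hx
          refine ⟨k, mem_centralizer_iff.2 fun v hv => ?_⟩
          have hv' : v ∈ L₀ := Cfsg.Lib.Local.largestPReducedOf_le L₀ hv
          exact congrArg (fun z : R => ((z : L) : H))
            (mem_centralizer_iff.1 hk (⟨⟨v, hv'.1⟩, hv'.2⟩ : R) hv)
    have h1 := Cfsg.Lib.Local.le_largestPReduced
      (Cfsg.Lib.Local.isPReducedNormal_normalClosure hL (T.subtype hTL) (R := R) (fun x hx => hTN hx) hX)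
    intro v hv
    have hv' : v ∈ L₀ := Cfsg.Lib.Local.largestPReducedOf_le L₀ hv
    exact ⟨⟨v, hv'.1⟩, h1 (subset_normalClosure ⟨(⟨⟨v, hv'.1⟩, hv'.2⟩ : R), hv, rfl⟩), rfl⟩
  exact ⟨le_antisymm (hV0.trans h0) hYV, by rw [hLsC, hfac]⟩

end Cfsg.Agent.S2824
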