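import Cfsg.Statements.S2825
import Cfsg.Agent.Lib.Local.PReduced
import Cfsg.Agent.Lib.Coprime.Action
import Cfsg.Agent.Lib.PGroup.Basic
import Cfsg.Agent.Lib.Core.Cores
import Cfsg.Agent.Lib.Fusion.Basic
-- import your own Cfsg.Agent.* helpers here

set_option autoImplicit false
open Cfsg

namespace Cfsg.Agent.S2825

open Subgroup
open scoped commutatorElement

variable {H : Type*} [Group H] [Finite H] {p : ℕ} [Fact p.Prime]

omit [Finite H] [Fact p.Prime] in
theorem exists_iterate_mem {L : Subgroup H} (hL : L.IsSubnormal) :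
    ∀ x ∈ L, ∃ n : ℕ, ∀ u : H, (fun w => x * w * x⁻¹ * w⁻¹)^[n] u ∈ L := by
  induction hL with
  | top => exact fun x _ => ⟨0, fun u => mem_top _⟩
  | step A K hle _ hN ih =>
    intro x hx
    obtain ⟨n, hn⟩ := ih x (hle hx)
    refine ⟨n + 1, fun u => ?_⟩
    rw [Function.iterate_succ_apply']
    set w := (fun w => x * w * x⁻¹ * w⁻¹)^[n] u
    have h1 : w * x⁻¹ * w⁻¹ ∈ A :=
      (mem_normalizer_iff.1 ((normal_subgroupOf_iff_le_normalizer hle).1 hN (hn u)) x⁻¹).1 (A.inv_mem hx)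
    show x * w * x⁻¹ * w⁻¹ ∈ A
    rw [show x * w * x⁻¹ * w⁻¹ = x * (w * x⁻¹ * w⁻¹) by group]
    exact A.mul_mem hx h1

theorem unipotent {Y L : Subgroup H} (hYn : Y.Normal) (hYel : Cfsg.IsElementaryAbelian p Y)
    (hL : L.IsSubnormal) {x : H} (hx : x ∈ L)
    (hxc : x ∈ centralizer ((Y ⊓ L : Subgroup H) : Set H)) :
    ∃ k : ℕ, x ^ p ^ k ∈ centralizer (Y : Set H) := by
  set f : H → H := fun w => x * w * x⁻¹ * w⁻¹ with hf
  have hfY : ∀ w ∈ Y, f w ∈ Y := fun w hw => Y.mul_mem (hYn.conj_mem w hw x) (Y.inv_mem hw)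
  have hiter : ∀ (n : ℕ), ∀ u ∈ Y, f^[n] u ∈ Y := by
    intro n
    induction n with
    | zero => exact fun u hu => hu
    | succ n ih => exact fun u hu => by rw [Function.iterate_succ_apply']; exact hfY _ (ih u hu)
  have key : ∀ (m : ℕ), ∀ u ∈ Y, f^[m] u = 1 → x ^ p ^ m * u * (x ^ p ^ m)⁻¹ = u := by
    intro m
    induction m with
    | zero => intro u _ h; simp only [Function.iterate_zero, id_eq] at h; subst h; group
    | succ m ih =>
      intro u hu h
      rw [Function.iterate_succ_apply] at h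
      set X := x ^ p ^ m with hX
      set d := f u with hd
      have hdX : X * d * X⁻¹ = d := ih d (hfY u hu) h
      set e := X * u * X⁻¹ * u⁻¹ with he
      have heY : e ∈ Y := Y.mul_mem (hYn.conj_mem u hu X) (Y.inv_mem hu)
      have hcomm : x * X = X * x := ((Commute.refl x).pow_right _).eq
      have hde : d * e * d⁻¹ = e := by
        have h1 : d * e = e * d := congrArg Subtype.val (hYel.1.1.comm ⟨d, hfY u hu⟩ ⟨e, heY⟩)
        rw [h1, mul_inv_cancel_right]
      have hxe : x * e * x⁻¹ = e := by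
        calc x * e * x⁻¹ = (x * X) * u * (x * X)⁻¹ * (x * u * x⁻¹)⁻¹ := by rw [he]; group
          _ = (X * x) * u * (X * x)⁻¹ * (x * u * x⁻¹)⁻¹ := by rw [hcomm]
          _ = X * (d * u) * X⁻¹ * (d * u)⁻¹ := by rw [hd, hf]; group
          _ = (X * d * X⁻¹) * e * d⁻¹ := by rw [he]; group
          _ = e := by rw [hdX, hde]
      have hXe : X * e * X⁻¹ = e := by
        have hc : Commute x e := mul_inv_eq_iff_eq_mul.1 hxe
        rw [hX, (hc.pow_left _).eq, mul_inv_cancel_right]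
      have hpow : ∀ n : ℕ, X ^ n * u * (X ^ n)⁻¹ = e ^ n * u := by
        intro n
        induction n with
        | zero => simp
        | succ n ihn =>
          calc X ^ (n + 1) * u * (X ^ (n + 1))⁻¹ = X * (X ^ n * u * (X ^ n)⁻¹) * X⁻¹ := by
                rw [pow_succ']; group
            _ = (X * e * X⁻¹) ^ n * (X * u * X⁻¹) := by rw [ihn, conj_pow]; group
            _ = e ^ n * (e * u) := by
              rw [hXe, show X * u * X⁻¹ = e * u by rw [he, inv_mul_cancel_right]]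
            _ = e ^ (n + 1) * u := by rw [pow_succ, mul_assoc (e ^ n) e u]
      have h2 := hpow p
      rw [hYel.2 e heY, one_mul, hX, ← pow_mul, ← pow_succ] at h2
      exact h2
  obtain ⟨n, hn⟩ := exists_iterate_mem hL x hx
  refine ⟨n + 1, mem_centralizer_iff.2 fun u hu => ?_⟩
  refine (mul_inv_eq_iff_eq_mul.1 (key (n + 1) u hu ?_)).symm
  rw [Function.iterate_succ_apply']
  show x * _ * x⁻¹ * _⁻¹ = 1
  rw [← mem_centralizer_iff.1 hxc _ ⟨hiter n u hu, hn u⟩, mul_inv_cancel_right, mul_inv_cancel]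

theorem subnormal_reduced {Y K : Subgroup H} (hYn : Y.Normal) (hY : Cfsg.IsPReducedNormal p Y)
    (hK : K.IsSubnormal) (hpow : ∀ x ∈ K, ∃ k : ℕ, x ^ p ^ k ∈ centralizer (Y : Set H)) :
    K ≤ centralizer (Y : Set H) := by
  obtain ⟨-, -, hC, hcore⟩ := hY
  set f := QuotientGroup.mk' (centralizer (Y : Set H))
  have hp : IsPGroup p (K.map f) := by
    rintro ⟨_, x, hx, rfl⟩
    obtain ⟨k, hk⟩ := hpow x hx
    refine ⟨k, Subtype.ext ?_⟩
    show f x ^ p ^ k = 1
    rw [← map_pow]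
    exact (QuotientGroup.eq_one_iff (x ^ p ^ k)).2 hk
  have h := Cfsg.Lib.Core.le_pCore_of_isSubnormal (hK.map (QuotientGroup.mk'_surjective _)) hp
  rw [hcore, le_bot_iff, Subgroup.map_eq_bot_iff, QuotientGroup.ker_mk'] at h
  exact h

theorem largestPReducedOf_top : Cfsg.largestPReducedOf p (⊤ : Subgroup H) ≤ Cfsg.largestPReduced p H := by
  refine Cfsg.Lib.Local.le_largestPReduced (Cfsg.Lib.Local.isPReducedNormal_iff.2
    ⟨normalizer_eq_top_iff.1 (top_le_iff.1 (Cfsg.Lib.Local.normalizer_le_normalizer_largestPReducedOf _)),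
      Cfsg.Lib.Local.largestPReducedOf_isElementaryAbelian _, fun N hN h => ?_⟩)
  exact Cfsg.Lib.Local.le_centralizer_largestPReducedOf le_top
    (by haveI := hN; rw [normalizer_eq_top]) h

theorem mem_of_ppow {A : Subgroup H} {x : H} {k q j : ℕ} (hq : q.Prime) (hqp : q ≠ p)
    (h1 : x ^ p ^ k ∈ A) (h2 : x ^ q ^ j = 1) : x ∈ A := by
  have e := Nat.gcd_eq_gcd_ab (p ^ k) (q ^ j)
  rw [Nat.coprime_iff_gcd_eq_one.1 (Nat.Coprime.pow _ _ ((Nat.coprime_primes Fact.out hq).2 (Ne.symm hqp))),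
    Nat.cast_one] at e
  rw [← zpow_one x, e, zpow_add, zpow_mul, zpow_mul, zpow_natCast, zpow_natCast, h2, one_zpow, mul_one]
  exact zpow_mem h1 _

theorem exists_fixed {T W : Subgroup H} (hT : IsPGroup p T) (hW : IsPGroup p W) (hne : W ≠ ⊥)
    (hTW : T ≤ normalizer (W : Set H)) : ∃ w : H, w ∈ W ∧ w ≠ 1 ∧ ∀ t ∈ T, t * w = w * t := by
  have hP : IsPGroup p ↥(T ⊔ W) := Cfsg.Lib.Local.isPGroup_sup_of_le_normalizer hT hW hTW
  haveI : (W.subgroupOf (T ⊔ W)).Normal :=
    normal_subgroupOf_of_le_normalizer (sup_le hTW Subgroup.le_normalizer)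
  have hz := Cfsg.Lib.PGroup.inf_center_ne_bot hP (N := W.subgroupOf (T ⊔ W)) (fun h => hne (by
    rw [← map_subgroupOf_eq_of_le (le_sup_right : W ≤ T ⊔ W), h, Subgroup.map_bot]))
  obtain ⟨⟨w, hwW, hwc⟩, hw1⟩ := ne_bot_iff_exists_ne_one.1 hz
  exact ⟨(w : H), hwW, fun h => hw1 (Subtype.ext (Subtype.ext h)),
    fun t ht => congrArg Subtype.val (mem_center_iff.1 hwc ⟨t, mem_sup_left ht⟩)⟩

set_option maxHeartbeats 800000 in
/-- The inductive step for a normal subgroup. -/
theorem centralizer_normal {K L : Subgroup H} (hLK : L ≤ K) (hKL : K ≤ normalizer (L : Set H)) :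
    L ⊓ centralizer (Cfsg.largestPReducedOf p K : Set H) ≤
      centralizer (Cfsg.largestPReducedOf p L : Set H) := by
  classical
  suffices h : ∀ W : Subgroup H, W ≤ K → K ≤ normalizer (W : Set H) → Cfsg.IsElementaryAbelian p W →
      (∀ N : Subgroup H, N ≤ L → L ≤ normalizer (N : Set H) →
        (∀ x ∈ N, ∃ k : ℕ, x ^ p ^ k ∈ centralizer (W : Set H)) → N ≤ centralizer (W : Set H)) →
      L ⊓ centralizer (Cfsg.largestPReducedOf p K : Set H) ≤ centralizer (W : Set H) by
    set V := Cfsg.largestPReducedOf p L with hV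
    have hVL : V ≤ L := Cfsg.Lib.Local.largestPReducedOf_le L
    have hred : ∀ N : Subgroup H, N ≤ L → L ≤ normalizer (N : Set H) →
        (∀ x ∈ N, ∃ k : ℕ, x ^ p ^ k ∈ centralizer (V : Set H)) → N ≤ centralizer (V : Set H) :=
      fun N hN hn hp => Cfsg.Lib.Local.le_centralizer_largestPReducedOf hN hn hp
    refine h V (hVL.trans hLK) ?_ (Cfsg.Lib.Local.largestPReducedOf_isElementaryAbelian L) hred
    refine Cfsg.Lib.Core.le_normalizer_iff_conj_mem.mpr fun g hg x hx => ?_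
    have hgL := hKL hg
    have hle : V.map (MulAut.conj g).toMonoidHom ≤ V := by
      have hVg : V.map (MulAut.conj g).toMonoidHom ≤ L := by
        rintro _ ⟨v, hv, rfl⟩
        exact (mem_normalizer_iff.1 hgL v).1 (hVL hv)
      refine Cfsg.Lib.Local.le_largestPReducedOf hVg ?_
        (Cfsg.Lib.Local.isElementaryAbelian_map _ (Cfsg.Lib.Local.largestPReducedOf_isElementaryAbelian L)) ?_
      · refine Cfsg.Lib.Core.le_normalizer_iff_conj_mem.mpr ?_
        rintro l hl _ ⟨v, hv, rfl⟩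
        refine ⟨g⁻¹ * l * g * v * (g⁻¹ * l * g)⁻¹, ?_, by simp [mul_assoc]⟩
        exact (mem_normalizer_iff.1 (Cfsg.Lib.Local.normalizer_le_normalizer_largestPReducedOf L
          (by simpa using (mem_normalizer_iff.1 ((normalizer (L : Set H)).inv_mem hgL) l).1 hl)) v).1 hv
      · intro N hN hn hp n hnN
        have hc : ∀ z : H, z ∈ centralizer ((V.map (MulAut.conj g).toMonoidHom : Subgroup H) : Set H) ↔
            g⁻¹ * z * g ∈ centralizer (V : Set H) := by
          intro z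
          rw [mem_centralizer_iff, mem_centralizer_iff]
          constructor
          · intro hz v hv
            have h1 := hz (g * v * g⁻¹) ⟨v, hv, rfl⟩
            calc v * (g⁻¹ * z * g) = g⁻¹ * (g * v * g⁻¹ * z) * g := by group
              _ = g⁻¹ * (z * (g * v * g⁻¹)) * g := by rw [h1]
              _ = g⁻¹ * z * g * v := by group
          · rintro hz _ ⟨v, hv, rfl⟩
            show g * v * g⁻¹ * z = z * (g * v * g⁻¹)
            calc g * v * g⁻¹ * z = g * (v * (g⁻¹ * z * g)) * g⁻¹ := by group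
              _ = g * (g⁻¹ * z * g * v) * g⁻¹ := by rw [hz v hv]
              _ = z * (g * v * g⁻¹) := by group
        have hginv := (normalizer (L : Set H)).inv_mem hgL
        have h1 : N.comap (MulAut.conj g).toMonoidHom ≤ centralizer (V : Set H) := by
          refine hred _ (fun z hz => ?_) ?_ ?_
          · exact (mem_normalizer_iff.1 hgL z).2 (hN hz)
          · refine Cfsg.Lib.Core.le_normalizer_iff_conj_mem.mpr fun l hl z hz => ?_
            show g * (l * z * l⁻¹) * g⁻¹ ∈ N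
            rw [show g * (l * z * l⁻¹) * g⁻¹ = (g * l * g⁻¹) * (g * z * g⁻¹) * (g * l * g⁻¹)⁻¹ by group]
            exact (mem_normalizer_iff.1 (hn ((mem_normalizer_iff.1 hgL l).1 hl)) _).1 hz
          · intro z hz
            obtain ⟨k, hk⟩ := hp _ hz
            refine ⟨k, ?_⟩
            rw [hc] at hk
            have e : g⁻¹ * (g * z * g⁻¹) ^ p ^ k * g = z ^ p ^ k := by rw [conj_pow]; group
            exact e ▸ hk
        rw [hc]
        exact h1 (show g * (g⁻¹ * n * g) * g⁻¹ ∈ N by simpa [mul_assoc] using hnN)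
    exact hle ⟨x, hx, rfl⟩
  intro W
  induction W using WellFoundedLT.induction with
  | ind W ih =>
  intro hWK hKW hWel hred
  by_cases hKred : ∀ N : Subgroup H, N ≤ K → K ≤ normalizer (N : Set H) →
      (∀ x ∈ N, ∃ k : ℕ, x ^ p ^ k ∈ centralizer (W : Set H)) → N ≤ centralizer (W : Set H)
  · exact inf_le_right.trans (centralizer_le (Cfsg.Lib.Local.le_largestPReducedOf hWK hKW hWel hKred))
  push Not at hKred
  obtain ⟨N, hNK, hNn, hNpow, hNW⟩ := hKred
  set Z := W ⊓ centralizer (N : Set H) with hZ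
  haveI : IsMulCommutative W := hWel.1
  have hWp : IsPGroup p W := Cfsg.Lib.PGroup.isPGroup_of_isElementaryAbelian hWel
  have hKZ : K ≤ normalizer (Z : Set H) :=
    Cfsg.Lib.Core.le_normalizer_iff_conj_mem.mpr fun g hg z hz =>
      ⟨(mem_normalizer_iff.1 (hKW hg) z).1 hz.1,
        (mem_normalizer_iff.1 (Cfsg.Lib.Local.normalizer_le_normalizer_centralizer N (hNn hg)) z).1 hz.2⟩
  have hNL : N ⊓ L ≤ centralizer (W : Set H) :=
    hred _ inf_le_right (Cfsg.Lib.Core.le_normalizer_iff_conj_mem.mpr fun l hl z hz =>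
      ⟨(mem_normalizer_iff.1 (hNn (hLK hl)) z).1 hz.1, L.mul_mem (L.mul_mem hl hz.2) (L.inv_mem hl)⟩)
      fun x hx => hNpow x hx.1
  -- a `p'`-element centralizing `Z` centralizes `W`
  have hpq : ∀ x ∈ L, x ∈ centralizer (Z : Set H) → (orderOf x).Coprime p →
      x ∈ centralizer (W : Set H) := by
    intro x hxL hxZ hxo
    set A := zpowers x with hA
    have hAK : A ≤ K := zpowers_le.2 (hLK hxL)
    have hcop : (Nat.card A).Coprime (Nat.card W) := by
      obtain ⟨j, hj⟩ := hWp.exists_card_eq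
      rw [hA, Nat.card_zpowers, hj]
      exact Nat.Coprime.pow_right j hxo
    have hd := Cfsg.Lib.Coprime.disjoint_commutator_centralizer (A := A) (G := W) (hAK.trans hKW) hcop
    suffices hb : ⁅W, A⁆ = ⊥ by
      rw [Subgroup.commutator_comm, Subgroup.commutator_eq_bot_iff_le_centralizer] at hb
      exact hb (mem_zpowers x)
    by_contra hne
    obtain ⟨S⟩ : Nonempty (Sylow p N) := inferInstance
    set T := (S : Subgroup N).map N.subtype with hT
    have hNT : N ≤ T ⊔ (N ⊓ centralizer (W : Set H)) := by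
      rw [← subgroupOf_eq_top, ← index_eq_one]
      by_contra h1
      obtain ⟨q, hq, hqd⟩ := Nat.exists_prime_and_dvd h1
      haveI : Fact q.Prime := ⟨hq⟩
      by_cases hqp : q = p
      · subst hqp
        exact S.not_dvd_index (hqd.trans (index_dvd_of_le fun y hy => mem_sup_left ⟨y, hy, rfl⟩))
      obtain ⟨Sq⟩ : Nonempty (Sylow q N) := inferInstance
      refine Sq.not_dvd_index (hqd.trans (index_dvd_of_le fun y hy => mem_sup_right ⟨y.2, ?_⟩))
      obtain ⟨j, hj⟩ := Sq.isPGroup' ⟨y, hy⟩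
      obtain ⟨k, hk⟩ := hNpow y y.2
      exact mem_of_ppow hq hqp hk (congrArg (fun t : Sq => ((t : N) : H)) hj)
    set W₁ := ⁅W, A⁆ with hW₁
    have hW₁W : W₁ ≤ W := by
      rw [hW₁, Subgroup.commutator_le]
      intro w hw a ha
      rw [commutatorElement_def, mul_assoc, mul_assoc, ← mul_assoc a]
      exact W.mul_mem hw ((mem_normalizer_iff.1 (hKW (hAK ha)) _).1 (W.inv_mem hw))
    have hTW₁ : T ≤ normalizer (W₁ : Set H) := by
      refine Cfsg.Lib.Core.le_normalizer_iff_conj_mem.mpr fun g hg z hz => ?_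
      have hgN : g ∈ N := map_subtype_le _ hg
      have hle : W₁ ≤ W₁.comap (MulAut.conj g).toMonoidHom := by
        rw [hW₁, Subgroup.commutator_le]
        intro w hw a ha
        have hc : g * a * g⁻¹ * a⁻¹ ∈ centralizer (W : Set H) := hNL ⟨by
            rw [mul_assoc g a, mul_assoc g]
            exact N.mul_mem hgN ((mem_normalizer_iff.1 (hNn (hAK ha)) _).1 (N.inv_mem hgN)), by
            refine L.mul_mem ((mem_normalizer_iff.1 (hKL (hNK hgN)) a).1 ?_) (L.inv_mem ?_) <;>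
              exact zpowers_le.2 hxL ha⟩
        have hw' : g * w * g⁻¹ ∈ W := (mem_normalizer_iff.1 (hKW (hNK hgN)) w).1 hw
        show g * ⁅w, a⁆ * g⁻¹ ∈ W₁
        have e : g * ⁅w, a⁆ * g⁻¹ = ⁅g * w * g⁻¹, a⁆ := by
          set c := g * a * g⁻¹ * a⁻¹ with hcdef
          have h2 : a * (g * w * g⁻¹)⁻¹ * a⁻¹ ∈ W :=
            (mem_normalizer_iff.1 (hKW (hAK ha)) _).1 (W.inv_mem hw')
          calc g * ⁅w, a⁆ * g⁻¹ = g * w * g⁻¹ * (c * (a * (g * w * g⁻¹)⁻¹ * a⁻¹) * c⁻¹) := by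
                rw [hcdef, commutatorElement_def]; group
            _ = g * w * g⁻¹ * (a * (g * w * g⁻¹)⁻¹ * a⁻¹) := by
                rw [← mem_centralizer_iff.1 hc _ h2, mul_inv_cancel_right]
            _ = ⁅g * w * g⁻¹, a⁆ := by rw [commutatorElement_def]; group
        rw [e]
        exact Subgroup.commutator_mem_commutator hw' ha
      exact hle hz
    have hTp : IsPGroup p T := S.isPGroup'.map _
    obtain ⟨w, hwW', hw1, hwT⟩ := exists_fixed hTp (hWp.to_le hW₁W) hne hTW₁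
    have hwN : (w : H) ∈ centralizer (N : Set H) := by
      rw [← zpowers_le, Subgroup.le_centralizer_iff]
      refine hNT.trans (sup_le (fun t ht => ?_) (inf_le_right.trans ?_))
      · refine mem_centralizer_iff.2 fun y hy => ?_
        obtain ⟨i, rfl⟩ := mem_zpowers_iff.1 hy
        have hc : Commute t (w : H) := hwT t ht
        exact (hc.zpow_right i).eq.symm
      · exact centralizer_le (zpowers_le.2 (hW₁W hwW'))
    have h1 : (w : H) ∈ (⊥ : Subgroup H) := by
      refine hd.le_bot ⟨hwW', mem_centralizer_iff.2 fun a ha => ?_⟩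
      exact (mem_centralizer_iff.1 ((zpowers_le.2 hxZ : A ≤ _) ha) (w : H) ⟨hW₁W hwW', hwN⟩).symm
    exact hw1 (Subgroup.mem_bot.1 h1)
  have hLD : L ⊓ centralizer (Z : Set H) ≤ centralizer (W : Set H) := by
    refine hred _ inf_le_left (Cfsg.Lib.Core.le_normalizer_iff_conj_mem.mpr fun l hl z hz =>
      ⟨L.mul_mem (L.mul_mem hl hz.1) (L.inv_mem hl),
        (mem_normalizer_iff.1 (Cfsg.Lib.Local.normalizer_le_normalizer_centralizer Z (hKZ (hLK hl))) z).1 hz.2⟩)
      fun x hx => ?_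
    obtain ⟨a, m, hm, he⟩ :=
      Nat.exists_eq_pow_mul_and_not_dvd (orderOf_pos x).ne' p (Fact.out : p.Prime).ne_one
    refine ⟨a, hpq _ (L.pow_mem hx.1 _) ((centralizer (Z : Set H)).pow_mem hx.2 _) ?_⟩
    refine Nat.Coprime.coprime_dvd_left (orderOf_dvd_of_pow_eq_one ?_)
      ((Fact.out : p.Prime).coprime_iff_not_dvd.mpr hm).symm
    rw [← pow_mul, ← he, pow_orderOf_eq_one]
  have hlt : Z < W := lt_of_le_of_ne inf_le_left fun h =>
    hNW (Subgroup.le_centralizer_iff.1 (h ▸ inf_le_right))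
  have hZres := ih Z hlt (inf_le_left.trans hWK) hKZ
    (Cfsg.Lib.PGroup.isElementaryAbelian_of_le hWel inf_le_left) fun N' hN' hn' hp' =>
      (hred N' hN' hn' fun x hx => by
        obtain ⟨k, hk⟩ := hp' x hx
        exact ⟨k, hLD ⟨L.pow_mem (hN' hx) _, hk⟩⟩).trans (centralizer_le inf_le_left)
  exact le_trans (le_inf inf_le_left hZres) hLD

theorem centralizer_subnormal {L : Subgroup H} (hL : L.IsSubnormal) :
    L ⊓ centralizer (Cfsg.largestPReducedOf p (⊤ : Subgroup H) : Set H) ≤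
      centralizer (Cfsg.largestPReducedOf p L : Set H) := by
  induction hL with
  | top => exact inf_le_right
  | step A K hle _ hN ih =>
    intro x hx
    exact centralizer_normal hle ((normal_subgroupOf_iff_le_normalizer hle).1 hN)
      ⟨hx.1, ih ⟨hle hx.1, hx.2⟩⟩

/-- Let L be a subnormal subgroup of the finite group H, p a prime, Y_H and Y_L the largest p-reduced normal subgroups. Then Y_H ∩ L = Y_H ∩ Y_L and this subgroup is a p-reduced normal subgroup of L; C_L(Y_L) = C_L(Y_H) = C_L(Y_H ∩ L); and if O^p(H) ≤ L, then [Y_L, L] = 1 if and only if [Y_H, H] = 1. -/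
theorem result {H : Type*} [Group H] [Finite H] {p : ℕ} [Fact p.Prime] (L : Subgroup H) (hL : L.IsSubnormal) : Cfsg.largestPReduced p H ⊓ L = Cfsg.largestPReduced p H ⊓ (Cfsg.largestPReducedOf p L) ∧ Cfsg.IsPReducedNormal p ((Cfsg.largestPReduced p H ⊓ L).subgroupOf L) ∧ L ⊓ Subgroup.centralizer ((Cfsg.largestPReducedOf p L : Subgroup H) : Set H) = L ⊓ Subgroup.centralizer (Cfsg.largestPReduced p H : Set H) ∧ L ⊓ Subgroup.centralizer (Cfsg.largestPReduced p H : Set H) = L ⊓ Subgroup.centralizer ((Cfsg.largestPReduced p H ⊓ L : Subgroup H) : Set H) ∧ (Cfsg.pResidual p H ≤ L → (⁅(Cfsg.largestPReducedOf p L), L⁆ = ⊥ ↔ ⁅Cfsg.largestPReduced p H, (⊤ : Subgroup H)⁆ = ⊥)) := by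
  classical
  set Y := Cfsg.largestPReduced p H with hY
  have hYred := Cfsg.Lib.Local.largestPReduced_isPReducedNormal (p := p) (G := H)
  rw [← hY] at hYred
  obtain ⟨hYn, hYel, hYcrit⟩ := Cfsg.Lib.Local.isPReducedNormal_iff.1 hYred
  set YL := Cfsg.largestPReducedOf p L with hYL
  -- `C_L(Y ∩ L) = C_L(Y)`
  have hunip : ∀ x ∈ L, x ∈ centralizer ((Y ⊓ L : Subgroup H) : Set H) →
      ∃ k : ℕ, x ^ p ^ k ∈ centralizer (Y : Set H) := fun x hx hxc => unipotent hYn hYel hL hx hxc
  have hpush : ∀ K : Subgroup H, K.IsSubnormal → (∀ x ∈ K, ∃ k : ℕ, x ^ p ^ k ∈ centralizer (Y : Set H)) →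
      K ≤ centralizer (Y : Set H) := fun K hK hpow => subnormal_reduced hYn hYred hK hpow
  have hCeq : L ⊓ centralizer ((Y ⊓ L : Subgroup H) : Set H) ≤ centralizer (Y : Set H) := by
    refine hpush _ ?_ fun x hx => hunip x hx.1 hx.2
    refine Cfsg.Lib.Core.isSubnormal_of_normal_subgroupOf inf_le_left hL (normal_subgroupOf_of_le_normalizer ?_)
    refine Cfsg.Lib.Core.le_normalizer_iff_conj_mem.mpr fun g hg x hx =>
      ⟨L.mul_mem (L.mul_mem hg hx.1) (L.inv_mem hg), ?_⟩
    refine (mem_normalizer_iff.1 (Cfsg.Lib.Local.normalizer_le_normalizer_centralizer _ ?_) x).1 hx.2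
    exact (show L ≤ normalizer ((Y ⊓ L : Subgroup H) : Set H) from
      Cfsg.Lib.Core.le_normalizer_iff_conj_mem.mpr fun g hg w hw =>
        ⟨hYn.conj_mem w hw.1 g, L.mul_mem (L.mul_mem hg hw.2) (L.inv_mem hg)⟩) hg
  have hYLn : L ≤ normalizer ((Y ⊓ L : Subgroup H) : Set H) :=
    Cfsg.Lib.Core.le_normalizer_iff_conj_mem.mpr fun g hg w hw =>
      ⟨hYn.conj_mem w hw.1 g, L.mul_mem (L.mul_mem hg hw.2) (L.inv_mem hg)⟩
  have hel : Cfsg.IsElementaryAbelian p (Y ⊓ L : Subgroup H) :=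
    Cfsg.Lib.PGroup.isElementaryAbelian_of_le hYel inf_le_left
  have hcrit : ∀ N : Subgroup H, N ≤ L → L ≤ normalizer (N : Set H) →
      (∀ x ∈ N, ∃ k : ℕ, x ^ p ^ k ∈ centralizer ((Y ⊓ L : Subgroup H) : Set H)) →
      N ≤ centralizer ((Y ⊓ L : Subgroup H) : Set H) := by
    intro N hN hn hpow
    refine (hpush N (Cfsg.Lib.Core.isSubnormal_of_normal_subgroupOf hN hL
      (normal_subgroupOf_of_le_normalizer hn)) fun x hx => ?_).trans (centralizer_le inf_le_left)
    obtain ⟨k, hk⟩ := hpow x hx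
    exact ⟨k, hCeq ⟨L.pow_mem (hN hx) _, hk⟩⟩
  have hle : Y ⊓ L ≤ YL := Cfsg.Lib.Local.le_largestPReducedOf inf_le_right hYLn hel hcrit
  have hYLC : L ⊓ centralizer (Y : Set H) ≤ centralizer (YL : Set H) := by
    have h := centralizer_subnormal (p := p) hL
    have hYtop : Cfsg.largestPReducedOf p (⊤ : Subgroup H) ≤ Y := largestPReducedOf_top
    exact (inf_le_inf_left L (centralizer_le hYtop)).trans h
  have h34 : L ⊓ centralizer (YL : Set H) = L ⊓ centralizer (Y : Set H) :=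
    le_antisymm (le_inf inf_le_left ((inf_le_inf_left L (centralizer_le hle)).trans hCeq))
      (le_inf inf_le_left hYLC)
  refine ⟨le_antisymm (le_inf inf_le_left hle)
    (inf_le_inf_left Y (Cfsg.Lib.Local.largestPReducedOf_le L)), ?_, h34,
    le_antisymm (inf_le_inf_left L (centralizer_le inf_le_left)) (le_inf inf_le_left hCeq), ?_⟩
  · refine Cfsg.Lib.Local.isPReducedNormal_iff.2 ⟨normal_subgroupOf_of_le_normalizer hYLn,
      ⟨⟨⟨fun a b => Subtype.ext (Subtype.ext
        (congrArg Subtype.val (hel.1.1.comm ⟨_, a.2⟩ ⟨_, b.2⟩) :))⟩⟩, fun a ha => Subtype.ext (hel.2 _ ha)⟩,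
      fun N hN hpow => ?_⟩
    have h := hcrit (N.map L.subtype) (map_subtype_le _) (by
      refine Cfsg.Lib.Core.le_normalizer_iff_conj_mem.mpr ?_
      rintro g hg _ ⟨y, hy, rfl⟩
      exact ⟨⟨g, hg⟩ * y * ⟨g, hg⟩⁻¹, hN.conj_mem y hy _, rfl⟩) (by
      rintro _ ⟨y, hy, rfl⟩
      obtain ⟨k, hk⟩ := hpow y hy
      exact ⟨k, mem_centralizer_iff.2 fun v hv =>
        congrArg Subtype.val (mem_centralizer_iff.1 hk (⟨v, hv.2⟩ : L) hv)⟩)
    exact fun x hx => mem_centralizer_iff.2 fun v hv =>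
      Subtype.ext (mem_centralizer_iff.1 (h ⟨x, hx, rfl⟩) _ hv)
  · intro hres
    have e1 : ⁅YL, L⁆ = ⊥ ↔ L ≤ centralizer (Y : Set H) := by
      rw [Subgroup.commutator_comm, Subgroup.commutator_eq_bot_iff_le_centralizer]
      constructor
      · exact fun h => le_trans (le_inf le_rfl h) (h34.le.trans inf_le_right)
      · exact fun h => le_trans (le_inf le_rfl h) hYLC
    rw [e1, Subgroup.commutator_comm, Subgroup.commutator_eq_bot_iff_le_centralizer]
    refine ⟨fun h => hYcrit ⊤ inferInstance fun x _ => ?_, fun h => le_top.trans h⟩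
    obtain ⟨k, hk⟩ := Cfsg.Lib.Fusion.exists_pow_mem_pResidual (p := p) x
    exact ⟨k, h (hres hk)⟩

end Cfsg.Agent.S2825
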