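import Cfsg.Statements.S2826
import Cfsg.Agent.Lib.Local.Kieler
import Cfsg.Agent.Lib.Fusion.Basic
-- import your own Cfsg.Agent.* helpers here

set_option autoImplicit false
open Cfsg
open scoped commutatorElement IsMulCommutative

namespace Cfsg.Agent.S2826

/-- Let H be a finite group of characteristic p, T a Sylow p-subgroup, and V a normal elementary abelian p-subgroup of H containing Ω₁(Z(T)). Then C_H(Ω₁(Z(T))) = C_H([V, O^p(H)] ∩ Ω₁(Z(T))), O^p(H) being generated by the elements of order prime to p. -/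
theorem result {H : Type*} [Group H] [Finite H] {p : ℕ} [Fact p.Prime] (hH : Subgroup.centralizer (Cfsg.pCore p H : Set H) ≤ Cfsg.pCore p H) (T : Sylow p H) (V : Subgroup H) [V.Normal] (hV : Cfsg.IsElementaryAbelian p V) (hZV : (Cfsg.omegaOne p ((T : Subgroup H) ⊓ Subgroup.centralizer (((T : Subgroup H) : Subgroup H) : Set H))) ≤ V) : Subgroup.centralizer ((Cfsg.omegaOne p ((T : Subgroup H) ⊓ Subgroup.centralizer (((T : Subgroup H) : Subgroup H) : Set H))) : Set H) = Subgroup.centralizer (((⁅V, Cfsg.pResidual p H⁆ ⊓ (Cfsg.omegaOne p ((T : Subgroup H) ⊓ Subgroup.centralizer (((T : Subgroup H) : Subgroup H) : Set H)))) : Subgroup H) : Set H) := by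
  classical
  set K := Cfsg.pResidual p H
  haveI : K.Normal := Cfsg.Lib.Fusion.pResidual_normal p H
  set R : Subgroup H := (T : Subgroup H)
  set W := ⁅V, K⁆
  refine le_antisymm (Subgroup.centralizer_le fun x hx => (Subgroup.mem_inf.mp hx).2) ?_
  set C := Subgroup.centralizer ((W ⊓ Cfsg.omegaOne p (R ⊓ Subgroup.centralizer (R : Set H)) : Subgroup H) : Set H)
    with hC
  intro c hc
  refine Subgroup.mem_centralizer_iff.mpr fun z hz => ?_
  haveI : IsMulCommutative ↥V := hV.1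
  have hCV : C ≤ Subgroup.normalizer (V : Set H) := (Subgroup.normalizer_eq_top (H := V)).ge.trans' le_top
  have hTC : R ≤ C := fun t ht => Subgroup.mem_centralizer_iff.mpr fun x hx =>
    (Cfsg.Lib.Local.comm_of_mem_omegaZ (Subgroup.mem_inf.mp hx).2 ht).symm
  have hm : ¬ p ∣ R.relIndex C := fun hd =>
    T.not_dvd_index (hd.trans (Subgroup.relIndex_dvd_index_of_le hTC))
  set v : ↥V := ⟨z, hZV hz⟩
  set N := Cfsg.Lib.Local.normHom R hCV v with hN
  have hvfix : ∀ s ∈ R, s * (v : H) = v * s := fun s hs => Cfsg.Lib.Local.comm_of_mem_omegaZ hz hs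
  have hNfix : ∀ a ∈ C, a * (N : H) = N * a := fun a ha => Cfsg.Lib.Local.normHom_fixed hvfix ha
  set w : ↥V := v ^ R.relIndex C * N⁻¹ with hw
  have hwW : (w : H) ∈ W := by
    haveI := Fintype.ofFinite (↥C ⧸ R.subgroupOf C)
    have h : w = ∏ q : ↥C ⧸ R.subgroupOf C, v * (Cfsg.Lib.Coprime.conjHom hCV q.out v)⁻¹ := by
      rw [Finset.prod_mul_distrib, Finset.prod_inv_distrib, Finset.prod_const, Finset.card_univ,
        ← Cfsg.Lib.Local.normHom_apply, ← Nat.card_eq_fintype_card]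
      rfl
    rw [h]
    refine (Subgroup.prod_mem (W.subgroupOf V) fun q _ => ?_ : _ ∈ W.subgroupOf V)
    show (v : H) * ((q.out : H) * v * (q.out : H)⁻¹)⁻¹ ∈ W
    obtain ⟨x, hx, k, hk, he⟩ := Cfsg.Lib.Fusion.exists_mul_of_sylow T (q.out : H)
    have hk' : x * k * x⁻¹ ∈ K := (inferInstance : K.Normal).conj_mem k hk x
    have h1 := Subgroup.commutator_mem_commutator v.2 hk' (H₁ := V) (H₂ := K)
    rw [commutatorElement_def] at h1
    have h2 : (q.out : H) * v * (q.out : H)⁻¹ = (x * k * x⁻¹) * v * (x * k * x⁻¹)⁻¹ := by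
      calc (q.out : H) * v * (q.out : H)⁻¹ = (x * k * x⁻¹) * (x * v) * x⁻¹ * (x * k * x⁻¹)⁻¹ := by
            rw [he]; group
        _ = _ := by rw [hvfix x hx]; group
    rw [h2]
    simpa [mul_assoc] using h1
  have hvp : v ^ p = 1 := Subtype.ext (Cfsg.Lib.Local.omegaZ_pow hz)
  have hwp : (w : H) ^ p = 1 := hV.2 _ w.2
  have hwS : ∀ s ∈ R, s * (w : H) = w * s := fun s hs => by
    have h1 : Commute s (v : H) := hvfix s hs
    have h2 : Commute s (N : H) := hNfix s (hTC hs)
    rw [hw, Subgroup.coe_mul, Subgroup.coe_inv, SubgroupClass.coe_pow]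
    exact ((h1.pow_right _).mul_right h2.inv_right).eq
  have hwR : (w : H) ∈ R := by
    refine Cfsg.Lib.Core.pCore_le_sylow T (Cfsg.Lib.Core.le_pCore (N := V) ?_ w.2)
    exact fun x => ⟨1, Subtype.ext (by simpa using hV.2 x x.2)⟩
  have hwZ := Cfsg.Lib.Local.mem_omegaZ hwR hwS hwp
  have hcw : Commute c (w : H) :=
    (Subgroup.mem_centralizer_iff.mp hc w (Subgroup.mem_inf.mpr ⟨hwW, hwZ⟩)).symm
  refine (Cfsg.Lib.Local.commute_of_pow_coprime (Cfsg.Lib.Local.omegaZ_pow hz) hm ?_).symm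
  have hvm : z ^ R.relIndex C = (w : H) * (N : H) := by
    rw [← Subgroup.coe_mul, hw, inv_mul_cancel_right, SubgroupClass.coe_pow]
  rw [hvm]
  exact (hcw.mul_right (hNfix c hc)).eq

end Cfsg.Agent.S2826
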