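import Cfsg.Statements.S2827
import Cfsg.Agent.Lib.Local.YMinimal
-- import your own Cfsg.Agent.* helpers here

set_option autoImplicit false
open Cfsg

namespace Cfsg.Agent.S2827

/-- Let H be a finite p-irreducible group (not p-closed, and O^p(H) lies in every normal subgroup that is not p-closed) and T a Sylow p-subgroup. Then H is generated by the conjugates of T and H = H'·T; O^p(H) ≤ H'; and for every normal subgroup Y of T not contained in O_p(H), O^p(H) = [O^p(H), Y] and O^p(H) is contained in the normal closure of Y in H. -/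
theorem result {H : Type*} [Group H] [Finite H] {p : ℕ} [Fact p.Prime] (hH : Cfsg.IsPIrreducible p H) (T : Sylow p H) : Subgroup.normalClosure ((T : Subgroup H) : Set H) = ⊤ ∧ commutator H ⊔ (T : Subgroup H) = ⊤ ∧ Cfsg.pResidual p H ≤ commutator H ∧ ∀ Y : Subgroup H, Y ≤ (T : Subgroup H) → (T : Subgroup H) ≤ Subgroup.normalizer (Y : Set H) → ¬ Y ≤ Cfsg.pCore p H → ⁅Cfsg.pResidual p H, Y⁆ = Cfsg.pResidual p H ∧ Cfsg.pResidual p H ≤ Subgroup.normalClosure (Y : Set H) := by
  set R := Cfsg.pResidual p H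
  have hYnc : ∀ {Y N : Subgroup H}, IsPGroup p ↥Y → ¬ Y ≤ Cfsg.pCore p H → N.Normal → Y ≤ N →
      R ≤ N := fun {Y N} hYp hY hN hle =>
    hH.2 N hN fun hc => hY ((Lib.Local.isPClosed_subnormal_iff hN.isSubnormal).mp hc Y hle hYp)
  have hTn : ¬ (T : Subgroup H) ≤ Cfsg.pCore p H := fun h => hH.1
    (Lib.Local.isPClosed_iff_le.mpr fun P hP => by
      obtain ⟨S, hS⟩ := hP.exists_le_sylow
      obtain ⟨g, rfl⟩ := MulAction.exists_smul_eq H T S
      intro x hx
      obtain ⟨t, ht, rfl⟩ := hS hx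
      exact (inferInstance : (Cfsg.pCore p H).Normal).conj_mem t (h ht) g)
  have htop : ∀ N : Subgroup H, N.Normal → (T : Subgroup H) ≤ N → N = ⊤ := fun N hN hle =>
    top_le_iff.mp ((Lib.Fusion.sylow_sup_pResidual T).ge.trans
      (sup_le hle (hYnc T.2 hTn hN hle)))
  have h1 : Subgroup.normalClosure ((T : Subgroup H) : Set H) = ⊤ :=
    htop _ Subgroup.normalClosure_normal Subgroup.subset_normalClosure
  have h2 : commutator H ⊔ (T : Subgroup H) = ⊤ :=
    htop _ (Subgroup.Normal.of_commutator_le H le_sup_left) le_sup_right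
  refine ⟨h1, h2, Lib.Fusion.pResidual_le_of_isPGroup_quotient _
    (Lib.Local.isPGroup_quotient_of_sup_eq_top T.2 h2), fun Y hYT hTY hY => ?_⟩
  have hYp : IsPGroup p ↥Y := T.2.to_le hYT
  obtain ⟨hn1, hn2⟩ := Lib.Local.commutator_normal_of_sup_eq_top (R := R)
    (Lib.Fusion.sylow_sup_pResidual T) hTY
  refine ⟨le_antisymm (Subgroup.commutator_le_left _ _)
    (Lib.Local.pResidual_le_of_le_sup hYp (hYnc hYp hY hn2 le_sup_right)),
    hYnc hYp hY Subgroup.normalClosure_normal Subgroup.subset_normalClosure⟩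

end Cfsg.Agent.S2827
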