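import Cfsg.Statements.S2830
import Cfsg.Agent.Lib.Local.YMinimal
-- import your own Cfsg.Agent.* helpers here

set_option autoImplicit false
open Cfsg

namespace Cfsg.Agent.S2830

/-- Let H act by conjugation on the elementary abelian p-subgroup V of a finite group G (H ≤ N(V)), with H p-irreducible and O^p(H) not centralizing V. Then C_H(V) is p-closed and C_T(V) ≤ O_p(H) for every p-subgroup T of H. If in addition O_p(H) centralizes V, then C_T(V) = T ∩ O_p(H) for every p-subgroup T of H, and V is p-reduced for H: O_p(H/C_H(V)) = 1. -/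
theorem result {G : Type*} [Group G] [Finite G] {p : ℕ} [Fact p.Prime] (V H : Subgroup G) (hV : Cfsg.IsElementaryAbelian p V) (hHV : H ≤ Subgroup.normalizer (V : Set G)) (hH : Cfsg.IsPIrreducible p ↥H) (hnc : ¬ (Cfsg.pResidual p ↥H).map H.subtype ≤ Subgroup.centralizer (V : Set G)) [hn : ((Subgroup.centralizer (V : Set G)).subgroupOf H).Normal] : Cfsg.IsPClosed p ↥(H ⊓ Subgroup.centralizer (V : Set G)) ∧ (∀ T : Subgroup G, T ≤ H → IsPGroup p ↥T → T ⊓ Subgroup.centralizer (V : Set G) ≤ Cfsg.pCoreOf p H) ∧ (Cfsg.pCoreOf p H ≤ Subgroup.centralizer (V : Set G) → (∀ T : Subgroup G, T ≤ H → IsPGroup p ↥T → T ⊓ Subgroup.centralizer (V : Set G) = T ⊓ Cfsg.pCoreOf p H) ∧ Cfsg.pCore p (↥H ⧸ (Subgroup.centralizer (V : Set G)).subgroupOf H) = ⊥) := by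
  set C := Subgroup.centralizer (V : Set G)
  set N := C.subgroupOf H
  have hR : ¬ Cfsg.pResidual p ↥H ≤ N := fun h => hnc (Subgroup.map_le_iff_le_comap.mpr h)
  have hNc : Cfsg.IsPClosed p ↥N := by
    by_contra hc
    exact hR (hH.2 N hn hc)
  have hPle := (Lib.Local.isPClosed_subnormal_iff hn.isSubnormal).mp hNc
  have hT : ∀ T : Subgroup G, T ≤ H → IsPGroup p ↥T → T ⊓ C ≤ Cfsg.pCoreOf p H := by
    intro T hTH hTp
    have h1 := Subgroup.map_mono (f := H.subtype) (hPle ((T ⊓ C).subgroupOf H)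
      (Subgroup.comap_mono inf_le_right)
      ((hTp.to_le inf_le_left).comap_of_injective H.subtype H.subtype_injective))
    rwa [Subgroup.map_subgroupOf_eq_of_le (inf_le_left.trans hTH)] at h1
  refine ⟨?_, hT, fun hO => ⟨fun T hTH hTp => le_antisymm (le_inf inf_le_left (hT T hTH hTp))
    (le_inf inf_le_left (inf_le_right.trans hO)), ?_⟩⟩
  · have e : N.map H.subtype = H ⊓ C := by
      rw [Subgroup.subgroupOf_map_subtype, inf_comm]
    exact (Lib.Local.isPClosed_congr
      ((N.equivMapOfInjective _ H.subtype_injective).trans (MulEquiv.subgroupCongr e))).mp hNc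
  · have hON : Cfsg.pCore p ↥H ≤ N := fun x hx => hO ⟨x, hx, rfl⟩
    set f := QuotientGroup.mk' N
    set K := (Cfsg.pCore p (↥H ⧸ N)).comap f
    have hf : Function.Surjective f := QuotientGroup.mk'_surjective N
    suffices hKN : K ≤ N by
      rw [← Subgroup.map_comap_eq_self_of_surjective hf (Cfsg.pCore p (↥H ⧸ N))]
      rw [eq_bot_iff, ← QuotientGroup.map_mk'_self N]
      exact Subgroup.map_mono hKN
    have hNK : N ≤ K := fun x hx => by
      have : f x = 1 := (QuotientGroup.eq_one_iff x).mpr hx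
      show f x ∈ Cfsg.pCore p (↥H ⧸ N)
      rw [this]; exact one_mem _
    have hKc : Cfsg.IsPClosed p ↥K := by
      by_contra hc
      refine hR fun x hx => ?_
      have hRK := hH.2 K inferInstance hc
      revert x
      show Cfsg.pResidual p ↥H ≤ N
      rw [Cfsg.pResidual, Subgroup.closure_le]
      intro x hx
      have h1 := Lib.Local.orderOf_eq_one_of_coprime_mem (Lib.Core.pCore_isPGroup p (↥H ⧸ N))
        (hRK (Lib.Fusion.mem_pResidual_of_coprime hx) : f x ∈ _)
        (Nat.Coprime.coprime_dvd_left (orderOf_map_dvd f x) hx)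
      exact (QuotientGroup.eq_one_iff x).mp h1
    intro x hx
    let P : Sylow p ↥K := Classical.arbitrary _
    have hP : (P : Subgroup ↥K).map K.subtype ≤ N :=
      ((Lib.Local.isPClosed_subnormal_iff (Subgroup.Normal.isSubnormal inferInstance)).mp hKc _
        (Subgroup.map_subtype_le _) (P.2.map _)).trans hON
    haveI : (N.subgroupOf K).Normal := Subgroup.normal_subgroupOf
    have hidx : ∃ k : ℕ, (N.subgroupOf K).index = p ^ k := by
      obtain ⟨k, hk⟩ := IsPGroup.iff_card.mp (Lib.Core.pCore_isPGroup p (↥H ⧸ N))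
      suffices h : (N.subgroupOf K).index ∣ p ^ k by
        exact ((Nat.dvd_prime_pow Fact.out).mp h).imp fun _ h => h.2
      rw [← hk]
      have h1 := Subgroup.relIndex_map_map (K := K) (H := N) f
      have hker : f.ker = N := QuotientGroup.ker_mk' N
      rw [hker, sup_idem, sup_eq_left.mpr hNK, QuotientGroup.map_mk'_self,
        Subgroup.map_comap_eq_self_of_surjective hf, Subgroup.relIndex_bot_left] at h1
      exact h1 ▸ dvd_rfl
    have hall := Lib.Fusion.sylow_sup_eq_top P _ hidx
    have hle : (P : Subgroup ↥K) ⊔ N.subgroupOf K ≤ N.subgroupOf K :=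
      sup_le (fun y hy => hP ⟨y, hy, rfl⟩) le_rfl
    exact hle (hall ▸ Subgroup.mem_top (⟨x, hx⟩ : ↥K))

end Cfsg.Agent.S2830
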