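import Cfsg.Statements.S2832
import Cfsg.Agent.Lib.Local.YMinimal
-- import your own Cfsg.Agent.* helpers here

set_option autoImplicit false
open Cfsg

namespace Cfsg.Agent.S2832

/-- Let H be a finite group with Sylow p-subgroup T such that H is T-minimal (generated by the conjugates of T, with T in exactly one maximal subgroup), and let N be a normal subgroup of H. Then either H/N is a p-group or H/N is minimal over the image of T in the same sense. -/
theorem result {H : Type*} [Group H] [Finite H] {p : ℕ} [Fact p.Prime] (T : Sylow p H) (hmin : Cfsg.IsMinimalOver (T : Subgroup H)) (N : Subgroup H) [N.Normal] : IsPGroup p (H ⧸ N) ∨ Cfsg.IsMinimalOver ((T : Subgroup H).map (QuotientGroup.mk' N)) := by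
  set f := QuotientGroup.mk' N with hfdef
  have hf : Function.Surjective f := QuotientGroup.mk'_surjective N
  by_cases htop : N ⊔ (T : Subgroup H) = ⊤
  · exact Or.inl (Lib.Local.isPGroup_quotient_of_sup_eq_top T.2 htop)
  right
  refine ⟨?_, ?_⟩
  · rw [Subgroup.coe_map, ← Subgroup.map_normalClosure _ f hf, hmin.1,
      Subgroup.map_top_of_surjective f hf]
  obtain ⟨M, ⟨hM, hTM⟩, hu⟩ := hmin.2
  obtain ⟨K, hK, hle⟩ := (eq_top_or_exists_le_coatom _).resolve_left htop
  obtain rfl := hu K ⟨hK, le_sup_right.trans hle⟩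
  have hKf : (K.map f).comap f = K := by
    rw [Subgroup.comap_map_eq, QuotientGroup.ker_mk', sup_eq_left.mpr (le_sup_left.trans hle)]
  refine ⟨K.map f, ⟨⟨fun ht => hK.1 (by rw [← hKf, ht, Subgroup.comap_top]), fun R hR => ?_⟩,
    Subgroup.map_mono hTM⟩, ?_⟩
  · have h1 : K < R.comap f := hKf ▸ (Subgroup.comap_lt_comap_of_surjective hf).mpr hR
    rw [← Subgroup.map_comap_eq_self_of_surjective hf R, hM.2 _ h1,
      Subgroup.map_top_of_surjective f hf]
  · rintro R ⟨hR, hTR⟩
    rw [← hu (R.comap f) ⟨Subgroup.isCoatom_comap_of_surjective hf hR,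
      Subgroup.map_le_iff_le_comap.mp hTR⟩, Subgroup.map_comap_eq_self_of_surjective hf R]

end Cfsg.Agent.S2832
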