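import Cfsg.Statements.S2833
import Cfsg.Agent.Lib.Local.Basic
-- import your own Cfsg.Agent.* helpers here

set_option autoImplicit false
open Cfsg
open scoped commutatorElement

namespace Cfsg.Agent.S2833

/-- Let V be a subgroup of a finite group G normalized by the subgroup L, let X ≤ L and g ∈ L with [V, X, X] = 1 and L generated by X and gXg⁻¹. Put W = [V, L]. Then W = [V, X]·[V, gXg⁻¹], C_W(X) = [V, X], and C_W(L) = [V, X] ∩ [V, gXg⁻¹]. -/
theorem result {G : Type*} [Group G] [Finite G] (V L : Subgroup G) (hLV : L ≤ Subgroup.normalizer (V : Set G)) (X : Subgroup G) (hX : X ≤ L) (g : G) (hg : g ∈ L) (hq : ⁅⁅V, X⁆, X⁆ = ⊥) (hgen : X ⊔ X.map (MulAut.conj g).toMonoidHom = L) (W : Subgroup G) (hW : W = ⁅V, L⁆) : ⁅V, X⁆ ⊔ ⁅V, X.map (MulAut.conj g).toMonoidHom⁆ = W ∧ W ⊓ Subgroup.centralizer (X : Set G) = ⁅V, X⁆ ∧ W ⊓ Subgroup.centralizer (L : Set G) = ⁅V, X⁆ ⊓ ⁅V, X.map (MulAut.conj g).toMonoidHom⁆ := by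
  subst hW
  set Y := X.map (MulAut.conj g).toMonoidHom with hYdef
  set A := ⁅V, X⁆ with hAdef
  set B := ⁅V, Y⁆ with hBdef
  have hYL : Y ≤ L := hgen ▸ le_sup_right
  have hgV : g ∈ Subgroup.normalizer (V : Set G) := hLV hg
  have hXV : X ≤ Subgroup.normalizer (V : Set G) := hX.trans hLV
  have hYV : Y ≤ Subgroup.normalizer (V : Set G) := hYL.trans hLV
  have hVmap : V.map (MulAut.conj g).toMonoidHom = V := Subgroup.mem_normalizer_iff_map_conj_eq.mp hgV
  have hBmap : B = A.map (MulAut.conj g).toMonoidHom := by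
    rw [hBdef, hAdef, Subgroup.map_commutator, hVmap]
  have hXA : X ≤ Subgroup.centralizer (A : Set G) :=
    Subgroup.le_centralizer_iff.mp (Subgroup.commutator_eq_bot_iff_le_centralizer.mp hq)
  have hYB : Y ≤ Subgroup.centralizer (B : Set G) := by
    refine Subgroup.le_centralizer_iff.mp (Subgroup.commutator_eq_bot_iff_le_centralizer.mp ?_)
    rw [hBmap, hYdef, ← Subgroup.map_commutator, hq, Subgroup.map_bot]
  have hAV : A ≤ V := Cfsg.Lib.Coprime.commutator_le_of_le_normalizer hXV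
  have hBV : B ≤ V := Cfsg.Lib.Coprime.commutator_le_of_le_normalizer hYV
  have hnorm : ∀ Z : Subgroup G, V ≤ Subgroup.normalizer ((⁅V, Z⁆ : Subgroup G) : Set G) := by
    intro Z v hv
    refine Subgroup.mem_normalizer_fintype fun n hn => ?_
    induction hn using Subgroup.closure_induction with
    | mem x hx =>
      obtain ⟨u, hu, z, hz, rfl⟩ := hx
      have e : v * ⁅u, z⁆ * v⁻¹ = ⁅v * u, z⁆ * ⁅v, z⁆⁻¹ := by
        simp only [commutatorElement_def]; group
      rw [e]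
      exact mul_mem (Subgroup.commutator_mem_commutator (mul_mem hv hu) hz)
        (inv_mem (Subgroup.commutator_mem_commutator hv hz))
    | one => simp
    | mul x y _ _ hx hy => rw [← conj_mul]; exact mul_mem hx hy
    | inv x _ hx => rw [← conj_inv]; exact inv_mem hx
  have hD : ∀ Z : Subgroup G, Z ≤ Subgroup.normalizer (V : Set G) → ⁅V, Z⁆ ≤ A ⊔ B →
      Z ≤ Subgroup.normalizer ((A ⊔ B : Subgroup G) : Set G) := by
    intro Z hZV hZD z hz
    refine Subgroup.mem_normalizer_fintype fun n hn => ?_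
    have hnV : n ∈ V := sup_le hAV hBV hn
    have h1 : (⁅n, z⁆)⁻¹ ∈ A ⊔ B := inv_mem (hZD (Subgroup.commutator_mem_commutator hnV hz))
    have e : z * n * z⁻¹ = (⁅n, z⁆)⁻¹ * n := by simp only [commutatorElement_def]; group
    rw [e]; exact mul_mem h1 hn
  have hW : ⁅V, L⁆ = A ⊔ B := by
    refine le_antisymm ?_ (sup_le (Subgroup.commutator_mono le_rfl hX) (Subgroup.commutator_mono le_rfl hYL))
    refine (Cfsg.Lib.Local.le_chainStab_iff.mp ?_).2
    rw [← hgen]
    exact sup_le (Cfsg.Lib.Local.le_chainStab_iff.mpr ⟨hD X hXV le_sup_left, le_sup_left⟩)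
      (Cfsg.Lib.Local.le_chainStab_iff.mpr ⟨hD Y hYV le_sup_right, le_sup_right⟩)
  have hLC : ∀ b : G, b ∈ Subgroup.centralizer (X : Set G) → b ∈ Subgroup.centralizer (Y : Set G) →
      ∀ l ∈ L, l * b = b * l := fun b h1 h2 l hl => by
    have : L ≤ Subgroup.centralizer ({b} : Set G) := by
      rw [← hgen]
      exact sup_le (fun x hx => Subgroup.mem_centralizer_singleton_iff.mpr
        (Subgroup.mem_centralizer_iff.mp h1 x hx)) (fun x hx => Subgroup.mem_centralizer_singleton_iff.mpr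
        (Subgroup.mem_centralizer_iff.mp h2 x hx))
    exact Subgroup.mem_centralizer_singleton_iff.mp (this hl)
  have hfix : ∀ b ∈ B, (∀ l ∈ L, l * b = b * l) → b ∈ A := fun b hb hc => by
    rw [hBmap] at hb
    obtain ⟨a, ha, rfl⟩ := hb
    simp only [MulEquiv.coe_toMonoidHom, MulAut.conj_apply] at hc ⊢
    have h1 := hc g hg
    have : g * a * g⁻¹ = a := by
      calc g * a * g⁻¹ = g⁻¹ * (g * (g * a * g⁻¹)) := by group
        _ = g⁻¹ * ((g * a * g⁻¹) * g) := by rw [h1]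
        _ = a := by group
    rwa [this]
  have hCX : ⁅V, L⁆ ⊓ Subgroup.centralizer (X : Set G) = A := by
    refine le_antisymm ?_ (le_inf (hW ▸ le_sup_left) (Subgroup.le_centralizer_iff.mp hXA))
    rintro w ⟨hw, hwC⟩
    rw [hW] at hw
    replace hw : w ∈ ((A ⊔ B : Subgroup G) : Set G) := hw
    rw [Subgroup.coe_mul_of_right_le_normalizer_left A B (hBV.trans (hnorm X))] at hw
    obtain ⟨a, ha, b, hb, rfl⟩ := Set.mem_mul.mp hw
    have hbC : b ∈ Subgroup.centralizer (X : Set G) :=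
      ((Subgroup.centralizer (X : Set G)).mul_mem_cancel_left
        (Subgroup.le_centralizer_iff.mp hXA ha)).mp hwC
    exact mul_mem ha (hfix b hb (hLC b hbC (Subgroup.le_centralizer_iff.mp hYB hb)))
  refine ⟨hW.symm, hCX, le_antisymm ?_ ?_⟩
  · rintro w ⟨hw, hwC⟩
    have hwA : w ∈ A := hCX.le ⟨hw, Subgroup.centralizer_le hX hwC⟩
    refine ⟨hwA, ?_⟩
    show w ∈ B
    rw [hBmap]
    refine ⟨w, hwA, ?_⟩
    simp only [MulEquiv.coe_toMonoidHom, MulAut.conj_apply]
    rw [Subgroup.mem_centralizer_iff.mp hwC g hg, mul_inv_cancel_right]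
  · rintro w ⟨hwA, hwB⟩
    exact ⟨hW ▸ Subgroup.mem_sup_left hwA, Subgroup.mem_centralizer_iff.mpr
      (hLC w (Subgroup.le_centralizer_iff.mp hXA hwA) (Subgroup.le_centralizer_iff.mp hYB hwB))⟩

end Cfsg.Agent.S2833
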