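import Cfsg.Statements.S2834
import Cfsg.Agent.Lib.Invol.BaerSuzuki
import Cfsg.Agent.Lib.Local.WeaklyClosed
import Cfsg.Agent.Lib.Core.Cores
-- import your own Cfsg.Agent.* helpers here

set_option autoImplicit false
open Cfsg

namespace Cfsg.Agent.S2834
open Subgroup

/-- The L-Lemma: let H be a finite group with Sylow p-subgroup T such that H is T-minimal (generated by the conjugates of T, T in exactly one maximal subgroup M), and let A ≤ T with A not contained in O_p(H). Then there is a subgroup L of H containing A·O_p(H) such that (a) A·O_p(L) lies in exactly one maximal subgroup L₀ of L, and L₀ = L ∩ gMg⁻¹ for some g ∈ H; (b) L = ⟨A, xAx⁻¹⟩·O_p(L) for every x ∈ L outside L₀. -/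
theorem result {H : Type*} [Group H] [Finite H] {p : ℕ} [Fact p.Prime] (T : Sylow p H) (hmin : Cfsg.IsMinimalOver (T : Subgroup H)) (M : Subgroup H) (hM : IsCoatom M ∧ (T : Subgroup H) ≤ M) (A : Subgroup H) (hAT : A ≤ (T : Subgroup H)) (hA : ¬ A ≤ Cfsg.pCore p H) : ∃ L : Subgroup H, A ⊔ Cfsg.pCore p H ≤ L ∧ ∃ L₀ : Subgroup H, A ⊔ (Cfsg.pCoreOf p L) ≤ L₀ ∧ L₀ < L ∧ (∀ X : Subgroup H, A ⊔ (Cfsg.pCoreOf p L) ≤ X → X < L → X ≤ L₀) ∧ (∃ g : H, L₀ = L ⊓ ((M : Subgroup H).map (MulAut.conj (g : H)).toMonoidHom)) ∧ ∀ x ∈ L, x ∉ L₀ → (A ⊔ ((A : Subgroup H).map (MulAut.conj (x : H)).toMonoidHom)) ⊔ (Cfsg.pCoreOf p L) = L := by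
  classical
  obtain ⟨hMc, hTM⟩ := hM
  set Q := Cfsg.pCore p H with hQ
  haveI hQn : Q.Normal := hQ ▸ inferInstance
  have hQp : IsPGroup p Q := Cfsg.Lib.Core.pCore_isPGroup p H
  obtain ⟨hgen, Mu, hMu, huniq⟩ := hmin
  let cj : H → Subgroup H → Subgroup H := fun g K => K.map (MulAut.conj g).toMonoidHom
  have hcjmul : ∀ a b K, cj a (cj b K) = cj (a * b) K := fun a b K =>
    Cfsg.Lib.Invol.map_conj_map_conj K a b
  have hcj1 : ∀ K, cj 1 K = K := fun K => Cfsg.Lib.Local.map_conj_one K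
  have hcjle : ∀ g {K L : Subgroup H}, K ≤ L → cj g K ≤ cj g L := fun g _ _ h => map_mono h
  have hcjc : ∀ g {K : Subgroup H}, IsCoatom K → IsCoatom (cj g K) := fun g K h =>
    (OrderIso.isCoatom_iff (MulAut.conj g).mapSubgroup K).mpr h
  have hcjQ : ∀ g, cj g Q = Q := fun g =>
    Cfsg.Lib.Core.map_conj_eq_of_mem_normalizer (by rw [normalizer_eq_top]; exact mem_top g)
  -- the unique coatom over a Sylow subgroup
  have hU : ∀ (S : Sylow p H) (X : Subgroup H) (g : H), IsCoatom X → (S : Subgroup H) ≤ X →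
      (S : Subgroup H) ≤ cj g M → X = cj g M := by
    intro S X g hX h1 h2
    obtain ⟨k, rfl⟩ := MulAction.exists_smul_eq H T S
    have e : ∀ {Y : Subgroup H}, IsCoatom Y → ((k • T : Sylow p H) : Subgroup H) ≤ Y → Y = cj k M := by
      intro Y hY hle
      have h3 : (T : Subgroup H) ≤ cj k⁻¹ Y := by
        have h4 : cj k⁻¹ (cj k (T : Subgroup H)) ≤ cj k⁻¹ Y := hcjle k⁻¹ hle
        rwa [hcjmul, inv_mul_cancel, hcj1] at h4
      have h5 := (huniq _ ⟨hcjc k⁻¹ hY, h3⟩).trans (huniq M ⟨hMc, hTM⟩).symm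
      rw [← h5, hcjmul, mul_inv_cancel, hcj1]
    exact (e hX h1).trans (e (hcjc g hMc) h2).symm
  have hQS : ∀ S : Sylow p H, Q ≤ (S : Subgroup H) := fun S => Cfsg.Lib.Core.pCore_le_sylow S
  -- generated part of a subgroup
  let fam : Subgroup H → Set (Subgroup H) := fun K => Cfsg.Lib.Invol.conjugatesIn A K
  let gn : Subgroup H → Subgroup H := fun K => Q ⊔ sSup (fam K)
  have hgn_le : ∀ {K}, Q ≤ K → gn K ≤ K := fun {K} h => sup_le h (sSup_le fun Y hY => hY.1)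
  have hAp : IsPGroup p A := T.isPGroup'.to_le hAT
  -- a maximal generated `p`-subgroup in two conjugates of `M`
  have hQmem : Q ∈ {R : Subgroup H | IsPGroup p R ∧ gn R = R ∧
      ∃ a b, cj a M ≠ cj b M ∧ R ≤ cj a M ∧ R ≤ cj b M} := by
    refine ⟨hQp, le_antisymm (hgn_le le_rfl) le_sup_left, ?_⟩
    have hex : ∃ g, cj g M ≠ cj 1 M := by
      by_contra! hall
      have hMn : M.Normal := ⟨fun x hx g => by
        have h1 := hall g
        rw [hcj1] at h1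
        exact h1.le ⟨x, hx, rfl⟩⟩
      exact hMc.1 (top_le_iff.1 (hgen ▸ normalClosure_le_normal hTM))
    obtain ⟨g, hg⟩ := hex
    exact ⟨g, 1, hg, (hQS (g • T)).trans (hcjle g hTM), (hQS T).trans (by rw [hcj1]; exact hTM)⟩
  obtain ⟨R, -, hR⟩ := (Set.toFinite _).exists_le_maximal hQmem
  obtain ⟨hRp, hRgn, a, b, hab, hRa, hRb⟩ := hR.1
  have hQR : Q ≤ R := hRgn ▸ le_sup_left
  -- enlarging `R` leaves a single conjugate
  have hone : ∀ Y : Subgroup H, (∃ g, cj g A = Y) → Y ≤ normalizer (R : Set H) → ¬ Y ≤ R →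
      ∀ c d, R ⊔ Y ≤ cj c M → R ⊔ Y ≤ cj d M → cj c M = cj d M := by
    rintro Y ⟨g, rfl⟩ hYN hYR c d hc hd
    by_contra hne
    refine hYR ?_
    have hp : IsPGroup p ↥(R ⊔ cj g A) := by
      rw [sup_comm]
      exact Cfsg.Lib.Local.isPGroup_sup_of_le_normalizer (hAp.map _) hRp hYN
    have hg : gn (R ⊔ cj g A) = R ⊔ cj g A := by
      refine le_antisymm (hgn_le (hQR.trans le_sup_left)) (sup_le ?_ ?_)
      · conv_lhs => rw [← hRgn]
        exact sup_le_sup_left (sSup_le_sSup fun Z (hZ : Z ∈ fam R) =>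
          (⟨hZ.1.trans le_sup_left, hZ.2⟩ : Z ∈ fam (R ⊔ cj g A))) _
      · exact le_trans (le_sSup (show cj g A ∈ fam (R ⊔ cj g A) from ⟨le_sup_right, g, rfl⟩)) le_sup_right
    exact le_sup_right.trans (hR.2 ⟨hp, hg, c, d, hne, hc, hd⟩ le_sup_left)
  -- a Sylow subgroup over `R` inside a conjugate
  have hsyl : ∀ c, R ≤ cj c M → ∃ S : Sylow p H, R ≤ (S : Subgroup H) ∧ (S : Subgroup H) ≤ cj c M := by
    intro c hc
    have hle : ((c • T : Sylow p H) : Subgroup H) ≤ cj c M := hcjle c hTM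
    obtain ⟨P, hP⟩ := (hRp.comap_of_injective (cj c M).subtype (cj c M).subtype_injective).exists_le_sylow
    obtain ⟨m, hm⟩ := MulAction.exists_smul_eq (↥(cj c M)) ((c • T).subtype hle) P
    refine ⟨(m : H) • (c • T), fun x hx => ?_, ?_⟩
    · have h1 : (⟨x, hc hx⟩ : ↥(cj c M)) ∈ (P : Subgroup ↥(cj c M)) := hP hx
      rw [← hm] at h1
      obtain ⟨y, hy, hyx⟩ := h1
      exact ⟨(y : H), hy, congrArg Subtype.val hyx⟩
    · rintro _ ⟨x, hx, rfl⟩
      exact (cj c M).mul_mem ((cj c M).mul_mem m.2 (hle hx)) ((cj c M).inv_mem m.2)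
  have hside : ∀ c, R ≤ cj c M → (∃ S : Sylow p H, (S : Subgroup H) ≤ normalizer (R : Set H) ∧
      (S : Subgroup H) ≤ cj c M ∧ normalizer (R : Set H) ≠ ⊤) ∨
      ∃ Y, (∃ g, cj g A = Y) ∧ Y ≤ normalizer (R : Set H) ∧ ¬ Y ≤ R ∧ Y ≤ cj c M := by
    intro c hc
    obtain ⟨S, hRS, hSc⟩ := hsyl c hc
    have hfamR : ∀ Y ∈ fam R, Y ∈ fam (S : Subgroup H) := fun Y hY => ⟨hY.1.trans hRS, hY.2⟩
    rcases Set.eq_or_ssubset_of_subset hfamR with he | hlt
    · left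
      refine ⟨S, ?_, hSc, fun htop => ?_⟩
      · intro s hs
        refine Cfsg.Lib.Invol.mem_normalizer_of_map_le ?_
        show cj s R ≤ R
        conv_lhs => rw [← hRgn]
        show cj s (Q ⊔ sSup (fam R)) ≤ R
        rw [show cj s (Q ⊔ sSup (fam R)) = cj s Q ⊔ cj s (sSup (fam R)) from Subgroup.map_sup _ _ _,
          hcjQ]
        refine sup_le hQR (map_le_iff_le_comap.2 (sSup_le fun Y hY => map_le_iff_le_comap.1 ?_))
        obtain ⟨hYR, g, hg⟩ := hY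
        have : cj s Y ∈ fam R := by
          rw [he]
          refine ⟨?_, s * g, ?_⟩
          · rintro _ ⟨y, hy, rfl⟩
            exact mul_mem (mul_mem hs (hRS (hYR hy))) ((S : Subgroup H).inv_mem hs)
          · rw [← hg]; exact (hcjmul s g A).symm
        exact this.1
      · haveI := normalizer_eq_top_iff.1 htop
        obtain ⟨g, hg⟩ := MulAction.exists_smul_eq H T S
        have h1 : cj g A ∈ fam R := by
          rw [he]
          exact ⟨hg ▸ hcjle g hAT, g, rfl⟩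
        have h2 : cj g A ≤ cj g Q := by
          rw [hcjQ]
          exact h1.1.trans (Cfsg.Lib.Core.le_pCore' inferInstance hRp)
        exact hA ((map_le_map_iff_of_injective (MulAut.conj g).injective).1 h2)
    · right
      obtain ⟨Y, hY, hYE, hYN⟩ := Cfsg.Lib.Invol.exists_normalizing A S (fam R) hlt
      refine ⟨Y, hY.2, ?_, fun h => hYE ⟨h, hY.2⟩, hY.1.trans hSc⟩
      intro y hy
      refine Cfsg.Lib.Invol.mem_normalizer_of_map_le ?_
      show cj y R ≤ R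
      conv_lhs => rw [← hRgn]
      show cj y (Q ⊔ sSup (fam R)) ≤ R
      rw [show cj y (Q ⊔ sSup (fam R)) = cj y Q ⊔ cj y (sSup (fam R)) from Subgroup.map_sup _ _ _,
        hcjQ, show cj y (sSup (fam R)) = sSup (fam R) from
          Cfsg.Lib.Core.map_conj_eq_of_mem_normalizer (hYN hy)]
      exact hRgn.le
  -- pick the pair
  obtain ⟨Y, c, ⟨k, rfl⟩, hYN, hYR, hYc, hRc, hNc⟩ : ∃ Y c, (∃ g, cj g A = Y) ∧
      Y ≤ normalizer (R : Set H) ∧ ¬ Y ≤ R ∧ Y ≤ cj c M ∧ R ≤ cj c M ∧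
      ¬ normalizer (R : Set H) ≤ cj c M := by
    have hN_le : ∀ c, (∃ S : Sylow p H, (S : Subgroup H) ≤ normalizer (R : Set H) ∧
        (S : Subgroup H) ≤ cj c M ∧ normalizer (R : Set H) ≠ ⊤) →
        normalizer (R : Set H) ≤ cj c M := by
      rintro c ⟨S, hSN, hSc, hne⟩
      obtain ⟨X, hX, hNX⟩ := (eq_top_or_exists_le_coatom _).resolve_left hne
      exact hNX.trans (hU S X c hX (hSN.trans hNX) hSc).le
    rcases hside a hRa with ha | ⟨Y, hY1, hY2, hY3, hY4⟩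
    · exfalso
      rcases hside b hRb with ⟨S, hSN, hSb, -⟩ | ⟨Y, hY1, hY2, hY3, hY4⟩
      · exact hab (hU S _ b (hcjc a hMc) (hSN.trans (hN_le a ha)) hSb)
      · exact hab (hone Y hY1 hY2 hY3 a b (sup_le hRa (hY2.trans (hN_le a ha))) (sup_le hRb hY4))
    · refine ⟨Y, a, hY1, hY2, hY3, hY4, hRa, fun hle => ?_⟩
      rcases hside b hRb with hb | ⟨Z, hZ1, hZ2, hZ3, hZ4⟩
      · exact hab (hone Y hY1 hY2 hY3 a b (sup_le hRa hY4) (sup_le hRb (hY2.trans (hN_le b hb))))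
      · exact hab (hone Z hZ1 hZ2 hZ3 a b (sup_le hRa (hZ2.trans hle)) (sup_le hRb hZ4))
  -- transport to `A`
  set R' := cj k⁻¹ R with hR'
  set g₀ := k⁻¹ * c with hg₀
  set M' := cj g₀ M with hM'
  have hback : ∀ {K L : Subgroup H}, K ≤ L → cj k⁻¹ K ≤ cj k⁻¹ L := fun h => hcjle _ h
  have hAk : cj k⁻¹ (cj k A) = A := by rw [hcjmul, inv_mul_cancel, hcj1]
  have hM'eq : cj k⁻¹ (cj c M) = M' := hcjmul _ _ _
  have hN' : cj k⁻¹ (normalizer (R : Set H)) = normalizer (R' : Set H) :=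
    (Cfsg.Lib.Local.normalizer_map_conj R k⁻¹).symm
  have hBN : A ⊔ R' ≤ normalizer (R' : Set H) :=
    sup_le (hAk ▸ hN' ▸ hback hYN) le_normalizer
  have hBM : A ⊔ R' ≤ M' :=
    sup_le (hAk ▸ hM'eq ▸ hback hYc) (hM'eq ▸ hback hRc)
  have honeB : ∀ d, A ⊔ R' ≤ cj d M → cj d M = M' := by
    intro d hd
    have h1 : R ⊔ cj k A ≤ cj (k * d) M := by
      rw [← hcjmul]
      refine sup_le ?_ (hcjle k (le_sup_left.trans hd))
      have := hcjle k (le_sup_right.trans hd : R' ≤ _)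
      rwa [hR', hcjmul, mul_inv_cancel, hcj1] at this
    have h2 := congrArg (cj k⁻¹) (hone _ ⟨k, rfl⟩ hYN hYR _ c h1 (sup_le hRc hYc))
    rwa [hcjmul, ← mul_assoc, inv_mul_cancel, one_mul, hM'eq] at h2
  have hNM' : ¬ normalizer (R' : Set H) ≤ M' := fun h => hNc (by
    rw [← hN', ← hM'eq] at h
    exact (map_le_map_iff_of_injective (MulAut.conj k⁻¹).injective).1 h)
  obtain ⟨L, -, hL⟩ := (Set.toFinite {U : Subgroup H |
    A ⊔ R' ≤ U ∧ U ≤ normalizer (R' : Set H) ∧ ¬ U ≤ M'}).exists_le_minimal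
      (show normalizer (R' : Set H) ∈ _ from ⟨hBN, le_rfl, hNM'⟩)
  obtain ⟨hBL, hLN, hLM⟩ := hL.1
  have hR'O : R' ≤ Cfsg.pCoreOf p L :=
    Cfsg.Lib.Local.le_pCoreOf (le_sup_right.trans hBL) hLN (hRp.map _)
  have hOL : Cfsg.pCoreOf p L ≤ L := Cfsg.Lib.Local.pCoreOf_le L
  have hAO : A ⊔ Cfsg.pCoreOf p L ≤ M' := by
    have hp : IsPGroup p ↥(A ⊔ Cfsg.pCoreOf p L) :=
      Cfsg.Lib.Local.isPGroup_sup_of_le_normalizer hAp (Cfsg.Lib.Local.pCoreOf_isPGroup L)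
        ((le_sup_left.trans hBL).trans (Cfsg.Lib.Local.le_normalizer_pCoreOf L))
    obtain ⟨S, hS⟩ := hp.exists_le_sylow
    obtain ⟨d, rfl⟩ := MulAction.exists_smul_eq H T S
    have h1 : ((d • T : Sylow p H) : Subgroup H) ≤ cj d M := hcjle d hTM
    rw [← honeB d ((sup_le_sup_left hR'O A).trans (hS.trans h1))]
    exact hS.trans h1
  have hmax : ∀ X : Subgroup H, A ⊔ Cfsg.pCoreOf p L ≤ X → X < L → X ≤ L ⊓ M' := by
    intro X hAX hXL
    refine le_inf hXL.le ?_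
    by_contra hXM
    exact hXL.not_ge (hL.2 ⟨(sup_le_sup_left hR'O A).trans hAX, hXL.le.trans hLN, hXM⟩ hXL.le)
  have hQR' : Q ≤ R' := by
    have := hback hQR
    rwa [hcjQ] at this
  refine ⟨L, sup_le (le_sup_left.trans hBL) ((hQR'.trans le_sup_right).trans hBL), L ⊓ M',
    le_inf (sup_le (le_sup_left.trans hBL) hOL) hAO, lt_of_le_of_ne inf_le_left fun h => hLM (h ▸ inf_le_right),
    hmax, ⟨g₀, rfl⟩, fun x hx hx0 => ?_⟩
  set X := A ⊔ A.map (MulAut.conj x).toMonoidHom ⊔ Cfsg.pCoreOf p L with hX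
  have hAL : A ≤ L := le_sup_left.trans hBL
  have hXL : X ≤ L := sup_le (sup_le hAL (by
    rintro _ ⟨y, hy, rfl⟩
    exact L.mul_mem (L.mul_mem hx (hAL hy)) (L.inv_mem hx))) hOL
  by_contra hne
  have hXM : X ≤ M' := (hmax X (sup_le (le_sup_left.trans le_sup_left) le_sup_right)
    (lt_of_le_of_ne hXL hne)).trans inf_le_right
  have hxR : cj x R' = R' := Cfsg.Lib.Core.map_conj_eq_of_mem_normalizer (hLN hx)
  have h2 : A ⊔ R' ≤ cj x⁻¹ M' := by
    refine sup_le ?_ ?_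
    · have := hcjle x⁻¹ ((le_sup_right.trans le_sup_left).trans hXM : cj x A ≤ M')
      rwa [hcjmul, inv_mul_cancel, hcj1] at this
    · have := hcjle x⁻¹ ((hR'O.trans le_sup_right).trans hXM)
      rwa [← hxR, hcjmul, inv_mul_cancel, hcj1] at this
  have h3 : cj x⁻¹ M' = M' := (hcjmul x⁻¹ g₀ M).trans (honeB _ (by rwa [← hcjmul x⁻¹ g₀ M]))
  have h4 : x⁻¹ ∈ normalizer (M' : Set H) := by
    rw [Cfsg.Lib.Core.mem_normalizer_iff_map_conj]; exact h3
  rcases (hcjc g₀ hMc).le_iff.1 (le_normalizer : M' ≤ normalizer (M' : Set H)) with h | h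
  · haveI := normalizer_eq_top_iff.1 h
    refine (hcjc g₀ hMc).1 (top_le_iff.1 (hgen ▸ normalClosure_le_normal ?_))
    intro t ht
    have e : M' = M := by
      have h5 : cj g₀ M' = M' := Cfsg.Lib.Core.map_conj_eq_of_mem_normalizer (h ▸ mem_top g₀)
      have h6 := congrArg (cj g₀⁻¹) h5
      rw [hM', hcjmul, hcjmul, hcjmul, ← mul_assoc, inv_mul_cancel, one_mul, hcj1] at h6
      exact h6
    show t ∈ M'
    rw [e]
    exact hTM ht
  · exact hx0 ⟨hx, by simpa using M'.inv_mem (h.le h4)⟩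

end Cfsg.Agent.S2834
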