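import Cfsg.Statements.S2835
import Cfsg.Agent.Lib.Local.YMinimal
-- import your own Cfsg.Agent.* helpers here

set_option autoImplicit false
open Cfsg

namespace Cfsg.Agent.S2835

/-- Let L be a finite group, L₀ a maximal subgroup, T a Sylow p-subgroup of L₀ and Y ≤ T, and suppose L is Y-minimal (generated by the conjugates of Y, with Y in exactly one maximal subgroup, necessarily L₀). Then N_L(T) ≤ L₀, O_p(L) ≤ L₀ and T is a Sylow p-subgroup of L; N_L(L₀) = L₀; L = ⟨Y, gYg⁻¹⟩ for each g ∈ L outside L₀; and if Y is abelian then Y ∩ gYg⁻¹ = C_Y(L) for each such g. -/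
theorem result {L : Type*} [Group L] [Finite L] {p : ℕ} [Fact p.Prime] (L₀ : Subgroup L) (hL₀ : IsCoatom L₀) (T : Sylow p ↥L₀) (Y : Subgroup L) (hYT : Y ≤ (T : Subgroup ↥L₀).map L₀.subtype) (hmin : Cfsg.IsMinimalOver Y) : Subgroup.normalizer (((T : Subgroup ↥L₀).map L₀.subtype : Subgroup L) : Set L) ≤ L₀ ∧ Cfsg.pCore p L ≤ L₀ ∧ (∃ P : Sylow p L, (P : Subgroup L) = (T : Subgroup ↥L₀).map L₀.subtype) ∧ Subgroup.normalizer (L₀ : Set L) = L₀ ∧ (∀ g : L, g ∉ L₀ → Y ⊔ Y.map (MulAut.conj g).toMonoidHom = ⊤) ∧ (IsMulCommutative ↥Y → ∀ g : L, g ∉ L₀ → Y ⊓ Y.map (MulAut.conj g).toMonoidHom = Y ⊓ Subgroup.center L) := by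
  set S := (T : Subgroup ↥L₀).map L₀.subtype
  have hSM : S ≤ L₀ := Subgroup.map_subtype_le _
  have hYM : Y ≤ L₀ := hYT.trans hSM
  obtain ⟨M, ⟨hM, hYM'⟩, hu'⟩ := hmin.2
  have hu : ∀ K : Subgroup L, IsCoatom K → Y ≤ K → K = L₀ := fun K h1 h2 =>
    (hu' K ⟨h1, h2⟩).trans (hu' L₀ ⟨hL₀, hYM⟩).symm
  have hN := Lib.Local.normalizer_le_of_minimal hL₀ hYT hSM hu hmin.1
  refine ⟨hN, Lib.Local.pCore_le_of_minimal hL₀ hYM hu hmin.1 ((T.2.map _).to_le hYT),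
    Lib.Local.exists_sylow_of_minimal hL₀ T hN,
    Lib.Local.normalizer_eq_of_minimal hL₀ hYM hmin.1,
    fun g hg => Lib.Local.sup_conj_eq_top hL₀ hYM hu hmin.1 hg,
    fun hab g hg => Lib.Local.inf_conj_eq_inf_center g
      (Lib.Local.sup_conj_eq_top hL₀ hYM hu hmin.1 hg) hab⟩

end Cfsg.Agent.S2835
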