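import Cfsg.Statements.S2836
import Cfsg.Agent.Lib.Local.YMinimal
-- import your own Cfsg.Agent.* helpers here

set_option autoImplicit false
open Cfsg

namespace Cfsg.Agent.S2836

/-- Let L be a finite group, L₀ a maximal subgroup, T a Sylow p-subgroup of L₀, Y ≤ T, and suppose L is Y-minimal. Let D be the intersection of the conjugates of L₀ (the core of L₀). Then D contains O_p(L) and D/O_p(L) is the Frattini subgroup of L/O_p(L), so D is p-closed; and every normal subgroup N of L contained in L₀ is p-closed with N/O_p(N) a nilpotent group of order prime to p. -/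
theorem result {L : Type*} [Group L] [Finite L] {p : ℕ} [Fact p.Prime] (L₀ : Subgroup L) (hL₀ : IsCoatom L₀) (T : Sylow p ↥L₀) (Y : Subgroup L) (hYT : Y ≤ (T : Subgroup ↥L₀).map L₀.subtype) (hmin : Cfsg.IsMinimalOver Y) : (Cfsg.pCore p L ≤ L₀.normalCore ∧ (L₀.normalCore).map (QuotientGroup.mk' (Cfsg.pCore p L)) = frattini (L ⧸ Cfsg.pCore p L) ∧ Cfsg.IsPClosed p ↥(L₀.normalCore)) ∧ ∀ (N : Subgroup L) [N.Normal], N ≤ L₀ → Cfsg.IsPClosed p ↥N ∧ Group.IsNilpotent (↥N ⧸ Cfsg.pCore p ↥N) ∧ (Nat.card (↥N ⧸ Cfsg.pCore p ↥N)).Coprime p := by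
  set S := (T : Subgroup ↥L₀).map L₀.subtype
  have hSM : S ≤ L₀ := Subgroup.map_subtype_le _
  have hYM : Y ≤ L₀ := hYT.trans hSM
  obtain ⟨M, ⟨hM, hYM'⟩, hu'⟩ := hmin.2
  have hu : ∀ K : Subgroup L, IsCoatom K → Y ≤ K → K = L₀ := fun K h1 h2 =>
    (hu' K ⟨h1, h2⟩).trans (hu' L₀ ⟨hL₀, hYM⟩).symm
  obtain ⟨P, hP⟩ := Lib.Local.exists_sylow_of_minimal hL₀ T
    (Lib.Local.normalizer_le_of_minimal hL₀ hYT hSM hu hmin.1)
  have hPM : (P : Subgroup L) ≤ L₀ := hP.le.trans hSM
  have hYP : Y ≤ (P : Subgroup L) := hYT.trans hP.ge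
  have hD := Lib.Local.map_normalCore_eq_frattini hL₀ P hYP hPM hu
  refine ⟨⟨Subgroup.normal_le_normalCore.mpr ((Lib.Core.pCore_le_sylow P).trans hPM), hD,
    Lib.Local.isPClosed_of_le_unique_coatom P hYP hu hL₀.1 (Subgroup.normalCore_le _)⟩, ?_⟩
  intro N hN hNM
  have hc := Lib.Local.isPClosed_of_le_unique_coatom P hYP hu hL₀.1 hNM
  refine ⟨hc, ?_, ?_⟩
  · set f := (QuotientGroup.mk' (Cfsg.pCore p L)).comp N.subtype
    have hker : f.ker = Cfsg.pCore p ↥N := by
      apply Subgroup.map_injective N.subtype_injective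
      rw [Lib.Core.pCore_map_eq_inf_of_isSubnormal hN.isSubnormal]
      ext x
      simp [f, MonoidHom.mem_ker, and_comm]
    have hrange : f.range ≤ frattini (L ⧸ Cfsg.pCore p L) := by
      rw [MonoidHom.range_comp, Subgroup.range_subtype, ← hD]
      exact Subgroup.map_mono (Subgroup.normal_le_normalCore.mpr hNM)
    haveI : Group.IsNilpotent ↥(frattini (L ⧸ Cfsg.pCore p L)) := frattini_nilpotent
    haveI : Group.IsNilpotent ↥(f.range.subgroupOf (frattini (L ⧸ Cfsg.pCore p L))) := inferInstance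
    exact Group.isNilpotent_congr (((QuotientGroup.quotientMulEquivOfEq hker.symm).trans
      (QuotientGroup.quotientKerEquivRange f)).trans
      (Subgroup.subgroupOfEquivOfLe hrange).symm) |>.mpr inferInstance
  · let Q : Sylow p ↥N := Classical.arbitrary _
    have e : (Q : Subgroup ↥N) = Cfsg.pCore p ↥N :=
      le_antisymm (Lib.Local.isPClosed_iff_le.mp hc _ Q.2) (Lib.Core.pCore_le_sylow Q)
    have h := Q.not_dvd_index
    rw [e] at h
    exact Nat.Coprime.symm ((Nat.Prime.coprime_iff_not_dvd Fact.out).2 h)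

end Cfsg.Agent.S2836
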