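import Cfsg.Statements.S2837
import Cfsg.Agent.S2835
import Cfsg.Agent.Lib.PGroup.Basic
import Cfsg.Agent.Lib.Core.Cores
import Mathlib.GroupTheory.Abelianization.Defs
-- import your own Cfsg.Agent.* helpers here

set_option autoImplicit false
open Cfsg

namespace Cfsg.Agent.S2837
open Subgroup
open scoped commutatorElement

/-- Let L be a finite group of characteristic p, L₀ a maximal subgroup, Y an elementary abelian p-subgroup of L₀ with L Y-minimal and O_p(L) ≤ N_L(Y). Put A = the normal closure of O_p(L) ∩ Y in L. Then for every g ∈ L outside L₀: Φ(A) = A' = [A ∩ Y, A] = [A ∩ Y, A ∩ gYg⁻¹] ≤ C_Y(L), and Y ∩ gYg⁻¹ = (A ∩ Y) ∩ (A ∩ gYg⁻¹) = C_Y(L) = C_A(L). -/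
theorem result {L : Type*} [Group L] [Finite L] {p : ℕ} [Fact p.Prime] (hchar : Subgroup.centralizer (Cfsg.pCore p L : Set L) ≤ Cfsg.pCore p L) (L₀ : Subgroup L) (hL₀ : IsCoatom L₀) (Y : Subgroup L) (hYL₀ : Y ≤ L₀) (hYel : Cfsg.IsElementaryAbelian p Y) (hmin : Cfsg.IsMinimalOver Y) (hOY : Cfsg.pCore p L ≤ Subgroup.normalizer (Y : Set L)) (A : Subgroup L) (hA : A = Subgroup.normalClosure (((Cfsg.pCore p L ⊓ Y : Subgroup L)) : Set L)) (g : L) (hg : g ∉ L₀) : (frattini ↥A).map A.subtype = ⁅A, A⁆ ∧ ⁅A, A⁆ = ⁅A ⊓ Y, A⁆ ∧ ⁅A ⊓ Y, A⁆ = ⁅A ⊓ Y, A ⊓ Y.map (MulAut.conj g).toMonoidHom⁆ ∧ ⁅A ⊓ Y, A⁆ ≤ Y ⊓ Subgroup.center L ∧ Y ⊓ Y.map (MulAut.conj g).toMonoidHom = Y ⊓ Subgroup.center L ∧ (A ⊓ Y) ⊓ (A ⊓ Y.map (MulAut.conj g).toMonoidHom) = Y ⊓ Subgroup.center L ∧ A ⊓ Subgroup.center L = Y ⊓ Subgroup.center L := by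
  classical
  have hYp : IsPGroup p Y := Cfsg.Lib.PGroup.isPGroup_of_isElementaryAbelian hYel
  obtain ⟨T, hT⟩ := (hYp.comap_of_injective L₀.subtype L₀.subtype_injective).exists_le_sylow
  have hYT : Y ≤ (T : Subgroup L₀).map L₀.subtype := fun y hy => ⟨⟨y, hYL₀ hy⟩, hT hy, rfl⟩
  obtain ⟨-, -, -, -, hgen, hint⟩ := Cfsg.Agent.S2835.result L₀ hL₀ T Y hYT hmin
  set Yg := Y.map (MulAut.conj g).toMonoidHom with hYg
  have htop : Y ⊔ Yg = ⊤ := hgen g hg
  have hC : Y ⊓ Yg = Y ⊓ center L := hint hYel.1 g hg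
  set Q := Cfsg.pCore p L with hQ
  haveI hQn : Q.Normal := hQ ▸ inferInstance
  have hQp : IsPGroup p Q := Cfsg.Lib.Core.pCore_isPGroup p L
  set U := Q ⊓ Y with hU
  set Ug := Q ⊓ Yg with hUg
  have hUgmap : U.map (MulAut.conj g).toMonoidHom = Ug := by
    rw [hU, Subgroup.map_inf _ _ _ (MulAut.conj g).injective,
      Cfsg.Lib.Core.map_conj_eq_of_mem_normalizer (H := Q) (by rw [normalizer_eq_top]; exact mem_top g)]
  have hQYg : Q ≤ normalizer (Yg : Set L) := by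
    intro q hq
    have h1 : g⁻¹ * q * g ∈ normalizer (Y : Set L) := hOY (by simpa using hQn.conj_mem q hq g⁻¹)
    refine mem_normalizer_iff.2 fun x => ⟨?_, ?_⟩
    · rintro ⟨y, hy, rfl⟩
      exact ⟨g⁻¹ * q * g * y * (g⁻¹ * q * g)⁻¹, (mem_normalizer_iff.1 h1 y).1 hy, by simp [mul_assoc]⟩
    · rintro ⟨y, hy, he⟩
      refine ⟨(g⁻¹ * q * g)⁻¹ * y * (g⁻¹ * q * g), ?_, ?_⟩
      · simpa [mul_assoc] using (mem_normalizer_iff.1 ((normalizer (Y : Set L)).inv_mem h1) y).1 hy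
      · simp only [MulEquiv.coe_toMonoidHom, MulAut.conj_apply] at he ⊢
        calc g * ((g⁻¹ * q * g)⁻¹ * y * (g⁻¹ * q * g)) * g⁻¹ = q⁻¹ * (g * y * g⁻¹) * q := by group
          _ = x := by rw [he]; group
  have hconjY : ∀ (Z W : Subgroup L), Q ≤ normalizer (Z : Set L) → W ≤ Q → ∀ z ∈ Z, ∀ w ∈ W,
      z * w * z⁻¹ ∈ W ⊔ (Q ⊓ Z) := by
    intro Z W hn hW z hz w hw
    have h1 : z * w * z⁻¹ * w⁻¹ ∈ Q ⊓ Z := by
      refine ⟨Q.mul_mem (hQn.conj_mem w (hW hw) z) (Q.inv_mem (hW hw)), ?_⟩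
      rw [mul_assoc z w, mul_assoc z]
      exact Z.mul_mem hz ((mem_normalizer_iff.1 (hn (hW hw)) _).1 (Z.inv_mem hz))
    rw [show z * w * z⁻¹ = z * w * z⁻¹ * w⁻¹ * w by group]
    exact mul_mem (mem_sup_right h1) (mem_sup_left hw)
  have hAeq : A = U ⊔ Ug := by
    rw [hA]
    suffices hn : (U ⊔ Ug).Normal by
      haveI := hn
      refine le_antisymm (normalClosure_le_normal (SetLike.coe_subset_coe.2 le_sup_left)) ?_
      refine sup_le le_normalClosure ?_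
      rw [← hUgmap]
      rintro _ ⟨u, hu, rfl⟩
      exact normalClosure_normal.conj_mem u (subset_normalClosure hu) g
    · rw [← normalizer_eq_top_iff, eq_top_iff, ← htop]
      refine sup_le (Cfsg.Lib.Core.le_normalizer_iff_conj_mem.mpr fun z hz x hx => ?_)
        (Cfsg.Lib.Core.le_normalizer_iff_conj_mem.mpr fun z hz x hx => ?_)
      · have h1 : U ⊔ Ug ≤ (U ⊔ Ug).comap (MulAut.conj z).toMonoidHom := by
          refine sup_le (fun w hw => mem_sup_left ?_) fun w hw => ?_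
          · exact ⟨hQn.conj_mem w hw.1 z, Y.mul_mem (Y.mul_mem hz hw.2) (Y.inv_mem hz)⟩
          · have h2 := hconjY Y Ug hOY inf_le_left z hz w hw
            rwa [sup_comm] at h2
        exact h1 hx
      · have h1 : U ⊔ Ug ≤ (U ⊔ Ug).comap (MulAut.conj z).toMonoidHom := by
          refine sup_le (fun w hw => ?_) (fun w hw => mem_sup_right ?_)
          · exact hconjY Yg U hQYg inf_le_left z hz w hw
          · exact ⟨hQn.conj_mem w hw.1 z, Yg.mul_mem (Yg.mul_mem hz hw.2) (Yg.inv_mem hz)⟩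
        exact h1 hx
  have hUA : U ≤ A := hAeq ▸ le_sup_left
  have hUgA : Ug ≤ A := hAeq ▸ le_sup_right
  have hAQ : A ≤ Q := hAeq ▸ sup_le inf_le_left inf_le_left
  have hAY : A ⊓ Y = U := le_antisymm (inf_le_inf_right Y hAQ) (le_inf hUA inf_le_right)
  have hAYg : A ⊓ Yg = Ug := le_antisymm (inf_le_inf_right Yg hAQ) (le_inf hUgA inf_le_right)
  have hCQ : Y ⊓ center L ≤ Q := by
    refine Cfsg.Lib.Core.le_pCore' ⟨fun x hx z => ?_⟩ (hYp.to_le inf_le_left)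
    rw [mem_center_iff.1 hx.2 z, mul_inv_cancel_right]
    exact hx
  have hcc : ⁅U, Ug⁆ ≤ Y ⊓ center L := by
    rw [← hC, Subgroup.commutator_le]
    intro u hu v hv
    rw [commutatorElement_def]
    refine ⟨?_, Yg.mul_mem ((mem_normalizer_iff.1 (hQYg hu.1) v).1 hv.2) (Yg.inv_mem hv.2)⟩
    rw [mul_assoc u v, mul_assoc u]
    exact Y.mul_mem hu.2 ((mem_normalizer_iff.1 (hOY hv.1) _).1 (Y.inv_mem hu.2))
  have hcenK : ∀ x ∈ ⁅U, Ug⁆, ∀ z : L, z * x * z⁻¹ = x := fun x hx z => by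
    rw [mem_center_iff.1 (hcc hx).2 z, mul_inv_cancel_right]
  have hcomm1 : ∀ (B : Subgroup L), (∀ u ∈ U, ∀ v ∈ Ug, ⁅u, v⁆ ∈ ⁅U, Ug⁆) →
      (∀ a ∈ B, ∀ b ∈ U, ⁅a, b⁆ ∈ ⁅U, Ug⁆) → (∀ a ∈ B, ∀ b ∈ Ug, ⁅a, b⁆ ∈ ⁅U, Ug⁆) → ⁅B, A⁆ ≤ ⁅U, Ug⁆ := by
    intro B _ h1 h2
    rw [Subgroup.commutator_le]
    intro a ha b hb
    rw [hAeq, sup_eq_closure] at hb
    induction hb using closure_induction with
    | mem b hb =>
      rcases hb with hb | hb
      · exact h1 a ha b hb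
      · exact h2 a ha b hb
    | one => simp
    | mul x y _ _ hx hy =>
      rw [show ⁅a, x * y⁆ = ⁅a, x⁆ * (x * ⁅a, y⁆ * x⁻¹) by simp only [commutatorElement_def]; group,
        hcenK _ hy]
      exact mul_mem hx hy
    | inv x _ hx =>
      rw [show ⁅a, x⁻¹⁆ = x⁻¹ * ⁅a, x⁆⁻¹ * x⁻¹⁻¹ by simp only [commutatorElement_def]; group,
        hcenK _ (inv_mem hx)]
      exact inv_mem hx
  have hYc : ∀ a ∈ Y, ∀ b ∈ Y, ⁅a, b⁆ = 1 := fun a ha b hb =>
    commutatorElement_eq_one_iff_mul_comm.2 (congrArg Subtype.val (hYel.1.1.comm ⟨a, ha⟩ ⟨b, hb⟩))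
  have hYgc : ∀ a ∈ Yg, ∀ b ∈ Yg, ⁅a, b⁆ = 1 := by
    rintro _ ⟨a, ha, rfl⟩ _ ⟨b, hb, rfl⟩
    rw [← map_commutatorElement, hYc a ha b hb, map_one]
  have hUUg : ∀ u ∈ U, ∀ v ∈ Ug, ⁅u, v⁆ ∈ ⁅U, Ug⁆ := fun u hu v hv =>
    commutator_mem_commutator hu hv
  have hUA' : ⁅U, A⁆ = ⁅U, Ug⁆ := le_antisymm
    (hcomm1 U hUUg (fun a ha b hb => by rw [hYc a ha.2 b hb.2]; exact one_mem _) hUUg)
    (commutator_mono le_rfl hUgA)
  have hUgA' : ⁅Ug, A⁆ ≤ ⁅U, Ug⁆ := hcomm1 Ug hUUg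
    (fun a ha b hb => by rw [← commutatorElement_inv]; exact inv_mem (hUUg b hb a ha))
    (fun a ha b hb => by rw [hYgc a ha.2 b hb.2]; exact one_mem _)
  have hAA : ⁅A, A⁆ = ⁅U, Ug⁆ := by
    refine le_antisymm (hcomm1 A hUUg (fun a ha b hb => ?_) fun a ha b hb => ?_) (commutator_mono hUA hUgA)
    · rw [← commutatorElement_inv]
      exact inv_mem (hUA'.le (commutator_mem_commutator hb ha))
    · rw [← commutatorElement_inv]
      exact inv_mem (hUgA' (commutator_mem_commutator hb ha))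
  have hAp : IsPGroup p A := hQp.to_le hAQ
  have hfr : (frattini A).map A.subtype = ⁅A, A⁆ := by
    have hpw : ∀ x : A, x ^ p ∈ commutator A := by
      let K : Subgroup A :=
        { carrier := {x | (Abelianization.of x) ^ p = 1}
          one_mem' := by simp
          mul_mem' := fun {a b} ha hb => by
            show Abelianization.of (a * b) ^ p = 1
            rw [map_mul, mul_pow, ha, hb, one_mul]
          inv_mem' := fun {a} ha => by
            show Abelianization.of a⁻¹ ^ p = 1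
            rw [map_inv, inv_pow, ha, inv_one] }
      have hK : A ≤ K.map A.subtype := by
        conv_lhs => rw [hAeq]
        refine sup_le (fun u hu => ⟨⟨u, hUA hu⟩, ?_, rfl⟩) fun u hu => ⟨⟨u, hUgA hu⟩, ?_, rfl⟩
        · show Abelianization.of (⟨u, hUA hu⟩ : A) ^ p = 1
          rw [← map_pow, show (⟨u, hUA hu⟩ : A) ^ p = 1 from Subtype.ext (hYel.2 u hu.2), map_one]
        · show Abelianization.of (⟨u, hUgA hu⟩ : A) ^ p = 1
          have h1 : u ^ p = 1 := by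
            obtain ⟨y, hy, rfl⟩ := hu.2
            rw [← map_pow, hYel.2 y hy, map_one]
          rw [← map_pow, show (⟨u, hUgA hu⟩ : A) ^ p = 1 from Subtype.ext h1, map_one]
      intro x
      obtain ⟨y, hy, hyx⟩ := hK x.2
      have hy' : Abelianization.of x ^ p = 1 := by
        rw [← A.subtype_injective hyx]
        exact hy
      rw [← map_pow] at hy'
      exact (Abelianization.ker_of A).le (MonoidHom.mem_ker.2 hy')
    rw [← map_subtype_commutator]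
    exact congrArg (Subgroup.map A.subtype) (le_antisymm
      (Cfsg.Lib.PGroup.frattini_le_of_commutator_le_of_pow_mem le_rfl hpw)
      (Cfsg.Lib.PGroup.commutator_le_frattini hAp))
  refine ⟨hfr, ?_, ?_, ?_, hC, ?_, ?_⟩
  · rw [hAY, hUA', hAA]
  · rw [hAY, hAYg, hUA']
  · rw [hAY, hUA']; exact hcc
  · rw [hAY, hAYg]
    refine le_antisymm ((inf_le_inf inf_le_right inf_le_right).trans hC.le) fun x hx => ?_
    exact ⟨⟨hCQ hx, hx.1⟩, hCQ hx, (hC.ge hx).2⟩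
  · refine le_antisymm ?_ fun x hx => ⟨hUA ⟨hCQ hx, hx.1⟩, hx.2⟩
    rintro a ⟨haA, haZ⟩
    have hUgn : Ug ≤ normalizer (U : Set L) :=
      Cfsg.Lib.Core.le_normalizer_iff_conj_mem.mpr fun z hz u hu =>
        ⟨hQn.conj_mem u hu.1 z, (mem_normalizer_iff.1 (hOY hz.1) u).1 hu.2⟩
    obtain ⟨w, hw, u, hu, rfl⟩ := (Cfsg.Lib.Core.mem_sup_of_le_normalizer hUgn).1
      (by rwa [sup_comm, ← hAeq])
    have key : ∀ (V : Subgroup L) (x y : L), x * y ∈ center L → (∀ v ∈ V, v * y = y * v) →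
        ∀ v ∈ V, v * x = x * v := by
      intro V x y hxy hy v hv
      refine mul_right_cancel (b := y) ?_
      rw [mul_assoc, mem_center_iff.1 hxy v, mul_assoc, mul_assoc, hy v hv]
    have hall : ∀ x : L, (∀ v ∈ Y, v * x = x * v) → (∀ v ∈ Yg, v * x = x * v) → x ∈ center L := by
      intro x h1 h2
      have h3 : (⊤ : Subgroup L) ≤ centralizer ({x} : Set L) := htop ▸ sup_le
        (fun v hv => mem_centralizer_singleton_iff.2 (h1 v hv))
        (fun v hv => mem_centralizer_singleton_iff.2 (h2 v hv))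
      exact mem_center_iff.2 fun v => mem_centralizer_singleton_iff.1 (h3 (mem_top v))
    have hcommY : ∀ v ∈ Y, v * u = u * v := fun v hv =>
      commutatorElement_eq_one_iff_mul_comm.1 (hYc v hv u hu.2)
    have hwY : ∀ v ∈ Y, v * w = w * v := key Y w u haZ hcommY
    have hwZ : w ∈ center L := hall w hwY fun v hv =>
      commutatorElement_eq_one_iff_mul_comm.1 (hYgc v hv w hw.2)
    have hwY' : w ∈ Y := by
      obtain ⟨y, hy, hyw⟩ := hw.2
      have hgy : g * y * g⁻¹ = w := hyw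
      have : w = y := by
        calc w = g⁻¹ * w * g := by rw [mul_assoc, ← mem_center_iff.1 hwZ g, inv_mul_cancel_left]
          _ = y := by rw [← hgy]; group
      exact this ▸ hy
    exact ⟨Y.mul_mem hwY' hu.2, haZ⟩

end Cfsg.Agent.S2837
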