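import Cfsg.Statements.S2842
import Cfsg.Agent.Lib.Local.CharPLocal
import Cfsg.Agent.Lib.Local.WeaklyClosed
-- import your own Cfsg.Agent.* helpers here

set_option autoImplicit false
open Cfsg

namespace Cfsg.Agent.S2842

/-- Let Q be a nontrivial p-subgroup of the finite group H that is a weakly closed subgroup with C_H(Q) ≤ Q, and Q ≤ L ≤ H. Suppose H has characteristic p, or more generally that C_H(y) has characteristic p for some nonidentity y ∈ C_{O_p(L)}(Q). Then [Q, C_H(O_p(L))] ≤ Q ∩ O_p(L), C_H(O_p(L)) is a p-group, and L has characteristic p. -/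
theorem result {H : Type*} [Group H] [Finite H] {p : ℕ} [Fact p.Prime] (Q : Subgroup H) (hQp : IsPGroup p ↥Q) (hQ1 : Q ≠ ⊥) (hwc : Cfsg.IsWeaklyClosedSubgroup p Q) (hCQ : Subgroup.centralizer ((Q : Subgroup H) : Set H) ≤ Q) (L : Subgroup H) (hQL : Q ≤ L) (hyp : Subgroup.centralizer (Cfsg.pCore p H : Set H) ≤ Cfsg.pCore p H ∨ ∃ y : H, y ≠ 1 ∧ y ∈ (Cfsg.pCoreOf p L) ⊓ Subgroup.centralizer ((Q : Subgroup H) : Set H) ∧ Subgroup.centralizer (Cfsg.pCore p ↥(Subgroup.centralizer ({y} : Set H)) : Set ↥(Subgroup.centralizer ({y} : Set H))) ≤ Cfsg.pCore p ↥(Subgroup.centralizer ({y} : Set H))) : ⁅Q, Subgroup.centralizer (((Cfsg.pCoreOf p L) : Subgroup H) : Set H)⁆ ≤ Q ⊓ (Cfsg.pCoreOf p L) ∧ IsPGroup p ↥(Subgroup.centralizer (((Cfsg.pCoreOf p L) : Subgroup H) : Set H)) ∧ Subgroup.centralizer (Cfsg.pCore p ↥L : Set ↥L) ≤ Cfsg.pCore p ↥L := by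
  classical
  open Cfsg.Lib Cfsg.Lib.Local in
  open scoped commutatorElement in
  set P := Cfsg.pCoreOf p L with hPdef
  set C := Subgroup.centralizer ((P : Subgroup H) : Set H) with hCdef
  -- reduce both hypotheses to a characteristic `p` subgroup containing `Q` and `C`
  obtain ⟨X, hX, hQX, hCX⟩ : ∃ X : Subgroup H, CharPIn p X ∧ Q ≤ X ∧ C ≤ X := by
    rcases hyp with h | ⟨y, -, hy, h⟩
    · refine ⟨⊤, ?_, le_top, le_top⟩
      intro x _ hxc hc
      refine orderOf_eq_one_of_coprime_mem (Core.pCore_isPGroup p H) (h ?_) hxc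
      rw [Subgroup.mem_centralizer_iff]
      intro q hq
      refine hc q ?_
      rw [pCoreOf_top]
      exact hq
    · exact ⟨_, (charPIn_iff _).2 h,
        fun q hq => Subgroup.mem_centralizer_singleton_iff.2 (Subgroup.mem_centralizer_iff.1 hy.2 q hq),
        Subgroup.centralizer_le (Set.singleton_subset_iff.2 hy.1)⟩
  have hPp : IsPGroup p ↥P := pCoreOf_isPGroup L
  have hPL : P ≤ L := pCoreOf_le L
  have hLC : L ≤ Subgroup.normalizer (C : Set H) :=
    (le_normalizer_pCoreOf L).trans (normalizer_le_normalizer_centralizer _)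
  set V := Cfsg.pCoreOf p X with hVdef
  have hVp : IsPGroup p ↥V := pCoreOf_isPGroup X
  have hXV : X ≤ Subgroup.normalizer (V : Set H) := le_normalizer_pCoreOf X
  have hVQ : V ≤ Subgroup.normalizer (Q : Set H) :=
    le_sup_right.trans (Subgroup.le_normalizer.trans (wc_normalizer_le hwc
      (isPGroup_sup_of_le_normalizer hQp hVp (hQX.trans hXV)) le_sup_left))
  set E := Q ⊓ V with hEdef
  have hVQE : ⁅V, Q⁆ ≤ E :=
    le_inf (Subgroup.le_normalizer_iff_commutator_le_right.mp hVQ)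
      (Subgroup.le_normalizer_iff_commutator_le_left.mp (hQX.trans hXV))
  -- the stabilization
  have stab : ∀ (U Z : Subgroup H) (x : H), IsPGroup p ↥U → (orderOf x).Coprime p → Z ≤ U →
      (∀ u ∈ U, u * x * u⁻¹ * x⁻¹ ∈ Z) → (∀ z ∈ Z, z * x = x * z) → ∀ u ∈ U, u * x = x * u := by
    intro U Z x hU hxc hZU h1 h2
    have hc : ⁅U, Subgroup.zpowers x⁆ ≤ Z := by
      rw [Subgroup.commutator_le]
      intro u hu z hz
      obtain ⟨i, hi⟩ := (isOfFinOrder_of_finite x).mem_powers_iff_mem_zpowers.2 hz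
      have hi' : x ^ i = z := hi
      rw [← hi']
      clear hi hi' hz z
      induction i with
      | zero => simp
      | succ i ih =>
        have hxi : ∀ w ∈ Z, x ^ i * w * (x ^ i)⁻¹ = w := fun w hw => by
          rw [← ((show Commute w x from h2 w hw).pow_right i).eq, mul_inv_cancel_right]
        have e : ⁅u, x ^ (i + 1)⁆ = ⁅u, x ^ i⁆ * (x ^ i * (u * x * u⁻¹ * x⁻¹) * (x ^ i)⁻¹) := by
          simp only [commutatorElement_def, pow_succ, mul_inv_rev]; group
        rw [e, hxi _ (h1 u hu)]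
        exact mul_mem ih (h1 u hu)
    have h0 : ⁅U, Subgroup.zpowers x⁆ = ⊥ := by
      refine Coprime.commutator_eq_bot_of_stabilizes
        (Subgroup.le_normalizer_iff_commutator_le_left.mpr (hc.trans hZU))
        (coprime_card_zpowers hU hxc) (Or.inl (isSolvable_zpowers x)) hc ?_
      rw [Core.commutator_eq_bot_iff_forall]
      intro z hz w hw
      obtain ⟨j, rfl⟩ := Subgroup.mem_zpowers_iff.1 hw
      exact ((show Commute z x from h2 z hz).zpow_right j).eq
    intro u hu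
    exact Core.commutator_eq_bot_iff_forall.1 h0 u hu x (Subgroup.mem_zpowers x)
  -- `[Q,K]` acts trivially modulo `[U,Q]`
  have core : ∀ U K : Subgroup H, IsPGroup p ↥U → Q ≤ Subgroup.normalizer (U : Set H) →
      U ≤ Subgroup.normalizer (Q : Set H) →
      K ≤ Subgroup.normalizer (U : Set H) → Q ≤ Subgroup.normalizer (K : Set H) →
      K ≤ Subgroup.centralizer ((⁅U, Q⁆ : Subgroup H) : Set H) →
      ∀ x ∈ ⁅Q, K⁆, (orderOf x).Coprime p → ∀ u ∈ U, u * x = x * u := by
    intro U K hU hQU hUQ hKU hQK hKT x hx hxc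
    set T0 := ⁅U, Q⁆ with hT0
    have hT0U : T0 ≤ U := Subgroup.le_normalizer_iff_commutator_le_left.mp hQU
    have hQT0 : Q ≤ Subgroup.normalizer (T0 : Set H) := Subgroup.normalizer_commutator_ge_right U Q
    have hUT0 : U ≤ Subgroup.normalizer (T0 : Set H) := Subgroup.normalizer_commutator_ge_left U Q
    have hKT0 : K ≤ Subgroup.normalizer (T0 : Set H) := hKT.trans (Subgroup.centralizer_le_normalizer _)
    set Good : H → Prop := fun g => g ∈ Subgroup.normalizer (T0 : Set H) ∧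
      ∀ u ∈ U, u * g * u⁻¹ * g⁻¹ ∈ T0 with hGood
    have gq : ∀ q ∈ Q, Good q := fun q hq => ⟨hQT0 hq, fun u hu => Subgroup.commutator_mem_commutator hu hq⟩
    have gone : Good 1 := ⟨one_mem _, fun u _ => by simp⟩
    have gmul : ∀ g h : H, Good g → Good h → Good (g * h) := by
      rintro g h ⟨g1, g2⟩ ⟨h1, h2⟩
      refine ⟨mul_mem g1 h1, fun u hu => ?_⟩
      have e : u * (g * h) * u⁻¹ * (g * h)⁻¹ = (u * g * u⁻¹ * g⁻¹) * (g * (u * h * u⁻¹ * h⁻¹) * g⁻¹) := by group
      rw [e]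
      exact mul_mem (g2 u hu) ((Subgroup.mem_normalizer_iff.1 g1 _).1 (h2 u hu))
    have ginv : ∀ g : H, Good g → Good g⁻¹ := by
      rintro g ⟨g1, g2⟩
      refine ⟨inv_mem g1, fun u hu => ?_⟩
      have e : u * g⁻¹ * u⁻¹ * g⁻¹⁻¹ = g⁻¹ * (u * g * u⁻¹ * g⁻¹)⁻¹ * g⁻¹⁻¹ := by group
      rw [e]
      exact (Subgroup.mem_normalizer_iff.1 (inv_mem g1) _).1 (inv_mem (g2 u hu))
    have gconj : ∀ k ∈ K, ∀ g : H, Good g → Good (k * g * k⁻¹) := by
      rintro k hk g ⟨g1, g2⟩
      refine ⟨mul_mem (mul_mem (hKT0 hk) g1) (inv_mem (hKT0 hk)), fun u hu => ?_⟩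
      have hu' : k⁻¹ * u * k ∈ U := (Subgroup.mem_normalizer_iff''.1 (hKU hk) u).1 hu
      have e : u * (k * g * k⁻¹) * u⁻¹ * (k * g * k⁻¹)⁻¹ =
          k * ((k⁻¹ * u * k) * g * (k⁻¹ * u * k)⁻¹ * g⁻¹) * k⁻¹ := by group
      rw [e]
      exact (Subgroup.mem_normalizer_iff.1 (hKT0 hk) _).1 (g2 _ hu')
    have hgood : Good x := by
      rw [Subgroup.commutator_def] at hx
      refine Subgroup.closure_induction (p := fun t _ => Good t) ?_ gone (fun a b _ _ => gmul a b)
        (fun a _ => ginv a) hx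
      rintro _ ⟨q, hq, k, hk, rfl⟩
      rw [commutatorElement_def, mul_assoc q k, mul_assoc q (k * q⁻¹)]
      exact gmul _ _ (gq q hq) (gconj k hk _ (ginv _ (gq q hq)))
    refine stab U T0 x hU hxc hT0U hgood.2 fun z hz => ?_
    have hxK : x ∈ K := Subgroup.le_normalizer_iff_commutator_le_right.mp hQK hx
    exact Subgroup.mem_centralizer_iff.1 (hKT hxK) z hz
  -- `O^p` of `[Q,·]` vanishes once it centralizes `[V,Q]`
  have coreX : ∀ K : Subgroup H, K ≤ X → Q ≤ Subgroup.normalizer (K : Set H) →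
      K ≤ Subgroup.centralizer ((⁅V, Q⁆ : Subgroup H) : Set H) → IsPGroup p ↥⁅Q, K⁆ := by
    intro K hKX hQK hKT
    refine isPGroup_of_forall_coprime fun x hx hxc => ?_
    exact hX x (hKX (Subgroup.le_normalizer_iff_commutator_le_right.mp hQK hx)) hxc
      (core V K hVp (hQX.trans hXV) hVQ (hKX.trans hXV) hQK hKT x hx hxc)
  set D := L ⊓ C with hDdef
  have hLD : L ≤ Subgroup.normalizer (D : Set H) := le_normalizer_inf Subgroup.le_normalizer hLC
  have hDn : (D.subgroupOf L).Normal := (Subgroup.normal_subgroupOf_iff_le_normalizer inf_le_left).2 hLD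
  have hsub : ∀ A B : Subgroup H, IsPGroup p ↥A → A ≤ B → B ≤ D → B ≤ Subgroup.normalizer (A : Set H) →
      L ≤ Subgroup.normalizer (B : Set H) → A ≤ P := by
    intro A B hA hAB hBD hBA hLB a ha
    have hBL : B ≤ L := hBD.trans inf_le_left
    have h1 := Core.le_pCore_of_isSubnormal (p := p)
      (Subgroup.IsSubnormal.step (A.subgroupOf L) (B.subgroupOf L) (Subgroup.comap_mono hAB)
        ((Subgroup.normal_subgroupOf_iff_le_normalizer hBL).2 hLB).isSubnormal
        ((Subgroup.normal_subgroupOf_iff_le_normalizer (Subgroup.comap_mono hAB)).2 (by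
          intro b hb
          rw [Subgroup.mem_normalizer_iff]
          intro c
          exact Subgroup.mem_normalizer_iff.1 (hBA hb) (c : H))))
      (hA.comap_of_injective L.subtype L.subtype_injective)
    exact ⟨⟨a, (hAB.trans hBL) ha⟩, h1 ha, rfl⟩
  have hPC : ∀ z ∈ P, ∀ c ∈ C, z * c = c * z := fun z hz c hc => Subgroup.mem_centralizer_iff.1 hc z hz
  -- `D` centralizes `V ∩ L`
  have hVD : V ⊓ D ≤ P := hsub (V ⊓ D) D (hVp.to_le inf_le_left) inf_le_right le_rfl
    (le_normalizer_inf ((inf_le_right.trans hCX).trans hXV) Subgroup.le_normalizer) hLD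
  have hDE : ∀ x ∈ D, (orderOf x).Coprime p → ∀ u ∈ V ⊓ L, u * x = x * u := by
    intro x hxD hxc
    refine stab (V ⊓ L) (V ⊓ D) x (hVp.to_le inf_le_left) hxc (inf_le_inf_left V inf_le_left) (fun u hu => ?_)
      (fun z hz => hPC z (hVD hz) x hxD.2)
    have hxV : x ∈ Subgroup.normalizer (V : Set H) := hXV (hCX hxD.2)
    refine ⟨?_, D.mul_mem ((Subgroup.mem_normalizer_iff.1 (hLD hu.2) x).1 hxD) (D.inv_mem hxD)⟩
    rw [mul_assoc u x u⁻¹, mul_assoc u]
    exact V.mul_mem hu.1 ((Subgroup.mem_normalizer_iff.1 hxV _).1 (V.inv_mem hu.1))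
  -- finishing: a `p'`-element with `[Q,x] ≤ P` is trivial
  have finish' : ∀ x ∈ C, (orderOf x).Coprime p → (∀ q ∈ Q, q * x * q⁻¹ * x⁻¹ ∈ P) → x = 1 := by
    intro x hxC hxc hqx
    refine orderOf_eq_one_of_coprime_mem hQp (hCQ ?_) hxc
    have hU : IsPGroup p ↥(Q ⊔ P) :=
      isPGroup_sup_of_le_normalizer hQp hPp (hQL.trans (le_normalizer_pCoreOf L))
    have h := stab (Q ⊔ P) P x hU hxc le_sup_right (fun u hu => ?_) (fun z hz => hPC z hz x hxC)
    · exact Subgroup.mem_centralizer_iff.2 fun q hq => h q (Subgroup.mem_sup_left hq)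
    · obtain ⟨q, hq, z, hz, rfl⟩ := (Core.mem_sup_of_le_normalizer (hQL.trans (le_normalizer_pCoreOf L))).1 hu
      have e : q * z * x * (q * z)⁻¹ * x⁻¹ = q * (z * x * z⁻¹) * q⁻¹ * x⁻¹ := by group
      rw [e, hPC z hz x hxC, mul_inv_cancel_right]
      exact hqx q hq
  -- the subgroup generated by the `p'`-elements
  set Kd := Subgroup.closure {x : H | x ∈ D ∧ (orderOf x).Coprime p} with hKd
  have hKdD : Kd ≤ D := (Subgroup.closure_le _).2 fun x hx => hx.1
  have hLKd : L ≤ Subgroup.normalizer (Kd : Set H) := by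
    refine Core.le_normalizer_iff_conj_mem.mpr fun g hg y hy => ?_
    refine Subgroup.closure_induction (p := fun t _ => g * t * g⁻¹ ∈ Kd) ?_ (by simp) ?_ ?_ hy
    · rintro t ⟨ht, htc⟩
      refine Subgroup.subset_closure ⟨(Subgroup.mem_normalizer_iff.1 (hLD hg) t).1 ht, ?_⟩
      rwa [← MulAut.conj_apply, MulEquiv.orderOf_eq]
    · intro a b _ _ ha hb
      have e : g * (a * b) * g⁻¹ = (g * a * g⁻¹) * (g * b * g⁻¹) := by group
      rw [e]; exact mul_mem ha hb
    · intro a _ ha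
      have e : g * a⁻¹ * g⁻¹ = (g * a * g⁻¹)⁻¹ := by group
      rw [e]; exact inv_mem ha
  have hKdT : Kd ≤ Subgroup.centralizer ((⁅V, Q⁆ : Subgroup H) : Set H) := by
    refine (Subgroup.closure_le _).2 fun x hx => Subgroup.mem_centralizer_iff.2 fun u hu => ?_
    exact hDE x hx.1 hx.2 u ⟨(hVQE hu).2, hQL (hVQE hu).1⟩
  have hQKd : ⁅Q, Kd⁆ ≤ P := hsub ⁅Q, Kd⁆ Kd
    (coreX Kd (hKdD.trans (inf_le_right.trans hCX)) (hQL.trans hLKd) hKdT)
    (Subgroup.le_normalizer_iff_commutator_le_right.mp (hQL.trans hLKd)) hKdD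
    (Subgroup.normalizer_commutator_ge_right Q Kd) hLKd
  have hDp : IsPGroup p ↥D := isPGroup_of_forall_coprime fun x hx hxc =>
    finish' x hx.2 hxc fun q hq => hQKd (Subgroup.commutator_mem_commutator hq (Subgroup.subset_closure ⟨hx, hxc⟩))
  have hDP : D ≤ P := hsub D D hDp le_rfl le_rfl Subgroup.le_normalizer hLD
  have hchar : Subgroup.centralizer (Cfsg.pCore p ↥L : Set ↥L) ≤ Cfsg.pCore p ↥L := by
    intro x hx
    have h1 : (x : H) ∈ P := hDP ⟨x.2, Subgroup.mem_centralizer_iff.2 (by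
      rintro _ ⟨y, hy, rfl⟩
      exact congrArg Subtype.val (Subgroup.mem_centralizer_iff.1 hx y hy))⟩
    obtain ⟨y, hy, e⟩ := h1
    rwa [← Subtype.ext e]
  -- `Q ∩ C` is centralized by `C`
  have hQC : Q ⊓ C ≤ P := (inf_le_inf_right C hQL).trans hDP
  have hQnC : Q ≤ Subgroup.normalizer (C : Set H) := hQL.trans hLC
  set W := V ⊓ C with hWdef
  have hCW : C ≤ Subgroup.normalizer (W : Set H) := le_normalizer_inf (hCX.trans hXV) Subgroup.le_normalizer
  have hQW : Q ≤ Subgroup.normalizer (W : Set H) := le_normalizer_inf (hQX.trans hXV) hQnC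
  have hWQ : ⁅W, Q⁆ ≤ P := by
    refine le_trans (le_inf ((Subgroup.commutator_mono inf_le_left le_rfl).trans (hVQE.trans inf_le_left)) ?_) hQC
    exact (Subgroup.commutator_mono inf_le_right le_rfl).trans (Subgroup.le_normalizer_iff_commutator_le_left.mp hQnC)
  have hQCC : ⁅Q, C⁆ ≤ C := Subgroup.le_normalizer_iff_commutator_le_right.mp hQnC
  have hE : ∀ x ∈ ⁅Q, C⁆, (orderOf x).Coprime p → ∀ u ∈ E, u * x = x * u := by
    intro x hx hxc
    have hxC : x ∈ C := hQCC hx
    have hWc := core W C (hVp.to_le inf_le_left) hQW (inf_le_left.trans hVQ) hCW hQnC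
      (fun c hc => Subgroup.mem_centralizer_iff.2 fun z hz => hPC z (hWQ hz) c hc) x hx hxc
    have hU : IsPGroup p ↥(E ⊔ W) := hVp.to_le (sup_le inf_le_right inf_le_left)
    have h := stab (E ⊔ W) W x hU hxc le_sup_right (fun u hu => ?_) hWc
    · exact fun u hu => h u (Subgroup.mem_sup_left hu)
    · obtain ⟨e, he, w, hw, rfl⟩ := (Core.mem_sup_of_le_normalizer (inf_le_left.trans hQW)).1 hu
      have e' : e * w * x * (e * w)⁻¹ * x⁻¹ = e * (w * x * w⁻¹) * e⁻¹ * x⁻¹ := by group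
      rw [e', hWc w hw, mul_inv_cancel_right]
      refine ⟨?_, C.mul_mem ((Subgroup.mem_normalizer_iff.1 (hQnC he.1) x).1 hxC) (C.inv_mem hxC)⟩
      rw [mul_assoc e x e⁻¹, mul_assoc e]
      exact V.mul_mem he.2 ((Subgroup.mem_normalizer_iff.1 (hXV (hCX hxC)) _).1 (V.inv_mem he.2))
  set M := ⁅Q, C⁆ with hMdef
  set Km := Subgroup.closure {x : H | x ∈ M ∧ (orderOf x).Coprime p} with hKm
  have hKmM : Km ≤ M := (Subgroup.closure_le _).2 fun x hx => hx.1
  have hQKm : Q ≤ Subgroup.normalizer (Km : Set H) := by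
    refine Core.le_normalizer_iff_conj_mem.mpr fun g hg y hy => ?_
    refine Subgroup.closure_induction (p := fun t _ => g * t * g⁻¹ ∈ Km) ?_ (by simp) ?_ ?_ hy
    · rintro t ⟨ht, htc⟩
      refine Subgroup.subset_closure ⟨(Subgroup.mem_normalizer_iff.1 (Subgroup.normalizer_commutator_ge_left Q C hg) t).1 ht, ?_⟩
      rwa [← MulAut.conj_apply, MulEquiv.orderOf_eq]
    · intro a b _ _ ha hb
      have e : g * (a * b) * g⁻¹ = (g * a * g⁻¹) * (g * b * g⁻¹) := by group
      rw [e]; exact mul_mem ha hb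
    · intro a _ ha
      have e : g * a⁻¹ * g⁻¹ = (g * a * g⁻¹)⁻¹ := by group
      rw [e]; exact inv_mem ha
  have hKmT : Km ≤ Subgroup.centralizer ((⁅V, Q⁆ : Subgroup H) : Set H) :=
    (Subgroup.closure_le _).2 fun x hx => Subgroup.mem_centralizer_iff.2 fun u hu => hE x hx.1 hx.2 u (hVQE hu)
  have normQ : ∀ K : Subgroup H, Q ≤ Subgroup.normalizer (K : Set H) → IsPGroup p ↥⁅Q, K⁆ →
      K ≤ Subgroup.normalizer (Q : Set H) := by
    intro K hQK hp'
    refine le_trans ?_ (wc_normalizer_le hwc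
      (isPGroup_sup_of_le_normalizer hQp hp' (Subgroup.normalizer_commutator_ge_left Q K)) le_sup_left)
    refine Core.le_normalizer_iff_conj_mem.mpr fun k hk y hy => ?_
    obtain ⟨q, hq, m, hm, rfl⟩ := (Core.mem_sup_of_le_normalizer (Subgroup.normalizer_commutator_ge_left Q K)).1 hy
    have e : k * (q * m) * k⁻¹ = ⁅q, k⁆⁻¹ * q * (k * m * k⁻¹) := by
      simp only [commutatorElement_def]; group
    rw [e]
    exact mul_mem (mul_mem (inv_mem (Subgroup.mem_sup_right (Subgroup.commutator_mem_commutator hq hk)))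
      (Subgroup.mem_sup_left hq))
      (Subgroup.mem_sup_right ((Subgroup.mem_normalizer_iff.1 (Subgroup.normalizer_commutator_ge_right Q K hk) _).1 hm))
  have hKmQ : Km ≤ Subgroup.normalizer (Q : Set H) :=
    normQ Km hQKm (coreX Km (hKmM.trans (hQCC.trans hCX)) hQKm hKmT)
  have hKmP : ⁅Q, Km⁆ ≤ P :=
    (le_inf (Subgroup.le_normalizer_iff_commutator_le_left.mp hKmQ)
      ((Subgroup.commutator_mono le_rfl (hKmM.trans hQCC)).trans hQCC)).trans hQC
  have hMp : IsPGroup p ↥M := isPGroup_of_forall_coprime fun x hx hxc =>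
    finish' x (hQCC hx) hxc fun q hq => hKmP (Subgroup.commutator_mem_commutator hq (Subgroup.subset_closure ⟨hx, hxc⟩))
  have hCN : C ≤ Subgroup.normalizer (Q : Set H) := normQ C hQnC hMp
  have hconc : ⁅Q, C⁆ ≤ Q ⊓ P := by
    have h1 : ⁅Q, C⁆ ≤ Q := Subgroup.le_normalizer_iff_commutator_le_left.mp hCN
    exact le_inf h1 ((le_inf h1 hQCC).trans hQC)
  exact ⟨hconc, isPGroup_of_forall_coprime fun x hx hxc =>
    finish' x hx hxc fun q hq => (hconc (Subgroup.commutator_mem_commutator hq hx)).2, hchar⟩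

end Cfsg.Agent.S2842
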