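import Cfsg.Statements.S2843
import Cfsg.Agent.Lib.Local.WeaklyClosed
-- import your own Cfsg.Agent.* helpers here

set_option autoImplicit false
open Cfsg

namespace Cfsg.Agent.S2843
open scoped commutatorElement

/-- Let Q be a nontrivial large p-subgroup of the finite group H, Q ≤ L ≤ H, and Y a nontrivial p-subgroup of H normalized by L. Let L° be the weak closure of Q in L (generated by the conjugates of Q inside L). Then L° equals the weak closure of Q in L·C_H(Y), and [L°, C_H(Y)] ≤ O_p(L°); in particular C_H(Y) normalizes L°. -/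
theorem result {H : Type*} [Group H] [Finite H] {p : ℕ} [Fact p.Prime] (Q : Subgroup H) (hQp : IsPGroup p ↥Q) (hQ1 : Q ≠ ⊥) (hL : Cfsg.IsLarge Q) (L : Subgroup H) (hQL : Q ≤ L) (Y : Subgroup H) (hYp : IsPGroup p ↥Y) (hY1 : Y ≠ ⊥) (hLY : L ≤ Subgroup.normalizer ((Y : Subgroup H) : Set H)) : Cfsg.weakClosure Q L = Cfsg.weakClosure Q (L ⊔ Subgroup.centralizer ((Y : Subgroup H) : Set H)) ∧ ⁅Cfsg.weakClosure Q L, Subgroup.centralizer ((Y : Subgroup H) : Set H)⁆ ≤ (Cfsg.pCoreOf p (Cfsg.weakClosure Q L)) ∧ Subgroup.centralizer ((Y : Subgroup H) : Set H) ≤ Subgroup.normalizer (((Cfsg.weakClosure Q L) : Subgroup H) : Set H) := by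
  classical
  have hninf : ∀ A B : Subgroup H, Subgroup.normalizer (A : Set H) ⊓ Subgroup.normalizer (B : Set H) ≤
      Subgroup.normalizer ((A ⊓ B : Subgroup H) : Set H) := fun A B x hx => Subgroup.mem_normalizer_iff.2 fun y => by
    rw [Subgroup.mem_inf, Subgroup.mem_inf]
    exact and_congr (Subgroup.mem_normalizer_iff.1 hx.1 y) (Subgroup.mem_normalizer_iff.1 hx.2 y)
  have hwc := Cfsg.Lib.Local.wc_of_isLarge hQp hQ1 hL
  set C := Subgroup.centralizer (Y : Set H) with hC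
  -- `C(Y)` normalizes every conjugate of `Q` that normalizes `Y`
  have key : ∀ g : H, Q.map (MulAut.conj g).toMonoidHom ≤ Subgroup.normalizer (Y : Set H) →
      C ≤ Subgroup.normalizer ((Q.map (MulAut.conj g).toMonoidHom : Subgroup H) : Set H) := by
    intro g hg
    set Qg := Q.map (MulAut.conj g).toMonoidHom with hQg
    have hQgp : IsPGroup p Qg := hQp.map _
    set Z := Y ⊓ Subgroup.centralizer (Qg : Set H) with hZ
    have hZ1 : Z ≠ ⊥ := by
      letI : MulDistribMulAction ↥Qg ↥Y := MulDistribMulAction.compHom ↥Y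
        ((Subgroup.normalizerMonoidHom Y).comp (Subgroup.inclusion hg))
      have hdvd : p ∣ Nat.card Y := by
        haveI : Nontrivial Y := (Subgroup.nontrivial_iff_ne_bot Y).2 hY1
        obtain ⟨k, hk0, hk⟩ := hYp.nontrivial_iff_card.1 inferInstance
        exact hk ▸ dvd_pow_self p hk0.ne'
      obtain ⟨y, hy, hy1⟩ := hQgp.exists_fixed_point_of_prime_dvd_card_of_fixed_point Y hdvd (a := 1) (fun q => smul_one q)
      intro e
      refine hy1 (Subtype.ext (Eq.symm (Subgroup.mem_bot.1 (e ▸ (⟨y.2, Subgroup.mem_centralizer_iff.2 fun q hq => ?_⟩ : (y : H) ∈ Z)))))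
      have h := congrArg Subtype.val (hy ⟨q, hq⟩)
      exact mul_inv_eq_iff_eq_mul.1 h
    have hZc : Z.map (MulAut.conj g⁻¹).toMonoidHom ≤ Subgroup.centralizer (Q : Set H) := by
      rintro _ ⟨z, hz, rfl⟩
      refine Subgroup.mem_centralizer_iff.2 fun q hq => ?_
      have h := Subgroup.mem_centralizer_iff.1 hz.2 (g * q * g⁻¹) ⟨q, hq, rfl⟩
      have := congrArg (fun t => g⁻¹ * t * g) h
      simpa [mul_assoc] using this
    have hN := hL.2 _ hZc (fun e => hZ1 ((Subgroup.map_eq_bot_iff_of_injective _ (MulAut.conj g⁻¹).injective).1 e))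
    rw [Cfsg.Lib.Local.normalizer_map_conj] at hN
    have h2 := Subgroup.map_mono (f := (MulAut.conj g).toMonoidHom) hN
    rw [Cfsg.Lib.Local.map_conj_cancel_inv, ← Cfsg.Lib.Local.normalizer_map_conj] at h2
    refine le_trans ?_ h2
    exact (Subgroup.centralizer_le (inf_le_left : Z ≤ Y)).trans (Subgroup.centralizer_le_normalizer _)
  have hQN : Q ≤ Subgroup.normalizer (Y : Set H) := hQL.trans hLY
  have hCQ : C ≤ Subgroup.normalizer (Q : Set H) := by
    have := key 1 (by rwa [Cfsg.Lib.Local.map_conj_one])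
    rwa [Cfsg.Lib.Local.map_conj_one] at this
  set Lo := Cfsg.weakClosure Q L with hLo
  have hgen : ∀ g : H, Q.map (MulAut.conj g).toMonoidHom ≤ L → Q.map (MulAut.conj g).toMonoidHom ≤ Lo :=
    fun g hg => le_iSup (fun g : {g : H // Q.map (MulAut.conj g).toMonoidHom ≤ L} => Q.map (MulAut.conj (g : H)).toMonoidHom) ⟨g, hg⟩
  have hLoL : Lo ≤ L := iSup_le fun g => g.2
  have hCLo : C ≤ Subgroup.normalizer (Lo : Set H) := by
    refine Cfsg.Lib.Core.le_normalizer_iff_conj_mem.mpr fun c hc x hx => ?_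
    have hle : Lo ≤ Lo.comap (MulAut.conj c).toMonoidHom := iSup_le fun g y hy =>
      hgen g g.2 ((Subgroup.mem_normalizer_iff.1 (key g (g.2.trans hLY) hc) y).1 hy)
    exact hle hx
  have hLCN : L ≤ Subgroup.normalizer (C : Set H) := hLY.trans (Cfsg.Lib.Local.normalizer_le_normalizer_centralizer Y)
  have hQsup : Q ≤ L ⊔ C := hQL.trans le_sup_left
  refine ⟨le_antisymm (iSup_le fun g => le_iSup (fun g : {g : H // Q.map (MulAut.conj g).toMonoidHom ≤ L ⊔ C} =>
      Q.map (MulAut.conj (g : H)).toMonoidHom) ⟨g, g.2.trans le_sup_left⟩) ?_, ?_, hCLo⟩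
  · rw [Cfsg.Lib.Local.weakClosure_eq_iSup hQp hwc hQsup]
    refine iSup_le fun k => ?_
    obtain ⟨l, hl, c, hc, hk⟩ := (Cfsg.Lib.Core.mem_sup_of_le_normalizer hLCN).1 k.2
    rw [show ((k : ↥(L ⊔ C)) : H) = l * c by rw [hk], Cfsg.Lib.Core.map_conj_mul, Cfsg.Lib.Core.map_conj_eq_of_mem_normalizer (hCQ hc)]
    refine hgen l ?_
    rintro _ ⟨q, hq, rfl⟩
    exact L.mul_mem (L.mul_mem hl (hQL hq)) (L.inv_mem hl)
  · set P := Cfsg.pCoreOf p Lo with hP
    have hLoP : Lo ≤ Subgroup.normalizer (P : Set H) := Cfsg.Lib.Local.le_normalizer_pCoreOf Lo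
    set D := Lo ⊓ C with hD
    have hDP : Cfsg.pCoreOf p D ≤ P := by
      refine Cfsg.Lib.Local.le_pCoreOf ((Cfsg.Lib.Local.pCoreOf_le D).trans inf_le_left) ?_ (Cfsg.Lib.Local.pCoreOf_isPGroup D)
      refine le_trans ?_ (Cfsg.Lib.Local.normalizer_le_normalizer_pCoreOf D)
      exact (hninf Lo C).trans' (le_inf Subgroup.le_normalizer (hLoL.trans hLCN))
    have hbase : ∀ g : H, Q.map (MulAut.conj g).toMonoidHom ≤ L → ∀ x ∈ Q.map (MulAut.conj g).toMonoidHom,
        ∀ c ∈ C, ⁅x, c⁆ ∈ P := by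
      intro g hg x hx c hc
      set Qg := Q.map (MulAut.conj g).toMonoidHom with hQg
      have hCN := key g (hg.trans hLY)
      refine hDP (Cfsg.Lib.Local.le_pCoreOf (N := Qg ⊓ C) (inf_le_inf_right _ (hgen g hg)) ?_ ((hQp.map _).to_le inf_le_left) ⟨?_, ?_⟩)
      · exact (inf_le_right : D ≤ C).trans ((le_inf hCN Subgroup.le_normalizer).trans (hninf Qg C))
      · rw [commutatorElement_def, mul_assoc, mul_assoc, ← mul_assoc c]
        exact Qg.mul_mem hx ((Subgroup.mem_normalizer_iff.1 (hCN hc) _).1 (Qg.inv_mem hx))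
      · rw [commutatorElement_def]
        exact C.mul_mem ((Subgroup.mem_normalizer_iff.1 (hLCN (hg hx)) c).1 hc) (C.inv_mem hc)
    let T : Subgroup H :=
      { carrier := {x | x ∈ Lo ∧ ∀ c ∈ C, ⁅x, c⁆ ∈ P}
        one_mem' := ⟨Lo.one_mem, fun c _ => by simp⟩
        mul_mem' := fun {a b} ha hb => ⟨Lo.mul_mem ha.1 hb.1, fun c hc => by
          rw [show ⁅a * b, c⁆ = a * ⁅b, c⁆ * a⁻¹ * ⁅a, c⁆ by simp only [commutatorElement_def]; group]
          exact P.mul_mem ((Subgroup.mem_normalizer_iff.1 (hLoP ha.1) _).1 (hb.2 c hc)) (ha.2 c hc)⟩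
        inv_mem' := fun {a} ha => ⟨Lo.inv_mem ha.1, fun c hc => by
          rw [show ⁅a⁻¹, c⁆ = a⁻¹ * ⁅a, c⁆⁻¹ * a⁻¹⁻¹ by simp only [commutatorElement_def]; group]
          exact (Subgroup.mem_normalizer_iff.1 (hLoP (Lo.inv_mem ha.1)) _).1 (P.inv_mem (ha.2 c hc))⟩ }
    have hT : Lo ≤ T := iSup_le fun g x hx => ⟨hgen g g.2 hx, fun c hc => hbase g g.2 x hx c hc⟩
    exact Subgroup.commutator_le.2 fun x hx c hc => (hT hx).2 c hc

end Cfsg.Agent.S2843
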