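import Cfsg.Statements.S2845
import Cfsg.Agent.Lib.Local.WeaklyClosed
-- import your own Cfsg.Agent.* helpers here

set_option autoImplicit false
open Cfsg

namespace Cfsg.Agent.S2845

/-- Let Q be a nontrivial large p-subgroup of the finite group H. Then for every subgroup L ≥ Q with O_p(L) ≠ 1, C_H(O_p(L)) is a p-group and L has characteristic p, and either the weak closure L° of Q in L equals Q or C_H(L°) = 1; for every subgroup R of H containing a Sylow p-subgroup of H with O_p(R) ≠ 1, C_H(O_p(R)) ≤ O_p(R); and H has parabolic characteristic p. -/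
theorem result {H : Type*} [Group H] [Finite H] {p : ℕ} [Fact p.Prime] (Q : Subgroup H) (hQp : IsPGroup p ↥Q) (hQ1 : Q ≠ ⊥) (hL : Cfsg.IsLarge Q) : (∀ L : Subgroup H, Q ≤ L → Cfsg.pCore p ↥L ≠ ⊥ → IsPGroup p ↥(Subgroup.centralizer (((Cfsg.pCoreOf p L) : Subgroup H) : Set H)) ∧ Subgroup.centralizer (Cfsg.pCore p ↥L : Set ↥L) ≤ Cfsg.pCore p ↥L ∧ (Cfsg.weakClosure Q L = Q ∨ Subgroup.centralizer (((Cfsg.weakClosure Q L) : Subgroup H) : Set H) = ⊥)) ∧ (∀ R : Subgroup H, Cfsg.IsParabolic p R → Cfsg.pCore p ↥R ≠ ⊥ → Subgroup.centralizer (((Cfsg.pCoreOf p R) : Subgroup H) : Set H) ≤ (Cfsg.pCoreOf p R)) ∧ Cfsg.IsOfParabolicCharacteristic p H := by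
  have hne : ∀ L : Subgroup H, Cfsg.pCore p ↥L ≠ ⊥ → Cfsg.pCoreOf p L ≠ ⊥ := fun L h h' =>
    h ((Subgroup.map_eq_bot_iff_of_injective _ L.subtype_injective).mp h')
  refine ⟨fun L hQL h => ⟨Lib.Local.isPGroup_centralizer_pCoreOf hQp hQ1 hL hQL (hne L h),
    Lib.Local.isCharP_of_isLarge hQp hQ1 hL hQL (hne L h), ?_⟩,
    fun R hR h => Lib.Local.centralizer_le_of_isParabolic hQp hQ1 hL hR (hne R h), ?_⟩
  · set W := Cfsg.weakClosure Q L with hW
    have hQW : Q ≤ W := by
      have h1 : Q.map (MulAut.conj (1 : H)).toMonoidHom ≤ L := by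
        rwa [Lib.Local.map_conj_one]
      refine le_trans ?_ (le_iSup (fun g : {g : H // Q.map (MulAut.conj g).toMonoidHom ≤ L} =>
        Q.map (MulAut.conj (g : H)).toMonoidHom) ⟨1, h1⟩)
      exact (Lib.Local.map_conj_one Q).ge
    by_cases hall : ∀ g : H, Q.map (MulAut.conj g).toMonoidHom ≤ L →
        g ∈ Subgroup.normalizer (Q : Set H)
    · left
      refine le_antisymm ?_ hQW
      exact iSup_le fun g => (Lib.Core.map_conj_eq_of_mem_normalizer (hall g g.2)).le
    · right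
      push Not at hall
      obtain ⟨g, hg, hgN⟩ := hall
      rw [eq_bot_iff, ← Lib.Local.inf_centralizer_eq_bot_of_isLarge hQp hQ1 hL hgN]
      exact le_inf (Subgroup.centralizer_le (SetLike.coe_subset_coe.mpr hQW))
        (Subgroup.centralizer_le (SetLike.coe_subset_coe.mpr
          (le_iSup (fun g : {g : H // Q.map (MulAut.conj g).toMonoidHom ≤ L} =>
            Q.map (MulAut.conj (g : H)).toMonoidHom) ⟨g, hg⟩)))
  · intro R hRp hR1 hpar
    set M := Subgroup.normalizer (R : Set H)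
    have hRM : R ≤ Cfsg.pCoreOf p M := Lib.Local.le_pCoreOf Subgroup.le_normalizer le_rfl hRp
    have h := Lib.Local.centralizer_le_of_isParabolic hQp hQ1 hL hpar
      (fun hb => hR1 (le_bot_iff.mp (hb ▸ hRM)))
    intro x hx
    have hx' : (x : H) ∈ Subgroup.centralizer (Cfsg.pCoreOf p M : Set H) := by
      rintro _ ⟨y, hy, rfl⟩
      exact congrArg Subtype.val (hx y hy)
    obtain ⟨y, hy, hxy⟩ := h hx'
    rwa [← Subtype.ext hxy]

end Cfsg.Agent.S2845
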