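import Cfsg.Statements.S2846
import Cfsg.Agent.Lib.Local.BasicPropertyExists
import Cfsg.Agent.S2845
import Cfsg.Agent.S2843
-- import your own Cfsg.Agent.* helpers here

set_option autoImplicit false
open Cfsg

namespace Cfsg.Agent.S2846

open Subgroup

/-- Let Q be a nontrivial large p-subgroup of the finite group H, S a Sylow p-subgroup containing Q, and L a subgroup containing S with O_p(L) ≠ 1 and C_H(O_p(L)) ≤ O_p(L). Then there are a subgroup M containing S having the basic property (M ∈ 𝔐_H, writing Y_X for the largest p-reduced normal subgroup of X and 𝓛_H for the set of subgroups X with O_p(X) ≠ 1 and C_H(O_p(X)) ≤ O_p(X): M ∈ 𝓛_H, M·C_H(Y_M) is the only maximal member of 𝓛_H containing M and its largest p-reduced normal subgroup is again Y_M, C_M(Y_M) is p-closed, and the image of C_M(Y_M) in M/O_p(M) lies in the Frattini subgroup of M/O_p(M)) and a subgroup L* with S ≤ L* ≤ M, O_p(L*) ≠ 1, C_H(O_p(L*)) ≤ O_p(L*), such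 that L·C_H(Y_L) = L*·C_H(Y_L), the weak closures of Q in L and in L* agree and lie in that of M, and Y_L = Y_{L*} ≤ Y_M. If moreover Q is not normal in L, then Q is normal in neither L* nor M. -/
theorem result {H : Type*} [Group H] [Finite H] {p : ℕ} [Fact p.Prime] (Q : Subgroup H) (hQp : IsPGroup p ↥Q) (hQ1 : Q ≠ ⊥) (hLg : Cfsg.IsLarge Q) (S : Sylow p H) (hQS : Q ≤ (S : Subgroup H)) (L : Subgroup H) (hSL : (S : Subgroup H) ≤ L) (hL : L ∈ Cfsg.charPSubgroups p H) : ∃ M Ls : Subgroup H, (S : Subgroup H) ≤ M ∧ Cfsg.IsInFrakM p M ∧ (S : Subgroup H) ≤ Ls ∧ Ls ≤ M ∧ Ls ∈ Cfsg.charPSubgroups p H ∧ L ⊔ Subgroup.centralizer (((Cfsg.largestPReducedOf p L) : Subgroup H) : Set H) = Ls ⊔ Subgroup.centralizer (((Cfsg.largestPReducedOf p L) : Subgroup H) : Set H) ∧ Cfsg.weakClosure Q L = Cfsg.weakClosure Q Ls ∧ Cfsg.weakClosure Q Ls ≤ Cfsg.weakClosure Q M ∧ (Cfsg.largestPReducedOf p L) = (Cfsg.largestPReducedOf p Ls) ∧ (Cfsg.largestPReducedOf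 p Ls) ≤ (Cfsg.largestPReducedOf p M) ∧ (¬ L ≤ Subgroup.normalizer ((Q : Subgroup H) : Set H) → ¬ Ls ≤ Subgroup.normalizer ((Q : Subgroup H) : Set H) ∧ ¬ M ≤ Subgroup.normalizer ((Q : Subgroup H) : Set H)) := by
  classical
  have hpar := (Cfsg.Agent.S2845.result Q hQp hQ1 hLg).2.2
  obtain ⟨M, Ls, hTM, hM, hTLs, hLsM, hLs, hY, hYM, hC⟩ :=
    Cfsg.Lib.Local.BasicExists.exists_inFrakM hpar S hSL hL
  have hLcore : Cfsg.pCoreOf p L ≠ ⊥ := fun h =>
    hL.1 ((map_eq_bot_iff_of_injective _ L.subtype_injective).1 h)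
  have hY1 := Cfsg.Lib.Local.BasicExists.pReducedOf_ne_bot hpar S hSL hLcore
  have hYp : IsPGroup p (Cfsg.largestPReducedOf p L) :=
    Cfsg.Lib.PGroup.isPGroup_of_isElementaryAbelian (Cfsg.Lib.Local.largestPReducedOf_isElementaryAbelian L)
  have hLY : L ≤ normalizer ((Cfsg.largestPReducedOf p L : Subgroup H) : Set H) :=
    Cfsg.Lib.Local.normalizer_le_normalizer_largestPReducedOf L
  have hLsY : Ls ≤ normalizer ((Cfsg.largestPReducedOf p L : Subgroup H) : Set H) := by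
    rw [hY]; exact Cfsg.Lib.Local.normalizer_le_normalizer_largestPReducedOf Ls
  obtain ⟨hw, -, hCn⟩ := Cfsg.Agent.S2843.result Q hQp hQ1 hLg L (hQS.trans hSL) _ hYp hY1 hLY
  obtain ⟨hw', -, hCn'⟩ := Cfsg.Agent.S2843.result Q hQp hQ1 hLg Ls (hQS.trans hTLs) _ hYp hY1 hLsY
  refine ⟨M, Ls, hTM, hM, hTLs, hLsM, hLs, hC, ?_, ?_, hY, hY ▸ hYM, fun hQL => ?_⟩
  · rw [hw, hw', hC]
  · exact iSup_le fun g => le_iSup (fun g : {g : H // Q.map (MulAut.conj g).toMonoidHom ≤ M} =>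
      Q.map (MulAut.conj (g : H)).toMonoidHom) ⟨g, g.2.trans hLsM⟩
  · have hLsQ : ¬ Ls ≤ normalizer ((Q : Subgroup H) : Set H) := by
      intro hn
      apply hQL
      have hwc := Cfsg.Lib.Local.wc_of_isLarge hQp hQ1 hLg
      have hQw : Cfsg.weakClosure Q Ls = Q := by
        rw [Cfsg.Lib.Local.weakClosure_eq_iSup hQp hwc (hQS.trans hTLs)]
        refine le_antisymm (iSup_le fun k => (Cfsg.Lib.Core.map_conj_eq_of_mem_normalizer (hn k.2)).le) ?_
        refine le_iSup_of_le (1 : ↥Ls) fun x hx => ?_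
        exact ⟨x, hx, by simp⟩
      rw [hQw] at hCn'
      exact (le_sup_left.trans hC.le).trans (sup_le hn hCn')
    exact ⟨hLsQ, fun h => hLsQ (hLsM.trans h)⟩

end Cfsg.Agent.S2846
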