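import Cfsg.Statements.S2848
import Cfsg.Agent.Lib.Local.PReduced
import Cfsg.Agent.Lib.Core.Cores
-- import your own Cfsg.Agent.* helpers here

set_option autoImplicit false
open Cfsg

namespace Cfsg.Agent.S2848

/-- Standing hypotheses: G a finite group, S a Sylow p-subgroup, Q a nontrivial large p-subgroup of G contained in S (C_G(Q) ≤ Q and N_G(U) ≤ N_G(Q) for all nontrivial U ≤ C_G(Q)), and M a subgroup containing S with the basic property (M ∈ 𝔐_G(S)); Y_M denotes the largest p-reduced normal subgroup of M and M† = M·C_G(Y_M). Then O_p(M) is a weakly closed subgroup of M† (for p): it is the only M†-conjugate of itself inside some Sylow p-subgroup of M† containing it. -/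
theorem result {G : Type*} [Group G] [Finite G] {p : ℕ} [Fact p.Prime] (S : Sylow p G) (Q : Subgroup G) (hQp : IsPGroup p ↥Q) (hQ1 : Q ≠ ⊥) (hQS : Q ≤ (S : Subgroup G)) (hQ : Cfsg.IsLarge Q) (M : Subgroup G) (hSM : (S : Subgroup G) ≤ M) (hM : Cfsg.IsInFrakM p M) : Cfsg.IsWeaklyClosedSubgroup p (((Cfsg.pCoreOf p M)).subgroupOf (M ⊔ Subgroup.centralizer (((Cfsg.largestPReducedOf p M) : Subgroup G) : Set G))) := by
  set Y := Cfsg.largestPReducedOf p M with hY
  set C := Subgroup.centralizer ((Y : Subgroup G) : Set G) with hC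
  set D := M ⊔ C with hD
  set O := Cfsg.pCoreOf p M with hO
  obtain ⟨-, -, -, -, hclosed, -⟩ := hM
  have hMD : M ≤ D := le_sup_left
  have hMY : M ≤ Subgroup.normalizer (Y : Set G) :=
    Cfsg.Lib.Local.normalizer_le_normalizer_largestPReducedOf M
  have hDY : D ≤ Subgroup.normalizer (Y : Set G) :=
    sup_le hMY (fun x hx => Subgroup.centralizer_le_normalizer _ hx)
  have hOC : O ≤ C := by
    rintro _ ⟨x, hx, rfl⟩
    refine Subgroup.mem_centralizer_iff.mpr ?_
    rintro _ ⟨y, hy, rfl⟩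
    exact congrArg M.subtype (Subgroup.mem_centralizer_iff.mp
      (Cfsg.Lib.Local.pCore_le_centralizer_of_isPReduced
        Cfsg.Lib.Local.largestPReduced_isPReducedNormal hx) y hy)
  -- the Sylow intersection with the centralizer
  have hSC : (S : Subgroup G) ⊓ C = O := by
    refine le_antisymm (fun x hx => ?_) (le_inf ?_ hOC)
    · obtain ⟨P₀⟩ : Nonempty (Sylow p ↥(M ⊓ C)) := inferInstance
      haveI hP₀n : (P₀ : Subgroup ↥(M ⊓ C)).Normal := hclosed P₀
      letI := Sylow.unique_of_normal P₀ hP₀n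
      obtain ⟨P₁, hP₁⟩ := ((S.isPGroup'.to_le (inf_le_left : (S : Subgroup G) ⊓ C ≤ _)).comap_subtype
        (K := M ⊓ C)).exists_le_sylow
      have hxP : (⟨x, hSM hx.1, hx.2⟩ : ↥(M ⊓ C)) ∈ (P₀ : Subgroup ↥(M ⊓ C)) :=
        Subsingleton.elim P₁ P₀ ▸ hP₁ hx
      haveI hMCn : ((M ⊓ C).subgroupOf M).Normal := by
        refine ⟨fun a ha g => Subgroup.mem_subgroupOf.mpr ⟨(g * a * g⁻¹).2, ?_⟩⟩
        obtain ⟨-, haC⟩ := Subgroup.mem_subgroupOf.mp ha
        refine Subgroup.mem_centralizer_iff.mpr fun y hy => ?_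
        have hy' : (g : G)⁻¹ * y * g ∈ Y := by
          have := (Subgroup.mem_normalizer_iff.mp (inv_mem (hMY g.2)) y).mp hy
          simpa using this
        have h := Subgroup.mem_centralizer_iff.mp haC _ hy'
        show y * ((g : G) * (a : G) * (g : G)⁻¹) = (g : G) * (a : G) * (g : G)⁻¹ * y
        calc y * ((g : G) * (a : G) * (g : G)⁻¹) = g * (((g : G)⁻¹ * y * g) * a) * (g : G)⁻¹ := by group
          _ = g * ((a : G) * ((g : G)⁻¹ * y * g)) * (g : G)⁻¹ := by rw [h]
          _ = _ := by group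
      let e := Subgroup.subgroupOfEquivOfLe (inf_le_left : M ⊓ C ≤ M)
      haveI : ((P₀ : Subgroup ↥(M ⊓ C)).map e.symm.toMonoidHom).Characteristic := by
        haveI : (P₀ : Subgroup ↥(M ⊓ C)).Characteristic := Sylow.characteristic_of_normal P₀ hP₀n
        refine Subgroup.characteristic_iff_map_eq.mpr fun φ => ?_
        have h := Subgroup.characteristic_iff_map_eq.mp ‹(P₀ : Subgroup ↥(M ⊓ C)).Characteristic›
          ((e.symm.trans φ).trans e)
        apply Subgroup.map_injective (f := e.toMonoidHom) e.injective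
        rw [Subgroup.map_map, Subgroup.map_map, Subgroup.map_map]
        refine h.trans ?_
        rw [show e.toMonoidHom.comp e.symm.toMonoidHom = MonoidHom.id _ from
          MonoidHom.ext fun y => e.apply_symm_apply y, Subgroup.map_id]
      have hn : (((P₀ : Subgroup ↥(M ⊓ C)).map e.symm.toMonoidHom).map
          ((M ⊓ C).subgroupOf M).subtype).Normal := ConjAct.normal_of_characteristic_of_normal
      exact ⟨⟨x, hSM hx.1⟩, Cfsg.Lib.Core.le_pCore' hn ((P₀.isPGroup'.map _).map _)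
        ⟨_, ⟨_, hxP, rfl⟩, rfl⟩, rfl⟩
    · rintro _ ⟨x, hx, rfl⟩
      exact Cfsg.Lib.Core.pCore_le_sylow (S.subtype hSM) hx
  refine ⟨S.subtype (hSM.trans hMD), fun x hx => ?_, fun d hd => ?_⟩
  · exact (hSC.ge (Subgroup.mem_subgroupOf.mp hx)).1
  refine Subgroup.eq_of_le_of_card_ge (fun x hx => ?_)
    (le_of_eq (Subgroup.card_map_of_injective (f := (MulAut.conj d).toMonoidHom) (MulAut.conj d).injective).symm)
  refine Subgroup.mem_subgroupOf.mpr (hSC.le ⟨hd hx, ?_⟩)
  obtain ⟨a, ha, rfl⟩ := hx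
  have haC : (a : G) ∈ C := hOC (Subgroup.mem_subgroupOf.mp ha)
  refine Subgroup.mem_centralizer_iff.mpr fun y hy => ?_
  show y * ((d : G) * (a : G) * (d : G)⁻¹) = (d : G) * (a : G) * (d : G)⁻¹ * y
  have hy' : (d : G)⁻¹ * y * d ∈ Y := by
    have := (Subgroup.mem_normalizer_iff.mp (inv_mem (hDY d.2)) y).mp hy
    simpa using this
  have h := Subgroup.mem_centralizer_iff.mp haC _ hy'
  calc y * ((d : G) * (a : G) * (d : G)⁻¹) = d * (((d : G)⁻¹ * y * d) * a) * (d : G)⁻¹ := by group
    _ = d * ((a : G) * ((d : G)⁻¹ * y * d)) * (d : G)⁻¹ := by rw [h]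
    _ = _ := by group

end Cfsg.Agent.S2848
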