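import Cfsg.Statements.S2849
import Cfsg.Agent.Lib.Local.PReduced
-- import your own Cfsg.Agent.* helpers here

set_option autoImplicit false
open Cfsg

namespace Cfsg.Agent.S2849

/-- Standing hypotheses: G a finite group, S a Sylow p-subgroup, Q a nontrivial large p-subgroup of G contained in S (C_G(Q) ≤ Q and N_G(U) ≤ N_G(Q) for all nontrivial U ≤ C_G(Q)), and M a subgroup containing S with the basic property (M ∈ 𝔐_G(S)); Y_M denotes the largest p-reduced normal subgroup of M and M† = M·C_G(Y_M). Suppose Y_M is asymmetric in G. Then for every subgroup R with Y_M ≤ R ≤ M†, the normal closure of Y_M in N_G(R) is elementary abelian. -/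
theorem result {G : Type*} [Group G] [Finite G] {p : ℕ} [Fact p.Prime] (S : Sylow p G) (Q : Subgroup G) (hQp : IsPGroup p ↥Q) (hQ1 : Q ≠ ⊥) (hQS : Q ≤ (S : Subgroup G)) (hQ : Cfsg.IsLarge Q) (M : Subgroup G) (hSM : (S : Subgroup G) ≤ M) (hM : Cfsg.IsInFrakM p M) (hasym : ¬ Cfsg.IsSymmetricIn (Cfsg.largestPReducedOf p M)) (R : Subgroup G) (hYR : (Cfsg.largestPReducedOf p M) ≤ R) (hRM : R ≤ (M ⊔ Subgroup.centralizer (((Cfsg.largestPReducedOf p M) : Subgroup G) : Set G))) : Cfsg.IsElementaryAbelian p ((Subgroup.normalClosure ((((Cfsg.largestPReducedOf p M)).subgroupOf (Subgroup.normalizer ((R : Subgroup G) : Set G)) : Subgroup ↥(Subgroup.normalizer ((R : Subgroup G) : Set G))) : Set ↥(Subgroup.normalizer ((R : Subgroup G) : Set G)))).map (Subgroup.normalizer ((R : Subgroup G) : Set G)).subtype) := by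
  set Y := Cfsg.largestPReducedOf p M with hY
  set N := Subgroup.normalizer ((R : Subgroup G) : Set G) with hN
  have hYea : Cfsg.IsElementaryAbelian p Y := Cfsg.Lib.Local.isElementaryAbelian_map _
    (Cfsg.Lib.Local.largestPReduced_isPReducedNormal (p := p) (G := M)).2.1
  have hRY : R ≤ Subgroup.normalizer (Y : Set G) :=
    hRM.trans (sup_le (Cfsg.Lib.Local.normalizer_le_normalizer_largestPReducedOf M)
      fun x hx => Subgroup.centralizer_le_normalizer _ hx)
  have hcomm : ∀ c ∈ N, ∀ y ∈ Y, ∀ y' ∈ Y, Commute y (c * y' * c⁻¹) := by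
    intro c hc y hy y' hy'
    set Z := Y.map (MulAut.conj c).toMonoidHom with hZ
    have hle : ⁅Y, Z⁆ ≤ Y ⊓ Z := by
      refine Subgroup.commutator_le.mpr fun a ha b hb => ?_
      obtain ⟨b₀, hb₀, rfl⟩ := hb
      have hbR : c * b₀ * c⁻¹ ∈ R := (Subgroup.mem_normalizer_iff.mp hc b₀).mp (hYR hb₀)
      constructor
      · show a * (c * b₀ * c⁻¹) * a⁻¹ * (c * b₀ * c⁻¹)⁻¹ ∈ Y
        rw [show a * (c * b₀ * c⁻¹) * a⁻¹ * (c * b₀ * c⁻¹)⁻¹ =
          a * ((c * b₀ * c⁻¹) * a⁻¹ * (c * b₀ * c⁻¹)⁻¹) by group]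
        exact mul_mem ha ((Subgroup.mem_normalizer_iff.mp (hRY hbR) _).mp (inv_mem ha))
      · show a * (c * b₀ * c⁻¹) * a⁻¹ * (c * b₀ * c⁻¹)⁻¹ ∈ Z
        have haR : c⁻¹ * a * c ∈ R := by
          have := (Subgroup.mem_normalizer_iff.mp (inv_mem hc) a).mp (hYR ha)
          simpa using this
        exact ⟨(c⁻¹ * a * c) * b₀ * (c⁻¹ * a * c)⁻¹ * b₀⁻¹,
          mul_mem ((Subgroup.mem_normalizer_iff.mp (hRY haR) _).mp hb₀) (inv_mem hb₀), by
            show c * _ * c⁻¹ = _; group⟩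
    have hbot : ⁅Y, Z⁆ = ⊥ := by
      by_contra h
      exact hasym ⟨c, h, hle⟩
    exact (Subgroup.mem_centralizer_iff.mp (Subgroup.commutator_eq_bot_iff_le_centralizer.mp hbot hy)
      _ ⟨y', hy', rfl⟩).symm
  have hgen : ∀ a ∈ N, ∀ b ∈ N, ∀ y ∈ Y, ∀ y' ∈ Y, Commute (a * y * a⁻¹) (b * y' * b⁻¹) := by
    intro a ha b hb y hy y' hy'
    have h := (hcomm (a⁻¹ * b) (mul_mem (inv_mem ha) hb) y hy y' hy').map (MulAut.conj a).toMonoidHom
    simpa [mul_assoc] using h
  unfold Subgroup.normalClosure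
  rw [MonoidHom.map_closure]
  set s := (Subgroup.normalizer ((R : Subgroup G) : Set G)).subtype '' Group.conjugatesOfSet
    ((Y.subgroupOf (Subgroup.normalizer ((R : Subgroup G) : Set G)) : Subgroup _) : Set _)
  have hs : ∀ x ∈ s, ∃ a ∈ N, ∃ y ∈ Y, x = a * y * a⁻¹ := by
    rintro _ ⟨x, hx, rfl⟩
    obtain ⟨y, hy, hxy⟩ := Group.mem_conjugatesOfSet_iff.mp hx
    obtain ⟨a, rfl⟩ := isConj_iff.mp hxy
    exact ⟨a, a.2, y, Subgroup.mem_subgroupOf.mp hy, rfl⟩
  have hc1 : Subgroup.closure s ≤ Subgroup.centralizer s := (Subgroup.closure_le _).mpr fun x hx => by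
    refine Subgroup.mem_centralizer_iff.mpr fun x' hx' => ?_
    obtain ⟨a, ha, y, hy, rfl⟩ := hs x hx
    obtain ⟨b, hb, y', hy', rfl⟩ := hs x' hx'
    exact (hgen b hb a ha y' hy' y hy).eq
  have hc2 : Subgroup.closure s ≤ Subgroup.centralizer (Subgroup.closure s : Set G) :=
    (Subgroup.closure_le _).mpr fun x hx => Subgroup.mem_centralizer_iff.mpr fun x' hx' =>
      (Subgroup.mem_centralizer_iff.mp (hc1 hx') x hx).symm
  refine ⟨⟨⟨fun u v => Subtype.ext (Subgroup.mem_centralizer_iff.mp (hc2 v.2) _ u.2)⟩⟩, fun x hx => ?_⟩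
  induction hx using Subgroup.closure_induction with
  | mem x hx =>
    obtain ⟨a, ha, y, hy, rfl⟩ := hs x hx
    rw [conj_pow, hYea.2 y hy, mul_one, mul_inv_cancel]
  | one => exact one_pow p
  | mul u v hu hv h1 h2 =>
    rw [(show Commute u v from Subgroup.mem_centralizer_iff.mp (hc2 hv) u hu).mul_pow, h1, h2, one_mul]
  | inv u _ h1 => rw [inv_pow, h1, inv_one]

end Cfsg.Agent.S2849
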