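import Cfsg.Statements.S2850
import Cfsg.Agent.Lib.Local.WeaklyClosed
import Cfsg.Agent.Lib.Local.PReduced
import Cfsg.Agent.Lib.Core.Cores
-- import your own Cfsg.Agent.* helpers here

set_option autoImplicit false
open Cfsg

namespace Cfsg.Agent.S2850
open Subgroup
open scoped commutatorElement

/-- Standing hypotheses: G a finite group, S a Sylow p-subgroup, Q a nontrivial large p-subgroup of G contained in S (C_G(Q) ≤ Q and N_G(U) ≤ N_G(Q) for all nontrivial U ≤ C_G(Q)), and M a subgroup containing S with the basic property (M ∈ 𝔐_G(S)); Y_M denotes the largest p-reduced normal subgroup of M and M† = M·C_G(Y_M). Suppose Y_M is asymmetric in G. Then N_G(L) ≤ N_G(O_p(M)) ≤ M† for every p-subgroup L containing O_p(M); O_p(M) is a weakly closed subgroup of G; for every subgroup L containing O_p(M), L ∩ M† contains a Sylow p-subgroup of L; and two elements of Y_M conjugate in G are conjugate in M. -/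
theorem result {G : Type*} [Group G] [Finite G] {p : ℕ} [Fact p.Prime] (S : Sylow p G) (Q : Subgroup G) (hQp : IsPGroup p ↥Q) (hQ1 : Q ≠ ⊥) (hQS : Q ≤ (S : Subgroup G)) (hQ : Cfsg.IsLarge Q) (M : Subgroup G) (hSM : (S : Subgroup G) ≤ M) (hM : Cfsg.IsInFrakM p M) (hasym : ¬ Cfsg.IsSymmetricIn (Cfsg.largestPReducedOf p M)) : (∀ L : Subgroup G, IsPGroup p ↥L → (Cfsg.pCoreOf p M) ≤ L → Subgroup.normalizer ((L : Subgroup G) : Set G) ≤ Subgroup.normalizer (((Cfsg.pCoreOf p M) : Subgroup G) : Set G) ∧ Subgroup.normalizer (((Cfsg.pCoreOf p M) : Subgroup G) : Set G) ≤ (M ⊔ Subgroup.centralizer (((Cfsg.largestPReducedOf p M) : Subgroup G) : Set G))) ∧ Cfsg.IsWeaklyClosedSubgroup p (Cfsg.pCoreOf p M) ∧ (∀ L : Subgroup G, (Cfsg.pCoreOf p M) ≤ L → Cfsg.IsParabolic p ((L ⊓ (M ⊔ Subgroup.centralizer (((Cfsg.largestPReducedOf p M) : Subgroup G) : Set G))).subgroupOf L)) ∧ (∀ x ∈ (Cfsg.largestPReducedOf p M), ∀ g : G, g * x * g⁻¹ ∈ (Cfsg.largestPReducedOf p M) → ∃ m ∈ M, m * x * m⁻¹ = g * x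 * g⁻¹) := by
  classical
  set O := Cfsg.pCoreOf p M with hO
  set Y := Cfsg.largestPReducedOf p M with hY
  set C := Subgroup.centralizer (Y : Set G) with hC
  set Md := M ⊔ C with hMd
  obtain ⟨hMchar, -, huniq, -, hclosed, -⟩ := hM
  let cj : G → Subgroup G → Subgroup G := fun g K => K.map (MulAut.conj g).toMonoidHom
  have hcjmul : ∀ a b K, cj a (cj b K) = cj (a * b) K := fun a b K =>
    (Cfsg.Lib.Core.map_conj_mul K a b).symm
  have hcj1 : ∀ K, cj 1 K = K := fun K => Cfsg.Lib.Local.map_conj_one K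
  have hcjle : ∀ g {K L : Subgroup G}, K ≤ L → cj g K ≤ cj g L := fun g _ _ h => map_mono h
  have hcjN : ∀ {g} {K : Subgroup G}, g ∈ normalizer (K : Set G) → cj g K = K := fun h =>
    Cfsg.Lib.Core.map_conj_eq_of_mem_normalizer h
  have hOp : IsPGroup p O := Cfsg.Lib.Local.pCoreOf_isPGroup M
  have hOM : O ≤ M := Cfsg.Lib.Local.pCoreOf_le M
  have hMO : M ≤ normalizer (O : Set G) := Cfsg.Lib.Local.le_normalizer_pCoreOf M
  have hMY : M ≤ normalizer (Y : Set G) :=
    Cfsg.Lib.Local.normalizer_le_normalizer_largestPReducedOf M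
  have hYO : Y ≤ O := Cfsg.Lib.Local.largestPReducedOf_le_pCoreOf M
  have hOC : O ≤ C := Cfsg.Lib.Local.pCoreOf_le_centralizer_largestPReducedOf M
  have hMdY : Md ≤ normalizer (Y : Set G) :=
    sup_le hMY (Subgroup.centralizer_le_normalizer _)
  -- the `p`-elements of `C_M(Y)` lie in `O`
  have hclO : ∀ X : Subgroup G, IsPGroup p X → X ≤ M → X ≤ C → X ≤ O := by
    intro X hX hXM hXC
    obtain ⟨P, hP⟩ := (hX.comap_of_injective (M ⊓ C).subtype (M ⊓ C).subtype_injective).exists_le_sylow
    haveI := hclosed P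
    haveI : (P : Subgroup ↥(M ⊓ C)).Characteristic := Sylow.characteristic_of_normal P (hclosed P)
    have hn : M ≤ normalizer (((P : Subgroup ↥(M ⊓ C)).map (M ⊓ C).subtype : Subgroup G) : Set G) := by
      refine le_trans ?_ (Cfsg.Lib.Core.normalizer_le_normalizer_map_char _)
      refine Cfsg.Lib.Core.le_normalizer_iff_conj_mem.mpr fun m hm x hx =>
        ⟨M.mul_mem (M.mul_mem hm hx.1) (M.inv_mem hm), ?_⟩
      exact (mem_normalizer_iff.1 (Cfsg.Lib.Local.normalizer_le_normalizer_centralizer Y (hMY hm)) x).1 hx.2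
    intro x hx
    exact Cfsg.Lib.Local.le_pCoreOf ((map_subtype_le _).trans inf_le_left) hn (P.isPGroup'.map _)
      ⟨⟨x, hXM hx, hXC hx⟩, hP hx, rfl⟩
  let NN : Set G := {n | cj n O ≤ M ∧ O ≤ cj n M}
  have hMNN : ∀ m ∈ M, m ∈ NN := fun m hm =>
    ⟨(hcjN (hMO hm)).le.trans hOM, hOM.trans (hcjN (Subgroup.le_normalizer hm)).ge⟩
  have hNNinv : ∀ n ∈ NN, n⁻¹ ∈ NN := by
    rintro n ⟨h1, h2⟩
    constructor
    · have h3 := hcjle n⁻¹ h2
      rwa [hcjmul, inv_mul_cancel, hcj1] at h3
    · have h3 := hcjle n⁻¹ h1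
      rwa [hcjmul, inv_mul_cancel, hcj1] at h3
  -- words in `NN` keep `Y` inside `O`
  have hwords : ∀ (d : ℕ) (l : List G), l.length = d → (∀ x ∈ l, x ∈ NN) → cj l.prod Y ≤ O := by
    intro d
    induction d with
    | zero =>
      intro l hl _
      rw [List.length_eq_zero_iff.1 hl, List.prod_nil, hcj1]
      exact hYO
    | succ d ih =>
      have haux : ∀ l : List G, l.length = d + 1 → (∀ x ∈ l, x ∈ NN) → cj l.prod Y ≤ M := by
        intro l hl hlN
        cases l with
        | nil => simp at hl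
        | cons n l =>
          rw [List.prod_cons, ← hcjmul]
          exact (hcjle n (ih l (by simpa using hl) fun x hx => hlN x (by simp [hx]))).trans
            (hlN n (by simp)).1
      intro l hl hlN
      set k := l.prod with hk
      have h1 : cj k Y ≤ M := haux l hl hlN
      have h2 : cj k⁻¹ Y ≤ M := by
        rw [hk, List.prod_inv_reverse]
        refine haux _ (by simpa using hl) fun x hx => ?_
        simp only [List.mem_reverse, List.mem_map] at hx
        obtain ⟨y, hy, rfl⟩ := hx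
        exact hNNinv y (hlN y hy)
      have h3 : Y ≤ normalizer ((cj k Y : Subgroup G) : Set G) := by
        have h4 := hcjle k (h2.trans hMY)
        rw [hcjmul, mul_inv_cancel, hcj1] at h4
        exact h4.trans (Cfsg.Lib.Local.normalizer_map_conj Y k).ge
      have h4 : ⁅Y, cj k Y⁆ ≤ Y ⊓ cj k Y := by
        refine le_inf ?_ ?_
        · rw [Subgroup.commutator_le]
          intro y hy z hz
          rw [commutatorElement_def, mul_assoc, mul_assoc]
          refine Y.mul_mem hy ?_
          rw [← mul_assoc]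
          exact (mem_normalizer_iff.1 ((h1.trans hMY) hz) _).1 (Y.inv_mem hy)
        · rw [Subgroup.commutator_le]
          intro y hy z hz
          rw [commutatorElement_def]
          exact (cj k Y).mul_mem ((mem_normalizer_iff.1 (h3 hy) z).1 hz) ((cj k Y).inv_mem hz)
      have h5 : ⁅Y, cj k Y⁆ = ⊥ := by
        by_contra h
        exact hasym ⟨k, h, h4⟩
      refine hclO _ ((hOp.to_le hYO).map _) h1 ?_
      rw [Subgroup.commutator_comm] at h5
      exact Subgroup.commutator_eq_bot_iff_le_centralizer.1 h5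
  have hcharle : ∀ J : Subgroup G, IsPGroup p J → J ≠ ⊥ → M ≤ normalizer (J : Set G) →
      normalizer (J : Set G) ≤ Md := by
    intro J hJp hJ1 hMJ
    set N := normalizer (J : Set G) with hN
    have hJ : J ≤ Cfsg.pCoreOf p N := Cfsg.Lib.Local.le_pCoreOf Subgroup.le_normalizer le_rfl hJp
    have hne : Cfsg.pCoreOf p N ≠ ⊥ := fun h => hJ1 (le_bot_iff.1 (h ▸ hJ))
    have hchar : N ∈ Cfsg.charPSubgroups p G :=
      ⟨fun h => hne (by rw [Cfsg.pCoreOf, h, Subgroup.map_bot]),
        Cfsg.Lib.Local.centralizer_le_of_isParabolic hQp hQ1 hQ ⟨S, hSM.trans hMJ⟩ hne⟩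
    obtain ⟨X, hNX, hX⟩ := (Set.toFinite (Cfsg.charPSubgroups p G)).exists_le_maximal hchar
    exact hNX.trans (huniq X ⟨hX.1, fun L' hL' hle => le_antisymm (hX.2 hL' hle) hle⟩
      (hMJ.trans hNX)).le
  have hNNMd : ∀ n ∈ NN, n ∈ Md := by
    intro n hn
    by_cases hY1 : Y = ⊥
    · refine mem_sup_right (mem_centralizer_iff.2 fun y hy => ?_)
      rw [hY1] at hy
      rw [Subgroup.mem_bot.1 hy, one_mul, mul_one]
    set K := Subgroup.closure NN with hK
    set J := ⨆ k : K, cj k Y with hJ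
    have hJO : J ≤ O := by
      refine iSup_le fun k => ?_
      have hk' : (k : G) ∈ Submonoid.closure (NN ∪ NN⁻¹) := by
        rw [← Subgroup.closure_toSubmonoid]
        exact k.2
      obtain ⟨l, hl, hlk⟩ := Submonoid.exists_list_of_mem_closure hk'
      rw [← hlk]
      refine hwords _ l rfl fun x hx => ?_
      rcases hl x hx with h | h
      · exact h
      · simpa using hNNinv _ h
    have hKJ : K ≤ normalizer (J : Set G) := by
      refine Cfsg.Lib.Core.le_normalizer_iff_conj_mem.mpr fun g hg x hx => ?_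
      have hle : cj g J ≤ J := by
        rw [hJ, show cj g (⨆ k : K, cj k Y) = ⨆ k : K, cj g (cj k Y) from Subgroup.map_iSup _ _]
        exact iSup_le fun k => (hcjmul g k Y).le.trans (le_iSup (fun k : K => cj k Y) ⟨g * k, mul_mem hg k.2⟩)
      exact hle ⟨x, hx, rfl⟩
    have hJ1 : J ≠ ⊥ := fun h => hY1 (le_bot_iff.1 (h ▸ (hcj1 Y).ge.trans
      (le_iSup (fun k : K => cj k Y) 1)))
    exact hcharle J (hOp.to_le hJO) hJ1 (fun m hm => hKJ (subset_closure (hMNN m hm)))
      (hKJ (subset_closure hn))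
  have hcore : ∀ K : Subgroup G, IsPGroup p K → O ≤ K → K ≤ M →
      normalizer (K : Set G) ≤ normalizer (O : Set G) := by
    intro K hK hOK hKM n hn
    have h1 : cj n O ≤ M := ((hcjle n hOK).trans (hcjN hn).le).trans hKM
    have hnMd := hNNMd n ⟨h1, (hOK.trans (hcjN hn).ge).trans (hcjle n hKM)⟩
    have h2 : cj n O ≤ C := by
      have h3 := hcjle n hOC
      rwa [hcjN (Cfsg.Lib.Local.normalizer_le_normalizer_centralizer Y (hMdY hnMd))] at h3
    refine Cfsg.Lib.Core.mem_normalizer_iff_map_conj.2 ?_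
    exact eq_of_le_of_card_ge (hclO _ (hOp.map _) h1 h2)
      (card_map_of_injective (MulAut.conj n).injective).ge
  -- the general normalizer statement
  have hSN : (S : Subgroup G) ≤ normalizer (O : Set G) := hSM.trans hMO
  have hin : ∀ L : Subgroup G, IsPGroup p L → O ≤ L → L ≤ normalizer (O : Set G) →
      normalizer (L : Set G) ≤ normalizer (O : Set G) := by
    intro L hL hOL hLN
    obtain ⟨P, hP⟩ := (hL.comap_of_injective (normalizer (O : Set G)).subtype
      (normalizer (O : Set G)).subtype_injective).exists_le_sylow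
    obtain ⟨m, hm⟩ := MulAction.exists_smul_eq (↥(normalizer (O : Set G))) (S.subtype hSN) P
    have hLm : L ≤ cj m (S : Subgroup G) := by
      intro x hx
      have h1 : (⟨x, hLN hx⟩ : ↥(normalizer (O : Set G))) ∈
          (P : Subgroup ↥(normalizer (O : Set G))) := hP hx
      rw [← hm] at h1
      obtain ⟨y, hy, hyx⟩ := h1
      exact ⟨(y : G), hy, congrArg Subtype.val hyx⟩
    have hRM : cj (m : G)⁻¹ L ≤ M := by
      have := hcjle (m : G)⁻¹ hLm
      rw [hcjmul, inv_mul_cancel, hcj1] at this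
      exact this.trans hSM
    have hOR : O ≤ cj (m : G)⁻¹ L := (hcjN ((normalizer (O : Set G)).inv_mem m.2)).ge.trans (hcjle _ hOL)
    have h2 : normalizer ((cj (m : G)⁻¹ L : Subgroup G) : Set G) ≤ normalizer (O : Set G) :=
      hcore _ (hL.map _) hOR hRM
    rw [show normalizer ((cj (m : G)⁻¹ L : Subgroup G) : Set G) = cj (m : G)⁻¹ (normalizer (L : Set G))
      from Cfsg.Lib.Local.normalizer_map_conj L _] at h2
    have h3 := hcjle (m : G) h2
    rw [hcjmul, mul_inv_cancel, hcj1, hcjN (Subgroup.le_normalizer m.2)] at h3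
    exact h3
  have hall : ∀ L : Subgroup G, IsPGroup p L → O ≤ L →
      normalizer (L : Set G) ≤ normalizer (O : Set G) := by
    intro L hL hOL
    refine hin L hL hOL ?_
    by_contra hLN
    have hL0 : (normalizer (O : Set G)).subgroupOf L < ⊤ := by
      rwa [lt_top_iff_ne_top, Ne, Subgroup.subgroupOf_eq_top]
    haveI : Group.IsNilpotent L := hL.isNilpotent
    obtain ⟨y, hy, hyN⟩ := SetLike.exists_of_lt
      (Group.normalizerCondition_of_isNilpotent (G := L) _ hL0)
    refine hyN (mem_subgroupOf.2 ?_)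
    have hy2 : (y : G) ∈ normalizer ((L ⊓ normalizer (O : Set G) : Subgroup G) : Set G) := by
      refine mem_normalizer_iff.2 fun x => ?_
      constructor
      · intro hx
        exact ⟨L.mul_mem (L.mul_mem y.2 hx.1) (L.inv_mem y.2),
          (mem_normalizer_iff.1 hy ⟨x, hx.1⟩).1 hx.2⟩
      · intro hx
        have hxL : x ∈ L := by
          have := L.mul_mem (L.mul_mem (L.inv_mem y.2) hx.1) y.2
          simpa [mul_assoc] using this
        exact ⟨hxL, (mem_normalizer_iff.1 hy ⟨x, hxL⟩).2 hx.2⟩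
    exact hin (L ⊓ normalizer (O : Set G)) (hL.to_le inf_le_left)
      (le_inf hOL Subgroup.le_normalizer) inf_le_right hy2
  have hwc : Cfsg.IsWeaklyClosedSubgroup p O := Cfsg.Lib.Local.wc_of_forall_normalizer_le hOp hall
  have hNOMd : normalizer (O : Set G) ≤ Md := by
    refine hcharle O hOp (fun h => hMchar.1 ?_) hMO
    exact (Subgroup.map_eq_bot_iff_of_injective _ M.subtype_injective).1 h
  refine ⟨fun L hL hOL => ⟨hall L hL hOL, hNOMd⟩, hwc, fun L hOL => ?_, fun x hx g hgx => ?_⟩
  · obtain ⟨P, hP⟩ := Cfsg.Lib.Local.isParabolic_normalizer_subgroupOf hOp hwc hOL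
    exact ⟨P, fun z hz => ⟨z.2, hNOMd (hP hz)⟩⟩
  · have hOx : O ≤ Subgroup.centralizer ({x} : Set G) := fun o ho =>
      mem_centralizer_singleton_iff.2 (mem_centralizer_iff.1 (hOC ho) x hx).symm
    have hOgx : cj g⁻¹ O ≤ Subgroup.centralizer ({x} : Set G) := by
      rintro _ ⟨o, ho, rfl⟩
      have h1 := (mem_centralizer_iff.1 (hOC ho) _ hgx).symm
      refine mem_centralizer_singleton_iff.2 ?_
      have := congrArg (fun t => g⁻¹ * t * g) h1
      simpa [mul_assoc] using this
    obtain ⟨c, hc, hcO⟩ := Cfsg.Lib.Local.exists_conj_mem_of_le hOp hwc hOx hOgx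
    have hgc : g * c ∈ normalizer (O : Set G) := by
      refine Cfsg.Lib.Core.mem_normalizer_iff_map_conj.2 ?_
      show cj (g * c) O = O
      rw [← hcjmul, show cj c O = cj g⁻¹ O from hcO.symm, hcjmul, mul_inv_cancel, hcj1]
    obtain ⟨m, hm, z, hz, hmz⟩ := (Cfsg.Lib.Core.mem_sup_of_le_normalizer
      (hMY.trans (Cfsg.Lib.Local.normalizer_le_normalizer_centralizer Y))).1 (hNOMd hgc)
    refine ⟨m, hm, ?_⟩
    have h1 : c * x * c⁻¹ = x := by
      rw [mem_centralizer_singleton_iff.1 hc, mul_inv_cancel_right]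
    have h2 : z * x * z⁻¹ = x := by
      rw [← mem_centralizer_iff.1 hz x hx, mul_inv_cancel_right]
    calc m * x * m⁻¹ = (m * z) * x * (m * z)⁻¹ := by
          conv_lhs => rw [← h2]
          group
      _ = (g * c) * x * (g * c)⁻¹ := by rw [hmz]
      _ = g * (c * x * c⁻¹) * g⁻¹ := by group
      _ = g * x * g⁻¹ := by rw [h1]

end Cfsg.Agent.S2850
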