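import Cfsg.Statements.S2851
import Cfsg.Agent.S2849
import Cfsg.Agent.S2850
import Cfsg.Agent.Lib.Local.SubnormalSylow
import Cfsg.Agent.Lib.Local.PReduced
import Cfsg.Agent.Lib.Core.Layer
import Cfsg.Agent.Lib.PGroup.Basic
-- import your own Cfsg.Agent.* helpers here

set_option autoImplicit false
open Cfsg

namespace Cfsg.Agent.S2851
open Subgroup

/-- Standing hypotheses: G a finite group, S a Sylow p-subgroup, Q a nontrivial large p-subgroup of G contained in S, M a subgroup containing S with the basic property (M ∈ 𝔐_G(S)); Y_M the largest p-reduced normal subgroup of M and M† = M·C_G(Y_M). Let F be the preimage in M† of the generalized Fitting subgroup of M†/C_{M†}(Y_M). If Y_M is asymmetric in G and H is a subgroup of characteristic p containing F, then Y_M ≤ Y_H. -/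
theorem result {G : Type*} [Group G] [Finite G] {p : ℕ} [Fact p.Prime] (S : Sylow p G) (Q : Subgroup G) (hQp : IsPGroup p ↥Q) (hQ1 : Q ≠ ⊥) (hQS : Q ≤ (S : Subgroup G)) (hQ : Cfsg.IsLarge Q) (M : Subgroup G) (hSM : (S : Subgroup G) ≤ M) (hM : Cfsg.IsInFrakM p M) (hasym : ¬ Cfsg.IsSymmetricIn (Cfsg.largestPReducedOf p M)) [hn : ((Subgroup.centralizer (((Cfsg.largestPReducedOf p M) : Subgroup G) : Set G)).subgroupOf (M ⊔ Subgroup.centralizer (((Cfsg.largestPReducedOf p M) : Subgroup G) : Set G))).Normal] (F : Subgroup G) (hF : F = ((Cfsg.generalizedFittingSubgroup (↥(M ⊔ Subgroup.centralizer (((Cfsg.largestPReducedOf p M) : Subgroup G) : Set G)) ⧸ (Subgroup.centralizer (((Cfsg.largestPReducedOf p M) : Subgroup G) : Set G)).subgroupOf (M ⊔ Subgroup.centralizer (((Cfsg.largestPReducedOf p M) : Subgroup G) : Set G)))).comap (QuotientGroup.mk' ((Subgroup.centralizer (((Cfsg.largestPReducedOf p M) : Subgroup G) : Set G)).subgroupOf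 (M ⊔ Subgroup.centralizer (((Cfsg.largestPReducedOf p M) : Subgroup G) : Set G))))).map ((M ⊔ Subgroup.centralizer (((Cfsg.largestPReducedOf p M) : Subgroup G) : Set G))).subtype) (H : Subgroup G) (hFH : F ≤ H) (hH : Subgroup.centralizer (Cfsg.pCore p ↥H : Set ↥H) ≤ Cfsg.pCore p ↥H) : (Cfsg.largestPReducedOf p M) ≤ Cfsg.largestPReducedOf p H := by
  classical
  set O := Cfsg.pCoreOf p M with hO
  set Y := Cfsg.largestPReducedOf p M with hY
  set C := centralizer (Y : Set G) with hC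
  set Md := M ⊔ C with hMd
  obtain ⟨hnorm, hwc, hpar, -⟩ := Cfsg.Agent.S2850.result S Q hQp hQ1 hQS hQ M hSM hM hasym
  have hYMd : Y = Cfsg.largestPReducedOf p Md := hM.2.2.2.1
  have hOC : O ≤ C := Cfsg.Lib.Local.pCoreOf_le_centralizer_largestPReducedOf M
  have hYel : Cfsg.IsElementaryAbelian p Y := Cfsg.Lib.Local.largestPReducedOf_isElementaryAbelian M
  have hYO : Y ≤ O := Cfsg.Lib.Local.largestPReducedOf_le_pCoreOf M
  have hCMd : C ≤ Md := le_sup_right
  have hFMd : F ≤ Md := hF ▸ map_subtype_le _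
  let f : ↥Md →* ↥Md ⧸ C.subgroupOf Md := QuotientGroup.mk' (C.subgroupOf Md)
  set Fst := Cfsg.generalizedFittingSubgroup (↥Md ⧸ C.subgroupOf Md) with hFst
  have hCF : C ≤ F := by
    intro x hx
    rw [hF]
    refine ⟨⟨x, hCMd hx⟩, ?_, rfl⟩
    show (QuotientGroup.mk' (C.subgroupOf Md)) ⟨x, hCMd hx⟩ ∈ Fst
    rw [QuotientGroup.mk'_apply, (QuotientGroup.eq_one_iff (⟨x, hCMd hx⟩ : Md)).2 hx]
    exact one_mem _
  have hcore : Cfsg.pCore p (↥Md ⧸ C.subgroupOf Md) = ⊥ := by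
    rw [eq_bot_iff]
    intro z hz
    obtain ⟨x, rfl⟩ := QuotientGroup.mk'_surjective (C.subgroupOf Md) z
    set N := ((Cfsg.pCore p (↥Md ⧸ C.subgroupOf Md)).comap f).map Md.subtype with hN
    have h1 : N ≤ centralizer (Cfsg.largestPReducedOf p Md : Set G) := by
      refine Cfsg.Lib.Local.le_centralizer_largestPReducedOf (map_subtype_le _) ?_ ?_
      · refine Cfsg.Lib.Core.le_normalizer_iff_conj_mem.mpr ?_
        rintro g hg _ ⟨w, hw, rfl⟩
        exact ⟨⟨g, hg⟩ * w * ⟨g, hg⟩⁻¹,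
          (inferInstance : ((Cfsg.pCore p (↥Md ⧸ C.subgroupOf Md)).comap f).Normal).conj_mem w hw _, rfl⟩
      · rintro _ ⟨w, hw, rfl⟩
        obtain ⟨k, hk⟩ := Cfsg.Lib.Core.pCore_isPGroup p (↥Md ⧸ C.subgroupOf Md) ⟨f w, hw⟩
        refine ⟨k, ?_⟩
        rw [← hYMd]
        have hk' : f w ^ p ^ k = 1 := congrArg Subtype.val hk
        rw [← map_pow] at hk'
        exact (QuotientGroup.eq_one_iff (w ^ p ^ k)).1 hk'
    have h2 : (x : G) ∈ C := by
      have := h1 ⟨x, hz, rfl⟩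
      rwa [← hYMd] at this
    rw [Subgroup.mem_bot, QuotientGroup.mk'_apply, QuotientGroup.eq_one_iff]
    exact h2
  -- `p`-sections normalized by `F` act trivially on `Y`
  have key : ∀ P : Subgroup G, P ≤ Md → F ≤ normalizer (P : Set G) →
      (∀ x ∈ P, ∃ k : ℕ, x ^ p ^ k ∈ C) → P ≤ C := by
    intro P hP hn hpow
    set Pb := (P.subgroupOf Md).map f with hPb
    have hPbp : IsPGroup p Pb := by
      rintro ⟨_, w, hw, rfl⟩
      obtain ⟨k, hk⟩ := hpow w hw
      refine ⟨k, Subtype.ext ?_⟩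
      show f w ^ p ^ k = 1
      rw [← map_pow]
      exact (QuotientGroup.eq_one_iff (w ^ p ^ k)).2 hk
    have hnb : Fst ≤ normalizer (Pb : Set (↥Md ⧸ C.subgroupOf Md)) := by
      refine Cfsg.Lib.Core.le_normalizer_iff_conj_mem.mpr ?_
      rintro z hz _ ⟨w, hw, rfl⟩
      obtain ⟨u, rfl⟩ := QuotientGroup.mk'_surjective (C.subgroupOf Md) z
      have hu : (u : G) ∈ F := hF ▸ ⟨u, hz, rfl⟩
      exact ⟨u * w * u⁻¹, (mem_normalizer_iff.1 (hn hu) w).1 hw, by
        show f _ = f u * f w * (f u)⁻¹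
        rw [map_mul, map_mul, map_inv]⟩
    have hFn : Fst.Normal := hFst ▸ inferInstance
    have hinf : Fst ⊓ Pb = ⊥ := by
      rw [eq_bot_iff, ← hcore]
      refine Cfsg.Lib.Core.le_pCore_of_isSubnormal ?_ (hPbp.to_le inf_le_right)
      refine Cfsg.Lib.Core.isSubnormal_of_normal_subgroupOf inf_le_left hFn.isSubnormal
        (normal_subgroupOf_of_le_normalizer ?_)
      exact Cfsg.Lib.Core.le_normalizer_iff_conj_mem.mpr fun u hu w hw =>
        ⟨Fst.mul_mem (Fst.mul_mem hu hw.1) (Fst.inv_mem hu), (mem_normalizer_iff.1 (hnb hu) w).1 hw.2⟩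
    have hcen : Pb ≤ centralizer (Fst : Set (↥Md ⧸ C.subgroupOf Md)) := by
      intro w hw
      refine mem_centralizer_iff.2 fun u hu => ?_
      have hm : u * w * u⁻¹ * w⁻¹ ∈ Fst ⊓ Pb :=
        ⟨by rw [mul_assoc u w, mul_assoc u]; exact Fst.mul_mem hu (hFn.conj_mem _ (Fst.inv_mem hu) w),
          Pb.mul_mem ((mem_normalizer_iff.1 (hnb hu) w).1 hw) (Pb.inv_mem hw)⟩
      rw [hinf, Subgroup.mem_bot, mul_inv_eq_one] at hm
      exact mul_inv_eq_iff_eq_mul.1 hm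
    have hbot : Pb = ⊥ := by
      rw [← hinf, eq_comm, inf_eq_right]
      exact hcen.trans Cfsg.Lib.Core.centralizer_generalizedFitting_le
    intro x hx
    have : f ⟨x, hP hx⟩ ∈ Pb := ⟨⟨x, hP hx⟩, hx, rfl⟩
    rw [hbot, Subgroup.mem_bot] at this
    exact (QuotientGroup.eq_one_iff (⟨x, hP hx⟩ : Md)).1 this
  have hCH : C ≤ H := hCF.trans hFH
  have hOH : O ≤ H := hOC.trans hCH
  have hYH : Y ≤ H := hYO.trans hOH
  set X := Cfsg.pCoreOf p H with hX
  have hXp : IsPGroup p X := Cfsg.Lib.Local.pCoreOf_isPGroup H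
  have hHX : H ≤ normalizer (X : Set G) := Cfsg.Lib.Local.le_normalizer_pCoreOf H
  obtain ⟨T, hT⟩ := hpar H hOH
  have hTMd : ∀ x ∈ (T : Subgroup H), (x : G) ∈ Md := fun x hx =>
    (mem_subgroupOf.1 (hT hx) : (x : G) ∈ H ⊓ Md).2
  have hXMd : X ≤ Md := by
    rintro _ ⟨x, hx, rfl⟩
    exact hTMd x (Cfsg.Lib.Core.pCore_le_sylow T hx)
  have hXC : X ≤ C := key X hXMd (hFH.trans hHX) fun x hx => by
    obtain ⟨k, hk⟩ := hXp ⟨x, hx⟩
    exact ⟨k, by rw [show x ^ p ^ k = 1 from congrArg Subtype.val hk]; exact C.one_mem⟩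
  have hYX : Y ≤ X := by
    intro y hy
    refine ⟨⟨y, hYH hy⟩, hH (mem_centralizer_iff.2 fun x hx => Subtype.ext ?_), rfl⟩
    exact (mem_centralizer_iff.1 (hXC ⟨x, hx, rfl⟩) y hy).symm
  -- the closure of `Y` in `H`
  set W := Subgroup.closure {x : G | ∃ h ∈ H, ∃ y ∈ Y, h * y * h⁻¹ = x} with hW
  have hWel : Cfsg.IsElementaryAbelian p W := by
    refine Cfsg.Lib.PGroup.isElementaryAbelian_of_le
      (Cfsg.Agent.S2849.result S Q hQp hQ1 hQS hQ M hSM hM hasym X hYX hXMd) ?_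
    rw [hW, closure_le]
    rintro _ ⟨h, hh, y, hy, rfl⟩
    exact ⟨⟨h, hHX hh⟩ * ⟨y, hHX (hYH hy)⟩ * ⟨h, hHX hh⟩⁻¹,
      normalClosure_normal.conj_mem _ (subset_normalClosure (mem_subgroupOf.2 hy)) _, rfl⟩
  have hYW : Y ≤ W := fun y hy => subset_closure ⟨1, H.one_mem, y, hy, by group⟩
  refine hYW.trans (Cfsg.Lib.Local.le_largestPReducedOf ?_ ?_ hWel ?_)
  · rw [hW, closure_le]
    rintro _ ⟨h, hh, y, hy, rfl⟩
    exact H.mul_mem (H.mul_mem hh (hYH hy)) (H.inv_mem hh)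
  · refine Cfsg.Lib.Core.le_normalizer_iff_conj_mem.mpr fun g hg x hx => ?_
    have h1 : W ≤ W.comap (MulAut.conj g).toMonoidHom := by
      rw [hW, closure_le]
      rintro _ ⟨h, hh, y, hy, rfl⟩
      exact subset_closure ⟨g * h, H.mul_mem hg hh, y, hy, by simp [mul_assoc]⟩
    exact h1 hx
  intro N hN hNn hpow
  have hpowC : ∀ x ∈ N, ∃ k : ℕ, x ^ p ^ k ∈ C := fun x hx =>
    (hpow x hx).imp fun k hk => centralizer_le hYW hk
  have hNMd : N ⊓ Md ≤ C := by
    refine key _ inf_le_right ?_ fun x hx => hpowC x hx.1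
    exact Cfsg.Lib.Core.le_normalizer_iff_conj_mem.mpr fun g hg x hx =>
      ⟨(mem_normalizer_iff.1 (hNn (hFH hg)) x).1 hx.1,
        Md.mul_mem (Md.mul_mem (hFMd hg) hx.2) (Md.inv_mem (hFMd hg))⟩
  have hNC : N ≤ C := by
    rw [← subgroupOf_eq_top, ← index_eq_one]
    by_contra h1
    obtain ⟨q, hq, hqd⟩ := Nat.exists_prime_and_dvd h1
    haveI : Fact q.Prime := ⟨hq⟩
    by_cases hqp : q = p
    · subst hqp
      haveI := normal_subgroupOf_of_le_normalizer hNn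
      refine Cfsg.Lib.Local.not_dvd_relIndex_inf T (A := N.subgroupOf H) (Subgroup.Normal.isSubnormal inferInstance) (hqd.trans ?_)
      rw [← relIndex_map_map_of_injective _ _ H.subtype_injective, map_subgroupOf_eq_of_le hN]
      refine relIndex_dvd_of_le_left N ?_
      rintro _ ⟨x, ⟨hxT, hxN⟩, rfl⟩
      exact hNMd ⟨hxN, hTMd x hxT⟩
    obtain ⟨Sq⟩ : Nonempty (Sylow q N) := inferInstance
    refine Sq.not_dvd_index (hqd.trans (index_dvd_of_le fun x hx => ?_))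
    obtain ⟨j, hj⟩ := Sq.isPGroup' ⟨x, hx⟩
    have hj' : (x : G) ^ q ^ j = 1 := congrArg (fun t : Sq => ((t : N) : G)) hj
    obtain ⟨k, hk⟩ := hpowC x x.2
    show (x : G) ∈ C
    have e := Nat.gcd_eq_gcd_ab (p ^ k) (q ^ j)
    rw [Nat.coprime_iff_gcd_eq_one.1 (Nat.Coprime.pow _ _ ((Nat.coprime_primes Fact.out hq).2 (Ne.symm hqp))),
      Nat.cast_one] at e
    rw [← zpow_one (x : G), e, zpow_add, zpow_mul, zpow_mul, zpow_natCast, zpow_natCast, hj', one_zpow,
      mul_one]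
    exact zpow_mem hk _
  rw [Subgroup.le_centralizer_iff, hW, closure_le]
  rintro _ ⟨h, hh, y, hy, rfl⟩
  refine mem_centralizer_iff.2 fun n hn => ?_
  have h1 : h⁻¹ * n * h ∈ C := hNC (by
    simpa using (mem_normalizer_iff.1 (hNn (H.inv_mem hh)) n).1 hn)
  have h2 := mem_centralizer_iff.1 h1 y hy
  calc n * (h * y * h⁻¹) = h * (h⁻¹ * n * h * y) * h⁻¹ := by group
    _ = h * (y * (h⁻¹ * n * h)) * h⁻¹ := by rw [h2]
    _ = h * y * h⁻¹ * n := by group

end Cfsg.Agent.S2851
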