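import Cfsg.Statements.S2852
import Cfsg.Agent.S2850
import Cfsg.Agent.Lib.Local.WeaklyClosed
import Cfsg.Agent.Lib.Local.PReduced
import Cfsg.Agent.Lib.Core.Cores
-- import your own Cfsg.Agent.* helpers here

set_option autoImplicit false
open Cfsg

namespace Cfsg.Agent.S2852
open Subgroup
open scoped commutatorElement

/-- Standing hypotheses: G a finite group, S a Sylow p-subgroup, Q a nontrivial large p-subgroup of G contained in S, M a subgroup containing S with the basic property (M ∈ 𝔐_G(S)); Y_M the largest p-reduced normal subgroup of M. If Y_M is char-p-tall and asymmetric in G, then some subgroup H of G lies in ℌ_G(O_p(M)): H has characteristic p, O_p(M) ≤ H, Y_M ≰ O_p(H), and Y_M ≤ O_p(P) for every proper subgroup P of H containing O_p(M). -/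
theorem result {G : Type*} [Group G] [Finite G] {p : ℕ} [Fact p.Prime] (S : Sylow p G) (Q : Subgroup G) (hQp : IsPGroup p ↥Q) (hQ1 : Q ≠ ⊥) (hQS : Q ≤ (S : Subgroup G)) (hQ : Cfsg.IsLarge Q) (M : Subgroup G) (hSM : (S : Subgroup G) ≤ M) (hM : Cfsg.IsInFrakM p M) (htall : Cfsg.IsCharPTall p (Cfsg.largestPReducedOf p M)) (hasym : ¬ Cfsg.IsSymmetricIn (Cfsg.largestPReducedOf p M)) : ∃ H : Subgroup G, Cfsg.IsInFrakH p M H := by
  classical
  set O := Cfsg.pCoreOf p M with hO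
  set Y := Cfsg.largestPReducedOf p M with hY
  obtain ⟨hnorm, hwc, -, -⟩ := Cfsg.Agent.S2850.result S Q hQp hQ1 hQS hQ M hSM hM hasym
  have hOp : IsPGroup p O := Cfsg.Lib.Local.pCoreOf_isPGroup M
  have hCO : centralizer (O : Set G) ≤ O := hM.1.2
  have hYO : Y ≤ O := Cfsg.Lib.Local.largestPReducedOf_le_pCoreOf M
  have hOC : O ≤ centralizer (Y : Set G) := Cfsg.Lib.Local.pCoreOf_le_centralizer_largestPReducedOf M
  obtain ⟨T, L, hTL, hLchar, hYL⟩ := htall
  -- move `O` into `L`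
  obtain ⟨R, hR⟩ := (hOp.comap_of_injective (centralizer (Y : Set G)).subtype
    (centralizer (Y : Set G)).subtype_injective).exists_le_sylow
  obtain ⟨c, hc⟩ := MulAction.exists_smul_eq (↥(centralizer (Y : Set G))) T R
  set L' := L.map (MulAut.conj (c : G)).toMonoidHom with hL'
  have hOL' : O ≤ L' := by
    intro x hx
    have h1 : (⟨x, hOC hx⟩ : ↥(centralizer (Y : Set G))) ∈
        (R : Subgroup ↥(centralizer (Y : Set G))) := hR hx
    rw [← hc] at h1
    obtain ⟨y, hy, hyx⟩ := h1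
    exact ⟨(y : G), hTL ⟨y, hy, rfl⟩, congrArg Subtype.val hyx⟩
  set X := (Cfsg.pCore p ↥L).map L.subtype with hX
  set X' := X.map (MulAut.conj (c : G)).toMonoidHom with hX'
  have hX'eq : X' = Cfsg.pCoreOf p L' := (Cfsg.Lib.Local.pCoreOf_map_conj L (c : G)).symm
  have hYX' : ¬ Y ≤ X' := by
    intro h
    refine hYL fun y hy => ?_
    obtain ⟨z, hz, hzy⟩ := h hy
    have hzy' : (c : G) * z * (c : G)⁻¹ = y := hzy
    have hcy : y * (c : G) = (c : G) * y := mem_centralizer_iff.1 c.2 y hy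
    have : z = y := by
      calc z = (c : G)⁻¹ * ((c : G) * z * (c : G)⁻¹) * c := by group
        _ = (c : G)⁻¹ * (y * c) := by rw [hzy', mul_assoc]
        _ = y := by rw [hcy, inv_mul_cancel_left]
    exact this ▸ hz
  have hCX : ∀ w ∈ L', w ∈ centralizer (X' : Set G) → w ∈ X' := by
    rintro _ ⟨l, hl, rfl⟩ hw
    refine ⟨l, ⟨⟨l, hl⟩, hLchar (mem_centralizer_iff.2 fun t ht => Subtype.ext ?_), rfl⟩, rfl⟩
    have h := mem_centralizer_iff.1 hw ((c : G) * t * (c : G)⁻¹) ⟨t, ⟨t, ht, rfl⟩, rfl⟩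
    have h2 := congrArg (fun u => (c : G)⁻¹ * u * c) h
    simpa [mul_assoc] using h2
  have hX'p : IsPGroup p X' := hX'eq ▸ Cfsg.Lib.Local.pCoreOf_isPGroup L'
  have hLX' : L' ≤ normalizer (X' : Set G) := hX'eq ▸ Cfsg.Lib.Local.le_normalizer_pCoreOf L'
  have hXO : X' ≤ normalizer (O : Set G) := by
    have hp' : IsPGroup p ↥(O ⊔ X') :=
      Cfsg.Lib.Local.isPGroup_sup_of_le_normalizer hOp hX'p (hOL'.trans hLX')
    exact le_sup_right.trans (Subgroup.le_normalizer.trans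
      (Cfsg.Lib.Local.wc_normalizer_le hwc hp' le_sup_left))
  -- every subgroup between `O` and `L'` has characteristic `p`
  have hcharP : ∀ P : Subgroup G, O ≤ P → P ≤ L' →
      centralizer (Cfsg.pCore p ↥P : Set ↥P) ≤ Cfsg.pCore p ↥P := by
    intro P hOP hPL
    set D := Cfsg.pCoreOf p P with hD
    have hPD : P ≤ normalizer (D : Set G) := Cfsg.Lib.Local.le_normalizer_pCoreOf P
    set E := P ⊓ centralizer (D : Set G) with hE
    have hPE : P ≤ normalizer (E : Set G) :=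
      Cfsg.Lib.Core.le_normalizer_iff_conj_mem.mpr fun g hg x hx =>
        ⟨P.mul_mem (P.mul_mem hg hx.1) (P.inv_mem hg),
          (mem_normalizer_iff.1 (Cfsg.Lib.Local.normalizer_le_normalizer_centralizer D (hPD hg)) x).1 hx.2⟩
    set D₀ := ⁅X', O⁆ with hD₀
    have hD₀X : D₀ ≤ X' := by
      rw [hD₀, Subgroup.commutator_le]
      intro x hx o ho
      rw [commutatorElement_def, mul_assoc, mul_assoc, ← mul_assoc o]
      exact X'.mul_mem hx ((mem_normalizer_iff.1 ((hOL'.trans hLX') ho) _).1 (X'.inv_mem hx))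
    have hD₀O : D₀ ≤ O := by
      rw [hD₀, Subgroup.commutator_le]
      intro x hx o ho
      rw [commutatorElement_def]
      exact O.mul_mem ((mem_normalizer_iff.1 (hXO hx) o).1 ho) (O.inv_mem ho)
    have hXPD : X' ⊓ P ≤ D := by
      refine Cfsg.Lib.Local.le_pCoreOf inf_le_right ?_ (hX'p.to_le inf_le_left)
      exact Cfsg.Lib.Core.le_normalizer_iff_conj_mem.mpr fun g hg x hx =>
        ⟨(mem_normalizer_iff.1 (hLX' (hPL hg)) x).1 hx.1, P.mul_mem (P.mul_mem hg hx.2) (P.inv_mem hg)⟩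
    have hED₀ : ∀ e ∈ E, ∀ d ∈ D₀, e * d * e⁻¹ = d := fun e he d hd => by
      rw [← mem_centralizer_iff.1 he.2 d (hXPD ⟨hD₀X hd, hOP (hD₀O hd)⟩), mul_inv_cancel_right]
    -- `[E, O]` acts on `X'` as a `p`-group
    let W : Subgroup G :=
      { carrier := {k | k ∈ E ∧ ∀ x ∈ X', k * x * k⁻¹ * x⁻¹ ∈ D₀}
        one_mem' := ⟨E.one_mem, fun x _ => by simp⟩
        mul_mem' := fun {a b} ha hb => ⟨E.mul_mem ha.1 hb.1, fun x hx => by
          rw [show a * b * x * (a * b)⁻¹ * x⁻¹ =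
            (a * (b * x * b⁻¹ * x⁻¹) * a⁻¹) * (a * x * a⁻¹ * x⁻¹) by group, hED₀ a ha.1 _ (hb.2 x hx)]
          exact D₀.mul_mem (hb.2 x hx) (ha.2 x hx)⟩
        inv_mem' := fun {a} ha => ⟨E.inv_mem ha.1, fun x hx => by
          rw [show a⁻¹ * x * a⁻¹⁻¹ * x⁻¹ = a⁻¹ * (a * x * a⁻¹ * x⁻¹)⁻¹ * a⁻¹⁻¹ by group,
            hED₀ _ (E.inv_mem ha.1) _ (D₀.inv_mem (ha.2 x hx))]
          exact D₀.inv_mem (ha.2 x hx)⟩ }
    have hW : ⁅E, O⁆ ≤ W := by
      rw [Subgroup.commutator_le]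
      intro e he o ho
      refine ⟨?_, fun x hx => ?_⟩
      · rw [commutatorElement_def, mul_assoc, mul_assoc, ← mul_assoc o]
        exact E.mul_mem he ((mem_normalizer_iff.1 (hPE (hOP ho)) _).1 (E.inv_mem he))
      · have hc : ∀ y ∈ X', ∀ u ∈ O, u * y * u⁻¹ * y⁻¹ ∈ D₀ := fun y hy u hu => by
          rw [hD₀, Subgroup.commutator_comm]
          exact Subgroup.commutator_mem_commutator hu hy
        have hx1 : e⁻¹ * x * e ∈ X' := by
          simpa using (mem_normalizer_iff.1 (hLX' (L'.inv_mem (hPL he.1))) x).1 hx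
        set d₁ := o⁻¹ * x * o⁻¹⁻¹ * x⁻¹ with hd₁
        have hd₁m : d₁ ∈ D₀ := hc x hx _ (O.inv_mem ho)
        set d₂ := o * (e⁻¹ * x * e) * o⁻¹ * (e⁻¹ * x * e)⁻¹ with hd₂
        have hd₂m : d₂ ∈ D₀ := hc _ hx1 o ho
        have hod : o * d₁ * o⁻¹ ∈ D₀ := by
          refine (mem_normalizer_iff.1 ?_ d₁).1 hd₁m
          rw [hD₀, Subgroup.commutator_comm]
          exact Subgroup.normalizer_commutator_ge_left O X' ho
        have he1 : e⁻¹ * d₁ * e = d₁ := by simpa using hED₀ _ (E.inv_mem he) d₁ hd₁m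
        rw [commutatorElement_def,
          show e * o * e⁻¹ * o⁻¹ * x * (e * o * e⁻¹ * o⁻¹)⁻¹ * x⁻¹ =
            e * (o * (e⁻¹ * d₁ * e) * o⁻¹ * d₂) * e⁻¹ by rw [hd₁, hd₂]; group,
          he1, hED₀ e he _ (D₀.mul_mem hod hd₂m)]
        exact D₀.mul_mem hod hd₂m
    have hstab : ∀ (k x d : G), k * x * k⁻¹ = d * x → k * d * k⁻¹ = d →
        ∀ n : ℕ, k ^ n * x * (k ^ n)⁻¹ = d ^ n * x := by
      intro k x d h1 h2 n
      induction n with
      | zero => simp
      | succ n ih =>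
        calc k ^ (n + 1) * x * (k ^ (n + 1))⁻¹ = k * (k ^ n * x * (k ^ n)⁻¹) * k⁻¹ := by
              rw [pow_succ']; group
          _ = (k * d * k⁻¹) ^ n * (k * x * k⁻¹) := by rw [ih, conj_pow]; group
          _ = d ^ (n + 1) * x := by rw [h2, h1, pow_succ, mul_assoc]
    have hKp : IsPGroup p ↥⁅E, O⁆ := by
      intro k
      obtain ⟨n, hn⟩ := hX'p.exists_card_eq
      have hk := hW k.2
      have h1 : (k : G) ^ p ^ n ∈ X' := by
        refine hCX _ (L'.pow_mem (hPL hk.1.1) _) (mem_centralizer_iff.2 fun x hx => ?_)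
        have hd := hk.2 x hx
        have h2 := hstab (k : G) x _ (by group) (hED₀ _ hk.1 _ hd) (p ^ n)
        have h3 : ((k : G) * x * (k : G)⁻¹ * x⁻¹) ^ p ^ n = 1 := by
          rw [← hn]
          exact congrArg Subtype.val (pow_card_eq_one' (x := (⟨_, hD₀X hd⟩ : X')))
        rw [h3, one_mul] at h2
        exact (mul_inv_eq_iff_eq_mul.1 h2).symm
      obtain ⟨j, hj⟩ := hX'p ⟨_, h1⟩
      refine ⟨n + j, Subtype.ext ?_⟩
      rw [pow_add, coe_pow, pow_mul]
      exact congrArg Subtype.val hj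
    have hKE : ⁅E, O⁆ ≤ D := by
      refine (Cfsg.Lib.Local.le_pCoreOf (H := E) (hW.trans fun w hw => hw.1) ?_ hKp).trans ?_
      · exact Subgroup.normalizer_commutator_ge_left E O
      · exact Cfsg.Lib.Local.le_pCoreOf ((Cfsg.Lib.Local.pCoreOf_le E).trans inf_le_left)
          (hPE.trans (Cfsg.Lib.Local.normalizer_le_normalizer_pCoreOf E))
          (Cfsg.Lib.Local.pCoreOf_isPGroup E)
    have hEp : IsPGroup p E := by
      intro x
      obtain ⟨a, m, hm, he⟩ :=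
        Nat.exists_eq_pow_mul_and_not_dvd (orderOf_pos (x : G)).ne' p (Fact.out : p.Prime).ne_one
      refine ⟨a, Subtype.ext ?_⟩
      show (x : G) ^ p ^ a = 1
      set y := (x : G) ^ p ^ a with hy
      have hym : y ^ m = 1 := by rw [hy, ← pow_mul, ← he, pow_orderOf_eq_one]
      have hyE : y ∈ E := E.pow_mem x.2 _
      have hyC : y ∈ centralizer (O : Set G) := by
        refine mem_centralizer_iff.2 fun o ho => ?_
        have hd : y * o * y⁻¹ * o⁻¹ ∈ D := hKE (Subgroup.commutator_mem_commutator hyE ho)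
        have hfix : y * (y * o * y⁻¹ * o⁻¹) * y⁻¹ = y * o * y⁻¹ * o⁻¹ := by
          rw [← mem_centralizer_iff.1 hyE.2 _ hd, mul_inv_cancel_right]
        obtain ⟨j, hj⟩ := Cfsg.Lib.Local.pCoreOf_isPGroup P ⟨_, hd⟩
        have hj' : (y * o * y⁻¹ * o⁻¹) ^ p ^ j = 1 := congrArg Subtype.val hj
        have h2 := hstab y o _ (by group) hfix m
        rw [hym, inv_one, mul_one, one_mul, right_eq_mul] at h2
        have h3 : y * o * y⁻¹ * o⁻¹ = 1 := orderOf_eq_one_iff.1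
          (Nat.eq_one_of_dvd_coprimes
            (((Fact.out : p.Prime).coprime_iff_not_dvd.mpr hm).symm.pow_right j)
            (orderOf_dvd_of_pow_eq_one h2) (orderOf_dvd_of_pow_eq_one hj'))
        exact (mul_inv_eq_iff_eq_mul.1 (mul_inv_eq_one.1 h3)).symm
      obtain ⟨j, hj⟩ := hOp ⟨y, hCO hyC⟩
      have hj' : y ^ p ^ j = 1 := congrArg Subtype.val hj
      exact orderOf_eq_one_iff.1 (Nat.eq_one_of_dvd_coprimes
        (((Fact.out : p.Prime).coprime_iff_not_dvd.mpr hm).symm.pow_right j)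
        (orderOf_dvd_of_pow_eq_one hym) (orderOf_dvd_of_pow_eq_one hj'))
    have hEle : E ≤ D := Cfsg.Lib.Local.le_pCoreOf inf_le_left hPE hEp
    intro z hz
    have h1 : (z : G) ∈ E := ⟨z.2, mem_centralizer_iff.2 (by
      rintro _ ⟨d, hd, rfl⟩
      exact congrArg Subtype.val (mem_centralizer_iff.1 hz d hd))⟩
    obtain ⟨d, hd, hdz⟩ := hEle h1
    exact Subtype.ext hdz ▸ hd
  obtain ⟨H, -, hH⟩ := (Set.toFinite {P : Subgroup G | O ≤ P ∧ P ≤ L' ∧ ¬ Y ≤ Cfsg.pCoreOf p P}).exists_le_minimal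
    (show L' ∈ _ from ⟨hOL', le_rfl, hX'eq ▸ hYX'⟩)
  obtain ⟨hOH, hHL, hYH⟩ := hH.1
  refine ⟨H, hcharP H hOH hHL, hOH, hYH, fun P hOP hPH => ?_⟩
  by_contra hYP
  exact hPH.not_ge (hH.2 ⟨hOP, hPH.le.trans hHL, hYP⟩ hPH.le)

end Cfsg.Agent.S2852
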