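import Cfsg.Statements.S2853
import Cfsg.Agent.S2850
import Cfsg.Agent.Lib.Local.WeaklyClosed
import Cfsg.Agent.Lib.Local.PReduced
import Cfsg.Agent.Lib.Core.Cores
import Cfsg.Agent.Lib.Fusion.Basic
-- import your own Cfsg.Agent.* helpers here

set_option autoImplicit false
open Cfsg

namespace Cfsg.Agent.S2853
open Subgroup
open scoped commutatorElement

/-- Standing hypotheses: G a finite group, S a Sylow p-subgroup, Q a nontrivial large p-subgroup of G contained in S, M a subgroup containing S with the basic property (M ∈ 𝔐_G(S)); Y_M the largest p-reduced normal subgroup of M and M† = M·C_G(Y_M). Suppose Y_M is char-p-tall and asymmetric in G and H ∈ ℌ_G(O_p(M)). Then every Sylow p-subgroup of H ∩ M† is a Sylow p-subgroup of H; O_p(H) normalizes O_p(M) and Y_M; O^p(H) = [O^p(H), Y_M] and H = O^p(H)·O_p(M); O^p(H)·Y_M is the normal closure of Y_M in H; and H is the normal closure of O_p(M) in H. Here O^p(H) is the subgroup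 generated by the elements of H of order prime to p. -/
theorem result {G : Type*} [Group G] [Finite G] {p : ℕ} [Fact p.Prime] (S : Sylow p G) (Q : Subgroup G) (hQp : IsPGroup p ↥Q) (hQ1 : Q ≠ ⊥) (hQS : Q ≤ (S : Subgroup G)) (hQ : Cfsg.IsLarge Q) (M : Subgroup G) (hSM : (S : Subgroup G) ≤ M) (hM : Cfsg.IsInFrakM p M) (htall : Cfsg.IsCharPTall p (Cfsg.largestPReducedOf p M)) (hasym : ¬ Cfsg.IsSymmetricIn (Cfsg.largestPReducedOf p M)) (H : Subgroup G) (hH : Cfsg.IsInFrakH p M H) (R : Subgroup G) (hR : R = (Cfsg.pResidual p ↥H).map H.subtype) : (∀ T : Sylow p ↥(H ⊓ (M ⊔ Subgroup.centralizer (((Cfsg.largestPReducedOf p M) : Subgroup G) : Set G))), ∃ P : Sylow p ↥H, ((P : Subgroup ↥H).map H.subtype) = (T : Subgroup ↥(H ⊓ (M ⊔ Subgroup.centralizer (((Cfsg.largestPReducedOf p M) : Subgroup G) : Set G)))).map (H ⊓ (M ⊔ Subgroup.centralizer (((Cfsg.largestPReducedOf p M) : Subgroup G) : Set G))).subtype) ∧ Cfsg.pCoreOf p H ≤ Subgroup.normalizer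 (((Cfsg.pCoreOf p M) : Subgroup G) : Set G) ⊓ Subgroup.normalizer (((Cfsg.largestPReducedOf p M) : Subgroup G) : Set G) ∧ ⁅R, (Cfsg.largestPReducedOf p M)⁆ = R ∧ R ⊔ (Cfsg.pCoreOf p M) = H ∧ R ⊔ (Cfsg.largestPReducedOf p M) = (Subgroup.normalClosure ((((Cfsg.largestPReducedOf p M)).subgroupOf H : Subgroup ↥H) : Set ↥H)).map H.subtype ∧ (Subgroup.normalClosure ((((Cfsg.pCoreOf p M)).subgroupOf H : Subgroup ↥H) : Set ↥H)).map H.subtype = H := by
  classical
  set O := Cfsg.pCoreOf p M with hO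
  set Y := Cfsg.largestPReducedOf p M with hY
  set Md := M ⊔ centralizer (Y : Set G) with hMd
  obtain ⟨hnorm, hwc, hpar, -⟩ := Cfsg.Agent.S2850.result S Q hQp hQ1 hQS hQ M hSM hM hasym
  have hOp : IsPGroup p O := Cfsg.Lib.Local.pCoreOf_isPGroup M
  have hYO : Y ≤ O := Cfsg.Lib.Local.largestPReducedOf_le_pCoreOf M
  have hYp : IsPGroup p Y := hOp.to_le hYO
  obtain ⟨-, hOH, hYH, hmin⟩ := hH
  have hYH' : Y ≤ H := hYO.trans hOH
  have hMdY : Md ≤ normalizer (Y : Set G) :=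
    sup_le (Cfsg.Lib.Local.normalizer_le_normalizer_largestPReducedOf M) (centralizer_le_normalizer _)
  have hNOY : normalizer (O : Set G) ≤ normalizer (Y : Set G) := ((hnorm O hOp le_rfl).2).trans hMdY
  refine ⟨fun T => ?_, ?_, ?_⟩
  · obtain ⟨P, hP⟩ := hpar H hOH
    have hP' : (P : Subgroup H).map H.subtype ≤ (H ⊓ Md) := by
      rintro _ ⟨x, hx, rfl⟩
      exact ⟨x.2, (mem_subgroupOf.1 (hP hx) : (x : G) ∈ H ⊓ Md).2⟩
    obtain ⟨P₁, hP₁⟩ := ((P.isPGroup'.map H.subtype).comap_of_injective (H ⊓ Md).subtype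
      (H ⊓ Md).subtype_injective).exists_le_sylow
    obtain ⟨k, hk⟩ := MulAction.exists_smul_eq (↥(H ⊓ Md)) P₁ T
    have hle : (T : Subgroup ↥(H ⊓ Md : Subgroup G)).map (H ⊓ Md).subtype ≤ H := (map_subtype_le _).trans inf_le_left
    obtain ⟨P₂, hP₂⟩ := ((T.isPGroup'.map (H ⊓ Md).subtype).comap_of_injective H.subtype
      H.subtype_injective).exists_le_sylow
    refine ⟨P₂, (eq_of_le_of_card_ge ?_ ?_).symm⟩
    · intro x hx
      exact ⟨⟨x, hle hx⟩, hP₂ hx, rfl⟩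
    · have h1 : Nat.card ↥((P : Subgroup H).map H.subtype) ≤ Nat.card P₁ := by
        rw [← Nat.card_congr (subgroupOfEquivOfLe hP').toEquiv]
        exact card_le_of_le hP₁
      have h2 : Nat.card P₂ = Nat.card P := Nat.card_congr (Sylow.equiv P₂ P).toEquiv
      have h3 : Nat.card P₁ = Nat.card T := Nat.card_congr (Sylow.equiv P₁ T).toEquiv
      rw [card_map_of_injective H.subtype_injective] at h1
      rw [card_map_of_injective H.subtype_injective, card_map_of_injective (H ⊓ Md).subtype_injective]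
      omega
  · have hp' : IsPGroup p ↥(O ⊔ Cfsg.pCoreOf p H) :=
      Cfsg.Lib.Local.isPGroup_sup_of_le_normalizer hOp (Cfsg.Lib.Local.pCoreOf_isPGroup H)
        (hOH.trans (Cfsg.Lib.Local.le_normalizer_pCoreOf H))
    have h1 : Cfsg.pCoreOf p H ≤ normalizer (O : Set G) :=
      le_sup_right.trans (Subgroup.le_normalizer.trans
        (Cfsg.Lib.Local.wc_normalizer_le hwc hp' le_sup_left))
    exact le_inf h1 (h1.trans hNOY)
  -- normal closures
  have hncl : ∀ A : Subgroup G, A ≤ H → ∀ K : Subgroup G,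
      K = (normalClosure ((A.subgroupOf H : Subgroup ↥H) : Set ↥H)).map H.subtype →
      A ≤ K ∧ H ≤ normalizer (K : Set G) ∧ K ≤ H ∧
        ∀ J : Subgroup G, A ≤ J → J ≤ H → H ≤ normalizer (J : Set G) → K ≤ J := by
    rintro A hA K rfl
    refine ⟨fun a ha => ⟨⟨a, hA ha⟩, subset_normalClosure ha, rfl⟩, ?_, map_subtype_le _, ?_⟩
    · refine Cfsg.Lib.Core.le_normalizer_iff_conj_mem.mpr ?_
      rintro g hg _ ⟨x, hx, rfl⟩
      exact ⟨⟨g, hg⟩ * x * ⟨g, hg⟩⁻¹, normalClosure_normal.conj_mem x hx _, rfl⟩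
    · intro J hAJ hJH hJn
      haveI := normal_subgroupOf_of_le_normalizer hJn
      refine le_trans (map_mono (normalClosure_le_normal (N := J.subgroupOf H) fun x hx => hAJ hx)) ?_
      rw [map_subgroupOf_eq_of_le hJH]
  set NY := (normalClosure ((Y.subgroupOf H : Subgroup ↥H) : Set ↥H)).map H.subtype with hNY
  set NO := (normalClosure ((O.subgroupOf H : Subgroup ↥H) : Set ↥H)).map H.subtype with hNO
  obtain ⟨hY1, hY2, hY3, hY4⟩ := hncl Y hYH' NY rfl
  obtain ⟨hO1, hO2, hO3, -⟩ := hncl O hOH NO rfl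
  have hcore : ∀ N : Subgroup G, N ≤ H → H ≤ normalizer (N : Set G) → Cfsg.pCoreOf p N ≤ Cfsg.pCoreOf p H :=
    fun N hN hn => Cfsg.Lib.Local.le_pCoreOf ((Cfsg.Lib.Local.pCoreOf_le N).trans hN)
      (hn.trans (Cfsg.Lib.Local.normalizer_le_normalizer_pCoreOf N))
      (Cfsg.Lib.Local.pCoreOf_isPGroup N)
  have hNOeq : NO = H := by
    by_contra hne
    exact hYH ((hmin NO hO1 (lt_of_le_of_ne hO3 hne)).trans (hcore NO hO3 hO2))
  have hRH : R ≤ H := hR ▸ map_subtype_le _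
  have hHR : H ≤ normalizer (R : Set G) := by
    rw [hR]
    refine Cfsg.Lib.Core.le_normalizer_iff_conj_mem.mpr ?_
    rintro g hg _ ⟨x, hx, rfl⟩
    exact ⟨⟨g, hg⟩ * x * ⟨g, hg⟩⁻¹, (Cfsg.Lib.Fusion.pResidual_normal p H).conj_mem x hx _, rfl⟩
  have hRO : R ⊔ O = H := by
    refine le_antisymm (sup_le hRH hOH) ?_
    have htop : normalClosure ((O.subgroupOf H : Subgroup ↥H) : Set ↥H) = ⊤ := by
      refine map_injective H.subtype_injective ?_
      rw [← hNO, hNOeq, ← MonoidHom.range_eq_map, range_subtype]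
    have h := congrArg (Subgroup.map H.subtype) (Cfsg.Lib.Local.sup_pResidual_eq_top_of_normalClosure (p := p) htop)
    rw [Subgroup.map_sup, map_subgroupOf_eq_of_le hOH, ← MonoidHom.range_eq_map, range_subtype,
      ← hR, sup_comm] at h
    exact h.ge
  have hNYO : NY ⊔ O = H := by
    by_contra hne
    have hlt : NY ⊔ O < H := lt_of_le_of_ne (sup_le hY3 hOH) hne
    have h1 : Y ≤ Cfsg.pCoreOf p NY := by
      refine le_trans (le_inf (hmin _ le_sup_right hlt) hY1) ?_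
      refine Cfsg.Lib.Local.le_pCoreOf inf_le_right ?_ ((Cfsg.Lib.Local.pCoreOf_isPGroup _).to_le inf_le_left)
      refine Cfsg.Lib.Core.le_normalizer_iff_conj_mem.mpr fun g hg x hx => ⟨?_, ?_⟩
      · exact (mem_normalizer_iff.1 (Cfsg.Lib.Local.le_normalizer_pCoreOf _
          (mem_sup_left hg)) x).1 hx.1
      · exact NY.mul_mem (NY.mul_mem hg hx.2) (NY.inv_mem hg)
    exact hYH (h1.trans (hcore NY hY3 hY2))
  -- `O^p(H)` lies in every normal subgroup with a `p`-group supplement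
  have hRle : ∀ N A : Subgroup G, N ≤ H → A ≤ H → H ≤ normalizer (N : Set G) → IsPGroup p A →
      R ≤ N ⊔ A → R ≤ N := by
    intro N A hN hA hn hAp hle
    rw [hR]
    rintro _ ⟨x, hx, rfl⟩
    haveI := normal_subgroupOf_of_le_normalizer hn
    rw [Cfsg.pResidual] at hx
    refine (closure_le (K := N.subgroupOf H)).2 ?_ hx
    intro y hy
    show y ∈ N.subgroupOf H
    rw [← QuotientGroup.eq_one_iff]
    have hyR : (y : G) ∈ N ⊔ A := hle (by rw [hR]; exact ⟨y, subset_closure hy, rfl⟩)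
    obtain ⟨n, hn', a, ha, e⟩ := (Cfsg.Lib.Core.mem_sup_of_le_normalizer (hA.trans hn)).1
      (sup_comm N A ▸ hyR)
    obtain ⟨k, hk⟩ := hAp ⟨n, hn'⟩
    have hk' : n ^ p ^ k = 1 := congrArg Subtype.val hk
    have hq : (y : H ⧸ N.subgroupOf H) = ((⟨n, hA hn'⟩ : H) : H ⧸ N.subgroupOf H) := by
      rw [show y = (⟨n, hA hn'⟩ : H) * ⟨a, hN ha⟩ from Subtype.ext e.symm, QuotientGroup.mk_mul,
        (QuotientGroup.eq_one_iff (⟨a, hN ha⟩ : H)).2 ha, mul_one]
    refine orderOf_eq_one_iff.1 (Nat.eq_one_of_dvd_coprimes (Nat.Coprime.pow_right k hy)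
      (orderOf_map_dvd (QuotientGroup.mk' (N.subgroupOf H)) y) ?_)
    show orderOf (y : H ⧸ N.subgroupOf H) ∣ p ^ k
    rw [hq]
    refine orderOf_dvd_of_pow_eq_one ?_
    rw [← QuotientGroup.mk_pow, show (⟨n, hA hn'⟩ : H) ^ p ^ k = 1 from Subtype.ext hk', QuotientGroup.mk_one]
  have hRNY : R ≤ NY := hRle NY O hY3 hOH hY2 hOp (hRH.trans hNYO.ge)
  set C₁ := ⁅R, Y⁆ with hC₁
  have hC₁R : C₁ ≤ R := by
    rw [hC₁, Subgroup.commutator_le]
    intro r hr y hy
    rw [commutatorElement_def, mul_assoc, mul_assoc, ← mul_assoc y]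
    exact R.mul_mem hr ((mem_normalizer_iff.1 (hHR (hYH' hy)) _).1 (R.inv_mem hr))
  have hC₁n : H ≤ normalizer (C₁ : Set G) := by
    rw [← hRO]
    refine sup_le (Subgroup.normalizer_commutator_ge_left R Y) ?_
    refine Cfsg.Lib.Core.le_normalizer_iff_conj_mem.mpr fun g hg x hx => ?_
    have h1 : C₁.map (MulAut.conj g).toMonoidHom = C₁ := by
      rw [hC₁, Subgroup.map_commutator, Cfsg.Lib.Core.map_conj_eq_of_mem_normalizer (hHR (hOH hg)),
        Cfsg.Lib.Core.map_conj_eq_of_mem_normalizer (hNOY (Subgroup.le_normalizer hg))]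
    exact h1.le ⟨x, hx, rfl⟩
  have hsupn : H ≤ normalizer ((C₁ ⊔ Y : Subgroup G) : Set G) := by
    rw [← hRO]
    refine sup_le ?_ ?_
    · refine Cfsg.Lib.Core.le_normalizer_iff_conj_mem.mpr fun g hg x hx => ?_
      have h1 : (C₁ ⊔ Y).map (MulAut.conj g).toMonoidHom ≤ C₁ ⊔ Y := by
        rw [Subgroup.map_sup, Cfsg.Lib.Core.map_conj_eq_of_mem_normalizer (hC₁n (hRH hg))]
        refine sup_le le_sup_left ?_
        rintro _ ⟨y, hy, rfl⟩
        show g * y * g⁻¹ ∈ C₁ ⊔ Y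
        rw [show g * y * g⁻¹ = ⁅g, y⁆ * y by simp [commutatorElement_def]]
        exact mul_mem_sup (Subgroup.commutator_mem_commutator hg hy) hy
      exact h1 ⟨x, hx, rfl⟩
    · refine Cfsg.Lib.Core.le_normalizer_iff_conj_mem.mpr fun g hg x hx => ?_
      have h1 : (C₁ ⊔ Y).map (MulAut.conj g).toMonoidHom = C₁ ⊔ Y := by
        rw [Subgroup.map_sup, Cfsg.Lib.Core.map_conj_eq_of_mem_normalizer (hC₁n (hOH hg)),
          Cfsg.Lib.Core.map_conj_eq_of_mem_normalizer (hNOY (Subgroup.le_normalizer hg))]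
      exact h1.le ⟨x, hx, rfl⟩
  have hNYle : NY ≤ C₁ ⊔ Y := hY4 _ le_sup_right (sup_le (hC₁R.trans hRH) hYH') hsupn
  have hCR : C₁ = R := le_antisymm hC₁R
    (hRle C₁ Y (hC₁R.trans hRH) hYH' hC₁n hYp (hRNY.trans hNYle))
  exact ⟨hCR, hRO, le_antisymm (sup_le hRNY hY1) (hNYle.trans (sup_le_sup_right hC₁R Y)), hNOeq⟩

end Cfsg.Agent.S2853
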