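import Cfsg.Statements.S2854
import Cfsg.Agent.S2850
import Cfsg.Agent.Lib.Local.WeaklyClosed
import Cfsg.Agent.Lib.Local.PReduced
import Cfsg.Agent.Lib.Core.Cores
import Cfsg.Agent.Lib.Fusion.Basic
import Cfsg.Agent.Lib.Local.PIrreducible
import Cfsg.Agent.Lib.Local.SubnormalSylow
-- import your own Cfsg.Agent.* helpers here

set_option autoImplicit false
open Cfsg

namespace Cfsg.Agent.S2854
open Subgroup
open scoped commutatorElement

/-- Standing hypotheses: G a finite group, S a Sylow p-subgroup, Q a nontrivial large p-subgroup of G contained in S, M a subgroup containing S with the basic property (M ∈ 𝔐_G(S)); Y_M the largest p-reduced normal subgroup of M and M† = M·C_G(Y_M). Suppose Y_M is asymmetric in G, H ∈ ℌ_G(O_p(M)), and H ≤ N_G(gQg⁻¹) for some g ∈ G. Then gQg⁻¹ ≤ O_p(H·gQg⁻¹) ≤ N_G(O_p(M)) ≤ N_G(Y_M) = M†; H is normal in H·gQg⁻¹ with O^p(H) = O^p(H·gQg⁻¹); and H·gQg⁻¹ is p-irreducible. -/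
theorem result {G : Type*} [Group G] [Finite G] {p : ℕ} [Fact p.Prime] (S : Sylow p G) (Q : Subgroup G) (hQp : IsPGroup p ↥Q) (hQ1 : Q ≠ ⊥) (hQS : Q ≤ (S : Subgroup G)) (hQ : Cfsg.IsLarge Q) (M : Subgroup G) (hSM : (S : Subgroup G) ≤ M) (hM : Cfsg.IsInFrakM p M) (hasym : ¬ Cfsg.IsSymmetricIn (Cfsg.largestPReducedOf p M)) (H : Subgroup G) (hH : Cfsg.IsInFrakH p M H) (g : G) (hHQ : H ≤ Subgroup.normalizer ((((Q : Subgroup G).map (MulAut.conj (g : G)).toMonoidHom) : Subgroup G) : Set G)) : ((Q : Subgroup G).map (MulAut.conj (g : G)).toMonoidHom) ≤ Cfsg.pCoreOf p (H ⊔ ((Q : Subgroup G).map (MulAut.conj (g : G)).toMonoidHom)) ∧ Cfsg.pCoreOf p (H ⊔ ((Q : Subgroup G).map (MulAut.conj (g : G)).toMonoidHom)) ≤ Subgroup.normalizer (((Cfsg.pCoreOf p M) : Subgroup G) : Set G) ∧ Subgroup.normalizer (((Cfsg.pCoreOf p M) : Subgroup G) : Set G) ≤ Subgroup.normalizer (((Cfsg.largestPReducedOf p M) : Subgroup G) : Set G)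 ∧ Subgroup.normalizer (((Cfsg.largestPReducedOf p M) : Subgroup G) : Set G) = (M ⊔ Subgroup.centralizer (((Cfsg.largestPReducedOf p M) : Subgroup G) : Set G)) ∧ (H.subgroupOf (H ⊔ ((Q : Subgroup G).map (MulAut.conj (g : G)).toMonoidHom))).Normal ∧ (Cfsg.pResidual p ↥H).map H.subtype = (Cfsg.pResidual p ↥(H ⊔ ((Q : Subgroup G).map (MulAut.conj (g : G)).toMonoidHom))).map (H ⊔ ((Q : Subgroup G).map (MulAut.conj (g : G)).toMonoidHom)).subtype ∧ Cfsg.IsPIrreducible p ↥(H ⊔ ((Q : Subgroup G).map (MulAut.conj (g : G)).toMonoidHom)) := by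
  classical
  set O := Cfsg.pCoreOf p M with hO
  set Y := Cfsg.largestPReducedOf p M with hY
  set Md := M ⊔ centralizer (Y : Set G) with hMd
  set Qg := Q.map (MulAut.conj g).toMonoidHom with hQg
  obtain ⟨hnorm, hwc, -, -⟩ := Cfsg.Agent.S2850.result S Q hQp hQ1 hQS hQ M hSM hM hasym
  have hOp : IsPGroup p O := Cfsg.Lib.Local.pCoreOf_isPGroup M
  have hYO : Y ≤ O := Cfsg.Lib.Local.largestPReducedOf_le_pCoreOf M
  have hYp : IsPGroup p Y := hOp.to_le hYO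
  obtain ⟨-, hOH, hYH, hmin⟩ := hH
  have hYH' : Y ≤ H := hYO.trans hOH
  have hMdY : Md ≤ normalizer (Y : Set G) :=
    sup_le (Cfsg.Lib.Local.normalizer_le_normalizer_largestPReducedOf M) (centralizer_le_normalizer _)
  have hNOMd : normalizer (O : Set G) ≤ Md := (hnorm O hOp le_rfl).2
  have hNOY : normalizer (O : Set G) ≤ normalizer (Y : Set G) := hNOMd.trans hMdY
  have hwcN : ∀ X : Subgroup G, IsPGroup p X → O ≤ X → X ≤ normalizer (O : Set G) := fun X hX hOX =>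
    Subgroup.le_normalizer.trans (Cfsg.Lib.Local.wc_normalizer_le hwc hX hOX)
  have hQgp : IsPGroup p Qg := hQp.map _
  set K := H ⊔ Qg with hK
  have hHK : H ≤ K := le_sup_left
  have hQK : Qg ≤ K := le_sup_right
  have hKQ : K ≤ normalizer (Qg : Set G) := sup_le hHQ Subgroup.le_normalizer
  set W := Cfsg.pCoreOf p K with hW
  have hQW : Qg ≤ W := Cfsg.Lib.Local.le_pCoreOf hQK hKQ hQgp
  have hWp : IsPGroup p W := Cfsg.Lib.Local.pCoreOf_isPGroup K
  have hKW : K ≤ normalizer (W : Set G) := Cfsg.Lib.Local.le_normalizer_pCoreOf K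
  have hWN : W ≤ normalizer (O : Set G) :=
    le_sup_right.trans (hwcN _ (Cfsg.Lib.Local.isPGroup_sup_of_le_normalizer hOp hWp
      ((hOH.trans hHK).trans hKW)) le_sup_left)
  have hY1 : Y ≠ ⊥ := fun h => hYH (show Y ≤ _ from h.le.trans bot_le)
  have hNY_le : normalizer (Y : Set G) ≤ Md := by
    have hMN : M ≤ normalizer (Y : Set G) := le_sup_left.trans hMdY
    set N := normalizer (Y : Set G) with hN
    have hJ : Y ≤ Cfsg.pCoreOf p N := Cfsg.Lib.Local.le_pCoreOf Subgroup.le_normalizer le_rfl hYp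
    have hne : Cfsg.pCoreOf p N ≠ ⊥ := fun h => hY1 (le_bot_iff.1 (h ▸ hJ))
    have hchar : N ∈ Cfsg.charPSubgroups p G :=
      ⟨fun h => hne (by rw [Cfsg.pCoreOf, h, Subgroup.map_bot]),
        Cfsg.Lib.Local.centralizer_le_of_isParabolic hQp hQ1 hQ ⟨S, hSM.trans hMN⟩ hne⟩
    obtain ⟨X, hNX, hX⟩ := (Set.toFinite (Cfsg.charPSubgroups p G)).exists_le_maximal hchar
    exact hNX.trans (hM.2.2.1 X ⟨hX.1, fun L' hL' hle => le_antisymm (hX.2 hL' hle) hle⟩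
      (hMN.trans hNX)).le
  -- normal closure of `O` in `H`
  have hncl : ∀ A : Subgroup G, A ≤ H → ∀ C : Subgroup G,
      C = (normalClosure ((A.subgroupOf H : Subgroup ↥H) : Set ↥H)).map H.subtype →
      A ≤ C ∧ H ≤ normalizer (C : Set G) ∧ C ≤ H ∧
        ∀ J : Subgroup G, (∀ h ∈ H, ∀ a ∈ A, h * a * h⁻¹ ∈ J) → C ≤ J := by
    rintro A hA C rfl
    refine ⟨fun a ha => ⟨⟨a, hA ha⟩, subset_normalClosure ha, rfl⟩, ?_, map_subtype_le _, ?_⟩
    · refine Cfsg.Lib.Core.le_normalizer_iff_conj_mem.mpr ?_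
      rintro u hu _ ⟨x, hx, rfl⟩
      exact ⟨⟨u, hu⟩ * x * ⟨u, hu⟩⁻¹, normalClosure_normal.conj_mem x hx _, rfl⟩
    · intro J hJ
      rw [map_le_iff_le_comap, normalClosure, closure_le]
      intro x hx
      obtain ⟨a, ha, hax⟩ := Group.mem_conjugatesOfSet_iff.1 hx
      obtain ⟨c, rfl⟩ := isConj_iff.1 hax
      exact hJ c c.2 a ha
  have hcore : ∀ N : Subgroup G, N ≤ H → H ≤ normalizer (N : Set G) → Cfsg.pCoreOf p N ≤ Cfsg.pCoreOf p H :=
    fun N hN hn => Cfsg.Lib.Local.le_pCoreOf ((Cfsg.Lib.Local.pCoreOf_le N).trans hN)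
      (hn.trans (Cfsg.Lib.Local.normalizer_le_normalizer_pCoreOf N))
      (Cfsg.Lib.Local.pCoreOf_isPGroup N)
  set NO := (normalClosure ((O.subgroupOf H : Subgroup ↥H) : Set ↥H)).map H.subtype with hNO
  obtain ⟨hO1, hO2, hO3, hO4⟩ := hncl O hOH NO rfl
  have hNOeq : NO = H := by
    by_contra hne
    exact hYH ((hmin NO hO1 (lt_of_le_of_ne hO3 hne)).trans (hcore NO hO3 hO2))
  -- `H` is normal in `K`
  have hKH : K ≤ normalizer (H : Set G) := by
    refine sup_le Subgroup.le_normalizer (Cfsg.Lib.Core.le_normalizer_iff_conj_mem.mpr fun q hq x hx => ?_)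
    have h1 : NO ≤ H.comap (MulAut.conj q).toMonoidHom := hO4 _ fun h hh a ha => by
      have hq' : h⁻¹ * q * h ∈ Qg := by
        simpa using (mem_normalizer_iff.1 (hHQ (H.inv_mem hh)) q).1 hq
      have ha' : h⁻¹ * q * h * a * (h⁻¹ * q * h)⁻¹ ∈ O :=
        (mem_normalizer_iff.1 (hWN (hQW hq')) a).1 ha
      show q * (h * a * h⁻¹) * q⁻¹ ∈ H
      rw [show q * (h * a * h⁻¹) * q⁻¹ = h * (h⁻¹ * q * h * a * (h⁻¹ * q * h)⁻¹) * h⁻¹ by group]
      exact H.mul_mem (H.mul_mem hh (hOH ha')) (H.inv_mem hh)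
    exact h1 (hNOeq.ge hx)
  haveI hHn : (H.subgroupOf K).Normal := normal_subgroupOf_of_le_normalizer hKH
  -- coprime elements lie in `H`
  have hcopH : ∀ x : K, (orderOf x).Coprime p → (x : G) ∈ H := fun x hx => by
    have h1 : x ∈ H.subgroupOf K ⊔ Qg.subgroupOf K := by
      rw [← subgroupOf_sup hHK hQK, subgroupOf_self]
      exact mem_top x
    exact Cfsg.Lib.Local.mem_of_coprime_of_mem_sup
      (hQgp.comap_of_injective K.subtype K.subtype_injective) h1 hx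
  set R := (Cfsg.pResidual p ↥H).map H.subtype with hR
  have hRK : R = (Cfsg.pResidual p ↥K).map K.subtype := by
    rw [hR, Cfsg.pResidual, Cfsg.pResidual, MonoidHom.map_closure, MonoidHom.map_closure]
    congr 1
    ext x
    constructor
    · rintro ⟨a, ha, rfl⟩
      have ha' : (orderOf a).Coprime p := ha
      refine ⟨⟨a, hHK a.2⟩, ?_, rfl⟩
      show (orderOf (⟨(a : G), hHK a.2⟩ : K)).Coprime p
      rwa [orderOf_mk, orderOf_coe]
    · rintro ⟨a, ha, rfl⟩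
      have ha' : (orderOf a).Coprime p := ha
      refine ⟨⟨a, hcopH a ha'⟩, ?_, rfl⟩
      show (orderOf (⟨(a : G), hcopH a ha'⟩ : H)).Coprime p
      rwa [orderOf_mk, orderOf_coe]
  refine ⟨hQW, hWN, hNOY, le_antisymm hNY_le hMdY, hHn, hRK, ?_⟩
  have hRO : R ⊔ O = H := by
    have htop : normalClosure ((O.subgroupOf H : Subgroup ↥H) : Set ↥H) = ⊤ := by
      refine map_injective H.subtype_injective ?_
      rw [← hNO, hNOeq, ← MonoidHom.range_eq_map, range_subtype]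
    have h := congrArg (Subgroup.map H.subtype) (Cfsg.Lib.Local.sup_pResidual_eq_top_of_normalClosure (p := p) htop)
    rw [Subgroup.map_sup, map_subgroupOf_eq_of_le hOH, ← MonoidHom.range_eq_map, range_subtype,
      ← hR, sup_comm] at h
    exact h
  have hRle : ∀ N : Subgroup G, N ≤ H → H ≤ normalizer (N : Set G) → N ⊔ O = H → R ≤ N := by
    intro N hN hn he
    haveI := normal_subgroupOf_of_le_normalizer hn
    rw [hR, map_le_iff_le_comap]
    refine Cfsg.Lib.Local.pResidual_le_of_le_sup (N := N.subgroupOf H)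
      (hOp.comap_of_injective H.subtype H.subtype_injective) ?_
    rw [show O.comap H.subtype = O.subgroupOf H from rfl, ← subgroupOf_sup hN hOH, he, subgroupOf_self]
    exact le_top
  set Z := Cfsg.pCoreOf p H with hZ
  have hJinf : ∀ N : Subgroup G, N ≤ H → H ≤ normalizer (N : Set G) →
      Cfsg.pCoreOf p (N ⊔ O) ⊓ N ≤ Z := by
    intro N hN hn
    refine le_trans (Cfsg.Lib.Local.le_pCoreOf (H := N) inf_le_right ?_
      ((Cfsg.Lib.Local.pCoreOf_isPGroup _).to_le inf_le_left)) (hcore N hN hn)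
    exact Cfsg.Lib.Core.le_normalizer_iff_conj_mem.mpr fun u hu x hx =>
      ⟨(mem_normalizer_iff.1 (Cfsg.Lib.Local.le_normalizer_pCoreOf _ (mem_sup_left hu)) x).1 hx.1,
        N.mul_mem (N.mul_mem hu hx.2) (N.inv_mem hu)⟩
  set NY := (normalClosure ((Y.subgroupOf H : Subgroup ↥H) : Set ↥H)).map H.subtype with hNY
  obtain ⟨hy1, hy2, hy3, hy4⟩ := hncl Y hYH' NY rfl
  have hRNY : R ≤ NY := by
    refine hRle NY hy3 hy2 ?_
    by_contra hne
    have hlt : NY ⊔ O < H := lt_of_le_of_ne (sup_le hy3 hOH) hne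
    exact hYH ((le_inf (hmin _ le_sup_right hlt) hy1).trans (hJinf NY hy3 hy2))
  -- irreducibility
  refine ⟨fun hc => hYH ?_, ?_⟩
  · have h1 := (Cfsg.Lib.Local.isPClosed_iff_le.1 hc) (O.subgroupOf K)
      (hOp.comap_of_injective K.subtype K.subtype_injective)
    have hOW : O ≤ W := fun x hx => ⟨⟨x, hHK (hOH hx)⟩, h1 hx, rfl⟩
    refine (hYO.trans (le_inf hOW hOH)).trans (Cfsg.Lib.Local.le_pCoreOf inf_le_right ?_ (hWp.to_le inf_le_left))
    exact Cfsg.Lib.Core.le_normalizer_iff_conj_mem.mpr fun u hu x hx =>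
      ⟨(mem_normalizer_iff.1 (hKW (hHK hu)) x).1 hx.1, H.mul_mem (H.mul_mem hu hx.2) (H.inv_mem hu)⟩
  intro N hN hNc
  set N' := N.map K.subtype with hN'
  have hN'K : N' ≤ K := map_subtype_le _
  have hN'n : K ≤ normalizer (N' : Set G) := by
    refine Cfsg.Lib.Core.le_normalizer_iff_conj_mem.mpr ?_
    rintro u hu _ ⟨x, hx, rfl⟩
    exact ⟨⟨u, hu⟩ * x * ⟨u, hu⟩⁻¹, hN.conj_mem x hx _, rfl⟩
  suffices hRN : R ≤ N' by
    intro x hx
    obtain ⟨y, hy, hyx⟩ := hRN (hRK.ge ⟨x, hx, rfl⟩)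
    exact K.subtype_injective hyx ▸ hy
  set NH := N' ⊓ H with hNH
  have hNHn : H ≤ normalizer (NH : Set G) :=
    Cfsg.Lib.Core.le_normalizer_iff_conj_mem.mpr fun u hu x hx =>
      ⟨(mem_normalizer_iff.1 (hN'n (hHK hu)) x).1 hx.1, H.mul_mem (H.mul_mem hu hx.2) (H.inv_mem hu)⟩
  by_cases htop : NH ⊔ O = H
  · exact (hRle NH inf_le_right hNHn htop).trans inf_le_left
  exfalso
  apply hNc
  have hYJ : Y ≤ Cfsg.pCoreOf p (NH ⊔ O) :=
    hmin _ le_sup_right (lt_of_le_of_ne (sup_le inf_le_right hOH) htop)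
  have hZW : Z ≤ W := Cfsg.Lib.Local.le_pCoreOf ((Cfsg.Lib.Local.pCoreOf_le H).trans hHK)
    (hKH.trans (Cfsg.Lib.Local.normalizer_le_normalizer_pCoreOf H)) (Cfsg.Lib.Local.pCoreOf_isPGroup H)
  have hKZ : K ≤ normalizer (Z : Set G) :=
    hKH.trans (Cfsg.Lib.Local.normalizer_le_normalizer_pCoreOf H)
  let A : Subgroup G :=
    { carrier := {n | n ∈ K ∧ ∀ y ∈ Y, ⁅n, y⁆ ∈ Z}
      one_mem' := ⟨K.one_mem, fun y _ => by simp⟩
      mul_mem' := fun {a b} ha hb => ⟨K.mul_mem ha.1 hb.1, fun y hy => by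
        rw [show ⁅a * b, y⁆ = a * ⁅b, y⁆ * a⁻¹ * ⁅a, y⁆ by simp only [commutatorElement_def]; group]
        exact Z.mul_mem ((mem_normalizer_iff.1 (hKZ ha.1) _).1 (hb.2 y hy)) (ha.2 y hy)⟩
      inv_mem' := fun {a} ha => ⟨K.inv_mem ha.1, fun y hy => by
        rw [show ⁅a⁻¹, y⁆ = a⁻¹ * ⁅a, y⁆⁻¹ * a⁻¹⁻¹ by simp only [commutatorElement_def]; group]
        exact (mem_normalizer_iff.1 (hKZ (K.inv_mem ha.1)) _).1 (Z.inv_mem (ha.2 y hy))⟩ }
  have hNHA : NH ≤ A := fun n hn => ⟨hHK hn.2, fun y hy => hJinf NH inf_le_right hNHn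
    ⟨Subgroup.mul_mem _ ((mem_normalizer_iff.1 (Cfsg.Lib.Local.le_normalizer_pCoreOf _
        (mem_sup_left hn)) y).1 (hYJ hy)) (Subgroup.inv_mem _ (hYJ hy)), by
      rw [commutatorElement_def, mul_assoc, mul_assoc, ← mul_assoc y]
      exact NH.mul_mem hn ((mem_normalizer_iff.1 (hNHn (hYH' hy)) _).1 (NH.inv_mem hn))⟩⟩
  obtain ⟨S₀, hS₀⟩ := (hOp.comap_of_injective K.subtype K.subtype_injective).exists_le_sylow
  have hOS : O ≤ (S₀ : Subgroup K).map K.subtype := fun x hx => ⟨⟨x, hHK (hOH hx)⟩, hS₀ hx, rfl⟩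
  have hSN : (S₀ : Subgroup K).map K.subtype ≤ normalizer (O : Set G) :=
    hwcN _ (S₀.isPGroup'.map _) hOS
  set T := ((S₀ : Subgroup K) ⊓ N).map K.subtype with hT
  have hTA : T ≤ A := by
    rintro _ ⟨t, ⟨htS, htN⟩, rfl⟩
    refine ⟨t.2, fun y hy => hJinf NH inf_le_right hNHn ⟨?_, ?_, ?_⟩⟩
    · exact Subgroup.mul_mem _ (hYJ ((mem_normalizer_iff.1 (hNOY (hSN ⟨t, htS, rfl⟩)) y).1 hy))
        (Subgroup.inv_mem _ (hYJ hy))
    · show ⁅(t : G), y⁆ ∈ N'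
      rw [commutatorElement_def, mul_assoc, mul_assoc, ← mul_assoc y]
      exact N'.mul_mem ⟨t, htN, rfl⟩ ((mem_normalizer_iff.1 (hN'n (hHK (hYH' hy))) _).1
        (N'.inv_mem ⟨t, htN, rfl⟩))
    · exact hYH' (Y.mul_mem ((mem_normalizer_iff.1 (hNOY (hSN ⟨t, htS, rfl⟩)) y).1 hy) (Y.inv_mem hy))
  have hN'A : N' ≤ A := by
    rw [← subgroupOf_eq_top, ← index_eq_one]
    by_contra h1
    obtain ⟨q, hq, hqd⟩ := Nat.exists_prime_and_dvd h1
    haveI : Fact q.Prime := ⟨hq⟩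
    by_cases hqp : q = p
    · subst hqp
      refine Cfsg.Lib.Local.not_dvd_relIndex_inf S₀ hN.isSubnormal (hqd.trans ?_)
      rw [← relIndex_map_map_of_injective _ _ K.subtype_injective, ← hT, ← hN']
      exact relIndex_dvd_of_le_left N' hTA
    obtain ⟨Sq⟩ : Nonempty (Sylow q N') := inferInstance
    refine Sq.not_dvd_index (hqd.trans (index_dvd_of_le fun x hx => hNHA ⟨x.2, ?_⟩))
    obtain ⟨k, hk⟩ := Sq.isPGroup' ⟨x, hx⟩
    have hk' : (x : G) ^ q ^ k = 1 := congrArg (fun t : Sq => ((t : N') : G)) hk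
    refine hcopH ⟨(x : G), hN'K x.2⟩ ?_
    rw [orderOf_mk]
    exact Nat.Coprime.coprime_dvd_left (orderOf_dvd_of_pow_eq_one hk')
      (Nat.Coprime.pow_left k ((Nat.coprime_primes hq Fact.out).2 hqp))
  have hconj : ∀ h ∈ H, ∀ y ∈ Y, ∀ n ∈ N', ⁅n, h * y * h⁻¹⁆ ∈ Z := by
    intro h hh y hy n hn
    have h1 : h⁻¹ * n * h ∈ N' := by
      simpa using (mem_normalizer_iff.1 (hN'n (hHK (H.inv_mem hh))) n).1 hn
    rw [show ⁅n, h * y * h⁻¹⁆ = h * ⁅h⁻¹ * n * h, y⁆ * h⁻¹ by simp only [commutatorElement_def]; group]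
    exact (mem_normalizer_iff.1 (hKZ (hHK hh)) _).1 ((hN'A h1).2 y hy)
  let B : Subgroup G :=
    { carrier := {r | r ∈ K ∧ ∀ n ∈ N', ⁅n, r⁆ ∈ Z}
      one_mem' := ⟨K.one_mem, fun n _ => by simp⟩
      mul_mem' := fun {a b} ha hb => ⟨K.mul_mem ha.1 hb.1, fun n hn => by
        rw [show ⁅n, a * b⁆ = ⁅n, a⁆ * (a * ⁅n, b⁆ * a⁻¹) by simp only [commutatorElement_def]; group]
        exact Z.mul_mem (ha.2 n hn) ((mem_normalizer_iff.1 (hKZ ha.1) _).1 (hb.2 n hn))⟩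
      inv_mem' := fun {a} ha => ⟨K.inv_mem ha.1, fun n hn => by
        rw [show ⁅n, a⁻¹⁆ = a⁻¹ * ⁅n, a⁆⁻¹ * a⁻¹⁻¹ by simp only [commutatorElement_def]; group]
        exact (mem_normalizer_iff.1 (hKZ (K.inv_mem ha.1)) _).1 (Z.inv_mem (ha.2 n hn))⟩ }
  have hRB : R ≤ B := hRNY.trans (hy4 B fun h hh y hy =>
    ⟨hHK (H.mul_mem (H.mul_mem hh (hYH' hy)) (H.inv_mem hh)), hconj h hh y hy⟩)
  have hTN' : T ≤ N' := map_mono inf_le_right
  have hTp : IsPGroup p T := (S₀.isPGroup'.to_le inf_le_left).map _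
  have hTW : T ≤ W := by
    refine le_sup_left.trans (Cfsg.Lib.Local.le_pCoreOf (N := T ⊔ W)
      (sup_le (map_subtype_le _) (Cfsg.Lib.Local.pCoreOf_le K)) ?_
      (Cfsg.Lib.Local.isPGroup_sup_of_le_normalizer hTp hWp ((map_subtype_le _).trans hKW)))
    rw [hK, ← hRO]
    refine sup_le (sup_le ?_ ?_) (hQW.trans ((le_sup_right : W ≤ T ⊔ W).trans Subgroup.le_normalizer))
    · refine Cfsg.Lib.Core.le_normalizer_iff_conj_mem.mpr fun r hr x hx => ?_
      have h1 : T ⊔ W ≤ (T ⊔ W).comap (MulAut.conj r).toMonoidHom := by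
        refine sup_le (fun t ht => ?_) fun w hw =>
          mem_sup_right ((mem_normalizer_iff.1 (hKW ((hRB hr).1)) w).1 hw)
        show r * t * r⁻¹ ∈ T ⊔ W
        rw [show r * t * r⁻¹ = t * ⁅t⁻¹, r⁆ by simp only [commutatorElement_def]; group]
        exact mul_mem (mem_sup_left ht)
          (mem_sup_right (hZW ((hRB hr).2 _ (N'.inv_mem (hTN' ht)))))
      exact h1 hx
    · refine Cfsg.Lib.Core.le_normalizer_iff_conj_mem.mpr fun o ho x hx => ?_
      have h1 : T ⊔ W ≤ (T ⊔ W).comap (MulAut.conj o).toMonoidHom := by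
        refine sup_le ?_ fun w hw =>
          mem_sup_right ((mem_normalizer_iff.1 (hKW (hHK (hOH ho))) w).1 hw)
        rintro _ ⟨t, ⟨htS, htN⟩, rfl⟩
        obtain ⟨o', ho', rfl⟩ := hOS ho
        exact mem_sup_left ⟨o' * t * o'⁻¹,
          ⟨(S₀ : Subgroup K).mul_mem ((S₀ : Subgroup K).mul_mem ho' htS) ((S₀ : Subgroup K).inv_mem ho'),
            hN.conj_mem t htN o'⟩, rfl⟩
      exact h1 hx
  rw [Cfsg.Lib.Local.isPClosed_subnormal_iff hN.isSubnormal]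
  intro P hPN hP
  obtain ⟨P₁, hP₁⟩ := hP.exists_le_sylow
  obtain ⟨k, hk⟩ := MulAction.exists_smul_eq (↥K) S₀ P₁
  intro x hx
  have hxS := hP₁ hx
  rw [← hk] at hxS
  obtain ⟨s, hs, rfl⟩ := hxS
  have hsN : s ∈ N := by
    have := hN.conj_mem _ (hPN hx) k⁻¹
    simpa [mul_assoc] using this
  obtain ⟨s', hs', he⟩ := hTW ⟨s, ⟨hs, hsN⟩, rfl⟩
  exact (inferInstance : (Cfsg.pCore p ↥K).Normal).conj_mem s (K.subtype_injective he ▸ hs') k

end Cfsg.Agent.S2854
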