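import Cfsg.Statements.S2855
import Cfsg.Agent.Lib.Local.IrreducibleFamily
-- import your own Cfsg.Agent.* helpers here

set_option autoImplicit false
open Cfsg

namespace Cfsg.Agent.S2855

open Subgroup Cfsg.Lib Cfsg.Lib.Local

/-- Let H be a finite group, p a prime, and 𝒦 a nonempty set of subgroups of H permuted transitively by conjugation, with R the subgroup generated by the members of 𝒦. Suppose O^p(H) ≤ R, each E ∈ 𝒦 has E·O_p(H) normal in R·O_p(H), and each E ∈ 𝒦 is p-minimal (generated by the conjugates of a Sylow p-subgroup T_E of E, with T_E in exactly one maximal subgroup of E). Then H is p-minimal in the same sense. If instead each E ∈ 𝒦 is strongly p-irreducible, then H is p-irreducible and, for E, K ∈ 𝒦, either O^p(E·O_p(H)) = O^p(K·O_p(H)) or [E, K] ≤ O_p(H). -/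
theorem result {H : Type*} [Group H] [Finite H] {p : ℕ} [Fact p.Prime] (𝒦 : Set (Subgroup H)) (hne : 𝒦.Nonempty) (hinv : ∀ h : H, ∀ E ∈ 𝒦, E.map (MulAut.conj h).toMonoidHom ∈ 𝒦) (htr : ∀ E ∈ 𝒦, ∀ K ∈ 𝒦, ∃ h : H, K = E.map (MulAut.conj h).toMonoidHom) (hres : Cfsg.pResidual p H ≤ sSup 𝒦) (hnorm : ∀ E ∈ 𝒦, sSup 𝒦 ⊔ Cfsg.pCore p H ≤ Subgroup.normalizer ((E ⊔ Cfsg.pCore p H : Subgroup H) : Set H)) : ((∀ E ∈ 𝒦, ∀ T : Sylow p ↥E, Cfsg.IsMinimalOver (T : Subgroup ↥E)) → ∀ T : Sylow p H, Cfsg.IsMinimalOver (T : Subgroup H)) ∧ ((∀ E ∈ 𝒦, Cfsg.IsStronglyPIrreducible p ↥E) → Cfsg.IsPIrreducible p H ∧ ∀ E ∈ 𝒦, ∀ K ∈ 𝒦, (Cfsg.pResidual p ↥(E ⊔ Cfsg.pCore p H)).map (E ⊔ Cfsg.pCore p H).subtype = (Cfsg.pResidual p ↥(K ⊔ Cfsg.pCore p H)).map (K ⊔ Cfsg.pCore p H).subtype ∨ ⁅E, K⁆ ≤ Cfsg.pCore p H) := by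
  classical
  set D := Cfsg.pCore p H with hD
  have hDp : IsPGroup p D := Cfsg.Lib.Core.pCore_isPGroup p H
  set 𝔏 : Set (Subgroup H) := (fun E => E ⊔ D) '' 𝒦
  have hmapD : ∀ h : H, ∀ E : Subgroup H, (E ⊔ D).map (MulAut.conj h).toMonoidHom =
      E.map (MulAut.conj h).toMonoidHom ⊔ D := fun h E => by
    rw [Subgroup.map_sup, Cfsg.Lib.Core.normal_iff_map_conj.mp (inferInstance : D.Normal) h]
  have hle : sSup 𝒦 ≤ sSup 𝔏 := sSup_le fun E hE => le_sup_left.trans (le_sSup ⟨E, hE, rfl⟩)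
  have F : FamilyData p 𝔏 := by
    refine ⟨hne.image _, ?_, ?_, hres.trans hle, ?_, ?_⟩
    · rintro h _ ⟨E, hE, rfl⟩
      exact ⟨_, hinv h E hE, (hmapD h E).symm⟩
    · rintro _ ⟨E, hE, rfl⟩ _ ⟨K, hK, rfl⟩
      obtain ⟨h, rfl⟩ := htr E hE K hK
      exact ⟨h, (hmapD h E).symm⟩
    · rintro _ ⟨E, hE, rfl⟩
      refine le_trans (sSup_le ?_) (hnorm E hE)
      rintro _ ⟨K, hK, rfl⟩
      exact sup_le_sup_right (le_sSup hK) _
    · rintro _ ⟨E, -, rfl⟩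
      exact le_sup_right
  refine ⟨fun hmin T => F.isMinimalOver ?_ T, fun hirr => ?_⟩
  · rintro _ ⟨E, hE, rfl⟩ S
    exact forall_isMinimalOver_sup hDp (hmin E hE) S
  have hs : ∀ L ∈ 𝔏, Cfsg.IsStronglyPIrreducible p L := by
    rintro _ ⟨E, hE, rfl⟩
    exact isStronglyPIrreducible_sup hDp (hirr E hE)
  refine ⟨F.isPIrreducible hs, fun E hE K hK => ?_⟩
  exact (F.commute_or_eq hs ⟨E, hE, rfl⟩ ⟨K, hK, rfl⟩).imp_right
    ((Subgroup.commutator_mono le_sup_left le_sup_left).trans ·)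

end Cfsg.Agent.S2855
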