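import Cfsg.Statements.S2856
import Cfsg.Agent.Lib.Local.VertexVIterNoncentral

set_option autoImplicit false
open Cfsg

namespace Cfsg.Agent.S2856

open Cfsg.Lib.Local.VertexVIterNoncentral
open scoped commutatorElement

/-- Let (M₁, M₂) be an amalgam pair in X satisfying the rank-two standing hypothesis (characteristic p, the normalizers in M₁ and in M₂ of a Sylow p-subgroup of M₁ ∩ M₂ equal and contained in M₁ ∩ M₂, and strongly p-embedded residues), λ a vertex of the coset graph, L_λ the subgroup of its stabilizer generated by the p-elements, Q_λ = O_p of the stabilizer, O^p(L_λ) the subgroup of L_λ generated by its elements of order prime to p, and V_λ^{(k)} the subgroup generated by the Z_μ over the vertices μ at distance at most k from λ (Z_μ being generated by the Ω₁(Z(S)), S a Sylow p-subgroup of the stabilizer of μ). If n ≥ 1 and V_λ^{(n)} ≤ Q_λ, then O^p(L_λ) does not centralize V_λ^{(n)}/[V_λ^{(n)}, Q_λ], that is, [V_λ^{(n)}, O^p(L_λ)]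 is not contained in [V_λ^{(n)}, Q_λ]. -/
theorem result {X : Type*} [Group X] {p : ℕ} [Fact p.Prime] (M₁ M₂ : Subgroup X) (h : Cfsg.IsSpeAmalgamPair p M₁ M₂) (lam : Cfsg.CosetVertex M₁ M₂) (n : ℕ) (hn : 1 ≤ n) (V : Subgroup X) (hV : V = Cfsg.vertexVIter p M₁ M₂ n lam) (hVQ : V ≤ Cfsg.vertexQ p lam) : ¬ ⁅V, ((Cfsg.pResidual p ↥(Cfsg.pElementClosure p (MulAction.stabilizer X lam))).map (Cfsg.pElementClosure p (MulAction.stabilizer X lam)).subtype)⁆ ≤ ⁅V, Cfsg.vertexQ p lam⁆ := by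
  obtain ⟨μ, T, hadj, hT, hTμ, hTe, hN⟩ := exists_edge h lam
  obtain ⟨k, rfl⟩ : ∃ k, n = k + 1 := ⟨n - 1, by omega⟩
  intro hle
  subst hV
  set V := Cfsg.vertexVIter p M₁ M₂ (k + 1) lam with hVdef
  set Q := Cfsg.vertexQ p lam with hQdef
  set W := Cfsg.vertexVIter p M₁ M₂ k μ with hWdef
  haveI := Cfsg.Lib.Local.finite_stabilizer h.1.2.1 h.1.2.2.1 lam
  have hd1 : (Cfsg.cosetGraph M₁ M₂).dist lam μ = 1 := SimpleGraph.dist_eq_one_iff_adj.mpr hadj
  have hWV : W ≤ V := vertexVIter_mono h.1.1.1 (by omega)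
  have hGV : MulAction.stabilizer X lam ≤ Subgroup.normalizer (V : Set X) :=
    stabilizer_le_normalizer h.1 _ lam
  have hGW : MulAction.stabilizer X μ ≤ Subgroup.normalizer (W : Set X) :=
    stabilizer_le_normalizer h.1 _ μ
  have hQG : Q ≤ MulAction.stabilizer X lam := Subgroup.map_subtype_le _
  have hQμ : Q ≤ MulAction.stabilizer X μ :=
    (Cfsg.Lib.Local.le_neighbourKernel_iff.1 (Cfsg.Lib.Local.vertexQ_le_neighbourKernel h.1 lam)).2 μ hadj
  have hGQ : MulAction.stabilizer X lam ≤ Subgroup.normalizer (Q : Set X) := by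
    rw [← Subgroup.normal_subgroupOf_iff_le_normalizer hQG]
    rw [hQdef, Cfsg.vertexQ, Cfsg.pCoreOf, Subgroup.subgroupOf,
      Subgroup.comap_map_eq_self_of_injective (Subgroup.subtype_injective _)]
    infer_instance
  have hGC : ∀ g ∈ MulAction.stabilizer X lam,
      (⁅V, Q⁆).map (MulAut.conj g).toMonoidHom = ⁅V, Q⁆ := fun g hg => by
    rw [Subgroup.map_commutator, Cfsg.Lib.Core.map_conj_eq_of_mem_normalizer (hGV hg),
      Cfsg.Lib.Core.map_conj_eq_of_mem_normalizer (hGQ hg)]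
  have hVD : V ≤ W ⊔ ⁅V, Q⁆ := by
    refine le_sup_of_normalized h hadj hT hN k _ le_sup_left ?_ ?_
    · intro r hr
      have hrL := Subgroup.map_subtype_le _ hr
      have hrG := Cfsg.Lib.Local.pElementClosure_le _ hrL
      suffices hsub : ∀ r' ∈ (Cfsg.pResidual p ↥(Cfsg.pElementClosure p (MulAction.stabilizer X lam))).map
          (Cfsg.pElementClosure p (MulAction.stabilizer X lam)).subtype, ∀ d ∈ W ⊔ ⁅V, Q⁆,
          r' * d * r'⁻¹ ∈ W ⊔ ⁅V, Q⁆ from Cfsg.Lib.Core.le_normalizer_iff_conj_mem.2 hsub hr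
      intro r' hr' d hd
      have hr'G := Cfsg.Lib.Local.pElementClosure_le _ (Subgroup.map_subtype_le _ hr')
      suffices hsup : W ⊔ ⁅V, Q⁆ ≤ (W ⊔ ⁅V, Q⁆).comap (MulAut.conj r').toMonoidHom from hsup hd
      refine sup_le (fun w hw => ?_) (fun c hc => ?_)
      · show r' * w * r'⁻¹ ∈ W ⊔ ⁅V, Q⁆
        have h1 : ⁅r', w⁆ ∈ ⁅V, Q⁆ :=
          hle (Subgroup.commutator_comm (G := X) _ _ ▸ Subgroup.commutator_mem_commutator hr' (hWV hw))
        rw [show r' * w * r'⁻¹ = ⁅r', w⁆ * w by simp [commutatorElement_def]]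
        exact mul_mem (Subgroup.mem_sup_right h1) (Subgroup.mem_sup_left hw)
      · exact Subgroup.mem_sup_right ((hGC r' hr'G).le ⟨c, hc, rfl⟩)
    · intro t ht
      suffices hsub : ∀ t ∈ T, ∀ d ∈ W ⊔ ⁅V, Q⁆, t * d * t⁻¹ ∈ W ⊔ ⁅V, Q⁆ from
        Cfsg.Lib.Core.le_normalizer_iff_conj_mem.2 hsub ht
      intro t ht d hd
      suffices hsup : W ⊔ ⁅V, Q⁆ ≤ (W ⊔ ⁅V, Q⁆).comap (MulAut.conj t).toMonoidHom from hsup hd
      refine sup_le (fun w hw => ?_) (fun c hc => ?_)
      · exact Subgroup.mem_sup_left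
          ((Subgroup.mem_normalizer_iff.1 (hGW (hTμ.le ht)) w).1 hw)
      · exact Subgroup.mem_sup_right ((hGC t (hT.le ht)).le ⟨c, hc, rfl⟩)
  refine not_le h hadj hTμ k hVQ ?_
  -- nilpotency of `Q`
  have hQp : IsPGroup p Q := (Cfsg.Lib.Core.pCore_isPGroup p _).map _
  haveI : Finite Q := Finite.of_injective _ (Subgroup.inclusion_injective hQG)
  haveI := hQp.isNilpotent
  set W' := W.subgroupOf Q with hW'
  haveI hW'n : W'.Normal :=
    (Subgroup.normal_subgroupOf_iff_le_normalizer (hWV.trans hVQ)).2 (hQμ.trans hGW)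
  set V' := V.subgroupOf Q with hV'
  have hC' : (⁅V, Q⁆).subgroupOf Q = ⁅V', (⊤ : Subgroup Q)⁆ := by
    refine Subgroup.map_injective Q.subtype_injective ?_
    rw [Subgroup.map_commutator, hV', Subgroup.map_subgroupOf_eq_of_le hVQ,
      Subgroup.map_subgroupOf_eq_of_le ((Subgroup.commutator_mono hVQ le_rfl).trans
        (Subgroup.commutator_le_self Q)), ← MonoidHom.range_eq_map, Subgroup.range_subtype]
  have hV'D : V' ≤ W' ⊔ ⁅V', (⊤ : Subgroup Q)⁆ := by
    rw [← hC', hW', ← Subgroup.subgroupOf_sup (hWV.trans hVQ)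
      ((Subgroup.commutator_mono hVQ le_rfl).trans (Subgroup.commutator_le_self Q))]
    exact fun v hv => hVD hv
  have key : ∀ j, V' ≤ W' ⊔ Subgroup.lowerCentralSeries (⊤ : Subgroup Q) j := by
    intro j
    induction j with
    | zero => exact fun v _ => Subgroup.mem_sup_right (by simp)
    | succ j ih =>
      refine hV'D.trans (sup_le le_sup_left ((Subgroup.commutator_mono ih le_rfl).trans ?_))
      rw [Subgroup.commutator_le]
      intro a ha b hb
      rw [← SetLike.mem_coe, Subgroup.normal_mul] at ha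
      obtain ⟨w, hw, c, hc, rfl⟩ := ha
      have hwb : ⁅w, b⁆ ∈ W' := by
        rw [commutatorElement_def, show w * b * w⁻¹ * b⁻¹ = w * (b * w⁻¹ * b⁻¹) by group]
        exact mul_mem hw (hW'n.conj_mem _ (inv_mem hw) b)
      rw [show ⁅w * c, b⁆ = w * ⁅c, b⁆ * w⁻¹ * ⁅w, b⁆ by simp [commutatorElement_def]; group]
      refine mul_mem (mul_mem (mul_mem (Subgroup.mem_sup_left hw) (Subgroup.mem_sup_right ?_))
        (inv_mem (Subgroup.mem_sup_left hw))) (Subgroup.mem_sup_left hwb)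
      exact Subgroup.commutator_mem_commutator hc hb
  obtain ⟨j, hj⟩ := nilpotent_iff_lowerCentralSeries.1 (inferInstance : Group.IsNilpotent Q)
  have hfin := key j
  rw [hj, sup_bot_eq] at hfin
  exact fun v hv => hfin (x := ⟨v, hVQ hv⟩) hv

end Cfsg.Agent.S2856
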