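import Cfsg.Statements.S2857
import Cfsg.Agent.Lib.Local.VertexVIterNoncentral

set_option autoImplicit false
open Cfsg

namespace Cfsg.Agent.S2857

open Cfsg.Lib.Local.VertexVIterNoncentral
open scoped commutatorElement

/-- Let (M₁, M₂) be an amalgam pair in X satisfying the rank-two standing hypothesis (characteristic p, the normalizers in M₁ and in M₂ of a Sylow p-subgroup of M₁ ∩ M₂ equal and contained in M₁ ∩ M₂, and strongly p-embedded residues), λ a vertex of the coset graph, L_λ the subgroup of its stabilizer generated by the p-elements, Q_λ = O_p of the stabilizer, O^p(L_λ) the subgroup of L_λ generated by its elements of order prime to p, and V_λ^{(k)} the subgroup generated by the Z_μ over the vertices μ at distance at most k from λ (Z_μ being generated by the Ω₁(Z(S)), S a Sylow p-subgroup of the stabilizer of μ). If n ≥ 2 and V_λ^{(n)} ≤ Q_λ, then O^p(L_λ) does not centralize V_λ^{(n)}/V_λ^{(n-2)}, that is, [V_λ^{(n)},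 O^p(L_λ)] is not contained in V_λ^{(n-2)}. -/
theorem result {X : Type*} [Group X] {p : ℕ} [Fact p.Prime] (M₁ M₂ : Subgroup X) (h : Cfsg.IsSpeAmalgamPair p M₁ M₂) (lam : Cfsg.CosetVertex M₁ M₂) (n : ℕ) (hn : 2 ≤ n) (hVQ : Cfsg.vertexVIter p M₁ M₂ n lam ≤ Cfsg.vertexQ p lam) : ¬ ⁅Cfsg.vertexVIter p M₁ M₂ n lam, ((Cfsg.pResidual p ↥(Cfsg.pElementClosure p (MulAction.stabilizer X lam))).map (Cfsg.pElementClosure p (MulAction.stabilizer X lam)).subtype)⁆ ≤ Cfsg.vertexVIter p M₁ M₂ (n - 2) lam := by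
  obtain ⟨μ, T, hadj, hT, hTμ, hTe, hN⟩ := exists_edge h lam
  obtain ⟨k, rfl⟩ : ∃ k, n = k + 2 := ⟨n - 2, by omega⟩
  intro hle
  have hd1 : (Cfsg.cosetGraph M₁ M₂).dist lam μ = 1 := SimpleGraph.dist_eq_one_iff_adj.mpr hadj
  have hd2 : (Cfsg.cosetGraph M₁ M₂).dist μ lam = 1 := by rw [SimpleGraph.dist_comm, hd1]
  have hUW : Cfsg.vertexVIter p M₁ M₂ k lam ≤ Cfsg.vertexVIter p M₁ M₂ (k + 1) μ :=
    vertexVIter_mono h.1.1.1 (by omega)
  have hWV : Cfsg.vertexVIter p M₁ M₂ (k + 1) μ ≤ Cfsg.vertexVIter p M₁ M₂ (k + 2) lam :=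
    vertexVIter_mono h.1.1.1 (by omega)
  refine not_le h hadj hTμ (k + 1) hVQ ?_
  refine le_sup_of_normalized h hadj hT hN (k + 1) _ le_rfl ?_
    (hTμ.le.trans (stabilizer_le_normalizer h.1 _ μ))
  refine Cfsg.Lib.Core.le_normalizer_iff_conj_mem.2 fun r hr w hw => ?_
  have h1 : ⁅r, w⁆ ∈ Cfsg.vertexVIter p M₁ M₂ (k + 1) μ :=
    hUW (hle (Subgroup.commutator_comm (G := X) _ _ ▸ Subgroup.commutator_mem_commutator hr (hWV hw)))
  rw [show r * w * r⁻¹ = ⁅r, w⁆ * w by simp [commutatorElement_def]]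
  exact mul_mem h1 hw

end Cfsg.Agent.S2857
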