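import Cfsg.Statements.S2860
import Cfsg.Agent.Lib.Local.LargeQuasisimple
import Cfsg.Agent.Lib.Thompson.OffenderAbelian

set_option autoImplicit false
open Cfsg

namespace Cfsg.Agent.S2860

/-- Let Q be a nontrivial large p-subgroup of the finite group H, U a nontrivial elementary abelian p-subgroup of H, and Q ≤ E ≤ N_H(U) with Q not normal in E. Suppose O_p(E/C_E(U)) = 1 and O^p(E)·C_E(U)/C_E(U) is quasisimple. Let E° be the weak closure of Q in E (generated by the conjugates of Q inside E) and E_∘ = O^p(E°). Then O^p(E)·C_E(U) = E_∘·C_E(U); E_∘ is perfect and equals O^p(E_∘); E_∘/C_{E_∘}(U) and E_∘/O_p(E_∘) are quasisimple; and E_∘ = [E_∘, Y] for every p-subgroup Y of E not centralizing U. -/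
theorem result {G : Type*} [Group G] [Finite G] {p : ℕ} [Fact p.Prime] (Q : Subgroup G) (hQp : IsPGroup p ↥Q) (hQ1 : Q ≠ ⊥) (hQ : Cfsg.IsLarge Q) (U : Subgroup G) (hU : Cfsg.IsElementaryAbelian p U) (hU1 : U ≠ ⊥) (E : Subgroup G) (hQE : Q ≤ E) (hEU : E ≤ Subgroup.normalizer ((U : Subgroup G) : Set G)) (hQn : ¬ E ≤ Subgroup.normalizer ((Q : Subgroup G) : Set G)) [hn : ((Subgroup.centralizer ((U : Subgroup G) : Set G)).subgroupOf E).Normal] (hred : Cfsg.pCore p (↥E ⧸ (Subgroup.centralizer ((U : Subgroup G) : Set G)).subgroupOf E) = ⊥) (hqs : Cfsg.IsQuasisimple ↥(((Cfsg.pResidual p ↥E) ⊔ (Subgroup.centralizer ((U : Subgroup G) : Set G)).subgroupOf E).map (QuotientGroup.mk' ((Subgroup.centralizer ((U : Subgroup G) : Set G)).subgroupOf E)))) (Er : Subgroup G) (hEr : Er = ((Cfsg.pResidual p ↥(Cfsg.weakClosure Q E)).map ((Cfsg.weakClosure Q E)).subtype)) [hn2 : ((Subgroup.centralizer ((U : Subgroup G) : Set G)).subgroupOf Er).Normal] : ((Cfsg.pResidual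 p ↥E).map (E).subtype) ⊔ (E ⊓ Subgroup.centralizer ((U : Subgroup G) : Set G)) = Er ⊔ (E ⊓ Subgroup.centralizer ((U : Subgroup G) : Set G)) ∧ ⁅Er, Er⁆ = Er ∧ ((Cfsg.pResidual p ↥Er).map (Er).subtype) = Er ∧ Cfsg.IsQuasisimple (↥Er ⧸ (Subgroup.centralizer ((U : Subgroup G) : Set G)).subgroupOf Er) ∧ Cfsg.IsQuasisimple (↥Er ⧸ Cfsg.pCore p ↥Er) ∧ ∀ Y : Subgroup G, Y ≤ E → IsPGroup p ↥Y → ¬ Y ≤ Subgroup.centralizer ((U : Subgroup G) : Set G) → ⁅Er, Y⁆ = Er := by
  classical
  set C := Subgroup.centralizer (U : Set G) with hCdef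
  set CE := C.subgroupOf E with hCE
  have hUp : IsPGroup p ↥U := fun u => ⟨1, Subtype.ext (by rw [pow_one]; exact hU.2 u u.2)⟩
  -- large conjugates inside `E`
  have key : ∀ R : Subgroup G, IsPGroup p ↥R → R ≤ E → Cfsg.IsLarge R →
      C ≤ Subgroup.normalizer (R : Set G) := by
    intro R hR hRE hRl
    have h1 := Cfsg.Lib.Thompson.inf_centralizer_ne_bot_of_isPGroup hUp hR (hRE.trans hEU) hU1
    exact (Subgroup.centralizer_le (SetLike.coe_subset_coe.2 inf_le_left)).trans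
      ((Subgroup.centralizer_le_normalizer _).trans (hRl.2 _ inf_le_right h1))
  set WG := Cfsg.weakClosure Q E with hWG
  have hWE : WG ≤ E := iSup_le fun g => g.2
  set ι := {g : G // Q.map (MulAut.conj g).toMonoidHom ≤ E}
  let R : ι → Subgroup ↥E := fun g => (Q.map (MulAut.conj g.1).toMonoidHom).subgroupOf E
  have hW : WG.subgroupOf E = ⨆ g, R g := by
    apply Subgroup.map_injective E.subtype_injective
    rw [Subgroup.subgroupOf_map_subtype, inf_of_le_left hWE, Subgroup.map_iSup]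
    exact iSup_congr fun g => ((Subgroup.subgroupOf_map_subtype _ _).trans (inf_of_le_left g.2)).symm
  haveI hWn : (WG.subgroupOf E).Normal := by
    refine ⟨fun x hx e => ?_⟩
    rw [Subgroup.mem_subgroupOf] at hx ⊢
    suffices h : WG ≤ WG.comap (MulAut.conj (e : G)).toMonoidHom by simpa using h hx
    refine iSup_le fun g => ?_
    rw [← Subgroup.map_le_iff_le_comap, Subgroup.map_map]
    have he : (MulAut.conj (e : G)).toMonoidHom.comp (MulAut.conj g.1).toMonoidHom =
        (MulAut.conj ((e : G) * g.1)).toMonoidHom := by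
      ext y; simp [mul_assoc]
    rw [he]
    refine le_iSup_of_le (ι := ι) ⟨(e : G) * g.1, ?_⟩ le_rfl
    rintro _ ⟨q, hq, rfl⟩
    have := g.2 ⟨q, hq, rfl⟩
    simpa [mul_assoc] using E.mul_mem (E.mul_mem e.2 this) (E.inv_mem e.2)
  have hone : Q.map (MulAut.conj (1 : G)).toMonoidHom = Q := Cfsg.Lib.Local.map_conj_one Q
  have hQC : ¬ Q ≤ C := fun h => by
    have hUQ : U ≤ Subgroup.centralizer (Q : Set G) := Subgroup.le_centralizer_iff.1 h
    exact hQn (hEU.trans (hQ.2 U hUQ hU1))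
  have hWC : ∃ g : ι, ¬ R g ≤ CE := by
    refine ⟨⟨1, hone.trans_le hQE⟩, fun h => hQC fun q hq => ?_⟩
    exact Subgroup.mem_subgroupOf.1 (h (show (⟨q, hQE hq⟩ : ↥E) ∈ (Q.map (MulAut.conj (1 : G)).toMonoidHom).subgroupOf E by
      rw [hone]; exact hq))
  have hCR : ∀ g : ι, CE ≤ Subgroup.normalizer (R g : Set ↥E) := by
    intro g c hc
    refine Subgroup.mem_normalizer_iff.2 fun x => ?_
    have h := Subgroup.mem_normalizer_iff.1 (key _ (hQp.map _) g.2
      (Cfsg.Lib.Local.isLarge_map_conj hQ g.1) (Subgroup.mem_subgroupOf.1 hc)) (x : G)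
    exact h
  obtain ⟨h1, h2, h3, h4, h5, h6⟩ := Cfsg.Lib.Local.LargeQS.main (p := p) (C := CE) (W := WG.subgroupOf E) R
    (fun g => ((hQp.map _).of_equiv (Subgroup.subgroupOfEquivOfLe g.2).symm)) hW hCR hred hqs hWC
  set ErE := (Cfsg.pResidual p ↥(WG.subgroupOf E)).map (WG.subgroupOf E).subtype with hErE
  have hmap : ErE.map E.subtype = Er := by
    rw [hEr, ← Cfsg.Lib.Fusion.map_pResidual_equiv (Subgroup.subgroupOfEquivOfLe hWE), Subgroup.map_map,
      Subgroup.map_map]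
    rfl
  let e : ↥ErE ≃* ↥Er := (ErE.equivMapOfInjective _ E.subtype_injective).trans (MulEquiv.subgroupCongr hmap)
  have he : ∀ x, (e x : G) = ((x : ↥E) : G) := fun _ => rfl
  refine ⟨?_, ?_, ?_, ?_, ?_, ?_⟩
  · have h := congrArg (Subgroup.map E.subtype) h1
    rw [Subgroup.map_sup, Subgroup.map_sup, hmap, Subgroup.subgroupOf_map_subtype, inf_comm] at h
    exact h
  · have h := congrArg (Subgroup.map E.subtype) h2
    rwa [Subgroup.map_commutator, hmap] at h
  · rw [← Cfsg.Lib.Fusion.map_pResidual_equiv e, h3,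
      Subgroup.map_top_of_surjective e.toMonoidHom e.surjective, ← MonoidHom.range_eq_map, Subgroup.range_subtype]
  · refine Cfsg.Lib.Core.quasisimple_congr h4 (QuotientGroup.congr _ _ e ?_)
    ext y
    constructor
    · rintro ⟨x, hx, rfl⟩
      exact Subgroup.mem_subgroupOf.2 ((he x).symm ▸ Subgroup.mem_subgroupOf.1 (Subgroup.mem_subgroupOf.1 hx))
    · intro hy
      obtain ⟨x, rfl⟩ := e.surjective y
      exact ⟨x, Subgroup.mem_subgroupOf.2 (Subgroup.mem_subgroupOf.2 ((he x) ▸ Subgroup.mem_subgroupOf.1 hy)), rfl⟩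
  · exact Cfsg.Lib.Core.quasisimple_congr h5
      (QuotientGroup.congr _ _ e (Cfsg.Lib.Core.map_pCore_equiv e))
  · intro Y hYE hY hYC
    have h := congrArg (Subgroup.map E.subtype) (h6 (Y.subgroupOf E)
      (hY.of_equiv (Subgroup.subgroupOfEquivOfLe hYE).symm) fun hle => hYC fun y hy =>
        Subgroup.mem_subgroupOf.1 (hle (show (⟨y, hYE hy⟩ : ↥E) ∈ Y.subgroupOf E from hy)))
    rwa [Subgroup.map_commutator, hmap, Subgroup.subgroupOf_map_subtype, inf_of_le_left hYE] at h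

end Cfsg.Agent.S2860
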