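import Cfsg.Statements.S2861
import Cfsg.Agent.Lib.Local.SLSuzukiDihedralForcing
import Cfsg.Agent.Lib.Local.SuzukiTwoInvolutions
import Cfsg.Agent.Lib.Local.PReduced
import Cfsg.Agent.Lib.Core.Cores

set_option autoImplicit false
open Cfsg

namespace Cfsg.Agent.S2861

/-- Standing hypotheses: G a finite group, S a Sylow p-subgroup, Q a nontrivial large p-subgroup of G contained in S, M a subgroup containing S with the basic property (M ∈ 𝔐_G(S)); Y_M the largest p-reduced normal subgroup of M and M† = M·C_G(Y_M). Let L ∈ 𝔏_G(Y_M) (L ∈ 𝔏_G(Y_M): Y_M ≤ L; O_p(L) is the normal closure in L of Y_M ∩ O_p(L) and normalizes Y_M; L is Y_M-minimal of characteristic p with N_L(Y_M) its unique maximal subgroup over Y_M; and L/O_p(L) ≅ SL₂(q) with q = |Y_M : Y_M ∩ O_p(L)|, or p = 2 and L/O_p(L) is a Suzuki group Sz(q) or dihedral of order 2r, r an odd prime) and A = O_p(L). Then Y_M·A/A is the unique nontrivial elementary abelian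 normal p-subgroup of N_L(Y_M)/A. -/
theorem result {G : Type*} [Group G] [Finite G] {p : ℕ} [Fact p.Prime] (S : Sylow p G) (Q : Subgroup G) (hQp : IsPGroup p ↥Q) (hQ1 : Q ≠ ⊥) (hQS : Q ≤ (S : Subgroup G)) (hQ : Cfsg.IsLarge Q) (M : Subgroup G) (hSM : (S : Subgroup G) ≤ M) (hM : Cfsg.IsInFrakM p M) (L : Subgroup G) (hL : Cfsg.IsInFrakL p M L) (NL : Subgroup G) (hNL : NL = L ⊓ Subgroup.normalizer (((Cfsg.largestPReducedOf p M) : Subgroup G) : Set G)) [hn : (((Cfsg.pCoreOf p L)).subgroupOf NL).Normal] : let Ybar : Subgroup (↥NL ⧸ ((Cfsg.pCoreOf p L)).subgroupOf NL) := (((Cfsg.largestPReducedOf p M)).subgroupOf NL).map (QuotientGroup.mk' (((Cfsg.pCoreOf p L)).subgroupOf NL)); Ybar ≠ ⊥ ∧ Ybar.Normal ∧ Cfsg.IsElementaryAbelian p Ybar ∧ ∀ (V : Subgroup (↥NL ⧸ ((Cfsg.pCoreOf p L)).subgroupOf NL)), V.Normal → Cfsg.IsElementaryAbelian p V → V ≠ ⊥ → V = Ybar := by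
  intro Ybar
  classical
  have hp : p.Prime := Fact.out
  obtain ⟨hYL, hAcl, hAN, ⟨hncl, -⟩, -, ⟨hlt, hmax⟩, hcases⟩ := hL
  obtain ⟨Y, hY⟩ : ∃ Y : Subgroup G, largestPReducedOf p M = Y := ⟨_, rfl⟩
  have hYel : IsElementaryAbelian p Y := hY ▸ Cfsg.Lib.Local.largestPReducedOf_isElementaryAbelian M
  have hNL' : NL = L ⊓ Subgroup.normalizer (Y : Set G) := hY ▸ hNL
  have hYbar : Ybar = (Y.subgroupOf NL).map (QuotientGroup.mk' ((pCoreOf p L).subgroupOf NL)) := by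
    simp only [Ybar, hY]
  clear_value Ybar
  rw [hY] at hYL hAN hncl hlt hmax hcases
  rw [← hNL'] at hlt hmax
  have hNLL : NL ≤ L := hlt.le
  have hYNL : Y ≤ NL := hNL' ▸ le_inf hYL Subgroup.le_normalizer
  obtain ⟨f, hf⟩ : ∃ f : ↥NL →* ↥L ⧸ pCore p ↥L,
      f = (QuotientGroup.mk' (pCore p ↥L)).comp (Subgroup.inclusion hNLL) := ⟨_, rfl⟩
  have hker : (pCoreOf p L).subgroupOf NL = f.ker := by
    ext x
    rw [hf, MonoidHom.mem_ker, MonoidHom.comp_apply, QuotientGroup.mk'_apply, QuotientGroup.eq_one_iff,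
      Subgroup.mem_subgroupOf]
    exact ⟨fun ⟨y, hy, e⟩ => by rwa [show Subgroup.inclusion hNLL x = y from Subtype.ext e.symm],
      fun h => ⟨_, h, rfl⟩⟩
  obtain ⟨ι, hι⟩ : ∃ ι : ↥NL ⧸ (pCoreOf p L).subgroupOf NL →* ↥L ⧸ pCore p ↥L,
      ∀ x : ↥NL, ι (x : ↥NL ⧸ (pCoreOf p L).subgroupOf NL) = f x :=
    ⟨QuotientGroup.lift _ f hker.le, fun x => rfl⟩
  have hιinj : Function.Injective ι := by
    rw [injective_iff_map_eq_one]
    intro z hz
    induction z using QuotientGroup.induction_on with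
    | _ x => rw [hι, ← MonoidHom.mem_ker, ← hker] at hz; exact (QuotientGroup.eq_one_iff x).2 hz
  obtain ⟨Y', hY'⟩ : ∃ Y' : Subgroup (↥L ⧸ pCore p ↥L),
      Y' = (Y.subgroupOf L).map (QuotientGroup.mk' (pCore p ↥L)) := ⟨_, rfl⟩
  have hY'el : IsElementaryAbelian p Y' := by
    rw [hY']
    refine Cfsg.Lib.Local.elementaryAbelian_map _ ⟨⟨⟨fun a b => ?_⟩⟩, fun a ha => ?_⟩
    · exact Subtype.ext (Subtype.ext (show (a.1.1 : G) * b.1.1 = b.1.1 * a.1.1 from
        congrArg Subtype.val (hYel.1.1.1 ⟨a.1.1, a.2⟩ ⟨b.1.1, b.2⟩)))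
    · exact Subtype.ext (hYel.2 _ ha)
  have hY'1 : Y' ≠ ⊥ := by
    intro hb
    rw [hY', Subgroup.map_eq_bot_iff, QuotientGroup.ker_mk'] at hb
    have htop : pCore p ↥L = ⊤ := top_le_iff.1 (hncl ▸ Subgroup.normalClosure_le_normal hb)
    refine hlt.ne (le_antisymm hNLL ?_)
    intro x hx
    have hA : x ∈ pCoreOf p L := ⟨⟨x, hx⟩, by rw [htop]; trivial, rfl⟩
    exact hNL' ▸ ⟨hx, hAN hA⟩
  have hmapY : Ybar.map ι = Y' := by
    rw [hYbar, Subgroup.map_map, hY']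
    ext z
    constructor
    · rintro ⟨x, hx, rfl⟩
      exact ⟨⟨x.1, hNLL x.2⟩, hx, by simp only [MonoidHom.comp_apply, QuotientGroup.mk'_apply, hι, hf]; rfl⟩
    · rintro ⟨x, hx, rfl⟩
      refine ⟨⟨x.1, hYNL hx⟩, hx, ?_⟩
      rw [MonoidHom.comp_apply, QuotientGroup.mk'_apply, hι, hf]; rfl
  have hYbn : Ybar.Normal := by
    rw [hYbar]
    haveI : (Y.subgroupOf NL).Normal :=
      (Subgroup.normal_subgroupOf_iff_le_normalizer hYNL).2 (hNL' ▸ inf_le_right)
    exact Subgroup.Normal.map inferInstance _ (QuotientGroup.mk'_surjective _)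
  have hYb1 : Ybar ≠ ⊥ := fun hb => hY'1 (by rw [← hmapY, hb, Subgroup.map_bot])
  have hYbel : IsElementaryAbelian p Ybar := by
    refine ⟨⟨⟨fun a b => Subtype.ext (hιinj ?_)⟩⟩, fun a ha => hιinj ?_⟩
    · show ι (a.1 * b.1) = ι (b.1 * a.1)
      rw [map_mul, map_mul]
      exact congrArg Subtype.val (hY'el.1.1.1 ⟨_, hmapY ▸ Subgroup.mem_map_of_mem ι a.2⟩
        ⟨_, hmapY ▸ Subgroup.mem_map_of_mem ι b.2⟩)
    · rw [map_pow, map_one]
      exact hY'el.2 _ (hmapY ▸ Subgroup.mem_map_of_mem ι ha)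
  refine ⟨hYb1, hYbn, hYbel, fun V hVn hVel hV1 => ?_⟩
  -- the normalizer of the image lies in the image of `NL`
  have hrange : Subgroup.normalizer (Y' : Set (↥L ⧸ pCore p ↥L)) ≤ ι.range := by
    obtain ⟨X, hX⟩ : ∃ X : Subgroup G, X = ((Subgroup.normalizer (Y' : Set (↥L ⧸ pCore p ↥L))).comap
        (QuotientGroup.mk' (pCore p ↥L))).map L.subtype := ⟨_, rfl⟩
    have hXle : X ≤ L := hX ▸ Subgroup.map_subtype_le _
    have hYX : Y ≤ X := by
      intro y hy
      rw [hX]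
      exact ⟨⟨y, hYL hy⟩, Subgroup.le_normalizer (hY' ▸ Subgroup.mem_map_of_mem _ (by exact hy)), rfl⟩
    rcases hXle.lt_or_eq with h | h
    · have := hmax X hYX h
      intro z hz
      obtain ⟨x, rfl⟩ := QuotientGroup.mk'_surjective _ z
      have hx : (x : G) ∈ NL := this (hX ▸ ⟨x, hz, rfl⟩)
      exact ⟨((⟨x.1, hx⟩ : ↥NL) : ↥NL ⧸ _), by rw [hι, hf]; rfl⟩
    · exfalso
      have hn' : Y'.Normal := by
        rw [← Subgroup.normalizer_eq_top_iff, eq_top_iff]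
        intro z _
        obtain ⟨x, rfl⟩ := QuotientGroup.mk'_surjective _ z
        obtain ⟨x', hx', e⟩ : (x : G) ∈ ((Subgroup.normalizer (Y' : Set (↥L ⧸ pCore p ↥L))).comap
            (QuotientGroup.mk' (pCore p ↥L))).map L.subtype := hX ▸ h.ge x.2
        rwa [show x' = x from Subtype.ext e] at hx'
      have htop : Y' = ⊤ := by
        rw [eq_top_iff, ← Subgroup.map_top_of_surjective _ (QuotientGroup.mk'_surjective (pCore p ↥L)),
          Subgroup.map_le_iff_le_comap, ← hncl]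
        haveI : (Y'.comap (QuotientGroup.mk' (pCore p ↥L))).Normal := hn'.comap _
        exact Subgroup.normalClosure_le_normal (Subgroup.map_le_iff_le_comap.1 hY'.ge)
      have hLp : IsPGroup p ↥L := by
        intro x
        obtain ⟨k, hk⟩ := Cfsg.Lib.Core.pCore_isPGroup p ↥L
          ⟨x ^ p, (QuotientGroup.eq_one_iff _).1
            (by rw [QuotientGroup.mk_pow]; exact hY'el.2 _ (htop ▸ Subgroup.mem_top _))⟩
        exact ⟨1 + k, by rw [pow_add, pow_one, pow_mul]; exact congrArg Subtype.val hk⟩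
      have hcore : pCore p ↥L = ⊤ :=
        top_le_iff.1 (le_sSup ⟨(inferInstance : (⊤ : Subgroup ↥L).Normal), hLp.to_subgroup ⊤⟩)
      refine hY'1 (le_bot_iff.1 fun z _ => ?_)
      obtain ⟨x, rfl⟩ := QuotientGroup.mk'_surjective _ z
      exact Subgroup.mem_bot.2 ((QuotientGroup.eq_one_iff x).2 (hcore ▸ Subgroup.mem_top x))
  have hcardY : Nat.card Y' = (Y ⊓ pCoreOf p L).relIndex Y := by
    obtain ⟨g, hg⟩ : ∃ g : ↥Y →* ↥L ⧸ pCore p ↥L,
        g = (QuotientGroup.mk' (pCore p ↥L)).comp (Subgroup.inclusion hYL) := ⟨_, rfl⟩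
    have h1 : g.range = Y' := by
      rw [hY', hg]
      ext z
      constructor
      · rintro ⟨y, rfl⟩; exact ⟨_, y.2, rfl⟩
      · rintro ⟨x, hx, rfl⟩; exact ⟨⟨x.1, hx⟩, rfl⟩
    have h2 : g.ker = (Y ⊓ pCoreOf p L).subgroupOf Y := by
      ext y
      rw [hg, MonoidHom.mem_ker, MonoidHom.comp_apply, QuotientGroup.mk'_apply, QuotientGroup.eq_one_iff,
        Subgroup.mem_subgroupOf]
      exact ⟨fun h => ⟨y.2, _, h, rfl⟩,
        fun ⟨_, y', hy', e⟩ => by rwa [show Subgroup.inclusion hYL y = y' from Subtype.ext e.symm]⟩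
    rw [Subgroup.relIndex, ← h2, Subgroup.index_ker, h1]
  have hY'p : IsPGroup p ↥Y' := fun g => ⟨1, Subtype.ext (by rw [pow_one]; exact hY'el.2 g.1 g.2)⟩
  have hforce : Cfsg.Lib.Local.NormForces p Y' := by
    rcases hcases with ⟨F, iF, iT, hq, ⟨e⟩⟩ | ⟨rfl, F, iF, iT, m, hF, hq, ⟨e⟩⟩ | ⟨rfl, r, hr, hr2, ⟨e⟩⟩
    · have hcF : CharP F p := by
        obtain ⟨p', hp'⟩ := CharP.exists F
        obtain ⟨n, hn', hcn⟩ := FiniteField.card F p'
        obtain ⟨k, hk⟩ := hY'p.exists_card_eq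
        have hd : p' ∣ p ^ k := by
          rw [← hk, hcardY, ← hq, hcn]; exact dvd_pow_self _ n.pos.ne'
        rwa [(Nat.prime_dvd_prime_iff_eq hn' hp).1 (hn'.dvd_of_dvd_pow hd)] at hp'
      refine Cfsg.Lib.Local.normForces_of_equiv e _
        (Cfsg.Lib.Local.normForces_sl_two p _ (Cfsg.Lib.Local.elementaryAbelian_map _ hY'el) ?_)
      rw [hq, ← hcardY]
      exact (Nat.card_congr (Subgroup.equivMapOfInjective _ _ e.injective).toEquiv).symm
    · rcases Nat.eq_zero_or_pos m with rfl | hm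
      · refine Cfsg.Lib.Local.normForces_of_equiv e _
          (Cfsg.Lib.Local.normForces_of_uniqueInvol (Cfsg.Lib.Local.SzTwo.uniqueInvol (by simpa using hF))
            _ (Cfsg.Lib.Local.elementaryAbelian_map _ hY'el) ?_)
        exact fun hb => hY'1 ((Subgroup.map_eq_bot_iff_of_injective _ e.injective).1 hb)
      · have h : Cfsg.Lib.Linear.Suz.Params F m := ⟨hm, hF⟩
        obtain ⟨eS, -⟩ := Cfsg.Lib.Linear.Suz.exists_lie_equiv h
        refine Cfsg.Lib.Local.normForces_of_equiv (e.trans eS.symm) _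
          (Cfsg.Lib.Local.normForces_suzuki h _ (Cfsg.Lib.Local.elementaryAbelian_map _ hY'el) ?_)
        rw [hq, ← hcardY]
        exact (Nat.card_congr (Subgroup.equivMapOfInjective _ _ (e.trans eS.symm).injective).toEquiv).symm
    · refine Cfsg.Lib.Local.normForces_of_equiv e _
        (Cfsg.Lib.Local.normForces_of_uniqueInvol (Cfsg.Lib.Local.uniqueInvol_dihedral hr hr2)
          _ (Cfsg.Lib.Local.elementaryAbelian_map _ hY'el) ?_)
      exact fun hb => hY'1 ((Subgroup.map_eq_bot_iff_of_injective _ e.injective).1 hb)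
  apply Subgroup.map_injective hιinj
  rw [hmapY]
  refine hforce _ (Cfsg.Lib.Local.elementaryAbelian_map ι hVel)
    (fun hb => hV1 ((Subgroup.map_eq_bot_iff_of_injective _ hιinj).1 hb)) (hrange.trans ?_)
  rintro _ ⟨z, rfl⟩
  refine Subgroup.le_normalizer_map ι ⟨z, ?_, rfl⟩
  rw [Subgroup.normalizer_eq_top_iff.2 hVn]
  trivial

end Cfsg.Agent.S2861
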