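import Cfsg.Statements.S2862
import Cfsg.Agent.S2850
import Cfsg.Agent.Lib.Local.AsymL
import Cfsg.Agent.Lib.Local.PReduced

set_option autoImplicit false
open Cfsg

namespace Cfsg.Agent.S2862
open Subgroup Cfsg.Lib.Local

/-- Standing hypotheses: G a finite group, S a Sylow p-subgroup, Q a nontrivial large p-subgroup of G contained in S, M a subgroup containing S with the basic property (M ∈ 𝔐_G(S)); Y_M the largest p-reduced normal subgroup of M and M† = M·C_G(Y_M). Suppose Y_M is char-p-tall and asymmetric in G, H ∈ ℌ_G(O_p(M)), and L is minimal among the subgroups of H containing Y_M with Y_M ≰ O_p(L). Then H = ⟨L, O_p(M)⟩ = ⟨hY_Mh⁻¹, O_p(M)⟩ for every h ∈ L outside N_L(Y_M); L is Y_M-minimal and of characteristic p, with N_L(Y_M) the unique maximal subgroup of L containing Y_M; [V, O^p(L)] ≠ 1 for every noncentral chief factor V/W of H inside O_p(H) (that is, O^p(L) does not act trivially on V/W); and the normal closure of O_p(L) ∩ Y_M in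 L lies in O_p(H). -/
theorem result {G : Type*} [Group G] [Finite G] {p : ℕ} [Fact p.Prime] (S : Sylow p G) (Q : Subgroup G) (hQp : IsPGroup p ↥Q) (hQ1 : Q ≠ ⊥) (hQS : Q ≤ (S : Subgroup G)) (hQ : Cfsg.IsLarge Q) (M : Subgroup G) (hSM : (S : Subgroup G) ≤ M) (hM : Cfsg.IsInFrakM p M) (htall : Cfsg.IsCharPTall p (Cfsg.largestPReducedOf p M)) (hasym : ¬ Cfsg.IsSymmetricIn (Cfsg.largestPReducedOf p M)) (H : Subgroup G) (hH : Cfsg.IsInFrakH p M H) (L : Subgroup G) (hLH : L ≤ H) (hYL : (Cfsg.largestPReducedOf p M) ≤ L) (hYO : ¬ (Cfsg.largestPReducedOf p M) ≤ (Cfsg.pCoreOf p L)) (hmin : ∀ L' : Subgroup G, L' ≤ L → (Cfsg.largestPReducedOf p M) ≤ L' → ¬ (Cfsg.largestPReducedOf p M) ≤ (Cfsg.pCoreOf p L') → L' = L) : (L ⊔ (Cfsg.pCoreOf p M) = H ∧ ∀ h ∈ L, h ∉ Subgroup.normalizer (((Cfsg.largestPReducedOf p M) : Subgroup G) : Set G) → (((Cfsg.largestPReducedOf p M) : Subgroup G).map (MulAut.conj (h : G)).toMonoidHom) ⊔ (Cfsg.pCoreOf p M) = H) ∧ (Cfsg.IsMinimalOver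 (((Cfsg.largestPReducedOf p M)).subgroupOf L) ∧ Subgroup.centralizer (Cfsg.pCore p ↥L : Set ↥L) ≤ Cfsg.pCore p ↥L ∧ L ⊓ Subgroup.normalizer (((Cfsg.largestPReducedOf p M) : Subgroup G) : Set G) < L ∧ ∀ X : Subgroup G, (Cfsg.largestPReducedOf p M) ≤ X → X < L → X ≤ L ⊓ Subgroup.normalizer (((Cfsg.largestPReducedOf p M) : Subgroup G) : Set G)) ∧ (∀ V W' : Subgroup G, V ≤ (Cfsg.pCoreOf p H) → H ≤ Subgroup.normalizer ((V : Subgroup G) : Set G) → H ≤ Subgroup.normalizer ((W' : Subgroup G) : Set G) → W' < V → (∀ Z' : Subgroup G, H ≤ Subgroup.normalizer ((Z' : Subgroup G) : Set G) → W' ≤ Z' → Z' ≤ V → Z' = W' ∨ Z' = V) → ¬ ⁅V, H⁆ ≤ W' → ¬ ⁅V, ((Cfsg.pResidual p ↥L).map (L).subtype)⁆ ≤ W') ∧ (Subgroup.normalClosure (((((Cfsg.pCoreOf p L) ⊓ (Cfsg.largestPReducedOf p M)).subgroupOf L : Subgroup ↥L)) : Set ↥L)).map L.subtype ≤ (Cfsg.pCoreOf p H) := by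
  classical
  set Y := Cfsg.largestPReducedOf p M with hY
  set O := Cfsg.pCoreOf p M with hO
  set Md := M ⊔ centralizer (Y : Set G) with hMd
  obtain ⟨hnorm, hwc, -, -⟩ := Cfsg.Agent.S2850.result S Q hQp hQ1 hQS hQ M hSM hM hasym
  obtain ⟨hHc, hOH, hYH, hPmin⟩ := hH
  have hOp : IsPGroup p O := pCoreOf_isPGroup M
  have hYM : Y ≤ O := largestPReducedOf_le_pCoreOf M
  have hOC : O ≤ centralizer (Y : Set G) := pCoreOf_le_centralizer_largestPReducedOf M
  have hYea := largestPReducedOf_isElementaryAbelian (p := p) M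
  have hYab : Y ≤ centralizer (Y : Set G) := hYM.trans hOC
  have hMdY : Md ≤ normalizer (Y : Set G) :=
    sup_le (normalizer_le_normalizer_largestPReducedOf M) (centralizer_le_normalizer _)
  have hgenH : L ⊔ O = H := by
    by_contra hne
    have h1 : Y ≤ pCoreOf p (L ⊔ O) := hPmin _ le_sup_right (lt_of_le_of_ne (sup_le hLH hOH) hne)
    refine hYO ?_
    refine (le_inf h1 hYL).trans ?_
    exact le_pCoreOf inf_le_right
      (le_normalizer_inf (le_sup_left.trans (le_normalizer_pCoreOf _)) le_normalizer)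
      ((pCoreOf_isPGroup _).to_le inf_le_left)
  have hd : AsymL.Data p Y O H L :=
  { op := hOp
    yab := hYab
    yo := hYM
    oy := hOC
    oh := hOH
    normO := fun R hR hOR => ((hnorm R hR hOR).1.trans (hnorm O hOp le_rfl).2).trans hMdY
    wc := hwc
    asym := fun g h1 h2 => by
      rw [← commutator_eq_bot_iff_le_centralizer, commutator_comm]
      by_contra h3
      refine hasym ⟨g, h3, le_inf ?_ ?_⟩
      · exact Cfsg.Lib.Coprime.commutator_le_of_le_normalizer h2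
      · rw [commutator_comm]
        exact Cfsg.Lib.Coprime.commutator_le_of_le_normalizer h1
    charp := (isCharP_iff H).2 hHc
    lh := hLH
    yl := hYL
    gen := hgenH }
  have hcoreY : ∀ X : Subgroup G, X ≤ L → Y ≤ X → X ≠ L → Y ≤ pCoreOf p X := by
    intro X hXL hYX hne
    by_contra h
    exact hne (hmin X hXL hYX h)
  -- a generating pair
  have hconjL : ∀ x ∈ L, Y.map (MulAut.conj x).toMonoidHom ≤ L := by
    rintro x hx _ ⟨y, hy, rfl⟩
    exact mul_mem (mul_mem hx (hYL hy)) (inv_mem hx)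
  obtain ⟨k, hk⟩ : ∃ k, AsymL.Gen Y L k := by
    by_contra hno
    refine hYO ?_
    have hYp : IsPGroup p ↥(Y.subgroupOf L) :=
      (hOp.to_le hYM).comap_of_injective L.subtype L.subtype_injective
    obtain ⟨N, hNn, hNp, hN⟩ := Cfsg.Lib.Invol.baerSuzuki (p := p) (Y.subgroupOf L) hYp (fun x => by
      set Yx := Y.map (MulAut.conj (x : G)).toMonoidHom with hYx
      have hne : Y ⊔ Yx ≠ L := fun h => hno ⟨x, x.2, h⟩
      have h1 := hcoreY _ (sup_le hYL (hconjL x x.2)) le_sup_left hne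
      have h2 : Y ⊔ Yx ≤ pCoreOf p (Y ⊔ Yx) ⊔ Yx := sup_le_sup_right h1 _
      have h3 : IsPGroup p ↥(Y ⊔ Yx) := (IsPGroup.to_sup_of_normal_left' (pCoreOf_isPGroup _)
        ((hOp.to_le hYM).map _) (le_sup_right.trans (le_normalizer_pCoreOf _))).to_le h2
      refine (h3.comap_of_injective L.subtype L.subtype_injective).to_le ?_
      refine sup_le (fun z hz => show (z : G) ∈ Y ⊔ Yx from mem_sup_left hz) ?_
      rintro _ ⟨z, hz, rfl⟩
      exact mem_sup_right ⟨(z : G), hz, rfl⟩)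
    intro y hy
    exact ⟨⟨y, hYL hy⟩, (le_sSup ⟨hNn, hNp⟩ : N ≤ Cfsg.pCore p L) (hN hy), rfl⟩
  have hXN : ∀ X : Subgroup G, Y ≤ X → X < L → X ≤ L ⊓ normalizer (Y : Set G) := fun X h1 h2 =>
    le_inf h2.le (hd.le_normalizer_of_le_pCoreOf hk h2.le (hcoreY X h2.le h1 h2.ne))
  have hnotN : ¬ L ≤ normalizer (Y : Set G) := fun h =>
    hYO (le_pCoreOf hYL h (hOp.to_le hYM))
  have hlt : L ⊓ normalizer (Y : Set G) < L :=
    lt_of_le_of_ne inf_le_left fun h => hnotN (inf_eq_left.1 h)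
  have hpair : ∀ x ∈ L, x ∉ normalizer (Y : Set G) →
      Y ⊔ Y.map (MulAut.conj x).toMonoidHom = L := by
    intro x hx hxN
    by_contra hne
    have h1 : ∀ z ∈ L, Y ⊔ Y.map (MulAut.conj z).toMonoidHom ≠ L →
        Y.map (MulAut.conj z).toMonoidHom ≤ normalizer (Y : Set G) := fun z hz h =>
      (le_sup_right.trans (hXN _ le_sup_left (lt_of_le_of_ne (sup_le hYL (hconjL z hz)) h))).trans
        inf_le_right
    have h2 : Y.map (MulAut.conj x⁻¹).toMonoidHom ≤ normalizer (Y : Set G) := by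
      refine h1 _ (inv_mem hx) fun h => hne ?_
      have h3 := congrArg (Subgroup.map (MulAut.conj x).toMonoidHom) h
      rwa [Subgroup.map_sup, map_conj_cancel_inv, Cfsg.Lib.Core.map_conj_eq_of_mem_normalizer
        (le_normalizer hx), sup_comm] at h3
    refine hxN (hd.mem_normalizer_of_commute hk hx (hd.asym x ?_ (h1 x hx hne)))
    rw [normalizer_map_conj]
    have h3 := map_mono (f := (MulAut.conj x).toMonoidHom) h2
    rwa [map_conj_cancel_inv] at h3
  have hnc : Subgroup.normalClosure ((Y.subgroupOf L : Subgroup ↥L) : Set ↥L) = ⊤ := by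
    set N := Subgroup.normalClosure ((Y.subgroupOf L : Subgroup ↥L) : Set ↥L) with hN
    by_contra hne
    set N' := N.map L.subtype with hN'
    have hYN : Y ≤ N' := fun y hy => ⟨⟨y, hYL hy⟩, subset_normalClosure hy, rfl⟩
    have hLN : L ≤ normalizer (N' : Set G) := by
      refine Cfsg.Lib.Core.le_normalizer_iff_conj_mem.2 ?_
      rintro g hg _ ⟨z, hz, rfl⟩
      exact ⟨⟨g, hg⟩ * z * ⟨g, hg⟩⁻¹, normalClosure_normal.conj_mem z hz _, rfl⟩
    refine hYO ((hcoreY N' (map_subtype_le _) hYN fun h => hne ?_).trans ?_)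
    · refine map_injective L.subtype_injective ?_
      rw [← hN', h, ← MonoidHom.range_eq_map, range_subtype]
    · exact le_pCoreOf ((pCoreOf_le N').trans (map_subtype_le _))
        (hLN.trans (normalizer_le_normalizer_pCoreOf N')) (pCoreOf_isPGroup N')
  refine ⟨⟨hgenH, fun x hx hxN => ?_⟩, ⟨⟨hnc, ?_⟩, (isCharP_iff L).1 (hd.isCharP_left hk), hlt, hXN⟩,
    fun V W' hVW hVn hWn hlt' hirr hnc' => ?_, ?_⟩
  · refine le_antisymm (sup_le ((hconjL x hx).trans hLH) hOH) ?_
    conv_lhs => rw [← hgenH, ← hpair x hx hxN]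
    exact sup_le (sup_le (hYM.trans le_sup_right) le_sup_left) le_sup_right
  · refine ⟨(L ⊓ normalizer (Y : Set G)).subgroupOf L, ⟨⟨fun h => ?_, fun M' hM' => ?_⟩, ?_⟩, ?_⟩
    · exact hlt.ne (le_antisymm inf_le_left (subgroupOf_eq_top.1 h))
    · by_contra hne
      have h1 : M'.map L.subtype < L := lt_of_le_of_ne (map_subtype_le _) fun h => hne
        (map_injective L.subtype_injective (by rw [h, ← MonoidHom.range_eq_map, range_subtype]))
      have h2 : Y ≤ M'.map L.subtype := fun y hy =>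
        ⟨⟨y, hYL hy⟩, hM'.le (show (⟨y, hYL hy⟩ : L) ∈ (L ⊓ normalizer (Y : Set G)).subgroupOf L from
          ⟨hYL hy, le_normalizer hy⟩), rfl⟩
      exact hM'.not_ge fun z hz => hXN _ h2 h1 ⟨z, hz, rfl⟩
    · exact fun z hz => ⟨z.2, le_normalizer hz⟩
    · rintro M' ⟨hM', hYM'⟩
      have h1 : M'.map L.subtype < L := lt_of_le_of_ne (map_subtype_le _) fun h => hM'.1
        (map_injective L.subtype_injective (by rw [h, ← MonoidHom.range_eq_map, range_subtype]))
      have h2 : Y ≤ M'.map L.subtype := fun y hy => ⟨⟨y, hYL hy⟩, hYM' hy, rfl⟩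
      refine eq_of_le_of_card_ge (fun z hz => hXN _ h2 h1 ⟨z, hz, rfl⟩) ?_
      by_contra hcard
      have h3 : M' < (L ⊓ normalizer (Y : Set G)).subgroupOf L :=
        lt_of_le_of_ne (fun z hz => hXN _ h2 h1 ⟨z, hz, rfl⟩) fun h => hcard (h ▸ le_rfl)
      exact hlt.ne (le_antisymm inf_le_left (subgroupOf_eq_top.1 (hM'.2 _ h3)))
  · have hC : AsymL.Chief p H W' V := ⟨hlt', hVW, hWn, hVn, hirr⟩
    refine hd.residual_nontrivial (map_subtype_le _) ?_ hC hnc'
    have h := congrArg (Subgroup.map L.subtype) (sup_pResidual_eq_top_of_normalClosure (p := p) hnc)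
    rw [Subgroup.map_sup, map_subgroupOf_eq_of_le hYL, ← MonoidHom.range_eq_map, range_subtype] at h
    exact h.ge
  · haveI : ((pCoreOf p H).subgroupOf L).Normal :=
      normal_subgroupOf_of_le_normalizer (hLH.trans (le_normalizer_pCoreOf H))
    refine (map_mono (normalClosure_le_normal (N := (pCoreOf p H).subgroupOf L) ?_)).trans ?_
    · exact fun z hz => hd.core_inf_le hk hz
    · rintro _ ⟨z, hz, rfl⟩
      exact hz

end Cfsg.Agent.S2862
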