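import Cfsg.Statements.S2863
import Cfsg.Agent.Lib.Local.FrakLFixed
import Cfsg.Agent.Lib.Local.SuzukiTwoInvolutions
import Cfsg.Agent.Lib.Local.PReduced
import Cfsg.Agent.Lib.Linear.Suzuki.LieForm
import Cfsg.Agent.Lib.Core.Cores

set_option autoImplicit false
open Cfsg

namespace Cfsg.Agent.S2863
open Subgroup Cfsg.Lib.Local
open scoped commutatorElement

/-- Commuting involutions coincide in a group isomorphic to one with that property. -/
theorem uniqueInvol_of_equiv {H K : Type*} [Group H] [Group K] (e : H ≃* K) (hK : UniqueInvol K) :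
    UniqueInvol H := fun a b ha hb hab ha1 hb1 => e.injective (hK _ _ (by rw [← map_mul, ha, map_one])
  (by rw [← map_mul, hb, map_one]) (by rw [← map_mul, ← map_mul, hab])
  (fun h => ha1 (e.injective (by rw [h, map_one]))) fun h => hb1 (e.injective (by rw [h, map_one])))

/-- The abstract statement, for `Γ = L`. -/
theorem fixed_point_free {Γ : Type*} [Group Γ] [Finite Γ] {p : ℕ} [Fact p.Prime] (Y : Subgroup Γ)
    (hYab : Y ≤ centralizer (Y : Set Γ)) (hYp : ∀ y ∈ Y, y ^ p = 1)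
    (hA : Cfsg.pCore p Γ = normalClosure ((Y ⊓ Cfsg.pCore p Γ : Subgroup Γ) : Set Γ))
    (hAY : Cfsg.pCore p Γ ≤ normalizer (Y : Set Γ)) (hnle : ¬ Y ≤ Cfsg.pCore p Γ)
    (hmax : ∀ X : Subgroup Γ, Y ≤ X → X ≠ ⊤ → X ≤ normalizer (Y : Set Γ))
    (hfacts : FrakL.Facts p (Y.map (QuotientGroup.mk' (Cfsg.pCore p Γ))))
    {h : Γ} (hnp : ¬ ∃ k : ℕ, orderOf h = p ^ k) {a : Γ} (ha : a ∈ Cfsg.pCore p Γ)
    (hac : ⁅h, a⁆ ∈ Y ⊓ center Γ) : a ∈ Y ⊓ center Γ := by
  have hp : p.Prime := Fact.out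
  set A := Cfsg.pCore p Γ with hAdef
  set C := Y ⊓ center Γ with hC
  set π := QuotientGroup.mk' A with hπ
  have hker : π.ker = A := QuotientGroup.ker_mk' A
  have hjoin : ∀ g : Γ, Y.map (MulAut.conj g).toMonoidHom ≠ Y →
      Y ⊔ Y.map (MulAut.conj g).toMonoidHom = ⊤ := fun g hg => by
    have := FrakL.join_eq_top (p := p) (f := π) (g₁ := 1) (g₂ := g) (QuotientGroup.mk'_surjective A) hYp
      (hker.trans_le hAY) (fun h => hnle (h.trans hker.le)) hmax Cfsg.Lib.Core.pCore_quotient_pCore_eq_bot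
      hfacts (by rw [map_conj_one]; exact Ne.symm hg)
    rwa [map_conj_one] at this
  haveI hCn : C.Normal := ⟨fun c hc g => by rwa [mem_center_iff.1 hc.2 g, mul_inv_cancel_right]⟩
  have hCA : C ≤ A := Cfsg.Lib.Core.le_pCore (fun z => ⟨1, Subtype.ext (by rw [pow_one]; exact hYp z z.2.1)⟩)
  have hAn : A.Normal := inferInstance
  have hAconj : ∀ g : Γ, A ≤ normalizer ((Y.map (MulAut.conj g).toMonoidHom : Subgroup Γ) : Set Γ) := by
    intro g
    rw [normalizer_map_conj]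
    have := map_mono (f := (MulAut.conj g).toMonoidHom) hAY
    rwa [Cfsg.Lib.Core.map_conj_eq_of_mem_normalizer (normalizer_eq_top A ▸ mem_top g)] at this
  have hconjab : ∀ g : Γ, ∀ u ∈ Y.map (MulAut.conj g).toMonoidHom,
      ∀ w ∈ Y.map (MulAut.conj g).toMonoidHom, u * w = w * u := by
    rintro g _ ⟨u, hu, rfl⟩ _ ⟨w, hw, rfl⟩
    rw [← map_mul, ← map_mul, mem_centralizer_iff.1 (hYab hw) u hu]
  -- commutators of the generators of `A` lie in `C`
  have hbc : ∀ g : Γ, ∀ b ∈ Y ⊓ A, ∀ b' ∈ Y.map (MulAut.conj g).toMonoidHom, b' ∈ A → ⁅b, b'⁆ ∈ C := by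
    intro g b hb b' hb' hb'A
    by_cases hg : Y.map (MulAut.conj g).toMonoidHom = Y
    · rw [commutatorElement_eq_one_iff_mul_comm.2 (mem_centralizer_iff.1 (hYab (hg ▸ hb')) b hb.1)]
      exact one_mem _
    have h1 : ⁅b, b'⁆ ∈ Y := by
      rw [commutatorElement_def, mul_assoc, mul_assoc, ← mul_assoc b']
      exact mul_mem hb.1 ((mem_normalizer_iff.1 (hAY hb'A) _).1 (inv_mem hb.1))
    have h2 : ⁅b, b'⁆ ∈ Y.map (MulAut.conj g).toMonoidHom := by
      rw [commutatorElement_def]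
      exact mul_mem ((mem_normalizer_iff.1 (hAconj g hb.2) _).1 hb') (inv_mem hb')
    refine ⟨h1, mem_center_iff.2 fun z => ?_⟩
    have h3 : (⊤ : Subgroup Γ) ≤ centralizer ({⁅b, b'⁆} : Set Γ) := by
      rw [← hjoin g hg]
      exact sup_le (fun y hy => mem_centralizer_singleton_iff.2 (mem_centralizer_iff.1 (hYab h1) y hy))
        fun y hy => mem_centralizer_singleton_iff.2 (hconjab g y hy _ h2)
    exact mem_centralizer_singleton_iff.1 (h3 (mem_top z))
  -- the extension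
  set q := QuotientGroup.mk' C with hq
  set f : Γ ⧸ C →* Γ ⧸ A := QuotientGroup.map C A (MonoidHom.id Γ) (by simpa using hCA) with hf
  have hfq : ∀ z, f (q z) = π z := fun z => rfl
  have hqs : Function.Surjective q := QuotientGroup.mk'_surjective C
  have hkf : f.ker = A.map q := by
    ext z
    obtain ⟨z, rfl⟩ := hqs z
    rw [MonoidHom.mem_ker, hfq, ← MonoidHom.mem_ker, hker]
    refine ⟨fun hz => mem_map_of_mem q hz, ?_⟩
    rintro ⟨w, hw, e⟩
    have h1 : w⁻¹ * z ∈ C := QuotientGroup.eq.1 e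
    have := A.mul_mem hw (hCA h1)
    rwa [mul_inv_cancel_left] at this
  have hYq : (Y.map q).map f = Y.map π := by
    rw [map_map]
    rfl
  have hgenA : A ≤ normalClosure ((Y ⊓ A : Subgroup Γ) : Set Γ) := hA.le
  have hkab : f.ker ≤ centralizer (f.ker : Set (Γ ⧸ C)) := by
    have h1 : normalClosure ((Y ⊓ A : Subgroup Γ) : Set Γ) =
        Subgroup.closure (Group.conjugatesOfSet ((Y ⊓ A : Subgroup Γ) : Set Γ)) := rfl
    set s := q '' Group.conjugatesOfSet ((Y ⊓ A : Subgroup Γ) : Set Γ) with hs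
    have hk : f.ker = Subgroup.closure s := by
      rw [hkf, hA, h1, MonoidHom.map_closure]
    have hcm : ∀ u ∈ s, ∀ w ∈ s, u * w = w * u := by
      rintro _ ⟨u, hu, rfl⟩ _ ⟨w, hw, rfl⟩
      obtain ⟨b, hb, hbu⟩ := Group.mem_conjugatesOfSet_iff.1 hu
      obtain ⟨g₁, rfl⟩ := isConj_iff.1 hbu
      obtain ⟨b', hb', hbw⟩ := Group.mem_conjugatesOfSet_iff.1 hw
      obtain ⟨g₂, rfl⟩ := isConj_iff.1 hbw
      have h2 := hbc (g₁⁻¹ * g₂) b hb ((g₁⁻¹ * g₂) * b' * (g₁⁻¹ * g₂)⁻¹) ⟨b', hb'.1, rfl⟩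
        (hAn.conj_mem b' hb'.2 _)
      have h3 := hCn.conj_mem _ h2 g₁
      have h4 : ⁅g₁ * b * g₁⁻¹, g₂ * b' * g₂⁻¹⁆ ∈ C := by
        convert h3 using 1
        simp [commutatorElement_def, mul_assoc]
      refine commutatorElement_eq_one_iff_mul_comm.1 ?_
      rw [← map_commutatorElement]
      exact (QuotientGroup.eq_one_iff _).2 h4
    rw [hk]
    have hc1 : Subgroup.closure s ≤ centralizer s :=
      (Subgroup.closure_le _).2 fun u hu => mem_centralizer_iff.2 fun w hw => hcm w hw u hu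
    exact (Subgroup.closure_le _).2 fun u hu => mem_centralizer_iff.2 fun w hw =>
      (mem_centralizer_iff.1 (hc1 hw) u hu).symm
  have hcent : f.ker ⊓ center (Γ ⧸ C) = ⊥ := by
    rw [eq_bot_iff]
    intro z hz
    obtain ⟨z', rfl⟩ := hqs z
    have hzA : z' ∈ A := by
      have := MonoidHom.mem_ker.1 hz.1
      rw [hfq, ← MonoidHom.mem_ker, hker] at this
      exact this
    have hzc : ∀ x : Γ, ⁅z', x⁆ ∈ C := fun x => by
      rw [← QuotientGroup.eq_one_iff, ← QuotientGroup.mk'_apply, map_commutatorElement]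
      exact commutatorElement_eq_one_iff_mul_comm.2 (mem_center_iff.1 hz.2 (q x)).symm
    rw [mem_bot]
    refine (QuotientGroup.eq_one_iff _).2 ?_
    obtain ⟨k, hk⟩ : ∃ k : Γ, Y.map (MulAut.conj k).toMonoidHom ≠ Y := by
      by_contra hno
      push Not at hno
      haveI : Y.Normal := Cfsg.Lib.Core.normal_iff_map_conj.2 hno
      exact hnle (Cfsg.Lib.Core.le_pCore fun z => ⟨1, Subtype.ext (by rw [pow_one]; exact hYp z z.2)⟩)
    set Yk := Y.map (MulAut.conj k).toMonoidHom with hYk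
    set B := Y ⊓ A with hB
    set B' := Yk ⊓ A with hB'
    have hstep : ∀ g : Γ, Y.map (MulAut.conj g).toMonoidHom ⊓ A ≤ B ⊔ B' →
        Y.map (MulAut.conj g).toMonoidHom ≤ normalizer ((B ⊔ B' : Subgroup Γ) : Set Γ) := by
      intro g hg
      refine Cfsg.Lib.Core.le_normalizer_iff_conj_mem.2 fun y hy x hx => ?_
      have hxA : x ∈ A := (sup_le inf_le_right inf_le_right : B ⊔ B' ≤ A) hx
      refine AsymL.conj_mem_of_commutator hx (hg ⟨?_, ?_⟩)
      · rw [commutatorElement_def, mul_assoc, mul_assoc, ← mul_assoc x]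
        exact mul_mem hy ((mem_normalizer_iff.1 (hAconj g hxA) _).1 (inv_mem hy))
      · exact A.mul_mem (hAn.conj_mem x hxA y) (A.inv_mem hxA)
    haveI : (B ⊔ B').Normal := by
      rw [← normalizer_eq_top_iff, eq_top_iff, ← hjoin k hk]
      refine sup_le ?_ (hstep k le_sup_right)
      have := hstep 1 (by rw [map_conj_one]; exact le_sup_left)
      rwa [map_conj_one] at this
    have hAB : z' ∈ B ⊔ B' := ((hgenA).trans (normalClosure_le_normal (le_sup_left : B ≤ B ⊔ B'))) hzA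
    have hBn : B ≤ normalizer (B' : Set Γ) :=
      le_normalizer_inf (inf_le_right.trans (hAconj k)) (le_normalizer_normal B)
    obtain ⟨b, hb, b', hb', rfl⟩ := (Cfsg.Lib.Core.mem_sup_of_le_normalizer hBn).1 hAB
    -- elements commuting with everything modulo `C` which centralize one of the two conjugates
    have hsolve : ∀ u : Γ, (∀ x, ⁅u, x⁆ ∈ C) → ((∀ y ∈ Y, ⁅u, y⁆ = 1) ∨ ∀ y ∈ Yk, ⁅u, y⁆ = 1) →
        u ∈ center Γ := by
      intro u hu hor
      have hchi : ∀ x y : Γ, ⁅u, x * y⁆ = ⁅u, x⁆ * ⁅u, y⁆ := fun x y => by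
        rw [show ⁅u, x * y⁆ = ⁅u, x⁆ * (x * ⁅u, y⁆ * x⁻¹) by simp [commutatorElement_def, mul_assoc],
          mem_center_iff.1 (hu y).2 x, mul_inv_cancel_right]
      have hinv : ∀ y, ⁅u, k * y * k⁻¹⁆ = ⁅u, y⁆ := fun y => by
        have h1 : ⁅u, k⁆ * ⁅u, k⁻¹⁆ = 1 := by rw [← hchi, mul_inv_cancel, commutatorElement_one_right]
        rw [hchi, hchi, mul_assoc, mem_center_iff.1 (hu k⁻¹).2 ⁅u, y⁆, ← mul_assoc, h1, one_mul]
      have hboth : (∀ y ∈ Y, ⁅u, y⁆ = 1) ∧ ∀ y ∈ Yk, ⁅u, y⁆ = 1 := by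
        rcases hor with h1 | h1
        · refine ⟨h1, ?_⟩
          rintro _ ⟨y, hy, rfl⟩
          exact (hinv y).trans (h1 y hy)
        · exact ⟨fun y hy => (hinv y).symm.trans (h1 _ ⟨y, hy, rfl⟩), h1⟩
      refine mem_center_iff.2 fun x => ?_
      have h3 : (⊤ : Subgroup Γ) ≤ centralizer ({u} : Set Γ) := by
        rw [← hjoin k hk]
        exact sup_le
          (fun y hy => mem_centralizer_singleton_iff.2 (commutatorElement_eq_one_iff_mul_comm.1 (hboth.1 y hy)).symm)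
          fun y hy => mem_centralizer_singleton_iff.2 (commutatorElement_eq_one_iff_mul_comm.1 (hboth.2 y hy)).symm
      exact mem_centralizer_singleton_iff.1 (h3 (mem_top x))
    have hb1 : ∀ y ∈ Y, ⁅b, y⁆ = 1 := fun y hy =>
      commutatorElement_eq_one_iff_mul_comm.2 (mem_centralizer_iff.1 (hYab hy) b hb.1)
    have hb'1 : ∀ y ∈ Yk, ⁅b', y⁆ = 1 := fun y hy =>
      commutatorElement_eq_one_iff_mul_comm.2 (hconjab k b' hb'.1 y hy)
    have hb'C : ∀ x : Γ, ⁅b', x⁆ ∈ C := by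
      let K : Subgroup Γ :=
      { carrier := {x | ⁅b', x⁆ ∈ C}
        one_mem' := by simp
        mul_mem' := fun {x y} hx hy => by
          show ⁅b', x * y⁆ ∈ C
          rw [show ⁅b', x * y⁆ = ⁅b', x⁆ * (x * ⁅b', y⁆ * x⁻¹) by simp [commutatorElement_def, mul_assoc]]
          exact C.mul_mem hx (hCn.conj_mem _ hy x)
        inv_mem' := fun {x} hx => by
          show ⁅b', x⁻¹⁆ ∈ C
          rw [show ⁅b', x⁻¹⁆ = x⁻¹ * ⁅b', x⁆⁻¹ * x⁻¹⁻¹ by simp [commutatorElement_def, mul_assoc]]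
          exact hCn.conj_mem _ (C.inv_mem hx) x⁻¹ }
      have hK : (⊤ : Subgroup Γ) ≤ K := by
        rw [← hjoin k hk]
        refine sup_le (fun y hy => ?_) fun y hy => by
          show ⁅b', y⁆ ∈ C
          rw [hb'1 y hy]; exact one_mem _
        show ⁅b', y⁆ ∈ C
        have h1 : ⁅b * b', y⁆ = b * ⁅b', y⁆ * b⁻¹ * ⁅b, y⁆ := by simp [commutatorElement_def, mul_assoc]
        have h2 := hzc y
        rw [h1, hb1 y hy, mul_one] at h2
        have h3 := hCn.conj_mem _ h2 b⁻¹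
        simpa [mul_assoc] using h3
      exact fun x => hK (mem_top x)
    have hb'c := hsolve b' hb'C (Or.inr hb'1)
    have hbc' : ∀ x : Γ, ⁅b, x⁆ ∈ C := fun x => by
      have h1 : ⁅b * b', x⁆ = ⁅b, x⁆ := by
        rw [show ⁅b * b', x⁆ = b * ⁅b', x⁆ * b⁻¹ * ⁅b, x⁆ by simp [commutatorElement_def, mul_assoc],
          commutatorElement_eq_one_iff_mul_comm.2 (mem_center_iff.1 hb'c x).symm]
        simp
      exact h1 ▸ hzc x
    have hbcen := hsolve b hbc' (Or.inl hb1)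
    have hb'Y : b' ∈ Y := by
      obtain ⟨y, hy, rfl⟩ := hb'.1
      have := mem_center_iff.1 hb'c k⁻¹
      have e : y = (MulAut.conj k).toMonoidHom y := by
        calc y = k⁻¹ * (k * y * k⁻¹) * k := by group
          _ = (k * y * k⁻¹) * k⁻¹ * k := by
            show k⁻¹ * (MulAut.conj k).toMonoidHom y * k = _
            rw [this]
            rfl
          _ = _ := by rw [inv_mul_cancel_right]; rfl
      rwa [← e]
    exact mul_mem (⟨hb.1, hbcen⟩ : b ∈ C) (⟨hb'Y, hb'c⟩ : b' ∈ C)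
  have hYle : Y ≤ (Y.map q).comap q := le_comap_map q Y
  have hext : FrakL.Ext p f (Y.map q) :=
  { surj := fun z => by
      obtain ⟨z, rfl⟩ := QuotientGroup.mk'_surjective A z
      exact ⟨q z, rfl⟩
    kab := hkab
    kp := hkf ▸ (Cfsg.Lib.Core.pCore_isPGroup p Γ).map q
    yab := by
      rintro _ ⟨y, hy, rfl⟩
      refine mem_centralizer_iff.2 ?_
      rintro _ ⟨z, hz, rfl⟩
      rw [← map_mul, ← map_mul, mem_centralizer_iff.1 (hYab hy) z hz]
    ypow := by
      rintro _ ⟨y, hy, rfl⟩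
      rw [← map_pow, hYp y hy, map_one]
    norm := hkf ▸ (map_mono hAY).trans (le_normalizer_map q)
    gen := by
      have h1 : (normalClosure ((Y ⊓ A : Subgroup Γ) : Set Γ)).map q ≤
          normalClosure ((f.ker ⊓ Y.map q : Subgroup (Γ ⧸ C)) : Set (Γ ⧸ C)) := by
        rw [map_normalClosure _ q hqs]
        refine normalClosure_mono ?_
        rintro _ ⟨z, hz, rfl⟩
        exact ⟨hkf ▸ mem_map_of_mem q hz.2, mem_map_of_mem q hz.1⟩
      calc f.ker = A.map q := hkf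
        _ ≤ (normalClosure ((Y ⊓ A : Subgroup Γ) : Set Γ)).map q := map_mono hgenA
        _ ≤ _ := h1
    nle := fun hle => hnle fun y hy => by
      have := hle (mem_map_of_mem q hy)
      rwa [MonoidHom.mem_ker, hfq, ← MonoidHom.mem_ker, hker] at this
    max := fun X hX hXt => by
      have h1 := hmax (X.comap q) (hYle.trans (comap_mono hX)) fun e => hXt (by
        rw [← map_comap_eq_self_of_surjective hqs X, e, map_top_of_surjective _ hqs])
      rw [← map_comap_eq_self_of_surjective hqs X]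
      exact (map_mono h1).trans (le_normalizer_map q)
    cent := hcent
    core := Cfsg.Lib.Core.pCore_quotient_pCore_eq_bot
    facts := hYq ▸ hfacts }
  -- a power of `h` with image of prime order
  obtain ⟨r, hr, hrp, hrdvd⟩ : ∃ r : ℕ, r.Prime ∧ r ≠ p ∧ r ∣ orderOf (π h) := by
    by_contra hno
    push Not at hno
    obtain ⟨k, hk⟩ : ∃ k, orderOf (π h) = p ^ k :=
      ⟨_, Nat.eq_prime_pow_of_unique_prime_dvd (orderOf_pos _).ne' fun {d} hd hdd => by
        by_contra hdp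
        exact hno d hd hdp hdd⟩
    have h1 : h ^ p ^ k ∈ A := by
      rw [← hker, MonoidHom.mem_ker, map_pow, ← hk, pow_orderOf_eq_one]
    obtain ⟨j, hj⟩ := Cfsg.Lib.Core.pCore_isPGroup p Γ ⟨_, h1⟩
    have h2 : orderOf h ∣ p ^ (k + j) := orderOf_dvd_of_pow_eq_one (by
      rw [pow_add, pow_mul]
      exact congrArg Subtype.val hj)
    obtain ⟨i, -, hi⟩ := (Nat.dvd_prime_pow hp).1 h2
    exact hnp ⟨i, hi⟩
  set c := orderOf (π h) / r with hc
  have hord : orderOf (f (q (h ^ c))) = r := by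
    rw [hfq, map_pow]
    exact orderOf_pow_orderOf_div (orderOf_pos _).ne' hrdvd
  have hcomm : Commute (q h) (q a) := by
    refine commutatorElement_eq_one_iff_mul_comm.1 ?_
    rw [← map_commutatorElement]
    exact (QuotientGroup.eq_one_iff _).2 hac
  have hfix := hext.fixed_point_free (h₀ := q (h ^ c)) (v := q a) (hord ▸ hr) (hord ▸ hrp)
    (hkf ▸ mem_map_of_mem q ha) (by rw [map_pow]; exact (hcomm.pow_left c).eq)
  exact (QuotientGroup.eq_one_iff a).1 hfix

/-- Standing hypotheses: G a finite group, S a Sylow p-subgroup, Q a nontrivial large p-subgroup of G contained in S, M a subgroup containing S with the basic property (M ∈ 𝔐_G(S)); Y_M the largest p-reduced normal subgroup of M and M† = M·C_G(Y_M). Let L ∈ 𝔏_G(Y_M) (L ∈ 𝔏_G(Y_M): Y_M ≤ L; O_p(L) is the normal closure in L of Y_M ∩ O_p(L) and normalizes Y_M; L is Y_M-minimal of characteristic p with N_L(Y_M) its unique maximal subgroup over Y_M; and L/O_p(L) ≅ SL₂(q) with q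 = |Y_M : Y_M ∩ O_p(L)|, or p = 2 and L/O_p(L) is a Suzuki group Sz(q) or dihedral of order 2r, r an odd prime), A = O_p(L), and C = C_{Y_M}(L). Then every element h of L whose order is not a power of p acts without nontrivial fixed points on A/C: for a ∈ A, hah⁻¹a⁻¹ ∈ C implies a ∈ C. -/
theorem result {G : Type*} [Group G] [Finite G] {p : ℕ} [Fact p.Prime] (S : Sylow p G) (Q : Subgroup G) (hQp : IsPGroup p ↥Q) (hQ1 : Q ≠ ⊥) (hQS : Q ≤ (S : Subgroup G)) (hQ : Cfsg.IsLarge Q) (M : Subgroup G) (hSM : (S : Subgroup G) ≤ M) (hM : Cfsg.IsInFrakM p M) (L : Subgroup G) (hL : Cfsg.IsInFrakL p M L) (h : G) (hh : h ∈ L) (hnp : ¬ ∃ k : ℕ, orderOf h = p ^ k) : ∀ a ∈ (Cfsg.pCoreOf p L), h * a * h⁻¹ * a⁻¹ ∈ (Cfsg.largestPReducedOf p M) ⊓ Subgroup.centralizer ((L : Subgroup G) : Set G) → a ∈ (Cfsg.largestPReducedOf p M) ⊓ Subgroup.centralizer ((L : Subgroup G) : Set G) := by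
  classical
  obtain ⟨hYL, hAcl, hAN, ⟨hncl, -⟩, -, ⟨hlt, hmax⟩, hcases⟩ := hL
  obtain ⟨Y, hY⟩ : ∃ Y : Subgroup G, Cfsg.largestPReducedOf p M = Y := ⟨_, rfl⟩
  have hYel : IsElementaryAbelian p Y := hY ▸ largestPReducedOf_isElementaryAbelian M
  rw [hY] at hYL hAcl hAN hncl hlt hmax hcases ⊢
  have hp : p.Prime := Fact.out
  set A := Cfsg.pCore p ↥L with hA
  have hAL : (Cfsg.pCoreOf p L).subgroupOf L = A := pCoreOf_subgroupOf L
  set Y₀ := Y.subgroupOf L with hY₀
  have hYab : Y₀ ≤ centralizer (Y₀ : Set ↥L) := fun u hu => mem_centralizer_iff.2 fun w hw =>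
    Subtype.ext (congrArg Subtype.val (hYel.1.1.1 ⟨(w : G), hw⟩ ⟨(u : G), hu⟩) :)
  have hYp : ∀ y ∈ Y₀, y ^ p = 1 := fun y hy => Subtype.ext (hYel.2 _ hy)
  have hAY : A ≤ normalizer (Y₀ : Set ↥L) := by
    intro z hz
    have h1 : (z : G) ∈ normalizer (Y : Set G) := hAN ⟨z, hz, rfl⟩
    exact mem_normalizer_iff.2 fun w => mem_normalizer_iff.1 h1 w
  have hAgen : A = normalClosure ((Y₀ ⊓ A : Subgroup ↥L) : Set ↥L) := by
    have h1 : (Y ⊓ Cfsg.pCoreOf p L).subgroupOf L = Y₀ ⊓ A := by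
      rw [← hAL]
      rfl
    rw [← h1]
    conv_lhs => rw [← hAL, hAcl]
    exact comap_map_eq_self_of_injective L.subtype_injective _
  have hnle : ¬ Y₀ ≤ A := by
    intro hle
    have htop : A = ⊤ := top_le_iff.1 (hncl ▸ Subgroup.normalClosure_le_normal hle)
    refine hlt.ne (le_antisymm inf_le_left fun x hx => ⟨hx, hAN ⟨⟨x, hx⟩, ?_, rfl⟩⟩)
    show (⟨x, hx⟩ : ↥L) ∈ A
    rw [htop]
    trivial
  have hmax₀ : ∀ X : Subgroup ↥L, Y₀ ≤ X → X ≠ ⊤ → X ≤ normalizer (Y₀ : Set ↥L) := by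
    intro X hX hne z hz
    have h1 : X.map L.subtype < L := lt_of_le_of_ne (map_subtype_le _) fun e => hne
      (map_injective L.subtype_injective (by rw [e, ← MonoidHom.range_eq_map, range_subtype]))
    have h2 := (hmax (X.map L.subtype) (fun y hy => ⟨⟨y, hYL hy⟩, hX hy, rfl⟩) h1 ⟨z, hz, rfl⟩).2
    exact mem_normalizer_iff.2 fun w => mem_normalizer_iff.1 h2 w
  set Ybar := Y₀.map (QuotientGroup.mk' A) with hYbar
  have hYbel : IsElementaryAbelian p Ybar := by
    refine elementaryAbelian_map _ ⟨⟨⟨fun u w => ?_⟩⟩, hYp⟩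
    exact Subtype.ext (mem_centralizer_iff.1 (hYab w.2) u.1 u.2)
  have hYb1 : Ybar ≠ ⊥ := fun e => hnle (by
    rwa [hYbar, Subgroup.map_eq_bot_iff, QuotientGroup.ker_mk'] at e)
  have hcardY : Nat.card Ybar = (Y ⊓ Cfsg.pCoreOf p L).relIndex Y := by
    obtain ⟨g, hg⟩ : ∃ g : ↥Y →* ↥L ⧸ A,
        g = (QuotientGroup.mk' A).comp (Subgroup.inclusion hYL) := ⟨_, rfl⟩
    have h1 : g.range = Ybar := by
      rw [hYbar, hg]
      ext z
      constructor
      · rintro ⟨y, rfl⟩; exact ⟨_, y.2, rfl⟩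
      · rintro ⟨x, hx, rfl⟩; exact ⟨⟨x.1, hx⟩, rfl⟩
    have h2 : g.ker = (Y ⊓ Cfsg.pCoreOf p L).subgroupOf Y := by
      ext y
      rw [hg, MonoidHom.mem_ker, MonoidHom.comp_apply, QuotientGroup.mk'_apply, QuotientGroup.eq_one_iff,
        Subgroup.mem_subgroupOf]
      exact ⟨fun h => ⟨y.2, _, h, rfl⟩,
        fun ⟨_, y', hy', e⟩ => by rwa [show Subgroup.inclusion hYL y = y' from Subtype.ext e.symm]⟩
    rw [Subgroup.relIndex, ← h2, Subgroup.index_ker, h1]
  have hfacts : FrakL.Facts p Ybar := by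
    have two : p = 2 → UniqueInvol (↥L ⧸ A) → FrakL.Facts p Ybar := by
      rintro rfl hU
      -- two generating involutions
      obtain ⟨y, hy, hy1⟩ := (Subgroup.bot_or_exists_ne_one Ybar).resolve_left hYb1
      obtain ⟨g, hg⟩ : ∃ g : ↥L, Ybar.map (MulAut.conj (QuotientGroup.mk' A g)).toMonoidHom ≠ Ybar := by
        by_contra hno
        push Not at hno
        haveI : Ybar.Normal := Cfsg.Lib.Core.normal_iff_map_conj.2 fun z => by
          obtain ⟨z, rfl⟩ := QuotientGroup.mk'_surjective A z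
          exact hno z
        have h3 : Ybar ≤ Cfsg.pCore 2 (↥L ⧸ A) := Cfsg.Lib.Core.le_pCore fun z =>
          ⟨1, Subtype.ext (by rw [pow_one]; exact hYbel.2 z z.2)⟩
        exact hYb1 (le_bot_iff.1 (h3.trans Cfsg.Lib.Core.pCore_quotient_pCore_eq_bot.le))
      refine FrakL.facts_of_two_involutions hU Ybar hYbel hYb1 (g := QuotientGroup.mk' A g) ?_
      set Y₁ := Ybar.map (MulAut.conj (QuotientGroup.mk' A g)).toMonoidHom with hY₁
      by_contra hne
      refine hg ?_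
      have h1 := hmax₀ ((Ybar ⊔ Y₁).comap (QuotientGroup.mk' A))
        ((le_comap_map _ _).trans (comap_mono le_sup_left)) fun e => hne (by
          rw [← map_comap_eq_self_of_surjective (QuotientGroup.mk'_surjective A) (Ybar ⊔ Y₁), e,
            map_top_of_surjective _ (QuotientGroup.mk'_surjective A)])
      have h2 : Y₁ ≤ normalizer (Ybar : Set (↥L ⧸ A)) := by
        refine (le_sup_right : Y₁ ≤ Ybar ⊔ Y₁).trans ?_
        rw [← map_comap_eq_self_of_surjective (QuotientGroup.mk'_surjective A) (Ybar ⊔ Y₁)]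
        exact (map_mono h1).trans (le_normalizer_map _)
      have hsq : ∀ u ∈ Ybar, u * u = 1 := fun u hu => by rw [← pow_two]; exact hYbel.2 u hu
      have honly : ∀ u ∈ Ybar, u = 1 ∨ u = y := fun u hu => or_iff_not_imp_left.2 fun hu1 =>
        hU u y (hsq u hu) (hsq y hy) (congrArg Subtype.val (hYbel.1.1.1 ⟨u, hu⟩ ⟨y, hy⟩)) hu1 hy1
      refine eq_of_le_of_card_ge (fun z hz => ?_) (card_map_of_injective (MulAut.conj _).injective).ge
      by_cases hz1 : z = 1
      · rw [hz1]; exact one_mem _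
      have hz2 : z * z = 1 := by
        obtain ⟨u, hu, rfl⟩ := hz
        rw [← map_mul, hsq u hu, map_one]
      rcases honly _ ((mem_normalizer_iff.1 (h2 hz) y).1 hy) with h3 | h3
      · exact absurd (by rwa [mul_inv_eq_one, mul_eq_left] at h3) hy1
      · rw [hU z y hz2 (hsq y hy) (mul_inv_eq_iff_eq_mul.1 h3) hz1 hy1]
        exact hy
    rcases hcases with ⟨F, iF, iT, hq, ⟨e⟩⟩ | ⟨rfl, F, iF, iT, m, hF, hq, ⟨e⟩⟩ | ⟨rfl, r, hr, hr2, ⟨e⟩⟩
    · have hcF : CharP F p := by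
        obtain ⟨p', hp'⟩ := CharP.exists F
        obtain ⟨n, hn', hcn⟩ := FiniteField.card F p'
        have hYp' : IsPGroup p ↥Ybar := fun g => ⟨1, Subtype.ext (by rw [pow_one]; exact hYbel.2 g.1 g.2)⟩
        obtain ⟨k, hk⟩ := hYp'.exists_card_eq
        have hd : p' ∣ p ^ k := by
          rw [← hk, hcardY, ← hq, hcn]; exact dvd_pow_self _ n.pos.ne'
        rwa [(Nat.prime_dvd_prime_iff_eq hn' hp).1 (hn'.dvd_of_dvd_pow hd)] at hp'
      refine FrakL.facts_of_equiv e _ (FrakL.facts_sl_two p _ (elementaryAbelian_map _ hYbel) ?_)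
      rw [hq, ← hcardY]
      exact card_map_of_injective e.injective
    · rcases Nat.eq_zero_or_pos m with rfl | hm
      · exact two rfl (uniqueInvol_of_equiv e (SzTwo.uniqueInvol (by simpa using hF)))
      · have h' : Cfsg.Lib.Linear.Suz.Params F m := ⟨hm, hF⟩
        obtain ⟨eS, -⟩ := Cfsg.Lib.Linear.Suz.exists_lie_equiv h'
        refine FrakL.facts_of_equiv (e.trans eS.symm) _
          (FrakL.facts_suzuki h' _ (elementaryAbelian_map _ hYbel) ?_)
        rw [hq, ← hcardY]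
        exact card_map_of_injective (e.trans eS.symm).injective
    · exact two rfl (uniqueInvol_of_equiv e (uniqueInvol_dihedral hr hr2))
  -- the translation
  intro a ha hac
  have haL : a ∈ L := map_subtype_le _ ha
  have haA : (⟨a, haL⟩ : ↥L) ∈ A := by
    rw [← hAL]
    exact ha
  have htr : ∀ z : ↥L, (z : G) ∈ Y ⊓ centralizer (L : Set G) ↔ z ∈ Y₀ ⊓ center ↥L := fun z =>
    ⟨fun hz => ⟨hz.1, mem_center_iff.2 fun w => Subtype.ext (mem_centralizer_iff.1 hz.2 _ w.2)⟩,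
      fun hz => ⟨hz.1, mem_centralizer_iff.2 fun w hw =>
        congrArg Subtype.val (mem_center_iff.1 hz.2 ⟨w, hw⟩)⟩⟩
  have hkey := fixed_point_free (p := p) Y₀ hYab hYp hAgen hAY hnle hmax₀ hfacts (h := (⟨h, hh⟩ : ↥L))
    (by rwa [Subgroup.orderOf_mk]) (a := (⟨a, haL⟩ : ↥L)) haA ((htr _).1 hac)
  exact (htr _).2 hkey

end Cfsg.Agent.S2863
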