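import Cfsg.Statements.S2864
import Cfsg.Agent.Lib.Local.WeaklyClosed
import Cfsg.Agent.Lib.Local.PReduced
import Cfsg.Agent.Lib.Coprime.Action
-- import your own Cfsg.Agent.* helpers here

set_option autoImplicit false
open Cfsg

namespace Cfsg.Agent.S2864
open scoped commutatorElement

/-- Standing hypotheses: G a finite group, S a Sylow p-subgroup, Q a nontrivial large p-subgroup of G contained in S, M a subgroup containing S with the basic property (M ∈ 𝔐_G(S)); Y_M the largest p-reduced normal subgroup of M and M† = M·C_G(Y_M). Let I be a nontrivial normal p-subgroup of M and Y ≤ O_p(M†); let L be a subgroup of G containing Y and A a normal p-subgroup of L with I ≤ A ≤ M. If [Y, A] ≤ [I, A], then Y ≤ O_p(L). -/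
theorem result {G : Type*} [Group G] [Finite G] {p : ℕ} [Fact p.Prime] (S : Sylow p G) (Q : Subgroup G) (hQp : IsPGroup p ↥Q) (hQ1 : Q ≠ ⊥) (hQS : Q ≤ (S : Subgroup G)) (hQ : Cfsg.IsLarge Q) (M : Subgroup G) (hSM : (S : Subgroup G) ≤ M) (hM : Cfsg.IsInFrakM p M) (I : Subgroup G) (hI1 : I ≠ ⊥) (hIp : IsPGroup p ↥I) (hIM : I ≤ M ∧ M ≤ Subgroup.normalizer ((I : Subgroup G) : Set G)) (Y : Subgroup G) (hY : Y ≤ (Cfsg.pCoreOf p (M ⊔ Subgroup.centralizer (((Cfsg.largestPReducedOf p M) : Subgroup G) : Set G)))) (L : Subgroup G) (hYL : Y ≤ L) (A : Subgroup G) (hAp : IsPGroup p ↥A) (hAL : A ≤ L ∧ L ≤ Subgroup.normalizer ((A : Subgroup G) : Set G)) (hIA : I ≤ A) (hAM : A ≤ M) (hc : ⁅Y, A⁆ ≤ ⁅I, A⁆) : Y ≤ (Cfsg.pCoreOf p L) := by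
  classical
  set Y₀ := Cfsg.largestPReducedOf p M with hY₀
  set Md := M ⊔ Subgroup.centralizer (Y₀ : Set G) with hMd
  obtain ⟨hIM1, hIM2⟩ := hIM
  obtain ⟨hAL1, hAL2⟩ := hAL
  obtain ⟨-, -, huniq, -, -, -⟩ := hM
  -- the centralizer of `A` lies in `M†`
  have hNI : Subgroup.normalizer (I : Set G) ≤ Md := by
    set N := Subgroup.normalizer (I : Set G) with hN
    have hI : I ≤ Cfsg.pCoreOf p N :=
      Cfsg.Lib.Local.le_pCoreOf Subgroup.le_normalizer le_rfl hIp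
    have hne : Cfsg.pCoreOf p N ≠ ⊥ := fun h => hI1 (le_bot_iff.1 (h ▸ hI))
    have hpar : Cfsg.IsParabolic p N := ⟨S, hSM.trans hIM2⟩
    have hchar : N ∈ Cfsg.charPSubgroups p G :=
      ⟨fun h => hne (by rw [Cfsg.pCoreOf, h, Subgroup.map_bot]),
        Cfsg.Lib.Local.centralizer_le_of_isParabolic hQp hQ1 hQ hpar hne⟩
    obtain ⟨X, hNX, hX⟩ := (Set.toFinite (Cfsg.charPSubgroups p G)).exists_le_maximal hchar
    have := huniq X ⟨hX.1, fun L' hL' hle => le_antisymm (hX.2 hL' hle) hle⟩ (hIM2.trans hNX)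
    exact hNX.trans this.le
  set C := L ⊓ Subgroup.centralizer (A : Set G) with hC
  have hCM : C ≤ Md := inf_le_right.trans
    ((Subgroup.centralizer_le hIA).trans ((Subgroup.centralizer_le_normalizer _).trans hNI))
  -- the kernel of the action on the Frattini quotient of `A`
  set K := (frattini A).map A.subtype with hK
  have hLK : L ≤ Subgroup.normalizer (K : Set G) :=
    hAL2.trans (Cfsg.Lib.Core.normalizer_le_normalizer_map_char _)
  have hcL : ∀ l ∈ L, ∀ x ∈ K, l * x * l⁻¹ ∈ K := fun l hl x hx =>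
    (Subgroup.mem_normalizer_iff.1 (hLK hl) x).1 hx
  have hcA : ∀ l ∈ L, ∀ x ∈ A, l * x * l⁻¹ ∈ A := fun l hl x hx =>
    (Subgroup.mem_normalizer_iff.1 (hAL2 hl) x).1 hx
  let D : Subgroup G :=
    { carrier := {l | l ∈ L ∧ ∀ a ∈ A, ⁅a, l⁆ ∈ K}
      one_mem' := ⟨L.one_mem, fun a _ => by simp⟩
      mul_mem' := fun {l m} hl hm => ⟨L.mul_mem hl.1 hm.1, fun a ha => by
        rw [show ⁅a, l * m⁆ = ⁅a, l⁆ * (l * ⁅a, m⁆ * l⁻¹) by
          simp only [commutatorElement_def]; group]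
        exact K.mul_mem (hl.2 a ha) (hcL l hl.1 _ (hm.2 a ha))⟩
      inv_mem' := fun {l} hl => ⟨L.inv_mem hl.1, fun a ha => by
        rw [show ⁅a, l⁻¹⁆ = l⁻¹ * ⁅a, l⁆⁻¹ * l⁻¹⁻¹ by simp only [commutatorElement_def]; group]
        exact hcL _ (L.inv_mem hl.1) _ (K.inv_mem (hl.2 a ha))⟩ }
  have hDL : D ≤ L := fun l hl => hl.1
  have hLD : L ≤ Subgroup.normalizer (D : Set G) :=
    Cfsg.Lib.Core.le_normalizer_iff_conj_mem.mpr fun g hg d hd =>
      ⟨L.mul_mem (L.mul_mem hg hd.1) (L.inv_mem hg), fun a ha => by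
        rw [show ⁅a, g * d * g⁻¹⁆ = g * ⁅g⁻¹ * a * g⁻¹⁻¹, d⁆ * g⁻¹ by
          simp only [commutatorElement_def]; group]
        exact hcL g hg _ (hd.2 _ (hcA _ (L.inv_mem hg) a ha))⟩
  have hYp : IsPGroup p Y := (Cfsg.Lib.Local.pCoreOf_isPGroup _).to_le hY
  have hYD : Y ≤ D := fun y hy => ⟨hYL hy, fun a ha => by
    have h1 : ⁅a, y⁆ ∈ ⁅Y, A⁆ := by
      rw [Subgroup.commutator_comm]
      exact Subgroup.commutator_mem_commutator ha hy
    have h2 : ⁅A, A⁆ ≤ K := by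
      rw [← Subgroup.map_subtype_commutator]
      exact Subgroup.map_mono (Cfsg.Lib.PGroup.commutator_le_frattini hAp)
    exact h2 ((hc.trans (Subgroup.commutator_mono hIA le_rfl)) h1)⟩
  have hCD : C ≤ D := fun c hc => ⟨hc.1, fun a ha => by
    rw [commutatorElement_eq_one_iff_mul_comm.mpr (Subgroup.mem_centralizer_iff.1 hc.2 a ha)]
    exact K.one_mem⟩
  have hLC : L ≤ Subgroup.normalizer (C : Set G) :=
    Cfsg.Lib.Core.le_normalizer_iff_conj_mem.mpr fun g hg c hc =>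
      ⟨L.mul_mem (L.mul_mem hg hc.1) (L.inv_mem hg),
        (Subgroup.mem_normalizer_iff.1
          (Cfsg.Lib.Local.normalizer_le_normalizer_centralizer A (hAL2 hg)) c).1 hc.2⟩
  obtain ⟨P, hP⟩ := (hYp.comap_of_injective D.subtype D.subtype_injective).exists_le_sylow
  haveI hCn : (C.subgroupOf D).Normal :=
    Subgroup.normal_subgroupOf_of_le_normalizer (hDL.trans hLC)
  have hsup : (P : Subgroup D) ⊔ C.subgroupOf D = ⊤ := by
    rw [← Subgroup.index_eq_one]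
    by_contra h1
    obtain ⟨q, hq, hqd⟩ := Nat.exists_prime_and_dvd h1
    haveI : Fact q.Prime := ⟨hq⟩
    by_cases hqp : q = p
    · subst hqp
      exact P.not_dvd_index (hqd.trans (Subgroup.index_dvd_of_le le_sup_left))
    obtain ⟨Sq⟩ : Nonempty (Sylow q D) := inferInstance
    refine Sq.not_dvd_index (hqd.trans (Subgroup.index_dvd_of_le (le_trans ?_ le_sup_right)))
    intro x hx
    refine ⟨hDL x.2, ?_⟩
    haveI : Group.IsNilpotent A := hAp.isNilpotent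
    have hZD : Subgroup.zpowers (x : G) ≤ D := Subgroup.zpowers_le.2 x.2
    refine Cfsg.Lib.Coprime.le_centralizer_of_commutator_le_frattini (A := Subgroup.zpowers (x : G))
      ((hZD.trans hDL).trans hAL2) ?_ (Or.inr inferInstance)
      (Subgroup.commutator_le.2 fun a ha z hz => (hZD hz).2 a ha) (Subgroup.mem_zpowers _)
    obtain ⟨k, hk⟩ := Sq.isPGroup' ⟨x, hx⟩
    obtain ⟨m, hm⟩ := hAp.exists_card_eq
    rw [Nat.card_zpowers, hm]
    refine Nat.Coprime.coprime_dvd_left (orderOf_dvd_of_pow_eq_one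
      (congrArg (fun t : Sq => ((t : D) : G)) hk)) ?_
    exact Nat.Coprime.pow _ _ ((Nat.coprime_primes hq Fact.out).2 hqp)
  -- commutators of `C` with `Y` lie in the core
  have hcomm : ∀ c ∈ C, ∀ y ∈ Y, c * y * c⁻¹ * y⁻¹ ∈ Cfsg.pCoreOf p D := by
    intro c hc y hy
    have h1 : c * y * c⁻¹ * y⁻¹ ∈ C := by
      rw [mul_assoc c y, mul_assoc c]
      exact C.mul_mem hc ((Subgroup.mem_normalizer_iff.1 (hLC (hYL hy)) _).1 (C.inv_mem hc))
    have h2 : c * y * c⁻¹ * y⁻¹ ∈ Cfsg.pCoreOf p Md :=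
      Subgroup.mul_mem _ ((Subgroup.mem_normalizer_iff.1
        (Cfsg.Lib.Local.le_normalizer_pCoreOf _ (hCM hc)) y).1 (hY hy))
        (Subgroup.inv_mem _ (hY hy))
    have h3 : C ⊓ Cfsg.pCoreOf p Md ≤ Cfsg.pCoreOf p C := by
      refine Cfsg.Lib.Local.le_pCoreOf inf_le_left ?_
        ((Cfsg.Lib.Local.pCoreOf_isPGroup _).to_le inf_le_right)
      refine Cfsg.Lib.Core.le_normalizer_iff_conj_mem.mpr fun g hg w hw => ⟨?_, ?_⟩
      · exact C.mul_mem (C.mul_mem hg hw.1) (C.inv_mem hg)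
      · exact (Subgroup.mem_normalizer_iff.1
          (Cfsg.Lib.Local.le_normalizer_pCoreOf _ (hCM hg)) w).1 hw.2
    refine Cfsg.Lib.Local.le_pCoreOf ((Cfsg.Lib.Local.pCoreOf_le C).trans hCD) ?_
      (Cfsg.Lib.Local.pCoreOf_isPGroup C) (h3 ⟨h1, h2⟩)
    exact (hDL.trans hLC).trans (Cfsg.Lib.Local.normalizer_le_normalizer_pCoreOf C)
  have hncl : Subgroup.normalClosure ((Y.subgroupOf D : Subgroup D) : Set D) ≤ (P : Subgroup D) := by
    rw [Subgroup.normalClosure, Subgroup.closure_le]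
    intro x hx
    obtain ⟨y, hy, hxy⟩ := Group.mem_conjugatesOfSet_iff.1 hx
    obtain ⟨d, rfl⟩ := isConj_iff.1 hxy
    obtain ⟨s, hs, c, hc, rfl⟩ := Subgroup.mem_sup_of_normal_right.1
      (hsup.ge (Subgroup.mem_top d) : d ∈ (P : Subgroup D) ⊔ C.subgroupOf D)
    have hk : c * y * c⁻¹ * y⁻¹ ∈ (P : Subgroup D) := by
      refine Cfsg.Lib.Core.pCore_le_sylow P ?_
      rw [← Cfsg.Lib.Local.pCoreOf_subgroupOf]
      exact hcomm c hc y hy
    have hyP : y ∈ (P : Subgroup D) := hP hy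
    show s * c * y * (s * c)⁻¹ ∈ (P : Subgroup D)
    rw [show s * c * y * (s * c)⁻¹ = s * (c * y * c⁻¹ * y⁻¹ * y) * s⁻¹ by group]
    exact Subgroup.mul_mem _ (Subgroup.mul_mem _ hs (Subgroup.mul_mem _ hk hyP))
      (Subgroup.inv_mem _ hs)
  have hYcore : Y ≤ Cfsg.pCoreOf p D := by
    intro y hy
    exact ⟨⟨y, hYD hy⟩, Cfsg.Lib.Core.le_pCore' Subgroup.normalClosure_normal
      (P.isPGroup'.to_le hncl) (Subgroup.subset_normalClosure (show _ ∈ Y.subgroupOf D from hy)), rfl⟩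
  exact hYcore.trans (Cfsg.Lib.Local.le_pCoreOf ((Cfsg.Lib.Local.pCoreOf_le D).trans hDL)
    (hLD.trans (Cfsg.Lib.Local.normalizer_le_normalizer_pCoreOf D))
    (Cfsg.Lib.Local.pCoreOf_isPGroup D))

end Cfsg.Agent.S2864
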