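import Cfsg.Statements.S2873
import Cfsg.Agent.Lib.Core.Cores
-- import your own Cfsg.Agent.* helpers here

set_option autoImplicit false
open Cfsg

namespace Cfsg.Agent.S2873

/-- Let G be a finite group and r an odd prime such that G ⧸ O₂(G) is dihedral of order 2r, and let R be a Sylow r-subgroup of G with C_{O₂(G)}(R) = 1. Then N_G(R) is dihedral of order 2r; for any involution a of N_G(R), every involution of G outside O₂(G) is conjugate to a; and |C_{O₂(G)}(a)|² = |O₂(G)|. -/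
theorem result {G : Type*} [Group G] [Finite G] {r : ℕ} [Fact r.Prime] (hr : r ≠ 2) [hN : (Cfsg.pCore 2 G).Normal] (hquot : Nonempty (G ⧸ Cfsg.pCore 2 G ≃* DihedralGroup r)) (R : Sylow r G) (hC : Cfsg.pCore 2 G ⊓ Subgroup.centralizer ((R : Subgroup G) : Set G) = ⊥) : Nonempty (↥(Subgroup.normalizer ((R : Subgroup G) : Set G)) ≃* DihedralGroup r) ∧ ∀ a : G, a ∈ Subgroup.normalizer ((R : Subgroup G) : Set G) → orderOf a = 2 → (∀ b : G, orderOf b = 2 → b ∉ Cfsg.pCore 2 G → ∃ g : G, g * a * g⁻¹ = b) ∧ Nat.card ↥(Cfsg.pCore 2 G ⊓ Subgroup.centralizer ({a} : Set G)) ^ 2 = Nat.card ↥(Cfsg.pCore 2 G) := by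
  classical
  obtain ⟨e⟩ := hquot
  set Q := Cfsg.pCore 2 G with hQdef
  set f := QuotientGroup.mk' Q
  have hf : Function.Surjective f := QuotientGroup.mk'_surjective Q
  have hrp : r.Prime := Fact.out
  have hrodd : Odd r := hrp.odd_of_ne_two hr
  have hidx : Q.index = 2 * r := by
    rw [Subgroup.index]
    rw [Nat.card_congr e.toEquiv, DihedralGroup.nat_card]
  haveI : Fact (Nat.Prime 2) := ⟨Nat.prime_two⟩
  obtain ⟨n, hn⟩ := IsPGroup.iff_card.mp (Lib.Core.pCore_isPGroup 2 G)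
  have hG : Nat.card G = 2 ^ n * (2 * r) := by rw [← hn, ← hidx, Q.card_mul_index]
  -- the Sylow `r`-subgroup has order `r`
  have hcop2 : Nat.Coprime r 2 := (Nat.coprime_primes hrp Nat.prime_two).mpr hr
  have hRc : Nat.card ↥(R : Subgroup G) = r := by
    obtain ⟨k, hk⟩ := IsPGroup.iff_card.mp R.2
    rw [R.card_eq_multiplicity, hG]
    have : (2 ^ n * (2 * r)).factorization r = 1 := by
      rw [Nat.factorization_mul (by positivity) (Nat.mul_ne_zero (by norm_num) hrp.ne_zero),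
        Nat.factorization_mul (by norm_num) hrp.ne_zero, Nat.Prime.factorization_pow Nat.prime_two,
        Nat.Prime.factorization Nat.prime_two, hrp.factorization]
      simp [Finsupp.single_apply, Ne.symm hr]
    rw [this, pow_one]
  have hRQ : (R : Subgroup G) ⊓ Q = ⊥ := Subgroup.inf_eq_bot_of_coprime (by
    rw [hRc, hn]; exact hcop2.pow_right n)
  haveI hcyc : IsCyclic ↥(R : Subgroup G) := isCyclic_of_prime_card (p := r) hRc
  obtain ⟨⟨ρ, hρR⟩, hgen⟩ := hcyc.exists_generator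
  have hgen' : ∀ x ∈ (R : Subgroup G), ∃ i : ℤ, ρ ^ i = x := fun x hx => by
    obtain ⟨i, hi⟩ := hgen ⟨x, hx⟩
    exact ⟨i, congrArg Subtype.val hi⟩
  have hρ1 : ρ ≠ 1 := by
    rintro rfl
    have : (R : Subgroup G) = ⊥ := by
      rw [eq_bot_iff]
      intro x hx
      obtain ⟨i, rfl⟩ := hgen' x hx
      simp
    rw [this, Subgroup.card_bot] at hRc
    exact hrp.ne_one hRc.symm
  have hρr : orderOf ρ = r := by
    have h1 : orderOf ρ ∣ r := hRc ▸ Subgroup.orderOf_dvd_natCard _ hρR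
    exact ((Nat.dvd_prime hrp).mp h1).resolve_left (fun h => hρ1 (orderOf_eq_one_iff.mp h))
  have hCρ : ∀ q ∈ Q, q * ρ = ρ * q → q = 1 := by
    intro q hq hc
    refine Subgroup.mem_bot.mp (hC ▸ (⟨hq, fun x hx => ?_⟩ :
      q ∈ Q ⊓ Subgroup.centralizer ((R : Subgroup G) : Set G)))
    obtain ⟨i, rfl⟩ := hgen' x hx
    exact ((show Commute q ρ from hc).zpow_right i).eq.symm
  have hQmem : ∀ (g : G) {q : G}, q ∈ Q → g * q * g⁻¹ ∈ Q := fun g {q} hq => hN.conj_mem q hq g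
  -- the normalizer of `R` is a complement to `Q`
  set N := Subgroup.normalizer ((R : Subgroup G) : Set G)
  have hNQ : ∀ x ∈ N, x ∈ Q → x = 1 := by
    intro x hx hxQ
    refine hCρ x hxQ ?_
    have h1 : x * ρ * x⁻¹ * ρ⁻¹ ∈ (R : Subgroup G) ⊓ Q := by
      refine ⟨(R : Subgroup G).mul_mem ((Subgroup.mem_normalizer_iff.mp hx ρ).mp hρR)
        ((R : Subgroup G).inv_mem hρR), ?_⟩
      rw [show x * ρ * x⁻¹ * ρ⁻¹ = x * (ρ * x⁻¹ * ρ⁻¹) by group]
      exact Q.mul_mem hxQ (hQmem ρ (Q.inv_mem hxQ))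
    rw [hRQ, Subgroup.mem_bot, mul_inv_eq_one, mul_inv_eq_iff_eq_mul] at h1
    exact h1
  have htop : N ⊔ Q = ⊤ := by
    set K := (R : Subgroup G) ⊔ Q
    have h1 := Lib.Core.card_mul_relIndex (inf_le_left : (R : Subgroup G) ⊓ Q ≤ R)
    rw [Subgroup.inf_relIndex_left, hRQ, Subgroup.card_bot, one_mul, hRc] at h1
    have h2 := Lib.Core.card_mul_relIndex (le_sup_right : Q ≤ K)
    rw [Subgroup.relIndex_sup_right, h1, hn] at h2
    have hK : K.index = 2 := by
      have h3 := K.card_mul_index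
      rw [← h2, hG] at h3
      have hpos : 0 < 2 ^ n * r := Nat.mul_pos (by positivity) hrp.pos
      refine Nat.eq_of_mul_eq_mul_left hpos ?_
      rw [h3]; ring
    haveI : K.Normal := Subgroup.normal_of_index_eq_two hK
    have h4 := Sylow.normalizer_sup_eq_top' (N := K) R le_sup_left
    refine top_le_iff.mp (h4.ge.trans (sup_le le_sup_left (sup_le ?_ le_sup_right)))
    exact Subgroup.le_normalizer.trans le_sup_left
  have hφ : Function.Bijective (f.comp N.subtype) := by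
    refine ⟨(MonoidHom.ker_eq_bot_iff _).mp ?_, ?_⟩
    · rw [eq_bot_iff]
      intro x hx
      exact Subtype.ext (hNQ x x.2 ((QuotientGroup.eq_one_iff _).mp hx))
    · intro c
      obtain ⟨g, rfl⟩ := hf c
      obtain ⟨x, hx, q, hq, rfl⟩ := Subgroup.mem_sup_of_normal_right.mp (htop ▸ Subgroup.mem_top g :
        g ∈ N ⊔ Q)
      refine ⟨⟨x, hx⟩, ?_⟩
      show f x = f (x * q)
      rw [map_mul, show f q = 1 from (QuotientGroup.eq_one_iff q).mpr hq, mul_one]
  let eN : ↥N ≃* DihedralGroup r := (MulEquiv.ofBijective _ hφ).trans e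
  refine ⟨⟨eN⟩, fun a haN ha => ?_⟩
  have ha2 : a * a = 1 := by rw [← sq, ← ha]; exact pow_orderOf_eq_one a
  have hainv : a⁻¹ = a := inv_eq_of_mul_eq_one_right ha2
  -- involutions of `D_r` are reflections
  have hrefl : ∀ d : DihedralGroup r, d * d = 1 → d ≠ 1 → ∃ i, d = DihedralGroup.sr i := by
    rintro (i | i) h1 h2
    · exfalso
      apply h2
      rw [DihedralGroup.r_mul_r, DihedralGroup.one_def] at h1
      have h3 : (2 : ZMod r) * i = 0 := by rw [two_mul]; exact DihedralGroup.r.inj h1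
      have h4 : (2 : ZMod r) ≠ 0 := by
        intro h0
        have : ((2 : ℕ) : ZMod r) = 0 := by exact_mod_cast h0
        rw [ZMod.natCast_eq_zero_iff] at this
        exact hr ((Nat.prime_dvd_prime_iff_eq hrp Nat.prime_two).mp this)
      rw [(mul_eq_zero.mp h3).resolve_left h4]
      exact DihedralGroup.one_def.symm
    · exact ⟨i, rfl⟩
  have hρN : ρ ∈ N := Subgroup.le_normalizer hρR
  have hinv : a * ρ * a⁻¹ = ρ⁻¹ := by
    obtain ⟨i, hi⟩ := hrefl (eN ⟨a, haN⟩)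
      (by rw [← map_mul, show (⟨a, haN⟩ : ↥N) * ⟨a, haN⟩ = 1 from Subtype.ext ha2, map_one])
      (fun h => by
        rw [EmbeddingLike.map_eq_one_iff] at h
        exact (show a ≠ 1 from fun h0 => by rw [h0, orderOf_one] at ha; omega)
          (congrArg Subtype.val h))
    have hj : ∃ j, eN ⟨ρ, hρN⟩ = DihedralGroup.r j := by
      cases hd : eN ⟨ρ, hρN⟩ with
      | r j => exact ⟨j, rfl⟩
      | sr j =>
        exfalso
        have h1 : orderOf (eN ⟨ρ, hρN⟩) = r := by rw [MulEquiv.orderOf_eq, Subgroup.orderOf_mk, hρr]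
        rw [hd, DihedralGroup.orderOf_sr] at h1
        exact hr h1.symm
    obtain ⟨j, hj⟩ := hj
    have h2 : eN (⟨a, haN⟩ * ⟨ρ, hρN⟩ * ⟨a, haN⟩⁻¹) = eN ⟨ρ, hρN⟩⁻¹ := by
      rw [map_mul, map_mul, map_inv, map_inv, hi, hj]
      simp
    exact congrArg Subtype.val (eN.injective h2)
  have hinv' : a * ρ = ρ⁻¹ * a := mul_inv_eq_iff_eq_mul.mp hinv
  set a' := a * ρ with ha'
  have ha'2 : a' * a' = 1 := by
    calc a' * a' = a * ρ * (a * ρ) := rfl
      _ = a * ρ * (ρ⁻¹ * a) := by rw [← hinv']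
      _ = 1 := by rw [mul_assoc, mul_inv_cancel_left, ha2]
  -- every element of `ρQ` is a unique `Q`-conjugate of `ρ`
  let F : ↥Q → ↥Q := fun q => ⟨ρ⁻¹ * q * ρ * (q : G)⁻¹,
    Q.mul_mem (by simpa using hQmem ρ⁻¹ q.2) (Q.inv_mem q.2)⟩
  have hF : Function.Bijective F := by
    have hinj : Function.Injective F := by
      intro q q' h
      have h1 : ρ⁻¹ * (q : G) * ρ * (q : G)⁻¹ = ρ⁻¹ * (q' : G) * ρ * (q' : G)⁻¹ := congrArg Subtype.val h
      refine Subtype.ext (inv_mul_eq_one.mp (hCρ _ (Q.mul_mem (Q.inv_mem q'.2) q.2) ?_)).symm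
      calc (q' : G)⁻¹ * q * ρ = (q' : G)⁻¹ * ρ * (ρ⁻¹ * q * ρ * (q : G)⁻¹) * q := by group
        _ = ρ * ((q' : G)⁻¹ * q) := by rw [h1]; group
    exact ⟨hinj, Finite.surjective_of_injective hinj⟩
  -- involutions of `aQ` are conjugates of `a` by elements of `C_Q(aρ)`
  have hkey : ∀ t : G, a⁻¹ * t ∈ Q → t * t = 1 →
      ∃ y ∈ Q, y * a' * y⁻¹ = a' ∧ t = y * a * y⁻¹ := by
    intro t ht ht2
    have htinv : t⁻¹ = t := inv_eq_of_mul_eq_one_right ht2
    have hx : ρ⁻¹ * (t * a') ∈ Q := by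
      have e1 : ρ⁻¹ * (t * a') = (ρ⁻¹ * a) * (a⁻¹ * t) * (ρ⁻¹ * a)⁻¹ * (ρ⁻¹ * a * a * ρ) := by
        rw [ha']; group
      rw [e1, show ρ⁻¹ * a * a * ρ = 1 by rw [mul_assoc ρ⁻¹ a a, ha2]; group, mul_one]
      exact hQmem _ ht
    obtain ⟨⟨y, hy⟩, hy'⟩ := hF.2 ⟨_, hx⟩
    have hy'' : y * ρ * y⁻¹ = t * a' := by
      have h1 : ρ⁻¹ * y * ρ * y⁻¹ = ρ⁻¹ * (t * a') := congrArg Subtype.val hy'
      calc y * ρ * y⁻¹ = ρ * (ρ⁻¹ * y * ρ * y⁻¹) := by group
        _ = t * a' := by rw [h1]; group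
    set s := y⁻¹ * t * y with hs
    set q' := a⁻¹ * s with hq'
    have hq'Q : q' ∈ Q := by
      have e1 : q' = (a⁻¹ * y⁻¹ * a⁻¹⁻¹) * (a⁻¹ * t) * y := by rw [hq', hs]; group
      rw [e1]
      exact Q.mul_mem (Q.mul_mem (hQmem _ (Q.inv_mem hy)) ht) hy
    have hsρ : s * ρ * s⁻¹ = ρ⁻¹ := by
      have h1 : ρ = y⁻¹ * (t * a') * y := by rw [← hy'']; group
      rw [h1, hs]
      calc y⁻¹ * t * y * (y⁻¹ * (t * a') * y) * (y⁻¹ * t * y)⁻¹
          = y⁻¹ * ((t * t) * a' * t⁻¹) * y := by group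
        _ = y⁻¹ * (a'⁻¹ * t⁻¹) * y := by rw [ht2, one_mul, inv_eq_of_mul_eq_one_right ha'2]
        _ = (y⁻¹ * (t * a') * y)⁻¹ := by group
    have hq'1 : q' = 1 := by
      refine hCρ q' hq'Q ?_
      have e1 : s = a * q' := by rw [hq']; group
      rw [e1] at hsρ
      refine mul_inv_eq_iff_eq_mul.mp ?_
      calc q' * ρ * q'⁻¹ = a⁻¹ * ((a * q') * ρ * (a * q')⁻¹) * a := by group
        _ = a⁻¹ * ρ⁻¹ * a := by rw [hsρ]
        _ = ρ := by rw [← hinv, ha']; group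
    have hsa : s = a := by
      rw [hq', inv_mul_eq_one] at hq'1
      exact hq'1.symm
    have htya : t = y * a * y⁻¹ := by rw [← hsa, hs]; group
    refine ⟨y, hy, ?_, htya⟩
    calc y * a' * y⁻¹ = (y * a * y⁻¹) * (y * ρ * y⁻¹) := by rw [ha']; group
      _ = t * (t * a') := by rw [← htya, hy'']
      _ = a' := by rw [← mul_assoc, ht2, one_mul]
  constructor
  · intro b hb hbQ
    have hb2 : b * b = 1 := by rw [← sq, ← hb]; exact pow_orderOf_eq_one b
    obtain ⟨i, hi⟩ := hrefl (e (f b)) (by rw [← map_mul, ← map_mul, hb2, map_one, map_one])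
      (fun h => hbQ ((QuotientGroup.eq_one_iff b).mp ((EmbeddingLike.map_eq_one_iff (f := e)).mp h)))
    obtain ⟨j, hj⟩ := hrefl (e (f a)) (by rw [← map_mul, ← map_mul, ha2, map_one, map_one])
      (fun h => by
        have h1 := hNQ a haN ((QuotientGroup.eq_one_iff a).mp ((EmbeddingLike.map_eq_one_iff (f := e)).mp h))
        rw [h1, orderOf_one] at ha; omega)
    obtain ⟨k, hk⟩ : ∃ k : ZMod r, i - (k + k) = j := by
      obtain ⟨m, hm⟩ := hrodd
      refine ⟨(i - j) * ((m + 1 : ℕ) : ZMod r), ?_⟩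
      have h1 : ((2 * (m + 1) : ℕ) : ZMod r) = 1 := by
        rw [show 2 * (m + 1) = r + 1 by omega]; simp
      rw [← mul_add, ← two_mul, show (2 : ZMod r) * ((m + 1 : ℕ) : ZMod r) = 1 by
        rw [← h1]; push_cast; ring]
      ring
    obtain ⟨g, hg⟩ := hf (e.symm (DihedralGroup.r k))
    have hgq : f (g * b * g⁻¹) = f a := by
      apply e.injective
      rw [map_mul, map_mul, map_mul, map_mul, map_inv, map_inv, hg, MulEquiv.apply_symm_apply, hi, hj]
      simp only [DihedralGroup.r_mul_sr, DihedralGroup.inv_r, DihedralGroup.sr_mul_r]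
      congr 1
      rw [← hk]; ring
    obtain ⟨y, -, -, hy⟩ := hkey (g * b * g⁻¹) (QuotientGroup.eq.mp hgq.symm)
      (by rw [show g * b * g⁻¹ * (g * b * g⁻¹) = g * (b * b) * g⁻¹ by group, hb2]; group)
    refine ⟨g⁻¹ * y, ?_⟩
    calc g⁻¹ * y * a * (g⁻¹ * y)⁻¹ = g⁻¹ * (y * a * y⁻¹) * g := by group
      _ = b := by rw [← hy]; group
  · set C := Q ⊓ Subgroup.centralizer ({a} : Set G)
    set C' := Q ⊓ Subgroup.centralizer ({a'} : Set G)
    have hmul : Function.Bijective (fun z : ↥C' × ↥C =>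
        (⟨(z.1 : G) * z.2, Q.mul_mem z.1.2.1 z.2.2.1⟩ : ↥Q)) := by
      constructor
      · rintro ⟨⟨y, hy⟩, ⟨c, hc⟩⟩ ⟨⟨y', hy'⟩, ⟨c', hc'⟩⟩ h
        have h1 : y * c = y' * c' := congrArg Subtype.val h
        have h2 : y'⁻¹ * y = c' * c⁻¹ := by
          calc y'⁻¹ * y = y'⁻¹ * (y * c) * c⁻¹ := by group
            _ = c' * c⁻¹ := by rw [h1]; group
        have h3 : y'⁻¹ * y ∈ C' ⊓ C :=
          ⟨C'.mul_mem (C'.inv_mem hy') hy, h2 ▸ C.mul_mem hc' (C.inv_mem hc)⟩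
        have h4 : y'⁻¹ * y = 1 := by
          refine hCρ _ h3.1.1 ?_
          have ea : Commute (y'⁻¹ * y) a := Subgroup.mem_centralizer_singleton_iff.mp h3.2.2
          have ea' : Commute (y'⁻¹ * y) a' := Subgroup.mem_centralizer_singleton_iff.mp h3.1.2
          have := ea.inv_right.mul_right ea'
          rwa [ha', inv_mul_cancel_left] at this
        have hyy : y' = y := inv_mul_eq_one.mp h4
        subst hyy
        have hcc : c = c' := mul_left_cancel h1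
        subst hcc
        rfl
      · rintro ⟨q, hq⟩
        obtain ⟨y, hy, hya', hyt⟩ := hkey (q * a * q⁻¹)
          (by rw [show a⁻¹ * (q * a * q⁻¹) = (a⁻¹ * q * a⁻¹⁻¹) * q⁻¹ by group]
              exact Q.mul_mem (hQmem _ hq) (Q.inv_mem hq))
          (by rw [show q * a * q⁻¹ * (q * a * q⁻¹) = q * (a * a) * q⁻¹ by group, ha2]; group)
        have hyC : y ∈ C' := ⟨hy, Subgroup.mem_centralizer_singleton_iff.mpr
          (mul_inv_eq_iff_eq_mul.mp hya')⟩
        have hcC : y⁻¹ * q ∈ C := ⟨Q.mul_mem (Q.inv_mem hy) hq,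
          Subgroup.mem_centralizer_singleton_iff.mpr (by
            calc y⁻¹ * q * a = y⁻¹ * (q * a * q⁻¹) * q := by group
              _ = a * (y⁻¹ * q) := by rw [hyt]; group)⟩
        exact ⟨(⟨y, hyC⟩, ⟨y⁻¹ * q, hcC⟩), Subtype.ext (by show y * (y⁻¹ * q) = q; group)⟩
    have hcard := Nat.card_eq_of_bijective _ hmul
    rw [Nat.card_prod] at hcard
    obtain ⟨m, hm⟩ := hrodd
    set σ := ρ ^ (m + 1)
    have hσ : σ * a' * σ⁻¹ = a := by
      have h1 : ρ ^ (2 * (m + 1)) = ρ := by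
        rw [show 2 * (m + 1) = r + 1 by omega, pow_succ, ← hρr, pow_orderOf_eq_one, one_mul]
      have h2 : a * σ * a⁻¹ = σ⁻¹ := by rw [← conj_pow, hinv, inv_pow]
      calc σ * a' * σ⁻¹ = σ * (a * ρ) * σ⁻¹ := rfl
        _ = (a * (a⁻¹ * σ * a)) * (ρ * σ⁻¹) := by group
        _ = a * (σ⁻¹ * ρ * σ⁻¹) := by
            rw [show a⁻¹ * σ * a = σ⁻¹ by rw [hainv]; rw [hainv] at h2; exact h2]
            group
        _ = a := by
            have h3 : σ⁻¹ * ρ * σ⁻¹ = 1 := by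
              calc σ⁻¹ * ρ * σ⁻¹ = σ⁻¹ * ρ ^ (2 * (m + 1)) * σ⁻¹ := by rw [h1]
                _ = σ⁻¹ * (σ * σ) * σ⁻¹ := by rw [two_mul, pow_add]
                _ = 1 := by group
            rw [h3, mul_one]
    have hCC : Nat.card ↥C' = Nat.card ↥C := by
      refine Nat.card_congr (((MulAut.conj σ).toEquiv.subtypeEquiv fun z => ?_))
      show z ∈ C' ↔ σ * z * σ⁻¹ ∈ C
      have hσQ : σ * z * σ⁻¹ ∈ Q ↔ z ∈ Q :=
        ⟨fun h => by simpa [mul_assoc] using hQmem σ⁻¹ h, fun h => hQmem σ h⟩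
      simp only [C, C', Subgroup.mem_inf, hσQ, Subgroup.mem_centralizer_singleton_iff]
      refine and_congr_right fun _ => ⟨fun h => ?_, fun h => ?_⟩
      · rw [← hσ]
        calc σ * z * σ⁻¹ * (σ * a' * σ⁻¹) = σ * (z * a') * σ⁻¹ := by group
          _ = σ * (a' * z) * σ⁻¹ := by rw [h]
          _ = σ * a' * σ⁻¹ * (σ * z * σ⁻¹) := by group
      · rw [← hσ] at h
        calc z * a' = σ⁻¹ * (σ * z * σ⁻¹ * (σ * a' * σ⁻¹)) * σ := by group
          _ = σ⁻¹ * (σ * a' * σ⁻¹ * (σ * z * σ⁻¹)) * σ := by rw [h]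
          _ = a' * z := by group
    rw [hCC] at hcard
    rw [sq]
    exact hcard

end Cfsg.Agent.S2873
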