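import Cfsg.Statements.S2881
import Cfsg.Agent.S2880
import Mathlib.GroupTheory.PGroup
-- import your own Cfsg.Agent.* helpers here

set_option autoImplicit false
open Cfsg

namespace Cfsg.Agent.S2881

/-- Let E be an extraspecial 2-group of order 2^(2m+1) of plus type (containing an elementary abelian subgroup of order 2^(m+1)), and let ω be an automorphism of E of order 5 whose fixed points are exactly the centre of E. Then m is divisible by 4. -/
theorem result {E : Type*} [Group E] [Finite E] (m : ℕ) (hm : 1 ≤ m) (hE : Cfsg.IsExtraspecial 2 E) (hcard : Nat.card E = 2 ^ (2 * m + 1)) (hplus : ∃ A : Subgroup E, Cfsg.IsElementaryAbelian 2 A ∧ Nat.card A = 2 ^ (m + 1)) (ω : E ≃* E) (hω : orderOf ω = 5) (hfix : ∀ x : E, ω x = x ↔ x ∈ Subgroup.center E) : 4 ∣ m := by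
  classical
  have hcnt := Cfsg.Agent.S2880.result m hm hE hcard hplus
  set X := {x : E // orderOf x = 4}
  haveI : Fact (Nat.Prime 5) := ⟨by norm_num⟩
  letI act : MulAction ↥(Subgroup.zpowers (ω : MulAut E)) X :=
    { smul := fun g x => ⟨(g : MulAut E) x.1, by rw [MulEquiv.orderOf_eq]; exact x.2⟩
      one_smul := fun x => Subtype.ext rfl
      mul_smul := fun g h x => Subtype.ext rfl }
  have hP : IsPGroup 5 ↥(Subgroup.zpowers (ω : MulAut E)) :=
    IsPGroup.of_card (n := 1) (by rw [Nat.card_zpowers, hω, pow_one])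
  have h0 : Nat.card ↥(MulAction.fixedPoints ↥(Subgroup.zpowers (ω : MulAut E)) X) = 0 := by
    rw [Nat.card_eq_zero]
    left
    refine ⟨fun ⟨x, hx⟩ => ?_⟩
    have h1 : ω x.1 = x.1 := congrArg Subtype.val (hx ⟨ω, Subgroup.mem_zpowers _⟩)
    have h2 : x.1 ∈ Subgroup.center E := (hfix _).1 h1
    have h3 : (⟨x.1, h2⟩ : ↥(Subgroup.center E)) ^ Nat.card ↥(Subgroup.center E) = 1 := pow_card_eq_one'
    rw [hE.2] at h3
    have h4 := orderOf_dvd_of_pow_eq_one (congrArg Subtype.val h3 : x.1 ^ 2 = 1)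
    rw [x.2] at h4
    omega
  have hmod := IsPGroup.card_modEq_card_fixedPoints hP X
  rw [h0] at hmod
  have h5 : 5 ∣ 2 ^ (2 * m) - 2 ^ m := hcnt ▸ Nat.modEq_zero_iff_dvd.mp hmod
  have h6 : 5 ∣ 2 ^ m - 1 := by
    rw [two_mul, pow_add, show 2 ^ m * 2 ^ m - 2 ^ m = 2 ^ m * (2 ^ m - 1) by rw [Nat.mul_sub, mul_one]] at h5
    refine ((Nat.prime_five.dvd_mul).1 h5).resolve_left fun h => ?_
    have := Nat.prime_five.dvd_of_dvd_pow h
    omega
  have h7 : 2 ^ m % 5 = 1 := by
    have := Nat.one_le_two_pow (n := m)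
    omega
  rw [← Nat.div_add_mod m 4, pow_add, pow_mul, Nat.mul_mod, Nat.pow_mod] at h7
  norm_num at h7
  have h8 : m % 4 < 4 := Nat.mod_lt _ (by norm_num)
  by_contra hne
  have h9 : m % 4 ≠ 0 := fun e => hne (Nat.dvd_of_mod_eq_zero e)
  interval_cases hr : m % 4 <;> simp_all

end Cfsg.Agent.S2881
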