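import Cfsg.Statements.S2896
import Cfsg.Agent.Lib.Local.CharPCriteria
-- import your own Cfsg.Agent.* helpers here

set_option autoImplicit false
open Cfsg

namespace Cfsg.Agent.S2896

/-- Let p be a prime dividing the order of the finite group G, S a Sylow p-subgroup of G and X a subgroup of S. (i) If some nontrivial element z of the centre of X has F*(C_G(z)) = O_p(C_G(z)), then F*(N_G(X)) = O_p(N_G(X)). (ii) G has parabolic characteristic p if and only if F*(C_G(z)) = O_p(C_G(z)) for every nontrivial z ∈ Ω₁(Z(S)). (iii) If F*(C_G(z)) = O_p(C_G(z)) for every element z of S of order p, then G has local characteristic p. -/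
theorem result {G : Type*} [Group G] [Finite G] {p : ℕ} [Fact p.Prime] (hdiv : p ∣ Nat.card G) (S : Sylow p G) (X : Subgroup G) (hX : X ≤ (S : Subgroup G)) : (∀ z : G, z ≠ 1 → z ∈ X → (∀ x ∈ X, x * z = z * x) → Cfsg.generalizedFittingSubgroup ↥(Subgroup.centralizer ({z} : Set G)) = Cfsg.pCore p ↥(Subgroup.centralizer ({z} : Set G)) → Cfsg.generalizedFittingSubgroup ↥(Subgroup.normalizer (X : Set G)) = Cfsg.pCore p ↥(Subgroup.normalizer (X : Set G))) ∧ (Cfsg.IsOfParabolicCharacteristic p G ↔ ∀ z : G, z ≠ 1 → z ∈ Cfsg.omegaOne p ((S : Subgroup G) ⊓ Subgroup.centralizer ((S : Subgroup G) : Set G)) → Cfsg.generalizedFittingSubgroup ↥(Subgroup.centralizer ({z} : Set G)) = Cfsg.pCore p ↥(Subgroup.centralizer ({z} : Set G))) ∧ ((∀ z : G, z ∈ (S : Subgroup G) → orderOf z = p → Cfsg.generalizedFittingSubgroup ↥(Subgroup.centralizer ({z} : Set G)) = Cfsg.pCore p ↥(Subgroup.centralizer ({z} : Set G))) → Cfsg.IsOfLocalCharacteristic p G) := by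
  classical
  open Cfsg.Lib Cfsg.Lib.Local in
  have hiff : ∀ K : Subgroup G, Cfsg.generalizedFittingSubgroup ↥K = Cfsg.pCore p ↥K ↔ CharPIn p K :=
    fun K => by rw [Cfsg.Lib.Local.generalizedFitting_eq_pCore_iff, charPIn_iff]
  have h1 : ∀ X' : Subgroup G, IsPGroup p X' → ∀ z ∈ X', (∀ x ∈ X', x * z = z * x) →
      Cfsg.Lib.Local.CharPIn p (Subgroup.centralizer ({z} : Set G)) →
      Cfsg.Lib.Local.CharPIn p (Subgroup.normalizer (X' : Set G)) :=
    fun X' hX' z hzX hz h => Cfsg.Lib.Local.CharPCriteria.normalizer_of_centralizer hX' hzX hz h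
  refine ⟨fun z _ hzX hz h => (hiff _).2 (h1 X (S.2.to_le hX) z hzX hz ((hiff _).1 h)), ⟨?_, ?_⟩, ?_⟩
  · intro hpar z hz1 hzO
    have hzC : z ∈ (S : Subgroup G) ⊓ Subgroup.centralizer ((S : Subgroup G) : Set G) :=
      Cfsg.Lib.Local.omegaOne_le hzO
    have hzp : ∃ k : ℕ, orderOf z = p ^ k := by
      obtain ⟨k, hk⟩ := IsPGroup.iff_orderOf.1 S.2 ⟨z, hzC.1⟩
      exact ⟨k, by rwa [Subgroup.orderOf_mk] at hk⟩
    rw [hiff]
    refine Cfsg.Lib.Local.CharPCriteria.centralizer_of_normalizer hzp ?_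
    rw [Cfsg.Lib.Local.charPIn_iff]
    obtain ⟨k, hk⟩ := hzp
    refine hpar (Subgroup.zpowers z) (IsPGroup.of_card (by rw [Nat.card_zpowers, hk]))
      (by rwa [ne_eq, Subgroup.zpowers_eq_bot]) ⟨S, fun s hs => ?_⟩
    refine Subgroup.centralizer_le_normalizer _ ?_
    rw [Subgroup.zpowers_eq_closure, Subgroup.centralizer_closure,
      Subgroup.mem_centralizer_singleton_iff]
    exact Subgroup.mem_centralizer_iff.1 hzC.2 s hs
  · intro h
    refine Cfsg.Lib.Local.CharPCriteria.parabolic_of_centralizers S fun z hzo hzS hz => ?_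
    rw [← hiff]
    refine h z (fun e => ?_) (Subgroup.subset_closure ⟨⟨hzS, Subgroup.mem_centralizer_iff.2 hz⟩, ?_⟩)
    · rw [e, orderOf_one] at hzo
      exact (Fact.out : p.Prime).one_lt.ne hzo
    · rw [← hzo, pow_orderOf_eq_one]
  · intro h
    refine ⟨hdiv, fun T hT hT1 => ?_⟩
    rw [← Cfsg.Lib.Local.charPIn_iff]
    haveI := (Subgroup.nontrivial_iff_ne_bot T).2 hT1
    obtain ⟨w, hw⟩ : ∃ w : ↥T, w ∈ Subgroup.center ↥T ∧ orderOf w = p := by
      haveI := hT.center_nontrivial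
      obtain ⟨m, hm, hcard⟩ := (hT.to_subgroup (Subgroup.center ↥T)).nontrivial_iff_card.1 inferInstance
      obtain ⟨w, hw⟩ := exists_prime_orderOf_dvd_card' (G := ↥(Subgroup.center ↥T)) p
        (by rw [hcard]; exact dvd_pow_self p hm.ne')
      exact ⟨w, w.2, by rw [Subgroup.orderOf_coe, hw]⟩
    refine h1 T hT (w : G) w.2 (fun x hx => ?_) ?_
    · exact congrArg Subtype.val (Subgroup.mem_center_iff.1 hw.1 ⟨x, hx⟩)
    obtain ⟨R, hR⟩ := hT.exists_le_sylow
    obtain ⟨g, hg⟩ := MulAction.exists_smul_eq G R S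
    have hmem : g * (w : G) * g⁻¹ ∈ (S : Subgroup G) := by
      rw [← hg, Sylow.coe_subgroup_smul, Subgroup.mem_pointwise_smul_iff_inv_smul_mem,
        ← map_inv, MulAut.smul_def, MulAut.conj_apply]
      have : g⁻¹ * (g * (w : G) * g⁻¹) * g⁻¹⁻¹ = w := by group
      rw [this]
      exact hR w.2
    have ho : orderOf (g * (w : G) * g⁻¹) = p := by
      rw [← MulAut.conj_apply, MulEquiv.orderOf_eq, Subgroup.orderOf_coe, hw.2]
    have h3 := Cfsg.Lib.Local.CharPCriteria.centralizer_conj ((hiff _).1 (h _ hmem ho)) g⁻¹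
    have e : g⁻¹ * (g * (w : G) * g⁻¹) * g⁻¹⁻¹ = (w : G) := by group
    rwa [e] at h3

end Cfsg.Agent.S2896
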