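import Cfsg.Statements.S2898
import Cfsg.Agent.Lib.Local.Basic
import Cfsg.Agent.Lib.Invol.Basic
import Cfsg.Agent.Lib.PGroup.Basic
-- import your own Cfsg.Agent.* helpers here

set_option autoImplicit false
open Cfsg

namespace Cfsg.Agent.S2898

/-- Let G be a finite group of even order with parabolic characteristic 2. If the centre of G ⧸ O(G) is trivial, then O(G) = 1. -/
theorem result {G : Type*} [Group G] [Finite G] (h2 : 2 ∣ Nat.card G) (hG : Cfsg.IsOfParabolicCharacteristic 2 G) [hN : (Cfsg.oddCore G).Normal] (hZ : Subgroup.center (G ⧸ Cfsg.oddCore G) = ⊥) : Cfsg.oddCore G = ⊥ := by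
  haveI : Fact (Nat.Prime 2) := ⟨Nat.prime_two⟩
  set O := Cfsg.oddCore G with hO
  have hOcop : (Nat.card O).Coprime 2 := Cfsg.Lib.Core.pPrimeCore_coprime 2 G
  obtain ⟨S⟩ : Nonempty (Sylow 2 G) := inferInstance
  have hSne : (S : Subgroup G) ≠ ⊥ := fun hb => S.not_dvd_index (by rwa [hb, Subgroup.index_bot])
  haveI : Nontrivial ↥(S : Subgroup G) := (Subgroup.nontrivial_iff_ne_bot _).mpr hSne
  -- a central involution of `S` inverts `O(G)`
  have hinv : ∀ z : G, z ∈ (S : Subgroup G) → (∀ s ∈ (S : Subgroup G), s * z = z * s) →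
      orderOf z = 2 → ∀ x ∈ O, z * x * z⁻¹ = x⁻¹ := by
    intro z hz hzc hz2
    have hp : IsPGroup 2 (Subgroup.zpowers z) :=
      IsPGroup.of_card (n := 1) (by rw [Nat.card_zpowers, hz2, pow_one])
    have hne : Subgroup.zpowers z ≠ ⊥ := fun h => Cfsg.Lib.Invol.ne_one hz2 (Subgroup.zpowers_eq_bot.mp h)
    have hSN : (S : Subgroup G) ≤ Subgroup.normalizer (Subgroup.zpowers z : Set G) := by
      refine le_trans (fun s hs => ?_) (Subgroup.centralizer_le_normalizer _)
      rw [Subgroup.zpowers_eq_closure, Subgroup.centralizer_closure,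
        Subgroup.mem_centralizer_singleton_iff]
      exact hzc s hs
    have hch := hG _ hp hne ⟨S, hSN⟩
    set L := Subgroup.normalizer (Subgroup.zpowers z : Set G)
    set K := O.subgroupOf L
    have hKcop : (Nat.card K).Coprime 2 := by
      refine Nat.Coprime.coprime_dvd_left ?_ hOcop
      rw [← Subgroup.card_map_of_injective L.subtype_injective, Subgroup.subgroupOf_map_subtype]
      exact Subgroup.card_dvd_of_le inf_le_left
    have hd : K ⊓ Cfsg.pCore 2 ↥L = ⊥ := by
      obtain ⟨k, hk⟩ := IsPGroup.iff_card.mp (Cfsg.Lib.Core.pCore_isPGroup 2 ↥L)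
      exact Subgroup.inf_eq_bot_of_coprime (by rw [hk]; exact hKcop.pow_right k)
    have hK : K = ⊥ := by
      have h1 : ⁅K, Cfsg.pCore 2 ↥L⁆ = ⊥ := eq_bot_iff.mpr ((Subgroup.commutator_le_inf _ _).trans hd.le)
      rw [Subgroup.commutator_eq_bot_iff_le_centralizer] at h1
      rw [← hd, left_eq_inf]
      exact h1.trans hch
    have hfix : ∀ x ∈ O, z * x = x * z → x = 1 := by
      intro x hx hc
      have hxL : x ∈ L := by
        refine Subgroup.centralizer_le_normalizer _ ?_
        rw [Subgroup.zpowers_eq_closure, Subgroup.centralizer_closure,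
          Subgroup.mem_centralizer_singleton_iff]
        exact hc.symm
      have h1 : (⟨x, hxL⟩ : ↥L) ∈ K := hx
      rw [hK, Subgroup.mem_bot] at h1
      exact congrArg Subtype.val h1
    intro x hx
    have hz' := Cfsg.Lib.Invol.inv_mul_self hz2
    have hzi := Cfsg.Lib.Invol.inv_eq_self hz2
    let f : O → O := fun a => ⟨(a : G)⁻¹ * (z * a * z⁻¹),
      mul_mem (inv_mem a.2) ((inferInstance : O.Normal).conj_mem _ a.2 z)⟩
    have hf : Function.Injective f := by
      intro a b hab
      have h1 : (a : G)⁻¹ * (z * a * z⁻¹) = (b : G)⁻¹ * (z * b * z⁻¹) := congrArg Subtype.val hab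
      have h2 : (b : G) * (a : G)⁻¹ = 1 := by
        refine hfix _ (mul_mem b.2 (inv_mem a.2)) ?_
        have h3 : (b : G) * (a : G)⁻¹ = z * ((b : G) * (a : G)⁻¹) * z⁻¹ := by
          calc (b : G) * (a : G)⁻¹ = (b : G) * ((a : G)⁻¹ * (z * a * z⁻¹)) * (z * a * z⁻¹)⁻¹ := by group
            _ = (b : G) * ((b : G)⁻¹ * (z * b * z⁻¹)) * (z * a * z⁻¹)⁻¹ := by rw [h1]
            _ = _ := by group
        conv_rhs => rw [h3]
        rw [mul_assoc, inv_mul_cancel, mul_one]
      exact Subtype.ext (mul_inv_eq_one.mp h2).symm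
    obtain ⟨a, ha⟩ := (Finite.injective_iff_surjective.mp hf) ⟨x, hx⟩
    have hxa : x = (a : G)⁻¹ * (z * a * z⁻¹) := (congrArg Subtype.val ha).symm
    rw [hxa, hzi]
    calc z * ((a : G)⁻¹ * (z * a * z)) * z = z * (a : G)⁻¹ * z * a * (z * z) := by group
      _ = z⁻¹ * (a : G)⁻¹ * z⁻¹ * a := by rw [hz', mul_one, hzi]
      _ = ((a : G)⁻¹ * (z * a * z))⁻¹ := by group
  obtain ⟨z, -, hzc, hz2⟩ := Cfsg.Lib.PGroup.exists_mem_center_orderOf_eq
    (G := ↥(S : Subgroup G)) S.isPGroup' (N := ⊤) top_ne_bot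
  have hzS : (z : G) ∈ (S : Subgroup G) := z.2
  have hzc' : ∀ s ∈ (S : Subgroup G), s * (z : G) = z * s := fun s hs =>
    congrArg Subtype.val (Subgroup.mem_center_iff.mp hzc ⟨s, hs⟩)
  have hz2' : orderOf (z : G) = 2 := by rw [Subgroup.orderOf_coe, hz2]
  have hi := hinv z hzS hzc' hz2'
  set D := Subgroup.centralizer (O : Set G)
  by_cases hD : (S : Subgroup G) ⊓ D = ⊥
  · -- then `D` has odd order, so `z` is central modulo `O(G)`
    have hDO : D ≤ O := by
      refine Cfsg.Lib.Core.le_pPrimeCore' inferInstance ?_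
      refine Nat.Coprime.symm ((Nat.prime_two.coprime_iff_not_dvd).mpr fun hd => ?_)
      obtain ⟨d, hd'⟩ := exists_prime_orderOf_dvd_card' 2 hd
      obtain ⟨g, hg⟩ := MulAction.exists_smul_eq G S ((IsPGroup.of_card (n := 1)
        (by rw [Nat.card_zpowers, Subgroup.orderOf_coe, hd', pow_one]) :
          IsPGroup 2 (Subgroup.zpowers (d : G))).exists_le_sylow.choose)
      have hdQ := (IsPGroup.of_card (n := 1)
        (by rw [Nat.card_zpowers, Subgroup.orderOf_coe, hd', pow_one]) :
          IsPGroup 2 (Subgroup.zpowers (d : G))).exists_le_sylow.choose_spec (Subgroup.mem_zpowers _)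
      rw [← hg, Sylow.coe_subgroup_smul] at hdQ
      have hm : g⁻¹ * (d : G) * g ∈ (S : Subgroup G) ⊓ D := by
        refine ⟨?_, ?_⟩
        · have := Subgroup.mem_pointwise_smul_iff_inv_smul_mem.mp hdQ
          simp only [MulAut.smul_def, ← map_inv, MulAut.conj_apply, inv_inv] at this
          exact this
        · have := (inferInstance : D.Normal).conj_mem _ d.2 g⁻¹
          rwa [inv_inv] at this
      rw [hD, Subgroup.mem_bot] at hm
      have : (d : G) = 1 := by
        have := congrArg (fun y => g * y * g⁻¹) hm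
        simpa [mul_assoc] using this
      rw [show d = 1 from Subtype.ext this, orderOf_one] at hd'
      exact absurd hd' (by norm_num)
    exfalso
    have hzO : (z : G) ∈ O := by
      rw [← QuotientGroup.eq_one_iff, ← Subgroup.mem_bot, ← hZ, Subgroup.mem_center_iff]
      intro y
      obtain ⟨g, rfl⟩ := QuotientGroup.mk_surjective y
      rw [← QuotientGroup.mk_mul, ← QuotientGroup.mk_mul, QuotientGroup.eq]
      refine hDO (Subgroup.mem_centralizer_iff.mpr fun x hx => ?_)
      have h1 : g * x * g⁻¹ ∈ O := (inferInstance : O.Normal).conj_mem x hx g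
      have hz' := Cfsg.Lib.Invol.inv_eq_self hz2'
      have a1 := hi x hx
      have a2 := hi _ h1
      -- both `z` and its conjugates invert `x`
      calc x * ((g * (z : G))⁻¹ * ((z : G) * g))
          = ((z : G)⁻¹ * g⁻¹) * (g * ((z : G) * x * (z : G)⁻¹) * g⁻¹) * ((z : G) * g) := by group
        _ = ((z : G)⁻¹ * g⁻¹) * (g * x⁻¹ * g⁻¹) * ((z : G) * g) := by rw [a1]
        _ = ((z : G)⁻¹ * g⁻¹) * (g * x * g⁻¹)⁻¹ * ((z : G) * g) := by group
        _ = ((z : G)⁻¹ * g⁻¹) * ((z : G) * (g * x * g⁻¹) * (z : G)⁻¹) * ((z : G) * g) := by rw [a2]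
        _ = (g * (z : G))⁻¹ * ((z : G) * g) * x := by group
    obtain ⟨k, hk⟩ := IsPGroup.iff_orderOf.mp S.isPGroup' z
    have hd : orderOf (z : G) ∣ Nat.card O := by
      rw [← Subgroup.orderOf_mk (z : G) hzO]; exact orderOf_dvd_natCard _
    rw [hz2'] at hd
    exact Nat.prime_two.coprime_iff_not_dvd.mp hOcop.symm hd
  · -- a central involution of `S` centralizes and inverts `O(G)`
    haveI : (((S : Subgroup G) ⊓ D).subgroupOf (S : Subgroup G)).Normal :=
      Subgroup.normal_subgroupOf_of_le_normalizer (Cfsg.Lib.Local.le_normalizer_inf Subgroup.le_normalizer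
        (Cfsg.Lib.Local.le_normalizer_normal _))
    obtain ⟨w, hw, hwc, hw2⟩ := Cfsg.Lib.PGroup.exists_mem_center_orderOf_eq
      (G := ↥(S : Subgroup G)) S.isPGroup' (N := ((S : Subgroup G) ⊓ D).subgroupOf (S : Subgroup G))
      (fun h => hD (by rw [← Subgroup.map_subgroupOf_eq_of_le (inf_le_left : (S : Subgroup G) ⊓ D ≤ S), h,
        Subgroup.map_bot]))
    have hwi := hinv w w.2 (fun s hs => congrArg Subtype.val (Subgroup.mem_center_iff.mp hwc ⟨s, hs⟩))
      (by rw [Subgroup.orderOf_coe, hw2])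
    rw [eq_bot_iff]
    intro x hx
    have h1 := hwi x hx
    rw [(Subgroup.mem_centralizer_iff.mp (Subgroup.mem_subgroupOf.mp hw).2 x hx).symm,
      mul_inv_cancel_right] at h1
    have h2 : x ^ 2 = 1 := by
      rw [pow_two]
      nth_rewrite 2 [h1]
      rw [mul_inv_cancel]
    have h3 : orderOf x ∣ Nat.card O := by
      rw [← Subgroup.orderOf_mk x hx]; exact orderOf_dvd_natCard _
    exact Subgroup.mem_bot.mpr (orderOf_eq_one_iff.mp
      (Nat.eq_one_of_dvd_coprimes hOcop h3 (orderOf_dvd_of_pow_eq_one h2)))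

end Cfsg.Agent.S2898
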