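import Cfsg.Statements.S2905
import Cfsg.Agent.Lib.Fusion.Basic
import Cfsg.Agent.Lib.Local.SubnormalSylow
import Cfsg.Agent.Lib.Solv.SubnormalJoin
import Cfsg.Agent.Lib.Core.Cores
-- import your own Cfsg.Agent.* helpers here

set_option autoImplicit false
open Cfsg

namespace Cfsg.Agent.S2905
open Subgroup

/-- Let P be a finite p-minimal group (a Sylow p-subgroup S is not normal and lies in a unique maximal subgroup M of P) and let F be the normal core of M. Then: every subnormal subgroup N of P contained in M satisfies N ∩ S ≤ O_p(P); if O^p(P) has a normal Sylow p-subgroup then the order of P has at most two prime divisors; every normal subgroup N of P either contains O^p(P) or is contained in F; and O^p(P)F ⧸ F is a minimal normal subgroup of P ⧸ F. -/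
theorem result {P : Type*} [Group P] [Finite P] {p : ℕ} [Fact p.Prime] (hP : Cfsg.IsPMinimal p P) (S : Sylow p P) (M : Subgroup P) (hM : IsCoatom M) (hSM : (S : Subgroup P) ≤ M) [hF : M.normalCore.Normal] : (∀ N : Subgroup P, N.IsSubnormal → N ≤ M → N ⊓ (S : Subgroup P) ≤ Cfsg.pCore p P) ∧ ((∀ T : Sylow p ↥(Cfsg.pResidual p P), (T : Subgroup ↥(Cfsg.pResidual p P)).Normal) → (Nat.card P).primeFactors.card ≤ 2) ∧ (∀ N : Subgroup P, N.Normal → Cfsg.pResidual p P ≤ N ∨ N ≤ M.normalCore) ∧ (∀ N : Subgroup P, N.Normal → M.normalCore ≤ N → N ≤ Cfsg.pResidual p P ⊔ M.normalCore → N = M.normalCore ∨ N = Cfsg.pResidual p P ⊔ M.normalCore) ∧ M.normalCore < Cfsg.pResidual p P ⊔ M.normalCore := by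
  classical
  obtain ⟨hSn, M', ⟨hM'c, hSM'⟩, hu⟩ := hP S
  have huM : ∀ K : Subgroup P, (S : Subgroup P) ≤ K → K = ⊤ ∨ K ≤ M := by
    intro K hSK
    rcases eq_top_or_exists_le_coatom K with h | ⟨X, hX, hKX⟩
    · exact Or.inl h
    · exact Or.inr (((hu X ⟨hX, hSK.trans hKX⟩).trans (hu M ⟨hM, hSM⟩).symm) ▸ hKX)
  set R := Cfsg.pResidual p P with hR
  haveI hRn : R.Normal := Cfsg.Lib.Fusion.pResidual_normal p P
  have hqR : ∀ {q : ℕ}, q.Prime → q ≠ p → ∀ X : Subgroup P, IsPGroup q X → X ≤ R := by
    intro q hq hqp X hX x hx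
    obtain ⟨k, hk⟩ := hX ⟨x, hx⟩
    have hk' : x ^ q ^ k = 1 := congrArg Subtype.val hk
    exact Cfsg.Lib.Fusion.mem_pResidual_of_coprime (Nat.Coprime.coprime_dvd_left
      (orderOf_dvd_of_pow_eq_one hk') (Nat.Coprime.pow_left k ((Nat.coprime_primes hq Fact.out).2 hqp)))
  have hRS : R ⊔ (S : Subgroup P) = ⊤ := by
    rw [← index_eq_one]
    by_contra h1
    obtain ⟨q, hq, hqd⟩ := Nat.exists_prime_and_dvd h1
    haveI : Fact q.Prime := ⟨hq⟩
    by_cases hqp : q = p
    · subst hqp
      exact S.not_dvd_index (hqd.trans (index_dvd_of_le le_sup_right))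
    obtain ⟨Sq⟩ : Nonempty (Sylow q P) := inferInstance
    exact Sq.not_dvd_index (hqd.trans (index_dvd_of_le ((hqR hq hqp _ Sq.isPGroup').trans le_sup_left)))
  have hFM : M.normalCore ≤ M := normalCore_le M
  have hdich : ∀ N : Subgroup P, N.Normal → R ≤ N ∨ N ≤ M.normalCore := by
    intro N hN
    haveI := hN
    rcases huM (N ⊔ (S : Subgroup P)) le_sup_right with h | h
    · left
      refine Cfsg.Lib.Fusion.pResidual_le_of_isPGroup_quotient N
        (S.isPGroup'.of_surjective ((QuotientGroup.mk' N).comp (S : Subgroup P).subtype) ?_)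
      intro y
      obtain ⟨x, rfl⟩ := QuotientGroup.mk'_surjective N y
      obtain ⟨n, hn, s, hs, rfl⟩ := mem_sup_of_normal_left.1 (h ▸ mem_top x)
      exact ⟨⟨s, hs⟩, by simp [(QuotientGroup.eq_one_iff n).2 hn]⟩
    · exact Or.inr (normal_le_normalCore.2 (le_sup_left.trans h))
  refine ⟨?_, ?_, hdich, ?_, ?_⟩
  · -- subnormal subgroups inside `M`
    intro N hN hNM
    have hFS : M.normalCore ⊓ (S : Subgroup P) ≤ Cfsg.pCore p P := by
      set F := M.normalCore with hFdef
      set X := ((S : Subgroup P) ⊓ F) with hX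
      have hXF : X.subgroupOf F = ((S : Subgroup P) ⊓ F).subgroupOf F := rfl
      have hXp : IsPGroup p (X.subgroupOf F) :=
        (S.isPGroup'.to_le inf_le_left).comap_of_injective F.subtype F.subtype_injective
      have hnd : ¬ p ∣ (X.subgroupOf F).index :=
        Cfsg.Lib.Local.not_dvd_relIndex_inf S (Subgroup.Normal.isSubnormal hF)
      have htop : normalizer (X : Set P) ⊔ F = ⊤ := by
        have h := Sylow.normalizer_sup_eq_top (hXp.toSylow hnd)
        rwa [IsPGroup.toSylow_coe, map_subgroupOf_eq_of_le inf_le_right] at h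
      have hSN : (S : Subgroup P) ≤ normalizer (X : Set P) := by
        refine Cfsg.Lib.Core.le_normalizer_iff_conj_mem.mpr fun s hs x hx => ⟨?_, ?_⟩
        · exact mul_mem (mul_mem hs hx.1) ((S : Subgroup P).inv_mem hs)
        · exact hF.conj_mem x hx.2 s
      rcases huM _ hSN with h | h
      · rw [inf_comm]
        exact Cfsg.Lib.Core.le_pCore' (normalizer_eq_top_iff.1 h) (S.isPGroup'.to_le inf_le_left)
      · exact absurd (top_le_iff.1 (htop.ge.trans (sup_le h hFM))) hM.1
    obtain ⟨J, hNJ, hJ⟩ := (Set.toFinite {J : Subgroup P | J.IsSubnormal ∧ J ≤ M}).exists_le_maximal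
      (show N ∈ {J : Subgroup P | J.IsSubnormal ∧ J ≤ M} from ⟨hN, hNM⟩)
    obtain ⟨hJs, hJM⟩ := hJ.1
    have hMJ : M ≤ normalizer (J : Set P) := by
      refine Cfsg.Lib.Core.le_normalizer_iff_conj_mem.mpr fun m hm x hx => ?_
      have h2 : J.map (MulAut.conj m).toMonoidHom ≤ M := by
        rintro _ ⟨y, hy, rfl⟩
        exact mul_mem (mul_mem hm (hJM hy)) (M.inv_mem hm)
      have h3 := hJ.2 (y := J ⊔ J.map (MulAut.conj m).toMonoidHom)
        ⟨Cfsg.Lib.SubnormalJoin.isSubnormal_join hJs
          (Cfsg.Lib.Core.isSubnormal_map_conj hJs m), sup_le hJM h2⟩ le_sup_left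
      exact h3 (mem_sup_right ⟨x, hx, rfl⟩)
    by_cases hJn : normalizer (J : Set P) = ⊤
    · refine le_trans (inf_le_inf_right _ ?_) hFS
      haveI := normalizer_eq_top_iff.1 hJn
      exact hNJ.trans (normal_le_normalCore.2 hJM)
    · exfalso
      have hNJM : normalizer (J : Set P) = M := (hM.le_iff.1 hMJ).resolve_left hJn
      rcases IsSubnormal.iff_eq_top_or_exists.1 hJs with h | ⟨K, hJK, hKs, hKn⟩
      · exact hM.1 (top_le_iff.1 (h ▸ hJM))
      · have hKM : K ≤ M := hNJM ▸ (normal_subgroupOf_iff_le_normalizer hJK.le).1 hKn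
        exact hJK.not_ge (hJ.2 ⟨hKs, hKM⟩ hJK.le)
  · -- two primes
    intro hT
    obtain ⟨T⟩ : Nonempty (Sylow p R) := inferInstance
    haveI := hT T
    set O := (T : Subgroup R).map R.subtype with hOdef
    have hOR : O ≤ R := map_subtype_le _
    have hTchar : (T : Subgroup R).Characteristic := T.characteristic_of_normal inferInstance
    haveI hOn : O.Normal := ConjAct.normal_of_characteristic_of_normal
    have hOp : IsPGroup p O := T.isPGroup'.map _
    have hOnd : ¬ p ∣ O.relIndex R := by
      rw [relIndex, hOdef, subgroupOf, comap_map_eq_self_of_injective R.subtype_injective]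
      exact T.not_dvd_index
    by_contra hcard
    apply hM.1
    rw [← index_eq_one]
    by_contra h1
    obtain ⟨q, hq, hqd⟩ := Nat.exists_prime_and_dvd h1
    haveI : Fact q.Prime := ⟨hq⟩
    have hqp : q ≠ p := by
      rintro rfl
      exact S.not_dvd_index (hqd.trans (index_dvd_of_le hSM))
    obtain ⟨Q, hQS⟩ : ∃ Q : Sylow q P,
        (S : Subgroup P) ≤ normalizer (((Q : Subgroup P) ⊔ O : Subgroup P) : Set P) := by
      obtain ⟨Q₀⟩ : Nonempty (Sylow q P) := inferInstance
      set K := (Q₀ : Subgroup P) ⊔ O with hK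
      have hNQ : normalizer ((Q₀ : Subgroup P) : Set P) ≤ normalizer (K : Set P) := by
        intro g hg
        rw [Cfsg.Lib.Core.mem_normalizer_iff_map_conj, hK, Subgroup.map_sup,
          Cfsg.Lib.Core.map_conj_eq_of_mem_normalizer hg,
          Cfsg.Lib.Core.map_conj_eq_of_mem_normalizer (H := O) (by
            rw [normalizer_eq_top]; exact mem_top g)]
      have hQR := hqR hq hqp _ Q₀.isPGroup'
      have htop : normalizer (K : Set P) ⊔ R = ⊤ :=
        top_le_iff.1 ((Sylow.normalizer_sup_eq_top' Q₀ hQR).ge.trans (sup_le_sup_right hNQ R))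
      have hnd : ¬ p ∣ (normalizer (K : Set P)).index := by
        intro h
        refine hOnd (h.trans ?_)
        have e : (normalizer (K : Set P)).index = (normalizer (K : Set P)).relIndex R := by
          have e1 : R.relIndex (normalizer (K : Set P)) = R.index := by
            rw [← relIndex_top_right R, ← htop, sup_comm, relIndex_sup_left]
          have e2 := relIndex_mul_index (inf_le_left : normalizer (K : Set P) ⊓ R ≤ normalizer (K : Set P))
          have e3 := relIndex_mul_index (inf_le_right : normalizer (K : Set P) ⊓ R ≤ R)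
          rw [inf_relIndex_left, e1] at e2
          rw [inf_relIndex_right, ← e2, mul_comm] at e3
          exact (Nat.eq_of_mul_eq_mul_left (Nat.pos_of_ne_zero index_ne_zero_of_finite) e3).symm
        rw [e]
        exact relIndex_dvd_of_le_left R ((le_sup_right : O ≤ K).trans le_normalizer)
      obtain ⟨S₀⟩ : Nonempty (Sylow p ↥(normalizer (K : Set P))) := inferInstance
      have hnd' : ¬ p ∣ ((S₀ : Subgroup ↥(normalizer (K : Set P))).map
          (normalizer (K : Set P)).subtype).index := by
        rw [index_map_subtype]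
        exact fun h => (Fact.out : p.Prime).dvd_mul.1 h |>.elim S₀.not_dvd_index hnd
      obtain ⟨g, hg⟩ := MulAction.exists_smul_eq P ((S₀.isPGroup'.map _).toSylow hnd') S
      refine ⟨g • Q₀, fun s hs => ?_⟩
      rw [← hg] at hs
      obtain ⟨s₀, hs₀, rfl⟩ := hs
      have hs₀' : s₀ ∈ normalizer (K : Set P) := map_subtype_le _ hs₀
      have hKg : (g • Q₀ : Sylow q P).toSubgroup ⊔ O = K.map (MulAut.conj g).toMonoidHom := by
        rw [hK, Subgroup.map_sup, Cfsg.Lib.Core.map_conj_eq_of_mem_normalizer (H := O) (by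
            rw [normalizer_eq_top]; exact mem_top g)]
        rfl
      rw [hKg, mem_normalizer_iff]
      intro y
      constructor
      · rintro ⟨k, hk, rfl⟩
        exact ⟨s₀ * k * s₀⁻¹, (mem_normalizer_iff.1 hs₀' k).1 hk, by simp [mul_assoc]⟩
      · rintro ⟨k, hk, he⟩
        refine ⟨s₀⁻¹ * k * s₀, ?_, ?_⟩
        · simpa using (mem_normalizer_iff.1 ((normalizer (K : Set P)).inv_mem hs₀') k).1 hk
        · simp only [MulEquiv.coe_toMonoidHom, MulAut.conj_apply, MulDistribMulAction.toMonoidEnd_apply,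
            MulDistribMulAction.toMonoidHom_apply, MulAut.smul_def] at he ⊢
          calc g * (s₀⁻¹ * k * s₀) * g⁻¹ = (g * s₀ * g⁻¹)⁻¹ * (g * k * g⁻¹) * (g * s₀ * g⁻¹) := by group
            _ = y := by rw [he]; group
    set K := (Q : Subgroup P) ⊔ O with hK
    rcases huM ((S : Subgroup P) ⊔ K) le_sup_left with h | h
    · -- only two primes
      haveI hKn : K.Normal := by
        rw [← normalizer_eq_top_iff, eq_top_iff, ← h]
        exact sup_le hQS le_normalizer
      refine hcard ((Finset.card_le_card (t := {p, q}) fun r hr => ?_).trans Finset.card_le_two)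
      obtain ⟨hr, hrd, -⟩ := Nat.mem_primeFactors.1 hr
      haveI : Fact r.Prime := ⟨hr⟩
      simp only [Finset.mem_insert, Finset.mem_singleton]
      by_contra! hne
      obtain ⟨x, hx⟩ := exists_prime_orderOf_dvd_card' (G := P) r hrd
      have hxr : x ^ r = 1 := hx ▸ pow_orderOf_eq_one x
      have kill : ∀ {s : ℕ}, s.Prime → r ≠ s → ∀ {H : Type _} [Group H] (f : P →* H) (X : Subgroup H),
          IsPGroup s X → f x ∈ X → f x = 1 := by
        intro s hs hrs H _ f X hX hfx
        obtain ⟨k, hk⟩ := hX ⟨f x, hfx⟩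
        have hk' : f x ^ s ^ k = 1 := congrArg Subtype.val hk
        exact orderOf_eq_one_iff.1 (Nat.eq_one_of_dvd_coprimes
          (Nat.Coprime.pow_right k ((Nat.coprime_primes hr hs).2 hrs))
          (orderOf_dvd_of_pow_eq_one (by rw [← map_pow, hxr, map_one]))
          (orderOf_dvd_of_pow_eq_one hk'))
      have hxK : x ∈ K := by
        rw [← QuotientGroup.eq_one_iff]
        refine kill (Fact.out : p.Prime) hne.1 (QuotientGroup.mk' K)
          ((S : Subgroup P).map (QuotientGroup.mk' K)) (S.isPGroup'.map _) ?_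
        obtain ⟨s, hs, k, hk, e⟩ := mem_sup_of_normal_right.1 (h ▸ mem_top x)
        exact ⟨s, hs, by simp [← e, (QuotientGroup.eq_one_iff k).2 hk]⟩
      have hxO : x ∈ O := by
        rw [← QuotientGroup.eq_one_iff]
        refine kill hq hne.2 (QuotientGroup.mk' O)
          ((Q : Subgroup P).map (QuotientGroup.mk' O)) (Q.isPGroup'.map _) ?_
        obtain ⟨a, ha, o, ho, e⟩ := mem_sup_of_normal_right.1 hxK
        exact ⟨a, ha, by simp [← e, (QuotientGroup.eq_one_iff o).2 ho]⟩
      have hx1 : x = 1 := kill (Fact.out : p.Prime) hne.1 (MonoidHom.id P) O hOp hxO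
      rw [hx1, orderOf_one] at hx
      exact hr.ne_one hx.symm
    · exact Q.not_dvd_index (hqd.trans (index_dvd_of_le ((le_sup_left.trans le_sup_right).trans h)))
  · intro N hN hFN hNle
    rcases hdich N hN with h | h
    · exact Or.inr (le_antisymm hNle (sup_le h hFN))
    · exact Or.inl (le_antisymm h hFN)
  · refine lt_of_le_of_ne le_sup_right fun h => hM.1 (top_le_iff.1 (hRS.ge.trans (sup_le ?_ hSM)))
    exact ((le_sup_left : R ≤ R ⊔ M.normalCore).trans h.ge).trans hFM

end Cfsg.Agent.S2905
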