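import Cfsg.Statements.S2906
import Cfsg.Agent.S2905
import Cfsg.Agent.Lib.Local.PMinimalComponents
-- import your own Cfsg.Agent.* helpers here

set_option autoImplicit false
open Cfsg

namespace Cfsg.Agent.S2906

open scoped commutatorElement
open Subgroup Cfsg.Lib Cfsg.Lib.Local

/-- Let P be a finite p-minimal group with O_p(P) = 1, S a Sylow p-subgroup of P and K a component of P. Then O^p(P) = F*(P) = E(P) is generated by the S-conjugates of K, and the subgroup K·N_S(K) is again p-minimal. -/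
theorem result {P : Type*} [Group P] [Finite P] {p : ℕ} [Fact p.Prime] (hP : Cfsg.IsPMinimal p P) (hOp : Cfsg.pCore p P = ⊥) (S : Sylow p P) (K : Subgroup P) (hK : Cfsg.IsComponent K) : Cfsg.pResidual p P = Cfsg.generalizedFittingSubgroup P ∧ Cfsg.generalizedFittingSubgroup P = Cfsg.layer P ∧ Cfsg.layer P = ⨆ s : ↥(S : Subgroup P), K.map (MulAut.conj (s : P)).toMonoidHom ∧ Cfsg.IsPMinimal p ↥(K ⊔ ((S : Subgroup P) ⊓ Subgroup.normalizer (K : Set P))) := by
  classical
  obtain ⟨-, M, ⟨hM, hSM⟩, hu⟩ := hP S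
  have huM : ∀ H : Subgroup P, (S : Subgroup P) ≤ H → H = ⊤ ∨ H ≤ M := by
    intro H hSH
    rcases eq_top_or_exists_le_coatom H with h | ⟨X, hX, hHX⟩
    · exact Or.inl h
    · exact Or.inr ((hu X ⟨hX, hSH.trans hHX⟩) ▸ hHX)
  set R := Cfsg.pResidual p P with hR
  obtain ⟨hsub, -, hdich', -, -⟩ := Cfsg.Agent.S2905.result hP S M hM hSM
  have hdich : ∀ N : Subgroup P, N.Normal → R ≤ N ∨ N ≤ M := fun N hN =>
    (hdich' N hN).imp id fun h => h.trans (normalCore_le M)
  have hp' : ∀ N : Subgroup P, N.IsSubnormal → N ≤ M → ¬ p ∣ Nat.card N := by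
    intro N hN hNM
    have h := hsub N hN hNM
    rw [hOp, le_bot_iff, inf_comm] at h
    have h2 := Cfsg.Lib.Local.not_dvd_relIndex_inf S hN
    rwa [h, relIndex_bot_left] at h2
  have hKnil : ∀ N : Subgroup P, K ≤ N → ¬ Group.IsNilpotent N := fun N hKN hn =>
    Cfsg.Lib.Core.component_not_le_solvable hK (IsNilpotent.to_isSolvable (G := N)) hKN
  have hKp : p ∣ Nat.card K := by
    by_contra h
    haveI : (Cfsg.pPrimeCore p P).Normal := inferInstance
    refine hKnil _ (Cfsg.Lib.Core.le_pPrimeCore_of_isSubnormal hK.1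
      (Cfsg.Lib.Core.coprime_iff_not_dvd'.2 h)) (PMin.isNilpotent_of_normal S hM huM hdich ?_)
    exact Cfsg.Lib.Core.pPrimeCore_not_dvd p P
  have hKM : ¬ K ≤ M := fun h => hp' K hK.1 h hKp
  have hbig : ∀ N : Subgroup P, N.Normal → K ≤ N → R ≤ N := fun N hN hKN =>
    (hdich N hN).resolve_right fun h => hKM (hKN.trans h)
  -- the layer
  set E := Cfsg.layer P with hE
  have hRE : R ≤ E := hbig E inferInstance (Cfsg.Lib.Core.le_layer hK)
  have hER : E ≤ R := PMin.perfect_le_pResidual Cfsg.Lib.Core.layer_perfect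
  have hFR : Cfsg.fittingSubgroup P ≤ R := by
    rcases hdich _ (Cfsg.Lib.Core.fittingSubgroup_normal' P) with h | h
    · exact absurd (((Cfsg.Lib.Core.le_layer hK).trans hER).trans h)
        (fun h' => hKnil _ h' (Cfsg.Lib.Core.fittingSubgroup_isNilpotent P))
    · exact Cfsg.Lib.Fusion.le_pResidual_of_coprime_card (Cfsg.Lib.Core.coprime_iff_not_dvd'.2
        (hp' _ (Subgroup.Normal.isSubnormal (Cfsg.Lib.Core.fittingSubgroup_normal' P)) h))
  have hF : Cfsg.generalizedFittingSubgroup P = E :=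
    le_antisymm (sup_le le_rfl (hFR.trans hRE)) le_sup_left
  have hES : E ⊔ (S : Subgroup P) = ⊤ := by
    rw [eq_top_iff, ← Cfsg.Lib.Fusion.sylow_sup_pResidual S]
    exact sup_le le_sup_right (hRE.trans le_sup_left)
  set W := ⨆ s : ↥(S : Subgroup P), K.map (MulAut.conj (s : P)).toMonoidHom with hW
  have hWE : W ≤ E := iSup_le fun s =>
    Cfsg.Lib.Core.le_layer (Cfsg.Lib.Core.IsComponent.map_conj hK _)
  have hKW : K ≤ W := le_iSup_of_le (1 : ↥(S : Subgroup P)) (fun x hx => ⟨x, hx, by simp⟩)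
  have hEW : E ≤ normalizer (W : Set P) := by
    intro g hg
    rw [Cfsg.Lib.Core.mem_normalizer_iff_map_conj, hW, Subgroup.map_iSup]
    refine iSup_congr fun s => Cfsg.Lib.Core.map_conj_eq_of_mem_normalizer ?_
    exact (sSup_le fun L hL => Cfsg.Lib.Core.component_le_normalizer hL
      (Cfsg.Lib.Core.IsComponent.map_conj hK _) : E ≤ _) hg
  have hWn : W.Normal := normalizer_eq_top_iff.1 (eq_top_iff.2
    (hES ▸ sup_le hEW (PMin.orbit_sup_normalized (S : Subgroup P) K)))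
  refine ⟨(le_antisymm hRE hER).trans hF.symm, hF,
    le_antisymm (hER.trans (hbig W hWn hKW)) hWE, ?_⟩
  -- the minimal group `K (S ∩ N(K))`
  set T := (S : Subgroup P) ⊓ normalizer (K : Set P) with hT
  set Y := K ⊔ T with hY
  have hTY : T ≤ Y := le_sup_right
  have hKY : K ≤ Y := le_sup_left
  haveI hK'n : (K.subgroupOf Y).Normal :=
    (normal_subgroupOf_iff_le_normalizer hKY).2 (sup_le le_normalizer inf_le_right)
  have hTK : T ⊓ K = (S : Subgroup P) ⊓ K := by
    rw [hT, inf_assoc, inf_eq_right.2 (le_normalizer : K ≤ normalizer (K : Set P))]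
  have htop : T.subgroupOf Y ⊔ K.subgroupOf Y = ⊤ := by
    rw [← subgroupOf_sup hTY hKY, subgroupOf_eq_top, sup_comm]
  have hnd : ¬ p ∣ (T.subgroupOf Y).index := by
    rw [PMin.index_eq_relIndex_of_sup_eq_top htop, relIndex_subgroupOf hKY, ← inf_relIndex_right, hTK]
    exact Cfsg.Lib.Local.not_dvd_relIndex_inf S hK.1
  have hTp : IsPGroup p (T.subgroupOf Y) :=
    (S.isPGroup'.to_le (inf_le_left : T ≤ (S : Subgroup P))).comap_of_injective Y.subtype
      Y.subtype_injective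
  have hmain : ∀ X : Subgroup P, T ≤ X → X ≤ Y → ¬ K ≤ X → X ≤ M := by
    intro X hTX hXY hKX
    set A := X ⊓ K with hA
    set B := ⨆ s : ↥(S : Subgroup P), A.map (MulAut.conj (s : P)).toMonoidHom with hB
    have hSB : (S : Subgroup P) ≤ normalizer (B : Set P) := PMin.orbit_sup_normalized _ _
    rcases huM (B ⊔ (S : Subgroup P)) le_sup_right with h | h
    · exfalso
      haveI : B.Normal := PMin.normal_of_sup_eq_top h hSB
      have hKB : K ≤ B :=
        ((Cfsg.Lib.Core.le_layer hK).trans hER).trans (PMin.pResidual_le_of_sup_sylow S B h)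
      set C := sSup {L : Subgroup P | Cfsg.IsComponent L ∧ L ≠ K} with hC
      have hBAC : B ≤ A ⊔ C := by
        refine iSup_le fun s => ?_
        by_cases hs : (s : P) ∈ normalizer (K : Set P)
        · refine le_sup_of_le_left ?_
          rintro _ ⟨a, ha, rfl⟩
          have hsX : (s : P) ∈ X := hTX ⟨s.2, hs⟩
          exact ⟨mul_mem (mul_mem hsX ha.1) (X.inv_mem hsX), (mem_normalizer_iff.1 hs a).1 ha.2⟩
        · refine le_sup_of_le_right ((map_mono inf_le_right).trans (le_sSup ⟨?_, ?_⟩))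
          · exact Cfsg.Lib.Core.IsComponent.map_conj hK _
          · exact fun he => hs (Cfsg.Lib.Core.mem_normalizer_iff_map_conj.2 he)
      have hCK : ⁅C, K⁆ = ⊥ := Cfsg.Lib.Core.commutator_sSup_left_eq_bot fun L hL =>
        Cfsg.Lib.Core.component_commute hL.1 hK hL.2
      have hCA : ⁅C, A⁆ = ⊥ := eq_bot_iff.2 ((commutator_mono le_rfl inf_le_right).trans hCK.le)
      have hdec : ∀ k ∈ K, ∃ a ∈ A, ∃ c ∈ K, a * c = k ∧ ∀ y ∈ K, c * y = y * c := by
        intro k hk
        obtain ⟨c, hc, a, ha, hca⟩ := (Cfsg.Lib.Core.mem_sup_of_commute hCA).1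
          (sup_comm A C ▸ (hKB.trans hBAC) hk)
        have he : a * c = k := by
          rw [← Cfsg.Lib.Core.commutator_eq_bot_iff_forall.1 hCA c hc a ha, hca]
        have hcK : c ∈ K := by
          have : c = a⁻¹ * k := by rw [← he]; group
          exact this ▸ mul_mem (inv_mem ha.2) hk
        exact ⟨a, ha, c, hcK, he, Cfsg.Lib.Core.commutator_eq_bot_iff_forall.1 hCK c hc⟩
      have hKA : ⁅K, K⁆ ≤ A := by
        refine commutator_le.2 fun k₁ hk₁ k₂ hk₂ => ?_
        obtain ⟨a₁, ha₁, c₁, hc₁, rfl, h₁⟩ := hdec k₁ hk₁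
        obtain ⟨a₂, ha₂, c₂, hc₂, rfl, h₂⟩ := hdec k₂ hk₂
        have e1 : ⁅a₁ * c₁, a₂ * c₂⁆ = ⁅a₁, a₂ * c₂⁆ := by
          rw [commutatorElement_def, commutatorElement_def, mul_inv_rev, mul_assoc a₁ c₁,
            h₁ _ hk₂]
          group
        have e2 : ⁅a₁, a₂ * c₂⁆ = ⁅a₁, a₂⁆ := by
          rw [commutatorElement_def, commutatorElement_def, mul_inv_rev]
          calc a₁ * (a₂ * c₂) * a₁⁻¹ * (c₂⁻¹ * a₂⁻¹) = a₁ * a₂ * (c₂ * a₁⁻¹) * c₂⁻¹ * a₂⁻¹ := by group
            _ = a₁ * a₂ * (a₁⁻¹ * c₂) * c₂⁻¹ * a₂⁻¹ := by rw [h₂ _ (inv_mem ha₁.2)]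
            _ = a₁ * a₂ * a₁⁻¹ * a₂⁻¹ := by group
        rw [e1, e2, commutatorElement_def]
        exact mul_mem (mul_mem (mul_mem ha₁ ha₂) (inv_mem ha₁)) (inv_mem ha₂)
      exact hKX ((Cfsg.Lib.Core.IsComponent.commutator_eq hK).ge.trans (hKA.trans inf_le_left))
    · intro x hx
      have hTN : T ≤ normalizer (K : Set P) := inf_le_right
      obtain ⟨t, ht, k, hk, rfl⟩ :=
        (Cfsg.Lib.Core.mem_sup_of_le_normalizer hTN).1 (show x ∈ T ⊔ K by rw [sup_comm]; exact hXY hx)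
      have hkX : k ∈ X := by simpa using mul_mem (inv_mem (hTX ht)) hx
      refine mul_mem (hSM ht.1) (h (mem_sup_left ?_))
      exact (le_iSup_of_le (1 : ↥(S : Subgroup P)) (fun z hz => ⟨z, hz, by simp⟩) : A ≤ B) ⟨hkX, hk⟩
  refine PMin.isPMinimal_of_sylow (hTp.toSylow hnd) ?_ (A := M.subgroupOf Y) ?_ ?_ ?_
  · rw [IsPGroup.toSylow_coe]
    intro hn
    haveI := hn
    have h2 : ((T ⊓ K).subgroupOf K).Normal := by
      refine (normal_subgroupOf_iff_le_normalizer inf_le_right).2 ?_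
      refine Cfsg.Lib.Core.le_normalizer_iff_conj_mem.mpr fun k hk x hx => ⟨?_, ?_⟩
      · exact (hn.conj_mem ⟨x, hTY hx.1⟩ hx.1 ⟨k, hKY hk⟩ : _)
      · exact mul_mem (mul_mem hk hx.2) (K.inv_mem hk)
    have h3 : T ⊓ K ≤ ⊥ := hOp ▸ Cfsg.Lib.Core.le_pCore_of_isSubnormal
      (Cfsg.Lib.Core.isSubnormal_of_normal_subgroupOf inf_le_right hK.1 h2)
      (S.isPGroup'.to_le (inf_le_left.trans inf_le_left))
    have h4 := Cfsg.Lib.Local.not_dvd_relIndex_inf S hK.1
    rw [← hTK, le_bot_iff.1 h3, relIndex_bot_left] at h4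
    exact h4 hKp
  · rw [Ne, subgroupOf_eq_top]
    exact fun h => hKM (hKY.trans h)
  · rw [IsPGroup.toSylow_coe]
    exact fun x hx => hSM hx.1
  · intro X hTX hX
    rw [IsPGroup.toSylow_coe] at hTX
    have h1 : T ≤ X.map Y.subtype := by
      rw [← map_subgroupOf_eq_of_le hTY]; exact map_mono hTX
    have h2 := hmain _ h1 (map_subtype_le X) fun hKX => hX (by
      rw [← comap_map_eq_self_of_injective Y.subtype_injective X, eq_top_iff]
      intro y _
      exact (sup_le hKX h1 : Y ≤ X.map Y.subtype) y.2)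
    exact map_le_iff_le_comap.1 h2

end Cfsg.Agent.S2906
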