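import Cfsg.Statements.S2907
import Cfsg.Agent.Lib.PGroup.Basic
-- import your own Cfsg.Agent.* helpers here

set_option autoImplicit false
open Cfsg

namespace Cfsg.Agent.S2907

/-- Let X be a finite semi-extraspecial p-group and x an element of X outside the centre. Then the index of C_X(x) in X equals the order of Z(X), and the commutators [x, y], y ∈ X, form exactly the centre Z(X). -/
theorem result {X : Type*} [Group X] [Finite X] {p : ℕ} [Fact p.Prime] (hX : Cfsg.IsSemiExtraspecial p X) (x : X) (hx : x ∉ Subgroup.center X) : (Subgroup.centralizer ({x} : Set X)).index = Nat.card ↥(Subgroup.center X) ∧ {z : X | ∃ y : X, z = x * y * x⁻¹ * y⁻¹} = (Subgroup.center X : Set X) := by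
  obtain ⟨⟨hp', hΦ, hder⟩, hY⟩ := hX
  set Z := Subgroup.center X
  have hmem : ∀ a b : X, a * b * a⁻¹ * b⁻¹ ∈ Z := fun a b => by
    rw [← hder, commutator_def]
    exact Subgroup.commutator_mem_commutator (Subgroup.mem_top a) (Subgroup.mem_top b)
  let f : X →* X := MonoidHom.mk' (fun y => x * y * x⁻¹ * y⁻¹) (by
    intro y y'
    have hc := Subgroup.mem_center_iff.mp (hmem x y')
    calc x * (y * y') * x⁻¹ * (y * y')⁻¹ = x * y * x⁻¹ * ((x * y' * x⁻¹ * y'⁻¹) * y⁻¹) := by group
      _ = x * y * x⁻¹ * (y⁻¹ * (x * y' * x⁻¹ * y'⁻¹)) := by rw [hc y⁻¹]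
      _ = x * y * x⁻¹ * y⁻¹ * (x * y' * x⁻¹ * y'⁻¹) := by group)
  have hfle : f.range ≤ Z := by
    rintro _ ⟨y, rfl⟩
    exact hmem x y
  have hrange : f.range = Z := by
    by_contra hne
    obtain ⟨M, hM, hle⟩ := (eq_top_or_exists_le_coatom (f.range.subgroupOf Z)).resolve_left
      fun h => hne (le_antisymm hfle (Subgroup.subgroupOf_eq_top.mp h))
    set Y := M.map Z.subtype
    have hYM : Y.subgroupOf Z = M := Subgroup.comap_map_eq_self_of_injective Z.subtype_injective M
    obtain ⟨hn, hext⟩ := hY Y (Subgroup.map_subtype_le M) (hYM.symm ▸ hM)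
    haveI := hn
    set q := QuotientGroup.mk' Y
    have hxq : q x ∈ Subgroup.center (X ⧸ Y) := by
      rw [Subgroup.mem_center_iff]
      intro c
      obtain ⟨y, rfl⟩ := QuotientGroup.mk'_surjective Y c
      have h1 : q (x * y * x⁻¹ * y⁻¹) = 1 :=
        (QuotientGroup.eq_one_iff _).mpr ⟨⟨_, hmem x y⟩, hle ⟨y, rfl⟩, rfl⟩
      rw [map_mul, map_mul, map_mul, map_inv, map_inv] at h1
      calc q y * q x = (q x * q y * (q x)⁻¹ * (q y)⁻¹) * (q y * q x) := by rw [h1, one_mul]
        _ = q x * q y := by group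
    have hle2 : Z.map q ≤ Subgroup.center (X ⧸ Y) := by
      rintro _ ⟨z, hz, rfl⟩
      rw [Subgroup.mem_center_iff]
      intro c
      obtain ⟨y, rfl⟩ := QuotientGroup.mk'_surjective Y c
      rw [← map_mul, ← map_mul, Subgroup.mem_center_iff.mp hz y]
    have hne1 : Z.map q ≠ ⊥ := by
      rw [ne_eq, Subgroup.map_eq_bot_iff, QuotientGroup.ker_mk']
      intro h
      exact hM.1 (by rw [← hYM]; exact Subgroup.subgroupOf_eq_top.mpr h)
    have heq : Z.map q = Subgroup.center (X ⧸ Y) := by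
      refine Subgroup.eq_of_le_of_card_ge hle2 ?_
      rw [hext.2]
      have hd : Nat.card ↥(Z.map q) ∣ p := hext.2 ▸ Subgroup.card_dvd_of_le hle2
      exact (((Nat.dvd_prime Fact.out).mp hd).resolve_left
        (fun h => hne1 (Subgroup.card_eq_one.mp h))).ge
    obtain ⟨z, hz, hzx⟩ := heq.ge hxq
    have hxz : z⁻¹ * x ∈ Y := QuotientGroup.eq.mp hzx
    exact hx (by simpa using Z.mul_mem hz (Subgroup.map_subtype_le M hxz))
  have hker : f.ker = Subgroup.centralizer ({x} : Set X) := by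
    ext y
    rw [MonoidHom.mem_ker, Subgroup.mem_centralizer_singleton_iff]
    show x * y * x⁻¹ * y⁻¹ = 1 ↔ _
    rw [mul_inv_eq_one, mul_inv_eq_iff_eq_mul]
    exact eq_comm
  refine ⟨?_, ?_⟩
  · rw [← hker, Subgroup.index_ker, hrange]
  · rw [← hrange]
    ext z
    exact ⟨fun ⟨y, hy⟩ => ⟨y, hy.symm⟩, fun ⟨y, hy⟩ => ⟨y, hy.symm⟩⟩

end Cfsg.Agent.S2907
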