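import Cfsg.Statements.S2908
import Cfsg.Agent.Lib.Coprime.Action
-- import your own Cfsg.Agent.* helpers here

set_option autoImplicit false
open Cfsg
open scoped commutatorElement

namespace Cfsg.Agent.S2908

/-- Let P be a p-subgroup of a finite group, normalized by a p-subgroup A and by a subgroup B of order prime to p that commutes elementwise with A. If [P, B] ≤ [P, A], then B centralizes P. -/
theorem result {G : Type*} [Group G] [Finite G] {p : ℕ} [Fact p.Prime] (P A B : Subgroup G) (hP : IsPGroup p ↥P) (hA : IsPGroup p ↥A) (hB : ¬ p ∣ Nat.card ↥B) (hnA : A ≤ Subgroup.normalizer (P : Set G)) (hnB : B ≤ Subgroup.normalizer (P : Set G)) (hAB : ⁅A, B⁆ = ⊥) (hcomm : ⁅P, B⁆ ≤ ⁅P, A⁆) : ⁅P, B⁆ = ⊥ := by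
  set L := P ⊔ A with hL
  have hLp : IsPGroup p ↥L := by rw [hL, sup_comm]; exact IsPGroup.to_sup_of_normal_right' hA hP hnA
  haveI := hLp.isNilpotent
  haveI := hP.isNilpotent
  set Q := ⁅P, B⁆ with hQdef
  have hQP : Q ≤ P := Cfsg.Lib.Coprime.commutator_le_of_le_normalizer hnB
  have hcop : (Nat.card B).Coprime (Nat.card P) := by
    obtain ⟨k, hk⟩ := IsPGroup.iff_card.mp hP
    rw [hk]
    exact Nat.Coprime.pow_right k (Nat.Coprime.symm ((Fact.out : p.Prime).coprime_iff_not_dvd.mpr hB))
  have hQQ : ⁅Q, B⁆ = Q := Cfsg.Lib.Coprime.commutator_commutator_eq hnB hcop (Or.inr inferInstance)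
  have key : ∀ n, Q ≤ L.lowerCentralSeries n := by
    intro n
    induction n with
    | zero => exact hQP.trans le_sup_left
    | succ n ih =>
      rw [Subgroup.lowerCentralSeries_succ]
      set N := ⁅L.lowerCentralSeries n, L⁆ with hN
      have hNL : L ≤ Subgroup.normalizer (N : Set G) := by
        rw [hN, ← Subgroup.lowerCentralSeries_succ]
        exact L.self_le_normalizer_lowerCentralSeries _
      have hconj : ∀ r ∈ L, ∀ m ∈ N, r * m * r⁻¹ ∈ N := fun r hr m hm =>
        (Subgroup.mem_normalizer_iff.mp (hNL hr) m).mp hm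
      have hR : ∀ b ∈ B, ⁅P, A⁆ ≤
          ({ carrier := {r | r ∈ L ∧ b * r * b⁻¹ * r⁻¹ ∈ N}
             one_mem' := ⟨L.one_mem, by simp⟩
             mul_mem' := fun {r s} hr hs => ⟨L.mul_mem hr.1 hs.1, by
               have h := N.mul_mem hr.2 (hconj r hr.1 _ hs.2)
               simpa [mul_assoc] using h⟩
             inv_mem' := fun {r} hr => ⟨L.inv_mem hr.1, by
               have h := hconj r⁻¹ (L.inv_mem hr.1) _ (N.inv_mem hr.2)
               simpa [mul_assoc] using h⟩ } : Subgroup G) := by
        intro b hb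
        rw [Subgroup.commutator_le]
        intro x hx a ha
        have hxL : x ∈ L := Subgroup.mem_sup_left hx
        have haL : a ∈ L := Subgroup.mem_sup_right ha
        have hr : ⁅x, a⁆ ∈ L := by
          rw [commutatorElement_def]
          exact L.mul_mem (L.mul_mem (L.mul_mem hxL haL) (L.inv_mem hxL)) (L.inv_mem haL)
        refine ⟨hr, ?_⟩
        have hba : b * a * b⁻¹ = a := by
          have := Subgroup.commutator_mem_commutator ha hb
          rw [hAB, Subgroup.mem_bot, commutatorElement_def, mul_inv_eq_one] at this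
          rw [← mul_inv_eq_iff_eq_mul.mp this, mul_inv_cancel_right]
        set q := b * x * b⁻¹ * x⁻¹ with hq
        have hqQ : q ∈ Q := by
          rw [hQdef, Subgroup.commutator_comm, hq, ← commutatorElement_def]
          exact Subgroup.commutator_mem_commutator hb hx
        have hqN : q ∈ L.lowerCentralSeries n := ih hqQ
        have hqr : q * ⁅x, a⁆ * q⁻¹ * ⁅x, a⁆⁻¹ ∈ N := by
          rw [hN, ← commutatorElement_def]
          exact Subgroup.commutator_mem_commutator hqN hr
        have hqa : ⁅x, a⁆ * (q * a * q⁻¹ * a⁻¹) * ⁅x, a⁆⁻¹ ∈ N := by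
          refine hconj _ hr _ ?_
          rw [hN, ← commutatorElement_def]
          exact Subgroup.commutator_mem_commutator hqN haL
        show b * ⁅x, a⁆ * b⁻¹ * ⁅x, a⁆⁻¹ ∈ N
        have he : b * ⁅x, a⁆ * b⁻¹ = (q * x) * a * (q * x)⁻¹ * a⁻¹ := by
          calc b * ⁅x, a⁆ * b⁻¹
              = (b * x * b⁻¹) * (b * a * b⁻¹) * (b * x * b⁻¹)⁻¹ * (b * a * b⁻¹)⁻¹ := by
                rw [commutatorElement_def]; group
            _ = _ := by rw [hba, hq, inv_mul_cancel_right]
        rw [he]
        have := N.mul_mem hqr hqa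
        simpa [commutatorElement_def, mul_assoc] using this
      rw [← hQQ, Subgroup.commutator_le]
      intro q hq b hb
      have hqL : q ∈ L := Subgroup.mem_sup_left (hQP hq)
      obtain ⟨-, h1⟩ := hR b hb (hcomm (Q.inv_mem hq))
      have := hconj q hqL _ h1
      simpa [commutatorElement_def, mul_assoc] using this
  obtain ⟨n, hn⟩ := (Subgroup.isNilpotent_iff_lowerCentralSeries L).mp inferInstance
  exact eq_bot_iff.mpr ((key n).trans hn.le)

end Cfsg.Agent.S2908
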