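import Cfsg.Statements.S2909
import Cfsg.Agent.Lib.Local.Basic
import Cfsg.Agent.Lib.Coprime.Generation
import Cfsg.Agent.S2908
-- import your own Cfsg.Agent.* helpers here

set_option autoImplicit false
open Cfsg
open scoped commutatorElement

namespace Cfsg.Agent.S2909

/-- Let p be a prime, E a normal p-subgroup of the finite group G, and U a non-cyclic elementary abelian p-subgroup of G such that either C_E(U) = C_E(u) for every nontrivial u ∈ U, or [E, U] = [E, ⟨u⟩] for every nontrivial u ∈ U. If R is a subgroup of order prime to p normalized by U, then [R, U] centralizes E. -/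
theorem result {G : Type*} [Group G] [Finite G] {p : ℕ} [Fact p.Prime] (E : Subgroup G) [E.Normal] (hE : IsPGroup p ↥E) (U : Subgroup G) (hU : Cfsg.IsElementaryAbelian p U) (hnc : ¬ IsCyclic ↥U) (hcond : (∀ u ∈ U, u ≠ 1 → E ⊓ Subgroup.centralizer (U : Set G) = E ⊓ Subgroup.centralizer ({u} : Set G)) ∨ (∀ u ∈ U, u ≠ 1 → ⁅E, U⁆ = ⁅E, Subgroup.zpowers u⁆)) (R : Subgroup G) (hR : ¬ p ∣ Nat.card ↥R) (hRU : U ≤ Subgroup.normalizer (R : Set G)) : ⁅R, U⁆ ≤ Subgroup.centralizer (E : Set G) := by
  haveI hUc : IsMulCommutative ↥U := hU.1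
  have hUp : IsPGroup p ↥U := fun x => ⟨1, Subtype.ext (by simpa using hU.2 x x.2)⟩
  have hpR : (Nat.card R).Coprime p := Nat.Coprime.symm ((Fact.out : p.Prime).coprime_iff_not_dvd.mpr hR)
  have hcop : (Nat.card U).Coprime (Nat.card R) := by
    obtain ⟨k, hk⟩ := IsPGroup.iff_card.mp hUp
    rw [hk]
    exact (hpR.pow_right k).symm
  rw [← Cfsg.Lib.Coprime.iSup_commutator_centralizer_cocyclic_eq hRU hcop]
  refine iSup₂_le fun B hB => ?_
  obtain ⟨hBU, a, ha, hBa⟩ := hB
  obtain ⟨u, hu, hu1⟩ : ∃ u ∈ B, u ≠ 1 := by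
    rcases B.bot_or_exists_ne_one with hb | hb
    · refine absurd ?_ hnc
      rw [hb, bot_sup_eq] at hBa
      exact hBa ▸ inferInstance
    · exact hb
  have huU : u ∈ U := hBU hu
  have hEn : ∀ K : Subgroup G, K ≤ Subgroup.normalizer (E : Set G) := Cfsg.Lib.Local.le_normalizer_normal
  set Y := R ⊓ Subgroup.centralizer (B : Set G) with hY
  set Q := ⁅Y, U⁆ with hQ
  have hYu : Y ≤ Subgroup.centralizer ({u} : Set G) :=
    inf_le_right.trans (Subgroup.centralizer_le (Set.singleton_subset_iff.mpr hu))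
  have hUu : U ≤ Subgroup.centralizer ({u} : Set G) := fun v hv =>
    Subgroup.mem_centralizer_singleton_iff.mpr (congrArg Subtype.val (hUc.is_comm.comm ⟨v, hv⟩ ⟨u, huU⟩))
  have hQu : Q ≤ Subgroup.centralizer ({u} : Set G) :=
    (Subgroup.commutator_mono hYu hUu).trans (Subgroup.commutator_le_self _)
  have hQR : Q ≤ R := (Subgroup.commutator_mono inf_le_left le_rfl).trans
    (Cfsg.Lib.Coprime.commutator_le_of_le_normalizer hRU)
  have hQp : (Nat.card Q).Coprime p := hpR.coprime_dvd_left (Subgroup.card_dvd_of_le hQR)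
  have hzQ : Q ≤ Subgroup.centralizer (Subgroup.zpowers u : Set G) := by
    rw [Subgroup.zpowers_eq_closure, Subgroup.centralizer_closure]
    exact hQu
  have hup : IsPGroup p ↥(Subgroup.zpowers u) := hUp.to_le (Subgroup.zpowers_le.mpr huU)
  suffices hbot : ⁅E, Q⁆ = ⊥ by
    rw [Subgroup.commutator_comm, Subgroup.commutator_eq_bot_iff_le_centralizer] at hbot
    exact hbot
  rcases hcond with hc | hc
  · refine Cfsg.Lib.Coprime.commutator_eq_bot_of_AxB E (Subgroup.zpowers u) Q hE hup hQp (hEn _)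
      (hEn _) hzQ ?_
    rw [Subgroup.zpowers_eq_closure, Subgroup.centralizer_closure, ← hc u huU hu1,
      Subgroup.le_centralizer_iff, hQ, Subgroup.commutator_le]
    intro y hy v hv
    rw [Subgroup.mem_centralizer_iff]
    intro f hf
    have hf' : y⁻¹ * f * y ∈ E ⊓ Subgroup.centralizer ({u} : Set G) :=
      ⟨(inferInstance : E.Normal).conj_mem' f hf.1 y,
        (Subgroup.centralizer ({u} : Set G)).mul_mem ((Subgroup.centralizer ({u} : Set G)).mul_mem
          ((Subgroup.centralizer ({u} : Set G)).inv_mem (hYu hy))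
          (Subgroup.centralizer_le (Set.singleton_subset_iff.mpr huU) hf.2)) (hYu hy)⟩
    rw [← hc u huU hu1] at hf'
    have h1 : v * (y⁻¹ * f * y) = (y⁻¹ * f * y) * v := Subgroup.mem_centralizer_iff.mp hf'.2 v hv
    have h2 : v * f = f * v := Subgroup.mem_centralizer_iff.mp hf.2 v hv
    rw [commutatorElement_def]
    calc f * (y * v * y⁻¹ * v⁻¹) = y * ((y⁻¹ * f * y) * v) * y⁻¹ * v⁻¹ := by group
      _ = y * v * y⁻¹ * (f * v⁻¹) := by rw [← h1]; group
      _ = y * v * y⁻¹ * (v⁻¹ * f) := by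
          have h3 : f * v⁻¹ = v⁻¹ * f := by
            rw [eq_inv_mul_iff_mul_eq, ← mul_assoc, h2, mul_inv_cancel_right]
          rw [h3]
      _ = y * v * y⁻¹ * v⁻¹ * f := by group
  · refine Cfsg.Agent.S2908.result E (Subgroup.zpowers u) Q hE hup ?_ (hEn _) (hEn _) ?_ ?_
    · exact (Fact.out : p.Prime).coprime_iff_not_dvd.mp hQp.symm
    · rw [Subgroup.commutator_comm, Subgroup.commutator_eq_bot_iff_le_centralizer]
      exact hzQ
    · rw [← hc u huU hu1]
      set D := ⁅E, U⁆ with hD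
      have hUD : U ≤ Subgroup.normalizer (D : Set G) := Subgroup.normalizer_commutator_ge_right E U
      have hYD : Y ≤ Subgroup.normalizer (D : Set G) := by
        intro y hy
        rw [hc u huU hu1, Subgroup.mem_normalizer_iff_map_conj_eq, Subgroup.map_commutator]
        refine congrArg₂ (⁅·, ·⁆) (Cfsg.Lib.Coprime.map_conj_eq_self (hEn _ hy)) ?_
        rw [MonoidHom.map_zpowers]
        refine congrArg Subgroup.zpowers ?_
        show y * u * y⁻¹ = u
        rw [Subgroup.mem_centralizer_singleton_iff.mp (hYu hy), mul_inv_cancel_right]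
      have hQS : Q ≤ Cfsg.Lib.Local.chainStab E D := by
        rw [hQ, Subgroup.commutator_comm]
        exact Cfsg.Lib.Local.commutator_le_of_le_of_le_normalizer
          (Cfsg.Lib.Local.le_chainStab_iff.mpr ⟨hUD, le_rfl⟩)
          ((le_inf (hEn Y) hYD).trans (Cfsg.Lib.Local.normalizer_inf_le_normalizer_chainStab E D))
      exact (Cfsg.Lib.Local.le_chainStab_iff.mp hQS).2

end Cfsg.Agent.S2909
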