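import Cfsg.Statements.S2910
import Cfsg.Agent.Lib.Fusion.Alperin
import Cfsg.Agent.Lib.PGroup.OddOmega
-- import your own Cfsg.Agent.* helpers here

set_option autoImplicit false
open Cfsg
open scoped commutatorElement

namespace Cfsg.Agent.S2910

/-- Let p be an odd prime dividing the order of the finite group G and P a Sylow p-subgroup of G. If Ω₁(P) (generated by the elements of order dividing p) is contained in the centre of G, then G has a normal p-complement. In particular, if G is quasisimple then Ω₁(P) is not central in G. -/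
theorem result {G : Type*} [Group G] [Finite G] {p : ℕ} [Fact p.Prime] (hp : p ≠ 2) (hdiv : p ∣ Nat.card G) (P : Sylow p G) (hZ : Cfsg.omegaOne p (P : Subgroup G) ≤ Subgroup.center G) : Cfsg.HasNormalPComplement p G ∧ ¬ Cfsg.IsQuasisimple G := by
  have hC : Cfsg.HasNormalPComplement p G := by
    refine (Cfsg.Lib.Fusion.frobenius P).mpr fun Q hQ g hg hco => ?_
    refine Cfsg.Lib.PGroup.le_centralizer_of_centralizes_omega hp (Subgroup.zpowers g) Q
      (P.isPGroup'.to_le hQ) (Subgroup.zpowers_le.mpr hg) ?_ ?_ (Subgroup.mem_zpowers g)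
    · obtain ⟨k, hk⟩ := IsPGroup.iff_card.mp (P.isPGroup'.to_le hQ)
      rw [Nat.card_zpowers, hk]
      exact hco.pow_right k
    · intro x hx hxp a _
      have : x ∈ Subgroup.center G := hZ (Subgroup.subset_closure ⟨hQ hx, hxp⟩)
      exact Subgroup.mem_center_iff.mp this a
  refine ⟨hC, fun hq => ?_⟩
  have hperf : commutator G = ⊤ := Group.isPerfect_def.1 hq.1
  have hle : commutator G ≤ Cfsg.pResidual p G ⊔ (commutator ↥(P : Subgroup G)).map (P : Subgroup G).subtype := by
    rw [commutator_def, Subgroup.commutator_le]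
    intro a _ b _
    obtain ⟨x, hx, m, hm, rfl⟩ := Cfsg.Lib.Fusion.exists_mul_of_sylow P a
    obtain ⟨y, hy, l, hl, rfl⟩ := Cfsg.Lib.Fusion.exists_mul_of_sylow P b
    have hxy : ⁅x, y⁆ ∈ (commutator ↥(P : Subgroup G)).map (P : Subgroup G).subtype :=
      ⟨⁅(⟨x, hx⟩ : ↥(P : Subgroup G)), ⟨y, hy⟩⁆,
        Subgroup.commutator_mem_commutator (Subgroup.mem_top _) (Subgroup.mem_top _),
        by simp [commutatorElement_def]⟩
    set N := Cfsg.pResidual p G
    haveI : N.Normal := Cfsg.Lib.Fusion.pResidual_normal p G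
    have hq' : QuotientGroup.mk' N ⁅x * m, y * l⁆ = QuotientGroup.mk' N ⁅x, y⁆ := by
      simp only [map_commutatorElement, map_mul, (QuotientGroup.eq_one_iff m).mpr hm,
        (QuotientGroup.eq_one_iff l).mpr hl, QuotientGroup.mk'_apply, mul_one]
    obtain ⟨n, hn, hne⟩ : ∃ n ∈ N, ⁅x * m, y * l⁆ = ⁅x, y⁆ * n :=
      ⟨⁅x, y⁆⁻¹ * ⁅x * m, y * l⁆, QuotientGroup.eq.mp hq'.symm, by group⟩
    rw [hne]
    exact mul_mem (Subgroup.mem_sup_right hxy) (Subgroup.mem_sup_left hn)
  rw [hperf, top_le_iff] at hle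
  haveI := P.isPGroup'.isNilpotent
  have hbot : (P : Subgroup G) ≠ ⊥ := by
    intro hb
    apply P.not_dvd_index
    rwa [hb, Subgroup.index_bot]
  haveI : Nontrivial ↥(P : Subgroup G) := (Subgroup.nontrivial_iff_ne_bot _).mpr hbot
  have hlt : commutator ↥(P : Subgroup G) ≠ ⊤ :=
    (Group.IsSolvable.commutator_lt_top_of_nontrivial ↥(P : Subgroup G)).ne
  have hinf := (Cfsg.Lib.Fusion.hasNormalPComplement_iff_inf P).mp hC
  apply hlt
  rw [eq_top_iff]
  intro x _
  have hx : (x : G) ∈ Cfsg.pResidual p G ⊔ (commutator ↥(P : Subgroup G)).map (P : Subgroup G).subtype := by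
    rw [hle]; exact Subgroup.mem_top _
  haveI : (Cfsg.pResidual p G).Normal := Cfsg.Lib.Fusion.pResidual_normal p G
  rw [Subgroup.mem_sup_of_normal_left] at hx
  obtain ⟨n, hn, c, ⟨c', hc', rfl⟩, hx⟩ := hx
  have hnP : n ∈ (P : Subgroup G) := by
    have : n = (x : G) * (c' : G)⁻¹ := by rw [← hx, Subgroup.coe_subtype, mul_inv_cancel_right]
    rw [this]
    exact mul_mem x.2 (inv_mem c'.2)
  have hn1 : n = 1 := Subgroup.mem_bot.mp (hinf ▸ (⟨hn, hnP⟩ : n ∈ Cfsg.pResidual p G ⊓ (P : Subgroup G)))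
  rw [hn1, one_mul] at hx
  exact (Subtype.ext hx : c' = x) ▸ hc'

end Cfsg.Agent.S2910
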