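import Cfsg.Statements.S2911
import Cfsg.Agent.S0111
import Cfsg.Agent.Lib.Fusion.Abelian
import Cfsg.Agent.Lib.Core.Basic
-- import your own Cfsg.Agent.* helpers here

set_option autoImplicit false
open Cfsg

namespace Cfsg.Agent.S2911

abbrev P := Multiplicative (ZMod 2) × DihedralGroup 4

def χ (a b : ZMod 2) : P →* Multiplicative (ZMod 2) :=
  MonoidHom.mk' (fun x => x.1 * Multiplicative.ofAdd (match x.2 with
    | .r k => (k.val : ZMod 2) * a
    | .sr k => b + (k.val : ZMod 2) * a)) (by revert a b; decide)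

def eP : P := (Multiplicative.ofAdd 1, 1)
def cP : P := (1, .r 2)
def sP : P := (1, .sr 0)
def tP : P := (1, .sr 1)

/-- Every noncentral involution is conjugate to one of four. -/
theorem rep : ∀ u : P, u * u = 1 → ¬ (∀ v : P, v * u = u * v) →
    ∃ q : P, q * u * q⁻¹ = sP ∨ q * u * q⁻¹ = sP * eP ∨ q * u * q⁻¹ = tP ∨ q * u * q⁻¹ = tP * eP := by decide

theorem central_cases : ∀ u : P, u * u = 1 → (∀ v : P, v * u = u * v) →
    u = 1 ∨ u = eP ∨ u = cP ∨ u = eP * cP := by decide

theorem squares : ∀ u : P, u * u = 1 ∨ u * u = cP := by decide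

variable {G : Type*} [Group G] [Finite G]

set_option maxHeartbeats 2000000 in
theorem core (S : Sylow 2 G) (ε : ↥(S : Subgroup G) ≃* P) : ∃ H : Subgroup G, H.index = 2 := by
  classical
  haveI : Fact (Nat.Prime 2) := ⟨Nat.prime_two⟩
  by_contra hno
  push Not at hno
  set ι : P →* G := (S : Subgroup G).subtype.comp ε.symm.toMonoidHom with hι
  have hinj : Function.Injective ι := (S : Subgroup G).subtype_injective.comp ε.symm.injective
  have hιS : ∀ u, ι u ∈ (S : Subgroup G) := fun u => (ε.symm u).2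
  have hsurj : ∀ x ∈ (S : Subgroup G), ∃ u, ι u = x := fun x hx => ⟨ε ⟨x, hx⟩, by simp [hι]⟩
  have hrange : (⊤ : Subgroup P).map ι = (S : Subgroup G) := le_antisymm
    (by rintro _ ⟨u, -, rfl⟩; exact hιS u)
    (fun x hx => by obtain ⟨u, hu⟩ := hsurj x hx; exact ⟨u, trivial, hu⟩)
  -- conjugation classes
  let R : P → P → Prop := fun u v => ∃ g : G, g * ι u * g⁻¹ = ι v
  have hRs : ∀ {u v}, R u v → R v u := by
    rintro u v ⟨g, hg⟩
    exact ⟨g⁻¹, by rw [← hg]; group⟩
  have hRt : ∀ {u v w}, R u v → R v w → R u w := by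
    rintro u v w ⟨g, hg⟩ ⟨k, hk⟩
    exact ⟨k * g, by rw [← hk, ← hg]; group⟩
  have hRc : ∀ (q u : P), R u (q * u * q⁻¹) := fun q u => ⟨ι q, by simp [map_mul, map_inv]⟩
  -- fusion of central elements
  have hB : ∀ u v : P, u * u = 1 → v * v = 1 → (∀ w, w * u = u * w) → (∀ w, w * v = v * w) → R u v → u = v := by
    intro u v hu2 hv2 hu hv ⟨g, hg⟩
    set N := Subgroup.normalizer ((S : Subgroup G) : Set G) with hN
    have hC : ∀ w : P, (∀ x, x * w = w * x) → (S : Subgroup G) ≤ Subgroup.centralizer {ι w} := by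
      intro w hw x hx
      obtain ⟨x, rfl⟩ := hsurj x hx
      rw [Subgroup.mem_centralizer_singleton_iff, ← map_mul, hw, map_mul]
    -- Burnside
    have hS1 := hC v hv
    have hS2 : ((g • S : Sylow 2 G) : Subgroup G) ≤ Subgroup.centralizer {ι v} := by
      rintro _ ⟨x, hx, rfl⟩
      rw [Subgroup.mem_centralizer_singleton_iff, ← hg]
      have h1 := Subgroup.mem_centralizer_singleton_iff.1 (hC u hu hx)
      show g * x * g⁻¹ * (g * ι u * g⁻¹) = g * ι u * g⁻¹ * (g * x * g⁻¹)
      calc g * x * g⁻¹ * (g * ι u * g⁻¹) = g * (x * ι u) * g⁻¹ := by group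
        _ = g * (ι u * x) * g⁻¹ := by rw [h1]
        _ = _ := by group
    obtain ⟨k, hk⟩ := MulAction.exists_smul_eq (↥(Subgroup.centralizer {ι v}))
      ((g • S).subtype hS2) (S.subtype hS1)
    rw [Sylow.smul_subtype] at hk
    have hk' : (k : G) • g • S = S := Sylow.subtype_injective hk
    set n := (k : G) * g with hn
    have hnN : n ∈ N := Sylow.smul_eq_iff_mem_normalizer.1 (by rw [hn, mul_smul, hk'])
    have hnu : n * ι u * n⁻¹ = ι v := by
      have := Subgroup.mem_centralizer_singleton_iff.1 k.2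
      rw [hn, show (k : G) * g * ι u * ((k : G) * g)⁻¹ = k * (g * ι u * g⁻¹) * (k : G)⁻¹ by group, hg, this,
        mul_inv_cancel_right]
    -- the normalizer acts on the central involutions through a group of order two
    have hz : ∀ m ∈ N, ∀ w : P, w * w = 1 → (∀ x, x * w = w * x) →
        ∃ w' : P, w' * w' = 1 ∧ (∀ x, x * w' = w' * x) ∧ m * ι w * m⁻¹ = ι w' := by
      intro m hm w hw2 hw
      obtain ⟨w', hw'⟩ := hsurj _ ((Subgroup.mem_normalizer_iff.1 hm _).1 (hιS w))
      refine ⟨w', hinj ?_, fun x => hinj ?_, hw'.symm⟩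
      · rw [map_mul, hw', map_one, show m * ι w * m⁻¹ * (m * ι w * m⁻¹) = m * (ι w * ι w) * m⁻¹ by group,
          ← map_mul, hw2, map_one]
        group
      · rw [map_mul, map_mul, hw']
        obtain ⟨y, hy⟩ := hsurj _ ((Subgroup.mem_normalizer_iff.1 (N.inv_mem hm) _).1 (hιS x))
        have e : ι x = m * ι y * m⁻¹ := by rw [hy]; group
        rw [e, show m * ι y * m⁻¹ * (m * ι w * m⁻¹) = m * (ι y * ι w) * m⁻¹ by group, ← map_mul, hw, map_mul]
        group
    have hcfix : ∀ m ∈ N, m * ι cP * m⁻¹ = ι cP := by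
      intro m hm
      have hc : cP = ((1, .r 1) : P) * (1, .r 1) := by decide
      obtain ⟨w, hw⟩ := hsurj _ ((Subgroup.mem_normalizer_iff.1 hm _).1 (hιS (1, .r 1)))
      have e : m * ι cP * m⁻¹ = ι (w * w) := by rw [hc, map_mul, map_mul, hw]; group
      rcases squares w with h | h
      · exfalso
        rw [h, map_one, conj_eq_one_iff, ← map_one ι] at e
        exact absurd (hinj e) (by decide)
      · rw [e, h]
    -- every element of the normalizer fixes `eP`
    have hefix : ∀ m ∈ N, m * ι eP * m⁻¹ = ι eP := by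
      have hstep : ∀ m ∈ N, m * ι eP * m⁻¹ = ι eP ∨ m * ι eP * m⁻¹ = ι (eP * cP) := by
        intro m hm
        obtain ⟨w, hw2, hw, hwe⟩ := hz m hm eP (by decide) (by decide)
        rcases central_cases w hw2 hw with h | h | h | h
        · exfalso
          rw [h, map_one, conj_eq_one_iff, ← map_one ι] at hwe
          exact absurd (hinj hwe) (by decide)
        · exact Or.inl (h ▸ hwe)
        · exfalso
          rw [h, ← hcfix m hm] at hwe
          exact absurd (hinj (mul_left_cancel (mul_right_cancel hwe))) (by decide)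
        · exact Or.inr (h ▸ hwe)
      let K : Subgroup ↥N :=
        { carrier := {m | (m : G) * ι eP * (m : G)⁻¹ = ι eP}
          one_mem' := by simp
          mul_mem' := fun {a b} ha hb => by
            simp only [Set.mem_setOf_eq, Subgroup.coe_mul] at *
            rw [show (a : G) * b * ι eP * ((a : G) * b)⁻¹ = a * ((b : G) * ι eP * (b : G)⁻¹) * (a : G)⁻¹ by group,
              hb, ha]
          inv_mem' := fun {a} ha => by
            simp only [Set.mem_setOf_eq, InvMemClass.coe_inv] at *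
            conv_lhs => rw [← ha]
            group }
      have hsq : ∀ m : ↥N, m * m ∈ K := by
        intro m
        show ((m * m : ↥N) : G) * ι eP * ((m * m : ↥N) : G)⁻¹ = ι eP
        rw [Subgroup.coe_mul, show (m : G) * m * ι eP * ((m : G) * m)⁻¹ = m * ((m : G) * ι eP * (m : G)⁻¹) * (m : G)⁻¹ by group]
        rcases hstep m m.2 with h | h
        · rw [h, h]
        · rw [h, map_mul, show (m : G) * (ι eP * ι cP) * (m : G)⁻¹ = (m * ι eP * (m : G)⁻¹) * (m * ι cP * (m : G)⁻¹) by group,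
            h, hcfix m m.2, map_mul, mul_assoc, ← map_mul, show cP * cP = 1 by decide, map_one, mul_one]
      intro m hm
      have hSK : (S : Subgroup G).subgroupOf N ≤ K := by
        intro x hx
        show (x : G) * ι eP * (x : G)⁻¹ = ι eP
        rw [show (x : G) * ι eP = ι eP * x from Subgroup.mem_centralizer_singleton_iff.1 (hC eP (by decide) hx), mul_inv_cancel_right]
      set i := ((S : Subgroup G).subgroupOf N).index with hi
      obtain ⟨j, hj⟩ : Odd i := by
        rw [Nat.odd_iff, ← Nat.two_dvd_ne_zero]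
        exact fun h => S.not_dvd_index (h.trans (Subgroup.relIndex_dvd_index_of_le Subgroup.le_normalizer))
      haveI : ((S : Subgroup G).subgroupOf N).Normal := Subgroup.normal_in_normalizer
      have h1 : (⟨m, hm⟩ : ↥N) ^ i ∈ K := hSK (Subgroup.pow_index_mem _ _)
      rw [hj, pow_succ, pow_mul, pow_two] at h1
      exact (Subgroup.mul_mem_cancel_left K (K.pow_mem (hsq _) j)).1 h1
    refine hinj ?_
    rw [← hnu]
    rcases central_cases u hu2 hu with rfl | rfl | rfl | rfl
    · simp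
    · rw [hefix n hnN]
    · rw [hcfix n hnN]
    · rw [map_mul, show n * (ι eP * ι cP) * n⁻¹ = (n * ι eP * n⁻¹) * (n * ι cP * n⁻¹) by group,
        hefix n hnN, hcfix n hnN]
  -- Thompson transfer
  have hT : ∀ (a b : ZMod 2) (w : P), w * w = 1 → (∀ x, x * w = w * x) → χ a b w ≠ 1 →
      ∃ v : P, χ a b v = 1 ∧ R w v ∧ (v = sP ∨ v = sP * eP ∨ v = tP ∨ v = tP * eP) := by
    intro a b w hw2 hw hwχ
    set Q := (χ a b).ker.map ι with hQ
    have hidx : Q.relIndex (S : Subgroup G) = 2 := by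
      rw [hQ, ← hrange, Subgroup.relIndex_map_map_of_injective _ _ hinj, Subgroup.relIndex_top_right, Subgroup.index_ker]
      have hsur : Function.Surjective (χ a b) := fun z => by
        rcases (show ∀ z y : Multiplicative (ZMod 2), y ≠ 1 → z = 1 ∨ z = y by decide) z _ hwχ with h | h
        · exact ⟨1, by rw [map_one, h]⟩
        · exact ⟨w, h.symm⟩
      rw [MonoidHom.range_eq_top.2 hsur, Subgroup.card_top, Nat.card_eq_fintype_card]
      rfl
    rcases Cfsg.Agent.S0111.result S Q (fun x hx => by obtain ⟨y, -, rfl⟩ := hx; exact hιS y) hidx (ι w)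
      (by
        refine orderOf_eq_prime ?_ fun e => hwχ ?_
        · rw [pow_two, ← map_mul, hw2, map_one]
        · rw [← map_one ι] at e; rw [hinj e, map_one])
      (hιS w) (fun ⟨y, hy, e⟩ => hwχ (hinj e ▸ hy)) with ⟨M, -, hM, -⟩ | ⟨g, hg⟩
    · exact absurd hM (hno M)
    · obtain ⟨v, hv, e⟩ := hg
      have hRwv : R w v := ⟨g, e.symm⟩
      have hv2 : v * v = 1 := hinj (by
        rw [map_mul, e, map_one, show g * ι w * g⁻¹ * (g * ι w * g⁻¹) = g * (ι w * ι w) * g⁻¹ by group,
          ← map_mul, hw2, map_one]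
        group)
      have hvc : ¬ ∀ x, x * v = v * x := fun hvc => by
        have := hB w v hw2 hv2 hw hvc hRwv
        exact hwχ (this.symm ▸ hv)
      obtain ⟨q, hq⟩ := rep v hv2 hvc
      refine ⟨q * v * q⁻¹, ?_, hRt hRwv (hRc q v), hq⟩
      rw [map_mul, map_mul, MonoidHom.mem_ker.1 hv, map_inv, mul_one, mul_inv_cancel]
  have hdis : ∀ v, R eP v → R (eP * cP) v → False := fun v h1 h2 =>
    absurd (hB eP (eP * cP) (by decide) (by decide) (by decide) (by decide) (hRt h1 (hRs h2))) (by decide)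
  have hfour : ∀ w : P, w * w = 1 → (∀ x, x * w = w * x) → (∀ a b, χ a b w ≠ 1) →
      (R w sP ∨ R w tP) ∧ (R w (sP * eP) ∨ R w (tP * eP)) ∧ (R w sP ∨ R w (tP * eP)) ∧ (R w (sP * eP) ∨ R w tP) := by
    intro w hw2 hw hχ
    refine ⟨?_, ?_, ?_, ?_⟩
    · obtain ⟨v, hv, hR, rfl | rfl | rfl | rfl⟩ := hT 0 0 w hw2 hw (hχ 0 0) <;>
        first | exact Or.inl hR | exact Or.inr hR | exact absurd hv (by decide)
    · obtain ⟨v, hv, hR, rfl | rfl | rfl | rfl⟩ := hT 0 1 w hw2 hw (hχ 0 1) <;>
        first | exact Or.inl hR | exact Or.inr hR | exact absurd hv (by decide)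
    · obtain ⟨v, hv, hR, rfl | rfl | rfl | rfl⟩ := hT 1 0 w hw2 hw (hχ 1 0) <;>
        first | exact Or.inl hR | exact Or.inr hR | exact absurd hv (by decide)
    · obtain ⟨v, hv, hR, rfl | rfl | rfl | rfl⟩ := hT 1 1 w hw2 hw (hχ 1 1) <;>
        first | exact Or.inl hR | exact Or.inr hR | exact absurd hv (by decide)
  obtain ⟨a1, a2, a3, a4⟩ := hfour eP (by decide) (by decide) (by decide)
  obtain ⟨b1, b2, b3, b4⟩ := hfour (eP * cP) (by decide) (by decide) (by decide)
  -- the final contradiction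
  have final : ∀ (s t : P), s * s = 1 → s * eP = eP * s → s * cP = cP * s →
      (∀ v : P, v * v = 1 → v = 1 ∨ v = eP ∨ v = cP ∨ v = eP * cP ∨ v = s ∨ v = s * eP ∨ v = s * cP ∨
        v = s * eP * cP ∨ v = t ∨ v = t * eP ∨ v = t * cP ∨ v = t * eP * cP) →
      (∃ q : P, q * s * q⁻¹ = s * cP) → (∃ q : P, q * (s * eP) * q⁻¹ = s * eP * cP) →
      (∃ q : P, q * t * q⁻¹ = t * cP) → (∃ q : P, q * (t * eP) * q⁻¹ = t * eP * cP) →
      s ≠ eP → R eP s → R eP (s * eP) → R (eP * cP) t → R (eP * cP) (t * eP) → False := by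
    intro s t hs2 hse hsc hlist hq1 hq2 hq3 hq4 hne r1 r2 r3 r4
    obtain ⟨g, hg⟩ := hRs r1
    have ecc : (S : Subgroup G) ≤ Subgroup.centralizer {ι eP} := fun x hx => by
      obtain ⟨x, rfl⟩ := hsurj x hx
      rw [Subgroup.mem_centralizer_singleton_iff, ← map_mul, (by decide : ∀ z : P, z * eP = eP * z) x, map_mul]
    let W : Subgroup P := Subgroup.closure {eP, cP, s}
    have hWs : W.map ι ≤ Subgroup.centralizer {ι s} := by
      rw [MonoidHom.map_closure, Subgroup.closure_le]
      rintro _ ⟨x, hx, rfl⟩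
      rw [SetLike.mem_coe, Subgroup.mem_centralizer_singleton_iff, ← map_mul, ← map_mul]
      rcases hx with rfl | rfl | rfl
      · rw [hse]
      · rw [hsc]
      · rfl
    set W' := (W.map ι).map (MulAut.conj g).toMonoidHom with hW'
    have hW'C : W' ≤ Subgroup.centralizer {ι eP} := by
      rintro _ ⟨x, hx, rfl⟩
      rw [Subgroup.mem_centralizer_singleton_iff, ← hg]
      have h1 := Subgroup.mem_centralizer_singleton_iff.1 (hWs hx)
      show g * x * g⁻¹ * (g * ι s * g⁻¹) = g * ι s * g⁻¹ * (g * x * g⁻¹)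
      calc g * x * g⁻¹ * (g * ι s * g⁻¹) = g * (x * ι s) * g⁻¹ := by group
        _ = g * (ι s * x) * g⁻¹ := by rw [h1]
        _ = _ := by group
    have hW'p : IsPGroup 2 W' := ((S.2 : IsPGroup 2 (S : Subgroup G)).to_le
      (by rintro _ ⟨x, -, rfl⟩; exact hιS x : W.map ι ≤ (S : Subgroup G))).map _
    obtain ⟨T, hTle⟩ := (hW'p.comap_of_injective (Subgroup.centralizer {ι eP}).subtype
      (Subgroup.subtype_injective _) : IsPGroup 2 ↥(W'.subgroupOf (Subgroup.centralizer {ι eP}))).exists_le_sylow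
    obtain ⟨h, hh⟩ := MulAction.exists_smul_eq (↥(Subgroup.centralizer {ι eP})) T (S.subtype ecc)
    have himg : ∀ x ∈ W, ∃ y : P, ι y = (h : G) * (g * ι x * g⁻¹) * (h : G)⁻¹ := by
      intro x hx
      refine hsurj _ ?_
      have hm : g * ι x * g⁻¹ ∈ W' := ⟨ι x, ⟨x, hx, rfl⟩, rfl⟩
      have h1 : MulAut.conj h (⟨_, hW'C hm⟩ : ↥(Subgroup.centralizer {ι eP})) ∈ ((h • T : Sylow 2 _) : Subgroup _) :=
        ⟨_, hTle (show (⟨_, hW'C hm⟩ : ↥(Subgroup.centralizer {ι eP})) ∈ W'.subgroupOf _ from hm), rfl⟩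
      rw [hh] at h1
      exact h1
    have hes : (h : G) * (g * ι s * g⁻¹) * (h : G)⁻¹ = ι eP := by
      rw [hg, Subgroup.mem_centralizer_singleton_iff.1 h.2, mul_inv_cancel_right]
    obtain ⟨ye, hye⟩ := himg eP (Subgroup.subset_closure (Or.inl rfl))
    obtain ⟨yc, hyc⟩ := himg cP (Subgroup.subset_closure (Or.inr (Or.inl rfl)))
    set k := (h : G) * g with hk
    have hyek : k * ι eP * k⁻¹ = ι ye := by rw [hye, hk]; group
    have hyck : k * ι cP * k⁻¹ = ι yc := by rw [hyc, hk]; group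
    have hRe : R eP ye := ⟨k, hyek⟩
    have hRcc : R cP yc := ⟨k, hyck⟩
    have hye2 : ye * ye = 1 := hinj (by
      rw [map_mul, ← hyek, map_one, show k * ι eP * k⁻¹ * (k * ι eP * k⁻¹) = k * (ι eP * ι eP) * k⁻¹ by group,
        ← map_mul, show eP * eP = 1 by decide, map_one]; group)
    have hyc2 : yc * yc = 1 := hinj (by
      rw [map_mul, ← hyck, map_one, show k * ι cP * k⁻¹ * (k * ι cP * k⁻¹) = k * (ι cP * ι cP) * k⁻¹ by group,
        ← map_mul, show cP * cP = 1 by decide, map_one]; group)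
    have hyne : ye ≠ eP := fun e => hne (hinj (by
      have h2 : k * ι s * k⁻¹ = ι eP := by rw [← hes, hk]; group
      exact mul_left_cancel (mul_right_cancel (h2.trans (e ▸ hyek.symm)))))
    have hR1 : ∀ {u}, R u 1 → u = 1 := fun {u} ⟨g', hg'⟩ => by
      rw [map_one, conj_eq_one_iff, ← map_one ι] at hg'; exact hinj hg'
    have key : ∀ v, v * v = 1 → ((v = s ∨ v = s * eP ∨ v = s * cP ∨ v = s * eP * cP) ∧ R eP v) ∨
        ((v = t ∨ v = t * eP ∨ v = t * cP ∨ v = t * eP * cP) ∧ R (eP * cP) v) ∨ v = 1 ∨ v = eP ∨ v = cP ∨ v = eP * cP := by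
      intro v hv
      obtain ⟨q1, hq1⟩ := hq1; obtain ⟨q2, hq2⟩ := hq2; obtain ⟨q3, hq3⟩ := hq3; obtain ⟨q4, hq4⟩ := hq4
      rcases hlist v hv with h | h | h | h | h | h | h | h | h | h | h | h <;> subst h
      · exact Or.inr (Or.inr (Or.inl rfl))
      · exact Or.inr (Or.inr (Or.inr (Or.inl rfl)))
      · exact Or.inr (Or.inr (Or.inr (Or.inr (Or.inl rfl))))
      · exact Or.inr (Or.inr (Or.inr (Or.inr (Or.inr rfl))))
      · exact Or.inl ⟨Or.inl rfl, r1⟩
      · exact Or.inl ⟨Or.inr (Or.inl rfl), r2⟩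
      · exact Or.inl ⟨Or.inr (Or.inr (Or.inl rfl)), hRt r1 (hq1 ▸ hRc q1 s)⟩
      · exact Or.inl ⟨Or.inr (Or.inr (Or.inr rfl)), hRt r2 (hq2 ▸ hRc q2 (s * eP))⟩
      · exact Or.inr (Or.inl ⟨Or.inl rfl, r3⟩)
      · exact Or.inr (Or.inl ⟨Or.inr (Or.inl rfl), r4⟩)
      · exact Or.inr (Or.inl ⟨Or.inr (Or.inr (Or.inl rfl)), hRt r3 (hq3 ▸ hRc q3 t)⟩)
      · exact Or.inr (Or.inl ⟨Or.inr (Or.inr (Or.inr rfl)), hRt r4 (hq4 ▸ hRc q4 (t * eP))⟩)
    have hcase : (ye = s ∨ ye = s * eP ∨ ye = s * cP ∨ ye = s * eP * cP) := by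
      rcases key ye hye2 with ⟨h1, -⟩ | ⟨-, h1⟩ | h1 | h1 | h1 | h1
      · exact h1
      · exact (hdis ye hRe h1).elim
      · exact absurd (hR1 (h1 ▸ hRe)) (by decide)
      · exact absurd h1 hyne
      · exact absurd (hB eP cP (by decide) (by decide) (by decide) (by decide) (h1 ▸ hRe)) (by decide)
      · exact absurd (hB eP _ (by decide) (by decide) (by decide) (by decide) (h1 ▸ hRe)) (by decide)
    have hyceq : yc = cP := by
      rcases key yc hyc2 with ⟨-, h1⟩ | ⟨-, h1⟩ | h1 | h1 | h1 | h1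
      · exact absurd (hB cP eP (by decide) (by decide) (by decide) (by decide) (hRt hRcc (hRs h1))) (by decide)
      · exact absurd (hB cP _ (by decide) (by decide) (by decide) (by decide) (hRt hRcc (hRs h1))) (by decide)
      · exact absurd (hR1 (h1 ▸ hRcc)) (by decide)
      · exact absurd (hB cP eP (by decide) (by decide) (by decide) (by decide) (h1 ▸ hRcc)) (by decide)
      · exact h1
      · exact absurd (hB cP _ (by decide) (by decide) (by decide) (by decide) (h1 ▸ hRcc)) (by decide)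
    have hprod : R (eP * cP) (ye * cP) := ⟨k, by
      rw [map_mul, map_mul, ← hyek]
      conv_rhs => rw [← hyceq, ← hyck]
      group⟩
    obtain ⟨q1, hq1⟩ := hq1; obtain ⟨q2, hq2⟩ := hq2
    have hcc : ∀ x : P, x * cP * cP = x := by decide
    rcases hcase with h1 | h1 | h1 | h1 <;> rw [h1] at hprod
    · exact hdis _ (hRt r1 (hq1 ▸ hRc q1 s)) hprod
    · exact hdis _ (hRt r2 (hq2 ▸ hRc q2 (s * eP))) hprod
    · rw [hcc] at hprod; exact hdis _ r1 hprod
    · rw [hcc] at hprod; exact hdis _ r2 hprod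
  have hd : ∀ v, R eP v → ¬ R (eP * cP) v := fun v => hdis v
  by_cases hs : R eP sP
  · have hb := hd _ hs
    have hb3 := b1.resolve_left hb
    have ha3 := fun h => hd _ h hb3
    have ha2 := a4.resolve_right ha3
    have hb4 := b2.resolve_left (hd _ ha2)
    exact final sP tP (by decide) (by decide) (by decide) (by decide) (by decide) (by decide) (by decide)
      (by decide) (by decide) hs ha2 hb3 hb4
  · have ha3 := a1.resolve_left hs
    have ha4 := a3.resolve_left hs
    have hb1 := b1.resolve_right (hd _ ha3)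
    have hb2 := b2.resolve_right (hd _ ha4)
    exact final tP sP (by decide) (by decide) (by decide) (by decide) (by decide) (by decide) (by decide)
      (by decide) (by decide) ha3 ha4 hb1 hb2

/-- A finite group whose Sylow 2-subgroups are isomorphic to the direct product of a group of order 2 and a dihedral group of order 8 has a subgroup of index two. -/
theorem result {G : Type*} [Group G] [Finite G] (S : Sylow 2 G) (hS : Nonempty (↥(S : Subgroup G) ≃* Multiplicative (ZMod 2) × DihedralGroup 4)) : ∃ H : Subgroup G, H.index = 2 := by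
  obtain ⟨ε⟩ := hS
  exact core S ε

end Cfsg.Agent.S2911
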