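import Cfsg.Statements.S2913
import Cfsg.Agent.Lib.McLThree.FromFitting
import Cfsg.Agent.Lib.FusionSys.McLSimple
import Cfsg.Agent.Lib.ONan.Main
import Cfsg.Agent.S0404
import Cfsg.Agent.S5523
-- import your own Cfsg.Agent.* helpers here

set_option autoImplicit false
set_option linter.style.haveILetI false
open Cfsg

namespace Cfsg.Agent.S2913

theorem mcl_center {g : Cfsg.Spor.McL} (h : ∀ x, g * x = x * g) : IsSimpleGroup ↥Cfsg.Spor.McL ∧ g = 1 := by
  have hsimple : IsSimpleGroup ↥Cfsg.Spor.McL := by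
    have h0 := Cfsg.Agent.S0404.result Cfsg.Spor.leechU Cfsg.Lib.FusionSys.McL.wL
      Cfsg.Lib.Concrete.leechU_norm' Cfsg.Lib.FusionSys.McL.wL_norm Cfsg.Lib.FusionSys.McL.wL_dot
    rw [show Cfsg.Spor.McL = (MulAction.stabilizer Cfsg.Co0 Cfsg.Spor.leechU ⊓
      MulAction.stabilizer Cfsg.Co0 Cfsg.Lib.FusionSys.McL.wL).map Cfsg.Co0.subtype from
      Subgroup.ext Cfsg.Lib.FusionSys.McL.mem_McL_iff]
    exact ((MulAction.stabilizer Cfsg.Co0 Cfsg.Spor.leechU ⊓
      MulAction.stabilizer Cfsg.Co0 Cfsg.Lib.FusionSys.McL.wL).equivMapOfInjective _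
        Cfsg.Co0.subtype_injective).isSimpleGroup_congr.1 h0.1
  refine ⟨hsimple, ?_⟩
  haveI := hsimple
  have hmem : g ∈ Subgroup.center Cfsg.Spor.McL := Subgroup.mem_center_iff.2 (fun x => (h x).symm)
  rcases (inferInstance : (Subgroup.center Cfsg.Spor.McL).Normal).eq_bot_or_eq_top with hb | ht
  · rw [hb] at hmem; exact Subgroup.mem_bot.1 hmem
  · exfalso
    haveI : Finite ↥Cfsg.Spor.McL :=
      Nat.finite_of_card_ne_zero (by rw [Cfsg.Lib.PermAut.Mcl.card_mcl_spor]; norm_num)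
    letI : CommGroup ↥Cfsg.Spor.McL :=
      { (inferInstance : Group ↥Cfsg.Spor.McL) with
        mul_comm := fun a b => (Subgroup.mem_center_iff.1 (ht ▸ Subgroup.mem_top a) b).symm }
    have hp := IsSimpleGroup.prime_card (α := ↥Cfsg.Spor.McL)
    rw [Cfsg.Lib.PermAut.Mcl.card_mcl_spor] at hp
    norm_num at hp

theorem fittingStar_mcl {G : Type*} [Group G] [Finite G]
    (h : Nonempty (G ≃* Cfsg.Spor.McL) ∨ Nonempty (G ≃* MulAut Cfsg.Spor.McL)) :
    Cfsg.Spor.IsoMcL ↥(Cfsg.generalizedFittingSubgroup G) := by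
  have hcen : ∀ g : Cfsg.Spor.McL, (∀ x, g * x = x * g) → g = 1 := fun g hg => (mcl_center hg).2
  have hsimple : IsSimpleGroup ↥Cfsg.Spor.McL := (mcl_center (g := 1) (fun x => by simp)).1
  rcases h with ⟨⟨e⟩⟩ | ⟨⟨e⟩⟩
  · haveI : IsSimpleGroup (⊤ : Subgroup G) :=
      (Subgroup.topEquiv.trans e).isSimpleGroup_congr.2 hsimple
    have hc : Subgroup.centralizer ((⊤ : Subgroup G) : Set G) = ⊥ := by
      rw [eq_bot_iff]
      intro g hg
      rw [Subgroup.mem_bot]
      refine e.map_eq_one_iff.1 (hcen _ (fun x => ?_))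
      obtain ⟨y, rfl⟩ := e.surjective x
      rw [← map_mul, ← map_mul, Subgroup.mem_centralizer_iff.1 hg y (Subgroup.mem_top y)]
    rw [Cfsg.Lib.ONan.generalizedFitting_eq inferInstance inferInstance hc]
    exact ⟨Subgroup.topEquiv.trans e⟩
  · set c : Cfsg.Spor.McL →* G := e.symm.toMonoidHom.comp MulAut.conj with hc0
    have hinj : Function.Injective c := by
      refine e.symm.injective.comp ((injective_iff_map_eq_one _).2 fun g hg => hcen g fun x => ?_)
      exact mul_inv_eq_iff_eq_mul.1 (DFunLike.congr_fun hg x)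
    haveI hs : IsSimpleGroup c.range := (MonoidHom.ofInjective hinj).isSimpleGroup_congr.1 hsimple
    have hconj : ∀ (α : MulAut Cfsg.Spor.McL) x, α * MulAut.conj x * α⁻¹ = MulAut.conj (α x) := by
      intro α x
      apply MulEquiv.ext
      intro y
      show α (x * α⁻¹ y * x⁻¹) = α x * y * (α x)⁻¹
      rw [map_mul, map_mul, map_inv, MulAut.apply_inv_self]
    have hn : c.range.Normal := by
      refine ⟨fun n hn g => ?_⟩
      obtain ⟨x, rfl⟩ := hn
      refine ⟨e g x, ?_⟩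
      apply e.injective
      rw [map_mul, map_mul, map_inv, hc0]
      show e (e.symm (MulAut.conj (e g x))) = e g * e (e.symm (MulAut.conj x)) * (e g)⁻¹
      rw [e.apply_symm_apply, e.apply_symm_apply, hconj]
    have hc : Subgroup.centralizer (c.range : Set G) = ⊥ := by
      rw [eq_bot_iff]
      intro g hg
      rw [Subgroup.mem_bot]
      refine e.map_eq_one_iff.1 (MulEquiv.ext fun x => ?_)
      have h1 := congrArg e (Subgroup.mem_centralizer_iff.1 hg (c x) ⟨x, rfl⟩)
      rw [map_mul, map_mul, show e (c x) = MulAut.conj x from e.apply_symm_apply _] at h1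
      have h2 : e g * MulAut.conj x * (e g)⁻¹ = MulAut.conj x := by rw [← h1, mul_inv_cancel_right]
      rw [hconj] at h2
      have hinj' : Function.Injective (MulAut.conj : Cfsg.Spor.McL →* _) :=
        fun a b hab => hinj (congrArg e.symm hab)
      exact hinj' h2
    rw [Cfsg.Lib.ONan.generalizedFitting_eq hn hs hc]
    exact ⟨(MonoidHom.ofInjective hinj).symm⟩

/-- Let G be a finite group with O_{3'}(G) = 1, Z ≤ G a subgroup of order 3, M = C_G(Z), S a Sylow 3-subgroup of M and J an elementary abelian subgroup of S of order 3⁴. Suppose Q = F*(M) is extraspecial of order 3⁵ and exponent 3, F*(M ⧸ Q) ≅ SL₂(5), J = F*(N_G(J)), and the subgroup of N_G(J) ⧸ J generated by its 3-elements is isomorphic to the alternating group of degree 6. Then F*(G) is isomorphic to the McLaughlin group. -/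
theorem result {G : Type*} [Group G] [Finite G] (hO : Cfsg.pPrimeCore 3 G = ⊥) (Z : Subgroup G) (hZ : Nat.card ↥Z = 3) (S : Sylow 3 ↥(Subgroup.centralizer (Z : Set G))) (J : Subgroup G) (hJS : J ≤ ((S : Subgroup ↥(Subgroup.centralizer (Z : Set G))).map (Subgroup.centralizer (Z : Set G)).subtype)) (hJ : Cfsg.IsElementaryAbelian 3 J) (hJcard : Nat.card ↥J = 3 ^ 4) (hQ : Cfsg.IsExtraspecial 3 ↥(Cfsg.generalizedFittingSubgroup ↥(Subgroup.centralizer (Z : Set G)))) (hQcard : Nat.card ↥(Cfsg.generalizedFittingSubgroup ↥(Subgroup.centralizer (Z : Set G))) = 3 ^ 5) [hQn : (Cfsg.generalizedFittingSubgroup ↥(Subgroup.centralizer (Z : Set G))).Normal] (hexp : ∀ x ∈ Cfsg.generalizedFittingSubgroup ↥(Subgroup.centralizer (Z : Set G)), x ^ 3 = 1) (hFMQ : Nonempty (↥(Cfsg.generalizedFittingSubgroup (↥(Subgroup.centralizer (Z : Set G)) ⧸ Cfsg.generalizedFittingSubgroup ↥(Subgroup.centralizer (Z : Set G)))) ≃* Matrix.SpecialLinearGroup (Fin 2) (ZMod 5))) (hJF : ((Cfsg.generalizedFittingSubgroup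 ↥(Subgroup.normalizer (J : Set G))).map (Subgroup.normalizer (J : Set G)).subtype) = J) [hJn : (J.subgroupOf (Subgroup.normalizer (J : Set G))).Normal] (hA6 : Nonempty (↥(Subgroup.closure {x : ↥(Subgroup.normalizer (J : Set G)) ⧸ J.subgroupOf (Subgroup.normalizer (J : Set G)) | ∃ k : ℕ, orderOf x = 3 ^ k}) ≃* ↥(alternatingGroup (Fin 6)))) : Cfsg.Spor.IsoMcL ↥(Cfsg.generalizedFittingSubgroup G) := by
  refine fittingStar_mcl ?_
  haveI : Fact (Nat.Prime 3) := ⟨Nat.prime_three⟩
  set QM := Cfsg.generalizedFittingSubgroup ↥(Subgroup.centralizer (Z : Set G)) with hQM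
  set Q := QM.map (Subgroup.centralizer (Z : Set G)).subtype with hQdef
  -- `Z` is the centre of `Q`
  haveI : IsCyclic Z := isCyclic_of_prime_card hZ
  obtain ⟨z₀, hz₀⟩ := IsCyclic.exists_generator (α := Z)
  have hZM : Z ≤ (Subgroup.centralizer (Z : Set G)) := fun a ha => Subgroup.mem_centralizer_iff.2 (fun b hb => by
    letI : CommGroup Z := IsCyclic.commGroup
    exact congrArg Subtype.val (mul_comm (⟨b, hb⟩ : Z) ⟨a, ha⟩))
  have hZc : Z.subgroupOf (Subgroup.centralizer (Z : Set G)) ≤ Subgroup.center (Subgroup.centralizer (Z : Set G)) := fun a ha => Subgroup.mem_center_iff.2 (fun b =>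
    Subtype.ext (Subgroup.mem_centralizer_iff.1 b.2 _ ha).symm)
  have hcM : Subgroup.center (Subgroup.centralizer (Z : Set G)) ≤ QM :=
    (Cfsg.Lib.Core.le_fittingSubgroup (N := Subgroup.center (Subgroup.centralizer (Z : Set G))) (by open scoped IsMulCommutative in exact CommGroup.isNilpotent)).trans le_sup_right
  have hQp : IsPGroup 3 QM := hQ.1.1
  have hcentQM : ∀ x : (Subgroup.centralizer (Z : Set G)), (∀ q ∈ QM, x * q = q * x) → x ∈ QM := fun x hx =>
    Cfsg.Lib.Core.centralizer_generalizedFitting_le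
      (Subgroup.mem_centralizer_iff.2 (fun q hq => (hx q hq).symm))
  have hcentre : ∀ x : (Subgroup.centralizer (Z : Set G)), x ∈ QM → (∀ q ∈ QM, x * q = q * x) → (x : G) ∈ Z := by
    intro x hx hxq
    have hle : (Z.subgroupOf (Subgroup.centralizer (Z : Set G))).subgroupOf QM ≤ Subgroup.center QM := fun a ha =>
      Subgroup.mem_center_iff.2 (fun b => Subtype.ext (Subgroup.mem_center_iff.1 (hZc ha) b.1))
    have heq : (Z.subgroupOf (Subgroup.centralizer (Z : Set G))).subgroupOf QM = Subgroup.center QM := Subgroup.eq_of_le_of_card_ge hle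
      (by
        rw [hQ.2, Nat.card_congr (Subgroup.subgroupOfEquivOfLe (hZc.trans hcM)).toEquiv,
          Nat.card_congr (Subgroup.subgroupOfEquivOfLe hZM).toEquiv, hZ])
    have hmem : (⟨x, hx⟩ : QM) ∈ Subgroup.center QM :=
      Subgroup.mem_center_iff.2 (fun b => Subtype.ext (hxq b b.2).symm)
    rw [← heq] at hmem
    exact hmem
  have hZQ : Z ≤ Q := fun a ha => ⟨⟨a, hZM ha⟩, hcM (hZc ha), rfl⟩
  -- the order of `S`
  obtain ⟨η⟩ := hFMQ
  have h120 : 120 ∣ Nat.card (↥(Subgroup.centralizer (Z : Set G)) ⧸ QM) := by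
    have h := Subgroup.card_subgroup_dvd_card (Cfsg.generalizedFittingSubgroup (↥(Subgroup.centralizer (Z : Set G)) ⧸ QM))
    rwa [Nat.card_congr η.toEquiv, Cfsg.Lib.Recog.Icosa.card_sl_two_five] at h
  have hMcard : Nat.card (Subgroup.centralizer (Z : Set G)) = Nat.card (↥(Subgroup.centralizer (Z : Set G)) ⧸ QM) * 3 ^ 5 := by
    rw [← hQcard]; exact Subgroup.card_eq_card_quotient_mul_card_subgroup QM
  have hScard : Nat.card (S : Subgroup (Subgroup.centralizer (Z : Set G))) = 729 := by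
    obtain ⟨n, hn⟩ := IsPGroup.iff_card.1 S.isPGroup'
    have h6 : 3 ^ 6 ∣ Nat.card (Subgroup.centralizer (Z : Set G)) := by
      rw [hMcard, show 3 ^ 6 = 3 * 3 ^ 5 from rfl]
      exact Nat.mul_dvd_mul_right ((show 3 ∣ 120 by norm_num).trans h120) _
    have h6' := S.pow_dvd_card_of_pow_dvd_card h6
    rw [hn] at h6' ⊢
    have h6le : 6 ≤ n := (Nat.pow_dvd_pow_iff_le_right (by norm_num)).1 h6'
    have hn6 : n ≤ 6 := by
      by_contra hlt
      have hd : 3 ^ 7 ∣ Nat.card (Subgroup.centralizer (Z : Set G)) :=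
        (pow_dvd_pow 3 (show 7 ≤ n by omega)).trans (hn ▸ Subgroup.card_subgroup_dvd_card _)
      rw [hMcard, show 3 ^ 7 = 3 ^ 2 * 3 ^ 5 from rfl] at hd
      have h9 : 3 ^ 2 ∣ Nat.card (↥(Subgroup.centralizer (Z : Set G)) ⧸ QM) := Nat.dvd_of_mul_dvd_mul_right (by norm_num) hd
      obtain ⟨P⟩ : Nonempty (Sylow 3 (↥(Subgroup.centralizer (Z : Set G)) ⧸ QM)) := inferInstance
      have hh := (P.pow_dvd_card_of_pow_dvd_card h9).trans (Cfsg.Lib.McLThree.sylow_three_dvd η P)
      norm_num at hh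
    rw [le_antisymm hn6 h6le]; norm_num
  set SG := (S : Subgroup (Subgroup.centralizer (Z : Set G))).map (Subgroup.centralizer (Z : Set G)).subtype with hSG
  have hQS : QM ≤ (S : Subgroup (Subgroup.centralizer (Z : Set G))) := by
    have h := S.is_maximal' (S.isPGroup'.to_sup_of_normal_right hQp) le_sup_left
    exact le_trans le_sup_right (le_of_eq h)
  have hZS : SG ⊓ Subgroup.centralizer (SG : Set G) = Z := by
    apply le_antisymm
    · rintro x ⟨⟨x, hx, rfl⟩, hxc⟩
      have hc : ∀ q ∈ QM, x * q = q * x := fun q hq =>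
        Subtype.ext (Subgroup.mem_centralizer_iff.1 hxc q ⟨q, hQS hq, rfl⟩).symm
      exact hcentre x (hcentQM x hc) hc
    · intro a ha
      refine ⟨⟨⟨a, hZM ha⟩, hQS (hcM (hZc ha)), rfl⟩, Subgroup.mem_centralizer_iff.2 ?_⟩
      rintro _ ⟨b, -, rfl⟩
      exact congrArg Subtype.val (Subgroup.mem_center_iff.1 (hZc (show (⟨a, hZM ha⟩ : (Subgroup.centralizer (Z : Set G))) ∈ _ from ha)) b)
  have hfix : ∀ g : G, g ∈ Subgroup.normalizer (Z : Set G) → ∀ k : ℕ, g ^ 3 ^ k = 1 → g ∈ (Subgroup.centralizer (Z : Set G)) := by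
    intro g hg k hk
    have hzz : (z₀ : G) ^ 3 = 1 := by
      have h := congrArg Subtype.val (pow_card_eq_one' (x := z₀))
      rw [hZ] at h; exact h
    have hpow : ∀ a ∈ Z, a ∈ Subgroup.zpowers (z₀ : G) := by
      intro a ha
      obtain ⟨i, hi⟩ := hz₀ ⟨a, ha⟩
      exact ⟨i, congrArg Subtype.val hi⟩
    have hc := Cfsg.Lib.McLThree.zpowers_fix_three hzz
      (hpow _ (Cfsg.Lib.AltEightThree.conj_mem_normalizer hg z₀.2)) hk
    refine Subgroup.mem_centralizer_iff.2 (fun a ha => ?_)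
    obtain ⟨i, rfl⟩ := hpow a ha
    exact ((show Commute g (z₀ : G) from hc).zpow_right i).eq.symm
  -- `S` is a Sylow subgroup of `G`
  obtain ⟨S', hS'⟩ := (S.isPGroup'.map (Subgroup.centralizer (Z : Set G)).subtype : IsPGroup 3 SG).exists_le_sylow
  have hS'eq : SG = (S' : Subgroup G) := by
    by_contra hne
    have hlt : SG.subgroupOf (S' : Subgroup G) < ⊤ := lt_top_iff_ne_top.2 (fun h =>
      hne (le_antisymm hS' (Subgroup.subgroupOf_eq_top.1 h)))
    haveI : Group.IsNilpotent (S' : Subgroup G) := S'.isPGroup'.isNilpotent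
    obtain ⟨g, hgN, hgS⟩ := SetLike.exists_of_lt (Group.normalizerCondition_of_isNilpotent _ hlt)
    have hgn : ∀ x ∈ SG, (g : G) * x * (g : G)⁻¹ ∈ SG := fun x hx => by
      have h := (Subgroup.mem_normalizer_iff.1 hgN ⟨x, hS' hx⟩).1 hx
      exact h
    obtain ⟨k, hk⟩ := Cfsg.Lib.McLThree.Loc.three_pow S'.isPGroup' g.2
    have hgZ : (g : G) ∈ Subgroup.normalizer (Z : Set G) := by
      refine Cfsg.Lib.AltEightThree.mem_normalizer_of_forall (fun a ha => ?_)
      rw [← hZS] at ha ⊢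
      refine ⟨hgn a ha.1, Subgroup.mem_centralizer_iff.2 (fun b hb => ?_)⟩
      have hgi : (g : G)⁻¹ * b * g ∈ SG := by
        have h := (Subgroup.mem_normalizer_iff''.1 hgN ⟨b, hS' hb⟩).1 hb
        exact h
      have h := Subgroup.mem_centralizer_iff.1 ha.2 _ hgi
      calc b * ((g : G) * a * (g : G)⁻¹) = (g : G) * (((g : G)⁻¹ * b * g) * a) * (g : G)⁻¹ := by group
        _ = (g : G) * (a * ((g : G)⁻¹ * b * g)) * (g : G)⁻¹ := by rw [h]
        _ = _ := by group
    have hgM := hfix g hgZ k hk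
    have hmem : (⟨(g : G), hgM⟩ : (Subgroup.centralizer (Z : Set G))) ∈ (S : Subgroup (Subgroup.centralizer (Z : Set G))) := by
      have hp : IsPGroup 3 (Subgroup.zpowers (⟨(g : G), hgM⟩ : (Subgroup.centralizer (Z : Set G)))) :=
        Cfsg.Lib.McLThree.isPGroup_of_forall_pow (k := k) (fun y hy => by
          obtain ⟨i, rfl⟩ := hy
          rw [← zpow_natCast, ← zpow_mul, mul_comm, zpow_mul, zpow_natCast,
            show (⟨(g : G), hgM⟩ : (Subgroup.centralizer (Z : Set G))) ^ 3 ^ k = 1 from Subtype.ext hk, one_zpow])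
      have hle : Subgroup.zpowers (⟨(g : G), hgM⟩ : (Subgroup.centralizer (Z : Set G))) ≤
          Subgroup.normalizer ((S : Subgroup (Subgroup.centralizer (Z : Set G))) : Set (Subgroup.centralizer (Z : Set G))) :=
        Subgroup.zpowers_le.2 (Cfsg.Lib.AltEightThree.mem_normalizer_of_forall (fun x hx => by
          obtain ⟨y, hy, hyx⟩ := hgn x ⟨x, hx, rfl⟩
          exact (Subtype.ext hyx : y = (⟨(g : G), hgM⟩ : (Subgroup.centralizer (Z : Set G))) * x * (⟨(g : G), hgM⟩ : (Subgroup.centralizer (Z : Set G)))⁻¹) ▸ hy))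
      have h := S.is_maximal' (hp.to_sup_of_normal_right' S.isPGroup' hle) le_sup_right
      exact le_trans le_sup_left (le_of_eq h) (Subgroup.mem_zpowers _)
    exact hgS ⟨⟨(g : G), hgM⟩, hmem, rfl⟩
  -- `Q` is the 3-core of the normaliser of `Z`
  have hMN : (Subgroup.centralizer (Z : Set G)) ≤ Subgroup.normalizer (Z : Set G) := fun x hx =>
    Cfsg.Lib.AltEightThree.mem_normalizer_of_forall (fun a ha => by
      rw [(Subgroup.mem_centralizer_iff.1 hx a ha).symm, mul_inv_cancel_right]; exact ha)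
  have hQconj : ∀ g ∈ Subgroup.normalizer (Z : Set G), ∀ q ∈ Q, g * q * g⁻¹ ∈ Q := by
    intro g hg q hq
    have hgM : ∀ x ∈ (Subgroup.centralizer (Z : Set G)), g * x * g⁻¹ ∈ (Subgroup.centralizer (Z : Set G)) := fun x hx => Subgroup.mem_centralizer_iff.2 (fun a ha => by
      have ha' : g⁻¹ * a * g ∈ Z := by
        have h := Cfsg.Lib.AltEightThree.conj_mem_normalizer (inv_mem hg) ha
        rwa [inv_inv] at h
      have h := Subgroup.mem_centralizer_iff.1 hx _ ha'
      calc a * (g * x * g⁻¹) = g * ((g⁻¹ * a * g) * x) * g⁻¹ := by group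
        _ = g * (x * (g⁻¹ * a * g)) * g⁻¹ := by rw [h]
        _ = _ := by group)
    let f : (Subgroup.centralizer (Z : Set G)) →* (Subgroup.centralizer (Z : Set G)) :=
      ((MulAut.conj g).toMonoidHom.comp (Subgroup.centralizer (Z : Set G)).subtype).codRestrict (Subgroup.centralizer (Z : Set G)) (fun x => hgM x x.2)
    have hf : Function.Injective f := fun a b h => Subtype.ext ((MulAut.conj g).injective
      (congrArg Subtype.val h))
    have hmap := Subgroup.characteristic_iff_map_eq.1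
      (inferInstance : (Cfsg.generalizedFittingSubgroup ↥(Subgroup.centralizer (Z : Set G))).Characteristic)
      (MulEquiv.ofBijective f ⟨hf, Finite.injective_iff_surjective.1 hf⟩)
    obtain ⟨q, hq', rfl⟩ := hq
    exact ⟨f q, (by rw [hQM, ← hmap]; exact ⟨q, hq', rfl⟩), rfl⟩
  have hQG : IsPGroup 3 Q := hQp.map _
  have hQM' : Cfsg.pCore 3 ↥(Subgroup.centralizer (Z : Set G)) = QM := by
    refine le_antisymm ?_ (Cfsg.Lib.Core.le_pCore' inferInstance hQp)
    exact (Cfsg.Lib.Core.le_fittingSubgroup (hN := inferInstance)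
      (Cfsg.Lib.Core.pCore_isPGroup 3 ↥(Subgroup.centralizer (Z : Set G))).isNilpotent).trans le_sup_right
  have hQeq : Q = (Cfsg.pCore 3 ↥(Subgroup.normalizer (Z : Set G))).map
      (Subgroup.normalizer (Z : Set G)).subtype := by
    refine le_antisymm (Cfsg.Lib.McLThree.mem_pCore_map
      ((Subgroup.map_subtype_le _).trans hMN) hQG hQconj) ?_
    rw [hQdef, ← hQM']
    intro x hx
    set P := (Cfsg.pCore 3 ↥(Subgroup.normalizer (Z : Set G))).map
      (Subgroup.normalizer (Z : Set G)).subtype with hP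
    have hPp : IsPGroup 3 P := (Cfsg.Lib.Core.pCore_isPGroup 3 _).map _
    have hPN : P ≤ Subgroup.normalizer (Z : Set G) := Subgroup.map_subtype_le _
    have hPM : P ≤ (Subgroup.centralizer (Z : Set G)) := fun y hy => by
      obtain ⟨k, hk⟩ := Cfsg.Lib.McLThree.Loc.three_pow hPp hy
      exact hfix y (hPN hy) k hk
    exact Cfsg.Lib.McLThree.mem_pCore_map hPM hPp (fun g hg p hp =>
      Cfsg.Lib.McLThree.pCore_map_conj (fun y hy => mul_mem (mul_mem (hMN hg) hy) (inv_mem (hMN hg))) hp) hx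
  -- the two sections
  set M₀ := Subgroup.closure {g : G | g ∈ Subgroup.normalizer (J : Set G) ∧ ∃ k : ℕ, orderOf g = 3 ^ k}
    with hM₀
  set L₀ := Subgroup.closure {g : G | g ∈ Subgroup.normalizer (Z : Set G) ∧ ∃ k : ℕ, orderOf g = 3 ^ k}
    with hL₀
  have hJM : J ≤ M₀ := fun a ha => Subgroup.subset_closure ⟨Subgroup.le_normalizer ha,
    Cfsg.Lib.McLThree.exists_orderOf_three.2 ⟨1, by simpa using hJ.2 a ha⟩⟩
  have hQL : Q ≤ L₀ := fun a ha => Subgroup.subset_closure ⟨hMN (Subgroup.map_subtype_le _ ha),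
    Cfsg.Lib.McLThree.exists_orderOf_three.2 (Cfsg.Lib.McLThree.Loc.three_pow hQG ha)⟩
  haveI hJ0 : (J.subgroupOf M₀).Normal := ⟨fun n hn g => Subgroup.mem_subgroupOf.2
    (Cfsg.Lib.AltEightThree.conj_mem_normalizer
      ((Subgroup.closure_le (Subgroup.normalizer (J : Set G))).2 (fun x hx => hx.1) g.2)
      (Subgroup.mem_subgroupOf.1 hn))⟩
  haveI hQ0 : (Q.subgroupOf L₀).Normal := ⟨fun n hn g => hQconj _
    ((Subgroup.closure_le (Subgroup.normalizer (Z : Set G))).2 (fun x hx => hx.1) g.2) _ hn⟩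
  have hL₀' : L₀ = Subgroup.closure {g : G | g ∈ (Subgroup.centralizer (Z : Set G)) ∧ ∃ k : ℕ, orderOf g = 3 ^ k} := by
    rw [hL₀]
    congr 1
    ext g
    constructor
    · rintro ⟨hg, hk⟩
      obtain ⟨k, hk'⟩ := Cfsg.Lib.McLThree.exists_orderOf_three.1 hk
      exact ⟨hfix g hg k hk', hk⟩
    · rintro ⟨hg, hk⟩
      exact ⟨hMN hg, hk⟩
  obtain ⟨eL⟩ := Cfsg.Lib.McLThree.quot_closure_equiv QM Q hQdef hQp L₀ hL₀'
  have hJp : IsPGroup 3 (J.subgroupOf (Subgroup.normalizer (J : Set G))) :=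
    IsPGroup.comap_subtype
      (Cfsg.Lib.McLThree.isPGroup_of_forall_pow (k := 1) (fun a ha => by simpa using hJ.2 a ha))
  obtain ⟨eM⟩ := Cfsg.Lib.McLThree.quot_closure_equiv (J.subgroupOf (Subgroup.normalizer (J : Set G))) J
    (Subgroup.map_subgroupOf_eq_of_le Subgroup.le_normalizer).symm hJp M₀ hM₀
  obtain ⟨a6⟩ := hA6
  refine Cfsg.Agent.S5523.result S' Z ?_ J ?_ hJ.1 hJ.2 hJcard M₀ hM₀ hJM (eM.trans a6) L₀ hL₀ Q hQeq
    (Cfsg.Lib.Extra.isExtraspecial_congr (QM.equivMapOfInjective _ (Subgroup.centralizer (Z : Set G)).subtype_injective) hQ)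
    ?_ ?_ hQL ((eL.trans (MulEquiv.subgroupCongr
      (Cfsg.Lib.McLThree.three_closure_fittingStar η))).trans η) ?_
  · rw [← hS'eq, hZS]
  · rw [← hS'eq]; exact hJS
  · rw [hQdef, Subgroup.card_map_of_injective (Subgroup.centralizer (Z : Set G)).subtype_injective, hQcard]
  · rintro _ ⟨q, hq, rfl⟩
    exact congrArg Subtype.val (hexp q hq)
  · rw [hQM']
    intro g hg
    have hgM : g ∈ (Subgroup.centralizer (Z : Set G)) := Subgroup.mem_centralizer_iff.2 (fun a ha =>
      Subgroup.mem_centralizer_iff.1 hg a (hZQ ha))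
    exact ⟨⟨g, hgM⟩, hcentQM _ (fun q hq =>
      Subtype.ext (Subgroup.mem_centralizer_iff.1 hg q ⟨q, hq, rfl⟩).symm), rfl⟩

end Cfsg.Agent.S2913
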