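import Cfsg.Statements.S2917
import Cfsg.Agent.Lib.GTwoType.Conf
import Cfsg.Agent.Lib.GTwoType.SetupMain

set_option autoImplicit false
open Cfsg

namespace Cfsg.Agent.S2917

/-- Let G be a finite group with subgroups H and M such that: H has normal subgroups H₁, H₂ both isomorphic to SL₂(3) with H₁ ∩ H₂ = Z(H₁) = Z(H₂), the product H₁H₂ has index 2 in H, and H = C_G(H₁ ∩ H₂); and M ⧸ O₂(M) ≅ SL₃(2) with O₂(M) elementary abelian of order 8 containing Z(H₁). Then G is isomorphic to the Chevalley group G₂(3). -/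
theorem result {G : Type*} [Group G] [Finite G] (H H₁ H₂ M : Subgroup G) (h1 : H₁ ≤ H) (h2 : H₂ ≤ H) (hn1 : (H₁.subgroupOf H).Normal) (hn2 : (H₂.subgroupOf H).Normal) (hiso1 : Nonempty (↥H₁ ≃* Matrix.SpecialLinearGroup (Fin 2) (ZMod 3))) (hiso2 : Nonempty (↥H₂ ≃* Matrix.SpecialLinearGroup (Fin 2) (ZMod 3))) (hidx : (H₁ ⊔ H₂).relIndex H = 2) (hint1 : H₁ ⊓ H₂ = H₁ ⊓ Subgroup.centralizer (H₁ : Set G)) (hint2 : H₁ ⊓ H₂ = H₂ ⊓ Subgroup.centralizer (H₂ : Set G)) (hHC : H = Subgroup.centralizer ((H₁ ⊓ H₂ : Subgroup G) : Set G)) [hOM : (Cfsg.pCore 2 ↥M).Normal] (hM : Nonempty ((↥M ⧸ Cfsg.pCore 2 ↥M) ≃* Matrix.SpecialLinearGroup (Fin 3) (ZMod 2))) (hOel : Cfsg.IsElementaryAbelian 2 (Cfsg.pCore 2 ↥M)) (hOcard : Nat.card ↥(Cfsg.pCore 2 ↥M) = 8) (hZin : H₁ ⊓ H₂ ≤ (Cfsg.pCore 2 ↥M).map M.subtype) : ∃ (F : Type) (_ : Field F) (_ : Fintype F), Fintype.card F = 3 ∧ Nonempty (G ≃*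 ↥(Cfsg.Lie.chevG2.group F)) := by
  haveI : Fact (Nat.Prime 3) := ⟨Nat.prime_three⟩
  obtain ⟨e₁⟩ := hiso1
  obtain ⟨e₂⟩ := hiso2
  obtain ⟨e⟩ := hM
  obtain ⟨z, P, hzI, hH, hK⟩ := Lib.GTwoType.exists_pre H H₁ H₂ h1 h2 hn1 hn2 e₁ e₂ hidx hint1 hint2 hHC
  have hz1 : z ≠ 1 := fun h =>
    Lib.GTwoType.ng_ne (P.inj₁ ((P.neg₁.trans h).trans (map_one P.i₁).symm))
  have hnot : ¬ ∀ g ∈ M, Commute z g := by
    intro hall
    have hle : M ≤ H := fun g hg => (hH g).2 (hall g hg)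
    have hd := Subgroup.card_dvd_of_le hle
    have hsup : H₁ ⊔ H₂ = P.K := by ext g; exact hK g
    have hcH : Nat.card H = 576 := by
      have h' := ((H₁ ⊔ H₂).subgroupOf H).index_mul_card
      rw [show ((H₁ ⊔ H₂).subgroupOf H).index = 2 from hidx,
        Nat.card_congr (Subgroup.subgroupOfEquivOfLe (sup_le h1 h2)).toEquiv, hsup, P.card_K] at h'
      omega
    have hcM : Nat.card M = 1344 := by
      rw [Subgroup.card_eq_card_quotient_mul_card_subgroup (Cfsg.pCore 2 ↥M), Nat.card_congr e.toEquiv,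
        Lib.GTwoType.sl_three_two.2, hOcard]
    rw [hcM, hcH] at hd
    norm_num at hd
  obtain ⟨A⟩ := Lib.GTwoType.exists_act M e hOel hOcard (hZin hzI) hz1 hnot
  obtain ⟨τ, hG, ⟨m⟩⟩ := Lib.GTwoType.exists_ctx P A
  obtain ⟨f⟩ := hG.nonempty_equiv m
  exact ⟨ZMod 3, inferInstance, inferInstance, by simp [ZMod.card], ⟨f.symm⟩⟩

end Cfsg.Agent.S2917
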