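import Cfsg.Statements.S2918
import Cfsg.Agent.Lib.AltEightSyl.SigOne
import Cfsg.Agent.Lib.AltEightSyl.SigTwo
import Cfsg.Agent.Lib.AltEightSyl.WreathOf
import Cfsg.Agent.Lib.AltEightSyl.EndOneAlt
import Cfsg.Agent.Lib.AltEightSyl.EndTwo
import Cfsg.Agent.Lib.UFourTwo.Main
import Cfsg.Agent.S3344

set_option autoImplicit false
open Cfsg Subgroup

namespace Cfsg.Agent.S2918

/-- Let G be a finite group with O²(G) = G and O₂(G) = O(G) = 1 whose Sylow 2-subgroups are isomorphic to those of the alternating group of degree 8, and suppose that the centralizer in G of every involution in the centre of a Sylow 2-subgroup is solvable. Then G is isomorphic to A₈, A₉ or PSp₄(3). -/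
theorem result {G : Type*} [Group G] [Finite G] (hO2 : Cfsg.pResidual 2 G = ⊤) (hcore2 : Cfsg.pCore 2 G = ⊥) (hodd : Cfsg.oddCore G = ⊥) (S : Sylow 2 G) (hS : ∀ P : Sylow 2 ↥(alternatingGroup (Fin 8)), Nonempty (↥(S : Subgroup G) ≃* ↥(P : Subgroup ↥(alternatingGroup (Fin 8))))) (hsol : ∀ z : G, z ∈ (S : Subgroup G) → (∀ s ∈ (S : Subgroup G), s * z = z * s) → orderOf z = 2 → IsSolvable ↥(Subgroup.centralizer ({z} : Set G))) : Nonempty (G ≃* ↥(alternatingGroup (Fin 8))) ∨ Nonempty (G ≃* ↥(alternatingGroup (Fin 9))) ∨ (∃ (F : Type) (_ : Field F) (_ : Fintype F), Fintype.card F = 3 ∧ Nonempty (G ≃* Cfsg.PSp 2 F)) := by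
  obtain ⟨F₀, hF₀⟩ := Lib.AltEightSyl.exists_frame S hS
  have hG₀ : Lib.AltEightSyl.Good F₀ := by
    refine ⟨hO2, hcore2, hodd, ?_, ?_⟩
    · refine hsol _ (hF₀ ▸ F₀.z_mem) (fun s hs => ?_) F₀.orderOf_z
      obtain ⟨i, rfl⟩ := (F₀.mem_iff s).1 (hF₀.symm ▸ hs)
      exact (F₀.comm_z i).eq.symm
    · haveI : Fact (Nat.Prime 2) := ⟨Nat.prime_two⟩
      exact ⟨default, by rw [hF₀]; exact hS _⟩
  obtain ⟨F, -, hG, hc⟩ := F₀.exists_case hG₀
  rcases hc with hc | hc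
  · -- the centraliser of order 192
    have hth := hc.th_eq_bot hG
    obtain ⟨W, hWs, hWQ⟩ := F.exists_wreath hG hth
    obtain ⟨hcard, g, hg, hgs⟩ := F.card_cent_one hG hth (hc.rot_zero hG)
    have hns : ∃ g ∈ centralizer ({F.z} : Set G), g * W.s * g⁻¹ * W.s⁻¹ ∉ W.Q1 ⊔ W.Q2 :=
      ⟨g, hg, by rw [hWs, hWQ]; exact hgs⟩
    obtain ⟨hQ, ⟨e⟩⟩ := W.pCore_eq hcard hns
    haveI : Fact (Nat.Prime 3) := ⟨Nat.prime_three⟩
    let X : Sylow 3 (centralizer ({F.z} : Set G)) := default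
    have hnwc : ∃ x : G, x * F.z * x⁻¹ ∈ W.Q1 ⊔ W.Q2 ∧ x * F.z * x⁻¹ ≠ F.z := by
      obtain ⟨x, hx⟩ := isConj_iff.1 hc.1
      rw [hWQ]
      refine ⟨x, ?_, ?_⟩
      · show x * F.f 5 * x⁻¹ ∈ F.qGrp
        rw [hx]; exact F.f_mem_qGrp (by decide +kernel)
      · show x * F.f 5 * x⁻¹ ≠ F.f 5
        rw [hx]; exact fun h => absurd (F.inj _ _ h) (by decide)
    have hE : IsMulCommutative ↥F.aGrp :=
      ⟨⟨fun a b => Subtype.ext (F.aGrp_comm a.2 b.2)⟩⟩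
    rcases Lib.AltEightSyl.alt_of_conclusion hcore2 F.aGrp F.card_aGrp hE
      (fun a ha => by rw [sq]; exact F.aGrp_sq ha)
      (Agent.S3344.result F.z F.orderOf_z _ rfl (W.Q1 ⊔ W.Q2) hQ.symm W.extraspecial W.card_Q e X
        (W.fixed_three hcard hns X) hnwc) with h | h
    · exact Or.inl h
    · exact Or.inr (Or.inl h)
  · -- the centraliser of order 576
    have hth := hc.th_eq_bot hG
    obtain ⟨W, -, -⟩ := F.exists_wreath hG hth
    obtain ⟨n, hn, -⟩ := hc.rot_diag hG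
    obtain ⟨L⟩ := W.nonempty_loc (F.card_cent_two hG hth ⟨n, hn⟩)
    haveI : Fact (Nat.Prime 3) := ⟨Nat.prime_three⟩
    exact Or.inr (Or.inr ⟨ZMod 3, inferInstance, inferInstance, ZMod.card 3,
      Lib.UFourTwo.main_of_loc (fun H => Lib.AltEightSyl.index_ne_two hO2 H) (ZMod.card 3) L⟩)

end Cfsg.Agent.S2918
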