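import Cfsg.Statements.S2923
import Cfsg.Agent.Lib.Local.Basic
-- import your own Cfsg.Agent.* helpers here

set_option autoImplicit false
open Cfsg

namespace Cfsg.Agent.S2923

/-- Let p be a prime and X a finite group of characteristic p, that is C_X(O_p(X)) ≤ O_p(X). Then every subnormal subgroup of X has characteristic p. -/
theorem result {X : Type*} [Group X] [Finite X] {p : ℕ} [Fact p.Prime] (hX : Subgroup.centralizer (Cfsg.pCore p X : Set X) ≤ Cfsg.pCore p X) (Y : Subgroup X) (hY : Y.IsSubnormal) : Subgroup.centralizer (Cfsg.pCore p ↥Y : Set ↥Y) ≤ Cfsg.pCore p ↥Y := by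
  rw [← Cfsg.Lib.Local.isCharP_iff]
  induction hY with
  | top =>
    intro x hx
    rw [Cfsg.Lib.Local.pCoreOf_top] at hx ⊢
    exact hX hx.2
  | step H K hle hK hN ih =>
    refine Cfsg.Lib.Local.isCharP_of_normalized (Cfsg.Lib.Local.pCoreOf_isPGroup K)
      (hle.trans (Cfsg.Lib.Local.le_normalizer_pCoreOf K))
      ((Cfsg.Lib.Local.pCoreOf_le K).trans ((Subgroup.normal_subgroupOf_iff_le_normalizer hle).mp hN))
      ((inf_le_inf_right _ hle).trans ih)

end Cfsg.Agent.S2923
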