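import Cfsg.Statements.S2924
import Cfsg.Agent.Lib.Core.Cores
import Cfsg.Agent.Lib.Core.Fitting
import Cfsg.Agent.Lib.Core.Layer
import Cfsg.Agent.Lib.Coprime.PGroupAction

set_option autoImplicit false
open Cfsg

namespace Cfsg.Agent.S2924

open Cfsg.Lib

variable {X : Type*} [Group X] [Finite X]

/-- The odd core of `C(y)`, inside the ambient group. -/
def coreAt (y : X) : Subgroup X :=
  (Cfsg.oddCore ↥(Subgroup.centralizer ({y} : Set X))).map (Subgroup.centralizer ({y} : Set X)).subtype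

/-- The two core of `C(y)`, inside the ambient group. -/
def twoAt (y : X) : Subgroup X :=
  (Cfsg.pCore 2 ↥(Subgroup.centralizer ({y} : Set X))).map (Subgroup.centralizer ({y} : Set X)).subtype

omit [Finite X] in
theorem mem_cent {g y : X} : g ∈ Subgroup.centralizer ({y} : Set X) ↔ Commute g y := by
  rw [Subgroup.mem_centralizer_iff]
  exact ⟨fun h => (h y rfl).symm, fun h a ha => by rw [Set.mem_singleton_iff.mp ha]; exact h.symm.eq⟩

omit [Finite X] in
theorem commute_of_mem_coreAt {y a : X} (ha : a ∈ coreAt y) : Commute a y := by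
  obtain ⟨c, -, rfl⟩ := ha
  exact mem_cent.mp c.2

omit [Finite X] in
theorem conj_mem_coreAt {y g a : X} (hg : Commute g y) (ha : a ∈ coreAt y) :
    g * a * g⁻¹ ∈ coreAt y := by
  obtain ⟨c, hc, rfl⟩ := ha
  exact ⟨⟨g, mem_cent.mpr hg⟩ * c * (⟨g, mem_cent.mpr hg⟩)⁻¹,
    (inferInstance : (Cfsg.pPrimeCore 2 _).Normal).conj_mem c hc _, rfl⟩

omit [Finite X] in
theorem conj_mem_twoAt {y g a : X} (hg : Commute g y) (ha : a ∈ twoAt y) :
    g * a * g⁻¹ ∈ twoAt y := by
  obtain ⟨c, hc, rfl⟩ := ha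
  exact ⟨⟨g, mem_cent.mpr hg⟩ * c * (⟨g, mem_cent.mpr hg⟩)⁻¹,
    (inferInstance : (Cfsg.pCore 2 _).Normal).conj_mem c hc _, rfl⟩

theorem card_coreAt_odd (y : X) : Odd (Nat.card (coreAt y)) := by
  rw [coreAt, Subgroup.card_map_of_injective (Subgroup.subtype_injective _)]
  haveI : Fact (Nat.Prime 2) := ⟨Nat.prime_two⟩
  exact Nat.Coprime.odd_of_right (Core.pPrimeCore_coprime 2 _)

theorem orderOf_odd {y a : X} (ha : a ∈ coreAt y) : Odd (orderOf a) := by
  have h : orderOf (⟨a, ha⟩ : coreAt y) ∣ Nat.card (coreAt y) := orderOf_dvd_natCard _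
  rw [← Subgroup.orderOf_coe] at h
  exact (card_coreAt_odd y).of_dvd_nat h

theorem twoAt_isPGroup (y : X) : IsPGroup 2 (twoAt y) :=
  haveI : Fact (Nat.Prime 2) := ⟨Nat.prime_two⟩
  (Core.pCore_isPGroup 2 _).map _

omit [Finite X] in
theorem eq_one_of_odd {T : Subgroup X} (hT : IsPGroup 2 T) {a : X} (ha : a ∈ T)
    (ho : Odd (orderOf a)) : a = 1 := by
  obtain ⟨k, hk⟩ := hT ⟨a, ha⟩
  have hk' : a ^ (2 ^ k) = 1 := by simpa using congrArg Subtype.val hk
  have h1 := orderOf_dvd_of_pow_eq_one hk'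
  have h2 : (orderOf a).Coprime (2 ^ k) := (Nat.coprime_two_right.mpr ho).pow_right k
  exact orderOf_eq_one_iff.mp (Nat.Coprime.eq_one_of_dvd h2 h1)

theorem mem_zpowers_sq {a : X} (ho : Odd (orderOf a)) : a ∈ Subgroup.zpowers (a * a) := by
  obtain ⟨k, hk⟩ := ho
  refine ⟨(k + 1 : ℕ), ?_⟩
  show (a * a) ^ ((k + 1 : ℕ) : ℤ) = a
  rw [zpow_natCast, ← sq, ← pow_mul, show 2 * (k + 1) = orderOf a + 1 by omega, pow_succ,
    pow_orderOf_eq_one, one_mul]

/-- Thompson's lemma in the form used here. -/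
theorem commute_of_fixed {T : Subgroup X} (hT : IsPGroup 2 T) {x a : X}
    (hx : IsPGroup 2 (Subgroup.zpowers x)) (ha : Odd (orderOf a)) (hxa : Commute x a)
    (hxn : x ∈ Subgroup.normalizer (T : Set X)) (han : a ∈ Subgroup.normalizer (T : Set X))
    (hfix : ∀ t ∈ T, Commute t x → Commute t a) {t : X} (ht : t ∈ T) : Commute t a := by
  haveI : Fact (Nat.Prime 2) := ⟨Nat.prime_two⟩
  have h := Coprime.commutator_eq_bot_of_AxB T (Subgroup.zpowers x) (Subgroup.zpowers a) hT hx
    (by rw [Nat.card_zpowers]; exact Nat.coprime_two_right.mpr ha)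
    (Subgroup.zpowers_le.mpr hxn) (Subgroup.zpowers_le.mpr han)
    (Subgroup.zpowers_le.mpr (Subgroup.mem_centralizer_iff.mpr fun b hb => by
      obtain ⟨i, rfl⟩ := hb
      exact (hxa.zpow_left i).eq))
    (fun s hs => by
      refine Subgroup.mem_centralizer_iff.mpr fun b hb => ?_
      obtain ⟨i, rfl⟩ := hb
      have := hfix s hs.1 (Subgroup.mem_centralizer_iff.mp hs.2 x (Subgroup.mem_zpowers x)).symm
      exact (this.symm.zpow_left i).eq)
  exact (Subgroup.commutator_eq_bot_iff_le_centralizer.mp h ht a (Subgroup.mem_zpowers a)).symm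

theorem result {X : Type*} [Group X] [Finite X] (Y : Subgroup X) (hY : Cfsg.IsElementaryAbelian 2 Y) (h8 : 8 ≤ Nat.card ↥Y) (hE : ∀ x ∈ Y, x ≠ 1 → Cfsg.layer ↥(Subgroup.centralizer ({x} : Set X)) = ⊥) (hz : ∃ z ∈ Y, z ≠ 1 ∧ Cfsg.generalizedFittingSubgroup ↥(Subgroup.centralizer ({z} : Set X)) = Cfsg.pCore 2 ↥(Subgroup.centralizer ({z} : Set X))) : Odd (Nat.card ↥(⨆ y : {y : X // y ∈ Y ∧ y ≠ 1}, (Cfsg.oddCore ↥(Subgroup.centralizer ({(y : X)} : Set X))).map (Subgroup.centralizer ({(y : X)} : Set X)).subtype)) ∧ Subgroup.normalizer (Y : Set X) ≤ Subgroup.normalizer ((⨆ y : {y : X // y ∈ Y ∧ y ≠ 1}, (Cfsg.oddCore ↥(Subgroup.centralizer ({(y : X)} : Set X))).map (Subgroup.centralizer ({(y : X)} : Set X)).subtype : Subgroup X) : Set X) := by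
  classical
  haveI : Fact (Nat.Prime 2) := ⟨Nat.prime_two⟩
  obtain ⟨hYc, hY2⟩ := hY
  have Ycomm : ∀ {a b : X}, a ∈ Y → b ∈ Y → Commute a b := fun {a b} ha hb =>
    congrArg Subtype.val (hYc.is_comm.comm ⟨a, ha⟩ ⟨b, hb⟩)
  have Ysq : ∀ {a : X}, a ∈ Y → a * a = 1 := fun {a} ha => by rw [← sq]; exact hY2 a ha
  have Ypg : ∀ {a : X}, a ∈ Y → IsPGroup 2 (Subgroup.zpowers a) := fun {a} ha =>
    IsPGroup.to_le (fun b => ⟨1, Subtype.ext (by simpa using hY2 b b.2)⟩ : IsPGroup 2 Y)
      (Subgroup.zpowers_le.mpr ha)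
  have two_norm : ∀ {y g : X}, Commute g y → g ∈ Subgroup.normalizer (twoAt y : Set X) := by
    intro y g hg
    rw [Subgroup.mem_normalizer_iff]
    intro a
    refine ⟨fun ha => conj_mem_twoAt hg ha, fun ha => ?_⟩
    have := conj_mem_twoAt hg.inv_left ha
    simpa [mul_assoc] using this
  -- an element of `A x` and one of `T y` normalizing each other commute
  have cross : ∀ {x y a t : X}, a ∈ coreAt x → t ∈ twoAt y → Commute a y → Commute t x →
      Commute t a := by
    intro x y a t ha ht hay htx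
    have h1 : t * a * t⁻¹ * a⁻¹ ∈ coreAt x := mul_mem (conj_mem_coreAt htx ha) (inv_mem ha)
    have h2 : t * a * t⁻¹ * a⁻¹ ∈ twoAt y := by
      have e : t * a * t⁻¹ * a⁻¹ = t * (a * t⁻¹ * a⁻¹) := by group
      rw [e]
      exact mul_mem ht (conj_mem_twoAt hay (inv_mem ht))
    have := eq_one_of_odd (twoAt_isPGroup y) h2 (orderOf_odd h1)
    rw [mul_inv_eq_one, mul_inv_eq_iff_eq_mul] at this
    exact this
  obtain ⟨z, hzY, hz1, hzF⟩ := hz
  have hzC := (Core.generalizedFitting_eq_pCore_iff (p := 2)).mp hzF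
  have inTwoZ : ∀ {a : X}, Commute a z → (∀ t ∈ twoAt z, Commute t a) → a ∈ twoAt z := by
    intro a haz hc
    refine ⟨⟨a, mem_cent.mpr haz⟩, hzC (Subgroup.mem_centralizer_iff.mpr fun t ht => ?_), rfl⟩
    exact Subtype.ext (hc _ ⟨t, ht, rfl⟩).eq
  have free : ∀ {y a : X}, y ∈ Y → a ∈ coreAt y → Commute a z → a = 1 := by
    intro y a hy ha haz
    refine eq_one_of_odd (twoAt_isPGroup z) (inTwoZ haz fun t ht => ?_) (orderOf_odd ha)
    exact commute_of_fixed (twoAt_isPGroup z) (Ypg hy) (orderOf_odd ha)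
      (commute_of_mem_coreAt ha).symm (two_norm (Ycomm hy hzY)) (two_norm haz)
      (fun t ht hty => cross ha ht haz hty) ht
  -- `z` inverts every core
  have inverted : ∀ {y a : X}, y ∈ Y → a ∈ coreAt y → z * a * z = a⁻¹ := by
    intro y a hy ha
    have hzz := Ysq hzY
    have hzi : z⁻¹ = z := inv_eq_of_mul_eq_one_right hzz
    have hm : ∀ {b : X}, b ∈ coreAt y → z * b * z ∈ coreAt y := fun {b} hb => by
      simpa [hzi] using conj_mem_coreAt (Ycomm hzY hy) hb
    have hinj : Function.Injective (fun b : coreAt y =>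
        (⟨(b : X)⁻¹ * (z * b * z), mul_mem (inv_mem b.2) (hm b.2)⟩ : coreAt y)) := by
      intro b c hbc
      have e : (b : X)⁻¹ * (z * b * z) = (c : X)⁻¹ * (z * c * z) := congrArg Subtype.val hbc
      have hd : Commute ((c : X) * (b : X)⁻¹) z := by
        have e' : (b : X)⁻¹ * (z * b) = (c : X)⁻¹ * (z * c) :=
          mul_right_cancel (b := z) (by simpa only [mul_assoc] using e)
        show (c : X) * (b : X)⁻¹ * z = z * ((c : X) * (b : X)⁻¹)
        calc (c : X) * (b : X)⁻¹ * z = c * ((b : X)⁻¹ * (z * b)) * (b : X)⁻¹ := by group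
          _ = _ := by rw [e']; group
      have := free hy (mul_mem c.2 (inv_mem b.2)) hd
      exact Subtype.ext (mul_inv_eq_one.mp this).symm
    obtain ⟨b, hb⟩ := Finite.surjective_of_injective hinj ⟨a, ha⟩
    have e : (b : X)⁻¹ * (z * b * z) = a := congrArg Subtype.val hb
    rw [← e]
    simp only [mul_inv_rev, inv_inv, hzi, mul_assoc, hzz, mul_one]
  have abel : ∀ {y a b : X}, y ∈ Y → a ∈ coreAt y → b ∈ coreAt y → Commute a b := by
    intro y a b hy ha hb
    have h := inverted hy (mul_mem (inv_mem ha) (inv_mem hb))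
    have e : z * (a⁻¹ * b⁻¹) * z = (z * a⁻¹ * z) * (z * b⁻¹ * z) := by
      rw [show (z * a⁻¹ * z) * (z * b⁻¹ * z) = z * a⁻¹ * (z * z) * b⁻¹ * z by group, Ysq hzY]
      group
    rw [e, inverted hy (inv_mem ha), inverted hy (inv_mem hb)] at h
    simp only [inv_inv, mul_inv_rev] at h
    exact h
  -- balance
  have bal : ∀ {x y u : X}, x ∈ Y → y ∈ Y → y ≠ 1 → u ∈ coreAt x → Commute u y →
      u ∈ coreAt y := by
    intro x y u hx hy hy1 hu huy
    have hT : ∀ t ∈ twoAt y, Commute t u := fun t ht =>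
      commute_of_fixed (twoAt_isPGroup y) (Ypg hx) (orderOf_odd hu)
        (commute_of_mem_coreAt hu).symm (two_norm (Ycomm hx hy)) (two_norm huy)
        (fun s hs hsx => cross hu hs huy hsx) ht
    have hA : ∀ a ∈ coreAt y, Commute a u := by
      intro a ha
      have hb := inverted hy (conj_mem_coreAt huy (inv_mem ha))
      have e : z * (u * a⁻¹ * u⁻¹) * z = (z * u * z) * (z * a⁻¹ * z) * (z * u⁻¹ * z) := by
        rw [show (z * u * z) * (z * a⁻¹ * z) * (z * u⁻¹ * z)
          = z * u * (z * z) * a⁻¹ * (z * z) * u⁻¹ * z by group, Ysq hzY]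
        group
      rw [e, inverted hx hu, inverted hy (inv_mem ha), inverted hx (inv_mem hu)] at hb
      simp only [inv_inv, mul_inv_rev] at hb
      have hc : Commute a (u * u) := by
        show a * (u * u) = u * u * a
        calc a * (u * u) = u * (u⁻¹ * a * u) * u := by group
          _ = u * (u * (a * u⁻¹)) * u := by rw [hb]
          _ = u * u * a := by group
      obtain ⟨i, hi⟩ := mem_zpowers_sq (orderOf_odd hu)
      have := hc.zpow_right i
      rwa [show (u * u) ^ i = u from hi] at this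
    set V := Subgroup.centralizer ({y} : Set X) with hV
    let u' : V := ⟨u, mem_cent.mpr huy⟩
    have hodd : ∀ p : Nat.Primes, (p : ℕ) ≠ 2 → Cfsg.pCore (p : ℕ) V ≤ Cfsg.oddCore V := by
      intro p hp
      haveI : Fact (p : ℕ).Prime := ⟨p.2⟩
      obtain ⟨n, hn⟩ := IsPGroup.iff_card.1 (Core.pCore_isPGroup (p : ℕ) V)
      exact Core.le_pPrimeCore (by
        rw [hn]; exact Nat.Coprime.pow_left n ((Nat.coprime_primes p.2 Nat.prime_two).2 hp))
    have hle : Cfsg.fittingSubgroup V ≤ Cfsg.pCore 2 V ⊔ Cfsg.oddCore V := by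
      rw [Core.fittingSubgroup_eq_iSup_pCore]
      refine iSup_le fun p => ?_
      by_cases hp : (p : ℕ) = 2
      · rw [hp]; exact le_sup_left
      · exact (hodd p hp).trans le_sup_right
    have hcu : u' ∈ Subgroup.centralizer (Cfsg.fittingSubgroup V : Set V) := by
      have h1 : Cfsg.pCore 2 V ⊔ Cfsg.oddCore V ≤ Subgroup.centralizer ({u'} : Set V) :=
        sup_le
          (fun t ht => Subgroup.mem_centralizer_iff.mpr fun v hv => by
            rw [Set.mem_singleton_iff.mp hv]; exact Subtype.ext (hT _ ⟨t, ht, rfl⟩).symm.eq)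
          (fun t ht => Subgroup.mem_centralizer_iff.mpr fun v hv => by
            rw [Set.mem_singleton_iff.mp hv]; exact Subtype.ext (hA _ ⟨t, ht, rfl⟩).symm.eq)
      exact Subgroup.mem_centralizer_iff.mpr fun t ht =>
        (Subgroup.mem_centralizer_iff.mp (h1 (hle ht)) u' rfl).symm
    have := hle (Core.centralizer_fitting_le_iff_layer_eq_bot.mpr (hE y hy hy1) hcu)
    obtain ⟨t, ht, a, ha, e⟩ := Subgroup.mem_sup_of_normal_right.mp this
    have hT' : (t : X) ∈ twoAt y := ⟨t, ht, rfl⟩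
    have hA' : (a : X) ∈ coreAt y := ⟨a, ha, rfl⟩
    have et : (t : X) = u * (a : X)⁻¹ := eq_mul_inv_of_mul_eq (congrArg Subtype.val e)
    have : (t : X) = 1 := by
      refine eq_one_of_odd (twoAt_isPGroup y) hT' ?_
      rw [et]
      exact ((orderOf_odd hu).mul (orderOf_odd (inv_mem hA'))).of_dvd_nat
        ((hA _ (inv_mem hA')).symm.orderOf_mul_dvd_mul_orderOf)
    rw [this] at et
    rw [mul_inv_eq_one.mp et.symm]
    exact hA'
  -- a squared element of a core splits along any element of `Y`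
  have split : ∀ {y w a : X}, y ∈ Y → w ∈ Y → a ∈ coreAt y →
      ∃ a₁ a₂, a₁ ∈ coreAt y ∧ a₂ ∈ coreAt y ∧ Commute a₁ w ∧ Commute a₂ (w * z) ∧
        a * a = a₁ * a₂ := by
    intro y w a hy hw ha
    have hwi : w⁻¹ = w := inv_eq_of_mul_eq_one_right (Ysq hw)
    have hb : w * a * w ∈ coreAt y := by simpa [hwi] using conj_mem_coreAt (Ycomm hw hy) ha
    have hc : a * (w * a * w)⁻¹ ∈ coreAt y := mul_mem ha (inv_mem hb)
    refine ⟨a * (w * a * w), a * (w * a * w)⁻¹, mul_mem ha hb, hc, ?_, ?_, ?_⟩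
    · show a * (w * a * w) * w = w * (a * (w * a * w))
      calc a * (w * a * w) * w = (a * (w * a * w)) * w := rfl
        _ = ((w * a * w) * a) * w := by rw [(abel hy ha hb).eq]
        _ = _ := by simp only [mul_assoc]
    · set c := a * (w * a * w)⁻¹ with hcdef
      have h1 : w * c * w = c⁻¹ := by
        simp only [hcdef, mul_inv_rev, inv_inv, hwi, mul_assoc, Ysq hw, mul_one]
      have h2 := inverted hy hc
      clear_value c
      have h3 : z * c = c⁻¹ * z := by rw [← h2, mul_assoc (z * c), Ysq hzY, mul_one]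
      have h4 : w * c⁻¹ = c * w := by
        rw [← h1, ← mul_assoc, ← mul_assoc, Ysq hw, one_mul]
      have h5 : Commute c (w * z) := by
        show c * (w * z) = w * z * c
        rw [mul_assoc w z c, h3, ← mul_assoc w, h4, mul_assoc]
      exact h5
    · rw [show a * (w * a * w) * (a * (w * a * w)⁻¹) = a * ((w * a * w) * a) * (w * a * w)⁻¹ by
        group, ← (abel hy ha hb).eq]
      group
  -- commuting through a common element
  have common : ∀ {x y v a b : X}, x ∈ Y → y ∈ Y → v ∈ Y → v ≠ 1 → a ∈ coreAt x → b ∈ coreAt y →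
      Commute a v → Commute b v → Commute a b :=
    fun hx hy hv hv1 ha hb hav hbv => abel hv (bal hx hv hv1 ha hav) (bal hy hv hv1 hb hbv)
  have unsq : ∀ {a b : X}, Odd (orderOf a) → Commute (a * a) b → Commute a b := by
    intro a b ho h
    obtain ⟨i, hi⟩ := mem_zpowers_sq ho
    have := h.zpow_left i
    rwa [show (a * a) ^ i = a from hi] at this
  have pairwise : ∀ {x y a b : X}, x ∈ Y → x ≠ 1 → y ∈ Y → y ≠ 1 → a ∈ coreAt x → b ∈ coreAt y →
      Commute a b := by
    intro x y a b hx hx1 hy hy1 ha hb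
    refine unsq (orderOf_odd ha) (unsq (orderOf_odd hb) ?_).symm |>.symm.symm
    obtain ⟨b₁, b₂, hb₁, hb₂, hb₁x, hb₂x, eb⟩ := split hy hx hb
    obtain ⟨a₁, a₂, ha₁, ha₂, ha₁y, ha₂y, ea⟩ := split hx hy ha
    rw [eb, ea]
    have t1 : ∀ {d}, d ∈ coreAt x → Commute b₁ d := fun hd =>
      common hy hx hx hx1 hb₁ hd hb₁x (commute_of_mem_coreAt hd)
    have t2 : Commute b₂ a₁ :=
      common hy hx hy hy1 hb₂ ha₁ (commute_of_mem_coreAt hb₂) ha₁y
    have t3 : Commute b₂ a₂ := by
      by_cases hv : x * y * z = 1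
      · obtain ⟨w, hw, hwn⟩ : ∃ w ∈ Y, w ∉ ({1, x, y, z} : Finset X) := by
          by_contra hh
          push Not at hh
          have : Nat.card Y ≤ ({1, x, y, z} : Finset X).card := by
            rw [← Nat.card_eq_finsetCard]
            exact Nat.card_le_card_of_injective
              (fun e : Y => (⟨e.1, hh e.1 e.2⟩ : ({1, x, y, z} : Finset X)))
              (fun p q hpq => Subtype.ext (congrArg (fun e : ({1, x, y, z} : Finset X) => (e : X)) hpq))
          have := this.trans Finset.card_le_four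
          omega
        simp only [Finset.mem_insert, Finset.mem_singleton, not_or] at hwn
        have eyz : y * z = x := by
          have h : x * (y * z) = 1 := by rw [← mul_assoc]; exact hv
          rw [← inv_eq_of_mul_eq_one_right h, inv_eq_of_mul_eq_one_right (Ysq hx)]
        have exz : x * z = y := by
          rw [← eyz, mul_assoc, Ysq hzY, mul_one]
        refine unsq (orderOf_odd hb₂) ?_
        refine (unsq (orderOf_odd ha₂) ?_).symm
        obtain ⟨c₁, c₂, hc₁, hc₂, hc₁w, hc₂w, ec⟩ := split hx hw ha₂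
        obtain ⟨d₁, d₂, hd₁, hd₂, hd₁w, hd₂w, ed⟩ := split hy hw hb₂
        rw [ec, ed]
        have nwz : w * z ≠ 1 := fun h => hwn.2.2.2 (by
          rw [← inv_eq_of_mul_eq_one_left h, inv_eq_of_mul_eq_one_right (Ysq hzY)])
        have nwx : w * x ≠ 1 := fun h => hwn.2.1 (by
          rw [← inv_eq_of_mul_eq_one_left h, inv_eq_of_mul_eq_one_right (Ysq hx)])
        have nwy : w * y ≠ 1 := fun h => hwn.2.2.1 (by
          rw [← inv_eq_of_mul_eq_one_left h, inv_eq_of_mul_eq_one_right (Ysq hy)])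
        have e12 : w * z * y = w * x := by
          rw [mul_assoc, (Ycomm hzY hy).eq, eyz]
        have e21 : w * z * x = w * y := by
          rw [mul_assoc, (Ycomm hzY hx).eq, exz]
        refine Commute.mul_left ?_ ?_ <;> refine Commute.mul_right ?_ ?_
        · exact common hx hy hw hwn.1 hc₁ hd₁ hc₁w hd₁w
        · refine common hx hy (mul_mem hw hx) nwx hc₁ hd₂
            (hc₁w.mul_right (commute_of_mem_coreAt hc₁)) ?_
          rw [← e12]
          exact hd₂w.mul_right (commute_of_mem_coreAt hd₂)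
        · refine common hx hy (mul_mem hw hy) nwy hc₂ hd₁ ?_
            (hd₁w.mul_right (commute_of_mem_coreAt hd₁))
          rw [← e21]
          exact hc₂w.mul_right (commute_of_mem_coreAt hc₂)
        · exact common hx hy (mul_mem hw hzY) nwz hc₂ hd₂ hc₂w hd₂w
      · refine common hy hx (mul_mem (mul_mem hx hy) hzY) hv hb₂ ha₂ ?_ ?_
        · have := hb₂x.mul_right (commute_of_mem_coreAt hb₂)
          rwa [mul_assoc x z y, (Ycomm hzY hy).eq, ← mul_assoc] at this
        · rw [mul_assoc]; exact (commute_of_mem_coreAt ha₂).mul_right ha₂y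
    exact ((t1 ha₁).mul_right (t1 ha₂)).mul_left (t2.mul_right t3)
  set W : Subgroup X := ⨆ y : {y : X // y ∈ Y ∧ y ≠ 1}, coreAt (y : X) with hW
  refine ⟨?_, ?_⟩
  · show Odd (Nat.card W)
    have cW : ∀ {a b : X}, a ∈ W → b ∈ W → Commute a b := by
      have h1 : ∀ y : {y : X // y ∈ Y ∧ y ≠ 1}, W ≤ Subgroup.centralizer (coreAt (y : X) : Set X) :=
        fun y => iSup_le fun x a ha => Subgroup.mem_centralizer_iff.mpr fun b hb =>
          (pairwise y.2.1 y.2.2 x.2.1 x.2.2 hb ha).eq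
      have h2 : W ≤ Subgroup.centralizer (W : Set X) :=
        iSup_le fun y => Subgroup.le_centralizer_iff.mp (h1 y)
      exact fun {a b} ha hb => (Subgroup.mem_centralizer_iff.mp (h2 ha) b hb).symm
    have hord : ∀ a ∈ W, Odd (orderOf a) := by
      intro a ha
      rw [hW] at ha
      have : a ∈ W ∧ Odd (orderOf a) := by
        refine Subgroup.iSup_induction _ (C := fun a => a ∈ W ∧ Odd (orderOf a)) ha
          (fun y b hb => ⟨Subgroup.mem_iSup_of_mem y hb, orderOf_odd hb⟩)
          ⟨one_mem _, by simp⟩ (fun b c hb hc => ⟨mul_mem hb.1 hc.1,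
            (hb.2.mul hc.2).of_dvd_nat (cW hb.1 hc.1).orderOf_mul_dvd_mul_orderOf⟩)
      exact this.2
    rw [← Nat.not_even_iff_odd]
    intro hev
    obtain ⟨a, ha⟩ := exists_prime_orderOf_dvd_card' (G := W) 2 (even_iff_two_dvd.mp hev)
    have := hord a a.2
    rw [Subgroup.orderOf_coe, ha] at this
    exact absurd this (by decide)
  · intro g hg
    show g ∈ Subgroup.normalizer (W : Set X)
    have key : ∀ g ∈ Subgroup.normalizer (Y : Set X), ∀ a ∈ W, g * a * g⁻¹ ∈ W := by
      intro g hg a ha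
      suffices W ≤ W.comap (MulAut.conj g).toMonoidHom from this ha
      refine iSup_le fun y b hb => ?_
      have hy' : g * y * g⁻¹ ∈ Y := (Subgroup.mem_normalizer_iff.mp hg _).mp y.2.1
      have hy1 : g * (y : X) * g⁻¹ ≠ 1 := fun h => y.2.2 (conj_eq_one_iff.mp h)
      refine Subgroup.mem_iSup_of_mem ⟨_, hy', hy1⟩ ?_
      show g * b * g⁻¹ ∈ coreAt (g * (y : X) * g⁻¹)
      have hmap : (coreAt (y : X)).map (MulAut.conj g).toMonoidHom ≤
          Subgroup.centralizer ({g * (y : X) * g⁻¹} : Set X) := by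
        rintro _ ⟨c, hc, rfl⟩
        refine mem_cent.mpr ?_
        exact (commute_of_mem_coreAt hc).map (MulAut.conj g).toMonoidHom
      have hN : (((coreAt (y : X)).map (MulAut.conj g).toMonoidHom).subgroupOf
          (Subgroup.centralizer ({g * (y : X) * g⁻¹} : Set X))).Normal := by
        constructor
        rintro ⟨c, hc⟩ hcm ⟨h, hh⟩
        obtain ⟨c', hc', rfl⟩ := hcm
        refine ⟨(g⁻¹ * h * g) * c' * (g⁻¹ * h * g)⁻¹, conj_mem_coreAt ?_ hc', ?_⟩
        · have h1 := (mem_cent.mp hh).map (MulAut.conj g⁻¹).toMonoidHom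
          simpa [MulAut.conj_apply, mul_assoc] using h1
        · simp [MulAut.conj_apply, mul_assoc]
      have hle := Core.le_pPrimeCore' (p := 2) hN (by
        rw [Nat.card_congr (Subgroup.subgroupOfEquivOfLe hmap).toEquiv,
          Subgroup.card_map_of_injective (MulAut.conj g).injective]
        exact Nat.coprime_two_right.mpr (card_coreAt_odd _))
      have hb' : g * b * g⁻¹ ∈ (coreAt (y : X)).map (MulAut.conj g).toMonoidHom := ⟨b, hb, rfl⟩
      exact ⟨⟨_, hmap hb'⟩, hle hb', rfl⟩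
    refine Subgroup.mem_normalizer_iff.mpr fun a => ⟨key g hg a, fun ha => ?_⟩
    have := key g⁻¹ (inv_mem hg) _ ha
    simpa [mul_assoc] using this

end Cfsg.Agent.S2924
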