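import Cfsg.Statements.S2925
import Cfsg.Agent.Lib.Core.Layer
import Cfsg.Agent.Lib.Solv.Nilpotent
-- import your own Cfsg.Agent.* helpers here

set_option autoImplicit false
open Cfsg

namespace Cfsg.Agent.S2925

/-- Let K be a component of the finite group X and T a Sylow 2-subgroup of X. If some abelian normal subgroup Y of T does not normalize K, then K ⧸ Z(K) has abelian Sylow 2-subgroups. -/
theorem result {X : Type*} [Group X] [Finite X] (K : Subgroup X) (hK : Cfsg.IsComponent K) (T : Sylow 2 X) (Y : Subgroup X) (hYT : Y ≤ (T : Subgroup X)) (hYn : (Y.subgroupOf (T : Subgroup X)).Normal) (hYab : IsMulCommutative ↥Y) (hnot : ¬ Y ≤ Subgroup.normalizer (K : Set X)) (P : Sylow 2 (↥K ⧸ Subgroup.center ↥K)) : IsMulCommutative ↥(P : Subgroup (↥K ⧸ Subgroup.center ↥K)) := by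
  classical
  obtain ⟨y, hyY, hy⟩ := SetLike.not_le_iff_exists.1 hnot
  set L := K.map (MulAut.conj y).toMonoidHom with hL
  have hne : K ≠ L := fun h => hy (Cfsg.Lib.Core.mem_normalizer_iff_map_conj.2 h.symm)
  have hc : ∀ k ∈ K, ∀ l ∈ L, k * l = l * k :=
    Cfsg.Lib.Core.commutator_eq_bot_iff_forall.1
      (Cfsg.Lib.Core.component_commute hK (Cfsg.Lib.Core.IsComponent.map_conj hK y) hne)
  haveI : Fact (Nat.Prime 2) := ⟨Nat.prime_two⟩
  have hQp : IsPGroup 2 ↥(((T : Subgroup X)).subgroupOf K) :=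
    T.2.comap_of_injective K.subtype K.subtype_injective
  have hQi : ¬ 2 ∣ ((T : Subgroup X).subgroupOf K).index :=
    Cfsg.Lib.Solv.not_dvd_relIndex_of_isSubnormal T hK.1
  let Q₀ : Sylow 2 ↥K := hQp.toSylow hQi
  have key : ∀ a ∈ (Q₀ : Subgroup ↥K), ∀ b ∈ (Q₀ : Subgroup ↥K),
      ∃ z ∈ Subgroup.center ↥K, a * b = b * a * z := by
    intro a ha b hb
    have hu : ∀ c : ↥K, c ∈ (T : Subgroup X).subgroupOf K → (c : X) * (y * (c : X)⁻¹ * y⁻¹) ∈ Y := by
      intro c hc'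
      have h1 : (⟨(c : X), hc'⟩ : ↥(T : Subgroup X)) * ⟨y, hYT hyY⟩ * ⟨(c : X), hc'⟩⁻¹ ∈
          Y.subgroupOf (T : Subgroup X) := hYn.conj_mem _ hyY _
      have h2 := Y.mul_mem h1 (Y.inv_mem hyY)
      simpa [mul_assoc] using h2
    have hl : ∀ c : ↥K, y * (c : X)⁻¹ * y⁻¹ ∈ L := fun c => ⟨_, K.inv_mem c.2, rfl⟩
    have h := congrArg Subtype.val (hYab.is_comm.comm ⟨_, hu a ha⟩ ⟨_, hu b hb⟩)
    simp only [Subgroup.coe_mul] at h
    generalize hA : y * (a : X)⁻¹ * y⁻¹ = a' at h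
    generalize hB : y * (b : X)⁻¹ * y⁻¹ = b' at h
    have ha' : a' ∈ L := hA ▸ hl a
    have hb' : b' ∈ L := hB ▸ hl b
    have e : ((b : X) * a)⁻¹ * ((a : X) * b) = (b' * a') * (a' * b')⁻¹ := by
      have e1 : (a : X) * a' * (b * b') = a * b * (a' * b') := by
        rw [mul_assoc, ← mul_assoc a', ← hc b b.2 a' ha']
        simp [mul_assoc]
      have e2 : (b : X) * b' * (a * a') = b * a * (b' * a') := by
        rw [mul_assoc, ← mul_assoc b', ← hc a a.2 b' hb']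
        simp [mul_assoc]
      rw [e1, e2] at h
      rw [eq_mul_inv_iff_mul_eq, mul_assoc, h, inv_mul_cancel_left]
    refine ⟨(b * a)⁻¹ * (a * b), Subgroup.mem_center_iff.2 fun k => Subtype.ext ?_, by rw [mul_inv_cancel_left]⟩
    have hz : ((b : X) * a)⁻¹ * ((a : X) * b) ∈ L := by
      rw [e]; exact L.mul_mem (L.mul_mem hb' ha') (L.inv_mem (L.mul_mem ha' hb'))
    simpa using hc k k.2 _ hz
  let Q₁ : Sylow 2 (↥K ⧸ Subgroup.center ↥K) :=
    Q₀.mapSurjective (QuotientGroup.mk'_surjective (Subgroup.center ↥K))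
  let f := Sylow.equiv P Q₁
  refine ⟨⟨fun u v => f.injective ?_⟩⟩
  rw [map_mul, map_mul]
  generalize f u = u'
  generalize f v = v'
  obtain ⟨u', a, ha, rfl⟩ := u'
  obtain ⟨v', b, hb, rfl⟩ := v'
  obtain ⟨z, hz, hab⟩ := key a ha b hb
  refine Subtype.ext ?_
  show QuotientGroup.mk' _ a * QuotientGroup.mk' _ b = QuotientGroup.mk' _ b * QuotientGroup.mk' _ a
  rw [← map_mul, ← map_mul, hab, map_mul, (QuotientGroup.eq_one_iff z).2 hz |> fun h => (show QuotientGroup.mk' (Subgroup.center ↥K) z = 1 from h), mul_one]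

end Cfsg.Agent.S2925
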