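import Cfsg.Statements.S2928
import Cfsg.Agent.Lib.Perm.SmallSupportSylow
-- import your own Cfsg.Agent.* helpers here

set_option autoImplicit false
open Cfsg

namespace Cfsg.Agent.S2928

open Subgroup Cfsg.Lib.Perm.SmallSupp

/-- Let n ≥ 8 and let H be a subgroup of the symmetric group of degree n whose generalized Fitting subgroup F*(H) is quasisimple. If H contains a Sylow 2-subgroup of the alternating group of degree n, then F*(H) is isomorphic to an alternating group of degree m for some m ∈ {n − 3, n − 2, n − 1, n}. -/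
theorem result (n : ℕ) (hn : 8 ≤ n) (H : Subgroup (Equiv.Perm (Fin n))) (hF : Cfsg.IsQuasisimple ↥(Cfsg.generalizedFittingSubgroup ↥H)) (hS : ∃ P : Sylow 2 ↥(alternatingGroup (Fin n)), ((P : Subgroup ↥(alternatingGroup (Fin n))).map (alternatingGroup (Fin n)).subtype) ≤ H) : ∃ m : ℕ, (m = n - 3 ∨ m = n - 2 ∨ m = n - 1 ∨ m = n) ∧ Nonempty (↥(Cfsg.generalizedFittingSubgroup ↥H) ≃* ↥(alternatingGroup (Fin m))) := by
  classical
  obtain ⟨P, hP⟩ := hS
  have hsg : ∀ a : ZMod 2 × ZMod 2, Equiv.Perm.sign (Equiv.addLeft a) = 1 := by decide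
  have hc4 : Fintype.card (ZMod 2 × ZMod 2) = 4 := by simp
  have h2 : ∀ a : ZMod 2 × ZMod 2, a + a = 0 := by decide
  haveI : Fact (Nat.Prime 2) := ⟨Nat.prime_two⟩
  obtain ⟨ι⟩ := exists_embedding (n := n) (A := ZMod 2 × ZMod 2) (k := n / 4) hc4 (Nat.div_mul_le_self n 4)
  have heven := shiftIn_even ι hsg
  have hp : IsPGroup 2 ((shiftIn ι).range.subgroupOf (alternatingGroup (Fin n))) :=
    (isPGroup_range ι (p := 2) (fun a => by rw [two_smul]; exact h2 a)).comap_of_injective _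
      (alternatingGroup (Fin n)).subtype_injective
  obtain ⟨Q, hQ⟩ := hp.exists_le_sylow
  obtain ⟨g, hg⟩ := MulAction.exists_smul_eq (alternatingGroup (Fin n)) Q P
  set c : Equiv.Perm (Fin n) := (g : Equiv.Perm (Fin n)) with hc
  set H' : Subgroup (Equiv.Perm (Fin n)) := H.comap (MulAut.conj c).toMonoidHom with hH'
  have hle : (shiftIn ι).range ≤ H' := by
    intro x hx
    refine hP ⟨g * ⟨x, heven hx⟩ * g⁻¹, ?_, rfl⟩
    rw [← hg, SetLike.mem_coe, Sylow.coe_subgroup_smul]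
    exact ⟨⟨x, heven hx⟩, hQ hx, rfl⟩
  set S : Set (Fin n) := Set.range fun z => c (ι z) with hSd
  have h4 : ∀ s ∈ S, ∃ D, V4In H D ∧ s ∈ D := by
    rintro _ ⟨⟨i, v⟩, rfl⟩
    obtain ⟨h1, h2'⟩ := v4In_shiftIn ι hc4 h2 hle i
    refine ⟨(Finset.univ.image fun v => ι (i, v)).image c,
      ⟨(Finset.card_image_of_injective _ c.injective).trans h1, ?_⟩,
      Finset.mem_image_of_mem _ (Finset.mem_image_of_mem _ (Finset.mem_univ v))⟩
    intro a ha b hb hab
    obtain ⟨a', ha', rfl⟩ := Finset.mem_image.1 ha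
    obtain ⟨b', hb', rfl⟩ := Finset.mem_image.1 hb
    obtain ⟨x, hx, hs, hxa, hxx⟩ := h2' a' ha' b' hb' fun h => hab (congrArg c h)
    refine ⟨c * x * c⁻¹, hx, by rw [support_conj, hs], by simp [hxa], ?_⟩
    calc c * x * c⁻¹ * (c * x * c⁻¹) = c * (x * x) * c⁻¹ := by group
      _ = 1 := by rw [hxx, mul_one, mul_inv_cancel]
  have hcard : S.ncard = n / 4 * 4 := by
    rw [hSd, Set.ncard_range_of_injective (f := fun z => c (ι z)) (c.injective.comp ι.injective)]
    simp
  obtain ⟨m, h1, h3, he⟩ := alternating_of_four H hF (by omega : 8 ≤ S.ncard) h4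
  rw [Fintype.card_fin] at h3
  exact ⟨m, by omega, he⟩

end Cfsg.Agent.S2928
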