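import Cfsg.Statements.S2929
import Cfsg.Agent.Lib.Perm.SmallSupportSylow
-- import your own Cfsg.Agent.* helpers here

set_option autoImplicit false
open Cfsg

namespace Cfsg.Agent.S2929

open Subgroup Cfsg.Lib.Perm.SmallSupp

/-- Let n ≥ 5 and let H be a subgroup of the symmetric group of degree n whose generalized Fitting subgroup F*(H) is quasisimple. If H contains a Sylow 3-subgroup of the symmetric group, then F*(H) is isomorphic to an alternating group of degree m for some m ∈ {n − 2, n − 1, n}. -/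
theorem result (n : ℕ) (hn : 5 ≤ n) (H : Subgroup (Equiv.Perm (Fin n))) (hF : Cfsg.IsQuasisimple ↥(Cfsg.generalizedFittingSubgroup ↥H)) (hS : ∃ P : Sylow 3 (Equiv.Perm (Fin n)), (P : Subgroup (Equiv.Perm (Fin n))) ≤ H) : ∃ m : ℕ, (m = n - 2 ∨ m = n - 1 ∨ m = n) ∧ Nonempty (↥(Cfsg.generalizedFittingSubgroup ↥H) ≃* ↥(alternatingGroup (Fin m))) := by
  classical
  obtain ⟨P, hP⟩ := hS
  have hz : ∀ a : ZMod 3, 3 • a = 0 := by decide
  have h10 : (1 : ZMod 3) ≠ 0 := by decide
  haveI : Fact (Nat.Prime 3) := ⟨by norm_num⟩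
  obtain ⟨ι⟩ := exists_embedding (n := n) (A := ZMod 3) (k := n / 3) (ZMod.card 3) (Nat.div_mul_le_self n 3)
  obtain ⟨Q, hQ⟩ := (isPGroup_range ι (p := 3) hz).exists_le_sylow
  obtain ⟨g, hg⟩ := MulAction.exists_smul_eq (Equiv.Perm (Fin n)) Q P
  set S : Set (Fin n) := Set.range fun z => g (ι z) with hSd
  have h3 : ∀ s ∈ S, ∃ x ∈ H, x.IsThreeCycle ∧ s ∈ x.support := by
    rintro _ ⟨⟨i, v⟩, rfl⟩
    set w := shiftIn ι (Multiplicative.ofAdd (Pi.single i (1 : ZMod 3))) with hw
    refine ⟨g * w * g⁻¹, hP ?_, ?_, ?_⟩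
    · rw [← hg, Sylow.coe_subgroup_smul]
      exact ⟨w, hQ ⟨_, rfl⟩, rfl⟩
    · rw [← card_support_eq_three_iff, support_conj, Finset.card_image_of_injective _ g.injective,
        shiftIn_support ι i h10, card_block, ZMod.card]
    · rw [support_conj, shiftIn_support ι i h10]
      exact Finset.mem_image_of_mem _ (Finset.mem_image_of_mem _ (Finset.mem_univ v))
  have hcard : S.ncard = n / 3 * 3 := by
    rw [hSd, Set.ncard_range_of_injective (f := fun z => g (ι z)) (g.injective.comp ι.injective)]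
    simp
  have hne : S.Nonempty := Set.nonempty_of_ncard_ne_zero (by omega)
  obtain ⟨m, h1, h2, he⟩ := alternating_of_three H hF hne h3
  rw [Fintype.card_fin] at h2
  exact ⟨m, by omega, he⟩

end Cfsg.Agent.S2929
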