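import Cfsg.Statements.S2930
import Cfsg.Agent.S4231
import Cfsg.Agent.Lib.Core.Layer
import Cfsg.Agent.Lib.Local.ThreeMinimalAlt

set_option autoImplicit false
open Cfsg

namespace Cfsg.Agent.S2930

/-- Let X be a finite 3-minimal group (a Sylow 3-subgroup is not normal and lies in a unique maximal subgroup) whose generalized Fitting subgroup is isomorphic to an alternating group of degree n ≥ 5. Then X = F*(X), and n = 6, n = 9, or n = 3ᵃ + 1 for some a ≥ 2. -/
theorem result {X : Type*} [Group X] [Finite X] (hX : Cfsg.IsPMinimal 3 X) (n : ℕ) (hn : 5 ≤ n) (hF : Nonempty (↥(Cfsg.generalizedFittingSubgroup X) ≃* ↥(alternatingGroup (Fin n)))) : Cfsg.generalizedFittingSubgroup X = ⊤ ∧ (n = 6 ∨ n = 9 ∨ ∃ a : ℕ, 2 ≤ a ∧ n = 3 ^ a + 1) := by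
  classical
  haveI : Fact (Nat.Prime 3) := ⟨Nat.prime_three⟩
  set F := Cfsg.generalizedFittingSubgroup X with hFdef
  obtain ⟨e⟩ := hF
  haveI hFn : F.Normal := inferInstance
  have hinj := Cfsg.Agent.S4231.conj_inj n (by omega)
  -- every element of a Sylow 3-subgroup lies in `F`
  have hSF : ∀ S : Sylow 3 X, (S : Subgroup X) ≤ F := by
    intro S s hs
    set φ : X →* MulAut (alternatingGroup (Fin n)) :=
      (MulAut.congr e).toMonoidHom.comp (MulAut.conjNormal : X →* MulAut F) with hφ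
    obtain ⟨k, hk⟩ := IsPGroup.iff_orderOf.1 S.isPGroup' ⟨s, hs⟩
    rw [← Subgroup.orderOf_coe] at hk
    have hd : orderOf (φ s) ∣ 3 ^ k := hk ▸ orderOf_map_dvd φ s
    have h3 : Odd (3 ^ k) := (by decide : Odd 3).pow
    have hodd : Odd (orderOf (φ s)) := h3.of_dvd_nat hd
    obtain ⟨σ, hσ⟩ := Cfsg.Agent.S4231.mem_range n hn (φ s) (Or.inr hodd)
    have hσo : Odd (orderOf σ) := by
      rwa [← orderOf_injective _ hinj σ, hσ]
    have hσA : σ ∈ alternatingGroup (Fin n) := by
      rw [Equiv.Perm.mem_alternatingGroup]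
      rcases Int.units_eq_one_or (Equiv.Perm.sign σ) with h | h
      · exact h
      · have := congrArg Equiv.Perm.sign (pow_orderOf_eq_one σ)
        rw [map_pow, h, hσo.neg_one_pow, map_one] at this
        exact absurd this (by decide)
    set f : F := e.symm ⟨σ, hσA⟩ with hf
    have hc : ∀ x : F, (MulAut.conjNormal s : MulAut F) x = f * x * f⁻¹ := by
      intro x
      apply e.injective
      have h1 := congrArg (fun ψ : MulAut (alternatingGroup (Fin n)) => ψ (e x)) hσ
      simp only [hφ, MonoidHom.comp_apply, MulEquiv.coe_toMonoidHom, MulAut.congr_apply,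
        MulEquiv.trans_apply, MulEquiv.symm_apply_apply] at h1
      rw [← h1]
      apply Subtype.ext
      simp [hf, MulAut.conjNormal_apply]
    have hmem : (f : X)⁻¹ * s ∈ Subgroup.centralizer (F : Set X) := by
      rw [Subgroup.mem_centralizer_iff]
      intro x hx
      have h1 := congrArg Subtype.val (hc ⟨x, hx⟩)
      rw [MulAut.conjNormal_apply] at h1
      simp only [Subgroup.coe_mul, Subgroup.coe_inv] at h1
      have h2 : s * x = (f : X) * x * (f : X)⁻¹ * s := by rw [← h1]; group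
      rw [mul_assoc (f : X)⁻¹ s x, h2]; group
    have := mul_mem f.2 (Cfsg.Lib.Core.centralizer_generalizedFitting_le hmem)
    rwa [mul_inv_cancel_left] at this
  -- hence `F` is everything
  have hFtop : F = ⊤ := by
    by_contra hne
    obtain ⟨S⟩ : Nonempty (Sylow 3 X) := inferInstance
    obtain ⟨hSn, M, ⟨hM, hSM⟩, huniq⟩ := hX S
    have habove : ∀ H : Subgroup X, (S : Subgroup X) ≤ H → H ≠ ⊤ → H ≤ M := by
      intro H hSH hH
      obtain ⟨M', hM', hle⟩ := (eq_top_or_exists_le_coatom H).resolve_left hH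
      exact huniq M' ⟨hM', hSH.trans hle⟩ ▸ hle
    have hfr := Sylow.normalizer_sup_eq_top' (N := F) S (hSF S)
    refine hM.1 (eq_top_iff.2 (hfr ▸ sup_le ?_ (habove F (hSF S) hne)))
    exact habove _ Subgroup.le_normalizer (fun h => hSn (Subgroup.normalizer_eq_top_iff.1 h))
  refine ⟨hFtop, ?_⟩
  -- transport to the alternating group
  set ψ : X ≃* alternatingGroup (Fin n) :=
    (Subgroup.topEquiv.symm.trans (MulEquiv.subgroupCongr hFtop.symm)).trans e with hψ
  set A := alternatingGroup (Fin n) with hA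
  obtain ⟨T⟩ : Nonempty (Sylow 3 A) := inferInstance
  set S : Sylow 3 X := T.mapSurjective (f := ψ.symm.toMonoidHom) ψ.symm.surjective with hS
  obtain ⟨hSn, M, ⟨hM, hSM⟩, huniq⟩ := hX S
  set M' : Subgroup (Equiv.Perm (Fin n)) := (M.map ψ.toMonoidHom).map A.subtype with hM'
  refine Cfsg.Lib.Local.ThreeMinimalAlt.core hn (M := M')
    (T := (T : Subgroup A).map A.subtype) (T.isPGroup'.map _) ?_ ?_ ?_
  · intro h
    rw [Subgroup.map_eq_bot_iff_of_injective _ A.subtype_injective] at h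
    let a : Fin n := ⟨0, by omega⟩
    let b : Fin n := ⟨1, by omega⟩
    let c : Fin n := ⟨2, by omega⟩
    have hab : a ≠ b := by simp [a, b, Fin.ext_iff]
    have hac : a ≠ c := by simp [a, c, Fin.ext_iff]
    have hbc : b ≠ c := by simp [b, c, Fin.ext_iff]
    set s : A := ⟨_, Cfsg.Lib.Local.ThreeMinimalAlt.tc_mem_alt hab hbc⟩ with hs
    have hs3 : s ^ 3 = 1 := Subtype.ext (Cfsg.Lib.Local.ThreeMinimalAlt.tc_pow_three hab hac hbc)
    have hp : IsPGroup 3 (Subgroup.zpowers s) := by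
      intro ⟨x, m, hm⟩
      refine ⟨1, Subtype.ext ?_⟩
      show x ^ (3 ^ 1) = 1
      rw [← hm, pow_one, ← zpow_natCast, ← zpow_mul, mul_comm, zpow_mul, zpow_natCast, hs3, one_zpow]
    obtain ⟨T', hT'⟩ := hp.exists_le_sylow
    obtain ⟨g, hg⟩ := MulAction.exists_smul_eq A T T'
    have h1 := hT' (Subgroup.mem_zpowers s)
    rw [← hg, Sylow.coe_subgroup_smul, h, Subgroup.smul_bot, Subgroup.mem_bot] at h1
    have h2 := congrArg (fun u : A => (u : Equiv.Perm (Fin n)) a) h1
    simp only [hs, OneMemClass.coe_one, Equiv.Perm.one_apply] at h2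
    rw [Cfsg.Lib.Local.ThreeMinimalAlt.tc_fst hab hac] at h2
    exact hab h2.symm
  · intro h
    refine hM.1 (eq_top_iff.2 fun x _ => ?_)
    have h1 : ((ψ x : A) : Equiv.Perm (Fin n)) ∈ M' := h (ψ x).2
    rw [hM'] at h1
    obtain ⟨w, h1, hw⟩ := h1
    obtain rfl : w = ψ x := A.subtype_injective hw
    obtain ⟨z, hz, hzx⟩ := h1
    exact ψ.injective hzx ▸ hz
  · intro H hTH hAH σ hσA hσH
    set K := (H.comap A.subtype).comap ψ.toMonoidHom with hK
    have hSK : (S : Subgroup X) ≤ K := by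
      intro x hx
      rw [show (S : Subgroup X) = (T : Subgroup A).map ψ.symm.toMonoidHom from
        Sylow.coe_mapSurjective _ _] at hx
      obtain ⟨u, hu, rfl⟩ := hx
      refine hTH ⟨u, hu, ?_⟩
      simp
    have hKne : K ≠ ⊤ := fun e => hAH fun u hu => by
      have : ψ.symm ⟨u, hu⟩ ∈ K := e ▸ Subgroup.mem_top _
      simpa [hK, Subgroup.mem_subgroupOf] using this
    obtain ⟨M₁, hM₁, hle⟩ := (eq_top_or_exists_le_coatom K).resolve_left hKne
    have hKM : K ≤ M := huniq M₁ ⟨hM₁, hSK.trans hle⟩ ▸ hle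
    refine ⟨⟨σ, hσA⟩, ⟨ψ.symm ⟨σ, hσA⟩, hKM ?_, by simp⟩, rfl⟩
    simpa [hK, Subgroup.mem_subgroupOf] using hσH

end Cfsg.Agent.S2930
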