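import Cfsg.Statements.S2931
import Cfsg.Agent.Lib.SylowTables.Basic
import Cfsg.Agent.Lib.SylowTables.Checks
import Cfsg.Agent.S0245
import Cfsg.Agent.S0246
import Cfsg.Agent.S0288

set_option autoImplicit false
open Cfsg

namespace Cfsg.Agent.S2931

open Cfsg.Lib.SylowTables

/-- The permutations of the table of `A₈`. -/
def a8P (i : Fin 64) : Equiv.Perm (Fin 8) :=
  ⟨a8F i, a8G i, fun x => (a8_inv i x).1, fun x => (a8_inv i x).2⟩

/-- The permutations of the table of `S₈`. -/
def s8P (i : Fin 128) : Equiv.Perm (Fin 8) :=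
  ⟨s8F i, s8G i, fun x => (s8_inv i x).1, fun x => (s8_inv i x).2⟩

set_option maxRecDepth 100000 in
theorem a8_code : ∀ i : Fin 64, dig 24 a8Perm i = ∑ x, (a8F i x : ℕ) * 8 ^ (x : ℕ) := by decide +kernel

set_option maxRecDepth 100000 in
theorem s8_code : ∀ i : Fin 128, dig 24 s8Perm i = ∑ x, (s8F i x : ℕ) * 8 ^ (x : ℕ) := by decide +kernel

theorem a8_parent (i : Fin 64) (h : i ≠ 0) : ∃ j, ∃ i' : Fin 64, (i' : ℕ) < i ∧ a8N j i' = i :=
  ⟨_, ⟨_, Nat.mod_lt _ (by norm_num)⟩,
    show dig 8 a8Par i % 64 < (i : ℕ) from lt_of_le_of_lt (Nat.mod_le _ _) (a8_par i h).1, (a8_par i h).2⟩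

theorem s8_parent (i : Fin 128) (h : i ≠ 0) : ∃ j, ∃ i' : Fin 128, (i' : ℕ) < i ∧ s8N j i' = i :=
  ⟨_, ⟨_, Nat.mod_lt _ (by norm_num)⟩,
    show dig 8 s8Par i % 128 < (i : ℕ) from lt_of_le_of_lt (Nat.mod_le _ _) (s8_par i h).1, (s8_par i h).2⟩

theorem a8_sign : ∀ i, a8P i ∈ alternatingGroup (Fin 8) := by
  suffices ∀ n, ∀ i : Fin 64, (i : ℕ) = n → a8P i ∈ alternatingGroup (Fin 8) from fun i => this _ i rfl
  intro n
  induction n using Nat.strong_induction_on with
  | _ n ih =>
    intro i hi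
    by_cases h : i = 0
    · subst h
      rw [show a8P 0 = 1 from Equiv.ext a8_one]
      exact one_mem _
    · obtain ⟨j, i', hlt, rfl⟩ := a8_parent i h
      rw [show a8P (a8N j i') = a8P i' * a8P (a8J j) from Equiv.ext fun x => (a8_next j i' x).symm]
      exact mul_mem (ih i' (hi ▸ hlt) i' rfl) (Equiv.Perm.mem_alternatingGroup.2 (sign_gen j))


/-- The Sylow 2-subgroups of the alternating group of degree 8 and of PSp₄(3) are isomorphic, and so are the Sylow 2-subgroups of the symmetric group of degree 8 and of the full isometry group of a non-degenerate quadratic form of minus type in dimension 6 over the field with 2 elements. -/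
theorem result (F : Type) [Field F] [Fintype F] (hF : Fintype.card F = 3) (K : Type) [Field K] [Fintype K] (hK : Fintype.card K = 2) (a b : K) (hab : ∀ z₁ z₂ : K, z₁ ^ 2 + a * z₁ * z₂ + b * z₂ ^ 2 = 0 → z₁ = 0 ∧ z₂ = 0) (P : Sylow 2 ↥(alternatingGroup (Fin 8))) (Q : Sylow 2 (Cfsg.PSp 2 F)) (P' : Sylow 2 (Equiv.Perm (Fin 8))) (Q' : Sylow 2 ↥(Cfsg.isometryGroup K (Cfsg.quadFormMinus 2 K a b))) : Nonempty (↥(P : Subgroup ↥(alternatingGroup (Fin 8))) ≃* ↥(Q : Subgroup (Cfsg.PSp 2 F))) ∧ Nonempty (↥(P' : Subgroup (Equiv.Perm (Fin 8))) ≃* ↥(Q' : Subgroup ↥(Cfsg.isometryGroup K (Cfsg.quadFormMinus 2 K a b)))) := by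
  classical
  haveI := Fact.mk Nat.prime_two
  haveI := Fact.mk Nat.prime_three
  constructor
  · obtain ⟨φ, -⟩ : ∃ φ : ZMod 3 ≃+* F, True := ⟨ZMod.ringEquivOfPrime F Nat.prime_three hF, trivial⟩
    obtain ⟨m, hm⟩ : ∃ m : Fin 64 → Matrix (Fin 2 ⊕ Fin 2) (Fin 2 ⊕ Fin 2) F,
        m = fun i => φ.toRingHom.mapMatrix (spM i) := ⟨_, rfl⟩
    have hmmul : ∀ j i, m i * m (a8J j) = m (a8N j i) ∨ m i * m (a8J j) = -m (a8N j i) := fun j i => by
      subst hm
      simp only []
      rcases sp_next j i with h | h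
      · exact Or.inl (by rw [← map_mul, h])
      · exact Or.inr (by rw [← map_mul, h, map_neg])
    have hm1 : m 0 = 1 ∨ m 0 = -1 := by
      subst hm
      simp only []
      rcases sp_one with h | h
      · exact Or.inl (by rw [h, map_one])
      · exact Or.inr (by rw [h, map_neg, map_one])
    have hneg : ∀ A, A ∈ Matrix.symplecticGroup (Fin 2) F → -A ∈ Matrix.symplecticGroup (Fin 2) F :=
      fun A hA => by
        rw [SymplecticGroup.mem_iff] at hA ⊢
        simp [hA]
    have hmem : ∀ i, m i ∈ Matrix.symplecticGroup (Fin 2) F := by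
      suffices ∀ n, ∀ i : Fin 64, (i : ℕ) = n → m i ∈ Matrix.symplecticGroup (Fin 2) F from fun i => this _ i rfl
      intro n
      induction n using Nat.strong_induction_on with
      | _ n ih =>
        intro i hi
        by_cases h : i = 0
        · subst h
          rcases hm1 with h1 | h1 <;> rw [h1]
          · exact one_mem _
          · exact hneg _ (one_mem _)
        · obtain ⟨j, i', hlt, rfl⟩ := a8_parent i h
          have hg : m (a8J j) ∈ Matrix.symplecticGroup (Fin 2) F := by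
            rw [SymplecticGroup.mem_iff, hm]
            have hJ : φ.toRingHom.mapMatrix (Matrix.J (Fin 2) (ZMod 3)) = Matrix.J (Fin 2) F := by
              ext r c
              rcases r with r | r <;> rcases c with c | c <;> simp [Matrix.J, Matrix.one_apply] <;>
                split_ifs <;> simp
            have := congrArg φ.toRingHom.mapMatrix (sp_gen j)
            rw [map_mul, map_mul, hJ] at this
            simpa [RingHom.mapMatrix_apply, Matrix.transpose_map] using this
          have := mul_mem (ih i' (hi ▸ hlt) i' rfl) hg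
          rcases hmmul j i' with h' | h' <;> rw [h'] at this
          · exact this
          · simpa using hneg _ this
    obtain ⟨z, hz⟩ : ∃ z : Matrix.symplecticGroup (Fin 2) F, (z : Matrix (Fin 2 ⊕ Fin 2) (Fin 2 ⊕ Fin 2) F) = -1 :=
      ⟨⟨-1, hneg _ (one_mem _)⟩, rfl⟩
    have h2 : (-1 : F) ≠ 1 := by
      intro h
      have h' : (-1 : ZMod 3) = 1 := φ.injective (by simpa using h)
      haveI : Fact (2 < 3) := ⟨by norm_num⟩
      exact ZMod.neg_one_ne_one h'
    have hzc : z ∈ Subgroup.center (Matrix.symplecticGroup (Fin 2) F) :=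
      Subgroup.mem_center_iff.2 fun g => Subtype.ext (by simp [hz])
    have hz1 : z ≠ 1 := fun h => h2 (by
      have := congrFun (congrFun (hz.symm.trans (congrArg Subtype.val h)) (Sum.inl 0)) (Sum.inl 0)
      simpa using this)
    have hcc : Nat.card (Subgroup.center (Matrix.symplecticGroup (Fin 2) F)) = 2 := by
      rw [Cfsg.Agent.S0246.result hF 2 (by norm_num)]; rfl
    have hcen : ∀ g, g ∈ Subgroup.center (Matrix.symplecticGroup (Fin 2) F) ↔ g = 1 ∨ g = z := by
      intro g
      refine ⟨fun hg => ?_, fun h => h.elim (fun e => e ▸ one_mem _) (fun e => e ▸ hzc)⟩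
      by_contra hne
      push Not at hne
      have h3 : ({1, z, g} : Set (Matrix.symplecticGroup (Fin 2) F)).ncard ≤
          (Subgroup.center (Matrix.symplecticGroup (Fin 2) F) : Set (Matrix.symplecticGroup (Fin 2) F)).ncard :=
        Set.ncard_le_ncard (by
          rintro x (rfl | rfl | rfl)
          · exact one_mem _
          · exact hzc
          · exact hg) (Set.toFinite _)
      rw [Set.ncard_eq_three.2 ⟨1, z, g, Ne.symm hz1, Ne.symm hne.1, Ne.symm hne.2, rfl⟩, ← Nat.card_coe_set_eq] at h3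
      change 3 ≤ Nat.card ↥(Subgroup.center (Matrix.symplecticGroup (Fin 2) F)) at h3
      omega
    have hmk : ∀ x y : Matrix.symplecticGroup (Fin 2) F,
        ((x : Matrix.symplecticGroup (Fin 2) F ⧸ Subgroup.center (Matrix.symplecticGroup (Fin 2) F)) = y ↔
        (x.1 = y.1 ∨ x.1 = -y.1)) := by
      intro x y
      rw [QuotientGroup.eq, hcen, inv_mul_eq_one, inv_mul_eq_iff_eq_mul]
      refine or_congr Subtype.ext_iff ⟨fun h => by rw [h]; simp [hz], fun h => Subtype.ext ?_⟩
      simp [hz, h]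
    refine sylow_iso (p := 2) (r := 6) (fun i => (⟨a8P i, a8_sign i⟩ : ↥(alternatingGroup (Fin 8))))
      (fun i => ((⟨m i, hmem i⟩ : Matrix.symplecticGroup (Fin 2) F) : Cfsg.PSp 2 F)) 0
      (fun j => ⟨a8P (a8J j), a8_sign _⟩)
      (fun j => ((⟨m (a8J j), hmem _⟩ : Matrix.symplecticGroup (Fin 2) F) : Cfsg.PSp 2 F)) a8N ?_ ?_
      (fun j i => Subtype.ext (Equiv.ext (a8_next j i))) ?_ a8_parent ?_ ?_ (by norm_num) ?_ ?_ P Q
    · exact Subtype.ext (Equiv.ext a8_one)
    · show _ = ((1 : Matrix.symplecticGroup (Fin 2) F) : Cfsg.PSp 2 F)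
      exact (hmk _ _).2 hm1
    · intro j i
      rw [← QuotientGroup.mk_mul]
      exact (hmk _ _).2 (hmmul j i)
    · intro i l h
      refine a8_inj i l ?_
      have h' : ∀ x, a8F i x = a8F l x := fun x => Equiv.congr_fun (congrArg Subtype.val h) x
      simp only [a8_code, h']
    · intro i l h
      refine sp_code_inj i l ?_
      subst hm
      have h' := (hmk _ _).1 h
      have hinj : Function.Injective (φ.toRingHom.mapMatrix (m := Fin 2 ⊕ Fin 2)) := fun A B e => by
        ext r c; exact φ.injective (congrFun (congrFun e r) c)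
      exact h'.imp (fun e => hinj e) (fun e => hinj (by rw [map_neg]; exact e))
    · have := two_mul_nat_card_alternatingGroup (α := Fin 8)
      rw [Nat.card_perm, Nat.card_fin, show Nat.factorial 8 = 40320 from rfl] at this
      intro hd
      omega
    · have hc := Subgroup.card_eq_card_quotient_mul_card_subgroup (Subgroup.center (Matrix.symplecticGroup (Fin 2) F))
      rw [hcc, Cfsg.Agent.S0245.result hF 2, Finset.prod_range_succ, Finset.prod_range_succ, Finset.prod_range_zero] at hc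
      intro hd
      change 2 ^ (6 + 1) ∣ Nat.card (Matrix.symplecticGroup (Fin 2) F ⧸ Subgroup.center (Matrix.symplecticGroup (Fin 2) F)) at hd
      have h81 : (3 : ℕ) ^ (2 ^ 2) * (1 * (3 ^ (2 * (0 + 1)) - 1) * (3 ^ (2 * (1 + 1)) - 1)) = 51840 := rfl
      rw [h81] at hc
      omega
  · have hab1 : a = 1 ∧ b = 1 := by
      have h01 : ∀ x : K, x = 0 ∨ x = 1 := by
        intro x
        obtain ⟨ψ⟩ : Nonempty (ZMod 2 ≃+* K) := ⟨ZMod.ringEquivOfPrime K Nat.prime_two hK⟩
        obtain ⟨y, rfl⟩ := ψ.surjective x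
        fin_cases y
        · exact Or.inl (map_zero ψ)
        · exact Or.inr (map_one ψ)
      have h2 : (1 : K) + 1 = 0 := by
        rcases h01 (1 + 1) with h | h
        · exact h
        · exact absurd (add_eq_left.1 h) one_ne_zero
      have hb : b = 1 := (h01 b).resolve_left fun hb => one_ne_zero (hab 0 1 (by simp [hb])).2
      refine ⟨(h01 a).resolve_left fun ha => one_ne_zero (hab 1 1 ?_).1, hb⟩
      simp [ha, hb, h2]
    obtain ⟨rfl, rfl⟩ := hab1
    obtain ⟨ψ, -⟩ : ∃ ψ : ZMod 2 ≃+* K, True := ⟨ZMod.ringEquivOfPrime K Nat.prime_two hK, trivial⟩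
    let m : Fin 128 → GL ((Fin 2 ⊕ Fin 2) ⊕ Fin 2) K := fun i =>
      ⟨ψ.toRingHom.mapMatrix (orM i), ψ.toRingHom.mapMatrix (orM (orI i)),
        by rw [← map_mul, or_inv, map_one], by
          rw [← map_mul, mul_eq_one_comm.1 (or_inv i), map_one]⟩
    have hmmul : ∀ j i, m i * m (s8J j) = m (s8N j i) := fun j i => Units.ext (by
      show ψ.toRingHom.mapMatrix (orM i) * ψ.toRingHom.mapMatrix (orM (s8J j)) = _
      rw [← map_mul, or_next])
    have hm1 : m 0 = 1 := Units.ext (by
      show ψ.toRingHom.mapMatrix (orM 0) = 1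
      rw [or_one, map_one])
    have hQ : ∀ w : (Fin 2 ⊕ Fin 2) ⊕ Fin 2 → ZMod 2, Cfsg.quadFormMinus 2 K 1 1 (fun x => ψ (w x)) =
        ψ (Cfsg.quadFormMinus 2 (ZMod 2) 1 1 w) := fun w => by
      simp only [Cfsg.quadFormMinus, map_add, map_mul, map_pow, map_sum, map_one]
    have hg : ∀ j, m (s8J j) ∈ Cfsg.isometryGroup K (Cfsg.quadFormMinus 2 K 1 1) := by
      intro j u _
      show Cfsg.quadFormMinus 2 K 1 1 ((ψ.toRingHom.mapMatrix (orM (s8J j))).mulVec u) = _
      obtain ⟨w, rfl⟩ : ∃ w : (Fin 2 ⊕ Fin 2) ⊕ Fin 2 → ZMod 2, u = fun x => ψ (w x) :=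
        ⟨fun x => ψ.symm (u x), funext fun x => (ψ.apply_symm_apply _).symm⟩
      have : (ψ.toRingHom.mapMatrix (orM (s8J j))).mulVec (fun x => ψ (w x)) =
          fun x => ψ ((orM (s8J j)).mulVec w x) := by
        funext x
        simp [Matrix.mulVec, dotProduct, map_sum]
      rw [this, hQ, or_gen]
      exact (hQ w).symm
    have hmem : ∀ i, m i ∈ Cfsg.isometryGroup K (Cfsg.quadFormMinus 2 K 1 1) := by
      suffices ∀ n, ∀ i : Fin 128, (i : ℕ) = n → m i ∈ Cfsg.isometryGroup K (Cfsg.quadFormMinus 2 K 1 1) from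
        fun i => this _ i rfl
      intro n
      induction n using Nat.strong_induction_on with
      | _ n ih =>
        intro i hi
        by_cases h : i = 0
        · subst h; rw [hm1]; exact one_mem _
        · obtain ⟨j, i', hlt, rfl⟩ := s8_parent i h
          rw [← hmmul]
          exact mul_mem (ih i' (hi ▸ hlt) i' rfl) (hg j)
    refine sylow_iso (p := 2) (r := 7) s8P
      (fun i => (⟨m i, hmem i⟩ : ↥(Cfsg.isometryGroup K (Cfsg.quadFormMinus 2 K 1 1)))) 0
      (fun j => s8P (s8J j)) (fun j => ⟨m (s8J j), hg j⟩) s8N (Equiv.ext s8_one) (Subtype.ext hm1)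
      (fun j i => Equiv.ext (s8_next j i)) (fun j i => Subtype.ext (hmmul j i)) s8_parent ?_ ?_ (by norm_num) ?_ ?_
      P' Q'
    · intro i l h
      refine s8_inj i l ?_
      have h' : ∀ x, s8F i x = s8F l x := fun x => Equiv.congr_fun h x
      simp only [s8_code, h']
    · intro i l h
      refine or_code_inj i l ?_
      have h' := congrArg (fun g : ↥(Cfsg.isometryGroup K (Cfsg.quadFormMinus 2 K 1 1)) =>
        ((g : GL ((Fin 2 ⊕ Fin 2) ⊕ Fin 2) K) : Matrix ((Fin 2 ⊕ Fin 2) ⊕ Fin 2) ((Fin 2 ⊕ Fin 2) ⊕ Fin 2) K)) h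
      ext r c
      exact ψ.injective (congrFun (congrFun h' r) c)
    · rw [Nat.card_perm, Nat.card_fin, show Nat.factorial 8 = 40320 from rfl]
      decide
    · have h := Cfsg.Agent.S0288.result hK 3 (by norm_num) 1 1 hab
      simp only [Finset.prod_range_succ, Finset.prod_range_zero] at h
      intro hd
      change 2 ^ (7 + 1) ∣ Nat.card ↥(Cfsg.isometryGroup K (Cfsg.quadFormMinus (3 - 1) K 1 1)) at hd
      rw [h] at hd
      revert hd
      norm_num [Finset.prod_range_succ]

end Cfsg.Agent.S2931
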