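import Cfsg.Statements.S2932
import Cfsg.Agent.Lib.Local.SL2Embed.Four

set_option autoImplicit false
open Cfsg

namespace Cfsg.Agent.S2932

/-- Let p be a prime. Inside a finite ambient group let V be an elementary abelian p-subgroup and G a subgroup normalizing V and acting faithfully on it (G ∩ C(V) = 1), and let L ≤ G act on V as SL₂(F) on its natural module, F a finite field of characteristic p, with L ≅ SL₂(F). If every Sylow p-subgroup of N_G(L) is a Sylow p-subgroup of G, then either L is normal in G, or F has 4 elements and G is isomorphic to the alternating group of degree 7. -/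
theorem result {X : Type*} [Group X] [Finite X] {p : ℕ} [Fact p.Prime] (F : Type) [Field F] [Fintype F] [CharP F p] (V G L : Subgroup X) (hV : Cfsg.IsElementaryAbelian p V) (hGV : G ≤ Subgroup.normalizer (V : Set X)) (hfaith : G ⊓ Subgroup.centralizer (V : Set X) = ⊥) (hLG : L ≤ G) (hnat : Cfsg.IsNaturalSL2Module F V L) (hLiso : Nonempty (↥L ≃* Matrix.SpecialLinearGroup (Fin 2) F)) (hSyl : ∀ S : Sylow p ↥(G ⊓ Subgroup.normalizer (L : Set X)), ∀ P : Sylow p ↥G, Nat.card S = Nat.card P) : (L.subgroupOf G).Normal ∨ (Fintype.card F = 4 ∧ Nonempty (↥G ≃* ↥(alternatingGroup (Fin 7)))) := by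
  classical
  letI : Algebra (ZMod p) F := ZMod.algebra F p
  obtain ⟨hLV, ρ, ψ, hρ, -, hψ⟩ := hnat
  let act : ↥G →* MulAut ↥V := (Subgroup.normalizerMonoidHom V).comp (Subgroup.inclusion hGV)
  have hact : ∀ (g : ↥G) (v : ↥V), ((act g v : ↥V) : X) = (g : X) * (v : X) * (g : X)⁻¹ := fun _ _ => rfl
  let lin : ↥G → Cfsg.Lib.Local.SL2Embed.End2 p F := fun g =>
    (AddMonoidHom.mk' (fun w => ψ (Additive.ofMul (act g (Additive.toMul (ψ.symm w)))))
      fun a b => by simp only [map_add, toMul_add, map_mul, ofMul_mul]).toZModLinearMap p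
  have hlin : ∀ g w, lin g w = ψ (Additive.ofMul (act g (Additive.toMul (ψ.symm w)))) := fun _ _ => rfl
  let linHom : ↥G →* Cfsg.Lib.Local.SL2Embed.End2 p F :=
    { toFun := lin
      map_one' := LinearMap.ext fun w => by simp [hlin]
      map_mul' := fun a b => LinearMap.ext fun w => by simp [hlin, Module.End.mul_apply] }
  let φ : ↥G →* Cfsg.Lib.Local.SL2Embed.Aut2 p F := linHom.toHomUnits
  have hφ : Function.Injective φ := (injective_iff_map_eq_one φ).2 fun g hg => by
    have hmem : (g : X) ∈ G ⊓ Subgroup.centralizer (V : Set X) := by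
      refine ⟨g.2, Subgroup.mem_centralizer_iff.2 fun v hv => ?_⟩
      have h1 := LinearMap.congr_fun (congrArg Units.val hg) (ψ (Additive.ofMul (⟨v, hv⟩ : ↥V)))
      change lin g _ = _ at h1
      rw [hlin, AddEquiv.symm_apply_apply, toMul_ofMul, Units.val_one, Module.End.one_apply] at h1
      have h2 := congrArg (fun x : Additive ↥V => ((Additive.toMul x : ↥V) : X)) (ψ.injective h1)
      simp only [toMul_ofMul, hact] at h2
      rw [mul_inv_eq_iff_eq_mul] at h2
      exact h2.symm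
    rw [hfaith, Subgroup.mem_bot] at hmem
    exact Subtype.ext hmem
  let L₀ : Subgroup ↥G := L.subgroupOf G
  have hφL : ∀ (l : ↥L), φ ⟨l.1, hLG l.2⟩ = Cfsg.Lib.Local.SL2Embed.slU (ρ l) := fun l =>
    Cfsg.Lib.Local.SL2Embed.smul_smul_ext fun w => by
      show lin ⟨l.1, hLG l.2⟩ w = _
      obtain ⟨u, hu, hu'⟩ := hψ l (Additive.toMul (ψ.symm w))
      rw [ofMul_toMul, AddEquiv.apply_symm_apply] at hu'
      rw [hlin, show act ⟨l.1, hLG l.2⟩ (Additive.toMul (ψ.symm w)) = u from
        Subtype.ext ((hact _ _).trans hu.symm), hu', Cfsg.Lib.Local.SL2Embed.slU_smul]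
  have hmap : L₀.map φ = (Cfsg.Lib.Local.SL2Embed.slU (p := p) (F := F)).range := by
    ext x
    constructor
    · rintro ⟨g, hg, rfl⟩
      exact ⟨ρ ⟨g.1, hg⟩, (hφL ⟨g.1, hg⟩).symm⟩
    · rintro ⟨A, rfl⟩
      obtain ⟨l, rfl⟩ := hρ A
      exact ⟨⟨l.1, hLG l.2⟩, l.2, hφL l⟩
  let N₀ : Subgroup ↥G := Subgroup.normalizer (L₀ : Set ↥G)
  have hN : N₀ = (G ⊓ Subgroup.normalizer (L : Set X)).subgroupOf G := by
    ext g
    rw [Subgroup.mem_normalizer_iff, Subgroup.mem_subgroupOf, Subgroup.mem_inf,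
      Subgroup.mem_normalizer_iff]
    refine ⟨fun h => ⟨g.2, fun x => ⟨fun hx => (h ⟨x, hLG hx⟩).1 hx, fun hx => ?_⟩⟩,
      fun h x => h.2 x.1⟩
    have hxG : x ∈ G := by
      have := mul_mem (mul_mem (inv_mem g.2) (hLG hx)) g.2
      simpa [mul_assoc] using this
    exact (h ⟨x, hxG⟩).2 hx
  have hidx : ¬ p ∣ N₀.index := by
    have hcard : Nat.card ↥N₀ = Nat.card ↥(G ⊓ Subgroup.normalizer (L : Set X)) := by
      rw [hN, Nat.card_congr (Subgroup.subgroupOfEquivOfLe inf_le_left).toEquiv]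
    obtain ⟨S⟩ : Nonempty (Sylow p ↥(G ⊓ Subgroup.normalizer (L : Set X))) := inferInstance
    obtain ⟨P⟩ : Nonempty (Sylow p ↥G) := inferInstance
    have h := hSyl S P
    rw [S.card_eq_multiplicity, P.card_eq_multiplicity, ← hcard, ← N₀.card_mul_index,
      Nat.factorization_mul Nat.card_pos.ne' Subgroup.index_ne_zero_of_finite,
      Finsupp.add_apply] at h
    have h' := Nat.pow_right_injective (Fact.out : p.Prime).two_le h
    exact fun hd => absurd ((Fact.out : p.Prime).factorization_pos_of_dvd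
      Subgroup.index_ne_zero_of_finite hd) (by omega)
  have hG : Cfsg.Lib.Local.SL2Embed.Embedded φ.range := by
    refine ⟨hmap ▸ Subgroup.map_le_range φ L₀, ?_⟩
    have e : φ.range ⊓ Subgroup.normalizer
        ((Cfsg.Lib.Local.SL2Embed.slU (p := p) (F := F)).range : Set (Cfsg.Lib.Local.SL2Embed.Aut2 p F))
        = N₀.map φ := by
      rw [← hmap]
      ext x
      constructor
      · rintro ⟨⟨g, rfl⟩, hx⟩
        refine ⟨g, Subgroup.mem_normalizer_iff.2 fun y => ?_, rfl⟩
        have := (Subgroup.mem_normalizer_iff.1 hx) (φ y)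
        rwa [← map_inv, ← map_mul, ← map_mul,
          Subgroup.mem_map_iff_mem hφ, Subgroup.mem_map_iff_mem hφ] at this
      · rintro ⟨g, hg, rfl⟩
        exact ⟨⟨g, rfl⟩, Subgroup.le_normalizer_map φ ⟨g, hg, rfl⟩⟩
    rw [e, MonoidHom.range_eq_map, Subgroup.relIndex_map_map_of_injective _ _ hφ,
      Subgroup.relIndex_top_right]
    exact hidx
  have hnormal : φ.range ≤ Subgroup.normalizer
      ((Cfsg.Lib.Local.SL2Embed.slU (p := p) (F := F)).range : Set (Cfsg.Lib.Local.SL2Embed.Aut2 p F)) →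
      (L.subgroupOf G).Normal := by
    intro h
    refine ⟨fun x hx g => (Subgroup.mem_map_iff_mem hφ).1 ?_⟩
    rw [map_mul, map_mul, map_inv, hmap]
    refine (Subgroup.mem_normalizer_iff.1 (h ⟨g, rfl⟩) _).1 ?_
    rw [← hmap]
    exact Subgroup.mem_map_of_mem φ hx
  have hqf := Cfsg.Lib.Local.SL2Embed.natCard_field (p := p) (F := F)
  have hp2 := (Fact.out : p.Prime).two_le
  by_cases hq : 4 < Nat.card F ∨ Nat.card F = p
  · exact Or.inl (hnormal (hG.normalizes hq))
  push Not at hq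
  have h1 : 2 ≤ Module.finrank (ZMod p) F := by
    have := Cfsg.Lib.Local.SL2Embed.finrank_field_pos (p := p) (F := F)
    by_contra hlt
    exact hq.2 (by rw [hqf, show Module.finrank (ZMod p) F = 1 by omega, pow_one])
  have h2 : p ^ 2 ≤ Nat.card F := hqf ▸ Nat.pow_le_pow_right (by omega) h1
  obtain rfl : p = 2 := by nlinarith [hq.1]
  have h4 : Nat.card F = 4 := by omega
  rcases hG.four h4 with h | ⟨⟨e⟩⟩
  · exact Or.inl (hnormal h)
  · exact Or.inr ⟨by rw [← Nat.card_eq_fintype_card]; exact h4, ⟨(MonoidHom.ofInjective hφ).trans e⟩⟩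

end Cfsg.Agent.S2932
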