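import Cfsg.Statements.S2933
import Cfsg.Agent.Lib.TwoFour.Semi
import Cfsg.Agent.Lib.TwoFour.Targets

set_option autoImplicit false
open Cfsg

namespace Cfsg.Agent.S2933

/-- Let T be a 2-subgroup of a finite group G, V ≤ Z(T) a four-group, and t, ρ ∈ N_G(V) ∩ N_G(T) elements of order 2 and 3 with t commuting with ρ and with V. If [V, ρ] = V and C_T(t) = V, then T is elementary abelian of order 16, or homocyclic of rank 2 (ℤ/2ⁿ × ℤ/2ⁿ for some n ≥ 1), or isomorphic to a Sylow 2-subgroup of PSL₃(4) or of PSU₃(4). -/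
theorem result {G : Type*} [Group G] [Finite G] (T V : Subgroup G) (hT : IsPGroup 2 ↥T) (hVT : V ≤ T ⊓ Subgroup.centralizer (T : Set G)) (hV : Nat.card ↥V = 4 ∧ ∀ v ∈ V, v ^ 2 = 1) (t ρ : G) (ht : orderOf t = 2) (hρ : orderOf ρ = 3) (htn : t ∈ Subgroup.normalizer (V : Set G) ⊓ Subgroup.normalizer (T : Set G)) (hρn : ρ ∈ Subgroup.normalizer (V : Set G) ⊓ Subgroup.normalizer (T : Set G)) (htρ : t * ρ = ρ * t) (htV : t ∈ Subgroup.centralizer (V : Set G)) (hVρ : ⁅V, Subgroup.zpowers ρ⁆ = V) (hCt : T ⊓ Subgroup.centralizer ({t} : Set G) = V) : (Nat.card ↥T = 16 ∧ ∀ x ∈ T, x ^ 2 = 1) ∨ (∃ n : ℕ, 1 ≤ n ∧ Nonempty (↥T ≃* Multiplicative (ZMod (2 ^ n)) × Multiplicative (ZMod (2 ^ n)))) ∨ (∃ (F : Type) (_ : Field F) (_ : Fintype F), Fintype.card F = 4 ∧ ∀ P : Sylow 2 (Matrix.ProjectiveSpecialLinearGroup (Fin 3) F), Nonempty (↥T ≃* ↥(P : Subgroup (Matrix.ProjectiveSpecialLinearGroup (Fin 3) F)))) ∨ (∃ (F : Type) (_ : Field F) (_ :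 Fintype F), Fintype.card F = 16 ∧ ∀ P : Sylow 2 (Cfsg.PSU 3 F 4), Nonempty (↥T ≃* ↥(P : Subgroup (Cfsg.PSU 3 F 4)))) := by
  haveI : Fact (Nat.Prime 2) := ⟨Nat.prime_two⟩
  obtain ⟨hVcard, hVexp⟩ := hV
  set N := Subgroup.normalizer (T : Set G) with hN
  let mkAut : ∀ g : G, g ∈ N → (↥T ≃* ↥T) := fun g hg =>
    { toFun := fun x => ⟨g * x * g⁻¹, (Subgroup.mem_normalizer_iff.1 hg x).1 x.2⟩
      invFun := fun x => ⟨g⁻¹ * x * g, (Subgroup.mem_normalizer_iff.1 hg _).2 (by group; exact x.2)⟩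
      left_inv := fun x => by ext; simp [mul_assoc]
      right_inv := fun x => by ext; simp [mul_assoc]
      map_mul' := fun x y => by ext; simp [mul_assoc] }
  let τ := mkAut t htn.2
  let r := mkAut ρ hρn.2
  have hτv : ∀ x : T, ((τ x : T) : G) = t * x * t⁻¹ := fun x => rfl
  have hrv : ∀ x : T, ((r x : T) : G) = ρ * x * ρ⁻¹ := fun x => rfl
  have hVle : V ≤ T := hVT.trans inf_le_left
  let V' : Subgroup T := V.subgroupOf T
  have ht2 : t * t = 1 := by rw [← pow_two, ← ht, pow_orderOf_eq_one]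
  have hρ3 : ρ * (ρ * ρ) = 1 := by
    have := pow_orderOf_eq_one ρ; rw [hρ, pow_three] at this; exact this
  have hfix : ∀ x : T, τ x = x ↔ x ∈ V' := by
    intro x
    rw [Subgroup.mem_subgroupOf, ← hCt, Subgroup.mem_inf, Subgroup.mem_centralizer_singleton_iff,
      ← Subtype.val_inj, hτv, mul_inv_eq_iff_eq_mul]
    exact ⟨fun h => ⟨x.2, h.symm⟩, fun h => h.2.symm⟩
  -- `ρ` fixes no nontrivial element of `V`
  have hρV : ∀ v ∈ V, ρ * v = v * ρ → v = 1 := by
    intro v hv hc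
    by_contra hv1
    have hbot : ∀ w ∈ V, ρ * w = w * ρ := by
      intro w hw
      set F := V ⊓ Subgroup.centralizer ({ρ} : Set G) with hF
      have hvF : v ∈ F := ⟨hv, Subgroup.mem_centralizer_singleton_iff.2 hc.symm⟩
      have hnV : ∀ u ∈ V, ρ * u * ρ⁻¹ ∈ V := fun u hu => (Subgroup.mem_normalizer_iff.1 hρn.1 u).1 hu
      by_contra hcw
      -- three further elements
      have hw2 : ρ * w * ρ⁻¹ ∈ V := hnV w hw
      have hw3 : ρ * (ρ * w * ρ⁻¹) * ρ⁻¹ ∈ V := hnV _ hw2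
      have n1 : ∀ u : G, ρ * u ≠ u * ρ → ρ * u * ρ⁻¹ ≠ u := fun u h e => h (mul_inv_eq_iff_eq_mul.1 e)
      haveI : Finite V := inferInstance
      haveI : Fintype V := Fintype.ofFinite V
      classical
      have d1 : w ≠ 1 := fun e => hcw (by simp [e])
      have d2 : w ≠ v := fun e => hcw (e ▸ hc)
      have hconj : ∀ u u' : G, ρ * u * ρ⁻¹ = ρ * u' * ρ⁻¹ → u = u' := fun u u' e =>
        mul_left_cancel (mul_right_cancel e)
      have c1 : ρ * (1 : G) * ρ⁻¹ = 1 := by group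
      have c2 : ρ * v * ρ⁻¹ = v := by rw [hc]; group
      have d3 : ρ * w * ρ⁻¹ ≠ w := n1 w hcw
      have d4 : ρ * w * ρ⁻¹ ≠ 1 := fun e => d1 (hconj _ _ (e.trans c1.symm))
      have d5 : ρ * w * ρ⁻¹ ≠ v := fun e => d2 (hconj _ _ (e.trans c2.symm))
      have d6 : ρ * (ρ * w * ρ⁻¹) * ρ⁻¹ ≠ ρ * w * ρ⁻¹ := fun e => d3 (hconj _ _ e)
      have d7 : ρ * (ρ * w * ρ⁻¹) * ρ⁻¹ ≠ 1 := fun e => d4 (hconj _ _ (e.trans c1.symm))
      have d8 : ρ * (ρ * w * ρ⁻¹) * ρ⁻¹ ≠ v := fun e => d5 (hconj _ _ (e.trans c2.symm))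
      have d9 : ρ * (ρ * w * ρ⁻¹) * ρ⁻¹ ≠ w := fun e => by
        refine d3 ?_
        calc ρ * w * ρ⁻¹ = ρ * (ρ * (ρ * w * ρ⁻¹) * ρ⁻¹) * ρ⁻¹ := by rw [e]
          _ = (ρ * (ρ * ρ)) * w * (ρ * (ρ * ρ))⁻¹ := by group
          _ = w := by rw [hρ3]; group
      have h5 : ({⟨1, V.one_mem⟩, ⟨v, hv⟩, ⟨w, hw⟩, ⟨_, hw2⟩, ⟨_, hw3⟩} : Finset V).card = 5 := by
        simp [Finset.card_insert_of_notMem, Subtype.ext_iff, Ne.symm hv1, Ne.symm d1, Ne.symm d2,
          Ne.symm d3, Ne.symm d4, Ne.symm d5, Ne.symm d6, Ne.symm d7, Ne.symm d8, Ne.symm d9]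
      have := Finset.card_le_univ ({⟨1, V.one_mem⟩, ⟨v, hv⟩, ⟨w, hw⟩, ⟨_, hw2⟩, ⟨_, hw3⟩} : Finset V)
      rw [h5, ← Nat.card_eq_fintype_card, hVcard] at this
      omega
    have htriv : ⁅V, Subgroup.zpowers ρ⁆ = ⊥ := by
      rw [Subgroup.commutator_eq_bot_iff_le_centralizer]
      intro w hw
      refine Subgroup.mem_centralizer_iff.2 fun y hy => ?_
      obtain ⟨k, rfl⟩ := Subgroup.mem_zpowers_iff.1 hy
      exact ((show Commute ρ w from hbot w hw).zpow_left k).eq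
    rw [htriv] at hVρ
    rw [← hVρ, Subgroup.card_bot] at hVcard
    omega
  have hfpf : Cfsg.Lib.TwoFour.FpfCube r := by
    refine ⟨fun x => Subtype.ext ?_, fun x hx => ?_⟩
    · rw [hrv, hrv, hrv]
      calc ρ * (ρ * (ρ * x * ρ⁻¹) * ρ⁻¹) * ρ⁻¹ = (ρ * (ρ * ρ)) * x * (ρ * (ρ * ρ))⁻¹ := by group
        _ = _ := by rw [hρ3]; group
    · -- otherwise `τ` fixes an involution fixed by `ρ`
      let F : Subgroup T :=
        { carrier := {y | r y = y}
          one_mem' := map_one r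
          mul_mem' := fun {a b} ha hb => by show r (a * b) = a * b; rw [map_mul, ha, hb]
          inv_mem' := fun {a} ha => by show r a⁻¹ = a⁻¹; rw [map_inv, ha] }
      have hτF : ∀ y ∈ F, τ y ∈ F := fun y hy => Subtype.ext (by
        have e : ρ * (y : G) * ρ⁻¹ = y := (hrv y).symm.trans (congrArg Subtype.val hy)
        rw [hrv, hτv]
        calc ρ * (t * y * t⁻¹) * ρ⁻¹ = (ρ * t) * y * (ρ * t)⁻¹ := by group
          _ = (t * ρ) * y * (t * ρ)⁻¹ := by rw [htρ]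
          _ = t * (ρ * y * ρ⁻¹) * t⁻¹ := by group
          _ = _ := by rw [e])
      let ψ : F →* F := MonoidHom.mk' (fun y => ⟨τ y, hτF y y.2⟩) (fun a b => Subtype.ext (map_mul τ _ _))
      have hψ : Function.Involutive ψ := fun y => Subtype.ext (Subtype.ext (by
        show ((τ (τ (y : T)) : T) : G) = _
        rw [hτv, hτv]
        calc t * (t * (y : T) * t⁻¹) * t⁻¹ = (t * t) * (y : T) * (t * t)⁻¹ := by group
          _ = _ := by rw [ht2]; group))
      have hψf : MonoidHom.FixedPointFree ψ := fun y hy => by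
        have hy1 : (y : T) ∈ V' := (hfix _).1 (congrArg Subtype.val hy)
        have e : ρ * ((y : T) : G) * ρ⁻¹ = (y : T) := (hrv y).symm.trans (congrArg Subtype.val y.2)
        exact Subtype.ext (Subtype.ext (hρV _ hy1 (mul_inv_eq_iff_eq_mul.1 e)))
      have hodd := MonoidHom.FixedPointFree.odd_card_of_involutive hψf hψ
      by_contra hx1
      haveI : Nontrivial F := ⟨⟨⟨x, hx⟩, 1, fun e => hx1 (congrArg Subtype.val e)⟩⟩
      obtain ⟨k, hk0, hk⟩ := (hT.to_subgroup F).nontrivial_iff_card.1 ‹Nontrivial F›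
      rw [hk] at hodd
      exact (Nat.not_even_iff_odd.2 hodd) (even_two.pow_of_ne_zero (by omega))
  have hV4 : Cfsg.Lib.TwoFour.Four r V' := by
    refine ⟨?_, fun v hv => Subtype.ext ?_, fun v hv x => Subtype.ext ?_, fun v hv => ?_⟩
    · rw [Nat.card_congr (Subgroup.subgroupOfEquivOfLe hVle).toEquiv, hVcard]
    · have := hVexp _ hv
      rw [pow_two] at this
      exact this
    · exact Subgroup.mem_centralizer_iff.1 (hVT hv).2 x x.2
    · exact (Subgroup.mem_normalizer_iff.1 hρn.1 _).1 hv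
  have hsemi : Cfsg.Lib.TwoFour.Semi τ r V' := by
    refine ⟨hT, hfpf, hV4, fun x => Subtype.ext ?_, fun x => Subtype.ext ?_, hfix⟩
    · rw [hτv, hτv]
      calc t * (t * x * t⁻¹) * t⁻¹ = (t * t) * x * (t * t)⁻¹ := by group
        _ = _ := by rw [ht2]; group
    · rw [hrv, hτv, hrv, hτv]
      calc t * (ρ * x * ρ⁻¹) * t⁻¹ = (t * ρ) * x * (t * ρ)⁻¹ := by group
        _ = (ρ * t) * x * (ρ * t)⁻¹ := by rw [htρ]
        _ = _ := by group
  rcases Cfsg.Lib.TwoFour.Semi.shape _ rfl hsemi with ⟨h16, h2⟩ | ⟨hab, h4⟩ | H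
  · refine Or.inl ⟨h16, fun x hx => ?_⟩
    rw [pow_two]
    exact congrArg Subtype.val (h2 ⟨x, hx⟩)
  · refine Or.inr (Or.inl ?_)
    haveI : Nontrivial T := by
      rw [Subgroup.nontrivial_iff_ne_bot]
      intro e
      have := Subgroup.card_le_of_le hVle
      rw [hVcard, e, Subgroup.card_bot] at this
      omega
    obtain ⟨n, hn, ⟨e⟩⟩ := Cfsg.Lib.TwoFour.homocyclic hab hT hfpf inferInstance h4
    exact ⟨n, hn, ⟨e.trans (MulEquiv.prodMultiplicative _ _)⟩⟩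
  · by_cases hinv : ∃ x, x ∉ V' ∧ x * x = 1
    · refine Or.inr (Or.inr (Or.inl ⟨GaloisField 2 2, inferInstance, Fintype.ofFinite _, ?_, fun P => ?_⟩))
      · letI : Fintype (GaloisField 2 2) := Fintype.ofFinite _
        show Fintype.card (GaloisField 2 2) = _
        rw [← Nat.card_eq_fintype_card, GaloisField.card 2 2 (by norm_num)]; norm_num
      · haveI : Fintype (GaloisField 2 2) := Fintype.ofFinite _
        have hF : Fintype.card (GaloisField 2 2) = 4 := by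
          rw [← Nat.card_eq_fintype_card, GaloisField.card 2 2 (by norm_num)]; norm_num
        obtain ⟨ρ', W, H', hex⟩ := Cfsg.Lib.TwoFour.hyp64_psl hF P
        exact H.nonempty_mulEquiv H' ⟨fun _ => hex, fun _ => hinv⟩
    · refine Or.inr (Or.inr (Or.inr ⟨GaloisField 2 4, inferInstance, Fintype.ofFinite _, ?_, fun P => ?_⟩))
      · letI : Fintype (GaloisField 2 4) := Fintype.ofFinite _
        show Fintype.card (GaloisField 2 4) = _
        rw [← Nat.card_eq_fintype_card, GaloisField.card 2 4 (by norm_num)]; norm_num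
      · haveI : Fintype (GaloisField 2 4) := Fintype.ofFinite _
        have hF : Fintype.card (GaloisField 2 4) = 16 := by
          rw [← Nat.card_eq_fintype_card, GaloisField.card 2 4 (by norm_num)]; norm_num
        obtain ⟨c⟩ := Cfsg.Lib.U3Even.nonempty_coords_psu (F := GaloisField 2 4) (n := 2) (by norm_num)
          (by rw [hF]; norm_num) P
        obtain ⟨ρ', W, H', hno⟩ := Cfsg.Lib.TwoFour.hyp64_psu hF c
        exact H.nonempty_mulEquiv H' ⟨fun h => absurd h hinv, fun h => absurd h hno⟩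

end Cfsg.Agent.S2933
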