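import Cfsg.Statements.S2937
import Cfsg.Agent.Lib.Core.Layer
import Cfsg.Agent.Lib.DefChar.PMin.Classical
import Cfsg.Agent.Lib.DefChar.PMin.PSL
import Cfsg.Agent.Lib.DefChar.PMin.Chev
import Cfsg.Agent.Lib.DefChar.PMin.Twisted
import Cfsg.Agent.Lib.DefChar.PMin.Small
import Cfsg.Agent.Lib.DefChar.PMin.U33
import Cfsg.Agent.Lib.DefChar.PMin.Tits

set_option autoImplicit false
set_option maxRecDepth 100000
open Cfsg

namespace Cfsg.Agent.S2937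

open Cfsg.Lib.DefChar.PMin

/-- The trichotomy passes to isomorphic groups. -/
theorem kind_of_equiv {p : ℕ} {K L : Type*} [Group K] [Group L] (e : K ≃* L) (h : Kind p K) : Kind p L := by
  rcases h with ⟨h1, h2⟩ | h | ⟨h1, h2, h3⟩
  · refine Or.inl ⟨h1.of_equiv e, ?_⟩
    rcases h2 with ⟨F, i1, i2, i3, h, ⟨f⟩⟩ | ⟨F, i1, i2, i3, q, hq, hq', ⟨f⟩⟩ | ⟨h, ⟨F, i1, i2, m, hm, hF, ⟨f⟩⟩⟩ |
      ⟨h, ⟨F, i1, i2, m, hm, hF, ⟨f⟩⟩ | ⟨F, i1, i2, hF, ⟨f⟩⟩⟩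
    · exact Or.inl ⟨F, i1, i2, i3, h, ⟨e.symm.trans f⟩⟩
    · exact Or.inr (Or.inl ⟨F, i1, i2, i3, q, hq, hq', ⟨e.symm.trans f⟩⟩)
    · exact Or.inr (Or.inr (Or.inl ⟨h, F, i1, i2, m, hm, hF, ⟨e.symm.trans f⟩⟩))
    · exact Or.inr (Or.inr (Or.inr ⟨h, Or.inl ⟨F, i1, i2, m, hm, hF, ⟨e.symm.trans f⟩⟩⟩))
    · exact Or.inr (Or.inr (Or.inr ⟨h, Or.inr ⟨F, i1, i2, hF, ⟨e.symm.trans f⟩⟩⟩))
  · exact Or.inr (Or.inl (h.of_equiv e))
  · refine Or.inr (Or.inr ⟨h1.of_equiv e, h2, ?_⟩)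
    rcases h3 with ⟨F, i1, i2, i3, ⟨f⟩⟩ | ⟨F, i1, i2, i3, h, ⟨f⟩⟩ | ⟨⟨f⟩⟩
    · exact Or.inl ⟨F, i1, i2, i3, ⟨e.symm.trans f⟩⟩
    · exact Or.inr (Or.inl ⟨F, i1, i2, i3, h, ⟨e.symm.trans f⟩⟩)
    · exact Or.inr (Or.inr ⟨e.symm.trans f⟩)

/-- Every simple group of Lie type in characteristic `p` is of one of the three kinds. -/
theorem kind_of_chevSimple {K : Type*} [Group K] [Finite K] {p : ℕ} [Fact p.Prime] (hK : Cfsg.IsChevSimple p K) :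
    Kind p K := by
  rcases hK with hK | ⟨rfl, hK⟩ | ⟨rfl, F, _, _, hF, ⟨e⟩⟩
  · rcases hK with h | h | h | h | h | h | h | h | ⟨rfl, h⟩ | ⟨rfl, h⟩ | ⟨rfl, h⟩
    · obtain ⟨F, _, _, _, n, hn, hq, ⟨e⟩⟩ := h
      exact kind_of_equiv e.symm (kind_psl hn hq
        (Or.inl (Or.inl ⟨F, inferInstance, inferInstance, ‹CharP F p›, n, hn, hq, ⟨MulEquiv.refl _⟩⟩)))
    · obtain ⟨F, _, _, _, m, hm, hq, ⟨e⟩⟩ := h
      exact kind_of_equiv e.symm (kind_psp hm hq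
        (Or.inl (Or.inr (Or.inl ⟨F, inferInstance, inferInstance, ‹CharP F p›, m, hm, hq, ⟨MulEquiv.refl _⟩⟩))))
    · obtain ⟨F, _, _, _, n, q, hF, hn, hne, ⟨e⟩⟩ := h
      exact kind_of_equiv e.symm (kind_psu hF hn hne
        (Or.inl (Or.inr (Or.inr (Or.inl ⟨F, inferInstance, inferInstance, ‹CharP F p›, n, q, hF, hn, hne, ⟨MulEquiv.refl _⟩⟩)))))
    · obtain ⟨F, _, _, _, m, hm, hodd, ⟨e⟩⟩ := h
      exact kind_of_equiv e.symm (kind_pomega_odd hm hodd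
        (Or.inl (Or.inr (Or.inr (Or.inr (Or.inl ⟨F, inferInstance, inferInstance, ‹CharP F p›, m, hm, hodd, ⟨MulEquiv.refl _⟩⟩))))))
    · obtain ⟨F, _, _, _, m, hm, ⟨e⟩⟩ := h
      rcases Nat.eq_or_lt_of_le hm with rfl | hm'
      · exact kind_pomega_plus_four e
      · exact kind_of_equiv e.symm (kind_pomega_plus hm'
          (Or.inl (Or.inr (Or.inr (Or.inr (Or.inr (Or.inl ⟨F, inferInstance, inferInstance, ‹CharP F p›, m, hm, ⟨MulEquiv.refl _⟩⟩)))))))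
    · obtain ⟨F, _, _, _, m, a, b, hm, hab, ⟨e⟩⟩ := h
      exact kind_of_equiv e.symm (kind_pomega_minus (by omega) a b hab
        (Or.inl (Or.inr (Or.inr (Or.inr (Or.inr (Or.inr (Or.inl
          ⟨F, inferInstance, inferInstance, ‹CharP F p›, m, a, b, hm, hab, ⟨MulEquiv.refl _⟩⟩))))))))
    · obtain ⟨F, _, _, _, ⟨h3, ⟨e⟩⟩ | ⟨⟨e⟩⟩ | ⟨⟨e⟩⟩ | ⟨⟨e⟩⟩ | ⟨⟨e⟩⟩⟩ := h
      · exact kind_chevG2 h3 e
      · exact kind_chevF4 e
      · exact kind_chevE6 e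
      · exact kind_chevE7 e
      · exact kind_chevE8 e
    · obtain ⟨F, _, _, _, q, hq, ⟨hF, ⟨e⟩⟩ | ⟨hF, ⟨e⟩⟩⟩ := h
      · exact kind_twistedE6 hq hF e
      · exact kind_twistedD4 hq hF e
    · obtain ⟨F, _, _, m, hm, hF, ⟨e⟩⟩ := h
      have hp : Cfsg.Lib.Linear.Suz.Params F m := ⟨hm, hF⟩
      obtain ⟨e', -⟩ := Cfsg.Lib.Linear.Suz.exists_lie_equiv hp
      exact Or.inl ⟨(rankOne_suzuki hp).of_equiv (e'.trans e.symm),
        Or.inr (Or.inr (Or.inl ⟨rfl, F, _, _, m, hm, hF, ⟨e⟩⟩))⟩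
    · obtain ⟨F, _, _, m, hm, hF, ⟨e⟩⟩ := h
      haveI : CharP F 2 := Cfsg.Lib.Chev.f4_charP hF
      exact kind_twistedF4 hm hF e
    · obtain ⟨F, _, _, m, hm, hF, ⟨e⟩⟩ := h
      haveI : CharP F 3 := Cfsg.Lib.Chev.g2_charP hF
      exact Or.inl ⟨rankOne_ree hm hF e, Or.inr (Or.inr (Or.inr ⟨rfl, Or.inl ⟨F, _, _, m, hm, hF, ⟨e⟩⟩⟩))⟩
  · rcases hK with ⟨⟨e⟩⟩ | ⟨F, _, _, hF, ⟨e⟩⟩ | h
    · exact Or.inr (Or.inr ⟨pair_a6.of_equiv e.symm, rfl, Or.inr (Or.inr ⟨e⟩)⟩)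
    · exact kind_u33 hF e
    · exact kind_tits h
  · exact Or.inl ⟨rankOne_l28 hF e, Or.inr (Or.inr (Or.inr ⟨rfl, Or.inr ⟨F, _, _, hF, ⟨e⟩⟩⟩))⟩

/-- Let X be a finite p-minimal group whose generalized Fitting subgroup K = F*(X) is a simple group of Lie type in characteristic p, and let U be a Sylow p-subgroup of K. Then N_X(U) is a maximal subgroup of X, and either K has Lie rank one (K ≅ PSL₂(pᵉ), PSU₃(pᵉ), a Suzuki group for p = 2, or a Ree group or PSL₂(8) for p = 3), or p = 2, K ≠ X and K is isomorphic to PSL₃(2ᵉ) or to PSp₄(2ᵉ) (e ≥ 2) or to the alternating group of degree 6. -/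
theorem result {X : Type*} [Group X] [Finite X] {p : ℕ} [Fact p.Prime] (hX : Cfsg.IsPMinimal p X) (hK : Cfsg.IsChevSimple p ↥(Cfsg.generalizedFittingSubgroup X)) (U : Sylow p ↥(Cfsg.generalizedFittingSubgroup X)) : IsCoatom (Subgroup.normalizer (((U : Subgroup ↥(Cfsg.generalizedFittingSubgroup X)).map (Cfsg.generalizedFittingSubgroup X).subtype : Subgroup X) : Set X)) ∧ (Cfsg.IsLieRankOneChar p ↥(Cfsg.generalizedFittingSubgroup X) ∨ (p = 2 ∧ Cfsg.generalizedFittingSubgroup X ≠ ⊤ ∧ ((∃ (F : Type) (_ : Field F) (_ : Fintype F) (_ : CharP F 2), Nonempty (↥(Cfsg.generalizedFittingSubgroup X) ≃* Matrix.ProjectiveSpecialLinearGroup (Fin 3) F)) ∨ (∃ (F : Type) (_ : Field F) (_ : Fintype F) (_ : CharP F 2), 4 ≤ Fintype.card F ∧ Nonempty (↥(Cfsg.generalizedFittingSubgroup X) ≃* Cfsg.PSp 2 F)) ∨ Nonempty (↥(Cfsg.generalizedFittingSubgroup X) ≃* ↥(alternatingGroup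 (Fin 6)))))) := by
  haveI : (Cfsg.generalizedFittingSubgroup X).Normal := by infer_instance
  exact dichotomy hX (kind_of_chevSimple hK) U

end Cfsg.Agent.S2937
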