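import Cfsg.Statements.S2940
import Cfsg.Agent.Lib.Core.Basic
-- import your own Cfsg.Agent.* helpers here

set_option autoImplicit false
open Cfsg

namespace Cfsg.Agent.S2940

/-- Let S be a Sylow p-subgroup of the finite group G and G₁, G₂ subgroups containing S with G = G₁G₂. Then for every g ∈ G there is a Sylow p-subgroup U of G with S ∩ S^g ≤ U ≤ G₁ ∩ G₂^g (conjugates taken as X^g = g⁻¹Xg). -/
theorem result {G : Type*} [Group G] [Finite G] {p : ℕ} [Fact p.Prime] (S : Sylow p G) (G₁ G₂ : Subgroup G) (h1 : (S : Subgroup G) ≤ G₁) (h2 : (S : Subgroup G) ≤ G₂) (hfact : ∀ g : G, ∃ g₁ ∈ G₁, ∃ g₂ ∈ G₂, g = g₁ * g₂) (g : G) : ∃ U : Sylow p G, (S : Subgroup G) ⊓ Cfsg.subgroupConjRight g (S : Subgroup G) ≤ (U : Subgroup G) ∧ (U : Subgroup G) ≤ G₁ ⊓ Cfsg.subgroupConjRight g G₂ := by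
  obtain ⟨a, ha, b, hb, hab⟩ := hfact g⁻¹
  set K := G₁ ⊓ Cfsg.subgroupConjRight g G₂
  set D := (S : Subgroup G) ⊓ Cfsg.subgroupConjRight g (S : Subgroup G)
  have hmem : ∀ (X : Subgroup G) (x : G), x ∈ Cfsg.subgroupConjRight g X ↔ g * x * g⁻¹ ∈ X := by
    intro X x
    rw [Cfsg.subgroupConjRight, Lib.Core.mem_map_conj, inv_inv]
  have hDK : D ≤ K := fun x hx => ⟨h1 hx.1, (hmem _ x).mpr (h2 ((hmem _ x).mp hx.2))⟩
  have haS : ((a • S : Sylow p G) : Subgroup G) ≤ K := by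
    rintro _ ⟨s, hs, rfl⟩
    refine ⟨G₁.mul_mem (G₁.mul_mem ha (h1 hs)) (G₁.inv_mem ha), (hmem _ _).mpr ?_⟩
    have e : g * (a * s * a⁻¹) * g⁻¹ = b⁻¹ * s * b := by
      have : g = b⁻¹ * a⁻¹ := by rw [← mul_inv_rev, ← hab, inv_inv]
      rw [this]; group
    show g * (a * s * a⁻¹) * g⁻¹ ∈ G₂
    rw [e]
    exact G₂.mul_mem (G₂.mul_mem (G₂.inv_mem hb) (h2 hs)) hb
  have hDp : IsPGroup p ↥(D.subgroupOf K) :=
    ((S.2.to_le inf_le_left : IsPGroup p ↥D)).comap_of_injective K.subtype K.subtype_injective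
  obtain ⟨R, hR⟩ := hDp.exists_le_sylow
  obtain ⟨k, hk⟩ := MulAction.exists_smul_eq (↥K) ((a • S).subtype haS) R
  rw [Sylow.smul_subtype] at hk
  refine ⟨(k : G) • a • S, fun x hx => ?_, Sylow.smul_le haS k⟩
  have h3 := hR (show (⟨x, hDK hx⟩ : ↥K) ∈ D.subgroupOf K from hx)
  rw [← hk] at h3
  exact h3

end Cfsg.Agent.S2940
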