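import Cfsg.Statements.S2941
import Cfsg.Agent.Lib.Thompson.Basic
-- import your own Cfsg.Agent.* helpers here

set_option autoImplicit false
open Cfsg

namespace Cfsg.Agent.S2941

/-- Let G be a finite group of characteristic 2 type in which every 2-local subgroup is solvable and the centralizer of Ω₁(Z(S)) lies in N_G(S) for every Sylow 2-subgroup S, and let T be a nontrivial 2-subgroup and K a J(T)-component (J the Thompson subgroup generated by the elementary abelian 2-subgroups of largest order). If a subgroup Q is normalized by ⟨K, J(T)⟩ and normalizes J(T), then Q normalizes K. -/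
theorem result {G : Type*} [Group G] [Finite G] (hL : Cfsg.IsCharacteristicTwoType G) (hN : ∀ N : Subgroup G, Cfsg.IsTwoLocal N → Group.IsSolvable ↥N)
    (hZ : ∀ S : Sylow 2 G, Subgroup.centralizer (Cfsg.omegaCenterOf (S : Subgroup G) : Set G) ≤ Subgroup.normalizer ((S : Subgroup G) : Set G)) (T : Subgroup G) (hT : IsPGroup 2 ↥T) (hT1 : T ≠ ⊥) (K : Subgroup G) (hK : Cfsg.IsJComponent T K)
    (Q : Subgroup G) (hQ1 : K ⊔ Cfsg.thompsonSubgroupOf 2 T ≤ Subgroup.normalizer (Q : Set G)) (hQ2 : Q ≤ Subgroup.normalizer (Cfsg.thompsonSubgroupOf 2 T : Set G)) :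
    Q ≤ Subgroup.normalizer (K : Set G) := by
  obtain ⟨hodd, hKJ, -⟩ := hK
  set J := Cfsg.thompsonSubgroupOf 2 T with hJdef
  set L := K ⊔ J with hLdef
  have hJ2 : IsPGroup 2 J := (hT.to_subgroup (Cfsg.thompsonSubgroup 2 T)).map T.subtype
  have hJK : J ≤ Subgroup.normalizer (K : Set G) := Subgroup.le_normalizer_iff_commutator_le_left.mpr hKJ.le
  -- conjugates of `J` by `K` move into `L`
  have hconj : ∀ q ∈ Q, ∀ k ∈ K, ∀ j ∈ J, q * (k * j * k⁻¹) * q⁻¹ ∈ L := by
    intro q hq k hk j hj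
    have hq' : k⁻¹ * q * k ∈ Q := by
      have := (Subgroup.mem_normalizer_iff.mp (inv_mem (hQ1 (Subgroup.mem_sup_left hk))) q).mp hq
      simpa using this
    have hj' := (Subgroup.mem_normalizer_iff.mp (hQ2 hq') j).mp hj
    rw [show q * (k * j * k⁻¹) * q⁻¹ = k * ((k⁻¹ * q * k) * j * (k⁻¹ * q * k)⁻¹) * k⁻¹ by group]
    exact mul_mem (mul_mem (Subgroup.mem_sup_left hk) (Subgroup.mem_sup_right hj'))
      (inv_mem (Subgroup.mem_sup_left hk))
  -- the odd elements of `L` lie in `K`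
  have hoddL : ∀ x ∈ L, Odd (orderOf x) → x ∈ K := by
    intro x hx ho
    have hLK : L ≤ Subgroup.normalizer (K : Set G) := sup_le Subgroup.le_normalizer hJK
    haveI : (K.subgroupOf L).Normal :=
      (Subgroup.normal_subgroupOf_iff_le_normalizer le_sup_left).mpr hLK
    have htop : K.subgroupOf L ⊔ J.subgroupOf L = ⊤ := by
      rw [← Subgroup.subgroupOf_sup le_sup_left le_sup_right]
      exact Subgroup.subgroupOf_self L
    obtain ⟨a, ha, b, hb, he⟩ : ∃ a ∈ K.subgroupOf L, ∃ b ∈ J.subgroupOf L, a * b = (⟨x, hx⟩ : L) :=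
      Subgroup.mem_sup_of_normal_left.mp (htop ▸ Subgroup.mem_top _)
    set f := QuotientGroup.mk' (K.subgroupOf L)
    have hfx : f ⟨x, hx⟩ = f b := by
      rw [← he, map_mul, show f a = 1 from (QuotientGroup.eq_one_iff _).mpr ha, one_mul]
    obtain ⟨n, hn⟩ := hJ2 ⟨b, Subgroup.mem_subgroupOf.mp hb⟩
    have hb2 : f b ^ 2 ^ n = 1 := by
      have e : b ^ 2 ^ n = 1 := Subtype.ext (by
        simpa using congrArg (Subtype.val : J → G) hn)
      rw [← map_pow, e, map_one]
    have h1 : orderOf (f ⟨x, hx⟩) ∣ 2 ^ n := orderOf_dvd_of_pow_eq_one (by rw [hfx]; exact hb2)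
    have h2 : orderOf (f ⟨x, hx⟩) ∣ orderOf x := by
      rw [← Subgroup.orderOf_mk x hx]; exact orderOf_map_dvd f _
    have h3 := Nat.eq_one_of_dvd_coprimes ((ho.coprime_two_left).pow_left n) h1 h2
    exact Subgroup.mem_subgroupOf.mp ((QuotientGroup.eq_one_iff _).mp (orderOf_eq_one_iff.mp h3))
  intro q hq
  -- conjugation by `q` maps `K` into `K`
  have hmap : ∀ p ∈ Q, ∀ x ∈ K, p * x * p⁻¹ ∈ K := by
    intro p hp
    have h1 : K ≤ L.comap (MulAut.conj p).toMonoidHom := by
      conv_lhs => rw [← hKJ]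
      refine Subgroup.commutator_le.mpr fun k hk j hj => ?_
      show p * (k * j * k⁻¹ * j⁻¹) * p⁻¹ ∈ L
      rw [show p * (k * j * k⁻¹ * j⁻¹) * p⁻¹ = p * (k * j * k⁻¹) * p⁻¹ * (p * (1 * j * 1⁻¹) * p⁻¹)⁻¹ by group]
      exact mul_mem (hconj p hp k hk j hj) (inv_mem (hconj p hp 1 (one_mem K) j hj))
    have h2 : K ≤ K.comap (MulAut.conj p).toMonoidHom := by
      conv_lhs => rw [← hodd]
      refine (Subgroup.closure_le _).mpr fun x hx => ?_
      refine hoddL _ (h1 hx.1) ?_
      show Odd (orderOf (MulAut.conj p x))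
      rw [MulEquiv.orderOf_eq]; exact hx.2
    exact fun x hx => h2 hx
  refine Subgroup.mem_normalizer_iff.mpr fun x => ⟨hmap q hq x, fun hx => ?_⟩
  have := hmap q⁻¹ (inv_mem hq) _ hx
  simpa [mul_assoc] using this

end Cfsg.Agent.S2941
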