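import Cfsg.Statements.S2943
import Cfsg.Agent.Lib.Local.JComp.Unique
import Cfsg.Agent.Lib.Local.JComp.Transport

set_option autoImplicit false
open Cfsg

namespace Cfsg.Agent.S2943

open Cfsg.Lib Cfsg.Lib.Local Cfsg.Lib.Local.JComp Subgroup
open scoped commutatorElement

/-- Let G be a finite group of characteristic 2 type in which every 2-local subgroup is solvable and the centralizer of Ω₁(Z(S)) lies in N_G(S) for every Sylow 2-subgroup S, and let T be a nontrivial 2-subgroup (below, J is the Thompson subgroup generated by the elementary abelian 2-subgroups of largest order), L a subgroup in which T is a Sylow 2-subgroup with J(T) not contained in O₂(L) and C_G(O₂(L)) ≤ O₂(L), and K a J(T)-component contained in L. If Z(T) meets W_K = [Ω₁(Z(O₂(K))), K] nontrivially, then T normalizes K. -/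
theorem result {G : Type*} [Group G] [Finite G] (hL : Cfsg.IsCharacteristicTwoType G) (hN : ∀ N : Subgroup G, Cfsg.IsTwoLocal N → Group.IsSolvable ↥N)
    (hZ : ∀ S : Sylow 2 G, Subgroup.centralizer (Cfsg.omegaCenterOf (S : Subgroup G) : Set G) ≤ Subgroup.normalizer ((S : Subgroup G) : Set G)) (T : Subgroup G) (hT : IsPGroup 2 ↥T) (hT1 : T ≠ ⊥) (L : Subgroup G) (hLT : L ∈ Cfsg.jOvergroups T)
    (K : Subgroup G) (hK : Cfsg.IsJComponent T K) (hKL : K ≤ L)
    (hZW : T ⊓ Subgroup.centralizer (T : Set G) ⊓ Cfsg.wOf K ≠ ⊥) : T ≤ Subgroup.normalizer (K : Set G) := by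
  haveI : Fact (Nat.Prime 2) := ⟨Nat.prime_two⟩
  intro t ht
  have c := ctx_of_overgroup hN hZ hT hT1 hLT
  have hTL : T ≤ L := hLT.1.1
  set e := MulAut.conj t with he
  have hTt : T.map e.toMonoidHom = T := Core.map_conj_eq_of_mem_normalizer (le_normalizer ht)
  set K' := K.map e.toMonoidHom with hK'
  have hK'c : IsJComponent T K' := by
    have := isJComponent_map hK e
    rwa [hTt] at this
  have hK'L : K' ≤ L := by
    rintro _ ⟨k, hk, rfl⟩
    exact L.mul_mem (L.mul_mem (hTL ht) (hKL hk)) (L.inv_mem (hTL ht))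
  have hcard : Nat.card K ≤ Nat.card K' := by rw [hK', BaumannBlock.card_map_mulEquiv]
  obtain ⟨E, hEL, hLE, hKE, hDE, h3, hcomm⟩ := exists_layer c hK hKL
  have hK'E : K' ≤ E := by
    rintro _ ⟨k, hk, rfl⟩
    exact (mem_normalizer_iff.1 (hLE (hTL ht)) k).1 (hKE hk)
  -- `K'` normalizes `W`
  set W := wOf K with hW
  have hVW : ⁅K ⊔ Dk L, Vc L⁆ = W := by
    refine le_antisymm (commutator_le.2 fun g hg v hv => (sup_Dk_le_actW c hK hKL hg).2 v hv) ?_
    rw [hW, ← W_eq c hK hKL]
    exact commutator_mono le_sup_left le_rfl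
  have hK'W : K' ≤ normalizer (W : Set G) := by
    intro k hk
    have hn : k ∈ normalizer ((K ⊔ Dk L : Subgroup G) : Set G) := by
      have : E ≤ normalizer ((K ⊔ Dk L : Subgroup G) : Set G) := by
        refine Core.le_normalizer_iff_conj_mem.2 fun e he x hx => ?_
        rw [show e * x * e⁻¹ = ⁅e, x⁆ * x by simp [commutatorElement_def]]
        exact mul_mem (mem_sup_right (hcomm e he x (sup_le hKE hDE hx))) hx
      exact this (hK'E hk)
    rw [Core.mem_normalizer_iff_map_conj, ← hVW, map_commutator, Core.map_conj_eq_of_mem_normalizer hn,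
      Core.map_conj_eq_of_mem_normalizer (Vc_normalized (hK'L hk))]
  -- the two four-groups coincide
  obtain ⟨⟨r, ⟨hrT, hrC⟩, hrW⟩, hr1⟩ := ne_bot_iff_exists_ne_one.1 hZW
  have hr' : r ≠ 1 := fun h => hr1 (Subtype.ext h)
  have hW' : wOf K' = W.map e.toMonoidHom := wOf_map K e
  have hrW' : r ∈ wOf K' := by
    rw [hW']
    refine ⟨r, hrW, ?_⟩
    show t * r * t⁻¹ = r
    rw [mem_centralizer_iff.1 hrC t ht, mul_inv_cancel_right]
  have hWW' : W ⊓ wOf K' = wOf K' := by
    refine eq_W_of_invariant hK'c inf_le_right ?_ ?_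
    · intro h
      exact hr' (mem_bot.1 (h.le ⟨hrW, hrW'⟩))
    · exact (le_inf hK'W (le_normalizer.trans normalizer_le_normalizer_W)).trans
        inf_normalizer_le_normalizer_inf
  have hWeq : wOf K' = W := eq_of_le_of_card_ge (hWW'.ge.trans inf_le_left)
    (by rw [hK.2.2.2.2.1, hK'c.2.2.2.2.1])
  have hle : K' ≤ K ⊔ Dk L := fun g hg => layer_mem c hK hKL hEL hKE h3 (hK'E hg)
    ⟨hK'W hg, fun v hv => hWeq.le (comm_Vc_mem c hK'c hK'L hg hv)⟩
  exact Core.mem_normalizer_iff_map_conj.2 (eq_of_le_sup c hK hKL hK'c hle hcard)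

end Cfsg.Agent.S2943
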