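import Cfsg.Statements.S2946
import Cfsg.Agent.Lib.Local.JComp.Basic

set_option autoImplicit false
open Cfsg

namespace Cfsg.Agent.S2946

open Cfsg.Lib Cfsg.Lib.Local Cfsg.Lib.Local.JComp Cfsg.Lib.Local.GlaubermanZJ Subgroup
open scoped commutatorElement

/-- Let G be a finite group of characteristic 2 type in which every 2-local subgroup is solvable and the centralizer of Ω₁(Z(S)) lies in N_G(S) for every Sylow 2-subgroup S, and let T be a nontrivial 2-subgroup (below, J is the Thompson subgroup generated by the elementary abelian 2-subgroups of largest order), K a J(T)-component and Z₀ = Ω₁(Z(J(T))). Then Z₀ meets W_K = [Ω₁(Z(O₂(K))), K] in a subgroup of order 2, and Z₀ is the product of Z₀ ∩ Z(⟨K, J(T)⟩) and Z₀ ∩ W_K. -/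
theorem result {G : Type*} [Group G] [Finite G] (hL : Cfsg.IsCharacteristicTwoType G) (hN : ∀ N : Subgroup G, Cfsg.IsTwoLocal N → Group.IsSolvable ↥N)
    (hZ : ∀ S : Sylow 2 G, Subgroup.centralizer (Cfsg.omegaCenterOf (S : Subgroup G) : Set G) ≤ Subgroup.normalizer ((S : Subgroup G) : Set G)) (T : Subgroup G) (hT : IsPGroup 2 ↥T) (hT1 : T ≠ ⊥) (K : Subgroup G) (hK : Cfsg.IsJComponent T K)
    (Z₀ : Subgroup G) (hZ₀ : Z₀ = Cfsg.omegaCenterOf (Cfsg.thompsonSubgroupOf 2 T)) :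
    Nat.card ↥(Z₀ ⊓ Cfsg.wOf K) = 2 ∧
      (Z₀ ⊓ ((K ⊔ Cfsg.thompsonSubgroupOf 2 T) ⊓ Subgroup.centralizer ((K ⊔ Cfsg.thompsonSubgroupOf 2 T) : Set G))) ⊔ (Z₀ ⊓ Cfsg.wOf K) = Z₀ := by
  classical
  subst hZ₀
  set J := Cfsg.thompsonSubgroupOf 2 T with hJ
  set W := Cfsg.wOf K with hW
  set R := W ⊓ centralizer (J : Set G) with hR
  set Z₀ := Cfsg.omegaCenterOf J with hZ₀
  have hZ₀J : Z₀ ≤ J := BaumannBlock.omegaOneCenter_le 2 J
  have hZ₀c : ∀ {z}, z ∈ Z₀ → ∀ j ∈ J, Commute z j := fun hz j hj =>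
    BaumannBlock.omegaOneCenter_commute (p := 2) hz hj
  obtain ⟨A, hA, hAW⟩ := exists_moving hK
  have hRZ : R ≤ Z₀ := fun w hw => Subgroup.subset_closure
    ⟨⟨le_J hA (fixed_le_max hT hK hA hw), hw.2⟩, W_pow hw.1⟩
  have hZW : Z₀ ⊓ W = R := le_antisymm
    (fun w hw => ⟨hw.2, mem_centralizer_iff.2 fun j hj => (hZ₀c hw.1 j hj).eq.symm⟩)
    (fun w hw => ⟨hRZ hw, hw.1⟩)
  rw [hZW]
  refine ⟨card_fixed hT hK, ?_⟩
  refine le_antisymm (sup_le inf_le_left hRZ) fun z hz => ?_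
  -- notation
  set X := K ⊔ J with hX
  set S := Cfsg.pCoreOf 2 K ⊔ J with hS
  have hSJ : Cfsg.thompsonSubgroupOf 2 S = J :=
    hK.2.2.2.1 S (isSylow_sup hT hK) le_sup_right
  have hKW : K ≤ normalizer (W : Set G) := le_normalizer.trans normalizer_le_normalizer_W
  have hJW : J ≤ normalizer (W : Set G) := (J_le_normalizer hK).trans normalizer_le_normalizer_W
  obtain ⟨ρ, hρ, ho, hn, hgen⟩ := exists_rho hK
  set P := X ⊓ centralizer (W : Set G) with hP
  have hρR : zpowers ρ ≤ normalizer (Cfsg.pCoreOf 2 K : Set G) := by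
    rw [zpowers_le]
    exact normalizer_le_normalizer_pCoreOf K (le_normalizer hρ)
  have hPS : P ≤ S := by
    rintro x ⟨hxX, hxW⟩
    have hxX' : x ∈ J ⊔ K := sup_comm K J ▸ hxX
    obtain ⟨j, hj, k, hk, rfl⟩ := (Core.mem_sup_of_le_normalizer (J_le_normalizer hK)).1 hxX'
    have hk' : k ∈ zpowers ρ ⊔ Cfsg.pCoreOf 2 K := by rw [sup_comm, hgen]; exact hk
    obtain ⟨g, hg, q, hq, rfl⟩ := (Core.mem_sup_of_le_normalizer hρR).1 hk'
    refine mul_mem (mem_sup_right hj) (mem_sup_left (mul_mem ?_ hq))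
    have hgK : g ∈ K := (zpowers_le.2 hρ) hg
    refine (inf_centralizer_eq hK).le ⟨hgK, ?_⟩
    have hgj : j * g ∈ centralizer (W : Set G) := by
      have := (centralizer (W : Set G)).mul_mem hxW ((centralizer (W : Set G)).inv_mem (core_le_centralizer_W hq))
      simpa [mul_assoc] using this
    -- a power of odd index of `g` centralizes `W`
    obtain ⟨n, hnj⟩ := isPGroup_J hT ⟨j, hj⟩
    have hj2 : j ^ 2 ^ n = 1 := congrArg Subtype.val hnj
    have key : ∀ m : ℕ, ∀ w ∈ W, g ^ m * w * (g ^ m)⁻¹ = (j⁻¹) ^ m * w * ((j⁻¹) ^ m)⁻¹ := by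
      intro m
      induction m with
      | zero => simp
      | succ m ih =>
        intro w hw
        have h1 : (j * g) * w * (j * g)⁻¹ = w := by
          rw [(mem_centralizer_iff.1 hgj w hw).symm]; group
        have h2 : g * w * g⁻¹ = j⁻¹ * w * j := by
          calc g * w * g⁻¹ = j⁻¹ * ((j * g) * w * (j * g)⁻¹) * j := by group
            _ = _ := by rw [h1]
        have h3 : j⁻¹ * w * j ∈ W := (mem_normalizer_iff''.1 (hJW hj) w).1 hw
        calc g ^ (m + 1) * w * (g ^ (m + 1))⁻¹ = g ^ m * (g * w * g⁻¹) * (g ^ m)⁻¹ := by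
              rw [pow_succ]; group
          _ = (j⁻¹) ^ m * (j⁻¹ * w * j) * ((j⁻¹) ^ m)⁻¹ := by rw [h2]; exact ih _ h3
          _ = _ := by rw [pow_succ]; group
    have hgn : g ^ 2 ^ n ∈ centralizer (W : Set G) := mem_centralizer_iff.2 fun w hw => by
      have := key (2 ^ n) w hw
      rw [inv_pow, hj2, inv_one, one_mul, inv_one, mul_one] at this
      exact (mul_inv_eq_iff_eq_mul.1 this).symm
    have hog : Odd (orderOf g) := by
      obtain ⟨i, rfl⟩ := hg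
      exact ho.of_dvd_nat (orderOf_dvd_of_pow_eq_one (by rw [← zpow_natCast, ← zpow_mul, mul_comm, zpow_mul,
        zpow_natCast, pow_orderOf_eq_one, one_zpow]))
    have hcop : (orderOf g).Coprime (2 ^ n) := Nat.Coprime.pow_right n (odd_iff_coprime.1 hog)
    obtain ⟨i, hi⟩ : g ∈ zpowers (g ^ 2 ^ n) := by
      have h := exists_pow_eq_self_of_coprime hcop.symm
      obtain ⟨i, hi⟩ := h
      exact ⟨i, by simpa using hi⟩
    rw [← hi]; exact zpow_mem hgn i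
  have hPK : ∀ x ∈ X, ∀ y ∈ P, x * y * x⁻¹ ∈ P := by
    intro x hx y hy
    refine ⟨X.mul_mem (X.mul_mem hx hy.1) (X.inv_mem hx), mem_centralizer_iff.2 fun w hw => ?_⟩
    have hxW : x ∈ normalizer (W : Set G) := (sup_le hKW hJW) hx
    have h := mem_centralizer_iff.1 hy.2 _ ((mem_normalizer_iff''.1 hxW w).1 hw)
    calc w * (x * y * x⁻¹) = x * ((x⁻¹ * w * x) * y) * x⁻¹ := by group
      _ = x * (y * (x⁻¹ * w * x)) * x⁻¹ := by rw [h]
      _ = x * y * x⁻¹ * w := by group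
  -- the largest elementary abelian subgroups inside `P`
  have hSX : S ≤ X := sup_le_sup_right core_le J
  have hswap : ∀ B, IsMaxEAIn 2 T B → IsMaxEAIn 2 S ((B ⊓ centralizer (W : Set G)) ⊔ W) ∧
      (B ⊓ centralizer (W : Set G)) ⊔ W ≤ P := fun B hB => by
    refine ⟨max_swap hT hK hB, le_inf ((max_swap hT hK hB).1.trans hSX) (sup_le inf_le_right ?_)⟩
    exact fun w hw => mem_centralizer_iff.2 fun w' hw' => (W_commute hw' hw).eq
  have hconjB : ∀ x ∈ X, ∀ B, IsMaxEAIn 2 S B → B ≤ P →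
      IsMaxEAIn 2 S (B.map (MulAut.conj x).toMonoidHom) ∧ B.map (MulAut.conj x).toMonoidHom ≤ P := by
    intro x hx B hB hBP
    have h1 : B.map (MulAut.conj x).toMonoidHom ≤ P := by
      rintro _ ⟨b, hb, rfl⟩; exact hPK x hx b (hBP hb)
    refine ⟨⟨h1.trans hPS, Thompson.isEA_map _ hB.2.1, fun C hC hCe => ?_⟩, h1⟩
    rw [BaumannBlock.card_map_mulEquiv]
    exact hB.2.2 C hC hCe
  let Y : Subgroup G :=
    { carrier := {y | ∀ B, IsMaxEAIn 2 S B → B ≤ P → y ∈ B}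
      one_mem' := fun B _ _ => B.one_mem
      mul_mem' := fun ha hb B h1 h2 => B.mul_mem (ha B h1 h2) (hb B h1 h2)
      inv_mem' := fun ha B h1 h2 => B.inv_mem (ha B h1 h2) }
  have hYconj : ∀ x ∈ X, ∀ y ∈ Y, x * y * x⁻¹ ∈ Y := by
    intro x hx y hy B h1 h2
    obtain ⟨h3, h4⟩ := hconjB x⁻¹ (inv_mem hx) B h1 h2
    obtain ⟨b, hb, hby⟩ := hy _ h3 h4
    have : x * y * x⁻¹ = b := by rw [← hby]; simp [mul_assoc]
    rwa [this]
  have hzY : z ∈ Y := by
    intro B hB _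
    refine hB.mem_of_commute (mem_sup_right (hZ₀J hz)) (BaumannBlock.omegaOneCenter_pow (p := 2) hz)
      fun b hb => hZ₀c hz b ?_
    rw [← hSJ, thompsonSubgroupOf_eq_sSup]
    exact le_sSup (show B ∈ {B | IsMaxEAIn 2 S B} from hB) hb
  -- `[K, Y] ≤ W`
  let C : Subgroup G :=
    { carrier := {g | g ∈ normalizer (W : Set G) ∧ (∀ y, y ∈ Y ↔ g * y * g⁻¹ ∈ Y) ∧ ∀ y ∈ Y, ⁅g, y⁆ ∈ W}
      one_mem' := ⟨one_mem _, by simp, by simp⟩
      mul_mem' := by
        rintro a b ⟨ha1, ha2, ha3⟩ ⟨hb1, hb2, hb3⟩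
        refine ⟨mul_mem ha1 hb1, fun y => ?_, fun y hy => ?_⟩
        · rw [hb2 y, ha2]
          simp only [mul_inv_rev, mul_assoc]
        · rw [show ⁅a * b, y⁆ = a * ⁅b, y⁆ * a⁻¹ * ⁅a, y⁆ by simp [commutatorElement_def]; group]
          exact mul_mem ((mem_normalizer_iff.1 ha1 _).1 (hb3 y hy)) (ha3 y hy)
      inv_mem' := by
        rintro a ⟨ha1, ha2, ha3⟩
        have hy' : ∀ y ∈ Y, a⁻¹ * y * a ∈ Y := fun y hy => (ha2 _).2 (by simpa [mul_assoc] using hy)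
        refine ⟨inv_mem ha1, fun y => ?_, fun y hy => ?_⟩
        · rw [ha2 (a⁻¹ * y * a⁻¹⁻¹), inv_inv]; simp [mul_assoc]
        · rw [show ⁅a⁻¹, y⁆ = a⁻¹ * ⁅a, y⁆⁻¹ * a by simp [commutatorElement_def]; group]
          exact (mem_normalizer_iff''.1 ha1 _).1 (inv_mem (ha3 y hy)) }
  have hYiff : ∀ x ∈ X, ∀ y, y ∈ Y ↔ x * y * x⁻¹ ∈ Y := fun x hx y => ⟨hYconj x hx y, fun h => by
    have := hYconj x⁻¹ (inv_mem hx) _ h
    simpa [mul_assoc] using this⟩
  have hJC : J ≤ C := by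
    rw [hJ, thompsonSubgroupOf_eq_sSup, sSup_le_iff]
    intro B hB a ha
    refine ⟨hJW (le_J hB ha), hYiff a (mem_sup_right (le_J hB ha)), fun y hy => ?_⟩
    obtain ⟨h1, h2⟩ := hswap B hB
    have hy' := hy _ h1 h2
    by_cases haW : a ∈ centralizer (W : Set G)
    · have : Commute a y := Thompson.isEA_commute h1.2.1 (mem_sup_left ⟨ha, haW⟩) hy'
      rw [commutatorElement_eq_one_iff_mul_comm.2 this.eq]; exact one_mem _
    · obtain ⟨b, hb, w, hw, rfl⟩ := (Core.mem_sup_of_le_normalizer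
        (inf_le_left.trans ((le_J hB).trans hJW))).1 hy'
      rw [show ⁅a, b * w⁆ = ⁅a, b⁆ * (b * ⁅a, w⁆ * b⁻¹) by simp [commutatorElement_def]; group,
        commutatorElement_eq_one_iff_mul_comm.2 (Thompson.isEA_commute hB.2.1 ha hb.1).eq, one_mul]
      exact (mem_normalizer_iff.1 (hJW (le_J hB hb.1)) _).1 (comm_mem_fixed hT hK (le_J hB ha) hw).1
  have hKC : K ≤ C := by
    refine hK.2.1.ge.trans (commutator_le.2 fun k hk j hj => ?_)
    refine mul_mem ⟨?_, ?_, fun y hy => ?_⟩ (inv_mem (hJC hj))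
    · exact mul_mem (mul_mem (hKW hk) (hJW hj)) (inv_mem (hKW hk))
    · exact hYiff _ (mul_mem (mul_mem (mem_sup_left hk) (mem_sup_right hj)) (inv_mem (mem_sup_left hk)))
    · rw [show ⁅k * j * k⁻¹, y⁆ = k * ⁅j, k⁻¹ * y * k⁆ * k⁻¹ by simp [commutatorElement_def]; group]
      refine (mem_normalizer_iff.1 (hKW hk) _).1 ((hJC hj).2.2 _ ?_)
      exact (hYiff k (mem_sup_left hk) _).2 (by simpa [mul_assoc] using hy)
  -- correct `z` by an element of `W`
  have hzW : ∀ w ∈ W, Commute z w := fun w hw => by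
    obtain ⟨h1, h2⟩ := hswap A hA
    exact Thompson.isEA_commute h1.2.1 (hzY _ h1 h2) (mem_sup_right hw)
  have hρW : ∀ w ∈ W, ⁅ρ, w⁆ ∈ W := fun w hw => by
    rw [commutatorElement_def]
    exact mul_mem ((mem_normalizer_iff.1 (hKW hρ) w).1 hw) (inv_mem hw)
  obtain ⟨w, hw, hwz⟩ : ∃ w ∈ W, ⁅ρ, w⁆ = ⁅ρ, z⁆ := by
    have hinj : Function.Injective (fun w : W => (⟨⁅ρ, (w : G)⁆, hρW w w.2⟩ : W)) := by
      intro a b hab
      have h : ⁅ρ, (a : G)⁆ = ⁅ρ, (b : G)⁆ := congrArg Subtype.val hab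
      have h2 : ρ * ((b : G)⁻¹ * a) * ρ⁻¹ = (b : G)⁻¹ * a := by
        have hb : ρ * (b : G)⁻¹ * ρ⁻¹ = (b : G)⁻¹ * ⁅ρ, (b : G)⁆⁻¹ := by
          simp [commutatorElement_def]; group
        calc ρ * ((b : G)⁻¹ * a) * ρ⁻¹ = (ρ * (b : G)⁻¹ * ρ⁻¹) * (⁅ρ, (a : G)⁆ * a) := by
              simp [commutatorElement_def]
          _ = (b : G)⁻¹ * a := by rw [hb, h]; group
      exact Subtype.ext (inv_mul_eq_one.1 (rho_fpf hK hρ ho hn (mul_mem (inv_mem b.2) a.2) h2)).symm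
    obtain ⟨w, hw⟩ := (Finite.injective_iff_surjective.1 hinj) ⟨⁅ρ, z⁆, (hKC hρ).2.2 z hzY⟩
    exact ⟨w, w.2, congrArg Subtype.val hw⟩
  set z' := z * w with hz'
  have hρz : Commute ρ z' := by
    refine commutatorElement_eq_one_iff_mul_comm.1 ?_
    rw [show ⁅ρ, z * w⁆ = ⁅ρ, z⁆ * (z * ⁅ρ, w⁆ * z⁻¹) by simp [commutatorElement_def]; group, hwz]
    have h1 : ⁅ρ, z⁆ ∈ W := (hKC hρ).2.2 z hzY
    rw [(hzW _ h1).eq, mul_inv_cancel_right, ← pow_two, W_pow h1]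
  have hSN : S ≤ normalizer (J : Set G) := by
    have := Thompson.normalizer_le_normalizer_thompsonSubgroupOf (p := 2) S
    rw [hSJ] at this
    exact le_normalizer.trans this
  have hqR : ∀ q ∈ Cfsg.pCoreOf 2 K, ⁅q, z'⁆ ∈ R := by
    intro q hq
    have e : ⁅q, z'⁆ = ⁅q, z⁆ := by
      rw [hz', show ⁅q, z * w⁆ = ⁅q, z⁆ * (z * ⁅q, w⁆ * z⁻¹) by simp [commutatorElement_def]; group,
        commutatorElement_eq_one_iff_mul_comm.2 (omega_commute (W_le_omega hw) hq).eq.symm]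
      group
    rw [e]
    refine ⟨(hKC (core_le hq)).2.2 z hzY, mem_centralizer_iff.2 fun j hj => ?_⟩
    have h1 : Commute (q * z * q⁻¹) j := by
      have h2 : q⁻¹ * j * q ∈ J := (mem_normalizer_iff''.1 (hSN (mem_sup_left hq)) j).1 hj
      have h3 := (hZ₀c hz _ h2).map (MulAut.conj q)
      simpa [mul_assoc] using h3
    exact (h1.mul_left (hZ₀c hz j hj).inv_left).eq.symm
  have hqz : ∀ q ∈ Cfsg.pCoreOf 2 K, Commute q z' := by
    intro q hq
    refine commutatorElement_eq_one_iff_mul_comm.1 ?_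
    by_contra h1
    have hq' : ρ * q * ρ⁻¹ ∈ Cfsg.pCoreOf 2 K :=
      (mem_normalizer_iff.1 (normalizer_le_normalizer_pCoreOf K (le_normalizer hρ)) q).1 hq
    have h2 : ρ * ⁅q, z'⁆ * ρ⁻¹ = ⁅ρ * q * ρ⁻¹, z'⁆ := by
      have h3 : ρ * z' * ρ⁻¹ = z' := by rw [hρz.eq]; group
      conv_rhs => rw [← h3]
      simp [commutatorElement_def]; group
    obtain ⟨c, hc⟩ := (Nat.card_eq_two_iff' (1 : R)).1 (card_fixed hT hK)
    have e1 := hc.2 ⟨_, hqR q hq⟩ (fun h => h1 (congrArg Subtype.val h))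
    have e2 := hc.2 ⟨_, hqR _ hq'⟩ (fun h => h1 (by
      have := congrArg Subtype.val h
      change ⁅ρ * q * ρ⁻¹, z'⁆ = 1 at this
      rw [← h2] at this
      exact conj_eq_one_iff.1 this))
    have e3 : ρ * ⁅q, z'⁆ * ρ⁻¹ = ⁅q, z'⁆ := h2.trans (congrArg Subtype.val (e2.trans e1.symm))
    exact h1 (rho_fpf hK hρ ho hn (hqR q hq).1 e3)
  have hKz : K ≤ centralizer ({z'} : Set G) := by
    rw [← hgen]
    refine sup_le (fun q hq => mem_centralizer_singleton_iff.2 (hqz q hq).eq) ?_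
    rw [zpowers_le]
    exact mem_centralizer_singleton_iff.2 hρz.eq
  -- `w` is fixed by `J`
  obtain ⟨a, haA, haW⟩ := SetLike.not_le_iff_exists.1 hAW
  have haJ : a ∈ J := le_J hA haA
  have hwR : w ∈ R := by
    refine ⟨hw, fixed_eq hT hK haJ haW hw ?_⟩
    have h1 : ⁅a, z'⁆ = ⁅a, w⁆ := by
      rw [hz', show ⁅a, z * w⁆ = ⁅a, z⁆ * (z * ⁅a, w⁆ * z⁻¹) by simp [commutatorElement_def]; group,
        commutatorElement_eq_one_iff_mul_comm.2 (hZ₀c hz a haJ).eq.symm, one_mul,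
        (hzW _ (comm_mem_fixed hT hK haJ hw).1).eq, mul_inv_cancel_right]
    have h2 : ⁅a, w⁆ ∈ W := (comm_mem_fixed hT hK haJ hw).1
    have h3 : ⁅a, w⁆ = 1 := by
      refine rho_fpf hK hρ ho hn h2 ?_
      rw [← h1]
      have h4 : Commute ρ (a * z' * a⁻¹) := by
        have h5 : a⁻¹ * ρ * a ∈ K := (mem_normalizer_iff''.1 (J_le_normalizer hK haJ) ρ).1 hρ
        have h6 : Commute (a⁻¹ * ρ * a) z' := mem_centralizer_singleton_iff.1 (hKz h5)
        have h7 := h6.map (MulAut.conj a)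
        simpa [mul_assoc] using h7
      rw [commutatorElement_def, (h4.mul_right hρz.inv_right).eq]
      group
    exact mul_inv_eq_iff_eq_mul.2 (commutatorElement_eq_one_iff_mul_comm.1 h3)
  have hz'0 : z' ∈ Z₀ := mul_mem hz (hRZ hwR)
  have hmem : z' ∈ X ⊓ centralizer (X : Set G) := by
    refine ⟨mem_sup_right (hZ₀J hz'0), mem_centralizer_iff.2 fun x hx => ?_⟩
    exact mem_centralizer_singleton_iff.1 ((sup_le hKz (fun j hj =>
      mem_centralizer_singleton_iff.2 (hZ₀c hz'0 j hj).eq.symm) : X ≤ centralizer ({z'} : Set G)) hx)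
  have : z = z' * w⁻¹ := by rw [hz', mul_inv_cancel_right]
  rw [this]
  exact mul_mem (mem_sup_left ⟨hz'0, hmem.1, Subgroup.centralizer_le
    (Set.union_subset (SetLike.coe_subset_coe.2 le_sup_left) (SetLike.coe_subset_coe.2 le_sup_right)) hmem.2⟩) (inv_mem (mem_sup_right hwR))

end Cfsg.Agent.S2946
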