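import Cfsg.Statements.S2949
import Cfsg.Agent.Lib.Local.JComp.Straddle

set_option autoImplicit false
open Cfsg

namespace Cfsg.Agent.S2949

open Cfsg.Lib Cfsg.Lib.Local Cfsg.Lib.Local.JComp Subgroup

/-- Let G be a finite group of characteristic 2 type in which every 2-local subgroup is solvable and the centralizer of Ω₁(Z(S)) lies in N_G(S) for every Sylow 2-subgroup S; suppose O₂(G) = 1, fix a Sylow 2-subgroup S and a 2-local subgroup M containing N_G(J(S)) (J the Thompson subgroup generated by the elementary abelian 2-subgroups of largest order). For every T maximal (for the order of a largest elementary abelian subgroup, then the order of J(T), then the order of T) among the nontrivial 2-subgroups of M lying in a 2-local subgroup not inside M, there is a J(T)-component K not contained in M with J(T) the Thompson subgroup of every Sylow 2-subgroup of N_G(W_K) containing J(T), and O₂(⟨K, T⟩) ≠ 1. -/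
theorem result {G : Type*} [Group G] [Finite G] (hL : Cfsg.IsCharacteristicTwoType G) (hN : ∀ N : Subgroup G, Cfsg.IsTwoLocal N → Group.IsSolvable ↥N)
    (hZ : ∀ S : Sylow 2 G, Subgroup.centralizer (Cfsg.omegaCenterOf (S : Subgroup G) : Set G) ≤ Subgroup.normalizer ((S : Subgroup G) : Set G)) (hO : Cfsg.pCore 2 G = ⊥) (S : Sylow 2 G) (M : Subgroup G) (hM : Cfsg.IsTwoLocal M)
    (hMJ : Subgroup.normalizer (Cfsg.thompsonSubgroupOf 2 (S : Subgroup G) : Set G) ≤ M) (T : Subgroup G) (hT : T ∈ Cfsg.maxStraddlingTwoSubgroups M) :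
    (Cfsg.jComponentsOutside M T).Nonempty := by
  haveI : Fact (Nat.Prime 2) := ⟨Nat.prime_two⟩
  obtain ⟨hTp, hT1, hTM, L, hL2, hTL, hLM⟩ := hT.1
  obtain ⟨hTS, hLj, K, hK, hKL, hKM⟩ := straddle_component hL hN hZ S hMJ hT hL2 hLM hTL
  have hW : IsPGroup 2 (Cfsg.wOf K) := isPGroup_core.to_le W_le_core
  have hWne : Cfsg.wOf K ≠ ⊥ := fun h => by have := hK.2.2.2.2.1; rw [h, card_bot] at this; omega
  have h2 : Cfsg.IsTwoLocal (normalizer (Cfsg.wOf K : Set G)) := ⟨Cfsg.wOf K, hW, hWne, rfl⟩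
  have hWM : ¬ normalizer (Cfsg.wOf K : Set G) ≤ M := fun h =>
    hKM ((le_normalizer.trans normalizer_le_normalizer_W).trans h)
  refine ⟨K, ⟨hK, fun S₁ hJS hS₁ => (straddle_sylow S hMJ hT h2 hWM hS₁ hJS).1⟩, hKM, ?_⟩
  intro hbot
  have hQ1 : Cfsg.pCoreOf 2 L ≤ Cfsg.pCoreOf 2 (K ⊔ T) := by
    refine le_pCoreOf ((core_le_sylow hTS).trans le_sup_right) ?_ isPGroup_Q
    exact (sup_le hKL hTL).trans core_le_normalizer'
  rw [hbot, le_bot_iff] at hQ1
  have h := hLj.2.2
  rw [hQ1] at h
  exact hT1 (le_bot_iff.1 fun x _ => h (mem_centralizer_iff.2 fun y hy => by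
    rw [mem_bot.1 hy]; simp))

end Cfsg.Agent.S2949
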