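import Cfsg.Statements.S2950
import Cfsg.Agent.Lib.Local.JComp.Class

set_option autoImplicit false
open Cfsg

namespace Cfsg.Agent.S2950

open Cfsg.Lib Cfsg.Lib.Local Cfsg.Lib.Local.JComp Subgroup

/-- Uniqueness of the maximal 2-local overgroup. Let G be a finite group of characteristic 2 type in which every 2-local subgroup is solvable and the centralizer of Ω₁(Z(S)) lies in N_G(S) for every Sylow 2-subgroup S; suppose O₂(G) = 1, fix a Sylow 2-subgroup S and a 2-local subgroup M containing N_G(J(S)) (J the Thompson subgroup generated by the elementary abelian 2-subgroups of largest order). Let T be maximal (for the order of a largest elementary abelian subgroup, then the order of J(T), then the order of T) among the nontrivial 2-subgroups of M lying in a 2-local subgroup not inside M, and let K be a J(T)-component not contained in M with J(T) the Thompson subgroup of every Sylow 2-subgroup of N_G(W_K) containing J(T), and O₂(⟨K, T⟩) ≠ 1. Then there is exactly one maximal 2-local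 subgroup L of G containing ⟨K, J(T)⟩; moreover K is subnormal in L and T is a Sylow 2-subgroup of L. -/
theorem result {G : Type*} [Group G] [Finite G] (hL : Cfsg.IsCharacteristicTwoType G) (hN : ∀ N : Subgroup G, Cfsg.IsTwoLocal N → Group.IsSolvable ↥N)
    (hZ : ∀ S : Sylow 2 G, Subgroup.centralizer (Cfsg.omegaCenterOf (S : Subgroup G) : Set G) ≤ Subgroup.normalizer ((S : Subgroup G) : Set G)) (hO : Cfsg.pCore 2 G = ⊥) (S : Sylow 2 G) (M : Subgroup G) (hM : Cfsg.IsTwoLocal M)
    (hMJ : Subgroup.normalizer (Cfsg.thompsonSubgroupOf 2 (S : Subgroup G) : Set G) ≤ M) (T : Subgroup G) (hT : T ∈ Cfsg.maxStraddlingTwoSubgroups M)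
    (K : Subgroup G) (hK : K ∈ Cfsg.jComponentsOutside M T) :
    ∃ L : Subgroup G, Cfsg.IsMaximalTwoLocal L ∧ K ⊔ Cfsg.thompsonSubgroupOf 2 T ≤ L ∧
      (∀ L' : Subgroup G, Cfsg.IsMaximalTwoLocal L' → K ⊔ Cfsg.thompsonSubgroupOf 2 T ≤ L' → L' = L) ∧
      (K.subgroupOf L).IsSubnormal ∧ Cfsg.IsSylowTwoIn T L := by
  haveI : Fact (Nat.Prime 2) := ⟨Nat.prime_two⟩
  have b : Base S T M := ⟨hL, hN, hZ, hMJ, hT⟩
  obtain ⟨hK0, hKM, hO2⟩ := hK
  have hKc : Cfsg.IsJComponent T K := hK0.1
  set L := normalizer (Cfsg.pCoreOf 2 (classJoin T K) : Set G) with hLdef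
  obtain ⟨h1, h2, h3⟩ := b.attached_facts hKc hKM
  obtain ⟨hmax, huniq⟩ := b.attached_maximal hKc hKM
  have hLM : ¬ L ≤ M := fun h => hKM (h2.trans h)
  refine ⟨L, hmax, sup_le h2 h3, huniq, (b.ctx h1 hLM h3).isSubnormal hKc h2, ?_⟩
  have hN2 : Cfsg.IsTwoLocal (normalizer (Cfsg.pCoreOf 2 (K ⊔ T) : Set G)) :=
    ⟨_, (Cfsg.Lib.Core.pCore_isPGroup 2 _).map _, hO2, rfl⟩
  have hKT : K ⊔ T ≤ normalizer (Cfsg.pCoreOf 2 (K ⊔ T) : Set G) :=
    le_normalizer.trans (normalizer_le_normalizer_pCoreOf _)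
  have hTL : T ≤ L := (le_sup_right.trans hKT).trans
    (b.le_attached hKc hKM hN2 (le_sup_left.trans hKT)
      ((map_subtype_le _).trans (le_sup_right.trans hKT)))
  exact (straddle_component hL hN hZ S hMJ hT h1 hLM hTL).1

end Cfsg.Agent.S2950
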