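import Cfsg.Statements.S2951
import Cfsg.Agent.Lib.Local.JComp.Small

set_option autoImplicit false
open Cfsg

namespace Cfsg.Agent.S2951

open Cfsg.Lib Cfsg.Lib.Local Cfsg.Lib.Local.JComp Cfsg.Lib.Local.GlaubermanZJ Subgroup

/-- Let G be a finite group of characteristic 2 type in which every 2-local subgroup is solvable and the centralizer of Ω₁(Z(S)) lies in N_G(S) for every Sylow 2-subgroup S; suppose O₂(G) = 1, fix a Sylow 2-subgroup S and a 2-local subgroup M containing N_G(J(S)) (J the Thompson subgroup generated by the elementary abelian 2-subgroups of largest order), and put Z = Ω₁(Z(S)). Let T ≤ S be maximal (for the order of a largest elementary abelian subgroup, then the order of J(T), then the order of T) among the nontrivial 2-subgroups of M lying in a 2-local subgroup not inside M, K a J(T)-component not contained in M with J(T) the Thompson subgroup of every Sylow 2-subgroup of N_G(W_K) containing J(T), and O₂(⟨K, T⟩) ≠ 1, L a maximal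 2-local subgroup containing ⟨K, J(T)⟩ (there is only one), and Z₀ = Ω₁(Z(J(T))). Then Z₀ ∩ W_K ≠ 1, and one of: Z = Z₀ has order 2; Z = Z₀ has order 4 and T = S; Ω₁(Z(T)) = Z₀ has order 4 and C_L(Z₀) has index 2 in N_G(Z₀). -/
theorem result {G : Type*} [Group G] [Finite G] (hL : Cfsg.IsCharacteristicTwoType G) (hN : ∀ N : Subgroup G, Cfsg.IsTwoLocal N → Group.IsSolvable ↥N)
    (hZ : ∀ S : Sylow 2 G, Subgroup.centralizer (Cfsg.omegaCenterOf (S : Subgroup G) : Set G) ≤ Subgroup.normalizer ((S : Subgroup G) : Set G)) (hO : Cfsg.pCore 2 G = ⊥) (S : Sylow 2 G) (M : Subgroup G) (hM : Cfsg.IsTwoLocal M)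
    (hMJ : Subgroup.normalizer (Cfsg.thompsonSubgroupOf 2 (S : Subgroup G) : Set G) ≤ M) (T : Subgroup G) (hT : T ∈ Cfsg.maxStraddlingTwoSubgroups M)
    (hTS : T ≤ (S : Subgroup G)) (K : Subgroup G) (hK : K ∈ Cfsg.jComponentsOutside M T)
    (L : Subgroup G) (hLmax : Cfsg.IsMaximalTwoLocal L) (hKL : K ⊔ Cfsg.thompsonSubgroupOf 2 T ≤ L)
    (Z Z₀ : Subgroup G) (hZdef : Z = Cfsg.omegaCenterOf (S : Subgroup G)) (hZ₀ : Z₀ = Cfsg.omegaCenterOf (Cfsg.thompsonSubgroupOf 2 T)) :
    Z₀ ⊓ Cfsg.wOf K ≠ ⊥ ∧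
      ((Z = Z₀ ∧ Nat.card ↥Z₀ = 2) ∨ (Z = Z₀ ∧ Nat.card ↥Z₀ = 4 ∧ T = (S : Subgroup G)) ∨
        (Cfsg.omegaCenterOf T = Z₀ ∧ Nat.card ↥Z₀ = 4 ∧
          (L ⊓ Subgroup.centralizer (Z₀ : Set G)).relIndex (Subgroup.normalizer (Z₀ : Set G)) = 2)) := by
  haveI : Fact (Nat.Prime 2) := ⟨Nat.prime_two⟩
  have b : Base S T M := ⟨hL, hN, hZ, hMJ, hT⟩
  obtain ⟨hK0, hKM, hO2⟩ := hK
  have hKc : Cfsg.IsJComponent T K := hK0.1
  have hKL' : K ≤ L := le_sup_left.trans hKL
  have hJL : Cfsg.thompsonSubgroupOf 2 T ≤ L := le_sup_right.trans hKL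
  have hTL := b.sylow_max hLmax hKc hKM hKL' hJL hO2
  obtain ⟨h4, hTK⟩ := b.small hO hLmax hTL hKc hKM hKL'
  obtain ⟨hsplit, hc⟩ := b.center_split hKc
  subst hZdef hZ₀
  have hR := card_fixed b.isPGroup hKc
  refine ⟨fun h => ?_, ?_⟩
  · rw [Z0_inf_W b.isPGroup hKc] at h
    rw [h, card_bot] at hR
    omega
  -- `T` centralizes `Z0`
  have hHT : Hof T K ≤ centralizer (T : Set G) := by
    refine centralizes_of_card_le_two b.isPGroup (inf_le_left.trans Z0_le) ?_ (by omega)
    refine le_trans (le_inf ((T_le_normalizer_J T).trans normalizer_J_le_Z0) ?_)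
      inf_normalizer_le_normalizer_inf
    exact fun t ht => mem_normalizer_fintype fun c hc => mem_centralizer_iff.2 fun k hk => by
      have h1 := mem_centralizer_iff.1 hc _ ((mem_normalizer_iff''.1 (hTK ht) k).1 hk)
      calc k * (t * c * t⁻¹) = t * ((t⁻¹ * k * t) * c) * t⁻¹ := by group
        _ = t * (c * (t⁻¹ * k * t)) * t⁻¹ := by rw [h1]
        _ = t * c * t⁻¹ * k := by group
  have hZT : Z0 T ≤ centralizer (T : Set G) := by
    rw [← hsplit]
    exact sup_le hHT fun r hr => mem_centralizer_iff.2 fun t ht => (T_commute_fixed b.isPGroup hKc hTK ht hr).eq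
  have hΩ : Cfsg.omegaCenterOf T = Z0 T := le_antisymm omega_le_Z0 fun z hz =>
    Subgroup.subset_closure ⟨⟨Z0_le hz, hZT hz⟩, by rw [pow_two]; exact Z0_sq hz⟩
  have hRle : 2 ≤ Nat.card ↥(Z0 T) := by
    rw [← hR]; exact card_le_of_le (fixed_le_Z0 b.isPGroup hKc)
  have hH2 : Nat.card ↥(Hof T K) = 1 ∨ Nat.card ↥(Hof T K) = 2 := by omega
  by_cases hTeq : T = (S : Subgroup G)
  · have e : Cfsg.omegaCenterOf (S : Subgroup G) = Z0 T := by rw [← hTeq, hΩ]
    rcases hH2 with h | h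
    · exact Or.inl ⟨e, by show Nat.card ↥(Z0 T) = 2; omega⟩
    · exact Or.inr (Or.inl ⟨e, by show Nat.card ↥(Z0 T) = 4; omega, hTeq⟩)
  have hlt : T < (S : Subgroup G) := lt_of_le_of_ne hTS hTeq
  have hle : Cfsg.omegaCenterOf (S : Subgroup G) ≤ Z0 T :=
    (omega_le_of_sylow (twoLocal_facts hL hLmax.1) hTL hTS).trans omega_le_Z0
  have hS1 : (S : Subgroup G) ≠ ⊥ := fun h => b.T_ne_bot (le_bot_iff.1 (hTS.trans h.le))
  have hne := omega_ne_bot S.isPGroup' hS1
  rcases hH2 with h | h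
  · have h2 : Nat.card ↥(Z0 T) = 2 := by omega
    refine Or.inl ⟨eq_of_le_of_card_ge hle ?_, h2⟩
    have : 1 < Nat.card ↥(Cfsg.omegaCenterOf (S : Subgroup G)) := (Subgroup.one_lt_card_iff_ne_bot _).2 hne
    show Nat.card ↥(Z0 T) ≤ _
    omega
  have h4' : Nat.card ↥(Z0 T) = 4 := by omega
  refine Or.inr (Or.inr ⟨hΩ, h4', ?_⟩)
  obtain ⟨n, hnS, hnT, hnT', hnL, hnJ⟩ := b.exists_moved hTL S.isPGroup' hlt
  obtain ⟨⟨x, hx⟩, hx1'⟩ := ne_bot_iff_exists_ne_one.1 (fun e => by rw [e, card_bot] at h; omega : Hof T K ≠ ⊥)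
  have hx1 : x ≠ 1 := fun e => hx1' (Subtype.ext e)
  have hCx := b.centralizer_le hLmax hJL hKc hKM hKL' hx hx1
  have hCL : L ⊓ centralizer (Z0 T : Set G) = centralizer (Z0 T : Set G) :=
    inf_eq_right.2 ((centralizer_le (Set.singleton_subset_iff.2 hx.1)).trans hCx)
  show (L ⊓ centralizer (Z0 T : Set G)).relIndex (normalizer (Z0 T : Set G)) = 2
  rw [hCL]
  have hnZ : n ∈ normalizer (Z0 T : Set G) := normalizer_J_le_Z0 hnJ
  have hncx : n * x * n⁻¹ ∉ Hof T K := fun hm =>
    hnL (b.fusion_mem hLmax hJL hKc hKM hKL' hKc hKM hKL' hx hx1 hm)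
  -- `Ω₁Z(S)` has order 2
  obtain ⟨⟨z, hz⟩, hz1'⟩ := ne_bot_iff_exists_ne_one.1 hne
  have hz1 : z ≠ 1 := fun e => hz1' (Subtype.ext e)
  have hzZ : z ∈ Z0 T := hle hz
  have hnz : n * z * n⁻¹ = z := by
    rw [← ((Cfsg.Lib.Local.BaumannBlock.omegaOneCenter_commute (p := 2) hz hnS).eq), mul_inv_cancel_right]
  have hxz : x ≠ z := fun e => hncx (by rw [e, hnz]; exact e ▸ hx)
  set x' := n * x * n⁻¹ with hx'
  have hx'Z : x' ∈ Z0 T := (mem_normalizer_iff.1 hnZ x).1 hx.1
  have hx'1 : x' ≠ 1 := fun e => hx1 (conj_eq_one_iff.1 e)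
  have hx'x : x' ≠ x := fun e => hncx (e.symm ▸ hx)
  have hx'z : x' ≠ z := fun e => hxz (mul_left_cancel (mul_right_cancel (e.trans hnz.symm)))
  have hfour : ∀ y ∈ Z0 T, y = 1 ∨ y = z ∨ y = x ∨ y = x' := by
    intro y hy
    by_contra hne'
    push Not at hne'
    have h5 : ({1, z, x, x', y} : Set G).ncard ≤ Nat.card ↥(Z0 T) := by
      rw [show Nat.card ↥(Z0 T) = ((Z0 T) : Set G).ncard from Nat.card_coe_set_eq _]
      refine Set.ncard_le_ncard ?_ (Set.toFinite _)
      rintro e (rfl | rfl | rfl | rfl | rfl)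
      exacts [one_mem _, hzZ, hx.1, hx'Z, hy]
    rw [Set.ncard_insert_of_notMem (by simp [Ne.symm hz1, Ne.symm hx1, Ne.symm hx'1, Ne.symm hne'.1])
        (Set.toFinite _),
      Set.ncard_insert_of_notMem (by simp [Ne.symm hxz, Ne.symm hx'z, Ne.symm hne'.2.1]) (Set.toFinite _),
      Set.ncard_insert_of_notMem (by simp [Ne.symm hx'x, Ne.symm hne'.2.2.1]) (Set.toFinite _),
      Set.ncard_pair hne'.2.2.2.symm] at h5
    omega
  -- every element of `N(Z0)` fixes `z`
  have hzfix : ∀ g ∈ normalizer (Z0 T : Set G), g * z * g⁻¹ = z := by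
    have key : ∀ g, g * z * g⁻¹ ≠ x := by
      intro g hg
      have hΩS : ∀ w ∈ Cfsg.omegaCenterOf (S : Subgroup G), w = 1 ∨ w = z := by
        intro w hw
        have hnw : n * w * n⁻¹ = w := by
          rw [← ((Cfsg.Lib.Local.BaumannBlock.omegaOneCenter_commute (p := 2) hw hnS).eq), mul_inv_cancel_right]
        rcases hfour w (hle hw) with e | e | e | e
        · exact Or.inl e
        · exact Or.inr e
        · rw [e] at hnw; exact absurd hnw hx'x
        · rw [e] at hnw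
          exact absurd (mul_left_cancel (mul_right_cancel hnw)) hx'x
      have hC : ∀ c ∈ K ⊔ Cfsg.thompsonSubgroupOf 2 T, g⁻¹ * c * g ∈ normalizer ((S : Subgroup G) : Set G) := by
        intro c hc
        have hcx : Commute c x := mem_centralizer_singleton_iff.1 ((sup_le
          (fun k hk => mem_centralizer_singleton_iff.2 (mem_centralizer_iff.1 hx.2 k hk))
          (fun j hj => mem_centralizer_singleton_iff.2 (Z0_commute hx.1 hj).eq.symm) :
          K ⊔ Cfsg.thompsonSubgroupOf 2 T ≤ centralizer ({x} : Set G)) hc)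
        refine hZ S (mem_centralizer_iff.2 fun w hw => ?_)
        rcases hΩS w hw with rfl | rfl
        · rw [one_mul, mul_one]
        · rw [← hg] at hcx
          calc w * (g⁻¹ * c * g) = g⁻¹ * ((g * w * g⁻¹) * c) * g := by group
            _ = g⁻¹ * (c * (g * w * g⁻¹)) * g := by rw [hcx.eq]
            _ = g⁻¹ * c * g * w := by group
      set X := (S : Subgroup G).map (MulAut.conj g).toMonoidHom with hX
      have hle' : K ⊔ Cfsg.thompsonSubgroupOf 2 T ≤ normalizer (X : Set G) := fun c hc => by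
        rw [hX, ← map_equiv_normalizer_eq]
        exact ⟨g⁻¹ * c * g, hC c hc, by simp [mul_assoc]⟩
      have hXp : IsPGroup 2 X := S.isPGroup'.map _
      have hXJ : IsPGroup 2 ↥(X ⊔ Cfsg.thompsonSubgroupOf 2 T) :=
        IsPGroup.to_sup_of_normal_left' hXp (isPGroup_J b.isPGroup) (le_sup_right.trans hle')
      obtain ⟨Q, hQ⟩ := hXJ.exists_le_sylow
      have hcard : Nat.card Q ≤ Nat.card X := by
        rw [hX, Cfsg.Lib.Local.BaumannBlock.card_map_mulEquiv]
        exact (Nat.card_congr (Q.equiv S).toEquiv).le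
      have hJX : Cfsg.thompsonSubgroupOf 2 T ≤ X :=
        (le_sup_right.trans hQ).trans (eq_of_le_of_card_ge (le_sup_left.trans hQ) hcard).ge
      exact not_le_normalizer hKc hXp hJX (le_sup_left.trans hle')
    intro g hg
    rcases hfour _ ((mem_normalizer_iff.1 hg z).1 hzZ) with e | e | e | e
    · exact absurd (conj_eq_one_iff.1 e) hz1
    · exact e
    · exact absurd e (key g)
    · refine absurd ?_ (key (n⁻¹ * g))
      calc n⁻¹ * g * z * (n⁻¹ * g)⁻¹ = n⁻¹ * (g * z * g⁻¹) * n := by group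
        _ = x := by rw [e, hx']; group
  have hcent : ∀ g ∈ normalizer (Z0 T : Set G), g * x * g⁻¹ = x → g ∈ centralizer (Z0 T : Set G) := by
    intro g hg hgx
    refine mem_centralizer_iff.2 fun y hy => (mul_inv_eq_iff_eq_mul.1 ?_).symm
    rcases hfour y hy with rfl | rfl | rfl | rfl
    · group
    · exact hzfix g hg
    · exact hgx
    · rcases hfour _ ((mem_normalizer_iff.1 hg x').1 hx'Z) with e | e | e | e
      · exact absurd (conj_eq_one_iff.1 e) hx'1
      · exact absurd (mul_left_cancel (mul_right_cancel (e.trans (hzfix g hg).symm))) hx'z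
      · exact absurd (mul_left_cancel (mul_right_cancel (e.trans hgx.symm))) hx'x
      · exact e
  have hsw : ∀ g ∈ normalizer (Z0 T : Set G), g * x * g⁻¹ = x ∨ g * x * g⁻¹ = x' := by
    intro g hg
    rcases hfour _ ((mem_normalizer_iff.1 hg x).1 hx.1) with e | e | e | e
    · exact absurd (conj_eq_one_iff.1 e) hx1
    · exact absurd (mul_left_cancel (mul_right_cancel (e.trans (hzfix g hg).symm))) hxz
    · exact Or.inl e
    · exact Or.inr e
  rw [relIndex, index_eq_two_iff']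
  refine ⟨⟨n, hnZ⟩, fun m => ?_⟩
  simp only [mem_subgroupOf, Subgroup.coe_mul]
  have hcx : ∀ g, g ∈ centralizer (Z0 T : Set G) → g * x * g⁻¹ = x := fun g hg => by
    rw [← mem_centralizer_iff.1 hg x hx.1, mul_inv_cancel_right]
  rcases hsw m m.2 with e | e
  · refine Or.inr ⟨hcent _ m.2 e, fun hm => hx'x ?_⟩
    have h' := hcx _ hm
    calc x' = n * ((m : G) * x * (m : G)⁻¹) * n⁻¹ := by rw [e]
      _ = n * m * x * (n * m : G)⁻¹ := by group
      _ = x := h'
  · refine Or.inl ⟨hcent _ (mul_mem hnZ m.2) ?_, fun hm => hx'x ((hcx _ hm).symm.trans e).symm⟩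
    have hnn : n * x' * n⁻¹ = x := by
      rcases hsw n hnZ with e' | e'
      · exact absurd e' hx'x
      · rcases hfour _ ((mem_normalizer_iff.1 hnZ x').1 hx'Z) with u | u | u | u
        · exact absurd (conj_eq_one_iff.1 u) hx'1
        · exact absurd (mul_left_cancel (mul_right_cancel (u.trans hnz.symm))) hx'z
        · exact u
        · exact absurd (mul_left_cancel (mul_right_cancel u)) hx'x
    calc n * m * x * (n * m : G)⁻¹ = n * ((m : G) * x * (m : G)⁻¹) * n⁻¹ := by group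
      _ = x := by rw [e, hnn]

end Cfsg.Agent.S2951
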