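import Cfsg.Statements.S2954
import Cfsg.Agent.Lib.Local.JComp.Shape

set_option autoImplicit false
open Cfsg

namespace Cfsg.Agent.S2954

open Cfsg.Lib Cfsg.Lib.Local Cfsg.Lib.Local.JComp Cfsg.Lib.Local.GlaubermanZJ Subgroup

/-- Let G be a finite group of characteristic 2 type in which every 2-local subgroup is solvable and the centralizer of Ω₁(Z(S)) lies in N_G(S) for every Sylow 2-subgroup S; suppose O₂(G) = 1, fix a Sylow 2-subgroup S and a 2-local subgroup M containing N_G(J(S)) (J the Thompson subgroup generated by the elementary abelian 2-subgroups of largest order). If T is maximal (for the order of a largest elementary abelian subgroup, then the order of J(T), then the order of T) among the nontrivial 2-subgroups of M lying in a 2-local subgroup not inside M, then there are two distinct maximal 2-local subgroups P₁, P₂ of G, each having T as a Sylow 2-subgroup, that are both isomorphic to the symmetric group on four letters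 or both isomorphic to its direct product with a group of order 2. -/
theorem result {G : Type*} [Group G] [Finite G] (hL : Cfsg.IsCharacteristicTwoType G) (hN : ∀ N : Subgroup G, Cfsg.IsTwoLocal N → Group.IsSolvable ↥N)
    (hZ : ∀ S : Sylow 2 G, Subgroup.centralizer (Cfsg.omegaCenterOf (S : Subgroup G) : Set G) ≤ Subgroup.normalizer ((S : Subgroup G) : Set G)) (hO : Cfsg.pCore 2 G = ⊥) (S : Sylow 2 G) (M : Subgroup G) (hM : Cfsg.IsTwoLocal M)
    (hMJ : Subgroup.normalizer (Cfsg.thompsonSubgroupOf 2 (S : Subgroup G) : Set G) ≤ M) (T : Subgroup G) (hT : T ∈ Cfsg.maxStraddlingTwoSubgroups M) :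
    ∃ P₁ P₂ : Subgroup G, P₁ ≠ P₂ ∧ Cfsg.IsMaximalTwoLocal P₁ ∧ Cfsg.IsMaximalTwoLocal P₂ ∧
      Cfsg.IsSylowTwoIn T P₁ ∧ Cfsg.IsSylowTwoIn T P₂ ∧
      ((Nonempty (↥P₁ ≃* Equiv.Perm (Fin 4)) ∧ Nonempty (↥P₂ ≃* Equiv.Perm (Fin 4))) ∨
        (Nonempty (↥P₁ ≃* Equiv.Perm (Fin 4) × Multiplicative (ZMod 2)) ∧
          Nonempty (↥P₂ ≃* Equiv.Perm (Fin 4) × Multiplicative (ZMod 2)))) := by
  haveI : Fact (Nat.Prime 2) := ⟨Nat.prime_two⟩
  have b : Base S T M := ⟨hL, hN, hZ, hMJ, hT⟩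
  obtain ⟨hTp, hT1, hTM, N, hN2, hTN, hNM⟩ := hT.1
  obtain ⟨-, -, K, hKc, hKN, hKM⟩ := straddle_component hL hN hZ S hMJ hT hN2 hNM hTN
  obtain ⟨h1, h2, h3⟩ := b.attached_facts hKc hKM
  obtain ⟨hmax, -⟩ := b.attached_maximal hKc hKM
  set L := normalizer (Cfsg.pCoreOf 2 (classJoin T K) : Set G)
  have hTL : Cfsg.IsSylowTwoIn T L := (straddle_component hL hN hZ S hMJ hT h1 (fun h => hKM (h2.trans h))
    (hTN.trans (b.le_attached hKc hKM hN2 hKN ((map_subtype_le _).trans hTN)))).1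
  have hTK := (b.small hO hmax hTL hKc hKM h2).2
  have s₁ : Side T K L := ⟨⟨S, M, b, hKM⟩, hKc, hmax, hTL, h2, hTK, (b.small hO hmax hTL hKc hKM h2).1⟩
  suffices h : ∃ K₂ L₂, Linked T K L K₂ L₂ by
    obtain ⟨K₂, L₂, k⟩ := h
    refine ⟨L, L₂, fun e => k.out (e ▸ k.right.le), hmax, k.right.max, hTL, k.right.sylow, ?_⟩
    have e : Nat.card ↥(Hof T K₂) = Nat.card ↥(Hof T K) := by
      have := k.left.center_split.2
      have := k.right.center_split.2
      omega
    rcases (show Nat.card ↥(Hof T K) = 1 ∨ Nat.card ↥(Hof T K) = 2 by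
      have := k.left.card_Hof
      have := Nat.card_pos (α := ↥(Hof T K))
      omega) with h | h
    · exact Or.inl ⟨k.iso.1 h, k.symm.iso.1 (e.trans h)⟩
    · exact Or.inr ⟨k.iso.2 h, k.symm.iso.2 (e.trans h)⟩
  by_cases hA : ∃ n ∈ normalizer (T : Set G), n ∉ L
  · obtain ⟨n, hnT, hnL⟩ := hA
    have hnJ := Cfsg.Lib.Thompson.normalizer_le_normalizer_thompsonSubgroupOf (p := 2) T hnT
    set K₂ := K.map (MulAut.conj n).toMonoidHom
    set L₂ := L.map (MulAut.conj n).toMonoidHom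
    obtain ⟨hK₂, hK₂M⟩ : Cfsg.IsJComponent T K₂ ∧ ¬ K₂ ≤ M := b.conj_component hKc hKM hnJ
    have hL₂ := maximal_map hmax (MulAut.conj n)
    have hK₂L₂ : K₂ ≤ L₂ := map_mono h2
    have hTL₂ : Cfsg.IsSylowTwoIn T L₂ := by
      have h := isSylowTwoIn_map_equiv (MulAut.conj n) hTL
      rwa [Cfsg.Lib.Core.map_conj_eq_of_mem_normalizer hnT] at h
    refine ⟨K₂, L₂, s₁, s₁.map hnT, fun hle => hnL ?_⟩
    have e : L₂ = L := (hL₂.2 L hmax.1 (b.eq_max hmax hle hK₂ hK₂M h3 hL₂.1 hK₂L₂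
      ((map_subtype_le _).trans hTL₂.1))).symm
    exact max_normalizer hmax (Cfsg.Lib.Core.mem_normalizer_iff_map_conj.2 e)
  push Not at hA
  obtain ⟨P, hP⟩ := hTp.exists_le_sylow
  have hTP : T = (P : Subgroup G) := by
    by_contra hne
    obtain ⟨n, -, hn, -, hnL, -⟩ := b.exists_moved hTL P.isPGroup' (lt_of_le_of_ne hP hne)
    exact hnL (hA n hn)
  by_cases hB : ∃ n ∈ normalizer (Cfsg.thompsonSubgroupOf 2 T : Set G), n ∉ L
  · -- `N(J(T)) ≤ N(Z0) ≤ N(T) ≤ L`
    exfalso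
    obtain ⟨n, hnJ, hnL⟩ := hB
    obtain ⟨h4, -, -⟩ := b.small_of_moved hmax hTL.1 hKc hKM h2 hnJ hnL
    obtain ⟨hsplit, hc⟩ := b.center_split hKc
    have hHT : Hof T K ≤ Subgroup.centralizer (T : Set G) := by
      refine centralizes_of_card_le_two hTp (inf_le_left.trans Z0_le) ?_ (by omega)
      refine le_trans (le_inf ((T_le_normalizer_J T).trans normalizer_J_le_Z0) ?_)
        inf_normalizer_le_normalizer_inf
      exact fun t ht => mem_normalizer_fintype fun c hc => mem_centralizer_iff.2 fun k hk => by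
        have e1 := mem_centralizer_iff.1 hc _ ((mem_normalizer_iff''.1 (hTK ht) k).1 hk)
        calc k * (t * c * t⁻¹) = t * ((t⁻¹ * k * t) * c) * t⁻¹ := by group
          _ = t * (c * (t⁻¹ * k * t)) * t⁻¹ := by rw [e1]
          _ = t * c * t⁻¹ * k := by group
    have hZT : Z0 T ≤ Subgroup.centralizer (T : Set G) := by
      rw [← hsplit]
      exact sup_le hHT fun r hr => mem_centralizer_iff.2 fun t ht =>
        (T_commute_fixed hTp hKc hTK ht hr).eq
    have hCN : Subgroup.centralizer (Z0 T : Set G) ≤ normalizer (T : Set G) := by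
      intro g hg
      rw [hTP]
      refine hZ P ?_
      rw [← hTP]
      exact Subgroup.centralizer_le (SetLike.coe_subset_coe.2 omega_le_Z0) hg
    have hTC : T ≤ Subgroup.centralizer (Z0 T : Set G) := le_centralizer_iff.1 hZT
    have hTn : T.map (MulAut.conj n).toMonoidHom ≤ normalizer (T : Set G) := by
      refine le_trans ?_ hCN
      rintro _ ⟨t, ht, rfl⟩
      refine mem_centralizer_iff.2 fun w hw => ?_
      have e1 := mem_centralizer_iff.1 (hTC ht) _
        ((mem_normalizer_iff''.1 (normalizer_J_le_Z0 hnJ) w).1 hw)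
      show w * (n * t * n⁻¹) = n * t * n⁻¹ * w
      calc w * (n * t * n⁻¹) = n * ((n⁻¹ * w * n) * t) * n⁻¹ := by group
        _ = n * (t * (n⁻¹ * w * n)) * n⁻¹ := by rw [e1]
        _ = n * t * n⁻¹ * w := by group
    have hp2 : IsPGroup 2 ↥(T ⊔ T.map (MulAut.conj n).toMonoidHom) :=
      IsPGroup.to_sup_of_normal_left' hTp (hTp.map _) hTn
    obtain ⟨Q, hQ⟩ := hp2.exists_le_sylow
    have hQT : T = (Q : Subgroup G) := eq_of_le_of_card_ge (le_sup_left.trans hQ)
      (by rw [hTP]; exact (Nat.card_congr (Q.equiv P).toEquiv).le)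
    refine hnL (hA n (Cfsg.Lib.Core.mem_normalizer_iff_map_conj.2 (eq_of_le_of_card_ge
      ((le_sup_right.trans hQ).trans hQT.ge) ?_)))
    rw [Cfsg.Lib.Local.BaumannBlock.card_map_mulEquiv]
  push Not at hB
  by_cases hall : ∀ N, Cfsg.IsTwoLocal N → T ≤ N → N ≤ L
  · exact (b.false_of_all_local hmax hTL hKc hKM h2 P hTP hB hO hTK hall).elim
  push Not at hall
  obtain ⟨N', hN', hTN', hN'L⟩ := hall
  have hT' : T ∈ Cfsg.maxStraddlingTwoSubgroups L := by
    refine ⟨⟨hTp, hT1, hTL.1, N', hN', hTN', hN'L⟩, fun X hX => ?_⟩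
    obtain ⟨e1, e2⟩ := lex_le hTL hX.1 hX.2.2.1
    exact ⟨e1, fun he => ⟨(e2 he).1, fun _ => (e2 he).2⟩⟩
  have b' : Base P T L := ⟨hL, hN, hZ, hTP ▸ hB, hT'⟩
  obtain ⟨-, -, K₂, hK₂, hK₂N, hK₂L⟩ := straddle_component hL hN hZ P (hTP ▸ hB) hT' hN' hN'L hTN'
  obtain ⟨g1, g2, g3⟩ := b'.attached_facts hK₂ hK₂L
  obtain ⟨gmax, -⟩ := b'.attached_maximal hK₂ hK₂L
  have hTL₂ := (straddle_component hL hN hZ P (hTP ▸ hB) hT' g1 (fun h => hK₂L (g2.trans h))
    (hTN'.trans (b'.le_attached hK₂ hK₂L hN' hK₂N ((map_subtype_le _).trans hTN')))).1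
  exact ⟨K₂, _, s₁, ⟨⟨P, L, b', hK₂L⟩, hK₂, gmax, hTL₂, g2, (b'.small hO gmax hTL₂ hK₂ hK₂L g2).2,
    (b'.small hO gmax hTL₂ hK₂ hK₂L g2).1⟩, hK₂L⟩

end Cfsg.Agent.S2954
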