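import Cfsg.Statements.S2955
import Cfsg.Agent.Lib.Local.SylowControl
-- import your own Cfsg.Agent.* helpers here

set_option autoImplicit false
open Cfsg

namespace Cfsg.Agent.S2955

/-- Let p be a prime dividing the order of the finite group G and 𝓕 a conjugation-closed family of subgroups that controls Sylow p-intersections in G. Suppose the Sylow p-subgroups of G are chain-connected: any two of them are joined by a chain of Sylow p-subgroups, consecutive ones distinct with nontrivial intersection, all containing the intersection of the two ends (equivalently, the graph on the Sylow p-subgroups whose edges are the distinct pairs meeting nontrivially is connected). Then for every Sylow p-subgroup S, G is generated by N_G(S) together with the members of 𝓕 that meet S in a Sylow p-subgroup of themselves. -/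
theorem result {G : Type*} [Group G] [Finite G] (p : ℕ) [Fact p.Prime] (hdiv : p ∣ Nat.card G)
    (𝓕 : Set (Subgroup G)) (h𝓕 : Cfsg.IsNormalSet 𝓕) (hc : Cfsg.ControlsSylowIntersections p 𝓕)
    (hconn : Cfsg.IsSylowChainConnected p G) (S : Sylow p G) :
    (⨆ X ∈ Cfsg.sylowMembers p 𝓕 (S : Subgroup G), X) ⊔ Subgroup.normalizer ((S : Subgroup G) : Set G) = ⊤ := by
  set H := (⨆ X ∈ Cfsg.sylowMembers p 𝓕 (S : Subgroup G), X) ⊔
    Subgroup.normalizer ((S : Subgroup G) : Set G) with hH
  have hN : Subgroup.normalizer ((S : Subgroup G) : Set G) ≤ H := le_sup_right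
  have hstep : ∀ g : G, S ≠ g • S → (S : Subgroup G) ⊓ ((g • S : Sylow p G) : Subgroup G) ≠ ⊥ →
      g ∈ H := by
    intro g _ hne
    obtain ⟨a, ha, ha1⟩ := SetLike.exists_of_lt (bot_lt_iff_ne_bot.mpr hne)
    obtain ⟨n, Y, y, y₀, hy₀, hY, hg, -⟩ := Cfsg.Lib.Local.stronglyControls_of_controls h𝓕 hc S
      (((S : Subgroup G) ⊓ ((g • S : Sylow p G) : Subgroup G) : Subgroup G) : Set G) g
      (fun b hb => hb.1) ⟨a, ha, by simpa using ha1⟩ (by
        refine Cfsg.Lib.Local.conjRight_le.mpr ?_
        rw [← Cfsg.Lib.Local.smul_eq_subgroupConjRight]; exact fun b hb => hb.2)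
    rw [hg]
    refine mul_mem (list_prod_mem fun b hb => ?_) (hN hy₀)
    obtain ⟨i, rfl⟩ := List.mem_ofFn.mp hb
    exact (le_sup_left : _ ≤ H) (Subgroup.mem_iSup_of_mem (Y i) (Subgroup.mem_iSup_of_mem (hY i).1 (hY i).2))
  have hall : ∀ T : Sylow p G, ∃ h ∈ H, T = h • S := by
    intro T
    obtain ⟨n, c, hc0, hcn, -, hadj⟩ := hconn S T
    suffices ∀ i : Fin (n + 1), ∃ h ∈ H, c i = h • S by
      obtain ⟨h, hh, he⟩ := this (Fin.last n)
      exact ⟨h, hh, hcn ▸ he⟩
    intro i
    induction i using Fin.induction with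
    | zero => exact ⟨1, one_mem H, by rw [hc0, one_smul]⟩
    | succ i ih =>
      obtain ⟨h, hh, he⟩ := ih
      obtain ⟨k, hk⟩ := MulAction.exists_smul_eq G S (h⁻¹ • c i.succ)
      obtain ⟨hne, hinf⟩ := hadj i
      refine ⟨h * k, mul_mem hh (hstep k ?_ ?_), by rw [mul_smul, hk, smul_inv_smul]⟩
      · intro e
        refine hne ?_
        rw [he, e, hk, smul_inv_smul]
      · intro e
        apply hinf
        have h1 : c i.succ = h • (k • S) := by rw [hk, smul_inv_smul]
        rw [he, h1, Cfsg.Lib.Local.smul_eq_subgroupConjRight S h,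
          Cfsg.Lib.Local.smul_eq_subgroupConjRight (k • S) h, Cfsg.subgroupConjRight,
          Cfsg.subgroupConjRight, ← Subgroup.map_inf _ _ _ (MulAut.conj h⁻¹⁻¹).injective, e,
          Subgroup.map_bot]
  refine eq_top_iff.mpr fun g _ => ?_
  obtain ⟨h, hh, he⟩ := hall (g • S)
  have h1 : h⁻¹ * g ∈ Subgroup.normalizer ((S : Subgroup G) : Set G) :=
    Sylow.smul_eq_iff_mem_normalizer.mp (by rw [mul_smul, he, inv_smul_smul])
  have := mul_mem hh (hN h1)
  rwa [mul_inv_cancel_left] at this

end Cfsg.Agent.S2955
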