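import Cfsg.Statements.S2956
import Cfsg.Agent.Lib.Local.SylowLinks
-- import your own Cfsg.Agent.* helpers here

set_option autoImplicit false
open Cfsg

namespace Cfsg.Agent.S2956

/-- Let p be a prime dividing the order of the finite group G, and f an assignment to every p-subgroup P of a set f(P) of subgroups of P, each normalized by N_G(P), compatible with conjugation, such that for P ≠ 1 the members of f(P) are nontrivial. Let 𝓕 be the family of the normalizers N_G(F) of the members F of f(S) over the Sylow p-subgroups S of G, and 𝓕' the family of the maximal p-local subgroups M of G that are singular for f (the corresponding family of normalizers inside M does not control Sylow p-intersections in M). Then 𝓕 ∪ 𝓕' controls Sylow p-intersections in G. -/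
theorem result {G : Type*} [Group G] [Finite G] (p : ℕ) [Fact p.Prime] (hdiv : p ∣ Nat.card G)
    (f : Subgroup G → Set (Subgroup G)) (hf : Cfsg.IsNormalizerFunctor p f)
    (hf1 : ∀ P : Subgroup G, IsPGroup p ↥P → P ≠ ⊥ → ∀ F ∈ f P, F ≠ ⊥)
    (𝓕 𝓕' : Set (Subgroup G)) (h𝓕 : 𝓕 = Cfsg.functorFamily p f ⊤)
    (h𝓕' : 𝓕' = {M | Cfsg.IsMaximalPLocal p M ∧ ¬ Cfsg.IsFunctorRegular p f M}) :
    Cfsg.ControlsSylowIntersections p (𝓕 ∪ 𝓕') := by
  classical
  subst h𝓕 h𝓕'
  set 𝓖 := Cfsg.functorFamily p f ⊤ ∪ {M | Cfsg.IsMaximalPLocal p M ∧ ¬ Cfsg.IsFunctorRegular p f M} with h𝓖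
  obtain ⟨S₀⟩ : Nonempty (Sylow p G) := inferInstance
  refine Cfsg.Lib.Local.SylowLinks.controls_of_linked fun S T _ hne => ?_
  suffices main : ∀ d : ℕ, ∀ (S T : Sylow p G) (D : Subgroup G), D ≠ ⊥ → D ≤ (S : Subgroup G) → D ≤ (T : Subgroup G) →
      Nat.card (S : Subgroup G) ≤ Nat.card D + d → Cfsg.Lib.Local.SylowLinks.Linked 𝓖 D S T from
    main _ S T _ hne inf_le_left inf_le_right (Nat.le_add_left _ _)
  intro d
  induction d with
  | zero =>
    intro S T D hD hDS hDT hc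
    have e1 : D = (S : Subgroup G) := Subgroup.eq_of_le_of_card_ge hDS (by omega)
    have e2 : D = (T : Subgroup G) := Subgroup.eq_of_le_of_card_ge hDT (by
      rw [Nat.card_congr (Sylow.equiv T S).toEquiv]; omega)
    rw [show S = T from Sylow.ext (e1.symm.trans e2)]
    exact Relation.ReflTransGen.refl
  | succ d ih =>
  intro S T D hD hDS hDT hc
  by_cases hDtop : D = (S : Subgroup G)
  · exact ih S T D hD hDS hDT (hDtop ▸ Nat.le_add_right _ _)
  -- a bigger common subgroup links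
  have hbig : ∀ (U V : Sylow p G) (X : Subgroup G), D < X → X ≤ (U : Subgroup G) → X ≤ (V : Subgroup G) →
      Cfsg.Lib.Local.SylowLinks.Linked 𝓖 D U V := by
    intro U V X hX hU hV
    refine Cfsg.Lib.Local.SylowLinks.Linked.mono hX.le (ih U V X (fun e => hD ?_) hU hV ?_)
    · rw [eq_bot_iff]; exact hX.le.trans e.le
    · have h1 := Cfsg.Lib.Fusion.card_lt_card_of_lt hX
      rw [Nat.card_congr (Sylow.equiv U S).toEquiv]
      omega
  suffices inner : ∀ k : ℕ, ∀ (K R₁ R₂ : Subgroup G) (U V : Sylow p G) (m : ℕ), Cfsg.IsPLocal p K →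
      R₁ ≤ K → R₂ ≤ K → D < R₁ → D < R₂ → R₁ ≤ (U : Subgroup G) → R₂ ≤ (V : Subgroup G) →
      m ≤ Nat.card R₁ → m ≤ Nat.card R₂ → Nat.card (S₀ : Subgroup G) ≤ m + k →
      Cfsg.Lib.Local.SylowLinks.Linked 𝓖 D U V by
    have hDT' : D < (T : Subgroup G) := by
      refine lt_of_le_of_ne hDT fun e => hDtop (Subgroup.eq_of_le_of_card_ge hDS ?_)
      rw [e, Nat.card_congr (Sylow.equiv S T).toEquiv]
    have hDS' : D < (S : Subgroup G) := lt_of_le_of_ne hDS hDtop
    refine inner _ (Subgroup.normalizer (D : Set G)) ((S : Subgroup G) ⊓ Subgroup.normalizer (D : Set G))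
      ((T : Subgroup G) ⊓ Subgroup.normalizer (D : Set G)) S T 0
      ⟨D, (S.2 : IsPGroup p (S : Subgroup G)).to_le hDS, hD, rfl⟩ inf_le_right inf_le_right
      (Cfsg.Lib.Fusion.lt_inf_normalizer S.2 hDS') (Cfsg.Lib.Fusion.lt_inf_normalizer T.2 hDT')
      inf_le_left inf_le_left (Nat.zero_le _) (Nat.zero_le _) (Nat.le_add_left _ _)
  intro k
  induction k with
  | zero =>
    intro K R₁ R₂ U V m hK hR₁K hR₂K hR₁ hR₂ hU hV hm1 hm2 hm
    have e1 : R₁ = (U : Subgroup G) := Subgroup.eq_of_le_of_card_ge hU (by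
      rw [Nat.card_congr (Sylow.equiv U S₀).toEquiv]; omega)
    have e2 : R₂ = (V : Subgroup G) := Subgroup.eq_of_le_of_card_ge hV (by
      rw [Nat.card_congr (Sylow.equiv V S₀).toEquiv]; omega)
    obtain ⟨M, hKM, hM⟩ := (Set.toFinite {M : Subgroup G | Cfsg.IsPLocal p M}).exists_le_maximal hK
    have hUM : (U : Subgroup G) ≤ M := e1 ▸ hR₁K.trans hKM
    have hVM : (V : Subgroup G) ≤ M := e2 ▸ hR₂K.trans hKM
    by_cases hreg : Cfsg.IsFunctorRegular p f M
    · have h := Cfsg.Lib.Local.SylowLinks.nlinked_of_regular hf hreg hUM hVM hD (e1 ▸ hR₁.le) (e2 ▸ hR₂.le)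
      have hall : ∀ C, Cfsg.Lib.Local.SylowLinks.NLinked f D U C → Cfsg.Lib.Local.SylowLinks.Linked 𝓖 D U C := by
        intro C hC
        induction hC with
        | refl => exact Relation.ReflTransGen.refl
        | tail _ hs' ih' =>
          refine Relation.ReflTransGen.tail ih' ?_
          obtain ⟨R, F, hF, ha, hb, hDb⟩ := hs'
          have hmem : (⊤ : Subgroup G) ⊓ Subgroup.normalizer (F : Set G) ∈ 𝓖 :=
            Or.inl ⟨R.subtype le_top, F, by rwa [Sylow.coe_subtype, Subgroup.map_subgroupOf_eq_of_le le_top], rfl⟩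
          exact Cfsg.Lib.Local.SylowLinks.link_of_le hmem (le_inf le_top ha) (le_inf le_top hb) hDb
      exact hall _ h
    · exact Relation.ReflTransGen.single (Cfsg.Lib.Local.SylowLinks.link_of_le
        (Or.inr ⟨⟨hM.1, fun N hN hMN => le_antisymm (hM.2 hN hMN) hMN⟩, hreg⟩) hUM hVM (e2 ▸ hR₂.le))
  | succ k ihk =>
    intro K R₁ R₂ U V m hK hR₁K hR₂K hR₁ hR₂ hU hV hm1 hm2 hm
    obtain ⟨M, hKM, hM⟩ := (Set.toFinite {M : Subgroup G | Cfsg.IsPLocal p M}).exists_le_maximal hK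
    have hex : ∀ R : Subgroup G, IsPGroup p R → R ≤ M → ∃ A : Sylow p ↥M, R ≤ (A : Subgroup ↥M).map M.subtype := by
      intro R hR hle
      obtain ⟨A, hA⟩ := (hR.comap_of_injective M.subtype M.subtype_injective : IsPGroup p ↥(R.subgroupOf M)).exists_le_sylow
      exact ⟨A, fun r hr => ⟨⟨r, hle hr⟩, hA hr, rfl⟩⟩
    obtain ⟨A, hA⟩ := hex R₁ ((U.2 : IsPGroup p (U : Subgroup G)).to_le hU) (hR₁K.trans hKM)
    obtain ⟨B, hB⟩ := hex R₂ ((V.2 : IsPGroup p (V : Subgroup G)).to_le hV) (hR₂K.trans hKM)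
    have hσ : ∀ a : Sylow p ↥M, ∃ W : Sylow p G, (a : Subgroup ↥M).map M.subtype ≤ (W : Subgroup G) :=
      fun a => (a.2.map M.subtype).exists_le_sylow
    choose σ hσle using hσ
    set n := Nat.card ((A : Subgroup ↥M).map M.subtype) with hn
    have hcard : ∀ a : Sylow p ↥M, Nat.card ((a : Subgroup ↥M).map M.subtype) = n := fun a =>
      Cfsg.Lib.Local.SylowLinks.card_sylow_eq M a A
    have hDn : ∀ a : Sylow p ↥M, D ≤ (a : Subgroup ↥M).map M.subtype → D < (a : Subgroup ↥M).map M.subtype := by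
      intro a ha
      refine lt_of_le_of_ne ha fun e => ?_
      have h1 := Cfsg.Lib.Fusion.card_lt_card_of_lt (hR₁.trans_le hA)
      rw [e, hcard, hcard] at h1
      exact lt_irrefl _ h1
    have hDA := hDn A (hR₁.le.trans hA)
    have hDB := hDn B (hR₂.le.trans hB)
    refine ((hbig U (σ A) R₁ hR₁ hU (hA.trans (hσle A))).trans ?_).trans
      (hbig (σ B) V R₂ hR₂ (hB.trans (hσle B)) hV)
    by_cases hreg : Cfsg.IsFunctorRegular p f M
    swap
    · obtain ⟨g, hg⟩ := MulAction.exists_smul_eq (↥M) B A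
      set W := (g : G) • σ B with hW
      have hAW : (A : Subgroup ↥M).map M.subtype ≤ (W : Subgroup G) := by
        rw [← hg, hW, Cfsg.Lib.Local.SylowLinks.coe_smul_eq_map]
        rintro _ ⟨_, ⟨y, hy, rfl⟩, rfl⟩
        exact ⟨(y : G), hσle B ⟨y, hy, rfl⟩, rfl⟩
      refine (hbig (σ A) W _ hDA (hσle A) hAW).tail ?_
      have hmem : ∀ (C : Sylow p ↥M) (Z : Sylow p G), (C : Subgroup ↥M).map M.subtype ≤ (Z : Subgroup G) →
          M ∈ Cfsg.sylowMembers p 𝓖 (Z : Subgroup G) := by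
        intro C Z hCZ
        refine ⟨Or.inr ⟨⟨hM.1, fun N hN hMN => le_antisymm (hM.2 hN hMN) hMN⟩, hreg⟩, C,
          le_antisymm (le_inf hCZ (Subgroup.map_subtype_le _)) ?_⟩
        have h2 := C.3 ((Z.2 : IsPGroup p (Z : Subgroup G)).comap_of_injective M.subtype M.subtype_injective)
          (fun y hy => hCZ ⟨y, hy, rfl⟩)
        rintro y ⟨hy1, hy2⟩
        exact ⟨⟨y, hy2⟩, h2 ▸ (show (⟨y, hy2⟩ : ↥M) ∈ (Z : Subgroup G).comap M.subtype from hy1), rfl⟩
      refine ⟨M, hmem A W hAW, hmem B (σ B) (hσle B), (g : G)⁻¹, M.inv_mem g.2, ?_,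
        le_inf (hDB.le.trans (hσle B)) (hDB.le.trans (Subgroup.map_subtype_le _))⟩
      rw [hW, Cfsg.Lib.Local.smul_eq_subgroupConjRight]
    have hchain := Cfsg.Lib.Local.SylowLinks.chain_of_regular hf hreg hD hDA.le hDB.le
    suffices hgen : ∀ C, _ → Cfsg.Lib.Local.SylowLinks.Linked 𝓖 D (σ A) (σ C) from hgen B hchain
    intro C hC
    induction hC with
    | refl => exact Relation.ReflTransGen.refl
    | tail _ hs ih' =>
    rename_i a b _
    obtain ⟨P, F, hF, ha, hb, hDa, hDb⟩ := hs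
    refine ih'.trans ?_
    set P' := (P : Subgroup ↥M).map M.subtype with hP'
    have hP'p : IsPGroup p P' := P.2.map _
    have hF' := (hf P' hP'p).1 F hF
    by_cases hfull : n = Nat.card (S₀ : Subgroup G)
    · have ea : (a : Subgroup ↥M).map M.subtype = (σ a : Subgroup G) :=
        Cfsg.Lib.Local.SylowLinks.eq_sylow_of_card (hσle a) ((hcard a).trans hfull)
      have eb : (b : Subgroup ↥M).map M.subtype = (σ b : Subgroup G) :=
        Cfsg.Lib.Local.SylowLinks.eq_sylow_of_card (hσle b) ((hcard b).trans hfull)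
      have eP : P' = (σ P : Subgroup G) :=
        Cfsg.Lib.Local.SylowLinks.eq_sylow_of_card (hσle P) ((hcard P).trans hfull)
      have hmem : (⊤ : Subgroup G) ⊓ Subgroup.normalizer (F : Set G) ∈ 𝓖 := Or.inl
        ⟨(σ P).subtype le_top, F, by rwa [Sylow.coe_subtype, Subgroup.map_subgroupOf_eq_of_le le_top, ← eP], rfl⟩
      exact Relation.ReflTransGen.single (Cfsg.Lib.Local.SylowLinks.link_of_le hmem
        (le_inf le_top (ea ▸ ha)) (le_inf le_top (eb ▸ hb)) (hDb.trans (hσle b)))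
    -- otherwise the normalizer of `F` has bigger Sylow subgroups
    set N := Subgroup.normalizer (F : Set G) with hN
    have hP1 : P' ≠ ⊥ := by
      intro e
      have h1 := Cfsg.Lib.Fusion.card_lt_card_of_lt hDA
      rw [hcard, ← hcard P, ← hP', e, Subgroup.card_bot] at h1
      have := Nat.card_pos (α := ↥D)
      omega
    have hNloc : Cfsg.IsPLocal p N := ⟨F, hP'p.to_le hF'.1, hf1 P' hP'p hP1 F hF, rfl⟩
    obtain ⟨Z, hZ⟩ := hP'p.exists_le_sylow
    have hPZ : P' < (Z : Subgroup G) := by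
      refine lt_of_le_of_ne hZ fun e => hfull ?_
      rw [← hcard P, ← hP', e, Nat.card_congr (Sylow.equiv Z S₀).toEquiv]
    have hgrow : P' < (Z : Subgroup G) ⊓ N := (Cfsg.Lib.Fusion.lt_inf_normalizer Z.2 hPZ).trans_le
      (inf_le_inf_left _ hF'.2)
    have hbigR : ∀ c : Sylow p ↥M, (c : Subgroup ↥M).map M.subtype ≤ N → ∃ R : Subgroup G, IsPGroup p R ∧
        (c : Subgroup ↥M).map M.subtype ≤ R ∧ R ≤ N ∧ n < Nat.card R := by
      intro c hc'
      obtain ⟨T₁, hT₁⟩ := ((c.2.map M.subtype).comap_of_injective N.subtype N.subtype_injective :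
        IsPGroup p ↥(((c : Subgroup ↥M).map M.subtype).subgroupOf N)).exists_le_sylow
      obtain ⟨T₂, hT₂⟩ := (((Z.2 : IsPGroup p (Z : Subgroup G)).to_le (inf_le_left : (Z : Subgroup G) ⊓ N ≤ _)).comap_of_injective
        N.subtype N.subtype_injective : IsPGroup p ↥(((Z : Subgroup G) ⊓ N).subgroupOf N)).exists_le_sylow
      refine ⟨(T₁ : Subgroup ↥N).map N.subtype, T₁.2.map _, fun y hy => ⟨⟨y, hc' hy⟩, hT₁ hy, rfl⟩,
        Subgroup.map_subtype_le _, ?_⟩
      have h1 := Subgroup.card_le_of_le (show ((Z : Subgroup G) ⊓ N).subgroupOf N ≤ (T₂ : Subgroup ↥N) from hT₂)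
      rw [Nat.card_congr (Subgroup.subgroupOfEquivOfLe (inf_le_right : (Z : Subgroup G) ⊓ N ≤ N)).toEquiv,
        Nat.card_congr (Sylow.equiv T₂ T₁).toEquiv,
        ← Subgroup.card_map_of_injective (K := (T₁ : Subgroup ↥N)) N.subtype_injective] at h1
      have h2 := Cfsg.Lib.Fusion.card_lt_card_of_lt hgrow
      rw [hP', hcard] at h2
      omega
    obtain ⟨Ra, hRap, hRa, hRaN, hRac⟩ := hbigR a ha
    obtain ⟨Rb, hRbp, hRb, hRbN, hRbc⟩ := hbigR b hb
    obtain ⟨Ua, hUa⟩ := hRap.exists_le_sylow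
    obtain ⟨Ub, hUb⟩ := hRbp.exists_le_sylow
    have hmn : m ≤ n := hm1.trans (Subgroup.card_le_of_le hA)
    refine ((hbig (σ a) Ua _ (hDn a hDa) (hσle a) (hRa.trans hUa)).trans ?_).trans
      (hbig Ub (σ b) _ (hDn b hDb) (hRb.trans hUb) (hσle b))
    exact ihk N Ra Rb Ua Ub (n + 1) hNloc hRaN hRbN ((hDn a hDa).trans_le hRa) ((hDn b hDb).trans_le hRb)
      hUa hUb (by omega) (by omega) (by omega)

end Cfsg.Agent.S2956
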