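import Cfsg.Statements.S2957
import Cfsg.Agent.Lib.Local.SylowLinks
import Cfsg.Agent.S2940
-- import your own Cfsg.Agent.* helpers here

set_option autoImplicit false
open Cfsg

namespace Cfsg.Agent.S2957

/-- Let p be a prime dividing the order of the finite group G, f an equivariant assignment of a set of subgroups f(P) of P to every p-subgroup P, each normalized by N_G(P), and S a Sylow p-subgroup. If G = G₁G₂ for subgroups G₁, G₂ both containing S and both regular for f (in each Gᵢ, the family of normalizers in Gᵢ of the members of f(P), P a Sylow p-subgroup of Gᵢ, controls Sylow p-intersections), then G itself is regular for f. -/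
theorem result {G : Type*} [Group G] [Finite G] (p : ℕ) [Fact p.Prime] (hdiv : p ∣ Nat.card G)
    (f : Subgroup G → Set (Subgroup G)) (hf : Cfsg.IsNormalizerFunctor p f) (S : Sylow p G)
    (G₁ G₂ : Subgroup G) (h₁ : (S : Subgroup G) ≤ G₁) (h₂ : (S : Subgroup G) ≤ G₂)
    (hprod : ∀ g : G, ∃ g₁ ∈ G₁, ∃ g₂ ∈ G₂, g = g₁ * g₂)
    (hr₁ : Cfsg.IsFunctorRegular p f G₁) (hr₂ : Cfsg.IsFunctorRegular p f G₂) :
    Cfsg.IsFunctorRegular p f ⊤ := by
  classical
  open Cfsg.Lib.Local.SylowLinks in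
  have main : ∀ A B : Sylow p G, (A : Subgroup G) ⊓ (B : Subgroup G) ≠ ⊥ →
      NLinked f ((A : Subgroup G) ⊓ (B : Subgroup G)) A B := by
    suffices hS : ∀ T : Sylow p G, (S : Subgroup G) ⊓ (T : Subgroup G) ≠ ⊥ →
        NLinked f ((S : Subgroup G) ⊓ (T : Subgroup G)) S T by
      intro A B hne
      obtain ⟨k, rfl⟩ := MulAction.exists_smul_eq G S A
      obtain ⟨B, rfl⟩ : ∃ B', k • B' = B := ⟨k⁻¹ • B, smul_inv_smul _ _⟩
      have e : ((k • S : Sylow p G) : Subgroup G) ⊓ ((k • B : Sylow p G) : Subgroup G) =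
          ((S : Subgroup G) ⊓ (B : Subgroup G)).map (MulAut.conj k).toMonoidHom := by
        rw [coe_smul_eq_map, coe_smul_eq_map, ← Subgroup.map_inf _ _ _ (MulAut.conj k).injective]
      rw [e] at hne ⊢
      exact nlinked_conj hf k (hS B fun e => hne (by rw [e, Subgroup.map_bot]))
    intro T hne
    obtain ⟨h, rfl⟩ := MulAction.exists_smul_eq G S T
    obtain ⟨g, rfl⟩ : ∃ g, g⁻¹ = h := ⟨h⁻¹, inv_inv h⟩
    obtain ⟨U, hDU, hUle⟩ := Cfsg.Agent.S2940.result S G₁ G₂ h₁ h₂ hprod g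
    have hT : ((g⁻¹ • S : Sylow p G) : Subgroup G) = Cfsg.subgroupConjRight g (S : Subgroup G) := rfl
    rw [← hT] at hDU
    set D := (S : Subgroup G) ⊓ ((g⁻¹ • S : Sylow p G) : Subgroup G)
    have c1 : NLinked f D S U := nlinked_of_regular hf hr₁ h₁ (hUle.trans inf_le_left) hne inf_le_left hDU
    have hU2 : ((g • U : Sylow p G) : Subgroup G) ≤ G₂ := by
      rintro _ ⟨u, hu, rfl⟩
      exact Cfsg.Lib.Local.mem_subgroupConjRight.1 (hUle hu).2
    have hD2 : D.map (MulAut.conj g).toMonoidHom ≤ (S : Subgroup G) := by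
      refine (Subgroup.map_mono inf_le_right).trans (le_of_eq ?_)
      rw [← coe_smul_eq_map, smul_inv_smul]
    have c2 := nlinked_conj hf g⁻¹ (nlinked_of_regular hf hr₂ hU2 h₂
      (fun e => hne ((Subgroup.map_eq_bot_iff_of_injective _ (MulAut.conj g).injective).1 e))
      (by rw [coe_smul_eq_map]; exact Subgroup.map_mono hDU) hD2)
    rw [inv_smul_smul, ← Cfsg.Lib.Core.map_conj_mul, inv_mul_cancel,
      Cfsg.Lib.Core.map_conj_eq_of_mem_normalizer (Subgroup.one_mem _)] at c2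
    exact c1.trans c2
  refine Cfsg.Lib.Local.SylowLinks.controls_of_linked fun A B _ hne => ?_
  have hex : ∀ a : Sylow p ↥(⊤ : Subgroup G), ∃ R : Sylow p G, R.subtype le_top = a := fun a => by
    obtain ⟨R, hR⟩ := (a.2.map (⊤ : Subgroup G).subtype).exists_le_sylow
    refine ⟨R, Sylow.ext (a.3 (R.subtype le_top).2 fun x hx => ?_)⟩
    exact hR ⟨x, hx, rfl⟩
  obtain ⟨A', rfl⟩ := hex A
  obtain ⟨B', rfl⟩ := hex B
  have hne' : (A' : Subgroup G) ⊓ (B' : Subgroup G) ≠ ⊥ := by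
    intro e
    refine hne ?_
    rw [eq_bot_iff]
    intro x hx
    exact Subgroup.mem_bot.2 (Subtype.ext (Subgroup.mem_bot.1 (e ▸ hx : (x : G) ∈ (⊥ : Subgroup G))))
  suffices hgen : ∀ C, Cfsg.Lib.Local.SylowLinks.NLinked f ((A' : Subgroup G) ⊓ (B' : Subgroup G)) A' C →
      Cfsg.Lib.Local.SylowLinks.Linked ((fun X : Subgroup G => X.subgroupOf (⊤ : Subgroup G)) '' Cfsg.functorFamily p f ⊤)
        (((A'.subtype le_top : Sylow p ↥(⊤ : Subgroup G)) : Subgroup ↥(⊤ : Subgroup G)) ⊓ (B'.subtype le_top : Sylow p ↥(⊤ : Subgroup G)))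
        (A'.subtype le_top) (C.subtype le_top) from hgen B' (main A' B' hne')
  intro C hC
  induction hC with
  | refl => exact Relation.ReflTransGen.refl
  | tail _ hs ih =>
  refine Relation.ReflTransGen.tail ih ?_
  rename_i a b _
  obtain ⟨R, F, hF, ha, hb, hD⟩ := hs
  have hmem : ((⊤ ⊓ Subgroup.normalizer (F : Set G)).subgroupOf ⊤ : Subgroup ↥(⊤ : Subgroup G)) ∈
      (fun X : Subgroup G => X.subgroupOf (⊤ : Subgroup G)) '' Cfsg.functorFamily p f ⊤ :=
    ⟨⊤ ⊓ Subgroup.normalizer (F : Set G), ⟨R.subtype le_top, F,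
      by rwa [Sylow.coe_subtype, Subgroup.map_subgroupOf_eq_of_le le_top], rfl⟩, rfl⟩
  exact Cfsg.Lib.Local.SylowLinks.link_of_le hmem (fun x hx => ⟨trivial, ha hx⟩) (fun x hx => ⟨trivial, hb hx⟩)
    (fun x hx => hD hx)

end Cfsg.Agent.S2957
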