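import Cfsg.Statements.S2958
import Cfsg.Agent.Lib.Local.Basic
-- import your own Cfsg.Agent.* helpers here

set_option autoImplicit false
open Cfsg

namespace Cfsg.Agent.S2958

/-- Let X, A, B be subgroups of a group G such that G is generated by the conjugates of X and every conjugate of X is contained in A or in B. Then A = G or B = G. -/
theorem result {G : Type*} [Group G] (X A B : Subgroup G) (hgen : (⨆ g : G, X.map (MulAut.conj g).toMonoidHom) = ⊤) (hcover : ∀ g : G, X.map (MulAut.conj g).toMonoidHom ≤ A ∨ X.map (MulAut.conj g).toMonoidHom ≤ B) : A = ⊤ ∨ B = ⊤ := by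
  by_contra hne
  push Not at hne
  obtain ⟨hA, hB⟩ := hne
  let B₀ : Subgroup G := ⨆ g : {g : G // ¬ X.map (MulAut.conj g).toMonoidHom ≤ A},
    X.map (MulAut.conj (g : G)).toMonoidHom
  have hgenle : ∀ K : Subgroup G, (∀ g : G, X.map (MulAut.conj g).toMonoidHom ≤ K) → K = ⊤ :=
    fun K hK => top_le_iff.mp (hgen.ge.trans (iSup_le hK))
  have hB0B : B₀ ≤ B := iSup_le fun g => (hcover g).resolve_left g.2
  have hcomp : ∀ (a g : G), (X.map (MulAut.conj g).toMonoidHom).map (MulAut.conj a).toMonoidHom =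
      X.map (MulAut.conj (a * g)).toMonoidHom := fun a g => (Cfsg.Lib.Core.map_conj_mul X a g).symm
  have hAn : A ≤ Subgroup.normalizer (B₀ : Set G) := by
    intro a ha
    have hle : ∀ b ∈ A, B₀.map (MulAut.conj b).toMonoidHom ≤ B₀ := by
      intro b hb
      rw [Subgroup.map_iSup]
      refine iSup_le fun g => ?_
      rw [hcomp]
      refine le_iSup_of_le ⟨b * g, fun h => g.2 ?_⟩ le_rfl
      intro x hx
      have := h (show (MulAut.conj b).toMonoidHom x ∈ _ by
        rw [← hcomp]; exact Subgroup.mem_map_of_mem _ hx)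
      have h' : b * x * b⁻¹ ∈ A := this
      have := A.mul_mem (A.mul_mem (A.inv_mem hb) h') hb
      simpa [mul_assoc] using this
    rw [Cfsg.Lib.Core.mem_normalizer_iff_map_conj]
    refine le_antisymm (hle a ha) fun x hx => ?_
    have := hle a⁻¹ (A.inv_mem ha) (Subgroup.mem_map_of_mem _ hx)
    exact ⟨_, this, by simp [MulAut.conj_apply, mul_assoc]⟩
  have hn : B₀.Normal := by
    rw [← Subgroup.normalizer_eq_top_iff]
    refine hgenle _ fun g => ?_
    by_cases h : X.map (MulAut.conj g).toMonoidHom ≤ A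
    · exact h.trans hAn
    · have hle : X.map (MulAut.conj g).toMonoidHom ≤ B₀ :=
        le_iSup_of_le (f := fun g : {g : G // ¬ X.map (MulAut.conj g).toMonoidHom ≤ A} => X.map (MulAut.conj (g : G)).toMonoidHom) ⟨g, h⟩ le_rfl
      exact hle.trans Subgroup.le_normalizer
  obtain ⟨g₀, hg₀⟩ : ∃ g : G, ¬ X.map (MulAut.conj g).toMonoidHom ≤ A := by
    by_contra h
    push Not at h
    exact hA (hgenle _ h)
  refine hB (hgenle _ fun g => le_trans ?_ hB0B)
  have h1 : X.map (MulAut.conj g₀).toMonoidHom ≤ B₀ := le_iSup_of_le ⟨g₀, hg₀⟩ le_rfl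
  have h2 := Subgroup.map_mono (f := (MulAut.conj (g * g₀⁻¹)).toMonoidHom) h1
  rw [hcomp, inv_mul_cancel_right] at h2
  exact h2.trans (Cfsg.Lib.Core.normal_iff_map_conj.mp hn _).le

end Cfsg.Agent.S2958
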