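import Cfsg.Statements.S2963
-- import your own Cfsg.Agent.* helpers here

set_option autoImplicit false
open Cfsg

namespace Cfsg.Agent.S2963

/-- Let n be odd. If the symmetric group of degree n is a minimal parabolic group for the prime 2, that is, a Sylow 2-subgroup is not normal and lies in exactly one maximal subgroup, then n = 2^m + 1 for some natural number m. -/
theorem result (n : ℕ) (hn : Odd n) (h : Cfsg.IsPMinimal 2 (Equiv.Perm (Fin n))) : ∃ m : ℕ, n = 2 ^ m + 1 := by
  classical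
  haveI : Fact (Nat.Prime 2) := ⟨Nat.prime_two⟩
  open scoped Pointwise in
  obtain ⟨S⟩ : Nonempty (Sylow 2 (Equiv.Perm (Fin n))) := inferInstance
  obtain ⟨hSn, M, ⟨hM, hSM⟩, huniq⟩ := h S
  have hn1 : n ≠ 1 := by
    rintro rfl
    refine hSn ⟨fun a ha g => ?_⟩
    rwa [show g * a * g⁻¹ = a from Subsingleton.elim _ _]
  have habove : ∀ H : Subgroup (Equiv.Perm (Fin n)), (S : Subgroup (Equiv.Perm (Fin n))) ≤ H → H ≠ ⊤ → H ≤ M := by
    intro H hSH hH
    obtain ⟨M', hM', hle⟩ := (eq_top_or_exists_le_coatom H).resolve_left hH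
    exact huniq M' ⟨hM', hSH.trans hle⟩ ▸ hle
  obtain ⟨x, hx⟩ := S.isPGroup'.nonempty_fixed_point_of_prime_not_dvd_card (Fin n)
    (by rw [Nat.card_fin]; exact Nat.two_dvd_ne_zero.mpr (Nat.odd_iff.mp hn))
  have hSx : (S : Subgroup (Equiv.Perm (Fin n))) ≤ MulAction.stabilizer (Equiv.Perm (Fin n)) x :=
    fun s hs => hx ⟨s, hs⟩
  obtain ⟨y, hy⟩ : ∃ y : Fin n, y ≠ x := by
    have hnp : 1 < n := by rcases hn with ⟨k, rfl⟩; omega
    haveI : Nontrivial (Fin n) := Fin.nontrivial_iff_two_le.mpr hnp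
    exact exists_ne x
  have hxM : MulAction.stabilizer (Equiv.Perm (Fin n)) x ≤ M := by
    refine habove _ hSx fun e => hy ?_
    have : Equiv.swap x y ∈ MulAction.stabilizer (Equiv.Perm (Fin n)) x := e ▸ Subgroup.mem_top _
    simpa using this
  set B := MulAction.orbit (S : Subgroup (Equiv.Perm (Fin n))) y with hB
  obtain ⟨j, hj⟩ := S.isPGroup'.card_orbit y
  refine ⟨j, ?_⟩
  by_contra hne
  -- another point outside the orbit
  have hxB : x ∉ B := fun hb => by
    obtain ⟨s, hs⟩ := hb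
    exact hy ((MulAction.injective s) (hs.trans (hx s).symm))
  obtain ⟨z, hzx, hzB⟩ : ∃ z, z ≠ x ∧ z ∉ B := by
    by_contra hc
    push Not at hc
    have e : B = {x}ᶜ := Set.ext fun w => ⟨fun hw hwx => hxB (hwx ▸ hw), fun hw => hc w hw⟩
    refine hne ?_
    have h1 : Nat.card B = n - 1 := by
      rw [e, Nat.card_coe_set_eq, Set.ncard_compl, Set.ncard_singleton, Nat.card_fin]
    have : n ≠ 0 := by rintro rfl; exact x.elim0
    rw [hB, hj] at h1
    omega
  have hBM : MulAction.stabilizer (Equiv.Perm (Fin n)) B ≤ M := by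
    refine habove _ (fun s hs => ?_) fun e => hzB ?_
    · exact MulAction.smul_orbit (⟨s, hs⟩ : (S : Subgroup (Equiv.Perm (Fin n)))) y
    · have h1 : Equiv.swap y z ∈ MulAction.stabilizer (Equiv.Perm (Fin n)) B := e ▸ Subgroup.mem_top _
      rw [MulAction.mem_stabilizer_iff] at h1
      rw [← h1]
      exact ⟨y, MulAction.mem_orbit_self y, by simp⟩
  have hxz : Equiv.swap x z ∈ M := by
    refine hBM (MulAction.mem_stabilizer_iff.mpr ?_)
    have hfix : ∀ w ∈ B, Equiv.swap x z w = w := fun w hw =>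
      Equiv.swap_apply_of_ne_of_ne (fun e => hxB (e ▸ hw)) (fun e => hzB (e ▸ hw))
    ext w
    constructor
    · rintro ⟨w', hw', rfl⟩
      show Equiv.swap x z w' ∈ B
      rw [hfix w' hw']; exact hw'
    · exact fun hw => ⟨w, hw, hfix w hw⟩
  refine hM.1 (eq_top_iff.mpr ?_)
  rw [← Equiv.Perm.closure_isSwap, Subgroup.closure_le]
  have hxy : ∀ a : Fin n, Equiv.swap x a ∈ M := by
    intro a
    by_cases hax : a = x
    · rw [hax, Equiv.swap_self]; exact one_mem M
    have h1 : Equiv.swap z a ∈ M := hxM (by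
      rw [MulAction.mem_stabilizer_iff, Equiv.Perm.smul_def]
      exact Equiv.swap_apply_of_ne_of_ne hzx.symm (Ne.symm hax))
    have h2 := mul_mem (mul_mem h1 hxz) (inv_mem h1)
    rw [← Equiv.swap_apply_apply] at h2
    rwa [Equiv.swap_apply_of_ne_of_ne hzx.symm (Ne.symm hax), Equiv.swap_apply_left] at h2
  rintro _ ⟨a, b, hab, rfl⟩
  by_cases hax : a = x
  · exact hax ▸ hxy b
  by_cases hbx : b = x
  · rw [Equiv.swap_comm]; exact hbx ▸ hxy a
  exact hxM (by
    rw [MulAction.mem_stabilizer_iff, Equiv.Perm.smul_def]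
    exact Equiv.swap_apply_of_ne_of_ne (Ne.symm hax) (Ne.symm hbx))

end Cfsg.Agent.S2963
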