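import Cfsg.Statements.S2971
import Cfsg.Agent.Lib.Local.Isolated
import Cfsg.Agent.Lib.PGroup.Noncyclic
import Cfsg.Agent.Lib.Core.Cores
-- import your own Cfsg.Agent.* helpers here

set_option autoImplicit false
open Cfsg

namespace Cfsg.Agent.S2971

/-- Let G be a finite group and p an odd prime such that G has p-rank at most 1 (no elementary abelian subgroup of order p²). If x ∈ G is an isolated element of order p, then x is central modulo the largest normal subgroup of G of order prime to p. -/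
theorem result {G : Type*} [Group G] [Finite G] {p : ℕ} [Fact p.Prime] (hp : p ≠ 2) (hrk : Cfsg.PRankLE p 1 G) (x : G) (hx : orderOf x = p) (hiso : Cfsg.IsIsolated x) : Cfsg.InZStar p x := by
  classical
  have hxp : ∃ k : ℕ, orderOf x = p ^ k := ⟨1, by rw [pow_one, hx]⟩
  have hx1 : x ≠ 1 := fun h => by
    rw [h, orderOf_one] at hx
    exact (Fact.out : p.Prime).one_lt.ne hx
  have hcyc : ∀ P : Sylow p G, IsCyclic ↥(P : Subgroup G) := by
    intro P
    by_contra hnc
    obtain ⟨E, -, ⟨hEc, hEp⟩, hEcard⟩ := Cfsg.Lib.PGroup.Noncyclic.exists_elemAb_sq hp P.2 ⊤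
      (fun h => hnc (isCyclic_of_surjective (Subgroup.topEquiv (G := ↥(P : Subgroup G))).toMonoidHom
        (MulEquiv.surjective _)))
    have h := hrk (E.map (P : Subgroup G).subtype) (by
      constructor
      constructor
      rintro ⟨_, a, ha, rfl⟩ ⟨_, b, hb, rfl⟩
      ext
      have := hEc.is_comm.comm ⟨a, ha⟩ ⟨b, hb⟩
      exact congrArg (fun t : E => ((t : ↥(P : Subgroup G)) : G)) this) (by
      rintro _ ⟨a, ha, rfl⟩
      rw [← map_pow, hEp a ha, map_one])
    rw [Subgroup.card_map_of_injective Subtype.val_injective, hEcard] at h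
    have := Nat.pow_lt_pow_right (Fact.out : p.Prime).one_lt (show 1 < 2 by norm_num)
    omega
  obtain ⟨P, N, hN, hc⟩ := Cfsg.Lib.Local.isolated_hasNormalPComplement hiso hxp hx1 hcyc
  intro g
  have hNcop : (Nat.card N).Coprime p := by
    rw [Nat.coprime_comm, (Fact.out : p.Prime).coprime_iff_not_dvd]
    rw [show Nat.card N = (P : Subgroup G).index from hc.index_eq_card.symm]
    exact P.not_dvd_index
  refine Cfsg.Lib.Core.le_pPrimeCore' hN hNcop ?_
  haveI := hN
  haveI : IsMulCommutative ↥(P : Subgroup G) := by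
    haveI := hcyc P
    exact IsCyclic.isMulCommutative
  have hsurj : Function.Surjective ((QuotientGroup.mk' N).comp (P : Subgroup G).subtype) := by
    intro y
    obtain ⟨y, rfl⟩ := QuotientGroup.mk'_surjective N y
    obtain ⟨⟨⟨n, hn⟩, ⟨q, hq⟩⟩, rfl⟩ := hc.2 y
    refine ⟨⟨q, hq⟩, ?_⟩
    simp [(QuotientGroup.eq_one_iff n).2 hn]
  rw [← QuotientGroup.eq_one_iff]
  obtain ⟨a, ha⟩ := hsurj (g : G ⧸ N)
  obtain ⟨b, hb⟩ := hsurj (x : G ⧸ N)
  rw [QuotientGroup.mk_mul, QuotientGroup.mk_mul, QuotientGroup.mk_mul, QuotientGroup.mk_inv,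
    QuotientGroup.mk_inv, ← ha, ← hb, ← map_inv, ← map_inv, ← map_mul, ← map_mul, ← map_mul,
    show a * b * a⁻¹ * b⁻¹ = 1 by rw [mul_comm' a b]; group, map_one]

end Cfsg.Agent.S2971
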