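import Cfsg.Statements.S2972
import Cfsg.Agent.Lib.Local.IsolatedMinimal
import Cfsg.Agent.Lib.Solv.Nilpotent
-- import your own Cfsg.Agent.* helpers here

set_option autoImplicit false
open Cfsg

namespace Cfsg.Agent.S2972
open scoped commutatorElement

/-- Let G be a finite group, p a prime and x ∈ G an isolated element of order p (the only conjugate of x commuting with x is x) which is not central modulo the largest normal subgroup of order prime to p, while x is central modulo the largest normal subgroup of order prime to p in every proper subgroup containing x, and the image of x is so in every quotient of G by a nontrivial normal subgroup (a minimal counterexample to the Z*_p statement). Then the derived subgroup G' is a non-abelian simple group and G = G'⟨x⟩. -/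
theorem result {G : Type*} [Group G] [Finite G] {p : ℕ} [Fact p.Prime] (x : G) (hx : orderOf x = p) (hiso : Cfsg.IsIsolated x) (hnz : ¬ Cfsg.InZStar p x) (hmin : ∀ (H : Subgroup G) (hxH : x ∈ H), H ≠ ⊤ → Cfsg.InZStar p (⟨x, hxH⟩ : ↥H)) (hquot : ∀ (N : Subgroup G) [N.Normal], N ≠ ⊥ → Cfsg.InZStar p (QuotientGroup.mk x : G ⧸ N)) : IsSimpleGroup ↥(commutator G) ∧ ¬ IsMulCommutative ↥(commutator G) ∧ commutator G ⊔ Subgroup.zpowers x = ⊤ := by
  classical
  have hO := Cfsg.Lib.Local.IsoMin.core_eq_bot hnz hquot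
  have hx1 : x ≠ 1 := fun h => (Fact.out : p.Prime).ne_one (by rw [← hx, h, orderOf_one])
  haveI : Nontrivial G := ⟨x, 1, hx1⟩
  obtain ⟨M, hM⟩ := Cfsg.Lib.Core.exists_isMinNormal_univ (G := G)
  haveI := hM.1
  obtain ⟨hpd, hB, hC⟩ := Cfsg.Lib.Local.IsoMin.minNormal hx hiso hnz hmin hquot hM
  have hxp : ∃ k : ℕ, orderOf x = p ^ k := ⟨1, by rw [hx, pow_one]⟩
  have hncomm : ¬ IsMulCommutative ↥M := by
    intro hab
    have hs : Group.IsSolvable M := Group.isSolvable_of_comm fun a b => hab.is_comm.comm a b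
    obtain ⟨-, r, hr, -, hrp⟩ := Cfsg.Lib.Core.minimal_solvable_elementary hM hs
    haveI := Fact.mk hr
    obtain ⟨k, hk⟩ := IsPGroup.iff_card.1 hrp
    rw [hk] at hpd
    rw [← (Nat.prime_dvd_prime_iff_eq Fact.out hr).1 ((Fact.out : p.Prime).dvd_of_dvd_pow hpd)] at hrp
    have htop : IsPGroup p ↥(⊤ : Subgroup G) := by
      rw [← hC]
      exact hrp.to_sup_of_normal_left (Cfsg.Lib.Local.isPGroup_zpowers hxp)
    exact Cfsg.Lib.Local.IsoMin.not_central hnz fun g => Subgroup.mem_centralizer_singleton_iff.1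
      (Cfsg.Lib.Local.isolated_le_centralizer hiso htop (Subgroup.mem_top x) (Subgroup.mem_top g))
  -- the derived group is `M`
  have hle : commutator G ≤ M := by
    refine Subgroup.Normal.quotient_commutative_iff_commutator_le.mp ⟨⟨fun a b => ?_⟩⟩
    have hgen : ∀ a : G ⧸ M, ∃ i : ℤ, a = (QuotientGroup.mk x : G ⧸ M) ^ i := by
      intro a
      obtain ⟨a, rfl⟩ := QuotientGroup.mk_surjective a
      obtain ⟨m, hm, t, ht, rfl⟩ := Subgroup.mem_sup_of_normal_left.1 (hC.symm ▸ Subgroup.mem_top a : a ∈ M ⊔ Subgroup.zpowers x)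
      obtain ⟨i, rfl⟩ := Subgroup.mem_zpowers_iff.1 ht
      exact ⟨i, by rw [QuotientGroup.mk_mul, (QuotientGroup.eq_one_iff m).2 hm, one_mul, QuotientGroup.mk_zpow]⟩
    obtain ⟨i, rfl⟩ := hgen a
    obtain ⟨j, rfl⟩ := hgen b
    rw [← zpow_add, ← zpow_add, add_comm]
  have heq : commutator G = M := by
    rcases hM.2.2 _ inferInstance hle with h | h
    · exfalso
      refine hncomm ⟨⟨fun a b => Subtype.ext ?_⟩⟩
      have h1 : ⁅(a : G), (b : G)⁆ ∈ commutator G :=
        Subgroup.commutator_mem_commutator (Subgroup.mem_top _) (Subgroup.mem_top _)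
      rw [h, Subgroup.mem_bot, commutatorElement_eq_one_iff_mul_comm] at h1
      exact h1
    · exact h
  rw [heq]
  refine ⟨?_, hncomm, hC⟩
  -- a minimal normal subgroup of `M` is normalized by `x`
  haveI : Nontrivial ↥M := (Subgroup.nontrivial_iff_ne_bot M).2 hM.2.1
  refine ⟨fun K hKn => ?_⟩
  by_contra hK
  push Not at hK
  obtain ⟨hKb, hKt⟩ := hK
  obtain ⟨K₀, hK₀, hK₀K⟩ := Cfsg.Lib.Core.exists_isMinNormal hKn hKb
  haveI := hK₀.1
  set J := K₀.map M.subtype with hJ
  have hJM : J ≤ M := Subgroup.map_subtype_le _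
  have hsn : J.IsSubnormal := by
    refine Subgroup.IsSubnormal.trans hJM ?_ (Subgroup.Normal.isSubnormal hM.1)
    rw [hJ, Subgroup.subgroupOf, Subgroup.comap_map_eq_self_of_injective M.subtype_injective]
    exact Subgroup.Normal.isSubnormal inferInstance
  have hpJ : p ∣ Nat.card J := by
    by_contra hnd
    refine hK₀.2.1 ((Subgroup.map_eq_bot_iff_of_injective _ M.subtype_injective).1 ?_)
    rw [eq_bot_iff, ← hO]
    exact Cfsg.Lib.Core.le_pPrimeCore_of_isSubnormal hsn ((Nat.Prime.coprime_iff_not_dvd Fact.out).2 hnd).symm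
  obtain ⟨S, hS⟩ := (Cfsg.Lib.Local.isPGroup_zpowers (p := p) hxp).exists_le_sylow
  have hSJ : (S : Subgroup G) ⊓ J ≠ ⊥ := by
    intro e
    have h1 := Cfsg.Lib.Solv.not_dvd_relIndex_of_isSubnormal S hsn
    rw [← Subgroup.inf_relIndex_right, e, Subgroup.relIndex_bot_left] at h1
    exact h1 hpJ
  have hxJ : J.map (MulAut.conj x).toMonoidHom = J := by
    set J' := J.map (MulAut.conj x).toMonoidHom with hJ'
    have hJ'M : J' ≤ M := by
      rintro _ ⟨j, hj, rfl⟩; exact hM.1.conj_mem j (hJM hj) x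
    haveI hn' : (J'.subgroupOf M).Normal := ⟨fun a ha m => by
      obtain ⟨j, hj, e⟩ := Subgroup.mem_subgroupOf.1 ha
      obtain ⟨j, hj, rfl⟩ := hj
      refine Subgroup.mem_subgroupOf.2 ?_
      have hm' : x⁻¹ * m * x ∈ M := by simpa using hM.1.conj_mem m m.2 x⁻¹
      have h2 := hK₀.1.conj_mem j hj ⟨_, hm'⟩
      refine ⟨_, ⟨_, h2, rfl⟩, ?_⟩
      simp only [Subgroup.coe_mul, InvMemClass.coe_inv, ← e]
      simp [mul_assoc]⟩
    obtain ⟨y, hy, hy1⟩ := (Subgroup.bot_or_exists_ne_one _).resolve_left hSJ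
    have hcomm : x * y = y * x :=
      (Subgroup.mem_centralizer_singleton_iff.1 (Cfsg.Lib.Local.isolated_le_centralizer hiso S.2 (hS (Subgroup.mem_zpowers x)) hy.1)).symm
    have hy' : y ∈ J' := ⟨y, hy.2, by simp [hcomm]⟩
    rcases hK₀.2.2 _ (inferInstance : (J'.subgroupOf M ⊓ K₀).Normal) inf_le_right with h | h
    · exfalso
      have h2 : (⟨y, hJM hy.2⟩ : ↥M) ∈ J'.subgroupOf M ⊓ K₀ := by
        refine ⟨hy', ?_⟩
        obtain ⟨j, hj, e⟩ := hy.2
        rwa [show (⟨y, hJM hy.2⟩ : ↥M) = j from Subtype.ext e.symm]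
      rw [h, Subgroup.mem_bot] at h2
      exact hy1 (congrArg Subtype.val h2)
    · have hle2 : J ≤ J' := by
        rintro _ ⟨j, hj, rfl⟩
        exact (h.ge hj).1
      exact (Subgroup.eq_of_le_of_card_ge hle2 (Subgroup.card_map_of_injective (MulAut.conj x).injective).le).symm
  have htop : J.Normal := by
    rw [← Subgroup.normalizer_eq_top_iff, eq_top_iff, ← hC]
    refine sup_le ?_ (Subgroup.zpowers_le.2 (Cfsg.Lib.Core.mem_normalizer_iff_map_conj.2 hxJ))
    refine Cfsg.Lib.Core.le_normalizer_iff_conj_mem.mpr ?_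
    rintro m hm _ ⟨j, hj, rfl⟩
    exact ⟨_, hK₀.1.conj_mem j hj ⟨m, hm⟩, rfl⟩
  rcases hM.2.2 J htop hJM with h | h
  · exact hK₀.2.1 ((Subgroup.map_eq_bot_iff_of_injective _ M.subtype_injective).1 h)
  · refine hKt (eq_top_iff.2 ?_)
    refine le_trans ?_ hK₀K
    intro m _
    obtain ⟨j, hj, e⟩ := h.ge m.2
    rwa [show m = j from Subtype.ext e.symm]

end Cfsg.Agent.S2972
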