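import Cfsg.Statements.S2975
import Cfsg.Agent.Lib.Local.IsolatedMinimal
import Cfsg.Agent.Lib.Coprime.Action
-- import your own Cfsg.Agent.* helpers here

set_option autoImplicit false
open Cfsg

namespace Cfsg.Agent.S2975

/-- Let G be a finite group, p a prime and x ∈ G an isolated element of order p (the only conjugate of x commuting with x is x) which is not central modulo the largest normal subgroup of order prime to p, while x is central modulo the largest normal subgroup of order prime to p in every proper subgroup containing x, and the image of x is so in every quotient of G by a nontrivial normal subgroup (a minimal counterexample to the Z*_p statement). Then for every prime q, every q-subgroup of G that is normalized by x and maximal among the q-subgroups normalized by x is either trivial or a Sylow q-subgroup of G; and C_G(x) permutes the x-invariant Sylow q-subgroups of G transitively by conjugation. -/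
theorem result {G : Type*} [Group G] [Finite G] {p : ℕ} [Fact p.Prime] (x : G) (hx : orderOf x = p) (hiso : Cfsg.IsIsolated x) (hnz : ¬ Cfsg.InZStar p x) (hmin : ∀ (H : Subgroup G) (hxH : x ∈ H), H ≠ ⊤ → Cfsg.InZStar p (⟨x, hxH⟩ : ↥H)) (hquot : ∀ (N : Subgroup G) [N.Normal], N ≠ ⊥ → Cfsg.InZStar p (QuotientGroup.mk x : G ⧸ N)) (q : ℕ) [Fact q.Prime] : (∀ Q : Subgroup G, IsPGroup q ↥Q → x ∈ Subgroup.normalizer (Q : Set G) → (∀ R : Subgroup G, IsPGroup q ↥R → x ∈ Subgroup.normalizer (R : Set G) → Q ≤ R → R = Q) → Q = ⊥ ∨ ∃ S : Sylow q G, (S : Subgroup G) = Q) ∧ (∀ S₁ S₂ : Sylow q G, x ∈ Subgroup.normalizer ((S₁ : Subgroup G) : Set G) → x ∈ Subgroup.normalizer ((S₂ : Subgroup G) : Set G) → ∃ c ∈ Subgroup.centralizer ({x} : Set G), (S₁ : Subgroup G).map (MulAut.conj c).toMonoidHom = (S₂ : Subgroup G)) := by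
  classical
  have hO := Cfsg.Lib.Local.IsoMin.core_eq_bot hnz hquot
  have hxp : ∃ k : ℕ, orderOf x = p ^ k := ⟨1, by rw [hx, pow_one]⟩
  have hZ : IsPGroup p (Subgroup.zpowers x) := Cfsg.Lib.Local.isPGroup_zpowers hxp
  constructor
  · intro Q hQ hxQ hmax
    rw [or_iff_not_imp_left]
    intro hQ1
    rcases eq_or_ne q p with rfl | hqp
    · have h1 : IsPGroup q ↥(Q ⊔ Subgroup.zpowers x) :=
        hQ.to_sup_of_normal_left' hZ (Subgroup.zpowers_le.2 hxQ)
      have h2 := hmax _ h1 (Subgroup.le_normalizer (Subgroup.mem_sup_right (Subgroup.mem_zpowers x))) le_sup_left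
      have hxQ' : x ∈ Q := h2 ▸ Subgroup.mem_sup_right (Subgroup.mem_zpowers x)
      obtain ⟨S, hS⟩ := hQ.exists_le_sylow
      exact ⟨S, hmax _ S.2 (Subgroup.le_normalizer (hS hxQ')) hS⟩
    set H := Subgroup.normalizer (Q : Set G) with hH
    have hHt : H ≠ ⊤ := by
      intro e
      haveI : Q.Normal := Subgroup.normalizer_eq_top_iff.1 e
      refine hQ1 ?_
      rw [eq_bot_iff, ← hO]
      obtain ⟨k, hk⟩ := IsPGroup.iff_card.1 hQ
      exact Cfsg.Lib.Core.le_pPrimeCore (hk ▸ ((Nat.coprime_primes Fact.out Fact.out).2 hqp).pow_left k)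
    set O := (Cfsg.pPrimeCore p ↥H).map H.subtype with hOH
    have hOle : O ≤ H := Subgroup.map_subtype_le _
    have hHO : H ≤ Subgroup.normalizer (O : Set G) := Cfsg.Lib.Core.le_normalizer_iff_conj_mem.mpr
      fun h hh _ ⟨o, ho, e⟩ => e ▸ ⟨_, (inferInstance : (Cfsg.pPrimeCore p ↥H).Normal).conj_mem o ho ⟨h, hh⟩, rfl⟩
    obtain ⟨R⟩ : Nonempty (Sylow q ↥H) := inferInstance
    set R' := (R : Subgroup ↥H).map H.subtype with hR'
    have hRH : R' ≤ H := Subgroup.map_subtype_le _
    set W := R' ⊔ O with hW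
    have hWH : W ≤ H := sup_le hRH hOle
    have hxW : Subgroup.zpowers x ≤ Subgroup.normalizer (W : Set G) := by
      have hgen : ∀ w ∈ W, x * w * x⁻¹ ∈ W := by
        intro w hw
        have h1 := Cfsg.Lib.Local.IsoMin.comm_mem hmin hxQ hHt (hWH hw)
        have e : x * w * x⁻¹ = (w * x * w⁻¹ * x⁻¹)⁻¹ * w := by group
        rw [e]
        exact W.mul_mem (W.inv_mem (Subgroup.mem_sup_right h1)) hw
      exact Subgroup.zpowers_le.2 (Subgroup.mem_normalizer_fintype hgen)
    have hRc : (Nat.card R').Coprime p := by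
      obtain ⟨k, hk⟩ := IsPGroup.iff_card.1 (R.2.map H.subtype : IsPGroup q ↥R')
      exact hk ▸ ((Nat.coprime_primes Fact.out Fact.out).2 hqp).pow_left k
    have hOc : (Nat.card O).Coprime p := by
      rw [hOH, Subgroup.card_map_of_injective H.subtype_injective]
      exact Cfsg.Lib.Core.pPrimeCore_coprime p H
    have hWc : (Nat.card W).Coprime p := by
      rw [hW, hR', hOH, ← Subgroup.map_sup, Subgroup.card_map_of_injective H.subtype_injective]
      refine Cfsg.Lib.Core.coprime_card_sup ?_ (Cfsg.Lib.Core.pPrimeCore_coprime p H)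
      obtain ⟨k, hk⟩ := IsPGroup.iff_card.1 (R.2 : IsPGroup q (R : Subgroup ↥H))
      exact hk ▸ ((Nat.coprime_primes Fact.out Fact.out).2 hqp).pow_left k
    have hcop : (Nat.card (Subgroup.zpowers x)).Coprime (Nat.card W) := by
      rw [Nat.card_zpowers, hx]; exact hWc.symm
    have hsol : Group.IsSolvable ↥(Subgroup.zpowers x) := by
      have := hZ.isNilpotent; infer_instance
    obtain ⟨P, hP⟩ := Cfsg.Lib.Coprime.exists_invariant_sylow hxW hcop (Or.inl hsol) q
    set P' := (P : Subgroup ↥W).map W.subtype with hP'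
    have hcardP : Nat.card R' ≤ Nat.card P' := by
      obtain ⟨T, hT⟩ := ((R.2.map H.subtype).comap_of_injective W.subtype W.subtype_injective :
        IsPGroup q ↥(R'.subgroupOf W)).exists_le_sylow
      have h1 := Subgroup.card_le_of_le (show R'.subgroupOf W ≤ (T : Subgroup ↥W) from hT)
      rw [Nat.card_congr (Subgroup.subgroupOfEquivOfLe (le_sup_left : R' ≤ W)).toEquiv,
        Nat.card_congr (Sylow.equiv T P).toEquiv] at h1
      rwa [hP', Subgroup.card_map_of_injective W.subtype_injective]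
    have hQP : Q ≤ P' := by
      have hp' : IsPGroup q ↥P' := P.2.map _
      have h1 : IsPGroup q ↥(Q ⊔ P') := hQ.to_sup_of_normal_left' hp' ((Subgroup.map_subtype_le _).trans hWH)
      have hle : Q ⊔ P' ≤ H := sup_le Subgroup.le_normalizer ((Subgroup.map_subtype_le _).trans hWH)
      obtain ⟨T, hT⟩ := (h1.comap_of_injective H.subtype H.subtype_injective :
        IsPGroup q ↥((Q ⊔ P').subgroupOf H)).exists_le_sylow
      have h2 := Subgroup.card_le_of_le (show (Q ⊔ P').subgroupOf H ≤ (T : Subgroup ↥H) from hT)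
      rw [Nat.card_congr (Subgroup.subgroupOfEquivOfLe hle).toEquiv, Nat.card_congr (Sylow.equiv T R).toEquiv,
        ← Subgroup.card_map_of_injective (K := (R : Subgroup ↥H)) H.subtype_injective] at h2
      exact le_sup_left.trans (Subgroup.eq_of_le_of_card_ge le_sup_right (h2.trans hcardP)).ge
    have hQeq : P' = Q := hmax P' (P.2.map _) (hP (Subgroup.mem_zpowers x)) hQP
    obtain ⟨S, hS⟩ := hQ.exists_le_sylow
    refine ⟨S, ?_⟩
    by_contra hne
    have hlt : Q < (S : Subgroup G) := lt_of_le_of_ne hS (Ne.symm hne)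
    have h3 := Cfsg.Lib.Fusion.lt_inf_normalizer S.2 hlt
    obtain ⟨T, hT⟩ := ((S.2 : IsPGroup q (S : Subgroup G)).to_le (inf_le_left : (S : Subgroup G) ⊓ H ≤ _)).comap_of_injective
      H.subtype H.subtype_injective |>.exists_le_sylow
    have h4 := Subgroup.card_le_of_le (show ((S : Subgroup G) ⊓ H).subgroupOf H ≤ (T : Subgroup ↥H) from hT)
    rw [Nat.card_congr (Subgroup.subgroupOfEquivOfLe (inf_le_right : (S : Subgroup G) ⊓ H ≤ H)).toEquiv,
      Nat.card_congr (Sylow.equiv T R).toEquiv, ← Subgroup.card_map_of_injective (K := (R : Subgroup ↥H)) H.subtype_injective] at h4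
    have h5 := Cfsg.Lib.Fusion.card_lt_card_of_lt h3
    rw [hQeq] at hcardP
    exact absurd (h5.trans_le (h4.trans hcardP)) (lt_irrefl _)
  · intro S₁ S₂ h₁ h₂
    obtain ⟨g, rfl⟩ := MulAction.exists_smul_eq G S₁ S₂
    set K := Subgroup.normalizer ((S₁ : Subgroup G) : Set G) with hK
    have hy : g⁻¹ * x * g⁻¹⁻¹ ∈ K := by
      rw [Sylow.coe_subgroup_smul] at h₂
      rw [inv_inv]
      refine Subgroup.mem_normalizer_fintype fun s hs => ?_
      have h3 := (Subgroup.mem_normalizer_iff.1 h₂ (g * s * g⁻¹)).1 ⟨s, hs, rfl⟩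
      obtain ⟨s', hs', e⟩ := h3
      have e' : g * s' * g⁻¹ = x * (g * s * g⁻¹) * x⁻¹ := e
      have : g⁻¹ * x * g * s * (g⁻¹ * x * g)⁻¹ = s' := by
        rw [show g⁻¹ * x * g * s * (g⁻¹ * x * g)⁻¹ = g⁻¹ * (x * (g * s * g⁻¹) * x⁻¹) * g by group, ← e']
        group
      rw [this]; exact hs'
    obtain ⟨k, hk, he⟩ := Cfsg.Lib.Local.isolated_exists_conj hiso hxp h₁ hy
    refine ⟨g * k⁻¹, Subgroup.mem_centralizer_singleton_iff.2 ?_, ?_⟩
    · rw [← mul_inv_eq_iff_eq_mul]
      conv_lhs => rw [← he]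
      group
    · have e1 : (S₁ : Subgroup G).map (MulAut.conj k⁻¹).toMonoidHom = S₁ :=
        Cfsg.Lib.Core.map_conj_eq_of_mem_normalizer (K.inv_mem hk)
      rw [Cfsg.Lib.Core.map_conj_mul, e1, Sylow.coe_subgroup_smul]
      rfl

end Cfsg.Agent.S2975
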