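import Cfsg.Statements.S2989
import Cfsg.Agent.Lib.Local.Baumann.LargeMain

set_option autoImplicit false
open Cfsg

namespace Cfsg.Agent.S2989

/-- Let G be a finite group and S a Sylow p-subgroup of G in the basic pushing-up situation (G ≠ 1, C_G(O_p(G)) ≤ O_p(G), S lies in a unique maximal subgroup of G, and some quotient of G is isomorphic to PSL₂ over a field of order a power of p), and suppose that S centralizes Z(J(S)), where J(S) is generated by the abelian subgroups of S of largest order (that is, J̃(S) = C_S(Z(J(S))) = S). Call a subgroup R of S centrally large if |R|·|Z(R)| is as large as possible among subgroups of S, and let S_Φ be the subgroup generated by the Frattini subgroups Φ(Q) of those minimal centrally large subgroups Q of S whose Ω₁(Z(Q)) has the largest order among minimal centrally large subgroups. Then Z(S) or S_Φ is normal in G; and if S_Φ = 1, the minimal centrally large subgroups of S are exactly the abelian subgroups of S of largest order, and at least one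 of them is elementary abelian. -/
theorem result {G : Type*} [Group G] [Finite G] {p : ℕ} [Fact p.Prime] (S : Subgroup G) (hE : Cfsg.IsPushingUpSituation p S) (hJ : S ≤ Subgroup.centralizer (Cfsg.centerThompsonAOf S : Set G)) : ((S ⊓ Subgroup.centralizer (S : Set G)).Normal ∨ ((Cfsg.frattiniOfMinimalCLJoin p ↥S).map S.subtype).Normal) ∧ (Cfsg.frattiniOfMinimalCLJoin p ↥S = ⊥ → (∀ Q : Subgroup ↥S, Cfsg.IsMinimalCentrallyLarge Q ↔ Q ∈ Cfsg.maxAbelianSubgroups ↥S) ∧ ∃ A ∈ Cfsg.maxAbelianSubgroups ↥S, Cfsg.IsElementaryAbelian p A) := by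
  refine ⟨?_, fun h0 => ?_⟩
  · obtain ⟨P, K, _, F, _, _, n, rfl, h⟩ := Cfsg.Lib.Local.Baumann.exists_hyp hE
    rw [Cfsg.Lib.Local.Baumann.map_frattiniJoin P.isPGroup']
    exact h.frattini_normal hJ
  · obtain ⟨-, ⟨P, rfl⟩, -, -, -⟩ := hE
    have hS : IsPGroup p ↥(P : Subgroup G) := P.isPGroup'
    obtain ⟨Q, hQ, hQm⟩ := Nat.sSup_mem (s := {k : ℕ | ∃ Q : Subgroup ↥(P : Subgroup G),
        Cfsg.IsMinimalCentrallyLarge Q ∧ Nat.card ↥(Cfsg.omegaOneCenter p Q) = k})
      (by obtain ⟨Q, hQ⟩ := Cfsg.Lib.Local.CLarge.exists_minimal_cl (P := ↥(P : Subgroup G))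
          exact ⟨_, Q, hQ, rfl⟩)
      ⟨Nat.card ↥(P : Subgroup G), by rintro k ⟨Q, -, rfl⟩; exact Subgroup.card_le_card_group _⟩
    have hphi : frattini ↥Q = ⊥ := by
      have hle : (frattini ↥Q).map Q.subtype ≤ Cfsg.frattiniOfMinimalCLJoin p ↥(P : Subgroup G) :=
        le_iSup (fun R : {R : Subgroup ↥(P : Subgroup G) // Cfsg.IsMinimalCentrallyLarge R ∧
          Nat.card ↥(Cfsg.omegaOneCenter p R) = Cfsg.maxOmegaCenterOfMinimalCL p ↥(P : Subgroup G)} =>
            (frattini ↥(R : Subgroup ↥(P : Subgroup G))).map (R : Subgroup ↥(P : Subgroup G)).subtype)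
          ⟨Q, hQ, hQm⟩
      rw [h0, le_bot_iff, Subgroup.map_eq_bot_iff_of_injective _ Q.subtype_injective] at hle
      exact hle
    have hc : commutator ↥Q = ⊥ := le_bot_iff.1 (hphi ▸ Cfsg.Lib.PGroup.commutator_le_frattini (hS.to_subgroup Q))
    have hab : ∀ a b : ↥Q, a * b = b * a := fun a b => by
      have := Subgroup.commutator_mem_commutator (Subgroup.mem_top a) (Subgroup.mem_top b)
      rw [← commutator_def, hc, Subgroup.mem_bot, commutatorElement_eq_one_iff_mul_comm] at this
      exact this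
    have hD : ⁅Q, Q⁆ = ⊥ := by
      rw [Subgroup.commutator_eq_bot_iff_le_centralizer]
      exact fun a ha => Subgroup.mem_centralizer_iff.2 fun b hb => congrArg Subtype.val (hab ⟨b, hb⟩ ⟨a, ha⟩)
    refine ⟨fun R => Cfsg.Lib.Local.Baumann.minimal_iff_maxAbelian hQ hD R, Q,
      (Cfsg.Lib.Local.Baumann.minimal_iff_maxAbelian hQ hD Q).1 hQ, ⟨⟨hab⟩⟩, fun a ha => ?_⟩
    have hpow := Cfsg.Lib.PGroup.pow_mem_frattini (hS.to_subgroup Q) (⟨a, ha⟩ : ↥Q)
    rw [hphi, Subgroup.mem_bot] at hpow
    exact congrArg Subtype.val hpow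

end Cfsg.Agent.S2989
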