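import Cfsg.Statements.S2998
import Cfsg.Agent.Lib.Local.Isolated
import Cfsg.Agent.Lib.Local.Sylow
-- import your own Cfsg.Agent.* helpers here

set_option autoImplicit false
open Cfsg

namespace Cfsg.Agent.S2998

/-- Let G be a finite group, p a prime, P a Sylow p-subgroup of G and x ∈ P an element such that N_G(R) ≤ C_G(x) for every nontrivial subgroup R of P. Then P ≤ C_G(x); every G-conjugate of x lying in P equals x (so g ∈ C_G(x) whenever g x g⁻¹ ∈ P); and for every normal subgroup N of G, the image of x in G ⧸ N has the same property with respect to the image of P: the normalizer of every nontrivial subgroup of the image of P centralizes the image of x. -/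
theorem result {G : Type*} [Group G] [Finite G] {p : ℕ} [Fact p.Prime] (P : Sylow p G) (x : G) (hxP : x ∈ (P : Subgroup G)) (hlc : ∀ R : Subgroup G, R ≤ (P : Subgroup G) → R ≠ ⊥ → Subgroup.normalizer (R : Set G) ≤ Subgroup.centralizer ({x} : Set G)) : (P : Subgroup G) ≤ Subgroup.centralizer ({x} : Set G) ∧ (∀ g : G, g * x * g⁻¹ ∈ (P : Subgroup G) → g * x * g⁻¹ = x) ∧ ∀ (N : Subgroup G) [N.Normal], ∀ R : Subgroup (G ⧸ N), R ≤ (P : Subgroup G).map (QuotientGroup.mk' N) → R ≠ ⊥ → Subgroup.normalizer (R : Set (G ⧸ N)) ≤ Subgroup.centralizer ({(QuotientGroup.mk x : G ⧸ N)} : Set (G ⧸ N)) := by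
  have hPC : (P : Subgroup G) ≤ Subgroup.centralizer ({x} : Set G) := by
    intro y hy
    by_cases hb : (P : Subgroup G) = ⊥
    · rw [hb, Subgroup.mem_bot] at hy
      rw [hy]
      exact one_mem _
    exact hlc _ le_rfl hb (Subgroup.le_normalizer hy)
  refine ⟨hPC, fun g hg => ?_, ?_⟩
  · by_cases hx1 : x = 1
    · simp [hx1]
    have hle : Subgroup.zpowers x ≤ (P : Subgroup G) := Subgroup.zpowers_le.mpr hxP
    obtain ⟨l, hl, he⟩ := Lib.Fusion.alperin P (Subgroup.zpowers x) g⁻¹ hle (by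
      rw [Lib.Fusion.conjR, inv_inv, MonoidHom.map_zpowers]
      exact Subgroup.zpowers_le.mpr hg)
    have h := Lib.Local.chain_commute hx1 hlc (Subgroup.mem_zpowers x) hl
    rw [he] at h
    have h2 : Commute g x := Commute.inv_left_iff.mp h
    rw [h2.eq, mul_inv_cancel_right]
  intro N _ R hR hR1 c hc
  obtain ⟨g, rfl⟩ := QuotientGroup.mk'_surjective N c
  set f := QuotientGroup.mk' N with hf
  set R₁ := R.comap f
  set R₀ := (P : Subgroup G) ⊓ R₁
  have hR₀ : R₀.map f = R := by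
    refine le_antisymm (Subgroup.map_le_iff_le_comap.mpr inf_le_right) fun y hy => ?_
    obtain ⟨z, hz, rfl⟩ := hR hy
    exact ⟨z, ⟨hz, hy⟩, rfl⟩
  have hR₀1 : R₀ ≠ ⊥ := fun h => hR1 (by rw [← hR₀, h, Subgroup.map_bot])
  have hdecomp : ∀ y ∈ R₁, ∃ a ∈ R₀, ∃ m ∈ N, y = a * m := by
    intro y hy
    obtain ⟨z, hz, hzy⟩ := hR₀.ge (show f y ∈ R from hy)
    exact ⟨z, hz, z⁻¹ * y, QuotientGroup.eq.mp hzy, by group⟩
  have hS : ¬ p ∣ R₀.relIndex R₁ := by
    have hNR : N ≤ R₁ := fun y hy => by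
      show f y ∈ R
      rw [show f y = 1 from (QuotientGroup.eq_one_iff y).mpr hy]
      exact one_mem R
    have h1 : R₀ ⊔ N = R₁ := le_antisymm (sup_le inf_le_right hNR) fun y hy => by
      obtain ⟨a, ha, m, hm, rfl⟩ := hdecomp y hy
      exact Subgroup.mul_mem_sup ha hm
    have h2 := Lib.Core.card_mul_relIndex (H := R₀) (K := R₁) inf_le_right
    have h3 := Lib.Core.card_mul_relIndex (H := R₀ ⊓ N) (K := R₀) inf_le_left
    have h4 := Lib.Core.card_mul_relIndex (H := N) (K := R₁) hNR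
    have h5 := Lib.Core.card_mul_relIndex (H := R₀ ⊓ N) (K := N) inf_le_right
    rw [Subgroup.inf_relIndex_left] at h3
    rw [Subgroup.inf_relIndex_right] at h5
    have h6 : N.relIndex R₁ = N.relIndex R₀ := by rw [← h1, Subgroup.relIndex_sup_right]
    rw [h6, ← h5, mul_comm (Nat.card _) (R₀.relIndex N), mul_assoc, h3, mul_comm (R₀.relIndex N)] at h4
    rw [Nat.eq_of_mul_eq_mul_left Nat.card_pos (h2.trans h4.symm)]
    intro hd
    apply Lib.Local.not_dvd_relIndex_of_normal P N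
    have h7 : R₀.relIndex N = (P : Subgroup G).relIndex N := by
      rw [← Subgroup.inf_relIndex_right R₀ N, inf_assoc, inf_eq_right.mpr hNR,
        Subgroup.inf_relIndex_right]
    rwa [← h7]
  have hgn : g ∈ Subgroup.normalizer (R₁ : Set G) := by
    rw [Subgroup.mem_normalizer_iff]
    intro y
    show f y ∈ R ↔ f (g * y * g⁻¹) ∈ R
    rw [map_mul, map_mul, map_inv]
    exact Subgroup.mem_normalizer_iff.mp hc (f y)
  have hR₀p : IsPGroup p ↥(R₀.subgroupOf R₁) :=
    ((P.2.to_le inf_le_left : IsPGroup p ↥R₀)).comap_of_injective R₁.subtype R₁.subtype_injective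
  let S : Sylow p ↥R₁ := hR₀p.toSylow (by exact hS)
  set R₂ := R₀.map (MulAut.conj g).toMonoidHom
  have hR₂le : R₂ ≤ R₁ := by
    rintro _ ⟨y, hy, rfl⟩
    exact (Subgroup.mem_normalizer_iff.mp hgn y).mp hy.2
  obtain ⟨T, hT⟩ := (((P.2.to_le inf_le_left : IsPGroup p ↥R₀).map (MulAut.conj g).toMonoidHom).of_equiv
    (Subgroup.subgroupOfEquivOfLe hR₂le).symm).exists_le_sylow
  obtain ⟨r, hr⟩ := MulAction.exists_smul_eq (↥R₁) T S
  have hrg : (r : G) * g ∈ Subgroup.normalizer (R₀ : Set G) := by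
    refine Lib.Fusion.le_normalizer_of_conj_mem fun y hy => ?_
    have hy2 : g * y * g⁻¹ ∈ R₂ := ⟨y, hy, rfl⟩
    have h1 : r * ⟨g * y * g⁻¹, hR₂le hy2⟩ * r⁻¹ ∈ (S : Subgroup ↥R₁) := by
      rw [← hr]
      exact ⟨_, hT hy2, rfl⟩
    have h2 : (r : G) * (g * y * g⁻¹) * (r : G)⁻¹ ∈ R₀ := h1
    have e : (r : G) * g * y * ((r : G) * g)⁻¹ = (r : G) * (g * y * g⁻¹) * (r : G)⁻¹ := by group
    rw [e]
    exact h2
  have h3 := Subgroup.mem_centralizer_singleton_iff.mp (hlc R₀ inf_le_left hR₀1 hrg)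
  obtain ⟨a, ha, m, hm, ham⟩ := hdecomp r r.2
  have h4 := Subgroup.mem_centralizer_singleton_iff.mp (hPC ha.1)
  have h5 : f (r : G) * f x = f x * f (r : G) := by
    rw [ham, map_mul f a m, (QuotientGroup.eq_one_iff m).mpr hm |> fun h => (show f m = 1 from h),
      mul_one, ← map_mul, ← map_mul, h4]
  have h6 := congrArg f h3
  simp only [map_mul] at h6
  refine Subgroup.mem_centralizer_singleton_iff.mpr ?_
  calc f g * f x = (f (r : G))⁻¹ * (f r * f g * f x) := by group
    _ = (f (r : G))⁻¹ * (f x * (f r * f g)) := by rw [h6]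
    _ = (f (r : G))⁻¹ * (f x * f r) * f g := by group
    _ = f x * f g := by rw [← h5]; group

end Cfsg.Agent.S2998
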