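import Cfsg.Statements.S2999
import Cfsg.Agent.Lib.Local.OffenderPairModule
import Cfsg.Agent.Lib.Local.Sylow
import Cfsg.Agent.Lib.Core.Cores

set_option autoImplicit false
open Cfsg

namespace Cfsg.Agent.S2999

/-- Let p be a prime and let P and V be subgroups of a finite group with V elementary abelian, P normalizing V and acting faithfully on it (P ∩ C(V) = 1). Suppose P is p-minimal (a Sylow p-subgroup T of P is not normal and lies in a unique maximal subgroup M of P) and A ≤ T is an elementary abelian subgroup such that: |V/C_V(A)| ≤ |A| while |A₀|·|C_V(A₀)| < |A|·|C_V(A)| for every nontrivial proper subgroup A₀ of A; [C_V(T), P] ≠ 1; and P = ⟨A, xAx⁻¹⟩ for every x ∈ P outside M. Then, with q = |A|, there is a field F with q elements such that P ≅ SL₂(F), C_V(A) = [V, A]·C_V(P), and P acts on V/C_V(P) as SL₂(F) on its natural two-dimensional module. -/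
theorem result {G : Type*} [Group G] [Finite G] {p : ℕ} [Fact p.Prime] (V P : Subgroup G) (hV : Cfsg.IsElementaryAbelian p V) (hPV : P ≤ Subgroup.normalizer (V : Set G)) (hfaith : P ⊓ Subgroup.centralizer (V : Set G) = ⊥) (hmin : Cfsg.IsPMinimal p ↥P) (T : Sylow p ↥P) (M : Subgroup ↥P) (hM : IsCoatom M) (hTM : (T : Subgroup ↥P) ≤ M) (A : Subgroup G) (hAT : A ≤ ((T : Subgroup ↥P).map P.subtype)) (hAel : Cfsg.IsElementaryAbelian p A) (hi : Nat.card ↥V ≤ Nat.card ↥A * Nat.card ↥(V ⊓ Subgroup.centralizer ((A : Subgroup G) : Set G)) ∧ ∀ A₀ : Subgroup G, A₀ ≤ A → A₀ ≠ ⊥ → A₀ ≠ A → Nat.card ↥A₀ * Nat.card ↥(V ⊓ Subgroup.centralizer ((A₀ : Subgroup G) : Set G)) < Nat.card ↥A * Nat.card ↥(V ⊓ Subgroup.centralizer ((A : Subgroup G) : Set G))) (hii : ⁅(V ⊓ Subgroup.centralizer ((((T : Subgroup ↥P).map P.subtype) : Subgroup G) : Set G)), P⁆ ≠ ⊥) (hiii : ∀ x : ↥P, x ∉ M → A ⊔ A.map (MulAut.conj (x : G)).toMonoidHom = P) : ∃ (F : Type) (_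 : Field F) (_ : Fintype F), Fintype.card F = Nat.card ↥A ∧ Nonempty (↥P ≃* Matrix.SpecialLinearGroup (Fin 2) F) ∧ (V ⊓ Subgroup.centralizer ((A : Subgroup G) : Set G)) = ⁅V, A⁆ ⊔ (V ⊓ Subgroup.centralizer ((P : Subgroup G) : Set G)) ∧ Cfsg.ActsAsSL2OnSection F ⊤ P V (V ⊓ Subgroup.centralizer ((P : Subgroup G) : Set G)) := by
  classical
  set K := M.normalCore with hK
  set R' : Subgroup ↥P := (T : Subgroup ↥P) ⊓ K with hR'
  have hR'T : R' ≤ (T : Subgroup ↥P) := inf_le_left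
  -- `T ∩ core M` is normal
  have hnorm : R'.Normal := by
    obtain ⟨S, hS⟩ := Cfsg.Lib.Local.exists_sylow_inf T K
    have hfr := Sylow.normalizer_sup_eq_top S
    rw [hS, Subgroup.subgroupOf_map_subtype, ← hR'] at hfr
    rw [← Subgroup.normalizer_eq_top_iff]
    by_contra htop
    have hTN : (T : Subgroup ↥P) ≤ Subgroup.normalizer (R' : Set ↥P) := by
      refine Cfsg.Lib.Core.le_normalizer_iff_conj_mem.2 fun t ht r hr => ⟨?_, ?_⟩
      · exact Subgroup.mul_mem _ (Subgroup.mul_mem _ ht hr.1) (Subgroup.inv_mem _ ht)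
      · exact (Subgroup.normalCore_normal M).conj_mem r hr.2 t
    obtain ⟨M', hM', hNM'⟩ := (eq_top_or_exists_le_coatom _).resolve_left htop
    obtain ⟨-, M₀, -, huniq⟩ := hmin T
    have : M' = M := (huniq M' ⟨hM', hTN.trans hNM'⟩).trans (huniq M ⟨hM, hTM⟩).symm
    subst this
    exact hM.1 (top_le_iff.1 (hfr.ge.trans (sup_le hNM' (Subgroup.normalCore_le M'))))
  have hMP : M.map P.subtype < P := by
    refine lt_of_le_of_ne (Subgroup.map_subtype_le M) fun e => hM.1 ?_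
    apply Subgroup.map_injective P.subtype_injective
    rw [e, ← MonoidHom.range_eq_map, Subgroup.range_subtype]
  have hmemM : ∀ {x : G} (hx : x ∈ P), x ∈ M.map P.subtype ↔ (⟨x, hx⟩ : ↥P) ∈ M := fun {x} hx =>
    ⟨fun ⟨y, hy, e⟩ => by rwa [show (⟨x, hx⟩ : ↥P) = y from Subtype.ext e.symm], fun h => ⟨_, h, rfl⟩⟩
  have hdata : Cfsg.Lib.Local.OffenderPair.Data p V P A (M.map P.subtype)
      ((T : Subgroup ↥P).map P.subtype) (R'.map P.subtype) := by
    refine ⟨hV, hPV, hfaith, hMP, Subgroup.map_mono hTM, hAT, hAel, hi.1, hi.2, ?_,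
      fun x hx hxM => hiii ⟨x, hx⟩ fun h => hxM ((hmemM hx).2 h), Subgroup.map_mono hR'T, ?_, ?_⟩
    · by_contra hno
      refine hii (Subgroup.commutator_eq_bot_iff_le_centralizer.2 fun v hv => ?_)
      by_contra hv'
      exact hno ⟨v, Subgroup.mem_inf.2 ⟨hv.1, Subgroup.centralizer_le (by exact_mod_cast hAT) hv.2⟩,
        Subgroup.centralizer_le (by exact_mod_cast Subgroup.map_mono hR'T) hv.2, fun h' => hv' h'.2⟩
    · refine Cfsg.Lib.Core.le_normalizer_iff_conj_mem.2 ?_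
      rintro g hg _ ⟨r, hr, rfl⟩
      exact ⟨_, hnorm.conj_mem r hr ⟨g, hg⟩, rfl⟩
    · rintro _ ⟨a, ha, rfl⟩ hall
      refine ⟨a, ⟨ha, fun b => ?_⟩, rfl⟩
      by_cases hb : b ∈ M
      · exact mul_mem (mul_mem hb (hTM ha)) (inv_mem hb)
      · have hb' : ((b⁻¹ : ↥P) : G) ∉ M.map P.subtype := fun h =>
          hb (inv_mem_iff.1 ((hmemM (b⁻¹ : ↥P).2).1 h))
        have := hall _ (b⁻¹ : ↥P).2 hb'
        have h2 := (hmemM (Subgroup.mul_mem P (Subgroup.mul_mem P (Subgroup.inv_mem P (b⁻¹ : ↥P).2) a.2)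
          (b⁻¹ : ↥P).2)).1 this
        convert h2 using 1
        exact Subtype.ext (by simp)
  obtain ⟨F, hF, hFt, h1, h2, h3, h4⟩ := hdata.exists_natural fun N hN hNp =>
    Subgroup.map_mono ((Cfsg.Lib.Core.le_pCore' hN hNp).trans (Cfsg.Lib.Core.pCore_le_sylow T))
  exact ⟨F, hF, hFt, h1, h2, h3, h4⟩

end Cfsg.Agent.S2999
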