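import Cfsg.Statements.S3003
import Cfsg.Agent.Lib.Local.WeaklyClosed
import Cfsg.Agent.Lib.Coprime.Generation
-- import your own Cfsg.Agent.* helpers here

set_option autoImplicit false
open Cfsg

namespace Cfsg.Agent.S3003

/-- Let G be a finite group, p a prime and Q a large p-subgroup of G: C_G(Q) ≤ Q and N_G(U) ≤ N_G(Q) for every nontrivial subgroup U of C_G(Q). Let Q ≤ G₁ ≤ G, let R be a subgroup of order prime to p normalized by G₁, and let U ≤ G₁ be a p-subgroup. If U contains a nontrivial element which is G₁-conjugate to an element of Z(Q), then C_R(U) = 1. In particular, if U is elementary abelian of order at least p² and every maximal subgroup of U contains a nontrivial element G₁-conjugate into Z(Q), then R = 1. -/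
theorem result {G : Type*} [Group G] [Finite G] {p : ℕ} [Fact p.Prime] (Q : Subgroup G) (hQp : IsPGroup p ↥Q) (hlarge : Cfsg.IsLarge Q) (G₁ : Subgroup G) (hQG : Q ≤ G₁) (R : Subgroup G) (hR : (Nat.card ↥R).Coprime p) (hGR : G₁ ≤ Subgroup.normalizer (R : Set G)) (U : Subgroup G) (hUG : U ≤ G₁) (hUp : IsPGroup p ↥U) : ((∃ x ∈ U, x ≠ 1 ∧ ∃ g ∈ G₁, g * x * g⁻¹ ∈ Q ⊓ Subgroup.centralizer (Q : Set G)) → R ⊓ Subgroup.centralizer (U : Set G) = ⊥) ∧ (Cfsg.IsElementaryAbelian p U → p ^ 2 ≤ Nat.card ↥U → (∀ U₀ : Subgroup G, U₀ ≤ U → IsCoatom (U₀.subgroupOf U) → ∃ x ∈ U₀, x ≠ 1 ∧ ∃ g ∈ G₁, g * x * g⁻¹ ∈ Q ⊓ Subgroup.centralizer (Q : Set G)) → R = ⊥) := by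
  have key : ∀ x ∈ G₁, x ≠ 1 → (∃ g ∈ G₁, g * x * g⁻¹ ∈ Q ⊓ Subgroup.centralizer (Q : Set G)) →
      R ⊓ Subgroup.centralizer ({x} : Set G) = ⊥ := by
    rintro x - hx1 ⟨g, hg, hz⟩
    have h := Lib.Local.inf_centralizer_eq_bot_of_mem_center hQp hlarge hR (hQG.trans hGR) hz
      (fun h => hx1 (by simpa using h))
    rw [eq_bot_iff] at h ⊢
    intro r hr
    have h2 : g * r * g⁻¹ ∈ R ⊓ Subgroup.centralizer ({g * x * g⁻¹} : Set G) := by
      refine ⟨(Subgroup.mem_normalizer_iff.mp (hGR hg) r).mp hr.1, ?_⟩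
      refine Subgroup.mem_centralizer_singleton_iff.mpr ?_
      have := Subgroup.mem_centralizer_singleton_iff.mp hr.2
      calc g * r * g⁻¹ * (g * x * g⁻¹) = g * (r * x) * g⁻¹ := by group
        _ = g * (x * r) * g⁻¹ := by rw [this]
        _ = g * x * g⁻¹ * (g * r * g⁻¹) := by group
    have h3 := Subgroup.mem_bot.mp (h h2)
    exact Subgroup.mem_bot.mpr (by simpa using h3)
  refine ⟨fun ⟨x, hxU, hx1, hx⟩ => ?_, fun hU hcard hmax => ?_⟩
  · rw [eq_bot_iff, ← key x (hUG hxU) hx1 hx]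
    exact inf_le_inf_left _ (Subgroup.centralizer_le (Set.singleton_subset_iff.mpr hxU))
  haveI : IsMulCommutative ↥U := hU.1
  have hcop : (Nat.card ↥U).Coprime (Nat.card ↥R) := by
    obtain ⟨n, hn⟩ := IsPGroup.iff_card.mp hUp
    rw [hn]
    exact hR.symm.pow_left n
  rw [← Lib.Coprime.iSup_centralizer_cocyclic_eq (hUG.trans hGR) hcop]
  simp only [iSup_eq_bot]
  intro B hB
  obtain ⟨hBU, a, ha, hBa⟩ := hB
  obtain ⟨U₀, hU₀, hle⟩ : ∃ U₀ : Subgroup ↥U, IsCoatom U₀ ∧
      ∀ x ∈ U₀, (x : G) ∈ B ∨ B = U := by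
    by_cases hBeq : B = U
    · haveI : Nontrivial ↥U := Finite.one_lt_card_iff_nontrivial.mp (lt_of_lt_of_le
        (Nat.one_lt_pow (by norm_num) (Fact.out : p.Prime).one_lt) hcard)
      obtain ⟨U₀, h1, -⟩ := (eq_top_or_exists_le_coatom (⊥ : Subgroup ↥U)).resolve_left bot_ne_top
      exact ⟨U₀, h1, fun _ _ => Or.inr hBeq⟩
    refine ⟨B.subgroupOf U, ?_, fun x hx => Or.inl hx⟩
    have hidx : B.relIndex U ∣ p := by
      have h1 : B.subgroupOf U ⊔ Subgroup.zpowers (⟨a, ha⟩ : ↥U) = ⊤ := by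
        apply Subgroup.map_injective U.subtype_injective
        rw [Subgroup.map_sup, Subgroup.map_subgroupOf_eq_of_le hBU, MonoidHom.map_zpowers,
          ← MonoidHom.range_eq_map, Subgroup.range_subtype]
        exact hBa
      have hd : Nat.card ↥(Subgroup.zpowers (⟨a, ha⟩ : ↥U)) ∣ p := by
        rw [Nat.card_zpowers]
        exact orderOf_dvd_of_pow_eq_one (hU.2 _ ha |> fun h => Subtype.ext (by simpa using h))
      haveI : (B.subgroupOf U).Normal := inferInstance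
      have h2 := Lib.Core.card_sup_dvd_mul (Subgroup.zpowers (⟨a, ha⟩ : ↥U)) (B.subgroupOf U)
      rw [sup_comm, h1, Subgroup.card_top, ← (B.subgroupOf U).card_mul_index,
        mul_comm (Nat.card ↥(Subgroup.zpowers _))] at h2
      exact ((Nat.mul_dvd_mul_iff_left Nat.card_pos).mp h2).trans hd
    have hne : B.subgroupOf U ≠ ⊤ := fun h => hBeq (le_antisymm hBU (Subgroup.subgroupOf_eq_top.mp h))
    have hp' : (B.subgroupOf U).index = p :=
      ((Nat.dvd_prime Fact.out).mp hidx).resolve_left (fun h => hne (Subgroup.index_eq_one.mp h))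
    refine ⟨hne, fun K hK => ?_⟩
    have h4 := Subgroup.relIndex_mul_index hK.le
    rw [hp'] at h4
    rcases (Nat.dvd_prime Fact.out).mp (Dvd.intro_left _ h4) with h5 | h5
    · exact Subgroup.index_eq_one.mp h5
    · exfalso
      have h6 : (B.subgroupOf U).relIndex K = 1 :=
        mul_right_cancel₀ (Fact.out : p.Prime).ne_zero (by rw [one_mul]; rw [h5] at h4; exact h4)
      exact hK.not_ge (Subgroup.relIndex_eq_one.mp h6)
  obtain ⟨x, hx, hx1, hg⟩ := hmax (U₀.map U.subtype) (Subgroup.map_subtype_le _) (by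
    rwa [← Subgroup.comap_map_eq_self_of_injective U.subtype_injective U₀] at hU₀)
  obtain ⟨y, hy, rfl⟩ := hx
  have hyB : (y : G) ∈ B := (hle y hy).elim id (fun h => h ▸ y.2)
  rw [eq_bot_iff, ← key _ (hUG y.2) hx1 hg]
  exact inf_le_inf_left _ (Subgroup.centralizer_le (Set.singleton_subset_iff.mpr hyB))

end Cfsg.Agent.S3003
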