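import Cfsg.Statements.S3006
import Cfsg.Agent.Lib.Local.CentrallyLarge
-- import your own Cfsg.Agent.* helpers here

set_option autoImplicit false
open scoped Pointwise
open Cfsg

namespace Cfsg.Agent.S3006

/-- Let P be a finite p-group, Q a centrally large subgroup of P (|Q|·|Z(Q)| maximal among subgroups of P) and A an abelian subgroup of P of largest order. Then QA = AQ is a centrally large subgroup of P, C_{QA}(Q ∩ A) = Z(Q)·A, and the subgroup generated by all centrally large subgroups of P contains C_P(Z(J(P))), where J(P) is generated by the abelian subgroups of largest order. -/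
theorem result {p : ℕ} [Fact p.Prime] (P : Type*) [Group P] [Finite P] (hP : IsPGroup p P) (Q A : Subgroup P) (hQ : Cfsg.IsCentrallyLarge Q) (hA : A ∈ Cfsg.maxAbelianSubgroups P) : ((Q ⊔ A : Subgroup P) : Set P) = (Q : Set P) * (A : Set P) ∧ Cfsg.IsCentrallyLarge (Q ⊔ A) ∧ (Q ⊔ A) ⊓ Subgroup.centralizer ((Q ⊓ A : Subgroup P) : Set P) = (Q ⊓ Subgroup.centralizer (Q : Set P)) ⊔ A ∧ (((Q ⊓ Subgroup.centralizer (Q : Set P)) ⊔ A : Subgroup P) : Set P) = ((Q ⊓ Subgroup.centralizer (Q : Set P)) : Set P) * (A : Set P) ∧ Subgroup.centralizer ((Cfsg.thompsonSubgroupA P ⊓ Subgroup.centralizer (Cfsg.thompsonSubgroupA P : Set P) : Subgroup P) : Set P) ≤ Cfsg.centrallyLargeJoin P := by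
  classical
  open Cfsg.Lib.Local.CLarge in
  open scoped Pointwise in
  obtain ⟨hcl, hprod, hB⟩ := cl_sup_maxAbelian hQ hA
  set Z := Q ⊓ Subgroup.centralizer (Q : Set P) with hZ
  set D := Q ⊓ A with hD
  set B := Z ⊔ D with hBdef
  have hBC : Subgroup.centralizer (B : Set P) = B := centralizer_maxAbelian hB
  have hDA : D ≤ A := inf_le_right
  have hAc : ∀ a ∈ A, ∀ d ∈ D, d * a = a * d := fun a ha d hd =>
    (congrArg Subtype.val (hA.1.is_comm.comm ⟨d, hDA hd⟩ ⟨a, ha⟩) :)
  have hZD : Z ≤ Subgroup.centralizer (D : Set P) := fun z hz =>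
    Subgroup.mem_centralizer_iff.2 fun d hd => zc_comm hz hd.1
  have hAD : A ≤ Subgroup.centralizer (D : Set P) := fun a ha => Subgroup.mem_centralizer_iff.2 (hAc a ha)
  -- every element of the centralizer is a product
  have hmul : ∀ x ∈ (Q ⊔ A) ⊓ Subgroup.centralizer (D : Set P), ∃ z ∈ Z, ∃ a ∈ A, z * a = x := by
    intro x hx
    have hx1 : x ∈ ((Q ⊔ A : Subgroup P) : Set P) := hx.1
    rw [hprod] at hx1
    obtain ⟨q, hq, a, ha, rfl⟩ := hx1
    have hqC : q ∈ Subgroup.centralizer (D : Set P) := by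
      have := (Subgroup.centralizer (D : Set P)).mul_mem hx.2 ((Subgroup.centralizer (D : Set P)).inv_mem (hAD ha))
      simpa using this
    have hqB : q ∈ B := by
      rw [← hBC, hBdef, centralizer_sup]
      exact ⟨Subgroup.mem_centralizer_iff.2 fun z hz => (zc_comm hz hq).symm, hqC⟩
    have hZn : Z ≤ Subgroup.normalizer (D : Set P) := hZD.trans (Subgroup.centralizer_le_normalizer _)
    obtain ⟨z, hz, d, hd, rfl⟩ := (Cfsg.Lib.Core.mem_sup_of_le_normalizer hZn).1 hqB
    exact ⟨z, hz, d * a, A.mul_mem (hDA hd) ha, (mul_assoc z d a).symm⟩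
  have hle : Z ⊔ A ≤ (Q ⊔ A) ⊓ Subgroup.centralizer (D : Set P) :=
    le_inf (sup_le_sup_right inf_le_left _) (sup_le hZD hAD)
  refine ⟨hprod, hcl, le_antisymm (fun x hx => ?_) hle, ?_, ?_⟩
  · obtain ⟨z, hz, a, ha, rfl⟩ := hmul x hx
    exact Subgroup.mul_mem_sup hz ha
  · refine Set.Subset.antisymm (fun x hx => ?_) ?_
    · obtain ⟨z, hz, a, ha, rfl⟩ := hmul x (hle hx)
      exact ⟨z, hz, a, ha, rfl⟩
    · rintro x ⟨z, hz, a, ha, rfl⟩
      exact Subgroup.mul_mem_sup hz ha
  · refine (centralizer_le_sup hQ).1.trans (sup_le (le_sSup hQ) (sSup_le fun A' hA' => ?_))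
    exact le_sup_right.trans (le_sSup (cl_sup_maxAbelian hQ hA').1)

end Cfsg.Agent.S3006
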