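import Cfsg.Statements.S3007
import Cfsg.Agent.Lib.Local.CentrallyLarge
-- import your own Cfsg.Agent.* helpers here

set_option autoImplicit false
open Cfsg

namespace Cfsg.Agent.S3007

/-- Let P be a finite p-group and Q, R minimal centrally large subgroups of P (centrally large: |Q|·|Z(Q)| maximal among subgroups of P; minimal among such under inclusion). Then Q = (Q ∩ R)·Z(Q), the derived subgroups [Q, Q] and [R, R] coincide, |Q| = |R| and |Z(Q)| = |Z(R)|; and if Q is abelian then the minimal centrally large subgroups of P are exactly the abelian subgroups of P of largest order. -/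
theorem result {p : ℕ} [Fact p.Prime] (P : Type*) [Group P] [Finite P] (hP : IsPGroup p P) (Q R : Subgroup P) (hQ : Cfsg.IsMinimalCentrallyLarge Q) (hR : Cfsg.IsMinimalCentrallyLarge R) : (Q ⊓ R) ⊔ (Q ⊓ Subgroup.centralizer (Q : Set P)) = Q ∧ ⁅Q, Q⁆ = ⁅R, R⁆ ∧ Nat.card ↥Q = Nat.card ↥R ∧ Nat.card ↥(Q ⊓ Subgroup.centralizer (Q : Set P)) = Nat.card ↥(R ⊓ Subgroup.centralizer (R : Set P)) ∧ (IsMulCommutative ↥Q → ∀ X : Subgroup P, Cfsg.IsMinimalCentrallyLarge X ↔ X ∈ Cfsg.maxAbelianSubgroups P) := by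
  classical
  open Cfsg.Lib.Local.CLarge in
  have hc := commutator_eq_inf hQ hR.1
  have hc' := commutator_eq_inf hR hQ.1
  rw [inf_comm R Q] at hc'
  obtain ⟨h1, h2⟩ := card_minimal_eq hQ hR
  refine ⟨inf_sup_zc hQ hR.1, hc.trans hc'.symm, h1, h2, fun hab X => ⟨fun hX => ?_, fun hX => (maxAbelian_of_abelian hQ hab hX).1⟩⟩
  have e := commutator_eq_inf hX hQ.1
  have e' := commutator_eq_inf hQ hX.1
  rw [inf_comm Q X] at e'
  have hX' : ⁅X, X⁆ = ⊥ := by
    rw [e, ← e', Cfsg.Lib.Core.commutator_eq_bot_iff_forall]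
    exact fun x hx y hy => (congrArg Subtype.val (hab.is_comm.comm ⟨x, hx⟩ ⟨y, hy⟩) :)
  have hXc : IsMulCommutative ↥X :=
    ⟨⟨fun a b => Subtype.ext (Cfsg.Lib.Core.commutator_eq_bot_iff_forall.1 hX' a a.2 b b.2)⟩⟩
  obtain ⟨A, hA⟩ := exists_maxAbelian (P := P)
  refine ⟨hXc, fun B hB => (hA.2 B hB).trans ?_⟩
  rw [(maxAbelian_of_abelian hQ hab hA).2, (card_minimal_eq hX hQ).1]

end Cfsg.Agent.S3007
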