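import Cfsg.Statements.S3008
import Cfsg.Agent.S3007
import Cfsg.Agent.Lib.Local.CentrallyLargeReplacement
-- import your own Cfsg.Agent.* helpers here

set_option autoImplicit false
open Cfsg

namespace Cfsg.Agent.S3008

open Subgroup

/-- Let P be a finite p-group, with J(P) generated by its abelian subgroups of largest order and J̃(P) = C_P(Z(J(P))); call R ≤ P centrally large if |R|·|Z(R)| is as large as possible, and let P_MCL be generated by the minimal centrally large subgroups. Then: for every centrally large Q, Q·J(P) ⊇ J̃(P); some minimal centrally large subgroup of P is normalized by both J(P) and P_MCL; if P = J(P) and d(P)² = |P|·|Z(P)|, where d(P) is the largest order of an abelian subgroup, then every minimal centrally large subgroup of P is abelian; and if every minimal centrally large subgroup is abelian then J̃(P) = J(P). -/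
theorem result {p : ℕ} [Fact p.Prime] (P : Type*) [Group P] [Finite P] (hP : IsPGroup p P) : (∀ Q : Subgroup P, Cfsg.IsCentrallyLarge Q → Subgroup.centralizer ((Cfsg.thompsonSubgroupA P ⊓ Subgroup.centralizer (Cfsg.thompsonSubgroupA P : Set P) : Subgroup P) : Set P) ≤ Q ⊔ Cfsg.thompsonSubgroupA P) ∧ (∃ Q : Subgroup P, Cfsg.IsMinimalCentrallyLarge Q ∧ Cfsg.thompsonSubgroupA P ≤ Subgroup.normalizer (Q : Set P) ∧ Cfsg.minimalCentrallyLargeJoin P ≤ Subgroup.normalizer (Q : Set P)) ∧ (Cfsg.thompsonSubgroupA P = ⊤ → (∀ A ∈ Cfsg.maxAbelianSubgroups P, Nat.card ↥A ^ 2 = Nat.card P * Nat.card ↥(Subgroup.center P)) → ∀ Q : Subgroup P, Cfsg.IsMinimalCentrallyLarge Q → IsMulCommutative ↥Q) ∧ ((∀ Q : Subgroup P, Cfsg.IsMinimalCentrallyLarge Q → IsMulCommutative ↥Q) → Subgroup.centralizer ((Cfsg.thompsonSubgroupA P ⊓ Subgroup.centralizer (Cfsg.thompsonSubgroupA P : Set P) : Subgroup P) : Set P) = Cfsg.thompsonSubgroupA P) := by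
  classical
  open Cfsg.Lib.Local.CLarge in
  haveI : Group.IsNilpotent P := hP.isNilpotent
  refine ⟨fun Q hQ => (centralizer_le_sup hQ).1, ?_, ?_, ?_⟩
  · obtain ⟨Q, hQ, hn⟩ := exists_minimal_normalized (P := P)
    refine ⟨Q, hQ, sSup_le hn, sSup_le fun R hR => ?_⟩
    obtain ⟨A, hA⟩ := exists_maxAbelian (P := P)
    have hB := (cl_sup_maxAbelian hR.1 hA).2.2
    have hz : zc R ≤ Subgroup.normalizer (Q : Set P) := le_sup_left.trans (hn _ hB)
    rw [← inf_sup_zc hR hQ.1]
    exact sup_le (inf_le_right.trans Subgroup.le_normalizer) hz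
  · intro hJ hd Q hQ
    obtain ⟨A, hA⟩ := exists_maxAbelian (P := P)
    obtain ⟨R, hR⟩ := exists_cl (P := P)
    have hTop : Cfsg.IsCentrallyLarge (⊤ : Subgroup P) := by
      have := (centralizer_le_sup hR).2
      rwa [hJ, sup_top_eq] at this
    have hzA : zc A = A := inf_eq_left.2 fun y hy =>
      Subgroup.mem_centralizer_iff.2 fun w hw => commute_of_comm hA.1 hw hy
    have hzT : zc (⊤ : Subgroup P) = Subgroup.center P := by
      simp [zc, Subgroup.centralizer_univ]
    have hAcl : Cfsg.IsCentrallyLarge A := by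
      have h1 : Nat.card P * Nat.card ↥(Subgroup.center P) = Cfsg.maxCentralProduct P := by
        have := hTop
        unfold Cfsg.IsCentrallyLarge at this
        rwa [card_zc, hzT, Subgroup.card_top] at this
      unfold Cfsg.IsCentrallyLarge
      rw [card_zc, hzA, ← h1, ← hd A hA, sq]
    obtain ⟨X, ⟨hX, hXA⟩, hmin⟩ := Set.Finite.exists_minimal
      (s := {Y : Subgroup P | Cfsg.IsCentrallyLarge Y ∧ Y ≤ A}) (Set.toFinite _) ⟨A, hAcl, le_rfl⟩
    have hXmin : Cfsg.IsMinimalCentrallyLarge X :=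
      ⟨hX, fun Y hY hYc => le_antisymm hY (hmin ⟨hYc, hY.trans hXA⟩ hY)⟩
    have hXab : IsMulCommutative ↥X :=
      ⟨⟨fun a b => Subtype.ext (commute_of_comm hA.1 (hXA a.2) (hXA b.2))⟩⟩
    exact (((Cfsg.Agent.S3007.result P hP X X hXmin hXmin).2.2.2.2 hXab Q).1 hQ).1
  · intro hab
    obtain ⟨Q, hQ⟩ := exists_minimal_cl (P := P)
    obtain ⟨A, hA⟩ := exists_maxAbelian (P := P)
    have h1 := (centralizer_le_sup (maxAbelian_of_abelian hQ (hab Q hQ) hA).1.1).1
    rw [sup_eq_right.2 (show A ≤ Cfsg.thompsonSubgroupA P from le_sSup hA)] at h1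
    exact le_antisymm h1 (Subgroup.le_centralizer_iff.1 inf_le_right)

end Cfsg.Agent.S3008
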