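import Cfsg.Statements.S3009
import Cfsg.Agent.Lib.Local.SLTwoConjAction

set_option autoImplicit false
open Cfsg

namespace Cfsg.Agent.S3009

open scoped Pointwise commutatorElement

/-- Let p be a prime and let G and V be subgroups of a finite group with V elementary abelian and normalized by G, and G isomorphic to SL₂(F) for a finite field F with pⁿ elements. Suppose G acts irreducibly and nontrivially on V by conjugation (no G-invariant subgroups of V other than 1 and V, and [V, G] ≠ 1), and let S be a Sylow p-subgroup of G and V₀ = C_V(S). If [V, S, S] = 1 or |V| ≤ |V₀|², then G acts on V as SL₂(F) on its natural two-dimensional module; in particular |V| = |F|². -/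
theorem result {X : Type*} [Group X] [Finite X] {p : ℕ} [Fact p.Prime] (G V : Subgroup X) (hV : Cfsg.IsElementaryAbelian p V) (hGV : G ≤ Subgroup.normalizer (V : Set X)) (F : Type) [Field F] [Fintype F] (n : ℕ) (hF : Fintype.card F = p ^ n) (hG : Nonempty (↥G ≃* Matrix.SpecialLinearGroup (Fin 2) F)) (hirr : ∀ U : Subgroup X, U ≤ V → G ≤ Subgroup.normalizer (U : Set X) → U = ⊥ ∨ U = V) (hnt : ⁅V, G⁆ ≠ ⊥) (S : Sylow p ↥G) (hyp : ⁅⁅V, (S : Subgroup ↥G).map G.subtype⁆, (S : Subgroup ↥G).map G.subtype⁆ = ⊥ ∨ Nat.card ↥V ≤ Nat.card ↥(V ⊓ Subgroup.centralizer (((S : Subgroup ↥G).map G.subtype : Subgroup X) : Set X)) ^ 2) : Cfsg.ActsAsSL2OnSection F ⊤ G V ⊥ := by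
  classical
  have hp : p.Prime := Fact.out
  haveI := hV.1
  obtain ⟨e₀⟩ := hG
  have hn : n ≠ 0 := by
    rintro rfl
    rw [pow_zero] at hF
    exact absurd hF (Fintype.one_lt_card (α := F)).ne'
  obtain ⟨p', hp'⟩ := CharP.exists F
  obtain ⟨k, hk', hk⟩ := FiniteField.card F p'
  have hpp : p = p' := by
    have hd : p ∣ p' ^ (k : ℕ) := by rw [← hk, hF]; exact dvd_pow_self p hn
    exact (Nat.prime_dvd_prime_iff_eq hp hk').1 (hp.dvd_of_dvd_pow hd)
  subst hpp
  obtain ⟨P, hP⟩ : ∃ P : Sylow p (Matrix.SpecialLinearGroup (Fin 2) F),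
      (P : Subgroup (Matrix.SpecialLinearGroup (Fin 2) F)) = (S : Subgroup ↥G).map e₀.toMonoidHom :=
    ⟨S.mapSurjective (f := e₀.toMonoidHom) e₀.surjective, rfl⟩
  obtain ⟨g₀, hg₀⟩ := Cfsg.Lib.Linear.Two.exists_conj_UT p P
  obtain ⟨e, he⟩ : ∃ e : ↥G ≃* Matrix.SpecialLinearGroup (Fin 2) F, e = e₀.trans (MulAut.conj g₀)⁻¹ := ⟨_, rfl⟩
  have hSe : (S : Subgroup ↥G).map e.toMonoidHom = Cfsg.Lib.Linear.Two.UT F := by
    rw [he, show (e₀.trans (MulAut.conj g₀)⁻¹).toMonoidHom =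
      ((MulAut.conj g₀)⁻¹).toMonoidHom.comp e₀.toMonoidHom from rfl, ← Subgroup.map_map, ← hP, hg₀]
    exact inv_smul_smul (MulAut.conj g₀) _
  set T : Subgroup X := (S : Subgroup ↥G).map G.subtype with hT
  have hmemT : ∀ x : X, x ∈ T ↔ ∃ a, ((e.symm (Cfsg.Lib.Linear.SLTwoNatural.u a) : ↥G) : X) = x := by
    intro x
    constructor
    · rintro ⟨s, hs, rfl⟩
      obtain ⟨a, ha⟩ : e s ∈ Cfsg.Lib.Linear.Two.UT F := hSe ▸ Subgroup.mem_map_of_mem _ hs
      refine ⟨a.toAdd, ?_⟩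
      rw [show Cfsg.Lib.Linear.SLTwoNatural.u a.toAdd = e s from ha, e.symm_apply_apply]; rfl
    · rintro ⟨a, rfl⟩
      obtain ⟨s, hs, hse⟩ : Cfsg.Lib.Linear.SLTwoNatural.u a ∈ (S : Subgroup ↥G).map e.toMonoidHom :=
        hSe ▸ ⟨Multiplicative.ofAdd a, rfl⟩
      refine ⟨s, hs, ?_⟩
      rw [show e.symm (Cfsg.Lib.Linear.SLTwoNatural.u a) = s by rw [← hse]; exact e.symm_apply_apply s]
      rfl
  obtain ⟨ρ, hρ⟩ : ∃ ρ, ρ = Cfsg.Lib.Local.conjRep G V hGV e.symm.toMonoidHom := ⟨_, rfl⟩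
  have hfix : ∀ z : Cfsg.Lib.Local.ConjModule V, z ∈ Cfsg.Lib.Linear.SLTwoNatural.fixU ρ ↔
      (z.toMul : X) ∈ Subgroup.centralizer (T : Set X) := by
    intro z
    rw [Cfsg.Lib.Linear.SLTwoNatural.mem_fixU, Subgroup.mem_centralizer_iff]
    constructor
    · intro h x hx
      obtain ⟨a, rfl⟩ := (hmemT x).1 hx
      have := congrArg (fun v : Cfsg.Lib.Local.ConjModule V => (v.toMul : X)) (h a)
      rw [hρ, Cfsg.Lib.Local.conjRep_apply] at this
      exact mul_inv_eq_iff_eq_mul.1 this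
    · intro h a
      refine Additive.toMul.injective (Subtype.ext ?_)
      rw [hρ, Cfsg.Lib.Local.conjRep_apply]
      exact mul_inv_eq_iff_eq_mul.2 (h _ ((hmemT _).2 ⟨a, rfl⟩))
  have hM : ∀ z : Cfsg.Lib.Local.ConjModule V, p • z = 0 := Cfsg.Lib.Local.conjModule_nsmul V hV
  have hirr' : ∀ K : AddSubgroup (Cfsg.Lib.Local.ConjModule V),
      (∀ g : Matrix.SpecialLinearGroup (Fin 2) F, ∀ z ∈ K, ρ g z ∈ K) → K = ⊥ ∨ K = ⊤ := by
    intro K hK
    let U : Subgroup X := (AddSubgroup.toSubgroup' K).map V.subtype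
    have hUV : U ≤ V := Subgroup.map_subtype_le _
    have hkey : ∀ g ∈ G, ∀ x ∈ U, g * x * g⁻¹ ∈ U := by
      rintro g hg _ ⟨v, hv, rfl⟩
      have hm := hK (e ⟨g, hg⟩) (Additive.ofMul v) hv
      refine ⟨_, hm, ?_⟩
      show ((ρ (e ⟨g, hg⟩) (Additive.ofMul v)).toMul : X) = _
      rw [hρ, Cfsg.Lib.Local.conjRep_apply]
      simp
    have hUG : G ≤ Subgroup.normalizer (U : Set X) := by
      intro g hg
      rw [Subgroup.mem_normalizer_iff]
      refine fun x => ⟨hkey g hg x, fun hx => ?_⟩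
      have := hkey g⁻¹ (inv_mem hg) _ hx
      rwa [show g⁻¹ * (g * x * g⁻¹) * g⁻¹⁻¹ = x by group] at this
    rcases hirr U hUV hUG with h | h
    · left
      refine le_bot_iff.1 fun z hz => AddSubgroup.mem_bot.2 ?_
      have : (z.toMul : X) ∈ U := ⟨z.toMul, hz, rfl⟩
      rw [h, Subgroup.mem_bot] at this
      exact Additive.toMul.injective (Subtype.ext this)
    · right
      refine top_le_iff.1 fun z _ => ?_
      obtain ⟨v, hv, e'⟩ : (z.toMul : X) ∈ U := h.symm ▸ z.toMul.2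
      have hvz : z = Additive.ofMul v := Additive.toMul.injective (Subtype.ext e'.symm)
      rw [hvz]; exact hv
  have hnt' : ∃ g z, ρ g z ≠ z := by
    by_contra hcon
    push Not at hcon
    refine hnt (Subgroup.commutator_eq_bot_iff_le_centralizer.2 fun v hv => ?_)
    rw [Subgroup.mem_centralizer_iff]
    intro g hg
    have := congrArg (fun z : Cfsg.Lib.Local.ConjModule V => (z.toMul : X))
      (hcon (e ⟨g, hg⟩) (Additive.ofMul ⟨v, hv⟩))
    rw [hρ, Cfsg.Lib.Local.conjRep_apply] at this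
    simp only [toMul_ofMul, MulEquiv.coe_toMonoidHom, MulEquiv.symm_apply_apply] at this
    exact mul_inv_eq_iff_eq_mul.1 this
  have hyp' : (∀ a z, ρ (Cfsg.Lib.Linear.SLTwoNatural.u a) z - z ∈ Cfsg.Lib.Linear.SLTwoNatural.fixU ρ) ∨
      Nat.card (Cfsg.Lib.Local.ConjModule V) ≤ Nat.card (Cfsg.Lib.Linear.SLTwoNatural.fixU ρ) ^ 2 := by
    rcases hyp with h | h
    · left
      intro a z
      rw [Subgroup.commutator_eq_bot_iff_le_centralizer] at h
      refine (hfix _).2 (h ?_)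
      have hc : ⁅(z.toMul : X), ((e.symm (Cfsg.Lib.Linear.SLTwoNatural.u a) : ↥G) : X)⁆ ∈ ⁅V, T⁆ :=
        Subgroup.commutator_mem_commutator z.toMul.2 ((hmemT _).2 ⟨a, rfl⟩)
      convert inv_mem hc using 1
      have key : ((ρ (Cfsg.Lib.Linear.SLTwoNatural.u a) z - z).toMul : X) =
          ((e.symm (Cfsg.Lib.Linear.SLTwoNatural.u a) : ↥G) : X) * (z.toMul : X) *
            ((e.symm (Cfsg.Lib.Linear.SLTwoNatural.u a) : ↥G) : X)⁻¹ * (z.toMul : X)⁻¹ := by
        rw [sub_eq_add_neg, toMul_add, toMul_neg, Subgroup.coe_mul, Subgroup.coe_inv, hρ,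
          Cfsg.Lib.Local.conjRep_apply]
        rfl
      rw [key, commutatorElement_def]
      group
    · right
      refine le_of_eq_of_le (Nat.card_congr Additive.toMul) (h.trans (le_of_eq ?_))
      congr 1
      exact Nat.card_congr
        { toFun := fun x => ⟨Additive.ofMul ⟨x.1, x.2.1⟩, (hfix _).2 x.2.2⟩
          invFun := fun z => ⟨(z.1.toMul : X), z.1.toMul.2, (hfix _).1 z.2⟩
          left_inv := fun x => rfl
          right_inv := fun z => rfl }
  obtain ⟨ψ, hψ⟩ := Cfsg.Lib.Linear.SLTwoNatural.exists_equiv ρ hM hirr' hnt' hyp'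
  exact Cfsg.Lib.Local.actsAs_of_addEquiv G V hGV e ψ (hρ ▸ hψ)

end Cfsg.Agent.S3009
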