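import Cfsg.Statements.S3011
import Cfsg.Agent.Lib.Invol.BaerSuzuki
import Cfsg.Agent.Lib.Core.Cores
-- import your own Cfsg.Agent.* helpers here

set_option autoImplicit false
open Cfsg

namespace Cfsg.Agent.S3011

/-- Let G be a finite group and V a nontrivial elementary abelian 2-subgroup of G of order at most 4 such that, whenever an element of V inverts an element h of G of odd order, some nontrivial element of V commutes with h. Then V meets O₂(G) nontrivially. (The case of order at most 4 has a short argument from the Baer–Suzuki theorem.) -/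
theorem result {G : Type*} [Group G] [Finite G] (V : Subgroup G) (hV : Cfsg.IsElementaryAbelian 2 V) (hV1 : V ≠ ⊥) (hS : Cfsg.IsSidkiPair V) (h4 : Nat.card V ≤ 4) : V ⊓ Cfsg.pCore 2 G ≠ ⊥ := by
  haveI := hV.1
  have h2 : ∀ a ∈ V, a * a = 1 := fun a ha => by simpa [sq] using hV.2 a ha
  have hcm : ∀ a b : G, a ∈ V → b ∈ V → a * b = b * a := fun a b ha hb => setLike_mul_comm ha hb
  have hvi : ∀ a ∈ V, a⁻¹ = a := fun a ha => inv_eq_of_mul_eq_one_right (h2 a ha)
  have hself : ∀ z : G, Odd (orderOf z) → z = z⁻¹ → z = 1 := by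
    intro z hz he
    have h1 : orderOf z ∣ 2 := orderOf_dvd_of_pow_eq_one (by rw [sq]; nth_rw 2 [he]; exact mul_inv_cancel z)
    refine orderOf_eq_one_iff.mp ?_
    rcases (Nat.dvd_prime Nat.prime_two).mp h1 with h | h
    · exact h
    · rw [h] at hz; exact absurd hz (by decide)
  have hkill : ∀ w z : G, Odd (orderOf z) → w * z * w⁻¹ = z⁻¹ → w * z = z * w → z = 1 := by
    intro w z hz hi hc
    refine hself z hz ?_
    rw [← hi, hc, mul_inv_cancel_right]
  have hcov : ∀ v w : G, v ∈ V → w ∈ V → v ≠ 1 → w ≠ 1 → v ≠ w →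
      ∀ x ∈ V, x = 1 ∨ x = v ∨ x = w ∨ x = v * w := by
    intro v w hv hw hv1 hw1 hne x hx
    by_contra hh
    push Not at hh
    classical
    obtain ⟨h1, h2', h3, h4'⟩ := hh
    have e1 : v * w ≠ 1 := fun h => hne (by rw [mul_eq_one_iff_eq_inv.mp h, hvi w hw])
    have e2 : v ≠ v * w := fun h => hw1 (mul_left_cancel (h.symm.trans (mul_one v).symm))
    have e3 : w ≠ v * w := fun h => hv1 (mul_right_cancel (h.symm.trans (one_mul w).symm))
    have hcard : ({1, v, w, v * w, x} : Finset G).card = 5 := by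
      rw [Finset.card_insert_of_notMem, Finset.card_insert_of_notMem, Finset.card_insert_of_notMem,
        Finset.card_insert_of_notMem, Finset.card_singleton]
      · simpa using h4'.symm
      · simp [e3, h3.symm]
      · simp [hne, e2, h2'.symm]
      · simp [hv1.symm, hw1.symm, e1.symm, h1.symm]
    have hle : ({1, v, w, v * w, x} : Finset G).card ≤ Nat.card ↥V := by
      rw [← Nat.card_eq_finsetCard]
      refine Nat.card_le_card_of_injective (fun y => (⟨(y : G), ?_⟩ : ↥V))
        fun y y' h => Subtype.ext (congrArg Subtype.val h :)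
      have hy := y.2
      simp only [Finset.mem_insert, Finset.mem_singleton] at hy
      rcases hy with h | h | h | h | h <;> rw [h]
      exacts [V.one_mem, hv, hw, V.mul_mem hv hw, hx]
    omega
  -- some element of `V` inverts no nontrivial element of odd order
  have hmain : ∃ v ∈ V, v ≠ 1 ∧ ∀ z : G, Odd (orderOf z) → v * z * v⁻¹ = z⁻¹ → z = 1 := by
    by_contra hh
    push Not at hh
    -- families: `(w, z)` with `w` centralizing and all other involutions inverting `z`
    have hfam : ∀ v ∈ V, v ≠ 1 → ∃ w ∈ V, w ≠ 1 ∧ v ≠ w ∧ ∃ z : G, z ≠ 1 ∧ Odd (orderOf z) ∧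
        w * z = z * w ∧ v * z * v⁻¹ = z⁻¹ := by
      intro v hv hv1
      obtain ⟨z, hz, hi, hz1⟩ := hh v hv hv1
      obtain ⟨w, hw, hw1, hc⟩ := hS z v hv hz hi
      exact ⟨w, hw, hw1, fun he => hz1 (hkill w z hz (he ▸ hi) hc), z, hz1, hz, hc, hi⟩
    obtain ⟨v₀, hv₀, hv₀1⟩ := V.bot_or_exists_ne_one.resolve_left hV1
    obtain ⟨b, hb, hb1, hne0, z, hz1, hz, hzb, hzi⟩ := hfam v₀ hv₀ hv₀1
    obtain ⟨d, hd, hd1, hbd, y, hy1, hy, hyd, hyi⟩ := hfam b hb hb1
    -- `a` is the third involution: it inverts both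
    have hia : ∀ (w u x : G), w ∈ V → u ∈ V → w * x = x * w → u * x * u⁻¹ = x⁻¹ →
        (w * u) * x * (w * u)⁻¹ = x⁻¹ := by
      intro w u x hw hu hc hi
      calc (w * u) * x * (w * u)⁻¹ = w * (u * x * u⁻¹) * w⁻¹ := by group
        _ = x⁻¹ := by rw [hi, (show Commute w x from hc).inv_right.eq, mul_inv_cancel_right]
    -- elements other than `1, b` invert `z`; other than `1, d` invert `y`
    have hzinv : ∀ x ∈ V, x ≠ 1 → x ≠ b → x * z * x⁻¹ = z⁻¹ := by
      intro x hx hx1 hxb
      rcases hcov b v₀ hb hv₀ hb1 hv₀1 hne0.symm x hx with h | h | h | h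
      · exact absurd h hx1
      · exact absurd h hxb
      · exact h ▸ hzi
      · exact h ▸ hia b v₀ z hb hv₀ hzb hzi
    have hyinv : ∀ x ∈ V, x ≠ 1 → x ≠ d → x * y * x⁻¹ = y⁻¹ := by
      intro x hx hx1 hxd
      rcases hcov d b hd hb hd1 hb1 hbd.symm x hx with h | h | h | h
      · exact absurd h hx1
      · exact absurd h hxd
      · exact h ▸ hyi
      · exact h ▸ hia d b y hd hb hyd hyi
    -- `z` and `y` commute
    have hzd : d * z * d⁻¹ = z⁻¹ := hzinv d hd hd1 hbd.symm
    have hcomm : Commute z y := by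
      set u := z * y * z⁻¹ with huE
      have hu : Odd (orderOf u) := by
        rwa [show orderOf u = orderOf y from (MulAut.conj z).orderOf_eq y]
      have hub : b * u * b⁻¹ = u⁻¹ := by
        calc b * u * b⁻¹ = (b * z) * y * (b * z)⁻¹ := by rw [huE]; group
          _ = z * (b * y * b⁻¹) * z⁻¹ := by rw [hzb]; group
          _ = u⁻¹ := by rw [hyi, huE]; group
      have hzsq : ∀ t : G, Odd (orderOf z) → Commute (z ^ 2) t → Commute z t := by
        intro t _ hc
        obtain ⟨m, hm⟩ := exists_pow_eq_self_of_coprime (x := z) (n := 2)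
          ((Nat.prime_two.coprime_iff_not_dvd).mpr (by rw [Nat.odd_iff] at hz; omega))
        exact hm ▸ hc.pow_left m
      obtain ⟨w, hw, hw1, hwu⟩ := hS u b hb hu hub
      rcases hcov b d hb hd hb1 hd1 hbd w hw with h | h | h | h
      · exact absurd h hw1
      · subst h
        have : u = 1 := hkill w u hu hub hwu
        exact absurd (show y = 1 by simpa [u] using this) hy1
      · subst h
        have hdu : w * u * w⁻¹ = u := by rw [hwu, mul_inv_cancel_right]
        have hexp : w * u * w⁻¹ = z⁻¹ * y * z := by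
          calc w * u * w⁻¹ = (w * z * w⁻¹) * (w * y * w⁻¹) * (w * z * w⁻¹)⁻¹ := by rw [huE]; group
            _ = z⁻¹ * y * z := by rw [hzd, hyd, mul_inv_cancel_right, inv_inv]
        rw [hdu] at hexp
        refine hzsq y hz ?_
        calc z ^ 2 * y = z * u * z := by simp only [u, sq]; group
          _ = z * (z⁻¹ * y * z) * z := by rw [hexp]
          _ = y * z ^ 2 := by rw [sq]; group
      · subst h
        exfalso
        have hbdu : (b * d) * u * (b * d)⁻¹ = u := by rw [hwu, mul_inv_cancel_right]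
        have hexp : (b * d) * u * (b * d)⁻¹ = z⁻¹ * y⁻¹ * z := by
          calc (b * d) * u * (b * d)⁻¹
              = b * ((d * z * d⁻¹) * (d * y * d⁻¹) * (d * z * d⁻¹)⁻¹) * b⁻¹ := by rw [huE]; group
            _ = b * (z⁻¹ * y * z) * b⁻¹ := by rw [hzd, hyd, mul_inv_cancel_right, inv_inv]
            _ = (b * z * b⁻¹)⁻¹ * (b * y * b⁻¹) * (b * z * b⁻¹) := by group
            _ = z⁻¹ * y⁻¹ * z := by rw [hzb, mul_inv_cancel_right, hyi]
        rw [hbdu] at hexp
        -- `z ^ 2` inverts `y`
        have hinvy : z ^ 2 * y * (z ^ 2)⁻¹ = y⁻¹ := by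
          calc z ^ 2 * y * (z ^ 2)⁻¹ = z * u * z⁻¹ := by simp only [u, sq]; group
            _ = z * (z⁻¹ * y⁻¹ * z) * z⁻¹ := by rw [hexp]
            _ = y⁻¹ := by group
        refine hy1 (hself y hy ?_)
        -- an element of odd order inverting `y` centralizes it
        have hodd : Odd (orderOf (z ^ 2)) := Odd.of_dvd_nat hz (orderOf_pow_dvd 2)
        obtain ⟨k, hk⟩ := hodd
        have hgen : ∀ n : ℕ, (z ^ 2) ^ (2 * n + 1) * y * ((z ^ 2) ^ (2 * n + 1))⁻¹ = y⁻¹ := by
          intro n
          induction n with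
          | zero => simpa using hinvy
          | succ n ih =>
            have e : (z ^ 2) ^ (2 * (n + 1) + 1) * y * ((z ^ 2) ^ (2 * (n + 1) + 1))⁻¹ =
                z ^ 2 * (z ^ 2 * ((z ^ 2) ^ (2 * n + 1) * y * ((z ^ 2) ^ (2 * n + 1))⁻¹) * (z ^ 2)⁻¹) *
                  (z ^ 2)⁻¹ := by
              rw [show 2 * (n + 1) + 1 = (2 * n + 1) + 1 + 1 by ring, pow_succ', pow_succ']
              group
            rw [e, ih]
            have e2 : z ^ 2 * y⁻¹ * (z ^ 2)⁻¹ = y := by
              calc z ^ 2 * y⁻¹ * (z ^ 2)⁻¹ = (z ^ 2 * y * (z ^ 2)⁻¹)⁻¹ := by group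
                _ = y := by rw [hinvy, inv_inv]
            rw [e2, hinvy]
        have := hgen k
        rw [← hk, pow_orderOf_eq_one, one_mul, inv_one, mul_one] at this
        exact this
    -- the third involution inverts `z * y`
    set a := b * d with ha'
    have haV : a ∈ V := V.mul_mem hb hd
    have ha1 : a ≠ 1 := fun h => hbd (by rw [mul_eq_one_iff_eq_inv.mp h, hvi d hd])
    have hab' : a ≠ b := fun h => hd1 (mul_left_cancel (h.trans (mul_one b).symm))
    have had : a ≠ d := fun h => hb1 (mul_right_cancel (h.trans (one_mul d).symm))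
    have hzy : a * (z * y) * a⁻¹ = (z * y)⁻¹ := by
      calc a * (z * y) * a⁻¹ = (a * z * a⁻¹) * (a * y * a⁻¹) := by group
        _ = (z * y)⁻¹ := by
          rw [hzinv a haV ha1 hab', hyinv a haV ha1 had, ← mul_inv_rev, hcomm.eq]
    have hodd : Odd (orderOf (z * y)) :=
      Odd.of_dvd_nat (hz.mul hy) (hcomm.orderOf_mul_dvd_lcm.trans (Nat.lcm_dvd_mul _ _))
    obtain ⟨w, hw, hw1, hwc⟩ := hS (z * y) a haV hodd hzy
    rcases hcov b d hb hd hb1 hd1 hbd w hw with h | h | h | h
    · exact hw1 h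
    · subst h
      refine hy1 (hkill w y hy hyi ?_)
      have e : y = z⁻¹ * (z * y) := by group
      rw [e]
      exact ((show Commute w z from hzb).inv_right.mul_right hwc).eq
    · subst h
      refine hz1 (hkill w z hz hzd ?_)
      have e : z = (z * y) * y⁻¹ := by group
      rw [e]
      exact ((show Commute w (z * y) from hwc).mul_right (show Commute w y from hyd).inv_right).eq
    · rw [← ha'] at h
      have h0 : z * y = 1 := hkill a (z * y) hodd hzy (h ▸ hwc)
      refine hy1 (hkill b y hy hyi ?_)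
      have e : y = z⁻¹ := eq_inv_of_mul_eq_one_right h0
      rw [e]
      exact (show Commute b z from hzb).inv_right.eq
  obtain ⟨v, hv, hv1, hno⟩ := hmain
  have hvp : IsPGroup 2 ↥(Subgroup.zpowers v) :=
    (hV |> fun h => (IsPGroup.iff_orderOf.mpr fun g => by
      have h1 : orderOf (g : ↥V) ∣ 2 := orderOf_dvd_of_pow_eq_one
        (Subtype.ext (by simpa using h.2 g g.2))
      rcases (Nat.dvd_prime Nat.prime_two).mp h1 with h' | h'
      · exact ⟨0, by simpa using h'⟩
      · exact ⟨1, by simpa using h'⟩ : IsPGroup 2 ↥V)).to_le (Subgroup.zpowers_le.mpr hv)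
  obtain ⟨N, hN, hNp, hle⟩ := Lib.Invol.baerSuzuki (p := 2) (Subgroup.zpowers v) hvp fun g => by
    rw [MonoidHom.map_zpowers]
    set t := (MulAut.conj g).toMonoidHom v
    have ht : t * t = 1 := by rw [← map_mul, h2 v hv, map_one]
    set x := t * v
    have hxv : v * x * v⁻¹ = x⁻¹ := by
      simp only [x, mul_inv_rev, hvi v hv, inv_eq_of_mul_eq_one_right ht]
      rw [mul_assoc v (t * v) v, mul_assoc t v v, h2 v hv, mul_one]
    obtain ⟨a, b, hb, hab⟩ := Nat.exists_eq_pow_mul_and_not_dvd (orderOf_pos x).ne' 2 (by norm_num)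
    have hxa : x ^ 2 ^ a = 1 := by
      refine hno _ ?_ (by rw [← conj_pow, hxv, inv_pow])
      rw [orderOf_pow_of_dvd (by positivity) (hab ▸ dvd_mul_right _ _), hab,
        Nat.mul_div_cancel_left _ (by positivity), Nat.odd_iff]
      omega
    have hxp : IsPGroup 2 ↥(Subgroup.zpowers x) := by
      obtain ⟨i, -, hi⟩ := (Nat.dvd_prime_pow Nat.prime_two).mp (orderOf_dvd_of_pow_eq_one hxa)
      exact IsPGroup.of_card (n := i) (by rw [Nat.card_zpowers, hi])
    have hnorm : Subgroup.zpowers v ≤ Subgroup.normalizer (Subgroup.zpowers x : Set G) := by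
      rw [Subgroup.zpowers_le, Lib.Core.mem_normalizer_iff_map_conj, MonoidHom.map_zpowers]
      show Subgroup.zpowers (v * x * v⁻¹) = _
      rw [hxv, Subgroup.zpowers_inv]
    refine (hxp.to_sup_of_normal_left' hvp hnorm).to_le (sup_le le_sup_right (Subgroup.zpowers_le.mpr ?_))
    have e : t = x * v := by
      simp only [x]
      rw [mul_assoc, h2 v hv, mul_one]
    rw [e]
    exact Subgroup.mul_mem_sup (Subgroup.mem_zpowers x) (Subgroup.mem_zpowers v)
  intro hbot
  exact hv1 (Subgroup.mem_bot.mp (hbot ▸ (⟨hv, Lib.Core.le_pCore' hN hNp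
    (hle (Subgroup.mem_zpowers v))⟩ : v ∈ V ⊓ Cfsg.pCore 2 G)))

end Cfsg.Agent.S3011
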