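import Cfsg.Statements.S3013
-- import your own Cfsg.Agent.* helpers here

set_option autoImplicit false
open Cfsg

namespace Cfsg.Agent.S3013

/-- Let G be a finite group and V a nontrivial elementary abelian 2-subgroup of G satisfying the Sidki pair condition. Let v ∈ V and let x be an element of odd order inverted by v, and put C = C_G(v) ∩ C_G(x), the centralizer of the dihedral subgroup generated by v and x. Then C ∩ V is nontrivial and satisfies the Sidki pair condition inside C: every odd-order element of C inverted by an element of C ∩ V commutes with a nontrivial element of C ∩ V. -/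
theorem result {G : Type*} [Group G] [Finite G] (V : Subgroup G) (hV : Cfsg.IsElementaryAbelian 2 V) (hV1 : V ≠ ⊥) (hS : Cfsg.IsSidkiPair V) (v x : G) (hv : v ∈ V) (hx : Odd (orderOf x)) (hinv : v * x * v⁻¹ = x⁻¹) (C : Subgroup G) (hC : C = Subgroup.centralizer ({v} : Set G) ⊓ Subgroup.centralizer ({x} : Set G)) : C ⊓ V ≠ ⊥ ∧ Cfsg.IsSidkiPair ((C ⊓ V).subgroupOf C) := by
  subst hC
  haveI := hV.1
  have hcm : ∀ a b : G, a ∈ V → b ∈ V → a * b = b * a := fun a b ha hb => setLike_mul_comm ha hb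
  have h2 : ∀ a ∈ V, a * a = 1 := fun a ha => by simpa [sq] using hV.2 a ha
  obtain ⟨w, hw, hw1, hwx⟩ := hS x v hv hx hinv
  set C := Subgroup.centralizer ({v} : Set G) ⊓ Subgroup.centralizer ({x} : Set G)
  refine ⟨fun hb => hw1 (Subgroup.mem_bot.mp (hb ▸ (⟨⟨Subgroup.mem_centralizer_singleton_iff.mpr
    (hcm w v hw hv), Subgroup.mem_centralizer_singleton_iff.mpr hwx⟩, hw⟩ : w ∈ C ⊓ V))), ?_⟩
  rintro ⟨h, hh⟩ ⟨u, hu⟩ hu' hodd hinv'
  rw [Subgroup.orderOf_mk] at hodd
  have hhv : Commute h v := Subgroup.mem_centralizer_singleton_iff.mp hh.1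
  have hhx : Commute h x := Subgroup.mem_centralizer_singleton_iff.mp hh.2
  have hux : Commute u x := Subgroup.mem_centralizer_singleton_iff.mp hu.2
  have huV : u ∈ V := (Subgroup.mem_subgroupOf.mp hu').2
  have hi : u * h * u⁻¹ = h⁻¹ := congrArg Subtype.val hinv'
  have huvi : u⁻¹ = u := inv_eq_of_mul_eq_one_right (h2 u huV)
  have hodd' : Odd (orderOf (x * h)) := by
    refine Odd.of_dvd_nat (hx.mul hodd) ?_
    exact (hhx.symm.orderOf_mul_dvd_lcm).trans (Nat.lcm_dvd_mul _ _)
  have hconj : (u * v) * (x * h) * (u * v)⁻¹ = (x * h)⁻¹ := by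
    have e : (u * v) * (x * h) * (u * v)⁻¹ = u * (v * x * v⁻¹ * (v * h * v⁻¹)) * u⁻¹ := by group
    rw [e, hinv, hhv.symm.eq, mul_inv_cancel_right]
    calc u * (x⁻¹ * h) * u⁻¹ = (u * x⁻¹ * u⁻¹) * (u * h * u⁻¹) := by group
      _ = (h * x)⁻¹ := by rw [hi, hux.inv_right.eq, mul_inv_cancel_right, mul_inv_rev]
      _ = (x * h)⁻¹ := by rw [hhx.eq]
  obtain ⟨z, hz, hz1, hzc⟩ := hS (x * h) (u * v) (V.mul_mem huV hv) hodd' hconj
  have h3 : Commute z (x * h⁻¹) := by
    have h4 := (show Commute z (x * h) from hzc).map (MulAut.conj u).toMonoidHom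
    simp only [MulEquiv.coe_toMonoidHom, MulAut.conj_apply] at h4
    rw [show u * z * u⁻¹ = z by rw [hcm u z huV hz, mul_inv_cancel_right]] at h4
    rwa [show u * (x * h) * u⁻¹ = x * h⁻¹ by
      calc u * (x * h) * u⁻¹ = (u * x * u⁻¹) * (u * h * u⁻¹) := by group
        _ = x * h⁻¹ := by rw [hi, hux.eq, mul_inv_cancel_right]] at h4
  have hodd2 : ∀ t : G, Odd (orderOf t) → Commute z (t ^ 2) → Commute z t := by
    intro t ht hc
    obtain ⟨m, hm⟩ := exists_pow_eq_self_of_coprime (x := t) (n := 2)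
      ((Nat.prime_two.coprime_iff_not_dvd).mpr (by rw [Nat.odd_iff] at ht; omega))
    exact hm ▸ hc.pow_right m
  have hzx : Commute z x := by
    refine hodd2 x hx ?_
    have e : (x * h) * (x * h⁻¹) = x ^ 2 := by
      rw [sq, mul_assoc, ← mul_assoc h x, hhx.eq, mul_inv_cancel_right]
    exact e ▸ (show Commute z (x * h) from hzc).mul_right h3
  have hzh : Commute z h := by
    have e : h = x⁻¹ * (x * h) := by group
    rw [e]
    exact hzx.inv_right.mul_right hzc
  have hzC : z ∈ C := ⟨Subgroup.mem_centralizer_singleton_iff.mpr (hcm z v hz hv),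
    Subgroup.mem_centralizer_singleton_iff.mpr hzx.eq⟩
  refine ⟨⟨z, hzC⟩, Subgroup.mem_subgroupOf.mpr ⟨hzC, hz⟩,
    fun h5 => hz1 (congrArg Subtype.val h5), Subtype.ext hzh.eq⟩

end Cfsg.Agent.S3013
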