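import Cfsg.Statements.S3014
import Cfsg.Agent.Lib.Local.ExtremelyClosed
-- import your own Cfsg.Agent.* helpers here

set_option autoImplicit false
open Cfsg

namespace Cfsg.Agent.S3014

/-- Let G be a finite group and H ≤ M ≤ G subgroups such that for every g ∈ G the subgroup generated by H and g H g⁻¹ meets M exactly in H. If H is a maximal subgroup of M and M is a maximal subgroup of G, then the normal closure of H in G meets M exactly in H. -/
theorem result {G : Type*} [Group G] [Finite G] (H M : Subgroup G) (hHM : H ≤ M) (hcl : ∀ g : G, (H ⊔ H.map (MulAut.conj g).toMonoidHom) ⊓ M = H) (hmaxH : IsCoatom (H.subgroupOf M)) (hmaxM : IsCoatom M) : Subgroup.normalClosure (H : Set G) ⊓ M = H := by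
  refine le_antisymm ?_ (le_inf Subgroup.subset_normalClosure hHM)
  by_cases hn : ∃ x : G, (H ⊔ H.map (MulAut.conj x).toMonoidHom).Normal
  · obtain ⟨x, hx⟩ := hn
    exact (inf_le_inf_right M (Subgroup.normalClosure_le_normal fun h hh =>
      Subgroup.mem_sup_left hh)).trans (hcl x).le
  push Not at hn
  have hHn : (H.subgroupOf M).Normal := by
    rw [Subgroup.normal_subgroupOf_iff_le_normalizer hHM]
    intro m hm
    rw [Lib.Core.mem_normalizer_iff_map_conj]
    have hle : H.map (MulAut.conj m).toMonoidHom ≤ M := by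
      rintro _ ⟨h, hh, rfl⟩
      exact M.mul_mem (M.mul_mem hm (hHM hh)) (M.inv_mem hm)
    refine Subgroup.eq_of_le_of_card_ge ((le_inf le_sup_right hle).trans (hcl m).le) ?_
    rw [Subgroup.card_map_of_injective (MulAut.conj m).injective]
  haveI := hHn
  have hidx : (H.relIndex M).Prime := by
    have hsimple : IsSimpleGroup (↥M ⧸ H.subgroupOf M) := by
      haveI : Nontrivial (↥M ⧸ H.subgroupOf M) :=
        QuotientGroup.nontrivial_iff.mpr hmaxH.1
      refine ⟨fun N hN => ?_⟩
      rcases hmaxH.le_iff.mp (show H.subgroupOf M ≤ N.comap (QuotientGroup.mk' _) from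
        fun y hy => by
          show QuotientGroup.mk' (H.subgroupOf M) y ∈ N
          rw [show QuotientGroup.mk' (H.subgroupOf M) y = 1 from (QuotientGroup.eq_one_iff y).mpr hy]
          exact one_mem N) with h | h
      · right
        rw [← Subgroup.map_comap_eq_self_of_surjective (QuotientGroup.mk'_surjective _) N, h,
          Subgroup.map_top_of_surjective _ (QuotientGroup.mk'_surjective _)]
      · left
        rw [← Subgroup.map_comap_eq_self_of_surjective (QuotientGroup.mk'_surjective _) N, h,
          QuotientGroup.map_mk'_self]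
    have hp : ∃ a : ↥M, a ∉ H.subgroupOf M := by
      by_contra hall
      push Not at hall
      exact hmaxH.1 (eq_top_iff.mpr fun m _ => hall m)
    obtain ⟨a, ha⟩ := hp
    set q := QuotientGroup.mk' (H.subgroupOf M)
    have hqa : q a ≠ 1 := fun h => ha ((QuotientGroup.eq_one_iff a).mp h)
    -- a subgroup of prime order generates the quotient
    obtain ⟨r, hr, hdvd⟩ := Nat.exists_prime_and_dvd (n := orderOf (q a))
      (fun h => hqa (orderOf_eq_one_iff.mp h))
    haveI := Fact.mk hr
    obtain ⟨c, hc⟩ := exists_prime_orderOf_dvd_card' r (hdvd.trans (orderOf_dvd_natCard _))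
    obtain ⟨b, rfl⟩ := QuotientGroup.mk'_surjective _ c
    have htop : (Subgroup.zpowers (q b)).comap q = ⊤ := by
      refine (hmaxH.le_iff.mp ?_).resolve_right fun h => ?_
      · intro y hy
        show q y ∈ Subgroup.zpowers (q b)
        rw [show q y = 1 from (QuotientGroup.eq_one_iff y).mpr hy]
        exact one_mem _
      · have hb : b ∈ H.subgroupOf M := h ▸ (Subgroup.mem_zpowers (q b) : q b ∈ _)
        have hb1 : q b = 1 := (QuotientGroup.eq_one_iff b).mpr hb
        rw [hb1, orderOf_one] at hc
        exact hr.ne_one hc.symm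
    have hz : Subgroup.zpowers (q b) = ⊤ := by
      rw [← Subgroup.map_comap_eq_self_of_surjective (QuotientGroup.mk'_surjective _)
        (Subgroup.zpowers (q b)), htop,
        Subgroup.map_top_of_surjective _ (QuotientGroup.mk'_surjective _)]
    show (Nat.card (↥M ⧸ H.subgroupOf M)).Prime
    rw [← Subgroup.card_top, ← hz, Nat.card_zpowers, hc]
    exact hr
  obtain ⟨V, ⟨m, hm⟩, hker⟩ := Lib.Local.exists_hom_of_isCoatom hmaxM hHM hidx fun x _ => hn x
  have hHV : H ≤ V.ker := hker fun g h hh hM => by
    refine (hcl g⁻¹).le ⟨Subgroup.mem_sup_right ⟨h, hh, ?_⟩, hM⟩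
    simp
  refine le_trans (inf_le_inf_right M (Subgroup.normalClosure_le_normal hHV)) fun y hy => ?_
  have h1 : H.subgroupOf M ≤ V.ker.subgroupOf M := Subgroup.comap_mono hHV
  rcases hmaxH.le_iff.mp h1 with h2 | h2
  · exact absurd (h2.ge (Subgroup.mem_top m) : V (m : G) = 1) hm
  · have h3 : (⟨y, hy.2⟩ : ↥M) ∈ H.subgroupOf M := h2.le hy.1
    exact h3

end Cfsg.Agent.S3014
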