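import Cfsg.Statements.S3015
import Cfsg.Agent.Lib.Local.ExtremelyClosed
import Cfsg.Agent.Lib.Fusion.Abelian
-- import your own Cfsg.Agent.* helpers here

set_option autoImplicit false
open Cfsg

namespace Cfsg.Agent.S3015

/-- Let G be a finite non-abelian simple group, M a maximal subgroup of G and H a normal subgroup of M of prime index in M. Then G is generated by H together with one of its conjugates. -/
theorem result {G : Type*} [Group G] [Finite G] [IsSimpleGroup G] (hG : ¬ IsMulCommutative G) (M H : Subgroup G) (hmaxM : IsCoatom M) (hHM : H ≤ M) (hHn : (H.subgroupOf M).Normal) (hidx : (H.relIndex M).Prime) : ∃ g : G, H ⊔ H.map (MulAut.conj g).toMonoidHom = ⊤ := by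
  haveI := hHn
  by_cases hH : H = ⊥
  · -- a maximal subgroup of prime order
    exfalso
    subst hH
    rw [Subgroup.relIndex_bot_left] at hidx
    haveI := Fact.mk hidx
    set r := Nat.card ↥M
    have hMp : IsPGroup r ↥M := IsPGroup.of_card (n := 1) (pow_one r).symm
    haveI hcyc : IsCyclic ↥M := isCyclic_of_prime_card (p := r) rfl
    haveI hMc : IsMulCommutative ↥M := IsCyclic.isMulCommutative
    have hG' : ∀ N : Subgroup G, N.Normal → M ≤ N → N = ⊤ := fun N hN hle => by
      rcases hN.eq_bot_or_eq_top with h | h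
      · have hMb : M = ⊥ := le_bot_iff.mp (hle.trans h.le)
        exact absurd (show Nat.card ↥M = 1 by rw [hMb, Subgroup.card_bot]) hidx.ne_one
      · exact h
    have hMtop : M ≠ ⊤ := hmaxM.1
    have hNM : Subgroup.normalizer (M : Set G) = M := by
      rcases hmaxM.le_iff.mp (Subgroup.le_normalizer (H := M)) with h | h
      · exact absurd (hG' M (Subgroup.normalizer_eq_top_iff.mp h) le_rfl) hMtop
      · exact h
    obtain ⟨R, hR⟩ := hMp.exists_le_sylow
    have hRM : (R : Subgroup G) = M := by
      by_contra hne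
      haveI := R.2.isNilpotent
      have h1 : M.subgroupOf R < ⊤ := lt_of_le_of_ne le_top fun he =>
        hne (le_antisymm (Subgroup.subgroupOf_eq_top.mp he) hR)
      obtain ⟨x, hx, hxM⟩ := SetLike.exists_of_lt (Group.normalizerCondition_of_isNilpotent _ h1)
      refine hxM (hNM.le ?_ : (x : G) ∈ M)
      rw [Lib.Core.mem_normalizer_iff_map_conj]
      refine Subgroup.eq_of_le_of_card_ge ?_
        (by rw [Subgroup.card_map_of_injective (MulAut.conj (x : G)).injective])
      rintro _ ⟨y, hy, rfl⟩
      exact (Subgroup.mem_normalizer_iff.mp hx ⟨y, hR hy⟩).mp hy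
    obtain ⟨P, N, hN, hNP⟩ := Lib.Fusion.hasNormalPComplement_of_normalizer_le_centralizer R (by
      rw [hRM, hNM]
      intro x hx y hy
      exact setLike_mul_comm hy hx)
    rcases hN.eq_bot_or_eq_top with h | h
    · subst h
      have hP : (P : Subgroup G) = ⊤ := by
        have := hNP.sup_eq_top
        rwa [bot_sup_eq] at this
      haveI : (P : Subgroup G).Normal := hP ▸ inferInstance
      have hle : M ≤ (P : Subgroup G) := hP ▸ le_top
      obtain ⟨c, hc⟩ := MulAction.exists_smul_eq G P R
      have : (R : Subgroup G) = ⊤ := by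
        rw [← hc, Sylow.smul_eq_of_normal, hP]
      exact hMtop (hRM ▸ this)
    · subst h
      have h1 := Lib.Fusion.coprime_card_of_complement hNP
      rw [Subgroup.card_top] at h1
      exact hidx.ne_one (Nat.eq_one_of_dvd_coprimes h1 (Subgroup.card_subgroup_dvd_card M) dvd_rfl)
  by_contra hall
  push Not at hall
  obtain ⟨V, ⟨m, hm⟩, -⟩ := Lib.Local.exists_hom_of_isCoatom hmaxM hHM hidx fun x _ hn => by
    rcases hn.eq_bot_or_eq_top with h | h
    · exact hH (le_bot_iff.mp (le_sup_left.trans h.le))
    · exact hall x h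
  have hker : V.ker = ⊥ := by
    rcases (MonoidHom.normal_ker V).eq_bot_or_eq_top with h | h
    · exact h
    · exact absurd (h ▸ Subgroup.mem_top (m : G) : (m : G) ∈ V.ker) hm
  haveI : Fact (Nat.card (↥M ⧸ H.subgroupOf M)).Prime := ⟨hidx⟩
  haveI : IsCyclic (↥M ⧸ H.subgroupOf M) := isCyclic_of_prime_card rfl
  refine hG ⟨⟨fun a b => (MonoidHom.ker_eq_bot_iff V).mp hker ?_⟩⟩
  rw [map_mul, map_mul]
  exact mul_comm' _ _

end Cfsg.Agent.S3015
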