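import Cfsg.Statements.S3020
import Cfsg.Agent.Lib.Local.ExtremelyClosed
import Cfsg.Agent.Lib.Core.Cores
import Cfsg.Agent.Lib.Fusion.Abelian
-- import your own Cfsg.Agent.* helpers here

set_option autoImplicit false
open Cfsg

namespace Cfsg.Agent.S3020

/-- Let G be a finite group, p a prime and H an abelian p-subgroup of G that is extremely closed (for every g, the subgroup generated by H and g H g⁻¹ meets N_G(H) exactly in H). Then for every g ∈ G, the subgroup T generated by H and g H g⁻¹ is the product of H with O_{p'}(T), and H meets O_{p'}(T) trivially; that is, O_{p'}(T) is a normal p-complement of H in T. -/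
theorem result {G : Type*} [Group G] [Finite G] {p : ℕ} [Fact p.Prime] (H : Subgroup G) (hHp : IsPGroup p H) (hHab : IsMulCommutative H) (hcl : Cfsg.IsExtremelyClosed H) (g : G) (T : Subgroup G) (hT : T = H ⊔ H.map (MulAut.conj g).toMonoidHom) : H ⊔ (Cfsg.pPrimeCore p ↥T).map T.subtype = T ∧ H ⊓ (Cfsg.pPrimeCore p ↥T).map T.subtype = ⊥ := by
  have hHT : H ≤ T := hT ▸ le_sup_left
  have hNT : T ⊓ Subgroup.normalizer (H : Set G) = H := hT ▸ hcl g
  obtain ⟨P, hP⟩ := ((hHp.of_equiv (Subgroup.subgroupOfEquivOfLe hHT).symm :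
    IsPGroup p ↥(H.subgroupOf T))).exists_le_sylow
  have hPH : (P : Subgroup ↥T).map T.subtype = H := by
    refine le_antisymm ?_ fun h hh => ⟨⟨h, hHT hh⟩, hP hh, rfl⟩
    have h1 := Lib.Local.le_normalizer_of_extremelyClosed hcl (P.2.map T.subtype)
      (fun h hh => ⟨⟨h, hHT hh⟩, hP hh, rfl⟩)
    exact (le_inf (Subgroup.map_subtype_le _) h1).trans hNT.le
  have hnc : Cfsg.HasNormalPComplement p ↥T := by
    refine Lib.Fusion.hasNormalPComplement_of_normalizer_le_centralizer P fun x hx y hy => ?_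
    have hxN : (x : G) ∈ T ⊓ Subgroup.normalizer (H : Set G) := by
      refine ⟨x.2, ?_⟩
      rw [← hPH]
      exact Subgroup.le_normalizer_map T.subtype ⟨x, hx, rfl⟩
    have hxH : (x : G) ∈ H := hNT.le hxN
    have hyH : (y : G) ∈ H := hPH.le ⟨y, hy, rfl⟩
    exact Subtype.ext (setLike_mul_comm hyH hxH)
  have hcomp := Lib.Fusion.isComplement'_pResidual hnc P
  have hK : Cfsg.pPrimeCore p ↥T = Cfsg.pResidual p ↥T :=
    le_antisymm (Lib.Fusion.le_pResidual_of_coprime_card (Lib.Core.pPrimeCore_coprime p ↥T))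
      (Lib.Core.le_pPrimeCore' inferInstance (Lib.Fusion.coprime_card_of_complement hcomp))
  rw [hK]
  constructor
  · have h1 := congrArg (Subgroup.map T.subtype) hcomp.sup_eq_top
    rw [Subgroup.map_sup, hPH, ← MonoidHom.range_eq_map, Subgroup.range_subtype, sup_comm] at h1
    exact h1
  · have h1 := congrArg (Subgroup.map T.subtype) hcomp.disjoint.eq_bot
    rw [Subgroup.map_inf _ _ _ T.subtype_injective, hPH, Subgroup.map_bot, inf_comm] at h1
    exact h1

end Cfsg.Agent.S3020
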