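import Cfsg.Statements.S3017
import Cfsg.Agent.Lib.Local.OddSplit.Main
import Cfsg.Agent.S3020

set_option autoImplicit false
open Cfsg

namespace Cfsg.Agent.S3017

/-- Let G be a finite group and H an abelian 2-subgroup of G that is extremely closed (for every g, the subgroup generated by H and g H g⁻¹ meets N_G(H) exactly in H). Then G = N_G(H) O(G), where O(G) is the largest normal subgroup of odd order. For H of order 2 this is Glauberman's Z*-statement. -/
theorem result {G : Type*} [Group G] [Finite G] (H : Subgroup G) (hH2 : IsPGroup 2 H) (hHab : IsMulCommutative H) (hcl : Cfsg.IsExtremelyClosed H) : Subgroup.normalizer (H : Set G) ⊔ Cfsg.oddCore G = ⊤ := by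
  haveI : Fact (Nat.Prime 2) := ⟨Nat.prime_two⟩
  refine Lib.Local.OddSplit.normalizer_sup_oddCore (fun g => ?_) hH2 fun x hx y hy =>
    setLike_mul_comm hx hy
  set T := H ⊔ H.map (MulAut.conj g).toMonoidHom with hT
  obtain ⟨h1, -⟩ := Cfsg.Agent.S3020.result H hH2 hHab hcl g T hT
  refine ⟨(Cfsg.pPrimeCore 2 ↥T).map T.subtype, ?_, ?_, fun h hh => ?_⟩
  · rw [Lib.Core.card_map_subtype]
    exact Nat.coprime_two_right.1 (Lib.Core.pPrimeCore_coprime 2 ↥T)
  · refine le_trans (le_sup_left : H ≤ T) fun t ht => ?_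
    have h2 : (⟨t, ht⟩ : ↥T) ∈
        Subgroup.normalizer ((Cfsg.pPrimeCore 2 ↥T : Subgroup ↥T) : Set ↥T) :=
      (Subgroup.normalizer_eq_top (Cfsg.pPrimeCore 2 ↥T)).symm ▸ Subgroup.mem_top _
    exact Subgroup.le_normalizer_map T.subtype ⟨⟨t, ht⟩, h2, rfl⟩
  · rw [h1]
    exact Subgroup.mem_sup_right ⟨h, hh, rfl⟩

end Cfsg.Agent.S3017
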