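import Cfsg.Statements.S3021
import Cfsg.Agent.Lib.Local.ExtremelyClosed
-- import your own Cfsg.Agent.* helpers here

set_option autoImplicit false
open Cfsg

namespace Cfsg.Agent.S3021

/-- Let G be a finite group, p a prime and H a p-subgroup of G that is extremely closed (for every g, the subgroup generated by H and g H g⁻¹ meets N_G(H) exactly in H). Then every p-subgroup Q of G containing H has N_G(Q) ≤ N_G(H); in particular every Sylow p-subgroup P of G containing H normalizes H, and H is strongly closed in P with respect to G. -/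
theorem result {G : Type*} [Group G] [Finite G] {p : ℕ} [Fact p.Prime] (H : Subgroup G) (hHp : IsPGroup p H) (hcl : Cfsg.IsExtremelyClosed H) : (∀ Q : Subgroup G, IsPGroup p Q → H ≤ Q → Subgroup.normalizer (Q : Set G) ≤ Subgroup.normalizer (H : Set G)) ∧ ∀ P : Sylow p G, H ≤ (P : Subgroup G) → (P : Subgroup G) ≤ Subgroup.normalizer (H : Set G) ∧ Cfsg.IsStronglyClosed H (P : Subgroup G) := by
  refine ⟨fun Q hQ hHQ => Lib.Local.normalizer_le_normalizer_of_extremelyClosed hcl hQ hHQ,
    fun P hHP => ?_⟩
  have hP := Lib.Local.le_normalizer_of_extremelyClosed hcl P.2 hHP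
  refine ⟨hP, hHP, fun x hx g hg => ?_⟩
  exact (hcl g).le ⟨Subgroup.mem_sup_right ⟨x, hx, rfl⟩, hP hg⟩

end Cfsg.Agent.S3021
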