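import Cfsg.Statements.S3023
import Cfsg.Agent.S2896
import Cfsg.Agent.Lib.Local.SubnormalSylow
import Cfsg.Agent.Lib.Local.StronglyEmbedded
-- import your own Cfsg.Agent.* helpers here

set_option autoImplicit false
open Cfsg

namespace Cfsg.Agent.S3023

/-- Let p be a prime, G a finite group of parabolic characteristic p (every p-local subgroup containing a Sylow p-subgroup of G has characteristic p), S a Sylow p-subgroup of G and G₁ a subnormal subgroup of G. If the centre of S ∩ G₁ is nontrivial and contained in the centre of S, then G₁ has parabolic characteristic p. -/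
theorem result {G : Type*} [Group G] [Finite G] {p : ℕ} [Fact p.Prime] (hG : Cfsg.IsOfParabolicCharacteristic p G) (S : Sylow p G) (G₁ : Subgroup G) (hsn : G₁.IsSubnormal) (hne : ((S : Subgroup G) ⊓ G₁) ⊓ Subgroup.centralizer (((S : Subgroup G) ⊓ G₁ : Subgroup G) : Set G) ≠ ⊥) (hle : ((S : Subgroup G) ⊓ G₁) ⊓ Subgroup.centralizer (((S : Subgroup G) ⊓ G₁ : Subgroup G) : Set G) ≤ (S : Subgroup G) ⊓ Subgroup.centralizer ((S : Subgroup G) : Set G)) : Cfsg.IsOfParabolicCharacteristic p ↥G₁ := by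
  classical
  have hdiv : p ∣ Nat.card G := by
    obtain ⟨x, hx, hxp⟩ := Cfsg.Lib.Local.exists_orderOf_prime_mem
      (S.2.to_le (inf_le_left.trans inf_le_left)) hne
    rw [← hxp]
    exact orderOf_dvd_natCard x
  obtain ⟨T₁, hT₁⟩ : ∃ T₁ : Sylow p ↥G₁, (T₁ : Subgroup ↥G₁) = (S : Subgroup G).subgroupOf G₁ :=
    ⟨S.2.comap_subtype.toSylow (Cfsg.Lib.Solv.not_dvd_relIndex_of_isSubnormal S hsn), rfl⟩
  refine Cfsg.Lib.Local.CharPCriteria.parabolic_of_centralizers T₁ fun z hzo hzT hz => ?_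
  rw [Cfsg.Lib.Local.charPIn_iff]
  have hzS : (z : G) ∈ (S : Subgroup G) ⊓ G₁ := by
    rw [hT₁] at hzT; exact ⟨hzT, z.2⟩
  have hzΩ : (z : G) ∈ Cfsg.omegaOne p ((S : Subgroup G) ⊓ Subgroup.centralizer ((S : Subgroup G) : Set G)) := by
    refine Subgroup.subset_closure ⟨hle ⟨hzS, Subgroup.mem_centralizer_iff.2 fun y hy => ?_⟩, ?_⟩
    · exact congrArg Subtype.val (hz ⟨y, hy.2⟩ (by rw [hT₁]; exact hy.1))
    · rw [← hzo, ← Subgroup.coe_pow, pow_orderOf_eq_one, Subgroup.coe_one]
  have hzne : (z : G) ≠ 1 := fun e => by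
    rw [OneMemClass.coe_eq_one] at e
    rw [e, orderOf_one] at hzo
    exact (Fact.out : p.Prime).one_lt.ne hzo
  have hC := ((Cfsg.Agent.S2896.result hdiv S ⊥ bot_le).2.1).1 hG (z : G) hzne hzΩ
  rw [Cfsg.Lib.Local.generalizedFitting_eq_pCore_iff] at hC
  set C : Subgroup G := Subgroup.centralizer ({(z : G)} : Set G) with hCdef
  have hsnC : (G₁.subgroupOf C).IsSubnormal := hsn.subgroupOf
  have h2 := Cfsg.Lib.Local.CharPCriteria.of_isSubnormal hsnC hC
  have e1 : (G₁.subgroupOf C).map C.subtype = (Subgroup.centralizer ({z} : Set ↥G₁)).map G₁.subtype := by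
    rw [Subgroup.subgroupOf_map_subtype]
    ext y
    constructor
    · rintro ⟨hy1, hy2⟩
      exact ⟨⟨y, hy1⟩, Subgroup.mem_centralizer_singleton_iff.2
        (Subtype.ext (Subgroup.mem_centralizer_singleton_iff.1 hy2)), rfl⟩
    · rintro ⟨y', hy', rfl⟩
      exact ⟨y'.2, Subgroup.mem_centralizer_singleton_iff.2
        (congrArg Subtype.val (Subgroup.mem_centralizer_singleton_iff.1 hy'))⟩
  exact Cfsg.Lib.Local.CharPCriteria.congr
    (((G₁.subgroupOf C).equivMapOfInjective _ C.subtype_injective).trans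
      ((MulEquiv.subgroupCongr e1).trans
        ((Subgroup.centralizer ({z} : Set ↥G₁)).equivMapOfInjective _ G₁.subtype_injective).symm)) h2

end Cfsg.Agent.S3023
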