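import Cfsg.Statements.S3025
import Cfsg.Agent.Lib.Core.PSolvable
import Cfsg.Agent.Lib.PGroup.SameOrderIso
import Mathlib.GroupTheory.SpecificGroups.Cyclic
-- import your own Cfsg.Agent.* helpers here

set_option autoImplicit false
open Cfsg

namespace Cfsg.Agent.S3025
open Subgroup

/-- Let F be a finite group and H a nontrivial subgroup of F that is contained in every nontrivial subgroup of F which H normalizes. Then F has a nontrivial normal subgroup N contained in every nontrivial normal subgroup of F (a unique minimal normal subgroup), N is simple, and one of the following holds: C_F(N) = 1; or H = N has prime order p, C_F(N) is cyclic of order a power of p, and F/C_F(N) is cyclic of order dividing p − 1; or H = N has order 2, N is central in F, and F is a generalized quaternion group. -/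
theorem result {F : Type*} [Group F] [Finite F] (H : Subgroup F) (hH : H ≠ ⊥)
    (hmin : ∀ R : Subgroup F, R ≠ ⊥ → H ≤ Subgroup.normalizer (R : Set F) → H ≤ R) :
    ∃ N : Subgroup F, N.Normal ∧ N ≠ ⊥ ∧ (∀ M : Subgroup F, M.Normal → M ≠ ⊥ → N ≤ M) ∧ IsSimpleGroup ↥N ∧
      (Subgroup.centralizer (N : Set F) = ⊥ ∨
       (H = N ∧ (Nat.card N).Prime ∧ IsCyclic ↥(Subgroup.centralizer (N : Set F)) ∧
          (∃ k : ℕ, 1 ≤ k ∧ Nat.card ↥(Subgroup.centralizer (N : Set F)) = Nat.card N ^ k) ∧
          (∃ g : F, Subgroup.centralizer (N : Set F) ⊔ Subgroup.zpowers g = ⊤) ∧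
          (Subgroup.centralizer (N : Set F)).index ∣ Nat.card N - 1) ∨
       (H = N ∧ Nat.card N = 2 ∧ Subgroup.centralizer (N : Set F) = ⊤ ∧
          ∃ k : ℕ, 1 ≤ k ∧ Nonempty (F ≃* QuaternionGroup (2 ^ k)))) := by
  classical
  haveI : Nontrivial F := by
    obtain ⟨x, hx, hx1⟩ := H.ne_bot_iff_exists_ne_one.1 hH |> fun ⟨x, hx⟩ =>
      (⟨(x : F), x.2, fun h => hx (Subtype.ext h)⟩ : ∃ x : F, x ∈ H ∧ x ≠ 1)
    exact ⟨⟨x, 1, hx1⟩⟩
  have hnorm : ∀ M : Subgroup F, M.Normal → M ≠ ⊥ → H ≤ M := fun M hM h1 =>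
    hmin M h1 (by haveI := hM; rw [normalizer_eq_top]; exact le_top)
  obtain ⟨N, hNn, hN1, hNmin⟩ := Cfsg.Lib.Core.exists_isMinNormal_univ (G := F)
  have huniq : ∀ M : Subgroup F, M.Normal → M ≠ ⊥ → N ≤ M := by
    intro M hM h1
    haveI := hM
    haveI := hNn
    rcases hNmin (N ⊓ M) inferInstance inf_le_left with h | h
    · exact absurd (le_bot_iff.1 ((le_inf (hnorm N hNn hN1) (hnorm M hM h1)).trans h.le)) hH
    · exact h ▸ inf_le_right
  have hHN : H ≤ N := hnorm N hNn hN1
  haveI hNt : Nontrivial N := (nontrivial_iff_ne_bot N).2 hN1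
  haveI := hNn
  -- simplicity
  have hsub : ∀ K : Subgroup N, K.Normal → K ≠ ⊥ → H ≤ K.map N.subtype := by
    intro K hK h1
    refine hmin _ (fun h => h1 ((map_eq_bot_iff_of_injective _ N.subtype_injective).1 h)) ?_
    refine hHN.trans (Cfsg.Lib.Core.le_normalizer_iff_conj_mem.mpr ?_)
    rintro g hg _ ⟨k, hk, rfl⟩
    exact ⟨⟨g, hg⟩ * k * ⟨g, hg⟩⁻¹, hK.conj_mem k hk _, rfl⟩
  obtain ⟨K₀, hK₀n, hK₀1, hK₀min⟩ := Cfsg.Lib.Core.exists_isMinNormal_univ (G := N)
  have hK₀le : ∀ K : Subgroup N, K.Normal → K ≠ ⊥ → K₀ ≤ K := by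
    intro K hK h1
    haveI := hK
    haveI := hK₀n
    rcases hK₀min (K₀ ⊓ K) inferInstance inf_le_left with h | h
    · have h2 : H ≤ (K₀ ⊓ K).map N.subtype := by
        rw [map_inf _ _ _ N.subtype_injective]
        exact le_inf (hsub _ hK₀n hK₀1) (hsub _ hK h1)
      rw [h, Subgroup.map_bot, le_bot_iff] at h2
      exact absurd h2 hH
    · exact h ▸ inf_le_right
  have hK₀F : (K₀.map N.subtype).Normal := by
    refine ⟨fun x hx g => ?_⟩
    obtain ⟨k, hk, rfl⟩ := hx
    refine ⟨MulAut.conjNormal g k, ?_, by simp⟩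
    haveI := hK₀n
    have hle := hK₀le (K₀.comap (MulAut.conjNormal g : N ≃* N).toMonoidHom) inferInstance fun h => hK₀1 (by
      rw [← map_comap_eq_self_of_surjective (f := (MulAut.conjNormal g : N ≃* N).toMonoidHom)
        (MulEquiv.surjective _) K₀, h, Subgroup.map_bot])
    exact hle hk
  have hK₀top : K₀ = ⊤ := by
    rw [eq_top_iff]
    intro x _
    obtain ⟨y, hy, hxy⟩ := huniq _ hK₀F
      (fun h => hK₀1 ((map_eq_bot_iff_of_injective _ N.subtype_injective).1 h)) x.2
    rwa [← Subtype.ext hxy]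
  haveI hsimple : IsSimpleGroup N := ⟨fun K hK => or_iff_not_imp_left.2 fun h =>
    eq_top_iff.2 (hK₀top ▸ hK₀le K hK h)⟩
  refine ⟨N, hNn, hN1, huniq, hsimple, ?_⟩
  set C := centralizer (N : Set F) with hC
  haveI hCn : C.Normal := inferInstance
  by_cases hC1 : C = ⊥
  · exact Or.inl hC1
  have hNC : N ≤ C := huniq C hCn hC1
  letI : CommGroup N :=
    { (inferInstance : Group N) with
      mul_comm := fun a b => Subtype.ext (mem_centralizer_iff.1 (hNC b.2) a a.2) }
  have hp : (Nat.card N).Prime := IsSimpleGroup.prime_card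
  have hHeq : H = N := by
    refine eq_of_le_of_card_ge hHN ?_
    rcases hp.eq_one_or_self_of_dvd _ (card_dvd_of_le hHN) with h | h
    · exact absurd (card_eq_one.1 h) hH
    · exact h.ge
  set p := Nat.card N with hpdef
  haveI : Fact p.Prime := ⟨hp⟩
  have hCR : ∀ R : Subgroup F, R ≤ C → R ≠ ⊥ → N ≤ R := by
    intro R hR h1
    refine hHeq ▸ hmin R h1 ?_
    intro x hx
    refine centralizer_le_normalizer _ (mem_centralizer_iff.2 fun r hr => ?_)
    exact (mem_centralizer_iff.1 (hR hr) x (hHN hx)).symm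
  have hCp : IsPGroup p C := by
    have hall : ∀ {q : ℕ}, q.Prime → q ∣ Nat.card C → q = p := by
      intro q hq hqd
      haveI : Fact q.Prime := ⟨hq⟩
      obtain ⟨x, hx⟩ := exists_prime_orderOf_dvd_card' (G := C) q hqd
      rw [← orderOf_coe] at hx
      have hle := hCR (zpowers (x : F)) (zpowers_le.2 x.2) fun h => by
        rw [zpowers_eq_bot] at h
        rw [h, orderOf_one] at hx
        exact hq.ne_one hx.symm
      have := card_dvd_of_le hle
      rw [Nat.card_zpowers, hx, ← hpdef, Nat.prime_dvd_prime_iff_eq hp hq] at this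
      exact this.symm
    exact IsPGroup.of_card (Nat.eq_prime_pow_of_unique_prime_dvd Nat.card_pos.ne' hall)
  have hCk : ∃ k : ℕ, 1 ≤ k ∧ Nat.card C = p ^ k := by
    obtain ⟨k, hk⟩ := hCp.exists_card_eq
    refine ⟨k, Nat.one_le_iff_ne_zero.2 fun h => ?_, hk⟩
    rw [h, pow_zero, card_eq_one] at hk
    exact hC1 hk
  have hCcases := Cfsg.Agent.S0016.result p hCp (fun A B hA hB => by
    have hmap : ∀ A : Subgroup C, Nat.card A = p → A.map C.subtype = N := fun A hA => by
      refine (eq_of_le_of_card_ge (hCR _ (map_subtype_le A) fun h => ?_) ?_).symm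
      · rw [map_eq_bot_iff_of_injective _ C.subtype_injective] at h
        rw [h, card_bot] at hA
        exact hp.ne_one hA.symm
      · rw [card_map_of_injective C.subtype_injective, hA]
    exact map_injective C.subtype_injective ((hmap A hA).trans (hmap B hB).symm))
  -- the quotient embeds into the automorphisms of `N`
  let f : F →* MulAut N := MulAut.conjNormal
  have hker : f.ker = C := by
    ext x
    rw [MonoidHom.mem_ker, hC, mem_centralizer_iff]
    constructor
    · intro h y hy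
      have h2 := congrArg Subtype.val (DFunLike.congr_fun h (⟨y, hy⟩ : N))
      simp only [f, MulAut.conjNormal_apply, MulAut.one_apply] at h2
      exact (mul_inv_eq_iff_eq_mul.1 h2).symm
    · intro h
      ext y
      simp only [f, MulAut.conjNormal_apply, MulAut.one_apply]
      rw [← h y y.2, mul_inv_cancel_right]
  haveI : IsCyclic N := isCyclic_of_prime_card (p := p) rfl
  let e : MulAut N ≃* (ZMod p)ˣ := IsCyclic.mulAutMulEquiv N
  haveI : IsCyclic (MulAut N) := isCyclic_of_surjective e.symm e.symm.surjective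
  have hindex : C.index ∣ p - 1 := by
    rw [← hker, index_ker]
    refine (card_subgroup_dvd_card f.range).trans ?_
    rw [Nat.card_congr e.toEquiv, Nat.card_eq_fintype_card, ZMod.card_units]
  have hgen : ∃ g : F, C ⊔ zpowers g = ⊤ := by
    haveI : IsCyclic f.range := Subgroup.isCyclic _
    obtain ⟨⟨_, g, rfl⟩, hg⟩ := IsCyclic.exists_generator (α := f.range)
    refine ⟨g, eq_top_iff.2 fun x _ => ?_⟩
    obtain ⟨i, hi⟩ := mem_zpowers_iff.1 (hg ⟨f x, x, rfl⟩)
    have hi' : f g ^ i = f x := congrArg Subtype.val hi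
    have hxk : x * (g ^ i)⁻¹ ∈ C := by
      rw [← hker, MonoidHom.mem_ker, map_mul, map_inv, map_zpow, hi', mul_inv_cancel]
    exact inv_mul_cancel_right x (g ^ i) ▸ mul_mem_sup hxk (zpow_mem (mem_zpowers g) i)
  rcases hCcases with hcyc | ⟨hp2, k, ⟨ek⟩⟩
  · exact Or.inr (Or.inl ⟨hHeq, hp, hcyc, hCk, hgen, hindex⟩)
  · rcases Nat.eq_zero_or_pos k with rfl | hk
    · haveI := Cfsg.Lib.PGroup.SameOrder.quaternion_card_four_cyclic
      exact Or.inr (Or.inl ⟨hHeq, hp, isCyclic_of_surjective ek.symm ek.symm.surjective, hCk,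
        hgen, hindex⟩)
    · have hCtop : C = ⊤ := index_eq_one.1 (Nat.dvd_one.1 (by simpa [hp2] using hindex))
      exact Or.inr (Or.inr ⟨hHeq, hp2, hCtop, k, hk,
        ⟨(topEquiv.symm.trans (MulEquiv.subgroupCongr hCtop.symm)).trans ek⟩⟩)

end Cfsg.Agent.S3025
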