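import Cfsg.Statements.S3027
import Cfsg.Agent.Lib.Core.Basic
-- import your own Cfsg.Agent.* helpers here

set_option autoImplicit false
open Cfsg

namespace Cfsg.Agent.S3027

/-- Let G be a finite group and D a normal subgroup of G such that G/D is perfect (that is, G = G′D). Then among the subnormal subgroups B of G with BD = G there is a least one, and it is normal in G. -/
theorem result {G : Type*} [Group G] [Finite G] (D : Subgroup G) [D.Normal] (hperf : ⁅(⊤ : Subgroup G), (⊤ : Subgroup G)⁆ ⊔ D = ⊤) :
    ∃ B : Subgroup G, B.Normal ∧ B ⊔ D = ⊤ ∧ ∀ B' : Subgroup G, B'.IsSubnormal → B' ⊔ D = ⊤ → B ≤ B' := by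
  classical
  set f := QuotientGroup.mk' D
  have hf : Function.Surjective f := QuotientGroup.mk'_surjective D
  have hsupp : ∀ B : Subgroup G, B ⊔ D = ⊤ ↔ B.map f = ⊤ := by
    intro B
    rw [← (Subgroup.comap_injective hf).eq_iff, Subgroup.comap_map_eq, QuotientGroup.ker_mk',
      Subgroup.comap_top]
  have hperf' : ⁅(⊤ : Subgroup (G ⧸ D)), (⊤ : Subgroup (G ⧸ D))⁆ = ⊤ := by
    have h := (hsupp _).mp hperf
    rwa [Subgroup.map_commutator, Subgroup.map_top_of_surjective f hf] at h
  have hcom : ∀ A B : Subgroup G, A ⊔ D = ⊤ → B ⊔ D = ⊤ → ∀ C : Subgroup G, ⁅A, B⁆ ≤ C →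
      C ⊔ D = ⊤ := by
    intro A B hA hB C hC
    refine (hsupp C).mpr (top_le_iff.mp ?_)
    rw [← hperf']
    conv_lhs => rw [← (hsupp A).mp hA]
    conv_lhs => arg 2; rw [(hsupp A).mp hA, ← (hsupp B).mp hB]
    rw [← Subgroup.map_commutator]
    exact Subgroup.map_mono hC
  -- every subnormal supplement contains a normal supplement
  have hnormal : ∀ B : Subgroup G, B.IsSubnormal → B ⊔ D = ⊤ →
      ∃ N : Subgroup G, N.Normal ∧ N ⊔ D = ⊤ ∧ N ≤ B := by
    intro B hB
    induction hB with
    | top => exact fun _ => ⟨⊤, inferInstance, top_sup_eq _, le_rfl⟩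
    | step B K hle hK hBK ih =>
      intro hBD
      obtain ⟨N, hN, hND, hNK⟩ := ih (top_le_iff.mp (hBD.ge.trans (sup_le_sup_right hle D)))
      have hKB : K ≤ Subgroup.normalizer (B : Set G) :=
        (Subgroup.normal_subgroupOf_iff_le_normalizer hle).mp hBK
      have hBN : B ≤ Subgroup.normalizer (N : Set G) :=
        le_top.trans (Subgroup.normalizer_eq_top_iff.mpr hN).ge
      have hNB : N ≤ Subgroup.normalizer (B : Set G) := hNK.trans hKB
      set M := N ⊓ B
      have hM : M ⊔ D = ⊤ := hcom N B hND hBD M (le_inf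
        (Subgroup.le_normalizer_iff_commutator_le_left.mp hBN)
        ((Subgroup.commutator_comm N B).trans_le (Subgroup.le_normalizer_iff_commutator_le_left.mp hNB)))
      have hNM : N ≤ Subgroup.normalizer (M : Set G) :=
        (le_inf Subgroup.le_normalizer hNB).trans Subgroup.inf_normalizer_le_normalizer_inf
      have key : ∀ s : Finset G, (N ⊓ s.inf fun g => M.map (MulAut.conj g).toMonoidHom) ⊔ D = ⊤ ∧
          N ≤ Subgroup.normalizer
            (((N ⊓ s.inf fun g => M.map (MulAut.conj g).toMonoidHom) : Subgroup G) : Set G) := by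
        intro s
        induction s using Finset.induction with
        | empty => simpa using ⟨hND, Subgroup.le_normalizer⟩
        | insert g s _ ih2 =>
          rw [Finset.inf_insert]
          set I := N ⊓ s.inf fun g => M.map (MulAut.conj g).toMonoidHom
          set Mg := M.map (MulAut.conj g).toMonoidHom
          have hMgD : Mg ⊔ D = ⊤ := by
            have h := congrArg (Subgroup.map (MulAut.conj g).toMonoidHom) hM
            rw [Subgroup.map_sup, (Lib.Core.normal_iff_map_conj (H := D)).mp inferInstance g,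
              Subgroup.map_top_of_surjective _ (MulAut.conj g).surjective] at h
            exact h
          have hMgN : N ≤ Subgroup.normalizer (Mg : Set G) := by
            have h := Subgroup.map_mono (f := (MulAut.conj g).toMonoidHom) hNM
            rw [Lib.Core.normal_iff_map_conj.mp hN g] at h
            exact h.trans (Subgroup.le_normalizer_map _)
          have hIN : I ≤ N := inf_le_left
          have hMgN' : Mg ≤ N := by
            have h := Subgroup.map_mono (f := (MulAut.conj g).toMonoidHom) (inf_le_left : M ≤ N)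
            rwa [Lib.Core.normal_iff_map_conj.mp hN g] at h
          have heq : (N ⊓ (Mg ⊓ s.inf fun g => M.map (MulAut.conj g).toMonoidHom)) = Mg ⊓ I := by
            show N ⊓ (Mg ⊓ _) = Mg ⊓ (N ⊓ _)
            rw [← inf_assoc, inf_comm N Mg, inf_assoc]
          rw [heq]
          refine ⟨hcom Mg I hMgD ih2.1 _ (le_inf ?_ ?_),
            (le_inf hMgN ih2.2).trans Subgroup.inf_normalizer_le_normalizer_inf⟩
          · exact Subgroup.le_normalizer_iff_commutator_le_left.mp (hIN.trans hMgN)
          · exact (Subgroup.commutator_comm Mg I).trans_le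
              (Subgroup.le_normalizer_iff_commutator_le_left.mp (hMgN'.trans ih2.2))
      haveI := Fintype.ofFinite G
      refine ⟨N ⊓ Finset.univ.inf fun g => M.map (MulAut.conj g).toMonoidHom, ?_, (key _).1, ?_⟩
      · refine ⟨fun x hx a => ⟨hN.conj_mem x hx.1 a, ?_⟩⟩
        show a * x * a⁻¹ ∈ Finset.univ.inf fun g => M.map (MulAut.conj g).toMonoidHom
        rw [Finset.inf_eq_iInf]
        simp only [Finset.mem_univ, iInf_pos, Subgroup.mem_iInf]
        intro g
        have h1 : x ∈ M.map (MulAut.conj (a⁻¹ * g)).toMonoidHom :=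
          SetLike.coe_subset_coe.mpr (Finset.inf_le (f := fun g => M.map (MulAut.conj g).toMonoidHom)
            (Finset.mem_univ (a⁻¹ * g))) hx.2
        rw [Lib.Core.mem_map_conj] at h1 ⊢
        convert h1 using 1
        group
      · refine le_trans (inf_le_right.trans (Finset.inf_le (Finset.mem_univ 1))) ?_
        rw [Lib.Core.map_conj_eq_of_mem_normalizer (one_mem _)]
        exact inf_le_right
  obtain ⟨B, ⟨hBn, hBD⟩, hmin⟩ :=
    (Set.toFinite {B : Subgroup G | B.Normal ∧ B ⊔ D = ⊤}).exists_minimal
      ⟨⊤, inferInstanceAs (⊤ : Subgroup G).Normal, top_sup_eq _⟩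
  refine ⟨B, hBn, hBD, fun B' hB' hB'D => ?_⟩
  obtain ⟨N, hN, hND, hNB⟩ := hnormal B' hB' hB'D
  have hBN : (B ⊓ N).Normal ∧ (B ⊓ N) ⊔ D = ⊤ := by
    haveI := hBn
    haveI := hN
    refine ⟨Subgroup.normal_inf_normal B N, hcom B N hBD hND _ (le_inf
      (Subgroup.commutator_le_left B N) (Subgroup.commutator_le_right B N))⟩
  exact (hmin hBN inf_le_left).trans (inf_le_right.trans hNB)

end Cfsg.Agent.S3027
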