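import Cfsg.Statements.S3033
import Cfsg.Agent.Lib.Solv.Supersolvable
import Cfsg.Agent.Lib.Fusion.Alperin
import Cfsg.Agent.Lib.Core.PSolvable
import Cfsg.Agent.Lib.FusionSys.Criterion
-- import your own Cfsg.Agent.* helpers here

set_option autoImplicit false
open Cfsg

namespace Cfsg.Agent.S3033

universe u

/-- The hypothesis of the statement. -/
def Hyp (G : Type u) [Group G] : Prop :=
  ∀ (p q : ℕ), p.Prime → q.Prime → p ≠ q → ∀ (x g : G), (∃ a : ℕ, orderOf x = p ^ a) →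
    (∃ b : ℕ, orderOf g = q ^ b) →
      ¬ q ^ 2 ∣ Nat.card ↥(Subgroup.zpowers x ⊔ Subgroup.zpowers (g * x * g⁻¹))

theorem pow_of_pow_eq_one {G : Type*} [Monoid G] {p : ℕ} (hp : p.Prime) {x : G} {k : ℕ} (h : x ^ p ^ k = 1) :
    ∃ a : ℕ, orderOf x = p ^ a := by
  obtain ⟨a, -, ha⟩ := (Nat.dvd_prime_pow hp).1 (orderOf_dvd_of_pow_eq_one h)
  exact ⟨a, ha⟩

theorem lift {G H : Type*} [Group G] [Finite G] [Group H] (f : G →* H) (hf : Function.Surjective f)
    {p : ℕ} [Fact p.Prime] {y : H} {a : ℕ} (hy : orderOf y = p ^ a) :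
    ∃ x : G, f x = y ∧ ∃ b : ℕ, orderOf x = p ^ b := by
  obtain ⟨x, rfl⟩ := hf y
  obtain ⟨m, ⟨k, hk⟩, hm⟩ := Cfsg.Lib.FusionSys.exists_pPart (p := p) x (isOfFinOrder_of_finite x) a
  refine ⟨x ^ m, ?_, pow_of_pow_eq_one Fact.out hk⟩
  rw [map_pow]
  conv_rhs => rw [← pow_one (f x)]
  rw [pow_eq_pow_iff_modEq, hy]
  exact hm

theorem Hyp.of_surjective {G H : Type u} [Group G] [Finite G] [Group H] (h : Hyp G) (f : G →* H)
    (hf : Function.Surjective f) : Hyp H := by
  intro p q hp hq hpq x g ⟨a, ha⟩ ⟨b, hb⟩ hd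
  haveI := Fact.mk hp
  haveI := Fact.mk hq
  obtain ⟨x', rfl, hx'⟩ := lift f hf ha
  obtain ⟨g', rfl, hg'⟩ := lift f hf hb
  refine h p q hp hq hpq x' g' hx' hg' (hd.trans ?_)
  have e : Subgroup.zpowers (f x') ⊔ Subgroup.zpowers (f g' * f x' * (f g')⁻¹) =
      (Subgroup.zpowers x' ⊔ Subgroup.zpowers (g' * x' * g'⁻¹)).map f := by
    rw [Subgroup.map_sup, MonoidHom.map_zpowers, MonoidHom.map_zpowers]
    simp
  rw [e]
  exact Subgroup.card_map_dvd _ f

theorem Hyp.subgroup {G : Type u} [Group G] (h : Hyp G) (K : Subgroup G) : Hyp ↥K := by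
  intro p q hp hq hpq x g ⟨a, ha⟩ ⟨b, hb⟩ hd
  refine h p q hp hq hpq x g ⟨a, by rw [Subgroup.orderOf_coe, ha]⟩ ⟨b, by rw [Subgroup.orderOf_coe, hb]⟩ ?_
  have e : Subgroup.zpowers (x : G) ⊔ Subgroup.zpowers ((g : G) * x * (g : G)⁻¹) =
      (Subgroup.zpowers x ⊔ Subgroup.zpowers (g * x * g⁻¹)).map K.subtype := by
    rw [Subgroup.map_sup, MonoidHom.map_zpowers, MonoidHom.map_zpowers]
    simp
  rwa [e, Subgroup.card_map_of_injective K.subtype_injective]

/-- The key consequence of the hypothesis. -/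
theorem line {G : Type u} [Group G] [Finite G] (h : Hyp G) {p q : ℕ} (hp : p.Prime) (hq : q.Prime) (hpq : p ≠ q)
    {Q : Subgroup G} (hQ : IsPGroup q Q) {x : G} (hx : ∃ a : ℕ, orderOf x = p ^ a)
    (hn : ∀ g ∈ Q, x * g * x⁻¹ ∈ Q) {g : G} (hg : g ∈ Q) :
    (g * x * g⁻¹ * x⁻¹) ^ q = 1 ∧ ∃ i : ℕ, x * (g * x * g⁻¹ * x⁻¹) * x⁻¹ = (g * x * g⁻¹ * x⁻¹) ^ i := by
  haveI := Fact.mk hq
  set u := g * x * g⁻¹ * x⁻¹ with hu
  set L := Subgroup.zpowers x ⊔ Subgroup.zpowers (g * x * g⁻¹) with hL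
  have hxL : x ∈ L := Subgroup.mem_sup_left (Subgroup.mem_zpowers x)
  have huQ : u ∈ Q := by
    rw [hu, show g * x * g⁻¹ * x⁻¹ = g * (x * g⁻¹ * x⁻¹) by group]
    exact Q.mul_mem hg (hn _ (Q.inv_mem hg))
  have huL : u ∈ L := L.mul_mem (Subgroup.mem_sup_right (Subgroup.mem_zpowers _)) (L.inv_mem hxL)
  obtain ⟨b, hb⟩ := IsPGroup.iff_orderOf.1 hQ ⟨g, hg⟩
  rw [Subgroup.orderOf_mk] at hb
  have hno := h p q hp hq hpq x g hx ⟨b, hb⟩
  obtain ⟨j, hj⟩ := IsPGroup.iff_card.1 (hQ.to_le (inf_le_left : Q ⊓ L ≤ Q))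
  have hj1 : j ≤ 1 := by
    by_contra hj'
    exact hno ((pow_dvd_pow q (show 2 ≤ j by omega)).trans (hj ▸ Subgroup.card_dvd_of_le inf_le_right))
  have hpw : ∀ w ∈ Q ⊓ L, w ^ q = 1 := by
    intro w hw
    have h1 : orderOf w ∣ q := by
      rw [← Subgroup.orderOf_mk w hw]
      exact (orderOf_dvd_natCard _).trans (hj ▸ (pow_dvd_pow q hj1).trans (by rw [pow_one]))
    exact orderOf_dvd_iff_pow_eq_one.1 h1
  refine ⟨hpw u ⟨huQ, huL⟩, ?_⟩
  by_cases hu1 : u = 1
  · exact ⟨0, by simp [hu1]⟩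
  have hcard : Nat.card ↥(Q ⊓ L) = q := by
    rcases j with - | - | j
    · exact absurd (Subgroup.mem_bot.1 (Subgroup.card_eq_one.1 (hj.trans (pow_zero q)) ▸ ⟨huQ, huL⟩)) hu1
    · rw [hj, zero_add, pow_one]
    · omega
  have hw : x * u * x⁻¹ ∈ Q ⊓ L := ⟨hn u huQ, L.mul_mem (L.mul_mem hxL huL) (L.inv_mem hxL)⟩
  obtain ⟨i, hi⟩ := (Submonoid.mem_powers_iff _ _).1 (mem_powers_iff_mem_zpowers.2
    (mem_zpowers_of_prime_card hcard (g := (⟨u, huQ, huL⟩ : ↥(Q ⊓ L))) (g' := ⟨_, hw⟩)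
      (fun e => hu1 (congrArg Subtype.val e))))
  exact ⟨i, (congrArg Subtype.val hi).symm⟩

theorem eq_top' {G : Type*} [Group G] [Finite G] (H : Subgroup G)
    (h : ∀ p : ℕ, p.Prime → ∃ P : Sylow p G, (P : Subgroup G) ≤ H) : H = ⊤ := by
  refine Subgroup.eq_top_of_card_eq H (Nat.dvd_antisymm (Subgroup.card_subgroup_dvd_card H) ?_)
  rw [Nat.dvd_iff_prime_pow_dvd_dvd]
  intro p k hp hk
  haveI := Fact.mk hp
  obtain ⟨P, hle⟩ := h p hp
  refine dvd_trans ?_ (Subgroup.card_dvd_of_le hle)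
  rw [Sylow.card_eq_multiplicity]
  exact pow_dvd_pow p ((hp.pow_dvd_iff_le_factorization Nat.card_pos.ne').1 hk)

theorem eq_top {G : Type*} [Group G] [Finite G] (H : Subgroup G)
    (h : ∀ g : G, ∀ p a : ℕ, p.Prime → orderOf g = p ^ a → g ∈ H) : H = ⊤ := by
  refine eq_top' H fun p hp => ?_
  haveI := Fact.mk hp
  obtain ⟨P⟩ : Nonempty (Sylow p G) := inferInstance
  refine ⟨P, fun g hg => ?_⟩
  obtain ⟨a, ha⟩ := IsPGroup.iff_orderOf.1 P.2 ⟨g, hg⟩
  exact h g p a hp (by rwa [Subgroup.orderOf_mk] at ha)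

/-- Frobenius' criterion. -/
theorem complement {G : Type u} [Group G] [Finite G] (h : Hyp G) (q : ℕ) [Fact q.Prime]
    (hcomm : ∀ p : ℕ, p.Prime → p ≠ q → p ∣ Nat.card G → ∀ x u : G, (∃ a : ℕ, orderOf x = p ^ a) →
      orderOf u = q → (∃ i : ℕ, x * u * x⁻¹ = u ^ i) → x * u * x⁻¹ = u) :
    Cfsg.HasNormalPComplement q G := by
  obtain ⟨P⟩ : Nonempty (Sylow q G) := inferInstance
  refine Cfsg.Lib.Fusion.hasNormalPComplement_of_tame P fun R _ x hx hxq => ?_
  set D := (P : Subgroup G) ⊓ (R : Subgroup G) with hD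
  have hDq : IsPGroup q D := (P.2 : IsPGroup q (P : Subgroup G)).to_le inf_le_left
  suffices hs : (Subgroup.centralizer (D : Set G)).subgroupOf (Subgroup.zpowers x) = ⊤ from
    Subgroup.subgroupOf_eq_top.1 hs (Subgroup.mem_zpowers x)
  refine eq_top _ fun y p a hp hy => ?_
  rw [Subgroup.mem_subgroupOf, Subgroup.mem_centralizer_iff]
  intro g hg
  obtain ⟨y, hyx⟩ := y
  rw [Subgroup.orderOf_mk] at hy
  show g * y = y * g
  rcases eq_or_ne a 0 with rfl | ha
  · rw [pow_zero, orderOf_eq_one_iff] at hy; simp [hy]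
  have hdvd : orderOf y ∣ orderOf x := by
    obtain ⟨k, rfl⟩ := Subgroup.mem_zpowers_iff.1 hyx
    rw [← Nat.card_zpowers, ← Nat.card_zpowers]
    exact Subgroup.card_dvd_of_le (Subgroup.zpowers_le.2 hyx)
  have hpq : p ≠ q := by
    intro e
    subst e
    exact hp.ne_one (Nat.eq_one_of_dvd_coprimes hxq ((hy ▸ dvd_pow_self p ha).trans hdvd) dvd_rfl)
  have hyN : y ∈ Subgroup.normalizer (D : Set G) := (Subgroup.zpowers_le.2 hx) hyx
  have hn : ∀ w ∈ D, y * w * y⁻¹ ∈ D := fun w hw => (Subgroup.mem_normalizer_iff.1 hyN w).1 hw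
  obtain ⟨hv, i, hi⟩ := line h hp Fact.out hpq hDq ⟨a, hy⟩ hn (D.inv_mem hg)
  rw [inv_inv] at hv hi
  set v := g⁻¹ * y * g * y⁻¹ with hvdef
  have hfix : y * v * y⁻¹ = v := by
    by_cases hv1 : v = 1
    · rw [hv1]; group
    · exact hcomm p hp hpq ((hy ▸ dvd_pow_self p ha).trans (orderOf_dvd_natCard y)) y v ⟨a, hy⟩
        (orderOf_eq_prime hv hv1) ⟨i, hi⟩
  have hn' : ∀ n : ℕ, y ^ n * g * (y ^ n)⁻¹ = g * v ^ n := by
    intro n
    induction n with
    | zero => simp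
    | succ n ih =>
      calc y ^ (n + 1) * g * (y ^ (n + 1))⁻¹ = y * (y ^ n * g * (y ^ n)⁻¹) * y⁻¹ := by rw [pow_succ']; group
        _ = (y * g * y⁻¹) * (y * v * y⁻¹) ^ n := by rw [ih, conj_pow]; group
        _ = g * v * v ^ n := by rw [hfix, show y * g * y⁻¹ = g * v by rw [hvdef]; group]
        _ = _ := by rw [mul_assoc, ← pow_succ']
  have h1 := hn' (orderOf y)
  rw [pow_orderOf_eq_one, one_mul, inv_one, mul_one, eq_comm, mul_eq_left, hy] at h1
  have hv1 : v = 1 := orderOf_eq_one_iff.1 (Nat.eq_one_of_dvd_coprimes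
    (((Nat.coprime_primes hp Fact.out).2 hpq).pow_left a) (orderOf_dvd_of_pow_eq_one h1) (orderOf_dvd_of_pow_eq_one hv))
  have h2 : g⁻¹ * y * g * y⁻¹ = 1 := hv1
  calc g * y = g * (g⁻¹ * y * g * y⁻¹) * y := by rw [h2, mul_one]
    _ = y * g := by group

/-- The smallest prime divisor gives a normal complement, so `G` is solvable. -/
theorem solvable {G : Type u} [Group G] [Finite G] [Nontrivial G] (h : Hyp G)
    (ih : ∀ K : Subgroup G, K ≠ ⊤ → Group.IsSolvable K) : Group.IsSolvable G := by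
  set q := (Nat.card G).minFac with hq
  haveI : Fact q.Prime := ⟨Nat.minFac_prime Finite.one_lt_card.ne'⟩
  have hc : Cfsg.HasNormalPComplement q G := by
    refine complement h q fun p hp hpq hpd x u ⟨a, ha⟩ hu ⟨i, hi⟩ => ?_
    have hlt : q < p := lt_of_le_of_ne (Nat.minFac_le_of_dvd hp.two_le hpd) (Ne.symm hpq)
    have hn : ∀ n : ℕ, x ^ n * u * (x ^ n)⁻¹ = u ^ i ^ n := by
      intro n
      induction n with
      | zero => simp
      | succ n ih =>
        calc x ^ (n + 1) * u * (x ^ (n + 1))⁻¹ = x * (x ^ n * u * (x ^ n)⁻¹) * x⁻¹ := by rw [pow_succ']; group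
          _ = (x * u * x⁻¹) ^ i ^ n := by rw [ih, conj_pow]
          _ = _ := by rw [hi, ← pow_mul, pow_succ']
    have h1 := hn (orderOf x)
    rw [pow_orderOf_eq_one, one_mul, inv_one, mul_one, eq_comm] at h1
    conv_rhs at h1 => rw [← pow_one u]
    rw [pow_eq_pow_iff_modEq, hu, ha, ← ZMod.natCast_eq_natCast_iff, Nat.cast_pow, Nat.cast_one] at h1
    have hi1 : (i : ZMod q) = 1 := by
      have hne : (i : ZMod q) ≠ 0 := by
        intro e
        rw [e, zero_pow (pow_ne_zero a hp.ne_zero)] at h1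
        exact zero_ne_one h1
      have h2 : orderOf (i : ZMod q) ∣ q - 1 := orderOf_dvd_of_pow_eq_one (ZMod.pow_card_sub_one_eq_one hne)
      refine orderOf_eq_one_iff.1 (Nat.eq_one_of_dvd_coprimes ?_ (orderOf_dvd_of_pow_eq_one h1) h2)
      refine (hp.coprime_iff_not_dvd.2 fun hd => ?_).pow_left a
      have := Nat.le_of_dvd (by have := (Fact.out : q.Prime).two_le; omega) hd
      omega
    rw [← Nat.cast_one, ZMod.natCast_eq_natCast_iff] at hi1
    rw [hi]
    conv_rhs => rw [← pow_one u]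
    rwa [pow_eq_pow_iff_modEq, hu]
  set K := Cfsg.pResidual q G
  have hK : K ≠ ⊤ := by
    intro e
    have h1 := (Cfsg.Lib.Fusion.hasNormalPComplement_iff_coprime.1 hc)
    rw [show Cfsg.pResidual q G = ⊤ from e, Subgroup.card_top] at h1
    exact (Fact.out : q.Prime).ne_one (Nat.eq_one_of_dvd_coprimes h1 (Nat.minFac_dvd _) dvd_rfl)
  haveI := ih K hK
  haveI : Group.IsNilpotent (G ⧸ K) := (Cfsg.Lib.Fusion.isPGroup_quotient_pResidual (p := q)).isNilpotent
  exact Group.isSolvable_of_ker_le_range K.subtype (QuotientGroup.mk' K) (by simp [K])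

section Action

variable {N : Type u} [Group N] {r : ℕ} [Fact r.Prime]

/-- `f` satisfies `(f - 1)(f - k) = 0`. -/
def Quad (f : MulAut N) (k : ℕ) : Prop := ∀ v : N, f (f v * v⁻¹) = (f v * v⁻¹) ^ k

theorem pe (hexp : ∀ v : N, v ^ r = 1) {w : N} (hw : w ≠ 1) {a b : ℕ} :
    w ^ a = w ^ b ↔ (a : ZMod r) = (b : ZMod r) := by
  rw [pow_eq_pow_iff_modEq, orderOf_eq_prime (hexp w) hw, ZMod.natCast_eq_natCast_iff]

theorem Quad.conj {f y : MulAut N} {k : ℕ} (h : Quad f k) : Quad (y * f * y⁻¹) k := by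
  intro v
  have e : ∀ w : N, (y * f * y⁻¹) (y w) = y (f w) := fun w => by simp
  obtain ⟨v, rfl⟩ := y.surjective v
  rw [e v, ← map_inv, ← map_mul, e, h v, map_pow]

variable (hexp : ∀ v : N, v ^ r = 1) (hcomm : ∀ a b : N, a * b = b * a)

include hexp hcomm in
theorem pow_apply {f : MulAut N} {k : ℕ} (h : Quad f k) (v : N) :
    ∀ n : ℕ, (f ^ n) v = v * (f v * v⁻¹) ^ (∑ i ∈ Finset.range n, k ^ i) ∧
      (f ^ n) (f v * v⁻¹) = (f v * v⁻¹) ^ (k ^ n) := by
  intro n
  induction n with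
  | zero => simp
  | succ n ih =>
    have e : f (f v * v⁻¹) = (f v * v⁻¹) ^ k := h v
    have e2 : f v = v * (f v * v⁻¹) := by rw [hcomm (f v) v⁻¹, mul_inv_cancel_left]
    constructor
    · rw [pow_succ', MulAut.mul_apply, ih.1, map_mul, map_pow, e, ← pow_mul, Finset.sum_range_succ',
        pow_zero, pow_add, pow_one, hcomm ((f v * v⁻¹) ^ _) (f v * v⁻¹), ← mul_assoc, ← e2, Finset.mul_sum]
      simp [pow_succ']
    · rw [pow_succ', MulAut.mul_apply, ih.2, map_pow, e, ← pow_mul, pow_succ']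

include hexp hcomm in
theorem k_ne_one {f : MulAut N} {k n : ℕ} (h : Quad f k) (hn : f ^ n = 1) (hrn : ¬ r ∣ n) (hf : f ≠ 1) :
    (k : ZMod r) ≠ 1 := by
  intro hk
  refine hf (MulEquiv.ext fun v => ?_)
  have h1 := (pow_apply hexp hcomm h v n).1
  rw [hn, MulAut.one_apply, left_eq_mul] at h1
  by_contra hv
  have hw : f v * v⁻¹ ≠ 1 := fun e => hv (mul_inv_eq_one.1 e)
  rw [← pow_zero (f v * v⁻¹), pe hexp hw] at h1
  push_cast [hk] at h1
  simp only [one_pow, Finset.sum_const, Finset.card_range, nsmul_eq_mul, mul_one] at h1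
  exact hrn ((ZMod.natCast_eq_zero_iff n r).1 h1)

include hexp hcomm in
/-- An element normalizing the group of `u` centralizes it. -/
theorem pow_eq_self {u y : MulAut N} {k m n : ℕ} (h : Quad u k) (hn : u ^ n = 1) (hrn : ¬ r ∣ n)
    (hy : y * u * y⁻¹ = u ^ m) : u ^ m = u := by
  by_cases hu : u = 1
  · simp [hu]
  obtain ⟨v₀, hv₀⟩ : ∃ v, u v * v⁻¹ ≠ 1 := by
    by_contra hc
    push Not at hc
    exact hu (MulEquiv.ext fun v => mul_inv_eq_one.1 (hc v))
  have hk := k_ne_one hexp hcomm h hn hrn hu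
  have hK : ((k : ZMod r) ^ m - 1) * ((k : ZMod r) ^ m - k) = 0 := by
    set w := u v₀ * v₀⁻¹
    have h2 := h.conj (y := y) w
    rw [hy, (pow_apply hexp hcomm h v₀ m).2] at h2
    rw [show (w ^ k ^ m * w⁻¹) = w ^ (k ^ m + (r - 1)) by
      rw [pow_add, eq_comm]; congr 1
      rw [eq_inv_iff_mul_eq_one, ← pow_succ, Nat.sub_add_cancel (Fact.out : r.Prime).one_le, hexp]] at h2
    rw [map_pow, (pow_apply hexp hcomm h v₀ m).2, ← pow_mul, ← pow_mul, pe hexp hv₀] at h2
    push_cast [Nat.cast_sub (Fact.out : r.Prime).one_le] at h2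
    rw [ZMod.natCast_self] at h2
    linear_combination h2
  have hgeom : (∑ i ∈ Finset.range m, (k : ZMod r) ^ i) * ((k : ZMod r) - 1) = (k : ZMod r) ^ m - 1 :=
    geom_sum_mul _ m
  rcases mul_eq_zero.1 hK with e | e
  · exfalso
    have h0 : (∑ i ∈ Finset.range m, (k : ZMod r) ^ i) = 0 :=
      (mul_eq_zero.1 (hgeom.trans e)).resolve_right (sub_ne_zero.2 hk)
    have hm1 : u ^ m = 1 := by
      refine MulEquiv.ext fun v => ?_
      rw [(pow_apply hexp hcomm h v m).1, MulAut.one_apply, mul_eq_left]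
      by_cases hw : u v * v⁻¹ = 1
      · rw [hw, one_pow]
      · rw [← pow_zero (u v * v⁻¹), pe hexp hw]
        push_cast
        exact h0
    rw [hm1, conj_eq_one_iff] at hy
    exact hu hy
  · have h0 : (∑ i ∈ Finset.range m, (k : ZMod r) ^ i) = 1 := by
      refine mul_right_cancel₀ (sub_ne_zero.2 hk) ?_
      rw [hgeom, one_mul]
      linear_combination e
    refine MulEquiv.ext fun v => ?_
    rw [(pow_apply hexp hcomm h v m).1]
    by_cases hw : u v * v⁻¹ = 1
    · rw [hw, one_pow, mul_one, mul_inv_eq_one.1 hw]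
    · conv_rhs => rw [← inv_mul_cancel_right (u v) v, hcomm]
      congr 1
      conv_rhs => rw [← pow_one (u v * v⁻¹)]
      rw [pe hexp hw]
      push_cast
      exact h0

include hexp hcomm in
/-- A quadratic element with a scalar multiple in its class is an involution. -/
theorem sq_eq_one {x y u : MulAut N} {k μ n : ℕ} (hu : ∀ v, u v = v ^ μ) (hμ : (μ : ZMod r) ≠ 1)
    (hx : Quad x k) (hn : x ^ n = 1) (hrn : ¬ r ∣ n) (hy : y * x * y⁻¹ = u * x)
    (hns : ¬ ∀ v, x v = v ^ k) : x * x = 1 ∧ u * u = 1 := by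
  have hx1 : x ≠ 1 := by
    rintro rfl
    rw [mul_one, mul_one, mul_inv_cancel] at hy
    obtain ⟨v, hv⟩ := not_forall.1 hns
    refine hμ ?_
    have hv1 : v ≠ 1 := fun e => hv (by simp [e])
    have := hu v
    rw [← hy, MulAut.one_apply] at this
    conv_lhs at this => rw [← pow_one v]
    rw [pe hexp hv1] at this
    simpa using this.symm
  have hk := k_ne_one hexp hcomm hx hn hrn hx1
  obtain ⟨v, hv⟩ := not_forall.1 hns
  set z := x v * (v ^ k)⁻¹ with hz
  have hz1 : z ≠ 1 := fun e => hv (mul_inv_eq_one.1 e)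
  have hxz : x z = z := by
    have e := hx v
    rw [map_mul, map_inv, (show Commute (x v) v⁻¹ from hcomm _ _).mul_pow, mul_inv_eq_iff_eq_mul] at e
    rw [hz, map_mul, map_inv, map_pow, e, inv_pow, hcomm _ (x v), ← mul_assoc, mul_assoc,
      mul_assoc, hcomm (v ^ k)⁻¹, mul_inv_cancel_left]
  obtain ⟨v', hv'⟩ : ∃ v', x v' * v'⁻¹ ≠ 1 := by
    by_contra hc
    push Not at hc
    exact hx1 (MulEquiv.ext fun v => mul_inv_eq_one.1 (hc v))
  set w := x v' * v'⁻¹ with hw
  have hxw : x w = w ^ k := hx v'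
  have hq := hx.conj (y := y)
  rw [hy] at hq
  have hgen : ∀ (t : N) (c : ℕ), t ≠ 1 → x t = t ^ c →
      ((μ : ZMod r) * c - 1) * ((μ : ZMod r) * c - k) = 0 := by
    intro t c ht hxt
    have e : ∀ j : ℕ, (u * x) (t ^ j) = t ^ (μ * c * j) := fun j => by
      rw [map_pow, MulAut.mul_apply, hxt, hu, ← pow_mul, ← pow_mul]
      ring_nf
    have h2 := hq t
    have e1 : (u * x) t * t⁻¹ = t ^ (μ * c + (r - 1)) := by
      rw [pow_add]
      congr 1
      · simpa using e 1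
      · rw [inv_eq_iff_mul_eq_one, ← pow_succ', Nat.sub_add_cancel (Fact.out : r.Prime).one_le, hexp]
    rw [e1, e, ← pow_mul, pe hexp ht] at h2
    push_cast [Nat.cast_sub (Fact.out : r.Prime).one_le] at h2
    rw [ZMod.natCast_self] at h2
    linear_combination h2
  have hμk : (μ : ZMod r) = k := by
    rcases mul_eq_zero.1 (hgen z 1 hz1 (by rw [pow_one, hxz])) with e | e
    · exact absurd (sub_eq_zero.1 (by simpa using e)) hμ
    · exact sub_eq_zero.1 (by simpa using e)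
  have hk0 : (k : ZMod r) ≠ 0 := by
    intro e
    rw [← Nat.cast_zero, ← pe hexp hv', ← hxw, pow_zero] at e
    exact hv' (x.injective (e.trans (map_one x).symm))
  have hk2 : (k : ZMod r) * k = 1 := by
    rcases mul_eq_zero.1 (hgen w k hv' hxw) with e | e
    · rw [hμk] at e; exact sub_eq_zero.1 e
    · exfalso
      refine hμ ?_
      have h3 : ((μ : ZMod r) - 1) * k = 0 := by linear_combination e
      exact sub_eq_zero.1 ((mul_eq_zero.1 h3).resolve_right hk0)
  have hk' : (k : ZMod r) = -1 := by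
    have h3 : ((k : ZMod r) - 1) * (k + 1) = 0 := by linear_combination hk2
    exact eq_neg_of_add_eq_zero_left ((mul_eq_zero.1 h3).resolve_left (sub_ne_zero.2 hk))
  constructor
  · refine MulEquiv.ext fun a => ?_
    rw [← pow_two, (pow_apply hexp hcomm hx a 2).1, MulAut.one_apply, mul_eq_left]
    by_cases ha : x a * a⁻¹ = 1
    · rw [ha, one_pow]
    · rw [← pow_zero (x a * a⁻¹), pe hexp ha]
      push_cast
      simp [Finset.sum_range_succ, hk']
  · refine MulEquiv.ext fun a => ?_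
    rw [MulAut.mul_apply, hu, hu, ← pow_mul, MulAut.one_apply]
    by_cases ha : a = 1
    · simp [ha]
    · conv_rhs => rw [← pow_one a]
      rw [pe hexp ha]
      push_cast
      rw [hμk, hk2]

end Action

set_option maxHeartbeats 1000000 in
theorem minNormal_prime {G : Type u} [Group G] [Finite G] (h : Hyp G) {N : Subgroup G}
    (hN : Cfsg.Lib.Core.IsMinNormal N) (hab : IsMulCommutative ↥N) {r : ℕ} (hr : r.Prime)
    (hexp' : ∀ x ∈ N, x ^ r = 1) (hNr : IsPGroup r N) : (Nat.card N).Prime := by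
  classical
  haveI := hN.1
  haveI := Fact.mk hr
  have hexp : ∀ v : N, v ^ r = 1 := fun v => Subtype.ext (by simpa using hexp' v v.2)
  have hcomm : ∀ a b : N, a * b = b * a := fun a b => hab.is_comm.comm a b
  have hmin : ∀ W : Subgroup N, (∀ (g : G) (w : N), w ∈ W → MulAut.conjNormal g w ∈ W) → W = ⊥ ∨ W = ⊤ := by
    intro W hW
    have hWn : (W.map N.subtype).Normal := ⟨by
      rintro _ ⟨w, hw, rfl⟩ g
      exact ⟨_, hW g w hw, MulAut.conjNormal_apply g w⟩⟩
    rcases eq_or_ne (W.map N.subtype) ⊥ with e | e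
    · exact Or.inl ((Subgroup.map_eq_bot_iff_of_injective _ N.subtype_injective).1 e)
    · refine Or.inr (Subgroup.map_injective N.subtype_injective ?_)
      rw [← MonoidHom.range_eq_map, Subgroup.range_subtype]
      exact (hN.2.2 _ hWn (Subgroup.map_subtype_le W)).resolve_left e
  set φ : G →* MulAut N := MulAut.conjNormal with hφ
  let H := φ.range
  let π : G →* ↥H := φ.rangeRestrict
  have hπ : Function.Surjective π := φ.rangeRestrict_surjective
  have hH : Hyp ↥H := h.of_surjective π hπ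
  -- quadratic action of the elements of prime power order
  have hquad : ∀ (q : ℕ), q.Prime → q ≠ r → ∀ (f : ↥H) (a : ℕ), orderOf f = q ^ a →
      ∃ k : ℕ, Quad (f : MulAut N) k := by
    intro q hq hqr f a hf
    haveI := Fact.mk hq
    obtain ⟨x, rfl, hx⟩ := lift π hπ hf
    have hconj : ∀ v : N, (((π x : MulAut N)) v : G) = x * v * x⁻¹ := fun v => MulAut.conjNormal_apply x v
    have heig : ∀ v : N, ∃ i : ℕ, (π x : MulAut N) ((π x : MulAut N) v * v⁻¹) = ((π x : MulAut N) v * v⁻¹) ^ i := by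
      intro v
      obtain ⟨-, i, hi⟩ := line h hq hr hqr hNr hx (fun g hg => hN.1.conj_mem g hg x) (N.inv_mem v.2)
      refine ⟨i, Subtype.ext ?_⟩
      rw [inv_inv] at hi
      have e : (((π x : MulAut N) v * v⁻¹ : N) : G) = (v : G)⁻¹ * x * v * x⁻¹ := by
        rw [hcomm, Subgroup.coe_mul, InvMemClass.coe_inv, hconj]; group
      rw [hconj, SubmonoidClass.coe_pow, e]
      exact hi
    let I : Subgroup N :=
      (MonoidHom.mk' (fun v => (π x : MulAut N) v * v⁻¹) fun a b => by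
        rw [map_mul, mul_inv_rev, hcomm b⁻¹ a⁻¹, mul_assoc, ← mul_assoc _ a⁻¹, hcomm ((π x : MulAut N) b) a⁻¹]
        simp [mul_assoc]).range
    by_cases hI : ∀ t ∈ I, t = 1
    · exact ⟨1, fun v => by
        have e : (π x : MulAut N) v * v⁻¹ = 1 := hI _ ⟨v, rfl⟩
        rw [e, map_one, one_pow]⟩
    push Not at hI
    obtain ⟨t, ht, ht1⟩ := hI
    have heig' : ∀ t ∈ I, ∃ i : ℕ, (π x : MulAut N) t = t ^ i := by
      rintro _ ⟨v, rfl⟩; exact heig v
    obtain ⟨k, hk⟩ := heig' t ht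
    refine ⟨k, fun v => ?_⟩
    suffices key : ∀ w ∈ I, (π x : MulAut N) w = w ^ k from key _ ⟨v, rfl⟩
    intro w hw
    obtain ⟨j, hj⟩ := heig' w hw
    obtain ⟨l, hl⟩ := heig' (t * w) (I.mul_mem ht hw)
    by_cases hwt : w ∈ Subgroup.zpowers t
    · obtain ⟨m, rfl⟩ := Subgroup.mem_zpowers_iff.1 hwt
      rw [map_zpow, hk, ← zpow_natCast, ← zpow_natCast, ← zpow_mul, ← zpow_mul, mul_comm]
    have hw1 : w ≠ 1 := fun e => hwt (e ▸ one_mem _)
    rw [map_mul, hk, hj, (show Commute t w from hcomm t w).mul_pow] at hl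
    have h1 : w ^ j * (w ^ l)⁻¹ = t ^ l * (t ^ k)⁻¹ := by
      rw [mul_inv_eq_iff_eq_mul, mul_assoc, hcomm (t ^ k)⁻¹, ← mul_assoc, ← hl, hcomm (t ^ k), mul_inv_cancel_right]
    have h2 : w ^ j = w ^ l := by
      by_contra hne
      refine hwt ?_
      have hmem : w ^ j * (w ^ l)⁻¹ ∈ Subgroup.zpowers t := h1 ▸ mul_mem (pow_mem (Subgroup.mem_zpowers t) l)
        (inv_mem (pow_mem (Subgroup.mem_zpowers t) k))
      have hne' : w ^ j * (w ^ l)⁻¹ ≠ 1 := fun e => hne (mul_inv_eq_one.1 e)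
      have hmem' : w ^ j * (w ^ l)⁻¹ ∈ Subgroup.zpowers w :=
        mul_mem (pow_mem (Subgroup.mem_zpowers w) j) (inv_mem (pow_mem (Subgroup.mem_zpowers w) l))
      have hcard : Nat.card ↥(Subgroup.zpowers w) = r := by rw [Nat.card_zpowers, orderOf_eq_prime (hexp w) hw1]
      have := mem_zpowers_of_prime_card hcard (g := ⟨_, hmem'⟩) (g' := (⟨w, Subgroup.mem_zpowers w⟩ : ↥(Subgroup.zpowers w)))
        (fun e => hne' (congrArg Subtype.val e))
      obtain ⟨i, hi⟩ := Subgroup.mem_zpowers_iff.1 this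
      have := congrArg Subtype.val hi
      simp only [SubgroupClass.coe_zpow] at this
      exact this ▸ zpow_mem hmem i
    rw [h2] at h1
    rw [mul_inv_cancel, eq_comm, mul_inv_eq_one] at h1
    rw [hj, h2, pe hexp hw1]
    exact (pe hexp ht1).1 h1
  have hord : ∀ (q : ℕ), q.Prime → q ≠ r → ∀ (f : ↥H) (a : ℕ), orderOf f = q ^ a →
      (f : MulAut N) ^ (q ^ a) = 1 ∧ ¬ r ∣ q ^ a := by
    intro q hq hqr f a hf
    refine ⟨?_, fun hd => hqr ((Nat.prime_dvd_prime_iff_eq hr hq).1 (hr.dvd_of_dvd_pow hd)).symm⟩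
    rw [← SubmonoidClass.coe_pow, ← hf, pow_orderOf_eq_one, OneMemClass.coe_one]
  -- `H` has a normal `q`-complement for all `q ≠ r`
  have hnc : ∀ q : ℕ, q.Prime → q ≠ r → Cfsg.HasNormalPComplement q ↥H := by
    intro q hq hqr
    haveI := Fact.mk hq
    refine complement hH q fun p _ _ _ y u _ hu ⟨m, hm⟩ => ?_
    obtain ⟨k, hk⟩ := hquad q hq hqr u 1 (by rw [hu, pow_one])
    obtain ⟨h1, h2⟩ := hord q hq hqr u 1 (by rw [hu, pow_one])
    have h3 := pow_eq_self hexp hcomm hk h1 h2 (y := (y : MulAut N)) (m := m)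
      (by have := congrArg Subtype.val hm; simpa using this)
    rw [hm]
    exact Subtype.ext (by simpa using h3)
  let R : Subgroup ↥H := ⨅ q : {q : ℕ // q.Prime ∧ q ≠ r}, Cfsg.pResidual (q : ℕ) ↥H
  have hRn : R.Normal := Subgroup.normal_iInf_normal fun _ => inferInstance
  have hR : R = ⊥ := by
    by_contra hR'
    have hRp : IsPGroup r R := by
      refine IsPGroup.of_card (n := (Nat.card R).primeFactorsList.length) (Nat.eq_prime_pow_of_unique_prime_dvd Nat.card_pos.ne' ?_)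
      intro q hq hd
      by_contra hqr
      haveI := Fact.mk hq
      have h1 := Cfsg.Lib.Fusion.hasNormalPComplement_iff_coprime.1 (hnc q hq hqr)
      exact hq.ne_one (Nat.eq_one_of_dvd_coprimes h1 (hd.trans (Subgroup.card_dvd_of_le (iInf_le (fun s : {q : ℕ // q.Prime ∧ q ≠ r} => Cfsg.pResidual (s : ℕ) ↥H) ⟨q, hq, hqr⟩))) dvd_rfl)
    let W : Subgroup N :=
      { carrier := {v | ∀ f ∈ R, (f : MulAut N) v = v}
        one_mem' := fun f _ => map_one _
        mul_mem' := fun ha hb f hf => by rw [map_mul, ha f hf, hb f hf]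
        inv_mem' := fun ha f hf => by rw [map_inv, ha f hf] }
    letI : MulAction ↥R ↥N := MulAction.compHom ↥N ((H.subtype.comp R.subtype) : ↥R →* MulAut ↥N)
    have hWfix : (W : Set N) = MulAction.fixedPoints ↥R N := by
      ext v
      exact ⟨fun hv f => hv f f.2, fun hv f hf => hv ⟨f, hf⟩⟩
    have hdvd : r ∣ Nat.card N := by
      obtain ⟨j, hj⟩ := IsPGroup.iff_card.1 hNr
      rw [hj]
      refine dvd_pow_self r fun e => hN.2.1 (Subgroup.card_eq_one.1 (by rw [hj, e, pow_zero]))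
    have hWne : W ≠ ⊥ := by
      obtain ⟨b, hb, hb1⟩ := hRp.exists_fixed_point_of_prime_dvd_card_of_fixed_point N hdvd
        (a := 1) (fun f => (show ((f : ↥H) : MulAut N) 1 = 1 from map_one _))
      intro e
      exact hb1 (Subgroup.mem_bot.1 (e ▸ (fun f hf => hb ⟨f, hf⟩ : b ∈ W))).symm
    rcases hmin W (fun g w hw f hf => by
      have h1 := hw _ (hRn.conj_mem f hf (π g)⁻¹)
      have e : ((π g)⁻¹ * f * (π g)⁻¹⁻¹ : ↥H) = (π g)⁻¹ * f * π g := by rw [inv_inv]
      rw [e] at h1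
      simp only [Subgroup.coe_mul, InvMemClass.coe_inv, MulAut.mul_apply] at h1
      exact (MulEquiv.symm_apply_eq _).1 h1) with e | e
    · exact hWne e
    · refine hR' ((Subgroup.eq_bot_iff_forall _).2 fun f hf => Subtype.ext (MulEquiv.ext fun v => ?_))
      exact (e ▸ Subgroup.mem_top v : v ∈ W) f hf
  -- elements of different prime orders commute, and there are no `r`-elements
  have hcom : ∀ (p q : ℕ), p.Prime → q.Prime → p ≠ q → ∀ (x g : ↥H) (a b : ℕ), orderOf x = p ^ a →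
      orderOf g = q ^ b → x * g = g * x := by
    intro p q hp hq hpq x g a b hx hg
    rw [← commutatorElement_eq_one_iff_mul_comm, ← Subgroup.mem_bot, ← hR, Subgroup.mem_iInf]
    rintro ⟨s, hs, hsr⟩
    haveI := Fact.mk hs
    rcases eq_or_ne p s with rfl | hps
    · have hgK : g ∈ Cfsg.pResidual p ↥H := Cfsg.Lib.Fusion.mem_pResidual_of_coprime
        (hg ▸ ((Nat.coprime_primes hq hp).2 hpq.symm).pow_left b)
      rw [commutatorElement_def]
      exact Subgroup.mul_mem _ (Subgroup.Normal.conj_mem inferInstance g hgK x) (Subgroup.inv_mem _ hgK)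
    · have hxK : x ∈ Cfsg.pResidual s ↥H := Cfsg.Lib.Fusion.mem_pResidual_of_coprime
        (hx ▸ ((Nat.coprime_primes hp hs).2 hps).pow_left a)
      rw [commutatorElement_def, mul_assoc, mul_assoc, ← mul_assoc g]
      exact Subgroup.mul_mem _ hxK (Subgroup.Normal.conj_mem inferInstance _ (Subgroup.inv_mem _ hxK) g)
  have hnor : ∀ (f : ↥H) (a : ℕ), orderOf f = r ^ a → f = 1 := by
    intro f a hf
    rw [← Subgroup.mem_bot, ← hR, Subgroup.mem_iInf]
    rintro ⟨s, hs, hsr⟩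
    haveI := Fact.mk hs
    exact Cfsg.Lib.Fusion.mem_pResidual_of_coprime (hf ▸ ((Nat.coprime_primes hr hs).2 hsr.symm).pow_left a)
  -- central elements are scalar
  have hscal : ∀ (q : ℕ), q.Prime → ∀ (f : ↥H) (a : ℕ), orderOf f = q ^ a → f ∈ Subgroup.center ↥H →
      ∃ μ : ℕ, (∀ v, (f : MulAut N) v = v ^ μ) ∧ (f ≠ 1 → (μ : ZMod r) ≠ 1) := by
    intro q hq f a hf hc
    by_cases hf1 : f = 1
    · exact ⟨1, fun v => by simp [hf1], fun h' => absurd hf1 h'⟩
    have hqr : q ≠ r := fun e => hf1 (hnor f a (e ▸ hf))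
    obtain ⟨k, hk⟩ := hquad q hq hqr f a hf
    obtain ⟨h1, h2⟩ := hord q hq hqr f a hf
    have hf1' : (f : MulAut N) ≠ 1 := fun e => hf1 (Subtype.ext e)
    let W : Subgroup N :=
      { carrier := {v | (f : MulAut N) v = v}
        one_mem' := map_one _
        mul_mem' := fun {a b} ha hb => by simp only [Set.mem_setOf_eq] at *; rw [map_mul, ha, hb]
        inv_mem' := fun {a} ha => by simp only [Set.mem_setOf_eq] at *; rw [map_inv, ha] }
    rcases hmin W (fun g w hw => by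
      have e := congrArg (fun t : ↥H => (t : MulAut N) w) (Subgroup.mem_center_iff.1 hc (π g))
      simp only [Subgroup.coe_mul, MulAut.mul_apply] at e
      show (f : MulAut N) _ = _
      exact e.symm.trans (congrArg (π g : MulAut N) hw)) with e | e
    · refine ⟨k, fun v => ?_, fun _ => k_ne_one hexp hcomm hk h1 h2 hf1'⟩
      rw [← mul_inv_eq_one, ← Subgroup.mem_bot, ← e]
      show (f : MulAut N) _ = _
      have e2 := hk v
      rw [map_mul, map_inv, (show Commute ((f : MulAut N) v) v⁻¹ from hcomm _ _).mul_pow, mul_inv_eq_iff_eq_mul] at e2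
      rw [map_mul, map_inv, map_pow, e2, inv_pow, hcomm _ ((f : MulAut N) v), ← mul_assoc, mul_assoc,
        mul_assoc, hcomm (v ^ k)⁻¹, mul_inv_cancel_left]
    · refine absurd (MulEquiv.ext fun v => ?_) hf1'
      exact (e ▸ Subgroup.mem_top v : v ∈ W)
  -- `H` is abelian
  have hcenP : ∀ (q : ℕ) [Fact q.Prime] (P : Sylow q ↥H), ∀ y ∈ (P : Subgroup ↥H),
      (∀ z ∈ (P : Subgroup ↥H), z * y = y * z) → y ∈ Subgroup.center ↥H := by
    intro q _ P y hy hyP
    have htop : Subgroup.centralizer ({y} : Set ↥H) = ⊤ := by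
      refine eq_top' _ fun p hp => ?_
      haveI := Fact.mk hp
      rcases eq_or_ne p q with rfl | hpq
      · exact ⟨P, fun z hz => Subgroup.mem_centralizer_singleton_iff.2 (hyP z hz)⟩
      · obtain ⟨P'⟩ : Nonempty (Sylow p ↥H) := inferInstance
        refine ⟨P', fun z hz => Subgroup.mem_centralizer_singleton_iff.2 ?_⟩
        obtain ⟨b, hb⟩ := IsPGroup.iff_orderOf.1 P'.2 ⟨z, hz⟩
        obtain ⟨c, hc⟩ := IsPGroup.iff_orderOf.1 P.2 ⟨y, hy⟩
        rw [Subgroup.orderOf_mk] at hb hc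
        exact hcom p q hp Fact.out hpq z y b c hb hc
    exact Subgroup.mem_center_iff.2 fun z => Subgroup.mem_centralizer_singleton_iff.1 (htop ▸ Subgroup.mem_top z)
  have hab' : ∀ (x : ↥H) (q a : ℕ), q.Prime → orderOf x = q ^ a → x ∈ Subgroup.center ↥H := by
    intro x₀ q a hq hx₀
    haveI := Fact.mk hq
    by_contra hx₀c
    obtain ⟨P, hP⟩ := (IsPGroup.of_card (p := q) (n := a) (by rw [Nat.card_zpowers, hx₀]) :
      IsPGroup q ↥(Subgroup.zpowers x₀)).exists_le_sylow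
    let Z := Subgroup.center ↥(P : Subgroup ↥H)
    have hZ : Z ≠ ⊤ := fun e => hx₀c (hcenP q P x₀ (hP (Subgroup.mem_zpowers x₀)) fun z hz => by
      have := Subgroup.mem_center_iff.1 (e ▸ Subgroup.mem_top _ :
        (⟨x₀, hP (Subgroup.mem_zpowers x₀)⟩ : ↥(P : Subgroup ↥H)) ∈ Z) ⟨z, hz⟩
      exact congrArg Subtype.val this)
    haveI : Nontrivial (↥(P : Subgroup ↥H) ⧸ Z) := QuotientGroup.nontrivial_iff.2 hZ
    haveI := ((P.2 : IsPGroup q ↥(P : Subgroup ↥H)).to_quotient Z).center_nontrivial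
    obtain ⟨⟨c, hc⟩, hc1⟩ := exists_ne (1 : ↥(Subgroup.center (↥(P : Subgroup ↥H) ⧸ Z)))
    obtain ⟨x, rfl⟩ := QuotientGroup.mk_surjective c
    have hxZ : x ∉ Z := fun e => hc1 (Subtype.ext ((QuotientGroup.eq_one_iff x).2 e))
    obtain ⟨g, hg⟩ : ∃ g, g * x ≠ x * g := by
      by_contra hcon
      push Not at hcon
      exact hxZ (Subgroup.mem_center_iff.2 hcon)
    have huZ : g * x * g⁻¹ * x⁻¹ ∈ Z := by
      rw [← QuotientGroup.eq_one_iff]
      simp only [QuotientGroup.mk_mul, QuotientGroup.mk_inv]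
      rw [Subgroup.mem_center_iff.1 hc (QuotientGroup.mk g)]
      group
    set u : ↥H := ((g * x * g⁻¹ * x⁻¹ : ↥(P : Subgroup ↥H)) : ↥H) with hu
    have hu' : u = (g : ↥H) * x * (g : ↥H)⁻¹ * (x : ↥H)⁻¹ := by rw [hu]; rfl
    have huc : u ∈ Subgroup.center ↥H := hcenP q P u (SetLike.coe_mem _) fun z hz =>
      congrArg Subtype.val (Subgroup.mem_center_iff.1 huZ ⟨z, hz⟩)
    have hu1 : u ≠ 1 := fun e => hg (by
      rw [hu', mul_inv_eq_one, mul_inv_eq_iff_eq_mul] at e
      exact Subtype.ext e)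
    obtain ⟨b, hb⟩ := IsPGroup.iff_orderOf.1 P.2 (g * x * g⁻¹ * x⁻¹)
    rw [← Subgroup.orderOf_coe] at hb
    obtain ⟨μ, hμ, hμ1⟩ := hscal q hq u b hb huc
    have hqr : q ≠ r := fun e => hu1 (hnor u b (e ▸ hb))
    have hsq : ∀ (s y : ↥H), s ∈ (P : Subgroup ↥H) → y * s * y⁻¹ = u * s →
        (s : MulAut N) * s = 1 ∧ (u : MulAut N) * u = 1 := by
      intro s y hs hy
      obtain ⟨c, hc⟩ := IsPGroup.iff_orderOf.1 P.2 ⟨s, hs⟩
      rw [Subgroup.orderOf_mk] at hc
      obtain ⟨k, hk⟩ := hquad q hq hqr s c hc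
      obtain ⟨h1, h2⟩ := hord q hq hqr s c hc
      refine sq_eq_one hexp hcomm hμ (hμ1 hu1) hk h1 h2 (y := (y : MulAut N))
        (by simpa using congrArg Subtype.val hy) fun hsc => hu1 ?_
      have hsy : y * s = s * y := Subtype.ext (MulEquiv.ext fun v => by
        simp only [Subgroup.coe_mul, MulAut.mul_apply]
        rw [hsc, hsc, map_pow])
      rw [hsy, mul_inv_cancel_right, right_eq_mul] at hy
      exact hy
    have hgx : (g : ↥H) * x * (g : ↥H)⁻¹ = u * x := by rw [hu']; group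
    obtain ⟨hxx, huu⟩ := hsq x g x.2 hgx
    have huu' : u * u = 1 := Subtype.ext (by simpa using huu)
    have hxx' : (x : ↥H) * x = 1 := Subtype.ext (by simpa using hxx)
    have hxg : (x : ↥H) * g * (x : ↥H)⁻¹ = u * g := by
      have e1 : (g : ↥H) * x = u * (x * g) := by rw [← mul_assoc, ← hgx, inv_mul_cancel_right]
      calc (x : ↥H) * g * (x : ↥H)⁻¹ = u * u * (x * g) * (x : ↥H)⁻¹ := by rw [huu', one_mul]
        _ = u * (u * (x * g)) * (x : ↥H)⁻¹ := by group
        _ = _ := by rw [← e1]; group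
    have hgg : (g : ↥H) * g = 1 := Subtype.ext (by simpa using (hsq g x g.2 hxg).1)
    have hgxgx : ((g : ↥H) * x) * (g * x) = 1 := Subtype.ext (by
      simpa using (hsq ((g : ↥H) * x) x (mul_mem g.2 x.2) (by
        calc (x : ↥H) * (g * x) * (x : ↥H)⁻¹ = (x * g * (x : ↥H)⁻¹) * x := by group
          _ = _ := by rw [hxg]; group)).1)
    refine hu1 ?_
    calc u = u * ((x : ↥H) * x) := by rw [hxx', mul_one]
      _ = (u * x) * x := by group
      _ = ((g : ↥H) * x * (g : ↥H)⁻¹) * x := by rw [hgx]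
      _ = ((g : ↥H) * x) * (g * x) := by rw [inv_eq_of_mul_eq_one_right hgg]; group
      _ = 1 := hgxgx
  let S : Subgroup ↥H :=
    { carrier := {f | ∃ μ : ℕ, ∀ v, (f : MulAut N) v = v ^ μ}
      one_mem' := ⟨1, fun v => by simp⟩
      mul_mem' := fun {f f'} ⟨i, hi⟩ ⟨j, hj⟩ => ⟨i * j, fun v => by
        rw [Subgroup.coe_mul, MulAut.mul_apply, hj, map_pow, hi, ← pow_mul]⟩
      inv_mem' := fun {f} hf => by
        obtain ⟨i, hi⟩ := hf
        have hp : ∀ n : ℕ, ∀ v, ((f ^ n : ↥H) : MulAut N) v = v ^ i ^ n := by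
          intro n
          induction n with
          | zero => simp
          | succ n ih => intro v; rw [pow_succ', Subgroup.coe_mul, MulAut.mul_apply, ih, map_pow, hi, ← pow_mul, pow_succ']
        refine ⟨i ^ (orderOf f - 1), fun v => ?_⟩
        have e : f⁻¹ = f ^ (orderOf f - 1) := by
          rw [inv_eq_iff_mul_eq_one, ← pow_succ', Nat.sub_add_cancel (orderOf_pos f), pow_orderOf_eq_one]
        rw [e, hp] }
  have hS : S = ⊤ := eq_top S fun f q a hq hf => by
    obtain ⟨μ, hμ, -⟩ := hscal q hq f a hf (hab' f q a hq hf)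
    exact ⟨μ, hμ⟩
  obtain ⟨v, hv, hv1⟩ := N.bot_or_exists_ne_one.resolve_left hN.2.1
  have hv' : (⟨v, hv⟩ : N) ≠ 1 := fun e => hv1 (congrArg Subtype.val e)
  rcases hmin (Subgroup.zpowers ⟨v, hv⟩) (fun g w hw => by
    obtain ⟨μ, hμ⟩ := (hS ▸ Subgroup.mem_top (π g) : π g ∈ S)
    exact (show MulAut.conjNormal g w = w ^ μ from hμ w) ▸ pow_mem hw μ) with e | e
  · exact absurd (Subgroup.zpowers_eq_bot.1 e) hv'
  · rw [← Subgroup.card_top (G := N), ← e, Nat.card_zpowers, orderOf_eq_prime (hexp _) hv']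
    exact hr

theorem main : ∀ (n : ℕ) (G : Type u) [Group G] [Finite G], Nat.card G ≤ n → Hyp G → Cfsg.IsSupersolvable G := by
  intro n
  induction n with
  | zero => intro G _ _ hn; exact absurd Nat.card_pos (not_lt.mpr hn)
  | succ n ih =>
    intro G _ _ hn h
    rcases subsingleton_or_nontrivial G with hs | hs
    · exact Cfsg.Lib.Supersolvable.of_subsingleton
    have hK : ∀ K : Subgroup G, K ≠ ⊤ → Group.IsSolvable K := fun K hK => by
      have hlt : Nat.card K < Nat.card G := lt_of_le_of_ne (Subgroup.card_le_card_group K)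
        fun e => hK (Subgroup.eq_top_of_card_eq K e)
      exact Cfsg.Lib.Supersolvable.isSolvable (ih K (by omega) (h.subgroup K))
    have hsol := solvable h hK
    obtain ⟨N, hN⟩ := Cfsg.Lib.Core.exists_isMinNormal_univ (G := G)
    haveI := hN.1
    haveI := hsol
    obtain ⟨hab, r, hr, hexp, hNr⟩ := Cfsg.Lib.Core.minimal_solvable_elementary hN inferInstance
    refine Cfsg.Lib.Supersolvable.of_normal_prime N (minNormal_prime h hN hab hr hexp hNr) (ih _ ?_
      (h.of_surjective (QuotientGroup.mk' N) (QuotientGroup.mk'_surjective N)))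
    have := Cfsg.Lib.Core.card_quotient_lt (N := N) hN.2.1
    omega

/-- Let G be a finite group such that for every pair of distinct primes p and q, every p-element x and every q-element g of G, the order of the subgroup generated by x and g x g⁻¹ is not divisible by q². Then G is supersolvable. -/
theorem result {G : Type*} [Group G] [Finite G]
    (h : ∀ (p q : ℕ), p.Prime → q.Prime → p ≠ q → ∀ (x g : G), (∃ a : ℕ, orderOf x = p ^ a) → (∃ b : ℕ, orderOf g = q ^ b) →
      ¬ q ^ 2 ∣ Nat.card ↥(Subgroup.zpowers x ⊔ Subgroup.zpowers (g * x * g⁻¹))) :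
    Cfsg.IsSupersolvable G := by
  exact main _ G le_rfl h

end Cfsg.Agent.S3033
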