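import Cfsg.Statements.S3036
import Cfsg.Agent.Lib.Local.ChermakDelgado
-- import your own Cfsg.Agent.* helpers here

set_option autoImplicit false
open Cfsg

namespace Cfsg.Agent.S3036

/-- Let G be a finite non-abelian simple group and A a proper nontrivial subgroup of G. Then |G| > |A| · |C_G(A)|. In particular |G| > |A|² for every nontrivial abelian subgroup A of G. -/
theorem result {G : Type*} [Group G] [Finite G] [IsSimpleGroup G] (hG : ¬ IsMulCommutative G) (A : Subgroup G) (hA1 : A ≠ ⊥) (hA2 : A ≠ ⊤) : Nat.card A * Nat.card ↥(Subgroup.centralizer (A : Set G)) < Nat.card G := by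
  classical
  let m : Subgroup G → ℕ := fun H => Nat.card ↥H * Nat.card ↥(Subgroup.centralizer (H : Set G))
  have hconj : ∀ (H : Subgroup G) (g : G), m (H.map (MulAut.conj g).toMonoidHom) = m H := by
    intro H g
    simp only [m, Lib.Local.card_centralizer_map_conj,
      Subgroup.card_map_of_injective (f := (MulAut.conj g).toMonoidHom) (MulAut.conj g).injective]
  have hsimp : ∀ N : Subgroup G, N.Normal → N ≠ ⊥ → N ≠ ⊤ → False := fun N hN h1 h2 =>
    (hN.eq_bot_or_eq_top).elim h1 h2
  have hZ : Subgroup.center G = ⊥ := by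
    rcases (inferInstance : (Subgroup.center G).Normal).eq_bot_or_eq_top with h | h
    · exact h
    · exact absurd ⟨⟨fun a b => (Subgroup.mem_center_iff.mp (h ▸ Subgroup.mem_top b) a)⟩⟩ hG
  have htop : m ⊤ = Nat.card G := by
    have h1 : Subgroup.centralizer ((⊤ : Subgroup G) : Set G) = ⊥ := by
      rw [Subgroup.coe_top, Subgroup.centralizer_univ, hZ]
    show Nat.card ↥(⊤ : Subgroup G) * Nat.card ↥(Subgroup.centralizer ((⊤ : Subgroup G) : Set G)) = _
    rw [h1]; simp
  have hbot : m ⊥ = Nat.card G := by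
    have h1 : Subgroup.centralizer ((⊥ : Subgroup G) : Set G) = ⊤ := by
      rw [eq_top_iff]
      intro x _ y hy
      rw [Subgroup.mem_bot.mp hy, one_mul, mul_one]
    show Nat.card ↥(⊥ : Subgroup G) * Nat.card ↥(Subgroup.centralizer ((⊥ : Subgroup G) : Set G)) = _
    rw [h1]; simp
  by_contra hcon
  push Not at hcon
  obtain ⟨H₀, -, hmax⟩ := Set.exists_max_image (Set.univ : Set (Subgroup G)) m (Set.toFinite _)
    ⟨⊥, trivial⟩
  -- a maximal element among proper nontrivial maximizers
  have hne : {H : Subgroup G | m H = m H₀ ∧ H ≠ ⊤ ∧ H ≠ ⊥}.Nonempty := by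
    rcases eq_or_lt_of_le (hmax A trivial) with h | h
    · exact ⟨A, h, hA2, hA1⟩
    · have hgt : Nat.card G < m H₀ := lt_of_le_of_lt hcon h
      exact ⟨H₀, rfl, fun e => by rw [e, htop] at hgt; omega, fun e => by rw [e, hbot] at hgt; omega⟩
  obtain ⟨B, ⟨hB, hBtop, hBbot⟩, hBmax⟩ := (Set.toFinite _).exists_maximal hne
  have hsup : ∀ g : G, m (B ⊔ B.map (MulAut.conj g).toMonoidHom) = m H₀ := by
    intro g
    have h1 := Lib.Local.cd_measure_le B (B.map (MulAut.conj g).toMonoidHom)
    change m B * m (B.map (MulAut.conj g).toMonoidHom) ≤ m _ * m _ at h1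
    rw [hconj, hB] at h1
    refine le_antisymm (hmax _ trivial) ?_
    by_contra hlt
    push Not at hlt
    have hpos : 0 < m H₀ := Nat.mul_pos Nat.card_pos Nat.card_pos
    have := lt_of_le_of_lt h1 (Nat.mul_lt_mul_of_lt_of_le hlt (hmax _ trivial) hpos)
    exact lt_irrefl _ this
  refine hsimp B ?_ hBbot hBtop
  rw [Lib.Core.normal_iff_map_conj]
  intro g
  set B' := B.map (MulAut.conj g).toMonoidHom
  have hc : Nat.card ↥B' = Nat.card ↥B := Subgroup.card_map_of_injective (MulAut.conj g).injective
  by_cases ht : B ⊔ B' = ⊤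
  · exfalso
    -- `G = B' B` forces `B' = B`
    have h1 := Lib.Local.cd_measure_le B B'
    change m B * m B' ≤ m _ * m _ at h1
    have hmi : m (B ⊓ B') = m H₀ := by
      refine le_antisymm (hmax _ trivial) ?_
      rw [hsup g, hconj, hB] at h1
      exact Nat.le_of_mul_le_mul_left h1 (Nat.mul_pos Nat.card_pos Nat.card_pos)
    have e1 : m (B ⊔ B') = m H₀ := hsup g
    have hkey : Nat.card G * Nat.card ↥(B ⊓ B') ≤ Nat.card ↥B * Nat.card ↥B' := by
      set C := Subgroup.centralizer (B : Set G)
      set C' := Subgroup.centralizer (B' : Set G)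
      have hCC : Nat.card ↥C * Nat.card ↥C' ≤
          Nat.card ↥(Subgroup.centralizer ((B ⊔ B' : Subgroup G) : Set G)) *
            Nat.card ↥(Subgroup.centralizer ((B ⊓ B' : Subgroup G) : Set G)) := by
        refine (Lib.Local.card_mul_card_le C C').trans ?_
        rw [mul_comm]
        exact Nat.mul_le_mul (Subgroup.card_le_of_le (Subgroup.le_centralizer_iff.mpr (sup_le
            (Subgroup.le_centralizer_iff.mpr inf_le_left) (Subgroup.le_centralizer_iff.mpr inf_le_right))))
          (Subgroup.card_le_of_le (sup_le (Subgroup.centralizer_le (SetLike.coe_subset_coe.mpr inf_le_left))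
            (Subgroup.centralizer_le (SetLike.coe_subset_coe.mpr inf_le_right))))
      have h5 : (Nat.card G * Nat.card ↥(B ⊓ B')) * (Nat.card ↥C * Nat.card ↥C') ≤
          (Nat.card ↥B * Nat.card ↥B') * (Nat.card ↥C * Nat.card ↥C') := by
        calc (Nat.card G * Nat.card ↥(B ⊓ B')) * (Nat.card ↥C * Nat.card ↥C')
            ≤ (Nat.card G * Nat.card ↥(B ⊓ B')) * _ := Nat.mul_le_mul_left _ hCC
          _ = (Nat.card ↥(B ⊔ B') * Nat.card ↥(Subgroup.centralizer ((B ⊔ B' : Subgroup G) : Set G))) *
              m (B ⊓ B') := by simp only [m]; rw [ht, Subgroup.card_top]; ring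
          _ = m H₀ * m H₀ := by rw [hmi]; exact congrArg (· * m H₀) e1
          _ = m B * m B' := by rw [hconj, hB]
          _ = _ := by simp only [m, C, C']; ring
      exact Nat.le_of_mul_le_mul_right h5 (Nat.mul_pos Nat.card_pos Nat.card_pos)
    obtain ⟨a, ha, b, hb, he⟩ := Lib.Local.exists_mul_of_card_eq B' B
      (by rw [inf_comm, mul_comm (Nat.card ↥B')]; exact hkey) g
    have hB' : B' = B.map (MulAut.conj a).toMonoidHom := by
      show B.map (MulAut.conj g).toMonoidHom = _
      rw [he, Lib.Core.map_conj_mul, Lib.Core.map_conj_eq_of_mem_normalizer (Subgroup.le_normalizer hb)]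
    have hB'2 : B' = B := by
      apply Subgroup.map_injective (f := (MulAut.conj a).toMonoidHom) (MulAut.conj a).injective
      rw [← hB', Lib.Core.map_conj_eq_of_mem_normalizer (Subgroup.le_normalizer ha)]
    rw [hB'2, sup_idem] at ht
    exact hBtop ht
  have hle : B ⊔ B' ≤ B := hBmax ⟨hsup g, ht, fun h => hBbot (le_bot_iff.mp (h ▸ le_sup_left))⟩
    le_sup_left
  exact Subgroup.eq_of_le_of_card_ge (le_sup_right.trans hle) hc.ge

end Cfsg.Agent.S3036
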