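import Cfsg.Statements.S3037
import Cfsg.Agent.Lib.Local.ChermakDelgado
-- import your own Cfsg.Agent.* helpers here

set_option autoImplicit false
open Cfsg

namespace Cfsg.Agent.S3037

/-- Let V and G be subgroups of a finite group with V an elementary abelian p-group (p prime) on which G acts faithfully and irreducibly by conjugation: G normalizes V, G ∩ C(V) = 1, and the only subgroups of V normalized by G are 1 and V. If for some nontrivial subgroup A of G and some real α > 0 one has |V| ≤ |A|^α · |C_V(A)|, then |V| ≤ |G|^α. -/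
theorem result {X : Type*} [Group X] [Finite X] {p : ℕ} [Fact p.Prime] (V G : Subgroup X) (hV : Cfsg.IsElementaryAbelian p V)
    (hGV : G ≤ Subgroup.normalizer (V : Set X)) (hfaith : G ⊓ Subgroup.centralizer (V : Set X) = ⊥)
    (hirr : ∀ W : Subgroup X, W ≤ V → G ≤ Subgroup.normalizer (W : Set X) → W = ⊥ ∨ W = V)
    (A : Subgroup X) (hA : A ≤ G) (hA1 : A ≠ ⊥) (α : ℝ) (hα : 0 < α)
    (hbig : (Nat.card V : ℝ) ≤ (Nat.card A : ℝ) ^ α * (Nat.card ↥(V ⊓ Subgroup.centralizer (A : Set X)) : ℝ)) :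
    (Nat.card V : ℝ) ≤ (Nat.card G : ℝ) ^ α := by
  classical
  let m : Subgroup X → ℝ := fun H => (Nat.card ↥H : ℝ) ^ α *
    (Nat.card ↥(V ⊓ Subgroup.centralizer (H : Set X)) : ℝ)
  have hpos : ∀ H : Subgroup X, 0 < m H := fun H => by
    have : (0 : ℝ) < Nat.card ↥H := by exact_mod_cast Nat.card_pos
    have h2 : (0 : ℝ) < Nat.card ↥(V ⊓ Subgroup.centralizer (H : Set X)) := by
      exact_mod_cast Nat.card_pos
    positivity
  have hsub : ∀ H K : Subgroup X, m H * m K ≤ m (H ⊔ K) * m (H ⊓ K) := by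
    intro H K
    set C := fun H : Subgroup X => V ⊓ Subgroup.centralizer (H : Set X)
    have h1 := Lib.Local.card_mul_card_le H K
    have h2 : Nat.card ↥(C H) * Nat.card ↥(C K) ≤ Nat.card ↥(C (H ⊔ K)) * Nat.card ↥(C (H ⊓ K)) := by
      refine (Lib.Local.card_mul_card_le (C H) (C K)).trans ?_
      rw [mul_comm]
      refine Nat.mul_le_mul (Subgroup.card_le_of_le ?_) (Subgroup.card_le_of_le ?_)
      · refine le_inf (inf_le_left.trans inf_le_left) ?_
        exact Subgroup.le_centralizer_iff.mpr (sup_le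
          (Subgroup.le_centralizer_iff.mpr (inf_le_left.trans inf_le_right))
          (Subgroup.le_centralizer_iff.mpr (inf_le_right.trans inf_le_right)))
      · exact sup_le
          (inf_le_inf_left V (Subgroup.centralizer_le (SetLike.coe_subset_coe.mpr inf_le_left)))
          (inf_le_inf_left V (Subgroup.centralizer_le (SetLike.coe_subset_coe.mpr inf_le_right)))
    have h1' : (Nat.card ↥H : ℝ) ^ α * (Nat.card ↥K : ℝ) ^ α ≤
        (Nat.card ↥(H ⊔ K) : ℝ) ^ α * (Nat.card ↥(H ⊓ K) : ℝ) ^ α := by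
      rw [← Real.mul_rpow (by positivity) (by positivity),
        ← Real.mul_rpow (by positivity) (by positivity)]
      exact Real.rpow_le_rpow (by positivity) (by exact_mod_cast h1) hα.le
    have h2' : (Nat.card ↥(C H) : ℝ) * Nat.card ↥(C K) ≤
        (Nat.card ↥(C (H ⊔ K)) : ℝ) * Nat.card ↥(C (H ⊓ K)) := by exact_mod_cast h2
    calc m H * m K = ((Nat.card ↥H : ℝ) ^ α * (Nat.card ↥K : ℝ) ^ α) *
          ((Nat.card ↥(C H) : ℝ) * Nat.card ↥(C K)) := by simp only [m, C]; ring
      _ ≤ ((Nat.card ↥(H ⊔ K) : ℝ) ^ α * (Nat.card ↥(H ⊓ K) : ℝ) ^ α) *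
          ((Nat.card ↥(C (H ⊔ K)) : ℝ) * Nat.card ↥(C (H ⊓ K))) :=
        mul_le_mul h1' h2' (by positivity) (by positivity)
      _ = _ := by simp only [m, C]; ring
  obtain ⟨H₀, ⟨hH₀G, hH₀1⟩, hH₀max⟩ := Set.exists_max_image
    {H : Subgroup X | H ≤ G ∧ H ≠ ⊥} m (Set.toFinite _) ⟨A, hA, hA1⟩
  have hbot : m ⊥ = (Nat.card V : ℝ) := by
    have h1 : V ⊓ Subgroup.centralizer ((⊥ : Subgroup X) : Set X) = V :=
      inf_eq_left.mpr fun x _ y hy => by rw [Subgroup.mem_bot.mp hy, one_mul, mul_one]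
    show (Nat.card ↥(⊥ : Subgroup X) : ℝ) ^ α * (Nat.card ↥(V ⊓ Subgroup.centralizer ((⊥ : Subgroup X) : Set X)) : ℝ) = _
    rw [h1]; simp
  have hge : (Nat.card V : ℝ) ≤ m H₀ := hbig.trans (hH₀max A ⟨hA, hA1⟩)
  have hmax : ∀ H : Subgroup X, H ≤ G → m H ≤ m H₀ := by
    intro H hH
    by_cases h : H = ⊥
    · rw [h, hbot]; exact hge
    · exact hH₀max H ⟨hH, h⟩
  -- the greatest maximizer
  obtain ⟨N, ⟨hNG, hN1, hNm⟩, hNmax⟩ := (Set.toFinite {H : Subgroup X | H ≤ G ∧ H ≠ ⊥ ∧ m H = m H₀}).exists_maximal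
    ⟨H₀, hH₀G, hH₀1, rfl⟩
  have hNn : G ≤ Subgroup.normalizer (N : Set X) := by
    intro g hg
    rw [Lib.Core.mem_normalizer_iff_map_conj]
    set N' := N.map (MulAut.conj g).toMonoidHom
    have hgG : G.map (MulAut.conj g).toMonoidHom = G :=
      Lib.Core.map_conj_eq_of_mem_normalizer (Subgroup.le_normalizer hg)
    have hN'G : N' ≤ G := (Subgroup.map_mono hNG).trans hgG.le
    have hN'm : m N' = m N := by
      have e : V ⊓ Subgroup.centralizer (N' : Set X) =
          (V ⊓ Subgroup.centralizer (N : Set X)).map (MulAut.conj g).toMonoidHom := by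
        rw [Subgroup.map_inf _ _ _ (MulAut.conj g).injective,
          Lib.Core.map_conj_eq_of_mem_normalizer (hGV hg)]
        congr 1
        ext x
        rw [Lib.Core.mem_map_conj]
        simp only [Subgroup.mem_centralizer_iff, SetLike.mem_coe]
        constructor
        · intro h q hq
          have h1 := h (g * q * g⁻¹) ⟨q, hq, rfl⟩
          calc q * (g⁻¹ * x * g) = g⁻¹ * (g * q * g⁻¹ * x) * g := by group
            _ = g⁻¹ * (x * (g * q * g⁻¹)) * g := by rw [h1]
            _ = g⁻¹ * x * g * q := by group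
        · rintro h _ ⟨q, hq, rfl⟩
          have h1 := h q hq
          simp only [MulEquiv.coe_toMonoidHom, MulAut.conj_apply]
          calc g * q * g⁻¹ * x = g * (q * (g⁻¹ * x * g)) * g⁻¹ := by group
            _ = g * (g⁻¹ * x * g * q) * g⁻¹ := by rw [h1]
            _ = x * (g * q * g⁻¹) := by group
      simp only [m, e, N', Subgroup.card_map_of_injective (f := (MulAut.conj g).toMonoidHom) (MulAut.conj g).injective]
    have h1 := hsub N N'
    have hsupm : m (N ⊔ N') = m H₀ := by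
      refine le_antisymm (hmax _ (sup_le hNG hN'G)) ?_
      rw [hN'm, hNm] at h1
      have h2 := hmax (N ⊓ N') (inf_le_left.trans hNG)
      by_contra hlt
      push Not at hlt
      have h3 : m (N ⊔ N') * m (N ⊓ N') < m H₀ * m H₀ :=
        mul_lt_mul hlt h2 (hpos _) (hpos _).le
      linarith
    have hle : N ⊔ N' ≤ N := hNmax ⟨sup_le hNG hN'G,
      fun h => hN1 (le_bot_iff.mp (h ▸ le_sup_left)), hsupm⟩ le_sup_left
    exact Subgroup.eq_of_le_of_card_ge (le_sup_right.trans hle)
      (Subgroup.card_map_of_injective (MulAut.conj g).injective).ge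
  have hCn : G ≤ Subgroup.normalizer ((V ⊓ Subgroup.centralizer (N : Set X) : Subgroup X) : Set X) := by
    refine le_trans (le_inf hGV (hNn.trans ?_)) Subgroup.inf_normalizer_le_normalizer_inf
    intro g hg
    rw [Subgroup.mem_normalizer_iff]
    have key : ∀ g ∈ Subgroup.normalizer (N : Set X), ∀ x ∈ Subgroup.centralizer (N : Set X),
        g * x * g⁻¹ ∈ Subgroup.centralizer (N : Set X) := by
      intro g hg x hx q hq
      have h1 := hx _ ((Subgroup.mem_normalizer_iff''.mp hg q).mp hq)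
      calc q * (g * x * g⁻¹) = g * (g⁻¹ * q * g * x) * g⁻¹ := by group
        _ = g * (x * (g⁻¹ * q * g)) * g⁻¹ := by rw [h1]
        _ = g * x * g⁻¹ * q := by group
    refine fun x => ⟨key g hg x, fun h => ?_⟩
    have := key g⁻¹ (inv_mem hg) _ h
    simpa [mul_assoc] using this
  rcases hirr _ inf_le_left hCn with h | h
  · have h1 : m N = (Nat.card ↥N : ℝ) ^ α := by
      show (Nat.card ↥N : ℝ) ^ α * (Nat.card ↥(V ⊓ Subgroup.centralizer (N : Set X)) : ℝ) = _
      rw [h]; simp
    calc (Nat.card V : ℝ) ≤ m N := hNm ▸ hge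
      _ = (Nat.card ↥N : ℝ) ^ α := h1
      _ ≤ (Nat.card G : ℝ) ^ α :=
        Real.rpow_le_rpow (by positivity) (by exact_mod_cast Subgroup.card_le_of_le hNG) hα.le
  · exfalso
    refine hN1 (le_bot_iff.mp (hfaith ▸ le_inf hNG ?_))
    exact Subgroup.le_centralizer_iff.mp (inf_eq_left.mp h)

end Cfsg.Agent.S3037
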