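import Cfsg.Statements.S3038
import Cfsg.Agent.Lib.Local.IsolatedTwo.Shape
import Cfsg.Agent.Lib.Local.IsolatedRankTwo
import Cfsg.Agent.S0126

set_option autoImplicit false
open Cfsg

namespace Cfsg.Agent.S3038

/-- Let G be a finite group and p an odd prime with O_{p'}(G) = 1. Suppose that G has p-rank at most 2 and that some element x of order p is isolated in G and not central. Then F*(G) is a non-abelian simple group, and for every Sylow p-subgroup P of F*(G), either no conjugate of x lies in P and P is cyclic, or some conjugate of x lies in P and either P is extraspecial of order p³ and exponent p, or p = 3 and P has order 3^{2k+1} for some k ≥ 2 and is of maximal class (nilpotency class 2k). Since O_{p'}(G) = 1, such an x is not central modulo O_{p'}(G): the hypotheses describe a counterexample to the Z*_p statement in p-rank at most 2, and the conclusion records the structure it would have. -/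
theorem result {G : Type*} [Group G] [Finite G] {p : ℕ} [Fact p.Prime] (hp : p ≠ 2) (hcore : Cfsg.pPrimeCore p G = ⊥)
    (hrank : Cfsg.PRankLE p 2 G) (x : G) (hx : orderOf x = p) (hiso : Cfsg.IsIsolated x) (hnc : x ∉ Subgroup.center G) :
    IsSimpleGroup ↥(Cfsg.generalizedFittingSubgroup G) ∧ ¬ IsMulCommutative ↥(Cfsg.generalizedFittingSubgroup G) ∧
    ∀ P : Sylow p ↥(Cfsg.generalizedFittingSubgroup G),
      ((∀ g : G, g * x * g⁻¹ ∉ ((P : Subgroup ↥(Cfsg.generalizedFittingSubgroup G)).map (Cfsg.generalizedFittingSubgroup G).subtype)) ∧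
          IsCyclic ↥(P : Subgroup ↥(Cfsg.generalizedFittingSubgroup G))) ∨
      ((∃ g : G, g * x * g⁻¹ ∈ ((P : Subgroup ↥(Cfsg.generalizedFittingSubgroup G)).map (Cfsg.generalizedFittingSubgroup G).subtype)) ∧
        ((Cfsg.IsExtraspecial p ↥(P : Subgroup ↥(Cfsg.generalizedFittingSubgroup G)) ∧
            Nat.card (P : Subgroup ↥(Cfsg.generalizedFittingSubgroup G)) = p ^ 3 ∧
            ∀ y ∈ (P : Subgroup ↥(Cfsg.generalizedFittingSubgroup G)), y ^ p = 1) ∨
         (p = 3 ∧ ∃ k : ℕ, 2 ≤ k ∧ Nat.card (P : Subgroup ↥(Cfsg.generalizedFittingSubgroup G)) = 3 ^ (2 * k + 1) ∧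
            ∃ _ : Group.IsNilpotent ↥(P : Subgroup ↥(Cfsg.generalizedFittingSubgroup G)),
              Group.nilpotencyClass ↥(P : Subgroup ↥(Cfsg.generalizedFittingSubgroup G)) = 2 * k))) := by
  classical
  obtain ⟨hsimple, hnab⟩ :=
    Cfsg.Lib.Local.IsolatedRankTwo.generalizedFitting_simple hp hcore hrank hx hiso hnc
  refine ⟨hsimple, hnab, ?_⟩
  set F := Cfsg.generalizedFittingSubgroup G with hF
  intro P
  have hp' : p.Prime := Fact.out
  have hx1 : x ≠ 1 := fun e => hp'.ne_one (by rw [← hx, e, orderOf_one])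
  by_cases hex : ∃ g : G, g * x * g⁻¹ ∈ (P : Subgroup F).map F.subtype
  · refine Or.inr ⟨hex, ?_⟩
    obtain ⟨g, x', hx'P, hx'⟩ := hex
    have hisoG := Cfsg.Lib.Local.isIsolated_conj hiso g
    rw [← hx'] at hisoG
    have hisoF : Cfsg.IsIsolated x' := fun c hc => Subtype.ext (by
      simpa using hisoG (c : G) (by simpa using hc.map F.subtype))
    have hord : orderOf x' = p := by
      rw [← Subgroup.orderOf_coe, show (x' : G) = g * x * g⁻¹ from hx', ← hx]
      exact (MulAut.conj g).orderOf_eq x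
    have hperf : commutator F = ⊤ := by
      haveI := hsimple
      refine ((Subgroup.commutator_normal (⊤ : Subgroup F) ⊤).eq_bot_or_eq_top).resolve_left fun e => hnab ?_
      exact ⟨⟨fun a b => commutatorElement_eq_one_iff_mul_comm.1 (Subgroup.mem_bot.1
        (e ▸ Subgroup.commutator_mem_commutator (Subgroup.mem_top a) (Subgroup.mem_top b)))⟩⟩
    have hS : Cfsg.Lib.Local.IsolatedTwo.Setup p (P : Subgroup F) x' :=
      { ne_two := hp
        isPGroup := P.isPGroup'
        sylow := P.not_dvd_index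
        perfect := hperf
        rank := fun A hA hexp => by
          rw [← Subgroup.card_map_of_injective (K := A) F.subtype_injective]
          refine hrank _ (haveI := hA; inferInstance) ?_
          rintro _ ⟨a, ha, rfl⟩
          rw [← map_pow, hexp a ha, map_one]
        mem := hx'P
        ne_one := fun e => hp'.ne_one (by rw [← hord, e, orderOf_one])
        pow_eq := hord ▸ pow_orderOf_eq_one x'
        isolated := hisoF }
    rcases hS.shape with ⟨h1, h2, h3⟩ | h
    · exact Or.inl ⟨h1, h2, h3⟩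
    · exact Or.inr h
  · refine Or.inl ⟨fun g hg => hex ⟨g, hg⟩, ?_⟩
    by_contra hnc'
    obtain ⟨E, -, hE, hEc⟩ := Cfsg.Agent.S0126.result hp P.isPGroup' hnc'
    obtain ⟨S, hS⟩ := (P.isPGroup'.map F.subtype).exists_le_sylow
    obtain ⟨S', hS'⟩ := (IsPGroup.of_card (n := 1)
      (by rw [Nat.card_zpowers, hx, pow_one]) : IsPGroup p (Subgroup.zpowers x)).exists_le_sylow
    obtain ⟨g, hg⟩ := MulAction.exists_smul_eq G S' S
    have hy : g * x * g⁻¹ ∈ (S : Subgroup G) := by
      rw [← hg]
      exact ⟨x, hS' (Subgroup.mem_zpowers x), rfl⟩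
    have hisoy := Cfsg.Lib.Local.isIsolated_conj hiso g
    have hcy : ∀ s ∈ (S : Subgroup G), Commute s (g * x * g⁻¹) := fun s hs =>
      Subgroup.mem_centralizer_singleton_iff.1
        (Cfsg.Lib.Local.isolated_le_centralizer hisoy S.isPGroup' hy hs)
    have hmem : ∀ e ∈ E, ((e : F) : G) ∈ (P : Subgroup F).map F.subtype := fun e _ => ⟨e, e.2, rfl⟩
    obtain ⟨a, ha, ha1⟩ : ∃ a ∈ E, a ≠ 1 := by
      by_contra! hall
      have hle : E = ⊥ := (Subgroup.eq_bot_iff_forall E).2 hall
      rw [hle, Subgroup.card_bot] at hEc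
      exact absurd hEc (Nat.one_lt_pow two_ne_zero hp'.one_lt).ne
    have hao : orderOf ((a : F) : G) = p := by
      rw [Subgroup.orderOf_coe, Subgroup.orderOf_coe]
      exact orderOf_eq_prime (hE.2 a ha) ha1
    obtain ⟨b, hb, hba⟩ : ∃ b ∈ E, b ∉ Subgroup.zpowers a := by
      by_contra! hall
      have h1 := Subgroup.card_le_of_le hall
      rw [hEc, Nat.card_zpowers, orderOf_eq_prime (hE.2 a ha) ha1] at h1
      exact absurd h1 (not_le.2 (lt_self_pow₀ hp'.one_lt one_lt_two))
    have hb1 : b ≠ 1 := fun e => hba (e ▸ one_mem _)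
    have hbo : orderOf ((b : F) : G) = p := by
      rw [Subgroup.orderOf_coe, Subgroup.orderOf_coe]
      exact orderOf_eq_prime (hE.2 b hb) hb1
    have hab : Commute ((a : F) : G) ((b : F) : G) :=
      congrArg (fun z : E => (((z : ↥(P : Subgroup F)) : F) : G)) (hE.1.is_comm.comm ⟨a, ha⟩ ⟨b, hb⟩)
    have hbna : ((b : F) : G) ∉ Subgroup.zpowers ((a : F) : G) := by
      intro hm
      obtain ⟨i, hi⟩ := Subgroup.mem_zpowers_iff.1 hm
      exact hba (Subgroup.mem_zpowers_iff.2 ⟨i, Subtype.ext (Subtype.ext (by simpa using hi))⟩)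
    obtain ⟨i, j, hij⟩ := Cfsg.Lib.Local.IsolatedRankTwo.exists_zpow_mul hrank hao hbo
      (show (g * x * g⁻¹) ^ p = 1 by rw [conj_pow, ← hx, pow_orderOf_eq_one]; group)
      hab (hcy _ (hS (hmem a ha))) (hcy _ (hS (hmem b hb))) hbna
    exact hex ⟨g, hij ▸ mul_mem (zpow_mem (hmem a ha) i) (zpow_mem (hmem b hb) j)⟩

end Cfsg.Agent.S3038
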