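import Cfsg.Statements.S3047
import Cfsg.Agent.Lib.Local.RankOneRed.Kernel
import Cfsg.Agent.Lib.Local.RankOneRed.SU3

set_option autoImplicit false
open Cfsg

namespace Cfsg.Agent.S3047

/-- Let p ≥ 5 be a prime, G a finite group all of whose composition factors are known simple groups, S a Sylow p-subgroup and P a p-minimal subgroup of G containing S such that O^p(P/O_p(P)) is isomorphic to SL₂(pᵃ), PSL₂(pᵃ), SU₃(pᵃ) or PSU₃(pᵃ) for some a ≥ 1. Let L be the subgroup generated by N_G(S) and the p-minimal subgroups of G containing S other than P. Then either O^p(P) is normal in G, or every p-element of the centre of L lies in O_p(P). -/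
theorem result {G : Type*} [Group G] [Finite G] {p : ℕ} [Fact p.Prime] (hp : 5 ≤ p) (hK : Cfsg.IsCompositionKGroup G)
    (S : Sylow p G) (P : Subgroup G) (hSP : (S : Subgroup G) ≤ P) (hPmin : Cfsg.IsPMinimal p ↥P) [hn : (Cfsg.pCore p ↥P).Normal]
    (hrk1 : ∃ (F : Type) (_ : Field F) (_ : Fintype F) (a : ℕ), 1 ≤ a ∧
      ((Fintype.card F = p ^ a ∧ (Nonempty (↥(Cfsg.pResidual p (↥P ⧸ Cfsg.pCore p ↥P)) ≃* Matrix.SpecialLinearGroup (Fin 2) F) ∨
                                  Nonempty (↥(Cfsg.pResidual p (↥P ⧸ Cfsg.pCore p ↥P)) ≃* Matrix.ProjectiveSpecialLinearGroup (Fin 2) F))) ∨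
       (Fintype.card F = p ^ (2 * a) ∧ (Nonempty (↥(Cfsg.pResidual p (↥P ⧸ Cfsg.pCore p ↥P)) ≃* ↥(Cfsg.SU 3 F (p ^ a))) ∨
                                        Nonempty (↥(Cfsg.pResidual p (↥P ⧸ Cfsg.pCore p ↥P)) ≃* Cfsg.PSU 3 F (p ^ a))))))
    (L : Subgroup G)
    (hL : L = Subgroup.normalizer ((S : Subgroup G) : Set G) ⊔ ⨆ P' : {P' : Subgroup G // (S : Subgroup G) ≤ P' ∧ Cfsg.IsPMinimal p ↥P' ∧ P' ≠ P}, (P' : Subgroup G)) :
    ((Cfsg.pResidual p ↥P).map P.subtype).Normal ∨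
    ∀ z ∈ L ⊓ Subgroup.centralizer (L : Set G), (∃ k : ℕ, orderOf z = p ^ k) → z ∈ (Cfsg.pCore p ↥P).map P.subtype := by
  right
  intro z hz hzp
  have := hn
  have : Finite ↥P := inferInstance
  set π := QuotientGroup.mk' (Cfsg.pCore p ↥P) with hπ
  have hE : Cfsg.Lib.RankOneRed.HasRankOneSylow p ↥(Cfsg.pResidual p (↥P ⧸ Cfsg.pCore p ↥P)) := by
    obtain ⟨F, _, _, a, ha, h⟩ := hrk1
    rcases h with ⟨hF, ⟨⟨e⟩⟩ | ⟨⟨e⟩⟩⟩ | ⟨hF, ⟨⟨e⟩⟩ | ⟨⟨e⟩⟩⟩
    · exact (Cfsg.Lib.RankOneRed.hasRankOneSylow_SL2 hp hF).of_equiv e.symm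
    · exact ((Cfsg.Lib.RankOneRed.hasRankOneSylow_SL2 hp hF).map (QuotientGroup.mk' _)
        (QuotientGroup.mk'_surjective _) (QuotientGroup.ker_mk' _).le).of_equiv e.symm
    · exact (Cfsg.Lib.RankOneRed.hasRankOneSylow_SU3 hp ha hF).of_equiv e.symm
    · exact ((Cfsg.Lib.RankOneRed.hasRankOneSylow_SU3 hp ha hF).map (QuotientGroup.mk' _)
        (QuotientGroup.mk'_surjective _) (QuotientGroup.ker_mk' _).le).of_equiv e.symm
  have hSL : Subgroup.normalizer ((S : Subgroup G) : Set G) ≤ L := hL ▸ le_sup_left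
  have hzc : ∀ g ∈ L, g * z = z * g := fun g hg => Subgroup.mem_centralizer_iff.1 hz.2 g hg
  -- `z` lies in `S`
  have hzS : z ∈ (S : Subgroup G) := by
    obtain ⟨k, hk⟩ := hzp
    obtain ⟨T, hT⟩ := Cfsg.Lib.RankOneRed.exists_sylow_mem (p := p) (x := z) ⟨k, by rw [← hk, pow_orderOf_eq_one]⟩
    have hzN : z ∈ Subgroup.normalizer ((S : Subgroup G) : Set G) := by
      rw [Subgroup.mem_normalizer_iff]
      intro s
      constructor
      · intro hs
        rwa [← hzc s (hSL (Subgroup.le_normalizer hs)), mul_inv_cancel_right]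
      · intro hs
        have h3 : z * s * z⁻¹ * z = z * (z * s * z⁻¹) := hzc _ (hSL (Subgroup.le_normalizer hs))
        rw [inv_mul_cancel_right] at h3
        rwa [← mul_left_cancel h3] at hs
    have hp' : IsPGroup p (Subgroup.zpowers z) := T.isPGroup'.to_le (Subgroup.zpowers_le.2 hT)
    have h5 := hp'.inf_normalizer_sylow S
    have h6 : z ∈ Subgroup.zpowers z ⊓ Subgroup.normalizer (S : Set G) := ⟨Subgroup.mem_zpowers z, hzN⟩
    rw [h5] at h6
    exact h6.2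
  -- the Sylow subgroup of the quotient
  let S' : Sylow p ↥P := S.subtype hSP
  let Sb : Sylow p (↥P ⧸ Cfsg.pCore p ↥P) := Sylow.mapSurjective (QuotientGroup.mk'_surjective _) S'
  have hmax : ∀ H K : Subgroup (↥P ⧸ Cfsg.pCore p ↥P), (Sb : Subgroup _) ≤ H → (Sb : Subgroup _) ≤ K →
      H ≠ ⊤ → K ≠ ⊤ → H ⊔ K ≠ ⊤ := by
    intro H K hH hK hHt hKt
    obtain ⟨-, M, ⟨hM, hSM⟩, huniq⟩ := hPmin S'
    have key : ∀ H : Subgroup (↥P ⧸ Cfsg.pCore p ↥P), (Sb : Subgroup _) ≤ H → H ≠ ⊤ → H.comap π ≤ M := by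
      intro H hH hHt
      have hne : H.comap π ≠ ⊤ := by
        rw [← Subgroup.comap_top π]
        exact fun h => hHt (Subgroup.comap_injective (QuotientGroup.mk'_surjective _) h)
      obtain ⟨N, hN, hle⟩ := (eq_top_or_exists_le_coatom (H.comap π)).resolve_left hne
      have hSN : (S' : Subgroup ↥P) ≤ N :=
        ((Subgroup.le_comap_map π (S' : Subgroup ↥P)).trans (Subgroup.comap_mono hH)).trans hle
      rw [← huniq N ⟨hN, hSN⟩]
      exact hle
    intro htop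
    have h := Subgroup.comap_sup_eq π H K (QuotientGroup.mk'_surjective _)
    rw [htop, Subgroup.comap_top] at h
    exact hM.1 (eq_top_iff.2 (h ▸ sup_le (key H hH hHt) (key K hK hKt)))
  have hzP : z ∈ P := hSP hzS
  have hcore_le : Cfsg.pCore p ↥P ≤ (S' : Subgroup ↥P) := Cfsg.Lib.Core.pCore_le_sylow S'
  have hz1 : π ⟨z, hzP⟩ = 1 := by
    refine Cfsg.Lib.RankOneRed.eq_one_of_commute Cfsg.Lib.Core.pCore_quotient_pCore_eq_bot hE Sb hmax
      ⟨⟨z, hzP⟩, hzS, rfl⟩ fun g hg => ?_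
    obtain ⟨g, rfl⟩ := QuotientGroup.mk'_surjective _ g
    have hgS : (g : G) ∈ Subgroup.normalizer ((S : Subgroup G) : Set G) := by
      have hin : ∀ s : ↥P, (s : G) ∈ (S : Subgroup G) → ((g * s * g⁻¹ : ↥P) : G) ∈ (S : Subgroup G) := by
        intro s hs
        have h1 := (Subgroup.mem_normalizer_iff.1 hg (π s)).1 ⟨s, hs, rfl⟩
        rw [← map_inv, ← map_mul, ← map_mul] at h1
        obtain ⟨y, hy, hye⟩ := h1
        have h2 : y⁻¹ * (g * s * g⁻¹) ∈ Cfsg.pCore p ↥P := QuotientGroup.eq.1 hye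
        have h3 := mul_mem (s := (S' : Subgroup ↥P)) hy (hcore_le h2)
        rw [mul_inv_cancel_left] at h3
        exact h3
      have hmap : (S : Subgroup G).map (MulAut.conj (g : G)).toMonoidHom ≤ S := by
        rintro _ ⟨s, hs, rfl⟩
        exact hin ⟨s, hSP hs⟩ hs
      exact Cfsg.Lib.Core.mem_normalizer_iff_map_conj.2 (Subgroup.eq_of_le_of_card_ge hmap
        (le_of_eq (Nat.card_congr ((S : Subgroup G).equivMapOfInjective _ (MulEquiv.injective _)).toEquiv)))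
    rw [← map_mul, ← map_mul]
    exact congrArg π (Subtype.ext (hzc _ (hSL hgS)))
  exact ⟨⟨z, hzP⟩, (QuotientGroup.eq_one_iff _).1 hz1, rfl⟩

end Cfsg.Agent.S3047
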