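import Cfsg.Statements.S3050
import Cfsg.Agent.Lib.Local.FPFThreeNaturalModule

set_option autoImplicit false
open Cfsg

namespace Cfsg.Agent.S3050

open scoped commutatorElement

/-- Let G be a finite group with a normal 2-subgroup Q such that G/Q is isomorphic to SL(2, 2ⁿ) with n ≥ 2, and suppose some element of G of order 3 fixes no nonidentity element of Q under conjugation. Then Q is elementary abelian and is the direct product of normal subgroups of G on each of which G acts as SL(2, 2ⁿ) acts on its natural two-dimensional module (a Galois twist of the natural action allowed). -/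
theorem result {G : Type*} [Group G] [Finite G]
    (Q : Subgroup G) [Q.Normal] (hQ : IsPGroup 2 ↥Q) (n : ℕ) (hn : 2 ≤ n)
    (K : Type*) [Field K] [Fintype K] (hK : Fintype.card K = 2 ^ n)
    (e : G ⧸ Q ≃* Matrix.SpecialLinearGroup (Fin 2) K)
    (x : G) (hx : orderOf x = 3) (hfpf : ∀ q ∈ Q, x * q * x⁻¹ = q → q = 1) :
    Cfsg.IsElementaryAbelian 2 Q ∧
      ∃ (k : ℕ) (V : Fin k → Subgroup G), (∀ i, V i ≤ Q ∧ (V i).Normal ∧
        Cfsg.ActsAsSL2OnSection K ⊤ ⊤ (V i) ⊥) ∧ iSupIndep V ∧ ⨆ i, V i = Q := by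
  classical
  have h2 : (2 : K) = 0 := by
    have h0 : ((Fintype.card K : ℕ) : K) = 0 := Nat.cast_card_eq_zero K
    rw [hK, Nat.cast_pow] at h0
    simpa using eq_zero_of_pow_eq_zero h0
  have hF : ∃ a : Kˣ, (a : K) ≠ 1 := by
    by_contra hcon
    push Not at hcon
    have : Fintype.card K ≤ 2 := by
      rw [← Finset.card_univ]
      refine (Finset.card_le_card (t := {0, 1}) fun z _ => ?_).trans Finset.card_le_two
      by_cases hz : z = 0
      · simp [hz]
      · simpa [hz] using hcon (Units.mk0 z hz)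
    rw [hK] at this
    have : 2 ^ 2 ≤ 2 := le_trans (Nat.pow_le_pow_right (by norm_num) hn) this
    omega
  have hd := Cfsg.Lib.Local.Higman.derived_eq_bot h2 hF hQ x hx hfpf e
  haveI : IsMulCommutative Q := ⟨⟨fun a b => Subtype.ext
    (commutatorElement_eq_one_iff_mul_comm.1 (Subgroup.mem_bot.1 (hd ▸ Subgroup.commutator_mem_commutator a.2 b.2)))⟩⟩
  have hc : Q ≤ Subgroup.centralizer (Q : Set G) := fun q hq =>
    Subgroup.mem_centralizer_iff.2 fun q' hq' =>
      congrArg Subtype.val (IsMulCommutative.is_comm.comm (⟨q', hq'⟩ : ↥Q) ⟨q, hq⟩)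
  obtain ⟨hel, k, T, hT, hTe⟩ := Cfsg.Lib.Local.Higman.abelian_case e h2 hF hQ x hx Q hQ hc hfpf
  refine ⟨hel, k, ?_⟩
  let Θ : Multiplicative (Fin k → Fin 2 → K) →* G := Q.subtype.comp (AddMonoidHom.toMultiplicativeLeft T)
  have hΘ : ∀ v, Θ (Multiplicative.ofAdd v) = ((T v).toMul : G) := fun v => rfl
  have hΘi : Function.Injective Θ := fun a b h => hT.1 (Additive.toMul.injective (Subtype.ext h))
  let sgl : Fin k → (Multiplicative (Fin 2 → K) →* Multiplicative (Fin k → Fin 2 → K)) := fun i =>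
    AddMonoidHom.toMultiplicative (AddMonoidHom.single (fun _ : Fin k => Fin 2 → K) i)
  refine ⟨fun i => (Θ.comp (sgl i)).range, fun i => ?_, ?_, ?_⟩
  · have hconj : ∀ (g : G) (v : Fin 2 → K), g * Θ (sgl i (Multiplicative.ofAdd v)) * g⁻¹ =
        Θ (sgl i (Multiplicative.ofAdd ((e (g : G ⧸ Q) : Matrix (Fin 2) (Fin 2) K).mulVec v))) := by
      intro g v
      show g * ((T (Pi.single i v)).toMul : G) * g⁻¹ = ((T (Pi.single i _)).toMul : G)
      rw [← Cfsg.Lib.Local.Higman.quotRep_apply e Q hc, ← hTe]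
      congr
      funext j
      rcases eq_or_ne j i with rfl | hj
      · rw [Pi.single_eq_same, Pi.single_eq_same]
        rfl
      · rw [Pi.single_eq_of_ne hj, Pi.single_eq_of_ne hj, Matrix.mulVec_zero]
    have hnorm : ((Θ.comp (sgl i)).range).Normal := ⟨fun z hz g => by
      obtain ⟨v, rfl⟩ := hz
      exact ⟨_, (hconj g v.toAdd).symm⟩⟩
    refine ⟨?_, hnorm, ?_⟩
    · rintro _ ⟨v, rfl⟩
      exact (T _).toMul.2
    · have hinj : Function.Injective (Θ.comp (sgl i)) := by
        intro a b h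
        have h' := congrArg Multiplicative.toAdd (hΘi h)
        exact Multiplicative.toAdd.injective (Pi.single_injective i h')
      obtain ⟨ψ, hψ⟩ : ∃ ψ : ↥(Θ.comp (sgl i)).range →* Multiplicative (Fin 2 → K),
          ∀ v, ψ ⟨Θ.comp (sgl i) v, v, rfl⟩ = v :=
        ⟨(MonoidHom.ofInjective hinj).symm.toMonoidHom, fun v => (MonoidHom.ofInjective hinj).symm_apply_apply v⟩
      refine ⟨?_, bot_le, e.toMonoidHom.comp ((QuotientGroup.mk' Q).comp (Subgroup.subtype ⊤)), ψ, ?_, ?_, ?_, ?_⟩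
      · rw [Subgroup.normalizer_eq_top_iff.2 hnorm]
      · refine MonoidHom.range_eq_top.2 fun t => ?_
        obtain ⟨g, hg⟩ := QuotientGroup.mk'_surjective Q (e.symm t)
        exact ⟨⟨g, Subgroup.mem_top g⟩, by
          show e (QuotientGroup.mk' Q g) = t
          rw [hg, e.apply_symm_apply]⟩
      · exact fun v => ⟨_, hψ v⟩
      · rintro ⟨_, v, rfl⟩
        rw [hψ, Subgroup.mem_bot]
        exact ⟨fun h => (congrArg (Θ.comp (sgl i)) h).trans (map_one _), fun h => hinj (h.trans (map_one _).symm)⟩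
      · rintro ⟨g, -⟩ ⟨_, v, rfl⟩
        refine ⟨⟨_, _, rfl⟩, (hconj g v.toAdd).symm, ?_⟩
        rw [hψ]
        have h1 : ψ ⟨_, v, rfl⟩ = v := hψ v
        rw [show (⟨Θ.comp (sgl i) v, _⟩ : ↥(Θ.comp (sgl i)).range) = ⟨Θ.comp (sgl i) v, v, rfl⟩ from rfl, hψ]
        rfl
  · rw [iSupIndep_def]
    intro i
    rw [disjoint_iff, eq_bot_iff]
    rintro z ⟨⟨v, rfl⟩, hz⟩
    let P : AddSubgroup (Fin k → Fin 2 → K) := AddMonoidHom.ker (Pi.evalAddMonoidHom (fun _ => Fin 2 → K) i)
    have hle : (⨆ j, ⨆ (_ : j ≠ i), (Θ.comp (sgl j)).range) ≤ (AddSubgroup.toSubgroup P).map Θ := by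
      refine iSup₂_le fun j hj => ?_
      rintro _ ⟨u', rfl⟩
      exact ⟨sgl j u', Pi.single_eq_of_ne (Ne.symm hj) _, rfl⟩
    obtain ⟨u', hu', he'⟩ := hle hz
    have h' : Multiplicative.toAdd u' i = Multiplicative.toAdd (sgl i v) i := by rw [hΘi he']
    have hv : v.toAdd = 0 := by
      have h1 : Multiplicative.toAdd (sgl i v) i = v.toAdd := Pi.single_eq_same (M := fun _ : Fin k => Fin 2 → K) i v.toAdd
      rw [← h1, ← h']
      exact hu'
    rw [Subgroup.mem_bot, show v = 1 from Multiplicative.toAdd.injective hv, map_one]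
  · refine le_antisymm (iSup_le fun i => ?_) fun q hq => ?_
    · rintro _ ⟨v, rfl⟩
      exact (T _).toMul.2
    · obtain ⟨v, hv⟩ := hT.2 (Additive.ofMul ⟨q, hq⟩)
      have hsum : Multiplicative.ofAdd v = ∏ i, sgl i (Multiplicative.ofAdd (v i)) := by
        rw [← Finset.univ_sum_single v, ofAdd_sum]
        refine Finset.prod_congr rfl fun i _ => ?_
        simp only [sgl, Finset.univ_sum_single]
        rfl
      rw [show q = Θ (Multiplicative.ofAdd v) from by rw [hΘ, hv]; rfl, hsum]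
      obtain ⟨U, hU⟩ : ∃ U : Subgroup G, U = ⨆ i, (Θ.comp (sgl i)).range := ⟨_, rfl⟩
      have hmem : (∏ i, sgl i (Multiplicative.ofAdd (v i))) ∈ U.comap Θ :=
        Subgroup.prod_mem _ fun i _ => by
          show Θ (sgl i (Multiplicative.ofAdd (v i))) ∈ U
          rw [hU]
          exact Subgroup.mem_iSup_of_mem i ⟨_, rfl⟩
      rw [hU] at hmem
      exact hmem

end Cfsg.Agent.S3050
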