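import Cfsg.Statements.S3053
-- import your own Cfsg.Agent.* helpers here
import Cfsg.Agent.Lib.Local.FixedOrderClosed
import Cfsg.Agent.Lib.PGroup.ClassTwo
import Mathlib.GroupTheory.IndexNormal

set_option autoImplicit false
open Cfsg

namespace Cfsg.Agent.S3053

open Subgroup
open scoped commutatorElement

/-- The element inverting a plane on which two transvections are given. -/
theorem exists_neg {G : Type*} [Group G] {u w z e : G} (hze : z * e = e * z)
    (huz : u * z * u⁻¹ = z) (hue : u * e * u⁻¹ = e * z) (hwe : w * e * w⁻¹ = e)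
    (hwz : w * z * w⁻¹ = z * e⁻¹) :
    ∃ t : G, t * z * t⁻¹ = z⁻¹ ∧ t * e * t⁻¹ = e⁻¹ := by
  have h1 : (u * w * u) * z * (u * w * u)⁻¹ = e⁻¹ := by
    calc (u * w * u) * z * (u * w * u)⁻¹ = u * (w * (u * z * u⁻¹) * w⁻¹) * u⁻¹ := by group
      _ = u * (z * e⁻¹) * u⁻¹ := by rw [huz, hwz]
      _ = (u * z * u⁻¹) * (u * e * u⁻¹)⁻¹ := by group
      _ = z * (z⁻¹ * e⁻¹) := by rw [huz, hue, mul_inv_rev]
      _ = e⁻¹ := by rw [mul_inv_cancel_left]
  have h2 : (u * w * u) * e * (u * w * u)⁻¹ = z := by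
    calc (u * w * u) * e * (u * w * u)⁻¹ = u * (w * (u * e * u⁻¹) * w⁻¹) * u⁻¹ := by group
      _ = u * ((w * e * w⁻¹) * (w * z * w⁻¹)) * u⁻¹ := by rw [hue]; group
      _ = u * (e * (z * e⁻¹)) * u⁻¹ := by rw [hwe, hwz]
      _ = u * z * u⁻¹ := by rw [← mul_assoc e, ← hze, mul_inv_cancel_right]
      _ = z := huz
  refine ⟨(u * w * u) * (u * w * u), ?_, ?_⟩
  · calc (u * w * u) * (u * w * u) * z * ((u * w * u) * (u * w * u))⁻¹
        = (u * w * u) * ((u * w * u) * z * (u * w * u)⁻¹) * (u * w * u)⁻¹ := by group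
      _ = ((u * w * u) * e * (u * w * u)⁻¹)⁻¹ := by rw [h1]; group
      _ = z⁻¹ := by rw [h2]
  · calc (u * w * u) * (u * w * u) * e * ((u * w * u) * (u * w * u))⁻¹
        = (u * w * u) * ((u * w * u) * e * (u * w * u)⁻¹) * (u * w * u)⁻¹ := by group
      _ = e⁻¹ := by rw [h2, h1]

/-- A power of a conjugating element realizes a prescribed translation. -/
theorem exists_pow_translate {G : Type*} [Group G] [Finite G] {p : ℕ} [Fact p.Prime] {u a d b : G}
    (hu : u * a * u⁻¹ = a * d) (hud : u * d * u⁻¹ = d) (hd : orderOf d = p) (hb : b ∈ zpowers d) :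
    ∃ k : ℕ, u ^ k * a * (u ^ k)⁻¹ = a * b := by
  rw [← mem_powers_iff_mem_zpowers] at hb
  obtain ⟨k, rfl⟩ := hb
  refine ⟨k, ?_⟩
  have hc : Commute u d := mul_inv_eq_iff_eq_mul.mp hud
  induction k with
  | zero => simp
  | succ k ih =>
    calc u ^ (k + 1) * a * (u ^ (k + 1))⁻¹ = u * (u ^ k * a * (u ^ k)⁻¹) * u⁻¹ := by
          rw [pow_succ']; group
      _ = (u * a * u⁻¹) * (u * d ^ k * u⁻¹) := by rw [ih]; group
      _ = a * d * d ^ k := by rw [hu, (hc.pow_right k).eq, mul_inv_cancel_right]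
      _ = a * d ^ (k + 1) := by rw [mul_assoc, pow_succ']

/-- Let p be an odd prime and G a finite group with a Sylow p-subgroup P that is extraspecial of order p³ and exponent p². Then the centre of P is strongly closed in P with respect to G: a G-conjugate of an element of Z(P) that lies in P already lies in Z(P). In particular a nontrivial central element of P is conjugate in G to no noncentral element of P. -/
theorem result {G : Type*} [Group G] [Finite G]
    {p : ℕ} [Fact p.Prime] (hp : p ≠ 2) (P : Sylow p G) (hE : Cfsg.IsExtraspecial p ↥P)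
    (hcard : Nat.card P = p ^ 3) (hexp : Monoid.exponent ↥P = p ^ 2) :
    Cfsg.IsStronglyClosed ((Subgroup.center ↥P).map (P : Subgroup G).subtype) (P : Subgroup G) := by
  classical
  set Z := (Subgroup.center ↥P).map (P : Subgroup G).subtype with hZdef
  have hpp : p.Prime := Fact.out
  have hZP : Z ≤ (P : Subgroup G) := map_subtype_le _
  have hZc : ∀ z ∈ Z, ∀ x ∈ (P : Subgroup G), x * z = z * x := by
    rintro _ ⟨z, hz, rfl⟩ x hx
    exact congrArg Subtype.val (mem_center_iff.mp hz ⟨x, hx⟩)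
  have hZcard : Nat.card Z = p := by
    rw [hZdef, card_map_of_injective (P : Subgroup G).subtype_injective]; exact hE.2
  have hcl : commutator ↥P ≤ Subgroup.center ↥P := hE.1.2.2.le
  have hcomm : ∀ x ∈ (P : Subgroup G), ∀ y ∈ (P : Subgroup G), ⁅x, y⁆ ∈ Z := by
    intro x hx y hy
    exact ⟨⁅(⟨x, hx⟩ : ↥P), ⟨y, hy⟩⁆, hcl (commutator_mem_commutator (mem_top _) (mem_top _)), rfl⟩
  have hordZ : ∀ z ∈ Z, z ≠ 1 → orderOf z = p ∧ zpowers z = Z := by
    intro z hz hz1
    have h1 : orderOf z = p := by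
      have h : orderOf z ∣ p := by rw [← hZcard]; exact Subgroup.orderOf_dvd_natCard Z hz
      exact ((Nat.dvd_prime hpp).mp h).resolve_left fun h => hz1 (orderOf_eq_one_iff.mp h)
    refine ⟨h1, eq_of_le_of_card_ge (zpowers_le.mpr hz) ?_⟩
    rw [Nat.card_zpowers, h1, hZcard]
  refine ⟨hZP, fun z hz g he => ?_⟩
  by_contra heZ
  set e := g * z * g⁻¹ with hedef
  have hz1 : z ≠ 1 := fun h => heZ (by rw [hedef, h, mul_one, mul_inv_cancel]; exact one_mem _)
  obtain ⟨hzo, hzZ⟩ := hordZ z hz hz1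
  have heo : orderOf e = p := by rw [hedef, ← MulAut.conj_apply, MulEquiv.orderOf_eq, hzo]
  have he1 : e ≠ 1 := fun h => heZ (h ▸ one_mem _)
  have hze : z * e = e * z := (hZc z hz e he).symm
  set E := zpowers z ⊔ zpowers e with hEdef
  have hzn : zpowers e ≤ normalizer (zpowers z : Set G) := by
    rw [hzZ]
    intro x hx
    refine Cfsg.Lib.Local.FixedOrder.mem_normalizer_of_conj_le fun k hk => ?_
    rw [hZc k hk x (zpowers_le.mpr he hx), mul_inv_cancel_right]
    exact hk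
  have hzE : z ∈ E := mem_sup_left (mem_zpowers z)
  have heE : e ∈ E := mem_sup_right (mem_zpowers e)
  have hEP : E ≤ (P : Subgroup G) := sup_le (zpowers_le.mpr (hZP hz)) (zpowers_le.mpr he)
  have hEp : IsPGroup p E := P.2.to_le hEP
  have hEcard : Nat.card E = p ^ 2 := by
    have hinf : (zpowers z).relIndex (zpowers e) = p := by
      have h1 : (zpowers z).relIndex (zpowers e) ∣ p := by
        rw [← heo, ← Nat.card_zpowers]; exact relIndex_dvd_card _ _
      refine ((Nat.dvd_prime hpp).mp h1).resolve_left fun h => heZ ?_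
      rw [← hzZ]
      exact relIndex_eq_one.mp h (mem_zpowers e)
    haveI : ((zpowers z).subgroupOf E).Normal :=
      normal_subgroupOf_of_le_normalizer (sup_le Subgroup.le_normalizer hzn)
    have h2 : (zpowers z).relIndex E = p := by
      have h4 : (zpowers e).subgroupOf E ⊔ (zpowers z).subgroupOf E = ⊤ := by
        rw [← subgroupOf_sup (le_sup_right : zpowers e ≤ E) (le_sup_left : zpowers z ≤ E),
          show zpowers e ⊔ zpowers z = E from sup_comm _ _, subgroupOf_self]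
      have h3 := relIndex_sup_right (H := (zpowers e).subgroupOf E) (K := (zpowers z).subgroupOf E)
      rw [h4, relIndex_top_right, relIndex_subgroupOf (le_sup_right : zpowers e ≤ E), hinf] at h3
      exact h3
    rw [← Cfsg.Lib.Core.card_mul_relIndex (le_sup_left : zpowers z ≤ E), ← hEdef, h2, Nat.card_zpowers,
      hzo, pow_two]
  set C := centralizer (E : Set G) with hCdef
  have hEc : ∀ a ∈ E, ∀ y : G, y * z = z * y → y * e = e * y → y * a = a * y := by
    intro a ha y h1 h2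
    have : E ≤ centralizer ({y} : Set G) := sup_le
      (zpowers_le.mpr (mem_centralizer_singleton_iff.mpr h1.symm))
      (zpowers_le.mpr (mem_centralizer_singleton_iff.mpr h2.symm))
    exact (mem_centralizer_singleton_iff.mp (this ha)).symm
  -- the transvection in `P`
  obtain ⟨u₀, hu₀, hu₀e⟩ : ∃ u ∈ (P : Subgroup G), ⁅e, u⁆ ≠ 1 := by
    by_contra! h
    refine heZ ⟨⟨e, he⟩, mem_center_iff.mpr fun x => Subtype.ext ?_, rfl⟩
    exact (commutatorElement_eq_one_iff_mul_comm.mp (h x x.2)).symm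
  have hPN : (P : Subgroup G) ≤ normalizer (E : Set G) := by
    intro x hx
    refine Cfsg.Lib.Local.FixedOrder.mem_normalizer_of_conj_le fun k hk => ?_
    have h1 : E ≤ E.comap (MulAut.conj x).toMonoidHom := sup_le
      (zpowers_le.mpr (by
        show x * z * x⁻¹ ∈ E
        rw [hZc z hz x hx, mul_inv_cancel_right]; exact hzE))
      (zpowers_le.mpr (by
        show x * e * x⁻¹ ∈ E
        have h2 := hcomm x hx e he
        rw [← hzZ] at h2
        have h3 : x * e * x⁻¹ = ⁅x, e⁆ * e := by rw [commutatorElement_def]; group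
        rw [h3]
        exact mul_mem ((le_sup_left : zpowers z ≤ E) h2) heE))
    exact h1 hk
  obtain ⟨u, huP, hue⟩ : ∃ u ∈ (P : Subgroup G), u * e * u⁻¹ = e * z := by
    have hd : ⁅e, u₀⁆⁻¹ ∈ Z := inv_mem (hcomm e he u₀ hu₀)
    obtain ⟨hdo, hdZ⟩ := hordZ _ hd (inv_ne_one.mpr hu₀e)
    obtain ⟨k, hk⟩ := exists_pow_translate (p := p) (u := u₀) (a := e) (d := ⁅e, u₀⁆⁻¹) (b := z)
      (by
        rw [hZc _ hd e he, commutatorElement_def]; group)
      (by rw [hZc _ hd u₀ hu₀, mul_inv_cancel_right]) hdo (hdZ.symm ▸ hz)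
    exact ⟨u₀ ^ k, pow_mem hu₀ k, hk⟩
  have huz : u * z * u⁻¹ = z := by rw [hZc z hz u huP, mul_inv_cancel_right]
  -- the transvection fixing `e`
  obtain ⟨w, hwe, hwz⟩ : ∃ w : G, w * e * w⁻¹ = e ∧ w * z * w⁻¹ = z * e⁻¹ := by
    set Ce := centralizer ({e} : Set G) with hCe
    have hECe : E ≤ Ce := sup_le (zpowers_le.mpr (mem_centralizer_singleton_iff.mpr hze))
      (zpowers_le.mpr (mem_centralizer_singleton_iff.mpr rfl))
    obtain ⟨S, hS⟩ := (hEp.of_equiv (subgroupOfEquivOfLe hECe).symm).exists_le_sylow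
    set S' := (S : Subgroup Ce).map Ce.subtype with hS'
    have hS'p : IsPGroup p S' := (S.2 : IsPGroup p (S : Subgroup Ce)).map _
    have hES : E ≤ S' := fun x hx => ⟨⟨x, hECe hx⟩, hS (mem_subgroupOf.mpr hx), rfl⟩
    set P' := (P : Subgroup G).map (MulAut.conj g).toMonoidHom with hP'
    have hP'C : P' ≤ Ce := by
      rintro _ ⟨x, hx, rfl⟩
      refine mem_centralizer_singleton_iff.mpr ?_
      show g * x * g⁻¹ * e = e * (g * x * g⁻¹)
      rw [hedef]
      calc g * x * g⁻¹ * (g * z * g⁻¹) = g * (x * z) * g⁻¹ := by group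
        _ = g * (z * x) * g⁻¹ := by rw [hZc z hz x hx]
        _ = g * z * g⁻¹ * (g * x * g⁻¹) := by group
    have hScard : Nat.card S' = p ^ 3 := by
      obtain ⟨c, hc⟩ := IsPGroup.iff_card.mp hS'p
      refine le_antisymm ?_ ?_
      · obtain ⟨T, hT⟩ := hS'p.exists_le_sylow
        rw [← hcard, Sylow.card_eq_multiplicity P, ← Sylow.card_eq_multiplicity T]
        exact Subgroup.card_le_of_le hT
      · obtain ⟨T, hT⟩ := ((P.2.map (MulAut.conj g).toMonoidHom).of_equiv
          (subgroupOfEquivOfLe hP'C).symm).exists_le_sylow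
        rw [hS', card_map_of_injective Ce.subtype_injective, Sylow.card_eq_multiplicity S,
          ← Sylow.card_eq_multiplicity T, ← hcard]
        refine le_trans (le_of_eq ?_) (Subgroup.card_le_of_le hT)
        rw [Nat.card_congr (subgroupOfEquivOfLe hP'C).toEquiv]
        exact (card_map_of_injective (MulAut.conj g).injective).symm
    obtain ⟨w₀, hw₀, hw₀z⟩ : ∃ w ∈ S', w * z * w⁻¹ ≠ z := by
      by_contra! h
      obtain ⟨T, hT⟩ := hS'p.exists_le_sylow
      have hTcard : Nat.card (T : Subgroup G) = Nat.card S' := by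
        rw [hScard, ← hcard, Sylow.card_eq_multiplicity P, ← Sylow.card_eq_multiplicity T]
      have hTeq : S' = T := eq_of_le_of_card_ge hT hTcard.le
      obtain ⟨φ⟩ : Nonempty (↥(T : Subgroup G) ≃* ↥(P : Subgroup G)) := ⟨Sylow.equiv T P⟩
      have hc1 : E.subgroupOf (T : Subgroup G) ≤ Subgroup.center ↥(T : Subgroup G) := by
        intro a ha
        refine mem_center_iff.mpr fun y => Subtype.ext ?_
        refine hEc _ (mem_subgroupOf.mp ha) _ ?_ ?_
        · exact mul_inv_eq_iff_eq_mul.mp (h y (hTeq.ge y.2))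
        · have hy : (y : G) ∈ Ce := by
            obtain ⟨y', -, hy'⟩ := (hTeq.ge y.2 : (y : G) ∈ S')
            exact hy' ▸ y'.2
          exact mem_centralizer_singleton_iff.mp hy
      have h2 : (E.subgroupOf (T : Subgroup G)).map φ.toMonoidHom ≤ Subgroup.center ↥(P : Subgroup G) := by
        rintro _ ⟨a, ha, rfl⟩
        refine mem_center_iff.mpr fun y => ?_
        obtain ⟨y, rfl⟩ := φ.surjective y
        show φ y * φ a = φ a * φ y
        rw [← map_mul, ← map_mul, mem_center_iff.mp (hc1 ha) y]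
      have h3 := Subgroup.card_le_of_le h2
      rw [card_map_of_injective φ.injective, Nat.card_congr (subgroupOfEquivOfLe (hES.trans hTeq.le)).toEquiv,
        hEcard, show Nat.card (Subgroup.center ↥(P : Subgroup G)) = p from hE.2, pow_two] at h3
      exact absurd h3 (not_le.mpr (lt_mul_of_one_lt_right hpp.pos hpp.one_lt))
    have hw₀e : w₀ * e * w₀⁻¹ = e := by
      obtain ⟨y, -, rfl⟩ := hw₀
      exact mul_inv_eq_iff_eq_mul.mpr (mem_centralizer_singleton_iff.mp y.2)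
    have hw₀E : w₀ ∈ normalizer (E : Set G) := by
      have hr : (E.subgroupOf S').Normal := by
        obtain ⟨c, hc⟩ := IsPGroup.iff_card.mp hS'p
        have hidx : E.relIndex S' = p := by
          have h1 := Cfsg.Lib.Core.card_mul_relIndex hES
          rw [hEcard, hScard, pow_succ p 2] at h1
          exact Nat.eq_of_mul_eq_mul_left (pow_pos hpp.pos 2) h1
        refine normal_of_index_eq_minFac_card ?_
        show E.relIndex S' = _
        rw [hidx, hScard, Nat.Prime.pow_minFac hpp (by norm_num)]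
      exact (normal_subgroupOf_iff_le_normalizer hES).mp hr hw₀
    have hen : w₀ ∈ normalizer (zpowers e : Set G) := by
      refine Cfsg.Lib.Local.FixedOrder.mem_normalizer_of_conj_le fun k hk => ?_
      obtain ⟨i, rfl⟩ := mem_zpowers_iff.mp hk
      rw [← conj_zpow, hw₀e]
      exact zpow_mem (mem_zpowers e) i
    have hrel : (zpowers e).relIndex E = p := by
      have h1 := Cfsg.Lib.Core.card_mul_relIndex (le_sup_right : zpowers e ≤ E)
      rw [← hEdef, Nat.card_zpowers, heo, hEcard, pow_two] at h1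
      exact Nat.eq_of_mul_eq_mul_left hpp.pos h1
    have hd := Cfsg.Lib.Local.FixedOrder.conj_mul_inv_mem (p := p) (n := w₀) (le_sup_right : zpowers e ≤ E)
      (sup_le (zpowers_le.mpr (Cfsg.Lib.Local.FixedOrder.mem_normalizer_of_conj_le fun k hk => by
        obtain ⟨i, rfl⟩ := mem_zpowers_iff.mp hk
        rw [← conj_zpow, hze, mul_inv_cancel_right]
        exact zpow_mem (mem_zpowers e) i)) Subgroup.le_normalizer) hrel hw₀E hen
      (fun r hr hrd => by
        obtain ⟨k, hk⟩ := IsPGroup.iff_orderOf.mp hS'p ⟨w₀, hw₀⟩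
        rw [Subgroup.orderOf_mk] at hk
        rw [hk] at hrd
        exact ((Nat.prime_dvd_prime_iff_eq hr hpp).mp (hr.dvd_of_dvd_pow hrd)).ge) hzE
    have hd1 : w₀ * z * w₀⁻¹ * z⁻¹ ≠ 1 := fun h => hw₀z (mul_inv_eq_one.mp h)
    have hdo : orderOf (w₀ * z * w₀⁻¹ * z⁻¹) = p := by
      have h : orderOf (w₀ * z * w₀⁻¹ * z⁻¹) ∣ p := by
        have h' := Subgroup.orderOf_dvd_natCard _ hd
        rwa [Nat.card_zpowers, heo] at h'
      exact ((Nat.dvd_prime hpp).mp h).resolve_left fun h => hd1 (orderOf_eq_one_iff.mp h)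
    have hdz : zpowers (w₀ * z * w₀⁻¹ * z⁻¹) = zpowers e :=
      eq_of_le_of_card_ge (zpowers_le.mpr hd) (by rw [Nat.card_zpowers, Nat.card_zpowers, hdo, heo])
    have hdc : ∀ d ∈ zpowers e, z * d = d * z := fun d hd' => by
      obtain ⟨i, rfl⟩ := mem_zpowers_iff.mp hd'
      exact (Commute.zpow_right hze i).eq
    obtain ⟨k, hk⟩ := exists_pow_translate (p := p) (u := w₀) (a := z) (d := w₀ * z * w₀⁻¹ * z⁻¹)
      (b := e⁻¹)
      (by rw [hdc _ hd, inv_mul_cancel_right])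
      (by
        obtain ⟨i, hi⟩ := mem_zpowers_iff.mp hd
        rw [← hi, ← conj_zpow, hw₀e])
      hdo (hdz.symm ▸ inv_mem (mem_zpowers e))
    refine ⟨w₀ ^ k, ?_, hk⟩
    have hcw : Commute w₀ e := mul_inv_eq_iff_eq_mul.mp hw₀e
    exact mul_inv_eq_iff_eq_mul.mpr (hcw.pow_left k).eq
  obtain ⟨t, htz, hte⟩ := exists_neg hze huz hue hwe hwz
  -- correct `t` to normalize `P`
  have hPC : (P : Subgroup G) ≤ normalizer (C : Set G) :=
    fun x hx => Cfsg.Lib.Local.FixedOrder.mem_normalizer_of_conj_le fun k hk =>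
      mem_centralizer_iff.mpr fun a ha => by
        have hxi := (mem_normalizer_iff.mp (inv_mem (hPN hx)) a).mp ha
        rw [inv_inv] at hxi
        have h1 := mem_centralizer_iff.mp hk _ hxi
        calc a * (x * k * x⁻¹) = x * ((x⁻¹ * a * x) * k) * x⁻¹ := by group
          _ = x * (k * (x⁻¹ * a * x)) * x⁻¹ := by rw [h1]
          _ = x * k * x⁻¹ * a := by group
  set U := (P : Subgroup G) ⊔ C with hU
  have hmove : ∀ x ∈ (P : Subgroup G), t * x * t⁻¹ * x⁻¹ ∈ C := by
    intro x hx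
    have hxi : x⁻¹ ∈ (P : Subgroup G) := inv_mem hx
    obtain ⟨i, hi⟩ : ∃ i : ℤ, x⁻¹ * e * x⁻¹⁻¹ = e * z ^ i := by
      have h1 : ⁅e⁻¹, x⁻¹⁆ ∈ zpowers z := hzZ.symm ▸ hcomm _ (inv_mem he) _ hxi
      obtain ⟨i, hi⟩ := mem_zpowers_iff.mp h1
      exact ⟨i, by rw [hi, commutatorElement_def]; group⟩
    rw [inv_inv] at hi
    have hxz : x * z * x⁻¹ = z := by rw [hZc z hz x hx, mul_inv_cancel_right]
    have htz' : t⁻¹ * z * t = z⁻¹ := by
      have h := congrArg (fun y => t⁻¹ * y⁻¹ * t) htz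
      simpa [mul_assoc] using h.symm
    have hte' : t⁻¹ * e * t = e⁻¹ := by
      have h := congrArg (fun y => t⁻¹ * y⁻¹ * t) hte
      simpa [mul_assoc] using h.symm
    have hez : Commute e z := hze.symm
    have hxe : x * e * x⁻¹ = e * z ^ (-i) := by
      have : e = x * (e * z ^ i) * x⁻¹ := by rw [← hi]; group
      have h2 : x * z ^ i * x⁻¹ = z ^ i := by rw [← conj_zpow, hxz]
      calc x * e * x⁻¹ = x * (e * z ^ i) * x⁻¹ * (x * z ^ i * x⁻¹)⁻¹ := by group
        _ = e * z ^ (-i) := by rw [← this, h2, zpow_neg]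
    refine mem_centralizer_iff.mpr fun a ha => (hEc a ha _ ?_ ?_).symm
    · refine mul_inv_eq_iff_eq_mul.mp ?_
      calc t * x * t⁻¹ * x⁻¹ * z * (t * x * t⁻¹ * x⁻¹)⁻¹
          = t * x * (t⁻¹ * (x⁻¹ * z * x) * t) * x⁻¹ * t⁻¹ := by group
        _ = t * x * z⁻¹ * x⁻¹ * t⁻¹ := by
            rw [show x⁻¹ * z * x = z by rw [mul_assoc, ← hZc z hz x hx, inv_mul_cancel_left], htz']
        _ = t * (x * z * x⁻¹)⁻¹ * t⁻¹ := by group
        _ = (t * z * t⁻¹)⁻¹ := by rw [hxz]; group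
        _ = z := by rw [htz, inv_inv]
    · refine mul_inv_eq_iff_eq_mul.mp ?_
      calc t * x * t⁻¹ * x⁻¹ * e * (t * x * t⁻¹ * x⁻¹)⁻¹
          = t * x * (t⁻¹ * (x⁻¹ * e * x) * t) * x⁻¹ * t⁻¹ := by group
        _ = t * x * ((t⁻¹ * e * t) * (t⁻¹ * z * t) ^ i) * x⁻¹ * t⁻¹ := by
            rw [hi, show t⁻¹ * z * t = t⁻¹ * z * t⁻¹⁻¹ by rw [inv_inv], conj_zpow]; group
        _ = t * ((x * e * x⁻¹)⁻¹ * (x * z * x⁻¹) ^ (-i)) * t⁻¹ := by
            rw [hte', htz', conj_zpow]; group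
        _ = t * e⁻¹ * t⁻¹ := by
            rw [hxe, hxz, mul_inv_rev, zpow_neg, inv_inv,
              (hez.inv_left.zpow_right i).symm.eq, mul_inv_cancel_right]
        _ = (t * e * t⁻¹)⁻¹ := by group
        _ = e := by rw [hte, inv_inv]
  set P₂ := (P : Subgroup G).map (MulAut.conj t).toMonoidHom with hP₂
  have hP₂U : P₂ ≤ U := by
    rintro _ ⟨x, hx, rfl⟩
    show t * x * t⁻¹ ∈ U
    have : t * x * t⁻¹ = (t * x * t⁻¹ * x⁻¹) * x := by group
    rw [this]
    exact mul_mem (mem_sup_right (hmove x hx)) (mem_sup_left hx)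
  let SP : Sylow p U := P.subtype le_sup_left
  have hP₂c : Nat.card (P₂.subgroupOf U) = p ^ (Nat.card U).factorization p := by
    rw [Nat.card_congr (subgroupOfEquivOfLe hP₂U).toEquiv, hP₂,
      card_map_of_injective (MulAut.conj t).injective, ← Sylow.card_eq_multiplicity SP]
    exact (Nat.card_congr (subgroupOfEquivOfLe (le_sup_left : (P : Subgroup G) ≤ U)).toEquiv).symm
  obtain ⟨y, hy⟩ := MulAction.exists_smul_eq U (Sylow.ofCard (P₂.subgroupOf U) hP₂c) SP
  obtain ⟨v, hv, c, hc, hvc⟩ := (Cfsg.Lib.Core.mem_sup_of_le_normalizer hPC).mp y.2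
  set t' := c * t with ht'
  have hnorm : ∀ x ∈ (P : Subgroup G), t' * x * t'⁻¹ ∈ (P : Subgroup G) := by
    intro x hx
    have h1 : y * ⟨t * x * t⁻¹, hP₂U ⟨x, hx, rfl⟩⟩ * y⁻¹ ∈ (SP : Subgroup U) := by
      rw [← hy, Sylow.coe_subgroup_smul]
      exact Subgroup.smul_mem_pointwise_smul _ (MulAut.conj y) _ (mem_subgroupOf.mpr ⟨x, hx, rfl⟩)
    have h2 : (y : G) * (t * x * t⁻¹) * (y : G)⁻¹ ∈ (P : Subgroup G) := mem_subgroupOf.mp h1
    rw [← hvc] at h2
    have h3 := (P : Subgroup G).mul_mem ((P : Subgroup G).mul_mem ((P : Subgroup G).inv_mem hv) h2) hv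
    convert h3 using 1
    rw [ht']; group
  have hcz : c * z = z * c := (mem_centralizer_iff.mp hc z hzE).symm
  have hce : c * e = e * c := (mem_centralizer_iff.mp hc e heE).symm
  have ht'z : t' * z * t'⁻¹ = z⁻¹ := by
    calc t' * z * t'⁻¹ = c * (t * z * t⁻¹) * c⁻¹ := by rw [ht']; group
      _ = (c * z * c⁻¹)⁻¹ := by rw [htz]; group
      _ = z⁻¹ := by rw [hcz, mul_inv_cancel_right]
  have ht'e : t' * e * t'⁻¹ = e⁻¹ := by
    calc t' * e * t'⁻¹ = c * (t * e * t⁻¹) * c⁻¹ := by rw [ht']; group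
      _ = (c * e * c⁻¹)⁻¹ := by rw [hte]; group
      _ = e⁻¹ := by rw [hce, mul_inv_cancel_right]
  -- an element of order `p ^ 2`
  obtain ⟨x₀, hx₀⟩ : ∃ x : ↥P, x ^ p ≠ 1 := by
    by_contra! h
    have h1 : Monoid.exponent ↥P ∣ p := Monoid.exponent_dvd_of_forall_pow_eq_one h
    rw [hexp] at h1
    exact absurd (Nat.le_of_dvd hpp.pos h1) (not_le.mpr (by
      rw [pow_two]; exact lt_mul_of_one_lt_right hpp.pos hpp.one_lt))
  have hx₀Z : ((x₀ ^ p : ↥P) : G) ∈ Z := by
    refine ⟨x₀ ^ p, ?_, rfl⟩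
    rw [← hE.1.2.1]
    exact Cfsg.Lib.PGroup.pow_mem_frattini hE.1.1 x₀
  obtain ⟨-, hz₀⟩ := hordZ _ hx₀Z (fun h => hx₀ (Subtype.ext h))
  have hCP : (P : Subgroup G) ⊓ C = E := by
    have hle : E ≤ (P : Subgroup G) ⊓ C := le_inf hEP fun a ha => mem_centralizer_iff.mpr fun b hb => by
      refine (hEc b hb a ?_ ?_).symm
      · exact hEc z hzE a (hEc a ha z rfl hze).symm (hEc a ha e hze.symm rfl).symm |> fun _ =>
          (hEc a ha z rfl hze).symm
      · exact (hEc a ha e hze.symm rfl).symm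
    refine (eq_of_le_of_card_ge hle ?_).symm
    obtain ⟨k, hk⟩ := IsPGroup.iff_card.mp (P.2.to_le (inf_le_left : (P : Subgroup G) ⊓ C ≤ P))
    have hlt : Nat.card ((P : Subgroup G) ⊓ C : Subgroup G) < Nat.card (P : Subgroup G) := by
      refine Cfsg.Lib.Fusion.card_lt_card_of_lt (lt_of_le_of_ne inf_le_left fun h => heZ ?_)
      refine ⟨⟨e, he⟩, mem_center_iff.mpr fun x => Subtype.ext ?_, rfl⟩
      have hxC : (x : G) ∈ C := by
        have : (x : G) ∈ (P : Subgroup G) ⊓ C := h.ge x.2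
        exact this.2
      exact (mem_centralizer_iff.mp hxC e heE).symm
    rw [hk, hEcard]
    rw [hk, hcard] at hlt
    exact Nat.pow_le_pow_right hpp.pos (Nat.le_of_lt_succ ((Nat.pow_lt_pow_iff_right hpp.one_lt).mp hlt))
  set x₁ : ↥P := ⟨t' * x₀ * t'⁻¹, hnorm x₀ x₀.2⟩ with hx₁
  have hd : ((x₁ * x₀⁻¹ : ↥P) : G) ∈ E := by
    rw [← hCP]
    refine ⟨(x₁ * x₀⁻¹).2, ?_⟩
    show t' * (x₀ : G) * t'⁻¹ * (x₀ : G)⁻¹ ∈ C
    have h1 := hmove x₀ x₀.2
    have : t' * (x₀ : G) * t'⁻¹ * (x₀ : G)⁻¹ =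
        c * (t * (x₀ : G) * t⁻¹ * (x₀ : G)⁻¹) * ((x₀ : G) * c⁻¹ * (x₀ : G)⁻¹) := by
      rw [ht']; group
    rw [this]
    exact mul_mem (mul_mem hc h1) ((mem_normalizer_iff.mp (hPC x₀.2) _).mp (inv_mem hc))
  have hexpE : (x₁ * x₀⁻¹) ^ p = 1 := by
    refine Subtype.ext ?_
    have hEab : ∀ a ∈ E, a ^ p = 1 := by
      intro a ha
      rw [hEdef, Cfsg.Lib.Core.mem_sup_of_le_normalizer (A := zpowers z) (B := zpowers e)] at ha
      · obtain ⟨a, ha, b, hb, rfl⟩ := ha
        obtain ⟨i, rfl⟩ := mem_zpowers_iff.mp ha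
        obtain ⟨j, rfl⟩ := mem_zpowers_iff.mp hb
        rw [((Commute.zpow_left hze i).zpow_right j).mul_pow, ← zpow_natCast, ← zpow_natCast (e ^ j),
          ← zpow_mul, ← zpow_mul, mul_comm i, mul_comm j, zpow_mul, zpow_mul, zpow_natCast, zpow_natCast,
          ← hzo, pow_orderOf_eq_one, hzo, ← heo, pow_orderOf_eq_one, one_zpow, one_zpow, one_mul]
      · refine zpowers_le.mpr (Cfsg.Lib.Local.FixedOrder.mem_normalizer_of_conj_le fun k hk => ?_)
        obtain ⟨i, rfl⟩ := mem_zpowers_iff.mp hk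
        rw [← conj_zpow, hze, mul_inv_cancel_right]
        exact zpow_mem (mem_zpowers e) i
    exact hEab _ hd
  have hpow : x₁ ^ p = x₀ ^ p := by
    have h1 := Cfsg.Lib.PGroup.mul_pow_of_class_two hcl (x₁ * x₀⁻¹) x₀ p
    rw [inv_mul_cancel_right, hexpE, one_mul] at h1
    have hc1 : ⁅x₀, x₁ * x₀⁻¹⁆ ^ p = 1 := by
      rw [← Cfsg.Lib.PGroup.commutatorElement_pow_right hcl, hexpE, commutatorElement_one_right]
    obtain ⟨k, hk⟩ : p ∣ p.choose 2 := Nat.Prime.dvd_choose_self hpp (by norm_num) (by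
      have := hpp.two_le; omega)
    rwa [hk, pow_mul, hc1, one_pow, mul_one] at h1
  obtain ⟨i, hi⟩ := mem_zpowers_iff.mp (hzZ.symm ▸ hx₀Z)
  have h1 : t' * ((x₀ ^ p : ↥P) : G) * t'⁻¹ = ((x₀ ^ p : ↥P) : G) := by
    have := congrArg Subtype.val hpow
    simpa [hx₁, conj_pow] using this
  rw [← hi, ← conj_zpow, ht'z, inv_zpow, ← zpow_neg, zpow_eq_zpow_iff_modEq, hzo] at h1
  have h2 : (p : ℤ) ∣ 2 * i := by
    have := Int.modEq_iff_dvd.mp h1
    simpa [two_mul] using this
  have h3 : (p : ℤ) ∣ i := by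
    refine ((Nat.prime_iff_prime_int.mp hpp).dvd_mul.mp h2).resolve_left fun h => hp ?_
    have : p ∣ 2 := Int.natCast_dvd_natCast.mp (by exact_mod_cast h)
    exact (Nat.prime_dvd_prime_iff_eq hpp Nat.prime_two).mp this
  refine hx₀ (Subtype.ext ?_)
  rw [← hi]
  obtain ⟨k, rfl⟩ := h3
  rw [zpow_mul, zpow_natCast, show z ^ p = 1 from hzo ▸ pow_orderOf_eq_one z, one_zpow]
  rfl

end Cfsg.Agent.S3053
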