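import Cfsg.Statements.S3054
import Cfsg.Agent.Lib.Local.RadicalLines
-- import your own Cfsg.Agent.* helpers here

set_option autoImplicit false
open Cfsg

namespace Cfsg.Agent.S3054

open Subgroup Cfsg.Lib.Local Cfsg.Lib.Local.ExtraspecialThree

/-- Let p be an odd prime and G a finite group with a Sylow p-subgroup P that is extraspecial of order p³ and exponent p. Suppose P contains three distinct subgroups A of order p² (each is elementary abelian of rank 2) such that every automorphism of A of order p is induced by conjugation by an element of G; equivalently the automorphism group induced on A by its normalizer contains the special linear group of A. Then p ≤ 13. -/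
theorem result {G : Type*} [Group G] [Finite G]
    {p : ℕ} [Fact p.Prime] (hp : p ≠ 2) (P : Sylow p G) (hE : Cfsg.IsExtraspecial p ↥P)
    (hcard : Nat.card P = p ^ 3) (hexp : Monoid.exponent ↥P = p)
    (A : Fin 3 → Subgroup G) (hA : Function.Injective A) (hAP : ∀ i, A i ≤ (P : Subgroup G))
    (hAcard : ∀ i, Nat.card ↥(A i) = p ^ 2)
    (hSL : ∀ i, ∀ φ : MulAut ↥(A i), orderOf φ = p → ∃ g : G, ∀ a : ↥(A i), (φ a : G) = g * (a : G) * g⁻¹) :
    p ≤ 13 := by
  classical
  obtain ⟨z, hF⟩ := exists_frame P hE hcard hexp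
  obtain ⟨x, y, hB⟩ := hF.exists_basis
  choose z1 hz1 hmov hspan using fun i => hB.moved_of_automizer (hAP i) (hAcard i) (hSL i)
  by_contra hp13
  have hind : ∀ i j, i ≠ j → EigenLines.cross (coord z x y (z1 i) : Fin 2 → ZMod p) (coord z x y (z1 j)) ≠ 0 := by
    intro i j hij h0
    have hv0 : (coord z x y (z1 i) : Fin 2 → ZMod p) ≠ 0 := fun e => by
      obtain ⟨h, h1, h2, -, h4⟩ := hmov i
      obtain ⟨c, hc⟩ := hB.coord_eq_zero h1 (h4.trans e)
      exact h2 c hc
    obtain ⟨c, hc⟩ := EigenLines.eq_smul_of_cross hv0 h0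
    have hP1 := hAP i (hz1 i)
    have hP2 := hAP j (hz1 j)
    have h5 : (coord z x y (z1 j * upow (z1 i) (-c)) : Fin 2 → ZMod p) = 0 := by
      rw [hB.coord_mul hP2 (Frame.upow_mem hP1 _), hB.coord_upow hP1, hc]; simp
    obtain ⟨k, hk⟩ := hB.coord_eq_zero (mul_mem hP2 (Frame.upow_mem hP1 _)) h5
    have hzA : z ∈ A i := by
      obtain ⟨h, h1, h2, ⟨e, d, hed⟩, h4⟩ := hmov i
      by_contra hz
      have key : ∀ u ∈ A i, ∃ b : ZMod p, u = upow (z1 i) b := by
        intro u hu
        obtain ⟨a, b, rfl⟩ := hspan i u hu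
        by_cases ha : a = 0
        · exact ⟨b, by rw [ha, upow_zero, one_mul]⟩
        · exfalso
          apply hz
          have hm : upow z a ∈ A i := by
            have := mul_mem hu (inv_mem ((A i).pow_mem (hz1 i) b.val))
            rwa [show (z1 i) ^ b.val = upow (z1 i) b from rfl, mul_inv_cancel_right] at this
          have := (A i).pow_mem hm (a⁻¹).val
          change upow (upow z a) a⁻¹ ∈ A i at this
          rwa [upow_mul hF.z_pow, mul_inv_cancel₀ ha, upow_one] at this
      have hsurj : Function.Surjective (fun b : ZMod p => (⟨upow (z1 i) b, (A i).pow_mem (hz1 i) _⟩ : A i)) :=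
        fun u => by obtain ⟨b, hb⟩ := key u u.2; exact ⟨b, Subtype.ext hb.symm⟩
      have := Nat.card_le_card_of_surjective _ hsurj
      rw [hAcard i, Nat.card_zmod] at this
      have h2 : p ^ 1 < p ^ 2 := Nat.pow_lt_pow_right (Fact.out : p.Prime).one_lt (by norm_num)
      rw [pow_one] at h2
      omega
    have hj : z1 j ∈ A i := by
      have : z1 j = upow z k * (upow (z1 i) (-c))⁻¹ := by rw [← hk, mul_inv_cancel_right]
      rw [this]
      exact mul_mem ((A i).pow_mem hzA _) (inv_mem ((A i).pow_mem (hz1 i) _))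
    apply hij
    apply hA
    refine (eq_of_le_of_card_ge (fun u hu => ?_) (by rw [hAcard i, hAcard j])).symm
    obtain ⟨a, b, rfl⟩ := hspan j u hu
    exact mul_mem ((A i).pow_mem hzA _) ((A i).pow_mem hj _)
  have hb := (hB.bound (by omega) (fun i => coord z x y (z1 i)) hmov hind).1
  have hn : 6 ≤ (p - 1) / Nat.gcd (p - 1) 3 := by
    have h14 : 16 ≤ p - 1 := by
      have h14' : p ≠ 14 := fun h => absurd (h ▸ (Fact.out : p.Prime)) (by norm_num)
      have h15 : p ≠ 15 := fun h => absurd (h ▸ (Fact.out : p.Prime)) (by norm_num)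
      have h16 : p ≠ 16 := fun h => absurd (h ▸ (Fact.out : p.Prime)) (by norm_num)
      omega
    rcases (Nat.dvd_prime Nat.prime_three).1 (Nat.gcd_dvd_right (p - 1) 3) with h | h
    · rw [h, Nat.div_one]; omega
    · rw [h]
      have hd : 3 ∣ p - 1 := h ▸ Nat.gcd_dvd_left (p - 1) 3
      obtain ⟨q, hq⟩ := hd
      rw [hq, Nat.mul_div_cancel_left q (by norm_num)]
      omega
  have := hb hn
  rw [Nat.card_fin] at this
  omega

end Cfsg.Agent.S3054
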