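import Cfsg.Statements.S3055
import Cfsg.Agent.Lib.Local.RadicalLines
-- import your own Cfsg.Agent.* helpers here

set_option autoImplicit false
open Cfsg

namespace Cfsg.Agent.S3055

open Subgroup Cfsg.Lib.Local Cfsg.Lib.Local.ExtraspecialThree

/-- Let p be an odd prime and G a finite group with a Sylow p-subgroup P that is extraspecial of order p³ and exponent p. If all nonidentity elements of P are conjugate in G, then p ≤ 7. -/
theorem result {G : Type*} [Group G] [Finite G]
    {p : ℕ} [Fact p.Prime] (hp : p ≠ 2) (P : Sylow p G) (hE : Cfsg.IsExtraspecial p ↥P)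
    (hcard : Nat.card P = p ^ 3) (hexp : Monoid.exponent ↥P = p)
    (hconj : ∀ x y : ↥P, x ≠ 1 → y ≠ 1 → ∃ g : G, g * (x : G) * g⁻¹ = (y : G)) :
    p ≤ 7 := by
  classical
  obtain ⟨z, hF⟩ := exists_frame P hE hcard hexp
  obtain ⟨x, y, hB⟩ := hF.exists_basis
  by_contra hp7
  have hmem : ∀ t : Option (ZMod p), (Option.elim t y fun s => x * upow y s) ∈ P := fun t => by
    cases t with
    | none => exact hB.y_mem
    | some s => exact mul_mem hB.x_mem (Frame.upow_mem hB.y_mem _)
  let v : Option (ZMod p) → Fin 2 → ZMod p := fun t => Option.elim t ![0, 1] fun s => ![1, s]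
  have hv : ∀ t, (coord z x y (Option.elim t y fun s => x * upow y s) : Fin 2 → ZMod p) = v t := by
    intro t
    cases t with
    | none => exact hB.coord_y
    | some s =>
      show coord z x y (x * upow y s) = ![1, s]
      rw [hB.coord_mul hB.x_mem (Frame.upow_mem hB.y_mem _), hB.coord_upow hB.y_mem, hB.coord_x, hB.coord_y]
      funext i; fin_cases i <;> simp
  have hmov : ∀ t, Moved P z x y (v t) := by
    intro t
    have hc : ∀ a : ZMod p, (Option.elim t y fun s => x * upow y s) ≠ upow z a := fun a e => by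
      have h := hv t
      rw [e, hB.coord_z] at h
      cases t with
      | none => exact zero_ne_one (congrFun h 1)
      | some s => exact zero_ne_one (congrFun h 0)
    have hne : (⟨_, hmem t⟩ : (P : Subgroup G)) ≠ 1 := fun e =>
      hc 0 (by rw [upow_zero]; exact congrArg Subtype.val e)
    obtain ⟨g, hg⟩ := hconj ⟨_, hmem t⟩ ⟨z, hF.z_mem⟩ hne (fun e => hF.z_ne (congrArg Subtype.val e))
    exact hv t ▸ hB.moved_of_conj (hmem t) hc hg
  have hind : ∀ i j, i ≠ j → EigenLines.cross (v i) (v j) ≠ 0 := by
    intro i j hij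
    cases i <;> cases j <;> simp [v, EigenLines.cross] at hij ⊢
    exact fun h => hij (sub_eq_zero.1 h).symm
  have h2 := hB.bound (by omega) v hmov hind
  rw [Nat.card_eq_fintype_card, Fintype.card_option, ZMod.card] at h2
  have hpp := (Fact.out : p.Prime)
  by_cases h13 : p = 13
  · subst h13
    have := h2.2 (by decide)
    omega
  have hn : 6 ≤ (p - 1) / Nat.gcd (p - 1) 3 := by
    rcases (Nat.dvd_prime Nat.prime_three).1 (Nat.gcd_dvd_right (p - 1) 3) with h | h
    · rw [h, Nat.div_one]; omega
    · rw [h]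
      have hd : 3 ∣ p - 1 := h ▸ Nat.gcd_dvd_left (p - 1) 3
      obtain ⟨q, hq⟩ := hd
      rw [hq, Nat.mul_div_cancel_left q (by norm_num)]
      have : p ≠ 10 := fun h => absurd (h ▸ hpp) (by norm_num)
      have : p ≠ 16 := fun h => absurd (h ▸ hpp) (by norm_num)
      omega
  have := h2.1 hn
  omega

end Cfsg.Agent.S3055
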