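import Cfsg.Statements.S3057
import Cfsg.Agent.Lib.Local.Chains
import Cfsg.Agent.Lib.Core.PSolvable
import Cfsg.Agent.Lib.Local.CNSolvable
import Cfsg.Agent.S2777
-- import your own Cfsg.Agent.* helpers here

set_option autoImplicit false
open Cfsg

namespace Cfsg.Agent.S3057

/-- Let p be a prime and G a finite p-solvable group of order divisible by p, with Sylow p-subgroup P. Then the Sylow p-subgroups of G fail to be chain-connected through nontrivial intersections (equivalently, G has a strongly p-embedded subgroup) if and only if O_p(G) = 1 and P is cyclic or, for p = 2, generalized quaternion. -/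
theorem result {G : Type*} [Group G] [Finite G]
    (p : ℕ) [Fact p.Prime] (hdiv : p ∣ Nat.card G) (hsol : Cfsg.IsPSolvable p G) (P : Sylow p G) :
    ¬ Cfsg.IsSylowChainConnected p G ↔
      Cfsg.pCore p G = ⊥ ∧ (IsCyclic ↥P ∨ (p = 2 ∧ ∃ n : ℕ, Nonempty (↥P ≃* QuaternionGroup (2 ^ n)))) := by
  classical
  rw [Cfsg.Lib.Local.not_sylowChainConnected_iff]
  constructor
  · rintro ⟨H, hH⟩
    obtain ⟨Q, hQ⟩ := Cfsg.Lib.Local.spe_exists_sylow_le hH
    have hO : Cfsg.pCore p G = ⊥ := by
      by_contra hne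
      obtain ⟨x, hx, hxp⟩ := Cfsg.Lib.Local.exists_orderOf_prime_mem
        (Cfsg.Lib.Core.pCore_isPGroup p G) hne
      exact Cfsg.Lib.Local.spe_not_le hH (Cfsg.pCore p G)
        (Cfsg.Lib.Local.dvd_card_of_orderOf hx hxp) ((Cfsg.Lib.Core.pCore_le_sylow Q).trans hQ)
    refine ⟨hO, ?_⟩
    obtain ⟨g, hg⟩ := MulAction.exists_smul_eq G P Q
    have hcyc : Cfsg.Lib.PGroup.OrderType.AbelianCyclic ↥(Q : Subgroup G) := by
      intro B hB
      by_contra hnc
      set A := B.map (Q : Subgroup G).subtype with hA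
      haveI : IsMulCommutative ↥A := by
        constructor
        constructor
        rintro ⟨_, a, ha, rfl⟩ ⟨_, b, hb, rfl⟩
        exact Subtype.ext (congrArg (fun t : B => ((t : ↥(Q : Subgroup G)) : G)) (hB.is_comm.comm ⟨a, ha⟩ ⟨b, hb⟩))
      have hAH : A ≤ H := (Subgroup.map_subtype_le B).trans hQ
      have hAnc : ¬ IsCyclic ↥A := fun h =>
        hnc (isCyclic_of_surjective (B.equivMapOfInjective _ (Q : Subgroup G).subtype_injective).symm.toMonoidHom
          (MulEquiv.surjective _))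
      set K := Cfsg.pPrimeCore p G with hK
      have hKH : K ≤ H := Cfsg.Lib.Local.spe_normal_coprime_le hH hAH
        (Q.2.to_le (Subgroup.map_subtype_le B)) hAnc K (Cfsg.Lib.Core.pPrimeCore_coprime p G)
      have hKp : ¬ p ∣ Nat.card ↥K := Cfsg.Lib.Core.pPrimeCore_not_dvd p G
      haveI : Nontrivial (G ⧸ K) := by
        rw [← Finite.one_lt_card_iff_nontrivial]
        by_contra hle
        have h1 : K.index = 1 := le_antisymm (not_lt.1 hle) Nat.card_pos
        rw [Subgroup.index_eq_one] at h1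
        rw [h1, Subgroup.card_top] at hKp
        exact hKp hdiv
      have hne := Cfsg.Lib.Core.pCore_ne_bot_of_isPSolvable (p := p)
        (Cfsg.Lib.Core.isPSolvable_quotient hsol K) (Cfsg.Lib.Core.pPrimeCore_quotient_eq_bot)
      set N := (Cfsg.pCore p (G ⧸ K)).comap (QuotientGroup.mk' K) with hN
      have hNle : N ≤ H := by
        intro n hn
        obtain ⟨q, hq, hqn⟩ := Cfsg.Lib.Core.pCore_le_sylow (Q.mapSurjective (QuotientGroup.mk'_surjective K)) hn
        have : q⁻¹ * n ∈ K := by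
          rw [← QuotientGroup.eq]
          exact hqn
        have e : n = q * (q⁻¹ * n) := by group
        rw [e]
        exact H.mul_mem (hQ hq) (hKH this)
      have hNp : p ∣ Nat.card ↥N := by
        obtain ⟨y, hy, hyp⟩ := Cfsg.Lib.Local.exists_orderOf_prime_mem
          (Cfsg.Lib.Core.pCore_isPGroup p (G ⧸ K)) hne
        obtain ⟨x, rfl⟩ := QuotientGroup.mk'_surjective K y
        have h2 : orderOf (QuotientGroup.mk' K x) ∣ orderOf x := orderOf_map_dvd _ x
        rw [hyp] at h2
        exact h2.trans (by rw [← Subgroup.orderOf_mk x (show x ∈ N from hy)]; exact orderOf_dvd_natCard _)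
      exact Cfsg.Lib.Local.spe_not_le hH N hNp hNle
    have e : ↥(P : Subgroup G) ≃* ↥(Q : Subgroup G) := hg ▸ P.equivSMul g
    rcases Cfsg.Lib.Local.CN.isCyclic_or_quaternion_of_abelianCyclic hcyc Q.2 with h | ⟨h2, n, ⟨f⟩⟩
    · exact Or.inl (isCyclic_of_surjective e.symm.toMonoidHom (MulEquiv.surjective _))
    · exact Or.inr ⟨h2, n, ⟨e.trans f⟩⟩
  · rintro ⟨hO, hP⟩
    exact ⟨_, Cfsg.Agent.S2777.result hO P (Cfsg.Lib.Local.sylow_ne_bot_of_dvd P hdiv)
      (hP.imp id fun ⟨_, n, hn⟩ => ⟨_, hn⟩)⟩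

end Cfsg.Agent.S3057
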