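import Cfsg.Statements.S3059
import Cfsg.Agent.Lib.Local.StronglyEmbedded
-- import your own Cfsg.Agent.* helpers here

set_option autoImplicit false
open Cfsg

namespace Cfsg.Agent.S3059

/-- Let p be a prime and H a strongly p-embedded subgroup of the finite group G in the classical sense: H is proper, p divides the order of H, and H ∩ gHg⁻¹ has order prime to p for every g outside H. Then for every normal subgroup N of G of order divisible by p, G = H · O^p(N), where O^p(N) is the subgroup generated by the elements of N of order prime to p. -/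
theorem result {G : Type*} [Group G] [Finite G]
    (p : ℕ) [Fact p.Prime] (H : Subgroup G) (hH : H ≠ ⊤) (hpH : p ∣ Nat.card H)
    (hse : ∀ g : G, g ∉ H → ¬ p ∣ Nat.card ↥(H ⊓ H.map (MulAut.conj g).toMonoidHom))
    (N : Subgroup G) [N.Normal] (hN : p ∣ Nat.card N) :
    H ⊔ Subgroup.closure {g : G | g ∈ N ∧ (orderOf g).Coprime p} = ⊤ := by
  classical
  have hspe := Cfsg.Lib.Local.spe_iff.mpr ⟨hH, hpH, hse⟩
  obtain ⟨P, hP⟩ := Cfsg.Lib.Local.spe_exists_sylow_le hspe
  obtain ⟨S, hS⟩ := Cfsg.Lib.Local.exists_sylow_inf P N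
  rw [← top_le_iff, ← Cfsg.Lib.Local.spe_sup_eq_top hspe N hN]
  refine sup_le le_sup_left fun x hx => ?_
  obtain ⟨s, hs, m, hm, he⟩ := Cfsg.Lib.Fusion.exists_mul_of_sylow S ⟨x, hx⟩
  have hm' : N.subtype m ∈ Subgroup.closure {g : G | g ∈ N ∧ (orderOf g).Coprime p} := by
    have := Subgroup.mem_map_of_mem N.subtype hm
    rw [Cfsg.pResidual, MonoidHom.map_closure] at this
    refine Subgroup.closure_mono ?_ this
    rintro _ ⟨y, hy, rfl⟩
    exact ⟨y.2, by rw [Subgroup.coe_subtype, Subgroup.orderOf_coe]; exact hy⟩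
  rw [hS] at hs
  have : x = (s : G) * m := congrArg Subtype.val he
  rw [this]
  exact Subgroup.mul_mem_sup (hP hs) hm'

end Cfsg.Agent.S3059
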