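import Cfsg.Statements.S3062
import Cfsg.Agent.Lib.Local.DStar
import Cfsg.Agent.Lib.Local.Replacement
-- import your own Cfsg.Agent.* helpers here

set_option autoImplicit false
open Cfsg
open scoped commutatorElement

namespace Cfsg.Agent.S3062

/-- Let S be a finite p-group, J(S) the subgroup generated by the abelian subgroups of S of largest order and Z(J(S)) its centre. Then Z(S) ≤ D*(S) ≤ Z(J(S)), and every maximal normal abelian subgroup of S contains D*(S). -/
theorem result {S : Type*} [Group S] [Finite S] {p : ℕ} [Fact p.Prime]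
    (hS : IsPGroup p S) :
    Subgroup.center S ≤ Cfsg.dStar S ∧
    Cfsg.dStar S ≤ Cfsg.thompsonSubgroupA S ⊓ Subgroup.centralizer (Cfsg.thompsonSubgroupA S : Set S) ∧
    ∀ A : Subgroup S, A.Normal → IsMulCommutative A →
      (∀ B : Subgroup S, B.Normal → IsMulCommutative B → A ≤ B → B = A) → Cfsg.dStar S ≤ A := by
  haveI := hS.isNilpotent
  set D := Cfsg.dStar S with hD
  obtain ⟨hDab, hDcl⟩ := Cfsg.Lib.Local.dStar_mem hS
  have hDn : ∀ g : S, ∀ d ∈ D, g * d * g⁻¹ ∈ D := by
    intro g d hd
    have : D.map (MulAut.conj g).toMonoidHom ≤ D := by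
      rw [hD, Cfsg.dStar, (Subgroup.gc_map_comap (MulAut.conj g).toMonoidHom).l_sSup]
      exact iSup₂_le fun A hA => le_sSup (Cfsg.Lib.Local.dStarFamily_map_conj hA g)
    exact this ⟨d, hd, by simp⟩
  have cD : ∀ {u v : S}, u ∈ D → v ∈ D → u * v = v * u := fun hu hv =>
    congrArg Subtype.val (hDab.is_comm.comm ⟨_, hu⟩ ⟨_, hv⟩)
  -- if the commutators of `D` with `x` centralise `x`, then `x` centralises `D`
  have key : ∀ x : S, (∀ d ∈ D, ⁅d, x⁆ * x = x * ⁅d, x⁆) → ∀ d ∈ D, d * x = x * d := by
    intro x hx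
    refine hDcl x ?_
    set T := D ⊔ Subgroup.zpowers x with hT
    set C := Subgroup.centralizer (T : Set S) ⊓ D with hC
    have hCn : ∀ t ∈ T, ∀ c ∈ C, t * c * t⁻¹ = c := fun t ht c hc => by
      rw [Subgroup.mem_centralizer_iff.mp hc.1 t ht, mul_inv_cancel_right]
    have hTT : ⁅T, T⁆ ≤ C := by
      have hgen : ∀ d ∈ D, ⁅d, x⁆ ∈ C := fun d hd => by
        have hdD : ⁅d, x⁆ ∈ D := by
          rw [commutatorElement_def, mul_assoc, mul_assoc, ← mul_assoc x]
          exact mul_mem hd (hDn x _ (inv_mem hd))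
        refine ⟨?_, hdD⟩
        have hle : T ≤ Subgroup.centralizer ({⁅d, x⁆} : Set S) := sup_le
          (fun u hu => Subgroup.mem_centralizer_singleton_iff.mpr (cD hu hdD))
          (Subgroup.zpowers_le.mpr (Subgroup.mem_centralizer_singleton_iff.mpr (hx d hd).symm))
        exact Subgroup.mem_centralizer_iff.mpr fun t ht => Subgroup.mem_centralizer_singleton_iff.mp (hle ht)
      have hxn : Subgroup.zpowers x ≤ Subgroup.normalizer (D : Set S) := Subgroup.zpowers_le.mpr
        (Subgroup.mem_normalizer_fintype fun d hd => hDn x d hd)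
      refine Subgroup.commutator_le.mpr fun s hs t ht => ?_
      -- conjugation by `s` moves `t` within `t C`
      have h1 : ∀ y : S, (∀ d ∈ D, ⁅d, y⁆ ∈ C) → ⁅x, y⁆ ∈ C → ⁅s, y⁆ ∈ C := by
        intro y hy hxy
        refine Subgroup.closure_induction (k := (D : Set S) ∪ Subgroup.zpowers x)
          (p := fun u _ => u ∈ T → ⁅u, y⁆ ∈ C) ?_ ?_ ?_ ?_ (by rw [← Subgroup.sup_eq_closure]; exact hs) hs
        · rintro u (hu | hu) -
          · exact hy u hu
          · obtain ⟨i, rfl⟩ := Subgroup.mem_zpowers_iff.mp hu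
            induction i using Int.induction_on with
            | zero => rw [zpow_zero, commutatorElement_one_left]; exact one_mem _
            | succ i ih =>
              have e : ⁅x ^ ((i : ℤ) + 1), y⁆ = x * ⁅x ^ (i : ℤ), y⁆ * x⁻¹ * ⁅x, y⁆ := by
                simp only [commutatorElement_def]; group
              have h := ih (zpow_mem (Subgroup.mem_zpowers x) _)
              rw [e, hCn x (Subgroup.mem_sup_right (Subgroup.mem_zpowers x)) _ h]
              exact mul_mem h hxy
            | pred i ih =>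
              have e : ⁅x ^ (-(i : ℤ) - 1), y⁆ = x⁻¹ * (⁅x ^ (-(i : ℤ)), y⁆ * ⁅x, y⁆⁻¹) * x⁻¹⁻¹ := by
                simp only [commutatorElement_def]; group
              have h := mul_mem (ih (zpow_mem (Subgroup.mem_zpowers x) _)) (inv_mem hxy)
              rw [e, hCn x⁻¹ (inv_mem (Subgroup.mem_sup_right (Subgroup.mem_zpowers x))) _ h]
              exact h
        · intro _; rw [commutatorElement_one_left]; exact one_mem _
        · intro u v hu hv ihu ihv _
          have huT : u ∈ T := by rw [hT, Subgroup.sup_eq_closure]; exact hu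
          have hvT : v ∈ T := by rw [hT, Subgroup.sup_eq_closure]; exact hv
          have e : ⁅u * v, y⁆ = u * ⁅v, y⁆ * u⁻¹ * ⁅u, y⁆ := by simp only [commutatorElement_def]; group
          rw [e, hCn u huT _ (ihv hvT)]
          exact mul_mem (ihv hvT) (ihu huT)
        · intro u hu ihu _
          have huT : u ∈ T := by rw [hT, Subgroup.sup_eq_closure]; exact hu
          have e : ⁅u⁻¹, y⁆ = u⁻¹ * ⁅u, y⁆⁻¹ * u⁻¹⁻¹ := by simp only [commutatorElement_def]; group
          rw [e, hCn u⁻¹ (inv_mem huT) _ (inv_mem (ihu huT))]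
          exact inv_mem (ihu huT)
      refine Subgroup.closure_induction (k := (D : Set S) ∪ Subgroup.zpowers x)
        (p := fun u _ => u ∈ T → ⁅s, u⁆ ∈ C) ?_ ?_ ?_ ?_ (by rw [← Subgroup.sup_eq_closure]; exact ht) ht
      · have hsD : ∀ d ∈ D, ⁅s, d⁆ ∈ C := fun d hd => h1 d
          (fun u hu => by rw [commutatorElement_eq_one_iff_commute.mpr (cD hu hd)]; exact one_mem _)
          (by rw [← commutatorElement_inv]; exact inv_mem (hgen d hd))
        have hsx : ⁅s, x⁆ ∈ C := h1 x hgen
          (by rw [commutatorElement_eq_one_iff_commute.mpr (Commute.refl x)]; exact one_mem _)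
        rintro u (hu | hu) -
        · exact hsD u hu
        · obtain ⟨i, rfl⟩ := Subgroup.mem_zpowers_iff.mp hu
          induction i using Int.induction_on with
          | zero => rw [zpow_zero, commutatorElement_one_right]; exact one_mem _
          | succ i ih =>
            have e : ⁅s, x ^ ((i : ℤ) + 1)⁆ = ⁅s, x⁆ * (x * ⁅s, x ^ (i : ℤ)⁆ * x⁻¹) := by
              simp only [commutatorElement_def]; group
            have h := ih (zpow_mem (Subgroup.mem_zpowers x) _)
            rw [e, hCn x (Subgroup.mem_sup_right (Subgroup.mem_zpowers x)) _ h]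
            exact mul_mem hsx h
          | pred i ih =>
            have e : ⁅s, x ^ (-(i : ℤ) - 1)⁆ = x⁻¹ * (⁅s, x⁆⁻¹ * ⁅s, x ^ (-(i : ℤ))⁆) * x⁻¹⁻¹ := by
              simp only [commutatorElement_def]; group
            have h := mul_mem (inv_mem hsx) (ih (zpow_mem (Subgroup.mem_zpowers x) _))
            rw [e, hCn x⁻¹ (inv_mem (Subgroup.mem_sup_right (Subgroup.mem_zpowers x))) _ h]
            exact h
      · intro _; rw [commutatorElement_one_right]; exact one_mem _
      · intro u v hu hv ihu ihv _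
        have huT : u ∈ T := by rw [hT, Subgroup.sup_eq_closure]; exact hu
        have hvT : v ∈ T := by rw [hT, Subgroup.sup_eq_closure]; exact hv
        have e : ⁅s, u * v⁆ = ⁅s, u⁆ * (u * ⁅s, v⁆ * u⁻¹) := by simp only [commutatorElement_def]; group
        rw [e, hCn u huT _ (ihv hvT)]
        exact mul_mem (ihu huT) (ihv hvT)
      · intro u hu ihu _
        have huT : u ∈ T := by rw [hT, Subgroup.sup_eq_closure]; exact hu
        have e : ⁅s, u⁻¹⁆ = u⁻¹ * ⁅s, u⁆⁻¹ * u⁻¹⁻¹ := by simp only [commutatorElement_def]; group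
        rw [e, hCn u⁻¹ (inv_mem huT) _ (inv_mem (ihu huT))]
        exact inv_mem (ihu huT)
    rw [Subgroup.commutator_eq_bot_iff_le_centralizer]
    exact hTT.trans inf_le_left
  have hmax : ∀ (n : ℕ) (A : Subgroup S), A ∈ Cfsg.maxAbelianSubgroups S →
      Nat.card D - Nat.card ↥(A ⊓ D) = n → ∀ a ∈ A, ∀ d ∈ D, d * a = a * d := by
    intro n
    induction n using Nat.strong_induction_on with
    | _ n ih =>
    intro A hA hn
    have hAn : D ≤ Subgroup.normalizer (A : Set S) := by
      by_contra hnot
      obtain ⟨A', hA'c, hA'card, hA'lt, hA'N⟩ := Cfsg.Lib.Local.exists_replacement hA.1 hDab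
        (fun a _ => Subgroup.mem_normalizer_fintype fun d hd => hDn a d hd) hnot
      have hA'max : A' ∈ Cfsg.maxAbelianSubgroups S :=
        ⟨hA'c, fun B hB => (hA.2 B hB).trans hA'card⟩
      have hlt : Nat.card ↥(A ⊓ D) < Nat.card ↥(A' ⊓ D) := by
        refine lt_of_le_of_ne (Subgroup.card_le_of_le hA'lt.le) fun e => hA'lt.ne ?_
        exact Subgroup.eq_of_le_of_card_ge hA'lt.le e.ge
      have hle := Subgroup.card_le_of_le (inf_le_right : A' ⊓ D ≤ D)
      have hcomm := ih _ (by omega) A' hA'max rfl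
      have hab : IsMulCommutative (A' ⊔ D : Subgroup S) := by
        rw [Subgroup.sup_eq_closure]
        refine Subgroup.isMulCommutative_closure fun u hu v hv => ?_
        rcases hu with hu | hu <;> rcases hv with hv | hv
        · exact congrArg Subtype.val (hA'c.is_comm.comm ⟨_, hu⟩ ⟨_, hv⟩)
        · exact (hcomm u hu v hv).symm
        · exact hcomm v hv u hu
        · exact cD hu hv
      have heq : A' = A' ⊔ D := Subgroup.eq_of_le_of_card_ge le_sup_left (hA'max.2 _ hab)
      exact hnot ((le_sup_right.trans heq.ge).trans hA'N)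
    intro a ha d hd
    refine key a (fun d hd => ?_) d hd
    have h1 : ⁅d, a⁆ ∈ A := by
      rw [commutatorElement_def]
      exact mul_mem ((Subgroup.mem_normalizer_iff.mp (hAn hd) a).mp ha) (inv_mem ha)
    exact congrArg Subtype.val (hA.1.is_comm.comm ⟨_, h1⟩ ⟨_, ha⟩)
  refine ⟨?_, ?_, ?_⟩
  · refine le_sSup ⟨inferInstance, fun x _ a ha => (Subgroup.mem_center_iff.mp ha x).symm⟩
  · obtain ⟨A, hA⟩ : ∃ A, A ∈ Cfsg.maxAbelianSubgroups S := by
      obtain ⟨A, hA, hAmax⟩ := Set.exists_max_image {A : Subgroup S | IsMulCommutative A}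
        (fun A => Nat.card A) (Set.toFinite _) ⟨⊥, inferInstanceAs (IsMulCommutative (⊥ : Subgroup S))⟩
      exact ⟨A, hA, hAmax⟩
    refine le_inf ?_ ?_
    · have hab : IsMulCommutative (A ⊔ D : Subgroup S) := by
        rw [Subgroup.sup_eq_closure]
        refine Subgroup.isMulCommutative_closure fun u hu v hv => ?_
        rcases hu with hu | hu <;> rcases hv with hv | hv
        · exact congrArg Subtype.val (hA.1.is_comm.comm ⟨_, hu⟩ ⟨_, hv⟩)
        · exact (hmax _ A hA rfl u hu v hv).symm
        · exact hmax _ A hA rfl v hv u hu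
        · exact cD hu hv
      have heq : A = A ⊔ D := Subgroup.eq_of_le_of_card_ge le_sup_left (hA.2 _ hab)
      exact (le_sup_right.trans heq.ge).trans (le_sSup hA)
    · rw [Subgroup.le_centralizer_iff]
      refine sSup_le fun B hB b hb => Subgroup.mem_centralizer_iff.mpr fun d hd => ?_
      exact hmax _ B hB rfl b hb d hd
  · intro A hAn hA hAmax
    have hcomm : ∀ a ∈ A, ∀ d ∈ D, d * a = a * d := fun a ha d hd =>
      key a (fun d hd => by
        have h1 : ⁅d, a⁆ ∈ A := by
          rw [commutatorElement_def]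
          exact mul_mem (hAn.conj_mem a ha d) (inv_mem ha)
        exact congrArg Subtype.val (hA.is_comm.comm ⟨_, h1⟩ ⟨_, ha⟩)) d hd
    haveI : D.Normal := ⟨fun d hd g => hDn g d hd⟩
    haveI := hAn
    have hab : IsMulCommutative (A ⊔ D : Subgroup S) := by
      rw [Subgroup.sup_eq_closure]
      refine Subgroup.isMulCommutative_closure fun u hu v hv => ?_
      rcases hu with hu | hu <;> rcases hv with hv | hv
      · exact congrArg Subtype.val (hA.is_comm.comm ⟨_, hu⟩ ⟨_, hv⟩)
      · exact (hcomm u hu v hv).symm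
      · exact hcomm v hv u hu
      · exact cD hu hv
    exact le_sup_right.trans (hAmax _ inferInstance hab le_sup_left).le

end Cfsg.Agent.S3062
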