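import Cfsg.Statements.S3063
import Cfsg.Agent.Lib.Local.ChermakDelgado
import Cfsg.Agent.Lib.Core.Basic
import Mathlib.GroupTheory.Nilpotent
-- import your own Cfsg.Agent.* helpers here

set_option autoImplicit false
open Cfsg

namespace Cfsg.Agent.S3063

/-- A weak replacement Theorem for metabelian p-groups: let S be a finite p-group whose derived subgroup is abelian and A an abelian subgroup of S of largest possible order. Then the normal closure of A in S contains an abelian subgroup B of the same order as A that is normal in S. -/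
theorem result {S : Type*} [Group S] [Finite S] {p : ℕ} [Fact p.Prime]
    (hS : IsPGroup p S) (hmeta : IsMulCommutative ↥(commutator S))
    (A : Subgroup S) (hA : A ∈ Cfsg.maxAbelianSubgroups S) :
    ∃ B ∈ Cfsg.maxAbelianSubgroups S, B.Normal ∧ B ≤ Subgroup.normalClosure (A : Set S) := by
  classical
  open scoped commutatorElement in
  set N := Subgroup.normalClosure (A : Set S) with hN
  haveI : N.Normal := Subgroup.normalClosure_normal
  set S' := commutator S with hS'
  haveI : S'.Normal := inferInstance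
  haveI : Nonempty {B : Subgroup S // B ∈ Cfsg.maxAbelianSubgroups S ∧ B ≤ N} :=
    ⟨⟨A, hA, Subgroup.le_normalClosure⟩⟩
  obtain ⟨⟨B, hB, hBN⟩, hmax⟩ := Finite.exists_max
    fun B : {B : Subgroup S // B ∈ Cfsg.maxAbelianSubgroups S ∧ B ≤ N} => Nat.card ↥(B.1 ⊓ S')
  refine ⟨B, hB, ?_, hBN⟩
  by_contra hnn
  set U := Subgroup.normalizer (B : Set S) with hU
  have hUtop : U ≠ ⊤ := fun h => hnn (Subgroup.normalizer_eq_top_iff.1 h)
  haveI := hS.isNilpotent
  obtain ⟨x, hxN, hxU⟩ := SetLike.exists_of_lt (Group.normalizerCondition_of_isNilpotent U (lt_top_iff_ne_top.2 hUtop))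
  set B' := B.map (MulAut.conj x).toMonoidHom with hB'
  have hB'U : B' ≤ U := by
    rintro _ ⟨b, hb, rfl⟩
    exact (Subgroup.mem_normalizer_iff.1 hxN b).1 (Subgroup.le_normalizer hb)
  have hBc : ∀ y ∈ B, ∀ z ∈ B, y * z = z * y := fun y hy z hz =>
    (congrArg Subtype.val (hB.1.is_comm.comm ⟨y, hy⟩ ⟨z, hz⟩) :)
  set H := B ⊔ B' with hH
  set Z := B ⊓ B' with hZ
  set T := H ⊓ S' with hT
  have hHU : H ≤ U := sup_le Subgroup.le_normalizer hB'U
  have hTU : T ≤ U := inf_le_left.trans hHU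
  -- `H = B T`
  have hHT : H = B ⊔ T := by
    refine le_antisymm (sup_le le_sup_left ?_) (sup_le le_sup_left inf_le_left)
    rintro _ ⟨b, hb, rfl⟩
    have h1 : b⁻¹ * (x * b * x⁻¹) ∈ T := by
      refine ⟨H.mul_mem (Subgroup.mem_sup_left (B.inv_mem hb)) (Subgroup.mem_sup_right ⟨b, hb, rfl⟩), ?_⟩
      have := Subgroup.commutator_mem_commutator (Subgroup.mem_top b⁻¹) (Subgroup.mem_top x)
      rw [← commutator_def, commutatorElement_def, inv_inv] at this
      simpa [hS', mul_assoc] using this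
    have e : (MulAut.conj x).toMonoidHom b = b * (b⁻¹ * (x * b * x⁻¹)) := by simp
    rw [e]
    exact Subgroup.mul_mem_sup hb h1
  have hZc : Z ≤ Subgroup.centralizer (H : Set S) := by
    rw [Subgroup.le_centralizer_iff]
    refine sup_le (fun b hb => Subgroup.mem_centralizer_iff.2 fun z hz => hBc z hz.1 b hb) ?_
    rintro _ ⟨b, hb, rfl⟩
    refine Subgroup.mem_centralizer_iff.2 fun z hz => ?_
    obtain ⟨c, hc, rfl⟩ := hz.2
    simp only [MulEquiv.coe_toMonoidHom, ← map_mul, hBc c hc b hb]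
  set X := T ⊔ Z with hX
  have hXab : IsMulCommutative ↥X := by
    have hTc : ∀ y ∈ T, ∀ z ∈ T, y * z = z * y := fun y hy z hz =>
      (congrArg Subtype.val (hmeta.is_comm.comm ⟨y, hy.2⟩ ⟨z, hz.2⟩) :)
    have hle : X ≤ Subgroup.centralizer (X : Set S) := by
      refine sup_le ?_ ?_ <;> intro y hy <;> rw [Subgroup.mem_centralizer_iff] <;> intro w hw <;>
        refine Subgroup.closure_induction (p := fun t _ => t * y = y * t) ?_ (by simp)
          (fun a b _ _ ha hb => by rw [mul_assoc, hb, ← mul_assoc, ha, mul_assoc])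
          (fun a _ ha => (show Commute a y from ha).inv_left.eq)
          (show w ∈ Subgroup.closure ((T : Set S) ∪ (Z : Set S)) by
            rwa [Subgroup.closure_union, Subgroup.closure_eq, Subgroup.closure_eq])
      · rintro t (ht | ht)
        · exact hTc t ht y hy
        · exact (Subgroup.mem_centralizer_iff.1 (hZc ht) y hy.1).symm
      · rintro t (ht | ht)
        · exact Subgroup.mem_centralizer_iff.1 (hZc hy) t ht.1
        · exact hBc t ht.1 y hy.1
    exact ⟨⟨fun a b => Subtype.ext (Subgroup.mem_centralizer_iff.1 (hle b.2) a a.2)⟩⟩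
  have hBH := Cfsg.Lib.Core.card_mul_relIndex (le_sup_left : B ≤ H)
  have relSup : ∀ D W : Subgroup S, W ≤ Subgroup.normalizer (D : Set S) → D.relIndex (D ⊔ W) = D.relIndex W := by
    intro D W h
    have hD : D ≤ Subgroup.normalizer (D : Set S) := Subgroup.le_normalizer
    haveI : (D.subgroupOf (Subgroup.normalizer (D : Set S))).Normal :=
      (Subgroup.normal_subgroupOf_iff_le_normalizer hD).2 le_rfl
    rw [← Subgroup.relIndex_subgroupOf (H := D) (sup_le hD h), ← Subgroup.relIndex_subgroupOf (H := D) h,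
      Subgroup.subgroupOf_sup hD h]
    exact Subgroup.relIndex_sup_left _ _
  -- orders
  have h1 := Cfsg.Lib.Local.card_mul_card_le B B'
  have hB'card : Nat.card ↥B' = Nat.card ↥B := Subgroup.card_map_of_injective (MulAut.conj x).injective
  rw [hB'card, ← hH, ← hZ] at h1
  have h2 : Nat.card ↥H * Nat.card ↥(B ⊓ T) = Nat.card ↥B * Nat.card ↥T := by
    rw [hHT]
    have e1 := Cfsg.Lib.Core.card_mul_relIndex (inf_le_right : B ⊓ T ≤ T)
    rw [Subgroup.inf_relIndex_right] at e1
    have e2 := Cfsg.Lib.Core.card_mul_relIndex (le_sup_left : B ≤ B ⊔ T)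
    rw [relSup B T hTU] at e2
    rw [← e1, ← e2]; ring
  have h3 : Nat.card ↥X * Nat.card ↥(T ⊓ Z) = Nat.card ↥T * Nat.card ↥Z := by
    have hn : T ≤ Subgroup.normalizer (Z : Set S) := fun t ht =>
      Subgroup.centralizer_le_normalizer _ (Subgroup.le_centralizer_iff.1 hZc ht.1)
    have e1 := Cfsg.Lib.Core.card_mul_relIndex (inf_le_left : T ⊓ Z ≤ T)
    rw [Subgroup.inf_relIndex_left] at e1
    have e2 := Cfsg.Lib.Core.card_mul_relIndex (le_sup_right : Z ≤ T ⊔ Z)
    rw [show Z.relIndex (T ⊔ Z) = Z.relIndex T by rw [sup_comm]; exact relSup Z T hn] at e2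
    rw [hX, ← e1, ← e2]; ring
  have h4 : Nat.card ↥(T ⊓ Z) ≤ Nat.card ↥(B ⊓ T) :=
    Subgroup.card_le_of_le (le_inf (inf_le_right.trans inf_le_left) inf_le_left)
  have hge : Nat.card ↥B ≤ Nat.card ↥X := by
    refine Nat.le_of_mul_le_mul_right ?_ (Nat.mul_pos (Nat.card_pos (α := ↥H)) (Nat.card_pos (α := ↥(T ⊓ Z))))
    calc Nat.card ↥B * (Nat.card ↥H * Nat.card ↥(T ⊓ Z))
        ≤ Nat.card ↥B * (Nat.card ↥H * Nat.card ↥(B ⊓ T)) := Nat.mul_le_mul_left _ (Nat.mul_le_mul_left _ h4)
      _ = Nat.card ↥B * Nat.card ↥B * Nat.card ↥T := by rw [h2]; ring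
      _ ≤ Nat.card ↥H * Nat.card ↥Z * Nat.card ↥T := Nat.mul_le_mul_right _ h1
      _ = Nat.card ↥X * (Nat.card ↥H * Nat.card ↥(T ⊓ Z)) := by rw [mul_left_comm (Nat.card ↥X), h3]; ring
  have hXmax : X ∈ Cfsg.maxAbelianSubgroups S := ⟨hXab, fun D hD => (hB.2 D hD).trans hge⟩
  have hXN : X ≤ N := by
    have hHN : H ≤ N := sup_le hBN (by
      rintro _ ⟨b, hb, rfl⟩
      exact Subgroup.Normal.conj_mem inferInstance b (hBN hb) x)
    exact sup_le (inf_le_left.trans hHN) (inf_le_left.trans hBN)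
  have h5 : Nat.card ↥(X ⊓ S') ≤ Nat.card ↥(B ⊓ S') := hmax ⟨X, hXmax, hXN⟩
  have h6 : B ⊓ S' ≤ T := inf_le_inf_right _ le_sup_left
  have h7 : T ≤ X ⊓ S' := le_inf le_sup_left inf_le_right
  have h8 : T = B ⊓ S' :=
    (Subgroup.eq_of_le_of_card_ge h6 ((Subgroup.card_le_of_le h7).trans h5)).symm
  have hHB : H = B := by rw [hHT, h8]; exact sup_eq_left.2 inf_le_left
  apply hxU
  rw [hU, Cfsg.Lib.Core.mem_normalizer_iff_map_conj]
  exact Subgroup.eq_of_le_of_card_ge (le_sup_right.trans hHB.le) hB'card.ge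

end Cfsg.Agent.S3063
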