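import Cfsg.Statements.S3064
import Cfsg.Agent.Lib.Local.IsolatedCentral
import Cfsg.Agent.Lib.Local.StronglyEmbedded
-- import your own Cfsg.Agent.* helpers here

set_option autoImplicit false
open Cfsg

namespace Cfsg.Agent.S3064

open Subgroup

/-- Let S be a Sylow p-subgroup of the finite group G and x an element of S such that (i) x is the only G-conjugate of x lying in S, and (ii) x centralizes every subgroup of order prime to p that it normalizes. Then x lies in the centre of G. -/
theorem result {G : Type*} [Group G] [Finite G] {p : ℕ} [Fact p.Prime]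
    (S : Sylow p G) (x : G) (hx : x ∈ S)
    (hU : ∀ g : G, g⁻¹ * x * g ∈ S → g⁻¹ * x * g = x)
    (hb : ∀ H : Subgroup G, (Nat.card H).Coprime p → (∀ h ∈ H, x * h * x⁻¹ ∈ H) → ∀ h ∈ H, x * h = h * x) :
    x ∈ Subgroup.center G := by
  obtain ⟨k, hk⟩ := IsPGroup.iff_orderOf.1 S.isPGroup' ⟨x, hx⟩
  rw [Subgroup.orderOf_mk] at hk
  have hiso : Cfsg.IsIsolated x := by
    intro g hg
    set y := g * x * g⁻¹
    have hyp : orderOf y = p ^ k := by rw [← hk]; exact (MulAut.conj g).orderOf_eq x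
    have hxy : zpowers x ≤ normalizer (zpowers y : Set G) := by
      refine le_trans (zpowers_le.2 ?_) (Cfsg.Lib.Local.centralizer_singleton_le_normalizer_zpowers y)
      exact mem_centralizer_singleton_iff.2 hg.eq
    obtain ⟨T, hT⟩ := (Cfsg.Lib.Local.isPGroup_sup_of_le_normalizer
      (IsPGroup.of_card (n := k) (by rw [Nat.card_zpowers, hk]) : IsPGroup p (zpowers x))
      (IsPGroup.of_card (n := k) (by rw [Nat.card_zpowers, hyp]) : IsPGroup p (zpowers y)) hxy).exists_le_sylow
    obtain ⟨a, ha⟩ := MulAction.exists_smul_eq G T S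
    have hmem : ∀ z ∈ zpowers x ⊔ zpowers y, a * z * a⁻¹ ∈ S := by
      intro z hz
      show a * z * a⁻¹ ∈ (S : Subgroup G)
      rw [← ha, Sylow.smul_def]
      exact ⟨z, hT hz, rfl⟩
    have h1 := hU a⁻¹ (by simpa using hmem x (mem_sup_left (mem_zpowers x)))
    have h2 := hU (a * g)⁻¹ (by simpa [y, mul_assoc] using hmem y (mem_sup_right (mem_zpowers y)))
    have e : y = a⁻¹ * ((a * g)⁻¹⁻¹ * x * (a * g)⁻¹) * a := by simp [y, mul_assoc]
    have e' : x = a⁻¹ * (a⁻¹⁻¹ * x * a⁻¹) * a := by simp [mul_assoc]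
    calc y = a⁻¹ * x * a := by rw [e, h2]
      _ = x := by rw [h1] at e'; exact e'.symm
  refine mem_center_iff.2 fun g => ?_
  exact mul_inv_eq_iff_eq_mul.1
    (Cfsg.Lib.Local.IsolatedCentral.aux (Nat.card G) G le_rfl x ⟨k, hk⟩ hiso hb g)

end Cfsg.Agent.S3064
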