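import Cfsg.Statements.S3069
import Cfsg.Agent.Lib.Sig.TransferApps
import Cfsg.Agent.Lib.Sig.WeakClosure
import Cfsg.Agent.Lib.FusionSys.Hyperfocal
-- import your own Cfsg.Agent.* helpers here

set_option autoImplicit false
open Cfsg

namespace Cfsg.Agent.S3069

open Subgroup
open scoped commutatorElement

universe u

theorem not_le_commutator_of_central {X : Type u} [Group X] [Finite X] {p : ℕ} [Fact p.Prime]
    (S : Sylow p X) (hS : (S : Subgroup X) ≠ ⊥) [(S : Subgroup X).Normal]
    (h : ∀ g : X, (orderOf g).Coprime p → g ∈ centralizer ((S : Subgroup X) : Set X)) :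
    ¬ (S : Subgroup X) ≤ commutator X := by
  obtain ⟨H, hH⟩ := Subgroup.exists_left_complement'_of_coprime (N := (S : Subgroup X)) S.card_coprime_index
  have hHp : (Nat.card H).Coprime p := by
    rw [← hH.index_eq_card]
    exact ((Fact.out : p.Prime).coprime_iff_not_dvd.2 S.not_dvd_index).symm
  have hHc : H ≤ centralizer ((S : Subgroup X) : Set X) := fun g hg => h g
    (Nat.Coprime.coprime_dvd_left (Subgroup.orderOf_dvd_natCard H hg) hHp)
  have hSn : (S : Subgroup X) ≤ normalizer (H : Set X) :=
    (le_centralizer_iff.1 hHc).trans (centralizer_le_normalizer _)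
  haveI hHn : H.Normal := normalizer_eq_top_iff.1
    (top_le_iff.1 (hH.sup_eq_top ▸ sup_le le_normalizer hSn))
  intro hle
  have hpq : IsPGroup p (X ⧸ H) := by
    obtain ⟨k, hk⟩ := IsPGroup.iff_card.1 S.2
    exact IsPGroup.of_card (n := k) (by rw [← hk, ← hH.symm.index_eq_card]; rfl)
  haveI : Nontrivial (X ⧸ H) := by
    rw [← Finite.one_lt_card_iff_nontrivial, ← index_eq_card, hH.symm.index_eq_card]
    exact one_lt_card_iff_ne_bot _ |>.2 hS
  haveI := hpq.isNilpotent
  refine (IsSolvable.commutator_lt_top_of_nontrivial (X ⧸ H)).ne ?_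
  rw [eq_top_iff, _root_.commutator_def, ← map_top_of_surjective _ (QuotientGroup.mk'_surjective H),
    ← map_commutator, ← _root_.commutator_def]
  refine map_le_iff_le_comap.2 (hH.sup_eq_top ▸ sup_le ?_ (hle.trans (le_comap_map _ _)))
  refine le_trans ?_ (comap_mono bot_le)
  exact (QuotientGroup.ker_mk' H).ge

theorem not_le_commutator {p : ℕ} [Fact p.Prime] (hp : 5 ≤ p) :
    ∀ (n : ℕ) (X : Type u) [Group X] [Finite X], Nat.card X ≤ n → ∀ S : Sylow p X,
      (S : Subgroup X) ≠ ⊥ →
      (∀ g ∈ normalizer ((S : Subgroup X) : Set X), (orderOf g).Coprime p →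
        g ∈ centralizer ((S : Subgroup X) : Set X)) → ¬ (S : Subgroup X) ≤ commutator X := by
  intro n
  induction n with
  | zero => intro X _ _ h; have : 0 < Nat.card X := Nat.card_pos; omega
  | succ n ih =>
    intro X _ _ hn S hS hN
    by_cases hSQ : (S : Subgroup X) ≤ Cfsg.pCore p X
    · haveI : (S : Subgroup X).Normal := by
        have e : (S : Subgroup X) = Cfsg.pCore p X :=
          le_antisymm hSQ (Cfsg.Lib.Core.pCore_le_sylow S)
        have : (Cfsg.pCore p X).Normal := inferInstance
        exact e ▸ this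
      exact not_le_commutator_of_central S hS fun g hg =>
        hN g (by rw [normalizer_eq_top_iff.2 ‹_›]; exact mem_top g) hg
    by_cases hQ : Cfsg.pCore p X = ⊥
    · have hW := Cfsg.Lib.Sig.isConjugacyFunctor_inducedFunctor (G := X)
        (Cfsg.Lib.Sig.isCharPFunctor_kInfLower p)
      have hWS := hW _ S.2
      set M := normalizer ((Cfsg.inducedFunctor Cfsg.kInfLower (S : Subgroup X) : Subgroup X) : Set X)
        with hM
      have hMtop : M ≠ ⊤ := fun e => hWS.2.1 hS (le_bot_iff.1 (hQ ▸ Cfsg.Lib.Core.le_pCore'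
        (normalizer_eq_top_iff.1 e) (S.2.to_le hWS.1)))
      have hNM : normalizer ((S : Subgroup X) : Set X) ≤ M := fun y hy =>
        Cfsg.Lib.Sig.mem_normalizer_of_map_conj (by
          rw [← hWS.2.2 y, Cfsg.Lib.Sig.map_conj_eq_of_mem_normalizer hy])
      have hSM : (S : Subgroup X) ≤ M := le_normalizer.trans hNM
      have hlt : Nat.card ↥M < Nat.card X :=
        Subgroup.card_top (G := X) ▸ Cfsg.Lib.Fusion.card_lt_card_of_lt hMtop.lt_top
      have hmap : ((S.subtype hSM : Sylow p ↥M) : Subgroup ↥M).map M.subtype = (S : Subgroup X) :=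
        map_subgroupOf_eq_of_le hSM
      have h1 := ih ↥M (by omega) (S.subtype hSM)
        (fun e => hS (by rw [← hmap, e, Subgroup.map_bot]))
        (fun g hg hgp => by
          have h2 : (g : X) ∈ normalizer ((S : Subgroup X) : Set X) :=
            hmap ▸ le_normalizer_map M.subtype (mem_map_of_mem _ hg)
          have h3 := mem_centralizer_iff.1 (hN g h2 (by rwa [Subgroup.orderOf_coe]))
          exact mem_centralizer_iff.2 fun y hy =>
            Subtype.ext (h3 y (hmap ▸ mem_map_of_mem M.subtype hy)))
      intro hle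
      have hc := (Cfsg.Lib.Sig.controlsTransferIn_of_step (Cfsg.Lib.Sig.isCharPFunctor_kInfLower p)
        (X := X) (fun _ _ _ _ _ _ _ => (Cfsg.Lib.Sig.transferStep_kInf hp).1)).2 S
      rw [inf_eq_left.2 hle] at hc
      refine h1 fun s hs => ?_
      have h4 : (s : X) ∈ ⁅M, M⁆ := (hc.le (hmap ▸ mem_map_of_mem M.subtype hs)).2
      rw [← Subgroup.map_subtype_commutator] at h4
      exact (mem_map_iff_mem M.subtype_injective).1 h4
    · set Q := Cfsg.pCore p X with hQdef
      have hlt : Nat.card (X ⧸ Q) < Nat.card X := by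
        rw [card_eq_card_quotient_mul_card_subgroup Q]
        exact lt_mul_of_one_lt_right Nat.card_pos (one_lt_card_iff_ne_bot _ |>.2 hQ)
      have hs : Function.Surjective (QuotientGroup.mk' Q) := QuotientGroup.mk'_surjective Q
      have hQS : Q ≤ (S : Subgroup X) := Cfsg.Lib.Core.pCore_le_sylow S
      have h1 := ih (X ⧸ Q) (by omega) (S.mapSurjective hs)
        (fun e => hSQ (by
          have e' : (S : Subgroup X).map (QuotientGroup.mk' Q) = ⊥ := e
          rw [Subgroup.map_eq_bot_iff, QuotientGroup.ker_mk'] at e'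
          exact e'))
        (fun y hy hyp => by
          obtain ⟨x, rfl⟩ := hs y
          have hxN : x ∈ normalizer ((S : Subgroup X) : Set X) := by
            have h2 : x ∈ (normalizer (((S : Subgroup X).map (QuotientGroup.mk' Q) : Subgroup _) :
              Set (X ⧸ Q))).comap (QuotientGroup.mk' Q) := hy
            rwa [comap_normalizer_eq_of_surjective _ hs, comap_map_eq, QuotientGroup.ker_mk',
              sup_eq_left.2 hQS] at h2
          obtain ⟨k, m, hm, he⟩ := Nat.exists_eq_pow_mul_and_not_dvd (orderOf_pos x).ne' p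
            (Fact.out : p.Prime).ne_one
          have hxm : (orderOf (x ^ p ^ k)).Coprime p := by
            rw [orderOf_pow_of_dvd (pow_pos (Fact.out : p.Prime).pos k).ne' (he ▸ dvd_mul_right _ _),
              he, Nat.mul_div_cancel_left _ (pow_pos (Fact.out : p.Prime).pos k)]
            exact ((Fact.out : p.Prime).coprime_iff_not_dvd.2 hm).symm
          have hxc := mem_centralizer_iff.1 (hN _ (pow_mem hxN _) hxm)
          obtain ⟨j, hj⟩ := exists_pow_eq_self_of_coprime (Nat.Coprime.pow_left k hyp.symm)
          refine mem_centralizer_iff.2 ?_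
          rintro _ ⟨s, hs', rfl⟩
          rw [← hj, ← map_pow, ← map_pow, ← map_mul, ← map_mul,
            ((show Commute s (x ^ p ^ k) from hxc s hs').pow_right j).eq])
      intro hle
      refine h1 ((map_mono hle : _ ≤ (commutator X).map (QuotientGroup.mk' Q)).trans ?_)
      rw [_root_.commutator_def, _root_.commutator_def, map_commutator, map_top_of_surjective _ hs]

/-- Let p ≥ 7 be a prime and S a nontrivial Sylow p-subgroup of the finite group G. If N_G(S)/C_G(S) is a p-group (every element of N_G(S) of order prime to p centralizes S), then O^p(G) < G, i.e. G has a nontrivial p-factor group. -/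
theorem result {G : Type*} [Group G] [Finite G] {p : ℕ} [Fact p.Prime]
    (hp : 7 ≤ p) (S : Sylow p G) (hS : (S : Subgroup G) ≠ ⊥)
    (hN : ∀ g ∈ Subgroup.normalizer ((S : Subgroup G) : Set G), (orderOf g).Coprime p →
      g ∈ Subgroup.centralizer ((S : Subgroup G) : Set G)) :
    Cfsg.pResidual p G ≠ ⊤ := by
  intro htop
  refine not_le_commutator (by omega) (Nat.card G) G le_rfl S hS hN fun s hs => ?_
  obtain ⟨k, hk⟩ := S.2 ⟨s, hs⟩
  exact Cfsg.Lib.FusionSys.mem_commutator_of_mem_pResidual (htop ▸ mem_top s)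
    (congrArg Subtype.val hk)

end Cfsg.Agent.S3069
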