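import Cfsg.Statements.S3070
import Cfsg.Agent.Lib.Local.JNormal.Complement
import Cfsg.Agent.Lib.Sig.KInfApps
-- import your own Cfsg.Agent.* helpers here

set_option autoImplicit false
open Cfsg

namespace Cfsg.Agent.S3070

open Subgroup
open scoped commutatorElement

/-- Let p ≥ 5 be a prime, S a Sylow p-subgroup of the finite group G and J(S) the subgroup generated by the abelian subgroups of S of largest order. Then G has a normal p-complement if and only if N_G(J(S))/C_G(J(S)) is a p-group (every element of N_G(J(S)) of order prime to p centralizes J(S)). -/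
theorem result {G : Type*} [Group G] [Finite G] {p : ℕ} [Fact p.Prime]
    (hp : 5 ≤ p) (S : Sylow p G) :
    Cfsg.HasNormalPComplement p G ↔
      ∀ g ∈ Subgroup.normalizer (Cfsg.thompsonSubgroupAOf (S : Subgroup G) : Set G), (orderOf g).Coprime p →
        g ∈ Subgroup.centralizer (Cfsg.thompsonSubgroupAOf (S : Subgroup G) : Set G) := by
  have hJS : Cfsg.thompsonSubgroupAOf (S : Subgroup G) ≤ (S : Subgroup G) :=
    Cfsg.Lib.ThompsonA.thompsonSubgroupAOf_le _
  constructor
  · intro h g hg hgp
    refine mem_centralizer_iff.2 fun j hj => commutatorElement_eq_one_iff_mul_comm.1 ?_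
    have hgK : g ∈ Cfsg.pResidual p G := Cfsg.Lib.Fusion.mem_pResidual_of_coprime hgp
    have h1 : ⁅j, g⁆ ∈ (S : Subgroup G) := hJS (by
      rw [commutatorElement_def, show j * g * j⁻¹ * g⁻¹ = j * (g * j⁻¹ * g⁻¹) by group]
      exact mul_mem hj ((mem_normalizer_iff.1 hg _).1 (inv_mem hj)))
    haveI : (Cfsg.pResidual p G).Normal := Cfsg.Lib.Fusion.pResidual_normal p G
    have h2 : ⁅j, g⁆ ∈ Cfsg.pResidual p G := by
      rw [commutatorElement_def]
      exact mul_mem (Subgroup.Normal.conj_mem inferInstance _ hgK j) (inv_mem hgK)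
    exact mem_bot.1 (((Cfsg.Lib.Fusion.isComplement'_pResidual h (P := S)).disjoint).le_bot ⟨h2, h1⟩)
  · intro h
    refine Cfsg.Lib.Local.JNormal.normal_p_complement hp S
      (Cfsg.Lib.Sig.hasNormalPComplement_normalizer_of_automizer S _
        (le_normalizer.trans (Cfsg.Lib.ThompsonA.normalizer_le_normalizer_thompsonSubgroupAOf _)) ?_ h)
    rintro x ⟨hx, hxc⟩
    obtain ⟨A, hA⟩ := Cfsg.Lib.Local.GlaubermanZJ.exists_isMaxAbIn (S : Subgroup G)
    have hAJ : A ≤ Cfsg.thompsonSubgroupAOf (S : Subgroup G) := by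
      rw [Cfsg.Lib.Local.GlaubermanZJ.thompsonSubgroupAOf_eq]
      exact le_sSup (show A ∈ {A | Cfsg.Lib.Local.GlaubermanZJ.IsMaxAbIn (S : Subgroup G) A} from hA)
    exact hAJ (hA.mem_of_commute hx fun a ha => (mem_centralizer_iff.1 hxc a (hAJ ha)).symm)

end Cfsg.Agent.S3070
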