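import Cfsg.Statements.S3072
import Cfsg.Agent.Lib.Sig.GoldschmidtStrong
-- import your own Cfsg.Agent.* helpers here

set_option autoImplicit false
open Cfsg

namespace Cfsg.Agent.S3072

open Subgroup Cfsg.Lib

/-- A strong form of the Alperin–Goldschmidt fusion Theorem. Let P be a Sylow p-subgroup of the finite group G, A a subset of P containing a nonidentity element, and g an element with g⁻¹Ag ⊆ P. Then g = c·x₁⋯xₙ·y with c ∈ C_G(A), y ∈ N_G(P) and, for each i, an element xᵢ and a subgroup Hᵢ ≤ P such that: N_P(Hᵢ) is a Sylow p-subgroup of N_G(Hᵢ); C_P(Hᵢ) ≤ Hᵢ; O_{p',p}(N_G(Hᵢ)) = Hᵢ·C_G(Hᵢ); the Sylow p-subgroups of N_G(Hᵢ)/Hᵢ are not chain-connected through nontrivial intersections (the quotient has a strongly p-embedded subgroup); xᵢ lies in O^p(Xᵢ), where Xᵢ/Hᵢ is the smallest normal subgroup of N_G(Hᵢ)/Hᵢ of order divisible by p; and (x₁⋯xᵢ₋₁)⁻¹A(x₁⋯xᵢ₋₁) ⊆ Hᵢ. -/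
theorem result {G : Type*} [Group G] [Finite G] {p : ℕ} [Fact p.Prime]
    (P : Sylow p G) (A : Set G) (hA : A ⊆ (P : Set G)) (hA1 : ∃ a ∈ A, a ≠ 1)
    (g : G) (hAg : (fun a => g⁻¹ * a * g) '' A ⊆ (P : Set G)) :
    ∃ (n : ℕ) (H X : Fin n → Subgroup G) (x : Fin n → G) (c y : G),
      c ∈ Subgroup.centralizer A ∧ y ∈ Subgroup.normalizer ((P : Subgroup G) : Set G) ∧
      g = c * (List.ofFn x).prod * y ∧
      ∀ i : Fin n,
        H i ≤ (P : Subgroup G) ∧
        ¬ p ∣ ((P : Subgroup G) ⊓ Subgroup.normalizer (H i : Set G)).relIndex (Subgroup.normalizer (H i : Set G)) ∧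
        (P : Subgroup G) ⊓ Subgroup.centralizer (H i : Set G) ≤ H i ∧
        (Cfsg.pPrimePCore p ↥(Subgroup.normalizer (H i : Set G))).map (Subgroup.normalizer (H i : Set G)).subtype =
          H i ⊔ Subgroup.centralizer (H i : Set G) ∧
        ¬ Cfsg.IsSylowChainConnected p
            (↥(Subgroup.normalizer (H i : Set G)) ⧸ (H i).subgroupOf (Subgroup.normalizer (H i : Set G))) ∧
        (H i ≤ X i ∧ X i ≤ Subgroup.normalizer (H i : Set G) ∧
          ((X i).subgroupOf (Subgroup.normalizer (H i : Set G))).Normal ∧ p ∣ (H i).relIndex (X i) ∧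
          ∀ Y : Subgroup G, H i ≤ Y → Y ≤ Subgroup.normalizer (H i : Set G) →
            (Y.subgroupOf (Subgroup.normalizer (H i : Set G))).Normal → p ∣ (H i).relIndex Y → X i ≤ Y) ∧
        x i ∈ (Cfsg.pResidual p ↥(X i)).map (X i).subtype ∧
        (fun a => (((List.ofFn x).take i.val).prod)⁻¹ * a * ((List.ofFn x).take i.val).prod) '' A ⊆ (H i : Set G) := by
  classical
  set D := Subgroup.closure A with hDdef
  have hD : D ≤ (P : Subgroup G) := (Subgroup.closure_le _).2 hA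
  have hDg : Fusion.conjR g D ≤ (P : Subgroup G) := by
    refine Fusion.conjR_le_iff.mpr fun a ha => ?_
    induction ha using Subgroup.closure_induction with
    | mem a ha => exact hAg ⟨a, ha, rfl⟩
    | one => simp [one_mem]
    | mul u v _ _ hu hv =>
      have := mul_mem hu hv
      rwa [show g⁻¹ * u * g * (g⁻¹ * v * g) = g⁻¹ * (u * v) * g by group] at this
    | inv u _ hu =>
      have := inv_mem hu
      rwa [show (g⁻¹ * u * g)⁻¹ = g⁻¹ * u⁻¹ * g by group] at this
  obtain ⟨l, y, hy, hl, hc⟩ := Sig.Goldschmidt.eLink P D g hD hDg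
  have hof : List.ofFn (fun i : Fin l.length => l[(i : ℕ)].2.2) = l.map (fun a => a.2.2) :=
    List.ext_getElem (by simp) fun i h1 h2 => by simp
  refine ⟨l.length, fun i => l[(i : ℕ)].1, fun i => l[(i : ℕ)].2.1, fun i => l[(i : ℕ)].2.2,
    g * (Sig.Goldschmidt.eProd l * y)⁻¹, y, ?_, hy, ?_, ?_⟩
  · exact centralizer_le Subgroup.subset_closure hc
  · rw [hof]
    simp only [Sig.Goldschmidt.eProd]
    group
  · intro i
    obtain ⟨⟨h1, h2, h3, h4, h5, h6, h7⟩, h8⟩ := hl.prefix_le i.val i.isLt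
    refine ⟨h1, h2, h3, h4, h5, h6, h7, ?_⟩
    rintro _ ⟨a, ha, rfl⟩
    rw [hof, ← List.map_take]
    exact h8 (Fusion.conj_mem_conjR (Subgroup.subset_closure ha))

end Cfsg.Agent.S3072
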