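import Cfsg.Statements.S3074
import Cfsg.Agent.Lib.Local.QdGroup
import Cfsg.Agent.Lib.Linear.GLTwo
import Cfsg.Agent.Lib.PGroup.Basic
-- import your own Cfsg.Agent.* helpers here

set_option autoImplicit false
open Cfsg

namespace Cfsg.Agent.S3074

/-- Let p be an odd prime. A Sylow p-subgroup of Qd(p), the split extension of an elementary abelian group of order p² by SL₂(p) acting naturally, is extraspecial of order p³ and exponent p. -/
theorem result (p : ℕ) [Fact p.Prime] (hp : p ≠ 2) (P : Sylow p ↥(Cfsg.qd p)) :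
    Cfsg.IsExtraspecial p ↥P ∧ Nat.card P = p ^ 3 ∧ Monoid.exponent ↥P = p := by
  have hpp := (Fact.out : p.Prime)
  set U : Subgroup ↥(Cfsg.qd p) :=
    (Cfsg.Lib.Linear.Two.UT (ZMod p)).comap (Cfsg.Lib.Local.QdGroup.block p) with hU
  have hblk : IsPGroup p (Cfsg.Lib.Local.QdGroup.block p).ker :=
    IsPGroup.of_card (n := 2) (Cfsg.Lib.Local.QdGroup.card_ker_block p)
  have hUp : IsPGroup p U := (Cfsg.Lib.Linear.Two.isPGroup_UT p).comap_of_ker_isPGroup _ hblk
  have hUi : ¬ p ∣ U.index := by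
    rw [hU, Subgroup.index_comap_of_surjective _ (Cfsg.Lib.Local.QdGroup.block_surjective p)]
    exact Cfsg.Lib.Linear.Two.not_dvd_index_UT p
  have hUc : Nat.card U = p ^ 3 := by
    have hle : (Cfsg.Lib.Local.QdGroup.block p).ker ≤ U := fun x hx => by
      show Cfsg.Lib.Local.QdGroup.block p x ∈ Cfsg.Lib.Linear.Two.UT (ZMod p)
      rw [MonoidHom.mem_ker.mp hx]; exact one_mem _
    have h1 := Subgroup.relIndex_mul_relIndex ⊥ (Cfsg.Lib.Local.QdGroup.block p).ker U bot_le hle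
    rw [Subgroup.relIndex_bot_left, Subgroup.relIndex_bot_left, Cfsg.Lib.Local.QdGroup.card_ker_block,
      Subgroup.relIndex_ker, hU, Subgroup.map_comap_eq_self_of_surjective
        (Cfsg.Lib.Local.QdGroup.block_surjective p), Cfsg.Lib.Linear.Two.card_UT, ZMod.card] at h1
    rw [hU, ← h1]; ring
  have hexp : ∀ M ∈ U, M ^ p = 1 := by
    intro M hM
    obtain ⟨h20, h21, h22⟩ := Cfsg.Lib.Local.QdGroup.row_two p M.2
    obtain ⟨h00, h11, h10⟩ := Cfsg.Lib.Linear.Two.mem_UT.mp (Subgroup.mem_comap.mp hM)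
    simp only [Cfsg.Lib.Local.QdGroup.block_coe, Matrix.cons_val', Matrix.cons_val_zero,
      Matrix.cons_val_one, Matrix.of_apply] at h00 h11 h10
    set A : Matrix (Fin 3) (Fin 3) (ZMod p) :=
      ((M : Matrix.SpecialLinearGroup (Fin 3) (ZMod p)) : Matrix (Fin 3) (Fin 3) (ZMod p)) with hA
    have h3 : (A - 1) ^ 3 = 0 := by
      rw [pow_three]
      ext i j
      fin_cases i <;> fin_cases j <;>
        simp [Matrix.mul_apply, Fin.sum_univ_three, h20, h21, h22, h00, h11, h10]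
    obtain ⟨k, hk⟩ : ∃ k, p = 3 + k := ⟨p - 3, by have := hpp.two_le; omega⟩
    have h4 : A ^ p = 1 := by
      haveI : CharP (Matrix (Fin 3) (Fin 3) (ZMod p)) p := inferInstance
      have h5 := sub_pow_char_of_commute (p := p) (Commute.one_right A)
      rw [one_pow] at h5
      have h6 : (A - 1) ^ p = 0 := pow_eq_zero_of_le (by omega) h3
      rw [h6, eq_comm, sub_eq_zero] at h5
      exact h5
    apply Subtype.ext
    apply Subtype.ext
    rw [SubmonoidClass.coe_pow, Matrix.SpecialLinearGroup.coe_pow, ← hA, h4]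
    rfl
  -- two elements that do not commute
  obtain ⟨a, b, ha, hb, hab⟩ : ∃ a b : ↥(Cfsg.qd p), a ∈ U ∧ b ∈ U ∧ ¬ Commute a b := by
    refine ⟨Cfsg.Lib.Local.QdGroup.affine p (Cfsg.Lib.Linear.Two.ut (Multiplicative.ofAdd 1)) 0,
      Cfsg.Lib.Local.QdGroup.affine p 1 (0, 1), ?_, ?_, fun h => ?_⟩
    · show Cfsg.Lib.Local.QdGroup.block p _ ∈ Cfsg.Lib.Linear.Two.UT (ZMod p)
      rw [Cfsg.Lib.Local.QdGroup.block_affine]; exact ⟨_, rfl⟩
    · show Cfsg.Lib.Local.QdGroup.block p _ ∈ Cfsg.Lib.Linear.Two.UT (ZMod p)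
      rw [Cfsg.Lib.Local.QdGroup.block_affine]; exact one_mem _
    · have h1 := congrArg (fun M : ↥(Cfsg.qd p) =>
        ((M : Matrix.SpecialLinearGroup (Fin 3) (ZMod p)) : Matrix (Fin 3) (Fin 3) (ZMod p)) 0 2) h.eq
      simp [Cfsg.Lib.Local.QdGroup.affine_mul, Cfsg.Lib.Local.QdGroup.affine_coe,
        Cfsg.Lib.Linear.Two.ut_coe] at h1
  let U' : Sylow p ↥(Cfsg.qd p) := hUp.toSylow hUi
  obtain ⟨g, hg⟩ := MulAction.exists_smul_eq ↥(Cfsg.qd p) U' P
  let e : ↥U ≃* ↥(P : Subgroup ↥(Cfsg.qd p)) :=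
    (Subgroup.equivMapOfInjective U _ (MulAut.conj g).injective).trans
      (MulEquiv.subgroupCongr (by rw [← hg, Sylow.coe_subgroup_smul]; rfl))
  have hPc : Nat.card ↥(P : Subgroup ↥(Cfsg.qd p)) = p ^ 3 := by
    rw [← Nat.card_congr e.toEquiv, hUc]
  have hPexp : ∀ x : ↥(P : Subgroup ↥(Cfsg.qd p)), x ^ p = 1 := fun x => by
    obtain ⟨u, rfl⟩ := e.surjective x
    rw [← map_pow, show u ^ p = 1 from Subtype.ext (hexp u u.2), map_one]
  haveI : Nontrivial ↥(P : Subgroup ↥(Cfsg.qd p)) :=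
    Finite.one_lt_card_iff_nontrivial.mp (hPc ▸ Nat.one_lt_pow (by norm_num) hpp.one_lt)
  have hnc : ¬ ∀ x y : ↥(P : Subgroup ↥(Cfsg.qd p)), x * y = y * x := fun h => hab <| by
    have := h (e ⟨a, ha⟩) (e ⟨b, hb⟩)
    rw [← map_mul, ← map_mul] at this
    exact congrArg Subtype.val (e.injective this)
  set Z := Subgroup.center ↥(P : Subgroup ↥(Cfsg.qd p)) with hZ
  have hPP : IsPGroup p ↥(P : Subgroup ↥(Cfsg.qd p)) := P.2
  have hZc : Nat.card Z = p := by
    obtain ⟨i, hi, hiZ⟩ := (Nat.dvd_prime_pow hpp).mp (hPc ▸ Subgroup.card_subgroup_dvd_card Z)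
    haveI := hPP.center_nontrivial
    have h1 : 1 < Nat.card Z := Finite.one_lt_card
    have h2 := Z.card_mul_index
    rw [hiZ, hPc] at h2
    have hcyc : i = 2 ∨ i = 3 → False := fun h => hnc fun x y => by
      have hidx : Z.index = p ^ (3 - i) := Nat.eq_of_mul_eq_mul_left (pow_pos hpp.pos i)
        (by rw [h2, ← pow_add, Nat.add_sub_cancel' hi])
      haveI : IsCyclic (↥(P : Subgroup ↥(Cfsg.qd p)) ⧸ Z) := by
        rcases h with rfl | rfl
        · exact isCyclic_of_prime_card (p := p) (by rw [← Subgroup.index_eq_card, hidx]; norm_num)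
        · haveI : Subsingleton (↥(P : Subgroup ↥(Cfsg.qd p)) ⧸ Z) :=
            (Nat.card_eq_one_iff_unique.mp (by rw [← Subgroup.index_eq_card, hidx]; norm_num)).1
          exact isCyclic_of_subsingleton
      exact commutative_of_cyclic_center_quotient (QuotientGroup.mk' Z)
        (by rw [QuotientGroup.ker_mk']) x y
    interval_cases i
    · rw [hiZ, pow_zero] at h1; omega
    · rw [hiZ, pow_one]
    · exact (hcyc (Or.inl rfl)).elim
    · exact (hcyc (Or.inr rfl)).elim
  have hc : commutator ↥(P : Subgroup ↥(Cfsg.qd p)) = Z := by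
    have h2 : Nat.card (↥(P : Subgroup ↥(Cfsg.qd p)) ⧸ Z) = p ^ 2 := by
      have h := Z.card_mul_index
      rw [hZc, hPc] at h
      rw [← Subgroup.index_eq_card]
      exact Nat.eq_of_mul_eq_mul_left hpp.pos (by rw [h]; ring)
    have hle : commutator ↥(P : Subgroup ↥(Cfsg.qd p)) ≤ Z :=
      Subgroup.Normal.quotient_commutative_iff_commutator_le.mp
        (IsPGroup.isMulCommutative_of_card_eq_prime_sq h2)
    refine Subgroup.eq_of_le_of_card_ge hle ?_
    rcases (Nat.dvd_prime hpp).mp (hZc ▸ Subgroup.card_dvd_of_le hle) with h | h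
    · exfalso
      refine hnc fun x y => ?_
      have h3 := Subgroup.commutator_mem_commutator (Subgroup.mem_top x) (Subgroup.mem_top y)
      rw [← commutator_def, Subgroup.eq_bot_of_card_eq _ h, Subgroup.mem_bot,
        commutatorElement_eq_one_iff_commute] at h3
      exact h3
    · rw [h, hZc]
  refine ⟨⟨⟨hPP, ?_, hc⟩, hZc⟩, hPc, ?_⟩
  · refine le_antisymm ?_ (hc.ge.trans (Cfsg.Lib.PGroup.commutator_le_frattini hPP))
    exact Cfsg.Lib.PGroup.frattini_le_of_commutator_le_of_pow_mem (p := p) hc.le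
      fun x => by rw [hPexp x]; exact one_mem _
  · rw [Monoid.exponent_eq_prime_iff hpp]
    exact fun x hx => orderOf_eq_prime (hPexp x) hx

end Cfsg.Agent.S3074
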