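import Cfsg.Statements.S3075
import Mathlib.LinearAlgebra.Matrix.SpecialLinearGroup
import Cfsg.Agent.Lib.Core.Basic
import Mathlib.Tactic.LinearCombination
import Mathlib.Algebra.CharP.Lemmas
-- import your own Cfsg.Agent.* helpers here

set_option autoImplicit false
open Cfsg

namespace Cfsg.Agent.S3075

/-- Let p be an odd prime and N a finite group with a normal elementary abelian subgroup A of order p² that is its own centralizer in N, such that N/A is isomorphic to SL₂(p) (over any field F with p elements). Then N splits over A: some subgroup U of N satisfies A ∩ U = 1 and AU = N. -/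
theorem result {N : Type*} [Group N] [Finite N] {p : ℕ} [Fact p.Prime] (hp : p ≠ 2)
    (A : Subgroup N) [A.Normal] (hAcomm : IsMulCommutative A) (hAcard : Nat.card A = p ^ 2) (hAexp : Monoid.exponent ↥A = p)
    (hAself : Subgroup.centralizer (A : Set N) = A)
    {F : Type*} [Field F] [Fintype F] (hF : Fintype.card F = p) (e : N ⧸ A ≃* Matrix.SpecialLinearGroup (Fin 2) F) :
    ∃ U : Subgroup N, A ⊓ U = ⊥ ∧ A ⊔ U = ⊤ := by
  classical
  have hodd : Odd p := (Fact.out : p.Prime).odd_of_ne_two hp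
  obtain ⟨m, hm⟩ := hodd
  have hcomm : ∀ a ∈ A, ∀ b ∈ A, a * b = b * a := fun a ha b hb =>
    congrArg Subtype.val (hAcomm.is_comm.comm ⟨a, ha⟩ ⟨b, hb⟩)
  have hpow : ∀ a ∈ A, a ^ p = 1 := fun a ha => by
    have := congrArg Subtype.val (hAexp ▸ Monoid.pow_exponent_eq_one (⟨a, ha⟩ : ↥A))
    simpa using this
  -- the lift of `-1`
  have hchar : (-1 : F) ≠ 1 := by
    intro h
    have h2 : (2 : F) = 0 := by linear_combination -h
    have h3 : ((2 * m + 1 : ℕ) : F) = 0 := by rw [← hm, ← hF]; exact Nat.cast_card_eq_zero F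
    push_cast at h3
    rw [h2, zero_mul, zero_add] at h3
    exact one_ne_zero h3
  let s : Matrix.SpecialLinearGroup (Fin 2) F := ⟨-1, by simp [Matrix.det_neg]⟩
  obtain ⟨z₀, hz₀⟩ := QuotientGroup.mk_surjective (e.symm s)
  have hs2 : s * s = 1 := Subtype.ext (by rw [Matrix.SpecialLinearGroup.coe_mul]; simp [s])
  have hs1 : s ≠ 1 := fun h => hchar (by
    have := congrFun (congrFun (congrArg Subtype.val h) 0) 0
    simpa [s] using this)
  have hscen : ∀ g, g * s = s * g := fun g => Subtype.ext (by rw [Matrix.SpecialLinearGroup.coe_mul, Matrix.SpecialLinearGroup.coe_mul]; simp [s])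
  have hz₀A : z₀ * z₀ ∈ A := by
    rw [← QuotientGroup.eq_one_iff, QuotientGroup.mk_mul, hz₀, ← map_mul, hs2, map_one]
  set z := z₀ ^ p with hzdef
  have hz2 : z * z = 1 := by
    rw [hzdef, ← (Commute.refl z₀).mul_pow, hpow _ hz₀A]
  have hzbar : (QuotientGroup.mk z : N ⧸ A) = e.symm s := by
    rw [hzdef, QuotientGroup.mk_pow, hz₀, ← map_pow, hm, pow_succ, pow_mul, pow_two, hs2, one_pow, one_mul]
  have hzA : z ∉ A := fun h => hs1 (e.symm.injective (by
    rw [← hzbar, (QuotientGroup.eq_one_iff z).2 h, map_one]))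
  have hzc : ∀ n : N, ∃ a ∈ A, n * z * n⁻¹ = a * z := by
    intro n
    refine ⟨n * z * n⁻¹ * z⁻¹, ?_, by group⟩
    rw [← QuotientGroup.eq_one_iff]
    obtain ⟨g, hg⟩ := e.symm.surjective (QuotientGroup.mk n)
    simp only [QuotientGroup.mk_mul, QuotientGroup.mk_inv, hzbar, ← hg, ← map_inv, ← map_mul]
    rw [hscen g]; simp
  have hconj : ∀ n : N, ∀ a ∈ A, z * (n * a * n⁻¹) * z⁻¹ = n * (z * a * z⁻¹) * n⁻¹ := by
    intro n a ha
    obtain ⟨b, hb, hn⟩ := hzc n⁻¹
    rw [inv_inv] at hn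
    have e1 : z * n = n * (b * z) := by rw [← hn]; group
    calc z * (n * a * n⁻¹) * z⁻¹ = (z * n) * a * (z * n)⁻¹ := by group
      _ = n * (b * (z * a * z⁻¹)) * b⁻¹ * n⁻¹ := by rw [e1]; group
      _ = _ := by rw [hcomm b hb _ (Subgroup.Normal.conj_mem inferInstance a ha z)]; group
  have hfix : ∀ a ∈ A, z * a * z⁻¹ = a → a = 1 := by
    by_contra hne
    push Not at hne
    obtain ⟨c, hcA, hcz, hc1⟩ := hne
    obtain ⟨d₀, hd₀A, hd₀⟩ : ∃ a ∈ A, z * a * z⁻¹ ≠ a := by
      by_contra h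
      push Not at h
      refine hzA (hAself ▸ Subgroup.mem_centralizer_iff.2 fun a ha => ?_)
      exact (mul_inv_eq_iff_eq_mul.1 (h a ha)).symm
    set C : Subgroup N := A ⊓ Subgroup.centralizer {z} with hC
    have hmemC : ∀ {a}, a ∈ C ↔ a ∈ A ∧ z * a * z⁻¹ = a := by
      intro a
      rw [hC, Subgroup.mem_inf, Subgroup.mem_centralizer_singleton_iff, mul_inv_eq_iff_eq_mul]
      exact and_congr_right' ⟨Eq.symm, Eq.symm⟩
    set d := d₀⁻¹ * (z * d₀ * z⁻¹) with hd
    have hdA : d ∈ A := A.mul_mem (A.inv_mem hd₀A) (Subgroup.Normal.conj_mem inferInstance _ hd₀A z)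
    have hdinv : z * d * z⁻¹ = d⁻¹ := by
      have e1 : z * d * z⁻¹ = (z * d₀ * z⁻¹)⁻¹ * (z * z * d₀ * (z * z)⁻¹) := by rw [hd]; group
      rw [e1, hz2, hd]; group
    let D : Subgroup N :=
      { carrier := {a | a ∈ A ∧ z * a * z⁻¹ = a⁻¹}
        one_mem' := ⟨A.one_mem, by simp⟩
        mul_mem' := fun {a b} ha hb => ⟨A.mul_mem ha.1 hb.1, by
          rw [mul_inv_rev, ← hb.2, ← ha.2, hcomm _ (Subgroup.Normal.conj_mem inferInstance _ hb.1 z) _
            (Subgroup.Normal.conj_mem inferInstance _ ha.1 z)]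
          group⟩
        inv_mem' := fun {a} ha => ⟨A.inv_mem ha.1, by rw [← conj_inv, ha.2]⟩ }
    have hd1 : d ≠ 1 := fun h => hd₀ (inv_mul_eq_one.1 h).symm
    have hCD : C ⊓ D = ⊥ := by
      rw [eq_bot_iff]
      rintro x ⟨hxC, -, hx⟩
      have hx2 : x * x = 1 := by
        rw [(hmemC.1 hxC).2] at hx
        exact eq_inv_iff_mul_eq_one.1 hx
      have := hpow x (hmemC.1 hxC).1
      rw [hm, pow_succ, pow_mul, pow_two, hx2, one_pow, one_mul] at this
      exact Subgroup.mem_bot.2 this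
    have hcardp : ∀ H : Subgroup N, H ≤ A → H ≠ ⊥ → H ≠ A → Nat.card H = p := by
      intro H hle h1 h2
      obtain ⟨k, hk, hk'⟩ := (Nat.dvd_prime_pow Fact.out).1 (hAcard ▸ Subgroup.card_dvd_of_le hle)
      rcases k with - | - | - | k
      · exact absurd (Subgroup.card_eq_one.1 (by simpa using hk')) h1
      · simpa using hk'
      · exact absurd (Subgroup.eq_of_le_of_card_ge hle (by rw [hAcard, hk'])) h2
      · omega
    have hcC : c ∈ C := hmemC.2 ⟨hcA, hcz⟩
    have hdD : d ∈ D := ⟨hdA, hdinv⟩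
    have hpC : Nat.card C = p := hcardp C inf_le_left (fun h => hc1 (Subgroup.mem_bot.1 (h ▸ hcC)))
      fun h => hd₀ (hmemC.1 (h ▸ hd₀A)).2
    have hpD : Nat.card D = p := hcardp D (fun x hx => hx.1) (fun h => hd1 (Subgroup.mem_bot.1 (h ▸ hdD)))
      fun h => hc1 (Subgroup.mem_bot.1 (hCD ▸ ⟨hcC, (h ▸ hcA : c ∈ D)⟩))
    have hsupA : C ⊔ D = A := by
      refine Subgroup.eq_of_le_of_card_ge (sup_le inf_le_left fun x hx => hx.1) ?_
      rw [hAcard]
      obtain ⟨k, hk, hk'⟩ := (Nat.dvd_prime_pow Fact.out).1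
        (hAcard ▸ Subgroup.card_dvd_of_le (sup_le (inf_le_left : C ≤ A) (fun x hx => hx.1) : C ⊔ D ≤ A))
      rcases k with - | - | - | k
      · exfalso
        exact hd1 (Subgroup.mem_bot.1 (Subgroup.card_eq_one.1 (hk'.trans (pow_zero p)) ▸ Subgroup.mem_sup_right hdD))
      · exfalso
        have e1 : C = C ⊔ D := Subgroup.eq_of_le_of_card_ge le_sup_left (by rw [hpC, hk']; simp)
        exact hd1 (Subgroup.mem_bot.1 (hCD ▸ ⟨e1 ▸ Subgroup.mem_sup_right hdD, hdD⟩))
      · exact hk'.ge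
      · omega
    have hline : ∀ H : Subgroup N, Nat.card H = p → (∀ n : N, ∀ x ∈ H, n * x * n⁻¹ ∈ H) →
        ∀ n k : N, ∀ x ∈ H, n * (k * x * k⁻¹) * n⁻¹ = k * (n * x * n⁻¹) * k⁻¹ := by
      intro H hH hn n k x hx
      rcases eq_or_ne x 1 with rfl | hx1
      · simp
      have hgen : ∀ y ∈ H, ∃ i : ℕ, x ^ i = y := by
        intro y hy
        obtain ⟨i, hi⟩ := Submonoid.mem_powers_iff _ _ |>.1 (mem_powers_iff_mem_zpowers.2
          (mem_zpowers_of_prime_card hH (g := (⟨x, hx⟩ : ↥H)) (g' := ⟨y, hy⟩) (fun h => hx1 (congrArg Subtype.val h))))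
        exact ⟨i, by simpa using congrArg Subtype.val hi⟩
      obtain ⟨i, hi⟩ := hgen _ (hn n x hx)
      obtain ⟨j, hj⟩ := hgen _ (hn k x hx)
      rw [← hj, ← hi, ← conj_pow, ← conj_pow, ← hi, ← hj, ← pow_mul, ← pow_mul, mul_comm]
    have hnC : ∀ n : N, ∀ x ∈ C, n * x * n⁻¹ ∈ C := fun n x hx => hmemC.2
      ⟨Subgroup.Normal.conj_mem inferInstance _ (hmemC.1 hx).1 n, by rw [hconj n x (hmemC.1 hx).1, (hmemC.1 hx).2]⟩
    have hnD : ∀ n : N, ∀ x ∈ D, n * x * n⁻¹ ∈ D := fun n x hx =>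
      ⟨Subgroup.Normal.conj_mem inferInstance _ hx.1 n, by rw [hconj n x hx.1, hx.2]; group⟩
    have hab : ∀ n k : N, (QuotientGroup.mk (n * k) : N ⧸ A) = QuotientGroup.mk (k * n) := by
      intro n k
      rw [QuotientGroup.eq]
      have hle : A ≤ Subgroup.centralizer {(n * k)⁻¹ * (k * n)} := by
        rw [← hsupA]
        refine sup_le (fun x hx => ?_) (fun x hx => ?_)
        all_goals rw [Subgroup.mem_centralizer_singleton_iff]
        · have h1 := hline C hpC hnC n k x hx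
          have h2 : (n * k)⁻¹ * (k * n) * x * ((n * k)⁻¹ * (k * n))⁻¹ = x := by
            calc _ = (n * k)⁻¹ * (k * (n * x * n⁻¹) * k⁻¹) * (n * k) := by group
              _ = _ := by rw [← h1]; group
          exact (mul_inv_eq_iff_eq_mul.1 h2).symm
        · have h1 := hline D hpD hnD n k x hx
          have h2 : (n * k)⁻¹ * (k * n) * x * ((n * k)⁻¹ * (k * n))⁻¹ = x := by
            calc _ = (n * k)⁻¹ * (k * (n * x * n⁻¹) * k⁻¹) * (n * k) := by group
              _ = _ := by rw [← h1]; group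
          exact (mul_inv_eq_iff_eq_mul.1 h2).symm
      rw [← hAself]
      exact Subgroup.mem_centralizer_iff.2 fun a ha => Subgroup.mem_centralizer_singleton_iff.1 (hle ha)
    let T : Matrix.SpecialLinearGroup (Fin 2) F := ⟨!![1, 1; 0, 1], by simp [Matrix.det_fin_two]⟩
    let U : Matrix.SpecialLinearGroup (Fin 2) F := ⟨!![1, 0; 1, 1], by simp [Matrix.det_fin_two]⟩
    obtain ⟨t, ht⟩ := QuotientGroup.mk_surjective (e.symm T)
    obtain ⟨u, hu⟩ := QuotientGroup.mk_surjective (e.symm U)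
    have h := hab t u
    rw [QuotientGroup.mk_mul, QuotientGroup.mk_mul, ht, hu, ← map_mul, ← map_mul] at h
    have := congrFun (congrFun (congrArg Subtype.val (e.symm.injective h)) 0) 0
    rw [Matrix.SpecialLinearGroup.coe_mul, Matrix.SpecialLinearGroup.coe_mul] at this
    simp [T, U, Matrix.mul_apply] at this
  have hinv : ∀ a ∈ A, z * a * z⁻¹ = a⁻¹ := by
    intro a ha
    have h1 : z * (a * (z * a * z⁻¹)) * z⁻¹ = a * (z * a * z⁻¹) := by
      calc z * (a * (z * a * z⁻¹)) * z⁻¹ = (z * a * z⁻¹) * ((z * z) * a * (z * z)⁻¹) := by group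
        _ = (z * a * z⁻¹) * a := by rw [hz2]; simp
        _ = _ := hcomm _ (Subgroup.Normal.conj_mem inferInstance a ha z) _ ha
    exact eq_inv_of_mul_eq_one_right (hfix _ (A.mul_mem ha (Subgroup.Normal.conj_mem inferInstance a ha z)) h1)
  refine ⟨Subgroup.centralizer {z}, ?_, ?_⟩
  · rw [eq_bot_iff]
    rintro a ⟨ha, hza⟩
    exact Subgroup.mem_bot.2 (hfix a ha (mul_inv_eq_iff_eq_mul.2 (Subgroup.mem_centralizer_singleton_iff.1 hza).symm))
  · rw [eq_top_iff]
    intro n _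
    obtain ⟨a, ha, hn⟩ := hzc n
    set b := a ^ (m + 1) with hb
    have hbA : b ∈ A := A.pow_mem ha _
    have hb2 : b * b = a := by
      rw [hb, ← pow_add, show m + 1 + (m + 1) = p + 1 by omega, pow_succ, hpow a ha, one_mul]
    have h1 : b * z * b⁻¹ = a * z := by
      have := hinv b⁻¹ (A.inv_mem hbA)
      rw [inv_inv] at this
      calc b * z * b⁻¹ = b * (z * b⁻¹ * z⁻¹) * z := by group
        _ = _ := by rw [this, hb2]
    have h2 : b⁻¹ * n ∈ Subgroup.centralizer {z} := by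
      rw [Subgroup.mem_centralizer_singleton_iff, ← mul_inv_eq_iff_eq_mul]
      calc b⁻¹ * n * z * (b⁻¹ * n)⁻¹ = b⁻¹ * (n * z * n⁻¹) * b := by group
        _ = z := by rw [hn, ← h1]; group
    have := Subgroup.mul_mem_sup hbA h2
    rwa [mul_inv_cancel_left] at this

end Cfsg.Agent.S3075
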