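import Cfsg.Statements.S3076
import Cfsg.Agent.Lib.Local.CentricRadical
-- import your own Cfsg.Agent.* helpers here

set_option autoImplicit false
open Cfsg

namespace Cfsg.Agent.S3076

/-- Let P be a Sylow p-subgroup of the finite group G and H ≤ P a subgroup with N_P(H) a Sylow p-subgroup of N_G(H). Let N be the preimage in N_G(H) of O_p(N_G(H)/C_G(H)). Then H is a Sylow p-subgroup of N if and only if C_P(H) ≤ H and O_{p',p}(N_G(H)) = H·C_G(H). -/
theorem result {G : Type*} [Group G] [Finite G] {p : ℕ} [Fact p.Prime]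
    (P : Sylow p G) (H : Subgroup G) (hHP : H ≤ (P : Subgroup G))
    (hSyl : ¬ p ∣ ((P : Subgroup G) ⊓ Subgroup.normalizer (H : Set G)).relIndex (Subgroup.normalizer (H : Set G)))
    [hC : ((Subgroup.centralizer (H : Set G)).subgroupOf (Subgroup.normalizer (H : Set G))).Normal] :
    (H ≤ ((Cfsg.pCore p (↥(Subgroup.normalizer (H : Set G)) ⧸
              (Subgroup.centralizer (H : Set G)).subgroupOf (Subgroup.normalizer (H : Set G)))).comap
            (QuotientGroup.mk' _)).map (Subgroup.normalizer (H : Set G)).subtype ∧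
      ¬ p ∣ H.relIndex (((Cfsg.pCore p (↥(Subgroup.normalizer (H : Set G)) ⧸
              (Subgroup.centralizer (H : Set G)).subgroupOf (Subgroup.normalizer (H : Set G)))).comap
            (QuotientGroup.mk' _)).map (Subgroup.normalizer (H : Set G)).subtype)) ↔
    ((P : Subgroup G) ⊓ Subgroup.centralizer (H : Set G) ≤ H ∧
      (Cfsg.pPrimePCore p ↥(Subgroup.normalizer (H : Set G))).map (Subgroup.normalizer (H : Set G)).subtype =
        H ⊔ Subgroup.centralizer (H : Set G)) := by
  set L := Subgroup.normalizer (H : Set G)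
  have hHL : H ≤ L := Subgroup.le_normalizer
  have hCL : Subgroup.centralizer (H : Set G) ≤ L := Subgroup.centralizer_le_normalizer _
  have hPp : IsPGroup p ↥((P : Subgroup G).subgroupOf L) :=
    P.2.comap_of_injective L.subtype L.subtype_injective
  let P' : Sylow p ↥L := hPp.toSylow (by
    show ¬ p ∣ (P : Subgroup G).relIndex L
    rwa [← Subgroup.inf_relIndex_right])
  haveI : (H.subgroupOf L).Normal := Subgroup.normal_in_normalizer
  have hHp : IsPGroup p ↥(H.subgroupOf L) :=
    (P.2.to_le hHP : IsPGroup p ↥H).comap_of_injective L.subtype L.subtype_injective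
  have hCeq : (Subgroup.centralizer (H : Set G)).subgroupOf L =
      Subgroup.centralizer ((H.subgroupOf L : Subgroup ↥L) : Set ↥L) := by
    ext x
    constructor
    · intro hx y hy
      exact Subtype.ext (hx _ hy)
    · intro hx h hh
      exact congrArg Subtype.val (hx ⟨h, hHL hh⟩ hh)
  have key := Lib.Local.sylow_in_pCore_preimage_iff (p := p) (H.subgroupOf L) hHp P'
    (Subgroup.comap_mono hHP) _ hCeq
  set K := (Cfsg.pCore p (↥L ⧸ (Subgroup.centralizer (H : Set G)).subgroupOf L)).comap
    (QuotientGroup.mk' _)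
  have e1 : H ≤ K.map L.subtype ↔ H.subgroupOf L ≤ K := by
    conv_lhs => rw [← Subgroup.map_subgroupOf_eq_of_le hHL]
    exact Subgroup.map_le_map_iff_of_injective L.subtype_injective
  have e2 : H.relIndex (K.map L.subtype) = (H.subgroupOf L).relIndex K := by
    conv_lhs => rw [← Subgroup.map_subgroupOf_eq_of_le hHL]
    exact Subgroup.relIndex_map_map_of_injective _ _ L.subtype_injective
  rw [e1, e2]
  refine key.trans (and_congr ?_ ?_)
  · constructor
    · intro h x hx
      exact h (show (⟨x, hCL hx.2⟩ : ↥L) ∈ _ from ⟨hx.1, hx.2⟩)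
    · intro h x hx
      exact h ⟨hx.1, hx.2⟩
  · rw [← (Subgroup.map_injective L.subtype_injective).eq_iff, Subgroup.map_sup,
      Subgroup.map_subgroupOf_eq_of_le hHL, Subgroup.map_subgroupOf_eq_of_le hCL]

end Cfsg.Agent.S3076
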