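import Cfsg.Statements.S3078
import Cfsg.Agent.Lib.Local.GlaubermanZJ
import Cfsg.Agent.Lib.Local.PReduced
-- import your own Cfsg.Agent.* helpers here

set_option autoImplicit false
open Cfsg

namespace Cfsg.Agent.S3078

/-- A replacement Theorem for abelian subgroups of p-groups, p odd. Let G be a finite p-group with p odd, A an abelian subgroup of G, and B a subgroup of nilpotency class at most 2 with [B, B] ≤ A, such that A normalizes B but B does not normalize A. Then there is an abelian subgroup A* of G of the same order as A with A ∩ B strictly contained in A* ∩ B, A* contained in N_G(A) and in the normal closure of A, the exponent of A* dividing the exponent of A, and with the subgroup generated by the elements of order dividing p in A of order at most that of the corresponding subgroup of A* (the rank of A is at most the rank of A*). -/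
theorem result {G : Type*} [Group G] [Finite G] {p : ℕ} [Fact p.Prime] (hp : p ≠ 2) (hG : IsPGroup p G) (A B : Subgroup G) (hA : IsMulCommutative A) (hB2 : ⁅⁅B, B⁆, B⁆ = ⊥) (hBA : ⁅B, B⁆ ≤ A) (hAB : A ≤ Subgroup.normalizer (B : Set G)) (hBnA : ¬ B ≤ Subgroup.normalizer (A : Set G)) : ∃ Astar : Subgroup G, IsMulCommutative Astar ∧ Nat.card Astar = Nat.card A ∧ A ⊓ B < Astar ⊓ B ∧ Astar ≤ Subgroup.normalizer (A : Set G) ∧ Astar ≤ Subgroup.normalClosure (A : Set G) ∧ Monoid.exponent Astar ∣ Monoid.exponent A ∧ Nat.card (Cfsg.omegaOne p A) ≤ Nat.card (Cfsg.omegaOne p Astar) := by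
  classical
  open scoped commutatorElement in
  set K : Subgroup G := A ⊔ B with hK
  have hAK : A ≤ K := le_sup_left
  have hBK : B ≤ K := le_sup_right
  haveI hBn : (B.subgroupOf K).Normal :=
    (Subgroup.normal_subgroupOf_iff_le_normalizer hBK).2 (sup_le hAB Subgroup.le_normalizer)
  set A₀ := A.subgroupOf K with hA₀
  set B₀ := B.subgroupOf K with hB₀
  haveI hA₀c : IsMulCommutative ↥A₀ := ⟨⟨fun x y => Subtype.ext (Subtype.ext
    (congrArg Subtype.val (hA.is_comm.comm ⟨_, Subgroup.mem_subgroupOf.1 x.2⟩ ⟨_, Subgroup.mem_subgroupOf.1 y.2⟩) :))⟩⟩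
  have hBA₀ : ⁅B₀, B₀⁆ ≤ A₀ := by
    rw [Subgroup.commutator_le]
    intro x hx y hy
    exact hBA (Subgroup.commutator_mem_commutator hx hy)
  -- the element `b`
  set U := Subgroup.normalizer (A₀ : Set ↥K) with hU
  have hUtop : U ≠ ⊤ := by
    intro h
    refine hBnA fun y hy => ?_
    have h1 : (⟨y, hBK hy⟩ : ↥K) ∈ U := by rw [h]; exact Subgroup.mem_top _
    rw [Subgroup.mem_normalizer_iff]
    intro z
    constructor
    · intro hz
      exact (Subgroup.mem_normalizer_iff.1 h1 ⟨z, hAK hz⟩).1 hz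
    · intro hz
      have h2 : y⁻¹ * (y * z * y⁻¹) * y ∈ K := K.mul_mem (K.mul_mem (K.inv_mem (hBK hy)) (hAK hz)) (hBK hy)
      have e : y⁻¹ * (y * z * y⁻¹) * y = z := by group
      rw [e] at h2
      exact (Subgroup.mem_normalizer_iff.1 h1 ⟨z, h2⟩).2 hz
  haveI := (hG.to_subgroup K).isNilpotent
  obtain ⟨k, hkN, hkU⟩ := SetLike.exists_of_lt
    (Group.normalizerCondition_of_isNilpotent U (lt_top_iff_ne_top.2 hUtop))
  obtain ⟨a0, ha0, b0, hb0, he⟩ := (Cfsg.Lib.Core.mem_sup_of_le_normalizer hAB).1 k.2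
  set b : ↥K := ⟨b0, hBK hb0⟩ with hb
  have hbe : b = (⟨a0, hAK ha0⟩ : ↥K)⁻¹ * k := Subtype.ext (by simp [hb, ← he])
  have haU : (⟨a0, hAK ha0⟩ : ↥K) ∈ U := Subgroup.le_normalizer (show (⟨a0, hAK ha0⟩ : ↥K) ∈ A₀ from ha0)
  have hbN : b ∈ Subgroup.normalizer (U : Set ↥K) := by
    rw [hbe]; exact mul_mem (inv_mem (Subgroup.le_normalizer haU)) hkN
  have hbU : b ∉ U := fun h => hkU (by
    have e : k = ⟨a0, hAK ha0⟩ * b := by rw [hbe, mul_inv_cancel_left]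
    rw [e]; exact mul_mem haU h)
  have hA₁ : A₀.map (MulAut.conj b).toMonoidHom ≤ U := by
    rintro _ ⟨a, ha, rfl⟩
    exact (Subgroup.mem_normalizer_iff.1 hbN a).1 (Subgroup.le_normalizer ha)
  have hA₁' : A₀ ≤ Subgroup.normalizer ((A₀.map (MulAut.conj b).toMonoidHom : Subgroup ↥K) : Set ↥K) := by
    intro a ha
    have h1 : b⁻¹ * a * b ∈ U := (Subgroup.mem_normalizer_iff''.1 hbN a).1 (Subgroup.le_normalizer ha)
    have h2 := Subgroup.le_normalizer_map (H := A₀) (MulAut.conj b).toMonoidHom ⟨_, h1, rfl⟩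
    simpa [mul_assoc] using h2
  obtain ⟨hab, hcard, -, hlt, hnA, -⟩ := Cfsg.Lib.Local.GlaubermanZJ.repl_spec (A := A₀) (B := B₀) (b := b) hA₀c hBA₀
    (fun x _ h => Cfsg.Lib.Local.GlaubermanZJ.eq_one_of_conj_eq_inv (P := (⊤ : Subgroup ↥K)) hp
      ((hG.to_subgroup K).to_subgroup _) (Subgroup.mem_top b) (Subgroup.mem_top x) h)
    hb0 hA₁ hA₁' hbU
  haveI := hab
  set R := Cfsg.Lib.Local.GlaubermanZJ.repl A₀ b with hR
  set A₁ := A₀.map (MulAut.conj b).toMonoidHom with hA₁def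
  set D := A₀ ⊓ A₁ with hD
  have hDR : D ≤ R := le_sup_left
  have cA : ∀ {s t : ↥K}, s ∈ A₀ → t ∈ A₀ → Commute s t := fun hs ht =>
    congrArg Subtype.val (hA₀c.is_comm.comm ⟨_, hs⟩ ⟨_, ht⟩)
  have cA₁ : ∀ {s t : ↥K}, s ∈ A₁ → t ∈ A₁ → Commute s t := by
    rintro _ _ ⟨s, hs, rfl⟩ ⟨t, ht, rfl⟩
    exact (cA hs ht).map _
  have hmem₁ : ∀ {a : ↥K}, a ∈ A₀ → b * a * b⁻¹ ∈ A₁ := fun ha => ⟨_, ha, rfl⟩
  have hABD : A₀ ⊓ B₀ ≤ D := by
    have hle : (A₀ ⊓ B₀).map (MulAut.conj b).toMonoidHom ≤ A₀ ⊓ B₀ := by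
      rintro _ ⟨y, ⟨hyA, hyB⟩, rfl⟩
      show b * y * b⁻¹ ∈ A₀ ⊓ B₀
      refine ⟨?_, hBn.conj_mem y hyB b⟩
      have : b * y * b⁻¹ = ⁅b, y⁆ * y := by simp [commutatorElement_def]
      rw [this]
      exact A₀.mul_mem (hBA₀ (Subgroup.commutator_mem_commutator hb0 hyB)) hyA
    have he' := Subgroup.eq_of_le_of_card_ge hle (Subgroup.card_map_of_injective (MulAut.conj b).injective).ge
    exact le_inf inf_le_left (he'.ge.trans (Subgroup.map_mono inf_le_left))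
  -- `g a c` is the defect of additivity
  have hg : ∀ a ∈ A₀, ∀ c ∈ A₀, a * (b * c * b⁻¹ * c⁻¹) * a⁻¹ * (b * c * b⁻¹ * c⁻¹)⁻¹ ∈ D ∧
      a * (b * c * b⁻¹ * c⁻¹) * a⁻¹ * (b * c * b⁻¹ * c⁻¹)⁻¹ = a * (b * c * b⁻¹) * a⁻¹ * (b * c * b⁻¹)⁻¹ := by
    intro a ha c hc
    have e : a * (b * c * b⁻¹ * c⁻¹) * a⁻¹ * (b * c * b⁻¹ * c⁻¹)⁻¹ = a * (b * c * b⁻¹) * a⁻¹ * (b * c * b⁻¹)⁻¹ := by
      have h : c⁻¹ * a⁻¹ = a⁻¹ * c⁻¹ := ((cA hc ha).inv_left.inv_right).eq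
      calc _ = a * (b * c * b⁻¹) * (c⁻¹ * a⁻¹) * c * (b * c * b⁻¹)⁻¹ := by group
        _ = _ := by rw [h]; group
    refine ⟨?_, e⟩
    rw [e]
    refine ⟨?_, ?_⟩
    · show a * (b * c * b⁻¹) * a⁻¹ * (b * c * b⁻¹)⁻¹ ∈ A₀
      rw [mul_assoc a, mul_assoc a]
      exact A₀.mul_mem ha ((Subgroup.mem_normalizer_iff.1 (hA₁ (hmem₁ hc)) _).1 (A₀.inv_mem ha))
    · exact A₁.mul_mem ((Subgroup.mem_normalizer_iff.1 (hA₁' ha) _).1 (hmem₁ hc)) (A₁.inv_mem (hmem₁ hc))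
  have hXle : ∀ a ∈ A₀, b * a * b⁻¹ * a⁻¹ ∈ R := fun a ha =>
    Subgroup.mem_sup_right (Subgroup.subset_closure ⟨a, ha, rfl⟩)
  have hxB : ∀ a : ↥K, b * a * b⁻¹ * a⁻¹ ∈ B₀ := fun a => Cfsg.Lib.Local.GlaubermanZJ.repl_gen_mem (B := B₀) (b := b) hb0 a
  have hkerD : ∀ d ∈ D, b * d * b⁻¹ * d⁻¹ ∈ D := by
    intro d hd
    obtain ⟨a, ha, had⟩ := hd.2
    have hda : b * a * b⁻¹ = d := had
    have hx : b * a * b⁻¹ * a⁻¹ ∈ D := by
      refine hABD ⟨?_, hxB a⟩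
      rw [hda]; exact A₀.mul_mem hd.1 (A₀.inv_mem ha)
    have e : b * d * b⁻¹ * d⁻¹ = b * (b * a * b⁻¹ * a⁻¹) * b⁻¹ := by
      calc b * d * b⁻¹ * d⁻¹ = b * d * b⁻¹ * (b * a * b⁻¹)⁻¹ := by rw [hda]
        _ = b * (d * a⁻¹) * b⁻¹ := by group
        _ = _ := by rw [hda]
    refine ⟨?_, A₁.mul_mem (hmem₁ hd.1) (A₁.inv_mem hd.2)⟩
    rw [e]
    have e2 : b * (b * a * b⁻¹ * a⁻¹) * b⁻¹ = ⁅b, b * a * b⁻¹ * a⁻¹⁆ * (b * a * b⁻¹ * a⁻¹) := by
      simp [commutatorElement_def, mul_assoc]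
    rw [e2]
    exact A₀.mul_mem (hBA₀ (Subgroup.commutator_mem_commutator hb0 (hxB a))) hx.1
  have hker' : ∀ a ∈ A₀, b * a * b⁻¹ * a⁻¹ ∈ D → a ∈ D := by
    intro a ha h
    refine ⟨ha, ?_⟩
    have := A₁.mul_mem (A₁.inv_mem h.2) (hmem₁ ha)
    simpa [mul_assoc] using this
  let φ : ↥A₀ →* ↥R ⧸ D.subgroupOf R :=
    MonoidHom.mk' (fun a => QuotientGroup.mk ⟨b * a * b⁻¹ * (a : ↥K)⁻¹, hXle a a.2⟩) fun a c => by
      rw [← QuotientGroup.mk_mul, QuotientGroup.eq, Subgroup.mem_subgroupOf]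
      simp only [Subgroup.coe_mul, InvMemClass.coe_inv]
      have h : b * ((a : ↥K) * c) * b⁻¹ * ((a : ↥K) * c)⁻¹ =
          (b * a * b⁻¹ * (a : ↥K)⁻¹) * ((a : ↥K) * (b * c * b⁻¹ * (c : ↥K)⁻¹) * (a : ↥K)⁻¹) := by group
      have hgm := (hg a a.2 c c.2).1
      have hc2 : Commute ((a : ↥K) * (b * c * b⁻¹ * (c : ↥K)⁻¹) * (a : ↥K)⁻¹ * (b * c * b⁻¹ * (c : ↥K)⁻¹)⁻¹)
          (b * c * b⁻¹ * (c : ↥K)⁻¹) := (cA₁ hgm.2 (hmem₁ c.2)).mul_right ((cA hgm.1 c.2).inv_right)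
      rw [h]
      generalize hx : b * (a : ↥K) * b⁻¹ * (a : ↥K)⁻¹ = x
      generalize hy : b * (c : ↥K) * b⁻¹ * (c : ↥K)⁻¹ = y at hc2 hgm ⊢
      generalize hg' : (a : ↥K) * y * (a : ↥K)⁻¹ = w at hc2 hgm ⊢
      have e : (x * w)⁻¹ * (x * y) = (w * y⁻¹)⁻¹ := by
        calc (x * w)⁻¹ * (x * y) = w⁻¹ * y := by group
          _ = (w * y⁻¹)⁻¹ * ((w * y⁻¹) * y⁻¹ * (w * y⁻¹)⁻¹ * y) := by group
          _ = _ := by rw [(show Commute (w * y⁻¹) y from hc2).inv_right.eq]; group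
      rw [e]
      exact D.inv_mem hgm
  have hsurjle : R ≤ (φ.range.comap (QuotientGroup.mk' (D.subgroupOf R))).map R.subtype := by
    show Cfsg.Lib.Local.GlaubermanZJ.repl A₀ b ≤ _
    refine sup_le (fun d hd => ⟨⟨d, hDR hd⟩, ⟨1, ?_⟩, rfl⟩) ((Subgroup.closure_le _).2 ?_)
    · rw [map_one]; exact ((QuotientGroup.eq_one_iff (N := D.subgroupOf R) _).2 hd).symm
    · rintro _ ⟨a, ha, rfl⟩
      exact ⟨⟨_, hXle a ha⟩, ⟨⟨a, ha⟩, rfl⟩, rfl⟩
  have hcard_eq : Nat.card ↥R = Nat.card ↥A₀ := by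
    refine le_antisymm ?_ hcard
    have htop : φ.range = ⊤ := by
      rw [eq_top_iff]
      rintro y -
      obtain ⟨r, rfl⟩ := QuotientGroup.mk_surjective y
      obtain ⟨r', hr', e⟩ := hsurjle r.2
      rw [← Subtype.ext e]
      exact hr'
    have h1 : Nat.card (↥R ⧸ D.subgroupOf R) = φ.ker.index := by
      rw [Subgroup.index_ker, htop, Subgroup.card_top]
    rw [Subgroup.card_eq_card_quotient_mul_card_subgroup (D.subgroupOf R), h1,
      Nat.card_congr (Subgroup.subgroupOfEquivOfLe hDR).toEquiv, mul_comm, ← φ.ker.card_mul_index]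
    refine Nat.mul_le_mul_right _ ?_
    rw [← Nat.card_congr (Subgroup.subgroupOfEquivOfLe (inf_le_left : D ≤ A₀)).toEquiv]
    refine Subgroup.card_le_of_le fun d hd => ?_
    rw [MonoidHom.mem_ker]
    exact (QuotientGroup.eq_one_iff _).2 (hkerD _ hd)
  -- elements of order `p`
  obtain ⟨n, hn⟩ := IsPGroup.iff_card.mp (hG.to_subgroup A)
  set Ω := Cfsg.omegaOne p A₀ with hΩ
  set Ω' := Cfsg.omegaOne p R with hΩ'
  have hΩel := Cfsg.Lib.Local.isElementaryAbelian_omegaOne (p := p) hA₀c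
  have hΩel' := Cfsg.Lib.Local.isElementaryAbelian_omegaOne (p := p) hab
  have hΩA : Ω ≤ A₀ := Cfsg.Lib.Local.omegaOne_le
  have hxp : ∀ a ∈ Ω, (b * a * b⁻¹ * a⁻¹) ^ p = 1 := by
    intro a ha
    haveI : IsMulCommutative ↥Ω := hΩel.1
    have hA₁Ω : (Ω.map (MulAut.conj b).toMonoidHom) ≤ Subgroup.normalizer (Ω : Set ↥K) := by
      rintro _ ⟨u, hu, rfl⟩
      have hu' : (MulAut.conj b).toMonoidHom u ∈ U := hA₁ ⟨u, hΩA hu, rfl⟩
      refine Subgroup.mem_normalizer_fintype fun w hw => ?_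
      exact Subgroup.subset_closure ⟨(Subgroup.mem_normalizer_iff.1 hu' w).1 (hΩA hw), by
        rw [conj_pow, hΩel.2 w hw, mul_one, mul_inv_cancel]⟩
    have hA₁Ω' : Ω ≤ Subgroup.normalizer ((Ω.map (MulAut.conj b).toMonoidHom : Subgroup ↥K) : Set ↥K) := by
      intro u hu
      refine Subgroup.mem_normalizer_fintype fun w hw => ?_
      obtain ⟨v, hv, rfl⟩ := hw
      obtain ⟨v', hv', e⟩ := (Subgroup.mem_normalizer_iff.1 (hA₁' (hΩA hu)) _).1 (⟨v, hΩA hv, rfl⟩ : (MulAut.conj b).toMonoidHom v ∈ A₁)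
      refine ⟨v', Subgroup.subset_closure ⟨hv', ?_⟩, e⟩
      apply (MulAut.conj b).injective
      rw [map_pow, map_one, show (MulAut.conj b) v' = u * (MulAut.conj b).toMonoidHom v * u⁻¹ from e,
        conj_pow, ← map_pow, hΩel.2 v hv, map_one, mul_one, mul_inv_cancel]
    refine Cfsg.Lib.Local.GlaubermanZJ.repl_pow_eq_one (A := Ω) hΩel.1 ?_ hA₁Ω hA₁Ω'
      ((Fact.out : p.Prime).odd_of_ne_two hp) hΩel.2 _ (Subgroup.mem_sup_right (Subgroup.subset_closure ⟨a, ha, rfl⟩))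
    have hle : Cfsg.Lib.Local.GlaubermanZJ.repl Ω b ≤ R := by
      refine sup_le ((inf_le_inf hΩA (Subgroup.map_mono hΩA)).trans hDR) ((Subgroup.closure_le _).2 ?_)
      rintro _ ⟨c, hc, rfl⟩
      exact hXle c (hΩA hc)
    exact ⟨⟨fun x y => Subtype.ext (congrArg Subtype.val (hab.is_comm.comm ⟨_, hle x.2⟩ ⟨_, hle y.2⟩) :)⟩⟩
  have hΩcard : Nat.card ↥Ω ≤ Nat.card ↥Ω' := by
    set DΩ := Ω ⊓ D with hDΩ
    have hDΩ' : DΩ ≤ Ω' := fun d hd => Subgroup.subset_closure ⟨hDR hd.2, hΩel.2 d hd.1⟩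
    haveI : IsMulCommutative ↥Ω' := hΩel'.1
    set DR := DΩ.subgroupOf Ω' with hDR'
    let ψ : ↥Ω →* ↥Ω' ⧸ DR :=
      MonoidHom.mk' (fun a => QuotientGroup.mk ⟨b * a * b⁻¹ * (a : ↥K)⁻¹,
        Subgroup.subset_closure ⟨hXle a (hΩA a.2), hxp a a.2⟩⟩) fun a c => by
        have hm := φ.map_mul ⟨a, hΩA a.2⟩ ⟨c, hΩA c.2⟩
        simp only [φ, MonoidHom.mk'_apply, ← QuotientGroup.mk_mul, QuotientGroup.eq, Subgroup.mem_subgroupOf,
          Subgroup.coe_mul, InvMemClass.coe_inv] at hm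
        rw [← QuotientGroup.mk_mul, QuotientGroup.eq, hDR', Subgroup.mem_subgroupOf]
        simp only [Subgroup.coe_mul, InvMemClass.coe_inv]
        refine ⟨Subgroup.subset_closure ⟨hm.1, ?_⟩, hm⟩
        have hc : ∀ u ∈ R, ∀ v ∈ R, Commute u v := fun u hu v hv =>
          congrArg Subtype.val (hab.is_comm.comm ⟨u, hu⟩ ⟨v, hv⟩)
        have hac : ((a : ↥K) * c) ∈ Ω := Ω.mul_mem a.2 c.2
        rw [(hc _ (R.inv_mem (hXle _ (hΩA hac))) _ (R.mul_mem (hXle a (hΩA a.2)) (hXle c (hΩA c.2)))).mul_pow,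
          inv_pow, hxp _ hac, (hc _ (hXle a (hΩA a.2)) _ (hXle c (hΩA c.2))).mul_pow, hxp _ a.2, hxp _ c.2]
        simp
    have hψ : ψ.ker ≤ DΩ.subgroupOf Ω := by
      intro a ha
      rw [MonoidHom.mem_ker] at ha
      have h := (QuotientGroup.eq_one_iff _).1 ha
      exact ⟨a.2, hker' a (hΩA a.2) h.2⟩
    rw [← ψ.ker.card_mul_index, Subgroup.index_ker, Subgroup.card_eq_card_quotient_mul_card_subgroup DR,
      Nat.card_congr (Subgroup.subgroupOfEquivOfLe hDΩ').toEquiv, mul_comm _ (Nat.card ↥DΩ)]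
    refine Nat.mul_le_mul ?_ (Nat.card_le_card_of_injective _ Subtype.val_injective)
    rw [← Nat.card_congr (Subgroup.subgroupOfEquivOfLe (inf_le_left : DΩ ≤ Ω)).toEquiv]
    exact Subgroup.card_le_of_le hψ
  -- back to `G`
  have hinj : Function.Injective K.subtype := K.subtype_injective
  have hmapA : A₀.map K.subtype = A := Subgroup.map_subgroupOf_eq_of_le hAK
  have homega : ∀ Y : Subgroup ↥K, Nat.card ↥(Cfsg.omegaOne p (Y.map K.subtype)) = Nat.card ↥(Cfsg.omegaOne p Y) := by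
    intro Y
    have e : (Cfsg.omegaOne p Y).map K.subtype = Cfsg.omegaOne p (Y.map K.subtype) := by
      rw [Cfsg.omegaOne, Cfsg.omegaOne, MonoidHom.map_closure]
      congr 1
      ext x
      constructor
      · rintro ⟨y, ⟨hy, hyp⟩, rfl⟩
        exact ⟨⟨y, hy, rfl⟩, by rw [← map_pow, hyp, map_one]⟩
      · rintro ⟨⟨y, hy, rfl⟩, hyp⟩
        exact ⟨y, ⟨hy, hinj (by rw [map_pow, hyp, map_one])⟩, rfl⟩
    rw [← e, Subgroup.card_map_of_injective hinj]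
  refine ⟨R.map K.subtype, ⟨⟨?_⟩⟩, ?_, ?_, ?_, ?_, ?_, ?_⟩
  · rintro ⟨_, x, hx, rfl⟩ ⟨_, y, hy, rfl⟩
    exact Subtype.ext (congrArg (fun t : R => ((t : ↥K) : G)) (hab.is_comm.comm ⟨x, hx⟩ ⟨y, hy⟩))
  · rw [Subgroup.card_map_of_injective hinj, hcard_eq, ← hmapA, Subgroup.card_map_of_injective hinj]
  · have h1 : (A₀ ⊓ B₀).map K.subtype = A ⊓ B := by
      rw [Subgroup.map_inf _ _ _ hinj, hmapA, Subgroup.map_subgroupOf_eq_of_le hBK]
    have h2 : (R ⊓ B₀).map K.subtype = R.map K.subtype ⊓ B := by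
      rw [Subgroup.map_inf _ _ _ hinj, Subgroup.map_subgroupOf_eq_of_le hBK]
    rw [← h1, ← h2]
    exact lt_of_le_of_ne (Subgroup.map_mono hlt.le) fun e => hlt.ne (Subgroup.map_injective hinj e)
  · rintro _ ⟨r, hr, rfl⟩
    refine Subgroup.mem_normalizer_fintype fun z hz => ?_
    exact (Subgroup.mem_normalizer_iff.1 (hnA hr) ⟨z, hAK hz⟩).1 hz
  · have hAn : ∀ a ∈ A₀, (a : G) ∈ Subgroup.normalClosure (A : Set G) := fun a ha => Subgroup.le_normalClosure ha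
    rw [hR, Cfsg.Lib.Local.GlaubermanZJ.repl, Subgroup.map_sup]
    refine sup_le ((Subgroup.map_mono inf_le_left).trans (hmapA.trans_le Subgroup.le_normalClosure)) ?_
    rw [MonoidHom.map_closure, Subgroup.closure_le]
    rintro _ ⟨_, ⟨a, ha, rfl⟩, rfl⟩
    simp only [Subgroup.coe_subtype, Subgroup.coe_mul, InvMemClass.coe_inv]
    exact mul_mem (Subgroup.normalClosure_normal.conj_mem _ (hAn a ha) _) (inv_mem (hAn a ha))
  · rw [Monoid.exponent_dvd_iff_forall_pow_eq_one]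
    rintro ⟨_, r, hr, rfl⟩
    have hodd : Odd (Monoid.exponent ↥A) := by
      rcases Nat.even_or_odd (Monoid.exponent ↥A) with h | h
      · exfalso
        have h2 : 2 ∣ p ^ n := (even_iff_two_dvd.1 h).trans (hn ▸ Group.exponent_dvd_nat_card)
        exact hp ((Nat.prime_dvd_prime_iff_eq Nat.prime_two Fact.out).1 (Nat.prime_two.dvd_of_dvd_pow h2)).symm
      · exact h
    refine Subtype.ext ?_
    have h := Cfsg.Lib.Local.GlaubermanZJ.repl_pow_eq_one hA₀c hab hA₁ hA₁' hodd (fun a ha =>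
      Subtype.ext (by
        have := congrArg Subtype.val (Monoid.pow_exponent_eq_one (⟨(a : G), ha⟩ : ↥A))
        simpa using this)) r hr
    simpa using congrArg Subtype.val h
  · rw [homega R, ← hmapA, homega A₀]
    exact hΩcard

end Cfsg.Agent.S3078
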