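import Cfsg.Statements.S3084
import Cfsg.Agent.Lib.Extra.PauliExtension

set_option autoImplicit false
open Cfsg

namespace Cfsg.Agent.S3084

/-- Let K be a group acting faithfully and linearly on a finite-dimensional vector space U of dimension 2n ≥ 2 over the field with two elements, preserving a quadratic form q whose polar bilinear form is non-degenerate and which vanishes on some n-dimensional subspace (a non-singular form of plus type). Then there is a finite group R with a normal extraspecial 2-subgroup Q of order 2^(2n+1), an isomorphism of R/Q with K, and a surjective homomorphism χ from Q onto (the additive group of) U with kernel the centre of Q, such that χ carries conjugation by any r in R to the action of the image of r in K, and an element a of Q squares to the identity exactly when q vanishes at χ(a). -/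
theorem result {K : Type*} [Group K] {U : Type*} [AddCommGroup U] [Module (ZMod 2) U] [Module.Finite (ZMod 2) U] (n : ℕ) (hn1 : 1 ≤ n) (hn : Module.finrank (ZMod 2) U = 2 * n) (ρ : Representation (ZMod 2) K U) (hρ : Function.Injective ρ) (q : QuadraticForm (ZMod 2) U) (hq : ∀ (k : K) (u : U), q (ρ k u) = q u) (hnd : (QuadraticMap.polarBilin q).Nondegenerate) (hplus : ∃ W : Submodule (ZMod 2) U, Module.finrank (ZMod 2) ↥W = n ∧ ∀ w ∈ W, q w = 0) : ∃ (R : Type) (_ : Group R) (_ : Finite R) (Q : Subgroup R) (hN : Q.Normal) (e : R ⧸ Q ≃* K) (χ : ↥Q →* Multiplicative U), Cfsg.IsExtraspecial 2 ↥Q ∧ Nat.card ↥Q = 2 ^ (2 * n + 1) ∧ Function.Surjective χ ∧ χ.ker = Subgroup.center ↥Q ∧ (∀ (r : R) (a : ↥Q), χ ⟨r * a * r⁻¹, hN.conj_mem (a : R) a.2 r⟩ = Multiplicative.ofAdd (ρ (e (r : R ⧸ Q)) (Multiplicative.toAdd (χ a)))) ∧ ∀ a : ↥Q, a * a = 1 ↔ q (Multiplicative.toAdd (χ a)) = 0 := by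
  classical
  obtain ⟨c, hc⟩ := Cfsg.Lib.Extra.Pauli.exists_coords n hn q hnd hplus
  have hρ1 : ∀ (k : K) u, ρ k⁻¹ (ρ k u) = u := fun k u => by
    rw [← Module.End.mul_apply, ← map_mul, inv_mul_cancel, map_one]; rfl
  let L : K → (Cfsg.Lib.Extra.Pauli.Sp n ≃ₗ[ZMod 2] Cfsg.Lib.Extra.Pauli.Sp n) := fun k =>
    LinearEquiv.ofLinear (c.symm.toLinearMap.comp ((ρ k).comp c.toLinearMap))
      (c.symm.toLinearMap.comp ((ρ k⁻¹).comp c.toLinearMap))
      (LinearMap.ext fun v => by
        have := hρ1 k⁻¹ (c v)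
        simp only [inv_inv] at this
        simp [this])
      (LinearMap.ext fun v => by simp [hρ1])
  have hL : ∀ k v, c (L k v) = ρ k (c v) := fun k v => by simp [L]
  let T : K →* Cfsg.Lib.Extra.qAut (Cfsg.Lib.Extra.Pauli.β n) :=
    MonoidHom.mk' (fun k => ⟨L k, fun v => by rw [← hc, ← hc, hL, hq]⟩) fun k k' => by
      refine Subtype.ext (LinearEquiv.ext fun v => c.injective ?_)
      show c (L (k * k') v) = c (L k (L k' v))
      rw [hL, hL, hL, map_mul]
      rfl
  have hT : Function.Injective T := fun k k' h => hρ (LinearMap.ext fun u => by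
    obtain ⟨v, rfl⟩ := c.surjective u
    rw [← hL, ← hL]
    exact congrArg (fun t => c ((t : Cfsg.Lib.Extra.qAut (Cfsg.Lib.Extra.Pauli.β n)).1 v)) h)
  obtain ⟨R, hR1, hR2, Q, hN, e, ι, hES, hconj⟩ := Cfsg.Lib.Extra.Pauli.main T hn1 hT
  letI := hR1
  let χ : ↥Q →* Multiplicative U :=
    (AddMonoidHom.toMultiplicative c.toLinearMap.toAddMonoidHom).comp
      (Cfsg.Lib.Extra.Cocycle.proj.comp ι.symm.toMonoidHom)
  have hχ : ∀ a, Multiplicative.toAdd (χ a) = c (ι.symm a).v := fun _ => rfl
  refine ⟨R, hR1, hR2, Q, hN, e, χ, hES, ?_, ?_, ?_, ?_, ?_⟩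
  · rw [← Nat.card_congr ι.toEquiv, Cfsg.Lib.Extra.card_cocycle]
    simp [Nat.card_prod, pow_succ, two_mul, pow_add]
    ring
  · intro u
    obtain ⟨v, hv⟩ := c.surjective (Multiplicative.toAdd u)
    refine ⟨ι ⟨0, v⟩, Multiplicative.toAdd.injective ?_⟩
    rw [hχ, ι.symm_apply_apply]
    exact hv
  · ext a
    rw [MonoidHom.mem_ker, Subgroup.mem_center_iff]
    constructor
    · intro h b
      have h0 : (ι.symm a).v = 0 := c.injective ((hχ a).symm.trans (by rw [h]; simp))
      apply ι.symm.injective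
      rw [map_mul, map_mul]
      exact ((Cfsg.Lib.Extra.commute_iff _ _).2 (by rw [h0, map_zero, map_zero, LinearMap.zero_apply])).eq
    · intro h
      have h0 : (ι.symm a).v = 0 := Cfsg.Lib.Extra.Pauli.nondeg _ fun w => by
        refine (Cfsg.Lib.Extra.commute_iff (ι.symm a) ⟨0, w⟩).1 ?_
        have := congrArg ι.symm (h (ι ⟨0, w⟩))
        rw [map_mul, map_mul, ι.symm_apply_apply] at this
        exact this.symm
      exact Multiplicative.toAdd.injective (by rw [hχ, h0, map_zero]; rfl)
  · intro r a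
    apply Multiplicative.toAdd.injective
    rw [toAdd_ofAdd, hχ, hχ, hconj, ← hL]
    rfl
  · intro a
    rw [← ι.symm.injective.eq_iff, map_mul, map_one, ← pow_two, Cfsg.Lib.Extra.sq_eq, hχ, hc]
    constructor
    · exact fun h => congrArg Cfsg.Lib.Extra.Cocycle.s h
    · exact fun h => Cfsg.Lib.Extra.Cocycle.ext' h rfl

end Cfsg.Agent.S3084
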