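import Cfsg.Statements.S3087
-- import your own Cfsg.Agent.* helpers here

set_option autoImplicit false
open Cfsg

namespace Cfsg.Agent.S3087

/-- Let p be a prime, G a finite group acting linearly on a finite vector space V over the field with p elements, W a G-invariant subspace, and A a subgroup of G with |A|·|C_V(A)| ≥ |B|·|C_V(B)| for every subgroup B of A. Then |A|·|C_W(A)| ≥ |B|·|C_W(B)| for every subgroup B of A that contains C_A(W); that is, the image of A in the group induced on W satisfies the same maximality condition. -/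
theorem result {G V : Type*} [Group G] [Finite G] [AddCommGroup V] [Finite V] (p : ℕ) [Fact p.Prime] [Module (ZMod p) V]
    (ρ : Representation (ZMod p) G V) (W : Submodule (ZMod p) V) (hW : ∀ g : G, ∀ w ∈ W, ρ g w ∈ W)
    (A : Subgroup G)
    (hP : ∀ B : Subgroup G, B ≤ A →
      Nat.card ↥B * Nat.card {v : V // ∀ b ∈ B, ρ b v = v} ≤ Nat.card ↥A * Nat.card {v : V // ∀ a ∈ A, ρ a v = v})
    (B : Subgroup G) (hBA : B ≤ A) (hCB : ∀ a ∈ A, (∀ w ∈ W, ρ a w = w) → a ∈ B) :
    Nat.card ↥B * Nat.card {w : W // ∀ b ∈ B, ρ b w = w} ≤ Nat.card ↥A * Nat.card {w : W // ∀ a ∈ A, ρ a w = w} := by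
  classical
  let fx : Subgroup G → AddSubgroup V := fun B =>
    { carrier := {v | ∀ b ∈ B, ρ b v = v}
      add_mem' := fun {x y} hx hy b hb => by rw [map_add, hx b hb, hy b hb]
      zero_mem' := fun b _ => map_zero _
      neg_mem' := fun {x} hx b hb => by rw [map_neg, hx b hb] }
  set Wg := W.toAddSubgroup
  have hcV : ∀ B : Subgroup G, Nat.card {v : V // ∀ b ∈ B, ρ b v = v} = Nat.card ↥(fx B) :=
    fun B => rfl
  have hcW : ∀ B : Subgroup G, Nat.card {w : W // ∀ b ∈ B, ρ b w = w} = Nat.card ↥(fx B ⊓ Wg) :=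
    fun B => Nat.card_congr
      { toFun := fun w => ⟨(w.1 : V), w.2, w.1.2⟩
        invFun := fun v => ⟨⟨(v : V), v.2.2⟩, v.2.1⟩
        left_inv := fun w => rfl
        right_inv := fun v => rfl }
  rw [hcW, hcW]
  have h := hP B hBA
  rw [hcV, hcV] at h
  have hAB : fx A ≤ fx B := fun v hv b hb => hv b (hBA hb)
  have h1 := (((fx A ⊓ Wg).addSubgroupOf (fx A))).card_mul_index
  have h2 := (((fx B ⊓ Wg).addSubgroupOf (fx B))).card_mul_index
  rw [Nat.card_congr (AddSubgroup.addSubgroupOfEquivOfLe inf_le_left).toEquiv] at h1 h2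
  have h3 : (fx A ⊓ Wg).relIndex (fx A) ≤ (fx B ⊓ Wg).relIndex (fx B) := by
    rw [AddSubgroup.inf_relIndex_left, AddSubgroup.inf_relIndex_left]
    exact AddSubgroup.relIndex_le_of_le_right hAB (by
      rw [ne_eq, AddSubgroup.relIndex]
      exact AddSubgroup.index_ne_zero_of_finite)
  set a := Nat.card ↥(fx A ⊓ Wg)
  set b := Nat.card ↥(fx B ⊓ Wg)
  change a * (fx A ⊓ Wg).relIndex (fx A) = Nat.card ↥(fx A) at h1
  change b * (fx B ⊓ Wg).relIndex (fx B) = Nat.card ↥(fx B) at h2
  rw [← h1, ← h2] at h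
  set i := (fx A ⊓ Wg).relIndex (fx A)
  set j := (fx B ⊓ Wg).relIndex (fx B)
  have hi : 0 < i := Nat.pos_of_ne_zero (fun h0 => by
    rw [h0, mul_zero] at h1; exact absurd h1.symm Nat.card_pos.ne')
  refine le_of_mul_le_mul_right (a := i) ?_ hi
  calc Nat.card ↥B * b * i ≤ Nat.card ↥B * b * j := Nat.mul_le_mul_left _ h3
    _ = Nat.card ↥B * (b * j) := by ring
    _ ≤ Nat.card ↥A * (a * i) := h
    _ = Nat.card ↥A * a * i := by ring

end Cfsg.Agent.S3087
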