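import Cfsg.Statements.S3104
import Cfsg.Agent.Lib.Small.SecRankFour.Main

set_option autoImplicit false
open Cfsg

namespace Cfsg.Agent.S3104

/-- Let X be a finite nonsolvable 2-constrained group with no nontrivial normal subgroup of odd order such that O₂(X) has sectional 2-rank at most 4, and write Q for X/O₂(X). Then Q is isomorphic to the projective special linear group of dimension 3 over the field with 2 elements, to an alternating group of degree n with 5 ≤ n ≤ 8, to a symmetric group of degree n with 5 ≤ n ≤ 7, or else O₃(Q) has order 3 and Q/O₃(Q) is isomorphic to the alternating or the symmetric group of degree 5 (so Q is the direct product of a group of order 3 with the alternating group of degree 5, or an extension of that direct product by a group of order 2). If moreover X itself has sectional 2-rank at most 4, then Q is not isomorphic to the symmetric group of degree 6 or 7 nor to the alternating group of degree 8. -/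
theorem result {X : Type*} [Group X] [Finite X] (hns : ¬ Group.IsSolvable X) (hc : Cfsg.IsPConstrained 2 X) (hO : Cfsg.oddCore X = ⊥)
    (h4 : Cfsg.SectionalPRankLE 2 4 ↥(Cfsg.pCore 2 X)) :
    ((∃ (F : Type) (_ : Field F) (_ : Fintype F), Fintype.card F = 2 ∧
          Nonempty (X ⧸ Cfsg.pCore 2 X ≃* Matrix.ProjectiveSpecialLinearGroup (Fin 3) F)) ∨
        (∃ n : ℕ, 5 ≤ n ∧ n ≤ 8 ∧ Nonempty (X ⧸ Cfsg.pCore 2 X ≃* ↥(alternatingGroup (Fin n)))) ∨
        (∃ n : ℕ, 5 ≤ n ∧ n ≤ 7 ∧ Nonempty (X ⧸ Cfsg.pCore 2 X ≃* Equiv.Perm (Fin n))) ∨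
        (Nat.card ↥(Cfsg.pCore 3 (X ⧸ Cfsg.pCore 2 X)) = 3 ∧
          (Nonempty ((X ⧸ Cfsg.pCore 2 X) ⧸ Cfsg.pCore 3 (X ⧸ Cfsg.pCore 2 X) ≃* ↥(alternatingGroup (Fin 5))) ∨
            Nonempty ((X ⧸ Cfsg.pCore 2 X) ⧸ Cfsg.pCore 3 (X ⧸ Cfsg.pCore 2 X) ≃* Equiv.Perm (Fin 5))))) ∧
      (Cfsg.SectionalPRankLE 2 4 X →
        ¬ (Nonempty (X ⧸ Cfsg.pCore 2 X ≃* Equiv.Perm (Fin 6)) ∨ Nonempty (X ⧸ Cfsg.pCore 2 X ≃* Equiv.Perm (Fin 7)) ∨
            Nonempty (X ⧸ Cfsg.pCore 2 X ≃* ↥(alternatingGroup (Fin 8))))) := by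
  haveI : Fact (Nat.Prime 2) := ⟨Nat.prime_two⟩
  obtain ⟨f, hf⟩ := Cfsg.Agent.S3103.result hc hO h4
  refine ⟨Cfsg.Lib.Small.SecRankFour.quotient_types
    (Cfsg.Lib.Small.SecRankFour.quotient_not_solvable hns) Cfsg.Lib.Core.pCore_quotient_pCore_eq_bot hf,
    fun h4X hor => ?_⟩
  have key := Cfsg.Lib.Small.SecRankFour.no_six hc hO h4X
  rcases hor with h | h | h
  · obtain ⟨e⟩ := h
    exact key e.symm.toMonoidHom e.symm.injective
  · obtain ⟨e⟩ := h
    refine key (e.symm.toMonoidHom.comp (finSumFinEquiv.permCongrHom.toMonoidHom.comp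
      ((Equiv.Perm.sumCongrHom (Fin 6) (Fin 1)).comp (MonoidHom.inl _ _)))) ?_
    exact e.symm.injective.comp (finSumFinEquiv.permCongrHom.injective.comp
      (Equiv.Perm.sumCongrHom_injective.comp fun a b hab => congrArg Prod.fst hab))
  · obtain ⟨e⟩ := h
    obtain ⟨k, hk⟩ := Cfsg.Lib.Small.SecRankFour.exists_six
    exact key (e.symm.toMonoidHom.comp k) (e.symm.injective.comp hk)

end Cfsg.Agent.S3104
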