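import Cfsg.Statements.S3113
import Cfsg.Agent.Lib.TwoFusion.DihedralProduct.Main
import Cfsg.Agent.Lib.Goldschmidt.ProductSplit
import Cfsg.Agent.Lib.Goldschmidt.Product

set_option autoImplicit false
open Cfsg

namespace Cfsg.Agent.S3113

/-- Let G be a finite group with no nontrivial normal subgroup of odd order, no proper normal subgroup of odd index and no normal subgroup of index 2, whose Sylow 2-subgroup S is non-abelian and is the internal direct product of two dihedral subgroups (each of order at least 4). Then G is the internal direct product of two normal subgroups G₁ and G₂, and for a suitable such factorization of S into dihedral subgroups S₁ × S₂ the factor Sᵢ is a Sylow 2-subgroup of Gᵢ for i = 1, 2. -/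
theorem result {G : Type*} [Group G] [Finite G] (hO : Cfsg.oddCore G = ⊥) (hidx : ∀ N : Subgroup G, N.Normal → Odd N.index → N = ⊤)
    (h2 : ∀ N : Subgroup G, N.Normal → N.index ≠ 2)
    (S : Sylow 2 G) (hS : ¬ IsMulCommutative ↥(S : Subgroup G))
    (D₁ D₂ : Subgroup G) (hD : Cfsg.IsInternalDirectProduct D₁ D₂ (S : Subgroup G))
    (hD₁ : ∃ m : ℕ, 2 ≤ m ∧ Nonempty (↥D₁ ≃* DihedralGroup m)) (hD₂ : ∃ m : ℕ, 2 ≤ m ∧ Nonempty (↥D₂ ≃* DihedralGroup m)) :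
    ∃ G₁ G₂ : Subgroup G, G₁.Normal ∧ G₂.Normal ∧ Cfsg.IsInternalDirectProduct G₁ G₂ ⊤ ∧
      ∃ S₁ S₂ : Subgroup G, Cfsg.IsInternalDirectProduct S₁ S₂ (S : Subgroup G) ∧
        (∃ m : ℕ, 2 ≤ m ∧ Nonempty (↥S₁ ≃* DihedralGroup m)) ∧ (∃ m : ℕ, 2 ≤ m ∧ Nonempty (↥S₂ ≃* DihedralGroup m)) ∧
        S₁ ≤ G₁ ∧ S₂ ≤ G₂ ∧ ¬ (2 ∣ (S₁.subgroupOf G₁).index) ∧ ¬ (2 ∣ (S₂.subgroupOf G₂).index) := by
  classical
  obtain ⟨m₁, hm₁, ⟨e₁⟩⟩ := hD₁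
  obtain ⟨m₂, hm₂, ⟨e₂⟩⟩ := hD₂
  obtain ⟨c₁, a₁, z₁, d₁⟩ := Cfsg.Lib.TwoFusion.DihProd.exists_dih hm₁ (S.2.to_le hD.1) e₁
  obtain ⟨c₂, a₂, z₂, d₂⟩ := Cfsg.Lib.TwoFusion.DihProd.exists_dih hm₂ (S.2.to_le hD.2.1) e₂
  have main : ∀ {A B : Subgroup G} {c a z c' a' z' : G} {n n' : ℕ},
      Cfsg.Lib.TwoFusion.DihProd.Frame S A B c a z c' a' z' n n' →
      (∃ m : ℕ, 2 ≤ m ∧ Nonempty (↥A ≃* DihedralGroup m)) →
      (∃ m : ℕ, 2 ≤ m ∧ Nonempty (↥B ≃* DihedralGroup m)) →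
      ∃ G₁ G₂ : Subgroup G, G₁.Normal ∧ G₂.Normal ∧ Cfsg.IsInternalDirectProduct G₁ G₂ ⊤ ∧
      ∃ S₁ S₂ : Subgroup G, Cfsg.IsInternalDirectProduct S₁ S₂ (S : Subgroup G) ∧
        (∃ m : ℕ, 2 ≤ m ∧ Nonempty (↥S₁ ≃* DihedralGroup m)) ∧ (∃ m : ℕ, 2 ≤ m ∧ Nonempty (↥S₂ ≃* DihedralGroup m)) ∧
        S₁ ≤ G₁ ∧ S₂ ≤ G₂ ∧ ¬ (2 ∣ (S₁.subgroupOf G₁).index) ∧ ¬ (2 ∣ (S₂.subgroupOf G₂).index) := by
    intro A B c a z c' a' z' n n' F ⟨mA, hmA, ⟨eA⟩⟩ ⟨mB, hmB, ⟨eB⟩⟩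
    obtain ⟨S₁, S₂, hprod, ⟨i₁⟩, ⟨i₂⟩, hcl₁, hcl₂⟩ := F.exists_factors h2
    obtain ⟨hprodG, ho₁, ho₂⟩ := Cfsg.Lib.Goldschmidt.Product.group_split_of_sylow_product
      (Cfsg.Lib.Goldschmidt.Product.productHolds G) hO hidx S hprod hcl₁ hcl₂
    exact ⟨_, _, inferInstance, inferInstance, hprodG, S₁, S₂, hprod,
      ⟨mA, hmA, ⟨i₁.trans eA⟩⟩, ⟨mB, hmB, ⟨i₂.trans eB⟩⟩, Subgroup.le_normalClosure,
      Subgroup.le_normalClosure, fun h => Nat.not_even_iff_odd.2 ho₁ (even_iff_two_dvd.2 h),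
      fun h => Nat.not_even_iff_odd.2 ho₂ (even_iff_two_dvd.2 h)⟩
  by_cases h4 : 4 ≤ m₁
  · exact main ⟨hD, d₁, d₂, h4⟩ ⟨m₁, hm₁, ⟨e₁⟩⟩ ⟨m₂, hm₂, ⟨e₂⟩⟩
  by_cases h4' : 4 ≤ m₂
  · exact main (A := D₂) (B := D₁) ⟨⟨hD.2.1, hD.1, fun a ha b hb => (hD.2.2.1 b hb a ha).symm,
      inf_comm D₁ D₂ ▸ hD.2.2.2.1, sup_comm D₁ D₂ ▸ hD.2.2.2.2⟩, d₂, d₁, h4'⟩
      ⟨m₂, hm₂, ⟨e₂⟩⟩ ⟨m₁, hm₁, ⟨e₁⟩⟩
  -- both factors four groups
  exfalso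
  have two : ∀ {m : ℕ}, 2 ≤ m → (∃ k, m = 2 ^ k) → ¬ 4 ≤ m → m = 2 := by
    rintro m hm ⟨k, rfl⟩ h
    rcases k with _ | _ | k
    · simp at hm
    · rfl
    · exact absurd (Nat.pow_le_pow_right two_pos (show 2 ≤ k + 1 + 1 by omega)) h
  refine hS ⟨⟨fun s t => Subtype.ext ?_⟩⟩
  show (s : G) * t = t * s
  have hle : (S : Subgroup G) ≤ Subgroup.centralizer ((S : Subgroup G) : Set G) := by
    have hgen : ∀ x, x ∈ D₁ ∨ x ∈ D₂ → (S : Subgroup G) ≤ Subgroup.centralizer {x} := by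
      intro x hx
      rw [← hD.2.2.2.2]
      refine sup_le (fun u hu => ?_) (fun u hu => ?_) <;>
        refine Subgroup.mem_centralizer_singleton_iff.2 ?_ <;> rcases hx with hx | hx
      · exact (d₁.commute_of_two (two hm₁ d₁.pow h4) hu hx).eq
      · exact hD.2.2.1 u hu x hx
      · exact (hD.2.2.1 x hx u hu).symm
      · exact (d₂.commute_of_two (two hm₂ d₂.pow h4') hu hx).eq
    conv_lhs => rw [← hD.2.2.2.2]
    refine sup_le (fun u hu => ?_) (fun u hu => ?_) <;>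
      refine Subgroup.mem_centralizer_iff.2 fun v hv => ?_
    · exact Subgroup.mem_centralizer_singleton_iff.1 (hgen u (Or.inl hu) hv)
    · exact Subgroup.mem_centralizer_singleton_iff.1 (hgen u (Or.inr hu) hv)
  exact (Subgroup.mem_centralizer_iff.1 (hle s.2) t t.2).symm

end Cfsg.Agent.S3113
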