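import Cfsg.Statements.S3117
import Mathlib
import Cfsg.Agent.Lib.Dickson.Solvable
import Cfsg.Agent.Lib.Perm.Zas25.AutSL
import Cfsg.Agent.S0144
-- import your own Cfsg.Agent.* helpers here

set_option autoImplicit false
open Cfsg

namespace Cfsg.Agent.S3117

open scoped Pointwise

/-- a perfect group has only the trivial map into a solvable group -/
theorem hom_trivial {L S : Type*} [Group L] [Group S] (hperf : commutator L = ⊤)
    [Group.IsSolvable S] (f : L →* S) (x : L) : f x = 1 := by
  obtain ⟨n, hn⟩ := (inferInstance : Group.IsSolvable S)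
  have htop : ∀ k, derivedSeries L k = ⊤ := by
    intro k
    induction k with
    | zero => rfl
    | succ k ih => rw [derivedSeries_succ, ih, ← commutator_def]; exact hperf
  have h := map_derivedSeries_le_derivedSeries f n
  rw [htop, hn] at h
  exact h ⟨x, trivial, rfl⟩

/-- the sign attached to an element of the field of two elements -/
def chi (x : ZMod 2) : ℤ := if x = 0 then 1 else -1

theorem chi_add : ∀ x y : ZMod 2, chi (x + y) = chi x * chi y := by decide

theorem pair_add_self : ∀ x : ZMod 2 × ZMod 2, x + x = 0 := by decide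

theorem pair_identity (a b c d e f : ZMod 2 × ZMod 2) :
    a + d + (e + f) + a + d = b + d + e + b + d + (c + d + f + c + d) := by
  have h : ∀ a b c d e f : ZMod 2,
      a + d + (e + f) + a + d = b + d + e + b + d + (c + d + f + c + d) := by decide
  exact Prod.ext (h _ _ _ _ _ _) (h _ _ _ _ _ _)

section Core

variable {V : Type*} [CommGroup V] [Fintype V]

theorem sum_sq (φ : V → ZMod 2) (h0 : φ 1 = 0)
    (hB : ∀ u v w : V, φ (u * v * w) + φ (u * v) + φ w =
      φ (u * w) + φ u + φ w + (φ (v * w) + φ v + φ w))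
    (hrad : ∀ a : V, a ≠ 1 → ∃ u, φ (u * a) + φ u + φ a ≠ 0) :
    (∑ v, chi (φ v)) * (∑ v, chi (φ v)) = Fintype.card V := by
  classical
  have h1 : ∀ u, (∑ v, chi (φ v)) = ∑ a, chi (φ (u * a)) := fun u =>
    (Equiv.sum_comp (Equiv.mulLeft u) (fun v => chi (φ v))).symm
  rw [Finset.sum_mul]
  calc ∑ u, chi (φ u) * ∑ v, chi (φ v) = ∑ u, ∑ a, chi (φ u) * chi (φ (u * a)) :=
        Finset.sum_congr rfl fun u _ => by rw [h1 u, Finset.mul_sum]
    _ = ∑ a, ∑ u, chi (φ a) * chi (φ (u * a) + φ u + φ a) := by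
        rw [Finset.sum_comm]
        refine Finset.sum_congr rfl fun a _ => Finset.sum_congr rfl fun u _ => ?_
        rw [← chi_add, ← chi_add]
        congr 1
        have h2 : ∀ x y z : ZMod 2, y + x = z + (x + y + z) := by decide
        exact h2 _ _ _
    _ = ∑ a : V, if a = 1 then (Fintype.card V : ℤ) else 0 := by
        refine Finset.sum_congr rfl fun a _ => ?_
        rw [← Finset.mul_sum]
        split_ifs with ha
        · subst ha
          simp [h0, chi, CharTwo.add_self_eq_zero]
        · obtain ⟨u₀, hu₀⟩ := hrad a ha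
          have hneg : ∀ x : ZMod 2, x ≠ 0 → chi x = -1 := by decide
          have h2 : ∑ u, chi (φ (u * a) + φ u + φ a)
              = - ∑ u, chi (φ (u * a) + φ u + φ a) := by
            conv_lhs => rw [← Equiv.sum_comp (Equiv.mulLeft u₀)]
            rw [← Finset.sum_neg_distrib]
            refine Finset.sum_congr rfl fun u _ => ?_
            rw [Equiv.coe_mulLeft, hB u₀ u a, chi_add, hneg _ hu₀]
            ring
          have h3 : ∑ u, chi (φ (u * a) + φ u + φ a) = 0 := by linarith
          rw [h3, mul_zero]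
    _ = Fintype.card V := by simp

variable {L : Type*} [Group L] (ρ : L →* MulAut V)

theorem rad_dichotomy (hirr : ∀ W : Subgroup V, (∀ l, ∀ w ∈ W, ρ l w ∈ W) → W = ⊥ ∨ W = ⊤)
    (φ : V → ZMod 2) (h0 : φ 1 = 0)
    (hB : ∀ u v w : V, φ (u * v * w) + φ (u * v) + φ w =
      φ (u * w) + φ u + φ w + (φ (v * w) + φ v + φ w))
    (hinv : ∀ l v, φ (ρ l v) = φ v) :
    (∀ a : V, a ≠ 1 → ∃ u, φ (u * a) + φ u + φ a ≠ 0) ∨ (∀ v, φ v = 0) ∨
      Fintype.card V ≤ 2 := by
  have hzero : ∀ x y : ZMod 2, x + x + y = y := by decide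
  let W : Subgroup V :=
    { carrier := {a | ∀ u, φ (u * a) + φ u + φ a = 0}
      one_mem' := fun u => by rw [mul_one, h0, add_zero, CharTwo.add_self_eq_zero]
      mul_mem' := fun {a b} ha hb u => by
        have h1 := ha u
        have h2 := hb (u * a)
        have h3 := hb a
        rw [mul_assoc] at h2
        generalize φ (u * (a * b)) = x₁ at h2 ⊢
        generalize φ (u * a) = x₂ at h1 h2
        generalize φ (a * b) = x₃ at h3 ⊢
        generalize φ a = x₄ at h1 h3
        generalize φ b = x₅ at h2 h3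
        generalize φ u = x₆ at h1 ⊢
        revert x₁ x₂ x₃ x₄ x₅ x₆
        decide
      inv_mem' := fun {a} ha u => by
        have h1 := ha (u * a⁻¹)
        have h2 := ha a⁻¹
        rw [inv_mul_cancel_right] at h1
        rw [inv_mul_cancel, h0] at h2
        generalize φ (u * a⁻¹) = x₁ at h1 ⊢
        generalize φ a⁻¹ = x₂ at h2 ⊢
        generalize φ a = x₃ at h1 h2
        generalize φ u = x₄ at h1 ⊢
        revert x₁ x₂ x₃ x₄
        decide }
  rcases hirr W (fun l w hw u => by
    have := hw ((ρ l)⁻¹ u)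
    rw [← hinv l ((ρ l)⁻¹ u * w), map_mul, MulAut.apply_inv_self, ← hinv l w,
      ← hinv l ((ρ l)⁻¹ u), MulAut.apply_inv_self] at this
    exact this) with hW | hW
  · left
    intro a ha
    by_contra hne
    push Not at hne
    exact ha (by
      have : a ∈ W := hne
      rwa [hW, Subgroup.mem_bot] at this)
  · right
    have hadd : ∀ u a, φ (u * a) = φ u + φ a := fun u a => by
      have h1 : φ (u * a) + φ u + φ a = 0 := (hW ▸ Subgroup.mem_top a : a ∈ W) u
      generalize φ (u * a) = x₁ at h1 ⊢
      generalize φ u = x₂ at h1 ⊢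
      generalize φ a = x₃ at h1 ⊢
      revert x₁ x₂ x₃
      decide
    let f : V →* Multiplicative (ZMod 2) :=
      MonoidHom.mk' (fun v => Multiplicative.ofAdd (φ v)) fun u v => by rw [hadd, ofAdd_add]
    rcases hirr f.ker (fun l w hw => by
      rw [MonoidHom.mem_ker] at hw ⊢
      exact (congrArg Multiplicative.ofAdd (hinv l w)).trans hw) with hk | hk
    · right
      have h2 := Fintype.card_le_of_injective f ((MonoidHom.ker_eq_bot_iff f).1 hk)
      rwa [Fintype.card_multiplicative, ZMod.card] at h2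
    · left
      intro v
      have : v ∈ f.ker := hk ▸ Subgroup.mem_top v
      exact Multiplicative.ofAdd.injective (this : Multiplicative.ofAdd (φ v) = Multiplicative.ofAdd 0)

theorem small_false (hperf : commutator L = ⊤) (hnt : ∃ l v, ρ l v ≠ v)
    (h4 : Fintype.card V ≤ 4) : False := by
  obtain ⟨l, v, hlv⟩ := hnt
  classical
  obtain ⟨e⟩ := Function.Embedding.nonempty_of_card_le (α := V) (β := Fin 4) (by simpa using h4)
  haveI := Cfsg.Lib.Dickson.isSolvable_perm_four
  haveI : Group.IsSolvable (Equiv.Perm V) :=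
    Group.isSolvable_of_isSolvable_injective (f := Equiv.Perm.viaEmbeddingHom e)
      (Equiv.Perm.viaEmbeddingHom_injective e)
  have := hom_trivial hperf ((MulAut.toPerm V).comp ρ) l
  exact hlv (Equiv.congr_fun this v)

theorem core_false [Finite L] (hperf : commutator L = ⊤) (hexp : ∀ v : V, v * v = 1)
    (hirr : ∀ W : Subgroup V, (∀ l, ∀ w ∈ W, ρ l w ∈ W) → W = ⊥ ∨ W = ⊤)
    (hnt : ∃ l v, ρ l v ≠ v) (q : V → ZMod 2 × ZMod 2) (h1 : q 1 = 0)
    (hne : ∀ v, v ≠ 1 → q v ≠ 0)
    (hB : ∀ u v w : V, q (u * v * w) + q (u * v) + q w =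
      q (u * w) + q u + q w + (q (v * w) + q v + q w))
    (hinv : ∀ l v, q (ρ l v) = q v) : False := by
  classical
  have hbig : 4 < Fintype.card V := by
    by_contra h
    exact small_false ρ hperf hnt (not_lt.1 h)
  let fn : Fin 3 → (ZMod 2 × ZMod 2 →+ ZMod 2) :=
    ![AddMonoidHom.fst _ _, AddMonoidHom.snd _ _, AddMonoidHom.fst _ _ + AddMonoidHom.snd _ _]
  obtain ⟨φ, hφ⟩ : ∃ φ : Fin 3 → V → ZMod 2, ∀ i v, φ i v = fn i (q v) := ⟨_, fun _ _ => rfl⟩
  have hφ1 : ∀ i, φ i 1 = 0 := fun i => by rw [hφ, h1, map_zero]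
  have hφB : ∀ i, ∀ u v w : V, φ i (u * v * w) + φ i (u * v) + φ i w =
      φ i (u * w) + φ i u + φ i w + (φ i (v * w) + φ i v + φ i w) := fun i u v w => by
    simp only [hφ]
    simpa only [map_add] using congrArg (fn i) (hB u v w)
  have hφi : ∀ i l v, φ i (ρ l v) = φ i v := fun i l v => by rw [hφ, hφ, hinv]
  have hone : ∀ v, v ≠ 1 → chi (φ 0 v) + chi (φ 1 v) + chi (φ 2 v) = -1 := fun v hv => by
    have h := hne v hv
    simp only [hφ]
    generalize q v = x at h ⊢
    revert x
    decide
  have hsum : ∑ i, ∑ v, chi (φ i v) = 4 - (Fintype.card V : ℤ) := by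
    rw [Finset.sum_comm, ← Finset.add_sum_erase _ _ (Finset.mem_univ (1 : V))]
    rw [Finset.sum_congr (s₁ := Finset.univ.erase (1 : V)) rfl (g := fun _ => (-1 : ℤ))
      (fun v hv => by rw [Fin.sum_univ_three]; exact hone v (Finset.ne_of_mem_erase hv))]
    rw [Fin.sum_univ_three, hφ1, hφ1, hφ1, Finset.sum_const, Finset.card_erase_of_mem
      (Finset.mem_univ _), Finset.card_univ, nsmul_eq_mul, Nat.cast_sub (by omega)]
    simp [chi]
    ring
  have hsq : ∀ i, (∑ v, chi (φ i v)) * (∑ v, chi (φ i v)) = Fintype.card V := by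
    intro i
    refine sum_sq (φ i) (hφ1 i) (hφB i) ?_
    rcases rad_dichotomy ρ hirr (φ i) (hφ1 i) (hφB i) (hφi i) with h | h | h
    · exact h
    · exfalso
      -- the other two forms are constant away from the identity
      obtain ⟨j, hji, hjv⟩ : ∃ j, j ≠ i ∧ ∀ v, v ≠ 1 → φ j v = 1 := by
        refine ⟨i + 1, (by decide : ∀ k : Fin 3, k + 1 ≠ k) i, fun v hv => ?_⟩
        have hh := h v
        have hh2 := hne v hv
        rw [hφ] at hh ⊢
        clear h
        generalize q v = x at hh hh2 ⊢
        revert x i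
        decide
      have hSj : ∑ v, chi (φ j v) = 2 - (Fintype.card V : ℤ) := by
        rw [← Finset.add_sum_erase _ _ (Finset.mem_univ (1 : V)),
          Finset.sum_congr rfl (g := fun _ => (-1 : ℤ)) (fun v hv => by
            rw [hjv v (Finset.ne_of_mem_erase hv)]; rfl),
          hφ1, Finset.sum_const, Finset.card_erase_of_mem (Finset.mem_univ _), Finset.card_univ,
          nsmul_eq_mul, Nat.cast_sub (by omega)]
        simp [chi]
        ring
      rcases rad_dichotomy ρ hirr (φ j) (hφ1 j) (hφB j) (hφi j) with h' | h' | h'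
      · have h2 := sum_sq (φ j) (hφ1 j) (hφB j) h'
        rw [hSj] at h2
        have h5 : (5 : ℤ) ≤ Fintype.card V := by exact_mod_cast hbig
        nlinarith
      · obtain ⟨v, hv⟩ : ∃ v : V, v ≠ 1 := by
          haveI : Nontrivial V := Fintype.one_lt_card_iff_nontrivial.1 (by omega)
          exact exists_ne 1
        exact zero_ne_one ((h' v).symm.trans (hjv v hv))
      · omega
    · omega
  obtain ⟨s, hs⟩ : ∃ s : ℕ, s = (∑ v, chi (φ 0 v)).natAbs := ⟨_, rfl⟩
  have habs : ∀ i, (∑ v, chi (φ i v)) = s ∨ (∑ v, chi (φ i v)) = -s := fun i => by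
    have h := Int.natAbs_eq (∑ v, chi (φ i v))
    have h2 : (∑ v, chi (φ i v)).natAbs = s := by
      rw [hs, ← Int.natAbs_eq_iff_mul_self_eq.2 ((hsq i).trans (hsq 0).symm)]
    rwa [h2] at h
  have hcard : (Fintype.card V : ℤ) = s * s := by
    rcases habs 0 with h | h <;> have h2 := hsq 0 <;> rw [h] at h2 <;> linarith
  rw [Fin.sum_univ_three, hcard] at hsum
  have hs2 : 2 < s := by
    have : (4 : ℤ) < Fintype.card V := by exact_mod_cast hbig
    rw [hcard] at this
    by_contra hle
    have : (s : ℤ) ≤ 2 := by exact_mod_cast not_lt.1 hle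
    nlinarith
  have hs4 : (s : ℤ) = 4 ∧ ∀ i, (∑ v, chi (φ i v)) = -4 := by
    have h3 : (3 : ℤ) ≤ s := by exact_mod_cast hs2
    rcases habs 0 with a | a <;> rcases habs 1 with b | b <;> rcases habs 2 with c | c <;>
      rw [a, b, c] at hsum
    all_goals try (exfalso; nlinarith; done)
    have h4 : (s : ℤ) = 4 := by nlinarith
    refine ⟨h4, fun i => ?_⟩
    fin_cases i
    · simpa [h4] using a
    · simpa [h4] using b
    · simpa [h4] using c
  have hV : Fintype.card V = 16 := by
    rw [hs4.1] at hcard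
    exact_mod_cast hcard
  -- each form has five singular points
  obtain ⟨Z, hZdef⟩ : ∃ Z : Fin 3 → Finset V,
      ∀ i, Z i = Finset.univ.filter (fun v => v ≠ 1 ∧ φ i v = 0) := ⟨_, fun _ => rfl⟩
  have hZ5 : ∀ i, (Z i).card = 5 := by
    intro i
    have h1 : ∀ v, chi (φ i v) = 2 * (if φ i v = 0 then (1 : ℤ) else 0) - 1 := fun v => by
      unfold chi
      split_ifs <;> rfl
    have h2 := hs4.2 i
    rw [Finset.sum_congr rfl (fun v _ => h1 v), Finset.sum_sub_distrib, ← Finset.mul_sum,
      Finset.sum_boole, Finset.sum_const, Finset.card_univ, hV] at h2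
    have h3 : (Finset.univ.filter (fun v => φ i v = 0)).card = 6 := by
      simp at h2
      omega
    have h4 : Z i = (Finset.univ.filter (fun v => φ i v = 0)).erase 1 := by
      rw [hZdef]
      ext v
      simp [and_comm]
    rw [h4, Finset.card_erase_of_mem (by simp [hφ1]), h3]
  obtain ⟨ψ, hψ⟩ : ∃ ψ : L →* Equiv.Perm V, ψ = (MulAut.toPerm V).comp ρ := ⟨_, rfl⟩
  have hψa : ∀ l v, ψ l v = ρ l v := fun l v => by rw [hψ]; rfl
  have hpres : ∀ i l v, v ∈ Z i ↔ ψ l v ∈ Z i := fun i l v => by
    simp [hZdef, hψa, hφi]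
  -- some element of order three
  obtain ⟨i, l, v, hv, hlv⟩ : ∃ i l v, v ∈ Z i ∧ ψ l v ≠ v := by
    obtain ⟨l, v, hlv⟩ := hnt
    have hv1 : v ≠ 1 := fun e => hlv (by rw [e, map_one])
    obtain ⟨i, hi⟩ : ∃ i, φ i v = 0 := by
      simp only [hφ]
      have := hne v hv1
      generalize q v = x at this ⊢
      revert x
      decide
    exact ⟨i, l, v, by simp [hZdef, hv1, hi], by rwa [hψa]⟩
  let τ : L →* Equiv.Perm {x // x ∈ Z i} :=
    MonoidHom.mk' (fun l => (ψ l).subtypePerm fun x => (hpres i l x).symm) fun a b =>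
      Equiv.ext fun x => Subtype.ext (DFunLike.congr_fun (map_mul ψ a b) (x : V))
  have h3 : 3 ∣ Nat.card τ.range := by
    by_contra hno
    have hd : Nat.card τ.range ∣ 120 := by
      have := τ.range.card_subgroup_dvd_card
      rwa [Nat.card_perm, Nat.card_eq_fintype_card (α := {x // x ∈ Z i}), Fintype.card_coe,
        hZ5] at this
    have hd' : Nat.card τ.range ∣ 40 :=
      ((Nat.prime_three.coprime_iff_not_dvd.2 hno).symm).dvd_of_dvd_mul_left (m := 3) (k := _) hd
    haveI : Group.IsSolvable τ.range := by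
      have key : ∀ d ∈ Nat.divisors 40, ∃ a < 4, ∃ b < 2, d = 2 ^ a * 5 ^ b := by decide
      obtain ⟨a, -, b, -, hab⟩ := key _ (Nat.mem_divisors.2 ⟨hd', by norm_num⟩)
      exact Cfsg.Agent.S0144.result 2 5 a b Nat.prime_two (by norm_num) hab
    have := hom_trivial hperf τ.rangeRestrict l
    exact hlv (congrArg Subtype.val (Equiv.congr_fun (congrArg Subtype.val this) ⟨v, hv⟩))
  haveI : Fact (Nat.Prime 3) := ⟨Nat.prime_three⟩
  have h3' : 3 ∣ Nat.card ψ.range := by
    refine dvd_trans h3 ?_
    have hle : ψ.ker ≤ τ.ker := fun x hx => by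
      rw [MonoidHom.mem_ker] at hx ⊢
      refine Equiv.ext fun y => Subtype.ext ?_
      show ψ x y = y
      rw [hx]; rfl
    rw [← Subgroup.index_ker, ← Subgroup.index_ker]
    exact Subgroup.index_dvd_of_le hle
  obtain ⟨⟨g, hgr⟩, hg⟩ := exists_prime_orderOf_dvd_card' 3 h3'
  rw [Subgroup.orderOf_mk] at hg
  obtain ⟨l₀, hl₀⟩ := hgr
  -- its fixed points
  let F : Subgroup V :=
    { carrier := {w | g w = w}
      one_mem' := by show g 1 = 1; rw [← hl₀, hψa, map_one]
      mul_mem' := fun {a b} ha hb => by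
        have ha' : g a = a := ha
        have hb' : g b = b := hb
        show g (a * b) = a * b
        rw [← hl₀, hψa, map_mul, ← hψa, ← hψa, hl₀, ha', hb']
      inv_mem' := fun {a} ha => by
        have ha' : g a = a := ha
        show g a⁻¹ = a⁻¹
        rw [← hl₀, hψa, map_inv, ← hψa, hl₀, ha'] }
  have hgne : g ≠ 1 := fun e => by simp [e] at hg
  have hg3 : g ^ 3 = 1 := hg ▸ pow_orderOf_eq_one g
  -- two fixed singular points for each form
  have htwo : ∀ i, 2 ≤ ((Z i).filter (fun v => g v = v)).card := by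
    intro i
    let g' : Equiv.Perm {x // x ∈ Z i} := g.subtypePerm fun x => by
      rw [← hl₀]; exact (hpres i l₀ x).symm
    have hg' : g' ^ 3 = 1 := by
      refine Equiv.ext fun x => Subtype.ext ?_
      simp [g', Equiv.Perm.subtypePerm_pow, hg3]
    have hm := Equiv.Perm.card_compl_support_modEq (p := 3) (n := 1) (σ := g') (by simpa using hg')
    rw [Fintype.card_coe, hZ5] at hm
    have hfix : ((Z i).filter (fun v => g v = v)).card = g'.supportᶜ.card := by
      rw [← Finset.card_map (Function.Embedding.subtype _) (s := g'.supportᶜ)]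
      congr 1
      ext w
      simp [g', Equiv.Perm.subtypePerm_apply, Subtype.ext_iff, and_comm]
    rw [hfix]
    have h5 : g'.supportᶜ.card ≡ 5 [MOD 3] := hm
    unfold Nat.ModEq at h5
    omega
  have hFcard : Nat.card F ≤ 4 := by
    have hd : Nat.card F ∣ 16 := hV ▸ (Nat.card_eq_fintype_card (α := V)) ▸ F.card_subgroup_dvd_card
    have h16 : Nat.card F ≠ 16 := fun e => hgne (by
      have : F = ⊤ := Subgroup.eq_top_of_card_eq F (by rw [e, Nat.card_eq_fintype_card, hV])
      ext w
      exact (this ▸ Subgroup.mem_top w : w ∈ F))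
    have hmod := Equiv.Perm.card_compl_support_modEq (p := 3) (n := 1) (σ := g) (by simpa using hg3)
    have hF : Nat.card F = g.supportᶜ.card := by
      rw [← Nat.card_eq_finsetCard]
      refine Nat.card_congr (Equiv.subtypeEquivRight fun w => ?_)
      simp [F, Equiv.Perm.notMem_support]
    rw [← hF, hV] at hmod
    have key : ∀ d ∈ Nat.divisors 16, d % 3 = 16 % 3 → d ≠ 16 → d ≤ 4 := by decide
    exact key _ (Nat.mem_divisors.2 ⟨hd, by norm_num⟩) hmod h16
  have hdisj : ∀ i j, i ≠ j → Disjoint (Z i) (Z j) := fun i j hij => by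
    rw [Finset.disjoint_left]
    intro w hw hw'
    simp [hZdef, hφ] at hw hw'
    have := hne w hw.1
    have a := hw.2
    have b := hw'.2
    clear hw hw'
    generalize q w = x at this a b
    revert x i j
    decide
  have hsub : ((Finset.univ : Finset (Fin 3)).biUnion fun i => (Z i).filter (fun v => g v = v)) ⊆
      (Finset.univ.filter (fun v => g v = v)).erase 1 := by
    intro w hw
    simp [hZdef] at hw ⊢
    exact ⟨hw.1.1, hw.2⟩
  have h6 := Finset.card_le_card hsub
  rw [Finset.card_biUnion (fun a _ b _ hab =>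
    Finset.disjoint_filter_filter (hdisj a b hab)),
    Finset.card_erase_of_mem (s := Finset.univ.filter (fun v => g v = v))
      (Finset.mem_filter.2 ⟨Finset.mem_univ _, F.one_mem⟩)] at h6
  have h7 : (Finset.univ.filter (fun v => g v = v)).card = Nat.card F := by
    rw [← Nat.card_eq_finsetCard]
    exact Nat.card_congr (Equiv.subtypeEquivRight fun w => by simp [F])
  rw [h7, Fin.sum_univ_three] at h6
  have := htwo 0
  have := htwo 1
  have := htwo 2
  omega

end Core

section Two

variable {X : Type*} [Group X] [Finite X]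

theorem main (h2 : IsPGroup 2 X) (h3 : Nat.card {x : X // orderOf x = 2} = 3) :
    Group.IsSolvable (MulAut X) := by
  classical
  haveI := Fintype.ofFinite X
  by_contra hns
  obtain ⟨L, -, hLne, hperf⟩ := Cfsg.Lib.Perm.Zas25.exists_perfect_normal hns
  haveI : Fact (Nat.Prime 2) := ⟨Nat.prime_two⟩
  haveI : Group.IsNilpotent X := h2.isNilpotent
  -- involutions are fixed
  haveI : Group.IsSolvable (Equiv.Perm {x : X // orderOf x = 2}) := by
    obtain ⟨e⟩ := Function.Embedding.nonempty_of_card_le (α := {x : X // orderOf x = 2})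
      (β := Fin 4) (by rw [← Nat.card_eq_fintype_card, h3]; simp)
    haveI := Cfsg.Lib.Dickson.isSolvable_perm_four
    exact Group.isSolvable_of_isSolvable_injective (f := Equiv.Perm.viaEmbeddingHom e)
      (Equiv.Perm.viaEmbeddingHom_injective e)
  let π : L →* Equiv.Perm {x : X // orderOf x = 2} :=
    MonoidHom.mk' (fun l => Equiv.Perm.subtypePerm ((l : MulAut X).toEquiv : Equiv.Perm X) fun x => by
      rw [show ((l : MulAut X).toEquiv) x = (l : MulAut X).toMonoidHom x from rfl,
        orderOf_injective _ (l : MulAut X).injective])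
      fun a b => Equiv.ext fun x => rfl
  have hinvo : ∀ (l : L) (t : X), t * t = 1 → (l : MulAut X) t = t := by
    intro l t ht
    rcases eq_or_ne t 1 with rfl | hne
    · exact map_one _
    · exact congrArg Subtype.val (Equiv.congr_fun (hom_trivial hperf π l)
        ⟨t, orderOf_eq_prime (by rw [pow_two, ht]) hne⟩)
  -- a minimal invariant subgroup moved by `L`
  obtain ⟨S, hS⟩ : ∃ S : Set (Subgroup X), ∀ U, U ∈ S ↔
      (∀ (l : L), ∀ u ∈ U, (l : MulAut X) u ∈ U) ∧ ∃ (l : L), ∃ u ∈ U, (l : MulAut X) u ≠ u :=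
    ⟨{U | _}, fun U => Iff.rfl⟩
  have hStop : ⊤ ∈ S := by
    refine (hS _).2 ⟨fun _ _ _ => trivial, ?_⟩
    by_contra hno
    push Not at hno
    exact hLne ((Subgroup.eq_bot_iff_forall _).2 fun x hx =>
      MulEquiv.ext fun u => hno ⟨x, hx⟩ u trivial)
  obtain ⟨U, hUmin⟩ := (Set.toFinite S).exists_minimal ⟨⊤, hStop⟩
  obtain ⟨hUinv, l₁, u₁, hu₁, hlu₁⟩ := (hS U).1 hUmin.1
  have htriv : ∀ N : Subgroup X, N ≤ U → N ≠ U → (∀ (l : L), ∀ u ∈ N, (l : MulAut X) u ∈ N) →
      ∀ (l : L), ∀ u ∈ N, (l : MulAut X) u = u := by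
    intro N hN hne hi
    by_contra hno
    push Not at hno
    exact hne (le_antisymm hN (hUmin.2 ((hS N).2 ⟨hi, hno⟩) hN))
  -- differences fixed by `L` vanish
  have hdiff : ∀ u : X, (∀ (l l' : L), (l' : MulAut X) (u⁻¹ * (l : MulAut X) u) =
      u⁻¹ * (l : MulAut X) u) → ∀ l : L, (l : MulAut X) u = u := by
    intro u hu l
    let c : L →* X := MonoidHom.mk' (fun l => u⁻¹ * (l : MulAut X) u) fun a b => by
      show u⁻¹ * ((a * b : L) : MulAut X) u = _
      rw [Subgroup.coe_mul, MulAut.mul_apply]
      have h := hu b a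
      rw [map_mul, map_inv] at h
      calc u⁻¹ * (a : MulAut X) ((b : MulAut X) u)
          = u⁻¹ * (a : MulAut X) u * (((a : MulAut X) u)⁻¹ * (a : MulAut X) ((b : MulAut X) u)) := by
            group
        _ = _ := by rw [h]
    have := hom_trivial hperf c l
    exact (inv_mul_eq_one.1 this).symm
  -- `U` is generated by the differences
  let C : Subgroup X := Subgroup.closure
    {c | ∃ (l : L), ∃ u ∈ U, c = u⁻¹ * (l : MulAut X) u}
  have hC : C = U := by
    by_contra hne
    have hle : C ≤ U := (Subgroup.closure_le _).2 (by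
      rintro c ⟨l, u, hu, rfl⟩
      exact mul_mem (inv_mem hu) (hUinv l u hu))
    have hi : ∀ (l : L), ∀ c ∈ C, (l : MulAut X) c ∈ C := by
      intro l c hc
      refine (Subgroup.closure_le (K := C.comap (l : MulAut X).toMonoidHom)).2 ?_ hc
      rintro c ⟨l', u, hu, rfl⟩
      show (l : MulAut X) (u⁻¹ * (l' : MulAut X) u) ∈ C
      rw [show (l : MulAut X) (u⁻¹ * (l' : MulAut X) u)
        = (u⁻¹ * (l : MulAut X) u)⁻¹ * (u⁻¹ * ((l * l' : L) : MulAut X) u) by
          rw [Subgroup.coe_mul, MulAut.mul_apply, map_mul, map_inv]; group]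
      exact mul_mem (inv_mem (Subgroup.subset_closure ⟨l, u, hu, rfl⟩))
        (Subgroup.subset_closure ⟨l * l', u, hu, rfl⟩)
    refine hlu₁ (hdiff u₁ (fun l l' => htriv C hle hne hi l' _ ?_) l₁)
    exact Subgroup.subset_closure ⟨l, u₁, hu₁, rfl⟩
  let ρU : L →* MulAut U := MonoidHom.mk'
    (fun l =>
      { toFun := fun u => ⟨(l : MulAut X) u, hUinv l u u.2⟩
        invFun := fun u => ⟨((l⁻¹ : L) : MulAut X) u, hUinv l⁻¹ u u.2⟩
        left_inv := fun u => Subtype.ext (by simp)
        right_inv := fun u => Subtype.ext (by simp)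
        map_mul' := fun a b => Subtype.ext (by simp) })
    fun a b => MulEquiv.ext fun u => Subtype.ext rfl
  have hρU : ∀ (l : L) (u : U), ((ρU l u : U) : X) = (l : MulAut X) u := fun _ _ => rfl
  -- normal invariant proper subgroups are fixed
  have hfixed : ∀ N : Subgroup U, N ≠ ⊤ → (∀ l, ∀ n ∈ N, ρU l n ∈ N) → ∀ l, ∀ n ∈ N, ρU l n = n := by
    intro N hN hi l n hn
    refine Subtype.ext (htriv (N.map U.subtype) (Subgroup.map_subtype_le _) ?_ ?_ l n ⟨n, hn, rfl⟩)
    · intro e
      refine hN (eq_top_iff.2 fun x _ => ?_)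
      obtain ⟨y, hy, hyx⟩ := (e.symm ▸ x.2 : (x : X) ∈ N.map U.subtype)
      exact Subtype.ext hyx ▸ hy
    · rintro l' u ⟨y, hy, rfl⟩
      exact ⟨ρU l' y, hi l' y hy, rfl⟩
  -- and central
  have hcentral : ∀ N : Subgroup U, N.Normal → N ≠ ⊤ → (∀ l, ∀ n ∈ N, ρU l n ∈ N) →
      N ≤ Subgroup.center U := by
    intro N hnorm hN hi n hn
    have hfx := hfixed N hN hi
    have hle : U ≤ Subgroup.centralizer {(n : X)} := by
      refine hC.symm.le.trans ((Subgroup.closure_le _).2 ?_)
      rintro c ⟨l, u, hu, rfl⟩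
      obtain ⟨v, hv⟩ : ∃ v : U, v = ⟨u, hu⟩⁻¹ := ⟨_, rfl⟩
      have e := hfx l _ (hnorm.conj_mem n hn v⁻¹)
      rw [map_mul, map_mul, map_inv, hfx l n hn] at e
      rw [SetLike.mem_coe, Subgroup.mem_centralizer_singleton_iff]
      have e' := congrArg Subtype.val e
      simp only [Subgroup.coe_mul, Subgroup.coe_inv, hρU, hv, inv_inv, map_inv] at e'
      -- `e' : l u * n * (l u)⁻¹ = u * n * u⁻¹`
      calc u⁻¹ * (l : MulAut X) u * n
          = u⁻¹ * ((l : MulAut X) u * n * ((l : MulAut X) u)⁻¹) * (l : MulAut X) u := by group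
        _ = u⁻¹ * (u * n * u⁻¹) * (l : MulAut X) u := by rw [e']
        _ = n * (u⁻¹ * (l : MulAut X) u) := by group
    exact Subgroup.mem_center_iff.2 fun x => Subtype.ext
      (Subgroup.mem_centralizer_singleton_iff.1 (hle x.2))
  have hinvol' : ∀ (l : L) (t : U), t * t = 1 → ρU l t = t := fun l t ht =>
    Subtype.ext (hinvo l t (congrArg Subtype.val ht))
  have hUne : ¬ ∀ (l : L) (u : U), ρU l u = u := fun h =>
    hlu₁ (congrArg Subtype.val (h l₁ ⟨u₁, hu₁⟩))
  -- squares
  let Sq : Subgroup U := Subgroup.closure (Set.range fun u : U => u * u)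
  have hSqn : Sq.Normal := by
    refine ⟨fun n hn g => ?_⟩
    refine (Subgroup.closure_le (K := Sq.comap (MulAut.conj g).toMonoidHom)).2 ?_ hn
    rintro _ ⟨u, rfl⟩
    refine Subgroup.subset_closure ⟨g * u * g⁻¹, ?_⟩
    show g * u * g⁻¹ * (g * u * g⁻¹) = g * (u * u) * g⁻¹
    group
  have hSqi : ∀ l, ∀ n ∈ Sq, ρU l n ∈ Sq := by
    intro l n hn
    refine (Subgroup.closure_le (K := Sq.comap (ρU l).toMonoidHom)).2 ?_ hn
    rintro _ ⟨u, rfl⟩
    exact Subgroup.subset_closure ⟨ρU l u, (map_mul (ρU l) u u).symm⟩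
  have hU2 : IsPGroup 2 U := h2.to_subgroup U
  haveI : Nontrivial U := ⟨⟨u₁, hu₁⟩, 1, fun e => hlu₁ (by
    have : u₁ = 1 := congrArg Subtype.val e
    rw [this, map_one])⟩
  have hSqne : Sq ≠ ⊤ := by
    obtain ⟨k, hk, hcard⟩ := hU2.nontrivial_iff_card.1 inferInstance
    obtain ⟨H, hH⟩ := Sylow.exists_subgroup_card_pow_prime 2 (G := U) (n := k - 1)
      (by rw [hcard]; exact pow_dvd_pow 2 (Nat.sub_le k 1))
    have hidx : H.index = 2 := by
      have h := H.card_mul_index
      rw [hH, hcard, show k = k - 1 + 1 by omega, pow_succ, Nat.add_sub_cancel] at h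
      exact Nat.eq_of_mul_eq_mul_left (by positivity) h
    intro htop
    have hle : Sq ≤ H := (Subgroup.closure_le H).2 (by
      rintro _ ⟨u, rfl⟩
      exact Subgroup.mul_self_mem_of_index_two hidx u)
    rw [htop, top_le_iff] at hle
    rw [hle, Subgroup.index_top] at hidx
    exact absurd hidx (by norm_num)
  have hsqc : ∀ u : U, u * u ∈ Subgroup.center U := fun u =>
    hcentral Sq hSqn hSqne hSqi (Subgroup.subset_closure ⟨u, rfl⟩)
  have hsqfix : ∀ l (u : U), ρU l (u * u) = u * u := fun l u =>
    hfixed Sq hSqne hSqi l _ (Subgroup.subset_closure ⟨u, rfl⟩)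
  -- the centre is proper
  have hZne : Subgroup.center U ≠ ⊤ := by
    intro htop
    refine hUne fun l u => Subtype.ext (hdiff u (fun a b => ?_) l)
    have ht : u⁻¹ * ρU a u * (u⁻¹ * ρU a u) = 1 := by
      have hc : Commute (ρU a u) u⁻¹ :=
        Subgroup.mem_center_iff.1 (htop ▸ Subgroup.mem_top u⁻¹) _
      calc u⁻¹ * ρU a u * (u⁻¹ * ρU a u) = u⁻¹ * (ρU a u * u⁻¹) * ρU a u := by group
        _ = u⁻¹ * (u⁻¹ * ρU a u) * ρU a u := by rw [hc.eq]
        _ = (u * u)⁻¹ * ρU a (u * u) := by rw [map_mul]; group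
        _ = 1 := by rw [hsqfix, inv_mul_cancel]
    exact hinvo b _ (congrArg Subtype.val ht)
  have hZi : ∀ l, ∀ n ∈ Subgroup.center U, ρU l n ∈ Subgroup.center U := fun l n hn =>
    Subgroup.mem_center_iff.2 fun x => by
      have := congrArg (ρU l) (Subgroup.mem_center_iff.1 hn ((ρU l)⁻¹ x))
      rwa [map_mul, map_mul, MulAut.apply_inv_self] at this
  have hZfix : ∀ l, ∀ n ∈ Subgroup.center U, ρU l n = n := hfixed _ hZne hZi
  -- involutions are central
  have hinvc : ∀ t : U, t * t = 1 → t ∈ Subgroup.center U := by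
    let T : Subgroup U := Subgroup.closure {t | t * t = 1}
    have hTfix : ∀ l, ∀ n ∈ T, ρU l n = n := by
      intro l n hn
      induction hn using Subgroup.closure_induction with
      | mem x hx => exact hinvol' l x hx
      | one => exact map_one _
      | mul x y _ _ hx hy => rw [map_mul, hx, hy]
      | inv x _ hx => rw [map_inv, hx]
    have hTn : T.Normal := by
      refine ⟨fun n hn g => ?_⟩
      refine (Subgroup.closure_le (K := T.comap (MulAut.conj g).toMonoidHom)).2 ?_ hn
      intro u hu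
      refine Subgroup.subset_closure ?_
      show g * u * g⁻¹ * (g * u * g⁻¹) = 1
      rw [show g * u * g⁻¹ * (g * u * g⁻¹) = g * (u * u) * g⁻¹ by group, hu, mul_one, mul_inv_cancel]
    have hTne : T ≠ ⊤ := fun e => hUne fun l u => hTfix l u (e ▸ Subgroup.mem_top u)
    intro t ht
    exact hcentral T hTn hTne (fun l n hn => by rw [hTfix l n hn]; exact hn)
      (Subgroup.subset_closure ht)
  -- the quotient by the centre
  letI : CommGroup (U ⧸ Subgroup.center U) :=
    { (inferInstance : Group (U ⧸ Subgroup.center U)) with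
      mul_comm := by
        have hexp : ∀ a : U ⧸ Subgroup.center U, a * a = 1 := by
          intro a
          induction a using QuotientGroup.induction_on with
          | H u => exact (QuotientGroup.eq_one_iff _).2 (hsqc u)
        intro a b
        have e : ∀ c : U ⧸ Subgroup.center U, c⁻¹ = c := fun c => inv_eq_of_mul_eq_one_right (hexp c)
        rw [← e (a * b), mul_inv_rev, e, e] }
  letI : Fintype (U ⧸ Subgroup.center U) := Fintype.ofFinite _
  let ρV : L →* MulAut (U ⧸ Subgroup.center U) := MonoidHom.mk'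
    (fun l => QuotientGroup.congr _ _ (ρU l)
      (Subgroup.characteristic_iff_map_eq.1 inferInstance (ρU l)))
    fun a b => MulEquiv.ext fun x => by
      induction x using QuotientGroup.induction_on with
      | H u =>
        simp only [MulAut.mul_apply]
        exact congrArg (QuotientGroup.mk) (DFunLike.congr_fun (map_mul ρU a b) u)
  have hρV : ∀ (l : L) (u : U), ρV l (u : U ⧸ Subgroup.center U) = (ρU l u : U) := fun _ _ => rfl
  -- the commutator pairing
  have hcomm : ∀ u v : U, (u * v)⁻¹ * (v * u) ∈ Subgroup.center U := fun u v => by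
    rw [← QuotientGroup.eq, QuotientGroup.mk_mul, QuotientGroup.mk_mul, mul_comm]
  -- squares modulo squares of the centre
  letI : CommGroup (Subgroup.center U) :=
    { (inferInstance : Group (Subgroup.center U)) with
      mul_comm := fun a b => Subtype.ext (Subgroup.mem_center_iff.1 b.2 a) }
  let Z2 : Subgroup (Subgroup.center U) := (powMonoidHom 2 : (Subgroup.center U) →* (Subgroup.center U)).range
  let M := (Subgroup.center U) ⧸ Z2
  have hMexp : ∀ m : M, m * m = 1 := fun m => by
    induction m using QuotientGroup.induction_on with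
    | H z => exact (QuotientGroup.eq_one_iff _).2 ⟨z, pow_two z⟩
  letI : Module (ZMod 2) (Additive M) := AddCommGroup.zmodModule (n := 2) fun m => by
    rw [two_nsmul]
    exact hMexp (Additive.toMul m)
  have hMcard : Nat.card M ≤ 4 := by
    have h1 : Nat.card (powMonoidHom 2 : (Subgroup.center U) →* (Subgroup.center U)).ker ≤ Nat.card (Option {x : X // orderOf x = 2}) := by
      refine Nat.card_le_card_of_injective (fun z =>
        if h : ((z : (Subgroup.center U)) : U) = (1 : U) then none else some ⟨(((z : (Subgroup.center U)) : U) : X),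
          orderOf_eq_prime (by
            have := z.2
            rw [MonoidHom.mem_ker, powMonoidHom_apply] at this
            exact congrArg (fun y : (Subgroup.center U) => (((y : U)) : X)) this)
          (fun e => h (Subtype.ext e))⟩) ?_
      intro a b hab
      simp only at hab
      split_ifs at hab with ha hb hb
      · exact Subtype.ext (Subtype.ext (ha.trans hb.symm))
      · have e := congrArg Subtype.val (Option.some.inj hab)
        exact Subtype.ext (Subtype.ext (Subtype.ext e))
    rw [Finite.card_option, h3] at h1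
    have h4 : Nat.card M = Nat.card (powMonoidHom 2 : (Subgroup.center U) →* (Subgroup.center U)).ker := by
      have a := Z2.card_mul_index
      have b := (powMonoidHom 2 : (Subgroup.center U) →* (Subgroup.center U)).ker.card_mul_index
      rw [Subgroup.index_ker] at b
      show Z2.index = _
      rw [← b, mul_comm (Nat.card (powMonoidHom 2 : (Subgroup.center U) →* (Subgroup.center U)).ker)] at a
      exact Nat.eq_of_mul_eq_mul_left Nat.card_pos a
    omega
  obtain ⟨ι, hι⟩ : ∃ ι : Additive M →+ ZMod 2 × ZMod 2, Function.Injective ι := by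
    let b := Module.finBasis (ZMod 2) (Additive M)
    have hr : Module.finrank (ZMod 2) (Additive M) ≤ 2 := by
      have h := Module.natCard_eq_pow_finrank (K := ZMod 2) (V := Additive M)
      rw [Nat.card_zmod, Nat.card_congr Additive.toMul] at h
      exact (Nat.pow_le_pow_iff_right one_lt_two).1 (h ▸ hMcard)
    obtain ⟨r, hr'⟩ : ∃ r, r = Module.finrank (ZMod 2) (Additive M) := ⟨_, rfl⟩
    let crd : ℕ → (Additive M →+ ZMod 2) := fun i =>
      if h : i < Module.finrank (ZMod 2) (Additive M) then (b.coord ⟨i, h⟩).toAddMonoidHom else 0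
    refine ⟨(crd 0).prod (crd 1), fun x y hxy => b.ext_elem fun i => ?_⟩
    have h0 : crd 0 x = crd 0 y := congrArg Prod.fst hxy
    have h1 : crd 1 x = crd 1 y := congrArg Prod.snd hxy
    have hi := i.2
    have e : crd i.1 x = crd i.1 y := by
      rcases (show i.1 = 0 ∨ i.1 = 1 by omega) with e | e <;> rw [e] <;> assumption
    simpa [crd, hi] using e
  let cls : (Subgroup.center U) → ZMod 2 × ZMod 2 := fun z => ι (Additive.ofMul (z : M))
  have hcls : ∀ a b : (Subgroup.center U), cls (a * b) = cls a + cls b := fun a b => by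
    simp only [cls, QuotientGroup.mk_mul, ofMul_mul, map_add]
  let qU : U → ZMod 2 × ZMod 2 := fun u => cls ⟨u * u, hsqc u⟩
  have hqz : ∀ (u : U) (z : U), z ∈ (Subgroup.center U) → qU (u * z) = qU u := by
    intro u z hz
    have hc : z * u = u * z := (Subgroup.mem_center_iff.1 hz u).symm
    have e : (⟨u * z * (u * z), hsqc _⟩ : (Subgroup.center U)) = ⟨u * u, hsqc u⟩ * (⟨z, hz⟩ * ⟨z, hz⟩) := by
      refine Subtype.ext ?_
      show u * z * (u * z) = u * u * (z * z)
      rw [mul_assoc u z, ← mul_assoc z u, hc]; group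
    show cls _ = _
    rw [e, hcls, hcls]
    rw [pair_add_self, add_zero]
  have hq0 : ∀ u : U, qU u = 0 → u ∈ (Subgroup.center U) := by
    intro u hu
    have h1 : ((⟨u * u, hsqc u⟩ : (Subgroup.center U)) : M) = 1 :=
      Additive.ofMul.injective (hι (hu.trans (map_zero ι).symm))
    obtain ⟨z, hz⟩ := (QuotientGroup.eq_one_iff _).1 h1
    have hz' : (z : U) * z = u * u := by
      have := congrArg Subtype.val hz
      rwa [powMonoidHom_apply, pow_two] at this
    have hc : (z : U)⁻¹ * u = u * (z : U)⁻¹ :=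
      (Subgroup.mem_center_iff.1 ((Subgroup.center U).inv_mem z.2) u).symm
    have : u * (z : U)⁻¹ ∈ (Subgroup.center U) := hinvc _ (by
      rw [mul_assoc u, ← mul_assoc (z : U)⁻¹, hc, mul_assoc u, ← mul_assoc, ← hz']
      group)
    simpa using mul_mem this z.2
  -- the squaring map is quadratic
  have hkey : ∀ u v : U, qU (u * v) = qU u + qU v + cls ⟨_, hcomm u v⟩ := by
    intro u v
    have hk := Subgroup.mem_center_iff.1 (hcomm u v)
    have e : (⟨u * v * (u * v), hsqc _⟩ : (Subgroup.center U)) = ⟨u * u, hsqc u⟩ * ⟨v * v, hsqc v⟩ * ⟨_, hcomm u v⟩ := by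
      refine Subtype.ext ?_
      show u * v * (u * v) = u * u * (v * v) * ((u * v)⁻¹ * (v * u))
      calc u * v * (u * v) = u * (u * v * ((u * v)⁻¹ * (v * u))) * v := by group
        _ = u * u * v * (((u * v)⁻¹ * (v * u)) * v) := by group
        _ = _ := by rw [← hk v]; group
    show cls _ = _
    rw [e, hcls, hcls]
  have hk2 : ∀ u v w : U, cls ⟨_, hcomm (u * v) w⟩ = cls ⟨_, hcomm u w⟩ + cls ⟨_, hcomm v w⟩ := by
    intro u v w
    rw [← hcls]
    congr 1
    refine Subtype.ext ?_
    show (u * v * w)⁻¹ * (w * (u * v)) = (u * w)⁻¹ * (w * u) * ((v * w)⁻¹ * (w * v))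
    have hk := Subgroup.mem_center_iff.1 (hcomm u w)
    calc (u * v * w)⁻¹ * (w * (u * v))
        = (v * w)⁻¹ * (w * ((u * w)⁻¹ * (w * u)) * v) := by group
      _ = (v * w)⁻¹ * (w * (((u * w)⁻¹ * (w * u)) * v)) := by rw [mul_assoc w]
      _ = (v * w)⁻¹ * (w * (v * ((u * w)⁻¹ * (w * u)))) := by rw [hk v]
      _ = ((v * w)⁻¹ * (w * v)) * ((u * w)⁻¹ * (w * u)) := by group
      _ = _ := by rw [hk]
  obtain ⟨q, hq⟩ : ∃ q : U ⧸ (Subgroup.center U) → ZMod 2 × ZMod 2, ∀ u : U, q u = qU u := by
    refine ⟨fun v => qU v.out, fun u => ?_⟩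
    obtain ⟨z, hz⟩ := QuotientGroup.mk_out_eq_mul (Subgroup.center U) u
    show qU _ = _
    rw [hz, hqz _ _ z.2]
  refine core_false ρV hperf ?_ ?_ ?_ q ?_ ?_ ?_ ?_
  · intro v
    induction v using QuotientGroup.induction_on with
    | H u => exact (QuotientGroup.eq_one_iff _).2 (hsqc u)
  · intro W hW
    by_cases hWt : W = ⊤
    · exact Or.inr hWt
    left
    have hne : W.comap (QuotientGroup.mk' (Subgroup.center U)) ≠ ⊤ := fun e => hWt (eq_top_iff.2 fun v _ => by
      induction v using QuotientGroup.induction_on with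
      | H u => exact (e ▸ Subgroup.mem_top u : u ∈ W.comap (QuotientGroup.mk' (Subgroup.center U))))
    have hle := hcentral (W.comap (QuotientGroup.mk' (Subgroup.center U))) inferInstance hne
      (fun l n hn => by
        show ((ρU l n : U) : U ⧸ (Subgroup.center U)) ∈ W
        rw [← hρV]; exact hW l _ hn)
    rw [Subgroup.eq_bot_iff_forall]
    intro v hv
    induction v using QuotientGroup.induction_on with
    | H u => exact (QuotientGroup.eq_one_iff _).2 (hle hv)
  · by_contra hno
    push Not at hno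
    refine hUne fun l u => Subtype.ext (hdiff u (fun a b => ?_) l)
    have hmem : u⁻¹ * ρU a u ∈ (Subgroup.center U) :=
      QuotientGroup.eq.1 ((hno a u).symm.trans (hρV a u))
    exact congrArg Subtype.val (hZfix b _ hmem)
  · show q ((1 : U) : U ⧸ (Subgroup.center U)) = 0
    rw [hq]
    show ι (Additive.ofMul ((⟨1 * 1, hsqc 1⟩ : (Subgroup.center U)) : M)) = 0
    rw [show (⟨1 * 1, hsqc 1⟩ : (Subgroup.center U)) = 1 from Subtype.ext (one_mul 1)]
    simp
  · intro v hv
    induction v using QuotientGroup.induction_on with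
    | H u =>
      rw [hq]
      exact fun e => hv ((QuotientGroup.eq_one_iff _).2 (hq0 u e))
  · intro a b c
    induction a using QuotientGroup.induction_on with | H u => ?_
    induction b using QuotientGroup.induction_on with | H v => ?_
    induction c using QuotientGroup.induction_on with | H w => ?_
    rw [← QuotientGroup.mk_mul, ← QuotientGroup.mk_mul, ← QuotientGroup.mk_mul,
      ← QuotientGroup.mk_mul]
    simp only [hq]
    rw [hkey (u * v) w, hkey u w, hkey v w, hk2]
    generalize qU (u * v) = x₁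
    generalize qU u = x₂
    generalize qU v = x₃
    generalize qU w = x₄
    generalize cls ⟨_, hcomm u w⟩ = x₅
    generalize cls ⟨_, hcomm v w⟩ = x₆
    exact pair_identity _ _ _ _ _ _
  · intro l a
    induction a using QuotientGroup.induction_on with | H u => ?_
    rw [hρV, hq, hq]
    show cls _ = cls _
    congr 1
    exact Subtype.ext ((map_mul (ρU l) u u).symm.trans (hsqfix l u))

end Two

/-- If X is a finite 2-group containing exactly three involutions, then the automorphism group of X is solvable. -/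
theorem result {X : Type*} [Group X] [Finite X] (h2 : IsPGroup 2 X) (h3 : Nat.card {x : X // orderOf x = 2} = 3) : Group.IsSolvable (MulAut X) := by
  exact main h2 h3

end Cfsg.Agent.S3117
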