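import Cfsg.Statements.S3122
import Cfsg.Agent.Lib.CoThreeM12.CzFinal
import Cfsg.Agent.Lib.CoThreeM12.CzExists
import Cfsg.Agent.Lib.CoThreeM12.CzControl

set_option autoImplicit false
open Cfsg

namespace Cfsg.Agent.S3122

/-- Let G be a non-abelian finite simple group containing an involution t whose centralizer is isomorphic to the direct product of a group of order 2 and the Mathieu group of degree 12. Then G is isomorphic to the third Conway group. -/
theorem result {G : Type*} [Group G] [Finite G] [IsSimpleGroup G] (hG : ¬ IsMulCommutative G)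
    (t : G) (ht : orderOf t = 2)
    (hC : Nonempty (↥(Subgroup.centralizer ({t} : Set G)) ≃* Multiplicative (ZMod 2) × ↥Cfsg.Spor.M12)) :
    Cfsg.Spor.IsoCo3 G := by
  exact Cfsg.Lib.CoThreeM12.iso_co3_of_twelve (fun _ T => T.exists_xhom) (fun X h => X.range_eq h) ht hC
    (Cfsg.Lib.CoThreeM12.mem_residual_of_simple hG t)

end Cfsg.Agent.S3122
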