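import Cfsg.Statements.S3149
import Cfsg.Agent.Lib.StdRu.General
import Cfsg.Agent.Lib.StdRu.Model
import Cfsg.Agent.Lib.StdRu.Exclude
import Cfsg.Agent.Lib.StdRu.Witness

set_option autoImplicit false
open Cfsg

namespace Cfsg.Agent.S3149

/-- Let G be a finite group with no nontrivial normal subgroup of odd order and A a standard subgroup of G which is a double cover of the Rudvalis group (the centre of A has order 2 and A modulo its centre is isomorphic to the Rudvalis group). If the centralizer of A in G has cyclic Sylow 2-subgroups, then A is normal in G. -/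
theorem result {G : Type*} [Group G] [Finite G] (hO : Cfsg.oddCore G = ⊥) (A : Subgroup G) (hA : Cfsg.IsStandardSubgroup A)
    (hZ : Nat.card ↥(Subgroup.center ↥A) = 2) (hAX : Cfsg.Spor.IsoRu (↥A ⧸ Subgroup.center ↥A))
    (hR : ∀ R : Sylow 2 ↥(Subgroup.centralizer (A : Set G)), IsCyclic ↥(R : Subgroup ↥(Subgroup.centralizer (A : Set G)))) : A.Normal := by
  have hperf : commutator ↥A = ⊤ := Group.isPerfect_def.1 hA.1.1
  obtain ⟨e⟩ := Cfsg.Lib.StdRu.nonempty_equiv hperf hZ hAX
  set z : ↥A := e.symm Cfsg.Lib.StdRu.zH with hzdef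
  have hz1 : (z : G) ≠ 1 := fun h => by
    have h1 : z = 1 := Subtype.ext h
    rw [hzdef, MulEquiv.map_eq_one_iff] at h1
    exact Cfsg.Lib.StdRu.zH_ne h1
  have hz2 : z * z = 1 := by
    rw [hzdef, ← map_mul, Cfsg.Lib.StdRu.zH_sq, map_one]
  have hcomm : ∀ a : ↥A, a * z = z * a := fun a => e.injective (by
    rw [map_mul, map_mul, hzdef, e.apply_symm_apply, Cfsg.Lib.StdRu.zH_comm])
  have S : Cfsg.Lib.StdCo0.Situation A (z : G) :=
    { std := hA
      mem := z.2
      ord := orderOf_eq_prime (by rw [pow_two]; exact congrArg Subtype.val hz2) hz1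
      zen := fun a ha hc => by
        have h : e ⟨a, ha⟩ ∈ Subgroup.center Cfsg.Lib.StdRu.DoubleRu := Subgroup.mem_center_iff.2 fun y => by
          obtain ⟨b, rfl⟩ := e.surjective y
          rw [← map_mul, ← map_mul]
          exact congrArg e (Subtype.ext (hc b b.2).eq.symm)
        rcases Cfsg.Lib.StdRu.center_double h with h | h
        · exact Or.inl (congrArg Subtype.val ((MulEquiv.map_eq_one_iff e).1 h))
        · refine Or.inr (congrArg Subtype.val (e.injective (h.trans ?_) : (⟨a, ha⟩ : ↥A) = z))
          rw [hzdef, e.apply_symm_apply]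
      com := fun a ha => (congrArg Subtype.val (hcomm ⟨a, ha⟩)).symm
      inner := fun φ => by
        obtain ⟨h, hh⟩ := Cfsg.Lib.StdRu.inner_double (e.symm.trans (φ.trans e))
        refine ⟨e.symm h, fun x => e.injective ?_⟩
        have h1 := hh (e x)
        simp only [MulEquiv.trans_apply, MulEquiv.symm_apply_apply] at h1
        rw [h1, map_mul, map_mul, map_inv, e.apply_symm_apply]
      cyc := hR }
  exact Cfsg.Lib.StdRu.normal_of_roots hO S e Cfsg.Lib.StdRu.zH
    (by rw [Subtype.coe_eta, hzdef, e.apply_symm_apply])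
    (fun _ => Cfsg.Lib.StdRu.exists_witness) (fun _ _ _ => Cfsg.Lib.StdRu.exclude)

end Cfsg.Agent.S3149
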