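import Cfsg.Statements.S3153
import Cfsg.Agent.Lib.Sig.PComponent
import Cfsg.Agent.Lib.ZStar.Basic

set_option autoImplicit false
open Cfsg

namespace Cfsg.Agent.S3153

open scoped commutatorElement

variable {X : Type*} [Group X]

theorem exists_fixed_mul_inverted {t x : X} (ht : t * t = 1) (hodd : Odd (orderOf (x⁻¹ * (t * x * t)))) :
    ∃ w : X, w ∈ Subgroup.zpowers (x⁻¹ * (t * x * t)) ∧ t * (x * w) * t = x * w ∧ t * w * t = w⁻¹ := by
  set z := x⁻¹ * (t * x * t) with hz
  obtain ⟨k, hk⟩ := hodd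
  have htinv : t⁻¹ = t := inv_eq_of_mul_eq_one_right ht
  have hzz : t * z * t = z⁻¹ := by
    rw [hz]; simp [mul_assoc, htinv, ← mul_assoc t t, ht]
  set w := z ^ (k + 1) with hw
  have hw2 : w * w = z := by
    rw [hw, ← pow_add, show k + 1 + (k + 1) = (2 * k + 1) + 1 by omega, pow_succ, ← hk,
      pow_orderOf_eq_one, one_mul]
  have hconj : t * w * t = w⁻¹ := by
    have h1 : t * w * t⁻¹ = (t * z * t⁻¹) ^ (k + 1) := conj_pow.symm
    rwa [htinv, hzz, inv_pow] at h1
  refine ⟨w, Subgroup.npow_mem_zpowers z _, ?_, hconj⟩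
  calc t * (x * w) * t = (t * x * t) * (t * w * t) := by simp [mul_assoc, ← mul_assoc t t, ht]
    _ = (x * z) * w⁻¹ := by rw [hconj, hz, mul_inv_cancel_left]
    _ = x * w := by rw [← hw2, mul_assoc, mul_inv_cancel_right]

/-- An element of odd order conjugated to its inverse by an element of odd order is trivial. -/
theorem eq_one_of_conj_inv {c i : X} (hc : Odd (orderOf c)) (hi : Odd (orderOf i))
    (h : i * c * i⁻¹ = c⁻¹) : c = 1 := by
  have h2 : Commute (i ^ 2) c := by
    have : i ^ 2 * c * (i ^ 2)⁻¹ = c := by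
      calc i ^ 2 * c * (i ^ 2)⁻¹ = i * (i * c * i⁻¹) * i⁻¹ := by rw [pow_two]; group
        _ = c := by rw [h, ← conj_inv, h, inv_inv]
    exact mul_inv_eq_iff_eq_mul.1 this
  obtain ⟨k, hk⟩ := hi
  have h4 : i = (i ^ 2) ^ (k + 1) := by
    rw [← pow_mul, show 2 * (k + 1) = orderOf i + 1 by omega, pow_succ, pow_orderOf_eq_one, one_mul]
  have h3 : Commute i c := by rw [h4]; exact h2.pow_left _
  rw [h3.eq, mul_inv_cancel_right] at h
  have hd : orderOf c ∣ 2 := orderOf_dvd_of_pow_eq_one (by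
    rw [pow_two]; exact mul_eq_one_iff_eq_inv.2 h)
  rcases (Nat.dvd_prime Nat.prime_two).1 hd with h1 | h1
  · exact orderOf_eq_one_iff.1 h1
  · exact absurd (h1 ▸ hc) (by decide)

theorem orderOf_two_of_sq {x : X} (h : x * x = 1) (h1 : x ≠ 1) : orderOf x = 2 :=
  orderOf_eq_prime (by rw [pow_two]; exact h) h1

/-- In a subgroup of 2-rank at most one, commuting involutions are equal. -/
theorem eq_of_rank_one [Finite X] {C : Subgroup X} (hr : Cfsg.PRankLE 2 1 ↥C) {a b : X} (ha : a ∈ C) (hb : b ∈ C)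
    (ha2 : a * a = 1) (ha1 : a ≠ 1) (hb2 : b * b = 1) (hb1 : b ≠ 1) (hab : a * b = b * a) : a = b := by
  by_contra hne
  set A : Subgroup ↥C := Subgroup.closure ({⟨a, ha⟩, ⟨b, hb⟩} : Set ↥C) with hA
  have hcomm : IsMulCommutative ↥A := Subgroup.isMulCommutative_closure (by
    rintro x (rfl | rfl) y (rfl | rfl)
    · rfl
    · exact Subtype.ext hab
    · exact Subtype.ext hab.symm
    · rfl)
  have hsq : ∀ x ∈ A, x ^ 2 = 1 := by
    intro x hx
    induction hx using Subgroup.closure_induction with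
    | mem y hy => rcases hy with rfl | rfl <;> exact Subtype.ext (by simpa [pow_two])
    | one => exact one_pow _
    | mul y z hy hz h1 h2 =>
      have : Commute y z := congrArg Subtype.val (hcomm.is_comm.comm (⟨y, hy⟩ : ↥A) ⟨z, hz⟩)
      rw [this.mul_pow, h1, h2, one_mul]
    | inv y hy h1 => rw [inv_pow, h1, inv_one]
  have hcard := hr A hcomm hsq
  have h3 : 3 ≤ Nat.card ↥A := by
    let f : Fin 3 → ↥A := ![1, ⟨⟨a, ha⟩, Subgroup.subset_closure (by simp)⟩,
      ⟨⟨b, hb⟩, Subgroup.subset_closure (by simp)⟩]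
    have hf : Function.Injective f := by
      intro i j hij
      have := congrArg (fun x : ↥A => ((x : ↥C) : X)) hij
      fin_cases i <;> fin_cases j <;> first | rfl | exfalso
      all_goals simp [f] at this
      all_goals first | exact ha1 this | exact ha1 this.symm | exact hb1 this | exact hb1 this.symm | exact hne this | exact hne this.symm
    simpa using Nat.card_le_card_of_injective f hf
  omega

/-- Let X be a finite group and P a standard subgroup of X whose centralizer has 2-rank at most 1 and whose centre has odd order. Let S be a Sylow 2-subgroup of N_X(P) and t an involution of S centralizing P. Suppose some element g of X normalizes S, does not lie in S, has its square in S, and conjugates t into P·C_X(P). Then P commutes elementwise with the largest normal odd-order subgroup O(X) of X; consequently every t-invariant 2-component of X containing P is quasisimple. -/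
theorem result {X : Type*} [Group X] [Finite X] (P : Subgroup X) (hP : Cfsg.IsStandardSubgroup P)
    (hr : Cfsg.PRankLE 2 1 ↥(Subgroup.centralizer (P : Set X))) (hZ : Odd (Nat.card ↥(Subgroup.center ↥P)))
    (S : Sylow 2 ↥(Subgroup.normalizer (P : Set X))) (t : X) (ht : orderOf t = 2) (htS : t ∈ (S : Subgroup ↥(Subgroup.normalizer (P : Set X))).map (Subgroup.normalizer (P : Set X)).subtype)
    (htP : t ∈ Subgroup.centralizer (P : Set X))
    (g : X) (hgN : ∀ s ∈ (S : Subgroup ↥(Subgroup.normalizer (P : Set X))).map (Subgroup.normalizer (P : Set X)).subtype, g * s * g⁻¹ ∈ (S : Subgroup ↥(Subgroup.normalizer (P : Set X))).map (Subgroup.normalizer (P : Set X)).subtype)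
    (hgS : g ∉ (S : Subgroup ↥(Subgroup.normalizer (P : Set X))).map (Subgroup.normalizer (P : Set X)).subtype) (hg2 : g ^ 2 ∈ (S : Subgroup ↥(Subgroup.normalizer (P : Set X))).map (Subgroup.normalizer (P : Set X)).subtype)
    (hgt : g * t * g⁻¹ ∈ P ⊔ Subgroup.centralizer (P : Set X)) :
    ⁅P, Cfsg.oddCore X⁆ = ⊥ ∧
      ∀ L : Subgroup X, Cfsg.IsPComponent 2 L → P ≤ L → (∀ l ∈ L, t * l * t⁻¹ ∈ L) → Cfsg.IsQuasisimple ↥L := by
  obtain ⟨hPqs, ⟨-, hTI⟩, -, hNeq⟩ := hP
  set C := Subgroup.centralizer (P : Set X) with hC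
  set S' := (S : Subgroup ↥(Subgroup.normalizer (P : Set X))).map (Subgroup.normalizer (P : Set X)).subtype with hS'
  have hS'N : S' ≤ Subgroup.normalizer (P : Set X) := Subgroup.map_subtype_le _
  have hS'p : IsPGroup 2 S' := S.isPGroup'.map _
  have ht2 : t * t = 1 := by rw [← pow_two, ← ht, pow_orderOf_eq_one]
  have htinv : t⁻¹ = t := inv_eq_of_mul_eq_one_right ht2
  have ht1 : t ≠ 1 := fun h => by rw [h, orderOf_one] at ht; norm_num at ht
  -- `t` is the unique involution of `S ∩ C(P)`, hence central in `S`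
  have hS'C : ∀ s ∈ S', Commute s t := by
    haveI : Nontrivial ↥(S' ⊓ C) := ⟨⟨⟨t, htS, htP⟩, 1, fun h => ht1 (congrArg Subtype.val h)⟩⟩
    have hp := hS'p.to_le (inf_le_left : S' ⊓ C ≤ S')
    haveI := hp.center_nontrivial
    obtain ⟨k, hk, hcard⟩ := (hp.to_subgroup (Subgroup.center ↥(S' ⊓ C))).nontrivial_iff_card.1 inferInstance
    obtain ⟨z, hz⟩ := exists_prime_orderOf_dvd_card' 2 (hcard ▸ dvd_pow_self 2 (by omega) :
      2 ∣ Nat.card ↥(Subgroup.center ↥(S' ⊓ C)))
    obtain ⟨⟨⟨z, hzS, hzC⟩, hzc⟩, hz⟩ : ∃ z : ↥(Subgroup.center ↥(S' ⊓ C)), orderOf z = 2 := ⟨z, hz⟩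
    replace hz : orderOf z = 2 := by rw [← hz, ← Subgroup.orderOf_coe, ← Subgroup.orderOf_coe]
    have hz2 : z * z = 1 := by rw [← pow_two, ← hz, pow_orderOf_eq_one]
    have hz1 : z ≠ 1 := fun h => by rw [h, orderOf_one] at hz; norm_num at hz
    have huniq : ∀ u : X, u ∈ S' → u ∈ C → u * u = 1 → u ≠ 1 → u = z := fun u hu hu' h2 h1 =>
      eq_of_rank_one hr hu' hzC h2 h1 hz2 hz1
        (congrArg Subtype.val (Subgroup.mem_center_iff.1 hzc ⟨u, hu, hu'⟩))
    intro s hs
    have hsN : s ∈ Subgroup.normalizer (C : Set X) := hNeq ▸ hS'N hs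
    have h1 : s * t * s⁻¹ = t := by
      rw [huniq _ (mul_mem (mul_mem hs htS) (inv_mem hs)) ((Subgroup.mem_normalizer_iff.1 hsN t).1 htP)
        (by calc s * t * s⁻¹ * (s * t * s⁻¹) = s * (t * t) * s⁻¹ := by group
              _ = 1 := by rw [ht2, mul_one, mul_inv_cancel]) (fun h => ht1 (conj_eq_one_iff.1 h)),
        huniq t htS htP ht2 ht1]
    exact mul_inv_eq_iff_eq_mul.1 h1
  have hCt : ∀ x : X, Commute x t → x ∈ Subgroup.normalizer (P : Set X) := by
    intro x hx
    rw [hNeq]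
    by_contra hxC
    have h1 : t ∈ C ⊓ C.map (MulAut.conj x).toMonoidHom :=
      ⟨htP, t, htP, by show x * t * x⁻¹ = t; rw [hx.eq, mul_inv_cancel_right]⟩
    have h2 := (hTI x hxC).of_dvd_nat (Subgroup.orderOf_dvd_natCard _ h1)
    rw [ht] at h2
    exact absurd h2 (by decide)
  -- `g` does not normalize `P`
  have hgN' : g ∉ Subgroup.normalizer (P : Set X) := by
    intro hg
    have hg2' : IsPGroup 2 (Subgroup.zpowers g) := by
      rintro ⟨_, i, rfl⟩
      obtain ⟨k, hk⟩ := hS'p ⟨g ^ 2, hg2⟩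
      refine ⟨k + 1, Subtype.ext ?_⟩
      have hk' : (g ^ 2) ^ 2 ^ k = 1 := congrArg Subtype.val hk
      show (g ^ i) ^ 2 ^ (k + 1) = 1
      rw [← zpow_natCast, ← zpow_mul, mul_comm, zpow_mul, zpow_natCast, pow_succ', pow_mul, hk',
        one_zpow]
    have hnorm : Subgroup.zpowers g ≤ Subgroup.normalizer (S' : Set X) := by
      rw [Subgroup.zpowers_le]
      exact Subgroup.mem_normalizer_fintype hgN
    have hsup : IsPGroup 2 ↥(Subgroup.zpowers g ⊔ S') :=
      IsPGroup.to_sup_of_normal_right' hg2' hS'p hnorm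
    have hle : Subgroup.zpowers g ⊔ S' ≤ Subgroup.normalizer (P : Set X) := sup_le (Subgroup.zpowers_le.2 hg) hS'N
    have h3 := S.is_maximal' (hsup.comap_of_injective (Subgroup.normalizer (P : Set X)).subtype (Subgroup.normalizer (P : Set X)).subtype_injective)
      (fun x hx => (le_sup_right : S' ≤ _) ⟨x, hx, rfl⟩)
    refine hgS ⟨⟨g, hg⟩, ?_, rfl⟩
    show (⟨g, hg⟩ : ↥(Subgroup.normalizer (P : Set X))) ∈ (S : Subgroup _)
    rw [← h3]
    exact (le_sup_left : Subgroup.zpowers g ≤ Subgroup.zpowers g ⊔ S') (Subgroup.mem_zpowers g)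
  set t' := g * t * g⁻¹ with ht'
  have ht'S : t' ∈ S' := hgN t htS
  have ht'2 : t' * t' = 1 := by
    calc t' * t' = g * (t * t) * g⁻¹ := by rw [ht']; group
      _ = 1 := by rw [ht2, mul_one, mul_inv_cancel]
  have ht't : Commute t' t := hS'C t' ht'S
  have ht'1 : t' ≠ 1 := fun h => ht1 (conj_eq_one_iff.1 h)
  have hne : t' ≠ t := fun h => hgN' (hCt g (mul_inv_eq_iff_eq_mul.1 h))
  -- `t' = p c` with `p` an involution of `P`
  have hPN : P ≤ Subgroup.normalizer (P : Set X) := Subgroup.le_normalizer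
  obtain ⟨p₀, hp₀, c₀, hc₀, hpc⟩ : ∃ p₀ ∈ P, ∃ c₀ ∈ C, t' = p₀ * c₀ := by
    have h1 : t' ∈ ((P ⊔ C : Subgroup X) : Set X) := hgt
    rw [Subgroup.coe_mul_of_right_le_normalizer_left P C (Subgroup.centralizer_le_normalizer _)] at h1
    obtain ⟨a, ha, b, hb, hab⟩ := Set.mem_mul.1 h1
    exact ⟨a, ha, b, hb, hab.symm⟩
  have hcomm₀ : Commute p₀ c₀ := hc₀ p₀ hp₀
  have hsqz : p₀ * p₀ = (c₀ * c₀)⁻¹ := by
    refine eq_inv_of_mul_eq_one_left ?_
    rw [← ht'2, hpc]
    simp only [mul_assoc]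
    rw [← mul_assoc c₀ p₀, ← hcomm₀.eq, mul_assoc]
  set zP : ↥P := ⟨p₀ * p₀, mul_mem hp₀ hp₀⟩
  have hzP : zP ∈ Subgroup.center ↥P := Subgroup.mem_center_iff.2 fun y => Subtype.ext (by
    show (y : X) * (p₀ * p₀) = p₀ * p₀ * y
    rw [hsqz]
    exact Subgroup.mem_centralizer_iff.1 (inv_mem (mul_mem hc₀ hc₀)) y y.2)
  have hodd : Odd (orderOf (p₀ * p₀)) := by
    have h1 := hZ.of_dvd_nat (Subgroup.orderOf_dvd_natCard _ hzP)
    rwa [← Subgroup.orderOf_coe] at h1
  set m := orderOf (p₀ * p₀)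
  have ht'm : t' ^ m = t' := by
    obtain ⟨k, hk⟩ := hodd
    rw [hk, pow_succ, pow_mul, pow_two, ht'2, one_pow, one_mul]
  set p := p₀ ^ m with hp_def
  set c := c₀ ^ m with hc_def
  have hpP : p ∈ P := pow_mem hp₀ _
  have hcC : c ∈ C := pow_mem hc₀ _
  have ht'pc : t' = p * c := by rw [← ht'm, hpc, hcomm₀.mul_pow]
  have hp2 : p * p = 1 := by
    rw [hp_def, ← (Commute.refl p₀).mul_pow]
    exact pow_orderOf_eq_one _
  have hpt : Commute p t := htP p hpP
  have hpcc : Commute p c := hcC p hpP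
  have hc2 : c * c = 1 := by
    have h1 : p * p * (c * c) = 1 := by
      rw [← ht'2, ht'pc]; simp only [mul_assoc]
      rw [← mul_assoc c p, ← hpcc.eq, mul_assoc]
    rwa [hp2, one_mul] at h1
  have hct : Commute c t := by
    have h1 : c = p⁻¹ * t' := by rw [ht'pc, inv_mul_cancel_left]
    rw [h1]; exact hpt.inv_left.mul_left ht't
  have hc1t : c = 1 ∨ c = t := by
    by_contra h
    push Not at h
    exact h.2 (eq_of_rank_one hr hcC htP hc2 h.1 ht2 ht1 hct.eq)
  have hp1 : p ≠ 1 := fun h => by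
    rw [h, one_mul] at ht'pc
    rcases hc1t with h1 | h1
    · exact ht'1 (ht'pc.trans h1)
    · exact hne (ht'pc.trans h1)
  -- the core
  set O := Cfsg.oddCore X with hO
  haveI hOn : O.Normal := by rw [hO]; infer_instance
  have hOodd : Odd (Nat.card O) := Cfsg.Lib.ZStar.odd_card_oddCore
  have hOo : ∀ x ∈ O, Odd (orderOf x) := fun x hx => hOodd.of_dvd_nat (Subgroup.orderOf_dvd_natCard _ hx)
  have hPO : ∀ x (hx : x ∈ P), x ∈ O → (⟨x, hx⟩ : ↥P) ∈ Subgroup.center ↥P := by
    intro x hx hxO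
    rcases Cfsg.Lib.Core.quasisimple_normal hPqs (N := O.subgroupOf P) with h | h
    · exact h hxO
    · exfalso
      have h2 : p ∈ O := Subgroup.subgroupOf_eq_top.1 h hpP
      have := hOo p h2
      rw [orderOf_two_of_sq hp2 hp1] at this
      exact absurd this (by decide)
  have hD : ∀ d ∈ O, Commute d t → ∀ x ∈ P, Commute d x := by
    intro d hd hdt x hx
    have hdP : ∀ y ∈ P, d * y * d⁻¹ ∈ P := fun y hy => (Subgroup.mem_normalizer_iff.1 (hCt d hdt) y).1 hy
    have hcen : ∀ y : ↥P, (⟨⁅d, (y : X)⁆, by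
        rw [commutatorElement_def]; exact mul_mem (hdP y y.2) (inv_mem y.2)⟩ : ↥P) ∈
        Subgroup.center ↥P := fun y => hPO _ _ (by
      rw [commutatorElement_def, show d * (y : X) * d⁻¹ * (y : X)⁻¹ = d * ((y : X) * d⁻¹ * (y : X)⁻¹) by group]
      exact mul_mem hd (hOn.conj_mem _ (inv_mem hd) _))
    let φ : ↥P →* ↥(Subgroup.center ↥P) := MonoidHom.mk' (fun y => ⟨_, hcen y⟩) fun y y' => by
      apply Subtype.ext; apply Subtype.ext
      show ⁅d, (y : X) * y'⁆ = ⁅d, (y : X)⁆ * ⁅d, (y' : X)⁆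
      have h1 : (y : X) * ⁅d, (y' : X)⁆ = ⁅d, (y' : X)⁆ * y :=
        congrArg Subtype.val (Subgroup.mem_center_iff.1 (hcen y') y)
      calc ⁅d, (y : X) * y'⁆ = ⁅d, (y : X)⁆ * (y * ⁅d, (y' : X)⁆ * (y : X)⁻¹) := by
            simp only [commutatorElement_def]; group
        _ = _ := by rw [h1, mul_inv_cancel_right]
    have hk : (⊤ : Subgroup ↥P) ≤ φ.ker := by
      rw [← Cfsg.Lib.Core.quasisimple_commutator hPqs, commutator_def, Subgroup.commutator_le]
      intro a _ b _
      rw [MonoidHom.mem_ker, map_commutatorElement, commutatorElement_eq_one_iff_mul_comm]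
      exact Subtype.ext (Subgroup.mem_center_iff.1 (φ b).2 (φ a : ↥P))
    have h2 : φ ⟨x, hx⟩ = 1 := MonoidHom.mem_ker.1 (hk (Subgroup.mem_top _))
    have h3 : ⁅d, x⁆ = 1 := congrArg (fun z : ↥(Subgroup.center ↥P) => ((z : ↥P) : X)) h2
    exact commutatorElement_eq_one_iff_mul_comm.1 h3
  have hDt' : ∀ d ∈ O, Commute d t → Commute d t' := fun d hd hdt => by
    rw [ht'pc]
    refine (hD d hd hdt p hpP).mul_right ?_
    rcases hc1t with h | h <;> rw [h]
    · exact Commute.one_right d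
    · exact hdt
  have hD' : ∀ d ∈ O, Commute d t' → Commute d t := by
    set D₁ := O ⊓ Subgroup.centralizer ({t} : Set X)
    set D₂ := O ⊓ Subgroup.centralizer ({t'} : Set X)
    have h1 : D₁ ≤ D₂ := fun d hd => ⟨hd.1, Subgroup.mem_centralizer_singleton_iff.2
      (hDt' d hd.1 (Subgroup.mem_centralizer_singleton_iff.1 hd.2))⟩
    have h2 : D₂ ≤ D₁.map (MulAut.conj g).toMonoidHom := fun d hd => by
      refine ⟨g⁻¹ * d * g, ⟨by simpa using hOn.conj_mem d hd.1 g⁻¹,
        Subgroup.mem_centralizer_singleton_iff.2 ?_⟩, by simp [mul_assoc]⟩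
      have h3 : d * (g * t * g⁻¹) = g * t * g⁻¹ * d := Subgroup.mem_centralizer_singleton_iff.1 hd.2
      calc g⁻¹ * d * g * t = g⁻¹ * (d * (g * t * g⁻¹)) * g := by group
        _ = _ := by rw [h3]; group
    have h3 : Nat.card D₂ ≤ Nat.card D₁ :=
      (Subgroup.card_le_of_le h2).trans
        (Subgroup.card_map_of_injective (MulAut.conj g).injective).le
    intro d hd hdt
    have h4 : d ∈ D₁ := (Subgroup.eq_of_le_of_card_ge h1 h3).ge
      ⟨hd, Subgroup.mem_centralizer_singleton_iff.2 hdt⟩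
    exact Subgroup.mem_centralizer_singleton_iff.1 h4.2
  set u := t * t' with hu
  have hufix : ∀ x ∈ O, Commute u x := by
    intro x hx
    have hconjO : ∀ y ∈ O, ∀ s : X, s * s = 1 → s * y * s ∈ O := fun y hy s hs => by
      have := hOn.conj_mem y hy s
      rwa [inv_eq_of_mul_eq_one_right hs] at this
    -- inverted elements of `t` are inverted by `t'`
    have hinv : ∀ y ∈ O, t * y * t = y⁻¹ → t' * y * t' = y⁻¹ := by
      intro y hy hyt
      obtain ⟨w, hwz, hfix, hwi⟩ := exists_fixed_mul_inverted ht'2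
        (hOo _ (mul_mem (inv_mem hy) (hconjO y hy t' ht'2)))
      have hwO : w ∈ O := (Subgroup.zpowers_le.2 (mul_mem (inv_mem hy) (hconjO y hy t' ht'2))) hwz
      have htinv' : t'⁻¹ = t' := inv_eq_of_mul_eq_one_right ht'2
      set e := y * w with he
      have het' : Commute e t' := by
        show e * t' = t' * e
        calc e * t' = t' * e * t' * t' := by rw [hfix]
          _ = t' * e := by rw [mul_assoc, ht'2, mul_one]
      have het : t * e * t = e := by rw [← (hD' e (mul_mem hy hwO) het').eq, mul_assoc, ht2, mul_one]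
      set i := w⁻¹ with hi
      have hyi : y = e * i := by rw [he, hi, mul_inv_cancel_right]
      set j := t * i * t with hj
      have hjt : t' * j * t' = j⁻¹ := by
        calc t' * (t * i * t) * t' = t * (t' * i * t') * t := by
              rw [← mul_assoc t', ← mul_assoc t', ht't.eq]; simp only [mul_assoc]; rw [← ht't.eq]
          _ = (t * i * t)⁻¹ := by
              rw [hi, show t' * w⁻¹ * t' = (t' * w * t')⁻¹ by simp [mul_inv_rev, htinv', mul_assoc], hwi,
                inv_inv]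
              simp [mul_inv_rev, htinv, mul_assoc]
      have h1 : y⁻¹ = e * j := by
        rw [← hyt, hyi, hj]
        calc t * (e * i) * t = (t * e * t) * (t * i * t) := by simp [mul_assoc, ← mul_assoc t t, ht2]
          _ = e * (t * i * t) := by rw [het]
      have hit : t' * i * t' = i⁻¹ := by
        rw [hi, show t' * w⁻¹ * t' = (t' * w * t')⁻¹ by simp [mul_inv_rev, htinv', mul_assoc], hwi]
      have h2 : t' * y⁻¹ * t' = i * e⁻¹ := by
        have h3 : t' * y * t' = e * i⁻¹ := by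
          rw [hyi]
          calc t' * (e * i) * t' = (t' * e * t') * (t' * i * t') := by simp [mul_assoc, ← mul_assoc t' t', ht'2]
            _ = _ := by rw [hfix, hit]
        rw [show t' * y⁻¹ * t' = (t' * y * t')⁻¹ by simp [mul_inv_rev, htinv', mul_assoc], h3]
        group
      have h4 : t' * y⁻¹ * t' = e * j⁻¹ := by
        rw [h1]
        calc t' * (e * j) * t' = (t' * e * t') * (t' * j * t') := by simp [mul_assoc, ← mul_assoc t' t', ht'2]
          _ = _ := by rw [hfix, hjt]
      have h5 : j = e⁻¹ * (i⁻¹ * e⁻¹) := by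
        rw [eq_inv_mul_iff_mul_eq, ← h1, hyi, mul_inv_rev]
      have h6 : i⁻¹ * (e * e) * i⁻¹⁻¹ = (e * e)⁻¹ := by
        have h7 : e * (e⁻¹ * (i⁻¹ * e⁻¹))⁻¹ = i * e⁻¹ := by rw [← h5, ← h4, h2]
        calc i⁻¹ * (e * e) * i⁻¹⁻¹ = i⁻¹ * (e * (e⁻¹ * (i⁻¹ * e⁻¹))⁻¹) * e⁻¹ := by group
          _ = (e * e)⁻¹ := by rw [h7]; group
      have hee : e * e = 1 := eq_one_of_conj_inv (hOo _ (mul_mem (mul_mem hy hwO) (mul_mem hy hwO)))
        (hOo _ (inv_mem (inv_mem hwO))) h6
      have he1 : e = 1 := by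
        have hd : orderOf e ∣ 2 := orderOf_dvd_of_pow_eq_one (by rw [pow_two]; exact hee)
        rcases (Nat.dvd_prime Nat.prime_two).1 hd with h | h
        · exact orderOf_eq_one_iff.1 h
        · exact absurd (h ▸ hOo _ (mul_mem hy hwO)) (by decide)
      rw [hyi, he1, one_mul]
      exact hit
    obtain ⟨w, hwz, hfix, hwi⟩ := exists_fixed_mul_inverted ht2
      (hOo _ (mul_mem (inv_mem hx) (hconjO x hx t ht2)))
    have hwO : w ∈ O := (Subgroup.zpowers_le.2 (mul_mem (inv_mem hx) (hconjO x hx t ht2))) hwz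
    have het : Commute (x * w) t := by
      show x * w * t = t * (x * w)
      calc x * w * t = t * (x * w) * t * t := by rw [hfix]
        _ = t * (x * w) := by rw [mul_assoc, ht2, mul_one]
    have h1 : Commute u (x * w) := het.symm.mul_left (hDt' _ (mul_mem hx hwO) het).symm
    have h2 : Commute u w := by
      have htinv' : t'⁻¹ = t' := inv_eq_of_mul_eq_one_right ht'2
      show t * t' * w = w * (t * t')
      have h3 := hinv w hwO hwi
      calc t * t' * w = t * (t' * w * t') * t' := by simp [mul_assoc, ht'2]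
        _ = t * w⁻¹ * t' := by rw [h3]
        _ = (t * w * t)⁻¹ * (t * t') := by simp [mul_inv_rev, htinv, mul_assoc, ← mul_assoc t t, ht2]
        _ = w * (t * t') := by rw [hwi, inv_inv]
    have := h1.mul_right h2.inv_right
    rwa [mul_inv_cancel_right] at this
  -- `P` centralizes `O`
  set M := (Subgroup.centralizer (O : Set X)).subgroupOf P with hM
  have hucomm : ∀ x ∈ P, ⁅p, x⁆ = ⁅u, x⁆ := by
    intro x hx
    have hux : u = p * (t * c) := by
      rw [hu, ht'pc, ← mul_assoc, ← hpt.eq, mul_assoc]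
    have hk : Commute (t * c) x := (htP x hx : x * t = t * x) |> fun h => (Commute.mul_right h (hcC x hx)).symm
    rw [hux, commutatorElement_def, commutatorElement_def, mul_inv_rev]
    calc p * x * p⁻¹ * x⁻¹ = p * ((t * c) * x * (t * c)⁻¹) * p⁻¹ * x⁻¹ := by rw [hk.eq, mul_inv_cancel_right]
      _ = _ := by group
  have hPO' : P ≤ Subgroup.centralizer (O : Set X) := by
    have huC : u ∈ Subgroup.centralizer (O : Set X) := fun y hy => (hufix y hy).symm.eq
    rcases Cfsg.Lib.Core.quasisimple_normal hPqs (N := M) with h | h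
    · exfalso
      have hp2c : ∀ y : ↥P, ⁅(⟨p, hpP⟩ : ↥P), y⁆ ∈ Subgroup.center ↥P := fun y => h (by
        show ⁅p, (y : X)⁆ ∈ Subgroup.centralizer (O : Set X)
        rw [hucomm y y.2, commutatorElement_def, mul_assoc (u * y), mul_assoc u]
        exact mul_mem huC (by
          have := (inferInstance : (Subgroup.centralizer (O : Set X)).Normal).conj_mem _ (inv_mem huC) (y : X)
          rwa [mul_assoc] at this))
      haveI := hPqs.1
      have hpc' : (⟨p, hpP⟩ : ↥P) ∈ Subgroup.center ↥P := by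
        refine Subgroup.mem_center_iff.2 fun y => ?_
        let φ : ↥P →* ↥(Subgroup.center ↥P) := MonoidHom.mk' (fun y => ⟨_, hp2c y⟩) fun y y' => by
          apply Subtype.ext
          show ⁅(⟨p, hpP⟩ : ↥P), y * y'⁆ = ⁅(⟨p, hpP⟩ : ↥P), y⁆ * ⁅(⟨p, hpP⟩ : ↥P), y'⁆
          calc ⁅(⟨p, hpP⟩ : ↥P), y * y'⁆ = ⁅(⟨p, hpP⟩ : ↥P), y⁆ * (y * ⁅(⟨p, hpP⟩ : ↥P), y'⁆ * y⁻¹) := by
                simp only [commutatorElement_def]; group
            _ = _ := by rw [Subgroup.mem_center_iff.1 (hp2c y') y, mul_inv_cancel_right]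
        have hk : (⊤ : Subgroup ↥P) ≤ φ.ker := by
          rw [← Cfsg.Lib.Core.quasisimple_commutator hPqs, commutator_def, Subgroup.commutator_le]
          intro a _ b _
          rw [MonoidHom.mem_ker, map_commutatorElement, commutatorElement_eq_one_iff_mul_comm]
          exact Subtype.ext (Subgroup.mem_center_iff.1 (φ b).2 (φ a : ↥P))
        exact (commutatorElement_eq_one_iff_mul_comm.1 (congrArg Subtype.val (hk (Subgroup.mem_top y)))).symm
      have := hZ.of_dvd_nat (Subgroup.orderOf_dvd_natCard _ hpc')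
      rw [← Subgroup.orderOf_coe, orderOf_two_of_sq hp2 hp1] at this
      exact absurd this (by decide)
    · exact Subgroup.subgroupOf_eq_top.1 h
  refine ⟨(Subgroup.commutator_eq_bot_iff_le_centralizer).2 hPO', fun L hL hPL _ => ?_⟩
  rw [Cfsg.Lib.Sig.isQuasisimple_pComponent_iff hL, Subgroup.commutator_eq_bot_iff_le_centralizer]
  refine le_trans ?_ (Subgroup.centralizer_le inf_le_left)
  show L ≤ Subgroup.centralizer (O : Set X)
  set K := L ⊓ Subgroup.centralizer (O : Set X) with hK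
  have hKL : K ≤ L := inf_le_left
  have hKn : (K.subgroupOf L).Normal := by rw [hK, Subgroup.inf_subgroupOf_left]; infer_instance
  have hKsn : K.IsSubnormal := by
    have := (Cfsg.Lib.Core.isSubnormal_map_subtype_iff hL.1 (K.subgroupOf L)).2 hKn.isSubnormal
    rwa [Subgroup.map_subgroupOf_eq_of_le hKL] at this
  set f := QuotientGroup.mk' (Cfsg.pPrimeCore 2 X)
  have hn : ((K.map f).subgroupOf (L.map f)).Normal := by
    refine (Subgroup.normal_subgroupOf_iff_le_normalizer (Subgroup.map_mono hKL)).2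
      ((Subgroup.map_mono ?_).trans (Subgroup.le_normalizer_map f))
    exact (Subgroup.normal_subgroupOf_iff_le_normalizer hKL).1 hKn
  have hmap : K.map f = L.map f := by
    rcases Cfsg.Lib.Core.quasisimple_normal hL.2.1.2 (N := (K.map f).subgroupOf (L.map f)) with h | h
    · exfalso
      have hab : ∀ a ∈ P, ∀ b ∈ P, f ⁅a, b⁆ = 1 := fun a ha b hb => by
        rw [map_commutatorElement, commutatorElement_eq_one_iff_mul_comm]
        have h1 := h (x := ⟨f a, a, hPL ha, rfl⟩) ⟨a, ⟨hPL ha, hPO' ha⟩, rfl⟩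
        exact (congrArg Subtype.val (Subgroup.mem_center_iff.1 h1 ⟨f b, b, hPL hb, rfl⟩)).symm
      have hPf : P ≤ f.ker := by
        rw [← Subgroup.isPerfect_iff.1 hPqs.1, Subgroup.commutator_le]
        exact hab
      rw [QuotientGroup.ker_mk'] at hPf
      have := hOo p (hPf hpP)
      rw [orderOf_two_of_sq hp2 hp1] at this
      exact absurd this (by decide)
    · exact le_antisymm (Subgroup.map_mono hKL) (Subgroup.subgroupOf_eq_top.1 h)
  exact (hL.2.2 K hKsn hKL hmap).ge.trans inf_le_right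

end Cfsg.Agent.S3153
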