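import Cfsg.Statements.S3154
import Cfsg.Agent.Lib.TwoFour.CoverLThreeFour

set_option autoImplicit false
open Cfsg
open Cfsg.Lib.TwoFour.LThreeFour

namespace Cfsg.Agent.S3154

/-- Let X be a finite quasisimple group whose centre is an elementary abelian 2-group and whose central quotient is isomorphic to the projective special linear group of dimension 3 over the field with 4 elements. Let T be a Sylow 2-subgroup of X and H ≠ K subgroups of T containing the centre Z(X) whose images in X/Z(X) are elementary abelian of order 16 (the two such subgroups of a Sylow 2-subgroup of the quotient). Then H and K are elementary abelian, H ∩ K is the centre of the subgroup they generate, and each of N_X(H), N_X(K) is a split extension of H, respectively K, by the projective special linear group of dimension 2 over the field with 4 elements (there is a complement isomorphic to that group). -/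
theorem result {X : Type*} [Group X] [Finite X] (hq : Cfsg.IsQuasisimple X) (hZ : Cfsg.IsElementaryAbelian 2 (Subgroup.center X))
    {F : Type*} [Field F] [Fintype F] (hF : Fintype.card F = 4) (hXL : Nonempty ((X ⧸ Subgroup.center X) ≃* Matrix.ProjectiveSpecialLinearGroup (Fin 3) F))
    (T : Sylow 2 X) (H K : Subgroup X) (hHK : H ≠ K) (hHT : H ≤ T) (hKT : K ≤ T) (hZH : Subgroup.center X ≤ H) (hZK : Subgroup.center X ≤ K)
    (hH : Cfsg.IsElementaryAbelian 2 (H.map (QuotientGroup.mk' (Subgroup.center X))) ∧ Nat.card ↥(H.map (QuotientGroup.mk' (Subgroup.center X))) = 16)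
    (hK : Cfsg.IsElementaryAbelian 2 (K.map (QuotientGroup.mk' (Subgroup.center X))) ∧ Nat.card ↥(K.map (QuotientGroup.mk' (Subgroup.center X))) = 16) :
    Cfsg.IsElementaryAbelian 2 H ∧ Cfsg.IsElementaryAbelian 2 K ∧
      H ⊓ K = (Subgroup.center ↥(H ⊔ K)).map (H ⊔ K).subtype ∧
      (∃ C : Subgroup X, C ≤ Subgroup.normalizer (H : Set X) ∧ C ⊓ H = ⊥ ∧ H ⊔ C = Subgroup.normalizer (H : Set X) ∧
        Nonempty (↥C ≃* Matrix.ProjectiveSpecialLinearGroup (Fin 2) F)) ∧
      (∃ C : Subgroup X, C ≤ Subgroup.normalizer (K : Set X) ∧ C ⊓ K = ⊥ ∧ K ⊔ C = Subgroup.normalizer (K : Set X) ∧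
        Nonempty (↥C ≃* Matrix.ProjectiveSpecialLinearGroup (Fin 2) F)) := by
  classical
  haveI : Fact (Nat.Prime 2) := ⟨Nat.prime_two⟩
  haveI : CharP F 2 := (CharP.charP_iff_prime_eq_zero Nat.prime_two).2 (two_zero hF)
  obtain ⟨e⟩ := hXL
  obtain ⟨Z, hZd⟩ : ∃ Z, Z = Subgroup.center X := ⟨_, rfl⟩
  have hZc : ∀ z ∈ Z, ∀ x, x * z = z * x := fun z hz x => by
    rw [hZd] at hz; exact Subgroup.mem_center_iff.1 hz x
  have hZ2 : ∀ z ∈ Z, z * z = 1 := fun z hz => by
    rw [← pow_two]; exact hZ.2 z (hZd ▸ hz)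
  obtain ⟨p₀, hp₀⟩ : ∃ p₀ : X →* Matrix.ProjectiveSpecialLinearGroup (Fin 3) F,
      p₀ = e.toMonoidHom.comp (QuotientGroup.mk' _) := ⟨_, rfl⟩
  obtain ⟨g, hg⟩ := exists_conj_upper hF ((T : Subgroup X).map p₀) (T.isPGroup'.map _)
  obtain ⟨p, hp⟩ : ∃ p : X →* Matrix.ProjectiveSpecialLinearGroup (Fin 3) F,
      p = (MulAut.conj g).toMonoidHom.comp p₀ := ⟨_, rfl⟩
  have hps : Function.Surjective p := by
    rw [hp, hp₀]
    exact (MulAut.conj g).surjective.comp (e.surjective.comp (QuotientGroup.mk'_surjective _))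
  have hpk : ∀ x, p x = 1 ↔ x ∈ Z := fun x => by
    rw [hp, hp₀, hZd]
    simp [QuotientGroup.eq_one_iff]
  have hker : p.ker = Z := Subgroup.ext fun x => (MonoidHom.mem_ker).trans (hpk x)
  have hTu : (T : Subgroup X).map p ≤ upper F := by
    rw [hp, ← Subgroup.map_map]; exact hg
  have main : ∀ A : Subgroup X, A ≤ T → Subgroup.center X ≤ A →
      Cfsg.IsElementaryAbelian 2 (A.map (QuotientGroup.mk' (Subgroup.center X))) →
      Nat.card ↥(A.map (QuotientGroup.mk' (Subgroup.center X))) = 16 →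
      A = (A.map p).comap p ∧ A.map p ≤ upper F ∧ (A.map p = colSub F ∨ A.map p = rowSub F) := by
    intro A hAT hZA hAel hA16
    have h1 : A.map p ≤ upper F := (Subgroup.map_mono hAT).trans hTu
    refine ⟨?_, h1, eq_col_or_row hF h1 ?_ ?_⟩
    · rw [Subgroup.comap_map_eq, hker, sup_eq_left.2 (hZd ▸ hZA)]
    · rintro _ ⟨a, ha, rfl⟩
      have h2 := hAel.2 (QuotientGroup.mk' _ a) (Subgroup.mem_map_of_mem _ ha)
      rw [← map_mul, hpk, hZd, ← QuotientGroup.eq_one_iff]
      rw [pow_two, ← map_mul] at h2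
      exact h2
    · rw [show A.map p = ((A.map (QuotientGroup.mk' (Subgroup.center X))).map e.toMonoidHom).map
          (MulAut.conj g).toMonoidHom by rw [hp, hp₀, Subgroup.map_map, Subgroup.map_map]; rfl]
      rw [Subgroup.card_map_of_injective (MulAut.conj g).injective, Subgroup.card_map_of_injective e.injective, hA16]
  obtain ⟨hHe, hHu, hH'⟩ := main H hHT hZH hH.1 hH.2
  obtain ⟨hKe, hKu, hK'⟩ := main K hKT hZK hK.1 hK.2
  have hne : H.map p ≠ K.map p := fun he => hHK (by rw [hHe, he, ← hKe])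
  have side : ∀ A : Subgroup X, A = (A.map p).comap p → (A.map p = colSub F ∨ A.map p = rowSub F) →
      Cfsg.IsElementaryAbelian 2 A ∧ ∃ C : Subgroup X, C ≤ Subgroup.normalizer (A : Set X) ∧ C ⊓ A = ⊥ ∧
        A ⊔ C = Subgroup.normalizer (A : Set X) ∧
        Nonempty (↥C ≃* Matrix.ProjectiveSpecialLinearGroup (Fin 2) F) := by
    intro A hA hA'
    obtain ⟨q, hqs, hqk, hqA⟩ : ∃ q : X →* Matrix.ProjectiveSpecialLinearGroup (Fin 3) F,
        Function.Surjective q ∧ q.ker = Z ∧ A = (colSub F).comap q := by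
      rcases hA' with h | h
      · exact ⟨p, hps, hker, by rw [← h]; exact hA⟩
      · obtain ⟨θ, hθ⟩ := exists_graph (F := F) hF
        refine ⟨θ.toMonoidHom.comp p, θ.surjective.comp hps, ?_, ?_⟩
        · rw [← hker]; exact Subgroup.ext fun x => by simp
        · rw [← Subgroup.comap_comap, ← hθ, Subgroup.comap_map_eq_self_of_injective θ.injective, ← h]
          exact hA
    obtain ⟨h1, C, hC1, hC2, hC3, ⟨i⟩⟩ := cover_main hF q hqs Z hqk hZc hZ2
    subst hqA
    exact ⟨h1, C, hC1, hC2, hC3, ⟨i.trans (Cfsg.Lib.Spec.pslEquivOfCharTwo).symm⟩⟩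
  obtain ⟨hHel, hHC⟩ := side H hHe hH'
  obtain ⟨hKel, hKC⟩ := side K hKe hK'
  refine ⟨hHel, hKel, ?_, hHC, hKC⟩
  have hsup : (H ⊔ K).map p = colSub F ⊔ rowSub F := by
    rw [Subgroup.map_sup]
    rcases hH' with h | h <;> rcases hK' with h' | h'
    · exact absurd (h.trans h'.symm) hne
    · rw [h, h']
    · rw [h, h', sup_comm]
    · exact absurd (h.trans h'.symm) hne
  have hinf : H.map p ⊓ K.map p = colSub F ⊓ rowSub F := by
    rcases hH' with h | h <;> rcases hK' with h' | h'
    · exact absurd (h.trans h'.symm) hne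
    · rw [h, h']
    · rw [h, h', inf_comm]
    · exact absurd (h.trans h'.symm) hne
  ext x
  constructor
  · intro hx
    refine ⟨⟨x, Subgroup.mem_sup_left hx.1⟩, Subgroup.mem_center_iff.2 fun y => Subtype.ext ?_, rfl⟩
    show (y : X) * x = x * y
    have hle : H ⊔ K ≤ Subgroup.centralizer {x} := by
      refine sup_le (fun a ha => ?_) (fun a ha => ?_) <;> rw [Subgroup.mem_centralizer_singleton_iff]
      · exact congrArg Subtype.val (hHel.1.is_comm.comm (⟨a, ha⟩ : H) ⟨x, hx.1⟩)
      · exact congrArg Subtype.val (hKel.1.is_comm.comm (⟨a, ha⟩ : K) ⟨x, hx.2⟩)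
    exact Subgroup.mem_centralizer_singleton_iff.1 (hle y.2)
  · rintro ⟨⟨y, hy⟩, hyc, rfl⟩
    have h1 : p y ∈ upper F := (sup_le hHu hKu) (by
      rw [← Subgroup.map_sup]; exact Subgroup.mem_map_of_mem p hy)
    have h2 : p y ∈ colSub F ⊓ rowSub F := mem_inf_of_commute hF h1 fun a ha => by
      rw [← hsup] at ha
      obtain ⟨b, hb, rfl⟩ := ha
      rw [← map_mul, ← map_mul]
      exact congrArg p (congrArg Subtype.val (Subgroup.mem_center_iff.1 hyc ⟨b, hb⟩))
    rw [← hinf] at h2
    exact ⟨(SetLike.ext_iff.1 hHe y).2 h2.1, (SetLike.ext_iff.1 hKe y).2 h2.2⟩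

end Cfsg.Agent.S3154
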