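import Cfsg.Statements.S3155
import Mathlib

set_option autoImplicit false
open Cfsg

namespace Cfsg.Agent.S3155

/-- Let B be the direct product of three cyclic groups of order 4. Then the automorphism of B inverting every element is not the square of any automorphism of B. -/
theorem result {B : Type*} [CommGroup B] [Finite B] (hB : Nonempty (B ≃* Multiplicative (ZMod 4 × ZMod 4 × ZMod 4)))
    (τ : B ≃* B) : τ.trans τ ≠ MulEquiv.inv B := by
  intro h
  haveI : Nontrivial (ZMod 4) := ⟨⟨0, 1, by decide⟩⟩
  obtain ⟨e⟩ := hB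
  let f : (ZMod 4 × ZMod 4 × ZMod 4) →+ (ZMod 4 × ZMod 4 × ZMod 4) :=
    AddMonoidHom.toMultiplicative.symm (((e : B →* _).comp (τ : B →* B)).comp (e.symm : _ →* B))
  have hf : ∀ v, f (f v) = (-1 : ZMod 4) • v := by
    intro v
    show Multiplicative.toAdd (e (τ (e.symm (e (τ (e.symm (Multiplicative.ofAdd v))))))) = _
    rw [e.symm_apply_apply, show ∀ x, τ (τ x) = x⁻¹ from fun x => DFunLike.congr_fun h x, map_inv,
      e.apply_symm_apply, neg_one_smul]
    rfl
  let T : Module.End (ZMod 4) (ZMod 4 × ZMod 4 × ZMod 4) := f.toZModLinearMap 4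
  have hT : T ∘ₗ T = (-1 : ZMod 4) • LinearMap.id := LinearMap.ext fun v => hf v
  have hd := congrArg LinearMap.det hT
  rw [LinearMap.det_comp, LinearMap.det_smul, LinearMap.det_id, mul_one] at hd
  rw [Module.finrank_prod, Module.finrank_prod, Module.finrank_self] at hd
  revert hd
  generalize LinearMap.det T = d
  revert d
  decide

end Cfsg.Agent.S3155
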