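import Cfsg.Statements.S3156
import Mathlib
import Cfsg.Agent.Lib.U34.Unitary
import Cfsg.Agent.Lib.Spec.UnitaryThreeLower
import Cfsg.Prelude.Def_Classical
-- import your own Cfsg.Agent.* helpers here

set_option autoImplicit false
open Cfsg

namespace Cfsg.Agent.S3156

open Matrix Cfsg.Lib.Spec.UThree

universe u

section Field

variable {F : Type*} [Field F] [Fintype F]

theorem frob_add (hF : Fintype.card F = 16) (x y : F) : (x + y) ^ 4 = x ^ 4 + y ^ 4 := by
  linear_combination (2 * x ^ 3 * y + 3 * x ^ 2 * y ^ 2 + 2 * x * y ^ 3) * Cfsg.Lib.U34.two_eq_zero hF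

theorem pow_sixteen (hF : Fintype.card F = 16) (x : F) : x ^ 16 = x := by
  have h := FiniteField.pow_card x
  rwa [hF] at h

theorem add_self (hF : Fintype.card F = 16) (x : F) : x + x = 0 := by
  linear_combination x * Cfsg.Lib.U34.two_eq_zero hF

/-- no three non-zero elements `a`, `b`, `a + b` have the same norm -/
theorem no_line (hF : Fintype.card F = 16) {a b : F} (ha : a ≠ 0) (hab : a ≠ b)
    (h1 : b ^ 5 = a ^ 5) (h2 : (a + b) ^ 5 = a ^ 5) : False := by
  obtain ⟨r, rfl⟩ : ∃ r, b = a * r := ⟨b / a, by field_simp⟩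
  have h0 : a ^ 5 ≠ 0 := pow_ne_zero 5 ha
  have hr : r ^ 5 = 1 := mul_left_cancel₀ h0 (by rw [mul_one]; linear_combination h1)
  have hr2 : (1 + r) ^ 5 = 1 := mul_left_cancel₀ h0 (by rw [mul_one]; linear_combination h2)
  have t := Cfsg.Lib.U34.two_eq_zero hF
  have e : r + r ^ 4 + 1 = 0 := by
    linear_combination hr2 - hr - (2 * r + 5 * r ^ 2 + 5 * r ^ 3 + 2 * r ^ 4) * t
  have e3 : r ^ 2 + 1 + r = 0 := by linear_combination r * e - hr
  have h3 : r ^ 3 = 1 := by linear_combination (r - 1) * e3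
  have h2' : r ^ 2 = 1 := by linear_combination hr - r ^ 2 * h3
  have h1' : r = 1 := by linear_combination h3 - r * h2'
  exact hab (by rw [h1', mul_one])

/-- the fifth powers of the units: three values, each taken five times -/
theorem norm_facts (hF : Fintype.card F = 16) :
    (∀ c : F, c ≠ 0 → c ^ 4 = c → ∃ a : F, a ^ 5 = c) ∧
    (∀ a : F, a ≠ 0 → Nat.card {x : F // x ^ 5 = a ^ 5} = 5) ∧
    (∀ a b c d : F, a ≠ 0 → b ≠ 0 → c ≠ 0 → d ≠ 0 → a ^ 5 ≠ b ^ 5 → a ^ 5 ≠ c ^ 5 → b ^ 5 ≠ c ^ 5 →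
      d ^ 5 = a ^ 5 ∨ d ^ 5 = b ^ 5 ∨ d ^ 5 = c ^ 5) := by
  classical
  let ψ : Fˣ →* Fˣ := powMonoidHom 5
  have hk : Nat.card ψ.ker ≤ 5 := by
    have hinj : Function.Injective (fun x : ψ.ker =>
        (⟨((x : Fˣ) : F), by
          rw [Multiset.mem_toFinset, Polynomial.mem_nthRoots (by norm_num)]
          have := x.2
          rw [MonoidHom.mem_ker] at this
          simpa [ψ, Units.ext_iff] using this⟩ : (Polynomial.nthRoots 5 (1 : F)).toFinset)) :=
      fun x y e => Subtype.ext (Units.ext (congrArg Subtype.val e))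
    refine (Nat.card_le_card_of_injective _ hinj).trans ?_
    rw [Nat.card_eq_fintype_card, Fintype.card_coe]
    exact (Multiset.toFinset_card_le _).trans (Polynomial.card_nthRoots 5 1)
  obtain ⟨R, hR⟩ : ∃ R : Finset F, R = (Polynomial.nthRoots 3 (1 : F)).toFinset := ⟨_, rfl⟩
  have hR3 : R.card ≤ 3 := hR ▸ (Multiset.toFinset_card_le _).trans (Polynomial.card_nthRoots 3 1)
  have hmem : ∀ x : Fˣ, x ∈ ψ.range → (x : F) ∈ R := by
    rintro x ⟨y, rfl⟩
    rw [hR, Multiset.mem_toFinset, Polynomial.mem_nthRoots (by norm_num)]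
    simp only [ψ, powMonoidHom_apply, Units.val_pow_eq_pow_val, ← pow_mul]
    have := FiniteField.pow_card_sub_one_eq_one (y : F) y.ne_zero
    rwa [hF] at this
  have hr : Nat.card ψ.range ≤ R.card := by
    have := Nat.card_le_card_of_injective (fun x : ψ.range => (⟨((x : Fˣ) : F), hmem _ x.2⟩ : R))
      fun x y e => Subtype.ext (Units.ext (congrArg Subtype.val e))
    rwa [Nat.card_eq_fintype_card (α := R), Fintype.card_coe] at this
  have h15 : Nat.card ψ.ker * Nat.card ψ.range = 15 := by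
    rw [← Subgroup.index_ker, Subgroup.card_mul_index, Nat.card_units, Nat.card_eq_fintype_card, hF]
  have hker : Nat.card ψ.ker = 5 := by nlinarith
  have hran : Nat.card ψ.range = R.card := by nlinarith
  have hsurj : ∀ c : F, c ∈ R → ∃ a : F, a ≠ 0 ∧ a ^ 5 = c := by
    intro c hc
    by_contra hno
    push Not at hno
    have : Nat.card ψ.range ≤ (R.erase c).card := by
      have := Nat.card_le_card_of_injective (fun x : ψ.range => (⟨((x : Fˣ) : F),
          Finset.mem_erase.2 ⟨fun e => by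
            obtain ⟨y, hy⟩ := x.2
            refine hno (y : F) y.ne_zero ?_
            rw [← e, ← hy]
            simp [ψ], hmem _ x.2⟩⟩ : (R.erase c : Finset F)))
        fun x y e => Subtype.ext (Units.ext (congrArg Subtype.val e))
      rwa [Nat.card_eq_fintype_card (α := (R.erase c : Finset F)), Fintype.card_coe] at this
    rw [Finset.card_erase_of_mem hc] at this
    have := Finset.card_pos.2 ⟨c, hc⟩
    omega
  refine ⟨fun c hc0 hc => ?_, fun a ha => ?_, fun a b c d ha hb hc hd hab hac hbc => ?_⟩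
  · obtain ⟨a, -, h⟩ := hsurj c (by
      rw [hR, Multiset.mem_toFinset, Polynomial.mem_nthRoots (by norm_num)]
      exact mul_left_cancel₀ hc0 (by rw [mul_one]; linear_combination hc))
    exact ⟨a, h⟩
  · refine Eq.trans ?_ hker
    refine Nat.card_congr
      { toFun := fun x => ⟨(Units.mk0 (x.1 : F) (fun e => by
          have := x.2
          rw [e, zero_pow (by norm_num)] at this
          exact pow_ne_zero 5 ha this.symm)) / Units.mk0 a ha, by
            rw [MonoidHom.mem_ker]
            simp only [ψ, powMonoidHom_apply, div_pow]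
            rw [div_eq_one]
            exact Units.ext (by simpa using x.2)⟩
        invFun := fun k => ⟨a * ((k : Fˣ) : F), by
          have := k.2
          rw [MonoidHom.mem_ker] at this
          have e : (((k : Fˣ) : F)) ^ 5 = 1 := by simpa [ψ, Units.ext_iff] using this
          rw [mul_pow, e, mul_one]⟩
        left_inv := fun x => Subtype.ext (by simp; field_simp)
        right_inv := fun k => Subtype.ext (Units.ext (by simp [ha])) }
  · have hm : ∀ x : F, x ≠ 0 → x ^ 5 ∈ R := fun x hx => by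
      simpa [ψ] using hmem (ψ (Units.mk0 x hx)) ⟨_, rfl⟩
    by_contra hno
    push Not at hno
    have hs : ({a ^ 5, b ^ 5, c ^ 5, d ^ 5} : Finset F) ⊆ R := by
      simp [Finset.insert_subset_iff, hm, ha, hb, hc, hd]
    have h4 : ({a ^ 5, b ^ 5, c ^ 5, d ^ 5} : Finset F).card = 4 := by
      simp [hab, hac, hbc, hno.1.symm, hno.2.1.symm, hno.2.2.symm]
    have := Finset.card_le_card hs
    omega

end Field

section Abstract

variable {F : Type*} [Field F] [Fintype F] {T : Type*} [Group T]

theorem no_symmetric_three (hF : Fintype.card F = 16) (A B : T → F)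
    (hA : ∀ g h, A (g * h) = A g + A h) (hB : ∀ g h, B (g * h) = B g + B h + A g * A h ^ 4)
    (hinj : ∀ g h, A g = A h → B g = B h → g = h) (hsurj : ∀ a, ∃ g, A g = a)
    (hcond : ∀ g, B g ^ 4 + B g = A g ^ 5) (s t : MulAut T) (hs : s ≠ 1) (hs3 : s * s * s = 1)
    (ht : t * t = 1) (hts : t * s * t = s * s) : False := by
  classical
  obtain ⟨hnorm, hcls, hthree⟩ := norm_facts hF
  have h2 := add_self hF
  have hA1 : A 1 = 0 := by simpa using hA 1 1
  have hB1 : B 1 = 0 := by simpa [hA1] using hB 1 1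
  have hAsq : ∀ g, A (g * g) = 0 := fun g => by rw [hA, h2]
  have hBsq : ∀ g, B (g * g) = A g ^ 5 := fun g => by rw [hB, h2, zero_add]; ring
  have hA0 : ∀ g, A g = 0 ↔ g * g = 1 := by
    intro g
    constructor
    · intro h
      exact hinj _ _ (by rw [hAsq, hA1]) (by rw [hBsq, h, hB1]; simp)
    · intro h
      have := hBsq g
      rw [h, hB1] at this
      simpa using this.symm
  have hAinv : ∀ g, A g⁻¹ = A g := fun g => by
    have h := hA g g⁻¹
    rw [mul_inv_cancel, hA1] at h
    linear_combination (-1 : F) * h - h2 (A g)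
  -- the induced maps on the field
  choose sec hsec using hsurj
  have hwell : ∀ (φ : MulAut T) g h, A g = A h → A (φ g) = A (φ h) := by
    intro φ g h e
    have h0 : A (g * h⁻¹) = 0 := by rw [hA, hAinv, e, h2]
    have h1 : A (φ (g * h⁻¹)) = 0 := (hA0 _).2 (by rw [← map_mul, (hA0 _).1 h0, map_one])
    rw [map_mul, map_inv, hA, hAinv] at h1
    linear_combination h1 - h2 (A (φ h))
  obtain ⟨Φ, hΦ⟩ : ∃ Φ : MulAut T → F → F, ∀ φ a, Φ φ a = A (φ (sec a)) :=
    ⟨fun φ a => A (φ (sec a)), fun _ _ => rfl⟩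
  have hΦA : ∀ φ g, Φ φ (A g) = A (φ g) := fun φ g => by
    rw [hΦ]; exact hwell φ _ _ (hsec _)
  have hΦmul : ∀ φ χ a, Φ (φ * χ) a = Φ φ (Φ χ a) := fun φ χ a => by
    rw [hΦ χ a, hΦA, hΦ]; rfl
  have hΦone : ∀ a, Φ 1 a = a := fun a => by rw [hΦ]; exact hsec a
  have hΦadd : ∀ φ a b, Φ φ (a + b) = Φ φ a + Φ φ b := fun φ a b => by
    rw [← hsec a, ← hsec b, ← hA, hΦA, hΦA, hΦA, map_mul, hA]
  have hΦ5 : ∀ φ a b, (a ^ 5 = b ^ 5 ↔ Φ φ a ^ 5 = Φ φ b ^ 5) := by
    intro φ a b
    have key : ∀ g h, A g ^ 5 = A h ^ 5 ↔ g * g = h * h := fun g h =>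
      ⟨fun e => hinj _ _ (by rw [hAsq, hAsq]) (by rw [hBsq, hBsq, e]),
        fun e => by rw [← hBsq, ← hBsq, e]⟩
    rw [← hsec a, ← hsec b, hΦA, hΦA, key, key, ← map_mul, ← map_mul, φ.injective.eq_iff]
  have hΦ0 : ∀ φ a, a ≠ 0 → Φ φ a ≠ 0 := fun φ a ha e => ha (by
    have h := hΦmul φ⁻¹ φ a
    rw [inv_mul_cancel, hΦone, e, ← hA1, hΦA, map_one, hA1] at h
    exact h)
  -- the fixed elements
  let fixed : MulAut T → AddSubgroup F := fun φ =>
    { carrier := {a | Φ φ a = a}
      zero_mem' := by show Φ φ 0 = 0; rw [← hA1, hΦA, map_one]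
      add_mem' := fun {a b} (ha : Φ φ a = a) (hb : Φ φ b = b) => by
        show Φ φ (a + b) = a + b
        rw [hΦadd, ha, hb]
      neg_mem' := fun {a} (ha : Φ φ a = a) => by
        show Φ φ (-a) = -a
        rw [show -a = a by linear_combination -h2 a]
        exact ha }
  have hts' : ∀ a, Φ t (Φ s a) = Φ s (Φ s (Φ t a)) := fun a => by
    rw [← hΦmul, ← hΦmul, ← hΦmul, ← hts, mul_assoc (t * s), ht, mul_one]
  have hS3 : ∀ a, Φ s (Φ s (Φ s a)) = a := fun a => by
    rw [← hΦmul, ← hΦmul, hs3, hΦone]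
  -- `s` is not trivial on the field
  have hSne : ∃ a, Φ s a ≠ a := by
    by_contra hno
    push Not at hno
    have hfixsq : ∀ g, s (g * g) = g * g := fun g => by
      rw [map_mul]
      refine hinj _ _ (by rw [hAsq, hAsq]) ?_
      rw [hBsq, hBsq, ← hΦA, hno]
    have hfix0 : ∀ z, A z = 0 → s z = z := by
      intro z hz
      by_cases hb : B z = 0
      · have : z = 1 := hinj _ _ (by rw [hz, hA1]) (by rw [hb, hB1])
        rw [this, map_one]
      · obtain ⟨a, ha⟩ := hnorm (B z) hb (by
          have := hcond z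
          rw [hz, zero_pow (by norm_num)] at this
          linear_combination this - h2 (B z))
        have : z = sec a * sec a := hinj _ _ (by rw [hz, hAsq]) (by rw [hBsq, hsec, ha])
        rw [this]; exact hfixsq _
    refine hs (MulEquiv.ext fun g => ?_)
    obtain ⟨z, hz, hsg⟩ : ∃ z, A z = 0 ∧ s g = g * z :=
      ⟨g⁻¹ * s g, by rw [hA, hAinv, ← hΦA, hno, h2], by group⟩
    have h3 : g * z * z * z = g := by
      have := DFunLike.congr_fun hs3 g
      simp only [MulAut.mul_apply, MulAut.one_apply] at this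
      rw [hsg, map_mul, hfix0 z hz, hsg, map_mul, map_mul, hfix0 z hz, hsg] at this
      exact this
    rw [mul_assoc g, (hA0 z).1 hz, mul_one] at h3
    rw [MulAut.one_apply, hsg, h3]
  by_cases hmove : ∀ a, Φ s a ^ 5 = a ^ 5
  · -- every norm class contains two fixed elements
    obtain ⟨a₁, ha₁⟩ := hSne
    obtain ⟨π, hπ⟩ : ∃ π : Equiv.Perm F, ∀ a, π a = Φ s a :=
      ⟨⟨Φ s, fun a => Φ s (Φ s a), hS3, hS3⟩, fun _ => rfl⟩
    have hπ3 : π ^ 3 = 1 := Equiv.ext fun a => by
      simp only [pow_succ, pow_zero, one_mul, Equiv.Perm.mul_apply, hπ]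
      exact hS3 a
    haveI : Fact (Nat.Prime 3) := ⟨Nat.prime_three⟩
    have hmod : ∀ (P : F → Prop), (∀ a, P a ↔ P (π a)) →
        Nat.card {a // P a ∧ π a = a} % 3 = Nat.card {a // P a} % 3 := by
      intro P hP
      let π' : Equiv.Perm {a // P a} := π.subtypePerm fun a => (hP a).symm
      have hm := Equiv.Perm.card_compl_support_modEq (p := 3) (n := 1) (σ := π') (by
        refine Equiv.ext fun x => Subtype.ext ?_
        simp [π', Equiv.Perm.subtypePerm_pow, hπ3])
      have e : π'.supportᶜ.card = Nat.card {a // P a ∧ π a = a} := by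
        rw [← Nat.card_eq_finsetCard]
        exact Nat.card_congr
          { toFun := fun x => ⟨x.1.1, x.1.2, by
              have := x.2
              rw [Finset.mem_compl, Equiv.Perm.notMem_support] at this
              exact congrArg Subtype.val this⟩
            invFun := fun x => ⟨⟨x.1, x.2.1⟩, by
              rw [Finset.mem_compl, Equiv.Perm.notMem_support]
              exact Subtype.ext x.2.2⟩
            left_inv := fun _ => rfl
            right_inv := fun _ => rfl }
      rw [e, ← Nat.card_eq_fintype_card] at hm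
      exact hm
    have hcard16 : Nat.card F = 16 := by rw [Nat.card_eq_fintype_card, hF]
    have hfixmod : Nat.card (fixed s) % 3 = 1 := by
      have := hmod (fun _ => True) (fun _ => Iff.rfl)
      have e16 : Nat.card {a : F // True} = 16 :=
        (Nat.card_congr (Equiv.subtypeUnivEquiv fun _ => trivial)).trans hcard16
      rw [e16] at this
      refine Eq.trans ?_ this
      congr 1
      exact Nat.card_congr (Equiv.subtypeEquivRight fun a => by
        rw [hπ]; exact ⟨fun h => ⟨trivial, h⟩, fun h => h.2⟩)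
    have hle : Nat.card (fixed s) ≤ 4 := by
      have hd : Nat.card (fixed s) ∣ 16 := hcard16 ▸ (fixed s).card_addSubgroup_dvd_card
      have hne : Nat.card (fixed s) ≠ 16 := fun e => ha₁ (by
        have := AddSubgroup.eq_top_of_card_eq (fixed s) (by rw [e, hcard16])
        exact (this ▸ AddSubgroup.mem_top a₁ : a₁ ∈ fixed s))
      have key : ∀ d ∈ Nat.divisors 16, d % 3 = 1 → d ≠ 16 → d ≤ 4 := by decide
      exact key _ (Nat.mem_divisors.2 ⟨hd, by norm_num⟩) hfixmod hne
    have htwo : ∀ a, a ≠ 0 → ∃ x, x ≠ 0 ∧ x ^ 5 = a ^ 5 ∧ Φ s x = x ∧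
        ∃ y, y ≠ x ∧ y ^ 5 = a ^ 5 ∧ Φ s y = y := by
      intro a ha
      have := hmod (fun x => x ^ 5 = a ^ 5) (fun x => by rw [hπ, hmove])
      rw [hcls a ha] at this
      have h1 : 1 < Nat.card {x // x ^ 5 = a ^ 5 ∧ π x = x} := by omega
      haveI := Finite.one_lt_card_iff_nontrivial.1 h1
      obtain ⟨⟨x, hx⟩, ⟨y, hy⟩, hxy⟩ := exists_pair_ne {x // x ^ 5 = a ^ 5 ∧ π x = x}
      refine ⟨x, fun e => ?_, hx.1, hπ x ▸ hx.2, y, fun e => hxy (Subtype.ext e.symm), hy.1,
        hπ y ▸ hy.2⟩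
      rw [e, zero_pow (by norm_num)] at hx
      exact pow_ne_zero 5 ha hx.1.symm
    obtain ⟨x, hx0, hx1, hxf, y, hyx, hy5, hyf⟩ := htwo 1 one_ne_zero
    have hy0 : y ≠ 0 := fun e => by simp [e] at hy5
    -- a fixed element of a different norm
    obtain ⟨c, hc, hc1⟩ : ∃ c : F, c ≠ 0 ∧ c ^ 5 ≠ 1 := by
      by_contra hno
      push Not at hno
      have h1 := hcls 1 one_ne_zero
      have : Nat.card {c : F // c ≠ 0} ≤ Nat.card {x : F // x ^ 5 = 1 ^ 5} :=
        Nat.card_le_card_of_injective (fun c => ⟨c.1, by rw [hno c.1 c.2, one_pow]⟩)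
          fun a b e => Subtype.ext (congrArg (fun z : {x : F // x ^ 5 = 1 ^ 5} => z.1) e)
      rw [h1, Nat.card_eq_fintype_card, Fintype.card_subtype_compl, Fintype.card_subtype_eq, hF] at this
      omega
    obtain ⟨u, hu0, hu5, huf, v, hvu, hv5, hvf⟩ := htwo c hc
    have hsub : ({0, x, y, u, v} : Finset F).card ≤ Nat.card (fixed s) := by
      rw [← Nat.card_eq_finsetCard]
      refine Nat.card_le_card_of_injective (fun z => ⟨z.1, ?_⟩)
        fun a b e => Subtype.ext (congrArg (fun w : fixed s => (w : F)) e)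
      have := z.2
      simp only [Finset.mem_insert, Finset.mem_singleton] at this
      rcases this with e | e | e | e | e <;> rw [e]
      exacts [(fixed s).zero_mem, hxf, hyf, huf, hvf]
    have hv0 : v ≠ 0 := fun e => by
      rw [e, zero_pow (by norm_num)] at hv5
      exact pow_ne_zero 5 hc hv5.symm
    have hxn : x ^ 5 ≠ c ^ 5 := by
      intro e
      exact hc1 (by rw [← e, hx1, one_pow])
    have d1 : u ≠ y := fun e => hc1 (by rw [← hu5, e, hy5, one_pow])
    have d2 : v ≠ y := fun e => hc1 (by rw [← hv5, e, hy5, one_pow])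
    have d3 : u ≠ x := fun e => hxn (by rw [← hu5, e])
    have d4 : v ≠ x := fun e => hxn (by rw [← hv5, e])
    rw [Finset.card_insert_of_notMem (by simp [hx0.symm, hy0.symm, hu0.symm, hv0.symm]),
      Finset.card_insert_of_notMem (by simp [hyx.symm, d3.symm, d4.symm]),
      Finset.card_insert_of_notMem (by simp [d1.symm, d2.symm]),
      Finset.card_pair hvu.symm] at hsub
    omega
  · push Not at hmove
    obtain ⟨a, ha⟩ := hmove
    have ha0 : a ≠ 0 := fun e => ha (by rw [e, ← hA1, hΦA, map_one])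
    obtain ⟨b, hb⟩ : ∃ b, b = Φ s a := ⟨_, rfl⟩
    obtain ⟨c, hc⟩ : ∃ c, c = Φ s b := ⟨_, rfl⟩
    have hb0 : b ≠ 0 := hb ▸ hΦ0 s a ha0
    have hc0 : c ≠ 0 := hc ▸ hΦ0 s b hb0
    have hsc : Φ s c = a := by rw [hc, hb, hS3]
    have hba : b ^ 5 ≠ a ^ 5 := hb ▸ ha
    have hcb : c ^ 5 ≠ b ^ 5 := fun e => hba ((hΦ5 s b a).2 (by rw [← hc, ← hb]; exact e))
    have hca : c ^ 5 ≠ a ^ 5 := fun e => hba (by
      have := (hΦ5 s c a).1 e
      rw [hsc, ← hb] at this
      exact this.symm)
    have hval : ∀ d, d ≠ 0 → d ^ 5 = a ^ 5 ∨ d ^ 5 = b ^ 5 ∨ d ^ 5 = c ^ 5 := fun d hd =>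
      hthree a b c d ha0 hb0 hc0 hd hba.symm hca.symm hcb.symm
    have hsmove : ∀ d, d ≠ 0 → Φ s d ^ 5 ≠ d ^ 5 := by
      intro d hd e
      rcases hval d hd with h | h | h
      · have := (hΦ5 s d a).1 h
        rw [← hb] at this
        exact hba (this.symm.trans (e.trans h))
      · have := (hΦ5 s d b).1 h
        rw [← hc] at this
        exact hcb (this.symm.trans (e.trans h))
      · have := (hΦ5 s d c).1 h
        rw [hsc] at this
        exact hca (this.symm.trans (e.trans h)).symm
    -- all classes fixed by `t` coincide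
    have hone : ∀ y z, y ≠ 0 → z ≠ 0 → Φ t y ^ 5 = y ^ 5 → Φ t z ^ 5 = z ^ 5 → y ^ 5 = z ^ 5 := by
      intro y z hy hz hty htz
      by_contra hne
      have hall : ∀ w, w ≠ 0 → Φ t w ^ 5 = w ^ 5 := by
        intro w hw
        by_cases h1 : w ^ 5 = y ^ 5
        · rw [(hΦ5 t w y).1 h1, hty, h1]
        by_cases h2' : w ^ 5 = z ^ 5
        · rw [(hΦ5 t w z).1 h2', htz, h2']
        rcases hthree y z w (Φ t w) hy hz hw (hΦ0 t w hw) hne (Ne.symm h1) (Ne.symm h2') with e | e | e
        · exact absurd ((hΦ5 t w y).2 (by rw [hty, e])) h1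
        · exact absurd ((hΦ5 t w z).2 (by rw [htz, e])) h2'
        · exact e
      have e := hts' a
      rw [← hb] at e
      have e2 : Φ t b ^ 5 = c ^ 5 := by
        rw [e, hc, hb, ← hΦ5 s, ← hΦ5 s]
        exact hall a ha0
      rw [hall b hb0] at e2
      exact hcb e2.symm
    -- the fixed points of `t` make a line
    have hTT : ∀ x, Φ t (Φ t x) = x := fun x => by rw [← hΦmul, ht, hΦone]
    let δ : F →+ F := AddMonoidHom.mk' (fun x => x + Φ t x) fun x y => by rw [hΦadd]; ring
    have hker : δ.ker ≤ fixed t := fun x hx => by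
      rw [AddMonoidHom.mem_ker] at hx
      show Φ t x = x
      have hx' : x + Φ t x = 0 := hx
      linear_combination hx' - h2 x
    have hran : δ.range ≤ fixed t := by
      rintro _ ⟨x, rfl⟩
      show Φ t (x + Φ t x) = x + Φ t x
      rw [hΦadd, hTT]; ring
    have h16 : 4 ≤ Nat.card (fixed t) := by
      have h1 := δ.ker.card_mul_index
      rw [AddSubgroup.index_ker, Nat.card_eq_fintype_card (α := F), hF] at h1
      have h3 := AddSubgroup.card_le_of_le hker
      have h4 := AddSubgroup.card_le_of_le hran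
      nlinarith
    obtain ⟨⟨x, hxf⟩, hx⟩ : ∃ x : fixed t, x ≠ 0 := by
      haveI := Finite.one_lt_card_iff_nontrivial.1 (show 1 < Nat.card (fixed t) by omega)
      exact exists_ne 0
    have hx0 : x ≠ 0 := fun e => hx (Subtype.ext e)
    obtain ⟨y, hyf, hy0, hyx⟩ : ∃ y ∈ fixed t, y ≠ 0 ∧ y ≠ x := by
      by_contra hno
      push Not at hno
      have : Nat.card (fixed t) ≤ ({0, x} : Finset F).card := by
        rw [← Nat.card_eq_finsetCard]
        refine Nat.card_le_card_of_injective (fun z => ⟨(z : F), ?_⟩)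
          fun a b e => Subtype.ext (congrArg (fun w : ({0, x} : Finset F) => (w : F)) e)
        simp only [Finset.mem_insert, Finset.mem_singleton]
        exact or_iff_not_imp_left.2 (hno _ z.2)
      rw [Finset.card_pair hx0.symm] at this
      omega
    have hxy : x + y ≠ 0 := fun e => hyx (by linear_combination e - h2 x)
    exact no_line hF hx0 hyx.symm
      (hone y x hy0 hx0 (by rw [show Φ t y = y from hyf]) (by rw [show Φ t x = x from hxf]))
      (hone (x + y) x hxy hx0 (by rw [show Φ t (x + y) = x + y from (fixed t).add_mem hxf hyf])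
        (by rw [show Φ t x = x from hxf]))

end Abstract

section Model

variable {F : Type u} [Field F] [Fintype F]

/-- the unitriangular matrix -/
def um (a b : F) : Matrix (Fin 3) (Fin 3) F := !![1, a, b; 0, 1, a ^ 4; 0, 0, 1]

theorem um_mul (hF : Fintype.card F = 16) (a b c d : F) :
    um a b * um c d = um (a + c) (d + a * c ^ 4 + b) := by
  ext i j
  fin_cases i <;> fin_cases j <;>
    simp [um, Matrix.mul_apply, Fin.sum_univ_three, frob_add hF] <;> ring

theorem main {T : Type*} [Group T] [Finite T] (hT : (∃ (F : Type) (_ : Field F) (_ : Fintype F),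
    Fintype.card F = 16 ∧ ∃ S : Sylow 2 (Cfsg.PSU 3 F 4), Nonempty (T ≃* ↥(S : Subgroup (Cfsg.PSU 3 F 4)))))
    (H : Subgroup (MulAut T)) : ¬ Nonempty (↥H ≃* Equiv.Perm (Fin 3)) := by
  classical
  obtain ⟨F, hFi, hFt, hF, S, ⟨e⟩⟩ := hT
  rintro ⟨eH⟩
  have hF' : Fintype.card F = 4 ^ 2 := by rw [hF]; norm_num
  have t2 := Cfsg.Lib.U34.two_eq_zero hF
  obtain ⟨θ, hθ⟩ := Cfsg.Lib.U34.exists_theta hF
  let P : Matrix (Fin 3) (Fin 3) F := !![1, 0, θ; 1, 0, θ + 1; 0, 1, 0]
  let P' : Matrix (Fin 3) (Fin 3) F := !![1 + θ, θ, 0; 0, 0, 1; 1, 1, 0]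
  have h1 : P * P' = 1 := by
    ext i j
    fin_cases i <;> fin_cases j <;> simp [P, P', Matrix.mul_apply, Fin.sum_univ_three] <;> grind
  have h1' : P' * P = 1 := mul_eq_one_comm.1 h1
  have hform : Pᵀ * P.map (· ^ 4) = antiDiag F := by
    ext i j
    fin_cases i <;> fin_cases j <;>
      simp [P, antiDiag, Matrix.mul_apply, Fin.sum_univ_three, frob_add hF] <;> grind
  have e4 : P'ᵀ * antiDiag F * P'.map (· ^ 4) = 1 := by
    rw [← hform, ← Matrix.mul_assoc, ← Matrix.transpose_mul, h1, Matrix.transpose_one, Matrix.one_mul,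
      ← map_pow_mul hF', h1]
    ext i j
    simp only [Matrix.map_apply, Matrix.one_apply]
    split_ifs <;> simp
  have hex : ∀ a b : F, b ^ 4 + b = a ^ 5 →
      ∃ g : Cfsg.SU 3 F 4, Cfsg.Lib.Spec.UThree.smat g = P * um a b * P' := by
    intro a b hab
    refine exists_of_form hF' _ ?_ ?_
    · rw [Matrix.det_mul, Matrix.det_mul, show (um a b).det = 1 by simp [um, Matrix.det_fin_three],
        mul_one, ← Matrix.det_mul, h1, Matrix.det_one]
    · have hM : (um a b)ᵀ * antiDiag F * (um a b).map (· ^ 4) = antiDiag F := by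
        have h16 := pow_sixteen hF a
        ext i j
        fin_cases i <;> fin_cases j <;>
          simp [um, antiDiag, Matrix.mul_apply, Fin.sum_univ_three] <;> grind
      calc (P * um a b * P')ᵀ * (P * um a b * P').map (· ^ 4)
          = P'ᵀ * ((um a b)ᵀ * (Pᵀ * P.map (· ^ 4)) * (um a b).map (· ^ 4)) * P'.map (· ^ 4) := by
            simp only [Matrix.transpose_mul, map_pow_mul hF', Matrix.mul_assoc]
        _ = 1 := by rw [hform, hM, e4]
  have hsmul : ∀ g h : Cfsg.SU 3 F 4, Cfsg.Lib.Spec.UThree.smat (g * h)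
      = Cfsg.Lib.Spec.UThree.smat g * Cfsg.Lib.Spec.UThree.smat h := fun _ _ => rfl
  have hsinj : ∀ g h : Cfsg.SU 3 F 4, Cfsg.Lib.Spec.UThree.smat g = Cfsg.Lib.Spec.UThree.smat h →
      g = h := fun g h e => Subtype.ext (Subtype.ext e)
  have hconj : ∀ M N : Matrix (Fin 3) (Fin 3) F, P * M * P' * (P * N * P') = P * (M * N) * P' := by
    intro M N
    calc P * M * P' * (P * N * P') = P * M * (P' * P) * (N * P') := by simp only [Matrix.mul_assoc]
      _ = _ := by rw [h1', Matrix.mul_one]; simp only [Matrix.mul_assoc]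
  have humuniq : ∀ a b c d : F, P * um a b * P' = P * um c d * P' → a = c ∧ b = d := by
    intro a b c d e
    have e' := congrArg (fun M => P' * M * P) e
    have hh : ∀ M : Matrix (Fin 3) (Fin 3) F, P' * (P * M * P') * P = M := fun M => by
      rw [← Matrix.mul_assoc, ← Matrix.mul_assoc, h1', Matrix.one_mul, Matrix.mul_assoc, h1',
        Matrix.mul_one]
    simp only [hh] at e'
    exact ⟨by simpa [um] using congrFun (congrFun e' 0) 1,
      by simpa [um] using congrFun (congrFun e' 0) 2⟩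
  let U : Subgroup (Cfsg.SU 3 F 4) :=
    { carrier := {g | ∃ a b : F, b ^ 4 + b = a ^ 5 ∧ Cfsg.Lib.Spec.UThree.smat g = P * um a b * P'}
      one_mem' := ⟨0, 0, by simp, by
        rw [show um (0 : F) 0 = 1 by ext i j; fin_cases i <;> fin_cases j <;> simp [um],
          Matrix.mul_one, h1]
        rfl⟩
      mul_mem' := by
        rintro g h ⟨a, b, hab, hg⟩ ⟨c, d, hcd, hh⟩
        refine ⟨a + c, d + a * c ^ 4 + b, ?_, by rw [hsmul, hg, hh, hconj, um_mul hF]⟩
        have h16 := pow_sixteen hF c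
        have f1 := frob_add hF (d + a * c ^ 4) b
        have f2 := frob_add hF d (a * c ^ 4)
        have f3 := frob_add hF a c
        grind
      inv_mem' := by
        rintro g ⟨a, b, hab, hg⟩
        have hcd : (b + a * a ^ 4) ^ 4 + (b + a * a ^ 4) = a ^ 5 := by
          have h16 := pow_sixteen hF a
          have f2 := frob_add hF b (a * a ^ 4)
          grind
        obtain ⟨h, hh⟩ := hex a (b + a * a ^ 4) hcd
        have : g * h = 1 := hsinj _ _ (by
          rw [hsmul, hg, hh, hconj, um_mul hF, show b + a * a ^ 4 + a * a ^ 4 + b = 0 by grind,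
            add_self hF, show um (0 : F) 0 = 1 by ext i j; fin_cases i <;> fin_cases j <;> simp [um],
            Matrix.mul_one, h1]
          rfl)
        rw [inv_eq_of_mul_eq_one_right this]
        exact ⟨a, b + a * a ^ 4, hcd, hh⟩ }
  choose A B hAB hgm using fun g : U => g.2
  have huniq : ∀ (g : U) a b, Cfsg.Lib.Spec.UThree.smat (g : Cfsg.SU 3 F 4) = P * um a b * P' →
      A g = a ∧ B g = b := fun g a b h => humuniq _ _ _ _ ((hgm g).symm.trans h)
  have hmul : ∀ g h : U, A (g * h) = A g + A h ∧ B (g * h) = B h + A g * A h ^ 4 + B g := fun g h =>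
    huniq _ _ _ (by rw [Subgroup.coe_mul, hsmul, hgm, hgm, hconj, um_mul hF])
  have hsurj : ∀ a b : F, b ^ 4 + b = a ^ 5 → ∃ g : U, A g = a ∧ B g = b := fun a b h => by
    obtain ⟨g, hg⟩ := hex a b h
    exact ⟨⟨g, a, b, h, hg⟩, huniq _ a b hg⟩
  -- the equation `b ^ 4 + b = c`
  let Lm : F →+ F := AddMonoidHom.mk' (fun b => b ^ 4 + b) fun x y => by rw [frob_add hF]; ring
  have hroots : Set.ncard {x : F | x ^ 4 + x = 0} ≤ 4 := by
    obtain ⟨p, hp⟩ : ∃ p : Polynomial F, p = Polynomial.X ^ 4 + Polynomial.X := ⟨_, rfl⟩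
    have hp0 : p ≠ 0 := fun e => by
      have := congrArg (Polynomial.coeff · 4) e
      simp [hp, Polynomial.coeff_X] at this
    have hsub : {x : F | x ^ 4 + x = 0} ⊆ (p.roots.toFinset : Set F) := fun x (hx : x ^ 4 + x = 0) => by
      rw [Finset.mem_coe, Multiset.mem_toFinset, Polynomial.mem_roots hp0, Polynomial.IsRoot]
      simp [hp, hx]
    refine (Set.ncard_le_ncard hsub (Finset.finite_toSet _)).trans ?_
    rw [Set.ncard_coe_finset]
    refine (Multiset.toFinset_card_le _).trans ((Polynomial.card_roots' p).trans ?_)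
    rw [hp]; compute_degree
  have hLk : Nat.card Lm.ker ≤ 4 := hroots
  have hLr : Lm.range ≤ (Lm.ker) := by
    rintro _ ⟨x, rfl⟩
    show (x ^ 4 + x) ^ 4 + (x ^ 4 + x) = 0
    rw [frob_add hF, ← pow_mul, pow_sixteen hF]
    linear_combination (x ^ 4 + x) * t2
  have hL16 : Nat.card Lm.ker * Nat.card Lm.range = 16 := by
    rw [← AddSubgroup.index_ker, AddSubgroup.card_mul_index, Nat.card_eq_fintype_card, hF]
  have hLr' := AddSubgroup.card_le_of_le hLr
  have hk4 : Nat.card Lm.ker = 4 := by nlinarith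
  have hr4 : Nat.card Lm.range = 4 := by nlinarith
  have hLsol : ∀ a : F, ∃ b, b ^ 4 + b = a ^ 5 := fun a => by
    have : Lm.range = Lm.ker := AddSubgroup.eq_of_le_of_card_ge hLr (by omega)
    have hm : a ^ 5 ∈ Lm.ker := by
      show (a ^ 5) ^ 4 + a ^ 5 = 0
      have h16 := pow_sixteen hF a
      grind
    rw [← this] at hm
    exact hm
  choose bsol hbsol using hLsol
  have hU : Nat.card U = 64 := by
    have hbij : Function.Bijective (fun g : U => ((A g, ⟨B g + bsol (A g), by
          show (B g + bsol (A g)) ^ 4 + (B g + bsol (A g)) = 0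
          rw [frob_add hF]
          linear_combination hAB g + hbsol (A g) + A g ^ 5 * t2⟩) : F × Lm.ker)) := by
      refine ⟨fun g h e => ?_, fun x => ?_⟩
      · have e1 : A g = A h := congrArg Prod.fst e
        have e2 : B g + bsol (A g) = B h + bsol (A h) :=
          congrArg (fun p : F × Lm.ker => (p.2 : F)) e
        rw [e1] at e2
        refine Subtype.ext (hsinj _ _ ?_)
        rw [hgm, hgm, e1, add_right_cancel e2]
      · obtain ⟨g, hg, hg'⟩ := hsurj x.1 (x.2.1 + bsol x.1) (by
          have hx : (x.2.1 : F) ^ 4 + x.2.1 = 0 := x.2.2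
          rw [frob_add hF]
          linear_combination hx + hbsol x.1)
        refine ⟨g, Prod.ext hg (Subtype.ext ?_)⟩
        show B g + bsol (A g) = _
        rw [hg, hg']
        linear_combination bsol x.1 * t2
    rw [Nat.card_eq_of_bijective _ hbij, Nat.card_prod, Nat.card_eq_fintype_card (α := F), hF, hk4]
  -- transport to a Sylow subgroup
  let π := Cfsg.Lib.U34.psuEquiv hF
  have hUm : IsPGroup 2 (U.map π.toMonoidHom) := IsPGroup.of_card (n := 6) (by
    rw [Subgroup.card_map_of_injective (f := π.toMonoidHom) π.injective, hU]; norm_num)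
  haveI : Fact (Nat.Prime 2) := ⟨Nat.prime_two⟩
  obtain ⟨Q, hQ⟩ := hUm.exists_le_sylow
  have hQc : Nat.card (Q : Subgroup (Cfsg.PSU 3 F 4)) = 64 := by
    rw [Sylow.card_eq_multiplicity, Cfsg.Lib.U34.card_PSU hF]
    have : (62400 : ℕ).factorization 2 = 6 := by
      rw [show (62400 : ℕ) = 2 ^ 6 * 975 by norm_num, Nat.factorization_mul (by norm_num) (by norm_num),
        Finsupp.add_apply, Nat.Prime.factorization_pow Nat.prime_two, Finsupp.single_eq_same,
        Nat.factorization_eq_zero_of_not_dvd (by norm_num)]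
    rw [this]; norm_num
  have hQU : U.map π.toMonoidHom = Q := Subgroup.eq_of_le_of_card_ge hQ (by
    rw [hQc, Subgroup.card_map_of_injective (f := π.toMonoidHom) π.injective, hU])
  let ι : T ≃* U := e.trans ((Sylow.equiv S Q).trans
    ((MulEquiv.subgroupCongr hQU.symm).trans (U.equivMapOfInjective π.toMonoidHom π.injective).symm))
  obtain ⟨s, hs⟩ : ∃ s : MulAut T, s = (eH.symm (Equiv.swap 0 1 * Equiv.swap 1 2) : H) := ⟨_, rfl⟩
  obtain ⟨t, ht⟩ : ∃ t : MulAut T, t = (eH.symm (Equiv.swap 0 1) : H) := ⟨_, rfl⟩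
  have key : ∀ x y : Equiv.Perm (Fin 3), x = y →
      ((eH.symm x : H) : MulAut T) = ((eH.symm y : H) : MulAut T) := fun x y h => by rw [h]
  refine no_symmetric_three hF (fun g : T => A (ι g)) (fun g : T => B (ι g)) ?_ ?_ ?_ ?_ ?_ s t ?_ ?_ ?_ ?_
  · intro g h; simp only [map_mul, (hmul _ _).1]
  · intro g h; simp only [map_mul, (hmul _ _).2]; ring
  · intro g h h1 h2
    refine ι.injective (Subtype.ext (hsinj _ _ ?_))
    rw [hgm, hgm, h1, h2]
  · intro a
    obtain ⟨g, hg, -⟩ := hsurj a (bsol a) (hbsol a)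
    exact ⟨ι.symm g, by simp [hg]⟩
  · intro g; exact hAB (ι g)
  · rw [hs]
    intro h
    have := eH.symm.injective (Subtype.ext (h.trans (by simp)) :
      eH.symm (Equiv.swap 0 1 * Equiv.swap 1 2) = eH.symm 1)
    exact absurd this (by decide)
  · rw [hs, ← Subgroup.coe_mul, ← Subgroup.coe_mul, ← map_mul, ← map_mul, key _ 1 (by decide), map_one]
    rfl
  · rw [ht, ← Subgroup.coe_mul, ← map_mul, key _ 1 (by decide), map_one]
    rfl
  · rw [hs, ht, ← Subgroup.coe_mul, ← Subgroup.coe_mul, ← Subgroup.coe_mul, ← map_mul, ← map_mul,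
      ← map_mul]
    exact key _ _ (by decide)

end Model

/-- If a finite group T is isomorphic to a Sylow 2-subgroup of the projective special unitary group of dimension 3 with parameter 4 (realised over the field with 16 elements), then no subgroup of the automorphism group of T is isomorphic to the symmetric group of degree 3. -/
theorem result {T : Type*} [Group T] [Finite T] (hT : (∃ (F : Type) (_ : Field F) (_ : Fintype F), Fintype.card F = 16 ∧ ∃ S : Sylow 2 (Cfsg.PSU 3 F 4), Nonempty (T ≃* ↥(S : Subgroup (Cfsg.PSU 3 F 4))))) (H : Subgroup (MulAut T)) : ¬ Nonempty (↥H ≃* Equiv.Perm (Fin 3)) := by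
  exact main hT H

end Cfsg.Agent.S3156
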