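import Cfsg.Statements.S3157
import Cfsg.Agent.Lib.TwoFour.Inverted
import Cfsg.Agent.Lib.TwoFour.Targets

set_option autoImplicit false
open Cfsg

namespace Cfsg.Agent.S3157

/-- Let T be a non-abelian group of order 64 admitting automorphisms ρ of order 3 and x of order 2 with x ρ x⁻¹ = ρ⁻¹ (so they generate a symmetric group of degree 3), where ρ fixes only the identity. Then T is isomorphic to a Sylow 2-subgroup of the projective special linear group of dimension 3 over the field with 4 elements, and the subgroup of fixed points of x is dihedral of order 8 or quaternion of order 8. -/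
theorem result {T : Type*} [Group T] [Finite T] (hT : Nat.card T = 64) (hna : ¬ IsMulCommutative T) (ρ x : MulAut T) (hρ : orderOf ρ = 3) (hx : orderOf x = 2)
    (hxr : x * ρ * x⁻¹ = ρ⁻¹) (hfp : ∀ y : T, ρ y = y → y = 1) (C : Subgroup T) (hC : ∀ y : T, y ∈ C ↔ x y = y) :
    (∃ (F : Type) (_ : Field F) (_ : Fintype F), Fintype.card F = 4 ∧
        ∃ S : Sylow 2 (Matrix.ProjectiveSpecialLinearGroup (Fin 3) F), Nonempty (T ≃* ↥(S : Subgroup (Matrix.ProjectiveSpecialLinearGroup (Fin 3) F)))) ∧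
      (Nonempty (↥C ≃* DihedralGroup 4) ∨ Nonempty (↥C ≃* QuaternionGroup 2)) := by
  classical
  have hρ3 : ρ ^ 3 = 1 := hρ ▸ pow_orderOf_eq_one ρ
  have hcube : ∀ y, ρ (ρ (ρ y)) = y := fun y => by
    have := congrArg (fun σ : MulAut T => σ y) hρ3
    simpa [pow_succ, MulAut.mul_apply] using this
  have hh : Cfsg.Lib.TwoFour.FpfCube ρ := ⟨hcube, hfp⟩
  have hx2 : ∀ y, x (x y) = y := fun y => by
    have h2 : x ^ 2 = 1 := hx ▸ pow_orderOf_eq_one x
    have := congrArg (fun σ : MulAut T => σ y) h2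
    simpa [pow_succ, MulAut.mul_apply] using this
  have hinv : ∀ y, x (ρ y) = ρ (ρ (x y)) := fun y => by
    have e : ρ⁻¹ = ρ * ρ := inv_eq_of_mul_eq_one_right (by rw [← hρ3, pow_three])
    have := congrArg (fun σ : MulAut T => σ (x y)) hxr
    rw [e] at this
    simpa [MulAut.mul_apply, MulAut.inv_apply] using this
  have H := Cfsg.Lib.TwoFour.hyp64_of_fpf hh hT hna
  obtain ⟨hex, hCshape⟩ := H.inverted x hx2 hinv (fun v hv => by
    rw [Subgroup.mem_center_iff] at hv ⊢
    intro w
    obtain ⟨w', rfl⟩ := x.surjective w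
    rw [← map_mul, ← map_mul, hv w'])
  refine ⟨?_, hCshape C hC⟩
  refine ⟨GaloisField 2 2, inferInstance, Fintype.ofFinite _, ?_, ?_⟩
  · letI : Fintype (GaloisField 2 2) := Fintype.ofFinite _
    show Fintype.card (GaloisField 2 2) = _
    rw [← Nat.card_eq_fintype_card, GaloisField.card 2 2 (by norm_num)]; norm_num
  · haveI : Fintype (GaloisField 2 2) := Fintype.ofFinite _
    haveI : Fact (Nat.Prime 2) := ⟨Nat.prime_two⟩
    have hF : Fintype.card (GaloisField 2 2) = 4 := by
      rw [← Nat.card_eq_fintype_card, GaloisField.card 2 2 (by norm_num)]; norm_num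
    obtain ⟨P⟩ : Nonempty (Sylow 2 (Matrix.ProjectiveSpecialLinearGroup (Fin 3) (GaloisField 2 2))) := inferInstance
    obtain ⟨ρ', W, H', hex'⟩ := Cfsg.Lib.TwoFour.hyp64_psl hF P
    exact ⟨P, H.nonempty_mulEquiv H' ⟨fun _ => hex', fun _ => hex⟩⟩

end Cfsg.Agent.S3157
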