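import Cfsg.Statements.S3158
import Mathlib

set_option autoImplicit false
open Cfsg

namespace Cfsg.Agent.S3158

/-- Let U be a group of order q² with q = 2^n ≥ 2, and y an automorphism of U of order q − 1 all of whose nontrivial powers fix only the identity. Let V be a proper normal y-invariant subgroup of U such that V and U/V are elementary abelian 2-groups and there is an isomorphism from V to U/V commuting with the actions of y. Then U is abelian. -/
theorem result {U : Type*} [Group U] [Finite U] (n : ℕ) (hn : 1 ≤ n) (hU : Nat.card U = (2 ^ n) ^ 2)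
    (y : MulAut U) (hy : orderOf y = 2 ^ n - 1) (hfp : ∀ k : ℕ, y ^ k ≠ 1 → ∀ u : U, (y ^ k) u = u → u = 1)
    (V : Subgroup U) [V.Normal] (hV : V ≠ ⊤) (hyV : ∀ v ∈ V, y v ∈ V)
    (hVe : ∀ v ∈ V, v ^ 2 = 1) (hQe : ∀ u : U, u ^ 2 ∈ V) (hQc : ∀ u w : U, u * w * u⁻¹ * w⁻¹ ∈ V)
    (φ : ↥V ≃* U ⧸ V) (hφ : ∀ (v : ↥V) (u : U), (QuotientGroup.mk u : U ⧸ V) = φ v → φ ⟨y v, hyV v v.2⟩ = QuotientGroup.mk (y u)) :
    IsMulCommutative U := by
  classical
  set q := 2 ^ n with hq
  have hq2 : 2 ≤ q := by calc 2 = 2 ^ 1 := rfl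
    _ ≤ 2 ^ n := Nat.pow_le_pow_right (by norm_num) hn
  have hcard : Nat.card ↥V = q := by
    have h1 := Subgroup.card_eq_card_quotient_mul_card_subgroup V
    rw [← Nat.card_congr φ.toEquiv, hU] at h1
    have h2 : q ^ 2 = Nat.card ↥V ^ 2 := by rw [h1, pow_two (Nat.card ↥V)]
    exact (Nat.pow_left_injective (by norm_num : (2 : ℕ) ≠ 0) h2).symm
  have hyk : ∀ k : ℕ, ∀ v ∈ V, (y ^ k) v ∈ V := by
    intro k v hv
    induction k with
    | zero => simpa using hv
    | succ k ih => rw [pow_succ', MulAut.mul_apply]; exact hyV _ ih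
  -- transitivity on the non-identity elements of `V`
  have htrans : ∀ v0 ∈ V, v0 ≠ 1 → ∀ v ∈ V, v ≠ 1 → ∃ j : ℕ, (y ^ j) v0 = v := by
    intro v0 hv0 hv01
    let f : Fin (q - 1) → ({v : ↥V | v ≠ 1} : Set ↥V) := fun j =>
      ⟨⟨(y ^ (j : ℕ)) v0, hyk _ _ hv0⟩, fun h => hv01 (by
        have h' : (y ^ (j : ℕ)) v0 = 1 := congrArg Subtype.val h
        exact ((y ^ (j : ℕ)).map_eq_one_iff).1 h')⟩
    have hinj : Function.Injective f := by
      intro i j h
      have h' : (y ^ (i : ℕ)) v0 = (y ^ (j : ℕ)) v0 := congrArg Subtype.val (congrArg Subtype.val h)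
      by_contra hij
      wlog hlt : (i : ℕ) < j generalizing i j
      · exact this h.symm h'.symm (Ne.symm hij) (lt_of_le_of_ne (not_lt.1 hlt) (fun e => hij (Fin.ext e.symm)))
      have hk : y ^ ((j : ℕ) - i) ≠ 1 := pow_ne_one_of_lt_orderOf (by omega) (by rw [hy]; omega)
      refine hv01 (hfp _ hk v0 ((y ^ (i : ℕ)).injective ?_))
      rw [← MulAut.mul_apply, ← pow_add, show (i : ℕ) + (j - i) = j by omega, h']
    have hc : Nat.card ({v : ↥V | v ≠ 1} : Set ↥V) = q - 1 := by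
      rw [Nat.card_coe_set_eq, show {v : ↥V | v ≠ 1} = {(1 : ↥V)}ᶜ from rfl, Set.ncard_compl, Set.ncard_singleton, hcard]
    have hb := ((Nat.bijective_iff_injective_and_card f).2 ⟨hinj, by rw [Nat.card_fin, hc]⟩).2
    intro v hv hv1
    obtain ⟨j, hj⟩ := hb ⟨⟨v, hv⟩, fun h => hv1 (congrArg Subtype.val h)⟩
    exact ⟨j, congrArg Subtype.val (congrArg Subtype.val hj)⟩
  -- `V` is central
  have := Fact.mk Nat.prime_two
  have hVcen : ∀ v ∈ V, ∀ u : U, u * v = v * u := by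
    have hp : IsPGroup 2 U := IsPGroup.of_card (n := 2 * n) (by rw [hU, hq, ← pow_mul, Nat.mul_comm])
    have hnt : Nontrivial ↥V := Finite.one_lt_card_iff_nontrivial.1 (by omega)
    obtain ⟨c, hc1, hc2⟩ : ∃ c ∈ V, c ∈ Subgroup.center U ∧ c ≠ 1 := by
      have hmeet : V ⊓ Subgroup.center U ≠ ⊥ := by
        intro h
        let A : Subgroup U := V
        have h2 : 2 ∣ Nat.card ↥V := by rw [hcard, hq]; exact dvd_pow_self 2 (by omega)
        have hfix : (1 : ↥V) ∈ MulAction.fixedPoints (ConjAct U) ↥V := by intro g; ext; simp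
        obtain ⟨b, hb, hb1⟩ := (hp.of_equiv ConjAct.toConjAct).exists_fixed_point_of_prime_dvd_card_of_fixed_point
          (α := ↥V) h2 hfix
        refine hb1 (Subtype.ext ?_).symm
        have hmem : (b : U) ∈ V ⊓ Subgroup.center U := ⟨b.2, Subgroup.mem_center_iff.2 fun g => by
          have h1 := congrArg Subtype.val (hb (ConjAct.toConjAct g))
          rw [ConjAct.Subgroup.val_conj_smul, ConjAct.smul_def, ConjAct.ofConjAct_toConjAct] at h1
          calc g * (b : U) = g * b * g⁻¹ * g := by group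
            _ = b * g := by rw [h1]⟩
        rwa [h, Subgroup.mem_bot] at hmem
      obtain ⟨c, hc, hc1⟩ := (Subgroup.bot_or_exists_ne_one _).resolve_left hmeet
      exact ⟨c, hc.1, hc.2, hc1⟩
    intro v hv u
    by_cases hv1 : v = 1
    · simp [hv1]
    obtain ⟨j, rfl⟩ := htrans c hc1 hc2.2 v hv hv1
    have hcz : ∀ w : U, w * c = c * w := Subgroup.mem_center_iff.1 hc2.1
    have := congrArg (y ^ j) (hcz ((y ^ j).symm u))
    rwa [map_mul, map_mul, MulEquiv.apply_symm_apply] at this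
  have hsq : ∀ a : U, ∀ v ∈ V, (a * v) ^ 2 = a ^ 2 := fun a v hv => by
    rw [Commute.mul_pow (hVcen v hv a), hVe v hv, mul_one]
  have hcoset : ∀ a b : U, (QuotientGroup.mk a : U ⧸ V) = QuotientGroup.mk b → a ^ 2 = b ^ 2 := fun a b h => by
    have hv := QuotientGroup.eq.1 h
    rw [← hsq a _ hv, mul_inv_cancel_left]
  let s : ↥V → U := fun v => (φ v).out ^ 2
  have hs : ∀ (v : ↥V) (u : U), (QuotientGroup.mk u : U ⧸ V) = φ v → u ^ 2 = s v := fun v u h =>
    hcoset u _ (h.trans (Quotient.out_eq _).symm)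
  have hsy : ∀ (k : ℕ) (v : ↥V), s ⟨(y ^ k) v, hyk k v v.2⟩ = (y ^ k) (s v) := by
    intro k
    induction k with
    | zero => intro v; simp [s]
    | succ k ih =>
      intro v
      set w : ↥V := ⟨(y ^ k) v, hyk k v v.2⟩ with hw
      have hu : (QuotientGroup.mk (φ w).out : U ⧸ V) = φ w := Quotient.out_eq _
      have h1 := hφ w _ hu
      have h2 := hs _ _ h1.symm
      rw [← map_pow, ← show s w = (φ w).out ^ 2 from rfl, ih v] at h2
      have he : (⟨(y ^ (k + 1)) v, hyk (k + 1) v v.2⟩ : ↥V) = ⟨y w, hyV w w.2⟩ :=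
        Subtype.ext (show (y ^ (k + 1)) (v : U) = y (w : U) by rw [pow_succ', MulAut.mul_apply])
      rw [he, ← h2, pow_succ', MulAut.mul_apply]
  have hs1 : s 1 = 1 := by rw [← hs 1 1 (by simp), one_pow]
  obtain ⟨v0, hv0, hv01⟩ : ∃ v0 ∈ V, v0 ≠ 1 := (Subgroup.bot_or_exists_ne_one V).resolve_left fun h => by
    rw [h, Subgroup.card_bot] at hcard; omega
  have hhom : ∀ v w : ↥V, s (v * w) = s v * s w := by
    by_cases h0 : s ⟨v0, hv0⟩ = 1
    · have hall : ∀ v : ↥V, s v = 1 := fun v => by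
        by_cases hv : (v : U) = 1
        · rw [show v = 1 from Subtype.ext hv, hs1]
        obtain ⟨j, hj⟩ := htrans v0 hv0 hv01 v v.2 hv
        rw [show v = ⟨(y ^ j) v0, hyk j v0 hv0⟩ from Subtype.ext hj.symm, hsy j ⟨v0, hv0⟩, h0, map_one]
      intro v w; simp [hall]
    · have hm : s ⟨v0, hv0⟩ ∈ V := hQe _
      obtain ⟨k, hk⟩ := htrans v0 hv0 hv01 _ hm h0
      have hall : ∀ v : ↥V, s v = (y ^ k) v := fun v => by
        by_cases hv : (v : U) = 1
        · rw [show v = 1 from Subtype.ext hv, hs1, Subgroup.coe_one, map_one]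
        obtain ⟨j, hj⟩ := htrans v0 hv0 hv01 v v.2 hv
        rw [show v = ⟨(y ^ j) v0, hyk j v0 hv0⟩ from Subtype.ext hj.symm, hsy j ⟨v0, hv0⟩, ← hk,
          ← MulAut.mul_apply, ← MulAut.mul_apply, ← pow_add, ← pow_add, Nat.add_comm]
      intro v w
      rw [hall, hall, hall, Subgroup.coe_mul, map_mul]
  refine ⟨⟨fun a b => ?_⟩⟩
  obtain ⟨v, hv⟩ := φ.surjective (QuotientGroup.mk a)
  obtain ⟨w, hw⟩ := φ.surjective (QuotientGroup.mk b)
  have hab : (a * b) ^ 2 = a ^ 2 * b ^ 2 := by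
    rw [hs (v * w) (a * b) (by rw [map_mul, hv, hw, QuotientGroup.mk_mul]), hs v a hv.symm, hs w b hw.symm, hhom]
  rw [pow_two, pow_two, pow_two, mul_assoc, mul_assoc, mul_left_cancel_iff, ← mul_assoc, ← mul_assoc,
    mul_right_cancel_iff] at hab
  exact hab.symm

end Cfsg.Agent.S3158
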