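import Cfsg.Statements.S3161
import Cfsg.Agent.Lib.TwoFour.SingerTargets

set_option autoImplicit false
open Cfsg

namespace Cfsg.Agent.S3161

/-- Let Q be a non-abelian finite 2-group admitting commuting automorphisms α of order 2 and ρ of order 2^n − 1, where n ≥ 2, such that the fixed points of α form an elementary abelian subgroup of order 2^n on whose nonidentity elements the group generated by ρ acts transitively. Then Q is isomorphic to a Sylow 2-subgroup of the projective special unitary group of dimension 3 with parameter 2^n (realised over the field with 4^n elements) or of the projective special linear group of dimension 3 over the field with 2^n elements. -/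
theorem result {Q : Type*} [Group Q] [Finite Q] (hQ : IsPGroup 2 Q) (hna : ¬ IsMulCommutative Q) (n : ℕ) (hn : 2 ≤ n)
    (α ρ : MulAut Q) (hα : orderOf α = 2) (hρ : orderOf ρ = 2 ^ n - 1) (hc : Commute α ρ)
    (C : Subgroup Q) (hC : ∀ x : Q, x ∈ C ↔ α x = x) (hCE : Cfsg.IsElementaryAbelian 2 C ∧ Nat.card ↥C = 2 ^ n)
    (htr : ∀ x y : Q, x ∈ C → y ∈ C → x ≠ 1 → y ≠ 1 → ∃ k : ℕ, (ρ ^ k) x = y) :
    (∃ (F : Type) (_ : Field F) (_ : Fintype F), Fintype.card F = 4 ^ n ∧
        ∃ S : Sylow 2 (Cfsg.PSU 3 F (2 ^ n)), Nonempty (Q ≃* ↥(S : Subgroup (Cfsg.PSU 3 F (2 ^ n))))) ∨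
      (∃ (F : Type) (_ : Field F) (_ : Fintype F), Fintype.card F = 2 ^ n ∧
        ∃ S : Sylow 2 (Matrix.ProjectiveSpecialLinearGroup (Fin 3) F), Nonempty (Q ≃* ↥(S : Subgroup (Matrix.ProjectiveSpecialLinearGroup (Fin 3) F)))) := by
  classical
  haveI : Fact (Nat.Prime 2) := ⟨Nat.prime_two⟩
  have hcm : ∀ x, α (ρ x) = ρ (α x) := fun x => congrArg (fun σ : MulAut Q => σ x) hc.eq
  have hinv : ∀ x, α (α x) = x := fun x => by
    have h2 : α ^ 2 = 1 := hα ▸ pow_orderOf_eq_one α
    have := congrArg (fun σ : MulAut Q => σ x) h2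
    simpa [pow_succ, MulAut.mul_apply] using this
  have hit : ∀ (k : ℕ) x, (ρ ^ k) x = ρ^[k] x := by
    intro k
    induction k with
    | zero => intro x; rfl
    | succ k ih => intro x; rw [pow_succ', MulAut.mul_apply, ih, Function.iterate_succ_apply']
  have hρC : ∀ x : C, ρ x ∈ C := fun x => (hC _).2 (by rw [hcm, (hC _).1 x.2])
  letI : CommGroup C :=
    { (inferInstance : Group C) with mul_comm := fun a b => (hCE.1.1).is_comm.comm a b }
  let r : AddMonoid.End (Additive C) :=
    MonoidHom.toAdditive (MonoidHom.mk' (fun x : C => (⟨ρ x, hρC x⟩ : C)) fun a b => Subtype.ext (map_mul ρ _ _))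
  have hr : ∀ x : Additive C, ((Additive.toMul (r x) : C) : Q) = ρ (Additive.toMul x : C) := fun x => rfl
  have hrk : ∀ (k : ℕ) (x : Additive C),
      ((Additive.toMul ((r ^ k) x) : C) : Q) = (ρ ^ k) (Additive.toMul x : C) := by
    intro k
    induction k with
    | zero => intro x; rfl
    | succ k ih =>
      intro x
      rw [pow_succ', pow_succ', MulAut.mul_apply, ← ih]
      exact hr _
  have hA : Nat.card (Additive C) = 2 ^ n := (Nat.card_congr Additive.toMul).trans hCE.2
  have hne : ∀ x : Additive C, x ≠ 0 → ((Additive.toMul x : C) : Q) ≠ 1 := fun x hx e1 =>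
    hx (Additive.toMul.injective (Subtype.ext e1))
  obtain ⟨e0, l, hbij, hadd, hl, hgen⟩ := Cfsg.Lib.TwoFour.Singer.exists_coord hn hA r
    (fun x y hx hy => by
      obtain ⟨k, hk⟩ := htr _ _ (Additive.toMul x).2 (Additive.toMul y).2 (hne x hx) (hne y hy)
      exact ⟨k, Additive.toMul.injective (Subtype.ext ((hrk k x).trans hk))⟩)
    (fun x hx => Additive.toMul.injective (Subtype.ext (ρ.injective (by
      rw [← hr, hx]
      exact (map_one ρ).symm))))
  obtain ⟨e, he⟩ : ∃ e : Q → GaloisField 2 n, ∀ (x : Q) (hx : x ∈ C), e x = e0 (Additive.ofMul ⟨x, hx⟩) :=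
    ⟨fun x => if hx : x ∈ C then e0 (Additive.ofMul ⟨x, hx⟩) else 0, fun x hx => dif_pos hx⟩
  have h0 : e0 0 = 0 := by simpa using hadd 0 0
  letI : Fintype (GaloisField 2 n) := Fintype.ofFinite _
  have hF : Fintype.card (GaloisField 2 n) = 2 ^ n := by
    rw [← Nat.card_eq_fintype_card, GaloisField.card 2 n (by omega)]
  have hbig : ∃ t : GaloisField 2 n, t ≠ 0 ∧ t ≠ 1 := by
    by_contra hcon
    push Not at hcon
    have h4 : 2 ^ 2 ≤ 2 ^ n := Nat.pow_le_pow_right (by norm_num) hn
    have := Finset.card_le_card (s := (Finset.univ : Finset (GaloisField 2 n))) (t := {0, 1}) fun t _ => by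
      rcases eq_or_ne t 0 with rfl | ht
      · simp
      · simp [hcon t ht]
    rw [Finset.card_univ, hF] at this
    have := this.trans Finset.card_le_two
    omega
  have hy : Cfsg.Lib.TwoFour.Singer.Hy α ρ e l := by
    refine ⟨hQ, ?_, hinv, hcm, fun x y hx hy => ?_, fun x hx he0 => ?_, fun u => ?_, fun x hx => ?_, hgen, hbig⟩
    · haveI := (inferInstance : CharP (GaloisField 2 n) 2)
      exact CharTwo.two_eq_zero
    · rw [he x ((hC x).2 hx), he y ((hC y).2 hy), he _ ((hC _).2 (by rw [map_mul, hx, hy])), ← hadd]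
      rfl
    · rw [he x ((hC x).2 hx), ← h0] at he0
      exact congrArg (fun t : Additive C => ((Additive.toMul t : C) : Q)) (hbij.1 he0)
    · obtain ⟨t, ht⟩ := hbij.2 u
      exact ⟨(Additive.toMul t : C), (hC _).1 (Additive.toMul t).2, by rw [he _ (Additive.toMul t).2]; exact ht⟩
    · rw [he x ((hC x).2 hx), he _ (hρC ⟨x, (hC x).2 hx⟩), ← hl]
      rfl
  have hna' : ∃ a b : Q, a * b ≠ b * a := by
    by_contra hcon
    push Not at hcon
    exact hna ⟨⟨hcon⟩⟩
  have S := Cfsg.Lib.TwoFour.Singer.Hy.structure_theorem _ rfl hy hna'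
  have hN : (2 ^ n - 1) % 2 = 1 := by
    have : 2 ∣ 2 ^ n := dvd_pow_self 2 (by omega)
    have := Nat.one_le_two_pow (n := n)
    omega
  have hl0 : l ≠ 0 := fun e1 => by
    obtain ⟨t, ht0, ht1⟩ := hbig
    obtain ⟨k, hk⟩ := hgen t ht0
    rcases Nat.eq_zero_or_pos k with rfl | hk0
    · exact ht1 (by rw [← hk, pow_zero])
    · rw [e1, zero_pow hk0.ne'] at hk; exact ht0 hk.symm
  obtain ⟨ε, c, hc'⟩ := hy.exists_form S hN (by rw [← hF]; exact FiniteField.pow_card_sub_one_eq_one l hl0)
    (fun x => by rw [← hit, ← hρ, pow_orderOf_eq_one]; rfl)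
  rcases Cfsg.Lib.TwoFour.Singer.classify (n := n) (by omega) hF ε c hc' with hu | hl'
  · exact Or.inl hu
  · exact Or.inr ⟨GaloisField 2 n, inferInstance, inferInstance, hF, hl'⟩

end Cfsg.Agent.S3161
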