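import Cfsg.Statements.S3162
import Mathlib
import Cfsg.Agent.Lib.U3Even.Aut
import Cfsg.Agent.Lib.Fusion.Parts
-- import your own Cfsg.Agent.* helpers here

set_option autoImplicit false
open Cfsg

namespace Cfsg.Agent.S3162

open Cfsg.Lib.U3Even

variable {F : Type*} [Field F] [Fintype F] {n : ℕ} {T : Type*} [Group T]

theorem pCore_facts (hn : 1 ≤ n) (hF : Fintype.card F = (2 ^ n) ^ 2) (c : Coords F (2 ^ n) T) :
    Cfsg.IsElementaryAbelian 2 (Cfsg.pCore 2 (MulAut T)) ∧
      Nat.card ↥(Cfsg.pCore 2 (MulAut T)) = 2 ^ (2 * n ^ 2) := by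
  classical
  haveI : Fact (Nat.Prime 2) := ⟨Nat.prime_two⟩
  have hcardT := c.card_eq hn hF
  haveI : Finite T := Nat.finite_of_card_ne_zero (by rw [hcardT]; positivity)
  have hcomp : ∀ p p' g, c.A (c.extAut hn hF p (c.extAut hn hF p' g)) =
      (p.1 : F) * p.2.1 (p'.1 : F) * p.2.1 (p'.2.1 (c.A g)) := fun p p' g => by
    rw [c.A_extAut, c.A_extAut, map_mul]; ring
  obtain ⟨ι, hι⟩ : ∃ ι : Multiplicative (F →+ subfield hn hF) →* MulAut T,
      ∀ d, ι d = c.extAut hn hF (1, RingEquiv.refl F, Multiplicative.toAdd d) :=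
    ⟨MonoidHom.mk' (fun d => c.extAut hn hF (1, RingEquiv.refl F, Multiplicative.toAdd d))
      fun d e => MulEquiv.ext fun g => c.inj _ _
        (by simp [MulAut.mul_apply, c.A_extAut])
        (by
          simp only [MulAut.mul_apply, c.B_extAut, c.A_extAut, Units.val_one, one_mul, one_pow,
            RingEquiv.refl_apply, toAdd_mul, AddMonoidHom.add_apply, AddSubgroup.coe_add]
          ring), fun _ => rfl⟩
  have hιinj : Function.Injective ι := fun d e h => by
    rw [hι, hι] at h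
    exact Multiplicative.toAdd.injective (congrArg (fun p => p.2.2) (c.extAut_injective hn hF h))
  -- trivial action on the first coordinate
  have hrange : ∀ φ, φ ∈ ι.range ↔ ∀ g, c.A (φ g) = c.A g := by
    intro φ
    constructor
    · rintro ⟨d, rfl⟩ g
      rw [hι, c.A_extAut]; simp
    · intro h
      obtain ⟨⟨μ, σ, d⟩, rfl⟩ := c.extAut_surjective hn hF φ
      have ha : ∀ a, (μ : F) * σ a = a := fun a => by
        obtain ⟨g, rfl⟩ := c.exists_A hn hF a
        have := h g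
        rw [c.A_extAut] at this
        exact this
      have hμ : μ = 1 := Units.ext (by simpa using ha 1)
      have hσ : σ = RingEquiv.refl F := RingEquiv.ext fun a => by
        simpa [hμ] using ha a
      exact ⟨Multiplicative.ofAdd d, by rw [hι, hμ, hσ]; rfl⟩
  have hnorm : ι.range.Normal := ⟨fun φ hφ ψ => by
    obtain ⟨p, rfl⟩ := c.extAut_surjective hn hF ψ
    rw [hrange] at hφ ⊢
    intro g
    rw [MulAut.mul_apply, MulAut.mul_apply, c.A_extAut, hφ, ← c.A_extAut hn hF, MulAut.apply_inv_self]⟩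
  have hcardr : Nat.card ι.range = 2 ^ (2 * n ^ 2) := by
    rw [← Nat.card_congr (MonoidHom.ofInjective hιinj).toEquiv, Nat.card_congr Multiplicative.toAdd,
      c.card_hom hn hF]
  have hle : ι.range ≤ Cfsg.pCore 2 (MulAut T) :=
    Cfsg.Lib.Fusion.le_pCore hnorm (IsPGroup.of_card hcardr)
  have hge : Cfsg.pCore 2 (MulAut T) ≤ ι.range := by
    intro φ hφ
    haveI hnc : (Cfsg.pCore 2 (MulAut T)).Normal := Subgroup.sSup_normal _ fun _ h => h.1
    obtain ⟨⟨μ, σ, d⟩, rfl⟩ := c.extAut_surjective hn hF φ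
    obtain ⟨k, hk⟩ := Cfsg.Lib.Fusion.pCore_isPGroup 2 ⟨_, hφ⟩
    rw [Subtype.ext_iff, Subgroup.coe_pow, Subgroup.coe_one] at hk
    -- commutators with scalars have two-power order and act as odd scalars
    have hσ : ∀ a, σ a = a := by
      intro a
      by_cases ha0 : a = 0
      · rw [ha0, map_zero]
      obtain ⟨u, hu⟩ : ∃ u : Fˣ, (u : F) = a := ⟨Units.mk0 a ha0, rfl⟩
      obtain ⟨s, hs⟩ : ∃ s, s = c.extAut hn hF (u, RingEquiv.refl F, 0) := ⟨_, rfl⟩
      obtain ⟨χ, hχ⟩ : ∃ χ, χ = c.extAut hn hF (μ, σ, d) * s *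
          (c.extAut hn hF (μ, σ, d))⁻¹ * s⁻¹ := ⟨_, rfl⟩
      have hχmem : χ ∈ Cfsg.pCore 2 (MulAut T) := by
        rw [hχ, mul_assoc, mul_assoc, ← mul_assoc s]
        exact mul_mem hφ (hnc.conj_mem _ (inv_mem hφ) s)
      have hA : ∀ g, c.A (χ g) = σ a / a * c.A g := by
        intro g
        obtain ⟨g₁, hg₁⟩ : ∃ g₁, g₁ = s⁻¹ g := ⟨_, rfl⟩
        obtain ⟨g₂, hg₂⟩ : ∃ g₂, g₂ = (c.extAut hn hF (μ, σ, d))⁻¹ g₁ := ⟨_, rfl⟩
        have e1 : c.A g = a * c.A g₁ := by
          have h : c.A (s g₁) = c.A g := by rw [hg₁, MulAut.apply_inv_self]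
          rw [hs, c.A_extAut] at h
          simpa [hu] using h.symm
        have e2 : c.A g₁ = (μ : F) * σ (c.A g₂) := by
          have h : c.A (c.extAut hn hF (μ, σ, d) g₂) = c.A g₁ := by
            rw [hg₂, MulAut.apply_inv_self]
          rw [c.A_extAut] at h
          exact h.symm
        rw [hχ, MulAut.mul_apply, MulAut.mul_apply, MulAut.mul_apply, ← hg₁, ← hg₂, c.A_extAut, hs,
          c.A_extAut, e1, e2]
        simp [hu]
        field_simp
      obtain ⟨j, hj⟩ := Cfsg.Lib.Fusion.pCore_isPGroup 2 ⟨χ, hχmem⟩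
      rw [Subtype.ext_iff, Subgroup.coe_pow, Subgroup.coe_one] at hj
      have hpow : ∀ (m : ℕ) g, c.A ((χ ^ m) g) = (σ a / a) ^ m * c.A g := by
        intro m
        induction m with
        | zero => intro g; simp
        | succ m ih =>
          intro g
          rw [pow_succ, MulAut.mul_apply, ih, hA, pow_succ]
          ring
      obtain ⟨g, hg⟩ := c.exists_A hn hF 1
      have h1 := hpow (2 ^ j) g
      rw [hj, MulAut.one_apply, hg, mul_one] at h1
      haveI := charP_two hn hF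
      have h2 : (σ a / a - 1) ^ 2 ^ j = 0 := by
        rw [sub_pow_char_pow (R := F), one_pow, ← h1, sub_self]
      have h3 := eq_zero_of_pow_eq_zero h2
      rw [sub_eq_zero, div_eq_one_iff_eq ha0] at h3
      exact h3
    have hμ : (μ : F) = 1 := by
      have hpow : ∀ (m : ℕ) g, c.A ((c.extAut hn hF (μ, σ, d) ^ m) g) = (μ : F) ^ m * c.A g := by
        intro m
        induction m with
        | zero => intro g; simp
        | succ m ih =>
          intro g
          rw [pow_succ, MulAut.mul_apply, ih, c.A_extAut, pow_succ]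
          simp only [hσ]
          ring
      obtain ⟨g, hg⟩ := c.exists_A hn hF 1
      have h1 := hpow (2 ^ k) g
      rw [hk, MulAut.one_apply, hg, mul_one] at h1
      haveI := charP_two hn hF
      have h2 : ((μ : F) - 1) ^ 2 ^ k = 0 := by
        rw [sub_pow_char_pow (R := F), one_pow, ← h1, sub_self]
      exact sub_eq_zero.1 (eq_zero_of_pow_eq_zero h2)
    rw [hrange]
    intro g
    rw [c.A_extAut]
    simp [hμ, hσ]
  rw [le_antisymm hge hle]
  refine ⟨⟨⟨⟨?_⟩⟩, ?_⟩, hcardr⟩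
  · rintro ⟨_, a, rfl⟩ ⟨_, b, rfl⟩
    refine Subtype.ext ?_
    show ι a * ι b = ι b * ι a
    rw [← map_mul, ← map_mul, mul_comm]
  · rintro _ ⟨a, rfl⟩
    suffices ha : a * a = 1 by rw [← map_pow, pow_two, ha, map_one]
    refine Multiplicative.toAdd.injective (AddMonoidHom.ext fun x => Subtype.ext ?_)
    show (Multiplicative.toAdd a x : F) + (Multiplicative.toAdd a x : F) = 0
    exact add_self hn hF _

theorem main {S : Type*} [Group S] [Finite S] (n : ℕ) (hn : 2 ≤ n) (hF : Fintype.card F = 4 ^ n)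
    (P : Sylow 2 ↥(Cfsg.SU 3 F (2 ^ n))) (hS : Nonempty (S ≃* ↥(P : Subgroup ↥(Cfsg.SU 3 F (2 ^ n))))) :
    Cfsg.IsElementaryAbelian 2 (Cfsg.pCore 2 (MulAut S)) ∧
      Nat.card ↥(Cfsg.pCore 2 (MulAut S)) = 2 ^ (2 * n ^ 2) ∧
      Nat.card (MulAut S) = 2 ^ (2 * n ^ 2) * (2 * n * ((2 ^ n) ^ 2 - 1)) := by
  obtain ⟨e⟩ := hS
  have hn1 : 1 ≤ n := by omega
  have hF' : Fintype.card F = (2 ^ n) ^ 2 := by
    rw [hF, ← pow_mul, mul_comm, pow_mul]; norm_num
  obtain ⟨c₀⟩ := nonempty_coords hn1 hF' P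
  exact ⟨(pCore_facts hn1 hF' (c₀.comp e)).1, (pCore_facts hn1 hF' (c₀.comp e)).2,
    (c₀.comp e).card_mulAut hn1 hF'⟩

/-- Let S be a Sylow 2-subgroup of the special unitary group of dimension 3 with parameter q = 2^n (n ≥ 2; realised over the field with q² elements). Then the largest normal 2-subgroup of the automorphism group of S is elementary abelian of order 2^(2n²), and the automorphism group has order 2^(2n²) · 2n(q² − 1). -/
theorem result {S : Type*} [Group S] [Finite S] (n : ℕ) (hn : 2 ≤ n) {F : Type*} [Field F] [Fintype F] (hF : Fintype.card F = 4 ^ n)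
    (P : Sylow 2 ↥(Cfsg.SU 3 F (2 ^ n))) (hS : Nonempty (S ≃* ↥(P : Subgroup ↥(Cfsg.SU 3 F (2 ^ n))))) :
    Cfsg.IsElementaryAbelian 2 (Cfsg.pCore 2 (MulAut S)) ∧ Nat.card ↥(Cfsg.pCore 2 (MulAut S)) = 2 ^ (2 * n ^ 2) ∧
      Nat.card (MulAut S) = 2 ^ (2 * n ^ 2) * (2 * n * ((2 ^ n) ^ 2 - 1)) := by
  exact main n hn hF P hS

end Cfsg.Agent.S3162
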