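import Cfsg.Statements.S3163
import Mathlib

set_option autoImplicit false
open Cfsg

namespace Cfsg.Agent.S3163

/-- Let S be a non-abelian finite 2-group which is the product S = AB of two elementary abelian subgroups A and B, and suppose that the centralizer in S of every element of A outside B is exactly A. Then the centralizer of every element of B outside A is exactly B; A and B are maximal elementary abelian subgroups of S and the only ones; the centre of S is A ∩ B; and every element of S outside A ∪ B has centralizer of order at most min(|A|, |B|). -/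
theorem result {S : Type*} [Group S] [Finite S] (hS : IsPGroup 2 S) (hna : ¬ IsMulCommutative S) (A B : Subgroup S)
    (hA : Cfsg.IsElementaryAbelian 2 A) (hB : Cfsg.IsElementaryAbelian 2 B) (hAB : ∀ s : S, ∃ a ∈ A, ∃ b ∈ B, s = a * b)
    (hC : ∀ a ∈ A, a ∉ B → Subgroup.centralizer ({a} : Set S) = A) :
    (∀ b ∈ B, b ∉ A → Subgroup.centralizer ({b} : Set S) = B) ∧
      (∀ E : Subgroup S, Cfsg.IsElementaryAbelian 2 E → (∀ E' : Subgroup S, Cfsg.IsElementaryAbelian 2 E' → E ≤ E' → E' = E) → E = A ∨ E = B) ∧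
      (∀ E' : Subgroup S, Cfsg.IsElementaryAbelian 2 E' → A ≤ E' → E' = A) ∧ (∀ E' : Subgroup S, Cfsg.IsElementaryAbelian 2 E' → B ≤ E' → E' = B) ∧
      Subgroup.center S = A ⊓ B ∧
      (∀ x : S, x ∉ A → x ∉ B → Nat.card ↥(Subgroup.centralizer ({x} : Set S)) ≤ min (Nat.card ↥A) (Nat.card ↥B)) := by
  have hAc : ∀ a ∈ A, ∀ a' ∈ A, a * a' = a' * a := fun a ha a' ha' => by
    have := hA.1
    exact congrArg Subtype.val (mul_comm' (⟨a, ha⟩ : A) ⟨a', ha'⟩)
  have hBc : ∀ a ∈ B, ∀ a' ∈ B, a * a' = a' * a := fun a ha a' ha' => by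
    have := hB.1
    exact congrArg Subtype.val (mul_comm' (⟨a, ha⟩ : B) ⟨a', ha'⟩)
  -- neither of `A` and `B` is contained in the other
  have hab : ∃ a ∈ A, a ∉ B := by
    by_contra h
    push Not at h
    refine hna ⟨⟨fun x y => ?_⟩⟩
    obtain ⟨a, ha, b, hb, rfl⟩ := hAB x
    obtain ⟨a', ha', b', hb', rfl⟩ := hAB y
    exact hBc _ (mul_mem (h a ha) hb) _ (mul_mem (h a' ha') hb')
  have hba : ∃ b ∈ B, b ∉ A := by
    by_contra h
    push Not at h
    refine hna ⟨⟨fun x y => ?_⟩⟩
    obtain ⟨a, ha, b, hb, rfl⟩ := hAB x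
    obtain ⟨a', ha', b', hb', rfl⟩ := hAB y
    exact hAc _ (mul_mem ha (h b hb)) _ (mul_mem ha' (h b' hb'))
  have hCB : ∀ b ∈ B, b ∉ A → Subgroup.centralizer ({b} : Set S) = B := by
    intro b hb hbA
    refine le_antisymm (fun x hx => ?_) (fun x hx => Subgroup.mem_centralizer_singleton_iff.2 (hBc x hx b hb))
    rw [Subgroup.mem_centralizer_singleton_iff] at hx
    obtain ⟨a, ha, b', hb', rfl⟩ := hAB x
    by_cases haB : a ∈ B
    · exact mul_mem haB hb'
    · exfalso
      apply hbA
      rw [← hC a ha haB, Subgroup.mem_centralizer_singleton_iff]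
      have h1 : a * b * b' = b * a * b' := by
        calc a * b * b' = a * (b * b') := mul_assoc _ _ _
          _ = a * (b' * b) := by rw [hBc b hb b' hb']
          _ = a * b' * b := (mul_assoc _ _ _).symm
          _ = b * (a * b') := hx
          _ = b * a * b' := (mul_assoc _ _ _).symm
      exact (mul_right_cancel h1).symm
  have hzc : A ⊓ B ≤ Subgroup.center S := by
    intro z hz
    rw [Subgroup.mem_center_iff]
    intro x
    obtain ⟨a, ha, b, hb, rfl⟩ := hAB x
    rw [mul_assoc, hBc b hb z hz.2, ← mul_assoc, hAc a ha z hz.1, mul_assoc]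
  have hsq : ∀ x : S, x ^ 2 = 1 → x ∈ A ∨ x ∈ B := by
    intro x hx
    obtain ⟨a, ha, b, hb, rfl⟩ := hAB x
    by_cases haB : a ∈ B
    · exact Or.inr (mul_mem haB hb)
    refine Or.inl (mul_mem ha ?_)
    rw [← hC a ha haB, Subgroup.mem_centralizer_singleton_iff]
    have haa : a * a = 1 := by rw [← pow_two]; exact hA.2 a ha
    have hbb : b * b = 1 := by rw [← pow_two]; exact hB.2 b hb
    rw [pow_two] at hx
    calc b * a = (a * a) * (b * a) * (b * b) := by rw [haa, hbb, one_mul, mul_one]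
      _ = a * ((a * b) * (a * b)) * b := by group
      _ = a * b := by rw [hx, mul_one]
  refine ⟨hCB, ?_, ?_, ?_, le_antisymm ?_ hzc, ?_⟩
  · intro E hE hmax
    by_cases h : E ≤ A
    · exact Or.inl (hmax A hA h).symm
    · obtain ⟨e, he, heA⟩ := SetLike.not_le_iff_exists.1 h
      refine Or.inr (hmax B hB fun f hf => ?_).symm
      have heB : e ∈ B := (hsq e (hE.2 e he)).resolve_left heA
      rw [← hCB e heB heA, Subgroup.mem_centralizer_singleton_iff]
      have := hE.1
      exact congrArg Subtype.val (mul_comm' (⟨f, hf⟩ : E) ⟨e, he⟩)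
  · intro E hE hle
    obtain ⟨a, ha, haB⟩ := hab
    refine le_antisymm (fun f hf => ?_) hle
    rw [← hC a ha haB, Subgroup.mem_centralizer_singleton_iff]
    have := hE.1
    exact congrArg Subtype.val (mul_comm' (⟨f, hf⟩ : E) ⟨a, hle ha⟩)
  · intro E hE hle
    obtain ⟨b, hb, hbA⟩ := hba
    refine le_antisymm (fun f hf => ?_) hle
    rw [← hCB b hb hbA, Subgroup.mem_centralizer_singleton_iff]
    have := hE.1
    exact congrArg Subtype.val (mul_comm' (⟨f, hf⟩ : E) ⟨b, hle hb⟩)
  · intro z hz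
    obtain ⟨a, ha, haB⟩ := hab
    obtain ⟨b, hb, hbA⟩ := hba
    refine ⟨?_, ?_⟩
    · rw [← hC a ha haB]; exact Subgroup.center_le_centralizer _ hz
    · rw [← hCB b hb hbA]; exact Subgroup.center_le_centralizer _ hz
  · intro x hxA hxB
    have key : ∀ (X Y : Subgroup S), (∀ s : S, ∃ u ∈ Y, ∃ v ∈ X, s = u * v) → X ⊓ Y ≤ Subgroup.center S →
        (Subgroup.centralizer ({x} : Set S) ⊓ X ≤ X ⊓ Y) →
        Nat.card ↥(Subgroup.centralizer ({x} : Set S)) ≤ Nat.card ↥Y := by
      intro X Y hXY hZ hCX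
      set C := Subgroup.centralizer ({x} : Set S) with hCdef
      have h1 : X.relIndex C ≤ X.relIndex Y := by
        refine le_trans (Nat.card_le_card_of_injective _ (Subgroup.quotientSubgroupOfEmbeddingOfLE X (le_top : C ≤ ⊤)).injective) ?_
        refine Nat.card_le_card_of_surjective (Subgroup.quotientSubgroupOfEmbeddingOfLE X (le_top : Y ≤ ⊤)) ?_
        intro q
        induction q using Quotient.inductionOn' with
        | h s =>
          obtain ⟨u, hu, v, hv, hs⟩ := hXY (s : S)
          refine ⟨QuotientGroup.mk (⟨u, hu⟩ : ↥Y), ?_⟩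
          rw [Subgroup.quotientSubgroupOfEmbeddingOfLE_apply_mk]
          refine QuotientGroup.eq.2 ?_
          rw [Subgroup.mem_subgroupOf]
          simpa [hs] using hv
      have hc1 : Nat.card ↥(X ⊓ C : Subgroup S) * X.relIndex C = Nat.card ↥C := by
        rw [← Subgroup.inf_relIndex_right, ← Nat.card_congr (Subgroup.subgroupOfEquivOfLe (inf_le_right : X ⊓ C ≤ C)).toEquiv]
        exact Subgroup.card_mul_index _
      have hc2 : Nat.card ↥(X ⊓ Y : Subgroup S) * X.relIndex Y = Nat.card ↥Y := by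
        rw [← Subgroup.inf_relIndex_right, ← Nat.card_congr (Subgroup.subgroupOfEquivOfLe (inf_le_right : X ⊓ Y ≤ Y)).toEquiv]
        exact Subgroup.card_mul_index _
      rw [← hc1, ← hc2]
      exact Nat.mul_le_mul (Subgroup.card_le_of_le (by rw [inf_comm]; exact hCX)) h1
    refine le_min ?_ ?_
    · refine key B A hAB (inf_comm A B ▸ hzc) (fun c hc => ⟨hc.2, ?_⟩)
      by_contra hcA
      exact hxB (hCB c hc.2 hcA ▸ Subgroup.mem_centralizer_singleton_iff.2 (Subgroup.mem_centralizer_singleton_iff.1 hc.1).symm)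
    · refine key A B (fun s => ?_) hzc (fun c hc => ⟨hc.2, ?_⟩)
      · obtain ⟨a, ha, b, hb, hs⟩ := hAB s⁻¹
        exact ⟨b⁻¹, inv_mem hb, a⁻¹, inv_mem ha, by rw [← mul_inv_rev, ← hs, inv_inv]⟩
      by_contra hcB
      exact hxA (hC c hc.2 hcB ▸ Subgroup.mem_centralizer_singleton_iff.2 (Subgroup.mem_centralizer_singleton_iff.1 hc.1).symm)

end Cfsg.Agent.S3163
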