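import Cfsg.Statements.S3164
import Cfsg.Agent.Lib.Core.Layer
import Cfsg.Agent.Lib.Coprime.Generation
import Mathlib.GroupTheory.Perm.Cycle.Type
-- import your own Cfsg.Agent.* helpers here

set_option autoImplicit false
set_option linter.style.haveILetI false
open Cfsg

namespace Cfsg.Agent.S3164

open Cfsg.Lib.Core
open scoped commutatorElement

/-- An automorphism of order two of a group of even order fixes an involution. -/
theorem exists_fixed_involution {G : Type*} [Group G] [Finite G] {N : Subgroup G} (hN : N.Normal)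
    (he : ¬ Odd (Nat.card N)) (t : G) (ht : t * t = 1) :
    ∃ u ∈ N, orderOf u = 2 ∧ Commute u t := by
  classical
  set K : Subgroup G := N ⊓ Subgroup.centralizer ({t} : Set G) with hK
  haveI : Fintype ↥N := Fintype.ofFinite _
  let f : Function.End ↥N := fun n => ⟨t * n * t⁻¹, hN.conj_mem n n.2 t⟩
  have hf : f ^ 2 ^ 1 = 1 := by
    rw [pow_one, pow_two]
    funext n
    refine Subtype.ext ?_
    show t * (t * (n : G) * t⁻¹) * t⁻¹ = n
    rw [inv_eq_of_mul_eq_one_right ht]
    calc t * (t * (n : G) * t) * t = (t * t) * n * (t * t) := by group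
      _ = n := by rw [ht, one_mul, mul_one]
  haveI : Fact (Nat.Prime 2) := ⟨Nat.prime_two⟩
  have hmod := Equiv.Perm.card_fixedPoints_modEq (p := 2) (n := 1) hf
  have hiff : ∀ n : ↥N, n ∈ f.fixedPoints ↔ (n : G) * t = t * n := by
    intro n
    rw [Function.mem_fixedPoints, Function.IsFixedPt, Subtype.ext_iff]
    show t * (n : G) * t⁻¹ = n ↔ _
    rw [mul_inv_eq_iff_eq_mul, eq_comm]
  let e : ↥f.fixedPoints ≃ ↥K :=
    { toFun := fun n => ⟨n.1.1, n.1.2, Subgroup.mem_centralizer_singleton_iff.2 ((hiff n.1).1 n.2)⟩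
      invFun := fun k => ⟨⟨k.1, k.2.1⟩, (hiff _).2 (Subgroup.mem_centralizer_singleton_iff.1 k.2.2)⟩
      left_inv := fun _ => rfl
      right_inv := fun _ => rfl }
  rw [← Nat.card_eq_fintype_card, ← Nat.card_eq_fintype_card, Nat.card_congr e] at hmod
  rw [Nat.not_odd_iff_even, even_iff_two_dvd] at he
  obtain ⟨u, hu⟩ := exists_prime_orderOf_dvd_card' 2 ((hmod.dvd_iff dvd_rfl).1 he)
  exact ⟨u, u.2.1, by rw [Subgroup.orderOf_coe]; exact hu,
    Subgroup.mem_centralizer_singleton_iff.1 u.2.2⟩

/-- Let A be a standard subgroup of a finite group G whose centralizer has cyclic Sylow 2-subgroups, t an involution centralizing A, and X the normal closure of A in G. If X has a t-invariant 2-subgroup R with [R, t] nontrivial and contained in A, then X is semisimple (X equals its own layer, a central product of quasisimple groups) and the centre of X has odd order. -/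
theorem result {G : Type*} [Group G] [Finite G] (A : Subgroup G) (hA : Cfsg.IsStandardSubgroup A)
    (hcyc : ∀ R : Sylow 2 ↥(Subgroup.centralizer (A : Set G)), IsCyclic ↥(R : Subgroup ↥(Subgroup.centralizer (A : Set G)))) (t : G) (ht : orderOf t = 2) (htA : t ∈ Subgroup.centralizer (A : Set G))
    (R : Subgroup G) (hR2 : IsPGroup 2 ↥R) (hRX : R ≤ Subgroup.normalClosure (A : Set G)) (hRt : ∀ r ∈ R, t * r * t⁻¹ ∈ R)
    (hc1 : ⁅R, Subgroup.zpowers t⁆ ≠ ⊥) (hc2 : ⁅R, Subgroup.zpowers t⁆ ≤ A) :
    Cfsg.layer ↥(Subgroup.normalClosure (A : Set G)) = ⊤ ∧ Odd (Nat.card ↥(Subgroup.center ↥(Subgroup.normalClosure (A : Set G)))) := by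
  obtain ⟨hqs, ⟨-, hTI⟩, -, hNeq⟩ := hA
  set C := Subgroup.centralizer (A : Set G) with hC
  have hperf : ⁅A, A⁆ = A := Subgroup.isPerfect_iff.1 hqs.1
  have ht2 : t * t = 1 := by rw [← pow_two, ← ht, pow_orderOf_eq_one]
  have ht1 : t ≠ 1 := fun h => by rw [h, orderOf_one] at ht; norm_num at ht
  have htinv : t⁻¹ = t := inv_eq_of_mul_eq_one_right ht2
  -- commuting involutions of `C` are equal
  have huniq : ∀ u : G, u ∈ C → orderOf u = 2 → Commute u t → u = t := by
    intro u huC hu hut
    let f : Subgroup ↥C := Subgroup.closure {⟨u, huC⟩, ⟨t, htA⟩}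
    have hcm : IsMulCommutative ↥f := Subgroup.isMulCommutative_closure (by
      rintro x (rfl | rfl) y (rfl | rfl) <;> first | rfl | exact Subtype.ext hut.eq | exact Subtype.ext hut.eq.symm)
    haveI : Fact (Nat.Prime 2) := ⟨Nat.prime_two⟩
    have hle : f ≤ (({ carrier := {x : ↥C | x * x = 1 ∧ x * ⟨u, huC⟩ = ⟨u, huC⟩ * x ∧ x ∈ f}
                       one_mem' := ⟨one_mul _, by simp, one_mem _⟩
                       mul_mem' := fun {a b} ha hb => ⟨by
                          have hc : b * a = a * b := congrArg Subtype.val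
                            (mul_comm' (⟨b, hb.2.2⟩ : f) ⟨a, ha.2.2⟩)
                          calc a * b * (a * b) = a * (b * a) * b := by group
                            _ = a * a * (b * b) := by rw [hc]; group
                            _ = 1 := by rw [ha.1, hb.1, one_mul], by
                          calc a * b * ⟨u, huC⟩ = a * (b * ⟨u, huC⟩) := by group
                            _ = a * (⟨u, huC⟩ * b) := by rw [hb.2.1]
                            _ = (a * ⟨u, huC⟩) * b := by group
                            _ = ⟨u, huC⟩ * (a * b) := by rw [ha.2.1]; group, mul_mem ha.2.2 hb.2.2⟩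
                       inv_mem' := fun {a} ha => by
                          rw [Set.mem_ofPred_eq, inv_eq_of_mul_eq_one_right ha.1]; exact ha } : Subgroup ↥C)) := by
      refine (Subgroup.closure_le _).2 ?_
      rintro x (rfl | rfl)
      · exact ⟨Subtype.ext (by show u * u = 1; rw [← pow_two, ← hu, pow_orderOf_eq_one]), rfl,
          Subgroup.subset_closure (Set.mem_insert _ _)⟩
      · exact ⟨Subtype.ext ht2, Subtype.ext hut.eq.symm, Subgroup.subset_closure (Set.mem_insert_of_mem _ rfl)⟩
    have hp : IsPGroup 2 ↥f := fun x => ⟨1, Subtype.ext (by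
      show (x : ↥C) ^ 2 = 1
      rw [pow_two]; exact (hle x.2).1)⟩
    obtain ⟨S, hS⟩ := hp.exists_le_sylow
    haveI := hcyc S
    have hcS : IsCyclic ↥f := Subgroup.isCyclic_of_le hS
    have h2 : ∀ x y : ↥f, orderOf x = 2 → orderOf y = 2 → x = y := by
      intro x y hx hy
      classical
      haveI : Fintype ↥f := Fintype.ofFinite _
      have hc := IsCyclic.card_orderOf_eq_totient (α := ↥f) (d := 2) (by rw [← hx]; exact orderOf_dvd_card)
      rw [show Nat.totient 2 = 1 by decide, Finset.card_eq_one] at hc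
      obtain ⟨z, hz⟩ := hc
      have hxz := hz ▸ (Finset.mem_filter.2 ⟨Finset.mem_univ x, hx⟩)
      have hyz := hz ▸ (Finset.mem_filter.2 ⟨Finset.mem_univ y, hy⟩)
      rw [Finset.mem_singleton] at hxz hyz
      rw [hxz, hyz]
    exact congrArg (fun x : ↥f => ((x : ↥C) : G))
      (h2 ⟨⟨u, huC⟩, Subgroup.subset_closure (Set.mem_insert _ _)⟩
        ⟨⟨t, htA⟩, Subgroup.subset_closure (Set.mem_insert_of_mem _ rfl)⟩
        (by rw [← Subgroup.orderOf_coe, ← Subgroup.orderOf_coe]; exact hu)
        (by rw [← Subgroup.orderOf_coe, ← Subgroup.orderOf_coe]; exact ht))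
  -- the centralizer of `t` normalizes `A`
  have hCt : ∀ x : G, Commute x t → x ∈ Subgroup.normalizer (A : Set G) := by
    intro x hx
    rw [hNeq]
    by_contra hxC
    have h1 : t ∈ C ⊓ C.map (MulAut.conj x).toMonoidHom :=
      ⟨htA, t, htA, by show x * t * x⁻¹ = t; rw [hx.eq, mul_inv_cancel_right]⟩
    have h2 := (hTI x hxC).of_dvd_nat (Subgroup.orderOf_dvd_natCard _ h1)
    rw [ht] at h2
    exact absurd h2 (by decide)
  -- the involution `a = [r, t]`
  obtain ⟨r, hr, hr1⟩ : ∃ r ∈ R, ⁅r, t⁆ ≠ 1 := by
    by_contra hcon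
    push Not at hcon
    refine hc1 (commutator_eq_bot_iff_forall.2 fun x hx y hy => ?_)
    obtain ⟨k, rfl⟩ := Subgroup.mem_zpowers_iff.1 hy
    exact ((commutatorElement_eq_one_iff_mul_comm.1 (hcon x hx) : x * t = t * x) |> fun h =>
      ((show Commute x t from h).zpow_right k).eq)
  set a := ⁅r, t⁆ with ha
  have haA : a ∈ A := hc2 (Subgroup.commutator_mem_commutator hr (Subgroup.mem_zpowers t))
  have hat : Commute a t := (Subgroup.mem_centralizer_iff.1 htA a haA)
  have hconj : r * t * r⁻¹ = a * t := by
    rw [ha, commutatorElement_def, inv_mul_cancel_right]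
  have ha2 : a * a = 1 := by
    calc a * a = (a * t) * (a * t) := by
          rw [mul_assoc a t, ← mul_assoc t a t, ← hat.eq, mul_assoc a t t, ht2, mul_one]
      _ = r * (t * t) * r⁻¹ := by rw [← hconj]; group
      _ = 1 := by rw [ht2, mul_one, mul_inv_cancel]
  have hat1 : a ≠ t := by
    intro h
    rw [h, ht2] at hconj
    exact ht1 (conj_eq_one_iff.1 hconj)
  have haC : a ∉ C := fun h => hat1 (huniq a h (orderOf_eq_prime (p := 2) (by rw [pow_two, ha2]) hr1) hat)
  -- normal subgroups meeting `A` centrally are centralized by `A`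
  have key : ∀ N : Subgroup G, N.Normal → A ⊓ N ≤ C → Odd (Nat.card N) ∧ A ≤ Subgroup.centralizer (N : Set G) := by
    intro N hN hAN
    have hfix : ∀ n ∈ N, Commute n t → n ∈ C := by
      have h0 : ⁅N ⊓ Subgroup.centralizer ({t} : Set G), A⁆ = ⊥ := by
        refine commutator_eq_bot_of_perfect hperf (eq_bot_iff.2 ?_)
        refine (Subgroup.commutator_mono (?_ : _ ≤ A ⊓ N) le_rfl).trans (le_of_eq
          (Subgroup.commutator_eq_bot_iff_le_centralizer.2 hAN))
        refine Subgroup.commutator_le.2 fun n hn b hb => Subgroup.mem_inf.2 ⟨?_, ?_⟩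
        · rw [commutatorElement_def]
          exact mul_mem ((Subgroup.mem_normalizer_iff.1 (hCt n (Subgroup.mem_centralizer_singleton_iff.1 hn.2)) b).1 hb)
            (inv_mem hb)
        · rw [commutatorElement_def, mul_assoc n b, mul_assoc n]
          exact mul_mem hn.1 (hN.conj_mem _ (inv_mem hn.1) b)
      intro n hn hnt
      exact Subgroup.commutator_eq_bot_iff_le_centralizer.1 h0
        (Subgroup.mem_inf.2 ⟨hn, Subgroup.mem_centralizer_singleton_iff.2 hnt⟩)
    have htN : t ∉ N := by
      intro h
      refine haC (hAN ⟨haA, ?_⟩)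
      rw [ha, commutatorElement_def]
      exact N.mul_mem (hN.conj_mem t h r) (N.inv_mem h)
    have hodd : Odd (Nat.card N) := by
      by_contra he
      obtain ⟨u, huN, hu, hut⟩ := exists_fixed_involution hN he t ht2
      exact htN (huniq u (hfix u huN hut) hu hut ▸ huN)
    refine ⟨hodd, ?_⟩
    set N0 := N ⊓ Subgroup.centralizer ({t} : Set G) with hN0
    set N1 := N ⊓ Subgroup.centralizer ({a * t} : Set G) with hN1
    have hle : N0 ≤ N1 := fun n hn => ⟨hn.1, Subgroup.mem_centralizer_singleton_iff.2 (by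
      have h1 : a * n = n * a := Subgroup.mem_centralizer_iff.1
        (hfix n hn.1 (Subgroup.mem_centralizer_singleton_iff.1 hn.2)) a haA
      exact ((show Commute n a from h1.symm).mul_right (Subgroup.mem_centralizer_singleton_iff.1 hn.2)).eq)⟩
    have hmap : N0.map (MulAut.conj r).toMonoidHom = N1 := by
      ext x
      rw [mem_map_conj]
      simp only [hN0, hN1, Subgroup.mem_inf, Subgroup.mem_centralizer_singleton_iff]
      refine and_congr ⟨fun h => by simpa [mul_assoc] using hN.conj_mem _ h r, fun h => by simpa using hN.conj_mem _ h r⁻¹⟩ ?_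
      rw [← hconj]
      constructor
      · intro h
        calc x * (r * t * r⁻¹) = r * (r⁻¹ * x * r * t) * r⁻¹ := by group
          _ = r * (t * (r⁻¹ * x * r)) * r⁻¹ := by rw [h]
          _ = r * t * r⁻¹ * x := by group
      · intro h
        calc r⁻¹ * x * r * t = r⁻¹ * (x * (r * t * r⁻¹)) * r := by group
          _ = r⁻¹ * (r * t * r⁻¹ * x) * r := by rw [h]
          _ = t * (r⁻¹ * x * r) := by group
    have heq : N0 = N1 := Subgroup.eq_of_le_of_card_ge hle (le_of_eq (by
      rw [← hmap, Subgroup.card_map_of_injective (MulAut.conj r).injective]))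
    -- the four group
    let V : Subgroup G :=
      { carrier := {1, a, t, a * t}
        one_mem' := Or.inl rfl
        mul_mem' := by
          have e1 : t * a = a * t := hat.eq.symm
          have e2 : a * (a * t) = t := by rw [← mul_assoc, ha2, one_mul]
          have e3 : t * (a * t) = a := by rw [← mul_assoc, e1, mul_assoc, ht2, mul_one]
          have e4 : a * t * a = t := by rw [mul_assoc, e1, e2]
          have e5 : a * t * t = a := by rw [mul_assoc, ht2, mul_one]
          have e6 : a * t * (a * t) = 1 := by rw [← mul_assoc, e4, ht2]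
          rintro x y (rfl | rfl | rfl | rfl) (rfl | rfl | rfl | rfl) <;>
            simp only [one_mul, mul_one, ha2, ht2, e1, e2, e3, e4, e5, e6, Set.mem_insert_iff, Set.mem_singleton_iff, true_or, or_true]
        inv_mem' := by
          rintro x (rfl | rfl | rfl | rfl)
          · exact Or.inl inv_one
          · exact Or.inr (Or.inl (inv_eq_of_mul_eq_one_right ha2))
          · exact Or.inr (Or.inr (Or.inl htinv))
          · refine Or.inr (Or.inr (Or.inr ?_))
            rw [mul_inv_rev, htinv, inv_eq_of_mul_eq_one_right ha2]; exact hat.eq.symm }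
    have hVsq : ∀ x ∈ V, x * x = 1 := by
      rintro x (rfl | rfl | rfl | rfl)
      · exact one_mul 1
      · exact ha2
      · exact ht2
      · rw [mul_assoc, ← mul_assoc t a t, ← hat.eq, mul_assoc a t t, ht2, mul_one, ha2]
    haveI : IsMulCommutative ↥V := ⟨⟨fun x y => Subtype.ext (by
      have h := hVsq _ (mul_mem x.2 y.2)
      show (x : G) * (y : G) = (y : G) * (x : G)
      calc (x : G) * (y : G) = ((x : G) * (y : G))⁻¹ := (inv_eq_of_mul_eq_one_right h).symm
        _ = (y : G) * (x : G) := by
          rw [mul_inv_rev, inv_eq_of_mul_eq_one_right (hVsq _ x.2), inv_eq_of_mul_eq_one_right (hVsq _ y.2)])⟩⟩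
    haveI : Fact (Nat.Prime 2) := ⟨Nat.prime_two⟩
    have hV2 : IsPGroup 2 ↥V := fun x => ⟨1, Subtype.ext (by
      show (x : G) ^ 2 = 1; rw [pow_two]; exact hVsq _ x.2)⟩
    have hVnc : ¬ IsCyclic ↥V := by
      intro hV
      obtain ⟨g, hg⟩ := hV.exists_generator
      have hg2 : g * g = 1 := Subtype.ext (hVsq _ g.2)
      have hsmall : ∀ x : ↥V, x = 1 ∨ x = g := by
        intro x
        obtain ⟨k, rfl⟩ := Subgroup.mem_zpowers_iff.1 (hg x)
        rcases Int.even_or_odd' k with ⟨m, rfl | rfl⟩
        · left; rw [zpow_mul, zpow_two, hg2, one_zpow]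
        · right; rw [zpow_add_one, zpow_mul, zpow_two, hg2, one_zpow, one_mul]
      have ha0 : a ≠ 1 := hr1
      rcases hsmall ⟨a, Or.inr (Or.inl rfl)⟩ with h | h
      · exact ha0 (congrArg Subtype.val h)
      rcases hsmall ⟨t, Or.inr (Or.inr (Or.inl rfl))⟩ with h' | h'
      · exact ht1 (congrArg Subtype.val h')
      · exact hat1 (congrArg Subtype.val (h.trans h'.symm))
    have hcopV : (Nat.card V).Coprime (Nat.card N) := by
      obtain ⟨k, hk⟩ := hV2.exists_card_eq
      rw [hk]; exact Nat.Coprime.pow_left _ hodd.coprime_two_left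
    have hgen := Cfsg.Lib.Coprime.le_iSup_centralizer_of_not_isCyclic (A := V) (G := N) hVnc
      Subgroup.le_normalizer_of_normal hcopV
    have hNa : N ≤ Subgroup.centralizer ({a} : Set G) := by
      refine hgen.trans (iSup_le ?_)
      rintro ⟨v, hv, hv1⟩ n hn
      simp only [Subgroup.mem_inf, Subgroup.mem_centralizer_singleton_iff] at hn ⊢
      have hfix' : Commute n t → n * a = a * n := fun h =>
        (Subgroup.mem_centralizer_iff.1 (hfix n hn.1 h) a haA).symm
      rcases hv with rfl | rfl | rfl | rfl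
      · exact absurd rfl hv1
      · exact hn.2
      · exact hfix' hn.2
      · refine hfix' ?_
        have hmem : n ∈ N0 := heq ▸ (⟨hn.1, Subgroup.mem_centralizer_singleton_iff.2 hn.2⟩ : n ∈ N1)
        exact Subgroup.mem_centralizer_singleton_iff.1 hmem.2
    haveI : ((A ⊓ Subgroup.centralizer (N : Set G)).subgroupOf A).Normal := by
      refine (Subgroup.normal_subgroupOf_iff_le_normalizer inf_le_left).2 ?_
      refine le_trans (le_inf Subgroup.le_normalizer ?_) Subgroup.inf_normalizer_le_normalizer_inf
      haveI := hN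
      exact Subgroup.le_normalizer_of_normal
    rcases quasisimple_normal hqs (N := (A ⊓ Subgroup.centralizer (N : Set G)).subgroupOf A) with h | h
    · exfalso
      refine haC (Subgroup.mem_centralizer_iff.2 fun b hb => ?_)
      have h1 : (⟨a, haA⟩ : ↥A) ∈ Subgroup.center ↥A := h ⟨haA, Subgroup.mem_centralizer_iff.2
        fun n hn => Subgroup.mem_centralizer_singleton_iff.1 (hNa hn)⟩
      exact congrArg Subtype.val (Subgroup.mem_center_iff.1 h1 ⟨b, hb⟩)
    · exact (Subgroup.subgroupOf_eq_top.1 h).trans inf_le_right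
  set X := Subgroup.normalClosure (A : Set G) with hX
  have hAX : A ≤ X := fun x hx => Subgroup.subset_normalClosure hx
  haveI hXn : X.Normal := Subgroup.normalClosure_normal
  have hcases : ∀ N : Subgroup G, N.Normal → A ≤ N ∨ A ⊓ N ≤ C := by
    intro N hN
    haveI := hN
    haveI : ((A ⊓ N).subgroupOf A).Normal := by
      refine (Subgroup.normal_subgroupOf_iff_le_normalizer inf_le_left).2 ?_
      exact le_trans (le_inf Subgroup.le_normalizer Subgroup.le_normalizer_of_normal) Subgroup.inf_normalizer_le_normalizer_inf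
    rcases quasisimple_normal hqs (N := (A ⊓ N).subgroupOf A) with h | h
    · exact Or.inr fun x hx => Subgroup.mem_centralizer_iff.2 fun b hb =>
        congrArg Subtype.val (Subgroup.mem_center_iff.1 (h (show (⟨x, hx.1⟩ : ↥A) ∈ _ from hx)) ⟨b, hb⟩)
    · exact Or.inl ((Subgroup.subgroupOf_eq_top.1 h).trans inf_le_right)
  haveI : (Cfsg.fittingSubgroup ↥X).Characteristic := Cfsg.Lib.Core.fittingSubgroup_characteristic
  have hE : ((Cfsg.layer ↥X).map X.subtype).Normal := normal_map_char_of_normal _
  have hF : ((Cfsg.fittingSubgroup ↥X).map X.subtype).Normal := normal_map_char_of_normal _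
  have hAE : A ≤ (Cfsg.layer ↥X).map X.subtype := by
    refine (hcases _ hE).resolve_right fun h1 => ?_
    have hcE := (key _ hE h1).2
    have hAF : A ⊓ (Cfsg.fittingSubgroup ↥X).map X.subtype ≤ C := by
      refine (hcases _ hF).resolve_left fun h2 => quasisimple_not_solvable hqs ?_
      refine Cfsg.Lib.Core.isSolvable_of_le h2 (Cfsg.Lib.Core.isSolvable_map ?_ _)
      haveI := fittingSubgroup_isNilpotent ↥X
      infer_instance
    have hcF := (key _ hF hAF).2
    have hsub : A.subgroupOf X ≤ Subgroup.centralizer (Cfsg.generalizedFittingSubgroup ↥X : Set ↥X) := by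
      rw [Cfsg.generalizedFittingSubgroup, Subgroup.le_centralizer_iff]
      refine sup_le ?_ ?_
      · intro y hy
        exact Subgroup.mem_centralizer_iff.2 fun x hx => Subtype.ext
          (Subgroup.mem_centralizer_iff.1 (hcE hx) y ⟨y, hy, rfl⟩).symm
      · intro y hy
        exact Subgroup.mem_centralizer_iff.2 fun x hx => Subtype.ext
          (Subgroup.mem_centralizer_iff.1 (hcF hx) y ⟨y, hy, rfl⟩).symm
    refine quasisimple_center_ne_top hqs (eq_top_iff.2 fun x _ => Subgroup.mem_center_iff.2 fun y => ?_)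
    have hx := hsub (show (⟨x, hAX x.2⟩ : ↥X) ∈ A.subgroupOf X from x.2)
    have hy := centralizer_generalizedFitting_le (hsub (show (⟨y, hAX y.2⟩ : ↥X) ∈ A.subgroupOf X from y.2))
    exact Subtype.ext (congrArg Subtype.val (Subgroup.mem_centralizer_iff.1 hx _ hy) : ((y : G) * x = x * y))
  refine ⟨?_, ?_⟩
  · haveI := hE
    have hXE : X ≤ (Cfsg.layer ↥X).map X.subtype := Subgroup.normalClosure_le_normal hAE
    refine eq_top_iff.2 fun x _ => ?_
    obtain ⟨y, hy, hyx⟩ := hXE x.2
    rwa [← Subtype.ext (a1 := y) (a2 := x) hyx]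
  · have hZn : ((Subgroup.center ↥X).map X.subtype).Normal := normal_map_char_of_normal _
    have hZA : A ⊓ (Subgroup.center ↥X).map X.subtype ≤ C := by
      rintro x ⟨-, z, hz, rfl⟩
      exact Subgroup.mem_centralizer_iff.2 fun b hb =>
        congrArg Subtype.val (Subgroup.mem_center_iff.1 hz ⟨b, hAX hb⟩)
    have h := (key _ hZn hZA).1
    rwa [Subgroup.card_map_of_injective X.subtype_injective] at h

end Cfsg.Agent.S3164
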