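import Cfsg.Statements.S3166
import Mathlib

set_option autoImplicit false
open Cfsg

namespace Cfsg.Agent.S3166

/-- Let q = 2^n with n ≥ 1. If q⁴ − q³ + q² − q + 1 is a power p^m of a prime p, then m = 1: the value is never a prime power with exponent greater than 1. -/
theorem result (n p m : ℕ) (hn : 1 ≤ n) (hp : p.Prime) (h : (2 ^ n) ^ 4 - (2 ^ n) ^ 3 + (2 ^ n) ^ 2 - 2 ^ n + 1 = p ^ m) : m = 1 := by
  generalize hq : 2 ^ n = q at h
  have hq2 : 2 ≤ q := hq ▸ Nat.le_self_pow (by omega) 2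
  have e1 : q ^ 3 ≤ q ^ 4 := Nat.pow_le_pow_right (by omega) (by norm_num)
  have hqq : q ≤ q ^ 2 := Nat.le_self_pow (by norm_num) q
  have hZ : ((p : ℤ)) ^ m = (q : ℤ) ^ 4 - (q : ℤ) ^ 3 + (q : ℤ) ^ 2 - q + 1 := by
    have : ((p ^ m : ℕ) : ℤ) = (((q ^ 4 - q ^ 3 + q ^ 2 - q + 1 : ℕ)) : ℤ) := by rw [h]
    have e2 : q ≤ q ^ 4 - q ^ 3 + q ^ 2 := le_trans hqq (Nat.le_add_left _ _)
    push_cast [e1, e2] at this
    linarith
  have hq2' : (2 : ℤ) ≤ q := by exact_mod_cast hq2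
  have hbig : (q : ℤ) * (q - 1) * (q ^ 2 + 1) = (p : ℤ) ^ m - 1 := by rw [hZ]; ring
  have hpos : 1 < p ^ m := by
    have : (1 : ℤ) < (p : ℤ) ^ m := by nlinarith
    exact_mod_cast this
  have hm0 : m ≠ 0 := by rintro rfl; simp at hpos
  rcases Nat.even_or_odd m with ⟨j, hj⟩ | hodd
  · exfalso
    have hsq : (((p : ℤ)) ^ j) ^ 2 = (q : ℤ) ^ 4 - (q : ℤ) ^ 3 + (q : ℤ) ^ 2 - q + 1 := by
      rw [← hZ, hj]; ring
    have hy0 : (0 : ℤ) ≤ (p : ℤ) ^ j := by positivity
    have ha : 2 * (q : ℤ) ^ 2 - q < 2 * (p : ℤ) ^ j := by nlinarith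
    have hb : 2 * (p : ℤ) ^ j < 2 * (q : ℤ) ^ 2 - q + 1 := by nlinarith
    omega
  · -- `m` odd, so `q ∣ p - 1`
    have hqodd : IsCoprime (q : ℤ) (∑ i ∈ Finset.range m, (p : ℤ) ^ i) := by
      have hp2 : Odd (p : ℤ) := by
        have : Odd ((p : ℤ) ^ m) := by
          rw [hZ]
          have : Even ((q : ℤ)) := by
            rw [← hq]; exact_mod_cast (Nat.even_pow.2 ⟨even_two, by omega⟩)
          simp [parity_simps, this]
        exact (Int.odd_pow' hm0).1 this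
      have hS : Odd (∑ i ∈ Finset.range m, (p : ℤ) ^ i) := by
        rw [Int.odd_iff, Finset.sum_int_mod]
        have : ∀ i : ℕ, (p : ℤ) ^ i % 2 = 1 := fun i => Int.odd_iff.1 hp2.pow
        simp [this]
        exact_mod_cast Nat.odd_iff.1 hodd
      rw [← hq]; push_cast
      refine IsCoprime.pow_left ?_
      obtain ⟨r, hr⟩ := hS
      exact ⟨-r, 1, by rw [hr]; ring⟩
    have hdvd : (q : ℤ) ∣ (p : ℤ) - 1 := by
      refine hqodd.dvd_of_dvd_mul_left ?_
      rw [geom_sum_mul, ← hbig]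
      exact Dvd.intro _ (mul_assoc _ _ _).symm
    obtain ⟨s, hs⟩ := hdvd
    have hs1 : 1 ≤ s := by
      have : (2 : ℤ) ≤ p := by exact_mod_cast hp.two_le
      nlinarith
    have hpq : (q : ℤ) + 1 ≤ p := by nlinarith
    by_contra hm1
    have hm3 : 3 ≤ m := by rcases hodd with ⟨r, hr⟩; omega
    have hm : m = 3 := by
      by_contra hne
      have h5 : 4 ≤ m := by omega
      have : ((q : ℤ) + 1) ^ 4 ≤ (p : ℤ) ^ m :=
        le_trans (pow_le_pow_left₀ (by positivity) hpq 4) (pow_le_pow_right₀ (by linarith) h5)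
      nlinarith
    subst hm
    have hps : (p : ℤ) = 1 + q * s := by linarith
    rw [hps] at hZ
    have hkey : 3 * s + 3 * q * s ^ 2 + q ^ 2 * s ^ 3 = (q : ℤ) ^ 3 - q ^ 2 + q - 1 := by
      have hq0 : (q : ℤ) ≠ 0 := by linarith
      apply mul_left_cancel₀ hq0
      linarith
    have hdiv : (q : ℤ) ∣ 3 * s + 1 :=
      ⟨q ^ 2 - q + 1 - 3 * s ^ 2 - q * s ^ 3, by linarith⟩
    have hle := Int.le_of_dvd (by linarith) hdiv
    have hcube : s ^ 3 < q := by
      by_contra hge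
      push Not at hge
      nlinarith [mul_le_mul_of_nonneg_left hge (sq_nonneg (q : ℤ))]
    have hs3 : s ≤ 2 := by
      by_contra hge
      push Not at hge
      nlinarith
    have hq8 : q ≤ 7 := by
      have : (q : ℤ) ≤ 7 := by linarith
      exact_mod_cast this
    interval_cases s <;> interval_cases q <;> norm_num at hZ

end Cfsg.Agent.S3166
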