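import Cfsg.Statements.S3175
import Cfsg.Agent.Lib.Local.RudSylow.Fusion
-- import your own Cfsg.Agent.* helpers here

set_option autoImplicit false
open Cfsg

namespace Cfsg.Agent.S3175

/-- Let G be a finite group whose Sylow 2-subgroup T has order at least 2^14 and whose upper central series has fourth term of order 16; let W be the centralizer in T of the third term, and suppose the Frattini subgroup of W has order at most 8 and lies in every subgroup of W of index at most 16. Then the normalizer of T in G has a normal 2-complement, and W is weakly closed in T with respect to G. -/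
theorem result {G : Type*} [Group G] [Finite G]
    (T : Sylow 2 G) (ha : 2 ^ 14 ≤ Nat.card ↥(T : Subgroup G))
    (hb : Nat.card ↥(Subgroup.upperCentralSeries ↥(T : Subgroup G) 4) = 16)
    (W : Subgroup ↥(T : Subgroup G))
    (hW : W = Subgroup.centralizer ((Subgroup.upperCentralSeries ↥(T : Subgroup G) 3 : Subgroup ↥(T : Subgroup G)) : Set ↥(T : Subgroup G)))
    (hc : Nat.card ↥(frattini ↥W) ≤ 8)
    (hd : ∀ U : Subgroup ↥W, U.index ≤ 16 → frattini ↥W ≤ U) :
    Cfsg.HasNormalPComplement 2 ↥(Subgroup.normalizer ((T : Subgroup G) : Set G)) ∧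
      Cfsg.IsWeaklyClosed (W.map (T : Subgroup G).subtype) (T : Subgroup G) := by
  have h : Cfsg.Lib.RudSylow.Cond ↥(T : Subgroup G) W := ⟨T.2, ha, hb, hW, hc, hd⟩
  haveI : Fact (Nat.Prime 2) := ⟨Nat.prime_two⟩
  set N := Subgroup.normalizer ((T : Subgroup G) : Set G) with hN
  constructor
  · set T' : Sylow 2 ↥N := T.subtype Subgroup.le_normalizer with hT'
    have hT'n : (T' : Subgroup ↥N).Normal := by
      rw [hT', Sylow.coe_subtype]
      exact Subgroup.normal_in_normalizer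
    haveI := hT'n
    obtain ⟨K, hK⟩ := Subgroup.exists_right_complement'_of_coprime (N := (T' : Subgroup ↥N)) T'.card_coprime_index
    have hKodd : Odd (Nat.card ↥K) := by
      rw [← hK.symm.index_eq_card]
      exact Nat.odd_iff.2 (Nat.two_dvd_ne_zero.1 (Sylow.not_dvd_index T'))
    have hcomm : ∀ k ∈ K, ∀ t ∈ (T' : Subgroup ↥N), k * t = t * k := by
      intro k hk t ht
      let φ : MulAut ↥(T' : Subgroup ↥N) := MulAut.conjNormal k
      have hφ : φ ^ Nat.card ↥K = 1 := by
        rw [← map_pow]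
        have : k ^ Nat.card ↥K = 1 := congrArg Subtype.val (pow_card_eq_one' (x := (⟨k, hk⟩ : ↥K)))
        rw [this, map_one]
      let ι : ↥(T' : Subgroup ↥N) ≃* ↥(T : Subgroup G) :=
        (MulEquiv.subgroupCongr (Sylow.coe_subtype T Subgroup.le_normalizer)).trans
          (Subgroup.subgroupOfEquivOfLe Subgroup.le_normalizer)
      have h1 := h.odd_aut_trivial (MulAut.congr ι φ) hKodd (by rw [← map_pow, hφ, map_one])
      have h2 : φ = 1 := (MulEquiv.map_eq_one_iff (MulAut.congr ι)).1 h1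
      have h3 := congrArg (fun ψ : MulAut ↥(T' : Subgroup ↥N) => ((ψ ⟨t, ht⟩ : ↥(T' : Subgroup ↥N)) : ↥N)) h2
      simp only [φ, MulAut.conjNormal_apply, MulAut.one_apply] at h3
      exact mul_inv_eq_iff_eq_mul.1 h3
    refine ⟨T', K, ⟨fun k hk x => ?_⟩, hK.symm⟩
    obtain ⟨⟨⟨t, ht⟩, ⟨k', hk'⟩⟩, hx⟩ := hK.2 x
    simp only at hx
    rw [← hx, show t * k' * k * (t * k')⁻¹ = t * (k' * k * k'⁻¹) * t⁻¹ by group,
      ← hcomm _ (K.mul_mem (K.mul_mem hk' hk) (K.inv_mem hk')) t ht, mul_inv_cancel_right]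
    exact K.mul_mem (K.mul_mem hk' hk) (K.inv_mem hk')
  · refine ⟨Subgroup.map_subtype_le W, fun g hg => ?_⟩
    have hmem : ∀ w : ↥W, g * ((w : ↥(T : Subgroup G)) : G) * g⁻¹ ∈ (T : Subgroup G) := fun w =>
      hg ⟨_, ⟨_, w.2, rfl⟩, rfl⟩
    let σ : ↥W →* ↥(T : Subgroup G) := MonoidHom.mk' (fun w => ⟨_, hmem w⟩) fun u v => Subtype.ext (by
      show g * (((u * v : ↥W) : ↥(T : Subgroup G)) : G) * g⁻¹ = g * _ * g⁻¹ * (g * _ * g⁻¹)
      rw [Subgroup.coe_mul, Subgroup.coe_mul]; group)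
    have hσ : Function.Injective σ := fun u v huv =>
      Subtype.ext (Subtype.ext ((MulAut.conj g).injective (congrArg Subtype.val huv)))
    have hr := h.range_eq σ hσ
    ext x
    constructor
    · rintro ⟨_, ⟨w, hw, rfl⟩, rfl⟩
      refine ⟨σ ⟨w, hw⟩, ?_, rfl⟩
      exact (le_of_eq hr) ⟨⟨w, hw⟩, rfl⟩
    · rintro ⟨w, hw, rfl⟩
      obtain ⟨v, hv⟩ : w ∈ σ.range := hr.symm ▸ hw
      exact ⟨_, ⟨(v : ↥(T : Subgroup G)), v.2, rfl⟩, congrArg Subtype.val hv⟩


end Cfsg.Agent.S3175
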