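import Cfsg.Statements.S3178
import Cfsg.Agent.Lib.Fusion.Alperin

set_option autoImplicit false
open Cfsg

namespace Cfsg.Agent.S3178

open scoped commutatorElement

variable {G : Type*} [Group G] [Finite G]

/-- The central involution is the only square that is an involution. -/
theorem square_involution_eq (a : G) (n : ℕ) (hao : orderOf a = 2 ^ n) (hn : 1 ≤ n) (i : ℕ)
    (h : (a ^ i) ^ 2 = 1) : a ^ i = 1 ∨ a ^ i = a ^ (2 ^ (n - 1)) := by
  rw [← pow_mul] at h
  have hd := orderOf_dvd_of_pow_eq_one h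
  rw [hao, show n = n - 1 + 1 by omega, pow_succ] at hd
  obtain ⟨k, rfl⟩ := Nat.dvd_of_mul_dvd_mul_right two_pos hd
  rcases Nat.even_or_odd k with ⟨l, rfl⟩ | ⟨l, rfl⟩
  · left
    rw [show 2 ^ (n - 1) * (l + l) = 2 ^ (n - 1 + 1) * l by rw [pow_succ]; ring, show n - 1 + 1 = n by omega,
      pow_mul, ← hao, pow_orderOf_eq_one, one_pow]
  · right
    rw [show 2 ^ (n - 1) * (2 * l + 1) = 2 ^ (n - 1 + 1) * l + 2 ^ (n - 1) by rw [pow_succ]; ring, show n - 1 + 1 = n by omega,
      pow_add, pow_mul, ← hao, pow_orderOf_eq_one, one_pow, one_mul]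

/-- The facts about the modular group used below. -/
theorem modular_facts (S : Sylow 2 G) (n : ℕ) (hn : 3 ≤ n) (hS : Nat.card ↥(S : Subgroup G) = 2 ^ (n + 1))
    (a b : G) (ha : a ∈ (S : Subgroup G)) (hb : b ∈ (S : Subgroup G))
    (hao : orderOf a = 2 ^ n) (hbo : orderOf b = 2) (hrel : b * a * b⁻¹ = a ^ (2 ^ (n - 1) + 1)) :
    (∀ s ∈ (S : Subgroup G), ∀ t ∈ (S : Subgroup G), (s * t) ^ 4 = s ^ 4 * t ^ 4) ∧
    (∀ s ∈ (S : Subgroup G), ∀ t ∈ (S : Subgroup G), s ^ 4 = 1 → t ^ 4 = 1 → Commute s t) ∧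
    (∀ s ∈ (S : Subgroup G), ∃ i : ℕ, s ^ 2 = a ^ i ∧ ∀ t ∈ (S : Subgroup G), Commute (s ^ 2) t) ∧
    (∀ s ∈ (S : Subgroup G), s ^ 2 = 1 →
      s = 1 ∨ s = a ^ 2 ^ (n - 1) ∨ s = b ∨ s = a ^ 2 ^ (n - 1) * b) := by
  have h2n : 2 ^ n = 2 * 2 ^ (n - 1) := by rw [← pow_succ']; congr 1; omega
  have h2n1 : 2 ^ (n - 1) = 2 * 2 ^ (n - 2) := by rw [← pow_succ']; congr 1; omega
  have hz : a ^ (2 ^ n) = 1 := by rw [← hao, pow_orderOf_eq_one]
  set z := a ^ (2 ^ (n - 1)) with hzdef
  have hzz : z * z = 1 := by rw [hzdef, ← pow_add, ← two_mul, ← h2n, hz]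
  have hba : ∀ i : ℕ, b * a ^ i = a ^ i * z ^ i * b := by
    intro i
    have h1 : b * a ^ i * b⁻¹ = a ^ i * z ^ i := by
      rw [← conj_pow, hrel, hzdef, ← pow_mul, ← pow_mul, ← pow_add]
      congr 1
      ring
    rw [← h1, inv_mul_cancel_right]
  have hbb : b * b = 1 := by rw [← pow_two, ← hbo, pow_orderOf_eq_one]
  -- every element is `a ^ i * b ^ e`
  have hgen : ∀ s ∈ (S : Subgroup G), ∃ i : ℕ, s = a ^ i ∨ s = a ^ i * b := by
    set R : Subgroup ↥(S : Subgroup G) := Subgroup.zpowers ⟨a, ha⟩ with hR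
    have hidx : R.index = 2 := by
      have h := Subgroup.card_mul_index R
      rw [hR, Nat.card_zpowers, Subgroup.orderOf_mk, hao, hS, pow_succ] at h
      exact Nat.eq_of_mul_eq_mul_left (pow_pos two_pos n) h
    have hbR : (⟨b, hb⟩ : ↥(S : Subgroup G)) ∉ R := by
      intro h
      obtain ⟨i, hi⟩ := Subgroup.mem_zpowers_iff.1 h
      have hi' : a ^ i = b := congrArg Subtype.val hi
      have h1 : b * a * b⁻¹ = a := by
        rw [← hi', ((Commute.refl a).zpow_left i).eq, mul_inv_cancel_right]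
      rw [h1, pow_succ'] at hrel
      have h2 : z = 1 := left_eq_mul.1 hrel
      have := orderOf_dvd_of_pow_eq_one h2
      rw [hao] at this
      have := Nat.le_of_dvd (pow_pos two_pos _) this
      have := pow_pos two_pos (n - 1) (a := (2 : ℕ))
      omega
    intro s hs
    have key : ∀ t : ↥(S : Subgroup G), t ∈ R → ∃ i : ℕ, (t : G) = a ^ i := by
      intro t ht
      obtain ⟨i, hi⟩ := (Submonoid.mem_powers_iff _ _).1 (mem_powers_iff_mem_zpowers.2 ht)
      exact ⟨i, (congrArg Subtype.val hi).symm⟩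
    by_cases h : (⟨s, hs⟩ : ↥(S : Subgroup G)) ∈ R
    · obtain ⟨i, hi⟩ := key _ h
      exact ⟨i, Or.inl hi⟩
    · obtain ⟨i, hi⟩ := key (⟨s, hs⟩ * ⟨b, hb⟩) ((Subgroup.mul_mem_iff_of_index_two hidx).2 (iff_of_false h hbR))
      exact ⟨i, Or.inr (by rw [← hi]; show s = s * b * b; rw [mul_assoc, hbb, mul_one])⟩
  have heven : ∀ i : ℕ, Commute (a ^ (2 * i)) b := fun i => by
    have h1 := hba (2 * i)
    rw [pow_mul z, pow_two z, hzz, one_pow, mul_one] at h1
    exact h1.symm
  -- squares are central powers of `a`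
  have hsq : ∀ s ∈ (S : Subgroup G), ∃ i : ℕ, s ^ 2 = a ^ (2 * i) := by
    intro s hs
    obtain ⟨i, rfl | rfl⟩ := hgen s hs
    · exact ⟨i, by rw [← pow_mul, mul_comm]⟩
    · refine ⟨i + i * 2 ^ (n - 2), ?_⟩
      rw [pow_two, show a ^ i * b * (a ^ i * b) = a ^ i * (b * a ^ i) * b by group, hba,
        show a ^ i * (a ^ i * z ^ i * b) * b = a ^ i * a ^ i * z ^ i * (b * b) by group, hbb, mul_one,
        hzdef, ← pow_mul, ← pow_add, ← pow_add]
      congr 1
      rw [h2n1]; ring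
  have hcen : ∀ i : ℕ, ∀ t ∈ (S : Subgroup G), Commute (a ^ (2 * i)) t := by
    intro i t ht
    obtain ⟨j, rfl | rfl⟩ := hgen t ht
    · exact Commute.pow_pow (Commute.refl a) _ _
    · exact (Commute.pow_pow (Commute.refl a) _ _).mul_right (heven i)
  refine ⟨?_, ?_, ?_, ?_⟩
  · intro s hs t ht
    obtain ⟨i, hi⟩ := hsq s hs
    obtain ⟨j, hj⟩ := hsq t ht
    obtain ⟨k, hk⟩ := hsq (s * t) (mul_mem hs ht)
    -- the commutator is central of order at most two
    have hc : ∃ c : G, t * s = s * t * c ∧ c * c = 1 ∧ (∀ u ∈ (S : Subgroup G), Commute c u) := by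
      have hzc : ∀ u ∈ (S : Subgroup G), ∀ m : ℕ, Commute (z ^ m) u := fun u hu m => by
        rw [hzdef, h2n1, ← pow_mul, mul_assoc]
        exact hcen _ u hu
      have hzm : ∀ m : ℕ, z ^ m * z ^ m = 1 := fun m => by
        rw [← (Commute.refl z).mul_pow, hzz, one_pow]
      obtain ⟨p, rfl | rfl⟩ := hgen s hs <;> obtain ⟨q, rfl | rfl⟩ := hgen t ht
      · exact ⟨1, by rw [mul_one]; exact (Commute.pow_pow (Commute.refl a) _ _).eq, one_mul 1, fun u _ => Commute.one_left u⟩
      · refine ⟨z ^ p, ?_, hzm p, fun u hu => hzc u hu p⟩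
        rw [show a ^ q * b * a ^ p = a ^ q * (b * a ^ p) by group, hba,
          show a ^ p * (a ^ q * b) * z ^ p = a ^ p * a ^ q * (b * z ^ p) by group,
          ← (hzc b hb p).eq, ((Commute.refl a).pow_pow p q).eq]
        group
      · refine ⟨z ^ q, ?_, hzm q, fun u hu => hzc u hu q⟩
        rw [show a ^ p * b * a ^ q * z ^ q = a ^ p * (b * a ^ q) * z ^ q by group, hba,
          show a ^ p * (a ^ q * z ^ q * b) * z ^ q = a ^ p * a ^ q * (z ^ q * (b * z ^ q)) by group,
          ← (hzc b hb q).eq, ← mul_assoc (z ^ q), hzm, one_mul, ← mul_assoc, ((Commute.refl a).pow_pow p q).eq]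
      · refine ⟨z ^ p * z ^ q, ?_, ?_, fun u hu => (hzc u hu p).mul_left (hzc u hu q)⟩
        · rw [show a ^ q * b * (a ^ p * b) = a ^ q * (b * a ^ p) * b by group, hba,
            show a ^ p * b * (a ^ q * b) * (z ^ p * z ^ q) = a ^ p * (b * a ^ q) * b * (z ^ p * z ^ q) by group, hba,
            show a ^ q * (a ^ p * z ^ p * b) * b = a ^ q * a ^ p * z ^ p * (b * b) by group,
            show a ^ p * (a ^ q * z ^ q * b) * b * (z ^ p * z ^ q) = a ^ p * a ^ q * (z ^ q * (b * b) * (z ^ p * z ^ q)) by group,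
            hbb, mul_one, mul_one, show z ^ q * (z ^ p * z ^ q) = z ^ p by
              rw [((Commute.refl z).pow_pow p q).eq, ← mul_assoc, hzm, one_mul],
            ((Commute.refl a).pow_pow p q).eq]
        · rw [show z ^ p * z ^ q * (z ^ p * z ^ q) = z ^ p * (z ^ q * z ^ p) * z ^ q by group,
            ← (hzc _ (pow_mem (show z ∈ (S : Subgroup G) from pow_mem ha _) q) p).eq, ← mul_assoc, hzm, one_mul, hzm]
    obtain ⟨c, hc1, hc2, hc3⟩ := hc
    have hst2 : (s * t) ^ 2 = s ^ 2 * t ^ 2 * c := by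
      rw [pow_two, pow_two, pow_two, show s * t * (s * t) = s * (t * s) * t by group, hc1,
        show s * (s * t * c) * t = s * s * t * (c * t) by group, (hc3 t ht).eq]
      group
    calc (s * t) ^ 4 = ((s * t) ^ 2) ^ 2 := by rw [← pow_mul]
      _ = (s ^ 2 * t ^ 2 * c) ^ 2 := by rw [hst2]
      _ = (s ^ 2 * t ^ 2) ^ 2 * c ^ 2 := (hc3 _ (mul_mem (pow_mem hs 2) (pow_mem ht 2))).symm.mul_pow 2
      _ = (s ^ 2) ^ 2 * (t ^ 2) ^ 2 := by
        rw [pow_two c, hc2, mul_one, Commute.mul_pow]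
        rw [hi]; exact hcen i _ (pow_mem ht 2)
      _ = s ^ 4 * t ^ 4 := by rw [← pow_mul, ← pow_mul]
  · -- elements of order dividing four avoid odd powers of `a`
    have key : ∀ s ∈ (S : Subgroup G), s ^ 4 = 1 → ∃ m : ℕ, s = a ^ (2 * m) ∨ s = a ^ (2 * m) * b := by
      intro s hs h4
      have hev : ∀ i : ℕ, a ^ (4 * i) = 1 → Even i := by
        intro i h
        have hd := orderOf_dvd_of_pow_eq_one h
        rw [hao] at hd
        have h8 : 2 ^ 3 ∣ 4 * i := (pow_dvd_pow 2 hn).trans hd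
        rw [even_iff_two_dvd]; omega
      obtain ⟨i, rfl | rfl⟩ := hgen s hs
      · obtain ⟨m, rfl⟩ := hev i (by rw [mul_comm, pow_mul]; exact h4)
        exact ⟨m, Or.inl (by rw [two_mul])⟩
      · have h2' : (a ^ i * b) ^ 2 = a ^ i * a ^ i * z ^ i := by
          rw [pow_two, show a ^ i * b * (a ^ i * b) = a ^ i * (b * a ^ i) * b by group, hba,
            show a ^ i * (a ^ i * z ^ i * b) * b = a ^ i * a ^ i * z ^ i * (b * b) by group, hbb, mul_one]
        rw [show 4 = 2 * 2 from rfl, pow_mul, h2', hzdef, ← pow_mul, ← pow_add, ← pow_add, ← pow_mul] at h4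
        have h5 : (i + i + 2 ^ (n - 1) * i) * 2 = 4 * i + 2 ^ n * i := by rw [h2n]; ring
        rw [h5, pow_add, pow_mul a (2 ^ n), hz, one_pow, mul_one] at h4
        obtain ⟨m, rfl⟩ := hev i h4
        exact ⟨m, Or.inr (by rw [two_mul])⟩
    intro s hs t ht hs4 ht4
    obtain ⟨p, rfl | rfl⟩ := key s hs hs4 <;> obtain ⟨q, rfl | rfl⟩ := key t ht ht4
    · exact Commute.pow_pow (Commute.refl a) _ _
    · exact hcen p _ (mul_mem (pow_mem ha _) hb)
    · exact (hcen q _ (mul_mem (pow_mem ha _) hb)).symm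
    · exact ((hcen p _ (mul_mem (pow_mem ha _) hb)).mul_left
        (((hcen q b hb).symm).mul_right (Commute.refl b)))
  · intro s hs
    obtain ⟨i, hi⟩ := hsq s hs
    exact ⟨2 * i, hi, fun t ht => by rw [hi]; exact hcen i t ht⟩
  · intro s hs h2
    obtain ⟨i, rfl | rfl⟩ := hgen s hs
    · rcases square_involution_eq a n hao (by omega) i h2 with h | h
      · exact Or.inl h
      · exact Or.inr (Or.inl h)
    · rw [pow_two, show a ^ i * b * (a ^ i * b) = a ^ i * (b * a ^ i) * b by group, hba,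
        show a ^ i * (a ^ i * z ^ i * b) * b = a ^ i * a ^ i * z ^ i * (b * b) by group, hbb, mul_one] at h2
      rcases Nat.even_or_odd i with ⟨l, rfl⟩ | ⟨l, rfl⟩
      · rw [← two_mul, pow_mul z, pow_two z, hzz, one_pow, mul_one, ← pow_two] at h2
        rcases square_involution_eq a n hao (by omega) (2 * l) h2 with h | h
        · rw [two_mul] at h
          exact Or.inr (Or.inr (Or.inl (by rw [h, one_mul])))
        · rw [two_mul] at h
          exact Or.inr (Or.inr (Or.inr (by rw [h])))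
      · exfalso
        rw [pow_succ (z), pow_mul z, pow_two z, hzz, one_pow, one_mul, hzdef, ← pow_add, ← pow_add] at h2
        have hd := orderOf_dvd_of_pow_eq_one h2
        rw [hao] at hd
        have h4 : 4 ∣ 2 ^ (n - 1) := by
          rw [show 4 = 2 ^ 2 from rfl]; exact pow_dvd_pow 2 (by omega)
        have h4' : 4 ∣ 2 * l + 1 + (2 * l + 1) + 2 ^ (n - 1) :=
          dvd_trans (by rw [show 4 = 2 ^ 2 from rfl]; exact pow_dvd_pow 2 (by omega)) hd
        omega

/-- Odd elements normalizing a subgroup with elements of order four centralize it. -/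
theorem big_case (S : Sylow 2 G) (n : ℕ) (hn : 3 ≤ n) (a : G) (hao : orderOf a = 2 ^ n)
    (hcl : ∀ s ∈ (S : Subgroup G), ∀ t ∈ (S : Subgroup G), (s * t) ^ 4 = s ^ 4 * t ^ 4)
    (hE : ∀ s ∈ (S : Subgroup G), ∀ t ∈ (S : Subgroup G), s ^ 4 = 1 → t ^ 4 = 1 → Commute s t)
    (hsqa : ∀ s ∈ (S : Subgroup G), ∃ i : ℕ, s ^ 2 = a ^ i ∧ ∀ t ∈ (S : Subgroup G), Commute (s ^ 2) t)
    {b : G} (hI : ∀ s ∈ (S : Subgroup G), s ^ 2 = 1 →
      s = 1 ∨ s = a ^ 2 ^ (n - 1) ∨ s = b ∨ s = a ^ 2 ^ (n - 1) * b)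
    (Q : Subgroup G) (hQS : Q ≤ (S : Subgroup G)) (hexp : ∃ q ∈ Q, q ^ 2 ≠ 1)
    (g : G) (hg : g ∈ Subgroup.normalizer (Q : Set G)) (hco : (orderOf g).Coprime 2) :
    g ∈ Subgroup.centralizer (Q : Set G) := by
  have := Fact.mk Nat.prime_two
  set z := a ^ (2 ^ (n - 1)) with hzdef
  have hodd : Odd (orderOf g) := Nat.coprime_two_right.1 hco
  have hconj : ∀ q ∈ Q, g * q * g⁻¹ ∈ Q := fun q hq => (Subgroup.mem_normalizer_iff.1 hg q).1 hq
  -- an involution which is a square is `z`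
  have hinv : ∀ q ∈ Q, (q ^ 2) ^ 2 = 1 → q ^ 2 ≠ 1 → q ^ 2 = z := by
    intro q hq h4 hne
    obtain ⟨i, hi, -⟩ := hsqa q (hQS hq)
    rw [hi] at h4 hne ⊢
    exact (square_involution_eq a n hao (by omega) i h4).resolve_left hne
  obtain ⟨w, hwQ, hw⟩ := hexp
  obtain ⟨u, huQ, hu4, hu2⟩ : ∃ u ∈ Q, (u ^ 2) ^ 2 = 1 ∧ u ^ 2 ≠ 1 := by
    obtain ⟨l, hl⟩ := IsPGroup.iff_orderOf.1 (S.isPGroup'.to_le hQS) ⟨w, hwQ⟩
    rw [Subgroup.orderOf_mk] at hl
    have hl2 : 2 ≤ l := by
      by_contra hlt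
      apply hw
      rw [← orderOf_dvd_iff_pow_eq_one, hl]
      exact dvd_trans (pow_dvd_pow 2 (show l ≤ 1 by omega)) (by norm_num)
    refine ⟨w ^ 2 ^ (l - 2), pow_mem hwQ _, ?_, ?_⟩
    · rw [← pow_mul, ← pow_mul, ← orderOf_dvd_iff_pow_eq_one, hl, ← pow_two, ← pow_add]
      exact dvd_of_eq (by congr 1; omega)
    · rw [← pow_mul, ← pow_succ, Ne, ← orderOf_dvd_iff_pow_eq_one, hl, Nat.pow_dvd_pow_iff_le_right (by norm_num)]
      omega
  have hzQ : z ∈ Q := hinv u huQ hu4 hu2 ▸ pow_mem huQ 2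
  have hzfix : g * z * g⁻¹ = z := by
    rw [← hinv u huQ hu4 hu2, ← conj_pow]
    rw [hinv (g * u * g⁻¹) (hconj u huQ) (by rw [conj_pow, conj_pow, hu4, mul_one, mul_inv_cancel])
      (by rw [conj_pow]; exact fun h => hu2 (conj_eq_one_iff.1 h)), hinv u huQ hu4 hu2]
  -- induction on the exponent
  have main : ∀ j : ℕ, ∀ q ∈ Q, q ^ 2 ^ j = 1 → g * q * g⁻¹ = q := by
    intro j
    induction j with
    | zero => intro q _ h; rw [pow_zero, pow_one] at h; rw [h, mul_one, mul_inv_cancel]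
    | succ j ih =>
      intro q hq hq1
      set d := q⁻¹ * (g * q * g⁻¹) with hd
      have hdQ : d ∈ Q := mul_mem (inv_mem hq) (hconj q hq)
      -- it suffices to see that `g` fixes `d`
      suffices hdfix : g * d * g⁻¹ = d by
        have hit : ∀ m : ℕ, g ^ m * q * (g ^ m)⁻¹ = q * d ^ m := by
          intro m
          induction m with
          | zero => simp
          | succ m ihm =>
            rw [pow_succ', mul_inv_rev, show g * g ^ m * q * ((g ^ m)⁻¹ * g⁻¹) = g * (g ^ m * q * (g ^ m)⁻¹) * g⁻¹ by group, ihm,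
              show g * (q * d ^ m) * g⁻¹ = (g * q * g⁻¹) * (g * d ^ m * g⁻¹) by group, ← conj_pow, hdfix, pow_succ' d,
              show g * q * g⁻¹ = q * d by rw [hd]; group, mul_assoc]
        have h1 := hit (orderOf g)
        rw [pow_orderOf_eq_one, one_mul, inv_one, mul_one] at h1
        have h2 : d ^ orderOf g = 1 := left_eq_mul.1 h1
        obtain ⟨l, hl⟩ := IsPGroup.iff_orderOf.1 (S.isPGroup'.to_le hQS) ⟨d, hdQ⟩
        rw [Subgroup.orderOf_mk] at hl
        have h3 : orderOf d = 1 := Nat.eq_one_of_dvd_coprimes (hco.pow_right l) (orderOf_dvd_of_pow_eq_one h2) hl.dvd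
        rw [orderOf_eq_one_iff, hd, inv_mul_eq_one] at h3
        exact h3.symm
      rcases Nat.lt_or_ge j 2 with hj | hj
      · -- elements of order at most four form an abelian group
        have hq4 : q ^ 4 = 1 := by
          rw [← orderOf_dvd_iff_pow_eq_one]
          exact (orderOf_dvd_of_pow_eq_one hq1).trans (pow_dvd_pow 2 (show j + 1 ≤ 2 by omega))
        have hg4 : (g * q * g⁻¹) ^ 4 = 1 := by rw [conj_pow, hq4, mul_one, mul_inv_cancel]
        have hcomm := hE _ (inv_mem (hQS hq)) _ (hQS (hconj q hq)) (by rw [inv_pow, hq4, inv_one]) hg4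
        rcases j with _ | j
        · -- involutions: the difference is `1` or `z`
          have hq2 : q ^ 2 = 1 := by simpa using hq1
          have hg2 : (g * q * g⁻¹) ^ 2 = 1 := by rw [conj_pow, hq2, mul_one, mul_inv_cancel]
          by_cases hqz : q = 1 ∨ q = z
          · rcases hqz with rfl | rfl
            · simp [hd]
            · rw [hd, hzfix, inv_mul_cancel, mul_one, mul_inv_cancel]
          · push Not at hqz
            have hgz : g * q * g⁻¹ ≠ 1 ∧ g * q * g⁻¹ ≠ z := by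
              refine ⟨fun h => hqz.1 (conj_eq_one_iff.1 h), fun h => hqz.2 ?_⟩
              exact mul_left_cancel (mul_right_cancel (h.trans hzfix.symm))
            have hzz : z * z = 1 := by
              rw [hzdef, ← pow_add, ← two_mul, ← pow_succ', show n - 1 + 1 = n by omega, ← hao, pow_orderOf_eq_one]
            have hzc : z⁻¹ = z := inv_eq_of_mul_eq_one_left hzz
            have hzb : ∀ t ∈ (S : Subgroup G), Commute z t := fun t ht => by
              obtain ⟨-, -, hc⟩ := hsqa u (hQS huQ)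
              exact hinv u huQ hu4 hu2 ▸ hc t ht
            have hA := (hI q (hQS hq) hq2).resolve_left hqz.1
            have hA' := hA.resolve_left hqz.2
            have hB := ((hI _ (hQS (hconj q hq)) hg2).resolve_left hgz.1).resolve_left hgz.2
            have hd' : d = 1 ∨ d = z := by
              rcases hA' with hA' | hA' <;> rcases hB with hB | hB <;> rw [hd, hB, hA']
              · left; rw [inv_mul_cancel]
              · right
                have : Commute z b := hzb b (hA' ▸ hQS hq)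
                rw [this.eq, inv_mul_cancel_left]
              · right; rw [mul_inv_rev, hzc]
                have : Commute z b := hzb b (hB ▸ hQS (hconj q hq))
                rw [mul_assoc, this.eq, ← mul_assoc, inv_mul_cancel, one_mul]
              · left; rw [inv_mul_cancel]
            rcases hd' with h | h <;> rw [h]
            · rw [mul_one, mul_inv_cancel]
            · exact hzfix
        · obtain rfl : j = 0 := by omega
          refine ih d hdQ ?_
          have hq2 : q ^ 2 = 1 ∨ q ^ 2 = z := by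
            by_cases h : q ^ 2 = 1
            · exact Or.inl h
            · exact Or.inr (hinv q hq (by rw [← pow_mul]; exact hq4) h)
          rw [hd, pow_one, hcomm.mul_pow, inv_pow, conj_pow]
          rcases hq2 with h | h <;> rw [h]
          · simp
          · rw [hzfix, inv_mul_cancel]
      · refine ih d hdQ ?_
        obtain ⟨j', rfl⟩ : ∃ j', j = j' + 2 := ⟨j - 2, by omega⟩
        rw [pow_add, show 2 ^ 2 = 4 from rfl, mul_comm, pow_mul, hd, hcl _ (inv_mem (hQS hq)) _ (hQS (hconj q hq)),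
          conj_pow, inv_pow]
        have hfix4 : g * q ^ 4 * g⁻¹ = q ^ 4 := ih _ (pow_mem hq 4) (by
          rw [← pow_mul, ← orderOf_dvd_iff_pow_eq_one]
          exact (orderOf_dvd_of_pow_eq_one hq1).trans ⟨2, by rw [pow_succ]; ring⟩)
        rw [hfix4, inv_mul_cancel, one_pow]
  rw [Subgroup.mem_centralizer_iff]
  intro q hq
  obtain ⟨l, hl⟩ := (S.isPGroup'.to_le hQS) ⟨q, hq⟩
  exact (mul_inv_eq_iff_eq_mul.1 (main l q hq (congrArg Subtype.val hl))).symm



/-- Groups with a modular Sylow 2-subgroup have a normal 2-complement. Let S, of order 2^(n+1) with n ≥ 3, be a Sylow 2-subgroup of a finite group G, and suppose S contains an element a of order 2^n and an involution b with b a b⁻¹ = a^(2^(n-1) + 1); so S is the non-abelian 2-group with a cyclic subgroup of index 2 that is neither dihedral, semidihedral nor generalized quaternion. Then G has a normal 2-complement. -/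
theorem relIndex_dvd_index_normal {H : Type*} [Group H] (P K : Subgroup H) [K.Normal] :
    P.relIndex K ∣ P.index := by
  refine dvd_trans (dvd_of_eq ?_) (Subgroup.relIndex_dvd_index_of_le (le_sup_left : P ≤ P ⊔ K))
  refine Nat.card_eq_of_bijective (Subgroup.quotientSubgroupOfEmbeddingOfLE P (le_sup_right : K ≤ P ⊔ K))
    ⟨(Subgroup.quotientSubgroupOfEmbeddingOfLE P le_sup_right).injective, ?_⟩
  intro q
  induction q using Quotient.inductionOn' with
  | h x =>
    have hx2 : (x : H) ∈ K ⊔ P := (sup_comm P K).le x.2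
    obtain ⟨k, hk, u, hu, hx⟩ := Subgroup.mem_sup_of_normal_left.1 hx2
    refine ⟨QuotientGroup.mk (⟨k, hk⟩ : ↥K), ?_⟩
    rw [Subgroup.quotientSubgroupOfEmbeddingOfLE_apply_mk]
    refine QuotientGroup.eq.2 ?_
    rw [Subgroup.mem_subgroupOf]
    simpa [← hx] using hu

theorem four_case_aux {H : Type*} [Group H] [Finite H] (K : Subgroup H) [K.Normal] (P : Sylow 2 ↥K) (g : H) :
    ∃ m ∈ Subgroup.normalizer (((P : Subgroup ↥K).map K.subtype : Subgroup H) : Set H), g * m⁻¹ ∈ K := by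
  have := Fact.mk Nat.prime_two
  obtain ⟨m, hm, k, hk, rfl⟩ : ∃ m ∈ Subgroup.normalizer (((P : Subgroup ↥K).map K.subtype : Subgroup H) : Set H),
      ∃ k ∈ K, k * m = g := by
    have h := Sylow.normalizer_sup_eq_top P
    have hg : g ∈ K ⊔ Subgroup.normalizer (((P : Subgroup ↥K).map K.subtype : Subgroup H) : Set H) := by
      rw [sup_comm, h]; exact Subgroup.mem_top g
    obtain ⟨k, hk, m, hm, hkm⟩ := Subgroup.mem_sup_of_normal_left.1 hg
    exact ⟨m, hm, k, hk, hkm⟩
  exact ⟨m, hm, by simpa using hk⟩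

theorem four_case (S : Sylow 2 G) (n : ℕ) (hn : 3 ≤ n) (a b : G) (ha : a ∈ (S : Subgroup G))
    (hb : b ∈ (S : Subgroup G)) (hao : orderOf a = 2 ^ n) (hbo : orderOf b = 2)
    (hcl : ∀ s ∈ (S : Subgroup G), ∀ t ∈ (S : Subgroup G), (s * t) ^ 4 = s ^ 4 * t ^ 4)
    (hE : ∀ s ∈ (S : Subgroup G), ∀ t ∈ (S : Subgroup G), s ^ 4 = 1 → t ^ 4 = 1 → Commute s t)
    (hsqa : ∀ s ∈ (S : Subgroup G), ∃ i : ℕ, s ^ 2 = a ^ i ∧ ∀ t ∈ (S : Subgroup G), Commute (s ^ 2) t)
    (hI : ∀ s ∈ (S : Subgroup G), s ^ 2 = 1 →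
      s = 1 ∨ s = a ^ 2 ^ (n - 1) ∨ s = b ∨ s = a ^ 2 ^ (n - 1) * b)
    (Q : Subgroup G) (hQS : Q ≤ (S : Subgroup G)) (hexp : ∀ q ∈ Q, q ^ 2 = 1)
    (g : G) (hg : g ∈ Subgroup.normalizer (Q : Set G)) (hco : (orderOf g).Coprime 2) :
    g ∈ Subgroup.centralizer (Q : Set G) := by
  classical
  have := Fact.mk Nat.prime_two
  rw [Subgroup.mem_centralizer_iff]
  intro q hq
  -- the subgroup of elements of square one
  let E : Subgroup G :=
    { carrier := {s | s ∈ (S : Subgroup G) ∧ s ^ 2 = 1}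
      one_mem' := ⟨one_mem _, one_pow 2⟩
      mul_mem' := fun {s t} hs ht => ⟨mul_mem hs.1 ht.1, by
        have h4 : ∀ x : G, x ^ 2 = 1 → x ^ 4 = 1 := fun x h => by rw [show 4 = 2 * 2 from rfl, pow_mul, h, one_pow]
        rw [(hE s hs.1 t ht.1 (h4 s hs.2) (h4 t ht.2)).mul_pow, hs.2, ht.2, one_mul]⟩
      inv_mem' := fun {s} hs => ⟨inv_mem hs.1, by rw [inv_pow, hs.2, inv_one]⟩ }
  have hEcard : ∀ x ∈ E, x = 1 ∨ x = a ^ 2 ^ (n - 1) ∨ x = b ∨ x = a ^ 2 ^ (n - 1) * b :=
    fun x hx => hI x hx.1 hx.2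
  by_cases hQE : E ≤ Q
  · have hEQ : Q = E := le_antisymm (fun x hx => ⟨hQS hx, hexp x hx⟩) hQE
    have hSE : (S : Subgroup G) ≤ Subgroup.normalizer (E : Set G) := fun s hs => by
      rw [Subgroup.mem_normalizer_iff]
      intro x
      show (x ∈ (S : Subgroup G) ∧ x ^ 2 = 1) ↔ (s * x * s⁻¹ ∈ (S : Subgroup G) ∧ (s * x * s⁻¹) ^ 2 = 1)
      rw [conj_pow, conj_eq_one_iff]
      exact and_congr_left fun _ => Subgroup.mem_normalizer_iff.1 (Subgroup.le_normalizer hs) x
    subst hEQ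
    set N := Subgroup.normalizer (E : Set G) with hN
    set K := (Subgroup.centralizer (E : Set G)).subgroupOf N with hK
    have hKn : K.Normal := by
      refine ⟨fun c hc x => ?_⟩
      rw [hK, Subgroup.mem_subgroupOf, Subgroup.mem_centralizer_iff] at hc ⊢
      intro e he
      have h3 := hc ((x : G)⁻¹ * e * (x : G)) ((Subgroup.mem_normalizer_iff''.1 x.2 e).1 he)
      simp only [Subgroup.coe_mul, Subgroup.coe_inv]
      calc e * ((x : G) * c * (x : G)⁻¹) = (x : G) * (((x : G)⁻¹ * e * x) * c) * (x : G)⁻¹ := by group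
        _ = (x : G) * ((c : G) * ((x : G)⁻¹ * e * x)) * (x : G)⁻¹ := by rw [h3]
        _ = (x : G) * c * (x : G)⁻¹ * e := by group
    -- `S ∩ C(E)` is a Sylow subgroup of `C(E)`
    obtain ⟨P, hP⟩ : ∃ P : Sylow 2 ↥K, (P : Subgroup ↥K) = ((S : Subgroup G).subgroupOf N).subgroupOf K := by
      refine ⟨IsPGroup.toSylow (P := ((S : Subgroup G).subgroupOf N).subgroupOf K)
        ((S.isPGroup'.comap_of_injective N.subtype N.subtype_injective).comap_of_injective K.subtype K.subtype_injective) ?_, rfl⟩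
      have h1 := (S.subtype hSE).not_dvd_index
      intro h2
      apply h1
      exact h2.trans (relIndex_dvd_index_normal (S.subtype hSE : Subgroup ↥N) K)
    obtain ⟨m, hm, hgm⟩ := four_case_aux K P ⟨g, hg⟩
    -- the odd part of `m`
    obtain ⟨l, o, ho, hlo⟩ := Nat.exists_eq_two_pow_mul_odd (orderOf_pos m).ne'
    set m' : G := ((m : ↥N) : G) ^ 2 ^ l with hm'
    have hm'o : (orderOf m').Coprime 2 := by
      rw [hm', orderOf_pow' _ (pow_ne_zero l two_ne_zero), Subgroup.orderOf_coe, hlo,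
        Nat.gcd_mul_right_left, Nat.mul_div_cancel_left _ (pow_pos two_pos l)]
      exact Nat.coprime_two_right.2 ho
    set Q2 : Subgroup G := (S : Subgroup G) ⊓ Subgroup.centralizer (E : Set G) with hQ2
    have hmap : ((P : Subgroup ↥K).map K.subtype).map N.subtype = Q2 := by
      rw [hP, Subgroup.subgroupOf_map_subtype, hK]
      ext x
      constructor
      · rintro ⟨y, hy, rfl⟩
        exact ⟨hy.1, hy.2⟩
      · rintro ⟨hx1, hx2⟩
        exact ⟨⟨x, hSE hx1⟩, ⟨hx1, hx2⟩, rfl⟩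
    have hmQ2 : m' ∈ Subgroup.normalizer (Q2 : Set G) := by
      refine pow_mem ?_ _
      rw [← hmap]
      exact Subgroup.le_normalizer_map N.subtype ⟨m, hm, rfl⟩
    have hzz : a ^ 2 ^ (n - 1) ≠ 1 := by
      intro h
      have := orderOf_dvd_of_pow_eq_one h
      rw [hao, Nat.pow_dvd_pow_iff_le_right (by norm_num)] at this
      omega
    have hu : (a ^ 2 ^ (n - 2)) ∈ Q2 := by
      refine ⟨pow_mem ha _, Subgroup.mem_centralizer_iff.2 fun e he => ?_⟩
      have he' : e ∈ (S : Subgroup G) ∧ e ^ 2 = 1 := he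
      refine (hE e he'.1 _ (pow_mem ha _) (by rw [show 4 = 2 * 2 from rfl, pow_mul, he'.2, one_pow]) ?_).eq
      rw [← pow_mul, show 4 = 2 ^ 2 from rfl, ← pow_add, show n - 2 + 2 = n by omega, ← hao, pow_orderOf_eq_one]
    have hbig := big_case S n hn a hao hcl hE hsqa hI Q2 inf_le_left ⟨_, hu, by
      rw [← pow_mul, ← pow_succ, show n - 2 + 1 = n - 1 by omega]; exact hzz⟩ m' hmQ2 hm'o
    have hEQ2 : ∀ e ∈ E, e ∈ Q2 := fun e he => by
      have he' : e ∈ (S : Subgroup G) ∧ e ^ 2 = 1 := he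
      refine ⟨he'.1, Subgroup.mem_centralizer_iff.2 fun f hf => ?_⟩
      have hf' : f ∈ (S : Subgroup G) ∧ f ^ 2 = 1 := hf
      exact (hE f hf'.1 e he'.1 (by rw [show 4 = 2 * 2 from rfl, pow_mul, hf'.2, one_pow])
        (by rw [show 4 = 2 * 2 from rfl, pow_mul, he'.2, one_pow])).eq
    -- `g ^ 2 ^ l` and `m'` act in the same way on `E`
    have hgm' : (⟨g, hg⟩ : ↥N) ^ 2 ^ l ∈ K := by
      have h1 : (QuotientGroup.mk' K) ⟨g, hg⟩ = (QuotientGroup.mk' K) m := by
        rw [QuotientGroup.mk'_eq_mk']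
        exact ⟨((⟨g, hg⟩ : ↥N))⁻¹ * m, by
          have := hKn.conj_mem _ (inv_mem hgm) ((⟨g, hg⟩ : ↥N))⁻¹
          simpa [mul_assoc] using this, by rw [mul_inv_cancel_left]⟩
      have hm2 : m ^ 2 ^ l ∈ K := by
        rw [hK, Subgroup.mem_subgroupOf, SubgroupClass.coe_pow, Subgroup.mem_centralizer_iff]
        exact fun e he => Subgroup.mem_centralizer_iff.1 hbig e (hEQ2 e he)
      rw [← QuotientGroup.eq_one_iff, ← QuotientGroup.mk'_apply, map_pow, h1, ← map_pow, QuotientGroup.mk'_apply, QuotientGroup.eq_one_iff]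
      exact hm2
    -- `g` is a power of `g ^ 2 ^ l`
    obtain ⟨r, hr⟩ := exists_pow_eq_self_of_coprime (n := 2 ^ l) (x := g) ((hco.pow_right l).symm)
    have h2 : g ^ 2 ^ l ∈ Subgroup.centralizer (E : Set G) := hgm'
    have h3 := pow_mem h2 r
    rw [hr] at h3
    exact Subgroup.mem_centralizer_iff.1 h3 q hq
  · -- at most two elements
    have hconj : g * q * g⁻¹ ∈ Q := (Subgroup.mem_normalizer_iff.1 hg q).1 hq
    obtain ⟨e, heE, heQ⟩ := SetLike.not_le_iff_exists.1 hQE
    have hz2 : a ^ 2 ^ (n - 1) * a ^ 2 ^ (n - 1) = 1 := by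
      rw [← pow_add, ← two_mul, ← pow_succ', show n - 1 + 1 = n by omega, ← hao, pow_orderOf_eq_one]
    have hbb : b * b = 1 := by rw [← pow_two, ← hbo, pow_orderOf_eq_one]
    have hzb : a ^ 2 ^ (n - 1) * b = b * a ^ 2 ^ (n - 1) :=
      (hE _ (pow_mem ha _) _ hb (by rw [show 4 = 2 * 2 from rfl, pow_mul, pow_two (a ^ 2 ^ (n - 1)), hz2, one_pow])
        (by rw [show 4 = 2 * 2 from rfl, pow_mul, pow_two b, hbb, one_pow])).eq
    have hq1 := hEcard q ⟨hQS hq, hexp q hq⟩
    have hq2 := hEcard _ ⟨hQS hconj, hexp _ hconj⟩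
    by_contra hne
    have hne' : g * q * g⁻¹ ≠ q := fun h => hne (mul_inv_eq_iff_eq_mul.1 h).symm
    have hprod := mul_mem hconj hq
    have hqne : q ≠ 1 := fun h => hne' (by rw [h, mul_one, mul_inv_cancel])
    have hgne : g * q * g⁻¹ ≠ 1 := fun h => hqne (conj_eq_one_iff.1 h)
    apply heQ
    have hzbQ : a ^ 2 ^ (n - 1) ∈ Q ∧ b ∈ Q := by
      set z := a ^ 2 ^ (n - 1) with hz
      rcases hq1 with h | h | h | h <;> rcases hq2 with k | k | k | k <;>
        first
        | exact absurd h hqne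
        | exact absurd k hgne
        | exact absurd (k.trans h.symm) hne'
        | (rw [k] at hconj hprod; rw [h] at hq hprod; refine ⟨?_, ?_⟩ <;>
            first
            | assumption
            | (convert hprod using 1; simp [← mul_assoc, hz2, hbb]; done)
            | (convert hprod using 1; rw [mul_assoc, hbb, mul_one]; done)
            | (convert hprod using 1; rw [hzb, ← mul_assoc, hbb, one_mul]; done)
            | (convert hprod using 1; rw [hzb, mul_assoc, hz2, mul_one]; done)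
            | (convert hprod using 1; rw [← mul_assoc, hz2, one_mul]; done))
    rcases hEcard e heE with rfl | rfl | rfl | rfl
    · exact one_mem Q
    · exact hzbQ.1
    · exact hzbQ.2
    · exact mul_mem hzbQ.1 hzbQ.2

theorem result {G : Type*} [Group G] [Finite G]
    (S : Sylow 2 G) (n : ℕ) (hn : 3 ≤ n) (hS : Nat.card ↥(S : Subgroup G) = 2 ^ (n + 1))
    (a b : G) (ha : a ∈ (S : Subgroup G)) (hb : b ∈ (S : Subgroup G))
    (hao : orderOf a = 2 ^ n) (hbo : orderOf b = 2) (hrel : b * a * b⁻¹ = a ^ (2 ^ (n - 1) + 1)) :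
    Cfsg.HasNormalPComplement 2 G := by
  have := Fact.mk Nat.prime_two
  obtain ⟨hcl, hE, hsqa, hI⟩ := modular_facts S n hn hS a b ha hb hao hbo hrel
  refine (Cfsg.Lib.Fusion.frobenius S).2 ?_
  intro Q hQS g hg hco
  by_cases hexp : ∀ q ∈ Q, q ^ 2 = 1
  · exact four_case S n hn a b ha hb hao hbo hcl hE hsqa hI Q hQS hexp g hg hco
  · push Not at hexp
    exact big_case S n hn a hao hcl hE hsqa hI Q hQS hexp g hg hco

end Cfsg.Agent.S3178
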