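import Cfsg.Statements.S3179
import Cfsg.Agent.S0280
import Cfsg.Agent.S1163
import Cfsg.Agent.S2475
import Cfsg.Agent.Lib.Linear.PSLSmall
-- import your own Cfsg.Agent.* helpers here

set_option autoImplicit false
open Cfsg

namespace Cfsg.Agent.S3179

open Subgroup

def mA : Matrix (Fin 5) (Fin 5) (ZMod 2) :=
  !![0, 1, 0, 0, 0; 1, 1, 0, 0, 0; 0, 0, 1, 0, 0; 0, 0, 0, 1, 0; 0, 0, 0, 0, 1]

def mB : Matrix (Fin 5) (Fin 5) (ZMod 2) :=
  !![1, 0, 0, 0, 0; 0, 1, 0, 0, 0; 0, 0, 0, 1, 0; 0, 0, 1, 1, 0; 0, 0, 0, 0, 1]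

theorem card_gl : Nat.card (GL (Fin 5) (ZMod 2)) = 9999360 := by
  rw [Matrix.card_GL_field, ZMod.card]
  decide

theorem no_orderOf_nine (g : GL (Fin 5) (ZMod 2)) : ¬ 9 ∣ orderOf g := by
  intro hd
  haveI : Fact (Nat.Prime 3) := ⟨Nat.prime_three⟩
  have hA : mA * (mA * mA) = 1 := by decide +kernel
  have hB : mB * (mB * mB) = 1 := by decide +kernel
  let a : GL (Fin 5) (ZMod 2) := ⟨mA, mA * mA, hA, by rw [mul_assoc]; exact hA⟩
  let b : GL (Fin 5) (ZMod 2) := ⟨mB, mB * mB, hB, by rw [mul_assoc]; exact hB⟩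
  have ha : a ^ 3 = 1 := Units.ext (by
    show (a : Matrix (Fin 5) (Fin 5) (ZMod 2)) ^ 3 = 1
    rw [pow_succ', pow_two]; exact hA)
  have hb : b ^ 3 = 1 := Units.ext (by
    show (b : Matrix (Fin 5) (Fin 5) (ZMod 2)) ^ 3 = 1
    rw [pow_succ', pow_two]; exact hB)
  have hab : Commute a b := Units.ext (show mA * mB = mB * mA by decide +kernel)
  have hp : IsPGroup 3 (zpowers a ⊔ zpowers b : Subgroup (GL (Fin 5) (ZMod 2))) := by
    have h : ∀ x : GL (Fin 5) (ZMod 2), x ^ 3 = 1 → IsPGroup 3 (zpowers x) := fun x hx => by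
      obtain ⟨k, -, hk⟩ := (Nat.dvd_prime_pow Nat.prime_three).1
        (show orderOf x ∣ 3 ^ 1 by rw [pow_one]; exact orderOf_dvd_of_pow_eq_one hx)
      exact IsPGroup.of_card (n := k) (by rw [Nat.card_zpowers, hk])
    refine (h a ha).to_sup_of_normal_right' (h b hb) (fun x hx => centralizer_le_normalizer _ ?_)
    obtain ⟨i, rfl⟩ := mem_zpowers_iff.1 hx
    refine mem_centralizer_iff.2 fun y hy => ?_
    obtain ⟨j, rfl⟩ := mem_zpowers_iff.1 hy
    exact ((hab.zpow_left i).zpow_right j).eq.symm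
  obtain ⟨S, hS⟩ := hp.exists_le_sylow
  set x := g ^ (orderOf g / 9) with hx
  have hx9 : orderOf x = 9 := orderOf_pow_orderOf_div (orderOf_pos g).ne' hd
  obtain ⟨T, hT⟩ := (IsPGroup.of_card (p := 3) (n := 2)
    (by rw [Nat.card_zpowers, hx9]; norm_num) : IsPGroup 3 (zpowers x)).exists_le_sylow
  have hcard : ∀ P : Sylow 3 (GL (Fin 5) (ZMod 2)), Nat.card P = 9 := fun P => by
    rw [P.card_eq_multiplicity, card_gl]
    have : (9999360 : ℕ).factorization 3 = 2 := by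
      rw [Nat.factorization_def _ Nat.prime_three]
      rw [show (9999360 : ℕ) = 3 ^ 2 * 1111040 by norm_num, padicValNat.mul (by norm_num) (by norm_num),
        padicValNat.prime_pow, padicValNat.eq_zero_of_not_dvd (by norm_num)]
    rw [this]
    norm_num
  have hTc : IsCyclic T := by
    refine isCyclic_of_orderOf_eq_card ⟨x, hT (mem_zpowers x)⟩ ?_
    rw [← Subgroup.orderOf_coe, hcard, hx9]
  obtain ⟨c, hc⟩ := MulAction.exists_smul_eq (GL (Fin 5) (ZMod 2)) S T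
  have hSc : IsCyclic S := by
    have e := Sylow.equiv S T
    exact e.isCyclic.2 hTc
  classical
  letI := Fintype.ofFinite S
  have haS : a ∈ S := hS (mem_sup_left (mem_zpowers a))
  have hbS : b ∈ S := hS (mem_sup_right (mem_zpowers b))
  have h3 := IsCyclic.card_pow_eq_one_le (α := S) (show 0 < 3 by norm_num)
  let s : Finset S := {1, ⟨a, haS⟩, ⟨a, haS⟩ * ⟨a, haS⟩, ⟨b, hbS⟩}
  have hsub : s ⊆ Finset.univ.filter (fun y : S => y ^ 3 = 1) := by
    intro y hy
    simp only [s, Finset.mem_insert, Finset.mem_singleton] at hy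
    rw [Finset.mem_filter]
    refine ⟨Finset.mem_univ _, ?_⟩
    rcases hy with rfl | rfl | rfl | rfl
    · simp
    · exact Subtype.ext ha
    · refine Subtype.ext ?_
      show (a * a) ^ 3 = 1
      rw [← pow_two, ← pow_mul, mul_comm, pow_mul, ha, one_pow]
    · exact Subtype.ext hb
  have hs : s.card = 4 := by
    have key : ∀ u v : S, ((u : GL (Fin 5) (ZMod 2)) : Matrix (Fin 5) (Fin 5) (ZMod 2)) ≠
        ((v : GL (Fin 5) (ZMod 2)) : Matrix (Fin 5) (Fin 5) (ZMod 2)) → u ≠ v := fun u v h e => h (by rw [e])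
    have h1 : (1 : S) ≠ ⟨a, haS⟩ := key _ _ (show (1 : Matrix (Fin 5) (Fin 5) (ZMod 2)) ≠ mA by decide +kernel)
    have h2 : (1 : S) ≠ ⟨a, haS⟩ * ⟨a, haS⟩ :=
      key _ _ (show (1 : Matrix (Fin 5) (Fin 5) (ZMod 2)) ≠ mA * mA by decide +kernel)
    have h4 : (1 : S) ≠ ⟨b, hbS⟩ := key _ _ (show (1 : Matrix (Fin 5) (Fin 5) (ZMod 2)) ≠ mB by decide +kernel)
    have h5 : (⟨a, haS⟩ : S) ≠ ⟨a, haS⟩ * ⟨a, haS⟩ := key _ _ (show mA ≠ mA * mA by decide +kernel)
    have h6 : (⟨a, haS⟩ : S) ≠ ⟨b, hbS⟩ := key _ _ (show mA ≠ mB by decide +kernel)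
    have h7 : (⟨a, haS⟩ : S) * ⟨a, haS⟩ ≠ ⟨b, hbS⟩ := key _ _ (show mA * mA ≠ mB by decide +kernel)
    simp only [s]
    rw [Finset.card_insert_of_notMem (by rw [Finset.mem_insert, Finset.mem_insert, Finset.mem_singleton]; rintro (h | h | h); exacts [h1 h, h2 h, h4 h]), Finset.card_insert_of_notMem
      (by rw [Finset.mem_insert, Finset.mem_singleton]; rintro (h | h); exacts [h5 h, h6 h]), Finset.card_insert_of_notMem (by rw [Finset.mem_singleton]; exact h7), Finset.card_singleton]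
  have := (Finset.card_le_card hsub).trans h3
  omega

/-- Let X be a section of the general linear group GL(5, 2), that is, a quotient of a subgroup of it. If X is isomorphic to PSL(2, 2^n) for some n ≥ 2, to a Suzuki group over the field with 2^(2m+1) elements for some m ≥ 1, or to PSU(3, 2^n) for some n ≥ 2, then X is isomorphic to PSL(2, 4). -/
theorem result {H : Subgroup (GL (Fin 5) (ZMod 2))}
    {K : Subgroup ↥H} [K.Normal]
    (hX : (∃ (n : ℕ) (F : Type) (_ : Field F) (_ : Fintype F), 2 ≤ n ∧ Fintype.card F = 2 ^ n ∧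
        Nonempty (↥H ⧸ K ≃* Matrix.ProjectiveSpecialLinearGroup (Fin 2) F)) ∨
      (∃ (m : ℕ) (F : Type) (_ : Field F) (_ : Fintype F), 1 ≤ m ∧ Fintype.card F = 2 ^ (2 * m + 1) ∧
        Nonempty (↥H ⧸ K ≃* ↥(Cfsg.Lie.Sz F (2 ^ (m + 1))))) ∨
      (∃ (n : ℕ) (F : Type) (_ : Field F) (_ : Fintype F), 2 ≤ n ∧ Fintype.card F = 4 ^ n ∧
        Nonempty (↥H ⧸ K ≃* Cfsg.PSU 3 F (2 ^ n)))) :
    ∃ (F : Type) (_ : Field F) (_ : Fintype F), Fintype.card F = 4 ∧
      Nonempty (↥H ⧸ K ≃* Matrix.ProjectiveSpecialLinearGroup (Fin 2) F) := by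
  have hdvd : Nat.card (↥H ⧸ K) ∣ 9999360 := card_gl ▸ (Subgroup.card_quotient_dvd_card K).trans
    (Subgroup.card_subgroup_dvd_card H)
  have hsmall : ∀ x y : ℕ, x ∣ y → y ≠ 0 → x ≤ y := fun x y h h0 => Nat.le_of_dvd (Nat.pos_of_ne_zero h0) h
  rcases hX with ⟨n, F, iF, iFF, hn, hF, ⟨e⟩⟩ | ⟨m, F, iF, iFF, hm, hF, ⟨e⟩⟩ | ⟨n, F, iF, iFF, hn, hF, ⟨e⟩⟩
  · rw [Nat.card_congr e.toEquiv] at hdvd
    have hG := Cfsg.Lib.Linear.Two.card_PSL_two (F := F)
    have hg : Nat.gcd 2 (Fintype.card F - 1) = 1 := by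
      refine (Nat.prime_two.coprime_iff_not_dvd.2 ?_)
      rw [hF]
      obtain ⟨k, rfl⟩ := Nat.exists_eq_add_of_le hn
      rw [pow_add]
      have : 0 < 2 ^ k := pow_pos two_pos k
      omega
    rw [hg, one_mul, hF] at hG
    have hn8 : n ≤ 23 := by
      have h1 : 2 ^ n ∣ 9999360 := dvd_trans (hG ▸ dvd_mul_right _ _) hdvd
      have h2 := hsmall _ _ h1 (by norm_num)
      by_contra hcon
      have h3 : 2 ^ 24 ≤ 2 ^ n := Nat.pow_le_pow_right two_pos (by omega)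
      omega
    rw [hG] at hdvd
    have hn' : n = 2 ∨ n = 3 := by
      interval_cases n <;> first | omega | (exfalso; revert hdvd; norm_num)
    rcases hn' with rfl | rfl
    · exact ⟨F, iF, iFF, by rw [hF]; rfl, ⟨e⟩⟩
    · exfalso
      haveI : Fact (Nat.Prime 2) := ⟨Nat.prime_two⟩
      haveI : CharP F 2 := charP_of_card_eq_prime_pow hF
      have h9 : (9 : ℕ) ∈ Set.range (orderOf : Matrix.ProjectiveSpecialLinearGroup (Fin 2) F → ℕ) := by
        rw [Cfsg.Agent.S2475.result 2 (by rw [hF]; norm_num)]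
        refine Or.inr (Or.inr ?_)
        rw [hF]; decide
      obtain ⟨y, hy⟩ := h9
      obtain ⟨h, hh⟩ := QuotientGroup.mk'_surjective K (e.symm y)
      refine no_orderOf_nine (h : GL (Fin 5) (ZMod 2)) ?_
      rw [Subgroup.orderOf_coe]
      have := orderOf_map_dvd (QuotientGroup.mk' K) h
      rwa [hh, MulEquiv.orderOf_eq, hy] at this
  · exfalso
    rw [Nat.card_congr e.toEquiv, (Cfsg.Agent.S1163.result hm hF).1] at hdvd
    have hm5 : m ≤ 5 := by
      have h1 : (2 ^ (2 * m + 1)) ^ 2 ∣ 9999360 := dvd_trans (dvd_mul_of_dvd_left (dvd_mul_right _ _) _) hdvd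
      have h2 := hsmall _ _ h1 (by norm_num)
      by_contra hcon
      have h3 : 2 ^ 24 ≤ (2 ^ (2 * m + 1)) ^ 2 := by
        rw [← pow_mul]; exact Nat.pow_le_pow_right two_pos (by omega)
      omega
    revert hdvd
    interval_cases m <;> norm_num
  · exfalso
    rw [Nat.card_congr e.toEquiv] at hdvd
    have hG := Cfsg.Agent.S0280.result (q := 2 ^ n) (show Fintype.card F = (2 ^ n) ^ 2 by
      rw [hF, show (4 : ℕ) = 2 ^ 2 by norm_num, ← pow_mul, ← pow_mul, mul_comm]) 3 (by norm_num)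
    obtain ⟨c, hc⟩ := hdvd
    set P := Nat.card (Cfsg.PSU 3 F (2 ^ n))
    set g := Nat.gcd 3 (2 ^ n + 1) with hg
    have hdiv : (2 ^ n) ^ (3 * (3 - 1) / 2) * (∏ i ∈ Finset.range 3,
        (if Even i then (2 ^ n) ^ (i + 1) + 1 else (2 ^ n) ^ (i + 1) - 1)) ∣ g * ((2 ^ n + 1) * 9999360) :=
      ⟨c, by rw [← hG, hc]; ring⟩
    simp [Finset.prod_range_succ] at hdiv
    have hn8 : n ≤ 8 := by
      have hco : Nat.Coprime ((2 ^ n) ^ 3) (g * (2 ^ n + 1)) := by
        have h2g : ¬ 2 ∣ g * (2 ^ n + 1) := by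
          rw [Nat.prime_two.dvd_mul]
          rintro (h | h)
          · have := h.trans (Nat.gcd_dvd_left 3 (2 ^ n + 1)); norm_num at this
          · obtain ⟨k, rfl⟩ := Nat.exists_eq_add_of_le hn
            rw [pow_add] at h; omega
        rw [← pow_mul]
        exact Nat.Coprime.pow_left _ (Nat.prime_two.coprime_iff_not_dvd.2 h2g)
      have h1 : (2 ^ n) ^ 3 ∣ g * (2 ^ n + 1) * 9999360 := by
        rw [mul_assoc]; exact dvd_trans (dvd_mul_right _ _) hdiv
      have h2 := hsmall _ _ (hco.dvd_of_dvd_mul_left h1) (by norm_num)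
      by_contra hcon
      have h3 : 2 ^ 27 ≤ (2 ^ n) ^ 3 := by
        rw [← pow_mul]; exact Nat.pow_le_pow_right two_pos (by omega)
      omega
    rw [hg] at hdiv
    revert hdiv
    interval_cases n <;> norm_num

end Cfsg.Agent.S3179
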