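import Cfsg.Statements.S3180
-- import your own Cfsg.Agent.* helpers here

set_option autoImplicit false
open Cfsg

namespace Cfsg.Agent.S3180

/-- Let P be a Sylow p-subgroup of a finite group J and P₁ a subgroup of P that is weakly closed in P with respect to J. If J acts on a set and two points, each fixed by every element of P₁, lie in one J-orbit, then they lie in one orbit of the normalizer of P₁ in J. -/
theorem result {J : Type*} [Group J] [Finite J]
    {p : ℕ} [Fact p.Prime] (P : Sylow p J) (P₁ : Subgroup J) (hW : Cfsg.IsWeaklyClosed P₁ (P : Subgroup J))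
    {Ω : Type*} [MulAction J Ω] (x y : Ω) (hx : ∀ g ∈ P₁, g • x = x) (hy : ∀ g ∈ P₁, g • y = y)
    (hc : ∃ g : J, g • x = y) :
    ∃ g ∈ Subgroup.normalizer (P₁ : Set J), g • x = y := by
  obtain ⟨g, rfl⟩ := hc
  let S : Subgroup J := MulAction.stabilizer J (g • x)
  have h1 : P₁ ≤ S := fun k hk => hy k hk
  have h2 : P₁.map (MulAut.conj g).toMonoidHom ≤ S := by
    rintro _ ⟨k, hk, rfl⟩
    show (g * k * g⁻¹) • (g • x) = g • x
    simp [mul_smul, hx k hk]
  have hp1 : IsPGroup p P₁ := P.2.to_le hW.1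
  obtain ⟨Q₁, hQ₁⟩ := (hp1.comap_subtype (K := S)).exists_le_sylow
  obtain ⟨Q₂, hQ₂⟩ := ((hp1.map (MulAut.conj g).toMonoidHom).comap_subtype (K := S)).exists_le_sylow
  obtain ⟨h, hh⟩ := MulAction.exists_smul_eq S Q₂ Q₁
  obtain ⟨R, hR⟩ := (Q₁.2.map S.subtype).exists_le_sylow
  obtain ⟨k, hk⟩ := MulAction.exists_smul_eq J R P
  have key : ∀ z ∈ (Q₁ : Subgroup S).map S.subtype, k * z * k⁻¹ ∈ P := by
    intro z hz
    rw [← hk, Sylow.smul_def]
    exact ⟨z, hR hz, rfl⟩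
  have hk1 : P₁.map (MulAut.conj k).toMonoidHom = P₁ := by
    refine hW.2 k ?_
    rintro _ ⟨z, hz, rfl⟩
    exact key z ⟨⟨z, h1 hz⟩, hQ₁ hz, rfl⟩
  have hk2 : P₁.map (MulAut.conj (k * (h : J) * g)).toMonoidHom = P₁ := by
    refine hW.2 _ ?_
    rintro _ ⟨z, hz, rfl⟩
    have hzS : g * z * g⁻¹ ∈ P₁.map (MulAut.conj g).toMonoidHom := ⟨z, hz, rfl⟩
    have : h * ⟨g * z * g⁻¹, h2 hzS⟩ * h⁻¹ ∈ (Q₁ : Subgroup S) := by
      rw [← hh, Sylow.smul_def]
      exact ⟨_, hQ₂ hzS, rfl⟩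
    have h3 := key _ ⟨_, this, rfl⟩
    show (MulAut.conj (k * (h : J) * g)).toMonoidHom z ∈ (P : Subgroup J)
    have h4 : k * ((h : J) * (g * z * g⁻¹) * (h : J)⁻¹) * k⁻¹ ∈ (P : Subgroup J) := h3
    simpa [mul_assoc] using h4
  have hn : ∀ u : J, P₁.map (MulAut.conj u).toMonoidHom = P₁ → u ∈ Subgroup.normalizer (P₁ : Set J) := by
    intro u hu
    rw [Subgroup.mem_normalizer_iff]
    intro z
    conv_rhs => rw [← hu]
    exact ⟨fun hz => ⟨z, hz, rfl⟩, fun ⟨w, hw, hw'⟩ => by simp at hw'; rwa [← hw']⟩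
  refine ⟨(h : J) * g, ?_, ?_⟩
  · have := (Subgroup.normalizer (P₁ : Set J)).mul_mem ((Subgroup.normalizer (P₁ : Set J)).inv_mem (hn k hk1)) (hn _ hk2)
    simpa [mul_assoc] using this
  · rw [mul_smul]; exact h.2

end Cfsg.Agent.S3180
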