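import Cfsg.Statements.S3183
import Cfsg.Agent.Lib.CharTwoIn

set_option autoImplicit false
open Cfsg

namespace Cfsg.Agent.S3183

theorem sylow_between {G : Type*} [Group G] [Finite G] {U : Sylow 2 G} {C P : Subgroup G}
    (hUC : (U : Subgroup G) ≤ C) (hPC : P ≤ C) (hP : IsPGroup 2 ↥P) :
    ∃ R : Sylow 2 G, (R : Subgroup G) ≤ C ∧ P ≤ (R : Subgroup G) := by
  have := Fact.mk Nat.prime_two
  obtain ⟨R, hR⟩ := IsPGroup.exists_le_sylow (hP.comap_of_injective C.subtype C.subtype_injective)
  have hc : Nat.card ↥((R : Subgroup ↥C).map C.subtype) = Nat.card ↥(U : Subgroup G) := by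
    rw [Subgroup.card_map_of_injective C.subtype_injective, R.card_eq_multiplicity]
    have h1 := (U.subtype hUC).card_eq_multiplicity
    rw [Sylow.coe_subtype, Nat.card_congr (Subgroup.subgroupOfEquivOfLe hUC).toEquiv] at h1
    exact h1.symm
  refine ⟨Sylow.ofCard ((R : Subgroup ↥C).map C.subtype) (by rw [hc, U.card_eq_multiplicity]), ?_, ?_⟩
  · exact Subgroup.map_subtype_le _
  · exact fun x hx => ⟨⟨x, hPC hx⟩, hR hx, rfl⟩

theorem sylow_le_of_normal {G : Type*} [Group G] [Finite G] {U : Sylow 2 G} {C N : Subgroup G}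
    (W : Sylow 2 G) (hW : (W : Subgroup G) ≤ N) (hUC : (U : Subgroup G) ≤ C) (hCN : C ≤ N)
    (hn : N ≤ Subgroup.normalizer (C : Set G)) : (W : Subgroup G) ≤ C := by
  have := Fact.mk Nat.prime_two
  obtain ⟨n, hn'⟩ := MulAction.exists_smul_eq ↥N (U.subtype (hUC.trans hCN)) (W.subtype hW)
  intro w hw
  have hw' : (⟨w, hW hw⟩ : ↥N) ∈ (n • U.subtype (hUC.trans hCN) : Sylow 2 ↥N) := by
    rw [hn']
    exact hw
  rw [Sylow.smul_def] at hw'
  obtain ⟨u, hu, huw⟩ := hw'
  have h1 : (n : G) * (u : G) * (n : G)⁻¹ = w := congrArg Subtype.val huw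
  rw [← h1]
  exact (Subgroup.mem_normalizer_iff.1 (hn n.2) _).1 (hUC hu)


/-- Let G be a finite group in which the intersection of any two distinct Sylow 2-subgroups is contained in the centre of some Sylow 2-subgroup, and let S be a Sylow 2-subgroup. Then for every x in S the centralizer of x in S is a Sylow 2-subgroup of the centralizer of x in G (no 2-subgroup centralizing x is larger), and for every other Sylow 2-subgroup T the intersection S ∩ T lies in both the centre of S and the centre of T. -/
theorem result {G : Type*} [Group G] [Finite G]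
    (hCI : ∀ S T : Sylow 2 G, S ≠ T → ∃ U : Sylow 2 G,
      (S : Subgroup G) ⊓ (T : Subgroup G) ≤ (Subgroup.center ↥(U : Subgroup G)).map (U : Subgroup G).subtype)
    (S : Sylow 2 G) :
    (∀ x ∈ (S : Subgroup G), ∀ P : Subgroup G, IsPGroup 2 ↥P → P ≤ Subgroup.centralizer ({x} : Set G) →
        Nat.card ↥P ≤ Nat.card ↥((S : Subgroup G) ⊓ Subgroup.centralizer ({x} : Set G))) ∧
    (∀ T : Sylow 2 G, T ≠ S →
        (S : Subgroup G) ⊓ (T : Subgroup G) ≤
          (Subgroup.center ↥(S : Subgroup G)).map (S : Subgroup G).subtype ⊓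
            (Subgroup.center ↥(T : Subgroup G)).map (T : Subgroup G).subtype) := by
  have := Fact.mk Nat.prime_two
  have key : ∀ S T : Sylow 2 G, S ≠ T →
      (S : Subgroup G) ≤ Subgroup.centralizer (((S : Subgroup G) ⊓ (T : Subgroup G) : Subgroup G) : Set G) := by
    intro S
    suffices h : ∀ D : Subgroup G, ∀ T : Sylow 2 G, S ≠ T → (S : Subgroup G) ⊓ (T : Subgroup G) = D →
        (S : Subgroup G) ≤ Subgroup.centralizer (D : Set G) from fun T hT => h _ T hT rfl
    intro D
    induction D using WellFoundedGT.induction with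
    | ind D ih =>
      intro T hT hD
      by_contra hn
      obtain ⟨U, hU⟩ := hCI S T hT
      rw [hD] at hU
      have hUC : (U : Subgroup G) ≤ Subgroup.centralizer (D : Set G) := by
        intro u hu
        rw [Subgroup.mem_centralizer_iff]
        intro d hd
        obtain ⟨d', hd', rfl⟩ := hU hd
        exact congrArg Subtype.val (Subgroup.mem_center_iff.1 hd' ⟨u, hu⟩).symm
      have grow : ∀ W : Sylow 2 G, W ≠ S → D ≤ (S : Subgroup G) ⊓ (W : Subgroup G) →
          (S : Subgroup G) ⊓ (W : Subgroup G) = D := by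
        intro W hW hle
        rcases eq_or_lt_of_le hle with h | h
        · exact h.symm
        · exact absurd ((ih _ h W hW.symm rfl).trans (Subgroup.centralizer_le h.le)) hn
      -- a Sylow subgroup of `G` inside `C(D)` containing `C_S(D)`
      obtain ⟨R, hRC, hR⟩ := sylow_between hUC
        (inf_le_right : (S : Subgroup G) ⊓ Subgroup.centralizer (D : Set G) ≤ _) (S.2.to_le inf_le_left)
      have hRS : R ≠ S := fun h => hn (h ▸ hRC)
      have hDS : D ≤ (S : Subgroup G) := hD ▸ inf_le_left
      have hDC : D ≤ Subgroup.centralizer (D : Set G) := by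
        intro d hd
        obtain ⟨d', hd', rfl⟩ := hU hd
        exact hUC d'.2
      have hCS : (S : Subgroup G) ⊓ Subgroup.centralizer (D : Set G) = D := by
        refine le_antisymm ?_ (le_inf hDS hDC)
        calc _ ≤ (S : Subgroup G) ⊓ (R : Subgroup G) := le_inf inf_le_left hR
          _ = D := grow R hRS ((le_inf hDS hDC).trans (le_inf inf_le_left hR))
      have hCN : Subgroup.centralizer (D : Set G) ≤ Subgroup.normalizer (D : Set G) :=
        Subgroup.centralizer_le_normalizer _
      obtain ⟨W, hWN, hW⟩ := sylow_between (hUC.trans hCN)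
        (inf_le_right : (S : Subgroup G) ⊓ Subgroup.normalizer (D : Set G) ≤ _) (S.2.to_le inf_le_left)
      have hDlt : D < (S : Subgroup G) := by
        refine lt_of_le_of_ne hDS fun h => ?_
        exact hn (by rw [← h]; exact hDC)
      have hnorm : D < (S : Subgroup G) ⊓ Subgroup.normalizer (D : Set G) := by
        have hnil := (S.2 : IsPGroup 2 (S : Subgroup G)).isNilpotent
        have hne : D.subgroupOf (S : Subgroup G) ≠ ⊤ :=
          fun h => hDlt.not_ge (Subgroup.subgroupOf_eq_top.1 h)
        have h1 := Group.normalizerCondition_of_isNilpotent (G := ↥(S : Subgroup G)) (D.subgroupOf (S : Subgroup G)) hne.lt_top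
        have h2 := (Subgroup.map_lt_map_iff_of_injective (S : Subgroup G).subtype_injective).2 h1
        rw [Subgroup.subgroupOf_map_subtype, inf_eq_left.2 hDS] at h2
        refine h2.trans_le (le_inf (Subgroup.map_subtype_le _) ?_)
        refine (Subgroup.le_normalizer_map (S : Subgroup G).subtype).trans ?_
        rw [Subgroup.subgroupOf_map_subtype, inf_eq_left.2 hDS]
      have hWS : W = S := by
        by_contra hne
        have h1 : (S : Subgroup G) ⊓ Subgroup.normalizer (D : Set G) ≤ (S : Subgroup G) ⊓ (W : Subgroup G) :=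
          le_inf inf_le_left hW
        exact hnorm.not_ge ((h1.trans (grow W hne (hnorm.le.trans h1)).le))
      subst hWS
      -- `C_S(D)` is a Sylow subgroup of the normal subgroup `C(D)` of `N(D)`
      refine hn (sylow_le_of_normal W hWN hUC hCN ?_)
      exact Cfsg.Lib.CharTwoIn.normalizer_le_normalizer_centralizer' D
  have part2 : ∀ S T : Sylow 2 G, S ≠ T → (S : Subgroup G) ⊓ (T : Subgroup G) ≤
      (Subgroup.center ↥(S : Subgroup G)).map (S : Subgroup G).subtype := by
    intro S T hST d hd
    refine ⟨⟨d, hd.1⟩, Subgroup.mem_center_iff.2 fun s => Subtype.ext ?_, rfl⟩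
    exact (Subgroup.mem_centralizer_iff.1 (key S T hST s.2) d hd).symm
  refine ⟨fun x hx P hP hPx => ?_, fun T hT => le_inf (part2 S T hT.symm) ?_⟩
  · obtain ⟨R, hR⟩ := IsPGroup.exists_le_sylow
      ((S.2.to_le inf_le_left : IsPGroup 2 ↥((S : Subgroup G) ⊓ Subgroup.centralizer ({x} : Set G))).comap_of_injective
        (Subgroup.centralizer ({x} : Set G)).subtype (Subgroup.subtype_injective _))
    obtain ⟨T, hT⟩ := IsPGroup.exists_le_sylow (R.2.map (Subgroup.centralizer ({x} : Set G)).subtype)
    have hcard : Nat.card ↥P ≤ Nat.card ↥((R : Subgroup ↥(Subgroup.centralizer ({x} : Set G))).map (Subgroup.centralizer ({x} : Set G)).subtype) := by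
      rw [Subgroup.card_map_of_injective (Subgroup.subtype_injective _)]
      obtain ⟨R', hR'⟩ := IsPGroup.exists_le_sylow
        (hP.comap_of_injective (Subgroup.centralizer ({x} : Set G)).subtype (Subgroup.subtype_injective _))
      calc Nat.card ↥P = Nat.card ↥(P.subgroupOf (Subgroup.centralizer ({x} : Set G))) :=
            (Nat.card_congr (Subgroup.subgroupOfEquivOfLe hPx).toEquiv).symm
        _ ≤ Nat.card ↥(R' : Subgroup ↥(Subgroup.centralizer ({x} : Set G))) := Nat.le_of_dvd Nat.card_pos (Subgroup.card_dvd_of_le hR')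
        _ = _ := by rw [R.card_eq_multiplicity, R'.card_eq_multiplicity]
    refine hcard.trans (Nat.le_of_dvd Nat.card_pos (Subgroup.card_dvd_of_le ?_))
    refine le_inf ?_ (Subgroup.map_subtype_le _)
    by_cases hTS : T = S
    · exact hTS ▸ hT
    · have hxT : x ∈ (T : Subgroup G) := hT ⟨⟨x, Subgroup.mem_centralizer_singleton_iff.2 rfl⟩,
        hR ⟨hx, Subgroup.mem_centralizer_singleton_iff.2 rfl⟩, rfl⟩
      have hxS := key S T (Ne.symm hTS)
      have hSC : (S : Subgroup G) ≤ Subgroup.centralizer ({x} : Set G) := fun s hs =>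
        Subgroup.mem_centralizer_singleton_iff.2 (Subgroup.mem_centralizer_iff.1 (hxS hs) x ⟨hx, hxT⟩).symm
      have hRS : (S : Subgroup G).subgroupOf (Subgroup.centralizer ({x} : Set G)) ≤ R := fun s hs =>
        hR (show (s : G) ∈ (S : Subgroup G) ⊓ Subgroup.centralizer ({x} : Set G) from ⟨hs, s.2⟩)
      have h1 : (S : Subgroup G) ≤ (R : Subgroup ↥(Subgroup.centralizer ({x} : Set G))).map (Subgroup.centralizer ({x} : Set G)).subtype :=
        fun s hs => ⟨⟨s, hSC hs⟩, hRS hs, rfl⟩
      exact (S.3 (R.2.map _) h1).le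
  · rw [inf_comm]
    exact part2 T S hT

end Cfsg.Agent.S3183
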