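import Cfsg.Statements.S3184
import Mathlib
import Cfsg.Agent.Lib.ZStar.Main

set_option autoImplicit false
open Cfsg

namespace Cfsg.Agent.S3184

/-- Let G be a finite group in which the intersection of any two distinct Sylow 2-subgroups is contained in the centre of some Sylow 2-subgroup, and let S be a Sylow 2-subgroup. If C is a nontrivial cyclic characteristic subgroup of S, then the involution of C is central modulo the largest normal subgroup of odd order of G: each of its conjugates has the same image in G/O(G). -/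
theorem result {G : Type*} [Group G] [Finite G]
    (hCI : ∀ S T : Sylow 2 G, S ≠ T → ∃ U : Sylow 2 G,
      (S : Subgroup G) ⊓ (T : Subgroup G) ≤ (Subgroup.center ↥(U : Subgroup G)).map (U : Subgroup G).subtype)
    (S : Sylow 2 G) (C : Subgroup ↥(S : Subgroup G)) (hC : C ≠ ⊥) (hCc : IsCyclic ↥C) (hCh : C.Characteristic)
    (c : ↥(S : Subgroup G)) (hc : c ∈ C) (hc2 : orderOf c = 2) :
    ∀ g : G, (QuotientGroup.mk (s := Cfsg.oddCore G) (g * (c : G) * g⁻¹)) =
      QuotientGroup.mk (s := Cfsg.oddCore G) (c : G) := by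
  classical
  haveI : Fact (Nat.Prime 2) := ⟨Nat.prime_two⟩
  have hcG : orderOf (c : G) = 2 := by rw [Subgroup.orderOf_coe, hc2]
  -- the normaliser of `S` fixes `c`
  have hfix : ∀ n ∈ Subgroup.normalizer ((S : Subgroup G) : Set G), n * (c : G) * n⁻¹ = c := by
    intro n hn
    let φ : MulAut ↥(S : Subgroup G) :=
      { toFun := fun x => ⟨n * x * n⁻¹, (Subgroup.mem_normalizer_iff.mp hn _).mp x.2⟩
        invFun := fun x => ⟨n⁻¹ * x * n, by
          have := (Subgroup.mem_normalizer_iff.mp (Subgroup.inv_mem _ hn) _).mp x.2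
          simpa using this⟩
        left_inv := fun x => Subtype.ext (by simp [mul_assoc])
        right_inv := fun x => Subtype.ext (by simp [mul_assoc])
        map_mul' := fun x y => Subtype.ext (by simp [mul_assoc]) }
    have hmem : φ c ∈ C := by
      have := Subgroup.characteristic_iff_comap_eq.mp hCh φ
      rw [← this] at hc
      exact hc
    have ho : orderOf (φ c) = 2 := by rw [φ.orderOf_eq, hc2]
    letI := Fintype.ofFinite ↥C
    have h1 := IsCyclic.card_pow_eq_one_le (α := ↥C) (n := 2) two_pos
    by_contra hne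
    have hsub : ({1, ⟨c, hc⟩, ⟨φ c, hmem⟩} : Finset ↥C) ⊆ Finset.univ.filter fun a : ↥C => a ^ 2 = 1 := by
      intro a ha
      simp only [Finset.mem_insert, Finset.mem_singleton] at ha
      rw [Finset.mem_filter]
      refine ⟨Finset.mem_univ _, ?_⟩
      rcases ha with rfl | rfl | rfl
      · exact one_pow _
      · refine Subtype.ext ?_
        have := pow_orderOf_eq_one c
        rw [hc2] at this
        exact this
      · refine Subtype.ext ?_
        have := pow_orderOf_eq_one (φ c)
        rw [ho] at this
        exact this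
    have h3 := (Finset.card_le_card hsub).trans h1
    rw [Finset.card_insert_of_notMem, Finset.card_pair] at h3
    · omega
    · intro h
      exact hne (congrArg Subtype.val (show φ c = c from congrArg Subtype.val h.symm))
    · intro h
      simp only [Finset.mem_insert, Finset.mem_singleton] at h
      rcases h with h | h
      · rw [show c = 1 from congrArg Subtype.val h.symm, orderOf_one] at hc2
        omega
      · rw [show φ c = 1 from congrArg Subtype.val h.symm, orderOf_one] at ho
        omega
  have hcent : ∀ s ∈ (S : Subgroup G), s * (c : G) = c * s := fun s hs => by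
    have := hfix s (Subgroup.le_normalizer hs)
    exact mul_inv_eq_iff_eq_mul.mp this
  -- conjugates of `c` central in `S` equal `c`
  have hZ : ∀ g : G, g * (c : G) * g⁻¹ ∈ Subgroup.centralizer ((S : Subgroup G) : Set G) → g * (c : G) * g⁻¹ = c := by
    intro g hg
    obtain ⟨n, hn, he⟩ := S.conj_eq_normalizer_conj_of_mem_centralizer (c : G) g⁻¹
      (Subgroup.mem_centralizer_iff.mpr fun s hs => hcent s hs) (by rw [inv_inv]; exact hg)
    rw [inv_inv] at he
    rw [he]
    have := hfix n⁻¹ (Subgroup.inv_mem _ hn)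
    rwa [inv_inv] at this
  have hiso : Cfsg.IsIsolatedInvolution (c : G) := by
    refine Cfsg.Lib.Invol.isolated_of_sylow S hcG fun g hg => ?_
    set x := g * (c : G) * g⁻¹ with hx
    have hcx : (c : G) ∈ Subgroup.centralizer {x} :=
      Subgroup.mem_centralizer_singleton_iff.mpr (hcent x hg).symm
    have hT : ((g • S : Sylow 2 G) : Subgroup G) ≤ Subgroup.centralizer {x} := by
      intro y hy
      rw [Sylow.coe_subgroup_smul, Subgroup.mem_pointwise_smul_iff_inv_smul_mem, MulAut.smul_def] at hy
      simp only [map_inv, MulAut.conj_inv_apply] at hy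
      have := hcent _ hy
      rw [Subgroup.mem_centralizer_singleton_iff, hx]
      have h' := congrArg (fun w => g * w * g⁻¹) this
      simpa [mul_assoc] using h'
    set T' := (g • S : Sylow 2 G).subtype hT with hT'
    have hzp : IsPGroup 2 (Subgroup.zpowers (⟨(c : G), hcx⟩ : Subgroup.centralizer {x})) :=
      IsPGroup.of_card (n := 1) (by rw [Nat.card_zpowers, Subgroup.orderOf_mk, hcG, pow_one])
    obtain ⟨W', hW'⟩ := hzp.exists_le_sylow
    obtain ⟨h, hh⟩ := MulAction.exists_smul_eq (Subgroup.centralizer {x}) T' W'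
    set k := (h : G) * g with hk
    have hxk : x = k * (c : G) * k⁻¹ := by
      have h' : (h : G) * x * (h : G)⁻¹ = x := by
        rw [Subgroup.mem_centralizer_singleton_iff.mp h.2, mul_inv_cancel_right]
      calc x = (h : G) * x * (h : G)⁻¹ := h'.symm
        _ = (h : G) * (g * (c : G) * g⁻¹) * (h : G)⁻¹ := rfl
        _ = k * (c : G) * k⁻¹ := by rw [hk]; group
    have hcW : (c : G) ∈ ((k • S : Sylow 2 G) : Subgroup G) := by
      have h1 := hW' (Subgroup.mem_zpowers _)
      rw [← hh, Sylow.coe_subgroup_smul, Subgroup.mem_pointwise_smul_iff_inv_smul_mem, MulAut.smul_def] at h1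
      simp only [map_inv, MulAut.conj_inv_apply, hT', Sylow.coe_subtype, Subgroup.mem_subgroupOf] at h1
      rw [hk, mul_smul, Sylow.coe_subgroup_smul, Subgroup.mem_pointwise_smul_iff_inv_smul_mem, MulAut.smul_def]
      simp only [map_inv, MulAut.conj_inv_apply]
      simpa using h1
    have hxW : x ∈ ((k • S : Sylow 2 G) : Subgroup G) := by
      rw [hxk, Sylow.coe_subgroup_smul]
      exact Subgroup.smul_mem_pointwise_smul _ (MulAut.conj k) _ c.2
    by_cases hkS : k • S = S
    · rw [hxk]; exact hfix k (Sylow.smul_eq_iff_mem_normalizer.mp hkS)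
    obtain ⟨U, hU⟩ := hCI S (k • S) (Ne.symm hkS)
    obtain ⟨u, rfl⟩ := MulAction.exists_smul_eq G S U
    have key : ∀ y : G, (∃ a : G, y = a * (c : G) * a⁻¹) → y ∈ (S : Subgroup G) → y ∈ ((k • S : Sylow 2 G) : Subgroup G) → y = u * (c : G) * u⁻¹ := by
      rintro y ⟨a, rfl⟩ h1 h2
      obtain ⟨z, hz, hzy⟩ := Subgroup.mem_map.mp (hU ⟨h1, h2⟩)
      have hmem : u⁻¹ * a * (c : G) * (u⁻¹ * a)⁻¹ ∈ Subgroup.centralizer ((S : Subgroup G) : Set G) := by
        rw [Subgroup.mem_centralizer_iff]
        intro s hs
        have hus : u * s * u⁻¹ ∈ ((u • S : Sylow 2 G) : Subgroup G) := by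
          rw [Sylow.coe_subgroup_smul]
          exact Subgroup.smul_mem_pointwise_smul _ (MulAut.conj u) _ hs
        have hc' := congrArg Subtype.val (Subgroup.mem_center_iff.mp hz ⟨_, hus⟩)
        simp only [Subgroup.coe_mul, Subgroup.coe_subtype] at hc' hzy
        rw [hzy] at hc'
        have h' := congrArg (fun w => u⁻¹ * w * u) hc'
        simpa [mul_assoc] using h'
      have := hZ _ hmem
      conv_rhs => rw [← this]
      group
    rw [key x ⟨g, hx⟩ hg hxW, ← key c ⟨1, by simp⟩ c.2 hcW]
  intro g
  have h := Cfsg.Lib.ZStar.zStarHolds G (c : G) hiso g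
  rw [QuotientGroup.eq]
  have hinv : (c : G)⁻¹ = c := Cfsg.Lib.Invol.inv_eq_self hcG
  have h' := (Cfsg.oddCore G).inv_mem h
  simpa [mul_assoc, hinv] using h'

end Cfsg.Agent.S3184
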