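import Cfsg.Statements.S3190
import Cfsg.Agent.Lib.Core.Basic
import Cfsg.Agent.Lib.Coprime.Action
import Cfsg.Agent.Lib.PGroup.Basic

set_option autoImplicit false
open Cfsg

namespace Cfsg.Agent.S3190

/-- Let p be an odd prime and, inside a finite group, let P be a p-subgroup normalized by a Klein four-group T. Let R be a subgroup of P, normal in P and normalized by T, such that P is the product of R with the centralizer of T in P. If T centralizes the centre of P, then T centralizes the centre of R. -/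
theorem result {X : Type*} [Group X] [Finite X]
    {p : ℕ} (hp : p.Prime) (hodd : Odd p) (P T R : Subgroup X) (hP : IsPGroup p ↥P) (hT : IsKleinFour ↥T)
    (hTP : T ≤ Subgroup.normalizer (P : Set X)) (hRP : R ≤ P) (hRn : (R.subgroupOf P).Normal)
    (hTR : T ≤ Subgroup.normalizer (R : Set X)) (hfac : R ⊔ (P ⊓ Subgroup.centralizer (T : Set X)) = P)
    (hZ : T ≤ Subgroup.centralizer (((Subgroup.center ↥P).map P.subtype : Subgroup X) : Set X)) :
    T ≤ Subgroup.centralizer (((Subgroup.center ↥R).map R.subtype : Subgroup X) : Set X) := by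
  have := Fact.mk hp
  set Z : Subgroup X := (Subgroup.center ↥R).map R.subtype with hZR
  have hZle : Z ≤ R := Subgroup.map_subtype_le _
  have hcenR : ∀ r ∈ R, ∀ z ∈ Z, r * z = z * r := by
    rintro r hr _ ⟨z, hz, rfl⟩
    exact congrArg Subtype.val (Subgroup.mem_center_iff.1 hz ⟨r, hr⟩)
  have hcomm : IsMulCommutative ↥Z := ⟨⟨fun a b => Subtype.ext (hcenR _ (hZle a.2) _ b.2)⟩⟩
  have hTZ : T ≤ Subgroup.normalizer (Z : Set X) :=
    hTR.trans (Cfsg.Lib.Core.normalizer_le_normalizer_map_char (H := R) (Subgroup.center ↥R))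
  have hcop : (Nat.card T).Coprime (Nat.card Z) := by
    obtain ⟨n, hn⟩ := IsPGroup.iff_card.mp (hP.to_le (hZle.trans hRP))
    have h4 : Nat.card T = 2 ^ 2 := by rw [IsKleinFour.card_four]; norm_num
    rw [h4, hn]
    exact (((Nat.coprime_primes Nat.prime_two hp).2 (fun h => (Nat.not_even_iff_odd.2 hodd) (h ▸ even_two))).pow_left 2).pow_right n
  set W : Subgroup X := ⁅Z, T⁆ with hW
  have hWZ : W ≤ Z := Subgroup.le_normalizer_iff_commutator_le_left.mp hTZ
  have hdis := Cfsg.Lib.Coprime.disjoint_commutator_centralizer (G := Z) (A := T) hTZ hcop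
  suffices hWbot : W = ⊥ by
    rw [Subgroup.le_centralizer_iff]
    exact Subgroup.commutator_eq_bot_iff_le_centralizer.1 hWbot
  by_contra hne
  -- `W` is normal in `P`
  have hPW : P ≤ Subgroup.normalizer (W : Set X) := by
    rw [← hfac]
    refine sup_le (fun r hr => ?_) (fun c hc => ?_)
    · rw [Subgroup.mem_normalizer_iff_map_conj_eq]
      ext w
      constructor
      · rintro ⟨v, hv, rfl⟩
        have h1 : r * v * r⁻¹ = v := by rw [hcenR r hr v (hWZ hv), mul_inv_cancel_right]
        show r * v * r⁻¹ ∈ W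
        rw [h1]; exact hv
      · intro hw
        refine ⟨w, hw, ?_⟩
        show r * w * r⁻¹ = w
        rw [hcenR r hr w (hWZ hw), mul_inv_cancel_right]
    · have hcZ : c ∈ Subgroup.normalizer (Z : Set X) :=
        Cfsg.Lib.Core.normalizer_le_normalizer_map_char (H := R) (Subgroup.center ↥R)
          ((Subgroup.normal_subgroupOf_iff_le_normalizer hRP).1 hRn hc.1)
      rw [Subgroup.mem_normalizer_iff_map_conj_eq, hW, Subgroup.map_commutator,
        Subgroup.mem_normalizer_iff_map_conj_eq.1 hcZ,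
        Subgroup.mem_normalizer_iff_map_conj_eq.1 (Subgroup.centralizer_le_normalizer (T : Set X) hc.2)]
  -- so it meets the centre of `P`
  have hWP : W ≤ P := hWZ.trans (hZle.trans hRP)
  obtain ⟨x, hxW, hxc, hx1⟩ : ∃ x ∈ W, (∀ q ∈ P, q * x = x * q) ∧ x ≠ 1 := by
    have hn : (W.subgroupOf P).Normal := (Subgroup.normal_subgroupOf_iff_le_normalizer hWP).2 hPW
    have := hP.isNilpotent
    have hne' : Nontrivial ↥(W.subgroupOf P) :=
      (Subgroup.nontrivial_iff_ne_bot _).2 (fun h => hne (by
        rw [Subgroup.subgroupOf_eq_bot] at h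
        exact disjoint_self.1 (h.mono le_rfl hWP)))
    by_contra hno
    push Not at hno
    have h1 := Cfsg.Lib.PGroup.inf_center_ne_bot hP (N := W.subgroupOf P) ((Subgroup.nontrivial_iff_ne_bot _).1 hne')
    obtain ⟨y, hy, hy1⟩ := (Subgroup.bot_or_exists_ne_one _).resolve_left h1
    exact hy1 (Subtype.ext (hno y hy.1 fun q hq => congrArg Subtype.val (Subgroup.mem_center_iff.1 hy.2 ⟨q, hq⟩)))
  have hxT : x ∈ Subgroup.centralizer (T : Set X) := by
    rw [Subgroup.mem_centralizer_iff]
    intro t ht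
    refine ((Subgroup.mem_centralizer_iff.1 (hZ ht)) x ?_).symm
    exact ⟨⟨x, hWP hxW⟩, Subgroup.mem_center_iff.2 fun q => Subtype.ext (hxc q q.2), rfl⟩
  exact hx1 (Subgroup.disjoint_def.1 hdis hxW hxT)

end Cfsg.Agent.S3190
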