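import Cfsg.Statements.S3191
import Cfsg.Agent.Lib.Kondo.Model
-- import your own Cfsg.Agent.* helpers here

set_option autoImplicit false
open Cfsg

namespace Cfsg.Agent.S3191

/-- Let n ≥ 1 and r = 2 or 3, and let H be the centralizer in the alternating group of degree 4n + r of an involution moving exactly 4n points (a product of 2n disjoint transpositions). Let G be a finite group that has no normal subgroup of index 2 and that contains an involution t which is central in some Sylow 2-subgroup of G and whose centralizer is isomorphic to H. Then G has exactly n conjugacy classes of involutions. -/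
theorem result (n r : ℕ) (hn : 1 ≤ n) (hr : r = 2 ∨ r = 3)
    (α : ↥(alternatingGroup (Fin (4 * n + r)))) (hα : orderOf α = 2)
    (hα4 : (α : Equiv.Perm (Fin (4 * n + r))).support.card = 4 * n)
    {G : Type*} [Group G] [Finite G] (h2 : ∀ H : Subgroup G, H.Normal → H.index ≠ 2)
    (t : G) (ht : orderOf t = 2) (S : Sylow 2 G) (htS : t ∈ (S : Subgroup G))
    (htZ : ∀ s ∈ (S : Subgroup G), s * t = t * s)
    (hiso : Nonempty (↥(Subgroup.centralizer ({t} : Set G)) ≃*
      ↥(Subgroup.centralizer ({α} : Set ↥(alternatingGroup (Fin (4 * n + r))))))) :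
    Nat.card {c : ConjClasses G // ∃ x ∈ c.carrier, orderOf x = 2} = n := by
  classical
  set a : Equiv.Perm (Fin (4 * n + r)) := (α : Equiv.Perm (Fin (4 * n + r))) with ha
  have hαα : ∀ i, a (a i) = i := by
    intro i
    have h1 : α * α = 1 := by rw [← pow_two, ← hα, pow_orderOf_eq_one]
    exact congrArg (fun q : ↥(alternatingGroup (Fin (4 * n + r))) =>
      (q : Equiv.Perm (Fin (4 * n + r))) i) h1
  obtain ⟨f, hf, hker⟩ := Cfsg.Agent.Kondo.exists_hom (k := 2 * n) α hαα
    (by rw [hα4]; ring) (by omega) (by omega)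
  obtain ⟨e⟩ := hiso
  let F := f.comp e.toMonoidHom
  have hFs : Function.Surjective F := hf.comp e.surjective
  have hFk : Odd (Nat.card F.ker) := by
    refine hker.of_dvd_nat (dvd_of_eq ?_)
    exact Nat.card_congr (Equiv.subtypeEquiv e.toEquiv fun _ => Iff.rfl)
  have htt : t * t = 1 := by rw [← pow_two, ← ht, pow_orderOf_eq_one]
  set tH : ↥(Subgroup.centralizer ({t} : Set G)) :=
    ⟨t, Subgroup.mem_centralizer_singleton_iff.mpr rfl⟩ with htH
  have hFt : F tH = Cfsg.Agent.Kondo.SW.cc := by
    refine Cfsg.Agent.Kondo.eq_cc_of_center (fun w => ?_) fun h => ?_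
    · obtain ⟨h, rfl⟩ := hFs w
      exact (show Commute tH h from
        Subtype.ext (Subgroup.mem_centralizer_singleton_iff.mp h.2).symm).map F
    · have hord : orderOf tH = 2 := by rw [← ht, htH, Subgroup.orderOf_mk]
      have h2 : orderOf tH ∣ Nat.card F.ker := by
        rw [← Subgroup.orderOf_mk tH (MonoidHom.mem_ker.mpr h)]
        exact orderOf_dvd_natCard _
      rw [hord] at h2
      exact (Nat.not_even_iff_odd.mpr hFk) (even_iff_two_dvd.mpr h2)
  exact Cfsg.Agent.Kondo.Setup.card_classes hn
    ⟨t, htt, F, hFs, hFk, hFt, ⟨S, fun s hs =>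
      Subgroup.mem_centralizer_singleton_iff.mpr (htZ s hs)⟩, h2⟩

end Cfsg.Agent.S3191
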