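import Cfsg.Statements.S3195
import Mathlib
import Cfsg.Agent.Lib.Invol.BaerSuzuki

set_option autoImplicit false
open Cfsg

namespace Cfsg.Agent.S3195


theorem odd_pow_trick {G : Type*} [Group G] {h : G} (ho : Odd (orderOf h)) : ∃ k : ℕ, (h ^ 2) ^ k = h := by
  obtain ⟨k, hk⟩ := ho
  exact ⟨k + 1, by rw [← pow_mul, show 2 * (k + 1) = (2 * k + 1) + 1 by ring, pow_succ, ← hk, pow_orderOf_eq_one, one_mul]⟩

theorem eq_one_of_four {G : Type*} [Group G] {h : G} (ho : Odd (orderOf h)) {n : ℕ} (h4 : h ^ (2 ^ n) = 1) : h = 1 := by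
  obtain ⟨i, -, hi⟩ := (Nat.dvd_prime_pow Nat.prime_two).1 (orderOf_dvd_of_pow_eq_one h4)
  rcases i with _ | i
  · exact orderOf_eq_one_iff.1 (by rw [hi, pow_zero])
  · rw [hi, pow_succ] at ho; exact absurd ho (Nat.not_odd_iff_even.2 ⟨2 ^ i, by ring⟩)

variable {G : Type*} [Group G]

theorem conj_of_inverts {g r : G} (h : r * g * r⁻¹ = g⁻¹) : g * r * g⁻¹ = g ^ 2 * r := by
  have h1 : r * g⁻¹ * r⁻¹ = g := by
    calc r * g⁻¹ * r⁻¹ = (r * g * r⁻¹)⁻¹ := by group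
      _ = g := by rw [h, inv_inv]
  calc g * r * g⁻¹ = g * (r * g⁻¹ * r⁻¹) * r := by group
    _ = g ^ 2 * r := by rw [h1, pow_two]

theorem conj_pow_two (r g : G) : r * g ^ 2 * r⁻¹ = (r * g * r⁻¹) ^ 2 := conj_pow.symm


/-- Let A be a Klein four-subgroup of a finite group G. If every G-conjugate of every involution of A commutes with some involution of A (its centralizer meets A nontrivially), then A meets the largest normal 2-subgroup O₂(G) nontrivially. -/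
theorem result {G : Type*} [Group G] [Finite G]
    (A : Subgroup G) (hA : IsKleinFour ↥A)
    (h : ∀ a ∈ A, a ≠ 1 → ∀ g : G, A ⊓ Subgroup.centralizer ({g * a * g⁻¹} : Set G) ≠ ⊥) :
    A ⊓ Cfsg.pCore 2 G ≠ ⊥ := by
  classical
  by_contra hcon
  have hcomm : ∀ a ∈ A, ∀ b ∈ A, a * b = b * a := fun a ha b hb =>
    congrArg Subtype.val (mul_comm_of_exponent_two hA.exponent_two (⟨a, ha⟩ : ↥A) ⟨b, hb⟩)
  have hsq : ∀ a ∈ A, a * a = 1 := fun a ha => congrArg Subtype.val (hA.mul_self (⟨a, ha⟩ : ↥A))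
  have hinvs : ∀ a ∈ A, a ≠ 1 → ∃ h : G, h ≠ 1 ∧ Odd (orderOf h) ∧ a * h * a⁻¹ = h⁻¹ := by
    intro a ha ha1
    have := Fact.mk Nat.prime_two
    refine Cfsg.Lib.Invol.exists_inverted_odd (orderOf_eq_prime (by rw [pow_two, hsq a ha]) ha1) fun N hN hN2 haN => ?_
    exact ha1 (by
      have : a ∈ A ⊓ Cfsg.pCore 2 G := ⟨ha, (le_sSup ⟨hN, hN2⟩ : N ≤ Cfsg.pCore 2 G) haN⟩
      rwa [hcon, Subgroup.mem_bot] at this)
  have hyp : ∀ r ∈ A, r ≠ 1 → ∀ g : G, ∃ y ∈ A, y ≠ 1 ∧ y * (g * r * g⁻¹) * y⁻¹ = g * r * g⁻¹ := by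
    intro r hr hr1 g
    obtain ⟨y, hy, hy1⟩ := (Subgroup.bot_or_exists_ne_one _).resolve_left (h r hr hr1 g)
    exact ⟨y, hy.1, hy1, by rw [Subgroup.mem_centralizer_singleton_iff.1 hy.2, mul_inv_cancel_right]⟩
  -- an involution inverting `g` is centralized on `g ^ 2` by some involution of `A`
  have hyp' : ∀ r ∈ A, r ≠ 1 → ∀ g : G, r * g * r⁻¹ = g⁻¹ → ∃ y ∈ A, y ≠ 1 ∧ (y * g * y⁻¹) ^ 2 = g ^ 2 := by
    intro r hr hr1 g hg
    obtain ⟨y, hy, hy1, hyc⟩ := hyp r hr hr1 g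
    rw [conj_of_inverts hg] at hyc
    refine ⟨y, hy, hy1, ?_⟩
    rw [← conj_pow_two]
    calc y * g ^ 2 * y⁻¹ = y * (g ^ 2 * r) * y⁻¹ * (y * r⁻¹ * y⁻¹) := by group
      _ = g ^ 2 * r * (y * r⁻¹ * y⁻¹) := by rw [hyc]
      _ = g ^ 2 := by rw [hcomm y hy r⁻¹ (A.inv_mem hr), mul_inv_cancel_right, mul_inv_cancel_right]
  have cent : ∀ r ∈ A, r ≠ 1 → ∀ g : G, g ≠ 1 → Odd (orderOf g) → r * g * r⁻¹ = g⁻¹ →
      ∃ y ∈ A, y ≠ 1 ∧ y ≠ r ∧ y * g * y⁻¹ = g := by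
    intro r hr hr1 g hg1 hgo hg
    obtain ⟨y, hy, hy1, hy2⟩ := hyp' r hr hr1 g hg
    refine ⟨y, hy, hy1, fun e => hg1 (eq_one_of_four (n := 2) hgo ?_), ?_⟩
    · rw [e, hg, inv_pow, inv_eq_iff_mul_eq_one, ← pow_add] at hy2
      exact hy2
    · obtain ⟨k, hk⟩ := odd_pow_trick hgo
      calc y * g * y⁻¹ = y * (g ^ 2) ^ k * y⁻¹ := by rw [hk]
        _ = g := by rw [← conj_pow, conj_pow_two, hy2, hk]
  obtain ⟨a, ha, ha1⟩ : ∃ a ∈ A, a ≠ 1 := (Subgroup.bot_or_exists_ne_one A).resolve_left fun h0 => by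
    have := hA.card_four
    rw [h0, Subgroup.card_bot] at this
    omega
  obtain ⟨u, hu1, huo, hau⟩ := hinvs a ha ha1
  obtain ⟨b, hb, hb1, hba, hbu⟩ := cent a ha ha1 u hu1 huo hau
  obtain ⟨v, hv1, hvo, hbv⟩ := hinvs b hb hb1
  obtain ⟨x, hx, hx1, hxb, hxv⟩ := cent b hb hb1 v hv1 hvo hbv
  have hall : ∀ x ∈ A, x ≠ 1 → x ≠ b → ∀ z ∈ A, z = 1 ∨ z = x ∨ z = b ∨ z = x * b := by
    intro x hx hx1 hxb z hz
    have : Fintype ↥A := Fintype.ofFinite _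
    have hs : ({1, ⟨x, hx⟩, ⟨b, hb⟩, ⟨x, hx⟩ * ⟨b, hb⟩} : Finset ↥A) = Finset.univ := by
      apply Finset.eq_univ_of_card
      have hxy : x * b ≠ x := fun e => hb1 (mul_eq_left.1 e)
      have hxy2 : x * b ≠ b := fun e => hx1 (mul_eq_right.1 e)
      have hxy1 : x * b ≠ 1 := fun e => hxb ((eq_inv_of_mul_eq_one_left e).trans (inv_eq_of_mul_eq_one_left (hsq b hb)))
      rw [← Nat.card_eq_fintype_card, hA.card_four, Finset.card_insert_of_notMem, Finset.card_insert_of_notMem,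
        Finset.card_insert_of_notMem, Finset.card_singleton] <;>
        simp [Subtype.ext_iff, hx1.symm, hb1.symm, hxy1.symm, hxb, hxy.symm, hxy2.symm]
    have := hs ▸ Finset.mem_univ (⟨z, hz⟩ : ↥A)
    simpa [Subtype.ext_iff] using this
  have hxu : x * u * x⁻¹ = u⁻¹ := by
    rcases hall x hx hx1 hxb a ha with e | e | e | e
    · exact absurd e ha1
    · exact e ▸ hau
    · exact absurd e.symm hba
    · have : x = a * b := by rw [e, mul_assoc, hsq b hb, mul_one]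
      rw [this]
      calc a * b * u * (a * b)⁻¹ = a * (b * u * b⁻¹) * a⁻¹ := by group
        _ = u⁻¹ := by rw [hbu, hau]
  have inv4 : ∀ {g : G}, Odd (orderOf g) → g ≠ 1 → g ^ 2 ≠ g⁻¹ ^ 2 := fun {g} ho h1 e => h1 (eq_one_of_four (n := 2) ho (by
    rw [inv_pow, eq_inv_iff_mul_eq_one, ← pow_add] at e; exact e))
  have huv : Commute u v := by
    obtain ⟨y, hy, hy1, hyc⟩ := hyp b hb hb1 (u * v)
    have hbb : u * v * b * (u * v)⁻¹ = u * v ^ 2 * u⁻¹ * b := by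
      calc u * v * b * (u * v)⁻¹ = u * (v * b * v⁻¹) * u⁻¹ := by group
        _ = u * v ^ 2 * (b * u⁻¹ * b⁻¹) * b := by rw [conj_of_inverts hbv]; group
        _ = u * v ^ 2 * u⁻¹ * b := by rw [show b * u⁻¹ * b⁻¹ = (b * u * b⁻¹)⁻¹ by group, hbu]
    rw [hbb] at hyc
    have hy' : y * (u * v ^ 2 * u⁻¹) * y⁻¹ = u * v ^ 2 * u⁻¹ := by
      calc y * (u * v ^ 2 * u⁻¹) * y⁻¹ = y * (u * v ^ 2 * u⁻¹ * b) * y⁻¹ * (y * b⁻¹ * y⁻¹) := by group
        _ = u * v ^ 2 * u⁻¹ * b * (y * b⁻¹ * y⁻¹) := by rw [hyc]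
        _ = u * v ^ 2 * u⁻¹ := by
          rw [hcomm y hy b⁻¹ (A.inv_mem hb), mul_inv_cancel_right, mul_inv_cancel_right]
    rcases hall x hx hx1 hxb y hy with e | e | e | e
    · exact absurd e hy1
    · rw [e, show x * (u * v ^ 2 * u⁻¹) * x⁻¹ = (x * u * x⁻¹) * (x * v * x⁻¹) ^ 2 * (x * u * x⁻¹)⁻¹ by simp only [pow_two]; group,
        hxu, hxv, inv_inv] at hy'
      have h2 : Commute (u ^ 2) (v ^ 2) := by
        show u ^ 2 * v ^ 2 = v ^ 2 * u ^ 2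
        calc u ^ 2 * v ^ 2 = u * (u * v ^ 2 * u⁻¹) * u := by rw [pow_two u]; group
          _ = u * (u⁻¹ * v ^ 2 * u) * u := by rw [hy']
          _ = _ := by rw [pow_two u]; group
      obtain ⟨i, hi⟩ := odd_pow_trick huo
      obtain ⟨j, hj⟩ := odd_pow_trick hvo
      have := h2.pow_pow i j
      rwa [hi, hj] at this
    · rw [e, show b * (u * v ^ 2 * u⁻¹) * b⁻¹ = (b * u * b⁻¹) * (b * v * b⁻¹) ^ 2 * (b * u * b⁻¹)⁻¹ by simp only [pow_two]; group,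
        hbu, hbv, mul_left_inj, mul_right_inj] at hy'
      exact absurd hy'.symm (inv4 hvo hv1)
    · have h1 : x * b * u * (x * b)⁻¹ = u⁻¹ := by
        calc x * b * u * (x * b)⁻¹ = x * (b * u * b⁻¹) * x⁻¹ := by group
          _ = u⁻¹ := by rw [hbu, hxu]
      have h2 : x * b * v * (x * b)⁻¹ = v⁻¹ := by
        calc x * b * v * (x * b)⁻¹ = x * (b * v * b⁻¹) * x⁻¹ := by group
          _ = (x * v * x⁻¹)⁻¹ := by rw [hbv]; group
          _ = v⁻¹ := by rw [hxv]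
      rw [e, show x * b * (u * v ^ 2 * u⁻¹) * (x * b)⁻¹ =
          (x * b * u * (x * b)⁻¹) * (x * b * v * (x * b)⁻¹) ^ 2 * (x * b * u * (x * b)⁻¹)⁻¹ by simp only [pow_two]; group, h1, h2, inv_inv] at hy'
      have h3 : u ^ 2 * v ^ 2 * (u ^ 2)⁻¹ = (v ^ 2)⁻¹ := by
        calc u ^ 2 * v ^ 2 * (u ^ 2)⁻¹ = u * (u * v ^ 2 * u⁻¹) * u⁻¹ := by rw [pow_two u]; group
          _ = u * (u⁻¹ * v⁻¹ ^ 2 * u) * u⁻¹ := by rw [hy']
          _ = _ := by group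
      have h4 : ∀ n : ℕ, ((u ^ 2) ^ 2) ^ n * v ^ 2 * (((u ^ 2) ^ 2) ^ n)⁻¹ = v ^ 2 := by
        intro n
        induction n with
        | zero => simp
        | succ n ih =>
          calc ((u ^ 2) ^ 2) ^ (n + 1) * v ^ 2 * (((u ^ 2) ^ 2) ^ (n + 1))⁻¹
              = ((u ^ 2) ^ 2) ^ n * (u ^ 2 * (u ^ 2 * v ^ 2 * (u ^ 2)⁻¹) * (u ^ 2)⁻¹) * (((u ^ 2) ^ 2) ^ n)⁻¹ := by
                rw [pow_succ, pow_two (u ^ 2)]; group
            _ = ((u ^ 2) ^ 2) ^ n * (u ^ 2 * v ^ 2 * (u ^ 2)⁻¹)⁻¹ * (((u ^ 2) ^ 2) ^ n)⁻¹ := by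
                conv_lhs => rw [h3]
                group
            _ = v ^ 2 := by rw [h3, inv_inv, ih]
      have ho2 : Odd (orderOf (u ^ 2)) := by rw [Nat.Coprime.orderOf_pow huo.coprime_two_right]; exact huo
      obtain ⟨n, hn⟩ := odd_pow_trick ho2
      have h5 := h4 n
      rw [hn, h3, ← inv_pow] at h5
      exact absurd h5.symm (inv4 hvo hv1)
  -- the final contradiction
  have hr : x * b ∈ A := A.mul_mem hx hb
  have hr1 : x * b ≠ 1 := fun e => hxb ((eq_inv_of_mul_eq_one_left e).trans (inv_eq_of_mul_eq_one_left (hsq b hb)))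
  have hbg : b * (u * v) * b⁻¹ = u * v⁻¹ := by rw [← conj_mul, hbu, hbv]
  have hxg : x * (u * v) * x⁻¹ = u⁻¹ * v := by rw [← conj_mul, hxu, hxv]
  have hrg : x * b * (u * v) * (x * b)⁻¹ = (u * v)⁻¹ := by
    calc x * b * (u * v) * (x * b)⁻¹ = x * (b * (u * v) * b⁻¹) * x⁻¹ := by group
      _ = (x * u * x⁻¹) * (x * v * x⁻¹)⁻¹ := by rw [hbg]; group
      _ = (u * v)⁻¹ := by rw [hxu, hxv, mul_inv_rev]; exact (huv.inv_inv).eq
  obtain ⟨y, hy, hy1, hy2⟩ := hyp' (x * b) hr hr1 (u * v) hrg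
  rw [huv.mul_pow] at hy2
  rcases hall x hx hx1 hxb y hy with e | e | e | e
  · exact hy1 e
  · rw [e, hxg, (huv.inv_left).mul_pow, mul_left_inj] at hy2
    exact inv4 huo hu1 hy2.symm
  · rw [e, hbg, (huv.inv_right).mul_pow, mul_right_inj] at hy2
    exact inv4 hvo hv1 hy2.symm
  · rw [e, hrg, mul_inv_rev, (huv.inv_inv).symm.mul_pow] at hy2
    have h4 : u ^ (2 ^ 2) * v ^ (2 ^ 2) = 1 := by
      have h5 : u ^ 2 * v ^ 2 * (u ^ 2 * v ^ 2) = 1 := by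
        conv_lhs => arg 1; rw [← hy2]
        rw [inv_pow, inv_pow]; group
      rw [← huv.mul_pow, ← pow_add] at h5
      rw [← huv.mul_pow]
      exact h5
    have h5 : u ^ (2 ^ 2) * (v ^ (2 ^ 2))⁻¹ = 1 := by
      have h6 := congrArg (fun z => b * z * b⁻¹) h4
      simp only [mul_one, mul_inv_cancel] at h6
      rw [← conj_mul, ← conj_pow, ← conj_pow, hbu, hbv, inv_pow] at h6
      exact h6
    refine hv1 (eq_one_of_four (n := 3) hvo ?_)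
    have h7 : u ^ (2 ^ 2) = v ^ (2 ^ 2) := mul_inv_eq_one.1 h5
    rw [h7, ← pow_add] at h4
    exact h4

end Cfsg.Agent.S3195
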