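import Cfsg.Statements.S3196
import Mathlib

set_option autoImplicit false
open Cfsg

namespace Cfsg.Agent.S3196


variable {G : Type*} [Group G] [Finite G]

abbrev Com (X Y : Subgroup G) : Prop := ∀ x ∈ X, ∀ y ∈ Y, x * y = y * x

theorem Com.symm {X Y : Subgroup G} (h : Com X Y) : Com Y X := fun a ha b hb => (h b hb a ha).symm

theorem com_iff {X Y : Subgroup G} : Com X Y ↔ X ≤ Subgroup.centralizer (Y : Set G) := by
  simp only [Com, SetLike.le_def, Subgroup.mem_centralizer_iff, SetLike.mem_coe]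
  exact ⟨fun h x hx y hy => (h x hx y hy).symm, fun h x hx y hy => (h hx y hy).symm⟩

theorem com_sup {X Y Z : Subgroup G} (hX : Com X Z) (hY : Com Y Z) {W : Subgroup G} (hW : W ≤ X ⊔ Y) : Com W Z :=
  com_iff.2 (hW.trans (sup_le (com_iff.1 hX) (com_iff.1 hY)))

structure Sys (p : ℕ) (K : Set (Subgroup G)) : Prop where
  prime : p.Prime
  card : ∀ X ∈ K, Nat.card ↥X = p
  conj : ∀ X ∈ K, ∀ g : G, X.map (MulAut.conj g).toMonoidHom ∈ K
  ex : ∃ X ∈ K, ∃ Y ∈ K, X ≠ Y ∧ Com X Y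
  closed : ∀ X ∈ K, ∀ Y ∈ K, X ≠ Y → Com X Y → ∀ Z : Subgroup G, Z ≤ X ⊔ Y → Nat.card ↥Z = p → Z ∈ K
  meets : ∀ X ∈ K, ∀ Y ∈ K, X ≠ Y → Com X Y → ∀ W ∈ K, (X ⊔ Y) ⊓ Subgroup.centralizer (W : Set G) ≠ ⊥

variable {p : ℕ} {K : Set (Subgroup G)}

theorem Sys.eq_zpowers (S : Sys p K) {X : Subgroup G} (hX : X ∈ K) {x : G} (hx : x ∈ X) (hx1 : x ≠ 1) :
    X = Subgroup.zpowers x := by
  refine (Subgroup.eq_of_le_of_card_ge (Subgroup.zpowers_le.2 hx) ?_).symm
  have hd := Subgroup.card_dvd_of_le (Subgroup.zpowers_le.2 hx)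
  rw [S.card X hX] at hd ⊢
  rcases (Nat.dvd_prime S.prime).1 hd with h | h
  · exact absurd (Subgroup.zpowers_eq_bot.1 (Subgroup.card_eq_one.1 h)) hx1
  · exact h.ge

theorem Sys.ne_bot (S : Sys p K) {X : Subgroup G} (hX : X ∈ K) : ∃ x ∈ X, x ≠ 1 := by
  rcases Subgroup.bot_or_exists_ne_one X with h | h
  · have h1 := S.card X hX
    rw [h, Subgroup.card_bot] at h1
    exact absurd h1 S.prime.one_lt.ne
  · exact h

theorem Sys.com_self (S : Sys p K) {X : Subgroup G} (hX : X ∈ K) : Com X X := by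
  obtain ⟨x, hx, hx1⟩ := S.ne_bot hX
  rw [S.eq_zpowers hX hx hx1]
  rintro a ⟨i, rfl⟩ b ⟨j, rfl⟩
  exact (Commute.refl x).zpow_zpow i j

theorem Sys.eq_of_le (S : Sys p K) {X Y : Subgroup G} (hX : X ∈ K) (hY : Y ∈ K) (h : X ≤ Y) : X = Y :=
  Subgroup.eq_of_le_of_card_ge h (by rw [S.card X hX, S.card Y hY])

theorem Sys.pow_p (S : Sys p K) {X : Subgroup G} (hX : X ∈ K) {x : G} (hx : x ∈ X) : x ^ p = 1 := by
  have h := pow_card_eq_one' (x := (⟨x, hx⟩ : ↥X))
  rw [S.card X hX] at h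
  exact congrArg Subtype.val h

theorem mem_sup_com {X Y : Subgroup G} (h : Com X Y) {u : G} (hu : u ∈ X ⊔ Y) : ∃ a ∈ X, ∃ b ∈ Y, u = a * b := by
  have hle : X ≤ Subgroup.normalizer (Y : Set G) :=
    (com_iff.1 h).trans (Subgroup.centralizer_le_normalizer _)
  rw [← SetLike.mem_coe, Subgroup.coe_mul_of_left_le_normalizer_right X Y hle] at hu
  obtain ⟨a, ha, b, hb, rfl⟩ := hu
  exact ⟨a, ha, b, hb, rfl⟩

theorem Sys.exchange (S : Sys p K) {X Y P : Subgroup G} (hY : Y ∈ K) (hP : P ∈ K) (hX : X ∈ K)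
    (hc : Com X Y) (hle : P ≤ X ⊔ Y) (hne : P ≠ X) : Y ≤ X ⊔ P := by
  obtain ⟨u, hu, hu1⟩ := S.ne_bot hP
  obtain ⟨a, ha, b, hb, rfl⟩ := mem_sup_com hc (hle hu)
  have hb1 : b ≠ 1 := by
    rintro rfl
    rw [mul_one] at hu hu1
    exact hne ((S.eq_zpowers hP hu hu1).trans (S.eq_zpowers hX ha hu1).symm)
  rw [S.eq_zpowers hY hb hb1, Subgroup.zpowers_le]
  have h := mul_mem (Subgroup.mem_sup_left (T := P) (X.inv_mem ha)) (Subgroup.mem_sup_right (S := X) hu)
  rwa [inv_mul_cancel_left] at h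

/-- A point commuting with two points of a line commutes with the whole line. -/
theorem Sys.com_line (S : Sys p K) {X Y A B W U : Subgroup G} (hX : X ∈ K) (hY : Y ∈ K) (hA : A ∈ K) (hB : B ∈ K)
    (hxy : Com X Y) (hAle : A ≤ X ⊔ Y) (hBle : B ≤ X ⊔ Y) (hne : A ≠ B) (h1 : Com A W) (h2 : Com B W)
    (hU : U ≤ X ⊔ Y) : Com U W := by
  have key : ∀ A B : Subgroup G, A ∈ K → B ∈ K → A ≤ X ⊔ Y → B ≤ X ⊔ Y → A ≠ B → A ≠ X → X ⊔ Y ≤ A ⊔ B := by
    intro A B hA hB hAle hBle hne hAX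
    have hY' := S.exchange hY hA hX hxy hAle hAX
    have hXY : X ⊔ Y ≤ A ⊔ X := sup_le le_sup_right (hY'.trans (sup_comm X A).le)
    have hxA : Com A X := com_sup (S.com_self hX) hxy.symm hAle
    exact hXY.trans (sup_le le_sup_left (S.exchange hX hB hA hxA (hBle.trans hXY) (Ne.symm hne)))
  refine com_sup h1 h2 (hU.trans ?_)
  by_cases hAX : A = X
  · exact (key B A hB hA hBle hAle hne.symm (fun h => hne (hAX.trans h.symm))).trans (sup_comm B A).le
  · exact key A B hA hB hAle hBle hne hAX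

theorem Sys.point (S : Sys p K) {X Y W : Subgroup G} (hX : X ∈ K) (hY : Y ∈ K) (hne : X ≠ Y) (hxy : Com X Y)
    (hW : W ∈ K) : ∃ Z ∈ K, Z ≤ X ⊔ Y ∧ Com Z W := by
  rcases Subgroup.bot_or_exists_ne_one ((X ⊔ Y) ⊓ Subgroup.centralizer (W : Set G)) with h | ⟨u, hu, hu1⟩
  · exact absurd h (S.meets X hX Y hY hne hxy W hW)
  · have hle : Subgroup.zpowers u ≤ X ⊔ Y := Subgroup.zpowers_le.2 hu.1
    obtain ⟨a, ha, b, hb, hab⟩ := mem_sup_com hxy hu.1
    have hord : orderOf u = p := by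
      have := Fact.mk S.prime
      refine orderOf_eq_prime ?_ hu1
      rw [hab, Commute.mul_pow (hxy a ha b hb), S.pow_p hX ha, S.pow_p hY hb, one_mul]
    refine ⟨Subgroup.zpowers u, S.closed X hX Y hY hne hxy _ hle (by rw [Nat.card_zpowers, hord]), hle, ?_⟩
    exact com_iff.2 (Subgroup.zpowers_le.2 hu.2)

abbrev Pts (K : Set (Subgroup G)) (X Y : Subgroup G) : Set (Subgroup G) := {Z | Z ∈ K ∧ Z ≤ X ⊔ Y}

theorem Sys.ncard_pts (S : Sys p K) {X Y : Subgroup G} (hX : X ∈ K) (hY : Y ∈ K) (hne : X ≠ Y) (hxy : Com X Y) :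
    (Pts K X Y).ncard = p + 1 := by
  have := Fact.mk S.prime
  obtain ⟨x, hx, hx1⟩ := S.ne_bot hX
  obtain ⟨y, hy, hy1⟩ := S.ne_bot hY
  have hXe := S.eq_zpowers hX hx hx1
  have hox : orderOf x = p := orderOf_eq_prime (S.pow_p hX hx) hx1
  have hoy : orderOf y = p := orderOf_eq_prime (S.pow_p hY hy) hy1
  have hyX : y ∉ X := fun h => hne ((S.eq_zpowers hX h hy1).trans (S.eq_zpowers hY hy hy1).symm)
  have hne1 : ∀ i : ℕ, x ^ i * y ≠ 1 := fun i h =>
    hyX (by rw [eq_inv_of_mul_eq_one_right h]; exact X.inv_mem (X.pow_mem hx i))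
  have hmem : ∀ i : ℕ, Subgroup.zpowers (x ^ i * y) ∈ Pts K X Y := by
    intro i
    have hle : Subgroup.zpowers (x ^ i * y) ≤ X ⊔ Y :=
      Subgroup.zpowers_le.2 (mul_mem (Subgroup.mem_sup_left (X.pow_mem hx i)) (Subgroup.mem_sup_right hy))
    refine ⟨S.closed X hX Y hY hne hxy _ hle ?_, hle⟩
    rw [Nat.card_zpowers]
    refine orderOf_eq_prime ?_ (hne1 i)
    rw [Commute.mul_pow (hxy _ (X.pow_mem hx i) y hy), S.pow_p hY hy, S.pow_p hX (X.pow_mem hx i), one_mul]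
  let f : Option (Fin p) → Subgroup G := fun o => o.elim X fun i => Subgroup.zpowers (x ^ (i : ℕ) * y)
  have hf : Set.range f = Pts K X Y := by
    refine Set.Subset.antisymm ?_ ?_
    · rintro _ ⟨o, rfl⟩
      rcases o with _ | i
      · exact ⟨hX, le_sup_left⟩
      · exact hmem i
    · rintro P ⟨hP, hPle⟩
      by_cases hPX : P = X
      · exact ⟨none, hPX.symm⟩
      obtain ⟨u, hu, hu1⟩ := S.ne_bot hP
      obtain ⟨a, ha, b, hb, rfl⟩ := mem_sup_com hxy (hPle hu)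
      have hb1 : b ≠ 1 := by
        rintro rfl
        rw [mul_one] at hu hu1
        exact hPX ((S.eq_zpowers hP hu hu1).trans (S.eq_zpowers hX ha hu1).symm)
      have hy' : y ∈ Subgroup.zpowers b := S.eq_zpowers hY hb hb1 ▸ hy
      obtain ⟨k, hk⟩ := hy'
      have hk' : b ^ k = y := hk
      have hak : a ^ k ∈ Subgroup.zpowers x := hXe ▸ X.zpow_mem ha k
      rw [← mem_powers_iff_mem_zpowers, Submonoid.mem_powers_iff] at hak
      obtain ⟨n, hn⟩ := hak
      refine ⟨some ⟨n % p, Nat.mod_lt _ S.prime.pos⟩, S.eq_of_le (hmem _).1 hP (Subgroup.zpowers_le.2 ?_)⟩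
      show x ^ (n % p) * y ∈ P
      have h := P.zpow_mem hu k
      rwa [Commute.mul_zpow (hxy a ha b hb), ← hn, hk', ← pow_mod_orderOf x n, hox] at h
  have hinj : Function.Injective f := by
    rintro (_ | i) (_ | j) h
    · rfl
    · have h' : x ^ (j : ℕ) * y ∈ X := by
        rw [show X = Subgroup.zpowers (x ^ (j : ℕ) * y) from h]; exact Subgroup.mem_zpowers _
      exact absurd (by simpa using X.mul_mem (X.inv_mem (X.pow_mem hx j)) h') hyX
    · have h' : x ^ (i : ℕ) * y ∈ X := by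
        rw [← show Subgroup.zpowers (x ^ (i : ℕ) * y) = X from h]; exact Subgroup.mem_zpowers _
      exact absurd (by simpa using X.mul_mem (X.inv_mem (X.pow_mem hx i)) h') hyX
    · by_contra hij
      have hij' : x ^ (i : ℕ) ≠ x ^ (j : ℕ) := fun h' => hij (by
        rw [pow_inj_mod, hox, Nat.mod_eq_of_lt i.2, Nat.mod_eq_of_lt j.2] at h'
        rw [Fin.ext h'])
      have h1 : x ^ (i : ℕ) * y ∈ Subgroup.zpowers (x ^ (j : ℕ) * y) :=
        (show Subgroup.zpowers (x ^ (i : ℕ) * y) = Subgroup.zpowers (x ^ (j : ℕ) * y) from h) ▸ Subgroup.mem_zpowers _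
      have h2 : x ^ (i : ℕ) * (x ^ (j : ℕ))⁻¹ ∈ Subgroup.zpowers (x ^ (j : ℕ) * y) := by
        have := mul_mem h1 (inv_mem (Subgroup.mem_zpowers (x ^ (j : ℕ) * y)))
        rwa [mul_inv_rev, mul_assoc, mul_inv_cancel_left] at this
      have h3 := S.eq_zpowers (hmem j).1 h2 (fun h' => hij' (mul_inv_eq_one.1 h'))
      have h4 : x ^ (j : ℕ) * y ∈ X := by
        have : Subgroup.zpowers (x ^ (j : ℕ) * y) ≤ X := by
          rw [h3, Subgroup.zpowers_le]; exact X.mul_mem (X.pow_mem hx _) (X.inv_mem (X.pow_mem hx _))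
        exact this (Subgroup.mem_zpowers _)
      exact hyX (by simpa using X.mul_mem (X.inv_mem (X.pow_mem hx j)) h4)
  rw [← hf, Set.ncard_range_of_injective hinj, Finite.card_option, Nat.card_fin]

/-- No point is universal. -/
abbrev NonDeg (K : Set (Subgroup G)) : Prop := ∀ V ∈ K, ∃ W ∈ K, ¬ Com V W

/-- In the nondegenerate case the perp of a point is not contained in that of another. -/
theorem Sys.separate (S : Sys p K) (hN : NonDeg K) {A B : Subgroup G} (hA : A ∈ K) (hB : B ∈ K) (hne : A ≠ B)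
    (hab : Com A B) : ∃ U ∈ K, Com U A ∧ ¬ Com U B := by
  by_contra hno
  push Not at hno
  obtain ⟨X, hX, hXB⟩ := hN B hB
  have hXA : ¬ Com X A := fun h => hXB (hno X hX h).symm
  obtain ⟨Q, hQ, hQle, hQX⟩ := S.point hA hB hne hab hX
  obtain ⟨T, hT, hTQ⟩ := hN Q hQ
  have hperp : ∀ U ∈ K, Com U A → ∀ N, N ≤ A ⊔ B → Com N U := fun U hU h N hNle =>
    com_sup h.symm (hno U hU h).symm hNle
  have hTA : ¬ Com T A := fun h => hTQ (hperp T hT h Q hQle)
  obtain ⟨P, hP, hPle, hPT⟩ := S.point hA hB hne hab hT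
  have hPT' : P ≠ T := by
    rintro rfl
    exact hTA (com_sup (S.com_self hA) hab.symm hPle)
  obtain ⟨R, hR, hRle, hRX⟩ := S.point hP hT hPT' hPT hX
  have hPQ : P ≠ Q := fun h => hTQ (h ▸ hPT)
  have huniq : ∀ (U N₁ N₂ : Subgroup G), U ∈ K → N₁ ∈ K → N₂ ∈ K → N₁ ≤ A ⊔ B → N₂ ≤ A ⊔ B → N₁ ≠ N₂ →
      Com N₁ U → Com N₂ U → Com A U := fun U N₁ N₂ _ h1 h2 h3 h4 h5 h6 h7 =>
    S.com_line hA hB h1 h2 hab h3 h4 h5 h6 h7 le_sup_left
  have hPX : ¬ Com P X := fun h => hXA (huniq X P Q hX hP hQ hPle hQle hPQ h hQX).symm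
  have hRP : R ≠ P := fun h => hPX (h ▸ hRX)
  have hPA : Com P A := com_sup (S.com_self hA) hab.symm hPle
  have hRA : ¬ Com R A := fun h => hTA (S.com_line hP hT hR hP hPT hRle le_sup_left hRP h hPA le_sup_right)
  have hRPc : Com P R := (com_sup (S.com_self hP) hPT.symm hRle).symm
  have hXR : X ≠ R := by
    rintro rfl
    exact hPX hRPc
  classical
  let f : Pts K X R → Pts K A B := fun U =>
    ⟨(S.point hA hB hne hab U.2.1).choose, (S.point hA hB hne hab U.2.1).choose_spec.1,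
      (S.point hA hB hne hab U.2.1).choose_spec.2.1⟩
  have hfc : ∀ U : Pts K X R, Com (f U).1 U.1 := fun U => (S.point hA hB hne hab U.2.1).choose_spec.2.2
  have hinj : Function.Injective f := by
    intro U V h
    by_contra hUV
    have hUV' : U.1 ≠ V.1 := fun h' => hUV (Subtype.ext h')
    have hV : Com (f U).1 V.1 := h.symm ▸ hfc V
    have hl : ∀ W : Subgroup G, W ≤ X ⊔ R → Com W (f U).1 := fun W hW =>
      S.com_line hX hR U.2.1 V.2.1 hRX.symm U.2.2 V.2.2 hUV' (hfc U).symm hV.symm hW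
    by_cases hfQ : (f U).1 = Q
    · exact hRA (huniq R P Q hR hP hQ hPle hQle hPQ hRPc (hfQ ▸ (hl R le_sup_right).symm)).symm
    · exact hXA (huniq X _ Q hX (f U).2.1 hQ (f U).2.2 hQle hfQ (hl X le_sup_left).symm hQX).symm
  have hbij : Function.Surjective f := by
    refine ((Nat.bijective_iff_injective_and_card f).2 ⟨hinj, ?_⟩).2
    rw [Nat.card_coe_set_eq, Nat.card_coe_set_eq, S.ncard_pts hX hR hXR hRX.symm, S.ncard_pts hA hB hne hab]
  obtain ⟨U, hU⟩ := hbij ⟨A, hA, le_sup_left⟩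
  have hUA : Com U.1 A := by
    have := hfc U
    rw [hU] at this
    exact this.symm
  have hUQ : Com Q U.1 := hperp U.1 U.2.1 hUA Q hQle
  have hUX : U.1 ≠ X := fun h => hXA (h ▸ hUA)
  have hUR : U.1 ≠ R := fun h => hRA (h ▸ hUA)
  have hQR : Com R Q := S.com_line hX hR U.2.1 hX hRX.symm U.2.2 le_sup_left hUX hUQ.symm hQX.symm le_sup_right
  exact hRA (huniq R P Q hR hP hQ hPle hQle hPQ hRPc hQR.symm).symm

theorem map_com {X Y : Subgroup G} (h : Com X Y) (g : G) :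
    Com (X.map (MulAut.conj g).toMonoidHom) (Y.map (MulAut.conj g).toMonoidHom) := by
  rintro _ ⟨a, ha, rfl⟩ _ ⟨b, hb, rfl⟩
  rw [← map_mul, ← map_mul, h a ha b hb]

theorem map_fix {X : Subgroup G} {g : G} (h : ∀ u ∈ X, u * g = g * u) : X.map (MulAut.conj g).toMonoidHom = X := by
  have hg : ∀ u ∈ X, (MulAut.conj g).toMonoidHom u = u := fun u hu => by
    show g * u * g⁻¹ = u
    rw [← h u hu, mul_inv_cancel_right]
  ext u
  exact ⟨by rintro ⟨v, hv, rfl⟩; rwa [hg v hv], fun hu => ⟨u, hu, hg u hu⟩⟩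

theorem map_mul_conj (X : Subgroup G) (g h : G) :
    X.map (MulAut.conj (g * h)).toMonoidHom = (X.map (MulAut.conj h).toMonoidHom).map (MulAut.conj g).toMonoidHom := by
  rw [Subgroup.map_map]
  congr 1
  ext u
  simp [mul_assoc]

/-- A cyclic group of order p normalized by an element of order p is centralized by it. -/
theorem Sys.com_of_fix (S : Sys p K) {X W : Subgroup G} (hX : X ∈ K) (hW : W ∈ K) {x : G} (hx : x ∈ X) (hx1 : x ≠ 1)
    (hfix : W.map (MulAut.conj x).toMonoidHom = W) : Com X W := by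
  obtain ⟨w, hw, hw1⟩ := S.ne_bot hW
  have h1 : x * w * x⁻¹ ∈ Subgroup.zpowers w := S.eq_zpowers hW hw hw1 ▸ (hfix ▸ ⟨w, hw, rfl⟩ : x * w * x⁻¹ ∈ W)
  rw [← mem_powers_iff_mem_zpowers, Submonoid.mem_powers_iff] at h1
  obtain ⟨m, hm⟩ := h1
  have hit : ∀ n : ℕ, x ^ n * w * (x ^ n)⁻¹ = w ^ (m ^ n) := by
    intro n
    induction n with
    | zero => simp
    | succ n ih =>
      rw [pow_succ', mul_inv_rev, show x * x ^ n * w * ((x ^ n)⁻¹ * x⁻¹) = MulAut.conj x (x ^ n * w * (x ^ n)⁻¹) by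
        simp [mul_assoc], ih, map_pow, MulAut.conj_apply, ← hm, ← pow_mul, ← pow_succ']
  have hp' := hit p
  rw [S.pow_p hX hx, one_mul, inv_one, mul_one] at hp'
  have := Fact.mk S.prime
  have how : orderOf w = p := orderOf_eq_prime (S.pow_p hW hw) hw1
  have hmm : w ^ m = w := by
    have e1 : w ^ 1 = w ^ (m ^ p) := by rw [pow_one]; exact hp'
    rw [pow_inj_mod, how] at e1
    have e2 : m % p = 1 % p := by
      have e3 : ((m ^ p : ℕ) : ZMod p) = (m : ZMod p) := by push_cast; exact ZMod.pow_card _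
      have e4 : ((1 : ℕ) : ZMod p) = ((m ^ p : ℕ) : ZMod p) := (ZMod.natCast_eq_natCast_iff' _ _ _).2 e1
      exact (ZMod.natCast_eq_natCast_iff' _ _ _).1 (e3.symm.trans e4.symm)
    conv_rhs => rw [← pow_one w]
    rw [pow_inj_mod, how, e2]
  rw [hmm] at hm
  have hcomm : Commute x w := by
    have := congrArg (· * x) hm
    simp only [inv_mul_cancel_right] at this
    exact this.symm
  rw [S.eq_zpowers hX hx hx1, S.eq_zpowers hW hw hw1]
  rintro _ ⟨i, rfl⟩ _ ⟨j, rfl⟩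
  exact hcomm.zpow_zpow i j

theorem Sys.universal (S : Sys p K) : ∃ V ∈ K, ∀ W ∈ K, Com V W := by
  classical
  by_contra hno
  have hN : NonDeg K := fun V hV => by
    by_contra h
    push Not at h
    exact hno ⟨V, hV, h⟩
  obtain ⟨A0, hA0, B0, hB0, hne0, hc0⟩ := S.ex
  obtain ⟨W, hW, hAW⟩ := hN A0 hA0
  obtain ⟨Z0, hZ0, hZ0le, hZ0W⟩ := S.point hA0 hB0 hne0 hc0 hW
  have hZA : Z0 ≠ A0 := fun h => hAW (h ▸ hZ0W)
  have hA0Z : Com A0 Z0 := (com_sup (S.com_self hA0) hc0.symm hZ0le).symm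
  have hZW : Z0 ≠ W := fun h => hAW (h ▸ hA0Z)
  -- a third point on the line through `A0` and `Z0`
  obtain ⟨x, hx, hx1⟩ := S.ne_bot hA0
  obtain ⟨z, hz, hz1⟩ := S.ne_bot hZ0
  set y := x⁻¹ * z with hy
  have hxz : x * z = z * x := hA0Z x hx z hz
  have hyle : Subgroup.zpowers y ≤ A0 ⊔ Z0 :=
    Subgroup.zpowers_le.2 (mul_mem (Subgroup.mem_sup_left (inv_mem hx)) (Subgroup.mem_sup_right hz))
  have hy1 : y ≠ 1 := fun h => by
    rw [hy, inv_mul_eq_one] at h
    exact hZA ((S.eq_zpowers hZ0 hz hz1).trans (h ▸ (S.eq_zpowers hA0 hx hx1).symm))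
  have hYK : Subgroup.zpowers y ∈ K := by
    refine S.closed A0 hA0 Z0 hZ0 hZA.symm hA0Z _ hyle ?_
    have := Fact.mk S.prime
    rw [Nat.card_zpowers]
    refine orderOf_eq_prime ?_ hy1
    rw [hy, Commute.mul_pow (hA0Z _ (inv_mem hx) z hz), inv_pow, S.pow_p hA0 hx, S.pow_p hZ0 hz, inv_one, one_mul]
  set Y := Subgroup.zpowers y with hY
  have hym : y ∈ Y := Subgroup.mem_zpowers y
  have hYA : Y ≠ A0 := fun h => by
    have h1 : y ∈ A0 := h ▸ hym
    have h2 := A0.mul_mem hx h1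
    rw [hy, mul_inv_cancel_left] at h2
    exact hZA ((S.eq_zpowers hZ0 hz hz1).trans (S.eq_zpowers hA0 h2 hz1).symm)
  have hYZ : Y ≠ Z0 := fun h => by
    have h1 : y ∈ Z0 := h ▸ hym
    have h2 : x⁻¹ ∈ Z0 := by
      have := Z0.mul_mem h1 (Z0.inv_mem hz)
      rwa [hy, mul_inv_cancel_right] at this
    exact hZA ((S.eq_zpowers hZ0 (inv_mem_iff.1 h2) hx1).trans (S.eq_zpowers hA0 hx hx1).symm)
  have hYZc : Com Y Z0 := com_sup hA0Z (S.com_self hZ0) hyle
  have hYW : ¬ Com Y W := fun h => hAW (S.com_line hA0 hZ0 hYK hZ0 hA0Z hyle le_sup_right hYZ h hZ0W le_sup_left)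
  -- a point commuting with `W` and `Y` but not with `Z0`
  obtain ⟨U, hU, hUW, hUY, hUZ⟩ : ∃ U ∈ K, Com U W ∧ Com U Y ∧ ¬ Com U Z0 := by
    obtain ⟨T, hT, hTZ⟩ := hN Z0 hZ0
    obtain ⟨P, hP, hPle, hPT⟩ := S.point hW hZ0 hZW.symm hZ0W.symm hT
    have hPZ : P ≠ Z0 := fun h => hTZ (h ▸ hPT)
    have hPZc : Com P Z0 := com_sup hZ0W.symm (S.com_self hZ0) hPle
    have hPTne : P ≠ T := fun h => hTZ (h ▸ hPZc.symm)
    obtain ⟨R, hR, hRle, hRY⟩ := S.point hP hT hPTne hPT hYK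
    have hPY : ¬ Com P Y := fun h =>
      hYW (S.com_line hW hZ0 hP hZ0 hZ0W.symm hPle le_sup_right hPZ h hYZc.symm le_sup_left).symm
    have hRP : R ≠ P := fun h => hPY (h ▸ hRY)
    have hRZ : ¬ Com R Z0 := fun h =>
      hTZ (S.com_line hP hT hR hP hPT hRle le_sup_left hRP h hPZc le_sup_right).symm
    have hYR : Y ≠ R := fun h => hRZ (h ▸ hYZc)
    obtain ⟨U, hU, hUle, hUW⟩ := S.point hYK hR hYR hRY.symm hW
    have hUY' : Com U Y := com_sup (S.com_self hYK) hRY hUle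
    have hUne : U ≠ Y := fun h => hYW (h ▸ hUW)
    exact ⟨U, hU, hUW, hUY', fun h =>
      hRZ (S.com_line hYK hR hU hYK hRY.symm hUle le_sup_left hUne h hYZc le_sup_right)⟩
  -- the conjugate of `W` by `x`
  set W' := W.map (MulAut.conj x).toMonoidHom with hW'
  have hxy : x * y = z := by rw [hy, mul_inv_cancel_left]
  have hW'eq : W' = W.map (MulAut.conj y⁻¹).toMonoidHom := by
    have h1 : (W.map (MulAut.conj z).toMonoidHom) = W := map_fix fun u hu => (hZ0W z hz u hu).symm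
    have h2 : x = y⁻¹ * z := by
      have hc : Commute x z := hxz
      rw [hy, mul_inv_rev, inv_inv, mul_assoc, hc.eq, inv_mul_cancel_left]
    rw [hW', h2, map_mul_conj, h1]
  have hC : ∀ V ∈ K, Com V W → (Com V A0 ∨ Com V Y) → Com V W' := by
    intro V hV h1 h2
    rcases h2 with h2 | h2
    · have := map_com h1 x
      rwa [map_fix (fun u hu => h2 u hu x hx)] at this
    · have := map_com h1 y⁻¹
      rwa [map_fix (fun u hu => h2 u hu y⁻¹ (Y.inv_mem hym)), ← hW'eq] at this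
  have hW'K : W' ∈ K := S.conj W hW x
  have hUA : ¬ Com U A0 := fun h => hUZ (S.com_line hA0 hZ0 hA0 hYK hA0Z le_sup_left hyle hYA.symm h.symm hUY.symm le_sup_right).symm
  have hUne : U ≠ W := fun h => hUZ (h ▸ hZ0W.symm)
  obtain ⟨P, hP, hPle, hPA⟩ := S.point hW hU hUne.symm hUW.symm hA0
  have hPU : P ≠ U := fun h => hUA (h ▸ hPA)
  have hPW : Com P W := com_sup (S.com_self hW) hUW hPle
  have hWW' : Com W W' := S.com_line hW hU hP hU hUW.symm hPle le_sup_right hPU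
    (hC P hP hPW (Or.inl hPA)) (hC U hU hUW (Or.inr hUY)) le_sup_left
  have hall : ∀ V ∈ K, Com V W → Com V W' := by
    intro V hV hVW
    by_cases hVeq : V = W
    · exact hVeq ▸ hWW'
    obtain ⟨P', hP', hP'le, hP'A⟩ := S.point hW hV (Ne.symm hVeq) hVW.symm hA0
    have hP'W : P' ≠ W := fun h => hAW (h ▸ hP'A).symm
    exact S.com_line hW hV hP' hW hVW.symm hP'le le_sup_left hP'W
      (hC P' hP' (com_sup (S.com_self hW) hVW hP'le) (Or.inl hP'A)) hWW' le_sup_right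
  by_cases heq : W' = W
  · exact hAW (S.com_of_fix hA0 hW hx hx1 heq)
  · obtain ⟨V, hV, hVW, hVW'⟩ := S.separate hN hW hW'K (Ne.symm heq) hWW'
    exact hVW' (hall V hV hVW)


/-- Let p be a prime and K a set of subgroups of order p of a finite group G, closed under conjugation, such that at least two distinct members of K commute elementwise, and whenever two distinct members X, Y of K commute: every subgroup of order p of the group XY they generate belongs to K, and every member W of K has centralizer meeting XY nontrivially. Then some member V of K commutes elementwise with every member of K and lies in O_p(G); in particular G is not simple. -/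
theorem result {G : Type*} [Group G] [Finite G]
    {p : ℕ} (hp : p.Prime) (K : Set (Subgroup G)) (hK : ∀ X ∈ K, Nat.card ↥X = p)
    (hKc : ∀ X ∈ K, ∀ g : G, X.map (MulAut.conj g).toMonoidHom ∈ K)
    (hex : ∃ X ∈ K, ∃ Y ∈ K, X ≠ Y ∧ ∀ x ∈ X, ∀ y ∈ Y, x * y = y * x)
    (ha : ∀ X ∈ K, ∀ Y ∈ K, X ≠ Y → (∀ x ∈ X, ∀ y ∈ Y, x * y = y * x) →
      ∀ Z : Subgroup G, Z ≤ X ⊔ Y → Nat.card ↥Z = p → Z ∈ K)
    (hb : ∀ X ∈ K, ∀ Y ∈ K, X ≠ Y → (∀ x ∈ X, ∀ y ∈ Y, x * y = y * x) →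
      ∀ W ∈ K, (X ⊔ Y) ⊓ Subgroup.centralizer (W : Set G) ≠ ⊥) :
    (∃ V ∈ K, (∀ W ∈ K, ∀ v ∈ V, ∀ w ∈ W, v * w = w * v) ∧ V ≤ Cfsg.pCore p G) ∧ ¬ IsSimpleGroup G := by
  classical
  have S : Sys p K := ⟨hp, hK, hKc, hex, ha, hb⟩
  have := Fact.mk hp
  obtain ⟨V, hV, hVu⟩ := S.universal
  set N := Subgroup.normalClosure (V : Set G) with hNdef
  let L : Set (Subgroup G) := {U | U ∈ K ∧ ∀ W ∈ K, Com U W}
  have hconjL : ∀ g : G, V.map (MulAut.conj g).toMonoidHom ∈ L := fun g => ⟨hKc V hV g, fun W hW => by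
    have h := map_com (hVu _ (hKc W hW g⁻¹)) g
    rwa [← map_mul_conj, mul_inv_cancel, map_one, show (1 : MulAut G).toMonoidHom = MonoidHom.id G from rfl,
      Subgroup.map_id] at h⟩
  have hmemN : ∀ a ∈ Group.conjugatesOfSet (V : Set G), ∃ U ∈ L, a ∈ U := by
    intro a ha
    rw [Group.mem_conjugatesOfSet_iff] at ha
    obtain ⟨v, hv, hc⟩ := ha
    obtain ⟨g, rfl⟩ := isConj_iff.1 hc
    exact ⟨_, hconjL g, v, hv, rfl⟩
  have hcomm : ∀ a ∈ Group.conjugatesOfSet (V : Set G), ∀ b ∈ Group.conjugatesOfSet (V : Set G), a * b = b * a := by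
    intro a ha b hb
    obtain ⟨U, hU, haU⟩ := hmemN a ha
    obtain ⟨U', hU', hbU⟩ := hmemN b hb
    exact hU.2 U' hU'.1 a haU b hbU
  have hpow : ∀ u ∈ N, u ^ p = 1 ∧ ∀ a ∈ Group.conjugatesOfSet (V : Set G), u * a = a * u := by
    intro u hu
    have hab : ∀ u ∈ N, ∀ a ∈ Group.conjugatesOfSet (V : Set G), u * a = a * u := by
      intro u hu a ha
      have : N ≤ Subgroup.centralizer {a} := (Subgroup.closure_le _).2 fun b hb =>
        Subgroup.mem_centralizer_singleton_iff.2 (hcomm b hb a ha)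
      exact Subgroup.mem_centralizer_singleton_iff.1 (this hu)
    refine ⟨?_, hab u hu⟩
    refine Subgroup.closure_induction (p := fun u _ => u ^ p = 1) ?_ (one_pow p) ?_ ?_ hu
    · intro a ha
      obtain ⟨U, hU, haU⟩ := hmemN a ha
      exact S.pow_p hU.1 haU
    · intro a b ha hb h1 h2
      have hab' : Commute a b := by
        have : N ≤ Subgroup.centralizer {a} := (Subgroup.closure_le _).2 fun c hc =>
          Subgroup.mem_centralizer_singleton_iff.2 (hab a ha c hc).symm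
        exact (Subgroup.mem_centralizer_singleton_iff.1 (this hb)).symm
      rw [hab'.mul_pow, h1, h2, one_mul]
    · intro a _ h1
      rw [inv_pow, h1, inv_one]
  have hNp : IsPGroup p ↥N := fun u => ⟨1, Subtype.ext (by simpa using (hpow u u.2).1)⟩
  have hVN : V ≤ N := Subgroup.le_normalClosure
  have hle : V ≤ Cfsg.pCore p G := hVN.trans (le_sSup ⟨inferInstance, hNp⟩)
  refine ⟨⟨V, hV, hVu, hle⟩, fun hs => ?_⟩
  haveI := hs
  rcases Subgroup.Normal.eq_bot_or_eq_top (inferInstance : N.Normal) with h | h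
  · obtain ⟨v, hv, hv1⟩ := S.ne_bot hV
    exact hv1 (by have := hVN hv; rwa [h, Subgroup.mem_bot] at this)
  · obtain ⟨X, hX, Y, hY, hne, -⟩ := hex
    have hmc : ∀ a b : G, a * b = b * a := by
      intro a b
      have : N ≤ Subgroup.centralizer {b} := by
        refine (Subgroup.closure_le _).2 fun c hc => Subgroup.mem_centralizer_singleton_iff.2 ?_
        exact ((hpow b (h ▸ Subgroup.mem_top b)).2 c hc).symm
      exact Subgroup.mem_centralizer_singleton_iff.1 (this (h ▸ Subgroup.mem_top a))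
    have hn : ∀ H : Subgroup G, H.Normal := fun H => ⟨fun u hu g => by rw [hmc g u, mul_inv_cancel_right]; exact hu⟩
    rcases (hn X).eq_bot_or_eq_top with h1 | h1
    · obtain ⟨v, hv, hv1⟩ := S.ne_bot hX
      exact hv1 (by rwa [h1, Subgroup.mem_bot] at hv)
    · rcases (hn Y).eq_bot_or_eq_top with h2 | h2
      · obtain ⟨v, hv, hv1⟩ := S.ne_bot hY
        exact hv1 (by rwa [h2, Subgroup.mem_bot] at hv)
      · exact hne (h1.trans h2.symm)

end Cfsg.Agent.S3196
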