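import Cfsg.Statements.S3198
import Cfsg.Agent.Lib.Syl34.Main

set_option autoImplicit false
open Cfsg

namespace Cfsg.Agent.S3198

/-- If G is a finite group whose Sylow 2-subgroups are isomorphic to those of PSL(3, 4), then G modulo its largest normal subgroup of odd order is isomorphic to a subgroup of PGL(3, 4) (the general linear group of dimension 3 over the field with 4 elements modulo its centre). -/
theorem result {G : Type*} [Group G] [Finite G]
    {F : Type*} [Field F] [Fintype F] (hF : Fintype.card F = 4) (S : Sylow 2 G)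
    (P : Sylow 2 (Matrix.ProjectiveSpecialLinearGroup (Fin 3) F))
    (hS : Nonempty (↥(S : Subgroup G) ≃* ↥(P : Subgroup (Matrix.ProjectiveSpecialLinearGroup (Fin 3) F)))) :
    ∃ f : G ⧸ Cfsg.oddCore G →* GL (Fin 3) F ⧸ Subgroup.center (GL (Fin 3) F), Function.Injective f := by
  classical
  haveI : Fact (Nat.Prime 2) := ⟨Nat.prime_two⟩
  obtain ⟨c⟩ := Cfsg.Lib.Syl34.exists_crd hF P hS
  haveI : (oddCore G).Normal := pPrimeCore_normal 2 G
  set π := QuotientGroup.mk' (oddCore G)
  have hinj : ∀ s ∈ (S : Subgroup G), π s = 1 → s = 1 := by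
    intro s hs he
    have h1 : orderOf s ∣ Nat.card (oddCore G) :=
      Subgroup.orderOf_dvd_natCard _ ((QuotientGroup.eq_one_iff s).1 he)
    have h2 : orderOf s ∣ 64 := c.card_S ▸ Subgroup.orderOf_dvd_natCard _ hs
    refine orderOf_eq_one_iff.1 (Nat.Coprime.eq_one_of_dvd (m := 2 ^ 6) ?_ h2)
    exact (Nat.coprime_two_right.2 (Cfsg.Lib.ZStar.odd_card_oddCore.of_dvd_nat h1)).pow_right 6
  exact (c.push π ((S.mapSurjective (f := π) (QuotientGroup.mk'_surjective _) : Sylow 2 _) : Subgroup _)
    rfl hinj).embed Cfsg.Lib.Core.pPrimeCore_quotient_eq_bot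

end Cfsg.Agent.S3198
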