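import Cfsg.Statements.S3200
import Mathlib
import Cfsg.Agent.Lib.Char.Burnside
import Cfsg.Agent.Lib.Solv.Hall

set_option autoImplicit false
open Cfsg

namespace Cfsg.Agent.S3200

universe u

open Subgroup

/-- A Sylow 2-subgroup with an abelian complement, as a numerical condition. -/
def HasAbelianHall (G : Type*) [Group G] : Prop :=
  ∃ C : Subgroup G, IsMulCommutative ↥C ∧ Odd (Nat.card ↥C) ∧ ∃ k, C.index = 2 ^ k

theorem of_complement {G : Type*} [Group G] [Finite G] (S : Sylow 2 G) (C : Subgroup G) (hC : IsMulCommutative ↥C)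
    (h : IsComplement' (S : Subgroup G) C) : HasAbelianHall G := by
  have := Fact.mk Nat.prime_two
  obtain ⟨k, hk⟩ := S.isPGroup'.exists_card_eq
  refine ⟨C, hC, ?_, k, by rw [h.index_eq_card, hk]⟩
  have h1 := S.not_dvd_index
  rw [h.symm.index_eq_card] at h1
  exact Nat.not_even_iff_odd.1 fun h2 => h1 (even_iff_two_dvd.1 h2)

theorem to_complement {G : Type*} [Group G] [Finite G] (h : HasAbelianHall G) :
    ∃ (P : Sylow 2 G) (D : Subgroup G), IsMulCommutative ↥D ∧ IsComplement' (P : Subgroup G) D := by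
  have := Fact.mk Nat.prime_two
  obtain ⟨C, hC, hodd, k, hk⟩ := h
  obtain ⟨P⟩ : Nonempty (Sylow 2 G) := inferInstance
  refine ⟨P, C, hC, ?_⟩
  obtain ⟨j, hj⟩ := P.isPGroup'.exists_card_eq
  have hcop : (Nat.card ↥(P : Subgroup G)).Coprime (Nat.card ↥C) := by
    rw [hj]; exact (Nat.coprime_two_left.2 hodd).pow_left j
  refine isComplement'_of_coprime ?_ hcop
  have h2 : j = k := by
    have hcard := C.card_mul_index
    rw [hk] at hcard
    rw [Sylow.card_eq_multiplicity, ← hcard] at hj
    have h0 : (Nat.card ↥C).factorization 2 = 0 :=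
      Nat.factorization_eq_zero_of_not_dvd fun h => Nat.not_even_iff_odd.2 hodd (even_iff_two_dvd.2 h)
    rw [Nat.factorization_mul Nat.card_pos.ne' (pow_ne_zero k two_ne_zero), Finsupp.add_apply, h0,
      Nat.factorization_pow, Finsupp.smul_apply, Nat.Prime.factorization_self Nat.prime_two, smul_eq_mul, mul_one, zero_add] at hj
    exact (Nat.pow_right_injective le_rfl hj).symm
  rw [hj, h2, Nat.mul_comm, ← hk, C.card_mul_index]

theorem HasAbelianHall.map {G G' : Type*} [Group G] [Finite G] [Group G'] [Finite G'] (f : G →* G') (hf : Function.Surjective f)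
    (h : HasAbelianHall G) : HasAbelianHall G' := by
  obtain ⟨C, hC, hodd, k, hk⟩ := h
  obtain ⟨j, -, hj⟩ := (Nat.dvd_prime_pow Nat.prime_two).1 (hk ▸ C.index_map_dvd hf)
  exact ⟨C.map f, inferInstance, hodd.of_dvd_nat (C.card_map_dvd f), j, hj⟩

theorem HasAbelianHall.normal {G : Type*} [Group G] [Finite G] (h : HasAbelianHall G) (N : Subgroup G) [N.Normal] :
    HasAbelianHall ↥N := by
  obtain ⟨C, hC, hodd, k, hk⟩ := h
  have hd : (C.subgroupOf N).index ∣ C.index := by
    show C.relIndex N ∣ C.index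
    have e1 : (C ⊓ N).relIndex C * C.relIndex (C ⊔ N) = (C ⊓ N).relIndex N * N.relIndex (C ⊔ N) :=
      (relIndex_mul_relIndex _ _ _ inf_le_left le_sup_left).trans (relIndex_mul_relIndex _ _ _ inf_le_right le_sup_right).symm
    rw [relIndex_sup_right, inf_relIndex_left, inf_relIndex_right, Nat.mul_comm (C.relIndex N)] at e1
    have e2 := Nat.eq_of_mul_eq_mul_left (Nat.pos_of_ne_zero (index_ne_zero_of_finite (H := N.subgroupOf C))) e1
    exact e2 ▸ relIndex_dvd_index_of_le le_sup_left
  obtain ⟨j, -, hj⟩ := (Nat.dvd_prime_pow Nat.prime_two).1 (hk ▸ hd)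
  refine ⟨C.subgroupOf N, inferInstance, ?_, j, hj⟩
  refine hodd.of_dvd_nat ?_
  rw [← card_map_of_injective N.subtype_injective]
  exact card_dvd_of_le (by rintro _ ⟨x, hx, rfl⟩; exact mem_subgroupOf.1 hx)

theorem solvable_aux (n : ℕ) : ∀ (G : Type u) [Group G] [Finite G], Nat.card G ≤ n → HasAbelianHall G → Group.IsSolvable G := by
  induction n with
  | zero => intro G _ _ h _; exact absurd (Nat.card_pos (α := G)) (by omega)
  | succ n ih =>
    intro G _ _ hn hG
    by_cases hsimp : ∃ N : Subgroup G, N.Normal ∧ N ≠ ⊥ ∧ N ≠ ⊤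
    · obtain ⟨N, hN, h1, h2⟩ := hsimp
      have hc := N.card_mul_index
      have hN1 : 1 < Nat.card ↥N := Finite.one_lt_card_iff_nontrivial.2 (N.nontrivial_iff_ne_bot.2 h1)
      have hN2 : 1 < N.index := by
        have := N.index_ne_zero_of_finite
        have h3 : N.index ≠ 1 := fun e => h2 (index_eq_one.1 e)
        omega
      haveI hs1 : Group.IsSolvable ↥N := ih ↥N (by nlinarith) (hG.normal N)
      haveI hs2 : Group.IsSolvable (G ⧸ N) := ih (G ⧸ N) (by rw [← index_eq_card]; nlinarith)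
        (hG.map (QuotientGroup.mk' N) (QuotientGroup.mk'_surjective N))
      exact Group.isSolvable_of_ker_le_range N.subtype (QuotientGroup.mk' N) (by simp)
    push Not at hsimp
    obtain ⟨C, hC, hodd, k, hk⟩ := hG
    rcases C.bot_or_exists_ne_one with rfl | ⟨c, hc, hc1⟩
    · rw [index_bot] at hk
      have := Fact.mk Nat.prime_two
      haveI := (IsPGroup.of_card hk).isNilpotent
      infer_instance
    haveI : Nontrivial G := ⟨⟨c, 1, hc1⟩⟩
    haveI : IsSimpleGroup G := ⟨fun N hN => or_iff_not_imp_left.2 (hsimp N hN)⟩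
    haveI := Fintype.ofFinite G
    have hle : C ≤ centralizer ({c} : Set G) := fun d hd =>
      mem_centralizer_singleton_iff.2 (congrArg Subtype.val (mul_comm' (⟨d, hd⟩ : ↥C) ⟨c, hc⟩))
    obtain ⟨j, -, hj⟩ := (Nat.dvd_prime_pow Nat.prime_two).1 (hk ▸ index_dvd_of_le hle)
    have hp := Cfsg.Lib.Char.prime_card_of_class_prime_pow Nat.prime_two hc1 (k := j)
      (by rw [Cfsg.Lib.Char.card_classFinset, hj])
    have := Fact.mk hp
    haveI := (IsPGroup.of_card (p := Nat.card G) (n := 1) (pow_one _).symm : IsPGroup (Nat.card G) G).isNilpotent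
    infer_instance


/-- Let H be a finite group in which a Sylow 2-subgroup has an abelian complement (an abelian subgroup meeting it trivially whose product with it is all of H). Then H is solvable, and every subgroup and every quotient group of H again has a Sylow 2-subgroup with an abelian complement. -/
theorem result {H : Type*} [Group H] [Finite H]
    (S : Sylow 2 H) (C : Subgroup H) (hC : IsMulCommutative ↥C) (hSC : Subgroup.IsComplement' (S : Subgroup H) C) :
    Group.IsSolvable H ∧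
    (∀ L : Subgroup H, ∃ (P : Sylow 2 ↥L) (D : Subgroup ↥L), IsMulCommutative ↥D ∧ Subgroup.IsComplement' (P : Subgroup ↥L) D) ∧
    (∀ (N : Subgroup H) [N.Normal], ∃ (P : Sylow 2 (H ⧸ N)) (D : Subgroup (H ⧸ N)),
      IsMulCommutative ↥D ∧ Subgroup.IsComplement' (P : Subgroup (H ⧸ N)) D) := by
  classical
  have := Fact.mk Nat.prime_two
  have hH := of_complement S C hC hSC
  have hsol : Group.IsSolvable H := solvable_aux _ H le_rfl hH
  refine ⟨hsol, fun L => to_complement ?_, fun N hN => to_complement (hH.map (QuotientGroup.mk' N) (QuotientGroup.mk'_surjective N))⟩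
  obtain ⟨C, hC, hodd, k, hk⟩ := hH
  haveI := hsol
  haveI : Group.IsSolvable ↥L := inferInstance
  obtain ⟨j, m, hm, hLm⟩ := Nat.exists_eq_two_pow_mul_odd (Nat.card_pos (α := ↥L)).ne'
  obtain ⟨D, hD⟩ := Cfsg.Lib.Solv.hall_exists (G := ↥L) (m := m) (k := 2 ^ j) (by rw [hLm, Nat.mul_comm])
    ((Nat.coprime_two_right.2 hm).pow_right j)
  have hD' : (Nat.card ↥(D.map L.subtype)).Coprime (2 ^ k) := by
    rw [card_map_of_injective L.subtype_injective, hD]; exact (Nat.coprime_two_right.2 hm).pow_right k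
  obtain ⟨g, hg⟩ := Cfsg.Lib.Solv.hall_le_conj (G := H) (by rw [← hk, C.card_mul_index])
    ((Nat.coprime_two_right.2 hodd).pow_right k) (H := C) rfl hD'
  refine ⟨D, ⟨⟨fun u v => Subtype.ext (Subtype.ext ?_)⟩⟩, hD ▸ hm, j, ?_⟩
  · obtain ⟨a, ha, hau⟩ := hg (Subgroup.mem_map_of_mem L.subtype u.2)
    obtain ⟨b, hb, hbv⟩ := hg (Subgroup.mem_map_of_mem L.subtype v.2)
    have hu : MulAut.conj g a = ((u : ↥L) : H) := hau
    have hv : MulAut.conj g b = ((v : ↥L) : H) := hbv
    show ((u : ↥L) : H) * (v : ↥L) = (v : ↥L) * (u : ↥L)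
    rw [← hu, ← hv, ← map_mul, ← map_mul, show a * b = b * a from congrArg Subtype.val (mul_comm' (⟨a, ha⟩ : ↥C) ⟨b, hb⟩)]
  · have := D.card_mul_index
    rw [hD, hLm, Nat.mul_comm (2 ^ j) m] at this
    exact Nat.eq_of_mul_eq_mul_left hm.pos this

end Cfsg.Agent.S3200
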