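import Cfsg.Statements.S3201
import Mathlib
import Cfsg.Agent.S0016
import Cfsg.Agent.Lib.Invol.Quaternion

set_option autoImplicit false
open Cfsg

namespace Cfsg.Agent.S3201

theorem index_of_coatom {Z : Type*} [Group Z] [Finite Z] (hZ : IsPGroup 2 Z) {C : Subgroup Z} [C.Normal] (hC : IsCoatom C) :
    C.index = 2 := by
  haveI : Fact (Nat.Prime 2) := ⟨Nat.prime_two⟩
  haveI : Nontrivial (Z ⧸ C) := QuotientGroup.nontrivial_iff.2 hC.1
  obtain ⟨x, hx⟩ := exists_prime_orderOf_dvd_card' (G := Z ⧸ C) 2 (by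
    obtain ⟨k, hk⟩ := IsPGroup.iff_card.1 (hZ.to_quotient C)
    rcases Nat.eq_zero_or_pos k with rfl | hk'
    · have := Finite.one_lt_card (α := Z ⧸ C); simp [hk] at this
    · rw [hk]; exact dvd_pow_self 2 hk'.ne')
  rcases eq_or_ne ((Subgroup.zpowers x).comap (QuotientGroup.mk' C)) ⊤ with h | h
  · have := congrArg (Subgroup.map (QuotientGroup.mk' C)) h
    rw [Subgroup.map_comap_eq_self_of_surjective (QuotientGroup.mk'_surjective C), Subgroup.map_top_of_surjective _ (QuotientGroup.mk'_surjective C)] at this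
    rw [Subgroup.index, ← Subgroup.card_top, ← this, Nat.card_zpowers, hx]
  · have hle : C ≤ (Subgroup.zpowers x).comap (QuotientGroup.mk' C) := fun c hc => by
      rw [Subgroup.mem_comap, QuotientGroup.mk'_apply, (QuotientGroup.eq_one_iff c).2 hc]; exact one_mem _
    obtain ⟨w, hw⟩ := QuotientGroup.mk'_surjective C x
    rcases hle.lt_or_eq with hlt | heq
    · exact absurd (hC.2 _ hlt) h
    · have : x = 1 := by
        rw [← hw, QuotientGroup.mk'_apply, QuotientGroup.eq_one_iff, heq, Subgroup.mem_comap, hw]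
        exact Subgroup.mem_zpowers x
      rw [this, orderOf_one] at hx
      omega



/-- Let S be a finite 2-group whose centre Z(S) has n ≥ 2 distinct maximal subgroups C₁, …, Cₙ with trivial intersection such that each quotient S/Cᵢ is a non-abelian group with exactly one involution (a generalized quaternion group). Then S is the internal direct product of an elementary abelian subgroup and a non-abelian subgroup with exactly one involution. -/
theorem result {S : Type*} [Group S] [Finite S]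
    (hS : IsPGroup 2 S) (n : ℕ) (hn : 2 ≤ n) (C : Fin n → Subgroup ↥(Subgroup.center S))
    (hCmax : ∀ i, IsCoatom (C i)) (hCinj : Function.Injective C) (hCint : ⨅ i, C i = ⊥)
    (hCq : ∀ i, ∃ (_ : ((C i).map (Subgroup.center S).subtype).Normal),
      ¬ IsMulCommutative (S ⧸ (C i).map (Subgroup.center S).subtype) ∧
      ∃! x : S ⧸ (C i).map (Subgroup.center S).subtype, orderOf x = 2) :
    ∃ E Q : Subgroup S, Cfsg.IsInternalDirectProduct E Q ⊤ ∧ Cfsg.IsElementaryAbelian 2 E ∧
      ¬ IsMulCommutative ↥Q ∧ ∃! x : ↥Q, orderOf x = 2 := by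
  classical
  haveI : Fact (Nat.Prime 2) := ⟨Nat.prime_two⟩
  -- the centre has exponent two
  have hidx : ∀ i, (C i).index = 2 := fun i => by
    haveI : (C i).Normal := ⟨fun x hx g => by rwa [Subtype.ext (Subgroup.mem_center_iff.1 x.2 g) |> fun h : g * x = x * g => h, mul_inv_cancel_right]⟩
    exact index_of_coatom (hS.to_subgroup (Subgroup.center S)) (hCmax i)
  have hexp : ∀ z ∈ (Subgroup.center S), z * z = 1 := by
    intro z hz
    have h : (⟨z, hz⟩ : (Subgroup.center S)) * ⟨z, hz⟩ ∈ ⨅ i, C i := Subgroup.mem_iInf.2 fun i => Subgroup.mul_self_mem_of_index_two (hidx i) _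
    rw [hCint, Subgroup.mem_bot] at h
    exact congrArg Subtype.val h
  have hsep : ∀ u v : S, u ∈ (Subgroup.center S) → v ∈ (Subgroup.center S) → (∀ i, u * v⁻¹ ∈ (C i).map (Subgroup.center S).subtype) → u = v := by
    intro u v hu hv h
    have h' : (⟨u * v⁻¹, mul_mem hu (inv_mem hv)⟩ : (Subgroup.center S)) ∈ ⨅ i, C i := Subgroup.mem_iInf.2 fun i => by
      obtain ⟨w, hw, he⟩ := h i
      rwa [← (Subtype.ext he : w = ⟨u * v⁻¹, _⟩)]
    rw [hCint, Subgroup.mem_bot] at h'
    exact mul_inv_eq_one.1 (congrArg Subtype.val h')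
  -- elements outside the centre with central square have a common square
  have hsq : ∀ u v : S, u ∉ (Subgroup.center S) → v ∉ (Subgroup.center S) → u * u ∈ (Subgroup.center S) → v * v ∈ (Subgroup.center S) → u * u = v * v := by
    intro u v hu hv hu2 hv2
    refine hsep _ _ hu2 hv2 fun i => ?_
    set D := (C i).map (Subgroup.center S).subtype with hD
    obtain ⟨hCn, -, x0, hx0, hx⟩ := hCq i
    haveI := hCn
    have hDZ : D ≤ (Subgroup.center S) := Subgroup.map_subtype_le _
    obtain ⟨w, hwC⟩ : ∃ w : (Subgroup.center S), w ∉ C i := by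
      by_contra hne
      push Not at hne
      exact (hCmax i).1 (eq_top_iff.2 fun w _ => hne w)
    have hwD : (w : S) ∉ D := fun h => by
      obtain ⟨w', hw', he⟩ := h
      exact hwC ((Subtype.ext he : w' = w) ▸ hw')
    have hwx : QuotientGroup.mk' D (w : S) = x0 := hx _ (orderOf_eq_prime (by
      rw [pow_two, ← map_mul, hexp w w.2, map_one]) fun h => hwD ((QuotientGroup.eq_one_iff _).1 h))
    have key : ∀ g : S, g ∉ (Subgroup.center S) → g * g ∈ (Subgroup.center S) → QuotientGroup.mk' D (g * g) = x0 := by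
      intro g hg hg2
      refine hx _ (orderOf_eq_prime (by rw [pow_two, ← map_mul, hexp _ hg2, map_one]) fun h => hg ?_)
      by_cases h1 : QuotientGroup.mk' D g = 1
      · exact hDZ ((QuotientGroup.eq_one_iff _).1 h1)
      · have h2 : QuotientGroup.mk' D g = QuotientGroup.mk' D (w : S) :=
          (hx _ (orderOf_eq_prime (by rw [pow_two, ← map_mul, h]) h1)).trans hwx.symm
        have h3 : g⁻¹ * (w : S) ∈ (Subgroup.center S) := hDZ ((QuotientGroup.eq (s := D)).1 h2)
        exact (inv_inv g) ▸ inv_mem ((Subgroup.mul_mem_cancel_right (Subgroup.center S) w.2).1 h3)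
    rw [← QuotientGroup.eq_one_iff]
    change QuotientGroup.mk' D (u * u * (v * v)⁻¹) = 1
    rw [map_mul, map_inv, key u hu hu2, key v hv hv2, mul_inv_cancel]
  -- the first quotient
  set D := (C ⟨0, by omega⟩).map (Subgroup.center S).subtype with hD
  obtain ⟨hDn, hnab, x0, hx0, hu⟩ := hCq ⟨0, by omega⟩
  haveI := hDn
  have hDZ : D ≤ (Subgroup.center S) := Subgroup.map_subtype_le _
  have huniq : ∀ H K : Subgroup (S ⧸ D), Nat.card H = 2 → Nat.card K = 2 → H = K := by
    have key : ∀ H : Subgroup (S ⧸ D), Nat.card H = 2 → H = Subgroup.zpowers x0 := fun H hH => by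
      obtain ⟨x, hx⟩ := exists_prime_orderOf_dvd_card' (G := H) 2 (hH ▸ dvd_rfl)
      rw [← orderOf_submonoid] at hx
      have hxx := hu _ hx
      exact (Subgroup.eq_of_le_of_card_ge (Subgroup.zpowers_le.2 (hxx ▸ x.2)) (by rw [hH, Nat.card_zpowers, hx0])).symm
    intro H K hH hK
    rw [key H hH, key K hK]
  rcases Cfsg.Agent.S0016.result 2 (hS.to_quotient D) huniq with hc | ⟨-, m, ⟨e⟩⟩
  · exact absurd (letI := IsCyclic.commGroup (α := S ⧸ D); ⟨⟨mul_comm⟩⟩) hnab
  set h := 2 ^ m with hh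
  haveI : NeZero h := ⟨(pow_pos (by norm_num) m).ne'⟩
  obtain ⟨a, ha⟩ := QuotientGroup.mk'_surjective D (e.symm (QuaternionGroup.a 1))
  obtain ⟨b, hb⟩ := QuotientGroup.mk'_surjective D (e.symm (QuaternionGroup.xa 0))
  set π : S →* QuaternionGroup h := e.toMonoidHom.comp (QuotientGroup.mk' D) with hπ
  have hπa : π a = QuaternionGroup.a 1 := (congrArg e ha).trans (e.apply_symm_apply _)
  have hπb : π b = QuaternionGroup.xa 0 := (congrArg e hb).trans (e.apply_symm_apply _)
  have hπ1 : ∀ x : S, π x = 1 ↔ x ∈ D := fun x => by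
    rw [hπ, MonoidHom.comp_apply, MulEquiv.coe_toMonoidHom, e.map_eq_one_iff, QuotientGroup.mk'_apply, QuotientGroup.eq_one_iff]
  have h2h : (2 : ℕ) ≤ h := by
    rcases Nat.eq_zero_or_pos m with rfl | hm
    · exfalso
      apply hnab
      refine ⟨⟨fun u v => e.injective ?_⟩⟩
      rw [map_mul, map_mul]
      have : ∀ u v : QuaternionGroup (2 ^ 0), u * v = v * u := by decide
      exact this _ _
    · exact (show 2 = 2 ^ 1 from rfl).le.trans (Nat.pow_le_pow_right (by norm_num) hm)
  have h2ne : (2 : ZMod (2 * h)) ≠ 0 := fun h' => by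
    have : ((2 : ℕ) : ZMod (2 * h)) = 0 := by exact_mod_cast h'
    rw [ZMod.natCast_eq_zero_iff] at this
    have := Nat.le_of_dvd (by norm_num) this
    omega
  have hnotZ : ∀ (g : S) (i : ZMod (2 * h)), π g = QuaternionGroup.xa i → g ∉ (Subgroup.center S) := by
    intro g i hgi hg
    have h1 := congrArg π (Subgroup.mem_center_iff.1 hg a)
    rw [map_mul, map_mul, hgi, hπa, QuaternionGroup.a_mul_xa, QuaternionGroup.xa_mul_a, QuaternionGroup.xa.injEq] at h1
    exact h2ne (by linear_combination -h1)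
  have hnc : π (b * a) = QuaternionGroup.xa 1 := by rw [map_mul, hπa, hπb]; simp
  have hsqZ : ∀ (g : S) (i : ZMod (2 * h)), π g = QuaternionGroup.xa i → g * g ∈ (Subgroup.center S) := by
    intro g i hgi
    -- the square maps to the central involution
    obtain ⟨w, hwC⟩ : ∃ w : (Subgroup.center S), w ∉ C ⟨0, by omega⟩ := by
      by_contra hne
      push Not at hne
      exact (hCmax _).1 (eq_top_iff.2 fun w _ => hne w)
    have hwD : (w : S) ∉ D := fun h => by
      obtain ⟨w', hw', he⟩ := h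
      exact hwC ((Subtype.ext he : w' = w) ▸ hw')
    have h1 : QuotientGroup.mk' D (w : S) = x0 := hu _ (orderOf_eq_prime (by
      rw [pow_two, ← map_mul, hexp w w.2, map_one]) fun h => hwD ((QuotientGroup.eq_one_iff _).1 h))
    have hgg : π g * π g = QuaternionGroup.a (h : ZMod (2 * h)) := by rw [hgi, QuaternionGroup.xa_mul_xa]; simp
    have h2 : QuotientGroup.mk' D (g * g) = x0 := hu _ (by
      show orderOf _ = 2
      rw [← MulEquiv.orderOf_eq e, show e (QuotientGroup.mk' D (g * g)) = π g * π g from map_mul π g g, hgg]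
      exact Cfsg.Lib.Invol.quaternion_orderOf_half)
    have h3 := hDZ ((QuotientGroup.eq (s := D)).1 (h2.trans h1.symm))
    exact (inv_inv (g * g)) ▸ inv_mem ((Subgroup.mul_mem_cancel_right (Subgroup.center S) w.2).1 h3)
  have hbb := hsqZ b 0 hπb
  have hba := hsq (b * a) b (hnotZ _ _ hnc) (hnotZ _ _ hπb) (hsqZ _ _ hnc) hbb
  have hinv : b * a * b⁻¹ = a⁻¹ := by
    rw [eq_inv_iff_mul_eq_one]
    have hc : ∀ x, x * (b * b)⁻¹ = (b * b)⁻¹ * x := fun x => Subgroup.mem_center_iff.1 (inv_mem hbb) x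
    calc b * a * b⁻¹ * a = b * a * ((b * b)⁻¹ * (b * a)) := by group
      _ = b * a * ((b * a) * (b * b)⁻¹) := by rw [hc]
      _ = (b * a) * (b * a) * (b * b)⁻¹ := by group
      _ = 1 := by rw [hba, mul_inv_cancel]
  have hswap : ∀ i : ℤ, a ^ i * b = b * a ^ (-i) := fun i => by
    have : b * a ^ (-i) * b⁻¹ = a ^ i := by rw [← conj_zpow, hinv, inv_zpow', neg_neg]
    rw [← this]; group
  have hπai : ∀ i : ℤ, π (a ^ i) = QuaternionGroup.a (i : ZMod (2 * h)) := fun i => by
    rw [map_zpow, hπa]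
    induction i with
    | zero => rw [zpow_zero, Int.cast_zero]; rfl
    | succ i ih => rw [zpow_add_one, ih, QuaternionGroup.a_mul_a]; push_cast; rfl
    | pred i ih =>
      rw [zpow_sub_one, ih, show (QuaternionGroup.a (1 : ZMod (2 * h)))⁻¹ = QuaternionGroup.a (-1) from rfl, QuaternionGroup.a_mul_a]
      congr 1; push_cast; ring
  have ha2h : a ^ (2 * h : ℤ) = 1 := by
    have h1 : a ^ (h : ℤ) ∈ (Subgroup.center S) := by
      have h2 : π (a ^ (h : ℤ)) = π (b * b) := by
        rw [hπai, map_mul, hπb, QuaternionGroup.xa_mul_xa]; simp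
      have h3 : (b * b)⁻¹ * a ^ (h : ℤ) ∈ D := (hπ1 _).1 (by rw [map_mul, map_inv, h2, inv_mul_cancel])
      exact (Subgroup.mul_mem_cancel_left (Subgroup.center S) (inv_mem hbb)).1 (hDZ h3)
    have h4 := hswap (h : ℤ)
    rw [← Subgroup.mem_center_iff.1 h1 b, mul_right_inj] at h4
    rw [two_mul, zpow_add]
    nth_rewrite 2 [h4]
    rw [← zpow_add, add_neg_cancel, zpow_zero]
  -- the subgroup generated by `a` and `b`
  set Q := Subgroup.closure ({a, b} : Set S) with hQ
  have haQ : a ∈ Q := Subgroup.subset_closure (Set.mem_insert _ _)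
  have hbQ : b ∈ Q := Subgroup.subset_closure (Set.mem_insert_of_mem _ rfl)
  have hbz : b * b = a ^ (h : ℤ) := by
    -- both squares lie in the centre and agree in every quotient
    have hA : a ∉ (Subgroup.center S) := fun hg => by
      have h1 := congrArg π (Subgroup.mem_center_iff.1 hg b)
      rw [map_mul, map_mul, hπb, hπa, QuaternionGroup.a_mul_xa, QuaternionGroup.xa_mul_a, QuaternionGroup.xa.injEq] at h1
      exact h2ne (by linear_combination h1)
    have h1 : a ^ (h : ℤ) ∈ (Subgroup.center S) := by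
      have h2 : π (a ^ (h : ℤ)) = π (b * b) := by
        rw [hπai, map_mul, hπb, QuaternionGroup.xa_mul_xa]; simp
      have h3 : (b * b)⁻¹ * a ^ (h : ℤ) ∈ D := (hπ1 _).1 (by rw [map_mul, map_inv, h2, inv_mul_cancel])
      exact (Subgroup.mul_mem_cancel_left (Subgroup.center S) (inv_mem hbb)).1 (hDZ h3)
    have hm : 1 ≤ m := by
      by_contra hlt
      rw [show m = 0 by omega] at hh
      omega
    have hh2 : h = 2 * 2 ^ (m - 1) := by rw [hh, ← pow_succ']; congr 1; omega
    set g := a ^ ((2 ^ (m - 1) : ℕ) : ℤ) with hg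
    have hgg : g * g = a ^ (h : ℤ) := by rw [hg, ← zpow_add, hh2]; push_cast; ring_nf
    rw [← hgg]
    refine (hsq g b ?_ (hnotZ _ _ hπb) (hgg ▸ h1) hbb).symm
    intro hgZ
    have h5 := congrArg π (Subgroup.mem_center_iff.1 hgZ b)
    rw [map_mul, map_mul, hπb, hg, hπai, QuaternionGroup.a_mul_xa, QuaternionGroup.xa_mul_a, QuaternionGroup.xa.injEq] at h5
    have h6 : ((h : ℕ) : ZMod (2 * h)) = 0 := by
      have h7 : (2 : ZMod (2 * h)) * (((2 ^ (m - 1) : ℕ) : ℤ) : ZMod (2 * h)) = 0 := by linear_combination h5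
      rw [show ((h : ℕ) : ZMod (2 * h)) = ((2 * 2 ^ (m - 1) : ℕ) : ZMod (2 * h)) from congrArg Nat.cast hh2]
      push_cast at h7 ⊢
      exact h7
    exact Cfsg.Lib.Invol.natCast_half_ne_zero h6
  have hQel : ∀ x ∈ Q, ∃ i : ℤ, x = a ^ i ∨ x = b * a ^ i := by
    intro x hx
    induction hx using Subgroup.closure_induction with
    | mem y hy =>
      rcases hy with rfl | rfl
      · exact ⟨1, Or.inl (zpow_one _).symm⟩
      · exact ⟨0, Or.inr (by rw [zpow_zero, mul_one])⟩
    | one => exact ⟨0, Or.inl (zpow_zero a).symm⟩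
    | mul y w _ _ ihy ihw =>
      obtain ⟨i, rfl | rfl⟩ := ihy <;> obtain ⟨j, rfl | rfl⟩ := ihw
      · exact ⟨i + j, Or.inl (zpow_add a i j).symm⟩
      · exact ⟨-i + j, Or.inr (by rw [← mul_assoc, hswap, mul_assoc, ← zpow_add])⟩
      · exact ⟨i + j, Or.inr (by rw [mul_assoc, ← zpow_add])⟩
      · refine ⟨(h : ℤ) + (-i + j), Or.inl ?_⟩
        rw [show b * a ^ i * (b * a ^ j) = b * (a ^ i * b) * a ^ j by group, hswap, ← mul_assoc, hbz, mul_assoc, ← zpow_add, ← zpow_add]
    | inv y _ ih =>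
      obtain ⟨i, rfl | rfl⟩ := ih
      · exact ⟨-i, Or.inl (zpow_neg a i).symm⟩
      · refine ⟨(h : ℤ) + i, Or.inr ?_⟩
        have hb' : b⁻¹ = b * a ^ (h : ℤ) := by
          rw [inv_eq_iff_mul_eq_one, ← mul_assoc, hbz, ← zpow_add, ← two_mul, ha2h]
        rw [mul_inv_rev, ← zpow_neg, hb', ← mul_assoc, hswap, neg_neg, mul_assoc, ← zpow_add, add_comm]
  have hker : ∀ x ∈ Q, π x = 1 → x = 1 := by
    intro x hx h1
    obtain ⟨i, rfl | rfl⟩ := hQel x hx
    · rw [hπai, QuaternionGroup.one_def, QuaternionGroup.a.injEq, ZMod.intCast_zmod_eq_zero_iff_dvd] at h1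
      obtain ⟨r, rfl⟩ := h1
      push_cast
      rw [zpow_mul, ha2h, one_zpow]
    · rw [map_mul, hπai, hπb, QuaternionGroup.xa_mul_a, QuaternionGroup.one_def] at h1
      cases h1
  have hinj : Function.Injective (π.comp Q.subtype) := by
    rw [injective_iff_map_eq_one]
    exact fun x hx => Subtype.ext (hker x.1 x.2 hx)
  have hsurj : ∀ q : QuaternionGroup h, ∃ y : Q, π y = q := by
    rintro (i | i)
    · exact ⟨⟨a ^ (ZMod.cast i : ℤ), zpow_mem haQ _⟩, by rw [hπai, ZMod.intCast_cast, ZMod.cast_id', id]⟩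
    · refine ⟨⟨b * a ^ (ZMod.cast i : ℤ), mul_mem hbQ (zpow_mem haQ _)⟩, ?_⟩
      rw [map_mul, hπai, hπb, ZMod.intCast_cast, ZMod.cast_id', id, QuaternionGroup.xa_mul_a, zero_add]
  let ψ : Q ≃* (S ⧸ D) := (MulEquiv.ofBijective (π.comp Q.subtype) ⟨hinj, hsurj⟩).trans e.symm
  refine ⟨D, Q, ⟨le_top, le_top, fun u hu' v _ => (Subgroup.mem_center_iff.1 (hDZ hu') v).symm, ?_, ?_⟩, ?_, ?_, ?_⟩
  · exact (Subgroup.eq_bot_iff_forall _).2 fun x hx => hker x hx.2 ((hπ1 x).2 hx.1)
  · refine eq_top_iff.2 fun x _ => ?_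
    obtain ⟨y, hy⟩ := hsurj (π x)
    have hd : x * (y : S)⁻¹ ∈ D := (hπ1 _).1 (by rw [map_mul, map_inv, hy, mul_inv_cancel])
    exact (inv_mul_cancel_right x (y : S)) ▸ mul_mem (Subgroup.mem_sup_left hd) (Subgroup.mem_sup_right y.2)
  · refine ⟨⟨⟨fun u v => Subtype.ext (Subgroup.mem_center_iff.1 (hDZ v.2) u)⟩⟩, fun x hx => ?_⟩
    rw [pow_two]; exact hexp x (hDZ hx)
  · exact fun hQ' => hnab ⟨⟨fun u v => ψ.symm.injective (by rw [map_mul, map_mul]; exact hQ'.is_comm.comm _ _)⟩⟩
  · refine ⟨ψ.symm x0, by show orderOf _ = 2; rw [show orderOf (ψ.symm x0) = orderOf x0 from MulEquiv.orderOf_eq _ _, hx0], fun y hy => ?_⟩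
    rw [← hu (ψ y) (by show orderOf _ = 2; rw [MulEquiv.orderOf_eq]; exact hy), MulEquiv.symm_apply_apply]

end Cfsg.Agent.S3201
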