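import Cfsg.Statements.S3202
import Mathlib
import Cfsg.Agent.S0016

set_option autoImplicit false
open Cfsg

namespace Cfsg.Agent.S3202

/-- Let S be a finite 2-group of 2-rank exactly 2 and D a maximal subgroup of the centre of S such that S/D is a non-abelian group with exactly one involution (a generalized quaternion group). Then S has a nontrivial cyclic characteristic subgroup. -/
theorem result {S : Type*} [Group S]
    [Finite S] (hS : IsPGroup 2 S) (hr2 : Cfsg.PRankLE 2 2 S) (hr1 : ¬ Cfsg.PRankLE 2 1 S)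
    (D : Subgroup ↥(Subgroup.center S)) (hD : IsCoatom D)
    (hq : ∃ (_ : (D.map (Subgroup.center S).subtype).Normal),
      ¬ IsMulCommutative (S ⧸ D.map (Subgroup.center S).subtype) ∧
      ∃! x : S ⧸ D.map (Subgroup.center S).subtype, orderOf x = 2) :
    ∃ C : Subgroup S, C ≠ ⊥ ∧ IsCyclic ↥C ∧ C.Characteristic := by
  set D' := D.map (Subgroup.center S).subtype with hD'
  obtain ⟨hDn, hnab, x0, hx0, hu⟩ := hq
  haveI := hDn
  haveI : Fact (Nat.Prime 2) := ⟨Nat.prime_two⟩
  have hD'Z : D' ≤ Subgroup.center S := Subgroup.map_subtype_le D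
  have huniq : ∀ H K : Subgroup (S ⧸ D'), Nat.card H = 2 → Nat.card K = 2 → H = K := by
    have key : ∀ H : Subgroup (S ⧸ D'), Nat.card H = 2 → H = Subgroup.zpowers x0 := fun H hH => by
      obtain ⟨x, hx⟩ := exists_prime_orderOf_dvd_card' (G := H) 2 (hH ▸ dvd_rfl)
      rw [← orderOf_submonoid] at hx
      have hxx := hu _ hx
      exact (Subgroup.eq_of_le_of_card_ge (Subgroup.zpowers_le.2 (hxx ▸ x.2)) (by rw [hH, Nat.card_zpowers, hx0])).symm
    intro H K hH hK
    rw [key H hH, key K hK]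
  rcases Cfsg.Agent.S0016.result 2 (hS.to_quotient D') huniq with hc | ⟨-, n, ⟨e⟩⟩
  · exact absurd (letI := IsCyclic.commGroup (α := S ⧸ D'); ⟨⟨mul_comm⟩⟩) hnab
  obtain ⟨a, ha⟩ := QuotientGroup.mk'_surjective D' (e.symm (QuaternionGroup.a 1))
  obtain ⟨b, hb⟩ := QuotientGroup.mk'_surjective D' (e.symm (QuaternionGroup.xa 0))
  set d := b * a * b⁻¹ * a with hd
  have hdD : d ∈ D' := by
    rw [← QuotientGroup.eq_one_iff]
    change QuotientGroup.mk' D' d = 1
    rw [hd, map_mul, map_mul, map_mul, map_inv, ha, hb, ← map_inv, ← map_mul, ← map_mul, ← map_mul, ← map_one e.symm]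
    congr 1
    show QuaternionGroup.xa (0 : ZMod (2 * 2 ^ n)) * QuaternionGroup.a 1 * QuaternionGroup.xa (((2 ^ n : ℕ) : ZMod (2 * 2 ^ n)) + 0) * QuaternionGroup.a 1 = QuaternionGroup.a 0
    simp only [QuaternionGroup.xa_mul_a, QuaternionGroup.xa_mul_xa, QuaternionGroup.a_mul_a]
    congr 1
    have : ((2 * 2 ^ n : ℕ) : ZMod (2 * 2 ^ n)) = 0 := ZMod.natCast_self _
    push_cast at this ⊢
    linear_combination this
  have hdc : ∀ y, y * d = d * y := fun y => Subgroup.mem_center_iff.1 (hD'Z hdD) y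
  have hbab : b * a * b⁻¹ = d * a⁻¹ := by rw [hd]; group
  have hab : a * b * a⁻¹ * b⁻¹ = a * a * d⁻¹ := by
    calc a * b * a⁻¹ * b⁻¹ = a * (b * a * b⁻¹)⁻¹ := by group
      _ = a * a * d⁻¹ := by rw [hbab]; group
  set c := a * a * d⁻¹ with hc'
  set C := Subgroup.zpowers c with hC
  have hdi : Commute a d⁻¹ := (show Commute a d from hdc a).inv_right
  have hac : a * c * a⁻¹ = c := by
    have h1 : Commute a (a * a * d⁻¹) := ((Commute.refl a).mul_right (Commute.refl a)).mul_right hdi
    rw [hc', h1.eq, mul_inv_cancel_right]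
  have hbc : b * c * b⁻¹ = c⁻¹ := by
    calc b * c * b⁻¹ = (b * a * b⁻¹) * (b * a * b⁻¹) * (b * d⁻¹ * b⁻¹) := by rw [hc']; group
      _ = d * a⁻¹ * (d * a⁻¹) * d⁻¹ := by
        rw [hbab, show b * d⁻¹ * b⁻¹ = d⁻¹ by rw [((show Commute b d from hdc b).inv_right).eq, mul_inv_cancel_right]]
      _ = c⁻¹ := by
        have h1 : d * a⁻¹ = a⁻¹ * d := ((show Commute d a from (hdc a).symm).inv_right).eq
        rw [hc']
        calc d * a⁻¹ * (d * a⁻¹) * d⁻¹ = d * a⁻¹ * (a⁻¹ * d) * d⁻¹ := by rw [← h1]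
          _ = _ := by group
  have hdec : ∀ x : S, ∃ i : ℤ, ∃ z ∈ Subgroup.center S, x = a ^ i * z ∨ x = b * a ^ i * z := by
    intro x
    have hdec' : ∀ w : S, QuotientGroup.mk' D' w = QuotientGroup.mk' D' x → w⁻¹ * x ∈ Subgroup.center S := fun w hw =>
      hD'Z ((QuotientGroup.eq (s := D')).1 hw)
    have ha1 : ∀ i : ℤ, (QuaternionGroup.a (1 : ZMod (2 * 2 ^ n))) ^ i = QuaternionGroup.a (i : ZMod (2 * 2 ^ n)) := by
      intro i
      induction i with
      | zero => rw [zpow_zero, Int.cast_zero]; rfl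
      | succ i ih => rw [zpow_add_one, ih, QuaternionGroup.a_mul_a]; push_cast; rfl
      | pred i ih =>
        rw [zpow_sub_one, ih, show (QuaternionGroup.a (1 : ZMod (2 * 2 ^ n)))⁻¹ = QuaternionGroup.a (-1) from rfl, QuaternionGroup.a_mul_a]
        congr 1; push_cast; ring
    rcases he : e (QuotientGroup.mk' D' x) with i | i
    · refine ⟨(ZMod.cast i : ℤ), _, hdec' (a ^ (ZMod.cast i : ℤ)) ?_, Or.inl (mul_inv_cancel_left _ x).symm⟩
      rw [map_zpow, ha, ← map_zpow, ha1, ZMod.intCast_cast, ZMod.cast_id', id, ← he, MulEquiv.symm_apply_apply]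
    · refine ⟨(ZMod.cast i : ℤ), _, hdec' (b * a ^ (ZMod.cast i : ℤ)) ?_, Or.inr (mul_inv_cancel_left _ x).symm⟩
      rw [map_mul, map_zpow, ha, hb, ← map_zpow, ← map_mul, ha1, ZMod.intCast_cast, ZMod.cast_id', id,
        QuaternionGroup.xa_mul_a, zero_add, ← he, MulEquiv.symm_apply_apply]
  have hCn : C.Normal := by
    refine ⟨fun u hu x => ?_⟩
    obtain ⟨j, rfl⟩ := hu
    have hA : ∀ (i : ℤ) (v : S), Commute v c → Commute (a ^ i * v) c := fun i v hv =>
      ((show Commute a c from mul_inv_eq_iff_eq_mul.1 hac).zpow_left i).mul_left hv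
    obtain ⟨i, z, hz, h | h⟩ := hdec x
    · show x * c ^ j * x⁻¹ ∈ C
      have : Commute x c := h ▸ hA i z ((Subgroup.mem_center_iff.1 hz c).symm)
      rw [(this.zpow_right j).eq, mul_inv_cancel_right]
      exact zpow_mem (Subgroup.mem_zpowers c) j
    · show x * c ^ j * x⁻¹ ∈ C
      have hv : Commute (a ^ i * z) c := hA i z ((Subgroup.mem_center_iff.1 hz c).symm)
      have : x * c * x⁻¹ = c⁻¹ := by
        rw [h, mul_assoc b, show b * (a ^ i * z) * c * (b * (a ^ i * z))⁻¹ = b * ((a ^ i * z) * c * (a ^ i * z)⁻¹) * b⁻¹ by group,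
          hv.eq, mul_inv_cancel_right, hbc]
      rw [← conj_zpow, this]
      exact zpow_mem (inv_mem (Subgroup.mem_zpowers c)) j
  haveI := hCn
  have hle : commutator S ≤ C := by
    have hab' : Commute (QuotientGroup.mk' C a) (QuotientGroup.mk' C b) := by
      rw [← commutatorElement_eq_one_iff_commute, ← map_commutatorElement, QuotientGroup.mk'_apply, QuotientGroup.eq_one_iff, commutatorElement_def, hab]
      exact Subgroup.mem_zpowers c
    have hz : ∀ z ∈ Subgroup.center S, ∀ q : S ⧸ C, Commute (QuotientGroup.mk' C z) q := by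
      intro z hz q
      obtain ⟨w, rfl⟩ := QuotientGroup.mk'_surjective C q
      rw [commute_iff_eq, ← map_mul, ← map_mul, Subgroup.mem_center_iff.1 hz w]
    rw [commutator_def, Subgroup.commutator_le]
    intro x _ y _
    rw [← QuotientGroup.eq_one_iff, ← QuotientGroup.mk'_apply, map_commutatorElement, commutatorElement_eq_one_iff_commute]
    have hgen : ∀ q : S ⧸ C, Commute q (QuotientGroup.mk' C a) → Commute q (QuotientGroup.mk' C b) → ∀ w, Commute q (QuotientGroup.mk' C w) := by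
      intro q h1 h2 w
      obtain ⟨i, z, hz', h | h⟩ := hdec w
      · rw [h, map_mul, map_zpow]; exact (h1.zpow_right i).mul_right (hz z hz' q).symm
      · rw [h, map_mul, map_mul, map_zpow]; exact (h2.mul_right (h1.zpow_right i)).mul_right (hz z hz' q).symm
    exact hgen _ (hgen _ (Commute.refl _) hab' x).symm (hgen _ hab'.symm (Commute.refl _) x).symm y
  refine ⟨commutator S, fun h => hnab ?_, isCyclic_of_injective (f := Subgroup.inclusion hle) (Subgroup.inclusion_injective hle), inferInstance⟩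
  refine ⟨⟨fun u v => ?_⟩⟩
  obtain ⟨u, rfl⟩ := QuotientGroup.mk'_surjective D' u
  obtain ⟨v, rfl⟩ := QuotientGroup.mk'_surjective D' v
  rw [← map_mul, ← map_mul]
  congr 1
  rw [← commutatorElement_eq_one_iff_mul_comm, ← Subgroup.mem_bot, ← h, commutator_def]
  exact Subgroup.commutator_mem_commutator (Subgroup.mem_top _) (Subgroup.mem_top _)

end Cfsg.Agent.S3202
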