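import Cfsg.Statements.S3203
import Mathlib

set_option autoImplicit false
open Cfsg

namespace Cfsg.Agent.S3203

theorem elem_comap {G H : Type*} [Group G] [Group H] (C : Subgroup G) (hC : Cfsg.IsElementaryAbelian 2 C)
    (f : H →* G) (hf : Function.Injective f) : Cfsg.IsElementaryAbelian 2 (C.comap f) := by
  have := hC.1
  refine ⟨⟨⟨fun a b => Subtype.ext (hf ?_)⟩⟩, fun a ha => hf ?_⟩
  · simpa using congrArg Subtype.val (mul_comm' (⟨f a, a.2⟩ : C) ⟨f b, b.2⟩)
  · rw [map_pow, map_one]; exact hC.2 _ ha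

theorem elem_map {G H : Type*} [Group G] [Group H] (C : Subgroup G) (hC : Cfsg.IsElementaryAbelian 2 C)
    (f : G →* H) : Cfsg.IsElementaryAbelian 2 (C.map f) := by
  have := hC.1
  refine ⟨⟨⟨?_⟩⟩, ?_⟩
  · rintro ⟨_, a, ha, rfl⟩ ⟨_, b, hb, rfl⟩
    refine Subtype.ext ?_
    show f a * f b = f b * f a
    rw [← map_mul, ← map_mul]
    exact congrArg f (congrArg Subtype.val (mul_comm' (⟨a, ha⟩ : C) ⟨b, hb⟩))
  · rintro _ ⟨a, ha, rfl⟩
    rw [← map_pow, hC.2 a ha, map_one]

theorem map_conj_map {G : Type*} [Group G] (H : Subgroup G) (a b : G) :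
    (H.map (MulAut.conj b).toMonoidHom).map (MulAut.conj a).toMonoidHom = H.map (MulAut.conj (a * b)).toMonoidHom := by
  rw [Subgroup.map_map]
  congr 1
  ext x
  simp [mul_assoc]

theorem map_conj_one {G : Type*} [Group G] (H : Subgroup G) : H.map (MulAut.conj (1 : G)).toMonoidHom = H := by
  ext x
  simp

theorem map_conj_of_mem {G : Type*} [Group G] (H : Subgroup G) {h : G} (hh : h ∈ H) :
    H.map (MulAut.conj h).toMonoidHom = H := by
  ext x
  simp only [Subgroup.mem_map_equiv, MulAut.conj_symm_apply]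
  rw [Subgroup.mul_mem_cancel_right H hh, Subgroup.mul_mem_cancel_left H (inv_mem hh)]

theorem mem_normalizer_of_map {G : Type*} [Group G] (H : Subgroup G) {g : G}
    (h : H.map (MulAut.conj g).toMonoidHom = H) : g ∈ Subgroup.normalizer (H : Set G) :=
  Subgroup.mem_normalizer_iff_map_conj_eq.2 h

theorem map_of_mem_normalizer {G : Type*} [Group G] (H : Subgroup G) {g : G}
    (h : g ∈ Subgroup.normalizer (H : Set G)) : H.map (MulAut.conj g).toMonoidHom = H :=
  Subgroup.mem_normalizer_iff_map_conj_eq.1 h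

theorem weakly_closed {G : Type*} [Group G] [Finite G] (S : Sylow 2 G) (X Y : Subgroup G)
    (hXe : Cfsg.IsElementaryAbelian 2 X) (hYe : Cfsg.IsElementaryAbelian 2 Y)
    (hSX : (S : Subgroup G) ≤ Subgroup.normalizer (X : Set G)) (hSY : (S : Subgroup G) ≤ Subgroup.normalizer (Y : Set G))
    (hmax : ∀ C, C ≤ (S : Subgroup G) → Cfsg.IsElementaryAbelian 2 C → X ≤ C → C = X)
    (hext : ∀ C : Subgroup G, C ≤ (S : Subgroup G) → Cfsg.IsElementaryAbelian 2 C → C ≤ X ∨ C ≤ Y)
    (hN : ∀ n ∈ Subgroup.normalizer ((S : Subgroup G) : Set G), X.map (MulAut.conj n).toMonoidHom = X) :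
    ∀ g : G, X.map (MulAut.conj g).toMonoidHom ≤ (S : Subgroup G) → X.map (MulAut.conj g).toMonoidHom = X := by
  have := Fact.mk Nat.prime_two
  intro g hg
  have hcard : ∀ h : G, ∀ Z : Subgroup G, Nat.card ↥(Z.map (MulAut.conj h).toMonoidHom) = Nat.card ↥Z :=
    fun h Z => Subgroup.card_map_of_injective (MulAut.conj h).injective
  rcases hext _ hg (elem_map X hXe _) with h | h
  · exact Subgroup.eq_of_le_of_card_ge h (hcard g X).ge
  -- `X` is contained in a conjugate of `Y`
  have hXY : X ≤ Y.map (MulAut.conj g⁻¹).toMonoidHom := by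
    refine le_trans ?_ (Subgroup.map_mono h)
    rw [map_conj_map, inv_mul_cancel, map_conj_one]
  -- move that conjugate into `S` inside `N(X)`
  have hYN : Y.map (MulAut.conj g⁻¹).toMonoidHom ≤ Subgroup.normalizer (X : Set G) := by
    have he := elem_map Y hYe (MulAut.conj g⁻¹).toMonoidHom
    intro y hy
    have := he.1
    refine Subgroup.centralizer_le_normalizer _ (Subgroup.mem_centralizer_iff.2 fun x hx => ?_)
    exact congrArg Subtype.val (mul_comm' (⟨x, hXY hx⟩ : ↥(Y.map (MulAut.conj g⁻¹).toMonoidHom)) ⟨y, hy⟩)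
  have hYp : IsPGroup 2 ↥(Y.map (MulAut.conj g⁻¹).toMonoidHom) := fun y => ⟨1, Subtype.ext (by
    rw [SubgroupClass.coe_pow, pow_one]
    exact (elem_map Y hYe (MulAut.conj g⁻¹).toMonoidHom).2 _ y.2)⟩
  obtain ⟨R, hR⟩ := IsPGroup.exists_le_sylow
    (hYp.comap_of_injective (Subgroup.normalizer (X : Set G)).subtype (Subgroup.subtype_injective _))
  obtain ⟨n, hn⟩ := MulAction.exists_smul_eq ↥(Subgroup.normalizer (X : Set G)) R (S.subtype hSX)
  have hnS : (Y.map (MulAut.conj g⁻¹).toMonoidHom).map (MulAut.conj (n : G)).toMonoidHom ≤ (S : Subgroup G) := by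
    rintro _ ⟨y, hy, rfl⟩
    have h2 : n * ⟨y, hYN hy⟩ * n⁻¹ ∈ (S.subtype hSX : Subgroup _) := by
      rw [← hn, Sylow.smul_def]
      exact ⟨⟨y, hYN hy⟩, hR hy, rfl⟩
    exact h2
  have hnX : X ≤ (Y.map (MulAut.conj g⁻¹).toMonoidHom).map (MulAut.conj (n : G)).toMonoidHom := by
    exact (map_of_mem_normalizer X n.2).ge.trans (Subgroup.map_mono hXY)
  have heq := hmax _ hnS (elem_map _ (elem_map Y hYe _) _) hnX
  have hXcard : Nat.card ↥Y = Nat.card ↥X := by rw [← heq, hcard, hcard]
  have hgXY : X.map (MulAut.conj g).toMonoidHom = Y :=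
    Subgroup.eq_of_le_of_card_ge h (by rw [hcard, hXcard])
  -- Burnside: the conjugation happens in `N(S)`
  have hS' : ((g⁻¹ • S : Sylow 2 G) : Subgroup G) ≤ Subgroup.normalizer (X : Set G) := by
    intro s hs
    rw [Sylow.coe_subgroup_smul, Subgroup.mem_pointwise_smul_iff_inv_smul_mem] at hs
    have hs' : g * s * g⁻¹ ∈ (S : Subgroup G) := by simpa [mul_assoc] using hs
    have h2 := map_of_mem_normalizer Y (hSY hs')
    rw [← hgXY, map_conj_map] at h2
    refine mem_normalizer_of_map X ?_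
    have h3 := congrArg (Subgroup.map (MulAut.conj g⁻¹).toMonoidHom) h2
    rw [map_conj_map, map_conj_map] at h3
    rw [inv_mul_cancel, map_conj_one, show g⁻¹ * (g * s * g⁻¹ * g) = s by group] at h3
    exact h3
  obtain ⟨m, hm⟩ := MulAction.exists_smul_eq ↥(Subgroup.normalizer (X : Set G)) ((g⁻¹ • S).subtype hS') (S.subtype hSX)
  have hm' : ((m : G) * g⁻¹) • S = S := by
    rw [mul_smul]
    have hle : (((m : G) • g⁻¹ • S : Sylow 2 G) : Subgroup G) ≤ Subgroup.normalizer (X : Set G) := by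
      intro x hx
      rw [Sylow.coe_subgroup_smul, Subgroup.mem_pointwise_smul_iff_inv_smul_mem] at hx
      have h4 := mul_mem (mul_mem m.2 (hS' hx)) (inv_mem m.2)
      simpa [MulAut.smul_def, mul_assoc] using h4
    refine Sylow.subtype_injective (hP := hle) (hQ := hSX) ?_
    rw [← hm, Sylow.smul_subtype]
    rfl
  have h5 := hN _ (inv_mem (Sylow.smul_eq_iff_mem_normalizer.1 hm'))
  rw [mul_inv_rev, inv_inv, ← map_conj_map, map_of_mem_normalizer X (inv_mem m.2)] at h5
  exact h5


/-- Let S be a Sylow 2-subgroup of a finite group G having exactly two subgroups A ≠ B that are maximal among its elementary abelian subgroups, with S = AB. Then A and B are each weakly closed in S with respect to G, and the normalizer of S normalizes both A and B. -/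
theorem result {G : Type*} [Group G] [Finite G] (S : Sylow 2 G)
    (A B : Subgroup ↥(S : Subgroup G)) (hAB : A ≠ B)
    (hA : Cfsg.IsElementaryAbelian 2 A ∧ ∀ C : Subgroup ↥(S : Subgroup G), Cfsg.IsElementaryAbelian 2 C → A ≤ C → C = A)
    (hB : Cfsg.IsElementaryAbelian 2 B ∧ ∀ C : Subgroup ↥(S : Subgroup G), Cfsg.IsElementaryAbelian 2 C → B ≤ C → C = B)
    (honly : ∀ C : Subgroup ↥(S : Subgroup G), Cfsg.IsElementaryAbelian 2 C →
      (∀ D : Subgroup ↥(S : Subgroup G), Cfsg.IsElementaryAbelian 2 D → C ≤ D → D = C) → C = A ∨ C = B)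
    (hprod : ∀ s : ↥(S : Subgroup G), ∃ a ∈ A, ∃ b ∈ B, a * b = s)
    (A' B' : Subgroup G) (hA' : A' = A.map (S : Subgroup G).subtype) (hB' : B' = B.map (S : Subgroup G).subtype) :
    Cfsg.IsWeaklyClosed A' (S : Subgroup G) ∧ Cfsg.IsWeaklyClosed B' (S : Subgroup G) ∧
      Subgroup.normalizer ((S : Subgroup G) : Set G) ≤ Subgroup.normalizer (A' : Set G) ⊓ Subgroup.normalizer (B' : Set G) := by
  have := Fact.mk Nat.prime_two
  have hAS : A' ≤ (S : Subgroup G) := hA' ▸ Subgroup.map_subtype_le _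
  have hBS : B' ≤ (S : Subgroup G) := hB' ▸ Subgroup.map_subtype_le _
  have heA : A'.subgroupOf (S : Subgroup G) = A := by rw [hA', Subgroup.subgroupOf, Subgroup.comap_map_eq_self_of_injective (Subgroup.subtype_injective _)]
  have heB : B'.subgroupOf (S : Subgroup G) = B := by rw [hB', Subgroup.subgroupOf, Subgroup.comap_map_eq_self_of_injective (Subgroup.subtype_injective _)]
  -- maximal elementary abelian subgroups inside `S`
  have hext : ∀ C : Subgroup G, C ≤ (S : Subgroup G) → Cfsg.IsElementaryAbelian 2 C → C ≤ A' ∨ C ≤ B' := by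
    intro C hC hCe
    have he : Cfsg.IsElementaryAbelian 2 (C.subgroupOf (S : Subgroup G)) := elem_comap C hCe (S : Subgroup G).subtype (S : Subgroup G).subtype_injective
    obtain ⟨D, ⟨hDe, hCD⟩, hmax⟩ := Set.Finite.exists_maximalFor id
      {D : Subgroup ↥(S : Subgroup G) | Cfsg.IsElementaryAbelian 2 D ∧ C.subgroupOf (S : Subgroup G) ≤ D} (Set.toFinite _) ⟨_, he, le_rfl⟩
    have hD : D = A ∨ D = B := honly D hDe fun E hE hDE =>
      le_antisymm (hmax (j := E) ⟨hE, hCD.trans hDE⟩ hDE) hDE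
    rcases hD with rfl | rfl
    · left
      intro c hc
      have : (⟨c, hC hc⟩ : ↥(S : Subgroup G)) ∈ D := hCD (Subgroup.mem_subgroupOf.2 hc)
      exact hA' ▸ Subgroup.mem_map_of_mem _ this
    · right
      intro c hc
      have : (⟨c, hC hc⟩ : ↥(S : Subgroup G)) ∈ D := hCD (Subgroup.mem_subgroupOf.2 hc)
      exact hB' ▸ Subgroup.mem_map_of_mem _ this
  have hAe : Cfsg.IsElementaryAbelian 2 A' := hA' ▸ elem_map A hA.1 _
  have hBe : Cfsg.IsElementaryAbelian 2 B' := hB' ▸ elem_map B hB.1 _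
  have hne : A' ≠ B' := fun h => hAB (by rw [← heA, ← heB, h])
  have hmaxA : ∀ C, C ≤ (S : Subgroup G) → Cfsg.IsElementaryAbelian 2 C → A' ≤ C → C = A' := fun C hC hCe hle => by
    refine le_antisymm ?_ hle
    intro c hc
    have := hA.2 (C.subgroupOf (S : Subgroup G)) (elem_comap C hCe (S : Subgroup G).subtype (S : Subgroup G).subtype_injective)
      (heA ▸ Subgroup.comap_mono hle)
    exact hA' ▸ ⟨⟨c, hC hc⟩, this ▸ Subgroup.mem_subgroupOf.2 hc, rfl⟩
  have hmaxB : ∀ C, C ≤ (S : Subgroup G) → Cfsg.IsElementaryAbelian 2 C → B' ≤ C → C = B' := fun C hC hCe hle => by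
    refine le_antisymm ?_ hle
    intro c hc
    have := hB.2 (C.subgroupOf (S : Subgroup G)) (elem_comap C hCe (S : Subgroup G).subtype (S : Subgroup G).subtype_injective)
      (heB ▸ Subgroup.comap_mono hle)
    exact hB' ▸ ⟨⟨c, hC hc⟩, this ▸ Subgroup.mem_subgroupOf.2 hc, rfl⟩
  have hperm : ∀ g ∈ Subgroup.normalizer ((S : Subgroup G) : Set G),
      (A'.map (MulAut.conj g).toMonoidHom = A' ∨ A'.map (MulAut.conj g).toMonoidHom = B') ∧
      (B'.map (MulAut.conj g).toMonoidHom = A' ∨ B'.map (MulAut.conj g).toMonoidHom = B') := by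
    intro g hg
    have key : ∀ X : Subgroup G, X ≤ (S : Subgroup G) → Cfsg.IsElementaryAbelian 2 X →
        (∀ C, C ≤ (S : Subgroup G) → Cfsg.IsElementaryAbelian 2 C → X ≤ C → C = X) →
        X.map (MulAut.conj g).toMonoidHom = A' ∨ X.map (MulAut.conj g).toMonoidHom = B' := by
      intro X hX hXe hXm
      have hXS : X.map (MulAut.conj g).toMonoidHom ≤ (S : Subgroup G) := by
        rintro _ ⟨x, hx, rfl⟩
        exact (Subgroup.mem_normalizer_iff.1 hg x).1 (hX hx)
      have back : ∀ Y : Subgroup G, Y ≤ (S : Subgroup G) → Cfsg.IsElementaryAbelian 2 Y →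
          X.map (MulAut.conj g).toMonoidHom ≤ Y → X.map (MulAut.conj g).toMonoidHom = Y := by
        intro Y hY hYe hle
        have h1 := hXm (Y.map (MulAut.conj g⁻¹).toMonoidHom) ?_ (elem_map Y hYe _) ?_
        · rw [← h1, map_conj_map, mul_inv_cancel, map_conj_one]
        · rintro _ ⟨y, hy, rfl⟩
          exact (Subgroup.mem_normalizer_iff.1 (inv_mem hg) y).1 (hY hy)
        · refine le_trans ?_ (Subgroup.map_mono hle)
          rw [map_conj_map, inv_mul_cancel, map_conj_one]
      rcases hext _ hXS (elem_map X hXe _) with h | h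
      · exact Or.inl (back A' hAS hAe h)
      · exact Or.inr (back B' hBS hBe h)
    exact ⟨key A' hAS hAe hmaxA, key B' hBS hBe hmaxB⟩
  have hSfix : ∀ s ∈ (S : Subgroup G), A'.map (MulAut.conj s).toMonoidHom = A' := by
    intro s hs
    obtain ⟨a, ha, b, hb, hab⟩ := hprod ⟨s, hs⟩
    have haA : (a : G) ∈ A' := hA' ▸ Subgroup.mem_map_of_mem _ ha
    have hbB : (b : G) ∈ B' := hB' ▸ Subgroup.mem_map_of_mem _ hb
    have hs' : s = (a : G) * (b : G) := (congrArg Subtype.val hab).symm
    have hbA : A'.map (MulAut.conj (b : G)).toMonoidHom = A' := by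
      rcases (hperm _ (Subgroup.le_normalizer (hBS hbB))).1 with h | h
      · exact h
      · exfalso
        have h1 := map_conj_of_mem B' hbB
        rw [← h] at h1
        exact hne ((Subgroup.map_injective (MulAut.conj (b : G)).injective) (h.trans (map_conj_of_mem B' hbB).symm))
    rw [hs', ← map_conj_map, hbA]
    exact map_conj_of_mem A' haA
  have hNS : ∀ g ∈ Subgroup.normalizer ((S : Subgroup G) : Set G), A'.map (MulAut.conj g).toMonoidHom = A' ∧
      B'.map (MulAut.conj g).toMonoidHom = B' := by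
    intro g hg
    have hA1 : A'.map (MulAut.conj g).toMonoidHom = A' := by
      by_contra hn
      have h1 : A'.map (MulAut.conj g).toMonoidHom = B' := (hperm g hg).1.resolve_left hn
      have h2 : B'.map (MulAut.conj g).toMonoidHom = A' := by
        rcases (hperm g hg).2 with h | h
        · exact h
        · exact absurd ((Subgroup.map_injective (MulAut.conj g).injective) (h1.trans h.symm)) hne
      obtain ⟨k, m, hm, hkm⟩ := Nat.exists_eq_two_pow_mul_odd (orderOf_pos g).ne'
      have hswap : ∀ j : ℕ, A'.map (MulAut.conj (g ^ (2 * j + 1))).toMonoidHom = B' := by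
        intro j
        induction j with
        | zero => simpa using h1
        | succ j ih =>
          rw [show g ^ (2 * (j + 1) + 1) = g * g * g ^ (2 * j + 1) by rw [← pow_two, ← pow_add]; congr 1; omega,
            ← map_conj_map, ih, ← map_conj_map, h2, h1]
      obtain ⟨j, rfl⟩ := hm
      have hmS : g ^ (2 * j + 1) ∈ (S : Subgroup G) := by
        have hmN : g ^ (2 * j + 1) ∈ Subgroup.normalizer ((S : Subgroup G) : Set G) := pow_mem hg _
        have hp : IsPGroup 2 ↥(Subgroup.zpowers (g ^ (2 * j + 1))) :=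
          IsPGroup.of_card (n := k) (by
            rw [Nat.card_zpowers, orderOf_pow' _ (by omega), hkm, Nat.gcd_mul_left_left,
              Nat.mul_div_cancel _ (by omega)])
        have h3 := S.3 (hp.to_sup_of_normal_right' S.2 (Subgroup.zpowers_le.2 hmN)) le_sup_right
        exact h3.le (Subgroup.mem_sup_left (Subgroup.mem_zpowers _))
      exact hne ((hSfix _ hmS).symm.trans (hswap j))
    refine ⟨hA1, ?_⟩
    rcases (hperm g hg).2 with h | h
    · exact absurd ((Subgroup.map_injective (MulAut.conj g).injective) (hA1.trans h.symm)) hne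
    · exact h
  have hSA : (S : Subgroup G) ≤ Subgroup.normalizer (A' : Set G) := fun s hs => mem_normalizer_of_map A' (hNS s (Subgroup.le_normalizer hs)).1
  have hSB : (S : Subgroup G) ≤ Subgroup.normalizer (B' : Set G) := fun s hs => mem_normalizer_of_map B' (hNS s (Subgroup.le_normalizer hs)).2
  refine ⟨⟨hAS, ?_⟩, ⟨hBS, ?_⟩, fun g hg =>
    ⟨mem_normalizer_of_map A' (hNS g hg).1, mem_normalizer_of_map B' (hNS g hg).2⟩⟩
  · exact weakly_closed S A' B' hAe hBe hSA hSB hmaxA hext fun n hn => (hNS n hn).1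
  · exact weakly_closed S B' A' hBe hAe hSB hSA hmaxB (fun C h h' => (hext C h h').symm) fun n hn => (hNS n hn).2

end Cfsg.Agent.S3203
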