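import Cfsg.Statements.S3206
import Cfsg.Agent.S4593
import Cfsg.Agent.S0276
import Cfsg.Agent.S0803
import Cfsg.Agent.S2602
import Cfsg.Agent.Lib.Linear.PSLSmall
import Cfsg.Agent.Lib.Linear.SLBasic
import Cfsg.Agent.Lib.Linear.AutPSL.Out
import Cfsg.Agent.Lib.Sig.LayerLocal
import Cfsg.Agent.Lib.Fusion.Abelian
import Cfsg.Agent.Lib.Core.Cores
-- import your own Cfsg.Agent.* helpers here

set_option autoImplicit false
open Cfsg

namespace Cfsg.Agent.S3206

open Subgroup
open scoped commutatorElement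

theorem perfect_of_simple {H : Type*} [Group H] [IsSimpleGroup H] (hH : ¬ IsMulCommutative H) :
    commutator H = ⊤ := by
  refine (IsSimpleGroup.eq_bot_or_eq_top_of_normal (commutator H) inferInstance).resolve_left fun h => hH ?_
  exact ⟨⟨fun a b => commutatorElement_eq_one_iff_mul_comm.1 (by
    rw [← mem_bot, ← h]
    exact commutator_mem_commutator (mem_top a) (mem_top b))⟩⟩

/-- An invariant character of an abelian Sylow 2-subgroup of a perfect group is trivial. -/
theorem char_trivial {H : Type*} [Group H] [Finite H] (hH : commutator H = ⊤) (S : Sylow 2 H)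
    [IsMulCommutative (S : Subgroup H)] {M : Type*} [Group M] (χ : H → M)
    (hmul : ∀ x ∈ (S : Subgroup H), ∀ y ∈ (S : Subgroup H), χ (x * y) = χ x * χ y)
    (hinv : ∀ n ∈ normalizer ((S : Subgroup H) : Set H), ∀ x ∈ (S : Subgroup H), χ (n * x * n⁻¹) = χ x) :
    ∀ x ∈ (S : Subgroup H), χ x = 1 := by
  haveI : Fact (Nat.Prime 2) := ⟨Nat.prime_two⟩
  have h := Cfsg.Lib.Fusion.pResidual_inf_eq_of_abelian S
  rw [Cfsg.Lib.Sig.pResidual_eq_top_of_perfect hH, top_inf_eq] at h
  let f : ↥(S : Subgroup H) →* M := MonoidHom.mk' (fun x => χ x) fun a b => hmul a a.2 b b.2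
  have hle : ⁅(S : Subgroup H), normalizer ((S : Subgroup H) : Set H)⁆ ≤ f.ker.map (S : Subgroup H).subtype := by
    rw [commutator_le]
    intro x hx n hn
    have h1 : n * x⁻¹ * n⁻¹ ∈ (S : Subgroup H) := (mem_normalizer_iff.1 hn _).1 (inv_mem hx)
    refine ⟨⟨⁅x, n⁆, by rw [commutatorElement_def]; simpa [mul_assoc] using mul_mem hx h1⟩, ?_, rfl⟩
    rw [SetLike.mem_coe, MonoidHom.mem_ker]
    show χ ⁅x, n⁆ = 1
    rw [commutatorElement_def, show x * n * x⁻¹ * n⁻¹ = x * (n * x⁻¹ * n⁻¹) by group, hmul _ hx _ h1,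
      hinv n hn _ (inv_mem hx), ← hmul _ hx _ (inv_mem hx), mul_inv_cancel]
    exact (map_one f :)
  intro x hx
  obtain ⟨y, hy, rfl⟩ := hle (h ▸ hx)
  exact hy

/-- An involution in an abelian Sylow 2-subgroup of a simple group is moved by the normaliser. -/
theorem exists_moved {H : Type*} [Group H] [Finite H] [IsSimpleGroup H] (hH : ¬ IsMulCommutative H)
    (S : Sylow 2 H) [hS : IsMulCommutative (S : Subgroup H)] {t : H} (ht : orderOf t = 2)
    (htS : t ∈ (S : Subgroup H)) : ∃ n ∈ normalizer ((S : Subgroup H) : Set H), n * t * n⁻¹ ≠ t := by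
  classical
  haveI : Fact (Nat.Prime 2) := ⟨Nat.prime_two⟩
  by_contra hcon
  push_neg at hcon
  have key : ∀ (k : ℕ) (g₀ : H), g₀⁻¹ * t ^ k * g₀ ∈ (S : Subgroup H) → g₀⁻¹ * t ^ k * g₀ = t ^ k := by
    intro k g₀ hy
    obtain ⟨n, hn, e⟩ := S.conj_eq_normalizer_conj_of_mem (t ^ k) g₀ (pow_mem htS k) hy
    rw [e]
    have h := hcon n hn
    have hc : n * t = t * n := mul_inv_eq_iff_eq_mul.1 h
    rw [show n⁻¹ * t ^ k * n = n⁻¹ * (t ^ k * n) by group,
      ← ((show Commute n t from hc).pow_right k).eq, inv_mul_cancel_left]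
  let _ : CommGroup ↥(S : Subgroup H) :=
    { (inferInstance : Group ↥(S : Subgroup H)) with mul_comm := fun a b => hS.is_comm.comm a b }
  let φ := MonoidHom.transfer (MonoidHom.id ↥(S : Subgroup H))
  have h1 : φ t = 1 := by
    have hle := Abelianization.commutator_subset_ker φ
    rw [perfect_of_simple hH] at hle
    exact hle (mem_top t)
  rw [show φ t = _ from MonoidHom.transfer_eq_pow _ t key, MonoidHom.id_apply] at h1
  have h2 : t ^ (S : Subgroup H).index = 1 := congrArg Subtype.val h1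
  rw [← orderOf_dvd_iff_pow_eq_one, ht] at h2
  exact S.not_dvd_index h2

theorem PSL_simple' {F : Type*} [Field F] [Fintype F] (hF3 : 3 < Fintype.card F) :
    IsSimpleGroup (Matrix.ProjectiveSpecialLinearGroup (Fin 2) F) :=
  Cfsg.Lib.Linear.PSL_simple 2 le_rfl fun _ => by rw [Nat.card_eq_fintype_card]; omega

section Aut

open Cfsg.Lib.Linear.AutPSL Matrix

variable {F : Type*} [Field F] [Fintype F]

theorem q_mod (hFo : Odd (Fintype.card F))
    (hab : ∀ S : Sylow 2 (ProjectiveSpecialLinearGroup (Fin 2) F), IsMulCommutative ↥(S : Subgroup (ProjectiveSpecialLinearGroup (Fin 2) F))) :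
    Fintype.card F % 8 = 3 ∨ Fintype.card F % 8 = 5 := by
  classical
  by_contra hcon
  have hq : Fintype.card F % 2 = 1 := Nat.odd_iff.1 hFo
  have h16 : Fintype.card F ^ 2 % 16 = 1 := by
    obtain ⟨k, hk⟩ : ∃ k, Fintype.card F = 8 * k + 1 ∨ Fintype.card F = 8 * k + 7 :=
      ⟨Fintype.card F / 8, by omega⟩
    rcases hk with hk | hk <;> rw [hk] <;> ring_nf <;> omega
  obtain ⟨H, ⟨e⟩⟩ := (Cfsg.Agent.S0803.result (F := F) rfl).2 h16
  haveI : Fact (Nat.Prime 2) := ⟨Nat.prime_two⟩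
  let a : Equiv.Perm (Fin 4) := finRotate 4
  let b : Equiv.Perm (Fin 4) := Equiv.swap 0 2
  have hba : b * a * b⁻¹ = a⁻¹ := by decide
  have hne : a * b ≠ b * a := by decide
  have ha : IsPGroup 2 (zpowers a) := IsPGroup.of_card (n := 2) (by
    rw [Nat.card_zpowers]; exact orderOf_eq_prime_pow (p := 2) (n := 1) (by decide) (by decide))
  have hb : IsPGroup 2 (zpowers b) := IsPGroup.of_card (n := 1) (by
    rw [Nat.card_zpowers]; exact orderOf_eq_prime (by decide) (by decide))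
  have hnorm : zpowers b ≤ normalizer (zpowers a : Set (Equiv.Perm (Fin 4))) := by
    rw [zpowers_le, mem_normalizer_iff_map_conj_eq, MonoidHom.map_zpowers]
    exact (congrArg zpowers (show _ = a⁻¹ from hba)).trans zpowers_inv
  have hP : IsPGroup 2 (zpowers a ⊔ zpowers b : Subgroup _) := ha.to_sup_of_normal_left' hb hnorm
  let g : Equiv.Perm (Fin 4) →* ProjectiveSpecialLinearGroup (Fin 2) F := H.subtype.comp e.symm.toMonoidHom
  have hg : Function.Injective g := H.subtype_injective.comp e.symm.injective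
  obtain ⟨S, hS⟩ := (hP.map g).exists_le_sylow
  have hc := (hab S).is_comm.comm
    ⟨g a, hS (mem_map_of_mem g (mem_sup_left (mem_zpowers a)))⟩
    ⟨g b, hS (mem_map_of_mem g (mem_sup_right (mem_zpowers b)))⟩
  exact hne (hg (by rw [map_mul, map_mul]; exact congrArg Subtype.val hc))

/-- Two automorphisms generating a dihedral group of order eight. -/
theorem exists_noncomm (hFo : Odd (Fintype.card F)) :
    ∃ α β : MulAut (ProjectiveSpecialLinearGroup (Fin 2) F), α ^ 4 = 1 ∧ β * β = 1 ∧ β * α * β⁻¹ = α⁻¹ ∧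
      α * β ≠ β * α := by
  classical
  have h2 : (2 : F) ≠ 0 := Cfsg.Lib.Dickson.two_ne_zero_of_odd (Nat.odd_iff.1 hFo)
  let R : GL (Fin 2) F := GeneralLinearGroup.mk'' !![1, 1; -1, 1] (by
    rw [det_fin_two]; simp; rw [show (1 : F) + 1 = 2 by norm_num]; exact h2)
  let J : GL (Fin 2) F := GeneralLinearGroup.mk'' !![0, 1; 1, 0] (by simp [det_fin_two])
  have e4 : (innd (R ^ 4) : MulAut (ProjectiveSpecialLinearGroup (Fin 2) F)) = 1 := innd_scalar ⟨-4, by
    rw [Units.val_pow_eq_pow_val, show (R : Matrix (Fin 2) (Fin 2) F) = !![1, 1; -1, 1] from rfl]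
    ext i j
    fin_cases i <;> fin_cases j <;> simp [pow_succ, Matrix.mul_apply, Fin.sum_univ_two] <;> ring⟩
  have eJ : J * J = 1 := Units.ext (by
    show (!![0, 1; 1, 0] : Matrix (Fin 2) (Fin 2) F) * !![0, 1; 1, 0] = 1
    ext i j; fin_cases i <;> fin_cases j <;> simp [Matrix.mul_apply, Fin.sum_univ_two])
  have eRJ : (innd (J * R * J * R) : MulAut (ProjectiveSpecialLinearGroup (Fin 2) F)) = 1 := innd_scalar ⟨2, by
    show _ = (!![0, 1; 1, 0] : Matrix (Fin 2) (Fin 2) F) * !![1, 1; -1, 1] * !![0, 1; 1, 0] * !![1, 1; -1, 1]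
    ext i j
    fin_cases i <;> fin_cases j <;> simp [Matrix.mul_apply, Fin.sum_univ_two] <;> ring⟩
  refine ⟨innd R, innd J, by rw [← map_pow, e4], by rw [← map_mul, eJ, map_one], ?_, ?_⟩
  · have hJ : (innd J)⁻¹ = (innd J : MulAut (ProjectiveSpecialLinearGroup (Fin 2) F)) :=
      inv_eq_of_mul_eq_one_right (by rw [← map_mul, eJ, map_one])
    rw [hJ]
    refine eq_inv_of_mul_eq_one_left ?_
    rw [← map_mul, ← map_mul, ← map_mul, eRJ]
  · intro hc
    have h1 : (innd (R ^ 2) : MulAut (ProjectiveSpecialLinearGroup (Fin 2) F)) = 1 := by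
      rw [← eRJ, map_pow, map_mul, map_mul, map_mul, pow_two]
      calc innd R * innd R = innd R * (innd J * innd J) * innd R := by rw [← map_mul innd J, eJ, map_one, mul_one]
        _ = innd J * innd R * innd J * innd R := by rw [← mul_assoc (innd R), hc]
    obtain ⟨r, hr⟩ := innd_eq_one h1
    have h01 := congrFun (congrFun hr 0) 1
    rw [Units.val_pow_eq_pow_val, show (R : Matrix (Fin 2) (Fin 2) F) = !![1, 1; -1, 1] from rfl] at h01
    simp [pow_two, Matrix.mul_apply, Fin.sum_univ_two] at h01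
    exact h2 (by linear_combination -h01)

/-- The facts about the automorphism group used below. -/
theorem aut_facts (hFo : Odd (Fintype.card F)) (hF3 : 3 < Fintype.card F)
    (hab : ∀ S : Sylow 2 (ProjectiveSpecialLinearGroup (Fin 2) F), IsMulCommutative ↥(S : Subgroup (ProjectiveSpecialLinearGroup (Fin 2) F))) :
    (∀ V : Sylow 2 (ProjectiveSpecialLinearGroup (Fin 2) F), Nat.card ↥(V : Subgroup (ProjectiveSpecialLinearGroup (Fin 2) F)) = 4) ∧
      ∀ A : Subgroup (MulAut (ProjectiveSpecialLinearGroup (Fin 2) F)),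
        IsPGroup 2 A → IsMulCommutative A → Nat.card A ≤ 4 := by
  classical
  haveI : Fact (Nat.Prime 2) := ⟨Nat.prime_two⟩
  have hq := q_mod hFo hab
  have hV : ∀ V : Sylow 2 (ProjectiveSpecialLinearGroup (Fin 2) F), Nat.card ↥(V : Subgroup (ProjectiveSpecialLinearGroup (Fin 2) F)) = 4 := fun V =>
    (Cfsg.Agent.S0276.result rfl hq V).card_four
  refine ⟨hV, fun A hA hcomm => ?_⟩
  obtain ⟨p, hp⟩ := CharP.exists F
  haveI : Fact p.Prime := ⟨(CharP.char_is_prime_or_zero F p).resolve_right (CharP.char_ne_zero_of_finite F p)⟩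
  obtain ⟨f, -, hf⟩ := FiniteField.card F p
  obtain ⟨φ, hφs, -, hker⟩ := Cfsg.Agent.S2602.result (p := p) (f := f) f.pos hf (hf ▸ hF3)
  have hfodd : ¬ 2 ∣ (f : ℕ) := by
    rintro ⟨k, hk⟩
    rw [hk, mul_comm, pow_mul] at hf
    have hpo : (p ^ k) % 2 = 1 := by
      rw [hf, Nat.odd_pow_iff two_ne_zero, Nat.odd_iff] at hFo
      exact hFo
    obtain ⟨j, hj⟩ : ∃ j, p ^ k = 2 * j + 1 := ⟨p ^ k / 2, by omega⟩
    rw [hf, hj, show (2 * j + 1) ^ 2 = 4 * (j * (j + 1)) + 1 by ring] at hq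
    obtain ⟨i, hi⟩ := Nat.even_mul_succ_self j
    rw [hi] at hq; omega
  have hN : ∀ V : Sylow 2 (ProjectiveSpecialLinearGroup (Fin 2) F),
      Nat.card (ProjectiveSpecialLinearGroup (Fin 2) F) = 4 * (V : Subgroup (ProjectiveSpecialLinearGroup (Fin 2) F)).index := fun V => by
    rw [← (V : Subgroup (ProjectiveSpecialLinearGroup (Fin 2) F)).card_mul_index, hV]
  obtain ⟨V⟩ := (inferInstance : Nonempty (Sylow 2 (ProjectiveSpecialLinearGroup (Fin 2) F)))
  haveI := PSL_simple' (F := F) hF3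
  haveI : Finite (MulAut (ProjectiveSpecialLinearGroup (Fin 2) F)) := Finite.of_injective _ DFunLike.coe_injective
  have hinn : Nat.card (Cfsg.Inn (ProjectiveSpecialLinearGroup (Fin 2) F)) =
      Nat.card (ProjectiveSpecialLinearGroup (Fin 2) F) := by
    refine (Nat.card_congr (MonoidHom.ofInjective ?_).toEquiv).symm
    rw [← MonoidHom.ker_eq_bot_iff]
    refine (IsSimpleGroup.eq_bot_or_eq_top_of_normal _ inferInstance).resolve_right fun e => ?_
    have hc : ∀ x y : ProjectiveSpecialLinearGroup (Fin 2) F, x * y = y * x := fun x y => by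
      have h := MonoidHom.mem_ker.1 (e ▸ mem_top x : x ∈ (MulAut.conj (G := ProjectiveSpecialLinearGroup (Fin 2) F)).ker)
      have h2 := congrArg (fun φ : MulAut (ProjectiveSpecialLinearGroup (Fin 2) F) => φ y) h
      simp only [MulAut.conj_apply, MulAut.one_apply] at h2
      exact mul_inv_eq_iff_eq_mul.1 h2
    let _ : CommGroup (ProjectiveSpecialLinearGroup (Fin 2) F) :=
      { (inferInstance : Group (ProjectiveSpecialLinearGroup (Fin 2) F)) with mul_comm := hc }
    have hp := IsSimpleGroup.prime_card (α := ProjectiveSpecialLinearGroup (Fin 2) F)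
    rw [hN V] at hp
    rcases (Nat.dvd_prime hp).1 (dvd_mul_right 4 _) with h | h
    · norm_num at h
    · rw [← h] at hp; norm_num at hp
  have hcardAut : Nat.card (MulAut (ProjectiveSpecialLinearGroup (Fin 2) F)) =
      8 * ((f : ℕ) * (V : Subgroup (ProjectiveSpecialLinearGroup (Fin 2) F)).index) := by
    rw [(Cfsg.Inn (ProjectiveSpecialLinearGroup (Fin 2) F)).card_eq_card_quotient_mul_card_subgroup, hinn, hN V,
      φ.ker.card_eq_card_quotient_mul_card_subgroup,
      Nat.card_congr (QuotientGroup.quotientKerEquivOfSurjective φ hφs).toEquiv, Nat.card_congr Multiplicative.toAdd,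
      Nat.card_zmod, hker, Nat.gcd_eq_left (by
        have : 1 ≤ p ^ (f : ℕ) := Nat.one_le_pow _ _ (Fact.out : p.Prime).pos
        have := Nat.odd_iff.1 (hf ▸ hFo : Odd (p ^ (f : ℕ)))
        omega)]
    ring
  have hodd : ¬ 2 ∣ (f : ℕ) * (V : Subgroup (ProjectiveSpecialLinearGroup (Fin 2) F)).index := fun h =>
    ((Nat.Prime.dvd_mul Nat.prime_two).1 h).elim hfodd V.not_dvd_index
  have h8 : ∀ P : Sylow 2 (MulAut (ProjectiveSpecialLinearGroup (Fin 2) F)), Nat.card ↥(P : Subgroup (MulAut (ProjectiveSpecialLinearGroup (Fin 2) F))) = 8 := by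
    intro P
    rw [P.card_eq_multiplicity, hcardAut, Nat.factorization_mul (by norm_num) (fun h => hodd (by rw [h]; exact dvd_zero 2)),
      Finsupp.add_apply, Nat.factorization_eq_zero_of_not_dvd hodd, show (8 : ℕ) = 2 ^ 3 by norm_num,
      Nat.Prime.factorization_pow Nat.prime_two, Finsupp.single_eq_same]
  obtain ⟨P, hP⟩ := hA.exists_le_sylow
  obtain ⟨k, hk⟩ := IsPGroup.iff_card.1 hA
  have hdvd : Nat.card A ∣ 8 := h8 P ▸ card_dvd_of_le hP
  by_contra hgt
  have hk3 : k ≤ 3 := (Nat.pow_dvd_pow_iff_le_right (by norm_num)).1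
    (show 2 ^ k ∣ 2 ^ 3 by rw [← hk]; exact hdvd)
  have hA8 : Nat.card A = 8 := by
    interval_cases k <;> omega
  have hAP : A = (P : Subgroup (MulAut (ProjectiveSpecialLinearGroup (Fin 2) F))) := eq_of_le_of_card_ge hP (by rw [h8, hA8])
  obtain ⟨α, β, hα, hβ, hrel, hne⟩ := exists_noncomm hFo
  have hnorm : zpowers β ≤ normalizer (zpowers α : Set (MulAut (ProjectiveSpecialLinearGroup (Fin 2) F))) := by
    rw [zpowers_le, mem_normalizer_iff_map_conj_eq, MonoidHom.map_zpowers]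
    exact (congrArg zpowers (show _ = α⁻¹ from hrel)).trans zpowers_inv
  have hp : ∀ (γ : MulAut (ProjectiveSpecialLinearGroup (Fin 2) F)) (m : ℕ), γ ^ 2 ^ m = 1 →
      IsPGroup 2 (zpowers γ) := fun γ m h => by
    obtain ⟨i, -, hi⟩ := (Nat.dvd_prime_pow Nat.prime_two).1 (orderOf_dvd_of_pow_eq_one h)
    exact IsPGroup.of_card (n := i) (by rw [Nat.card_zpowers, hi])
  have hD : IsPGroup 2 (zpowers α ⊔ zpowers β : Subgroup _) :=
    (hp α 2 hα).to_sup_of_normal_left' (hp β 1 (by rw [pow_one, pow_two, hβ])) hnorm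
  obtain ⟨Q, hQ⟩ := hD.exists_le_sylow
  obtain ⟨g, hg⟩ := MulAction.exists_smul_eq (MulAut (ProjectiveSpecialLinearGroup (Fin 2) F)) P Q
  have hQc : ∀ x ∈ (Q : Subgroup (MulAut (ProjectiveSpecialLinearGroup (Fin 2) F))), ∀ y ∈ (Q : Subgroup (MulAut (ProjectiveSpecialLinearGroup (Fin 2) F))), x * y = y * x := by
    rw [← hg, Sylow.coe_subgroup_smul]
    rintro _ ⟨x, hx, rfl⟩ _ ⟨y, hy, rfl⟩
    show MulAut.conj g x * MulAut.conj g y = MulAut.conj g y * MulAut.conj g x
    rw [← map_mul, ← map_mul]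
    rw [SetLike.mem_coe, ← hAP] at hx hy
    exact congrArg _ (congrArg Subtype.val (hcomm.is_comm.comm ⟨x, hx⟩ ⟨y, hy⟩))
  exact hne (hQc _ (hQ (mem_sup_left (mem_zpowers α))) _ (hQ (mem_sup_right (mem_zpowers β))))

end Aut

section Structure

variable {G : Type*} [Group G] [Finite G]

theorem comm_of_pgroup (hab : ∀ S : Sylow 2 G, IsMulCommutative ↥(S : Subgroup G)) {H : Type*} [Group H]
    (P : Subgroup H) (hP : IsPGroup 2 P) (ι : H →* G) (hι : Function.Injective ι) : IsMulCommutative P := by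
  obtain ⟨S, hS⟩ := (hP.map ι).exists_le_sylow
  exact ⟨⟨fun a b => Subtype.ext (hι (by
    rw [Subgroup.coe_mul, Subgroup.coe_mul, map_mul, map_mul]
    exact congrArg Subtype.val ((hab S).is_comm.comm ⟨ι a, hS (mem_map_of_mem ι a.2)⟩
      ⟨ι b, hS (mem_map_of_mem ι b.2)⟩)))⟩⟩

/-- A Sylow 2-subgroup is the product of the involution and a Sylow subgroup of the normal subgroup. -/
theorem exists_structure (hab : ∀ S : Sylow 2 G, IsMulCommutative ↥(S : Subgroup G)) (t : G) (ht : orderOf t = 2)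
    (E : Subgroup G) (hE : Cfsg.IsInternalDirectProduct (Subgroup.zpowers t) E (Subgroup.centralizer ({t} : Set G)))
    {F : Type*} [Field F] [Fintype F] (hFo : Odd (Fintype.card F)) (hF3 : 3 < Fintype.card F)
    (N : Subgroup ↥E) [N.Normal] (e : ↥N ≃* Matrix.ProjectiveSpecialLinearGroup (Fin 2) F)
    (hNc : Subgroup.centralizer (N : Set ↥E) = ⊥) :
    ∃ (ι : ↥N →* G) (S : Sylow 2 G) (V : Sylow 2 ↥N), Nat.card ↥(V : Subgroup ↥N) = 4 ∧
      Function.Injective ι ∧ (∀ x, ι x * t = t * ι x) ∧ t ∈ (S : Subgroup G) ∧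
      (V : Subgroup ↥N).map ι ≤ (S : Subgroup G) ∧
      ∀ x ∈ (S : Subgroup G), ∃ i : ℤ, ∃ v ∈ (V : Subgroup ↥N).map ι, x = t ^ i * v := by
  classical
  haveI : Fact (Nat.Prime 2) := ⟨Nat.prime_two⟩
  obtain ⟨-, hEC, hcomm, hdisj, hsup⟩ := hE
  let ι : ↥N →* G := E.subtype.comp N.subtype
  have hι : Function.Injective ι := E.subtype_injective.comp N.subtype_injective
  have habN : ∀ S : Sylow 2 (Matrix.ProjectiveSpecialLinearGroup (Fin 2) F), IsMulCommutative ↥(S : Subgroup (Matrix.ProjectiveSpecialLinearGroup (Fin 2) F)) :=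
    fun S => comm_of_pgroup hab _ S.2 (ι.comp e.symm.toMonoidHom) (hι.comp e.symm.injective)
  obtain ⟨h4, hAut⟩ := aut_facts hFo hF3 habN
  obtain ⟨V⟩ := (inferInstance : Nonempty (Sylow 2 ↥N))
  obtain ⟨V', hV'⟩ := (V.2.map e.toMonoidHom).exists_le_sylow
  have hV4 : Nat.card ↥(V : Subgroup ↥N) = 4 := by
    rw [V.card_eq_multiplicity, Nat.card_congr e.toEquiv, ← V'.card_eq_multiplicity, h4]
  obtain ⟨P, hP⟩ := (V.2.map N.subtype).exists_le_sylow
  -- the Sylow subgroup of the complement is small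
  let j : ↥E →* MulAut (Matrix.ProjectiveSpecialLinearGroup (Fin 2) F) :=
    (MulAut.congr e).toMonoidHom.comp MulAut.conjNormal
  have hj : Function.Injective j := by
    refine (MulAut.congr e).injective.comp ((MonoidHom.ker_eq_bot_iff _).1 ?_)
    rw [eq_bot_iff, ← hNc]
    intro x hx
    rw [mem_centralizer_iff]
    intro y hy
    have h1 := congrArg (fun φ : MulAut ↥N => ((φ ⟨y, hy⟩ : ↥N) : ↥E)) (MonoidHom.mem_ker.1 hx)
    simp only [MulAut.conjNormal_apply, MulAut.one_apply] at h1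
    exact (mul_inv_eq_iff_eq_mul.1 h1).symm
  have hPc : IsMulCommutative (P : Subgroup ↥E) := comm_of_pgroup hab _ P.2 E.subtype E.subtype_injective
  have hPcard : Nat.card ↥(P : Subgroup ↥E) ≤ 4 := by
    rw [← Subgroup.card_map_of_injective hj]
    refine hAut _ (P.2.map j) ⟨⟨fun a b => Subtype.ext ?_⟩⟩
    obtain ⟨x, hx, hxa⟩ := a.2
    obtain ⟨y, hy, hyb⟩ := b.2
    rw [Subgroup.coe_mul, Subgroup.coe_mul]
    rw [← hxa, ← hyb, ← map_mul, ← map_mul]
    exact congrArg j (congrArg Subtype.val (hPc.is_comm.comm ⟨x, hx⟩ ⟨y, hy⟩))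
  have hPV : (V : Subgroup ↥N).map N.subtype = (P : Subgroup ↥E) :=
    eq_of_le_of_card_ge hP (by rw [Subgroup.card_map_of_injective N.subtype_injective, hV4]; exact hPcard)
  -- a Sylow subgroup containing both
  have htc : ∀ x : ↥E, (x : G) * t = t * x := fun x => (hcomm t (mem_zpowers t) x x.2).symm
  have hpt : IsPGroup 2 (zpowers t) := IsPGroup.of_card (n := 1) (by rw [Nat.card_zpowers, ht, pow_one])
  have hnorm : (P : Subgroup ↥E).map E.subtype ≤ normalizer (zpowers t : Set G) := by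
    rintro _ ⟨x, -, rfl⟩
    rw [mem_normalizer_iff_map_conj_eq, MonoidHom.map_zpowers]
    refine congrArg zpowers ?_
    show (x : G) * t * (x : G)⁻¹ = t
    rw [htc, mul_inv_cancel_right]
  obtain ⟨S, hS⟩ := (hpt.to_sup_of_normal_left' (P.2.map E.subtype) hnorm).exists_le_sylow
  refine ⟨ι, S, V, hV4, hι, fun x => htc _, hS (mem_sup_left (mem_zpowers t)), ?_, ?_⟩
  · rw [← Subgroup.map_map, hPV]
    exact le_sup_right.trans hS
  intro x hx
  rw [← Subgroup.map_map, hPV]
  have htS : t ∈ (S : Subgroup G) := hS (mem_sup_left (mem_zpowers t))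
  have hxC : x ∈ centralizer ({t} : Set G) := mem_centralizer_singleton_iff.2
    (congrArg Subtype.val ((hab S).is_comm.comm ⟨x, hx⟩ ⟨t, htS⟩))
  let φ : ↥(zpowers t) × ↥E →* G := MonoidHom.noncommCoprod (zpowers t).subtype E.subtype
    fun a b => hcomm _ a.2 _ b.2
  have hr : φ.range = centralizer ({t} : Set G) := by
    rw [show φ.range = _ from MonoidHom.noncommCoprod_range _ _ _, range_subtype, range_subtype, hsup]
  obtain ⟨⟨a, b⟩, rfl⟩ : x ∈ φ.range := hr ▸ hxC
  obtain ⟨i, hi⟩ := a.2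
  refine ⟨i, b, ?_, by show (a : G) * (b : G) = _; rw [← show t ^ i = (a : G) from hi]⟩
  have hb : (b : G) ∈ (S : Subgroup G) := by
    have h := mul_mem (inv_mem (zpow_mem htS i)) hx
    rwa [show φ (a, b) = t ^ i * (b : G) by show (a : G) * (b : G) = _; rw [← show t ^ i = (a : G) from hi],
      inv_mul_cancel_left] at h
  have hSE : IsPGroup 2 ((S : Subgroup G).comap E.subtype) := S.2.comap_of_injective _ E.subtype_injective
  have hle : (P : Subgroup ↥E) ≤ (S : Subgroup G).comap E.subtype := by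
    rw [← Subgroup.map_le_iff_le_comap]
    exact le_sup_right.trans hS
  exact ⟨b, P.3 hSE hle ▸ hb, rfl⟩

/-- The Sylow 2-subgroups of a central 2-extension are abelian, so the extension is trivial. -/
theorem part_one [IsSimpleGroup G] (hG : ¬ IsMulCommutative G)
    (hab : ∀ S : Sylow 2 G, IsMulCommutative ↥(S : Subgroup G)) {t : G} (ht : orderOf t = 2) {N : Type*}
    [Group N] [Finite N] (hN : commutator N = ⊤) (ι : N →* G) (hι : Function.Injective ι)
    (hιt : ∀ x, ι x * t = t * ι x) (S : Sylow 2 G) (V : Sylow 2 N) (hV4 : Nat.card ↥(V : Subgroup N) = 4)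
    (htS : t ∈ (S : Subgroup G)) (hVS : (V : Subgroup N).map ι ≤ (S : Subgroup G))
    (hdec : ∀ x ∈ (S : Subgroup G), ∃ i : ℤ, ∃ v ∈ (V : Subgroup N).map ι, x = t ^ i * v)
    {L : Type*} [Group L] [Finite L] (Z : Subgroup L) [Z.Normal] (hL : commutator L = ⊤)
    (hZ : Z ≤ center L) (hZ2 : IsPGroup 2 Z) (e : L ⧸ Z ≃* G) : Z = ⊥ := by
  classical
  haveI : Fact (Nat.Prime 2) := ⟨Nat.prime_two⟩
  let π : L →* G := e.toMonoidHom.comp (QuotientGroup.mk' Z)
  have hπ : Function.Surjective π := e.surjective.comp (QuotientGroup.mk'_surjective Z)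
  have hker : π.ker = Z := by
    ext x
    rw [MonoidHom.mem_ker, ← QuotientGroup.eq_one_iff]
    exact e.map_eq_one_iff
  have hcen : ∀ z, π z = 1 → ∀ x : L, x * z = z * x := fun z hz =>
    mem_center_iff.1 (hZ (hker ▸ MonoidHom.mem_ker.2 hz))
  let s := Function.surjInv hπ
  have hs : ∀ x, π (s x) = x := Function.surjInv_eq hπ
  have hSc : ∀ x ∈ (S : Subgroup G), ∀ y ∈ (S : Subgroup G), x * y = y * x := fun x hx y hy =>
    congrArg Subtype.val ((hab S).is_comm.comm ⟨x, hx⟩ ⟨y, hy⟩)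
  let T : Subgroup L := (S : Subgroup G).comap π
  have hTc : ∀ u ∈ T, ∀ w ∈ T, ∀ x : L, x * ⁅u, w⁆ = ⁅u, w⁆ * x := fun u hu w hw => hcen _ (by
    rw [map_commutatorElement, commutatorElement_eq_one_iff_mul_comm]; exact hSc _ hu _ hw)
  let a := s t
  have haT : a ∈ T := show π a ∈ _ from (hs t).symm ▸ htS
  haveI : IsMulCommutative (V : Subgroup N) := comm_of_pgroup hab _ V.2 ι hι
  have hlift : ∀ v ∈ (V : Subgroup N), ∀ w : L, π w = ι v → w ∈ T := fun v hv w hw =>
    show π w ∈ _ from hw ▸ hVS (mem_map_of_mem ι hv)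
  -- commutators with the lift of `t` only depend on the image
  have hwd : ∀ (u z : L), π z = 1 → ⁅a, u * z⁆ = ⁅a, u⁆ := fun u z hz => by
    rw [commutatorElement_def, commutatorElement_def]
    calc a * (u * z) * a⁻¹ * (u * z)⁻¹ = a * u * (z * a⁻¹) * z⁻¹ * u⁻¹ := by group
      _ = a * u * (a⁻¹ * z) * z⁻¹ * u⁻¹ := by rw [hcen z hz a⁻¹]
      _ = a * u * a⁻¹ * u⁻¹ := by group
  have hwd' : ∀ u u' : L, π u = π u' → ⁅a, u⁆ = ⁅a, u'⁆ := fun u u' h => by
    rw [← hwd u' (u'⁻¹ * u) (by rw [map_mul, map_inv, h, inv_mul_cancel]), mul_inv_cancel_left]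
  have hχ : ∀ v ∈ (V : Subgroup N), ⁅a, s (ι v)⁆ = 1 := by
    refine char_trivial hN V (fun v => ⁅a, s (ι v)⁆) (fun v hv w hw => ?_) fun n hn v hv => ?_
    · show ⁅a, s (ι (v * w))⁆ = ⁅a, s (ι v)⁆ * ⁅a, s (ι w)⁆
      rw [hwd' _ (s (ι v) * s (ι w)) (by rw [hs, map_mul π, hs, hs, map_mul])]
      have hc := hTc a haT (s (ι w)) (hlift w hw _ (hs _)) (s (ι v))
      calc ⁅a, s (ι v) * s (ι w)⁆ = ⁅a, s (ι v)⁆ * (s (ι v) * ⁅a, s (ι w)⁆) * (s (ι v))⁻¹ := by
            simp only [commutatorElement_def]; group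
        _ = ⁅a, s (ι v)⁆ * ⁅a, s (ι w)⁆ := by rw [hc]; group
    · show ⁅a, s (ι (n * v * n⁻¹))⁆ = ⁅a, s (ι v)⁆
      let m := s (ι n)
      have hma : π (m * a * m⁻¹ * a⁻¹) = 1 := by
        simp only [map_mul, map_inv, m, a, hs, hιt]; group
      rw [hwd' _ (m * s (ι v) * m⁻¹) (by simp only [map_mul, map_inv, m, hs])]
      calc ⁅a, m * s (ι v) * m⁻¹⁆ = ⁅(m * a * m⁻¹ * a⁻¹) * a, m * s (ι v) * m⁻¹⁆ := by
            simp only [commutatorElement_def]
            have hz := hcen _ hma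
            generalize m * a * m⁻¹ * a⁻¹ = z at hz ⊢
            calc a * (m * s (ι v) * m⁻¹) * a⁻¹ * (m * s (ι v) * m⁻¹)⁻¹
                = z * (a * (m * s (ι v) * m⁻¹) * a⁻¹) * z⁻¹ * (m * s (ι v) * m⁻¹)⁻¹ := by
                  rw [← hz (a * (m * s (ι v) * m⁻¹) * a⁻¹), mul_inv_cancel_right]
              _ = z * a * (m * s (ι v) * m⁻¹) * (z * a)⁻¹ * (m * s (ι v) * m⁻¹)⁻¹ := by group
        _ = m * ⁅a, s (ι v)⁆ * m⁻¹ := by simp only [commutatorElement_def]; group
        _ = ⁅a, s (ι v)⁆ := by rw [hTc a haT _ (hlift v hv _ (hs _)) m, mul_inv_cancel_right]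
  -- the lift of `t` is central in `T`
  have haC : ∀ u ∈ T, a * u = u * a := by
    intro u hu
    obtain ⟨i, _, ⟨v, hv, rfl⟩, hx⟩ := hdec (π u) hu
    rw [← commutatorElement_eq_one_iff_mul_comm, hwd' u (a ^ i * s (ι v)) (by rw [map_mul, map_zpow, hs, hs, hx]),
      commutatorElement_eq_one_iff_mul_comm, ← mul_assoc, ((Commute.refl a).zpow_right i).eq, mul_assoc,
      commutatorElement_eq_one_iff_mul_comm.1 (hχ v hv), mul_assoc]
  -- so is the lift of a further element
  obtain ⟨n, hn, hnt⟩ := exists_moved hG S ht htS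
  have hmT : ∀ u, u ∈ T → (s n)⁻¹ * u * s n ∈ T := fun u hu => by
    show π ((s n)⁻¹ * u * s n) ∈ (S : Subgroup G)
    rw [map_mul, map_mul, map_inv, hs]
    exact (mem_normalizer_iff''.1 hn _).1 hu
  let b := s n * a * (s n)⁻¹
  have hbC : ∀ u ∈ T, b * u = u * b := fun u hu => by
    have h := haC _ (hmT u hu)
    show s n * a * (s n)⁻¹ * u = u * (s n * a * (s n)⁻¹)
    calc s n * a * (s n)⁻¹ * u = s n * (a * ((s n)⁻¹ * u * s n)) * (s n)⁻¹ := by group
      _ = u * (s n * a * (s n)⁻¹) := by rw [h]; group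
  have hbT : π b = n * t * n⁻¹ := by simp only [b, a, map_mul, map_inv, hs]
  obtain ⟨i, _, ⟨v, hv, rfl⟩, hv'⟩ := hdec (n * t * n⁻¹) ((mem_normalizer_iff.1 hn _).1 htS)
  have hv1 : v ≠ 1 := by
    rintro rfl
    rw [map_one, mul_one] at hv'
    have h2 : t ^ 2 = 1 := ht ▸ pow_orderOf_eq_one t
    rcases Int.even_or_odd' i with ⟨k, rfl | rfl⟩
    · rw [zpow_mul, zpow_two, ← pow_two, h2, one_zpow] at hv'
      have : t = 1 := by
        calc t = n⁻¹ * (n * t * n⁻¹) * n := by group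
          _ = 1 := by rw [hv']; group
      rw [this, orderOf_one] at ht
      exact absurd ht (by norm_num)
    · refine hnt ?_
      rw [hv', zpow_add, zpow_mul, zpow_two, ← pow_two, h2, one_zpow, one_mul, zpow_one]
  let c := (a ^ i)⁻¹ * b
  have hcπ : π c = ι v := by
    simp only [c, map_mul, map_inv, map_zpow, hbT, hv', a, hs, inv_mul_cancel_left]
  have hcC : ∀ u ∈ T, c * u = u * c := fun u hu => by
    have h1 : Commute ((a ^ i)⁻¹) u := ((show Commute a u from haC u hu).zpow_left i).inv_left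
    exact (h1.mul_left (hbC u hu)).eq
  -- hence `T` is commutative
  have hv2 : orderOf (⟨v, hv⟩ : ↥(V : Subgroup N)) ∣ 4 := hV4 ▸ orderOf_dvd_natCard _
  let W : Subgroup ↥(V : Subgroup N) := zpowers ⟨v, hv⟩
  have hW : W.index = 1 ∨ W.index = 2 := by
    have h := W.card_mul_index
    rw [hV4, Nat.card_zpowers] at h
    have h1 : orderOf (⟨v, hv⟩ : ↥(V : Subgroup N)) ≠ 1 := fun h1 =>
      hv1 (congrArg Subtype.val (orderOf_eq_one_iff.1 h1))
    obtain ⟨d, hd, hd'⟩ := (Nat.dvd_prime_pow Nat.prime_two).1 (show orderOf _ ∣ 2 ^ 2 from hv2)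
    rw [hd'] at h h1
    interval_cases d <;> omega
  have hWc : ∀ w ∈ W, ∀ u ∈ T, s (ι (w : N)) * u = u * s (ι (w : N)) := by
    intro w hw u hu
    obtain ⟨k, rfl⟩ := mem_zpowers_iff.1 hw
    have hz : π ((c ^ k)⁻¹ * s (ι ((⟨v, hv⟩ ^ k : ↥(V : Subgroup N)) : N))) = 1 := by
      rw [map_mul, map_inv, map_zpow, hcπ, hs, Subgroup.coe_zpow, map_zpow, inv_mul_cancel]
    have h1 := hcen _ hz u
    have h2 : Commute (c ^ k) u := (show Commute c u from hcC u hu).zpow_left k
    have h3 := (h2.mul_left (show Commute _ u from h1.symm)).eq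
    rwa [mul_inv_cancel_left] at h3
  have hVV : ∀ x y : ↥(V : Subgroup N), s (ι x) * s (ι y) = s (ι y) * s (ι x) := by
    intro x y
    by_cases hx : x ∈ W
    · exact hWc x hx _ (hlift _ y.2 _ (hs _))
    by_cases hy : y ∈ W
    · exact (hWc y hy _ (hlift _ x.2 _ (hs _))).symm
    have hxy : x⁻¹ * y ∈ W := by
      rcases hW with h | h
      · rw [index_eq_one.1 h]; exact mem_top _
      · exact (mul_mem_iff_of_index_two h).2 ⟨fun h' => absurd (inv_mem_iff.1 h') hx, fun h' => absurd h' hy⟩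
    have hz : π ((s (ι x) * s (ι ((x⁻¹ * y : ↥(V : Subgroup N)) : N)))⁻¹ * s (ι y)) = 1 := by
      rw [map_mul, map_inv, map_mul, hs, hs, hs, Subgroup.coe_mul, Subgroup.coe_inv, ← map_mul ι, mul_inv_cancel_left,
        inv_mul_cancel]
    have h1 := hWc _ hxy _ (hlift _ x.2 _ (hs _))
    have h2 : Commute (s (ι x)) (s (ι x) * s (ι ((x⁻¹ * y : ↥(V : Subgroup N)) : N))) :=
      (Commute.refl _).mul_right (show Commute _ _ from h1.symm)
    have h3 := h2.mul_right (show Commute (s (ι x)) _ from hcen _ hz _)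
    rw [mul_inv_cancel_left] at h3
    exact h3.eq
  have hT : ∀ u ∈ T, ∀ w ∈ T, u * w = w * u := by
    have hsplit : ∀ u ∈ T, ∃ i : ℤ, ∃ x : ↥(V : Subgroup N), ∃ z, π z = 1 ∧ u = a ^ i * s (ι x) * z := by
      intro u hu
      obtain ⟨i, _, ⟨x, hx, rfl⟩, h⟩ := hdec (π u) hu
      exact ⟨i, ⟨x, hx⟩, (a ^ i * s (ι x))⁻¹ * u, by rw [map_mul, map_inv, map_mul, map_zpow, hs, hs, h,
        inv_mul_cancel], by rw [mul_inv_cancel_left]⟩
    intro u hu w hw
    obtain ⟨i, x, z, hz, rfl⟩ := hsplit u hu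
    refine (((show Commute a w from haC w hw).zpow_left i).mul_left ?_).mul_left (hcen z hz w).symm |>.eq
    obtain ⟨i', y, z', hz', rfl⟩ := hsplit w hw
    exact (((show Commute a _ from haC _ (hlift _ x.2 _ (hs _))).zpow_left i').symm.mul_right (hVV x y)).mul_right
      (hcen z' hz' _)
  -- transfer
  have hTp : IsPGroup 2 T := S.2.comap_of_ker_isPGroup π (hker ▸ hZ2)
  let _ : CommGroup ↥T := { (inferInstance : Group ↥T) with mul_comm := fun x y => Subtype.ext (hT _ x.2 _ y.2) }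
  let φ := MonoidHom.transfer (MonoidHom.id ↥T)
  rw [eq_bot_iff]
  intro z hz
  have h1 : φ z = 1 := by
    have hle := Abelianization.commutator_subset_ker φ
    rw [hL] at hle
    exact hle (mem_top z)
  rw [show φ z = _ from MonoidHom.transfer_eq_pow _ z (fun k g₀ _ => by
    rw [mul_assoc, ← (show Commute g₀ z from mem_center_iff.1 (hZ hz) g₀).pow_right k |>.eq, inv_mul_cancel_left]),
    MonoidHom.id_apply] at h1
  have h2 : z ^ T.index = 1 := congrArg Subtype.val h1
  have hidx : T.index = (S : Subgroup G).index := index_comap_of_surjective _ hπ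
  obtain ⟨k, hk⟩ := IsPGroup.iff_orderOf.1 hZ2 ⟨z, hz⟩
  rw [Subgroup.orderOf_mk] at hk
  rw [← orderOf_dvd_iff_pow_eq_one, hk, hidx] at h2
  rcases Nat.eq_zero_or_pos k with rfl | hk0
  · rw [mem_bot, ← orderOf_eq_one_iff, hk, pow_zero]
  · exact absurd ((dvd_pow_self 2 hk0.ne').trans h2) S.not_dvd_index

end Structure


/-- Let G be a non-abelian finite simple group with abelian Sylow 2-subgroups, and let t be an involution of G whose centralizer is a maximal subgroup of G and is the direct product of the subgroup generated by t with a subgroup E having a normal subgroup isomorphic to PSL(2, q), q odd and greater than 3, with trivial centralizer in E. Then every finite perfect group having a central 2-subgroup with quotient isomorphic to G has that central subgroup trivial (G has no nontrivial perfect central extension by a 2-group), and every automorphism of G of 2-power order that fixes every element of some Sylow 2-subgroup of G is inner. -/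
theorem result {G : Type*} [Group G] [Finite G] [IsSimpleGroup G]
    (hG : ¬ IsMulCommutative G) (hab : ∀ S : Sylow 2 G, IsMulCommutative ↥(S : Subgroup G))
    (t : G) (ht : orderOf t = 2) (hmax : IsCoatom (Subgroup.centralizer ({t} : Set G)))
    (E : Subgroup G) (hE : Cfsg.IsInternalDirectProduct (Subgroup.zpowers t) E (Subgroup.centralizer ({t} : Set G)))
    {F : Type*} [Field F] [Fintype F] (hFo : Odd (Fintype.card F)) (hF3 : 3 < Fintype.card F)
    (N : Subgroup ↥E) [N.Normal] (hN : Nonempty (↥N ≃* Matrix.ProjectiveSpecialLinearGroup (Fin 2) F))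
    (hNc : Subgroup.centralizer (N : Set ↥E) = ⊥) :
    (∀ (L : Type) (_ : Group L) (_ : Finite L) (Z : Subgroup L) (_ : Z.Normal), commutator L = ⊤ → Z ≤ Subgroup.center L →
        IsPGroup 2 ↥Z → Nonempty (L ⧸ Z ≃* G) → Z = ⊥) ∧
    (∀ (φ : G ≃* G) (k : ℕ), φ ^ (2 ^ k) = 1 → (∃ S : Sylow 2 G, ∀ s ∈ (S : Subgroup G), φ s = s) →
        ∃ g : G, ∀ x : G, φ x = g * x * g⁻¹) := by
  classical
  haveI : Fact (Nat.Prime 2) := ⟨Nat.prime_two⟩
  obtain ⟨e⟩ := hN
  obtain ⟨ι, S, V, hV4, hι, hιt, htS, hVS, hdec⟩ := exists_structure hab t ht E hE hFo hF3 N e hNc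
  haveI : IsSimpleGroup (Matrix.ProjectiveSpecialLinearGroup (Fin 2) F) := PSL_simple' hF3
  refine ⟨fun L _ _ Z _ hL hZc hZ2 hiso => ?_, fun φ k hk hfix => ?_⟩
  · have hN : commutator ↥N = ⊤ := by
      haveI : IsSimpleGroup ↥N := e.isSimpleGroup_congr.2 inferInstance
      refine perfect_of_simple fun hc => ?_
      let _ : CommGroup ↥N := { (inferInstance : Group ↥N) with mul_comm := hc.is_comm.comm }
      have hp := IsSimpleGroup.prime_card (α := ↥N)
      have hd : 4 ∣ Nat.card ↥N := hV4 ▸ Subgroup.card_subgroup_dvd_card _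
      rcases (Nat.dvd_prime hp).1 hd with h | h
      · norm_num at h
      · rw [← h] at hp; norm_num at hp
    obtain ⟨eL⟩ := hiso
    exact part_one hG hab ht hN ι hι hιt S V hV4 htS hVS hdec Z hL hZc hZ2 eL
  · obtain ⟨S', hS'⟩ := hfix
    have hperf := perfect_of_simple hG
    have hZ : Subgroup.center G = ⊥ := by
      refine (IsSimpleGroup.eq_bot_or_eq_top_of_normal _ inferInstance).resolve_right fun h => hG ?_
      exact ⟨⟨fun x y => Subgroup.mem_center_iff.1 (h ▸ Subgroup.mem_top y) x⟩⟩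
    have hcore : Cfsg.pPrimeCore 2 G = ⊥ := by
      refine (IsSimpleGroup.eq_bot_or_eq_top_of_normal _ inferInstance).resolve_right fun h => ?_
      refine Cfsg.Lib.Core.pPrimeCore_not_dvd 2 G ?_
      rw [h, Subgroup.card_top, ← ht]
      exact orderOf_dvd_natCard t
    obtain ⟨j, -, hj⟩ := (Nat.dvd_prime_pow Nat.prime_two).1 (orderOf_dvd_of_pow_eq_one hk)
    exact Cfsg.Agent.S4593.result hZ hcore S' (hab S') φ ⟨j, hj⟩ hS' 

end Cfsg.Agent.S3206
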