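import Cfsg.Statements.S3208
import Mathlib

set_option autoImplicit false
open Cfsg

namespace Cfsg.Agent.S3208

/-- Let j be an involution of a finite group G, H a subgroup of G, and T a Sylow 2-subgroup of H ∩ C_G(j) containing j such that ⟨j⟩ is a characteristic subgroup of T. Then T is a Sylow 2-subgroup of H. -/
theorem result {G : Type*} [Group G] [Finite G]
    (j : G) (hj : orderOf j = 2) (H T : Subgroup G) (hT : T ≤ H ⊓ Subgroup.centralizer ({j} : Set G)) (h2 : IsPGroup 2 ↥T)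
    (hSyl : ¬ 2 ∣ T.relIndex (H ⊓ Subgroup.centralizer ({j} : Set G))) (hjT : j ∈ T)
    (hchar : ((Subgroup.zpowers j).subgroupOf T).Characteristic) :
    ¬ 2 ∣ T.relIndex H := by
  classical
  intro hdvd
  haveI : Fact (Nat.Prime 2) := ⟨Nat.prime_two⟩
  have hTH : T ≤ H := hT.trans inf_le_left
  set T' : Subgroup H := T.subgroupOf H with hT'
  have hT'p : IsPGroup 2 T' := h2.of_equiv (Subgroup.subgroupOfEquivOfLe hTH).symm
  obtain ⟨R, hR⟩ := IsPGroup.exists_le_sylow hT'p
  have hlt : T' < R := by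
    refine lt_of_le_of_ne hR fun he => R.not_dvd_index ?_
    rwa [← he]
  haveI := R.2.isNilpotent
  have hlt' : T'.subgroupOf (R : Subgroup H) < ⊤ := by
    rw [lt_top_iff_ne_top, Ne, Subgroup.subgroupOf_eq_top]
    exact fun h => absurd (le_antisymm h hR) hlt.ne'
  obtain ⟨r, hrN, hrT⟩ := SetLike.exists_of_lt
    (Group.normalizerCondition_of_isNilpotent (T'.subgroupOf (R : Subgroup H)) hlt')
  -- `r` normalizes `T`, hence centralizes `j`
  let u : G := ((r : H) : G)
  have huT : ∀ z : G, z ∈ T ↔ u * z * u⁻¹ ∈ T := by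
    intro z
    by_cases hz : z ∈ H
    · by_cases hzR : (⟨z, hz⟩ : H) ∈ (R : Subgroup H)
      · simpa [Subgroup.mem_subgroupOf, hT', u] using
          (Subgroup.mem_normalizer_iff.1 hrN ⟨⟨z, hz⟩, hzR⟩)
      · refine ⟨fun h => absurd (hR (show (⟨z, hz⟩ : H) ∈ T' from h)) hzR, fun h => absurd ?_ hzR⟩
        have : (r : H) * ⟨z, hz⟩ * (r : H)⁻¹ ∈ (R : Subgroup H) := hR (show _ ∈ T' from h)
        simpa [mul_assoc] using
          mul_mem (mul_mem (inv_mem r.2) this) r.2
    · refine ⟨fun h => absurd (hTH h) hz, fun h => absurd ?_ hz⟩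
      have := H.mul_mem (H.mul_mem (H.inv_mem (r : H).2) (hTH h)) (r : H).2
      simpa [u, mul_assoc] using this
  let φ : T ≃* T :=
    { toFun := fun z => ⟨u * z * u⁻¹, (huT z).1 z.2⟩
      invFun := fun z => ⟨u⁻¹ * z * u, (huT _).2 (by simp [mul_assoc])⟩
      left_inv := fun z => by ext; simp [mul_assoc]
      right_inv := fun z => by ext; simp [mul_assoc]
      map_mul' := fun z w => by ext; simp [mul_assoc] }
  have hju : u * j * u⁻¹ = j := by
    have hmem : (⟨j, hjT⟩ : T) ∈ ((Subgroup.zpowers j).subgroupOf T).comap φ.toMonoidHom := by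
      rw [hchar.fixed φ]; exact Subgroup.mem_zpowers j
    have hmem' : u * j * u⁻¹ ∈ Subgroup.zpowers j := hmem
    rw [← (orderOf_pos_iff.1 (by omega : 0 < orderOf j)).mem_powers_iff_mem_zpowers,
      (orderOf_pos_iff.1 (by omega : 0 < orderOf j)).mem_powers_iff_mem_range_orderOf, hj] at hmem'
    simp [Finset.range_add_one] at hmem'
    rcases hmem' with h | h
    · exact h
    · exfalso
      rw [h] at hj; simp at hj
  have huC : u ∈ H ⊓ Subgroup.centralizer ({j} : Set G) :=
    ⟨(r : H).2, Subgroup.mem_centralizer_singleton_iff.2 (mul_inv_eq_iff_eq_mul.1 hju)⟩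
  -- the subgroup generated by `T` and `u` is a 2-group
  set M : Subgroup H := T' ⊔ Subgroup.zpowers (r : H) with hM
  have hMR : M ≤ R := sup_le hR (Subgroup.zpowers_le.2 r.2)
  have hMC : M.map H.subtype ≤ H ⊓ Subgroup.centralizer ({j} : Set G) := by
    rw [hM, Subgroup.map_sup, sup_le_iff, MonoidHom.map_zpowers, Subgroup.zpowers_le]
    exact ⟨(Subgroup.map_comap_le _ _).trans hT, huC⟩
  have hTM : T ≤ M.map H.subtype := fun z hz => ⟨⟨z, hTH hz⟩, (le_sup_left : T' ≤ M) hz, rfl⟩
  have hne : T.relIndex (M.map H.subtype) ≠ 1 := by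
    rw [Ne, Subgroup.relIndex_eq_one]
    exact fun h => hrT (h ⟨_, (le_sup_right : _ ≤ M) (Subgroup.mem_zpowers _), rfl⟩)
  have hp : IsPGroup 2 (M.map H.subtype) := (R.2.to_le hMR).map _
  obtain ⟨k, hk⟩ := hp.index (T.subgroupOf (M.map H.subtype))
  have h2d : 2 ∣ T.relIndex (M.map H.subtype) := by
    show 2 ∣ (T.subgroupOf (M.map H.subtype)).index
    rw [hk]
    refine dvd_pow_self 2 ?_
    rintro rfl
    exact hne (by simpa [Subgroup.relIndex] using hk)
  exact hSyl (h2d.trans (Dvd.intro _ (Subgroup.relIndex_mul_relIndex _ _ _ hTM hMC)))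

end Cfsg.Agent.S3208
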