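import Cfsg.Statements.S3209
import Mathlib

set_option autoImplicit false
open Cfsg

namespace Cfsg.Agent.S3209

open Matrix in
theorem ch2 {F : Type*} [Field F] (A : Matrix (Fin 2) (Fin 2) F) (hd : A.det = 1) :
    A * A = (A 0 0 + A 1 1) • A - 1 := by
  rw [Matrix.det_fin_two] at hd
  ext i j
  fin_cases i <;> fin_cases j <;> simp [Matrix.mul_apply, Fin.sum_univ_two] <;> first | linear_combination (-1 : F) * hd | linear_combination hd | linear_combination (0 : F) * hd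

open Matrix in
theorem inv_unique {F : Type*} [Field F] (h2 : (2 : F) ≠ 0) (A : SpecialLinearGroup (Fin 2) F) (hA : A * A = 1) :
    A = 1 ∨ A = -1 := by
  have h := ch2 A.1 A.2
  have h' : A.1 * A.1 = 1 := by
    have := congrArg Subtype.val hA
    simpa using this
  rw [h'] at h
  set t := A.1 0 0 + A.1 1 1 with ht
  have htA : t • A.1 = 2 • (1 : Matrix (Fin 2) (Fin 2) F) := by
    rw [two_smul]; rw [eq_sub_iff_add_eq] at h; exact h.symm
  have e00 := congrFun (congrFun htA 0) 0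
  have e01 := congrFun (congrFun htA 0) 1
  have e10 := congrFun (congrFun htA 1) 0
  have e11 := congrFun (congrFun htA 1) 1
  simp at e00 e01 e10 e11
  have ht0 : t ≠ 0 := by intro h0; rw [h0] at e00; exact h2 (by linear_combination -e00)
  have h01 : A.1 0 1 = 0 := by rcases e01 with h | h; exacts [absurd h ht0, h]
  have h10 : A.1 1 0 = 0 := by rcases e10 with h | h; exacts [absurd h ht0, h]
  have hs : A.1 1 1 = A.1 0 0 := mul_left_cancel₀ ht0 (e11.trans e00.symm)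
  have hd := A.2
  rw [Matrix.det_fin_two, h01, h10, hs, zero_mul, sub_zero] at hd
  rcases mul_self_eq_one_iff.1 hd with h1 | h1
  · left
    apply Subtype.ext
    ext i j
    fin_cases i <;> fin_cases j <;> simp [h1, h01, h10, hs]
  · right
    apply Subtype.ext
    ext i j
    fin_cases i <;> fin_cases j <;> simp [h1, h01, h10, hs]

open Matrix in
theorem trace_zero {F : Type*} [Field F] (A : SpecialLinearGroup (Fin 2) F) (hA : A * A = -1) :
    A.1 1 1 = - A.1 0 0 := by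
  have h := ch2 A.1 A.2
  have h' : A.1 * A.1 = -1 := by
    have := congrArg Subtype.val hA
    simpa using this
  rw [h'] at h
  have htA : (A.1 0 0 + A.1 1 1) • A.1 = 0 := by
    rw [eq_sub_iff_add_eq] at h; simpa using h.symm
  rcases smul_eq_zero.1 htA with h0 | h0
  · linear_combination h0
  · exfalso
    have := A.2
    rw [h0] at this; simp at this

open Matrix in
theorem qf_one {F : Type*} [Field F] [Fintype F] (hF : Odd (Fintype.card F)) (a b c : F) (hd : -(a*a) - b*c = 1) :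
    ∃ x y : F, c*x*x - 2*a*x*y - b*y*y = 1 := by
  have h2 : (2 : F) ≠ 0 := by
    intro h
    have hc : ringChar F = 2 := CharP.ringChar_of_prime_eq_zero Nat.prime_two (by exact_mod_cast h)
    have := (FiniteField.even_card_iff_char_two).1 hc
    rw [Nat.odd_iff] at hF; omega
  by_cases hc : c = 0
  · subst hc
    have ha : a ≠ 0 := by intro h; subst h; simp at hd
    refine ⟨(-1 - b) / (2*a), 1, ?_⟩
    field_simp
    ring
  · obtain ⟨X, Y, hXY⟩ := FiniteField.exists_root_sum_quadratic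
      (f := Polynomial.C (c*c) * Polynomial.X ^ 2) (g := Polynomial.X ^ 2 - Polynomial.C c)
      (by rw [Polynomial.degree_C_mul_X_pow 2 (mul_ne_zero hc hc)]; rfl)
      (by rw [Polynomial.degree_X_pow_sub_C (by norm_num)]; rfl) (Nat.odd_iff.1 hF)
    simp at hXY
    refine ⟨X + a * Y / c, Y, ?_⟩
    field_simp
    linear_combination hXY + (Y^2) * hd

open Matrix in
theorem conj_J {F : Type*} [Field F] [Fintype F] (hF : Odd (Fintype.card F)) (A : SpecialLinearGroup (Fin 2) F)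
    (hA : A * A = -1) : ∃ P : SpecialLinearGroup (Fin 2) F,
      A.1 * P.1 = P.1 * !![0, -1; 1, 0] := by
  have ht := trace_zero A hA
  have hd := A.2
  rw [Matrix.det_fin_two, ht] at hd
  obtain ⟨x, y, hxy⟩ := qf_one hF (A.1 0 0) (A.1 0 1) (A.1 1 0) (by linear_combination hd)
  refine ⟨⟨!![x, A.1 0 0 * x + A.1 0 1 * y; y, A.1 1 0 * x - A.1 0 0 * y], ?_⟩, ?_⟩
  · simp [Matrix.det_fin_two]; linear_combination hxy
  · ext i j
    fin_cases i <;> fin_cases j <;> simp [Matrix.mul_apply, Fin.sum_univ_two, ht]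
    · linear_combination -(x * hd)
    · ring
    · linear_combination -(y * hd)

open Matrix in
theorem conj_class {F : Type*} [Field F] [Fintype F] (hF : Odd (Fintype.card F)) (A B : SpecialLinearGroup (Fin 2) F)
    (hA : A * A = -1) (hB : B * B = -1) : ∃ P : SpecialLinearGroup (Fin 2) F, P * A * P⁻¹ = B := by
  obtain ⟨P, hP⟩ := conj_J hF A hA
  obtain ⟨Q, hQ⟩ := conj_J hF B hB
  let J : SpecialLinearGroup (Fin 2) F := ⟨!![0, -1; 1, 0], by simp [Matrix.det_fin_two]⟩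
  have hP' : A * P = P * J := Subtype.ext (by rw [Matrix.SpecialLinearGroup.coe_mul, Matrix.SpecialLinearGroup.coe_mul]; exact hP)
  have hQ' : B * Q = Q * J := Subtype.ext (by rw [Matrix.SpecialLinearGroup.coe_mul, Matrix.SpecialLinearGroup.coe_mul]; exact hQ)
  refine ⟨Q * P⁻¹, ?_⟩
  have e1 : J = P⁻¹ * A * P := by rw [mul_assoc, hP', inv_mul_cancel_left]
  have e2 : B = Q * J * Q⁻¹ := by rw [← hQ', mul_inv_cancel_right]
  rw [e2, e1]; group

open Matrix in
theorem J_sq {F : Type*} [Field F] : ∃ J : SpecialLinearGroup (Fin 2) F, J * J = -1 := by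
  let J : SpecialLinearGroup (Fin 2) F := ⟨!![0, -1; 1, 0], by simp [Matrix.det_fin_two]⟩
  refine ⟨J, Subtype.ext ?_⟩
  rw [Matrix.SpecialLinearGroup.coe_mul, Matrix.SpecialLinearGroup.coe_neg, Matrix.SpecialLinearGroup.coe_one]
  ext i j
  fin_cases i <;> fin_cases j <;> simp [J, Matrix.mul_apply, Fin.sum_univ_two]

theorem side {G : Type*} [Group G] {F : Type*} [Field F] [Fintype F] (hF : Odd (Fintype.card F)) (L : Subgroup G)
    (e : ↥L ≃* Matrix.SpecialLinearGroup (Fin 2) F) (j : G) (hjL : j ∈ L) (hj : orderOf j = 2) :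
    (∀ a ∈ L, a * a = 1 → a = 1 ∨ a = j) ∧ (∃ a ∈ L, a * a = j) ∧
      ∀ a ∈ L, ∀ b ∈ L, a * a = j → b * b = j → ∃ g ∈ L, g * a * g⁻¹ = b := by
  have h2 : (2 : F) ≠ 0 := by
    intro h
    have hc : ringChar F = 2 := CharP.ringChar_of_prime_eq_zero Nat.prime_two (by exact_mod_cast h)
    have := (FiniteField.even_card_iff_char_two).1 hc
    rw [Nat.odd_iff] at hF; omega
  have hjj : (⟨j, hjL⟩ : ↥L) * ⟨j, hjL⟩ = 1 := by
    apply Subtype.ext
    show j * j = 1
    rw [← pow_two, ← hj]; exact pow_orderOf_eq_one j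
  have hej : e ⟨j, hjL⟩ = -1 := by
    rcases inv_unique h2 (e ⟨j, hjL⟩) (by rw [← map_mul, hjj, map_one]) with h | h
    · exfalso
      have h1 : (⟨j, hjL⟩ : ↥L) = 1 := e.injective (h.trans (map_one e).symm)
      have : j = 1 := congrArg Subtype.val h1
      simp [this] at hj
    · exact h
  refine ⟨?_, ?_, ?_⟩
  · intro a ha h
    rcases inv_unique h2 (e ⟨a, ha⟩) (by rw [← map_mul]; rw [show (⟨a, ha⟩ : ↥L) * ⟨a, ha⟩ = 1 from Subtype.ext h, map_one]) with h1 | h1
    · left; exact congrArg Subtype.val (e.injective (h1.trans (map_one e).symm))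
    · right; exact congrArg Subtype.val (e.injective (h1.trans hej.symm))
  · obtain ⟨J, hJ⟩ := J_sq (F := F)
    refine ⟨(e.symm J : ↥L), (e.symm J).2, ?_⟩
    have : e.symm J * e.symm J = ⟨j, hjL⟩ := by rw [← map_mul, hJ, ← hej, e.symm_apply_apply]
    exact congrArg Subtype.val this
  · intro a ha b hb h1 h1'
    obtain ⟨P, hP⟩ := conj_class hF (e ⟨a, ha⟩) (e ⟨b, hb⟩)
      (by rw [← map_mul, show (⟨a, ha⟩ : ↥L) * ⟨a, ha⟩ = ⟨j, hjL⟩ from Subtype.ext h1, hej])
      (by rw [← map_mul, show (⟨b, hb⟩ : ↥L) * ⟨b, hb⟩ = ⟨j, hjL⟩ from Subtype.ext h1', hej])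
    refine ⟨(e.symm P : ↥L), (e.symm P).2, ?_⟩
    have : e.symm P * ⟨a, ha⟩ * (e.symm P)⁻¹ = ⟨b, hb⟩ := by
      apply e.injective; simp [hP]
    exact congrArg Subtype.val this

theorem mem_sup_commuting {G : Type*} [Group G] (L₁ L₂ : Subgroup G) (hc : ∀ x ∈ L₁, ∀ y ∈ L₂, x * y = y * x)
    {g : G} (hg : g ∈ L₁ ⊔ L₂) : ∃ a ∈ L₁, ∃ b ∈ L₂, g = a * b := by
  rw [Subgroup.sup_eq_closure] at hg
  induction hg using Subgroup.closure_induction with
  | mem x hx => rcases hx with h | h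
                · exact ⟨x, h, 1, L₂.one_mem, (mul_one x).symm⟩
                · exact ⟨1, L₁.one_mem, x, h, (one_mul x).symm⟩
  | one => exact ⟨1, L₁.one_mem, 1, L₂.one_mem, (one_mul 1).symm⟩
  | mul x y _ _ hx hy =>
      obtain ⟨a, ha, b, hb, rfl⟩ := hx
      obtain ⟨c, hcm, d, hd, rfl⟩ := hy
      refine ⟨a * c, L₁.mul_mem ha hcm, b * d, L₂.mul_mem hb hd, ?_⟩
      rw [mul_assoc, ← mul_assoc b c d, ← hc c hcm b hb]; group
  | inv x _ hx =>
      obtain ⟨a, ha, b, hb, rfl⟩ := hx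
      refine ⟨a⁻¹, L₁.inv_mem ha, b⁻¹, L₂.inv_mem hb, ?_⟩
      rw [mul_inv_rev, hc a⁻¹ (L₁.inv_mem ha) b⁻¹ (L₂.inv_mem hb)]


/-- Let L₁ ≅ SL₂(q₁) and L₂ ≅ SL₂(q₂), q₁ and q₂ odd, be elementwise-commuting subgroups of a finite group meeting in ⟨j⟩ for an involution j. Then L₁L₂ has exactly two conjugacy classes of involutions: the central involution j, and one further class (there is an involution x ≠ j in L₁L₂, and every involution of L₁L₂ other than j is conjugate to x by an element of L₁L₂). -/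
theorem result {G : Type*} [Group G] [Finite G]
    {F₁ : Type*} [Field F₁] [Fintype F₁] {F₂ : Type*} [Field F₂] [Fintype F₂]
    (hF₁ : Odd (Fintype.card F₁)) (hF₂ : Odd (Fintype.card F₂)) (L₁ L₂ : Subgroup G)
    (e₁ : ↥L₁ ≃* Matrix.SpecialLinearGroup (Fin 2) F₁) (e₂ : ↥L₂ ≃* Matrix.SpecialLinearGroup (Fin 2) F₂)
    (hc : ∀ x ∈ L₁, ∀ y ∈ L₂, x * y = y * x) (j : G) (hj : orderOf j = 2) (hm : L₁ ⊓ L₂ = Subgroup.zpowers j) :
    ∃ x ∈ L₁ ⊔ L₂, orderOf x = 2 ∧ x ≠ j ∧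
      ∀ y ∈ L₁ ⊔ L₂, orderOf y = 2 → y = j ∨ ∃ g ∈ L₁ ⊔ L₂, g * x * g⁻¹ = y := by
  have hj1 : j ∈ L₁ ⊓ L₂ := hm ▸ Subgroup.mem_zpowers j
  have hjj : j * j = 1 := by rw [← pow_two, ← hj]; exact pow_orderOf_eq_one j
  have hjne : j ≠ 1 := by rintro rfl; simp at hj
  obtain ⟨u1, ⟨a, haL, ha⟩, c1⟩ := side hF₁ L₁ e₁ j hj1.1 hj
  obtain ⟨u2, ⟨b, hbL, hb⟩, c2⟩ := side hF₂ L₂ e₂ j hj1.2 hj
  have low : ∀ z, z ∈ L₁ → z ∈ L₂ → z * z = 1 := by
    intro z h1 h2
    have : z ∈ Subgroup.zpowers j := hm ▸ ⟨h1, h2⟩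
    obtain ⟨k, rfl⟩ := this
    show j ^ k * j ^ k = 1
    rw [← zpow_add, ← two_mul, zpow_mul, zpow_two, hjj, one_zpow]
  have sq : ∀ u ∈ L₁, ∀ v ∈ L₂, (u * v) * (u * v) = (u * u) * (v * v) := by
    intro u hu v hv
    rw [mul_assoc, ← mul_assoc v u v, ← hc u hu v hv]; group
  refine ⟨a * b, mul_mem (Subgroup.mem_sup_left haL) (Subgroup.mem_sup_right hbL), ?_, ?_, ?_⟩
  · apply orderOf_eq_prime
    · rw [pow_two, sq a haL b hbL, ha, hb, hjj]
    · intro h
      have : a ∈ L₂ := by rw [eq_inv_of_mul_eq_one_left h]; exact L₂.inv_mem hbL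
      exact hjne (ha ▸ low a haL this)
  · intro h
    have : a ∈ L₂ := by
      have e : a = j * b⁻¹ := by rw [← h]; group
      rw [e]; exact L₂.mul_mem hj1.2 (L₂.inv_mem hbL)
    exact hjne (ha ▸ low a haL this)
  · intro y hy hy2
    obtain ⟨c, hcL, d, hdL, rfl⟩ := mem_sup_commuting L₁ L₂ hc hy
    have hy1 : (c * d) * (c * d) = 1 := by rw [← pow_two, ← hy2]; exact pow_orderOf_eq_one _
    rw [sq c hcL d hdL] at hy1
    have hc2 : c * c ∈ L₂ := by
      rw [eq_inv_of_mul_eq_one_left hy1]; exact L₂.inv_mem (L₂.mul_mem hdL hdL)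
    rcases u1 (c * c) (L₁.mul_mem hcL hcL) (low _ (L₁.mul_mem hcL hcL) hc2) with h | h
    · left
      rw [h, one_mul] at hy1
      rcases u1 c hcL h with rfl | rfl <;> rcases u2 d hdL hy1 with rfl | rfl
      · simp at hy2
      · simp
      · simp
      · simp [hjj] at hy2
    · right
      rw [h] at hy1
      have hd2 : d * d = j := mul_left_cancel (hy1.trans hjj.symm)
      obtain ⟨g, hgL, hg⟩ := c1 a haL c hcL ha h
      obtain ⟨k, hkL, hk⟩ := c2 b hbL d hdL hb hd2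
      refine ⟨g * k, mul_mem (Subgroup.mem_sup_left hgL) (Subgroup.mem_sup_right hkL), ?_⟩
      rw [← hg, ← hk]
      have e1 : k * a = a * k := (hc a haL k hkL).symm
      have e2 : g⁻¹ * (k * b * k⁻¹) = (k * b * k⁻¹) * g⁻¹ :=
        hc g⁻¹ (L₁.inv_mem hgL) _ (L₂.mul_mem (L₂.mul_mem hkL hbL) (L₂.inv_mem hkL))
      calc g * k * (a * b) * (g * k)⁻¹ = g * (k * a) * b * k⁻¹ * g⁻¹ := by group
        _ = g * a * ((k * b * k⁻¹) * g⁻¹) := by rw [e1]; group
        _ = g * a * g⁻¹ * (k * b * k⁻¹) := by rw [← e2]; group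

end Cfsg.Agent.S3209
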