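import Cfsg.Statements.S3210
import Cfsg.Agent.Lib.Linear.GLTwo
-- import your own Cfsg.Agent.* helpers here

set_option autoImplicit false
open Cfsg

namespace Cfsg.Agent.S3210

open scoped MatrixGroups

universe uG uF

section Matrices

variable {F : Type uF} [Field F]

/-- Upper transvection. -/
def upU (t : F) : SL(2, F) := ⟨!![1, t; 0, 1], by simp [Matrix.det_fin_two]⟩

/-- Lower transvection. -/
def loU (t : F) : SL(2, F) := ⟨!![1, 0; t, 1], by simp [Matrix.det_fin_two]⟩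

theorem coe_upU_inv (t : F) : (((upU t)⁻¹ : SL(2, F)) : Matrix (Fin 2) (Fin 2) F) = !![1, -t; 0, 1] := by
  rw [Matrix.SpecialLinearGroup.coe_inv, Matrix.adjugate_fin_two]; simp [upU]

theorem coe_loU_inv (t : F) : (((loU t)⁻¹ : SL(2, F)) : Matrix (Fin 2) (Fin 2) F) = !![1, 0; -t, 1] := by
  rw [Matrix.SpecialLinearGroup.coe_inv, Matrix.adjugate_fin_two]; simp [loU]

/-- An element commuting with all its conjugates is central. -/
theorem mem_center_of_commute_conj (h2 : (2 : F) ≠ 0) (a : SL(2, F))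
    (h : ∀ g : SL(2, F), Commute (g * a * g⁻¹) a) : a ∈ Subgroup.center SL(2, F) := by
  set p := (a : Matrix (Fin 2) (Fin 2) F) 0 0 with hp
  set q := (a : Matrix (Fin 2) (Fin 2) F) 0 1 with hq
  set r := (a : Matrix (Fin 2) (Fin 2) F) 1 0 with hr
  set s := (a : Matrix (Fin 2) (Fin 2) F) 1 1 with hs
  have hA : (a : Matrix (Fin 2) (Fin 2) F) = !![p, q; r, s] := Matrix.eta_fin_two _
  have key : ∀ g : SL(2, F), ∀ i k : Fin 2,
      (((g : Matrix (Fin 2) (Fin 2) F) * !![p, q; r, s] *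
        ((g⁻¹ : SL(2, F)) : Matrix (Fin 2) (Fin 2) F)) * !![p, q; r, s]) i k =
      (!![p, q; r, s] * ((g : Matrix (Fin 2) (Fin 2) F) * !![p, q; r, s] *
        ((g⁻¹ : SL(2, F)) : Matrix (Fin 2) (Fin 2) F))) i k := by
    intro g i k
    have e := congrArg (fun x : SL(2, F) => (x : Matrix (Fin 2) (Fin 2) F) i k) (h g).eq
    simpa only [Matrix.SpecialLinearGroup.coe_mul, hA] using e
  have u1 := key (upU 1) 0 0
  have u2 := key (upU (-1)) 0 0
  have u3 := key (upU 1) 0 1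
  have l1 := key (loU 1) 1 1
  have l2 := key (loU (-1)) 1 1
  rw [coe_upU_inv] at u1 u2 u3
  rw [coe_loU_inv] at l1 l2
  simp [upU, loU, Matrix.mul_apply, Fin.sum_univ_two] at u1 u2 u3 l1 l2
  have hr0 : r = 0 := by
    have : (2 : F) * (r * r) = 0 := by
      first
        | linear_combination u1 + u2
        | linear_combination -u1 - u2
    simpa [h2] using this
  have hq0 : q = 0 := by
    have : (2 : F) * (q * q) = 0 := by
      first
        | linear_combination l1 + l2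
        | linear_combination -l1 - l2
    simpa [h2] using this
  rw [hr0, hq0] at u3
  have hps : p = s := by
    have : (p - s) * (p - s) = 0 := by
      first
        | linear_combination u3
        | linear_combination -u3
    exact sub_eq_zero.mp (mul_self_eq_zero.mp this)
  rw [Subgroup.mem_center_iff]
  intro g
  apply Subtype.ext
  change (g : Matrix (Fin 2) (Fin 2) F) * (a : Matrix (Fin 2) (Fin 2) F) =
    (a : Matrix (Fin 2) (Fin 2) F) * (g : Matrix (Fin 2) (Fin 2) F)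
  rw [hA, hr0, hq0, hps]
  ext i k
  fin_cases i <;> fin_cases k <;> simp [Matrix.mul_apply, Fin.sum_univ_two, mul_comm]

/-- Centralizers of non-central elements are commutative. -/
theorem commute_of_commute_noncentral {a b c : SL(2, F)} (hb : b ∉ Subgroup.center SL(2, F))
    (h1 : Commute a b) (h2 : Commute c b) : Commute a c := by
  obtain ⟨a, ha⟩ := a
  obtain ⟨c, hcd⟩ := c
  obtain ⟨b, hbd⟩ := b
  have e1 : ∀ i k, (a * b) i k = (b * a) i k := fun i k =>
    congrArg (fun x : SL(2, F) => (x : Matrix (Fin 2) (Fin 2) F) i k) h1.eq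
  have e2 : ∀ i k, (c * b) i k = (b * c) i k := fun i k =>
    congrArg (fun x : SL(2, F) => (x : Matrix (Fin 2) (Fin 2) F) i k) h2.eq
  have a1 := e1 0 0
  have a2 := e1 0 1
  have a3 := e1 1 0
  have c1 := e2 0 0
  have c2 := e2 0 1
  have c3 := e2 1 0
  simp [Matrix.mul_apply, Fin.sum_univ_two] at a1 a2 a3 c1 c2 c3
  have hne : b 0 1 ≠ 0 ∨ b 1 0 ≠ 0 ∨ b 0 0 - b 1 1 ≠ 0 := by
    by_contra! h
    obtain ⟨x1, x2, x3⟩ := h
    apply hb
    refine Subgroup.mem_center_iff.mpr fun g => ?_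
    apply Subtype.ext
    change (g : Matrix (Fin 2) (Fin 2) F) * b = b * (g : Matrix (Fin 2) (Fin 2) F)
    ext i k
    fin_cases i <;> fin_cases k <;>
      simp [Matrix.mul_apply, Fin.sum_univ_two, x1, x2, sub_eq_zero.mp x3, mul_comm]
  apply Subtype.ext
  change a * c = c * a
  ext i k
  fin_cases i <;> fin_cases k <;> simp [Matrix.mul_apply, Fin.sum_univ_two] <;>
    rcases hne with n | n | n <;> refine mul_left_cancel₀ n ?_
  all_goals grind

theorem eq_one_or_eq_of_center {z x : SL(2, F)} (hz : z ∈ Subgroup.center SL(2, F)) (hz1 : z ≠ 1)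
    (hx : x ∈ Subgroup.center SL(2, F)) : x = 1 ∨ x = z := by
  have key : ∀ y ∈ Subgroup.center SL(2, F),
      (y : Matrix (Fin 2) (Fin 2) F) = 1 ∨ (y : Matrix (Fin 2) (Fin 2) F) = -1 := by
    intro y hy
    obtain ⟨r, hr2, hr⟩ := Matrix.SpecialLinearGroup.mem_center_iff.mp hy
    rw [Fintype.card_fin, sq] at hr2
    rcases mul_self_eq_one_iff.mp hr2 with h | h <;> rw [← hr, h]
    · exact Or.inl (map_one _)
    · exact Or.inr (by rw [map_neg, map_one])
  have hz' : (z : Matrix (Fin 2) (Fin 2) F) = -1 :=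
    (key z hz).resolve_left fun h => hz1 (Subtype.ext h)
  rcases key x hx with h | h
  · exact Or.inl (Subtype.ext h)
  · exact Or.inr (Subtype.ext (h.trans hz'.symm))

end Matrices

section Transfer

variable {G : Type uG} [Group G] {F : Type uF} [Field F]

/-- The properties of a subgroup isomorphic to `SL₂` that the proof uses. -/
structure Good (L : Subgroup G) (j : G) : Prop where
  mem : j ∈ L
  center_eq : ∀ a ∈ L, (∀ x ∈ L, a * x = x * a) → a ∈ Subgroup.zpowers j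
  conj_comm : ∀ a ∈ L, (∀ g ∈ L, Commute (g * a * g⁻¹) a) → a ∈ Subgroup.zpowers j
  trans : ∀ a ∈ L, ∀ b ∈ L, ∀ c ∈ L, b ∉ Subgroup.zpowers j → Commute a b → Commute c b →
    Commute a c
  noncentral : ∃ a ∈ L, a ∉ Subgroup.zpowers j

theorem good_of_equiv (h2 : (2 : F) ≠ 0) (L : Subgroup G)
    (e : ↥L ≃* SL(2, F)) {j : G} (hj : j ∈ L) (hj1 : j ≠ 1) (hjc : ∀ x ∈ L, j * x = x * j) :
    Good L j := by
  have hjz : e ⟨j, hj⟩ ∈ Subgroup.center SL(2, F) := by
    rw [Subgroup.mem_center_iff]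
    intro g
    obtain ⟨x, rfl⟩ := e.surjective g
    rw [← map_mul, ← map_mul]
    exact congrArg e (Subtype.ext (hjc x x.2).symm)
  have hjn : e ⟨j, hj⟩ ≠ 1 := fun h => hj1 (congrArg Subtype.val (e.map_eq_one_iff.mp h))
  have hcen : ∀ x : L, e x ∈ Subgroup.center SL(2, F) → (x : G) ∈ Subgroup.zpowers j := by
    intro x hx
    rcases eq_one_or_eq_of_center hjz hjn hx with h | h
    · rw [e.map_eq_one_iff] at h
      rw [h]
      exact one_mem _
    · rw [e.injective h]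
      exact Subgroup.mem_zpowers j
  have hcom : ∀ x y : L, Commute (e x) (e y) ↔ Commute (x : G) (y : G) := by
    intro x y
    constructor
    · intro h
      exact congrArg Subtype.val (e.injective (by rw [map_mul, map_mul]; exact h.eq) : x * y = y * x)
    · intro h
      exact (show Commute x y from Subtype.ext h.eq).map e
  refine ⟨hj, fun a ha h => hcen ⟨a, ha⟩ ?_, fun a ha h => hcen ⟨a, ha⟩ ?_,
    fun a ha b hb c hcL hbz h1 h2' => ?_, ?_⟩
  · rw [Subgroup.mem_center_iff]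
    intro g
    obtain ⟨x, rfl⟩ := e.surjective g
    exact ((hcom x ⟨a, ha⟩).mpr (h x x.2).symm).eq
  · refine mem_center_of_commute_conj h2 _ fun g => ?_
    obtain ⟨x, rfl⟩ := e.surjective g
    rw [← map_inv, ← map_mul, ← map_mul]
    exact (hcom _ ⟨a, ha⟩).mpr (h x x.2)
  · refine (hcom ⟨a, ha⟩ ⟨c, hcL⟩).mp (commute_of_commute_noncentral (b := e ⟨b, hb⟩) ?_
      ((hcom ⟨a, ha⟩ ⟨b, hb⟩).mpr h1) ((hcom ⟨c, hcL⟩ ⟨b, hb⟩).mpr h2'))
    intro hcz
    rcases eq_one_or_eq_of_center hjz hjn hcz with h | h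
    · exact hbz (by rw [show b = 1 from congrArg Subtype.val (e.map_eq_one_iff.mp h)]; exact one_mem _)
    · exact hbz (by rw [show b = j from congrArg Subtype.val (e.injective h)]; exact Subgroup.mem_zpowers j)
  · refine ⟨(e.symm (upU 1) : L), (e.symm (upU 1)).2, fun h => ?_⟩
    obtain ⟨i, hi⟩ := Subgroup.mem_zpowers_iff.mp h
    have hi' : upU (1 : F) = (e ⟨j, hj⟩) ^ i := by
      have : e.symm (upU 1) = (⟨j, hj⟩ : L) ^ i :=
        Subtype.ext (by rw [Subgroup.coe_zpow]; exact hi.symm)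
      rw [← map_zpow, ← this, e.apply_symm_apply]
    have hc : upU (1 : F) ∈ Subgroup.center SL(2, F) := hi' ▸ zpow_mem hjz i
    have e' := congrArg (fun x : SL(2, F) => (x : Matrix (Fin 2) (Fin 2) F) 1 1)
      (Subgroup.mem_center_iff.mp hc (loU 1))
    simp only [Matrix.SpecialLinearGroup.coe_mul] at e'
    simp [upU, loU, Matrix.mul_apply, Fin.sum_univ_two] at e' <;>
      first
        | exact one_ne_zero (by linear_combination e')
        | exact one_ne_zero (by linear_combination -e')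

end Transfer

variable {G : Type uG} [Group G]

/-- A normal subgroup commuting with a second one lies in one of the factors. -/
theorem le_or_le {L₁ L₂ M M' : Subgroup G} {j : G} (g₁ : Good L₁ j) (hjL₂ : j ∈ L₂)
    (hc : ∀ x ∈ L₁, ∀ y ∈ L₂, x * y = y * x) (hMM : ∀ x ∈ M, ∀ y ∈ M', x * y = y * x)
    (hM : M ≤ L₁ ⊔ L₂) (hM' : M' ≤ L₁ ⊔ L₂)
    (hMn : ∀ l ∈ L₁, ∀ x ∈ M, l * x * l⁻¹ ∈ M) (hMn' : ∀ l ∈ L₁, ∀ x ∈ M', l * x * l⁻¹ ∈ M') :
    M ≤ L₂ ∨ M' ≤ L₂ := by
  have hsup : ∀ x ∈ L₁ ⊔ L₂, ∃ a ∈ L₁, ∃ c ∈ L₂, a * c = x := by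
    intro x hx
    have hn : L₁ ≤ Subgroup.normalizer (L₂ : Set G) := by
      intro a ha
      rw [Subgroup.mem_normalizer_iff]
      intro y
      constructor
      · intro hy
        rw [hc a ha y hy, mul_inv_cancel_right]
        exact hy
      · intro hy
        have h1 := hc a⁻¹ (inv_mem ha) _ hy
        have : y = a * y * a⁻¹ := by
          calc y = a⁻¹ * (a * y * a⁻¹) * a := by group
            _ = a * y * a⁻¹ := by rw [h1, inv_mul_cancel_right]
        rwa [this]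
    rw [← SetLike.mem_coe, Subgroup.coe_mul_of_left_le_normalizer_right L₁ L₂ hn] at hx
    exact hx
  have key : ∀ N : Subgroup G, N ≤ L₁ ⊔ L₂ → (∀ l ∈ L₁, ∀ x ∈ N, l * x * l⁻¹ ∈ N) →
      (∀ x ∈ N, x ∈ L₁ → x ∈ Subgroup.zpowers j) → N ≤ L₂ := by
    intro N hN hNn hsmall x hx
    obtain ⟨a, ha, c, hcL, rfl⟩ := hsup x (hN hx)
    suffices a ∈ Subgroup.zpowers j from mul_mem (Subgroup.zpowers_le.mpr hjL₂ this) hcL
    refine g₁.conj_comm a ha fun g hg => ?_
    have h1 : g * a * g⁻¹ * a⁻¹ ∈ Subgroup.zpowers j := by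
      refine hsmall _ ?_ (mul_mem (mul_mem (mul_mem hg ha) (inv_mem hg)) (inv_mem ha))
      have h := mul_mem (hNn g hg _ hx) (inv_mem hx)
      have hgc : g * (a * c) * g⁻¹ * (a * c)⁻¹ = g * a * g⁻¹ * a⁻¹ := by
        rw [show g * (a * c) * g⁻¹ = g * a * (c * g⁻¹) by group, ← hc g⁻¹ (inv_mem hg) c hcL]
        group
      rwa [hgc] at h
    obtain ⟨i, hi⟩ := Subgroup.mem_zpowers_iff.mp h1
    have hja : Commute j a := by
      by_cases hjz : a ∈ Subgroup.zpowers j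
      · obtain ⟨k, rfl⟩ := Subgroup.mem_zpowers_iff.mp hjz
        exact (Commute.refl j).zpow_right k
      · exact (hc a ha j hjL₂).symm
    have : g * a * g⁻¹ = j ^ i * a := by rw [hi]; group
    rw [this]
    exact (hja.zpow_left i).mul_left (Commute.refl a)
  by_contra! hboth
  obtain ⟨n1, hn1, hn1L, hn1z⟩ : ∃ x ∈ M, x ∈ L₁ ∧ x ∉ Subgroup.zpowers j := by
    by_contra! h
    exact hboth.1 (key M hM hMn h)
  obtain ⟨n2, hn2, hn2L, hn2z⟩ : ∃ x ∈ M', x ∈ L₁ ∧ x ∉ Subgroup.zpowers j := by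
    by_contra! h
    exact hboth.2 (key M' hM' hMn' h)
  refine hn1z (g₁.conj_comm n1 hn1L fun g hg => ?_)
  exact g₁.trans _ (mul_mem (mul_mem hg hn1L) (inv_mem hg)) n2 hn2L n1 hn1L hn2z
    (hMM _ (hMn g hg _ hn1) _ hn2) (hMM _ hn1 _ hn2)

theorem main [Finite G] (L₁ L₂ : Subgroup G) {j n : G} (g₁ : Good L₁ j) (g₂ : Good L₂ j)
    (hc : ∀ x ∈ L₁, ∀ y ∈ L₂, x * y = y * x) (hm : L₁ ⊓ L₂ = Subgroup.zpowers j)
    (hle : L₁ ⊔ L₂ ≤ Subgroup.centralizer ({j} : Set G))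
    (hi : (L₁ ⊔ L₂).relIndex (Subgroup.centralizer ({j} : Set G)) = 2)
    (hn : n ∈ Subgroup.centralizer ({j} : Set G)) (hn' : n ∉ L₁ ⊔ L₂) :
    (L₁.map (MulAut.conj n).toMonoidHom = L₁ ∧ L₂.map (MulAut.conj n).toMonoidHom = L₂) ∨
      (L₁.map (MulAut.conj n).toMonoidHom = L₂ ∧ Nat.card L₁ = Nat.card L₂ ∧
        ∃ n' ∈ Subgroup.centralizer ({j} : Set G), n' ∉ L₁ ⊔ L₂ ∧
          L₁.map (MulAut.conj n').toMonoidHom = L₂ ∧ n' ^ 2 ∈ Subgroup.zpowers j) := by
  set C := Subgroup.centralizer ({j} : Set G) with hC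
  set P := L₁ ⊔ L₂ with hP
  have hnormal : (P.subgroupOf C).Normal := Subgroup.normal_of_index_eq_two hi
  have hconj : ∀ c ∈ C, ∀ x ∈ P, c * x * c⁻¹ ∈ P := fun c hcC x hx =>
    hnormal.conj_mem ⟨x, hle hx⟩ hx ⟨c, hcC⟩
  have hjn : n * j * n⁻¹ = j := by
    rw [← Subgroup.mem_centralizer_iff.mp hn j (Set.mem_singleton j), mul_inv_cancel_right]
  let M₁ := L₁.map (MulAut.conj n).toMonoidHom
  let M₂ := L₂.map (MulAut.conj n).toMonoidHom
  have hM₁ : M₁ ≤ P := by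
    rintro _ ⟨a, ha, rfl⟩
    exact hconj n hn a (Subgroup.mem_sup_left ha)
  have hM₂ : M₂ ≤ P := by
    rintro _ ⟨a, ha, rfl⟩
    exact hconj n hn a (Subgroup.mem_sup_right ha)
  have hMM : ∀ x ∈ M₁, ∀ y ∈ M₂, x * y = y * x := by
    rintro _ ⟨a, ha, rfl⟩ _ ⟨b, hb, rfl⟩
    rw [← map_mul, ← map_mul, hc a ha b hb]
  -- normality
  have hnorm : ∀ L : Subgroup G, (∀ p ∈ P, ∀ a ∈ L, p * a * p⁻¹ ∈ L) →
      ∀ p ∈ P, ∀ x ∈ L.map (MulAut.conj n).toMonoidHom, p * x * p⁻¹ ∈ L.map (MulAut.conj n).toMonoidHom := by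
    intro L hL p hp x hx
    obtain ⟨a, ha, rfl⟩ := hx
    refine ⟨(n⁻¹ * p * n) * a * (n⁻¹ * p * n)⁻¹, hL _ ?_ a ha, by simp [mul_assoc]⟩
    simpa using hconj n⁻¹ (inv_mem hn) p hp
  have hn₁ : ∀ p ∈ P, ∀ a ∈ L₁, p * a * p⁻¹ ∈ L₁ := by
    have h : P ≤ Subgroup.normalizer (L₁ : Set G) := sup_le Subgroup.le_normalizer fun b hb => by
      rw [Subgroup.mem_normalizer_iff]
      intro y
      constructor
      · intro hy; rw [← hc y hy b hb, mul_inv_cancel_right]; exact hy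
      · intro hy
        have h1 := hc _ hy b hb
        have : y = b * y * b⁻¹ := by
          calc y = b⁻¹ * ((b * y * b⁻¹) * b) := by group
            _ = b * y * b⁻¹ := by rw [h1, inv_mul_cancel_left]
        rwa [this]
    exact fun p hp a ha => (Subgroup.mem_normalizer_iff.mp (h hp) a).mp ha
  have hn₂ : ∀ p ∈ P, ∀ a ∈ L₂, p * a * p⁻¹ ∈ L₂ := by
    have h : P ≤ Subgroup.normalizer (L₂ : Set G) := sup_le (fun b hb => by
      rw [Subgroup.mem_normalizer_iff]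
      intro y
      constructor
      · intro hy; rw [hc b hb y hy, mul_inv_cancel_right]; exact hy
      · intro hy
        have h1 := hc b hb _ hy
        have : y = b * y * b⁻¹ := by
          calc y = b⁻¹ * ((b * y * b⁻¹) * b) := by group
            _ = b * y * b⁻¹ := by rw [← h1, inv_mul_cancel_left]
        rwa [this]) Subgroup.le_normalizer
    exact fun p hp a ha => (Subgroup.mem_normalizer_iff.mp (h hp) a).mp ha
  have hjM₁ : j ∈ M₁ := ⟨j, g₁.mem, hjn⟩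
  have r₁ : M₁ ≤ L₂ ∨ M₂ ≤ L₂ := le_or_le g₁ g₂.mem hc hMM hM₁ hM₂
    (fun l hl => hnorm L₁ hn₁ l (Subgroup.mem_sup_left hl))
    (fun l hl => hnorm L₂ hn₂ l (Subgroup.mem_sup_left hl))
  have r₂ : M₁ ≤ L₁ ∨ M₂ ≤ L₁ := le_or_le g₂ g₁.mem (fun x hx y hy => (hc y hy x hx).symm) hMM
    (sup_comm L₁ L₂ ▸ hM₁) (sup_comm L₁ L₂ ▸ hM₂)
    (fun l hl => hnorm L₁ hn₁ l (Subgroup.mem_sup_right hl))
    (fun l hl => hnorm L₂ hn₂ l (Subgroup.mem_sup_right hl))
  have hcard : ∀ L : Subgroup G, Nat.card (L.map (MulAut.conj n).toMonoidHom : Subgroup G) = Nat.card L :=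
    fun L => Nat.card_congr (L.equivMapOfInjective _ (MulAut.conj n).injective).toEquiv.symm
  have hbad : ∀ (L : Subgroup G), (∃ a ∈ L, a ∉ Subgroup.zpowers j) → j ∈ L →
      L.map (MulAut.conj n).toMonoidHom ≤ L₁ → L.map (MulAut.conj n).toMonoidHom ≤ L₂ → False := by
    rintro L ⟨a, ha, hna⟩ hjL h1 h2
    have hsub : L.map (MulAut.conj n).toMonoidHom ≤ Subgroup.zpowers j := hm ▸ le_inf h1 h2
    obtain ⟨i, hi⟩ := Subgroup.mem_zpowers_iff.mp (hsub ⟨a, ha, rfl⟩)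
    apply hna
    refine ⟨i, ?_⟩
    apply (MulAut.conj n).injective
    rw [map_zpow, MulAut.conj_apply n j, hjn]
    exact hi
  rcases r₁ with h12 | h22
  · rcases r₂ with h11 | h21
    · exact (hbad L₁ g₁.noncentral g₁.mem h11 h12).elim
    · right
      have c1 : Nat.card L₁ ≤ Nat.card L₂ := hcard L₁ ▸ Subgroup.card_le_of_le h12
      have c2 : Nat.card L₂ ≤ Nat.card L₁ := hcard L₂ ▸ Subgroup.card_le_of_le h21
      have e12 : M₁ = L₂ := Subgroup.eq_of_le_of_card_ge h12 (by rw [hcard L₁]; exact c2)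
      have e21 : M₂ = L₁ := Subgroup.eq_of_le_of_card_ge h21 (by rw [hcard L₂]; exact c1)
      refine ⟨e12, le_antisymm c1 c2, ?_⟩
      have hsq : n * n ∈ P := by
        have := Subgroup.sq_mem_of_index_two hi ⟨n, hn⟩
        rw [sq] at this
        exact this
      obtain ⟨a, ha, b, hb, hab⟩ : ∃ a ∈ L₁, ∃ b ∈ L₂, a * b = n * n := by
        have hx : (n * n : G) ∈ ((L₁ ⊔ L₂ : Subgroup G) : Set G) := hsq
        rw [Subgroup.coe_mul_of_left_le_normalizer_right L₁ L₂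
          (fun b hb => Subgroup.mem_normalizer_iff.mpr fun y => ⟨fun hy => hn₂ b (Subgroup.mem_sup_left hb) y hy,
            fun hy => by
              have := hn₂ b⁻¹ (inv_mem (Subgroup.mem_sup_left hb)) _ hy
              simpa [mul_assoc] using this⟩)] at hx
        exact hx
      have hna : n * a * n⁻¹ ∈ L₂ := e12 ▸ ⟨a, ha, rfl⟩
      have hnb : n * b * n⁻¹ ∈ L₁ := e21 ▸ ⟨b, hb, rfl⟩
      have hfix : (n * b * n⁻¹) * (n * a * n⁻¹) = a * b := by
        rw [hc _ hnb _ hna, show n * a * n⁻¹ * (n * b * n⁻¹) = n * (a * b) * n⁻¹ by group, hab]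
        group
      have hz : a⁻¹ * (n * b * n⁻¹) ∈ Subgroup.zpowers j := by
        rw [← hm]
        refine ⟨L₁.mul_mem (L₁.inv_mem ha) hnb, ?_⟩
        have h : a⁻¹ * (n * b * n⁻¹) = b * (n * a * n⁻¹)⁻¹ := by
          rw [eq_mul_inv_iff_mul_eq, mul_assoc, hfix, inv_mul_cancel_left]
        rw [h]
        exact L₂.mul_mem hb (L₂.inv_mem hna)
      refine ⟨a⁻¹ * n, C.mul_mem (C.inv_mem (hle (Subgroup.mem_sup_left (T := L₂) ha))) hn, ?_, ?_, ?_⟩
      · intro h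
        exact hn' ((Subgroup.mul_mem_cancel_left (L₁ ⊔ L₂) ((L₁ ⊔ L₂).inv_mem (Subgroup.mem_sup_left (T := L₂) ha))).mp h)
      · have hmap : ∀ x, MulAut.conj (a⁻¹ * n) x = a⁻¹ * (n * x * n⁻¹) * a := fun x => by
          simp [mul_assoc]
        ext y
        constructor
        · rintro ⟨x, hx, rfl⟩
          change MulAut.conj (a⁻¹ * n) x ∈ L₂
          rw [hmap]
          have := hn₂ a⁻¹ (inv_mem (Subgroup.mem_sup_left ha)) _ (e12 ▸ ⟨x, hx, rfl⟩ : n * x * n⁻¹ ∈ L₂)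
          rwa [inv_inv] at this
        · intro hy
          obtain ⟨x, hx, hxy⟩ : a * y * a⁻¹ ∈ M₁ := e12 ▸ hn₂ a (Subgroup.mem_sup_left ha) y hy
          refine ⟨x, hx, ?_⟩
          change MulAut.conj (a⁻¹ * n) x = y
          rw [hmap, show n * x * n⁻¹ = a * y * a⁻¹ from hxy]
          group
      · have hz' : (a⁻¹ * n) ^ 2 = (a⁻¹ * (n * b * n⁻¹)) := by
          have hca : n * a⁻¹ * n⁻¹ = (n * a * n⁻¹)⁻¹ := by group
          have hz2 : a⁻¹ * (n * b * n⁻¹) = b * (n * a * n⁻¹)⁻¹ := by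
            rw [eq_mul_inv_iff_mul_eq, mul_assoc, hfix, inv_mul_cancel_left]
          calc (a⁻¹ * n) ^ 2 = a⁻¹ * (n * a⁻¹ * n⁻¹) * (n * n) := by simp [sq, mul_assoc]
            _ = a⁻¹ * (n * a * n⁻¹)⁻¹ * (a * b) := by rw [hca, hab]
            _ = a⁻¹ * ((n * a * n⁻¹)⁻¹ * a) * b := by group
            _ = (n * a * n⁻¹)⁻¹ * b := by rw [← hc a ha _ (inv_mem hna)]; group
            _ = a⁻¹ * (n * b * n⁻¹) := by
              have hcomm : n * a * n⁻¹ * (a⁻¹ * (n * b * n⁻¹)) = (a⁻¹ * (n * b * n⁻¹)) * (n * a * n⁻¹) :=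
                (hc _ (mul_mem (inv_mem ha) hnb) _ hna).symm
              rw [hz2] at hcomm ⊢
              rw [inv_mul_eq_iff_eq_mul, hcomm, inv_mul_cancel_right]
        rw [hz']
        exact hz
  · rcases r₂ with h11 | h21
    · left
      exact ⟨Subgroup.eq_of_le_of_card_ge h11 (hcard L₁).ge, Subgroup.eq_of_le_of_card_ge h22 (hcard L₂).ge⟩
    · exact (hbad L₂ g₂.noncentral g₂.mem h21 h22).elim

/-- Let G be a finite group with subgroups L₁ ≅ SL₂(q₁) and L₂ ≅ SL₂(q₂), q₁ and q₂ odd prime powers, which commute elementwise and meet in ⟨j⟩ for an involution j, and suppose L₁L₂ has index 2 in C_G(j). Then every element n of C_G(j) outside L₁L₂ either normalizes both L₁ and L₂, or conjugates L₁ onto L₂; in the second case q₁ = q₂ and there is an element n′ of C_G(j) outside L₁L₂ conjugating L₁ onto L₂ with n′² ∈ ⟨j⟩. -/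
theorem result {G : Type*} [Group G] [Finite G]
    {F₁ : Type*} [Field F₁] [Fintype F₁] {F₂ : Type*} [Field F₂] [Fintype F₂]
    (hF₁ : Odd (Fintype.card F₁)) (hF₂ : Odd (Fintype.card F₂)) (L₁ L₂ : Subgroup G)
    (e₁ : ↥L₁ ≃* Matrix.SpecialLinearGroup (Fin 2) F₁) (e₂ : ↥L₂ ≃* Matrix.SpecialLinearGroup (Fin 2) F₂)
    (hc : ∀ x ∈ L₁, ∀ y ∈ L₂, x * y = y * x) (j : G) (hj : orderOf j = 2) (hm : L₁ ⊓ L₂ = Subgroup.zpowers j)
    (hle : L₁ ⊔ L₂ ≤ Subgroup.centralizer ({j} : Set G)) (hi : (L₁ ⊔ L₂).relIndex (Subgroup.centralizer ({j} : Set G)) = 2) (n : G) (hn : n ∈ Subgroup.centralizer ({j} : Set G)) (hn' : n ∉ L₁ ⊔ L₂) :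
    (L₁.map (MulAut.conj n).toMonoidHom = L₁ ∧ L₂.map (MulAut.conj n).toMonoidHom = L₂) ∨
      (L₁.map (MulAut.conj n).toMonoidHom = L₂ ∧ Fintype.card F₁ = Fintype.card F₂ ∧
        ∃ n' ∈ Subgroup.centralizer ({j} : Set G), n' ∉ L₁ ⊔ L₂ ∧ L₁.map (MulAut.conj n').toMonoidHom = L₂ ∧ n' ^ 2 ∈ Subgroup.zpowers j) := by
  have hjm : j ∈ L₁ ⊓ L₂ := hm ▸ Subgroup.mem_zpowers j
  have hj1 : j ≠ 1 := by rintro rfl; simp at hj
  have h2₁ : (2 : F₁) ≠ 0 := Ring.two_ne_zero (fun hc2 => by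
      obtain ⟨k, hk⟩ := hF₁
      have := FiniteField.even_card_of_char_two hc2
      omega)
  have h2₂ : (2 : F₂) ≠ 0 := Ring.two_ne_zero (fun hc2 => by
      obtain ⟨k, hk⟩ := hF₂
      have := FiniteField.even_card_of_char_two hc2
      omega)
  have g₁ := good_of_equiv h2₁ L₁ e₁ hjm.1 hj1 fun x hx => (hc x hx j hjm.2).symm
  have g₂ := good_of_equiv h2₂ L₂ e₂ hjm.2 hj1 fun x hx => hc j hjm.1 x hx
  rcases main L₁ L₂ g₁ g₂ hc hm hle hi hn hn' with h | ⟨h1, h2, h3⟩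
  · exact Or.inl h
  · refine Or.inr ⟨h1, ?_, h3⟩
    rw [Nat.card_congr e₁.toEquiv, Nat.card_congr e₂.toEquiv, Cfsg.Lib.Linear.Two.card_SL_two,
      Cfsg.Lib.Linear.Two.card_SL_two] at h2
    by_contra hne
    have hq₁ := Fintype.one_lt_card (α := F₁)
    have hq₂ := Fintype.one_lt_card (α := F₂)
    rcases Nat.lt_or_gt_of_ne hne with h | h
    · refine absurd h2 (Nat.ne_of_lt (Nat.mul_lt_mul_of_lt_of_le h ?_ ?_))
      · exact Nat.sub_le_sub_right (Nat.pow_le_pow_left h.le 2) 1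
      · have := Nat.pow_le_pow_left (show 2 ≤ Fintype.card F₂ from hq₂) 2
        omega
    · refine absurd h2.symm (Nat.ne_of_lt (Nat.mul_lt_mul_of_lt_of_le h ?_ ?_))
      · exact Nat.sub_le_sub_right (Nat.pow_le_pow_left h.le 2) 1
      · have := Nat.pow_le_pow_left (show 2 ≤ Fintype.card F₁ from hq₁) 2
        omega

end Cfsg.Agent.S3210
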