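import Cfsg.Statements.S3211
import Cfsg.Agent.S3035
import Cfsg.Agent.S3209
import Mathlib.FieldTheory.Finite.Basic
-- import your own Cfsg.Agent.* helpers here

set_option autoImplicit false
set_option maxHeartbeats 1000000
open Cfsg

namespace Cfsg.Agent.S3211

open Subgroup MatrixGroups

section SL

variable {F : Type*} [Field F]

theorem two_ne_zero_of_odd [Fintype F] (hF : Odd (Fintype.card F)) : (2 : F) ≠ 0 := by
  intro h
  have hc : ringChar F = 2 := CharP.ringChar_of_prime_eq_zero Nat.prime_two (by exact_mod_cast h)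
  have := (FiniteField.even_card_iff_char_two).1 hc
  rw [Nat.odd_iff] at hF
  omega

theorem sum_two_squares [Fintype F] : ∃ al be : F, al * al + be * be = -1 := by
  obtain ⟨p, hp⟩ := CharP.exists F
  haveI : Fact p.Prime := ⟨CharP.char_is_prime F p⟩
  obtain ⟨u, v, h⟩ := CharP.sq_add_sq F p (-1)
  exact ⟨(u : F), (v : F), by push_cast at h; linear_combination h⟩

theorem sl_frame [Fintype F] :
    ∃ a u : SL(2, F), a * a = -1 ∧ u * u = -1 ∧ u * a * u⁻¹ = a⁻¹ ∧
      ∀ p q : SL(2, F), p * a = a * p → q * a = a * q → p * q = q * p := by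
  classical
  obtain ⟨al, be, hab⟩ := sum_two_squares (F := F)
  let a : SL(2, F) := ⟨!![0, 1; -1, 0], by simp [Matrix.det_fin_two]⟩
  let u : SL(2, F) := ⟨!![al, be; be, -al], by simp [Matrix.det_fin_two]; linear_combination -hab⟩
  refine ⟨a, u, ?_, ?_, ?_, ?_⟩
  · apply Subtype.ext
    rw [Matrix.SpecialLinearGroup.coe_mul, Matrix.SpecialLinearGroup.coe_neg, Matrix.SpecialLinearGroup.coe_one]
    ext i j; fin_cases i <;> fin_cases j <;> simp [a, Matrix.mul_apply, Fin.sum_univ_two]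
  · apply Subtype.ext
    rw [Matrix.SpecialLinearGroup.coe_mul, Matrix.SpecialLinearGroup.coe_neg, Matrix.SpecialLinearGroup.coe_one]
    ext i j; fin_cases i <;> fin_cases j <;>
      simp [u, Matrix.mul_apply, Fin.sum_univ_two] <;>
        first | linear_combination hab | linear_combination -hab | ring
  · rw [mul_inv_eq_iff_eq_mul]
    apply Subtype.ext
    rw [Matrix.SpecialLinearGroup.coe_mul, Matrix.SpecialLinearGroup.coe_mul, Matrix.SpecialLinearGroup.coe_inv]
    ext i j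
    fin_cases i <;> fin_cases j <;>
      simp [a, u, Matrix.mul_apply, Fin.sum_univ_two, Matrix.adjugate_fin_two]
  · intro p q hp hq
    have key : ∀ g : SL(2, F), g * a = a * g → g.1 1 1 = g.1 0 0 ∧ g.1 1 0 = -g.1 0 1 := by
      intro g hg
      have h0 := congrArg Subtype.val hg
      rw [Matrix.SpecialLinearGroup.coe_mul, Matrix.SpecialLinearGroup.coe_mul] at h0
      have e00 := congrFun (congrFun h0 0) 0
      have e01 := congrFun (congrFun h0 0) 1
      simp [a, Matrix.mul_apply, Fin.sum_univ_two] at e00 e01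
      exact ⟨e01.symm, e00.symm⟩
    obtain ⟨p1, p2⟩ := key p hp
    obtain ⟨q1, q2⟩ := key q hq
    apply Subtype.ext
    rw [Matrix.SpecialLinearGroup.coe_mul, Matrix.SpecialLinearGroup.coe_mul]
    ext i j
    fin_cases i <;> fin_cases j <;>
      simp [Matrix.mul_apply, Fin.sum_univ_two, p1, p2, q1, q2] <;> ring

variable {G : Type*} [Group G]

/-- The facts about `SL(2, F)` used below, inside a group. -/
theorem frame [Fintype F] (hF : Odd (Fintype.card F)) (L : Subgroup G) (e : ↥L ≃* SL(2, F)) (j : G)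
    (hjL : j ∈ L) (hj : orderOf j = 2) :
    ∃ a ∈ L, ∃ u ∈ L, a * a = j ∧ u * u = j ∧ u * a * u⁻¹ = a⁻¹ ∧
      (∀ p ∈ L, ∀ q ∈ L, p * a = a * p → q * a = a * q → p * q = q * p) ∧
      (∀ z ∈ L, z * z = 1 → z = 1 ∨ z = j) ∧ (∀ z ∈ L, z * j = j * z) := by
  obtain ⟨hinv, -, -⟩ := Cfsg.Agent.S3209.side hF L e j hjL hj
  have hjj : (⟨j, hjL⟩ : L) * ⟨j, hjL⟩ = 1 := by
    apply Subtype.ext
    show j * j = 1
    rw [← pow_two, ← hj]; exact pow_orderOf_eq_one j
  have hje : e ⟨j, hjL⟩ = -1 := by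
    rcases Cfsg.Agent.S3209.inv_unique (two_ne_zero_of_odd hF) (e ⟨j, hjL⟩)
      (by rw [← map_mul, hjj, map_one]) with h | h
    · exfalso
      have : j = 1 := congrArg Subtype.val (e.injective (h.trans (map_one e).symm))
      simp [this] at hj
    · exact h
  obtain ⟨a, u, ha, hu, hua, hcomm⟩ := sl_frame (F := F)
  refine ⟨(e.symm a).1, (e.symm a).2, (e.symm u).1, (e.symm u).2, ?_, ?_, ?_, ?_, hinv, ?_⟩
  · have : e.symm a * e.symm a = ⟨j, hjL⟩ := e.injective (by simp [ha, hje])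
    exact congrArg Subtype.val this
  · have : e.symm u * e.symm u = ⟨j, hjL⟩ := e.injective (by simp [hu, hje])
    exact congrArg Subtype.val this
  · have : e.symm u * e.symm a * (e.symm u)⁻¹ = (e.symm a)⁻¹ := e.injective (by simp [hua])
    exact congrArg Subtype.val this
  · intro p hp q hq hpa hqa
    have h1 : e ⟨p, hp⟩ * a = a * e ⟨p, hp⟩ := e.symm.injective (by
      rw [map_mul, map_mul, e.symm_apply_apply]; exact Subtype.ext hpa)
    have h3 : e ⟨q, hq⟩ * a = a * e ⟨q, hq⟩ := e.symm.injective (by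
      rw [map_mul, map_mul, e.symm_apply_apply]; exact Subtype.ext hqa)
    have := hcomm _ _ h1 h3
    rw [← map_mul, ← map_mul] at this
    exact congrArg Subtype.val (e.injective this)
  · intro z hz
    have : e (⟨z, hz⟩ * ⟨j, hjL⟩) = e (⟨j, hjL⟩ * ⟨z, hz⟩) := by
      rw [map_mul, map_mul, hje, mul_neg, neg_mul, one_mul, mul_one]
    exact congrArg Subtype.val (e.injective this)

end SL

section Main

variable {G : Type*} [Group G] [Finite G] {L₁ L₂ : Subgroup G} {j n : G}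

/-- Elements of the central product. -/
theorem exists_factor (hc : ∀ x ∈ L₁, ∀ y ∈ L₂, x * y = y * x) {y : G} (hy : y ∈ L₁ ⊔ L₂) :
    ∃ e ∈ L₁, ∃ f ∈ L₂, y = e * f :=
  Cfsg.Agent.S3209.mem_sup_commuting L₁ L₂ hc hy

theorem factor_eq (hm : L₁ ⊓ L₂ = zpowers j) (hj : orderOf j = 2) {e e' f f' : G} (he : e ∈ L₁) (he' : e' ∈ L₁)
    (hf : f ∈ L₂) (hf' : f' ∈ L₂) (h : e * f = e' * f') :
    (e = e' ∧ f = f') ∨ (e = e' * j ∧ f' = j * f) := by
  have h1 : e'⁻¹ * e = f' * f⁻¹ := by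
    rw [eq_mul_inv_iff_mul_eq, mul_assoc, h]; group
  have h2 : e'⁻¹ * e ∈ zpowers j := hm ▸ mem_inf.mpr ⟨mul_mem (inv_mem he') he, h1 ▸ mul_mem hf' (inv_mem hf)⟩
  obtain ⟨k, hk⟩ := mem_zpowers_iff.mp h2
  rw [← zpow_mod_orderOf, hj] at hk
  rcases Int.emod_two_eq_zero_or_one k with h0 | h0 <;> rw [show ((2 : ℕ) : ℤ) = 2 from rfl, h0] at hk
  · rw [zpow_zero] at hk
    left
    exact ⟨(inv_mul_eq_one.mp hk.symm).symm, (mul_inv_eq_one.mp (h1 ▸ hk.symm)).symm⟩
  · rw [zpow_one] at hk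
    right
    exact ⟨by rw [hk]; group, by rw [hk, h1]; group⟩

end Main

/-- Let G be a finite group with subgroups L₁ ≅ SL₂(q₁) and L₂ ≅ SL₂(q₂), q₁ and q₂ odd prime powers, which commute elementwise and meet in ⟨j⟩ for an involution j, and suppose L₁L₂ has index 2 in C_G(j). If some n ∈ C_G(j) with n² = j interchanges L₁ and L₂ under conjugation (so that C_G(j) = L₁L₂⟨n⟩), then G = C_G(j)O(G). -/
theorem result {G : Type*} [Group G] [Finite G]
    {F₁ : Type*} [Field F₁] [Fintype F₁] {F₂ : Type*} [Field F₂] [Fintype F₂]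
    (hF₁ : Odd (Fintype.card F₁)) (hF₂ : Odd (Fintype.card F₂)) (L₁ L₂ : Subgroup G)
    (e₁ : ↥L₁ ≃* Matrix.SpecialLinearGroup (Fin 2) F₁) (e₂ : ↥L₂ ≃* Matrix.SpecialLinearGroup (Fin 2) F₂)
    (hc : ∀ x ∈ L₁, ∀ y ∈ L₂, x * y = y * x) (j : G) (hj : orderOf j = 2) (hm : L₁ ⊓ L₂ = Subgroup.zpowers j)
    (hle : L₁ ⊔ L₂ ≤ Subgroup.centralizer ({j} : Set G)) (hi : (L₁ ⊔ L₂).relIndex (Subgroup.centralizer ({j} : Set G)) = 2) (n : G) (hn : n ∈ Subgroup.centralizer ({j} : Set G))
    (hn2 : n ^ 2 = j) (hswap : L₁.map (MulAut.conj n).toMonoidHom = L₂) :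
    Subgroup.centralizer ({j} : Set G) ⊔ Cfsg.oddCore G = ⊤ := by
  classical
  haveI : Fact (Nat.Prime 2) := ⟨Nat.prime_two⟩
  refine Cfsg.Agent.S3035.isolated_case ⟨hj, ?_⟩
  set C := Subgroup.centralizer ({j} : Set G) with hCdef
  have hjj : j * j = 1 := by rw [← sq, ← hj, pow_orderOf_eq_one]
  have hjinv : j⁻¹ = j := inv_eq_of_mul_eq_one_right hjj
  have hjm : j ∈ L₁ ⊓ L₂ := hm ▸ mem_zpowers j
  obtain ⟨a, ha, u, hu, haa, huu, hua, hab1, hinv1, hz1⟩ := frame hF₁ L₁ e₁ j hjm.1 hj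
  obtain ⟨-, -, -, -, -, -, -, -, hinv2, hz2⟩ := frame hF₂ L₂ e₂ j hjm.2 hj
  have hnj : n * j = j * n := mem_centralizer_singleton_iff.mp hn
  have hnn : n * n = j := by rw [← sq, hn2]
  -- conjugation by `n`
  set σ := fun g : G => n * g * n⁻¹ with hσ
  have hσm : ∀ p q, σ (p * q) = σ p * σ q := fun p q => by simp only [hσ]; group
  have hσ1 : ∀ e ∈ L₁, σ e ∈ L₂ := fun e he => hswap ▸ mem_map.mpr ⟨e, he, rfl⟩
  have hσσ1 : ∀ e ∈ L₁, σ (σ e) = e := fun e he => by
    have : σ (σ e) = j * e * j⁻¹ := by simp only [hσ, ← hnn]; group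
    rw [this, ← hz1 e he, mul_inv_cancel_right]
  have hσ2 : ∀ f ∈ L₂, σ f ∈ L₁ ∧ σ (σ f) = f := by
    intro f hf
    rw [← hswap] at hf
    obtain ⟨e, he, rfl⟩ := mem_map.mp hf
    exact ⟨(hσσ1 e he).symm ▸ he, congrArg σ (hσσ1 e he)⟩
  have hσj : σ j = j := by show n * j * n⁻¹ = j; rw [hnj, mul_inv_cancel_right]
  have hnout : n ∉ L₁ ⊔ L₂ := by
    intro hnL
    obtain ⟨p, hp, q, hq, hpq⟩ := exists_factor hc hnL
    have h1 : σ a ∈ L₁ := by
      show n * a * n⁻¹ ∈ L₁
      rw [hpq, show p * q * a * (p * q)⁻¹ = p * (q * a * q⁻¹) * p⁻¹ by group,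
        ← hc a ha q hq, mul_inv_cancel_right]
      exact mul_mem (mul_mem hp ha) (inv_mem hp)
    have h2 : σ a ∈ L₁ ⊓ L₂ := mem_inf.mpr ⟨h1, hσ1 a ha⟩
    have h3 : a ∈ L₁ ⊓ L₂ := by
      rw [← hσσ1 a ha]
      exact mem_inf.mpr ⟨(hσ2 _ (hσ1 a ha)).1, hσ1 _ h1⟩
    rw [hm] at h3
    obtain ⟨k, hk⟩ := mem_zpowers_iff.mp h3
    have h4 : a * a = 1 := by
      rw [← hk, ← zpow_add, ← two_mul, zpow_mul]
      rw [show j ^ (2 : ℤ) = 1 by rw [zpow_two, hjj], one_zpow]
    rw [haa] at h4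
    rw [h4, orderOf_one] at hj
    omega
  have hcoset : ∀ y ∈ C, y ∈ L₁ ⊔ L₂ ∨ ∃ e ∈ L₁, ∃ f ∈ L₂, y = n * (e * f) := by
    intro y hy
    by_cases hyL : y ∈ L₁ ⊔ L₂
    · exact Or.inl hyL
    refine Or.inr ?_
    have h2 : ((L₁ ⊔ L₂).subgroupOf C).index = 2 := hi
    have h3 := (mul_mem_iff_of_index_two h2 (a := (⟨n⁻¹, inv_mem hn⟩ : C)) (b := ⟨y, hy⟩)).mpr
      (iff_of_false (fun hh => hnout (inv_mem_iff.mp (mem_subgroupOf.mp hh)))
        (fun hh => hyL (mem_subgroupOf.mp hh)))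
    obtain ⟨e, he, f, hf, hef⟩ := exists_factor hc (mem_subgroupOf.mp h3)
    exact ⟨e, he, f, hf, by rw [← hef]; show y = n * (n⁻¹ * y); group⟩
  have hsquare : ∀ e ∈ L₁, ∀ f ∈ L₂, n * (e * f) * (n * (e * f)) = j * ((σ f * e) * (σ e * f)) := by
    intro e he f hf
    have hje : j * σ e = σ e * j := (hz2 _ (hσ1 e he)).symm
    have hjf : j * σ f = σ f * j := (hz1 _ (hσ2 f hf).1).symm
    calc n * (e * f) * (n * (e * f)) = σ e * σ f * (n * n) * (e * f) := by simp only [hσ]; group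
      _ = σ e * (j * σ f) * (e * f) := by rw [hnn, hjf]; group
      _ = j * (σ e * (σ f * e) * f) := by rw [← mul_assoc (σ e) j, ← hje]; group
      _ = j * ((σ f * e) * (σ e * f)) := by
        rw [← hc (σ f * e) (mul_mem (hσ2 f hf).1 he) (σ e) (hσ1 e he)]; group
  -- all involutions of the centralizer lie in the central product
  have hinC : ∀ y ∈ C, y * y = 1 → y ∈ L₁ ⊔ L₂ := by
    intro y hy hyy
    rcases hcoset y hy with h | ⟨e, he, f, hf, rfl⟩
    · exact h
    exfalso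
    rw [hsquare e he f hf] at hyy
    have h1 : (σ f * e) * (σ e * f) = 1 * j := by
      rw [one_mul, ← mul_left_cancel_iff (a := j), hyy, hjj]
    have hmem1 := mul_mem (hσ2 f hf).1 he
    have hmem2 := mul_mem (hσ1 e he) hf
    have h2 : ∃ z, (z = 1 ∨ z = j) ∧ σ f * e = z ∧ σ e * f = z * j := by
      rcases factor_eq hm hj hmem1 (one_mem _) hmem2 hjm.2 h1 with ⟨p, q⟩ | ⟨p, q⟩
      · exact ⟨1, Or.inl rfl, p, by rw [q, one_mul]⟩
      · refine ⟨j, Or.inr rfl, by rw [p, one_mul], ?_⟩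
        rw [← mul_left_cancel_iff (a := j), ← q, ← mul_assoc, hjj, one_mul]
    obtain ⟨z, hz, hA, hB⟩ := h2
    have hzc : e * z = z * e := by
      rcases hz with rfl | rfl
      · rw [one_mul, mul_one]
      · exact hz1 e he
    have h3 : e * σ f = z := by
      calc e * σ f = e * (σ f * e) * e⁻¹ := by group
        _ = z := by rw [hA, hzc, mul_inv_cancel_right]
    have h4 : σ (σ e * f) = e * σ f := by rw [hσm, hσσ1 e he]
    rw [h3, hB, hσm, hσj] at h4
    have h5 : z * j = z := by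
      rcases hz with rfl | rfl
      · rwa [show σ 1 = 1 by simp [hσ]] at h4
      · rwa [hσj] at h4
    rw [mul_eq_left] at h5
    rw [h5, orderOf_one] at hj
    omega
  obtain ⟨x', -, -, -, hclass⟩ := Cfsg.Agent.S3209.result hF₁ hF₂ L₁ L₂ e₁ e₂ hc j hj hm
  -- the involution `x = a b`
  set b := σ a with hbdef
  have hb : b ∈ L₂ := hσ1 a ha
  have hσb : σ b = a := hσσ1 a ha
  have hbb : b * b = j := by rw [hbdef, ← hσm, haa, hσj]
  set x := a * b with hxdef
  have hab : a * b = b * a := hc a ha b hb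
  have hxL : x ∈ L₁ ⊔ L₂ := mul_mem (mem_sup_left ha) (mem_sup_right hb)
  have hxx : x * x = 1 := by
    calc x * x = a * (b * a) * b := by rw [hxdef]; group
      _ = (a * a) * (b * b) := by rw [← hab]; group
      _ = 1 := by rw [haa, hbb, hjj]
  have hxj : x ≠ j := by
    intro h
    rcases factor_eq hm hj ha (one_mem _) hb hjm.2 (show a * b = 1 * j by rw [← hxdef, h, one_mul]) with ⟨p, -⟩ | ⟨p, -⟩
    · rw [p, one_mul] at haa; rw [← haa, orderOf_one] at hj; omega
    · rw [p, one_mul, hjj] at haa; rw [← haa, orderOf_one] at hj; omega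
  have hx1 : x ≠ 1 := by
    intro h
    rcases factor_eq hm hj ha (one_mem _) hb (one_mem _) (show a * b = 1 * 1 by rw [← hxdef, h, one_mul]) with ⟨p, -⟩ | ⟨p, -⟩
    · rw [p, one_mul] at haa; rw [← haa, orderOf_one] at hj; omega
    · rw [p, one_mul, hjj] at haa; rw [← haa, orderOf_one] at hj; omega
  have hxo : orderOf x = 2 := orderOf_eq_prime (by rw [sq, hxx]) hx1
  have hxinv : x⁻¹ = x := inv_eq_of_mul_eq_one_right hxx
  have hjx : j * x = x * j := by
    have := mem_centralizer_singleton_iff.mp (hle hxL); exact this.symm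
  intro g hcomm
  by_contra hne
  have hgC : g * j * g⁻¹ ∈ C := mem_centralizer_singleton_iff.mpr hcomm.eq.symm
  have hgo : orderOf (g * j * g⁻¹) = 2 := by rw [← hj]; exact orderOf_injective (MulAut.conj g).toMonoidHom (MulAut.conj g).injective j
  have hgg : g * j * g⁻¹ * (g * j * g⁻¹) = 1 := by
    rw [show g * j * g⁻¹ * (g * j * g⁻¹) = g * (j * j) * g⁻¹ by group, hjj, mul_one, mul_inv_cancel]
  obtain ⟨k, hk⟩ : ∃ k : G, k * j * k⁻¹ = x := by
    rcases hclass x hxL hxo with h | ⟨k₁, -, hk₁⟩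
    · exact absurd h hxj
    rcases hclass _ (hinC _ hgC hgg) hgo with h | ⟨k₂, -, hk₂⟩
    · exact absurd h hne
    refine ⟨k₁ * k₂⁻¹ * g, ?_⟩
    calc k₁ * k₂⁻¹ * g * j * (k₁ * k₂⁻¹ * g)⁻¹ = k₁ * (k₂⁻¹ * (g * j * g⁻¹) * k₂) * k₁⁻¹ := by group
      _ = x := by rw [← hk₂, ← hk₁]; group
  -- the centralizer of `j` and `x`
  set D := C ⊓ Subgroup.centralizer ({x} : Set G) with hDdef
  have hjC : j ∈ C := mem_centralizer_singleton_iff.mpr rfl
  have haC : a ∈ C := hle (mem_sup_left ha)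
  have hbC : b ∈ C := hle (mem_sup_right hb)
  have haD : a ∈ D := ⟨haC, mem_centralizer_singleton_iff.mpr (by rw [hxdef, mul_assoc, hab])⟩
  have hbD : b ∈ D := ⟨hbC, mem_centralizer_singleton_iff.mpr (by rw [hxdef, ← mul_assoc, hab])⟩
  have hnx : n * x = x * n := by
    have : σ x = x := by rw [hxdef, hσm, ← hbdef, hσb, hab]
    exact mul_inv_eq_iff_eq_mul.mp this
  have hnD : n ∈ D := ⟨hn, mem_centralizer_singleton_iff.mpr hnx⟩
  -- a two-subgroup of `D`
  let H := Subgroup.closure ({(⟨a, haD⟩ : D), ⟨b, hbD⟩} : Set D)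
  let T₀ : Subgroup D := Subgroup.closure ({(⟨a, haD⟩ : D), ⟨b, hbD⟩, ⟨n, hnD⟩} : Set D)
  have hT₀ : IsPGroup 2 T₀ := by
    set K := Subgroup.zpowers (⟨a, haD⟩ : D) ⊔ Subgroup.zpowers (⟨b, hbD⟩ : D) with hK
    have hp : ∀ (y : D), (y : G) * y = j → IsPGroup 2 (Subgroup.zpowers y) := by
      intro y hy
      have h4 : orderOf y ∣ 2 ^ 2 := orderOf_dvd_of_pow_eq_one (Subtype.ext (by
        show (y : G) ^ 4 = 1
        rw [show (4 : ℕ) = 2 * 2 from rfl, pow_mul, sq, sq, hy, hjj]))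
      obtain ⟨i, -, hi⟩ := (Nat.dvd_prime_pow Nat.prime_two).mp h4
      exact IsPGroup.of_card (n := i) (by rw [Nat.card_zpowers, hi])
    have hnorm : Subgroup.zpowers (⟨a, haD⟩ : D) ≤ Subgroup.normalizer (Subgroup.zpowers (⟨b, hbD⟩ : D) : Set D) := by
      rw [zpowers_le]
      refine centralizer_le_normalizer _ ?_
      rw [mem_centralizer_iff]
      intro y hy
      obtain ⟨i, rfl⟩ := mem_zpowers_iff.mp hy
      exact ((show Commute (⟨b, hbD⟩ : D) ⟨a, haD⟩ from Subtype.ext hab.symm).zpow_left i).eq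
    have hKp : IsPGroup 2 K := (hp _ haa).to_sup_of_normal_right' (hp _ hbb) hnorm
    have hnK : Subgroup.zpowers (⟨n, hnD⟩ : D) ≤ Subgroup.normalizer (K : Set D) := by
      rw [zpowers_le]
      refine mem_normalizer_fintype fun y hy => ?_
      have hle' : K ≤ K.comap (MulAut.conj (⟨n, hnD⟩ : D)).toMonoidHom := by
        refine sup_le ?_ ?_ <;> rw [zpowers_le, mem_comap]
        · exact mem_sup_right (by
            convert mem_zpowers (⟨b, hbD⟩ : D) using 1
            exact Subtype.ext rfl)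
        · refine mem_sup_left ?_
          convert mem_zpowers (⟨a, haD⟩ : D) using 1
          exact Subtype.ext hσb
      exact hle' hy
    refine IsPGroup.to_le ((hp _ hnn).to_sup_of_normal_right' hKp hnK) ?_
    rw [closure_le]
    rintro y (rfl | rfl | rfl)
    · exact mem_sup_right (mem_sup_left (mem_zpowers _))
    · exact mem_sup_right (mem_sup_right (mem_zpowers _))
    · exact mem_sup_left (mem_zpowers _)
  obtain ⟨T, hT⟩ := hT₀.exists_le_sylow
  -- the class of `x` in `C` has even size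
  have hxC : x ∈ C := hle hxL
  have heven : 2 ∣ D.relIndex C := by
    have hD' : D.relIndex C = (Subgroup.centralizer ({(⟨x, hxC⟩ : C)} : Set C)).index := by
      rw [hDdef, inf_relIndex_left]
      show ((Subgroup.centralizer ({x} : Set G)).subgroupOf C).index = _
      congr 1
      ext y
      rw [mem_subgroupOf, mem_centralizer_singleton_iff, mem_centralizer_singleton_iff, Subtype.ext_iff]
      rfl
    have hst : (MulAction.stabilizer (ConjAct C) (⟨x, hxC⟩ : C)).index =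
        (Subgroup.centralizer ({(⟨x, hxC⟩ : C)} : Set C)).index := by
      rw [ConjAct.stabilizer_eq_centralizer]
      rfl
    rw [hD', ← hst, MulAction.index_stabilizer]
    have huC : u ∈ C := hle (mem_sup_left hu)
    let f : Function.End (MulAction.orbit (ConjAct C) (⟨x, hxC⟩ : C)) := fun y =>
      ⟨y.1 * ⟨j, hjC⟩, by
        obtain ⟨c, hc'⟩ := y.2
        refine ⟨c * ConjAct.toConjAct ⟨u, huC⟩, ?_⟩
        simp only [mul_smul] at hc' ⊢
        rw [ConjAct.smul_def, ConjAct.smul_def, ConjAct.ofConjAct_toConjAct, ← hc']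
        apply Subtype.ext
        rw [ConjAct.smul_def]
        simp only [Subgroup.coe_mul, InvMemClass.coe_inv]
        set c' : G := ((ConjAct.ofConjAct c : C) : G) with hc''
        have hu1 : u * x * u⁻¹ = x * j := by
          calc u * x * u⁻¹ = (u * a * u⁻¹) * (u * b * u⁻¹) := by rw [hxdef]; group
            _ = a⁻¹ * b := by rw [hua, hc u hu b hb, mul_inv_cancel_right]
            _ = x * j := by
              rw [hxdef, inv_eq_of_mul_eq_one_right (show a * (a * j) = 1 by rw [← mul_assoc, haa, hjj]),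
                mul_assoc, mul_assoc, hz2 b hb]
        have hcj : c'⁻¹ * j = j * c'⁻¹ := mem_centralizer_singleton_iff.mp (inv_mem (ConjAct.ofConjAct c).2)
        rw [hu1, mul_assoc c', mul_assoc x, ← hcj]
        group⟩
    have hf : Function.Involutive f := fun y => Subtype.ext (by
      show y.1 * ⟨j, hjC⟩ * ⟨j, hjC⟩ = y.1
      rw [mul_assoc, show (⟨j, hjC⟩ : C) * ⟨j, hjC⟩ = 1 from Subtype.ext hjj, mul_one])
    have hfix : ∀ y, f y ≠ y := fun y hy => by
      have := congrArg (fun z => ((z.1 : C) : G)) hy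
      simp [f] at this
      rw [this, orderOf_one] at hj
      omega
    letI : Fintype (MulAction.orbit (ConjAct C) (⟨x, hxC⟩ : C)) := Fintype.ofFinite _
    rw [← Nat.card_coe_set_eq, Nat.card_eq_fintype_card]
    have h := Equiv.Perm.card_fixedPoints_modEq (p := 2) (n := 1) (f := f) (by
      rw [pow_one, sq]; funext y; exact hf y)
    haveI : IsEmpty (Function.fixedPoints f) := ⟨fun y => hfix y.1 y.2⟩
    rw [Fintype.card_eq_zero (α := Function.fixedPoints f)] at h
    exact Nat.modEq_zero_iff_dvd.mp h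
  -- a bigger two-subgroup centralizing `x`
  let T' : Subgroup G := (T : Subgroup D).map D.subtype
  have hT'p : IsPGroup 2 T' := T.isPGroup'.map _
  have hT'D : T' ≤ D := map_subtype_le _
  obtain ⟨P, hP⟩ := (hT'p.comap_of_injective (Subgroup.centralizer ({x} : Set G)).subtype
    (subtype_injective _)).exists_le_sylow
  let P' : Subgroup G := (P : Subgroup (Subgroup.centralizer ({x} : Set G))).map (Subgroup.centralizer ({x} : Set G)).subtype
  have hTP : T' ≤ P' := by
    intro y hy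
    exact mem_map.mpr ⟨⟨y, (hT'D hy).2⟩, hP (mem_comap.mpr hy), rfl⟩
  have hDx : Nat.card (Subgroup.centralizer ({x} : Set G)) = Nat.card C := by
    have hmapC : C.map (MulAut.conj k).toMonoidHom = Subgroup.centralizer ({x} : Set G) := by
      ext y
      rw [mem_map_equiv, hCdef, mem_centralizer_singleton_iff, mem_centralizer_singleton_iff, ← hk]
      simp only [MulAut.conj_symm_apply]
      constructor <;> intro h
      · calc y * (k * j * k⁻¹) = k * ((k⁻¹ * y * k) * j) * k⁻¹ := by group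
          _ = k * (j * (k⁻¹ * y * k)) * k⁻¹ := by rw [h]
          _ = k * j * k⁻¹ * y := by group
      · calc k⁻¹ * y * k * j = k⁻¹ * (y * (k * j * k⁻¹)) * k := by group
          _ = k⁻¹ * (k * j * k⁻¹ * y) * k := by rw [h]
          _ = j * (k⁻¹ * y * k) := by group
    rw [← hmapC, Subgroup.card_map_of_injective (MulAut.conj k).injective]
  have hlt : T' < P' := by
    refine lt_of_le_of_ne hTP fun heq => ?_
    have h1 : Nat.card T' = Nat.card (T : Subgroup D) := Subgroup.card_map_of_injective (subtype_injective _)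
    have h2 : Nat.card P' = Nat.card (P : Subgroup (Subgroup.centralizer ({x} : Set G))) := by
      show Nat.card ((P : Subgroup (Subgroup.centralizer ({x} : Set G))).map
        (Subgroup.centralizer ({x} : Set G)).subtype) = _
      exact Subgroup.card_map_of_injective (subtype_injective _)
    rw [heq, h2, P.card_eq_multiplicity] at h1
    rw [T.card_eq_multiplicity, hDx] at h1
    have h3 : Nat.card C = D.relIndex C * Nat.card D := by
      have := relIndex_mul_relIndex ⊥ D C bot_le inf_le_left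
      rw [relIndex_bot_left, relIndex_bot_left] at this
      rw [← this, mul_comm]
    have h4 := Nat.pow_right_injective (le_refl 2) h1
    have h0 : D.relIndex C ≠ 0 := fun h0 => by
      rw [h0, zero_mul] at h3
      exact Nat.card_pos.ne' h3
    rw [h3, Nat.factorization_mul h0 Nat.card_pos.ne', Finsupp.add_apply] at h4
    have h5 := Nat.Prime.factorization_pos_of_dvd Nat.prime_two h0 heven
    omega
  obtain ⟨g₁, hg₁P, hg₁N, hg₁T⟩ : ∃ g₁ ∈ P', g₁ ∈ Subgroup.normalizer (T' : Set G) ∧ g₁ ∉ T' := by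
    haveI : Group.IsNilpotent P' := (P.isPGroup'.map _).isNilpotent
    have hlt' : T'.subgroupOf P' < ⊤ := lt_top_iff_ne_top.mpr fun h =>
      hlt.not_ge (subgroupOf_eq_top.mp h)
    obtain ⟨y, hy1, hy2⟩ := SetLike.exists_of_lt (normalizerCondition_of_isNilpotent (T'.subgroupOf P') hlt')
    refine ⟨y, y.2, mem_normalizer_iff.mpr fun z => ⟨fun hz => ?_, fun hz => ?_⟩, fun h => hy2 h⟩
    · exact (mem_normalizer_iff.mp hy1 ⟨z, hTP hz⟩).mp hz
    · have hzP : z ∈ P' := by
        have := mul_mem (mul_mem (inv_mem y.2) (hTP hz)) y.2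
        simpa [mul_assoc] using this
      exact (mem_normalizer_iff.mp hy1 ⟨z, hzP⟩).mpr hz
  have hg₁x : g₁ * x = x * g₁ := by
    obtain ⟨y, -, rfl⟩ := mem_map.mp hg₁P
    exact mem_centralizer_singleton_iff.mp y.2
  have haT : a ∈ T' := mem_map.mpr ⟨⟨a, haD⟩, hT (subset_closure (by simp)), rfl⟩
  have hbT : b ∈ T' := mem_map.mpr ⟨⟨b, hbD⟩, hT (subset_closure (by simp)), rfl⟩
  have hjT : j ∈ T' := haa ▸ mul_mem haT haT
  set j' := g₁ * j * g₁⁻¹ with hj'
  have hj'T : j' ∈ T' := (mem_normalizer_iff.mp hg₁N j).mp hjT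
  have hj'C : j' ∈ C := (hT'D hj'T).1
  have hj'j : j' ≠ j := by
    intro h
    have hgC : g₁ ∈ C := mem_centralizer_singleton_iff.mpr (mul_inv_eq_iff_eq_mul.mp (hj' ▸ h))
    have hgD : g₁ ∈ D := ⟨hgC, mem_centralizer_singleton_iff.mpr hg₁x⟩
    apply hg₁T
    have hpT : IsPGroup 2 ((T : Subgroup D) ⊔ (P'.subgroupOf D) : Subgroup D) := by
      have hpP : IsPGroup 2 (P'.subgroupOf D) := (P.isPGroup'.map _).comap_of_injective _ (subtype_injective _)
      refine hpP.to_le (sup_le ?_ le_rfl)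
      intro y hy
      exact hTP (mem_map.mpr ⟨y, hy, rfl⟩)
    have := T.is_maximal' hpT le_sup_left
    exact mem_map.mpr ⟨⟨g₁, hgD⟩, this ▸ mem_sup_right hg₁P, rfl⟩
  -- `T'` commutes with `j'` and `x`
  have hcommT : ∀ t ∈ T', t * j' = j' * t := by
    intro t ht
    have h1 : g₁⁻¹ * t * g₁ ∈ T' := by
      have := (mem_normalizer_iff.mp (inv_mem hg₁N) t).mp ht
      rwa [inv_inv] at this
    have h2 := mem_centralizer_singleton_iff.mp (hT'D h1).1
    calc t * j' = g₁ * ((g₁⁻¹ * t * g₁) * j) * g₁⁻¹ := by rw [hj']; group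
      _ = g₁ * (j * (g₁⁻¹ * t * g₁)) * g₁⁻¹ := by rw [h2]
      _ = j' * t := by rw [hj']; group
  have hj'sq : j' * j' = 1 := by
    rw [hj', show g₁ * j * g₁⁻¹ * (g₁ * j * g₁⁻¹) = g₁ * (j * j) * g₁⁻¹ by group, hjj, mul_one, mul_inv_cancel]
  have hj'1 : j' ≠ 1 := fun h => by rw [hj', conj_eq_one_iff] at h; rw [h, orderOf_one] at hj; omega
  have hj'x : j' ≠ x := by
    intro h
    rw [hj', mul_inv_eq_iff_eq_mul, ← hg₁x, mul_left_cancel_iff] at h
    exact hxj h.symm
  have hcomp : ∀ e ∈ L₁, ∀ f ∈ L₂, e * f * a = a * (e * f) → e * a = a * e := by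
    intro e he f hf h
    rw [mul_assoc, ← hc a ha f hf, ← mul_assoc, ← mul_assoc] at h
    exact mul_right_cancel h
  have hcomp2 : ∀ e ∈ L₁, ∀ f ∈ L₂, e * f * b = b * (e * f) → f * b = b * f := by
    intro e he f hf h
    rw [← mul_assoc b e f, ← hc e he b hb, mul_assoc e f b, mul_assoc e b f] at h
    exact mul_left_cancel h
  have hj'eq : j' = j * x := by
    obtain ⟨e, he, f, hf, hef⟩ := exists_factor hc (hinC j' hj'C hj'sq)
    have hea : e * a = a * e := hcomp e he f hf (by rw [← hef]; exact (hcommT a haT).symm)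
    have hfb : f * b = b * f := hcomp2 e he f hf (by rw [← hef]; exact (hcommT b hbT).symm)
    have hsq : e * e * (f * f) = 1 * 1 := by
      rw [one_mul, ← hj'sq, hef]
      calc e * e * (f * f) = e * (e * f) * f := by group
        _ = e * (f * e) * f := by rw [hc e he f hf]
        _ = _ := by group
    have hj2 : f * f = j → f = b ∨ f = b * j := by
      intro h
      have h1 : (f * b⁻¹) * (f * b⁻¹) = 1 := by
        calc f * b⁻¹ * (f * b⁻¹) = f * (b⁻¹ * f) * b⁻¹ := by group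
          _ = f * (f * b⁻¹) * b⁻¹ := by rw [(show Commute f b from hfb).inv_right.eq]
          _ = (f * f) * (b * b)⁻¹ := by group
          _ = 1 := by rw [h, hbb, mul_inv_cancel]
      rcases hinv2 _ (mul_mem hf (inv_mem hb)) h1 with h | h
      · exact Or.inl (mul_inv_eq_one.mp h)
      · exact Or.inr (by rw [hz2 b hb, ← mul_inv_eq_iff_eq_mul]; exact h)
    have hj1 : e * e = j → e = a ∨ e = a * j := by
      intro h
      have h1 : (e * a⁻¹) * (e * a⁻¹) = 1 := by
        calc e * a⁻¹ * (e * a⁻¹) = e * (a⁻¹ * e) * a⁻¹ := by group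
          _ = e * (e * a⁻¹) * a⁻¹ := by rw [(show Commute e a from hea).inv_right.eq]
          _ = (e * e) * (a * a)⁻¹ := by group
          _ = 1 := by rw [h, haa, mul_inv_cancel]
      rcases hinv1 _ (mul_mem he (inv_mem ha)) h1 with h | h
      · exact Or.inl (mul_inv_eq_one.mp h)
      · exact Or.inr (by rw [hz1 a ha, ← mul_inv_eq_iff_eq_mul]; exact h)
    rcases factor_eq hm hj (mul_mem he he) (one_mem _) (mul_mem hf hf) (one_mem _) hsq with ⟨p, q⟩ | ⟨p, q⟩
    · exfalso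
      rcases hinv1 e he p with h | h <;> rcases hinv2 f hf q with h' | h' <;> rw [h, h'] at hef
      · exact hj'1 (by rw [hef, one_mul])
      · exact hj'j (by rw [hef, one_mul])
      · exact hj'j (by rw [hef, mul_one])
      · exact hj'1 (by rw [hef, hjj])
    · rw [one_mul] at p
      have q' : f * f = j := by rw [← mul_left_cancel_iff (a := j), ← q, hjj]
      rcases hj1 p with h | h <;> rcases hj2 q' with h' | h' <;> rw [hef, h, h'] at hj'x ⊢
      · exact absurd rfl hj'x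
      · rw [← mul_assoc, ← hxdef, hjx]
      · rw [hz1 a ha, mul_assoc]
      · refine absurd ?_ hj'x
        rw [mul_assoc a, ← mul_assoc j, ← hz2 b hb, mul_assoc b, hjj, mul_one]
  -- counting square roots
  have hg₁D : ∀ y ∈ D, g₁ * y * g₁⁻¹ ∈ D := by
    intro y hy
    obtain ⟨hy1, hy2⟩ := mem_inf.mp hy
    rw [hCdef, mem_centralizer_singleton_iff] at hy1
    rw [mem_centralizer_singleton_iff] at hy2
    have hgx : g₁⁻¹ * x * g₁ = x := by rw [mul_assoc, ← hg₁x, inv_mul_cancel_left]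
    have h1 : g₁ * y * g₁⁻¹ * x = x * (g₁ * y * g₁⁻¹) := by
      calc g₁ * y * g₁⁻¹ * x = g₁ * (y * (g₁⁻¹ * x * g₁)) * g₁⁻¹ := by group
        _ = g₁ * ((g₁⁻¹ * x * g₁) * y) * g₁⁻¹ := by rw [hgx, hy2]
        _ = x * (g₁ * y * g₁⁻¹) := by group
    have h2 : g₁ * y * g₁⁻¹ * j' = j' * (g₁ * y * g₁⁻¹) := by
      calc g₁ * y * g₁⁻¹ * j' = g₁ * (y * j) * g₁⁻¹ := by rw [hj']; group
        _ = g₁ * (j * y) * g₁⁻¹ := by rw [hy1]
        _ = j' * (g₁ * y * g₁⁻¹) := by rw [hj']; group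
    refine mem_inf.mpr ⟨?_, mem_centralizer_singleton_iff.mpr h1⟩
    rw [hCdef, mem_centralizer_singleton_iff]
    have hjeq : j = j' * x := by rw [hj'eq, mul_assoc, hxx, mul_one]
    have h3 := (Commute.mul_right (show Commute (g₁ * y * g₁⁻¹) j' from h2) (show Commute (g₁ * y * g₁⁻¹) x from h1)).eq
    rwa [← hjeq] at h3
  let R : G → Set G := fun z => {y | y ∈ D ∧ y * y = z}
  have hR : (R j).ncard ≤ (R (j * x)).ncard := by
    refine Set.ncard_le_ncard_of_injOn (fun y => g₁ * y * g₁⁻¹) (fun y hy => ⟨hg₁D y hy.1, ?_⟩)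
      (fun p _ q _ h => mul_left_cancel (mul_right_cancel h)) (Set.toFinite _)
    rw [← hj'eq, hj', show g₁ * y * g₁⁻¹ * (g₁ * y * g₁⁻¹) = g₁ * (y * y) * g₁⁻¹ by group, hy.2]
  -- roots inside the central product
  have hfacts : ∀ y ∈ R (j * x), y ∈ L₁ ⊔ L₂ → ∃ e ∈ L₁, ∃ f ∈ L₂, y = e * f ∧ e * a = a * e ∧ f * b = b * f := by
    intro y hy hyL
    obtain ⟨e, he, f, hf, rfl⟩ := exists_factor hc hyL
    refine ⟨e, he, f, hf, rfl, ?_⟩
    have hsq : e * e * (f * f) = (j * a) * b := by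
      rw [mul_assoc j, ← hxdef, ← hy.2]
      calc e * e * (f * f) = e * (e * f) * f := by group
        _ = e * (f * e) * f := by rw [hc e he f hf]
        _ = _ := by group
    have hee : ∀ z, (z = 1 ∨ z = j) → e * e = a * z → e * a = a * e := by
      intro z hz h
      have hza : a = e * e * z := by
        rw [h, mul_assoc]; rcases hz with rfl | rfl <;> simp [hjj]
      rw [hza]
      rcases hz with rfl | rfl
      · group
      · rw [mul_assoc (e * e), ← hz1 e he]; group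
    have hff : ∀ z, (z = 1 ∨ z = j) → f * f = b * z → f * b = b * f := by
      intro z hz h
      have hzb : b = f * f * z := by
        rw [h, mul_assoc]; rcases hz with rfl | rfl <;> simp [hjj]
      rw [hzb]
      rcases hz with rfl | rfl
      · group
      · rw [mul_assoc (f * f), ← hz2 f hf]; group
    rcases factor_eq hm hj (mul_mem he he) (mul_mem hjm.1 ha) (mul_mem hf hf) hb hsq with ⟨p, q⟩ | ⟨p, q⟩
    · exact ⟨hee j (Or.inr rfl) (by rw [p, hz1 a ha]), hff 1 (Or.inl rfl) (by rw [q, mul_one])⟩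
    · refine ⟨hee 1 (Or.inl rfl) ?_, hff j (Or.inr rfl) ?_⟩
      · rw [p, ← hz1 a ha, mul_assoc, hjj]
      · rw [hz2 b hb, ← mul_left_cancel_iff (a := j), ← q, ← mul_assoc, hjj, one_mul]
  -- roots outside
  have hout : ∀ y ∈ R (j * x), y ∉ L₁ ⊔ L₂ → y * a * y⁻¹ = b ∧ y * b * y⁻¹ = a := by
    intro y hy hyL
    rcases hcoset y hy.1.1 with h | ⟨e, he, f, hf, rfl⟩
    · exact absurd h hyL
    have h := hy.2
    rw [hsquare e he f hf, mul_left_cancel_iff, hxdef] at h
    have hFe := mul_mem (hσ2 f hf).1 he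
    have hEf := mul_mem (hσ1 e he) hf
    obtain ⟨z, hz, hA, hB⟩ : ∃ z, (z = 1 ∨ z = j) ∧ σ f * e = a * z ∧ σ e * f = b * z := by
      rcases factor_eq hm hj hFe ha hEf hb h with ⟨p, q⟩ | ⟨p, q⟩
      · exact ⟨1, Or.inl rfl, by rw [p, mul_one], by rw [q, mul_one]⟩
      · refine ⟨j, Or.inr rfl, p, ?_⟩
        rw [hz2 b hb, q, ← mul_assoc, hjj, one_mul]
    have hσz : σ z = z := by
      rcases hz with rfl | rfl
      · simp [hσ]
      · exact hσj
    have hzc : ∀ p ∈ L₁, p * z = z * p := fun p hp => by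
      rcases hz with rfl | rfl
      · simp
      · exact hz1 p hp
    have hzc2 : ∀ p ∈ L₂, p * z = z * p := fun p hp => by
      rcases hz with rfl | rfl
      · simp
      · exact hz2 p hp
    have hzz : z * z = 1 := by
      rcases hz with rfl | rfl
      · simp
      · exact hjj
    have h2 : e * σ f = a * z := by
      have := congrArg σ hB
      rwa [hσm (σ e) f, hσm b z, hσσ1 e he, hσb, hσz] at this
    have hea : e * a = a * e := by
      have hae : a = σ f * e * z := by rw [hA, mul_assoc, hzz, mul_one]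
      have hae' : a = e * σ f * z := by rw [h2, mul_assoc, hzz, mul_one]
      calc e * a = e * (σ f * e * z) := by rw [← hae]
        _ = (e * σ f) * (e * z) := by group
        _ = (e * σ f) * (z * e) := by rw [hzc e he]
        _ = (e * σ f * z) * e := by group
        _ = a * e := by rw [← hae']
    have hfb : f * b = b * f := by
      have h3 : f * σ e = b * z := by
        have := congrArg σ hA
        rwa [hσm (σ f) e, hσm a z, (hσ2 f hf).2, hσz, ← hbdef] at this
      have hbe : b = σ e * f * z := by rw [hB, mul_assoc, hzz, mul_one]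
      have hbe' : b = f * σ e * z := by rw [h3, mul_assoc, hzz, mul_one]
      calc f * b = f * (σ e * f * z) := by rw [← hbe]
        _ = (f * σ e) * (f * z) := by group
        _ = (f * σ e) * (z * f) := by rw [hzc2 f hf]
        _ = (f * σ e * z) * f := by group
        _ = b * f := by rw [← hbe']
    constructor
    · calc n * (e * f) * a * (n * (e * f))⁻¹ = n * (e * (f * a) * f⁻¹ * e⁻¹) * n⁻¹ := by group
        _ = n * (e * a * e⁻¹) * n⁻¹ := by rw [← hc a ha f hf]; group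
        _ = b := by rw [hea, mul_inv_cancel_right]
    · calc n * (e * f) * b * (n * (e * f))⁻¹ = n * (e * (f * b * f⁻¹) * e⁻¹) * n⁻¹ := by group
        _ = n * b * n⁻¹ := by rw [hfb, mul_inv_cancel_right, hc e he b hb, mul_inv_cancel_right]
        _ = a := hσb
  -- the injection
  let y₀ : G := if h : ∃ y ∈ R (j * x), y ∈ L₁ ⊔ L₂ then h.choose else 1
  let φ : G → G := fun y => if y ∈ L₁ ⊔ L₂ then y * y₀⁻¹ * a else y * b⁻¹
  have hy₀L : y₀ ∈ L₁ ⊔ L₂ := by
    simp only [y₀]; split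
    · exact (Exists.choose_spec ‹∃ y ∈ R (j * x), y ∈ L₁ ⊔ L₂›).2
    · exact one_mem _
  have hφL : ∀ y ∈ R (j * x), φ y ∈ L₁ ⊔ L₂ ↔ y ∈ L₁ ⊔ L₂ := by
    intro y _
    by_cases hyL : y ∈ L₁ ⊔ L₂
    · simp only [φ, hyL, if_true, iff_true]
      exact mul_mem (mul_mem hyL (inv_mem hy₀L)) (mem_sup_left ha)
    · simp only [φ, hyL, if_false, iff_false]
      exact fun h => hyL (by simpa using mul_mem h (mem_sup_right hb : b ∈ L₁ ⊔ L₂))
  have hmaps : ∀ y ∈ R (j * x), φ y ∈ R j := by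
    intro y hy
    by_cases hyL : y ∈ L₁ ⊔ L₂
    · have hex : ∃ y ∈ R (j * x), y ∈ L₁ ⊔ L₂ := ⟨y, hy, hyL⟩
      have hy0 : y₀ ∈ R (j * x) := by simp only [y₀, dif_pos hex]; exact hex.choose_spec.1
      simp only [φ, hyL, if_true]
      refine ⟨mul_mem (mul_mem hy.1 (inv_mem hy0.1)) haD, ?_⟩
      obtain ⟨e, he, f, hf, rfl, hea, hfb⟩ := hfacts y hy hyL
      obtain ⟨e', he', f', hf', hef', hea', hfb'⟩ := hfacts y₀ hy0 hy₀L
      have hfc : ∀ p ∈ L₂, ∀ q ∈ L₂, p * b = b * p → q * b = b * q → p * q = q * p := by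
        intro p hp q hq hpb hqb
        have h1 := hab1 (σ p) (hσ2 p hp).1 (σ q) (hσ2 q hq).1 (by rw [← hσb, ← hσm, ← hσm, hpb])
          (by rw [← hσb, ← hσm, ← hσm, hqb])
        have := congrArg σ h1
        rwa [hσm (σ p) (σ q), hσm (σ q) (σ p), (hσ2 p hp).2, (hσ2 q hq).2] at this
      have c1 : Commute (e * f) y₀ := by
        rw [hef']
        exact Commute.mul_left
          (Commute.mul_right (hab1 e he e' he' hea hea') (hc e he f' hf'))
          (Commute.mul_right (hc e' he' f hf).symm (hfc f hf f' hf' hfb hfb'))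
      have c2 : Commute (e * f) a := Commute.mul_left hea (hc a ha f hf).symm
      have c3 : Commute y₀ a := by rw [hef']; exact Commute.mul_left hea' (hc a ha f' hf').symm
      have key : e * f * y₀⁻¹ * a * (e * f * y₀⁻¹ * a) = (e * f * (e * f)) * (y₀ * y₀)⁻¹ * (a * a) := by
        have d : Commute (e * f * y₀⁻¹) a := c2.mul_left c3.inv_left
        calc e * f * y₀⁻¹ * a * (e * f * y₀⁻¹ * a) = e * f * y₀⁻¹ * (a * (e * f * y₀⁻¹)) * a := by group
          _ = e * f * y₀⁻¹ * (e * f * y₀⁻¹ * a) * a := by rw [← d.eq]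
          _ = e * f * (y₀⁻¹ * (e * f)) * y₀⁻¹ * (a * a) := by group
          _ = e * f * ((e * f) * y₀⁻¹) * y₀⁻¹ * (a * a) := by rw [← c1.inv_right.eq]
          _ = _ := by group
      rw [key, hy.2, hy0.2, mul_inv_cancel, one_mul, haa]
    · simp only [φ, hyL, if_false]
      refine ⟨mul_mem hy.1 (inv_mem hbD), ?_⟩
      obtain ⟨-, h1⟩ := hout y hy hyL
      have h2 : y * b⁻¹ = a⁻¹ * y := by
        rw [← h1]; group
      calc y * b⁻¹ * (y * b⁻¹) = a⁻¹ * (y * y) * b⁻¹ := by rw [h2]; rw [mul_assoc (a⁻¹) y, ← h2]; group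
        _ = j := by
          rw [hy.2, hxdef, ← mul_assoc j a b, mul_assoc a⁻¹, mul_inv_cancel_right, ← hz1 a ha, inv_mul_cancel_left]
  have hinj : Set.InjOn φ (R (j * x)) := by
    intro p hp q hq h
    have hiff : p ∈ L₁ ⊔ L₂ ↔ q ∈ L₁ ⊔ L₂ := by rw [← hφL p hp, ← hφL q hq, h]
    by_cases hpL : p ∈ L₁ ⊔ L₂
    · simp only [φ, hpL, hiff.mp hpL, if_true] at h
      exact mul_right_cancel (mul_right_cancel h)
    · simp only [φ, hpL, mt hiff.mpr hpL, if_false] at h
      exact mul_right_cancel h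
  -- a root which is missed
  set m := u * σ u⁻¹ with hmdef
  have hu' : σ u⁻¹ ∈ L₂ := hσ1 _ (inv_mem hu)
  have hmL : m ∈ L₁ ⊔ L₂ := mul_mem (mem_sup_left hu) (mem_sup_right hu')
  have hmx : m * x * m⁻¹ = x := by
    have h1 : σ u⁻¹ * b * (σ u⁻¹)⁻¹ = b⁻¹ := by
      have huinv : u⁻¹ * a * u = a⁻¹ := by
        calc u⁻¹ * a * u = u⁻¹ * (u * a * u⁻¹)⁻¹ * u := by rw [hua, inv_inv]
          _ = a⁻¹ := by group
      calc σ u⁻¹ * b * (σ u⁻¹)⁻¹ = σ (u⁻¹ * a * u) := by rw [hbdef]; simp only [hσ]; group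
        _ = b⁻¹ := by rw [huinv, hbdef]; simp only [hσ]; group
    calc m * x * m⁻¹ = u * (σ u⁻¹ * a) * b * (σ u⁻¹)⁻¹ * u⁻¹ := by rw [hmdef, hxdef]; group
      _ = (u * a * u⁻¹) * (u * (σ u⁻¹ * b * (σ u⁻¹)⁻¹) * u⁻¹) := by rw [← hc a ha _ hu']; group
      _ = a⁻¹ * b⁻¹ := by rw [hua, h1, hc u hu _ (inv_mem hb), mul_inv_cancel_right]
      _ = x := by rw [← mul_inv_rev, ← hab, ← hxdef, hxinv]
  have hyD : n * m ∈ D := mul_mem hnD ⟨hle hmL, mem_centralizer_singleton_iff.mpr (mul_inv_eq_iff_eq_mul.mp hmx)⟩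
  have hysq : n * m * (n * m) = j := by
    rw [hmdef, hsquare u hu (σ u⁻¹) hu', hσσ1 _ (inv_mem hu), inv_mul_cancel, one_mul, ← hσm,
      mul_inv_cancel, show σ 1 = 1 by simp [hσ], mul_one]
  have hnot : n * m ∉ φ '' R (j * x) := by
    rintro ⟨y, hy, hye⟩
    have hyL : y ∉ L₁ ⊔ L₂ := fun h => by
      have := (hφL y hy).mpr h
      rw [hye, mul_mem_cancel_right hmL] at this
      exact hnout this
    obtain ⟨h1, -⟩ := hout y hy hyL
    simp only [φ, hyL, if_false] at hye
    have hy' : y = n * m * b := by rw [← hye, inv_mul_cancel_right]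
    rw [hy'] at h1
    have h2 : m * a * m⁻¹ = a⁻¹ := by
      calc m * a * m⁻¹ = u * (σ u⁻¹ * a) * (σ u⁻¹)⁻¹ * u⁻¹ := by rw [hmdef]; group
        _ = u * a * u⁻¹ := by rw [← hc a ha _ hu']; group
        _ = a⁻¹ := hua
    have h3 : n * m * b * a * (n * m * b)⁻¹ = b⁻¹ := by
      calc n * m * b * a * (n * m * b)⁻¹ = n * m * (b * a) * b⁻¹ * (n * m)⁻¹ := by group
        _ = n * (m * a * m⁻¹) * n⁻¹ := by rw [← hab]; group
        _ = b⁻¹ := by rw [h2, hbdef]; simp only [hσ]; group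
    rw [h3] at h1
    have h4 : b * b = 1 := by nth_rewrite 1 [← h1]; exact inv_mul_cancel b
    rw [hbb] at h4
    rw [h4, orderOf_one] at hj
    omega
  have hlt : (R (j * x)).ncard < (R j).ncard := by
    rw [← Set.ncard_image_of_injOn hinj]
    exact Set.ncard_lt_ncard ⟨Set.image_subset_iff.mpr hmaps, fun h => hnot (h ⟨hyD, hysq⟩)⟩ (Set.toFinite _)
  omega

end Cfsg.Agent.S3211
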