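import Cfsg.Statements.S3213
import Mathlib
-- import your own Cfsg.Agent.* helpers here

set_option autoImplicit false
open Cfsg

namespace Cfsg.Agent.S3213

def y₅ : Matrix.SpecialLinearGroup (Fin 2) (ZMod 5) := ⟨!![1, 1; 0, 1], by decide +kernel⟩

set_option synthInstance.maxSize 4000 in
theorem facts_zmod :
    (∀ x : Matrix.SpecialLinearGroup (Fin 2) (ZMod 5), x ^ 3 = 1 → x ≠ 1 → ∃ g, x * g * x = g ∧ g * g = -1) ∧
      (-1 : Matrix.SpecialLinearGroup (Fin 2) (ZMod 5)) ≠ 1 ∧
      ∃ y : Matrix.SpecialLinearGroup (Fin 2) (ZMod 5), y ≠ 1 ∧ y ^ 5 = 1 := by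
  refine ⟨?_, by decide +kernel, y₅, by decide +kernel, by decide +kernel⟩
  decide +kernel

theorem facts {K : Type*} [Field K] [Fintype K] (hK : Fintype.card K = 5) :
    (∀ x : Matrix.SpecialLinearGroup (Fin 2) K, x ^ 3 = 1 → x ≠ 1 → ∃ g, x * g * x = g ∧ g * g = -1) ∧
      (-1 : Matrix.SpecialLinearGroup (Fin 2) K) ≠ 1 ∧
      ∃ y : Matrix.SpecialLinearGroup (Fin 2) K, y ≠ 1 ∧ y ^ 5 = 1 := by
  haveI := Fact.mk (show Nat.Prime 5 by norm_num)
  let e : ZMod 5 ≃+* K := ZMod.ringEquivOfPrime K (by norm_num) hK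
  let E : Matrix.SpecialLinearGroup (Fin 2) (ZMod 5) →* Matrix.SpecialLinearGroup (Fin 2) K :=
    Matrix.SpecialLinearGroup.map e.toRingHom
  have hEinj : Function.Injective E := fun a b h => Matrix.SpecialLinearGroup.ext _ _ fun i j =>
    e.injective (congrArg (fun m : Matrix.SpecialLinearGroup (Fin 2) K => m.1 i j) h :)
  have hEsurj : Function.Surjective E := fun m => by
    refine ⟨Matrix.SpecialLinearGroup.map e.symm.toRingHom m, Matrix.SpecialLinearGroup.ext _ _ fun i j => ?_⟩
    exact e.apply_symm_apply _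
  have hneg : E (-1) = -1 := by
    refine Matrix.SpecialLinearGroup.ext _ _ fun i j => ?_
    show e ((-1 : Matrix.SpecialLinearGroup (Fin 2) (ZMod 5)).1 i j) = _
    fin_cases i <;> fin_cases j <;> simp
  obtain ⟨h1, h2, y, hy, hy5⟩ := facts_zmod
  refine ⟨fun x hx hx1 => ?_, fun h => h2 (hEinj (by rw [hneg, h, map_one])), E y,
    fun h => hy (hEinj (by rw [h, map_one])), by rw [← map_pow, hy5, map_one]⟩
  obtain ⟨x, rfl⟩ := hEsurj x
  obtain ⟨g, hg1, hg2⟩ := h1 x (hEinj (by rw [map_pow, hx, map_one])) fun h => hx1 (by rw [h, map_one])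
  exact ⟨E g, by rw [← map_mul, ← map_mul, hg1], by rw [← map_mul, hg2, hneg]⟩

/-- A map of order five fixes a space of dimension at most three over the field with three elements. -/
theorem fix_small {F : Type*} [Field F] [Fintype F] (hF : Fintype.card F = 3) {V : Type*} [AddCommGroup V]
    [Module F V] [Finite V] (Y : Module.End F V) (hY : Y ^ 5 = 1) (hd : Module.finrank F V ≤ 3) : Y = 1 := by
  classical
  haveI : Fact (Nat.Prime 5) := ⟨by norm_num⟩
  haveI := Fintype.ofFinite V
  let u : (Module.End F V)ˣ := ⟨Y, Y ^ 4, by rw [← pow_succ', hY], by rw [← pow_succ, hY]⟩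
  have hu : u ^ 5 = 1 := Units.ext hY
  let Γ := Subgroup.zpowers u
  have hΓ : IsPGroup 5 Γ := fun g => ⟨1, by
    obtain ⟨g, k, rfl⟩ := g
    refine Subtype.ext ?_
    rw [SubgroupClass.coe_pow, OneMemClass.coe_one, pow_one, ← zpow_natCast, ← zpow_mul, mul_comm, zpow_mul,
      zpow_natCast, hu, one_zpow]⟩
  letI : MulAction Γ V :=
    { smul := fun g v => ((g : (Module.End F V)ˣ) : Module.End F V) v
      one_smul := fun v => rfl
      mul_smul := fun g h v => rfl }
  have h1 := hΓ.card_modEq_card_fixedPoints V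
  let W := LinearMap.ker (Y - 1)
  have hfix : MulAction.fixedPoints Γ V = (W : Set V) := by
    ext v
    simp only [MulAction.mem_fixedPoints, SetLike.mem_coe, W, LinearMap.mem_ker, LinearMap.sub_apply,
      Module.End.one_apply, sub_eq_zero]
    constructor
    · exact fun h => h ⟨u, Subgroup.mem_zpowers u⟩
    · intro h g
      have hle : Γ ≤ MulAction.stabilizer (Module.End F V)ˣ v := Subgroup.zpowers_le.mpr h
      exact hle g.2
  rw [Nat.card_congr (Equiv.setCongr hfix), Module.natCard_eq_pow_finrank (K := F) (V := V),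
    Nat.card_eq_fintype_card (α := F), hF] at h1
  have hW : Nat.card ↥(W : Set V) = 3 ^ Module.finrank F W := by
    rw [SetLike.coe_sort_coe, Module.natCard_eq_pow_finrank (K := F) (V := W), Nat.card_eq_fintype_card (α := F), hF]
  rw [hW] at h1
  have hle := Submodule.finrank_le W
  have heq : Module.finrank F W = Module.finrank F V := by
    generalize Module.finrank F W = j at h1 hle
    generalize Module.finrank F V = k at h1 hle hd
    interval_cases k <;> interval_cases j <;> first | rfl | (norm_num [Nat.ModEq] at h1)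
  have htop := Submodule.eq_top_of_finrank_eq heq
  refine LinearMap.ext fun v => ?_
  have hv : v ∈ W := htop ▸ Submodule.mem_top
  simpa [W, sub_eq_zero] using hv

/-- Let F be the field with 3 elements and K the field with 5 elements. For every injective homomorphism φ from SL₂(K) into the symplectic group Sp₄(F) (4 × 4 matrices g with g J gᵀ = J for the standard alternating matrix J) and every element x of order 3 of SL₂(K), the vectors of F⁴ fixed by φ(x) form a 2-dimensional subspace that is totally isotropic for the alternating form defined by J. -/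
theorem result {F : Type*} [Field F] [Fintype F] (hF : Fintype.card F = 3)
    {K : Type*} [Field K] [Fintype K] (hK : Fintype.card K = 5)
    (φ : Matrix.SpecialLinearGroup (Fin 2) K →* ↥(Matrix.symplecticGroup (Fin 2) F)) (hφ : Function.Injective φ)
    (x : Matrix.SpecialLinearGroup (Fin 2) K) (hx : orderOf x = 3) :
    Module.finrank F ↥(LinearMap.ker (Matrix.toLin' ((φ x : Matrix (Fin 2 ⊕ Fin 2) (Fin 2 ⊕ Fin 2) F)) - LinearMap.id)) = 2 ∧
      ∀ v w : Fin 2 ⊕ Fin 2 → F, (φ x : Matrix (Fin 2 ⊕ Fin 2) (Fin 2 ⊕ Fin 2) F).mulVec v = v →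
        (φ x : Matrix (Fin 2 ⊕ Fin 2) (Fin 2 ⊕ Fin 2) F).mulVec w = w →
          dotProduct v ((Matrix.J (Fin 2) F).mulVec w) = 0 := by
  classical
  obtain ⟨hg, hz, y, hy1, hy5⟩ := facts hK
  obtain ⟨g, hgx, hgg⟩ := hg x (by rw [← hx]; exact pow_orderOf_eq_one x)
    (fun h => by rw [h, orderOf_one] at hx; omega)
  let T : Matrix.SpecialLinearGroup (Fin 2) K →* Module.End F (Fin 2 ⊕ Fin 2 → F) :=
    (Matrix.toLinAlgEquiv' (R := F) (n := Fin 2 ⊕ Fin 2)).toAlgHom.toRingHom.toMonoidHom.comp
      ((Matrix.symplecticGroup (Fin 2) F).subtype.comp φ)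
  have hTinj : Function.Injective T := fun a b h =>
    hφ (Subtype.ext ((Matrix.toLinAlgEquiv' (R := F) (n := Fin 2 ⊕ Fin 2)).injective h))
  have hT : ∀ h v, T h v = (φ h : Matrix (Fin 2 ⊕ Fin 2) (Fin 2 ⊕ Fin 2) F).mulVec v := fun h v => rfl
  haveI : Finite (Fin 2 ⊕ Fin 2 → F) := inferInstance
  have h4 : Module.finrank F (Fin 2 ⊕ Fin 2 → F) = 4 := by simp
  have h2 : (2 : F) ≠ 0 := by
    refine Ring.two_ne_zero ?_
    intro h
    have := FiniteField.even_card_of_char_two h
    omega
  -- the central involution acts as `-1`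
  have hZZ : ∀ v, T (-1) (T (-1) v) = v := fun v => by
    rw [← Module.End.mul_apply, ← map_mul, neg_one_mul, neg_neg, map_one, Module.End.one_apply]
  have hcom : ∀ h v, T (-1) (T h v) = T h (T (-1) v) := fun h v => by
    rw [← Module.End.mul_apply, ← map_mul, ← Module.End.mul_apply, ← map_mul, neg_one_mul, mul_neg_one]
  have hneg : T (-1) = -1 := by
    by_contra hne
    have hfixall : ∀ ε : F, (∃ v, T (-1) v ≠ ε • v) → ∀ v, T (-1) v = ε • v → T y v = v := by
      intro ε hex v hv
      let P : Submodule F (Fin 2 ⊕ Fin 2 → F) := LinearMap.ker (T (-1) - ε • 1)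
      have hinv : ∀ w ∈ P, T y w ∈ P := fun w hw => by
        simp only [P, LinearMap.mem_ker, LinearMap.sub_apply, LinearMap.smul_apply, Module.End.one_apply,
          sub_eq_zero] at hw ⊢
        rw [hcom, hw, map_smul]
      have hP : P ≠ ⊤ := fun h => by
        obtain ⟨w, hw⟩ := hex
        have : w ∈ P := h ▸ Submodule.mem_top
        simp [P, sub_eq_zero] at this
        exact hw this
      have hd : Module.finrank F P ≤ 3 := by
        have := Submodule.finrank_lt hP
        omega
      have hpow : ∀ k, ∀ w : P, (((T y).restrict hinv) ^ k) w = (T y ^ k) (w : Fin 2 ⊕ Fin 2 → F) := by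
        intro k
        induction k with
        | zero => intro w; rfl
        | succ k ih =>
          intro w
          rw [pow_succ', pow_succ', Module.End.mul_apply, Module.End.mul_apply, ← ih]
          rfl
      have h5 : ((T y).restrict hinv) ^ 5 = 1 := LinearMap.ext fun w => Subtype.ext (by
        rw [hpow, ← map_pow, hy5, map_one]; rfl)
      have hvP : v ∈ P := by simp [P, hv]
      exact congrArg Subtype.val (LinearMap.congr_fun (fix_small hF _ h5 hd) ⟨v, hvP⟩)
    refine hy1 (hTinj (LinearMap.ext fun v => ?_))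
    rw [map_one, Module.End.one_apply]
    have hp : ∃ v, T (-1) v ≠ (1 : F) • v := by
      by_contra hh
      push Not at hh
      refine hz (hTinj (LinearMap.ext fun v => ?_))
      rw [hh v, one_smul, map_one, Module.End.one_apply]
    have hm : ∃ v, T (-1) v ≠ (-1 : F) • v := by
      by_contra hh
      push Not at hh
      exact hne (LinearMap.ext fun v => by rw [hh v]; simp)
    have e1 := hfixall 1 hp (v + T (-1) v) (by rw [map_add, hZZ, one_smul, add_comm])
    have e2 := hfixall (-1) hm (v - T (-1) v) (by rw [map_sub, hZZ, neg_one_smul, neg_sub])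
    rw [map_add] at e1
    rw [map_sub] at e2
    have e3 : (2 : F) • T y v = (2 : F) • v := by
      rw [two_smul, two_smul]
      linear_combination (norm := abel) e1 + e2
    exact smul_right_injective _ h2 e3
  have hgsq : ∀ v, T g (T g v) = -v := fun v => by
    rw [← Module.End.mul_apply, ← map_mul, hgg, hneg]; rfl
  -- invariant subspaces of the element of order four have even dimension
  have heven : ∀ U : Submodule F (Fin 2 ⊕ Fin 2 → F), (∀ v ∈ U, T g v ∈ U) → Even (Module.finrank F U) := by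
    intro U hU
    by_contra hodd
    have hsq : ((T g).restrict hU) * ((T g).restrict hU) = (-1 : F) • 1 := LinearMap.ext fun w => Subtype.ext (by
      rw [Module.End.mul_apply, LinearMap.coe_restrict_apply, LinearMap.coe_restrict_apply, hgsq]
      simp)
    have hdet := congrArg LinearMap.det hsq
    rw [map_mul, LinearMap.det_smul, map_one, mul_one, (Nat.not_even_iff_odd.mp hodd).neg_one_pow] at hdet
    have h3 := FiniteField.isSquare_neg_one_iff.mp ⟨_, hdet.symm⟩
    rw [hF] at h3
    exact h3 rfl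
  set N := T x - 1 with hN
  have hWdef : LinearMap.ker (Matrix.toLin' (φ x : Matrix (Fin 2 ⊕ Fin 2) (Fin 2 ⊕ Fin 2) F) - LinearMap.id) =
      LinearMap.ker N := rfl
  rw [hWdef]
  set W := LinearMap.ker N with hW
  have hmemW : ∀ v, v ∈ W ↔ T x v = v := fun v => by simp [hW, hN, sub_eq_zero]
  have hxgx : ∀ v, T x (T g (T x v)) = T g v := fun v => by
    rw [← Module.End.mul_apply, ← map_mul, ← Module.End.mul_apply, ← map_mul, hgx]
  have hWg : ∀ v ∈ W, T g v ∈ W := fun v hv => by
    rw [hmemW] at hv ⊢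
    conv_lhs => rw [← hv]
    exact hxgx v
  have hRg : ∀ v ∈ LinearMap.range N, T g v ∈ LinearMap.range N := by
    rintro _ ⟨u, rfl⟩
    refine ⟨-(T g (T x u)), ?_⟩
    simp only [hN, LinearMap.sub_apply, Module.End.one_apply, map_neg, map_sub, hxgx]
    abel
  have hx3 : T x ^ 3 = 1 := by rw [← map_pow, ← hx, pow_orderOf_eq_one, map_one]
  have hN3 : N ^ 3 = 0 := by
    have h3 : (3 : ℕ) • (1 : Module.End F (Fin 2 ⊕ Fin 2 → F)) = 0 := by
      haveI := FiniteField.card F (ringChar F)
      rw [← Nat.cast_smul_eq_nsmul F, ← hF, FiniteField.cast_card_eq_zero, zero_smul]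
    calc N ^ 3 = T x ^ 3 - 1 - (3 : ℕ) • (T x * T x - T x) := by
          rw [hN]; simp only [pow_succ, pow_zero, one_mul, sub_mul, mul_sub, mul_one, mul_assoc]; abel
    _ = 0 := by
          rw [hx3, sub_self, ← mul_one (T x * T x - T x), ← mul_smul_comm, h3, mul_zero, sub_zero]
  have hN0 : N ≠ 0 := fun h => by
    have h1 : x = 1 := hTinj (by rw [map_one]; exact sub_eq_zero.mp h)
    rw [h1, orderOf_one] at hx; omega
  have hL : W ⊓ LinearMap.range N ≠ ⊥ := by
    obtain ⟨v, hv⟩ : ∃ v, N v ≠ 0 := by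
      by_contra hh; push Not at hh; exact hN0 (LinearMap.ext hh)
    intro hbot
    have h1 : ∀ w, N (N w) = 0 → N w = 0 := fun w hw => by
      have : N w ∈ W ⊓ LinearMap.range N := ⟨LinearMap.mem_ker.mpr hw, ⟨w, rfl⟩⟩
      rwa [hbot, Submodule.mem_bot] at this
    have h3 : N (N (N v)) = 0 := by
      have := LinearMap.congr_fun hN3 v
      simpa [pow_succ] using this
    exact hv (h1 v (h1 (N v) h3))
  have hWlt : Module.finrank F W < 4 := h4 ▸ Submodule.finrank_lt (fun h =>
    hN0 (LinearMap.ker_eq_top.mp h))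
  have hLpos : 0 < Module.finrank F (W ⊓ LinearMap.range N : Submodule F (Fin 2 ⊕ Fin 2 → F)) := by
    haveI := (Submodule.nontrivial_iff_ne_bot).mpr hL
    exact Module.finrank_pos
  have hLW := Submodule.finrank_mono (inf_le_left : W ⊓ LinearMap.range N ≤ W)
  obtain ⟨a, ha⟩ := heven W hWg
  obtain ⟨b, hb⟩ := heven (W ⊓ LinearMap.range N) fun v hv => ⟨hWg v hv.1, hRg v hv.2⟩
  have hW2 : Module.finrank F W = 2 := by omega
  refine ⟨hW2, fun v w hv hw => ?_⟩
  have heq : W ⊓ LinearMap.range N = W := Submodule.eq_of_le_of_finrank_le inf_le_left (by omega)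
  have hvW : v ∈ W := (hmemW v).mpr hv
  rw [← heq] at hvW
  obtain ⟨u, rfl⟩ := hvW.2
  have hA : (φ x : Matrix (Fin 2 ⊕ Fin 2) (Fin 2 ⊕ Fin 2) F).transpose * Matrix.J (Fin 2) F *
      (φ x : Matrix (Fin 2 ⊕ Fin 2) (Fin 2 ⊕ Fin 2) F) = Matrix.J (Fin 2) F := SymplecticGroup.mem_iff'.mp (φ x).2
  have key : dotProduct (T x u) ((Matrix.J (Fin 2) F).mulVec w) = dotProduct u ((Matrix.J (Fin 2) F).mulVec w) := by
    conv_lhs => rw [← hw, hT, ← Matrix.vecMul_transpose, ← Matrix.dotProduct_mulVec, Matrix.mulVec_mulVec,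
      Matrix.mulVec_mulVec, hA]
  simp only [hN, LinearMap.sub_apply, Module.End.one_apply, sub_dotProduct, key, sub_self]

end Cfsg.Agent.S3213
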