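import Cfsg.Statements.S3219
import Cfsg.Agent.Lib.A4Stab.Affine
import Cfsg.Agent.Lib.A4Stab.NinetyOne

set_option autoImplicit false
open Cfsg

namespace Cfsg.Agent.S3219

open Cfsg.Lib.A4Stab MulAction Subgroup

universe u w

/-- Degree six gives the alternating group. -/
theorem iso_six {G : Type u} [Group G] [Finite G] {Ω : Type w} [Finite Ω] [MulAction G Ω] [FaithfulSMul G Ω]
    (hn : Nat.card Ω = 6) (hG : Nat.card G = 360) : Nonempty (G ≃* ↥(alternatingGroup (Fin 6))) := by
  let f : G →* Equiv.Perm (Fin 6) :=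
    ((Finite.equivFinOfCardEq hn).permCongrHom).toMonoidHom.comp (MulAction.toPermHom G Ω)
  have hf : Function.Injective f :=
    (Finite.equivFinOfCardEq hn).permCongrHom.injective.comp MulAction.toPerm_injective
  have hcard : Nat.card f.range = 360 := by rw [← hG]; exact (Nat.card_congr (MonoidHom.ofInjective hf).toEquiv).symm
  have hidx : f.range.index = 2 := by
    have h := f.range.card_mul_index
    rw [hcard, Nat.card_perm, Nat.card_fin, show Nat.factorial 6 = 720 from rfl] at h
    omega
  exact ⟨(MonoidHom.ofInjective hf).trans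
    (MulEquiv.subgroupCongr (Equiv.Perm.eq_alternatingGroup_of_index_eq_two hidx))⟩

/-- Let G be a finite doubly transitive permutation group on a set Ω in which the stabilizer of two points is isomorphic to the alternating group A₄. Then Ω has 6 points and G ≅ A₆, or Ω has 15 points and G ≅ A₇, or Ω has 16 points and G is isomorphic to the group of all affine transformations of the affine plane over the field with 4 elements, or G = C_G(J)O(G) for some involution J of G, where O(G) is the largest normal subgroup of G of odd order. -/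
theorem result {G : Type*} [Group G] [Finite G] {Ω : Type*} [Fintype Ω] [MulAction G Ω] [FaithfulSMul G Ω]
    (h2 : MulAction.IsMultiplyPretransitive G Ω 2) (a b : Ω) (hab : a ≠ b)
    (e : ↥(MulAction.stabilizer G a ⊓ MulAction.stabilizer G b) ≃* ↥(alternatingGroup (Fin 4))) :
    (Fintype.card Ω = 6 ∧ Nonempty (G ≃* ↥(alternatingGroup (Fin 6)))) ∨ (Fintype.card Ω = 15 ∧ Nonempty (G ≃* ↥(alternatingGroup (Fin 7)))) ∨
      (Fintype.card Ω = 16 ∧ ∃ (F : Type) (_ : Field F) (_ : Fintype F), Fintype.card F = 4 ∧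
        Nonempty (G ≃* ((Fin 2 → F) ≃ᵃ[F] (Fin 2 → F)))) ∨
      (∃ J : G, orderOf J = 2 ∧ Subgroup.centralizer ({J} : Set G) ⊔ Cfsg.oddCore G = ⊤) := by
  obtain ⟨t, v, B⟩ := exists_base
    (⟨fun hpq hrs => (is_two_pretransitive_iff.1 h2) hpq hrs, hab, ⟨e⟩⟩ : Ctx G a b)
  rw [← Nat.card_eq_fintype_card (α := Ω)]
  rcases Nat.mod_two_eq_zero_or_one (Nat.card Ω) with hn | hn
  · rcases B.even_cases hn with h | ⟨h, hi, hj, z, hz, hzT⟩ | ⟨h, hi, hb⟩ | ⟨h, hj⟩ | ⟨h, hj⟩
    · refine Or.inl ⟨h, iso_six h ?_⟩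
      obtain ⟨hG, -⟩ := B.cards
      rw [hG, h]
    · exact Or.inr (Or.inr (Or.inl ⟨h, affine_of_deg16 (B.deg16 h hi hj hz hzT) B⟩))
    · exact (B.false_twentyEight h hi hb).elim
    · exact (B.false_fix₂ (p := 11) (r₁ := 2) (r₂ := 3) (by norm_num) (by norm_num) (by norm_num) Nat.prime_two
        Nat.prime_three (by norm_num) (by norm_num) (by norm_num) (by norm_num) (by norm_num) hj).elim
    · exact (B.false_fix₂ (p := 5) (r₁ := 2) (r₂ := 3) (by norm_num) (by norm_num) (by norm_num) Nat.prime_two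
        Nat.prime_three (by norm_num) (by norm_num) (by norm_num) (by norm_num) (by norm_num) hj).elim
  · rcases B.dichotomy with ⟨z, hz⟩ | ⟨u, hu⟩
    · exact Or.inr (Or.inr (Or.inr (B.central_odd hn hz)))
    · rcases B.outer_odd hn hu with ⟨h, hi, hall⟩ | ⟨h, hi, hall, c, hc⟩
      · exact (B.false_ninetyOne h hi hall).elim
      · exact Or.inr (Or.inl ⟨h, B.iso_fifteen h hi hall hc⟩)

end Cfsg.Agent.S3219
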