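import Cfsg.Statements.S3222
import Cfsg.Agent.Lib.Recog.TwoSymFourSix
-- import your own Cfsg.Agent.* helpers here

set_option autoImplicit false
open Cfsg

namespace Cfsg.Agent.S3222

/-- Let G be a finite group of even order such that (1) some involution t lying in the centre of a Sylow 2-subgroup of G has C_G(t) ≅ Z₂ × S₄, and (2) every Sylow 2-subgroup S of G satisfies C_G(S′) = S, where S′ is the derived subgroup of S. Then G = C_G(t) if G is solvable, and G ≅ S₆ otherwise. -/
theorem result {G : Type*} [Group G] [Finite G] (hev : Even (Nat.card G))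
    (t : G) (ht : orderOf t = 2) (T : Sylow 2 G) (htT : t ∈ (T : Subgroup G)) (htc : ∀ s ∈ (T : Subgroup G), s * t = t * s)
    (e : ↥(Subgroup.centralizer ({t} : Set G)) ≃* (Multiplicative (ZMod 2) × Equiv.Perm (Fin 4)))
    (h2 : ∀ S : Sylow 2 G, Subgroup.centralizer ((⁅(S : Subgroup G), (S : Subgroup G)⁆ : Subgroup G) : Set G) = (S : Subgroup G)) :
    (Group.IsSolvable G → Subgroup.centralizer ({t} : Set G) = ⊤) ∧
      (¬ Group.IsSolvable G → Nonempty (G ≃* Equiv.Perm (Fin 6))) := by
  classical
  haveI : Fact (Nat.Prime 2) := ⟨Nat.prime_two⟩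
  have hTC : (T : Subgroup G) ≤ Subgroup.centralizer ({t} : Set G) :=
    fun s hs => Subgroup.mem_centralizer_singleton_iff.2 (htc s hs)
  have hc : Nat.card (Subgroup.centralizer ({t} : Set G)) = 48 :=
    (Nat.card_congr e.toEquiv).trans Cfsg.Lib.Recog.TwoSymFour.card_W
  have d : Cfsg.Lib.Recog.TwoSymFour.Setup t :=
    { e := e
      ht := ht
      hsyl := by rw [← (Subgroup.centralizer ({t} : Set G)).card_mul_index, hc]
      hodd := fun h => T.not_dvd_index (h.trans (Subgroup.index_dvd_of_le hTC))
      h2 := h2 }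
  haveI : Group.IsSolvable (Equiv.Perm (Fin 4)) := Cfsg.Lib.Dickson.isSolvable_perm_four
  by_cases hcen : Subgroup.centralizer ({t} : Set G) = ⊤
  · refine ⟨fun _ => hcen, fun hns => (hns ?_).elim⟩
    let f : Cfsg.Lib.Recog.TwoSymFour.W →* G := d.emb
    have hf : Function.Surjective f := fun g => d.exists_emb
      (Subgroup.mem_centralizer_singleton_iff.1 (hcen ▸ Subgroup.mem_top g))
    exact solvable_of_surjective hf
  · obtain ⟨E⟩ := d.equiv_perm_six hcen
    refine ⟨fun hs => ?_, fun _ => ⟨E⟩⟩
    haveI := hs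
    exact absurd (solvable_of_surjective (f := E.toMonoidHom) E.surjective)
      (Equiv.Perm.not_solvable _ (by rw [Cardinal.mk_fin]; norm_num))

end Cfsg.Agent.S3222
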