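import Cfsg.Statements.S3232
import Cfsg.Agent.Lib.U62Type.FourRight
-- import your own Cfsg.Agent.* helpers here

set_option autoImplicit false
open Cfsg

namespace Cfsg.Agent.S3232

/-- Let G be a finite group with an involution z, H = C_G(z), such that J = O₂(H) is an (internal) direct product of a group of order 2 and an extraspecial group of order 2⁹, with derived subgroup J′ = ⟨z⟩, C_H(J) ≤ J and H/J ≅ Aut(PSp₄(3)). Then G = H·O(G); or some involution z₁ ∈ Z(J) outside ⟨z⟩ generates a normal subgroup of G and G has a subgroup G₀ of index 2 containing z₁ with G₀/⟨z₁⟩ ≅ U₆(2); or G is isomorphic to the Fischer group Fi₂₂. -/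
theorem result {G : Type*} [Group G] [Finite G] (z : G) (hz : orderOf z = 2)
    {F : Type*} [Field F] [Fintype F] (hF : Fintype.card F = 3) {K : Type*} [Field K] [Fintype K] (hK : Fintype.card K = 4)
    (A E : Subgroup ↥(Subgroup.centralizer ({z} : Set G))) (hAE : Cfsg.IsInternalDirectProduct A E (Cfsg.pCore 2 ↥(Subgroup.centralizer ({z} : Set G)))) (hA : Nat.card ↥A = 2)
    (hE : Cfsg.IsExtraspecial 2 ↥E) (hEc : Nat.card ↥E = 2 ^ 9)
    (zc : ↥(Subgroup.centralizer ({z} : Set G))) (hzc : (zc : G) = z) (hJ' : ⁅(Cfsg.pCore 2 ↥(Subgroup.centralizer ({z} : Set G))), (Cfsg.pCore 2 ↥(Subgroup.centralizer ({z} : Set G)))⁆ = Subgroup.zpowers zc)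
    (hCJ : Subgroup.centralizer ((Cfsg.pCore 2 ↥(Subgroup.centralizer ({z} : Set G))) : Set ↥(Subgroup.centralizer ({z} : Set G))) ≤ Cfsg.pCore 2 ↥(Subgroup.centralizer ({z} : Set G))) [hJn : (Cfsg.pCore 2 ↥(Subgroup.centralizer ({z} : Set G))).Normal]
    (e : (↥(Subgroup.centralizer ({z} : Set G)) ⧸ Cfsg.pCore 2 ↥(Subgroup.centralizer ({z} : Set G))) ≃* MulAut (Cfsg.PSp 2 F)) :
    Subgroup.centralizer ({z} : Set G) ⊔ Cfsg.oddCore G = ⊤ ∨
      (∃ z₁ : G, orderOf z₁ = 2 ∧ z₁ ∉ Subgroup.zpowers z ∧ (∃ h₁ : z₁ ∈ Subgroup.centralizer ({z} : Set G), (⟨z₁, h₁⟩ : ↥(Subgroup.centralizer ({z} : Set G))) ∈ Cfsg.pCore 2 ↥(Subgroup.centralizer ({z} : Set G)) ∧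
          ∀ j ∈ Cfsg.pCore 2 ↥(Subgroup.centralizer ({z} : Set G)), j * ⟨z₁, h₁⟩ = ⟨z₁, h₁⟩ * j) ∧ (Subgroup.zpowers z₁).Normal ∧
        ∃ (G₀ : Subgroup G) (hz₁ : z₁ ∈ G₀), G₀.index = 2 ∧
          ∃ hn : ((Subgroup.zpowers z₁).subgroupOf G₀).Normal,
            Nonempty ((↥G₀ ⧸ (Subgroup.zpowers z₁).subgroupOf G₀) ≃* Cfsg.PSU 6 K 2)) ∨
      Cfsg.Spor.IsoFi22 G := by
  classical
  obtain ⟨a₀, ha₀J, ha₀c, hX⟩ := Cfsg.Lib.U62Type.core_of_hyp hz hAE hA hE hEc zc hzc hJ' hCJ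
  obtain ⟨π, hπd⟩ : ∃ π : ↥(Subgroup.centralizer ({z} : Set G)) →* MulAut (Cfsg.PSp 2 F),
      π = e.toMonoidHom.comp (QuotientGroup.mk' _) := ⟨_, rfl⟩
  obtain ⟨C, Q, -, hF'⟩ := Cfsg.Lib.U62Type.quad_of_core hX hF π
    (by rw [hπd]; exact e.surjective.comp (QuotientGroup.mk'_surjective _))
    (fun x => by
      rw [hπd]
      show e (x : _ ⧸ Cfsg.pCore 2 ↥(Subgroup.centralizer ({z} : Set G))) = 1 ↔ _
      rw [MulEquiv.map_eq_one_iff, QuotientGroup.eq_one_iff]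
      exact ⟨fun h => ⟨x, h, rfl⟩, fun ⟨y, hy, hye⟩ => by rwa [← show y = x from Subtype.val_injective hye]⟩)
  rcases hF'.cases with hA' | ⟨hinn, s, hs, hsa⟩
  · rcases hF'.left_main hA' hK with h | h | h
    · exact Or.inl (Cfsg.Lib.A4Stab.centralizer_sup_oddCore h)
    · refine Or.inr (Or.inl ⟨(a₀ : G), orderOf_eq_prime (by rw [pow_two, Q.a2]) Q.a1, fun hm => ?_,
        ⟨a₀.2, ha₀J, ha₀c⟩, h⟩)
      rcases (Cfsg.Lib.U62Type.mem_zpowers_two Q.z2).1 hm with e' | e'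
      exacts [Q.a1 e', Q.az e']
    · refine Or.inr (Or.inl ⟨(a₀ : G) * z, orderOf_eq_prime (by rw [pow_two, Q.az2]) Q.az1, fun hm => ?_,
        ⟨mul_mem a₀.2 (Subgroup.mem_centralizer_singleton_iff.2 rfl), ?_, ?_⟩, h⟩)
      · rcases (Cfsg.Lib.U62Type.mem_zpowers_two Q.z2).1 hm with e' | e'
        exacts [Q.az1 e', Q.az_ne e']
      · have hzJ : zc ∈ Cfsg.pCore 2 ↥(Subgroup.centralizer ({z} : Set G)) := by
          obtain ⟨y, hy, hye⟩ := hX.zJ
          rwa [← Subtype.val_injective (hye.trans hzc.symm)]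
        convert mul_mem ha₀J hzJ using 1
        exact Subtype.ext (by rw [Subgroup.coe_mul, hzc])
      · intro j hj
        refine Subtype.ext ?_
        show (j : G) * ((a₀ : G) * z) = (a₀ : G) * z * (j : G)
        exact ((show Commute (j : G) (a₀ : G) from congrArg Subtype.val (ha₀c j hj)).mul_right
          (Subgroup.mem_centralizer_singleton_iff.1 j.2)).eq
  · rcases hF'.right_main hinn hs hsa with h | h
    · exact Or.inl (Cfsg.Lib.A4Stab.centralizer_sup_oddCore h)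
    · exact Or.inr (Or.inr h)

end Cfsg.Agent.S3232
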