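import Cfsg.Statements.S3233
import Cfsg.Agent.Lib.U62Type.EightAut
import Cfsg.Agent.Lib.U62Type.EightData
-- import your own Cfsg.Agent.* helpers here

set_option autoImplicit false
open Cfsg

namespace Cfsg.Agent.S3233

/-- The order of a join with a normal subgroup meeting trivially. -/
theorem card_sup_disj {H : Type*} [Group H] [Finite H] (A B : Subgroup H) [hA : A.Normal]
    (h : ∀ x ∈ A, x ∈ B → x = 1) : Nat.card ↥(A ⊔ B : Subgroup H) = Nat.card ↥A * Nat.card ↥B := by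
  rw [← Nat.card_prod]
  refine (Nat.card_eq_of_bijective (fun p : A × B =>
    (⟨(p.1 : H) * p.2, mul_mem (le_sup_left (a := A) (b := B) p.1.2) (le_sup_right (a := A) (b := B) p.2.2)⟩ :
      ↥(A ⊔ B : Subgroup H))) ⟨fun p q e => ?_, fun y => ?_⟩).symm
  · have e' : (p.1 : H) * p.2 = q.1 * q.2 := congrArg Subtype.val e
    have e2 : (q.1 : H)⁻¹ * p.1 = q.2 * (p.2 : H)⁻¹ := by
      rw [inv_mul_eq_iff_eq_mul, ← mul_assoc, ← e', mul_inv_cancel_right]
    have e3 := h _ (mul_mem (inv_mem q.1.2) p.1.2) (e2 ▸ mul_mem q.2.2 (inv_mem p.2.2))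
    have e4 : (p.1 : H) = q.1 := (inv_mul_eq_one.1 e3).symm
    rw [e4] at e'
    exact Prod.ext (Subtype.ext e4) (Subtype.ext (mul_left_cancel e'))
  · obtain ⟨a, ha, b, hb, e⟩ := Subgroup.mem_sup_of_normal_left.1 y.2
    exact ⟨(⟨a, ha⟩, ⟨b, hb⟩), Subtype.ext e⟩

/-- Let G be a finite group with an involution z, H = C_G(z), such that (i) J = O₂(H) is an (internal) direct product of a four-group and an extraspecial group of order 2⁹, with C_H(J) ≤ J, and (ii) H contains an element c of order 3 such that J⟨c⟩ is normal in H with H/J⟨c⟩ ≅ Aut(PSp₄(3)) and C_H(c)/⟨c, z⟩ ≅ PSp₄(3). Then G = H·O(G), or G is isomorphic to the Fischer group Fi₂₃, or G has a normal four-group V with G/V ≅ Aut(U₆(2)). -/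
theorem result {G : Type*} [Group G] [Finite G] (z : G) (hz : orderOf z = 2)
    {F : Type*} [Field F] [Fintype F] (hF : Fintype.card F = 3) {K : Type*} [Field K] [Fintype K] (hK : Fintype.card K = 4)
    (V E : Subgroup ↥(Subgroup.centralizer ({z} : Set G))) (hVE : Cfsg.IsInternalDirectProduct V E (Cfsg.pCore 2 ↥(Subgroup.centralizer ({z} : Set G)))) (hV : Nat.card ↥V = 4) (hV2 : ∀ v ∈ V, v ^ 2 = 1)
    (hE : Cfsg.IsExtraspecial 2 ↥E) (hEc : Nat.card ↥E = 2 ^ 9)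
    (hCJ : Subgroup.centralizer ((Cfsg.pCore 2 ↥(Subgroup.centralizer ({z} : Set G))) : Set ↥(Subgroup.centralizer ({z} : Set G))) ≤ Cfsg.pCore 2 ↥(Subgroup.centralizer ({z} : Set G)))
    (zc c : ↥(Subgroup.centralizer ({z} : Set G))) (hzc : (zc : G) = z) (hc : orderOf c = 3)
    [hJc : (Cfsg.pCore 2 ↥(Subgroup.centralizer ({z} : Set G)) ⊔ Subgroup.zpowers c).Normal] (e : (↥(Subgroup.centralizer ({z} : Set G)) ⧸ (Cfsg.pCore 2 ↥(Subgroup.centralizer ({z} : Set G)) ⊔ Subgroup.zpowers c)) ≃* MulAut (Cfsg.PSp 2 F))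
    [hcz : ((Subgroup.zpowers c ⊔ Subgroup.zpowers zc).subgroupOf (Subgroup.centralizer ({c} : Set ↥(Subgroup.centralizer ({z} : Set G))))).Normal]
    (e' : (↥(Subgroup.centralizer ({c} : Set ↥(Subgroup.centralizer ({z} : Set G)))) ⧸ (Subgroup.zpowers c ⊔ Subgroup.zpowers zc).subgroupOf (Subgroup.centralizer ({c} : Set ↥(Subgroup.centralizer ({z} : Set G))))) ≃* Cfsg.PSp 2 F) :
    Subgroup.centralizer ({z} : Set G) ⊔ Cfsg.oddCore G = ⊤ ∨ Cfsg.Spor.IsoFi23 G ∨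
      (∃ (W : Subgroup G) (hW : W.Normal), Nat.card ↥W = 4 ∧ (∀ w ∈ W, w ^ 2 = 1) ∧
        Nonempty ((G ⧸ W) ≃* MulAut (Cfsg.PSU 6 K 2))) := by
  classical
  haveI : Fact (Nat.Prime 3) := ⟨Nat.prime_three⟩
  haveI : CharP F 3 := charP_of_card_eq_prime (R := F) hF
  obtain ⟨-, hPcard, -, hAut, -⟩ := Cfsg.Lib.U62Type.psp_facts (F := F) hF
  obtain ⟨J₀, hJ₀⟩ : ∃ J₀, J₀ = Cfsg.pCore 2 ↥(Subgroup.centralizer ({z} : Set G)) := ⟨_, rfl⟩
  haveI hJn : J₀.Normal := by rw [hJ₀]; infer_instance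
  have hX := Cfsg.Lib.U62Type.core8_of_hyp hz hF hJ₀ (hJ₀ ▸ hVE) hV hV2 hE hEc (hJ₀ ▸ hCJ) zc c hzc hc e'
  have hc3 : c * c * c = 1 := Subtype.ext hX.c3
  have hzc2 : zc * zc = 1 := Subtype.ext (by rw [Subgroup.coe_mul, hzc, hX.z2]; rfl)
  have hzc1 : zc ≠ 1 := fun e => hX.z1 (by rw [← hzc, e]; rfl)
  have hcpow : ∀ {x}, x ∈ Subgroup.zpowers c → x = 1 ∨ x = c ∨ x = c * c := fun {x} hx => by
    obtain ⟨i, rfl⟩ := hx
    show c ^ i = 1 ∨ c ^ i = c ∨ c ^ i = c * c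
    rw [← zpow_mod_orderOf, hc]
    have h1 := Int.emod_nonneg i (show ((3 : ℕ) : ℤ) ≠ 0 by norm_num)
    have h2 := Int.emod_lt_of_pos i (show (0 : ℤ) < ((3 : ℕ) : ℤ) by norm_num)
    interval_cases (i % ((3 : ℕ) : ℤ))
    · exact Or.inl (zpow_zero _)
    · exact Or.inr (Or.inl (zpow_one _))
    · exact Or.inr (Or.inr (zpow_two _))
  have hcfree : ∀ {x}, x ∈ Subgroup.zpowers c → x * x = 1 → x = 1 := fun {x} hx h => by
    rcases hcpow hx with rfl | rfl | rfl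
    · rfl
    · rwa [h, one_mul] at hc3
    · rw [← mul_assoc, hc3, one_mul] at h
      rw [h]
      exact one_mul 1
  have hdisj : ∀ x ∈ J₀, x ∈ Subgroup.zpowers c → x = 1 := fun x hxJ hxc => hcfree hxc (by
    have hcomm : Commute c x := by
      obtain ⟨i, rfl⟩ := hxc
      exact Commute.self_zpow c i
    refine Subtype.ext ?_
    rcases hX.fpf (x : G) ⟨x, hxJ, rfl⟩ (congrArg Subtype.val hcomm.eq) with e | e <;> push_cast <;> rw [e]
    exacts [one_mul 1, hX.z2])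
  haveI hzn : (Subgroup.zpowers zc).Normal := ⟨fun n hn g => by
    obtain ⟨k, rfl⟩ := hn
    have : Commute g zc := Subtype.ext (by
      push_cast; rw [hzc]; exact Subgroup.mem_centralizer_singleton_iff.1 g.2)
    rw [mul_inv_eq_iff_eq_mul.2 (this.zpow_right k).eq]
    exact ⟨k, rfl⟩⟩
  have hJc3 : Nat.card ↥(J₀ ⊔ Subgroup.zpowers c) = 2048 * 3 := by
    have h := hX.card
    rw [Subgroup.card_map_of_injective Subtype.val_injective] at h
    rw [card_sup_disj _ _ hdisj, Nat.card_zpowers, hc, h]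
  have hcz6 : Nat.card ↥(Subgroup.zpowers c ⊔ Subgroup.zpowers zc) = 6 := by
    rw [sup_comm, card_sup_disj _ _ fun x hx hxc => hcfree hxc (by
      rcases (Cfsg.Lib.U62Type.mem_zpowers_two hzc2).1 hx with rfl | rfl
      exacts [one_mul 1, hzc2]), Nat.card_zpowers, Nat.card_zpowers, hc,
      orderOf_eq_prime (p := 2) (by rw [pow_two, hzc2]) hzc1]
  have hH : Nat.card ↥(Subgroup.centralizer ({z} : Set G)) = 2 * 25920 * (2048 * 3) := by
    subst hJ₀
    rw [Subgroup.card_eq_card_quotient_mul_card_subgroup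
      (Cfsg.pCore 2 ↥(Subgroup.centralizer ({z} : Set G)) ⊔ Subgroup.zpowers c), Nat.card_congr e.toEquiv, hAut, hJc3]
  have hCc : Nat.card ↥(Subgroup.centralizer ({z} : Set G) ⊓ Subgroup.centralizer ({(c : G)} : Set G)) = 25920 * 6 := by
    have hle : Subgroup.zpowers c ⊔ Subgroup.zpowers zc ≤
        Subgroup.centralizer ({c} : Set ↥(Subgroup.centralizer ({z} : Set G))) :=
      sup_le (Subgroup.zpowers_le.2 (Subgroup.mem_centralizer_singleton_iff.2 rfl))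
        (Subgroup.zpowers_le.2 (Subgroup.mem_centralizer_singleton_iff.2 (Subtype.ext (by
          push_cast; rw [hzc]; exact (Subgroup.mem_centralizer_singleton_iff.1 c.2).symm))))
    have h : Nat.card ↥(Subgroup.centralizer ({c} : Set ↥(Subgroup.centralizer ({z} : Set G)))) = 25920 * 6 := by
      rw [Subgroup.card_eq_card_quotient_mul_card_subgroup ((Subgroup.zpowers c ⊔ Subgroup.zpowers zc).subgroupOf
        (Subgroup.centralizer ({c} : Set ↥(Subgroup.centralizer ({z} : Set G))))), Nat.card_congr e'.toEquiv, hPcard,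
        Nat.card_congr (Subgroup.subgroupOfEquivOfLe hle).toEquiv, hcz6]
    rw [← h, ← Subgroup.card_map_of_injective (f := (Subgroup.centralizer ({z} : Set G)).subtype) Subtype.val_injective]
    congr 2
    ext g
    rw [Subgroup.mem_inf, Subgroup.mem_map]
    constructor
    · rintro ⟨hg, hgc⟩
      exact ⟨⟨g, hg⟩, Subgroup.mem_centralizer_singleton_iff.2
        (Subtype.ext (Subgroup.mem_centralizer_singleton_iff.1 hgc)), rfl⟩
    · rintro ⟨x, hx, rfl⟩
      exact ⟨x.2, Subgroup.mem_centralizer_singleton_iff.2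
        (congrArg Subtype.val (Subgroup.mem_centralizer_singleton_iff.1 hx))⟩
  obtain ⟨π, hπ, hk⟩ : ∃ π : ↥(Subgroup.centralizer ({z} : Set G)) →* MulAut (Cfsg.PSp 2 F), Function.Surjective π ∧
      ∀ x, π x = 1 ↔ x ∈ J₀ ⊔ Subgroup.zpowers c := by
    subst hJ₀
    refine ⟨e.toMonoidHom.comp (QuotientGroup.mk' _), e.surjective.comp (QuotientGroup.mk'_surjective _), fun x => ?_⟩
    rw [MonoidHom.comp_apply, MulEquiv.coe_toMonoidHom, map_eq_one_iff _ e.injective, QuotientGroup.mk'_apply,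
      QuotientGroup.eq_one_iff]
  obtain ⟨W, hE8, hP⟩ := Cfsg.Lib.U62Type.eight_of_core8 hX hF π hπ
    (fun x => by
      rw [hk, Subgroup.mem_sup_of_normal_left]
      constructor
      · rintro ⟨j, hj, y, hy, rfl⟩
        refine ⟨(j : G), ⟨j, hj, rfl⟩, ?_⟩
        rcases hcpow hy with rfl | rfl | rfl <;> simp
      · rintro ⟨_, ⟨j, hj, rfl⟩, h | h | h⟩
        · exact ⟨j, hj, 1, one_mem _, by rw [mul_one]; exact Subtype.ext h.symm⟩
        · exact ⟨j, hj, c, Subgroup.mem_zpowers c, Subtype.ext h.symm⟩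
        · exact ⟨j, hj, c * c, mul_mem (Subgroup.mem_zpowers c) (Subgroup.mem_zpowers c), Subtype.ext h.symm⟩)
    (by rw [hH, hCc])
  by_cases hFi : Cfsg.Spor.IsoFi23 G
  · exact Or.inr (Or.inl hFi)
  have hD : ∀ u ∈ W, u ≠ 1 → Cfsg.Lib.U62Type.Iso z (u * z) := fun u hu hu1 =>
    (hE8.d_case hF hP hu hu1).resolve_right hFi
  by_cases hI : ∀ w ∈ W, w ≠ 1 → Cfsg.Lib.U62Type.Iso z w
  · exact Or.inl (Cfsg.Lib.A4Stab.centralizer_sup_oddCore (hE8.isolated8 hF hP hD hI))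
  have hnI : ∀ w ∈ W, w ≠ 1 → ¬ Cfsg.Lib.U62Type.Iso z w := fun w hw h1 h => hI fun u hu hu1 => by
    obtain ⟨g, hg, he⟩ := hE8.trans w hw u hu h1 hu1
    have h' := h.conj g
    rwa [he, mul_inv_eq_iff_eq_mul.2 hg.eq] at h'
  have hN : ∀ w ∈ W, w ≠ 1 → Cfsg.Lib.U62Type.NormalIn W w := fun w hw h1 =>
    ((hE8.w_case hF hP hD hK hw h1).resolve_left (hnI w hw h1)).1
  haveI hWn : W.Normal := hE8.normal8 hF hP hD hN
  obtain ⟨w, hw, h1⟩ := hE8.exists_one
  obtain ⟨-, w', hwc, hw', h1', hne, hU⟩ := (hE8.w_case hF hP hD hK hw h1).resolve_left (hnI w hw h1)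
  exact Or.inr (Or.inr ⟨W, hWn, hE8.cardW, fun u hu => by rw [pow_two]; exact hE8.W2 u hu,
    hE8.aut8 hK hw h1 hw' h1' hne (hnI w hw h1) hwc hU⟩)

end Cfsg.Agent.S3233
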