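import Cfsg.Statements.S3234
import Cfsg.Agent.Lib.FischerLarge.Centralizer.Residual
import Cfsg.Agent.Lib.Fischer.Fi24Simple.Whole
import Cfsg.Agent.Lib.Fischer.Cent24.FromCentre
import Cfsg.Agent.Lib.Fischer.Cent24.Transport
import Cfsg.Agent.Lib.ZStar.Main
import Cfsg.Agent.Lib.Invol.Isolated

set_option autoImplicit false
open Cfsg Cfsg.Lib.FischerLarge

namespace Cfsg.Agent.S3234

universe u

theorem sq_inv_eq {G : Type*} [Group G] (k : G) : (k ^ 2)⁻¹ = k⁻¹ * k⁻¹ := by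
  rw [pow_two, mul_inv_rev]

/-- An isolated involution gives the whole group as its centralizer times the odd core. -/
theorem sup_oddCore {G : Type u} [Group G] [Finite G] {z : G} (hz : IsIsolatedInvolution z) :
    Subgroup.centralizer ({z} : Set G) ⊔ Cfsg.oddCore G = ⊤ := by
  haveI : Fact (Nat.Prime 2) := ⟨Nat.prime_two⟩
  refine eq_top_iff.2 fun g _ => ?_
  obtain ⟨k, ⟨⟨hko, hki⟩, hk⟩, -⟩ := Lib.Invol.isolated_coset_unique hz g
  have hmem := Lib.ZStar.zStarHolds G z hz k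
  rw [hki, ← sq_inv_eq k] at hmem
  have hk2 : k ^ 2 ∈ Cfsg.oddCore G := by
    have := (Cfsg.oddCore G).inv_mem hmem
    rwa [inv_inv] at this
  obtain ⟨j, hj⟩ := hko
  have hkO : k ∈ Cfsg.oddCore G := by
    have := (Cfsg.oddCore G).pow_mem hk2 (j + 1)
    rwa [← pow_mul, show 2 * (j + 1) = orderOf k + 1 by omega, pow_succ, pow_orderOf_eq_one, one_mul] at this
  have e : g = k * (g⁻¹ * k)⁻¹ := by group
  rw [e]
  exact mul_mem (Subgroup.mem_sup_right hkO) (Subgroup.mem_sup_left (inv_mem hk))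

/-- Let G be a finite group with an involution z, H = C_G(z), such that (i) J = O₂(H) is extraspecial of order 2¹³ with C_H(J) ≤ J, and (ii) H has normal subgroups J ≤ M ≤ K where M/J has order 3 and is the largest normal 3-subgroup of H/J (that is, M = O_{2,3}(H)) and K/M ≅ U₄(3). Then G = H·O(G); or H/K has order 2 and G is isomorphic to the Fischer group Fi₂₄′; or H/K is a four-group and G ≅ Fi₂₄. -/
theorem result {G : Type*} [Group G] [Finite G] (z : G) (hz : orderOf z = 2)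
    {L : Type*} [Field L] [Fintype L] (hL : Fintype.card L = 9)
    (hJ : Cfsg.IsExtraspecial 2 ↥(Cfsg.pCore 2 ↥(Subgroup.centralizer ({z} : Set G)))) (hJc : Nat.card ↥(Cfsg.pCore 2 ↥(Subgroup.centralizer ({z} : Set G))) = 2 ^ 13)
    (hCJ : Subgroup.centralizer ((Cfsg.pCore 2 ↥(Subgroup.centralizer ({z} : Set G))) : Set ↥(Subgroup.centralizer ({z} : Set G))) ≤ Cfsg.pCore 2 ↥(Subgroup.centralizer ({z} : Set G)))
    (M K : Subgroup ↥(Subgroup.centralizer ({z} : Set G))) [hMn : M.Normal] [hKn : K.Normal] (hJM : Cfsg.pCore 2 ↥(Subgroup.centralizer ({z} : Set G)) ≤ M) (hMK : M ≤ K)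
    (hM3 : Nat.card ↥M = 3 * Nat.card ↥(Cfsg.pCore 2 ↥(Subgroup.centralizer ({z} : Set G))))
    (hMmax : ∀ M' : Subgroup ↥(Subgroup.centralizer ({z} : Set G)), M'.Normal → Cfsg.pCore 2 ↥(Subgroup.centralizer ({z} : Set G)) ≤ M' → (∃ a : ℕ, Nat.card ↥M' = 3 ^ a * Nat.card ↥(Cfsg.pCore 2 ↥(Subgroup.centralizer ({z} : Set G)))) → M' ≤ M)
    (e : (↥K ⧸ M.subgroupOf K) ≃* Cfsg.PSU 4 L 3) :
    Subgroup.centralizer ({z} : Set G) ⊔ Cfsg.oddCore G = ⊤ ∨
      (K.index = 2 ∧ Cfsg.Spor.IsoFi24' G) ∨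
      (K.index = 4 ∧ (∀ x : ↥(Subgroup.centralizer ({z} : Set G)) ⧸ K, x ^ 2 = 1) ∧ Nonempty (G ≃* Cfsg.Spor.Fi24)) := by
  classical
  obtain ⟨Q, hQdef⟩ : ∃ Q, Q = (Cfsg.pCore 2 ↥(Subgroup.centralizer ({z} : Set G))).map (Subgroup.centralizer ({z} : Set G)).subtype := ⟨_, rfl⟩
  haveI : (Cfsg.pCore 2 ↥(Subgroup.centralizer ({z} : Set G))).Characteristic := Lib.Core.pCore_characteristic
  have hzC : z ∈ (Subgroup.centralizer ({z} : Set G)) := Subgroup.mem_centralizer_singleton_iff.2 rfl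
  have hzJ : (⟨z, hzC⟩ : ↥(Subgroup.centralizer ({z} : Set G))) ∈ Cfsg.pCore 2 ↥(Subgroup.centralizer ({z} : Set G)) := hCJ (Subgroup.mem_centralizer_iff.2 fun a _ =>
    Subtype.ext (Subgroup.mem_centralizer_singleton_iff.1 a.2))
  have hext : Cfsg.IsExtraspecial 2 ↥Q := by
    rw [hQdef]
    exact Lib.Extra.isExtraspecial_congr ((Cfsg.pCore 2 ↥(Subgroup.centralizer ({z} : Set G))).equivMapOfInjective _ (Subgroup.centralizer ({z} : Set G)).subtype_injective) hJ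
  have hcent : Subgroup.centralizer (Q : Set G) ≤ Q := by
    intro g hg
    have hgC : g ∈ (Subgroup.centralizer ({z} : Set G)) := Subgroup.mem_centralizer_singleton_iff.2
      (Subgroup.mem_centralizer_iff.1 hg z (hQdef ▸ ⟨_, hzJ, rfl⟩)).symm
    rw [hQdef]
    refine ⟨⟨g, hgC⟩, hCJ (Subgroup.mem_centralizer_iff.2 fun a ha => ?_), rfl⟩
    exact Subtype.ext (Subgroup.mem_centralizer_iff.1 hg a (hQdef ▸ ⟨a, ha, rfl⟩))
  have hctx := Lib.Extra.ctx_of_twoCore hz hQdef hext hcent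
  obtain ⟨eL⟩ := Lib.MinusSix.psu_congr
    (FiniteField.ringEquivOfCardEq (hL.trans Lib.PermAut.MclPsu.card_r9.symm)) 4 3
  subst hQdef
  obtain ⟨D, hDM⟩ := exists_pre_coord z (Cfsg.pCore 2 ↥(Subgroup.centralizer ({z} : Set G))) hctx hJc M K hJM hMK hM3
    Lib.PermAut.MclPsu.card_r9 (e.trans eL)
  have hMc : Nat.card ↥D.M = Nat.card ↥K := by
    rw [hDM, Subgroup.card_map_of_injective (Subgroup.centralizer ({z} : Set G)).subtype_injective]
  have hidxK : ∀ k, Nat.card ↥(Subgroup.centralizer ({z} : Set G)) = k * Nat.card ↥D.M → K.index = k := by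
    intro k hk
    have h := K.card_mul_index
    rw [hk, hMc, mul_comm k] at h
    exact Nat.eq_of_mul_eq_mul_left Nat.card_pos h
  have hMcard := D.card_M
  rcases D.alternatives with h | ⟨hc, g, hg, hne⟩ | ⟨hc, G₀, hMG, hzG, hidx, hc₀, g, hg, hne⟩
  · exact Or.inl (sup_oddCore h)
  · refine Or.inr (Or.inl ⟨hidxK 2 hc, ?_⟩)
    have hw : (D.toCoord hc.symm).Wit g (g * z * g⁻¹) := ⟨rfl, hg, hne⟩
    obtain ⟨C', t, o, t2, ι, B, htz⟩ := Lib.Fischer.Fi24Simple.exists_big (D.toCoord hc.symm) hw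
    refine B.iso hz htz ?_
    rw [hc, hMcard]
    norm_num
  · refine Or.inr (Or.inr ⟨hidxK 4 hc, fun x => ?_, ?_⟩)
    · obtain ⟨x, rfl⟩ := QuotientGroup.mk_surjective x
      rw [pow_two, ← QuotientGroup.mk_mul, QuotientGroup.eq_one_iff]
      have hxx := D.sq_mem (h := (x : G)) (Subgroup.mem_centralizer_singleton_iff.1 x.2)
      rw [hDM] at hxx
      obtain ⟨y, hy, hye⟩ := hxx
      exact (Subtype.ext hye : y = x * x) ▸ hy
    haveI : Fact (Nat.Prime 2) := ⟨Nat.prime_two⟩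
    set P := D.restrict G₀ hMG with hP
    have hPM : Nat.card ↥P.M = Nat.card ↥D.M := Nat.card_congr (Subgroup.subgroupOfEquivOfLe hMG).toEquiv
    have hidx2 : 2 * Nat.card ↥P.M =
        Nat.card ↥(Subgroup.centralizer ({(⟨z, hzG⟩ : ↥G₀)} : Set ↥G₀)) := by rw [hPM, hc₀]
    have O : Over G₀ ⟨z, hzG⟩ (((Cfsg.pCore 2 ↥(Subgroup.centralizer ({z} : Set G))).map (Subgroup.centralizer ({z} : Set G)).subtype).subgroupOf G₀) := by
      refine ⟨hidx, ?_, fun a ha x hx => ?_, fun a ha hall => ?_⟩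
      · obtain ⟨T, hT⟩ := P.ctx.two.exists_le_sylow
        exact ⟨T, hT P.ctx.mem, fun x hx => (P.ctx.central_of_le T.isPGroup' hT x hx).symm⟩
      · have h1 := (Subgroup.mem_normalizer_iff.1 (D.ctx.norm a ha) (x : G)).1 hx
        exact ⟨⟨_, hMG (D.Q_le h1)⟩, h1, rfl⟩
      · have h1 : ∀ q ∈ (Cfsg.pCore 2 ↥(Subgroup.centralizer ({z} : Set G))).map (Subgroup.centralizer ({z} : Set G)).subtype, Commute a q := fun q hq =>
          hall ⟨q, hMG (D.Q_le hq)⟩ hq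
        rcases D.ctx.cent a h1 with rfl | rfl
        exacts [one_mem _, hzG]
    have hw : (P.toCoord hidx2).Wit g (g * ⟨z, hzG⟩ * g⁻¹) := ⟨rfl, hg, hne⟩
    obtain ⟨d, τ, o, τ₂, ι, S, hzd, hrange, htwo⟩ := Lib.Fischer.Cent24.exists_side O (P.toCoord hidx2) hw
    obtain ⟨Φ⟩ := S.exists_equiv hzG hzd hz (by rw [hc, hMcard]; norm_num) hrange htwo
    exact ⟨Φ.symm⟩

end Cfsg.Agent.S3234
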