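import Cfsg.Statements.S3237
import Cfsg.Agent.Lib.AutPGL34.Coords
import Cfsg.Agent.Lib.AutPGL34.OddPart
import Cfsg.Agent.Lib.AutPGL34.PGLAut

set_option autoImplicit false
open Cfsg

namespace Cfsg.Agent.S3237

/-- Let G be a finite group of even order with an involution z, H = C_G(z), such that H has a normal subgroup E of order 32 that is extraspecial and contains no elementary abelian subgroup of order 8 (the central product of a dihedral group of order 8 with a quaternion group), C_H(E) ≤ E, and H/E ≅ S₄. Then O(G) is abelian, and if G is not solvable then G is isomorphic to the automorphism group of PGL₃(4). -/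
theorem result {G : Type*} [Group G] [Finite G]
    (hev : Even (Nat.card G)) (z : G) (hz : orderOf z = 2)
    (E : Subgroup ↥(Subgroup.centralizer ({z} : Set G))) [hEn : E.Normal] (hE : Cfsg.IsExtraspecial 2 ↥E) (hE32 : Nat.card ↥E = 32)
    (hEminus : ∀ A : Subgroup ↥E, Cfsg.IsElementaryAbelian 2 A → Nat.card ↥A ≠ 8)
    (hCE : Subgroup.centralizer (E : Set ↥(Subgroup.centralizer ({z} : Set G))) ≤ E)
    (e : (↥(Subgroup.centralizer ({z} : Set G)) ⧸ E) ≃* Equiv.Perm (Fin 4)) {F : Type*} [Field F] [Fintype F] (hF : Fintype.card F = 4) :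
    IsMulCommutative ↥(Cfsg.oddCore G) ∧
      (¬ Group.IsSolvable G → Nonempty (G ≃* MulAut (GL (Fin 3) F ⧸ Subgroup.center (GL (Fin 3) F)))) := by
  classical
  haveI : Fact (Nat.Prime 2) := ⟨Nat.prime_two⟩
  have hH := Cfsg.Lib.AutPGL34.solvable_cent E hE32 e Cfsg.Lib.Dickson.isSolvable_perm_four
  refine ⟨Cfsg.Lib.AutPGL34.oddCore_comm hz E hE32 hCE, fun hns => ?_⟩
  have hO : oddCore G = ⊥ := by
    by_contra hne
    exact hns (Cfsg.Lib.AutPGL34.solvable_of_oddCore hz E hE hE32 hCE hH hne)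
  obtain ⟨al, be, f, M⟩ := Cfsg.Lib.AutPGL34.exists_mdl hz E hE hE32 hEminus hCE e
  cases be with
  | true =>
    have hc := Cfsg.Lib.ZStar.mem_center_of_isolated hO (M.isolated rfl)
    exfalso
    apply hns
    haveI := hH
    have htop : Subgroup.centralizer ({z} : Set G) = ⊤ := eq_top_iff.2 fun g _ =>
      Subgroup.mem_centralizer_singleton_iff.2 (Subgroup.mem_center_iff.1 hc g)
    exact Cfsg.Lib.Dickson.isSolvable_congr ((MulEquiv.subgroupCongr htop).trans Subgroup.topEquiv).symm hH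
  | false =>
    obtain ⟨N, hN, Q, c, h, hidx, ⟨hzN, hzZ⟩, hh, hswap⟩ := M.exists_coords hF
    haveI := hN
    obtain ⟨P, hP⟩ := M.exists_sylow
    have hTz : ∀ R : Subgroup G, R.Normal → IsPGroup 2 R → R ≠ ⊥ → z ∈ R := by
      intro R hR hR2 hne
      haveI := hR
      have hRP : R ≤ (P : Subgroup G) := hR2.le_sylow_of_normal P
      haveI : (R.subgroupOf (P : Subgroup G)).Normal := Subgroup.normal_subgroupOf
      have hne' : R.subgroupOf (P : Subgroup G) ≠ ⊥ := fun hb => hne (by
        rw [Subgroup.subgroupOf_eq_bot] at hb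
        exact le_bot_iff.1 (hb le_rfl hRP))
      obtain ⟨x, hxR, hx1⟩ := (Subgroup.bot_or_exists_ne_one _).resolve_left
        (Cfsg.Lib.PGroup.inf_center_ne_bot P.isPGroup' hne')
      obtain ⟨hx, hxc⟩ := Subgroup.mem_inf.1 hxR
      have hxT : (x : G) ∈ M.sylSub := hP ▸ x.2
      rcases M.mem_centre_sylSub hxT (fun t ht =>
        (congrArg Subtype.val (Subgroup.mem_center_iff.1 hxc ⟨t, hP.symm ▸ ht⟩)).symm) with h1 | h1
      · exact absurd (Subtype.ext h1) hx1
      · exact h1 ▸ (Subgroup.mem_subgroupOf.1 hx)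
    obtain ⟨φ⟩ := Cfsg.Lib.AutPGL34.aut_of_index_four hO hns M.zne M.zz hH M.card_cent hTz hidx c hzN hh
      hzZ hswap
    obtain ⟨ψ⟩ := Cfsg.Lib.AutPGL34.mulAut_pgl (F := F) hF
    exact ⟨φ.trans ψ⟩

end Cfsg.Agent.S3237
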