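import Cfsg.Statements.S3240
import Cfsg.Agent.Lib.ThreeCC.Main

set_option autoImplicit false
open Cfsg

namespace Cfsg.Agent.S3240

/-- Call a subgroup A of a finite group G strongly self-centralizing if C_G(a) = A for every non-identity a ∈ A. Let G be a finite non-abelian simple group with three pairwise non-conjugate strongly self-centralizing subgroups A₁, A₂, A₃ with [N_G(A₁) : A₁] = 2, [N_G(A₂) : A₂] = [N_G(A₃) : A₃] = 4, |A₁| = n₁ ≥ 5, |A₂| = n₂ > 5, |A₃| = n₃ > 5, such that |G| ≤ 3 n₁² n₂² n₃² and the Sylow r-subgroups of G are abelian for every odd prime r not dividing n₁n₂n₃. Then G is isomorphic to a Suzuki group. -/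
theorem result {G : Type*} [Group G] [Finite G] [IsSimpleGroup G] (hG : ¬ IsMulCommutative G)
    (A₁ A₂ A₃ : Subgroup G)
    (hsc : ∀ A ∈ ({A₁, A₂, A₃} : Set (Subgroup G)), ∀ a ∈ A, a ≠ 1 → Subgroup.centralizer ({a} : Set G) = A)
    (hnc : ∀ g : G, A₁.map (MulAut.conj g).toMonoidHom ≠ A₂ ∧ A₁.map (MulAut.conj g).toMonoidHom ≠ A₃ ∧ A₂.map (MulAut.conj g).toMonoidHom ≠ A₃)
    (h₁ : A₁.relIndex (Subgroup.normalizer (A₁ : Set G)) = 2) (h₂ : A₂.relIndex (Subgroup.normalizer (A₂ : Set G)) = 4)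
    (h₃ : A₃.relIndex (Subgroup.normalizer (A₃ : Set G)) = 4)
    (hn₁ : 5 ≤ Nat.card ↥A₁) (hn₂ : 5 < Nat.card ↥A₂) (hn₃ : 5 < Nat.card ↥A₃)
    (hord : Nat.card G ≤ 3 * Nat.card ↥A₁ ^ 2 * Nat.card ↥A₂ ^ 2 * Nat.card ↥A₃ ^ 2)
    (hab : ∀ r : ℕ, r.Prime → r ≠ 2 → ¬ r ∣ Nat.card ↥A₁ * Nat.card ↥A₂ * Nat.card ↥A₃ →
      ∀ P : Sylow r G, IsMulCommutative ↥(P : Subgroup G)) :
    Cfsg.Lie.IsoSuzuki G := by
  haveI := Fintype.ofFinite G
  let A : Fin 3 → Subgroup G := ![A₁, A₂, A₃]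
  have hmem : ∀ i, A i ∈ ({A₁, A₂, A₃} : Set (Subgroup G)) := by intro i; fin_cases i <;> simp [A]
  have hcomp : ∀ (g : G) {X Y : Subgroup G}, X.map (MulAut.conj g).toMonoidHom = Y →
      Y.map (MulAut.conj g⁻¹).toMonoidHom = X := by
    intro g X Y h
    rw [← h, Subgroup.map_map]
    convert Subgroup.map_id X using 2
    ext x
    simp [mul_assoc]
  let C : Cfsg.Lib.ThreeCC.Cfg G :=
    { A := A
      hsc := fun i => hsc _ (hmem i)
      hnc := by
        intro i j g h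
        fin_cases i <;> fin_cases j <;> simp [A] at h ⊢
        · exact (hnc g).1 h
        · exact (hnc g).2.1 h
        · exact (hnc g⁻¹).1 (hcomp g h)
        · exact (hnc g).2.2 h
        · exact (hnc g⁻¹).2.1 (hcomp g h)
        · exact (hnc g⁻¹).2.2 (hcomp g h)
      he := by intro i; fin_cases i <;> assumption
      hn₁ := hn₁
      hn₂ := hn₂
      hn₃ := hn₃
      hord := hord }
  have hF : ∀ i, Nonempty (Cfsg.Lib.ThreeCC.Fam (C.A i) (Cfsg.Lib.ThreeCC.idx i)) := fun i =>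
    Cfsg.Lib.ThreeCC.exists_fam (C.isCA i) (C.he i) (by
      fin_cases i
      · show 2 + 1 < Nat.card ↥A₁; omega
      · show 4 + 1 < Nat.card ↥A₂; omega
      · show 4 + 1 < Nat.card ↥A₃; omega)
  exact C.isoSuzuki (fun i => (hF i).some) hG

end Cfsg.Agent.S3240
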