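import Cfsg.Statements.S3243
import Cfsg.Agent.Lib.OrderSixCHZ.IndexThree
import Cfsg.Agent.Lib.OrderSixCHZ.SixCases
import Cfsg.Agent.Lib.OrderSixCHZ.AltCase

set_option autoImplicit false
open Cfsg

namespace Cfsg.Agent.S3243

/-- Let G be a finite non-abelian simple group with a single conjugacy class of involutions containing an element t of order 6 with C_G(t) = ⟨t⟩. Then G is isomorphic to L₂(11), L₂(13), L₃(3), the Mathieu group M₁₁, or the Janko group J₁. -/
theorem result {G : Type*} [Group G] [Finite G] [IsSimpleGroup G]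
    (hG : ¬ IsMulCommutative G) (h1 : ∀ x y : G, orderOf x = 2 → orderOf y = 2 → IsConj x y)
    (t : G) (ht : orderOf t = 6) (hC : Subgroup.centralizer ({t} : Set G) = Subgroup.zpowers t) :
    (∃ (F : Type) (_ : Field F) (_ : Fintype F), (Fintype.card F = 11 ∨ Fintype.card F = 13) ∧
        Nonempty (G ≃* Matrix.ProjectiveSpecialLinearGroup (Fin 2) F)) ∨
      (∃ (F : Type) (_ : Field F) (_ : Fintype F), Fintype.card F = 3 ∧ Nonempty (G ≃* Matrix.ProjectiveSpecialLinearGroup (Fin 3) F)) ∨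
      Cfsg.Spor.IsoM11 G ∨ Cfsg.Spor.IsoJ1 G := by
  have h : Cfsg.Lib.OrderSixCHZ.Hyp t := ⟨ht, hC, h1⟩
  rcases h.shapes with ⟨⟨D⟩⟩ | ⟨⟨D⟩⟩ | ⟨f, hf, hk⟩
  · rcases D.m_cases with hm | hm
    · exact (D.no_three h hG hm).elim
    · rcases D.six_cases h hG hm with hp | hp | hp
      · exact Or.inl hp
      · exact Or.inr (Or.inl hp)
      · exact Or.inr (Or.inr (Or.inl hp))
  · exact Or.inr (Or.inr (Or.inr (D.isoJ1 h hG)))
  · exact (h.not_psl_seven hG f hf hk).elim

end Cfsg.Agent.S3243
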