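import Cfsg.Statements.S3244
import Mathlib
import Cfsg.Agent.Lib.ZStar.Main
import Cfsg.Agent.Lib.Invol.Isolated
import Cfsg.Agent.Lib.Sig.GoldschmidtFusion
import Cfsg.Agent.Lib.Sig.PConstrained
import Cfsg.Agent.Lib.Coprime.Conjugacy

set_option autoImplicit false
open Cfsg

namespace Cfsg.Agent.S3244

open Subgroup Cfsg.Lib in
/-- Lifting the normalizer of a 2-group modulo an odd normal subgroup. -/
theorem exists_lift {X : Type*} [Group X] [Finite X] {p : ℕ} [Fact p.Prime] (N : Subgroup X) [N.Normal]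
    (hN : (Nat.card ↥N).Coprime p) {T : Subgroup X} (hT : IsPGroup p ↥T) {x : X}
    (hx : QuotientGroup.mk' N x ∈ normalizer ((T.map (QuotientGroup.mk' N) : Subgroup (X ⧸ N)) : Set (X ⧸ N))) :
    ∃ n ∈ N, n⁻¹ * x ∈ normalizer (T : Set X) := by
  set q := QuotientGroup.mk' N
  have hcop : (Nat.card T).Coprime (Nat.card N) := by
    obtain ⟨k, hk⟩ := hT.exists_card_eq
    rw [hk]; exact hN.symm.pow_left k
  have hsol : Group.IsSolvable ↥T := by haveI := hT.isNilpotent; infer_instance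
  have hTN : T ≤ normalizer (N : Set X) := by rw [normalizer_eq_top_iff.2 inferInstance]; exact le_top
  have hB : T.map (MulAut.conj x).toMonoidHom ≤ N ⊔ T := by
    rintro _ ⟨t, ht, rfl⟩
    have h1 : q (x * t * x⁻¹) ∈ T.map q := by
      rw [map_mul, map_mul, map_inv]
      exact (mem_normalizer_iff.1 hx _).1 ⟨t, ht, rfl⟩
    obtain ⟨t', ht', he⟩ := h1
    show x * t * x⁻¹ ∈ N ⊔ T
    have h2 : t'⁻¹ * (x * t * x⁻¹) ∈ N := QuotientGroup.eq.1 he
    have := mul_mem (mem_sup_right (S := N) ht') (mem_sup_left (T := T) h2)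
    rwa [mul_inv_cancel_left] at this
  obtain ⟨n, hn, hBn⟩ := Coprime.exists_conj_of_coprime N T _ hTN hcop (Or.inl hsol) hB
    (Coprime.card_map_conj _ _)
  refine ⟨n, hn, mem_normalizer_iff.2 fun t => ?_⟩
  have e : t ∈ T ↔ x * t * x⁻¹ ∈ T.map (MulAut.conj n).toMonoidHom := by
    rw [← hBn, Coprime.mem_map_conj_iff, show x⁻¹ * (x * t * x⁻¹) * x = t by group]
  rw [e, Coprime.mem_map_conj_iff,
    show n⁻¹ * (x * t * x⁻¹) * n = n⁻¹ * x * t * (n⁻¹ * x)⁻¹ by group]

open Cfsg.Lib.Sig.Goldschmidt in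
/-- In a chain moving `z`, some step does not centralize `z`. -/
theorem exists_step {G : Type*} [Group G] [Finite G] {p : ℕ} [Fact p.Prime] (P : Sylow p G) (z : G) :
    ∀ l : List (Subgroup G × G), Chain P l (Subgroup.zpowers z) →
      (l.map Prod.snd).prod * z ≠ z * (l.map Prod.snd).prod →
      ∃ E : Subgroup G, ∃ x : G, Good P E ∧ x ∈ Subgroup.normalizer (E : Set G) ∧ z ∈ E ∧ x * z ≠ z * x := by
  intro l
  induction l with
  | nil => intro _ h; simp at h
  | cons a l ih =>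
    obtain ⟨E, x⟩ := a
    rintro ⟨h1, h2, h3, h4⟩ hne
    by_cases hx : x * z = z * x
    · refine ih ?_ fun h => hne ?_
      · rw [Cfsg.Lib.Fusion.conjR_eq_of_mem_normalizer] at h4
        · exact h4
        · refine Subgroup.centralizer_le_normalizer _ (Subgroup.mem_centralizer_iff.2 ?_)
          rintro _ ⟨i, rfl⟩
          exact ((show Commute x z from hx).zpow_right i).eq.symm
      · simp only [List.map_cons, List.prod_cons]
        rw [mul_assoc, h, ← mul_assoc, hx, mul_assoc]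
    · exact ⟨E, x, h1, h2, h3 (Subgroup.mem_zpowers z), hx⟩

theorem normalizer_zpowers {G : Type*} [Group G] {t : G} (ht : orderOf t = 2) :
    Subgroup.normalizer ((Subgroup.zpowers t : Subgroup G) : Set G) = Subgroup.centralizer ({t} : Set G) := by
  refine le_antisymm (fun g hg => ?_) (fun g hg => ?_)
  · rw [Subgroup.mem_centralizer_singleton_iff]
    have h1 := (Subgroup.mem_normalizer_iff.1 hg t).1 (Subgroup.mem_zpowers t)
    obtain ⟨i, hi⟩ := Subgroup.mem_zpowers_iff.1 h1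
    rw [← zpow_mod_orderOf t i, ht] at hi
    rcases Int.emod_two_eq_zero_or_one i with h | h
    · rw [Nat.cast_ofNat, h, zpow_zero] at hi
      have h3 : t = 1 := by
        calc t = g⁻¹ * (g * t * g⁻¹) * g := by group
          _ = 1 := by rw [← hi]; group
      rw [h3, orderOf_one] at ht
      omega
    · rw [Nat.cast_ofNat, h, zpow_one] at hi
      exact mul_inv_eq_iff_eq_mul.1 hi.symm
  · refine Subgroup.centralizer_le_normalizer _ (Subgroup.mem_centralizer_iff.2 ?_)
    rintro _ ⟨i, rfl⟩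
    exact ((show Commute g t from Subgroup.mem_centralizer_singleton_iff.1 hg).zpow_right i).eq.symm


/-- Say that a finite group G is of characteristic 2 type in the early sense when a Sylow 2-subgroup S of G has a self-centralizing normal subgroup of rank at least 3, S normalizes no nontrivial subgroup of odd order, and every 2-local subgroup of G is 2-constrained. If G is a non-abelian simple group of characteristic 2 type in this sense, then for some maximal 2-local subgroup M of G the centre of O₂(M) is not cyclic. -/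
theorem result {G : Type*} [Group G] [Finite G] [IsSimpleGroup G]
    (hG : ¬ IsMulCommutative G) (S : Sylow 2 G) (A : Subgroup G) (hA : Cfsg.IsSCN (S : Subgroup G) A) (hA3 : ¬ Cfsg.PRankLE 2 2 ↥A)
    (hinv : ∀ X : Subgroup G, Odd (Nat.card ↥X) → (S : Subgroup G) ≤ Subgroup.normalizer (X : Set G) → X = ⊥)
    (hcon : ∀ T : Subgroup G, IsPGroup 2 ↥T → T ≠ ⊥ → Cfsg.IsPConstrained 2 ↥(Subgroup.normalizer (T : Set G))) :
    ∃ M : Subgroup G, Cfsg.IsMaximalTwoLocal M ∧ ¬ IsCyclic ↥(Subgroup.center ↥(Cfsg.pCore 2 ↥M)) := by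
  classical
  haveI : Fact (Nat.Prime 2) := ⟨Nat.prime_two⟩
  by_contra hno
  push Not at hno
  haveI : Nontrivial G := IsSimpleGroup.toNontrivial
  -- a central involution of `S`
  have hS1 : (S : Subgroup G) ≠ ⊥ := by
    intro h
    have hodd : Odd (Nat.card ↥(⊤ : Subgroup G)) := by
      rw [Subgroup.card_top, ← Nat.not_even_iff_odd, even_iff_two_dvd]
      exact fun hd => S.ne_bot_of_dvd_card hd h
    have := hinv ⊤ hodd (by rw [h]; exact bot_le)
    exact top_ne_bot this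
  haveI : Nontrivial ↥(S : Subgroup G) := (Subgroup.nontrivial_iff_ne_bot _).2 hS1
  haveI := S.isPGroup'.center_nontrivial
  obtain ⟨k0, hk0, hk0'⟩ := (S.isPGroup'.to_subgroup (Subgroup.center ↥(S : Subgroup G))).nontrivial_iff_card.1 inferInstance
  obtain ⟨z0, hz0⟩ := exists_prime_orderOf_dvd_card' (G := ↥(Subgroup.center ↥(S : Subgroup G))) 2 (hk0' ▸ dvd_pow_self 2 (by omega))
  set z : G := ((z0 : ↥(S : Subgroup G)) : G) with hz
  have hzo : orderOf z = 2 := by rw [hz, Subgroup.orderOf_coe, Subgroup.orderOf_coe, hz0]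
  have hzz : z * z = 1 := by rw [← pow_two, ← hzo, pow_orderOf_eq_one]
  have hzS : z ∈ (S : Subgroup G) := (z0 : ↥(S : Subgroup G)).2
  have hzc : ∀ s ∈ (S : Subgroup G), s * z = z * s := fun s hs =>
    congrArg Subtype.val (Subgroup.mem_center_iff.1 z0.2 ⟨s, hs⟩)
  -- `z` is moved inside some good subgroup
  obtain ⟨g, hgS, hgne⟩ : ∃ g : G, g * z * g⁻¹ ∈ (S : Subgroup G) ∧ g * z * g⁻¹ ≠ z := by
    by_contra h
    push Not at h
    have hiso := Cfsg.Lib.Invol.isolated_of_sylow S hzo h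
    have hO : Cfsg.oddCore G = ⊥ := by
      refine (Subgroup.Normal.eq_bot_or_eq_top (H := Cfsg.oddCore G) (Cfsg.pPrimeCore_normal 2 G)).resolve_right fun h' => ?_
      exact Cfsg.Lib.ZStar.notMem_oddCore hzo (h' ▸ Subgroup.mem_top z)
    have hc := Cfsg.Lib.ZStar.mem_center_of_isolated hO hiso
    rcases Subgroup.Normal.eq_bot_or_eq_top (H := Subgroup.center G) inferInstance with h' | h'
    · rw [h', Subgroup.mem_bot] at hc
      rw [hc, orderOf_one] at hzo; omega
    · exact hG ⟨⟨fun a b => Subgroup.mem_center_iff.1 (h'.symm ▸ Subgroup.mem_top b) a⟩⟩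
  obtain ⟨l, hl, hlc⟩ := Cfsg.Lib.Sig.Goldschmidt.link S (Subgroup.zpowers z) g⁻¹ (Subgroup.zpowers_le.2 hzS) (by
    rw [Cfsg.Lib.Fusion.conjR_le_iff]
    rintro _ ⟨i, rfl⟩
    rw [inv_inv, show g * z ^ i * g⁻¹ = (g * z * g⁻¹) ^ i by rw [conj_zpow]]
    exact Subgroup.zpow_mem _ hgS i)
  obtain ⟨E, x0, hgood, hx0N, hzE, hx0⟩ := exists_step S z l hl fun h => hgne (by
    have h1 := Subgroup.mem_centralizer_iff.1 hlc z (Subgroup.mem_zpowers z)
    set w := (l.map Prod.snd).prod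
    have h2 : g⁻¹ * z = z * g⁻¹ := by
      calc g⁻¹ * z = g⁻¹ * w⁻¹ * (w * z) := by group
        _ = g⁻¹ * w⁻¹ * z * w := by rw [h]; group
        _ = z * (g⁻¹ * w⁻¹) * w := by rw [h1]
        _ = z * g⁻¹ := by group
    calc g * z * g⁻¹ = g * (z * g⁻¹) := mul_assoc _ _ _
      _ = g * (g⁻¹ * z) := by rw [h2]
      _ = z := by group)
  obtain ⟨hES, hEC, hEW, hEful⟩ := hgood
  set N := Subgroup.normalizer (E : Set G) with hN
  have hEne : E ≠ ⊥ := fun h => by
    rw [h, Subgroup.mem_bot] at hzE; rw [hzE, orderOf_one] at hzo; omega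
  have hEp : IsPGroup 2 ↥E := S.isPGroup'.to_le hES
  -- a maximal 2-local containing `N`
  obtain ⟨M, hNM, hMmax⟩ := (Set.toFinite {K : Subgroup G | Cfsg.IsTwoLocal K}).exists_le_maximal
    (a := N) ⟨E, hEp, hEne, rfl⟩
  have hMloc : Cfsg.IsMaximalTwoLocal M := ⟨hMmax.1, fun K hK hle => le_antisymm (hMmax.2 hK hle) hle⟩
  have hcyc := hno M hMloc
  obtain ⟨T, hT, hT1, hMT⟩ := hMmax.1
  have hMcon : Cfsg.IsPConstrained 2 ↥M := by rw [hMT]; exact hcon T hT hT1
  -- the involution of `Z(O₂(M))`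
  have hTM : T ≤ M := by rw [hMT]; exact Subgroup.le_normalizer
  have hQne : Cfsg.pCore 2 ↥M ≠ ⊥ := by
    intro h
    haveI : (T.subgroupOf M).Normal := (Subgroup.normal_subgroupOf_iff_le_normalizer hTM).2 (le_of_eq hMT)
    have := Cfsg.Lib.Core.le_pCore (p := 2) (N := T.subgroupOf M) (hT.comap_of_injective M.subtype M.subtype_injective)
    rw [h, le_bot_iff, Subgroup.subgroupOf_eq_bot, disjoint_iff, inf_eq_left.2 hTM] at this
    exact hT1 this
  set Q := Cfsg.pCore 2 ↥M with hQ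
  have hQp : IsPGroup 2 ↥Q := Cfsg.Lib.Core.pCore_isPGroup 2 _
  haveI : Nontrivial ↥Q := (Subgroup.nontrivial_iff_ne_bot _).2 hQne
  haveI := hQp.center_nontrivial
  obtain ⟨k1, hk1, hk1'⟩ := (hQp.to_subgroup (Subgroup.center ↥Q)).nontrivial_iff_card.1 inferInstance
  obtain ⟨x1, hx1⟩ := exists_prime_orderOf_dvd_card' (G := ↥(Subgroup.center ↥Q)) 2 (hk1' ▸ dvd_pow_self 2 (by omega))
  haveI hcyc' : IsCyclic ↥(Subgroup.center ↥Q) := hcyc
  have huniq : ∀ a : ↥(Subgroup.center ↥Q), a ^ 2 = 1 → a = 1 ∨ a = x1 := by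
    intro a ha
    letI := Fintype.ofFinite ↥(Subgroup.center ↥Q)
    by_contra hne
    push Not at hne
    have h1 := IsCyclic.card_pow_eq_one_le (α := ↥(Subgroup.center ↥Q)) (n := 2) two_pos
    have hx1ne : x1 ≠ 1 := fun h => by rw [h, orderOf_one] at hx1; omega
    have hsub : ({1, a, x1} : Finset ↥(Subgroup.center ↥Q)) ⊆ Finset.univ.filter fun b => b ^ 2 = 1 := by
      intro b hb
      simp only [Finset.mem_insert, Finset.mem_singleton] at hb
      rw [Finset.mem_filter]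
      refine ⟨Finset.mem_univ _, ?_⟩
      rcases hb with rfl | rfl | rfl
      · exact one_pow _
      · exact ha
      · rw [← hx1]; exact pow_orderOf_eq_one _
    have h3 := (Finset.card_le_card hsub).trans h1
    rw [Finset.card_eq_three.2 ⟨1, a, x1, hne.1.symm, hx1ne.symm, hne.2, rfl⟩] at h3
    omega
  set xM : ↥M := ((x1 : ↥Q) : ↥M) with hxM
  set x : G := (xM : G) with hx
  have hxo : orderOf x = 2 := by rw [hx, hxM, Subgroup.orderOf_coe, Subgroup.orderOf_coe, Subgroup.orderOf_coe, hx1]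
  have hxMc : ∀ m : ↥M, m * xM = xM * m := by
    intro m
    have hcQ : m * xM * m⁻¹ ∈ Q := (inferInstance : Q.Normal).conj_mem _ (x1 : ↥Q).2 m
    have hcen : (⟨m * xM * m⁻¹, hcQ⟩ : ↥Q) ∈ Subgroup.center ↥Q := by
      rw [Subgroup.mem_center_iff]
      intro q
      apply Subtype.ext
      have hq : m⁻¹ * (q : ↥M) * m ∈ Q := by
        have := (inferInstance : Q.Normal).conj_mem _ q.2 m⁻¹; rwa [inv_inv] at this
      have h1 : (m⁻¹ * (q : ↥M) * m) * xM = xM * (m⁻¹ * (q : ↥M) * m) :=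
        congrArg Subtype.val (Subgroup.mem_center_iff.1 x1.2 ⟨_, hq⟩)
      show (q : ↥M) * (m * xM * m⁻¹) = (m * xM * m⁻¹) * q
      calc (q : ↥M) * (m * xM * m⁻¹) = m * ((m⁻¹ * (q : ↥M) * m) * xM) * m⁻¹ := by group
        _ = m * (xM * (m⁻¹ * (q : ↥M) * m)) * m⁻¹ := by rw [h1]
        _ = _ := by group
    have hsq : (⟨⟨m * xM * m⁻¹, hcQ⟩, hcen⟩ : ↥(Subgroup.center ↥Q)) ^ 2 = 1 := by
      apply Subtype.ext; apply Subtype.ext
      show (m * xM * m⁻¹) ^ 2 = 1
      have hxx : xM ^ 2 = 1 := by rw [← hxo, hx, Subgroup.orderOf_coe]; exact pow_orderOf_eq_one _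
      rw [conj_pow, hxx]; group
    rcases huniq _ hsq with h | h
    · exfalso
      have h' : m * xM * m⁻¹ = 1 := congrArg (fun a : ↥(Subgroup.center ↥Q) => ((a : ↥Q) : ↥M)) h
      have : xM = 1 := by
        calc xM = m⁻¹ * (m * xM * m⁻¹) * m := by group
          _ = 1 := by rw [h']; group
      rw [hx, this, Subgroup.coe_one, orderOf_one] at hxo; omega
    · have h' : m * xM * m⁻¹ = xM := congrArg (fun a : ↥(Subgroup.center ↥Q) => ((a : ↥Q) : ↥M)) h
      exact mul_inv_eq_iff_eq_mul.1 h'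
  have hCxM : Subgroup.centralizer ({x} : Set G) = M := by
    refine (hMloc.2 _ ⟨Subgroup.zpowers x, IsPGroup.of_card (n := 1) (by rw [Nat.card_zpowers, hxo, pow_one]), ?_, ?_⟩ ?_)
    · rw [Ne, Subgroup.zpowers_eq_bot]; intro h; rw [h, orderOf_one] at hxo; omega
    · exact (normalizer_zpowers hxo).symm
    · intro m hm
      exact Subgroup.mem_centralizer_singleton_iff.2 (congrArg Subtype.val (hxMc ⟨m, hm⟩))
  -- `C(z)` is constrained with trivial odd core
  set X := Subgroup.centralizer ({z} : Set G) with hX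
  have hXcon : Cfsg.IsPConstrained 2 ↥X := by
    rw [hX, ← normalizer_zpowers hzo]
    exact hcon _ (IsPGroup.of_card (n := 1) (by rw [Nat.card_zpowers, hzo, pow_one]))
      (by rw [Ne, Subgroup.zpowers_eq_bot]; intro h; rw [h, orderOf_one] at hzo; omega)
  have hSX : (S : Subgroup G) ≤ X := fun s hs => Subgroup.mem_centralizer_singleton_iff.2 (hzc s hs)
  have hOX : Cfsg.pPrimeCore 2 ↥X = ⊥ := by
    have h1 := hinv ((Cfsg.pPrimeCore 2 ↥X).map X.subtype) ?_ (hSX.trans (Cfsg.Lib.Sig.normalizer_le_normalizer_map_pPrimeCore X))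
    · rwa [Subgroup.map_eq_bot_iff_of_injective _ X.subtype_injective] at h1
    · rw [Subgroup.card_map_of_injective X.subtype_injective]
      exact Nat.coprime_two_right.1 (Cfsg.Lib.Core.pPrimeCore_coprime 2 _)
  -- inside `M`
  have hzN : z ∈ N := Subgroup.le_normalizer hzE
  set zM : ↥M := ⟨z, hNM hzN⟩ with hzM
  set O := Cfsg.pPrimeCore 2 ↥M with hO
  have hOc : (Nat.card ↥O).Coprime 2 := Cfsg.Lib.Core.pPrimeCore_coprime 2 _
  have hfix : ∀ y ∈ O, zM * y = y * zM → y = 1 := by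
    intro y hy hc
    set R : Subgroup G := O.map M.subtype ⊓ X with hR
    have hyR : (y : G) ∈ R := ⟨⟨y, hy, rfl⟩, Subgroup.mem_centralizer_singleton_iff.2 (congrArg Subtype.val hc).symm⟩
    have hRc : (Nat.card ↥R).Coprime 2 := Nat.Coprime.coprime_dvd_left
      ((Subgroup.card_dvd_of_le inf_le_left).trans (Subgroup.card_map_dvd _ _)) hOc
    have hxX : x ∈ X := Subgroup.mem_centralizer_singleton_iff.2
      (congrArg Subtype.val (hxMc zM) : z * x = x * z).symm
    have hRM : O.map M.subtype ≤ M := Subgroup.map_subtype_le _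
    have h := Cfsg.Lib.Sig.le_pPrimeCore_of_centralizes hXcon (P := (Subgroup.zpowers x).subgroupOf X)
      (Q := R.subgroupOf X)
      ((IsPGroup.of_card (n := 1) (by rw [Nat.card_zpowers, hxo, pow_one]) : IsPGroup 2 ↥(Subgroup.zpowers x)).comap_of_injective X.subtype X.subtype_injective)
      (by rwa [Nat.card_congr (Subgroup.subgroupOfEquivOfLe (inf_le_right : R ≤ X)).toEquiv]) ?_ ?_
    · have h2 : (⟨(y : G), hyR.2⟩ : ↥X) ∈ Cfsg.pPrimeCore 2 ↥X := h (Subgroup.mem_subgroupOf.2 hyR)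
      rw [hOX, Subgroup.mem_bot] at h2
      exact Subtype.ext (congrArg Subtype.val h2 : (y : G) = 1)
    · intro r hr
      refine Subgroup.mem_centralizer_iff.2 fun u hu => Subtype.ext ?_
      have h1 : (r : G) ∈ Subgroup.centralizer ({x} : Set G) := hCxM.symm ▸ hRM (Subgroup.mem_subgroupOf.1 hr).1
      obtain ⟨i, hi⟩ := Subgroup.mem_zpowers_iff.1 (Subgroup.mem_subgroupOf.1 hu)
      show (u : G) * r = r * u
      rw [← hi]
      exact ((show Commute (r : G) x from Subgroup.mem_centralizer_singleton_iff.1 h1).zpow_right i).eq.symm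
    · intro u hu
      have huM : (u : G) ∈ M := hCxM ▸ Subgroup.mem_centralizer_singleton_iff.2
        (congrArg Subtype.val (Subgroup.mem_centralizer_iff.1 hu ⟨x, hxX⟩ (Subgroup.mem_subgroupOf.2 (Subgroup.mem_zpowers x)))).symm
      have hstab : ∀ v : ↥X, (v : G) ∈ M → ∀ r ∈ R.subgroupOf X, v * r * v⁻¹ ∈ R.subgroupOf X := by
        intro v hv r hr
        rw [Subgroup.mem_subgroupOf] at hr ⊢
        obtain ⟨o, ho, he⟩ := hr.1
        refine ⟨⟨⟨v, hv⟩ * o * ⟨v, hv⟩⁻¹, (inferInstance : O.Normal).conj_mem _ ho _, ?_⟩, (v * r * v⁻¹).2⟩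
        simp [← he]
      rw [Subgroup.mem_normalizer_iff]
      refine fun r => ⟨hstab u huM r, fun hr => ?_⟩
      have := hstab u⁻¹ (by simpa using M.inv_mem huM) _ hr
      simpa [mul_assoc] using this
  -- `z` and its `N`-conjugates invert `O`
  have hzz' : zM * zM = 1 := Subtype.ext hzz
  let φ : ↥O →* ↥O :=
    { toFun := fun y => ⟨zM * y * zM⁻¹, (inferInstance : O.Normal).conj_mem _ y.2 _⟩
      map_one' := Subtype.ext (show zM * 1 * zM⁻¹ = 1 by group)
      map_mul' := fun a b => Subtype.ext (show zM * (a * b : ↥M) * zM⁻¹ = zM * a * zM⁻¹ * (zM * b * zM⁻¹) by group) }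
  have hinvert : ∀ y : ↥M, y ∈ O → zM * y * zM⁻¹ = y⁻¹ := by
    intro y hy
    have hff : MonoidHom.FixedPointFree φ := fun a ha => Subtype.ext (hfix a a.2 (mul_inv_eq_iff_eq_mul.1 (congrArg Subtype.val ha)))
    have hinvol : Function.Involutive φ := fun a => Subtype.ext (by
      show zM * (zM * a * zM⁻¹) * zM⁻¹ = a
      calc _ = zM * zM * a * (zM * zM)⁻¹ := by group
        _ = a := by rw [hzz']; group)
    exact congrArg Subtype.val (congrFun (hff.coe_eq_inv_of_involutive hinvol) ⟨y, hy⟩)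
  -- work modulo `O`
  set q := QuotientGroup.mk' O with hq
  set P := Cfsg.pCore 2 (↥M ⧸ O) with hP
  have hPp : IsPGroup 2 ↥P := Cfsg.Lib.Core.pCore_isPGroup 2 _
  have hEM : E ≤ M := Subgroup.le_normalizer.trans hNM
  set EM := E.subgroupOf M with hEMdef
  have hEMp : IsPGroup 2 ↥EM := hEp.comap_of_injective M.subtype M.subtype_injective
  set F := EM.map q with hF
  have hFp : IsPGroup 2 ↥F := hEMp.map q
  have hnorm : ∀ u : ↥M, q u ∈ P → (u : G) ∈ N → q u ∈ F := by
    intro u hu huN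
    set NM := N.subgroupOf M
    let j : ↥N →* ↥M := Subgroup.inclusion hNM
    set H : Subgroup ↥N := P.comap (q.comp j) with hH
    haveI : H.Normal := Subgroup.Normal.comap inferInstance _
    set W := Cfsg.pPrimeCore 2 ↥N with hW
    have hker : O.comap j ≤ W := by
      refine Cfsg.Lib.Core.le_pPrimeCore' (Subgroup.Normal.comap inferInstance _) ?_
      refine Nat.Coprime.coprime_dvd_left ?_ hOc
      exact Subgroup.card_dvd_of_injective
        ((j.comp (O.comap j).subtype).codRestrict O fun a => a.2)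
        (fun a b h => Subtype.ext (Subgroup.inclusion_injective hNM (congrArg Subtype.val h)))
    have hHW : IsPGroup 2 ↥(H.map (QuotientGroup.mk' W)) := by
      rintro ⟨_, h, hh, rfl⟩
      obtain ⟨k, hk⟩ := hPp ⟨q (j h), hh⟩
      refine ⟨k, Subtype.ext ?_⟩
      show (QuotientGroup.mk' W h) ^ 2 ^ k = 1
      rw [← map_pow, QuotientGroup.mk'_apply, QuotientGroup.eq_one_iff]
      refine hker ?_
      rw [Subgroup.mem_comap, map_pow, ← QuotientGroup.eq_one_iff (N := O), ← QuotientGroup.mk'_apply, map_pow]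
      exact congrArg Subtype.val hk
    have huU : (⟨u, huN⟩ : ↥N) ∈ Cfsg.pPrimePCore 2 ↥N := by
      rw [Cfsg.pPrimePCore, Subgroup.mem_comap]
      haveI := Subgroup.Normal.map (inferInstance : H.Normal) _ (QuotientGroup.mk'_surjective W)
      exact Cfsg.Lib.Core.le_pCore hHW ⟨⟨u, huN⟩, hu, rfl⟩
    have huU' : (u : G) ∈ (Cfsg.pPrimePCore 2 ↥N).map N.subtype := ⟨_, huU, rfl⟩
    rw [← hEW.2.2.2.2] at huU'
    have hWN : E ≤ Subgroup.normalizer (((Cfsg.pPrimeCore 2 ↥N).map N.subtype : Subgroup G) : Set G) :=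
      Subgroup.le_normalizer.trans (Cfsg.Lib.Sig.normalizer_le_normalizer_map_pPrimeCore N)
    rw [sup_comm] at huU'
    obtain ⟨e, he, w, hw, hewu⟩ := (Cfsg.Lib.Core.mem_sup_of_le_normalizer hWN).1 huU'
    obtain ⟨wN, hwN, rfl⟩ := hw
    have hcomm : (wN : G) * e = e * wN := hEW.2.2.1 _ ⟨wN, hwN, rfl⟩ e he
    have hqe : q ⟨e, hEM he⟩ ∈ F := ⟨_, Subgroup.mem_subgroupOf.2 he, rfl⟩
    have hqw : q ⟨wN, hNM wN.2⟩ = 1 := by
      obtain ⟨a, ha⟩ := hPp ⟨q u, hu⟩
      obtain ⟨b, hb⟩ := hFp ⟨_, hqe⟩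
      obtain ⟨c, hc, hcd⟩ : ∃ c, Odd c ∧ q ⟨wN, hNM wN.2⟩ ^ c = 1 := by
        refine ⟨orderOf wN, ?_, ?_⟩
        · have h1 : (orderOf wN).Coprime 2 := Nat.Coprime.coprime_dvd_left
            (by rw [← Subgroup.orderOf_mk wN hwN]; exact orderOf_dvd_natCard _) (Cfsg.Lib.Core.pPrimeCore_coprime 2 ↥N)
          exact Nat.coprime_two_right.1 h1
        · rw [← map_pow]
          rw [show (⟨wN, hNM wN.2⟩ : ↥M) ^ orderOf wN = 1 from Subtype.ext (show (wN : G) ^ orderOf wN = 1 by rw [← SubmonoidClass.coe_pow, pow_orderOf_eq_one]; rfl), map_one]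
      have hu2 : u = (⟨e, hEM he⟩ : ↥M) * ⟨wN, hNM wN.2⟩ := Subtype.ext hewu.symm
      have hcm : Commute (q (⟨e, hEM he⟩ : ↥M)) (q ⟨wN, hNM wN.2⟩) := by
        rw [Commute, SemiconjBy, ← map_mul, ← map_mul]; exact congrArg q (Subtype.ext hcomm.symm)
      have h2 : q ⟨wN, hNM wN.2⟩ ^ (2 ^ (a + b)) = 1 := by
        have ha' : (q u) ^ 2 ^ a = 1 := congrArg Subtype.val ha
        have hb' : (q ⟨e, hEM he⟩) ^ 2 ^ b = 1 := congrArg Subtype.val hb
        have h3 : (q u) ^ 2 ^ (a + b) = 1 := by rw [pow_add, pow_mul, ha', one_pow]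
        rw [hu2, map_mul, hcm.mul_pow] at h3
        rwa [show q ⟨e, hEM he⟩ ^ 2 ^ (a + b) = 1 by rw [pow_add, mul_comm, pow_mul, hb', one_pow], one_mul] at h3
      exact orderOf_eq_one_iff.1 (Nat.eq_one_of_dvd_coprimes ((Nat.coprime_two_left.2 hc).pow_left (a + b))
        (orderOf_dvd_of_pow_eq_one h2) (orderOf_dvd_of_pow_eq_one hcd))
    have hu2 : u = (⟨e, hEM he⟩ : ↥M) * ⟨wN, hNM wN.2⟩ := Subtype.ext hewu.symm
    rw [hu2, map_mul, hqw, mul_one]
    exact hqe
  have hPF : P ≤ F := by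
    set Y := F ⊔ P with hY
    have hYp : IsPGroup 2 ↥Y := Cfsg.Lib.Core.isPGroup_sup_of_normal hFp hPp
    by_contra hnle
    have hlt : F.subgroupOf Y < ⊤ := lt_top_iff_ne_top.2 fun h =>
      hnle (le_sup_right.trans (Subgroup.subgroupOf_eq_top.1 h))
    haveI := hYp.isNilpotent
    obtain ⟨y, hyn, hyF⟩ := SetLike.exists_of_lt (normalizerCondition_of_isNilpotent _ hlt)
    obtain ⟨f, hf, p', hp', hfp⟩ := Subgroup.mem_sup_of_normal_right.1 y.2
    have hyN : (y : ↥M ⧸ O) ∈ Subgroup.normalizer (F : Set (↥M ⧸ O)) := by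
      have hFY : F ≤ Y := le_sup_left
      rw [Subgroup.mem_normalizer_iff]
      intro t
      constructor
      · intro ht
        exact Subgroup.mem_subgroupOf.1 ((Subgroup.mem_normalizer_iff.1 hyn ⟨t, hFY ht⟩).1 (Subgroup.mem_subgroupOf.2 ht))
      · intro ht
        have htY : t ∈ Y := by
          have := Y.mul_mem (Y.mul_mem (Y.inv_mem y.2) (hFY ht)) y.2
          simpa [mul_assoc] using this
        exact Subgroup.mem_subgroupOf.1 ((Subgroup.mem_normalizer_iff.1 hyn ⟨t, htY⟩).2 (Subgroup.mem_subgroupOf.2 ht))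
    have hpN : p' ∈ Subgroup.normalizer (F : Set (↥M ⧸ O)) := by
      have := mul_mem (inv_mem (Subgroup.le_normalizer hf)) hyN
      rwa [← hfp, inv_mul_cancel_left] at this
    obtain ⟨u, rfl⟩ := QuotientGroup.mk'_surjective O p'
    obtain ⟨n, hn, hnu⟩ := exists_lift O hOc hEMp hpN
    have hq' : q (n⁻¹ * u) = q u := by
      rw [map_mul, map_inv, show q n = 1 from (QuotientGroup.eq_one_iff n).2 hn, inv_one, one_mul]
    have hin : ((n⁻¹ * u : ↥M) : G) ∈ N := by
      rw [hN, Subgroup.mem_normalizer_iff]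
      intro t
      constructor
      · intro ht
        exact Subgroup.mem_subgroupOf.1 ((Subgroup.mem_normalizer_iff.1 hnu ⟨t, hEM ht⟩).1 (Subgroup.mem_subgroupOf.2 ht))
      · intro ht
        have htM : t ∈ M := by
          have := M.mul_mem (M.mul_mem (M.inv_mem (n⁻¹ * u : ↥M).2) (hEM ht)) (n⁻¹ * u : ↥M).2
          simpa [mul_assoc] using this
        exact Subgroup.mem_subgroupOf.1 ((Subgroup.mem_normalizer_iff.1 hnu ⟨t, htM⟩).2 (Subgroup.mem_subgroupOf.2 ht))
    have hFu := hnorm (n⁻¹ * u) (by rw [hq']; exact hp') hin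
    refine hyF (Subgroup.mem_subgroupOf.2 ?_)
    rw [← hfp]
    exact mul_mem hf (hq' ▸ hFu)
  -- the conjugates of `z` lie in the centre of `P`
  have hEzc : ∀ e ∈ E, e * z = z * e := fun e he => hzc e (hES he)
  have hconj : ∀ n : G, ∀ hn : n ∈ N, n * z * n⁻¹ ∈ E ∧ (∀ e ∈ E, e * (n * z * n⁻¹) = (n * z * n⁻¹) * e) := by
    intro n hn
    refine ⟨(Subgroup.mem_normalizer_iff.1 hn z).1 hzE, fun e he => ?_⟩
    have he' : n⁻¹ * e * n ∈ E := by
      have := (Subgroup.mem_normalizer_iff.1 (inv_mem hn) e).1 he; rwa [inv_inv] at this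
    calc e * (n * z * n⁻¹) = n * ((n⁻¹ * e * n) * z) * n⁻¹ := by group
      _ = n * (z * (n⁻¹ * e * n)) * n⁻¹ := by rw [hEzc _ he']
      _ = _ := by group
  have hzP : ∀ v : ↥M, (v : G) ∈ E → (∀ e ∈ E, e * (v : G) = v * e) → q v ∈ P ∧ ∀ w ∈ P, w * q v = q v * w := by
    intro v hv hvc
    have hcF : ∀ w ∈ F, w * q v = q v * w := by
      rintro _ ⟨e, he, rfl⟩
      rw [← map_mul, ← map_mul]
      exact congrArg q (Subtype.ext (hvc _ (Subgroup.mem_subgroupOf.1 he)))
    refine ⟨?_, fun w hw => hcF w (hPF hw)⟩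
    exact Cfsg.Lib.Sig.isPConstrained_iff.1 hMcon (Subgroup.mem_centralizer_iff.2 fun w hw => hcF w (hPF hw))
  have hbin : ∀ n ∈ N, n * z * n⁻¹ = z ∨ n * z * n⁻¹ = x * z := by
    intro n hn
    set nM : ↥M := ⟨n, hNM hn⟩ with hnM
    obtain ⟨hz'E, hz'c⟩ := hconj n hn
    set z' : ↥M := nM * zM * nM⁻¹ with hz'
    have hz'G : (z' : G) = n * z * n⁻¹ := rfl
    have h1 := hzP zM hzE hEzc
    have h2 := hzP z' hz'E hz'c
    set u := z' * zM with hu
    have huP : q u ∈ P := by rw [hu, map_mul]; exact mul_mem h2.1 h1.1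
    have huC : ∀ y ∈ O, u * y = y * u := by
      intro y hy
      have hy' : nM⁻¹ * y * nM ∈ O := by
        have := (inferInstance : O.Normal).conj_mem _ hy nM⁻¹; rwa [inv_inv] at this
      have e1 := hinvert _ hy'
      have e2 : z' * y * z'⁻¹ = y⁻¹ := by
        calc z' * y * z'⁻¹ = nM * (zM * (nM⁻¹ * y * nM) * zM⁻¹) * nM⁻¹ := by rw [hz']; group
          _ = nM * (nM⁻¹ * y * nM)⁻¹ * nM⁻¹ := by rw [e1]
          _ = y⁻¹ := by group
      have e3 : u * y * u⁻¹ = y := by
        calc u * y * u⁻¹ = z' * (zM * y * zM⁻¹) * z'⁻¹ := by rw [hu]; group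
          _ = z' * y⁻¹ * z'⁻¹ := by rw [hinvert y hy]
          _ = (z' * y * z'⁻¹)⁻¹ := by group
          _ = y := by rw [e2, inv_inv]
      exact mul_inv_eq_iff_eq_mul.1 e3
    -- `u` lies in `Z(O₂(M))`
    set K : Subgroup ↥M := P.comap q ⊓ Subgroup.centralizer (O : Set ↥M) with hK
    have huK : u ∈ K := ⟨huP, Subgroup.mem_centralizer_iff.2 fun y hy => (huC y hy).symm⟩
    have hu2 : (u : G) ^ 2 = 1 := by
      have hcm : Commute (z' : G) z := (show Commute z (n * z * n⁻¹) from hz'c z hzE).symm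
      show ((z' : G) * z) ^ 2 = 1
      rw [hcm.mul_pow, hz'G, conj_pow, pow_two, hzz]
      group
    by_cases hne' : u = 1
    · left
      have h' : (z' : G) * z = 1 := congrArg Subtype.val hne'
      rw [← hz'G, eq_inv_of_mul_eq_one_left h', inv_eq_of_mul_eq_one_right hzz]
    have huQ : u ∈ Q := by
      haveI : (Subgroup.centralizer (O : Set ↥M)).Normal := Subgroup.normal_centralizer
      haveI : K.Normal := inferInstance
      let f : ↥K →* ↥M ⧸ O := q.comp K.subtype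
      have hker : f.ker ≤ Subgroup.center ↥K := by
        intro a ha
        have haO : (a : ↥M) ∈ O := (QuotientGroup.eq_one_iff _).1 (MonoidHom.mem_ker.1 ha)
        rw [Subgroup.mem_center_iff]
        exact fun b => Subtype.ext (Subgroup.mem_centralizer_iff.1 b.2.2 (a : ↥M) haO).symm
      have hnil : Group.IsNilpotent ↥K := by
        have hfr : IsPGroup 2 ↥f.range := hPp.to_le (by rintro _ ⟨a, rfl⟩; exact a.2.1)
        haveI := hfr.isNilpotent
        refine Subgroup.isNilpotent_of_ker_le_center f.rangeRestrict (by rwa [MonoidHom.ker_rangeRestrict])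
      obtain ⟨R, hR⟩ := (IsPGroup.of_card (n := 1) (p := 2) (G := ↥(Subgroup.zpowers (⟨u, huK⟩ : ↥K))) (by
        rw [Nat.card_zpowers, pow_one]
        refine orderOf_eq_prime (Subtype.ext (Subtype.ext hu2)) ?_
        intro h
        have h' : u = 1 := congrArg Subtype.val h
        exact hne' h')).exists_le_sylow
      haveI hRn : (R : Subgroup ↥K).Normal := inferInstance
      exact Cfsg.Lib.Core.pCore_map_le_of_isSubnormal (p := 2) (H := K) (inferInstance : K.Normal).isSubnormal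
        ⟨⟨u, huK⟩, Cfsg.Lib.Core.le_pCore R.isPGroup' (hR (Subgroup.mem_zpowers _)), rfl⟩
    have huZ : (⟨u, huQ⟩ : ↥Q) ∈ Subgroup.center ↥Q := by
      rw [Subgroup.mem_center_iff]
      intro r
      apply Subtype.ext
      show (r : ↥M) * u = u * r
      have hrP : q r ∈ P := Cfsg.Lib.Core.map_pCore_le q (QuotientGroup.mk'_surjective O) (Subgroup.mem_map_of_mem q r.2)
      have h3 : q ((r : ↥M) * u * (r : ↥M)⁻¹ * u⁻¹) = 1 := by
        have hc' : q r * q u = q u * q r := by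
          rw [hu, map_mul, ← mul_assoc, h2.2 _ hrP, mul_assoc, h1.2 _ hrP, mul_assoc]
        rw [map_mul, map_mul, map_mul, map_inv, map_inv, hc']; group
      have h4 : (r : ↥M) * u * (r : ↥M)⁻¹ * u⁻¹ ∈ Q :=
        mul_mem ((inferInstance : Q.Normal).conj_mem _ huQ _) (inv_mem huQ)
      have h5 : (r : ↥M) * u * (r : ↥M)⁻¹ * u⁻¹ = 1 := Subgroup.mem_bot.1
        (Cfsg.Lib.Core.pCore_inf_pPrimeCore (p := 2) (G := ↥M) ▸ ⟨h4, (QuotientGroup.eq_one_iff _).1 h3⟩)
      exact mul_inv_eq_iff_eq_mul.1 (mul_inv_eq_one.1 h5)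
    rcases huniq ⟨⟨u, huQ⟩, huZ⟩ (Subtype.ext (Subtype.ext (Subtype.ext hu2))) with h | h
    · left
      have h' : (z' : G) * z = 1 := congrArg (fun a : ↥(Subgroup.center ↥Q) => (((a : ↥Q) : ↥M) : G)) h
      rw [← hz'G, eq_inv_of_mul_eq_one_left h', inv_eq_of_mul_eq_one_right hzz]
    · right
      have h' : (z' : G) * z = x := congrArg (fun a : ↥(Subgroup.center ↥Q) => (((a : ↥Q) : ↥M) : G)) h
      rw [← hz'G, ← h', mul_assoc, hzz, mul_one]
  -- counting
  set H := N ⊓ X with hH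
  have hidx : H.relIndex N = 2 := by
    rw [Subgroup.relIndex, Subgroup.index_eq_two_iff]
    refine ⟨⟨x0, hx0N⟩, fun b => ?_⟩
    have hx0' : x0 * z * x0⁻¹ = x * z := (hbin x0 hx0N).resolve_left fun h =>
      hx0 (mul_inv_eq_iff_eq_mul.1 h)
    have hmem : ∀ a : ↥N, a ∈ H.subgroupOf N ↔ (a : G) * z * (a : G)⁻¹ = z := fun a => by
      rw [Subgroup.mem_subgroupOf, hH, Subgroup.mem_inf, Subgroup.mem_centralizer_singleton_iff, mul_inv_eq_iff_eq_mul]
      exact ⟨fun h => h.2, fun h => ⟨a.2, h⟩⟩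
    have hbN : (b : G) ∈ M := hNM b.2
    have hbx : (b : G) * x = x * b := congrArg Subtype.val (hxMc ⟨b, hbN⟩)
    have key : ((b * ⟨x0, hx0N⟩ : ↥N) : G) * z * ((b * ⟨x0, hx0N⟩ : ↥N) : G)⁻¹ = x * ((b : G) * z * (b : G)⁻¹) := by
      calc _ = (b : G) * (x0 * z * x0⁻¹) * (b : G)⁻¹ := by simp only [Subgroup.coe_mul]; group
        _ = (b : G) * x * z * (b : G)⁻¹ := by rw [hx0']; group
        _ = x * b * z * (b : G)⁻¹ := by rw [hbx]
        _ = _ := by group
    have hxz : x * z ≠ z := fun h => by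
      rw [mul_eq_right] at h; rw [h, orderOf_one] at hxo; omega
    rcases hbin _ b.2 with h | h
    · refine Or.inr ⟨(hmem b).2 h, fun hb => ?_⟩
      rw [hmem, key, h] at hb
      exact hxz hb
    · refine Or.inl ⟨?_, fun hb => ?_⟩
      · rw [hmem, key, h, ← mul_assoc, ← pow_two, show x ^ 2 = 1 by rw [← hxo]; exact pow_orderOf_eq_one x, one_mul]
      · rw [hmem, h] at hb
        exact hxz hb
  apply hEful
  have h1 : (S : Subgroup G) ⊓ N ≤ H := le_inf inf_le_right (inf_le_left.trans hSX)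
  rw [← Subgroup.relIndex_mul_relIndex ((S : Subgroup G) ⊓ N) H N h1 inf_le_left, hidx]
  exact Dvd.intro_left _ rfl

end Cfsg.Agent.S3244
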