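import Cfsg.Statements.S3246
import Mathlib
import Cfsg.Agent.Lib.ConstrainedLocal
import Cfsg.Agent.Lib.Coprime.Generation
import Cfsg.Agent.Lib.Solv.Nilpotent
import Cfsg.Agent.Lib.Invol.SylowTools
import Cfsg.Agent.Lib.Invol.Quaternion

set_option autoImplicit false
open Cfsg

namespace Cfsg.Agent.S3246


open Subgroup
open scoped commutatorElement

variable {G : Type*} [Group G] [Finite G]

theorem charTwo {M : Subgroup G} (hc : Cfsg.IsPConstrained 2 ↥M) (hO : Cfsg.oddCore ↥M = ⊥) :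
    centralizer (Cfsg.pCore 2 ↥M : Set ↥M) ≤ Cfsg.pCore 2 ↥M := by
  have := Fact.mk Nat.prime_two
  set N := Cfsg.pPrimeCore 2 ↥M with hN
  have hbot : N = ⊥ := hO
  let e : ↥M ≃* ↥M ⧸ N := (QuotientGroup.quotientBot (G := ↥M)).symm.trans (QuotientGroup.quotientMulEquivOfEq hbot.symm)
  have hlay : Cfsg.layer ↥M = ⊥ :=
    (Cfsg.Lib.ConstrainedLocal.layer_bot_congr e).2 (Cfsg.Lib.ConstrainedLocal.constrained_iff_layer.1 hc)
  rw [← Cfsg.Lib.ConstrainedLocal.fitting_eq hbot]
  exact Cfsg.Lib.Core.centralizer_fitting_le_iff_layer_eq_bot.2 hlay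

/-- The fixed points of an almost central involution on an invariant odd subgroup are trivial. -/
theorem inf_centralizer_bot (S : Sylow 2 G) {X : Subgroup G} (hX : Odd (Nat.card ↥X))
    (hSX : (S : Subgroup G) ≤ normalizer (X : Set G)) (e : G)
    (hidx : Nat.card ↥(S : Subgroup G) ≤ 2 * Nat.card ↥((S : Subgroup G) ⊓ centralizer ({e} : Set G)))
    {M : Subgroup G} (hCM : centralizer ({e} : Set G) ≤ M)
    (hC : centralizer (Cfsg.pCore 2 ↥M : Set ↥M) ≤ Cfsg.pCore 2 ↥M) :
    X ⊓ centralizer ({e} : Set G) = ⊥ := by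
  have := Fact.mk Nat.prime_two
  set T := (S : Subgroup G) ⊓ centralizer ({e} : Set G) with hT
  set Q := X ⊓ centralizer ({e} : Set G) with hQ
  have hTM : T ≤ M := inf_le_right.trans hCM
  have hQM : Q ≤ M := inf_le_right.trans hCM
  set R := (Cfsg.pCore 2 ↥M).map M.subtype with hR
  have hRp : IsPGroup 2 ↥R := (Cfsg.Lib.Core.pCore_isPGroup 2 ↥M).map _
  have hMR : M ≤ normalizer (R : Set G) :=
    le_normalizer.trans (Cfsg.Lib.Core.normalizer_le_normalizer_map_char (H := M) (Cfsg.pCore 2 ↥M))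
  have hTQ : T ≤ normalizer (Q : Set G) := fun t ht => by
    have h2 : t ∈ centralizer ({e} : Set G) := ht.2
    refine mem_normalizer_iff.2 fun u => ?_
    show u ∈ X ∧ u ∈ centralizer ({e} : Set G) ↔ t * u * t⁻¹ ∈ X ∧ t * u * t⁻¹ ∈ centralizer ({e} : Set G)
    exact and_congr (mem_normalizer_iff.1 (hSX ht.1) u) (mem_normalizer_iff.1 (le_normalizer h2) u)
  have hcop : (Nat.card ↥Q).Coprime (Nat.card ↥R) := by
    obtain ⟨k, hk⟩ := hRp.exists_card_eq
    rw [hk]
    exact (Nat.coprime_two_right.2 (hX.of_dvd_nat (card_dvd_of_le inf_le_left))).pow_right k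
  set R0 := R ⊓ T with hR0
  have hcent : ⁅R0, Q⁆ = ⊥ := by
    rw [eq_bot_iff]
    refine commutator_le.2 fun r hr q hq => ?_
    have h1 : ⁅r, q⁆ ∈ Q := by
      rw [commutatorElement_def]; exact Q.mul_mem ((mem_normalizer_iff.1 (hTQ hr.2) q).1 hq) (Q.inv_mem hq)
    have h2 : ⁅r, q⁆ ∈ R := by
      rw [commutatorElement_def, mul_assoc, mul_assoc]
      refine R.mul_mem hr.1 ?_
      rw [← mul_assoc]
      exact (mem_normalizer_iff.1 (hMR (hQM hq)) _).1 (R.inv_mem hr.1)
    exact mem_bot.2 (Subgroup.disjoint_def.1 (Cfsg.Lib.Coprime.disjoint_of_coprime_card hcop) h1 h2)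
  have hidx2 : R0.relIndex R ≤ 2 := by
    obtain ⟨S1, hS1⟩ := ((S.isPGroup'.to_le (inf_le_left : T ≤ (S : Subgroup G))).comap_of_injective M.subtype M.subtype_injective :
      IsPGroup 2 ↥(T.subgroupOf M)).exists_le_sylow
    set S1' := (S1 : Subgroup ↥M).map M.subtype with hS1'
    have hTS1 : T ≤ S1' := fun t ht => ⟨⟨t, hTM ht⟩, hS1 (mem_subgroupOf.2 ht), rfl⟩
    have hRS1 : R ≤ S1' := map_mono (Cfsg.Lib.Core.pCore_le_sylow S1)
    obtain ⟨S2, hS2⟩ := (S1.isPGroup'.map M.subtype : IsPGroup 2 ↥S1').exists_le_sylow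
    have hle : Nat.card ↥S1' ≤ Nat.card ↥(S : Subgroup G) := by
      rw [Nat.card_congr (Sylow.equiv S S2).toEquiv]
      exact Nat.le_of_dvd Nat.card_pos (card_dvd_of_le hS2)
    have h2 : T.relIndex S1' ≤ 2 := by
      have h3 := Cfsg.Lib.Core.card_mul_relIndex hTS1
      exact Nat.le_of_mul_le_mul_left (by rw [h3]; exact hle.trans (hidx.trans (Nat.mul_comm _ _).le)) Nat.card_pos
    rw [hR0, inf_relIndex_left]
    exact (relIndex_le_of_le_right hRS1 Subgroup.index_ne_zero_of_finite).trans h2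
  have hRQn : Q ≤ normalizer (R : Set G) := hQM.trans hMR
  have hall : ⁅R, Q⁆ = ⊥ := by
    refine Cfsg.Lib.Coprime.commutator_eq_bot_of_stabilizes hRQn hcop ?_ ?_ hcent
    · right
      haveI := hRp.isNilpotent
      infer_instance
    · rcases Nat.lt_or_ge (R0.relIndex R) 2 with h | h
      · have h1 : R0.relIndex R = 1 := by
          have h0 : R0.relIndex R ≠ 0 := Subgroup.index_ne_zero_of_finite
          omega
        exact (Cfsg.Lib.Coprime.commutator_le_of_le_normalizer hRQn).trans (relIndex_eq_one.1 h1)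
      have hi : (R0.subgroupOf R).index = 2 := le_antisymm hidx2 h
      refine commutator_le.2 fun r hr q hq => ?_
      by_cases hr0 : r ∈ R0
      · rw [show ⁅r, q⁆ = 1 from (eq_bot_iff_forall _).1 hcent _ (commutator_mem_commutator hr0 hq)]
        exact R0.one_mem
      have hcR : q * r⁻¹ * q⁻¹ ∈ R := (mem_normalizer_iff.1 (hRQn hq) _).1 (R.inv_mem hr)
      have hc0 : q * r⁻¹ * q⁻¹ ∉ R0 := by
        intro hm
        apply hr0
        have h1 : ⁅q * r⁻¹ * q⁻¹, q⁻¹⁆ = 1 :=
          (eq_bot_iff_forall _).1 hcent _ (commutator_mem_commutator hm (Q.inv_mem hq))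
        rw [commutatorElement_eq_one_iff_mul_comm] at h1
        have h2 : r⁻¹ = q * r⁻¹ * q⁻¹ := by
          calc r⁻¹ = q⁻¹ * (q * r⁻¹ * q⁻¹) * q := by group
            _ = (q * r⁻¹ * q⁻¹) * q⁻¹ * q := by rw [h1]
            _ = _ := by group
        exact inv_mem_iff.1 (h2 ▸ hm)
      have key : ((⟨r, hr⟩ : ↥R) * ⟨q * r⁻¹ * q⁻¹, hcR⟩ ∈ R0.subgroupOf R) := by
        rw [mul_mem_iff_of_index_two hi, mem_subgroupOf, mem_subgroupOf]
        exact iff_of_false hr0 hc0
      rw [mem_subgroupOf] at key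
      rwa [commutatorElement_def, show r * q * r⁻¹ * q⁻¹ = r * (q * r⁻¹ * q⁻¹) by group]
  rw [eq_bot_iff_forall]
  intro q hq
  have h1 : (⟨q, hQM hq⟩ : ↥M) ∈ centralizer (Cfsg.pCore 2 ↥M : Set ↥M) := mem_centralizer_iff.2 fun r hr =>
    Subtype.ext (commutatorElement_eq_one_iff_mul_comm.1
      ((eq_bot_iff_forall _).1 hall _ (commutator_mem_commutator ⟨r, hr, rfl⟩ hq)))
  exact Subgroup.disjoint_def.1 (Cfsg.Lib.Coprime.disjoint_of_coprime_card hcop) hq ⟨_, hC h1, rfl⟩

/-- A normal four-group inside a normal abelian subgroup. -/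
theorem exists_four {P : Type*} [Group P] [Finite P] (hP : IsPGroup 2 P) {A : Subgroup P} [A.Normal]
    (hA : IsMulCommutative ↥A) (hA3 : ¬ Cfsg.PRankLE 2 2 ↥A) :
    ∃ V : Subgroup P, IsMulCommutative ↥V ∧ ¬ IsCyclic ↥V ∧ IsPGroup 2 ↥V ∧
      ∀ v ∈ V, v ≠ 1 → orderOf v = 2 ∧ Nat.card P ≤ 2 * Nat.card ↥(centralizer ({v} : Set P)) := by
  have := Fact.mk Nat.prime_two
  haveI := hP.isNilpotent
  have hcom : ∀ a ∈ A, ∀ b ∈ A, a * b = b * a := fun a ha b hb =>
    congrArg Subtype.val (mul_comm' (⟨a, ha⟩ : ↥A) ⟨b, hb⟩)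
  let W : Subgroup P :=
    { carrier := {a | a ∈ A ∧ a ^ 2 = 1}
      one_mem' := ⟨A.one_mem, one_pow _⟩
      mul_mem' := fun {a b} ha hb => ⟨A.mul_mem ha.1 hb.1, by
        rw [(show Commute a b from hcom a ha.1 b hb.1).mul_pow, ha.2, hb.2, one_mul]⟩
      inv_mem' := fun {a} ha => ⟨A.inv_mem ha.1, by rw [inv_pow, ha.2, inv_one]⟩ }
  haveI : W.Normal := ⟨fun a ha g => ⟨(inferInstance : A.Normal).conj_mem a ha.1 g, by
    rw [conj_pow, ha.2, mul_one, mul_inv_cancel]⟩⟩
  have hW4 : 4 < Nat.card ↥W := by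
    simp only [Cfsg.PRankLE, not_forall, not_le] at hA3
    obtain ⟨E, -, hE2, hEc⟩ := hA3
    have hle : E.map A.subtype ≤ W := by
      rintro _ ⟨x, hx, rfl⟩; exact ⟨x.2, congrArg Subtype.val (hE2 x hx)⟩
    have := Nat.le_of_dvd Nat.card_pos (card_dvd_of_le hle)
    rw [card_map_of_injective A.subtype_injective] at this
    omega
  have hWne : W ≠ ⊥ := fun h => by rw [h, card_bot] at hW4; omega
  obtain ⟨z, hz, hz1⟩ := (Subgroup.bot_or_exists_ne_one _).resolve_left (Cfsg.Lib.Solv.inf_center_ne_bot_of_isNilpotent hWne)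
  have hzo : orderOf z = 2 := orderOf_eq_prime hz.1.2 hz1
  set Z := zpowers z with hZ
  have hzc : ∀ g : P, g * z = z * g := mem_center_iff.1 hz.2
  haveI : Z.Normal := ⟨fun u hu g => by
    obtain ⟨i, rfl⟩ := hu
    show g * z ^ i * g⁻¹ ∈ Z
    rw [((show Commute g z from hzc g).zpow_right i).eq, mul_inv_cancel_right]
    exact zpow_mem (mem_zpowers z) i⟩
  have hWne' : W.map (QuotientGroup.mk' Z) ≠ ⊥ := fun h => by
    rw [Subgroup.map_eq_bot_iff, QuotientGroup.ker_mk'] at h
    have := Nat.le_of_dvd Nat.card_pos (card_dvd_of_le h)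
    rw [hZ, Nat.card_zpowers, hzo] at this
    omega
  haveI : Group.IsNilpotent (P ⧸ Z) := (hP.to_quotient Z).isNilpotent
  haveI : (W.map (QuotientGroup.mk' Z)).Normal :=
    (inferInstance : W.Normal).map _ (QuotientGroup.mk'_surjective _)
  obtain ⟨abar, hab, hab1⟩ := (Subgroup.bot_or_exists_ne_one _).resolve_left (Cfsg.Lib.Solv.inf_center_ne_bot_of_isNilpotent hWne')
  obtain ⟨a, ha, rfl⟩ := hab.1
  have haZ : a ∉ Z := fun h => hab1 ((QuotientGroup.eq_one_iff a).2 h)
  set V := closure ({z, a} : Set P) with hV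
  have hVW : V ≤ W := (closure_le W).2 (Set.insert_subset hz.1 (Set.singleton_subset_iff.2 ha))
  have hzV : z ∈ V := subset_closure (by simp)
  have haV : a ∈ V := subset_closure (by simp)
  refine ⟨V, ⟨⟨fun u v => Subtype.ext (hcom _ (hVW u.2).1 _ (hVW v.2).1)⟩⟩, fun hc => ?_, hP.to_subgroup _, fun v hv hv1 => ⟨orderOf_eq_prime (hVW hv).2 hv1, ?_⟩⟩
  · have e1 : orderOf (⟨a, haV⟩ : ↥V) = orderOf (⟨z, hzV⟩ : ↥V) := by
      rw [orderOf_mk, orderOf_mk, hzo]
      exact orderOf_eq_prime ha.2 fun h => haZ (h ▸ Z.one_mem)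
    haveI := hc
    have e2 := congrArg (Subgroup.map V.subtype) (Cfsg.Lib.Invol.zpowers_eq_of_cyclic e1)
    rw [MonoidHom.map_zpowers, MonoidHom.map_zpowers] at e2
    exact haZ (hZ ▸ (show zpowers a = zpowers z from e2) ▸ mem_zpowers a)
  · -- every element of `V` has at most two conjugates
    have hcz : ∀ v ∈ V, ∀ g : P, g * v * g⁻¹ * v⁻¹ ∈ Z := by
      intro v hv g
      rw [← QuotientGroup.eq_one_iff]
      have : (v : P ⧸ Z) ∈ center (P ⧸ Z) := by
        have hle : V ≤ (center (P ⧸ Z)).comap (QuotientGroup.mk' Z) := (closure_le _).2 (by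
          rintro u (rfl | rfl)
          · show (QuotientGroup.mk' Z) u ∈ center (P ⧸ Z)
            rw [show (QuotientGroup.mk' Z) u = 1 from (QuotientGroup.eq_one_iff _).2 (mem_zpowers _)]
            exact one_mem _
          · exact hab.2)
        exact hle hv
      rw [QuotientGroup.mk_mul, QuotientGroup.mk_mul, QuotientGroup.mk_mul, QuotientGroup.mk_inv, QuotientGroup.mk_inv,
        mem_center_iff.1 this g, mul_inv_cancel_right, mul_inv_cancel]
    set C := centralizer ({v} : Set P)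
    have hz2 : z * z = 1 := by rw [← pow_two]; exact hz.1.2
    have hzp : ∀ u ∈ Z, u = 1 ∨ u = z := by
      rintro _ ⟨i, rfl⟩
      rcases Int.even_or_odd i with ⟨j, rfl⟩ | ⟨j, rfl⟩
      · left; show z ^ (j + j) = 1; rw [← two_mul, zpow_mul, zpow_two, hz2, one_zpow]
      · right; show z ^ (2 * j + 1) = z; rw [zpow_add_one, zpow_mul, zpow_two, hz2, one_zpow, one_mul]
    rcases eq_or_ne C ⊤ with h | h
    · rw [h, card_top]; omega
    obtain ⟨g0, -, hg0⟩ := SetLike.exists_of_lt (lt_top_iff_ne_top.2 h)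
    have hnot : ∀ g, g ∉ C → g * v * g⁻¹ = z * v := by
      intro g hg
      rcases hzp _ (hcz v hv g) with e | e
      · exact absurd (mem_centralizer_singleton_iff.2 (mul_inv_eq_iff_eq_mul.1 (mul_inv_eq_one.1 e))) hg
      · exact mul_inv_eq_iff_eq_mul.1 e
    have hi : C.index = 2 := by
      rw [index_eq_two_iff]
      refine ⟨g0, fun b => ?_⟩
      by_cases hb : b ∈ C
      · refine Or.inr ⟨hb, fun h' => hg0 ?_⟩
        have := C.mul_mem (C.inv_mem hb) h'
        rwa [inv_mul_cancel_left] at this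
      · refine Or.inl ⟨mem_centralizer_singleton_iff.2 (mul_inv_eq_iff_eq_mul.1 ?_), hb⟩
        calc b * g0 * v * (b * g0)⁻¹ = b * (g0 * v * g0⁻¹) * b⁻¹ := by group
          _ = b * z * v * b⁻¹ := by rw [hnot g0 hg0]; group
          _ = z * (b * v * b⁻¹) := by rw [hzc b]; group
          _ = v := by rw [hnot b hb, ← mul_assoc, hz2, one_mul]
    rw [← C.card_mul_index, hi, Nat.mul_comm]


/-- Let G be a finite group whose Sylow 2-subgroup S has a self-centralizing normal subgroup of rank at least 3. Suppose that either every maximal 2-local subgroup of G is 2-constrained with no nontrivial normal subgroup of odd order, or the centralizer of every involution of G is 2-constrained with no nontrivial normal subgroup of odd order. Then S normalizes no nontrivial subgroup of G of odd order and every 2-local subgroup of G is 2-constrained. -/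
theorem result {G : Type*} [Group G] [Finite G]
    (S : Sylow 2 G) (A : Subgroup G) (hA : Cfsg.IsSCN (S : Subgroup G) A) (hA3 : ¬ Cfsg.PRankLE 2 2 ↥A)
    (h : (∀ M : Subgroup G, Cfsg.IsMaximalTwoLocal M → Cfsg.IsPConstrained 2 ↥M ∧ Cfsg.oddCore ↥M = ⊥) ∨
      (∀ t : G, orderOf t = 2 → Cfsg.IsPConstrained 2 ↥(Subgroup.centralizer ({t} : Set G)) ∧
        Cfsg.oddCore ↥(Subgroup.centralizer ({t} : Set G)) = ⊥)) :
    (∀ X : Subgroup G, Odd (Nat.card ↥X) → (S : Subgroup G) ≤ Subgroup.normalizer (X : Set G) → X = ⊥) ∧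
      (∀ T : Subgroup G, IsPGroup 2 ↥T → T ≠ ⊥ → Cfsg.IsPConstrained 2 ↥(Subgroup.normalizer (T : Set G))) := by
  classical
  have := Fact.mk Nat.prime_two
  have hS := S.isPGroup'
  refine ⟨fun X hX hSX => ?_, fun T hT hT1 => ?_⟩
  · haveI : (A.subgroupOf (S : Subgroup G)).Normal := (normal_subgroupOf_iff_le_normalizer hA.1).2 hA.2.1
    have hAc : IsMulCommutative ↥(A.subgroupOf (S : Subgroup G)) := ⟨⟨fun u v => by
      have hv : ((v : ↥(S : Subgroup G)) : G) ∈ (S : Subgroup G) ⊓ centralizer (A : Set G) := by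
        rw [hA.2.2]; exact mem_subgroupOf.1 v.2
      exact Subtype.ext (Subtype.ext (mem_centralizer_iff.1 hv.2 _ (mem_subgroupOf.1 u.2)))⟩⟩
    have hA3' : ¬ Cfsg.PRankLE 2 2 ↥(A.subgroupOf (S : Subgroup G)) := fun h => hA3 fun E hEc hE2 => by
      let e := (Subgroup.subgroupOfEquivOfLe hA.1).symm
      have h2 := h (E.map e.toMonoidHom) inferInstance (by rintro _ ⟨x, hx, rfl⟩; rw [← map_pow, hE2 x hx, map_one])
      rwa [Subgroup.card_map_of_injective e.injective] at h2
    obtain ⟨V, hVc, hVn, hV2, hVe⟩ := exists_four hS hAc hA3'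
    set V' := V.map (S : Subgroup G).subtype with hV'
    haveI : IsMulCommutative ↥V' := ⟨⟨fun u v => by
      obtain ⟨u', hu', hu⟩ := u.2
      obtain ⟨v', hv', hv⟩ := v.2
      refine Subtype.ext ?_
      show (u : G) * v = v * u
      rw [← hu, ← hv, ← map_mul, ← map_mul, show u' * v' = v' * u' from congrArg Subtype.val (hVc.1.1 (⟨u', hu'⟩ : ↥V) ⟨v', hv'⟩)]⟩⟩
    have hVnc : ¬ IsCyclic ↥V' := fun h => hVn (isCyclic_of_surjective
      (V.equivMapOfInjective _ (S : Subgroup G).subtype_injective).symm (MulEquiv.surjective _))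
    have hgen := Cfsg.Lib.Coprime.le_iSup_centralizer_of_not_isCyclic (G := X) hVnc
      ((map_subtype_le V).trans hSX) (by
        obtain ⟨k, hk⟩ := (hV2.map (S : Subgroup G).subtype).exists_card_eq
        rw [hk]; exact (Nat.coprime_two_left.2 hX).pow_left k)
    refine le_bot_iff.1 (hgen.trans (iSup_le fun a => ?_))
    obtain ⟨⟨a', ha', haa⟩, ha1⟩ := a.2
    have ha1' : a' ≠ 1 := fun h => ha1 (by rw [← haa, h, map_one])
    obtain ⟨hord, hidx⟩ := hVe a' ha' ha1'
    have hord' : orderOf (a : G) = 2 := by rw [← haa]; exact (orderOf_injective _ (S : Subgroup G).subtype_injective a').trans hord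
    have hidx' : Nat.card ↥(S : Subgroup G) ≤ 2 * Nat.card ↥((S : Subgroup G) ⊓ centralizer ({(a : G)} : Set G)) := by
      refine hidx.trans (Nat.mul_le_mul_left 2 ?_)
      rw [Nat.card_congr (equivMapOfInjective (centralizer ({a'} : Set ↥(S : Subgroup G))) _ (S : Subgroup G).subtype_injective).toEquiv]
      refine Nat.le_of_dvd Nat.card_pos (card_dvd_of_le ?_)
      rintro _ ⟨u, hu, rfl⟩
      refine ⟨u.2, mem_centralizer_singleton_iff.2 ?_⟩
      rw [← haa]
      exact congrArg Subtype.val (mem_centralizer_singleton_iff.1 hu)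
    refine le_of_eq ?_
    rcases h with h | h
    · have hloc : Cfsg.IsTwoLocal (centralizer ({(a : G)} : Set G)) := by
        refine ⟨zpowers (a : G), IsPGroup.of_card (n := 1) (by rw [Nat.card_zpowers, hord', pow_one]), fun hb => ha1 ?_, ?_⟩
        · have := mem_zpowers (a : G); rwa [hb, mem_bot] at this
        · ext g
          rw [mem_centralizer_singleton_iff, mem_normalizer_iff]
          have hmem : ∀ u : G, u ∈ zpowers (a : G) ↔ u = 1 ∨ u = (a : G) := by
            intro u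
            rw [← mem_powers_iff_mem_zpowers, Submonoid.mem_powers_iff]
            constructor
            · rintro ⟨n, rfl⟩
              rw [← pow_mod_orderOf, hord']
              rcases Nat.mod_two_eq_zero_or_one n with e | e <;> rw [e]
              · exact Or.inl (pow_zero _)
              · exact Or.inr (pow_one _)
            · rintro (rfl | rfl)
              · exact ⟨0, pow_zero _⟩
              · exact ⟨1, pow_one _⟩
          constructor
          · intro hg u
            rw [hmem, hmem, conj_eq_one_iff]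
            refine or_congr Iff.rfl ⟨fun e => by rw [e, hg, mul_inv_cancel_right], fun e => ?_⟩
            rw [mul_inv_eq_iff_eq_mul, ← hg] at e
            exact mul_left_cancel e
          · intro hg
            rcases (hmem _).1 ((hg _).1 (mem_zpowers (a : G))) with e | e
            · exact absurd (conj_eq_one_iff.1 e) ha1
            · exact mul_inv_eq_iff_eq_mul.1 e
      obtain ⟨M, hle, hM, hmax⟩ := Finite.exists_le_maximal (p := fun M : Subgroup G => Cfsg.IsTwoLocal M) hloc
      obtain ⟨hc, hO⟩ := h M ⟨hM, fun N hN hMN => le_antisymm (hmax hN hMN) hMN⟩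
      exact inf_centralizer_bot S hX hSX _ hidx' hle (charTwo hc hO)
    · obtain ⟨hc, hO⟩ := h _ hord'
      exact inf_centralizer_bot S hX hSX _ hidx' le_rfl (charTwo hc hO)
  · set N := normalizer (T : Set G) with hN
    rcases h with h | h
    · obtain ⟨M, hle, hM, hmax⟩ := Finite.exists_le_maximal (p := fun M : Subgroup G => Cfsg.IsTwoLocal M)
        (a := N) ⟨T, hT, hT1, rfl⟩
      have := Cfsg.Lib.ConstrainedLocal.normalizer_inf_constrained
        (h M ⟨hM, fun N' h1 h2 => le_antisymm (hmax h1 h2) h2⟩).1 (le_normalizer.trans hle) hT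
      rwa [inf_eq_right.2 hle] at this
    · exact Cfsg.Lib.ConstrainedLocal.local_constrained (fun x hx => (h x hx).1) hT hT1

end Cfsg.Agent.S3246
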