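import Cfsg.Statements.S3249
import Cfsg.Agent.Lib.LenSeven.QDMain
import Cfsg.Agent.Lib.LenSeven.W32

set_option autoImplicit false
open Cfsg

namespace Cfsg.Agent.S3249

/-- Say a finite group has length at most k when it has no strictly decreasing chain of k + 2 subgroups (every chain G = G₀ > G₁ > ⋯ > G_n = 1 of subgroups has n ≤ k). A finite non-abelian simple group of length at most 7 is isomorphic to PSL₂(q) for some prime power q, to PSU₃(3), to A₇, to the Mathieu group M₁₁, to the Janko group J₁, or has order 126000. -/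
theorem result {G : Type*} [Group G] [Finite G] [IsSimpleGroup G]
    (hG : ¬ IsMulCommutative G) (hlen : ∀ c : Fin 9 → Subgroup G, ¬ StrictAnti c) :
    (∃ (F : Type) (_ : Field F) (_ : Fintype F), Nonempty (G ≃* Matrix.ProjectiveSpecialLinearGroup (Fin 2) F)) ∨
      (∃ (F : Type) (_ : Field F) (_ : Fintype F), Fintype.card F = 9 ∧ Nonempty (G ≃* Cfsg.PSU 3 F 3)) ∨
      Nonempty (G ≃* ↥(alternatingGroup (Fin 7))) ∨ Cfsg.Spor.IsoM11 G ∨ Cfsg.Spor.IsoJ1 G ∨ Nat.card G = 126000 := by
  haveI : Fact (Nat.Prime 2) := ⟨Nat.prime_two⟩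
  haveI : Fintype G := Fintype.ofFinite G
  have hl := Cfsg.Lib.LenEight.lenLe_of_no_strictAnti (n := 7) hlen
  exact Cfsg.Lib.LenSeven.concl_of hG hl (fun S hS h32 => Cfsg.Lib.LenSeven.qd_all hG hl S hS h32)
    (fun S hS h32 => Cfsg.Lib.LenSeven.w_thirtytwo hG hl S hS h32)

end Cfsg.Agent.S3249
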