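import Cfsg.Statements.S3255
import Cfsg.Agent.Lib.Wagner.Main

set_option autoImplicit false
set_option linter.style.haveILetI false
open Cfsg

namespace Cfsg.Agent.S3255

open MulAction Cfsg.Lib.Plane Cfsg.Lib.Wagner in
/-- Let G be a finite triply transitive permutation group on a set Ω of more than 3 points whose size is divisible by 3. Then every nontrivial normal subgroup H of G has at most two orbits on the set of ordered triples of distinct points of Ω; and if moreover |Ω| ≢ 2 (mod 4), then H is triply transitive or H contains a normal subgroup isomorphic to PSL₂(q) with q = |Ω| − 1. -/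
theorem result {G : Type*} [Group G] [Finite G]
    {Ω : Type*} [Fintype Ω] [MulAction G Ω] [FaithfulSMul G Ω] (h3 : MulAction.IsMultiplyPretransitive G Ω 3)
    (hΩ : 3 ∣ Fintype.card Ω) (hΩ3 : 3 < Fintype.card Ω) (H : Subgroup G) [hHn : H.Normal] (hH : H ≠ ⊥) :
    Nat.card (MulAction.orbitRel.Quotient ↥H (Fin 3 ↪ Ω)) ≤ 2 ∧
      (Fintype.card Ω % 4 ≠ 2 → MulAction.IsMultiplyPretransitive ↥H Ω 3 ∨
        ∃ (N : Subgroup ↥H) (F : Type) (_ : Field F) (_ : Fintype F), N.Normal ∧ Fintype.card F + 1 = Fintype.card Ω ∧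
          Nonempty (↥N ≃* Matrix.ProjectiveSpecialLinearGroup (Fin 2) F)) := by
  classical
  have C : Ctx H Ω := ⟨inferInstance, h3, by rwa [Nat.card_eq_fintype_card],
    by rwa [Nat.card_eq_fintype_card], hHn, hH⟩
  have hT := C.two
  refine ⟨?_, fun h4 => ?_⟩
  · obtain ⟨a⟩ := C.nonempty
    obtain ⟨b, hba, -⟩ := C.exists_third a a
    -- every orbit meets the triples beginning with `a`, `b`
    have hrep : ∀ q : orbitRel.Quotient ↥H (Fin 3 ↪ Ω), ∃ x : Fin 3 ↪ Ω,
        Quotient.mk'' x = q ∧ x 0 = a ∧ x 1 = b := by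
      intro q
      induction q using Quotient.inductionOn' with
      | h x =>
        obtain ⟨h, hh, h1, h2⟩ := C.h_exists2 (a := x 0) (b := x 1) (a' := a) (b' := b)
          (fun e => absurd (x.injective e) (by decide)) hba.symm
        exact ⟨(⟨h, hh⟩ : H) • x, Quotient.sound' (MulAction.orbitRel_apply.2 ⟨⟨h, hh⟩, rfl⟩), h1, h2⟩
    have hsame : ∀ x y : Fin 3 ↪ Ω, x 0 = a → x 1 = b → y 0 = a → y 1 = b → Col H a b (x 2) (y 2) →
        (Quotient.mk'' x : orbitRel.Quotient ↥H (Fin 3 ↪ Ω)) = Quotient.mk'' y := by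
      intro x y hx0 hx1 hy0 hy1 hcol
      obtain ⟨k, hk, k1, k2, k3⟩ := hcol.exists'
      refine (Quotient.sound' (MulAction.orbitRel_apply.2 ⟨(⟨k, hk⟩ : H), ?_⟩)).symm
      refine Function.Embedding.ext fun i => ?_
      show k • x i = y i
      fin_cases i
      · show k • x 0 = y 0
        rw [hx0, hy0, k1]
      · show k • x 1 = y 1
        rw [hx1, hy1, k2]
      · exact k3
    haveI := Fintype.ofFinite (orbitRel.Quotient ↥H (Fin 3 ↪ Ω))
    rw [Nat.card_eq_fintype_card]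
    by_contra hlt
    obtain ⟨q₁, q₂, q₃, h12, h13, h23⟩ := Fintype.two_lt_card_iff.1 (not_le.1 hlt)
    obtain ⟨x, rfl, hx0, hx1⟩ := hrep q₁
    obtain ⟨y, rfl, hy0, hy1⟩ := hrep q₂
    obtain ⟨z, rfl, hz0, hz1⟩ := hrep q₃
    have hne : ∀ u : Fin 3 ↪ Ω, u 0 = a → u 1 = b → u 2 ≠ a ∧ u 2 ≠ b := fun u h0 h1 =>
      ⟨fun e => absurd (u.injective (e.trans h0.symm)) (by decide),
        fun e => absurd (u.injective (e.trans h1.symm)) (by decide)⟩
    rcases hT a b (x 2) (y 2) (z 2) hba.symm (hne x hx0 hx1).1 (hne x hx0 hx1).2 (hne y hy0 hy1).1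
      (hne y hy0 hy1).2 (hne z hz0 hz1).1 (hne z hz0 hz1).2 with h | h | h
    · exact h12 (hsame x y hx0 hx1 hy0 hy1 h)
    · exact h13 (hsame x z hx0 hx1 hz0 hz1 h)
    · exact h23 (hsame y z hy0 hy1 hz0 hz1 h)
  · rcases C.second hT (by rwa [Nat.card_eq_fintype_card]) with h | ⟨N, F, hF, hF', hN, hc, hiso⟩
    · exact Or.inl h
    · exact Or.inr ⟨N, F, hF, hF', hN, by rw [hc, Nat.card_eq_fintype_card], hiso⟩

end Cfsg.Agent.S3255
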