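import Cfsg.Statements.S3258
import Mathlib.FieldTheory.Finite.GaloisField
import Cfsg.Agent.Lib.PiHom.Reduce
import Cfsg.Agent.Lib.PiHom.Small
import Cfsg.Agent.Lib.PiHom.Sylow
import Cfsg.Agent.Lib.PiHom.U34.Shape
import Cfsg.Agent.Lib.PiHom.U34.FiveFinal
import Cfsg.Agent.Lib.PiHom.U34.ThreeFinal

set_option autoImplicit false
open Cfsg

namespace Cfsg.Agent.S3258

open Cfsg.Lib.PiHom

universe v

/-- A minimal counterexample does not exist. -/
theorem no_min {π : Set ℕ} (G : Type v) [Group G] [Finite G] (h : Min π G) : False := by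
  haveI : Fact (Nat.Prime 2) := ⟨Nat.prime_two⟩
  haveI := Fintype.ofFinite G
  haveI := Fintype.ofFinite (GaloisField 2 4)
  have hF : Fintype.card (GaloisField 2 4) = 16 := by
    rw [← Nat.card_eq_fintype_card, GaloisField.card 2 4 (by norm_num)]; norm_num
  obtain ⟨S⟩ : Nonempty (Sylow 2 G) := inferInstance
  obtain ⟨E, hE⟩ := h.three S
  obtain ⟨P⟩ : Nonempty (Sylow 2 (Cfsg.PSU 3 (GaloisField 2 4) 4)) := inferInstance
  obtain ⟨e⟩ := h.sylow_u34 S E hE hF P
  have hs := U34.shape_of_iso hE hF P e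
  obtain ⟨a, -, -, ha, -, -, ha1, -⟩ := hs.exists_three
  have c : U34.Ctx (core π (U34.Ct a)) S E a := U34.Ctx.of_min h hs ha ha1
  by_cases h3 : ∀ x, Odd (orderOf x) → x ∈ Subgroup.normalizer ((S : Subgroup G) : Set G) → x ∈ U34.Ct a →
      ∀ y ∈ (S : Subgroup G), Commute x y
  · exact c.false_three (c.core_ne h) h3
  · push_neg at h3
    obtain ⟨g, hodd, hnorm, hcent, y, hy, hyc⟩ := h3
    exact U34.Five.false_five (S := S) (E := E) (t := a) (g := g)
      ⟨c, U34.balance_of_min h c, hodd, hnorm, hcent, fun hall => hyc (hall y hy)⟩ h rfl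

/-- Let π be a set of primes containing 2 and G a finite group all of whose π-subgroups (subgroups whose order is divisible only by primes in π) have a normal Sylow 2-subgroup. Then the π'-elements of G (elements whose order is divisible by no prime in π) form a subgroup if and only if N_G(H)/C_G(H) is a π-group for every nontrivial π-subgroup H of G. -/
theorem result {G : Type*} [Group G] [Finite G] (π : Set ℕ) (h2 : 2 ∈ π)
    (hcl : ∀ H : Subgroup G, (∀ p : ℕ, p.Prime → p ∣ Nat.card ↥H → p ∈ π) → ∀ P : Sylow 2 ↥H, (P : Subgroup ↥H).Normal) :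
    (∃ K : Subgroup G, ∀ x : G, x ∈ K ↔ ∀ p : ℕ, p.Prime → p ∣ orderOf x → p ∉ π) ↔
      (∀ H : Subgroup G, H ≠ ⊥ → (∀ p : ℕ, p.Prime → p ∣ Nat.card ↥H → p ∈ π) →
        ∀ p : ℕ, p.Prime → p ∣ (Subgroup.centralizer (H : Set G)).relIndex (Subgroup.normalizer (H : Set G)) → p ∈ π) := by
  constructor
  · intro hc H hne hH p hp hd
    exact auto_of_closed hc H hne hH p hp hd
  · intro hhom
    exact closed_of_hyp (fun X _ _ hX => no_min X hX) ⟨h2, hcl, hhom⟩

end Cfsg.Agent.S3258
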