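import Cfsg.Statements.S3261
import Cfsg.Agent.S3035
import Cfsg.Agent.S1011
import Mathlib.GroupTheory.Perm.Centralizer
-- import your own Cfsg.Agent.* helpers here

set_option autoImplicit false
set_option linter.style.haveILetI false
open Cfsg

namespace Cfsg.Agent.S3261

open Subgroup Equiv Equiv.Perm

/-- The standard double transposition. -/
def base : ↥(alternatingGroup (Fin 6)) :=
  ⟨swap 0 1 * swap 2 3, by simp [Equiv.Perm.mem_alternatingGroup]⟩

/-- An involution commuting with `base`. -/
def uu : ↥(alternatingGroup (Fin 6)) :=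
  ⟨swap 0 2 * swap 1 3, by simp [Equiv.Perm.mem_alternatingGroup]⟩

/-- Another involution commuting with `base`. -/
def vv : ↥(alternatingGroup (Fin 6)) :=
  ⟨swap 0 1 * swap 4 5, by simp [Equiv.Perm.mem_alternatingGroup]⟩

theorem base_cycleType : (base : Perm (Fin 6)).cycleType = Multiset.replicate 2 2 := by
  have h2 : orderOf (base : Perm (Fin 6)) = 2 :=
    orderOf_eq_prime (by decide) (by decide)
  obtain ⟨n, hn⟩ := cycleType_prime_order (σ := (base : Perm (Fin 6))) (h2 ▸ Nat.prime_two)
  have hs := sum_cycleType (base : Perm (Fin 6))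
  rw [hn, Multiset.sum_replicate, h2, show (base : Perm (Fin 6)).support.card = 4 by decide] at hs
  rw [hn, h2]
  congr 1
  simp at hs
  omega

theorem card_centralizer_base :
    Nat.card (centralizer ({base} : Set ↥(alternatingGroup (Fin 6)))) = 8 := by
  set C := centralizer ({(base : Perm (Fin 6))} : Set (Perm (Fin 6))) with hC
  set A := alternatingGroup (Fin 6) with hA
  have h16 : Nat.card C = 16 := by
    rw [hC, Equiv.Perm.nat_card_centralizer, base_cycleType]
    decide
  have he : centralizer ({base} : Set ↥A) = C.subgroupOf A := by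
    ext x
    rw [mem_subgroupOf, hC, mem_centralizer_singleton_iff, mem_centralizer_singleton_iff, Subtype.ext_iff]
    rfl
  rw [he, ← relIndex_bot_left, ← inf_subgroupOf_right]
  rw [relIndex_bot_left, Nat.card_congr (subgroupOfEquivOfLe inf_le_right).toEquiv]
  have h1 := relIndex_mul_relIndex ⊥ (C ⊓ A) C bot_le inf_le_left
  rw [relIndex_bot_left, relIndex_bot_left, inf_relIndex_left, h16] at h1
  have h2 : A.relIndex C ∣ 2 := by
    have := relIndex_dvd_index_of_normal A C
    rwa [hA, alternatingGroup.index_eq_two] at this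
  have h3 : A.relIndex C ≠ 1 := by
    rw [Ne, relIndex_eq_one]
    intro hle
    have hm : swap (4 : Fin 6) 5 ∈ C := by rw [hC, mem_centralizer_singleton_iff]; decide
    have := hle hm
    rw [hA, mem_alternatingGroup, sign_swap (by decide)] at this
    exact absurd this (by decide)
  rcases (Nat.dvd_prime Nat.prime_two).mp h2 with h | h
  · exact absurd h h3
  · rw [h] at h1
    simp only [hA] at h1 ⊢
    omega

theorem centralizer_base_dihedral :
    Nonempty (↥(centralizer ({base} : Set ↥(alternatingGroup (Fin 6)))) ≃* DihedralGroup 4) := by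
  have hu : uu ∈ centralizer ({base} : Set ↥(alternatingGroup (Fin 6))) :=
    mem_centralizer_singleton_iff.mpr (Subtype.ext (by decide))
  have hv : vv ∈ centralizer ({base} : Set ↥(alternatingGroup (Fin 6))) :=
    mem_centralizer_singleton_iff.mpr (Subtype.ext (by decide))
  refine Cfsg.Agent.S1011.dihedral_of_card_eight card_centralizer_base ?_ (z := ⟨uu, hu⟩) (w := ⟨vv, hv⟩) ?_ ?_ ?_
  · intro h
    have := congrArg (fun x => ((x.1 : ↥(alternatingGroup (Fin 6))) : Perm (Fin 6))) (h.is_comm.comm ⟨uu, hu⟩ ⟨vv, hv⟩)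
    exact absurd this (show ¬ ((uu : Perm (Fin 6)) * (vv : Perm (Fin 6)) = (vv : Perm (Fin 6)) * (uu : Perm (Fin 6))) by decide)
  · rw [← Subgroup.orderOf_coe, ← Subgroup.orderOf_coe]
    show orderOf (uu : Perm (Fin 6)) = 2
    exact orderOf_eq_prime (by decide) (by decide)
  · rw [← Subgroup.orderOf_coe, ← Subgroup.orderOf_coe]
    show orderOf (vv : Perm (Fin 6)) = 2
    exact orderOf_eq_prime (by decide) (by decide)
  · intro h
    exact absurd (congrArg (fun x => ((x.1 : ↥(alternatingGroup (Fin 6))) : Perm (Fin 6))) h) (show ¬ ((uu : Perm (Fin 6)) = (vv : Perm (Fin 6))) by decide)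

theorem centralizer_dihedral (α : ↥(alternatingGroup (Fin 6))) (hα : orderOf α = 2)
    (hs : (α : Perm (Fin 6)).support.card = 4) :
    Nonempty (↥(centralizer ({α} : Set ↥(alternatingGroup (Fin 6)))) ≃* DihedralGroup 4) := by
  have h2 : orderOf (α : Perm (Fin 6)) = 2 := by rw [Subgroup.orderOf_coe, hα]
  obtain ⟨n, hn⟩ := cycleType_prime_order (σ := (α : Perm (Fin 6))) (h2 ▸ Nat.prime_two)
  have hs' := sum_cycleType (α : Perm (Fin 6))
  rw [hn, Multiset.sum_replicate, h2, hs] at hs'
  have hc : (α : Perm (Fin 6)).cycleType = (base : Perm (Fin 6)).cycleType := by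
    rw [hn, base_cycleType, h2]
    congr 1
    simp at hs'
    omega
  obtain ⟨τ, hτ⟩ := isConj_iff.mp (isConj_iff_cycleType_eq.mpr hc)
  let f : MulAut ↥(alternatingGroup (Fin 6)) := MulAut.conjNormal τ
  have hf : f α = base := Subtype.ext (by simpa [f] using hτ)
  have hmap : (centralizer ({α} : Set ↥(alternatingGroup (Fin 6)))).map f.toMonoidHom
      = centralizer ({base} : Set ↥(alternatingGroup (Fin 6))) := by
    ext x
    rw [mem_map_equiv, mem_centralizer_singleton_iff, mem_centralizer_singleton_iff, ← hf]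
    constructor
    · intro h
      simpa using congrArg f h
    · intro h
      exact f.injective (by simpa using h)
  obtain ⟨e⟩ := centralizer_base_dihedral
  exact ⟨((f.subgroupMap _).trans (MulEquiv.subgroupCongr hmap)).trans e⟩

/-- Let α̃ be an involution of the alternating group A₆ that is a product of two disjoint transpositions (it lies in the centre of a Sylow 2-subgroup of A₆; its centralizer is dihedral of order 8). Let G be a finite group that has no subgroup of index 2 and contains an involution α, central in some Sylow 2-subgroup of G, with C_G(α) ≅ C_{A₆}(α̃). Then G is isomorphic to A₆ or to PSL₂(7). -/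
theorem result {G : Type*} [Group G] [Finite G]
    (hG : ∀ H : Subgroup G, H.index ≠ 2)
    (αt : ↥(alternatingGroup (Fin 6))) (hαt : orderOf αt = 2) (hsupp : (αt : Equiv.Perm (Fin 6)).support.card = 4)
    (α : G) (hα : orderOf α = 2) (S : Sylow 2 G) (hαS : α ∈ (S : Subgroup G)) (hαc : ∀ s ∈ (S : Subgroup G), s * α = α * s)
    (e : ↥(Subgroup.centralizer ({α} : Set G)) ≃* ↥(Subgroup.centralizer ({αt} : Set ↥(alternatingGroup (Fin 6))))) :
    Nonempty (G ≃* ↥(alternatingGroup (Fin 6))) ∨
      (∃ (F : Type) (_ : Field F) (_ : Fintype F), Fintype.card F = 7 ∧ Nonempty (G ≃* Matrix.ProjectiveSpecialLinearGroup (Fin 2) F)) := by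
  obtain ⟨d⟩ := centralizer_dihedral αt hαt hsupp
  have hsign : ∀ (n : ℕ), 2 ≤ n → IsEmpty (G ≃* Equiv.Perm (Fin n)) := fun n hn => ⟨fun a => by
    haveI : Nontrivial (Fin n) := Fin.nontrivial_iff_two_le.mpr hn
    refine hG ((alternatingGroup (Fin n)).comap a.toMonoidHom) ?_
    rw [index_comap_of_surjective _ a.surjective, alternatingGroup.index_eq_two]⟩
  rcases Cfsg.Agent.S3035.result α hα ⟨e.trans d⟩ with h | h | h | h | h
  · exfalso
    haveI : Fact (Nat.Prime 2) := ⟨Nat.prime_two⟩
    let π := (QuotientGroup.mk' (Cfsg.oddCore G)).comp (centralizer ({α} : Set G)).subtype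
    have hsurj : Function.Surjective π := by
      intro y
      obtain ⟨g, rfl⟩ := QuotientGroup.mk'_surjective (Cfsg.oddCore G) y
      have hg : g ∈ centralizer ({α} : Set G) ⊔ Cfsg.oddCore G := h ▸ mem_top g
      rw [← SetLike.mem_coe, Subgroup.mul_normal] at hg
      obtain ⟨c, hc, n, hn, rfl⟩ := hg
      refine ⟨⟨c, hc⟩, ?_⟩
      show QuotientGroup.mk' _ c = QuotientGroup.mk' _ (c * n)
      rw [map_mul, (QuotientGroup.eq_one_iff (N := Cfsg.oddCore G) n).mpr hn |>
        fun h' => show QuotientGroup.mk' (Cfsg.oddCore G) n = 1 from h', mul_one]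
    have hp : IsPGroup 2 (G ⧸ Cfsg.oddCore G) := by
      refine IsPGroup.of_surjective (IsPGroup.of_card (n := 3) ?_) π hsurj
      rw [Cfsg.Lib.Small.CentralizerD8.card_centralizer_t (e.trans d)]; rfl
    haveI : Nontrivial (G ⧸ Cfsg.oddCore G) := by
      refine ⟨QuotientGroup.mk α, 1, fun h' => ?_⟩
      have hm : α ∈ Cfsg.oddCore G := (QuotientGroup.eq_one_iff α).mp h'
      have h2 : 2 ∣ Nat.card (Cfsg.oddCore G) := hα ▸ Subgroup.orderOf_dvd_natCard _ hm
      exact Cfsg.Lib.Core.pPrimeCore_not_dvd 2 G h2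
    obtain ⟨k, hk⟩ := IsPGroup.iff_card.mp hp
    have hk0 : 0 < k := by
      rcases k with _ | k
      · exact absurd hk (by rw [pow_zero]; exact (Finite.one_lt_card (α := G ⧸ Cfsg.oddCore G)).ne')
      · omega
    obtain ⟨K, hK⟩ := Sylow.exists_subgroup_card_pow_prime 2
      (show 2 ^ (k - 1) ∣ Nat.card (G ⧸ Cfsg.oddCore G) from hk ▸ pow_dvd_pow 2 (by omega))
    refine hG (K.comap (QuotientGroup.mk' (Cfsg.oddCore G))) ?_
    rw [index_comap_of_surjective _ (QuotientGroup.mk'_surjective _)]
    have := K.index_mul_card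
    rw [hk, hK, show 2 ^ k = 2 * 2 ^ (k - 1) by rw [← pow_succ']; congr 1; omega] at this
    exact Nat.eq_of_mul_eq_mul_right (by positivity) this
  · exact ((hsign 4 (by norm_num)).false h.some).elim
  · exact ((hsign 5 (by norm_num)).false h.some).elim
  · obtain ⟨a⟩ := h
    obtain ⟨hs, hc⟩ := Cfsg.Agent.S3035.slThree
    haveI := hs
    haveI : Fact (Nat.Prime 7) := ⟨by norm_num⟩
    obtain ⟨b⟩ := Cfsg.Lib.Small.PSLTwoRecog.iso_psl (p := 7) (G := Matrix.SpecialLinearGroup (Fin 3) (ZMod 2))
      (by norm_num) (by rw [hc]; norm_num) (by rw [Cfsg.Lib.Small.Order168.card_seven hc]) (F := ZMod 7) (ZMod.card 7)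
    exact Or.inr ⟨ZMod 7, inferInstance, inferInstance, ZMod.card 7, ⟨a.trans b⟩⟩
  · exact Or.inl h

end Cfsg.Agent.S3261
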