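import Cfsg.Statements.S3265
import Cfsg.Agent.Lib.OddProduct.Main
import Mathlib.Combinatorics.SimpleGraph.Diam
import Mathlib.GroupTheory.Perm.Cycle.Type

set_option autoImplicit false
open Cfsg

namespace Cfsg.Agent.S3265

/-- Let n ≥ 5 and let X be a conjugacy class of involutions of the symmetric group of degree n. The graph on X joining two distinct involutions whose product has odd order is connected and has diameter exactly 2. -/
theorem result (n : ℕ) (hn : 5 ≤ n) (t : Equiv.Perm (Fin n)) (ht : orderOf t = 2) :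
    (SimpleGraph.fromRel fun x y : {x : Equiv.Perm (Fin n) // IsConj t x} =>
        Odd (orderOf (x.1 * y.1))).Connected ∧
      (SimpleGraph.fromRel fun x y : {x : Equiv.Perm (Fin n) // IsConj t x} =>
        Odd (orderOf (x.1 * y.1))).diam = 2 := by
  classical
  set V := {x : Equiv.Perm (Fin n) // IsConj t x}
  set R : V → V → Prop := fun x y => Odd (orderOf (x.1 * y.1)) with hR
  have ht2 : ∀ a, t (t a) = a := fun a => by
    have h : t ^ 2 = 1 := ht ▸ pow_orderOf_eq_one t
    rw [pow_two] at h
    exact DFunLike.congr_fun h a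
  have hinv : ∀ x : V, ∀ a, x.1 (x.1 a) = a := fun x a => by
    obtain ⟨c, hc⟩ := isConj_iff.1 x.2
    rw [← hc]
    simp [ht2]
  have hfix : ∀ x : V, (Finset.univ.filter fun a => x.1 a = a).card = (Finset.univ.filter fun a => t a = a).card := fun x => by
    obtain ⟨c, hc⟩ := isConj_iff.1 x.2
    refine (Finset.card_equiv c fun a => ?_).symm
    rw [← hc, Finset.mem_filter, Finset.mem_filter]
    simp
  have hodd : ∀ (x y z : Equiv.Perm (Fin n)), (∀ a, x (x a) = a) → (∀ a, z (z a) = a) →
      Lib.OddProduct.Returns (z * x) → Odd (orderOf (x * z)) := fun x y z hx hz h => by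
    have e : x * z = (z * x)⁻¹ := by
      rw [mul_inv_rev]
      congr 1 <;> refine (inv_eq_of_mul_eq_one_right ?_).symm
      · exact Equiv.ext fun a => hx a
      · exact Equiv.ext fun a => hz a
    rw [e, orderOf_inv]
    exact Lib.OddProduct.odd_orderOf h
  have hmid : ∀ x y : V, ∃ z : V, R x z ∧ R z y := by
    intro x y
    obtain ⟨z, hz, hzf, hzx, hzy⟩ := Lib.OddProduct.exists_joins (Fintype.card (Fin n)) (Fin n) rfl x.1 y.1
      (hinv x) (hinv y) ((hfix x).trans (hfix y).symm) (fun h => by have := h.1; simp at this; omega)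
    have hzc : IsConj t z := by
      have hsupp : ∀ σ : Equiv.Perm (Fin n), σ.support.card + (Finset.univ.filter fun a => σ a = a).card = n := by
        intro σ
        rw [show σ.support = Finset.univ.filter (fun a => ¬ σ a = a) by ext a; simp, add_comm,
          Finset.card_filter_add_card_filter_not]
        simp
      have hs : z.support.card = t.support.card := by
        have := hsupp z; have := hsupp t; have := hzf.trans (hfix x); omega
      have hz2 : orderOf z = 2 := by
        refine orderOf_eq_prime (by rw [pow_two]; exact Equiv.ext fun a => hz a) fun h => ?_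
        rw [h, Equiv.Perm.support_one, Finset.card_empty] at hs
        have := Equiv.Perm.card_support_eq_zero.1 hs.symm
        rw [this, orderOf_one] at ht
        omega
      rw [Equiv.Perm.isConj_iff_cycleType_eq]
      haveI : Fact (Nat.Prime 2) := ⟨Nat.prime_two⟩
      obtain ⟨k, hk⟩ := Equiv.Perm.cycleType_prime_order (σ := t) (by rw [ht]; exact Nat.prime_two)
      obtain ⟨l, hl⟩ := Equiv.Perm.cycleType_prime_order (σ := z) (by rw [hz2]; exact Nat.prime_two)
      rw [ht] at hk
      rw [hz2] at hl
      rw [← Equiv.Perm.sum_cycleType, ← Equiv.Perm.sum_cycleType, hk, hl, Multiset.sum_replicate,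
        Multiset.sum_replicate, smul_eq_mul, smul_eq_mul] at hs
      rw [hk, hl]
      congr 1
      omega
    refine ⟨⟨z, hzc⟩, hodd x.1 x.1 z (hinv x) hz hzx, ?_⟩
    exact Lib.OddProduct.odd_orderOf hzy
  have hne : ∃ x y : V, x ≠ y ∧ ¬ R x y ∧ ¬ R y x := by
    have key : ∀ y : Equiv.Perm (Fin n), IsConj t y → y ≠ t → t * y = y * t →
        ∃ x y : V, x ≠ y ∧ ¬ R x y ∧ ¬ R y x := by
      intro y hy hne hc
      have hy2 : ∀ a, y (y a) = a := hinv ⟨y, hy⟩
      have ho : orderOf (t * y) = 2 := by
        refine orderOf_eq_prime ?_ fun h => hne ?_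
        · rw [pow_two]
          refine Equiv.ext fun a => ?_
          have e : ∀ b, t (y b) = y (t b) := fun b => DFunLike.congr_fun hc b
          simp [e, ht2, hy2]
        · refine Equiv.ext fun a => t.injective ?_
          rw [ht2]
          exact DFunLike.congr_fun h a
      refine ⟨⟨t, IsConj.refl t⟩, ⟨y, hy⟩, fun h => hne (congrArg Subtype.val h).symm, ?_, ?_⟩
      · simp only [hR, ho]; decide
      · simp only [hR, ← hc, ho]; decide
    obtain ⟨a, ha⟩ : ∃ a, t a ≠ a := by
      by_contra h
      simp only [not_exists, not_not] at h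
      rw [show t = 1 from Equiv.ext h, orderOf_one] at ht
      omega
    have hb : t (t a) = a := ht2 a
    by_cases h2 : ∃ c, t c ≠ c ∧ c ≠ a ∧ c ≠ t a
    · obtain ⟨c, hc1, hca, hcb⟩ := h2
      have hd : t (t c) = c := ht2 c
      have hda : t c ≠ a := fun e => hcb (by rw [← e, hd])
      have hdb : t c ≠ t a := fun e => hca (t.injective e)
      refine key (Equiv.swap a c * t * (Equiv.swap a c)⁻¹) (isConj_iff.2 ⟨_, rfl⟩) ?_ ?_
      · intro h
        have := DFunLike.congr_fun h a
        simp [Equiv.swap_inv, Equiv.swap_apply_of_ne_of_ne hda hc1] at this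
        exact hca this
      · refine Equiv.ext fun z => ?_
        simp only [Equiv.swap_inv, Equiv.Perm.mul_apply]
        by_cases h1 : z = a
        · subst h1
          simp [Equiv.swap_apply_of_ne_of_ne hda hc1, hd, Equiv.swap_apply_of_ne_of_ne ha (Ne.symm hcb), hb]
        by_cases h2 : z = c
        · subst h2
          simp [Equiv.swap_apply_of_ne_of_ne hda hc1, hd, Equiv.swap_apply_of_ne_of_ne ha (Ne.symm hcb), hb]
        by_cases h3 : z = t a
        · subst h3
          simp [Equiv.swap_apply_of_ne_of_ne hda hc1, hd, Equiv.swap_apply_of_ne_of_ne ha (Ne.symm hcb), hb]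
        by_cases h4 : z = t c
        · subst h4
          simp [Equiv.swap_apply_of_ne_of_ne hda hc1, hd, Equiv.swap_apply_of_ne_of_ne ha (Ne.symm hcb), hb]
        have e1 : t z ≠ a := fun e => h3 (by rw [← e, ht2])
        have e2 : t z ≠ c := fun e => h4 (by rw [← e, ht2])
        simp [Equiv.swap_apply_of_ne_of_ne h1 h2, Equiv.swap_apply_of_ne_of_ne e1 e2, ht2]
    · simp only [not_exists, not_and, not_not] at h2
      obtain ⟨c, hc, d, hd, hcd⟩ := Finset.one_lt_card.1
        (show 1 < ((Finset.univ : Finset (Fin n)) \ {a, t a}).card by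
          have := Finset.le_card_sdiff {a, t a} (Finset.univ : Finset (Fin n))
          have := Finset.card_le_two (a := a) (b := t a)
          simp at *
          omega)
      simp only [Finset.mem_sdiff, Finset.mem_univ, Finset.mem_insert, Finset.mem_singleton, true_and, not_or] at hc hd
      have hct : t c = c := by_contra fun h => hc.2 (h2 c h hc.1)
      have hdt : t d = d := by_contra fun h => hd.2 (h2 d h hd.1)
      refine key (Equiv.swap c d) ?_ ?_ ?_
      · have e : t = Equiv.swap a (t a) := Equiv.ext fun z => by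
          by_cases h1 : z = a
          · subst h1; simp
          by_cases h3 : z = t a
          · subst h3; simp [hb]
          rw [Equiv.swap_apply_of_ne_of_ne h1 h3]
          exact by_contra fun h => h3 (h2 z h h1)
        rw [e]
        exact Equiv.Perm.isConj_swap (Ne.symm ha) hcd
      · intro h
        have := DFunLike.congr_fun h a
        rw [Equiv.swap_apply_of_ne_of_ne (Ne.symm hc.1) (Ne.symm hd.1)] at this
        exact ha this.symm
      · refine Equiv.ext fun z => ?_
        by_cases h1 : z = c
        · subst h1; simp [hct, hdt]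
        by_cases h3 : z = d
        · subst h3; simp [hct, hdt]
        have e1 : t z ≠ c := fun e => h1 (by rw [← ht2 z, e, hct])
        have e2 : t z ≠ d := fun e => h3 (by rw [← ht2 z, e, hdt])
        simp [Equiv.swap_apply_of_ne_of_ne h1 h3, Equiv.swap_apply_of_ne_of_ne e1 e2]
  show (SimpleGraph.fromRel R).Connected ∧ (SimpleGraph.fromRel R).diam = 2
  set Γ := SimpleGraph.fromRel R
  have hle : ∀ x y : V, Γ.edist x y ≤ 2 := by
    intro x y
    by_cases hxy : x = y
    · subst hxy; simp
    by_cases hadj : Γ.Adj x y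
    · exact (SimpleGraph.edist_eq_one_iff_adj.2 hadj).le.trans (by norm_num)
    obtain ⟨z, h1, h2⟩ := hmid x y
    have hxz : x ≠ z := fun e => hadj ((SimpleGraph.fromRel_adj _ _ _).2 ⟨hxy, Or.inl (e ▸ h2)⟩)
    have hzy : z ≠ y := fun e => hadj ((SimpleGraph.fromRel_adj _ _ _).2 ⟨hxy, Or.inl (e ▸ h1)⟩)
    have a1 : Γ.Adj x z := (SimpleGraph.fromRel_adj _ _ _).2 ⟨hxz, Or.inl h1⟩
    have a2 : Γ.Adj z y := (SimpleGraph.fromRel_adj _ _ _).2 ⟨hzy, Or.inl h2⟩
    calc Γ.edist x y ≤ Γ.edist x z + Γ.edist z y := SimpleGraph.edist_triangle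
      _ = 2 := by rw [SimpleGraph.edist_eq_one_iff_adj.2 a1, SimpleGraph.edist_eq_one_iff_adj.2 a2]; rfl
  haveI : Nonempty V := ⟨⟨t, IsConj.refl t⟩⟩
  have hconn : Γ.Connected := ⟨fun x y => SimpleGraph.reachable_of_edist_ne_top
    (fun h => by have := hle x y; rw [h] at this; simp at this)⟩
  refine ⟨hconn, ?_⟩
  obtain ⟨x, y, hxy, h1, h2⟩ := hne
  have h2e : Γ.edist x y = 2 := by
    refine le_antisymm (hle x y) ?_
    by_contra hlt
    rw [not_le] at hlt
    have hcases : Γ.edist x y = 0 ∨ Γ.edist x y = 1 := by
      revert hlt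
      cases Γ.edist x y with
      | top => simp
      | coe m =>
        intro hlt
        have hm : m < 2 := by exact_mod_cast hlt
        interval_cases m <;> simp
    rcases hcases with h | h
    · exact hxy (SimpleGraph.edist_eq_zero_iff.1 h)
    · rcases ((SimpleGraph.fromRel_adj _ _ _).1 (SimpleGraph.edist_eq_one_iff_adj.1 h)).2 with h | h
      · exact h1 h
      · exact h2 h
  have hd : Γ.ediam = 2 := le_antisymm (SimpleGraph.ediam_le_of_edist_le hle) (h2e ▸ SimpleGraph.edist_le_ediam)
  rw [SimpleGraph.diam, hd]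
  rfl

end Cfsg.Agent.S3265
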