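import Cfsg.Statements.S3266
import Cfsg.Agent.Lib.Dickson.OddProduct

set_option autoImplicit false
open Cfsg

namespace Cfsg.Agent.S3266

/-- Let F be a finite field with at least 4 elements and let X be a conjugacy class of involutions of PSL(2, F). The graph on X joining two distinct involutions whose product has odd order is connected and has diameter exactly 2. -/
theorem result {F : Type*} [Field F] [Fintype F] (hF : 4 ≤ Fintype.card F)
    (t : Matrix.ProjectiveSpecialLinearGroup (Fin 2) F) (ht : orderOf t = 2) :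
    (SimpleGraph.fromRel fun x y : {x : Matrix.ProjectiveSpecialLinearGroup (Fin 2) F // IsConj t x} =>
        Odd (orderOf (x.1 * y.1))).Connected ∧
      (SimpleGraph.fromRel fun x y : {x : Matrix.ProjectiveSpecialLinearGroup (Fin 2) F // IsConj t x} =>
        Odd (orderOf (x.1 * y.1))).diam = 2 := by
  classical
  set G := SimpleGraph.fromRel fun x y : {x : Matrix.ProjectiveSpecialLinearGroup (Fin 2) F // IsConj t x} =>
    Odd (orderOf (x.1 * y.1)) with hG
  have hord : ∀ x : {x : Matrix.ProjectiveSpecialLinearGroup (Fin 2) F // IsConj t x}, orderOf x.1 = 2 := by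
    rintro ⟨x, hx⟩
    obtain ⟨c, rfl⟩ := isConj_iff.mp hx
    show orderOf (c * t * c⁻¹) = 2
    rw [← MulAut.conj_apply c t, MulEquiv.orderOf_eq, ht]
  have hadj : ∀ x y, x ≠ y → Odd (orderOf (x.1 * y.1)) → G.Adj x y := fun x y hne h =>
    (SimpleGraph.fromRel_adj _ _ _).mpr ⟨hne, Or.inl h⟩
  have hwalk : ∀ x y, ∃ w : G.Walk x y, w.length ≤ 2 := by
    intro x y
    by_cases hxy : x = y
    · subst hxy; exact ⟨.nil, by simp⟩
    by_cases ho : Odd (orderOf (x.1 * y.1))
    · exact ⟨.cons (hadj x y hxy ho) .nil, by simp⟩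
    obtain ⟨z, hz, hxz, hzy⟩ := Cfsg.Lib.Dickson.exists_odd_bridge hF (hord x) (hord y) ho
    let z' : {x : Matrix.ProjectiveSpecialLinearGroup (Fin 2) F // IsConj t x} :=
      ⟨z, Cfsg.Lib.Dickson.isConj_of_involutions hF ht hz⟩
    exact ⟨.cons (hadj x z' (fun e => ho (by rw [show x.1 = z from congrArg Subtype.val e]; exact hzy)) hxz)
      (.cons (hadj z' y (fun e => ho (by rw [show y.1 = z from (congrArg Subtype.val e).symm]; exact hxz)) hzy) .nil),
      by simp⟩
  haveI : Nonempty {x : Matrix.ProjectiveSpecialLinearGroup (Fin 2) F // IsConj t x} := ⟨⟨t, IsConj.refl t⟩⟩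
  refine ⟨⟨fun x y => ⟨(hwalk x y).choose⟩⟩, ?_⟩
  obtain ⟨X, Y, hX, hY, hne, hev⟩ := Cfsg.Lib.Dickson.exists_involutions_even_product (F := F) hF
  let x : {x : Matrix.ProjectiveSpecialLinearGroup (Fin 2) F // IsConj t x} :=
    ⟨X, Cfsg.Lib.Dickson.isConj_of_involutions hF ht hX⟩
  let y : {x : Matrix.ProjectiveSpecialLinearGroup (Fin 2) F // IsConj t x} :=
    ⟨Y, Cfsg.Lib.Dickson.isConj_of_involutions hF ht hY⟩
  have hle : G.ediam ≤ 2 := SimpleGraph.ediam_le_of_edist_le fun u v => by
    obtain ⟨w, hw⟩ := hwalk u v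
    exact (SimpleGraph.edist_le w).trans (by exact_mod_cast hw)
  have h1 : ¬ G.edist x y ≤ 1 := by
    rw [SimpleGraph.edist_le_one_iff_adj_or_eq]
    rintro (h | h)
    · rcases ((SimpleGraph.fromRel_adj _ _ _).mp h).2 with h | h
      · exact hev h
      · exact hev (by rw [Cfsg.Lib.Dickson.odd_orderOf_comm]; exact h)
    · exact hne (congrArg Subtype.val h)
  have hge : (2 : ℕ∞) ≤ G.ediam := by
    refine le_trans ?_ (SimpleGraph.edist_le_ediam (u := x) (v := y))
    rw [not_le] at h1
    have := Order.add_one_le_of_lt h1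
    rwa [one_add_one_eq_two] at this
  rw [SimpleGraph.diam, le_antisymm hle hge]
  rfl

end Cfsg.Agent.S3266
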