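import Cfsg.Statements.S3269
import Mathlib
import Cfsg.Agent.Lib.ZStar.Main

set_option autoImplicit false
open Cfsg
open scoped IsMulCommutative

namespace Cfsg.Agent.S3269

/-- The involution of a generalized quaternion subgroup and a square root of it. -/
theorem exists_core_involution {G : Type*} [Group G] {Q : Subgroup G} {n : ℕ} (hn : 1 ≤ n)
    (e : ↥Q ≃* QuaternionGroup (2 ^ n)) :
    ∃ z : G, orderOf z = 2 ∧ z ∈ Q ∧ (∀ q ∈ Q, q * q = 1 → q = 1 ∨ q = z) ∧
      ∃ y : G, y ∈ Q ∧ y * y = z ∧ ∀ q ∈ Q, q * z = z * q := by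
  haveI : NeZero (2 ^ n) := ⟨by positivity⟩
  set m := 2 ^ n with hm
  have hm2 : 2 ≤ m := le_trans (le_refl 2) (by rw [hm]; exact Nat.le_self_pow (by omega) 2)
  have hne : ((m : ℕ) : ZMod (2 * m)) ≠ 0 := by
    intro h
    rw [ZMod.natCast_eq_zero_iff ] at h
    exact absurd (Nat.le_of_dvd (by omega) h) (by omega)
  have h2m : ((m : ℕ) : ZMod (2 * m)) + (m : ℕ) = 0 := by
    rw [← Nat.cast_add, ← two_mul, ZMod.natCast_self]
  have hzero : ∀ i : ZMod (2 * m), i + i = 0 → i = 0 ∨ i = (m : ℕ) := by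
    intro i hi
    rw [← ZMod.natCast_rightInverse i, ← Nat.cast_add, ZMod.natCast_eq_zero_iff] at hi
    have hlt := ZMod.val_lt i
    obtain ⟨k, hk⟩ := hi
    have : k < 2 := by nlinarith
    rw [← ZMod.natCast_rightInverse i]
    rcases (show k = 0 ∨ k = 1 by omega) with rfl | rfl
    · left; rw [show i.val = 0 by omega]; simp
    · right; rw [show i.val = m by omega]
  have hsqQ : ∀ q : QuaternionGroup m, q * q = 1 → q = 1 ∨ q = QuaternionGroup.a (m : ℕ) := by
    rintro (i | i) h
    · rw [QuaternionGroup.a_mul_a, QuaternionGroup.one_def] at h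
      rcases hzero i (QuaternionGroup.a.inj h) with rfl | rfl
      · exact Or.inl rfl
      · exact Or.inr rfl
    · rw [QuaternionGroup.xa_mul_xa, QuaternionGroup.one_def] at h
      exact absurd (by simpa using QuaternionGroup.a.inj h) hne
  refine ⟨(e.symm (QuaternionGroup.a (m : ℕ)) : G), ?_, (e.symm _).2, ?_,
    (e.symm (QuaternionGroup.xa 0) : G), (e.symm _).2, ?_, ?_⟩
  · rw [Subgroup.orderOf_coe, MulEquiv.orderOf_eq]
    refine orderOf_eq_prime ?_ ?_
    · rw [pow_two, QuaternionGroup.a_mul_a, h2m]; rfl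
    · rw [QuaternionGroup.one_def]
      exact fun h => hne (QuaternionGroup.a.inj h)
  · intro q hq hqq
    have h' : e ⟨q, hq⟩ * e ⟨q, hq⟩ = 1 := by
      rw [← map_mul, show (⟨q, hq⟩ : Q) * ⟨q, hq⟩ = 1 from Subtype.ext hqq, map_one]
    rcases hsqQ _ h' with h | h
    · left
      have := congrArg e.symm h
      rw [e.symm_apply_apply, map_one] at this
      exact congrArg Subtype.val this
    · right
      have := congrArg e.symm h
      rw [e.symm_apply_apply] at this
      exact congrArg Subtype.val this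
  · rw [← Subgroup.coe_mul, ← map_mul, QuaternionGroup.xa_mul_xa]
    congr 2
    simp
  · intro q hq
    have h' : e ⟨q, hq⟩ * QuaternionGroup.a (m : ℕ) = QuaternionGroup.a (m : ℕ) * e ⟨q, hq⟩ := by
      rcases e ⟨q, hq⟩ with i | i
      · rw [QuaternionGroup.a_mul_a, QuaternionGroup.a_mul_a, add_comm]
      · rw [QuaternionGroup.xa_mul_a, QuaternionGroup.a_mul_xa]
        congr 1
        linear_combination h2m
    have := congrArg e.symm h'
    rw [map_mul, map_mul, e.symm_apply_apply] at this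
    exact congrArg Subtype.val this

theorem quaternion_center_sq {G : Type*} [Group G] {Q : Subgroup G} {n : ℕ} (hn : 1 ≤ n)
    (e : ↥Q ≃* QuaternionGroup (2 ^ n)) {q : G} (hq : q ∈ Q) (hc : ∀ x ∈ Q, x * q = q * x) :
    q * q = 1 := by
  have hc' : ∀ y, y * e ⟨q, hq⟩ = e ⟨q, hq⟩ * y := by
    intro y
    obtain ⟨⟨x, hx⟩, rfl⟩ := e.surjective y
    rw [← map_mul, ← map_mul]
    exact congrArg e (Subtype.ext (hc x hx))
  have h2 : ((2 : ℕ) : ZMod (2 * 2 ^ n)) ≠ 0 := by
    intro h
    rw [ZMod.natCast_eq_zero_iff] at h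
    have := Nat.le_of_dvd two_pos h
    have : 2 ≤ 2 ^ n := Nat.le_self_pow (by omega) 2
    omega
  have hsq : e ⟨q, hq⟩ * e ⟨q, hq⟩ = 1 := by
    rcases he : e ⟨q, hq⟩ with i | i
    · have h := hc' (QuaternionGroup.xa 0)
      rw [he, QuaternionGroup.xa_mul_a, QuaternionGroup.a_mul_xa] at h
      have h' := QuaternionGroup.xa.inj h
      rw [QuaternionGroup.a_mul_a, QuaternionGroup.one_def]
      congr 1
      linear_combination h'
    · exfalso
      have h := hc' (QuaternionGroup.a 1)
      rw [he, QuaternionGroup.xa_mul_a, QuaternionGroup.a_mul_xa] at h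
      have h' := QuaternionGroup.xa.inj h
      apply h2
      push_cast
      linear_combination -h'
  have := congrArg e.symm hsq
  rw [map_mul, map_one, e.symm_apply_apply] at this
  exact congrArg Subtype.val this

theorem quaternion_not_comm {G : Type*} [Group G] {Q : Subgroup G} {n : ℕ} (hn : 1 ≤ n)
    (e : ↥Q ≃* QuaternionGroup (2 ^ n)) : ∃ u ∈ Q, ∃ v ∈ Q, u * v ≠ v * u := by
  refine ⟨_, (e.symm (QuaternionGroup.a 1)).2, _, (e.symm (QuaternionGroup.xa 0)).2, fun h => ?_⟩
  have h0 : e.symm (QuaternionGroup.a 1) * e.symm (QuaternionGroup.xa 0) =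
      e.symm (QuaternionGroup.xa 0) * e.symm (QuaternionGroup.a 1) := Subtype.ext h
  have h' := congrArg e h0
  simp only [map_mul, e.apply_symm_apply, QuaternionGroup.a_mul_xa, QuaternionGroup.xa_mul_a] at h'
  have h'' := QuaternionGroup.xa.inj h'
  have h2 : ((2 : ℕ) : ZMod (2 * 2 ^ n)) = 0 := by push_cast; linear_combination -h''
  rw [ZMod.natCast_eq_zero_iff] at h2
  have := Nat.le_of_dvd two_pos h2
  have : 2 ≤ 2 ^ n := Nat.le_self_pow (by omega) 2
  omega


/-- Let G be a finite group whose Sylow 2-subgroup S is an internal direct product Q × R with Q generalized quaternion (of order at least 8) and R a subgroup all of whose involutions are central in R. Then G is not simple. In particular no finite simple group has a Sylow 2-subgroup that is a direct product of one or more generalized quaternion groups. -/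
theorem result {G : Type*} [Group G] [Finite G]
    (S : Sylow 2 G) (Q R : Subgroup G) (hQR : Cfsg.IsInternalDirectProduct Q R (S : Subgroup G))
    (n : ℕ) (hn : 1 ≤ n) (eQ : ↥Q ≃* QuaternionGroup (2 ^ n))
    (hR : ∀ r ∈ R, orderOf r = 2 → ∀ s ∈ R, r * s = s * r) :
    ¬ IsSimpleGroup G := by
  classical
  haveI : Fact (Nat.Prime 2) := ⟨Nat.prime_two⟩
  obtain ⟨hQS, hRS, hcomm, hdisj, hsup⟩ := hQR
  intro hsimple
  haveI := hsimple
  obtain ⟨z, hz2, hzQ, hzu, y, hyQ, hyz, hzc⟩ := exists_core_involution hn eQ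
  have hdec : ∀ s ∈ (S : Subgroup G), ∃ q ∈ Q, ∃ r ∈ R, s = q * r := by
    intro s hs
    rw [← hsup] at hs
    have hle : R ≤ Subgroup.normalizer (Q : Set G) := fun r hr => Subgroup.mem_normalizer_iff.mpr fun q => by
      constructor
      · intro hq
        rw [← hcomm q hq r hr, mul_inv_cancel_right]; exact hq
      · intro hq
        have h1 := hcomm _ hq r hr
        have h2 : r * q * r⁻¹ = q := by
          calc r * q * r⁻¹ = r⁻¹ * (r * (r * q * r⁻¹)) := by group
            _ = r⁻¹ * ((r * q * r⁻¹) * r) := by rw [h1]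
            _ = q := by group
        rwa [h2] at hq
    rw [← SetLike.mem_coe, Subgroup.coe_mul_of_right_le_normalizer_left Q R hle] at hs
    obtain ⟨q, hq, r, hr, rfl⟩ := Set.mem_mul.mp hs
    exact ⟨q, hq, r, hr, rfl⟩
  have huniq : ∀ {q r q' r' : G}, q ∈ Q → r ∈ R → q' ∈ Q → r' ∈ R → q * r = q' * r' → q = q' := by
    intro q r q' r' hq hr hq' hr' h
    have h1 : q'⁻¹ * q = r' * r⁻¹ := by
      calc q'⁻¹ * q = q'⁻¹ * (q * r) * r⁻¹ := by group
        _ = r' * r⁻¹ := by rw [h]; group
    have h2 : q'⁻¹ * q ∈ Q ⊓ R := ⟨Q.mul_mem (Q.inv_mem hq') hq, h1 ▸ R.mul_mem hr' (R.inv_mem hr)⟩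
    rw [hdisj, Subgroup.mem_bot] at h2
    exact (inv_mul_eq_one.mp h2).symm
  have hsq : ∀ {q r : G}, q ∈ Q → r ∈ R → (q * r) * (q * r) = (q * q) * (r * r) := by
    intro q r hq hr
    rw [mul_assoc, ← mul_assoc r q r, ← hcomm q hq r hr]
    group
  -- involutions of `S` are central in `S`
  have hinv : ∀ v ∈ (S : Subgroup G), v * v = 1 → ∀ s ∈ (S : Subgroup G), s * v = v * s := by
    intro v hv hvv s hs
    obtain ⟨q, hq, r, hr, rfl⟩ := hdec v hv
    obtain ⟨q', hq', r', hr', rfl⟩ := hdec s hs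
    rw [hsq hq hr] at hvv
    have hqq : q * q = 1 := huniq (Q.mul_mem hq hq) (R.mul_mem hr hr) Q.one_mem R.one_mem (by rw [hvv, one_mul])
    have hrr : r * r = 1 := by rwa [hqq, one_mul] at hvv
    have hqc : q' * q = q * q' := by
      rcases hzu q hq hqq with rfl | rfl
      · simp
      · exact hzc q' hq'
    have hrc : r' * r = r * r' := by
      rcases eq_or_ne r 1 with rfl | hr1
      · simp
      · exact (hR r hr (orderOf_eq_prime (by rw [pow_two, hrr]) hr1) r' hr').symm
    calc q' * r' * (q * r) = q' * (r' * q) * r := by group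
      _ = q' * (q * r') * r := by rw [hcomm q hq r' hr']
      _ = (q' * q) * (r' * r) := by group
      _ = (q * q') * (r * r') := by rw [hqc, hrc]
      _ = q * (q' * r) * r' := by group
      _ = q * (r * q') * r' := by rw [hcomm q' hq' r hr]
      _ = q * r * (q' * r') := by group
  set N := Subgroup.normalizer ((S : Subgroup G) : Set G) with hN
  have hNS : ∀ (n : N) {s : G}, s ∈ (S : Subgroup G) → (n : G) * s * (n : G)⁻¹ ∈ (S : Subgroup G) := fun n s hs =>
    (Subgroup.mem_normalizer_iff.mp n.2 s).mp hs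
  have hzz : z * z = 1 := Cfsg.Lib.Invol.inv_mul_self hz2
  -- moved copies of `z` lie in `R`
  have hmoved : ∀ n : N, (n : G) * z * (n : G)⁻¹ ≠ z → (n : G) * z * (n : G)⁻¹ ∈ R := by
    intro n hne
    have hQn : ∀ s ∈ (S : Subgroup G), ∀ q ∈ Q, s * q * s⁻¹ ∈ Q := by
      intro s hs q hq
      obtain ⟨q', hq', r', hr', rfl⟩ := hdec s hs
      have : q' * r' * q * (q' * r')⁻¹ = q' * q * q'⁻¹ := by
        rw [mul_assoc q' r' q, ← hcomm q hq r' hr']; group
      rw [this]
      exact Q.mul_mem (Q.mul_mem hq' hq) (Q.inv_mem hq')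
    have ha : (n : G) * y * (n : G)⁻¹ ∈ (S : Subgroup G) := hNS n (hQS hyQ)
    obtain ⟨q₀, hq₀, r₀, hr₀, hqr⟩ := hdec _ ha
    have hint : ∀ w, w ∈ Q → (n : G)⁻¹ * w * (n : G) ∈ Q → w = 1 := by
      intro w hw hw'
      by_contra hw1
      haveI : Nontrivial (Q ⊓ Q.map (MulAut.conj (n : G)).toMonoidHom : Subgroup G) :=
        (Subgroup.nontrivial_iff_ne_bot _).mpr fun h => hw1 (by
          have : w ∈ Q ⊓ Q.map (MulAut.conj (n : G)).toMonoidHom :=
            ⟨hw, Subgroup.mem_map.mpr ⟨_, hw', by simp [mul_assoc]⟩⟩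
          rwa [h, Subgroup.mem_bot] at this)
      set I := (Q ⊓ Q.map (MulAut.conj (n : G)).toMonoidHom : Subgroup G) with hI
      have hIp : IsPGroup 2 I := S.2.to_le (inf_le_left.trans hQS)
      obtain ⟨j, hcard⟩ := IsPGroup.iff_card.mp hIp
      have hj : 0 < j := by
        rcases Nat.eq_zero_or_pos j with h | h
        · rw [h, pow_zero] at hcard
          exact absurd hcard (Finite.one_lt_card (α := I)).ne'
        · exact h
      obtain ⟨i, hi⟩ := exists_prime_orderOf_dvd_card' (G := I) 2 (hcard ▸ dvd_pow_self 2 hj.ne')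
      have hi2 : (i : G) * i = 1 := by
        rw [← pow_two, ← hi, ← SubmonoidClass.coe_pow, pow_orderOf_eq_one]; rfl
      have hi1 : (i : G) ≠ 1 := fun h => by
        rw [← Subgroup.orderOf_coe, h, orderOf_one] at hi; omega
      have e1 : (i : G) = z := (hzu _ i.2.1 hi2).resolve_left hi1
      obtain ⟨i', hi', hii⟩ := Subgroup.mem_map.mp i.2.2
      simp only [MulEquiv.coe_toMonoidHom, MulAut.conj_apply] at hii
      have e2 : i' = z := by
        refine (hzu i' hi' ?_).resolve_left fun h => hi1 (by rw [← hii, h]; group)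
        calc i' * i' = (n : G)⁻¹ * (((n : G) * i' * (n : G)⁻¹) * ((n : G) * i' * (n : G)⁻¹)) * (n : G) := by group
          _ = 1 := by rw [hii, hi2]; group
      exact hne (by rw [← e2, hii, e1, e2])
    have hac : ∀ q ∈ Q, q * ((n : G) * y * (n : G)⁻¹) = ((n : G) * y * (n : G)⁻¹) * q := by
      intro q hq
      set a := (n : G) * y * (n : G)⁻¹ with ha'
      have h1 : q * a * q⁻¹ * a⁻¹ = 1 := by
        refine hint _ ?_ ?_
        · have := Q.mul_mem hq (hQn a ha _ (Q.inv_mem hq))
          convert this using 1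
          group
        · have hs : (n : G)⁻¹ * q * (n : G) ∈ (S : Subgroup G) := by
            have := (Subgroup.mem_normalizer_iff.mp (N.inv_mem n.2) q).mp (hQS hq)
            simpa using this
          have := Q.mul_mem (hQn _ hs y hyQ) (Q.inv_mem hyQ)
          convert this using 1
          rw [ha']; group
      calc q * a = q * a * q⁻¹ * a⁻¹ * (a * q) := by group
        _ = a * q := by rw [h1, one_mul]
    have hq₀c : ∀ q ∈ Q, q * q₀ = q₀ * q := by
      intro q hq
      have h1 := hac q hq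
      rw [hqr, mul_assoc q₀ r₀ q, ← hcomm q hq r₀ hr₀, ← mul_assoc, ← mul_assoc] at h1
      exact mul_right_cancel h1
    have h2 : q₀ * q₀ = 1 := quaternion_center_sq hn eQ hq₀ hq₀c
    have h3 : (n : G) * z * (n : G)⁻¹ = (q₀ * r₀) * (q₀ * r₀) := by
      rw [← hqr, ← hyz]; group
    rw [h3, hsq hq₀ hr₀, h2, one_mul]
    exact R.mul_mem hr₀ hr₀
  -- the product of the orbit
  let Z := Subgroup.center ↥(S : Subgroup G)
  have hmemZ : ∀ v (hv : v ∈ (S : Subgroup G)), v * v = 1 → (⟨v, hv⟩ : ↥(S : Subgroup G)) ∈ Z := fun v hv hvv =>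
    Subgroup.mem_center_iff.mpr fun s => Subtype.ext (hinv v hv hvv s s.2)
  have hconjsq : ∀ n : N, ((n : G) * z * (n : G)⁻¹) * ((n : G) * z * (n : G)⁻¹) = 1 := fun n => by
    calc _ = (n : G) * (z * z) * (n : G)⁻¹ := by group
      _ = 1 := by rw [hzz]; group
  let orb : N → Z := fun n => ⟨⟨_, hNS n (hQS hzQ)⟩, hmemZ _ _ (hconjsq n)⟩
  letI : Fintype N := Fintype.ofFinite _
  set O : Finset Z := Finset.univ.image orb with hO
  set W : Z := ∏ v ∈ O, v with hW
  set w : G := ((W : ↥(S : Subgroup G)) : G) with hw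
  have hWW : w * w = 1 := by
    have : W * W = 1 := by
      rw [hW, ← Finset.prod_mul_distrib]
      refine Finset.prod_eq_one fun v hv => ?_
      obtain ⟨n, -, rfl⟩ := Finset.mem_image.mp hv
      exact Subtype.ext (Subtype.ext (hconjsq n))
    exact congrArg (fun x : Z => ((x : ↥(S : Subgroup G)) : G)) this
  have hwR : w ∉ R := by
    have hz0 : orb 1 ∈ O := Finset.mem_image_of_mem _ (Finset.mem_univ _)
    let RZ : Subgroup Z := (R.comap (S : Subgroup G).subtype).comap Z.subtype
    have hrest : (∏ v ∈ O.erase (orb 1), v) ∈ RZ := by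
      refine Subgroup.prod_mem _ fun v hv => ?_
      obtain ⟨hne, hv⟩ := Finset.mem_erase.mp hv
      obtain ⟨n, -, rfl⟩ := Finset.mem_image.mp hv
      refine hmoved n fun he => hne (Subtype.ext (Subtype.ext ?_))
      show (n : G) * z * (n : G)⁻¹ = ((1 : N) : G) * z * ((1 : N) : G)⁻¹
      rw [he]; simp
    intro hwR
    have h1 : W ∈ RZ := hwR
    rw [hW, ← Finset.mul_prod_erase O (fun v => v) hz0, RZ.mul_mem_cancel_right hrest] at h1
    have h2 : z ∈ Q ⊓ R := ⟨hzQ, by
      have h1' : ((1 : N) : G) * z * ((1 : N) : G)⁻¹ ∈ R := h1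
      simpa using h1'⟩
    rw [hdisj, Subgroup.mem_bot] at h2
    exact Cfsg.Lib.Invol.ne_one hz2 h2
  have hw1 : w ≠ 1 := fun h => hwR (h ▸ R.one_mem)
  have hwfix : ∀ n : N, (n : G) * w * (n : G)⁻¹ = w := by
    intro n
    let φ : Z →* Z :=
      { toFun := fun x => ⟨⟨_, hNS n (x : ↥(S : Subgroup G)).2⟩, Subgroup.mem_center_iff.mpr fun s => by
          apply Subtype.ext
          have hs : (n : G)⁻¹ * s * (n : G) ∈ (S : Subgroup G) := by
            have := (Subgroup.mem_normalizer_iff.mp (N.inv_mem n.2) s).mp s.2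
            simpa using this
          have h := congrArg Subtype.val (Subgroup.mem_center_iff.mp x.2 ⟨_, hs⟩)
          simp only [Subgroup.coe_mul] at h ⊢
          calc (s : G) * ((n : G) * ((x : ↥(S : Subgroup G)) : G) * (n : G)⁻¹)
              = (n : G) * ((n : G)⁻¹ * s * (n : G) * ((x : ↥(S : Subgroup G)) : G)) * (n : G)⁻¹ := by group
            _ = _ := by rw [h]; group⟩
        map_one' := Subtype.ext (Subtype.ext (by simp))
        map_mul' := fun a b => Subtype.ext (Subtype.ext (by simp [mul_assoc])) }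
    have hφinj : Function.Injective φ := by
      intro a b h
      refine Subtype.ext (Subtype.ext ?_)
      have := congrArg (fun x : Z => ((x : ↥(S : Subgroup G)) : G)) h
      exact mul_left_cancel (mul_right_cancel this)
    have hφO : O.image φ = O := by
      refine Finset.eq_of_subset_of_card_le ?_ (by rw [Finset.card_image_of_injective _ hφinj])
      intro v hv
      obtain ⟨u, hu, rfl⟩ := Finset.mem_image.mp hv
      obtain ⟨m, -, rfl⟩ := Finset.mem_image.mp hu
      refine Finset.mem_image.mpr ⟨n * m, Finset.mem_univ _, Subtype.ext (Subtype.ext ?_)⟩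
      show ((n * m : N) : G) * z * ((n * m : N) : G)⁻¹ = (n : G) * ((m : G) * z * (m : G)⁻¹) * (n : G)⁻¹
      simp [mul_assoc]
    have h1 : φ W = W := by
      conv_rhs => rw [hW, ← hφO, Finset.prod_image (fun a _ b _ h => hφinj h)]
      rw [hW, map_prod]
    exact congrArg (fun x : Z => ((x : ↥(S : Subgroup G)) : G)) h1
  have hwS : w ∈ (S : Subgroup G) := (W : ↥(S : Subgroup G)).2
  have hwo : orderOf w = 2 := Cfsg.Lib.Invol.orderOf_eq_two_of hw1 hWW
  have hiso : Cfsg.IsIsolatedInvolution w := by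
    refine Cfsg.Lib.Invol.isolated_of_sylow S hwo fun g hg => ?_
    obtain ⟨m, hm, he⟩ := S.conj_eq_normalizer_conj_of_mem_centralizer w g⁻¹
      (Subgroup.mem_centralizer_iff.mpr fun s hs => hinv w hwS hWW s hs)
      (by
        rw [inv_inv]
        refine Subgroup.mem_centralizer_iff.mpr fun s hs => hinv _ hg ?_ s hs
        calc _ = g * (w * w) * g⁻¹ := by group
          _ = 1 := by rw [hWW]; group)
    rw [inv_inv] at he
    rw [he]
    have := hwfix ⟨m⁻¹, N.inv_mem hm⟩
    simpa using this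
  have hO : Cfsg.oddCore G = ⊥ := by
    rcases Subgroup.Normal.eq_bot_or_eq_top (H := Cfsg.oddCore G) (Cfsg.pPrimeCore_normal 2 G) with h | h
    · exact h
    · exact absurd (h ▸ Subgroup.mem_top w) (Cfsg.Lib.ZStar.notMem_oddCore hwo)
  have hwZ := Cfsg.Lib.ZStar.mem_center_of_isolated hO hiso
  rcases Subgroup.Normal.eq_bot_or_eq_top (H := Subgroup.center G) inferInstance with h | h
  · rw [h, Subgroup.mem_bot] at hwZ; exact hw1 hwZ
  · obtain ⟨u, hu, v, hv, huv⟩ := quaternion_not_comm hn eQ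
    exact huv (Subgroup.mem_center_iff.mp (h ▸ Subgroup.mem_top v) u)

end Cfsg.Agent.S3269
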