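import Cfsg.Statements.S3276
import Cfsg.Agent.Lib.Invol.Basic

set_option autoImplicit false
open Cfsg

namespace Cfsg.Agent.S3276

/-- Let x and y be commuting, non-conjugate involutions of a finite group G, and suppose that for every involution u commuting with x, each conjugate of y that commutes with u also commutes with y. Then the normal closure of y is a proper, normal, elementary abelian 2-subgroup of G; and if y is the only involution of that normal closure commuting with x, it has order at most 4. -/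
theorem result {G : Type*} [Group G] [Finite G] (x y : G) (hx : orderOf x = 2) (hy : orderOf y = 2)
    (hxy : Commute x y) (hnc : ¬ IsConj x y)
    (hstar : ∀ u : G, orderOf u = 2 → Commute u x → ∀ g : G, Commute (g * y * g⁻¹) u → Commute (g * y * g⁻¹) y) :
    Subgroup.normalClosure ({y} : Set G) ≠ ⊤ ∧ Cfsg.IsElementaryAbelian 2 (Subgroup.normalClosure ({y} : Set G)) ∧
      ((∀ u ∈ Subgroup.normalClosure ({y} : Set G), orderOf u = 2 → Commute u x → u = y) →
        Nat.card ↥(Subgroup.normalClosure ({y} : Set G)) ≤ 4) := by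
  have hconj : ∀ g : G, orderOf (g * y * g⁻¹) = 2 := fun g => by
    rw [Cfsg.Lib.Invol.orderOf_conj_eq, hy]
  have step : ∀ g : G, Commute (g * y * g⁻¹) y := by
    intro g
    have heven : Even (orderOf (x * (g * y * g⁻¹))) := by
      rw [← Nat.not_odd_iff_even]
      intro hodd
      exact hnc ((Cfsg.Lib.Invol.isConj_of_odd hx (hconj g) hodd).trans (isConj_iff.2 ⟨g⁻¹, by group⟩))
    obtain ⟨h1, h2, h3⟩ := Cfsg.Lib.Invol.central_involution hx (hconj g) heven
    exact hstar _ h1 h2 g h3.symm
  have pair : ∀ a b : G, Commute (a * y * a⁻¹) (b * y * b⁻¹) := by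
    intro a b
    have h := (step (b⁻¹ * a)).map (MulAut.conj b).toMonoidHom
    simpa [mul_assoc] using h
  set N := Subgroup.normalClosure ({y} : Set G) with hN
  have hgen : ∀ u ∈ Group.conjugatesOfSet ({y} : Set G), ∃ a : G, u = a * y * a⁻¹ := by
    intro u hu
    obtain ⟨z, hz, hc⟩ := Group.mem_conjugatesOfSet_iff.1 hu
    rw [Set.mem_singleton_iff] at hz
    subst hz
    obtain ⟨c, hc'⟩ := isConj_iff.1 hc
    exact ⟨c, hc'.symm⟩
  have hab : ∀ u ∈ N, ∀ v ∈ N, u * v = v * u := by
    have h1 : N ≤ Subgroup.centralizer (Group.conjugatesOfSet ({y} : Set G)) := by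
      rw [hN, Subgroup.normalClosure, Subgroup.closure_le]
      intro u hu
      rw [SetLike.mem_coe, Subgroup.mem_centralizer_iff]
      intro v hv
      obtain ⟨a, rfl⟩ := hgen u hu
      obtain ⟨b, rfl⟩ := hgen v hv
      exact (pair b a).eq
    intro u hu v hv
    have h2 : N ≤ Subgroup.centralizer ({u} : Set G) := by
      rw [hN, Subgroup.normalClosure, Subgroup.closure_le]
      intro w hw
      rw [SetLike.mem_coe, Subgroup.mem_centralizer_singleton_iff]
      exact Subgroup.mem_centralizer_iff.1 (h1 hu) w hw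
    exact (Subgroup.mem_centralizer_singleton_iff.1 (h2 hv)).symm
  have hsq : ∀ u ∈ N, u ^ 2 = 1 := by
    let S : Subgroup G :=
      { carrier := {u | u ∈ N ∧ u ^ 2 = 1}
        one_mem' := ⟨one_mem _, one_pow 2⟩
        mul_mem' := fun {a b} ha hb => ⟨mul_mem ha.1 hb.1, by
          rw [Commute.mul_pow (hab a ha.1 b hb.1), ha.2, hb.2, one_mul]⟩
        inv_mem' := fun {a} ha => ⟨inv_mem ha.1, by rw [inv_pow, ha.2, inv_one]⟩ }
    have h1 : N ≤ S := by
      rw [hN, Subgroup.normalClosure, Subgroup.closure_le]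
      intro u hu
      refine ⟨Subgroup.conjugatesOfSet_subset_normalClosure hu, ?_⟩
      obtain ⟨a, rfl⟩ := hgen u hu
      rw [← hconj a, pow_orderOf_eq_one]
    exact fun u hu => (h1 hu).2
  have hyN : y ∈ N := Subgroup.subset_normalClosure (Set.mem_singleton y)
  refine ⟨fun htop => hnc ?_, ⟨⟨⟨fun a b => Subtype.ext (hab a a.2 b b.2)⟩⟩, hsq⟩, fun huniq => ?_⟩
  · exfalso
    have hall : ∀ u v : G, u * v = v * u := fun u v =>
      hab u (htop ▸ Subgroup.mem_top u) v (htop ▸ Subgroup.mem_top v)
    have hz : (Subgroup.zpowers y).Normal := ⟨fun n hn g => by rw [hall g n, mul_inv_cancel_right]; exact hn⟩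
    have hxy' : x ∈ Subgroup.zpowers y :=
      Subgroup.normalClosure_le_normal (N := Subgroup.zpowers y)
        (Set.singleton_subset_iff.2 (Subgroup.mem_zpowers y)) (show x ∈ N by rw [htop]; exact Subgroup.mem_top x)
    have hx2 : Nat.card ↥(Subgroup.zpowers y) = 2 := by rw [Nat.card_zpowers, hy]
    obtain ⟨k, rfl⟩ := Subgroup.mem_zpowers_iff.1 hxy'
    rcases Int.even_or_odd k with ⟨m, hm⟩ | ⟨m, hm⟩
    · rw [hm, ← two_mul, zpow_mul, zpow_two, Cfsg.Lib.Invol.inv_mul_self hy, one_zpow, orderOf_one] at hx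
      omega
    · apply hnc
      rw [hm, zpow_add, zpow_mul, zpow_two, Cfsg.Lib.Invol.inv_mul_self hy, one_zpow, one_mul, zpow_one]
  · let φ : ↥N →* ↥N :=
      { toFun := fun n => ⟨(n : G) * (x * (n : G) * x⁻¹), mul_mem n.2 (Subgroup.normalClosure_normal.conj_mem _ n.2 x)⟩
        map_one' := Subtype.ext (by simp)
        map_mul' := fun a b => Subtype.ext (by
          show (a : G) * b * (x * ((a : G) * b) * x⁻¹) = (a : G) * (x * a * x⁻¹) * ((b : G) * (x * b * x⁻¹))
          have := hab (b : G) b.2 _ (Subgroup.normalClosure_normal.conj_mem _ a.2 x)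
          calc (a : G) * b * (x * ((a : G) * b) * x⁻¹) = (a : G) * ((b : G) * (x * a * x⁻¹)) * (x * b * x⁻¹) := by group
            _ = (a : G) * ((x * a * x⁻¹) * b) * (x * b * x⁻¹) := by rw [this]
            _ = _ := by group) }
    have hxx : x * x = 1 := Cfsg.Lib.Invol.inv_mul_self hx
    have hxi : x⁻¹ = x := Cfsg.Lib.Invol.inv_eq_self hx
    have hfix : ∀ n : ↥N, x * (n : G) * x⁻¹ = n → n = 1 ∨ n = ⟨y, hyN⟩ := by
      intro n hn
      by_cases h1 : n = 1
      · exact Or.inl h1
      · refine Or.inr (Subtype.ext (huniq n n.2 (orderOf_eq_prime (hsq n n.2) fun h => h1 (Subtype.ext h)) ?_))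
        exact (mul_inv_eq_iff_eq_mul.1 hn).symm
    have hS : ∀ (K : Subgroup ↥N), (∀ n ∈ K, x * (n : G) * x⁻¹ = n) → Nat.card K ≤ 2 := by
      intro K hK
      classical
      rw [← Nat.card_fin 2]
      refine Nat.card_le_card_of_injective (fun n : K => if (n : ↥N) = 1 then (0 : Fin 2) else 1) ?_
      intro a b hab'
      rcases hfix a (hK a a.2) with ha | ha <;> rcases hfix b (hK b b.2) with hb | hb <;>
        first
        | exact Subtype.ext (ha.trans hb.symm)
        | (exfalso; simp [ha, hb, Subtype.ext_iff, Cfsg.Lib.Invol.ne_one hy] at hab')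
    have hk : Nat.card φ.ker ≤ 2 := hS _ fun n hn => by
      have h1 : (n : G) * (x * (n : G) * x⁻¹) = 1 := congrArg Subtype.val (MonoidHom.mem_ker.1 hn)
      have h2 : (n : G) * (n : G) = 1 := by rw [← pow_two]; exact hsq n n.2
      exact mul_left_cancel (h1.trans h2.symm)
    have hr : Nat.card φ.range ≤ 2 := hS _ fun m hm => by
      obtain ⟨n, rfl⟩ := hm
      show x * ((n : G) * (x * (n : G) * x⁻¹)) * x⁻¹ = (n : G) * (x * (n : G) * x⁻¹)
      rw [hab (n : G) n.2 _ (Subgroup.normalClosure_normal.conj_mem _ n.2 x), hxi]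
      calc x * (x * (n : G) * x * (n : G)) * x = (x * x) * (n : G) * (x * (n : G) * x) := by group
        _ = (n : G) * (x * (n : G) * x) := by rw [hxx, one_mul]
        _ = x * (n : G) * x * (n : G) := hab _ n.2 _ (by simpa [hxi] using Subgroup.normalClosure_normal.conj_mem _ n.2 x)
    have hm := Subgroup.card_mul_index φ.ker
    rw [Subgroup.index_ker] at hm
    rw [← hm]
    exact (Nat.mul_le_mul hk hr).trans (by norm_num)

end Cfsg.Agent.S3276
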