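import Cfsg.Statements.S3279
import Cfsg.Agent.Lib.Invol.Isolated
import Cfsg.Agent.Lib.PGroup.Basic

set_option autoImplicit false
open Cfsg

namespace Cfsg.Agent.S3279

variable {G : Type*} [Group G] [Finite G]

/-- Two non-conjugate involutions are centralized by a common involution. -/
theorem exists_common {a b : G} (ha : orderOf a = 2) (hb : orderOf b = 2) (h : ¬ IsConj a b) :
    ∃ i : G, orderOf i = 2 ∧ i * a = a * i ∧ i * b = b * i := by
  rcases Nat.even_or_odd (orderOf (a * b)) with ⟨m, hm⟩ | hodd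
  swap
  · obtain ⟨d, -, hd⟩ := Cfsg.Lib.Invol.exists_conj_zpowers_of_odd ha hb hodd
    exact absurd (isConj_iff.mpr ⟨d, hd⟩) h
  have ha2 : a * a = 1 := by rw [← sq, ← ha]; exact pow_orderOf_eq_one a
  have hb2 : b * b = 1 := by rw [← sq, ← hb]; exact pow_orderOf_eq_one b
  have hpos : 0 < orderOf (a * b) := orderOf_pos _
  have hi2 : orderOf ((a * b) ^ m) = 2 := by
    rw [orderOf_pow_of_dvd (by omega) ⟨2, by omega⟩, hm, ← two_mul]
    exact Nat.mul_div_cancel _ (by omega)
  have hinv : ((a * b) ^ m)⁻¹ = (a * b) ^ m := by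
    refine inv_eq_of_mul_eq_one_right ?_
    rw [← sq, ← hi2]
    exact pow_orderOf_eq_one _
  have hinva : a⁻¹ = a := inv_eq_of_mul_eq_one_right ha2
  have hinvb : b⁻¹ = b := inv_eq_of_mul_eq_one_right hb2
  have hba : a * (a * b) ^ m * a⁻¹ = (a * b) ^ m := by
    rw [← conj_pow, show a * (a * b) * a⁻¹ = (a * b)⁻¹ by
      rw [mul_inv_rev, hinva, hinvb, ← mul_assoc, ha2, one_mul], inv_pow, hinv]
  have hbb : b * (a * b) ^ m * b⁻¹ = (a * b) ^ m := by
    rw [← conj_pow, show b * (a * b) * b⁻¹ = (a * b)⁻¹ by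
      rw [mul_inv_rev, hinva, hinvb, mul_assoc, mul_assoc, hb2, mul_one], inv_pow, hinv]
  exact ⟨_, hi2, (mul_inv_eq_iff_eq_mul.mp hba).symm, (mul_inv_eq_iff_eq_mul.mp hbb).symm⟩

/-- A nontrivial class of a simple group is not covered by two proper subgroups. -/
theorem class_not_subset_union [IsSimpleGroup G] {A B : Subgroup G} (hA : A ≠ ⊤) (hB : B ≠ ⊤)
    (u : G) (hu : u ≠ 1) : ¬ ∀ v, IsConj u v → v ∈ A ∨ v ∈ B := by
  intro hcov
  have hgen : Subgroup.closure {v : G | IsConj u v} = ⊤ := by
    have hn : (Subgroup.closure {v : G | IsConj u v}).Normal := ⟨fun n hn g => by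
      induction hn using Subgroup.closure_induction with
      | mem v hv => exact Subgroup.subset_closure (hv.trans (isConj_iff.mpr ⟨g, rfl⟩))
      | one => simp
      | mul a b _ _ iha ihb =>
        rw [show g * (a * b) * g⁻¹ = (g * a * g⁻¹) * (g * b * g⁻¹) by group]
        exact mul_mem iha ihb
      | inv a _ iha =>
        rw [show g * a⁻¹ * g⁻¹ = (g * a * g⁻¹)⁻¹ by group]
        exact inv_mem iha⟩
    refine hn.eq_bot_or_eq_top.resolve_left fun h => hu ?_
    have : u ∈ Subgroup.closure {v : G | IsConj u v} := Subgroup.subset_closure (IsConj.refl u)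
    rwa [h, Subgroup.mem_bot] at this
  let Y : Set G := {v | IsConj u v ∧ v ∉ B}
  obtain ⟨y, hy⟩ : Y.Nonempty := by
    by_contra he
    refine hB (top_le_iff.mp (hgen.ge.trans ((Subgroup.closure_le _).mpr fun v hv => ?_)))
    by_contra hvB
    exact he ⟨v, hv, hvB⟩
  let H := Subgroup.closure Y
  have hHA : H ≤ A := (Subgroup.closure_le _).mpr fun v hv => (hcov v hv.1).resolve_right hv.2
  have hnorm : Subgroup.normalizer (H : Set G) = ⊤ := by
    rw [eq_top_iff, ← hgen, Subgroup.closure_le]
    intro c hc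
    by_cases hcB : c ∈ B
    · have hpres : ∀ d : G, d ∈ B → ∀ v ∈ Y, d * v * d⁻¹ ∈ Y := by
        intro d hd v hv
        refine ⟨hv.1.trans (isConj_iff.mpr ⟨d, rfl⟩), fun h => hv.2 ?_⟩
        simpa [mul_assoc] using mul_mem (mul_mem (inv_mem hd) h) hd
      have hle : ∀ d : G, d ∈ B → ∀ w ∈ H, d * w * d⁻¹ ∈ H := by
        intro d hd w hw
        induction hw using Subgroup.closure_induction with
        | mem v hv => exact Subgroup.subset_closure (hpres d hd v hv)
        | one => simp
        | mul a b _ _ iha ihb =>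
          rw [show d * (a * b) * d⁻¹ = (d * a * d⁻¹) * (d * b * d⁻¹) by group]
          exact mul_mem iha ihb
        | inv a _ iha =>
          rw [show d * a⁻¹ * d⁻¹ = (d * a * d⁻¹)⁻¹ by group]
          exact inv_mem iha
      rw [SetLike.mem_coe, Subgroup.mem_normalizer_iff]
      intro w
      refine ⟨hle c hcB w, fun hw => ?_⟩
      have := hle c⁻¹ (inv_mem hcB) _ hw
      simpa [mul_assoc] using this
    · exact Subgroup.le_normalizer (Subgroup.subset_closure ⟨hc, hcB⟩)
  have hn := Subgroup.normalizer_eq_top_iff.mp hnorm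
  rcases hn.eq_bot_or_eq_top with h | h
  · have hyH : y ∈ H := Subgroup.subset_closure hy
    rw [h, Subgroup.mem_bot] at hyH
    have := hy.1
    rw [hyH, isConj_one_left] at this
    exact hu this
  · exact hA (top_le_iff.mp (h ▸ hHA))

/-- Let G be a finite simple group and x an involution of G whose centralizer contains at most three involutions. Then C_G(x) contains a Sylow 2-subgroup of G, and all involutions of G are conjugate. -/
theorem result {G : Type*} [Group G] [Finite G] [IsSimpleGroup G] (x : G) (hx : orderOf x = 2)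
    (h3 : Nat.card {u : ↥(Subgroup.centralizer ({x} : Set G)) // orderOf u = 2} ≤ 3) :
    (∃ S : Sylow 2 G, (S : Subgroup G) ≤ Subgroup.centralizer ({x} : Set G)) ∧
      ∀ u v : G, orderOf u = 2 → orderOf v = 2 → IsConj u v := by
  classical
  have hall : ∀ u : G, orderOf u = 2 → IsConj x u := by
    intro u hu
    by_cases hc : Subgroup.center G = ⊤
    · have hne : ∀ w : G, orderOf w = 2 → w ≠ 1 := fun w hw h => by simp [h] at hw
      have hxn : (Subgroup.zpowers x).Normal := ⟨fun n hn g => by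
        have : g * n = n * g := (Subgroup.mem_center_iff.mp (hc ▸ Subgroup.mem_top n)) g
        rwa [this, mul_inv_cancel_right]⟩
      rcases hxn.eq_bot_or_eq_top with h | h
      · exact absurd (Subgroup.zpowers_eq_bot.mp h) (hne x hx)
      · obtain ⟨i, hi⟩ := Subgroup.mem_zpowers_iff.mp (h ▸ Subgroup.mem_top u)
        rw [← zpow_mod_orderOf, hx] at hi
        rcases Int.emod_two_eq_zero_or_one i with h' | h' <;> simp [h'] at hi
        · exact absurd hi.symm (hne u hu)
        · rw [hi]
    have hproper : ∀ i : G, i ≠ 1 → Subgroup.centralizer ({i} : Set G) ≠ ⊤ := by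
      intro i hi h
      apply hc
      refine (Subgroup.instNormalCenter (G := G)).eq_bot_or_eq_top.resolve_left fun hb => hi ?_
      have hmem : i ∈ Subgroup.center G := Subgroup.mem_center_iff.mpr fun g =>
        Subgroup.mem_centralizer_singleton_iff.mp (h ▸ Subgroup.mem_top g)
      rwa [hb, Subgroup.mem_bot] at hmem
    by_contra hnc
    let I := {v : ↥(Subgroup.centralizer ({x} : Set G)) // orderOf v = 2}
    have hxI : x ∈ Subgroup.centralizer ({x} : Set G) := Subgroup.mem_centralizer_singleton_iff.mpr rfl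
    let x0 : I := ⟨⟨x, hxI⟩, by rw [← Subgroup.orderOf_coe]; exact hx⟩
    have := Fintype.ofFinite I
    let J := (Finset.univ.erase x0).image (fun v : I => ((v.1 : G)))
    have hJ : J.card ≤ 2 := by
      refine Finset.card_image_le.trans ?_
      rw [Finset.card_erase_of_mem (Finset.mem_univ x0), Finset.card_univ, ← Nat.card_eq_fintype_card]
      have : Nat.card I ≤ 3 := h3
      omega
    have hmemJ : ∀ i : G, orderOf i = 2 → i * x = x * i → i ≠ x → i ∈ J := by
      intro i hi hc' hne
      refine Finset.mem_image.mpr ⟨⟨⟨i, Subgroup.mem_centralizer_singleton_iff.mpr hc'⟩, by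
        rw [← Subgroup.orderOf_coe]; exact hi⟩, Finset.mem_erase.mpr ⟨fun h => hne ?_, Finset.mem_univ _⟩, rfl⟩
      exact congrArg (fun v : I => (v.1 : G)) h
    have hcov : ∀ v, IsConj u v → ∃ i ∈ J, v ∈ Subgroup.centralizer ({i} : Set G) := by
      intro v hv
      have hv2 : orderOf v = 2 := by
        obtain ⟨g, rfl⟩ := isConj_iff.mp hv
        rw [show g * u * g⁻¹ = MulAut.conj g u from rfl, MulEquiv.orderOf_eq, hu]
      have hvx : ¬ IsConj x v := fun h => hnc (h.trans hv.symm)
      obtain ⟨i, hi, hix, hiv⟩ := exists_common hx hv2 hvx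
      by_cases hieq : i = x
      · subst hieq
        exact ⟨v, hmemJ v hv2 hiv.symm (fun h => hvx (h ▸ IsConj.refl _)),
          Subgroup.mem_centralizer_singleton_iff.mpr rfl⟩
      · exact ⟨i, hmemJ i hi hix hieq, Subgroup.mem_centralizer_singleton_iff.mpr hiv.symm⟩
    have hJne : ∀ i ∈ J, i ≠ 1 := by
      intro i hi h
      obtain ⟨w, -, rfl⟩ := Finset.mem_image.mp hi
      have := w.2
      rw [← Subgroup.orderOf_coe, h] at this
      simp at this
    obtain ⟨a, ha, b, hb, hab⟩ : ∃ a ∈ J, ∃ b ∈ J, ∀ i ∈ J, i = a ∨ i = b := by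
      obtain ⟨a, ha, -⟩ := hcov u (IsConj.refl u)
      by_cases h : ∀ i ∈ J, i = a
      · exact ⟨a, ha, a, ha, fun i hi => Or.inl (h i hi)⟩
      push Not at h
      obtain ⟨b, hb, hba⟩ := h
      refine ⟨a, ha, b, hb, fun i hi => ?_⟩
      by_contra hne
      push Not at hne
      have : ({a, b, i} : Finset G).card ≤ 2 :=
        (Finset.card_le_card (by simp [Finset.insert_subset_iff, ha, hb, hi])).trans hJ
      rw [Finset.card_insert_of_notMem (by simp [Ne.symm hba, Ne.symm hne.1]),
        Finset.card_pair (Ne.symm hne.2)] at this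
      omega
    refine class_not_subset_union (hproper a (hJne a ha)) (hproper b (hJne b hb)) u
      (fun h => by simp [h] at hu) fun v hv => ?_
    obtain ⟨i, hi, hvi⟩ := hcov v hv
    rcases hab i hi with rfl | rfl
    · exact Or.inl hvi
    · exact Or.inr hvi
  refine ⟨?_, fun u v hu hv => (hall u hu).symm.trans (hall v hv)⟩
  have : Fact (Nat.Prime 2) := ⟨Nat.prime_two⟩
  let S : Sylow 2 G := default
  have hSne : (S : Subgroup G) ≠ ⊥ :=
    Sylow.ne_bot_of_dvd_card S (hx ▸ orderOf_dvd_natCard x)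
  have : Nontrivial (S : Subgroup G) := (Subgroup.nontrivial_iff_ne_bot _).mpr hSne
  obtain ⟨z, -, hzc, hz2⟩ := Cfsg.Lib.PGroup.exists_mem_center_orderOf_eq (p := 2) S.isPGroup'
    (N := (⊤ : Subgroup (S : Subgroup G))) top_ne_bot
  obtain ⟨g, hg⟩ := isConj_iff.mp (hall (z : G) (by rw [Subgroup.orderOf_coe]; exact hz2))
  refine ⟨g⁻¹ • S, fun s hs => ?_⟩
  rw [Sylow.coe_subgroup_smul] at hs
  obtain ⟨t, ht, rfl⟩ := hs
  have hcomm : (z : G) * t = t * z :=
    (congrArg Subtype.val (Subgroup.mem_center_iff.mp hzc ⟨t, ht⟩)).symm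
  rw [Subgroup.mem_centralizer_singleton_iff]
  have hxz : x = g⁻¹ * z * g := by rw [← hg]; group
  simp only [MulDistribMulAction.toMonoidEnd_apply, MulDistribMulAction.toMonoidHom_apply,
    MulAut.smul_def, MulAut.conj_apply, inv_inv]
  rw [hxz, show g⁻¹ * t * g * (g⁻¹ * z * g) = g⁻¹ * (t * z) * g by group, ← hcomm]
  group

end Cfsg.Agent.S3279
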