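import Cfsg.Statements.S3280
import Cfsg.Agent.S0495
import Cfsg.Agent.S0497
import Cfsg.Agent.S0984
import Cfsg.Agent.S3278
import Cfsg.Agent.S3331
import Cfsg.Agent.Lib.SmallCent.Main

set_option autoImplicit false
open Cfsg

namespace Cfsg.Agent.S3280

open Subgroup

theorem of_normal {G : Type*} [Group G] [IsSimpleGroup G] {N : Subgroup G} (hN : N.Normal) {K : Type*}
    [Group K] [Nontrivial K] (e : G ⧸ N ≃* K) : Nonempty (G ≃* K) := by
  rcases hN.eq_bot_or_eq_top with rfl | rfl
  · exact ⟨(QuotientGroup.quotientBot).symm.trans e⟩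
  · exfalso
    haveI : Subsingleton (G ⧸ (⊤ : Subgroup G)) := QuotientGroup.subsingleton_quotient_top
    exact not_nontrivial _ (e.toEquiv.nontrivial)

/-- A non-cyclic finite simple group containing an element whose centralizer has order at most 4 is isomorphic to the alternating group of degree 5, 6 or 7, or to PSL(2, 7). -/
theorem result {G : Type*} [Group G] [Finite G] [IsSimpleGroup G] (hG : ¬ IsCyclic G)
    (w : G) (hw : Nat.card ↥(Subgroup.centralizer ({w} : Set G)) ≤ 4) :
    Nonempty (G ≃* ↥(alternatingGroup (Fin 5))) ∨ Nonempty (G ≃* ↥(alternatingGroup (Fin 6))) ∨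
      Nonempty (G ≃* ↥(alternatingGroup (Fin 7))) ∨
      (∃ (F : Type) (_ : Field F) (_ : Fintype F), Fintype.card F = 7 ∧ Nonempty (G ≃* Matrix.ProjectiveSpecialLinearGroup (Fin 2) F)) := by
  classical
  haveI : Nontrivial G := IsSimpleGroup.toNontrivial
  haveI : Fact (Nat.Prime 2) := ⟨Nat.prime_two⟩
  have hw1 : w ≠ 1 := by
    rintro rfl
    have htop : Subgroup.centralizer ({(1 : G)} : Set G) = ⊤ := (eq_top_iff' _).2 fun g =>
      mem_centralizer_singleton_iff.2 (Commute.one_right g).eq
    rw [htop, card_top] at hw
    obtain ⟨p, hp⟩ : ∃ p, p = Nat.card G := ⟨_, rfl⟩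
    have hpos : 1 < p := hp ▸ Finite.one_lt_card
    rw [← hp] at hw
    by_cases hpr : p.Prime
    · haveI := Fact.mk hpr
      exact hG (isCyclic_of_prime_card (p := p) hp.symm)
    · have h4 : p = 4 := by interval_cases p <;> first | rfl | (exfalso; exact hpr (by norm_num))
      have hp2 : IsPGroup 2 G := IsPGroup.of_card (n := 2) (by rw [← hp, h4]; rfl)
      exact bot_lt_iff_ne_bot.mp hp2.bot_lt_center (Cfsg.Lib.SmallCent.center_eq_bot hG)
  set C := Subgroup.centralizer ({w} : Set G) with hC
  have hwC : w ∈ C := mem_centralizer_singleton_iff.2 rfl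
  have hdvd : orderOf w ∣ Nat.card C := orderOf_dvd_natCard C hwC
  have ho1 : orderOf w ≠ 1 := fun h => hw1 (orderOf_eq_one_iff.1 h)
  have hCpos : 0 < Nat.card C := Nat.card_pos
  have hole := Nat.le_of_dvd hCpos hdvd
  have hopos := orderOf_pos w
  -- an involution
  have hinvol : orderOf w = 2 → Nonempty (G ≃* ↥(alternatingGroup (Fin 5))) := by
    intro ho
    obtain ⟨S, hS⟩ := (IsPGroup.of_card (n := 1) (by rw [Nat.card_zpowers, ho, pow_one]) :
      IsPGroup 2 (zpowers w)).exists_le_sylow
    have hwS := hS (mem_zpowers w)
    have hne : (S : Subgroup G) ≠ ⊥ := fun h => hw1 (by rwa [h, mem_bot] at hwS)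
    have hcyc : ¬ IsCyclic (S : Subgroup G) := fun hc => by
      refine Cfsg.Lib.Small.not_normalizer_le_centralizer hG S hne fun g hg => ?_
      obtain ⟨t, hts, ht2, htw⟩ := Cfsg.Lib.SmallCent.exists_second_involution hG S ho
      exfalso
      haveI := hc
      letI := Fintype.ofFinite (S : Subgroup G)
      have hle := IsCyclic.card_pow_eq_one_le (α := (S : Subgroup G)) (n := 2) two_pos
      have h3 : ({1, ⟨w, hwS⟩, ⟨t, hts⟩} : Finset (S : Subgroup G)).card = 3 := by
        rw [Finset.card_eq_three]
        refine ⟨_, _, _, ?_, ?_, ?_, rfl⟩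
        · exact fun h => hw1 (congrArg Subtype.val h).symm
        · exact fun h => Cfsg.Lib.Invol.ne_one ht2 (congrArg Subtype.val h).symm
        · exact fun h => htw (congrArg Subtype.val h).symm
      have hsub : ({1, ⟨w, hwS⟩, ⟨t, hts⟩} : Finset (S : Subgroup G)) ⊆
          Finset.univ.filter fun a => a ^ 2 = 1 := by
        intro a ha
        simp only [Finset.mem_insert, Finset.mem_singleton] at ha
        refine Finset.mem_filter.2 ⟨Finset.mem_univ _, ?_⟩
        rcases ha with rfl | rfl | rfl
        · exact one_pow _
        · exact Subtype.ext (by show w ^ 2 = 1; rw [← ho, pow_orderOf_eq_one])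
        · exact Subtype.ext (by show t ^ 2 = 1; rw [← ht2, pow_orderOf_eq_one])
      have := Finset.card_le_card hsub
      omega
    have h4 : Nat.card C = 4 ∧ ¬ IsCyclic C := by
      set P := (S : Subgroup G) ⊓ C with hP
      have hP2 : IsPGroup 2 P := S.isPGroup'.to_le inf_le_left
      have hZ : ∀ c, (∀ s ∈ (S : Subgroup G), Commute s c) → c ∈ (S : Subgroup G) → c ∈ P :=
        fun c hc hcs => ⟨hcs, mem_centralizer_singleton_iff.2 (hc w hwS).symm.eq⟩
      haveI : Nontrivial (S : Subgroup G) := (nontrivial_iff_ne_bot _).2 hne
      haveI := S.isPGroup'.center_nontrivial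
      obtain ⟨⟨⟨c, hcS⟩, hcZ⟩, hc1⟩ := exists_ne (1 : center (S : Subgroup G))
      have hcc : ∀ s ∈ (S : Subgroup G), Commute s c := fun s hs =>
        congrArg Subtype.val (mem_center_iff.1 hcZ ⟨s, hs⟩)
      have hc1' : c ≠ 1 := fun h => hc1 (Subtype.ext (Subtype.ext h))
      -- if every nontrivial power structure were cyclic, `w` would be central in `S`
      have hSC : ¬ (S : Subgroup G) ≤ C → Nat.card C = 4 ∧ ¬ IsCyclic C := by
        intro hnot
        have hcP := hZ c hcc hcS
        have hwP : w ∈ P := ⟨hwS, hwC⟩
        by_cases hcw : c ∈ zpowers w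
        · exfalso
          apply hnot
          obtain ⟨i, hi⟩ := hcw
          simp only at hi
          rw [← Int.emod_add_mul_ediv i 2, zpow_add, zpow_mul,
            show w ^ (2 : ℤ) = 1 by
              have := ho ▸ pow_orderOf_eq_one w; exact_mod_cast this, one_zpow,
            mul_one] at hi
          rcases Int.emod_two_eq_zero_or_one i with e | e <;> rw [e] at hi
          · exact absurd hi.symm (by simpa using hc1')
          · rw [zpow_one] at hi
            intro s hs
            exact mem_centralizer_singleton_iff.2 (hi.symm ▸ hcc s hs).eq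
        · have hlt : zpowers w < C := by
            refine lt_of_le_of_ne (zpowers_le.2 hwC) fun h => hcw ?_
            rw [h]; exact hcP.2
          have h1 : Nat.card C = 4 := by
            have h1 := card_dvd_of_le hlt.le
            rw [Nat.card_zpowers, ho] at h1
            have h2 : Nat.card C ≠ 2 := fun h2 => hlt.ne (eq_of_le_of_card_ge hlt.le (by
              rw [h2, Nat.card_zpowers, ho]))
            omega
          refine ⟨h1, fun hcyc' => ?_⟩
          haveI := hcyc'
          letI := Fintype.ofFinite C
          obtain ⟨c', hc'w, hc'C, hc'2⟩ : ∃ c', c' ∉ zpowers w ∧ c' ∈ C ∧ orderOf c' = 2 := by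
            obtain ⟨l, hl4, hl⟩ := (Nat.dvd_prime_pow Nat.prime_two).1
              (show orderOf c ∣ 2 ^ 2 by
                rw [show 2 ^ 2 = Nat.card C by rw [h1]; norm_num]
                exact orderOf_dvd_natCard C hcP.2)
            interval_cases l
            · rw [pow_zero, orderOf_eq_one_iff] at hl; exact absurd hl hc1'
            · exact ⟨c, hcw, hcP.2, hl⟩
            · exfalso
              -- a cyclic centralizer generated by a central element has square `w`
              have h2 : orderOf (c ^ 2) = 2 := by rw [orderOf_pow' c two_ne_zero, hl]; rfl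
              have hle := IsCyclic.card_pow_eq_one_le (α := C) (n := 2) two_pos
              have hcw2 : c ^ 2 = w := by
                by_contra hne2
                have h3 : ({1, ⟨w, hwC⟩, ⟨c ^ 2, pow_mem hcP.2 2⟩} : Finset C).card = 3 := by
                  rw [Finset.card_eq_three]
                  refine ⟨_, _, _, ?_, ?_, ?_, rfl⟩
                  · exact fun h => hw1 (congrArg Subtype.val h).symm
                  · exact fun h => Cfsg.Lib.Invol.ne_one h2 (congrArg Subtype.val h).symm
                  · exact fun h => hne2 (congrArg Subtype.val h).symm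
                have hsub : ({1, ⟨w, hwC⟩, ⟨c ^ 2, pow_mem hcP.2 2⟩} : Finset C) ⊆
                    Finset.univ.filter fun a => a ^ 2 = 1 := by
                  intro a ha
                  simp only [Finset.mem_insert, Finset.mem_singleton] at ha
                  refine Finset.mem_filter.2 ⟨Finset.mem_univ _, ?_⟩
                  rcases ha with rfl | rfl | rfl
                  · exact one_pow _
                  · exact Subtype.ext (by show w ^ 2 = 1; rw [← ho, pow_orderOf_eq_one])
                  · exact Subtype.ext (by
                    show (c ^ 2) ^ 2 = 1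
                    have := pow_orderOf_eq_one (c ^ 2)
                    rwa [h2] at this)
                have := Finset.card_le_card hsub
                omega
              exact hnot fun s hs => mem_centralizer_singleton_iff.2 (hcw2 ▸ (hcc s hs).pow_right 2).eq
          have hle := IsCyclic.card_pow_eq_one_le (α := C) (n := 2) two_pos
          have h3 : ({1, ⟨w, hwC⟩, ⟨c', hc'C⟩} : Finset C).card = 3 := by
            rw [Finset.card_eq_three]
            refine ⟨_, _, _, ?_, ?_, ?_, rfl⟩
            · exact fun h => hw1 (congrArg Subtype.val h).symm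
            · exact fun h => Cfsg.Lib.Invol.ne_one hc'2 (congrArg Subtype.val h).symm
            · exact fun h => hc'w ((show w = c' from congrArg Subtype.val h) ▸ mem_zpowers w)
          have hsub : ({1, ⟨w, hwC⟩, ⟨c', hc'C⟩} : Finset C) ⊆
              Finset.univ.filter fun a => a ^ 2 = 1 := by
            intro a ha
            simp only [Finset.mem_insert, Finset.mem_singleton] at ha
            refine Finset.mem_filter.2 ⟨Finset.mem_univ _, ?_⟩
            rcases ha with rfl | rfl | rfl
            · exact one_pow _
            · exact Subtype.ext (by show w ^ 2 = 1; rw [← ho, pow_orderOf_eq_one])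
            · exact Subtype.ext (by show c' ^ 2 = 1; rw [← hc'2, pow_orderOf_eq_one])
          have := Finset.card_le_card hsub
          omega
      by_cases hSC' : (S : Subgroup G) ≤ C
      · have hd := card_dvd_of_le hSC'
        obtain ⟨l, hl⟩ := IsPGroup.iff_card.1 S.isPGroup'
        have hl4 : 2 ^ l ≤ 4 := hl ▸ (Nat.le_of_dvd hCpos hd).trans hw
        have hlt : l < 3 := by
          by_contra h
          have := Nat.pow_le_pow_right (show 0 < 2 by norm_num) (not_lt.1 h)
          omega
        interval_cases l
        · exact absurd (by rw [← card_eq_one]; simpa using hl) hne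
        · exact absurd (isCyclic_of_prime_card (p := 2) (by simpa using hl)) hcyc
        · have hCS : C = (S : Subgroup G) :=
            (eq_of_le_of_card_ge hSC' (hw.trans_eq (by rw [hl]; norm_num))).symm
          exact ⟨by rw [hCS, hl]; norm_num, fun hc => hcyc (hCS ▸ hc)⟩
      · exact hSC hSC'
    haveI : IsKleinFour C := by
      refine { card_four := h4.1, exponent_two := ?_ }
      have hp : IsPGroup 2 C := IsPGroup.of_card (n := 2) (by rw [h4.1]; rfl)
      refine le_antisymm (Nat.le_of_dvd two_pos (Monoid.exponent_dvd_of_forall_pow_eq_one fun a => ?_)) ?_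
      · obtain ⟨l, hl4, hl⟩ := (Nat.dvd_prime_pow Nat.prime_two).1
          (show orderOf a ∣ 2 ^ 2 by rw [show 2 ^ 2 = Nat.card C by rw [h4.1]; norm_num]; exact orderOf_dvd_natCard a)
        interval_cases l
        · rw [pow_zero, orderOf_eq_one_iff] at hl; rw [hl, one_pow]
        · rw [pow_one] at hl; rw [← hl, pow_orderOf_eq_one]
        · exact absurd (isCyclic_of_orderOf_eq_card a (by rw [hl, h4.1]; norm_num)) h4.2
      · have h2 := Monoid.order_dvd_exponent (⟨w, hwC⟩ : C)
        rw [orderOf_mk, ho] at h2
        exact Nat.le_of_dvd (Nat.pos_of_ne_zero Monoid.exponent_ne_zero_of_finite) h2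
    exact Cfsg.Agent.S3278.result w ho C le_rfl inferInstance
      (by rw [relIndex_self]; norm_num) (by rw [subgroupOf_self]; infer_instance)
  haveI : Fact (Nat.Prime 7) := ⟨by norm_num⟩
  rcases (show orderOf w = 2 ∨ orderOf w = 3 ∨ orderOf w = 4 by omega) with ho | ho | ho
  · exact Or.inl (hinvol ho)
  · -- an element of order three
    have hC3 : Nat.card C = 3 := by
      obtain ⟨r, hr⟩ := hdvd
      rw [ho] at hr
      omega
    have hz3 : C = zpowers w := (eq_of_le_of_card_ge (zpowers_le.2 hwC) (by
      rw [hC3, Nat.card_zpowers, ho])).symm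
    have hcX : Subgroup.centralizer ((zpowers w : Subgroup G) : Set G) = zpowers w := by
      rw [Cfsg.Lib.Small.centralizer_zpowers]; exact hz3
    rcases Cfsg.Agent.S3331.result (zpowers w) (by rw [Nat.card_zpowers, ho]) hcX with
      ⟨N, hN, hnil, -, hq⟩ | ⟨N, hN, -, -, ⟨e⟩⟩ | he
    · exfalso
      rcases hN.eq_bot_or_eq_top with rfl | rfl
      · rcases hq with hq | ⟨⟨e⟩⟩
        · rw [Nat.card_congr QuotientGroup.quotientBot.toEquiv] at hq
          haveI : Fact (Nat.Prime 3) := ⟨Nat.prime_three⟩
          exact hG (isCyclic_of_prime_card hq)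
        · let e' : G ≃* Equiv.Perm (Fin 3) := QuotientGroup.quotientBot.symm.trans e
          have hn : ((alternatingGroup (Fin 3)).comap e'.toMonoidHom).Normal := inferInstance
          have hi : ((alternatingGroup (Fin 3)).comap e'.toMonoidHom).index = 2 := by
            rw [index_comap_of_surjective _ e'.surjective]
            exact alternatingGroup.index_eq_two
          rcases hn.eq_bot_or_eq_top with h | h <;> rw [h] at hi
          · rw [index_bot] at hi
            haveI : Fact (Nat.Prime 2) := ⟨Nat.prime_two⟩
            exact hG (isCyclic_of_prime_card hi)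
          · rw [index_top] at hi; omega
      · haveI : Group.IsNilpotent G := Group.nilpotent_of_mulEquiv Subgroup.topEquiv
        have hc : center G = ⊤ := ((inferInstance : (center G).Normal).eq_bot_or_eq_top).resolve_left
          (Group.IsNilpotent.center_ne_bot G)
        have := Cfsg.Lib.SmallCent.center_eq_bot hG
        rw [this] at hc
        exact bot_ne_top hc
    · exact Or.inl (of_normal hN e)
    · exact Or.inr (Or.inr (Or.inr ⟨ZMod 7, inferInstance, inferInstance, ZMod.card 7, he⟩))
  · -- an element of order four
    have hC4 : Nat.card C = 4 := by omega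
    obtain ⟨S, τ, hwS, hτS, hS8, hτ, hrel⟩ := Cfsg.Lib.SmallCent.exists_dihedral_sylow hG ho hC4
    rcases Cfsg.Lib.SmallCent.Setup.card_group ⟨S, w, τ, hwS, hτS, hS8, ho, hτ, hrel, hC4⟩ hG with
      h | h | h
    · exact Or.inr (Or.inr (Or.inr ⟨ZMod 7, inferInstance, inferInstance, ZMod.card 7,
        Cfsg.Agent.S0495.result h (ZMod.card 7)⟩))
    · exact Or.inr (Or.inl (Cfsg.Agent.S0497.result h))
    · exact Or.inr (Or.inr (Or.inl (Cfsg.Agent.S0984.result h)))

end Cfsg.Agent.S3280
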