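import Cfsg.Statements.S3283
import Cfsg.Agent.Lib.Extra.SymAltSix.Setup

set_option autoImplicit false
open Cfsg

namespace Cfsg.Agent.S3283

/-- Let G be a finite group with an involution z whose centralizer M has Q = O₂(M) extraspecial of order 2⁹ with C_M(Q) ≤ Q, and M/Q isomorphic to S₃ × A₆ or to S₃ × S₆. Then G is not simple. -/
theorem result {G : Type*} [Group G] [Finite G] (z : G) (hz : orderOf z = 2)
    (hQ : Cfsg.IsExtraspecial 2 ↥(Cfsg.pCore 2 ↥(Subgroup.centralizer ({z} : Set G)))) (hQ9 : Nat.card ↥(Cfsg.pCore 2 ↥(Subgroup.centralizer ({z} : Set G))) = 2 ^ 9)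
    (hCQ : Subgroup.centralizer ((Cfsg.pCore 2 ↥(Subgroup.centralizer ({z} : Set G))) : Set ↥(Subgroup.centralizer ({z} : Set G))) ≤ Cfsg.pCore 2 ↥(Subgroup.centralizer ({z} : Set G)))
    (hMQ : Nonempty (↥(Subgroup.centralizer ({z} : Set G)) ⧸ Cfsg.pCore 2 ↥(Subgroup.centralizer ({z} : Set G)) ≃* (Equiv.Perm (Fin 3) × ↥(alternatingGroup (Fin 6)))) ∨
      Nonempty (↥(Subgroup.centralizer ({z} : Set G)) ⧸ Cfsg.pCore 2 ↥(Subgroup.centralizer ({z} : Set G)) ≃* (Equiv.Perm (Fin 3) × Equiv.Perm (Fin 6)))) :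
    ¬ IsSimpleGroup G := by
  intro hs
  set C := Subgroup.centralizer ({z} : Set G)
  set Q₀ := Cfsg.pCore 2 ↥C
  have hctx := Cfsg.Lib.Extra.SymAltSix.ctx_of_core hz hQ hCQ
  let qe := Q₀.equivMapOfInjective _ C.subtype_injective
  have h9 : Nat.card ↥(Q₀.map C.subtype) = 2 ^ 9 := by rw [← Nat.card_congr qe.toEquiv, hQ9]
  have hext := Cfsg.Lib.Extra.isExtraspecial_congr qe hQ
  rcases hMQ with ⟨⟨e⟩⟩ | ⟨⟨e⟩⟩
  · refine Cfsg.Lib.Extra.SymAltSix.absurd_of_quotient hctx h9 hext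
      (((MonoidHom.id (Equiv.Perm (Fin 3))).prodMap (alternatingGroup (Fin 6)).subtype).comp
        (e.toMonoidHom.comp (QuotientGroup.mk' Q₀))) (fun c => ?_) (fun k hk => ?_) ?_
    · rw [MonoidHom.comp_apply, map_eq_one_iff _ (Function.Injective.prodMap (fun _ _ h => h)
        (Subgroup.subtype_injective _)), MonoidHom.comp_apply, MulEquiv.coe_toMonoidHom, MulEquiv.map_eq_one_iff,
        QuotientGroup.mk'_apply, QuotientGroup.eq_one_iff]
      exact ⟨fun h => ⟨c, h, rfl⟩, fun ⟨y, hy, e'⟩ => Subtype.ext e' ▸ hy⟩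
    · obtain ⟨c, hc⟩ := QuotientGroup.mk'_surjective Q₀ (e.symm (k.1, ⟨k.2, (Subgroup.mem_prod.1 hk).2⟩))
      exact ⟨c, by simp [MonoidHom.comp_apply, hc]⟩
    · obtain ⟨c, hc⟩ := QuotientGroup.mk'_surjective Q₀ (e.symm (Equiv.swap 0 1, 1))
      exact ⟨c, by simp [MonoidHom.comp_apply, hc]⟩
  · refine Cfsg.Lib.Extra.SymAltSix.absurd_of_quotient hctx h9 hext
      (e.toMonoidHom.comp (QuotientGroup.mk' Q₀)) (fun c => ?_) (fun k _ => ?_) ?_
    · rw [MonoidHom.comp_apply, MulEquiv.coe_toMonoidHom, MulEquiv.map_eq_one_iff,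
        QuotientGroup.mk'_apply, QuotientGroup.eq_one_iff]
      exact ⟨fun h => ⟨c, h, rfl⟩, fun ⟨y, hy, e'⟩ => Subtype.ext e' ▸ hy⟩
    · obtain ⟨c, hc⟩ := QuotientGroup.mk'_surjective Q₀ (e.symm k)
      exact ⟨c, by simp [MonoidHom.comp_apply, hc]⟩
    · obtain ⟨c, hc⟩ := QuotientGroup.mk'_surjective Q₀ (e.symm (Equiv.swap 0 1, 1))
      exact ⟨c, by simp [MonoidHom.comp_apply, hc]⟩

end Cfsg.Agent.S3283
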