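import Cfsg.Statements.S3284
import Cfsg.Agent.Lib.Extra.SymAltSix.Setup

set_option autoImplicit false
open Cfsg

namespace Cfsg.Agent.S3284

/-- There is no non-abelian finite simple group with an involution z whose centralizer M has generalized Fitting subgroup Q = F*(M) extraspecial of order 2⁹ and M/Q isomorphic to the subgroup of S₃ × S₆ consisting of the pairs of permutations with equal sign (a group (3 × A₆)·2 in which an involution outside 3 × A₆ induces S₃ on the first factor and S₆ on the second). -/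
theorem result {G : Type*} [Group G] [Finite G] [IsSimpleGroup G] (hG : ¬ IsMulCommutative G) (z : G) (hz : orderOf z = 2)
    [hn : (Cfsg.generalizedFittingSubgroup ↥(Subgroup.centralizer ({z} : Set G))).Normal]
    (hQ : Cfsg.IsExtraspecial 2 ↥(Cfsg.generalizedFittingSubgroup ↥(Subgroup.centralizer ({z} : Set G)))) (hQ9 : Nat.card ↥(Cfsg.generalizedFittingSubgroup ↥(Subgroup.centralizer ({z} : Set G))) = 2 ^ 9)
    (e : (↥(Subgroup.centralizer ({z} : Set G)) ⧸ Cfsg.generalizedFittingSubgroup ↥(Subgroup.centralizer ({z} : Set G))) ≃*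
      ↥(MonoidHom.ker (Equiv.Perm.sign.comp (MonoidHom.fst (Equiv.Perm (Fin 3)) (Equiv.Perm (Fin 6))) *
          Equiv.Perm.sign.comp (MonoidHom.snd (Equiv.Perm (Fin 3)) (Equiv.Perm (Fin 6)))))) :
    False := by
  set C := Subgroup.centralizer ({z} : Set G)
  set Q₀ := Cfsg.generalizedFittingSubgroup ↥C
  have hctx := Cfsg.Lib.Extra.Wide.ctx_of_hyp z hz Q₀ rfl hQ
  let qe := Q₀.equivMapOfInjective _ C.subtype_injective
  have h9 : Nat.card ↥(Q₀.map C.subtype) = 2 ^ 9 := by rw [← Nat.card_congr qe.toEquiv, hQ9]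
  have hext := Cfsg.Lib.Extra.isExtraspecial_congr qe hQ
  refine Cfsg.Lib.Extra.SymAltSix.absurd_of_quotient hctx h9 hext
    ((Subgroup.subtype _).comp (e.toMonoidHom.comp (QuotientGroup.mk' Q₀))) (fun c => ?_) (fun k hk => ?_) ?_
  · rw [MonoidHom.comp_apply, map_eq_one_iff _ (Subgroup.subtype_injective _), MonoidHom.comp_apply,
      MulEquiv.coe_toMonoidHom, MulEquiv.map_eq_one_iff, QuotientGroup.mk'_apply, QuotientGroup.eq_one_iff]
    exact ⟨fun h => ⟨c, h, rfl⟩, fun ⟨y, hy, e'⟩ => Subtype.ext e' ▸ hy⟩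
  · obtain ⟨c, hc⟩ := QuotientGroup.mk'_surjective Q₀ (e.symm ⟨k, by
      obtain ⟨h1, h2⟩ := Cfsg.Lib.Extra.SymAltSix.mem_L.1 hk
      simp [MonoidHom.mem_ker, h1, h2]⟩)
    exact ⟨c, by simp [MonoidHom.comp_apply, hc]⟩
  · obtain ⟨c, hc⟩ := QuotientGroup.mk'_surjective Q₀ (e.symm ⟨(Equiv.swap 0 1, Equiv.swap 0 1), by
      simp [MonoidHom.mem_ker]⟩)
    exact ⟨c, by simp [MonoidHom.comp_apply, hc]⟩

end Cfsg.Agent.S3284
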