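import Cfsg.Statements.S3285
import Cfsg.Agent.Lib.Recog.TwoTimesAlt.ReeIso
import Cfsg.Agent.Lib.Recog.TwoTimesAlt.AltSylow
import Cfsg.Agent.Lib.Recog.Icosahedral
import Cfsg.Agent.S3239

set_option autoImplicit false
open Cfsg

namespace Cfsg.Agent.S3285

open Subgroup Equiv Cfsg.Lib

theorem alt4_cent : ∀ a : alternatingGroup (Fin 4), a * a = 1 → a ≠ 1 →
    ∀ b : alternatingGroup (Fin 4), a * b = b * a → b * b = 1 := by decide +kernel

theorem alt5_cent : ∀ a : alternatingGroup (Fin 5), a * a = 1 → a ≠ 1 →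
    ∀ b : alternatingGroup (Fin 5), a * b = b * a → b * b = 1 := by decide +kernel

theorem alt4_conj : ∀ a b : alternatingGroup (Fin 4), a * a = 1 → b * b = 1 → a ≠ 1 → b ≠ 1 →
    a * b = b * a → ∃ x, x * a * x⁻¹ = b := by decide +kernel

theorem alt5_conj : ∀ a b : alternatingGroup (Fin 5), a * a = 1 → b * b = 1 → a ≠ 1 → b ≠ 1 →
    a * b = b * a → ∃ x, x * a * x⁻¹ = b := by decide +kernel

/-- Orbit-stabilizer for conjugation inside a subgroup. -/
theorem card_of_conj_trans {G : Type*} [Group G] [Finite G] (H : Subgroup G) (Ω : Set G) (a : G)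
    (ha : a ∈ Ω) (hinv : ∀ g ∈ H, g * a * g⁻¹ ∈ Ω) (htr : ∀ b ∈ Ω, ∃ g ∈ H, g * a * g⁻¹ = b) :
    Nat.card H = Ω.ncard * Nat.card (H ⊓ centralizer ({a} : Set G) : Subgroup G) := by
  set Z := (H ⊓ centralizer ({a} : Set G)).subgroupOf H
  have hmem : ∀ g : H, g ∈ Z ↔ (g : G) * a = a * (g : G) := fun g => by
    rw [mem_subgroupOf, mem_inf, mem_centralizer_singleton_iff, and_iff_right g.2]
  let f : H ⧸ Z → Ω := fun q => ⟨(q.out : G) * a * (q.out : G)⁻¹, hinv _ q.out.2⟩
  have hf : Function.Bijective f := by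
    refine ⟨fun q r e => ?_, fun b => ?_⟩
    · have e' : (q.out : G) * a * (q.out : G)⁻¹ = (r.out : G) * a * (r.out : G)⁻¹ := congrArg Subtype.val e
      rw [← QuotientGroup.out_eq' q, ← QuotientGroup.out_eq' r, QuotientGroup.eq, hmem]
      show (q.out : G)⁻¹ * r.out * a = a * ((q.out : G)⁻¹ * r.out)
      calc (q.out : G)⁻¹ * r.out * a = (q.out : G)⁻¹ * ((r.out : G) * a * (r.out : G)⁻¹) * r.out := by group
        _ = a * ((q.out : G)⁻¹ * r.out) := by rw [← e']; group
    · obtain ⟨g, hg, hge⟩ := htr b b.2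
      refine ⟨QuotientGroup.mk ⟨g, hg⟩, Subtype.ext ?_⟩
      obtain ⟨⟨k, hk⟩, hk'⟩ := QuotientGroup.mk_out_eq_mul Z ⟨g, hg⟩
      show ((QuotientGroup.mk ⟨g, hg⟩ : H ⧸ Z).out : G) * a * ((QuotientGroup.mk ⟨g, hg⟩ : H ⧸ Z).out : G)⁻¹ = b
      rw [hk', ← hge]
      show g * (k : G) * a * (g * (k : G))⁻¹ = g * a * g⁻¹
      rw [mul_assoc g (k : G) a, (hmem k).1 hk]
      group
  rw [Subgroup.card_eq_card_quotient_mul_card_subgroup Z,
    Nat.card_congr (subgroupOfEquivOfLe (inf_le_left : H ⊓ centralizer ({a} : Set G) ≤ H)).toEquiv,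
    Nat.card_eq_of_bijective f hf, Nat.card_coe_set_eq]

/-- Let G be a finite non-solvable group with no normal subgroup of index 2, and J an involution lying in the centre of a Sylow 2-subgroup of G whose centralizer is the internal direct product of ⟨J⟩ with a subgroup isomorphic to the alternating group of degree m. Then either m = 4 and G is isomorphic to the automorphism group PΓL(2, 8) of PSL(2, 8), or m = 5 and G is isomorphic to the first Janko group. -/
theorem result {G : Type*} [Group G] [Finite G] (hns : ¬ Group.IsSolvable G) (h2 : ∀ N : Subgroup G, N.Normal → N.index ≠ 2)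
    (J : G) (hJ : Cfsg.IsTwoCentralInvolution J) (m : ℕ) (T : Subgroup G)
    (hT : Nonempty (↥T ≃* ↥(alternatingGroup (Fin m))))
    (hd : Cfsg.IsInternalDirectProduct (Subgroup.zpowers J) T (Subgroup.centralizer ({J} : Set G))) :
    (m = 4 ∧ ∃ (F : Type) (_ : Field F) (_ : Fintype F), Fintype.card F = 8 ∧
        Nonempty (G ≃* MulAut (Matrix.ProjectiveSpecialLinearGroup (Fin 2) F))) ∨
      (m = 5 ∧ Cfsg.Spor.IsoJ1 G) := by
  classical
  haveI : Fact (Nat.Prime 2) := ⟨Nat.prime_two⟩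
  obtain ⟨e⟩ := hT
  obtain ⟨hJ2, S, hJS', hSc⟩ := hJ
  have hJS : J ∈ (S : Subgroup G) := hJS'
  obtain ⟨hJC, hTC, hcomm, hinf, hsup⟩ := hd
  set C := centralizer ({J} : Set G) with hC
  have hJ1 : J ≠ 1 := fun e => by rw [e, orderOf_one] at hJ2; omega
  have hJJ : J * J = 1 := by rw [← pow_two, ← hJ2, pow_orderOf_eq_one]
  have hSC : (S : Subgroup G) ≤ C := fun s hs => mem_centralizer_singleton_iff.2 (hSc s hs)
  have hJT : J ∉ T := fun hh => hJ1 (by
    have : J ∈ zpowers J ⊓ T := ⟨mem_zpowers J, hh⟩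
    rwa [hinf, mem_bot] at this)
  have hJi : J⁻¹ = J := inv_eq_of_mul_eq_one_left hJJ
  have hJp : ∀ i ∈ zpowers J, i = 1 ∨ i = J := by
    rintro _ ⟨k, rfl⟩
    rcases Int.even_or_odd' k with ⟨i, rfl | rfl⟩
    · left; show J ^ (2 * i) = 1; rw [zpow_mul, zpow_two, hJJ, one_zpow]
    · right; show J ^ (2 * i + 1) = J; rw [zpow_add_one, zpow_mul, zpow_two, hJJ, one_zpow, one_mul]
  let f₀ : zpowers J × T →* C :=
    { toFun := fun w => ⟨(w.1 : G) * w.2, mul_mem (hJC w.1.2) (hTC w.2.2)⟩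
      map_one' := Subtype.ext (one_mul _)
      map_mul' := fun v w => Subtype.ext (by
        show (v.1 : G) * w.1 * ((v.2 : G) * w.2) = (v.1 : G) * v.2 * ((w.1 : G) * w.2)
        rw [mul_assoc, ← mul_assoc (w.1 : G), hcomm _ w.1.2 _ v.2.2]
        group) }
  have hf₀ : Function.Bijective f₀ := by
    refine ⟨fun v w e => ?_, fun x => ?_⟩
    · exact Subgroup.mul_injective_of_disjoint (disjoint_iff.2 hinf) (congrArg Subtype.val e)
    · have h1 : zpowers J ⊔ T ≤ f₀.range.map C.subtype := sup_le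
        (fun i hi => ⟨_, ⟨(⟨i, hi⟩, 1), rfl⟩, mul_one i⟩)
        (fun t ht => ⟨_, ⟨(1, ⟨t, ht⟩), rfl⟩, one_mul t⟩)
      obtain ⟨_, ⟨w, rfl⟩, hw⟩ := h1 (by rw [hsup]; exact x.2)
      exact ⟨w, Subtype.ext hw⟩
  let f : zpowers J × T ≃* C := MulEquiv.ofBijective f₀ hf₀
  have hzJ : Nat.card (zpowers J) = 2 := by rw [Nat.card_zpowers, hJ2]
  have hCc : Nat.card C = 2 * Nat.card T := by rw [← Nat.card_congr f.toEquiv, Nat.card_prod, hzJ]
  -- the two cosets of `T`
  have hdich : ∀ x ∈ C, x ∈ T ∨ J * x ∈ T := by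
    intro x hx
    obtain ⟨⟨i, t⟩, hit⟩ := hf₀.2 ⟨x, hx⟩
    have hx' : (i : G) * t = x := congrArg Subtype.val hit
    rcases hJp i i.2 with e | e
    · left; rw [← hx', e, one_mul]; exact t.2
    · right; rw [← hx', e, ← mul_assoc, hJJ, one_mul]; exact t.2
  have hTn : ∀ c ∈ C, ∀ t ∈ T, c * t * c⁻¹ ∈ T := by
    intro c hc t ht
    rcases hdich c hc with h | h
    · exact mul_mem (mul_mem h ht) (inv_mem h)
    · have hJc : J * c = c * J := (mem_centralizer_singleton_iff.1 hc).symm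
      have hJt : J * t = t * J := hcomm J (mem_zpowers J) t ht
      have : (J * c) * t * (J * c)⁻¹ = c * t * c⁻¹ := by
        rw [hJc, mul_inv_rev, mul_assoc c J t, hJt]; group
      exact this ▸ mul_mem (mul_mem h ht) (inv_mem h)
  -- the sign homomorphism
  have hnot : ∀ s ∈ T, J * s ∉ T := fun s hs h => hJT (by simpa using mul_mem h (inv_mem hs))
  let φ : (S : Subgroup G) →* ℤˣ :=
    { toFun := fun s => if (s : G) ∈ T then 1 else -1
      map_one' := if_pos (one_mem T)
      map_mul' := fun a b => by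
        have ha := hdich _ (hSC a.2)
        have hb := hdich _ (hSC b.2)
        by_cases h1 : (a : G) ∈ T <;> by_cases h2 : (b : G) ∈ T <;> simp only [Subgroup.coe_mul, h1, h2, if_true, if_false]
        · rw [if_pos (mul_mem h1 h2), one_mul]
        · rw [if_neg (fun h => h2 (by simpa using mul_mem (inv_mem h1) h)), one_mul]
        · rw [if_neg (fun h => h1 (by simpa using mul_mem h (inv_mem h2))), mul_one]
        · have h3 := ha.resolve_left h1
          have h4 := hb.resolve_left h2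
          have hJa : J * (a : G) = a * J := (hSc _ a.2).symm
          have : (J * (a : G)) * (J * b) = a * b := by
            calc (J * (a : G)) * (J * b) = (a : G) * J * (J * b) := by rw [hJa]
              _ = a * ((J * J) * b) := by group
              _ = a * b := by rw [hJJ, one_mul]
          rw [if_pos (this ▸ mul_mem h3 h4)]
          decide }
  have hφJ : φ ⟨J, hJS⟩ = -1 := if_neg hJT
  have hφ1 : ∀ s : (S : Subgroup G), φ s = 1 → (s : G) ∈ T := fun s hs => by
    by_contra h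
    have : φ s = -1 := if_neg h
    rw [hs] at this
    exact absurd this (by decide)
  -- a conjugate of `J` in `S ∩ T`
  obtain ⟨n, hn, hnS, hnT⟩ : ∃ n ∈ normalizer ((S : Subgroup G) : Set G),
      n⁻¹ * J * n ∈ (S : Subgroup G) ∧ n⁻¹ * J * n ∈ T := by
    by_contra hno
    push Not at hno
    have htr := TwoTimesAlt.transfer_central S φ (by rw [pow_two, hJJ]) hJS hSc fun n hn hnS => by
      rw [hφJ]
      exact if_neg (hno n hn hnS)
    rw [hφJ] at htr
    refine h2 (MonoidHom.transfer φ).ker inferInstance ?_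
    rw [index_ker]
    have hle : Nat.card (MonoidHom.transfer φ).range ≤ 2 := by
      refine le_trans (card_le_card_group _) (le_of_eq ?_)
      rw [Nat.card_eq_fintype_card]; rfl
    have hge : 1 < Nat.card (MonoidHom.transfer φ).range := by
      rw [Finite.one_lt_card_iff_nontrivial, nontrivial_iff_ne_bot]
      intro hb
      have : MonoidHom.transfer φ J ∈ (MonoidHom.transfer φ).range := ⟨J, rfl⟩
      rw [hb, mem_bot, htr] at this
      exact absurd this (by decide)
    omega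
  set z := n⁻¹ * J * n with hz
  have hzc : ∀ s ∈ (S : Subgroup G), s * z = z * s := by
    intro s hs
    have h1 := hSc _ ((mem_normalizer_iff.1 hn s).1 hs)
    rw [hz]
    calc s * (n⁻¹ * J * n) = n⁻¹ * ((n * s * n⁻¹) * J) * n := by group
      _ = n⁻¹ * J * n * s := by rw [h1]; group
  have hz2 : z * z = 1 := by rw [hz]; calc _ = n⁻¹ * (J * J) * n := by group
                                           _ = 1 := by rw [hJJ, mul_one, inv_mul_cancel]
  have hz1 : z ≠ 1 := fun e => hJ1 (by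
    have h1 := congrArg (fun x => n * x * n⁻¹) e
    simpa [hz, mul_assoc] using h1)
  have hzo : orderOf z = 2 := orderOf_eq_prime (by rw [pow_two, hz2]) hz1
  have hTm : Nat.card T = Nat.card (alternatingGroup (Fin m)) := Nat.card_congr e.toEquiv
  have hm4 : 4 ≤ m := by
    by_contra hlt
    have h1 : 2 ∣ Nat.card (alternatingGroup (Fin m)) := hTm ▸ hzo ▸ orderOf_dvd_natCard T hnT
    rw [Nat.card_eq_fintype_card] at h1
    interval_cases m <;> revert h1 <;> decide
  -- a Sylow subgroup of `T`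
  set Q := (S : Subgroup G) ⊓ T with hQ
  have hQp : IsPGroup 2 (Q.subgroupOf T) :=
    (S.isPGroup'.to_le (inf_le_left : Q ≤ _)).comap_of_injective T.subtype (subtype_injective T)
  have hS2 : Nat.card (S : Subgroup G) = 2 * Nat.card Q := by
    let g : zpowers J × Q → (S : Subgroup G) := fun w =>
      ⟨(w.1 : G) * w.2, mul_mem (zpowers_le.2 hJS w.1.2) w.2.2.1⟩
    have hg : Function.Bijective g := by
      refine ⟨fun v w e => ?_, fun x => ?_⟩
      · have := Subgroup.mul_injective_of_disjoint (disjoint_iff.2 hinf)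
          (a₁ := (v.1, (⟨v.2, v.2.2.2⟩ : T))) (a₂ := (w.1, (⟨w.2, w.2.2.2⟩ : T))) (congrArg Subtype.val e)
        exact Prod.ext (congrArg (fun y : zpowers J × T => y.1) this)
          (Subtype.ext (congrArg (fun y : zpowers J × T => (y.2 : G)) this))
      · rcases hdich _ (hSC x.2) with h | h
        · exact ⟨(1, ⟨x, x.2, h⟩), Subtype.ext (one_mul _)⟩
        · exact ⟨(⟨J, mem_zpowers J⟩, ⟨J * x, mul_mem hJS x.2, h⟩), Subtype.ext (by
            show J * (J * (x : G)) = x
            rw [← mul_assoc, hJJ, one_mul])⟩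
    rw [← Nat.card_eq_of_bijective g hg, Nat.card_prod, hzJ]
  have hQi : ¬ 2 ∣ (Q.subgroupOf T).index := by
    intro h
    have h1 := card_mul_index (Q.subgroupOf T)
    rw [Nat.card_congr (subgroupOfEquivOfLe (inf_le_right : Q ≤ T)).toEquiv] at h1
    have h3 := card_mul_index ((S : Subgroup G).subgroupOf C)
    rw [Nat.card_congr (subgroupOfEquivOfLe hSC).toEquiv, hS2, hCc, mul_assoc] at h3
    have h4 : Nat.card Q * (Q.subgroupOf T).index = Nat.card Q * (S : Subgroup G).relIndex C := by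
      rw [h1]; exact (Nat.eq_of_mul_eq_mul_left (by norm_num) h3).symm
    rw [Nat.eq_of_mul_eq_mul_left Nat.card_pos h4] at h
    exact S.not_dvd_index (h.trans (relIndex_dvd_index_of_le hSC))
  set Q₁ : Sylow 2 T := hQp.toSylow hQi
  set Q₂ : Sylow 2 (alternatingGroup (Fin m)) := Q₁.mapSurjective (f := e.toMonoidHom) e.surjective
  have hQ₂ : ∀ x, x ∈ (Q₂ : Subgroup (alternatingGroup (Fin m))) ↔ ((e.symm x : T) : G) ∈ (S : Subgroup G) := by
    intro x
    show x ∈ (Q.subgroupOf T).map e.toMonoidHom ↔ _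
    rw [mem_map_equiv, mem_subgroupOf, hQ, mem_inf, and_iff_left (e.symm x).2]
  by_cases hm6 : 6 ≤ m
  · exfalso
    let ι : (Q₂ : Subgroup (alternatingGroup (Fin m))) →* (S : Subgroup G) :=
      { toFun := fun x => ⟨n * ((e.symm (x : alternatingGroup (Fin m)) : T) : G) * n⁻¹,
          (mem_normalizer_iff.1 hn _).1 ((hQ₂ _).1 x.2)⟩
        map_one' := Subtype.ext (by simp)
        map_mul' := fun x y => Subtype.ext (by simp only [Subgroup.coe_mul, map_mul]; group) }
    have h1 := TwoTimesAlt.hom_eq_one_of_central hm6 Q₂ (φ.comp ι) (z := e ⟨z, hnT⟩)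
      (by rw [← map_pow, show (⟨z, hnT⟩ : T) ^ 2 = 1 from Subtype.ext (by rw [pow_two]; exact hz2), map_one])
      ((hQ₂ _).2 (by rw [e.symm_apply_apply]; exact hnS))
      (fun x hx => e.symm.injective (Subtype.ext (by
        rw [map_mul, map_mul, e.symm_apply_apply, Subgroup.coe_mul, Subgroup.coe_mul]
        exact hzc _ ((hQ₂ x).1 hx))))
    have h3 : ι ⟨e ⟨z, hnT⟩, (hQ₂ _).2 (by rw [e.symm_apply_apply]; exact hnS)⟩ = ⟨J, hJS⟩ :=
      Subtype.ext (by
        show n * ((e.symm (e ⟨z, hnT⟩) : T) : G) * n⁻¹ = J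
        rw [e.symm_apply_apply]
        show n * z * n⁻¹ = J
        rw [hz]; group)
    rw [MonoidHom.comp_apply, h3, hφJ] at h1
    exact absurd h1 (by decide)
  have hm45 : m = 4 ∨ m = 5 := by omega
  have hfacts : (∀ a : alternatingGroup (Fin m), a * a = 1 → a ≠ 1 →
      ∀ b, a * b = b * a → b * b = 1) ∧ (∀ a b : alternatingGroup (Fin m), a * a = 1 → b * b = 1 →
      a ≠ 1 → b ≠ 1 → a * b = b * a → ∃ x, x * a * x⁻¹ = b) := by
    rcases hm45 with rfl | rfl
    · exact ⟨alt4_cent, alt4_conj⟩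
    · exact ⟨alt5_cent, alt5_conj⟩
  have hTcent : ∀ a ∈ T, a * a = 1 → a ≠ 1 → ∀ b ∈ T, a * b = b * a → b * b = 1 := by
    intro a ha haa ha1 b hb hab
    have h1 := hfacts.1 (e ⟨a, ha⟩) (by rw [← map_mul, show (⟨a, ha⟩ : T) * ⟨a, ha⟩ = 1 from Subtype.ext haa, map_one])
      (fun h => ha1 (congrArg Subtype.val (e.injective (h.trans (map_one e).symm)))) (e ⟨b, hb⟩)
      (by rw [← map_mul, ← map_mul]; exact congrArg e (Subtype.ext hab))
    rw [← map_mul] at h1
    exact congrArg Subtype.val (e.injective (h1.trans (map_one e).symm))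
  have hTconj : ∀ a ∈ T, ∀ b ∈ T, a * a = 1 → b * b = 1 → a ≠ 1 → b ≠ 1 → a * b = b * a →
      ∃ x ∈ T, x * a * x⁻¹ = b := by
    intro a ha b hb haa hbb ha1 hb1 hab
    obtain ⟨x, hx⟩ := hfacts.2 (e ⟨a, ha⟩) (e ⟨b, hb⟩)
      (by rw [← map_mul, show (⟨a, ha⟩ : T) * ⟨a, ha⟩ = 1 from Subtype.ext haa, map_one])
      (by rw [← map_mul, show (⟨b, hb⟩ : T) * ⟨b, hb⟩ = 1 from Subtype.ext hbb, map_one])
      (fun h => ha1 (congrArg Subtype.val (e.injective (h.trans (map_one e).symm))))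
      (fun h => hb1 (congrArg Subtype.val (e.injective (h.trans (map_one e).symm))))
      (by rw [← map_mul, ← map_mul]; exact congrArg e (Subtype.ext hab))
    refine ⟨(e.symm x : T), (e.symm x).2, ?_⟩
    have h1 := congrArg (fun y => ((e.symm y : T) : G)) hx
    simpa using h1
  have hcardT : Nat.card T = 12 ∨ Nat.card T = 60 := by
    rw [hTm, Nat.card_eq_fintype_card]
    rcases hm45 with rfl | rfl <;> decide +kernel
  have hQc : Nat.card Q = 4 := by
    have h1 := Q₁.card_eq_multiplicity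
    rw [show Nat.card (Q₁ : Subgroup T) = Nat.card Q from
      Nat.card_congr (subgroupOfEquivOfLe (inf_le_right : Q ≤ T)).toEquiv] at h1
    rw [h1, show (4 : ℕ) = 2 ^ 2 from rfl]
    congr 1
    rcases hcardT with e' | e' <;> rw [e']
    · rw [show (12 : ℕ) = 2 ^ 2 * 3 from rfl, Nat.factorization_mul (by norm_num) (by norm_num),
        Finsupp.add_apply, Nat.Prime.factorization_pow Nat.prime_two, Finsupp.single_eq_same,
        Nat.factorization_eq_zero_of_not_dvd (by norm_num : ¬ 2 ∣ 3)]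
    · rw [show (60 : ℕ) = 2 ^ 2 * 15 from rfl, Nat.factorization_mul (by norm_num) (by norm_num),
        Finsupp.add_apply, Nat.Prime.factorization_pow Nat.prime_two, Finsupp.single_eq_same,
        Nat.factorization_eq_zero_of_not_dvd (by norm_num : ¬ 2 ∣ 15)]
  have hzQ : z ∈ Q := ⟨hnS, hnT⟩
  have hQsq : ∀ q ∈ Q, q * q = 1 := fun q hq => hTcent z hnT hz2 hz1 q hq.2 (hzc q hq.1).symm
  have hQab : ∀ a ∈ Q, ∀ b ∈ Q, a * b = b * a := fun a ha b hb => by
    have i : ∀ x ∈ Q, x⁻¹ = x := fun x hx => inv_eq_of_mul_eq_one_right (hQsq x hx)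
    calc a * b = (a * b)⁻¹ := (i _ (mul_mem ha hb)).symm
      _ = b * a := by rw [mul_inv_rev, i a ha, i b hb]
  have hQcent : ∀ a ∈ Q, a ≠ 1 → ∀ x ∈ T, x * a = a * x → x ∈ Q := by
    intro a ha ha1 x hx hxa
    set L := T ⊓ centralizer ({a} : Set G)
    have hLp : IsPGroup 2 L := fun l => ⟨1, Subtype.ext (by
      rw [pow_one, pow_two]
      exact hTcent a ha.2 (hQsq a ha) ha1 l l.2.1 (mem_centralizer_singleton_iff.1 l.2.2).symm)⟩
    have hQL : Q ≤ L := fun q hq => ⟨hq.2, mem_centralizer_singleton_iff.2 (hQab q hq a ha)⟩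
    have h1 := Q₁.is_maximal' (hLp.comap_of_injective T.subtype (subtype_injective T)) (fun y hy => hQL hy)
    have : (⟨x, hx⟩ : T) ∈ L.subgroupOf T := ⟨hx, mem_centralizer_singleton_iff.2 hxa⟩
    have h5 : (⟨x, hx⟩ : T) ∈ (Q₁ : Subgroup T) := by rw [← h1]; exact this
    exact h5
  have hSc8 : Nat.card (S : Subgroup G) = 8 := by rw [hS2, hQc]
  have hJQ : ∀ s ∈ (S : Subgroup G), s ∈ Q ∨ J * s ∈ Q := fun s hs =>
    (hdich s (hSC hs)).imp (fun h => ⟨hs, h⟩) (fun h => ⟨mul_mem hJS hs, h⟩)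
  have hSsq : ∀ s ∈ (S : Subgroup G), s * s = 1 := by
    intro s hs
    rcases hJQ s hs with h | h
    · exact hQsq s h
    · have h1 := hQsq _ h
      calc s * s = (J * J) * (s * s) := by rw [hJJ, one_mul]
        _ = J * (J * s) * s := by group
        _ = J * (s * J) * s := by rw [hSc s hs]
        _ = (J * s) * (J * s) := by group
        _ = 1 := h1
  have hself : ∀ a ∈ Q, a ≠ 1 → ∀ x ∈ C, x * a = a * x → x ∈ (S : Subgroup G) := by
    intro a ha ha1 x hx hxa
    rcases hdich x hx with h | h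
    · exact (hQcent a ha ha1 x h hxa).1
    · have hJa : J * a = a * J := hcomm J (mem_zpowers J) a ha.2
      have := (hQcent a ha ha1 _ h (by rw [mul_assoc, hxa, ← mul_assoc, hJa, mul_assoc])).1
      simpa [← mul_assoc, hJJ] using mul_mem hJS this
  have hcentS : centralizer ((S : Subgroup G) : Set G) ≤ (S : Subgroup G) := fun x hx =>
    hself z hzQ hz1 x (mem_centralizer_singleton_iff.2 (mem_centralizer_iff.1 hx J hJS).symm)
      (mem_centralizer_iff.1 hx z hnS).symm
  set H := TwoTimesAlt.Ree.HN S with hH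
  have hmemH : ∀ {x : G}, (∀ s ∈ (S : Subgroup G), x * s * x⁻¹ ∈ (S : Subgroup G)) → x ∈ H :=
    fun {x} hx => mem_normalizer_fintype hx
  have hnH : n ∈ H := hn
  -- fusion inside `C`
  have hQfus : ∀ a ∈ Q, a ≠ 1 → ∀ b ∈ Q, b ≠ 1 → ∃ x ∈ T, x ∈ H ∧ x * a * x⁻¹ = b := by
    intro a ha ha1 b hb hb1
    obtain ⟨x, hx, hxe⟩ := hTconj a ha.2 b hb.2 (hQsq a ha) (hQsq b hb) ha1 hb1 (hQab a ha b hb)
    refine ⟨x, hx, hmemH fun s hs => ?_, hxe⟩
    have key : ∀ q ∈ Q, x * q * x⁻¹ ∈ Q := fun q hq => hQcent b hb hb1 _ (mul_mem (mul_mem hx hq.2) (inv_mem hx)) (by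
      rw [← hxe]
      calc x * q * x⁻¹ * (x * a * x⁻¹) = x * (q * a) * x⁻¹ := by group
        _ = x * a * x⁻¹ * (x * q * x⁻¹) := by rw [hQab q hq a ha]; group)
    rcases hJQ s hs with h | h
    · exact (key s h).1
    · have h1 := mul_mem hJS (key _ h).1
      have : J * (x * (J * s) * x⁻¹) = x * s * x⁻¹ := by
        rw [show x * (J * s) * x⁻¹ = (x * J) * s * x⁻¹ by group, ← hcomm J (mem_zpowers J) x hx,
          show J * ((J * x) * s * x⁻¹) = (J * J) * (x * s * x⁻¹) by group, hJJ, one_mul]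
      rwa [this] at h1
  -- all involutions of `S` are conjugate to `J`
  set Ω : Set G := {s | s ∈ (S : Subgroup G) ∧ ∃ g ∈ H, g * J * g⁻¹ = s}
  have hΩinv : ∀ g ∈ H, g * J * g⁻¹ ∈ Ω := fun g hg =>
    ⟨(mem_normalizer_iff.1 hg J).1 hJS, g, hg, rfl⟩
  have hΩQ : ∀ b ∈ Q, b ≠ 1 → b ∈ Ω := by
    intro b hb hb1
    obtain ⟨x, _, hxH, hxe⟩ := hQfus z hzQ hz1 b hb hb1
    refine ⟨hb.1, x * n⁻¹, mul_mem hxH (inv_mem hnH), ?_⟩
    rw [← hxe, hz]; group
  have hHeq : Nat.card H = Ω.ncard * Nat.card (H ⊓ C : Subgroup G) :=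
    card_of_conj_trans H Ω J ⟨hJS, 1, one_mem H, by simp⟩ hΩinv fun b hb => hb.2
  have hΩne : ∀ s ∈ Ω, s ≠ 1 := by
    rintro s ⟨_, g, _, rfl⟩ e'
    exact hJ1 (conj_eq_one_iff.1 e')
  have hQne : ({x : G | x ∈ Q ∧ x ≠ 1}).ncard = 3 := by
    have : {x : G | x ∈ Q ∧ x ≠ 1} = (Q : Set G) \ {1} := by ext x; simp
    rw [this, Set.ncard_sdiff_singleton_of_mem (one_mem Q), ← Nat.card_coe_set_eq]
    show Nat.card Q - 1 = 3
    rw [hQc]
  have hΩall : ∀ s ∈ (S : Subgroup G), s ≠ 1 → s ∈ Ω := by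
    by_contra hno
    push Not at hno
    obtain ⟨s, hs, hs1, hsΩ⟩ := hno
    have hJsQ : J * s ∈ Q := (hJQ s hs).resolve_left fun h => hsΩ (hΩQ s h hs1)
    have hJs1 : J * s ≠ 1 := fun e' => hsΩ (by
      rw [show s = J by rw [eq_comm, ← hJi]; exact inv_eq_of_mul_eq_one_right e']
      exact ⟨hJS, 1, one_mem H, by simp⟩)
    have hΩeq : Ω = insert J {x : G | x ∈ Q ∧ x ≠ 1} := by
      ext b
      constructor
      · intro hb
        rcases hJQ b hb.1 with h | h
        · exact Or.inr ⟨h, hΩne b hb⟩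
        · left
          by_contra hbJ
          obtain ⟨x, hxT, hxH, hxe⟩ := hQfus (J * b) h (fun e' => hbJ (by
            rw [eq_comm, ← hJi]; exact inv_eq_of_mul_eq_one_right e')) (J * s) hJsQ hJs1
          obtain ⟨g, hg, rfl⟩ := hb.2
          refine hsΩ ⟨hs, x * g, mul_mem hxH hg, ?_⟩
          have hxJ := hcomm J (mem_zpowers J) x hxT
          calc x * g * J * (x * g)⁻¹ = J * (J * x) * (g * J * g⁻¹) * x⁻¹ := by
                rw [← mul_assoc J J x, hJJ, one_mul]; group
            _ = J * (x * (J * (g * J * g⁻¹)) * x⁻¹) := by rw [hxJ]; group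
            _ = s := by rw [hxe, ← mul_assoc, hJJ, one_mul]
      · rintro (rfl | ⟨h, h1⟩)
        · exact ⟨hJS, 1, one_mem H, by simp⟩
        · exact hΩQ b h h1
    have h4 : Ω.ncard = 4 := by
      rw [hΩeq, Set.ncard_insert_of_notMem (fun h => hJT h.1.2), hQne]
    rw [h4] at hHeq
    have h16 : 2 ^ 4 ∣ Nat.card H := by
      rw [hHeq]
      refine (show 2 ^ 4 ∣ 4 * Nat.card (S : Subgroup G) by rw [hSc8]; norm_num).trans
        (mul_dvd_mul_left 4 (card_dvd_of_le (le_inf le_normalizer hSC)))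
    obtain ⟨L, hL⟩ := Sylow.exists_subgroup_card_pow_prime 2 (h16.trans (card_subgroup_dvd_card H))
    obtain ⟨L', hL'⟩ := (IsPGroup.of_card (n := 4) hL).exists_le_sylow
    have h5 := card_dvd_of_le hL'
    rw [hL, L'.card_eq_multiplicity, ← S.card_eq_multiplicity, hSc8] at h5
    norm_num at h5
  have hΩ7 : Ω.ncard = 7 := by
    have : Ω = ((S : Subgroup G) : Set G) \ {1} := by
      ext b
      exact ⟨fun hb => ⟨hb.1, hΩne b hb⟩, fun hb => hΩall b hb.1 hb.2⟩
    rw [this, Set.ncard_sdiff_singleton_of_mem (one_mem (S : Subgroup G)), ← Nat.card_coe_set_eq]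
    show Nat.card (S : Subgroup G) - 1 = 7
    rw [hSc8]
  have hHC : Nat.card (H ⊓ C : Subgroup G) = 24 := by
    have h1 := card_of_conj_trans (H ⊓ C) {x : G | x ∈ Q ∧ x ≠ 1} z ⟨hzQ, hz1⟩
      (fun g hg => ⟨⟨(mem_normalizer_iff.1 hg.1 z).1 hnS, hTn g hg.2 z hnT⟩,
        fun e' => hz1 (conj_eq_one_iff.1 e')⟩)
      (fun b hb => by
        obtain ⟨x, hx, hxH, hxe⟩ := hQfus z hzQ hz1 b hb.1 hb.2
        exact ⟨x, ⟨hxH, hTC hx⟩, hxe⟩)
    have h3 : H ⊓ C ⊓ centralizer ({z} : Set G) = (S : Subgroup G) := by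
      refine le_antisymm (fun x hx => hself z hzQ hz1 x hx.1.2 (mem_centralizer_singleton_iff.1 hx.2)) fun x hx => ?_
      exact ⟨⟨le_normalizer hx, hSC hx⟩, mem_centralizer_singleton_iff.2 (hzc x hx)⟩
    rw [h1, hQne, h3, hSc8]
  have hH168 : Nat.card H = 168 := by rw [hHeq, hΩ7, hHC]
  have hcle' : ∀ t ∈ (S : Subgroup G), t ≠ 1 → ∃ g ∈ H,
      centralizer ({t} : Set G) = C.map (MulAut.conj g).toMonoidHom := by
    intro t ht ht1
    obtain ⟨g, hg, rfl⟩ := (hΩall t ht ht1).2
    refine ⟨g, hg, ?_⟩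
    ext x
    rw [Invol.mem_conjMap, mem_centralizer_singleton_iff, mem_centralizer_singleton_iff]
    constructor
    · intro h
      calc g⁻¹ * x * g * J = g⁻¹ * (x * (g * J * g⁻¹)) * g := by group
        _ = J * (g⁻¹ * x * g) := by rw [h]; group
    · intro h
      calc x * (g * J * g⁻¹) = g * (g⁻¹ * x * g * J) * g⁻¹ := by group
        _ = g * J * g⁻¹ * x := by rw [h]; group
  rcases hm45 with rfl | rfl
  · left
    refine ⟨rfl, ?_⟩
    have hC24 : Nat.card C = 24 := by
      rw [hCc, hTm, Nat.card_eq_fintype_card]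
      decide +kernel
    have hCH : C ≤ H := by
      rw [← eq_of_le_of_card_ge (inf_le_right : H ⊓ C ≤ C) (by rw [hHC, hC24])]
      exact inf_le_left
    have hyp : TwoTimesAlt.Ree.Hyp S := by
      refine ⟨hSsq, hSc8, hH168, fun t ht ht1 => ?_, fun t ht ht1 => ?_, hcentS, ?_⟩
      · obtain ⟨g, _, hg⟩ := hcle' t ht ht1
        rw [hg, TwoTimesAlt.Ree.card_conj, hC24]
      · obtain ⟨g, hg, hgC⟩ := hcle' t ht ht1
        rw [hgC]
        rintro _ ⟨x, hx, rfl⟩
        exact mul_mem (mul_mem hg (hCH hx)) (inv_mem hg)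
      · intro htop
        haveI : (S : Subgroup G).Normal := normalizer_eq_top_iff.1 htop
        have hq : Nat.card (G ⧸ (S : Subgroup G)) = 21 := by
          have h1 := Subgroup.card_eq_card_quotient_mul_card_subgroup (S : Subgroup G)
          rw [← card_top (G := G), ← htop, hH168, hSc8] at h1
          omega
        haveI : Group.IsSolvable (S : Subgroup G) := Group.isSolvable_of_comm fun a b =>
          Subtype.ext (by
            have i : ∀ x ∈ (S : Subgroup G), x⁻¹ = x := fun x hx => inv_eq_of_mul_eq_one_right (hSsq x hx)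
            show (a : G) * b = b * a
            calc (a : G) * b = ((a : G) * b)⁻¹ := (i _ (mul_mem a.2 b.2)).symm
              _ = b * a := by rw [mul_inv_rev, i _ a.2, i _ b.2])
        haveI : Group.IsSolvable (G ⧸ (S : Subgroup G)) :=
          Cfsg.Lib.Recog.Icosa.solvable_of_lt_sixty _ _ hq (by norm_num)
        exact hns (Group.isSolvable_of_ker_le_range (S : Subgroup G).subtype (QuotientGroup.mk' (S : Subgroup G))
          (by rw [QuotientGroup.ker_mk', range_subtype]))
    exact TwoTimesAlt.Ree.iso hyp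
  · right
    refine ⟨rfl, ?_⟩
    haveI : IsSimpleGroup (alternatingGroup (Fin 5)) := alternatingGroup.isSimpleGroup_five
    set W := Subgroup.closure {x : G | ∃ g : G, x = g * J * g⁻¹ ∧ x * J = J * x}
    have hWC : W ≤ C := (closure_le _).2 fun x hx => mem_centralizer_singleton_iff.2 hx.choose_spec.2
    have hSW : (S : Subgroup G) ≤ W := by
      intro s hs
      by_cases hs1 : s = 1
      · rw [hs1]; exact one_mem W
      obtain ⟨g, _, hge⟩ := (hΩall s hs hs1).2
      exact subset_closure ⟨g, hge.symm, hSc s hs⟩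
    have hWn : ∀ c ∈ C, ∀ w ∈ W, c * w * c⁻¹ ∈ W := by
      intro c hc w hw
      suffices h : W ≤ W.comap (MulAut.conj c).toMonoidHom from h hw
      refine (closure_le _).2 ?_
      rintro _ ⟨g, rfl, hgc⟩
      refine subset_closure ⟨c * g, ?_, ?_⟩
      · show c * (g * J * g⁻¹) * c⁻¹ = _
        group
      · show c * (g * J * g⁻¹) * c⁻¹ * J = J * (c * (g * J * g⁻¹) * c⁻¹)
        have hcJ := mem_centralizer_singleton_iff.1 hc
        calc c * (g * J * g⁻¹) * c⁻¹ * J = c * (g * J * g⁻¹) * (c⁻¹ * J * c) * c⁻¹ := by group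
          _ = c * (g * J * g⁻¹ * J) * c⁻¹ := by rw [mul_assoc c⁻¹ J c, ← hcJ, inv_mul_cancel_left]; group
          _ = (c * J) * (g * J * g⁻¹) * c⁻¹ := by rw [hgc]; group
          _ = J * (c * (g * J * g⁻¹) * c⁻¹) := by rw [hcJ]; group
    have hTW : T ≤ W := by
      set K := (W.subgroupOf T).map e.toMonoidHom
      haveI : (W.subgroupOf T).Normal := ⟨fun w hw g => hWn _ (hTC g.2) _ hw⟩
      haveI : K.Normal := Normal.map inferInstance _ e.surjective
      rcases IsSimpleGroup.eq_bot_or_eq_top_of_normal K inferInstance with h | h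
      · exfalso
        have h' := (map_eq_bot_iff_of_injective _ e.injective).1 h
        have : (⟨z, hnT⟩ : T) ∈ W.subgroupOf T := hSW hnS
        rw [h', mem_bot] at this
        exact hz1 (congrArg Subtype.val this)
      · intro t ht
        have h5 : e ⟨t, ht⟩ ∈ K := h ▸ mem_top _
        rw [mem_map_equiv, e.symm_apply_apply] at h5
        exact h5
    have hWeq : W = C := le_antisymm hWC (hsup ▸ sup_le (zpowers_le.2 (hSW hJS)) hTW)
    have eJ : zpowers J ≃* Multiplicative (ZMod 2) := mulEquivOfPrimeCardEq (p := 2) hzJ (by simp)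
    have hJ1iso := Cfsg.Agent.S3239.result J hJ2 S hJS hSc
      ⟨(MulEquiv.subgroupCongr hWeq).trans (f.symm.trans (eJ.prodCongr e))⟩
    set N := Subgroup.normalClosure ({J} : Set G) with hN
    have hJN : J ∈ N := subset_normalClosure rfl
    have hCN : C ≤ N := by
      rw [← hWeq]
      refine (closure_le _).2 ?_
      rintro _ ⟨g, rfl, _⟩
      exact normalClosure_normal.conj_mem J hJN g
    have hM : Nat.card (H ⊓ N : Subgroup G) = 168 := by
      have h1 : 24 ∣ Nat.card (H ⊓ N : Subgroup G) := hHC ▸ card_dvd_of_le (inf_le_inf_left H hCN)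
      have h3 : Nat.card (H ⊓ N : Subgroup G) ∣ 168 := hH168 ▸ card_dvd_of_le inf_le_left
      have h4 : Nat.card (H ⊓ N : Subgroup G) ≠ 24 := by
        intro h24
        have heq : H ⊓ C = H ⊓ N := eq_of_le_of_card_ge (inf_le_inf_left H hCN) (by rw [hHC, h24])
        have hle : H ⊓ C ≤ (S : Subgroup G) := by
          intro x hx
          refine hcentS (mem_centralizer_iff.2 fun s hs => ?_)
          by_cases hs1 : s = 1
          · rw [hs1]; simp
          obtain ⟨g, hg, rfl⟩ := (hΩall s hs hs1).2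
          have h5 : g⁻¹ * x * g ∈ H ⊓ N := by
            refine mem_inf.2 ⟨mul_mem (mul_mem (inv_mem hg) hx.1) hg, ?_⟩
            have := normalClosure_normal.conj_mem x (hCN hx.2) g⁻¹
            rwa [inv_inv] at this
          rw [← heq] at h5
          have h6 := mem_centralizer_singleton_iff.1 h5.2
          calc g * J * g⁻¹ * x = g * (J * (g⁻¹ * x * g)) * g⁻¹ := by group
            _ = x * (g * J * g⁻¹) := by rw [← h6]; group
        have := card_dvd_of_le hle
        rw [hHC, hSc8] at this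
        norm_num at this
      have key : ∀ k ∈ Nat.divisors 168, 24 ∣ k → k ≠ 24 → k = 168 := by decide
      exact key _ (Nat.mem_divisors.2 ⟨h3, by norm_num⟩) h1 h4
    have hHN : H ≤ N := by
      rw [← eq_of_le_of_card_ge (inf_le_left : H ⊓ N ≤ H) (by rw [hM, hH168])]
      exact inf_le_right
    have hNtop : N = ⊤ := by
      have hFr := Sylow.normalizer_sup_eq_top' (N := N) S (le_normalizer.trans hHN)
      rwa [← Sylow.coe_coe, sup_eq_right.2 hHN] at hFr
    exact hJ1iso.map fun f' => (Subgroup.topEquiv.symm.trans (MulEquiv.subgroupCongr hNtop.symm)).trans f'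


end Cfsg.Agent.S3285
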