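import Cfsg.Statements.S3294
import Cfsg.Agent.Lib.DihedralAut
import Cfsg.Agent.Lib.Core.PSolvable

set_option autoImplicit false
open Cfsg

namespace Cfsg.Agent.S3294

theorem aut_normal_subgroup_quaternion {n : ℕ} (hn : 3 ≤ n) {Q : Type*} [Group Q] [Finite Q]
    (φ : Q →* QuaternionGroup (2 ^ n)) (hφ : Function.Injective φ)
    (hnorm : ∀ q : Q, ∀ y : QuaternionGroup (2 ^ n), ∃ r : Q, φ r = y * φ q * y⁻¹) :
    IsPGroup 2 (MulAut Q) := by
  have : NeZero (2 ^ n) := ⟨(pow_pos two_pos n).ne'⟩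
  have : NeZero (2 * 2 ^ n) := ⟨by have := pow_pos (show 0 < 2 by norm_num) n; omega⟩
  have h8 : 2 ^ 3 ≤ 2 ^ n := Nat.pow_le_pow_right two_pos hn
  have hQ : IsPGroup 2 Q := by
    have hp : IsPGroup 2 (QuaternionGroup (2 ^ n)) := IsPGroup.of_card (n := n + 2) (by
      rw [Nat.card_eq_fintype_card, QuaternionGroup.card, pow_add, mul_comm]; norm_num)
    exact hp.of_injective φ hφ
  let rot : Subgroup (QuaternionGroup (2 ^ n)) := Subgroup.zpowers (QuaternionGroup.a 1)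
  have hrot : ∀ i, QuaternionGroup.a i ∈ rot := fun i => ⟨(i.val : ℤ), by
    show (QuaternionGroup.a 1) ^ ((i.val : ℕ) : ℤ) = _
    rw [zpow_natCast, QuaternionGroup.a_one_pow, ZMod.natCast_zmod_val]⟩
  have hcyc : IsCyclic (rot.comap φ) :=
    isCyclic_of_injective (φ.subgroupComap rot) fun a b hab =>
      Subtype.ext (hφ (congrArg (fun z : rot => (z : QuaternionGroup (2 ^ n))) hab))
  have hidx1 : rot.index = 2 := by
    have hc := Subgroup.card_mul_index rot
    rw [Nat.card_zpowers, QuaternionGroup.orderOf_a_one, Nat.card_eq_fintype_card, QuaternionGroup.card] at hc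
    have h0 := pow_pos two_pos n (a := (2 : ℕ))
    exact Nat.eq_of_mul_eq_mul_left (show 0 < 2 * 2 ^ n by omega) (hc.trans (by ring))
  have hidx : (rot.comap φ).index ≤ 2 := by
    have hn : rot.Normal := Subgroup.normal_of_index_eq_two hidx1
    rw [Subgroup.index_comap]
    have hd := Subgroup.relIndex_dvd_index_of_normal rot φ.range
    rw [hidx1] at hd
    exact Nat.le_of_dvd two_pos hd
  obtain ⟨g₀, hg₀⟩ := IsCyclic.exists_generator (α := rot.comap φ)
  by_cases hall : ∀ q : Q, φ q ∈ rot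
  · exact Cfsg.Lib.DihedralAut.isPGroup_mulAut_of_cyclic hQ (rot.comap φ) hidx fun σ q _ => hall (σ q)
  push Not at hall
  obtain ⟨q, hq⟩ := hall
  obtain ⟨i, hi⟩ : ∃ i, φ q = QuaternionGroup.xa i := by
    rcases hqc : φ q with i | i
    · exact absurd (hqc ▸ hrot i) hq
    · exact ⟨i, rfl⟩
  obtain ⟨r, hr⟩ := hnorm q (QuaternionGroup.a 1)
  rw [hi] at hr
  -- `Q` contains the square of the generator
  have hra : φ (q⁻¹ * r) = QuaternionGroup.a (-2) := by
    rw [map_mul, map_inv, hi, hr]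
    have : (QuaternionGroup.a 1 : QuaternionGroup (2 ^ n))⁻¹ = QuaternionGroup.a (-1) := rfl
    rw [this, QuaternionGroup.a_mul_xa, QuaternionGroup.xa_mul_a, inv_mul_eq_iff_eq_mul,
      QuaternionGroup.xa_mul_a]
    congr 1
    ring
  have hord : 4 < orderOf (g₀ : Q) := by
    have hm : q⁻¹ * r ∈ rot.comap φ := by rw [Subgroup.mem_comap, hra]; exact hrot _
    have h1 : orderOf (q⁻¹ * r) ∣ orderOf (g₀ : Q) := by
      obtain ⟨j, hj⟩ := Subgroup.mem_zpowers_iff.1 (hg₀ ⟨_, hm⟩)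
      have hj' : (g₀ : Q) ^ j = q⁻¹ * r := congrArg Subtype.val hj
      rw [← hj']
      refine orderOf_dvd_of_pow_eq_one ?_
      show (((g₀ : Q)) ^ j) ^ orderOf (g₀ : Q) = 1
      rw [← zpow_natCast, ← zpow_mul, mul_comm, zpow_mul, zpow_natCast, pow_orderOf_eq_one, one_zpow]
    have h2 : 4 < orderOf (q⁻¹ * r) := by
      rw [← orderOf_injective φ hφ, hra, show (QuaternionGroup.a (-2) : QuaternionGroup (2 ^ n)) = (QuaternionGroup.a 1 ^ 2)⁻¹ by
        rw [QuaternionGroup.a_one_pow]; rfl, orderOf_inv, orderOf_pow' _ two_ne_zero, QuaternionGroup.orderOf_a_one,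
        Nat.gcd_mul_right_left, Nat.mul_div_cancel_left _ two_pos]
      omega
    exact h2.trans_le (Nat.le_of_dvd (orderOf_pos _) h1)
  refine Cfsg.Lib.DihedralAut.isPGroup_mulAut_of_cyclic hQ (rot.comap φ) hidx fun σ w hw => ?_
  obtain ⟨j, hj⟩ := Subgroup.mem_zpowers_iff.1 (hg₀ ⟨w, hw⟩)
  have hj' : (g₀ : Q) ^ j = w := congrArg Subtype.val hj
  rw [← hj']
  show σ ((g₀ : Q) ^ j) ∈ _
  rw [map_zpow]
  refine zpow_mem ?_ j
  rw [Subgroup.mem_comap]
  rcases hc : φ (σ (g₀ : Q)) with k | k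
  · exact hrot k
  · exfalso
    have h3 := orderOf_injective φ hφ (σ (g₀ : Q))
    rw [hc, QuaternionGroup.orderOf_xa, MulEquiv.orderOf_eq] at h3
    omega


/-- A finite solvable group whose Sylow 2-subgroups are generalized quaternion of order at least 32 has a normal 2-complement. -/
theorem result {G : Type*} [Group G] [Finite G] (hsol : Group.IsSolvable G) (T : Sylow 2 G) (n : ℕ) (hn : 3 ≤ n) (hT : Nonempty ((T : Subgroup G) ≃* QuaternionGroup (2 ^ n))) : Cfsg.HasNormalPComplement 2 G := by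
  have := Fact.mk Nat.prime_two
  obtain ⟨e⟩ := hT
  set O := Cfsg.pPrimeCore 2 G with hO
  set f := QuotientGroup.mk' O with hf
  have hOc : (Nat.card O).Coprime 2 := Cfsg.Lib.Core.pPrimeCore_coprime 2 G
  let T' : Sylow 2 (G ⧸ O) := T.mapSurjective (QuotientGroup.mk'_surjective O)
  have hTO : (T : Subgroup G) ⊓ O = ⊥ := by
    apply Subgroup.inf_eq_bot_of_coprime
    obtain ⟨k, hk⟩ := IsPGroup.iff_card.1 T.isPGroup'
    rw [hk]
    exact (hOc.symm.pow_left k)
  let e0 : ↥(T : Subgroup G) ≃* ↥(T' : Subgroup (G ⧸ O)) :=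
    MulEquiv.ofBijective (f.subgroupMap (T : Subgroup G))
      ⟨fun a b hab => by
        have h1 : (a : G)⁻¹ * b ∈ (T : Subgroup G) ⊓ O := by
          refine ⟨Subgroup.mul_mem _ (Subgroup.inv_mem _ a.2) b.2, ?_⟩
          exact QuotientGroup.eq.1 (congrArg Subtype.val hab)
        rw [hTO, Subgroup.mem_bot, inv_mul_eq_one] at h1
        exact Subtype.ext h1,
      f.subgroupMap_surjective _⟩
  let e' : ↥(T' : Subgroup (G ⧸ O)) ≃* QuaternionGroup (2 ^ n) := e0.symm.trans e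
  set Q := Cfsg.pCore 2 (G ⧸ O) with hQ
  have hQT : Q ≤ (T' : Subgroup (G ⧸ O)) := Cfsg.Lib.Core.pCore_le_sylow T'
  have haut : IsPGroup 2 (MulAut ↥Q) := aut_normal_subgroup_quaternion hn
    ((e'.toMonoidHom).comp (Subgroup.inclusion hQT)) (e'.injective.comp (Subgroup.inclusion_injective hQT))
    (by
      intro q y
      refine ⟨⟨((e'.symm y : ↥(T' : Subgroup (G ⧸ O))) : G ⧸ O) * q * ((e'.symm y : ↥(T' : Subgroup (G ⧸ O))) : G ⧸ O)⁻¹,
        (inferInstance : Q.Normal).conj_mem _ q.2 _⟩, ?_⟩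
      show e' _ = y * e' (Subgroup.inclusion hQT q) * y⁻¹
      conv_rhs => rw [← e'.apply_symm_apply y, ← map_inv, ← map_mul, ← map_mul]
      rfl)
  have hC : Subgroup.centralizer (Q : Set (G ⧸ O)) ≤ Q :=
    Cfsg.Lib.Core.centralizer_pCore_le_of_isPSolvable
      (Cfsg.Lib.Core.isPSolvable_of_isSolvable (G := G ⧸ O)) Cfsg.Lib.Core.pPrimeCore_quotient_eq_bot
  have hp : IsPGroup 2 (G ⧸ O) := by
    intro g
    obtain ⟨k, hk⟩ := haut (MulAut.conjNormal g)
    rw [← map_pow] at hk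
    have hgc : g ^ 2 ^ k ∈ Subgroup.centralizer (Q : Set (G ⧸ O)) := by
      rw [Subgroup.mem_centralizer_iff]
      intro q hq
      have h1 : g ^ 2 ^ k * q * (g ^ 2 ^ k)⁻¹ = q := by
        simpa only [MulAut.conjNormal_apply, MulAut.one_apply] using congrArg Subtype.val (DFunLike.congr_fun hk (⟨q, hq⟩ : ↥Q))
      exact (mul_inv_eq_iff_eq_mul.1 h1).symm
    obtain ⟨l, hl⟩ := Cfsg.Lib.Core.pCore_isPGroup 2 (G ⧸ O) ⟨_, hC hgc⟩
    exact ⟨k + l, by rw [pow_add, pow_mul]; exact congrArg Subtype.val hl⟩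
  refine ⟨T, O, inferInstance, Subgroup.isComplement'_of_coprime ?_ ?_⟩
  · -- orders
    obtain ⟨k, hk⟩ := IsPGroup.iff_card.1 hp
    have h1 := Subgroup.card_mul_index O
    rw [Subgroup.index_eq_card, hk] at h1
    have h2 : Nat.card ↥(T : Subgroup G) = 2 ^ k := by
      rw [Nat.card_congr e0.toEquiv]
      have h3 : (T' : Subgroup (G ⧸ O)) = ⊤ := by
        rw [← Subgroup.index_eq_one]
        obtain ⟨j, -, hj⟩ := (Nat.dvd_prime_pow Nat.prime_two).1 (hk ▸ Subgroup.index_dvd_card (T' : Subgroup (G ⧸ O)))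
        rcases j with _ | j
        · exact hj.trans (pow_zero 2)
        · exact absurd (hj ▸ dvd_pow_self 2 (Nat.succ_ne_zero j)) T'.not_dvd_index
      rw [h3, Subgroup.card_top, hk]
    rw [h2]
    exact h1
  · obtain ⟨k, hk⟩ := IsPGroup.iff_card.1 T.isPGroup'
    rw [hk]
    exact hOc.pow_right k

end Cfsg.Agent.S3294
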