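import Cfsg.Statements.S3301
import Cfsg.Agent.Lib.Extra.LargeFour
import Cfsg.Agent.Lib.Extra.LargeWidthOne

set_option autoImplicit false
open Cfsg

namespace Cfsg.Agent.S3301

/-- Let G be a finite group with no nontrivial 2-group quotient (O^2(G) = G), z an involution of G with H = C_G(z), and suppose E = O_2(H) is extraspecial with C_G(E) ≤ E. Then the Sylow 2-subgroups of H/[H, H] are elementary abelian: every element of 2-power order of the abelianization of H has order at most 2. -/
theorem result {G : Type*} [Group G] [Finite G] (hres : Cfsg.pResidual 2 G = ⊤) (z : G) (hz : orderOf z = 2)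
    (E : Subgroup G) (hE : E = (Cfsg.pCore 2 ↥(Subgroup.centralizer ({z} : Set G))).map (Subgroup.centralizer ({z} : Set G)).subtype)
    (hext : Cfsg.IsExtraspecial 2 ↥E) (hcent : Subgroup.centralizer (E : Set G) ≤ E) :
    ∀ q : Abelianization ↥(Subgroup.centralizer ({z} : Set G)), (∃ k : ℕ, orderOf q = 2 ^ k) → q ^ 2 = 1 := by
  classical
  haveI : Fact (Nat.Prime 2) := ⟨Nat.prime_two⟩
  have hQ := Cfsg.Lib.Extra.ctx_of_twoCore hz hE hext hcent
  set H := Subgroup.centralizer ({z} : Set G) with hH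
  rintro q ⟨j, hj⟩
  obtain ⟨k, m, hm, hk⟩ := Nat.exists_eq_two_pow_mul_odd (Nat.card_pos (α := Abelianization ↥H)).ne'
  let pw : Abelianization ↥H →* Abelianization ↥H := powMonoidHom m
  have hA : IsPGroup 2 pw.range := by
    rintro ⟨_, x, rfl⟩
    refine ⟨k, Subtype.ext ?_⟩
    show (x ^ m) ^ 2 ^ k = 1
    rw [← pow_mul, mul_comm, ← hk, pow_card_eq_one']
  let φ : ↥H →* pw.range := pw.rangeRestrict.comp Abelianization.of
  have hφ : Function.Surjective φ :=
    pw.rangeRestrict_surjective.comp QuotientGroup.mk_surjective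
  have key : ∀ a : pw.range, a ^ 2 = 1 := by
    rcases Nat.lt_or_ge (Nat.card ↥E) 16 with h16 | h16
    · intro a
      obtain ⟨h, rfl⟩ := hφ a
      refine hQ.sq_eq_one_of_small hE h16 ?_ hA φ h
      by_contra hab
      push Not at hab
      have hcom : commutator ↥E = ⊥ := by
        rw [commutator_def, Subgroup.commutator_eq_bot_iff_le_centralizer]
        exact fun a _ => Subgroup.mem_centralizer_iff.2 fun b _ => Subtype.ext (hab b b.2 a a.2)
      have h2 := hext.2
      rw [← hext.1.2.2, hcom, Subgroup.card_bot] at h2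
      exact absurd h2 (by norm_num)
    · exact hQ.sq_eq_one_of_surjective h16 hres hA φ hφ
  have h2m : q ^ (2 * m) = 1 := by
    have h := congrArg Subtype.val (key ⟨pw q, q, rfl⟩)
    rw [show 2 * m = m * 2 by ring, pow_mul]
    exact h
  have h2j : q ^ 2 ^ j = 1 := hj ▸ pow_orderOf_eq_one q
  have hcop : Nat.Coprime (2 ^ j) m := Nat.Coprime.pow_left _ (Nat.coprime_two_left.2 hm)
  have hg := pow_gcd_eq_one.mpr ⟨h2m, h2j⟩
  refine orderOf_dvd_iff_pow_eq_one.1 (?_ : orderOf q ∣ 2)
  refine (orderOf_dvd_of_pow_eq_one hg).trans ?_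
  refine Nat.Coprime.dvd_of_dvd_mul_right (n := m) ?_ (Nat.gcd_dvd_left _ _)
  exact Nat.Coprime.coprime_dvd_left (Nat.gcd_dvd_right _ _) hcop

end Cfsg.Agent.S3301
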