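import Cfsg.Statements.S3305
import Mathlib

set_option autoImplicit false
open Cfsg

namespace Cfsg.Agent.S3305

theorem relIndex_dvd {G : Type*} [Group G] [Finite G] (P : Subgroup G) (D : Subgroup G) {H : Subgroup G}
    [H.Normal] (hD : D ≤ P ⊔ H) (hHD : H ≤ D) : P.relIndex D ∣ P.relIndex (P ⊔ H) := by
  refine dvd_of_eq (Nat.card_eq_of_bijective (Subgroup.quotientSubgroupOfEmbeddingOfLE P hD) ⟨(Subgroup.quotientSubgroupOfEmbeddingOfLE P hD).injective, ?_⟩)
  intro q
  induction q using Quotient.inductionOn' with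
  | h x =>
    have hx2 : (x : G) ∈ H ⊔ P := (sup_comm P H).le x.2
    obtain ⟨h, hh, p, hp, hx⟩ := Subgroup.mem_sup_of_normal_left.1 hx2
    refine ⟨QuotientGroup.mk (⟨h, hHD hh⟩ : ↥D), ?_⟩
    rw [Subgroup.quotientSubgroupOfEmbeddingOfLE_apply_mk]
    refine QuotientGroup.eq.2 ?_
    rw [Subgroup.mem_subgroupOf]
    simpa [← hx] using hp

theorem sylow_inter {G : Type*} [Group G] [Finite G] (P : Sylow 2 G) (D : Subgroup G) {H : Subgroup G}
    [H.Normal] (_h : H ≤ (P : Subgroup G) ⊔ H) (hD : D ≤ (P : Subgroup G) ⊔ H) (hHD : H ≤ D) :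
    ∃ R : Sylow 2 ↥D, (R : Subgroup ↥D) = ((P : Subgroup G) ⊓ D).subgroupOf D := by
  have := Fact.mk Nat.prime_two
  obtain ⟨R, hR⟩ := IsPGroup.exists_le_sylow
    ((P.isPGroup'.to_le inf_le_left : IsPGroup 2 ↥((P : Subgroup G) ⊓ D)).comap_of_injective D.subtype D.subtype_injective)
  refine ⟨R, le_antisymm ?_ hR⟩
  intro r hr
  have hidx : ¬ 2 ∣ (((P : Subgroup G) ⊓ D).subgroupOf D).index := by
    have h1 := P.not_dvd_index
    intro h2
    apply h1
    refine h2.trans ?_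
    show ((P : Subgroup G) ⊓ D).relIndex D ∣ (P : Subgroup G).index
    rw [Subgroup.inf_relIndex_right]
    have hA := relIndex_dvd (P : Subgroup G) D hD hHD
    have hB := Subgroup.relIndex_dvd_index_of_le (le_sup_left : (P : Subgroup G) ≤ (P : Subgroup G) ⊔ H)
    exact dvd_trans hA hB
  let h4 := IsPGroup.toSylow ((P.isPGroup'.to_le inf_le_left : IsPGroup 2 ↥((P : Subgroup G) ⊓ D)).comap_of_injective D.subtype D.subtype_injective) hidx
  exact (h4.3 R.isPGroup' hR).le hr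


/-- If any two distinct Sylow 2-subgroups of the finite group G intersect in a cyclic group, then the same holds in every quotient group G/H, H a normal subgroup of G. -/
theorem result {G : Type*} [Group G] [Finite G]
    (hC : ∀ S T : Sylow 2 G, S ≠ T → IsCyclic ↥((S : Subgroup G) ⊓ (T : Subgroup G))) (H : Subgroup G) [H.Normal] :
    ∀ S T : Sylow 2 (G ⧸ H), S ≠ T → IsCyclic ↥((S : Subgroup (G ⧸ H)) ⊓ (T : Subgroup (G ⧸ H))) := by
  have := Fact.mk Nat.prime_two
  set f := QuotientGroup.mk' H with hf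
  have hsur : Function.Surjective f := QuotientGroup.mk'_surjective H
  intro S T hST
  obtain ⟨P, rfl⟩ := Sylow.mapSurjective_surjective hsur 2 S
  obtain ⟨Q, rfl⟩ := Sylow.mapSurjective_surjective hsur 2 T
  set D : Subgroup G := ((P : Subgroup G) ⊔ H) ⊓ ((Q : Subgroup G) ⊔ H) with hD
  have hDcomap : D = (((P : Subgroup G).map f) ⊓ ((Q : Subgroup G).map f)).comap f := by
    rw [hD, Subgroup.comap_inf, Subgroup.comap_map_eq, Subgroup.comap_map_eq, hf, QuotientGroup.ker_mk']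
  have hHD : H ≤ D := le_inf le_sup_right le_sup_right
  -- Sylow subgroups of `D` inside `P` and inside `Q`
  obtain ⟨R, hR⟩ : ∃ R : Sylow 2 ↥D, (R : Subgroup ↥D) = ((P : Subgroup G) ⊓ D).subgroupOf D :=
    sylow_inter P D (le_sup_right : H ≤ _) inf_le_left hHD
  obtain ⟨R', hR'⟩ : ∃ R : Sylow 2 ↥D, (R : Subgroup ↥D) = ((Q : Subgroup G) ⊓ D).subgroupOf D :=
    sylow_inter Q D (le_sup_right : H ≤ _) inf_le_right hHD
  obtain ⟨d, hd⟩ := MulAction.exists_smul_eq ↥D R' R
  have hne : (d : G) • Q ≠ P := by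
    intro h
    apply hST
    apply Sylow.ext
    rw [Sylow.coe_mapSurjective, Sylow.coe_mapSurjective]
    have h1 : (P : Subgroup G).map f = ((Q : Subgroup G).map f).map (MulAut.conj (f d)).toMonoidHom := by
      rw [← h, Sylow.coe_subgroup_smul]
      show ((Q : Subgroup G).map (MulAut.conj (d : G)).toMonoidHom).map f = _
      rw [Subgroup.map_map, Subgroup.map_map]
      congr 1
    have h2 : f d ∈ (Q : Subgroup G).map f := by
      exact (hDcomap.le d.2).2
    rw [h1]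
    ext x
    simp only [Subgroup.mem_map_equiv, MulAut.conj_symm_apply]
    rw [Subgroup.mul_mem_cancel_right _ h2, Subgroup.mul_mem_cancel_left _ (inv_mem h2)]
  have hle : (P : Subgroup G) ⊓ D ≤ (P : Subgroup G) ⊓ ((d • Q : Sylow 2 G) : Subgroup G) := by
    refine le_inf inf_le_left fun x hx => ?_
    have h1 : (⟨x, hx.2⟩ : ↥D) ∈ (R : Subgroup ↥D) := by rw [hR]; exact hx
    rw [← hd, Sylow.smul_def] at h1
    obtain ⟨y, hy, hyx⟩ := h1
    rw [SetLike.mem_coe, hR'] at hy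
    have hx' : x = (d : G) * (y : G) * (d : G)⁻¹ := (congrArg Subtype.val hyx).symm
    rw [hx', show (d • Q : Sylow 2 G) = (d : G) • Q from rfl, Sylow.coe_subgroup_smul]
    exact Subgroup.smul_mem_pointwise_smul (y : G) (MulAut.conj (d : G)) _ hy.1
  have hcyc : IsCyclic ↥((P : Subgroup G) ⊓ D) := by
    have := hC P (d • Q) (fun h => hne h.symm)
    exact isCyclic_of_injective (Subgroup.inclusion hle) (Subgroup.inclusion_injective hle)
  have himg : ((P.mapSurjective hsur : Sylow 2 (G ⧸ H)) : Subgroup (G ⧸ H)) ⊓ (Q.mapSurjective hsur : Sylow 2 (G ⧸ H)) =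
      ((P : Subgroup G) ⊓ D).map f := by
    rw [Sylow.coe_mapSurjective, Sylow.coe_mapSurjective]
    apply le_antisymm
    · rintro _ ⟨⟨x, hx, rfl⟩, hq⟩
      exact ⟨x, ⟨hx, hDcomap.ge ⟨⟨x, hx, rfl⟩, hq⟩⟩, rfl⟩
    · rintro _ ⟨x, hx, rfl⟩
      exact ⟨⟨x, hx.1, rfl⟩, (hDcomap.le hx.2).2⟩
  rw [himg]
  exact isCyclic_of_surjective (f.subgroupMap _) (f.subgroupMap_surjective _)

end Cfsg.Agent.S3305
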