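import Cfsg.Statements.S3303
import Cfsg.Agent.S3305
import Cfsg.Agent.Lib.DihedralAut
import Cfsg.Agent.Lib.Core.PSolvable

set_option autoImplicit false
open Cfsg

namespace Cfsg.Agent.S3303

/-- Let G be a finite solvable group in which the intersection of any two distinct Sylow 2-subgroups is cyclic. Then G/O(G) has a normal Sylow 2-subgroup, where O(G) is the largest normal subgroup of odd order. -/
theorem result {G : Type*} [Group G] [Finite G] (hs : Group.IsSolvable G)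
    (hC : ∀ S T : Sylow 2 G, S ≠ T → IsCyclic ↥((S : Subgroup G) ⊓ (T : Subgroup G))) :
    ∃ P : Sylow 2 (G ⧸ Cfsg.oddCore G), (P : Subgroup (G ⧸ Cfsg.oddCore G)).Normal := by
  have := Fact.mk Nat.prime_two
  have := hs
  obtain ⟨P⟩ : Nonempty (Sylow 2 (G ⧸ Cfsg.oddCore G)) := inferInstance
  refine ⟨P, ?_⟩
  by_cases hall : ∀ T : Sylow 2 (G ⧸ Cfsg.oddCore G), P = T
  · have : Subsingleton (Sylow 2 (G ⧸ Cfsg.oddCore G)) := ⟨fun a b => (hall a).symm.trans (hall b)⟩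
    exact P.normal_of_subsingleton
  push Not at hall
  obtain ⟨T, hT⟩ := hall
  exfalso
  have hcyc0 := Cfsg.Agent.S3305.result hC (Cfsg.oddCore G) P T hT
  set Q := Cfsg.pCore 2 (G ⧸ Cfsg.oddCore G) with hQ
  have hcyc : IsCyclic ↥Q :=
    isCyclic_of_injective (Subgroup.inclusion (le_inf (Cfsg.Lib.Core.pCore_le_sylow P) (Cfsg.Lib.Core.pCore_le_sylow T)))
      (Subgroup.inclusion_injective _)
  have hQp : IsPGroup 2 ↥Q := Cfsg.Lib.Core.pCore_isPGroup 2 _
  have haut : IsPGroup 2 (MulAut ↥Q) := by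
    have : IsCyclic ↥(⊤ : Subgroup ↥Q) := isCyclic_of_surjective Subgroup.topEquiv.symm Subgroup.topEquiv.symm.surjective
    exact Cfsg.Lib.DihedralAut.isPGroup_mulAut_of_cyclic hQp ⊤ (by simp) fun _ _ _ => Subgroup.mem_top _
  have hC' : Subgroup.centralizer (Q : Set (G ⧸ Cfsg.oddCore G)) ≤ Q :=
    Cfsg.Lib.Core.centralizer_pCore_le_of_isPSolvable
      (Cfsg.Lib.Core.isPSolvable_of_isSolvable (G := G ⧸ Cfsg.oddCore G)) Cfsg.Lib.Core.pPrimeCore_quotient_eq_bot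
  have hp : IsPGroup 2 (G ⧸ Cfsg.oddCore G) := by
    intro g
    obtain ⟨k, hk⟩ := haut (MulAut.conjNormal g)
    rw [← map_pow] at hk
    have hgc : g ^ 2 ^ k ∈ Subgroup.centralizer (Q : Set (G ⧸ Cfsg.oddCore G)) := by
      rw [Subgroup.mem_centralizer_iff]
      intro q hq
      have h1 : g ^ 2 ^ k * q * (g ^ 2 ^ k)⁻¹ = q := by
        simpa only [MulAut.conjNormal_apply, MulAut.one_apply] using congrArg Subtype.val (DFunLike.congr_fun hk (⟨q, hq⟩ : ↥Q))
      exact (mul_inv_eq_iff_eq_mul.1 h1).symm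
    obtain ⟨l, hl⟩ := hQp ⟨_, hC' hgc⟩
    exact ⟨k + l, by rw [pow_add, pow_mul]; exact congrArg Subtype.val hl⟩
  have htop : ∀ S : Sylow 2 (G ⧸ Cfsg.oddCore G), (S : Subgroup (G ⧸ Cfsg.oddCore G)) = ⊤ := fun S =>
    (S.3 (hp.to_subgroup ⊤) le_top).symm
  exact hT (Sylow.ext ((htop P).trans (htop T).symm))

end Cfsg.Agent.S3303
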