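import Cfsg.Statements.S3304
import Cfsg.Agent.S0016
import Cfsg.Agent.S3742
import Cfsg.Agent.Lib.Core.PSolvable
import Cfsg.Agent.Lib.Perm.Zas25.SixTypes
import Cfsg.Agent.Lib.Small.RepSymFour

set_option autoImplicit false
open Cfsg

namespace Cfsg.Agent.S3304

open Cfsg.Lib

/-- Rank at most one passes to intersections of Sylow subgroups modulo the odd core. -/
theorem rank_quotient {G : Type*} [Group G] [Finite G]
    (hI : ∀ S T : Sylow 2 G, S ≠ T → Cfsg.PRankLE 2 1 ↥((S : Subgroup G) ⊓ (T : Subgroup G)))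
    (S T : Sylow 2 (G ⧸ Cfsg.oddCore G)) (hne : S ≠ T) (A : Subgroup (G ⧸ Cfsg.oddCore G))
    (hAS : A ≤ S) (hAT : A ≤ T) (hab : IsMulCommutative A) (hsq : ∀ a ∈ A, a ^ 2 = 1) : Nat.card A ≤ 2 := by
  classical
  haveI := Fact.mk Nat.prime_two
  set π := QuotientGroup.mk' (Cfsg.oddCore G) with hπ
  have hπs : Function.Surjective π := QuotientGroup.mk'_surjective _
  have hA2 : IsPGroup 2 A := S.2.to_le hAS
  -- a Sylow subgroup of the preimage maps bijectively onto `A`
  obtain ⟨B₀⟩ : Nonempty (Sylow 2 (A.comap π)) := inferInstance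
  let B : Subgroup G := (B₀ : Subgroup (A.comap π)).map (A.comap π).subtype
  have hB2 : IsPGroup 2 B := B₀.2.map _
  have hinj : ∀ x ∈ B, π x = 1 → x = 1 := by
    intro x hx h
    have hxO : x ∈ Cfsg.oddCore G := (QuotientGroup.eq_one_iff x).mp h
    obtain ⟨j, hj⟩ := hB2 ⟨x, hx⟩
    have h1 : orderOf x ∣ 2 ^ j := orderOf_dvd_of_pow_eq_one (congrArg Subtype.val hj)
    have h3 := Nat.dvd_gcd (Subgroup.orderOf_dvd_natCard _ hxO) h1
    rw [(Core.pPrimeCore_coprime 2 G).pow_right j, Nat.dvd_one, orderOf_eq_one_iff] at h3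
    exact h3
  let β : B →* A := (π.comp B.subtype).codRestrict A (by
    rintro ⟨x, y, -, rfl⟩
    exact y.2)
  have hβ : Function.Injective β := (injective_iff_map_eq_one β).mpr fun x hx =>
    Subtype.ext (hinj x x.2 (congrArg Subtype.val hx))
  have hcard : Nat.card A ≤ Nat.card B := by
    have h1 : Nat.card (A.comap π) = Nat.card A * Nat.card (Cfsg.oddCore G) := by
      rw [Core.card_comap_eq π hπs, QuotientGroup.ker_mk', mul_comm]
    obtain ⟨a, ha⟩ := IsPGroup.iff_card.mp hA2
    have h2 : 2 ^ a ∣ Nat.card (A.comap π) := by rw [h1, ha]; exact dvd_mul_right _ _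
    have h3 := B₀.pow_dvd_card_of_pow_dvd_card h2
    rw [Subgroup.card_map_of_injective (Subgroup.subtype_injective _), ha]
    exact Nat.le_of_dvd Nat.card_pos h3
  -- it lies in lifts of `S` and `T`
  have lift : ∀ U : Sylow 2 (G ⧸ Cfsg.oddCore G), A ≤ U → ∃ V : Sylow 2 G,
      B ≤ V ∧ (V : Subgroup G).map π = (U : Subgroup (G ⧸ Cfsg.oddCore G)) := by
    intro U hAU
    let X : Subgroup G := (U : Subgroup (G ⧸ Cfsg.oddCore G)).comap π
    have hBX : B ≤ X := by
      rintro x ⟨y, -, rfl⟩
      exact hAU y.2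
    obtain ⟨W, hW⟩ := (hB2.comap_of_injective X.subtype X.subtype_injective).exists_le_sylow
    have hWp : IsPGroup 2 ((W : Subgroup X).map X.subtype) := W.2.map _
    obtain ⟨V, hV⟩ := hWp.exists_le_sylow
    refine ⟨V, fun x hx => hV ⟨⟨x, hBX hx⟩, hW hx, rfl⟩, ?_⟩
    have h1 : ((W : Subgroup X).map X.subtype).map π = (U : Subgroup (G ⧸ Cfsg.oddCore G)) := by
      have hle : ((W : Subgroup X).map X.subtype).map π ≤ (U : Subgroup (G ⧸ Cfsg.oddCore G)) := by
        rintro x ⟨y, ⟨w, -, rfl⟩, rfl⟩
        exact w.2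
      refine Subgroup.eq_of_le_of_card_ge hle ?_
      have h1 : Nat.card X = Nat.card (U : Subgroup (G ⧸ Cfsg.oddCore G)) * Nat.card (Cfsg.oddCore G) := by
        rw [Core.card_comap_eq π hπs, QuotientGroup.ker_mk', mul_comm]
      obtain ⟨u, hu⟩ := IsPGroup.iff_card.mp U.2
      have h2 : 2 ^ u ∣ Nat.card X := by rw [h1, hu]; exact dvd_mul_right _ _
      have h3 := Nat.le_of_dvd Nat.card_pos (W.pow_dvd_card_of_pow_dvd_card h2)
      rw [hu]
      refine h3.trans ?_
      let γ : (W : Subgroup X) →* ((W : Subgroup X).map X.subtype).map π :=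
        ((π.subgroupMap _).comp (X.subtype.subgroupMap _))
      refine Nat.card_le_card_of_injective γ ((injective_iff_map_eq_one γ).mpr fun w hw => ?_)
      have hwO : ((w : X) : G) ∈ Cfsg.oddCore G := (QuotientGroup.eq_one_iff _).mp (congrArg Subtype.val hw)
      obtain ⟨j, hj⟩ := W.2 w
      have h4 : orderOf ((w : X) : G) ∣ 2 ^ j := orderOf_dvd_of_pow_eq_one
        (congrArg (fun y : (W : Subgroup X) => ((y : X) : G)) hj)
      have h5 := Nat.dvd_gcd (Subgroup.orderOf_dvd_natCard _ hwO) h4
      rw [(Core.pPrimeCore_coprime 2 G).pow_right j, Nat.dvd_one, orderOf_eq_one_iff] at h5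
      exact Subtype.ext (Subtype.ext h5)
    refine le_antisymm ?_ (h1 ▸ Subgroup.map_mono hV)
    exact (U.is_maximal' (V.2.map π) (h1 ▸ Subgroup.map_mono hV)).le
  obtain ⟨S', hBS, hS'⟩ := lift S hAS
  obtain ⟨T', hBT, hT'⟩ := lift T hAT
  have hne' : S' ≠ T' := fun h => hne (Sylow.ext (by rw [← hS', ← hT', h]))
  have hle : B ≤ (S' : Subgroup G) ⊓ (T' : Subgroup G) := le_inf hBS hBT
  have h2 := hI S' T' hne' (B.subgroupOf _) ⟨⟨fun a b => Subtype.ext (Subtype.ext (by
      have ha : (β ⟨_, a.2⟩) * β ⟨_, b.2⟩ = β ⟨_, b.2⟩ * β ⟨_, a.2⟩ := hab.is_comm.comm _ _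
      rw [← map_mul, ← map_mul] at ha
      exact congrArg (fun x : B => (x : G)) (hβ ha)))⟩⟩ (fun a ha => Subtype.ext (by
      have h3 : β ⟨_, ha⟩ ^ 2 = 1 := Subtype.ext (hsq _ (β ⟨_, ha⟩).2)
      rw [← map_pow] at h3
      exact congrArg (fun x : B => (x : G)) (hβ (h3.trans β.map_one.symm))))
  rw [Nat.card_congr (Subgroup.subgroupOfEquivOfLe hle).toEquiv, pow_one] at h2
  exact hcard.trans h2

/-- The structure of a core-free group with rank one intersections. -/
theorem main_core_free {X : Type*} [Group X] [Finite X]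
    (hCT : Subgroup.centralizer (Cfsg.pCore 2 X : Set X) ≤ Cfsg.pCore 2 X)
    (hrank : ∀ S T : Sylow 2 X, S ≠ T → ∀ A : Subgroup X, A ≤ S → A ≤ T → IsMulCommutative A →
      (∀ a ∈ A, a ^ 2 = 1) → Nat.card A ≤ 2) :
    (∃ P : Sylow 2 X, (P : Subgroup X).Normal) ∨ Nonempty (X ≃* GL (Fin 2) (ZMod 3)) ∨
    (Nat.card X = 48 ∧ Nat.card ↥(Subgroup.center X) = 2 ∧
      Nonempty (X ⧸ Subgroup.center X ≃* Equiv.Perm (Fin 4)) ∧
      ∀ P : Sylow 2 X, Nonempty (↥(P : Subgroup X) ≃* QuaternionGroup 4)) := by
  classical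
  haveI := Fact.mk Nat.prime_two
  by_cases hn : ∃ P : Sylow 2 X, (P : Subgroup X).Normal
  · exact Or.inl hn
  right
  obtain ⟨S⟩ : Nonempty (Sylow 2 X) := inferInstance
  obtain ⟨T, hST⟩ : ∃ T : Sylow 2 X, S ≠ T := by
    by_contra hall
    push Not at hall
    haveI : Subsingleton (Sylow 2 X) := ⟨fun a b => (hall a).symm.trans (hall b)⟩
    exact hn ⟨S, Sylow.normal_of_subsingleton S⟩
  set Q := Cfsg.pCore 2 X with hQ
  haveI : Q.Normal := by rw [hQ]; infer_instance
  have hQ2 : IsPGroup 2 Q := Core.pCore_isPGroup 2 X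
  have huni : ∀ H K : Subgroup Q, Nat.card H = 2 → Nat.card K = 2 → H = K := by
    intro H K hH hK
    obtain ⟨z, hzc, hz⟩ : ∃ z : Q, z ∈ Subgroup.center Q ∧ orderOf z = 2 := by
      haveI : Nontrivial Q := Finite.one_lt_card_iff_nontrivial.1
        (lt_of_lt_of_le (hH ▸ one_lt_two) H.card_le_card_group)
      have := hQ2.center_nontrivial
      obtain ⟨n, hn', hc⟩ := (hQ2.to_subgroup (Subgroup.center Q)).nontrivial_iff_card.1 inferInstance
      obtain ⟨z, hz⟩ := exists_prime_orderOf_dvd_card' 2 (G := Subgroup.center Q) (by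
        rw [hc]; exact dvd_pow_self 2 hn'.ne')
      exact ⟨z, z.2, by rw [Subgroup.orderOf_coe, hz]⟩
    have key : ∀ L : Subgroup Q, Nat.card L = 2 → L = Subgroup.zpowers z := by
      intro L hL
      obtain ⟨w, hw⟩ := exists_prime_orderOf_dvd_card' (G := L) 2 (by rw [hL])
      have hwL : L = Subgroup.zpowers (w : Q) := (Subgroup.eq_of_le_of_card_ge
        (Subgroup.zpowers_le.mpr w.2) (by rw [Nat.card_zpowers, Subgroup.orderOf_coe, hw, hL])).symm
      rw [hwL]
      by_contra hne
      have hwz : (w : Q) ≠ z := fun h => hne (by rw [h])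
      have hw2 : (w : Q) * w = 1 := by
        rw [← pow_two, ← hw, ← Subgroup.orderOf_coe, pow_orderOf_eq_one]
      have hz2 : z * z = 1 := by rw [← pow_two, ← hz, pow_orderOf_eq_one]
      have hw1 : (w : Q) ≠ 1 := fun h => by
        rw [← Subgroup.orderOf_coe, h, orderOf_one] at hw; omega
      have hz1 : z ≠ 1 := fun h => by rw [h, orderOf_one] at hz; omega
      have hcom : Commute (w : Q) z := (Subgroup.mem_center_iff.mp hzc w)
      let E : Subgroup Q :=
        { carrier := {1, (w : Q), z, (w : Q) * z}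
          one_mem' := by simp
          mul_mem' := by
            intro a b ha hb
            simp only [Set.mem_insert_iff, Set.mem_singleton_iff] at ha hb ⊢
            have e1 : (w : Q) * ((w : Q) * z) = z := by rw [← mul_assoc, hw2, one_mul]
            have e2 : z * (w : Q) = (w : Q) * z := hcom.eq.symm
            have e3 : z * ((w : Q) * z) = (w : Q) := by rw [← mul_assoc, e2, mul_assoc, hz2, mul_one]
            have e4 : (w : Q) * z * (w : Q) = z := by rw [mul_assoc, e2, e1]
            have e5 : (w : Q) * z * z = (w : Q) := by rw [mul_assoc, hz2, mul_one]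
            have e6 : (w : Q) * z * ((w : Q) * z) = 1 := by rw [← mul_assoc, e4, hz2]
            rcases ha with rfl | rfl | rfl | rfl <;> rcases hb with rfl | rfl | rfl | rfl <;>
              simp only [one_mul, mul_one, hw2, hz2, e1, e2, e3, e4, e5, e6, true_or, or_true]
          inv_mem' := by
            intro a ha
            have hsq : a * a = 1 := by
              simp only [Set.mem_insert_iff, Set.mem_singleton_iff] at ha
              rcases ha with rfl | rfl | rfl | rfl
              · exact one_mul 1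
              · exact hw2
              · exact hz2
              · rw [← pow_two, hcom.mul_pow, pow_two, pow_two, hw2, hz2, one_mul]
            rwa [inv_eq_of_mul_eq_one_right hsq] }
      have hmem : ∀ e ∈ E, e * e = 1 := by
        intro a ha
        rcases ha with rfl | rfl | rfl | rfl
        · exact one_mul 1
        · exact hw2
        · exact hz2
        · rw [← pow_two, hcom.mul_pow, pow_two, pow_two, hw2, hz2, one_mul]
      have hc : Nat.card (E.map Q.subtype) ≤ 2 := by
        refine hrank S T hST _ ?_ ?_ ?_ ?_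
        · exact (Subgroup.map_subtype_le E).trans (Core.pCore_le_sylow S)
        · exact (Subgroup.map_subtype_le E).trans (Core.pCore_le_sylow T)
        · refine ⟨⟨fun a b => Subtype.ext ?_⟩⟩
          obtain ⟨a', ha', hae⟩ := a.2
          obtain ⟨b', hb', hbe⟩ := b.2
          have h1 : a' * b' = b' * a' := by
            calc a' * b' = a' * b' * ((b' * a') * (b' * a')) := by rw [hmem _ (E.mul_mem hb' ha'), mul_one]
              _ = a' * (b' * b') * (a' * b' * a') := by simp only [mul_assoc]
              _ = a' * a' * (b' * a') := by rw [hmem _ hb', mul_one]; simp only [mul_assoc]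
              _ = b' * a' := by rw [hmem _ ha', one_mul]
          show (a : X) * b = b * a
          rw [← hae, ← hbe, ← map_mul, ← map_mul, h1]
        · rintro a ⟨a', ha', rfl⟩
          rw [← map_pow, pow_two, hmem _ ha', map_one]
      rw [Subgroup.card_map_of_injective Q.subtype_injective] at hc
      have h3 : ({1, (w : Q), z} : Set Q) ⊆ (E : Set Q) := by
        intro a ha
        simp only [Set.mem_insert_iff, Set.mem_singleton_iff] at ha
        show a ∈ ({1, (w : Q), z, (w : Q) * z} : Set Q)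
        rcases ha with rfl | rfl | rfl <;> simp
      have h4 := Set.ncard_le_ncard h3
      rw [Set.ncard_insert_of_notMem (by simp [hw1.symm, hz1.symm]), Set.ncard_pair hwz, ← Nat.card_coe_set_eq] at h4
      simp only [SetLike.coe_sort_coe] at h4
      omega
    rw [key H hH, key K hK]
  let φ : X →* MulAut Q := MulAut.conjNormal
  have hker : φ.ker ≤ Q := by
    intro g hg
    refine hCT (Subgroup.mem_centralizer_iff.mpr fun y hy => ?_)
    have h2 := congrArg (fun f : MulAut Q => ((f ⟨y, hy⟩ : Q) : X)) (MonoidHom.mem_ker.mp hg)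
    simp only [φ, MulAut.conjNormal_apply, MulAut.one_apply] at h2
    exact (mul_inv_eq_iff_eq_mul.mp h2).symm
  haveI : Finite (MulAut Q) := Finite.of_injective _ DFunLike.coe_injective
  have no_two : ¬ IsPGroup 2 (MulAut Q) := by
    intro h
    obtain ⟨a, ha⟩ := IsPGroup.iff_card.mp (h.to_subgroup φ.range)
    obtain ⟨b, hb⟩ := IsPGroup.iff_card.mp (hQ2.to_le hker)
    have h2 : IsPGroup 2 X :=
      IsPGroup.of_card (n := b + a) (by rw [← φ.ker.card_mul_index, Subgroup.index_ker, ha, hb, ← pow_add])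
    have htop : (S : Subgroup X) = ⊤ := (S.is_maximal' (h2.to_subgroup ⊤) le_top).symm
    exact hn ⟨S, by rw [htop]; infer_instance⟩
  rcases Cfsg.Agent.S0016.result 2 hQ2 huni with hc | ⟨-, k, ⟨e₀⟩⟩
  · exfalso
    obtain ⟨c, hcT⟩ := IsPGroup.iff_card.mp hQ2
    refine no_two (IsPGroup.of_card (n := c - 1) ?_)
    rw [IsCyclic.card_mulAut, hcT]
    rcases c with _ | c
    · rfl
    · rw [Nat.totient_prime_pow_succ Nat.prime_two, Nat.add_sub_cancel]
      norm_num
  haveI : NeZero (2 ^ k) := ⟨by positivity⟩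
  rcases Nat.eq_zero_or_pos k with rfl | hkpos
  · exfalso
    haveI : IsCyclic Q := by
      have : IsCyclic (QuaternionGroup (2 ^ 0)) := QuaternionGroup.quaternionGroup_one_isCyclic
      exact isCyclic_of_surjective e₀.symm.toMonoidHom e₀.symm.surjective
    refine no_two (IsPGroup.of_card (n := 1) ?_)
    rw [IsCyclic.card_mulAut, Nat.card_congr e₀.toEquiv, Nat.card_eq_fintype_card, QuaternionGroup.card]
    decide
  by_cases hk2 : 2 ≤ k
  · exfalso
    refine no_two (IsPGroup.of_card (n := (Nat.card (MulAut Q)).primeFactorsList.length)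
      (Nat.eq_prime_pow_of_unique_prime_dvd Nat.card_pos.ne' fun {q} hq hqd => ?_))
    by_contra hq2
    haveI := Fact.mk hq
    obtain ⟨x, hx⟩ := exists_prime_orderOf_dvd_card' (G := MulAut Q) q hqd
    have h1 : MulAut.congr e₀ x = 1 := Perm.Zas25.quat_aut_prime k hk2 _ q hq hq2 (by
      rw [← map_pow, ← hx, pow_orderOf_eq_one, map_one])
    have h5 : x = 1 := (MulAut.congr e₀).injective (h1.trans (map_one _).symm)
    rw [h5, orderOf_one] at hx
    exact hq.one_lt.ne hx
  obtain rfl : k = 1 := by omega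
  let e : Q ≃* QuaternionGroup 2 := e₀
  have hk : Nat.card (Small.RepSymFour.act Q e).ker = 2 := Small.RepSymFour.card_ker hCT
  have h4 : 4 ∣ Nat.card (Small.RepSymFour.act Q e).range := by
    obtain ⟨q, hq, q', hq', h1, h2, h12⟩ := Small.RepSymFour.exists_two (e := e) hCT
    obtain ⟨j, hj⟩ := IsPGroup.iff_card.mp (hQ2.map (Small.RepSymFour.act Q e))
    have h3 : 3 ≤ Nat.card (Q.map (Small.RepSymFour.act Q e)) := by
      have h5 : ({1, Small.RepSymFour.act Q e q, Small.RepSymFour.act Q e q'} : Set (Equiv.Perm (Fin 4))) ⊆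
          (Q.map (Small.RepSymFour.act Q e) : Set (Equiv.Perm (Fin 4))) := by
        intro a ha
        simp only [Set.mem_insert_iff, Set.mem_singleton_iff] at ha
        rcases ha with rfl | rfl | rfl
        · exact one_mem _
        · exact ⟨q, hq, rfl⟩
        · exact ⟨q', hq', rfl⟩
      have h6 := Set.ncard_le_ncard h5
      rw [Set.ncard_insert_of_notMem (by simp [h1.symm, h2.symm]), Set.ncard_pair h12, ← Nat.card_coe_set_eq] at h6
      simpa only [SetLike.coe_sort_coe] using h6
    rw [hj] at h3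
    have hj2 : 2 ≤ j := by
      by_contra hcon
      interval_cases j <;> norm_num at h3
    exact (dvd_trans (pow_dvd_pow 2 hj2) (hj ▸ Subgroup.card_dvd_of_le (Subgroup.map_le_range _ Q)))
  have h24 : Nat.card (Small.RepSymFour.act Q e).range ∣ 24 := by
    have h1 := Subgroup.card_subgroup_dvd_card (Small.RepSymFour.act Q e).range
    rwa [Nat.card_perm, Nat.card_fin] at h1
  have hX := (Small.RepSymFour.act Q e).ker.card_mul_index
  rw [Subgroup.index_ker, hk] at hX
  have h3 : 3 ∣ Nat.card X := by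
    by_contra h3
    obtain ⟨t, ht⟩ := h4
    rw [ht] at h24 hX
    have := Nat.le_of_dvd (by norm_num) h24
    have h2p : IsPGroup 2 X := by
      rcases t with _ | _ | _ | _ | _ | _ | _ | t <;> first
        | omega
        | exact IsPGroup.of_card (n := 3) hX.symm
        | exact IsPGroup.of_card (n := 4) hX.symm
    have htop : (S : Subgroup X) = ⊤ := (S.is_maximal' (h2p.to_subgroup ⊤) le_top).symm
    exact hn ⟨S, by rw [htop]; infer_instance⟩
  have hQ8 : Nat.card Q = 8 := by
    rw [Nat.card_congr e.toEquiv, Nat.card_eq_fintype_card, QuaternionGroup.card]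
  have h48 : Nat.card X = 48 := by
    obtain ⟨t, ht⟩ := h4
    rw [ht] at h24 hX
    have := Nat.le_of_dvd (by norm_num) h24
    by_contra h48
    have h24' : Nat.card X = 24 := by
      rcases t with _ | _ | _ | _ | _ | _ | _ | t <;> omega
    refine hn ⟨S, ?_⟩
    have hSQ : Q = (S : Subgroup X) := by
      refine Subgroup.eq_of_le_of_card_ge (Core.pCore_le_sylow S) ?_
      obtain ⟨j, hj⟩ := IsPGroup.iff_card.mp S.2
      have h1 := Subgroup.card_subgroup_dvd_card (S : Subgroup X)
      rw [h24', hj] at h1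
      rw [hQ8, hj]
      by_contra hcon
      push Not at hcon
      have : 16 ∣ 24 := (pow_dvd_pow 2 (show 4 ≤ j by
        by_contra hj4; interval_cases j <;> norm_num at hcon)).trans h1
      norm_num at this
    rw [← hSQ]; infer_instance
  have hsurj := Small.RepSymFour.act_surjective (e := e) hCT h48
  by_cases ht : ∃ t : X, t * t = 1 ∧ t ∉ Q
  · obtain ⟨t, ht, htQ⟩ := ht
    exact Or.inl (Small.RepSymFour.iso_gl h48 Q e hCT t ht htQ)
  push Not at ht
  right
  have hcen : Subgroup.center X = (Small.RepSymFour.act Q e).ker := by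
    refine le_antisymm (fun g hg => ?_) (fun g hg => ?_)
    · rw [MonoidHom.mem_ker, Small.RepSymFour.act_eq_one]
      exact Subgroup.mem_centralizer_iff.mpr fun y _ => Subgroup.mem_center_iff.mp hg y
    · rw [Subgroup.mem_center_iff]
      intro x
      by_cases hg1 : g = 1
      · subst hg1; simp
      have hmem : x * g * x⁻¹ ∈ (Small.RepSymFour.act Q e).ker :=
        (inferInstance : (Small.RepSymFour.act Q e).ker.Normal).conj_mem g hg x
      obtain ⟨a, b, -, hab⟩ := Nat.card_eq_two_iff.mp hk
      have hall : ∀ y : (Small.RepSymFour.act Q e).ker, y = a ∨ y = b := fun y => by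
        have h5 : y ∈ ({a, b} : Set (Small.RepSymFour.act Q e).ker) := by rw [hab]; exact Set.mem_univ y
        simpa using h5
      have hne : x * g * x⁻¹ ≠ 1 := fun h => hg1 (by simpa using h)
      have hfix : x * g * x⁻¹ = g := by
        rcases hall 1 with h | h <;> rcases hall ⟨g, hg⟩ with h' | h' <;>
          rcases hall ⟨x * g * x⁻¹, hmem⟩ with h'' | h'' <;>
          first
            | exact absurd (congrArg Subtype.val (h'.trans h.symm)) hg1
            | exact absurd (congrArg Subtype.val (h''.trans h.symm)) hne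
            | exact congrArg Subtype.val (h''.trans h'.symm)
      exact mul_inv_eq_iff_eq_mul.mp hfix
  refine ⟨h48, hcen ▸ hk, ⟨(QuotientGroup.quotientMulEquivOfEq hcen).trans
    (QuotientGroup.quotientKerEquivOfSurjective _ hsurj)⟩, fun P => ?_⟩
  have hP : Nat.card (P : Subgroup X) = 16 := by
    obtain ⟨j, hj⟩ := IsPGroup.iff_card.mp P.2
    have h1 := Subgroup.card_subgroup_dvd_card (P : Subgroup X)
    rw [h48, hj] at h1
    have h16 := P.pow_dvd_card_of_pow_dvd_card (n := 4) (show 2 ^ 4 ∣ Nat.card X by rw [h48]; norm_num)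
    rw [hj] at h16 ⊢
    have h4j : 4 ≤ j := (Nat.pow_dvd_pow_iff_le_right (by norm_num)).mp h16
    have : j < 5 := by
      by_contra hcon
      have h32 : 32 ∣ 48 := (pow_dvd_pow 2 (show 5 ≤ j by omega)).trans h1
      norm_num at h32
    rw [show j = 4 by omega]
    norm_num
  have hQP : Q ≤ (P : Subgroup X) := Core.pCore_le_sylow P
  rcases Cfsg.Agent.S0016.result 2 P.2 (fun H K hH hK => by
    have key : ∀ L : Subgroup (P : Subgroup X), Nat.card L = 2 → L.map (P : Subgroup X).subtype ≤ Q := by
      intro L hL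
      rintro x ⟨y, hy, rfl⟩
      refine ht _ ?_
      have h1 : (⟨y, hy⟩ : L) ^ Nat.card L = 1 := pow_card_eq_one'
      rw [hL, pow_two] at h1
      exact congrArg (fun w : L => (((w : (P : Subgroup X))) : X)) h1
    apply Subgroup.map_injective (P : Subgroup X).subtype_injective
    have e1 : ((H.map (P : Subgroup X).subtype).subgroupOf Q) = ((K.map (P : Subgroup X).subtype).subgroupOf Q) :=
      huni _ _ (by rw [Nat.card_congr (Subgroup.subgroupOfEquivOfLe (key H hH)).toEquiv,
          Subgroup.card_map_of_injective (Subgroup.subtype_injective _), hH])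
        (by rw [Nat.card_congr (Subgroup.subgroupOfEquivOfLe (key K hK)).toEquiv,
          Subgroup.card_map_of_injective (Subgroup.subtype_injective _), hK])
    have e2 := Subgroup.subgroupOf_inj.mp e1
    rw [inf_eq_left.mpr (key H hH), inf_eq_left.mpr (key K hK)] at e2
    exact e2) with hc | ⟨-, n, ⟨eP⟩⟩
  · exfalso
    haveI := hc
    haveI : IsCyclic Q := isCyclic_of_injective (Subgroup.inclusion hQP) (Subgroup.inclusion_injective hQP)
    have h1 := (IsCyclic.commutative (α := Q)).is_comm.comm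
      (e.symm (QuaternionGroup.a 1)) (e.symm (QuaternionGroup.xa 0))
    have h2 := congrArg e h1
    simp only [map_mul, MulEquiv.apply_symm_apply] at h2
    exact absurd h2 (by decide)
  · have hn2 : n = 2 := by
      haveI : NeZero (2 ^ n) := ⟨by positivity⟩
      have h1 : 4 * 2 ^ n = 16 := by
        rw [← QuaternionGroup.card (n := 2 ^ n), ← Nat.card_eq_fintype_card, ← Nat.card_congr eP.toEquiv, hP]
      have h2 : 2 ^ n = 2 ^ 2 := by omega
      exact Nat.pow_right_injective le_rfl h2
    subst hn2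
    exact ⟨eP⟩

/-- Let G be a finite solvable group in which the intersection of any two distinct Sylow 2-subgroups has 2-rank at most 1 (contains no Klein four-group). Write Q = G/O(G), O(G) the largest normal subgroup of odd order. Then Q has a normal Sylow 2-subgroup; or Q is isomorphic to GL(2,3); or Q has order 48, centre of order 2 with central quotient isomorphic to the symmetric group of degree 4, and generalized quaternion Sylow 2-subgroups of order 16 (the binary octahedral group). The last two are the two representation groups of the symmetric group of degree 4. -/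
theorem result {G : Type*} [Group G] [Finite G] (hs : Group.IsSolvable G)
    (hI : ∀ S T : Sylow 2 G, S ≠ T → Cfsg.PRankLE 2 1 ↥((S : Subgroup G) ⊓ (T : Subgroup G))) :
    (∃ P : Sylow 2 (G ⧸ Cfsg.oddCore G), (P : Subgroup (G ⧸ Cfsg.oddCore G)).Normal) ∨
    Nonempty ((G ⧸ Cfsg.oddCore G) ≃* GL (Fin 2) (ZMod 3)) ∨
    (Nat.card (G ⧸ Cfsg.oddCore G) = 48 ∧ Nat.card ↥(Subgroup.center (G ⧸ Cfsg.oddCore G)) = 2 ∧
      Nonempty ((G ⧸ Cfsg.oddCore G) ⧸ Subgroup.center (G ⧸ Cfsg.oddCore G) ≃* Equiv.Perm (Fin 4)) ∧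
      ∀ P : Sylow 2 (G ⧸ Cfsg.oddCore G), Nonempty (↥(P : Subgroup (G ⧸ Cfsg.oddCore G)) ≃* QuaternionGroup 4)) := by
  classical
  haveI := Fact.mk Nat.prime_two
  haveI := hs
  have hgs : Group.IsSolvable (G ⧸ Cfsg.oddCore G) := solvable_of_surjective (QuotientGroup.mk'_surjective _)
  have hCT : Subgroup.centralizer (Cfsg.pCore 2 (G ⧸ Cfsg.oddCore G) : Set (G ⧸ Cfsg.oddCore G)) ≤
      Cfsg.pCore 2 (G ⧸ Cfsg.oddCore G) :=
    Core.centralizer_pCore_le_of_isPSolvable Core.isPSolvable_of_isSolvable Core.pPrimeCore_quotient_eq_bot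
  exact main_core_free hCT (rank_quotient hI)

end Cfsg.Agent.S3304
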