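import Cfsg.Statements.S3313
import Cfsg.Agent.Lib.Extra.MinusThirtyTwo
import Cfsg.Agent.Lib.Extra.LargeTwoCore
import Cfsg.Agent.Lib.Extra.Structure
import Cfsg.Agent.Lib.Core.Layer
import Cfsg.Agent.Lib.Invol.BrauerFowler
import Cfsg.Agent.S0213

set_option autoImplicit false
open scoped Pointwise
open Cfsg

namespace Cfsg.Agent.S3313

set_option maxRecDepth 100000 in
theorem a5_invs : (Finset.univ.filter fun a : alternatingGroup (Fin 5) => a * a = 1 ∧ a ≠ 1).card = 15 := by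
  decide

set_option maxRecDepth 100000 in
set_option maxHeartbeats 2000000 in
theorem a5_commuting : ((Finset.univ.filter fun a : alternatingGroup (Fin 5) => a * a = 1 ∧ a ≠ 1).sum fun a =>
    (Finset.univ.filter fun b : alternatingGroup (Fin 5) => (b * b = 1 ∧ b ≠ 1) ∧ a * b = b * a ∧ a ≠ b).card) = 30 := by
  decide

set_option maxRecDepth 100000 in
set_option maxHeartbeats 2000000 in
theorem a5_odd : ((Finset.univ.filter fun a : alternatingGroup (Fin 5) => a * a = 1 ∧ a ≠ 1).sum fun a =>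
    (Finset.univ.filter fun b : alternatingGroup (Fin 5) => b * b = 1 ∧ (a * b) ^ 15 = 1).card) = 195 := by
  decide

set_option maxRecDepth 100000 in
theorem a5_orders : ∀ g : alternatingGroup (Fin 5), g * g = 1 ∨ g ^ 15 = 1 := by
  decide

/-- Pairs whose first component runs over a class, counted through one representative. -/
theorem card_class_pairs {G : Type*} [Group G] [Finite G] {β : Type*} [Finite β] (x : G) (R : G → β → Prop)
    (hR : ∀ g : G, Nat.card {b // R (g * x * g⁻¹) b} = Nat.card {b // R x b}) :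
    Nat.card {p : G × β // IsConj x p.1 ∧ R p.1 p.2} =
      Nat.card {a : G // IsConj x a} * Nat.card {b // R x b} := by
  classical
  have := Fintype.ofFinite {a : G // IsConj x a}
  have e : {p : G × β // IsConj x p.1 ∧ R p.1 p.2} ≃ Σ a : {a : G // IsConj x a}, {b // R a.1 b} :=
    ⟨fun p => ⟨⟨p.1.1, p.2.1⟩, p.1.2, p.2.2⟩, fun s => ⟨(s.1.1, s.2.1), s.1.2, s.2.2⟩,
      fun p => rfl, fun s => rfl⟩
  rw [Nat.card_congr e, Nat.card_sigma, Finset.sum_congr rfl (fun a _ => ?_), Finset.sum_const,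
    Finset.card_univ, smul_eq_mul, Nat.card_eq_fintype_card (α := {a : G // IsConj x a})]
  obtain ⟨g, hg⟩ := isConj_iff.1 a.2
  rw [← hg]; exact hR g

/-- Transport of an orbit count along conjugation. -/
theorem card_conj_eq {G : Type*} [Group G] [Finite G] (g : G) {P Q : G → Prop}
    (h : ∀ y, Q (g * y * g⁻¹) ↔ P y) : Nat.card {y // Q y} = Nat.card {y // P y} :=
  (Nat.card_congr (Equiv.subtypeEquiv (MulAut.conj g).toEquiv fun y => (h y).symm)).symm

/-- The order of a simple group with the involution pattern of the Hall–Janko group. Let G be a non-abelian finite simple group with exactly two conjugacy classes of involutions, represented by z and t, such that: F*(C_G(z)) is an extraspecial 2-group; Q = O₂(C_G(z)) has order 32 and C_G(z) is the semidirect product of Q by a subgroup isomorphic to A₅; every involution of Q is conjugate to z and every other involution of C_G(z) is conjugate to t; C_G(t) is an internal direct product V ×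 B with V a four-group containing t and B ≅ A₅; every involution of B is conjugate to z and every other involution of C_G(t) is conjugate to t. Then |G| = 604800. -/
theorem result {G : Type*} [Group G] [Finite G]
    [IsSimpleGroup G] (hna : ¬ IsMulCommutative G) (z t : G) (hz : orderOf z = 2) (ht : orderOf t = 2)
    (hzt : ¬ IsConj z t) (hcl : ∀ x : G, orderOf x = 2 → IsConj x z ∨ IsConj x t)
    (hex : Cfsg.IsExtraspecial 2 ↥(Cfsg.generalizedFittingSubgroup ↥(Subgroup.centralizer ({z} : Set G))))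
    (hQ : Nat.card ↥(Cfsg.pCore 2 ↥(Subgroup.centralizer ({z} : Set G))) = 32)
    (K : Subgroup G) (hK : Nonempty (↥K ≃* alternatingGroup (Fin 5)))
    (hKC : K ⊔ (Cfsg.pCore 2 ↥(Subgroup.centralizer ({z} : Set G))).map (Subgroup.centralizer ({z} : Set G)).subtype = Subgroup.centralizer ({z} : Set G))
    (hKQ : K ⊓ (Cfsg.pCore 2 ↥(Subgroup.centralizer ({z} : Set G))).map (Subgroup.centralizer ({z} : Set G)).subtype = ⊥)
    (hQz : ∀ x ∈ (Cfsg.pCore 2 ↥(Subgroup.centralizer ({z} : Set G))).map (Subgroup.centralizer ({z} : Set G)).subtype, orderOf x = 2 → IsConj x z)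
    (hCz : ∀ x ∈ Subgroup.centralizer ({z} : Set G), orderOf x = 2 →
      x ∉ (Cfsg.pCore 2 ↥(Subgroup.centralizer ({z} : Set G))).map (Subgroup.centralizer ({z} : Set G)).subtype → IsConj x t)
    (V B : Subgroup G) (hVB : Cfsg.IsInternalDirectProduct V B (Subgroup.centralizer ({t} : Set G)))
    (hV : Nat.card ↥V = 4) (hV2 : ∀ v ∈ V, v ^ 2 = 1) (htV : t ∈ V) (hB : Nonempty (↥B ≃* alternatingGroup (Fin 5)))
    (hBz : ∀ x ∈ B, orderOf x = 2 → IsConj x z)
    (hCt : ∀ x ∈ Subgroup.centralizer ({t} : Set G), orderOf x = 2 → x ∉ B → IsConj x t) :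
    Nat.card G = 604800 := by
  classical
  haveI : Fact (Nat.Prime 2) := ⟨Nat.prime_two⟩
  have := Fintype.ofFinite G
  set C := Subgroup.centralizer ({z} : Set G) with hCdef
  set Q := (Cfsg.pCore 2 ↥C).map C.subtype with hQdef
  have hz2 : z * z = 1 := by rw [← pow_two, ← hz, pow_orderOf_eq_one]
  have ht2 : t * t = 1 := by rw [← pow_two, ← ht, pow_orderOf_eq_one]
  have hmC : ∀ {g : G}, g ∈ C ↔ Commute g z := Subgroup.mem_centralizer_singleton_iff
  have hmD : ∀ {g : G}, g ∈ Subgroup.centralizer ({t} : Set G) ↔ Commute g t :=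
    Subgroup.mem_centralizer_singleton_iff
  -- the generalized Fitting subgroup is the 2-core
  have hF : Cfsg.generalizedFittingSubgroup ↥C = Cfsg.pCore 2 ↥C :=
    le_antisymm (Cfsg.Lib.Core.le_pCore hex.1.1)
      ((Cfsg.Lib.Core.pCore_le_fittingSubgroup 2 ↥C).trans Cfsg.Lib.Core.fitting_le_generalizedFitting)
  have hextQ : Cfsg.IsExtraspecial 2 ↥Q :=
    Cfsg.Lib.Extra.isExtraspecial_congr
      ((Cfsg.pCore 2 ↥C).equivMapOfInjective _ C.subtype_injective) (hF ▸ hex)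
  have hQcard : Nat.card ↥Q = 32 := by
    rw [hQdef, Subgroup.card_map_of_injective C.subtype_injective]; exact hQ
  have hcentQ : Subgroup.centralizer (Q : Set G) ≤ Q := by
    -- the centre of the 2-core contains `z`
    have hzC : (⟨z, hmC.2 (Commute.refl z)⟩ : C) ∈ Cfsg.pCore 2 ↥C := by
      haveI : (Subgroup.zpowers (⟨z, hmC.2 (Commute.refl z)⟩ : C)).Normal := ⟨fun a ha g => by
        obtain ⟨i, rfl⟩ := Subgroup.mem_zpowers_iff.1 ha
        have hgc : Commute g (⟨z, hmC.2 (Commute.refl z)⟩ : C) := Subtype.ext (hmC.1 g.2).eq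
        rw [(hgc.zpow_right i).eq, mul_inv_cancel_right]
        exact Subgroup.mem_zpowers_iff.2 ⟨i, rfl⟩⟩
      refine Cfsg.Lib.Core.le_pCore (IsPGroup.of_card (n := 1) ?_) (Subgroup.mem_zpowers _)
      rw [Nat.card_zpowers, ← Subgroup.orderOf_coe, pow_one]; exact hz
    intro g hg
    have hgC : g ∈ C := hmC.2 (show Commute g z from
      (Subgroup.mem_centralizer_iff.1 hg z ⟨_, hzC, rfl⟩).symm)
    refine ⟨⟨g, hgC⟩, ?_, rfl⟩
    rw [← hF]
    refine Cfsg.Lib.Core.centralizer_generalizedFitting_le (Subgroup.mem_centralizer_iff.2 fun a ha => ?_)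
    exact Subtype.ext (Subgroup.mem_centralizer_iff.1 hg a ⟨a, hF ▸ ha, rfl⟩)
  have hX := Cfsg.Lib.Extra.ctx_of_twoCore hz hQdef hextQ hcentQ
  -- the order of `C(z)`
  have hQC : Q ≤ C := Subgroup.map_subtype_le _
  have hKC' : K ≤ C := hKC ▸ le_sup_left
  haveI : Fact (Nat.Prime 5) := ⟨by norm_num⟩
  have hA5 : Nat.card (alternatingGroup (Fin 5)) = 60 := by rw [Nat.card_eq_fintype_card]; decide
  have hKcard : Nat.card ↥K = 60 := (Nat.card_congr hK.some.toEquiv).trans hA5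
  have hKnorm : K ≤ Subgroup.normalizer (Q : Set G) := fun g hg => hX.norm g (hmC.1 (hKC' hg))
  have hCcard : Nat.card ↥C = 1920 := by
    let F : K × Q → C := fun p => ⟨p.1 * p.2, mul_mem (hKC' p.1.2) (hQC p.2.2)⟩
    have hFb : Function.Bijective F := by
      constructor
      · rintro ⟨a, b⟩ ⟨a', b'⟩ h
        have h' : (a : G) * b = a' * b' := congrArg Subtype.val h
        have e : (a' : G)⁻¹ * a = (b' : G) * (b : G)⁻¹ := by
          rw [eq_mul_inv_iff_mul_eq, mul_assoc, h', inv_mul_cancel_left]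
        have hm : (a' : G)⁻¹ * a ∈ K ⊓ Q :=
          Subgroup.mem_inf.2 ⟨mul_mem (inv_mem a'.2) a.2, e.symm ▸ mul_mem b'.2 (inv_mem b.2)⟩
        rw [hKQ, Subgroup.mem_bot] at hm
        have ha : (a : G) = a' := (inv_mul_eq_one.1 hm).symm
        rw [ha] at h'
        rw [Subtype.ext ha, Subtype.ext (mul_left_cancel h')]
      · rintro ⟨g, hg⟩
        have hset : ((K ⊔ Q : Subgroup G) : Set G) = (K : Set G) * (Q : Set G) :=
          Subgroup.coe_mul_of_left_le_normalizer_right K Q hKnorm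
        rw [← hKC, ← SetLike.mem_coe, hset] at hg
        obtain ⟨a, ha, b, hb, rfl⟩ := hg
        exact ⟨⟨⟨a, ha⟩, ⟨b, hb⟩⟩, rfl⟩
    rw [← Nat.card_eq_of_bijective F hFb, Nat.card_prod, hKcard, hQcard]
  obtain ⟨f, hf⟩ := exists_prime_orderOf_dvd_card' (G := ↥K) 5 (by rw [hKcard]; norm_num)
  have hf' : orderOf (f : G) = 5 := by rw [Subgroup.orderOf_coe, hf]
  have hfz : Commute (f : G) z := hmC.1 (hKC' f.2)
  have hI := hX.ncard_nci hQcard hf' hfz
  have hIc : ∀ {a b : G}, a ∈ Cfsg.Lib.Extra.nci Q z → b ∈ Cfsg.Lib.Extra.nci Q z → Commute a b →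
      b = a ∨ b = z * a := fun ha hb => hX.nci_commute hQcard hf' hfz ha hb
  -- the structure of `C(t)`
  obtain ⟨hVD, hBD, hVBc, hVBi, hVBs⟩ := hVB
  obtain ⟨eB⟩ := hB
  have hVnorm : V ≤ Subgroup.normalizer (B : Set G) := fun v hv => by
    refine Subgroup.mem_normalizer_iff.2 fun b => ⟨fun hb => ?_, fun hb => ?_⟩
    · rw [hVBc v hv b hb, mul_inv_cancel_right]; exact hb
    · have h1 := hVBc v⁻¹ (inv_mem hv) _ hb
      rw [show v⁻¹ * (v * b * v⁻¹) = b * v⁻¹ by group] at h1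
      rw [mul_right_cancel h1]; exact hb
  have hdec : ∀ g ∈ Subgroup.centralizer ({t} : Set G), ∃ v ∈ V, ∃ b ∈ B, g = v * b := by
    intro g hg
    have hset : ((V ⊔ B : Subgroup G) : Set G) = (V : Set G) * (B : Set G) :=
      Subgroup.coe_mul_of_left_le_normalizer_right V B hVnorm
    rw [← hVBs, ← SetLike.mem_coe, hset] at hg
    obtain ⟨v, hv, b, hb, rfl⟩ := hg
    exact ⟨v, hv, b, hb, rfl⟩
  have huniq : ∀ {v v' b b' : G}, v ∈ V → v' ∈ V → b ∈ B → b' ∈ B → v * b = v' * b' → v = v' ∧ b = b' := by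
    intro v v' b b' hv hv' hb hb' h
    have e : v'⁻¹ * v = b' * b⁻¹ := by rw [eq_mul_inv_iff_mul_eq, mul_assoc, h, inv_mul_cancel_left]
    have hm : v'⁻¹ * v ∈ V ⊓ B :=
      Subgroup.mem_inf.2 ⟨mul_mem (inv_mem hv') hv, e.symm ▸ mul_mem hb' (inv_mem hb)⟩
    rw [hVBi, Subgroup.mem_bot] at hm
    have hvv : v = v' := (inv_mul_eq_one.1 hm).symm
    exact ⟨hvv, mul_left_cancel (hvv ▸ h)⟩
  have hDcard : Nat.card ↥(Subgroup.centralizer ({t} : Set G)) = 240 := by
    let F : V × B → Subgroup.centralizer ({t} : Set G) := fun p => ⟨p.1 * p.2, mul_mem (hVD p.1.2) (hBD p.2.2)⟩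
    have hFb : Function.Bijective F := by
      constructor
      · rintro ⟨a, b⟩ ⟨a', b'⟩ h
        obtain ⟨h1, h2⟩ := huniq a.2 a'.2 b.2 b'.2 (congrArg Subtype.val h)
        rw [Subtype.ext h1, Subtype.ext h2]
      · rintro ⟨g, hg⟩
        obtain ⟨v, hv, b, hb, rfl⟩ := hdec g hg
        exact ⟨⟨⟨v, hv⟩, ⟨b, hb⟩⟩, rfl⟩
    rw [← Nat.card_eq_of_bijective F hFb, Nat.card_prod, hV, Nat.card_congr eB.toEquiv, hA5]
  -- the classes inside the two centralizers
  have hord2 : ∀ {x y : G}, orderOf x = 2 → IsConj x y → orderOf y = 2 := fun hx h => by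
    obtain ⟨g, rfl⟩ := isConj_iff.1 h
    rw [Cfsg.Lib.Invol.orderOf_conj_eq, hx]
  have hsq : ∀ {x : G}, orderOf x = 2 → x * x = 1 ∧ x ≠ 1 := fun {x} hx =>
    ⟨by rw [← pow_two, ← hx, pow_orderOf_eq_one], fun h => by rw [h, orderOf_one] at hx; norm_num at hx⟩
  have hord : ∀ {x : G}, x * x = 1 → x ≠ 1 → orderOf x = 2 := fun h h1 =>
    orderOf_eq_prime (by rw [pow_two, h]) h1
  have hzC : ∀ x, IsConj z x ∧ Commute x z ↔ x = z ∨ x ∈ Cfsg.Lib.Extra.nci Q z := by
    intro x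
    constructor
    · rintro ⟨hx, hxz⟩
      by_cases hxQ : x ∈ Q
      · by_cases hxz' : x = z
        · exact Or.inl hxz'
        · exact Or.inr ⟨hxQ, (hsq (hord2 hz hx)).1, (hsq (hord2 hz hx)).2, hxz'⟩
      · exact absurd (hx.trans (hCz x (hmC.2 hxz) (hord2 hz hx) hxQ)) hzt
    · rintro (rfl | ⟨hxQ, hx2, hx1, -⟩)
      · exact ⟨IsConj.refl _, Commute.refl _⟩
      · exact ⟨(hQz x hxQ (hord hx2 hx1)).symm, hmC.1 (hQC hxQ)⟩
  have hzD : ∀ x, IsConj z x ∧ Commute x t ↔ x ∈ B ∧ x * x = 1 ∧ x ≠ 1 := by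
    intro x
    constructor
    · rintro ⟨hx, hxt⟩
      refine ⟨?_, hsq (hord2 hz hx)⟩
      by_contra hxB
      exact hzt (hx.trans (hCt x (hmD.2 hxt) (hord2 hz hx) hxB))
    · rintro ⟨hxB, hx2, hx1⟩
      exact ⟨(hBz x hxB (hord hx2 hx1)).symm, hmD.1 (hBD hxB)⟩
  have htD : ∀ x, IsConj t x ∧ Commute x t ↔ ∃ v ∈ V, ∃ b ∈ B, v ≠ 1 ∧ b * b = 1 ∧ x = v * b := by
    intro x
    constructor
    · rintro ⟨hx, hxt⟩
      obtain ⟨v, hv, b, hb, rfl⟩ := hdec x (hmD.2 hxt)
      have h := (hsq (hord2 ht hx))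
      have hvb : Commute v b := hVBc v hv b hb
      have hb2 : b * b = 1 := by
        have h1 := h.1
        rw [hvb.symm.mul_mul_mul_comm, ← pow_two v, hV2 v hv, one_mul] at h1
        exact h1
      refine ⟨v, hv, b, hb, fun hv1 => ?_, hb2, rfl⟩
      subst hv1
      rw [one_mul] at hx h
      exact hzt ((hBz b hb (hord hb2 h.2)).symm.trans hx.symm)
    · rintro ⟨v, hv, b, hb, hv1, hb2, rfl⟩
      have hvb : Commute v b := hVBc v hv b hb
      have hD : v * b ∈ Subgroup.centralizer ({t} : Set G) := mul_mem (hVD hv) (hBD hb)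
      refine ⟨(hCt _ hD (hord ?_ ?_) ?_).symm, hmD.1 hD⟩
      · rw [hvb.symm.mul_mul_mul_comm, ← pow_two v, hV2 v hv, hb2, one_mul]
      · exact fun h => hv1 ((huniq hv (one_mem V) hb (one_mem B) (by rw [h, one_mul])).1)
      · exact fun h => hv1 ((huniq hv (one_mem V) hb h (by rw [one_mul])).1)
  -- counts in `A₅`
  have key1 : Nat.card {a : G // IsConj z a ∧ Commute a t} = 15 := by
    rw [← a5_invs, ← Fintype.card_coe, ← Nat.card_eq_fintype_card]
    refine Nat.card_congr ⟨fun a => ⟨eB ⟨a.1, ((hzD a.1).1 a.2).1⟩, Finset.mem_filter.2 ⟨Finset.mem_univ _, ?_, ?_⟩⟩,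
      fun b => ⟨(eB.symm b.1 : G), (hzD _).2 ⟨(eB.symm b.1).2, ?_, ?_⟩⟩, fun a => ?_, fun b => ?_⟩
    · rw [← map_mul, ← map_one eB]; exact congrArg eB (Subtype.ext ((hzD a.1).1 a.2).2.1)
    · intro h; exact ((hzD a.1).1 a.2).2.2 (congrArg Subtype.val (eB.map_eq_one_iff.1 h))
    · rw [← Subgroup.coe_mul, ← map_mul, (Finset.mem_filter.1 b.2).2.1, map_one]; rfl
    · intro h; exact (Finset.mem_filter.1 b.2).2.2 (eB.symm.map_eq_one_iff.1 (Subtype.ext h))
    · simp
    · simp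
  have hclass : ∀ x : G, Nat.card {a : G // IsConj x a} * Nat.card ↥(Subgroup.centralizer ({x} : Set G)) =
      Nat.card G := fun x => Cfsg.Lib.Invol.card_conj_mul_centralizer x
  have hratio : Nat.card {a : G // IsConj t a} = 8 * Nat.card {a : G // IsConj z a} := by
    have h1 := hclass z
    have h2 := hclass t
    rw [hCcard] at h1
    rw [hDcard] at h2
    omega
  have hzpos : 0 < Nat.card {a : G // IsConj z a} := by
    haveI : Nonempty {a : G // IsConj z a} := ⟨⟨z, IsConj.refl z⟩⟩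
    exact Nat.card_pos
  have conjc : ∀ (g : G) {x y : G}, IsConj x (g * y * g⁻¹) ↔ IsConj x y := fun g {x y} =>
    ⟨fun h => h.trans (isConj_iff.2 ⟨g⁻¹, by group⟩), fun h => h.trans (isConj_iff.2 ⟨g, rfl⟩)⟩
  -- involutions in `C(z)` conjugate to `t`
  have key2 : Nat.card {v : G // IsConj t v ∧ Commute v z} = 120 := by
    have e1 : Nat.card {p : G × G // IsConj z p.1 ∧ (IsConj t p.2 ∧ Commute p.2 p.1)} =
        Nat.card {p : G × G // IsConj t p.1 ∧ (IsConj z p.2 ∧ Commute p.2 p.1)} :=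
      Nat.card_congr ((Equiv.prodComm G G).subtypeEquiv fun p =>
        ⟨fun h => ⟨h.2.1, h.1, h.2.2.symm⟩, fun h => ⟨h.2.1, h.1, h.2.2.symm⟩⟩)
    rw [card_class_pairs z (fun a v => IsConj t v ∧ Commute v a) (fun g => card_conj_eq g fun y => by
        rw [conjc, Commute.conj_iff]),
      card_class_pairs t (fun v a => IsConj z a ∧ Commute a v) (fun g => card_conj_eq g fun y => by
        rw [conjc, Commute.conj_iff]), key1, hratio] at e1
    exact Nat.eq_of_mul_eq_mul_left hzpos (e1.trans (by ring))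
  -- commuting pairs
  have key3 : Nat.card {p : G × G // (IsConj z p.1 ∧ Commute p.1 t) ∧ (IsConj z p.2 ∧ Commute p.2 t) ∧
      Commute p.1 p.2 ∧ p.1 ≠ p.2} = 30 := by
    rw [← a5_commuting, ← Finset.card_sigma, ← Fintype.card_coe, ← Nat.card_eq_fintype_card]
    refine Nat.card_congr ⟨fun p => ⟨⟨eB ⟨p.1.1, ((hzD _).1 p.2.1).1⟩, eB ⟨p.1.2, ((hzD _).1 p.2.2.1).1⟩⟩, ?_⟩,
      fun b => ⟨((eB.symm b.1.1 : G), (eB.symm b.1.2 : G)), (hzD _).2 ⟨(eB.symm b.1.1).2, ?_⟩,
        (hzD _).2 ⟨(eB.symm b.1.2).2, ?_⟩, ?_⟩, fun p => ?_, fun b => ?_⟩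
    · simp only [Finset.mem_sigma, Finset.mem_filter, Finset.mem_univ, true_and]
      obtain ⟨⟨u, v⟩, hu, hv, huv, hne⟩ := p
      obtain ⟨huB, hu2, hu1⟩ := (hzD _).1 hu
      obtain ⟨hvB, hv2, hv1⟩ := (hzD _).1 hv
      simp only [← map_mul]
      refine ⟨⟨?_, ?_⟩, ⟨?_, ?_⟩, ?_, fun h => hne (congrArg Subtype.val (eB.injective h))⟩
      · rw [← map_one eB]; exact congrArg eB (Subtype.ext hu2)
      · intro h; exact hu1 (congrArg Subtype.val (eB.map_eq_one_iff.1 h))
      · rw [← map_one eB]; exact congrArg eB (Subtype.ext hv2)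
      · intro h; exact hv1 (congrArg Subtype.val (eB.map_eq_one_iff.1 h))
      · exact congrArg eB (Subtype.ext huv.eq)
    · obtain ⟨⟨c, d⟩, hb⟩ := b
      simp only [Finset.mem_sigma, Finset.mem_filter, Finset.mem_univ, true_and] at hb
      exact ⟨by rw [← Subgroup.coe_mul, ← map_mul, hb.1.1, map_one]; rfl,
        fun h => hb.1.2 (eB.symm.map_eq_one_iff.1 (Subtype.ext h))⟩
    · obtain ⟨⟨c, d⟩, hb⟩ := b
      simp only [Finset.mem_sigma, Finset.mem_filter, Finset.mem_univ, true_and] at hb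
      exact ⟨by rw [← Subgroup.coe_mul, ← map_mul, hb.2.1.1, map_one]; rfl,
        fun h => hb.2.1.2 (eB.symm.map_eq_one_iff.1 (Subtype.ext h))⟩
    · obtain ⟨⟨c, d⟩, hb⟩ := b
      simp only [Finset.mem_sigma, Finset.mem_filter, Finset.mem_univ, true_and] at hb
      refine ⟨?_, fun h => hb.2.2.2 (eB.symm.injective (Subtype.ext h))⟩
      show (eB.symm c : G) * (eB.symm d : G) = (eB.symm d : G) * (eB.symm c : G)
      rw [← Subgroup.coe_mul, ← Subgroup.coe_mul, ← map_mul, ← map_mul, hb.2.2.1]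
    · simp
    · simp
  have key4 : Nat.card {p : G × G // (p.1 ≠ z ∧ IsConj z p.1 ∧ Commute p.1 z) ∧
      (IsConj t p.2 ∧ Commute p.2 z) ∧ Commute p.1 p.2} = 240 := by
    have e1 : Nat.card {p : G × (G × G) // IsConj z p.1 ∧
          ((p.2.1 ≠ p.1 ∧ IsConj z p.2.1 ∧ Commute p.2.1 p.1) ∧
            (IsConj t p.2.2 ∧ Commute p.2.2 p.1) ∧ Commute p.2.1 p.2.2)} =
        Nat.card {p : G × (G × G) // IsConj t p.1 ∧
          ((IsConj z p.2.1 ∧ Commute p.2.1 p.1) ∧ (IsConj z p.2.2 ∧ Commute p.2.2 p.1) ∧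
            Commute p.2.1 p.2.2 ∧ p.2.1 ≠ p.2.2)} :=
      Nat.card_congr ⟨fun p => ⟨(p.1.2.2, (p.1.2.1, p.1.1)), p.2.2.2.1.1, ⟨p.2.2.1.2.1, p.2.2.2.2⟩,
          ⟨p.2.1, p.2.2.2.1.2.symm⟩, p.2.2.1.2.2, p.2.2.1.1⟩,
        fun p => ⟨(p.1.2.2, (p.1.2.1, p.1.1)), p.2.2.2.1.1, ⟨p.2.2.2.2.2, p.2.2.1.1, p.2.2.2.2.1⟩,
          ⟨p.2.1, p.2.2.2.1.2.symm⟩, p.2.2.1.2⟩, fun p => rfl, fun p => rfl⟩
    rw [card_class_pairs z (fun (a : G) (q : G × G) => (q.1 ≠ a ∧ IsConj z q.1 ∧ Commute q.1 a) ∧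
        (IsConj t q.2 ∧ Commute q.2 a) ∧ Commute q.1 q.2) (fun g => ?_),
      card_class_pairs t (fun (v : G) (q : G × G) => (IsConj z q.1 ∧ Commute q.1 v) ∧
        (IsConj z q.2 ∧ Commute q.2 v) ∧ Commute q.1 q.2 ∧ q.1 ≠ q.2) (fun g => ?_), key3, hratio] at e1
    · exact Nat.eq_of_mul_eq_mul_left hzpos (e1.trans (by ring))
    all_goals
      refine (Nat.card_congr (Equiv.subtypeEquiv ((MulAut.conj g).toEquiv.prodCongr (MulAut.conj g).toEquiv) ?_)).symm
      intro q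
      simp only [MulEquiv.toEquiv_eq_coe, Equiv.prodCongr_apply, MulEquiv.coe_toEquiv, Prod.map_fst,
        Prod.map_snd, MulAut.conj_apply, conjc, Commute.conj_iff]
      simp
  have key5 : Nat.card {u : G // u ≠ z ∧ IsConj z u ∧ Commute u z} = 10 := by
    rw [← hI, ← Nat.card_coe_set_eq]
    refine Nat.card_congr (Equiv.subtypeEquivRight fun u => ⟨fun h => ?_, fun h => ?_⟩)
    · exact ((hzC u).1 h.2).resolve_left h.1
    · exact ⟨h.2.2.2, (hzC u).2 (Or.inr h)⟩
  -- the two terms of the order formula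
  have hcomm_of_mem : ∀ {w u v : G}, orderOf w = 2 → orderOf u = 2 → orderOf v = 2 →
      w ∈ Subgroup.zpowers (u * v) → Commute u w ∧ Commute v w := by
    intro w u v hw hu hv hmem
    obtain ⟨i, rfl⟩ := Subgroup.mem_zpowers_iff.1 hmem
    obtain ⟨hw2, -⟩ := hsq hw
    obtain ⟨hu2, -⟩ := hsq hu
    have hinv : u * (u * v) * u⁻¹ = (u * v)⁻¹ := by
      rw [mul_inv_rev, inv_eq_of_mul_eq_one_right (hsq hv).1, inv_eq_of_mul_eq_one_right hu2,
        ← mul_assoc, hu2, one_mul]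
    have h1 : u * (u * v) ^ i * u⁻¹ = (u * v) ^ i := by
      rw [← conj_zpow, hinv, inv_zpow]; exact inv_eq_of_mul_eq_one_right hw2
    have h2 : Commute u ((u * v) ^ i) := mul_inv_eq_iff_eq_mul.1 h1
    refine ⟨h2, ?_⟩
    have h3 := h2.inv_left.mul_left ((Commute.refl (u * v)).zpow_right i)
    rwa [inv_mul_cancel_left] at h3
  have hsplit : ∀ {u v : G}, u ∈ Cfsg.Lib.Extra.nci Q z → IsConj t v → Commute v z →
      (z ∈ Subgroup.zpowers (u * v) ↔ ¬ Commute u v) := by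
    intro u v hu hv hvz
    obtain ⟨hv2, hv1⟩ := hsq (hord2 ht hv)
    obtain ⟨huQ, hu2, hu1, huz⟩ := hu
    constructor
    · intro hmem hc
      obtain ⟨i, hi⟩ := Subgroup.mem_zpowers_iff.1 hmem
      have h2 : (u * v) ^ (2 : ℤ) = 1 := by rw [zpow_two, hc.symm.mul_mul_mul_comm, hu2, hv2, one_mul]
      rcases Int.even_or_odd' i with ⟨j, rfl | rfl⟩
      · rw [zpow_mul, h2, one_zpow] at hi; exact hX.ne_one hi.symm
      · rw [zpow_add_one, zpow_mul, h2, one_zpow, one_mul] at hi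
        have hvQ : v ∈ Q := by rw [eq_inv_mul_iff_mul_eq.2 hi]; exact mul_mem (inv_mem huQ) hX.mem
        exact hzt ((hQz v hvQ (hord hv2 hv1)).symm.trans hv.symm)
    · intro hnc
      have hvinv : v⁻¹ = v := inv_eq_of_mul_eq_one_right hv2
      have huc : v * u * v ∈ Cfsg.Lib.Extra.nci Q z := by
        refine ⟨?_, ?_, fun h => hu1 ?_, fun h => huz ?_⟩
        · have := (Subgroup.mem_normalizer_iff.1 (hX.norm v hvz) u).1 huQ
          rwa [hvinv] at this
        · calc v * u * v * (v * u * v) = v * u * (v * v) * u * v := by simp only [mul_assoc]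
            _ = v * (u * u) * v := by rw [hv2, mul_one]; simp only [mul_assoc]
            _ = 1 := by rw [hu2, mul_one, hv2]
        · exact conj_eq_one_iff.1 (show v * u * v⁻¹ = 1 by rw [hvinv]; exact h)
        · calc u = (v * v) * u * (v * v) := by rw [hv2, one_mul, mul_one]
            _ = v * (v * u * v) * v := by simp only [mul_assoc]
            _ = z := by rw [h, hvz.eq, mul_assoc, hv2, mul_one]
      have huv2 : u * v * (u * v) = u * (v * u * v) := by simp only [mul_assoc]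
      by_cases hc : Commute u (v * u * v)
      · rcases hIc ⟨huQ, hu2, hu1, huz⟩ huc hc with h | h
        · exfalso
          exact hnc ((mul_inv_eq_iff_eq_mul.1 (show v * u * v⁻¹ = u by rw [hvinv]; exact h)).symm)
        · refine Subgroup.mem_zpowers_iff.2 ⟨2, ?_⟩
          rw [zpow_two, huv2, h, ← mul_assoc, ← (hX.central u huQ).eq, mul_assoc, hu2, mul_one]
      · refine Subgroup.mem_zpowers_iff.2 ⟨2 * 2, ?_⟩
        rw [zpow_mul, zpow_two, zpow_two, huv2]
        calc u * (v * u * v) * (u * (v * u * v))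
            = u * (v * u * v) * u⁻¹ * (v * u * v)⁻¹ := by
              rw [inv_eq_of_mul_eq_one_right hu2, inv_eq_of_mul_eq_one_right huc.2.1]; simp only [mul_assoc]
          _ = z := (hX.comm u huQ _ huc.1).resolve_left fun h' =>
              hc (mul_inv_eq_iff_eq_mul.1 (mul_inv_eq_one.1 h'))
  have keyz : Nat.card {p : G × G // IsConj z p.1 ∧ IsConj t p.2 ∧ z ∈ Subgroup.zpowers (p.1 * p.2)} = 960 := by
    let W := {u : G // u ≠ z ∧ IsConj z u ∧ Commute u z} × {v : G // IsConj t v ∧ Commute v z}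
    have hW : Nat.card W = 1200 := by rw [Nat.card_prod, key5, key2]
    have hc : Nat.card {w : W // Commute w.1.1 w.2.1} = 240 := by
      rw [← key4]
      exact Nat.card_congr ⟨fun w => ⟨(w.1.1.1, w.1.2.1), w.1.1.2, w.1.2.2, w.2⟩,
        fun p => ⟨(⟨p.1.1, p.2.1⟩, ⟨p.1.2, p.2.2.1⟩), p.2.2.2⟩, fun w => rfl, fun p => rfl⟩
    have hn : Nat.card {w : W // ¬ Commute w.1.1 w.2.1} = 960 := by
      have := Fintype.ofFinite W
      rw [Nat.card_eq_fintype_card, Fintype.card_subtype_compl]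
      rw [Nat.card_eq_fintype_card] at hc hW
      omega
    rw [← hn]
    have hne : ∀ {u v : G}, IsConj t v → z ∈ Subgroup.zpowers (u * v) → u ≠ z := by
      intro u v hv hmem huz
      subst huz
      obtain ⟨hv2, hv1⟩ := hsq (hord2 ht hv)
      obtain ⟨-, hvz⟩ := hcomm_of_mem hz hz (hord2 ht hv) hmem
      obtain ⟨i, hi⟩ := Subgroup.mem_zpowers_iff.1 hmem
      have h2 : (u * v) ^ (2 : ℤ) = 1 := by rw [zpow_two, hvz.mul_mul_mul_comm, hz2, hv2, one_mul]
      rcases Int.even_or_odd' i with ⟨j, rfl | rfl⟩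
      · rw [zpow_mul, h2, one_zpow] at hi; exact hX.ne_one hi.symm
      · rw [zpow_add_one, zpow_mul, h2, one_zpow, one_mul] at hi
        exact hv1 (mul_eq_left.1 hi)
    exact Nat.card_congr ⟨fun p =>
        ⟨(⟨p.1.1, hne p.2.2.1 p.2.2.2, p.2.1, (hcomm_of_mem hz (hord2 hz p.2.1) (hord2 ht p.2.2.1) p.2.2.2).1⟩,
          ⟨p.1.2, p.2.2.1, (hcomm_of_mem hz (hord2 hz p.2.1) (hord2 ht p.2.2.1) p.2.2.2).2⟩),
        (hsplit (((hzC _).1 ⟨p.2.1, (hcomm_of_mem hz (hord2 hz p.2.1) (hord2 ht p.2.2.1) p.2.2.2).1⟩).resolve_left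
          (hne p.2.2.1 p.2.2.2)) p.2.2.1 (hcomm_of_mem hz (hord2 hz p.2.1) (hord2 ht p.2.2.1) p.2.2.2).2).1 p.2.2.2⟩,
      fun w => ⟨(w.1.1.1, w.1.2.1), w.1.1.2.2.1, w.1.2.2.1,
        (hsplit (((hzC _).1 w.1.1.2.2).resolve_left w.1.1.2.1) w.1.2.2.1 w.1.2.2.2).2 w.2⟩,
      fun p => rfl, fun w => rfl⟩
  have hodd15 : ∀ g : ↥B, Odd (orderOf g) → g ^ 15 = 1 := by
    intro g hg
    rcases a5_orders (eB g) with h | h
    · have h' : g * g = 1 := eB.injective (by rw [map_mul, h, map_one])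
      have hd : orderOf g ∣ 2 := orderOf_dvd_of_pow_eq_one (by rw [pow_two, h'])
      rcases (Nat.dvd_prime Nat.prime_two).1 hd with h1 | h1
      · rw [orderOf_eq_one_iff.1 h1, one_pow]
      · rw [h1] at hg; exact absurd hg (by decide)
    · exact eB.injective (by rw [map_pow, h, map_one])
  have keyt : Nat.card {p : G × G // IsConj z p.1 ∧ IsConj t p.2 ∧ t ∈ Subgroup.zpowers (p.1 * p.2)} = 195 := by
    rw [← a5_odd, ← Finset.card_sigma, ← Fintype.card_coe, ← Nat.card_eq_fintype_card]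
    have hto : ∀ b : ↥((Finset.univ.filter fun a : alternatingGroup (Fin 5) => a * a = 1 ∧ a ≠ 1).sigma fun a =>
        Finset.univ.filter fun b : alternatingGroup (Fin 5) => b * b = 1 ∧ (a * b) ^ 15 = 1),
        IsConj z (eB.symm b.1.1 : G) ∧ IsConj t (t * (eB.symm b.1.2 : G)) ∧
          t ∈ Subgroup.zpowers ((eB.symm b.1.1 : G) * (t * (eB.symm b.1.2 : G))) := by
      rintro ⟨⟨c, d⟩, hb⟩
      simp only [Finset.mem_sigma, Finset.mem_filter, Finset.mem_univ, true_and] at hb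
      have hu : IsConj z (eB.symm c : G) ∧ Commute (eB.symm c : G) t := (hzD _).2 ⟨(eB.symm c).2,
        by rw [← Subgroup.coe_mul, ← map_mul, hb.1.1, map_one]; rfl,
        fun h => hb.1.2 (eB.symm.map_eq_one_iff.1 (Subtype.ext h))⟩
      have hv := (htD (t * (eB.symm d : G))).2 ⟨t, htV, _, (eB.symm d).2, (hsq ht).2,
        by rw [← Subgroup.coe_mul, ← map_mul, hb.2.1, map_one]; rfl, rfl⟩
      refine ⟨hu.1, hv.1, Subgroup.mem_zpowers_iff.2 ⟨(15 : ℕ), ?_⟩⟩
      rw [zpow_natCast, show (eB.symm c : G) * (t * (eB.symm d : G)) = t * ((eB.symm (c * d) : B) : G) by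
        rw [map_mul, Subgroup.coe_mul, ← mul_assoc, hu.2.eq, mul_assoc],
        (show Commute t ((eB.symm (c * d) : B) : G) from hVBc t htV _ (eB.symm (c * d)).2).mul_pow,
        ← SubgroupClass.coe_pow, ← map_pow, hb.2.2, map_one, Subgroup.coe_one, mul_one,
        show (15 : ℕ) = 2 * 7 + 1 from rfl, pow_succ, pow_mul, pow_two, ht2, one_pow, one_mul]
    refine (Nat.card_eq_of_bijective (fun b => ⟨((eB.symm b.1.1 : G), t * (eB.symm b.1.2 : G)), hto b⟩) ⟨?_, ?_⟩).symm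
    · rintro ⟨⟨c, d⟩, hb⟩ ⟨⟨c', d'⟩, hb'⟩ h
      have h' := congrArg Subtype.val h
      simp only [Prod.mk.injEq, mul_right_inj] at h'
      have h1 := eB.symm.injective (Subtype.ext h'.1)
      have h2 := eB.symm.injective (Subtype.ext h'.2)
      subst h1 h2
      rfl
    · rintro ⟨⟨u, v⟩, hu, hv, hmem⟩
      obtain ⟨hut, hvt⟩ := hcomm_of_mem ht (hord2 hz hu) (hord2 ht hv) hmem
      obtain ⟨huB, hu2, hu1⟩ := (hzD u).1 ⟨hu, hut⟩
      obtain ⟨w, hw, b, hb, hw1, hb2, rfl⟩ := (htD v).1 ⟨hv, hvt⟩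
      obtain ⟨i, hi⟩ := Subgroup.mem_zpowers_iff.1 hmem
      have e : u * (w * b) = w * (u * b) := by rw [← mul_assoc, ← hVBc w hw u huB, mul_assoc]
      simp only [e] at hi
      rw [(show Commute w (u * b) from hVBc w hw _ (mul_mem huB hb)).mul_zpow] at hi
      obtain ⟨h1, h2⟩ := huniq (zpow_mem hw i) htV (zpow_mem (mul_mem huB hb) i) (one_mem B)
        (hi.trans (mul_one t).symm)
      have hw2 : w ^ (2 : ℤ) = 1 := by rw [zpow_two, ← pow_two]; exact hV2 w hw
      rcases Int.even_or_odd' i with ⟨j, rfl | rfl⟩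
      · rw [zpow_mul, hw2, one_zpow] at h1; exact absurd h1.symm (hsq ht).2
      rw [zpow_add_one, zpow_mul, hw2, one_zpow, one_mul] at h1
      subst h1
      have hoddo : Odd (orderOf (⟨u * b, mul_mem huB hb⟩ : B)) := by
        rw [← Subgroup.orderOf_coe]
        have hd : (orderOf (u * b) : ℤ) ∣ 2 * j + 1 := orderOf_dvd_iff_zpow_eq_one.2 h2
        rcases Nat.even_or_odd (orderOf (u * b)) with he | ho
        · exfalso
          have : (2 : ℤ) ∣ 2 * j + 1 := (Int.natCast_dvd_natCast.2 (even_iff_two_dvd.1 he)).trans hd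
          omega
        · exact ho
      refine ⟨⟨⟨eB ⟨u, huB⟩, eB ⟨b, hb⟩⟩, ?_⟩, ?_⟩
      · simp only [Finset.mem_sigma, Finset.mem_filter, Finset.mem_univ, true_and]
        refine ⟨⟨?_, fun h => hu1 (congrArg Subtype.val (eB.map_eq_one_iff.1 h))⟩, ?_, ?_⟩
        · rw [← map_mul, ← map_one eB]; exact congrArg eB (Subtype.ext hu2)
        · rw [← map_mul, ← map_one eB]; exact congrArg eB (Subtype.ext hb2)
        · rw [← map_mul, ← map_pow, ← map_one eB]; exact congrArg eB (hodd15 _ hoddo)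
      · simp
  have hall : ∀ x : G, orderOf x = 2 → IsConj z x ∨ IsConj t x := fun x hx =>
    (hcl x hx).imp IsConj.symm IsConj.symm
  have := Cfsg.Agent.S0213.result z t hz ht hzt hall
  rw [hDcard, hCcard, keyz, keyt] at this
  omega

end Cfsg.Agent.S3313
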