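import Cfsg.Statements.S3315
import Mathlib
import Cfsg.Agent.Lib.U3Even.Sylow
-- import your own Cfsg.Agent.* helpers here

set_option autoImplicit false
open Cfsg

namespace Cfsg.Agent.S3315

open Cfsg.Lib.U3Even

variable {F : Type*} [Field F] [Fintype F] {n : ℕ} {T : Type*} [Group T]

/-- the polar form of the norm -/
def P (q : ℕ) (a b : F) : F := a * b ^ q + a ^ q * b

theorem norm_add (hn : 1 ≤ n) (hF : Fintype.card F = (2 ^ n) ^ 2) (a b : F) :
    (a + b) ^ (2 ^ n + 1) = a ^ (2 ^ n + 1) + b ^ (2 ^ n + 1) + P (2 ^ n) a b := by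
  rw [pow_succ, frob_add hn hF, pow_succ, pow_succ, P]
  ring

/-- an involutory semi-similitude of the norm fixes the subfield pointwise -/
theorem psi_trivial (hn : 1 ≤ n) (hF : Fintype.card F = (2 ^ n) ^ 2) (Φ ψ : F → F)
    (hΦadd : ∀ a b, Φ (a + b) = Φ a + Φ b) (hΦΦ : ∀ a, Φ (Φ a) = a)
    (hψadd : ∀ x y, x ^ (2 ^ n) = x → y ^ (2 ^ n) = y → ψ (x + y) = ψ x + ψ y)
    (hψψ : ∀ x, x ^ (2 ^ n) = x → ψ (ψ x) = x)
    (hψfix : ∀ x, x ^ (2 ^ n) = x → ψ x ^ (2 ^ n) = ψ x)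
    (hN : ∀ a, ψ (a ^ (2 ^ n + 1)) = Φ a ^ (2 ^ n + 1)) :
    ∀ x, x ^ (2 ^ n) = x → ψ x = x := by
  classical
  set q := 2 ^ n with hq
  have hq2 : 2 ≤ q := hq ▸ Nat.le_self_pow (by omega) 2
  have t2 := two_eq_zero hn hF
  have hΦ0 : Φ 0 = 0 := by simpa using hΦadd 0 0
  have hΦinj : ∀ a, Φ a = 0 → a = 0 := fun a h => by rw [← hΦΦ a, h, hΦ0]
  have hz : (0 : F) ^ q = 0 := zero_pow (by omega)
  have hψ0 : ψ 0 = 0 := by simpa using hψadd 0 0 hz hz
  have hPfix : ∀ a b : F, P q a b ^ q = P q a b := fun a b => by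
    rw [P, hq, frob_add hn hF, mul_pow, mul_pow, frob_frob hF, frob_frob hF]
    ring
  have hNfix : ∀ a : F, (a ^ (q + 1)) ^ q = a ^ (q + 1) := fun a => norm_fixed hF a
  have hψP : ∀ a b, ψ (P q a b) = P q (Φ a) (Φ b) := by
    intro a b
    have hsum : (a ^ (q + 1) + b ^ (q + 1)) ^ q = a ^ (q + 1) + b ^ (q + 1) := by
      rw [hq, frob_add hn hF, norm_fixed hF, norm_fixed hF]
    have h := hN (a + b)
    rw [norm_add hn hF, ← hq, hψadd _ _ hsum (hPfix a b), hψadd _ _ (hNfix a) (hNfix b), hN, hN,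
      hΦadd, norm_add hn hF, ← hq] at h
    exact add_left_cancel h
  have hPsurj : ∀ a : F, a ≠ 0 → ∀ z : F, z ^ q = z → ∃ b, P q a b = z := by
    intro a ha z hz
    obtain ⟨t, ht⟩ := exists_tr hn hF (show (z / a ^ (q + 1)) ^ q = z / a ^ (q + 1) by
      rw [div_pow, hz, hNfix])
    refine ⟨a * t, ?_⟩
    rw [P, mul_pow]
    rw [← hq, eq_div_iff (pow_ne_zero _ ha)] at ht
    linear_combination ht
  have hψone0 : ψ 1 ≠ 0 := fun e => one_ne_zero (α := F) (by
    rw [← hψψ 1 (one_pow _), e, hψ0])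
  obtain ⟨c, hc⟩ : ∃ c, c = ψ 1 := ⟨_, rfl⟩
  have hc0 : c ≠ 0 := hc ▸ hψone0
  have hcfix : c ^ q = c := hc ▸ hψfix 1 (one_pow _)
  -- semilinearity
  have hlam : ∀ (a lam : F), a ≠ 0 → lam ^ q = lam →
      Φ (a * lam) = Φ a * (ψ lam / c) ∧ ∀ z, z ^ q = z → ψ (lam * z) * c = ψ lam * ψ z := by
    intro a lam ha hlam
    have hu : Φ a ≠ 0 := fun e => ha (hΦinj a e)
    obtain ⟨l, hl⟩ : ∃ l, l = Φ (a * lam) / Φ a := ⟨_, rfl⟩
    have hl' : Φ (a * lam) = Φ a * l := by rw [hl]; field_simp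
    have h0 : P q (Φ a) (Φ (a * lam)) = 0 := by
      rw [← hψP, show P q a (a * lam) = 0 by
        rw [P, mul_pow, hlam]; linear_combination a * a ^ q * lam * t2, hψ0]
    rw [hl', P, mul_pow] at h0
    have hlq : l ^ q = l := by
      have h1 : Φ a * Φ a ^ q * (l ^ q + l) = 0 := by linear_combination h0
      rcases mul_eq_zero.1 h1 with h | h
      · exact absurd h (mul_ne_zero hu (pow_ne_zero _ hu))
      · linear_combination h - l * t2
    have hmul : ∀ z, z ^ q = z → ψ (lam * z) = l * ψ z := by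
      intro z hz
      obtain ⟨b, hb⟩ := hPsurj a ha z hz
      have e1 : lam * z = P q (a * lam) b := by
        rw [← hb, P, P, mul_pow, hlam]; ring
      rw [e1, hψP, hl', ← hb, hψP, P, P, mul_pow, hlq]
      ring
    have h1 := hmul 1 (one_pow _)
    rw [mul_one, ← hc] at h1
    have hlc : l = ψ lam / c := by rw [h1]; field_simp
    refine ⟨by rw [hl', hlc], fun z hz => ?_⟩
    rw [hmul z hz, h1]
    ring
  have hψmul : ∀ lam z : F, lam ^ q = lam → z ^ q = z → ψ (lam * z) * c = ψ lam * ψ z :=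
    fun lam z h1 h2 => (hlam 1 lam one_ne_zero h1).2 z h2
  obtain ⟨f, hf⟩ : ∃ f : F → F, ∀ x, f x = ψ x / c := ⟨fun x => ψ x / c, fun _ => rfl⟩
  have hψf : ∀ x, ψ x = c * f x := fun x => by rw [hf]; field_simp
  have hffix : ∀ x : F, x ^ q = x → f x ^ q = f x := fun x hx => by
    rw [hf, div_pow, hψfix x hx, hcfix]
  have hfadd : ∀ x y : F, x ^ q = x → y ^ q = y → f (x + y) = f x + f y := fun x y hx hy => by
    rw [hf, hf, hf, hψadd x y hx hy, add_div]
  have hfmul : ∀ x y : F, x ^ q = x → y ^ q = y → f (x * y) = f x * f y := fun x y hx hy => by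
    have h := hψmul x y hx hy
    rw [hψf, hψf, hψf] at h
    exact mul_left_cancel₀ (mul_ne_zero hc0 hc0) (by linear_combination h)
  have hcf : c * f c = 1 := by rw [← hψf, hc, hψψ 1 (one_pow _)]
  have hff : ∀ x : F, x ^ q = x → f (f x) = x := by
    intro x hx
    have h := hψψ x hx
    rw [hψf x, hψf (c * f x), hfmul c (f x) hcfix (hffix x hx)] at h
    linear_combination h - f (f x) * hcf
  by_cases hid : ∀ x : F, x ^ q = x → f x = x
  · have hc1 : c = 1 := by
      have h : (c - 1) * (c - 1) = 0 := by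
        have := hcf
        rw [hid c hcfix] at this
        linear_combination this + (1 - c) * t2
      exact sub_eq_zero.1 (mul_self_eq_zero.1 h)
    intro x hx
    rw [hψf, hid x hx, hc1, one_mul]
  exfalso
  push Not at hid
  obtain ⟨t₀, ht₀, ht₀f⟩ := hid
  -- the fixed field of `f`
  let E : AddSubgroup F :=
    { carrier := {x | x ^ q = x}
      zero_mem' := hz
      add_mem' := fun {x y} (hx : x ^ q = x) (hy : y ^ q = y) => by
        show (x + y) ^ q = x + y
        rw [hq, frob_add hn hF, ← hq, hx, hy]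
      neg_mem' := fun {x} (hx : x ^ q = x) => by
        show (-x) ^ q = -x
        rw [show -x = x by linear_combination -(x * t2), hx] }
  have hf0 : f 0 = 0 := by rw [hf, hψ0, zero_div]
  let K : AddSubgroup F :=
    { carrier := {x | x ^ q = x ∧ f x = x}
      zero_mem' := ⟨hz, hf0⟩
      add_mem' := fun {x y} (hx : x ^ q = x ∧ f x = x) (hy : y ^ q = y ∧ f y = y) =>
        ⟨E.add_mem hx.1 hy.1, by rw [hfadd x y hx.1 hy.1, hx.2, hy.2]⟩
      neg_mem' := fun {x} (hx : x ^ q = x ∧ f x = x) => by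
        show (-x) ^ q = -x ∧ f (-x) = -x
        rw [show -x = x by linear_combination -(x * t2)]
        exact hx }
  have hKmul : ∀ x y, x ∈ K → y ∈ K → x * y ∈ K :=
    fun x y (hx : x ^ q = x ∧ f x = x) (hy : y ^ q = y ∧ f y = y) =>
      ⟨by rw [mul_pow, hx.1, hy.1], by rw [hfmul x y hx.1 hy.1, hx.2, hy.2]⟩
  have hKdiv : ∀ x y, x ∈ K → y ∈ K → x / y ∈ K := by
    intro x y (hx : x ^ q = x ∧ f x = x) (hy : y ^ q = y ∧ f y = y)
    by_cases hy0 : y = 0
    · rw [hy0, div_zero]; exact K.zero_mem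
    have hd : (x / y) ^ q = x / y := by rw [div_pow, hx.1, hy.1]
    refine ⟨hd, mul_right_cancel₀ hy0 ?_⟩
    have h := hfmul (x / y) y hd hy.1
    rw [div_mul_cancel₀ x hy0, hx.2, hy.2] at h
    rw [← h, div_mul_cancel₀ x hy0]
  have hEcard : Nat.card E = q := by
    rw [hq, ← (tr_facts hn hF).1]
    exact Nat.card_congr (Equiv.subtypeEquivRight fun x => ((mem_tr_ker hn hF x).trans Iff.rfl).symm)
  let δ : E →+ K := AddMonoidHom.mk' (fun x => ⟨(x : F) + f x, E.add_mem x.2 (hffix x x.2), by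
    rw [hfadd _ _ x.2 (hffix x x.2), hff x x.2, add_comm]⟩) fun x y => Subtype.ext (by
    show (x : F) + y + f ((x : F) + y) = (x : F) + f x + ((y : F) + f y)
    rw [hfadd _ _ x.2 y.2]; ring)
  have hK2 : Nat.card K * Nat.card K ≤ q := by
    rw [← hEcard, ← Nat.card_prod]
    refine Nat.card_le_card_of_injective
      (fun p : K × K => (⟨(p.1 : F) + (p.2 : F) * t₀, E.add_mem p.1.2.1 (by
        show ((p.2 : F) * t₀) ^ q = (p.2 : F) * t₀
        rw [mul_pow, p.2.2.1, ht₀])⟩ : E)) ?_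
    intro a b e
    have e' : (a.1 : F) + (a.2 : F) * t₀ = (b.1 : F) + (b.2 : F) * t₀ :=
      congrArg (fun x : E => (x : F)) e
    have h2 : (a.2 : F) = b.2 := by
      by_contra hne
      refine ht₀f ?_
      have hmem : ((b.1 : F) - a.1) / ((a.2 : F) - b.2) ∈ K :=
        hKdiv _ _ (K.sub_mem b.1.2 a.1.2) (K.sub_mem a.2.2 b.2.2)
      have ht : t₀ = ((b.1 : F) - a.1) / ((a.2 : F) - b.2) := by
        rw [eq_div_iff (sub_ne_zero.2 hne)]
        linear_combination e'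
      rw [← ht] at hmem
      exact hmem.2
    rw [h2] at e'
    exact Prod.ext (Subtype.ext (add_right_cancel e')) (Subtype.ext h2)
  have hδk : Nat.card δ.ker ≤ Nat.card K :=
    Nat.card_le_card_of_injective (fun x => ⟨((x : E) : F), (x : E).2, by
      have h : ((x : E) : F) + f ((x : E) : F) = 0 := congrArg Subtype.val x.2
      linear_combination h - ((x : E) : F) * t2⟩)
      fun x y e => Subtype.ext (Subtype.ext (congrArg (fun z : K => (z : F)) e))
  have hδ : δ.range = ⊤ := by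
    refine AddSubgroup.eq_top_of_le_card _ ?_
    have h := δ.ker.card_mul_index
    rw [AddSubgroup.index_ker, hEcard] at h
    have hpos : 0 < Nat.card K := Nat.card_pos
    by_contra hlt
    nlinarith [Nat.mul_le_mul hδk (le_of_lt (not_le.1 hlt))]
  -- two independent fixed vectors of `Φ`
  let W : AddSubgroup F :=
    { carrier := {a | Φ a = a}
      zero_mem' := hΦ0
      add_mem' := fun {a b} (ha : Φ a = a) (hb : Φ b = b) => by
        show Φ (a + b) = a + b
        rw [hΦadd, ha, hb]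
      neg_mem' := fun {a} (ha : Φ a = a) => by
        show Φ (-a) = -a
        rw [show -a = a by linear_combination -(a * t2)]
        exact ha }
  have hW : q ≤ Nat.card W := by
    let Δ : F →+ F := AddMonoidHom.mk' (fun x => x + Φ x) fun x y => by rw [hΦadd]; ring
    have h1 := Δ.ker.card_mul_index
    rw [AddSubgroup.index_ker, Nat.card_eq_fintype_card (α := F), hF] at h1
    have h3 := AddSubgroup.card_le_of_le (H := Δ.ker) (K := W) fun x (hx : x + Φ x = 0) => by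
      show Φ x = x
      linear_combination hx - x * t2
    have h4 := AddSubgroup.card_le_of_le (H := Δ.range) (K := W) (by
      rintro _ ⟨x, rfl⟩
      show Φ (x + Φ x) = x + Φ x
      rw [hΦadd, hΦΦ]; ring)
    nlinarith
  obtain ⟨⟨a, haW⟩, hane⟩ : ∃ a : W, a ≠ 0 := by
    haveI := Finite.one_lt_card_iff_nontrivial.1 (show 1 < Nat.card W by omega)
    exact exists_ne 0
  have ha : a ≠ 0 := fun e => hane (Subtype.ext e)
  have haW' : Φ a = a := haW
  obtain ⟨b, hbW, hbind⟩ : ∃ b ∈ W, ∀ lam : F, lam ^ q = lam → b ≠ a * lam := by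
    by_contra hno
    push Not at hno
    choose lam hlamfix hlameq using hno
    have hle : Nat.card W ≤ Nat.card K := by
      refine Nat.card_le_card_of_injective (fun w => ⟨lam w w.2, hlamfix w w.2, ?_⟩) ?_
      · have hw : Φ (w : F) = w := w.2
        rw [hlameq w w.2, (hlam a _ ha (hlamfix w w.2)).1, haW', ← hf] at hw
        exact mul_left_cancel₀ ha hw
      · intro v w e
        refine Subtype.ext ?_
        have e' : lam v v.2 = lam w w.2 := congrArg (fun z : K => (z : F)) e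
        rw [hlameq v v.2, hlameq w w.2, e']
    nlinarith
  have hbW' : Φ b = b := hbW
  obtain ⟨A₀, hA₀⟩ : ∃ A₀, A₀ = a ^ (q + 1) := ⟨_, rfl⟩
  obtain ⟨B₀, hB₀⟩ : ∃ B₀, B₀ = P q a b := ⟨_, rfl⟩
  obtain ⟨C₀, hC₀⟩ : ∃ C₀, C₀ = b ^ (q + 1) := ⟨_, rfl⟩
  have hA0 : A₀ ≠ 0 := hA₀ ▸ pow_ne_zero _ ha
  have hψA : ψ A₀ = A₀ := by rw [hA₀, hN, haW']
  have hAfix : A₀ ^ q = A₀ := hA₀ ▸ hNfix a
  have hratio : ∀ X : F, X ^ q = X → ψ X = X → X / A₀ ∈ K := by
    intro X hX hψX
    have hd : (X / A₀) ^ q = X / A₀ := by rw [div_pow, hX, hAfix]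
    refine ⟨hd, mul_right_cancel₀ hA0 ?_⟩
    have h := hψmul (X / A₀) A₀ hd hAfix
    rw [div_mul_cancel₀ X hA0, hψX, hψA, hψf] at h
    rw [div_mul_cancel₀ X hA0]
    exact mul_left_cancel₀ hc0 (by linear_combination -h)
  obtain ⟨β, hβ⟩ : ∃ β, β = B₀ / A₀ := ⟨_, rfl⟩
  obtain ⟨γ, hγ⟩ : ∃ γ, γ = C₀ / A₀ := ⟨_, rfl⟩
  have hβK : β ∈ K := hβ ▸ hratio B₀ (hB₀ ▸ hPfix a b) (by rw [hB₀, hψP, haW', hbW'])
  have hγK : γ ∈ K := hγ ▸ hratio C₀ (hC₀ ▸ hNfix b) (by rw [hC₀, hN, hbW'])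
  have hβ0 : β ≠ 0 := by
    rw [hβ]
    refine div_ne_zero (fun e => ?_) hA0
    rw [hB₀, P] at e
    refine hbind (b / a) ?_ (by field_simp)
    rw [div_pow, div_eq_div_iff (pow_ne_zero _ ha) ha]
    linear_combination e - a ^ q * b * t2
  -- the quadratic `t ^ 2 + β t` reaches `γ`
  obtain ⟨⟨t₁, ht₁⟩, ht₁β⟩ : ∃ t : E, δ t = ⟨β, hβK⟩ := by
    have : (⟨β, hβK⟩ : K) ∈ δ.range := hδ ▸ AddSubgroup.mem_top _
    exact this
  have ht₁' : f t₁ = t₁ + β := by
    have h : t₁ + f t₁ = β := congrArg Subtype.val ht₁β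
    linear_combination h - t₁ * t2
  let Q : F → F := fun t => t * t + β * t
  have hQadd : ∀ s t, Q (s + t) = Q s + Q t := fun s t => by
    show (s + t) * (s + t) + β * (s + t) = s * s + β * s + (t * t + β * t)
    linear_combination s * t * t2
  have hQker : ∀ t, Q t = 0 → t = 0 ∨ t = β := fun t h => by
    have h' : t * (t + β) = 0 := by
      have : t * t + β * t = 0 := h
      linear_combination this
    rcases mul_eq_zero.1 h' with e | e
    · exact Or.inl e
    · exact Or.inr (by linear_combination e - β * t2)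
  have hQt₁ : Q t₁ ∈ K := by
    refine ⟨E.add_mem ?_ ?_, ?_⟩
    · show (t₁ * t₁) ^ q = t₁ * t₁
      rw [mul_pow, show t₁ ^ q = t₁ from ht₁]
    · show (β * t₁) ^ q = β * t₁
      rw [mul_pow, show t₁ ^ q = t₁ from ht₁, hβK.1]
    · have h1 : (t₁ * t₁) ^ q = t₁ * t₁ := by rw [mul_pow, show t₁ ^ q = t₁ from ht₁]
      have h2 : (β * t₁) ^ q = β * t₁ := by rw [mul_pow, show t₁ ^ q = t₁ from ht₁, hβK.1]
      show f (t₁ * t₁ + β * t₁) = t₁ * t₁ + β * t₁
      rw [hfadd _ _ h1 h2, hfmul _ _ ht₁ ht₁, hfmul _ _ hβK.1 ht₁, hβK.2, ht₁']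
      linear_combination (β * t₁ + β * β) * t2
  let QK : K →+ K := AddMonoidHom.mk'
    (fun t => ⟨Q t, K.add_mem (hKmul _ _ t.2 t.2) (hKmul _ _ hβK t.2)⟩)
    fun s t => Subtype.ext (hQadd s t)
  have hidx : QK.range.index = 2 := by
    have hker : Nat.card QK.ker = 2 := by
      rw [Nat.card_eq_two_iff]
      refine ⟨⟨⟨0, K.zero_mem⟩, ?_⟩, ⟨⟨β, hβK⟩, ?_⟩, ?_, ?_⟩
      · exact AddMonoidHom.mem_ker.2 (map_zero QK)
      · refine AddMonoidHom.mem_ker.2 (Subtype.ext ?_)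
        show β * β + β * β = 0
        linear_combination β * β * t2
      · exact fun e => hβ0 (congrArg (fun z : QK.ker => ((z : K) : F)) e).symm
      · refine Set.eq_univ_of_forall fun z => ?_
        have hz' : Q ((z : K) : F) = 0 := congrArg Subtype.val z.2
        rcases hQker _ hz' with e | e
        · exact Or.inl (Subtype.ext (Subtype.ext e))
        · exact Or.inr (Subtype.ext (Subtype.ext e))
    have h1 := QK.ker.card_mul_index
    rw [AddSubgroup.index_ker, hker] at h1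
    have h2 := QK.range.card_mul_index
    rw [← h1, mul_comm 2] at h2
    exact Nat.eq_of_mul_eq_mul_left Nat.card_pos h2
  obtain ⟨t, ht, htγ⟩ : ∃ t : F, t ^ q = t ∧ Q t = γ := by
    by_cases hγQ : (⟨γ, hγK⟩ : K) ∈ QK.range
    · obtain ⟨k, hk⟩ := hγQ
      exact ⟨k, k.2.1, congrArg Subtype.val hk⟩
    have hout : (⟨Q t₁, hQt₁⟩ : K) ∉ QK.range := by
      rintro ⟨k, hk⟩
      have hk' : Q k = Q t₁ := congrArg Subtype.val hk
      have h0 : Q (t₁ + k) = 0 := by rw [hQadd, hk']; linear_combination Q t₁ * t2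
      have hmem : t₁ ∈ K := by
        rcases hQker _ h0 with e | e
        · rw [show t₁ = (k : F) by linear_combination e - (k : F) * t2]; exact k.2
        · rw [show t₁ = β + (k : F) by linear_combination e - (k : F) * t2]
          exact K.add_mem hβK k.2
      exact hβ0 (by linear_combination hmem.2 - ht₁')
    obtain ⟨k, hk⟩ := (AddSubgroup.add_mem_iff_of_index_two hidx
      (a := ⟨γ, hγK⟩) (b := ⟨Q t₁, hQt₁⟩)).2 (iff_of_false hγQ hout)
    refine ⟨t₁ + k, E.add_mem ht₁ k.2.1, ?_⟩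
    have hk' : Q k = γ + Q t₁ := congrArg Subtype.val hk
    rw [hQadd, hk']
    linear_combination Q t₁ * t2
  -- contradiction with anisotropy
  have h0 : (a * t + b) ^ (q + 1) = 0 := by
    rw [norm_add hn hF, ← hq, mul_pow, show t ^ (q + 1) = t * t by rw [pow_succ, ht], ← hA₀, ← hC₀,
      show P q (a * t) b = t * B₀ by rw [hB₀, P, P, mul_pow, ht]; ring]
    have e1 : B₀ = β * A₀ := by rw [hβ, div_mul_cancel₀ _ hA0]
    have e2 : C₀ = γ * A₀ := by rw [hγ, div_mul_cancel₀ _ hA0]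
    rw [e1, e2, ← htγ]
    show A₀ * (t * t) + (t * t + β * t) * A₀ + t * (β * A₀) = 0
    linear_combination A₀ * (t * t + β * t) * t2
  have h1 := eq_zero_of_pow_eq_zero h0
  exact hbind t ht (by linear_combination h1 - a * t * t2)

/-- an automorphism whose square is trivial on the two layers fixes the centre -/
theorem center_fixed (hn : 1 ≤ n) (hF : Fintype.card F = (2 ^ n) ^ 2) (c : Coords F (2 ^ n) T)
    (φ : MulAut T) (h2 : ∀ g, c.A (φ (φ g)) = c.A g) (hz : ∀ z, c.A z = 0 → φ (φ z) = z)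
    (z : T) (hzA : c.A z = 0) : φ z = z := by
  classical
  have hkeep : ∀ g, c.A g = 0 → c.A (φ g) = 0 := fun g h => by
    rw [c.A_eq_zero_iff hn hF, ← map_mul, (c.A_eq_zero_iff hn hF g).1 h, map_one]
  have hwell : ∀ g h, c.A g = c.A h → c.A (φ g) = c.A (φ h) := by
    intro g h e
    have h0 : c.A (g * h⁻¹) = 0 := by rw [c.A_mul, c.A_inv hn hF, e, add_self hn hF]
    have h1 := hkeep _ h0
    rw [map_mul, map_inv, c.A_mul, c.A_inv hn hF] at h1
    linear_combination h1 - c.A (φ h) * two_eq_zero hn hF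
  have hsec' : ∀ a, ∃ g, c.A g = a := fun a => by
    obtain ⟨b, hb⟩ := exists_point hn hF a
    obtain ⟨g, hg, -⟩ := c.exists_mk a b hb
    exact ⟨g, hg⟩
  choose lift hlift using hsec'
  obtain ⟨Φ, hΦ⟩ : ∃ Φ : F → F, ∀ a, Φ a = c.A (φ (lift a)) := ⟨_, fun _ => rfl⟩
  have hΦA : ∀ g, Φ (c.A g) = c.A (φ g) := fun g => by rw [hΦ]; exact hwell _ _ (hlift _)
  have hzero : ∀ x : F, ∃ g : T, x ^ (2 ^ n) = x → c.A g = 0 ∧ c.B g = x := fun x => by
    by_cases hx : x ^ (2 ^ n) = x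
    · obtain ⟨g, hg⟩ := c.exists_zero hn hF hx
      exact ⟨g, fun _ => hg⟩
    · exact ⟨1, fun h => absurd h hx⟩
  choose zel hzel using hzero
  have hzuniq : ∀ g, c.A g = 0 → zel (c.B g) = g := fun g hg => by
    obtain ⟨h1, h2⟩ := hzel _ (c.B_fixed hn hF hg)
    exact c.inj _ _ (h1.trans hg.symm) h2
  obtain ⟨ψ, hψ⟩ : ∃ ψ : F → F, ∀ x, ψ x = c.B (φ (zel x)) := ⟨_, fun _ => rfl⟩
  have hψB : ∀ g, c.A g = 0 → ψ (c.B g) = c.B (φ g) := fun g hg => by rw [hψ, hzuniq g hg]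
  have key := psi_trivial hn hF Φ ψ
    (fun a b => by
      rw [← hlift a, ← hlift b, ← c.A_mul, hΦA, hΦA, hΦA, map_mul, c.A_mul])
    (fun a => by rw [← hlift a, hΦA, hΦA, h2])
    (fun x y hx hy => by
      obtain ⟨gx, hgx, rfl⟩ := c.exists_zero hn hF hx
      obtain ⟨gy, hgy, rfl⟩ := c.exists_zero hn hF hy
      have hm : c.B (gx * gy) = c.B gx + c.B gy := by rw [c.B_mul, hgx, zero_mul, add_zero]
      rw [← hm, hψB _ hgx, hψB _ hgy, hψB _ (by rw [c.A_mul, hgx, hgy, add_zero]), map_mul, c.B_mul,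
        hkeep gx hgx, zero_mul, add_zero])
    (fun x hx => by
      obtain ⟨gx, hgx, rfl⟩ := c.exists_zero hn hF hx
      rw [hψB _ hgx, hψB _ (hkeep _ hgx), hz _ hgx])
    (fun x hx => by
      obtain ⟨gx, hgx, rfl⟩ := c.exists_zero hn hF hx
      rw [hψB _ hgx]
      exact c.B_fixed hn hF (hkeep _ hgx))
    (fun a => by
      rw [← hlift a, ← c.B_sq hn hF, hψB _ (c.A_sq hn hF _), map_mul, c.B_sq hn hF, hΦA])
  refine c.inj _ _ ((hkeep z hzA).trans hzA.symm) ?_
  rw [← hψB z hzA]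
  exact key _ (c.B_fixed hn hF hzA)

theorem main {R : Type*} [Group R] [Finite R]
    (n : ℕ) (hn : 2 ≤ n) (hF : Fintype.card F = 4 ^ n)
    (P : Sylow 2 ↥(Cfsg.SU 3 F (2 ^ n))) (S' : Subgroup R)
    (hS : Nonempty (↥S' ≃* ↥(P : Subgroup ↥(Cfsg.SU 3 F (2 ^ n)))))
    (hidx : S'.index = 2) :
    (Subgroup.center ↥S').map S'.subtype ≤ Subgroup.center R := by
  obtain ⟨e⟩ := hS
  have hn1 : 1 ≤ n := by omega
  have hF' : Fintype.card F = (2 ^ n) ^ 2 := by
    rw [hF, ← pow_mul, mul_comm, pow_mul]; norm_num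
  obtain ⟨c₀⟩ := nonempty_coords hn1 hF' P
  let c := c₀.comp e
  haveI : S'.Normal := Subgroup.normal_of_index_eq_two hidx
  rintro _ ⟨z, hz, rfl⟩
  refine Subgroup.mem_center_iff.2 fun r => ?_
  show r * (z : R) = z * r
  by_cases hr : r ∈ S'
  · exact congrArg Subtype.val (Subgroup.mem_center_iff.1 hz ⟨r, hr⟩)
  obtain ⟨φ, hφ⟩ : ∃ φ : MulAut S', φ = MulAut.conjNormal r := ⟨_, rfl⟩
  have hsq : r * r ∈ S' := Subgroup.mul_self_mem_of_index_two hidx r
  have hφφ : ∀ g : S', φ (φ g) = (⟨r * r, hsq⟩ : S') * g * (⟨r * r, hsq⟩ : S')⁻¹ := fun g =>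
    Subtype.ext (by
      rw [hφ, MulAut.conjNormal_apply, MulAut.conjNormal_apply, Subgroup.coe_mul, Subgroup.coe_mul,
        Subgroup.coe_inv]
      group)
  have hzA : c.A z = 0 := (c.mem_center_iff hn1 hF' z).1 hz
  have hfix := center_fixed hn1 hF' c φ (fun g => by
      rw [hφφ, c.A_mul, c.A_mul, c.A_inv hn1 hF', add_comm (c.A _) (c.A g), add_assoc,
        add_self hn1 hF', add_zero])
    (fun w hw => by
      have hwz := (c.mem_center_iff hn1 hF' w).2 hw
      rw [hφφ, Subgroup.mem_center_iff.1 hwz, mul_inv_cancel_right]) z hzA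
  have h := congrArg Subtype.val hfix
  rw [hφ, MulAut.conjNormal_apply, mul_inv_eq_iff_eq_mul] at h
  exact h

/-- Let S be a Sylow 2-subgroup of SU₃(2ⁿ), n ≥ 2 (realised over the field with 4ⁿ elements). If a finite 2-group R contains a subgroup S' of index 2 isomorphic to S, then the centre of S' is contained in the centre of R. -/
theorem result {R : Type*} [Group R] [Finite R]
    (hR : IsPGroup 2 R) (n : ℕ) (hn : 2 ≤ n) {F : Type*} [Field F] [Fintype F] (hF : Fintype.card F = 4 ^ n)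
    (P : Sylow 2 ↥(Cfsg.SU 3 F (2 ^ n))) (S' : Subgroup R) (hS : Nonempty (↥S' ≃* ↥(P : Subgroup ↥(Cfsg.SU 3 F (2 ^ n)))))
    (hidx : S'.index = 2) :
    (Subgroup.center ↥S').map S'.subtype ≤ Subgroup.center R := by
  exact main n hn hF P S' hS hidx

end Cfsg.Agent.S3315
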