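import Cfsg.Statements.S3338
import Cfsg.Agent.Lib.UnitarySixModule.Main

set_option autoImplicit false
open Cfsg

namespace Cfsg.Agent.S3338

/-- Let X be a finite group with O_{2'}(X) = 1, and let A ≤ X be a subgroup of order 2^20 whose normalizer H = N_X(A) is a product H = AK with A ∩ K = 1, where K is isomorphic either to the unitary group U₆(2) or to a group having a normal subgroup of index 2 isomorphic to U₆(2) with trivial centralizer; suppose A is a minimal normal subgroup of H. Then H is not strongly 3-embedded in X: either H = X, or some conjugate of H by an element outside H meets H in a subgroup of order divisible by 3. -/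
theorem result {X : Type*} [Group X] [Finite X]
    (hO : Cfsg.oddCore X = ⊥) (A : Subgroup X) (hA : Nat.card A = 2 ^ 20)
    (H : Subgroup X) (hH : H = Subgroup.normalizer (A : Set X))
    (K : Subgroup X) (hKH : K ≤ H) (hAK : A ⊓ K = ⊥) (hHAK : A ⊔ K = H)
    (F : Type*) [Field F] [Fintype F] (hF : Fintype.card F = 4)
    (hK : Nonempty (K ≃* Cfsg.PSU 6 F 2) ∨
      ∃ K₀ : Subgroup K, K₀.Normal ∧ K₀.index = 2 ∧ Nonempty (K₀ ≃* Cfsg.PSU 6 F 2) ∧
        Subgroup.centralizer (K₀ : Set K) = ⊥)
    (hmin : ∀ B : Subgroup X, B ≤ A → (∀ h ∈ H, ∀ b ∈ B, h * b * h⁻¹ ∈ B) → B = ⊥ ∨ B = A) :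
    H = ⊤ ∨ ∃ g : X, g ∉ H ∧ 3 ∣ Nat.card ↥(H ⊓ H.map (MulAut.conj g).toMonoidHom) := by
  exact Cfsg.Lib.UnitarySixModule.eq_top_or_exists hA hH hAK hHAK hF hK hmin

end Cfsg.Agent.S3338
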