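import Cfsg.Statements.S3342
import Cfsg.Agent.Lib.PSpThree.Dispatch
import Cfsg.Agent.Lib.PSpThree.CaseN
import Cfsg.Agent.Lib.PSpThree.SixFinal

set_option autoImplicit false
open Cfsg

namespace Cfsg.Agent.S3342

theorem map_mem {R S : Type*} [CommRing R] [CommRing S] (g : R →+* S) {n : ℕ}
    (A : Matrix.symplecticGroup (Fin n) R) : A.1.map g ∈ Matrix.symplecticGroup (Fin n) S := by
  rw [SymplecticGroup.mem_iff]
  have hJ : (Matrix.J (Fin n) R).map g = Matrix.J (Fin n) S := by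
    ext i j
    rcases i with i | i <;> rcases j with j | j <;> by_cases h : i = j <;>
      simp [Matrix.J, Matrix.fromBlocks, h]
  have h := congrArg (fun M : Matrix (Fin n ⊕ Fin n) (Fin n ⊕ Fin n) R => M.map g) (SymplecticGroup.mem_iff.1 A.2)
  simp only [Matrix.map_mul, ← Matrix.transpose_map, hJ] at h
  exact h

/-- An isomorphism of rings gives one of symplectic groups. -/
noncomputable def sympCongr {R S : Type*} [CommRing R] [CommRing S] (f : R ≃+* S) (n : ℕ) :
    Matrix.symplecticGroup (Fin n) R ≃* Matrix.symplecticGroup (Fin n) S :=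
  { toFun := fun A => ⟨A.1.map f, map_mem f.toRingHom A⟩
    invFun := fun A => ⟨A.1.map f.symm, map_mem f.symm.toRingHom A⟩
    left_inv := fun A => Subtype.ext (Matrix.ext fun i j => f.symm_apply_apply _)
    right_inv := fun A => Subtype.ext (Matrix.ext fun i j => f.apply_symm_apply _)
    map_mul' := fun A B => Subtype.ext (by
      show (A.1 * B.1).map f = A.1.map f * B.1.map f
      exact Matrix.map_mul) }

/-- The hypotheses as data. -/
theorem exists_data {G : Type*} [Group G] [Finite G] (a : G) (ha : orderOf a = 3)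
    (hR : Cfsg.IsExtraspecial 3 (Cfsg.pCore 3 (Subgroup.centralizer ({a} : Set G))))
    (hRcard : Nat.card (Cfsg.pCore 3 (Subgroup.centralizer ({a} : Set G))) = 27)
    (hRexp : ∀ r ∈ Cfsg.pCore 3 (Subgroup.centralizer ({a} : Set G)), r ^ 3 = 1)
    (e : (Subgroup.centralizer ({a} : Set G)) ⧸ Cfsg.pCore 3 (Subgroup.centralizer ({a} : Set G)) ≃*
      Matrix.SpecialLinearGroup (Fin 2) (ZMod 3))
    (J : Subgroup G) (hJC : J ≤ Subgroup.centralizer ({a} : Set G)) (hJcomm : IsMulCommutative J)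
    (hJexp : ∀ j ∈ J, j ^ 3 = 1) (hJcard : Nat.card J = 27)
    (hJsig : ∀ K : Subgroup G, (Nat.card K).Coprime 3 → (∀ j ∈ J, K.map (MulAut.conj j).toMonoidHom = K) → K = ⊥) :
    ∃ D : Cfsg.Lib.PSpThree.Data G, D.a = a := by
  classical
  have : Fact (Nat.Prime 3) := ⟨Nat.prime_three⟩
  set C := Subgroup.centralizer ({a} : Set G)
  set P := Cfsg.pCore 3 C
  have haC : a ∈ C := Subgroup.mem_centralizer_singleton_iff.2 rfl
  set aC : C := ⟨a, haC⟩
  have hcen : ∀ x : C, aC * x = x * aC := fun x => Subtype.ext (Subgroup.mem_centralizer_singleton_iff.1 x.2).symm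
  have hord : orderOf aC = 3 := by rw [← ha, ← Subgroup.orderOf_coe]
  have haP : aC ∈ P := by
    have : (Subgroup.zpowers aC).Normal := ⟨fun n hn g => by
      obtain ⟨k, rfl⟩ := Subgroup.mem_zpowers_iff.1 hn
      rw [((show Commute g aC from (hcen g).symm).zpow_right k).eq, mul_inv_cancel_right]
      exact hn⟩
    exact Cfsg.Lib.Core.le_pCore (IsPGroup.of_card (n := 1) (by rw [Nat.card_zpowers, hord, pow_one]))
      (Subgroup.mem_zpowers aC)
  set z : P := ⟨aC, haP⟩
  have hz : z ∈ Subgroup.center P := Subgroup.mem_center_iff.2 fun y => Subtype.ext (hcen y.1).symm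
  have hcz : Subgroup.center P = Subgroup.zpowers z :=
    (Subgroup.eq_of_le_of_card_ge (Subgroup.zpowers_le.2 hz) (by
      rw [Nat.card_zpowers, hR.2, ← Subgroup.orderOf_coe, hord])).symm
  have hzmem : ∀ y : P, y ∈ Subgroup.center P → ((y : C) : G) ∈ Subgroup.zpowers a := fun y hy => by
    obtain ⟨k, rfl⟩ := Subgroup.mem_zpowers_iff.1 (hcz ▸ hy)
    exact ⟨k, by simp [z, aC]⟩
  refine ⟨{
    a := a
    ha := ha
    R := P.map C.subtype
    R_le := Subgroup.map_subtype_le P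
    R_card := ?_
    R_exp := ?_
    a_mem := ⟨aC, haP, rfl⟩
    R_center := ?_
    R_comm := ?_
    R_nab := ?_
    π := e.toMonoidHom.comp (QuotientGroup.mk' P)
    surj := e.surjective.comp (QuotientGroup.mk'_surjective P)
    ker := ?_
    J := J
    J_le := hJC
    J_comm := fun x hx y hy => congrArg Subtype.val (hJcomm.is_comm.comm ⟨x, hx⟩ ⟨y, hy⟩)
    J_exp := hJexp
    J_card := hJcard
    sig := hJsig }, rfl⟩
  · rw [Subgroup.card_map_of_injective C.subtype_injective, hRcard]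
  · rintro _ ⟨r, hr, rfl⟩
    rw [← map_pow, hRexp r hr, map_one]
  · rintro _ ⟨r, hr, rfl⟩ h
    exact hzmem ⟨r, hr⟩ (Subgroup.mem_center_iff.2 fun y =>
      Subtype.ext (Subtype.ext (h _ ⟨y.1, y.2, rfl⟩).symm))
  · rintro _ ⟨r, hr, rfl⟩ _ ⟨s, hs, rfl⟩
    have hm : (⟨r, hr⟩ : P) * ⟨s, hs⟩ * (⟨r, hr⟩ : P)⁻¹ * (⟨s, hs⟩ : P)⁻¹ ∈ Subgroup.center P := by
      rw [← hR.1.2.2, commutator_def]
      exact Subgroup.commutator_mem_commutator (Subgroup.mem_top _) (Subgroup.mem_top _)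
    simpa using hzmem _ hm
  · by_contra hne
    push Not at hne
    have htop : Subgroup.center P = ⊤ := eq_top_iff.2 fun x _ => Subgroup.mem_center_iff.2 fun y =>
      Subtype.ext (Subtype.ext (hne _ ⟨y.1, y.2, rfl⟩ _ ⟨x.1, x.2, rfl⟩))
    have h := hR.2
    rw [htop, Subgroup.card_top, hRcard] at h
    omega
  · intro c
    show e (QuotientGroup.mk' P c) = 1 ↔ (c : G) ∈ P.map C.subtype
    rw [MulEquiv.map_eq_one_iff, QuotientGroup.mk'_apply, QuotientGroup.eq_one_iff]
    exact ⟨fun h => ⟨c, h, rfl⟩, fun ⟨x, hx, hxc⟩ => Subtype.ext hxc ▸ hx⟩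

/-- Let G be a finite group and a ∈ G an element of order 3 whose centralizer C has O₃(C) extraspecial of order 27 and exponent 3 with C/O₃(C) isomorphic to SL(2,3), and suppose some elementary abelian J ≤ C of order 27 normalizes no non-trivial subgroup of G of order prime to 3. If a is not conjugate to its inverse, then G has a normal subgroup of index 3 or G is isomorphic to PSp(4,3). If a is conjugate to its inverse, then ⟨a⟩ is normal in G, or G is isomorphic to the full automorphism group of PSp(4,3), or G is isomorphic to Sp(6,2). -/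
theorem result {G : Type*} [Group G] [Finite G]
    (a : G) (ha : orderOf a = 3) (C : Subgroup G) (hC : C = Subgroup.centralizer ({a} : Set G))
    (hR : Cfsg.IsExtraspecial 3 (Cfsg.pCore 3 C)) (hRcard : Nat.card (Cfsg.pCore 3 C) = 27)
    (hRexp : ∀ r ∈ Cfsg.pCore 3 C, r ^ 3 = 1)
    (e : C ⧸ Cfsg.pCore 3 C ≃* Matrix.SpecialLinearGroup (Fin 2) (ZMod 3))
    (J : Subgroup G) (hJC : J ≤ C) (hJcomm : IsMulCommutative J) (hJexp : ∀ j ∈ J, j ^ 3 = 1) (hJcard : Nat.card J = 27)
    (hJsig : ∀ K : Subgroup G, (Nat.card K).Coprime 3 → (∀ j ∈ J, K.map (MulAut.conj j).toMonoidHom = K) → K = ⊥)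
    (F : Type*) [Field F] [Fintype F] (hF : Fintype.card F = 3)
    (F₂ : Type*) [Field F₂] [Fintype F₂] (hF₂ : Fintype.card F₂ = 2) :
    ((∀ g : G, g * a * g⁻¹ ≠ a⁻¹) →
      (∃ N : Subgroup G, N.Normal ∧ N.index = 3) ∨ Nonempty (G ≃* Cfsg.PSp 2 F)) ∧
    ((∃ g : G, g * a * g⁻¹ = a⁻¹) →
      Subgroup.normalizer (Subgroup.zpowers a : Set G) = ⊤ ∨ Nonempty (G ≃* MulAut (Cfsg.PSp 2 F)) ∨
        Nonempty (G ≃* Matrix.symplecticGroup (Fin 3) F₂)) := by
  classical
  subst hC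
  obtain ⟨D, rfl⟩ := exists_data a ha hR hRcard hRexp e J hJC hJcomm hJexp hJcard hJsig
  refine ⟨fun hinv => Cfsg.Lib.PSpThree.Setting.not_inverted D hinv F hF, fun hinv => ?_⟩
  rcases Cfsg.Lib.PSpThree.Setting.inverted D hinv with h | ⟨S, rfl, ⟨Df⟩⟩
  · exact Or.inl h
  refine Or.inr ?_
  by_cases hsmall : ∀ g, g * S.F.v 1 = S.F.v 1 * g → g ∈ Subgroup.normalizer (S.F.J : Set G)
  · exact Or.inl (S.aut_of_small Df hsmall F hF)
  obtain ⟨K⟩ := Cfsg.Lib.PSpThree.Frame.Full.exists_six (D := Df) hsmall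
  obtain ⟨φ⟩ := Cfsg.Lib.PSpThree.SData.nonempty_equiv ⟨S, Df, K⟩
  exact Or.inr ⟨φ.trans (sympCongr (ZMod.ringEquivOfPrime F₂ Nat.prime_two hF₂) 3)⟩

end Cfsg.Agent.S3342
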