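import Cfsg.Statements.S3349
import Mathlib

set_option autoImplicit false
open Cfsg

namespace Cfsg.Agent.S3349

/-- Let Q be a finite extraspecial p-group and α an automorphism of Q fixing every element of some maximal abelian subgroup of Q. Then the order of α is a power of p. -/
theorem result {Q : Type*} [Group Q] [Finite Q]
    (p : ℕ) [Fact p.Prime] (hQ : Cfsg.IsExtraspecial p Q) (α : MulAut Q)
    (A : Subgroup Q) (hA : IsMulCommutative A) (hmax : ∀ B : Subgroup Q, A ≤ B → IsMulCommutative B → B = A)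
    (hfix : ∀ a ∈ A, α a = a) :
    ∃ k : ℕ, orderOf α = p ^ k := by
  classical
  obtain ⟨⟨hQp, -, hcomm⟩, -⟩ := hQ
  have hZA : Subgroup.center Q ≤ A := by
    have h1 := hmax (A ⊔ Subgroup.center Q) le_sup_left ?_
    · exact h1 ▸ le_sup_right
    · refine ⟨⟨fun x y => Subtype.ext ?_⟩⟩
      obtain ⟨a, ha, z, hz, hx⟩ := Subgroup.mem_sup_of_normal_right.1 x.2
      obtain ⟨b, hb, w, hw, hy⟩ := Subgroup.mem_sup_of_normal_right.1 y.2
      show (x : Q) * y = y * x
      rw [← hx, ← hy]
      have hab : a * b = b * a := congrArg Subtype.val (hA.is_comm.comm ⟨a, ha⟩ ⟨b, hb⟩)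
      have cz := Subgroup.mem_center_iff.1 hz
      have cw := Subgroup.mem_center_iff.1 hw
      calc a * z * (b * w) = a * (z * b) * w := by group
        _ = (a * b) * (z * w) := by rw [← cz b]; group
        _ = (b * a) * (w * z) := by rw [hab, cw z]
        _ = b * (w * a) * z := by rw [← cw a]; group
        _ = b * w * (a * z) := by group
  haveI hAn : A.Normal := Subgroup.Normal.of_commutator_le _ (hcomm.le.trans hZA)
  have hC : ∀ c : Q, (∀ a ∈ A, c * a = a * c) → c ∈ A := by
    intro c hc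
    have h1 := hmax (Subgroup.closure (insert c (A : Set Q))) (fun a ha => Subgroup.subset_closure (Or.inr ha)) ?_
    · rw [← h1]; exact Subgroup.subset_closure (Set.mem_insert _ _)
    · refine Subgroup.isMulCommutative_closure ?_
      rintro x (rfl | hx) y (rfl | hy)
      · rfl
      · exact hc y hy
      · exact (hc x hx).symm
      · exact congrArg Subtype.val (hA.is_comm.comm ⟨x, hx⟩ ⟨y, hy⟩)
  have hstep : ∀ x : Q, x⁻¹ * α x ∈ A := by
    intro x
    refine hC _ fun a ha => ?_
    have h1 := hfix _ (hAn.conj_mem a ha x)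
    rw [map_mul, map_mul, map_inv, hfix a ha] at h1
    calc x⁻¹ * α x * a = x⁻¹ * (α x * a * (α x)⁻¹) * α x := by group
      _ = a * (x⁻¹ * α x) := by rw [h1]; group
  have hiter : ∀ (n : ℕ) (x : Q), (α ^ n) x = x * (x⁻¹ * α x) ^ n := by
    intro n x
    induction n with
    | zero => simp
    | succ n ih =>
      rw [pow_succ', MulAut.mul_apply, ih, map_mul, map_pow, hfix _ (hstep x), pow_succ', ← mul_assoc x, mul_inv_cancel_left]
  obtain ⟨e, he⟩ := IsPGroup.iff_card.1 hQp
  have h1 : α ^ (p ^ e) = 1 := by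
    ext x
    rw [hiter, ← he, pow_card_eq_one', mul_one, MulAut.one_apply]
  obtain ⟨i, -, hi⟩ := (Nat.dvd_prime_pow (Fact.out : p.Prime)).1 (orderOf_dvd_of_pow_eq_one h1)
  exact ⟨i, hi⟩

end Cfsg.Agent.S3349
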