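import Cfsg.Statements.S3356
import Mathlib.GroupTheory.GroupAction.Quotient
import Mathlib.GroupTheory.GroupAction.SubMulAction

set_option autoImplicit false
open Cfsg

namespace Cfsg.Agent.S3356

open MulAction

/-- All orbits of `J` on an invariant set having equal size, that size divides the size of the set. -/
theorem dvd_card_of_orbits {G Ω : Type*} [Group G] [MulAction G Ω] [Finite Ω]
    (J : Subgroup G) (B : Set Ω) (hB : ∀ j ∈ J, ∀ b ∈ B, j • b ∈ B) (e : ℕ)
    (he : ∀ b ∈ B, Nat.card (orbit J b) = e) : e ∣ Nat.card B := by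
  classical
  let S : SubMulAction J Ω := ⟨B, fun j b hb => hB j j.2 b hb⟩
  have hcard := Nat.card_congr (selfEquivSigmaOrbits J S)
  haveI : Finite S := Subtype.finite
  haveI := Fintype.ofFinite (orbitRel.Quotient J S)
  rw [Nat.card_sigma] at hcard
  have hBS : Nat.card B = Nat.card S := rfl
  rw [hBS, hcard]
  refine Finset.dvd_sum fun ω _ => ?_
  have : Nat.card (orbit J (Quotient.out ω : S)) = e := by
    rw [← he _ (Quotient.out ω : S).2]
    have him : orbit J ((Quotient.out ω : S) : Ω) = Subtype.val '' orbit J (Quotient.out ω : S) := by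
      ext x
      constructor
      · rintro ⟨j, rfl⟩; exact ⟨j • (Quotient.out ω : S), ⟨j, rfl⟩, rfl⟩
      · rintro ⟨y, ⟨j, rfl⟩, rfl⟩; exact ⟨j, rfl⟩
    rw [him, Nat.card_image_of_injective Subtype.val_injective]
  exact dvd_of_eq this.symm

theorem result {G Ω : Type*} [Group G] [Finite G]
    [MulAction G Ω] [FaithfulSMul G Ω] [Finite Ω] (htrans : MulAction.IsPretransitive G Ω)
    (hne : ∀ a : Ω, MulAction.stabilizer G a ≠ ⊥)
    (hhalf : ∀ a b c : Ω, b ≠ a → c ≠ a →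
      Nat.card (MulAction.orbit (MulAction.stabilizer G a) b) = Nat.card (MulAction.orbit (MulAction.stabilizer G a) c))
    (N : Subgroup G) [hN : N.Normal] (hNt : MulAction.IsPretransitive N Ω) (hNr : ∀ a : Ω, MulAction.stabilizer N a = ⊥)
    (hnotF : ∃ a b : Ω, a ≠ b ∧ MulAction.stabilizer G a ⊓ MulAction.stabilizer G b ≠ ⊥) :
    (∃ p : ℕ, p.Prime ∧ IsMulCommutative N ∧ ∀ x ∈ N, x ^ p = 1) ∧
    (∀ M : Subgroup G, M.Normal → M ≠ ⊥ → N ≤ M) := by
  classical
  have _ := hne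
  have _ := htrans
  obtain ⟨a, b₀, hab, hb₀⟩ := hnotF
  set H := stabilizer G a with hH
  -- regularity
  have hinj : ∀ n ∈ N, ∀ m ∈ N, n • a = m • a → n = m := by
    intro n hn m hm h
    have h1 : (⟨m⁻¹ * n, mul_mem (inv_mem hm) hn⟩ : N) ∈ stabilizer N a := by
      show (m⁻¹ * n) • a = a
      rw [mul_smul, h, inv_smul_smul]
    rw [hNr a, Subgroup.mem_bot] at h1
    exact (inv_mul_eq_one.1 (congrArg Subtype.val h1)).symm
  have hsurj : ∀ ω : Ω, ∃ n ∈ N, n • a = ω := fun ω => by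
    obtain ⟨n, hn⟩ := hNt.exists_smul_eq a ω
    exact ⟨n, n.2, hn⟩
  have hfix : ∀ h ∈ H, ∀ n ∈ N, (h • (n • a) = n • a ↔ h * n * h⁻¹ = n) := by
    intro h hh n hn
    have hh' : h⁻¹ • a = a := inv_smul_eq_iff.2 (mem_stabilizer_iff.1 hh).symm
    have key : h • (n • a) = (h * n * h⁻¹) • a := by rw [mul_smul, mul_smul, hh']
    rw [key]
    exact ⟨fun e => hinj _ (hN.conj_mem n hn h) _ hn e, fun e => by rw [e]⟩
  have hact : ∀ h ∈ H, ∀ n : G, h • (n • a) = (h * n * h⁻¹) • a := by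
    intro h hh n
    have hh' : h⁻¹ • a = a := inv_smul_eq_iff.2 (mem_stabilizer_iff.1 hh).symm
    rw [mul_smul, mul_smul, hh']
  have hb₀a : b₀ ≠ a := hab.symm
  set k := Nat.card (orbit H b₀) with hk
  set c := Nat.card ↥(H ⊓ stabilizer G b₀) with hc
  have hidx : ∀ (J : Subgroup G) (b : Ω),
      Nat.card (orbit J b) * Nat.card ↥(J ⊓ stabilizer G b) = Nat.card J := by
    intro J b
    rw [Nat.card_coe_set_eq, ← index_stabilizer J b]
    have e : Nat.card ↥(J ⊓ stabilizer G b) = Nat.card (stabilizer J b) := by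
      refine Nat.card_congr ?_
      exact { toFun := fun x => ⟨⟨x.1, x.2.1⟩, x.2.2⟩
              invFun := fun x => ⟨x.1.1, x.1.2, x.2⟩
              left_inv := fun x => rfl
              right_inv := fun x => rfl }
    rw [e, mul_comm, Subgroup.card_mul_index]
  have hcb : ∀ b, b ≠ a → Nat.card ↥(H ⊓ stabilizer G b) = c := by
    intro b hb
    have e1 := hidx H b
    have e2 := hidx H b₀
    rw [hhalf a b b₀ hb hb₀a, ← hk, ← e2, ← hc] at e1
    exact Nat.eq_of_mul_eq_mul_left (Nat.card_pos_iff.2 ⟨⟨⟨b₀, mem_orbit_self b₀⟩⟩, inferInstance⟩) e1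
  have hkdvd : k ∣ Nat.card ↥({a}ᶜ : Set Ω) := by
    refine dvd_card_of_orbits H _ (fun j hj b hb => ?_) k fun b hb => hhalf a b b₀ hb hb₀a
    intro h
    apply hb
    have h2 : j • b = j • a := (Set.mem_singleton_iff.1 h).trans (mem_stabilizer_iff.1 hj).symm
    exact smul_left_cancel j h2
  have hcardN : Nat.card N = Nat.card Ω := by
    refine Nat.card_congr (Equiv.ofBijective (fun n : N => (n : G) • a) ⟨?_, ?_⟩)
    · exact fun n m h => Subtype.ext (hinj _ n.2 _ m.2 h)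
    · intro ω
      obtain ⟨n, hn, h⟩ := hsurj ω
      exact ⟨⟨n, hn⟩, h⟩
  have hcop : Nat.Coprime k (Nat.card N) := by
    refine Nat.Coprime.coprime_dvd_left hkdvd ?_
    have : Nat.card ↥({a}ᶜ : Set Ω) + 1 = Nat.card Ω := by
      have := Set.ncard_add_ncard_compl ({a} : Set Ω)
      rw [Set.ncard_singleton] at this
      rw [Nat.card_coe_set_eq]
      omega
    rw [hcardN, ← this]
    simp
  -- the key lemma
  have hkey : ∀ (J : Subgroup G) (B : Set Ω), J ≤ H → (∀ b ∈ B, b ≠ a) →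
      (∀ j ∈ J, ∀ b ∈ B, j • b ∈ B) → (∀ b ∈ B, H ⊓ stabilizer G b ≤ J) →
      Nat.card B ∣ Nat.card N → ∀ j ∈ J, ∀ b ∈ B, j • b = b := by
    intro J B hJH hBa hinv hstab hdvd j hj b hb
    have hJb : ∀ b ∈ B, Nat.card ↥(J ⊓ stabilizer G b) = c := by
      intro b hb
      rw [← hcb b (hBa b hb)]
      congr 2
      exact le_antisymm (inf_le_inf_right _ hJH) (le_inf (hstab b hb) inf_le_right)
    have hcpos : 0 < c := by rw [hc]; exact Nat.card_pos
    have he : ∀ b' ∈ B, Nat.card (orbit J b') = Nat.card (orbit J b) := by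
      intro b' hb'
      have e1 := hidx J b'
      have e2 := hidx J b
      rw [hJb b' hb'] at e1
      rw [hJb b hb, ← e1] at e2
      exact (Nat.eq_of_mul_eq_mul_right hcpos e2).symm
    have h1 : Nat.card (orbit J b) ∣ Nat.card N :=
      (dvd_card_of_orbits J B hinv _ he).trans hdvd
    have h2 : Nat.card (orbit J b) ∣ k := by
      have e1 := hidx J b
      rw [hJb b hb] at e1
      have e2 := hidx H b₀
      rw [← hk, ← hc] at e2
      have e3 := Subgroup.card_dvd_of_le hJH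
      rw [← e1, ← e2] at e3
      exact Nat.dvd_of_mul_dvd_mul_right hcpos e3
    have h3 : Nat.card (orbit J b) = 1 := Nat.eq_one_of_dvd_coprimes hcop h2 h1
    haveI := (Nat.card_eq_one_iff_unique.1 h3).1
    exact congrArg Subtype.val
      (Subsingleton.elim (⟨j • b, ⟨⟨j, hj⟩, rfl⟩⟩ : orbit J b) ⟨b, mem_orbit_self b⟩)
  have hna : ∀ n ∈ N, n ≠ 1 → n • a ≠ a := by
    intro n hn hn1 h
    exact hn1 (hinj n hn 1 (one_mem N) (by rw [one_smul, h]))
  -- centralizer in H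
  let C : G → Subgroup G := fun x => H ⊓ Subgroup.centralizer {x}
  have hCmem : ∀ x h, h ∈ C x ↔ h ∈ H ∧ h * x * h⁻¹ = x := by
    intro x h
    refine and_congr Iff.rfl ?_
    show h ∈ Subgroup.centralizer {x} ↔ _
    rw [Subgroup.mem_centralizer_iff, mul_inv_eq_iff_eq_mul]
    simp only [Set.mem_singleton_iff, forall_eq]
    exact eq_comm
  have hCstab : ∀ x ∈ N, C x = H ⊓ stabilizer G (x • a) := by
    intro x hx
    ext h
    rw [hCmem]
    exact and_congr_right fun hh => (hfix h hh x hx).symm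
  have hCcard : ∀ x ∈ N, x ≠ 1 → Nat.card (C x) = c := fun x hx hx1 => by
    rw [hCstab x hx]; exact hcb _ (hna x hx hx1)
  have hCeq : ∀ x ∈ N, ∀ y ∈ N, x ≠ 1 → y ≠ 1 → C x ≤ C y → C x = C y := by
    intro x hx y hy hx1 hy1 h
    exact Subgroup.eq_of_le_of_card_ge h (by rw [hCcard x hx hx1, hCcard y hy hy1])
  -- fixed subgroups
  let F : G → Subgroup G := fun x => N ⊓ Subgroup.centralizer (C x : Set G)
  have hF : ∀ x ∈ N, ∀ y ∈ N, x ≠ 1 → y ≠ 1 → (y ∈ F x ↔ C x = C y) := by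
    intro x hx y hy hx1 hy1
    constructor
    · intro h
      refine hCeq x hx y hy hx1 hy1 fun h' hh' => ⟨hh'.1, ?_⟩
      show h' ∈ Subgroup.centralizer {y}
      rw [Subgroup.mem_centralizer_iff]
      simp only [Set.mem_singleton_iff, forall_eq]
      exact (h.2 h' hh').symm
    · intro h
      refine ⟨hy, fun h' hh' => ?_⟩
      rw [SetLike.mem_coe, h, hCmem] at hh'
      exact mul_inv_eq_iff_eq_mul.1 hh'.2
  -- classes stay in the fixed subgroup
  have hclass : ∀ x ∈ N, x ≠ 1 → ∀ g ∈ N, g * x * g⁻¹ ∈ F x := by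
    intro x hx hx1 g hg
    let J := H ⊓ (N ⊔ Subgroup.centralizer {x})
    let B : Set Ω := {w | ∃ g ∈ N, (g * x * g⁻¹) • a = w}
    have hB1 : ∀ b ∈ B, b ≠ a := by
      rintro b ⟨g, hg, rfl⟩
      exact hna _ (hN.conj_mem x hx g) fun h => hx1 (conj_eq_one_iff.1 h)
    have hB2 : ∀ j ∈ J, ∀ b ∈ B, j • b ∈ B := by
      rintro j ⟨hjH, hj⟩ b ⟨g, hg, rfl⟩
      replace hj : j ∈ N ⊔ Subgroup.centralizer {x} := hj
      rw [← SetLike.mem_coe, Subgroup.normal_mul] at hj
      obtain ⟨n, hn, z, hz, rfl⟩ := Set.mem_mul.1 hj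
      refine ⟨(n * z) * g * (n * z)⁻¹ * n, mul_mem (hN.conj_mem g hg _) hn, ?_⟩
      rw [hact _ hjH]
      have hzx : z * x * z⁻¹ = x := by
        rw [SetLike.mem_coe, Subgroup.mem_centralizer_iff] at hz
        rw [mul_inv_eq_iff_eq_mul, hz x rfl]
      congr 1
      conv_lhs => rw [← hzx]
      group
    have hB3 : ∀ b ∈ B, H ⊓ stabilizer G b ≤ J := by
      rintro b ⟨g, hg, rfl⟩ h ⟨hh, hhb⟩
      refine ⟨hh, ?_⟩
      have e := (hfix h hh _ (hN.conj_mem x hx g)).1 hhb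
      have hz : g⁻¹ * h * g ∈ Subgroup.centralizer {x} := by
        rw [Subgroup.mem_centralizer_iff]
        simp only [Set.mem_singleton_iff, forall_eq]
        have e' : g⁻¹ * (h * (g * x * g⁻¹) * h⁻¹) * g = g⁻¹ * (g * x * g⁻¹) * g := by rw [e]
        rw [show g⁻¹ * (g * x * g⁻¹) * g = x by group] at e'
        calc x * (g⁻¹ * h * g) = (g⁻¹ * (h * (g * x * g⁻¹) * h⁻¹) * g) * (g⁻¹ * h * g) := by
              rw [e']
          _ = g⁻¹ * h * g * x := by group
      have : h = g * (g⁻¹ * h * g) * g⁻¹ := by group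
      rw [this]
      exact mul_mem (mul_mem (Subgroup.mem_sup_left hg) (Subgroup.mem_sup_right hz))
        (Subgroup.mem_sup_left (inv_mem hg))
    have hB4 : Nat.card B ∣ Nat.card N := by
      letI : MulAction N G := MulAction.compHom G ((MulAut.conj : G →* MulAut G).comp N.subtype)
      have hBeq : B = (fun y => y • a) '' orbit N x := by
        ext w
        constructor
        · rintro ⟨g, hg, rfl⟩; exact ⟨g * x * g⁻¹, ⟨⟨g, hg⟩, rfl⟩, rfl⟩
        · rintro ⟨_, ⟨⟨g, hg⟩, rfl⟩, rfl⟩; exact ⟨g, hg, rfl⟩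
      have hinjon : Set.InjOn (fun y : G => y • a) (orbit N x) := by
        rintro _ ⟨⟨g, hg⟩, rfl⟩ _ ⟨⟨g', hg'⟩, rfl⟩ h
        exact hinj _ (hN.conj_mem x hx g) _ (hN.conj_mem x hx g') h
      rw [hBeq, Nat.card_image_of_injOn hinjon, Nat.card_coe_set_eq, ← index_stabilizer N x]
      exact Subgroup.index_dvd_card _
    have hfixall := hkey J B inf_le_left hB1 hB2 hB3 hB4
    refine ⟨hN.conj_mem x hx g, fun h hh => ?_⟩
    have hhJ : h ∈ J := ⟨hh.1, Subgroup.mem_sup_right hh.2⟩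
    exact mul_inv_eq_iff_eq_mul.1
      ((hfix h hh.1 _ (hN.conj_mem x hx g)).1 (hfixall h hhJ _ ⟨g, hg, rfl⟩))
  -- not all centralizers coincide
  have hnot : ∀ x ∈ N, x ≠ 1 → ∃ y ∈ N, y ≠ 1 ∧ C x ≠ C y := by
    intro x hx hx1
    by_contra hall
    push Not at hall
    apply hb₀
    obtain ⟨n, hn, hnb⟩ := hsurj b₀
    have hn1 : n ≠ 1 := fun h => hb₀a (by rw [← hnb, h, one_smul])
    rw [← hnb, ← hCstab n hn, Subgroup.eq_bot_iff_forall]
    intro h hh
    apply FaithfulSMul.eq_of_smul_eq_smul (α := Ω)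
    intro w
    rw [one_smul]
    obtain ⟨m, hm, rfl⟩ := hsurj w
    by_cases hm1 : m = 1
    · rw [hm1, one_smul]; exact hh.1
    · have h2 : h ∈ C m := by rw [← hall m hm hm1, hall n hn hn1]; exact hh
      rw [hCstab m hm] at h2
      exact h2.2
  have hdisj : ∀ x ∈ N, ∀ y ∈ N, x ≠ 1 → y ≠ 1 → C x ≠ C y → x * y = y * x := by
    intro x hx y hy hx1 hy1 hne'
    by_contra hxy
    set z := x * y * x⁻¹ * y⁻¹ with hz
    have hz1 : z ≠ 1 := fun h => hxy (by
      rwa [hz, mul_inv_eq_one, mul_inv_eq_iff_eq_mul] at h)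
    have hzN : z ∈ N := mul_mem (mul_mem (mul_mem hx hy) (inv_mem hx)) (inv_mem hy)
    have hzy : z ∈ F y := mul_mem (hclass y hy hy1 x hx) (inv_mem ((hF y hy y hy hy1 hy1).2 rfl))
    have hzx : z ∈ F x := by
      have : z = x * (y * x⁻¹ * y⁻¹) := by rw [hz]; group
      rw [this]
      refine mul_mem ((hF x hx x hx hx1 hx1).2 rfl) ?_
      have h := inv_mem (hclass x hx hx1 y hy)
      simpa [mul_assoc] using h
    exact hne' (((hF x hx z hzN hx1 hz1).1 hzx).trans ((hF y hy z hzN hy1 hz1).1 hzy).symm)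
  have hpow : ∀ x ∈ N, ∀ y ∈ N, x ≠ 1 → y ≠ 1 → C x ≠ C y → y ^ orderOf x = 1 := by
    intro x hx y hy hx1 hy1 hne'
    by_contra hyn
    have hcomm : Commute x y := hdisj x hx y hy hx1 hy1 hne'
    have hxy1 : x * y ≠ 1 := fun h => by
      apply hne'
      have : y = x⁻¹ := eq_inv_of_mul_eq_one_right h
      rw [this]
      exact hCeq x hx x⁻¹ (inv_mem hx) hx1 (inv_ne_one.2 hx1) fun h' hh' => by
        rw [hCmem] at hh' ⊢
        exact ⟨hh'.1, by rw [show h' * x⁻¹ * h'⁻¹ = (h' * x * h'⁻¹)⁻¹ by group, hh'.2]⟩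
    have hxyn : (x * y) ^ orderOf x = y ^ orderOf x := by
      rw [hcomm.mul_pow, pow_orderOf_eq_one, one_mul]
    have hsame : ∀ z ∈ N, z ≠ 1 → ∀ i : ℕ, z ^ i ≠ 1 → C z = C (z ^ i) := by
      intro z hzN hz1 i hi
      refine hCeq z hzN _ (pow_mem hzN i) hz1 hi fun h' hh' => ?_
      rw [hCmem] at hh' ⊢
      exact ⟨hh'.1, by rw [← conj_pow, hh'.2]⟩
    have e1 := hsame y hy hy1 _ hyn
    have e2 := hsame (x * y) (mul_mem hx hy) hxy1 (orderOf x) (by rw [hxyn]; exact hyn)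
    rw [hxyn, ← e1] at e2
    have hmem : x * y ∈ F y := (hF y hy _ (mul_mem hx hy) hy1 hxy1).2 e2.symm
    have hxmem : x ∈ F y := by
      simpa using mul_mem hmem (inv_mem ((hF y hy y hy hy1 hy1).2 rfl))
    exact hne' ((hF y hy x hx hy1 hx1).1 hxmem).symm
  obtain ⟨n₀, hn₀, hn₀b⟩ := hsurj b₀
  have hn₀1 : n₀ ≠ 1 := fun h => hb₀a (by rw [← hn₀b, h, one_smul])
  obtain ⟨y₀, hy₀, hy₀1, hne₀⟩ := hnot n₀ hn₀ hn₀1
  set p := orderOf n₀ with hpdef
  have hordeq : ∀ x ∈ N, ∀ y ∈ N, x ≠ 1 → y ≠ 1 → C x ≠ C y → orderOf x = orderOf y :=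
    fun x hx y hy hx1 hy1 h => Nat.dvd_antisymm
      (orderOf_dvd_of_pow_eq_one (hpow y hy x hx hy1 hx1 (Ne.symm h)))
      (orderOf_dvd_of_pow_eq_one (hpow x hx y hy hx1 hy1 h))
  have hord : ∀ x ∈ N, x ≠ 1 → orderOf x = p := by
    intro x hx hx1
    by_cases h : C x = C n₀
    · rw [hordeq x hx y₀ hy₀ hx1 hy₀1 (h ▸ hne₀), ← hordeq n₀ hn₀ y₀ hy₀ hn₀1 hy₀1 hne₀]
    · exact hordeq x hx n₀ hn₀ hx1 hn₀1 h
  have hp : p.Prime := by
    refine Nat.prime_def_minFac.2 ⟨?_, ?_⟩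
    · have h0 : p ≠ 1 := fun h => hn₀1 (orderOf_eq_one_iff.1 h)
      have := orderOf_pos n₀
      omega
    · have h0 : p ≠ 1 := fun h => hn₀1 (orderOf_eq_one_iff.1 h)
      have hd := Nat.minFac_dvd p
      have ho : orderOf (n₀ ^ (p / p.minFac)) = p.minFac :=
        orderOf_pow_orderOf_div (orderOf_pos n₀).ne' hd
      have hne1 : n₀ ^ (p / p.minFac) ≠ 1 := fun h => by
        rw [h, orderOf_one] at ho
        exact (Nat.minFac_prime h0).ne_one ho.symm
      exact ho.symm.trans (hord _ (pow_mem hn₀ _) hne1)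
  have habN : ∀ x ∈ N, ∀ y ∈ N, x * y = y * x := by
    intro x hx y hy
    by_cases hx1 : x = 1
    · rw [hx1, one_mul, mul_one]
    by_cases hy1 : y = 1
    · rw [hy1, one_mul, mul_one]
    by_cases hxy : C x = C y
    · obtain ⟨z, hz, hz1, hxz⟩ := hnot x hx hx1
      have hxz1 : x * z ≠ 1 := fun h => by
        apply hxz
        have : z = x⁻¹ := eq_inv_of_mul_eq_one_right h
        rw [this]
        exact hCeq x hx x⁻¹ (inv_mem hx) hx1 (inv_ne_one.2 hx1) fun h' hh' => by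
          rw [hCmem] at hh' ⊢
          exact ⟨hh'.1, by rw [show h' * x⁻¹ * h'⁻¹ = (h' * x * h'⁻¹)⁻¹ by group, hh'.2]⟩
      have hne' : C y ≠ C (x * z) := by
        intro h
        have hmem : x * z ∈ F x := (hF x hx _ (mul_mem hx hz) hx1 hxz1).2 (hxy.trans h)
        have hzmem : z ∈ F x := by
          simpa using mul_mem (inv_mem ((hF x hx x hx hx1 hx1).2 rfl)) hmem
        exact hxz ((hF x hx z hz hx1 hz1).1 hzmem)
      have c1 : Commute y z := hdisj y hy z hz hy1 hz1 (hxy ▸ hxz)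
      have c2 : Commute y (x * z) := hdisj y hy _ (mul_mem hx hz) hy1 hxz1 hne'
      have c3 := c2.mul_right c1.inv_right
      rw [mul_inv_cancel_right] at c3
      exact c3.eq.symm
    · exact hdisj x hx y hy hx1 hy1 hxy
  refine ⟨⟨p, hp, ⟨⟨fun x y => Subtype.ext (habN x x.2 y y.2)⟩⟩, fun x hx => ?_⟩, ?_⟩
  · by_cases hx1 : x = 1
    · rw [hx1, one_pow]
    · rw [← hord x hx hx1, pow_orderOf_eq_one]
  · intro M hM hM0
    set W := M ⊓ N with hW
    have hW0 : W ≠ ⊥ := by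
      intro h
      obtain ⟨m, hm, hm1⟩ := (Subgroup.bot_or_exists_ne_one M).resolve_left hM0
      have hcomm : ∀ n ∈ N, m * n = n * m := fun n hn =>
        (Subgroup.commute_of_normal_of_disjoint M N hM hN (disjoint_iff.2 (hW ▸ h)) m n hm hn).eq
      obtain ⟨n, hn, hna'⟩ := hsurj (m • a)
      have hmn : m = n := by
        apply FaithfulSMul.eq_of_smul_eq_smul (α := Ω)
        intro w
        obtain ⟨t, ht, rfl⟩ := hsurj w
        rw [← mul_smul, hcomm t ht, mul_smul, ← hna', ← mul_smul, habN t ht n hn, mul_smul]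
      have : m ∈ W := ⟨hm, hmn ▸ hn⟩
      rw [h, Subgroup.mem_bot] at this
      exact hm1 this
    obtain ⟨x, hx, hx1⟩ := (Subgroup.bot_or_exists_ne_one W).resolve_left hW0
    have hWn : W.Normal := inferInstance
    by_contra hNM
    have hout : ∀ y ∈ N, y ∉ W → C x = C y := by
      intro y hy hyW
      have hy1 : y ≠ 1 := fun h => hyW (h ▸ one_mem W)
      let J : Subgroup G :=
        H ⊓ (Subgroup.centralizer {QuotientGroup.mk' W y}).comap (QuotientGroup.mk' W)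
      have hJmem : ∀ h, h ∈ J ↔ h ∈ H ∧ y⁻¹ * (h * y * h⁻¹) ∈ W := by
        intro h
        refine and_congr Iff.rfl ?_
        show QuotientGroup.mk' W h ∈ Subgroup.centralizer {QuotientGroup.mk' W y} ↔ _
        rw [Subgroup.mem_centralizer_iff, ← QuotientGroup.eq_one_iff]
        simp only [Set.mem_singleton_iff, forall_eq, QuotientGroup.coe_mk', QuotientGroup.mk_mul,
          QuotientGroup.mk_inv, inv_mul_eq_one, eq_mul_inv_iff_mul_eq]
      let B : Set Ω := {w | ∃ v ∈ W, (y * v) • a = w}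
      have hB1 : ∀ b ∈ B, b ≠ a := by
        rintro b ⟨v, hv, rfl⟩
        refine hna _ (mul_mem hy hv.2) fun h => hyW ?_
        rw [mul_eq_one_iff_eq_inv.1 h]; exact inv_mem hv
      have hB2 : ∀ j ∈ J, ∀ b ∈ B, j • b ∈ B := by
        rintro j hjJ b ⟨v, hv, rfl⟩
        obtain ⟨hjH, hj⟩ := (hJmem j).1 hjJ
        refine ⟨(y⁻¹ * (j * y * j⁻¹)) * (j * v * j⁻¹), mul_mem hj (hWn.conj_mem v hv j), ?_⟩
        rw [hact j hjH]
        congr 1
        group
      have hB3 : ∀ b ∈ B, H ⊓ stabilizer G b ≤ J := by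
        rintro b ⟨v, hv, rfl⟩ h ⟨hh, hhb⟩
        refine (hJmem h).2 ⟨hh, ?_⟩
        have e := (hfix h hh _ (mul_mem hy hv.2)).1 hhb
        have : y⁻¹ * (h * y * h⁻¹) = y⁻¹ * (h * (y * v) * h⁻¹) * (h * v⁻¹ * h⁻¹) := by group
        rw [this, e, inv_mul_cancel_left]
        exact mul_mem hv (hWn.conj_mem _ (inv_mem hv) h)
      have hB4 : Nat.card B ∣ Nat.card N := by
        have : Nat.card B = Nat.card W := by
          symm
          refine Nat.card_congr (Equiv.ofBijective (fun v : W => (⟨(y * v) • a, v, v.2, rfl⟩ : B))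
            ⟨?_, ?_⟩)
          · intro v w h
            have h2 := congrArg Subtype.val h
            exact Subtype.ext (mul_left_cancel (hinj _ (mul_mem hy v.2.2) _ (mul_mem hy w.2.2) h2))
          · rintro ⟨_, v, hv, rfl⟩
            exact ⟨⟨v, hv⟩, rfl⟩
        rw [this]
        exact Subgroup.card_dvd_of_le inf_le_right
      have hfixall := hkey J B (fun h hh => hh.1) hB1 hB2 hB3 hB4
      refine (hCeq y hy x hx.2 hy1 hx1 fun h hh => ?_).symm
      have hhy := (hCmem y h).1 hh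
      have hhJ : h ∈ J := (hJmem h).2 ⟨hhy.1, by rw [hhy.2, inv_mul_cancel]; exact one_mem W⟩
      have e := (hfix h hhy.1 _ (mul_mem hy hx.2)).1 (hfixall h hhJ _ ⟨x, hx, rfl⟩)
      rw [hCmem]
      refine ⟨hhy.1, ?_⟩
      have e2 : h * (y * x) * h⁻¹ = (h * y * h⁻¹) * (h * x * h⁻¹) := by group
      rw [e2, hhy.2] at e
      exact mul_left_cancel e
    obtain ⟨y, hy, hyM⟩ := SetLike.not_le_iff_exists.1 hNM
    have hyW : y ∉ W := fun h => hyM h.1
    have hy1 : y ≠ 1 := fun h => hyW (h ▸ one_mem W)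
    obtain ⟨z, hz, hz1, hxz⟩ := hnot x hx.2 hx1
    have hzW : z ∈ W := by
      by_contra h
      exact hxz (hout z hz h)
    have hzy : z * y ∉ W := fun h => hyW (by simpa using mul_mem (inv_mem hzW) h)
    have hzy1 : z * y ≠ 1 := fun h => hzy (h ▸ one_mem W)
    have hm1 : z * y ∈ F x := (hF x hx.2 _ (mul_mem hz hy) hx1 hzy1).2 (hout _ (mul_mem hz hy) hzy)
    have hm2 : y ∈ F x := (hF x hx.2 y hy hx1 hy1).2 (hout y hy hyW)
    have hm3 : z ∈ F x := by simpa using mul_mem hm1 (inv_mem hm2)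
    exact hxz ((hF x hx.2 z hz hx1 hz1).1 hm3)

end Cfsg.Agent.S3356
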