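import Cfsg.Statements.S3357
import Cfsg.Agent.Lib.Char.LiftFPF
import Cfsg.Agent.Lib.Solv.Frobenius
import Cfsg.Agent.Lib.Solv.FrobeniusBasic

set_option autoImplicit false
open Cfsg

namespace Cfsg.Agent.S3357

open Matrix in
theorem matrixRep_add {Γ : Type*} [Group Γ] {r : ℕ} [Fact r.Prime] {M : Type*} [AddCommGroup M]
    [Module (ZMod r) M] [Finite M] [DistribMulAction Γ M] :
    ∃ (n : ℕ) (ρ : Γ →* GL (Fin n) (ZMod r)) (b : M ≃ (Fin n → ZMod r)),
      b 0 = 0 ∧ ∀ g x, (ρ g : Matrix (Fin n) (Fin n) (ZMod r)) *ᵥ b x = b (g • x) := by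
  classical
  let b := Module.finBasis (ZMod r) M
  let L : Γ →* Module.End (ZMod r) M :=
    { toFun := fun g => AddMonoidHom.toZModLinearMap r (DistribMulAction.toAddMonoidHom M g)
      map_one' := by ext x; simp
      map_mul' := fun g h => by ext x; simp [mul_smul] }
  exact ⟨_, (((LinearMap.toMatrixAlgEquiv b).toAlgHom.toRingHom.toMonoidHom).comp L).toHomUnits,
    b.equivFun.toEquiv, map_zero b.equivFun, fun g x => LinearMap.toMatrix_mulVec_repr b b (L g) x⟩

open Matrix in
theorem matrixRep {Γ : Type*} [Group Γ] {r : ℕ} [Fact r.Prime] {M : Type*} [CommGroup M] [Finite M]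
    [MulDistribMulAction Γ M] (hexp : ∀ x : M, x ^ r = 1) :
    ∃ (n : ℕ) (ρ : Γ →* GL (Fin n) (ZMod r)) (b : M ≃ (Fin n → ZMod r)),
      b 1 = 0 ∧ ∀ g x, (ρ g : Matrix (Fin n) (Fin n) (ZMod r)) *ᵥ b x = b (g • x) := by
  classical
  letI inst : Module (ZMod r) (Additive M) := AddCommGroup.zmodModule (fun x => by
    apply Additive.toMul.injective; simpa using hexp x.toMul)
  let act : DistribMulAction Γ (Additive M) :=
    { smul := fun g x => Additive.ofMul (g • Additive.toMul x)
      one_smul := fun x => congrArg Additive.ofMul (one_smul Γ (Additive.toMul x))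
      mul_smul := fun g h x => congrArg Additive.ofMul (mul_smul g h (Additive.toMul x))
      smul_zero := fun g => congrArg Additive.ofMul (smul_one g)
      smul_add := fun g x y => congrArg Additive.ofMul (smul_mul' g (Additive.toMul x) (Additive.toMul y)) }
  obtain ⟨n, ρ, b, h0, h⟩ := @matrixRep_add Γ _ r _ (Additive M) _ inst _ act
  exact ⟨n, ρ, Additive.ofMul.trans b, h0, fun g x => h g (Additive.ofMul x)⟩

open Matrix in
theorem fpf_rep {L : Type*} [Group L] [Finite L] {H : Subgroup L} (hH : Cfsg.IsFrobeniusComplement H) :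
    ∃ (r : ℕ) (_ : Fact r.Prime) (n : ℕ) (ρ : H →* GL (Fin n) (ZMod r)), 0 < n ∧
      (Nat.card H).Coprime r ∧
      ∀ x : H, x ≠ 1 → ∀ v, (ρ x : Matrix (Fin n) (Fin n) (ZMod r)) *ᵥ v = v → v = 0 := by
  classical
  obtain ⟨K, hK, hKn, hc⟩ := Cfsg.Lib.Solv.frobenius_theorem hH
  have hindex : H.index = Nat.card K := hc.index_eq_card
  have hcop : (Nat.card H).Coprime (Nat.card K) := hindex ▸ Cfsg.Lib.Solv.frob_coprime hH
  have hK1 : Nat.card K ≠ 1 := by
    rw [← hindex, Ne, Subgroup.index_eq_one]; exact hH.2.1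
  obtain ⟨r, hr, hrK⟩ := Nat.exists_prime_and_dvd hK1
  have hrf : Fact r.Prime := ⟨hr⟩
  have hfpfK : ∀ x : L, x ∉ K → ∀ v ∈ K, v * x = x * v → v = 1 := by
    intro x hx v hv hcomm
    have hx' : x ∉ Cfsg.frobeniusKernel H := by rw [← hK]; exact hx
    rw [Cfsg.Lib.Solv.mem_frobeniusKernel_iff, not_or, not_forall] at hx'
    obtain ⟨hx1, g, hg⟩ := hx'
    rw [not_not] at hg
    have h1 : g⁻¹ * v * g = 1 := by
      refine Cfsg.Lib.Solv.fpf_of_frobenius hH hc.disjoint hg (fun h => hx1 ?_) ?_ ?_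
      · have := congrArg (fun z => g * z * g⁻¹) h
        simpa [mul_assoc] using this
      · have := hKn.conj_mem v hv g⁻¹
        simpa using this
      · calc g⁻¹ * v * g * (g⁻¹ * x * g) = g⁻¹ * (v * x) * g := by group
          _ = g⁻¹ * (x * v) * g := by rw [hcomm]
          _ = _ := by group
    have := congrArg (fun z => g * z * g⁻¹) h1
    simpa [mul_assoc] using this
  have hKn' : K.Normal := hKn
  obtain ⟨P⟩ : Nonempty (Sylow r K) := inferInstance
  set P' : Subgroup L := (P : Subgroup K).map K.subtype with hP'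
  set N : Subgroup L := Subgroup.normalizer (P' : Set L) with hN
  have hNK : N ⊔ K = ⊤ := Sylow.normalizer_sup_eq_top P
  have hKi : K.index = Nat.card H := hc.symm.index_eq_card
  have hind : (K.subgroupOf N).index = Nat.card H := by
    have h1 : K.relIndex N = K.relIndex (N ⊔ K) := (Subgroup.relIndex_sup_right N K).symm
    rw [hNK, Subgroup.relIndex_top_right, hKi] at h1
    exact h1
  have hKNn : (K.subgroupOf N).Normal := inferInstance
  obtain ⟨Q, hQ⟩ := Subgroup.exists_right_complement'_of_coprime (N := K.subgroupOf N) (by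
    rw [hind]
    refine Nat.Coprime.coprime_dvd_left ?_ hcop.symm
    exact Subgroup.card_dvd_of_injective (f := ((N.subtype.comp (K.subgroupOf N).subtype).codRestrict K
      (fun x => x.2))) (fun a b h => Subtype.ext (Subtype.ext (congrArg (fun y : K => (y : L)) h))))
  have hQc : Nat.card Q = Nat.card H := by rw [← hQ.symm.index_eq_card]; exact hind
  have hb : Function.Bijective ((QuotientGroup.mk' K).comp (N.subtype.comp Q.subtype)) := by
    refine (Nat.bijective_iff_injective_and_card _).2 ⟨?_, ?_⟩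
    · rw [injective_iff_map_eq_one]
      intro x hx
      have h1 : ((x : N) : L) ∈ K := (QuotientGroup.eq_one_iff _).1 hx
      exact Subtype.ext (Subgroup.disjoint_def.1 hQ.disjoint h1 x.2)
    · rw [hQc, ← hKi]; rfl
  have hb2 : Function.Bijective ((QuotientGroup.mk' K).comp H.subtype) := by
    refine (Nat.bijective_iff_injective_and_card _).2 ⟨?_, by rw [← hKi]; rfl⟩
    rw [injective_iff_map_eq_one]
    intro x hx
    have h1 : (x : L) ∈ K := (QuotientGroup.eq_one_iff _).1 hx
    exact Subtype.ext (Subgroup.disjoint_def.1 hc.disjoint h1 x.2)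
  let θ : H →* N := Q.subtype.comp ((MulEquiv.ofBijective _ hb2).trans (MulEquiv.ofBijective _ hb).symm).toMonoidHom
  have hθ : ∀ x : H, x ≠ 1 → (θ x : L) ∉ K := by
    intro x hx h
    have h1 : θ x = 1 := Subgroup.disjoint_def.1 hQ.disjoint h (Subtype.coe_prop _)
    apply hx
    have h2 : ((MulEquiv.ofBijective _ hb2).trans (MulEquiv.ofBijective _ hb).symm) x = 1 :=
      Subtype.ext h1
    rwa [MulEquiv.map_eq_one_iff] at h2
  let M : Subgroup L :=
    { carrier := {x | x ∈ P' ∧ (∀ y ∈ P', x * y = y * x) ∧ x ^ r = 1}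
      one_mem' := ⟨one_mem _, by simp, one_pow _⟩
      mul_mem' := fun {a b} ha hb => ⟨mul_mem ha.1 hb.1,
        fun y hy => by rw [mul_assoc, hb.2.1 y hy, ← mul_assoc, ha.2.1 y hy, mul_assoc],
        by rw [(show Commute a b from ha.2.1 b hb.1).mul_pow, ha.2.2, hb.2.2, one_mul]⟩
      inv_mem' := fun {a} ha => ⟨inv_mem ha.1,
        fun y hy => ((show Commute a y from ha.2.1 y hy).inv_left).eq,
        by rw [inv_pow, ha.2.2, inv_one]⟩ }
  have hMK : M ≤ K := fun x hx => Subgroup.map_subtype_le _ hx.1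
  have hMN : ∀ g ∈ N, ∀ x ∈ M, g * x * g⁻¹ ∈ M := by
    intro g hg x hx
    refine ⟨(Subgroup.mem_normalizer_iff.1 hg x).1 hx.1, fun y hy => ?_, by rw [conj_pow, hx.2.2, mul_one, mul_inv_cancel]⟩
    have hy' : g⁻¹ * y * g ∈ P' := by
      apply (Subgroup.mem_normalizer_iff.1 hg _).2
      simpa [mul_assoc] using hy
    calc g * x * g⁻¹ * y = g * (x * (g⁻¹ * y * g)) * g⁻¹ := by group
      _ = g * ((g⁻¹ * y * g) * x) * g⁻¹ := by rw [hx.2.1 _ hy']
      _ = _ := by group
  have hPne : Nontrivial P' := by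
    rw [← Finite.one_lt_card_iff_nontrivial, hP', Nat.card_congr ((P : Subgroup K).equivMapOfInjective K.subtype K.subtype_injective).symm.toEquiv]
    exact hr.one_lt.trans_le (Nat.le_of_dvd Nat.card_pos (P.dvd_card_of_dvd_card hrK))
  have hMne : Nontrivial M := by
    have hz : Nontrivial (Subgroup.center P') := (P.isPGroup'.map K.subtype).center_nontrivial
    obtain ⟨k, hk⟩ := IsPGroup.iff_card.1 ((P.isPGroup'.map K.subtype).to_subgroup (Subgroup.center P'))
    have hdvd : r ∣ Nat.card (Subgroup.center P') := by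
      rw [hk]
      refine dvd_pow_self r (fun h => ?_)
      rw [h, pow_zero] at hk
      exact (Finite.one_lt_card_iff_nontrivial.2 hz).ne' hk
    obtain ⟨z, hz'⟩ := exists_prime_orderOf_dvd_card' r hdvd
    refine ⟨⟨((z : P') : L), (z : P').2, fun y hy => ?_, ?_⟩, 1, fun h => ?_⟩
    · exact congrArg Subtype.val ((Subgroup.mem_center_iff.1 z.2 ⟨y, hy⟩).symm)
    · rw [← SubgroupClass.coe_pow, ← SubgroupClass.coe_pow, ← hz', pow_orderOf_eq_one]; rfl
    · have h1 : z = 1 := Subtype.ext (Subtype.ext (congrArg (fun y : M => (y : L)) h))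
      rw [h1, orderOf_one] at hz'
      exact hr.ne_one hz'.symm
  let cM : CommGroup M :=
    { (inferInstance : Group M) with mul_comm := fun a b => Subtype.ext (a.2.2.1 b b.2.1) }
  let act : MulDistribMulAction H M :=
    { smul := fun g x => ⟨(θ g : L) * x * (θ g : L)⁻¹, hMN _ (θ g).2 x x.2⟩
      one_smul := fun x => Subtype.ext (by
        change (θ 1 : L) * x * (θ 1 : L)⁻¹ = x; simp)
      mul_smul := fun g h x => Subtype.ext (by
        change (θ (g * h) : L) * x * (θ (g * h) : L)⁻¹ = (θ g : L) * ((θ h : L) * x * (θ h : L)⁻¹) * (θ g : L)⁻¹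
        rw [map_mul, Subgroup.coe_mul]; group)
      smul_mul := fun g a b => Subtype.ext (by
        change (θ g : L) * ((a : L) * b) * (θ g : L)⁻¹ = ((θ g : L) * a * (θ g : L)⁻¹) * ((θ g : L) * b * (θ g : L)⁻¹)
        group)
      smul_one := fun g => Subtype.ext (by
        change (θ g : L) * (1 : L) * (θ g : L)⁻¹ = 1; simp) }
  have hfix : ∀ g : H, g ≠ 1 → ∀ x : M, g • x = x → x = 1 := by
    intro g hg x hx
    have h1 : (θ g : L) * x * (θ g : L)⁻¹ = x := congrArg Subtype.val hx
    exact Subtype.ext (hfpfK _ (hθ g hg) x (hMK x.2) (mul_inv_eq_iff_eq_mul.1 h1).symm)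
  obtain ⟨n, ρ, b, hb1, hρ⟩ := matrixRep (r := r) (fun x : M => Subtype.ext x.2.2.2) (Γ := H)
  refine ⟨r, hrf, n, ρ, ?_, hcop.coprime_dvd_right hrK, fun g hg v hv => ?_⟩
  · rcases Nat.eq_zero_or_pos n with h | h
    · subst h
      have : Subsingleton M := b.injective.subsingleton
      exact absurd hMne (not_nontrivial M)
    · exact h
  · obtain ⟨x, rfl⟩ := b.surjective v
    rw [hρ] at hv
    rw [hfix g hg x (b.injective hv), hb1]

/-- Let G be a finite group that occurs as a Frobenius complement. Then G has a faithful irreducible representation over an algebraic closure of the rationals in which no non-identity element of G has 1 as an eigenvalue: there are n ≥ 1 and an injective homomorphism ρ from G to GL(n) over that field, with no invariant subspace other than 0 and the whole space, such that for g ≠ 1 the only vector fixed by ρ(g) is 0. -/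
theorem result {G : Type*} [Group G] [Finite G]
    (hFC : ∃ (L : Type) (_ : Group L) (_ : Finite L) (H : Subgroup L), Cfsg.IsFrobeniusComplement H ∧ Nonempty (G ≃* H)) :
    ∃ (n : ℕ) (ρ : G →* GL (Fin n) (AlgebraicClosure ℚ)), 0 < n ∧ Function.Injective ρ ∧
      (∀ W : Submodule (AlgebraicClosure ℚ) (Fin n → AlgebraicClosure ℚ),
        (∀ g : G, ∀ w ∈ W, ((ρ g : GL (Fin n) (AlgebraicClosure ℚ)) : Matrix (Fin n) (Fin n) (AlgebraicClosure ℚ)).mulVec w ∈ W) → W = ⊥ ∨ W = ⊤) ∧
      ∀ g : G, g ≠ 1 → ∀ v : Fin n → AlgebraicClosure ℚ,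
        ((ρ g : GL (Fin n) (AlgebraicClosure ℚ)) : Matrix (Fin n) (Fin n) (AlgebraicClosure ℚ)).mulVec v = v → v = 0 := by
  obtain ⟨L, _, _, H, hH, ⟨e⟩⟩ := hFC
  obtain ⟨r, hr, n, ρ, hn, hcop, hfpf⟩ := fpf_rep hH
  have hcop' : (Nat.card G).Coprime r := by rwa [Nat.card_congr e.toEquiv]
  obtain ⟨m, σ, hm, hirr, hf⟩ := Cfsg.Lib.Char.LiftFPF.exists_fpf_irreducible hn hcop' (ρ.comp e.toMonoidHom)
    (fun x hx => hfpf (e x) (fun h => hx ((MulEquiv.map_eq_one_iff e).1 h))) (AlgebraicClosure ℚ)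
  refine ⟨m, σ, hm, ?_, hirr, hf⟩
  rw [injective_iff_map_eq_one]
  intro g hg
  by_contra hne
  have h1 := hf g hne (Pi.single ⟨0, hm⟩ 1) (by rw [hg, Units.val_one, Matrix.one_mulVec])
  simpa using congrFun h1 ⟨0, hm⟩

end Cfsg.Agent.S3357
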