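import Cfsg.Statements.S3358
import Cfsg.Agent.S3357
import Cfsg.Agent.S3379
import Cfsg.Agent.Lib.Perm.Zas25.SixTypes
import Cfsg.Agent.Lib.Perm.Zas25.MetaPres
-- import your own Cfsg.Agent.* helpers here

set_option autoImplicit false
open Cfsg

namespace Cfsg.Agent.S3358

/-- Structure of solvable Frobenius complements. Let G be a finite solvable group that occurs as a Frobenius complement. Then G has a normal subgroup G₀ such that G/G₀ is isomorphic to a subgroup of Sym(4) (G₀ is the kernel of a homomorphism to Sym(4)), all Sylow subgroups of G₀ are cyclic, and G₀ has a presentation ⟨x, y | x^n = 1, y^m = 1, x⁻¹ y x = y^r⟩ with n, m ≥ 1, gcd(r − 1, m) = gcd(n, m) = 1 and r^(n/n′) ≡ 1 (mod m), where n′ is the product of the distinct primes dividing n. -/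
theorem result {G : Type*} [Group G] [Finite G] (hsol : Group.IsSolvable G)
    (hFC : ∃ (L : Type) (_ : Group L) (_ : Finite L) (H : Subgroup L), Cfsg.IsFrobeniusComplement H ∧ Nonempty (G ≃* H)) :
    ∃ G₀ : Subgroup G, G₀.Normal ∧
      (∃ f : G →* Equiv.Perm (Fin 4), f.ker = G₀) ∧
      (∀ (p : ℕ) [Fact p.Prime] (P : Sylow p G₀), IsCyclic P) ∧
      ∃ n m r : ℕ, 0 < n ∧ 0 < m ∧ Nat.Coprime (r - 1) m ∧ Nat.Coprime n m ∧ 1 ≤ r ∧
        r ^ (n / ∏ p ∈ n.primeFactors, p) % m = 1 % m ∧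
        Nonempty (G₀ ≃* PresentedGroup
          ({FreeGroup.of (0 : Fin 2) ^ n, FreeGroup.of (1 : Fin 2) ^ m,
            (FreeGroup.of (0 : Fin 2))⁻¹ * FreeGroup.of 1 * FreeGroup.of 0 * (FreeGroup.of (1 : Fin 2) ^ r)⁻¹} :
            Set (FreeGroup (Fin 2)))) := by
  classical
  obtain ⟨L, iL, iF, H, hH, ⟨e⟩⟩ := hFC
  obtain ⟨l, hl, d, ρ₀, hd, -, hfpf⟩ := Cfsg.Agent.S3357.fpf_rep hH
  haveI : Nonempty (Fin d) := ⟨⟨0, hd⟩⟩
  let σ : G →* Module.End (ZMod l) (Fin d → ZMod l) :=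
    (Matrix.toLinAlgEquiv' (R := ZMod l) (n := Fin d)).toAlgHom.toRingHom.toMonoidHom.comp
      ((Units.coeHom (Matrix (Fin d) (Fin d) (ZMod l))).comp (ρ₀.comp e.toMonoidHom))
  have hσ : ∀ g : G, g ≠ 1 → ∀ v, σ g v = v → v = 0 := fun g hg v hv =>
    hfpf (e g) (fun h => hg (e.injective (by rw [h, map_one]))) v hv
  obtain ⟨N, hN, hZ, ht⟩ := Cfsg.Lib.Perm.Zas25.target_exists σ hσ
  have hsyl : ∀ (p : ℕ) [Fact p.Prime] (P : Sylow p N), IsCyclic P := fun p hp P => hZ.isZGroup p hp.out P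
  refine ⟨N, hN, ?_, hsyl, ?_⟩
  · haveI := hsol
    have nonsol : ∀ {T : Type} [Group T] (f : G →* T), Function.Surjective f → Group.IsSolvable T :=
      fun f hf => solvable_of_surjective hf
    rcases ht with h | ⟨f, hf, hk⟩ | ⟨f, hf, hk⟩ | ⟨f, hf, hk⟩ | ⟨f, hf, hk⟩ | ⟨f, hf, hk⟩
    · exact ⟨1, by rw [MonoidHom.ker_one, h]⟩
    · let j : DihedralGroup 2 →* Equiv.Perm (Fin 4) := MonoidHom.mk' (fun g => match g with
          | .r i => if i = 0 then 1 else Cfsg.Lib.Perm.Zas25.pv4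
          | .sr i => if i = 0 then Cfsg.Lib.Perm.Zas25.pw4
              else Cfsg.Lib.Perm.Zas25.pw4 * Cfsg.Lib.Perm.Zas25.pv4) (by decide +kernel)
      have hj : Function.Injective j := by decide +kernel
      exact ⟨j.comp f, by rw [MonoidHom.ker_comp_of_injective f j hj, hk]⟩
    · exact ⟨(alternatingGroup (Fin 4)).subtype.comp f,
        by rw [MonoidHom.ker_comp_of_injective f _ (Subgroup.subtype_injective _), hk]⟩
    · exact ⟨f, hk⟩
    · haveI : IsSimpleGroup (alternatingGroup (Fin 5)) := alternatingGroup.isSimpleGroup_five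
      exfalso
      have h5 := IsSimpleGroup.comm_iff_isSolvable.mpr (nonsol f hf)
      have := h5 Cfsg.Lib.Perm.Zas25.av5 ⟨finRotate 5, Equiv.Perm.mem_alternatingGroup.2 (by decide +kernel)⟩
      revert this
      decide +kernel
    · exact absurd (nonsol f hf) Equiv.Perm.fin_5_not_solvable
  · obtain ⟨x, y, n, m, r, hgen, hn, hm, hrel, hr1, hnm, hr, -⟩ := Cfsg.Agent.S3379.result hsyl
    refine ⟨n, m, r, hn ▸ orderOf_pos x, hm ▸ orderOf_pos y, hr1, hnm, hr, ?_, ?_⟩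
    · refine Cfsg.Lib.Perm.Zas25.meta_congruence σ hσ (x : G) (y : G) n m r
        (by rw [Subgroup.orderOf_coe, hn]) (by rw [Subgroup.orderOf_coe, hm]) ?_ hnm
      exact congrArg Subtype.val hrel
    · exact Cfsg.Lib.Perm.Zas25.meta_presented_iso x y n m r hgen hn hm hrel hnm

end Cfsg.Agent.S3358
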