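import Cfsg.Statements.S3359
import Cfsg.Agent.S3357
import Cfsg.Agent.Lib.Perm.Zas25.Complement
-- import your own Cfsg.Agent.* helpers here

set_option autoImplicit false
open Cfsg

namespace Cfsg.Agent.S3359

/-- Structure of non-solvable Frobenius complements. Let G be a finite non-solvable group that occurs as a Frobenius complement. Then G has a normal subgroup G₀ of index 1 or 2 which is the direct product of a subgroup isomorphic to SL(2,5) and a subgroup M of order prime to 30 all of whose Sylow subgroups are cyclic. -/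
theorem result {G : Type*} [Group G] [Finite G] (hns : ¬ Group.IsSolvable G)
    (hFC : ∃ (L : Type) (_ : Group L) (_ : Finite L) (H : Subgroup L), Cfsg.IsFrobeniusComplement H ∧ Nonempty (G ≃* H)) :
    ∃ G₀ : Subgroup G, G₀.Normal ∧ (G₀.index = 1 ∨ G₀.index = 2) ∧
      ∃ S M : Subgroup G, S ⊔ M = G₀ ∧ S ⊓ M = ⊥ ∧ (∀ s ∈ S, ∀ x ∈ M, s * x = x * s) ∧
        Nonempty (S ≃* Matrix.SpecialLinearGroup (Fin 2) (ZMod 5)) ∧
        (∀ (p : ℕ) [Fact p.Prime] (P : Sylow p M), IsCyclic P) ∧ (Nat.card M).Coprime 30 := by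
  classical
  obtain ⟨L, iL, iF, H, hH, ⟨e⟩⟩ := hFC
  obtain ⟨r, hr, n, ρ₀, hn, -, hfpf⟩ := Cfsg.Agent.S3357.fpf_rep hH
  haveI : Nonempty (Fin n) := ⟨⟨0, hn⟩⟩
  let σ : G →* Module.End (ZMod r) (Fin n → ZMod r) :=
    (Matrix.toLinAlgEquiv' (R := ZMod r) (n := Fin n)).toAlgHom.toRingHom.toMonoidHom.comp
      ((Units.coeHom (Matrix (Fin n) (Fin n) (ZMod r))).comp (ρ₀.comp e.toMonoidHom))
  have hσ : ∀ g : G, g ≠ 1 → ∀ v, σ g v = v → v = 0 := fun g hg v hv =>
    hfpf (e g) (fun h => hg (e.injective (by rw [h, map_one]))) v hv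
  obtain ⟨G₀, h1, h2, S, M, -, h3⟩ := Cfsg.Lib.Perm.Zas25.nonsolvable_structure σ hσ hns
  exact ⟨G₀, h1, h2, S, M, h3⟩

end Cfsg.Agent.S3359
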