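import Cfsg.Statements.S3362
import Mathlib.GroupTheory.GroupAction.MultipleTransitivity
import Mathlib.Algebra.Group.Subgroup.Finite

set_option autoImplicit false
open Cfsg

namespace Cfsg.Agent.S3362

open Equiv

/-- The eight generators. -/
def gen : Fin 8 → Equiv.Perm (Fin 12) :=
  ![Equiv.swap (3 : Fin 12) 5 * Equiv.swap (3 : Fin 12) 4 * Equiv.swap (6 : Fin 12) 8 * Equiv.swap (6 : Fin 12) 7 * Equiv.swap (9 : Fin 12) 11 * Equiv.swap (9 : Fin 12) 10,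
    Equiv.swap (3 : Fin 12) 9 * Equiv.swap (3 : Fin 12) 6 * Equiv.swap (4 : Fin 12) 10 * Equiv.swap (4 : Fin 12) 7 * Equiv.swap (5 : Fin 12) 11 * Equiv.swap (5 : Fin 12) 8,
    Equiv.swap (4 : Fin 12) 9 * Equiv.swap (4 : Fin 12) 5 * Equiv.swap (4 : Fin 12) 6 * Equiv.swap (7 : Fin 12) 10 * Equiv.swap (7 : Fin 12) 11 * Equiv.swap (7 : Fin 12) 8,
    Equiv.swap (4 : Fin 12) 11 * Equiv.swap (4 : Fin 12) 5 * Equiv.swap (4 : Fin 12) 7 * Equiv.swap (6 : Fin 12) 8 * Equiv.swap (6 : Fin 12) 9 * Equiv.swap (6 : Fin 12) 10,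
    Equiv.swap (4 : Fin 12) 8 * Equiv.swap (4 : Fin 12) 5 * Equiv.swap (4 : Fin 12) 10 * Equiv.swap (6 : Fin 12) 7 * Equiv.swap (6 : Fin 12) 9 * Equiv.swap (6 : Fin 12) 11,
    Equiv.swap (0 : Fin 12) 3 * Equiv.swap (6 : Fin 12) 7 * Equiv.swap (8 : Fin 12) 10 * Equiv.swap (9 : Fin 12) 11,
    Equiv.swap (0 : Fin 12) 1 * Equiv.swap (6 : Fin 12) 9 * Equiv.swap (7 : Fin 12) 10 * Equiv.swap (8 : Fin 12) 11,
    Equiv.swap (1 : Fin 12) 2 * Equiv.swap (6 : Fin 12) 11 * Equiv.swap (7 : Fin 12) 9 * Equiv.swap (8 : Fin 12) 10]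

/-- Value tables of the generators. -/
def tab : Fin 8 → List (Fin 12) :=
  ![[0,1,2,4,5,3,7,8,6,10,11,9],
    [0,1,2,6,7,8,9,10,11,3,4,5],
    [0,1,2,3,6,9,5,8,11,4,7,10],
    [0,1,2,3,7,11,10,5,6,8,9,4],
    [0,1,2,3,10,8,11,6,4,7,5,9],
    [3,1,2,0,4,5,7,6,10,11,8,9],
    [1,0,2,3,4,5,9,10,11,6,7,8],
    [0,2,1,3,4,5,11,9,10,7,8,6]]

/-- Words for the group of order 72. -/
def w0 : List (List (Fin 8)) :=
  [[],
   [0],
   [1],
   [2],
   [3],
   [4],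
   [0,0],
   [1,0],
   [2,0],
   [3,0],
   [4,0],
   [1,1],
   [2,1],
   [3,1],
   [4,1],
   [0,2],
   [2,2],
   [4,2],
   [0,3],
   [1,3],
   [2,3],
   [0,4],
   [1,4],
   [3,4],
   [1,0,0],
   [2,0,0],
   [3,0,0],
   [4,0,0],
   [1,1,0],
   [2,1,0],
   [3,1,0],
   [0,2,0],
   [2,2,0],
   [4,2,0],
   [0,3,0],
   [2,3,0],
   [3,4,0],
   [4,1,1],
   [2,2,1],
   [4,2,1],
   [2,3,1],
   [0,4,1],
   [1,4,1],
   [3,4,1],
   [2,0,2],
   [4,0,2],
   [0,2,2],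
   [0,4,2],
   [1,4,2],
   [2,0,3],
   [3,0,3],
   [4,0,3],
   [1,1,3],
   [2,1,3],
   [3,1,3],
   [4,1,3],
   [0,2,3],
   [3,0,4],
   [3,1,4],
   [4,1,4],
   [1,3,4],
   [1,1,0,0],
   [4,2,0,0],
   [2,3,0,0],
   [2,3,1,0],
   [2,0,2,0],
   [0,4,2,0],
   [1,4,2,0],
   [2,0,3,0],
   [3,4,1,1],
   [3,0,4,1],
   [3,1,4,1]]

/-- Coset representatives and inverses. -/
def r1 : List (List (Fin 8) × List (Fin 8)) :=
  [([], []),
   ([5], [5]),
   ([0,5], [5,0,0]),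
   ([1,5], [5,1,1]),
   ([0,0,5], [5,0,0,0,0]),
   ([1,0,5], [5,0,0,1,1]),
   ([4,0,5], [5,0,0,4,4,4]),
   ([1,1,5], [5,1,1,1,1]),
   ([4,1,5], [5,1,1,4,4,4]),
   ([1,0,0,5], [5,0,0,0,0,1,1])]

/-- Coset representatives and inverses. -/
def r2 : List (List (Fin 8) × List (Fin 8)) :=
  [([], []),
   ([6], [6]),
   ([5,6], [6,5]),
   ([0,5,6], [6,5,0,0]),
   ([1,5,6], [6,5,1,1]),
   ([0,0,5,6], [6,5,0,0,0,0]),
   ([1,0,5,6], [6,5,0,0,1,1]),
   ([4,0,5,6], [6,5,0,0,4,4,4]),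
   ([1,1,5,6], [6,5,1,1,1,1]),
   ([4,1,5,6], [6,5,1,1,4,4,4]),
   ([1,0,0,5,6], [6,5,0,0,0,0,1,1])]

/-- Coset representatives and inverses. -/
def r3 : List (List (Fin 8) × List (Fin 8)) :=
  [([], []),
   ([7], [7]),
   ([6,7], [7,6]),
   ([5,6,7], [7,6,5]),
   ([0,5,6,7], [7,6,5,0,0]),
   ([1,5,6,7], [7,6,5,1,1]),
   ([0,0,5,6,7], [7,6,5,0,0,0,0]),
   ([1,0,5,6,7], [7,6,5,0,0,1,1]),
   ([4,0,5,6,7], [7,6,5,0,0,4,4,4]),
   ([1,1,5,6,7], [7,6,5,1,1,1,1]),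
   ([4,1,5,6,7], [7,6,5,1,1,4,4,4]),
   ([1,0,0,5,6,7], [7,6,5,0,0,0,0,1,1])]

/-- The value table of a permutation. -/
def tb (σ : Perm (Fin 12)) : List (Fin 12) := List.ofFn fun i => σ i

/-- Composition of tables. -/
def comp (a b : List (Fin 12)) : List (Fin 12) := b.map fun x => a.getD x.val 0

/-- Value table of a word. -/
def wt (w : List (Fin 8)) : List (Fin 12) := w.foldr (fun i l => comp (tab i) l) (List.ofFn id)

/-- Permutation of a word. -/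
def ev (w : List (Fin 8)) : Perm (Fin 12) := (w.map gen).prod

theorem tb_injective {σ τ : Perm (Fin 12)} (h : tb σ = tb τ) : σ = τ :=
  Equiv.ext fun i => congrFun (List.ofFn_inj.1 h) i

theorem tb_one : tb 1 = List.ofFn id := rfl

theorem tb_mul (σ τ : Perm (Fin 12)) : tb (σ * τ) = comp (tb σ) (tb τ) := by
  simp only [tb, comp, List.map_ofFn]
  congr 1
  funext i
  rw [Function.comp_apply, List.getD_eq_getElem _ _ (by rw [List.length_ofFn]; exact (τ i).2),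
    List.getElem_ofFn]
  rfl

theorem tb_gen : ∀ i, tb (gen i) = tab i := by decide +kernel

theorem tb_ev : ∀ w, tb (ev w) = wt w := by
  intro w
  induction w with
  | nil => exact tb_one
  | cons i w ih =>
    show tb (gen i * ev w) = comp (tab i) (wt w)
    rw [tb_mul, ih, tb_gen]

theorem apply_eq_getD (σ : Perm (Fin 12)) (p : Fin 12) : σ p = (tb σ).getD p.val 0 := by
  rw [tb, List.getD_eq_getElem _ _ (by rw [List.length_ofFn]; exact p.2), List.getElem_ofFn]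

/-- The subgroup generated by the first `k` generators. -/
def lvl (k : ℕ) : Subgroup (Perm (Fin 12)) := Subgroup.closure {σ | ∃ i : Fin 8, i.val < k ∧ σ = gen i}

theorem ev_mem (k : ℕ) : ∀ w : List (Fin 8), (∀ i ∈ w, i.val < k) → ev w ∈ lvl k := by
  intro w
  induction w with
  | nil => intro _; exact one_mem _
  | cons i w ih =>
    intro h
    show gen i * ev w ∈ lvl k
    exact mul_mem (Subgroup.subset_closure ⟨i, h i (by simp), rfl⟩) (ih fun j hj => h j (by simp [hj]))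

theorem lvl_mono {k l : ℕ} (h : k ≤ l) : lvl k ≤ lvl l :=
  Subgroup.closure_mono fun _ ⟨i, hi, e⟩ => ⟨i, by omega, e⟩

theorem lvl_fix {k : ℕ} {p : Fin 12} (h : ∀ i : Fin 8, i.val < k → (tab i).getD p.val 0 = p) :
    ∀ σ ∈ lvl k, σ p = p := by
  intro σ hσ
  induction hσ using Subgroup.closure_induction with
  | mem x hx => obtain ⟨i, hi, rfl⟩ := hx; rw [apply_eq_getD, tb_gen, h i hi]
  | one => rfl
  | mul x y _ _ hx hy => rw [Perm.mul_apply, hy, hx]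
  | inv x _ hx =>
    conv_lhs => rw [← hx]
    exact x.symm_apply_apply p

/-- A set containing one and closed under left multiplication by generators is everything. -/
theorem lvl_induction {k : ℕ} {T : Set (Perm (Fin 12))} (h1 : (1 : Perm (Fin 12)) ∈ T)
    (hmul : ∀ i : Fin 8, i.val < k → ∀ x ∈ T, gen i * x ∈ T) : ∀ σ ∈ lvl k, σ ∈ T := by
  intro σ hσ
  rw [lvl, ← Subgroup.mem_toSubmonoid, Subgroup.closure_toSubmonoid_of_finite] at hσ
  induction hσ using Submonoid.closure_induction_left with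
  | one => exact h1
  | mul_left x hx y _ ih => obtain ⟨i, hi, rfl⟩ := hx; exact hmul i hi y ih

/-- The group of order 72. -/
def t0 : List (List (Fin 12)) := w0.map wt

theorem base_closed : ∀ i : Fin 8, i.val < 5 → ∀ l ∈ t0, comp (tab i) l ∈ t0 := by decide +kernel

/-- Membership test for a level. -/
def test (R : List (List (Fin 8) × List (Fin 8))) (p : Fin 12) (T : List (Fin 12) → Bool)
    (l : List (Fin 12)) : Bool :=
  R.any fun r => decide ((wt r.1).getD p.val 0 = l.getD p.val 0) && T (comp (wt r.2) l)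

/-- Level tests. -/
def T0 (l : List (Fin 12)) : Bool := decide (l ∈ t0)
/-- Level tests. -/
def T1 : List (Fin 12) → Bool := test r1 0 T0
/-- Level tests. -/
def T2 : List (Fin 12) → Bool := test r2 1 T1

theorem step (R : List (List (Fin 8) × List (Fin 8))) (p : Fin 12) (k k' : ℕ) (hkk : k ≤ k')
    (T : List (Fin 12) → Bool) (hT : ∀ σ, T (tb σ) = true → σ ∈ lvl k) (m : ℕ)
    (hm : Nat.card (lvl k) = m) (hfix : ∀ σ ∈ lvl k, σ p = p)
    (hw : ∀ r ∈ R, (∀ i ∈ r.1, i.val < k') ∧ (∀ i ∈ r.2, i.val < k') ∧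
      comp (wt r.2) (wt r.1) = List.ofFn id)
    (hnd : (R.map fun r => (wt r.1).getD p.val 0).Nodup)
    (hone : ∃ r ∈ R, T (wt r.2) = true)
    (hclosed : ∀ i : Fin 8, i.val < k' → ∀ r ∈ R, ∃ r' ∈ R,
      T (comp (wt r'.2) (comp (tab i) (wt r.1))) = true) :
    Nat.card (lvl k') = R.length * m ∧
    (∀ σ, test R p T (tb σ) = true → σ ∈ lvl k') ∧
    (∀ σ ∈ lvl k', σ p = p → σ ∈ lvl k) := by
  classical
  have hinv : ∀ r ∈ R, ev r.2 * ev r.1 = 1 := fun r hr => tb_injective (by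
    rw [tb_mul, tb_ev, tb_ev, (hw r hr).2.2, tb_one])
  have hinv' : ∀ r ∈ R, ev r.1 * ev r.2 = 1 := fun r hr => mul_eq_one_comm.1 (hinv r hr)
  have hall : ∀ σ ∈ lvl k', ∃ r ∈ R, ∃ h ∈ lvl k, σ = ev r.1 * h := by
    refine lvl_induction (T := {σ | ∃ r ∈ R, ∃ h ∈ lvl k, σ = ev r.1 * h}) ?_ ?_
    · obtain ⟨r, hr, h⟩ := hone
      refine ⟨r, hr, ev r.2, hT _ (by rw [tb_ev]; exact h), (hinv' r hr).symm⟩
    · rintro i hi _ ⟨r, hr, h, hh, rfl⟩
      obtain ⟨r', hr', h'⟩ := hclosed i hi r hr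
      refine ⟨r', hr', ev r'.2 * (gen i * ev r.1) * h, mul_mem (hT _ ?_) hh, ?_⟩
      · rw [tb_mul, tb_mul, tb_ev, tb_ev, tb_gen]; exact h'
      · simp only [← mul_assoc]
        rw [hinv' r' hr', one_mul]
  have hpt : ∀ r : List (Fin 8) × List (Fin 8), ∀ h ∈ lvl k, (ev r.1 * h) p = (wt r.1).getD p.val 0 := by
    intro r h hh
    rw [Perm.mul_apply, hfix h hh, apply_eq_getD, tb_ev]
  refine ⟨?_, ?_, ?_⟩
  · have hRnd : R.Nodup := hnd.of_map _
    let f : {r // r ∈ R.toFinset} × lvl k → lvl k' := fun x =>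
      ⟨ev x.1.1.1 * x.2.1, mul_mem (ev_mem k' _ (hw _ (List.mem_toFinset.1 x.1.2)).1)
        (lvl_mono hkk x.2.2)⟩
    have hf : Function.Bijective f := by
      constructor
      · rintro ⟨r, h⟩ ⟨r', h'⟩ he
        have he' := congrArg Subtype.val he
        have hp' := congrArg (fun σ : Perm (Fin 12) => σ p) he'
        simp only [f] at hp'
        rw [hpt _ _ h.2, hpt _ _ h'.2] at hp'
        have hrr : r.1 = r'.1 := List.inj_on_of_nodup_map hnd (List.mem_toFinset.1 r.2)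
          (List.mem_toFinset.1 r'.2) hp'
        obtain rfl : r = r' := Subtype.ext hrr
        exact Prod.ext rfl (Subtype.ext (mul_left_cancel he'))
      · rintro ⟨σ, hσ⟩
        obtain ⟨r, hr, h, hh, rfl⟩ := hall σ hσ
        exact ⟨(⟨r, List.mem_toFinset.2 hr⟩, ⟨h, hh⟩), rfl⟩
    rw [← Nat.card_congr (Equiv.ofBijective f hf), Nat.card_prod, hm, Nat.card_eq_finsetCard,
      List.toFinset_card_of_nodup hRnd]
  · intro σ h
    rw [test, List.any_eq_true] at h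
    obtain ⟨r, hr, h⟩ := h
    rw [Bool.and_eq_true] at h
    have h2 : ev r.2 * σ ∈ lvl k := hT _ (by rw [tb_mul, tb_ev]; exact h.2)
    have : σ = ev r.1 * (ev r.2 * σ) := by rw [← mul_assoc, hinv' r hr, one_mul]
    rw [this]
    exact mul_mem (ev_mem k' _ (hw r hr).1) (lvl_mono hkk h2)
  · intro σ hσ hσp
    obtain ⟨r, hr, h, hh, rfl⟩ := hall σ hσ
    obtain ⟨r₀, hr₀, h₀⟩ := hone
    have e0 : ev r₀.1 ∈ lvl k := by
      have h2 : ev r₀.2 ∈ lvl k := hT _ (by rw [tb_ev]; exact h₀)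
      have := inv_mem h2
      rwa [← eq_inv_of_mul_eq_one_right (hinv r₀ hr₀)] at this
    have heq : r = r₀ := by
      refine List.inj_on_of_nodup_map hnd hr hr₀ ?_
      rw [← hpt r h hh, hσp, ← tb_ev, ← apply_eq_getD, hfix _ e0]
    subst heq
    exact mul_mem e0 hh

theorem card0 : Nat.card (lvl 5) = 72 ∧ (∀ σ, T0 (tb σ) = true → σ ∈ lvl 5) ∧
    (∀ σ ∈ lvl 5, tb σ ∈ t0) := by
  have hw0 : ∀ w ∈ w0, ∀ i ∈ w, (i : Fin 8).val < 5 := by decide +kernel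
  have hmem : ∀ σ, T0 (tb σ) = true → σ ∈ lvl 5 := by
    intro σ h
    obtain ⟨w, hw, he⟩ := List.mem_map.1 (of_decide_eq_true h)
    rw [← tb_ev] at he
    rw [← tb_injective he]
    exact ev_mem 5 w (hw0 w hw)
  have hall : ∀ σ ∈ lvl 5, tb σ ∈ t0 := by
    refine lvl_induction (T := {σ | tb σ ∈ t0}) ?_ ?_
    · show tb 1 ∈ t0
      rw [tb_one]
      decide +kernel
    · intro i hi x hx
      show tb (gen i * x) ∈ t0
      rw [tb_mul, tb_gen]
      exact base_closed i hi _ hx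
  have hnd : t0.Nodup := by decide +kernel
  refine ⟨?_, hmem, hall⟩
  have hlen : t0.toFinset.card = 72 := by
    rw [List.toFinset_card_of_nodup hnd]; decide +kernel
  rw [← hlen, ← Nat.card_eq_finsetCard]
  refine Nat.card_congr (Equiv.ofBijective
    (fun σ : lvl 5 => (⟨tb σ.1, List.mem_toFinset.2 (hall σ.1 σ.2)⟩ : t0.toFinset)) ⟨?_, ?_⟩)
  · intro a b h; exact Subtype.ext (tb_injective (congrArg Subtype.val h))
  · rintro ⟨l, hl⟩
    obtain ⟨w, hw, rfl⟩ := List.mem_map.1 (List.mem_toFinset.1 hl)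
    exact ⟨⟨ev w, ev_mem 5 w (hw0 w hw)⟩, Subtype.ext (tb_ev w)⟩

theorem level1 : Nat.card (lvl 6) = r1.length * 72 ∧
    (∀ σ, test r1 0 T0 (tb σ) = true → σ ∈ lvl 6) ∧
    (∀ σ ∈ lvl 6, σ 0 = 0 → σ ∈ lvl 5) :=
  step r1 0 5 6 (by norm_num) T0 card0.2.1 72 card0.1
    (lvl_fix (by decide +kernel)) (by decide +kernel) (by decide +kernel) (by decide +kernel)
    (by decide +kernel)

theorem level2 : Nat.card (lvl 7) = r2.length * (r1.length * 72) ∧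
    (∀ σ, test r2 1 T1 (tb σ) = true → σ ∈ lvl 7) ∧
    (∀ σ ∈ lvl 7, σ 1 = 1 → σ ∈ lvl 6) :=
  step r2 1 6 7 (by norm_num) T1 level1.2.1 _ level1.1
    (lvl_fix (by decide +kernel)) (by decide +kernel) (by decide +kernel) (by decide +kernel)
    (by decide +kernel)

theorem level3 : Nat.card (lvl 8) = r3.length * (r2.length * (r1.length * 72)) ∧
    (∀ σ, test r3 2 T2 (tb σ) = true → σ ∈ lvl 8) ∧
    (∀ σ ∈ lvl 8, σ 2 = 2 → σ ∈ lvl 7) :=
  step r3 2 7 8 (by norm_num) T2 level2.2.1 _ level2.1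
    (lvl_fix (by decide +kernel)) (by decide +kernel) (by decide +kernel) (by decide +kernel)
    (by decide +kernel)

theorem sharply (M : Subgroup (Perm (Fin 12))) (hM : M = lvl 8) :
    MulAction.IsMultiplyPretransitive M (Fin 12) 5 ∧
      (∀ y : Fin 5 ↪ Fin 12, MulAction.stabilizer M y = ⊥) := by
  subst hM
  classical
  haveI := Fintype.ofFinite (lvl 8)
  let y0 : Fin 5 ↪ Fin 12 := ⟨![2, 1, 0, 3, 4], by decide⟩
  have hstab : ∀ g : lvl 8, g • y0 = y0 → g = 1 := by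
    intro g hg
    have hfx : ∀ i, (g : Perm (Fin 12)) (y0 i) = y0 i := fun i => by
      have := congrArg (fun e : Fin 5 ↪ Fin 12 => e i) hg
      exact this
    have h1 := level3.2.2 _ g.2 (hfx 0)
    have h2 := level2.2.2 _ h1 (hfx 1)
    have h3 := level1.2.2 _ h2 (hfx 2)
    have h4 := card0.2.2 _ h3
    have key : ∀ l ∈ t0, l.getD 3 0 = 3 → l.getD 4 0 = 4 → l = List.ofFn id := by decide +kernel
    apply Subtype.ext
    apply tb_injective
    rw [OneMemClass.coe_one, tb_one]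
    refine key _ h4 ?_ ?_
    · rw [show (3 : ℕ) = (3 : Fin 12).val from rfl, ← apply_eq_getD]; exact hfx 3
    · rw [show (4 : ℕ) = (4 : Fin 12).val from rfl, ← apply_eq_getD]; exact hfx 4
  let φ : lvl 8 → (Fin 5 ↪ Fin 12) := fun g => g • y0
  have hinj : Function.Injective φ := by
    intro a b h
    have := hstab (b⁻¹ * a) ((mul_smul _ _ _).trans (inv_smul_eq_iff.2 h))
    exact (inv_mul_eq_one.1 this).symm
  have hcard : Fintype.card (lvl 8) = Fintype.card (Fin 5 ↪ Fin 12) := by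
    rw [← Nat.card_eq_fintype_card, level3.1, Fintype.card_embedding_eq, Fintype.card_fin,
      Fintype.card_fin]
    decide +kernel
  have hbij : Function.Bijective φ := (Fintype.bijective_iff_injective_and_card φ).2 ⟨hinj, hcard⟩
  refine ⟨⟨fun x y => ?_⟩, fun y => ?_⟩
  · obtain ⟨a, rfl⟩ := hbij.2 x
    obtain ⟨b, rfl⟩ := hbij.2 y
    exact ⟨b * a⁻¹, show (b * a⁻¹) • φ a = φ b from
      (mul_smul b a⁻¹ (φ a)).trans (congrArg (b • ·) (inv_smul_smul a y0))⟩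
  · obtain ⟨a, rfl⟩ := hbij.2 y
    rw [Subgroup.eq_bot_iff_forall]
    intro g hg
    have h2 : φ (g * a) = φ a := (mul_smul g a y0).trans hg
    exact mul_eq_right.1 (hinj h2)

theorem result
    (s t u v w x₁ x₂ x₃ : Equiv.Perm (Fin 12))
    (hs : s = Equiv.swap (3 : Fin 12) 5 * Equiv.swap (3 : Fin 12) 4 * Equiv.swap (6 : Fin 12) 8 * Equiv.swap (6 : Fin 12) 7 * Equiv.swap (9 : Fin 12) 11 * Equiv.swap (9 : Fin 12) 10) (ht : t = Equiv.swap (3 : Fin 12) 9 * Equiv.swap (3 : Fin 12) 6 * Equiv.swap (4 : Fin 12) 10 * Equiv.swap (4 : Fin 12) 7 * Equiv.swap (5 : Fin 12) 11 * Equiv.swap (5 : Fin 12) 8)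
    (hu : u = Equiv.swap (4 : Fin 12) 9 * Equiv.swap (4 : Fin 12) 5 * Equiv.swap (4 : Fin 12) 6 * Equiv.swap (7 : Fin 12) 10 * Equiv.swap (7 : Fin 12) 11 * Equiv.swap (7 : Fin 12) 8) (hv : v = Equiv.swap (4 : Fin 12) 11 * Equiv.swap (4 : Fin 12) 5 * Equiv.swap (4 : Fin 12) 7 * Equiv.swap (6 : Fin 12) 8 * Equiv.swap (6 : Fin 12) 9 * Equiv.swap (6 : Fin 12) 10) (hw : w = Equiv.swap (4 : Fin 12) 8 * Equiv.swap (4 : Fin 12) 5 * Equiv.swap (4 : Fin 12) 10 * Equiv.swap (6 : Fin 12) 7 * Equiv.swap (6 : Fin 12) 9 * Equiv.swap (6 : Fin 12) 11)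
    (hx₁ : x₁ = Equiv.swap (0 : Fin 12) 3 * Equiv.swap (6 : Fin 12) 7 * Equiv.swap (8 : Fin 12) 10 * Equiv.swap (9 : Fin 12) 11) (hx₂ : x₂ = Equiv.swap (0 : Fin 12) 1 * Equiv.swap (6 : Fin 12) 9 * Equiv.swap (7 : Fin 12) 10 * Equiv.swap (8 : Fin 12) 11)
    (hx₃ : x₃ = Equiv.swap (1 : Fin 12) 2 * Equiv.swap (6 : Fin 12) 11 * Equiv.swap (7 : Fin 12) 9 * Equiv.swap (8 : Fin 12) 10)
    (M₁₂ M₁₁ : Subgroup (Equiv.Perm (Fin 12))) (hM₁₂ : M₁₂ = Subgroup.closure {s, t, u, v, w, x₁, x₂, x₃})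
    (hM₁₁ : M₁₁ = Subgroup.closure {s, t, u, v, w, x₁, x₂}) :
    MulAction.IsMultiplyPretransitive M₁₂ (Fin 12) 5 ∧ (∀ y : Fin 5 ↪ Fin 12, MulAction.stabilizer M₁₂ y = ⊥) ∧
    Nat.card M₁₂ = 95040 ∧ Nat.card M₁₁ = 7920 ∧
    M₁₁ = M₁₂ ⊓ MulAction.stabilizer (Equiv.Perm (Fin 12)) (2 : Fin 12) := by
  subst hs ht hu hv hw hx₁ hx₂ hx₃
  have e8 : M₁₂ = lvl 8 := by
    rw [hM₁₂, lvl]
    congr 1
    ext σ
    simp [Fin.exists_fin_succ, gen]
  have e7 : M₁₁ = lvl 7 := by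
    rw [hM₁₁, lvl]
    congr 1
    ext σ
    simp [Fin.exists_fin_succ, gen]
  have h7 : M₁₁ ≤ M₁₂ := by rw [e7, e8]; exact lvl_mono (by norm_num)
  refine ⟨(sharply _ e8).1, (sharply _ e8).2, ?_, ?_, ?_⟩
  · rw [e8, level3.1]; decide +kernel
  · rw [e7, level2.1]; decide +kernel
  · refine le_antisymm (le_inf h7 fun σ hσ => ?_) fun σ hσ => ?_
    · rw [e7] at hσ
      exact lvl_fix (p := 2) (by decide +kernel) σ hσ
    · rw [e7]
      exact level3.2.2 σ (e8 ▸ hσ.1) hσ.2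

end Cfsg.Agent.S3362
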