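import Cfsg.Statements.S3365
import Cfsg.Agent.Lib.Fix4.One
import Cfsg.Agent.Lib.Fix4.Two
import Cfsg.Agent.Lib.Fix4.ThreeMain

set_option autoImplicit false
open Cfsg

namespace Cfsg.Agent.S3365

/-- Finite simple groups acting with fixity 4. Let G be a finite non-abelian simple group acting faithfully and transitively on a finite set so that every non-identity element fixes at most 4 points and some non-identity element fixes exactly 4 (fixity 4). Let P be a Sylow 3-subgroup, S a Sylow 2-subgroup, f the largest number of fixed points of an involution of G, and a a point. Then one of the following holds: (1) f ≥ 1 and G has a strongly embedded subgroup; (2) 1 ≤ f ≤ 3 and S is dihedral or semidihedral; (3) f = 4 and G has sectional 2-rank at most 4; (4) the point stabilizer G_a has odd order divisible by 3 and either G has a strongly 3-embedded subgroup (a proper subgroup H of order divisible by 3 such that H ∩ gHg⁻¹ has order prime to 3 for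 every element g outside H), or |P| = 3 and a Sylow 2-subgroup of N_G(P) has order at most 4, or P is elementary abelian of order 9, or P is extraspecial of order 27 and exponent 3, or P is isomorphic to a Sylow 3-subgroup of Sym(9) (the wreath product C₃ ≀ C₃); (5) G_a has order prime to 6. -/
theorem result {G Ω : Type*} [Group G] [Finite G] [IsSimpleGroup G] (hna : ¬ IsMulCommutative G)
    [MulAction G Ω] [FaithfulSMul G Ω] [Finite Ω] (htrans : MulAction.IsPretransitive G Ω)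
    (hfix : ∀ g : G, g ≠ 1 → Nat.card (MulAction.fixedBy Ω g) ≤ 4)
    (hfix4 : ∃ g : G, g ≠ 1 ∧ Nat.card (MulAction.fixedBy Ω g) = 4)
    (P : Sylow 3 G) (S : Sylow 2 G) (f : ℕ)
    (hf : ∀ g : G, orderOf g = 2 → Nat.card (MulAction.fixedBy Ω g) ≤ f)
    (hf' : ∃ g : G, orderOf g = 2 ∧ Nat.card (MulAction.fixedBy Ω g) = f) (a : Ω) :
    (1 ≤ f ∧ ∃ H : Subgroup G, Cfsg.IsStronglyEmbedded H) ∨
    (1 ≤ f ∧ f ≤ 3 ∧ ((∃ n : ℕ, Nonempty ((S : Subgroup G) ≃* DihedralGroup n)) ∨ Cfsg.IsQuasiDihedral (S : Subgroup G))) ∨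
    (f = 4 ∧ Cfsg.SectionalPRankLE 2 4 G) ∨
    (Odd (Nat.card (MulAction.stabilizer G a)) ∧ 3 ∣ Nat.card (MulAction.stabilizer G a) ∧
      ((∃ H : Subgroup G, H ≠ ⊤ ∧ 3 ∣ Nat.card H ∧ ∀ g : G, g ∉ H → ¬ 3 ∣ Nat.card ↥(H ⊓ H.map (MulAut.conj g).toMonoidHom)) ∨
       (Nat.card P = 3 ∧ ∀ T : Sylow 2 (Subgroup.normalizer ((P : Subgroup G) : Set G)), Nat.card T ≤ 4) ∨
       (Nat.card P = 9 ∧ ∀ x ∈ (P : Subgroup G), x ^ 3 = 1) ∨
       (Nat.card P = 27 ∧ Cfsg.IsExtraspecial 3 (P : Subgroup G) ∧ ∀ x ∈ (P : Subgroup G), x ^ 3 = 1) ∨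
       (∃ T : Sylow 3 (Equiv.Perm (Fin 9)), Nonempty ((P : Subgroup G) ≃* (T : Subgroup (Equiv.Perm (Fin 9))))))) ∨
    (Nat.card (MulAction.stabilizer G a)).Coprime 6 := by
  classical
  haveI : Fact (Nat.Prime 2) := ⟨Nat.prime_two⟩
  haveI : Fact (Nat.Prime 3) := ⟨Nat.prime_three⟩
  haveI := htrans
  have hfix' : Cfsg.Lib.Fix4.Fixity G Ω := fun g hg => by rw [← Nat.card_coe_set_eq]; exact hfix g hg
  have hf2 : ∀ g : G, orderOf g = 2 → (MulAction.fixedBy Ω g).ncard ≤ f := fun g hg => by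
    rw [← Nat.card_coe_set_eq]; exact hf g hg
  obtain ⟨g0, hg0, hg0f⟩ := hf'
  rw [Nat.card_coe_set_eq] at hg0f
  have hmod : ∀ g : G, orderOf g = 2 → Nat.card Ω % 4 = (MulAction.fixedBy Ω g).ncard % 4 := fun g hg =>
    Cfsg.Lib.Fix4.fix_four hna (by rw [← hg, pow_orderOf_eq_one])
  have hf4 : f ≤ 4 := hg0f ▸ hfix' g0 (Cfsg.Lib.Fix4.ne_one_of_prime Nat.prime_two hg0)
  rcases (by omega : f = 0 ∨ (1 ≤ f ∧ f ≤ 3) ∨ f = 4) with hf0 | ⟨hf1, hf3⟩ | hf44
  · have hodd : ∀ b : Ω, Odd (Nat.card (MulAction.stabilizer G b)) := by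
      intro b
      rw [← Nat.not_even_iff_odd, even_iff_two_dvd]
      intro hd
      obtain ⟨y, hy, hyo⟩ := Cfsg.Lib.Fix4.exists_order_prime hd
      have h1 := hf2 y hyo
      rw [hf0, Nat.le_zero, Set.ncard_eq_zero (Set.toFinite _)] at h1
      exact (h1.le (show b ∈ MulAction.fixedBy Ω y from hy) : b ∈ (∅ : Set Ω))
    by_cases h3 : 3 ∣ Nat.card (MulAction.stabilizer G a)
    · obtain ⟨y, hy, hyo⟩ := Cfsg.Lib.Fix4.exists_order_prime h3
      have T : Cfsg.Lib.Fix4.Tri G Ω := ⟨hfix', fun g e he => by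
        have h : orderOf g ∣ Nat.card (MulAction.stabilizer G e) := Subgroup.orderOf_dvd_natCard _ he
        exact Odd.of_dvd_nat (hodd e) h⟩
      refine Or.inr (Or.inr (Or.inr (Or.inl ⟨hodd a, h3, ?_⟩)))
      rcases T.main hna htrans P ⟨y, a, hyo, hy⟩ with h | h
      · exact Or.inl h
      · exact Or.inr (Or.inr (Or.inl h))
    · refine Or.inr (Or.inr (Or.inr (Or.inr ?_)))
      rw [show (6 : ℕ) = 2 * 3 from rfl]
      exact Nat.Coprime.mul_right (Nat.coprime_two_right.2 (hodd a))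
        ((Nat.prime_three.coprime_iff_not_dvd).2 h3).symm
  · have heq : ∀ g : G, orderOf g = 2 → (MulAction.fixedBy Ω g).ncard = f := fun g hg => by
      have h1 := hmod g hg
      have h2 := hmod g0 hg0
      have h3 := hf2 g hg
      omega
    rcases Cfsg.Lib.Fix4.one_three htrans S hf1 hf3 heq (hg0 ▸ orderOf_dvd_natCard g0) with h | h
    · exact Or.inl ⟨hf1, h⟩
    · exact Or.inr (Or.inl ⟨hf1, hf3, h⟩)
  · by_cases hrank : Cfsg.SectionalPRankLE 2 4 (S : Subgroup G)
    · exact Or.inr (Or.inr (Or.inl ⟨hf44, Cfsg.Lib.Fix4.of_sylow S hrank⟩))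
    have h2 := hmod g0 hg0
    have F : Cfsg.Lib.Fix4.Four Ω (S : Subgroup G) := ⟨S.isPGroup', hfix', fun g hg x hx => by
      have h1 := hmod g hg
      have h3 := hf2 g hg
      have h4 : 0 < (MulAction.fixedBy Ω g).ncard := (Set.ncard_pos (Set.toFinite _)).2 ⟨x, hx⟩
      omega, hrank⟩
    refine Or.inl ⟨by omega, Cfsg.Lib.Fix4.four_case hna htrans S F (by omega) ⟨g0, hg0, ?_⟩⟩
    exact Set.nonempty_of_ncard_ne_zero (by omega)

end Cfsg.Agent.S3365
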