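import Cfsg.Statements.S3366
import Cfsg.Agent.Lib.Recog.PSpFourThree
-- import your own Cfsg.Agent.* helpers here

set_option autoImplicit false
open Cfsg

namespace Cfsg.Agent.S3366

/-- Let X be a finite group with O₃(X) extraspecial of order 27 and exponent 3, X/O₃(X) isomorphic to SL(2,3), O₂(X) = 1, and a Sylow 3-subgroup of X containing an elementary abelian subgroup of order 27. Then X is isomorphic to the centralizer in PSp(4,3) of a 3-central element of order 3 (an element of order 3 in the centre of a Sylow 3-subgroup). -/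
theorem result {X : Type*} [Group X] [Finite X]
    (hR : Cfsg.IsExtraspecial 3 (Cfsg.pCore 3 X)) (hRcard : Nat.card (Cfsg.pCore 3 X) = 27)
    (hRexp : ∀ r ∈ Cfsg.pCore 3 X, r ^ 3 = 1)
    (e : X ⧸ Cfsg.pCore 3 X ≃* Matrix.SpecialLinearGroup (Fin 2) (ZMod 3))
    (hO2 : Cfsg.pCore 2 X = ⊥)
    (hE : ∃ E : Subgroup X, IsMulCommutative E ∧ (∀ a ∈ E, a ^ 3 = 1) ∧ Nat.card E = 27)
    (F : Type*) [Field F] [Fintype F] (hF : Fintype.card F = 3) :
    ∃ (c : Cfsg.PSp 2 F) (S : Sylow 3 (Cfsg.PSp 2 F)), orderOf c = 3 ∧ c ∈ (S : Subgroup (Cfsg.PSp 2 F)) ∧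
      c ∈ Subgroup.centralizer ((S : Subgroup (Cfsg.PSp 2 F)) : Set (Cfsg.PSp 2 F)) ∧
      Nonempty (X ≃* Subgroup.centralizer ({c} : Set (Cfsg.PSp 2 F))) := by
  classical
  haveI : Fact (Nat.Prime 3) := ⟨by norm_num⟩
  open Cfsg.Lib.Recog.HeisThree in
  obtain ⟨f, hf, hmul⟩ := exists_model hR hRcard hRexp e hO2 hE
  obtain ⟨Φ, hΦ, hΦmul, hcen⟩ := Cfsg.Lib.Recog.PSpFourThree.exists_model hF
  let fe := Equiv.ofBijective f hf
  let Ψ : X →* Cfsg.PSp 2 F := MonoidHom.mk' (fun x => Φ (fe.symm x)) (fun x y => by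
    obtain ⟨⟨v, c, M⟩, rfl⟩ := fe.surjective x
    obtain ⟨⟨w, d, N⟩, rfl⟩ := fe.surjective y
    simp only [fe, Equiv.ofBijective_apply]
    rw [hmul]
    simp only [Equiv.ofBijective_symm_apply_apply]
    exact (hΦmul _ _ _ _ _ _).symm)
  have hΨf : ∀ p, Ψ (f p) = Φ p := fun p => congrArg Φ (fe.symm_apply_apply p)
  have hΨ : Function.Injective Ψ := hΦ.comp fe.symm.injective
  set z : X := f (0, 1, 1) with hzdef
  have hzc : ∀ x, z * x = x * z := by
    intro x
    obtain ⟨⟨w, d, N⟩, rfl⟩ := hf.2 x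
    rw [hzdef, hmul, hmul]
    simp [Cfsg.Lib.Recog.HeisThree.dt, add_comm]
  have hone : f (0, 0, 1) = 1 := by
    have h1 := hmul 0 0 1 0 0 1
    simp [Cfsg.Lib.Recog.HeisThree.dt] at h1
    exact h1
  have hz3 : z ^ 3 = 1 := by
    rw [pow_succ, sq, hzdef, hmul, hmul, ← hone]
    simp [Cfsg.Lib.Recog.HeisThree.dt]
    rw [show (1 + 1 + 1 : ZMod 3) = 0 from by linear_combination Cfsg.Lib.Recog.HeisThree.three_eq]
  have hzne : z ≠ 1 := by
    rw [hzdef, ← hone]
    intro h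
    have h1 := hf.1 h
    simp at h1
  have hcardX : Nat.card X = 648 := by
    rw [Subgroup.card_eq_card_quotient_mul_card_subgroup (Cfsg.pCore 3 X), hRcard,
      Nat.card_congr e.toEquiv, Cfsg.Lib.Recog.HeisThree.card_S23]
  obtain ⟨P⟩ : Nonempty (Sylow 3 X) := inferInstance
  have h81 : 81 ∣ Nat.card (P : Subgroup X) :=
    (show (3 : ℕ) ^ 4 ∣ Nat.card (P : Subgroup X) from P.pow_dvd_card_of_pow_dvd_card (by rw [hcardX]; norm_num))
  let Pi : Subgroup (Cfsg.PSp 2 F) := (P : Subgroup X).map Ψ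
  have hPicard : Nat.card Pi = Nat.card (P : Subgroup X) :=
    Nat.card_congr ((P : Subgroup X).equivMapOfInjective Ψ hΨ).toEquiv.symm
  have hidx : ¬ 3 ∣ Pi.index := by
    intro h3
    apply Cfsg.Lib.Recog.PSpFourThree.not_dvd_card hF
    rw [← Pi.card_mul_index, hPicard]
    exact (show 243 = 81 * 3 by norm_num) ▸ Nat.mul_dvd_mul h81 h3
  let S : Sylow 3 (Cfsg.PSp 2 F) := (P.2.map Ψ).toSylow hidx
  have hzP : z ∈ (P : Subgroup X) := by
    haveI : (Subgroup.zpowers z).Normal := ⟨fun n hn g => by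
      obtain ⟨k, rfl⟩ := Subgroup.mem_zpowers_iff.1 hn
      rw [((show Commute g z from (hzc g).symm).zpow_right k).eq, mul_inv_cancel_right]
      exact hn⟩
    have hp : IsPGroup 3 (Subgroup.zpowers z) :=
      IsPGroup.of_card (n := 1) (by rw [Nat.card_zpowers, orderOf_eq_prime hz3 hzne, pow_one])
    exact hp.le_sylow_of_normal P (Subgroup.mem_zpowers z)
  have hΨz : Ψ z = Φ (0, 1, 1) := hΨf _
  refine ⟨Ψ z, S, by rw [orderOf_injective Ψ hΨ]; exact orderOf_eq_prime hz3 hzne,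
    ⟨z, hzP, rfl⟩, ?_, ?_⟩
  · refine Subgroup.mem_centralizer_iff.2 ?_
    rintro _ ⟨p, _, rfl⟩
    rw [← map_mul, ← map_mul, hzc]
  · have hrange : Ψ.range = Subgroup.centralizer ({Ψ z} : Set (Cfsg.PSp 2 F)) := by
      ext g
      rw [Subgroup.mem_centralizer_singleton_iff]
      constructor
      · rintro ⟨x, rfl⟩
        rw [← map_mul, ← map_mul, hzc]
      · intro hg
        rw [hΨz] at hg
        obtain ⟨p, hp⟩ := hcen g hg
        exact ⟨f p, (hΨf p).trans hp⟩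
    exact ⟨(MonoidHom.ofInjective hΨ).trans (MulEquiv.subgroupCongr hrange)⟩

end Cfsg.Agent.S3366
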