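import Cfsg.Statements.S3367
import Cfsg.Agent.Lib.McLThree.Main
-- import your own Cfsg.Agent.* helpers here

set_option autoImplicit false
open Cfsg

namespace Cfsg.Agent.S3367

/-- A 3-local characterization of the McLaughlin group and its automorphism group. Let G be a finite group, S a Sylow 3-subgroup, Z = Z(S), and J ≤ S elementary abelian of order 3^4. Write M₀ for the subgroup generated by the 3-elements of N_G(J), L₀ for the subgroup generated by the 3-elements of N_G(Z), and Q = O₃(N_G(Z)). Assume: (i) J ≤ M₀ and M₀/J is isomorphic to the alternating group of degree 6; (ii) Q is extraspecial of order 3^5 and exponent 3, Q ≤ L₀, and L₀/Q is isomorphic to SL(2,5); (iii) for every non-identity x in J, C_G(O₃(C_G(x))) ≤ O₃(C_G(x)). Then G is isomorphic to the McLaughlin group or to its full automorphism group. -/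
theorem result {G : Type*} [Group G] [Finite G]
    (S : Sylow 3 G) (Z : Subgroup G) (hZ : Z = (S : Subgroup G) ⊓ Subgroup.centralizer ((S : Subgroup G) : Set G))
    (J : Subgroup G) (hJS : J ≤ S) (hJcomm : IsMulCommutative J) (hJexp : ∀ a ∈ J, a ^ 3 = 1) (hJcard : Nat.card J = 3 ^ 4)
    (M₀ : Subgroup G) (hM₀ : M₀ = Subgroup.closure {g : G | g ∈ Subgroup.normalizer (J : Set G) ∧ ∃ k : ℕ, orderOf g = 3 ^ k})
    (hJM : J ≤ M₀) [hJn : (J.subgroupOf M₀).Normal] (eM : M₀ ⧸ J.subgroupOf M₀ ≃* alternatingGroup (Fin 6))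
    (L₀ : Subgroup G) (hL₀ : L₀ = Subgroup.closure {g : G | g ∈ Subgroup.normalizer (Z : Set G) ∧ ∃ k : ℕ, orderOf g = 3 ^ k})
    (Q : Subgroup G) (hQ : Q = (Cfsg.pCore 3 (Subgroup.normalizer (Z : Set G))).map (Subgroup.normalizer (Z : Set G)).subtype)
    (hQex : Cfsg.IsExtraspecial 3 Q) (hQcard : Nat.card Q = 3 ^ 5) (hQexp : ∀ a ∈ Q, a ^ 3 = 1)
    (hQL : Q ≤ L₀) [hQn : (Q.subgroupOf L₀).Normal] (eL : L₀ ⧸ Q.subgroupOf L₀ ≃* Matrix.SpecialLinearGroup (Fin 2) (ZMod 5))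
    (hiii : ∀ x ∈ J, x ≠ 1 →
      Subgroup.centralizer (((Cfsg.pCore 3 (Subgroup.centralizer ({x} : Set G))).map (Subgroup.centralizer ({x} : Set G)).subtype : Subgroup G) : Set G)
        ≤ (Cfsg.pCore 3 (Subgroup.centralizer ({x} : Set G))).map (Subgroup.centralizer ({x} : Set G)).subtype) :
    Nonempty (G ≃* Cfsg.Spor.McL) ∨ Nonempty (G ≃* MulAut Cfsg.Spor.McL) := by
  obtain ⟨D, rfl⟩ := Cfsg.Lib.McLThree.exists_loc S Z hZ J hJS
    (fun a ha b hb => congrArg Subtype.val (hJcomm.is_comm.comm ⟨a, ha⟩ ⟨b, hb⟩))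
    hJexp hJcard M₀ hM₀ hJM eM L₀ hL₀ Q hQ hQex hQcard hQexp hQL eL (fun x hx h1 _ => hiii x hx h1)
  obtain ⟨t, ht, htt, htψ⟩ := D.exists_t
  let T : Cfsg.Lib.McLThree.LocT G :=
    { toLoc := D, t := t, t_L := ht, t_sq := htt, t_ψ := htψ }
  obtain ⟨θ, h1, h2, h3, htM, h4⟩ := T.exists_theta
  let F : Cfsg.Lib.McLThree.LocJ G :=
    { toLocT := T, θ := θ, θ_surj := h1, θ_ker := h2, θ_S := h3, t_M := htM, θ_t := h4 }
  obtain ⟨H, hH⟩ := F.exists_locH
  obtain ⟨C, hC⟩ := H.exists_locC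
  refine Cfsg.Lib.McLThree.mcl_or_aut C (Cfsg.Lib.McLThree.dec_of_core C.toLocH ?_)
  intro x hx hx1
  refine hiii x ?_ hx1
  rw [hC, hH] at hx
  exact hx

end Cfsg.Agent.S3367
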