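import Cfsg.Statements.S3374
import Cfsg.Agent.Lib.Recog.Icosahedral
import Cfsg.Agent.Lib.Solv.ComplementExamples
import Mathlib.LinearAlgebra.Matrix.ToLinearEquiv
-- import your own Cfsg.Agent.* helpers here

set_option autoImplicit false
open Cfsg

namespace Cfsg.Agent.S3374

open Matrix Cfsg.Lib.Recog.Icosa
open scoped MatrixGroups

abbrev SL11 := Matrix.SpecialLinearGroup (Fin 2) (ZMod 11)

/-- Generators of a binary icosahedral subgroup of `SL(2, 11)`. -/
def gens11 : Fin 3 → SL11 :=
  ![⟨!![7, 1; 9, 3], by decide⟩, ⟨!![3, 0; 0, 4], by decide⟩, ⟨!![10, 0; 0, 10], by decide⟩]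

theorem gens11_rels : ∀ r ∈ rels120, FreeGroup.lift gens11 r = 1 :=
  lift_rels120 gens11 (by decide +kernel) (by decide +kernel) (by decide +kernel) (by decide +kernel)
    (by decide +kernel) (by decide +kernel)

theorem neg_one_mem_of_sq : ∀ g : Matrix (Fin 2) (Fin 2) (ZMod 5), g.det = 1 → g * g = 1 →
    g = 1 ∨ g = !![4, 0; 0, 4] := by
  decide +kernel

theorem sl_sq (g : SL25) (h : g ^ 2 = 1) : g = 1 ∨ g = gensSL 2 := by
  have h' : (g : Matrix (Fin 2) (Fin 2) (ZMod 5)) * g = 1 := by
    rw [← Matrix.SpecialLinearGroup.coe_mul, ← sq, h, Matrix.SpecialLinearGroup.coe_one]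
  rcases neg_one_mem_of_sq _ g.2 h' with e | e
  · exact Or.inl (Subtype.ext e)
  · exact Or.inr (Subtype.ext e)

theorem exists_fpf_hom : ∃ f : SL25 →* SL11, ∀ g : SL25, g ≠ 1 →
    ((f g : Matrix (Fin 2) (Fin 2) (ZMod 11)) - 1).det ≠ 0 := by
  classical
  haveI : Fact (Nat.Prime 11) := ⟨by norm_num⟩
  obtain ⟨hfin, -⟩ := finite_presented_120
  have hcardP := finite_presented_120.2
  haveI := hfin
  have hle := Nat.card_le_card_of_surjective _ toGroup_surjective
  rw [card_sl_two_five] at hle
  let e : PresentedGroup rels120 ≃* SL25 := MulEquiv.ofBijective (PresentedGroup.toGroup gensSL_rels)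
    ((Nat.bijective_iff_surjective_and_card _).2 ⟨toGroup_surjective, by rw [card_sl_two_five]; omega⟩)
  let f : SL25 →* SL11 := (PresentedGroup.toGroup gens11_rels).comp e.symm.toMonoidHom
  have hfi : ∀ i, f (gensSL i) = gens11 i := by
    intro i
    have : e.symm (gensSL i) = PresentedGroup.of i := by
      rw [MulEquiv.symm_apply_eq]
      exact (PresentedGroup.toGroup.of gensSL_rels).symm
    show PresentedGroup.toGroup gens11_rels (e.symm (gensSL i)) = _
    rw [this]
    exact PresentedGroup.toGroup.of gens11_rels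
  haveI : Fact (Nat.Prime 2) := ⟨Nat.prime_two⟩
  -- the kernel has odd order, hence consists of elements of order 1, 3 or 5
  have hker : ∀ g : SL25, f g = 1 → g = 1 := by
    by_contra hne
    push Not at hne
    obtain ⟨g, hg, hg1⟩ := hne
    haveI : f.ker.Normal := MonoidHom.normal_ker f
    have hK : f.ker ≠ ⊥ := fun e => hg1 (by simpa [e] using (MonoidHom.mem_ker (f := f)).2 hg)
    have hodd : ¬ 2 ∣ Nat.card f.ker := by
      intro h2
      obtain ⟨⟨w, hw⟩, hwo⟩ := exists_prime_orderOf_dvd_card' 2 h2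
      rw [Subgroup.orderOf_mk] at hwo
      rcases sl_sq w (by have h := pow_orderOf_eq_one w; rwa [hwo] at h) with rfl | rfl
      · simp at hwo
      · rw [MonoidHom.mem_ker, hfi] at hw
        exact absurd hw (by decide +kernel)
    have hdvd : Nat.card f.ker ∣ 120 := card_sl_two_five ▸ Subgroup.card_subgroup_dvd_card _
    have h15 : Nat.card f.ker ∣ 15 := by
      have hc : (Nat.card f.ker).Coprime 8 := by
        rw [show (8 : ℕ) = 2 ^ 3 from rfl]
        exact Nat.Coprime.pow_right _ ((Nat.prime_two.coprime_iff_not_dvd.2 hodd).symm)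
      exact hc.dvd_of_dvd_mul_left (show Nat.card f.ker ∣ 8 * 15 from hdvd)
    -- so the image has order divisible by eight and the kernel meets each cyclic generator trivially
    have hone : Nat.card f.ker = 1 := by
      have h3 : ¬ 3 ∣ Nat.card f.ker := by
        intro h
        haveI : Fact (Nat.Prime 3) := ⟨Nat.prime_three⟩
        obtain ⟨⟨w, hw⟩, hwo⟩ := exists_prime_orderOf_dvd_card' 3 h
        rw [Subgroup.orderOf_mk] at hwo
        obtain ⟨P, hP⟩ := (IsPGroup.of_card (n := 1) (by rw [Nat.card_zpowers, hwo, pow_one]) :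
          IsPGroup 3 (Subgroup.zpowers w)).exists_le_sylow
        have hgo : orderOf (gensSL 0) = 3 := orderOf_eq_prime (by decide +kernel) (by decide +kernel)
        obtain ⟨Q, hQ⟩ := (IsPGroup.of_card (n := 1) (by rw [Nat.card_zpowers, hgo, pow_one]) :
          IsPGroup 3 (Subgroup.zpowers (gensSL 0))).exists_le_sylow
        have hc : ∀ R : Sylow 3 SL25, Nat.card (R : Subgroup SL25) = 3 := fun R => by
          rw [Cfsg.Lib.Small.card_sylow 1 40 (by rw [card_sl_two_five]; norm_num) (by norm_num) R, pow_one]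
        have hwP : Subgroup.zpowers w = P := Subgroup.eq_of_le_of_card_ge hP
          (by rw [hc, Nat.card_zpowers, hwo])
        obtain ⟨c, hc'⟩ := MulAction.exists_smul_eq SL25 P Q
        have h1 : gensSL 0 ∈ ((c • P : Sylow 3 SL25) : Subgroup SL25) := by rw [hc']; exact hQ (Subgroup.mem_zpowers _)
        rw [Sylow.coe_subgroup_smul] at h1
        obtain ⟨v, hv, hvg⟩ := h1
        rw [SetLike.mem_coe, ← hwP] at hv
        have hvk : v ∈ f.ker := Subgroup.zpowers_le.2 hw hv
        have h2 : f (gensSL 0) = 1 := by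
          rw [← hvg]
          exact MonoidHom.mem_ker.1 (‹f.ker.Normal›.conj_mem v hvk c)
        rw [hfi] at h2
        exact absurd h2 (by decide +kernel)
      have h5 : ¬ 5 ∣ Nat.card f.ker := by
        intro h
        obtain ⟨⟨w, hw⟩, hwo⟩ := exists_prime_orderOf_dvd_card' 5 h
        rw [Subgroup.orderOf_mk] at hwo
        obtain ⟨P, hP⟩ := (IsPGroup.of_card (n := 1) (by rw [Nat.card_zpowers, hwo, pow_one]) :
          IsPGroup 5 (Subgroup.zpowers w)).exists_le_sylow
        have hgo : orderOf (gensSL 1) = 5 := orderOf_eq_prime (by decide +kernel) (by decide +kernel)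
        obtain ⟨Q, hQ⟩ := (IsPGroup.of_card (n := 1) (by rw [Nat.card_zpowers, hgo, pow_one]) :
          IsPGroup 5 (Subgroup.zpowers (gensSL 1))).exists_le_sylow
        have hc : ∀ R : Sylow 5 SL25, Nat.card (R : Subgroup SL25) = 5 := fun R => by
          rw [Cfsg.Lib.Small.card_sylow 1 24 (by rw [card_sl_two_five]; norm_num) (by norm_num) R, pow_one]
        have hwP : Subgroup.zpowers w = P := Subgroup.eq_of_le_of_card_ge hP
          (by rw [hc, Nat.card_zpowers, hwo])
        obtain ⟨c, hc'⟩ := MulAction.exists_smul_eq SL25 P Q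
        have h1 : gensSL 1 ∈ ((c • P : Sylow 5 SL25) : Subgroup SL25) := by rw [hc']; exact hQ (Subgroup.mem_zpowers _)
        rw [Sylow.coe_subgroup_smul] at h1
        obtain ⟨v, hv, hvg⟩ := h1
        rw [SetLike.mem_coe, ← hwP] at hv
        have hvk : v ∈ f.ker := Subgroup.zpowers_le.2 hw hv
        have h2 : f (gensSL 1) = 1 := by
          rw [← hvg]
          exact MonoidHom.mem_ker.1 (‹f.ker.Normal›.conj_mem v hvk c)
        rw [hfi] at h2
        exact absurd h2 (by decide +kernel)
      have := Nat.le_of_dvd (by norm_num) h15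
      generalize Nat.card f.ker = k at h15 h3 h5 this
      interval_cases k <;> first | rfl | omega | (norm_num at h15)
    exact hK (Subgroup.card_eq_one.1 hone)
  refine ⟨f, fun g hg hdet => hg (hker g ?_)⟩
  -- an element with eigenvalue one is unipotent
  set A : Matrix (Fin 2) (Fin 2) (ZMod 11) := (f g : Matrix (Fin 2) (Fin 2) (ZMod 11))
  have hA : A.det = 1 := (f g).2
  have hnil : (A - 1) * (A - 1) = 0 := by
    rw [Matrix.det_fin_two] at hdet hA
    simp only [Matrix.sub_apply, Matrix.one_apply_eq, Matrix.one_apply_ne zero_ne_one,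
      Matrix.one_apply_ne one_ne_zero, sub_zero] at hdet
    ext i j
    fin_cases i <;> fin_cases j <;> simp [Matrix.mul_apply, Fin.sum_univ_two] <;>
      first
        | linear_combination -hA + (A 0 0) * (hA - hdet) - (hA - hdet) * (1 : ZMod 11) + hA - hdet
        | linear_combination (A 0 1) * (hA - hdet)
        | linear_combination (A 1 0) * (hA - hdet)
        | linear_combination -hA + (A 1 1) * (hA - hdet) - (hA - hdet) * (1 : ZMod 11) + hA - hdet
  have h11 : (f g) ^ 11 = 1 := by
    apply Subtype.ext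
    rw [Matrix.SpecialLinearGroup.coe_pow, Matrix.SpecialLinearGroup.coe_one]
    haveI : CharP (Matrix (Fin 2) (Fin 2) (ZMod 11)) 11 := Matrix.charP 11
    have h := sub_pow_char_of_commute (p := 11) (Commute.one_right A)
    rw [one_pow, show (A - 1) ^ 11 = (A - 1) ^ 2 * (A - 1) ^ 9 from pow_add _ 2 9, sq, hnil, zero_mul] at h
    exact sub_eq_zero.1 h.symm
  have hord : orderOf (f g) ∣ 120 :=
    (orderOf_map_dvd f g).trans (card_sl_two_five ▸ orderOf_dvd_natCard g)
  have h1 := Nat.dvd_gcd (orderOf_dvd_of_pow_eq_one h11) hord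
  rw [show Nat.gcd 11 120 = 1 by norm_num, Nat.dvd_one] at h1
  exact orderOf_eq_one_iff.1 h1

/-- SL(2,5) occurs as a Frobenius complement: there is a finite group L with a subgroup H isomorphic to SL(2,5) which is a non-trivial proper subgroup meeting each conjugate gHg⁻¹ with g outside H trivially. -/
theorem result :
    ∃ (L : Type) (_ : Group L) (_ : Finite L) (H : Subgroup L),
      Cfsg.IsFrobeniusComplement H ∧ Nonempty (H ≃* Matrix.SpecialLinearGroup (Fin 2) (ZMod 5)) := by
  classical
  haveI : Fact (Nat.Prime 11) := ⟨by norm_num⟩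
  obtain ⟨f, hf⟩ := exists_fpf_hom
  let φ : SL25 →* MulAut (Multiplicative (Fin 2 → ZMod 11)) :=
    { toFun := fun b =>
        { toFun := fun v => Multiplicative.ofAdd (Matrix.mulVec (f b : Matrix (Fin 2) (Fin 2) (ZMod 11)) v.toAdd)
          invFun := fun v => Multiplicative.ofAdd (Matrix.mulVec (f b⁻¹ : Matrix (Fin 2) (Fin 2) (ZMod 11)) v.toAdd)
          left_inv := fun v => by simp only [toAdd_ofAdd, Matrix.mulVec_mulVec, ← Matrix.SpecialLinearGroup.coe_mul, ← map_mul, inv_mul_cancel, map_one, Matrix.SpecialLinearGroup.coe_one, Matrix.one_mulVec, ofAdd_toAdd]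
          right_inv := fun v => by simp only [toAdd_ofAdd, Matrix.mulVec_mulVec, ← Matrix.SpecialLinearGroup.coe_mul, ← map_mul, mul_inv_cancel, map_one, Matrix.SpecialLinearGroup.coe_one, Matrix.one_mulVec, ofAdd_toAdd]
          map_mul' := fun v w => by simp only [toAdd_mul, Matrix.mulVec_add, ofAdd_add] }
      map_one' := by
        ext v : 1
        show Multiplicative.ofAdd (Matrix.mulVec (f 1 : Matrix (Fin 2) (Fin 2) (ZMod 11)) v.toAdd) = v
        rw [map_one, Matrix.SpecialLinearGroup.coe_one, Matrix.one_mulVec, ofAdd_toAdd]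
      map_mul' := fun a b => by
        ext v : 1
        show Multiplicative.ofAdd (Matrix.mulVec (f (a * b) : Matrix (Fin 2) (Fin 2) (ZMod 11)) v.toAdd) =
          Multiplicative.ofAdd (Matrix.mulVec (f a : Matrix (Fin 2) (Fin 2) (ZMod 11))
            (Matrix.mulVec (f b : Matrix (Fin 2) (Fin 2) (ZMod 11)) v.toAdd))
        rw [map_mul, Matrix.SpecialLinearGroup.coe_mul, Matrix.mulVec_mulVec] }
  haveI : Nontrivial SL25 := Finite.one_lt_card_iff_nontrivial.1 (by rw [card_sl_two_five]; norm_num)
  suffices h : ∀ A, A ≠ 1 → ∀ v, φ A v = v → v = 1 by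
    obtain ⟨L, i1, i2, C, hC, ⟨e⟩⟩ := Cfsg.Lib.Solv.ComplementExamples.occurs_of_fpf φ h
    exact ⟨L, i1, i2, C, hC, ⟨e.symm⟩⟩
  intro A hA v hv
  have hv' : Matrix.mulVec ((f A : Matrix (Fin 2) (Fin 2) (ZMod 11)) - 1) v.toAdd = 0 := by
    rw [Matrix.sub_mulVec, Matrix.one_mulVec]
    exact sub_eq_zero.2 (congrArg Multiplicative.toAdd hv)
  exact congrArg Multiplicative.ofAdd (Matrix.eq_zero_of_mulVec_eq_zero (hf A hA) hv')

end Cfsg.Agent.S3374
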