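import Cfsg.Statements.S3375
-- import your own Cfsg.Agent.* helpers here

set_option autoImplicit false
open Cfsg

namespace Cfsg.Agent.S3375

/-- Let γ be an automorphism of order 2 of a finite group H. (i) If γ fixes only the identity, then H is abelian and γ inverts every element. (ii) If γ has exactly two fixed points and H has a subgroup of index 2, then H has a γ-invariant abelian subgroup of index 2 on which γ acts by inversion. -/
theorem result {H : Type*} [Group H] [Finite H] (γ : MulAut H) (hγ : orderOf γ = 2) :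
    ((∀ h : H, γ h = h → h = 1) → (∀ a b : H, a * b = b * a) ∧ ∀ h : H, γ h = h⁻¹) ∧
    ((Nat.card {h : H // γ h = h} = 2 ∧ ∃ M : Subgroup H, M.index = 2) →
      ∃ A : Subgroup H, A.index = 2 ∧ IsMulCommutative A ∧ (∀ a ∈ A, γ a ∈ A) ∧ ∀ a ∈ A, γ a = a⁻¹) := by
  classical
  have hγ2 : ∀ h, γ (γ h) = h := fun h => by
    have := pow_orderOf_eq_one γ
    rw [hγ, pow_two] at this
    exact congrArg (fun f : MulAut H => f h) this
  let f : H → H := fun h => h⁻¹ * γ h
  have hinv : ∀ h, γ (f h) = (f h)⁻¹ := fun h => by simp [f, hγ2]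
  constructor
  · intro hfix
    have hinj : Function.Injective f := fun a b hab => by
      have : γ (b * a⁻¹) = b * a⁻¹ := by
        rw [map_mul, map_inv]
        have h1 : γ b = b * (a⁻¹ * γ a) := by rw [show a⁻¹ * γ a = b⁻¹ * γ b from hab]; group
        rw [h1]; group
      exact (mul_inv_eq_one.mp (hfix _ this)).symm
    have hall : ∀ h, γ h = h⁻¹ := fun h => by
      obtain ⟨k, rfl⟩ := Finite.surjective_of_injective hinj h
      exact hinv k
    refine ⟨fun a b => ?_, hall⟩
    have := hall (a⁻¹ * b⁻¹)
    rw [map_mul, hall, hall, inv_inv, inv_inv, mul_inv_rev, inv_inv, inv_inv] at this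
    exact this
  · rintro ⟨hC, M, hM⟩
    have hM' := fun {a b : H} => Subgroup.mul_mem_iff_of_index_two hM (a := a) (b := b)
    obtain ⟨A, hA, hAinv⟩ : ∃ A : Subgroup H, A.index = 2 ∧ ∀ a, a ∈ A → γ a ∈ A := by
      by_cases hinvM : ∀ a, a ∈ M → γ a ∈ M
      · exact ⟨M, hM, hinvM⟩
      push Not at hinvM
      obtain ⟨m, hm, hm'⟩ := hinvM
      let A : Subgroup H :=
        { carrier := {h | h ∈ M ↔ γ h ∈ M}
          one_mem' := by simp
          mul_mem' := fun {a b} ha hb => by
            simp only [Set.mem_setOf_eq, map_mul, hM'] at ha hb ⊢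
            rw [ha, hb]
          inv_mem' := fun {a} ha => by simpa using ha }
      refine ⟨A, ?_, fun a ha => ?_⟩
      · rw [Subgroup.index_eq_two_iff]
        refine ⟨m, fun b => ?_⟩
        show Xor' (b * m ∈ M ↔ γ (b * m) ∈ M) (b ∈ M ↔ γ b ∈ M)
        rw [map_mul, hM', hM']
        simp only [xor_def, iff_true_intro hm, eq_iff_iff, hm', iff_true, iff_false]
        tauto
      · show γ a ∈ M ↔ γ (γ a) ∈ M
        rw [hγ2]
        exact Iff.symm ha
    have hA' := fun {a b : H} => Subgroup.mul_mem_iff_of_index_two hA (a := a) (b := b)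
    have hfA : ∀ h, f h ∈ A := by
      intro h
      rw [hA', Subgroup.inv_mem_iff]
      exact ⟨hAinv h, fun h' => hγ2 h ▸ hAinv _ h'⟩
    -- the map has fibres of size at most two
    haveI := Fintype.ofFinite H
    set I := Finset.univ.image f with hI
    have hcard : Nat.card H ≤ 2 * I.card := by
      rw [Nat.card_eq_fintype_card, ← Finset.card_univ]
      refine Finset.card_le_mul_card_image _ 2 fun y hy => ?_
      obtain ⟨a, -, rfl⟩ := Finset.mem_image.mp hy
      rw [← hC, Nat.card_eq_fintype_card]
      refine le_trans (Finset.card_le_card_of_injOn (fun b => b * a⁻¹) ?_ ?_)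
        (le_of_eq (Fintype.card_subtype (fun h : H => γ h = h)).symm)
      · intro b hb
        simp only [Finset.mem_coe, Finset.mem_filter, Finset.mem_univ, true_and] at hb ⊢
        rw [map_mul, map_inv, show γ b = b * (a⁻¹ * γ a) by
          rw [show a⁻¹ * γ a = b⁻¹ * γ b from hb.symm]; group]
        group
      · intro b _ c _ h
        exact mul_right_cancel h
    have hsub : I ⊆ Finset.univ.filter fun x => x ∈ A := fun x hx => by
      obtain ⟨h, -, rfl⟩ := Finset.mem_image.mp hx
      exact Finset.mem_filter.mpr ⟨Finset.mem_univ _, hfA h⟩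
    have heq := Finset.eq_of_subset_of_card_le hsub (by
      rw [← Fintype.card_subtype, ← Nat.card_eq_fintype_card]
      have h2 := Subgroup.index_mul_card A
      rw [hA] at h2
      change Nat.card A ≤ _
      omega)
    have hall : ∀ a ∈ A, γ a = a⁻¹ := fun a ha => by
      have : a ∈ I := heq ▸ Finset.mem_filter.mpr ⟨Finset.mem_univ _, ha⟩
      obtain ⟨h, -, rfl⟩ := Finset.mem_image.mp this
      exact hinv h
    refine ⟨A, hA, ⟨⟨fun a b => Subtype.ext ?_⟩⟩, hAinv, hall⟩
    have h1 := hall _ (A.mul_mem a.2 b.2)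
    rw [map_mul, hall _ a.2, hall _ b.2, mul_inv_rev] at h1
    have h2 := congrArg (·⁻¹) h1
    simp only [mul_inv_rev, inv_inv] at h2
    exact h2.symm

end Cfsg.Agent.S3375
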