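import Cfsg.Statements.S3761
import Cfsg.Agent.Lib.PGroup.CyclicNormal
-- import your own Cfsg.Agent.* helpers here

set_option autoImplicit false
open Cfsg

namespace Cfsg.Agent.S3761

open Subgroup Cfsg.Lib.CyclicNormal
open scoped commutatorElement

variable {G : Type*} [Group G] [Finite G] {p n : ℕ} [hp : Fact p.Prime] {u y : G}

theorem closure_char {H : Subgroup G} {q : ℕ} (hH : H.Characteristic) :
    (Cfsg.omegaOne q H).Characteristic := by
  rw [characteristic_iff_map_eq] at hH
  refine characteristic_iff_map_le.2 fun φ => ?_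
  rw [Cfsg.omegaOne, MonoidHom.map_closure, closure_le]
  rintro _ ⟨x, ⟨hx, hxq⟩, rfl⟩
  refine subset_closure ⟨?_, by rw [← map_pow, hxq, map_one]⟩
  rw [← hH φ]
  exact ⟨x, hx, rfl⟩

theorem power_char {H : Subgroup G} {q : ℕ} (hH : H.Characteristic) :
    (Cfsg.powerClosure q 1 H).Characteristic := by
  rw [characteristic_iff_map_eq] at hH
  refine characteristic_iff_map_le.2 fun φ => ?_
  rw [Cfsg.powerClosure, MonoidHom.map_closure, closure_le]
  rintro _ ⟨_, ⟨x, hx, rfl⟩, rfl⟩
  refine subset_closure ⟨φ x, ?_, map_pow _ _ _⟩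
  rw [← hH φ]
  exact ⟨x, hx, rfl⟩

theorem powerClosure_zpowers (u : G) (q : ℕ) :
    Cfsg.powerClosure q 1 (zpowers u) = zpowers (u ^ q) := by
  refine le_antisymm ((closure_le _).2 ?_) (zpowers_le.2 ?_)
  · rintro _ ⟨x, ⟨i, rfl⟩, rfl⟩
    refine ⟨i, ?_⟩
    change (u ^ q) ^ i = (u ^ i) ^ (q ^ 1)
    rw [pow_one, ← zpow_natCast, ← zpow_natCast, ← zpow_mul, ← zpow_mul, mul_comm]
  · exact subset_closure ⟨u, mem_zpowers u, by rw [pow_one]⟩

theorem centralizer_zpowers (x : G) :
    centralizer (zpowers x : Set G) = centralizer ({x} : Set G) := by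
  rw [zpowers_eq_closure, centralizer_closure]

theorem small (h : Data p n u) (hn : 2 ≤ n) (h3 : p = 2 → 3 ≤ n) (hyu : y ∉ zpowers u)
    (hyp : y ^ p = 1) (hy : y * u * y⁻¹ = u * u ^ ((p : ℤ) ^ (n - 1))) :
    Cfsg.IsElementaryAbelian p (Cfsg.omegaOne p (centralizer ({u ^ p} : Set G))) ∧
      Nat.card ↥(Cfsg.omegaOne p (centralizer ({u ^ p} : Set G))) = p ^ 2 := by
  set z := u ^ ((p : ℤ) ^ (n - 1)) with hz
  set W := Cfsg.omegaOne p (centralizer ({u ^ p} : Set G))
  have hzo : z ^ p = 1 := by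
    rw [hz, ← zpow_natCast, ← zpow_mul, h.zpow_eq_one_iff, ← pow_succ,
      show n - 1 + 1 = n by omega]
  have hzu : Commute z u := commute_of_mem_zpowers (zpow_mem (mem_zpowers u) _)
  have hzy : Commute z y := by
    have h2 := conj_zpow (i := (p : ℤ) ^ (n - 1)) (a := y) (b := u)
    rw [hy, hzu.symm.mul_zpow] at h2
    have hzz : z ^ ((p : ℤ) ^ (n - 1)) = 1 := by
      rw [hz, ← zpow_mul, h.zpow_eq_one_iff, ← pow_add]
      exact pow_dvd_pow _ (by omega)
    rw [hzz, mul_one] at h2
    exact (mul_inv_eq_iff_eq_mul.1 h2.symm).symm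
  have hmem : ∀ x ∈ centralizer ({u ^ p} : Set G), x ^ p = 1 →
      ∃ (a : ℤ) (e : ℕ), x = z ^ a * y ^ e := by
    intro x hx hxp
    obtain ⟨i, e, rfl⟩ := h.exists_coord hn hy (mem_centralizer_singleton_iff.1 hx)
    obtain ⟨a, rfl⟩ : (p : ℤ) ^ (n - 1) ∣ i := by
      simpa using h.dvd_of_pow hn h3 hyp hy (j := 0) (i := i) (e := e) (by omega)
        (by rw [hxp, one_pow])
    exact ⟨a, e, by rw [hz, ← zpow_mul]⟩
  have hWle : W ≤ closure ({z, y} : Set G) := by
    refine (closure_le _).2 ?_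
    rintro x ⟨hx, hxp⟩
    obtain ⟨a, e, rfl⟩ := hmem x hx hxp
    exact mul_mem (zpow_mem (subset_closure (by simp)) a) (pow_mem (subset_closure (by simp)) e)
  have hyM : y ∈ centralizer ({u ^ p} : Set G) :=
    (h.card_centralizer hn hyu hyp hy).1.ge (mem_sup_left (mem_zpowers y))
  have hzM : z ∈ centralizer ({u ^ p} : Set G) := by
    rw [mem_centralizer_singleton_iff]
    exact (hzu.pow_right p).eq
  have hzW : z ∈ W := subset_closure ⟨hzM, hzo⟩
  have hyW : y ∈ W := subset_closure ⟨hyM, hyp⟩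
  have hz1 : z ≠ 1 := by
    rw [hz, Ne, h.zpow_eq_one_iff]
    intro hd
    have := Int.natAbs_dvd_natAbs.2 hd
    simp only [Int.natAbs_pow, Int.natAbs_natCast] at this
    have := (Nat.pow_dvd_pow_iff_le_right hp.out.one_lt).1 this
    omega
  have hcomm : ∀ a ∈ W, ∀ b ∈ W, a * b = b * a := by
    intro a ha b hb
    haveI := isMulCommutative_closure (k := ({z, y} : Set G)) (by
      rintro _ (rfl | rfl) _ (rfl | rfl)
      exacts [rfl, hzy.eq, hzy.symm.eq, rfl])
    exact congrArg Subtype.val ((inferInstance : IsMulCommutative ↥(closure ({z, y} : Set G))).is_comm.comm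
      ⟨a, hWle ha⟩ ⟨b, hWle hb⟩)
  have hexp : ∀ a ∈ W, a ^ p = 1 := by
    intro a ha
    induction ha using Subgroup.closure_induction with
    | mem a ha => exact ha.2
    | one => simp
    | mul a b ha hb iha ihb => rw [Commute.mul_pow (hcomm a ha b hb), iha, ihb, one_mul]
    | inv a _ iha => rw [inv_pow, iha, inv_one]
  refine ⟨⟨⟨⟨fun a b => Subtype.ext (hcomm a a.2 b b.2)⟩⟩, hexp⟩, ?_⟩
  have hbij : Function.Bijective (fun t : zpowers z × zpowers y =>
      (⟨(t.1 : G) * t.2, mul_mem (zpowers_le.2 hzW t.1.2) (zpowers_le.2 hyW t.2.2)⟩ : W)) := by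
    have hdis : zpowers z ⊓ zpowers y = ⊥ := by
      rw [eq_bot_iff]
      intro x hx
      by_contra hx1
      have hox : ∀ w : G, w ^ p = 1 → x ∈ zpowers w → zpowers x = zpowers w := by
        intro w hw hxw
        refine eq_of_le_of_card_ge (zpowers_le.2 hxw) ?_
        rw [Nat.card_zpowers, Nat.card_zpowers]
        have hxp : orderOf x = p := by
          refine orderOf_eq_prime ?_ (fun e => hx1 (by rw [e]; exact one_mem _))
          obtain ⟨i, rfl⟩ := hxw
          change (w ^ i) ^ p = 1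
          rw [← zpow_natCast, ← zpow_mul, mul_comm i, zpow_mul, zpow_natCast, hw, one_zpow]
        exact hxp ▸ Nat.le_of_dvd hp.out.pos (orderOf_dvd_of_pow_eq_one hw)
      have h1 : y ∈ zpowers z :=
        ((hox z hzo hx.1).symm.trans (hox y hyp hx.2)).ge (mem_zpowers y)
      exact hyu (zpowers_le.2 (zpow_mem (mem_zpowers u) _) h1)
    refine ⟨fun s t hst => ?_, fun w => ?_⟩
    · exact mul_injective_of_disjoint (disjoint_iff.2 hdis) (congrArg Subtype.val hst)
    · have hmemC : (w : G) ∈ zpowers z ⊔ zpowers y := by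
        have hc := hWle w.2
        have hcl : closure ({z, y} : Set G) ≤ zpowers z ⊔ zpowers y := by
          refine (closure_le _).2 ?_
          rintro x (rfl | rfl)
          exacts [mem_sup_left (mem_zpowers _), mem_sup_right (mem_zpowers _)]
        exact hcl hc
      rw [← SetLike.mem_coe, coe_mul_of_left_le_normalizer_right _ _ (zpowers_le.2
        (centralizer_le_normalizer _ ((centralizer_zpowers y).ge
          (mem_centralizer_singleton_iff.2 hzy.eq)))), Set.mem_mul] at hmemC
      obtain ⟨a, ha, b, hb, he⟩ := hmemC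
      exact ⟨(⟨a, ha⟩, ⟨b, hb⟩), Subtype.ext he⟩
  rw [← Nat.card_eq_of_bijective _ hbij, Nat.card_prod, Nat.card_zpowers, Nat.card_zpowers,
    orderOf_eq_prime hzo hz1, orderOf_eq_prime hyp (fun e => hyu (e ▸ one_mem _)), sq]

theorem omega_char (h : Data p n u) (hn : 2 ≤ n) :
    (Cfsg.omegaOne p (centralizer ({u ^ p} : Set G))).Characteristic := by
  by_cases hgood : ∀ (g : G) (r : ℤ), g * u * g⁻¹ = u ^ r → p = 2 → (4 : ℤ) ∣ r - 1
  · have heq : Cfsg.omegaOne p (centralizer ({u ^ p} : Set G)) = Cfsg.omegaOne p (⊤ : Subgroup G) := by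
      refine le_antisymm (closure_mono fun x hx => ⟨mem_top x, hx.2⟩)
        (closure_mono fun x hx => ⟨?_, hx.2⟩)
      rw [mem_centralizer_singleton_iff]
      by_cases hxu : x ∈ zpowers u
      · exact ((commute_of_mem_zpowers hxu).pow_right p).eq
      obtain ⟨r, hr⟩ := mem_zpowers_iff.1 (h.conj x)
      -- the element of order `p` acts trivially on `u ^ p`
      obtain ⟨b, hb⟩ := h.dvd_sub_one (by omega) hr.symm
      obtain ⟨c, hc⟩ := (geom_sum_mod (p : ℤ) b p).2
      obtain ⟨e, he⟩ : (p : ℤ) ∣ b * (p.choose 2 : ℤ) := by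
        rcases eq_or_ne p 2 with hp2 | hp2
        · have h4 := hgood x r hr.symm hp2
          subst hp2
          rw [hb, show (4 : ℤ) = 2 * 2 from rfl, Nat.cast_ofNat] at h4
          exact dvd_mul_of_dvd_left (Int.dvd_of_mul_dvd_mul_left two_ne_zero h4) _
        · refine dvd_mul_of_dvd_right (Int.natCast_dvd_natCast.2 ?_) _
          exact hp.out.dvd_choose_self two_ne_zero
            (lt_of_le_of_ne hp.out.two_le (Ne.symm hp2))
      have h1 := conj_pow_eq hr.symm p
      rw [hx.2, one_mul, inv_one, mul_one] at h1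
      have h2 : (p : ℤ) ^ n ∣ r ^ p - 1 := by
        rw [← h.zpow_eq_iff, zpow_one]; exact h1.symm
      rw [← geom_sum_mul, show r = 1 + (p : ℤ) * b by linear_combination hb] at h2
      have h3 : (p : ℤ) ^ n ∣ (r - 1) * p := by
        refine (IsCoprime.pow_left (⟨-(c + e), 1, by ring⟩ :
          IsCoprime (p : ℤ) (1 + p * (c + e)))).dvd_of_dvd_mul_left (h2.trans (dvd_of_eq ?_))
        linear_combination (p : ℤ) * b * hc + (p : ℤ) * b * p * he - (p : ℤ) * (1 + p * (c + e)) * hb
      rw [← zpow_natCast]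
      refine mul_inv_eq_iff_eq_mul.1 ?_
      rw [conj_zpow_eq hr.symm, h.zpow_eq_iff, show r * (p : ℤ) - p = (r - 1) * p by ring]
      exact h3
    rw [heq]
    exact closure_char topCharacteristic
  · push Not at hgood
    obtain ⟨g, r, hr, hp2, h4⟩ := hgood
    subst hp2
    refine closure_char ?_
    have hD : _root_.commutator G ≤ zpowers u := by
      rw [_root_.commutator_def, Subgroup.commutator_le]
      intro a _ b _
      refine h.cent _ (mul_inv_eq_iff_eq_mul.1 ?_)
      obtain ⟨s, hs⟩ := mem_zpowers_iff.1 (h.conj a)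
      obtain ⟨t, ht⟩ := mem_zpowers_iff.1 (h.conj b)
      obtain ⟨s', hs'⟩ := mem_zpowers_iff.1 (h.conj a⁻¹)
      obtain ⟨t', ht'⟩ := mem_zpowers_iff.1 (h.conj b⁻¹)
      have e1 : u ^ (s' * s) = u := by
        rw [← conj_zpow_eq hs'.symm, hs]; group
      have e2 : u ^ (t' * t) = u := by
        rw [← conj_zpow_eq ht'.symm, ht]; group
      rw [show ⁅a, b⁆ * u * ⁅a, b⁆⁻¹ = a * (b * (a⁻¹ * (b⁻¹ * u * b⁻¹⁻¹) * a⁻¹⁻¹) * b⁻¹) * a⁻¹ by
        simp [commutatorElement_def, mul_assoc], ← ht', conj_zpow_eq hs'.symm,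
        conj_zpow_eq ht.symm, conj_zpow_eq hs.symm]
      rw [show s * (t * (s' * t')) = (s' * s) * (t' * t) by ring, zpow_mul, e1, e2]
    obtain ⟨a, ha⟩ := h.dvd_sub_one (by omega) hr
    have ha2 : ¬ (2 : ℤ) ∣ a := fun ⟨k, hk⟩ => h4 ⟨k, by rw [ha, hk]; push_cast; ring⟩
    have hu2 : u ^ 2 ∈ _root_.commutator G := by
      have h1 : u ^ (r - 1) ∈ _root_.commutator G := by
        have : u ^ (r - 1) = ⁅g, u⁆ := by
          rw [commutatorElement_def, hr, zpow_sub, zpow_one]
        rw [this, _root_.commutator_def]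
        exact commutator_mem_commutator (mem_top _) (mem_top _)
      obtain ⟨c, d, hcd⟩ : IsCoprime a ((2 : ℤ) ^ n) :=
        (IsCoprime.pow_left ((Int.prime_two).coprime_iff_not_dvd.2 ha2)).symm
      have h2 : u ^ (2 : ℕ) = (u ^ (r - 1)) ^ c := by
        rw [← zpow_natCast, ← zpow_mul, h.zpow_eq_iff]
        refine ⟨2 * d, ?_⟩
        rw [ha]
        push_cast
        linear_combination (-2 : ℤ) * hcd
      rw [h2]
      exact zpow_mem h1 c
    have hDc : (_root_.commutator G).Characteristic := inferInstance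
    by_cases huD : u ∈ _root_.commutator G
    · have : zpowers (u ^ 2) = Cfsg.powerClosure 2 1 (_root_.commutator G) := by
        rw [le_antisymm hD (zpowers_le.2 huD), powerClosure_zpowers]
      rw [← centralizer_zpowers, this]
      haveI := power_char (q := 2) hDc
      infer_instance
    · have : zpowers (u ^ 2) = _root_.commutator G := by
        refine le_antisymm (zpowers_le.2 hu2) fun x hx => ?_
        obtain ⟨i, rfl⟩ := hD hx
        rcases Int.even_or_odd i with ⟨k, hk⟩ | ⟨k, hk⟩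
        · refine ⟨k, ?_⟩
          change (u ^ 2) ^ k = u ^ i
          rw [← zpow_natCast, ← zpow_mul]
          congr 1
          push_cast
          omega
        · exfalso
          apply huD
          have h1 := mul_mem hx (zpow_mem hu2 (-k))
          change u ^ i * (u ^ 2) ^ (-k) ∈ _ at h1
          rw [← zpow_natCast, ← zpow_mul, ← zpow_add,
            show i + ((2 : ℕ) : ℤ) * -k = 1 by push_cast; omega, zpow_one] at h1
          exact h1
      rw [← centralizer_zpowers, this]
      infer_instance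


/-- Let G be a finite non-abelian p-group with a cyclic normal subgroup U of order p^n such that C_G(U) = U. Then either p = 2 and G is dihedral, generalized quaternion or semidihedral of order 2^(n+1); or, writing U₁ for the subgroup generated by the p-th powers of elements of U and M = C_G(U₁), the subgroup U has index p in M and the subgroup Ω₁(M) generated by the elements of M of order dividing p is elementary abelian of order p² and characteristic in G. -/
theorem result {G : Type*} [Group G] [Finite G] {p : ℕ} [Fact p.Prime] (hG : IsPGroup p G) (hna : ¬ IsMulCommutative G) (U : Subgroup G) [U.Normal] (hU : IsCyclic U) (n : ℕ) (hUn : Nat.card U = p ^ n) (hC : Subgroup.centralizer (U : Set G) = U) : (p = 2 ∧ Nat.card G = 2 ^ (n + 1) ∧ ((∃ m : ℕ, Nonempty (G ≃* DihedralGroup m)) ∨ (∃ m : ℕ, Nonempty (G ≃* QuaternionGroup m)) ∨ Cfsg.IsQuasiDihedral G)) ∨ (U.relIndex (Subgroup.centralizer (Cfsg.powerClosure p 1 U : Set G)) = p ∧ Cfsg.IsElementaryAbelian p (Cfsg.omegaOne p (Subgroup.centralizer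 (Cfsg.powerClosure p 1 U : Set G))) ∧ Nat.card ↥(Cfsg.omegaOne p (Subgroup.centralizer (Cfsg.powerClosure p 1 U : Set G))) = p ^ 2 ∧ (Cfsg.omegaOne p (Subgroup.centralizer (Cfsg.powerClosure p 1 U : Set G))).Characteristic) := by
  obtain ⟨u, rfl, h⟩ := exists_data hG U hU hUn hC.le
  have hn := h.two_le hna
  rcases h.alternative hna with h1 | ⟨h3, m, hm, hmc⟩
  · exact Or.inl h1
  obtain ⟨y, hyu, hyp, hy⟩ := h.exists_y hn h3 hm hmc
  obtain ⟨hMeq, hMcard⟩ := h.card_centralizer hn hyu hyp hy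
  obtain ⟨hW1, hW2⟩ := small h hn h3 hyu hyp hy
  refine Or.inr ?_
  rw [powerClosure_zpowers, centralizer_zpowers]
  refine ⟨?_, hW1, hW2, omega_char h hn⟩
  have hle : Subgroup.zpowers u ≤ Subgroup.centralizer ({u ^ p} : Set G) :=
    Subgroup.zpowers_le.2 (Subgroup.mem_centralizer_singleton_iff.2 ((Commute.refl u).pow_right p).eq)
  have h2 := Subgroup.relIndex_mul_relIndex ⊥ (Subgroup.zpowers u) _ bot_le hle
  rw [Subgroup.relIndex_bot_left, Subgroup.relIndex_bot_left, hMcard, mul_comm p] at h2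
  exact Nat.eq_of_mul_eq_mul_left Nat.card_pos h2

end Cfsg.Agent.S3761
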