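import Mathlib
import Cfsg.Statements.S3380
import Cfsg.Agent.S3761
import Cfsg.Agent.Lib.PGroup.NormalSq
import Cfsg.Agent.Lib.Solv.Nilpotent

set_option autoImplicit false
open Cfsg

namespace Cfsg.Agent.S3380

/-- A `p`-group which is not cyclic, dihedral, quaternion or semidihedral has a normal subgroup of type `(p,p)`. -/
theorem exists_normal_sq {G : Type*} [Group G] [Finite G] {p : ℕ} [Fact p.Prime] (hG : IsPGroup p G)
    (hnc : ¬ IsCyclic G) (hnq : ∀ n : ℕ, ¬ Nonempty (G ≃* QuaternionGroup n))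
    (hnd : ∀ n : ℕ, ¬ Nonempty (G ≃* DihedralGroup n)) (hnsd : ¬ Cfsg.IsQuasiDihedral G) :
    ∃ E : Subgroup G, E.Normal ∧ Cfsg.IsElementaryAbelian p E ∧ Nat.card E = p ^ 2 := by
  classical
  by_contra hno
  have hcyc : ∀ A : Subgroup G, A.Normal → IsMulCommutative A → IsCyclic A := fun A hA hAc => by
    by_contra h
    exact hno (Cfsg.Lib.PGroup.NormalSq.exists_of_noncyclic hG A h)
  by_cases hna : IsMulCommutative G
  · apply hnc
    have := hcyc ⊤ inferInstance ⟨⟨fun a b => Subtype.ext (hna.is_comm.comm a.1 b.1)⟩⟩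
    exact isCyclic_of_surjective Subgroup.topEquiv.toMonoidHom Subgroup.topEquiv.surjective
  haveI := hG.isNilpotent
  obtain ⟨U, -, hmax⟩ := Finite.exists_le_maximal (p := fun N : Subgroup G => N.Normal ∧ IsMulCommutative N)
    (show (⊥ : Subgroup G).Normal ∧ IsMulCommutative (⊥ : Subgroup G) from ⟨inferInstance, inferInstance⟩)
  haveI := hmax.1.1
  haveI := hmax.1.2
  have hcent := Cfsg.Lib.Solv.centralizer_eq_of_maximal_abelian_normal U fun M hM hMc hle =>
    le_antisymm (hmax.2 ⟨hM, hMc⟩ hle) hle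
  have hUc := hcyc U hmax.1.1 hmax.1.2
  obtain ⟨n, hn⟩ := IsPGroup.iff_card.1 (hG.to_subgroup U)
  rcases Cfsg.Agent.S3761.result hG hna U hUc n hn hcent with ⟨-, -, ⟨m, h⟩ | ⟨m, h⟩ | h⟩ | ⟨-, h1, h2, h3⟩
  · exact hnd m h
  · exact hnq m h
  · exact hnsd h
  · exact hno ⟨_, inferInstance, h1, h2⟩

theorem fixed_of_q_eq {G V : Type*} [Group G] [Finite G] [AddCommGroup V] [Finite V] [DistribMulAction G V]
    {p : ℕ} [Fact p.Prime] (hG : IsPGroup p G) (hdvd : p ∣ Nat.card V) :
    ∃ v : V, v ≠ 0 ∧ ∀ g : G, g • v = v := by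
  have h0 : (0 : V) ∈ MulAction.fixedPoints G V := fun g => smul_zero g
  obtain ⟨v, hv, hne⟩ := hG.exists_fixed_point_of_prime_dvd_card_of_fixed_point V hdvd h0
  exact ⟨v, fun h => hne h.symm, hv⟩

section modules

variable {q : ℕ} [Fact q.Prime] {V : Type*} [AddCommGroup V] [Module (ZMod q) V]
  {G : Type*} [Group G] (ρ : G →* (V ≃ₗ[ZMod q] V))

/-- The fixed space of an element. -/
def fixSpace (x : G) : Submodule (ZMod q) V where
  carrier := {v | ρ x v = v}
  zero_mem' := map_zero _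
  add_mem' := fun {a b} (ha : ρ x a = a) (hb : ρ x b = b) => by
    change ρ x (a + b) = a + b
    rw [map_add, ha, hb]
  smul_mem' := fun c a (ha : ρ x a = a) => by
    change ρ x (c • a) = c • a
    rw [map_smul, ha]

theorem mem_fixSpace {x : G} {v : V} : v ∈ fixSpace ρ x ↔ ρ x v = v := Iff.rfl

theorem apply_mul (a b : G) (v : V) : ρ (a * b) v = ρ a (ρ b v) := by rw [map_mul]; rfl

theorem apply_one (v : V) : ρ 1 v = v := by rw [map_one]; rfl

theorem map_fixSpace (g x : G) :
    (fixSpace ρ x).map (ρ g : V →ₗ[ZMod q] V) = fixSpace ρ (g * x * g⁻¹) := by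
  ext v
  rw [Submodule.mem_map, mem_fixSpace]
  constructor
  · rintro ⟨w, hw, rfl⟩
    rw [mem_fixSpace] at hw
    change ρ (g * x * g⁻¹) (ρ g w) = ρ g w
    rw [← apply_mul, inv_mul_cancel_right, apply_mul, hw]
  · intro hv
    refine ⟨ρ g⁻¹ v, ?_, ?_⟩
    · rw [mem_fixSpace, ← apply_mul]
      conv_rhs => rw [← hv, ← apply_mul]
      congr 2; group
    · change ρ g (ρ g⁻¹ v) = v
      rw [← apply_mul, mul_inv_cancel, apply_one]

theorem fix_central (hρ : Function.Injective ρ)
    (hirr : ∀ W : Submodule (ZMod q) V, (∀ g : G, ∀ w ∈ W, ρ g w ∈ W) → W = ⊥ ∨ W = ⊤)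
    {z : G} (hz : z ∈ Subgroup.center G) (hz1 : z ≠ 1) {v : V} (hv : ρ z v = v) : v = 0 := by
  rcases hirr (fixSpace ρ z) (fun g w hw => by
    rw [mem_fixSpace] at hw ⊢
    rw [← apply_mul, ← Subgroup.mem_center_iff.1 hz g, apply_mul, hw]) with h | h
  · have : v ∈ fixSpace ρ z := hv
    rwa [h, Submodule.mem_bot] at this
  · exfalso
    apply hz1
    apply hρ
    rw [map_one]
    refine LinearEquiv.ext fun w => ?_
    have : w ∈ fixSpace ρ z := h ▸ Submodule.mem_top
    exact this

/-- Elements of an elementary abelian group of rank two in coordinates. -/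
def pt (p : ℕ) (e z : G) (a b : ZMod p) : G := e ^ a.val * z ^ b.val

theorem pt_add {p : ℕ} [NeZero p] {e z : G} (he : e ^ p = 1) (hz : z ^ p = 1) (hc : Commute e z)
    (a b a' b' : ZMod p) : pt p e z (a + a') (b + b') = pt p e z a b * pt p e z a' b' := by
  rw [pt, pt, pt, ZMod.val_add, ZMod.val_add, ← pow_eq_pow_mod _ he, ← pow_eq_pow_mod _ hz, pow_add, pow_add,
    mul_assoc, ← mul_assoc (e ^ a'.val), (hc.pow_pow a'.val b.val).eq, mul_assoc, mul_assoc]

theorem pt_zero {p : ℕ} [NeZero p] (e z : G) : pt p e z 0 0 = 1 := by simp [pt]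

theorem pow_of_fix {x : G} {v : V} (h : ρ x v = v) (n : ℕ) : ρ (x ^ n) v = v := by
  induction n with
  | zero => rw [pow_zero, apply_one]
  | succ n ih => rw [pow_succ, apply_mul, h, ih]

/-- The projection sum for the `j`-th line. -/
noncomputable def avg (p : ℕ) [NeZero p] (e z : G) (j : ZMod p) : V →ₗ[ZMod q] V :=
  ∑ k : ZMod p, (ρ (pt p e z k (j * k)) : V →ₗ[ZMod q] V)

theorem avg_apply (p : ℕ) [NeZero p] (e z : G) (j : ZMod p) (v : V) :
    avg ρ p e z j v = ∑ k : ZMod p, ρ (pt p e z k (j * k)) v := by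
  simp [avg]

variable {p : ℕ} [Fact p.Prime] {e z : G} (he : e ^ p = 1) (hz : z ^ p = 1) (hc : Commute e z)
  (hfix : ∀ v : V, ρ z v = v → v = 0)

include he hz hc in
theorem avg_mem (j : ZMod p) (v : V) : ρ (pt p e z 1 j) (avg ρ p e z j v) = avg ρ p e z j v := by
  rw [avg_apply, map_sum]
  refine Fintype.sum_equiv (Equiv.addLeft (1 : ZMod p)) _ _ fun k => ?_
  rw [← apply_mul, ← pt_add he hz hc, Equiv.coe_addLeft, mul_add, mul_one]

include he hz hc hfix in
theorem sum_z (a : ZMod p) (v : V) : ∑ b : ZMod p, ρ (pt p e z a b) v = 0 := by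
  refine hfix _ ?_
  rw [map_sum]
  refine Fintype.sum_equiv (Equiv.addLeft (1 : ZMod p)) _ _ fun b => ?_
  rw [← apply_mul]
  have h1 : pt p e z 0 1 = z := by simp [pt, ZMod.val_one]
  have h2 : z * pt p e z a b = pt p e z a (1 + b) := by
    nth_rewrite 1 [← h1]
    rw [← pt_add he hz hc, zero_add]
  rw [Equiv.coe_addLeft, h2]

include he hz hc hfix in
theorem sum_avg (v : V) : ∑ j : ZMod p, avg ρ p e z j v = p • v := by
  simp only [avg_apply]
  rw [Finset.sum_comm, Fintype.sum_eq_single 0]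
  · simp [pt_zero, apply_one]
  · intro k hk
    rw [← sum_z ρ he hz hc hfix k v]
    exact Fintype.sum_equiv (Equiv.mulRight₀ k hk) _ _ fun j => rfl

include he hz hc hfix in
theorem avg_other {i j : ZMod p} (hij : i ≠ j) {w : V} (hw : ρ (pt p e z 1 i) w = w) :
    avg ρ p e z j w = 0 := by
  have hk : ∀ k : ZMod p, pt p e z 1 i ^ k.val = pt p e z k (i * k) := by
    have h : ∀ n : ℕ, pt p e z 1 i ^ n = pt p e z (n : ZMod p) (i * n) := by
      intro n
      induction n with
      | zero => simp [pt_zero]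
      | succ n ih => rw [pow_succ, ih, ← pt_add he hz hc, Nat.cast_succ, mul_add, mul_one]
    intro k
    rw [h, ZMod.natCast_zmod_val]
  rw [avg_apply, ← sum_z ρ he hz hc hfix 0 w]
  refine Fintype.sum_equiv (Equiv.mulLeft₀ (j - i) (sub_ne_zero.2 hij.symm)) _ _ fun k => ?_
  rw [Equiv.mulLeft₀_apply]
  have : pt p e z k (j * k) = pt p e z 0 ((j - i) * k) * pt p e z 1 i ^ k.val := by
    rw [hk, ← pt_add he hz hc]; congr 1 <;> ring
  rw [this, apply_mul, pow_of_fix ρ hw]

include he hz hc in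
theorem avg_self {j : ZMod p} {w : V} (hw : ρ (pt p e z 1 j) w = w) : avg ρ p e z j w = p • w := by
  have h : ∀ n : ℕ, pt p e z 1 j ^ n = pt p e z (n : ZMod p) (j * n) := by
    intro n
    induction n with
    | zero => simp [pt_zero]
    | succ n ih => rw [pow_succ, ih, ← pt_add he hz hc, Nat.cast_succ, mul_add, mul_one]
  rw [avg_apply, Finset.sum_congr rfl (g := fun _ => w) (fun k _ => by
    rw [← ZMod.natCast_zmod_val k, ← h, pow_of_fix ρ hw]), Finset.sum_const, Finset.card_univ, ZMod.card]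

end modules


/-- Let a finite p-group G act faithfully and irreducibly on a non-trivial finite vector space V over the field with q elements (q prime), and suppose G is not cyclic, generalized quaternion, dihedral or semidihedral. Then G has a subgroup H of index p and V is the direct sum of p subspaces, each invariant under H, on none of which H acts faithfully, and which every element of G outside H permutes in a single p-cycle. -/
theorem result
    (q : ℕ) [Fact q.Prime] {V : Type*} [AddCommGroup V] [Module (ZMod q) V] [Finite V] [Nontrivial V]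
    {G : Type*} [Group G] [Finite G] (p : ℕ) [Fact p.Prime] (hG : IsPGroup p G)
    (ρ : G →* (V ≃ₗ[ZMod q] V)) (hρ : Function.Injective ρ)
    (hirr : ∀ W : Submodule (ZMod q) V, (∀ g : G, ∀ w ∈ W, ρ g w ∈ W) → W = ⊥ ∨ W = ⊤)
    (hnc : ¬ IsCyclic G) (hnq : ∀ n : ℕ, ¬ Nonempty (G ≃* QuaternionGroup n))
    (hnd : ∀ n : ℕ, ¬ Nonempty (G ≃* DihedralGroup n)) (hnsd : ¬ Cfsg.IsQuasiDihedral G) :
    ∃ (H : Subgroup G) (W : Fin p → Submodule (ZMod q) V), H.index = p ∧
      iSup W = ⊤ ∧ iSupIndep W ∧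
      (∀ h ∈ H, ∀ i, ∀ w ∈ W i, ρ h w ∈ W i) ∧
      (∀ i, ∃ h ∈ H, h ≠ 1 ∧ ∀ w ∈ W i, ρ h w = w) ∧
      ∀ g : G, g ∉ H → ∃ σ : Equiv.Perm (Fin p), orderOf σ = p ∧ ∀ i, (W i).map (ρ g : V →ₗ[ZMod q] V) = W (σ i) := by
  classical
  obtain ⟨E, hEn, ⟨hEc, hEp⟩, hEcard⟩ := exists_normal_sq hG hnc hnq hnd hnsd
  have hp := (Fact.out : p.Prime)
  have hG1 : Nontrivial G := by
    by_contra h
    rw [not_nontrivial_iff_subsingleton] at h
    exact hnc isCyclic_of_subsingleton
  -- the characteristic differs from p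
  have hqp : q ≠ p := by
    rintro rfl
    obtain ⟨n, hn⟩ : ∃ n, Nat.card V = q ^ n := ⟨_, Module.natCard_eq_pow_finrank (K := ZMod q) (V := V) |>.trans (by rw [Nat.card_zmod])⟩
    have hd : q ∣ Nat.card V := by
      rcases n with _ | n
      · rw [pow_zero, Nat.card_eq_one_iff_unique] at hn
        exact absurd hn.1 (not_subsingleton V)
      · rw [hn]; exact dvd_pow_self q n.succ_ne_zero
    letI : DistribMulAction G V := DistribMulAction.compHom V ρ
    obtain ⟨v, hv0, hv⟩ := fixed_of_q_eq hG hd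
    let W : Submodule (ZMod q) V := ⨅ g : G, fixSpace ρ g
    have hWm : ∀ w, w ∈ W ↔ ∀ g, ρ g w = w := fun w => by simp [W, Submodule.mem_iInf, mem_fixSpace]
    rcases hirr W (fun g w hw => by rw [(hWm w).1 hw g]; exact hw) with h | h
    · have : v ∈ W := (hWm v).2 hv
      rw [h, Submodule.mem_bot] at this
      exact hv0 this
    · obtain ⟨g, hg⟩ := exists_ne (1 : G)
      refine hg (hρ ?_)
      rw [map_one]
      exact LinearEquiv.ext fun w => (hWm w).1 (h ▸ Submodule.mem_top) g
  -- a central element of order p in E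
  haveI := hG.isNilpotent
  have hE1 : E ≠ ⊥ := fun h => by
    rw [h, Subgroup.card_bot] at hEcard
    have := hp.one_lt
    nlinarith
  obtain ⟨z, hzE, hzc, hzo⟩ := Cfsg.Lib.PGroup.exists_mem_center_orderOf_eq hG hE1
  obtain ⟨e, heE, heZ⟩ : ∃ e ∈ E, e ∉ Subgroup.zpowers z := by
    by_contra h
    push Not at h
    have := Subgroup.card_le_of_le (show E ≤ Subgroup.zpowers z from h)
    rw [Nat.card_zpowers, hzo, hEcard] at this
    have := hp.one_lt
    nlinarith
  have hz1 : z ≠ 1 := fun h => by rw [h, orderOf_one] at hzo; exact hp.one_lt.ne hzo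
  have he : e ^ p = 1 := hEp e heE
  have hzp : z ^ p = 1 := hEp z hzE
  have hc : Commute e z := congrArg Subtype.val (hEc.is_comm.comm ⟨e, heE⟩ ⟨z, hzE⟩)
  have hfix : ∀ v : V, ρ z v = v → v = 0 := fun v hv => fix_central ρ hρ hirr hzc hz1 hv
  set Z := Subgroup.zpowers z
  haveI hZn : Z.Normal := ⟨fun x hx g => by
    have : x ∈ Subgroup.center G := (Subgroup.zpowers_le.2 hzc) hx
    rwa [Subgroup.mem_center_iff.1 this g, mul_inv_cancel_right]⟩
  -- conjugation moves e inside e Z
  have hcomm : ∀ g : G, ∃ i : ZMod p, g * e * g⁻¹ = pt p e z 1 i := by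
    intro g
    set π := QuotientGroup.mk' Z
    haveI : (E.map π).Normal := hEn.map π (QuotientGroup.mk'_surjective Z)
    have hne : E.map π ≠ ⊥ := fun h => heZ (by
      have : π e ∈ E.map π := Subgroup.mem_map_of_mem π heE
      rwa [h, Subgroup.mem_bot, QuotientGroup.mk'_apply, QuotientGroup.eq_one_iff] at this)
    obtain ⟨w, hwE, hwc, hwo⟩ := Cfsg.Lib.PGroup.exists_mem_center_orderOf_eq (hG.to_quotient Z) hne
    have hcard : Nat.card (E.map π) ≤ p := by
      have h1 := (π.comp E.subtype).ker.card_mul_index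
      rw [Subgroup.index_ker, hEcard] at h1
      have h2 : (π.comp E.subtype).range = E.map π := by
        rw [MonoidHom.range_comp, Subgroup.range_subtype]
      have h3 : p ≤ Nat.card (π.comp E.subtype).ker := by
        rw [← hzo, show orderOf z = orderOf (⟨z, hzE⟩ : E) from Subgroup.orderOf_coe ⟨z, hzE⟩]
        refine Nat.le_of_dvd Nat.card_pos ?_
        exact Subgroup.orderOf_dvd_natCard _ (show (⟨z, hzE⟩ : E) ∈ _ from
          (QuotientGroup.eq_one_iff (N := Z) z).2 (Subgroup.mem_zpowers z))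
      rw [h2] at h1
      have := hp.pos
      by_contra hlt
      nlinarith
    have hEw : E.map π ≤ Subgroup.center (G ⧸ Z) := by
      have : Subgroup.zpowers w = E.map π :=
        Subgroup.eq_of_le_of_card_ge (Subgroup.zpowers_le.2 hwE) (by rw [Nat.card_zpowers, hwo]; exact hcard)
      rw [← this]; exact Subgroup.zpowers_le.2 hwc
    have hx : π (e⁻¹ * (g * e * g⁻¹)) = 1 := by
      rw [map_mul, map_mul, map_mul, Subgroup.mem_center_iff.1 (hEw (Subgroup.mem_map_of_mem π heE)) (π g),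
        map_inv, map_inv, mul_inv_cancel_right, inv_mul_cancel]
    rw [QuotientGroup.mk'_apply, QuotientGroup.eq_one_iff] at hx
    obtain ⟨i, hi⟩ := Subgroup.mem_zpowers_iff.1 hx
    refine ⟨(i : ZMod p), ?_⟩
    have hpow : z ^ (((i : ZMod p)).val) = z ^ i := by
      rw [← zpow_natCast, ZMod.val_intCast, ← hzo, zpow_mod_orderOf]
    rw [pt, ZMod.val_one, pow_one, hpow, hi, mul_inv_cancel_left]
  set H := Subgroup.centralizer ({e} : Set G) with hH
  have hHne : H ≠ ⊤ := by
    intro htop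
    have hec : e ∈ Subgroup.center G := Subgroup.mem_center_iff.2 fun g => by
      have : g ∈ H := htop ▸ Subgroup.mem_top g
      exact Subgroup.mem_centralizer_singleton_iff.1 this
    obtain ⟨v, hv⟩ := exists_ne (0 : V)
    apply hv
    have hsum := sum_avg ρ he hzp hc hfix v
    rw [Finset.sum_eq_zero (fun j _ => ?_)] at hsum
    · have : (p : ZMod q) • v = 0 := by rw [Nat.cast_smul_eq_nsmul]; exact hsum.symm
      rcases smul_eq_zero.1 this with h | h
      · exact absurd ((Nat.prime_dvd_prime_iff_eq (Fact.out : q.Prime) hp).1 ((ZMod.natCast_eq_zero_iff _ _).1 h)) hqp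
      · exact h
    · refine fix_central ρ hρ hirr (z := pt p e z 1 j) ?_ ?_ (avg_mem ρ he hzp hc j v)
      · exact mul_mem (pow_mem hec _) (pow_mem hzc _)
      · intro h
        apply heZ
        rw [pt, ZMod.val_one, pow_one] at h
        rw [eq_inv_of_mul_eq_one_left h]
        exact inv_mem (pow_mem (Subgroup.mem_zpowers z) _)
  choose c hcg using hcomm
  have hptinj : ∀ i j : ZMod p, pt p e z 1 i = pt p e z 1 j → i = j := by
    intro i j h
    rw [pt, pt, mul_right_inj] at h
    refine ZMod.val_injective p (pow_injOn_Iio_orderOf ?_ ?_ h) <;>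
      (rw [Set.mem_Iio, hzo]; exact ZMod.val_lt _)
  have hzfix : ∀ g : G, ∀ n : ℕ, g * z ^ n * g⁻¹ = z ^ n := fun g n => by
    rw [Subgroup.mem_center_iff.1 (pow_mem hzc n) g, mul_inv_cancel_right]
  have hconj : ∀ g : G, ∀ i : ZMod p, g * pt p e z 1 i * g⁻¹ = pt p e z 1 (c g + i) := by
    intro g i
    calc g * pt p e z 1 i * g⁻¹ = (g * e * g⁻¹) * (g * z ^ i.val * g⁻¹) := by
          rw [pt, ZMod.val_one, pow_one]; group
      _ = pt p e z 1 (c g) * pt p e z 0 i := by rw [hcg, hzfix]; simp [pt]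
      _ = pt p e z 1 (c g + i) := by rw [← pt_add he hzp hc, add_zero]
  let f : G →* Multiplicative (ZMod p) := MonoidHom.mk' (fun g => Multiplicative.ofAdd (c g)) fun g g' => by
    rw [← ofAdd_add]
    refine congrArg _ (hptinj _ _ ?_)
    rw [← hcg, ← hconj, ← hcg]; group
  have hc0 : ∀ g, c g = 0 ↔ g ∈ H := fun g => by
    rw [hH, Subgroup.mem_centralizer_singleton_iff]
    constructor
    · intro h
      have := hcg g
      rw [h, pt, ZMod.val_one, ZMod.val_zero, pow_one, pow_zero, mul_one] at this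
      exact mul_inv_eq_iff_eq_mul.1 this
    · intro h
      refine hptinj _ _ ?_
      rw [← hcg, h]; simp [pt, ZMod.val_one]
  have hker : f.ker = H := Subgroup.ext fun g => by
    rw [MonoidHom.mem_ker, ← hc0]
    exact Multiplicative.ofAdd.injective.eq_iff' rfl
  have hindex : H.index = p := by
    rw [← hker, Subgroup.index_ker]
    have hd := Subgroup.card_subgroup_dvd_card f.range
    rw [Nat.card_congr Multiplicative.toAdd, Nat.card_zmod] at hd
    refine ((Nat.dvd_prime hp).1 hd).resolve_left fun h => hHne ?_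
    rw [← hker, ← Subgroup.index_eq_one, Subgroup.index_ker, h]
  let ι : Fin p ≃ ZMod p := (ZMod.finEquiv p).toEquiv
  have hpinv : ∀ v : V, (p : ZMod q)⁻¹ • (p • v) = v := fun v => by
    rw [← Nat.cast_smul_eq_nsmul (ZMod q) p v, inv_smul_smul₀]
    intro h
    exact hqp ((Nat.prime_dvd_prime_iff_eq (Fact.out : q.Prime) hp).1 ((ZMod.natCast_eq_zero_iff _ _).1 h))
  refine ⟨H, fun i => fixSpace ρ (pt p e z 1 (ι i)), hindex, ?_, ?_, ?_, ?_, ?_⟩
  · rw [eq_top_iff]
    intro v _
    rw [← hpinv v, ← sum_avg ρ he hzp hc hfix v]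
    refine Submodule.smul_mem _ _ (Submodule.sum_mem _ fun j _ => ?_)
    exact Submodule.mem_iSup_of_mem (ι.symm j) (by rw [Equiv.apply_symm_apply]; exact avg_mem ρ he hzp hc j v)
  · rw [iSupIndep_def]
    intro i
    rw [Submodule.disjoint_def]
    intro x hx hx'
    have h1 := avg_self ρ he hzp hc (j := ι i) hx
    have h2 : (⨆ (j) (_ : j ≠ i), fixSpace ρ (pt p e z 1 (ι j))) ≤ LinearMap.ker (avg ρ p e z (ι i)) :=
      iSup₂_le fun j hj w hw => LinearMap.mem_ker.2 (avg_other ρ he hzp hc hfix (fun h => hj (ι.injective h)) hw)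
    rw [LinearMap.mem_ker.1 (h2 hx')] at h1
    rw [← hpinv x, ← h1, smul_zero]
  · intro h hh i w hw
    have := (map_fixSpace ρ h (pt p e z 1 (ι i))).le (Submodule.mem_map_of_mem hw)
    rwa [hconj, (hc0 h).2 hh, zero_add] at this
  · intro i
    refine ⟨pt p e z 1 (ι i), ?_, fun h => ?_, fun w hw => hw⟩
    · rw [hH, Subgroup.mem_centralizer_singleton_iff, pt, ZMod.val_one, pow_one, mul_assoc, ← (hc.pow_right _).eq]
    · apply heZ
      rw [pt, ZMod.val_one, pow_one] at h
      rw [eq_inv_of_mul_eq_one_left h]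
      exact inv_mem (pow_mem (Subgroup.mem_zpowers z) _)
  · intro g hg
    let σ : Equiv.Perm (Fin p) := ι.symm.permCongr (Equiv.addLeft (c g))
    have hσ : ∀ n : ℕ, ∀ i, (σ ^ n) i = ι.symm (n • c g + ι i) := by
      intro n
      induction n with
      | zero => simp
      | succ n ih => intro i; rw [pow_succ', Equiv.Perm.mul_apply, ih]; simp only [σ, Equiv.permCongr_apply, Equiv.symm_symm, Equiv.apply_symm_apply, Equiv.coe_addLeft]; rw [succ_nsmul', add_assoc]
    refine ⟨σ, orderOf_eq_prime ?_ ?_, fun i => ?_⟩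
    · refine Equiv.ext fun i => ?_
      rw [hσ, ZModModule.char_nsmul_eq_zero p, zero_add, Equiv.symm_apply_apply]; rfl
    · intro h1
      apply hg
      rw [← hc0]
      have := congrArg ι ((hσ 1 (ι.symm 0)).symm.trans (by rw [pow_one, h1]))
      simpa using this
    · rw [map_fixSpace, hconj]
      congr 2
      simp [σ]

end Cfsg.Agent.S3380
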