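import Cfsg.Statements.S3381
import Mathlib.LinearAlgebra.FiniteDimensional.Basic
import Mathlib.FieldTheory.Finiteness

set_option autoImplicit false
open Cfsg

namespace Cfsg.Agent.S3381

open Module

theorem result
    (q : ℕ) [Fact q.Prime] {V : Type*} [AddCommGroup V] [Module (ZMod q) V] [Finite V] [Nontrivial V]
    {G : Type*} [Group G] [Finite G] (ρ : G →* (V ≃ₗ[ZMod q] V)) (hρ : Function.Injective ρ)
    (hstab : ∀ v : V, v ≠ 0 → Nat.card {g : G // ρ g v = v} = 2)
    (z : G) (hz : orderOf z = 2) (hzc : z ∈ Subgroup.center G) :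
    ∃ r : ℕ, Nat.card V = q ^ (2 * r) ∧
      Nat.card {g : G // orderOf g = 2 ∧ g ∉ Subgroup.center G} = q ^ r + 1 := by
  classical
  haveI : FiniteDimensional (ZMod q) V := Module.Finite.of_finite
  have hsmul : ∀ (g h : G) (v : V), ρ (g * h) v = ρ g (ρ h v) := fun g h v => by
    rw [map_mul]; rfl
  have hone : ∀ v : V, ρ 1 v = v := fun v => by rw [map_one]; rfl
  have hinj : ∀ g : G, (∀ v, ρ g v = v) → g = 1 := fun g hg =>
    hρ (by rw [map_one]; exact LinearEquiv.ext hg)
  -- a stabilizer has exactly one nontrivial element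
  have huniq : ∀ v : V, v ≠ 0 → ∀ g h : G, g ≠ 1 → h ≠ 1 → ρ g v = v → ρ h v = v → g = h := by
    intro v hv g h hg hh hgv hhv
    by_contra hne
    have h3 : ({1, g, h} : Set G).ncard ≤ 2 := by
      rw [← hstab v hv, ← Set.coe_setOf, Nat.card_coe_set_eq]
      refine Set.ncard_le_ncard (fun x hx => ?_) (Set.toFinite _)
      rcases hx with rfl | rfl | rfl
      · exact hone v
      · exact hgv
      · exact hhv
    rw [Set.ncard_insert_of_notMem (by simp [Ne.symm hg, Ne.symm hh]), Set.ncard_pair hne] at h3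
    omega
  have hex : ∀ v : V, v ≠ 0 → ∃ g : G, g ≠ 1 ∧ g * g = 1 ∧ ρ g v = v := by
    intro v hv
    have h2 := hstab v hv
    obtain ⟨⟨g, hg⟩, hg1⟩ : ∃ g : {g : G // ρ g v = v}, g ≠ ⟨1, hone v⟩ := by
      haveI : Nontrivial {g : G // ρ g v = v} := Finite.one_lt_card_iff_nontrivial.1 (by omega)
      exact exists_ne _
    have hg1' : g ≠ 1 := fun h => hg1 (Subtype.ext h)
    refine ⟨g, hg1', ?_, hg⟩
    by_contra hgg
    have := huniq v hv g (g * g) hg1' hgg hg (by rw [hsmul, hg, hg])
    exact hg1' (mul_eq_left.1 this.symm)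
  have hz1 : z ≠ 1 := fun h => by simp [h] at hz
  have hzz : z * z = 1 := by rw [← pow_two, ← hz, pow_orderOf_eq_one]
  have hcomm : ∀ g, g * z = z * g := fun g => Subgroup.mem_center_iff.1 hzc g
  -- `z` fixes only zero
  have hzfix : ∀ v : V, ρ z v = v → v = 0 := by
    by_contra hcon
    push Not at hcon
    obtain ⟨v, hv, hv0⟩ := hcon
    obtain ⟨w, hw⟩ : ∃ w, ρ z w ≠ w := by
      by_contra h; push Not at h; exact hz1 (hinj z h)
    by_cases h2 : q = 2
    · subst h2
      have hw0 : w ≠ 0 := fun h => hw (by rw [h, map_zero])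
      obtain ⟨u, hu1, huu, huw⟩ := hex w hw0
      have hzu : u ≠ z := fun h => hw (h ▸ huw)
      have hchar : ∀ x : V, x + x = 0 := fun x => by
        rw [← two_smul (ZMod 2) x, show (2 : ZMod 2) = 0 from rfl, zero_smul]
      by_cases hvu : ρ u v = v
      · exact hzu (huniq v hv0 u z hu1 hz1 hvu hv)
      · have hs0 : v + ρ u v ≠ 0 := fun h => hvu (add_left_cancel (h.trans (hchar v).symm))
        refine hzu (huniq _ hs0 u z hu1 hz1 ?_ ?_)
        · rw [map_add, ← hsmul, huu, hone, add_comm]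
        · rw [map_add, hv, ← hsmul, ← hcomm, hsmul, hv]
    · set x := w - ρ z w with hx
      have hx0 : x ≠ 0 := fun h => hw (sub_eq_zero.1 h).symm
      have hzx : ρ z x = -x := by rw [hx, map_sub, ← hsmul, hzz, hone, neg_sub]
      have hs0 : v + x ≠ 0 := by
        intro h
        have h' : ρ z (v + x) = 0 := by rw [h, map_zero]
        rw [map_add, hv, hzx] at h'
        apply hv0
        have h4 : (2 : ZMod q) • v = 0 := by
          rw [two_smul]
          calc v + v = (v + x) + (v + -x) := by abel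
            _ = 0 := by rw [h, h', add_zero]
        have h5 : (2 : ZMod q) ≠ 0 := by
          intro h6
          have : ((2 : ℕ) : ZMod q) = 0 := by exact_mod_cast h6
          rw [ZMod.natCast_eq_zero_iff] at this
          exact h2 ((Nat.prime_dvd_prime_iff_eq Fact.out Nat.prime_two).1 this)
        exact (smul_eq_zero.1 h4).resolve_left h5
      obtain ⟨g, hg1, hgg, hg⟩ := hex _ hs0
      have hgz : ρ g (ρ z (v + x)) = ρ z (v + x) := by rw [← hsmul, hcomm, hsmul, hg]
      rw [map_add, hv, hzx] at hgz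
      rw [map_add] at hg
      rw [map_add, map_neg] at hgz
      have h5 : (2 : ZMod q) ≠ 0 := by
        intro h6
        have : ((2 : ℕ) : ZMod q) = 0 := by exact_mod_cast h6
        rw [ZMod.natCast_eq_zero_iff] at this
        exact h2 ((Nat.prime_dvd_prime_iff_eq Fact.out Nat.prime_two).1 this)
      have hgv : ρ g v = v := by
        apply (smul_right_injective V h5)
        simp only [two_smul]
        calc ρ g v + ρ g v = (ρ g v + ρ g x) + (ρ g v + -ρ g x) := by abel
          _ = (v + x) + (v + -x) := by rw [hg, hgz]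
          _ = v + v := by abel
      have hgz' : g = z := huniq v hv0 g z hg1 hz1 hgv hv
      have hgx : ρ g x = x := by
        rw [hgv] at hg; exact add_left_cancel hg
      rw [hgz', hzx] at hgx
      apply hx0
      have : (2 : ZMod q) • x = 0 := by
        rw [two_smul]; nth_rw 1 [← hgx]; exact neg_add_cancel x
      exact (smul_eq_zero.1 this).resolve_left h5
  have hzneg : ∀ v, ρ z v = -v := fun v => by
    have h := hzfix (v + ρ z v) (by rw [map_add, ← hsmul, hzz, hone, add_comm])
    exact eq_neg_of_add_eq_zero_right h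
  have h2 : (2 : ZMod q) ≠ 0 := by
    intro h
    apply hz1
    refine hinj z fun v => ?_
    rw [hzneg]
    have : v + v = 0 := by rw [← two_smul (ZMod q) v, h, zero_smul]
    exact neg_eq_of_add_eq_zero_left this
  let W : G → Submodule (ZMod q) V := fun u =>
    LinearMap.eqLocus (ρ u : V →ₗ[ZMod q] V) LinearMap.id
  have hWmem : ∀ u v, v ∈ W u ↔ ρ u v = v := fun u v => Iff.rfl
  have hu2 : ∀ u : G, u * u = 1 → ∀ v, ρ (u * z) v = - ρ u v := fun u _ v => by
    rw [hsmul, hzneg, map_neg]
  have hdecomp : ∀ u : G, u * u = 1 → finrank (ZMod q) (W u) + finrank (ZMod q) (W (u * z))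
      = finrank (ZMod q) V := by
    intro u huu
    refine Submodule.finrank_add_eq_of_isCompl ⟨?_, ?_⟩
    · rw [Submodule.disjoint_def]
      intro v hv hv'
      rw [hWmem] at hv hv'
      rw [hu2 u huu, hv] at hv'
      have : (2 : ZMod q) • v = 0 := by
        rw [two_smul]; nth_rw 1 [← hv']; exact neg_add_cancel v
      exact (smul_eq_zero.1 this).resolve_left h2
    · rw [codisjoint_iff, eq_top_iff]
      intro v _
      have hv : v = (2 : ZMod q)⁻¹ • (v + ρ u v) + (2 : ZMod q)⁻¹ • (v - ρ u v) := by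
        rw [← smul_add, show v + ρ u v + (v - ρ u v) = (2 : ZMod q) • v by rw [two_smul]; abel,
          inv_smul_smul₀ h2]
      rw [hv]
      refine Submodule.add_mem_sup ?_ ?_
      · rw [hWmem, map_smul, map_add, ← hsmul, huu, hone, add_comm (ρ u v)]
      · rw [hWmem, map_smul, hu2 u huu, map_sub, ← hsmul, huu, hone, neg_sub]
  have hdisj : ∀ u u' : G, u ≠ 1 → u' ≠ 1 → u ≠ u' →
      finrank (ZMod q) (W u) + finrank (ZMod q) (W u') ≤ finrank (ZMod q) V := by
    intro u u' hu hu' hne
    refine Submodule.finrank_add_finrank_le_of_disjoint ?_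
    rw [Submodule.disjoint_def]
    intro v hv hv'
    by_contra hv0
    exact hne (huniq v hv0 u u' hu hu' hv hv')
  have hfix_ne : ∀ u : G, u * u = 1 → u ≠ z → ∃ v, v ≠ 0 ∧ ρ u v = v := by
    intro u huu huz
    obtain ⟨v, hv⟩ : ∃ v, ρ u v ≠ -v := by
      by_contra h; push Not at h
      exact huz (hρ (LinearEquiv.ext fun v => (h v).trans (hzneg v).symm))
    exact ⟨v + ρ u v, fun h => hv (eq_neg_of_add_eq_zero_right h), by
      rw [map_add, ← hsmul, huu, hone, add_comm]⟩
  have hmulz : ∀ u : G, u * u = 1 → (u * z) * (u * z) = 1 := fun u huu => by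
    rw [mul_assoc, ← mul_assoc z, ← hcomm u, mul_assoc, hzz, mul_one, huu]
  have hcentral : ∀ u : G, u * u = 1 → u ≠ 1 → u ≠ z → u ∉ Subgroup.center G := by
    intro u huu hu1 huz hu
    obtain ⟨v, hv0, hv⟩ := hfix_ne u huu huz
    obtain ⟨w, hw0, hw⟩ := hfix_ne (u * z) (hmulz u huu)
      (fun h => hu1 (mul_eq_right.1 h))
    have hwneg : ρ u w = -w := by
      rw [hu2 u huu] at hw; exact neg_eq_iff_eq_neg.1 hw
    have hs0 : v + w ≠ 0 := fun h => by
      have h' : ρ u (v + w) = 0 := by rw [h, map_zero]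
      rw [map_add, hv, hwneg] at h'
      apply hv0
      have : (2 : ZMod q) • v = 0 := by
        rw [two_smul]
        calc v + v = (v + w) + (v + -w) := by abel
          _ = 0 := by rw [h, h', add_zero]
      exact (smul_eq_zero.1 this).resolve_left h2
    obtain ⟨g, hg1, hgg, hg⟩ := hex _ hs0
    have hgu : ρ g (ρ u (v + w)) = ρ u (v + w) := by
      rw [← hsmul, Subgroup.mem_center_iff.1 hu g, hsmul, hg]
    rw [map_add, hv, hwneg, map_add, map_neg] at hgu
    rw [map_add] at hg
    have hgv : ρ g v = v := by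
      apply (smul_right_injective V h2)
      simp only [two_smul]
      calc ρ g v + ρ g v = (ρ g v + ρ g w) + (ρ g v + -ρ g w) := by abel
        _ = (v + w) + (v + -w) := by rw [hg, hgu]
        _ = v + v := by abel
    have hgw : ρ g w = w := by rw [hgv] at hg; exact add_left_cancel hg
    have e1 : g = u := huniq v hv0 g u hg1 hu1 hgv hv
    rw [e1, hwneg] at hgw
    apply hw0
    have : (2 : ZMod q) • w = 0 := by
      rw [two_smul]; nth_rw 1 [← hgw]; exact neg_add_cancel w
    exact (smul_eq_zero.1 this).resolve_left h2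
  let S := {g : G // orderOf g = 2 ∧ g ∉ Subgroup.center G}
  haveI : Fintype S := Fintype.ofFinite S
  have hSmem : ∀ g : G, g * g = 1 → g ≠ 1 → g ≠ z → orderOf g = 2 ∧ g ∉ Subgroup.center G :=
    fun g h1 h2' h3 => ⟨orderOf_eq_prime (by rw [pow_two, h1]) h2', hcentral g h1 h2' h3⟩
  have hSinv : ∀ s : S, s.1 * s.1 = 1 ∧ s.1 ≠ 1 ∧ s.1 ≠ z := fun s =>
    ⟨by have h := pow_orderOf_eq_one s.1; rw [s.2.1, pow_two] at h; exact h,
      fun h => s.2.2 (h ▸ one_mem _), fun h => s.2.2 (h ▸ hzc)⟩
  -- every vector space decomposition has two equal halves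
  have hpair : ∀ s : S, 2 * finrank (ZMod q) (W s.1) = finrank (ZMod q) V := by
    intro s
    obtain ⟨hss, hs1, hsz⟩ := hSinv s
    have hsz1 : s.1 * z ≠ 1 := fun h => by
      apply hsz
      calc s.1 = s.1 * (z * z) := by rw [hzz, mul_one]
        _ = z := by rw [← mul_assoc, h, one_mul]
    obtain ⟨v, hv0, hv⟩ := hfix_ne s.1 hss hsz
    obtain ⟨w, hw0, hw⟩ := hfix_ne (s.1 * z) (hmulz _ hss) (fun h => hs1 (mul_eq_right.1 h))
    have hwneg : ρ s.1 w = -w := by
      rw [hu2 _ hss] at hw; exact neg_eq_iff_eq_neg.1 hw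
    have hs0 : v + w ≠ 0 := fun h => by
      have h' : ρ s.1 (v + w) = 0 := by rw [h, map_zero]
      rw [map_add, hv, hwneg] at h'
      apply hv0
      have : (2 : ZMod q) • v = 0 := by
        rw [two_smul]
        calc v + v = (v + w) + (v + -w) := by abel
          _ = 0 := by rw [h, h', add_zero]
      exact (smul_eq_zero.1 this).resolve_left h2
    obtain ⟨t, ht1, htt, ht⟩ := hex _ hs0
    have htz : t ≠ z := fun h => hs0 (hzfix _ (h ▸ ht))
    have hts : t ≠ s.1 := fun h => by
      rw [h, map_add, hv, hwneg] at ht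
      apply hw0
      have : (2 : ZMod q) • w = 0 := by
        rw [two_smul]; nth_rw 1 [← add_left_cancel ht]; exact neg_add_cancel w
      exact (smul_eq_zero.1 this).resolve_left h2
    have htsz : t ≠ s.1 * z := fun h => by
      rw [h, map_add, hw, hu2 _ hss, hv] at ht
      apply hv0
      have : (2 : ZMod q) • v = 0 := by
        rw [two_smul]; nth_rw 1 [← add_right_cancel ht]; exact neg_add_cancel v
      exact (smul_eq_zero.1 this).resolve_left h2
    have htz1 : t * z ≠ 1 := fun h => by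
      apply htz
      calc t = t * (z * z) := by rw [hzz, mul_one]
        _ = z := by rw [← mul_assoc, h, one_mul]
    have a1 := hdisj s.1 t hs1 ht1 (Ne.symm hts)
    have a2 := hdisj (s.1 * z) t hsz1 ht1 (Ne.symm htsz)
    have a3 := hdisj s.1 (t * z) hs1 htz1 (fun h => htsz (by rw [h, mul_assoc, hzz, mul_one]))
    have a4 := hdisj (s.1 * z) (t * z) hsz1 htz1 (fun h => hts (mul_right_cancel h).symm)
    have b1 := hdecomp _ hss
    have b2 := hdecomp _ htt
    omega
  obtain ⟨v0, hv0⟩ := exists_ne (0 : V)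
  obtain ⟨u0, hu01, hu0u, hu0v⟩ := hex v0 hv0
  have hu0z : u0 ≠ z := fun h => hv0 (hzfix v0 (h ▸ hu0v))
  let s0 : S := ⟨u0, hSmem u0 hu0u hu01 hu0z⟩
  set r := finrank (ZMod q) (W u0) with hr
  have hV : finrank (ZMod q) V = 2 * r := (hpair s0).symm
  have hcardV : Nat.card V = q ^ (2 * r) := by
    rw [Module.natCard_eq_pow_finrank (K := ZMod q), Nat.card_zmod, hV]
  refine ⟨r, hcardV, ?_⟩
  let f : {v : V // v ≠ 0} → S := fun v =>
    ⟨Classical.choose (hex v.1 v.2), hSmem _ (Classical.choose_spec (hex v.1 v.2)).2.1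
      (Classical.choose_spec (hex v.1 v.2)).1
      (fun h => v.2 (hzfix v.1 (h ▸ (Classical.choose_spec (hex v.1 v.2)).2.2)))⟩
  have hfv : ∀ v, ρ (f v).1 v.1 = v.1 := fun v => (Classical.choose_spec (hex v.1 v.2)).2.2
  have hfibre : ∀ s : S, Nat.card {v // f v = s} = q ^ r - 1 := by
    intro s
    have e : {v // f v = s} ≃ {w : W s.1 // w ≠ 0} :=
      { toFun := fun v => ⟨⟨v.1.1, by rw [hWmem, ← congrArg Subtype.val v.2]; exact hfv v.1⟩,
          fun h => v.1.2 (congrArg Subtype.val h)⟩
        invFun := fun w => ⟨⟨w.1.1, fun h => w.2 (Subtype.ext h)⟩, Subtype.ext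
          (huniq w.1.1 (fun h => w.2 (Subtype.ext h)) _ _ (hSinv _).2.1 (hSinv s).2.1 (hfv _) w.1.2)⟩
        left_inv := fun v => rfl
        right_inv := fun w => rfl }
    rw [Nat.card_congr e]
    haveI := Fintype.ofFinite (W s.1)
    rw [Nat.card_eq_fintype_card, Fintype.card_subtype_compl, Fintype.card_subtype_eq,
      Module.card_eq_pow_finrank (K := ZMod q), ZMod.card,
      show finrank (ZMod q) (W s.1) = r by have := hpair s; omega]
  have hcount := Nat.card_congr (Equiv.sigmaFiberEquiv f)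
  rw [Nat.card_sigma, Finset.sum_congr rfl (fun s _ => hfibre s), Finset.sum_const, Finset.card_univ,
    smul_eq_mul] at hcount
  haveI := Fintype.ofFinite V
  have hnz : Nat.card {v : V // v ≠ 0} = q ^ (2 * r) - 1 := by
    rw [Nat.card_eq_fintype_card, Fintype.card_subtype_compl, Fintype.card_subtype_eq,
      ← Nat.card_eq_fintype_card, hcardV]
  rw [hnz] at hcount
  have hr0 : 0 < r := by
    have := Module.finrank_pos (R := ZMod q) (M := V)
    omega
  have hqr : 1 < q ^ r := Nat.one_lt_pow hr0.ne' (Nat.Prime.one_lt Fact.out)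
  show Nat.card S = q ^ r + 1
  rw [Nat.card_eq_fintype_card]
  apply Nat.eq_of_mul_eq_mul_right (show 0 < q ^ r - 1 by omega)
  rw [hcount, two_mul, pow_add]
  obtain ⟨m, hm⟩ : ∃ m, q ^ r = m + 1 := ⟨q ^ r - 1, by omega⟩
  rw [hm, Nat.add_sub_cancel]
  have : (m + 1) * (m + 1) = (m + 1 + 1) * m + 1 := by ring
  omega

end Cfsg.Agent.S3381
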