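import Cfsg.Statements.S3382
import Cfsg.Agent.Lib.TwoGroup.AutChain
import Mathlib.FieldTheory.Finite.Basic
import Mathlib.GroupTheory.PGroup

set_option autoImplicit false
open Cfsg

namespace Cfsg.Agent.S3382

variable {q : ℕ} [Fact q.Prime]

/-- Diagonal map. -/
def dg : (ZMod q)ˣ × (ZMod q)ˣ →* ((Fin 2 → ZMod q) ≃ₗ[ZMod q] (Fin 2 → ZMod q)) where
  toFun p :=
    { toFun := fun v => ![(p.1 : ZMod q) * v 0, (p.2 : ZMod q) * v 1]
      invFun := fun v => ![((p.1⁻¹ : (ZMod q)ˣ) : ZMod q) * v 0, ((p.2⁻¹ : (ZMod q)ˣ) : ZMod q) * v 1]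
      left_inv := fun v => by
        refine funext (Fin.forall_fin_two.2 ⟨?_, ?_⟩) <;>
          simp only [Matrix.cons_val_zero, Matrix.cons_val_one, Units.inv_mul_cancel_left]
      right_inv := fun v => by
        refine funext (Fin.forall_fin_two.2 ⟨?_, ?_⟩) <;>
          simp only [Matrix.cons_val_zero, Matrix.cons_val_one, Units.mul_inv_cancel_left]
      map_add' := fun v w => by ext i; fin_cases i <;> simp [mul_add]
      map_smul' := fun c v => by ext i; fin_cases i <;> simp [mul_left_comm] }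
  map_one' := by
    refine LinearEquiv.ext fun v => ?_
    show ![((1 : (ZMod q)ˣ) : ZMod q) * v 0, ((1 : (ZMod q)ˣ) : ZMod q) * v 1] = v
    ext i; fin_cases i <;> simp
  map_mul' p r := by
    refine LinearEquiv.ext fun v => ?_
    show ![((p.1 * r.1 : (ZMod q)ˣ) : ZMod q) * v 0, ((p.2 * r.2 : (ZMod q)ˣ) : ZMod q) * v 1] =
      ![(p.1 : ZMod q) * (![(r.1 : ZMod q) * v 0, (r.2 : ZMod q) * v 1] 0),
        (p.2 : ZMod q) * (![(r.1 : ZMod q) * v 0, (r.2 : ZMod q) * v 1] 1)]
    ext i; fin_cases i <;> simp [mul_assoc]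

theorem dg_apply (p : (ZMod q)ˣ × (ZMod q)ˣ) (v : Fin 2 → ZMod q) :
    dg p v = ![(p.1 : ZMod q) * v 0, (p.2 : ZMod q) * v 1] := rfl

theorem dg_injective : Function.Injective (dg : (ZMod q)ˣ × (ZMod q)ˣ → _) := by
  intro p r h
  have h0 := congrFun (congrArg (fun f => (f : (Fin 2 → ZMod q) ≃ₗ[ZMod q] _) ![1, 1]) h) 0
  have h1 := congrFun (congrArg (fun f => (f : (Fin 2 → ZMod q) ≃ₗ[ZMod q] _) ![1, 1]) h) 1
  simp [dg_apply] at h0 h1
  exact Prod.ext (Units.ext h0) (Units.ext h1)

/-- The coordinate swap. -/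
def sw : (Fin 2 → ZMod q) ≃ₗ[ZMod q] (Fin 2 → ZMod q) where
  toFun v := ![v 1, v 0]
  invFun v := ![v 1, v 0]
  left_inv v := by ext i; fin_cases i <;> simp
  right_inv v := by ext i; fin_cases i <;> simp
  map_add' v w := by ext i; fin_cases i <;> simp
  map_smul' c v := by ext i; fin_cases i <;> simp

theorem sw_apply (v : Fin 2 → ZMod q) : sw v = ![v 1, v 0] := rfl

theorem sw_sw : (sw : (Fin 2 → ZMod q) ≃ₗ[ZMod q] _) * sw = 1 := by
  refine LinearEquiv.ext fun v => ?_
  show sw (sw v) = v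
  ext i; fin_cases i <;> simp [sw_apply]

theorem sw_dg (p : (ZMod q)ˣ × (ZMod q)ˣ) : sw * dg p = dg (p.2, p.1) * sw := by
  refine LinearEquiv.ext fun v => ?_
  show sw (dg p v) = dg (p.2, p.1) (sw v)
  ext i; fin_cases i <;> simp [sw_apply, dg_apply]

theorem dg_ne_mul_sw (p r : (ZMod q)ˣ × (ZMod q)ˣ) : dg p ≠ dg r * sw := by
  intro h
  have h0 : dg p ![1, 0] = dg r (sw ![1, 0]) :=
    congrArg (fun f => (f : (Fin 2 → ZMod q) ≃ₗ[ZMod q] _) ![1, 0]) h
  have := congrFun h0 0
  simp [sw_apply, dg_apply] at this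

theorem result (q m : ℕ) [Fact q.Prime] (hq : q = 2 ^ m + 1) (hq5 : q ≠ 5)
    (T : Subgroup ((Fin 2 → ZMod q) ≃ₗ[ZMod q] (Fin 2 → ZMod q)))
    (hT : ∀ f, f ∈ T ↔ ∃ a s : ZMod q, a ≠ 0 ∧ (s = 1 ∨ s = -1) ∧
      ((∀ v, f v = ![a * v 0, s * a⁻¹ * v 1]) ∨ (∀ v, f v = ![s * a⁻¹ * v 1, a * v 0]))) :
    IsPGroup 2 (MulAut T) := by
  classical
  let Pok : (ZMod q)ˣ × (ZMod q)ˣ → Prop := fun p => p.1 * p.2 = 1 ∨ p.1 * p.2 = -1
  have hdg : ∀ p, Pok p → dg p ∈ T := by
    intro p hp
    refine (hT _).2 ⟨p.1, ((p.1 * p.2 : (ZMod q)ˣ) : ZMod q), p.1.ne_zero, ?_, Or.inl fun v => ?_⟩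
    · rcases hp with h | h <;> rw [h] <;> simp
    · rw [dg_apply, Units.val_mul, mul_comm (p.1 : ZMod q) (p.2 : ZMod q), mul_assoc (p.2 : ZMod q),
        mul_inv_cancel₀ p.1.ne_zero, mul_one]
  have hsw : sw ∈ T := (hT _).2 ⟨1, 1, one_ne_zero, Or.inl rfl, Or.inr fun v => by
    rw [sw_apply]; simp⟩
  have hcases : ∀ f ∈ T, ∃ p, Pok p ∧ (f = dg p ∨ f = dg p * sw) := by
    intro f hf
    obtain ⟨a, s, ha, hs, h⟩ := (hT f).1 hf
    have hs0 : s ≠ 0 := by
      rcases hs with rfl | rfl <;> simp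
    let x : (ZMod q)ˣ := Units.mk0 a ha
    let y : (ZMod q)ˣ := Units.mk0 s hs0 * x⁻¹
    have hxy : x * y = 1 ∨ x * y = -1 := by
      rcases hs with h' | h'
      · left; ext; simp [x, y, h', ha]
      · right; ext; simp [x, y, h', ha]
    rcases h with h | h
    · exact ⟨(x, y), hxy, Or.inl (LinearEquiv.ext fun v => by simp [h v, dg_apply, x, y])⟩
    · refine ⟨(y, x), by simpa [Pok, mul_comm] using hxy, Or.inr (LinearEquiv.ext fun v => ?_)⟩
      show f v = dg (y, x) (sw v)
      simp [h v, dg_apply, sw_apply, x, y]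
  haveI : Finite ((Fin 2 → ZMod q) ≃ₗ[ZMod q] (Fin 2 → ZMod q)) :=
    Finite.of_injective (fun f => (f : (Fin 2 → ZMod q) → (Fin 2 → ZMod q))) DFunLike.coe_injective
  let w : T := ⟨sw, hsw⟩
  have hw2 : w * w = 1 := Subtype.ext sw_sw
  have hPmul : ∀ p r, Pok p → Pok r → Pok (p * r) := by
    intro p r hp hr
    have e : (p * r).1 * (p * r).2 = (p.1 * p.2) * (r.1 * r.2) := by
      simp only [Prod.fst_mul, Prod.snd_mul]
      exact mul_mul_mul_comm _ _ _ _
    show _ ∨ _
    rcases hp with h | h <;> rcases hr with h' | h' <;> rw [e, h, h'] <;> simp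
  have hPinv : ∀ p, Pok p → Pok p⁻¹ := by
    intro p hp
    have e : p⁻¹.1 * p⁻¹.2 = (p.1 * p.2)⁻¹ := by simp [mul_comm]
    show _ ∨ _
    rcases hp with h | h <;> rw [e, h] <;> simp
  let B : Subgroup T :=
    { carrier := {f | ∃ p, Pok p ∧ (f : (Fin 2 → ZMod q) ≃ₗ[ZMod q] (Fin 2 → ZMod q)) = dg p}
      one_mem' := ⟨1, Or.inl (by simp), by simp⟩
      mul_mem' := fun {f f'} ⟨p, hp, e⟩ ⟨r, hr, e'⟩ =>
        ⟨p * r, hPmul p r hp hr, by rw [Subgroup.coe_mul, e, e', map_mul]⟩
      inv_mem' := fun {f} ⟨p, hp, e⟩ => ⟨p⁻¹, hPinv p hp, by rw [Subgroup.coe_inv, e, map_inv]⟩ }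
  have hwB : w ∉ B := by
    rintro ⟨p, -, e⟩
    exact dg_ne_mul_sw p 1 (by rw [← e, map_one, one_mul])
  have hout : ∀ f : T, f ∉ B → ∃ p, Pok p ∧ (f : (Fin 2 → ZMod q) ≃ₗ[ZMod q] (Fin 2 → ZMod q)) = dg p * sw := by
    intro f hf
    obtain ⟨p, hp, h | h⟩ := hcases f f.2
    · exact absurd ⟨p, hp, h⟩ hf
    · exact ⟨p, hp, h⟩
  have hBi : B.index = 2 := by
    rw [Subgroup.index_eq_two_iff_exists_notMem_and]
    refine ⟨w, hwB, fun f => or_iff_not_imp_left.2 fun hf => ?_⟩
    by_contra hfB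
    obtain ⟨p, hp, e⟩ := hout f hfB
    apply hf
    refine ⟨p, hp, ?_⟩
    show (f : (Fin 2 → ZMod q) ≃ₗ[ZMod q] (Fin 2 → ZMod q)) * sw = dg p
    rw [e, mul_assoc, sw_sw, mul_one]
  obtain ⟨a, ha⟩ := IsCyclic.exists_generator (α := (ZMod q)ˣ)
  have hcardu : Nat.card (ZMod q)ˣ = 2 ^ m := by
    rw [Nat.card_eq_fintype_card, ZMod.card_units q, hq]; rfl
  have hao : orderOf a = 2 ^ m := by rw [orderOf_eq_card_of_forall_mem_zpowers ha, hcardu]
  have hexpu : ∀ x : (ZMod q)ˣ, x ^ (2 ^ m) = 1 := fun x => by rw [← hcardu, pow_card_eq_one']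
  have hexp : ∀ b ∈ B, b ^ (2 ^ m) = 1 := by
    rintro b ⟨p, -, e⟩
    apply Subtype.ext
    rw [SubmonoidClass.coe_pow, e, ← map_pow, OneMemClass.coe_one,
      show p ^ (2 ^ m) = 1 from Prod.ext (hexpu _) (hexpu _), map_one]
  -- small fields
  rcases Nat.lt_or_ge m 3 with hm | hm
  · have hm' : m = 0 ∨ m = 1 := by
      have : m ≠ 2 := fun h => hq5 (by rw [hq, h]; norm_num)
      omega
    rcases hm' with rfl | rfl
    · -- q = 2
      have hu : ∀ x : (ZMod q)ˣ, x = 1 := fun x => by
        have := hexpu x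
        simpa using this
      have hall : ∀ f : T, f = 1 ∨ f = w := by
        intro f
        obtain ⟨p, -, h | h⟩ := hcases f f.2
        · left; apply Subtype.ext
          rw [h, show p = 1 from Prod.ext (hu _) (hu _), map_one]; rfl
        · right; apply Subtype.ext
          rw [h, show p = 1 from Prod.ext (hu _) (hu _), map_one, one_mul]
      intro φ
      refine ⟨0, ?_⟩
      rw [pow_zero, pow_one]
      refine MulEquiv.ext fun f => ?_
      rcases hall f with rfl | rfl
      · exact map_one φ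
      · rcases hall (φ w) with h | h
        · exfalso
          rw [← map_one φ] at h
          exact hwB (φ.injective h ▸ one_mem B)
        · exact h
    · -- q = 3
      have h3 : ∀ x : (ZMod q)ˣ, x = 1 ∨ x = -1 := by
        intro x
        have := hexpu x
        rw [pow_one] at this
        rcases sq_eq_one_iff.1 (show ((x : ZMod q)) ^ 2 = 1 by
          rw [← Units.val_pow_eq_pow_val, this, Units.val_one]) with h | h
        · exact Or.inl (Units.ext h)
        · exact Or.inr (Units.ext h)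
      let c : T := ⟨dg (-1, 1) * sw, mul_mem (hdg _ (Or.inr (by simp))) hsw⟩
      have hcc : ((c * c : T) : (Fin 2 → ZMod q) ≃ₗ[ZMod q] _) = dg (-1, -1) := by
        show (dg (-1, 1) * sw) * (dg (-1, 1) * sw) = _
        rw [mul_assoc, ← mul_assoc sw, sw_dg, mul_assoc, sw_sw, mul_one, ← map_mul]
        congr 1
        exact Prod.ext (mul_one _) (one_mul _)
      have hneg : (-1 : (ZMod q)ˣ) ≠ 1 := by
        intro h
        have h' := congrArg (fun x : (ZMod q)ˣ => (x : ZMod q)) h
        simp only [Units.val_neg, Units.val_one] at h'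
        have hq3 : q = 3 := by rw [hq]; norm_num
        have h2 : ((2 : ℕ) : ZMod q) = 0 := by push_cast; linear_combination -h'
        rw [ZMod.natCast_eq_zero_iff] at h2
        have := Nat.le_of_dvd (by norm_num) h2
        omega
      have hc4 : c ^ 4 = 1 := by
        apply Subtype.ext
        rw [show (4 : ℕ) = 2 * 2 from rfl, pow_mul, pow_two, pow_two, Subgroup.coe_mul, hcc,
          ← map_mul, show ((-1 : (ZMod q)ˣ), (-1 : (ZMod q)ˣ)) * (-1, -1) = 1 from
          Prod.ext (by simp) (by simp), map_one]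
        rfl
      have hord : ∀ f : T, (f * f ≠ 1) → f = c ∨ f = c⁻¹ := by
        intro f hf
        obtain ⟨⟨x, y⟩, -, h | h⟩ := hcases f f.2
        · exfalso; apply hf
          apply Subtype.ext
          rw [Subgroup.coe_mul, h, ← map_mul]
          rw [show (x, y) * (x, y) = (1 : (ZMod q)ˣ × (ZMod q)ˣ) from Prod.ext
            (by rcases h3 x with rfl | rfl <;> simp) (by rcases h3 y with rfl | rfl <;> simp), map_one]
          rfl
        · have hsq : ((f * f : T) : (Fin 2 → ZMod q) ≃ₗ[ZMod q] _) = dg (x * y, y * x) := by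
            rw [Subgroup.coe_mul, h, mul_assoc, ← mul_assoc sw, sw_dg, mul_assoc, sw_sw, mul_one,
              ← map_mul]
            rfl
          rcases h3 x with rfl | rfl <;> rcases h3 y with rfl | rfl
          · exfalso; apply hf; apply Subtype.ext; rw [hsq]
            rw [show ((1 : (ZMod q)ˣ) * 1, (1 : (ZMod q)ˣ) * 1) = 1 from Prod.ext (by simp) (by simp),
              map_one]; rfl
          · right
            apply eq_inv_of_mul_eq_one_left
            apply Subtype.ext
            show (f : (Fin 2 → ZMod q) ≃ₗ[ZMod q] (Fin 2 → ZMod q)) * (dg (-1, 1) * sw) = 1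
            rw [h, mul_assoc, ← mul_assoc sw, sw_dg, mul_assoc, sw_sw, mul_one, ← map_mul,
              show ((1 : (ZMod q)ˣ), (-1 : (ZMod q)ˣ)) * (1, -1) = 1 from
                Prod.ext (by simp) (by simp), map_one]
          · left; exact Subtype.ext h
          · exfalso; apply hf; apply Subtype.ext; rw [hsq]
            rw [show ((-1 : (ZMod q)ˣ) * -1, (-1 : (ZMod q)ˣ) * -1) = 1 from
              Prod.ext (by simp) (by simp), map_one]; rfl
      let C := Subgroup.zpowers c
      have hcC : ∀ f : T, f * f ≠ 1 → f ∈ C := fun f hf => by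
        rcases hord f hf with rfl | rfl
        · exact Subgroup.mem_zpowers c
        · exact inv_mem (Subgroup.mem_zpowers c)
      have hc2 : c * c ≠ 1 := by
        intro h
        rw [h] at hcc
        have := dg_injective (a₁ := 1) (a₂ := (-1, -1)) (by rw [map_one]; exact hcc)
        exact hneg (congrArg Prod.fst this).symm
      have hφc : ∀ φ : MulAut T, φ c ∈ C := fun φ => hcC _ fun h => hc2
        (φ.injective (by rw [map_mul, h, map_one]))
      have hCi : C.index = 2 := by
        rw [Subgroup.index_eq_two_iff_exists_notMem_and]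
        refine ⟨w, ?_, fun f => or_iff_not_imp_left.2 fun hf => ?_⟩
        · intro hwC
          obtain ⟨i, hi⟩ := hwC
          replace hi : c ^ i = w := hi
          rcases Int.even_or_odd i with ⟨j, rfl⟩ | ⟨j, rfl⟩
          · have hmem : w ∈ B := by
              rw [← hi, ← two_mul, zpow_mul]
              have hcB : c ^ (2 : ℤ) ∈ B := by
                rw [zpow_two]; exact ⟨(-1, -1), Or.inl (by simp), hcc⟩
              exact zpow_mem hcB _
            exact hwB hmem
          · have hnot : w * w ≠ 1 := by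
              rw [← hi, ← zpow_add, show (2 * j + 1) + (2 * j + 1) = ((4 : ℕ) : ℤ) * j + 2 by
                push_cast; ring, zpow_add, zpow_mul, zpow_natCast, hc4, one_zpow, one_mul, zpow_two]
              exact hc2
            exact hnot hw2
        · by_contra hfC
          have hf2 : f * f = 1 := by by_contra h; exact hfC (hcC f h)
          have hfw2 : f * w * (f * w) = 1 := by by_contra h; exact hf (hcC _ h)
          obtain ⟨p, hp, h⟩ := hcases f f.2
          have key : ∀ p : (ZMod q)ˣ × (ZMod q)ˣ, p.1 * p.2 = 1 → dg p = 1 ∨ dg p = dg (-1, -1) := by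
            rintro ⟨x, y⟩ hp
            rcases h3 x with rfl | rfl <;> rcases h3 y with rfl | rfl
            · left; exact map_one dg
            · exact absurd (by simpa using hp) hneg
            · exact absurd (by simpa using hp) hneg
            · right; rfl
          have hm1 : ∀ r, (dg r : (Fin 2 → ZMod q) ≃ₗ[ZMod q] _) * sw * (dg r * sw) =
              dg (r.1 * r.2, r.2 * r.1) := fun r => by
            rw [mul_assoc, ← mul_assoc sw, sw_dg, mul_assoc, sw_sw, mul_one, ← map_mul]; rfl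
          rcases h with h | h
          · have e := congrArg Subtype.val hfw2
            simp only [Subgroup.coe_mul, w, h] at e
            rw [hm1] at e
            have e' := dg_injective (a₁ := (p.1 * p.2, p.2 * p.1)) (a₂ := 1) (by rw [e, map_one]; rfl)
            rcases key p (congrArg Prod.fst e') with hk | hk
            · apply hfC; rw [show f = 1 from Subtype.ext (h.trans hk)]; exact one_mem _
            · apply hfC
              rw [show f = c * c from Subtype.ext ((h.trans hk).trans hcc.symm)]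
              exact mul_mem (Subgroup.mem_zpowers c) (Subgroup.mem_zpowers c)
          · have e := congrArg Subtype.val hf2
            simp only [Subgroup.coe_mul, h] at e
            rw [hm1] at e
            have e' := dg_injective (a₁ := (p.1 * p.2, p.2 * p.1)) (a₂ := 1) (by rw [e, map_one]; rfl)
            apply hf
            have hfw : ((f * w : T) : (Fin 2 → ZMod q) ≃ₗ[ZMod q] _) = dg p := by
              show (f : (Fin 2 → ZMod q) ≃ₗ[ZMod q] (Fin 2 → ZMod q)) * sw = dg p
              rw [h, mul_assoc, sw_sw, mul_one]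
            rcases key p (congrArg Prod.fst e') with hk | hk
            · rw [show f * w = 1 from Subtype.ext (hfw.trans hk)]; exact one_mem _
            · rw [show f * w = c * c from Subtype.ext ((hfw.trans hk).trans hcc.symm)]
              exact mul_mem (Subgroup.mem_zpowers c) (Subgroup.mem_zpowers c)
      refine Cfsg.Lib.TwoGroup.isPGroup_aut hCi ?_ (one_mem C) (Subgroup.mem_zpowers c) (m := 2)
        ?_ (Commute.one_left c) ?_ hφc
      · rintro φ b ⟨i, rfl⟩
        rw [map_zpow]; exact zpow_mem (hφc φ) i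
      · rintro b ⟨i, rfl⟩
        have h4 : c ^ (2 ^ 2) = 1 := hc4
        rw [← zpow_natCast, ← zpow_mul, mul_comm, zpow_mul, zpow_natCast, h4, one_zpow]
      · rintro b ⟨i, rfl⟩
        exact ⟨0, i, by simp⟩
  · -- m ≥ 3
    have h8 : 8 ≤ 2 ^ m :=
      le_trans (show 8 ≤ 2 ^ 3 by norm_num) (Nat.pow_le_pow_right (by norm_num) hm)
    have ha2 : a * a ≠ 1 := fun h => by
      have := orderOf_le_of_pow_eq_one (by norm_num) (show a ^ 2 = 1 by rw [pow_two, h])
      omega
    have ha4 : a ^ 4 ≠ 1 := fun h => by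
      have := orderOf_le_of_pow_eq_one (by norm_num) h
      omega
    let c : T := ⟨dg (a, a⁻¹), hdg _ (Or.inl (mul_inv_cancel a))⟩
    let g : T := ⟨dg (1, -1), hdg _ (Or.inr (one_mul _))⟩
    have hcB : c ∈ B := ⟨_, Or.inl (mul_inv_cancel a), rfl⟩
    have hgB : g ∈ B := ⟨_, Or.inr (one_mul _), rfl⟩
    have hout4 : ∀ f : T, f ∉ B → f ^ 4 = 1 := by
      intro f hf
      obtain ⟨p, hp, e⟩ := hout f hf
      have h2 : ((f * f : T) : (Fin 2 → ZMod q) ≃ₗ[ZMod q] _) = dg (p.1 * p.2, p.2 * p.1) := by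
        rw [Subgroup.coe_mul, e, mul_assoc, ← mul_assoc sw, sw_dg, mul_assoc, sw_sw, mul_one,
          ← map_mul]
        rfl
      apply Subtype.ext
      rw [show (4 : ℕ) = 2 * 2 from rfl, pow_mul, pow_two, pow_two, Subgroup.coe_mul, h2, ← map_mul]
      rw [show (p.1 * p.2, p.2 * p.1) * (p.1 * p.2, p.2 * p.1) = (1 : (ZMod q)ˣ × (ZMod q)ˣ) from by
        have : p.1 * p.2 = 1 ∨ p.1 * p.2 = -1 := hp
        rw [mul_comm p.2 p.1]
        refine Prod.ext ?_ ?_ <;> rcases this with h | h <;> simp [h], map_one]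
      rfl
    have hc4 : c ^ 4 ≠ 1 := fun h => by
      have h' := congrArg Subtype.val h
      simp only [c, SubmonoidClass.coe_pow, ← map_pow, OneMemClass.coe_one] at h'
      exact ha4 (congrArg Prod.fst (dg_injective (h'.trans (map_one dg).symm)))
    have hφcB : ∀ φ : MulAut T, φ c ∈ B := fun φ => by
      by_contra h
      exact hc4 (φ.injective (by rw [map_pow, hout4 _ h, map_one]))
    have hcomm : ∀ b ∈ B, Commute b c := by
      rintro b ⟨p, -, e⟩
      apply Subtype.ext
      simp only [Subgroup.coe_mul, c, e, ← map_mul, mul_comm]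
    have hBinv : ∀ (φ : MulAut T), ∀ b ∈ B, φ b ∈ B := by
      intro φ b hb
      by_contra hφb
      obtain ⟨p, hp, e⟩ := hφcB φ
      obtain ⟨r, hr, e'⟩ := hout _ hφb
      have hc' : Commute (φ b) (φ c) := (hcomm b hb).map φ
      have h1 := congrArg Subtype.val hc'.eq
      rw [Subgroup.coe_mul, Subgroup.coe_mul, e, e', mul_assoc, sw_dg, ← mul_assoc, ← mul_assoc,
        ← map_mul, ← map_mul, mul_left_inj] at h1
      have h2 := dg_injective h1
      have h3 : p.2 = p.1 := by
        have h5 : r.1 * p.2 = p.1 * r.1 := congrArg Prod.fst h2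
        rw [mul_comm p.1] at h5
        exact mul_left_cancel h5
      apply hc4
      apply φ.injective
      rw [map_pow, map_one]
      apply Subtype.ext
      rw [SubmonoidClass.coe_pow, e, ← map_pow, OneMemClass.coe_one]
      have hpp : p.1 * p.1 = 1 ∨ p.1 * p.1 = -1 := by
        have : p.1 * p.2 = 1 ∨ p.1 * p.2 = -1 := hp
        rwa [h3] at this
      have h4 : p.1 ^ 4 = 1 := by
        rw [show p.1 ^ 4 = (p.1 * p.1) * (p.1 * p.1) by simp [pow_succ, mul_assoc]]
        rcases hpp with h | h <;> rw [h] <;> simp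
      rw [show p ^ 4 = 1 from Prod.ext h4 (show p.2 ^ 4 = 1 by rw [h3, h4]), map_one]
    have hwc : w * c * w⁻¹ = c⁻¹ := by
      rw [mul_inv_eq_iff_eq_mul]
      apply Subtype.ext
      show sw * dg (a, a⁻¹) = (dg (a, a⁻¹))⁻¹ * sw
      rw [sw_dg, ← map_inv]
      congr 2
    have hcinv : ∀ φ : MulAut T, φ c ∈ Subgroup.zpowers c := by
      intro φ
      have hwφ : φ w ∉ B := fun h => hwB (by simpa using hBinv φ⁻¹ _ h)
      obtain ⟨r, hr, e'⟩ := hout _ hwφ
      obtain ⟨p, hp, e⟩ := hφcB φ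
      have h1 : φ w * φ c = (φ c)⁻¹ * φ w := by
        rw [← map_inv, ← map_mul, ← map_mul, ← hwc, inv_mul_cancel_right]
      have h2 := congrArg Subtype.val h1
      rw [Subgroup.coe_mul, Subgroup.coe_mul, Subgroup.coe_inv, e, e', mul_assoc, sw_dg, ← mul_assoc,
        ← mul_assoc, ← map_inv, ← map_mul, ← map_mul, mul_left_inj] at h2
      have h3 : p.2 = p.1⁻¹ := by
        have h5 : r.1 * p.2 = p.1⁻¹ * r.1 := congrArg Prod.fst (dg_injective h2)
        rw [mul_comm p.1⁻¹] at h5
        exact mul_left_cancel h5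
      obtain ⟨i, hi⟩ := ha p.1
      refine ⟨i, Subtype.ext ?_⟩
      show ((c ^ i : T) : (Fin 2 → ZMod q) ≃ₗ[ZMod q] _) = ((φ c : T) : (Fin 2 → ZMod q) ≃ₗ[ZMod q] (Fin 2 → ZMod q))
      rw [Subgroup.coe_zpow, e]
      show dg (a, a⁻¹) ^ i = dg p
      rw [← map_zpow]
      congr 1
      refine Prod.ext hi ?_
      show a⁻¹ ^ i = p.2
      rw [h3, inv_zpow]
      exact congrArg _ hi
    refine Cfsg.Lib.TwoGroup.isPGroup_aut hBi hBinv hgB hcB hexp (hcomm g hgB) ?_ hcinv
    rintro b ⟨p, hp, e⟩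
    obtain ⟨i, hi⟩ := ha p.1
    have hp' : p.1 * p.2 = 1 ∨ p.1 * p.2 = -1 := hp
    rcases hp' with h | h
    · refine ⟨0, i, Subtype.ext ?_⟩
      rw [zpow_zero, one_mul, Subgroup.coe_zpow, e]
      show dg p = dg (a, a⁻¹) ^ i
      rw [← map_zpow]
      congr 1
      refine Prod.ext hi.symm ?_
      show p.2 = a⁻¹ ^ i
      rw [inv_zpow]
      exact (eq_inv_of_mul_eq_one_right h).trans (congrArg _ hi.symm)
    · refine ⟨1, i, Subtype.ext ?_⟩
      rw [zpow_one, Subgroup.coe_mul, Subgroup.coe_zpow, e]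
      show dg p = dg (1, -1) * dg (a, a⁻¹) ^ i
      rw [← map_zpow, ← map_mul]
      congr 1
      refine Prod.ext (by simp [← hi]) ?_
      show p.2 = -1 * a⁻¹ ^ i
      have : p.2 = p.1⁻¹ * -1 := eq_inv_mul_of_mul_eq h
      rw [this, mul_comm, inv_zpow, show a ^ i = p.1 from hi]

end Cfsg.Agent.S3382
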