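import Cfsg.Statements.S3383
import Mathlib
import Cfsg.Agent.Lib.Solv.FrobeniusBasic

set_option autoImplicit false
open Cfsg

namespace Cfsg.Agent.S3383

open Cfsg in
theorem frob {G : Type*} [Group G] [Finite G] {H : Subgroup G} (hH : IsFrobeniusComplement H) :
    ∃ K : Subgroup G, (K : Set G) = frobeniusKernel H ∧ K.Normal ∧ K.IsComplement' H :=
  Cfsg.Lib.Solv.frobenius_theorem hH

open Cfsg in
theorem mem_kernel {G : Type*} [Group G] {H : Subgroup G} {x : G} :
    x ∈ frobeniusKernel H ↔ x = 1 ∨ ∀ g : G, g⁻¹ * x * g ∉ H :=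
  Cfsg.Lib.Solv.mem_frobeniusKernel_iff

open Cfsg in
theorem fpf {G : Type*} [Group G] {H : Subgroup G} (hH : IsFrobeniusComplement H) {K : Subgroup G}
    (hd : Disjoint K H) {h k : G} (hh : h ∈ H) (hh1 : h ≠ 1) (hk : k ∈ K) (hc : k * h = h * k) : k = 1 :=
  Cfsg.Lib.Solv.fpf_of_frobenius hH hd hh hh1 hk hc

open Cfsg in
theorem coprime {G : Type*} [Group G] [Finite G] {H : Subgroup G} (hH : IsFrobeniusComplement H) :
    (Nat.card H).Coprime H.index :=
  Cfsg.Lib.Solv.frob_coprime hH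


/-- Let H be a Frobenius complement in a finite group L and K the Frobenius kernel (as a subgroup). Then K is characteristic in L, and every normal subgroup of L either contains K or is contained in K. -/
theorem result {L : Type*} [Group L] [Finite L]
    (H : Subgroup L) (hH : Cfsg.IsFrobeniusComplement H)
    (K : Subgroup L) (hK : (K : Set L) = Cfsg.frobeniusKernel H) :
    K.Characteristic ∧ ∀ N : Subgroup L, N.Normal → K ≤ N ∨ N ≤ K := by
  classical
  obtain ⟨K', hK', hK'n, hc⟩ := Cfsg.Agent.S3383.frob hH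
  have hKK : K' = K := SetLike.coe_injective (hK'.trans hK.symm)
  subst hKK
  haveI := hK'n
  have hcop : (Nat.card K').Coprime K'.index := by
    rw [← hc.index_eq_card, hc.symm.index_eq_card]
    exact (Cfsg.Agent.S3383.coprime hH).symm
  refine ⟨Subgroup.characteristic_iff_map_le.2 fun φ => ?_, fun N hN => ?_⟩
  · rintro _ ⟨k, hk, rfl⟩
    rw [MulEquiv.toMonoidHom_eq_coe, MonoidHom.coe_coe, ← QuotientGroup.eq_one_iff]
    have h1 : orderOf ((φ k : L) : L ⧸ K') ∣ Nat.card K' := by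
      refine orderOf_dvd_of_pow_eq_one ?_
      rw [← QuotientGroup.mk_pow, ← map_pow]
      have : k ^ Nat.card K' = 1 := congrArg Subtype.val (pow_card_eq_one' (x := (⟨k, hk⟩ : K')))
      rw [this, map_one]
      rfl
    have h2 : orderOf ((φ k : L) : L ⧸ K') ∣ K'.index := orderOf_dvd_natCard _
    exact orderOf_eq_one_iff.1 (Nat.dvd_one.1 (hcop ▸ Nat.dvd_gcd h1 h2))
  · refine or_iff_not_imp_right.2 fun hNK => ?_
    obtain ⟨x, hxN, hxK⟩ := SetLike.not_le_iff_exists.1 hNK
    have hx' : x ∉ frobeniusKernel H := fun h => hxK (by rw [← SetLike.mem_coe, hK']; exact h)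
    rw [Cfsg.Agent.S3383.mem_kernel] at hx'
    push Not at hx'
    obtain ⟨hx1, g, hg⟩ := hx'
    set h := g⁻¹ * x * g with hh
    have hhN : h ∈ N := by simpa using hN.conj_mem x hxN g⁻¹
    have hh1 : h ≠ 1 := fun e => hx1 (by
      calc x = g * h * g⁻¹ := by rw [hh]; group
        _ = 1 := by rw [e]; group)
    let f : K' → K' := fun k => ⟨h * k * h⁻¹ * (k : L)⁻¹, K'.mul_mem (hK'n.conj_mem k k.2 h) (K'.inv_mem k.2)⟩
    have hf : Function.Injective f := by
      intro k l hkl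
      have e : h * k * h⁻¹ * (k : L)⁻¹ = h * l * h⁻¹ * (l : L)⁻¹ := congrArg Subtype.val hkl
      have e1 : (l : L)⁻¹ * h⁻¹ * (h * k * h⁻¹ * (k : L)⁻¹) * k * h = (l : L)⁻¹ * h⁻¹ * (h * l * h⁻¹ * (l : L)⁻¹) * k * h := by rw [e]
      have e1' : (l : L)⁻¹ * k = h⁻¹ * ((l : L)⁻¹ * k) * h := by
        convert e1 using 1 <;> group
      have e2 : ((l : L)⁻¹ * k) * h = h * ((l : L)⁻¹ * k) := by
        conv_rhs => rw [e1']
        group
      have e3 := Cfsg.Agent.S3383.fpf hH hc.disjoint hg hh1 (K'.mul_mem (K'.inv_mem l.2) k.2) e2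
      exact Subtype.ext (inv_mul_eq_one.1 e3).symm
    intro k hk
    obtain ⟨l, hl⟩ := (Finite.injective_iff_surjective.1 hf) ⟨k, hk⟩
    have e : h * l * h⁻¹ * (l : L)⁻¹ = k := congrArg Subtype.val hl
    rw [← e, mul_assoc h, mul_assoc h]
    exact N.mul_mem hhN (hN.conj_mem _ (N.inv_mem hhN) l)

end Cfsg.Agent.S3383
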