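import Cfsg.Statements.S3389
import Mathlib

set_option autoImplicit false
open Cfsg

namespace Cfsg.Agent.S3389

/-- Let G be a finite group acting faithfully and transitively on a finite set Ω with fixity k ≥ 1: every non-identity element fixes at most k points and some non-identity element fixes exactly k points. Then |Z(G)| divides k; if k = 2 then |G| is even; and for every prime p > k dividing |G| and every point α, either p does not divide |G_α| or G_α contains a Sylow p-subgroup of G. -/
theorem result {G : Type*} [Group G] [Finite G] {Ω : Type*} [Fintype Ω] [MulAction G Ω] [FaithfulSMul G Ω]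
    (htr : MulAction.IsPretransitive G Ω) (k : ℕ) (hk : 1 ≤ k)
    (hfix : ∀ g : G, g ≠ 1 → Nat.card (MulAction.fixedBy Ω g) ≤ k) (hex : ∃ g : G, g ≠ 1 ∧ Nat.card (MulAction.fixedBy Ω g) = k) :
    Nat.card (Subgroup.center G) ∣ k ∧ (k = 2 → 2 ∣ Nat.card G) ∧
      ∀ (p : ℕ), p.Prime → k < p → p ∣ Nat.card G → ∀ α : Ω,
        ¬ p ∣ Nat.card (MulAction.stabilizer G α) ∨ ¬ p ∣ (MulAction.stabilizer G α).index := by
  classical
  haveI := htr
  letI : Fintype G := Fintype.ofFinite G
  obtain ⟨g, hg1, hgk⟩ := hex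
  have key : ∀ (p : ℕ) [Fact p.Prime] (P : Subgroup G) (_ : IsPGroup p P) (S : Subgroup G), P ≤ S →
      (∀ r ∈ Subgroup.normalizer (P : Set G), (∃ i : ℕ, orderOf r = p ^ i) → r ∈ S) →
      (∀ Q : Subgroup G, IsPGroup p Q → Q ≤ S → P ≤ Q → Q = P) → ∀ R : Subgroup G, IsPGroup p R → P ≤ R → R = P := by
    intro p _ P hP S hPS hN hmax R hR hPR
    by_contra hne
    have hlt : P < R := lt_of_le_of_ne hPR (Ne.symm hne)
    haveI := hR.isNilpotent
    have hlt' : P.subgroupOf R < ⊤ := lt_top_iff_ne_top.2 fun h => hlt.not_ge (Subgroup.subgroupOf_eq_top.1 h)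
    obtain ⟨r, hr, hrP⟩ := SetLike.exists_of_lt (normalizerCondition_of_isNilpotent _ hlt')
    have hrN : (r : G) ∈ Subgroup.normalizer (P : Set G) := by
      rw [Subgroup.mem_normalizer_iff]
      intro x
      constructor
      · intro hx
        have := (Subgroup.mem_normalizer_iff.1 hr ⟨x, hPR hx⟩).1 hx
        simpa [Subgroup.mem_subgroupOf] using this
      · intro hx
        have hxR : x ∈ R := by
          have := R.mul_mem (R.mul_mem (R.inv_mem r.2) (hPR hx)) r.2
          simpa [mul_assoc] using this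
        exact (Subgroup.mem_normalizer_iff.1 hr ⟨x, hxR⟩).2 (by simpa [Subgroup.mem_subgroupOf] using hx)
    obtain ⟨i, hi⟩ := IsPGroup.iff_orderOf.1 hR r
    rw [← Subgroup.orderOf_coe] at hi
    have hrS := hN r hrN ⟨i, hi⟩
    have hQ : P ⊔ Subgroup.zpowers (r : G) = P :=
      hmax _ (hR.to_le (sup_le hPR (Subgroup.zpowers_le.2 r.2))) (sup_le hPS (Subgroup.zpowers_le.2 hrS)) le_sup_left
    exact hrP (Subgroup.mem_subgroupOf.2 (hQ ▸ Subgroup.mem_sup_right (Subgroup.mem_zpowers (r : G))))
  have hmaxexists : ∀ (p : ℕ) (S P₀ : Subgroup G), IsPGroup p P₀ → P₀ ≤ S →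
      ∃ P : Subgroup G, P₀ ≤ P ∧ IsPGroup p P ∧ P ≤ S ∧ ∀ Q : Subgroup G, IsPGroup p Q → Q ≤ S → P ≤ Q → Q = P := by
    intro p S P₀ h0 h0S
    obtain ⟨P, hle, hP⟩ := (Set.toFinite {Q : Subgroup G | IsPGroup p Q ∧ Q ≤ S}).exists_le_maximal (a := P₀) ⟨h0, h0S⟩
    exact ⟨P, hle, hP.1.1, hP.1.2, fun Q h1 h2 h3 => le_antisymm (hP.2 ⟨h1, h2⟩ h3) h3⟩
  refine ⟨?_, fun hk2 => ?_, fun p hp hkp hpG α => ?_⟩
  · set Z := Subgroup.center G
    let A : SubMulAction Z Ω :=
      { carrier := MulAction.fixedBy Ω g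
        smul_mem' := fun z x hx => by
          show g • ((z : G) • x) = (z : G) • x
          rw [smul_smul, Subgroup.mem_center_iff.1 z.2 g, mul_smul, hx] }
    have hfree : ∀ x : A, MulAction.stabilizer Z x = ⊥ := by
      intro x
      rw [Subgroup.eq_bot_iff_forall]
      intro z hz
      apply Subtype.ext
      refine FaithfulSMul.eq_of_smul_eq_smul fun y : Ω => ?_
      obtain ⟨c, rfl⟩ := MulAction.exists_smul_eq G (x : Ω) y
      have h1 : (z : G) • (x : Ω) = (x : Ω) := congrArg Subtype.val hz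
      rw [Subgroup.coe_one, one_smul, smul_smul, ← Subgroup.mem_center_iff.1 z.2 c, mul_smul, h1]
    letI : Fintype A := Fintype.ofFinite _
    have hA : Nat.card A = k := hgk
    rw [← hA, Nat.card_congr (MulAction.selfEquivSigmaOrbitsQuotientStabilizer Z A), Nat.card_sigma]
    refine Finset.dvd_sum fun q _ => dvd_of_eq ?_
    rw [hfree, ← Subgroup.index, Subgroup.index_bot]
  · by_contra hodd
    subst hk2
    have hswap : ∀ r : G, ∀ a b : Ω, a ≠ b → r • a = b → r • b = a → False := by
      intro r a b hab hra hrb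
      have hev : Odd (orderOf r) := Nat.not_even_iff_odd.1 fun he =>
        hodd ((even_iff_two_dvd.1 he).trans (orderOf_dvd_natCard r))
      obtain ⟨j, hj⟩ := hev
      have hiter : ∀ i : ℕ, r ^ (2 * i) • a = a := by
        intro i
        induction i with
        | zero => simp
        | succ i ih => rw [show 2 * (i + 1) = 2 * i + 1 + 1 by ring, pow_succ, pow_succ, mul_smul, mul_smul, hra, hrb, ih]
      have h1 : r ^ orderOf r • a = b := by rw [hj, pow_succ', mul_smul, hiter, hra]
      rw [pow_orderOf_eq_one, one_smul] at h1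
      exact hab h1
    rw [Nat.card_eq_fintype_card] at hgk
    obtain ⟨⟨a, ha⟩, ⟨b, hb⟩, hab⟩ := Fintype.one_lt_card_iff.1 (show 1 < Fintype.card (MulAction.fixedBy Ω g) by omega)
    have hab' : a ≠ b := fun h => hab (Subtype.ext h)
    set p := (orderOf g).minFac with hp
    haveI := Fact.mk (Nat.minFac_prime (show orderOf g ≠ 1 by rwa [Ne, orderOf_eq_one_iff]))
    set S := MulAction.stabilizer G a ⊓ MulAction.stabilizer G b
    have hgS : g ^ (orderOf g / p) ∈ S := S.pow_mem (Subgroup.mem_inf.2 ⟨ha, hb⟩) _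
    have hgo : orderOf (g ^ (orderOf g / p)) = p := by
      rw [orderOf_pow, Nat.gcd_eq_right (Nat.div_dvd_of_dvd (Nat.minFac_dvd _)),
        Nat.div_div_self (Nat.minFac_dvd _) (orderOf_pos g).ne']
    obtain ⟨P, h0P, hP, hPS, hPmax⟩ := hmaxexists p S (Subgroup.zpowers (g ^ (orderOf g / p)))
      (IsPGroup.of_card (n := 1) (by rw [Nat.card_zpowers, hgo, pow_one])) (Subgroup.zpowers_le.2 hgS)
    -- `P` fixes exactly `a` and `b`
    have hPfix : ∀ c : Ω, (∀ x ∈ P, x • c = c) → c = a ∨ c = b := by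
      intro c hc
      by_contra hne
      push Not at hne
      have hz1 : g ^ (orderOf g / p) ≠ 1 := fun h => (Fact.out : p.Prime).one_lt.ne (by rw [← hgo, h, orderOf_one])
      have h3 := hfix _ hz1
      have hmem := h0P (Subgroup.mem_zpowers (g ^ (orderOf g / p)))
      have hle : ({a, b, c} : Finset Ω).card ≤ Nat.card (MulAction.fixedBy Ω (g ^ (orderOf g / p))) := by
        rw [Nat.card_eq_fintype_card, ← Set.toFinset_card]
        refine Finset.card_le_card fun x hx => Set.mem_toFinset.2 ?_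
        rcases Finset.mem_insert.1 hx with rfl | hx
        · exact (Subgroup.mem_inf.1 (hPS hmem)).1
        rcases Finset.mem_insert.1 hx with rfl | hx
        · exact (Subgroup.mem_inf.1 (hPS hmem)).2
        · rw [Finset.mem_singleton.1 hx]; exact hc _ hmem
      rw [Finset.card_eq_three.2 ⟨a, b, c, hab', hne.1.symm, hne.2.symm, rfl⟩] at hle
      omega
    have hnormfix : ∀ r ∈ Subgroup.normalizer (P : Set G), r • a = a ∧ r • b = b := by
      intro r hr
      have hmov : ∀ c : Ω, (∀ x ∈ P, x • c = c) → ∀ x ∈ P, x • r • c = r • c := by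
        intro c hc x hx
        have h1 := hc _ ((Subgroup.mem_normalizer_iff.1 hr (r⁻¹ * x * r)).2 (by simpa [mul_assoc] using hx))
        rw [mul_smul, mul_smul, inv_smul_eq_iff] at h1
        exact h1
      have h1 := hPfix (r • a) (hmov a fun x hx => (Subgroup.mem_inf.1 (hPS hx)).1)
      have h2 := hPfix (r • b) (hmov b fun x hx => (Subgroup.mem_inf.1 (hPS hx)).2)
      rcases h1 with h1 | h1
      · refine ⟨h1, h2.resolve_left fun h => hab' (MulAction.injective r (h1.trans h.symm))⟩
      · rcases h2 with h2 | h2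
        · exact (hswap r a b hab' h1 h2).elim
        · exact absurd (MulAction.injective r (h1.trans h2.symm)) hab'
    have hPmaxG := key p P hP S hPS (fun r hr _ => Subgroup.mem_inf.2 (hnormfix r hr)) hPmax
    let P' : Sylow p G := ⟨P, hP, fun {Q} hQ hPQ => hPmaxG Q hQ hPQ⟩
    obtain ⟨x, hx⟩ := MulAction.exists_smul_eq G a b
    have hxP : ∀ y ∈ P, x * y * x⁻¹ ∈ MulAction.stabilizer G b := fun y hy => by
      rw [MulAction.mem_stabilizer_iff, mul_smul, mul_smul, show x⁻¹ • b = a from inv_smul_eq_iff.2 hx.symm,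
        (Subgroup.mem_inf.1 (hPS hy)).1, hx]
    have hPb : (P' : Subgroup G) ≤ MulAction.stabilizer G b := fun y hy => (Subgroup.mem_inf.1 (hPS hy)).2
    have hxPb : ((x • P' : Sylow p G) : Subgroup G) ≤ MulAction.stabilizer G b := by
      rintro _ ⟨y, hy, rfl⟩
      exact hxP y hy
    obtain ⟨y, hy⟩ := MulAction.exists_smul_eq (MulAction.stabilizer G b) ((x • P').subtype hxPb) (P'.subtype hPb)
    rw [Sylow.smul_subtype] at hy
    have hy' : (y : G) • (x • P') = P' := Sylow.subtype_injective hy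
    rw [← mul_smul, Sylow.smul_eq_iff_mem_normalizer] at hy'
    have h1 := (hnormfix _ hy').1
    rw [mul_smul, hx, show (y : G) • b = b from y.2] at h1
    exact hab' h1.symm
  · haveI := Fact.mk hp
    by_contra hcon
    push Not at hcon
    obtain ⟨hpS, hpi⟩ := hcon
    set S := MulAction.stabilizer G α
    obtain ⟨s, hs⟩ := exists_prime_orderOf_dvd_card' p hpS
    rw [← Subgroup.orderOf_coe] at hs
    obtain ⟨P, h0P, hP, hPS, hPmax⟩ := hmaxexists p S (Subgroup.zpowers (s : G))
      (IsPGroup.of_card (n := 1) (by rw [Nat.card_zpowers, hs, pow_one])) (Subgroup.zpowers_le.2 s.2)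
    have hs1 : (s : G) ≠ 1 := fun h => hp.one_lt.ne (by rw [← hs, h, orderOf_one])
    have hN : ∀ r ∈ Subgroup.normalizer (P : Set G), (∃ i : ℕ, orderOf r = p ^ i) → r ∈ S := by
      rintro r hr ⟨i, hi⟩
      let A : SubMulAction (Subgroup.zpowers r) Ω :=
        { carrier := {c | ∀ x ∈ P, x • c = c}
          smul_mem' := fun t c hc x hx => by
            have htn : (t : G) ∈ Subgroup.normalizer (P : Set G) := Subgroup.zpowers_le.2 hr t.2
            show x • (t : G) • c = (t : G) • c
            have h1 := hc _ ((Subgroup.mem_normalizer_iff.1 htn ((t : G)⁻¹ * x * t)).2 (by simpa [mul_assoc] using hx))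
            rw [mul_smul, mul_smul, inv_smul_eq_iff] at h1
            exact h1 }
      have hRp : IsPGroup p (Subgroup.zpowers r) := IsPGroup.of_card (by rw [Nat.card_zpowers, hi])
      have hcardA : Nat.card A < p := by
        refine lt_of_le_of_lt ?_ hkp
        refine le_trans (Nat.card_mono (Set.toFinite _) fun c hc => ?_) (hfix _ hs1)
        exact hc _ (h0P (Subgroup.mem_zpowers _))
      obtain ⟨j, hj⟩ := hRp.card_orbit (⟨α, fun x hx => hPS hx⟩ : A)
      have hle : Nat.card (MulAction.orbit (Subgroup.zpowers r) (⟨α, fun x hx => hPS hx⟩ : A)) ≤ Nat.card A :=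
        Nat.card_le_card_of_injective _ Subtype.val_injective
      have hj0 : j = 0 := by
        by_contra hj0
        have : p ≤ p ^ j := Nat.le_self_pow hj0 p
        omega
      rw [hj0, pow_zero, Nat.card_eq_one_iff_unique] at hj
      haveI := hj.1
      have h2 : (⟨r, Subgroup.mem_zpowers r⟩ : Subgroup.zpowers r) • (⟨α, fun x hx => hPS hx⟩ : A) = ⟨α, fun x hx => hPS hx⟩ :=
        congrArg Subtype.val (Subsingleton.elim (⟨_, MulAction.mem_orbit _ _⟩ : MulAction.orbit (Subgroup.zpowers r) _)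
          ⟨_, MulAction.mem_orbit_self _⟩)
      exact congrArg Subtype.val h2
    have hPmaxG := key p P hP S hPS hN hPmax
    let P' : Sylow p G := ⟨P, hP, fun {Q} hQ hPQ => hPmaxG Q hQ hPQ⟩
    exact P'.not_dvd_index (hpi.trans (Subgroup.index_dvd_of_le (H := (P' : Subgroup G)) hPS))

end Cfsg.Agent.S3389
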