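import Mathlib
import Cfsg.Prelude.Def_LieExceptional
import Cfsg.Prelude.Def_Sz
import Cfsg.Agent.Lib.Linear.Suzuki.Partition
import Cfsg.Agent.Lib.Linear.Suzuki.LieForm

/-!
# Actions of fixity two of a Suzuki group
-/

set_option autoImplicit false

namespace Cfsg.Agent.S3391

open Cfsg.Lib.Linear.Suz
open scoped LinearAlgebra.Projectivization

section Core

variable {F : Type*} [Field F] [Fintype F] {m : ℕ} (h : Params F m)
variable {Ω : Type*} [Finite Ω] [MulAction ↥(Cfsg.Sz F m) Ω]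

omit [Fintype F] in
theorem sq_fixes {x g : ↥(Cfsg.Sz F m)} (hfix : Nat.card (MulAction.fixedBy Ω x) ≤ 2)
    (hperm : ∀ ω : Ω, x • ω = ω → x • g • ω = g • ω) {α : Ω} (hα : x • α = α) : (g * g) • α = α := by
  rw [mul_smul]
  by_cases hg : g • α = α
  · rw [hg, hg]
  · by_contra hne
    have hsub : ({α, g • α, g • g • α} : Set Ω) ⊆ MulAction.fixedBy Ω x := by
      rintro ω (rfl | rfl | rfl)
      exacts [hα, hperm _ hα, hperm _ (hperm _ hα)]
    have h2 : g • α ≠ g • g • α := fun e => hg (MulAction.injective g e).symm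
    have := Set.ncard_le_ncard hsub (Set.toFinite _)
    rw [← Nat.card_coe_set_eq (MulAction.fixedBy Ω x)] at this
    rw [Set.ncard_insert_of_notMem (by simp [Ne.symm hg, Ne.symm hne]) (Set.toFinite _),
      Set.ncard_pair h2] at this
    omega

omit [Fintype F] in
theorem odd_centralizer_fixes {x t : ↥(Cfsg.Sz F m)} (hfix : Nat.card (MulAction.fixedBy Ω x) ≤ 2)
    (hodd : Odd (orderOf t)) (htx : t * x = x * t) {α : Ω} (hα : x • α = α) : t • α = α := by
  obtain ⟨k, hk⟩ := hodd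
  have e : t = t ^ (k + 1) * t ^ (k + 1) := by
    rw [← pow_add, show k + 1 + (k + 1) = orderOf t + 1 by omega, pow_succ, pow_orderOf_eq_one, one_mul]
  rw [e]
  refine sq_fixes hfix (fun ω hω => ?_) hα
  rw [← mul_smul, (Commute.pow_left (show Commute t x from htx) (k + 1)).eq.symm, mul_smul, hω]

variable (hfix : ∀ g : ↥(Cfsg.Sz F m), g ≠ 1 → Nat.card (MulAction.fixedBy Ω g) ≤ 2)
include h hfix

theorem uS_ne_one {a b : F} (hab : a ≠ 0 ∨ b ≠ 0) : uS h a b ≠ 1 := fun e => by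
  rw [← uS_zero h] at e
  rcases hab with ha | hb
  exacts [ha (uS_inj h e).1, hb (uS_inj h e).2]

theorem sq_uS (a b : F) : uS h a b * uS h a b = uS h 0 (th m a * a) := by
  rw [uS_mul h, add_self h, add_self h, zero_add]

theorem stab_eq_borel (α : Ω) (htop : MulAction.stabilizer ↥(Cfsg.Sz F m) α ≠ ⊤)
    {u : ↥(Cfsg.Sz F m)} (hu : u ∈ US h) (hu1 : u ≠ 1) (huα : u • α = α) :
    MulAction.stabilizer ↥(Cfsg.Sz F m) α =
      MulAction.stabilizer ↥(Cfsg.Sz F m) (Cfsg.suzukiPointInfinity F) := by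
  classical
  obtain ⟨b, hb, hz⟩ : ∃ b : F, b ≠ 0 ∧ uS h 0 b • α = α := by
    obtain ⟨a, b, rfl⟩ := hu
    by_cases ha : a = 0
    · subst ha
      exact ⟨b, fun e => hu1 (by rw [e, uS_zero h]), huα⟩
    · exact ⟨th m a * a, mul_ne_zero (fun e => ha ((th_eq_zero h).mp e)) ha, by
        rw [← sq_uS h hfix a b, mul_smul, huα, huα]⟩
  have hz1 : uS h 0 b ≠ 1 := uS_ne_one h hfix (Or.inr hb)
  have hcent : ∀ a b' : F, ∀ c : F, uS h a b' * uS h 0 c = uS h 0 c * uS h a b' := by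
    intro a b' c
    rw [uS_mul h, uS_mul h, add_zero, zero_add, mul_zero, add_zero, th_zero h, zero_mul, add_zero, add_comm b' c]
  -- all central unipotent elements fix every fixed point of one of them
  have hallz : ∀ ω : Ω, uS h 0 b • ω = ω → ∀ c, uS h 0 c • ω = ω := by
    intro ω hω c
    obtain ⟨l, hl⟩ := mul_th_surjective h c
    rw [show c = th m l * l by rw [← hl, mul_comm], ← sq_uS h hfix l 0]
    exact sq_fixes (hfix _ hz1) (fun ρ hρ => by rw [← mul_smul, ← hcent, mul_smul, hρ]) hω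
  have hperm : ∀ g ∈ MulAction.stabilizer ↥(Cfsg.Sz F m) (Cfsg.suzukiPointInfinity F),
      ∀ ω : Ω, uS h 0 b • ω = ω → uS h 0 b • g • ω = g • ω := by
    intro g hg ω hω
    obtain ⟨c, hc⟩ : ∃ c, g⁻¹ * uS h 0 b * g = uS h 0 c := by
      obtain ⟨l, hl⟩ := mul_th_surjective h b
      obtain ⟨a', b', hab⟩ := stab_normalizes h (inv_mem hg) (show uS h l 0 ∈ US h from ⟨l, 0, rfl⟩)
      refine ⟨th m a' * a', ?_⟩
      rw [← sq_uS h hfix a' b', ← hab, show b = th m l * l by rw [← hl, mul_comm], ← sq_uS h hfix l 0]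
      group
    rw [← mul_smul, show uS h 0 b * g = g * (g⁻¹ * uS h 0 b * g) by group, hc, mul_smul, hallz ω hω c]
  have hd : ∀ k, dS h k ∈ MulAction.stabilizer ↥(Cfsg.Sz F m) α := by
    intro k
    obtain ⟨l, hl⟩ : ∃ l : Fˣ, k = l * l := by
      have hq : orderOf k ∣ 2 ^ (2 * m + 1) - 1 := by
        have := orderOf_dvd_natCard k
        rwa [Nat.card_eq_fintype_card, Fintype.card_units, h.card] at this
      obtain ⟨N, hN⟩ : ∃ N, N = 2 ^ (2 * m) := ⟨_, rfl⟩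
      have e2 : 2 ^ (2 * m + 1) = N + N := by rw [pow_succ, ← hN]; ring
      have hN1 : 1 ≤ N := by rw [hN]; exact Nat.one_le_two_pow
      refine ⟨k ^ N, ?_⟩
      rw [← pow_add, show N + N = (2 ^ (2 * m + 1) - 1) + 1 by omega, pow_succ,
        orderOf_dvd_iff_pow_eq_one.mp hq, one_mul]
    rw [MulAction.mem_stabilizer_iff, hl, map_mul]
    exact sq_fixes (hfix _ hz1) (hperm _ (dHom_inf l)) hz
  have hmove : ∃ a c : F, a ≠ 0 ∧ uS h a c ∈ MulAction.stabilizer ↥(Cfsg.Sz F m) α := by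
    obtain ⟨k, hk0, hk1⟩ := exists_ne_zero_one h
    by_cases h1 : uS h 1 0 • α = α
    · exact ⟨1, 0, one_ne_zero, h1⟩
    by_cases h2 : uS h k 0 • α = α
    · exact ⟨k, 0, hk0, h2⟩
    refine ⟨1 + k, 0 + 0 + th m 1 * k, fun e => hk1 (by linear_combination e - two_eq h), ?_⟩
    rw [MulAction.mem_stabilizer_iff, ← uS_mul h, mul_smul]
    have m1 := hperm _ (show uS h 1 0 ∈ MulAction.stabilizer ↥(Cfsg.Sz F m) (Cfsg.suzukiPointInfinity F) from
      uSL_inf 1 0)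
    have m2 := hperm _ (show uS h k 0 ∈ MulAction.stabilizer ↥(Cfsg.Sz F m) (Cfsg.suzukiPointInfinity F) from
      uSL_inf k 0)
    by_contra hne
    have hne1 : uS h 1 0 • uS h k 0 • α ≠ uS h 1 0 • α := fun e => h2 (MulAction.injective _ e)
    have hsub : ({α, uS h 1 0 • α, uS h 1 0 • uS h k 0 • α} : Set Ω) ⊆ MulAction.fixedBy Ω (uS h 0 b) := by
      rintro ω (rfl | rfl | rfl)
      exacts [hz, m1 _ hz, m1 _ (m2 _ hz)]
    have := Set.ncard_le_ncard hsub (Set.toFinite _)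
    rw [← Nat.card_coe_set_eq (MulAction.fixedBy Ω (uS h 0 b)), Set.ncard_insert_of_notMem
      (by simp [Ne.symm h1, Ne.symm hne]) (Set.toFinite _), Set.ncard_pair hne1.symm] at this
    have := hfix _ hz1
    omega
  obtain ⟨a₀, c₀, ha₀, hmem⟩ := hmove
  have hU : US h ≤ MulAction.stabilizer ↥(Cfsg.Sz F m) α := by
    rintro _ ⟨a, c, rfl⟩
    by_cases ha : a = 0
    · subst ha
      exact hallz α hz c
    · obtain ⟨k, hk⟩ : ∃ k : Fˣ, (k : F) * a₀ = a :=
        ⟨Units.mk0 (a / a₀) (div_ne_zero ha ha₀), by rw [Units.val_mk0, div_mul_cancel₀ _ ha₀]⟩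
      have h1 := mul_mem (mul_mem (hd k) hmem) (inv_mem (hd k))
      rw [dS_mul_uS h, mul_inv_cancel_right, hk] at h1
      have h2 := mul_mem h1 (show uS h 0 (c - (k : F) * th m (k : F) * c₀) ∈ _ from hallz α hz _)
      rwa [uS_mul h, add_zero, mul_zero, add_zero, add_sub_cancel] at h2
  refine le_antisymm ((overgroup_US h hU).resolve_right htop) fun g hg => ?_
  obtain ⟨a, c, k, rfl⟩ := (mem_stab_inf_iff h).mp hg
  exact mul_mem (hU ⟨a, c, rfl⟩) (hd k)

theorem not_fpf_of_fixes (hU : ∀ u ∈ US h, u ≠ 1 → ∀ ω : Ω, u • ω ≠ ω)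
    {x : ↥(Cfsg.Sz F m)} {α : Ω} (hα : x • α = α) (hf : Fpf h x) : False := by
  classical
  obtain ⟨T, hT⟩ : ∃ T, T = Subgroup.centralizer ({x} : Set ↥(Cfsg.Sz F m)) := ⟨_, rfl⟩
  have hx1 := fpf_ne_one h hf
  obtain ⟨-, hTI, hTdvd, -, -⟩ := torus_data h hf
  rw [← hT] at hTI hTdvd
  have hodd : ∀ t ∈ T, Odd (orderOf t) := fun t ht => by
    have he : 2 ∣ (2 ^ (2 * m + 1)) ^ 2 := dvd_pow (dvd_pow_self 2 (by omega)) two_ne_zero
    exact Odd.of_dvd_nat (by rw [Nat.odd_iff]; omega)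
      ((Subgroup.orderOf_dvd_natCard T ht).trans hTdvd)
  have hTfix : ∀ ω : Ω, x • ω = ω → ∀ t ∈ T, t • ω = ω := fun ω hω t ht =>
    odd_centralizer_fixes (hfix x hx1) (hodd t ht) (Subgroup.mem_centralizer_singleton_iff.mp (hT ▸ ht)) hω
  obtain ⟨N, hN⟩ : ∃ N, N = Subgroup.normalizer (T : Set ↥(Cfsg.Sz F m)) := ⟨_, rfl⟩
  have hxT : x ∈ T := hT ▸ Subgroup.mem_centralizer_singleton_iff.mpr rfl
  have hNperm : ∀ n ∈ N, ∀ ω : Ω, x • ω = ω → x • n • ω = n • ω := by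
    intro n hn ω hω
    have hmem : n⁻¹ * x * n ∈ T := (Subgroup.mem_normalizer_iff''.mp (hN ▸ hn) x).mp hxT
    rw [← mul_smul, show x * n = n * (n⁻¹ * x * n) by group, mul_smul, hTfix ω hω _ hmem]
  obtain ⟨K, hK⟩ : ∃ K, K = MulAction.stabilizer ↥N α := ⟨_, rfl⟩
  have hidx : K.index ≤ 2 := by
    rw [hK, MulAction.index_stabilizer]
    refine le_trans (Set.ncard_le_ncard ?_ (Set.toFinite _)) (by
      rw [← Nat.card_coe_set_eq]; exact hfix x hx1)
    rintro _ ⟨n, rfl⟩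
    exact hNperm n.1 n.2 α hα
  have hNcard : Nat.card ↥N = 4 * Nat.card ↥T := by
    obtain ⟨x₁, x₂, hx₁, hx₂, -, -, hn₁, hn₂, hall⟩ := tori h
    have key : ∀ y, Fpf h y → x ∈ conjSet (Subgroup.centralizer ({y} : Set ↥(Cfsg.Sz F m))) →
        Nat.card ↥(Subgroup.normalizer (Subgroup.centralizer ({y} : Set ↥(Cfsg.Sz F m)) : Set ↥(Cfsg.Sz F m))) =
          4 * Nat.card ↥(Subgroup.centralizer ({y} : Set ↥(Cfsg.Sz F m))) →
        Nat.card ↥N = 4 * Nat.card ↥T := by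
      rintro y hy ⟨-, σ, hσ⟩ hc
      have e : Subgroup.centralizer ({y} : Set ↥(Cfsg.Sz F m)) = T.map (MulAut.conj σ).toMonoidHom := by
        rw [← ((torus_data h hy).2.1 _ hσ fun e => hx1 (by rwa [mul_inv_eq_one, mul_eq_left] at e)).2,
          conj_centralizer h, hT]
      rw [e, Subgroup.card_map_of_injective (MulAut.conj σ).injective] at hc
      rw [hN, ← hc, ← Subgroup.map_equiv_normalizer_eq]
      exact (Subgroup.card_map_of_injective (MulAut.conj σ).injective).symm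
    rcases hall x hf with h' | h'
    exacts [key x₁ hx₁ h' hn₁, key x₂ hx₂ h' hn₂]
  have h2K : 2 ∣ Nat.card ↥K := by
    have hc := K.index_mul_card
    rw [hNcard] at hc
    rcases Nat.lt_or_ge K.index 2 with h1 | h1
    · have := Subgroup.index_ne_zero_of_finite (H := K)
      rw [show K.index = 1 by omega, one_mul] at hc
      omega
    · rw [show K.index = 2 by omega] at hc
      omega
  haveI : Fact (Nat.Prime 2) := ⟨Nat.prime_two⟩
  obtain ⟨⟨⟨v, hvN⟩, hvK⟩, hv⟩ := exists_prime_orderOf_dvd_card' 2 h2K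
  rw [Subgroup.orderOf_mk, Subgroup.orderOf_mk] at hv
  have hv1 : v ≠ 1 := fun e => by rw [e, orderOf_one] at hv; omega
  have hvα : v • α = α := by rw [hK] at hvK; exact hvK
  rcases cases_centralizer h hv1 with ⟨-, σ, hσ, -⟩ | ⟨-, hc⟩
  · refine hU _ hσ (fun e => hv1 (by rwa [mul_inv_eq_one, mul_eq_left] at e)) (σ • α) ?_
    rw [← mul_smul, inv_mul_cancel_right, mul_smul, hvα]
  · have hd := Subgroup.orderOf_dvd_natCard _
      (Subgroup.mem_centralizer_singleton_iff.mpr rfl :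
        v ∈ Subgroup.centralizer ({v} : Set ↥(Cfsg.Sz F m)))
    rw [hv] at hd
    exact (comp_two_le h hc).2 hd

theorem card_stab_eq (hU : ∀ u ∈ US h, u ≠ 1 → ∀ ω : Ω, u • ω ≠ ω) (α : Ω)
    (hne : MulAction.stabilizer ↥(Cfsg.Sz F m) α ≠ ⊥) :
    Nat.card ↥(MulAction.stabilizer ↥(Cfsg.Sz F m) α) = 2 ^ (2 * m + 1) - 1 := by
  classical
  obtain ⟨H, hH⟩ : ∃ H, H = MulAction.stabilizer ↥(Cfsg.Sz F m) α := ⟨_, rfl⟩
  rw [← hH] at hne ⊢
  have hmemH : ∀ g, g ∈ H ↔ g • α = α := fun g => by rw [hH, MulAction.mem_stabilizer_iff]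
  have hq := q_ge h
  have hqodd : Odd (2 ^ (2 * m + 1) - 1) := by
    have : 2 ∣ 2 ^ (2 * m + 1) := dvd_pow_self 2 (by omega)
    rw [Nat.odd_iff]; omega
  -- every element of H is split semisimple, with centraliser inside H
  have hdata : ∀ x ∈ H, x ≠ 1 →
      Nat.card ↥(Subgroup.centralizer ({x} : Set ↥(Cfsg.Sz F m))) = 2 ^ (2 * m + 1) - 1 ∧
      Subgroup.centralizer ({x} : Set ↥(Cfsg.Sz F m)) ≤ H ∧
      (∀ t ∈ Subgroup.centralizer ({x} : Set ↥(Cfsg.Sz F m)), t ≠ 1 →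
        Subgroup.centralizer ({t} : Set ↥(Cfsg.Sz F m)) = Subgroup.centralizer {x}) ∧
      Nat.card ↥(Subgroup.normalizer (Subgroup.centralizer ({x} : Set ↥(Cfsg.Sz F m)) : Set ↥(Cfsg.Sz F m))) =
        2 * (2 ^ (2 * m + 1) - 1) := by
    intro x hx hx1
    have hxα := (hmemH x).mp hx
    rcases classify h hx1 (fun hf => not_fpf_of_fixes h hfix hU hxα hf) with ⟨-, σ, hσ⟩ | ⟨-, σ, hσ⟩
    · refine absurd ?_ (hU _ hσ (fun e => hx1 (by rwa [mul_inv_eq_one, mul_eq_left] at e)) (σ • α))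
      rw [← mul_smul, inv_mul_cancel_right, mul_smul, hxα]
    · have hn : σ * x * σ⁻¹ ≠ 1 := fun e => hx1 (by rwa [mul_inv_eq_one, mul_eq_left] at e)
      have e : (dS h).range = (Subgroup.centralizer ({x} : Set ↥(Cfsg.Sz F m))).map (MulAut.conj σ).toMonoidHom := by
        rw [← centralizer_DS h hσ hn, conj_centralizer h]
      have hc : Nat.card ↥(Subgroup.centralizer ({x} : Set ↥(Cfsg.Sz F m))) = 2 ^ (2 * m + 1) - 1 := by
        rw [← card_conj_centralizer h σ x, centralizer_DS h hσ hn, card_DS h]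
      refine ⟨hc, fun t ht => (hmemH t).mpr (odd_centralizer_fixes (hfix x hx1) ?_
        (Subgroup.mem_centralizer_singleton_iff.mp ht) hxα), fun t ht ht1 => ?_, ?_⟩
      · exact Odd.of_dvd_nat hqodd (hc ▸ Subgroup.orderOf_dvd_natCard _ ht)
      · have hm' : σ * t * σ⁻¹ ∈ (dS h).range := e ▸ ⟨t, ht, rfl⟩
        have := centralizer_DS h hm' fun e => ht1 (by rwa [mul_inv_eq_one, mul_eq_left] at e)
        rw [conj_centralizer h, e] at this
        exact Subgroup.map_injective (MulAut.conj σ).injective this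
      · rw [← card_NDS h, e, ← Subgroup.map_equiv_normalizer_eq]
        exact (Subgroup.card_map_of_injective (MulAut.conj σ).injective).symm
  have hHodd : ¬ 2 ∣ Nat.card ↥H := fun h2 => by
    haveI : Fact (Nat.Prime 2) := ⟨Nat.prime_two⟩
    obtain ⟨⟨v, hvH⟩, hv⟩ := exists_prime_orderOf_dvd_card' 2 h2
    rw [Subgroup.orderOf_mk] at hv
    have hd := Subgroup.orderOf_dvd_natCard _
      (Subgroup.mem_centralizer_singleton_iff.mpr rfl :
        v ∈ Subgroup.centralizer ({v} : Set ↥(Cfsg.Sz F m)))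
    rw [hv, (hdata v hvH fun e => by rw [e, orderOf_one] at hv; omega).1] at hd
    rw [Nat.odd_iff] at hqodd
    omega
  have hcount : ∀ x ∈ H, x ≠ 1 →
      (conjSet ((Subgroup.centralizer ({x} : Set ↥(Cfsg.Sz F m))).subgroupOf H)).ncard =
        ((Subgroup.centralizer ({x} : Set ↥(Cfsg.Sz F m))).subgroupOf H).index * (2 ^ (2 * m + 1) - 1 - 1) := by
    intro x hx hx1
    obtain ⟨hc, hle, hTI, hN⟩ := hdata x hx hx1
    obtain ⟨T, hT⟩ : ∃ T, T = Subgroup.centralizer ({x} : Set ↥(Cfsg.Sz F m)) := ⟨_, rfl⟩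
    rw [← hT] at hc hle hTI hN ⊢
    have hcT : Nat.card ↥(T.subgroupOf H) = 2 ^ (2 * m + 1) - 1 := by
      rw [Nat.card_congr (Subgroup.subgroupOfEquivOfLe hle).toEquiv, hc]
    rw [ncard_conjSet (T.subgroupOf H) (T.subgroupOf H) (fun n hn t ht => mul_mem (mul_mem hn ht) (inv_mem hn)) ?_,
      hcT]
    intro t ht ht1 g hg
    rw [Subgroup.mem_subgroupOf] at ht ⊢
    have ht1' : (t : ↥(Cfsg.Sz F m)) ≠ 1 := fun e => ht1 (Subtype.ext e)
    have hgn : (g : ↥(Cfsg.Sz F m)) ∈ Subgroup.normalizer (T : Set ↥(Cfsg.Sz F m)) := by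
      refine Subgroup.mem_normalizer_fintype fun u hu => ?_
      rw [SetLike.mem_coe] at hu
      have e1 := hTI _ (show (g : ↥(Cfsg.Sz F m)) * t * (g : ↥(Cfsg.Sz F m))⁻¹ ∈ T from hg)
        (fun e => ht1' (by rwa [mul_inv_eq_one, mul_eq_left] at e))
      rw [← e1, conj_centralizer h, hTI _ ht ht1']
      exact ⟨u, hu, rfl⟩
    by_contra hgT
    obtain ⟨K, hK⟩ : ∃ K, K = H ⊓ Subgroup.normalizer (T : Set ↥(Cfsg.Sz F m)) := ⟨_, rfl⟩
    have hlt : T < K := lt_of_le_of_ne (hK ▸ le_inf hle Subgroup.le_normalizer) fun e =>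
      hgT (e ▸ hK ▸ Subgroup.mem_inf.mpr ⟨g.2, hgn⟩)
    have h1 : Nat.card ↥K ∣ 2 * (2 ^ (2 * m + 1) - 1) := hN ▸ Subgroup.card_dvd_of_le (hK ▸ inf_le_right)
    have h2 : ¬ 2 ∣ Nat.card ↥K := fun h' =>
      hHodd (h'.trans (Subgroup.card_dvd_of_le (hK ▸ inf_le_left)))
    have h3 : Nat.card ↥K ∣ 2 ^ (2 * m + 1) - 1 :=
      (Nat.Prime.coprime_iff_not_dvd Nat.prime_two |>.mpr h2).symm.dvd_of_dvd_mul_left h1
    refine hlt.ne (Subgroup.eq_of_le_of_card_ge hlt.le ?_)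
    rw [hc]
    exact Nat.le_of_dvd (by omega) h3
  obtain ⟨x, hx, hx1⟩ := (Subgroup.ne_bot_iff_exists_ne_one.mp hne).elim fun a ha =>
    (⟨a.1, a.2, fun e => ha (Subtype.ext e)⟩ : ∃ x, x ∈ H ∧ x ≠ 1)
  obtain ⟨hc, hle, hTI, -⟩ := hdata x hx hx1
  obtain ⟨T, hT⟩ : ∃ T, T = (Subgroup.centralizer ({x} : Set ↥(Cfsg.Sz F m))).subgroupOf H := ⟨_, rfl⟩
  have hcT : Nat.card ↥T = 2 ^ (2 * m + 1) - 1 := by
    rw [hT, Nat.card_congr (Subgroup.subgroupOfEquivOfLe hle).toEquiv, hc]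
  have hHT := T.index_mul_card
  rw [hcT] at hHT
  have hxs := hcount x hx hx1
  rw [← hT] at hxs
  have hi0 := Subgroup.index_ne_zero_of_finite (H := T)
  obtain ⟨t, ht⟩ : ∃ t, t = 2 ^ (2 * m + 1) - 1 := ⟨_, rfl⟩
  rw [← ht] at hcT hHT hxs ⊢
  have ht7 : 7 ≤ t := by omega
  have hsub : ∀ S : Subgroup ↥H, conjSet S ⊆ ({1} : Set ↥H)ᶜ := fun S z hz => hz.1
  have huniv : ∀ y : ↥H, y ≠ 1 → y ∈ conjSet T := by
    intro y hy
    by_contra hyT
    have hy1 : (y : ↥(Cfsg.Sz F m)) ≠ 1 := fun e => hy (Subtype.ext e)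
    obtain ⟨hc', hle', hTI', -⟩ := hdata _ y.2 hy1
    obtain ⟨T', hT'⟩ : ∃ T', T' = (Subgroup.centralizer ({(y : ↥(Cfsg.Sz F m))} : Set _)).subgroupOf H :=
      ⟨_, rfl⟩
    have hys := hcount _ y.2 hy1
    have hcT' : Nat.card ↥T' = t := by
      rw [hT', Nat.card_congr (Subgroup.subgroupOfEquivOfLe hle').toEquiv, hc', ht]
    have hHT' := T'.index_mul_card
    rw [hcT'] at hHT'
    rw [← hT', ← ht] at hys
    have hdisj : Disjoint (conjSet T) (conjSet T') := by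
      refine Set.disjoint_left.mpr ?_
      rintro z ⟨hz, a, ha⟩ ⟨-, b, hb⟩
      refine hyT ⟨hy, a * b⁻¹, ?_⟩
      rw [hT, Subgroup.mem_subgroupOf] at ha ⊢
      rw [hT', Subgroup.mem_subgroupOf] at hb
      have hz1 : (z : ↥(Cfsg.Sz F m)) ≠ 1 := fun e => hz (Subtype.ext e)
      have e1 := hTI _ ha fun e => hz1 (by simpa using e)
      have e2 := hTI' _ hb fun e => hz1 (by simpa using e)
      have hy' : (y : ↥(Cfsg.Sz F m)) ∈ Subgroup.centralizer ({((b * z * b⁻¹ : ↥H) : ↥(Cfsg.Sz F m))} : Set _) := by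
        rw [e2]; exact Subgroup.mem_centralizer_singleton_iff.mpr rfl
      rw [← e1]
      simp only [Subgroup.coe_mul, Subgroup.coe_inv, Subgroup.mem_centralizer_singleton_iff] at hy' ⊢
      calc (a : ↥(Cfsg.Sz F m)) * (b : ↥(Cfsg.Sz F m))⁻¹ * y * ((a : ↥(Cfsg.Sz F m)) * (b : ↥(Cfsg.Sz F m))⁻¹)⁻¹ *
            ((a : ↥(Cfsg.Sz F m)) * z * (a : ↥(Cfsg.Sz F m))⁻¹)
          = a * (b : ↥(Cfsg.Sz F m))⁻¹ * (y * (b * z * (b : ↥(Cfsg.Sz F m))⁻¹)) * b * (a : ↥(Cfsg.Sz F m))⁻¹ := by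
            group
        _ = _ := by rw [hy']; group
    have hu := Set.ncard_le_ncard (Set.union_subset (hsub T) (hsub T')) (Set.toFinite _)
    rw [Set.ncard_union_eq hdisj, Set.ncard_compl, Set.ncard_singleton, hxs, hys] at hu
    have hi0' := Subgroup.index_ne_zero_of_finite (H := T')
    have h1 : T.index * (t - 1) + T.index = Nat.card ↥H := by
      rw [← hHT, ← Nat.mul_succ]; congr 1; omega
    have h2 : T'.index * (t - 1) + T'.index = Nat.card ↥H := by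
      rw [← hHT', ← Nat.mul_succ]; congr 1; omega
    have h3 : T.index * 6 ≤ T.index * (t - 1) := Nat.mul_le_mul_left _ (by omega)
    have h4 : T'.index * 6 ≤ T'.index * (t - 1) := Nat.mul_le_mul_left _ (by omega)
    omega
  have heq : conjSet T = ({1} : Set ↥H)ᶜ := (hsub T).antisymm fun y hy => huniv y hy
  rw [heq, Set.ncard_compl, Set.ncard_singleton] at hxs
  have h1 : T.index * (t - 1) + T.index = Nat.card ↥H := by
    rw [← hHT, ← Nat.mul_succ]; congr 1; omega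
  rw [← hHT, show T.index = 1 by omega, one_mul]

end Core

/-- Let q = 2^{2m+1} ≥ 8 and let G be isomorphic to the Suzuki group Sz(q). If G acts faithfully and transitively on a finite set Ω with fixity 2 (every non-identity element fixes at most two points, and some fixes exactly two), then either |Ω| = q² + 1 and the action is 2-transitive, or |Ω| = q²(q² + 1) and the point stabilizers have order q − 1. -/
theorem result {G : Type*} [Group G] [Finite G] (F : Type) [Field F] [Fintype F] (m : ℕ) (hm : 1 ≤ m) (hF : Fintype.card F = 2 ^ (2 * m + 1))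
    (e : G ≃* ↥(Cfsg.Lie.Sz F (2 ^ (m + 1)))) {Ω : Type*} [Fintype Ω] [MulAction G Ω] [FaithfulSMul G Ω] (htr : MulAction.IsPretransitive G Ω)
    (hfix : ∀ g : G, g ≠ 1 → Nat.card (MulAction.fixedBy Ω g) ≤ 2) (hex : ∃ g : G, g ≠ 1 ∧ Nat.card (MulAction.fixedBy Ω g) = 2) :
    (Fintype.card Ω = Fintype.card F ^ 2 + 1 ∧ MulAction.IsMultiplyPretransitive G Ω 2) ∨
    (Fintype.card Ω = Fintype.card F ^ 2 * (Fintype.card F ^ 2 + 1) ∧ ∀ α : Ω, Nat.card (MulAction.stabilizer G α) = Fintype.card F - 1) := by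
  classical
  have h : Params F m := ⟨hm, hF⟩
  obtain ⟨e₀, -⟩ := exists_lie_equiv h
  obtain ⟨π, -⟩ : ∃ π : ↥(Cfsg.Sz F m) ≃* G, π = e₀.trans e.symm := ⟨_, rfl⟩
  letI : MulAction ↥(Cfsg.Sz F m) Ω := MulAction.compHom Ω π.toMonoidHom
  have hsm : ∀ (s : ↥(Cfsg.Sz F m)) (ω : Ω), s • ω = π s • ω := fun _ _ => rfl
  have hfix' : ∀ s : ↥(Cfsg.Sz F m), s ≠ 1 → Nat.card (MulAction.fixedBy Ω s) ≤ 2 := fun s hs =>
    hfix (π s) (by simpa using hs)
  have htr' : ∀ a b : Ω, ∃ s : ↥(Cfsg.Sz F m), s • a = b := fun a b => by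
    obtain ⟨g, hg⟩ := htr.exists_smul_eq a b
    exact ⟨π.symm g, by rw [hsm, π.apply_symm_apply, hg]⟩
  obtain ⟨g₀, hg₀, hg₀2⟩ := hex
  rw [Nat.card_coe_set_eq, Set.ncard_eq_two] at hg₀2
  obtain ⟨α₀, β₀, hαβ, hset⟩ := hg₀2
  have hα₀ : g₀ • α₀ = α₀ := by
    have : α₀ ∈ MulAction.fixedBy Ω g₀ := by rw [hset]; simp
    exact this
  have htop : ∀ ω : Ω, MulAction.stabilizer ↥(Cfsg.Sz F m) ω ≠ ⊤ := fun ω he => by
    obtain ⟨s, hs⟩ := htr' ω α₀
    obtain ⟨s', hs'⟩ := htr' ω β₀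
    have m1 : s ∈ MulAction.stabilizer ↥(Cfsg.Sz F m) ω := by rw [he]; trivial
    have m2 : s' ∈ MulAction.stabilizer ↥(Cfsg.Sz F m) ω := by rw [he]; trivial
    exact hαβ (by rw [← hs, ← hs', show s • ω = ω from m1, show s' • ω = ω from m2])
  have hcardΩ : ∀ ω : Ω, Fintype.card Ω * Nat.card ↥(MulAction.stabilizer ↥(Cfsg.Sz F m) ω) =
      (2 ^ (2 * m + 1)) ^ 2 * ((2 ^ (2 * m + 1)) ^ 2 + 1) * (2 ^ (2 * m + 1) - 1) := fun ω => by
    rw [← card_Sz' h, ← (MulAction.stabilizer ↥(Cfsg.Sz F m) ω).index_mul_card, MulAction.index_stabilizer,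
      ← Nat.card_eq_fintype_card]
    congr 1
    rw [← Set.ncard_univ]
    congr 1
    exact (Set.eq_univ_of_forall fun b => htr' ω b).symm
  have hq := q_ge h
  by_cases hU : ∀ u ∈ US h, u ≠ 1 → ∀ ω : Ω, u • ω ≠ ω
  · refine Or.inr ?_
    have hstab : ∀ ω : Ω, Nat.card ↥(MulAction.stabilizer ↥(Cfsg.Sz F m) ω) = 2 ^ (2 * m + 1) - 1 := fun ω => by
      refine card_stab_eq h hfix' hU ω fun hb => hg₀ ?_
      obtain ⟨s, hs⟩ := htr' ω α₀
      have hmem : s⁻¹ * π.symm g₀ * s ∈ MulAction.stabilizer ↥(Cfsg.Sz F m) ω := by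
        rw [MulAction.mem_stabilizer_iff, mul_smul, mul_smul, hs, hsm (π.symm g₀), π.apply_symm_apply, hα₀,
          inv_smul_eq_iff, hs]
      rw [hb, Subgroup.mem_bot, mul_assoc, inv_mul_eq_one] at hmem
      have h1 : π.symm g₀ = 1 := mul_eq_right.mp hmem.symm
      simpa using h1
    refine ⟨?_, fun α => ?_⟩
    · have hh := hcardΩ α₀
      rw [hstab] at hh
      rw [hF]
      exact Nat.eq_of_mul_eq_mul_right (by omega) hh
    · rw [hF, ← hstab α]
      exact Nat.card_congr (π.symm.toEquiv.subtypeEquiv fun g => by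
        show g ∈ MulAction.stabilizer G α ↔ π.symm g ∈ MulAction.stabilizer ↥(Cfsg.Sz F m) α
        rw [MulAction.mem_stabilizer_iff, MulAction.mem_stabilizer_iff, hsm, π.apply_symm_apply])
  · refine Or.inl ?_
    push Not at hU
    obtain ⟨u, hu, hu1, α, hα⟩ := hU
    have hB := stab_eq_borel h hfix' α (htop α) hu hu1 hα
    refine ⟨?_, ?_⟩
    · have hh := hcardΩ α
      rw [hB, card_stab_inf h] at hh
      rw [hF]
      refine Nat.eq_of_mul_eq_mul_right (Nat.mul_pos (pow_pos (Nat.two_pow_pos (2 * m + 1)) 2) (by omega : 0 < 2 ^ (2 * m + 1) - 1)) ?_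
      rw [hh]; ring
    · rw [MulAction.is_two_pretransitive_iff]
      intro a b c d hab hcd
      have hpt : ∀ ω : Ω, ∃ s : ↥(Cfsg.Sz F m), s • α = ω := fun ω => htr' α ω
      choose s hs using hpt
      have hkey : ∀ (g : ↥(Cfsg.Sz F m)) (x y : Ω),
          g.1 • ((s x).1 • Cfsg.suzukiPointInfinity F) = (s y).1 • Cfsg.suzukiPointInfinity F ↔ g • x = y := by
        intro g x y
        have hmem : ∀ k : ↥(Cfsg.Sz F m), k • α = α ↔ k.1 • Cfsg.suzukiPointInfinity F = Cfsg.suzukiPointInfinity F :=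
          fun k => SetLike.ext_iff.mp hB k
        have e1 := hmem ((s y)⁻¹ * g * s x)
        rw [mul_smul, mul_smul, hs, inv_smul_eq_iff, hs] at e1
        rw [e1, Subgroup.coe_mul, Subgroup.coe_mul, mul_smul, mul_smul, Subgroup.coe_inv, inv_smul_eq_iff]
      have hmemO : ∀ x : Ω, (s x).1 • Cfsg.suzukiPointInfinity F ∈ Cfsg.suzukiOvoid F m := fun x =>
        mem_Sz_iff.mp (s x).2 _ (mem_inf m)
      have hinj : ∀ x y : Ω, x ≠ y →
          (s x).1 • Cfsg.suzukiPointInfinity F ≠ (s y).1 • Cfsg.suzukiPointInfinity F := fun x y hxy e => by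
        refine hxy ?_
        have := (hkey 1 x y).mp (by rw [Subgroup.coe_one, one_smul]; exact e)
        rwa [one_smul] at this
      obtain ⟨σ, hσa, hσb⟩ := to_inf_zero h (hmemO a) (hmemO b) (hinj a b hab)
      obtain ⟨τ, hτc, hτd⟩ := to_inf_zero h (hmemO c) (hmemO d) (hinj c d hcd)
      refine ⟨π (τ⁻¹ * σ), ?_, ?_⟩ <;> rw [← hsm] <;> refine (hkey _ _ _).mp ?_ <;>
        rw [Subgroup.coe_mul, Subgroup.coe_inv, mul_smul, inv_smul_eq_iff]
      · rw [hσa, hτc]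
      · rw [hσb, hτd]

end Cfsg.Agent.S3391
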