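import Cfsg.Statements.S3401
import Cfsg.Agent.Lib.Recog.DegreeTwoModFour
import Cfsg.Agent.S0700

set_option autoImplicit false
open Cfsg

namespace Cfsg.Agent.S3401

/-- Let G be a doubly transitive permutation group on a finite set Ω with |Ω| ≡ 2 mod 4 and |Ω| > 2. Then G has a unique minimal normal subgroup M (a nontrivial normal subgroup contained in every nontrivial normal subgroup); M is simple and doubly transitive on Ω, and its centralizer in G is trivial (so G embeds in Aut(M)). -/
theorem result {G : Type*} [Group G] [Finite G] {Ω : Type*} [Fintype Ω] [MulAction G Ω] [FaithfulSMul G Ω]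
    (h2 : MulAction.IsMultiplyPretransitive G Ω 2) (hn : Fintype.card Ω % 4 = 2) (hn2 : 2 < Fintype.card Ω) :
    ∃ M : Subgroup G, M.Normal ∧ M ≠ ⊥ ∧ (∀ N : Subgroup G, N.Normal → N ≠ ⊥ → M ≤ N) ∧
      IsSimpleGroup ↥M ∧ MulAction.IsMultiplyPretransitive ↥M Ω 2 ∧ Subgroup.centralizer (M : Set G) = ⊥ := by
  classical
  haveI := h2
  haveI : MulAction.IsPreprimitive G Ω := MulAction.isPreprimitive_of_is_two_pretransitive h2
  haveI : Nontrivial Ω := Fintype.one_lt_card_iff_nontrivial.1 (by omega)
  have hGne : (⊤ : Subgroup G) ≠ ⊥ := fun h => by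
    obtain ⟨x, y, hxy⟩ := exists_pair_ne Ω
    obtain ⟨g, hg⟩ := MulAction.exists_smul_eq G x y
    rw [(Subgroup.eq_bot_iff_forall _).1 h g trivial, one_smul] at hg
    exact hxy hg
  obtain ⟨M, ⟨hMn, hM0⟩, hMmin⟩ := (Set.toFinite {N : Subgroup G | N.Normal ∧ N ≠ ⊥}).exists_minimal
    ⟨⊤, inferInstance, hGne⟩
  haveI := hMn
  have hmin : ∀ N : Subgroup G, N.Normal → N ≤ M → N = ⊥ ∨ N = M := fun N hN hle =>
    (em (N = ⊥)).imp id fun h => le_antisymm hle (hMmin ⟨hN, h⟩ hle)
  have hfix : ∀ N : Subgroup G, N.Normal → N ≠ ⊥ → MulAction.IsPretransitive N Ω := by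
    intro N hN hN0
    refine MulAction.IsQuasiPreprimitive.isPretransitive_of_normal (G := G) (X := Ω) fun h => hN0 ?_
    refine (Subgroup.eq_bot_iff_forall _).2 fun g hg => FaithfulSMul.eq_of_smul_eq_smul fun x : Ω => ?_
    have hx : x ∈ MulAction.fixedPoints N Ω := h ▸ Set.mem_univ x
    rw [one_smul]
    exact hx ⟨g, hg⟩
  have hMt := hfix M hMn hM0
  have hM2 := Cfsg.Lib.Recog.DegreeTwoModFour.two_transitive_of_normal h2 hn M hMt
  obtain ⟨hMs, hMna⟩ : IsSimpleGroup M ∧ ¬ IsMulCommutative M := by
    let φ : G →* Equiv.Perm Ω := MulAction.toPermHom G Ω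
    have hφ : Function.Injective φ := MulAction.toPerm_injective
    let e : G ≃* φ.range := φ.ofInjective hφ
    let N : Subgroup φ.range := M.map e.toMonoidHom
    haveI : N.Normal := Subgroup.Normal.map hMn _ e.surjective
    have h2' : MulAction.IsMultiplyPretransitive φ.range Ω 2 := by
      rw [MulAction.is_two_pretransitive_iff] at h2 ⊢
      intro a b c d hab hcd
      obtain ⟨g, h1, h2⟩ := h2 hab hcd
      exact ⟨e g, h1, h2⟩
    let eM : M ≃* N := M.equivMapOfInjective _ e.injective
    rcases Cfsg.Agent.S0700.result φ.range h2' N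
      (fun h => hM0 ((Subgroup.map_eq_bot_iff_of_injective M e.injective).1 h))
      (fun K hK hle => by
        rcases hmin (K.comap e.toMonoidHom) (hK.comap _) (fun x hx => by
          obtain ⟨y, hy, hxy⟩ := hle hx
          exact e.injective hxy ▸ hy) with h | h
        · left
          rw [← Subgroup.map_comap_eq_self_of_surjective e.surjective K]
          exact (Subgroup.map_eq_bot_iff_of_injective _ e.injective).2 h
        · right
          rw [← Subgroup.map_comap_eq_self_of_surjective e.surjective K]
          exact congrArg (Subgroup.map e.toMonoidHom) h) with ⟨-, ⟨p, hp, hpe⟩, hreg⟩ | ⟨hs, -⟩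
    · exfalso
      obtain ⟨a⟩ : Nonempty Ω := inferInstance
      have hcard : Nat.card M = Fintype.card Ω := by
        have hb : MulAction.stabilizer M a = ⊥ := (Subgroup.eq_bot_iff_forall _).2 fun g hg => by
          have := (Subgroup.eq_bot_iff_forall _).1 (hreg a) (eM g) hg
          exact eM.injective (this.trans (map_one eM).symm)
        have h := (MulAction.stabilizer M a).card_mul_index
        rw [MulAction.index_stabilizer, MulAction.orbit_eq_univ, Set.ncard_univ, Nat.card_eq_fintype_card (α := Ω),
          hb, Subgroup.card_bot, one_mul] at h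
        exact h.symm
      haveI : Fact p.Prime := ⟨hp⟩
      have hMp : IsPGroup p M := fun g => ⟨1, by
        rw [pow_one]
        exact eM.injective (by rw [map_pow, map_one]; exact Subtype.ext (hpe _ (eM g).2))⟩
      obtain ⟨k, hk⟩ := IsPGroup.iff_card.1 hMp
      rw [hcard] at hk
      have hp2 : p = 2 := by
        have h2d : 2 ∣ p ^ k := ⟨Fintype.card Ω / 2, by omega⟩
        exact ((Nat.prime_dvd_prime_iff_eq Nat.prime_two hp).1 (Nat.prime_two.dvd_of_dvd_pow h2d)).symm
      subst hp2
      obtain _ | _ | k := k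
      · omega
      · omega
      · rw [pow_succ, pow_succ, mul_assoc] at hk; omega
    · haveI := hs
      haveI : Nontrivial M := (Subgroup.nontrivial_iff_ne_bot M).2 hM0
      haveI : IsSimpleGroup M := IsSimpleGroup.isSimpleGroup_of_surjective eM.symm.toMonoidHom eM.symm.surjective
      refine ⟨inferInstance, fun hc => ?_⟩
      letI : CommGroup M := { (inferInstance : Group M) with mul_comm := hc.is_comm.comm }
      have hprime : (Nat.card M).Prime := IsSimpleGroup.prime_card
      obtain ⟨a⟩ : Nonempty Ω := inferInstance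
      have h := (MulAction.stabilizer M a).card_mul_index
      rw [MulAction.index_stabilizer, MulAction.orbit_eq_univ, Set.ncard_univ, Nat.card_eq_fintype_card (α := Ω)] at h
      have hd : Fintype.card Ω ∣ Nat.card M := ⟨_, by rw [mul_comm]; exact h.symm⟩
      rcases hprime.eq_one_or_self_of_dvd _ hd with e | e
      · omega
      · have := hprime.eq_two_or_odd
        omega
  haveI := hMs
  have hC : Subgroup.centralizer (M : Set G) = ⊥ := by
    by_contra hC
    haveI := hfix _ inferInstance hC
    obtain ⟨a⟩ : Nonempty Ω := inferInstance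
    have hb : MulAction.stabilizer M a = ⊥ := (Subgroup.eq_bot_iff_forall _).2 fun g hg => by
      refine Subtype.ext (FaithfulSMul.eq_of_smul_eq_smul fun x : Ω => ?_)
      obtain ⟨⟨c, hc⟩, rfl⟩ := MulAction.exists_smul_eq (Subgroup.centralizer (M : Set G)) a x
      show (g : G) • c • a = (1 : G) • c • a
      rw [one_smul, ← mul_smul, Subgroup.mem_centralizer_iff.1 hc g g.2, mul_smul]
      exact congrArg (c • ·) hg
    have h := (MulAction.stabilizer M a).card_mul_index
    rw [hb, Subgroup.card_bot, one_mul, ← hb, MulAction.index_stabilizer, MulAction.orbit_eq_univ, Set.ncard_univ,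
      Nat.card_eq_fintype_card (α := Ω)] at h
    exact Cfsg.Lib.Recog.DegreeTwoModFour.not_two_mul_odd_of_simple hMna
      (m := Fintype.card Ω / 2) (Nat.odd_iff.2 (by omega)) (by omega)
  refine ⟨M, hMn, hM0, fun N hN hN0 => ?_, hMs, hM2, hC⟩
  haveI := hN
  rcases hmin (M ⊓ N) inferInstance inf_le_left with h | h
  · refine absurd ?_ hN0
    rw [eq_bot_iff, ← hC]
    intro x hx
    rw [Subgroup.mem_centralizer_iff]
    intro y hy
    exact (Subgroup.commute_of_normal_of_disjoint M N hMn hN (disjoint_iff.2 h) y x hy hx).eq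
  · exact inf_eq_left.1 h

end Cfsg.Agent.S3401
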