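import Cfsg.Statements.S3412
-- import your own Cfsg.Agent.* helpers here
import Cfsg.Agent.Lib.Small.LThreeThreeCommuting

set_option autoImplicit false
open Cfsg

namespace Cfsg.Agent.S3412

/-- Let H be a finite group whose commuting graph (vertices the non-identity elements, two joined when they commute) is isomorphic to that of PSL_3(3): there is a bijection between the non-identity elements of H and of PSL_3(3) under which two elements commute exactly when their images do. Then H ≅ PSL_3(3). -/
theorem result {H : Type*} [Group H] [Finite H]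
    (f : {h : H // h ≠ 1} ≃ {g : Matrix.ProjectiveSpecialLinearGroup (Fin 3) (ZMod 3) // g ≠ 1})
    (hf : ∀ x y : {h : H // h ≠ 1}, (x : H) * y = y * x ↔ ((f x) : Matrix.ProjectiveSpecialLinearGroup (Fin 3) (ZMod 3)) * (f y) = (f y) * (f x)) :
    Nonempty (H ≃* Matrix.ProjectiveSpecialLinearGroup (Fin 3) (ZMod 3)) := by
  classical
  let q : Matrix.ProjectiveSpecialLinearGroup (Fin 3) (ZMod 3) ≃* Cfsg.Lib.Small.PlaneThree.SL33 :=
    (QuotientGroup.quotientMulEquivOfEq Cfsg.Lib.Small.PlaneThree.center_eq_bot).trans QuotientGroup.quotientBot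
  let e : H ≃ Matrix.ProjectiveSpecialLinearGroup (Fin 3) (ZMod 3) :=
    ((Equiv.optionSubtypeNe (1 : H)).symm.trans (Equiv.optionCongr f)).trans (Equiv.optionSubtypeNe _)
  have he1 : e 1 = 1 := by simp [e]
  have hen : ∀ (y : H) (hy : y ≠ 1), e y = (f ⟨y, hy⟩ : Matrix.ProjectiveSpecialLinearGroup (Fin 3) (ZMod 3)) :=
    fun y hy => by simp [e, Equiv.optionSubtypeNe_symm_of_ne hy]
  refine Cfsg.Lib.Small.LThreeThreeCommuting.nonempty_equiv (e.trans q.toEquiv)
    (by simp [he1]) fun x y => ?_
  simp only [Equiv.trans_apply, MulEquiv.toEquiv_eq_coe, EquivLike.coe_coe]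
  rw [← map_mul q, ← map_mul q, q.injective.eq_iff]
  by_cases hx : x = 1
  · subst hx; simp [he1]
  by_cases hy : y = 1
  · subst hy; simp [he1]
  rw [hen x hx, hen y hy]
  exact hf ⟨x, hx⟩ ⟨y, hy⟩

end Cfsg.Agent.S3412
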