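import Cfsg.Statements.S3413
import Cfsg.Agent.Lib.MEleven.Recog

set_option autoImplicit false
open Cfsg

namespace Cfsg.Agent.S3413

/-- Let H be a finite group whose commuting graph (vertices the non-identity elements, two joined when they commute) is isomorphic to that of the Mathieu group M_11: there is a bijection between the non-identity elements of H and of M_11 under which two elements commute exactly when their images do. Then H ≅ M_11. -/
theorem result {H : Type*} [Group H] [Finite H]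
    (f : {h : H // h ≠ 1} ≃ {g : ↥Cfsg.Spor.M11 // g ≠ 1})
    (hf : ∀ x y : {h : H // h ≠ 1}, (x : H) * y = y * x ↔ ((f x) : ↥Cfsg.Spor.M11) * (f y) = (f y) * (f x)) :
    Nonempty (H ≃* ↥Cfsg.Spor.M11) := by
  classical
  have hM := Cfsg.Lib.MEleven.isM11_spor
  let e : H ≃ ↥Cfsg.Spor.M11 :=
    ((Equiv.optionSubtypeNe (1 : H)).symm.trans (Equiv.optionCongr f)).trans (Equiv.optionSubtypeNe (1 : ↥Cfsg.Spor.M11))
  have he1 : e 1 = 1 := by simp [e]
  have hen : ∀ (y : H) (hy : y ≠ 1), e y = (f ⟨y, hy⟩ : ↥Cfsg.Spor.M11) := fun y hy => by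
    simp [e, Equiv.optionSubtypeNe_symm_of_ne hy]
  have hord : Nat.card H = 7920 := (Nat.card_congr e).trans hM.2
  have hcomm : ∀ x y : H, x * y = y * x ↔ e x * e y = e y * e x := by
    intro x y
    by_cases hx : x = 1
    · subst hx; simp [he1]
    by_cases hy : y = 1
    · subst hy; simp [he1]
    rw [hen x hx, hen y hy]
    exact hf ⟨x, hx⟩ ⟨y, hy⟩
  refine Cfsg.Lib.MEleven.isoM11 (Cfsg.Lib.MEleven.isM11_of_centralizer hord fun x hx => ?_)
  have hcard : Nat.card (Subgroup.centralizer ({x} : Set H)) =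
      Nat.card (Subgroup.centralizer ({e x} : Set ↥Cfsg.Spor.M11)) :=
    Nat.card_congr (e.subtypeEquiv fun y => by
      rw [Subgroup.mem_centralizer_singleton_iff, Subgroup.mem_centralizer_singleton_iff]
      exact hcomm y x)
  have h11 : 11 ∣ Nat.card (Subgroup.centralizer ({x} : Set H)) :=
    hx ▸ Subgroup.orderOf_dvd_natCard _ (Subgroup.mem_centralizer_singleton_iff.2 rfl)
  rw [hcard] at h11 ⊢
  haveI : Fintype ↥Cfsg.Spor.M11 := Fintype.ofFinite _
  haveI : Fact (Nat.Prime 5) := ⟨by norm_num⟩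
  haveI : Fact (Nat.Prime 11) := ⟨by norm_num⟩
  refine Cfsg.Lib.MEleven.card_centralizer_eleven hM ?_
  obtain ⟨⟨w, hwC⟩, hw⟩ := exists_prime_orderOf_dvd_card' 11 h11
  rw [Subgroup.orderOf_mk] at hw
  have hd := Subgroup.orderOf_dvd_natCard _ (Subgroup.mem_centralizer_singleton_iff.2
    (Subgroup.mem_centralizer_singleton_iff.1 hwC).symm : e x ∈ Subgroup.centralizer ({w} : Set ↥Cfsg.Spor.M11))
  rw [Cfsg.Lib.MEleven.card_centralizer_eleven hM hw] at hd
  rcases (Nat.dvd_prime (by norm_num)).1 hd with h | h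
  · exfalso
    have hx1 : x = 1 := e.injective ((orderOf_eq_one_iff.1 h).trans he1.symm)
    rw [hx1, orderOf_one] at hx
    norm_num at hx
  · exact h

end Cfsg.Agent.S3413
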