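import Cfsg.Statements.S3420
import Cfsg.Agent.Lib.Fusion.Primes
import Mathlib.GroupTheory.Sylow
import Mathlib.NumberTheory.Padics.PadicVal.Basic
import Mathlib.GroupTheory.Perm.Cycle.Type
import Mathlib.GroupTheory.SpecificGroups.Alternating

set_option autoImplicit false
set_option linter.style.haveILetI false
open Cfsg
open scoped commutatorElement

namespace Cfsg.Agent.S3420

theorem dvd_part {p : ℕ} (hp : p.Prime) : ∀ s : Multiset ℕ, p ∣ s.lcm → ∃ i ∈ s, p ∣ i := by
  intro s
  induction s using Multiset.induction with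
  | empty => intro h; rw [Multiset.lcm_zero] at h; exact absurd (Nat.dvd_one.mp h) hp.ne_one
  | cons a s ih =>
    intro h
    rw [Multiset.lcm_cons] at h
    have h1 : p ∣ a * s.lcm := h.trans (Nat.lcm_dvd_mul _ _)
    rcases hp.dvd_mul.mp h1 with h2 | h2
    · exact ⟨a, Multiset.mem_cons_self _ _, h2⟩
    · obtain ⟨i, hi, hpi⟩ := ih h2
      exact ⟨i, Multiset.mem_cons_of_mem hi, hpi⟩

/-- No element of the alternating group has order the product of two primes exceeding the degree. -/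
theorem alt_no_order {n p q : ℕ} (hp : p.Prime) (hq : q.Prime) (hne : p ≠ q) (hn : n < p + q)
    (g : alternatingGroup (Fin n)) : orderOf g ≠ p * q := by
  intro h
  rw [← Subgroup.orderOf_coe, ← Equiv.Perm.lcm_cycleType] at h
  set σ := (g : Equiv.Perm (Fin n))
  obtain ⟨i, hi, hpi⟩ := dvd_part hp σ.cycleType (h ▸ dvd_mul_right p q)
  obtain ⟨j, hj, hqj⟩ := dvd_part hq σ.cycleType (h ▸ dvd_mul_left q p)
  have hsum : σ.cycleType.sum ≤ n := by
    rw [Equiv.Perm.sum_cycleType]
    exact (Finset.card_le_univ _).trans (Fintype.card_fin n).le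
  have hi0 : 0 < i := (Nat.zero_lt_two).trans_le (Equiv.Perm.two_le_of_mem_cycleType hi)
  have hj0 : 0 < j := (Nat.zero_lt_two).trans_le (Equiv.Perm.two_le_of_mem_cycleType hj)
  by_cases hij : i = j
  · subst hij
    have h1 : p * q ∣ i := Nat.Coprime.mul_dvd_of_dvd_of_dvd
      ((Nat.coprime_primes hp hq).mpr hne) hpi hqj
    have h2 := Nat.le_of_dvd hi0 h1
    have h3 := Multiset.single_le_sum (fun _ _ => Nat.zero_le _) i hi
    nlinarith [hp.two_le, hq.two_le, Nat.mul_le_mul hp.two_le hq.two_le]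
  · have h3 : i + j ≤ σ.cycleType.sum := by
      conv_rhs => rw [← Multiset.cons_erase hi, Multiset.sum_cons]
      exact Nat.add_le_add_left (Multiset.single_le_sum (fun _ _ => Nat.zero_le _) j
        ((Multiset.mem_erase_of_ne (Ne.symm hij)).mpr hj)) i
    have := Nat.le_of_dvd hi0 hpi
    have := Nat.le_of_dvd hj0 hqj
    omega

theorem two_mul_card_alt (n : ℕ) (hn : 2 ≤ n) :
    2 * Nat.card (alternatingGroup (Fin n)) = n.factorial := by
  haveI : Nontrivial (Fin n) := Fin.nontrivial_iff_two_le.mpr hn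
  rw [Nat.card_eq_fintype_card, two_mul_card_alternatingGroup, Fintype.card_perm, Fintype.card_fin]

theorem not_sq_dvd_card {n p : ℕ} (hp : p.Prime) (hn : n < 2 * p) (h2 : 2 ≤ n) :
    ¬ p ^ 2 ∣ Nat.card (alternatingGroup (Fin n)) := by
  intro h
  haveI := Fact.mk hp
  have h' : p ^ 2 ∣ n.factorial := two_mul_card_alt n h2 ▸ Dvd.dvd.mul_left h 2
  have h1 : 2 ≤ padicValNat p n.factorial := (padicValNat_dvd_iff_le n.factorial_ne_zero).1 h'
  have hlog : Nat.log p n < 2 :=
    Nat.log_lt_of_lt_pow (by omega) (hn.trans_le (by rw [sq]; exact Nat.mul_le_mul_right p hp.two_le))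
  rw [padicValNat_factorial hlog] at h1
  simp only [show Finset.Ico 1 2 = {1} from rfl, Finset.sum_singleton, pow_one] at h1
  have : n / p < 2 := (Nat.div_lt_iff_lt_mul hp.pos).2 hn
  omega

theorem prime_dvd_card {n p : ℕ} (hp : p.Prime) (h2 : p ≠ 2) (hpn : p ≤ n) :
    p ∣ Nat.card (alternatingGroup (Fin n)) := by
  have h : p ∣ n.factorial := (Nat.Prime.dvd_factorial hp).mpr hpn
  rw [← two_mul_card_alt n (hp.two_le.trans hpn)] at h
  exact ((hp.dvd_mul).mp h).resolve_left fun e => h2 ((Nat.prime_dvd_prime_iff_eq hp Nat.prime_two).mp e)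

variable {G : Type*} [Group G] [Finite G]

/-- If `G` has no element of order `p * q` then, under the arithmetic conditions, a normal subgroup
whose order is divisible by `p` has order divisible by `q`, and conversely. -/
theorem both_or_neither {p q : ℕ} [Fact p.Prime] [Fact q.Prime] (hne : p ≠ q)
    (hp2 : ¬ p ^ 2 ∣ Nat.card G) (hqp : ¬ q ∣ p - 1)
    (hpq : ∀ j : ℕ, 1 ≤ j → q ^ j ∣ Nat.card G → ¬ p ∣ q ^ j - 1)
    (hno : ∀ g : G, orderOf g ≠ p * q) (hpG : p ∣ Nat.card G) (hqG : q ∣ Nat.card G)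
    (M : Subgroup G) [M.Normal] : p ∣ Nat.card M ↔ q ∣ Nat.card M := by
  have hp := Fact.out (p := p.Prime)
  have hq := Fact.out (p := q.Prime)
  have hcomm : ∀ x y : G, orderOf x = p → orderOf y = q → x * y = y * x → False := fun x y hx hy h => by
    refine hno (x * y) ?_
    rw [Commute.orderOf_mul_eq_mul_orderOf_of_coprime h (by rw [hx, hy]; exact (Nat.coprime_primes hp hq).mpr hne),
      hx, hy]
  have hidx : ∀ {r : ℕ} [Fact r.Prime] (R : Sylow r M) {s : ℕ} [Fact s.Prime], s ∣ Nat.card G →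
      ¬ s ∣ Nat.card M → ∃ y : G, orderOf y = s ∧
        y ∈ Subgroup.normalizer ((R : Subgroup M).map M.subtype : Set G) := by
    intro r _ R s hs hsG hsM
    have htop := Sylow.normalizer_sup_eq_top R
    set N := Subgroup.normalizer ((R : Subgroup M).map M.subtype : Set G)
    have hsN : s ∣ Nat.card N := by
      have h1 : Nat.card G ∣ Nat.card N * Nat.card M := by
        rw [← Subgroup.card_top (G := G), ← htop]
        haveI : (M.subgroupOf N).Normal := inferInstance
        rw [← Subgroup.card_mul_index (M.subgroupOf (N ⊔ M))]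
        rw [Nat.card_congr (Subgroup.subgroupOfEquivOfLe (le_sup_right : M ≤ N ⊔ M)).toEquiv,
          mul_comm (Nat.card N)]
        refine Nat.mul_dvd_mul_left _ ?_
        rw [Subgroup.index_eq_card, ← Nat.card_congr (QuotientGroup.quotientInfEquivProdNormalQuotient N M).toEquiv,
          ← Subgroup.index_eq_card]
        exact Subgroup.index_dvd_card _
      exact ((hs.out.dvd_mul).mp (hsG.trans h1)).resolve_right hsM
    obtain ⟨y, hy⟩ := exists_prime_orderOf_dvd_card' s hsN
    exact ⟨y, by rw [Subgroup.orderOf_coe, hy], y.2⟩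
  constructor
  · intro hpM
    by_contra hqM
    obtain ⟨y, hy, hyN⟩ := hidx (default : Sylow p M) hqG hqM
    set P := ((default : Sylow p M) : Subgroup M).map M.subtype
    have hP : Nat.card P = p := by
      rw [← Nat.card_congr (Subgroup.equivMapOfInjective _ _ M.subtype_injective).toEquiv]
      obtain ⟨k, hk⟩ := (default : Sylow p M).2.exists_card_eq
      rw [hk]
      have h1 : p ∣ p ^ k := hk ▸ Sylow.dvd_card_of_dvd_card _ hpM
      have hk0 : k ≠ 0 := by rintro rfl; exact hp.ne_one (Nat.dvd_one.mp h1)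
      have hk2 : ¬ 2 ≤ k := fun h => hp2 ((pow_dvd_pow p h).trans (hk ▸
        ((Subgroup.card_subgroup_dvd_card _).trans (Subgroup.card_subgroup_dvd_card M))))
      rw [show k = 1 by omega, pow_one]
    haveI : IsCyclic P := isCyclic_of_prime_card hP
    obtain ⟨x, hx⟩ := IsCyclic.exists_ofOrder_eq_natCard (α := P)
    have hxp : orderOf (x : G) = p := by rw [Subgroup.orderOf_coe, hx, hP]
    let f := P.normalizerMonoidHom
    have h1 : orderOf (f ⟨y, hyN⟩) ∣ q := by
      rw [← hy, ← Subgroup.orderOf_mk y hyN]; exact orderOf_map_dvd _ _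
    rcases (Nat.dvd_prime hq).mp h1 with h2 | h2
    · rw [orderOf_eq_one_iff] at h2
      have h3 : y * (x : G) * y⁻¹ = x := congrArg Subtype.val (DFunLike.congr_fun h2 x)
      exact hcomm _ y hxp hy (mul_inv_eq_iff_eq_mul.mp h3).symm
    · have h3 : orderOf (f ⟨y, hyN⟩) ∣ Nat.card (MulAut P) := orderOf_dvd_natCard _
      rw [h2, IsCyclic.card_mulAut, hP, Nat.totient_prime hp] at h3
      exact hqp h3
  · intro hqM
    by_contra hpM
    obtain ⟨x, hx, hxN⟩ := hidx (default : Sylow q M) hpG hpM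
    set Q := ((default : Sylow q M) : Subgroup M).map M.subtype
    obtain ⟨j, hj⟩ := ((default : Sylow q M).2.map M.subtype).exists_card_eq
    have hj1 : 1 ≤ j := by
      rw [Nat.one_le_iff_ne_zero]
      rintro rfl
      have h1 := Sylow.dvd_card_of_dvd_card (default : Sylow q M) hqM
      rw [Nat.card_congr (Subgroup.equivMapOfInjective _ _ M.subtype_injective).toEquiv, hj, pow_zero,
        Nat.dvd_one] at h1
      exact hq.ne_one h1
    letI : MulAction (Subgroup.zpowers x) Q := MulAction.compHom _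
      ((Q.normalizerMonoidHom).comp (Subgroup.inclusion (Subgroup.zpowers_le.mpr hxN)))
    have hXp : IsPGroup p (Subgroup.zpowers x) :=
      IsPGroup.of_card (n := 1) (by rw [Nat.card_zpowers, hx, pow_one])
    have hmod := hXp.card_modEq_card_fixedPoints (α := Q)
    rw [hj] at hmod
    by_cases hall : ∀ z ∈ MulAction.fixedPoints (Subgroup.zpowers x) Q, z = 1
    · have h1 : Nat.card (MulAction.fixedPoints (Subgroup.zpowers x) Q) = 1 := by
        rw [Nat.card_eq_one_iff_unique]
        exact ⟨⟨fun u v => Subtype.ext ((hall _ u.2).trans (hall _ v.2).symm)⟩,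
          ⟨⟨1, fun g => map_one ((Q.normalizerMonoidHom).comp (Subgroup.inclusion (Subgroup.zpowers_le.mpr hxN)) g)⟩⟩⟩
      rw [h1] at hmod
      exact hpq j hj1 (hj ▸ Subgroup.card_subgroup_dvd_card Q)
        ((Nat.modEq_iff_dvd' (Nat.one_le_pow _ _ hq.pos)).mp hmod.symm)
    · push Not at hall
      obtain ⟨z, hz, hz1⟩ := hall
      have hzx : x * (z : G) * x⁻¹ = z := congrArg Subtype.val (hz ⟨x, Subgroup.mem_zpowers x⟩)
      obtain ⟨k, hk⟩ := ((default : Sylow q M).2.map M.subtype) z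
      have hdvd : orderOf z ∣ q ^ k := orderOf_dvd_of_pow_eq_one hk
      obtain ⟨i, -, hi⟩ := (Nat.dvd_prime_pow hq).mp hdvd
      have hi0 : i ≠ 0 := by rintro rfl; rw [pow_zero, orderOf_eq_one_iff] at hi; exact hz1 hi
      obtain ⟨i', rfl⟩ : ∃ i', i = i' + 1 := ⟨i - 1, by omega⟩
      have hw : orderOf ((z : G) ^ q ^ i') = q := by
        rw [← Subgroup.orderOf_coe] at hi
        rw [orderOf_pow' _ (pow_ne_zero _ hq.ne_zero), hi, Nat.gcd_eq_right (pow_dvd_pow q i'.le_succ),
          pow_succ, Nat.mul_div_cancel_left _ (pow_pos hq.pos _)]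
      exact hcomm x _ hx hw (Commute.pow_right (mul_inv_eq_iff_eq_mul.mp hzx) _)

/-- Under the same conditions a normal subgroup of order divisible by `p * q` is not metabelian over a
subgroup of order prime to both. -/
theorem commutator_dvd {p q : ℕ} [Fact p.Prime] [Fact q.Prime] (hne : p ≠ q)
    (hboth : ∀ M : Subgroup G, M.Normal → (p ∣ Nat.card M ↔ q ∣ Nat.card M))
    (H : Subgroup G) [H.Normal] (hp : p ∣ Nat.card H) (D : Subgroup G) [D.Normal] (hDH : D ≤ H)
    (hD : ⁅H, H⁆ ≤ D) : p ∣ Nat.card D := by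
  by_contra hpD
  have hpp := Fact.out (p := p.Prime)
  have hqq := Fact.out (p := q.Prime)
  have hqD : ¬ q ∣ Nat.card D := fun h => hpD ((hboth D inferInstance).mpr h)
  -- the preimage of the `p`-part of `H / D`
  let f := QuotientGroup.mk' (D.subgroupOf H)
  let R : Sylow p (↥H ⧸ D.subgroupOf H) := default
  have hcomm : ∀ a b : ↥H ⧸ D.subgroupOf H, a * b = b * a := fun a b =>
    QuotientGroup.induction_on a fun x => QuotientGroup.induction_on b fun y => by
      rw [← QuotientGroup.mk_mul, ← QuotientGroup.mk_mul, QuotientGroup.eq, Subgroup.mem_subgroupOf]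
      have := hD (Subgroup.commutator_mem_commutator (H.inv_mem y.2) (H.inv_mem x.2))
      simpa [commutatorElement_def, mul_assoc] using this
  let M : Subgroup G := ((R : Subgroup (↥H ⧸ D.subgroupOf H)).comap f).map H.subtype
  have hDM : D ≤ M := fun d hd => ⟨⟨d, hDH hd⟩, by
    show f _ ∈ (R : Subgroup _)
    rw [show f ⟨d, hDH hd⟩ = 1 from (QuotientGroup.eq_one_iff _).mpr (Subgroup.mem_subgroupOf.mpr hd)]
    exact Subgroup.one_mem _, rfl⟩
  have hmemM : ∀ x : H, (x : G) ∈ M ↔ ∃ k, (x : G) ^ p ^ k ∈ D := by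
    intro x
    have h1 : (x : G) ∈ M ↔ f x ∈ (R : Subgroup (↥H ⧸ D.subgroupOf H)) := by
      constructor
      · rintro ⟨y, hy, hyx⟩; exact (Subtype.ext hyx : y = x) ▸ hy
      · exact fun h => ⟨x, h, rfl⟩
    rw [h1]
    constructor
    · intro h
      obtain ⟨k, hk⟩ := R.2 ⟨_, h⟩
      have h2 : f (x ^ p ^ k) = 1 := by rw [map_pow]; exact congrArg Subtype.val hk
      exact ⟨k, Subgroup.mem_subgroupOf.mp ((QuotientGroup.eq_one_iff _).mp h2)⟩
    · rintro ⟨k, hk⟩
      have h2 : (f x) ^ p ^ k = 1 := by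
        rw [← map_pow]; exact (QuotientGroup.eq_one_iff _).mpr (Subgroup.mem_subgroupOf.mpr hk)
      haveI : (R : Subgroup (↥H ⧸ D.subgroupOf H)).Normal :=
        ⟨fun a ha b => by rwa [hcomm b a, mul_inv_cancel_right]⟩
      have hz : IsPGroup p (Subgroup.zpowers (f x)) := by
        obtain ⟨i, -, hi⟩ := (Nat.dvd_prime_pow hpp).mp (orderOf_dvd_of_pow_eq_one h2)
        exact IsPGroup.of_card (n := i) (by rw [Nat.card_zpowers, hi])
      exact (le_sup_right.trans (R.3 (R.2.to_sup_of_normal_left hz) le_sup_left).le) (Subgroup.mem_zpowers _)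
  have hMH : M ≤ H := Subgroup.map_subtype_le _
  haveI : M.Normal := by
    refine ⟨fun m hm g => ?_⟩
    have hgm : g * m * g⁻¹ ∈ H := Subgroup.Normal.conj_mem inferInstance m (hMH hm) g
    obtain ⟨k, hk⟩ := (hmemM ⟨m, hMH hm⟩).mp hm
    refine (hmemM ⟨_, hgm⟩).mpr ⟨k, ?_⟩
    show (g * m * g⁻¹) ^ p ^ k ∈ D
    rw [conj_pow]
    exact Subgroup.Normal.conj_mem inferInstance _ hk g
  obtain ⟨x, hx⟩ := exists_prime_orderOf_dvd_card' p hp
  have hpM : p ∣ Nat.card M := by
    have hxM : (x : G) ∈ M := (hmemM x).mpr ⟨1, by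
      rw [pow_one, ← hx, ← SubgroupClass.coe_pow, pow_orderOf_eq_one]; exact D.one_mem⟩
    rw [← hx, ← Subgroup.orderOf_coe]
    exact Subgroup.orderOf_dvd_natCard M hxM
  obtain ⟨y, hy⟩ := exists_prime_orderOf_dvd_card' q ((hboth M inferInstance).mp hpM)
  rw [← Subgroup.orderOf_coe] at hy
  obtain ⟨k, hk⟩ := (hmemM ⟨y, hMH y.2⟩).mp y.2
  refine hqD ?_
  have h3 : orderOf ((y : G) ^ p ^ k) = q := by
    rw [orderOf_pow' _ (pow_ne_zero _ hpp.ne_zero), hy,
      Nat.Coprime.gcd_eq_one (((Nat.coprime_primes hqq hpp).mpr hne.symm).pow_right k), Nat.div_one]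
  exact h3 ▸ Subgroup.orderOf_dvd_natCard D hk

theorem window_facts (n : ℕ) (hn : 5 ≤ n) (hcard : Nat.card G = Nat.card (alternatingGroup (Fin n)))
    (hspec : Set.range (orderOf : G → ℕ) = Set.range (orderOf : ↥(alternatingGroup (Fin n)) → ℕ))
    {p q : ℕ} (hp : p.Prime) (hq : q.Prime) (hne : p ≠ q) (hpw : n < 2 * p) (hpn : p ≤ n)
    (hq3 : q ≠ 2) (hqn : q ≤ n) (hsum : n < p + q) (hqp : ¬ q ∣ p - 1)
    (hpq : ∀ j : ℕ, 1 ≤ j → q ^ j ∣ Nat.card G → ¬ p ∣ q ^ j - 1) :
    p ∣ Nat.card G ∧ ∀ M : Subgroup G, M.Normal → (p ∣ Nat.card M ↔ q ∣ Nat.card M) := by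
  haveI := Fact.mk hp
  haveI := Fact.mk hq
  have hp2 : p ≠ 2 := by omega
  have hpG : p ∣ Nat.card G := hcard ▸ prime_dvd_card hp hp2 hpn
  refine ⟨hpG, fun M hM => both_or_neither hne (hcard ▸ not_sq_dvd_card hp hpw (by omega)) hqp hpq
    (fun g hg => ?_) hpG (hcard ▸ prime_dvd_card hq hq3 hqn) M⟩
  have hmem : p * q ∈ Set.range (orderOf : G → ℕ) := ⟨g, hg⟩
  rw [hspec] at hmem
  obtain ⟨s, hs⟩ := hmem
  exact alt_no_order hp hq hne hsum s hs

theorem result {G : Type*} [Group G] [Finite G] (n : ℕ) (hn : 11 ≤ n)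
    (hcard : Nat.card G = Nat.card ↥(alternatingGroup (Fin n)))
    (hspec : Set.range (orderOf : G → ℕ) = Set.range (orderOf : ↥(alternatingGroup (Fin n)) → ℕ)) :
    ∃ (N H : Subgroup G) (_ : N.Normal), H.Normal ∧ N < H ∧
      IsSimpleGroup (↥H ⧸ N.subgroupOf H) ∧ ¬ IsMulCommutative (↥H ⧸ N.subgroupOf H) ∧
      ∀ p : ℕ, p.Prime → n < 2 * p → p ≤ n → p ∣ Nat.card (↥H ⧸ N.subgroupOf H) := by
  classical
  obtain ⟨p₀, q₀, hp₀, hq₀, hw₀, hlt₀, hqn₀⟩ : ∃ p q : ℕ, p.Prime ∧ q.Prime ∧ n < 2 * p ∧ p < q ∧ q ≤ n := by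
    by_cases h : n = 14 ∨ n = 15 ∨ n = 16
    · exact ⟨11, 13, by norm_num, by norm_num, by omega, by omega, by omega⟩
    · obtain ⟨p, q, h1, h2, h3, h4, h5⟩ := Cfsg.Lib.Fusion.exists_two_primes hn (by omega) (by omega) (by omega)
      exact ⟨p, q, h1, h2, h3, by omega, h5⟩
  haveI := Fact.mk hp₀
  haveI := Fact.mk hq₀
  have hboth : ∀ p q : ℕ, p.Prime → q.Prime → n < 2 * p → n < 2 * q → p < q → q ≤ n →
      p ∣ Nat.card G ∧ ∀ M : Subgroup G, M.Normal → (p ∣ Nat.card M ↔ q ∣ Nat.card M) := by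
    intro p q hp hq hpw hqw hlt hqn
    refine window_facts n (by omega) hcard hspec hp hq hlt.ne hpw (by omega) (by omega) hqn (by omega)
      (fun h => by have := Nat.le_of_dvd (by have := hp.two_le; omega) h; omega) fun j hj hdvd h => ?_
    have hj1 : j = 1 := by
      by_contra hne
      exact not_sq_dvd_card hq hqw (by omega) (hcard ▸ (pow_dvd_pow q (by omega : 2 ≤ j)).trans hdvd)
    subst hj1
    rw [pow_one] at h
    obtain ⟨c, hc⟩ := h
    have hc2 : c < 2 := by
      by_contra hc2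
      have : p * 2 ≤ p * c := Nat.mul_le_mul_left p (by omega)
      omega
    rcases Nat.lt_succ_iff.mp hc2 |>.lt_or_eq with hc0 | hc1
    · have : c = 0 := by omega
      subst this
      have := hq.two_le
      omega
    · subst hc1
      have hq1 : q = p + 1 := by omega
      rcases hp.eq_two_or_odd with hpe | hpo
      · omega
      rcases hq.eq_two_or_odd with hqe | hqo <;> omega
  have hall : ∀ (M : Subgroup G), M.Normal → p₀ ∣ Nat.card M →
      ∀ r : ℕ, r.Prime → n < 2 * r → r ≤ n → r ∣ Nat.card M := by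
    intro M hM hpM r hr hrw hrn
    rcases lt_trichotomy r p₀ with h | h | h
    · exact ((hboth r p₀ hr hp₀ hrw hw₀ h (by omega)).2 M hM).mpr hpM
    · exact h ▸ hpM
    · exact ((hboth p₀ r hp₀ hr hw₀ hrw h hrn).2 M hM).mp hpM
  obtain ⟨hpG, hpq₀⟩ := hboth p₀ q₀ hp₀ hq₀ hw₀ (by omega) hlt₀ hqn₀
  -- a least normal subgroup of order divisible by `p₀`
  obtain ⟨H, ⟨hHn, hHp⟩, hHmin⟩ := WellFounded.has_min (wellFounded_lt (α := Subgroup G))
    {M : Subgroup G | M.Normal ∧ p₀ ∣ Nat.card M} ⟨⊤, inferInstance, by rwa [Subgroup.card_top]⟩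
  -- the greatest normal subgroup below it
  obtain ⟨N, ⟨hNn, hNH⟩, hNmax⟩ := WellFounded.has_min (wellFounded_gt (α := Subgroup G))
    {M : Subgroup G | M.Normal ∧ M < H} ⟨⊥, inferInstance, bot_lt_iff_ne_bot.mpr fun h => by
      rw [h, Subgroup.card_bot, Nat.dvd_one] at hHp
      exact hp₀.ne_one hHp⟩
  haveI := hHn
  haveI := hNn
  have hNp : ¬ p₀ ∣ Nat.card N := fun h => hHmin N ⟨hNn, h⟩ hNH
  have hp2 : ¬ p₀ ^ 2 ∣ Nat.card G := hcard ▸ not_sq_dvd_card hp₀ hw₀ (by omega)
  -- subgroups normal in `H` above `N`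
  have hkey : ∀ K : Subgroup G, N ≤ K → K ≤ H → (∀ x ∈ H, ∀ k ∈ K, x * k * x⁻¹ ∈ K) → K = N ∨ K = H := by
    intro K hNK hKH hKn
    by_cases hpK : p₀ ∣ Nat.card K
    · -- `K` contains every element of order `p₀` of `H`, hence so does its core
      right
      obtain ⟨x, hx⟩ := exists_prime_orderOf_dvd_card' p₀ hHp
      have hxK : ∀ y ∈ H, orderOf y = p₀ → y ∈ K := by
        intro y hy hyo
        obtain ⟨z, hz⟩ := exists_prime_orderOf_dvd_card' p₀ hpK
        haveI : (K.subgroupOf H).Normal := ⟨fun k hk x => Subgroup.mem_subgroupOf.mpr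
          (hKn x x.2 k (Subgroup.mem_subgroupOf.mp hk))⟩
        let P : Sylow p₀ (K.subgroupOf H) := default
        have hz' : p₀ ∣ Nat.card (K.subgroupOf H) := by
          rw [Nat.card_congr (Subgroup.subgroupOfEquivOfLe hKH).toEquiv]; exact hpK
        have hind : ¬ p₀ ∣ (K.subgroupOf H).index := fun h => hp2 (by
          rw [sq]
          exact (Nat.mul_dvd_mul hz' h).trans
            ((K.subgroupOf H).card_mul_index ▸ Subgroup.card_subgroup_dvd_card H))
        have : (⟨y, hy⟩ : H) ∈ K.subgroupOf H := by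
          by_contra hyK
          refine hind ?_
          have h1 : orderOf (QuotientGroup.mk' (K.subgroupOf H) ⟨y, hy⟩) ∣ p₀ := by
            rw [← hyo, ← Subgroup.orderOf_mk y hy]; exact orderOf_map_dvd _ _
          rcases (Nat.dvd_prime hp₀).mp h1 with h2 | h2
          · exact absurd ((QuotientGroup.eq_one_iff _).mp (orderOf_eq_one_iff.mp h2)) hyK
          · rw [Subgroup.index_eq_card]; exact h2 ▸ orderOf_dvd_natCard _
        exact Subgroup.mem_subgroupOf.mp this
      have hcore : H ≤ K.normalCore := by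
        by_contra hle
        have h1 : K.normalCore ≤ H := K.normalCore_le.trans hKH
        refine hHmin K.normalCore ⟨inferInstance, ?_⟩ (lt_of_le_of_ne h1 fun e => hle e.ge)
        rw [← Subgroup.orderOf_coe] at hx
        refine hx ▸ Subgroup.orderOf_dvd_natCard _ fun g => hxK _ (hHn.conj_mem _ x.2 g) ?_
        rw [← MulAut.conj_apply, MulEquiv.orderOf_eq, hx]
      exact le_antisymm hKH (hcore.trans K.normalCore_le)
    · left
      refine le_antisymm ?_ hNK
      -- the join of all such subgroups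
      let S : Finset (Subgroup G) := (Set.toFinite {L : Subgroup G | L ≤ H ∧ ¬ p₀ ∣ Nat.card L ∧
        ∀ x ∈ H, ∀ k ∈ L, x * k * x⁻¹ ∈ L}).toFinset
      have hclosed : S.sup id ≤ H ∧ ¬ p₀ ∣ Nat.card ↥(S.sup id) ∧ ∀ x ∈ H, ∀ k ∈ S.sup id, x * k * x⁻¹ ∈ S.sup id := by
        refine Finset.sup_induction (p := fun L : Subgroup G => L ≤ H ∧ ¬ p₀ ∣ Nat.card L ∧
          ∀ x ∈ H, ∀ k ∈ L, x * k * x⁻¹ ∈ L) ⟨bot_le, by rw [Subgroup.card_bot]; exact hp₀.not_dvd_one,
          fun x _ k hk => by rw [Subgroup.mem_bot] at hk ⊢; subst hk; group⟩ ?_ ?_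
        · rintro A ⟨hA1, hA2, hA3⟩ B ⟨hB1, hB2, hB3⟩
          have hAB : A ≤ Subgroup.normalizer (B : Set G) := fun a ha k =>
            ⟨fun hk => hB3 a (hA1 ha) k hk, fun hk => by
              have := hB3 a⁻¹ (H.inv_mem (hA1 ha)) _ hk
              simpa [mul_assoc] using this⟩
          refine ⟨sup_le hA1 hB1, fun h => ?_, fun x hx k hk => ?_⟩
          · have h1 : Nat.card ↥(A ⊔ B) ∣ Nat.card A * Nat.card B := by
              haveI : (B.subgroupOf (A ⊔ B)).Normal :=
                Subgroup.normal_subgroupOf_sup_of_le_normalizer hAB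
              haveI : (B.subgroupOf A).Normal := Subgroup.normal_subgroupOf_of_le_normalizer hAB
              rw [← Subgroup.card_mul_index (B.subgroupOf (A ⊔ B)),
                Nat.card_congr (Subgroup.subgroupOfEquivOfLe (le_sup_right : B ≤ A ⊔ B)).toEquiv,
                mul_comm (Nat.card A)]
              refine Nat.mul_dvd_mul_left _ ?_
              rw [Subgroup.index_eq_card,
                ← Nat.card_congr (QuotientGroup.quotientInfEquivProdNormalizerQuotient A B hAB).toEquiv]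
              exact Subgroup.card_quotient_dvd_card _
            exact (hp₀.dvd_mul.mp (h.trans h1)).elim hA2 hB2
          · have hle : (A ⊔ B).map (MulAut.conj x).toMonoidHom ≤ A ⊔ B := by
              rw [Subgroup.map_sup]
              refine sup_le_sup ?_ ?_ <;> rintro _ ⟨y, hy, rfl⟩
              · exact hA3 x hx y hy
              · exact hB3 x hx y hy
            exact hle ⟨k, hk, rfl⟩
        · intro L hL
          simpa [S] using hL
      have hmemS : ∀ L : Subgroup G, L ≤ H → ¬ p₀ ∣ Nat.card L → (∀ x ∈ H, ∀ k ∈ L, x * k * x⁻¹ ∈ L) →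
          L ≤ S.sup id := fun L h1 h2 h3 => Finset.le_sup (f := id) ((Set.Finite.mem_toFinset _).mpr ⟨h1, h2, h3⟩)
      have hKS := hmemS K hKH hpK hKn
      haveI hXn : (S.sup id).Normal := by
        refine ⟨fun k hk g => ?_⟩
        refine hmemS ((S.sup id).map (MulAut.conj g).toMonoidHom) ?_ ?_ ?_ ⟨k, hk, rfl⟩
        · rintro _ ⟨y, hy, rfl⟩
          exact hHn.conj_mem y (hclosed.1 hy) g
        · rw [Subgroup.card_map_of_injective (MulAut.conj g).injective]
          exact hclosed.2.1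
        · rintro x hx _ ⟨y, hy, rfl⟩
          refine ⟨g⁻¹ * x * g * y * (g⁻¹ * x * g)⁻¹, hclosed.2.2 _ ?_ y hy, ?_⟩
          · simpa using hHn.conj_mem x hx g⁻¹
          · simp only [MulEquiv.coe_toMonoidHom, MulAut.conj_apply]; group
      refine hKS.trans (le_of_eq ?_)
      by_contra hne
      exact hNmax (S.sup id) ⟨hXn, lt_of_le_of_ne hclosed.1 fun e => hclosed.2.1 (e ▸ hHp)⟩
        (lt_of_le_of_ne (hNK.trans hKS) (Ne.symm hne))
  have hprimes : ∀ r : ℕ, r.Prime → n < 2 * r → r ≤ n → r ∣ Nat.card (↥H ⧸ N.subgroupOf H) := by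
    intro r hr hrw hrn
    have h1 := hall H hHn hHp r hr hrw hrn
    rw [← (N.subgroupOf H).card_mul_index,
      Nat.card_congr (Subgroup.subgroupOfEquivOfLe hNH.le).toEquiv, Subgroup.index_eq_card] at h1
    refine (hr.dvd_mul.mp h1).resolve_left fun hrN => hNp ?_
    rcases lt_trichotomy r p₀ with h | h | h
    · exact ((hboth r p₀ hr hp₀ hrw hw₀ h (by omega)).2 N hNn).mp hrN
    · exact h ▸ hrN
    · exact ((hboth p₀ r hp₀ hr hw₀ hrw h hrn).2 N hNn).mpr hrN
  refine ⟨N, H, hNn, hHn, hNH, ?_, ?_, hprimes⟩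
  · haveI : Nontrivial (↥H ⧸ N.subgroupOf H) := by
      rw [← Finite.one_lt_card_iff_nontrivial]
      exact hp₀.one_lt.trans_le (Nat.le_of_dvd Nat.card_pos (hprimes p₀ hp₀ hw₀ (by omega)))
    refine ⟨fun K hK => ?_⟩
    let L : Subgroup G := (K.comap (QuotientGroup.mk' (N.subgroupOf H))).map H.subtype
    have hLeq : L.subgroupOf H = K.comap (QuotientGroup.mk' (N.subgroupOf H)) :=
      Subgroup.comap_map_eq_self_of_injective H.subtype_injective _
    have hNL : N ≤ L := fun y hy => ⟨⟨y, hNH.le hy⟩, by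
      show QuotientGroup.mk' _ _ ∈ K
      rw [show QuotientGroup.mk' (N.subgroupOf H) ⟨y, hNH.le hy⟩ = 1 from
        (QuotientGroup.eq_one_iff _).mpr (Subgroup.mem_subgroupOf.mpr hy)]
      exact K.one_mem, rfl⟩
    rcases hkey L hNL (Subgroup.map_subtype_le _) (fun x hx k hk => by
      obtain ⟨k', hk', rfl⟩ := hk
      exact ⟨⟨x, hx⟩ * k' * ⟨x, hx⟩⁻¹, (hK.comap _).conj_mem k' hk' _, rfl⟩) with h | h
    · left
      rw [← Subgroup.map_comap_eq_self_of_surjective (QuotientGroup.mk'_surjective (N.subgroupOf H)) K,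
        ← hLeq, h]
      exact QuotientGroup.map_mk'_self _
    · right
      rw [← Subgroup.map_comap_eq_self_of_surjective (QuotientGroup.mk'_surjective (N.subgroupOf H)) K,
        ← hLeq, h, Subgroup.subgroupOf_self]
      exact Subgroup.map_top_of_surjective _ (QuotientGroup.mk'_surjective _)
  · intro hab
    refine hNp (commutator_dvd (q := q₀) hlt₀.ne hpq₀ H hHp N hNH.le ?_)
    rw [Subgroup.commutator_le]
    intro a ha b hb
    have h1 : QuotientGroup.mk' (N.subgroupOf H) ⁅(⟨a, ha⟩ : H), (⟨b, hb⟩ : H)⁆ = 1 := by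
      rw [map_commutatorElement]
      exact commutatorElement_eq_one_iff_mul_comm.mpr (hab.is_comm.comm _ _)
    exact Subgroup.mem_subgroupOf.mp ((QuotientGroup.eq_one_iff _).mp h1)

end Cfsg.Agent.S3420
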