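import Cfsg.Statements.S3419
import Cfsg.Agent.S3420
import Mathlib.GroupTheory.Solvable
import Mathlib.Tactic.IntervalCases
import Mathlib.Tactic.NormNum.Prime

set_option autoImplicit false
set_option linter.style.haveILetI false
open Cfsg

namespace Cfsg.Agent.S3419

open Cfsg.Agent.S3420

theorem result {G : Type*} [Group G] [Finite G] (n : ℕ) (hn : 5 ≤ n)
    (hcard : Nat.card G = Nat.card ↥(alternatingGroup (Fin n)))
    (hspec : Set.range (orderOf : G → ℕ) = Set.range (orderOf : ↥(alternatingGroup (Fin n)) → ℕ)) :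
    ¬ Group.IsSolvable G := by
  intro hsolv
  haveI := hsolv
  by_cases h11 : 11 ≤ n
  · obtain ⟨N, H, hN, -, -, hsimple, hna, -⟩ := Cfsg.Agent.S3420.result n h11 hcard hspec
    haveI := hsimple
    haveI : Group.IsSolvable H := inferInstance
    haveI : Group.IsSolvable (↥H ⧸ N.subgroupOf H) := inferInstance
    exact hna ⟨⟨fun a b => IsSimpleGroup.comm_iff_isSolvable.mpr inferInstance a b⟩⟩
  push Not at h11
  obtain ⟨p, q, hp, hq, hne, hpw, hpn, hq3, hqn, hsum, hqp, hj⟩ : ∃ p q : ℕ, p.Prime ∧ q.Prime ∧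
      p ≠ q ∧ n < 2 * p ∧ p ≤ n ∧ q ≠ 2 ∧ q ≤ n ∧ n < p + q ∧ ¬ q ∣ p - 1 ∧
      ¬ q ^ 3 ∣ n.factorial ∧ ¬ p ∣ q - 1 ∧ ¬ p ∣ q ^ 2 - 1 := by
    by_cases h6 : n ≤ 6
    · refine ⟨5, 3, by norm_num, by norm_num, by omega, by omega, by omega, by omega, by omega,
        by omega, by norm_num, ?_, by norm_num, by norm_num⟩
      interval_cases n <;> norm_num [Nat.factorial]
    · refine ⟨7, 5, by norm_num, by norm_num, by omega, by omega, by omega, by omega, by omega,
        by omega, by norm_num, ?_, by norm_num, by norm_num⟩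
      interval_cases n <;> norm_num [Nat.factorial]
  haveI := Fact.mk hp
  haveI := Fact.mk hq
  have hpq : ∀ j : ℕ, 1 ≤ j → q ^ j ∣ Nat.card G → ¬ p ∣ q ^ j - 1 := by
    intro j hj1 hdvd
    have hjle : j ≤ 2 := by
      by_contra hlt
      refine hj.1 ((pow_dvd_pow q (by omega : 3 ≤ j)).trans (hdvd.trans ?_))
      rw [hcard, ← two_mul_card_alt n (by omega)]
      exact dvd_mul_left _ _
    interval_cases j
    · rw [pow_one]; exact hj.2.1
    · exact hj.2.2
  obtain ⟨hpG, hboth⟩ := window_facts n hn hcard hspec hp hq hne hpw hpn hq3 hqn hsum hqp hpq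
  obtain ⟨H, ⟨hHn, hHp⟩, hHmin⟩ := WellFounded.has_min (wellFounded_lt (α := Subgroup G))
    {M : Subgroup G | M.Normal ∧ p ∣ Nat.card M} ⟨⊤, inferInstance, by rwa [Subgroup.card_top]⟩
  haveI := hHn
  have hH1 : H ≠ ⊥ := fun h => by
    rw [h, Subgroup.card_bot, Nat.dvd_one] at hHp
    exact hp.ne_one hHp
  have hlt : ⁅H, H⁆ < H := by
    haveI := (Subgroup.nontrivial_iff_ne_bot H).mpr hH1
    have h1 := IsSolvable.commutator_lt_top_of_nontrivial H
    refine lt_of_le_of_ne H.commutator_le_self fun e => h1.ne ?_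
    apply Subgroup.map_injective H.subtype_injective
    rw [commutator_def, Subgroup.map_commutator, ← MonoidHom.range_eq_map, Subgroup.range_subtype, e]
  exact hHmin _ ⟨inferInstance, commutator_dvd (q := q) hne hboth H hHp ⁅H, H⁆ hlt.le le_rfl⟩ hlt

end Cfsg.Agent.S3419
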