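import Cfsg.Statements.S3421
import Cfsg.Agent.Lib.Recog.OrderSpecPSL.Main
import Cfsg.Agent.Lib.Spec.PSLTwoSpectrum
import Cfsg.Agent.Lib.Linear.PSLSmall
import Cfsg.Agent.Lib.Dickson.PSLTwo
import Cfsg.Agent.S1230

set_option autoImplicit false
open Cfsg

namespace Cfsg.Agent.S3421

/-- Let F be a finite field with more than 3 elements. A finite group G is isomorphic to PSL(2, F) if and only if G has the same set of element orders and the same order as PSL(2, F). -/
theorem result {G : Type*} [Group G] [Finite G] {F : Type*} [Field F] [Fintype F] (hF : 3 < Fintype.card F) :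
    Nonempty (G ≃* Matrix.ProjectiveSpecialLinearGroup (Fin 2) F) ↔
      (Set.range (orderOf : G → ℕ) = Set.range (orderOf : Matrix.ProjectiveSpecialLinearGroup (Fin 2) F → ℕ) ∧
        Nat.card G = Nat.card (Matrix.ProjectiveSpecialLinearGroup (Fin 2) F)) := by
  classical
  refine ⟨fun ⟨φ⟩ => ⟨?_, Nat.card_congr φ.toEquiv⟩, fun ⟨hr, hcard⟩ => ?_⟩
  · ext n
    constructor
    · rintro ⟨g, rfl⟩
      exact ⟨φ g, φ.orderOf_eq g⟩
    · rintro ⟨x, rfl⟩
      exact ⟨φ.symm x, φ.symm.orderOf_eq x⟩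
  suffices h : ∃ (K : Type) (_ : Field K) (_ : Fintype K), Fintype.card K = Fintype.card F ∧
      Nonempty (G ≃* Matrix.ProjectiveSpecialLinearGroup (Fin 2) K) by
    obtain ⟨K, iK, iKf, hK, ⟨φ⟩⟩ := h
    exact ⟨φ.trans (Cfsg.Lib.Dickson.pslEquiv (FiniteField.ringEquivOfCardEq hK))⟩
  obtain ⟨p, hp'⟩ := CharP.exists F
  haveI := hp'
  have hp : p.Prime := CharP.char_is_prime F p
  haveI := Fact.mk hp
  obtain ⟨k, -, hk⟩ := FiniteField.card F p
  set Q := Fintype.card F with hQ
  rw [Cfsg.Lib.Spec.psl_two_spectrum (F := F) p hF, ← hQ] at hr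
  have hc := Cfsg.Lib.Linear.Two.card_PSL_two (F := F)
  rw [← hQ, ← hcard] at hc
  by_cases hp2 : p = 2
  · subst hp2
    haveI : Fact (Nat.Prime 2) := Fact.mk Nat.prime_two
    have hQe : 2 ∣ Q := hk ▸ dvd_pow_self 2 k.ne_zero
    have hg : Nat.gcd 2 (Q - 1) = 1 := (Nat.prime_two.coprime_iff_not_dvd).2 (by omega)
    rw [hg, Nat.div_one, Nat.div_one] at hr
    rw [hg, one_mul] at hc
    have hspec : ∀ g : G, orderOf g ∣ 2 ∨ orderOf g ∣ Q - 1 ∨ orderOf g ∣ Q + 1 := fun g => by
      have h1 : orderOf g ∈ Set.range (orderOf : G → ℕ) := ⟨g, rfl⟩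
      rw [hr] at h1
      exact h1
    let T : Sylow 2 G := default
    have h16 : 16 ≤ Q ^ 2 := by nlinarith
    have hQT : Q ∣ Nat.card T := by
      rw [hk]
      refine T.pow_dvd_card_of_pow_dvd_card ?_
      rw [← hk, hc]
      exact dvd_mul_right _ _
    have hle : ∀ H : Subgroup G, IsPGroup 2 H → Nat.card H ∣ Q := fun H hH => by
      obtain ⟨n, hn⟩ := IsPGroup.iff_card.1 hH
      have h1 : Nat.card H ∣ Q * (Q ^ 2 - 1) := hc ▸ Subgroup.card_subgroup_dvd_card H
      refine Nat.Coprime.dvd_of_dvd_mul_right ?_ h1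
      rw [hn]
      refine ((Nat.prime_two.coprime_iff_not_dvd).2 fun h2 => ?_).pow_left n
      have h3 : 2 ∣ Q ^ 2 := hQe.trans (dvd_pow_self Q two_ne_zero)
      omega
    have hT : Nat.card T = Q := Nat.dvd_antisymm (hle _ T.isPGroup') hQT
    have hsq : ∀ t : G, orderOf t = 2 → ∀ c ∈ Subgroup.centralizer ({t} : Set G), orderOf c ∣ 2 := by
      intro t ht c hc'
      rcases hspec c with h1 | h1
      · exact h1
      have hodd : ¬ 2 ∣ orderOf c := fun h2 => by
        rcases h1 with h1 | h1 <;> have := h2.trans h1 <;> omega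
      have hcomm : Commute t c := (Subgroup.mem_centralizer_singleton_iff.1 hc').symm
      have hco : (orderOf t).Coprime (orderOf c) := by
        rw [ht]; exact (Nat.prime_two.coprime_iff_not_dvd).2 hodd
      have h2 := hspec (t * c)
      rw [hcomm.orderOf_mul_eq_mul_orderOf_of_coprime hco, ht] at h2
      rcases h2 with h3 | h3 | h3
      · exact (dvd_mul_left _ _).trans h3
      · have := (dvd_mul_right 2 (orderOf c)).trans h3; omega
      · have := (dvd_mul_right 2 (orderOf c)).trans h3; omega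
    have hC : ∀ t : G, orderOf t = 2 → IsMulCommutative (Subgroup.centralizer ({t} : Set G)) ∧
        ∀ c ∈ Subgroup.centralizer ({t} : Set G), c ^ 2 = 1 := fun t ht => by
      have h2 : ∀ c ∈ Subgroup.centralizer ({t} : Set G), c ^ 2 = 1 := fun c hc' =>
        orderOf_dvd_iff_pow_eq_one.1 (hsq t ht c hc')
      refine ⟨⟨⟨fun a b => Subtype.ext ?_⟩⟩, h2⟩
      have ha : (a : G)⁻¹ = a := inv_eq_of_mul_eq_one_right (by rw [← pow_two]; exact h2 _ a.2)
      have hb : (b : G)⁻¹ = b := inv_eq_of_mul_eq_one_right (by rw [← pow_two]; exact h2 _ b.2)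
      have hab : ((a : G) * b)⁻¹ = a * b :=
        inv_eq_of_mul_eq_one_right (by rw [← pow_two]; exact h2 _ (mul_mem a.2 b.2))
      show (a : G) * b = b * a
      rw [← hab, mul_inv_rev, ha, hb]
    have hnc : ¬ IsCyclic (T : Subgroup G) := fun h => by
      haveI := h
      obtain ⟨w, hw⟩ := IsCyclic.exists_generator (α := (T : Subgroup G))
      have hwo : orderOf (w : G) = Q := by
        rw [Subgroup.orderOf_coe, orderOf_eq_card_of_forall_mem_zpowers hw, hT]
      rcases hspec (w : G) with h1 | h1 | h1 <;> rw [hwo] at h1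
      · have := Nat.le_of_dvd two_pos h1; omega
      · have := Nat.le_of_dvd (by omega) h1; omega
      · have := Nat.dvd_sub h1 dvd_rfl
        rw [Nat.add_sub_cancel_left] at this
        have := Nat.le_of_dvd one_pos this
        omega
    have hnn : ¬ (T : Subgroup G).Normal := fun hn => by
      obtain ⟨t, ht⟩ := exists_prime_orderOf_dvd_card' (G := ↥(T : Subgroup G)) 2 (hT ▸ hQe)
      rw [← Subgroup.orderOf_coe] at ht
      set C := Subgroup.centralizer ({(t : G)} : Set G) with hCdef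
      have hCp : IsPGroup 2 C := fun c => ⟨1, by
        rw [pow_one]; exact Subtype.ext ((hC t ht).2 c c.2)⟩
      let f : G ⧸ C → ↥(T : Subgroup G) := fun x => ⟨x.out * t * x.out⁻¹, hn.conj_mem t t.2 x.out⟩
      have hf : Function.Injective f := fun x y hxy => by
        have h1 : x.out * (t : G) * x.out⁻¹ = y.out * t * y.out⁻¹ := congrArg Subtype.val hxy
        rw [← QuotientGroup.out_eq' x, ← QuotientGroup.out_eq' y, QuotientGroup.eq]
        refine Subgroup.mem_centralizer_singleton_iff.2 ?_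
        have h4 := congrArg (fun z => x.out⁻¹ * z * y.out) h1
        simp only [mul_assoc, inv_mul_cancel, mul_one, inv_mul_cancel_left] at h4
        rw [mul_assoc]
        exact h4.symm
      have h1 : C.index ≤ Q := by
        rw [Subgroup.index_eq_card, ← hT]
        exact Nat.card_le_card_of_injective f hf
      have h2 : Nat.card C ≤ Q := Nat.le_of_dvd (by omega) (hle C hCp)
      have h3 := C.card_mul_index
      rw [hc] at h3
      have h4 : Q * (Q ^ 2 - 1) ≤ Q * Q := h3 ▸ Nat.mul_le_mul h2 h1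
      have h5 := Nat.le_of_mul_le_mul_left h4 (by omega)
      have h6 : 2 * Q ≤ Q ^ 2 := by nlinarith
      omega
    obtain ⟨K, iK, iKf, hK, hφ⟩ := Cfsg.Agent.S1230.result T hnc hnn hC
    exact ⟨K, iK, iKf, hK.trans hT, hφ⟩
  · have hQo : ¬ 2 ∣ Q := fun h2 =>
      hp2 ((Nat.prime_dvd_prime_iff_eq Nat.prime_two hp).1 (Nat.prime_two.dvd_of_dvd_pow (hk ▸ h2))).symm
    have hpQ : p ∣ Q := hk ▸ dvd_pow_self p k.ne_zero
    have hg : Nat.gcd 2 (Q - 1) = 2 := Nat.gcd_eq_left (by omega)
    rw [hg] at hr hc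
    have hQ5 : 5 ≤ Q := by omega
    set u := (Q - 1) / 2 with hu
    have huQ : Q = 2 * u + 1 := by omega
    have hu1 : (Q + 1) / 2 = u + 1 := by omega
    rw [hu1] at hr
    have hsq : Q ^ 2 - 1 = 4 * u * (u + 1) := by
      rw [huQ, show (2 * u + 1) ^ 2 = 4 * u * (u + 1) + 1 by ring, Nat.add_sub_cancel]
    have hG : Nat.card G = 2 * Q * u * (u + 1) := by
      have h1 : 2 * Nat.card G = 2 * (2 * Q * u * (u + 1)) := by rw [hc, hsq]; ring
      omega
    have hspec : ∀ g : G, orderOf g ∣ p ∨ orderOf g ∣ u ∨ orderOf g ∣ u + 1 := fun g => by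
      have h1 : orderOf g ∈ Set.range (orderOf : G → ℕ) := ⟨g, rfl⟩
      rw [hr] at h1
      exact h1
    have hex : ∀ n, (n ∣ p ∨ n ∣ u ∨ n ∣ u + 1) → ∃ g : G, orderOf g = n := fun n hn => by
      have h1 : n ∈ Set.range (orderOf : G → ℕ) := by rw [hr]; exact hn
      exact h1
    have hp_one : ¬ p ∣ u ∧ ¬ p ∣ u + 1 := by
      constructor <;> intro h1
      · have := Nat.dvd_sub hpQ (h1.mul_left 2)
        rw [show Q - 2 * u = 1 by omega] at this
        exact hp.ne_one (Nat.dvd_one.1 this)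
      · have := Nat.dvd_sub (h1.mul_left 2) hpQ
        rw [show 2 * (u + 1) - Q = 1 by omega] at this
        exact hp.ne_one (Nat.dvd_one.1 this)
    have hcop : Nat.Coprime u (u + 1) := by simp
    rcases Nat.even_or_odd u with ⟨j, hj⟩ | ⟨j, hj⟩
    · exact Cfsg.Lib.Recog.OrderSpecPSL.Data.exists_equiv (p := p) (e := u) (o := u + 1) (q := Q)
        { hp := hp, hp2 := hp2, hpq := ⟨k, k.pos, hk⟩, hq5 := hQ5, he := ⟨j, by omega⟩, he2 := by omega,
          ho := by omega, ho3 := by omega, heo := by omega, hoe := le_rfl, hsum := by omega, hco := hcop,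
          hpe := hp_one.1, hpo := hp_one.2, card := hG, spec := hspec,
          exE := hex u (Or.inr (Or.inl dvd_rfl)), exO := hex (u + 1) (Or.inr (Or.inr dvd_rfl)),
          exP := hex p (Or.inl dvd_rfl) }
    · exact Cfsg.Lib.Recog.OrderSpecPSL.Data.exists_equiv (p := p) (e := u + 1) (o := u) (q := Q)
        { hp := hp, hp2 := hp2, hpq := ⟨k, k.pos, hk⟩, hq5 := hQ5, he := ⟨j + 1, by omega⟩, he2 := by omega,
          ho := by omega, ho3 := by omega, heo := le_rfl, hoe := by omega, hsum := by omega, hco := hcop.symm,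
          hpe := hp_one.2, hpo := hp_one.1, card := by rw [hG]; ring,
          spec := fun g => by rcases hspec g with h | h | h <;> simp [h],
          exE := hex (u + 1) (Or.inr (Or.inr dvd_rfl)), exO := hex u (Or.inr (Or.inl dvd_rfl)),
          exP := hex p (Or.inl dvd_rfl) }

end Cfsg.Agent.S3421
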