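import Cfsg.Statements.S3427
import Cfsg.Agent.Lib.Recog.G2Two.Unique
import Cfsg.Agent.Lib.Recog.G2Two.Model

set_option autoImplicit false
open Cfsg

namespace Cfsg.Agent.S3427

/-- Let F be the field with 2 elements and let M be the Chevalley group of type G₂ over F (a non-simple group of order 12096 whose derived subgroup, of index 2, is isomorphic to PSU(3, 3)). A finite group G is isomorphic to M if and only if G has the same set of element orders and the same order as M. -/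
theorem result {G : Type*} [Group G] [Finite G] {F : Type*} [Field F] [Fintype F] (hF : Fintype.card F = 2) :
    Nonempty (G ≃* ↥(Cfsg.Lie.chevG2.group F)) ↔
      (Set.range (orderOf : G → ℕ) = Set.range (orderOf : ↥(Cfsg.Lie.chevG2.group F) → ℕ) ∧ Nat.card G = Nat.card ↥(Cfsg.Lie.chevG2.group F)) := by
  have hM := Cfsg.Lib.Recog.G2Two.hyp_g2two hF
  constructor
  · rintro ⟨e⟩
    refine ⟨?_, Nat.card_congr e.toEquiv⟩
    ext n
    exact ⟨fun ⟨g, hg⟩ => ⟨e g, (e.orderOf_eq g).trans hg⟩,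
      fun ⟨g, hg⟩ => ⟨e.symm g, (e.symm.orderOf_eq g).trans hg⟩⟩
  · rintro ⟨hs, hc⟩
    have hno : ∀ k, (∀ x : ↥(Cfsg.Lie.chevG2.group F), orderOf x ≠ k) → ∀ g : G, orderOf g ≠ k := fun k hk g e => by
      obtain ⟨x, hx⟩ := (hs ▸ ⟨g, e⟩ : k ∈ Set.range (orderOf : ↥(Cfsg.Lie.chevG2.group F) → ℕ))
      exact hk x hx
    have hG : Cfsg.Lib.Recog.G2Two.Hyp G :=
      ⟨hc.trans hM.card, hno 9 hM.no9, hno 14 hM.no14, hno 21 hM.no21, by
        obtain ⟨x, hx⟩ := hM.has12
        exact (hs.symm ▸ ⟨x, hx⟩ : 12 ∈ Set.range (orderOf : G → ℕ))⟩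
    haveI : Fact (Nat.Prime 3) := ⟨Nat.prime_three⟩
    haveI := hM.finite
    obtain ⟨e1⟩ := hG.equiv_model
    obtain ⟨e2⟩ := hM.equiv_model
    exact ⟨e1.trans e2.symm⟩

end Cfsg.Agent.S3427
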