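import Mathlib
import Cfsg.Statements.S3430
import Cfsg.Agent.S4230

set_option autoImplicit false
open Cfsg

namespace Cfsg.Agent.S3430

open Polynomial ArithmeticFunction

/-- The weight of the prime three. -/
def w3 (n : ℕ) : ℕ := if 3 ∣ n then 8 else 1

/-- The weights of two and three. -/
def w23 (n : ℕ) : ℕ := (if 2 ∣ n then 4 else 1) * (if 3 ∣ n then 9 else 1)

theorem totient_weight (n : ℕ) : 0 < n → n ^ 2 * w3 n ≤ n.totient ^ 3 * w23 n := by
  induction n using Nat.recOnPrimeCoprime with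
  | zero => simp
  | prime_pow p a hp =>
    intro _
    rcases a with _ | b
    · simp [w3, w23]
    have hb : p ^ (2 * b) ≤ p ^ (3 * b) := Nat.pow_le_pow_right hp.pos (by omega)
    have key : p ^ 2 * w3 (p ^ (b + 1)) ≤ (p - 1) ^ 3 * w23 (p ^ (b + 1)) := by
      have hdvd : ∀ r : ℕ, r.Prime → (r ∣ p ^ (b + 1) ↔ p = r) := fun r hr =>
        ⟨fun h => ((Nat.prime_dvd_prime_iff_eq hr hp).1 (hr.dvd_of_dvd_pow h)).symm,
          fun h => h ▸ dvd_pow_self p b.succ_ne_zero⟩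
      simp only [w3, w23, hdvd 2 Nat.prime_two, hdvd 3 Nat.prime_three]
      by_cases h2 : p = 2
      · subst h2; norm_num
      by_cases h3 : p = 3
      · subst h3; norm_num
      simp only [h2, h3, if_false, mul_one]
      have : 5 ≤ p := by
        have := hp.two_le
        have : p ≠ 4 := fun h => by subst h; norm_num at hp
        omega
      obtain ⟨m, rfl⟩ : ∃ m, p = m + 1 := ⟨p - 1, by omega⟩
      simp only [Nat.add_sub_cancel]
      nlinarith
    calc (p ^ (b + 1)) ^ 2 * w3 (p ^ (b + 1)) = p ^ (2 * b) * (p ^ 2 * w3 (p ^ (b + 1))) := by ring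
      _ ≤ p ^ (3 * b) * ((p - 1) ^ 3 * w23 (p ^ (b + 1))) := Nat.mul_le_mul hb key
      _ = _ := by rw [Nat.totient_prime_pow_succ hp]; ring
  | coprime a b ha hb hab iha ihb =>
    intro _
    have h : ∀ r c : ℕ, r.Prime → (if r ∣ a * b then c else 1) = (if r ∣ a then c else 1) * (if r ∣ b then c else 1) := by
      intro r c hr
      have hno : ¬ (r ∣ a ∧ r ∣ b) := fun h => hr.not_dvd_one (hab ▸ Nat.dvd_gcd h.1 h.2)
      simp only [hr.dvd_mul]
      by_cases h1 : r ∣ a <;> by_cases h2 : r ∣ b <;> simp_all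
    have h3 : w3 (a * b) = w3 a * w3 b := h 3 8 Nat.prime_three
    have h23 : w23 (a * b) = w23 a * w23 b := by
      simp only [w23, h 2 4 Nat.prime_two, h 3 9 Nat.prime_three]; ring
    have := Nat.mul_le_mul (iha (by omega)) (ihb (by omega))
    rw [Nat.totient_mul hab, h3, h23]
    linarith

theorem totient_cube (n : ℕ) (hn : 0 < n) : 2 * n ^ 2 ≤ 9 * n.totient ^ 3 := by
  have h := totient_weight n hn
  unfold w3 w23 at h
  split_ifs at h <;> nlinarith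

theorem two_pow_gt (k : ℕ) (hk : 18 ≤ k) : 36 * k ^ 3 < 2 ^ k := by
  induction k, hk using Nat.le_induction with
  | base => norm_num
  | succ k hk ih =>
    rw [pow_succ 2 k]
    have h1 : 18 * k ^ 2 ≤ k ^ 3 := by nlinarith
    have h2 : 18 * k ≤ k ^ 2 := by nlinarith
    nlinarith

theorem sum_mu (n : ℕ) (hn : 0 < n) :
    ∑ x ∈ n.divisorsAntidiagonal, (moebius x.1 : ℤ) * (x.2 : ℤ) = (n.totient : ℤ) := by
  have h := (sum_eq_iff_sum_mul_moebius_eq (R := ℤ) (f := fun i => (i.totient : ℤ)) (g := fun i => (i : ℤ))).1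
    (fun m _ => by exact_mod_cast Nat.sum_totient m) n hn
  simpa using h

theorem prod_half (S : Finset ℕ) (hS : ∀ d ∈ S, 2 ≤ d) :
    (1 / 2 : ℝ) ≤ ∏ d ∈ S, (1 - (1 / 2 : ℝ) ^ d) := by
  have hw : ∀ T : Finset ℕ, 1 - ∑ d ∈ T, (1 / 2 : ℝ) ^ d ≤ ∏ d ∈ T, (1 - (1 / 2 : ℝ) ^ d) := by
    intro T
    induction T using Finset.induction_on with
    | empty => simp
    | insert a T ha ih =>
      rw [Finset.sum_insert ha, Finset.prod_insert ha]
      have h0 : 0 ≤ (1 / 2 : ℝ) ^ a := by positivity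
      have h1 : (1 / 2 : ℝ) ^ a ≤ 1 := pow_le_one₀ (by norm_num) (by norm_num)
      have h2 : 0 ≤ ∑ d ∈ T, (1 / 2 : ℝ) ^ d := by positivity
      have := mul_le_mul_of_nonneg_left ih (sub_nonneg.2 h1)
      nlinarith [mul_nonneg h0 h2]
  have hsum : ∑ d ∈ S, (1 / 2 : ℝ) ^ d ≤ 1 / 2 := by
    have hsub : S ∪ {0, 1} ⊆ Finset.range (S.sup id + 2) := by
      intro x hx
      rw [Finset.mem_range]
      rcases Finset.mem_union.1 hx with h | h
      · have : id x ≤ S.sup id := Finset.le_sup h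
        simp only [id] at this
        omega
      · simp at h; omega
    have h1 : ∑ d ∈ S ∪ {0, 1}, (1 / 2 : ℝ) ^ d ≤ 2 :=
      le_trans (Finset.sum_le_sum_of_subset_of_nonneg hsub (fun i _ _ => by positivity)) (sum_geometric_two_le _)
    rw [Finset.sum_union (by
      rw [Finset.disjoint_left]
      intro x hx hx'
      have := hS x hx
      simp at hx'; omega), Finset.sum_pair (by norm_num)] at h1
    norm_num at h1 ⊢
    linarith
  linarith [hw S]

theorem phi_lower (n q : ℕ) (hn : 0 < n) (hq : 2 ≤ q) :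
    (q : ℝ) ^ n.totient ≤ 4 * (cyclotomic n ℝ).eval (q : ℝ) := by
  have hq1 : (1 : ℝ) < q := by exact_mod_cast hq
  have hg : ∀ m : ℕ, 0 < m → (q : ℝ) ^ m - 1 ≠ 0 := fun m hm =>
    sub_ne_zero.2 (one_lt_pow₀ hq1 hm.ne').ne'
  have hmob := (prod_eq_iff_prod_pow_moebius_eq_of_nonzero (R := ℝ) (f := fun i => (cyclotomic i ℝ).eval (q : ℝ))
    (g := fun i => (q : ℝ) ^ i - 1) (fun m _ => (cyclotomic_pos' m hq1).ne') hg).1 (fun m hm => by
      have h := congrArg (Polynomial.eval (q : ℝ)) (prod_cyclotomic_eq_X_pow_sub_one hm ℝ)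
      simpa [eval_prod] using h) n hn
  rw [← hmob]
  have hterm : ∀ x ∈ n.divisorsAntidiagonal,
      (q : ℝ) ^ ((moebius x.1 : ℤ) * (x.2 : ℤ)) * (1 - (1 / 2 : ℝ) ^ x.2) ≤
        ((q : ℝ) ^ x.2 - 1) ^ (moebius x.1 : ℤ) := by
    intro x hx
    have hx2 : 0 < x.2 := by
      rw [Nat.mem_divisorsAntidiagonal] at hx
      exact Nat.pos_of_ne_zero fun h => hx.2 (by rw [← hx.1, h, mul_zero])
    set Q := (q : ℝ) ^ x.2
    have hQ : (2 : ℝ) ^ x.2 ≤ Q := pow_le_pow_left₀ (by norm_num) (by exact_mod_cast hq) _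
    have h2 : (2 : ℝ) ≤ (2 : ℝ) ^ x.2 := le_self_pow₀ (by norm_num) hx2.ne'
    have he : (1 / 2 : ℝ) ^ x.2 = 1 / 2 ^ x.2 := by rw [div_pow, one_pow]
    rw [mul_comm ((moebius x.1 : ℤ)), zpow_mul, zpow_natCast]
    have hhalf : 1 - (1 / 2 : ℝ) ^ x.2 ≤ 1 - 1 / Q := by
      rw [he]; linarith [one_div_le_one_div_of_le (by positivity) hQ]
    have hQ0 : (0 : ℝ) < Q := by linarith
    have h0 : 0 ≤ (1 / 2 : ℝ) ^ x.2 := by positivity
    rcases eq_or_ne (moebius x.1) 0 with h | h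
    · rw [h]; simp
    rcases moebius_ne_zero_iff_eq_or.1 h with h | h <;> rw [h]
    · rw [zpow_one, zpow_one]
      calc Q * (1 - (1 / 2 : ℝ) ^ x.2) ≤ Q * (1 - 1 / Q) := mul_le_mul_of_nonneg_left hhalf hQ0.le
        _ = Q - 1 := by field_simp
    · rw [zpow_neg_one, zpow_neg_one]
      have h3 : Q⁻¹ * (1 - (1 / 2 : ℝ) ^ x.2) ≤ Q⁻¹ :=
        mul_le_of_le_one_right (by positivity) (by linarith)
      exact h3.trans (inv_anti₀ (by linarith) (by linarith))
  have hpos : ∀ x ∈ n.divisorsAntidiagonal,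
      0 ≤ (q : ℝ) ^ ((moebius x.1 : ℤ) * (x.2 : ℤ)) * (1 - (1 / 2 : ℝ) ^ x.2) := fun x _ =>
    mul_nonneg (by positivity) (sub_nonneg.2 (pow_le_one₀ (by norm_num) (by norm_num)))
  have h1 := Finset.prod_le_prod hpos hterm
  rw [Finset.prod_mul_distrib] at h1
  have h2 : ∏ x ∈ n.divisorsAntidiagonal, (q : ℝ) ^ ((moebius x.1 : ℤ) * (x.2 : ℤ)) = (q : ℝ) ^ n.totient := by
    rw [← zpow_natCast, ← sum_mu n hn]
    induction n.divisorsAntidiagonal using Finset.induction_on with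
    | empty => simp
    | insert a T ha ih => rw [Finset.prod_insert ha, Finset.sum_insert ha, zpow_add₀ (by positivity), ih]
  have h3 : (1 / 4 : ℝ) ≤ ∏ x ∈ n.divisorsAntidiagonal, (1 - (1 / 2 : ℝ) ^ x.2) := by
    rw [Nat.prod_divisorsAntidiagonal' (fun _ b => 1 - (1 / 2 : ℝ) ^ b),
      ← Finset.mul_prod_erase n.divisors _ (Nat.one_mem_divisors.2 hn.ne')]
    have := prod_half (n.divisors.erase 1) (fun d hd => by
      obtain ⟨hd1, hd2⟩ := Finset.mem_erase.1 hd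
      have := Nat.pos_of_mem_divisors hd2
      omega)
    norm_num at this ⊢
    linarith
  have hq0 : 0 ≤ (q : ℝ) ^ n.totient := by positivity
  have h4 := mul_le_mul_of_nonneg_left h3 hq0
  rw [h2] at h1
  linarith

/-- The degrees for which the estimate leaves something to check. -/
def smallDeg : List ℕ := [3, 4, 5, 6, 7, 8, 9, 10, 12, 14, 15, 16, 18, 20, 22, 24, 30, 36, 42]

theorem smallDeg_complete : ∀ n < 149, 3 ≤ n → 4 * (n * (n + 1)) < 2 ^ n.totient ∨ n ∈ smallDeg := by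
  decide +kernel

/-- Witnesses. -/
def table : List (ℕ × ℕ × ℕ) := [(3, 2, 7), (3, 3, 13), (3, 4, 7), (3, 5, 31), (3, 6, 43), (4, 4, 17), (4, 5, 13), (4, 6, 37), (4, 7, 5), (4, 8, 13), (5, 2, 31), (5, 3, 11), (6, 4, 13), (6, 6, 31), (6, 7, 43), (6, 8, 19), (6, 9, 73), (6, 10, 13), (6, 11, 37), (6, 12, 19), (7, 2, 127), (8, 2, 17), (8, 3, 41), (8, 4, 257), (9, 2, 73), (10, 3, 61), (10, 4, 41), (12, 3, 73), (12, 4, 241), (14, 2, 43), (14, 3, 547), (15, 2, 151), (16, 2, 257), (18, 3, 37), (20, 2, 41), (22, 2, 683), (24, 2, 241), (30, 2, 331), (36, 2, 109), (42, 2, 5419)]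

/-- The exceptional pairs. -/
def Exc (n q : ℕ) : Prop :=
  (q = 2 ∧ (n = 4 ∨ n = 6 ∨ n = 10 ∨ n = 12 ∨ n = 18)) ∨ (q = 3 ∧ (n = 4 ∨ n = 6)) ∨ (q = 5 ∧ n = 6)

instance excDec (n q : ℕ) : Decidable (Exc n q) := by unfold Exc; infer_instance

theorem small_thirteen : ∀ n ∈ smallDeg, 4 * (n * (n + 1)) < 13 ^ n.totient := by decide +kernel

theorem small_q : ∀ n ∈ smallDeg, ∀ q < 13, q < 2 ∨ 4 * (n * (n + 1)) < q ^ n.totient ∨ Exc n q ∨
    (n, q) ∈ table.map fun t => (t.1, t.2.1) := by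
  decide +kernel

theorem table_chk : ∀ t ∈ table, (2 ≤ t.2.2 ∧ t.2.2 < 75 * 75 ∧ ∀ m < 75, m < 2 ∨ t.2.2 ≤ m ∨ ¬ m ∣ t.2.2) ∧
    t.2.2 ∣ t.2.1 ^ t.1 - 1 ∧ (∀ i < t.1, i < 1 ∨ ¬ t.2.2 ∣ t.2.1 ^ i - 1) ∧
    (t.1 + 1 < t.2.2 ∨ t.2.2 ^ 2 ∣ t.2.1 ^ t.1 - 1) := by
  decide +kernel

theorem table_ok (t : ℕ × ℕ × ℕ) (ht : t ∈ table) : t.2.2.Prime ∧ t.2.2 ∣ t.2.1 ^ t.1 - 1 ∧
    (∀ i < t.1, 1 ≤ i → ¬ t.2.2 ∣ t.2.1 ^ i - 1) ∧ (t.1 + 1 < t.2.2 ∨ t.2.2 ^ 2 ∣ t.2.1 ^ t.1 - 1) := by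
  obtain ⟨⟨h2, hlt, hm⟩, hd, hi, hl⟩ := table_chk t ht
  refine ⟨Nat.prime_def_le_sqrt.2 ⟨h2, fun m hm2 hms => ?_⟩, hd,
    fun i hit hi1 => (hi i hit).resolve_left (by omega), hl⟩
  have h1 : m * m ≤ t.2.2 := Nat.le_sqrt.1 hms
  have h75 : m < 75 := by nlinarith
  rcases hm m h75 with h | h | h
  · omega
  · have := Nat.le_trans h1 h; nlinarith
  · exact h

theorem finite_case (n q : ℕ) (hn : 3 ≤ n) (hq : 2 ≤ q) (hexc : ¬ Exc n q)
    (hb : q ^ n.totient ≤ 4 * (n * (n + 1))) :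
    ∃ p : ℕ, p.Prime ∧ p ∣ q ^ n - 1 ∧ (∀ i : ℕ, 1 ≤ i → i < n → ¬ p ∣ q ^ i - 1) ∧
      (n + 1 < p ∨ p ^ 2 ∣ q ^ n - 1) := by
  have h2 : 2 ^ n.totient ≤ 4 * (n * (n + 1)) := (Nat.pow_le_pow_left hq _).trans hb
  have hk : n.totient < 18 := by
    by_contra hk
    have := two_pow_gt n.totient (by omega)
    have := totient_cube n (by omega)
    nlinarith
  have hn149 : n < 149 := by
    have := totient_cube n (by omega)
    have : n.totient ^ 3 ≤ 17 ^ 3 := Nat.pow_le_pow_left (by omega) 3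
    nlinarith
  have hmem := (smallDeg_complete n hn149 hn).resolve_left (by omega)
  have h13 := small_thirteen n hmem
  have hq13 : q < 13 := by
    by_contra h
    have := Nat.pow_le_pow_left (show 13 ≤ q by omega) n.totient
    omega
  obtain ⟨⟨a, b, p⟩, ht, he⟩ := List.mem_map.1 ((((small_q n hmem q hq13).resolve_left (by omega)).resolve_left (by omega)).resolve_left hexc)
  simp only [Prod.mk.injEq] at he
  obtain ⟨rfl, rfl⟩ := he
  obtain ⟨hp, hd, hi, hl⟩ := table_ok _ ht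
  exact ⟨p, hp, hd, fun i h1 h2 => hi i h2 h1, hl⟩

theorem cast_eval (m q : ℕ) :
    (((cyclotomic m ℤ).eval (q : ℤ) : ℤ) : ℝ) = (cyclotomic m ℝ).eval (q : ℝ) := by
  rw [← map_cyclotomic_int m ℝ, ← Int.cast_natCast (R := ℝ), eval_intCast_map, eq_intCast]
  rfl

theorem zmod_two : ∀ x : ZMod 2, x = 0 ∨ x = 1 := by decide

theorem zmod_four : ∀ x : ZMod 4, x ^ 2 + 1 ≠ 0 := by decide

/-- Without a large primitive prime the cyclotomic value is small. -/
theorem value_small (n q : ℕ) (hn : 3 ≤ n) (hq : 2 ≤ q)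
    (hnone : ∀ p : ℕ, p.Prime → p ∣ q ^ n - 1 → (∀ i : ℕ, 1 ≤ i → i < n → ¬ p ∣ q ^ i - 1) →
      p ≤ n + 1 ∧ ¬ p ^ 2 ∣ q ^ n - 1) :
    q ^ n.totient ≤ 4 * (n * (n + 1)) := by
  classical
  set Φ : ℤ := (cyclotomic n ℤ).eval (q : ℤ) with hΦ
  have hΦpos : 0 < Φ := by
    have h := cyclotomic_pos' n (R := ℝ) (x := (q : ℝ)) (by exact_mod_cast hq)
    rw [← cast_eval] at h
    exact_mod_cast h
  obtain ⟨M, hM⟩ : ∃ M : ℕ, Φ = (M : ℤ) := ⟨Φ.natAbs, (Int.natAbs_of_nonneg hΦpos.le).symm⟩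
  have hMdvd : M ∣ q ^ n - 1 := by
    rw [← Int.natCast_dvd_natCast, ← hM, Nat.cast_sub (Nat.one_le_pow _ _ (by omega))]
    simpa [hΦ] using eval_dvd (x := (q : ℤ)) (cyclotomic.dvd_X_pow_sub_one n ℤ)
  have key : ∀ s : ℕ, s.Prime → s ∣ M → s ∣ n * (n + 1) ∧ ¬ s * s ∣ M := by
    intro s hs hsM
    haveI := Fact.mk hs
    have hsd : s ∣ q ^ n - 1 := hsM.trans hMdvd
    have hqn : (q : ZMod s) ^ n = 1 := by
      have h := (ZMod.natCast_eq_zero_iff _ _).2 hsd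
      rwa [Nat.cast_sub (Nat.one_le_pow _ _ (by omega)), sub_eq_zero, Nat.cast_pow, Nat.cast_one] at h
    have hsq0 : ¬ s ∣ q := by
      intro h
      have : (q : ZMod s) = 0 := (ZMod.natCast_eq_zero_iff _ _).2 h
      rw [this, zero_pow (by omega)] at hqn
      exact zero_ne_one hqn
    by_cases hprim : ∀ i : ℕ, 1 ≤ i → i < n → ¬ s ∣ q ^ i - 1
    · obtain ⟨hle, hsq⟩ := hnone s hs hsd hprim
      have hord : orderOf (q : ZMod s) = n := by
        refine Nat.le_antisymm (Nat.le_of_dvd (by omega) (orderOf_dvd_of_pow_eq_one hqn)) ?_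
        by_contra hlt
        have hpos : 0 < orderOf (q : ZMod s) :=
          orderOf_pos_iff.2 (isOfFinOrder_iff_pow_eq_one.2 ⟨n, by omega, hqn⟩)
        apply hprim _ hpos (not_le.1 hlt)
        rw [← ZMod.natCast_eq_zero_iff, Nat.cast_sub (Nat.one_le_pow _ _ (by omega)), Nat.cast_pow,
          pow_orderOf_eq_one, Nat.cast_one, sub_self]
      have h1 : n ∣ s - 1 :=
        hord ▸ ZMod.orderOf_dvd_card_sub_one (fun h => hsq0 ((ZMod.natCast_eq_zero_iff _ _).1 h))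
      have hs2 := hs.two_le
      have h2 := Nat.le_of_dvd (by omega) h1
      have hsn : s = n + 1 := by omega
      refine ⟨hsn ▸ Dvd.intro_left n rfl, fun h => hsq ?_⟩
      rw [pow_two]
      exact h.trans hMdvd
    push Not at hprim
    obtain ⟨i, hi1, hin, hi⟩ := hprim
    have hioi : (q : ZMod s) ^ i = 1 := by
      have h := (ZMod.natCast_eq_zero_iff _ _).2 hi
      rwa [Nat.cast_sub (Nat.one_le_pow _ _ (by omega)), sub_eq_zero, Nat.cast_pow, Nat.cast_one] at h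
    have hsM' : (s : ℤ) ∣ Φ := hM ▸ Int.natCast_dvd_natCast.2 hsM
    by_cases hs2 : s = 2
    · subst hs2
      obtain ⟨k, m, hm, rfl⟩ := Nat.exists_eq_two_pow_mul_odd (n := n) (by omega)
      haveI : NeZero (m : ZMod 2) := ⟨by
        rw [ne_eq, ZMod.natCast_eq_zero_iff]; exact hm.not_two_dvd_nat⟩
      have hroot : (cyclotomic (2 ^ k * m) (ZMod 2)).IsRoot (q : ZMod 2) := by
        rw [IsRoot, ← map_cyclotomic_int, ← Int.cast_natCast (R := ZMod 2),
          eval_intCast_map, eq_intCast, ZMod.intCast_zmod_eq_zero_iff_dvd]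
        exact_mod_cast hsM'
      rw [isRoot_cyclotomic_prime_pow_mul_iff_of_charP] at hroot
      have hq1 : (q : ZMod 2) = 1 := (zmod_two _).resolve_left fun e => hsq0 ((ZMod.natCast_eq_zero_iff _ _).1 e)
      rw [hq1] at hroot
      obtain rfl : m = 1 := hroot.eq_orderOf.trans orderOf_one
      obtain ⟨k, rfl⟩ : ∃ j, k = j + 2 := by
        rcases k with _ | _ | j
        · simp at hn
        · simp at hn
        · exact ⟨j, rfl⟩
      refine ⟨((dvd_pow_self 2 (k + 1).succ_ne_zero).mul_right _).mul_right _, fun h4 => ?_⟩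
      have hev : Φ = ((q : ℤ) ^ (2 ^ k)) ^ 2 + 1 := by
        simp only [hΦ, mul_one, cyclotomic_prime_pow_eq_geom_sum Nat.prime_two, Finset.sum_range_succ,
          Finset.sum_range_zero, pow_zero, pow_one, zero_add, eval_add, eval_one, eval_pow, eval_X]
        rw [pow_succ 2 k, pow_mul, add_comm]
      have h5 : ((M : ℤ) : ZMod 4) = 0 := by
        rw [Int.cast_natCast, ZMod.natCast_eq_zero_iff]; exact h4
      rw [← hM, hev] at h5
      push_cast at h5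
      exact zmod_four _ h5
    obtain ⟨j, hj⟩ := (Cfsg.Agent.S4230.result s q n hs hs2 hsq0).1 hsM'
    obtain ⟨j, rfl⟩ : ∃ t, j = t + 1 := by
      rcases j with _ | t
      · rw [pow_zero, mul_one] at hj
        have := Nat.le_of_dvd hi1 (orderOf_dvd_of_pow_eq_one hioi)
        omega
      · exact ⟨t, rfl⟩
    set e := orderOf (q : ZMod s) with he
    have he0 : 0 < e := by
      rcases Nat.eq_zero_or_pos e with h | h
      · rw [h, zero_mul] at hj; omega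
      · exact h
    refine ⟨(hj ▸ (dvd_pow_self s j.succ_ne_zero).mul_left e).mul_right _, fun h => ?_⟩
    set x : ℤ := (q : ℤ) ^ (e * s ^ j) with hx
    have hd : e * s ^ j ∈ n.properDivisors := by
      rw [Nat.mem_properDivisors]
      refine ⟨⟨s, by rw [hj, pow_succ, mul_assoc]⟩, ?_⟩
      rw [hj, pow_succ, ← mul_assoc]
      exact lt_mul_of_one_lt_right (by have := hs.pos; positivity) hs.one_lt
    have h1 := eval_dvd (x := (q : ℤ)) (X_pow_sub_one_mul_cyclotomic_dvd_X_pow_sub_one_of_dvd ℤ hd)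
    simp only [eval_mul, eval_sub, eval_pow, eval_X, eval_one] at h1
    rw [show (q : ℤ) ^ n = x ^ s by rw [hx, ← pow_mul, hj, pow_succ, mul_assoc],
      ← geom_sum_mul x s, mul_comm _ (x - 1)] at h1
    have hx1 : x - 1 ≠ 0 := by
      have : 1 < x := one_lt_pow₀ (by exact_mod_cast hq) (by have := hs.pos; positivity)
      omega
    have h2 : Φ ∣ ∑ i ∈ Finset.range s, x ^ i := (mul_dvd_mul_iff_left hx1).1 h1
    have hxr : (s : ℤ) ∣ x - 1 := by
      rw [← ZMod.intCast_zmod_eq_zero_iff_dvd, hx]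
      push_cast
      rw [pow_mul, he, pow_orderOf_eq_one, one_pow, sub_self]
    obtain ⟨t, ht⟩ := hxr
    have h4 := odd_sq_dvd_geom_sum₂_sub (a := (1 : ℤ)) (b := t) (p := s) (hs.odd_of_ne_two hs2)
    rw [show (1 : ℤ) + s * t = x by rw [← ht]; ring] at h4
    simp only [one_pow, mul_one] at h4
    have h' : (s : ℤ) ^ 2 ∣ Φ := by rw [hM, pow_two]; exact_mod_cast h
    have h5 := Int.dvd_sub (h'.trans h2) h4
    rw [sub_sub_cancel] at h5
    have h6 : s ^ 2 ∣ s := by exact_mod_cast h5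
    have := Nat.le_of_dvd hs.pos h6
    have := hs.two_le
    nlinarith
  have hsqf : Squarefree M := Nat.squarefree_iff_prime_squarefree.2 fun s hs h =>
    (key s hs (dvd_trans (dvd_mul_right s s) h)).2 h
  have hdvd : M ∣ n * (n + 1) := by
    rw [← Nat.prod_primeFactors_of_squarefree hsqf]
    refine Finset.prod_primes_dvd _ (fun s hs => (Nat.prime_of_mem_primeFactors hs).prime) fun s hs => ?_
    exact (key s (Nat.prime_of_mem_primeFactors hs) (Nat.dvd_of_mem_primeFactors hs)).1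
  have h := phi_lower n q (by omega) hq
  rw [← cast_eval, ← hΦ, hM] at h
  push_cast at h
  have h' : q ^ n.totient ≤ 4 * M := by exact_mod_cast h
  exact h'.trans (Nat.mul_le_mul_left 4 (Nat.le_of_dvd (by positivity) hdvd))


/-- Let q, n ≥ 2 be integers. Unless (n = 2 and q + 1 = 2^s·3^t for some s ≥ 0 and t ≤ 1), or (q = 2 and n ∈ {4, 6, 10, 12, 18}), or (q = 3 and n ∈ {4, 6}), or (q, n) = (5, 6), there is a prime p dividing q^n − 1 but no q^i − 1 with 1 ≤ i < n (a primitive prime divisor), such that p > n + 1 or p² divides q^n − 1. -/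
theorem result (q n : ℕ) (hq : 2 ≤ q) (hn : 2 ≤ n)
    (h1 : ¬ (n = 2 ∧ ∃ s t : ℕ, t ≤ 1 ∧ q + 1 = 2 ^ s * 3 ^ t))
    (h2 : ¬ (q = 2 ∧ (n = 4 ∨ n = 6 ∨ n = 10 ∨ n = 12 ∨ n = 18)))
    (h3 : ¬ (q = 3 ∧ (n = 4 ∨ n = 6))) (h4 : ¬ (q = 5 ∧ n = 6)) :
    ∃ p : ℕ, p.Prime ∧ p ∣ q ^ n - 1 ∧ (∀ i : ℕ, 1 ≤ i → i < n → ¬ p ∣ q ^ i - 1) ∧ (n + 1 < p ∨ p ^ 2 ∣ q ^ n - 1) := by
  by_cases hn2 : n = 2
  · subst hn2
    have hfac : q ^ 2 - 1 = (q + 1) * (q - 1) := by
      rw [show (1 : ℕ) = 1 ^ 2 from rfl, Nat.sq_sub_sq, one_pow]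
    have h1' : ∀ s t : ℕ, t ≤ 1 → q + 1 ≠ 2 ^ s * 3 ^ t := fun s t ht he => h1 ⟨rfl, s, t, ht, he⟩
    have hp' : ∀ p : ℕ, p.Prime → 2 < p → p ∣ q + 1 → ∀ i : ℕ, 1 ≤ i → i < 2 → ¬ p ∣ q ^ i - 1 := by
      intro p hp hp2 hd i hi1 hi2 h
      obtain rfl : i = 1 := by omega
      rw [pow_one] at h
      have h3 : p ∣ (q + 1) - (q - 1) := Nat.dvd_sub hd h
      rw [show (q + 1) - (q - 1) = 2 by omega] at h3
      have := Nat.le_of_dvd (by norm_num) h3
      omega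
    by_cases hbig : ∃ p : ℕ, p.Prime ∧ p ∣ q + 1 ∧ 3 < p
    · obtain ⟨p, hp, hd, h3⟩ := hbig
      exact ⟨p, hp, hfac ▸ hd.mul_right _, hp' p hp (by omega) hd, Or.inl h3⟩
    push Not at hbig
    by_cases h9 : 9 ∣ q + 1
    · exact ⟨3, Nat.prime_three, hfac ▸ (Dvd.dvd.trans (by norm_num) h9).mul_right _,
        hp' 3 Nat.prime_three (by norm_num) (Dvd.dvd.trans (by norm_num) h9),
        Or.inr (hfac ▸ h9.mul_right _)⟩
    exfalso
    obtain ⟨s, m, hm, hsm⟩ := Nat.exists_eq_two_pow_mul_odd (n := q + 1) (by omega)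
    have hm0 : m ≠ 0 := fun h => by subst h; simp at hm
    have hm3 : ∀ {d : ℕ}, d.Prime → d ∣ m → d = 3 := by
      intro d hd hdm
      have := hbig d hd (hsm ▸ hdm.mul_left _)
      have := hd.two_le
      have : d ≠ 2 := fun h => hm.not_two_dvd_nat (h ▸ hdm)
      omega
    have hmp := Nat.eq_prime_pow_of_unique_prime_dvd hm0 hm3
    refine h1' s m.primeFactorsList.length ?_ (by rw [← hmp]; exact hsm)
    by_contra ht
    exact h9 (hsm ▸ ((pow_dvd_pow 3 (show 2 ≤ _ by omega)).trans (dvd_of_eq hmp.symm)).mul_left _)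
  have hexc : ¬ Exc n q := by
    rintro (h | h | h)
    exacts [h2 h, h3 h, h4 h]
  by_contra hnone
  refine hnone (finite_case n q (by omega) hq hexc (value_small n q (by omega) hq fun p hp hd hi => ?_))
  refine ⟨?_, fun h => hnone ⟨p, hp, hd, hi, Or.inr h⟩⟩
  by_contra h
  exact hnone ⟨p, hp, hd, hi, Or.inl (by omega)⟩

end Cfsg.Agent.S3430
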