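import Cfsg.Statements.S3431
import Cfsg.Agent.Lib.Recog.SameOrderCounts
import Cfsg.Agent.Lib.Small.Order360
import Cfsg.Agent.S0494
-- import your own Cfsg.Agent.* helpers here

set_option autoImplicit false
set_option linter.style.haveILetI false
set_option maxHeartbeats 4000000
open Cfsg

namespace Cfsg.Agent.S3431

open Cfsg.Lib.Recog.SameOrderCounts Subgroup

universe u

/-- The counts that occur are exactly the listed numbers. -/
def Counts (G : Type u) [Group G] (l : List ℕ) : Prop :=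
  (∀ m, cnt G m ≠ 0 → cnt G m ∈ l) ∧ ∀ v ∈ l, ∃ m, cnt G m = v

theorem cnt_eq_filter (K : Type u) [Group K] [Fintype K] [DecidableEq K] {m : ℕ} (hm : 0 < m) :
    cnt K m = (Finset.univ.filter fun g : K => g ^ m = 1 ∧ ∀ d, d < m → 0 < d → g ^ d ≠ 1).card := by
  rw [cnt, Nat.card_eq_fintype_card, Fintype.card_subtype]
  exact congrArg Finset.card (Finset.filter_congr fun g _ => orderOf_eq_iff hm)

theorem orderOf_mem {K : Type u} [Group K] {g : K} {D : Finset ℕ} (hD : ∀ m ∈ D, 0 < m)
    (h : ∃ m ∈ D, g ^ m = 1 ∧ ∀ d, d < m → 0 < d → g ^ d ≠ 1) : orderOf g ∈ D := by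
  obtain ⟨m, hm, h'⟩ := h
  rwa [(orderOf_eq_iff (hD m hm)).mpr h']

/-- Transport of the hypothesis to a list of numbers. -/
theorem counts_of_eq {G : Type u} [Group G] [Finite G] {K : Type} [Group K] [Finite K]
    (h : ((fun m : ℕ => Nat.card {g : G // orderOf g = m}) '' Set.range (orderOf : G → ℕ)) =
      ((fun m : ℕ => Nat.card {g : K // orderOf g = m}) '' Set.range (orderOf : K → ℕ)))
    (D : Finset ℕ) (hD : ∀ g : K, orderOf g ∈ D) (l : List ℕ) (hl : ∀ m ∈ D, cnt K m ∈ l)
    (hl' : ∀ v ∈ l, v ≠ 0 ∧ ∃ m ∈ D, cnt K m = v) : Counts G l := by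
  constructor
  · intro m hm
    obtain ⟨g, hg⟩ := cnt_ne_zero_iff.mp hm
    have : cnt G m ∈ (fun m : ℕ => cnt G m) '' Set.range (orderOf : G → ℕ) := ⟨m, ⟨g, hg⟩, rfl⟩
    obtain ⟨m', ⟨k, hk⟩, e⟩ := h ▸ this
    exact (show cnt K m' = cnt G m from e) ▸ hl m' (hk ▸ hD k)
  · intro v hv
    obtain ⟨hv0, m, -, hmv⟩ := hl' v hv
    obtain ⟨k, hk⟩ := cnt_ne_zero_iff.mp (hmv.symm ▸ hv0)
    obtain ⟨m', -, e⟩ : v ∈ (fun m : ℕ => cnt G m) '' Set.range (orderOf : G → ℕ) :=
      h.symm ▸ (⟨m, ⟨k, hk⟩, hmv⟩ : v ∈ (fun m : ℕ => cnt K m) '' Set.range (orderOf : K → ℕ))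
    exact ⟨m', e⟩

section
variable {G : Type u} [Group G] [Finite G] {l : List ℕ} (h : Counts G l)
include h

theorem vals (m : ℕ) : cnt G m = 0 ∨ (cnt G m ∈ l ∧ m.totient ∣ cnt G m) := by
  by_cases h0 : cnt G m = 0
  · exact Or.inl h0
  · exact Or.inr ⟨h.1 m h0, totient_dvd m⟩

/-- The possible counts at a given order. -/
theorem tight (m : ℕ) (l' : List ℕ) (hl : ∀ v ∈ l, m.totient ∣ v → v ∈ l') :
    cnt G m = 0 ∨ cnt G m ∈ l' :=
  (vals h m).imp_right fun hv => hl _ hv.1 hv.2

theorem tight_zero (m : ℕ) (hl : ∀ v ∈ l, ¬ m.totient ∣ v) : cnt G m = 0 :=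
  (vals h m).resolve_right fun hv => hl _ hv.1 hv.2

/-- An odd count other than one is that of the involutions. -/
theorem cnt_two {v : ℕ} (hv : v ∈ l) (hodd : Odd v) (h1 : v ≠ 1) : cnt G 2 = v := by
  obtain ⟨m, hm⟩ := h.2 v hv
  have hm0 : cnt G m ≠ 0 := hm.symm ▸ hodd.pos.ne'
  rcases lt_trichotomy m 2 with hlt | rfl | hgt
  · interval_cases m
    · exact absurd cnt_zero hm0
    · exact absurd (cnt_one (G := G)) (hm.symm ▸ h1)
  · exact hm
  · have h2 := (Nat.totient_even hgt).two_dvd.trans (totient_dvd (G := G) m)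
    rw [hm] at h2
    obtain ⟨j, rfl⟩ := hodd
    omega

end

/-! ### Degree four -/

theorem four {G : Type u} [Group G] [Finite G] (h : Counts G [1, 3, 8]) :
    Nonempty (G ≃* ↥(alternatingGroup (Fin 4))) := by
  classical
  haveI : Fact (Nat.Prime 3) := ⟨Nat.prime_three⟩
  have n1 : cnt G 1 = 1 := cnt_one
  have n2 : cnt G 2 = 3 := cnt_two h (v := 3) (by simp) (by decide) (by norm_num)
  have v3 := vals h 3
  have v4 := vals h 4
  have v8 := vals h 8
  have v9 := vals h 9
  have v6 := vals h 6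
  simp [show Nat.totient 3 = 2 from rfl, show Nat.totient 4 = 2 from rfl, show Nat.totient 8 = 4 from rfl,
    show Nat.totient 9 = 6 from rfl, show Nat.totient 6 = 2 from rfl] at v3 v4 v8 v9 v6
  have hp : ∀ p : ℕ, p.Prime → cnt G p ≠ 0 → p = 2 ∨ p = 3 := by
    intro p hp hne
    rcases eq_or_ne p 2 with rfl | hp2
    · exact Or.inl rfl
    have h1 := prime_dvd_succ hp hne
    have h2 : (Nat.totient p) ∣ cnt G p := totient_dvd p
    rw [Nat.totient_prime hp] at h2
    have h3 := hp.two_le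
    rcases List.mem_cons.mp (h.1 p hne) with e | e
    · rw [e] at h2; have := Nat.le_of_dvd one_pos h2; omega
    rcases List.mem_cons.mp e with e | e
    · rw [e] at h2; have := Nat.le_of_dvd (by norm_num) h2; have : p ≤ 4 := by omega
      interval_cases p <;> norm_num at *
    · rw [List.mem_singleton] at e
      rw [e] at h1 h2; have := Nat.le_of_dvd (by norm_num) h1; interval_cases p <;> norm_num at *
  have z8 : cnt G 8 = 0 := by
    by_contra hne
    have hs := dvd_sum_of_ne hne
    rw [show Nat.divisors 8 = {1, 2, 4, 8} from by decide] at hs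
    simp at hs
    have h4 := cnt_ne_zero_of_dvd (G := G) (show 4 ∣ 8 by norm_num) hne
    omega
  have z9 : cnt G 9 = 0 := by
    by_contra hne
    have hs := dvd_sum_of_ne hne
    rw [show Nat.divisors 9 = {1, 3, 9} from by decide] at hs
    simp at hs
    have h3 := cnt_ne_zero_of_dvd (G := G) (show 3 ∣ 9 by norm_num) hne
    omega
  have z6 : cnt G 6 = 0 := by
    by_contra hne
    have hs := dvd_sum_of_ne hne
    rw [show Nat.divisors 6 = {1, 2, 3, 6} from by decide] at hs
    simp at hs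
    have h3 := cnt_ne_zero_of_dvd (G := G) (show 3 ∣ 6 by norm_num) hne
    omega
  have hD : ∀ g : G, orderOf g ∈ ({1, 2, 3, 4} : Finset ℕ) := by
    intro g
    have h12 : orderOf g ∣ 12 := dvd_of_bounds fun p hp' hd => by
      rcases hp p hp' (cnt_ne_zero_of_dvd hd (cnt_self g)) with rfl | rfl
      · exact ⟨2, by norm_num, not_dvd_orderOf z8 g⟩
      · exact ⟨1, by norm_num, not_dvd_orderOf z9 g⟩
    have h6 := not_dvd_orderOf z6 g
    have := Nat.le_of_dvd (by norm_num) h12
    interval_cases hm : orderOf g <;> simp_all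
  have hG := card_eq_sum _ hD
  simp at hG
  have h8 : cnt G 3 = 8 ∨ cnt G 4 = 8 := by
    obtain ⟨m, hm⟩ := h.2 8 (by simp)
    obtain ⟨g, hg⟩ := cnt_ne_zero_iff.mp (by rw [hm]; norm_num : cnt G m ≠ 0)
    have := hD g
    simp [hg] at this
    rcases this with rfl | rfl | rfl | rfl <;> omega
  have h5 : ¬ 5 ∣ Nat.card G := fun hd => by
    rcases hp 5 (by norm_num) (cnt_prime (by norm_num) hd) with e | e <;> norm_num at e
  have hc : Nat.card G = 12 := by omega
  have h3 : cnt G 3 = 8 := by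
    have := cnt_prime (G := G) Nat.prime_three (by omega)
    omega
  have hP : ∀ P : Sylow 3 G, Nat.card (P : Subgroup G) = 3 := fun P => by
    rw [Cfsg.Lib.Small.card_sylow 1 4 (by rw [hc]; norm_num) (by norm_num) P]; norm_num
  have hn : Nat.card (Sylow 3 G) = 4 := by
    have := Cfsg.Lib.Small.card_orderOf_eq hP
    change cnt G 3 = _ at this
    omega
  let φ : G →* Equiv.Perm (Sylow 3 G) := MulAction.toPermHom G (Sylow 3 G)
  have hφ : Function.Injective φ := by
    rw [injective_iff_map_eq_one]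
    intro g hg
    have hfix : ∀ P : Sylow 3 G, g ∈ (P : Subgroup G) := by
      intro P
      have h1 : g • P = P := congrArg (fun e : Equiv.Perm (Sylow 3 G) => e P) hg
      have h2 := Sylow.smul_eq_iff_mem_normalizer.mp h1
      have h3 := Cfsg.Lib.Small.card_normalizer_mul P
      rw [hn, hc] at h3
      rw [eq_of_le_of_card_ge (le_normalizer (H := (P : Subgroup G))) (by rw [hP]; omega)]
      exact h2
    by_contra hg1
    have hsub : Subsingleton (Sylow 3 G) := ⟨fun P Q => Sylow.ext (by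
      rw [← Cfsg.Lib.Small.zpowers_eq_of_prime_card (hP P) (hfix P) hg1,
        ← Cfsg.Lib.Small.zpowers_eq_of_prime_card (hP Q) (hfix Q) hg1])⟩
    rw [Nat.card_eq_one_iff_unique.mpr ⟨hsub, inferInstance⟩] at hn
    norm_num at hn
  haveI := Fintype.ofFinite (Sylow 3 G)
  have hidx : φ.range.index = 2 := by
    have h1 := φ.range.index_mul_card
    rw [Nat.card_perm, hn, ← Nat.card_congr (MonoidHom.ofInjective hφ).toEquiv, hc, show Nat.factorial 4 = 24 from rfl] at h1
    omega
  have e : Sylow 3 G ≃ Fin 4 := Finite.equivFinOfCardEq hn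
  exact ⟨((MonoidHom.ofInjective hφ).trans (MulEquiv.subgroupCongr
    (Equiv.Perm.eq_alternatingGroup_of_index_eq_two hidx))).trans (Equiv.altCongrHom e)⟩

/-! ### Simplicity in degrees five and six -/

theorem five_dvd_mem {G : Type u} [Group G] [Finite G] {N : Subgroup G} [N.Normal] {m : ℕ}
    (hco : m.Coprime N.index) : ∀ g : G, orderOf g = m → g ∈ N := fun _ hg =>
  mem_of_coprime (hg.symm ▸ hco)

theorem simple_sixty {G : Type u} [Group G] [Finite G] (hc : Nat.card G = 60) (h5 : cnt G 5 = 24)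
    (h3 : cnt G 3 = 20) (hC : ∀ y : G, orderOf y = 5 → centralizer ({y} : Set G) ≤ zpowers y) :
    IsSimpleGroup G := by
  haveI : Fact (Nat.Prime 5) := ⟨by norm_num⟩
  haveI : Nontrivial G := Finite.one_lt_card_iff_nontrivial.mp (by rw [hc]; norm_num)
  obtain ⟨y, hy⟩ := cnt_ne_zero_iff.mp (by rw [h5]; norm_num : cnt G 5 ≠ 0)
  refine ⟨fun N hN => ?_⟩
  have hmul := N.index_mul_card
  rw [hc] at hmul
  have hd : Nat.card N ∣ 60 := Dvd.intro_left _ hmul
  by_cases hN5 : 5 ∣ Nat.card N
  · right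
    obtain ⟨a, ha⟩ := hN5
    have hia : N.index * a = 12 := by rw [ha] at hmul; linarith
    have hs5 := sum_le_card N {1, 5} fun g hg => by
      refine mem_of_coprime ?_
      simp only [Finset.mem_insert, Finset.mem_singleton] at hg
      have hi : N.index ∣ 12 := Dvd.intro _ hia
      rcases hg with e | e <;> rw [e]
      · exact Nat.coprime_one_left _
      · exact Nat.Coprime.coprime_dvd_right hi (by norm_num)
    simp [cnt_one, h5] at hs5
    have ha5 : 5 ≤ a := by omega
    have hi2 : N.index ≤ 2 := by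
      by_contra hlt
      have : 3 * 5 ≤ N.index * a := Nat.mul_le_mul (by omega) ha5
      omega
    have hi0 : N.index ≠ 0 := index_ne_zero_of_finite
    have hs := sum_le_card N {1, 3, 5} fun g hg => by
      refine mem_of_coprime ?_
      simp only [Finset.mem_insert, Finset.mem_singleton] at hg
      rcases (show N.index = 1 ∨ N.index = 2 by omega) with hh | hh <;> rw [hh] <;>
        rcases hg with e | e | e <;> rw [e] <;> norm_num
    simp [cnt_one, h5, h3] at hs
    rw [← index_eq_one]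
    interval_cases hh : N.index <;> omega
  · left
    haveI := hN
    obtain ⟨hmod, -⟩ := fpf_counts hy (hC y hy) N hN5
    have h12 : Nat.card N ∣ 12 :=
      ((Nat.prime_five.coprime_iff_not_dvd.mpr hN5).symm).dvd_of_dvd_mul_left (show Nat.card N ∣ 5 * 12 from hd)
    rw [← Subgroup.card_eq_one]
    have hle := Nat.le_of_dvd (by norm_num) h12
    by_contra h1
    have h6 : Nat.card N = 6 := by
      interval_cases hh : Nat.card N <;> norm_num at *
    rw [h6] at hmul
    have hs := sum_le_card N {1, 3} fun g hg => by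
      refine mem_of_coprime ?_
      simp only [Finset.mem_insert, Finset.mem_singleton] at hg
      rcases hg with e | e <;> rw [e, show N.index = 10 by omega] <;> norm_num
    simp [cnt_one, h3] at hs
    omega

theorem simple_360 {G : Type u} [Group G] [Finite G] (hc : Nat.card G = 360) (h5 : cnt G 5 = 144)
    (h3 : cnt G 3 = 80) (hC : ∀ y : G, orderOf y = 5 → centralizer ({y} : Set G) ≤ zpowers y) :
    IsSimpleGroup G := by
  haveI : Fact (Nat.Prime 5) := ⟨by norm_num⟩
  haveI : Nontrivial G := Finite.one_lt_card_iff_nontrivial.mp (by rw [hc]; norm_num)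
  obtain ⟨y, hy⟩ := cnt_ne_zero_iff.mp (by rw [h5]; norm_num : cnt G 5 ≠ 0)
  refine ⟨fun N hN => ?_⟩
  have hmul := N.index_mul_card
  rw [hc] at hmul
  have hd : Nat.card N ∣ 360 := Dvd.intro_left _ hmul
  by_cases hN5 : 5 ∣ Nat.card N
  · right
    obtain ⟨a, ha⟩ := hN5
    have hia : N.index * a = 72 := by rw [ha] at hmul; linarith
    have hs5 := sum_le_card N {1, 5} fun g hg => by
      refine mem_of_coprime ?_
      simp only [Finset.mem_insert, Finset.mem_singleton] at hg
      have hi : N.index ∣ 72 := Dvd.intro _ hia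
      rcases hg with e | e <;> rw [e]
      · exact Nat.coprime_one_left _
      · exact Nat.Coprime.coprime_dvd_right hi (by norm_num)
    simp [cnt_one, h5] at hs5
    have ha5 : 29 ≤ a := by omega
    have hi2 : N.index ≤ 2 := by
      by_contra hlt
      have : 3 * 29 ≤ N.index * a := Nat.mul_le_mul (by omega) ha5
      omega
    have hi0 : N.index ≠ 0 := index_ne_zero_of_finite
    have hs := sum_le_card N {1, 3, 5} fun g hg => by
      refine mem_of_coprime ?_
      simp only [Finset.mem_insert, Finset.mem_singleton] at hg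
      rcases (show N.index = 1 ∨ N.index = 2 by omega) with hh | hh <;> rw [hh] <;>
        rcases hg with e | e | e <;> rw [e] <;> norm_num
    simp [cnt_one, h5, h3] at hs
    rw [← index_eq_one]
    interval_cases hh : N.index <;> omega
  · left
    haveI := hN
    obtain ⟨hmod, hcnt⟩ := fpf_counts hy (hC y hy) N hN5
    have h72 : Nat.card N ∣ 72 :=
      ((Nat.prime_five.coprime_iff_not_dvd.mpr hN5).symm).dvd_of_dvd_mul_left (show Nat.card N ∣ 5 * 72 from hd)
    rw [← Subgroup.card_eq_one]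
    have hle := Nat.le_of_dvd (by norm_num) h72
    by_contra h1
    have h6 : Nat.card N = 6 ∨ Nat.card N = 36 := by
      interval_cases hh : Nat.card N <;> norm_num at *
    rcases h6 with h6 | h36
    · have hD : ∀ g : N, orderOf g ∈ ({1, 2, 3, 6} : Finset ℕ) := fun g => by
        rw [← show Nat.divisors 6 = {1, 2, 3, 6} from by decide, Nat.mem_divisors]
        exact ⟨h6 ▸ orderOf_dvd_natCard g, by norm_num⟩
      have hs := card_eq_sum _ hD
      simp [cnt_one, h6] at hs
      haveI : Fact (Nat.Prime 3) := ⟨Nat.prime_three⟩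
      have hne := cnt_prime (G := N) Nat.prime_three (by rw [h6]; norm_num)
      have h2 : (2 : ℕ) ∣ cnt N 3 := totient_dvd 3
      have := hcnt 3 (by norm_num)
      omega
    · rw [h36] at hmul
      have hs := sum_le_card N {1, 3} fun g hg => by
        refine mem_of_coprime ?_
        simp only [Finset.mem_insert, Finset.mem_singleton] at hg
        rcases hg with e | e <;> rw [e, show N.index = 10 by omega] <;> norm_num
      simp [cnt_one, h3] at hs
      omega

/-! ### Degree five -/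

section
variable {G : Type u} [Group G] [Finite G] (h : Counts G [1, 15, 20, 24])
include h

theorem five_n2 : cnt G 2 = 15 := cnt_two h (v := 15) (by simp) (by decide) (by norm_num)

theorem five_primes : ∀ p : ℕ, p.Prime → cnt G p ≠ 0 → p = 2 ∨ p = 3 ∨ p = 5 := by
  intro p hp hne
  rcases eq_or_ne p 2 with rfl | hp2
  · exact Or.inl rfl
  have h1 := prime_dvd_succ hp hne
  have h2 : (Nat.totient p) ∣ cnt G p := totient_dvd p
  rw [Nat.totient_prime hp] at h2
  have h3 := hp.two_le
  have hm := h.1 p hne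
  simp only [List.mem_cons, List.not_mem_nil, or_false] at hm
  rcases hm with e | e | e | e <;> rw [e] at h1 h2 <;> have := Nat.le_of_dvd (by norm_num) h1 <;>
    interval_cases p <;> norm_num at *

theorem five_a3 (hne : cnt G 3 ≠ 0) : cnt G 3 = 20 := by
  have := prime_dvd_succ Nat.prime_three hne
  have := tight h 3 [20, 24] (by decide +kernel)
  simp at this
  omega

theorem five_a5 (hne : cnt G 5 ≠ 0) : cnt G 5 = 24 := by
  have := prime_dvd_succ Nat.prime_five hne
  have := tight h 5 [20, 24] (by decide +kernel)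
  simp at this
  omega

theorem five_z27 : cnt G 27 = 0 := tight_zero h 27 (by decide +kernel)

theorem five_z32 : cnt G 32 = 0 := tight_zero h 32 (by decide +kernel)

theorem five_z9 : cnt G 9 = 0 := by
  haveI : Fact (Nat.Prime 3) := ⟨Nat.prime_three⟩
  have n1 : cnt G 1 = 1 := cnt_one
  have z27 := five_z27 h
  have v9 := tight h 9 [24] (by decide +kernel)
  simp at v9
  by_contra hne
  have h3 := five_a3 h (cnt_ne_zero_of_dvd (show 3 ∣ 9 by norm_num) hne)
  obtain ⟨P⟩ : Nonempty (Sylow 3 G) := inferInstance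
  have h1 := sylow_dvd_sum (k := 2) (by simpa using z27) P
  simp [Finset.sum_range_succ, n1, h3] at h1
  obtain ⟨x, hx⟩ := cnt_ne_zero_iff.mp hne
  obtain ⟨j, hj⟩ := IsPGroup.iff_card.mp P.isPGroup'
  have h2 : 3 ^ 2 ∣ Nat.card (P : Subgroup G) := P.pow_dvd_card_of_pow_dvd_card (by
    simpa using dvd_card hne)
  have h9 : Nat.card (P : Subgroup G) = 3 ^ 2 := by
    rw [show cnt G 9 = 24 by omega] at h1
    rw [hj] at h1 h2 ⊢
    have hj5 : 3 ^ j ≤ 45 := Nat.le_of_dvd (by norm_num) (by simpa using h1)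
    rw [Nat.pow_dvd_pow_iff_le_right (by norm_num)] at h2
    rcases Nat.lt_or_ge j 4 with hlt | hge
    · interval_cases j <;> norm_num at *
    · have := Nat.pow_le_pow_right (show 0 < 3 by norm_num) hge; omega
  have := cyclic_bound (k := 1) (by simpa using hx) P h9
  simp at this
  omega

theorem five_hP3 (hne : cnt G 3 ≠ 0) (P : Sylow 3 G) [Fact (Nat.Prime 3)] : Nat.card (P : Subgroup G) = 3 := by
  have n1 : cnt G 1 = 1 := cnt_one
  have z9 := five_z9 h
  have h1 := sylow_dvd_sum (k := 1) (by simpa using z9) P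
  simp [Finset.sum_range_succ, n1, five_a3 h hne] at h1
  obtain ⟨j, hj⟩ := IsPGroup.iff_card.mp P.isPGroup'
  have h2 : 3 ^ 1 ∣ Nat.card (P : Subgroup G) := P.pow_dvd_card_of_pow_dvd_card (by
    simpa using dvd_card hne)
  rw [hj] at h1 h2 ⊢
  have := Nat.le_of_dvd (by norm_num) h1
  rcases Nat.lt_or_ge j 3 with hlt | hge
  · interval_cases j <;> norm_num at *
  · have := Nat.pow_le_pow_right (show 0 < 3 by norm_num) hge; omega

theorem five_z25 : cnt G 25 = 0 := by
  have n1 : cnt G 1 = 1 := cnt_one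
  have v25 := tight h 25 [20] (by decide +kernel)
  simp at v25
  by_contra hne
  have h5 := five_a5 h (cnt_ne_zero_of_dvd (show 5 ∣ 25 by norm_num) hne)
  have hs := dvd_sum_of_ne hne
  rw [show Nat.divisors 25 = {1, 5, 25} from by decide] at hs
  simp at hs
  omega

theorem five_z15 : cnt G 15 = 0 := by
  have n1 : cnt G 1 = 1 := cnt_one
  have v15 := tight h 15 [24] (by decide +kernel)
  simp at v15
  by_contra hne
  have h5 := five_a5 h (cnt_ne_zero_of_dvd (show 5 ∣ 15 by norm_num) hne)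
  have h3 := five_a3 h (cnt_ne_zero_of_dvd (show 3 ∣ 15 by norm_num) hne)
  have hs := dvd_sum_of_ne hne
  rw [show Nat.divisors 15 = {1, 3, 5, 15} from by decide] at hs
  simp at hs
  omega

theorem five_z6 : cnt G 6 = 0 := by
  haveI : Fact (Nat.Prime 3) := ⟨Nat.prime_three⟩
  have n1 : cnt G 1 = 1 := cnt_one
  have n2 := five_n2 h
  have v6 := tight h 6 [20, 24] (by decide +kernel)
  simp at v6
  by_contra hne
  have h3ne := cnt_ne_zero_of_dvd (show 3 ∣ 6 by norm_num) hne
  have h3 := five_a3 h h3ne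
  have hs := dvd_sum_of_ne hne
  rw [show Nat.divisors 6 = {1, 2, 3, 6} from by decide] at hs
  simp at hs
  have hdv := cnt_dvd_cnt_mul (G := G) (p := 3) Nat.prime_two (by norm_num) (fun P => five_hP3 h h3ne P)
  simp [h3] at hdv
  omega

theorem five_a10 (hne : cnt G 10 ≠ 0) : cnt G 10 = 20 := by
  have n1 : cnt G 1 = 1 := cnt_one
  have n2 := five_n2 h
  have v10 := tight h 10 [20, 24] (by decide +kernel)
  simp at v10
  have h5 := five_a5 h (cnt_ne_zero_of_dvd (show 5 ∣ 10 by norm_num) hne)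
  have hs := dvd_sum_of_ne hne
  rw [show Nat.divisors 10 = {1, 2, 5, 10} from by decide] at hs
  simp at hs
  omega

theorem five_z20 : cnt G 20 = 0 := by
  have n1 : cnt G 1 = 1 := cnt_one
  have n2 := five_n2 h
  have v4 := tight h 4 [20, 24] (by decide +kernel)
  simp at v4
  have v20 := tight h 20 [24] (by decide +kernel)
  simp at v20
  by_contra hne
  have h5 := five_a5 h (cnt_ne_zero_of_dvd (show 5 ∣ 20 by norm_num) hne)
  have h10 := five_a10 h (cnt_ne_zero_of_dvd (show 10 ∣ 20 by norm_num) hne)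
  have h4 := cnt_ne_zero_of_dvd (show 4 ∣ 20 by norm_num) hne
  have hs := dvd_sum_of_ne hne
  rw [show Nat.divisors 20 = {1, 2, 4, 5, 10, 20} from by decide] at hs
  simp at hs
  omega

end

theorem five_arith_two {N k c4 c8 c16 : ℕ} (hN : N = 2 ^ k) (hs : N = 16 + c4 + c8 + c16)
    (h4 : c4 = 0 ∨ c4 = 20 ∨ c4 = 24) (h8 : c8 = 0 ∨ c8 = 20 ∨ c8 = 24) (h16 : c16 = 0 ∨ c16 = 24)
    (h20 : c4 = 20 ∨ c8 = 20) (h24 : c4 = 24 ∨ c8 = 24 ∨ c16 = 24) : False := by
  rcases Nat.lt_or_ge k 8 with hlt | hge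
  · interval_cases k <;> omega
  · have := Nat.pow_le_pow_right (show 0 < 2 by norm_num) hge
    omega

theorem five_arith_25 {N c4 c8 c10 c16 : ℕ} (hd : 25 ∣ N) (hs : N = 40 + c4 + c8 + c10 + c16)
    (h4 : c4 = 0 ∨ c4 = 20 ∨ c4 = 24) (h8 : c8 = 0 ∨ c8 = 20 ∨ c8 = 24) (h16 : c16 = 0 ∨ c16 = 24)
    (h10 : c10 = 0 ∨ c10 = 20) (e8 : c8 = 0 ∨ 8 ∣ N) (e16 : c16 = 0 ∨ 16 ∣ N) : False := by omega

theorem five {G : Type u} [Group G] [Finite G] (h : Counts G [1, 15, 20, 24]) :
    Nonempty (G ≃* ↥(alternatingGroup (Fin 5))) := by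
  classical
  haveI : Fact (Nat.Prime 2) := ⟨Nat.prime_two⟩
  haveI : Fact (Nat.Prime 3) := ⟨Nat.prime_three⟩
  haveI : Fact (Nat.Prime 5) := ⟨Nat.prime_five⟩
  have n1 : cnt G 1 = 1 := cnt_one
  have n2 := five_n2 h
  have hp := five_primes h
  have a3 := five_a3 h
  have a5 := five_a5 h
  have a10 := five_a10 h
  have z32 := five_z32 h
  have z9 := five_z9 h
  have z25 := five_z25 h
  have z15 := five_z15 h
  have z6 := five_z6 h
  have z20 := five_z20 h
  have hP3 : cnt G 3 ≠ 0 → ∀ P : Sylow 3 G, Nat.card (P : Subgroup G) = 3 := fun hne P => five_hP3 h hne P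
  have hD : ∀ g : G, orderOf g ∈ ({1, 2, 3, 4, 5, 8, 10, 16} : Finset ℕ) := by
    intro g
    have h240 : orderOf g ∣ 240 := dvd_of_bounds fun p hp' hd => by
      rcases hp p hp' (cnt_ne_zero_of_dvd hd (cnt_self g)) with rfl | rfl | rfl
      · exact ⟨4, by norm_num, not_dvd_orderOf z32 g⟩
      · exact ⟨1, by norm_num, not_dvd_orderOf z9 g⟩
      · exact ⟨1, by norm_num, not_dvd_orderOf z25 g⟩
    have h6 := not_dvd_orderOf z6 g
    have h15 := not_dvd_orderOf z15 g
    have h20 := not_dvd_orderOf z20 g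
    have hm : orderOf g ∈ Nat.divisors 240 := Nat.mem_divisors.mpr ⟨h240, by norm_num⟩
    have key : ∀ m ∈ Nat.divisors 240, ¬ 6 ∣ m → ¬ 15 ∣ m → ¬ 20 ∣ m →
        m ∈ ({1, 2, 3, 4, 5, 8, 10, 16} : Finset ℕ) := by decide +kernel
    exact key _ hm h6 h15 h20
  have hG := card_eq_sum _ hD
  simp [n1, n2] at hG
  have hocc : ∀ v, v ∈ [20, 24] → ∃ m ∈ ({3, 4, 5, 8, 10, 16} : Finset ℕ), cnt G m = v := by
    intro v hv
    have hv' : v ∈ [1, 15, 20, 24] := by simp at hv ⊢; tauto
    obtain ⟨m, hm⟩ := h.2 v hv'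
    have hv2 : v ≠ 0 ∧ v ≠ 1 ∧ v ≠ 15 := by simp at hv; omega
    obtain ⟨g, hg⟩ := cnt_ne_zero_iff.mp (hm.trans_ne hv2.1)
    have hmem := hg ▸ hD g
    simp at hmem ⊢
    rcases hmem with rfl | rfl | rfl | rfl | rfl | rfl | rfl | rfl <;> first | omega | tauto
  -- five divides the order
  have h5ne : cnt G 5 ≠ 0 := by
    intro h5
    have h10 := cnt_eq_zero_of_dvd (show 5 ∣ 10 by norm_num) h5
    by_cases h3 : cnt G 3 = 0
    · have v4 := tight h 4 [20, 24] (by decide +kernel)
      have v8 := tight h 8 [20, 24] (by decide +kernel)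
      have v16 := tight h 16 [24] (by decide +kernel)
      simp at v4 v8 v16
      have h20 : cnt G 4 = 20 ∨ cnt G 8 = 20 := by
        obtain ⟨m, hm, hv⟩ := hocc 20 (by simp)
        simp at hm
        rcases hm with rfl | rfl | rfl | rfl | rfl | rfl
        all_goals (first | exact Or.inl hv | exact Or.inr hv | omega)
      have h24 : cnt G 4 = 24 ∨ cnt G 8 = 24 ∨ cnt G 16 = 24 := by
        obtain ⟨m, hm, hv⟩ := hocc 24 (by simp)
        simp at hm
        rcases hm with rfl | rfl | rfl | rfl | rfl | rfl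
        all_goals (first | exact Or.inl hv | exact Or.inr (Or.inl hv) | exact Or.inr (Or.inr hv) | omega)
      obtain ⟨k, hk⟩ := IsPGroup.iff_card.mp (IsPGroup.iff_orderOf.mpr fun g => by
        have hmem := hD g
        simp only [Finset.mem_insert, Finset.mem_singleton] at hmem
        rcases hmem with e | e | e | e | e | e | e | e
        · exact ⟨0, e⟩
        · exact ⟨1, e⟩
        · exact absurd h3 (e ▸ cnt_self g)
        · exact ⟨2, e⟩
        · exact absurd h5 (e ▸ cnt_self g)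
        · exact ⟨3, e⟩
        · exact absurd h10 (e ▸ cnt_self g)
        · exact ⟨4, e⟩ : IsPGroup 2 G)
      exact five_arith_two hk (by omega) v4 v8 v16 h20 h24
    · have hs := Cfsg.Lib.Small.card_orderOf_eq (hP3 h3)
      change cnt G 3 = _ at hs
      rw [a3 h3] at hs
      obtain ⟨P⟩ : Nonempty (Sylow 3 G) := inferInstance
      have h10d : Nat.card (Sylow 3 G) ∣ Nat.card G := Dvd.intro _ (Cfsg.Lib.Small.card_normalizer_mul P)
      rw [show Nat.card (Sylow 3 G) = 10 by omega] at h10d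
      exact cnt_prime Nat.prime_five ((show (5 : ℕ) ∣ 10 by norm_num).trans h10d) h5
  have h5 := a5 h5ne
  have hP5 : ∀ P : Sylow 5 G, Nat.card (P : Subgroup G) = 5 := fun P => by
    have h1 := sylow_dvd_sum (k := 1) (by simpa using z25) P
    simp [Finset.sum_range_succ, n1, h5] at h1
    obtain ⟨j, hj⟩ := IsPGroup.iff_card.mp P.isPGroup'
    have h2 : 5 ^ 1 ∣ Nat.card (P : Subgroup G) := P.pow_dvd_card_of_pow_dvd_card (by
      simpa using dvd_card h5ne)
    rw [hj] at h1 h2 ⊢
    have hle := Nat.le_of_dvd (by norm_num) h1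
    have hj3 : j < 3 := by
      by_contra hge
      have := Nat.pow_le_pow_right (show 0 < 5 by norm_num) (not_lt.mp hge); omega
    interval_cases j <;> norm_num at *
    -- a Sylow subgroup of order 25
    exfalso
    haveI : Fact (Nat.Prime 5) := ⟨Nat.prime_five⟩
    have h25 : 25 ∣ Nat.card G := by
      have := card_subgroup_dvd_card (P : Subgroup G)
      rw [hj] at this
      simpa using this
    by_cases h3 : cnt G 3 = 0
    · refine five_arith_25 (c4 := cnt G 4) (c8 := cnt G 8) (c10 := cnt G 10) (c16 := cnt G 16) h25 (by omega)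
        (by simpa using tight h 4 [20, 24] (by decide +kernel)) (by simpa using tight h 8 [20, 24] (by decide +kernel))
        (by simpa using tight h 16 [24] (by decide +kernel))
        (Classical.or_iff_not_imp_left.mpr a10) (Classical.or_iff_not_imp_left.mpr dvd_card)
        (Classical.or_iff_not_imp_left.mpr dvd_card)
    · have hP := hP3 h3
      have hs := Cfsg.Lib.Small.card_orderOf_eq hP
      change cnt G 3 = _ at hs
      rw [a3 h3] at hs
      obtain ⟨R⟩ : Nonempty (Sylow 3 G) := inferInstance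
      have hm := Cfsg.Lib.Small.card_normalizer_mul R
      rw [show Nat.card (Sylow 3 G) = 10 by omega] at hm
      set N := normalizer ((R : Subgroup G) : Set G)
      obtain ⟨⟨y, hyN⟩, hy⟩ := exists_prime_orderOf_dvd_card' (G := N) 5 (by
        obtain ⟨k, hk⟩ := h25
        exact (show Nat.Coprime 5 2 by norm_num).dvd_of_dvd_mul_left ⟨k, by omega⟩)
      rw [Subgroup.orderOf_mk] at hy
      obtain ⟨⟨r, hrR⟩, hr⟩ := exists_prime_orderOf_dvd_card' (G := (R : Subgroup G)) 3 (by rw [hP])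
      rw [Subgroup.orderOf_mk] at hr
      let f : Subgroup.zpowers y →* MulAut (R : Subgroup G) :=
        (R : Subgroup G).normalizerMonoidHom.comp (Subgroup.inclusion (zpowers_le.mpr hyN))
      haveI : IsCyclic (R : Subgroup G) := isCyclic_of_prime_card (hP R)
      have hf : orderOf (f ⟨y, mem_zpowers y⟩) ∣ 2 := by
        have := orderOf_dvd_natCard (f ⟨y, mem_zpowers y⟩)
        rwa [IsCyclic.card_mulAut, hP, Nat.totient_prime Nat.prime_three] at this
      have hf5 : orderOf (f ⟨y, mem_zpowers y⟩) ∣ 5 := by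
        have := orderOf_map_dvd f ⟨y, mem_zpowers y⟩
        rwa [Subgroup.orderOf_mk, hy] at this
      have hone : f ⟨y, mem_zpowers y⟩ = 1 :=
        orderOf_eq_one_iff.mp (Nat.eq_one_of_dvd_coprimes (by norm_num) hf hf5)
      have hyr : y * r * y⁻¹ = r :=
        congrArg Subtype.val (congrArg (fun e : MulAut (R : Subgroup G) => e ⟨r, hrR⟩) hone)
      have hcomm : Commute y r := mul_inv_eq_iff_eq_mul.mp hyr
      exact cnt_ne_zero_iff.mpr ⟨y * r, by
        rw [hcomm.orderOf_mul_eq_mul_orderOf_of_coprime (by rw [hy, hr]; norm_num), hy, hr]⟩ z15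
  have hC : ∀ y : G, orderOf y = 5 → centralizer ({y} : Set G) ≤ zpowers y := fun y hy =>
    centralizer_le hP5 hy fun q hq hq5 hqd => by
      rcases hp q hq (cnt_prime hq hqd) with rfl | rfl | rfl
      · have hd := cnt_dvd_cnt_mul (G := G) (p := 5) Nat.prime_two (by norm_num) hP5
        simp [h5] at hd ⊢
        by_contra hne
        have := a10 hne
        omega
      · exact z15
      · exact absurd rfl hq5
  obtain ⟨y, hy⟩ := cnt_ne_zero_iff.mp h5ne
  obtain ⟨P, hPy⟩ := Cfsg.Lib.Small.exists_sylow_eq_zpowers hP5 hy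
  have hs := Cfsg.Lib.Small.card_orderOf_eq hP5
  change cnt G 5 = _ at hs
  have hm := Cfsg.Lib.Small.card_normalizer_mul P
  rw [show Nat.card (Sylow 5 G) = 6 by omega] at hm
  -- the normalizer of a Sylow 5-subgroup
  have hN20 : Nat.card ↥(normalizer ((P : Subgroup G) : Set G)) ∣ 5 * 4 := by
    have hrel := Cfsg.Lib.Small.relIndex_centralizer_dvd (P : Subgroup G) (hP5 P)
    have hCP : centralizer ((P : Subgroup G) : Set G) = (P : Subgroup G) := by
      refine le_antisymm ?_ (fun z hz => mem_centralizer_iff.mpr fun w hw => ?_)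
      · rw [hPy, Cfsg.Lib.Small.centralizer_zpowers]
        exact hC y hy
      · haveI : IsCyclic (P : Subgroup G) := isCyclic_of_prime_card (hP5 P)
        exact congrArg Subtype.val ((IsCyclic.isMulCommutative).is_comm.comm (⟨w, hw⟩ : ↥(P : Subgroup G)) ⟨z, hz⟩)
    have h2 := Subgroup.relIndex_mul_relIndex ⊥ (P : Subgroup G) (normalizer ((P : Subgroup G) : Set G))
      bot_le le_normalizer
    rw [relIndex_bot_left, relIndex_bot_left, hP5] at h2
    rw [← h2]
    exact Nat.mul_dvd_mul_left _ (by rw [hCP] at hrel; exact hrel)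
  have hGd : Nat.card G ∣ 120 := hm ▸ Nat.mul_dvd_mul_left 6 hN20
  have h3ne : cnt G 3 ≠ 0 := cnt_prime Nat.prime_three (by omega)
  have h3 := a3 h3ne
  have hs3 := Cfsg.Lib.Small.card_orderOf_eq (hP3 h3ne)
  change cnt G 3 = _ at hs3
  obtain ⟨R⟩ : Nonempty (Sylow 3 G) := inferInstance
  have hm3 := Cfsg.Lib.Small.card_normalizer_mul R
  rw [show Nat.card (Sylow 3 G) = 10 by omega] at hm3
  have hN6 : Nat.card ↥(normalizer ((R : Subgroup G) : Set G)) ∣ 3 * 2 := by
    have hrel := Cfsg.Lib.Small.relIndex_centralizer_dvd (R : Subgroup G) (hP3 h3ne R)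
    obtain ⟨r, hr⟩ := exists_prime_orderOf_dvd_card' (G := (R : Subgroup G)) 3 (by rw [hP3 h3ne])
    rw [← Subgroup.orderOf_coe] at hr
    have hRr : (R : Subgroup G) = zpowers (r : G) :=
      (eq_of_le_of_card_ge (zpowers_le.mpr r.2) (by rw [hP3 h3ne, Nat.card_zpowers, hr])).symm
    have hCR : centralizer ((R : Subgroup G) : Set G) = (R : Subgroup G) := by
      refine le_antisymm ?_ (fun z hz => mem_centralizer_iff.mpr fun w hw => ?_)
      · rw [hRr, Cfsg.Lib.Small.centralizer_zpowers]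
        refine centralizer_le (hP3 h3ne) hr fun q hq hq3 hqd => ?_
        rcases hp q hq (cnt_prime hq hqd) with rfl | rfl | rfl
        · exact z6
        · exact absurd rfl hq3
        · exact z15
      · haveI : IsCyclic (R : Subgroup G) := isCyclic_of_prime_card (hP3 h3ne R)
        exact congrArg Subtype.val ((IsCyclic.isMulCommutative).is_comm.comm (⟨w, hw⟩ : ↥(R : Subgroup G)) ⟨z, hz⟩)
    have h2 := Subgroup.relIndex_mul_relIndex ⊥ (R : Subgroup G) (normalizer ((R : Subgroup G) : Set G))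
      bot_le le_normalizer
    rw [relIndex_bot_left, relIndex_bot_left, hP3 h3ne] at h2
    rw [← h2]
    exact Nat.mul_dvd_mul_left _ (by rw [hCR] at hrel; exact hrel)
  have h60 : Nat.card G = 60 := by
    have := Nat.le_of_dvd (by norm_num) hN6
    omega
  haveI := simple_sixty h60 h5 h3 hC
  exact Cfsg.Agent.S0494.result h60

/-! ### Degree six -/

section
variable {G : Type u} [Group G] [Finite G] (h : Counts G [1, 45, 80, 90, 144])
include h

theorem six_n2 : cnt G 2 = 45 := cnt_two h (v := 45) (by simp) (by decide) (by norm_num)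

theorem six_primes7 : ∀ p : ℕ, p.Prime → cnt G p ≠ 0 → p = 2 ∨ p = 3 ∨ p = 5 ∨ p = 7 := by
  intro p hp hne
  rcases eq_or_ne p 2 with rfl | hp2
  · exact Or.inl rfl
  have h1 := prime_dvd_succ hp hne
  have h2 : (Nat.totient p) ∣ cnt G p := totient_dvd p
  rw [Nat.totient_prime hp] at h2
  have h3 := hp.two_le
  have hm := h.1 p hne
  simp only [List.mem_cons, List.not_mem_nil, or_false] at hm
  rcases hm with e | e | e | e | e <;> rw [e] at h1 h2 <;> have := Nat.le_of_dvd (by norm_num) h1 <;>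
    interval_cases p <;> norm_num at *

theorem six_a3 (hne : cnt G 3 ≠ 0) : cnt G 3 = 80 := by
  have := prime_dvd_succ Nat.prime_three hne
  have := tight h 3 [80, 90, 144] (by decide +kernel)
  simp at this
  omega

theorem six_a5 (hne : cnt G 5 ≠ 0) : cnt G 5 = 144 := by
  have := prime_dvd_succ Nat.prime_five hne
  have := tight h 5 [80, 144] (by decide +kernel)
  simp at this
  omega

theorem six_a7 (hne : cnt G 7 ≠ 0) : cnt G 7 = 90 := by
  have := prime_dvd_succ (by norm_num : Nat.Prime 7) hne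
  have := tight h 7 [90, 144] (by decide +kernel)
  simp at this
  omega

theorem six_z125 : cnt G 125 = 0 := tight_zero h 125 (by decide +kernel)

theorem six_z49 : cnt G 49 = 0 := tight_zero h 49 (by decide +kernel)

theorem six_z81 : cnt G 81 = 0 := tight_zero h 81 (by decide +kernel)

theorem six_z25 : cnt G 25 = 0 := by
  haveI : Fact (Nat.Prime 5) := ⟨Nat.prime_five⟩
  have n1 : cnt G 1 = 1 := cnt_one
  have n2 := six_n2 h
  have z125 := six_z125 h
  have v25 := tight h 25 [80] (by decide +kernel)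
  simp at v25
  by_contra hne
  have h5 := six_a5 h (cnt_ne_zero_of_dvd (show 5 ∣ 25 by norm_num) hne)
  obtain ⟨P⟩ : Nonempty (Sylow 5 G) := inferInstance
  have h1 := sylow_dvd_sum (k := 2) (by simpa using z125) P
  simp [Finset.sum_range_succ, n1, h5] at h1
  obtain ⟨x, hx⟩ := cnt_ne_zero_iff.mp hne
  obtain ⟨j, hj⟩ := IsPGroup.iff_card.mp P.isPGroup'
  have h2 : 5 ^ 2 ∣ Nat.card (P : Subgroup G) := P.pow_dvd_card_of_pow_dvd_card (by
    simpa using dvd_card hne)
  have h25 : Nat.card (P : Subgroup G) = 5 ^ 2 := by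
    rw [show cnt G 25 = 80 by omega] at h1
    rw [hj] at h1 h2 ⊢
    have hj5 : 5 ^ j ≤ 225 := Nat.le_of_dvd (by norm_num) (by simpa using h1)
    rw [Nat.pow_dvd_pow_iff_le_right (by norm_num)] at h2
    rcases Nat.lt_or_ge j 4 with hlt | hge
    · interval_cases j <;> norm_num at *
    · have := Nat.pow_le_pow_right (show 0 < 5 by norm_num) hge; omega
  have := cyclic_bound (k := 1) (by simpa using hx) P h25
  simp at this
  omega

theorem six_hP5 (hne : cnt G 5 ≠ 0) (P : Sylow 5 G) [Fact (Nat.Prime 5)] : Nat.card (P : Subgroup G) = 5 := by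
  have n1 : cnt G 1 = 1 := cnt_one
  have z25 := six_z25 h
  have h1 := sylow_dvd_sum (k := 1) (by simpa using z25) P
  simp [Finset.sum_range_succ, n1, six_a5 h hne] at h1
  obtain ⟨j, hj⟩ := IsPGroup.iff_card.mp P.isPGroup'
  have h2 : 5 ^ 1 ∣ Nat.card (P : Subgroup G) := P.pow_dvd_card_of_pow_dvd_card (by
    simpa using dvd_card hne)
  rw [hj] at h1 h2 ⊢
  have := Nat.le_of_dvd (by norm_num) h1
  have hj4 : j < 4 := by
    by_contra hge
    have := Nat.pow_le_pow_right (show 0 < 5 by norm_num) (not_lt.mp hge); omega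
  interval_cases j <;> norm_num at *

theorem six_z7 : cnt G 7 = 0 := by
  haveI : Fact (Nat.Prime 5) := ⟨Nat.prime_five⟩
  haveI : Fact (Nat.Prime 7) := ⟨by norm_num⟩
  have n1 : cnt G 1 = 1 := cnt_one
  have n2 := six_n2 h
  have z49 := six_z49 h
  have v35 := tight h 35 [144] (by decide +kernel)
  simp at v35
  by_contra hne
  have h7 := six_a7 h hne
  have hP7 : ∀ P : Sylow 7 G, Nat.card (P : Subgroup G) = 7 := fun P => by
    have h1 := sylow_dvd_sum (k := 1) (by simpa using z49) P
    simp [Finset.sum_range_succ, n1, h7] at h1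
    obtain ⟨j, hj⟩ := IsPGroup.iff_card.mp P.isPGroup'
    have h2 : 7 ^ 1 ∣ Nat.card (P : Subgroup G) := P.pow_dvd_card_of_pow_dvd_card (by
      simpa using dvd_card hne)
    rw [hj] at h1 h2 ⊢
    have := Nat.le_of_dvd (by norm_num) h1
    have hj4 : j < 3 := by
      by_contra hge
      have := Nat.pow_le_pow_right (show 0 < 7 by norm_num) (not_lt.mp hge); omega
    interval_cases j <;> norm_num at *
  have hs := Cfsg.Lib.Small.card_orderOf_eq hP7
  change cnt G 7 = _ at hs
  obtain ⟨P⟩ : Nonempty (Sylow 7 G) := inferInstance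
  have hm := Cfsg.Lib.Small.card_normalizer_mul P
  rw [show Nat.card (Sylow 7 G) = 15 by omega] at hm
  have h5ne : cnt G 5 ≠ 0 := cnt_prime Nat.prime_five (by omega)
  have hP : ∀ P : Sylow 5 G, Nat.card (P : Subgroup G) = 5 := fun P => six_hP5 h h5ne P
  have hs5 := Cfsg.Lib.Small.card_orderOf_eq hP
  change cnt G 5 = _ at hs5
  rw [six_a5 h h5ne] at hs5
  obtain ⟨R⟩ : Nonempty (Sylow 5 G) := inferInstance
  set N := normalizer ((R : Subgroup G) : Set G)
  have hm5 := Cfsg.Lib.Small.card_normalizer_mul R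
  rw [show Nat.card (Sylow 5 G) = 36 by omega] at hm5
  have h7d : 7 ∣ Nat.card G := dvd_card hne
  obtain ⟨⟨y, hyN⟩, hy⟩ := exists_prime_orderOf_dvd_card' (G := N) 7
    ((show Nat.Coprime 7 36 by norm_num).dvd_of_dvd_mul_left (hm5.symm ▸ h7d))
  rw [Subgroup.orderOf_mk] at hy
  obtain ⟨⟨r, hrR⟩, hr⟩ := exists_prime_orderOf_dvd_card' (G := (R : Subgroup G)) 5 (by rw [hP])
  rw [Subgroup.orderOf_mk] at hr
  let f : Subgroup.zpowers y →* MulAut (R : Subgroup G) :=
    (R : Subgroup G).normalizerMonoidHom.comp (Subgroup.inclusion (zpowers_le.mpr hyN))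
  haveI : IsCyclic (R : Subgroup G) := isCyclic_of_prime_card (hP R)
  have hf : orderOf (f ⟨y, mem_zpowers y⟩) ∣ 4 := by
    have := orderOf_dvd_natCard (f ⟨y, mem_zpowers y⟩)
    rwa [IsCyclic.card_mulAut, hP, Nat.totient_prime Nat.prime_five] at this
  have hf5 : orderOf (f ⟨y, mem_zpowers y⟩) ∣ 7 := by
    have := orderOf_map_dvd f ⟨y, mem_zpowers y⟩
    rwa [Subgroup.orderOf_mk, hy] at this
  have hone : f ⟨y, mem_zpowers y⟩ = 1 :=
    orderOf_eq_one_iff.mp (Nat.eq_one_of_dvd_coprimes (by norm_num) hf hf5)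
  have hyr : y * r * y⁻¹ = r :=
    congrArg Subtype.val (congrArg (fun e : MulAut (R : Subgroup G) => e ⟨r, hrR⟩) hone)
  have hcomm : Commute y r := mul_inv_eq_iff_eq_mul.mp hyr
  have h35 : cnt G 35 ≠ 0 := cnt_ne_zero_iff.mpr ⟨y * r, by
    rw [hcomm.orderOf_mul_eq_mul_orderOf_of_coprime (by rw [hy, hr]; norm_num), hy, hr]⟩
  have hd5 := cnt_dvd_cnt_mul (G := G) (p := 5) (by norm_num : Nat.Prime 7) (by norm_num) hP
  have hd7 := cnt_dvd_cnt_mul (G := G) (p := 7) Nat.prime_five (by norm_num) hP7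
  simp [h7, six_a5 h h5ne] at hd5 hd7
  omega

theorem six_primes (p : ℕ) (hp : p.Prime) (hne : cnt G p ≠ 0) : p = 2 ∨ p = 3 ∨ p = 5 := by
  rcases six_primes7 h p hp hne with e | e | e | e
  · exact Or.inl e
  · exact Or.inr (Or.inl e)
  · exact Or.inr (Or.inr e)
  · exact absurd (six_z7 h) (e ▸ hne)

theorem six_z27 : cnt G 27 = 0 := by
  have n1 : cnt G 1 = 1 := cnt_one
  have n2 := six_n2 h
  have v9 := tight h 9 [90, 144] (by decide +kernel)
  simp at v9
  have v27 := tight h 27 [90, 144] (by decide +kernel)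
  simp at v27
  by_contra hne
  have h3 := six_a3 h (cnt_ne_zero_of_dvd (show 3 ∣ 27 by norm_num) hne)
  have h9 := cnt_ne_zero_of_dvd (show 9 ∣ 27 by norm_num) hne
  have hs := dvd_sum_of_ne hne
  rw [show Nat.divisors 27 = {1, 3, 9, 27} from by decide] at hs
  simp at hs
  omega

theorem six_z9 : cnt G 9 = 0 := by
  haveI : Fact (Nat.Prime 3) := ⟨Nat.prime_three⟩
  have n1 : cnt G 1 = 1 := cnt_one
  have n2 := six_n2 h
  have z27 := six_z27 h
  have v9 := tight h 9 [90, 144] (by decide +kernel)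
  simp at v9
  by_contra hne
  have h3 := six_a3 h (cnt_ne_zero_of_dvd (show 3 ∣ 9 by norm_num) hne)
  obtain ⟨P⟩ : Nonempty (Sylow 3 G) := inferInstance
  have h1 := sylow_dvd_sum (k := 2) (by simpa using z27) P
  simp [Finset.sum_range_succ, n1, h3] at h1
  obtain ⟨x, hx⟩ := cnt_ne_zero_iff.mp hne
  obtain ⟨j, hj⟩ := IsPGroup.iff_card.mp P.isPGroup'
  have h2 : 3 ^ 2 ∣ Nat.card (P : Subgroup G) := P.pow_dvd_card_of_pow_dvd_card (by
    simpa using dvd_card hne)
  have h9 : Nat.card (P : Subgroup G) = 3 ^ 2 := by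
    rw [hj] at h1 h2 ⊢
    rw [Nat.pow_dvd_pow_iff_le_right (by norm_num)] at h2
    rcases Nat.lt_or_ge j 6 with hlt | hge
    · interval_cases j <;> norm_num at * <;> omega
    · have := Nat.pow_le_pow_right (show 0 < 3 by norm_num) hge
      have := Nat.le_of_dvd (by omega) h1
      omega
  have := cyclic_bound (k := 1) (by simpa using hx) P h9
  simp at this
  omega

theorem six_a4 (hne : cnt G 4 ≠ 0) : cnt G 4 = 90 := by
  have n1 : cnt G 1 = 1 := cnt_one
  have n2 := six_n2 h
  have v4 := tight h 4 [80, 90, 144] (by decide +kernel)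
  simp at v4
  have hs := dvd_sum_of_ne hne
  rw [show Nat.divisors 4 = {1, 2, 4} from by decide] at hs
  simp at hs
  omega

theorem six_z16 : cnt G 16 = 0 := by
  have n1 : cnt G 1 = 1 := cnt_one
  have n2 := six_n2 h
  have v8 := tight h 8 [80, 144] (by decide +kernel)
  simp at v8
  have v16 := tight h 16 [80, 144] (by decide +kernel)
  simp at v16
  by_contra hne
  have h4 := six_a4 h (cnt_ne_zero_of_dvd (show 4 ∣ 16 by norm_num) hne)
  have h8 := cnt_ne_zero_of_dvd (show 8 ∣ 16 by norm_num) hne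
  have hs := dvd_sum_of_ne hne
  rw [show Nat.divisors 16 = {1, 2, 4, 8, 16} from by decide] at hs
  simp at hs
  omega

theorem six_z8 : cnt G 8 = 0 := by
  haveI : Fact (Nat.Prime 2) := ⟨Nat.prime_two⟩
  have n1 : cnt G 1 = 1 := cnt_one
  have n2 := six_n2 h
  have z16 := six_z16 h
  have v8 := tight h 8 [80, 144] (by decide +kernel)
  simp at v8
  by_contra hne
  have h4 := six_a4 h (cnt_ne_zero_of_dvd (show 4 ∣ 8 by norm_num) hne)
  obtain ⟨P⟩ : Nonempty (Sylow 2 G) := inferInstance
  have h1 := sylow_dvd_sum (k := 3) (by simpa using z16) P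
  simp [Finset.sum_range_succ, n1, n2, h4] at h1
  obtain ⟨x, hx⟩ := cnt_ne_zero_iff.mp hne
  obtain ⟨j, hj⟩ := IsPGroup.iff_card.mp P.isPGroup'
  have h2 : 2 ^ 3 ∣ Nat.card (P : Subgroup G) := P.pow_dvd_card_of_pow_dvd_card (by
    simpa using dvd_card hne)
  have h8 : Nat.card (P : Subgroup G) = 2 ^ 3 := by
    rw [hj] at h1 h2 ⊢
    rw [Nat.pow_dvd_pow_iff_le_right (by norm_num)] at h2
    rcases Nat.lt_or_ge j 9 with hlt | hge
    · interval_cases j <;> norm_num at * <;> omega
    · have := Nat.pow_le_pow_right (show 0 < 2 by norm_num) hge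
      have := Nat.le_of_dvd (by omega) h1
      omega
  have := cyclic_bound (k := 2) (by simpa using hx) P h8
  simp at this
  omega

theorem six_z15 : cnt G 15 = 0 := by
  have n1 : cnt G 1 = 1 := cnt_one
  have n2 := six_n2 h
  have v15 := tight h 15 [80, 144] (by decide +kernel)
  simp at v15
  by_contra hne
  have h3 := six_a3 h (cnt_ne_zero_of_dvd (show 3 ∣ 15 by norm_num) hne)
  have h5 := six_a5 h (cnt_ne_zero_of_dvd (show 5 ∣ 15 by norm_num) hne)
  have hs := dvd_sum_of_ne hne
  rw [show Nat.divisors 15 = {1, 3, 5, 15} from by decide] at hs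
  simp at hs
  omega

theorem six_z10 : cnt G 10 = 0 := by
  haveI : Fact (Nat.Prime 5) := ⟨Nat.prime_five⟩
  have n1 : cnt G 1 = 1 := cnt_one
  have n2 := six_n2 h
  have v10 := tight h 10 [80, 144] (by decide +kernel)
  simp at v10
  by_contra hne
  have h5ne := cnt_ne_zero_of_dvd (show 5 ∣ 10 by norm_num) hne
  have h5 := six_a5 h h5ne
  have hd := cnt_dvd_cnt_mul (G := G) (p := 5) Nat.prime_two (by norm_num) (fun P => six_hP5 h h5ne P)
  simp [h5] at hd
  have hs := dvd_sum_of_ne hne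
  rw [show Nat.divisors 10 = {1, 2, 5, 10} from by decide] at hs
  simp at hs
  omega

theorem six_e6 (hne : cnt G 6 ≠ 0) : cnt G 3 = 80 ∧ (cnt G 6 = 90 ∨ cnt G 6 = 144) := by
  have n1 : cnt G 1 = 1 := cnt_one
  have n2 := six_n2 h
  have v6 := tight h 6 [80, 90, 144] (by decide +kernel)
  simp at v6
  have h3 := six_a3 h (cnt_ne_zero_of_dvd (show 3 ∣ 6 by norm_num) hne)
  have hs := dvd_sum_of_ne hne
  rw [show Nat.divisors 6 = {1, 2, 3, 6} from by decide] at hs
  simp at hs
  omega

theorem six_e12 (hne : cnt G 12 ≠ 0) : cnt G 4 = 90 ∧ cnt G 6 = 144 ∧ cnt G 12 = 144 := by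
  have n1 : cnt G 1 = 1 := cnt_one
  have n2 := six_n2 h
  have v12 := tight h 12 [80, 144] (by decide +kernel)
  simp at v12
  have h4 := six_a4 h (cnt_ne_zero_of_dvd (show 4 ∣ 12 by norm_num) hne)
  have h6 := six_e6 h (cnt_ne_zero_of_dvd (show 6 ∣ 12 by norm_num) hne)
  have hs := dvd_sum_of_ne hne
  rw [show Nat.divisors 12 = {1, 2, 3, 4, 6, 12} from by decide] at hs
  simp at hs
  omega

end

theorem six_arith_no_five {N c3 c4 c6 c12 : ℕ} (hs : N = 46 + c3 + c4 + c6 + c12)
    (h3 : c3 = 0 ∨ c3 = 80) (h4 : c4 = 0 ∨ c4 = 90)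
    (h6 : c6 = 0 ∨ (c3 = 80 ∧ (c6 = 90 ∨ c6 = 144)))
    (h12 : c12 = 0 ∨ (c4 = 90 ∧ c6 = 144 ∧ c12 = 144))
    (h144 : c6 = 144 ∨ c12 = 144) (h90 : c4 = 90 ∨ c6 = 90) (n5 : ¬ 5 ∣ N) (n7 : ¬ 7 ∣ N) : False := by
  omega

theorem six_arith_final {N c4 c6 c12 : ℕ} (hs : N = 270 + c4 + c6 + c12) (hN : N ∣ 720)
    (h4 : c4 = 0 ∨ c4 = 90) (h6 : c6 = 0 ∨ c6 = 90 ∨ c6 = 144)
    (h12 : c12 = 0 ∨ (c4 = 90 ∧ c6 = 144 ∧ c12 = 144)) : N = 360 := by
  rcases h4 with rfl | rfl <;> rcases h6 with rfl | rfl | rfl <;>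
    rcases h12 with rfl | ⟨e1, e2, rfl⟩ <;> subst hs <;> norm_num at *

theorem six {G : Type u} [Group G] [Finite G] (h : Counts G [1, 45, 80, 90, 144]) :
    Nonempty (G ≃* ↥(alternatingGroup (Fin 6))) := by
  classical
  haveI : Fact (Nat.Prime 3) := ⟨Nat.prime_three⟩
  haveI : Fact (Nat.Prime 5) := ⟨Nat.prime_five⟩
  have n1 : cnt G 1 = 1 := cnt_one
  have n2 := six_n2 h
  have hp := six_primes h
  have a3 := six_a3 h
  have a4 := six_a4 h
  have a5 := six_a5 h
  have z7 := six_z7 h
  have z8 := six_z8 h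
  have z9 := six_z9 h
  have z25 := six_z25 h
  have z15 := six_z15 h
  have z10 := six_z10 h
  have hP5 : cnt G 5 ≠ 0 → ∀ P : Sylow 5 G, Nat.card (P : Subgroup G) = 5 := fun hne P => six_hP5 h hne P
  have hD : ∀ g : G, orderOf g ∈ ({1, 2, 3, 4, 5, 6, 12} : Finset ℕ) := by
    intro g
    have h60 : orderOf g ∣ 60 := dvd_of_bounds fun p hp' hd => by
      rcases hp p hp' (cnt_ne_zero_of_dvd hd (cnt_self g)) with rfl | rfl | rfl
      · exact ⟨2, by norm_num, not_dvd_orderOf z8 g⟩
      · exact ⟨1, by norm_num, not_dvd_orderOf z9 g⟩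
      · exact ⟨1, by norm_num, not_dvd_orderOf z25 g⟩
    have h10 := not_dvd_orderOf z10 g
    have h15 := not_dvd_orderOf z15 g
    have hm : orderOf g ∈ Nat.divisors 60 := Nat.mem_divisors.mpr ⟨h60, by norm_num⟩
    have key : ∀ m ∈ Nat.divisors 60, ¬ 10 ∣ m → ¬ 15 ∣ m →
        m ∈ ({1, 2, 3, 4, 5, 6, 12} : Finset ℕ) := by decide +kernel
    exact key _ hm h10 h15
  have hG := card_eq_sum _ hD
  simp [n1, n2] at hG
  have hocc : ∀ v, v ∈ [90, 144] → ∃ m ∈ ({3, 4, 5, 6, 12} : Finset ℕ), cnt G m = v := by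
    intro v hv
    obtain ⟨m, hm⟩ := h.2 v (by simp at hv ⊢; tauto)
    have hv2 : v ≠ 0 ∧ v ≠ 1 ∧ v ≠ 45 := by simp at hv; omega
    obtain ⟨g, hg⟩ := cnt_ne_zero_iff.mp (hm.trans_ne hv2.1)
    have hmem := hg ▸ hD g
    simp at hmem ⊢
    rcases hmem with rfl | rfl | rfl | rfl | rfl | rfl | rfl <;> first | omega | tauto
  have e6' := Classical.or_iff_not_imp_left.mpr (six_e6 h)
  have e12' := Classical.or_iff_not_imp_left.mpr (six_e12 h)
  have h5ne : cnt G 5 ≠ 0 := by
    intro h5
    refine six_arith_no_five (c3 := cnt G 3) (c4 := cnt G 4) (c6 := cnt G 6) (c12 := cnt G 12) (by omega)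
      (Classical.or_iff_not_imp_left.mpr a3) (Classical.or_iff_not_imp_left.mpr a4) e6' e12' ?_ ?_
      (fun hd => cnt_prime Nat.prime_five hd h5) (fun hd => cnt_prime (by norm_num) hd z7)
    · obtain ⟨m, hm, hv⟩ := hocc 144 (by simp)
      simp at hm
      rcases hm with rfl | rfl | rfl | rfl | rfl
      · have := a3 (hv.trans_ne (by norm_num)); omega
      · have := a4 (hv.trans_ne (by norm_num)); omega
      · omega
      · exact Or.inl hv
      · exact Or.inr hv
    · obtain ⟨m, hm, hv⟩ := hocc 90 (by simp)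
      simp at hm
      rcases hm with rfl | rfl | rfl | rfl | rfl
      · have := a3 (hv.trans_ne (by norm_num)); omega
      · exact Or.inl hv
      · omega
      · exact Or.inr hv
      · have := six_e12 h (hv.trans_ne (by norm_num)); omega
  have h5 := a5 h5ne
  have hC : ∀ y : G, orderOf y = 5 → centralizer ({y} : Set G) ≤ zpowers y := fun y hy =>
    centralizer_le (hP5 h5ne) hy fun q hq hq5 hqd => by
      rcases hp q hq (cnt_prime hq hqd) with rfl | rfl | rfl
      · exact z10
      · exact z15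
      · exact absurd rfl hq5
  obtain ⟨y, hy⟩ := cnt_ne_zero_iff.mp h5ne
  obtain ⟨P, hPy⟩ := Cfsg.Lib.Small.exists_sylow_eq_zpowers (hP5 h5ne) hy
  have hs := Cfsg.Lib.Small.card_orderOf_eq (hP5 h5ne)
  change cnt G 5 = _ at hs
  have hm := Cfsg.Lib.Small.card_normalizer_mul P
  rw [show Nat.card (Sylow 5 G) = 36 by omega] at hm
  have hN20 : Nat.card ↥(normalizer ((P : Subgroup G) : Set G)) ∣ 5 * 4 := by
    have hrel := Cfsg.Lib.Small.relIndex_centralizer_dvd (P : Subgroup G) (hP5 h5ne P)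
    have hCP : centralizer ((P : Subgroup G) : Set G) = (P : Subgroup G) := by
      refine le_antisymm ?_ (fun z hz => mem_centralizer_iff.mpr fun w hw => ?_)
      · rw [hPy, Cfsg.Lib.Small.centralizer_zpowers]
        exact hC y hy
      · haveI : IsCyclic (P : Subgroup G) := isCyclic_of_prime_card (hP5 h5ne P)
        exact congrArg Subtype.val ((IsCyclic.isMulCommutative).is_comm.comm (⟨w, hw⟩ : ↥(P : Subgroup G)) ⟨z, hz⟩)
    have h2 := Subgroup.relIndex_mul_relIndex ⊥ (P : Subgroup G) (normalizer ((P : Subgroup G) : Set G))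
      bot_le le_normalizer
    rw [relIndex_bot_left, relIndex_bot_left, hP5 h5ne] at h2
    rw [← h2]
    exact Nat.mul_dvd_mul_left _ (by rw [hCP] at hrel; exact hrel)
  have hGd : Nat.card G ∣ 720 := hm ▸ Nat.mul_dvd_mul_left 36 hN20
  have h3ne : cnt G 3 ≠ 0 := cnt_prime Nat.prime_three (by omega)
  have h3 := a3 h3ne
  have h360 : Nat.card G = 360 :=
    six_arith_final (c4 := cnt G 4) (c6 := cnt G 6) (c12 := cnt G 12) (by omega) hGd
      (Classical.or_iff_not_imp_left.mpr a4)
      (e6'.elim Or.inl fun hc => hc.2.elim (fun e => Or.inr (Or.inl e)) fun e => Or.inr (Or.inr e)) e12'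
  haveI := simple_360 h360 h5 h3 hC
  exact Cfsg.Lib.Small.Order360.iso_alternating h360

/-! ### The three alternating groups -/

theorem counts_four {G : Type u} [Group G] [Finite G] (h : ((fun m : ℕ => Nat.card {g : G // orderOf g = m}) '' Set.range (orderOf : G → ℕ)) = ((fun m : ℕ => Nat.card {g : ↥(alternatingGroup (Fin 4)) // orderOf g = m}) '' Set.range (orderOf : ↥(alternatingGroup (Fin 4)) → ℕ))) :
    Counts G [1, 3, 8] := by
  classical
  have c1 : cnt (alternatingGroup (Fin 4)) 1 = 1 := cnt_one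
  have c2 : cnt (alternatingGroup (Fin 4)) 2 = 3 := by rw [cnt_eq_filter _ (by norm_num)]; decide +kernel
  have c3 : cnt (alternatingGroup (Fin 4)) 3 = 8 := by rw [cnt_eq_filter _ (by norm_num)]; decide +kernel
  have hD : ∀ g : alternatingGroup (Fin 4), orderOf g ∈ ({1, 2, 3} : Finset ℕ) := fun g =>
    orderOf_mem (by simp) ((by decide +kernel : ∀ g : alternatingGroup (Fin 4),
      ∃ m ∈ ({1, 2, 3} : Finset ℕ), g ^ m = 1 ∧ ∀ d, d < m → 0 < d → g ^ d ≠ 1) g)
  refine counts_of_eq h {1, 2, 3} hD _ ?_ ?_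
  · simp [c1, c2, c3]
  · simp [c1, c2, c3]

theorem counts_five {G : Type u} [Group G] [Finite G] (h : ((fun m : ℕ => Nat.card {g : G // orderOf g = m}) '' Set.range (orderOf : G → ℕ)) = ((fun m : ℕ => Nat.card {g : ↥(alternatingGroup (Fin 5)) // orderOf g = m}) '' Set.range (orderOf : ↥(alternatingGroup (Fin 5)) → ℕ))) :
    Counts G [1, 15, 20, 24] := by
  classical
  have c1 : cnt (alternatingGroup (Fin 5)) 1 = 1 := cnt_one
  have c2 : cnt (alternatingGroup (Fin 5)) 2 = 15 := by rw [cnt_eq_filter _ (by norm_num)]; decide +kernel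
  have c3 : cnt (alternatingGroup (Fin 5)) 3 = 20 := by rw [cnt_eq_filter _ (by norm_num)]; decide +kernel
  have c5 : cnt (alternatingGroup (Fin 5)) 5 = 24 := by rw [cnt_eq_filter _ (by norm_num)]; decide +kernel
  have hD : ∀ g : alternatingGroup (Fin 5), orderOf g ∈ ({1, 2, 3, 5} : Finset ℕ) := fun g =>
    orderOf_mem (by simp) ((by decide +kernel : ∀ g : alternatingGroup (Fin 5),
      ∃ m ∈ ({1, 2, 3, 5} : Finset ℕ), g ^ m = 1 ∧ ∀ d, d < m → 0 < d → g ^ d ≠ 1) g)
  refine counts_of_eq h {1, 2, 3, 5} hD _ ?_ ?_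
  · simp [c1, c2, c3, c5]
  · simp [c1, c2, c3, c5]

theorem counts_six {G : Type u} [Group G] [Finite G] (h : ((fun m : ℕ => Nat.card {g : G // orderOf g = m}) '' Set.range (orderOf : G → ℕ)) = ((fun m : ℕ => Nat.card {g : ↥(alternatingGroup (Fin 6)) // orderOf g = m}) '' Set.range (orderOf : ↥(alternatingGroup (Fin 6)) → ℕ))) :
    Counts G [1, 45, 80, 90, 144] := by
  classical
  have c1 : cnt (alternatingGroup (Fin 6)) 1 = 1 := cnt_one
  have c2 : cnt (alternatingGroup (Fin 6)) 2 = 45 := by rw [cnt_eq_filter _ (by norm_num)]; decide +kernel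
  have c3 : cnt (alternatingGroup (Fin 6)) 3 = 80 := by rw [cnt_eq_filter _ (by norm_num)]; decide +kernel
  have c4 : cnt (alternatingGroup (Fin 6)) 4 = 90 := by rw [cnt_eq_filter _ (by norm_num)]; decide +kernel
  have c5 : cnt (alternatingGroup (Fin 6)) 5 = 144 := by rw [cnt_eq_filter _ (by norm_num)]; decide +kernel
  have hD : ∀ g : alternatingGroup (Fin 6), orderOf g ∈ ({1, 2, 3, 4, 5} : Finset ℕ) := fun g =>
    orderOf_mem (by simp) ((by decide +kernel : ∀ g : alternatingGroup (Fin 6),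
      ∃ m ∈ ({1, 2, 3, 4, 5} : Finset ℕ), g ^ m = 1 ∧ ∀ d, d < m → 0 < d → g ^ d ≠ 1) g)
  refine counts_of_eq h {1, 2, 3, 4, 5} hD _ ?_ ?_
  · simp [c1, c2, c3, c4, c5]
  · simp [c1, c2, c3, c4, c5]

/-- Let n be 4, 5 or 6 and let G be a finite group whose set of sizes of same-order classes (the set of numbers #{g : o(g) = m} over the element orders m of G) equals that of the alternating group of degree n. Then G is isomorphic to that alternating group. -/
theorem result {G : Type*} [Group G] [Finite G] (n : ℕ) (hn : n = 4 ∨ n = 5 ∨ n = 6)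
    (h : ((fun m : ℕ => Nat.card {g : G // orderOf g = m}) '' Set.range (orderOf : G → ℕ)) = ((fun m : ℕ => Nat.card {g : ↥(alternatingGroup (Fin n)) // orderOf g = m}) '' Set.range (orderOf : ↥(alternatingGroup (Fin n)) → ℕ))) :
    Nonempty (G ≃* ↥(alternatingGroup (Fin n))) := by
  rcases hn with rfl | rfl | rfl
  · exact four (counts_four h)
  · exact five (counts_five h)
  · exact six (counts_six h)

end Cfsg.Agent.S3431
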