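import Cfsg.Statements.S3437
import Cfsg.Agent.Lib.Recog.SpectrumLThreeThree
import Mathlib.LinearAlgebra.Matrix.GeneralLinearGroup.Projective
import Mathlib.FieldTheory.Finite.GaloisField

set_option autoImplicit false
open Cfsg

namespace Cfsg.Agent.S3437

/-- There is a finite solvable group with exactly the same set of element orders as the simple group PSL(3,3). -/
theorem result {F : Type*} [Field F] [Fintype F] (hF : Fintype.card F = 3) :
    ∃ (H : Type) (_ : Group H) (_ : Fintype H), Group.IsSolvable H ∧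
      Set.range (orderOf : H → ℕ) = Set.range (orderOf : Matrix.ProjectiveSpecialLinearGroup (Fin 3) F → ℕ) := by
  classical
  haveI : Fact (Nat.Prime 3) := ⟨Nat.prime_three⟩
  let e : ZMod 3 ≃+* F := ZMod.ringEquivOfPrime F Nat.prime_three hF
  let Φ : Matrix.SpecialLinearGroup (Fin 3) (ZMod 3) →* Matrix.SpecialLinearGroup (Fin 3) F :=
    Matrix.SpecialLinearGroup.map e.toRingHom
  let Ψ : Matrix.SpecialLinearGroup (Fin 3) F →* Matrix.SpecialLinearGroup (Fin 3) (ZMod 3) :=
    Matrix.SpecialLinearGroup.map e.symm.toRingHom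
  have hc : Subgroup.center (Matrix.SpecialLinearGroup (Fin 3) F) = ⊥ := by
    refine (Subgroup.eq_bot_iff_forall _).2 fun g hg => ?_
    obtain ⟨r, hr, hg⟩ := Matrix.SpecialLinearGroup.mem_center_iff.1 hg
    rw [Fintype.card_fin] at hr
    have hr1 : r = 1 := by
      have := FiniteField.pow_card r
      rw [hF] at this
      rw [← this, hr]
    exact Subtype.ext (by rw [← hg, hr1, map_one]; rfl)
  let f : Matrix.SpecialLinearGroup (Fin 3) (ZMod 3) → Matrix.ProjectiveSpecialLinearGroup (Fin 3) F :=
    fun g => QuotientGroup.mk' _ (Φ g)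
  have hsurj : Function.Surjective f := fun q => by
    obtain ⟨g, rfl⟩ := QuotientGroup.mk'_surjective _ q
    refine ⟨Ψ g, congrArg (QuotientGroup.mk' _) (Subtype.ext (Matrix.ext fun i j => ?_) : Φ (Ψ g) = g)⟩
    show e (e.symm (g.1 i j)) = g.1 i j
    exact e.apply_symm_apply _
  have hord : ∀ g, orderOf (f g) = orderOf g := by
    intro g
    refine orderOf_injective ((QuotientGroup.mk' _).comp Φ) ?_ g
    refine (MonoidHom.ker_eq_bot_iff _).1 ((Subgroup.eq_bot_iff_forall _).2 fun x hx => ?_)
    rw [MonoidHom.mem_ker, MonoidHom.comp_apply, QuotientGroup.mk'_apply, QuotientGroup.eq_one_iff, hc,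
      Subgroup.mem_bot] at hx
    refine Subtype.ext (Matrix.ext fun i j => e.injective ?_)
    have := congrArg (fun y : Matrix.SpecialLinearGroup (Fin 3) F => y.1 i j) hx
    refine this.trans ?_
    simp [Matrix.one_apply, apply_ite e]
  refine ⟨Cfsg.Lib.Recog.LThreeThree.H, inferInstance, Fintype.ofFinite _,
    Cfsg.Lib.Recog.LThreeThree.isSolvable_H, ?_⟩
  rw [Cfsg.Lib.Recog.LThreeThree.range_orderOf_H, ← Cfsg.Lib.Recog.LThreeThree.range_orderOf_SL,
    ← hsurj.range_comp]
  exact congrArg Set.range (funext fun g => (hord g).symm)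

end Cfsg.Agent.S3437
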