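import Cfsg.Statements.S3438
import Cfsg.Agent.S2366

set_option autoImplicit false
open Cfsg

namespace Cfsg.Agent.S3438

open Matrix

/-- The four by four matrices over the integers modulo 7. -/
abbrev M4 := Matrix (Fin 4) (Fin 4) (ZMod 7)

/-- An element of order 3 without non-zero fixed vector. -/
def gA : M4 := !![2, 0, 0, 0; 0, 4, 0, 0; 0, 0, 2, 0; 0, 0, 0, 4]

/-- An element of order 8 inverting `gA`, with square the fourth root of unity. -/
def gB : M4 := !![0, 1, 0, 0; 0, 0, 6, 0; 0, 0, 0, 1; 1, 0, 0, 0]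

/-- The listed elements of the complement. -/
def el (x : Fin 3 × Fin 8) : M4 := gA ^ x.1.val * gB ^ x.2.val

theorem facts : gA ^ 3 = 1 ∧ gB ^ 8 = 1 ∧ gB * gA = gA ^ 2 * gB := by decide +kernel

theorem el_injective : Function.Injective el := by
  unfold Function.Injective
  decide +kernel

theorem el_orders : ∀ x, ∃ n ∈ [8, 12], el x ^ n = 1 := by decide +kernel

theorem el_norm : ∀ x, x ≠ (0, 0) → ∀ n ∈ [8, 12], el x ^ n = 1 →
    ∑ i ∈ Finset.range n, el x ^ i = 0 := by decide +kernel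

theorem el_large : el (0, 1) ^ 4 ≠ 1 ∧ el (1, 2) ^ 4 ≠ 1 ∧ el (1, 2) ^ 6 ≠ 1 ∧
    el (0, 1) ^ 8 = 1 ∧ el (1, 2) ^ 12 = 1 := by decide +kernel

theorem el_mul : ∀ x y, ∃ z, el x * el y = el z := by decide +kernel

theorem el_zero : el (0, 0) = 1 := by decide +kernel

theorem el_inv : ∀ x, ∃ y, el x * el y = 1 ∧ el y * el x = 1 := by decide +kernel

attribute [local irreducible] gA gB el

/-- The complement, as a group of invertible matrices. -/
def cpl : Subgroup (GL (Fin 4) (ZMod 7)) where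
  carrier := {g | ∃ x, (g : M4) = el x}
  mul_mem' := by
    rintro g h ⟨x, hx⟩ ⟨y, hy⟩
    obtain ⟨z, hz⟩ := el_mul x y
    exact ⟨z, by rw [Units.val_mul, hx, hy, hz]⟩
  one_mem' := ⟨(0, 0), by rw [el_zero, Units.val_one]⟩
  inv_mem' := by
    rintro g ⟨x, hx⟩
    obtain ⟨y, hy, -⟩ := el_inv x
    refine ⟨y, Units.inv_eq_of_mul_eq_one_right (u := g) ?_⟩
    rw [hx, hy]

/-- The unit of a listed element. -/
theorem exists_unit (x : Fin 3 × Fin 8) : ∃ g : cpl, ((g : GL (Fin 4) (ZMod 7)) : M4) = el x := by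
  obtain ⟨y, h1, h2⟩ := el_inv x
  exact ⟨⟨⟨el x, el y, h1, h2⟩, x, rfl⟩, rfl⟩

theorem cpl_card : Nat.card cpl = 24 := by
  have h : Function.Bijective (fun x => (exists_unit x).choose) := by
    constructor
    · intro x y h
      exact el_injective ((exists_unit x).choose_spec ▸ (exists_unit y).choose_spec ▸
        congrArg (fun g : cpl => ((g : GL (Fin 4) (ZMod 7)) : M4)) h)
    · rintro ⟨g, x, hx⟩
      exact ⟨x, Subtype.ext (Units.ext ((exists_unit x).choose_spec.trans hx.symm))⟩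
  rw [← Nat.card_eq_of_bijective _ h]
  simp

/-- The natural action. -/
noncomputable def act : cpl →* MulAut (Multiplicative (Fin 4 → ZMod 7)) where
  toFun g := AddEquiv.toMultiplicative
    { toFun := fun v => ((g : GL (Fin 4) (ZMod 7)) : M4) *ᵥ v
      invFun := fun v => ((g⁻¹ : cpl) : GL (Fin 4) (ZMod 7)).val *ᵥ v
      left_inv := fun v => by
        show ((g⁻¹ : cpl) : GL (Fin 4) (ZMod 7)).val *ᵥ (((g : GL (Fin 4) (ZMod 7)) : M4) *ᵥ v) = v
        rw [Matrix.mulVec_mulVec]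
        simp
      right_inv := fun v => by
        show ((g : GL (Fin 4) (ZMod 7)) : M4) *ᵥ (((g⁻¹ : cpl) : GL (Fin 4) (ZMod 7)).val *ᵥ v) = v
        rw [Matrix.mulVec_mulVec]
        simp
      map_add' := Matrix.mulVec_add _ }
  map_one' := MulEquiv.ext fun w => by
    show Multiplicative.ofAdd (((1 : cpl) : GL (Fin 4) (ZMod 7)).val *ᵥ w.toAdd) = w
    simp
  map_mul' a b := MulEquiv.ext fun w => by
    show Multiplicative.ofAdd ((((a * b : cpl) : GL (Fin 4) (ZMod 7)) : M4) *ᵥ w.toAdd) =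
      Multiplicative.ofAdd (((a : GL (Fin 4) (ZMod 7)) : M4) *ᵥ (((b : GL (Fin 4) (ZMod 7)) : M4) *ᵥ w.toAdd))
    rw [Matrix.mulVec_mulVec]
    simp

/-- The group. -/
abbrev Grp := Multiplicative (Fin 4 → ZMod 7) ⋊[act] cpl

theorem left_pow (y : Grp) : ∀ n : ℕ, (y ^ n).left.toAdd =
    (∑ i ∈ Finset.range n, ((y.right : GL (Fin 4) (ZMod 7)) : M4) ^ i) *ᵥ y.left.toAdd
  | 0 => by simp
  | n + 1 => by
      rw [pow_succ', SemidirectProduct.mul_left, toAdd_mul, Finset.sum_range_succ',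
        Matrix.add_mulVec, pow_zero, Matrix.one_mulVec]
      show y.left.toAdd + ((y.right : GL (Fin 4) (ZMod 7)) : M4) *ᵥ (y ^ n).left.toAdd = _
      rw [left_pow y n, Matrix.mulVec_mulVec, Finset.mul_sum, add_comm]
      simp only [pow_succ']

theorem pow_cases (y : Grp) : ∃ n ∈ [7, 8, 12], y ^ n = 1 := by
  obtain ⟨x, hx⟩ := y.right.2
  have hright : ∀ n, (y ^ n).right = y.right ^ n := fun n => map_pow SemidirectProduct.rightHom y n
  by_cases h0 : x = (0, 0)
  · refine ⟨7, by simp, ?_⟩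
    subst h0
    rw [el_zero] at hx
    have hr : y.right = 1 := Subtype.ext (Units.ext hx)
    refine SemidirectProduct.ext ?_ (by rw [hright, hr, one_pow]; rfl)
    refine Multiplicative.toAdd.injective ?_
    rw [left_pow, hr]
    show (∑ i ∈ Finset.range 7, (1 : M4) ^ i) *ᵥ y.left.toAdd = 0
    rw [show (∑ i ∈ Finset.range 7, (1 : M4) ^ i) = 0 by decide +kernel, Matrix.zero_mulVec]
  · obtain ⟨n, hn, hxn⟩ := el_orders x
    refine ⟨n, List.mem_cons_of_mem _ hn, ?_⟩
    refine SemidirectProduct.ext (Multiplicative.toAdd.injective ?_) ?_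
    · rw [left_pow, hx, el_norm x h0 n hn hxn, Matrix.zero_mulVec]
      rfl
    · rw [hright]
      exact Subtype.ext (Units.ext (by simp [hx, hxn]))

theorem exists_seven : ∃ y : Grp, 7 ∣ orderOf y := by
  haveI : Fact (Nat.Prime 7) := ⟨by norm_num⟩
  haveI : Finite Grp := Finite.of_equiv _ SemidirectProduct.equivProd.symm
  obtain ⟨y, hy⟩ := exists_prime_orderOf_dvd_card' (G := Grp) 7 (by
    rw [SemidirectProduct.card, cpl_card, Nat.card_eq_fintype_card]
    simp)
  exact ⟨y, by rw [hy]⟩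

theorem exists_large : (∃ y : Grp, 8 ∣ orderOf y) ∧ ∃ y : Grp, 12 ∣ orderOf y := by
  have key : ∀ x n, el x ^ n = 1 → (∀ p, p.Prime → p ∣ n → el x ^ (n / p) ≠ 1) → 0 < n →
      ∃ y : Grp, n ∣ orderOf y := by
    intro x n hn hp hn0
    obtain ⟨g, hg⟩ := exists_unit x
    refine ⟨SemidirectProduct.inr g, ?_⟩
    rw [orderOf_injective _ SemidirectProduct.inr_injective,
      orderOf_eq_of_pow_and_pow_div_prime hn0 (Subtype.ext (Units.ext (by simpa [hg] using hn)))
        fun p hpp hpn h => hp p hpp hpn ?_]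
    simpa [hg] using congrArg (fun g : cpl => ((g : GL (Fin 4) (ZMod 7)) : M4)) h
  obtain ⟨a4, b4, b6, a8, b12⟩ := el_large
  refine ⟨key _ 8 a8 (fun p hp hpd => ?_) (by norm_num), key _ 12 b12 (fun p hp hpd => ?_) (by norm_num)⟩
  · have := (Nat.prime_dvd_prime_iff_eq hp Nat.prime_two).mp (hp.dvd_of_dvd_pow (show p ∣ 2 ^ 3 from hpd))
    subst this
    exact a4
  · rcases hp.dvd_mul.mp (show p ∣ 2 ^ 2 * 3 from hpd) with h | h
    · have := (Nat.prime_dvd_prime_iff_eq hp Nat.prime_two).mp (hp.dvd_of_dvd_pow h)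
      subst this
      exact b6
    · have := (Nat.prime_dvd_prime_iff_eq hp Nat.prime_three).mp h
      subst this
      exact b4

theorem cpl_solvable : Group.IsSolvable cpl := by
  have key : ∀ x y : Fin 3 × Fin 8,
      ∃ i : Fin 3, el x * el y = gA ^ i.val * (el y * el x) := by decide +kernel
  have hA : ∀ i j : Fin 3, gA ^ i.val * gA ^ j.val = gA ^ j.val * gA ^ i.val := fun i j => by
    rw [← pow_add, ← pow_add, add_comm]
  have hinv : ∀ g : cpl, ∀ x, ((g : GL (Fin 4) (ZMod 7)) : M4) = el x →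
      ∃ a, el x * el a = 1 ∧ ((g⁻¹ : cpl) : GL (Fin 4) (ZMod 7)).val = el a := fun g x hx => by
    obtain ⟨a, ha⟩ := g⁻¹.2
    refine ⟨a, ?_, ha⟩
    rw [← hx, ← ha, Subgroup.coe_inv, Units.mul_inv]
  have hcomm : ∀ g h : cpl, ∃ i : Fin 3,
      (((g * h * g⁻¹ * h⁻¹ : cpl) : GL (Fin 4) (ZMod 7)) : M4) = gA ^ i.val := fun g h => by
    obtain ⟨x, hx⟩ := g.2
    obtain ⟨y, hy⟩ := h.2
    obtain ⟨a, ha, ha'⟩ := hinv g x hx
    obtain ⟨b, hb, hb'⟩ := hinv h y hy
    obtain ⟨i, hi⟩ := key x y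
    refine ⟨i, ?_⟩
    show ((g : GL (Fin 4) (ZMod 7)) : M4) * ((h : GL (Fin 4) (ZMod 7)) : M4) *
      ((g⁻¹ : cpl) : GL (Fin 4) (ZMod 7)).val * ((h⁻¹ : cpl) : GL (Fin 4) (ZMod 7)).val = _
    rw [hx, hy, ha', hb', hi, mul_assoc (gA ^ i.val), mul_assoc (el y), ha, mul_one, mul_assoc, hb,
      mul_one]
  let Z : Subgroup cpl :=
    { carrier := {g | ∃ i : Fin 3, ((g : GL (Fin 4) (ZMod 7)) : M4) = gA ^ i.val}
      mul_mem' := by
        rintro g h ⟨i, hi⟩ ⟨j, hj⟩
        refine ⟨⟨(i.val + j.val) % 3, Nat.mod_lt _ (by norm_num)⟩, ?_⟩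
        rw [Subgroup.coe_mul, Units.val_mul, hi, hj, ← pow_add,
          pow_eq_pow_mod _ facts.1]
      one_mem' := ⟨0, by simp⟩
      inv_mem' := by
        rintro g ⟨i, hi⟩
        refine ⟨⟨(3 - i.val) % 3, Nat.mod_lt _ (by norm_num)⟩, ?_⟩
        rw [Subgroup.coe_inv]
        refine Units.inv_eq_of_mul_eq_one_right ?_
        rw [hi, ← pow_eq_pow_mod _ facts.1, ← pow_add, Nat.add_sub_cancel' (by omega), facts.1] }
  refine ⟨⟨2, ?_⟩⟩
  have h1 : derivedSeries cpl 1 ≤ Z := by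
    rw [derivedSeries_one, commutator_def, Subgroup.commutator_le]
    intro g _ h _
    rw [commutatorElement_def]
    exact hcomm g h
  rw [derivedSeries_succ, eq_bot_iff, Subgroup.commutator_le]
  intro g hg h hh
  obtain ⟨i, hi⟩ := h1 hg
  obtain ⟨j, hj⟩ := h1 hh
  rw [Subgroup.mem_bot, commutatorElement_eq_one_iff_mul_comm]
  apply Subtype.ext
  apply Units.ext
  simp only [Subgroup.coe_mul, Units.val_mul, hi, hj, hA]

/-- There is a finite solvable group with exactly the same set of element orders as the simple group PSU(3,3) (realised over the field with 9 elements). -/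
theorem result {F : Type*} [Field F] [Fintype F] (hF : Fintype.card F = 9) :
    ∃ (H : Type) (_ : Group H) (_ : Fintype H), Group.IsSolvable H ∧ Set.range (orderOf : H → ℕ) = Set.range (orderOf : Cfsg.PSU 3 F 3 → ℕ) := by
  classical
  haveI : Finite Grp := Finite.of_equiv _ SemidirectProduct.equivProd.symm
  haveI : Fact (Nat.Prime 3) := ⟨Nat.prime_three⟩
  haveI : CharP F 3 := by
    haveI := ringChar.charP F
    obtain ⟨n, hp, hn⟩ := FiniteField.card F (ringChar F)
    have h3 : ringChar F ∣ 3 ^ 2 := by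
      rw [show (3 : ℕ) ^ 2 = Fintype.card F by rw [hF]; rfl, hn]
      exact dvd_pow_self _ n.ne_zero
    rw [← (Nat.prime_dvd_prime_iff_eq hp Nat.prime_three).mp (hp.dvd_of_dvd_pow h3)]
    infer_instance
  refine ⟨Grp, inferInstance, Fintype.ofFinite _, ?_, ?_⟩
  · haveI := cpl_solvable
    exact solvable_of_ker_le_range SemidirectProduct.inl SemidirectProduct.rightHom
      (SemidirectProduct.range_inl_eq_ker_rightHom.ge)
  · rw [Cfsg.Agent.S2366.result (F := F) 3 (by norm_num) 3 (by rw [hF]; rfl)]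
    ext s
    simp only [Set.mem_range, Set.mem_union, Set.mem_setOf_eq]
    rw [show Nat.gcd 3 (3 + 1) = 1 from rfl]
    norm_num
    constructor
    · rintro ⟨y, rfl⟩
      obtain ⟨n, hn, h⟩ := pow_cases y
      have hd := orderOf_dvd_of_pow_eq_one h
      fin_cases hn <;> tauto
    · intro hs
      obtain ⟨⟨y8, h8⟩, y12, h12⟩ := exists_large
      obtain ⟨y7, h7⟩ := exists_seven
      rcases hs with ((h | h) | h) | h
      · exact Cfsg.Agent.S2366.exists_orderOf_dvd y8 h8 (h.trans (by norm_num))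
      · exact Cfsg.Agent.S2366.exists_orderOf_dvd y12 h12 h
      · exact Cfsg.Agent.S2366.exists_orderOf_dvd y8 h8 h
      · exact Cfsg.Agent.S2366.exists_orderOf_dvd y7 h7 h

end Cfsg.Agent.S3438
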