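import Mathlib
import Cfsg.Statements.S3439

set_option autoImplicit false
open Cfsg

namespace Cfsg.Agent.S3439

open Matrix Polynomial

/-- The orders which occur. -/
def OrdSet : Set ℕ := {m : ℕ | m ∣ 12 ∨ m ∣ 9 ∨ m ∣ 5}

theorem spectrum_eq {G : Type*} [Group G]
    (hub : ∀ g : G, g ^ 12 = 1 ∨ g ^ 9 = 1 ∨ g ^ 5 = 1)
    (h12 : ∃ g : G, orderOf g = 12) (h9 : ∃ g : G, orderOf g = 9) (h5 : ∃ g : G, orderOf g = 5) :
    Set.range (orderOf : G → ℕ) = OrdSet := by
  ext m
  constructor
  · rintro ⟨g, rfl⟩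
    rcases hub g with h | h | h
    · exact Or.inl (orderOf_dvd_of_pow_eq_one h)
    · exact Or.inr (Or.inl (orderOf_dvd_of_pow_eq_one h))
    · exact Or.inr (Or.inr (orderOf_dvd_of_pow_eq_one h))
  · have key : ∀ n : ℕ, 0 < n → (∃ g : G, orderOf g = n) → m ∣ n → m ∈ Set.range (orderOf : G → ℕ) := by
      rintro n hn ⟨g, hg⟩ hm
      have hm0 : 0 < m := Nat.pos_of_dvd_of_pos hm hn
      refine ⟨g ^ (n / m), ?_⟩
      rw [orderOf_pow' _ (Nat.div_pos (Nat.le_of_dvd hn hm) hm0).ne', hg,
        Nat.gcd_eq_right (Nat.div_dvd_of_dvd hm), Nat.div_div_self hm hn.ne']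
    rintro (h | h | h)
    exacts [key 12 (by norm_num) h12 h, key 9 (by norm_num) h9 h, key 5 (by norm_num) h5 h]

/-! ### The symplectic group -/

local instance three_fact : Fact (Nat.Prime 3) := ⟨Nat.prime_three⟩

/-- The symplectic group of degree four over the field of three elements. -/
abbrev Sp43 := Matrix.symplecticGroup (Fin 2) (ZMod 3)

/-- Multiplication by the matrix on the basis `1, A, A², A³`. -/
def step (a b : ZMod 3) (v : Fin 4 → ZMod 3) : Fin 4 → ZMod 3 :=
  ![-v 3, v 0 - a * v 3, v 1 - b * v 3, v 2 - a * v 3]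

theorem step_cases : ∀ a b : ZMod 3, ∃ k : Fin 13, (k.val = 12 ∨ k.val = 9 ∨ k.val = 5) ∧
    ((step a b)^[k.val] ![1, 0, 0, 0] = ![1, 0, 0, 0] ∨ (step a b)^[k.val] ![1, 0, 0, 0] = ![-1, 0, 0, 0]) := by
  decide +kernel

theorem charpoly_sym (A : Sp43) : A.1.charpoly.coeff 0 = 1 ∧
    A.1.charpoly.coeff 3 = A.1.charpoly.coeff 1 := by
  set M := A.1 with hM
  have hdet : M.det = 1 := SymplecticGroup.det_eq_one A.2
  have hunit : IsUnit M := (Matrix.isUnit_iff_isUnit_det M).2 (by rw [hdet]; exact isUnit_one)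
  have h1 := Matrix.charpoly_inv M hunit
  rw [hdet, Ring.inverse_one] at h1
  have hcard : Fintype.card (Fin 2 ⊕ Fin 2) = 4 := rfl
  rw [hcard, map_one, mul_one, show ((-1 : (ZMod 3)[X]) ^ 4) = 1 by ring, one_mul] at h1
  let Ju : (Matrix (Fin 2 ⊕ Fin 2) (Fin 2 ⊕ Fin 2) (ZMod 3))ˣ :=
    ⟨Matrix.J (Fin 2) (ZMod 3), -Matrix.J (Fin 2) (ZMod 3), by rw [mul_neg, Matrix.J_squared, neg_neg],
      by rw [neg_mul, Matrix.J_squared, neg_neg]⟩
  have h2 : M⁻¹.charpoly = M.charpoly := by
    rw [← SymplecticGroup.coe_inv' A, SymplecticGroup.coe_inv A, ← hM]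
    have h3 := Matrix.charpoly_units_conj' Ju Mᵀ
    rw [show (Ju : Matrix (Fin 2 ⊕ Fin 2) (Fin 2 ⊕ Fin 2) (ZMod 3)) = Matrix.J (Fin 2) (ZMod 3) from rfl,
      Matrix.J_inv, Matrix.charpoly_transpose] at h3
    exact h3
  rw [h2, ← Matrix.reverse_charpoly] at h1
  have hdeg : M.charpoly.natDegree = 4 := by rw [Matrix.charpoly_natDegree_eq_dim, hcard]
  have h3 : ∀ i, M.charpoly.coeff i = M.charpoly.coeff (Polynomial.revAt 4 i) := fun i => by
    conv_lhs => rw [h1, Polynomial.coeff_reverse, hdeg]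
  refine ⟨?_, ?_⟩
  · rw [h3 0, Polynomial.revAt_le (by norm_num), show 4 - 0 = M.charpoly.natDegree by rw [hdeg]]
    exact M.charpoly_monic
  · rw [h3 3, Polynomial.revAt_le (by norm_num)]

theorem pow_central (A : Sp43) : ∃ k : ℕ, (k = 12 ∨ k = 9 ∨ k = 5) ∧
    A ^ k ∈ Subgroup.center Sp43 := by
  set M := A.1 with hM
  obtain ⟨h0, h3⟩ := charpoly_sym A
  set a := M.charpoly.coeff 1 with ha
  set b := M.charpoly.coeff 2 with hb
  have hCH : M ^ 4 = -((1 : ZMod 3) • 1) - a • M - b • M ^ 2 - a • M ^ 3 := by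
    have h := Matrix.aeval_self_charpoly M
    rw [Polynomial.aeval_eq_sum_range, Matrix.charpoly_natDegree_eq_dim,
      show Fintype.card (Fin 2 ⊕ Fin 2) = 4 from rfl] at h
    simp only [Finset.sum_range_succ, Finset.sum_range_zero, zero_add, pow_zero, pow_one] at h
    have h4 : M.charpoly.coeff 4 = 1 := by
      have := M.charpoly_monic
      rwa [Polynomial.Monic, Polynomial.leadingCoeff, Matrix.charpoly_natDegree_eq_dim] at this
    rw [h0, h3, h4, ← ha, ← hb, one_smul, one_smul] at h
    rw [one_smul]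
    linear_combination (norm := abel) h
  have hpow : ∀ n : ℕ, M ^ n = (step a b)^[n] ![1, 0, 0, 0] 0 • 1 + (step a b)^[n] ![1, 0, 0, 0] 1 • M +
      (step a b)^[n] ![1, 0, 0, 0] 2 • M ^ 2 + (step a b)^[n] ![1, 0, 0, 0] 3 • M ^ 3 := by
    intro n
    induction n with
    | zero => simp
    | succ n ih =>
      rw [pow_succ, ih, Function.iterate_succ_apply']
      generalize (step a b)^[n] ![1, 0, 0, 0] = v
      simp only [add_mul, smul_mul_assoc, one_mul, ← pow_succ, ← sq]
      rw [show (2 : ℕ) + 1 = 3 from rfl, show (3 : ℕ) + 1 = 4 from rfl, hCH]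
      simp [step]
      module
  obtain ⟨k, hk, hv⟩ := step_cases a b
  refine ⟨k.val, hk, Subgroup.mem_center_iff.2 fun g => Subtype.ext ?_⟩
  have h := hpow k.val
  change g.1 * (A ^ k.val).1 = (A ^ k.val).1 * g.1
  rw [SubmonoidClass.coe_pow, ← hM, h]
  rcases hv with e | e <;> simp [e]

/-- The quotient by the centre. -/
abbrev P43 := Cfsg.PSp 2 (ZMod 3)

/-- Element of order twelve. -/
def m12 : Matrix (Fin 2 ⊕ Fin 2) (Fin 2 ⊕ Fin 2) (ZMod 3) :=
  Matrix.fromBlocks !![0, 0; 0, 0] !![2, 0; 0, 2] !![1, 0; 0, 1] !![1, 0; 0, 0]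

/-- Element of order nine. -/
def m9 : Matrix (Fin 2 ⊕ Fin 2) (Fin 2 ⊕ Fin 2) (ZMod 3) :=
  Matrix.fromBlocks !![1, 1; 0, 1] !![0, 0; 2, 1] !![0, 0; 0, 0] !![1, 0; 2, 1]

/-- Element of order five. -/
def m5 : Matrix (Fin 2 ⊕ Fin 2) (Fin 2 ⊕ Fin 2) (ZMod 3) :=
  Matrix.fromBlocks !![0, 0; 0, 0] !![2, 0; 0, 2] !![1, 0; 0, 1] !![1, 1; 1, 0]

/-- A witness of non-centrality. -/
def mw : Matrix (Fin 2 ⊕ Fin 2) (Fin 2 ⊕ Fin 2) (ZMod 3) :=
  Matrix.fromBlocks !![1, 1; 0, 1] 0 0 !![1, 0; 2, 1]

theorem mem12 : m12 * Matrix.J (Fin 2) (ZMod 3) * m12ᵀ = Matrix.J (Fin 2) (ZMod 3) := by decide +kernel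
theorem mem9 : m9 * Matrix.J (Fin 2) (ZMod 3) * m9ᵀ = Matrix.J (Fin 2) (ZMod 3) := by decide +kernel
theorem mem5 : m5 * Matrix.J (Fin 2) (ZMod 3) * m5ᵀ = Matrix.J (Fin 2) (ZMod 3) := by decide +kernel
theorem memw : mw * Matrix.J (Fin 2) (ZMod 3) * mwᵀ = Matrix.J (Fin 2) (ZMod 3) := by decide +kernel

theorem cert12 : (m12 ^ 12 = 1) ∧ m12 ^ 6 * mw ≠ mw * m12 ^ 6 ∧ m12 ^ 4 * mw ≠ mw * m12 ^ 4 := by decide +kernel
theorem cert9 : (m9 ^ 9 = 1) ∧ m9 ^ 3 * Matrix.J (Fin 2) (ZMod 3) ≠ Matrix.J (Fin 2) (ZMod 3) * m9 ^ 3 := by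
  decide +kernel
theorem cert5 : (m5 ^ 5 = -1) ∧ m5 * mw ≠ mw * m5 := by decide +kernel

theorem not_central {x y : Sp43} (h : x.1 * y.1 ≠ y.1 * x.1) :
    (QuotientGroup.mk x : P43) ≠ 1 := by
  rw [ne_eq, QuotientGroup.eq_one_iff, Subgroup.mem_center_iff]
  intro hc
  exact h (congrArg Subtype.val (hc y)).symm

theorem psp_spectrum : Set.range (orderOf : P43 → ℕ) = OrdSet := by
  refine spectrum_eq (fun g => ?_) ?_ ?_ ?_
  · obtain ⟨A, rfl⟩ := QuotientGroup.mk_surjective g
    obtain ⟨k, hk, hA⟩ := pow_central A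
    have : (QuotientGroup.mk A : P43) ^ k = 1 := by
      rw [← QuotientGroup.mk_pow, QuotientGroup.eq_one_iff]; exact hA
    rcases hk with rfl | rfl | rfl
    · exact Or.inl this
    · exact Or.inr (Or.inl this)
    · exact Or.inr (Or.inr this)
  · let A : Sp43 := ⟨m12, mem12⟩
    refine ⟨QuotientGroup.mk A, orderOf_eq_of_pow_and_pow_div_prime (by norm_num) ?_ fun p hp hd => ?_⟩
    · rw [← QuotientGroup.mk_pow, show A ^ 12 = 1 from Subtype.ext cert12.1, QuotientGroup.mk_one]
    · rw [← QuotientGroup.mk_pow]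
      have hp' : p = 2 ∨ p = 3 := by
        have := Nat.le_of_dvd (by norm_num) hd
        interval_cases p <;> first | omega | exact absurd hp (by norm_num) | exact absurd hd (by norm_num)
      rcases hp' with rfl | rfl
      · exact not_central (y := ⟨mw, memw⟩) cert12.2.1
      · exact not_central (y := ⟨mw, memw⟩) cert12.2.2
  · let A : Sp43 := ⟨m9, mem9⟩
    refine ⟨QuotientGroup.mk A, orderOf_eq_prime_pow (p := 3) (n := 1) ?_ ?_⟩
    · rw [← QuotientGroup.mk_pow]
      exact not_central (y := SymplecticGroup.symJ (Fin 2) (ZMod 3)) cert9.2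
    · rw [← QuotientGroup.mk_pow, show A ^ 3 ^ (1 + 1) = 1 from Subtype.ext cert9.1, QuotientGroup.mk_one]
  · let A : Sp43 := ⟨m5, mem5⟩
    haveI : Fact (Nat.Prime 5) := ⟨by norm_num⟩
    refine ⟨QuotientGroup.mk A, orderOf_eq_prime ?_ (not_central (y := ⟨mw, memw⟩) cert5.2)⟩
    rw [← QuotientGroup.mk_pow, QuotientGroup.eq_one_iff, Subgroup.mem_center_iff]
    intro g
    apply Subtype.ext
    change g.1 * m5 ^ 5 = m5 ^ 5 * g.1
    rw [cert5.1, mul_neg, mul_one, neg_mul, one_mul]

/-- Change of field. -/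
theorem psp_transfer {F : Type*} [Field F] [Fintype F] (hF : Fintype.card F = 3) :
    Nonempty (Cfsg.PSp 2 F ≃* P43) := by
  obtain ⟨f⟩ : Nonempty (F ≃+* ZMod 3) := ⟨FiniteField.ringEquivOfCardEq (by rw [hF, ZMod.card])⟩
  let e : Matrix.symplecticGroup (Fin 2) F ≃* Sp43 :=
    { toFun := fun A => ⟨A.1.map f, SymplecticGroup.map_mem A.2 f⟩
      invFun := fun A => ⟨A.1.map f.symm, SymplecticGroup.map_mem A.2 f.symm⟩
      left_inv := fun A => Subtype.ext (by ext i j; simp)
      right_inv := fun A => Subtype.ext (by ext i j; simp)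
      map_mul' := fun A B => Subtype.ext (Matrix.map_mul) }
  refine ⟨QuotientGroup.congr _ _ e ?_⟩
  ext x
  rw [Subgroup.mem_map]
  constructor
  · rintro ⟨y, hy, rfl⟩
    rw [Subgroup.mem_center_iff] at hy ⊢
    intro z
    obtain ⟨w, rfl⟩ := e.surjective z
    exact (map_mul e w y).symm.trans ((congrArg e (hy w)).trans (map_mul e y w))
  · intro hx
    refine ⟨e.symm x, ?_, e.apply_symm_apply x⟩
    rw [Subgroup.mem_center_iff] at hx ⊢
    intro z
    apply e.injective
    rw [map_mul, map_mul, e.apply_symm_apply]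
    exact hx _

/-! ### The solvable group -/

section construction

variable {K : Type} [Field K]

/-- The nilpotent group. -/
@[ext] structure Nil (s : K →+* K) where
  a : K
  b : K
  c : K
  e : K
  f : K
  e' : K
  f' : K
  z : K

variable {s : K →+* K}

instance nilMul : Mul (Nil s) := ⟨fun x y => ⟨x.a + y.a, x.b + y.b, x.c + y.c, x.e + y.e + x.a * y.b,
  x.f + y.f + x.b * y.c, x.e' + y.e' + s x.a * y.b, x.f' + y.f' + x.b * s y.c,
  x.z + y.z + (x.a * y.f + x.e * y.c) - (s x.a * y.f' + x.e' * s y.c)⟩⟩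

instance nilOne : One (Nil s) := ⟨⟨0, 0, 0, 0, 0, 0, 0, 0⟩⟩

instance nilInv : Inv (Nil s) := ⟨fun x => ⟨-x.a, -x.b, -x.c, -x.e + x.a * x.b, -x.f + x.b * x.c,
  -x.e' + s x.a * x.b, -x.f' + x.b * s x.c,
  -x.z - (x.a * (-x.f + x.b * x.c) + x.e * (-x.c)) + (s x.a * (-x.f' + x.b * s x.c) + x.e' * s (-x.c))⟩⟩

@[simp] theorem nil_one_a : (1 : Nil s).a = 0 := rfl
@[simp] theorem nil_one_b : (1 : Nil s).b = 0 := rfl
@[simp] theorem nil_one_c : (1 : Nil s).c = 0 := rfl
@[simp] theorem nil_one_e : (1 : Nil s).e = 0 := rfl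
@[simp] theorem nil_one_f : (1 : Nil s).f = 0 := rfl
@[simp] theorem nil_one_e' : (1 : Nil s).e' = 0 := rfl
@[simp] theorem nil_one_f' : (1 : Nil s).f' = 0 := rfl
@[simp] theorem nil_one_z : (1 : Nil s).z = 0 := rfl
@[simp] theorem nil_mul_a (x y : Nil s) : (x * y).a = x.a + y.a := rfl
@[simp] theorem nil_mul_b (x y : Nil s) : (x * y).b = x.b + y.b := rfl
@[simp] theorem nil_mul_c (x y : Nil s) : (x * y).c = x.c + y.c := rfl
@[simp] theorem nil_mul_e (x y : Nil s) : (x * y).e = x.e + y.e + x.a * y.b := rfl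
@[simp] theorem nil_mul_f (x y : Nil s) : (x * y).f = x.f + y.f + x.b * y.c := rfl
@[simp] theorem nil_mul_e' (x y : Nil s) : (x * y).e' = x.e' + y.e' + s x.a * y.b := rfl
@[simp] theorem nil_mul_f' (x y : Nil s) : (x * y).f' = x.f' + y.f' + x.b * s y.c := rfl
@[simp] theorem nil_mul_z (x y : Nil s) : (x * y).z =
    x.z + y.z + (x.a * y.f + x.e * y.c) - (s x.a * y.f' + x.e' * s y.c) := rfl

instance nilGroup : Group (Nil s) where
  mul_assoc x y z := by ext <;> simp <;> ring
  one_mul x := by ext <;> simp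
  mul_one x := by ext <;> simp
  inv_mul_cancel x := by
    ext <;> simp [show ∀ w : Nil s, w⁻¹ = (⟨-w.a, -w.b, -w.c, -w.e + w.a * w.b, -w.f + w.b * w.c,
      -w.e' + s w.a * w.b, -w.f' + w.b * s w.c,
      -w.z - (w.a * (-w.f + w.b * w.c) + w.e * (-w.c)) + (s w.a * (-w.f' + w.b * s w.c) + w.e' * s (-w.c))⟩ : Nil s)
      from fun _ => rfl] <;> ring

theorem nil_cube [CharP K 3] (x : Nil s) :
    x ^ 3 = (⟨0, 0, 0, 0, 0, 0, 0, x.a * x.b * x.c - s x.a * x.b * s x.c⟩ : Nil s) := by
  have h3 : (3 : K) = 0 := by exact_mod_cast CharP.cast_eq_zero K 3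
  rw [pow_succ, pow_two]
  ext <;> simp
  · linear_combination x.a * h3
  · linear_combination x.b * h3
  · linear_combination x.c * h3
  · linear_combination (x.e + x.a * x.b) * h3
  · linear_combination (x.f + x.b * x.c) * h3
  · linear_combination (x.e' + s x.a * x.b) * h3
  · linear_combination (x.f' + x.b * s x.c) * h3
  · linear_combination (x.z + x.a * x.f + x.e * x.c - s x.a * x.f' - x.e' * s x.c) * h3

theorem nil_pow_nine [CharP K 3] (x : Nil s) : x ^ 9 = 1 := by
  rw [show 9 = 3 * 3 from rfl, pow_mul, nil_cube (x ^ 3), nil_cube x]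
  ext <;> simp

instance nilFinite [Finite K] : Finite (Nil s) :=
  Finite.of_injective (fun x : Nil s => (x.a, x.b, x.c, x.e, x.f, x.e', x.f', x.z)) fun x y h => by
    simp only [Prod.mk.injEq] at h
    ext <;> tauto

end construction

/-- The field of eighty-one elements. -/
abbrev F81 := GaloisField 3 4

noncomputable local instance f81_fintype : Fintype F81 := Fintype.ofFinite _

theorem f81_card : Fintype.card F81 = 81 := by
  rw [← Nat.card_eq_fintype_card, GaloisField.card 3 4 (by norm_num)]; norm_num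

theorem f81_pow (x : F81) : x ^ 81 = x := by rw [← f81_card]; exact FiniteField.pow_card x

/-- Powers of the Frobenius map. -/
noncomputable def fr (i : ZMod 4) : F81 →+* F81 := iterateFrobenius F81 3 i.val

theorem fr_def (i : ZMod 4) (x : F81) : fr i x = x ^ 3 ^ i.val := iterateFrobenius_def _ _ _

theorem fr_add (i j : ZMod 4) (x : F81) : fr (i + j) x = fr i (fr j x) := by
  simp only [fr_def, ← pow_mul, ← pow_add]
  have h : ∀ i j : ZMod 4, j.val + i.val = (i + j).val ∨ j.val + i.val = (i + j).val + 4 := by decide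
  rcases h i j with h | h <;> rw [h]
  rw [pow_add, mul_comm (3 ^ _) (3 ^ 4), pow_mul]
  norm_num [f81_pow]

theorem fr_zero (x : F81) : fr 0 x = x := by simp [fr_def, ZMod.val_zero]

/-- The ninth power map. -/
noncomputable abbrev sig : F81 →+* F81 := fr 2

theorem sig_def (x : F81) : sig x = x ^ 9 := by rw [fr_def]; rfl

theorem fr_sig (i : ZMod 4) (x : F81) : fr i (sig x) = sig (fr i x) := by
  rw [← fr_add, ← fr_add, add_comm]

/-- The complement. -/
@[ext] structure Comp where
  d : F81
  i : ZMod 4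
  hd : d ^ 5 = 1

noncomputable instance compMul : Mul Comp := ⟨fun x y => ⟨x.d * fr x.i y.d, x.i + y.i, by
  rw [mul_pow, x.hd, ← map_pow, y.hd, map_one, one_mul]⟩⟩

noncomputable instance compOne : One Comp := ⟨⟨1, 0, one_pow 5⟩⟩

noncomputable instance compInv : Inv Comp := ⟨fun x => ⟨fr (-x.i) x.d⁻¹, -x.i, by
  rw [← map_pow, inv_pow, x.hd, inv_one, map_one]⟩⟩

@[simp] theorem comp_mul_d (x y : Comp) : (x * y).d = x.d * fr x.i y.d := rfl
@[simp] theorem comp_mul_i (x y : Comp) : (x * y).i = x.i + y.i := rfl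
@[simp] theorem comp_one_d : (1 : Comp).d = 1 := rfl
@[simp] theorem comp_one_i : (1 : Comp).i = 0 := rfl

theorem comp_ne_zero (x : Comp) : x.d ≠ 0 := fun h => by
  have := x.hd; rw [h] at this; norm_num at this

noncomputable instance compGroup : Group Comp where
  mul_assoc x y z := by ext <;> simp [fr_add, mul_assoc, add_assoc]
  one_mul x := by ext <;> simp [fr_zero]
  mul_one x := by ext <;> simp
  inv_mul_cancel x := by
    ext
    · change fr (-x.i) x.d⁻¹ * fr (-x.i) x.d = 1
      rw [← map_mul, inv_mul_cancel₀ (comp_ne_zero x), map_one]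
    · exact neg_add_cancel x.i

instance compFinite : Finite Comp :=
  Finite.of_injective (fun x : Comp => (x.d, x.i)) fun x y h => by
    simp only [Prod.mk.injEq] at h
    ext <;> tauto

/-- The nilpotent group in question. -/
abbrev H81 := Nil sig

theorem sig_mem {d : F81} (hd : d ^ 5 = 1) : sig d = d ^ 4 := by
  rw [sig_def, show 9 = 5 + 4 from rfl, pow_add, hd, one_mul]

/-- The action of one element. -/
noncomputable def actFun (k : Comp) (x : H81) : H81 :=
  ⟨k.d * fr k.i x.a, k.d ^ 2 * fr k.i x.b, k.d ^ 4 * fr k.i x.c, k.d ^ 3 * fr k.i x.e,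
    k.d * (fr k.i x.f), k.d * fr k.i x.e', k.d ^ 3 * fr k.i x.f', k.d ^ 2 * fr k.i x.z⟩

theorem act_mul (k : Comp) (x y : H81) : actFun k (x * y) = actFun k x * actFun k y := by
  have h5 := k.hd
  have hs := sig_mem k.hd
  have hs4 : sig (k.d ^ 4) = k.d := by
    rw [map_pow, hs, ← pow_mul, show 4 * 4 = 5 * 3 + 1 from rfl, pow_succ, pow_mul, h5, one_pow, one_mul]
  ext <;> simp only [actFun, nil_mul_a, nil_mul_b, nil_mul_c, nil_mul_e, nil_mul_f, nil_mul_e', nil_mul_f',
    nil_mul_z, map_add, map_sub, map_mul, fr_sig, hs, hs4]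
  · ring
  · ring
  · ring
  · ring
  · linear_combination -(k.d * fr k.i x.b * fr k.i y.c) * h5
  · linear_combination -(k.d * sig (fr k.i x.a) * fr k.i y.b) * h5
  · ring
  · linear_combination (-(k.d ^ 2 * fr k.i x.e * fr k.i y.c) + k.d ^ 2 * sig (fr k.i x.a) * fr k.i y.f') * h5

theorem act_comp (k l : Comp) (x : H81) : actFun (k * l) x = actFun k (actFun l x) := by
  ext <;> simp only [actFun, comp_mul_d, comp_mul_i, map_mul, map_pow, fr_add, mul_pow] <;> ring

theorem act_one (x : H81) : actFun 1 x = x := by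
  ext <;> simp [actFun, fr_zero]

/-- The action. -/
noncomputable def act : Comp →* MulAut H81 :=
  MonoidHom.mk'
    (fun k =>
      { toFun := actFun k
        invFun := actFun k⁻¹
        left_inv := fun x => by rw [← act_comp, inv_mul_cancel, act_one]
        right_inv := fun x => by rw [← act_comp, mul_inv_cancel, act_one]
        map_mul' := act_mul k })
    (fun k l => MulEquiv.ext (act_comp k l))

theorem act_apply (k : Comp) (x : H81) : act k x = actFun k x := rfl

/-- The example. -/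
abbrev Sol := H81 ⋊[act] Comp

theorem sol_finite : Finite Sol :=
  Finite.of_injective (fun g : Sol => (g.left, g.right)) fun x y h => by
    simp only [Prod.mk.injEq] at h
    exact SemidirectProduct.ext h.1 h.2

/-- A power landing in the kernel commutes. -/
theorem inl_commute {g : Sol} {n : ℕ} {x : H81} (hx : g ^ n = SemidirectProduct.inl x) :
    g.left * act g.right x = x * g.left := by
  have h : g * SemidirectProduct.inl x = SemidirectProduct.inl x * g := by rw [← hx]; exact (Commute.self_pow g n).eq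
  have := congrArg SemidirectProduct.left h
  simpa using this

theorem pow_right (g : Sol) (n : ℕ) : (g ^ n).right = g.right ^ n :=
  map_pow SemidirectProduct.rightHom g n

theorem eq_inl {g : Sol} {n : ℕ} (h : g.right ^ n = 1) : g ^ n = SemidirectProduct.inl (g ^ n).left := by
  apply SemidirectProduct.ext
  · simp
  · simp [pow_right, h]

theorem comp_sq {k : Comp} (hi : k.i = 2) : k ^ 2 = 1 := by
  rw [pow_two]
  ext
  · rw [comp_mul_d, hi, comp_one_d, sig_mem k.hd, ← pow_succ', k.hd]
  · rw [comp_mul_i, hi]; rfl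

theorem fixed_cube {g : Sol} (hi : g.right.i = 2) {n : ℕ} {x : H81} (hx : g ^ n = SemidirectProduct.inl x) :
    x ^ 3 = 1 := by
  have h := inl_commute hx
  rw [act_apply] at h
  have ha : g.right.d * sig x.a = x.a := by
    have := congrArg Nil.a h
    simp [actFun, hi] at this
    linear_combination this
  have hc : g.right.d ^ 4 * sig x.c = x.c := by
    have := congrArg Nil.c h
    simp [actFun, hi] at this
    linear_combination this
  rw [nil_cube]
  ext <;> simp
  linear_combination (-(x.b * x.c)) * ha + (-(g.right.d * sig x.a * x.b)) * hc +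
    (sig x.a * x.b * sig x.c) * g.right.hd

theorem sol_spectrum_ub (g : Sol) : g ^ 12 = 1 ∨ g ^ 9 = 1 ∨ g ^ 5 = 1 := by
  have key : ∀ g : Sol, g.right.i = 2 → g ^ 6 = 1 := by
    intro g hi
    have h := eq_inl (g := g) (comp_sq hi)
    rw [show 6 = 2 * 3 from rfl, pow_mul, h, ← map_pow, fixed_cube hi h, map_one]
  obtain ⟨i, hi⟩ : ∃ i, g.right.i = i := ⟨_, rfl⟩
  have h4 : ∀ i : ZMod 4, i = 0 ∨ i = 2 ∨ i + i = 2 := by decide
  rcases h4 i with h | h | h
  · by_cases hd : g.right.d = 1
    · right; left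
      have hr : g.right ^ 1 = 1 := by rw [pow_one]; ext <;> simp [hd, hi, h]
      have h1 := eq_inl (g := g) hr
      rw [pow_one] at h1
      rw [h1, ← map_pow, nil_pow_nine, map_one]
    · right; right
      subst h
      have hk : ∀ m : ℕ, (g.right ^ m).d = g.right.d ^ m ∧ (g.right ^ m).i = 0 := by
        intro m
        induction m with
        | zero => simp
        | succ m ih => rw [pow_succ']; simp [hi, fr_zero, ih, pow_succ']
      have hr : g.right ^ 5 = 1 := by
        ext
        · rw [(hk 5).1, g.right.hd, comp_one_d]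
        · rw [(hk 5).2, comp_one_i]
      have h5 := eq_inl (g := g) hr
      set x := (g ^ 5).left with hx
      have hc := inl_commute h5
      rw [act_apply] at hc
      have hne : ∀ m : ℕ, ¬ 5 ∣ m → ∀ u : F81, g.right.d ^ m * u = u → u = 0 := by
        intro m hm u hu
        by_contra hu0
        have h1 : g.right.d ^ m = 1 := mul_right_cancel₀ hu0 (hu.trans (one_mul u).symm)
        haveI : Fact (Nat.Prime 5) := ⟨by norm_num⟩
        have := orderOf_eq_prime g.right.hd hd
        exact hm (this ▸ orderOf_dvd_of_pow_eq_one h1)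
      have ha : x.a = 0 := hne 1 (by norm_num) _ (by
        have := congrArg Nil.a hc
        simp [actFun, hi, fr_zero] at this
        linear_combination this)
      have hb : x.b = 0 := hne 2 (by norm_num) _ (by
        have := congrArg Nil.b hc
        simp [actFun, hi, fr_zero] at this
        linear_combination this)
      have hc' : x.c = 0 := hne 4 (by norm_num) _ (by
        have := congrArg Nil.c hc
        simp [actFun, hi, fr_zero] at this
        linear_combination this)
      have he : x.e = 0 := hne 3 (by norm_num) _ (by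
        have := congrArg Nil.e hc
        simp [actFun, hi, fr_zero, ha, hb] at this
        linear_combination this)
      have hf : x.f = 0 := hne 1 (by norm_num) _ (by
        have := congrArg Nil.f hc
        simp [actFun, hi, fr_zero, hb, hc'] at this
        linear_combination this)
      have he' : x.e' = 0 := hne 1 (by norm_num) _ (by
        have := congrArg Nil.e' hc
        simp [actFun, hi, fr_zero, ha, hb] at this
        linear_combination this)
      have hf' : x.f' = 0 := hne 3 (by norm_num) _ (by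
        have := congrArg Nil.f' hc
        simp [actFun, hi, fr_zero, hb, hc'] at this
        linear_combination this)
      have hz : x.z = 0 := hne 2 (by norm_num) _ (by
        have := congrArg Nil.z hc
        simp [actFun, hi, fr_zero, ha, hc', he, hf, he', hf'] at this
        linear_combination this)
      rw [h5, show x = 1 by ext <;> simp [ha, hb, hc', he, hf, he', hf', hz], map_one]
  · left
    rw [show 12 = 6 * 2 from rfl, pow_mul, key g (hi.trans h), one_pow]
  · left
    rw [show 12 = 2 * 6 from rfl, pow_mul, key (g ^ 2) ?_]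
    rw [pow_right, pow_two, comp_mul_i, hi, h]

theorem exists_nine : ∃ g : Sol, orderOf g = 9 := by
  obtain ⟨c, hc⟩ : ∃ c : F81, sig c ≠ c := by
    by_contra h
    push Not at h
    have hroot : ∀ x : F81, ((X ^ 9 - X : F81[X])).IsRoot x := fun x => by
      simp [← sig_def, h x]
    have hne : (X ^ 9 - X : F81[X]) ≠ 0 := FiniteField.X_pow_card_sub_X_ne_zero F81 (by norm_num)
    have hcard := Polynomial.card_le_degree_of_subset_roots (p := (X ^ 9 - X : F81[X]))
      (Z := (Finset.univ : Finset F81)) (fun x _ => (Polynomial.mem_roots hne).2 (hroot x))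
    rw [FiniteField.X_pow_card_sub_X_natDegree_eq F81 (by norm_num : 1 < 9), Finset.card_univ, f81_card] at hcard
    norm_num at hcard
  let h : H81 := ⟨1, 1, c, 0, 0, 0, 0, 0⟩
  refine ⟨SemidirectProduct.inl h, ?_⟩
  rw [orderOf_injective _ SemidirectProduct.inl_injective]
  refine orderOf_eq_prime_pow (p := 3) (n := 1) ?_ ?_
  · rw [pow_one, nil_cube]
    intro he
    have := congrArg Nil.z he
    simp [h] at this
    exact hc (sub_eq_zero.1 this).symm
  · exact nil_pow_nine h

theorem exists_five : ∃ g : Sol, orderOf g = 5 := by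
  haveI : Fact (Nat.Prime 5) := ⟨by norm_num⟩
  obtain ⟨u, hu⟩ := exists_prime_orderOf_dvd_card' 5 (G := F81ˣ) (by
    rw [Nat.card_units, Nat.card_eq_fintype_card, f81_card]; norm_num)
  have hu5 : (u : F81) ^ 5 = 1 := by
    rw [← Units.val_pow_eq_pow_val, ← hu, pow_orderOf_eq_one, Units.val_one]
  let k : Comp := ⟨u, 0, hu5⟩
  refine ⟨SemidirectProduct.inr k, ?_⟩
  rw [orderOf_injective _ SemidirectProduct.inr_injective]
  have hk : ∀ m : ℕ, (k ^ m).d = (u : F81) ^ m ∧ (k ^ m).i = 0 := by
    intro m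
    induction m with
    | zero => simp
    | succ m ih => rw [pow_succ']; simp [k, fr_zero, ih, pow_succ']
  refine orderOf_eq_prime ?_ fun h => ?_
  · ext
    · rw [(hk 5).1, hu5, comp_one_d]
    · rw [(hk 5).2, comp_one_i]
  · have h1 : (u : F81) = 1 := congrArg Comp.d h
    rw [Units.val_eq_one.1 h1, orderOf_one] at hu
    norm_num at hu

theorem exists_twelve : ∃ g : Sol, orderOf g = 12 := by
  let k : Comp := ⟨1, 1, one_pow 5⟩
  let h : H81 := ⟨1, 0, 0, 0, 0, 0, 0, 0⟩
  have hfix : act k h = h := by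
    ext <;> simp [act_apply, actFun, k, h]
  have hk : orderOf k = 4 := by
    refine orderOf_eq_prime_pow (p := 2) (n := 1) ?_ ?_
    · intro he
      have := congrArg Comp.i he
      simp [k, pow_two] at this
      exact absurd this (by decide)
    · ext <;> simp [k, pow_succ, fr_zero]
      all_goals decide
  have hh : orderOf h = 3 := by
    refine orderOf_eq_prime ?_ fun he => ?_
    · rw [nil_cube]; ext <;> simp [h]
    · exact one_ne_zero (congrArg Nil.a he)
  have hc : Commute (SemidirectProduct.inl h : Sol) (SemidirectProduct.inr k) := by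
    apply SemidirectProduct.ext <;> simp [hfix]
  refine ⟨SemidirectProduct.inl h * SemidirectProduct.inr k, ?_⟩
  rw [hc.orderOf_mul_eq_mul_orderOf_of_coprime] <;>
    rw [orderOf_injective _ SemidirectProduct.inl_injective, orderOf_injective _ SemidirectProduct.inr_injective,
      hh, hk]
  norm_num

theorem sol_solvable : Group.IsSolvable Sol := by
  haveI := sol_finite
  haveI : Group.IsSolvable H81 := by
    have : IsPGroup 3 H81 := fun g => ⟨2, nil_pow_nine g⟩
    have := this.isNilpotent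
    infer_instance
  haveI : Group.IsSolvable Comp := by
    let q : Comp →* Multiplicative (ZMod 4) :=
      { toFun := fun k => Multiplicative.ofAdd k.i
        map_one' := rfl
        map_mul' := fun _ _ => rfl }
    let r : rootsOfUnity 5 F81 →* Comp :=
      { toFun := fun u => ⟨((u : F81ˣ) : F81), 0, by
          rw [← Units.val_pow_eq_pow_val, (mem_rootsOfUnity 5 _).1 u.2, Units.val_one]⟩
        map_one' := by ext <;> simp
        map_mul' := fun u v => by ext <;> simp [fr_zero] }
    refine solvable_of_ker_le_range r q fun k hk => ?_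
    refine ⟨⟨Units.mk0 k.d (comp_ne_zero k), (mem_rootsOfUnity 5 _).2 (Units.ext (by simpa using k.hd))⟩, ?_⟩
    ext
    · rfl
    · exact (Multiplicative.ofAdd.injective (hk : Multiplicative.ofAdd k.i = Multiplicative.ofAdd 0)).symm
  exact solvable_of_ker_le_range (SemidirectProduct.inl : H81 →* Sol) SemidirectProduct.rightHom
    (SemidirectProduct.range_inl_eq_ker_rightHom).ge


/-- There is a finite solvable group with exactly the same set of element orders as the simple group PSp(4,3). -/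
theorem result {F : Type*} [Field F] [Fintype F] (hF : Fintype.card F = 3) :
    ∃ (H : Type) (_ : Group H) (_ : Fintype H), Group.IsSolvable H ∧ Set.range (orderOf : H → ℕ) = Set.range (orderOf : Cfsg.PSp 2 F → ℕ) := by
  classical
  haveI := sol_finite
  obtain ⟨e⟩ := psp_transfer hF
  refine ⟨Sol, inferInstance, Fintype.ofFinite _, sol_solvable, ?_⟩
  rw [spectrum_eq sol_spectrum_ub exists_twelve exists_nine exists_five, ← psp_spectrum]
  ext m
  constructor
  · rintro ⟨g, rfl⟩; exact ⟨e.symm g, MulEquiv.orderOf_eq e.symm g⟩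
  · rintro ⟨g, rfl⟩; exact ⟨e g, MulEquiv.orderOf_eq e g⟩

end Cfsg.Agent.S3439
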