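import Cfsg.Statements.S3443
import Mathlib

set_option autoImplicit false
open Cfsg

namespace Cfsg.Agent.S3443

/-- Let G be a finite group and V a normal elementary abelian subgroup of G (abelian of prime exponent p, possibly trivial). Then the semidirect product V ⋊ G, with G acting on V by conjugation, has exactly the same set of element orders as G. -/
theorem result {G : Type*} [Group G] [Finite G] (V : Subgroup G) [V.Normal] (p : ℕ) (hp : p.Prime)
    (hcomm : ∀ x y : V, x * y = y * x) (hexp : ∀ x : V, x ^ p = 1) :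
    Set.range (orderOf : V ⋊[MulAut.conjNormal] G → ℕ) = Set.range (orderOf : G → ℕ) := by
  classical
  have hmulleft : ∀ x : V ⋊[MulAut.conjNormal] G, ∀ n : ℕ, ((x ^ n).left : G) * (x ^ n).right = ((x.left : G) * x.right) ^ n ∧
      (x ^ n).right = x.right ^ n := by
    intro x n
    induction n with
    | zero => simp
    | succ n ih =>
      rw [pow_succ, pow_succ, pow_succ]
      refine ⟨?_, by rw [SemidirectProduct.mul_right, ih.2]⟩
      rw [SemidirectProduct.mul_left, SemidirectProduct.mul_right, Subgroup.coe_mul, MulAut.conjNormal_apply, ← ih.1]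
      group
  have hone : ∀ x : V ⋊[MulAut.conjNormal] G, x = 1 ↔ (x.left : G) * x.right = 1 ∧ x.right = 1 := by
    intro x
    refine ⟨fun h => by subst h; simp, fun h => ?_⟩
    refine SemidirectProduct.ext ?_ h.2
    have := h.1
    rw [h.2, mul_one] at this
    exact Subtype.ext this
  have hord : ∀ x : V ⋊[MulAut.conjNormal] G, orderOf x = Nat.lcm (orderOf ((x.left : G) * x.right)) (orderOf x.right) := by
    intro x
    refine Nat.dvd_antisymm (orderOf_dvd_of_pow_eq_one ((hone _).2 ?_)) (Nat.lcm_dvd ?_ ?_)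
    · rw [(hmulleft x _).1, (hmulleft x _).2]
      exact ⟨orderOf_dvd_iff_pow_eq_one.1 (Nat.dvd_lcm_left _ _), orderOf_dvd_iff_pow_eq_one.1 (Nat.dvd_lcm_right _ _)⟩
    · refine orderOf_dvd_of_pow_eq_one ?_
      rw [← (hmulleft x _).1, pow_orderOf_eq_one]
      simp
    · refine orderOf_dvd_of_pow_eq_one ?_
      rw [← (hmulleft x _).2, pow_orderOf_eq_one]
      simp
  have hpair : ∀ (v : V) (g : G), orderOf ((v : G) * g) ∣ orderOf g * p := by
    intro v g
    refine orderOf_dvd_of_pow_eq_one ?_
    have hmem : ((v : G) * g) ^ orderOf g ∈ V := by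
      rw [← QuotientGroup.eq_one_iff, QuotientGroup.mk_pow, QuotientGroup.mk_mul, (QuotientGroup.eq_one_iff _).2 v.2,
        one_mul, ← QuotientGroup.mk_pow, pow_orderOf_eq_one]
      rfl
    rw [pow_mul]
    exact congrArg Subtype.val (hexp ⟨_, hmem⟩)
  ext m
  simp only [Set.mem_range]
  constructor
  · rintro ⟨x, rfl⟩
    rw [hord x]
    set a := orderOf ((x.left : G) * x.right) with ha
    set b := orderOf x.right with hb
    have h1 : a ∣ b * p := hpair _ _
    have h2 : b ∣ a * p := by
      have := hpair x.left⁻¹ ((x.left : G) * x.right)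
      rwa [Subgroup.coe_inv, inv_mul_cancel_left] at this
    have hkey : a ∣ b ∨ b ∣ a := by
      obtain ⟨a', b', hco, haa, hbb⟩ := Nat.exists_coprime a b
      set d := Nat.gcd a b
      have hd : 0 < d := Nat.gcd_pos_of_pos_left _ (orderOf_pos _)
      rw [haa, hbb, mul_comm a', mul_comm b', mul_assoc, Nat.mul_dvd_mul_iff_left hd] at h1
      rw [haa, hbb, mul_comm a', mul_comm b', mul_assoc, Nat.mul_dvd_mul_iff_left hd] at h2
      rcases (Nat.dvd_prime hp).1 (hco.dvd_of_dvd_mul_left h1) with e | e
      · left; rw [haa, hbb, e, one_mul]; exact dvd_mul_left _ _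
      rcases (Nat.dvd_prime hp).1 (hco.symm.dvd_of_dvd_mul_left h2) with e' | e'
      · right; rw [haa, hbb, e', one_mul]; exact dvd_mul_left _ _
      · rw [e, e'] at hco
        exact absurd (Nat.dvd_one.1 (hco ▸ Nat.dvd_gcd dvd_rfl dvd_rfl)) hp.one_lt.ne'
    rcases hkey with h | h
    · exact ⟨x.right, (Nat.lcm_eq_right h).symm⟩
    · exact ⟨_, (Nat.lcm_eq_left h).symm⟩
  · rintro ⟨g, rfl⟩
    exact ⟨SemidirectProduct.inr g, orderOf_injective _ SemidirectProduct.inr_injective g⟩

end Cfsg.Agent.S3443
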