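import Cfsg.Statements.S3448
import Mathlib

set_option autoImplicit false
open Cfsg

namespace Cfsg.Agent.S3448

theorem a5_exp : ∀ g : alternatingGroup (Fin 5), g ^ 2 = 1 ∨ g ^ 3 = 1 ∨ g ^ 5 = 1 := by
  decide +kernel

theorem a5_order (g : alternatingGroup (Fin 5)) :
    orderOf g = 1 ∨ orderOf g = 2 ∨ orderOf g = 3 ∨ orderOf g = 5 := by
  rcases a5_exp g with h | h | h <;>
    rcases (Nat.dvd_prime (by norm_num)).mp (orderOf_dvd_of_pow_eq_one h) with e | e <;> simp [e]

/-- An element of order two. -/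
def e2 : alternatingGroup (Fin 5) :=
  ⟨Equiv.swap 0 1 * Equiv.swap 2 3, Equiv.Perm.mem_alternatingGroup.mpr (by decide +kernel)⟩

/-- An element of order three. -/
def e3 : alternatingGroup (Fin 5) :=
  ⟨Equiv.swap 0 1 * Equiv.swap 1 2, Equiv.Perm.mem_alternatingGroup.mpr (by decide +kernel)⟩

/-- An element of order five. -/
def e5 : alternatingGroup (Fin 5) :=
  ⟨Equiv.swap 0 1 * Equiv.swap 1 2 * Equiv.swap 2 3 * Equiv.swap 3 4, Equiv.Perm.mem_alternatingGroup.mpr (by decide +kernel)⟩

theorem he2 : orderOf e2 = 2 := by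
  haveI : Fact (Nat.Prime 2) := ⟨by norm_num⟩
  exact orderOf_eq_prime (by decide +kernel) (by decide +kernel)

theorem he3 : orderOf e3 = 3 := by
  haveI : Fact (Nat.Prime 3) := ⟨by norm_num⟩
  exact orderOf_eq_prime (by decide +kernel) (by decide +kernel)

theorem he5 : orderOf e5 = 5 := by
  haveI : Fact (Nat.Prime 5) := ⟨by norm_num⟩
  exact orderOf_eq_prime (by decide +kernel) (by decide +kernel)


/-- The set of element orders of the direct product of two copies of the alternating group of degree 5 is {1, 2, 3, 5, 6, 10, 15}. (It is shared by the direct product of two Frobenius groups of orders 50 and 75, so this direct product is not determined by its element orders.) -/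
theorem result : Set.range (orderOf : alternatingGroup (Fin 5) × alternatingGroup (Fin 5) → ℕ) = {1, 2, 3, 5, 6, 10, 15} := by
  ext n
  simp only [Set.mem_range, Set.mem_insert_iff, Set.mem_singleton_iff]
  constructor
  · rintro ⟨⟨a, b⟩, rfl⟩
    rw [Prod.orderOf]
    rcases a5_order a with h | h | h | h <;> rcases a5_order b with h' | h' | h' | h' <;>
      simp [h, h', Nat.lcm]
  · rintro (rfl | rfl | rfl | rfl | rfl | rfl | rfl)
    · exact ⟨1, orderOf_one⟩
    · exact ⟨(e2, 1), by simp [Prod.orderOf, he2]⟩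
    · exact ⟨(e3, 1), by simp [Prod.orderOf, he3]⟩
    · exact ⟨(e5, 1), by simp [Prod.orderOf, he5]⟩
    · exact ⟨(e2, e3), by simp [Prod.orderOf, he2, he3, Nat.lcm]⟩
    · exact ⟨(e2, e5), by simp [Prod.orderOf, he2, he5, Nat.lcm]⟩
    · exact ⟨(e3, e5), by simp [Prod.orderOf, he3, he5, Nat.lcm]⟩

end Cfsg.Agent.S3448
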