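import Cfsg.Statements.S3449
import Mathlib

set_option autoImplicit false
open Cfsg

namespace Cfsg.Agent.S3449

theorem a5_exp : ∀ g : alternatingGroup (Fin 5), g ^ 2 = 1 ∨ g ^ 3 = 1 ∨ g ^ 5 = 1 := by
  decide +kernel

theorem a5_order (g : alternatingGroup (Fin 5)) :
    orderOf g = 1 ∨ orderOf g = 2 ∨ orderOf g = 3 ∨ orderOf g = 5 := by
  rcases a5_exp g with h | h | h <;>
    rcases (Nat.dvd_prime (by norm_num)).mp (orderOf_dvd_of_pow_eq_one h) with e | e <;> simp [e]

/-- An element of order two. -/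
def e2 : alternatingGroup (Fin 5) :=
  ⟨Equiv.swap 0 1 * Equiv.swap 2 3, Equiv.Perm.mem_alternatingGroup.mpr (by decide +kernel)⟩

/-- An element of order three. -/
def e3 : alternatingGroup (Fin 5) :=
  ⟨Equiv.swap 0 1 * Equiv.swap 1 2, Equiv.Perm.mem_alternatingGroup.mpr (by decide +kernel)⟩

/-- An element of order five. -/
def e5 : alternatingGroup (Fin 5) :=
  ⟨Equiv.swap 0 1 * Equiv.swap 1 2 * Equiv.swap 2 3 * Equiv.swap 3 4, Equiv.Perm.mem_alternatingGroup.mpr (by decide +kernel)⟩

theorem he2 : orderOf e2 = 2 := by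
  haveI : Fact (Nat.Prime 2) := ⟨by norm_num⟩
  exact orderOf_eq_prime (by decide +kernel) (by decide +kernel)

theorem he3 : orderOf e3 = 3 := by
  haveI : Fact (Nat.Prime 3) := ⟨by norm_num⟩
  exact orderOf_eq_prime (by decide +kernel) (by decide +kernel)

theorem he5 : orderOf e5 = 5 := by
  haveI : Fact (Nat.Prime 5) := ⟨by norm_num⟩
  exact orderOf_eq_prime (by decide +kernel) (by decide +kernel)


/-- The direct product of three copies of the alternating group of degree 5 has exactly the same set of element orders as the cyclic group of order 30, namely the divisors of 30; in particular a direct power of a non-abelian simple group need not be determined by its element orders. -/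
theorem result : Set.range (orderOf : alternatingGroup (Fin 5) × alternatingGroup (Fin 5) × alternatingGroup (Fin 5) → ℕ) =
      Set.range (orderOf : Multiplicative (ZMod 30) → ℕ) := by
  ext n
  simp only [Set.mem_range]
  have hgen : orderOf (Multiplicative.ofAdd (1 : ZMod 30)) = 30 := by
    rw [orderOf_ofAdd_eq_addOrderOf, ZMod.addOrderOf_one]
  constructor
  · rintro ⟨⟨a, b, c⟩, rfl⟩
    rw [Prod.orderOf, Prod.orderOf]
    have hd : Nat.lcm (orderOf a) (Nat.lcm (orderOf b) (orderOf c)) ∣ 30 := by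
      refine Nat.lcm_dvd ?_ (Nat.lcm_dvd ?_ ?_) <;> [rcases a5_order a with h | h | h | h;
        rcases a5_order b with h | h | h | h; rcases a5_order c with h | h | h | h] <;>
        rw [h] <;> norm_num
    obtain ⟨k, hk⟩ := hd
    have hk0 : k ≠ 0 := by rintro rfl; simp at hk
    refine ⟨Multiplicative.ofAdd (1 : ZMod 30) ^ k, ?_⟩
    rw [orderOf_pow_of_dvd hk0 (by rw [hgen]; exact Dvd.intro_left _ hk.symm), hgen, hk,
      Nat.mul_div_cancel _ (Nat.pos_of_ne_zero hk0)]
  · rintro ⟨z, rfl⟩
    have hd : orderOf z ∣ 30 := by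
      refine orderOf_dvd_natCard z |>.trans (dvd_of_eq ?_)
      rw [Nat.card_eq_fintype_card, Fintype.card_multiplicative, ZMod.card]
    have hle := Nat.le_of_dvd (by norm_num) hd
    have hpos := orderOf_pos z
    obtain ⟨a, b, c, he⟩ : ∃ a b c : alternatingGroup (Fin 5),
        Nat.lcm (orderOf a) (Nat.lcm (orderOf b) (orderOf c)) = orderOf z := by
      generalize orderOf z = m at hd hle hpos
      interval_cases m <;> norm_num at hd
      · exact ⟨1, 1, 1, by simp⟩
      · exact ⟨e2, 1, 1, by simp [he2]⟩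
      · exact ⟨e3, 1, 1, by simp [he3]⟩
      · exact ⟨e5, 1, 1, by simp [he5]⟩
      · exact ⟨e2, e3, 1, by simp [he2, he3, Nat.lcm]⟩
      · exact ⟨e2, e5, 1, by simp [he2, he5, Nat.lcm]⟩
      · exact ⟨e3, e5, 1, by simp [he3, he5, Nat.lcm]⟩
      · exact ⟨e2, e3, e5, by simp [he2, he3, he5, Nat.lcm]⟩
    exact ⟨(a, b, c), by rw [Prod.orderOf, Prod.orderOf]; exact he⟩

end Cfsg.Agent.S3449
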