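import Cfsg.Statements.S3452
import Mathlib
import Cfsg.Agent.Lib.Recog.PGLTwoSpectrum
import Cfsg.Agent.Lib.Spec.PSLTwoSpectrum
import Cfsg.Agent.Lib.Spec.Unbounded
import Cfsg.Agent.S0144

set_option autoImplicit false
open Cfsg

namespace Cfsg.Agent.S3452

open Matrix
open scoped MatrixGroups

section Semidirect

variable {W G : Type*} [CommGroup W] [Group G] (φ : G →* MulAut W)

theorem sd_pow_left (x : W ⋊[φ] G) : ∀ n : ℕ,
    (x ^ n).left = ∏ i ∈ Finset.range n, φ (x.right ^ i) x.left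
  | 0 => by simp
  | n + 1 => by
    rw [pow_succ, SemidirectProduct.mul_left, sd_pow_left x n, Finset.prod_range_succ]
    congr 2
    exact congrArg φ (map_pow (SemidirectProduct.rightHom (φ := φ)) x n)

theorem sd_orderOf_dvd (x : W ⋊[φ] G) (hfix : ∀ w, φ x.right w = w → w = 1) :
    orderOf x ∣ orderOf x.right := by
  set d := orderOf x.right
  have hyd : (x ^ d).right = 1 :=
    (map_pow (SemidirectProduct.rightHom (φ := φ)) x d).trans (pow_orderOf_eq_one x.right)
  refine orderOf_dvd_of_pow_eq_one (SemidirectProduct.ext (hfix _ ?_) hyd)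
  have hc : x * x ^ d = x ^ d * x := by rw [← pow_succ, ← pow_succ']
  have h := congrArg SemidirectProduct.left hc
  rw [SemidirectProduct.mul_left, SemidirectProduct.mul_left, hyd, map_one, MulAut.one_apply,
    mul_comm (x ^ d).left] at h
  exact mul_left_cancel h

theorem sd_orderOf_dvd_mul {l : ℕ} (hW : ∀ w : W, w ^ l = 1) (x : W ⋊[φ] G) :
    orderOf x ∣ orderOf x.right * l := by
  set d := orderOf x.right
  have hyd : (x ^ d).right = 1 :=
    (map_pow (SemidirectProduct.rightHom (φ := φ)) x d).trans (pow_orderOf_eq_one x.right)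
  have hydl : x ^ d = SemidirectProduct.inl (x ^ d).left := SemidirectProduct.ext rfl hyd
  refine orderOf_dvd_of_pow_eq_one ?_
  rw [pow_mul, hydl, ← map_pow, hW, map_one]

theorem sd_large [Finite W] [Finite G] [Nontrivial W] {l : ℕ} (hl : l.Prime)
    (hW : ∀ w : W, w ^ l = 1) {S : Set ℕ}
    (hS : Set.range (orderOf : W ⋊[φ] G → ℕ) = S) (N : ℕ) :
    ∃ (H : Type) (_ : Group H) (_ : Fintype H), N < Fintype.card H ∧
      Set.range (orderOf : H → ℕ) = S := by
  haveI : Finite (W ⋊[φ] G) := Finite.of_equiv _ SemidirectProduct.equivProd.symm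
  set A := (SemidirectProduct.rightHom (φ := φ)).ker with hA
  have h := Cfsg.Lib.Spec.exists_isospectral_large A ?_ hl ?_ N
  · rwa [hS] at h
  · obtain ⟨w, hw⟩ := exists_ne (1 : W)
    intro h
    have hm : SemidirectProduct.inl w ∈ A := by rw [hA, MonoidHom.mem_ker]; simp
    rw [h, Subgroup.mem_bot] at hm
    exact hw (SemidirectProduct.inl_injective (hm.trans (map_one _).symm))
  · intro a ha
    have ha' : a = SemidirectProduct.inl a.left := SemidirectProduct.ext rfl ha
    rw [ha', ← map_pow, hW, map_one]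

end Semidirect

section TraceModule

variable {G : Type*} [Group G]

abbrev Z2 := Multiplicative (ZMod 2)

theorem z2_sq : ∀ w : Z2, w ^ 2 = 1 := by decide

/-- Functions whose products over every coset of a subgroup of order `p` vanish. -/
def cuspMod (G : Type*) [Group G] (p : ℕ) : Subgroup (G → Z2) where
  carrier := {f | ∀ x u : G, orderOf u = p → ∏ i ∈ Finset.range p, f (x * u ^ i) = 1}
  mul_mem' {a b} ha hb x u hu := by
    simp only [Pi.mul_apply, Finset.prod_mul_distrib, ha x u hu, hb x u hu, mul_one]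
  one_mem' x u _ := by simp
  inv_mem' {a} ha x u hu := by simp only [Pi.inv_apply, Finset.prod_inv_distrib, ha x u hu, inv_one]

/-- Left translation. -/
def transl (G : Type*) [Group G] (p : ℕ) : G →* MulAut (cuspMod G p) where
  toFun g :=
    { toFun := fun f => ⟨fun x => f.1 (g⁻¹ * x), fun x u hu => by
        simpa [mul_assoc] using f.2 (g⁻¹ * x) u hu⟩
      invFun := fun f => ⟨fun x => f.1 (g * x), fun x u hu => by
        simpa [mul_assoc] using f.2 (g * x) u hu⟩
      left_inv := fun f => Subtype.ext (funext fun x => by simp)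
      right_inv := fun f => Subtype.ext (funext fun x => by simp)
      map_mul' := fun a b => rfl }
  map_one' := MulEquiv.ext fun f => Subtype.ext (funext fun x => by simp)
  map_mul' a b := MulEquiv.ext fun f => Subtype.ext (funext fun x => by simp [mul_assoc])

theorem transl_apply (p : ℕ) (g : G) (f : cuspMod G p) (x : G) :
    (transl G p g f).1 x = f.1 (g⁻¹ * x) := rfl

theorem transl_fpf {p : ℕ} [Fact p.Prime] (hp : p ≠ 2) {g : G} (hg : orderOf g = p) (f : cuspMod G p)
    (h : transl G p g f = f) : f = 1 := by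
  have hinv : ∀ x, f.1 (g * x) = f.1 x := fun x => by
    have := congrFun (congrArg Subtype.val h) (g * x)
    rw [transl_apply, inv_mul_cancel_left] at this
    exact this.symm
  have hpow : ∀ (i : ℕ) (x : G), f.1 (g ^ i * x) = f.1 x := by
    intro i
    induction i with
    | zero => simp
    | succ i ih => intro x; rw [pow_succ, mul_assoc, ih, hinv]
  refine Subtype.ext (funext fun x => ?_)
  have hord : orderOf (x⁻¹ * g * x) = p := by
    rw [← hg]
    exact orderOf_injective (MulAut.conj x⁻¹).toMonoidHom (MulEquiv.injective _) g |>.symm ▸ by simp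
  have h1 := f.2 x (x⁻¹ * g * x) hord
  have heq : ∀ i : ℕ, x * (x⁻¹ * g * x) ^ i = g ^ i * x := by
    intro i
    induction i with
    | zero => simp
    | succ i ih => rw [pow_succ, ← mul_assoc, ih, pow_succ]; group
  simp only [heq, hpow, Finset.prod_const, Finset.card_range] at h1
  obtain ⟨k, rfl⟩ := (Fact.out : p.Prime).odd_of_ne_two hp
  rwa [pow_succ, pow_mul, z2_sq, one_pow, one_mul] at h1

open Classical in
theorem trace_module_spectrum [Finite G] {p : ℕ} [Fact p.Prime] (h5 : 5 ≤ p) (P : G → Prop)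
    (hspec : Set.range (orderOf : G → ℕ) = {m : ℕ | m ∣ p ∨ m ∣ (p - 1) / 2 ∨ m ∣ (p + 1) / 2})
    (hP : ∀ x u : G, orderOf u = p → Even ((Finset.range p).filter fun i => P (x * u ^ i)).card)
    (hdbl : ∀ g : G, (orderOf g).Coprime p → g ≠ 1 →
      ∃ x, P x ∧ ∀ i < orderOf g, P ((g ^ i)⁻¹ * x) → i = 0)
    (N : ℕ) :
    ∃ (H : Type) (_ : Group H) (_ : Fintype H), N < Fintype.card H ∧
      Set.range (orderOf : H → ℕ) = {m : ℕ | m ∣ p ∨ m ∣ p - 1 ∨ m ∣ p + 1} := by
  have hpp : p.Prime := Fact.out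
  have hp2 : p ≠ 2 := by omega
  obtain ⟨m, hm⟩ := hpp.odd_of_ne_two hp2
  let z : Z2 := Multiplicative.ofAdd 1
  have hz : z ≠ 1 := by decide
  let f₀ : cuspMod G p := ⟨fun x => if P x then z else 1, fun x u hu => by
    rw [Finset.prod_ite, Finset.prod_const, Finset.prod_const_one, mul_one]
    obtain ⟨k, hk⟩ := hP x u hu
    rw [hk, ← two_mul, pow_mul, z2_sq, one_pow]⟩
  have hW : ∀ w : cuspMod G p, w ^ 2 = 1 := fun w => Subtype.ext (funext fun x => z2_sq _)
  have key : ∀ k, 2 ≤ k → k.Coprime p → (∃ g : G, orderOf g = k) →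
      ∃ y : cuspMod G p ⋊[transl G p] G, orderOf y = 2 * k := by
    rintro k hk hkp ⟨g, rfl⟩
    have hg1 : g ≠ 1 := by rintro rfl; simp at hk
    obtain ⟨x, hx, hi⟩ := hdbl g hkp hg1
    refine ⟨⟨f₀, g⟩, ?_⟩
    set y : cuspMod G p ⋊[transl G p] G := ⟨f₀, g⟩
    have h2 : orderOf y ∣ orderOf g * 2 := sd_orderOf_dvd_mul _ hW y
    have h1 : orderOf g ∣ orderOf y := orderOf_map_dvd SemidirectProduct.rightHom y
    have hne : ¬ orderOf y ∣ orderOf g := by
      intro hd
      have h := congrArg SemidirectProduct.left (orderOf_dvd_iff_pow_eq_one.1 hd)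
      rw [sd_pow_left, SemidirectProduct.one_left] at h
      have h' := congrFun (congrArg Subtype.val h) x
      rw [Subgroup.val_finsetProd, Finset.prod_apply, Finset.prod_eq_single_of_mem 0
        (Finset.mem_range.2 (orderOf_pos g))] at h'
      · simp [y, f₀, hx, hz] at h'
      · intro i hi' hi0
        show (if P ((g ^ i)⁻¹ * x) then z else 1) = 1
        rw [if_neg fun hc => hi0 (hi i (Finset.mem_range.1 hi') hc)]
    obtain ⟨c, hc⟩ := h1
    rw [hc] at h2 hne
    have hc2 : c ∣ 2 := Nat.dvd_of_mul_dvd_mul_left (orderOf_pos g) h2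
    rcases (Nat.dvd_prime Nat.prime_two).1 hc2 with rfl | rfl
    · exact absurd (by simp) hne
    · rw [hc, mul_comm]
  obtain ⟨gp, hgp⟩ : p ∈ Set.range (orderOf : G → ℕ) := hspec ▸ Or.inl dvd_rfl
  have hcop : ∀ k, k ∣ p - 1 ∨ k ∣ p + 1 → k.Coprime p := by
    intro k hk
    refine Nat.coprime_comm.1 ((hpp.coprime_iff_not_dvd).2 fun hpk => ?_)
    rcases hk with h | h
    · have := Nat.le_of_dvd (by omega) (hpk.trans h); omega
    · have := (Nat.dvd_add_right dvd_rfl).1 (hpk.trans h)
      have := Nat.le_of_dvd one_pos this; omega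
  haveI : Nontrivial (cuspMod G p) := by
    obtain ⟨gm, hgm⟩ : (p + 1) / 2 ∈ Set.range (orderOf : G → ℕ) := hspec ▸ Or.inr (Or.inr dvd_rfl)
    obtain ⟨x, hx, -⟩ := hdbl gm (hgm ▸ hcop _ (Or.inr ⟨2, by omega⟩))
      (fun h => by rw [h, orderOf_one] at hgm; omega)
    exact ⟨⟨f₀, 1, fun h => hz (by simpa [f₀, hx] using congrFun (congrArg Subtype.val h) x)⟩⟩
  refine sd_large (transl G p) Nat.prime_two hW ?_ N
  ext n
  constructor
  · rintro ⟨y, rfl⟩
    have hy : orderOf y.right ∈ Set.range (orderOf : G → ℕ) := ⟨_, rfl⟩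
    rw [hspec] at hy
    rcases hy with h | h | h
    · rcases (Nat.dvd_prime hpp).1 h with h1 | h1
      · right; left
        refine (sd_orderOf_dvd_mul _ hW y).trans ?_
        rw [h1]
        exact ⟨m, by omega⟩
      · left
        exact (sd_orderOf_dvd _ y (transl_fpf hp2 h1)).trans h1.dvd
    · right; left
      refine (sd_orderOf_dvd_mul _ hW y).trans ?_
      have := Nat.mul_dvd_mul_right h 2
      rwa [show (p - 1) / 2 * 2 = p - 1 by omega] at this
    · right; right
      refine (sd_orderOf_dvd_mul _ hW y).trans ?_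
      have := Nat.mul_dvd_mul_right h 2
      rwa [show (p + 1) / 2 * 2 = p + 1 by omega] at this
  · intro hn
    suffices hbig : ∃ y : cuspMod G p ⋊[transl G p] G, n ∣ orderOf y by
      obtain ⟨y, hy⟩ := hbig
      haveI : Finite (cuspMod G p ⋊[transl G p] G) := Finite.of_equiv _ SemidirectProduct.equivProd.symm
      exact ⟨y ^ (orderOf y / n), orderOf_pow_orderOf_div (orderOf_pos y).ne' hy⟩
    rcases hn with h | h | h
    · exact ⟨SemidirectProduct.inr gp, by
        rw [orderOf_injective _ SemidirectProduct.inr_injective, hgp]; exact h⟩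
    · obtain ⟨y, hy⟩ := key ((p - 1) / 2) (by omega) (hcop _ (Or.inl ⟨2, by omega⟩))
        (show (p - 1) / 2 ∈ Set.range (orderOf : G → ℕ) from hspec ▸ Or.inr (Or.inl dvd_rfl))
      exact ⟨y, by rw [hy, show 2 * ((p - 1) / 2) = p - 1 by omega]; exact h⟩
    · obtain ⟨y, hy⟩ := key ((p + 1) / 2) (by omega) (hcop _ (Or.inr ⟨2, by omega⟩))
        (show (p + 1) / 2 ∈ Set.range (orderOf : G → ℕ) from hspec ▸ Or.inr (Or.inr dvd_rfl))
      exact ⟨y, by rw [hy, show 2 * ((p + 1) / 2) = p + 1 by omega]; exact h⟩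

end TraceModule

section PrimeField

open Cfsg.Lib.Spec

variable {p : ℕ} [Fact p.Prime]

local notation "SL2" => Matrix.SpecialLinearGroup (Fin 2) (ZMod p)
local notation "PSL2" => Matrix.ProjectiveSpecialLinearGroup (Fin 2) (ZMod p)
local notation "M2" => Matrix (Fin 2) (Fin 2) (ZMod p)

theorem two_ne (h5 : 5 ≤ p) : (2 : ZMod p) ≠ 0 := by
  intro h
  have h' : ((2 : ℕ) : ZMod p) = 0 := by exact_mod_cast h
  rw [ZMod.natCast_eq_zero_iff] at h'
  have := Nat.le_of_dvd two_pos h'
  omega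

theorem mk_eq_iff (X Y : SL2) : (QuotientGroup.mk Y : PSL2) = QuotientGroup.mk X ↔
    ∃ c : ZMod p, c ^ 2 = 1 ∧ (Y : M2) = c • (X : M2) := by
  rw [eq_comm, QuotientGroup.eq, Matrix.SpecialLinearGroup.mem_center_iff]
  simp only [Fintype.card_fin, Matrix.scalar_apply, ← Matrix.smul_one_eq_diagonal]
  constructor
  · rintro ⟨c, hc, h⟩
    refine ⟨c, hc, ?_⟩
    have h' := congrArg (fun A => (X : M2) * A) h
    simp only [mul_smul_comm, mul_one, ← Matrix.SpecialLinearGroup.coe_mul, mul_inv_cancel_left] at h'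
    exact h'.symm
  · rintro ⟨c, hc, h⟩
    refine ⟨c, hc, ?_⟩
    rw [Matrix.SpecialLinearGroup.coe_mul, h, mul_smul_comm, ← Matrix.SpecialLinearGroup.coe_mul,
      inv_mul_cancel, Matrix.SpecialLinearGroup.coe_one]

theorem trc_eq_trace (X : SL2) : trc X = Matrix.trace (X : M2) := by
  simp [trc, Matrix.trace_fin_two]

/-- Elements with trace `±t`. -/
def HasTrace (t : ZMod p) (x : PSL2) : Prop :=
  ∃ X : SL2, (QuotientGroup.mk X : PSL2) = x ∧ trc X = t

theorem hasTrace_iff (t : ZMod p) (X : SL2) :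
    HasTrace t (QuotientGroup.mk X) ↔ trc X = t ∨ trc X = -t := by
  constructor
  · rintro ⟨Y, hY, rfl⟩
    obtain ⟨c, hc, h⟩ := (mk_eq_iff X Y).1 hY
    rw [trc_eq_trace, trc_eq_trace, h, Matrix.trace_smul, smul_eq_mul]
    rcases sq_eq_one_iff.1 hc with rfl | rfl
    · left; rw [one_mul]
    · right; rw [neg_one_mul, neg_neg]
  · rintro (h | h)
    · exact ⟨X, rfl, h⟩
    · refine ⟨-X, (mk_eq_iff X (-X)).2 ⟨-1, by norm_num, by simp⟩, ?_⟩
      rw [trc_eq_trace] at h ⊢
      simp [h]

theorem trc_sq_iff (h5 : 5 ≤ p) (U : SL2) :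
    (QuotientGroup.mk U : PSL2) ^ p = 1 ↔ trc U ^ 2 = 4 := by
  have hpp : p.Prime := Fact.out
  have h2 := two_ne (p := p) h5
  obtain ⟨m, hm⟩ := hpp.odd_of_ne_two (by omega)
  set τ := trc U with hτ
  set h := τ / 2 with hh
  have hτh : τ = 2 * h := by rw [hh]; field_simp
  set E : M2 := (U : M2) - algebraMap (ZMod p) M2 h with hE
  have hEE : E * E = (h ^ 2 - 1) • (1 : M2) := by
    have hc := cayley_hamilton U
    rw [← hτ] at hc
    rw [hE, Algebra.algebraMap_eq_smul_one, sub_mul, mul_sub, mul_sub, hc, hτh]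
    simp only [smul_mul_assoc, mul_smul_comm, one_mul, mul_one, smul_smul]
    module
  haveI : CharP M2 p := Matrix.charP p
  have hEp : E ^ p = ((h ^ 2 - 1) ^ m) • E := by
    rw [(congrArg (fun k => E ^ k) hm : E ^ p = E ^ (2 * m + 1)), pow_succ, pow_mul, pow_two E, hEE, smul_pow, one_pow, smul_mul_assoc, one_mul]
  have hEp' : E ^ p = ((U ^ p : SL2) : M2) - (h ^ p) • (1 : M2) := by
    rw [hE, sub_pow_char_of_commute _ (Algebra.commute_algebraMap_right h (U : M2)), ← map_pow,
      Algebra.algebraMap_eq_smul_one, Matrix.SpecialLinearGroup.coe_pow]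
  rw [mk_pow_eq_one_iff]
  constructor
  · rintro ⟨c, -, hc⟩
    by_contra h4
    have hD : (h ^ 2 - 1) ^ m ≠ 0 := pow_ne_zero _ fun h0 => h4 (by rw [hτh]; linear_combination 4 * h0)
    rw [hEp, hc, ← sub_smul] at hEp'
    have hE' : E = (((h ^ 2 - 1) ^ m)⁻¹ * (c - h ^ p)) • (1 : M2) := by
      rw [mul_smul, ← hEp', smul_smul, inv_mul_cancel₀ hD, one_smul]
    set a := ((h ^ 2 - 1) ^ m)⁻¹ * (c - h ^ p) + h with ha
    have hUa : (U : M2) = a • (1 : M2) := by
      rw [ha, add_smul, ← hE', hE, Algebra.algebraMap_eq_smul_one, sub_add_cancel]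
    apply h4
    have hdet := det_eq U
    rw [hτ, trc, hUa]
    simp [hUa] at hdet ⊢
    linear_combination 4 * hdet
  · intro h4
    have h1 : h ^ 2 = 1 := by
      have : (2 : ZMod p) ^ 2 * (h ^ 2 - 1) = 0 := by rw [hτh] at h4; linear_combination h4
      rcases mul_eq_zero.1 this with e | e
      · exact absurd e (pow_ne_zero _ h2)
      · exact sub_eq_zero.1 e
    refine ⟨h ^ p, by rw [← pow_mul, mul_comm, pow_mul, h1, one_pow], ?_⟩
    rw [hEp, h1, sub_self, zero_pow (by omega), zero_smul] at hEp'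
    exact sub_eq_zero.1 hEp'.symm

theorem exists_nonsplit_trace (h5 : 5 ≤ p) :
    ∃ t : ZMod p, t ≠ 0 ∧ ¬ IsSquare (t ^ 2 - 4) := by
  classical
  by_contra hno
  push Not at hno
  have h2 := two_ne (p := p) h5
  let T : Finset (ZMod p) := Finset.univ \ {0, 2, -2}
  have hT : 0 < T.card := by
    have h1 := Finset.le_card_sdiff ({0, 2, -2} : Finset (ZMod p)) Finset.univ
    rw [Finset.card_univ, ZMod.card] at h1
    have h3 : ({0, 2, -2} : Finset (ZMod p)).card ≤ 3 := Finset.card_le_three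
    show 0 < (Finset.univ \ {0, 2, -2}).card
    omega
  choose s hs using fun t : T => hno t.1 (by
    have := t.2; simp only [T, Finset.mem_sdiff, Finset.mem_insert, Finset.mem_singleton, not_or] at this
    exact this.2.1)
  let g : T × Bool → ZMod p := fun a => if a.2 then a.1.1 + s a.1 else a.1.1 - s a.1
  have hT' : ∀ t : T, t.1 ≠ 0 ∧ t.1 ≠ 2 ∧ t.1 ≠ -2 := fun t => by
    have := t.2; simp only [T, Finset.mem_sdiff, Finset.mem_insert, Finset.mem_singleton, not_or] at this
    exact this.2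
  have hg : ∀ a, g a * (if a.2 then a.1.1 - s a.1 else a.1.1 + s a.1) = 4 := by
    rintro ⟨t, b⟩
    cases b <;> simp only [g, Bool.false_eq_true, if_false, if_true] <;> linear_combination hs t
  have hmem : ∀ a, g a ∈ T := by
    rintro ⟨t, b⟩
    have h4 := hg ⟨t, b⟩
    simp only [T, Finset.mem_sdiff, Finset.mem_univ, true_and, Finset.mem_insert, Finset.mem_singleton,
      not_or]
    refine ⟨fun e => ?_, fun e => ?_, fun e => ?_⟩
    · rw [e, zero_mul] at h4
      exact mul_ne_zero h2 h2 (by linear_combination -h4)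
    · rw [e] at h4
      refine (hT' t).2.1 (mul_left_cancel₀ h2 (mul_left_cancel₀ h2 ?_))
      cases b <;> simp only [g, Bool.false_eq_true, if_false, if_true] at e h4 <;>
        linear_combination 2 * e + h4
    · rw [e] at h4
      refine (hT' t).2.2 (mul_left_cancel₀ h2 (mul_left_cancel₀ h2 ?_))
      cases b <;> simp only [g, Bool.false_eq_true, if_false, if_true] at e h4 <;>
        linear_combination 2 * e - h4
  have hinj : Function.Injective g := by
    rintro ⟨t, b⟩ ⟨t', b'⟩ he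
    have h4 := hg ⟨t, b⟩
    have h4' := hg ⟨t', b'⟩
    rw [← he] at h4'
    have hne : g ⟨t, b⟩ ≠ 0 := fun e => by
      rw [e, zero_mul] at h4; exact mul_ne_zero h2 h2 (by linear_combination -h4)
    have hc := mul_left_cancel₀ hne (h4.trans h4'.symm)
    have htt : t = t' := by
      apply Subtype.ext
      apply mul_left_cancel₀ h2
      cases b <;> cases b' <;> simp only [g, Bool.false_eq_true, if_false, if_true] at he hc <;>
        linear_combination he + hc
    subst htt
    have hs0 : s t ≠ 0 := fun e => by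
      have h := hs t
      rw [e, mul_zero] at h
      have : (t.1 - 2) * (t.1 + 2) = 0 := by linear_combination h
      rcases mul_eq_zero.1 this with h | h
      · exact (hT' t).2.1 (sub_eq_zero.1 h)
      · exact (hT' t).2.2 (eq_neg_of_add_eq_zero_left h)
    cases b <;> cases b' <;> simp only [g, Bool.false_eq_true, if_false, if_true] at he <;>
      first
        | rfl
        | exact absurd (mul_left_cancel₀ h2 (by linear_combination he : (2 : ZMod p) * s t = 2 * 0)) hs0
        | exact absurd (mul_left_cancel₀ h2 (by linear_combination -he : (2 : ZMod p) * s t = 2 * 0)) hs0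
  have hle := Finset.card_le_card_of_injOn (s := (Finset.univ : Finset (T × Bool))) (t := T) g
    (fun a _ => hmem a) hinj.injOn
  rw [Finset.card_univ, Fintype.card_prod, Fintype.card_bool, Fintype.card_coe] at hle
  omega

theorem even_count (h5 : 5 ≤ p) {t : ZMod p} (ht : t ≠ 0) (hns : ¬ IsSquare (t ^ 2 - 4))
    (x u : PSL2) (hu : orderOf u = p) [DecidablePred (HasTrace t)] :
    Even ((Finset.range p).filter fun i => HasTrace t (x * u ^ i)).card := by
  classical
  have h2 := two_ne (p := p) h5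
  obtain ⟨X, rfl⟩ := QuotientGroup.mk_surjective x
  obtain ⟨U, rfl⟩ := QuotientGroup.mk_surjective u
  have h4 := (trc_sq_iff h5 U).1 (by
    have h := pow_orderOf_eq_one (QuotientGroup.mk U : PSL2)
    rwa [hu] at h)
  set ε := trc U / 2 with hε
  have hτ : trc U = 2 * ε := by rw [hε]; field_simp
  have hε2 : ε * ε = 1 := mul_left_cancel₀ (mul_ne_zero h2 h2) (by rw [hτ] at h4; linear_combination h4)
  set A : M2 := ε • (U : M2) - 1 with hA
  have hAA : A * A = 0 := by
    rw [hA, sub_mul, mul_sub, smul_mul_smul_comm, hε2, one_smul, cayley_hamilton U, hτ]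
    simp only [one_mul, mul_one]
    module
  have hU : (U : M2) = ε • (1 + A) := by rw [hA, add_sub_cancel, smul_smul, hε2, one_smul]
  have hpow : ∀ i : ℕ, ((U ^ i : SL2) : M2) = ε ^ i • (1 + (i : ZMod p) • A) := by
    intro i
    induction i with
    | zero => simp
    | succ i ih =>
      rw [pow_succ, Matrix.SpecialLinearGroup.coe_mul, ih, hU, smul_mul_smul_comm, ← pow_succ]
      congr 1
      rw [add_mul, mul_add, mul_add, smul_mul_assoc, smul_mul_assoc, hAA, Nat.cast_succ]
      simp only [one_mul, mul_one, smul_zero]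
      module
  set τ := trc X
  set σ := Matrix.trace ((X : M2) * A) with hσ
  have hiff : ∀ i : ℕ, HasTrace t ((QuotientGroup.mk X : PSL2) * (QuotientGroup.mk U) ^ i) ↔
      τ + i * σ = t ∨ τ + i * σ = -t := by
    intro i
    rw [← QuotientGroup.mk_pow, ← QuotientGroup.mk_mul, hasTrace_iff, trc_eq_trace,
      Matrix.SpecialLinearGroup.coe_mul, hpow, mul_smul_comm, mul_add, mul_one, mul_smul_comm,
      Matrix.trace_smul, Matrix.trace_add, Matrix.trace_smul, ← trc_eq_trace, smul_eq_mul, smul_eq_mul]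
    have hsq : (ε ^ i) ^ 2 = 1 := by rw [← pow_mul, mul_comm, pow_mul, pow_two, hε2, one_pow]
    rcases sq_eq_one_iff.1 hsq with e | e <;> rw [e]
    · simp [τ, σ]
    · simp only [neg_mul, one_mul, neg_eq_iff_eq_neg, neg_neg, σ, τ]
      exact or_comm
  rw [Finset.filter_congr fun i _ => hiff i]
  by_cases hσ0 : σ = 0
  · -- then `X` has an eigenvalue in the prime field
    have hsq : IsSquare (τ ^ 2 - 4) := by
      have hA0 : A ≠ 0 := by
        intro h0
        apply (Fact.out : p.Prime).ne_one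
        rw [← hu, orderOf_eq_one_iff, ← pow_one (QuotientGroup.mk U : PSL2), mk_pow_eq_one_iff]
        exact ⟨ε, by rw [pow_two, hε2], by rw [pow_one, hU, h0, add_zero]⟩
      have htrA : A 0 0 + A 1 1 = 0 := by
        have hτ' : (U : M2) 0 0 + (U : M2) 1 1 = 2 * ε := hτ
        simp [hA]
        linear_combination ε * hτ' + 2 * hε2
      have hd : A 0 0 * A 0 0 + A 0 1 * A 1 0 = 0 := by
        simpa [Matrix.mul_apply, Fin.sum_univ_two] using congrFun (congrFun hAA 0) 0
      have hs0 : (X : M2) 0 0 * A 0 0 + (X : M2) 0 1 * A 1 0 +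
          ((X : M2) 1 0 * A 0 1 + (X : M2) 1 1 * A 1 1) = 0 := by
        rw [← hσ0, hσ, Matrix.trace_fin_two]
        simp [Matrix.mul_apply, Fin.sum_univ_two]
      have hdet := det_eq X
      by_cases hb : A 0 1 = 0
      · have hn : A 0 0 = 0 := by simpa [hb] using hd
        have hd1 : A 1 1 = 0 := by simpa [hn] using htrA
        have hc : A 1 0 ≠ 0 := by
          intro hc
          exact hA0 (by ext i j; fin_cases i <;> fin_cases j <;> simp [hn, hb, hc, hd1])
        have hx : (X : M2) 0 1 = 0 := by simpa [hn, hb, hd1, hc] using hs0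
        refine ⟨(X : M2) 0 0 - (X : M2) 1 1, ?_⟩
        show ((X : M2) 0 0 + (X : M2) 1 1) ^ 2 - 4 = _
        rw [hx] at hdet
        linear_combination 4 * hdet
      · refine ⟨(X : M2) 0 0 - (X : M2) 1 1 - 2 * A 0 0 * (X : M2) 0 1 / A 0 1, ?_⟩
        show ((X : M2) 0 0 + (X : M2) 1 1) ^ 2 - 4 = _
        field_simp
        linear_combination 4 * (A 0 1) ^ 2 * hdet + 4 * (A 0 1) * (X : M2) 0 1 * hs0 -
          4 * (X : M2) 0 1 ^ 2 * hd - 4 * (A 0 1) * (X : M2) 0 1 * (X : M2) 1 1 * htrA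
    rw [Finset.filter_eq_empty_iff.2 ?_]
    · exact ⟨0, rfl⟩
    · intro i _
      rw [hσ0, mul_zero, add_zero, not_or]
      exact ⟨fun e => hns (e ▸ hsq), fun e => hns (by rw [e, neg_sq] at hsq; exact hsq)⟩
  · have htt : t ≠ -t := fun e => ht (mul_left_cancel₀ h2 (by linear_combination e))
    have hcard : ((Finset.range p).filter fun i : ℕ => τ + i * σ = t ∨ τ + i * σ = -t).card =
        ({t, -t} : Finset (ZMod p)).card := by
      refine Finset.card_bij' (fun i _ => τ + (i : ZMod p) * σ) (fun a _ => ((a - τ) / σ).val) ?_ ?_ ?_ ?_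
      · intro i hi; simpa using (Finset.mem_filter.1 hi).2
      · intro a ha
        refine Finset.mem_filter.2 ⟨Finset.mem_range.2 (ZMod.val_lt _), ?_⟩
        rw [ZMod.natCast_zmod_val, div_mul_cancel₀ _ hσ0, add_sub_cancel]
        simpa using ha
      · intro i hi
        simp only [add_sub_cancel_left, mul_div_cancel_right₀ _ hσ0]
        exact ZMod.val_cast_of_lt (Finset.mem_range.1 (Finset.mem_filter.1 hi).1)
      · intro a _
        simp only [ZMod.natCast_zmod_val, div_mul_cancel₀ _ hσ0, add_sub_cancel]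
    rw [hcard, Finset.card_pair htt]
    exact even_two

theorem exists_doubling (h5 : 5 ≤ p) (t : ZMod p) (ht : t ≠ 0) (g : PSL2)
    (hco : (orderOf g).Coprime p) (hg1 : g ≠ 1) :
    ∃ x, HasTrace t x ∧ ∀ i < orderOf g, HasTrace t ((g ^ i)⁻¹ * x) → i = 0 := by
  have hpp : p.Prime := Fact.out
  have h2 := two_ne (p := p) h5
  obtain ⟨G, hG⟩ := QuotientGroup.mk_surjective g⁻¹
  set τ := trc G with hτ
  have hord : orderOf (QuotientGroup.mk G : PSL2) = orderOf g := by rw [hG, orderOf_inv]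
  have hτ4 : τ ^ 2 ≠ 4 := by
    intro h
    have h1 := orderOf_dvd_of_pow_eq_one ((trc_sq_iff h5 G).2 h)
    rw [hord] at h1
    exact hg1 (orderOf_eq_one_iff.1 (Nat.Coprime.eq_one_of_dvd hco h1))
  set a := (G : M2) 0 0
  set b := (G : M2) 0 1
  set c := (G : M2) 1 0
  set d := (G : M2) 1 1
  set n := (a - d) / 2 with hn
  have hnad : a - d = 2 * n := by rw [hn]; field_simp
  set T := (t / 2) ^ 2 - 1
  obtain ⟨y, z, w, hlin, hquad⟩ : ∃ y z w : ZMod p, 2 * n * y + b * w + c * z = 0 ∧ y ^ 2 + z * w = T := by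
    have hD : n ^ 2 + b * c ≠ 0 := by
      intro h0
      refine hτ4 ?_
      have hdet : a * d - b * c = 1 := det_eq G
      show (a + d) ^ 2 = 4
      linear_combination 4 * hdet + 4 * h0 + (a - d + 2 * n) * hnad
    by_cases hb : b = 0
    · have hn0 : n ≠ 0 := fun e => hD (by rw [hb, e]; ring)
      refine ⟨-c / (2 * n), 1, T - (-c / (2 * n)) ^ 2, ?_, by ring⟩
      rw [hb]; field_simp; ring
    · obtain ⟨u, Z, huZ⟩ := FiniteField.exists_root_sum_quadratic (R := ZMod p)
        (f := Polynomial.X ^ 2 - Polynomial.C T) (g := Polynomial.C (-(n ^ 2 + b * c)) * Polynomial.X ^ 2)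
        (Polynomial.degree_X_pow_sub_C two_pos _) (Polynomial.degree_C_mul_X_pow 2 (neg_ne_zero.2 hD))
        (by rw [ZMod.card]; rcases hpp.odd_of_ne_two (by omega) with ⟨k, hk⟩; omega)
      simp only [Polynomial.eval_sub, Polynomial.eval_pow, Polynomial.eval_X, Polynomial.eval_C,
        Polynomial.eval_mul] at huZ
      refine ⟨u + n * Z, b * Z, -(2 * n * (u + n * Z) + c * (b * Z)) / b, ?_, ?_⟩
      · field_simp; ring
      · field_simp; linear_combination huZ
  let X : SL2 := ⟨!![t / 2 + y, z; w, t / 2 - y], by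
    rw [Matrix.det_fin_two_of]; linear_combination -hquad⟩
  have hX : trc X = t := by simp [trc, X]; field_simp; norm_num
  have hGX : Matrix.trace ((G : M2) * (X : M2)) = τ * (t / 2) := by
    rw [Matrix.trace_fin_two, hτ, trc]
    simp [X, Matrix.mul_apply, Fin.sum_univ_two]
    linear_combination hlin + y * hnad
  refine ⟨QuotientGroup.mk X, ⟨X, rfl, hX⟩, fun i hi hP => ?_⟩
  by_contra hi0
  rw [← inv_pow, ← hG, ← QuotientGroup.mk_pow, ← QuotientGroup.mk_mul, hasTrace_iff] at hP
  obtain ⟨j, rfl⟩ := Nat.exists_eq_succ_of_ne_zero hi0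
  have htr : trc (G ^ (j + 1) * X) = t / 2 * trc (G ^ (j + 1)) := by
    have hGt : Matrix.trace (G : M2) = τ := (trc_eq_trace G).symm
    have hXt : Matrix.trace (X : M2) = t := by rw [← trc_eq_trace, hX]
    rw [trc_eq_trace, trc_eq_trace, Matrix.SpecialLinearGroup.coe_mul, Matrix.SpecialLinearGroup.coe_pow,
      pow_succ_eq, sub_mul, smul_mul_assoc, smul_mul_assoc, one_mul, Matrix.trace_sub, Matrix.trace_sub,
      Matrix.trace_smul, Matrix.trace_smul, Matrix.trace_smul, Matrix.trace_smul, hGX, hXt, hGt,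
      Matrix.trace_one, Fintype.card_fin]
    simp only [smul_eq_mul, Nat.cast_ofNat]
    field_simp
  rw [htr] at hP
  have h4 : trc (G ^ (j + 1)) ^ 2 = 4 := by
    have hhalf : t / 2 ≠ 0 := div_ne_zero ht h2
    rcases hP with e | e
    · have : trc (G ^ (j + 1)) = 2 := mul_left_cancel₀ hhalf (by rw [e]; field_simp)
      rw [this]; norm_num
    · have : trc (G ^ (j + 1)) = -2 := mul_left_cancel₀ hhalf (by rw [e]; field_simp)
      rw [this]; norm_num
  have h1 := (trc_sq_iff h5 _).2 h4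
  rw [QuotientGroup.mk_pow, ← pow_mul] at h1
  have h2' := orderOf_dvd_of_pow_eq_one h1
  rw [hord] at h2'
  have := Nat.le_of_dvd (by omega) (hco.dvd_of_dvd_mul_right h2')
  omega

theorem large_prime (h5 : 5 ≤ p) (N : ℕ) :
    ∃ (H : Type) (_ : Group H) (_ : Fintype H), N < Fintype.card H ∧
      Set.range (orderOf : H → ℕ) = {m : ℕ | m ∣ p ∨ m ∣ p - 1 ∨ m ∣ p + 1} := by
  classical
  obtain ⟨t, ht, hns⟩ := exists_nonsplit_trace (p := p) h5
  refine trace_module_spectrum (G := PSL2) h5 (HasTrace t) ?_ (fun x u hu => even_count h5 ht hns x u hu)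
    (exists_doubling h5 t ht) N
  obtain ⟨k, hk⟩ := (Fact.out : p.Prime).odd_of_ne_two (by omega)
  have hgcd : Nat.gcd 2 (p - 1) = 2 := Nat.gcd_eq_left ⟨k, by omega⟩
  rw [Cfsg.Lib.Spec.psl_two_spectrum p (by rw [ZMod.card]; omega), ZMod.card, hgcd]

end PrimeField

section Nine

abbrev M4 := Matrix (Fin 4) (Fin 4) (ZMod 3)

def mX : M4 := !![0, 0, 0, 2; 1, 0, 0, 2; 0, 1, 0, 2; 0, 0, 1, 2]
def mC : M4 := !![2, 2, 0, 2; 1, 2, 2, 1; 0, 2, 1, 1; 0, 1, 0, 1]

theorem mX_two : mX * mX = !![0, 0, 2, 1; 0, 0, 2, 0; 1, 0, 2, 0; 0, 1, 2, 0] := by decide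
theorem mX_three : mX ^ 3 = !![0, 2, 1, 0; 0, 2, 0, 1; 0, 2, 0, 0; 1, 2, 0, 0] := by
  rw [pow_succ, pow_two, mX_two]; decide
theorem mX_four : mX ^ 4 = !![2, 1, 0, 0; 2, 0, 1, 0; 2, 0, 0, 1; 2, 0, 0, 0] := by
  rw [pow_succ, mX_three]; decide
theorem mX_five : mX ^ 5 = 1 := by rw [pow_succ, mX_four]; decide
theorem mX_sum : ∑ i ∈ Finset.range 5, mX ^ i = 0 := by
  simp only [Finset.sum_range_succ, Finset.sum_range_zero, pow_zero, pow_one, mX_four, mX_three,
    pow_two, mX_two]
  decide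
theorem mC_mX : mC * mX = mX ^ 3 * mC := by rw [mX_three]; decide
theorem mC_two : mC * mC = !![0, 1, 1, 2; 1, 2, 0, 1; 2, 1, 2, 1; 1, 0, 2, 2] := by decide
theorem mC_four : mC ^ 4 = -1 := by
  rw [show mC ^ 4 = mC ^ 2 * mC ^ 2 from pow_add mC 2 2, pow_two, mC_two]; decide

theorem mC_eight : mC ^ 8 = 1 := by
  rw [show (8 : ℕ) = 4 * 2 from rfl, pow_mul, mC_four, neg_one_sq]

theorem mC_pow_mX (b : ℕ) : ∀ a : ℕ, mC ^ b * mX ^ a = mX ^ (3 ^ b * a) * mC ^ b := by
  have h : SemiconjBy (mC ^ b) mX (mX ^ (3 ^ b)) := by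
    induction b with
    | zero => simp [SemiconjBy]
    | succ b ih =>
      rw [pow_succ', pow_succ', pow_mul]
      exact ((show SemiconjBy mC mX (mX ^ 3) from mC_mX).pow_right _).mul_left ih
  intro a
  rw [pow_mul]
  exact h.pow_right a

/-- A Frobenius complement of order 40. -/
def comp40 : Subgroup M4ˣ where
  carrier := {u | ∃ a b : ℕ, (u : M4) = mX ^ a * mC ^ b}
  one_mem' := ⟨0, 0, by simp⟩
  mul_mem' := by
    rintro u v ⟨a, b, hu⟩ ⟨c, d, hv⟩
    refine ⟨a + 3 ^ b * c, b + d, ?_⟩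
    rw [Units.val_mul, hu, hv, mul_assoc, ← mul_assoc (mC ^ b), mC_pow_mX, pow_add, pow_add]
    simp only [mul_assoc]
  inv_mem' := by
    rintro u ⟨a, b, hu⟩
    have hmem : ∀ n : ℕ, ∃ a b : ℕ, ((u ^ n : M4ˣ) : M4) = mX ^ a * mC ^ b := by
      intro n
      induction n with
      | zero => exact ⟨0, 0, by simp⟩
      | succ n ih =>
        obtain ⟨c, d, hcd⟩ := ih
        refine ⟨c + 3 ^ d * a, d + b, ?_⟩
        rw [pow_succ, Units.val_mul, hcd, hu, mul_assoc, ← mul_assoc (mC ^ d), mC_pow_mX, pow_add,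
          pow_add]
        simp only [mul_assoc]
    have hinv : u⁻¹ = u ^ (orderOf u - 1) := by
      rw [inv_eq_iff_mul_eq_one, ← pow_succ', Nat.sub_add_cancel (orderOf_pos u), pow_orderOf_eq_one]
    show ∃ a b : ℕ, ((u⁻¹ : M4ˣ) : M4) = _
    rw [hinv]
    exact hmem _

theorem comp40_cases (M : M4) (a b : ℕ) (hM : M = mX ^ a * mC ^ b) :
    M = 1 ∨ ((M ^ 8 = 1 ∨ M ^ 10 = 1) ∧
      ((∃ k : ℕ, M ^ k = -1) ∨ ∑ i ∈ Finset.range 5, M ^ i = 0)) := by
  rw [pow_eq_pow_mod a mX_five, pow_eq_pow_mod b mC_eight] at hM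
  have ha : a % 5 < 5 := Nat.mod_lt _ (by norm_num)
  have hb : b % 8 < 8 := Nat.mod_lt _ (by norm_num)
  generalize a % 5 = a' at *
  generalize b % 8 = b' at *
  have hsq : M ^ 2 = mX ^ (a' * (1 + 3 ^ b')) * mC ^ (b' * 2) := by
    rw [hM, pow_two, mul_assoc, ← mul_assoc (mC ^ b'), mC_pow_mX, mul_add, mul_one, pow_add,
      mul_two, pow_add, mul_comm (3 ^ b') a']
    simp only [mul_assoc]
  have hfour : M ^ 4 = mX ^ (a' * (1 + 3 ^ b') * (1 + 9 ^ b')) * mC ^ (b' * 4) := by
    rw [show M ^ 4 = M ^ 2 * M ^ 2 from pow_add M 2 2, hsq, mul_assoc, ← mul_assoc (mC ^ (b' * 2)), mC_pow_mX,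
      show 3 ^ (b' * 2) = 9 ^ b' by rw [mul_comm, pow_mul]; norm_num,
      mul_comm (9 ^ b') (a' * (1 + 3 ^ b')), mul_add (a' * (1 + 3 ^ b')), mul_one, pow_add,
      show b' * 4 = b' * 2 + b' * 2 by omega, pow_add]
    simp only [mul_assoc]
  have hmul5 : ∀ k, k % 5 = 0 → mX ^ k = 1 := fun k hk => by
    rw [pow_eq_pow_mod k mX_five, hk, pow_zero]
  interval_cases b'
  · -- powers of the element of order five
    rw [pow_zero, mul_one] at hM
    by_cases h0 : a' = 0
    · left; rw [hM, h0, pow_zero]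
    right
    refine ⟨Or.inr ?_, Or.inr ?_⟩
    · rw [hM, ← pow_mul]; exact hmul5 _ (by omega)
    · have hs := mX_sum
      simp only [Finset.sum_range_succ, Finset.sum_range_zero, zero_add, pow_zero, pow_one] at hs ⊢
      rw [hM, ← pow_mul, ← pow_mul, ← pow_mul, pow_eq_pow_mod (a' * 2) mX_five,
        pow_eq_pow_mod (a' * 3) mX_five, pow_eq_pow_mod (a' * 4) mX_five]
      interval_cases a'
      all_goals first
        | exact absurd rfl h0
        | (norm_num; all_goals (rw [← hs]); all_goals abel)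
  · right
    have h : M ^ 4 = -1 := by rw [hfour, hmul5 _ (by omega), one_mul]; exact mC_four
    exact ⟨Or.inl (by rw [show (8 : ℕ) = 4 * 2 from rfl, pow_mul, h, neg_one_sq]), Or.inl ⟨4, h⟩⟩
  · right
    have h : M ^ 2 = -1 := by rw [hsq, hmul5 _ (by omega), one_mul]; exact mC_four
    exact ⟨Or.inl (by rw [show (8 : ℕ) = 2 * 4 from rfl, pow_mul, h]; norm_num), Or.inl ⟨2, h⟩⟩
  · right
    have h : M ^ 4 = -1 := by
      rw [hfour, hmul5 _ (by omega), one_mul, show (3 * 4 : ℕ) = 8 + 4 from rfl, pow_add, mC_eight,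
        one_mul, mC_four]
    exact ⟨Or.inl (by rw [show (8 : ℕ) = 4 * 2 from rfl, pow_mul, h, neg_one_sq]), Or.inl ⟨4, h⟩⟩
  · right
    have h : M ^ 5 = -1 := by
      rw [hM, mC_four, mul_neg, mul_one, (show Odd 5 from ⟨2, rfl⟩).neg_pow, ← pow_mul, hmul5 _ (by omega)]
    exact ⟨Or.inr (by rw [show (10 : ℕ) = 5 * 2 from rfl, pow_mul, h, neg_one_sq]), Or.inl ⟨5, h⟩⟩
  · right
    have h : M ^ 4 = -1 := by
      rw [hfour, hmul5 _ (by omega), one_mul, show (5 * 4 : ℕ) = 8 + 8 + 4 from rfl, pow_add, pow_add,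
        mC_eight, one_mul, one_mul, mC_four]
    exact ⟨Or.inl (by rw [show (8 : ℕ) = 4 * 2 from rfl, pow_mul, h, neg_one_sq]), Or.inl ⟨4, h⟩⟩
  · right
    have h : M ^ 2 = -1 := by
      rw [hsq, hmul5 _ (by omega), one_mul, show (6 * 2 : ℕ) = 8 + 4 from rfl, pow_add, mC_eight,
        one_mul, mC_four]
    exact ⟨Or.inl (by rw [show (8 : ℕ) = 2 * 4 from rfl, pow_mul, h]; norm_num), Or.inl ⟨2, h⟩⟩
  · right
    have h : M ^ 4 = -1 := by
      rw [hfour, hmul5 _ (by omega), one_mul, show (7 * 4 : ℕ) = 8 + 8 + 8 + 4 from rfl, pow_add,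
        pow_add, pow_add, mC_eight, one_mul, one_mul, one_mul, mC_four]
    exact ⟨Or.inl (by rw [show (8 : ℕ) = 4 * 2 from rfl, pow_mul, h, neg_one_sq]), Or.inl ⟨4, h⟩⟩

abbrev W9 := Multiplicative (Fin 4 → ZMod 3)

/-- The natural action. -/
def act40 : comp40 →* MulAut W9 where
  toFun g :=
    { toFun := fun w => Multiplicative.ofAdd (((g : M4ˣ) : M4) *ᵥ w.toAdd)
      invFun := fun w => Multiplicative.ofAdd ((((g : M4ˣ)⁻¹ : M4ˣ) : M4) *ᵥ w.toAdd)
      left_inv := fun w => by simp [Matrix.mulVec_mulVec]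
      right_inv := fun w => by simp [Matrix.mulVec_mulVec]
      map_mul' := fun a b => by simp [Matrix.mulVec_add] }
  map_one' := by ext w : 1; simp
  map_mul' a b := by ext w : 1; simp [Matrix.mulVec_mulVec]

theorem act40_fpf (g : comp40) (hg : g ≠ 1) (w : W9) (h : act40 g w = w) : w = 1 := by
  obtain ⟨a, b, hab⟩ := g.2
  set M : M4 := ((g : M4ˣ) : M4)
  have hne : M ≠ 1 := fun e => hg (Subtype.ext (Units.ext e))
  have hfix : M *ᵥ w.toAdd = w.toAdd := congrArg Multiplicative.toAdd h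
  have hk : ∀ k : ℕ, M ^ k *ᵥ w.toAdd = w.toAdd := by
    intro k
    induction k with
    | zero => simp
    | succ k ih => rw [pow_succ, ← Matrix.mulVec_mulVec, hfix, ih]
  apply Multiplicative.toAdd.injective
  show w.toAdd = 0
  rcases ((comp40_cases M a b hab).resolve_left hne).2 with ⟨k, hk1⟩ | hs
  · have h1 := hk k
    rw [hk1, Matrix.neg_mulVec, Matrix.one_mulVec] at h1
    funext i
    have h2 := congrFun h1 i
    rw [Pi.neg_apply] at h2
    show _ = (0 : ZMod 3)
    generalize w.toAdd i = v at h2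
    revert v; decide
  · have h1 : (∑ i ∈ Finset.range 5, M ^ i) *ᵥ w.toAdd = 0 := by rw [hs, Matrix.zero_mulVec]
    rw [Matrix.sum_mulVec, Finset.sum_congr rfl fun i _ => hk i, Finset.sum_const, Finset.card_range] at h1
    funext i
    have h2 := congrFun h1 i
    rw [Pi.smul_apply, Pi.zero_apply] at h2
    show _ = (0 : ZMod 3)
    generalize w.toAdd i = v at h2
    revert v; decide

theorem large_nine (N : ℕ) :
    ∃ (H : Type) (_ : Group H) (_ : Fintype H), N < Fintype.card H ∧
      Set.range (orderOf : H → ℕ) = {m : ℕ | m ∣ 3 ∨ m ∣ 8 ∨ m ∣ 10} := by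
  have hW : ∀ w : W9, w ^ 3 = 1 := by
    intro w
    apply Multiplicative.toAdd.injective
    rw [toAdd_pow, toAdd_one]
    funext i
    rw [Pi.smul_apply, Pi.zero_apply]
    generalize w.toAdd i = v
    revert v; decide
  refine sd_large act40 Nat.prime_three hW ?_ N
  ext n
  constructor
  · rintro ⟨y, rfl⟩
    by_cases hy : y.right = 1
    · left
      have := sd_orderOf_dvd_mul act40 hW y
      rwa [hy, orderOf_one, one_mul] at this
    · right
      obtain ⟨a, b, hab⟩ := y.right.2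
      have hd := sd_orderOf_dvd act40 y (act40_fpf _ hy)
      have hne : ((y.right : M4ˣ) : M4) ≠ 1 := fun e => hy (Subtype.ext (Units.ext e))
      rcases ((comp40_cases _ a b hab).resolve_left hne).1 with h | h
      · exact Or.inl (hd.trans (orderOf_dvd_of_pow_eq_one (Subtype.ext (Units.ext (by simpa using h)))))
      · exact Or.inr (hd.trans (orderOf_dvd_of_pow_eq_one (Subtype.ext (Units.ext (by simpa using h)))))
  · intro hn
    haveI : Finite (W9 ⋊[act40] comp40) := Finite.of_equiv _ SemidirectProduct.equivProd.symm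
    suffices hbig : ∃ y : W9 ⋊[act40] comp40, n ∣ orderOf y from
      let ⟨y, hy⟩ := hbig
      ⟨y ^ (orderOf y / n), orderOf_pow_orderOf_div (orderOf_pos y).ne' hy⟩
    have h31 : (-1 : M4) ≠ 1 := by decide
    have hinr : ∀ g : comp40, orderOf (SemidirectProduct.inr g : W9 ⋊[act40] comp40) =
        orderOf ((g : M4ˣ) : M4) := fun g => by
      rw [orderOf_injective _ SemidirectProduct.inr_injective, ← Subgroup.orderOf_coe, ← orderOf_units]
    rcases hn with h | h | h
    · obtain ⟨w, hw⟩ : ∃ w : W9, w ≠ 1 := exists_ne 1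
      refine ⟨SemidirectProduct.inl w, ?_⟩
      rw [orderOf_injective _ SemidirectProduct.inl_injective, orderOf_eq_prime (hW w) hw]
      exact h
    · let u : M4ˣ := ⟨mC, mC ^ 7, by rw [← pow_succ', mC_eight], by rw [← pow_succ, mC_eight]⟩
      refine ⟨SemidirectProduct.inr (⟨u, 0, 1, by simp [u]⟩ : comp40), ?_⟩
      rw [hinr]
      show n ∣ orderOf mC
      rw [orderOf_eq_prime_pow (p := 2) (n := 2) (by rw [show 2 ^ 2 = 4 from rfl, mC_four]; exact h31)
        (by rw [show 2 ^ (2 + 1) = 8 from rfl, mC_eight])]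
      exact h
    · set Y : M4 := -mX with hY
      have hY5 : Y ^ 5 = -1 := by rw [hY, (show Odd 5 from ⟨2, rfl⟩).neg_pow, mX_five]
      have hY10 : Y ^ 10 = 1 := by rw [show (10 : ℕ) = 5 * 2 from rfl, pow_mul, hY5, neg_one_sq]
      let u : M4ˣ := ⟨Y, Y ^ 9, by rw [← pow_succ', hY10], by rw [← pow_succ, hY10]⟩
      refine ⟨SemidirectProduct.inr (⟨u, 1, 4, by simp [u, hY, mC_four]⟩ : comp40), ?_⟩
      rw [hinr]
      show n ∣ orderOf Y
      have hd := orderOf_dvd_of_pow_eq_one hY10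
      have h5 : ¬ orderOf Y ∣ 5 := fun h => h31 (hY5 ▸ orderOf_dvd_iff_pow_eq_one.1 h)
      have h2 : ¬ orderOf Y ∣ 2 := fun h => by
        have h2 := orderOf_dvd_iff_pow_eq_one.1 h
        rw [hY, neg_sq, pow_two, mX_two] at h2
        exact absurd h2 (by decide)
      have : orderOf Y = 10 := by
        have hle : orderOf Y ≤ 10 := Nat.le_of_dvd (by norm_num) hd
        generalize orderOf Y = k at hd h5 h2 hle
        interval_cases k <;> first | rfl | (revert hd h5 h2; decide)
      rw [this]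
      exact h

end Nine

theorem small_solvable {F : Type*} [Field F] [Fintype F] (h : Fintype.card F = 2 ∨ Fintype.card F = 3)
    (N : ℕ) : ∃ (H : Type) (_ : Group H) (_ : Fintype H), N < Fintype.card H ∧
      Set.range (orderOf : H → ℕ) = Set.range (orderOf : GL (Fin 2) F ⧸ Subgroup.center (GL (Fin 2) F) → ℕ) := by
  set P := GL (Fin 2) F ⧸ Subgroup.center (GL (Fin 2) F)
  have hdvd : Nat.card P ∣ Nat.card (GL (Fin 2) F) := Subgroup.card_quotient_dvd_card _
  rw [Matrix.card_GL_field] at hdvd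
  obtain ⟨a', b', hcard⟩ : ∃ a' b', Nat.card P = 2 ^ a' * 3 ^ b' := by
    have h48 : Nat.card P ∣ 2 ^ 4 * 3 ^ 1 := hdvd.trans (by
      rcases h with h | h <;> simp [h, Fin.prod_univ_two])
    obtain ⟨u, v, hu, hv, huv⟩ := Nat.dvd_mul.1 h48
    obtain ⟨i, -, rfl⟩ := (Nat.dvd_prime_pow Nat.prime_two).1 hu
    obtain ⟨j, -, rfl⟩ := (Nat.dvd_prime_pow Nat.prime_three).1 hv
    exact ⟨i, j, huv.symm⟩
  have hsol : Group.IsSolvable P :=
    Cfsg.Agent.S0144.result 2 3 a' b' Nat.prime_two Nat.prime_three hcard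
  have htop : (⊤ : Subgroup P) ≠ ⊥ := by
    intro e
    let g : GL (Fin 2) F := Matrix.GeneralLinearGroup.mkOfDetNeZero !![1, 1; 0, 1]
      (by simp [Matrix.det_fin_two])
    have hg : (QuotientGroup.mk g : P) ∈ (⊥ : Subgroup P) := e ▸ Subgroup.mem_top _
    rw [Subgroup.mem_bot, Cfsg.Lib.Recog.pgl_mk_eq_one_iff] at hg
    obtain ⟨c, hc⟩ := hg
    simpa [g, Matrix.GeneralLinearGroup.mkOfDetNeZero] using congrFun (congrFun hc 0) 1
  obtain ⟨A, l, hA, hA1, hl, hAl⟩ :=
    Cfsg.Lib.Spec.exists_normal_prime_exponent (⊤ : Subgroup P) htop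
      (Group.isSolvable_of_isSolvable_injective (f := (Subgroup.topEquiv (G := P)).toMonoidHom) (MulEquiv.injective _))
  exact Cfsg.Lib.Spec.exists_isospectral_large A hA1 hl hAl N

/-- For F a finite field whose number of elements is a prime or equals 9, the group PGL(2,F) = GL(2,F)/Z(GL(2,F)) is not determined by its set of element orders: for every bound N there is a finite group of order greater than N with exactly the same set of element orders as PGL(2,F). -/
theorem result {F : Type*} [Field F] [Fintype F] (hF : (Fintype.card F).Prime ∨ Fintype.card F = 9) (N : ℕ) :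
    ∃ (H : Type) (_ : Group H) (_ : Fintype H), N < Fintype.card H ∧
      Set.range (orderOf : H → ℕ) = Set.range (orderOf : Matrix.GeneralLinearGroup (Fin 2) F ⧸ Subgroup.center (Matrix.GeneralLinearGroup (Fin 2) F) → ℕ) := by
  rcases hF with hp | h9
  · by_cases h5 : 5 ≤ Fintype.card F
    · haveI := Fact.mk hp
      haveI : CharP F (Fintype.card F) := charP_of_card_eq_prime rfl
      rw [Cfsg.Lib.Recog.pgl_two_spectrum (Fintype.card F) (by omega)]
      exact large_prime h5 N
    · refine small_solvable ?_ N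
      have h2 := hp.two_le
      have h4 : Fintype.card F ≠ 4 := fun e => by rw [e] at hp; norm_num at hp
      omega
  · haveI : Fact (Nat.Prime 3) := ⟨Nat.prime_three⟩
    haveI : CharP F 3 := charP_of_card_eq_prime_pow (f := 2) (by rw [h9]; norm_num)
    rw [Cfsg.Lib.Recog.pgl_two_spectrum 3 (by norm_num), h9]
    exact large_nine N

end Cfsg.Agent.S3452
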