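import Cfsg.Statements.S3466
import Cfsg.Agent.Lib.Spec.PSpFour.Twisted
import Cfsg.Agent.Lib.Spec.PSpFour.Large
import Cfsg.Agent.S3439

set_option autoImplicit false
open Cfsg

namespace Cfsg.Agent.S3466

/-- Let F be a finite field with q ≥ 3 elements such that q is not of the form 3^(2t+1) with t ≥ 1. Then PSp(4,F) is not determined by its set of element orders, not even up to finitely many groups: for every bound N there is a finite group of order greater than N with exactly the same set of element orders as PSp(4,F). -/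
theorem result {F : Type*} [Field F] [Fintype F] (h3 : 3 ≤ Fintype.card F) (hq : ∀ t : ℕ, 1 ≤ t → Fintype.card F ≠ 3 ^ (2 * t + 1)) (N : ℕ) :
    ∃ (H : Type) (_ : Group H) (_ : Fintype H), N < Fintype.card H ∧ Set.range (orderOf : H → ℕ) = Set.range (orderOf : Cfsg.PSp 2 F → ℕ) := by
  classical
  obtain ⟨p, hp⟩ := CharP.exists F
  obtain ⟨n, hpr, hn⟩ := FiniteField.card F p
  haveI : Fact p.Prime := ⟨hpr⟩
  rcases lt_or_ge p 5 with h5 | h5
  · obtain rfl | rfl : p = 2 ∨ p = 3 := by
      have h2 := hpr.two_le
      interval_cases p <;> first | (norm_num at hpr; done) | omega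
    · exact Cfsg.Lib.Spec.PSpFour.cover_two h3 N
    · rcases Nat.even_or_odd (n : ℕ) with ⟨t, ht⟩ | ⟨t, ht⟩
      · exact Cfsg.Lib.Spec.PSpFour.cover_three hn (by rw [ht]; ring) (t := t) (by have := n.pos; omega) N
      · rcases Nat.eq_zero_or_pos t with rfl | htpos
        · have hF : Fintype.card F = 3 := by rw [hn, ht]; norm_num
          obtain ⟨H, i1, i2, hs, hr⟩ := Cfsg.Agent.S3439.result hF
          have h9 : (9 : ℕ) ∈ Set.range (orderOf : H → ℕ) := by
            rw [hr, Cfsg.Lib.Spec.PSpFour.spectrum_eq 3 h3]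
            exact Or.inr (Or.inr (Or.inr (Or.inr (Or.inr ⟨rfl, dvd_rfl⟩))))
          have htop : (⊤ : Subgroup H) ≠ ⊥ := by
            obtain ⟨x, hx⟩ := h9
            intro h
            have h1 : x = 1 := Subgroup.mem_bot.1 (h ▸ Subgroup.mem_top x)
            rw [h1, orderOf_one] at hx
            omega
          haveI := hs
          obtain ⟨A, l, hA, hA1, hl, hAl⟩ :=
            Cfsg.Lib.Spec.exists_normal_prime_exponent (⊤ : Subgroup H) htop inferInstance
          haveI := hA
          obtain ⟨H', j1, j2, hN, hr'⟩ := Cfsg.Lib.Spec.exists_isospectral_large A hA1 hl hAl N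
          exact ⟨H', j1, j2, hN, hr'.trans hr⟩
        · exact absurd (by rw [hn, ht]) (hq t htpos)
  · exact Cfsg.Lib.Spec.PSpFour.cover_large (p := p) h5 N

end Cfsg.Agent.S3466
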