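import Cfsg.Statements.S3487
import Cfsg.Agent.Lib.TriSpec.Spectrum
-- import your own Cfsg.Agent.* helpers here

set_option autoImplicit false
open Cfsg

namespace Cfsg.Agent.S3487

/-- The triality group ³D₄(2) is not determined by its set of element orders, not even up to finitely many groups: for K the field with 8 elements and every bound N there is a finite group of order greater than N with exactly the same set of element orders as ³D₄(2) (realised over K). -/
theorem result {K : Type*} [Field K] [Fintype K] (hK : Fintype.card K = 8) (N : ℕ) : ∃ (H : Type) (_ : Group H) (_ : Fintype H), N < Fintype.card H ∧ Set.range (orderOf : H → ℕ) = Set.range (orderOf : Cfsg.Lie.twistedD4 K 2 → ℕ) := by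
  haveI : CharP K 2 := charP_of_card_eq_prime_pow (f := 3) hK
  obtain ⟨z, hz⟩ := Cfsg.Lib.TriSpec.exists_zeta hK
  obtain ⟨ψ, hψ, hgen⟩ := Cfsg.Lib.TriSpec.exists_rep hK hz
  have hcard : Nat.card ↥(Cfsg.Lie.twistedD4 K 2) = 2 ^ 12 * (3 ^ 4 * 7 ^ 2 * 13) := by
    rw [Cfsg.Agent.S1067.result (K := K) (q := 2) Nat.prime_two.isPrimePow (by rw [hK]; rfl)]
    norm_num
  haveI : Finite ↥(Cfsg.Lie.twistedD4 K 2) := Nat.finite_of_card_ne_zero (by rw [hcard]; norm_num)
  refine Cfsg.Lib.TriSpec.exists_isospectral ψ _ (fun g => ?_)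
    (Cfsg.Lib.TriSpec.witnesses ψ hψ hz hgen) N
  rcases Cfsg.Lib.TriSpec.norm_eq_zero_or ψ hψ hK hz hgen hcard g with h | h
  · exact Or.inl h
  · exact Or.inr (by simpa using h)

end Cfsg.Agent.S3487
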