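import Cfsg.Statements.S3488
import Mathlib

set_option autoImplicit false
set_option maxRecDepth 100000
set_option linter.style.haveILetI false
set_option linter.unusedSimpArgs false
open Cfsg

namespace Cfsg.Agent.S3488

open Matrix

theorem order_small {G : Type*} [Monoid G] {g : G} (h : g ^ 4 = 1 ∨ g ^ 3 = 1 ∨ g ^ 5 = 1) :
    orderOf g = 1 ∨ orderOf g = 2 ∨ orderOf g = 3 ∨ orderOf g = 4 ∨ orderOf g = 5 := by
  have : orderOf g ∣ 4 ∨ orderOf g ∣ 3 ∨ orderOf g ∣ 5 :=
    h.imp orderOf_dvd_of_pow_eq_one (Or.imp orderOf_dvd_of_pow_eq_one orderOf_dvd_of_pow_eq_one)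
  rcases this with h | h | h
  · have := Nat.le_of_dvd (by norm_num) h
    have h0 : orderOf g ≠ 0 := by intro h0; simp [h0] at h
    interval_cases orderOf g <;> simp_all
  · rcases (Nat.dvd_prime (by norm_num)).mp h with e | e <;> simp [e]
  · rcases (Nat.dvd_prime (by norm_num)).mp h with e | e <;> simp [e]

theorem order_four {G : Type*} [Monoid G] {g : G} (h : g ^ 4 = 1) (h2 : g ^ 2 ≠ 1) : orderOf g = 4 :=
  orderOf_eq_prime_pow (p := 2) (n := 1) (by simpa using h2) (by simpa using h)

theorem a6_exp : ∀ g : alternatingGroup (Fin 6), g ^ 4 = 1 ∨ g ^ 3 = 1 ∨ g ^ 5 = 1 := by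
  decide +kernel

theorem a6_witness : ∀ n : ℕ, (n = 1 ∨ n = 2 ∨ n = 3 ∨ n = 4 ∨ n = 5) →
    ∃ g : alternatingGroup (Fin 6), orderOf g = n := by
  rintro n (rfl | rfl | rfl | rfl | rfl)
  · exact ⟨1, orderOf_one⟩
  · haveI : Fact (Nat.Prime 2) := ⟨by norm_num⟩
    exact ⟨⟨Equiv.swap 0 1 * Equiv.swap 2 3, Equiv.Perm.mem_alternatingGroup.mpr (by decide +kernel)⟩,
      orderOf_eq_prime (by decide +kernel) (by decide +kernel)⟩
  · haveI : Fact (Nat.Prime 3) := ⟨by norm_num⟩
    exact ⟨⟨Equiv.swap 0 1 * Equiv.swap 1 2, Equiv.Perm.mem_alternatingGroup.mpr (by decide +kernel)⟩,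
      orderOf_eq_prime (by decide +kernel) (by decide +kernel)⟩
  · exact ⟨⟨Equiv.swap 0 1 * Equiv.swap 1 2 * Equiv.swap 2 3 * Equiv.swap 4 5,
      Equiv.Perm.mem_alternatingGroup.mpr (by decide +kernel)⟩,
      order_four (by decide +kernel) (by decide +kernel)⟩
  · haveI : Fact (Nat.Prime 5) := ⟨by norm_num⟩
    exact ⟨⟨Equiv.swap 0 1 * Equiv.swap 1 2 * Equiv.swap 2 3 * Equiv.swap 3 4,
      Equiv.Perm.mem_alternatingGroup.mpr (by decide +kernel)⟩,
      orderOf_eq_prime (by decide +kernel) (by decide +kernel)⟩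

section

variable {F : Type*} [Field F] [Fintype F]

/-- The exponents of the affine special linear matrices. -/
theorem affine_exp (hF : Fintype.card F = 4) {M : SpecialLinearGroup (Fin 3) F}
    (h0 : (M : Matrix (Fin 3) (Fin 3) F) 2 0 = 0) (h1 : (M : Matrix (Fin 3) (Fin 3) F) 2 1 = 0)
    (h2 : (M : Matrix (Fin 3) (Fin 3) F) 2 2 = 1) : M ^ 4 = 1 ∨ M ^ 3 = 1 ∨ M ^ 5 = 1 := by
  have two : (2 : F) = 0 := by
    have h := FiniteField.cast_card_eq_zero F
    rw [hF] at h
    have : (2 : F) * 2 = 0 := by push_cast at h; linear_combination h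
    exact mul_self_eq_zero.mp this
  set A : Matrix (Fin 3) (Fin 3) F := (M : Matrix (Fin 3) (Fin 3) F) with hA
  have hdet : A 0 0 * A 1 1 - A 0 1 * A 1 0 = 1 := by
    have h := M.2
    rw [Matrix.det_fin_three] at h
    change A 0 0 * A 1 1 * A 2 2 - A 0 0 * A 1 2 * A 2 1 - A 0 1 * A 1 0 * A 2 2 +
      A 0 1 * A 1 2 * A 2 0 + A 0 2 * A 1 0 * A 2 1 - A 0 2 * A 1 1 * A 2 0 = 1 at h
    rw [h0, h1, h2] at h
    linear_combination h
  obtain ⟨t, ht⟩ : ∃ t, t = A 0 0 + A 1 1 := ⟨_, rfl⟩
  have hcube : A * A * A + (t + 1) • (A * A) + (t + 1) • A + 1 = 0 := by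
    ext i j
    fin_cases i <;> fin_cases j <;>
      simp [Matrix.mul_apply, Fin.sum_univ_three, h0, h1, h2, ht, Matrix.one_apply] <;>
      grind
  have hone : ∀ n, A ^ n = 1 → M ^ n = 1 := fun n h =>
    Subtype.ext (by rw [Matrix.SpecialLinearGroup.coe_pow]; exact h)
  have hneg : ∀ B : Matrix (Fin 3) (Fin 3) F, B + B = 0 := fun B => by
    ext i j
    simp only [Matrix.add_apply, Matrix.zero_apply]
    linear_combination two * B i j
  have hA3 : A * A * A = (t + 1) • (A * A) + (t + 1) • A + 1 := by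
    rw [← sub_eq_zero]
    calc A * A * A - ((t + 1) • (A * A) + (t + 1) • A + 1)
        = A * A * A + (t + 1) • (A * A) + (t + 1) • A + 1 -
          (((t + 1) • (A * A) + (t + 1) • A + 1) + ((t + 1) • (A * A) + (t + 1) • A + 1)) := by abel
      _ = 0 := by rw [hcube, hneg, sub_zero]
  have hA4 : A * A * A * A = (t + 1) • (A * A * A) + (t + 1) • (A * A) + A := by
    conv_lhs => rw [hA3]
    simp [add_mul, Matrix.mul_assoc]
  have hA5 : A * A * A * A * A = (t + 1) • (A * A * A * A) + (t + 1) • (A * A * A) + A * A := by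
    conv_lhs => rw [hA4]
    simp [add_mul, Matrix.mul_assoc]
  have ht4 : t ^ 4 = t := hF ▸ FiniteField.pow_card t
  rcases eq_or_ne t 0 with ht0 | ht0
  · left
    refine hone 4 ?_
    simp only [ht0, zero_add, one_smul] at hA3 hA4
    rw [pow_succ, pow_succ, pow_two, hA4, hA3]
    calc A * A + A + 1 + A * A + A = (A * A + A * A) + (A + A) + 1 := by abel
      _ = 1 := by rw [hneg, hneg, zero_add, zero_add]
  rcases eq_or_ne t 1 with ht1 | ht1
  · right; left
    refine hone 3 ?_
    have e : (1 : F) + 1 = 0 := by linear_combination two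
    simp only [ht1, e, zero_smul, zero_add] at hA3
    rw [pow_succ, pow_two, hA3]
  · right; right
    refine hone 5 ?_
    have hq : t ^ 2 + t + 1 = 0 := by
      have h3 : (t - 1) * (t ^ 2 + t + 1) = 0 := by
        have : t * (t ^ 3 - 1) = 0 := by linear_combination ht4
        have := (mul_eq_zero.mp this).resolve_left ht0
        linear_combination this
      exact (mul_eq_zero.mp h3).resolve_left (sub_ne_zero.mpr ht1)
    rw [pow_succ, pow_succ, pow_succ, pow_two, hA5, hA4, hA3]
    ext i j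
    simp only [Matrix.add_apply, Matrix.smul_apply, smul_eq_mul]
    grind

/-- An element of the affine group from a matrix. -/
def aff (A : Matrix (Fin 3) (Fin 3) F) (h : A.det = 1) : SpecialLinearGroup (Fin 3) F := ⟨A, h⟩

end


/-- Let F be the field with four elements. The affine group F² ⋊ SL(2,F), realised as the subgroup of SL(3,F) of matrices with last row (0, 0, 1), has exactly the same set of element orders as the alternating group of degree 6 (namely {1, 2, 3, 4, 5}); so the alternating group of degree 6 is not determined by its element orders. -/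
theorem result {F : Type*} [Field F] [Fintype F] (hF : Fintype.card F = 4) :
    Set.range (orderOf : Subgroup.closure {M : Matrix.SpecialLinearGroup (Fin 3) F |
        (M : Matrix (Fin 3) (Fin 3) F) 2 0 = 0 ∧ (M : Matrix (Fin 3) (Fin 3) F) 2 1 = 0 ∧ (M : Matrix (Fin 3) (Fin 3) F) 2 2 = 1} → ℕ) =
      Set.range (orderOf : alternatingGroup (Fin 6) → ℕ) := by
  classical
  set S : Set (SpecialLinearGroup (Fin 3) F) := {M |
        (M : Matrix (Fin 3) (Fin 3) F) 2 0 = 0 ∧ (M : Matrix (Fin 3) (Fin 3) F) 2 1 = 0 ∧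
          (M : Matrix (Fin 3) (Fin 3) F) 2 2 = 1} with hS
  have two : (2 : F) = 0 := by
    have h := FiniteField.cast_card_eq_zero F
    rw [hF] at h
    have : (2 : F) * 2 = 0 := by push_cast at h; linear_combination h
    exact mul_self_eq_zero.mp this
  have hmem : ∀ M ∈ Subgroup.closure S, M ∈ S := by
    intro M hM
    induction hM using Subgroup.closure_induction with
    | mem x hx => exact hx
    | one => simp [hS]
    | mul x y _ _ hx hy =>
      obtain ⟨a, b, c⟩ := hx
      obtain ⟨a', b', c'⟩ := hy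
      simp [hS, Matrix.SpecialLinearGroup.coe_mul, Matrix.mul_apply, Fin.sum_univ_three, a, b, c,
        a', b', c']
    | inv x _ hx =>
      obtain ⟨a, b, c⟩ := hx
      have hdet := x.2
      rw [Matrix.det_fin_three] at hdet
      simp [hS, Matrix.SpecialLinearGroup.coe_inv, Matrix.adjugate_fin_three, a, b, c] at hdet ⊢
      grind
  have hex : ∀ n : ℕ, (n = 1 ∨ n = 2 ∨ n = 3 ∨ n = 4 ∨ n = 5) →
      ∃ g : Subgroup.closure S, orderOf g = n := by
    intro n hn
    suffices ∃ M ∈ S, orderOf M = n by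
      obtain ⟨M, hM, rfl⟩ := this
      exact ⟨⟨M, Subgroup.subset_closure hM⟩, by rw [← Subgroup.orderOf_coe]⟩
    have neq : ∀ {M : SpecialLinearGroup (Fin 3) F} (i j : Fin 3),
        (M : Matrix (Fin 3) (Fin 3) F) i j ≠ (1 : Matrix (Fin 3) (Fin 3) F) i j → M ≠ 1 := by
      intro M i j h e
      rw [e] at h
      exact h rfl
    rcases hn with rfl | rfl | rfl | rfl | rfl
    · exact ⟨1, by simp [hS], orderOf_one⟩
    · refine ⟨aff !![1, 1, 0; 0, 1, 0; 0, 0, 1] (by simp [Matrix.det_fin_three]), ⟨rfl, rfl, rfl⟩, ?_⟩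
      haveI : Fact (Nat.Prime 2) := ⟨by norm_num⟩
      refine orderOf_eq_prime (Subtype.ext ?_) (neq 0 1 (by simp [aff]))
      rw [pow_two, Matrix.SpecialLinearGroup.coe_mul]
      ext i j
      fin_cases i <;> fin_cases j <;>
        simp [aff, Matrix.mul_apply, Fin.sum_univ_three] <;> grind
    · refine ⟨aff !![1, 1, 0; 1, 0, 0; 0, 0, 1] (by simp [Matrix.det_fin_three]; grind),
        ⟨rfl, rfl, rfl⟩, ?_⟩
      haveI : Fact (Nat.Prime 3) := ⟨by norm_num⟩
      refine orderOf_eq_prime (Subtype.ext ?_) (neq 0 1 (by simp [aff]))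
      rw [pow_succ, pow_two, Matrix.SpecialLinearGroup.coe_mul, Matrix.SpecialLinearGroup.coe_mul]
      ext i j
      fin_cases i <;> fin_cases j <;>
        simp [aff, Matrix.mul_apply, Fin.sum_univ_three] <;> grind
    · refine ⟨aff !![1, 1, 0; 0, 1, 1; 0, 0, 1] (by simp [Matrix.det_fin_three]), ⟨rfl, rfl, rfl⟩, ?_⟩
      refine order_four (Subtype.ext ?_) (neq 0 2 ?_)
      · rw [show (4 : ℕ) = 2 + 2 by rfl, pow_add, pow_two, Matrix.SpecialLinearGroup.coe_mul,
          Matrix.SpecialLinearGroup.coe_mul]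
        ext i j
        fin_cases i <;> fin_cases j <;>
          simp [aff, Matrix.mul_apply, Fin.sum_univ_three] <;> grind
      · rw [pow_two, Matrix.SpecialLinearGroup.coe_mul]
        simp [aff, Matrix.mul_apply, Fin.sum_univ_three]
    · obtain ⟨w, hw0, hw1⟩ : ∃ w : F, w ≠ 0 ∧ w ≠ 1 := by
        by_contra hh
        push Not at hh
        have := Finset.card_le_card (s := (Finset.univ : Finset F)) (t := {0, 1}) (fun x _ => by
          by_cases hx : x = 0
          · simp [hx]
          · simp [hh x hx])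
        rw [Finset.card_univ, hF] at this
        exact absurd (this.trans Finset.card_le_two) (by norm_num)
      have hq : w ^ 2 + w + 1 = 0 := by
        have ht4 : w ^ 4 = w := hF ▸ FiniteField.pow_card w
        have h3 : (w - 1) * (w ^ 2 + w + 1) = 0 := by
          have : w * (w ^ 3 - 1) = 0 := by linear_combination ht4
          have := (mul_eq_zero.mp this).resolve_left hw0
          linear_combination this
        exact (mul_eq_zero.mp h3).resolve_left (sub_ne_zero.mpr hw1)
      refine ⟨aff !![w, 1, 0; 1, 0, 0; 0, 0, 1] (by simp [Matrix.det_fin_three]; grind),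
        ⟨rfl, rfl, rfl⟩, ?_⟩
      haveI : Fact (Nat.Prime 5) := ⟨by norm_num⟩
      refine orderOf_eq_prime (Subtype.ext ?_) (neq 0 1 (by simp [aff]))
      rw [show (5 : ℕ) = 2 + 2 + 1 by rfl, pow_succ, pow_add, pow_two,
        Matrix.SpecialLinearGroup.coe_mul, Matrix.SpecialLinearGroup.coe_mul,
        Matrix.SpecialLinearGroup.coe_mul]
      ext i j
      fin_cases i <;> fin_cases j <;>
        simp [aff, Matrix.mul_apply, Fin.sum_univ_three] <;> grind
  ext n
  constructor
  · rintro ⟨g, rfl⟩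
    obtain ⟨a, b, c⟩ := hmem _ g.2
    obtain ⟨x, hx⟩ := a6_witness _ (order_small (affine_exp hF a b c))
    exact ⟨x, hx.trans (Subgroup.orderOf_coe g)⟩
  · rintro ⟨g, rfl⟩
    exact hex _ (order_small (a6_exp g))

end Cfsg.Agent.S3488
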