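import Cfsg.Statements.S3489
import Cfsg.Agent.Lib.Concrete.AltOrders
-- import your own Cfsg.Agent.* helpers here

set_option autoImplicit false
open Cfsg

namespace Cfsg.Agent.S3489

set_option linter.style.haveILetI false
open Cfsg
open Matrix

/-- octal digit -/
def dig (k c : ℕ) : ℕ := c / 8 ^ k % 8

/-- encoding of nine digits -/
def enc (a0 a1 b0 b1 c0 c1 d0 d1 e : ℕ) : ℕ :=
  a0 + 8 * (a1 + 8 * (b0 + 8 * (b1 + 8 * (c0 + 8 * (c1 + 8 * (d0 + 8 * (d1 + 8 * e)))))))

/-- the factor of the Galois automorphism on the imaginary part -/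
def sgn (e : ℕ) : ℕ := if e = 0 then 1 else 6

/-- product of two coded semilinear maps of the plane over the field with 49 elements -/
def mulC (a b : ℕ) : ℕ :=
  let f := sgn (dig 8 a)
  enc ((dig 0 a * dig 0 b + 6 * dig 1 a * f * dig 1 b + dig 2 a * dig 4 b + 6 * dig 3 a * f * dig 5 b) % 7)
    ((dig 0 a * f * dig 1 b + dig 1 a * dig 0 b + dig 2 a * f * dig 5 b + dig 3 a * dig 4 b) % 7)
    ((dig 0 a * dig 2 b + 6 * dig 1 a * f * dig 3 b + dig 2 a * dig 6 b + 6 * dig 3 a * f * dig 7 b) % 7)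
    ((dig 0 a * f * dig 3 b + dig 1 a * dig 2 b + dig 2 a * f * dig 7 b + dig 3 a * dig 6 b) % 7)
    ((dig 4 a * dig 0 b + 6 * dig 5 a * f * dig 1 b + dig 6 a * dig 4 b + 6 * dig 7 a * f * dig 5 b) % 7)
    ((dig 4 a * f * dig 1 b + dig 5 a * dig 0 b + dig 6 a * f * dig 5 b + dig 7 a * dig 4 b) % 7)
    ((dig 4 a * dig 2 b + 6 * dig 5 a * f * dig 3 b + dig 6 a * dig 6 b + 6 * dig 7 a * f * dig 7 b) % 7)
    ((dig 4 a * f * dig 3 b + dig 5 a * dig 2 b + dig 6 a * f * dig 7 b + dig 7 a * dig 6 b) % 7)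
    ((dig 8 a + dig 8 b) % 2)

/-- entries of the 4 × 4 matrix over the field with 7 elements -/
def entN (c i j : ℕ) : ℕ :=
  let k := 4 * (i / 2) + 2 * (j / 2)
  if j % 2 = 0 then dig (k + i % 2) c
  else sgn (dig 8 c) * (if i % 2 = 0 then 6 * dig (k + 1) c else dig k c)

/-- the semilinear map with given digits, as a matrix -/
def Mf {R : Type*} [CommRing R] (e a0 a1 b0 b1 c0 c1 d0 d1 : R) : Matrix (Fin 4) (Fin 4) R :=
  !![a0, -(e * a1), b0, -(e * b1);
     a1, e * a0, b1, e * b0;
     c0, -(e * c1), d0, -(e * d1);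
     c1, e * c0, d1, e * d0]

/-- the matrix of a code -/
def φ (c : ℕ) : Matrix (Fin 4) (Fin 4) (ZMod 7) :=
  Matrix.of fun i j => (entN c i.val j.val : ZMod 7)

theorem sgn_cast (e : ℕ) : ((sgn e : ℕ) : ZMod 7) = if e = 0 then 1 else -1 := by
  unfold sgn; split <;> rfl

theorem φ_eq (c : ℕ) : φ c = Mf (sgn (dig 8 c) : ZMod 7) (dig 0 c) (dig 1 c) (dig 2 c) (dig 3 c)
    (dig 4 c) (dig 5 c) (dig 6 c) (dig 7 c) := by
  have h6 : (6 : ZMod 7) = -1 := by decide
  ext i j
  fin_cases i <;> fin_cases j <;> simp [φ, entN, Mf, h6, Nat.cast_mul]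

theorem Mf_mul {R : Type*} [CommRing R] (e e' : R) (he : e * e = 1)
    (a0 a1 b0 b1 c0 c1 d0 d1 x0 x1 y0 y1 z0 z1 w0 w1 : R) :
    Mf e a0 a1 b0 b1 c0 c1 d0 d1 * Mf e' x0 x1 y0 y1 z0 z1 w0 w1 =
      Mf (e * e') (a0 * x0 - a1 * e * x1 + b0 * z0 - b1 * e * z1)
        (a0 * e * x1 + a1 * x0 + b0 * e * z1 + b1 * z0)
        (a0 * y0 - a1 * e * y1 + b0 * w0 - b1 * e * w1)
        (a0 * e * y1 + a1 * y0 + b0 * e * w1 + b1 * w0)
        (c0 * x0 - c1 * e * x1 + d0 * z0 - d1 * e * z1)
        (c0 * e * x1 + c1 * x0 + d0 * e * z1 + d1 * z0)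
        (c0 * y0 - c1 * e * y1 + d0 * w0 - d1 * e * w1)
        (c0 * e * y1 + c1 * y0 + d0 * e * w1 + d1 * w0) := by
  ext i j
  fin_cases i <;> fin_cases j <;> simp [Mf, Matrix.mul_apply, Fin.sum_univ_four] <;>
    grobner

theorem dig_enc {a0 a1 b0 b1 c0 c1 d0 d1 e : ℕ} (h0 : a0 < 8) (h1 : a1 < 8) (h2 : b0 < 8)
    (h3 : b1 < 8) (h4 : c0 < 8) (h5 : c1 < 8) (h6 : d0 < 8) (h7 : d1 < 8) (h8 : e < 8) :
    dig 0 (enc a0 a1 b0 b1 c0 c1 d0 d1 e) = a0 ∧ dig 1 (enc a0 a1 b0 b1 c0 c1 d0 d1 e) = a1 ∧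
    dig 2 (enc a0 a1 b0 b1 c0 c1 d0 d1 e) = b0 ∧ dig 3 (enc a0 a1 b0 b1 c0 c1 d0 d1 e) = b1 ∧
    dig 4 (enc a0 a1 b0 b1 c0 c1 d0 d1 e) = c0 ∧ dig 5 (enc a0 a1 b0 b1 c0 c1 d0 d1 e) = c1 ∧
    dig 6 (enc a0 a1 b0 b1 c0 c1 d0 d1 e) = d0 ∧ dig 7 (enc a0 a1 b0 b1 c0 c1 d0 d1 e) = d1 ∧
    dig 8 (enc a0 a1 b0 b1 c0 c1 d0 d1 e) = e := by
  simp only [dig, enc, pow_zero, Nat.div_one]
  norm_num
  omega

theorem φ_mul (a b : ℕ) (ha : dig 8 a < 2) (hb : dig 8 b < 2) :
    φ (mulC a b) = φ a * φ b := by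
  have hm : ∀ x : ℕ, x % 7 < 8 := fun x => (Nat.mod_lt _ (by norm_num)).trans (by norm_num)
  have h6 : (6 : ZMod 7) = -1 := by decide
  have he : (sgn (dig 8 a) : ZMod 7) * sgn (dig 8 a) = 1 := by
    rw [sgn_cast]; split <;> simp
  have hs : (sgn ((dig 8 a + dig 8 b) % 2) : ZMod 7) = sgn (dig 8 a) * sgn (dig 8 b) := by
    interval_cases dig 8 a <;> interval_cases dig 8 b <;> decide
  rw [φ_eq, φ_eq, φ_eq, Mf_mul _ _ he]
  unfold mulC
  dsimp only
  obtain ⟨g0, g1, g2, g3, g4, g5, g6, g7, g8⟩ :=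
    dig_enc (e := (dig 8 a + dig 8 b) % 2) (hm (dig 0 a * dig 0 b + 6 * dig 1 a * sgn (dig 8 a) * dig 1 b + dig 2 a * dig 4 b + 6 * dig 3 a * sgn (dig 8 a) * dig 5 b))
      (hm (dig 0 a * sgn (dig 8 a) * dig 1 b + dig 1 a * dig 0 b + dig 2 a * sgn (dig 8 a) * dig 5 b + dig 3 a * dig 4 b))
      (hm (dig 0 a * dig 2 b + 6 * dig 1 a * sgn (dig 8 a) * dig 3 b + dig 2 a * dig 6 b + 6 * dig 3 a * sgn (dig 8 a) * dig 7 b))
      (hm (dig 0 a * sgn (dig 8 a) * dig 3 b + dig 1 a * dig 2 b + dig 2 a * sgn (dig 8 a) * dig 7 b + dig 3 a * dig 6 b))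
      (hm (dig 4 a * dig 0 b + 6 * dig 5 a * sgn (dig 8 a) * dig 1 b + dig 6 a * dig 4 b + 6 * dig 7 a * sgn (dig 8 a) * dig 5 b))
      (hm (dig 4 a * sgn (dig 8 a) * dig 1 b + dig 5 a * dig 0 b + dig 6 a * sgn (dig 8 a) * dig 5 b + dig 7 a * dig 4 b))
      (hm (dig 4 a * dig 2 b + 6 * dig 5 a * sgn (dig 8 a) * dig 3 b + dig 6 a * dig 6 b + 6 * dig 7 a * sgn (dig 8 a) * dig 7 b))
      (hm (dig 4 a * sgn (dig 8 a) * dig 3 b + dig 5 a * dig 2 b + dig 6 a * sgn (dig 8 a) * dig 7 b + dig 7 a * dig 6 b))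
      (by omega)
  rw [g0, g1, g2, g3, g4, g5, g6, g7, g8, hs]
  simp only [ZMod.natCast_mod, Nat.cast_add, Nat.cast_mul, Nat.cast_ofNat, h6, neg_mul,
    one_mul, sub_eq_add_neg]

/-- the 240 codes -/
def L : List ℕ := [262145, 486470, 606212, 690858, 868357, 944361, 1152790, 1224706, 1377621, 1486851,
  1572870, 1610625, 2099248, 2299812, 2376331, 2452342, 2670858, 2830538, 2838881, 2899273,
  2975092, 3029875, 3292020, 3295142, 3323954, 3476813, 3572365, 3586099, 3802417, 3890277,
  4205934, 4346414, 4468072, 4478701, 4608552, 4740846, 4932908, 5032664, 5186092, 5195053,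
  5390750, 5394667, 5410923, 5642346, 5671557, 5872349, 5925060, 5936873, 6445606, 6501651,
  6670437, 6703027, 6707744, 6898276, 6932582, 7036017, 7160421, 7280560, 7380323, 7493859,
  7674402, 7737954, 7759126, 7962785, 7974996, 8081781, 8440556, 8496153, 8691850, 8782174,
  8798635, 9018089, 9039261, 9102365, 9283356, 9396892, 9496648, 9616794, 9741198, 9844633,
  9878939, 10069016, 10074188, 10106778, 10506897, 10595345, 10840342, 10852099, 10904866, 11076930,
  11134869, 11362708, 11378964, 11382881, 11582162, 11590675, 11744544, 11806993, 11844307, 12069138,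
  12079760, 12168208, 12584456, 12642395, 12886938, 12946126, 13176178, 13190668, 13271730, 13452813,
  13482073, 13485195, 13648566, 13747340, 13802123, 13934750, 13943093, 14102773, 14171508, 14324873,
  17054342, 17107286, 17155400, 17426643, 17475344, 17515203, 17615442, 17748886, 17775707, 17875876,
  17902697, 18036141, 18136324, 18176232, 18224940, 18367809, 18496176, 18515625, 18898185, 18974064,
  19025043, 19203649, 19303630, 19359053, 19459292, 19603468, 19704155, 19749977, 20081891, 20095905,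
  20196144, 20372576, 20456074, 20469686, 20651373, 21047499, 21109364, 21187332, 21321034, 21400497,
  21556110, 21621912, 21670098, 21760666, 21800525, 22134818, 22178709, 22358771, 22498653, 22504740,
  22614757, 22768310, 23173520, 23226693, 23243843, 23380805, 23517378, 23644368, 23706177, 23993432,
  24044761, 24078485, 24164449, 24319918, 24323348, 24381227, 24471708, 24731694, 24828074, 25252740,
  25269890, 25323112, 25503573, 25595921, 25692372, 25859939, 26008299, 26011729, 26167198, 26253162,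
  26286886, 26338208, 26625414, 26687272, 26814213, 26950786, 27309251, 27387275, 27449140, 27563337,
  27716890, 27826907, 27832994, 27972876, 28152938, 28192797, 28312933, 28531122, 28661549, 28709728,
  28775537, 28902478, 29010613, 29369078, 29471596, 29493896, 29632585, 29646197, 29680274, 29906120,
  29959064, 30235742, 30249756, 30581670, 30627492, 30724147, 30872355, 30972594, 30999345, 31099270]

/-- the code of the identity -/
def cO : ℕ := 262145
/-- the code of the central involution -/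
def cM : ℕ := 1572870
/-- the generators and their inverses -/
def cs : ℕ := 17775707
@[inherit_doc cs] def ct : ℕ := 13482073
@[inherit_doc cs] def csi : ℕ := 26338208
@[inherit_doc cs] def cti : ℕ := 6703027

/-- powers of a code -/
def pw (c : ℕ) : ℕ → ℕ
  | 0 => cO
  | i + 1 => mulC (pw c i) c

/-- the order of a code, if at most 12 -/
def ordC (c : ℕ) : ℕ := ((List.range 13).find? fun i => 1 ≤ i && pw c i == cO).getD 0

/-- is the matrix of the code different from the identity -/
def neOne (c : ℕ) : Bool :=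
  (List.range 4).any fun i => (List.range 4).any fun j =>
    entN c i j % 7 != if i = j then 1 else 0

/-- the check for one code -/
def okC (c : ℕ) : Bool :=
  dig 8 c < 2 && (c == cO ||
    (let m := ordC c
     [2, 3, 4, 5, 6, 8, 10, 12].contains m && pw c m == cO &&
      (List.range m).all (fun i => i == 0 || neOne (pw c i)) &&
      ((List.range 4).all fun i => (List.range 4).all fun j =>
        ((List.range m).map fun k => entN (pw c k) i j).sum % 7 == 0) &&
      (m % 2 == 1 || pw c (m / 2) == cM)))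

theorem check_all : L.all okC = true := by decide +kernel

theorem check_closed : (L.all fun c => L.contains (mulC c cs) && L.contains (mulC c ct) &&
    L.contains (mulC c csi) && L.contains (mulC c cti)) = true := by decide +kernel

theorem check_inv : mulC cs csi = cO ∧ mulC csi cs = cO ∧ mulC ct cti = cO ∧ mulC cti ct = cO := by
  decide +kernel

theorem check_words : L.contains cO = true ∧ L.contains cs = true ∧ L.contains ct = true ∧
    L.contains (mulC cs ct) = true ∧ L.contains csi = true ∧ L.contains cti = true ∧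
    ordC cs = 8 ∧ ordC (mulC cs ct) = 12 ∧ ordC ct = 10 := by decide +kernel

theorem φ_cO : φ cO = 1 := by decide +kernel

theorem φ_cM : φ cM = -1 := by decide +kernel

theorem ok_of_mem {c : ℕ} (hc : c ∈ L) : okC c = true := List.all_eq_true.mp check_all c hc

theorem dig_of_mem {c : ℕ} (hc : c ∈ L) : dig 8 c < 2 := by
  have h := ok_of_mem hc
  simp only [okC, Bool.and_eq_true, decide_eq_true_eq] at h
  exact h.1

/-- the unit of a generator -/
def us : (Matrix (Fin 4) (Fin 4) (ZMod 7))ˣ where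
  val := φ cs
  inv := φ csi
  val_inv := by
    rw [← φ_mul _ _ (by decide) (by decide), check_inv.1, φ_cO]
  inv_val := by
    rw [← φ_mul _ _ (by decide) (by decide), check_inv.2.1, φ_cO]

@[inherit_doc us]
def ut : (Matrix (Fin 4) (Fin 4) (ZMod 7))ˣ where
  val := φ ct
  inv := φ cti
  val_inv := by
    rw [← φ_mul _ _ (by decide) (by decide), check_inv.2.2.1, φ_cO]
  inv_val := by
    rw [← φ_mul _ _ (by decide) (by decide), check_inv.2.2.2, φ_cO]

/-- the double cover of the symmetric group of degree 5 -/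
def K : Subgroup (Matrix (Fin 4) (Fin 4) (ZMod 7))ˣ := Subgroup.closure {us, ut}

theorem exists_code {u : (Matrix (Fin 4) (Fin 4) (ZMod 7))ˣ} (hu : u ∈ K) :
    ∃ c ∈ L, (u : Matrix (Fin 4) (Fin 4) (ZMod 7)) = φ c := by
  have hcl := List.all_eq_true.mp check_closed
  have key : ∀ c ∈ L, ∀ g, (g = cs ∨ g = ct ∨ g = csi ∨ g = cti) →
      mulC c g ∈ L ∧ φ (mulC c g) = φ c * φ g := by
    intro c hc g hg
    have h := hcl c hc
    simp only [Bool.and_eq_true, List.contains_iff_mem] at h
    refine ⟨?_, φ_mul _ _ (dig_of_mem hc) ?_⟩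
    · rcases hg with rfl | rfl | rfl | rfl
      exacts [h.1.1.1, h.1.1.2, h.1.2, h.2]
    · rcases hg with rfl | rfl | rfl | rfl <;> decide
  induction hu using Subgroup.closure_induction_right with
  | one => exact ⟨cO, List.contains_iff_mem.mp check_words.1, by rw [φ_cO]; rfl⟩
  | mul_right x hx y hy ih =>
    obtain ⟨c, hc, hxc⟩ := ih
    rcases hy with rfl | rfl
    · exact ⟨_, (key c hc cs (Or.inl rfl)).1, by rw [(key c hc cs (Or.inl rfl)).2, Units.val_mul, hxc]; rfl⟩
    · exact ⟨_, (key c hc ct (by simp)).1, by rw [(key c hc ct (by simp)).2, Units.val_mul, hxc]; rfl⟩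
  | mul_inv_cancel x hx y hy ih =>
    obtain ⟨c, hc, hxc⟩ := ih
    rcases hy with rfl | rfl
    · exact ⟨_, (key c hc csi (by simp)).1, by rw [(key c hc csi (by simp)).2, Units.val_mul, hxc]; rfl⟩
    · exact ⟨_, (key c hc cti (by simp)).1, by rw [(key c hc cti (by simp)).2, Units.val_mul, hxc]; rfl⟩

theorem φ_pw {u : (Matrix (Fin 4) (Fin 4) (ZMod 7))ˣ} {c : ℕ} (hc : c ∈ L)
    (hu : (u : Matrix (Fin 4) (Fin 4) (ZMod 7)) = φ c) : ∀ i, dig 8 (pw c i) < 2 ∧
      ((u ^ i : (Matrix (Fin 4) (Fin 4) (ZMod 7))ˣ) : Matrix (Fin 4) (Fin 4) (ZMod 7)) = φ (pw c i) := by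
  intro i
  induction i with
  | zero => exact ⟨(by decide : dig 8 cO < 2), by rw [pow_zero, Units.val_one]; exact φ_cO.symm⟩
  | succ i ih =>
    refine ⟨?_, ?_⟩
    · have hlt : ∀ x : ℕ, x % 7 < 8 := fun x => (Nat.mod_lt _ (by norm_num)).trans (by norm_num)
      show dig 8 (mulC (pw c i) c) < 2
      unfold mulC
      dsimp only
      rw [(dig_enc (hlt _) (hlt _) (hlt _) (hlt _) (hlt _) (hlt _) (hlt _) (hlt _) (by omega)).2.2.2.2.2.2.2.2]
      omega
    · rw [pow_succ, Units.val_mul, ih.2, hu, ← φ_mul _ _ ih.1 (dig_of_mem hc)]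
      rfl

theorem φ_ne_one {c : ℕ} (h : neOne c = true) : φ c ≠ 1 := by
  intro he
  simp only [neOne, List.any_eq_true, List.mem_range, bne_iff_ne] at h
  obtain ⟨i, hi, j, hj, hne⟩ := h
  apply hne
  have h1 := congrFun (congrFun he ⟨i, hi⟩) ⟨j, hj⟩
  simp only [φ, Matrix.of_apply, Matrix.one_apply, Fin.mk.injEq] at h1
  have h2 := congrArg ZMod.val h1
  rw [ZMod.val_natCast] at h2
  rw [h2]
  split <;> rfl

theorem mem_facts {u : (Matrix (Fin 4) (Fin 4) (ZMod 7))ˣ} (hu : u ∈ K) (h1 : u ≠ 1) :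
    orderOf u ∈ ([2, 3, 4, 5, 6, 8, 10, 12] : List ℕ) ∧
      ∑ i ∈ Finset.range (orderOf u), (u : Matrix (Fin 4) (Fin 4) (ZMod 7)) ^ i = 0 ∧
      (orderOf u % 2 = 0 →
        ((u ^ (orderOf u / 2) : (Matrix (Fin 4) (Fin 4) (ZMod 7))ˣ) : Matrix (Fin 4) (Fin 4) (ZMod 7)) = -1) := by
  obtain ⟨c, hc, huc⟩ := exists_code hu
  have h := ok_of_mem hc
  simp only [okC, Bool.and_eq_true, Bool.or_eq_true, beq_iff_eq, decide_eq_true_eq,
    List.all_eq_true, List.mem_range, List.contains_iff_mem] at h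
  rcases h.2 with hcO | ⟨⟨⟨⟨hm, hpm⟩, hne⟩, hsum⟩, hev⟩
  · exact absurd (Units.ext (by rw [huc, hcO, φ_cO]; rfl)) h1
  set m := ordC c
  have hp := φ_pw hc huc
  have hm0 : 0 < m := by
    by_contra hh
    rw [Nat.le_zero.mp (not_lt.mp hh)] at hm
    simp at hm
  have ho : orderOf u = m := by
    rw [orderOf_eq_iff hm0]
    refine ⟨Units.ext (by rw [(hp m).2, hpm, φ_cO]; rfl), fun i hi hi0 he => ?_⟩
    rcases hne i hi with h0 | h0
    · omega
    · exact φ_ne_one h0 (by rw [← (hp i).2, he]; rfl)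
  rw [ho]
  refine ⟨hm, ?_, fun hev' => ?_⟩
  · ext i j
    rw [Matrix.sum_apply, Matrix.zero_apply]
    have h2 := hsum i.val i.isLt j.val j.isLt
    have h3 : ∀ n, ∑ k ∈ Finset.range n, ((u : Matrix (Fin 4) (Fin 4) (ZMod 7)) ^ k) i j =
        ((((List.range n).map fun k => entN (pw c k) i.val j.val).sum : ℕ) : ZMod 7) := by
      intro n
      induction n with
      | zero => simp
      | succ n ih =>
        rw [Finset.sum_range_succ, ih, List.range_succ, List.map_append, List.sum_append,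
          Nat.cast_add, ← Units.val_pow_eq_pow_val, (hp n).2]
        simp [φ]
    rw [h3, ← ZMod.natCast_mod, h2, Nat.cast_zero]
  · rcases hev with hodd | hM
    · omega
    · rw [(hp _).2, hM, φ_cM]

theorem exists_orderOf {c m : ℕ} (hc : c ∈ L) (hm : ordC c = m) (hm1 : 1 < m)
    {u : (Matrix (Fin 4) (Fin 4) (ZMod 7))ˣ} (hu : u ∈ K)
    (huc : (u : Matrix (Fin 4) (Fin 4) (ZMod 7)) = φ c) : orderOf u = m := by
  have h := ok_of_mem hc
  simp only [okC, Bool.and_eq_true, Bool.or_eq_true, beq_iff_eq, decide_eq_true_eq,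
    List.all_eq_true, List.mem_range, List.contains_iff_mem, hm] at h
  rcases h.2 with hcO | ⟨⟨⟨⟨_, hpm⟩, hne⟩, _⟩, _⟩
  · rw [hcO] at hm
    have : ordC cO = 1 := by decide +kernel
    omega
  have hp := φ_pw hc huc
  rw [orderOf_eq_iff (by omega)]
  refine ⟨Units.ext (by rw [(hp m).2, hpm, φ_cO]; rfl), fun i hi hi0 he => ?_⟩
  rcases hne i hi with h0 | h0
  · omega
  · exact φ_ne_one h0 (by rw [← (hp i).2, he]; rfl)

/-- the central involution -/
def zK : (Matrix (Fin 4) (Fin 4) (ZMod 7))ˣ := -1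

theorem zK_mem : zK ∈ K := by
  have hs : us ∈ K := Subgroup.subset_closure (by simp)
  have h8 : orderOf us = 8 :=
    exists_orderOf (List.contains_iff_mem.mp check_words.2.1) check_words.2.2.2.2.2.2.1 (by norm_num) hs rfl
  have h1 : us ≠ 1 := by intro h; rw [h, orderOf_one] at h8; norm_num at h8
  have h2 := (mem_facts hs h1).2.2 (by rw [h8])
  have h3 : zK = us ^ (orderOf us / 2) := Units.ext (by rw [h2]; rfl)
  rw [h3]
  exact pow_mem hs _

theorem exists_K_orderOf {m : ℕ} (hm : m = 2 ∨ m = 3 ∨ m = 4 ∨ m = 5 ∨ m = 6 ∨ m = 8 ∨ m = 10 ∨ m = 12) :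
    ∃ x : ↥K, orderOf x = m := by
  have hs : us ∈ K := Subgroup.subset_closure (by simp)
  have ht : ut ∈ K := Subgroup.subset_closure (by simp)
  have hw := check_words
  have h8 := exists_orderOf (List.contains_iff_mem.mp hw.2.1) hw.2.2.2.2.2.2.1 (by norm_num) hs rfl
  have h10 := exists_orderOf (List.contains_iff_mem.mp hw.2.2.1) hw.2.2.2.2.2.2.2.2 (by norm_num) ht rfl
  have h12 := exists_orderOf (List.contains_iff_mem.mp hw.2.2.2.1) hw.2.2.2.2.2.2.2.1 (by norm_num)
    (mul_mem hs ht) (φ_mul cs ct (by decide) (by decide)).symm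
  have key : ∀ (u : (Matrix (Fin 4) (Fin 4) (ZMod 7))ˣ) (n : ℕ), u ∈ K → orderOf u = n → 0 < n →
      m ∣ n → ∃ x : ↥K, orderOf x = m := by
    intro u n hu ho hn hd
    refine ⟨⟨u ^ (n / m), pow_mem hu _⟩, ?_⟩
    rw [← Subgroup.orderOf_coe, orderOf_pow_of_dvd ?_ (by rw [ho]; exact Nat.div_dvd_of_dvd hd), ho,
      Nat.div_div_self hd hn.ne']
    exact (Nat.div_pos (Nat.le_of_dvd hn hd) (Nat.pos_of_dvd_of_pos hd hn)).ne'
  rcases hm with rfl | rfl | rfl | rfl | rfl | rfl | rfl | rfl
  · exact key _ _ hs h8 (by norm_num) (by norm_num)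
  · exact key _ _ (mul_mem hs ht) h12 (by norm_num) (by norm_num)
  · exact key _ _ hs h8 (by norm_num) (by norm_num)
  · exact key _ _ ht h10 (by norm_num) (by norm_num)
  · exact key _ _ (mul_mem hs ht) h12 (by norm_num) (by norm_num)
  · exact key _ _ hs h8 (by norm_num) (by norm_num)
  · exact key _ _ ht h10 (by norm_num) (by norm_num)
  · exact key _ _ (mul_mem hs ht) h12 (by norm_num) (by norm_num)

/-- the central involution in `K` -/
def z : ↥K := ⟨zK, zK_mem⟩

theorem z_comm (x : ↥K) : z * x = x * z := by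
  apply Subtype.ext
  apply Units.ext
  simp [z, zK]

theorem z_sq : z * z = 1 := by
  apply Subtype.ext
  apply Units.ext
  simp [z, zK]

theorem z_ne_one : z ≠ 1 := by
  intro h
  have h1 := congrArg (fun x : ↥K =>
    ((x : (Matrix (Fin 4) (Fin 4) (ZMod 7))ˣ) : Matrix (Fin 4) (Fin 4) (ZMod 7)) 0 0) h
  simp [z, zK] at h1
  exact absurd h1 (by decide)

/-- anti-invariant functions -/
def B : AddSubgroup (↥K → ZMod 3) where
  carrier := {f | ∀ g, f (z * g) = -f g}
  add_mem' {a b} ha hb g := by simp only [Pi.add_apply, ha g, hb g]; abel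
  zero_mem' g := by simp
  neg_mem' {a} ha g := by simp only [Pi.neg_apply, ha g]

/-- translation -/
def actB (x : ↥K) (f : ↥B) : ↥B :=
  ⟨fun g => (f : ↥K → ZMod 3) (x⁻¹ * g), fun g => by
    have h := f.2 (x⁻¹ * g)
    show (f : ↥K → ZMod 3) (x⁻¹ * (z * g)) = -(f : ↥K → ZMod 3) (x⁻¹ * g)
    rw [← mul_assoc, ← z_comm, mul_assoc]
    exact h⟩

/-- the module -/
abbrev A (N : ℕ) : Type := (Fin (N + 1) → Fin 4 → ZMod 7) × ↥B

/-- action on the module -/
def actA {N : ℕ} (x : ↥K) (a : A N) : A N :=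
  (fun i => ((x : (Matrix (Fin 4) (Fin 4) (ZMod 7))ˣ) : Matrix (Fin 4) (Fin 4) (ZMod 7)) *ᵥ a.1 i,
    actB x a.2)

theorem actA_mul {N : ℕ} (x y : ↥K) (a : A N) : actA (x * y) a = actA x (actA y a) := by
  refine Prod.ext ?_ ?_
  · funext i
    simp [actA, Matrix.mulVec_mulVec]
  · apply Subtype.ext
    funext g
    simp [actA, actB, mul_assoc]

theorem actA_one {N : ℕ} (a : A N) : actA 1 a = a := by
  refine Prod.ext ?_ ?_
  · funext i; simp [actA]
  · apply Subtype.ext; funext g; simp [actA, actB]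

theorem actA_add {N : ℕ} (x : ↥K) (a b : A N) : actA x (a + b) = actA x a + actA x b := by
  refine Prod.ext ?_ ?_
  · funext i; simp [actA, Matrix.mulVec_add]
  · apply Subtype.ext; funext g; simp [actA, actB]

/-- the action as a homomorphism -/
def act (N : ℕ) : ↥K →* MulAut (Multiplicative (A N)) where
  toFun x :=
    { toFun := fun a => Multiplicative.ofAdd (actA x a.toAdd)
      invFun := fun a => Multiplicative.ofAdd (actA x⁻¹ a.toAdd)
      left_inv := fun a => by simp [← actA_mul, actA_one]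
      right_inv := fun a => by simp [← actA_mul, actA_one]
      map_mul' := fun a b => by simp [actA_add] }
  map_one' := by ext a : 1; simp [actA_one]
  map_mul' x y := by ext a : 1; simp [actA_mul]

theorem act_apply {N : ℕ} (x : ↥K) (a : Multiplicative (A N)) :
    Multiplicative.toAdd (act N x a) = actA x a.toAdd := rfl

/-- the norm -/
def norm {N : ℕ} (x : ↥K) (m : ℕ) (a : A N) : A N := ∑ i ∈ Finset.range m, actA (x ^ i) a

theorem pow_eq {N : ℕ} (y : Multiplicative (A N) ⋊[act N] ↥K) : ∀ n : ℕ,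
    y ^ n = ⟨Multiplicative.ofAdd (norm y.right n y.left.toAdd), y.right ^ n⟩ := by
  intro n
  induction n with
  | zero => simp [norm]
  | succ n ih =>
    rw [pow_succ, ih]
    apply SemidirectProduct.ext
    · apply Multiplicative.toAdd.injective
      rw [SemidirectProduct.mul_left, toAdd_mul, act_apply]
      simp only [toAdd_ofAdd, norm, Finset.sum_range_succ]
    · rw [SemidirectProduct.mul_right, pow_succ]

theorem norm_fst {N : ℕ} {x : ↥K} (hx : x ≠ 1) (a : A N) : (norm x (orderOf x) a).1 = 0 := by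
  have h := (mem_facts x.2 (fun h => hx (Subtype.ext h))).2.1
  rw [Subgroup.orderOf_coe] at h
  rw [norm, Prod.fst_sum]
  funext i
  rw [Finset.sum_apply]
  simp only [actA, Subgroup.coe_pow, Units.val_pow_eq_pow_val]
  rw [← Matrix.sum_mulVec, h, Matrix.zero_mulVec]
  rfl

theorem norm_snd_apply {N : ℕ} (x : ↥K) (n : ℕ) (a : A N) (g : ↥K) :
    ((norm x n a).2 : ↥K → ZMod 3) g =
      ∑ i ∈ Finset.range n, (a.2 : ↥K → ZMod 3) ((x ^ i)⁻¹ * g) := by
  rw [norm, Prod.snd_sum, AddSubmonoidClass.coe_finset_sum, Finset.sum_apply]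
  rfl

theorem norm_snd_zero {N : ℕ} {x : ↥K} (hev : orderOf x % 2 = 0) (hx : x ≠ 1) (a : A N) :
    (norm x (orderOf x) a).2 = 0 := by
  have h := (mem_facts x.2 (fun h => hx (Subtype.ext h))).2.2
  rw [Subgroup.orderOf_coe] at h
  have hz : x ^ (orderOf x / 2) = z := Subtype.ext (Units.ext (h hev))
  apply Subtype.ext
  funext g
  rw [norm_snd_apply]
  set n := orderOf x / 2 with hn
  rw [show orderOf x = n + n by omega, Finset.sum_range_add, ← Finset.sum_add_distrib]
  refine Finset.sum_eq_zero fun i _ => ?_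
  rw [pow_add, hz, show (z * x ^ i)⁻¹ * g = z * ((x ^ i)⁻¹ * g) by
    rw [z_comm (x ^ i), _root_.mul_inv_rev, inv_eq_of_mul_eq_one_right z_sq, mul_assoc], a.2.2]
  exact add_neg_cancel _

/-- the function supported on `{1, z}` -/
def δB : ↥B :=
  ⟨fun g => (if g = 1 then 1 else 0) - (if g = z then 1 else 0), fun g => by
    have h1 : z * g = 1 ↔ g = z := by
      constructor
      · intro h; rw [← mul_right_inj z, h, z_sq]
      · intro h; rw [h, z_sq]
    have h2 : z * g = z ↔ g = 1 := mul_eq_left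
    simp only [h1, h2]
    abel⟩

theorem norm_δ {N : ℕ} {x : ↥K} (hodd : orderOf x % 2 = 1) (b : Fin (N + 1) → Fin 4 → ZMod 7) :
    ((norm x (orderOf x) ((b, δB) : A N)).2 : ↥K → ZMod 3) 1 = 1 := by
  rw [norm_snd_apply]
  have hnz : ∀ i, (x ^ i)⁻¹ ≠ z := by
    intro i h
    have h1 : z ^ orderOf x = 1 := by
      rw [← h, inv_pow, ← pow_mul, mul_comm, pow_mul, pow_orderOf_eq_one, one_pow, inv_one]
    rw [← Nat.div_add_mod (orderOf x) 2, hodd, pow_add, pow_mul, pow_two, z_sq, one_pow,
      one_mul, pow_one] at h1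
    exact z_ne_one h1
  simp only [mul_one, δB, hnz, if_false, sub_zero, inv_eq_one]
  rw [Finset.sum_eq_single 0]
  · simp
  · intro i hi hi0
    rw [if_neg]
    exact pow_ne_one_of_lt_orderOf hi0 (Finset.mem_range.mp hi)
  · intro h
    exact absurd (Finset.mem_range.mpr (orderOf_pos x)) h

theorem orderOf_eq_mul {N : ℕ} (y : Multiplicative (A N) ⋊[act N] ↥K) :
    orderOf y = orderOf y.right * addOrderOf (norm y.right (orderOf y.right) y.left.toAdd) := by
  set m := orderOf y.right
  have hm : m ∣ orderOf y := orderOf_map_dvd SemidirectProduct.rightHom y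
  have h1 : orderOf (y ^ m) = orderOf y / m :=
    orderOf_pow_of_dvd (orderOf_pos y.right).ne' hm
  have h2 : y ^ m = SemidirectProduct.inl
      (Multiplicative.ofAdd (norm y.right m y.left.toAdd)) := by
    rw [pow_eq, pow_orderOf_eq_one]
    rfl
  rw [h2, orderOf_injective _ SemidirectProduct.inl_injective, orderOf_ofAdd_eq_addOrderOf] at h1
  rw [h1, Nat.mul_div_cancel' hm]

/-- reachable (sum, parity, lcm) triples for cycle types of degree at most 10 -/
def reach : List (ℕ × ℕ × ℕ) := [(0, 0, 1), (2, 1, 2), (3, 0, 3), (4, 0, 2), (4, 1, 4), (5, 0, 5), (5, 1, 6), (6, 0, 3), (6, 0, 4), (6, 1, 2), (6, 1, 6), (7, 0, 6), (7, 0, 7), (7, 1, 10), (7, 1, 12), (8, 0, 2), (8, 0, 4), (8, 0, 6), (8, 0, 15), (8, 1, 4), (8, 1, 6), (8, 1, 8), (9, 0, 3), (9, 0, 9), (9, 0, 10), (9, 0, 12), (9, 1, 6), (9, 1, 14), (9, 1, 20), (10, 0, 4), (10, 0, 5), (10, 0, 6), (10, 0, 8), (10, 0, 12), (10, 0, 21), (10, 1, 2), (10, 1, 4), (10, 1, 6), (10, 1, 10), (10, 1, 12), (10, 1, 30)]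

theorem reach_step : (reach.all fun t => (List.range 11).all fun a =>
    a < 2 || 10 < t.1 + a || reach.contains (t.1 + a, (t.2.1 + a + 1) % 2, Nat.lcm a t.2.2)) = true := by
  decide +kernel

theorem reach_spec : (reach.all fun t => t.2.1 != 0 ||
    [1, 2, 3, 4, 5, 6, 7, 8, 9, 10, 12, 15, 21].contains t.2.2) = true := by decide +kernel

theorem mem_reach : ∀ m : Multiset ℕ, (∀ a ∈ m, 2 ≤ a) → m.sum ≤ 10 →
    (m.sum, (m.sum + Multiset.card m) % 2, m.lcm) ∈ reach := by
  intro m
  induction m using Multiset.induction_on with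
  | empty => intros; simp only [Multiset.sum_zero, Multiset.card_zero, Multiset.lcm_zero]; decide +kernel
  | cons a m ih =>
    intro h2 hs
    rw [Multiset.sum_cons] at hs
    have h := ih (fun b hb => h2 b (Multiset.mem_cons_of_mem hb)) (by omega)
    have ha := h2 a (Multiset.mem_cons_self _ _)
    have h3 := List.all_eq_true.mp reach_step _ h
    simp only [List.all_eq_true, List.mem_range, Bool.or_eq_true, decide_eq_true_eq,
      List.contains_iff_mem] at h3
    rcases h3 a (by omega) with (h4 | h4) | h4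
    · omega
    · omega
    · rw [Multiset.sum_cons, Multiset.card_cons, Multiset.lcm_cons]
      have e1 : m.sum + a = a + m.sum := by omega
      have e2 : ((m.sum + Multiset.card m) % 2 + a + 1) % 2 =
          (a + m.sum + (Multiset.card m + 1)) % 2 := by omega
      rw [e1, e2] at h4
      exact h4

theorem spectrum_A10 : Set.range (orderOf : alternatingGroup (Fin 10) → ℕ) =
    {1, 2, 3, 4, 5, 6, 7, 8, 9, 10, 12, 15, 21} := by
  apply Set.Subset.antisymm
  · intro k hk
    obtain ⟨m, hsum, h2, hev, rfl⟩ := Cfsg.Lib.Concrete.alt_cycleType_data hk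
    have h := List.all_eq_true.mp reach_spec _ (mem_reach m h2 hsum)
    simp only [Nat.even_iff.mp hev, bne_self_eq_false, Bool.false_or, List.contains_iff_mem,
      List.mem_cons, List.not_mem_nil, or_false] at h
    simpa only [Set.mem_insert_iff, Set.mem_singleton_iff] using h
  · intro k hk
    simp only [Set.mem_insert_iff, Set.mem_singleton_iff] at hk
    rcases hk with rfl | rfl | rfl | rfl | rfl | rfl | rfl | rfl | rfl | rfl | rfl | rfl | rfl
    all_goals first
      | exact Cfsg.Lib.Concrete.exists_alt_orderOf (n := 10) 0 (by decide +kernel) (by decide +kernel) (by decide +kernel)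
      | exact Cfsg.Lib.Concrete.exists_alt_orderOf (n := 10) {2, 2} (by decide +kernel) (by decide +kernel) (by decide +kernel)
      | exact Cfsg.Lib.Concrete.exists_alt_orderOf (n := 10) {3} (by decide +kernel) (by decide +kernel) (by decide +kernel)
      | exact Cfsg.Lib.Concrete.exists_alt_orderOf (n := 10) {4, 2} (by decide +kernel) (by decide +kernel) (by decide +kernel)
      | exact Cfsg.Lib.Concrete.exists_alt_orderOf (n := 10) {5} (by decide +kernel) (by decide +kernel) (by decide +kernel)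
      | exact Cfsg.Lib.Concrete.exists_alt_orderOf (n := 10) {3, 2, 2} (by decide +kernel) (by decide +kernel) (by decide +kernel)
      | exact Cfsg.Lib.Concrete.exists_alt_orderOf (n := 10) {7} (by decide +kernel) (by decide +kernel) (by decide +kernel)
      | exact Cfsg.Lib.Concrete.exists_alt_orderOf (n := 10) {8, 2} (by decide +kernel) (by decide +kernel) (by decide +kernel)
      | exact Cfsg.Lib.Concrete.exists_alt_orderOf (n := 10) {9} (by decide +kernel) (by decide +kernel) (by decide +kernel)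
      | exact Cfsg.Lib.Concrete.exists_alt_orderOf (n := 10) {5, 2, 2} (by decide +kernel) (by decide +kernel) (by decide +kernel)
      | exact Cfsg.Lib.Concrete.exists_alt_orderOf (n := 10) {4, 3, 2} (by decide +kernel) (by decide +kernel) (by decide +kernel)
      | exact Cfsg.Lib.Concrete.exists_alt_orderOf (n := 10) {5, 3} (by decide +kernel) (by decide +kernel) (by decide +kernel)
      | exact Cfsg.Lib.Concrete.exists_alt_orderOf (n := 10) {7, 3} (by decide +kernel) (by decide +kernel) (by decide +kernel)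


/-- The alternating group of degree 10 is not determined by its set of element orders, not even up to finitely many groups: for every bound N there is a finite group of order greater than N with exactly the same set of element orders as the alternating group of degree 10. -/
theorem result (N : ℕ) : ∃ (H : Type) (_ : Group H) (_ : Fintype H), N < Fintype.card H ∧ Set.range (orderOf : H → ℕ) = Set.range (orderOf : alternatingGroup (Fin 10) → ℕ) := by
  classical
  have hfinB : Finite ↥B := inferInstance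
  let H0 := Multiplicative (A N) ⋊[act N] ↥K
  haveI : Finite H0 := Nat.finite_of_card_ne_zero (by
    rw [SemidirectProduct.card]; exact mul_ne_zero Nat.card_pos.ne' Nat.card_pos.ne')
  letI hft : Fintype H0 := Fintype.ofFinite _
  refine ⟨H0, inferInstance, hft, ?_, ?_⟩
  · rw [← Nat.card_eq_fintype_card, SemidirectProduct.card]
    have h1 : Nat.card (Fin (N + 1) → Fin 4 → ZMod 7) ≤ Nat.card (Multiplicative (A N)) := by
      refine Nat.card_le_card_of_injective (fun a => Multiplicative.ofAdd ((a, 0) : A N)) ?_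
      intro a b h
      exact (Prod.mk.injEq _ _ _ _).mp (Multiplicative.ofAdd.injective h) |>.1
    rw [Nat.card_fun, Nat.card_fun, Nat.card_fin, Nat.card_fin, Nat.card_zmod, ← pow_mul] at h1
    have h2 : N < 7 ^ (4 * (N + 1)) :=
      lt_of_lt_of_le (Nat.lt_pow_self (by norm_num : 1 < 7)) (Nat.pow_le_pow_right (by norm_num) (by omega))
    calc N < Nat.card (Multiplicative (A N)) := lt_of_lt_of_le h2 h1
      _ ≤ _ := Nat.le_mul_of_pos_right _ Nat.card_pos
  rw [spectrum_A10]
  apply Set.Subset.antisymm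
  · rintro k ⟨y, rfl⟩
    set a := norm y.right (orderOf y.right) y.left.toAdd with ha
    have h21 : addOrderOf a ∣ 21 := by
      apply addOrderOf_dvd_of_nsmul_eq_zero
      refine Prod.ext ?_ ?_
      · funext i j
        show 21 • a.1 i j = 0
        rw [nsmul_eq_mul, show ((21 : ℕ) : ZMod 7) = 0 from rfl, zero_mul]
      · apply Subtype.ext; funext g
        show 21 • ((a.2 : ↥K → ZMod 3) g) = 0
        rw [nsmul_eq_mul, show ((21 : ℕ) : ZMod 3) = 0 from rfl, zero_mul]
    rw [orderOf_eq_mul, ← ha]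
    by_cases hx : y.right = 1
    · rw [hx, orderOf_one, one_mul]
      have h4 : addOrderOf a ∈ Nat.divisors 21 := Nat.mem_divisors.mpr ⟨h21, by norm_num⟩
      rw [show Nat.divisors 21 = {1, 3, 7, 21} by decide] at h4
      simp only [Finset.mem_insert, Finset.mem_singleton] at h4
      rcases h4 with h | h | h | h <;> simp [h]
    · have hm := (mem_facts y.right.2 (fun h => hx (Subtype.ext h))).1
      rw [Subgroup.orderOf_coe] at hm
      have h1 : a.1 = 0 := norm_fst hx _
      have h3 : addOrderOf a ∣ 3 := by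
        apply addOrderOf_dvd_of_nsmul_eq_zero
        refine Prod.ext ?_ ?_
        · show 3 • a.1 = 0; rw [h1, smul_zero]
        · apply Subtype.ext; funext g
          show 3 • ((a.2 : ↥K → ZMod 3) g) = 0
          rw [nsmul_eq_mul, show ((3 : ℕ) : ZMod 3) = 0 from rfl, zero_mul]
      rcases Nat.even_or_odd (orderOf y.right) with hev | hod
      · have h2 : a.2 = 0 := norm_snd_zero (Nat.even_iff.mp hev) hx _
        have h0 : a = 0 := Prod.ext h1 h2
        rw [h0, addOrderOf_zero, mul_one]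
        simp only [List.mem_cons, List.not_mem_nil, or_false] at hm
        simp only [Set.mem_insert_iff, Set.mem_singleton_iff]
        omega
      · rw [Nat.odd_iff] at hod
        simp only [List.mem_cons, List.not_mem_nil, or_false] at hm
        simp only [Set.mem_insert_iff, Set.mem_singleton_iff]
        rcases (Nat.dvd_prime Nat.prime_three).mp h3 with h | h <;> rw [h] <;> omega
  · intro k hk
    simp only [Set.mem_insert_iff, Set.mem_singleton_iff] at hk
    have hK : ∀ x : ↥K, orderOf (SemidirectProduct.inr x : H0) = orderOf x := fun x =>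
      orderOf_injective _ SemidirectProduct.inr_injective x
    let e7 : Fin (N + 1) → Fin 4 → ZMod 7 := fun _ _ => 1
    have he7 : addOrderOf e7 = 7 := by
      haveI : Fact (Nat.Prime 7) := ⟨by norm_num⟩
      refine addOrderOf_eq_prime ?_ ?_
      · funext i j; simp only [Pi.smul_apply, e7]; rfl
      · intro h
        have h1 : (1 : ZMod 7) = 0 := congrFun (congrFun h 0) 0
        exact one_ne_zero h1
    have hδ : addOrderOf δB = 3 := by
      refine addOrderOf_eq_prime ?_ ?_
      · apply Subtype.ext; funext g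
        show 3 • _ = (0 : ZMod 3)
        rw [nsmul_eq_mul, show ((3 : ℕ) : ZMod 3) = 0 from rfl, zero_mul]
      · intro h
        have h1 := congrArg (fun f : ↥B => (f : ↥K → ZMod 3) 1) h
        simp [δB, z_ne_one.symm] at h1
    have hv : ∀ a : A N, orderOf (SemidirectProduct.inl (Multiplicative.ofAdd a) : H0) =
        addOrderOf a := fun a => by
      rw [orderOf_injective _ SemidirectProduct.inl_injective, orderOf_ofAdd_eq_addOrderOf]
    have h3m : ∀ m : ℕ, m = 3 ∨ m = 5 → ∃ y : H0, orderOf y = m * 3 := by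
      intro m hm
      obtain ⟨x, hx⟩ := exists_K_orderOf (m := m) (by omega)
      refine ⟨⟨Multiplicative.ofAdd ((0, δB) : A N), x⟩, ?_⟩
      rw [orderOf_eq_mul]
      show orderOf x * addOrderOf (norm x (orderOf x) ((0, δB) : A N)) = m * 3
      have hod : orderOf x % 2 = 1 := by omega
      have hn := norm_δ (N := N) hod 0
      have hx1 : x ≠ 1 := by intro h; rw [h, orderOf_one] at hx; omega
      rw [hx] at hn ⊢
      have h3 : addOrderOf (norm x m ((0, δB) : A N)) = 3 := by
        refine addOrderOf_eq_prime ?_ ?_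
        · refine Prod.ext ?_ ?_
          · show 3 • (norm x m ((0, δB) : A N)).1 = 0
            rw [← hx, norm_fst hx1, smul_zero]
          · apply Subtype.ext; funext g
            show 3 • ((norm x m ((0, δB) : A N)).2 : ↥K → ZMod 3) g = 0
            rw [nsmul_eq_mul, show ((3 : ℕ) : ZMod 3) = 0 from rfl, zero_mul]
        · intro h
          rw [h] at hn
          exact absurd hn (by simp)
      rw [h3]
    have hKm : ∀ m : ℕ, (m = 2 ∨ m = 3 ∨ m = 4 ∨ m = 5 ∨ m = 6 ∨ m = 8 ∨ m = 10 ∨ m = 12) →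
        m ∈ Set.range (orderOf : H0 → ℕ) := by
      intro m hm
      obtain ⟨x, hx⟩ := exists_K_orderOf hm
      exact ⟨SemidirectProduct.inr x, by rw [hK, hx]⟩
    rcases hk with rfl | rfl | rfl | rfl | rfl | rfl | rfl | rfl | rfl | rfl | rfl | rfl | rfl
    · exact ⟨1, orderOf_one⟩
    · exact hKm _ (by omega)
    · exact hKm _ (by omega)
    · exact hKm _ (by omega)
    · exact hKm _ (by omega)
    · exact hKm _ (by omega)
    · refine ⟨SemidirectProduct.inl (Multiplicative.ofAdd ((e7, 0) : A N)), ?_⟩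
      rw [hv, Prod.addOrderOf, he7, addOrderOf_zero]; rfl
    · exact hKm _ (by omega)
    · exact h3m 3 (Or.inl rfl)
    · exact hKm _ (by omega)
    · exact hKm _ (by omega)
    · exact h3m 5 (Or.inr rfl)
    · refine ⟨SemidirectProduct.inl (Multiplicative.ofAdd ((e7, δB) : A N)), ?_⟩
      rw [hv, Prod.addOrderOf, he7, hδ]; rfl


end Cfsg.Agent.S3489
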