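import Cfsg.Statements.S3494
import Mathlib.GroupTheory.GroupAction.Primitive
import Mathlib.GroupTheory.GroupAction.Quotient

set_option autoImplicit false
open Cfsg

namespace Cfsg.Agent.S3494

open MulAction
open scoped Pointwise

theorem result {G : Type*} [Group G] [Finite G] {Ω : Type*} [Fintype Ω] [MulAction G Ω] [FaithfulSMul G Ω] (hprim : MulAction.IsPreprimitive G Ω) (hH : ∀ α : Ω, MulAction.stabilizer G α ≠ ⊥) (hep : ∀ (α : Ω) (ω : Ω), MulAction.IsPreprimitive (MulAction.stabilizer G α) (MulAction.orbit (MulAction.stabilizer G α) ω))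
    (α ω : Ω) (hω : ω ≠ α) (h : MulAction.stabilizer G α) (hfix : ∀ x ∈ MulAction.orbit (MulAction.stabilizer G α) ω, h • x = x) : h = 1 := by
  classical
  have _ := hH
  haveI := hprim
  haveI : IsPretransitive G Ω := hprim.toIsPretransitive
  haveI : Nontrivial Ω := ⟨⟨ω, α, hω⟩⟩
  revert h hfix
  set H := stabilizer G α with hHdef
  intro h hfix
  let R : Ω → Ω → Prop := fun x y => ∃ g : G, g • α = x ∧ g • ω = y
  have hRsmul : ∀ (g : G) x y, R (g • x) (g • y) ↔ R x y := by
    intro g x y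
    constructor
    · rintro ⟨k, hk1, hk2⟩
      exact ⟨g⁻¹ * k, by rw [mul_smul, hk1, inv_smul_smul], by rw [mul_smul, hk2, inv_smul_smul]⟩
    · rintro ⟨k, rfl, rfl⟩
      exact ⟨g * k, mul_smul g k α, mul_smul g k ω⟩
  have hRα : ∀ y, R α y ↔ y ∈ orbit H ω := by
    intro y
    constructor
    · rintro ⟨g, hg1, rfl⟩; exact ⟨⟨g, hg1⟩, rfl⟩
    · rintro ⟨⟨g, hg⟩, rfl⟩; exact ⟨g, hg, rfl⟩
  let K : Subgroup G := H ⊓ fixingSubgroup G (orbit H ω)
  have hKmem : ∀ k, k ∈ K ↔ k ∈ H ∧ ∀ x ∈ orbit H ω, k • x = x := fun k =>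
    Iff.trans Subgroup.mem_inf (and_congr Iff.rfl (mem_fixingSubgroup_iff G))
  have hKnorm : ∀ g ∈ H, ∀ k ∈ K, g * k * g⁻¹ ∈ K := by
    intro g hg k hk
    rw [hKmem] at hk ⊢
    refine ⟨mul_mem (mul_mem hg hk.1) (inv_mem hg), fun x hx => ?_⟩
    obtain ⟨⟨y, hy⟩, rfl⟩ := hx
    have hmem : g⁻¹ • (y • ω) ∈ orbit H ω := ⟨⟨g⁻¹ * y, mul_mem (inv_mem hg) hy⟩, mul_smul g⁻¹ y ω⟩
    show (g * k * g⁻¹) • (y • ω) = y • ω
    rw [mul_smul, mul_smul, hk.2 _ hmem, smul_inv_smul]
  suffices hK : K = ⊥ by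
    have : (h : G) ∈ K := (hKmem _).2 ⟨h.2, fun x hx => hfix x hx⟩
    rw [hK, Subgroup.mem_bot] at this
    exact Subtype.ext this
  by_cases hall : ∀ b ∈ orbit H ω, ∀ c, R b c → ∀ k ∈ K, k • c = c
  · -- `K` is normal in `G`
    obtain ⟨g, hg⟩ := exists_smul_eq G α ω
    have hle : ∀ k ∈ K, g⁻¹ * k * g ∈ K := by
      intro k hk
      rw [hKmem]
      have h1 : k • ω = ω := ((hKmem k).1 hk).2 ω (mem_orbit_self ω)
      refine ⟨?_, fun x hx => ?_⟩
      · show (g⁻¹ * k * g) • α = α
        rw [mul_smul, mul_smul, hg, h1, ← hg, inv_smul_smul]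
      · have hR : R ω (g • x) := by
          rw [← hg, hRsmul, hRα]; exact hx
        rw [mul_smul, mul_smul, hall ω (mem_orbit_self ω) _ hR k hk, inv_smul_smul]
    have hNH : H ≤ Subgroup.normalizer (K : Set G) := by
      intro x hx
      rw [Subgroup.mem_normalizer_iff]
      refine fun k => ⟨hKnorm x hx k, fun hk => ?_⟩
      have := hKnorm x⁻¹ (inv_mem hx) _ hk
      simpa [mul_assoc] using this
    have hNg : g ∈ Subgroup.normalizer (K : Set G) := by
      rw [← inv_mem_iff, Subgroup.mem_normalizer_iff]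
      intro k
      have hmap : K.map (MulAut.conj g⁻¹).toMonoidHom = K := by
        refine Subgroup.eq_of_le_of_card_ge ?_ ?_
        · rintro _ ⟨k, hk, rfl⟩
          simpa using hle k hk
        · rw [Subgroup.card_map_of_injective (MulAut.conj g⁻¹).injective]
      constructor
      · intro hk
        rw [← hmap]
        exact ⟨k, hk, by simp⟩
      · intro hk
        rw [← hmap] at hk
        obtain ⟨k', hk', e⟩ := hk
        have : k' = k := (MulAut.conj g⁻¹).injective (by simpa using e)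
        rw [← this]; exact hk'
    have hco : IsCoatom H := IsPreprimitive.isCoatom_stabilizer_of_isPreprimitive G α
    have htop : Subgroup.normalizer (K : Set G) = ⊤ := by
      refine hco.2 _ (lt_of_le_of_ne hNH fun e => hω ?_)
      have : g ∈ H := e ▸ hNg
      rw [← hg]; exact this
    haveI : K.Normal := Subgroup.normalizer_eq_top_iff.1 htop
    rw [Subgroup.eq_bot_iff_forall]
    intro k hk
    apply FaithfulSMul.eq_of_smul_eq_smul (α := Ω)
    intro x
    obtain ⟨y, rfl⟩ := exists_smul_eq G α x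
    have h2 := ((hKmem _).1 (Subgroup.Normal.conj_mem inferInstance k hk y⁻¹)).1
    rw [hHdef, mem_stabilizer_iff, inv_inv, mul_smul, mul_smul, inv_smul_eq_iff] at h2
    rw [one_smul, h2]
  · exfalso
    push Not at hall
    obtain ⟨b, hb, c, hbc, k, hk, hkc⟩ := hall
    -- the `H`-orbit of `c` is swept out by `K`
    haveI := hep α c
    haveI : (K.subgroupOf H).Normal := ⟨fun n hn g => hKnorm g g.2 n hn⟩
    haveI : IsPretransitive (K.subgroupOf H) (orbit H c) := by
      refine IsQuasiPreprimitive.isPretransitive_of_normal fun e => hkc ?_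
      have h2 := Set.eq_univ_iff_forall.1 e ⟨c, mem_orbit_self c⟩
        ⟨⟨k, ((hKmem k).1 hk).1⟩, hk⟩
      exact congrArg Subtype.val h2
    have hΓ : ∀ b' ∈ orbit H ω, ∀ d ∈ orbit H c, R b' d := by
      intro b' hb' d hd
      obtain ⟨x, hx⟩ := (orbit_eq_iff.2 hb).symm ▸ hb'
      replace hx : (x : G) • b = b' := hx
      obtain ⟨⟨⟨y, hyH⟩, hy⟩, he⟩ := exists_smul_eq (K.subgroupOf H)
        (⟨c, mem_orbit_self c⟩ : orbit H c) ⟨(x : G)⁻¹ • d, by
          obtain ⟨z, rfl⟩ := hd
          exact ⟨x⁻¹ * z, mul_smul x⁻¹ z c⟩⟩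
      have he' : y • c = (x : G)⁻¹ • d := congrArg Subtype.val he
      have h3 : R (y • b) (y • c) := (hRsmul y b c).2 hbc
      rw [((hKmem y).1 hy).2 b hb, he'] at h3
      have h4 := (hRsmul (x : G) _ _).2 h3
      rwa [hx, smul_inv_smul] at h4
    -- in-neighbourhoods
    let P : Ω → Set Ω := fun x => {y | R y x}
    have hPcard : ∀ x, Nat.card (P x) = Nat.card (orbit H ω) := by
      intro x
      obtain ⟨g, hg⟩ := exists_smul_eq G ω x
      have hP : P x = (fun y => g • y) '' orbit (stabilizer G ω) α := by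
        ext y
        constructor
        · rintro ⟨k, hk1, hk2⟩
          refine ⟨(g⁻¹ * k) • α, ⟨⟨g⁻¹ * k, ?_⟩, rfl⟩, ?_⟩
          · rw [mem_stabilizer_iff, mul_smul, hk2, ← hg, inv_smul_smul]
          · show g • ((g⁻¹ * k) • α) = y
            rw [← mul_smul, mul_inv_cancel_left, hk1]
        · rintro ⟨_, ⟨⟨k, hk⟩, rfl⟩, rfl⟩
          exact ⟨g * k, mul_smul g k α, by rw [mul_smul, mem_stabilizer_iff.1 hk, hg]⟩
      rw [hP, Nat.card_image_of_injective (MulAction.injective g)]
      have hos : ∀ (J : Subgroup G) (y : Ω),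
          Nat.card (orbit J y) * Nat.card (stabilizer J y) = Nat.card J := fun J y => by
        rw [Nat.card_coe_set_eq, ← index_stabilizer J y, mul_comm, Subgroup.card_mul_index]
      have e1 := hos (stabilizer G ω) α
      have e2 := hos H ω
      have e3 : Nat.card (stabilizer G ω) = Nat.card H := by
        obtain ⟨k, hk⟩ := exists_smul_eq G α ω
        rw [← hk, stabilizer_smul_eq_stabilizer_map_conj]
        exact Subgroup.card_map_of_injective (MulEquiv.injective _)
      have e4 : Nat.card (stabilizer (stabilizer G ω) α) = Nat.card (stabilizer H ω) := Nat.card_congr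
        { toFun := fun y => ⟨⟨y.1.1, y.2⟩, y.1.2⟩
          invFun := fun y => ⟨⟨y.1.1, y.2⟩, y.1.2⟩
          left_inv := fun y => rfl
          right_inv := fun y => rfl }
      rw [e4, e3, ← e2] at e1
      exact Nat.eq_of_mul_eq_mul_right Nat.card_pos e1
    have hPeq : ∀ d ∈ orbit H c, P d = orbit H ω := by
      intro d hd
      symm
      refine Set.eq_of_subset_of_ncard_le (fun b' hb' => hΓ b' hb' d hd) ?_ (Set.toFinite _)
      rw [← Nat.card_coe_set_eq, ← Nat.card_coe_set_eq, hPcard]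
    have hkc' : k • c ∈ orbit H c := ⟨⟨k, ((hKmem k).1 hk).1⟩, rfl⟩
    have hPsmul : ∀ (g : G) x, P (g • x) = g • P x := by
      intro g x
      ext y
      rw [Set.mem_smul_set_iff_inv_smul_mem]
      show R y (g • x) ↔ R (g⁻¹ • y) x
      rw [← hRsmul g (g⁻¹ • y) x, smul_inv_smul]
    let B : Set Ω := {x | P x = orbit H ω}
    have hblock : IsBlock G B := by
      rw [isBlock_iff_smul_eq_of_nonempty]
      rintro g ⟨x, ⟨y, hy, rfl⟩, hx⟩
      have hstab : g • orbit H ω = orbit H ω := by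
        have h5 : P (g • y) = orbit H ω := hx
        rw [hPsmul, show P y = orbit H ω from hy] at h5
        exact h5
      ext z
      rw [Set.mem_smul_set_iff_inv_smul_mem]
      show P (g⁻¹ • z) = orbit H ω ↔ P z = orbit H ω
      rw [hPsmul, inv_smul_eq_iff, hstab]
    rcases hprim.isTrivialBlock_of_isBlock hblock with hsub | huniv
    · exact hkc (hsub (hPeq _ hkc') (hPeq _ (mem_orbit_self c)))
    · have h6 : P ω = orbit H ω := (Set.eq_univ_iff_forall.1 huniv ω)
      have h7 : R ω ω := by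
        show ω ∈ P ω
        rw [h6]; exact mem_orbit_self ω
      obtain ⟨g, hg1, hg2⟩ := h7
      exact hω (smul_left_cancel g (hg2.trans hg1.symm))

end Cfsg.Agent.S3494
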