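import Cfsg.Statements.S3495
-- import your own Cfsg.Agent.* helpers here

set_option autoImplicit false
open Cfsg

namespace Cfsg.Agent.S3495

/-- Let a finite group G act faithfully and primitively on a finite set Ω with non-trivial point stabilizers, each acting primitively on every one of its orbits (an extremely primitive group), and suppose G has an elementary abelian normal p-subgroup N acting regularly on Ω (affine type). Then every non-trivial subgroup M of a point stabilizer G_α that is normal in G_α has the same orbits on Ω as G_α, and normalizes no subgroup of N other than 1 and N. -/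
theorem result {G : Type*} [Group G] [Finite G] {Ω : Type*} [Fintype Ω] [MulAction G Ω] [FaithfulSMul G Ω] (hprim : MulAction.IsPreprimitive G Ω) (hH : ∀ α : Ω, MulAction.stabilizer G α ≠ ⊥) (hep : ∀ (α : Ω) (ω : Ω), MulAction.IsPreprimitive (MulAction.stabilizer G α) (MulAction.orbit (MulAction.stabilizer G α) ω))
    (N : Subgroup G) [N.Normal] (hNc : IsMulCommutative N) (p : ℕ) (hp : p.Prime) (hNp : ∀ n ∈ N, n ^ p = 1)
    (hNtr : MulAction.IsPretransitive N Ω) (hNreg : ∀ ω : Ω, MulAction.stabilizer N ω = ⊥) (α : Ω) (M : Subgroup G) (hM : M ≠ ⊥) (hMle : M ≤ MulAction.stabilizer G α)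
    (hMn : MulAction.stabilizer G α ≤ Subgroup.normalizer (M : Set G)) :
    (∀ ω : Ω, MulAction.orbit M ω = MulAction.orbit (MulAction.stabilizer G α) ω) ∧
    (∀ L : Subgroup G, L ≤ N → M ≤ Subgroup.normalizer (L : Set G) → L = ⊥ ∨ L = N) := by
  classical
  haveI := hprim
  set H := MulAction.stabilizer G α with hH'
  have hreg : ∀ (ω : Ω) (a b : G), a ∈ N → b ∈ N → a • ω = b • ω → a = b := by
    intro ω a b ha hb hab
    have h : (⟨a⁻¹ * b, N.mul_mem (N.inv_mem ha) hb⟩ : N) ∈ MulAction.stabilizer N ω := by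
      show (a⁻¹ * b) • ω = ω
      rw [mul_smul, ← hab, inv_smul_smul]
    rw [hNreg, Subgroup.mem_bot] at h
    exact inv_mul_eq_one.mp (congrArg Subtype.val h)
  -- subgroups of `N` normalised by the point stabiliser are trivial
  have hmin : ∀ L : Subgroup G, L ≤ N → H ≤ Subgroup.normalizer (L : Set G) → L = ⊥ ∨ L = N := by
    intro L hLN hHL
    rcases eq_or_ne L ⊥ with h | hL
    · exact Or.inl h
    refine Or.inr (le_antisymm hLN ?_)
    haveI : L.Normal := by
      refine ⟨fun l hl g => ?_⟩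
      obtain ⟨⟨n, hn⟩, hna⟩ := hNtr.exists_smul_eq α (g • α)
      have hh : n⁻¹ * g ∈ H := by
        show (n⁻¹ * g) • α = α
        rw [mul_smul, inv_smul_eq_iff]
        exact hna.symm
      have h1 := (Subgroup.mem_normalizer_iff.mp (hHL hh) l).mp hl
      have h2 : n * ((n⁻¹ * g) * l * (n⁻¹ * g)⁻¹) = ((n⁻¹ * g) * l * (n⁻¹ * g)⁻¹) * n :=
        congrArg Subtype.val (hNc.is_comm.comm (⟨n, hn⟩ : N) ⟨_, hLN h1⟩)
      have e : g * l * g⁻¹ = n * ((n⁻¹ * g) * l * (n⁻¹ * g)⁻¹) * n⁻¹ := by group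
      rw [e, h2, mul_inv_cancel_right]
      exact h1
    haveI : MulAction.IsPretransitive L Ω := by
      refine MulAction.IsQuasiPreprimitive.isPretransitive_of_normal (G := G) fun h => hL ?_
      rw [Subgroup.eq_bot_iff_forall]
      intro l hl
      refine eq_of_smul_eq_smul (α := Ω) fun ω => ?_
      rw [one_smul]
      exact (Set.eq_univ_iff_forall.mp h ω) ⟨l, hl⟩
    intro n hn
    obtain ⟨⟨l, hl⟩, hla⟩ := MulAction.exists_smul_eq L α (n • α)
    rw [← hreg α l n (hLN hl) hn hla]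
    exact hl
  -- `M` fixes only `α`
  have hfix : ∀ ω : Ω, (∀ x ∈ M, x • ω = ω) → ω = α := by
    intro ω hω
    obtain ⟨⟨n, hn⟩, hna⟩ := hNtr.exists_smul_eq α ω
    have hna' : n • α = ω := hna
    have hHC : H ≤ Subgroup.normalizer ((N ⊓ Subgroup.centralizer (M : Set G) : Subgroup G) : Set G) := by
      intro h hh
      have hstep : ∀ g ∈ H, ∀ c ∈ N ⊓ Subgroup.centralizer (M : Set G),
          g * c * g⁻¹ ∈ N ⊓ Subgroup.centralizer (M : Set G) := by
        intro g hg c hc
        refine ⟨(inferInstance : N.Normal).conj_mem c hc.1 g, fun x hx => ?_⟩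
        have hx' : g⁻¹ * x * g ∈ M := by
          have := (Subgroup.mem_normalizer_iff.mp (hMn (H.inv_mem hg)) x).mp hx
          rwa [inv_inv] at this
        have h2 : g⁻¹ * x * g * c = c * (g⁻¹ * x * g) := hc.2 _ hx'
        calc x * (g * c * g⁻¹) = g * (g⁻¹ * x * g * c) * g⁻¹ := by group
          _ = g * (c * (g⁻¹ * x * g)) * g⁻¹ := by rw [h2]
          _ = g * c * g⁻¹ * x := by group
      rw [Subgroup.mem_normalizer_iff]
      intro c
      refine ⟨hstep h hh c, fun hc => ?_⟩
      have := hstep h⁻¹ (H.inv_mem hh) _ hc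
      rwa [inv_inv, show h⁻¹ * (h * c * h⁻¹) * h = c by group] at this
    rcases hmin (N ⊓ Subgroup.centralizer (M : Set G)) inf_le_left hHC with h | h
    · have hc : n ∈ N ⊓ Subgroup.centralizer (M : Set G) := by
        refine ⟨hn, fun x hx => ?_⟩
        have h1 : x * n * x⁻¹ = n := by
          refine hreg α _ _ ((inferInstance : N.Normal).conj_mem n hn x) hn ?_
          rw [mul_smul, inv_smul_eq_iff.mpr ((hMle hx : x • α = α)).symm, mul_smul, hna', hω x hx]
        exact mul_inv_eq_iff_eq_mul.mp h1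
      rw [h, Subgroup.mem_bot] at hc
      rw [← hna', hc, one_smul]
    · exfalso
      refine hM ((Subgroup.eq_bot_iff_forall _).mpr fun x hx => eq_of_smul_eq_smul (α := Ω) fun ω' => ?_)
      obtain ⟨⟨n', hn'⟩, hna₂⟩ := hNtr.exists_smul_eq α ω'
      have hc : x * n' = n' * x := (h.ge hn').2 x hx
      have hna₃ : n' • α = ω' := hna₂
      rw [one_smul, ← hna₃, ← mul_smul, hc, mul_smul, show x • α = α from hMle hx]
  have horb : ∀ ω : Ω, MulAction.orbit M ω = MulAction.orbit H ω := by
    intro ω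
    refine subset_antisymm ?_ ?_
    · rintro _ ⟨⟨x, hx⟩, rfl⟩
      exact ⟨⟨x, hMle hx⟩, rfl⟩
    rcases eq_or_ne ω α with rfl | hne
    · rintro _ ⟨⟨h, hh⟩, rfl⟩
      exact ⟨1, (one_smul _ _).trans (hh : h • ω = ω).symm⟩
    haveI := hep α ω
    haveI : (M.subgroupOf H).Normal := (Subgroup.normal_subgroupOf_iff_le_normalizer hMle).mpr hMn
    haveI : MulAction.IsPretransitive (M.subgroupOf H) (MulAction.orbit H ω) := by
      refine MulAction.IsQuasiPreprimitive.isPretransitive_of_normal (G := H) fun h => hne (hfix ω fun x hx => ?_)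
      exact congrArg Subtype.val
        ((Set.eq_univ_iff_forall.mp h ⟨ω, MulAction.mem_orbit_self ω⟩) ⟨⟨x, hMle hx⟩, hx⟩)
    intro y hy
    obtain ⟨⟨⟨x, hxH⟩, hx⟩, hxy⟩ :=
      MulAction.exists_smul_eq (M.subgroupOf H) (⟨ω, MulAction.mem_orbit_self ω⟩ : MulAction.orbit H ω) ⟨y, hy⟩
    exact ⟨⟨x, hx⟩, congrArg Subtype.val hxy⟩
  refine ⟨horb, fun L hLN hML => hmin L hLN ?_⟩
  have key : ∀ h ∈ H, ∀ l ∈ L, h * l * h⁻¹ ∈ L := by
    intro h hh l hl
    have hha : h • α = α := hh
    obtain ⟨⟨x, hx⟩, hxa⟩ : h • (l • α) ∈ MulAction.orbit M (l • α) := by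
      rw [horb]
      exact ⟨⟨h, hh⟩, rfl⟩
    have hl' := (Subgroup.mem_normalizer_iff.mp (hML hx) l).mp hl
    have hxa' : x • (l • α) = h • (l • α) := hxa
    have : h * l * h⁻¹ = x * l * x⁻¹ := by
      refine hreg α _ _ ((inferInstance : N.Normal).conj_mem l (hLN hl) h) (hLN hl') ?_
      rw [mul_smul, inv_smul_eq_iff.mpr hha.symm, mul_smul, mul_smul,
        inv_smul_eq_iff.mpr (hMle hx : x • α = α).symm, mul_smul, hxa']
    rw [this]
    exact hl'
  intro h hh
  rw [Subgroup.mem_normalizer_iff]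
  intro l
  refine ⟨key h hh l, fun hl => ?_⟩
  have := key h⁻¹ (H.inv_mem hh) _ hl
  rwa [inv_inv, show h⁻¹ * (h * l * h⁻¹) * h = l by group] at this

end Cfsg.Agent.S3495
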