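import Cfsg.Statements.S3496
import Cfsg.Agent.S3494
import Cfsg.Agent.S3356
import Cfsg.Agent.S0043
import Cfsg.Agent.S0547
import Cfsg.Agent.Lib.Solv.FixedPointFree
import Mathlib.FieldTheory.Finite.Basic

set_option autoImplicit false
open Cfsg

namespace Cfsg.Agent.S3496

open MulAction

theorem exists_minimal_normal {G : Type*} [Group G] [Finite G] [Nontrivial G] :
    ∃ N : Subgroup G, N.Normal ∧ N ≠ ⊥ ∧ ∀ M : Subgroup G, M.Normal → M ≤ N → M = ⊥ ∨ M = N := by
  obtain ⟨N, ⟨hn, hne⟩, hmin⟩ :=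
    exists_minimal_of_wellFoundedLT (fun V : Subgroup G => V.Normal ∧ V ≠ ⊥)
      ⟨⊤, inferInstance, top_ne_bot⟩
  refine ⟨N, hn, hne, fun M hM hMN => ?_⟩
  by_cases h : M = ⊥
  · exact Or.inl h
  · exact Or.inr (le_antisymm hMN (hmin ⟨hM, h⟩ hMN))

theorem result {G : Type*} [Group G] [Finite G] {Ω : Type*} [Fintype Ω] [MulAction G Ω] [FaithfulSMul G Ω] [Group.IsSolvable G] (p d : ℕ) (hp : p.Prime) (hcard : Fintype.card Ω = p ^ d)
    (hprim : MulAction.IsPreprimitive G Ω) (hH : ∀ α : Ω, MulAction.stabilizer G α ≠ ⊥) (hep : ∀ (α : Ω) (ω : Ω), MulAction.IsPreprimitive (MulAction.stabilizer G α) (MulAction.orbit (MulAction.stabilizer G α) ω)) (α : Ω) :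
    ∃ q : ℕ, q.Prime ∧ (∀ ω : Ω, ω ≠ α → Nat.card (MulAction.orbit (MulAction.stabilizer G α) ω) = q) ∧
      q ∣ p ^ d - 1 ∧ (∀ i : ℕ, 0 < i → i < d → ¬ q ∣ p ^ i - 1) ∧
      ∃ T : Subgroup G, T ≤ MulAction.stabilizer G α ∧ MulAction.stabilizer G α ≤ Subgroup.normalizer (T : Set G) ∧ Nat.card T = q ∧
        (∃ h : G, MulAction.stabilizer G α = T ⊔ Subgroup.zpowers h) ∧ Nat.card (MulAction.stabilizer G α) ∣ q * d := by
  classical
  haveI : Fact p.Prime := ⟨hp⟩
  haveI : Nonempty Ω := ⟨α⟩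
  haveI : Nontrivial G := by
    by_contra h
    rw [not_nontrivial_iff_subsingleton] at h
    exact hH α (Subsingleton.elim _ _)
  haveI : Nontrivial Ω := by
    by_contra h
    rw [not_nontrivial_iff_subsingleton] at h
    obtain ⟨g, hg⟩ := exists_ne (1 : G)
    exact hg (FaithfulSMul.eq_of_smul_eq_smul (α := Ω) fun x => Subsingleton.elim _ _)
  haveI := hprim
  obtain ⟨N, hNn, hN0, hNmin⟩ := exists_minimal_normal (G := G)
  haveI := hNn
  obtain ⟨hNcomm, r, hr, hNexp⟩ := Cfsg.Agent.S0043.result N hN0 hNmin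
  obtain ⟨hNtr, hNreg, p', d', hp', hd', hΩ', hNcard⟩ :=
    Cfsg.Agent.S0547.result hprim N hN0 hNmin
  rw [Nat.card_eq_fintype_card, hcard] at hΩ'
  have hNcard' : Nat.card N = p ^ d := hNcard.trans hΩ'.symm
  have hd0 : 0 < d := by
    rcases Nat.eq_zero_or_pos d with h | h
    · rw [h, pow_zero] at hΩ'
      exact absurd hΩ'.symm (Nat.one_lt_pow hd'.ne' hp'.one_lt).ne'
    · exact h
  have hrp : r = p := by
    obtain ⟨x, hx, hx1⟩ := (Subgroup.bot_or_exists_ne_one N).resolve_left hN0
    have h1 : orderOf x = r := by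
      haveI : Fact r.Prime := ⟨hr⟩
      exact orderOf_eq_prime (hNexp x hx) hx1
    have h2 : orderOf x ∣ p ^ d := by
      rw [← hNcard']
      have := orderOf_dvd_natCard (⟨x, hx⟩ : N)
      rwa [← Subgroup.orderOf_coe] at this
    rw [h1] at h2
    exact (Nat.prime_dvd_prime_iff_eq hr hp).1 (hr.dvd_of_dvd_pow h2)
  rw [hrp] at hNexp
  have hfaith : ∀ ω : Ω, ω ≠ α → ∀ h : stabilizer G α,
      (∀ x ∈ orbit (stabilizer G α) ω, h • x = x) → h = 1 :=
    fun ω hω h hfix => Cfsg.Agent.S3494.result hprim hH hep α ω hω h hfix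
  haveI : Nontrivial (stabilizer G α) := (Subgroup.nontrivial_iff_ne_bot _).2 (hH α)
  obtain ⟨A, hAn, hA0, hAmin⟩ := exists_minimal_normal (G := stabilizer G α)
  haveI := hAn
  obtain ⟨hAcomm, q, hq, hAexp⟩ := Cfsg.Agent.S0043.result A hA0 hAmin
  -- the action of `A` on a suborbit
  have hAtrans : ∀ ω : Ω, ω ≠ α → ∀ x ∈ orbit (stabilizer G α) ω, ∀ y ∈ orbit (stabilizer G α) ω,
      ∃ a ∈ A, a • x = y := by
    intro ω hω x hx y hy
    haveI := hep α ω
    haveI : IsPretransitive A (orbit (stabilizer G α) ω) := by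
      refine IsQuasiPreprimitive.isPretransitive_of_normal fun e => hA0 ?_
      rw [Subgroup.eq_bot_iff_forall]
      intro a ha
      refine hfaith ω hω a fun z hz => ?_
      exact congrArg Subtype.val (Set.eq_univ_iff_forall.1 e ⟨z, hz⟩ ⟨a, ha⟩)
    obtain ⟨a, ha⟩ := exists_smul_eq A (⟨x, hx⟩ : orbit (stabilizer G α) ω) ⟨y, hy⟩
    exact ⟨a, a.2, congrArg Subtype.val ha⟩
  have hAreg : ∀ ω : Ω, ω ≠ α → ∀ h : stabilizer G α, (∀ a ∈ A, h * a = a * h) →
      h • ω = ω → h = 1 := by
    intro ω hω h hc hfix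
    refine hfaith ω hω h fun x hx => ?_
    obtain ⟨a, ha, rfl⟩ := hAtrans ω hω ω (mem_orbit_self ω) x hx
    rw [← mul_smul, hc a ha, mul_smul, hfix]
  have hAfix : ∀ ω : Ω, ω ≠ α → ∀ a ∈ A, a • ω = ω → a = 1 := fun ω hω a ha =>
    hAreg ω hω a (fun b hb => congrArg Subtype.val (hAcomm.1.comm ⟨a, ha⟩ ⟨b, hb⟩))
  -- passing to `G`
  set T := A.map (stabilizer G α).subtype with hT
  have hTH : T ≤ stabilizer G α := Subgroup.map_subtype_le A
  haveI : IsMulCommutative N := hNcomm
  haveI : IsMulCommutative T := by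
    refine ⟨⟨?_⟩⟩
    rintro ⟨_, a, ha, rfl⟩ ⟨_, b, hb, rfl⟩
    exact Subtype.ext (congrArg (fun z : A => ((z : stabilizer G α) : G))
      (hAcomm.1.comm ⟨a, ha⟩ ⟨b, hb⟩))
  have hmove : ∀ v ∈ N, v ≠ 1 → v • α ≠ α := by
    intro v hv hv1 he
    have h2 : (⟨v, hv⟩ : N) ∈ stabilizer N α := he
    rw [hNreg α, Subgroup.mem_bot] at h2
    exact hv1 (congrArg Subtype.val h2)
  have hNinj : ∀ v ∈ N, ∀ w ∈ N, v • α = w • α → v = w := by
    intro v hv w hw h
    have h2 : (⟨w⁻¹ * v, mul_mem (inv_mem hw) hv⟩ : N) ∈ stabilizer N α := by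
      show (w⁻¹ * v) • α = α
      rw [mul_smul, h, inv_smul_smul]
    rw [hNreg α, Subgroup.mem_bot] at h2
    exact (inv_mul_eq_one.1 (congrArg Subtype.val h2)).symm
  have hconj : ∀ g ∈ stabilizer G α, ∀ v : G, (g * v * g⁻¹) • α = g • (v • α) := by
    intro g hg v
    rw [mul_smul, mul_smul, inv_smul_eq_iff.2 (mem_stabilizer_iff.1 hg).symm]
  have hfpf : ∀ b ∈ T, b ≠ 1 → N ⊓ Subgroup.centralizer {b} = ⊥ := by
    rintro _ ⟨a, ha, rfl⟩ hb
    rw [Subgroup.eq_bot_iff_forall]
    rintro v ⟨hv, hvc⟩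
    by_contra hv1
    apply hb
    have hvc' : (a : G) * v = v * (a : G) := Subgroup.mem_centralizer_iff.1 hvc _ rfl
    have h3 : (a : G) • (v • α) = v • α := by
      rw [← hconj a a.2 v, hvc', mul_inv_cancel_right]
    have := hAfix (v • α) (hmove v hv hv1) a ha h3
    rw [this]; rfl
  haveI hcycT : IsCyclic T := Cfsg.Lib.Solv.isCyclic_of_fpf_abelian hN0
    (fun t _ => by rw [Subgroup.normalizer_eq_top]; trivial) hfpf
  obtain ⟨t, ht⟩ := IsCyclic.exists_generator (α := T)
  have hTne : T ≠ ⊥ := fun h => hA0 ((Subgroup.map_eq_bot_iff_of_injective A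
    (Subgroup.subtype_injective _)).1 h)
  have htq : orderOf t = q := by
    haveI : Fact q.Prime := ⟨hq⟩
    refine orderOf_eq_prime ?_ fun h1 => hTne ?_
    · obtain ⟨a, ha, e⟩ := t.2
      apply Subtype.ext
      rw [SubmonoidClass.coe_pow, ← e, ← map_pow, hAexp a ha, map_one]
      rfl
    · rw [Subgroup.eq_bot_iff_forall]
      intro x hx
      obtain ⟨n, hn⟩ := ht ⟨x, hx⟩
      have hn' : t ^ n = ⟨x, hx⟩ := hn
      rw [h1, one_zpow] at hn'
      exact (congrArg Subtype.val hn').symm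
  have hTcard : Nat.card T = q := by rw [← orderOf_eq_card_of_forall_mem_zpowers ht, htq]
  have hAcard : Nat.card A = q := by
    rw [← hTcard, hT, Subgroup.card_map_of_injective (Subgroup.subtype_injective _)]
  have horbit : ∀ ω : Ω, ω ≠ α → Nat.card (orbit (stabilizer G α) ω) = q := by
    intro ω hω
    rw [← hAcard]
    refine (Nat.card_congr (Equiv.ofBijective
      (fun a : A => (⟨(a : stabilizer G α) • ω, mem_orbit ω _⟩ : orbit (stabilizer G α) ω))
        ⟨?_, ?_⟩)).symm
    · intro a b h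
      have h' : (a : stabilizer G α) • ω = (b : stabilizer G α) • ω := congrArg Subtype.val h
      have := hAfix ω hω _ (mul_mem (inv_mem b.2) a.2) (by rw [mul_smul, h', inv_smul_smul])
      exact Subtype.ext (inv_mul_eq_one.1 this).symm
    · rintro ⟨y, hy⟩
      obtain ⟨a, ha, h⟩ := hAtrans ω hω ω (mem_orbit_self ω) y hy
      exact ⟨⟨a, ha⟩, Subtype.ext h⟩
  have hqdvd : q ∣ p ^ d - 1 := by
    have h1 : q ∣ Nat.card ↥({α}ᶜ : Set Ω) := by
      refine Cfsg.Agent.S3356.dvd_card_of_orbits (stabilizer G α) ({α}ᶜ : Set Ω) (fun g hg x hx he => ?_) q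
        fun x hx => horbit x hx
      apply hx
      exact smul_left_cancel g ((Set.mem_singleton_iff.1 he).trans (mem_stabilizer_iff.1 hg).symm)
    rwa [Nat.card_coe_set_eq, Set.ncard_compl, Set.ncard_singleton, Nat.card_eq_fintype_card,
      hcard] at h1
  have hTnorm : stabilizer G α ≤ Subgroup.normalizer (T : Set G) := by
    intro g hg
    rw [Subgroup.mem_normalizer_iff]
    have key : ∀ g' ∈ stabilizer G α, ∀ x ∈ T, g' * x * g'⁻¹ ∈ T := by
      rintro g' hg' _ ⟨a, ha, rfl⟩
      exact ⟨⟨g', hg'⟩ * a * ⟨g', hg'⟩⁻¹, hAn.conj_mem a ha _, rfl⟩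
    refine fun x => ⟨key g hg x, fun hx => ?_⟩
    simpa [mul_assoc] using key g⁻¹ (inv_mem hg) _ hx
  -- irreducibility
  have hirr : ∀ W : Subgroup G, W ≤ N → (∀ w ∈ W, (t : G) * w * (t : G)⁻¹ ∈ W) → W = ⊥ ∨ W = N := by
    intro W hWN hWt
    refine hNmin W ?_ hWN
    have hnat : ∀ n : ℕ, ∀ w ∈ W, (t : G) ^ n * w * ((t : G) ^ n)⁻¹ ∈ W := by
      intro n
      induction n with
      | zero => simp
      | succ n ih =>
        intro w hw
        have := hWt _ (ih w hw)
        simpa [pow_succ', mul_assoc] using this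
    have hT' : ∀ x ∈ T, ∀ w ∈ W, x * w * x⁻¹ ∈ W := by
      intro x hx w hw
      obtain ⟨n, hn⟩ := (mem_powers_iff_mem_zpowers (x := t) (y := (⟨x, hx⟩ : T))).2 (ht _)
      have e : (t : G) ^ n = x := congrArg Subtype.val hn
      rw [← e]
      exact hnat n w hw
    refine ⟨fun w hw g => ?_⟩
    obtain ⟨v, hv⟩ := hNtr.exists_smul_eq α (g • α)
    have hh : (v : G)⁻¹ * g ∈ stabilizer G α := by
      rw [mem_stabilizer_iff, mul_smul, inv_smul_eq_iff]
      exact hv.symm
    set h := (v : G)⁻¹ * g with hdef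
    have hstep : h * w * h⁻¹ ∈ W := by
      by_cases hw1 : w = 1
      · rw [hw1]; simp
      · obtain ⟨a, ha, he⟩ := hAtrans (w • α) (hmove w (hWN hw) hw1) (w • α) (mem_orbit_self _)
          ((⟨h, hh⟩ : stabilizer G α) • (w • α)) (mem_orbit _ _)
        have he' : (a : G) • (w • α) = h • (w • α) := he
        rw [← hconj a a.2 w, ← hconj h hh w] at he'
        rw [← hNinj _ (hNn.conj_mem w (hWN hw) _) _ (hNn.conj_mem w (hWN hw) _) he']
        exact hT' a ⟨a, ha, rfl⟩ w hw
    have e : g * w * g⁻¹ = (v : G) * (h * w * h⁻¹) * (v : G)⁻¹ := by rw [hdef]; group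
    rw [e]
    have hc : (v : G) * (h * w * h⁻¹) = (h * w * h⁻¹) * (v : G) :=
      congrArg Subtype.val (hNcomm.1.comm v ⟨h * w * h⁻¹, hWN hstep⟩)
    rw [hc, mul_inv_cancel_right]
    exact hstep
  -- the module
  letI : CommGroup N := { (inferInstance : Group N) with mul_comm := hNcomm.1.comm }
  let φ : G →* AddMonoid.End (Additive N) :=
    { toFun := fun g => MonoidHom.toAdditive (MulAut.conjNormal g : MulAut N).toMonoidHom
      map_one' := by
        refine AddMonoidHom.ext fun x => ?_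
        apply Additive.toMul.injective
        apply Subtype.ext
        show (1 : G) * (Additive.toMul x : N) * (1 : G)⁻¹ = (Additive.toMul x : N)
        simp
      map_mul' := fun a b => by
        refine AddMonoidHom.ext fun x => ?_
        apply Additive.toMul.injective
        apply Subtype.ext
        show a * b * (Additive.toMul x : N) * (a * b)⁻¹ =
          a * (b * (Additive.toMul x : N) * b⁻¹) * a⁻¹
        group }
  have hφ : ∀ g (x : N), ((Additive.toMul (φ g (Additive.ofMul x)) : N) : G) = g * x * g⁻¹ :=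
    fun g x => rfl
  set c := φ t with hc
  let K := Subring.closure ({c} : Set (AddMonoid.End (Additive N)))
  have hKcomm : ∀ x ∈ K, x * c = c * x := by
    intro x hx
    induction hx using Subring.closure_induction with
    | mem y hy => rw [Set.mem_singleton_iff.1 hy]
    | zero => rw [zero_mul, mul_zero]
    | one => rw [one_mul, mul_one]
    | add y z _ _ hy hz => rw [add_mul, mul_add, hy, hz]
    | neg y _ hy =>
      refine AddMonoidHom.ext fun u => ?_
      show -(y (c u)) = c (-(y u))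
      rw [map_neg]
      exact congrArg Neg.neg (congrArg (fun f : AddMonoid.End (Additive N) => f u) hy)
    | mul y z _ _ hy hz => rw [mul_assoc, hz, ← mul_assoc, hy, mul_assoc]
  obtain ⟨v0, hv0, hv01⟩ := (Subgroup.bot_or_exists_ne_one N).resolve_left hN0
  let u0 : Additive N := Additive.ofMul ⟨v0, hv0⟩
  -- kernels and images are invariant
  have hinv : ∀ (P : AddSubgroup (Additive N)), (∀ u ∈ P, c u ∈ P) → P = ⊥ ∨ P = ⊤ := by
    intro P hP
    let W : Subgroup G := (AddSubgroup.toSubgroup' P).map N.subtype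
    have hmem : ∀ x : N, (x : G) ∈ W ↔ Additive.ofMul x ∈ P := fun x =>
      Subgroup.mem_map_iff_mem (Subgroup.subtype_injective _)
    rcases hirr W (Subgroup.map_subtype_le _) (fun w hw => by
      obtain ⟨x, hx, rfl⟩ := hw
      exact (hmem (Additive.toMul (c (Additive.ofMul x)))).2 (hP _ hx)) with h | h
    · left
      rw [eq_bot_iff]
      intro u hu
      have h2 : ((Additive.toMul u : N) : G) ∈ W := (hmem _).2 hu
      rw [h, Subgroup.mem_bot] at h2
      show u = 0
      apply Additive.toMul.injective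
      exact Subtype.ext h2
    · right
      rw [eq_top_iff]
      intro u _
      exact (hmem (Additive.toMul u)).1 (by rw [h]; exact (Additive.toMul u : N).2)
  have hker : ∀ x ∈ K, ∀ u : Additive N, u ≠ 0 → x u = 0 → x = 0 := by
    intro x hx u hu hxu
    rcases hinv (x : Additive N →+ Additive N).ker (fun w hw => by
      show x (c w) = 0
      have : x w = 0 := hw
      have e : (x * c) w = (c * x) w := by rw [hKcomm x hx]
      simp only [AddMonoid.End.coe_mul, Function.comp_apply, this, map_zero] at e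
      exact e) with h | h
    · exfalso
      apply hu
      have h2 : u ∈ (x : Additive N →+ Additive N).ker := hxu
      rw [h] at h2
      exact h2
    · refine AddMonoidHom.ext fun w => ?_
      have h2 : w ∈ (x : Additive N →+ Additive N).ker := by rw [h]; trivial
      exact h2
  have hu0 : u0 ≠ 0 := fun h => hv01 (congrArg (fun z : Additive N => ((Additive.toMul z : N) : G)) h)
  letI : CommRing K := Subring.closureCommRingOfComm (by
    intro x hx y hy; rw [Set.mem_singleton_iff.1 hx, Set.mem_singleton_iff.1 hy])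
  let ev : K →+ Additive N :=
    { toFun := fun x => (x : AddMonoid.End (Additive N)) u0
      map_zero' := rfl
      map_add' := fun x y => rfl }
  have hevinj : Function.Injective ev := by
    rw [injective_iff_map_eq_zero]
    intro x hx
    exact Subtype.ext (hker x x.2 u0 hu0 hx)
  have hevsurj : Function.Surjective ev := by
    rcases hinv ev.range (fun u hu => by
      obtain ⟨x, rfl⟩ := hu
      exact ⟨⟨c, Subring.subset_closure rfl⟩ * x, rfl⟩) with h | h
    · exfalso
      apply hu0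
      have h2 : u0 ∈ ev.range := ⟨1, rfl⟩
      rw [h] at h2
      exact h2
    · exact AddMonoidHom.range_eq_top.1 h
  haveI : Finite K := Finite.of_injective _ hevinj
  have hKcard : Nat.card K = p ^ d := by
    rw [← hNcard']
    exact Nat.card_congr ((Equiv.ofBijective ev ⟨hevinj, hevsurj⟩).trans Additive.toMul)
  haveI : Nontrivial K := ⟨⟨1, 0, fun h => hu0 (by
    exact congrArg ev h)⟩⟩
  haveI : NoZeroDivisors K := ⟨fun {x y} hxy => by
    by_cases hy : (y : AddMonoid.End (Additive N)) u0 = 0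
    · exact Or.inr (hevinj (hy.trans (map_zero ev).symm))
    · refine Or.inl (Subtype.ext (hker x x.2 _ hy ?_))
      exact congrArg (fun z : K => (z : AddMonoid.End (Additive N)) u0) hxy⟩
  haveI : IsDomain K := NoZeroDivisors.to_isDomain K
  haveI : Fintype K := Fintype.ofFinite K
  letI : Field K := Fintype.fieldOfDomain K
  haveI : CharP K p := by
    have hp0 : ((p : ℕ) : K) = 0 := by
      apply hevinj
      rw [map_zero, ← nsmul_one, map_nsmul]
      apply Additive.toMul.injective
      apply Subtype.ext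
      exact hNexp _ (Additive.toMul (ev 1) : N).2
    exact (CharP.charP_iff_prime_eq_zero hp).2 hp0
  letI : Algebra (ZMod p) K := ZMod.algebra K p
  have hfr : Module.finrank (ZMod p) K = d := by
    have h := Module.card_eq_pow_finrank (K := ZMod p) (V := K)
    rw [ZMod.card, ← Nat.card_eq_fintype_card, hKcard] at h
    exact (Nat.pow_right_injective hp.two_le h).symm
  let cK : K := ⟨c, Subring.subset_closure rfl⟩
  have hcq : cK ^ q = 1 := by
    apply Subtype.ext
    show c ^ q = 1
    rw [hc, ← map_pow, ← SubmonoidClass.coe_pow, ← htq, pow_orderOf_eq_one, OneMemClass.coe_one,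
      map_one]
  have hprimdiv : ∀ i : ℕ, 0 < i → i < d → ¬ q ∣ p ^ i - 1 := by
    intro i hi hid hdvd
    have hfix : cK ^ (p ^ i) = cK := by
      obtain ⟨m, hm⟩ := hdvd
      have : p ^ i = q * m + 1 := by
        have := Nat.one_le_pow i p hp.pos
        omega
      rw [this, pow_succ, pow_mul, hcq, one_pow, one_mul]
    have hall : ∀ x : K, x ^ (p ^ i) = x := by
      rintro ⟨x, hx⟩
      induction hx using Subring.closure_induction with
      | mem y hy => obtain rfl := Set.mem_singleton_iff.1 hy; exact hfix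
      | zero => exact zero_pow (pow_ne_zero i hp.ne_zero)
      | one => exact one_pow _
      | add y z hy hz ey ez =>
        show ((⟨y, hy⟩ : K) + ⟨z, hz⟩) ^ (p ^ i) = _
        rw [add_pow_char_pow, ey, ez]; rfl
      | neg y hy ey =>
        show (-(⟨y, hy⟩ : K)) ^ (p ^ i) = _
        have := map_neg (iterateFrobenius K p i) (⟨y, hy⟩ : K)
        rw [iterateFrobenius_def, iterateFrobenius_def, ey] at this
        exact this
      | mul y z hy hz ey ez =>
        show ((⟨y, hy⟩ : K) * ⟨z, hz⟩) ^ (p ^ i) = _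
        rw [mul_pow, ey, ez]; rfl
    have hlt : 1 < p ^ i := Nat.one_lt_pow hi.ne' hp.one_lt
    have hne : (Polynomial.X ^ (p ^ i) - Polynomial.X : Polynomial K) ≠ 0 :=
      FiniteField.X_pow_card_sub_X_ne_zero K hlt
    have hle : Fintype.card K ≤ p ^ i := by
      have h1 := Polynomial.card_roots' (Polynomial.X ^ (p ^ i) - Polynomial.X : Polynomial K)
      rw [FiniteField.X_pow_card_sub_X_natDegree_eq K hlt] at h1
      refine le_trans ?_ h1
      refine le_trans ?_ (Multiset.toFinset_card_le _)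
      refine Finset.card_le_card fun x _ => ?_
      rw [Multiset.mem_toFinset, Polynomial.mem_roots hne]
      simp [hall x]
    rw [← Nat.card_eq_fintype_card, hKcard] at hle
    exact absurd hle (not_le.2 (Nat.pow_lt_pow_right hp.one_lt hid))
  -- the complement
  have hconjK : ∀ g ∈ stabilizer G α, ∀ x ∈ K, φ g * x * φ g⁻¹ ∈ K := by
    intro g hg x hx
    induction hx using Subring.closure_induction with
    | mem y hy =>
      rw [Set.mem_singleton_iff.1 hy, hc, ← map_mul, ← map_mul]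
      have h1 := (Subgroup.mem_normalizer_iff.1 (hTnorm hg) t).1 t.2
      obtain ⟨n, hn⟩ := (mem_powers_iff_mem_zpowers (x := t) (y := (⟨_, h1⟩ : T))).2 (ht _)
      have e : g * (t : G) * g⁻¹ = (t : G) ^ n := (congrArg Subtype.val hn).symm
      rw [e, map_pow]
      exact pow_mem (Subring.subset_closure (by rw [hc]; rfl)) n
    | zero => rw [mul_zero, zero_mul]; exact zero_mem _
    | one => rw [mul_one, ← map_mul, mul_inv_cancel, map_one]; exact one_mem _
    | add y z _ _ hy hz => rw [mul_add, add_mul]; exact add_mem hy hz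
    | neg y _ hy =>
      have e : φ g * -y * φ g⁻¹ = -(φ g * y * φ g⁻¹) :=
        AddMonoidHom.ext fun u => map_neg (φ g) (y (φ g⁻¹ u))
      rw [e]; exact neg_mem hy
    | mul y z _ _ hy hz =>
      have : φ g * (y * z) * φ g⁻¹ = (φ g * y * φ g⁻¹) * (φ g * z * φ g⁻¹) := by
        have e1 : φ g⁻¹ * φ g = 1 := by rw [← map_mul, inv_mul_cancel, map_one]
        simp only [mul_assoc]
        rw [← mul_assoc (φ g⁻¹) (φ g), e1, one_mul]
      rw [this]; exact mul_mem hy hz
  have hcancel : ∀ g : G, φ g⁻¹ * φ g = 1 := fun g => by rw [← map_mul, inv_mul_cancel, map_one]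
  have hcancel' : ∀ g : G, φ g * φ g⁻¹ = 1 := fun g => by rw [← map_mul, mul_inv_cancel, map_one]
  let Ψ₀ : stabilizer G α → (K →+* K) := fun g =>
    { toFun := fun x => ⟨φ g * x * φ (g : G)⁻¹, hconjK g g.2 x x.2⟩
      map_one' := Subtype.ext (by simp [hcancel'])
      map_mul' := fun x y => Subtype.ext (by
        show φ g * ((x : AddMonoid.End (Additive N)) * y) * φ (g : G)⁻¹ =
          (φ g * x * φ (g : G)⁻¹) * (φ g * y * φ (g : G)⁻¹)
        simp only [mul_assoc]
        rw [← mul_assoc (φ (g : G)⁻¹) (φ g), hcancel, one_mul])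
      map_zero' := Subtype.ext (by simp)
      map_add' := fun x y => Subtype.ext (by simp [mul_add, add_mul]) }
  have hΨ₀ : ∀ g x, ((Ψ₀ g x : K) : AddMonoid.End (Additive N)) = φ g * x * φ (g : G)⁻¹ :=
    fun g x => rfl
  have hΨmul : ∀ g k x, Ψ₀ (g * k) x = Ψ₀ g (Ψ₀ k x) := fun g k x => Subtype.ext (by
    simp only [hΨ₀, Subgroup.coe_mul, map_mul, mul_inv_rev, mul_assoc])
  have hΨone : ∀ x, Ψ₀ 1 x = x := fun x => Subtype.ext (by simp [hΨ₀])
  let Ψ : stabilizer G α →* (K ≃ₐ[ZMod p] K) :=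
    { toFun := fun g => AlgEquiv.ofRingEquiv (f :=
        { Ψ₀ g with
          invFun := Ψ₀ g⁻¹
          left_inv := fun x => by
            show Ψ₀ g⁻¹ (Ψ₀ g x) = x
            rw [← hΨmul, inv_mul_cancel, hΨone]
          right_inv := fun x => by
            show Ψ₀ g (Ψ₀ g⁻¹ x) = x
            rw [← hΨmul, mul_inv_cancel, hΨone] })
        (fun z => RingHom.congr_fun
          (RingHom.ext_zmod ((Ψ₀ g).comp (algebraMap (ZMod p) K)) (algebraMap (ZMod p) K)) z)
      map_one' := AlgEquiv.ext hΨone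
      map_mul' := fun g k => AlgEquiv.ext (hΨmul g k) }
  have hkerΨ : Ψ.ker = A := by
    ext g
    constructor
    · intro hg
      have h1 : Ψ g cK = cK := by rw [MonoidHom.mem_ker.1 hg]; rfl
      have h1' : φ g * c * φ (g : G)⁻¹ = c := congrArg Subtype.val h1
      rw [hc, ← map_mul, ← map_mul] at h1'
      have hcomm : (g : G) * t = t * g := by
        by_contra hne
        have hz : (t : G)⁻¹ * ((g : G) * t * (g : G)⁻¹) ∈ T :=
          mul_mem (inv_mem t.2) ((Subgroup.mem_normalizer_iff.1 (hTnorm g.2) t).1 t.2)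
        set z := (t : G)⁻¹ * ((g : G) * t * (g : G)⁻¹) with hzdef
        have hz1 : z ≠ 1 := fun h => hne (by
          rw [hzdef, inv_mul_eq_one, eq_mul_inv_iff_mul_eq] at h
          exact h.symm)
        have hφz : φ z = 1 := by rw [hzdef, map_mul, h1', ← map_mul, inv_mul_cancel, map_one]
        have hmem : v0 ∈ N ⊓ Subgroup.centralizer {z} := by
          refine ⟨hv0, Subgroup.mem_centralizer_iff.2 fun y hy => ?_⟩
          rw [Set.mem_singleton_iff.1 hy]
          have h3 := hφ z ⟨v0, hv0⟩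
          rw [hφz] at h3
          exact (eq_mul_inv_iff_mul_eq.1 h3).symm
        rw [hfpf z hz hz1, Subgroup.mem_bot] at hmem
        exact hv01 hmem
      have hgA : ∀ a ∈ A, g * a = a * g := by
        intro a ha
        obtain ⟨n, hn⟩ := ht ⟨(a : G), a, ha, rfl⟩
        apply Subtype.ext
        show (g : G) * a = a * g
        have e : (t : G) ^ n = a := congrArg Subtype.val hn
        rw [← e]
        exact (Commute.zpow_right hcomm n).eq
      obtain ⟨ω, hω⟩ := exists_ne α
      obtain ⟨a, ha, he⟩ := hAtrans ω hω ω (mem_orbit_self ω) (g • ω) (mem_orbit _ _)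
      have h2 := hAreg ω hω (a⁻¹ * g) (fun b hb => by
        have hba : a⁻¹ * b = b * a⁻¹ :=
          congrArg Subtype.val (hAcomm.1.comm ⟨a⁻¹, inv_mem ha⟩ ⟨b, hb⟩)
        rw [mul_assoc, hgA b hb, ← mul_assoc, hba, mul_assoc])
        (by rw [mul_smul, ← he, inv_smul_smul])
      rw [inv_mul_eq_one] at h2
      rw [← h2]; exact ha
    · intro hg
      refine MonoidHom.mem_ker.2 (AlgEquiv.ext fun x => Subtype.ext ?_)
      show φ g * x * φ (g : G)⁻¹ = x
      obtain ⟨n, hn⟩ := (mem_powers_iff_mem_zpowers (x := t)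
        (y := (⟨(g : G), g, hg, rfl⟩ : T))).2 (ht _)
      have e : (t : G) ^ n = (g : G) := congrArg Subtype.val hn
      have h5 : φ g * x = x * φ g := by
        rw [← e, map_pow]
        exact (Commute.pow_right (hKcomm x x.2) n).eq.symm
      rw [h5, mul_assoc, hcancel', mul_one]
  haveI : Finite (K ≃ₐ[ZMod p] K) :=
    Finite.of_surjective _ (FiniteField.bijective_frobeniusAlgEquivOfAlgebraic_pow (ZMod p) K).2
  have hgalcard : Nat.card (K ≃ₐ[ZMod p] K) = d := by
    rw [← Nat.card_congr (Equiv.ofBijective _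
      (FiniteField.bijective_frobeniusAlgEquivOfAlgebraic_pow (ZMod p) K)), Nat.card_fin, hfr]
  haveI : IsCyclic Ψ.range := Subgroup.isCyclic Ψ.range
  obtain ⟨⟨_, h, rfl⟩, hgen⟩ := IsCyclic.exists_generator (α := Ψ.range)
  refine ⟨q, hq, horbit, hqdvd, hprimdiv, T, hTH, hTnorm, hTcard, ⟨(h : G), ?_⟩, ?_⟩
  · refine le_antisymm (fun g hg => ?_) (sup_le hTH (Subgroup.zpowers_le.2 h.2))
    obtain ⟨n, hn⟩ := hgen ⟨Ψ ⟨g, hg⟩, ⟨g, hg⟩, rfl⟩
    have h1 : ⟨g, hg⟩ * (h ^ n)⁻¹ ∈ A := by
      rw [← hkerΨ, MonoidHom.mem_ker, map_mul, map_inv, map_zpow]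
      have := congrArg Subtype.val hn
      rw [← show Ψ h ^ n = Ψ ⟨g, hg⟩ from this, mul_inv_cancel]
    have h2 : g * ((h : G) ^ n)⁻¹ ∈ T := ⟨_, h1, by simp⟩
    have : g = (g * ((h : G) ^ n)⁻¹) * (h : G) ^ n := by group
    rw [this]
    exact mul_mem (Subgroup.mem_sup_left h2) (Subgroup.mem_sup_right (zpow_mem (Subgroup.mem_zpowers _) n))
  · rw [← Subgroup.card_mul_index Ψ.ker, hkerΨ, hAcard]
    refine Nat.mul_dvd_mul_left q ?_
    rw [← hkerΨ, Subgroup.index_ker, ← hgalcard]
    exact Subgroup.card_subgroup_dvd_card _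

end Cfsg.Agent.S3496
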