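import Cfsg.Statements.S3497
import Cfsg.Agent.S3494
import Cfsg.Agent.S3356
import Cfsg.Agent.Lib.Core.Fitting
import Mathlib.GroupTheory.Nilpotent
import Mathlib.LinearAlgebra.Matrix.GeneralLinearGroup.Defs
import Mathlib.LinearAlgebra.Matrix.ToLin
import Mathlib.Algebra.Module.ZMod

set_option autoImplicit false
open Cfsg

namespace Cfsg.Agent.S3497

open MulAction

theorem exists_gl_aux {p : ℕ} [Fact p.Prime] {W : Type*} [CommGroup W] [Finite W]
    [Module (ZMod p) (Additive W)] {e : ℕ} (hW : Nat.card W = p ^ e) :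
    ∃ f : MulAut W →* GL (Fin e) (ZMod p), Function.Injective f := by
  haveI : Finite (Additive W) := inferInstanceAs (Finite W)
  haveI : Module.Finite (ZMod p) (Additive W) := Module.Finite.of_finite (R := ZMod p)
  have hd : Module.finrank (ZMod p) (Additive W) = e := by
    have h := Module.natCard_eq_pow_finrank (K := ZMod p) (V := Additive W)
    rw [Nat.card_zmod, Nat.card_congr Additive.toMul, hW] at h
    exact (Nat.pow_right_injective (Fact.out : p.Prime).two_le h).symm
  let b := Module.finBasisOfFinrankEq (ZMod p) (Additive W) hd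
  let E : MulAut W →* Module.End (ZMod p) (Additive W) :=
    { toFun := fun g => (AddMonoidHom.mk' (fun v : Additive W => Additive.ofMul (g v.toMul))
          fun v w => congrArg Additive.ofMul (map_mul g _ _)).toZModLinearMap p
      map_one' := LinearMap.ext fun _ => rfl
      map_mul' := fun _ _ => LinearMap.ext fun _ => rfl }
  refine ⟨((LinearMap.toMatrixAlgEquiv b).toAlgHom.toRingHom.toMonoidHom.comp E).toHomUnits,
    fun g h e => MulEquiv.ext fun w => ?_⟩
  have e1 : E g = E h := (LinearMap.toMatrixAlgEquiv b).injective (congrArg Units.val e)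
  exact Additive.ofMul.injective (congrArg (fun T => T (Additive.ofMul w)) e1)

theorem exists_gl {p : ℕ} [Fact p.Prime] {W : Type*} [CommGroup W] [Finite W]
    (hexp : ∀ w : W, w ^ p = 1) {e : ℕ} (hW : Nat.card W = p ^ e) :
    ∃ f : MulAut W →* GL (Fin e) (ZMod p), Function.Injective f :=
  have : Module (ZMod p) (Additive W) := AddCommGroup.zmodModule fun v =>
    Additive.toMul.injective (by rw [toMul_nsmul]; exact hexp _)
  exists_gl_aux hW

theorem result {G : Type*} [Group G] [Finite G] {Ω : Type*} [Fintype Ω] [MulAction G Ω] [FaithfulSMul G Ω] (hprim : MulAction.IsPreprimitive G Ω) (hep : ∀ (α : Ω) (ω : Ω), MulAction.IsPreprimitive (MulAction.stabilizer G α) (MulAction.orbit (MulAction.stabilizer G α) ω)) (α : Ω)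
    (hH1 : MulAction.stabilizer G α ≠ ⊥) (hHp : ¬ (Nat.card (MulAction.stabilizer G α)).Prime) :
    Subgroup.center (MulAction.stabilizer G α) = ⊥ ∧
    IsMulCommutative (Cfsg.fittingSubgroup (MulAction.stabilizer G α)) ∧
    ∃ p e : ℕ, p.Prime ∧ Nat.card (Cfsg.fittingSubgroup (MulAction.stabilizer G α)) = p ^ e ∧
      (∀ x ∈ Cfsg.fittingSubgroup (MulAction.stabilizer G α), x ^ p = 1) ∧
      (Cfsg.fittingSubgroup (MulAction.stabilizer G α) ≠ ⊥ →
        p ^ e ∣ Fintype.card Ω - 1 ∧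
        ∃ φ : MulAction.stabilizer G α →* GL (Fin e) (ZMod p), φ.ker = Cfsg.fittingSubgroup (MulAction.stabilizer G α)) := by
  classical
  haveI := hprim
  haveI : IsPretransitive G Ω := hprim.toIsPretransitive
  have hH : ∀ β : Ω, stabilizer G β ≠ ⊥ := by
    intro β h
    obtain ⟨g, hg⟩ := exists_smul_eq G β α
    apply hH1
    rw [← hg, stabilizer_smul_eq_stabilizer_map_conj, h, Subgroup.map_bot]
  have hfaith : ∀ ω : Ω, ω ≠ α → ∀ h : stabilizer G α,
      (∀ x ∈ orbit (stabilizer G α) ω, h • x = x) → h = 1 :=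
    fun ω hω h hfix => Cfsg.Agent.S3494.result hprim hH hep α ω hω h hfix
  obtain ⟨ω₀, hω₀⟩ : ∃ ω : Ω, ω ≠ α := by
    by_contra h
    push Not at h
    exact hH1 ((Subgroup.eq_bot_iff_forall _).2 fun g _ =>
      FaithfulSMul.eq_of_smul_eq_smul (α := Ω) fun x => (h _).trans (h _).symm)
  -- normal subgroups are transitive on suborbits
  have htrans : ∀ A : Subgroup (stabilizer G α), A.Normal → A ≠ ⊥ → ∀ ω : Ω, ω ≠ α →
      ∀ x ∈ orbit (stabilizer G α) ω, ∃ a ∈ A, a • ω = x := by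
    intro A hA hA0 ω hω x hx
    haveI := hA
    haveI := hep α ω
    haveI : IsPretransitive A (orbit (stabilizer G α) ω) := by
      refine IsQuasiPreprimitive.isPretransitive_of_normal fun e => hA0 ?_
      rw [Subgroup.eq_bot_iff_forall]
      intro a ha
      refine hfaith ω hω a fun z hz => ?_
      exact congrArg Subtype.val (Set.eq_univ_iff_forall.1 e ⟨z, hz⟩ ⟨a, ha⟩)
    obtain ⟨a, ha⟩ := exists_smul_eq A (⟨ω, mem_orbit_self ω⟩ : orbit (stabilizer G α) ω) ⟨x, hx⟩
    exact ⟨a, a.2, congrArg Subtype.val ha⟩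
  have hsemi : ∀ A : Subgroup (stabilizer G α), A.Normal → A ≠ ⊥ → ∀ ω : Ω, ω ≠ α →
      ∀ h : stabilizer G α, (∀ a ∈ A, h * a = a * h) → h • ω = ω → h = 1 := by
    intro A hA hA0 ω hω h hc hfix
    refine hfaith ω hω h fun x hx => ?_
    obtain ⟨a, ha, rfl⟩ := htrans A hA hA0 ω hω x hx
    rw [← mul_smul, hc a ha, mul_smul, hfix]
  have hcent : ∀ A : Subgroup (stabilizer G α), A.Normal → A ≠ ⊥ →
      (∀ a ∈ A, ∀ b ∈ A, a * b = b * a) → ∀ h : stabilizer G α, (∀ a ∈ A, h * a = a * h) → h ∈ A := by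
    intro A hA hA0 hab h hc
    obtain ⟨a, ha, he⟩ := htrans A hA hA0 ω₀ hω₀ (h • ω₀) (mem_orbit _ _)
    have h2 := hsemi A hA hA0 ω₀ hω₀ (a⁻¹ * h) (fun b hb => by
      rw [mul_assoc, hc b hb, ← mul_assoc, hab a⁻¹ (inv_mem ha) b hb, mul_assoc])
      (by rw [mul_smul, ← he, inv_smul_smul])
    rw [inv_mul_eq_one] at h2
    rw [← h2]; exact ha
  have hcen : Subgroup.center (stabilizer G α) = ⊥ := by
    by_contra hZ
    have hZc : ∀ a ∈ Subgroup.center (stabilizer G α), ∀ b : stabilizer G α, b * a = a * b :=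
      fun a ha b => Subgroup.mem_center_iff.1 ha b
    have hall : ∀ h : stabilizer G α, h ∈ Subgroup.center (stabilizer G α) := fun h =>
      hcent _ inferInstance hZ (fun a ha b _ => (hZc a ha b).symm) h (fun a ha => hZc a ha h)
    have hsub : ∀ M : Subgroup (stabilizer G α), M ≠ ⊥ → M = ⊤ := by
      intro M hM
      rw [eq_top_iff]
      intro h _
      have hMn : M.Normal := ⟨fun m hm g => by rw [hZc m (hall m) g, mul_inv_cancel_right]; exact hm⟩
      exact hcent M hMn hM (fun a _ b _ => hZc b (hall b) a) h (fun a _ => hZc a (hall a) h)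
    have hne1 : Nat.card (stabilizer G α) ≠ 1 := fun h => hH1 (Subgroup.eq_bot_of_card_eq _ h)
    obtain ⟨q, hq, hqd⟩ := Nat.exists_prime_and_dvd hne1
    haveI : Fact q.Prime := ⟨hq⟩
    obtain ⟨x, hx⟩ := exists_prime_orderOf_dvd_card' q hqd
    apply hHp
    have hxne : Subgroup.zpowers x ≠ ⊥ := by
      rw [Ne, Subgroup.zpowers_eq_bot]
      intro h; rw [h, orderOf_one] at hx; exact hq.ne_one hx.symm
    have e := congrArg (fun M : Subgroup (stabilizer G α) => Nat.card M) (hsub _ hxne)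
    simp only [Nat.card_zpowers, Subgroup.card_top, hx] at e
    rw [← e]; exact hq
  refine ⟨hcen, ?_⟩
  set F := Cfsg.fittingSubgroup (stabilizer G α) with hF
  haveI hFn : F.Normal := Cfsg.Lib.Core.fittingSubgroup_normal' _
  by_cases hF0 : F = ⊥
  · rw [hF0]
    refine ⟨⟨⟨fun a b => ?_⟩⟩, 2, 0, Nat.prime_two, ?_, fun x hx => ?_, fun h => absurd rfl h⟩
    · have ha := Subgroup.mem_bot.1 a.2
      apply Subtype.ext
      show (a : stabilizer G α) * b = b * a
      rw [ha, one_mul, mul_one]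
    · rw [Subgroup.card_bot, pow_zero]
    · rw [Subgroup.mem_bot.1 hx, one_pow]
  haveI : Nontrivial F := (Subgroup.nontrivial_iff_ne_bot _).2 hF0
  haveI : Group.IsNilpotent F := Cfsg.Lib.Core.fittingSubgroup_isNilpotent _
  let Z := (Subgroup.center F).map F.subtype
  have hZ0 : Z ≠ ⊥ := fun h => by
    have h2 := (Subgroup.map_eq_bot_iff_of_injective _ (Subgroup.subtype_injective F)).1 h
    exact Group.IsNilpotent.center_ne_bot (G := F) h2
  have hZn : Z.Normal := inferInstance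
  have hZab : ∀ a ∈ Z, ∀ b ∈ Z, a * b = b * a := by
    rintro _ ⟨a, ha, rfl⟩ _ ⟨b, -, rfl⟩
    exact congrArg Subtype.val (Subgroup.mem_center_iff.1 ha b).symm
  have hFZ : ∀ f ∈ F, f ∈ Z := fun f hf => hcent Z hZn hZ0 hZab f (by
    rintro _ ⟨a, ha, rfl⟩
    exact congrArg Subtype.val (Subgroup.mem_center_iff.1 ha ⟨f, hf⟩))
  have hFab : ∀ a ∈ F, ∀ b ∈ F, a * b = b * a := fun a ha b hb => hZab a (hFZ a ha) b (hFZ b hb)
  have hcard1 : Nat.card F ≠ 1 := fun h => hF0 (Subgroup.eq_bot_of_card_eq _ h)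
  set p := (Nat.card F).minFac with hpdef
  have hp : p.Prime := Nat.minFac_prime hcard1
  haveI : Fact p.Prime := ⟨hp⟩
  let A : Subgroup (stabilizer G α) :=
    { carrier := {y | y ∈ F ∧ y ^ p = 1}
      mul_mem' := fun {y z} hy hz => ⟨mul_mem hy.1 hz.1, by
        rw [Commute.mul_pow (hFab y hy.1 z hz.1), hy.2, hz.2, one_mul]⟩
      one_mem' := ⟨one_mem F, one_pow _⟩
      inv_mem' := fun {y} hy => ⟨inv_mem hy.1, by rw [inv_pow, hy.2, inv_one]⟩ }
  have hAn : A.Normal := ⟨fun y hy g => ⟨hFn.conj_mem y hy.1 g, by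
    rw [conj_pow, hy.2, mul_one, mul_inv_cancel]⟩⟩
  have hA0 : A ≠ ⊥ := by
    intro h
    obtain ⟨y, hy⟩ := exists_prime_orderOf_dvd_card' (G := F) p (Nat.minFac_dvd _)
    have hmem : (y : stabilizer G α) ∈ A :=
      ⟨y.2, by rw [← SubmonoidClass.coe_pow, ← hy, pow_orderOf_eq_one]; rfl⟩
    rw [h, Subgroup.mem_bot] at hmem
    have hy1 : y = 1 := Subtype.ext hmem
    rw [hy1, orderOf_one] at hy
    exact hp.ne_one hy.symm
  have hexp : ∀ x ∈ F, x ^ p = 1 := fun x hx =>
    (hcent A hAn hA0 (fun a ha b hb => hFab a ha.1 b hb.1) x (fun a ha => hFab x hx a ha.1)).2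
  have hpg : IsPGroup p F := fun x => ⟨1, by
    rw [pow_one]; exact Subtype.ext (hexp x x.2)⟩
  obtain ⟨e, he⟩ := IsPGroup.iff_card.1 hpg
  refine ⟨⟨⟨fun a b => Subtype.ext (hFab a a.2 b b.2)⟩⟩, p, e, hp, he, hexp, fun _ => ⟨?_, ?_⟩⟩
  · have horbit : ∀ ω : Ω, ω ≠ α → Nat.card (orbit (stabilizer G α) ω) = p ^ e := by
      intro ω hω
      rw [← he]
      refine (Nat.card_congr (Equiv.ofBijective
        (fun a : F => (⟨(a : stabilizer G α) • ω, mem_orbit ω _⟩ : orbit (stabilizer G α) ω))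
          ⟨?_, ?_⟩)).symm
      · intro a b h
        have h' : (a : stabilizer G α) • ω = (b : stabilizer G α) • ω := congrArg Subtype.val h
        have := hsemi F hFn hF0 ω hω _ (fun c hc => hFab _ (mul_mem (inv_mem b.2) a.2) c hc)
          (show ((b : stabilizer G α)⁻¹ * a) • ω = ω by rw [mul_smul, h', inv_smul_smul])
        exact Subtype.ext (inv_mul_eq_one.1 this).symm
      · rintro ⟨y, hy⟩
        obtain ⟨a, ha, h⟩ := htrans F hFn hF0 ω hω y hy
        exact ⟨⟨a, ha⟩, Subtype.ext h⟩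
    have h1 : p ^ e ∣ Nat.card ↥({α}ᶜ : Set Ω) := by
      refine Cfsg.Agent.S3356.dvd_card_of_orbits (stabilizer G α) ({α}ᶜ : Set Ω) (fun g hg x hx he => ?_)
        (p ^ e) fun x hx => horbit x hx
      apply hx
      exact smul_left_cancel g ((Set.mem_singleton_iff.1 he).trans (mem_stabilizer_iff.1 hg).symm)
    rwa [Nat.card_coe_set_eq, Set.ncard_compl, Set.ncard_singleton, Nat.card_eq_fintype_card] at h1
  · letI : CommGroup F :=
      { (inferInstance : Group F) with mul_comm := fun a b => Subtype.ext (hFab a a.2 b b.2) }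
    obtain ⟨f, hf⟩ := exists_gl (W := F) (p := p) (fun w => Subtype.ext (hexp w w.2)) he
    refine ⟨f.comp (MulAut.conjNormal : stabilizer G α →* MulAut F), ?_⟩
    ext x
    rw [MonoidHom.mem_ker, MonoidHom.comp_apply, map_eq_one_iff f hf, MulEquiv.ext_iff]
    constructor
    · intro h
      refine hcent F hFn hF0 hFab x fun a ha => ?_
      have h2 : x * a * x⁻¹ = a := congrArg Subtype.val (h ⟨a, ha⟩)
      exact mul_inv_eq_iff_eq_mul.1 h2
    · intro hx a
      apply Subtype.ext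
      show x * (a : stabilizer G α) * x⁻¹ = a
      rw [hFab x hx a a.2, mul_inv_cancel_right]

end Cfsg.Agent.S3497
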