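import Cfsg.Statements.S3498
import Mathlib

set_option autoImplicit false
open Cfsg

namespace Cfsg.Agent.S3498

/-- A maximal subgroup of a finite almost simple group does not have prime order. Here G is almost simple in the sense that it has a non-abelian simple normal subgroup T with trivial centralizer. -/
theorem result {G : Type*} [Group G] [Finite G] (T : Subgroup G) [T.Normal] (hT : IsSimpleGroup T) (hTc : ¬ IsMulCommutative T)
    (hC : Subgroup.centralizer (T : Set G) = ⊥) (H : Subgroup G) (hmax : IsCoatom H) : ¬ (Nat.card H).Prime := by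
  classical
  intro hq
  set q := Nat.card H with hqdef
  haveI := Fact.mk hq
  haveI : IsSimpleGroup T := hT
  have hTb : T ≠ ⊥ := fun h => hTc (by
    subst h
    exact ⟨⟨fun x y => Subsingleton.elim _ _⟩⟩)
  have hHn : ¬ H.Normal := by
    intro hn
    have hle := Subgroup.commutator_le_inf H T
    rcases hT.eq_bot_or_eq_top_of_normal (H.subgroupOf T) inferInstance with h | h
    · rw [Subgroup.subgroupOf_eq_bot, disjoint_iff] at h
      rw [h, le_bot_iff, Subgroup.commutator_eq_bot_iff_le_centralizer, hC, le_bot_iff] at hle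
      rw [hqdef, hle, Subgroup.card_bot] at hq
      exact Nat.not_prime_one hq
    · have h1 : T ≤ H := Subgroup.subgroupOf_eq_top.1 h
      apply hTc
      haveI := isCyclic_of_prime_card (α := H) hqdef.symm
      exact ⟨⟨fun x y => Subtype.ext (congrArg (fun z : H => (z : G))
        ((IsCyclic.commGroup (α := H)).mul_comm ⟨x, h1 x.2⟩ ⟨y, h1 y.2⟩))⟩⟩
  have hN : Subgroup.normalizer (H : Set G) = H :=
    (hmax.le_iff.1 Subgroup.le_normalizer).resolve_left fun h => hHn (Subgroup.normalizer_eq_top_iff.1 h)
  by_cases hHT : H ≤ T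
  · rcases hmax.le_iff.1 hHT with h | h
    swap
    · apply hTc
      rw [h]
      haveI := isCyclic_of_prime_card (α := H) hqdef.symm
      infer_instance
    -- `G` is simple
    have hHp : IsPGroup q H := IsPGroup.of_card (n := 1) (by rw [pow_one])
    obtain ⟨P, hP⟩ := hHp.exists_le_sylow
    haveI : IsSimpleGroup (⊤ : Subgroup G) := h ▸ hT
    haveI : IsSimpleGroup G := Subgroup.topEquiv.symm.isSimpleGroup
    have hnc : ¬ IsMulCommutative (⊤ : Subgroup G) := h ▸ hTc
    have hPH : (P : Subgroup G) = H := by
      rcases hmax.le_iff.1 hP with h1 | h1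
      · exfalso
        apply hnc
        have hp : IsPGroup q G := fun x => by
          obtain ⟨e, he⟩ := P.2 ⟨x, h1 ▸ Subgroup.mem_top x⟩
          exact ⟨e, congrArg Subtype.val he⟩
        haveI : Nontrivial G := IsSimpleGroup.toNontrivial
        have hz : Subgroup.center G = ⊤ := ((inferInstance : (Subgroup.center G).Normal).eq_bot_or_eq_top).resolve_left
          (bot_lt_iff_ne_bot.1 hp.bot_lt_center)
        refine ⟨⟨fun x y => Subtype.ext ?_⟩⟩
        have hy : (y : G) ∈ Subgroup.center G := hz.symm ▸ Subgroup.mem_top _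
        exact Subgroup.mem_center_iff.1 hy x
      · exact h1
    have hle : Subgroup.normalizer ((P : Subgroup G) : Set G) ≤ Subgroup.centralizer ((P : Subgroup G) : Set G) := by
      rw [hPH, hN]
      haveI := isCyclic_of_prime_card (α := H) hqdef.symm
      haveI : IsMulCommutative H := by infer_instance
      exact Subgroup.le_centralizer _
    have hc := MonoidHom.ker_transferSylow_isComplement' P hle
    rcases (MonoidHom.normal_ker (MonoidHom.transferSylow P hle)).eq_bot_or_eq_top with hk | hk
    · have := hc.sup_eq_top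
      rw [hk, bot_sup_eq, hPH] at this
      exact hmax.1 this
    · have := hc.disjoint
      rw [hk, top_disjoint, hPH] at this
      rw [hqdef, this, Subgroup.card_bot] at hq
      exact Nat.not_prime_one hq
  · have hTH : T ⊓ H = ⊥ := by
      haveI : Fact (Nat.card H).Prime := ⟨hq⟩
      rcases Subgroup.eq_bot_or_eq_top_of_prime_card (T.subgroupOf H) with h | h
      · rw [Subgroup.subgroupOf_eq_bot, disjoint_iff] at h
        exact h
      · exact absurd (Subgroup.subgroupOf_eq_top.1 h) hHT
    obtain ⟨y, hy⟩ := exists_prime_orderOf_dvd_card' (G := H) q hqdef.dvd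
    rw [← Subgroup.orderOf_coe] at hy
    have hzy : Subgroup.zpowers (y : G) = H := Subgroup.eq_of_le_of_card_ge (Subgroup.zpowers_le.2 y.2)
      (by rw [Nat.card_zpowers, hy])
    have hfix : ∀ t ∈ T, (y : G) * t = t * (y : G) → t = 1 := by
      intro t ht hc
      have : t ∈ Subgroup.normalizer (H : Set G) := by
        refine Subgroup.centralizer_le_normalizer _ (Subgroup.mem_centralizer_iff.2 ?_)
        intro w hw
        obtain ⟨i, rfl⟩ := Subgroup.mem_zpowers_iff.1 (hzy.ge hw)
        exact (Commute.zpow_left hc i).eq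
      rw [hN] at this
      exact Subgroup.mem_bot.1 (hTH ▸ Subgroup.mem_inf.2 ⟨ht, this⟩)
    have hHp : IsPGroup q H := IsPGroup.of_card (n := 1) (by rw [pow_one])
    letI : MulAction H T :=
      { smul := fun h t => ⟨(h : G) * t * (h : G)⁻¹, Subgroup.Normal.conj_mem inferInstance _ t.2 _⟩
        one_smul := fun t => Subtype.ext (show (1 : G) * t * (1 : G)⁻¹ = t by group)
        mul_smul := fun a b t => Subtype.ext (show ((a : G) * b) * t * ((a : G) * b)⁻¹ = a * (b * t * (b : G)⁻¹) * (a : G)⁻¹ by group) }
    have hcop : ¬ q ∣ Nat.card T := by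
      intro hd
      obtain ⟨b, hb, hb1⟩ := hHp.exists_fixed_point_of_prime_dvd_card_of_fixed_point T hd
        (a := 1) (fun h => Subtype.ext (show (h : G) * (1 : G) * (h : G)⁻¹ = 1 by group))
      apply hb1
      have := congrArg Subtype.val (hb y)
      exact (Subtype.ext (hfix b b.2 (mul_inv_eq_iff_eq_mul.1 this))).symm
    set r := (Nat.card T).minFac
    have hr : r.Prime := Nat.minFac_prime (Finite.one_lt_card_iff_nontrivial.2 (T.nontrivial_iff_ne_bot.2 hTb)).ne'
    haveI := Fact.mk hr
    obtain ⟨R₀⟩ : Nonempty (Sylow r T) := inferInstance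
    letI : MulAction H (Sylow r T) :=
      MulAction.compHom (Sylow r T) ((MulAut.conjNormal (H := T)).comp H.subtype)
    have hnr : ¬ q ∣ Nat.card (Sylow r T) := fun h => hcop (h.trans (R₀.card_dvd_index.trans (Subgroup.index_dvd_card _)))
    obtain ⟨R, hR⟩ := hHp.nonempty_fixed_point_of_prime_not_dvd_card (Sylow r T) hnr
    set R' := (R : Subgroup T).map T.subtype
    have hHR : H ≤ Subgroup.normalizer (R' : Set G) := by
      intro h hh
      have h1 : ((MulAut.conjNormal h : MulAut T) • R : Sylow r T) = R := hR ⟨h, hh⟩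
      have h2 : ∀ x ∈ R', h * x * h⁻¹ ∈ R' := by
        rintro _ ⟨x, hx, rfl⟩
        refine ⟨MulAut.conjNormal h x, ?_, MulAut.conjNormal_apply h x⟩
        rw [← h1]
        exact ⟨x, hx, rfl⟩
      rw [Subgroup.mem_normalizer_iff]
      intro x
      refine ⟨h2 x, fun hx => ?_⟩
      have heq : R'.map (MulAut.conj h).toMonoidHom = R' := Subgroup.eq_of_le_of_card_ge
        (by rintro _ ⟨z, hz, rfl⟩; exact h2 z hz) (le_of_eq (Subgroup.card_map_of_injective (MulEquiv.injective _)).symm)
      obtain ⟨z, hz, e⟩ := heq.ge hx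
      rwa [← (MulAut.conj h).injective e]
    have hRne : (R : Subgroup T) ≠ ⊥ := R.ne_bot_of_dvd_card (Nat.minFac_dvd _)
    rcases hmax.le_iff.1 hHR with h | h
    · have hn : R'.Normal := Subgroup.normalizer_eq_top_iff.1 h
      have hnT : (R : Subgroup T).Normal := by
        refine ⟨fun x hx t => ?_⟩
        obtain ⟨z, hz, e⟩ := hn.conj_mem _ (Subgroup.mem_map_of_mem T.subtype hx) t
        rwa [show t * x * t⁻¹ = z from Subtype.ext e.symm]
      rcases hT.eq_bot_or_eq_top_of_normal _ hnT with h' | h'
      · exact hRne h'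
      · apply hTc
        have hp : IsPGroup r T := fun x => by
          obtain ⟨e, he⟩ := R.2 ⟨x, h' ▸ Subgroup.mem_top x⟩
          exact ⟨e, congrArg Subtype.val he⟩
        haveI : Nontrivial T := IsSimpleGroup.toNontrivial
        have hz : Subgroup.center T = ⊤ := ((inferInstance : (Subgroup.center T).Normal).eq_bot_or_eq_top).resolve_left
          (bot_lt_iff_ne_bot.1 hp.bot_lt_center)
        exact ⟨⟨fun x z => Subgroup.mem_center_iff.1 (hz ▸ Subgroup.mem_top z) x⟩⟩
    · have hRle : R' ≤ H := Subgroup.le_normalizer.trans h.le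
      apply hRne
      rw [← Subgroup.map_eq_bot_iff_of_injective _ T.subtype_injective, eq_bot_iff, ← hTH]
      exact le_inf (Subgroup.map_subtype_le _) hRle

end Cfsg.Agent.S3498
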