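import Cfsg.Statements.S3504
-- import your own Cfsg.Agent.* helpers here

set_option autoImplicit false
open Cfsg

namespace Cfsg.Agent.S3504

/-- For n ≥ 5, the fixed-point-free permutations of prime order in the symmetric group of degree n form a single conjugacy class if and only if n is a prime power. -/
theorem result (n : ℕ) (hn : 5 ≤ n) :
    Nat.card {c : ConjClasses (Equiv.Perm (Fin n)) // ∃ g : Equiv.Perm (Fin n), ConjClasses.mk g = c ∧ (orderOf g).Prime ∧ ∀ i : Fin n, g i ≠ i} = 1 ↔ IsPrimePow n := by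
  classical
  have hex : ∀ p ∈ n.primeFactors, ∃ g : Equiv.Perm (Fin n),
      g.cycleType = Multiset.replicate (n / p) p := by
    intro p hp
    rw [Nat.mem_primeFactors] at hp
    refine (Equiv.Perm.exists_with_cycleType_iff _).mpr ⟨?_, fun a ha => ?_⟩
    · rw [Multiset.sum_replicate, smul_eq_mul, Nat.div_mul_cancel hp.2.1, Fintype.card_fin]
    · rw [Multiset.eq_of_mem_replicate ha]
      exact hp.1.two_le
  choose g hg using hex
  have hord : ∀ p (hp : p ∈ n.primeFactors), orderOf (g p hp) = p ∧ ∀ i, g p hp i ≠ i := by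
    intro p hp
    have hp' := Nat.mem_primeFactors.mp hp
    have hpos : n / p ≠ 0 := (Nat.div_pos (Nat.le_of_dvd (by omega) hp'.2.1) hp'.1.pos).ne'
    constructor
    · rw [← Equiv.Perm.lcm_cycleType, hg]
      refine Nat.dvd_antisymm (Multiset.lcm_dvd.mpr fun a ha => (Multiset.eq_of_mem_replicate ha).dvd) ?_
      exact Multiset.dvd_lcm (Multiset.mem_replicate.mpr ⟨hpos, rfl⟩)
    · have h : (g p hp).support = Finset.univ := by
        refine Finset.eq_univ_of_card _ ?_
        rw [← Equiv.Perm.sum_cycleType, hg, Multiset.sum_replicate, smul_eq_mul, Nat.div_mul_cancel hp'.2.1,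
          Fintype.card_fin]
      exact fun i => Equiv.Perm.mem_support.mp (h ▸ Finset.mem_univ i)
  have key : Nat.card {c : ConjClasses (Equiv.Perm (Fin n)) // ∃ g : Equiv.Perm (Fin n),
      ConjClasses.mk g = c ∧ (orderOf g).Prime ∧ ∀ i : Fin n, g i ≠ i} = n.primeFactors.card := by
    rw [← Nat.card_eq_finsetCard]
    symm
    refine Nat.card_eq_of_bijective (fun p : {x // x ∈ n.primeFactors} => ⟨ConjClasses.mk (g p.1 p.2), g p.1 p.2, rfl,
      by rw [(hord p.1 p.2).1]; exact (Nat.mem_primeFactors.mp p.2).1, (hord p.1 p.2).2⟩) ⟨?_, ?_⟩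
    · rintro ⟨p, hp⟩ ⟨p', hp'⟩ h
      have h1 := ConjClasses.mk_eq_mk_iff_isConj.mp (congrArg Subtype.val h)
      rw [Equiv.Perm.isConj_iff_cycleType_eq] at h1
      refine Subtype.ext ?_
      show p = p'
      calc p = (g p hp).cycleType.lcm := by rw [Equiv.Perm.lcm_cycleType, (hord p hp).1]
        _ = (g p' hp').cycleType.lcm := congrArg Multiset.lcm h1
        _ = p' := by rw [Equiv.Perm.lcm_cycleType, (hord p' hp').1]
    · rintro ⟨c, σ, rfl, hprime, hfpf⟩
      obtain ⟨k, hk⟩ := Equiv.Perm.cycleType_prime_order hprime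
      have hsum : (k + 1) * orderOf σ = n := by
        have h1 := Equiv.Perm.sum_cycleType σ
        rw [hk, Multiset.sum_replicate, smul_eq_mul] at h1
        rw [h1, Finset.eq_univ_of_forall (fun i => Equiv.Perm.mem_support.mpr (hfpf i)), Finset.card_univ,
          Fintype.card_fin]
      have hm : orderOf σ ∈ n.primeFactors :=
        Nat.mem_primeFactors.mpr ⟨hprime, ⟨k + 1, by rw [mul_comm]; exact hsum.symm⟩, by omega⟩
      refine ⟨⟨orderOf σ, hm⟩, Subtype.ext (ConjClasses.mk_eq_mk_iff_isConj.mpr ?_)⟩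
      rw [Equiv.Perm.isConj_iff_cycleType_eq, hg, hk, Nat.div_eq_of_eq_mul_left hprime.pos hsum.symm]
  rw [key, isPrimePow_iff_card_primeFactors_eq_one]

end Cfsg.Agent.S3504
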