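import Cfsg.Statements.S3508
-- import your own Cfsg.Agent.* helpers here

set_option autoImplicit false
open Cfsg

namespace Cfsg.Agent.S3508

theorem small_exponent {p m : ℕ} (hp : 2 ≤ p) (h : p ^ (m - 1) ≤ m) : m ≤ 2 ∧ (2 < p → m ≤ 1) := by
  rcases Nat.lt_or_ge m 3 with hm | hm
  · refine ⟨by omega, fun hp3 => ?_⟩
    by_contra hne
    obtain rfl : m = 2 := by omega
    norm_num at h
    omega
  · exfalso
    obtain ⟨k, rfl⟩ : ∃ k, m = k + 3 := ⟨m - 3, by omega⟩
    have h1 : 2 ^ (k + 2) ≤ p ^ (k + 2) := Nat.pow_le_pow_left hp _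
    have h2 : k + 3 < 2 ^ (k + 2) := by
      have h3 : k + 1 ≤ 2 ^ k := Nat.lt_two_pow_self
      rw [pow_add]
      norm_num
      omega
    rw [show k + 3 - 1 = k + 2 by omega] at h
    omega

/-- The iterates of an affine map. -/
theorem affine_iter {R V : Type*} [Ring R] [AddCommGroup V] [Module R V] (A : V →ₗ[R] V) (b : V)
    (T : V → V) (hT : ∀ x, T x = A x + b) (k : ℕ) (x : V) :
    T^[k] x = (A ^ k) x + (∑ i ∈ Finset.range k, A ^ i) b := by
  induction k with
  | zero => simp
  | succ k ih =>
    rw [Function.iterate_succ_apply', ih, hT, Finset.sum_range_succ', map_add, pow_succ', Module.End.mul_apply,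
      LinearMap.add_apply, pow_zero, Module.End.one_apply, ← add_assoc]
    congr 2
    simp only [LinearMap.sum_apply, map_sum, pow_succ', Module.End.mul_apply]

/-- A unipotent affine map of a small space has small period. -/
theorem iterate_eq_self {V : Type*} [AddCommGroup V] [Finite V] {p m r j : ℕ} [hp : Fact p.Prime]
    [Module (ZMod p) V] (hc : Nat.card V = p ^ m) (φ : V →+ V) (b : V)
    (hper : ∀ x, φ^[p ^ r] x = x) (hj : m < p ^ j) : ∀ x, (fun x => φ x + b)^[p ^ j] x = x := by
  haveI : Module.Finite (ZMod p) V := Module.Finite.of_finite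
  let A : V →ₗ[ZMod p] V := φ.toZModLinearMap p
  have hfin : Module.finrank (ZMod p) V = m := by
    refine Nat.pow_right_injective hp.out.two_le ?_
    show p ^ _ = p ^ m
    have h : Nat.card V = Nat.card (ZMod p) ^ Module.finrank (ZMod p) V := Module.natCard_eq_pow_finrank
    rw [← hc, h, Nat.card_zmod]
  intro x
  by_cases hV0 : Subsingleton V
  · exact Subsingleton.elim _ _
  haveI : Nontrivial V := not_subsingleton_iff_nontrivial.mp hV0
  haveI : CharP (Module.End (ZMod p) V) p :=
    charP_of_injective_algebraMap (algebraMap (ZMod p) (Module.End (ZMod p) V)).injective p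
  have hnil : IsNilpotent (A - 1 : Module.End (ZMod p) V) := by
    refine ⟨p ^ r, ?_⟩
    rw [sub_pow_char_pow_of_commute (p := p) (n := r) (Commute.one_right (A : Module.End (ZMod p) V)), one_pow, sub_eq_zero]
    refine LinearMap.ext fun y => ?_
    rw [Module.End.pow_apply, Module.End.one_apply]
    exact hper y
  have hzero : (A - 1 : Module.End (ZMod p) V) ^ m = 0 := by
    have h := (A - 1 : Module.End (ZMod p) V).aeval_self_charpoly
    rw [IsNilpotent.charpoly_eq_X_pow_finrank hnil, hfin, map_pow, Polynomial.aeval_X] at h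
    exact h
  set k := p ^ j with hk
  have h1 : (A : Module.End (ZMod p) V) ^ k = 1 := by
    have h := sub_pow_char_pow_of_commute (p := p) (n := j) (Commute.one_right (A : Module.End (ZMod p) V))
    rw [← hk, one_pow, pow_eq_zero_of_le hj.le hzero] at h
    exact sub_eq_zero.mp h.symm
  have h2 : ∑ i ∈ Finset.range k, (A : Module.End (ZMod p) V) ^ i = 0 := by
    have hpoly : (∑ i ∈ Finset.range k, (Polynomial.X : Polynomial (ZMod p)) ^ i) =
        (Polynomial.X - 1) ^ (k - 1) := by
      refine mul_right_cancel₀ (b := (Polynomial.X - 1 : Polynomial (ZMod p)))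
        (by rw [← Polynomial.C_1]; exact Polynomial.X_sub_C_ne_zero 1) ?_
      rw [geom_sum_mul, ← pow_succ, Nat.sub_add_cancel (Nat.one_le_iff_ne_zero.mpr (by omega)), hk,
        sub_pow_char_pow, one_pow]
    have h := congrArg (Polynomial.aeval (A : Module.End (ZMod p) V)) hpoly
    simp only [map_sum, map_pow, map_sub, Polynomial.aeval_X, map_one] at h
    rw [h, pow_eq_zero_of_le (by omega) hzero]
  rw [affine_iter A b (fun x => φ x + b) (fun _ => rfl), h1, h2, Module.End.one_apply, LinearMap.zero_apply,
    add_zero]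

/-- Let a finite group G act faithfully on a set Ω with p ^ m points (p prime) and have an elementary abelian normal p-subgroup N acting regularly on Ω (so G is a group of affine transformations of an m-dimensional space over the field with p elements). If G contains an element of order p ^ r with r ≥ 1, then p ^ (r − 1) ≤ m. In particular an element of order p ^ m forces m ≤ 2, and m ≤ 1 when p is odd. -/
theorem result {G : Type*} [Group G] [Finite G] {Ω : Type*} [Fintype Ω] [MulAction G Ω] [FaithfulSMul G Ω] (p m : ℕ) (hp : p.Prime) (hcard : Fintype.card Ω = p ^ m)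
    (N : Subgroup G) [N.Normal] (hNc : IsMulCommutative N) (hNp : ∀ n ∈ N, n ^ p = 1)
    (hNtr : MulAction.IsPretransitive N Ω) (hNreg : ∀ ω : Ω, MulAction.stabilizer N ω = ⊥)
    (g : G) (r : ℕ) (hr : 1 ≤ r) (hg : orderOf g = p ^ r) :
    p ^ (r - 1) ≤ m ∧ (r = m → m ≤ 2 ∧ (2 < p → m ≤ 1)) := by
  classical
  haveI := Fact.mk hp
  have key : p ^ (r - 1) ≤ m := by
    by_contra hlt
    push Not at hlt
    obtain ⟨α⟩ : Nonempty Ω := Fintype.card_pos_iff.mp (hcard ▸ pow_pos hp.pos m)
    haveI : IsMulCommutative N := hNc
    letI : CommGroup N := { (inferInstance : Group N) with mul_comm := fun a b => IsMulCommutative.is_comm.comm a b }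
    let φ : Additive N →+ Additive N := MonoidHom.toAdditive (MulAut.conjNormal g : MulAut N).toMonoidHom
    let e : Additive N → Ω := fun x => (x.toMul : G) • α
    have he : Function.Bijective e := by
      refine ⟨fun x y hxy => ?_, fun ω => ?_⟩
      · have h : x.toMul⁻¹ * y.toMul ∈ MulAction.stabilizer N α := by
          show ((x.toMul⁻¹ * y.toMul : N) : G) • α = α
          rw [Subgroup.coe_mul, Subgroup.coe_inv, mul_smul, inv_smul_eq_iff]
          exact hxy.symm
        rw [hNreg, Subgroup.mem_bot, inv_mul_eq_one] at h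
        exact Additive.toMul.injective h
      · obtain ⟨x, hx⟩ := hNtr.exists_smul_eq α ω
        exact ⟨Additive.ofMul x, hx⟩
    obtain ⟨b, hb⟩ := he.2 (g • α)
    have hφ : ∀ x : Additive N, ((φ x).toMul : G) = g * (x.toMul : G) * g⁻¹ := fun x => rfl
    have hTe : ∀ x, e (φ x + b) = g • e x := by
      intro x
      show (((φ x).toMul * b.toMul : N) : G) • α = g • ((x.toMul : G) • α)
      rw [Subgroup.coe_mul, hφ, mul_smul, show (b.toMul : G) • α = g • α from hb, ← mul_smul, ← mul_smul,
        inv_mul_cancel_right]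
    have hTek : ∀ k x, e ((fun x => φ x + b)^[k] x) = g ^ k • e x := by
      intro k
      induction k with
      | zero => simp
      | succ k ih =>
        intro x
        rw [Function.iterate_succ_apply', hTe, ih, pow_succ', mul_smul]
    have hpow : ∀ k : ℕ, ∀ y : Additive N, ((φ^[k] y).toMul : G) = g ^ k * (y.toMul : G) * (g ^ k)⁻¹ := by
      intro k
      induction k with
      | zero => simp
      | succ k ih =>
        intro y
        rw [Function.iterate_succ_apply', hφ, ih, pow_succ' g, mul_inv_rev]
        group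
    have hper : ∀ y, φ^[p ^ r] y = y := by
      intro y
      refine Additive.toMul.injective (Subtype.ext ?_)
      rw [hpow, ← hg, pow_orderOf_eq_one, inv_one, one_mul, mul_one]
    have hcN : Nat.card (Additive N) = p ^ m := by
      rw [Nat.card_eq_of_bijective e he, Nat.card_eq_fintype_card, hcard]
    letI : Module (ZMod p) (Additive N) := AddCommGroup.zmodModule fun x =>
      Additive.toMul.injective (Subtype.ext (hNp _ x.toMul.2))
    have hit := iterate_eq_self (V := Additive N) (p := p) (j := r - 1) hcN φ b hper hlt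
    have hgk : g ^ p ^ (r - 1) = 1 := by
      refine eq_of_smul_eq_smul (α := Ω) fun ω => ?_
      obtain ⟨x, rfl⟩ := he.2 ω
      rw [← hTek, hit, one_smul]
    have h3 := Nat.le_of_dvd (pow_pos hp.pos _) (orderOf_dvd_of_pow_eq_one hgk)
    rw [hg] at h3
    have := (Nat.pow_le_pow_iff_right hp.one_lt).mp h3
    omega
  exact ⟨key, fun hrm => small_exponent hp.two_le (hrm ▸ key)⟩

end Cfsg.Agent.S3508
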