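import Cfsg.Statements.S3511
import Mathlib

set_option autoImplicit false
open Cfsg

namespace Cfsg.Agent.S3511

/-- Let a finite group G act faithfully on a set Ω. If every element of G of square-free order has a regular cycle (an orbit of the cyclic group it generates with trivial stabilizer), then every element of G has a regular cycle. -/
theorem result {G : Type*} [Group G] [Finite G] {Ω : Type*} [MulAction G Ω] [FaithfulSMul G Ω]
    (h : ∀ g : G, Squarefree (orderOf g) → ∃ ω : Ω, MulAction.stabilizer (Subgroup.zpowers g) ω = ⊥) (g : G) :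
    ∃ ω : Ω, MulAction.stabilizer (Subgroup.zpowers g) ω = ⊥ := by
  classical
  set n := orderOf g with hn
  have hn0 : n ≠ 0 := (orderOf_pos g).ne'
  set r := ∏ q ∈ n.primeFactors, q with hr
  have hrd : r ∣ n := Nat.prod_primeFactors_dvd n
  have hr0 : 0 < r := Nat.pos_of_dvd_of_pos hrd (orderOf_pos g)
  have hh : orderOf (g ^ (n / r)) = r := by
    rw [orderOf_pow, ← hn, Nat.gcd_eq_right (Nat.div_dvd_of_dvd hrd), Nat.div_div_self hrd hn0]
  obtain ⟨ω, hω⟩ := h (g ^ (n / r)) (by
    rw [hh, hr]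
    exact Finset.squarefree_prod_of_pairwise_isCoprime (fun a ha b hb hab => by
      rw [Function.onFun, ← Nat.coprime_iff_isRelPrime]
      exact (Nat.coprime_primes (Nat.prime_of_mem_primeFactors ha) (Nat.prime_of_mem_primeFactors hb)).2 hab)
      fun a ha => (Nat.prime_of_mem_primeFactors ha).squarefree)
  refine ⟨ω, ?_⟩
  by_contra hne
  set S := MulAction.stabilizer (Subgroup.zpowers g) ω with hS
  set q := (Nat.card S).minFac
  have hq : q.Prime := Nat.minFac_prime (fun h1 => hne (Subgroup.card_eq_one.1 h1))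
  haveI := Fact.mk hq
  obtain ⟨s, hs⟩ := exists_prime_orderOf_dvd_card' q (Nat.minFac_dvd (Nat.card S))
  rw [← Subgroup.orderOf_coe, ← Subgroup.orderOf_coe] at hs
  have hsfix : ((s : Subgroup.zpowers g) : G) • ω = ω := s.2
  obtain ⟨k, hk⟩ := Subgroup.mem_zpowers_iff.1 (s : Subgroup.zpowers g).2
  have hqn : q ∣ n := by rw [hn, ← hs, ← hk]; exact orderOf_dvd_of_pow_eq_one (by rw [← zpow_natCast, ← zpow_mul, mul_comm, zpow_mul, zpow_natCast, pow_orderOf_eq_one, one_zpow])
  have hqr : q ∣ r := Finset.dvd_prod_of_mem _ (Nat.mem_primeFactors.2 ⟨hq, hqn, hn0⟩)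
  -- `s` is a power of `g ^ (n / r)`
  have hmem : ((s : Subgroup.zpowers g) : G) ∈ Subgroup.zpowers (g ^ (n / r)) := by
    have h1 : (((s : Subgroup.zpowers g) : G)) ^ r = 1 := by
      rw [← orderOf_dvd_iff_pow_eq_one, hs]; exact hqr
    rw [← hk, ← zpow_natCast, ← zpow_mul, ← orderOf_dvd_iff_zpow_eq_one, ← hn] at h1
    have h2 : ((n / r : ℕ) : ℤ) * (r : ℤ) ∣ k * (r : ℤ) := by
      rwa [← Nat.cast_mul, Nat.div_mul_cancel hrd]
    obtain ⟨j, rfl⟩ := (Int.mul_dvd_mul_iff_right (by exact_mod_cast hr0.ne')).1 h2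
    exact ⟨j, by simp only; rw [← hk, zpow_mul, zpow_natCast]⟩
  have h3 : (⟨_, hmem⟩ : Subgroup.zpowers (g ^ (n / r))) ∈ MulAction.stabilizer (Subgroup.zpowers (g ^ (n / r))) ω := hsfix
  rw [hω, Subgroup.mem_bot] at h3
  have h4 : ((s : Subgroup.zpowers g) : G) = 1 := congrArg Subtype.val h3
  rw [h4, orderOf_one] at hs
  exact hq.one_lt.ne hs

end Cfsg.Agent.S3511
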