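import Cfsg.Statements.S3514
-- import your own Cfsg.Agent.* helpers here

set_option autoImplicit false
open Cfsg

namespace Cfsg.Agent.S3514

theorem dvd_index_of_normal {W : Type*} [Group W] [Finite W] (S K : Subgroup W) [K.Normal] :
    S.relIndex K ∣ S.index := by
  have hS : S.relIndex (K ⊔ S) * (K ⊔ S).index = S.index := Subgroup.relIndex_mul_index le_sup_right
  have h1 : (K ⊓ S).relIndex S * S.relIndex (K ⊔ S) = (K ⊓ S).relIndex (K ⊔ S) :=
    Subgroup.relIndex_mul_relIndex _ _ _ inf_le_right le_sup_right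
  have h2 : (K ⊓ S).relIndex K * K.relIndex (K ⊔ S) = (K ⊓ S).relIndex (K ⊔ S) :=
    Subgroup.relIndex_mul_relIndex _ _ _ inf_le_left le_sup_left
  have e1 : (K ⊓ S).relIndex S = K.relIndex S := Subgroup.inf_relIndex_right K S
  have e2 : (K ⊓ S).relIndex K = S.relIndex K := by rw [inf_comm]; exact Subgroup.inf_relIndex_right S K
  have e3 : K.relIndex (K ⊔ S) = K.relIndex S := by rw [sup_comm]; exact Subgroup.relIndex_sup_right S K
  rw [e1] at h1
  rw [e2, e3] at h2
  have h3 : S.relIndex K = S.relIndex (K ⊔ S) := by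
    refine Nat.eq_of_mul_eq_mul_right (Nat.pos_of_ne_zero (Subgroup.FiniteIndex.index_ne_zero (H := K.subgroupOf S))) ?_
    show _ * K.relIndex S = _ * K.relIndex S
    rw [h2, ← h1, mul_comm]
  exact ⟨_, by rw [h3, hS]⟩

theorem prime_not_dvd_index {W : Type*} [Group W] [Finite W] {p : ℕ} (hp : p.Prime) (S N H : Subgroup W) [N.Normal]
    (htop : N ⊔ H = ⊤) (hN : ¬ p ∣ Nat.card N) (hS : ¬ p ∣ S.relIndex H) : ¬ p ∣ S.index := by
  intro hd
  have h1 : (S ⊓ H).index = S.relIndex H * H.index := by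
    rw [← Subgroup.relIndex_mul_index (inf_le_right : S ⊓ H ≤ H), Subgroup.inf_relIndex_right]
  have h2 : p ∣ (S ⊓ H).index := hd.trans (Subgroup.index_dvd_of_le inf_le_left)
  rw [h1] at h2
  have h3 : p ∣ H.index := (hp.dvd_mul.mp h2).resolve_left hS
  refine hN (h3.trans ⟨Nat.card (N ⊓ H : Subgroup W), ?_⟩)
  have e1 : N.index = N.relIndex H := by
    rw [← Subgroup.relIndex_top_right, ← htop, sup_comm, Subgroup.relIndex_sup_right]
  have e2 : Nat.card (N ⊓ H : Subgroup W) * N.relIndex H = Nat.card H := by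
    rw [← Subgroup.inf_relIndex_right N H, ← Subgroup.relIndex_bot_left, ← Subgroup.relIndex_bot_left]
    exact Subgroup.relIndex_mul_relIndex _ _ _ bot_le inf_le_right
  refine Nat.eq_of_mul_eq_mul_right (Nat.pos_of_ne_zero (Subgroup.FiniteIndex.index_ne_zero (H := N))) ?_
  rw [Subgroup.card_mul_index, mul_assoc, e1, e2, mul_comm, Subgroup.card_mul_index]

theorem card_orbit_eq {p : ℕ} {V : Type*} [AddCommGroup V] [Module (ZMod p) V]
    (W : Subgroup (V ≃ₗ[ZMod p] V)) (v : V) :
    Nat.card {u : V | ∃ x ∈ W, x v = u} = (MulAction.stabilizer (V ≃ₗ[ZMod p] V) v).relIndex W := by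
  have h : {u : V | ∃ x ∈ W, x v = u} = MulAction.orbit W v := by
    ext u
    constructor
    · rintro ⟨x, hx, rfl⟩
      exact ⟨⟨x, hx⟩, rfl⟩
    · rintro ⟨⟨x, hx⟩, rfl⟩
      exact ⟨x, hx, rfl⟩
  rw [h, Nat.card_coe_set_eq, ← MulAction.index_stabilizer]
  rfl

/-- Let p be a prime, V a finite vector space over the field with p elements, and H a group of linear transformations of V all of whose orbits on V have size coprime to p. (i) Every normal subgroup K of H has all its orbits on V of size coprime to p. (ii) If N is a group of linear transformations of V of order coprime to p that is normalized by H, then the group generated by N and H has all its orbits on V of size coprime to p. -/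
theorem result (p : ℕ) [Fact p.Prime] {V : Type*} [AddCommGroup V] [Module (ZMod p) V] [Finite V]
    (H : Subgroup (V ≃ₗ[ZMod p] V)) (hH : ∀ v : V, ¬ p ∣ Nat.card {u : V | ∃ h ∈ H, h v = u}) :
    (∀ K : Subgroup (V ≃ₗ[ZMod p] V), K ≤ H → H ≤ Subgroup.normalizer (K : Set (V ≃ₗ[ZMod p] V)) →
        ∀ v : V, ¬ p ∣ Nat.card {u : V | ∃ k ∈ K, k v = u}) ∧
    (∀ N : Subgroup (V ≃ₗ[ZMod p] V), ¬ p ∣ Nat.card N → H ≤ Subgroup.normalizer (N : Set (V ≃ₗ[ZMod p] V)) →
        ∀ v : V, ¬ p ∣ Nat.card {u : V | ∃ x ∈ N ⊔ H, x v = u}) := by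
  classical
  haveI : Finite (V ≃ₗ[ZMod p] V) := Finite.of_injective (fun e => (e : V → V)) DFunLike.coe_injective
  refine ⟨fun K hKH hKn v hd => hH v ?_, fun N hN hHN v hd => ?_⟩
  · rw [card_orbit_eq] at hd ⊢
    refine hd.trans ?_
    rw [← Subgroup.relIndex_subgroupOf hKH]
    haveI := (Subgroup.normal_subgroupOf_iff_le_normalizer hKH).mpr hKn
    exact dvd_index_of_normal _ _
  · rw [card_orbit_eq] at hd
    haveI : (N.subgroupOf (N ⊔ H)).Normal :=
      (Subgroup.normal_subgroupOf_iff_le_normalizer le_sup_left).mpr (sup_le Subgroup.le_normalizer hHN)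
    refine prime_not_dvd_index (Fact.out : p.Prime) _ (N.subgroupOf (N ⊔ H)) (H.subgroupOf (N ⊔ H))
      ?_ ?_ ?_ hd
    · rw [← Subgroup.subgroupOf_sup le_sup_left le_sup_right, Subgroup.subgroupOf_self]
    · rw [Nat.card_congr (Subgroup.subgroupOfEquivOfLe (le_sup_left : N ≤ N ⊔ H)).toEquiv]
      exact hN
    · rw [Subgroup.relIndex_subgroupOf le_sup_right, ← card_orbit_eq]
      exact hH v

end Cfsg.Agent.S3514
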