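import Cfsg.Statements.S3515
-- import your own Cfsg.Agent.* helpers here

set_option autoImplicit false
open Cfsg

namespace Cfsg.Agent.S3515

theorem four_points (f : Equiv.Perm (Fin 2 → ZMod 2)) (e0 : f 0 = 0)
    (e1 : f (Pi.single 0 1) = Pi.single 0 1) (e2 : f (Pi.single 1 1) = Pi.single 1 1) (v : Fin 2 → ZMod 2) :
    f v = v := by
  have key : ∀ w : Fin 2 → ZMod 2, w = 0 ∨ w = Pi.single 0 1 ∨ w = Pi.single 1 1 ∨ w = ![1, 1] := by decide
  rcases key v with rfl | rfl | rfl | rfl
  · exact e0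
  · exact e1
  · exact e2
  · rcases key (f ![1, 1]) with h | h | h | h
    · exact absurd (f.injective (h.trans e0.symm)) (by decide)
    · exact absurd (f.injective (h.trans e1.symm)) (by decide)
    · exact absurd (f.injective (h.trans e2.symm)) (by decide)
    · exact h

/-- Every primitive affine permutation group of degree p² is 3-closed. Let p be a prime and G a group of permutations of the plane V = F_p² consisting of affine maps x ↦ Ax + b, containing all translations, and acting primitively on V. Then any permutation σ of V that agrees on every triple of points with some element of G (σ preserves every G-orbit on ordered triples) already lies in G. -/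
theorem result (p : ℕ) [Fact p.Prime] (G : Subgroup (Equiv.Perm (Fin 2 → ZMod p)))
    (haff : (G : Set (Equiv.Perm (Fin 2 → ZMod p))) ⊆ {τ : Equiv.Perm (Fin 2 → ZMod p) | ∃ (A : (Fin 2 → ZMod p) ≃ₗ[ZMod p] (Fin 2 → ZMod p)) (b : Fin 2 → ZMod p), ∀ x, τ x = A x + b})
    (htrans : ∀ b : Fin 2 → ZMod p, ∃ g ∈ G, ∀ x, g x = x + b) (hprim : MulAction.IsPreprimitive G (Fin 2 → ZMod p))
    (σ : Equiv.Perm (Fin 2 → ZMod p)) (hσ : (∀ t : Fin 3 → (Fin 2 → ZMod p), ∃ g ∈ G, ∀ i, σ (t i) = g (t i))) : σ ∈ G := by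
  classical
  have hp' : p.Prime := Fact.out
  obtain ⟨g, hg, hgt⟩ := hσ ![0, Pi.single 0 1, Pi.single 1 1]
  suffices h : g⁻¹ * σ = 1 by rwa [← inv_mul_eq_one.mp h]
  let τ := g⁻¹ * σ
  have e0 : τ 0 = 0 := by
    show g⁻¹ (σ 0) = 0
    rw [show σ 0 = g 0 from hgt 0]; simp
  have e1 : τ (Pi.single 0 1) = Pi.single 0 1 := by
    show g⁻¹ (σ _) = _
    rw [show σ (Pi.single 0 1) = g (Pi.single 0 1) from hgt 1]; simp
  have e2 : τ (Pi.single 1 1) = Pi.single 1 1 := by
    show g⁻¹ (σ _) = _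
    rw [show σ (Pi.single 1 1) = g (Pi.single 1 1) from hgt 2]; simp
  have aff : ∀ (a b : Fin 2 → ZMod p) (s : ZMod p), τ (a + s • (b - a)) = τ a + s • (τ b - τ a) := by
    intro a b s
    obtain ⟨h, hh, hht⟩ := hσ ![a, b, a + s • (b - a)]
    obtain ⟨A, c, hA⟩ := haff (G.mul_mem (G.inv_mem hg) hh)
    have h0 : τ a = (g⁻¹ * h) a := congrArg (g⁻¹ : Equiv.Perm _) (hht 0)
    have h1 : τ b = (g⁻¹ * h) b := congrArg (g⁻¹ : Equiv.Perm _) (hht 1)
    have h2 : τ (a + s • (b - a)) = (g⁻¹ * h) (a + s • (b - a)) := congrArg (g⁻¹ : Equiv.Perm _) (hht 2)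
    rw [h0, h1, h2, hA, hA, hA, map_add, map_smul, map_sub, add_sub_add_right_eq_sub, add_right_comm]
  have axis : ∀ (i : Fin 2) (s : ZMod p), τ (Pi.single i s) = Pi.single i s := by
    intro i s
    have h := aff 0 (Pi.single i 1) s
    rw [zero_add, sub_zero, e0, zero_add, sub_zero, ← Pi.single_smul', smul_eq_mul, mul_one] at h
    rw [h]
    fin_cases i
    · refine (congrArg (s • ·) e1).trans ?_
      show s • Pi.single (0 : Fin 2) (1 : ZMod p) = Pi.single (0 : Fin 2) s
      rw [← Pi.single_smul', smul_eq_mul, mul_one]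
    · refine (congrArg (s • ·) e2).trans ?_
      show s • Pi.single (1 : Fin 2) (1 : ZMod p) = Pi.single (1 : Fin 2) s
      rw [← Pi.single_smul', smul_eq_mul, mul_one]
  show τ = 1
  refine Equiv.ext fun v => ?_
  rw [Equiv.Perm.one_apply]
  rcases eq_or_ne p 2 with rfl | hp2
  · exact four_points τ e0 e1 e2 v
  · have h2 : (2 : ZMod p) ≠ 0 := by
      intro h
      have : ((2 : ℕ) : ZMod p) = 0 := by exact_mod_cast h
      rw [ZMod.natCast_eq_zero_iff] at this
      exact hp2 ((Nat.prime_dvd_prime_iff_eq hp' Nat.prime_two).mp this)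
    have h := aff (Pi.single 0 (2 * v 0)) (Pi.single 1 (2 * v 1)) 2⁻¹
    rw [axis, axis] at h
    have e : Pi.single (0 : Fin 2) (2 * v 0) + (2 : ZMod p)⁻¹ •
        (Pi.single (1 : Fin 2) (2 * v 1) - Pi.single (0 : Fin 2) (2 * v 0)) = v := by
      funext i
      fin_cases i <;> simp <;> field_simp <;> ring
    rwa [e] at h

end Cfsg.Agent.S3515
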