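import Cfsg.Statements.S3516
-- import your own Cfsg.Agent.* helpers here

set_option autoImplicit false
open Cfsg
open scoped Matrix

namespace Cfsg.Agent.S3516

/-- Let p be an odd prime, d ≥ 3, and G a group of affine permutations x ↦ Ax + b of V = F_p^d containing all translations and all maps x ↦ Ax with A of determinant 1. Then the 3-closure of G is the full affine group: a permutation σ of V agrees on every triple of points with some element of G if and only if σ is an affine map. -/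
theorem result (p : ℕ) [Fact p.Prime] (hp : p ≠ 2) (d : ℕ) (hd : 3 ≤ d) (G : Subgroup (Equiv.Perm (Fin d → ZMod p)))
    (haff : (G : Set (Equiv.Perm (Fin d → ZMod p))) ⊆ {τ : Equiv.Perm (Fin d → ZMod p) | ∃ (A : (Fin d → ZMod p) ≃ₗ[ZMod p] (Fin d → ZMod p)) (b : Fin d → ZMod p), ∀ x, τ x = A x + b})
    (htrans : ∀ b : Fin d → ZMod p, ∃ g ∈ G, ∀ x, g x = x + b)
    (hsl : ∀ A : (Fin d → ZMod p) ≃ₗ[ZMod p] (Fin d → ZMod p), LinearMap.det (A : (Fin d → ZMod p) →ₗ[ZMod p] (Fin d → ZMod p)) = 1 → ∃ g ∈ G, ∀ x, g x = A x)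
    (σ : Equiv.Perm (Fin d → ZMod p)) :
    (∀ t : Fin 3 → (Fin d → ZMod p), ∃ g ∈ G, ∀ i, σ (t i) = g (t i)) ↔ σ ∈ {τ : Equiv.Perm (Fin d → ZMod p) | ∃ (A : (Fin d → ZMod p) ≃ₗ[ZMod p] (Fin d → ZMod p)) (b : Fin d → ZMod p), ∀ x, τ x = A x + b} := by
  classical
  constructor
  · intro hσ
    have aff : ∀ (a b : Fin d → ZMod p) (s : ZMod p), σ (a + s • (b - a)) = σ a + s • (σ b - σ a) := by
      intro a b s
      obtain ⟨g, hg, hgt⟩ := hσ ![a, b, a + s • (b - a)]
      obtain ⟨A, c, hA⟩ := haff hg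
      have h0 : σ a = g a := hgt 0
      have h1 : σ b = g b := hgt 1
      have h2 : σ (a + s • (b - a)) = g (a + s • (b - a)) := hgt 2
      rw [h0, h1, h2, hA, hA, hA, map_add, map_smul, map_sub, add_sub_add_right_eq_sub, add_right_comm]
    have h2 : (2 : ZMod p) ≠ 0 := by
      intro h
      have : ((2 : ℕ) : ZMod p) = 0 := by exact_mod_cast h
      rw [ZMod.natCast_eq_zero_iff] at this
      exact hp ((Nat.prime_dvd_prime_iff_eq Fact.out Nat.prime_two).mp this)
    have hsmul : ∀ (s : ZMod p) x, σ (s • x) - σ 0 = s • (σ x - σ 0) := by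
      intro s x
      have h := aff 0 x s
      rw [zero_add, sub_zero] at h
      rw [h, add_sub_cancel_left]
    have hadd : ∀ x y, σ (x + y) - σ 0 = (σ x - σ 0) + (σ y - σ 0) := by
      intro x y
      have h := aff ((2 : ZMod p) • x) ((2 : ZMod p) • y) (2⁻¹)
      rw [show (2 : ZMod p) • x + (2 : ZMod p)⁻¹ • ((2 : ZMod p) • y - (2 : ZMod p) • x) = x + y by
        rw [← smul_sub, inv_smul_smul₀ h2, two_smul]; abel] at h
      rw [h, eq_add_of_sub_eq (hsmul 2 x), eq_add_of_sub_eq (hsmul 2 y), add_sub_add_right_eq_sub,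
        ← smul_sub, inv_smul_smul₀ h2, two_smul]
      abel
    let T : (Fin d → ZMod p) →ₗ[ZMod p] (Fin d → ZMod p) :=
      { toFun := fun x => σ x - σ 0, map_add' := hadd, map_smul' := hsmul }
    have hT : Function.Injective T := fun x y h => σ.injective (sub_left_inj.mp (show σ x - σ 0 = σ y - σ 0 from h))
    exact ⟨LinearEquiv.ofBijective T ⟨hT, LinearMap.injective_iff_surjective.mp hT⟩, σ 0, fun x =>
      (sub_add_cancel (σ x) (σ 0)).symm⟩
  · rintro ⟨A, b, hA⟩ t
    -- a functional killing the two difference vectors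
    let L : (Fin d → ZMod p) →ₗ[ZMod p] (ZMod p × ZMod p) :=
      { toFun := fun f => (f ⬝ᵥ (t 1 - t 0), f ⬝ᵥ (t 2 - t 0))
        map_add' := fun f g => Prod.ext (add_dotProduct f g _) (add_dotProduct f g _)
        map_smul' := fun s f => Prod.ext (smul_dotProduct s f _) (smul_dotProduct s f _) }
    obtain ⟨f, hf, hf0⟩ : ∃ f, L f = 0 ∧ f ≠ 0 := by
      by_contra hcon
      push_neg at hcon
      have h := LinearMap.finrank_le_finrank_of_injective ((injective_iff_map_eq_zero L).mpr hcon)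
      rw [Module.finrank_fin_fun, Module.finrank_prod, Module.finrank_self] at h
      omega
    obtain ⟨i, hi⟩ := Function.ne_iff.mp hf0
    let A₀ : Matrix (Fin d) (Fin d) (ZMod p) := LinearMap.toMatrix' (A : (Fin d → ZMod p) →ₗ[ZMod p] _)
    have hdet : A₀.det ≠ 0 := by
      rw [LinearMap.det_toMatrix']
      exact A.isUnit_det'.ne_zero
    let z : Fin d → ZMod p := Pi.single i ((f i)⁻¹ * (A₀.det⁻¹ - 1))
    let M : Matrix (Fin d) (Fin d) (ZMod p) := A₀ * (1 + Matrix.replicateCol Unit z * Matrix.replicateRow Unit f)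
    have hfz : f ⬝ᵥ z = A₀.det⁻¹ - 1 := by
      rw [dotProduct_single, mul_inv_cancel_left₀ hi]
    have hMdet : M.det = 1 := by
      rw [Matrix.det_mul, Matrix.det_one_add_replicateCol_mul_replicateRow, hfz, add_sub_cancel, mul_inv_cancel₀ hdet]
    have hMu : ∀ u, f ⬝ᵥ u = 0 → M *ᵥ u = A u := by
      intro u hu
      have hz : (Matrix.replicateCol Unit z * Matrix.replicateRow Unit f) *ᵥ u = 0 := by
        rw [← Matrix.vecMulVec_eq, Matrix.vecMulVec_mulVec, hu]
        simp
      rw [← Matrix.mulVec_mulVec, Matrix.add_mulVec, Matrix.one_mulVec, hz, add_zero, LinearMap.toMatrix'_mulVec]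
      rfl
    let B := LinearMap.equivOfIsUnitDet (f := Matrix.toLin' M) (by rw [LinearMap.det_toLin', hMdet]; exact isUnit_one)
    obtain ⟨g₁, hg₁, hg₁'⟩ := hsl B (by rw [LinearMap.coe_equivOfIsUnitDet, LinearMap.det_toLin', hMdet])
    obtain ⟨g₂, hg₂, hg₂'⟩ := htrans (A (t 0) + b - M *ᵥ t 0)
    refine ⟨g₂ * g₁, G.mul_mem hg₂ hg₁, fun j => ?_⟩
    rw [Equiv.Perm.mul_apply, hg₂', hg₁', LinearMap.equivOfIsUnitDet_apply, Matrix.toLin'_apply, hA]
    have hj : M *ᵥ (t j - t 0) = A (t j - t 0) := by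
      apply hMu
      fin_cases j
      · simp
      · exact congrArg Prod.fst hf
      · exact congrArg Prod.snd hf
    rw [Matrix.mulVec_sub, map_sub] at hj
    linear_combination (norm := abel) -hj

end Cfsg.Agent.S3516
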