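import Cfsg.Statements.S3517
import Mathlib.LinearAlgebra.Dimension.Constructions
import Mathlib.LinearAlgebra.FiniteDimensional.Basic
import Mathlib.LinearAlgebra.Projection

set_option autoImplicit false
open Cfsg

namespace Cfsg.Agent.S3517

theorem exists_equiv {k V ι : Type*} [Field k] [AddCommGroup V] [Module k V] [FiniteDimensional k V]
    [Fintype ι] {v w : ι → V} (hv : LinearIndependent k v) (hw : LinearIndependent k w) :
    ∃ A : V ≃ₗ[k] V, ∀ i, A (v i) = w i := by
  obtain ⟨C, hC⟩ := (Submodule.span k (Set.range v)).exists_isCompl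
  obtain ⟨D, hD⟩ := (Submodule.span k (Set.range w)).exists_isCompl
  let e₁ : Submodule.span k (Set.range v) ≃ₗ[k] Submodule.span k (Set.range w) :=
    (Module.Basis.span hv).equiv (Module.Basis.span hw) (Equiv.refl ι)
  have hfr : Module.finrank k C = Module.finrank k D := by
    have h1 := Submodule.finrank_add_eq_of_isCompl hC
    have h2 := Submodule.finrank_add_eq_of_isCompl hD
    have h3 := e₁.finrank_eq
    omega
  let e₂ : C ≃ₗ[k] D := LinearEquiv.ofFinrankEq _ _ hfr
  refine ⟨(Submodule.prodEquivOfIsCompl _ _ hC).symm ≪≫ₗ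
    (e₁.prodCongr e₂ ≪≫ₗ Submodule.prodEquivOfIsCompl _ _ hD), fun i => ?_⟩
  have h0 : v i = ((Module.Basis.span hv i : Submodule.span k (Set.range v)) : V) :=
    by rw [Module.Basis.span_apply]
  rw [h0]
  simp only [LinearEquiv.trans_apply]
  rw [Submodule.prodEquivOfIsCompl_symm_apply_left]
  simp only [LinearEquiv.prodCongr_apply, map_zero, e₁, Module.Basis.equiv_apply, Equiv.refl_apply]
  simp [Module.Basis.span_apply]

theorem zmod_two_cases : ∀ c : ZMod 2, c = 0 ∨ c = 1 := by decide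

theorem eq_of_add_eq_zero : ∀ x y : ZMod 2, x + y = 0 → x = y := by decide

theorem exists_pair {d : ℕ} {u v u' v' : Fin d → ZMod 2}
    (h1 : u = 0 ↔ u' = 0) (h2 : v = 0 ↔ v' = 0) (h3 : u = v ↔ u' = v') :
    ∃ A : (Fin d → ZMod 2) ≃ₗ[ZMod 2] (Fin d → ZMod 2), A u = u' ∧ A v = v' := by
  have single : ∀ a a' : Fin d → ZMod 2, a ≠ 0 → a' ≠ 0 →
      ∃ A : (Fin d → ZMod 2) ≃ₗ[ZMod 2] (Fin d → ZMod 2), A a = a' := by
    intro a a' ha ha'
    obtain ⟨A, hA⟩ := exists_equiv (v := fun _ : Unit => a) (w := fun _ : Unit => a')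
      ((linearIndependent_unique_iff (R := ZMod 2)).2 ha) ((linearIndependent_unique_iff (R := ZMod 2)).2 ha')
    exact ⟨A, hA ()⟩
  by_cases hu : u = 0
  · by_cases hv : v = 0
    · exact ⟨LinearEquiv.refl _ _, by simp [hu, h1.1 hu], by simp [hv, h2.1 hv]⟩
    · obtain ⟨A, hA⟩ := single v v' hv (fun h => hv (h2.2 h))
      exact ⟨A, by simp [hu, h1.1 hu], hA⟩
  · have hu' : u' ≠ 0 := fun h => hu (h1.2 h)
    by_cases hv : v = 0
    · obtain ⟨A, hA⟩ := single u u' hu hu'
      exact ⟨A, hA, by simp [hv, h2.1 hv]⟩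
    · by_cases huv : u = v
      · obtain ⟨A, hA⟩ := single u u' hu hu'
        exact ⟨A, hA, by rw [← huv, hA, h3.1 huv]⟩
      · have indep : ∀ a b : Fin d → ZMod 2, a ≠ 0 → b ≠ 0 → a ≠ b →
            LinearIndependent (ZMod 2) ![a, b] := by
          intro a b ha hb hab
          rw [LinearIndependent.pair_iff]
          intro s t h
          rcases zmod_two_cases s with rfl | rfl <;> rcases zmod_two_cases t with rfl | rfl
          · exact ⟨rfl, rfl⟩
          · simp at h; exact absurd h hb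
          · simp at h; exact absurd h ha
          · exfalso
            refine hab (funext fun i => ?_)
            have h' := congrFun h i
            simp at h'
            exact eq_of_add_eq_zero _ _ h'
        obtain ⟨A, hA⟩ := exists_equiv (indep u v hu hv huv)
          (indep u' v' hu' (fun h => hv (h2.2 h)) (fun h => huv (h3.2 h)))
        exact ⟨A, by simpa using hA 0, by simpa using hA 1⟩

theorem result (d : ℕ) (hd : 3 ≤ d) (σ : Equiv.Perm (Fin d → ZMod 2)) (t : Fin 3 → (Fin d → ZMod 2)) :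
    ∃ (A : (Fin d → ZMod 2) ≃ₗ[ZMod 2] (Fin d → ZMod 2)) (b : Fin d → ZMod 2), ∀ i, σ (t i) = A (t i) + b := by
  have _ := hd
  obtain ⟨A, hA1, hA2⟩ := exists_pair (u := t 1 - t 0) (v := t 2 - t 0)
    (u' := σ (t 1) - σ (t 0)) (v' := σ (t 2) - σ (t 0))
    (by rw [sub_eq_zero, sub_eq_zero, σ.injective.eq_iff])
    (by rw [sub_eq_zero, sub_eq_zero, σ.injective.eq_iff])
    (by rw [sub_left_inj, sub_left_inj, σ.injective.eq_iff])
  rw [map_sub] at hA1 hA2
  refine ⟨A, σ (t 0) - A (t 0), fun i => ?_⟩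
  fin_cases i
  · simp
  · have := congrArg (· + σ (t 0)) hA1
    simp at this ⊢
    rw [← this]; abel
  · have := congrArg (· + σ (t 0)) hA2
    simp at this ⊢
    rw [← this]; abel

end Cfsg.Agent.S3517
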