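import Cfsg.Statements.S3518
import Mathlib.LinearAlgebra.Lagrange
import Mathlib.Algebra.Polynomial.Taylor
import Mathlib.FieldTheory.Finite.Basic
import Mathlib.RingTheory.IntegralDomain

set_option autoImplicit false
set_option linter.style.haveILetI false
open Cfsg

namespace Cfsg.Agent.S3518

open Polynomial

variable {p : ℕ} [Fact p.Prime]

theorem deg_small (A : Finset (ZMod p)) {d : ℕ}
    (hAd : ∑ a ∈ A, a ^ d = (d : ZMod p)) (hd0 : 0 < d) (hdp : d < p) {F : (ZMod p)[X]} (hF : F.natDegree < p)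
    (h : ∀ y t : ZMod p, ∑ a ∈ A, F.eval (y + a * t) = (d : ZMod p) * F.eval y) : F.natDegree < d := by
  classical
  by_contra hge
  push Not at hge
  have hd : (d : ZMod p) ≠ 0 := fun h0 => by
    have := Nat.le_of_dvd hd0 ((CharP.cast_eq_zero_iff (ZMod p) p d).1 h0)
    omega
  have hcoef : ∀ y : ZMod p, (hasseDeriv d F).eval y = 0 := by
    intro y
    set T := taylor y F with hT
    set Pl : (ZMod p)[X] := ∑ a ∈ A, T.comp (C a * X) with hPl
    have hdeg : ∀ a ∈ A, (T.comp (C a * X)).natDegree ≤ F.natDegree := fun a _ => by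
      refine natDegree_comp_le.trans ?_
      rw [hT, natDegree_taylor]
      exact (Nat.mul_le_mul_left _ ((natDegree_C_mul_le a X).trans natDegree_X_le)).trans (by simp)
    have hPdeg : Pl.natDegree ≤ F.natDegree := natDegree_sum_le_of_forall_le A _ hdeg
    have hPeq : Pl = C ((d : ZMod p) * F.eval y) := by
      refine Polynomial.eq_of_natDegree_lt_card_of_eval_eq' Pl _ Finset.univ (fun t _ => ?_) ?_
      · rw [hPl, eval_finsetSum, eval_C, ← h y t]
        refine Finset.sum_congr rfl fun a _ => ?_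
        rw [eval_comp, eval_mul, eval_C, eval_X, hT, taylor_eval, add_comm]
      · rw [Finset.card_univ, ZMod.card, natDegree_C]
        omega
    have hc := congrArg (fun P => P.coeff d) hPeq
    simp only [hPl, finsetSum_coeff, comp_C_mul_X_coeff, coeff_C, hd0.ne', if_false] at hc
    rw [← Finset.mul_sum, hAd, hT, taylor_coeff, mul_eq_zero] at hc
    exact hc.resolve_right hd
  have hzero : hasseDeriv d F = 0 := by
    refine Polynomial.eq_zero_of_natDegree_lt_card_of_eval_eq_zero' _ Finset.univ (fun t _ => hcoef t) ?_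
    rw [Finset.card_univ, ZMod.card]
    have := natDegree_hasseDeriv_le F d
    omega
  have hc := congrArg (fun P => P.coeff (F.natDegree - d)) hzero
  simp only [hasseDeriv_coeff, coeff_zero, Nat.sub_add_cancel hge, mul_eq_zero] at hc
  rcases hc with hc | hc
  · rw [CharP.cast_eq_zero_iff (ZMod p) p] at hc
    have h1 : p ∣ F.natDegree.factorial := hc.trans (Dvd.intro (d.factorial * (F.natDegree - d).factorial) (by
      rw [← mul_assoc]
      exact Nat.choose_mul_factorial_mul_factorial hge))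
    have := ((Fact.out : p.Prime).dvd_factorial).1 h1
    omega
  · exact (Polynomial.leadingCoeff_ne_zero.2 (fun h0 => by rw [h0, natDegree_zero] at hge; omega)) hc

/-- Functions all of whose slopes lie in a proper subgroup of the units are affine. -/
theorem affine_of_slopes (A : Subgroup (ZMod p)ˣ) (hA : A ≠ ⊤) (σ : ZMod p → ZMod p)
    (h : ∀ x y, x ≠ y → ∃ a ∈ A, σ x - σ y = (a : ZMod p) * (x - y)) :
    ∃ a ∈ A, ∀ x, σ x = (a : ZMod p) * x + σ 0 := by
  classical
  haveI : Fintype A := Fintype.ofFinite _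
  set d := Fintype.card A with hd
  have hd0 : 0 < d := Fintype.card_pos
  have hA2 : 2 * d ≤ p - 1 := by
    have h1 := Subgroup.card_mul_index A
    rw [Nat.card_eq_fintype_card, Nat.card_eq_fintype_card, ← hd, ZMod.card_units] at h1
    have h2 : 2 ≤ A.index := by
      have := A.index_ne_zero_of_finite
      have : A.index ≠ 1 := fun e => hA (Subgroup.index_eq_one.1 e)
      omega
    rw [← h1, mul_comm d]
    exact Nat.mul_le_mul_right _ h2
  obtain ⟨a₁, ha₁, hσ1⟩ := h 1 0 one_ne_zero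
  rw [sub_zero, mul_one] at hσ1
  refine ⟨a₁, ha₁, ?_⟩
  rcases Nat.lt_or_ge 1 d with hd1 | hd1
  swap
  · intro x
    by_cases hx : x = 0
    · simp [hx]
    obtain ⟨a, ha, hxa⟩ := h x 0 hx
    haveI : Subsingleton A := Fintype.card_le_one_iff_subsingleton.1 hd1
    have : (⟨a, ha⟩ : A) = ⟨a₁, ha₁⟩ := Subsingleton.elim _ _
    rw [show a = a₁ from congrArg Subtype.val this, sub_zero] at hxa
    rw [← hxa, sub_add_cancel]
  set A' : Finset (ZMod p) := Finset.univ.map ⟨fun a : A => ((a : (ZMod p)ˣ) : ZMod p),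
    fun a b e => Subtype.ext (Units.ext e)⟩ with hA'
  have hcard : A'.card = d := by rw [hA', Finset.card_map, Finset.card_univ]
  have hsum : ∀ F : ZMod p → ZMod p, ∑ a ∈ A', F a = ∑ a : A, F ((a : (ZMod p)ˣ) : ZMod p) := fun F => by
    rw [hA', Finset.sum_map]; rfl
  have hpowd : ∀ a : A, (((a : (ZMod p)ˣ) : ZMod p)) ^ d = 1 := fun a => by
    have h1 : a ^ d = 1 := pow_card_eq_one
    simpa using congrArg (fun b : A => ((b : (ZMod p)ˣ) : ZMod p)) h1
  have hAd : ∑ a ∈ A', a ^ d = (d : ZMod p) := by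
    rw [hsum, Finset.sum_congr rfl fun a _ => hpowd a, Finset.sum_const, Finset.card_univ, nsmul_eq_mul,
      mul_one]
  have hA0 : ∀ i, 0 < i → i < d → ∑ a ∈ A', a ^ i = 0 := by
    intro i hi hid
    obtain ⟨g, hg⟩ := IsCyclic.exists_generator (α := A)
    have hord : orderOf g = d := by
      rw [hd, ← Nat.card_eq_fintype_card]
      exact orderOf_eq_card_of_forall_mem_zpowers hg
    have hne : (((g : (ZMod p)ˣ) : ZMod p)) ^ i ≠ 1 := fun e => by
      have h1 : g ^ i = 1 := Subtype.ext (Units.ext (by simpa using e))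
      have := Nat.le_of_dvd hi (hord ▸ orderOf_dvd_of_pow_eq_one h1)
      omega
    rw [hsum]
    have h1 : ∑ a : A, (((a : (ZMod p)ˣ) : ZMod p)) ^ i =
        (((g : (ZMod p)ˣ) : ZMod p)) ^ i * ∑ a : A, (((a : (ZMod p)ˣ) : ZMod p)) ^ i := by
      rw [Finset.mul_sum]
      exact (Fintype.sum_equiv (Equiv.mulLeft g) _ _ fun a => by simp [mul_pow]).symm
    exact (mul_left_eq_self₀.1 h1.symm).resolve_left hne
  set f : (ZMod p)[X] := Lagrange.interpolate Finset.univ id σ with hf
  have hinj : Set.InjOn (id : ZMod p → ZMod p) (Finset.univ : Finset (ZMod p)) := Function.injective_id.injOn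
  have heval : ∀ x, f.eval x = σ x := fun x =>
    Lagrange.eval_interpolate_at_node σ hinj (Finset.mem_univ x)
  have hfdeg : f.natDegree < p := by
    by_cases hf0 : f = 0
    · rw [hf0, natDegree_zero]; exact (Fact.out : p.Prime).pos
    · have := Lagrange.degree_interpolate_lt σ hinj
      rw [Finset.card_univ, ZMod.card, degree_eq_natDegree hf0] at this
      exact_mod_cast this
  -- the key identity
  have hkey : ∀ j, j < d → ∀ y t : ZMod p,
      ∑ a ∈ A', (f ^ j).eval (y + a * t) = (d : ZMod p) * (f ^ j).eval y := by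
    intro j hj y t
    simp only [eval_pow, heval]
    by_cases ht : t = 0
    · simp [ht, hcard]
    have hmove : ∀ a : A, ∃ b : A, σ (y + ((a : (ZMod p)ˣ) : ZMod p) * t) =
        σ y + ((b : (ZMod p)ˣ) : ZMod p) * t := by
      intro a
      obtain ⟨c, hc, hca⟩ := h (y + ((a : (ZMod p)ˣ) : ZMod p) * t) y (by simp [ht])
      refine ⟨⟨c * a, mul_mem hc a.2⟩, ?_⟩
      rw [add_sub_cancel_left, sub_eq_iff_eq_add] at hca
      rw [hca, Units.val_mul]
      ring
    choose π hπ using hmove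
    have hπi : Function.Injective π := fun a b e => by
      have h1 := hπ a
      rw [e, ← hπ b] at h1
      have h2 : ((a : (ZMod p)ˣ) : ZMod p) * t = ((b : (ZMod p)ˣ) : ZMod p) * t := by
        by_contra hne
        obtain ⟨c, -, hc⟩ := h _ _ (fun e' => hne (add_left_cancel e'))
        rw [h1, sub_self, add_sub_add_left_eq_sub, eq_comm, mul_eq_zero, sub_eq_zero] at hc
        exact hne (hc.resolve_left (Units.ne_zero c))
      exact Subtype.ext (Units.ext (mul_right_cancel₀ ht h2))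
    rw [hsum, Fintype.sum_equiv (Equiv.ofBijective π (Finite.injective_iff_bijective.1 hπi))
      (fun a : A => σ (y + ((a : (ZMod p)ˣ) : ZMod p) * t) ^ j)
      (fun b : A => (σ y + ((b : (ZMod p)ˣ) : ZMod p) * t) ^ j) (fun a => by rw [hπ a]; rfl)]
    rw [← hsum (fun b => (σ y + b * t) ^ j)]
    simp only [add_pow]
    rw [Finset.sum_comm, Finset.sum_eq_single j (fun i hi hij => ?_) (by simp)]
    · simp [hcard]
    · have hi' : i < j := lt_of_le_of_ne (Nat.lt_succ_iff.1 (Finset.mem_range.1 hi)) hij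
      simp only [mul_pow]
      have h0 := hA0 (j - i) (by omega) (by omega)
      calc ∑ a ∈ A', σ y ^ i * (a ^ (j - i) * t ^ (j - i)) * (j.choose i : ZMod p)
          = σ y ^ i * t ^ (j - i) * (j.choose i : ZMod p) * ∑ a ∈ A', a ^ (j - i) := by
            rw [Finset.mul_sum]; exact Finset.sum_congr rfl fun a _ => by ring
        _ = 0 := by rw [h0, mul_zero]
  have hdp : d < p := by omega
  have hk := deg_small A' hAd hd0 hdp hfdeg
    (fun y t => by simpa using hkey 1 hd1 y t)
  have hk1 : f.natDegree ≤ 1 := by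
    by_contra hk1
    push Not at hk1
    set k := f.natDegree with hkdef
    set j := (d + k - 1) / k with hjdef
    have hj1 : j * k ≤ d + k - 1 := Nat.div_mul_le_self _ _
    have hj2 : d + k - 1 < j * k + k := by
      have := Nat.lt_div_mul_add (a := d + k - 1) (show 0 < k by omega)
      exact this
    have hjd : j < d := by
      rw [hjdef, Nat.div_lt_iff_lt_mul (by omega)]
      have : 2 * d ≤ d * k := by rw [mul_comm]; exact Nat.mul_le_mul_left d hk1
      omega
    have hdeg : (f ^ j).natDegree = j * k := natDegree_pow f j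
    have := deg_small A' hAd hd0 hdp (F := f ^ j) (by rw [hdeg]; omega) (hkey j hjd)
    rw [hdeg] at this
    omega
  intro x
  have hx := heval x
  have h0 := heval 0
  have h1 := heval 1
  rw [eq_X_add_C_of_natDegree_le_one hk1] at hx h0 h1
  simp only [eval_add, eval_mul, eval_C, eval_X, mul_zero, zero_add, mul_one] at hx h0 h1
  rw [← hx, ← hσ1, ← h1, ← h0]
  ring

/-- Closures of one-dimensional affine groups. -/
theorem result (p : ℕ) [Fact p.Prime] (G : Subgroup (Equiv.Perm (ZMod p))) (hG : G ≤ Cfsg.affineGroup (ZMod p))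
    (htrans : ∀ b : ZMod p, ∃ g ∈ G, ∀ x, g x = x + b) :
    (G ≠ Cfsg.affineGroup (ZMod p) → ∀ σ : Equiv.Perm (ZMod p), (∀ t : Fin 2 → ZMod p, ∃ g ∈ G, ∀ i, σ (t i) = g (t i)) → σ ∈ G) ∧
    (∀ σ : Equiv.Perm (ZMod p), (∀ t : Fin 2 → ZMod p, ∃ g ∈ Cfsg.affineGroup (ZMod p), ∀ i, σ (t i) = g (t i))) ∧
    (∀ σ : Equiv.Perm (ZMod p), (∀ t : Fin 3 → ZMod p, ∃ g ∈ Cfsg.affineGroup (ZMod p), ∀ i, σ (t i) = g (t i)) → σ ∈ Cfsg.affineGroup (ZMod p)) := by
  classical
  have hmk : ∀ (a : (ZMod p)ˣ) (b : ZMod p), ∃ g ∈ Cfsg.affineGroup (ZMod p), ∀ x, g x = (a : ZMod p) * x + b :=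
    fun a b => ⟨⟨fun x => (a : ZMod p) * x + b, fun y => ((a⁻¹ : (ZMod p)ˣ) : ZMod p) * (y - b),
      fun x => by beta_reduce; rw [add_sub_cancel_right, Units.inv_mul_cancel_left],
      fun y => by beta_reduce; rw [Units.mul_inv_cancel_left, sub_add_cancel]⟩, ⟨a, b, fun _ => rfl⟩, fun _ => rfl⟩
  refine ⟨fun hne σ hσ => ?_, fun σ t => ?_, fun σ hσ => ?_⟩
  · let L : (ZMod p)ˣ →* Equiv.Perm (ZMod p) := MulAction.toPermHom (ZMod p)ˣ (ZMod p)
    have hL : ∀ (a : (ZMod p)ˣ) (x : ZMod p), L a x = (a : ZMod p) * x := fun _ _ => rfl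
    set A := G.comap L
    have hmem : ∀ g ∈ G, ∀ (a : (ZMod p)ˣ) (b : ZMod p), (∀ x, g x = (a : ZMod p) * x + b) → a ∈ A := by
      intro g hg a b hab
      obtain ⟨t, ht, ht'⟩ := htrans (-b)
      have e : L a = t * g := Equiv.ext fun x => by rw [Equiv.Perm.mul_apply, ht', hab, hL]; ring
      show L a ∈ G
      rw [e]
      exact mul_mem ht hg
    have hin : ∀ (a : (ZMod p)ˣ), a ∈ A → ∀ (b : ZMod p) (τ : Equiv.Perm (ZMod p)),
        (∀ x, τ x = (a : ZMod p) * x + b) → τ ∈ G := by
      intro a ha b τ hτ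
      obtain ⟨t, ht, ht'⟩ := htrans b
      have e : τ = t * L a := Equiv.ext fun x => by rw [Equiv.Perm.mul_apply, ht', hτ, hL]
      rw [e]
      exact mul_mem ht ha
    have hAtop : A ≠ ⊤ := fun htop => hne (le_antisymm hG fun τ hτ => by
      obtain ⟨a, b, hab⟩ := hτ
      exact hin a (htop ▸ Subgroup.mem_top a) b τ hab)
    obtain ⟨a, ha, hσa⟩ := affine_of_slopes A hAtop σ fun x y hxy => by
      obtain ⟨g, hg, hgi⟩ := hσ ![x, y]
      obtain ⟨a, b, hab⟩ := hG hg
      refine ⟨a, hmem g hg a b hab, ?_⟩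
      have h0 := hgi 0
      have h1 := hgi 1
      simp only [Matrix.cons_val_zero, Matrix.cons_val_one, Matrix.cons_val_fin_one] at h0 h1
      rw [h0, h1, hab, hab]
      ring
    exact hin a ha _ σ hσa
  · by_cases ht : t 0 = t 1
    · obtain ⟨g, hg, hg'⟩ := hmk 1 (σ (t 0) - t 0)
      refine ⟨g, hg, fun i => ?_⟩
      fin_cases i
      · show σ (t 0) = g (t 0)
        rw [hg', Units.val_one]; ring
      · show σ (t 1) = g (t 1)
        rw [hg', Units.val_one, ← ht]; ring
    · have hne : σ (t 0) - σ (t 1) ≠ 0 := sub_ne_zero.2 fun e => ht (σ.injective e)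
      have hne' : t 0 - t 1 ≠ 0 := sub_ne_zero.2 ht
      obtain ⟨g, hg, hg'⟩ := hmk (Units.mk0 ((σ (t 0) - σ (t 1)) / (t 0 - t 1)) (div_ne_zero hne hne'))
        (σ (t 0) - (σ (t 0) - σ (t 1)) / (t 0 - t 1) * t 0)
      refine ⟨g, hg, fun i => ?_⟩
      fin_cases i
      · simp [hg']
      · simp only [hg', Units.val_mk0, Fin.mk_one]
        field_simp
        ring
  · obtain ⟨g₀, hg₀, hg₀'⟩ := hσ ![0, 1, 0]
    suffices σ = g₀ by rw [this]; exact hg₀
    refine Equiv.ext fun x => ?_
    obtain ⟨g, hg, hg'⟩ := hσ ![0, 1, x]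
    obtain ⟨a, b, hab⟩ := hg₀
    obtain ⟨c, d, hcd⟩ := hg
    have e0 := (hg₀' 0).symm.trans (hg' 0)
    have e1 := (hg₀' 1).symm.trans (hg' 1)
    have e2 := hg' 2
    simp only [Matrix.cons_val_zero, Matrix.cons_val_one, Matrix.cons_val, hab, hcd, mul_zero,
      zero_add, mul_one] at e0 e1 e2
    rw [e2, hab, ← e0]
    rw [← e0, add_right_cancel_iff] at e1
    rw [e1]

end Cfsg.Agent.S3518
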