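import Cfsg.Statements.S3521
import Cfsg.Agent.Lib.AffineExtreme.Main

set_option autoImplicit false
open Cfsg

namespace Cfsg.Agent.S3521

/-- Let a finite group G that is not solvable act faithfully and primitively on a finite set with p ^ d points (p prime), with a non-trivial abelian normal subgroup acting regularly (affine type) and with non-trivial point stabilizers each acting primitively on every one of its orbits (an insoluble extremely primitive group of affine type). Then p = 2; and if moreover G is not 2-transitive, then a point stabilizer is almost simple (it has a non-abelian simple normal subgroup with trivial centralizer). -/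
theorem result {G : Type*} [Group G] [Finite G] {Ω : Type*} [Fintype Ω] [MulAction G Ω] [FaithfulSMul G Ω] (p d : ℕ) (hp : p.Prime) (hcard : Fintype.card Ω = p ^ d) (hsol : ¬ Group.IsSolvable G)
    (N : Subgroup G) [N.Normal] (hN : N ≠ ⊥) (hNc : IsMulCommutative N) (hNreg : ∀ ω : Ω, MulAction.stabilizer N ω = ⊥)
    (hprim : MulAction.IsPreprimitive G Ω) (hH : ∀ α : Ω, MulAction.stabilizer G α ≠ ⊥) (hep : ∀ (α : Ω) (ω : Ω), MulAction.IsPreprimitive (MulAction.stabilizer G α) (MulAction.orbit (MulAction.stabilizer G α) ω)) (α : Ω) :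
    p = 2 ∧ (¬ MulAction.IsMultiplyPretransitive G Ω 2 → ∃ T : Subgroup (MulAction.stabilizer G α), T.Normal ∧ IsSimpleGroup T ∧ ¬ IsMulCommutative T ∧ Subgroup.centralizer (T : Set (MulAction.stabilizer G α)) = ⊥) := by
  classical
  have hcomm : ∀ a b : N, a * b = b * a := fun a b => hNc.is_comm.comm a b
  have hinj : ∀ n m : N, n • α = m • α → n = m := fun n m h => by
    have h1 : m⁻¹ * n ∈ MulAction.stabilizer N α := by
      rw [MulAction.mem_stabilizer_iff, mul_smul, h, inv_smul_smul]
    rw [hNreg, Subgroup.mem_bot, inv_mul_eq_one] at h1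
    exact h1.symm
  have htransW : ∀ W : Subgroup G, W.Normal → W ≠ ⊥ → ∀ ω : Ω, ∃ w ∈ W, w • α = ω := by
    intro W hW hWne ω
    obtain ⟨w, hw1⟩ := Subgroup.ne_bot_iff_exists_ne_one.1 hWne
    have hfix : MulAction.fixedPoints W Ω ≠ Set.univ := fun he => hw1 (by
      apply Subtype.ext
      apply FaithfulSMul.eq_of_smul_eq_smul (α := Ω)
      intro x
      rw [OneMemClass.coe_one, one_smul]
      exact (he ▸ Set.mem_univ x : x ∈ MulAction.fixedPoints W Ω) w)
    have := hprim.isQuasiPreprimitive
    have := MulAction.IsQuasiPreprimitive.isPretransitive_of_normal (G := G) (N := W) hfix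
    obtain ⟨u, hu⟩ := MulAction.exists_smul_eq W α ω
    exact ⟨u, u.2, hu⟩
  have htrans : ∀ ω : Ω, ∃ n : N, n • α = ω := fun ω => by
    obtain ⟨n, hn, h⟩ := htransW N inferInstance hN ω
    exact ⟨⟨n, hn⟩, h⟩
  let φ : MulAction.stabilizer G α →* MulAut N :=
    MulAut.conjNormal.comp (MulAction.stabilizer G α).subtype
  have hφ : ∀ (h : MulAction.stabilizer G α) (n : N), (φ h n) • α = h • n • α := fun h n => by
    have h1 : (h : G)⁻¹ • α = α := inv_smul_eq_iff.2 h.2.symm
    show ((h : G) * n * (h : G)⁻¹) • α = (h : G) • (n : G) • α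
    rw [mul_smul, mul_smul, h1]
  have hfaith : ∀ h, (∀ n : N, φ h n = n) → h = 1 := fun h hh => by
    apply Subtype.ext
    apply FaithfulSMul.eq_of_smul_eq_smul (α := Ω)
    intro ω
    obtain ⟨n, rfl⟩ := htrans ω
    rw [OneMemClass.coe_one, one_smul]
    conv_rhs => rw [← hh n]
    exact (hφ h n).symm
  have hirr : ∀ W : Subgroup N, (∀ h, ∀ w ∈ W, φ h w ∈ W) → W = ⊥ ∨ W = ⊤ := by
    intro W hW
    by_cases hb : W = ⊥
    · exact Or.inl hb
    refine Or.inr (eq_top_iff.2 fun m _ => ?_)
    have hWn : (W.map N.subtype).Normal := by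
      refine ⟨?_⟩
      rintro _ ⟨w, hw, rfl⟩ g
      obtain ⟨n, hn⟩ := htrans (g • α)
      let h : MulAction.stabilizer G α := ⟨(n : G)⁻¹ * g, by
        rw [MulAction.mem_stabilizer_iff, mul_smul, ← hn]
        exact inv_smul_smul (n : G) α⟩
      refine ⟨φ h w, hW h w hw, ?_⟩
      have h1 : n * φ h w * n⁻¹ = φ h w := by rw [hcomm n, mul_inv_cancel_right]
      conv_lhs => rw [← h1]
      show (n : G) * ((n : G)⁻¹ * g * w * ((n : G)⁻¹ * g)⁻¹) * (n : G)⁻¹ = g * w * g⁻¹
      group
    obtain ⟨_, ⟨w, hw, rfl⟩, hwm⟩ := htransW _ hWn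
      (by rwa [Ne, Subgroup.map_eq_bot_iff_of_injective _ N.subtype_injective]) (m • α)
    exact hinj w m hwm ▸ hw
  have hmove : ∀ n : N, n ≠ 1 → ∃ h, φ h n ≠ n := by
    intro n hn
    by_contra hc
    push Not at hc
    let W : Subgroup N :=
      { carrier := {w | ∀ h, φ h w = w}
        one_mem' := fun h => map_one _
        mul_mem' := fun hx hy h => by rw [map_mul, hx h, hy h]
        inv_mem' := fun hx h => by rw [map_inv, hx h] }
    rcases hirr W (fun h w hw k => by rw [hw h, hw k]) with hb | ht
    · exact hn (Subgroup.mem_bot.1 (hb ▸ (show n ∈ W from hc)))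
    · apply hH α
      rw [Subgroup.eq_bot_iff_forall]
      intro g hg
      exact congrArg Subtype.val (hfaith ⟨g, hg⟩ fun m =>
        (show m ∈ W from ht ▸ Subgroup.mem_top m) ⟨g, hg⟩)
  have hco : ∀ n : N, n ≠ 1 → IsCoatom (MulAction.stabilizer (MulAction.stabilizer G α) (n • α)) := by
    intro n hn
    obtain ⟨h, hh⟩ := hmove n hn
    have : Nontrivial (MulAction.orbit (MulAction.stabilizer G α) (n • α)) := by
      refine ⟨⟨⟨n • α, MulAction.mem_orbit_self _⟩, ⟨h • n • α, MulAction.mem_orbit _ _⟩, fun e => hh ?_⟩⟩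
      apply hinj
      rw [hφ]
      exact (congrArg Subtype.val e).symm
    have := hep α (n • α)
    have h1 := MulAction.IsPreprimitive.isCoatom_stabilizer_of_isPreprimitive
      (G := MulAction.stabilizer G α)
      (⟨n • α, MulAction.mem_orbit_self _⟩ : MulAction.orbit (MulAction.stabilizer G α) (n • α))
    convert h1 using 1
    ext k
    simp [MulAction.mem_stabilizer_iff, Subtype.ext_iff]
  have hstab : ∀ (h : MulAction.stabilizer G α) (n : N),
      h ∈ MulAction.stabilizer (MulAction.stabilizer G α) (n • α) ↔ φ h n = n := fun h n => by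
    rw [MulAction.mem_stabilizer_iff, ← hφ]
    exact ⟨hinj _ _, fun e => by rw [e]⟩
  have hinsol : ¬ Group.IsSolvable (MulAction.stabilizer G α) := by
    intro hs
    have hsur : Function.Surjective
        ((QuotientGroup.mk' N).comp (MulAction.stabilizer G α).subtype) := by
      intro q
      obtain ⟨g, rfl⟩ := QuotientGroup.mk'_surjective N q
      obtain ⟨n, hn⟩ := htrans (g • α)
      refine ⟨⟨(n : G)⁻¹ * g, by
        rw [MulAction.mem_stabilizer_iff, mul_smul, ← hn]
        exact inv_smul_smul (n : G) α⟩, ?_⟩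
      show QuotientGroup.mk' N ((n : G)⁻¹ * g) = _
      rw [map_mul, map_inv, (QuotientGroup.eq_one_iff (n : G)).2 n.2 |> (fun h => (show QuotientGroup.mk' N (n : G) = 1 from h)), inv_one, one_mul]
    have : Group.IsSolvable N := Group.isSolvable_of_comm hcomm
    have : Group.IsSolvable (G ⧸ N) := Group.isSolvable_of_surjective hsur
    exact hsol (Group.isSolvable_of_ker_le_range N.subtype (QuotientGroup.mk' N) (by simp))
  have hcardN : Nat.card N = p ^ d := by
    rw [← hcard, ← Nat.card_eq_fintype_card]
    exact Nat.card_congr (Equiv.ofBijective (fun n : N => n • α)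
      ⟨fun n m h => hinj n m h, fun ω => htrans ω⟩)
  have hp2 : p = 2 := by
    by_contra hp2
    have hodd : Odd (Nat.card N) := hcardN ▸ (hp.odd_of_ne_two hp2).pow
    have hev : Even (Nat.card (MulAction.stabilizer G α)) := by
      rw [← Nat.not_odd_iff_even]
      exact fun ho => hinsol (Cfsg.Agent.S0205.result ho)
    have : Fact (Nat.Prime 2) := ⟨Nat.prime_two⟩
    obtain ⟨t, ht⟩ := exists_prime_orderOf_dvd_card' (G := MulAction.stabilizer G α) 2
      (even_iff_two_dvd.1 hev)
    have htt : t * t = 1 := by rw [← pow_two, ← ht, pow_orderOf_eq_one]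
    obtain ⟨m, hm⟩ : ∃ m : N, φ t m ≠ m := by
      by_contra hc
      push Not at hc
      rw [hfaith t hc, orderOf_one] at ht
      omega
    obtain ⟨n, hn1, htn⟩ : ∃ n : N, n ≠ 1 ∧ φ t n = n⁻¹ := by
      refine ⟨φ t m * m⁻¹, fun e => hm (mul_inv_eq_one.1 e), ?_⟩
      rw [map_mul, map_inv, ← MulAut.mul_apply, ← map_mul, htt, map_one, MulAut.one_apply,
        mul_inv_rev, inv_inv, hcomm]
    have hnn : n⁻¹ ≠ n := by
      intro e
      have h1 : orderOf n ∣ 2 := orderOf_dvd_of_pow_eq_one (by
        rw [pow_two]; nth_rewrite 1 [← e]; exact inv_mul_cancel n)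
      rcases (Nat.dvd_prime Nat.prime_two).1 h1 with h | h
      · exact hn1 (orderOf_eq_one_iff.1 h)
      · exact absurd (h ▸ orderOf_dvd_natCard n : 2 ∣ Nat.card N) hodd.not_two_dvd_nat
    let L : Subgroup (MulAction.stabilizer G α) :=
      { carrier := {h | φ h n = n ∨ φ h n = n⁻¹}
        one_mem' := Or.inl (by rw [map_one, MulAut.one_apply])
        mul_mem' := fun {a b} ha hb => by
          simp only [Set.mem_ofPred_eq, map_mul, MulAut.mul_apply] at ha hb ⊢
          rcases hb with hb | hb <;> rcases ha with ha | ha <;> simp [hb, map_inv, ha]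
        inv_mem' := fun {a} ha => by
          simp only [Set.mem_ofPred_eq, map_inv, MulAut.inv_apply, MulEquiv.symm_apply_eq] at ha ⊢
          rcases ha with ha | ha <;> simp [ha] }
    have hKL : MulAction.stabilizer (MulAction.stabilizer G α) (n • α) < L := by
      refine lt_of_le_of_ne (fun h hh => Or.inl ((hstab h n).1 hh)) fun e => hnn ?_
      have h1 : t ∈ MulAction.stabilizer (MulAction.stabilizer G α) (n • α) :=
        e ▸ (show t ∈ L from Or.inr htn)
      exact htn.symm.trans ((hstab t n).1 h1)
    have hL := (hco n hn1).2 L hKL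
    have hall : ∀ h, φ h n = n ∨ φ h n = n⁻¹ := fun h =>
      (show h ∈ L from hL ▸ Subgroup.mem_top h)
    let W : Subgroup N :=
      { carrier := {w | ∀ k, φ k n = n → φ k w = w}
        one_mem' := fun h _ => map_one _
        mul_mem' := fun hx hy h hh => by rw [map_mul, hx h hh, hy h hh]
        inv_mem' := fun hx h hh => by rw [map_inv, hx h hh] }
    have hW : ∀ g, ∀ w ∈ W, φ g w ∈ W := fun g w hw k hk => by
      have h1 : φ (g⁻¹ * k * g) n = n := by
        simp only [map_mul, map_inv, MulAut.mul_apply, MulAut.inv_apply, MulEquiv.symm_apply_eq]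
        rcases hall g with h | h <;> simp [h, map_inv, hk]
      have h2 := hw _ h1
      rw [map_mul, map_mul, map_inv, MulAut.mul_apply, MulAut.mul_apply, MulAut.inv_apply,
        MulEquiv.symm_apply_eq] at h2
      exact h2
    have hWtop : W = ⊤ := (hirr W hW).resolve_left fun hb =>
      hn1 (Subgroup.mem_bot.1 (hb ▸ (show n ∈ W from fun k hk => hk)))
    have htriv : ∀ k, φ k n = n → k = 1 := fun k hk =>
      hfaith k fun w => (show w ∈ W from hWtop ▸ Subgroup.mem_top w) k hk
    have htwo : ∀ h, h = 1 ∨ h = t := fun h => by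
      rcases hall h with h1 | h1
      · exact Or.inl (htriv h h1)
      · refine Or.inr ?_
        have h2 := htriv (t * h) (by rw [map_mul, MulAut.mul_apply, h1, map_inv, htn, inv_inv])
        rw [eq_inv_of_mul_eq_one_right h2, inv_eq_of_mul_eq_one_left htt]
    exact hinsol (Group.isSolvable_of_comm fun a b => by
      rcases htwo a with rfl | rfl <;> rcases htwo b with rfl | rfl <;> simp)
  refine ⟨hp2, fun _ => ?_⟩
  subst hp2
  letI : DistribMulAction (MulAction.stabilizer G α) (Additive N) :=
    { smul := fun h v => Additive.ofMul (φ h v.toMul)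
      one_smul := fun v => congrArg Additive.ofMul
        (show φ 1 v.toMul = v.toMul by rw [map_one, MulAut.one_apply])
      mul_smul := fun g h v => congrArg Additive.ofMul (by rw [map_mul, MulAut.mul_apply]; rfl)
      smul_zero := fun h => congrArg Additive.ofMul (map_one (φ h))
      smul_add := fun h v w => congrArg Additive.ofMul (map_mul (φ h) v.toMul w.toMul) }
  letI : AddCommGroup (Additive N) :=
    { (inferInstance : AddGroup (Additive N)) with
      add_comm := fun v w => congrArg Additive.ofMul (hcomm v.toMul w.toMul) }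
  have hd : d ≠ 0 := by
    rintro rfl
    rw [pow_zero] at hcardN
    exact hN (Subgroup.card_eq_one.1 hcardN)
  have hsq : ∀ n : N, n * n = 1 := by
    let E : Subgroup N :=
      { carrier := {w | w * w = 1}
        one_mem' := one_mul 1
        mul_mem' := fun {a b} ha hb => by
          simp only [Set.mem_ofPred_eq] at ha hb ⊢
          rw [show a * b * (a * b) = a * (b * a) * b by group, hcomm b a, ← mul_assoc a a, ha,
            one_mul, hb]
        inv_mem' := fun {a} ha => by
          simp only [Set.mem_ofPred_eq] at ha ⊢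
          rw [← mul_inv_rev, ha, inv_one] }
    rcases hirr E (fun h w hw => show φ h w * φ h w = 1 by
      rw [← map_mul, (hw : w * w = 1), map_one]) with hb | ht
    · exfalso
      have : Fact (Nat.Prime 2) := ⟨Nat.prime_two⟩
      obtain ⟨x, hx⟩ := exists_prime_orderOf_dvd_card' (G := N) 2
        (hcardN ▸ dvd_pow_self 2 hd)
      have hxE : x ∈ E := show x * x = 1 by rw [← pow_two, ← hx, pow_orderOf_eq_one]
      rw [hb, Subgroup.mem_bot] at hxE
      rw [hxE, orderOf_one] at hx
      omega
    · exact fun n => (show n ∈ E from ht ▸ Subgroup.mem_top n)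
  refine Cfsg.Lib.AffineExtreme.almost_simple (V := Additive N) ⟨?_, ?_, ?_, ?_, hinsol⟩
  · exact fun v => congrArg Additive.ofMul (hsq v.toMul)
  · exact fun h hh => hfaith h fun n => congrArg Additive.toMul (hh (Additive.ofMul n))
  · intro W hW
    rcases hirr (AddSubgroup.toSubgroup' W) (fun h w hw => hW h (Additive.ofMul w) hw) with hb | ht
    · exact Or.inl (AddSubgroup.toSubgroup'.injective (hb.trans (map_bot _).symm))
    · exact Or.inr (AddSubgroup.toSubgroup'.injective (ht.trans (map_top _).symm))
  · intro v hv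
    have h1 := hco v.toMul (fun e => hv (congrArg Additive.ofMul e))
    convert h1 using 1
    ext k
    rw [hstab]
    exact ⟨fun e => congrArg Additive.toMul e, fun e => congrArg Additive.ofMul e⟩

end Cfsg.Agent.S3521
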