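import Cfsg.Statements.S3531
import Cfsg.Agent.Lib.Spec.JOneSquare.Main

set_option autoImplicit false
open Cfsg

namespace Cfsg.Agent.S3531

/-- Let J be the first Janko group. A finite group with the same set of element orders as J × J is isomorphic to J × J. -/
theorem result {G : Type*} [Group G] [Finite G]
    (h : Set.range (orderOf : G → ℕ) = Set.range (orderOf : ↥Cfsg.Spor.J1 × ↥Cfsg.Spor.J1 → ℕ)) :
    Nonempty (G ≃* ↥Cfsg.Spor.J1 × ↥Cfsg.Spor.J1) := by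
  refine Lib.Spec.JOneSq.main (fun g => ?_) (fun n hn => ?_)
  · obtain ⟨e, he⟩ : orderOf g ∈ Set.range (orderOf : ↥Cfsg.Spor.J1 × ↥Cfsg.Spor.J1 → ℕ) := h ▸ ⟨g, rfl⟩
    exact (Lib.Spec.JOneSq.range_orderOf _).1 ⟨e, he⟩
  · obtain ⟨e, he⟩ := (Lib.Spec.JOneSq.range_orderOf n).2 hn
    obtain ⟨g, hg⟩ : n ∈ Set.range (orderOf : G → ℕ) := h.symm ▸ ⟨e, he⟩
    exact ⟨g, hg⟩

end Cfsg.Agent.S3531
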