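import Cfsg.Statements.S3532
import Cfsg.Agent.Lib.Spec.PSLTwoSpectrum
import Cfsg.Agent.Lib.Spec.CycFrobenius

set_option autoImplicit false
open Cfsg

namespace Cfsg.Agent.S3532

/-- Let q ≥ 4 be a prime power and L = PSL(2,q). There is a finite solvable group with the same set of element orders as L × L (so L × L is not determined by its spectrum). -/
theorem result {F : Type*} [Field F] [Fintype F] (hF : 4 ≤ Fintype.card F) :
    ∃ (H : Type) (_ : Group H) (_ : Finite H), Group.IsSolvable H ∧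
      Set.range (orderOf : H → ℕ) = Set.range (orderOf : Matrix.ProjectiveSpecialLinearGroup (Fin 2) F × Matrix.ProjectiveSpecialLinearGroup (Fin 2) F → ℕ) := by
  classical
  obtain ⟨p, hp⟩ := CharP.exists F
  haveI := hp
  obtain ⟨k, hpk, hqk⟩ := FiniteField.card F p
  haveI := Fact.mk hpk
  have hspec := Cfsg.Lib.Spec.psl_two_spectrum (F := F) p hF
  set q := Fintype.card F with hq
  set d := Nat.gcd 2 (q - 1) with hd
  set u := (q - 1) / d with hu
  set v := (q + 1) / d with hv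
  have hd0 : 0 < d := Nat.gcd_pos_of_pos_left _ (by norm_num)
  have hd1 : d ∣ q - 1 := Nat.gcd_dvd_right _ _
  have hd2 : d ≤ 2 := Nat.le_of_dvd (by norm_num) (Nat.gcd_dvd_left _ _)
  have hdv : d ∣ q + 1 := by
    rw [show q + 1 = (q - 1) + 2 by omega]
    exact Nat.dvd_add hd1 (Nat.gcd_dvd_left _ _)
  have hu0 : 0 < u := Nat.div_pos (by omega) hd0
  have hv2 : 2 ≤ v := (Nat.le_div_iff_mul_le hd0).mpr (by omega)
  have hpq : p ∣ q := by rw [hqk]; exact dvd_pow_self p k.ne_zero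
  have hpu : p.Coprime u := hpk.coprime_iff_not_dvd.mpr fun h => by
    have h2 := Nat.dvd_sub hpq (h.trans (Nat.div_dvd_of_dvd hd1))
    rw [show q - (q - 1) = 1 by omega] at h2
    exact hpk.ne_one (Nat.dvd_one.mp h2)
  have huv : v.Coprime u := by
    have h : v = u + 2 / d := by
      rw [hv, hu, show q + 1 = (q - 1) + 2 by omega, Nat.add_div_of_dvd_right hd1]
    rw [h, Nat.coprime_self_add_left]
    rcases (Nat.dvd_prime Nat.prime_two).mp (Nat.gcd_dvd_left 2 (q - 1)) with e | e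
    · rw [show d = 1 from e, Nat.div_one]
      have : (q - 1) / 1 = u := by rw [hu, show d = 1 from e]
      rw [Nat.div_one] at this
      rw [← this]
      exact e
    · rw [show d = 2 from e]
      exact Nat.coprime_one_left _
  obtain ⟨A, _, _, hAs, hA⟩ :=
    Cfsg.Lib.Spec.exists_cyclotomic_frobenius p u hpk.two_le hu0 hpu
  obtain ⟨B, _, _, hBs, hB⟩ :=
    Cfsg.Lib.Spec.exists_cyclotomic_frobenius v u hv2 hu0 huv
  haveI := hAs
  haveI := hBs
  refine ⟨A × B, inferInstance, inferInstance, inferInstance, ?_⟩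
  let L := Matrix.ProjectiveSpecialLinearGroup (Fin 2) F
  have hL : ∀ m, (∃ x : L, orderOf x = m) ↔ m ∣ p ∨ m ∣ u ∨ m ∣ v := fun m => Set.ext_iff.mp hspec m
  have cl : ∀ {a b N : ℕ}, a ∣ N → b ∣ N → Nat.lcm a b ∣ N := fun h h' => Nat.lcm_dvd h h'
  ext m
  constructor
  · rintro ⟨⟨a, b⟩, rfl⟩
    rw [Prod.orderOf]
    rcases (hA _).mp ⟨a, rfl⟩ with ha | ha <;> rcases (hB _).mp ⟨b, rfl⟩ with hb | hb
    · obtain ⟨x, hx⟩ := (hL (orderOf a)).mpr (Or.inl ha)
      obtain ⟨y, hy⟩ := (hL (orderOf b)).mpr (Or.inr (Or.inr hb))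
      exact ⟨(x, y), by rw [Prod.orderOf, hx, hy]⟩
    · obtain ⟨x, hx⟩ := (hL (orderOf a)).mpr (Or.inl ha)
      obtain ⟨y, hy⟩ := (hL (orderOf b)).mpr (Or.inr (Or.inl hb))
      exact ⟨(x, y), by rw [Prod.orderOf, hx, hy]⟩
    · obtain ⟨x, hx⟩ := (hL (orderOf a)).mpr (Or.inr (Or.inl ha))
      obtain ⟨y, hy⟩ := (hL (orderOf b)).mpr (Or.inr (Or.inr hb))
      exact ⟨(x, y), by rw [Prod.orderOf, hx, hy]⟩
    · obtain ⟨x, hx⟩ := (hL (orderOf a)).mpr (Or.inr (Or.inl ha))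
      obtain ⟨y, hy⟩ := (hL (orderOf b)).mpr (Or.inr (Or.inl hb))
      exact ⟨(x, y), by rw [Prod.orderOf, hx, hy]⟩
  · rintro ⟨⟨x, y⟩, rfl⟩
    rw [Prod.orderOf]
    have pick : ∀ {a b : ℕ}, (∃ g : A, orderOf g = a) → (∃ g : B, orderOf g = b) →
        Nat.lcm a b ∈ Set.range (orderOf : A × B → ℕ) := fun {a b} ⟨g, hg⟩ ⟨g', hg'⟩ =>
      ⟨(g, g'), by rw [Prod.orderOf, hg, hg']⟩
    have one_lcm : ∀ {a b N : ℕ}, a ∣ N → b ∣ N → (∃ g : A, orderOf g = Nat.lcm a b) →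
        Nat.lcm a b ∈ Set.range (orderOf : A × B → ℕ) := fun {a b N} _ _ h => by
      simpa using pick h ⟨1, orderOf_one⟩
    rcases (hL _).mp ⟨x, rfl⟩ with ha | ha | ha <;> rcases (hL _).mp ⟨y, rfl⟩ with hb | hb | hb
    · exact one_lcm ha hb ((hA _).mpr (Or.inl (cl ha hb)))
    · exact pick ((hA _).mpr (Or.inl ha)) ((hB _).mpr (Or.inr hb))
    · exact pick ((hA _).mpr (Or.inl ha)) ((hB _).mpr (Or.inl hb))
    · rw [Nat.lcm_comm]; exact pick ((hA _).mpr (Or.inl hb)) ((hB _).mpr (Or.inr ha))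
    · exact one_lcm ha hb ((hA _).mpr (Or.inr (cl ha hb)))
    · exact pick ((hA _).mpr (Or.inr ha)) ((hB _).mpr (Or.inl hb))
    · rw [Nat.lcm_comm]; exact pick ((hA _).mpr (Or.inl hb)) ((hB _).mpr (Or.inl ha))
    · rw [Nat.lcm_comm]; exact pick ((hA _).mpr (Or.inr hb)) ((hB _).mpr (Or.inl ha))
    · have h := pick ((hA 1).mpr (Or.inl (one_dvd _))) ((hB _).mpr (Or.inl (cl ha hb)))
      rwa [Nat.lcm_one_left] at h

end Cfsg.Agent.S3532
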