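import Cfsg.Statements.S3546
import Mathlib

set_option autoImplicit false
open Cfsg

namespace Cfsg.Agent.S3546

/-- Let G act faithfully and transitively on a finite set and let D be the subgroup of G generated by the derangements (the elements fixing no point). Then D is itself transitive, and D contains every element of G whose number of fixed points is different from 1. -/
theorem result {G Ω : Type*} [Group G] [Finite G] [MulAction G Ω] [FaithfulSMul G Ω] [Finite Ω]
    (htrans : MulAction.IsPretransitive G Ω) :
    MulAction.IsPretransitive ↥(Subgroup.closure {g : G | ∀ ω : Ω, g • ω ≠ ω}) Ω ∧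
    ∀ g : G, Nat.card (MulAction.fixedBy Ω g) ≠ 1 → g ∈ Subgroup.closure {g : G | ∀ ω : Ω, g • ω ≠ ω} := by
  classical
  letI := Fintype.ofFinite G
  letI := Fintype.ofFinite Ω
  rcases isEmpty_or_nonempty Ω with hΩ | hΩ
  · refine ⟨⟨fun x => isEmptyElim x⟩, fun g _ => ?_⟩
    rw [show g = 1 from FaithfulSMul.eq_of_smul_eq_smul fun y : Ω => isEmptyElim y]
    exact Subgroup.one_mem _
  set D := Subgroup.closure {g : G | ∀ ω : Ω, g • ω ≠ ω} with hD
  set fx : G → ℕ := fun g => Fintype.card (MulAction.fixedBy Ω g) with hfx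
  have hone : ∀ g : G, g ∉ D → 1 ≤ fx g := by
    intro g hg
    by_contra h
    refine hg (Subgroup.subset_closure fun ω hω => h ?_)
    exact Fintype.card_pos_iff.2 ⟨⟨ω, hω⟩⟩
  have hG : ∑ g : G, fx g = Nat.card G := by
    rw [hfx, MulAction.sum_card_fixedBy_eq_card_orbits_mul_card_group G Ω]
    have : Fintype.card (Quotient (MulAction.orbitRel G Ω)) = 1 := by
      rw [Fintype.card_eq_one_iff]
      obtain ⟨a⟩ := hΩ
      refine ⟨Quotient.mk'' a, fun q => ?_⟩
      induction q using Quotient.inductionOn' with
      | h b => exact Quotient.sound' (MulAction.orbitRel_apply.2 (MulAction.exists_smul_eq G a b))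
    rw [this, one_mul, Nat.card_eq_fintype_card]
  set s := Fintype.card (Quotient (MulAction.orbitRel D Ω)) with hs
  have hDsum : ∑ g ∈ Finset.univ.filter (· ∈ D), fx g = s * Nat.card D := by
    rw [Nat.card_eq_fintype_card, hs, ← MulAction.sum_card_fixedBy_eq_card_orbits_mul_card_group D Ω,
      Finset.sum_subtype (p := fun g => g ∈ D) _ (fun g => by simp)]
    exact Finset.sum_congr rfl fun g _ => rfl
  have hsplit := Finset.sum_filter_add_sum_filter_not (Finset.univ : Finset G) (· ∈ D) fx
  rw [hG, hDsum] at hsplit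
  have hcard : Nat.card D + (Finset.univ.filter (fun g : G => g ∉ D)).card = Nat.card G := by
    rw [Nat.card_eq_fintype_card, Nat.card_eq_fintype_card, Fintype.card_subtype, ← Finset.card_univ (α := G)]
    exact Finset.card_filter_add_card_filter_not _
  have hrest : (Finset.univ.filter (fun g : G => g ∉ D)).card ≤ ∑ g ∈ Finset.univ.filter (fun g => g ∉ D), fx g := by
    rw [Finset.card_eq_sum_ones]
    exact Finset.sum_le_sum fun g hg => hone g (Finset.mem_filter.1 hg).2
  have hspos : 0 < s := Fintype.card_pos_iff.2 (hΩ.map Quotient.mk'')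
  have hs1 : s = 1 := by
    by_contra h
    have h2 : 2 * Nat.card D ≤ s * Nat.card D := Nat.mul_le_mul_right _ (by omega)
    have : 0 < Nat.card D := Nat.card_pos
    omega
  refine ⟨⟨fun x y => ?_⟩, fun g hg => ?_⟩
  · rw [hs] at hs1
    have hsub : Subsingleton (Quotient (MulAction.orbitRel D Ω)) :=
      Fintype.card_le_one_iff_subsingleton.1 hs1.le
    exact MulAction.orbitRel_apply.1 (Quotient.exact' (hsub.elim (Quotient.mk'' y) (Quotient.mk'' x)))
  · by_contra hgD
    apply hg
    rw [hs1, one_mul] at hsplit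
    have hsum : ∑ g ∈ Finset.univ.filter (fun g => g ∉ D), fx g = ∑ _g ∈ Finset.univ.filter (fun g : G => g ∉ D), 1 := by
      rw [← Finset.card_eq_sum_ones]; omega
    have := (Finset.sum_eq_sum_iff_of_le (fun i hi => hone i (Finset.mem_filter.1 hi).2)).1 hsum.symm g
      (Finset.mem_filter.2 ⟨Finset.mem_univ g, hgD⟩)
    rw [Nat.card_eq_fintype_card]
    exact this.symm

end Cfsg.Agent.S3546
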