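import Cfsg.Statements.S3550
import Cfsg.Agent.Lib.Perm.DerangementSubgroup.Main

set_option autoImplicit false
open Cfsg

namespace Cfsg.Agent.S3550

/-- Let G act faithfully and primitively on a finite set with n ≥ 2 points and suppose G has no non-trivial abelian normal subgroup (G is not of affine type). Let D be the subgroup generated by the derangements. Then the index of D in G is at most √n − 1. -/
theorem result {G Ω : Type*} [Group G] [Finite G] [MulAction G Ω] [FaithfulSMul G Ω] [Finite Ω]
    (hprim : MulAction.IsPreprimitive G Ω) (hΩ : 2 ≤ Nat.card Ω) (hna : ∀ N : Subgroup G, N.Normal → IsMulCommutative ↥N → N = ⊥) :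
    ((Subgroup.closure {g : G | ∀ ω : Ω, g • ω ≠ ω}).index : ℝ) ≤ Real.sqrt (Nat.card Ω) - 1 := by
  classical
  haveI := Fintype.ofFinite Ω
  haveI : MulAction.IsPretransitive G Ω := hprim.toIsPretransitive
  rw [Nat.card_eq_fintype_card] at hΩ ⊢
  by_contra hlt
  set m := (Subgroup.closure {g : G | ∀ ω : Ω, g • ω ≠ ω}).index with hmdef
  have key : Fintype.card Ω < (m + 1) ^ 2 := by
    by_contra hle
    push Not at hle
    refine hlt ?_
    have h1 : ((m : ℝ) + 1) ≤ Real.sqrt (Fintype.card Ω) := by
      rw [Real.le_sqrt (by positivity) (by positivity)]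
      exact_mod_cast hle
    linarith
  rcases Nat.lt_or_ge m 2 with hm | hm
  · -- at most three points
    have hm1 : m = 1 := by
      have : m ≠ 0 := Subgroup.index_ne_zero_of_finite
      omega
    rw [hm1] at key
    haveI : Nontrivial Ω := Fintype.one_lt_card_iff_nontrivial.1 (by omega)
    haveI : Nontrivial G := by
      obtain ⟨a, b, hab⟩ := exists_pair_ne Ω
      obtain ⟨g, hg⟩ := MulAction.exists_smul_eq G a b
      exact ⟨g, 1, fun e => hab (by rw [← hg, e, one_smul])⟩
    obtain ⟨N, hN, hNc, hN1⟩ := Cfsg.Lib.DerSub.exists_abelian_normal_small (G := G) (Ω := Ω)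
      (by norm_num at key; omega)
    exact hN1 (hna N hN hNc)
  · obtain ⟨S, hS, hS1, hSc, -⟩ := Cfsg.Lib.DerSub.derSub_structure (G := G) (Ω := Ω) hm key
    exact hS1 (hna S hS hSc)

end Cfsg.Agent.S3550
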