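import Cfsg.Statements.S3554
import Mathlib

set_option autoImplicit false
open Cfsg

namespace Cfsg.Agent.S3554

/-- Let G act faithfully and transitively on a finite set and suppose G has a non-trivial cyclic normal subgroup. Then some element of G of prime order fixes no point. -/
theorem result {G Ω : Type*} [Group G] [Finite G] [MulAction G Ω] [FaithfulSMul G Ω] [Finite Ω]
    (htrans : MulAction.IsPretransitive G Ω) (C : Subgroup G) (hC : C.Normal) (hC1 : C ≠ ⊥) (hcyc : IsCyclic ↥C) :
    ∃ g : G, (orderOf g).Prime ∧ ∀ ω : Ω, g • ω ≠ ω := by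
  classical
  obtain ⟨⟨c, hc⟩, hc1⟩ : ∃ c : C, c ≠ 1 := by
    haveI := C.nontrivial_iff_ne_bot.2 hC1
    exact exists_ne 1
  have hc1' : c ≠ 1 := fun h => hc1 (Subtype.ext h)
  set p := (orderOf c).minFac with hp
  have hpp : p.Prime := Nat.minFac_prime (by rw [Ne, orderOf_eq_one_iff]; exact hc1')
  haveI := Fact.mk hpp
  set z := c ^ (orderOf c / p) with hz
  have hzo : orderOf z = p := by
    rw [hz, orderOf_pow, Nat.gcd_eq_right (Nat.div_dvd_of_dvd (Nat.minFac_dvd _)),
      Nat.div_div_self (Nat.minFac_dvd _) (orderOf_pos c).ne']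
  have hzC : z ∈ C := C.pow_mem hc _
  have hzp : z ^ p = 1 := hzo ▸ pow_orderOf_eq_one z
  -- the subgroup generated by `z` is normal
  have huniq : ∀ y ∈ C, y ^ p = 1 → y ∈ Subgroup.zpowers z := by
    intro y hy hyp
    by_contra hn
    letI := Fintype.ofFinite C
    have hcard := IsCyclic.card_pow_eq_one_le (α := C) hpp.pos
    have hle : (insert (⟨y, hy⟩ : C) ((Finset.univ : Finset (Fin p)).image fun i => (⟨z, hzC⟩ : C) ^ i.1)).card ≤ p := by
      refine le_trans (Finset.card_le_card ?_) hcard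
      intro w hw
      rw [Finset.mem_filter]
      refine ⟨Finset.mem_univ _, ?_⟩
      rcases Finset.mem_insert.1 hw with rfl | hw
      · exact Subtype.ext (by simpa using hyp)
      · obtain ⟨i, -, rfl⟩ := Finset.mem_image.1 hw
        rw [← pow_mul, mul_comm, pow_mul]
        apply Subtype.ext
        simp [hzp]
    rw [Finset.card_insert_of_notMem, Finset.card_image_of_injective, Finset.card_univ, Fintype.card_fin] at hle
    · omega
    · intro i j hij
      have h1 : z ^ i.1 = z ^ j.1 := by simpa using congrArg Subtype.val hij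
      exact Fin.ext (pow_injOn_Iio_orderOf (i.2.trans_le hzo.ge) (j.2.trans_le hzo.ge) h1)
    · intro hmem
      obtain ⟨i, -, hi⟩ := Finset.mem_image.1 hmem
      exact hn ⟨(i.1 : ℤ), by simpa using congrArg Subtype.val hi⟩
  refine ⟨z, by rw [hzo]; exact hpp, fun ω hω => ?_⟩
  have hall : ∀ y : Ω, z • y = y := by
    intro y
    obtain ⟨g, rfl⟩ := MulAction.exists_smul_eq G ω y
    obtain ⟨k, hk⟩ := huniq (g⁻¹ * z * g) (by simpa using hC.conj_mem z hzC g⁻¹) (by
      have h1 : (g⁻¹ * z * g⁻¹⁻¹) ^ p = g⁻¹ * z ^ p * g⁻¹⁻¹ := conj_pow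
      rw [inv_inv] at h1
      rw [h1, hzp]
      group)
    have h2 : (g⁻¹ * z * g) • ω = ω := by
      rw [← hk]
      exact MulAction.mem_fixedBy_zpow hω k
    rw [mul_smul, mul_smul, inv_smul_eq_iff] at h2
    exact h2
  have : z = 1 := FaithfulSMul.eq_of_smul_eq_smul fun y : Ω => by rw [hall, one_smul]
  rw [this, orderOf_one] at hzo
  exact hpp.one_lt.ne hzo

end Cfsg.Agent.S3554
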