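import Cfsg.Agent.Lib.Solv.Frobenius
-- Template for statement S3555 (row 3555; see /opt/grader/pristine/manifest.json for weights).
-- Copy to Cfsg/Agent/S3555.lean and replace the sorry. The statement below is byte-identical to the frozen
-- statement Cfsg.CfsgFrozen.S3555 (Cfsg/Statements/S3555.lean; the theorem Cfsg.perm9_all_derangements_involutions);
-- the grader kernel-checks Cfsg.Agent.S3555.result against that frozen type. Keep the theorem IN THIS FILE
-- (a `result` declared elsewhere and merely imported here is not credited); helpers may live anywhere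
-- under Cfsg/Agent/.
import Cfsg.Statements.S3555
-- import your own Cfsg.Agent.* helpers here

set_option autoImplicit false
open Cfsg

namespace Cfsg.Agent.S3555

open Finset

variable {G Ω : Type*} [Group G]

theorem mul_comm_of_three {x y : G} (e1 : x ^ 2 = 1) (e2 : y ^ 2 = 1) (e3 : (x * y) ^ 2 = 1) :
    x * y = y * x := by
  rw [sq] at e1 e2 e3
  calc x * y = x * ((x * y) * (x * y)) * y := by rw [e3, mul_one]
    _ = (x * x) * y * x * (y * y) := by group
    _ = y * x := by rw [e1, e2, one_mul, mul_one]

theorem mul_comm_of_sq (h : ∀ g : G, g ^ 2 = 1) (x y : G) : x * y = y * x :=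
  mul_comm_of_three (h x) (h y) (h (x * y))

/-- The number of fixed points. -/
noncomputable def fixCount (Ω : Type*) [MulAction G Ω] [Fintype Ω] [DecidableEq Ω] (g : G) : ℕ :=
  #{a : Ω | g • a = a}

variable [MulAction G Ω] [Fintype G] [Fintype Ω] [DecidableEq Ω]

theorem sum_fixCount (ht : MulAction.IsPretransitive G Ω) [Nonempty Ω] :
    ∑ g : G, fixCount Ω g = Fintype.card G := by
  classical
  obtain ⟨ω⟩ := ‹Nonempty Ω›
  have h1 := MulAction.sum_card_fixedBy_eq_card_orbits_mul_card_group G Ω
  have h2 : Fintype.card (Quotient (MulAction.orbitRel G Ω)) = 1 := by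
    rw [Fintype.card_eq_one_iff]
    refine ⟨Quotient.mk'' ω, fun q => ?_⟩
    induction q using Quotient.inductionOn' with
    | h a => exact Quotient.sound' (ht.exists_smul_eq ω a)
  rw [h2, one_mul] at h1
  rw [← h1]
  refine Finset.sum_congr rfl fun g _ => ?_
  rw [fixCount, ← Fintype.card_subtype]
  rfl

theorem sum_sq_le :
    ∑ g : G, fixCount Ω (g * g) ≤ ∑ g : G, fixCount Ω g * fixCount Ω g := by
  classical
  have hL : ∀ g : G, fixCount Ω (g * g) = ∑ a : Ω, ∑ b : Ω, if g • a = b ∧ g • b = a then 1 else 0 := by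
    intro g
    rw [fixCount, Finset.card_filter]
    refine Finset.sum_congr rfl fun a _ => ?_
    rw [Finset.sum_eq_single (g • a) (fun b _ hb => if_neg fun h => hb h.1.symm) (by simp)]
    simp [mul_smul]
  have hR : ∀ g : G, fixCount Ω g * fixCount Ω g =
      ∑ a : Ω, ∑ b : Ω, if g • a = a ∧ g • b = b then 1 else 0 := by
    intro g
    rw [fixCount, Finset.card_filter, Finset.sum_mul_sum]
    refine Finset.sum_congr rfl fun a _ => Finset.sum_congr rfl fun b _ => ?_
    by_cases h1 : g • a = a <;> by_cases h2 : g • b = b <;> simp [h1, h2]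
  simp only [hL, hR]
  rw [Finset.sum_comm]
  conv_rhs => rw [Finset.sum_comm]
  refine Finset.sum_le_sum fun a _ => ?_
  rw [Finset.sum_comm]
  conv_rhs => rw [Finset.sum_comm]
  refine Finset.sum_le_sum fun b _ => ?_
  simp only [Finset.sum_boole, Nat.cast_id]
  by_cases h : ∃ g₀ : G, g₀ • a = b ∧ g₀ • b = a
  · obtain ⟨g₀, h1, h2⟩ := h
    refine Finset.card_le_card_of_injOn (fun g => g₀⁻¹ * g) (fun g hg => ?_)
      (fun x _ y _ hxy => mul_left_cancel hxy)
    simp only [Finset.coe_filter, Finset.mem_univ, true_and, Set.mem_setOf_eq] at hg ⊢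
    exact ⟨by rw [mul_smul, hg.1, inv_smul_eq_iff, h1], by rw [mul_smul, hg.2, inv_smul_eq_iff, h2]⟩
  · push Not at h
    rw [Finset.filter_false_of_mem (fun g _ hg => h g hg.1 hg.2)]
    simp

omit [Fintype G] [Fintype Ω] [DecidableEq Ω] in
theorem eq_one_of_two_fixed [Finite G] [FaithfulSMul G Ω] [Finite Ω]
    (ht : MulAction.IsPretransitive G Ω)
    (hinv : ∀ g : G, (∀ ω : Ω, g • ω ≠ ω) → orderOf g = 2) (g : G) (a b : Ω) (hab : a ≠ b)
    (ha : g • a = a) (hb : g • b = b) : g = 1 := by
  classical
  haveI := Fintype.ofFinite G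
  haveI := Fintype.ofFinite Ω
  haveI : Nonempty Ω := ⟨a⟩
  set n : ℤ := (Fintype.card Ω : ℤ) with hn
  set π : G → ℤ := fun g => (fixCount Ω g : ℤ) with hπ
  have hπn : ∀ g : G, π g ≤ n := fun g => by
    simp only [hπ, hn, fixCount]
    exact_mod_cast Finset.card_le_univ _
  have hzero : ∀ g : G, π g = 0 → ∀ ω : Ω, g • ω ≠ ω := by
    intro g hg ω hω
    simp only [hπ, fixCount, Int.natCast_eq_zero, Finset.card_eq_zero] at hg
    exact (Finset.eq_empty_iff_forall_notMem.1 hg ω) (by simp [hω])
  have hmono : ∀ g : G, π g ≤ π (g * g) := fun g => by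
    simp only [hπ, fixCount]
    exact_mod_cast Finset.card_le_card fun ω hω => by
      simp only [Finset.mem_filter, Finset.mem_univ, true_and] at hω ⊢
      rw [mul_smul, hω, hω]
  set c : G → ℤ := fun g => if π g = 0 then 0 else (π g - 1) * (π g - n) with hc
  have hle : ∀ g : G, c g ≤ 0 := by
    intro g
    simp only [hc]
    split_ifs with h
    · exact le_rfl
    · have h0 : 1 ≤ π g := by
        have : 0 ≤ π g := by simp [hπ]
        omega
      exact mul_nonpos_of_nonneg_of_nonpos (by omega) (by have := hπn g; omega)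
  have hptw : ∀ g : G, π g * π g ≤ π (g * g) + (π g * n - n + c g) := by
    intro g
    simp only [hc]
    split_ifs with h
    · have h2 : g * g = 1 := by
        have := pow_orderOf_eq_one g
        rwa [hinv g (hzero g h), sq] at this
      have h1 : π (g * g) = n := by
        simp [h2, hπ, hn, fixCount]
      rw [h, h1]; simp
    · have := hmono g
      linarith [show (π g - 1) * (π g - n) = π g * π g - π g * n - π g + n by ring]
  have hS : ∑ g : G, π (g * g) ≤ ∑ g : G, π g * π g := by
    simp only [hπ]; exact_mod_cast sum_sq_le (G := G) (Ω := Ω)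
  have hS1 : ∑ g : G, π g = (Fintype.card G : ℤ) := by
    simp only [hπ]; exact_mod_cast sum_fixCount ht
  have h1 := Finset.sum_le_sum (s := (Finset.univ : Finset G)) (fun g _ => hptw g)
  rw [Finset.sum_add_distrib, Finset.sum_add_distrib, Finset.sum_sub_distrib, ← Finset.sum_mul, hS1,
    Finset.sum_const, Finset.card_univ, nsmul_eq_mul] at h1
  have hc0 : ∑ g : G, c g = 0 :=
    le_antisymm (Finset.sum_nonpos fun g _ => hle g) (by linarith)
  have hcg := (Finset.sum_eq_zero_iff_of_nonpos fun g _ => hle g).1 hc0 g (Finset.mem_univ g)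
  have h2 : 2 ≤ π g := by
    simp only [hπ, fixCount]
    have : ({a, b} : Finset Ω) ⊆ (Finset.univ.filter fun x => g • x = x : Finset Ω) := by
      intro x hx
      simp only [Finset.mem_insert, Finset.mem_singleton] at hx
      rcases hx with rfl | rfl <;> simp [ha, hb]
    have := Finset.card_le_card this
    rw [Finset.card_pair hab] at this
    exact_mod_cast this
  simp only [hc, if_neg (show π g ≠ 0 by omega), mul_eq_zero] at hcg
  have h3 : π g = n := by rcases hcg with h | h <;> omega
  simp only [hπ, hn, fixCount, Nat.cast_inj, Finset.card_eq_iff_eq_univ] at h3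
  refine eq_of_smul_eq_smul (α := Ω) fun x => ?_
  rw [one_smul]
  have := Finset.mem_univ x
  rw [← h3] at this
  simpa using this

/-- Let G act faithfully and transitively on a finite set and suppose every element of G fixing no point is an involution. Then either G is an elementary abelian 2-group, or G is a Frobenius group whose Frobenius kernel is an elementary abelian 2-group: G has a Frobenius complement H, and the elements lying in no conjugate of H, together with the identity, pairwise commute and square to the identity. -/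
theorem result {G Ω : Type*} [Group G] [Finite G] [MulAction G Ω] [FaithfulSMul G Ω] [Finite Ω]
    (htrans : MulAction.IsPretransitive G Ω) (hinv : ∀ g : G, (∀ ω : Ω, g • ω ≠ ω) → orderOf g = 2) :
    (IsMulCommutative G ∧ ∀ g : G, g ^ 2 = 1) ∨
    (∃ H : Subgroup G, Cfsg.IsFrobeniusComplement H ∧
      (∀ x ∈ Cfsg.frobeniusKernel H, x ^ 2 = 1) ∧
      ∀ x ∈ Cfsg.frobeniusKernel H, ∀ y ∈ Cfsg.frobeniusKernel H, x * y = y * x) := by
  classical
  haveI := Fintype.ofFinite G
  haveI := Fintype.ofFinite Ω
  obtain ⟨ω, -⟩ : ∃ ω : Ω, (1 : G) • ω = ω := by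
    by_contra h
    push Not at h
    have := hinv 1 h
    simp at this
  have hone := eq_one_of_two_fixed htrans hinv
  have hfix : ∀ (g : G) (a : Ω), g • a = a → ∃ h : G, h⁻¹ * g * h ∈ MulAction.stabilizer G ω := by
    intro g a ha
    obtain ⟨h, rfl⟩ := htrans.exists_smul_eq ω a
    exact ⟨h, by rw [MulAction.mem_stabilizer_iff, mul_smul, mul_smul, ha, inv_smul_smul]⟩
  by_cases hH : MulAction.stabilizer G ω = ⊥
  · refine Or.inl ?_
    have hsq : ∀ g : G, g ^ 2 = 1 := by
      intro g
      by_cases hg : g = 1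
      · simp [hg]
      · rw [← hinv g fun a ha => hg ?_]
        · exact pow_orderOf_eq_one g
        · obtain ⟨h, hh⟩ := hfix g a ha
          rw [hH, Subgroup.mem_bot] at hh
          simpa [mul_assoc] using congrArg (fun z => h * z * h⁻¹) hh
    exact ⟨⟨⟨fun a b => mul_comm_of_sq hsq a b⟩⟩, hsq⟩
  · refine Or.inr ⟨MulAction.stabilizer G ω, ?_⟩
    have hC : Cfsg.IsFrobeniusComplement (MulAction.stabilizer G ω) := by
      refine ⟨hH, fun htop => hH ?_, fun g hg => (Subgroup.eq_bot_iff_forall _).2 fun x hx => ?_⟩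
      · refine (Subgroup.eq_bot_iff_forall _).2 fun g _ => eq_of_smul_eq_smul (α := Ω) fun a => ?_
        obtain ⟨h, rfl⟩ := htrans.exists_smul_eq ω a
        have h1 : h • ω = ω := MulAction.mem_stabilizer_iff.1 (htop ▸ Subgroup.mem_top h)
        have h2 : g • ω = ω := MulAction.mem_stabilizer_iff.1 (htop ▸ Subgroup.mem_top g)
        rw [one_smul, h1, h2]
      · obtain ⟨hx1, hx2⟩ := Subgroup.mem_inf.1 hx
        rw [Cfsg.Lib.Core.mem_conj_smul, MulAction.mem_stabilizer_iff] at hx2
        refine hone x ω (g • ω) (fun he => hg ?_) (MulAction.mem_stabilizer_iff.1 hx1) ?_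
        · exact MulAction.mem_stabilizer_iff.2 he.symm
        · simpa [mul_smul, smul_eq_iff_eq_inv_smul] using congrArg (fun z => g • z) hx2
    have hK : ∀ x ∈ Cfsg.frobeniusKernel (MulAction.stabilizer G ω), x ^ 2 = 1 := by
      intro x hx
      rcases Cfsg.Lib.Solv.mem_frobeniusKernel_iff.1 hx with rfl | hx
      · simp
      · rw [← hinv x fun a ha => ?_]
        · exact pow_orderOf_eq_one x
        · obtain ⟨h, hh⟩ := hfix x a ha
          exact hx h hh
    refine ⟨hC, hK, fun x hx y hy => ?_⟩
    obtain ⟨K, hKset, -, -⟩ := Cfsg.Lib.Solv.frobenius_theorem hC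
    rw [← hKset] at hx hy
    have hxy : x * y ∈ K := K.mul_mem hx hy
    have e1 := hK x (by rwa [← hKset])
    have e2 := hK y (by rwa [← hKset])
    have e3 := hK (x * y) (by rw [← hKset]; exact hxy)
    exact mul_comm_of_three e1 e2 e3

end Cfsg.Agent.S3555
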