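import Mathlib
import Cfsg.Statements.S3557
import Cfsg.Agent.Lib.PGroup.Basic

set_option autoImplicit false
open Cfsg

namespace Cfsg.Agent.S3557

open MulAction

variable {G Ω : Type*} [Group G] [MulAction G Ω]

theorem central_fixed {P : Subgroup G} {z : P} (hz : z ∈ Subgroup.center P) {a : Ω} (h : z • a = a) :
    ∀ x ∈ orbit P a, z • x = x := by
  rintro _ ⟨g, rfl⟩
  change z • g • a = g • a
  rw [← mul_smul, ← Subgroup.mem_center_iff.1 hz g, mul_smul, h]

theorem central_free {P : Subgroup G} {z : P} (hz : z ∈ Subgroup.center P) {a : Ω} (h : z • a ≠ a) :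
    ∀ x ∈ orbit P a, z • x ≠ x := by
  intro x hx he
  exact h (central_fixed hz he a (by rw [orbit_eq_iff.2 hx]; exact mem_orbit_self a))

theorem orbit_mem_iff {P : Subgroup G} {a x : Ω} (u : P) : u • x ∈ orbit P a ↔ x ∈ orbit P a := by
  constructor
  · rintro ⟨g, hg⟩
    exact ⟨u⁻¹ * g, by simp only at hg ⊢; rw [mul_smul, hg, inv_smul_smul]⟩
  · rintro ⟨g, rfl⟩
    exact ⟨u * g, mul_smul _ _ _⟩

/-- The case of a central element moving one orbit and all central elements fixing the other. -/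
theorem mixed [Finite G] [FaithfulSMul G Ω] [Finite Ω] {p : ℕ} [Fact p.Prime]
    (hcl : ∀ σ : Equiv.Perm Ω, (∀ a b : Ω, ∃ g : G, σ a = g • a ∧ σ b = g • b) → ∃ g : G, ∀ a : Ω, σ a = g • a)
    (P : Subgroup G) (hP : IsPGroup p P) (a a' : Ω)
    (hcover : ∀ x, x ∈ orbit P a ∨ x ∈ orbit P a') (hdis : ∀ x, ¬ (x ∈ orbit P a ∧ x ∈ orbit P a'))
    (ha : Nat.card (orbit P a) = p ^ 2) (ha' : Nat.card (orbit P a') = p ^ 2)
    (z : P) (hz : z ∈ Subgroup.center P) (hzp : z ^ p = 1) (hza : z • a = a) (hza' : z • a' ≠ a')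
    (hall : ∀ w ∈ Subgroup.center P, w • a' = a' → w = 1) :
    ∃ g : G, orderOf g = p ∧ ∀ ω : Ω, g • ω ≠ ω := by
  classical
  have hp := (Fact.out : p.Prime)
  let B := orbit P a
  let K : Subgroup P := (toPermHom P B).ker
  have hKmem : ∀ k : P, k ∈ K ↔ ∀ x ∈ B, k • x = x := fun k => by
    rw [MonoidHom.mem_ker]
    constructor
    · intro h x hx
      exact congrArg Subtype.val (Equiv.ext_iff.1 h ⟨x, hx⟩)
    · intro h
      exact Equiv.ext fun x => Subtype.ext (h x x.2)
  have hKn : K.Normal := inferInstance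
  have hzK : z ∈ K := (hKmem z).2 (central_fixed hz hza)
  set S := stabilizer P a'
  have hSidx : S.index = p ^ 2 := by rw [index_stabilizer, ← Nat.card_coe_set_eq]; exact ha'
  set J := S ⊔ K with hJ
  have hJidx : J.index = 1 ∨ J.index = p := by
    have h1 : J.index ∣ p ^ 2 := hSidx ▸ Subgroup.index_dvd_of_le le_sup_left
    obtain ⟨j, hj, hJj⟩ := (Nat.dvd_prime_pow hp).1 h1
    have h2 : J.index ≠ p ^ 2 := fun h => by
      have heq : S = J := by
        refine Subgroup.eq_of_le_of_card_ge le_sup_left (le_of_eq ?_)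
        have e1 := S.card_mul_index
        have e2 := J.card_mul_index
        rw [hSidx, ← h, ← e2] at e1
        exact (Nat.eq_of_mul_eq_mul_right (Nat.pos_of_ne_zero J.index_ne_zero_of_finite) e1).symm
      have : z ∈ S := heq ▸ Subgroup.mem_sup_right hzK
      exact hza' this
    interval_cases j
    · left; simpa using hJj
    · right; simpa using hJj
    · exact absurd hJj h2
  haveI hJn : J.Normal := by
    rcases hJidx with h | h
    · exact Subgroup.normal_of_index_eq_one h
    · refine Subgroup.normal_of_index_eq_minFac_card ?_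
      obtain ⟨k, hk⟩ := IsPGroup.iff_card.1 hP
      rcases k with _ | k
      · have := J.index_dvd_card
        rw [hk, h, pow_zero] at this
        exact absurd (Nat.dvd_one.1 this) hp.one_lt.ne'
      · rw [hk, Nat.pow_minFac k.succ_ne_zero, hp.minFac_eq, h]
  have hne : J.map (QuotientGroup.mk' K) ≠ ⊥ := by
    intro h
    have hJK : J ≤ K := by rwa [Subgroup.map_eq_bot_iff, QuotientGroup.ker_mk'] at h
    have h1 : K.index = 1 ∨ K.index = p := by
      rw [le_antisymm (le_sup_right : K ≤ J) hJK]; exact hJidx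
    have h2 : p ^ 2 ≤ K.index := by
      have hle : K ≤ stabilizer P a := fun k hk => (hKmem k).1 hk a (mem_orbit_self a)
      have := Nat.le_of_dvd (Nat.pos_of_ne_zero K.index_ne_zero_of_finite) (Subgroup.index_dvd_of_le hle)
      rwa [index_stabilizer, ← Nat.card_coe_set_eq, ha] at this
    have := hp.one_lt
    rcases h1 with h1 | h1 <;> rw [h1] at h2 <;> nlinarith
  haveI : (J.map (QuotientGroup.mk' K)).Normal := hJn.map _ (QuotientGroup.mk'_surjective K)
  obtain ⟨ū, hūJ, hūc, hūo⟩ := Cfsg.Lib.PGroup.exists_mem_center_orderOf_eq (hP.to_quotient K) hne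
  obtain ⟨u, huJ, rfl⟩ := Subgroup.mem_map.1 hūJ
  have hcomm : ∀ g : P, ∀ x ∈ B, u • g • x = g • u • x := by
    intro g x hx
    have h1 : (g * u)⁻¹ * (u * g) ∈ K := by
      rw [← QuotientGroup.eq]
      exact Subgroup.mem_center_iff.1 hūc (g : P ⧸ K)
    have := (hKmem _).1 h1 x hx
    rw [mul_smul, inv_smul_eq_iff] at this
    rw [← mul_smul, ← mul_smul]; exact this
  have huB : ∀ x ∈ B, u • x ∈ B := fun x hx => (orbit_mem_iff u).2 hx
  have hufree : ∀ x ∈ B, u • x ≠ x := by
    intro x hx he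
    have huK : u ∈ K := by
      rw [hKmem]
      intro y hy
      obtain ⟨g, rfl⟩ : y ∈ orbit P x := by rw [orbit_eq_iff.2 hx]; exact hy
      change u • g • x = g • x
      rw [hcomm g x hx, he]
    rw [show QuotientGroup.mk' K u = 1 from (QuotientGroup.eq_one_iff u).2 huK, orderOf_one] at hūo
    exact hp.one_lt.ne hūo
  have hupow : ∀ x ∈ B, u ^ p • x = x := by
    intro x hx
    refine (hKmem _).1 ?_ x hx
    rw [← QuotientGroup.eq_one_iff, QuotientGroup.mk_pow]
    exact hūo ▸ pow_orderOf_eq_one _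
  let f : Ω → Ω := fun x => if x ∈ B then u • x else z • x
  have hzB : ∀ x, x ∉ B → z • x ∉ B := fun x hx h => hx ((orbit_mem_iff z).1 h)
  have hfB : ∀ x ∈ B, ∀ n : ℕ, f^[n] x = u ^ n • x := by
    intro x hx n
    induction n with
    | zero => simp
    | succ n ih =>
      rw [Function.iterate_succ_apply', ih, pow_succ', mul_smul]
      exact if_pos ((orbit_mem_iff _).2 hx)
  have hfB' : ∀ x, x ∉ B → ∀ n : ℕ, f^[n] x = z ^ n • x := by
    intro x hx n
    induction n with
    | zero => simp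
    | succ n ih =>
      rw [Function.iterate_succ_apply', ih, pow_succ', mul_smul]
      exact if_neg (fun h => hx ((orbit_mem_iff _).1 h))
  have hfp : ∀ x, f^[p] x = x := fun x => by
    by_cases hx : x ∈ B
    · rw [hfB x hx, hupow x hx]
    · rw [hfB' x hx, hzp, one_smul]
  have hfinj : Function.Injective f := by
    intro x y h
    have h' := congrArg f^[p - 1] h
    rw [← Function.iterate_succ_apply, ← Function.iterate_succ_apply, show (p - 1).succ = p by have := hp.pos; omega,
      hfp, hfp] at h'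
    exact h'
  let σ : Equiv.Perm Ω := Equiv.ofBijective f (Finite.injective_iff_bijective.1 hfinj)
  have hσ : ∀ x, σ x = f x := fun _ => rfl
  have hcross : ∀ b ∈ B, ∀ b', b' ∉ B → ∃ g : G, σ b = g • b ∧ σ b' = g • b' := by
    intro b hb b' hb'
    have hb'' : b' ∈ orbit P a' := (hcover b').resolve_left hb'
    obtain ⟨g, rfl⟩ := hb''
    -- conjugate the decomposition of u
    have huJ' : g⁻¹ * u * g ∈ (S : Subgroup P) ⊔ K := by
      have := hJn.conj_mem u huJ g⁻¹
      rwa [inv_inv] at this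
    rw [sup_comm, ← SetLike.mem_coe, Subgroup.normal_mul] at huJ'
    obtain ⟨k, hk, v, hv, hkv⟩ := huJ'
    refine ⟨((z * (g * v * g⁻¹) : P) : G), ?_, ?_⟩
    · rw [hσ]
      change f b = (z * (g * v * g⁻¹)) • b
      have hvb : (g * v * g⁻¹) • b = u • b := by
        have hgb : g⁻¹ • b ∈ B := (orbit_mem_iff _).2 hb
        have hk' := (hKmem k).1 hk (v • g⁻¹ • b) ((orbit_mem_iff _).2 hgb)
        rw [← mul_smul, show k * v = g⁻¹ * u * g from hkv] at hk'
        rw [mul_smul, mul_smul, ← hk', ← mul_smul, ← mul_smul]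
        congr 1; group
      rw [mul_smul, hvb, (hKmem z).1 hzK _ (huB b hb)]
      exact if_pos hb
    · rw [hσ]
      change f (g • a') = (z * (g * v * g⁻¹)) • g • a'
      rw [← mul_smul (z * _), show z * (g * v * g⁻¹) * g = z * g * v by group, mul_smul, mul_smul,
        show v • a' = a' from hv]
      exact if_neg hb'
  have hσcl : ∀ x y : Ω, ∃ g : G, σ x = g • x ∧ σ y = g • y := by
    intro x y
    by_cases hx : x ∈ B <;> by_cases hy : y ∈ B
    · exact ⟨(u : G), if_pos hx, if_pos hy⟩
    · exact hcross x hx y hy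
    · obtain ⟨g, h1, h2⟩ := hcross y hy x hx; exact ⟨g, h2, h1⟩
    · exact ⟨(z : G), if_neg hx, if_neg hy⟩
  obtain ⟨g, hg⟩ := hcl σ hσcl
  have hgfree : ∀ ω : Ω, g • ω ≠ ω := by
    intro ω
    rw [← hg ω, hσ]
    by_cases hω : ω ∈ B
    · simp only [f, if_pos hω]; exact hufree ω hω
    · simp only [f, if_neg hω]
      exact central_free hz hza' ω ((hcover ω).resolve_left hω)
  refine ⟨g, orderOf_eq_prime ?_ (fun h => hgfree a (by rw [h, one_smul])), hgfree⟩
  apply FaithfulSMul.eq_of_smul_eq_smul (α := Ω)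
  intro ω
  rw [one_smul]
  have : ∀ n : ℕ, g ^ n • ω = f^[n] ω := by
    intro n
    induction n with
    | zero => simp
    | succ n ih => rw [Function.iterate_succ_apply', pow_succ', mul_smul, ih, ← hg, hσ]
  rw [this, hfp]

theorem main [Finite G] [FaithfulSMul G Ω] [Finite Ω] (htrans : IsPretransitive G Ω) {p : ℕ} [Fact p.Prime]
    (hcard : Nat.card Ω = 2 * p ^ 2)
    (hcl : ∀ σ : Equiv.Perm Ω, (∀ a b : Ω, ∃ g : G, σ a = g • a ∧ σ b = g • b) → ∃ g : G, ∀ a : Ω, σ a = g • a) :
    ∃ g : G, orderOf g = p ∧ ∀ ω : Ω, g • ω ≠ ω := by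
  classical
  have hp := (Fact.out : p.Prime)
  obtain ⟨P⟩ : Nonempty (Sylow p G) := inferInstance
  have hP : IsPGroup p (P : Subgroup G) := P.isPGroup'
  have horb : ∀ x : Ω, ∃ j, 2 ≤ j ∧ Nat.card (orbit (P : Subgroup G) x) = p ^ j := by
    intro x
    obtain ⟨j, hj⟩ := hP.card_orbit x
    refine ⟨j, ?_, hj⟩
    set e := (Nat.card G).factorization p
    obtain ⟨f, hf⟩ := IsPGroup.iff_card.1 (hP.to_subgroup (stabilizer (P : Subgroup G) x))
    have hPc : Nat.card (P : Subgroup G) = p ^ e := P.card_eq_multiplicity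
    have h1 := (stabilizer (P : Subgroup G) x).card_mul_index
    rw [index_stabilizer, ← Nat.card_coe_set_eq, hj, hf, hPc, ← pow_add] at h1
    have h2 := Nat.pow_right_injective hp.two_le h1
    have h3 : p ^ f ∣ Nat.card (stabilizer G x) := by
      rw [← hf]
      refine Subgroup.card_dvd_of_injective
        (((P : Subgroup G).subtype.comp (stabilizer (P : Subgroup G) x).subtype).codRestrict _
          fun y => y.2) ?_
      intro y y' h
      exact Subtype.ext (Subtype.ext (congrArg (fun q : stabilizer G x => (q : G)) h))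
    have h4 : p ^ (f + 2) ∣ Nat.card G := by
      have h5 := (stabilizer G x).card_mul_index
      rw [index_stabilizer_of_transitive, hcard] at h5
      rw [← h5, pow_add]
      exact Nat.mul_dvd_mul h3 (dvd_mul_left _ 2)
    have := (hp.pow_dvd_iff_le_factorization Nat.card_pos.ne').1 h4
    omega
  have hz_exists : ∃ z : (P : Subgroup G), z ∈ Subgroup.center (P : Subgroup G) ∧ orderOf z = p := by
    have hne : (⊤ : Subgroup (P : Subgroup G)) ≠ ⊥ := by
      intro h
      haveI : Nonempty Ω := Finite.card_pos_iff.1 (by rw [hcard]; have := hp.pos; positivity)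
      obtain ⟨x⟩ := ‹Nonempty Ω›
      obtain ⟨j, hj2, hj⟩ := horb x
      have h1 : ∀ x : (P : Subgroup G), x = 1 := fun x => Subgroup.mem_bot.1 (h ▸ Subgroup.mem_top x : x ∈ (⊥ : Subgroup (P : Subgroup G)))
      have hsub : Subsingleton (P : Subgroup G) := ⟨fun g g' => (h1 g).trans (h1 g').symm⟩
      have : Nat.card (orbit (P : Subgroup G) x) ≤ 1 := by
        refine Finite.card_le_one_iff_subsingleton.2 ⟨fun ⟨y, g, hy⟩ ⟨y', g', hy'⟩ => ?_⟩
        subst hy; subst hy'
        exact Subtype.ext (by rw [Subsingleton.elim g g'])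
      rw [hj] at this
      have := Nat.one_lt_pow (show j ≠ 0 by omega) hp.one_lt
      omega
    obtain ⟨z, -, hz⟩ := Cfsg.Lib.PGroup.exists_mem_center_orderOf_eq hP hne
    exact ⟨z, hz⟩
  obtain ⟨z, hz, hzo⟩ := hz_exists
  have hzp : z ^ p = 1 := orderOf_dvd_iff_pow_eq_one.1 hzo.dvd
  have hz1 : z ≠ 1 := fun h => by rw [h, orderOf_one] at hzo; exact hp.one_lt.ne hzo
  have hfinish : ∀ w : (P : Subgroup G), w ^ p = 1 → (∀ ω : Ω, w • ω ≠ ω) → ∃ g : G, orderOf g = p ∧ ∀ ω : Ω, g • ω ≠ ω := by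
    intro w hw hfree
    refine ⟨w, ?_, fun ω => hfree ω⟩
    obtain ⟨ω⟩ : Nonempty Ω := Finite.card_pos_iff.1 (by rw [hcard]; have := hp.pos; positivity)
    rw [Subgroup.orderOf_coe]
    exact orderOf_eq_prime hw (fun h => hfree ω (by rw [h, one_smul]))
  obtain ⟨a⟩ : Nonempty Ω := Finite.card_pos_iff.1 (by rw [hcard]; have := hp.pos; positivity)
  by_cases htop : orbit (P : Subgroup G) a = Set.univ
  · refine hfinish z hzp fun ω => ?_
    have hne : z • a ≠ a := fun h => hz1 (Subtype.ext (FaithfulSMul.eq_of_smul_eq_smul (α := Ω) fun x => by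
      rw [OneMemClass.coe_one, one_smul]
      exact central_fixed hz h x (htop ▸ Set.mem_univ x)))
    exact central_free hz hne ω (htop ▸ Set.mem_univ ω)
  obtain ⟨a', ha'⟩ := (Set.ne_univ_iff_exists_notMem _).1 htop
  have hdis : ∀ x, ¬ (x ∈ orbit (P : Subgroup G) a ∧ x ∈ orbit (P : Subgroup G) a') := fun x ⟨h1, h2⟩ =>
    ha' (by rw [← orbit_eq_iff.2 h1, orbit_eq_iff.2 h2]; exact mem_orbit_self a')
  have hge : ∀ x, p ^ 2 ≤ Nat.card (orbit (P : Subgroup G) x) := fun x => by
    obtain ⟨j, hj2, hj⟩ := horb x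
    rw [hj]; exact Nat.pow_le_pow_right hp.pos hj2
  have hsum : Nat.card (orbit (P : Subgroup G) a) + Nat.card (orbit (P : Subgroup G) a') =
      (orbit (P : Subgroup G) a ∪ orbit (P : Subgroup G) a').ncard := by
    rw [Set.ncard_union_eq (Set.disjoint_left.2 fun x h1 h2 => hdis x ⟨h1, h2⟩), Nat.card_coe_set_eq, Nat.card_coe_set_eq]
  have hle : (orbit (P : Subgroup G) a ∪ orbit (P : Subgroup G) a').ncard ≤ 2 * p ^ 2 := by
    rw [← hcard]; exact Set.ncard_le_card _
  have hga := hge a
  have hga' := hge a'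
  have hU : (orbit (P : Subgroup G) a ∪ orbit (P : Subgroup G) a') = Set.univ :=
    Set.eq_of_subset_of_ncard_le (Set.subset_univ _) (by rw [Set.ncard_univ, hcard]; omega)
  have hcover : ∀ x, x ∈ orbit (P : Subgroup G) a ∨ x ∈ orbit (P : Subgroup G) a' := fun x =>
    (hU.ge (Set.mem_univ x) : _)
  have hca : Nat.card (orbit (P : Subgroup G) a) = p ^ 2 := by omega
  have hca' : Nat.card (orbit (P : Subgroup G) a') = p ^ 2 := by omega
  have hboth : ∀ w : (P : Subgroup G), w ∈ Subgroup.center (P : Subgroup G) → w • a = a → w • a' = a' → w = 1 := by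
    intro w hw h1 h2
    refine Subtype.ext (FaithfulSMul.eq_of_smul_eq_smul (α := Ω) fun x => ?_)
    rw [OneMemClass.coe_one, one_smul]
    rcases hcover x with h | h
    · exact central_fixed hw h1 x h
    · exact central_fixed hw h2 x h
  have hord : ∀ w : (P : Subgroup G), w ≠ 1 → ∃ j : ℕ, orderOf (w ^ j) = p := fun w hw => by
    obtain ⟨k, hk⟩ := IsPGroup.iff_orderOf.1 hP w
    rcases k with _ | k
    · rw [pow_zero, orderOf_eq_one_iff] at hk; exact absurd hk hw
    · refine ⟨p ^ k, ?_⟩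
      rw [orderOf_pow' _ (pow_ne_zero _ hp.ne_zero), hk, Nat.gcd_eq_right (pow_dvd_pow p k.le_succ), pow_succ,
        Nat.mul_div_cancel_left _ (pow_pos hp.pos k)]
  -- combine two central elements
  have hcomb : ∀ x y : Ω, (∀ w, w ∈ orbit (P : Subgroup G) x ∨ w ∈ orbit (P : Subgroup G) y) →
      ∀ u : (P : Subgroup G), u ∈ Subgroup.center (P : Subgroup G) → u ^ p = 1 → u • x = x → u • y ≠ y →
      (∀ w ∈ Subgroup.center (P : Subgroup G), w • x = x → w • y = y → w = 1) →
      (∀ w ∈ Subgroup.center (P : Subgroup G), w • y = y → w = 1) ∨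
        ∃ g : G, orderOf g = p ∧ ∀ ω : Ω, g • ω ≠ ω := by
    intro x y hcv u hu hup hux huy hb
    by_cases hall : ∀ w ∈ Subgroup.center (P : Subgroup G), w • y = y → w = 1
    · exact Or.inl hall
    right
    push Not at hall
    obtain ⟨w, hw, hwy, hw1⟩ := hall
    obtain ⟨j, hj⟩ := hord w hw1
    have hwj : (w ^ j) • y = y := (pow_mem (show w ∈ stabilizer (P : Subgroup G) y from hwy) j : _)
    have hwj1 : w ^ j ≠ 1 := fun h => by rw [h, orderOf_one] at hj; exact hp.one_lt.ne hj
    have hwx : (w ^ j) • x ≠ x := fun h => hwj1 (hb _ (pow_mem hw j) h hwj)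
    refine hfinish (u * w ^ j) ?_ fun ω => ?_
    · rw [(show Commute u (w ^ j) from (Subgroup.mem_center_iff.1 hu (w ^ j)).symm).mul_pow, hup,
        (orderOf_dvd_iff_pow_eq_one.1 hj.dvd), one_mul]
    · rcases hcv ω with h | h
      · refine central_free (mul_mem hu (pow_mem hw j)) ?_ ω h
        rw [mul_smul]
        intro he
        exact hwx (smul_left_cancel u (he.trans hux.symm))
      · refine central_free (mul_mem hu (pow_mem hw j)) ?_ ω h
        rw [mul_smul, hwj]; exact huy
  by_cases hza : z • a = a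
  · have hza' : z • a' ≠ a' := fun h => hz1 (hboth z hz hza h)
    rcases hcomb a a' hcover z hz hzp hza hza' hboth with h | h
    · exact mixed hcl _ hP a a' hcover hdis hca hca' z hz hzp hza hza' h
    · exact h
  by_cases hza' : z • a' = a'
  · rcases hcomb a' a (fun w => (hcover w).symm) z hz hzp hza' hza (fun w hw h1 h2 => hboth w hw h2 h1) with h | h
    · exact mixed hcl _ hP a' a (fun w => (hcover w).symm) (fun w hw => hdis w hw.symm) hca' hca z hz hzp hza' hza h
    · exact h
  refine hfinish z hzp fun ω => ?_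
  rcases hcover ω with h | h
  exacts [central_free hz hza ω h, central_free hz hza' ω h]


/-- Let G act faithfully and transitively on a finite set with 2p² points, p a prime, and suppose G is 2-closed: every permutation of the set which, on each ordered pair of points, agrees with some element of G, is itself induced by an element of G. Then some element of G of prime order fixes no point. -/
theorem result {G Ω : Type*} [Group G] [Finite G] [MulAction G Ω] [FaithfulSMul G Ω] [Finite Ω]
    (htrans : MulAction.IsPretransitive G Ω) (p : ℕ) (hp : p.Prime) (hcard : Nat.card Ω = 2 * p ^ 2)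
    (hcl : ∀ σ : Equiv.Perm Ω, (∀ a b : Ω, ∃ g : G, σ a = g • a ∧ σ b = g • b) → ∃ g : G, ∀ a : Ω, σ a = g • a) :
    ∃ g : G, (orderOf g).Prime ∧ ∀ ω : Ω, g • ω ≠ ω := by
  haveI := Fact.mk hp
  obtain ⟨g, hg, hfree⟩ := main htrans hcard hcl
  exact ⟨g, hg ▸ hp, hfree⟩

end Cfsg.Agent.S3557
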