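import Mathlib
import Cfsg.Statements.S3559

set_option autoImplicit false
open Cfsg

namespace Cfsg.Agent.S3559

open MulAction
open scoped Pointwise

section schur

variable {G Ω : Type*} [Group G] [MulAction G Ω] {C : Type*} [CommGroup C] (idx : Ω ≃ C)

/-- A function on `C` whose kernel on `Ω × Ω` is invariant under `G`. -/
def Inv (G : Type*) [Group G] [MulAction G Ω] {R : Type*} (F : C → R) : Prop :=
  ∀ (g : G) (u v : Ω), F ((idx (g • u))⁻¹ * idx (g • v)) = F ((idx u)⁻¹ * idx v)

theorem inv_closure {S : Set C} (hS : Inv idx G (fun c => c ∈ S)) :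
    Inv idx G (fun c => c ∈ Subgroup.closure S) := by
  have key : ∀ k ∈ Subgroup.closure S, ∀ (g : G) (u v : Ω), (idx u)⁻¹ * idx v = k →
      (idx (g • u))⁻¹ * idx (g • v) ∈ Subgroup.closure S := by
    intro k hk
    induction hk using Subgroup.closure_induction with
    | mem x hx =>
      intro g u v h
      exact Subgroup.subset_closure ((hS g u v).mpr (by rw [h]; exact hx))
    | one =>
      intro g u v h
      rw [idx.injective (inv_mul_eq_one.1 h), inv_mul_cancel]
      exact one_mem _
    | mul a b _ _ iha ihb =>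
      intro g u v h
      obtain ⟨w, hw⟩ := idx.surjective (idx u * a)
      have h1 := iha g u w (by rw [hw, inv_mul_cancel_left])
      have h2 := ihb g w v (by rw [hw, mul_inv_rev, mul_assoc, h, inv_mul_cancel_left])
      have := mul_mem h1 h2
      rwa [mul_assoc, mul_inv_cancel_left] at this
    | inv a _ iha =>
      intro g u v h
      have := inv_mem (iha g v u (by rw [← inv_inv a, ← h, mul_inv_rev, inv_inv]))
      rwa [mul_inv_rev, inv_inv] at this
  intro g u v
  refine propext ⟨fun h => ?_, fun h => key _ h g u v rfl⟩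
  have := key _ h g⁻¹ (g • u) (g • v) rfl
  rwa [inv_smul_smul, inv_smul_smul] at this

theorem trivial_of_inv [Finite Ω] (hprim : IsPreprimitive G Ω) (K : Subgroup C)
    (hK : Inv idx G (fun c => c ∈ K)) : K = ⊥ ∨ K = ⊤ := by
  have hsub : ∀ g : G, ∀ a : Ω, idx a ∈ K → idx (g • a) ∈ K → ∀ w, idx w ∈ K → idx (g • w) ∈ K := by
    intro g a ha hga w hw
    have := (hK g a w).mpr (mul_mem (inv_mem ha) hw)
    have := mul_mem hga this
    rwa [mul_inv_cancel_left] at this
  have hblock : IsBlock G {w : Ω | idx w ∈ K} := by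
    rw [isBlock_iff_smul_eq_of_mem]
    intro g a ha hga
    ext w
    rw [Set.mem_smul_set_iff_inv_smul_mem]
    constructor
    · intro hw
      have := hsub g a ha hga _ hw
      rwa [smul_inv_smul] at this
    · intro hw
      exact hsub g⁻¹ (g • a) hga (by rw [inv_smul_smul]; exact ha) w hw
  rcases hprim.isTrivialBlock_of_isBlock hblock with h | h
  · left
    rw [Subgroup.eq_bot_iff_forall]
    intro c hc
    have := h (show idx.symm c ∈ {w : Ω | idx w ∈ K} by simpa using hc)
      (show idx.symm 1 ∈ {w : Ω | idx w ∈ K} by simp)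
    exact idx.symm.injective this
  · right
    rw [eq_top_iff]
    intro c _
    have := h.ge (Set.mem_univ (idx.symm c))
    simpa using this

theorem inv_oneAlg {R : Type*} [Semiring R] : Inv idx G (fun c => (1 : MonoidAlgebra R C).coeff c) := by
  intro g u v
  classical
  simp only [MonoidAlgebra.one_def, MonoidAlgebra.coeff_single, Finsupp.single_apply]
  by_cases h : u = v
  · subst h; simp
  · have h1 : idx (g • u) ≠ idx (g • v) := fun e => h (smul_left_cancel g (idx.injective e))
    have h2 : idx u ≠ idx v := fun e => h (idx.injective e)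
    rw [if_neg (fun e => h1 (inv_mul_eq_one.1 e.symm)), if_neg (fun e => h2 (inv_mul_eq_one.1 e.symm))]

theorem inv_mulAlg {R : Type*} [Semiring R] [Fintype Ω] [Fintype C] {a b : MonoidAlgebra R C}
    (ha : Inv idx G (fun c => a.coeff c)) (hb : Inv idx G (fun c => b.coeff c)) :
    Inv idx G (fun c => (a * b).coeff c) := by
  have key : ∀ u v : Ω, (a * b).coeff ((idx u)⁻¹ * idx v) =
      ∑ w : Ω, a.coeff ((idx u)⁻¹ * idx w) * b.coeff ((idx w)⁻¹ * idx v) := by
    intro u v
    rw [MonoidAlgebra.coeff_mul_apply_left, Finsupp.sum_fintype _ _ (fun _ => zero_mul _)]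
    refine (Fintype.sum_equiv (idx.trans (Equiv.mulLeft (idx u)⁻¹)) _ _ fun w => ?_).symm
    simp [mul_assoc]
  intro g u v
  dsimp only
  rw [key, key]
  refine (Fintype.sum_equiv (MulAction.toPerm g) _ _ fun w => ?_).symm
  simp only [MulAction.toPerm_apply]
  have hA := ha g u w
  have hB := hb g w v
  dsimp only at hA hB
  rw [hA, hB]

theorem inv_powAlg {R : Type*} [Semiring R] [Fintype Ω] [Fintype C] {a : MonoidAlgebra R C}
    (ha : Inv idx G (fun c => a.coeff c)) : ∀ n : ℕ, Inv idx G (fun c => (a ^ n).coeff c)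
  | 0 => by simpa using inv_oneAlg idx
  | n + 1 => by simpa [pow_succ] using inv_mulAlg idx (inv_powAlg ha n) ha

/-- Schur's argument: an invariant set meets each coset of the subgroup of order `p` outside it in nothing or everything. -/
theorem coset_full [Fintype Ω] [Fintype C] [IsCyclic C] (hprim : IsPreprimitive G Ω) {p : ℕ} [hp : Fact p.Prime]
    (hpC : p ∣ Nat.card C) (T : Set C) (hT : Inv idx G (fun c => c ∈ T)) (x : C) (hx : x ^ p ≠ 1) (hxT : x ∈ T)
    (a : C) (ha : a ^ p = 1) : x * a ∈ T := by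
  classical
  haveI : CharP (MonoidAlgebra (ZMod p) C) p :=
    charP_of_injective_algebraMap (algebraMap (ZMod p) (MonoidAlgebra (ZMod p) C)).injective p
  set f : MonoidAlgebra (ZMod p) C := ∑ c ∈ T.toFinset, MonoidAlgebra.single c (1 : ZMod p) with hf
  have hfc : ∀ y, f.coeff y = if y ∈ T then 1 else 0 := fun y => by
    rw [hf, MonoidAlgebra.coeff_sum, Finsupp.finsetSum_apply]
    simp [MonoidAlgebra.coeff_single, Finsupp.single_apply]
  have hfinv : Inv idx G (fun c => f.coeff c) := fun g u v => by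
    simp only [hfc]
    rw [show ((idx (g • u))⁻¹ * idx (g • v) ∈ T) = ((idx u)⁻¹ * idx v ∈ T) from hT g u v]
  have hpow : ∀ y, (f ^ p).coeff y = ((T.toFinset.filter (fun c => c ^ p = y)).card : ZMod p) := fun y => by
    rw [hf, sum_pow_char, MonoidAlgebra.coeff_sum, Finsupp.finsetSum_apply]
    simp [MonoidAlgebra.single_pow, MonoidAlgebra.coeff_single, Finsupp.single_apply, Finset.sum_ite]
  have hpinv := inv_powAlg idx hfinv p
  let S : Set C := {y | y ≠ 1 ∧ (f ^ p).coeff y ≠ 0}
  have hSinv : Inv idx G (fun c => c ∈ S) := by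
    intro g u v
    simp only [S, Set.mem_setOf_eq, ne_eq, hpinv g u v]
    have : ((idx (g • u))⁻¹ * idx (g • v) = 1) = ((idx u)⁻¹ * idx v = 1) := by
      rw [inv_mul_eq_one, inv_mul_eq_one, idx.injective.eq_iff, idx.injective.eq_iff, smul_left_cancel_iff]
    rw [this]
  have hzero : (f ^ p).coeff (x ^ p) = 0 := by
    by_contra hne
    have hle : Subgroup.closure S ≤ (powMonoidHom p : C →* C).range := by
      rw [Subgroup.closure_le]
      intro y hy
      have hy2 := hy.2
      rw [hpow] at hy2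
      obtain ⟨c, hc⟩ : (T.toFinset.filter (fun c => c ^ p = y)).Nonempty := by
        rw [Finset.nonempty_iff_ne_empty]
        intro h; rw [h] at hy2; simp at hy2
      exact ⟨c, (Finset.mem_filter.1 hc).2⟩
    rcases trivial_of_inv idx hprim _ (inv_closure idx hSinv) with h | h
    · have : x ^ p ∈ Subgroup.closure S := Subgroup.subset_closure ⟨hx, hne⟩
      rw [h, Subgroup.mem_bot] at this
      exact hx this
    · rw [h, top_le_iff] at hle
      have h1 := congrArg Subgroup.index hle
      rw [IsCyclic.index_powMonoidHom_range, Subgroup.index_top, Nat.gcd_eq_right hpC] at h1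
      exact hp.out.one_lt.ne' h1
  rw [hpow, ZMod.natCast_eq_zero_iff] at hzero
  have hsub : T.toFinset.filter (fun c => c ^ p = x ^ p) ⊆ Finset.univ.filter (fun c => c ^ p = x ^ p) :=
    Finset.filter_subset_filter _ (Finset.subset_univ _)
  have hcard : (Finset.univ.filter (fun c : C => c ^ p = x ^ p)).card ≤ p := by
    calc (Finset.univ.filter (fun c : C => c ^ p = x ^ p)).card
        ≤ (Finset.univ.filter (fun c : C => c ^ p = 1)).card := by
          refine Finset.card_le_card_of_injOn (fun c => x⁻¹ * c) (fun c hc => ?_) (mul_right_injective x⁻¹).injOn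
          simp only [Finset.coe_filter, Finset.mem_univ, true_and, Set.mem_setOf_eq] at hc ⊢
          rw [mul_pow, hc, inv_pow, inv_mul_cancel]
      _ ≤ p := IsCyclic.card_pow_eq_one_le hp.out.pos
  have hne : (T.toFinset.filter (fun c => c ^ p = x ^ p)).Nonempty := ⟨x, by simp [hxT]⟩
  have hge := Nat.le_of_dvd hne.card_pos hzero
  have heq := Finset.eq_of_subset_of_card_le hsub (hcard.trans hge)
  have hmem : x * a ∈ T.toFinset.filter (fun c => c ^ p = x ^ p) := by
    rw [heq]; simp [mul_pow, ha]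
  simpa using (Finset.mem_filter.1 hmem).1

end schur

theorem main {G Ω : Type*} [Group G] [Finite G] [MulAction G Ω] [Finite Ω] (hprim : IsPreprimitive G Ω)
    (C : Subgroup G) [hcyc : IsCyclic ↥C] (hCt : IsPretransitive ↥C Ω) (hCs : ∀ a : Ω, stabilizer ↥C a = ⊥)
    (hn : 2 ≤ Nat.card Ω) (hnp : ¬ IsPrimePow (Nat.card Ω)) : IsMultiplyPretransitive G Ω 2 := by
  classical
  letI : CommGroup C := IsCyclic.commGroup
  haveI := Fintype.ofFinite Ω
  haveI := Fintype.ofFinite C
  obtain ⟨o⟩ : Nonempty Ω := Finite.card_pos_iff.1 (by omega)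
  have hbij : Function.Bijective (fun c : C => c • o) := by
    refine ⟨fun c d h => ?_, hCt.exists_smul_eq o⟩
    have : d⁻¹ * c ∈ stabilizer C o := by
      rw [mem_stabilizer_iff, mul_smul, show c • o = d • o from h, inv_smul_smul]
    rw [hCs o, Subgroup.mem_bot] at this
    exact (inv_mul_eq_one.1 this).symm
  let idx : Ω ≃ C := (Equiv.ofBijective _ hbij).symm
  have hidx : ∀ w, idx w • o = w := fun w => (Equiv.ofBijective _ hbij).apply_symm_apply w
  have hidx' : ∀ c : C, idx (c • o) = c := fun c => (Equiv.ofBijective _ hbij).symm_apply_apply c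
  let T : C → Set C := fun x => {z | ∃ g : G, g • o = o ∧ g • (x • o) = z • o}
  have hTiff : ∀ x (u v : Ω), (idx u)⁻¹ * idx v ∈ T x ↔ ∃ g : G, g • o = u ∧ g • (x • o) = v := by
    intro x u v
    constructor
    · rintro ⟨g, h1, h2⟩
      refine ⟨(idx u : G) * g, ?_, ?_⟩
      · rw [mul_smul, h1]; exact hidx u
      · rw [mul_smul, h2]
        change idx u • (((idx u)⁻¹ * idx v) • o) = v
        rw [← mul_smul, mul_inv_cancel_left, hidx]
    · rintro ⟨g, h1, h2⟩
      refine ⟨(idx u : G)⁻¹ * g, ?_, ?_⟩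
      · rw [mul_smul, h1, inv_smul_eq_iff]; exact (hidx u).symm
      · rw [mul_smul, h2, mul_smul]
        change (idx u)⁻¹ • v = (idx u)⁻¹ • (idx v • o)
        rw [hidx]
  have hTinv : ∀ x, Inv idx G (fun c => c ∈ T x) := by
    intro x g u v
    refine propext ?_
    dsimp only
    rw [hTiff, hTiff]
    constructor
    · rintro ⟨k, h1, h2⟩
      exact ⟨g⁻¹ * k, by rw [mul_smul, h1, inv_smul_smul], by rw [mul_smul, h2, inv_smul_smul]⟩
    · rintro ⟨k, h1, h2⟩
      exact ⟨g * k, by rw [mul_smul, h1], by rw [mul_smul, h2]⟩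
  have hself : ∀ x, x ∈ T x := fun x => ⟨1, one_smul _ _, one_smul _ _⟩
  have hsymm : ∀ x y, y ∈ T x → x ∈ T y := fun x y ⟨g, h1, h2⟩ =>
    ⟨g⁻¹, inv_smul_eq_iff.2 h1.symm, inv_smul_eq_iff.2 h2.symm⟩
  have htrans : ∀ x y z, y ∈ T x → z ∈ T y → z ∈ T x := fun x y z ⟨g, h1, h2⟩ ⟨k, h3, h4⟩ =>
    ⟨k * g, by rw [mul_smul, h1, h3], by rw [mul_smul, h2, h4]⟩
  have hone : ∀ x, x ≠ 1 → (1 : C) ∉ T x := by
    rintro x hx ⟨g, h1, h2⟩
    rw [one_smul] at h2
    have : x • o = o := smul_left_cancel g (h2.trans h1.symm)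
    exact hx (by rw [← hidx' x, this, ← hidx' 1, one_smul])
  have hcardC : Nat.card C = Nat.card Ω := Nat.card_congr idx.symm
  obtain ⟨p, hp, hpd⟩ := Nat.exists_prime_and_dvd (show Nat.card Ω ≠ 1 by omega)
  obtain ⟨q, hq, hqd, hqp⟩ : ∃ q, q.Prime ∧ q ∣ Nat.card Ω ∧ q ≠ p := by
    by_contra h
    push Not at h
    have h1 := Nat.eq_prime_pow_of_unique_prime_dvd (show Nat.card Ω ≠ 0 by omega) (fun {d} hd hdd => h d hd hdd)
    exact hnp ⟨p, _, hp.prime, Nat.pos_of_ne_zero fun h0 => by rw [h0, pow_zero] at h1; omega, h1.symm⟩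
  haveI := Fact.mk hp
  haveI := Fact.mk hq
  -- every class meets the subgroup of order p
  have hmeet : ∀ x : C, x ≠ 1 → ∃ a : C, a ≠ 1 ∧ a ^ p = 1 ∧ a ∈ T x := by
    intro x hx
    by_contra hno
    push Not at hno
    have hfull : ∀ t ∈ T x, ∀ a : C, a ^ p = 1 → t * a ∈ T x := fun t ht a ha => by
      by_cases ht1 : t ^ p = 1
      · exact absurd ht (hno t (fun h => hone x hx (h ▸ ht)) ht1)
      · exact coset_full idx hprim (hcardC ▸ hpd) (T x) (hTinv x) t ht1 ht a ha
    let K : Subgroup C :=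
      { carrier := {a | ∀ t, t * a ∈ T x ↔ t ∈ T x}
        one_mem' := fun t => by rw [mul_one]
        mul_mem' := fun {a b} ha hb t => by rw [← mul_assoc, hb, ha]
        inv_mem' := fun {a} ha t => by rw [← ha (t * a⁻¹), inv_mul_cancel_right] }
    have hKinv : Inv idx G (fun c => c ∈ K) := by
      have key : ∀ u v, (idx u)⁻¹ * idx v ∈ K ↔ ∀ w, ((idx u)⁻¹ * idx w ∈ T x ↔ (idx v)⁻¹ * idx w ∈ T x) := by
        intro u v
        constructor
        · intro h w
          rw [← h ((idx v)⁻¹ * idx w)]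
          congr! 1
          rw [mul_comm _ ((idx u)⁻¹ * idx v), mul_assoc, mul_inv_cancel_left]
        · intro h t
          obtain ⟨w, hw⟩ := idx.surjective (idx v * t)
          have := h w
          rw [hw, inv_mul_cancel_left] at this
          rw [← this, mul_comm t, mul_assoc]
      intro g u v
      refine propext ?_
      dsimp only
      rw [key, key]
      have hT : ∀ u w, ((idx (g • u))⁻¹ * idx (g • w) ∈ T x) = ((idx u)⁻¹ * idx w ∈ T x) := fun u w => hTinv x g u w
      constructor
      · intro h w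
        have := h (g • w)
        rwa [hT u w, hT v w] at this
      · intro h w
        have := h (g⁻¹ • w)
        rw [← hT u (g⁻¹ • w), ← hT v (g⁻¹ • w), smul_inv_smul] at this
        exact this
    obtain ⟨a, ha⟩ := exists_prime_orderOf_dvd_card' (G := C) p (hcardC ▸ hpd)
    have hap : a ^ p = 1 := ha ▸ pow_orderOf_eq_one a
    have haK : a ∈ K := by
      intro t
      refine ⟨fun h => ?_, fun h => hfull t h a hap⟩
      have := hfull _ h a⁻¹ (by rw [inv_pow, hap, inv_one])
      rwa [mul_inv_cancel_right] at this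
    rcases trivial_of_inv idx hprim K hKinv with h | h
    · rw [h, Subgroup.mem_bot] at haK
      rw [haK, orderOf_one] at ha
      exact hp.one_lt.ne ha
    · have : x⁻¹ ∈ K := h ▸ Subgroup.mem_top _
      have := (this x).2 (hself x)
      rw [mul_inv_cancel] at this
      exact hone x hx this
  -- the elements of orders p and q are in one class
  have hpq : ∀ a b : C, a ≠ 1 → a ^ p = 1 → b ≠ 1 → b ^ q = 1 → b ∈ T a := by
    intro a b ha hap hb hbq
    have hco : ∀ (r s : ℕ), r.Prime → s.Prime → r ≠ s → ∀ c d : C, c ^ r = 1 → d ≠ 1 → d ^ s = 1 → (d * c) ^ r ≠ 1 := by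
      intro r s hr hs hrs c d hc hd hds h
      rw [mul_pow, hc, mul_one] at h
      exact hd (orderOf_eq_one_iff.1 (Nat.dvd_one.1
        (((Nat.coprime_primes hr hs).2 hrs) ▸ Nat.dvd_gcd (orderOf_dvd_of_pow_eq_one h) (orderOf_dvd_of_pow_eq_one hds))))
    have h1 : b ∈ T (b * a) := by
      have := coset_full idx hprim (hcardC ▸ hpd) (T (b * a)) (hTinv _) (b * a) (hco p q hp hq hqp.symm a b hap hb hbq)
        (hself _) a⁻¹ (by rw [inv_pow, hap, inv_one])
      rwa [mul_inv_cancel_right] at this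
    have h2 : a ∈ T (b * a) := by
      have := coset_full idx hprim (hcardC ▸ hqd) (T (b * a)) (hTinv _) (b * a)
        (by rw [mul_comm]; exact hco q p hq hp hqp b a hbq ha hap) (hself _) b⁻¹ (by rw [inv_pow, hbq, inv_one])
      rwa [mul_comm b a, mul_inv_cancel_right, mul_comm a b] at this
    exact htrans _ _ _ (hsymm _ _ h2) h1
  obtain ⟨b, hb⟩ := exists_prime_orderOf_dvd_card' (G := C) q (hcardC ▸ hqd)
  have hb1 : b ≠ 1 := fun h => by rw [h, orderOf_one] at hb; exact hq.one_lt.ne hb
  have hbq : b ^ q = 1 := hb ▸ pow_orderOf_eq_one b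
  have hall : ∀ x, x ≠ 1 → x ∈ T b := by
    intro x hx
    obtain ⟨a, ha, hap, haT⟩ := hmeet x hx
    exact hsymm _ _ (htrans _ _ _ haT (hpq a b ha hap hb1 hbq))
  haveI := hprim.toIsPretransitive
  rw [is_two_pretransitive_iff]
  intro u v u' v' huv hu'v'
  have hne : ∀ u v : Ω, u ≠ v → ∃ g : G, g • o = u ∧ g • (b • o) = v := fun u v h =>
    (hTiff b u v).1 (hall _ (fun e => h (idx.injective (inv_mul_eq_one.1 e))))
  obtain ⟨g, hg1, hg2⟩ := hne u v huv
  obtain ⟨k, hk1, hk2⟩ := hne u' v' hu'v'
  exact ⟨k * g⁻¹, by rw [mul_smul, ← hg1, inv_smul_smul, hk1], by rw [mul_smul, ← hg2, inv_smul_smul, hk2]⟩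


/-- Let G act faithfully and transitively on a finite set whose number of points n ≥ 2 is not a prime power, and suppose G has a cyclic subgroup acting regularly (transitively with trivial point stabilizers). Then G is imprimitive or doubly transitive. -/
theorem result {G Ω : Type*} [Group G] [Finite G] [MulAction G Ω] [FaithfulSMul G Ω] [Finite Ω]
    (htrans : MulAction.IsPretransitive G Ω) (hn : 2 ≤ Nat.card Ω) (hnp : ¬ IsPrimePow (Nat.card Ω))
    (C : Subgroup G) (hcyc : IsCyclic ↥C) (hC : MulAction.IsPretransitive ↥C Ω ∧ ∀ a : Ω, MulAction.stabilizer ↥C a = ⊥) :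
    ¬ MulAction.IsPreprimitive G Ω ∨ MulAction.IsMultiplyPretransitive G Ω 2 := by
  by_cases hprim : MulAction.IsPreprimitive G Ω
  · exact Or.inr (main hprim C hC.1 hC.2 hn hnp)
  · exact Or.inl hprim

end Cfsg.Agent.S3559
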