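import Cfsg.Statements.S3560
import Mathlib.GroupTheory.GroupAction.Primitive
import Mathlib.GroupTheory.GroupAction.MultipleTransitivity

set_option autoImplicit false
open Cfsg

namespace Cfsg.Agent.S3560

open scoped Pointwise

/-- Two points of the grid differ in at most one coordinate. -/
def Adj {ι : Type*} {α : Type*} {N : ℕ} (e : (ι → α) ≃ Fin N) (a b : Fin N) : Prop :=
  ∃ i, ∀ k, k ≠ i → e.symm a k = e.symm b k

/-- The automorphisms of the grid. -/
def adjGroup {ι : Type*} {α : Type*} {N : ℕ} (e : (ι → α) ≃ Fin N) :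
    Subgroup (Equiv.Perm (Fin N)) where
  carrier := {σ | ∀ a b, Adj e (σ a) (σ b) ↔ Adj e a b}
  mul_mem' {σ τ} hσ hτ a b := by
    rw [Equiv.Perm.mul_apply, Equiv.Perm.mul_apply, hσ, hτ]
  one_mem' a b := Iff.rfl
  inv_mem' {σ} hσ a b := by
    rw [← hσ (σ⁻¹ a) (σ⁻¹ b), Equiv.Perm.inv_def, Equiv.apply_symm_apply, Equiv.apply_symm_apply]

theorem base_mem {ι : Type*} {α : Type*} {N : ℕ} (e : (ι → α) ≃ Fin N) (σ : ι → Equiv.Perm α) :
    e.permCongr (Equiv.piCongrRight σ) ∈ adjGroup e := by
  intro a b
  constructor <;> rintro ⟨i, hi⟩ <;> refine ⟨i, fun k hk => ?_⟩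
  · have := hi k hk
    simpa [Equiv.permCongr_apply] using this
  · simp [Equiv.permCongr_apply, hi k hk]

theorem swap_mem {ι : Type*} {α : Type*} {N : ℕ} (e : (ι → α) ≃ Fin N) (π : Equiv.Perm ι) :
    e.permCongr (Equiv.arrowCongr π (Equiv.refl α)) ∈ adjGroup e := by
  intro a b
  constructor <;> rintro ⟨i, hi⟩
  · refine ⟨π.symm i, fun k hk => ?_⟩
    have := hi (π k) (fun h => hk (by rw [← h, Equiv.symm_apply_apply]))
    simpa [Equiv.permCongr_apply] using this
  · refine ⟨π i, fun k hk => ?_⟩
    have := hi (π.symm k) (fun h => hk (by rw [← h, Equiv.apply_symm_apply]))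
    simpa [Equiv.permCongr_apply] using this

theorem result {K : Type*} [Group K] [Finite K] {ι : Type*} [Fintype ι] (F : ι → Type*) [∀ i, Group (F i)]
    (hr : 2 ≤ Fintype.card ι) (m : ℕ) (hm : 3 ≤ m) (hcard : ∀ i, Nat.card (F i) = m) (e : K ≃* (∀ i, F i)) :
    ∃ (n : ℕ) (G R : Subgroup (Equiv.Perm (Fin n))), R ≤ G ∧ Nonempty (↥R ≃* K) ∧
      MulAction.IsPretransitive ↥R (Fin n) ∧ (∀ a : Fin n, MulAction.stabilizer ↥R a = ⊥) ∧
      MulAction.IsPreprimitive ↥G (Fin n) ∧ ¬ MulAction.IsMultiplyPretransitive ↥G (Fin n) 2 := by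
  classical
  haveI : ∀ i, Finite (F i) := fun i => Nat.finite_of_card_ne_zero (by rw [hcard i]; omega)
  let ef : ∀ i, F i ≃ Fin m := fun i => Finite.equivFinOfCardEq (hcard i)
  let Φ : (∀ i, F i) ≃ (ι → Fin m) := Equiv.piCongrRight ef
  let N := Fintype.card (ι → Fin m)
  let E : (ι → Fin m) ≃ Fin N := Fintype.equivFin _
  let ψ : K →* Equiv.Perm (Fin N) :=
    ((Φ.trans E).permCongrHom.toMonoidHom.comp (MulAction.toPermHom (∀ i, F i) (∀ i, F i))).comp
      e.toMonoidHom
  have hψ : ∀ k a, ψ k a = (Φ.trans E) (e k * (Φ.trans E).symm a) := fun k a => rfl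
  have hψinj : Function.Injective ψ := by
    intro k l h
    have h2 := congrArg (fun σ : Equiv.Perm (Fin N) => (Φ.trans E).symm (σ ((Φ.trans E) 1))) h
    simp only [hψ, Equiv.symm_apply_apply, mul_one] at h2
    exact e.injective h2
  have hψmem : ∀ k, ψ k ∈ adjGroup E := by
    intro k
    have heq : ψ k = E.permCongr
        (Equiv.piCongrRight fun i => (ef i).permCongr (Equiv.mulLeft (e k i))) := by
      ext a
      rw [hψ]
      simp only [Equiv.permCongr_apply, Equiv.trans_apply, Equiv.symm_trans_apply]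
      congr 2
    rw [heq]
    exact base_mem E _
  have hR : ∀ a b : Fin N, ∃ g : ↥ψ.range, g • a = b := by
    intro a b
    refine ⟨⟨ψ (e.symm ((Φ.trans E).symm b * ((Φ.trans E).symm a)⁻¹)), _, rfl⟩, ?_⟩
    show ψ _ a = b
    rw [hψ, MulEquiv.apply_symm_apply, inv_mul_cancel_right, Equiv.apply_symm_apply]
  haveI hRt : MulAction.IsPretransitive ↥ψ.range (Fin N) := ⟨hR⟩
  have hle : ψ.range ≤ adjGroup E := by
    rintro _ ⟨k, rfl⟩
    exact hψmem k
  refine ⟨N, adjGroup E, ψ.range, hle, ⟨(MonoidHom.ofInjective hψinj).symm⟩, hRt, ?_, ?_, ?_⟩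
  · intro a
    rw [Subgroup.eq_bot_iff_forall]
    rintro ⟨_, k, rfl⟩ hg
    have h2 : ψ k a = a := hg
    rw [hψ, Equiv.apply_eq_iff_eq_symm_apply, mul_eq_right, EmbeddingLike.map_eq_one_iff] at h2
    apply Subtype.ext
    rw [h2]
    exact map_one ψ
  · haveI : MulAction.IsPretransitive ↥(adjGroup E) (Fin N) := ⟨fun a b => by
      obtain ⟨⟨g, hg⟩, h⟩ := hR a b
      exact ⟨⟨g, hle hg⟩, h⟩⟩
    let z : ι → Fin m := fun _ => ⟨0, by omega⟩
    refine MulAction.IsPreprimitive.of_isTrivialBlock_base (E z) fun {B} hB hblock => ?_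
    rw [MulAction.IsTrivialBlock]
    by_cases hsub : B.Subsingleton
    · exact Or.inl hsub
    refine Or.inr ?_
    obtain ⟨b, hb, hbz⟩ : ∃ b ∈ B, b ≠ E z := by
      by_contra h
      push Not at h
      exact hsub fun x hx y hy => (h x hx).trans (h y hy).symm
    have key : ∀ σ ∈ adjGroup E, ∀ a ∈ B, σ a ∈ B → ∀ c ∈ B, σ c ∈ B := by
      intro σ hσ a ha hσa c hc
      have h1 : (⟨σ, hσ⟩ : adjGroup E) • B = B :=
        hblock.smul_eq_of_mem ha hσa
      rw [← h1]
      exact Set.smul_mem_smul_set hc
    -- transposition on one coordinate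
    let T : ι → Fin m → Fin m → Equiv.Perm (Fin N) := fun i u v =>
      E.permCongr (Equiv.piCongrRight (Function.update (fun _ => Equiv.refl (Fin m)) i (Equiv.swap u v)))
    have hT : ∀ i u v (x : ι → Fin m), T i u v (E x) = E (Function.update x i (Equiv.swap u v (x i))) := by
      intro i u v x
      simp only [T, Equiv.permCongr_apply, Equiv.symm_apply_apply]
      congr 1
      funext k
      rcases eq_or_ne k i with rfl | hk
      · simp
      · simp [hk]
    have hTmem : ∀ i u v, T i u v ∈ adjGroup E := fun i u v => base_mem E _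
    obtain ⟨x, rfl⟩ := E.surjective b
    have hxz : x ≠ z := fun h => hbz (by rw [h])
    obtain ⟨i, hi⟩ := Function.ne_iff.1 hxz
    have step1 : ∀ c, c ≠ z i → E (Function.update x i c) ∈ B := by
      intro c hc
      have h := key _ (hTmem i (x i) c) (E z) hB (by
        rw [hT, Equiv.swap_apply_of_ne_of_ne (Ne.symm hi) (Ne.symm hc), Function.update_eq_self]
        exact hB) _ hb
      rwa [hT, Equiv.swap_apply_left] at h
    have step2 : ∀ c, E (Function.update z i c) ∈ B := by
      intro c
      rcases eq_or_ne c (z i) with rfl | hc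
      · rw [Function.update_eq_self]; exact hB
      obtain ⟨d, hd1, hd2⟩ : ∃ d : Fin m, d ≠ z i ∧ d ≠ c := by
        obtain ⟨d, -, hd⟩ := Finset.exists_mem_notMem_of_card_lt_card
          (s := ({z i, c} : Finset (Fin m))) (t := Finset.univ)
          (lt_of_le_of_lt Finset.card_le_two (by rw [Finset.card_univ, Fintype.card_fin]; omega))
        simp only [Finset.mem_insert, Finset.mem_singleton, not_or] at hd
        exact ⟨d, hd⟩
      have h1 := step1 d hd1
      have h := key _ (hTmem i (z i) c) _ h1 (by
        rw [hT, Function.update_self, Equiv.swap_apply_of_ne_of_ne hd1 hd2, Function.update_idem]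
        exact h1) _ hB
      rwa [hT, Equiv.swap_apply_left] at h
    have step3 : ∀ j c, E (Function.update z j c) ∈ B := by
      intro j c
      let S : Equiv.Perm (Fin N) := E.permCongr (Equiv.arrowCongr (Equiv.swap i j) (Equiv.refl _))
      have hS : ∀ y, S (E y) = E (y ∘ Equiv.swap i j) := fun y => by
        simp only [S, Equiv.permCongr_apply, Equiv.symm_apply_apply]
        congr 1
      have h := key S (swap_mem E _) (E z) hB (by rw [hS]; exact hB) _ (step2 c)
      rw [hS] at h
      convert h using 2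
      funext k
      rcases eq_or_ne k j with rfl | hk
      · simp
      · rcases eq_or_ne k i with rfl | hk'
        · simp [hk, Function.update_of_ne (Ne.symm hk), z]
        · simp [hk, hk', Equiv.swap_apply_of_ne_of_ne hk' hk, z]
    rw [Set.eq_univ_iff_forall]
    intro a
    obtain ⟨y, rfl⟩ := E.surjective a
    suffices ∀ s : Finset ι, ∀ y : ι → Fin m, (∀ k, k ∉ s → y k = z k) → E y ∈ B from
      this Finset.univ y (fun k hk => absurd (Finset.mem_univ k) hk)
    intro s
    induction s using Finset.induction with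
    | empty =>
      intro y hy
      rw [show y = z from funext fun k => hy k (Finset.notMem_empty k)]
      exact hB
    | @insert j s hj ih =>
      intro y hy
      have h0 : E (Function.update y j (z j)) ∈ B := ih _ fun k hk => by
        rcases eq_or_ne k j with rfl | hkj
        · simp
        · rw [Function.update_of_ne hkj]; exact hy k (by simp [hk, hkj])
      have h := key _ (hTmem j (z j) (y j)) (E z) hB (by
        rw [hT, Equiv.swap_apply_left]; exact step3 j _) _ h0
      rwa [hT, Function.update_self, Equiv.swap_apply_left, Function.update_idem,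
        Function.update_eq_self] at h
  · intro h2
    rw [MulAction.is_two_pretransitive_iff] at h2
    obtain ⟨i, j, hij⟩ := Fintype.exists_pair_of_one_lt_card (show 1 < Fintype.card ι by omega)
    let z : ι → Fin m := fun _ => ⟨0, by omega⟩
    let o : Fin m := ⟨1, by omega⟩
    have hzo : ∀ k, z k ≠ o := fun k h => by simp [z, o, Fin.ext_iff] at h
    have h1 : E z ≠ E (Function.update z i o) := fun h => by
      have := congrFun (E.injective h) i
      simp [hzo i] at this
    have h3 : E z ≠ E (Function.update (Function.update z i o) j o) := fun h => by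
      have := congrFun (E.injective h) j
      simp [hzo j] at this
    obtain ⟨⟨σ, hσ⟩, ha, hb⟩ := h2 h1 h3
    have hadj : Adj E (E z) (E (Function.update z i o)) := ⟨i, fun k hk => by simp [hk]⟩
    rw [← hσ] at hadj
    change Adj E (σ (E z)) (σ (E (Function.update z i o))) at hadj
    rw [show σ (E z) = E z from ha,
      show σ (E (Function.update z i o)) = E (Function.update (Function.update z i o) j o) from hb] at hadj
    obtain ⟨k, hk⟩ := hadj
    simp only [Equiv.symm_apply_apply] at hk
    rcases eq_or_ne k i with rfl | hki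
    · have := hk j (Ne.symm hij)
      simp at this
      exact hzo j this
    · have := hk i (Ne.symm hki)
      simp [hij] at this
      exact hzo i this

end Cfsg.Agent.S3560
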