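import Cfsg.Statements.S3571
import Mathlib
import Cfsg.Agent.S2119
import Cfsg.Agent.Lib.Recog.WeakSylvester
import Cfsg.Agent.Lib.Perm.WindowCycle

set_option autoImplicit false
set_option linter.style.haveILetI false
open Cfsg

namespace Cfsg.Agent.S3571

open Equiv Equiv.Perm MulAction Cfsg.Lib.WindowCycle Cfsg.Lib.WeakSylvester
open scoped Pointwise

/-- `A_m` is transitive on sets of a given size. -/
theorem orbit_eq {m : ℕ} (Δ : Finset (Fin m)) (hΔ : 2 ≤ Δ.card) :
    orbit (alternatingGroup (Fin m)) Δ = {S : Finset (Fin m) | S.card = Δ.card} := by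
  classical
  ext S
  simp only [MulAction.mem_orbit_iff, Set.mem_ofPred_eq]
  constructor
  · rintro ⟨a, rfl⟩
    exact Finset.card_smul_finset a Δ
  · intro hS
    let e₁ : {x // x ∈ Δ} ≃ {x // x ∈ S} := Finset.equivOfCardEq hS.symm
    let σ : Perm (Fin m) := e₁.extendSubtype
    have hσ : σ • Δ = S := by
      refine Finset.eq_of_subset_of_card_le (fun z hz => ?_) (le_of_eq ?_)
      · obtain ⟨x, hx, rfl⟩ := Finset.mem_smul_finset.1 hz
        exact Equiv.extendSubtype_mem e₁ x hx
      · rw [Finset.card_smul_finset]; exact hS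
    rcases Int.units_eq_one_or (Perm.sign σ) with h | h
    · exact ⟨⟨σ, by rw [Equiv.Perm.mem_alternatingGroup]; exact h⟩, hσ⟩
    · obtain ⟨a, ha, b, hb, hab⟩ := Finset.one_lt_card.1 hΔ
      refine ⟨⟨σ * swap a b, by rw [Equiv.Perm.mem_alternatingGroup, map_mul, h, sign_swap hab]; rfl⟩, ?_⟩
      show (σ * swap a b) • Δ = S
      rw [mul_smul, ← hσ]
      congr 1
      refine Finset.eq_of_subset_of_card_le (fun z hz => ?_) (by rw [Finset.card_smul_finset])
      obtain ⟨x, hx, rfl⟩ := Finset.mem_smul_finset.1 hz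
      show swap a b x ∈ Δ
      rw [swap_apply_def]
      split_ifs <;> assumption

theorem index_stabilizer_set {m : ℕ} (Δ : Finset (Fin m)) (hΔ : 2 ≤ Δ.card) :
    (stabilizer (alternatingGroup (Fin m)) Δ).index = m.choose Δ.card := by
  classical
  rw [MulAction.index_stabilizer, orbit_eq Δ hΔ]
  rw [show {S : Finset (Fin m) | S.card = Δ.card} = ↑(Finset.powersetCard Δ.card (Finset.univ : Finset (Fin m))) by
    ext S; simp [Finset.mem_powersetCard]]
  rw [Set.ncard_coe_finset, Finset.card_powersetCard, Finset.card_univ, Fintype.card_fin]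

/-- A permutation with `σ ^ r = 1` preserving a `k`-set has at least `k % r` fixed points. -/
theorem mod_le_fixed {m r : ℕ} (hr : r.Prime) (σ : Perm (Fin m)) (hσ : σ ^ r = 1) (S : Finset (Fin m))
    (hS : σ • S = S) : S.card % r ≤ m - σ.support.card := by
  classical
  haveI := Fact.mk hr
  have hmem : ∀ x, σ x ∈ S ↔ x ∈ S := by
    intro x
    conv_lhs => rw [← hS]
    exact Finset.smul_mem_smul_finset_iff σ
  let τ : Perm {x // x ∈ S} := σ.subtypePerm hmem
  have hτ : τ ^ r ^ 1 = 1 := by
    rw [pow_one]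
    refine Equiv.ext fun x => Subtype.ext ?_
    simp [τ, Equiv.Perm.subtypePerm_pow, hσ]
  have h1 := Equiv.Perm.card_compl_support_modEq hτ
  rw [Fintype.card_coe] at h1
  have h2 : τ.supportᶜ.card ≤ m - σ.support.card := by
    have h3 : m - σ.support.card = σ.supportᶜ.card := by rw [Finset.card_compl, Fintype.card_fin]
    rw [h3, ← Finset.card_map (Function.Embedding.subtype fun x => x ∈ S)]
    refine Finset.card_le_card fun z hz => ?_
    simp only [Finset.mem_map, Finset.mem_compl, mem_support, Function.Embedding.coe_subtype, ne_eq, not_not] at hz ⊢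
    obtain ⟨w, hw, rfl⟩ := hz
    exact congrArg Subtype.val hw
  exact le_trans (le_of_eq h1.symm) ((Nat.mod_le _ _).trans h2)

/-- An element of `A_m` of order `r` fixing no `k`-set. -/
theorem exists_no_fixed_set {m k r : ℕ} (hm : 5 ≤ m) (hr : r.Prime) (hkm : 2 * k ≤ m) (hk : 1 ≤ k)
    (h : k < r ∨ m < r * r) (hd : r ∣ m.choose k) (h2 : r = 2 → 4 ∣ m) :
    ∃ g : alternatingGroup (Fin m), orderOf g = r ∧
      ∀ S : Finset (Fin m), S.card = k → (g : Perm (Fin m)) • S ≠ S := by
  classical
  have hrm : r ≤ m := by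
    by_contra hh
    have h1 : m % r = m := Nat.mod_eq_of_lt (by omega)
    have h2 : k % r = k := Nat.mod_eq_of_lt (by omega)
    have := mod_lt_mod_of_dvd_choose hr (by omega) h hd
    omega
  obtain ⟨σ, hσ⟩ := (Equiv.Perm.exists_with_cycleType_iff (α := Fin m) (m := Multiset.replicate (m / r) r)).2
    ⟨by rw [Multiset.sum_replicate, Fintype.card_fin, smul_eq_mul]; exact Nat.div_mul_le_self m r,
     fun a ha => by rw [Multiset.eq_of_mem_replicate ha]; exact hr.two_le⟩
  have hev : σ ∈ alternatingGroup (Fin m) := by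
    rw [Equiv.Perm.mem_alternatingGroup, sign_of_cycleType, hσ, Multiset.sum_replicate, Multiset.card_replicate,
      smul_eq_mul]
    refine Even.neg_one_pow ?_
    rcases hr.eq_two_or_odd' with rfl | hodd
    · obtain ⟨c, rfl⟩ := h2 rfl
      exact ⟨3 * c, by omega⟩
    · obtain ⟨c, rfl⟩ := hodd
      exact ⟨m / (2 * c + 1) * (c + 1), by ring⟩
  have hord : orderOf σ = r := by
    rw [← lcm_cycleType, hσ]
    have hpos : 0 < m / r := Nat.div_pos hrm hr.pos
    refine Nat.dvd_antisymm (Multiset.lcm_dvd.2 fun b hb => by rw [Multiset.eq_of_mem_replicate hb])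
      (Multiset.dvd_lcm (Multiset.mem_replicate.2 ⟨hpos.ne', rfl⟩))
  refine ⟨⟨σ, hev⟩, by rw [← Subgroup.orderOf_coe]; exact hord, fun S hS hfix => ?_⟩
  have h3 := mod_le_fixed hr σ (by rw [← hord, pow_orderOf_eq_one]) S hfix
  rw [← sum_cycleType, hσ, Multiset.sum_replicate, smul_eq_mul, hS] at h3
  have h4 := mod_lt_mod_of_dvd_choose hr (by omega) h hd
  have h5 := Nat.mod_add_div m r
  rw [mul_comm r] at h5
  omega

/-- Let G be an almost simple group whose socle is an alternating group of degree m ≥ 5 (G has a normal subgroup T isomorphic to that alternating group with trivial centralizer), acting faithfully and primitively on a finite set Ω with at least two points, and let r be the largest prime divisor of the number of points. Then G contains an element of order r fixing no point. -/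
theorem result {G Ω : Type*} [Group G] [Finite G] [MulAction G Ω] [FaithfulSMul G Ω] [Finite Ω]
    (T : Subgroup G) (hT : T.Normal) (hTc : Subgroup.centralizer (T : Set G) = ⊥) (m : ℕ) (hm : 5 ≤ m)
    (eT : ↥T ≃* ↥(alternatingGroup (Fin m))) (hprim : MulAction.IsPreprimitive G Ω) (hΩ : 2 ≤ Nat.card Ω)
    (r : ℕ) (hr : r.Prime) (hrd : r ∣ Nat.card Ω) (hmax : ∀ s : ℕ, s.Prime → s ∣ Nat.card Ω → s ≤ r) :
    ∃ g : G, orderOf g = r ∧ ∀ ω : Ω, g • ω ≠ ω := by
  classical
  haveI := Fintype.ofFinite Ω
  haveI := Fact.mk hr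
  haveI : Nontrivial Ω := Finite.one_lt_card_iff_nontrivial.1 hΩ
  haveI := hprim
  haveI := hT
  obtain ⟨ω⟩ := (inferInstance : Nonempty Ω)
  have hT1 : fixedPoints T Ω ≠ Set.univ := by
    intro hfix
    have hA : 1 < Nat.card (alternatingGroup (Fin m)) := by
      haveI : Nontrivial (alternatingGroup (Fin m)) :=
        alternatingGroup.nontrivial_of_three_le_card (by simp; omega)
      exact Finite.one_lt_card
    haveI : Nontrivial T := Finite.one_lt_card_iff_nontrivial.1 (by rw [Nat.card_congr eT.toEquiv]; exact hA)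
    obtain ⟨t, ht⟩ := exists_ne (1 : T)
    apply ht
    refine Subtype.ext (eq_of_smul_eq_smul (α := Ω) fun x => ?_)
    have : x ∈ fixedPoints T Ω := hfix ▸ Set.mem_univ x
    exact (this t).trans (one_smul G x).symm
  haveI htrT : IsPretransitive T Ω := IsQuasiPreprimitive.isPretransitive_of_normal hT1
  set H := stabilizer G ω with hH
  set K : Subgroup (alternatingGroup (Fin m)) := (H.subgroupOf T).map eT.toMonoidHom with hK
  have hmemK : ∀ t : T, eT t ∈ K ↔ (t : G) • ω = ω := by
    intro t
    rw [hK]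
    constructor
    · rintro ⟨u, hu, he⟩
      obtain rfl := eT.injective he
      exact hu
    · exact fun h => ⟨t, h, rfl⟩
  have hstab : H.subgroupOf T = stabilizer T ω := by ext t; rfl
  have hidx : K.index = Nat.card Ω := by
    rw [hK, show (eT.toMonoidHom : T →* alternatingGroup (Fin m)) = (eT : T →* alternatingGroup (Fin m)) from rfl,
      Subgroup.index_map_equiv, hstab, index_stabilizer_of_transitive]
  suffices hkey : (∃ g : G, orderOf g = r ∧ ∀ ω : Ω, g • ω ≠ ω) ∨
      ∃ g₀ : alternatingGroup (Fin m), orderOf g₀ = r ∧ ∀ a, a * g₀ * a⁻¹ ∉ K by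
    rcases hkey with h | ⟨g₀, hg₀, hno⟩
    · exact h
    refine ⟨(eT.symm g₀ : G), ?_, fun x hx => ?_⟩
    · rw [Subgroup.orderOf_coe, MulEquiv.orderOf_eq]; exact hg₀
    · obtain ⟨t, ht⟩ := htrT.exists_smul_eq ω x
      apply hno (eT t⁻¹)
      rw [show eT t⁻¹ * g₀ * (eT t⁻¹)⁻¹ = eT (t⁻¹ * eT.symm g₀ * t) by simp, hmemK]
      change ((t : G)⁻¹ * (eT.symm g₀ : G) * (t : G)) • ω = ω
      have ht' : (t : G) • ω = x := ht
      rw [mul_smul, mul_smul, ht', hx, ← ht', inv_smul_smul]
  set n := Nat.card Ω with hn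
  have hcardA : 2 * Nat.card (alternatingGroup (Fin m)) = m.factorial := by
    haveI : Nontrivial (Fin m) := Fin.nontrivial_iff_two_le.2 (by omega)
    rw [two_mul_nat_card_alternatingGroup, Nat.card_eq_fintype_card, Fintype.card_perm, Fintype.card_fin]
  have hKn : Nat.card K * n = Nat.card (alternatingGroup (Fin m)) := by rw [← hidx]; exact K.card_mul_index
  have hrA : r ∣ Nat.card (alternatingGroup (Fin m)) := hKn ▸ hrd.mul_left _
  by_cases hbig : m < 2 * r
  · right
    obtain ⟨g₀, hg₀⟩ := exists_prime_orderOf_dvd_card' r hrA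
    refine ⟨g₀, hg₀, fun a ha => ?_⟩
    have h1 : r ∣ Nat.card K := by
      have h := orderOf_dvd_natCard (⟨_, ha⟩ : K)
      rw [← Subgroup.orderOf_coe] at h
      change orderOf (MulAut.conj a g₀) ∣ _ at h
      rw [MulEquiv.orderOf_eq, hg₀] at h
      exact h
    have h2 : r * r ∣ m.factorial := by
      rw [← hcardA, ← hKn]; exact (mul_dvd_mul h1 hrd).mul_left _
    have hv : m.factorial.factorization r ≤ 1 := by
      rw [Nat.factorization_factorial hr (Nat.lt_add_one (Nat.log r m))]
      rcases Nat.lt_or_ge m r with hlt | hge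
      · rw [Nat.log_of_lt hlt]; simp
      · have hlog : Nat.log r m = 1 := by
          rw [Nat.log_eq_iff (Or.inl one_ne_zero)]
          exact ⟨by simpa using hge, by rw [pow_two]; exact hbig.trans_le (Nat.mul_le_mul_right r hr.two_le)⟩
        rw [hlog]
        simp
        exact Nat.lt_succ_iff.1 ((Nat.div_lt_iff_lt_mul hr.pos).2 (by omega))
    rw [← pow_two, hr.pow_dvd_iff_le_factorization (Nat.factorial_ne_zero m)] at h2
    omega
  push Not at hbig
  have hwinK : ∀ p, p.Prime → m < 2 * p → p ≤ m → p ∣ Nat.card K := by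
    intro p hp h1 h2
    have h3 : p ∣ 2 * Nat.card (alternatingGroup (Fin m)) := hcardA ▸ Nat.dvd_factorial hp.pos h2
    rw [← hKn] at h3
    rcases hp.dvd_mul.1 h3 with h | h
    · have := Nat.le_of_dvd (by norm_num) h; omega
    rcases hp.dvd_mul.1 h with h' | h'
    · exact h'
    · have := hmax p hp h'; omega
  set K' : Subgroup (Perm (Fin m)) := K.map (alternatingGroup (Fin m)).subtype with hK'
  have hK'le : K' ≤ alternatingGroup (Fin m) := Subgroup.map_subtype_le K
  have hK'card : Nat.card K' = Nat.card K := Subgroup.card_map_of_injective (alternatingGroup (Fin m)).subtype_injective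
  have hK'ne : ¬ alternatingGroup (Fin m) ≤ K' := by
    intro hle
    have hK1 : K = ⊤ := by
      rw [eq_top_iff]
      intro a _
      obtain ⟨b, hb, hba⟩ := hle a.2
      exact (Subtype.ext hba : b = a) ▸ hb
    have : n = 1 := by rw [← hidx, hK1, Subgroup.index_top]
    omega
  by_cases htr : IsPretransitive K' (Fin m)
  · -- only `m = 6` survives
    have h6 : m = 6 := by
      by_contra h6
      exact hK'ne (alt_le_of_transitive hm h6 K' hK'le htr (fun p hp h1 h2 => hK'card ▸ hwinK p hp h1 h2))
    subst h6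
    have hA : Nat.card (alternatingGroup (Fin 6)) = 360 := by
      have : Nat.factorial 6 = 720 := rfl
      omega
    have h6K : 6 ∣ Nat.card K := by
      haveI := htr
      have h := Subgroup.index_dvd_card (stabilizer K' (0 : Fin 6))
      rw [index_stabilizer_of_transitive, Nat.card_fin, hK'card] at h
      exact h
    have h5K : 5 ∣ Nat.card K := hwinK 5 (by norm_num) (by norm_num) (by norm_num)
    let ρ : T →* Perm Ω := MulAction.toPermHom T Ω
    have hρ : Function.Injective ρ := by
      intro a b hab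
      refine Subtype.ext (eq_of_smul_eq_smul (α := Ω) fun x => ?_)
      exact Equiv.ext_iff.1 hab x
    have hT360 : Nat.card T = 360 := by rw [Nat.card_congr eT.toEquiv, hA]
    have hdvd : 360 ∣ n.factorial := by
      have h1 := Subgroup.card_subgroup_dvd_card ρ.range
      rw [← Nat.card_congr (MonoidHom.ofInjective hρ).toEquiv, hT360, Nat.card_perm] at h1
      exact h1
    have hn6 : 6 ≤ n := by
      by_contra hh
      have h1 : n.factorial ∣ 120 := Nat.factorial_dvd_factorial (n := 5) (by omega)
      have := Nat.le_of_dvd (by norm_num) (hdvd.trans h1)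
      omega
    rw [hA] at hKn
    obtain ⟨d, hd⟩ : 30 ∣ Nat.card K := Nat.Coprime.mul_dvd_of_dvd_of_dvd (show Nat.Coprime 6 5 by norm_num) h6K h5K
    rw [hd] at hKn
    have hd2 : d ≤ 2 := by nlinarith
    have hd0 : d ≠ 0 := fun h => by rw [h] at hKn; omega
    interval_cases d
    · exact absurd rfl hd0
    · -- a subgroup of order 30
      exfalso
      obtain ⟨ε, -, q, hq⟩ := Cfsg.Lib.Recog.DegreeTwoModFour.exists_sign_hom (Q := K') (m := 15) (by decide)
        (by rw [hK'card, hd])
      haveI : Fact (Nat.Prime 5) := ⟨by norm_num⟩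
      have hL15 : Nat.card ε.ker = 15 := by
        have h1 := ε.ker.card_mul_index
        rw [Subgroup.index_ker, hK'card, hd] at h1
        have h2 : Nat.card ε.range = 2 := by
          have hle : Nat.card ε.range ≤ 2 := (Subgroup.card_le_card_group _).trans (by simp)
          haveI : Nontrivial ε.range := ⟨⟨⟨ε q, q, rfl⟩, 1, fun h => hq (congrArg Subtype.val h)⟩⟩
          have := Finite.one_lt_card (α := ε.range)
          omega
        rw [h2] at h1
        omega
      obtain ⟨c, hc⟩ := exists_prime_orderOf_dvd_card' 5 (G := ε.ker) (by rw [hL15]; norm_num)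
      obtain ⟨hcc, hcs⟩ := cycle_of_order (m := 6) (by norm_num : (5:ℕ).Prime) (by norm_num)
        (c := ((c : K') : Perm (Fin 6))) (by rw [Subgroup.orderOf_coe, Subgroup.orderOf_coe]; exact hc)
      have hP : ∀ P : Sylow 5 ε.ker, Nat.card P = 5 := by
        intro P
        rw [P.card_eq_multiplicity, hL15, show (15 : ℕ) = 5 * 3 from rfl,
          Nat.factorization_mul (by norm_num) (by norm_num)]
        simp [Nat.Prime.factorization, (by norm_num : Nat.Prime 5), (by norm_num : Nat.Prime 3)]
      have h1 : Nat.card (Sylow 5 ε.ker) = 1 := by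
        obtain ⟨P⟩ := (inferInstance : Nonempty (Sylow 5 ε.ker))
        have h2 := P.card_dvd_index
        have h3 : (P : Subgroup ε.ker).index = 3 := by
          have := (P : Subgroup ε.ker).card_mul_index
          rw [hP P, hL15] at this
          omega
        have h4 := card_sylow_modEq_one 5 ε.ker
        rw [h3] at h2
        rcases (Nat.dvd_prime (by norm_num)).1 h2 with h5 | h5
        · exact h5
        · rw [h5] at h4; norm_num [Nat.ModEq] at h4
      haveI := (Nat.card_eq_one_iff_unique.1 h1).1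
      have hz : ∀ d : ε.ker, orderOf d = 5 → d ∈ Subgroup.zpowers c := by
        intro d hd
        have hc5 : IsPGroup 5 (Subgroup.zpowers c) := IsPGroup.of_card (n := 1) (by rw [Nat.card_zpowers, hc]; rfl)
        have hd5 : IsPGroup 5 (Subgroup.zpowers d) := IsPGroup.of_card (n := 1) (by rw [Nat.card_zpowers, hd]; rfl)
        obtain ⟨P, hPc⟩ := hc5.exists_le_sylow
        obtain ⟨Q, hQd⟩ := hd5.exists_le_sylow
        have hPQ : P = Q := Subsingleton.elim _ _
        have hPc' : Subgroup.zpowers c = (P : Subgroup ε.ker) :=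
          Subgroup.eq_of_le_of_card_ge hPc (by rw [Nat.card_zpowers, hc, hP P])
        rw [hPc', hPQ]
        exact hQd (Subgroup.mem_zpowers d)
      obtain ⟨x, hx⟩ : ∃ x, ((c : K') : Perm (Fin 6)) x = x := by
        by_contra hh
        push Not at hh
        rw [Finset.eq_univ_iff_forall.2 (fun x => mem_support.2 (hh x))] at hcs
        simp at hcs
      obtain ⟨y, hy⟩ : (((c : K') : Perm (Fin 6))).support.Nonempty := Finset.card_pos.1 (by omega)
      obtain ⟨g, hg⟩ := htr.exists_smul_eq y x
      let c' : ε.ker := ⟨g * c * g⁻¹, (inferInstance : ε.ker.Normal).conj_mem _ c.2 g⟩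
      have hc' : orderOf c' = 5 := by
        rw [← Subgroup.orderOf_coe]
        show orderOf (MulAut.conj g (c : K')) = 5
        rw [MulEquiv.orderOf_eq, Subgroup.orderOf_coe, hc]
      obtain ⟨i, hi⟩ := Subgroup.mem_zpowers_iff.1 (hz c' hc')
      have h5 : (((c' : K')) : Perm (Fin 6)) x = x := by
        rw [← hi]
        simp only [Subgroup.coe_zpow]
        exact Equiv.Perm.zpow_apply_eq_self_of_apply_eq_self hx i
      have h6 : (g : Perm (Fin 6)) y = x := hg
      simp only [c', Subgroup.coe_mul, Subgroup.coe_inv, Perm.mul_apply] at h5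
      rw [← h6, Equiv.Perm.inv_eq_iff_eq.2 rfl] at h5
      exact mem_support.1 hy ((g : Perm (Fin 6)).injective h5)
    · -- six points
      left
      have hn' : n = 6 := by omega
      have hr3 : r = 3 := by
        have h3 : 3 ≤ r := hmax 3 (by norm_num) (by rw [hn']; norm_num)
        omega
      have hi2 : ρ.range.index = 2 := by
        have h1 := ρ.range.card_mul_index
        rw [← Nat.card_congr (MonoidHom.ofInjective hρ).toEquiv, hT360, Nat.card_perm, ← hn, hn'] at h1
        have : Nat.factorial 6 = 720 := rfl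
        omega
      have halt := Equiv.Perm.eq_alternatingGroup_of_index_eq_two hi2
      obtain ⟨σ, hσ⟩ := (Equiv.Perm.exists_with_cycleType_iff (α := Ω) (m := {3, 3})).2
        ⟨by rw [← Nat.card_eq_fintype_card, ← hn, hn']; simp, by simp⟩
      have hσA : σ ∈ ρ.range := by
        rw [halt, Equiv.Perm.mem_alternatingGroup, sign_of_cycleType, hσ]
        rfl
      obtain ⟨t, ht⟩ := hσA
      have hord : orderOf σ = 3 := by
        rw [← lcm_cycleType, hσ]; rfl
      refine ⟨t, ?_, fun x hx => ?_⟩
      · rw [Subgroup.orderOf_coe, ← orderOf_injective ρ hρ, ht, hord, hr3]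
      · have h1 : σ.support = Finset.univ := Finset.eq_univ_of_card _ (by
          rw [← sum_cycleType, hσ, ← Nat.card_eq_fintype_card, ← hn, hn']; rfl)
        have h2 : x ∈ σ.support := h1 ▸ Finset.mem_univ x
        exact mem_support.1 h2 (ht ▸ hx)
  -- intransitive
  obtain ⟨p, hp, hp1, hp2⟩ := Nat.exists_prime_lt_and_le_two_mul (m / 2) (by omega)
  haveI := Fact.mk hp
  obtain ⟨c, hc⟩ := exists_prime_orderOf_dvd_card' p (hwinK p hp (by omega) (by omega))
  set c₀ : Perm (Fin m) := ((c : alternatingGroup (Fin m)) : Perm (Fin m)) with hc₀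
  have hc₀K : c₀ ∈ K' := ⟨_, c.2, rfl⟩
  obtain ⟨hcc, hcs⟩ := cycle_of_order (m := m) hp (by omega) (c := c₀)
    (by rw [hc₀, Subgroup.orderOf_coe, Subgroup.orderOf_coe]; exact hc)
  obtain ⟨x, hx⟩ : c₀.support.Nonempty := Finset.card_pos.1 (hcs ▸ hp.pos)
  set Δ : Finset (Fin m) := Finset.univ.filter (fun y => ∃ g ∈ K', g x = y) with hΔ
  have hsupΔ : c₀.support ⊆ Δ := by
    intro y hy
    obtain ⟨i, hi⟩ := hcc.exists_pow_eq (mem_support.1 hx) (mem_support.1 hy)
    exact Finset.mem_filter.2 ⟨Finset.mem_univ _, c₀ ^ i, K'.pow_mem hc₀K i, hi⟩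
  have hΔbig : m < 2 * Δ.card := by
    have := Finset.card_le_card hsupΔ
    omega
  have hΔne : Δ ≠ Finset.univ := by
    intro hall
    apply htr
    have hall' : ∀ y, ∃ g ∈ K', g x = y := fun y => (Finset.mem_filter.1 (show y ∈ Δ by rw [hall]; exact Finset.mem_univ y)).2
    refine ⟨fun a b => ?_⟩
    obtain ⟨g, hg, ha⟩ := hall' a
    obtain ⟨g', hg', hb⟩ := hall' b
    refine ⟨⟨g' * g⁻¹, K'.mul_mem hg' (K'.inv_mem hg)⟩, ?_⟩
    show g' (g⁻¹ a) = b
    rw [← ha, Equiv.Perm.inv_def, Equiv.symm_apply_apply, hb]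
  have hΔlt : Δ.card < m := by
    have := Finset.card_lt_card (Finset.ssubset_univ_iff.2 hΔne)
    simpa using this
  set k := m - Δ.card with hk
  set L := stabilizer (alternatingGroup (Fin m)) Δ with hL
  have hLidx : L.index = m.choose k := by
    rw [hL, index_stabilizer_set Δ (by omega), hk, Nat.choose_symm hΔlt.le]
  have hKL : K ≤ L := by
    intro a ha
    refine Finset.eq_of_subset_of_card_le (fun z hz => ?_) (by rw [Finset.card_smul_finset])
    obtain ⟨y, hy, rfl⟩ := Finset.mem_smul_finset.1 hz
    obtain ⟨g, hg, rfl⟩ := (Finset.mem_filter.1 hy).2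
    exact Finset.mem_filter.2 ⟨Finset.mem_univ _, (a : Perm (Fin m)) * g, K'.mul_mem ⟨a, ha, rfl⟩ hg, rfl⟩
  have hCn : m.choose k ∣ n := by
    rw [← hidx, ← hLidx]; exact Subgroup.index_dvd_of_le hKL
  obtain ⟨p₀, hp₀, hp₀C, hp₀'⟩ := exists_prime_dvd_choose (m := m) (k := k) (by omega) (by omega)
  have hp₀r := hmax p₀ hp₀ (hp₀C.trans hCn)
  have hcond : k < r ∨ m < r * r := by
    rcases hp₀' with h | h
    · exact Or.inl (by omega)
    · exact Or.inr (h.trans_le (Nat.mul_le_mul hp₀r hp₀r))
  have hrC : r ∣ m.choose k := by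
    by_cases h6 : m = 6
    · subst h6
      have hk1 : k = 1 := by
        have : 5 ≤ Δ.card := by
          have := Finset.card_le_card hsupΔ
          have : p = 5 := by
            have : p ≤ 6 := by omega
            have : 3 < p := by omega
            interval_cases p <;> first | rfl | (exfalso; norm_num at hp)
          omega
        omega
      have h3 : 3 ≤ r := hmax 3 (by norm_num) ((show 3 ∣ Nat.choose 6 k by rw [hk1]; norm_num).trans hCn)
      have hr3 : r = 3 := by omega
      rw [hk1, hr3]; norm_num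
    · suffices K = L by rw [← hLidx, ← this, hidx]; exact hrd
      refine le_antisymm hKL ?_
      set LT : Subgroup G := (L.comap eT.toMonoidHom).map T.subtype with hLT
      have hnorm : H ≤ Subgroup.normalizer (LT : Set G) := by
        intro h hh
        obtain ⟨σ, hσ⟩ := Cfsg.Agent.S2119.surj m (by omega) h6
          (eT.symm.trans ((MulAut.conjNormal h : MulAut T).trans eT))
        have hval : ∀ t : T, (eT (MulAut.conjNormal h t) : Perm (Fin m)) = σ * (eT t : Perm (Fin m)) * σ⁻¹ := by
          intro t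
          have h1 := congrArg (fun f : MulAut (alternatingGroup (Fin m)) => (f (eT t) : Perm (Fin m))) hσ
          simp only [MulAut.conjNormal_apply, MulEquiv.trans_apply, MulEquiv.symm_apply_apply] at h1
          exact h1.symm
        -- `σ` preserves `Δ`
        have hinvK : ∀ g ∈ K', σ * g * σ⁻¹ ∈ K' := by
          rintro g ⟨a, ha, rfl⟩
          refine ⟨eT (MulAut.conjNormal h (eT.symm a)), ?_, ?_⟩
          · show eT _ ∈ K
            rw [hmemK, MulAut.conjNormal_apply]
            have ha' : ((eT.symm a : T) : G) • ω = ω := (hmemK _).1 (by rwa [MulEquiv.apply_symm_apply])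
            have hh' : h • ω = ω := hh
            rw [mul_smul, mul_smul, inv_smul_eq_iff.2 hh'.symm, ha', hh']
          · have := hval (eT.symm a)
            rw [MulEquiv.apply_symm_apply] at this
            exact this
        have hinvK' : ∀ g ∈ K', σ⁻¹ * g * σ ∈ K' := by
          intro g hg
          obtain ⟨⟨g', hg'⟩, hgg⟩ := Finite.surjective_of_injective
            (f := fun u : K' => (⟨σ * u * σ⁻¹, hinvK u u.2⟩ : K'))
            (fun u v huv => Subtype.ext (by simpa using congrArg Subtype.val huv)) ⟨g, hg⟩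
          have hge : σ * g' * σ⁻¹ = g := congrArg Subtype.val hgg
          rw [← hge]
          simpa [mul_assoc] using hg'
        have hinvS : ∀ g ∈ K', ∀ y ∈ σ • Δ, g y ∈ σ • Δ := by
          intro g hg y hy
          obtain ⟨z, hz, rfl⟩ := Finset.mem_smul_finset.1 hy
          obtain ⟨g', hg', rfl⟩ := (Finset.mem_filter.1 hz).2
          refine Finset.mem_smul_finset.2 ⟨(σ⁻¹ * g * σ * g') x,
            Finset.mem_filter.2 ⟨Finset.mem_univ _, _, K'.mul_mem (hinvK' g hg) hg', rfl⟩, ?_⟩
          simp [Perm.smul_def]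
        obtain ⟨y, hy⟩ : (σ • Δ ∩ Δ).Nonempty := by
          apply Finset.card_pos.1
          have h1 := Finset.card_union_add_card_inter (σ • Δ) Δ
          have h2 : (σ • Δ ∪ Δ).card ≤ m := (Finset.card_le_univ _).trans (by simp)
          rw [Finset.card_smul_finset] at h1
          omega
        rw [Finset.mem_inter] at hy
        obtain ⟨g, hg, rfl⟩ := (Finset.mem_filter.1 hy.2).2
        have hxS : x ∈ σ • Δ := by
          have := hinvS g⁻¹ (K'.inv_mem hg) _ hy.1
          simpa using this
        have hσΔ : σ • Δ = Δ := by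
          refine (Finset.eq_of_subset_of_card_le (fun z hz => ?_) (by rw [Finset.card_smul_finset])).symm
          obtain ⟨g', hg', rfl⟩ := (Finset.mem_filter.1 hz).2
          exact hinvS g' hg' x hxS
        refine Subgroup.mem_normalizer_iff.2 ?_
        have hone : ∀ u ∈ LT, h * u * h⁻¹ ∈ LT := by
          rintro _ ⟨t, ht, rfl⟩
          refine ⟨MulAut.conjNormal h t, ?_, MulAut.conjNormal_apply h t⟩
          show eT (MulAut.conjNormal h t) ∈ L
          rw [hL, mem_stabilizer_iff, Subgroup.smul_def, hval, mul_smul, mul_smul, inv_smul_eq_iff.2 hσΔ.symm]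
          have ht' : ((eT t : Perm (Fin m))) • Δ = Δ := ht
          rw [ht', hσΔ]
        intro u
        refine ⟨hone u, fun hu => ?_⟩
        obtain ⟨⟨u', hu'⟩, huu⟩ := Finite.surjective_of_injective
          (f := fun v : LT => (⟨h * v * h⁻¹, hone v v.2⟩ : LT))
          (fun a b hab => Subtype.ext (by simpa using congrArg Subtype.val hab)) ⟨_, hu⟩
        have : h * u' * h⁻¹ = h * u * h⁻¹ := congrArg Subtype.val huu
        rwa [← mul_left_cancel (mul_right_cancel this)]
      have hmax' : IsCoatom H := (isCoatom_stabilizer_iff_preprimitive (G := G) ω).2 hprim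
      rcases eq_or_lt_of_le (le_sup_left : H ≤ H ⊔ LT) with heq | hlt
      · intro a ha
        have h1 : ((eT.symm a : T) : G) ∈ LT := ⟨eT.symm a, by simpa using ha, rfl⟩
        have h2 : ((eT.symm a : T) : G) ∈ H := heq.symm ▸ (le_sup_right (a := H) h1)
        have := (hmemK (eT.symm a)).2 h2
        rwa [MulEquiv.apply_symm_apply] at this
      · exfalso
        have htop := hmax'.2 _ hlt
        have hprod := Subgroup.coe_mul_of_left_le_normalizer_right H LT hnorm
        rw [htop] at hprod
        have hLtop : L = ⊤ := by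
          rw [eq_top_iff]
          intro a _
          obtain ⟨h, hh, l, ⟨l', hl', rfl⟩, he⟩ := (Set.ext_iff.1 hprod ((eT.symm a : T) : G)).1 (Set.mem_univ _)
          have hhT : h ∈ T := by
            have : h = ((eT.symm a : T) : G) * (l' : G)⁻¹ := by
              rw [← he]; simp
            rw [this]; exact T.mul_mem (eT.symm a).2 (T.inv_mem l'.2)
          have e1 : eT.symm a = ⟨h, hhT⟩ * l' := Subtype.ext he.symm
          have e2 : a = eT ⟨h, hhT⟩ * eT l' := by rw [← map_mul, ← e1, MulEquiv.apply_symm_apply]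
          rw [e2]
          exact L.mul_mem (hKL ((hmemK ⟨h, hhT⟩).2 hh)) hl'
        rw [hLtop, Subgroup.index_top] at hLidx
        have := Nat.choose_le_choose k (show k + 1 ≤ m by omega)
        rw [Nat.choose_succ_self_right] at this
        omega
  right
  obtain ⟨g₀, hg₀, hg₀'⟩ := exists_no_fixed_set (m := m) (k := k) hm hr (by omega) (by omega) hcond hrC (by
    intro hr2
    subst hr2
    have hk1 : k = 1 := by omega
    have hp2only : ∀ q, q.Prime → q ∣ m → q = 2 := by
      intro q hq hqm
      have := hmax q hq ((by rw [hk1, Nat.choose_one_right]; exact hqm : q ∣ m.choose k).trans hCn)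
      have := hq.two_le
      omega
    obtain h2 : m = 2 ^ m.primeFactorsList.length := Nat.eq_prime_pow_of_unique_prime_dvd (by omega) fun hq hqm => hp2only _ hq hqm
    rcases Nat.lt_or_ge m.primeFactorsList.length 2 with hl | hl
    · have : 2 ^ m.primeFactorsList.length ≤ 2 := by
        calc 2 ^ m.primeFactorsList.length ≤ 2 ^ 1 := Nat.pow_le_pow_right (by norm_num) (by omega)
          _ = 2 := rfl
      omega
    · rw [h2]; exact pow_dvd_pow 2 hl)
  refine ⟨g₀, hg₀, fun a ha => ?_⟩
  apply hg₀' ((a⁻¹ : alternatingGroup (Fin m)) • Δᶜ)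
  · rw [Finset.card_smul_finset, Finset.card_compl, Fintype.card_fin]
  · have h1 : ((a * g₀ * a⁻¹ : alternatingGroup (Fin m))) • Δ = Δ := hKL ha
    have h2 : ((a * g₀ * a⁻¹ : alternatingGroup (Fin m))) • Δᶜ = Δᶜ := by
      refine Finset.eq_of_subset_of_card_le (fun z hz => ?_) (by rw [Finset.card_smul_finset])
      obtain ⟨w, hw, rfl⟩ := Finset.mem_smul_finset.1 hz
      rw [Finset.mem_compl] at hw ⊢
      intro hmem
      obtain ⟨u, hu, he⟩ := Finset.mem_smul_finset.1 (h1.symm ▸ hmem :
        (a * g₀ * a⁻¹ : alternatingGroup (Fin m)) • w ∈ (a * g₀ * a⁻¹ : alternatingGroup (Fin m)) • Δ)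
      exact hw (MulAction.injective _ he ▸ hu)
    show g₀ • a⁻¹ • Δᶜ = a⁻¹ • Δᶜ
    rw [eq_inv_smul_iff, ← mul_smul, ← mul_smul]
    exact h2

end Cfsg.Agent.S3571
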