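import Cfsg.Statements.S3572
import Mathlib
import Cfsg.Agent.Lib.Perm.DihedralBGroup.Main

set_option autoImplicit false
open Cfsg

namespace Cfsg.Agent.S3572

open MulAction Cfsg.Lib.DihB

theorem main {G Ω : Type*} [Group G] [MulAction G Ω] [Finite Ω] (hprim : MulAction.IsPreprimitive G Ω) (m : ℕ)
    (φ : DihedralGroup m →* G) (o : Ω) (hbij : Function.Bijective (fun d : DihedralGroup m => φ d • o)) :
    MulAction.IsMultiplyPretransitive G Ω 2 := by
  classical
  haveI : NeZero m := ⟨fun h => by
    subst h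
    haveI : Finite (DihedralGroup 0) := Finite.of_injective _ hbij.1
    exact not_finite (DihedralGroup 0)⟩
  haveI := hprim.toIsPretransitive
  set e : DihedralGroup m ≃ Ω := Equiv.ofBijective _ hbij with he
  let H : Subgroup (Equiv.Perm (DihedralGroup m)) :=
    (((e.symm.permCongrHom : Equiv.Perm Ω ≃* Equiv.Perm (DihedralGroup m)).toMonoidHom).comp (MulAction.toPermHom G Ω)).range
  have hmem : ∀ g ∈ H, ∃ x : G, ∀ u, x • e u = e (g u) := by
    rintro _ ⟨x, rfl⟩
    exact ⟨x, fun u => by simp⟩
  have hof : ∀ x : G, ∃ g ∈ H, ∀ u, x • e u = e (g u) := fun x => ⟨_, ⟨x, rfl⟩, fun u => by simp⟩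
  have hL : ∀ t, Equiv.mulLeft t ∈ H := by
    intro t
    refine ⟨φ t, Equiv.ext fun u => e.injective ?_⟩
    simp [he, mul_smul]
  have hP : Prim H := by
    intro K hK
    have hsub : ∀ (x : G) (a w : DihedralGroup m), a ∈ K → e.symm (x • e a) ∈ K → w ∈ K → e.symm (x • e w) ∈ K := by
      intro x a w ha hxa hw
      obtain ⟨g, hg, hgx⟩ := hof x
      rw [hgx, Equiv.symm_apply_apply] at hxa ⊢
      have := (hK g hg a w).mpr (mul_mem (inv_mem ha) hw)
      have := mul_mem hxa this
      rwa [mul_inv_cancel_left] at this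
    have hblock : IsBlock G {w : Ω | e.symm w ∈ K} := by
      rw [isBlock_iff_smul_eq_of_mem]
      intro x a ha hxa
      ext w
      rw [Set.mem_smul_set_iff_inv_smul_mem]
      constructor
      · intro hw
        have := hsub x (e.symm a) (e.symm (x⁻¹ • w)) ha (by simpa using hxa) hw
        simpa using this
      · intro hw
        have := hsub x⁻¹ (e.symm (x • a)) (e.symm w) hxa (by simpa using ha) hw
        simpa using this
    rcases hprim.isTrivialBlock_of_isBlock hblock with h | h
    · left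
      rw [Subgroup.eq_bot_iff_forall]
      intro c hc
      have := h (show e c ∈ {w : Ω | e.symm w ∈ K} by simpa using hc)
        (show e 1 ∈ {w : Ω | e.symm w ∈ K} by simp)
      exact e.injective this
    · right
      rw [eq_top_iff]
      intro c _
      have := h.ge (Set.mem_univ (e c))
      simpa using this
  have htwo : ∀ u v u' v' : DihedralGroup m, u ≠ v → u' ≠ v' → ∃ g ∈ H, g u = u' ∧ g v = v' := by
    by_cases hm1 : m = 1
    · subst hm1
      intro u v u' v' huv huv'
      refine ⟨Equiv.mulLeft (u' * u⁻¹), hL _, by simp, ?_⟩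
      have key : ∀ u v u' v' : DihedralGroup 1, u ≠ v → u' ≠ v' → u' * u⁻¹ * v = v' := by decide
      rw [Equiv.coe_mulLeft]
      exact key u v u' v' huv huv'
    obtain ⟨p, hp, hpm, hodd⟩ : ∃ p, p.Prime ∧ p ∣ m ∧ (p ≠ 2 ∨ ordCompl[p] m = 1) := by
      by_cases h : ∃ q, q.Prime ∧ q ∣ m ∧ q ≠ 2
      · obtain ⟨q, h1, h2, h3⟩ := h; exact ⟨q, h1, h2, Or.inl h3⟩
      · push Not at h
        obtain ⟨q, hq, hqm⟩ := Nat.exists_prime_and_dvd hm1
        refine ⟨q, hq, hqm, Or.inr ?_⟩
        by_contra hne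
        obtain ⟨r, hr, hrd⟩ := Nat.exists_prime_and_dvd hne
        have h1 := h r hr (hrd.trans (Nat.ordCompl_dvd m q))
        have h2 := h q hq hqm
        exact Nat.not_dvd_ordCompl hq (NeZero.ne m) (h1.trans h2.symm ▸ hrd)
    exact two_trans (p := p) (k := m.factorization p) hp (Nat.ordProj_mul_ordCompl_eq_self m p).symm
      (Nat.pos_iff_ne_zero.1 (hp.factorization_pos_of_dvd (NeZero.ne m) hpm)) hL
      (Nat.coprime_ordCompl hp (NeZero.ne m)).symm hodd hP
  rw [is_two_pretransitive_iff]
  intro a b c d hab hcd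
  obtain ⟨g, hg, h1, h2⟩ := htwo (e.symm a) (e.symm b) (e.symm c) (e.symm d)
    (e.symm.injective.ne hab) (e.symm.injective.ne hcd)
  obtain ⟨x, hx⟩ := hmem g hg
  refine ⟨x, ?_, ?_⟩
  · have := hx (e.symm a); rw [h1] at this; simpa using this
  · have := hx (e.symm b); rw [h2] at this; simpa using this


/-- A finite primitive permutation group containing a dihedral subgroup that acts regularly (transitively with trivial point stabilizers) is doubly transitive. -/
theorem result {G Ω : Type*} [Group G] [Finite G] [MulAction G Ω] [FaithfulSMul G Ω] [Finite Ω]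
    (hprim : MulAction.IsPreprimitive G Ω) (D : Subgroup G) (m : ℕ) (hD : Nonempty (↥D ≃* DihedralGroup m))
    (hDreg : MulAction.IsPretransitive ↥D Ω ∧ ∀ a : Ω, MulAction.stabilizer ↥D a = ⊥) :
    MulAction.IsMultiplyPretransitive G Ω 2 := by
  obtain ⟨φ⟩ := hD
  rcases isEmpty_or_nonempty Ω with h | ⟨⟨o⟩⟩
  · rw [is_two_pretransitive_iff]
    intro a
    exact h.elim a
  refine main hprim m (D.subtype.comp φ.symm.toMonoidHom) o ⟨fun a b h => ?_, fun w => ?_⟩
  · have h' : φ.symm a • o = φ.symm b • o := h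
    have : (φ.symm b)⁻¹ * φ.symm a ∈ stabilizer D o := by
      rw [mem_stabilizer_iff, mul_smul, h', inv_smul_smul]
    rw [hDreg.2 o, Subgroup.mem_bot, inv_mul_eq_one] at this
    exact φ.symm.injective this.symm
  · obtain ⟨c, hc⟩ := hDreg.1.exists_smul_eq o w
    exact ⟨φ c, by simpa [Subgroup.smul_def] using hc⟩

end Cfsg.Agent.S3572
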