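import Mathlib
import Cfsg.Statements.S3575

set_option autoImplicit false
open Cfsg

namespace Cfsg.Agent.S3575

open Equiv

/-- One step of the rotation of the consecutive `r`-blocks below `N`. -/
def rotNat (r N x : ℕ) : ℕ := if x < N then r * (x / r) + (x % r + 1) % r else x

theorem rotNat_lt {r N x : ℕ} (hr : 0 < r) (hN : r ∣ N) (hx : x < N) : rotNat r N x < N := by
  obtain ⟨c, rfl⟩ := hN
  rw [rotNat, if_pos hx]
  have h1 : x / r < c := (Nat.div_lt_iff_lt_mul hr).2 (by rwa [mul_comm])
  have h2 := Nat.mod_lt (x % r + 1) hr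
  calc r * (x / r) + (x % r + 1) % r < r * (x / r) + r := by omega
    _ = r * (x / r + 1) := by ring
    _ ≤ r * c := Nat.mul_le_mul_left r h1

theorem rotNat_iterate {r N : ℕ} (hr : 0 < r) (hN : r ∣ N) (i x : ℕ) :
    (rotNat r N)^[i] x = if x < N then r * (x / r) + (x % r + i) % r else x := by
  induction i with
  | zero => simp [Nat.div_add_mod]
  | succ i ih =>
    rw [Function.iterate_succ_apply', ih]
    by_cases hx : x < N
    · rw [if_pos hx, if_pos hx]
      set y := r * (x / r) + (x % r + i) % r with hy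
      have hyd : y / r = x / r := by
        rw [hy, Nat.mul_add_div hr, Nat.div_eq_of_lt (Nat.mod_lt _ hr), add_zero]
      have hym : y % r = (x % r + i) % r := by
        rw [hy, Nat.mul_add_mod, Nat.mod_mod]
      have hyN : y < N := by
        obtain ⟨c, rfl⟩ := hN
        have h1 : x / r < c := (Nat.div_lt_iff_lt_mul hr).2 (by rwa [mul_comm])
        calc y < r * (x / r) + r := by have := Nat.mod_lt (x % r + i) hr; omega
          _ = r * (x / r + 1) := by ring
          _ ≤ r * c := Nat.mul_le_mul_left r h1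
      rw [rotNat, if_pos hyN, hyd, hym, Nat.mod_add_mod, add_assoc]
    · rw [if_neg hx, if_neg hx, rotNat, if_neg hx]

theorem rotNat_ne {r N x : ℕ} (hr : 2 ≤ r) : rotNat r N x ≠ x ↔ x < N := by
  by_cases hx : x < N
  · simp only [rotNat, hx, if_true, iff_true]
    intro h
    have hd := Nat.div_add_mod x r
    have hm := Nat.mod_lt x (show r > 0 by omega)
    by_cases h1 : x % r + 1 = r
    · rw [h1, Nat.mod_self] at h; omega
    · rw [Nat.mod_eq_of_lt (by omega)] at h; omega
  · simp [rotNat, hx]

theorem rotNat_lt_le {r N n x : ℕ} (hr : 0 < r) (hN : r ∣ N) (hn : N ≤ n) (hx : x < n) : rotNat r N x < n := by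
  by_cases h : x < N
  · exact (rotNat_lt hr hN h).trans_le hn
  · rw [rotNat, if_neg h]; exact hx

theorem bijective_of_iterate {α : Type*} {f : α → α} {r : ℕ} (hr : 0 < r) (h : ∀ x, f^[r] x = x) :
    Function.Bijective f := by
  obtain ⟨s, rfl⟩ : ∃ s, r = s + 1 := ⟨r - 1, by omega⟩
  refine Function.bijective_iff_has_inverse.2 ⟨f^[s], fun x => ?_, fun x => ?_⟩
  · rw [← Function.iterate_succ_apply]; exact h x
  · rw [← Function.iterate_succ_apply' f s x]; exact h x

theorem rotNat_period {r N : ℕ} (hr : 0 < r) (hN : r ∣ N) (x : ℕ) : (rotNat r N)^[r] x = x := by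
  rw [rotNat_iterate hr hN]
  split_ifs
  · rw [Nat.add_mod_right, Nat.mod_mod]; exact Nat.div_add_mod x r
  · rfl

/-- The rotation as a permutation. -/
theorem exists_rot {r N n : ℕ} (hr : 2 ≤ r) (hN : r ∣ N) (hn : N ≤ n) :
    ∃ g : Perm (Fin n), g ^ r = 1 ∧ g.support.card = N ∧ ∀ x : Fin n, g x ≠ x ↔ (x : ℕ) < N := by
  let f : Fin n → Fin n := fun x => ⟨rotNat r N x, rotNat_lt_le (by omega) hN hn x.2⟩
  have hit : ∀ i (x : Fin n), ((f^[i] x : Fin n) : ℕ) = (rotNat r N)^[i] x := by
    intro i
    induction i with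
    | zero => simp
    | succ i ih => intro x; rw [Function.iterate_succ_apply', Function.iterate_succ_apply', ← ih]
  have hper : ∀ x, f^[r] x = x := fun x => Fin.ext (by rw [hit, rotNat_period (by omega) hN])
  let g : Perm (Fin n) := Equiv.ofBijective f (bijective_of_iterate (by omega) hper)
  have hne : ∀ x : Fin n, g x ≠ x ↔ (x : ℕ) < N := fun x => by
    rw [← rotNat_ne hr (N := N) (x := (x : ℕ))]
    exact not_congr Fin.ext_iff
  refine ⟨g, Equiv.ext fun x => ?_, ?_, hne⟩
  · rw [Perm.coe_pow]; exact hper x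
  · have h : g.support = Finset.univ.filter (fun x : Fin n => (x : ℕ) < N) := by
      ext x; simp [hne]
    rw [h, Fin.card_filter_val_lt, min_eq_right hn]

theorem dvd_support {α : Type*} [Fintype α] [DecidableEq α] {r : ℕ} (hr : r.Prime) {τ : Perm α} (h : τ ^ r = 1) :
    r ∣ τ.support.card := by
  haveI := Fact.mk hr
  by_cases h1 : τ = 1
  · subst h1; simp
  · have ho := orderOf_eq_prime h h1
    obtain ⟨n, hn⟩ := Perm.cycleType_prime_order (σ := τ) (by rw [ho]; exact hr)
    rw [← Perm.sum_cycleType, hn, Multiset.sum_replicate, ho, smul_eq_mul]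
    exact dvd_mul_left r _

theorem cycleType_eq {α : Type*} [Fintype α] [DecidableEq α] {r j : ℕ} (hr : r.Prime) {τ : Perm α}
    (h : τ ^ r = 1) (hj : 1 ≤ j) (hs : τ.support.card = j * r) :
    τ.cycleType = Multiset.replicate j r ∧ orderOf τ = r := by
  haveI := Fact.mk hr
  have h1 : τ ≠ 1 := by
    intro h1; subst h1
    have h0 : 0 = j * r := by simpa using hs
    have := hr.pos
    nlinarith
  have ho := orderOf_eq_prime h h1
  obtain ⟨n, hn⟩ := Perm.cycleType_prime_order (σ := τ) (by rw [ho]; exact hr)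
  have hsum : (n + 1) * r = j * r := by
    rw [← hs, ← Perm.sum_cycleType, hn, Multiset.sum_replicate, ho, smul_eq_mul]
  exact ⟨by rw [hn, ho, Nat.eq_of_mul_eq_mul_right hr.pos hsum], ho⟩

/-- A permutation with `f ∘ σ = π ∘ f`, the fibres of `f` having size `a`. -/
def Fixes {α : Type*} (a b : ℕ) (σ : Perm α) : Prop :=
  ∃ f : α → Fin b, (∀ j : Fin b, Nat.card {x : α // f x = j} = a) ∧
    ∃ π : Perm (Fin b), ∀ x : α, f (σ x) = π (f x)

theorem necessity {α : Type*} [Fintype α] [DecidableEq α] {a b r j : ℕ} (ha : 1 ≤ a) (hr : r.Prime)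
    {σ : Perm α} (hσ : σ ^ r = 1) (hj : σ.support.card = j * r) (h : Fixes a b σ) :
    ∃ m, r * m ≤ b ∧ a * m ≤ j ∧ j ≤ a * m + (b - r * m) * (a / r) := by
  obtain ⟨f, hf, π, hπ⟩ := h
  have hsurj : Function.Surjective f := fun t => by
    by_contra hne
    push Not at hne
    have : IsEmpty {x : α // f x = t} := ⟨fun x => hne x.1 x.2⟩
    have := hf t
    rw [Nat.card_of_isEmpty] at this
    omega
  have hiter : ∀ i x, f ((σ ^ i) x) = (π ^ i) (f x) := by
    intro i
    induction i with
    | zero => simp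
    | succ i ih => intro x; rw [pow_succ', pow_succ', Perm.mul_apply, Perm.mul_apply, hπ, ih]
  have hπr : π ^ r = 1 := Equiv.ext fun t => by
    obtain ⟨x, rfl⟩ := hsurj t
    rw [← hiter, hσ]; rfl
  obtain ⟨m, hm⟩ := dvd_support hr hπr
  have hmb : r * m ≤ b := by rw [← hm]; exact (Finset.card_le_univ _).trans (by simp)
  refine ⟨m, hmb, ?_⟩
  have hcard : σ.support.card = ∑ t : Fin b, (σ.support.filter (fun x => f x = t)).card :=
    Finset.card_eq_sum_card_fiberwise (fun x _ => Finset.mem_univ _)
  have hfib : ∀ t : Fin b, (Finset.univ.filter (fun x => f x = t)).card = a := fun t => by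
    rw [← hf t, Nat.card_eq_fintype_card, Fintype.card_subtype]
  have hin : ∀ t ∈ π.support, (σ.support.filter (fun x => f x = t)).card = a := by
    intro t ht
    rw [← hfib t]
    congr 1
    ext x
    simp only [Finset.mem_filter, Finset.mem_univ, true_and, Perm.mem_support, and_iff_right_iff_imp]
    intro hx he
    apply Perm.mem_support.1 ht
    rw [← hx, ← hπ, he]
  have hout : ∀ t ∉ π.support, (σ.support.filter (fun x => f x = t)).card ≤ r * (a / r) := by
    intro t ht
    rw [Perm.notMem_support] at ht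
    have hinv : ∀ x, f (σ x) = t ↔ f x = t := fun x => by
      rw [hπ]; exact ⟨fun h => π.injective (h.trans ht.symm), fun h => by rw [h, ht]⟩
    let τ : Perm {x : α // f x = t} := σ.subtypePerm hinv
    have hτ : τ ^ r = 1 := by
      refine Equiv.ext fun x => Subtype.ext ?_
      rw [Perm.subtypePerm_pow]
      simp [hσ]
    have hcd : τ.support.card = (σ.support.filter (fun x => f x = t)).card := by
      rw [← Finset.card_map (Function.Embedding.subtype (fun x => f x = t))]
      congr 1
      ext x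
      simp [τ, Subtype.ext_iff, and_comm]
    rw [← hcd]
    obtain ⟨c, hc⟩ := dvd_support hr hτ
    rw [hc]
    refine Nat.mul_le_mul_left r ((Nat.le_div_iff_mul_le hr.pos).2 ?_)
    have : τ.support.card ≤ a := by
      refine (Finset.card_le_univ _).trans ?_
      rw [← Nat.card_eq_fintype_card, hf t]
    rw [hc] at this
    linarith
  rw [← Finset.sum_add_sum_compl π.support, Finset.sum_congr rfl hin, Finset.sum_const, smul_eq_mul, hm, hj] at hcard
  have h2 : ∑ t ∈ π.supportᶜ, (σ.support.filter (fun x => f x = t)).card ≤ (b - r * m) * (r * (a / r)) := by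
    refine (Finset.sum_le_card_nsmul _ _ _ fun t ht => hout t (Finset.mem_compl.1 ht)).trans ?_
    rw [Finset.card_compl, hm, Fintype.card_fin, smul_eq_mul]
  have hr0 := hr.pos
  constructor
  · refine Nat.le_of_mul_le_mul_right (?_ : a * m * r ≤ j * r) hr0
    rw [hcard]; exact le_add_of_le_left (le_of_eq (by ring))
  · refine Nat.le_of_mul_le_mul_right (?_ : j * r ≤ (a * m + (b - r * m) * (a / r)) * r) hr0
    rw [hcard]; nlinarith

/-- The amount put in the `t`-th block. -/
def share (q D t : ℕ) : ℕ := min q (D - q * t)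

theorem share_sum (q D n : ℕ) : ∑ t ∈ Finset.range n, share q D t = min (q * n) D := by
  induction n with
  | zero => simp
  | succ n ih =>
    rw [Finset.sum_range_succ, ih, share, Nat.mul_succ]
    omega

theorem exists_model {a b r m j : ℕ} (hr : r.Prime) (hmb : r * m ≤ b) (h1 : a * m ≤ j)
    (h2 : j ≤ a * m + (b - r * m) * (a / r)) :
    ∃ σ : Perm (Fin b × Fin a), σ ^ r = 1 ∧ σ.support.card = j * r ∧ Fixes a b σ := by
  have hr2 := hr.two_le
  set q := a / r with hq
  set c : ℕ → ℕ := fun t => share q (j - a * m) (t - r * m) with hc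
  have hcle : ∀ t, r * c t ≤ a := fun t =>
    (Nat.mul_le_mul_left r (min_le_left q _)).trans (by rw [hq, mul_comm]; exact Nat.div_mul_le_self a r)
  obtain ⟨g, hg, hgs, hgne⟩ := exists_rot (n := b) hr2 (dvd_mul_right r m) hmb
  choose h hh hhs hhne using fun t : Fin b =>
    exists_rot (r := r) (N := if (t : ℕ) < r * m then 0 else r * c t) (n := a) hr2
      (by split_ifs <;> simp) (by split_ifs; exacts [Nat.zero_le _, hcle t])
  have hh1 : ∀ t : Fin b, g t ≠ t → h t = 1 := by
    intro t ht
    rw [← Equiv.Perm.card_support_le_one, hhs t, if_pos ((hgne t).1 ht)]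
    norm_num
  let φ : Fin b × Fin a → Fin b × Fin a := fun p => (g p.1, h p.1 p.2)
  have hit : ∀ i p, φ^[i] p = ((g ^ i) p.1, (h p.1 ^ i) p.2) := by
    intro i
    induction i with
    | zero => simp
    | succ i ih =>
      intro p
      rw [Function.iterate_succ_apply', ih, pow_succ', pow_succ', Perm.mul_apply, Perm.mul_apply]
      refine Prod.ext rfl ?_
      change h ((g ^ i) p.1) ((h p.1 ^ i) p.2) = h p.1 ((h p.1 ^ i) p.2)
      by_cases ht : g p.1 = p.1
      · rw [Perm.pow_apply_eq_self_of_apply_eq_self ht]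
      · have ht' : g ((g ^ i) p.1) ≠ (g ^ i) p.1 := by
          intro he
          apply ht
          apply (g ^ i).injective
          rw [← Perm.mul_apply, ← pow_succ, pow_succ', Perm.mul_apply, he]
        rw [hh1 _ ht', hh1 _ ht]
  have hper : ∀ p, φ^[r] p = p := fun p => by rw [hit, hg, hh]; rfl
  let σ : Perm (Fin b × Fin a) := Equiv.ofBijective φ (bijective_of_iterate hr.pos hper)
  refine ⟨σ, Equiv.ext fun p => by rw [Perm.coe_pow]; exact hper p, ?_, Prod.fst, fun t => ?_, g, fun x => rfl⟩
  · have hcard : σ.support.card = ∑ t : Fin b, (σ.support.filter (fun p => p.1 = t)).card :=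
      Finset.card_eq_sum_card_fiberwise (fun x _ => Finset.mem_univ _)
    have hfib : ∀ t : Fin b, (σ.support.filter (fun p => p.1 = t)).card =
        if (t : ℕ) < r * m then a else r * c t := by
      intro t
      by_cases ht : (t : ℕ) < r * m
      · rw [if_pos ht]
        have : σ.support.filter (fun p => p.1 = t) = Finset.univ.map ⟨fun x => (t, x), fun x y e => (Prod.ext_iff.1 e).2⟩ := by
          ext ⟨u, x⟩
          simp only [Finset.mem_filter, Perm.mem_support, Finset.mem_map, Finset.mem_univ, true_and,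
            Function.Embedding.coeFn_mk]
          constructor
          · rintro ⟨-, rfl⟩; exact ⟨x, rfl⟩
          · rintro ⟨y, e⟩
            obtain ⟨rfl, rfl⟩ := Prod.ext_iff.1 e
            exact ⟨fun e' => (hgne t).2 ht (congrArg Prod.fst e'), rfl⟩
        rw [this, Finset.card_map, Finset.card_univ, Fintype.card_fin]
      · rw [if_neg ht]
        have hgt : g t = t := by
          by_contra he; exact ht ((hgne t).1 he)
        have : σ.support.filter (fun p => p.1 = t) = (h t).support.map ⟨fun x => (t, x), fun x y e => (Prod.ext_iff.1 e).2⟩ := by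
          ext ⟨u, x⟩
          simp only [Finset.mem_filter, Perm.mem_support, Finset.mem_map, Function.Embedding.coeFn_mk]
          constructor
          · rintro ⟨hne, rfl⟩
            exact ⟨x, fun e => hne (Prod.ext hgt e), rfl⟩
          · rintro ⟨y, hy, e⟩
            obtain ⟨rfl, rfl⟩ := Prod.ext_iff.1 e
            exact ⟨fun e' => hy (congrArg Prod.snd e'), rfl⟩
        rw [this, Finset.card_map, hhs, if_neg ht]
    rw [hcard, Finset.sum_congr rfl (fun t _ => hfib t),
      Fin.sum_univ_eq_sum_range (fun t => if t < r * m then a else r * c t),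
      ← Finset.sum_range_add_sum_Ico _ hmb, Finset.sum_Ico_eq_sum_range]
    have hA1 : ∑ t ∈ Finset.range (r * m), (if t < r * m then a else r * c t) = r * m * a := by
      rw [Finset.sum_congr rfl (fun t ht => if_pos (Finset.mem_range.1 ht)), Finset.sum_const, Finset.card_range,
        smul_eq_mul]
    have hA2 : ∑ t ∈ Finset.range (b - r * m), (if r * m + t < r * m then a else r * c (r * m + t)) =
        r * (j - a * m) := by
      rw [Finset.sum_congr rfl (g := fun t => r * share q (j - a * m) t)
        (fun t _ => by rw [if_neg (by omega)]; simp [hc]), ← Finset.mul_sum, share_sum,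
        min_eq_right (by rw [Nat.mul_comm q]; omega)]
    rw [hA1, hA2]
    obtain ⟨d, rfl⟩ : ∃ d, j = a * m + d := ⟨j - a * m, by omega⟩
    rw [Nat.add_sub_cancel_left]; ring
  · rw [← Nat.card_congr (⟨fun x => ⟨(t, x), rfl⟩, fun x => x.1.2, fun x => rfl,
      fun x => Subtype.ext (Prod.ext x.2.symm rfl)⟩ : Fin a ≃ {p : Fin b × Fin a // p.1 = t}), Nat.card_fin]

theorem fixes_of_conj {α β : Type*} {a b : ℕ} {σ : Perm α} {τ : Perm β} (e : α ≃ β)
    (he : ∀ x, e (σ x) = τ (e x)) (h : Fixes a b τ) : Fixes a b σ := by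
  obtain ⟨f, hf, π, hπ⟩ := h
  refine ⟨f ∘ e, fun t => ?_, π, fun x => ?_⟩
  · rw [← hf t]; exact Nat.card_congr (e.subtypeEquiv fun x => Iff.rfl)
  · simp only [Function.comp_apply, he, hπ]

theorem sufficiency {a b r m j : ℕ} (hr : r.Prime) (hmb : r * m ≤ b) (h1 : a * m ≤ j)
    (h2 : j ≤ a * m + (b - r * m) * (a / r)) (hj : 1 ≤ j) {σ : Perm (Fin (a * b))} (hσ : σ ^ r = 1)
    (hs : σ.support.card = j * r) : Fixes a b σ := by
  obtain ⟨τ, hτ, hτs, hfix⟩ := exists_model hr hmb h1 h2
  let e : Fin (a * b) ≃ Fin b × Fin a := (finCongr (mul_comm a b)).trans finProdFinEquiv.symm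
  let σ' : Perm (Fin b × Fin a) := e.permCongr σ
  have hct : σ'.cycleType = τ.cycleType := by
    rw [(cycleType_eq hr hτ hj hτs).1]
    refine (cycleType_eq hr ?_ hj ?_).1
    · change (e.permCongrHom σ) ^ r = 1
      rw [← map_pow, hσ, map_one]
    · have : σ'.support = σ.support.map e.toEmbedding := by
        ext x
        simp [σ', Finset.mem_map_equiv, e.symm_apply_eq.symm, ← e.apply_eq_iff_eq_symm_apply]
      rw [this, Finset.card_map, hs]
  obtain ⟨c, hc⟩ := isConj_iff.1 (Perm.isConj_iff_cycleType_eq.2 hct)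
  refine fixes_of_conj e (τ := σ') (fun x => by simp [σ']) ?_
  refine fixes_of_conj c (τ := τ) (fun x => ?_) hfix
  rw [← hc]
  simp

/-- The arithmetic criterion. -/
theorem arith (a b r : ℕ) (ha : 2 ≤ a) (hb : 2 ≤ b) (hr : 2 ≤ r) (hle : r ≤ a * b) :
    (∀ j, 1 ≤ j → j * r ≤ a * b → ∃ m, r * m ≤ b ∧ a * m ≤ j ∧ j ≤ a * m + (b - r * m) * (a / r)) ↔
      (r ≤ a ∧ (a % r = 0 ∨ (b % r = 0 ∧ a % r = 1) ∨
        (a % r ≠ 0 ∧ b % r ≠ 0 ∧ (b % r) * (a % r) < r ∧ (b < r ∨ (b % r + r) * (a % r) ≤ (b % r) * a + r)))) := by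
  set q := a / r with hq
  set l := a % r with hl
  set k := b % r with hk
  set B := b / r with hB
  clear_value q l k B
  have hA : a = r * q + l := (Nat.div_add_mod a r).symm.trans (by rw [hq, hl])
  have hBb : b = r * B + k := (Nat.div_add_mod b r).symm.trans (by rw [hB, hk])
  have hlr : l < r := hl ▸ Nat.mod_lt _ (by omega)
  have hkr : k < r := hk ▸ Nat.mod_lt _ (by omega)
  have hend : ∀ m, r * m ≤ b → a * m + (b - r * m) * q = b * q + m * l := by
    intro m hm
    obtain ⟨d, hd⟩ := Nat.exists_eq_add_of_le hm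
    rw [hd, Nat.add_sub_cancel_left, hA]; ring
  have hmB : ∀ m, r * m ≤ b ↔ m ≤ B := fun m => by
    rw [hB, Nat.le_div_iff_mul_le (by omega), mul_comm]
  have hkey : a * B + 0 ≤ b * q + B * l := by nlinarith [Nat.zero_le (k * q)]
  have hgap : ∀ m, m + 1 = B → (a * B ≤ b * q + m * l + 1 ↔ l ≤ k * q + 1) := by
    intro m hm
    rw [hA, hBb, ← hm]
    constructor <;> intro h <;> nlinarith
  constructor
  · intro H
    have hra : r ≤ a := by
      by_contra hra
      have hq0 : q = 0 := hq.trans (Nat.div_eq_of_lt (by omega))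
      obtain ⟨m, -, h1, h2⟩ := H 1 le_rfl (by simpa using hle)
      rw [hq0, mul_zero, add_zero] at h2
      rcases m with _ | m
      · simp at h2
      · have : a ≤ a * (m + 1) := Nat.le_mul_of_pos_right a (by omega)
        omega
    refine ⟨hra, ?_⟩
    by_cases hl0 : l = 0
    · exact Or.inl hl0
    right
    have hq1 : 1 ≤ q := hq ▸ (Nat.one_le_div_iff (by omega)).2 hra
    have hkl : k * l < r := by
      by_contra hkl
      have h1 : (b * q + B * l + 1) * r ≤ a * b := by
        rw [hA, hBb]; nlinarith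
      obtain ⟨m, hm, -, h2⟩ := H _ (by omega) h1
      rw [hend m hm] at h2
      have := Nat.mul_le_mul_right l ((hmB m).1 hm)
      omega
    by_cases hB0 : B = 0
    · have hbk : b = k := by rw [hBb, hB0]; simp
      right
      exact ⟨hl0, by omega, hkl, Or.inl (by omega)⟩
    obtain ⟨B', hB'⟩ : ∃ B', B' + 1 = B := ⟨B - 1, by omega⟩
    have hg : l ≤ k * q + 1 := by
      rw [← hgap B' hB']
      by_contra hg
      set j0 := b * q + B' * l + 1 with hj0
      have h1 : j0 * r ≤ a * b := by
        rw [hj0, hA, hBb, ← hB']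
        nlinarith
      obtain ⟨m, hm, h2, h3⟩ := H j0 (by omega) h1
      rw [hend m hm] at h3
      rcases Nat.lt_or_ge m B with hlt | hge
      · have := Nat.mul_le_mul_right l (show m ≤ B' by omega)
        omega
      · have := Nat.mul_le_mul_left a hge
        omega
    by_cases hk0 : k = 0
    · left; refine ⟨hk0, ?_⟩
      rw [hk0] at hg; omega
    · right
      refine ⟨hl0, hk0, hkl, Or.inr ?_⟩
      rw [hA]; nlinarith
  · rintro ⟨hra, hcond⟩
    have hkl : k * l < r := by
      rcases hcond with h | ⟨h, -⟩ | ⟨-, -, h, -⟩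
      · rw [h, mul_zero]; omega
      · rw [h, zero_mul]; omega
      · exact h
    have hg : ∀ m, m < B → l ≤ k * q + 1 := by
      intro m hm
      rcases hcond with h | ⟨-, h⟩ | ⟨-, -, -, h⟩
      · omega
      · omega
      · rcases h with h | h
        · have : B = 0 := hB.trans (Nat.div_eq_of_lt h)
          omega
        · rw [hA] at h; nlinarith
    intro j hj1 hjr
    have hJ : j ≤ b * q + B * l := by
      by_contra hJ
      have : (b * q + B * l + 1) * r ≤ j * r := Nat.mul_le_mul_right r (by omega)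
      rw [hA, hBb] at hjr
      rw [hBb] at this
      nlinarith
    have hex : ∃ m, m ≤ B ∧ j ≤ b * q + m * l := ⟨B, le_rfl, hJ⟩
    obtain ⟨hm, hjm⟩ := Nat.find_spec hex
    refine ⟨Nat.find hex, (hmB _).2 hm, ?_, by rw [hend _ ((hmB _).2 hm)]; exact hjm⟩
    rcases h0 : Nat.find hex with _ | m'
    · simp
    · have hnot := Nat.find_min hex (show m' < Nat.find hex by omega)
      have hm'B : m' < B := by omega
      have hgm := hg m' hm'B
      have hgt : b * q + m' * l < j := by
        by_contra hle'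
        exact hnot ⟨by omega, by omega⟩
      have hsuff : a * (m' + 1) ≤ b * q + m' * l + 1 := by
        obtain ⟨d, hd⟩ := Nat.exists_eq_add_of_le (show m' + 1 ≤ B by omega)
        rw [hA, hBb, hd]
        nlinarith [Nat.zero_le (r * q * d)]
      omega


/-- Let a, b ≥ 2 and consider the symmetric group of degree a·b acting on the partitions of an (a·b)-set into b parts of size a (encoded as maps onto a b-element set all of whose fibres have a elements; a permutation fixes such a partition when it permutes the fibres). Let r be a prime dividing the number (ab)!/((a!)^b·b!) of such partitions, and let ℓ and k be the remainders of a and b modulo r. Then every permutation of order r fixes some such partition if and only if r ≤ a and one of the following holds: ℓ = 0; or k = 0 and ℓ = 1; or ℓ and k are non-zero, k·ℓ < r, and either b < r or (k + r)·ℓ ≤ k·a + r. -/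
theorem result (a b : ℕ) (ha : 2 ≤ a) (hb : 2 ≤ b) (r : ℕ) (hr : r.Prime)
    (hrd : r ∣ (a * b).factorial / (a.factorial ^ b * b.factorial)) :
    (∀ σ : Equiv.Perm (Fin (a * b)), orderOf σ = r →
        ∃ f : Fin (a * b) → Fin b, (∀ j : Fin b, Nat.card {x : Fin (a * b) // f x = j} = a) ∧
          ∃ π : Equiv.Perm (Fin b), ∀ x : Fin (a * b), f (σ x) = π (f x)) ↔
      (r ≤ a ∧ (a % r = 0 ∨ (b % r = 0 ∧ a % r = 1) ∨
        (a % r ≠ 0 ∧ b % r ≠ 0 ∧ (b % r) * (a % r) < r ∧ (b < r ∨ (b % r + r) * (a % r) ≤ (b % r) * a + r)))) := by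
  classical
  have hab : r ≤ a * b := (hr.dvd_factorial).1 (hrd.trans (Nat.div_dvd_of_dvd (by
    have h := Nat.uniformBell_mul_eq b (n := a) (by omega)
    exact ⟨Nat.uniformBell b a, by rw [mul_comm a b, ← h]; ring⟩)))
  haveI := Fact.mk hr
  rw [← arith a b r ha hb hr.two_le hab]
  constructor
  · intro H j hj hjr
    obtain ⟨σ, hσ, hs, -⟩ := exists_rot (n := a * b) hr.two_le (dvd_mul_left r j) hjr
    exact necessity (by omega) hr hσ hs (H σ (cycleType_eq hr hσ hj hs).2)
  · intro H σ hσ
    have hp : σ ^ r = 1 := hσ ▸ pow_orderOf_eq_one σ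
    obtain ⟨j, hj⟩ := dvd_support hr hp
    replace hj := hj.trans (mul_comm r j)
    have hj1 : 1 ≤ j := by
      rcases Nat.eq_zero_or_pos j with h | h
      · rw [h, zero_mul, Finset.card_eq_zero, Perm.support_eq_empty_iff] at hj
        rw [hj, orderOf_one] at hσ
        exact absurd hσ hr.one_lt.ne
      · exact h
    obtain ⟨m, h1, h2, h3⟩ := H j hj1 (hj.symm.le.trans (σ.support.card_le_univ.trans (le_of_eq (Fintype.card_fin _))))
    exact sufficiency hr h1 h2 h3 hj1 hp hj

end Cfsg.Agent.S3575
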