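import Mathlib
import Cfsg.Statements.S3573
import Cfsg.Agent.S3575

set_option autoImplicit false
open Cfsg

namespace Cfsg.Agent.S3573

open Equiv
open Cfsg.Agent.S3575 (exists_rot dvd_support cycleType_eq)

theorem necessity {n k r j : ℕ} (hr : r.Prime) {σ : Perm (Fin n)} (hσ : σ ^ r = 1)
    (hj : σ.support.card = j * r) {s : Finset (Fin n)} (hs : s.card = k) (hfix : s.image σ = s) :
    ∃ m, r * m ≤ k ∧ k + j * r ≤ n + r * m := by
  have hinv : ∀ x, σ x ∈ s ↔ x ∈ s := fun x => by
    conv_lhs => rw [← hfix]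
    simp
  let τ : Perm {x // x ∈ s} := σ.subtypePerm hinv
  have hτ : τ ^ r = 1 := by
    refine Equiv.ext fun x => Subtype.ext ?_
    rw [Perm.subtypePerm_pow]
    simp [hσ]
  have hcd : τ.support.card = (σ.support.filter (fun x => x ∈ s)).card := by
    rw [← Finset.card_map (Function.Embedding.subtype (fun x => x ∈ s))]
    congr 1
    ext x
    simp [τ, Subtype.ext_iff, and_comm]
  obtain ⟨m, hm⟩ := dvd_support hr hτ
  rw [hcd] at hm
  refine ⟨m, ?_, ?_⟩
  · rw [← hm, ← hs]
    exact Finset.card_le_card fun x hx => (Finset.mem_filter.1 hx).2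
  · rw [← hm, ← hs, ← hj]
    have h1 : (σ.support ∪ s).card ≤ n := (Finset.card_le_univ _).trans (by simp)
    have h2 := Finset.card_union_add_card_inter σ.support s
    rw [← Finset.filter_mem_eq_inter] at h2
    omega

theorem exists_fixed {n k r j m : ℕ} (hr : r.Prime) (hj : 1 ≤ j) (hmj : m ≤ j) (hjn : j * r ≤ n)
    (hmk : r * m ≤ k) (hk : k + j * r ≤ n + r * m) {σ : Perm (Fin n)} (hσ : σ ^ r = 1)
    (hs : σ.support.card = j * r) : ∃ s : Finset (Fin n), s.card = k ∧ s.image σ = s := by
  obtain ⟨d, rfl⟩ : ∃ d, j = m + d := ⟨j - m, by omega⟩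
  have h1 : r * m + r * d ≤ n := by linarith
  obtain ⟨g1, hg1, hg1s, -⟩ := exists_rot (n := r * m) hr.two_le (dvd_mul_right r m) le_rfl
  obtain ⟨g2, hg2, hg2s, hg2ne⟩ := exists_rot (n := n - r * m) hr.two_le (dvd_mul_right r d) (by omega)
  let e : Fin n ≃ Fin (r * m) ⊕ Fin (n - r * m) := (finCongr (by omega)).trans finSumFinEquiv.symm
  let g : Perm (Fin (r * m) ⊕ Fin (n - r * m)) := Perm.sumCongrHom _ _ (g1, g2)
  have hgr : g ^ r = 1 := by rw [← map_pow, Prod.pow_mk, hg1, hg2, ← Prod.one_eq_mk, map_one]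
  have hgs : g.support.card = (m + d) * r := by
    have : g.support = g1.support.disjSum g2.support := by
      ext x; rcases x with x | x <;> simp [g, Perm.mem_support]
    rw [this, Finset.card_disjSum, hg1s, hg2s]; ring
  let σ' : Perm (Fin (r * m) ⊕ Fin (n - r * m)) := e.permCongr σ
  have hσ' : σ'.support = σ.support.map e.toEmbedding := by
    ext x; simp [σ', Finset.mem_map_equiv, ← e.apply_eq_iff_eq_symm_apply, e.symm_apply_eq.symm]
  have hct : σ'.cycleType = g.cycleType := by
    rw [(cycleType_eq hr hgr hj hgs).1]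
    refine (cycleType_eq hr ?_ hj (by rw [hσ', Finset.card_map, hs])).1
    change (e.permCongrHom σ) ^ r = 1
    rw [← map_pow, hσ, map_one]
  obtain ⟨c, hc⟩ := isConj_iff.1 (Perm.isConj_iff_cycleType_eq.2 hct)
  let u : Finset (Fin (n - r * m)) := Finset.univ.filter fun x => r * d ≤ (x : ℕ) ∧ (x : ℕ) < r * d + (k - r * m)
  have hu : u.card = k - r * m := by
    rw [← Finset.card_map Fin.valEmbedding,
      show u.map Fin.valEmbedding = Finset.Ico (r * d) (r * d + (k - r * m)) by
        ext x
        simp only [u, Finset.mem_map, Finset.mem_filter, Finset.mem_univ, true_and, Fin.valEmbedding_apply,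
          Finset.mem_Ico]
        constructor
        · rintro ⟨y, hy, rfl⟩; exact hy
        · intro hx
          refine ⟨⟨x, ?_⟩, hx, rfl⟩
          have : r * d + (k - r * m) ≤ n - r * m := by
            have : (m + d) * r = r * m + r * d := by ring
            omega
          omega, Nat.card_Ico]
    omega
  let S : Finset (Fin (r * m) ⊕ Fin (n - r * m)) := Finset.univ.disjSum u
  have hS : S.image g = S := by
    refine Finset.eq_of_subset_of_card_le ?_ (Finset.card_image_of_injective _ g.injective).ge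
    intro x hx
    obtain ⟨y, hy, rfl⟩ := Finset.mem_image.1 hx
    rcases y with y | y
    · simp [S, g]
    · have hyu : y ∈ u := by simpa [S] using hy
      have : g2 y = y := by
        by_contra he
        have := (hg2ne y).1 he
        have := (Finset.mem_filter.1 hyu).2.1
        omega
      simp [S, g, this, hyu]
  refine ⟨S.image (fun x => e.symm (c.symm x)), ?_, ?_⟩
  · rw [Finset.card_image_of_injective _ (show Function.Injective (fun x => e.symm (c.symm x)) from e.symm.injective.comp c.symm.injective), Finset.card_disjSum,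
      Finset.card_univ, Fintype.card_fin, hu]
    omega
  · have hkey : ∀ x, σ (e.symm (c.symm x)) = e.symm (c.symm (g x)) := fun x => by
      rw [← hc]
      simp [σ']
    rw [Finset.image_image, show σ ∘ (fun x => e.symm (c.symm x)) = (fun x => e.symm (c.symm x)) ∘ g from funext hkey,
      ← Finset.image_image, hS]

theorem criterion {n k r : ℕ} (hr : r.Prime) (hrn : r ≤ n) (hkn : k ≤ n) :
    (∀ σ : Perm (Fin n), orderOf σ = r → ∃ s : Finset (Fin n), s.card = k ∧ s.image σ = s) ↔ k % r ≤ n % r := by
  haveI := Fact.mk hr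
  constructor
  · intro H
    have hJ : 1 ≤ n / r := (Nat.one_le_div_iff hr.pos).2 hrn
    obtain ⟨σ, hσ, hs, -⟩ := exists_rot (n := n) hr.two_le (dvd_mul_left r (n / r)) (Nat.div_mul_le_self n r)
    obtain ⟨s, hsk, hfix⟩ := H σ (cycleType_eq hr hσ hJ hs).2
    obtain ⟨m, hm, h⟩ := necessity hr hσ hs hsk hfix
    have h1 := Nat.div_add_mod n r
    have h2 : (k - r * m) % r = k % r := Nat.sub_mul_mod hm
    have h3 := Nat.mod_le (k - r * m) r
    rw [mul_comm (n / r) r] at h
    omega
  · intro hle σ hσ
    have hp : σ ^ r = 1 := hσ ▸ pow_orderOf_eq_one σ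
    obtain ⟨j, hj⟩ := dvd_support hr hp
    replace hj := hj.trans (mul_comm r j)
    have hj1 : 1 ≤ j := by
      rcases Nat.eq_zero_or_pos j with h | h
      · rw [h, zero_mul, Finset.card_eq_zero, Perm.support_eq_empty_iff] at hj
        rw [hj, orderOf_one] at hσ
        exact absurd hσ hr.one_lt.ne
      · exact h
    have hjn : j * r ≤ n := hj.symm.le.trans (σ.support.card_le_univ.trans (le_of_eq (Fintype.card_fin _)))
    have hkd := Nat.div_add_mod k r
    have hnd := Nat.div_add_mod n r
    have hjle : j ≤ n / r := (Nat.le_div_iff_mul_le hr.pos).2 hjn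
    rcases le_total j (k / r) with h | h
    · have := Nat.mul_le_mul_left r h
      exact exists_fixed hr hj1 le_rfl hjn (by omega) (by rw [mul_comm]; omega) hp hj
    · have := Nat.mul_le_mul_left r hjle
      exact exists_fixed hr hj1 h hjn (by omega) (by rw [mul_comm] ; omega) hp hj

theorem le_of_dvd_choose {n k r : ℕ} (hr : r.Prime) (hrd : r ∣ Nat.choose n k) (h : k % r ≤ n % r) : r ≤ k := by
  haveI := Fact.mk hr
  by_contra hk
  push Not at hk
  rw [Nat.mod_eq_of_lt hk] at h
  have h1 := (Choose.choose_modEq_choose_mod_mul_choose_div_nat (n := n) (k := k) (p := r))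
  rw [Nat.mod_eq_of_lt hk, Nat.div_eq_of_lt hk, Nat.choose_zero_right, mul_one] at h1
  have h2 : r ∣ Nat.choose (n % r) k := (Nat.ModEq.dvd_iff h1 dvd_rfl).1 hrd
  have h3 : r ∣ (n % r).factorial := h2.trans ⟨k.factorial * (n % r - k).factorial, by
    rw [← mul_assoc, Nat.choose_mul_factorial_mul_factorial h]⟩
  have h4 := hr.dvd_factorial.1 h3
  have := Nat.mod_lt n hr.pos
  omega


/-- Let 1 ≤ k with 2k < n and consider the symmetric group of degree n acting on the k-subsets of an n-set. Let r be a prime dividing the number C(n,k) of k-subsets. If r is odd, then every permutation of order r fixes some k-subset if and only if r ≤ k and the remainder of k modulo r is at most the remainder of n modulo r. If r = 2, then every involution fixes some k-subset if and only if k is even or n is odd. -/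
theorem result (n k : ℕ) (hk : 1 ≤ k) (hkn : 2 * k < n) (r : ℕ) (hr : r.Prime) (hrd : r ∣ Nat.choose n k) :
    (r ≠ 2 → ((∀ σ : Equiv.Perm (Fin n), orderOf σ = r → ∃ s : Finset (Fin n), s.card = k ∧ s.image σ = s) ↔
      (r ≤ k ∧ k % r ≤ n % r))) ∧
    (r = 2 → ((∀ σ : Equiv.Perm (Fin n), orderOf σ = 2 → ∃ s : Finset (Fin n), s.card = k ∧ s.image σ = s) ↔
      (Even k ∨ Odd n))) := by
  have hrn : r ≤ n := hr.dvd_factorial.1 (hrd.trans ⟨k.factorial * (n - k).factorial, by
    rw [← mul_assoc, Nat.choose_mul_factorial_mul_factorial (by omega)]⟩)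
  refine ⟨fun _ => (criterion hr hrn (by omega)).trans ⟨fun h => ⟨le_of_dvd_choose hr hrd h, h⟩, fun h => h.2⟩,
    fun h2 => ?_⟩
  subst h2
  rw [criterion hr hrn (by omega), Nat.even_iff, Nat.odd_iff]
  omega

end Cfsg.Agent.S3573
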