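import Cfsg.Statements.S3580
import Cfsg.Agent.Lib.Local.SylowFixedPoints
-- import your own Cfsg.Agent.* helpers here

set_option autoImplicit false
open Cfsg

namespace Cfsg.Agent.S3580

open Subgroup MulAction Finset Cfsg.Lib.Local.SylowFix


/-- Let G act faithfully and transitively on a finite set Ω, let p be an odd prime dividing the order of G and P a Sylow p-subgroup of G. Then the number of orbits of P on Ω is at most (p/(2p − 1))·(number of points). -/
theorem result {G Ω : Type*} [Group G] [Finite G] [MulAction G Ω] [FaithfulSMul G Ω] [Finite Ω]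
    (htrans : MulAction.IsPretransitive G Ω) (p : ℕ) [Fact p.Prime] (hp2 : p ≠ 2) (hpG : p ∣ Nat.card G)
    (P : Sylow p G) :
    (2 * p - 1) * Nat.card (MulAction.orbitRel.Quotient ↥(P : Subgroup G) Ω) ≤ p * Nat.card Ω := by
  classical
  haveI : Fintype Ω := Fintype.ofFinite _
  haveI : Fintype (orbitRel.Quotient ↥(P : Subgroup G) Ω) := Fintype.ofFinite _
  set L : Subgroup G := closure {x : G | IsPel p x} with hL
  have hPL : (P : Subgroup G) ≤ L := fun x hx => subset_closure (isPel_of_mem P.2 hx)
  haveI hLn : L.Normal := by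
    rw [← normalizer_eq_top_iff, eq_top_iff]
    intro g _
    rw [Cfsg.Lib.Core.mem_normalizer_iff_map_conj]
    refine eq_of_le_of_card_ge ?_ (card_map_of_injective (MulAut.conj g).injective).ge
    rw [hL, MonoidHom.map_closure]
    exact closure_mono (by rintro _ ⟨z, hz, rfl⟩; exact isPel_conj g hz)
  -- `L` moves every point
  have hmoves : ∀ a : Ω, ∃ y ∈ L, y • a ≠ a := by
    intro a
    by_contra hno
    push Not at hno
    obtain ⟨y, hy⟩ := exists_prime_orderOf_dvd_card' p hpG
    have hyL : y ∈ L := subset_closure ⟨1, by rw [hy, pow_one]⟩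
    have hy1 : y = 1 := FaithfulSMul.eq_of_smul_eq_smul (α := Ω) fun b => by
      obtain ⟨g, rfl⟩ := MulAction.exists_smul_eq G a b
      have h := hno (g⁻¹ * y * g) (by simpa using hLn.conj_mem y hyL g⁻¹)
      rw [mul_smul, mul_smul, inv_smul_eq_iff] at h
      rw [h, one_smul]
    rw [hy1, orderOf_one] at hy
    exact (Fact.out : p.Prime).ne_one hy.symm
  have hB : Bound p L Ω :=
    bound_of_rec (le_antisymm ((closure_le _).mpr fun x hx => hx.2)
      ((closure_le _).mpr fun x hx => subset_closure ⟨hx, subset_closure hx⟩))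
      fun hgen Q b hb => bound_all hgen Q b hb
  have h0 := sum_wt_ge hB P hPL Finset.univ (fun _ _ _ _ => Finset.mem_univ _)
  have he : (Finset.univ.filter fun a : Ω => ∀ y ∈ L, y • a = a) = ∅ :=
    Finset.filter_eq_empty_iff.mpr fun a _ ha => by
      obtain ⟨y, hy, hne⟩ := hmoves a
      exact hne (ha y hy)
  rw [he, Finset.card_empty, Nat.cast_zero, mul_zero] at h0
  set n : ℕ := Fintype.card Ω
  set f : ℕ := (Finset.univ.filter fun c : Ω => ∀ x ∈ (P : Subgroup G), x • c = c).card
  have hsum : ∑ c : Ω, wt p (P : Subgroup G) c =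
      ((p : ℤ) - 1) * n - (2 * (p : ℤ) - 1) * f := by
    simp only [wt, Finset.sum_ite, Finset.sum_const, nsmul_eq_mul]
    have hsplit := Finset.card_filter_add_card_filter_not (s := (Finset.univ : Finset Ω))
      (fun c => ∀ x ∈ (P : Subgroup G), x • c = c)
    rw [Finset.card_univ] at hsplit
    simp only [n, f]
    rw [← hsplit]
    push_cast
    ring
  rw [hsum] at h0
  set k : ℕ := Nat.card (orbitRel.Quotient ↥(P : Subgroup G) Ω)
  -- every orbit is trivial or has at least `p` points
  have hk : p * k ≤ n + (p - 1) * f := by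
    let π : Ω → orbitRel.Quotient ↥(P : Subgroup G) Ω := Quotient.mk''
    have h1 : n = ∑ o, (Finset.univ.filter fun a => π a = o).card :=
      Finset.card_eq_sum_card_fiberwise fun a _ => Finset.mem_univ (π a)
    have h2 : f = ∑ o, ((Finset.univ.filter fun c : Ω => ∀ x ∈ (P : Subgroup G), x • c = c).filter
        fun a => π a = o).card :=
      Finset.card_eq_sum_card_fiberwise fun a _ => Finset.mem_univ (π a)
    have h3 : p * k = ∑ _o : orbitRel.Quotient ↥(P : Subgroup G) Ω, p := by
      rw [Finset.sum_const, Finset.card_univ, smul_eq_mul, ← Nat.card_eq_fintype_card, mul_comm]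
    rw [h1, h2, h3, Finset.mul_sum, ← Finset.sum_add_distrib]
    refine Finset.sum_le_sum fun o _ => ?_
    obtain ⟨a, rfl⟩ := Quotient.mk''_surjective o
    by_cases ha : ∀ x ∈ (P : Subgroup G), x • a = a
    · have e1 : 0 < (Finset.univ.filter fun b => π b = π a).card :=
        Finset.card_pos.mpr ⟨a, by simp⟩
      have e2 : 0 < ((Finset.univ.filter fun c : Ω => ∀ x ∈ (P : Subgroup G), x • c = c).filter
          fun b => π b = π a).card :=
        Finset.card_pos.mpr ⟨a, Finset.mem_filter.mpr
          ⟨Finset.mem_filter.mpr ⟨Finset.mem_univ a, ha⟩, rfl⟩⟩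
      calc p = 1 + (p - 1) := by have := (Fact.out : p.Prime).pos; omega
        _ ≤ _ := Nat.add_le_add e1 (Nat.le_mul_of_pos_right _ e2)
    · refine le_trans ?_ (Nat.le_add_right _ _)
      obtain ⟨j, hj⟩ := P.2.card_orbit a
      have hne : j ≠ 0 := by
        rintro rfl
        rw [pow_zero, Nat.card_eq_one_iff_unique] at hj
        refine ha fun x hx => ?_
        have e := @Subsingleton.elim _ hj.1
          (⟨x • a, ⟨⟨x, hx⟩, rfl⟩⟩ : MulAction.orbit ↥(P : Subgroup G) a)
          ⟨a, MulAction.mem_orbit_self a⟩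
        exact congrArg Subtype.val e
      refine (Nat.le_self_pow hne p).trans (hj.ge.trans ?_)
      rw [← Fintype.card_subtype, ← Nat.card_eq_fintype_card]
      refine Nat.card_le_card_of_injective (fun b => ⟨b.1, ?_⟩) fun b c h =>
        Subtype.ext (congrArg (fun z => z.1) h)
      exact Quotient.sound' b.2
  have hp1 := (Fact.out : p.Prime).one_le
  have h4 : (2 * p - 1) * f ≤ (p - 1) * n := by
    zify [hp1, show 1 ≤ 2 * p by omega]
    linarith
  rw [Nat.card_eq_fintype_card (α := Ω)]
  show (2 * p - 1) * k ≤ p * n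
  refine Nat.le_of_mul_le_mul_left (c := p) ?_ (Fact.out : p.Prime).pos
  calc p * ((2 * p - 1) * k) = (2 * p - 1) * (p * k) := by ring
    _ ≤ (2 * p - 1) * (n + (p - 1) * f) := Nat.mul_le_mul_left _ hk
    _ = (2 * p - 1) * n + (p - 1) * ((2 * p - 1) * f) := by ring
    _ ≤ (2 * p - 1) * n + (p - 1) * ((p - 1) * n) :=
        Nat.add_le_add_left (Nat.mul_le_mul_left _ h4) _
    _ = p * (p * n) := by
        zify [hp1, show 1 ≤ 2 * p by omega]
        ring

end Cfsg.Agent.S3580
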