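import Cfsg.Statements.S3599
import Mathlib.RingTheory.AdjoinRoot
import Mathlib.RingTheory.Polynomial.Cyclotomic.Roots
import Mathlib.GroupTheory.SemidirectProduct
import Mathlib.Algebra.BigOperators.Pi

set_option autoImplicit false
open Cfsg

namespace Cfsg.Agent.S3599

open Polynomial

/-- A finite group with the properties of a minimal Frobenius group with kernel exponent `r`
and complement of prime order `q`. -/
def IsBlock (r q : ℕ) (F : Type) [Group F] : Prop :=
  (∀ x : F, orderOf x = 1 ∨ orderOf x = r ∨ orderOf x = q) ∧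
  (∃ x : F, orderOf x = r) ∧
  (∀ H : Subgroup F, (∃ x ∈ H, orderOf x = r) → (∃ y ∈ H, orderOf y = q) → H = ⊤) ∧
  (∀ x y : F, orderOf x = r → orderOf y = r → x * y = y * x) ∧
  (∃ x y : F, orderOf x = q ∧ orderOf y = q ∧ x * y ≠ y * x) ∧
  (∀ N : Subgroup F, N.Normal → N ≠ ⊥ → ∀ x : F, orderOf x = r → x ∈ N) ∧
  (∀ x : F, x ≠ 1 → ∃ y : F, y * x * y⁻¹ * x⁻¹ ≠ 1)

theorem exists_block (r q : ℕ) (hr : r.Prime) (hq : q.Prime) (hrq : r ≠ q) :
    ∃ (F : Type) (_ : Group F) (_ : Fintype F), IsBlock r q F := by
  classical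
  haveI : Fact r.Prime := ⟨hr⟩
  haveI : Fact q.Prime := ⟨hq⟩
  set f := cyclotomic q (ZMod r) with hf
  have hdeg : f.degree ≠ 0 := by
    rw [hf, degree_cyclotomic]
    have := Nat.totient_pos.2 hq.pos
    exact_mod_cast this.ne'
  obtain ⟨g, hgi, hgd⟩ := f.exists_irreducible_of_degree_pos (lt_of_le_of_ne
    (zero_le_degree_iff.2 (cyclotomic_ne_zero q (ZMod r))) hdeg.symm)
  haveI : Fact (Irreducible g) := ⟨hgi⟩
  let K := AdjoinRoot g
  haveI : CharP K r := charP_of_injective_algebraMap (algebraMap (ZMod r) K).injective r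
  haveI : Finite K := by
    haveI := (AdjoinRoot.powerBasis hgi.ne_zero).finite
    exact Module.finite_of_finite (ZMod r)
  have hqK : ((q : ℕ) : K) ≠ 0 := by
    rw [Ne, CharP.cast_eq_zero_iff K r]
    intro h
    exact hrq ((Nat.prime_dvd_prime_iff_eq hr hq).1 h)
  haveI : NeZero ((q : ℕ) : K) := ⟨hqK⟩
  let ζ : K := AdjoinRoot.root g
  have hζ : IsPrimitiveRoot ζ q := by
    rw [← isRoot_cyclotomic_iff, IsRoot.def]
    obtain ⟨c, hc⟩ := hgd
    have : aeval ζ f = 0 := by
      rw [hc, map_mul, AdjoinRoot.aeval_eq, AdjoinRoot.mk_self, zero_mul]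
    rwa [hf, aeval_def, ← eval_map, map_cyclotomic] at this
  have hζ0 : ζ ≠ 0 := hζ.ne_zero hq.pos.ne'
  let u : Kˣ := Units.mk0 ζ hζ0
  have hu : orderOf u = q := by
    rw [← orderOf_units]
    exact hζ.eq_orderOf.symm
  let C := Subgroup.zpowers u
  let φ : C →* MulAut (Multiplicative K) :=
    { toFun := fun c =>
        { toFun := fun v => Multiplicative.ofAdd (((c : Kˣ) : K) * v.toAdd)
          invFun := fun v => Multiplicative.ofAdd ((((c : Kˣ)⁻¹ : Kˣ) : K) * v.toAdd)
          left_inv := fun v => by simp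
          right_inv := fun v => by simp
          map_mul' := fun v w => by simp [mul_add, ofAdd_add] }
      map_one' := by ext v; simp
      map_mul' := fun c d => by ext v; simp [mul_assoc] }
  haveI : Finite (Multiplicative K ⋊[φ] C) := Finite.of_equiv _ SemidirectProduct.equivProd.symm
  have hφ : ∀ (c : C) (v : Multiplicative K), (φ c v).toAdd = ((c : Kˣ) : K) * v.toAdd :=
    fun c v => rfl
  have hmull : ∀ x y : (Multiplicative K ⋊[φ] C), (x * y).left.toAdd = x.left.toAdd + ((x.right : Kˣ) : K) * y.left.toAdd :=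
    fun x y => by rw [SemidirectProduct.mul_left, toAdd_mul, hφ]
  -- powers
  have hpow : ∀ (x : (Multiplicative K ⋊[φ] C)) (n : ℕ), (x ^ n).right = x.right ^ n ∧
      (x ^ n).left.toAdd * (((x.right : Kˣ) : K) - 1)
        = (((x.right : Kˣ) : K) ^ n - 1) * x.left.toAdd := by
    intro x n
    induction n with
    | zero => simp
    | succ n ih =>
      refine ⟨by rw [pow_succ, SemidirectProduct.mul_right, ih.1, pow_succ], ?_⟩
      rw [pow_succ, hmull, ih.1, add_mul, ih.2]
      push_cast
      ring
  have hinlpow : ∀ (x : (Multiplicative K ⋊[φ] C)), x.right = 1 → ∀ n : ℕ, (x ^ n).left.toAdd = n • x.left.toAdd := by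
    intro x hx n
    induction n with
    | zero => simp
    | succ n ih =>
      rw [pow_succ, hmull, (hpow x n).1, hx, ih, succ_nsmul]
      simp
  have hCq : ∀ c : C, c ^ q = 1 := by
    intro c
    have h := pow_card_eq_one' (G := C) (x := c)
    rwa [show Nat.card C = q by rw [Nat.card_zpowers, hu]] at h
  have hordV : ∀ x : (Multiplicative K ⋊[φ] C), x.right = 1 → x ≠ 1 → orderOf x = r := by
    intro x hx hne
    refine orderOf_eq_prime ?_ hne
    refine SemidirectProduct.ext ?_ (by rw [(hpow x r).1, hx, one_pow]; rfl)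
    rw [SemidirectProduct.one_left]
    apply Multiplicative.toAdd.injective
    rw [hinlpow x hx, nsmul_eq_mul, CharP.cast_eq_zero, zero_mul, toAdd_one]
  have hordC : ∀ x : (Multiplicative K ⋊[φ] C), x.right ≠ 1 → orderOf x = q := by
    intro x hx
    refine orderOf_eq_prime ?_ (fun h => hx (by rw [h]; rfl))
    refine SemidirectProduct.ext ?_ (by rw [(hpow x q).1, hCq]; rfl)
    rw [SemidirectProduct.one_left]
    apply Multiplicative.toAdd.injective
    rw [toAdd_one]
    have h := (hpow x q).2
    have h1 : ((x.right : Kˣ) : K) ^ q = 1 := by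
      rw [← Units.val_pow_eq_pow_val, ← SubmonoidClass.coe_pow, hCq]; simp
    have h2 : ((x.right : Kˣ) : K) - 1 ≠ 0 := by
      rw [sub_ne_zero]
      intro e
      exact hx (Subtype.ext (Units.ext (by simpa using e)))
    rw [h1, sub_self, zero_mul] at h
    exact (mul_eq_zero.1 h).resolve_right h2
  have hright_of_r : ∀ x : (Multiplicative K ⋊[φ] C), orderOf x = r → x.right = 1 := by
    intro x hx
    by_contra h
    exact hrq (hx.symm.trans (hordC x h))
  have hright_of_q : ∀ x : (Multiplicative K ⋊[φ] C), orderOf x = q → x.right ≠ 1 := by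
    intro x hx h
    by_cases h1 : x = 1
    · rw [h1, orderOf_one] at hx; exact hq.ne_one hx.symm
    · exact hrq ((hordV x h h1).symm.trans hx)
  -- an additive subgroup of K invariant under a nontrivial element of C is trivial or everything
  have hgen : ∀ c : C, c ≠ 1 → ∀ d : C, d ∈ Subgroup.zpowers c := by
    intro c hc d
    have hcard : Nat.card C = q := by rw [Nat.card_zpowers, hu]
    exact mem_zpowers_of_prime_card hcard hc
  have hinl : ∀ (v : Multiplicative K) (y : Multiplicative K ⋊[φ] C),
      y * SemidirectProduct.inl v * y⁻¹ = SemidirectProduct.inl (φ y.right v) := by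
    intro v y
    rw [mul_inv_eq_iff_eq_mul]
    refine SemidirectProduct.ext ?_ (by simp)
    apply Multiplicative.toAdd.injective
    simp [hmull, hφ, add_comm]
  have hsub : ∀ (H : Subgroup (Multiplicative K ⋊[φ] C)), (∀ v : Multiplicative K, SemidirectProduct.inl v ∈ H →
        SemidirectProduct.inl (φ ⟨u, Subgroup.mem_zpowers u⟩ v) ∈ H) →
      (∃ v : Multiplicative K, v ≠ 1 ∧ SemidirectProduct.inl v ∈ H) →
      ∀ v : Multiplicative K, SemidirectProduct.inl v ∈ H := by
    intro H hinv hex
    let I : Ideal K :=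
      { carrier := {k | SemidirectProduct.inl (Multiplicative.ofAdd k) ∈ H}
        add_mem' := fun {a b} ha hb => by
          simp only [Set.mem_setOf_eq, ofAdd_add, map_mul]; exact mul_mem ha hb
        zero_mem' := by simp
        smul_mem' := by
          intro k
          induction k using AdjoinRoot.induction_on with
          | ih P =>
            intro a ha
            simp only [Set.mem_setOf_eq, smul_eq_mul] at ha ⊢
            induction P using Polynomial.induction_on generalizing a with
            | C c =>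
              rw [AdjoinRoot.mk_C, ← ZMod.natCast_zmod_val c, map_natCast,
                ← nsmul_eq_mul, ofAdd_nsmul, map_pow]
              exact pow_mem ha _
            | add P Q hP hQ =>
              rw [map_add, add_mul, ofAdd_add, map_mul]
              exact mul_mem (hP ha) (hQ ha)
            | monomial n c ih =>
              rw [pow_succ, ← mul_assoc, (AdjoinRoot.mk g).map_mul, AdjoinRoot.mk_X, mul_assoc]
              exact ih (hinv _ ha) }
    obtain ⟨v, hv, hvH⟩ := hex
    have hI : I = ⊤ := by
      rcases Ideal.eq_bot_or_top I with h | h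
      · exfalso
        have hm : v.toAdd ∈ I := hvH
        rw [h, Ideal.mem_bot] at hm
        exact hv (Multiplicative.toAdd.injective (by rw [hm, toAdd_one]))
      · exact h
    intro w
    have : w.toAdd ∈ I := hI ▸ Submodule.mem_top
    exact this
  have hnormal_V : ∀ N : Subgroup (Multiplicative K ⋊[φ] C), N.Normal → N ≠ ⊥ →
      ∀ v : Multiplicative K, SemidirectProduct.inl v ∈ N := by
    intro N hN hne
    obtain ⟨m, hm, hm1⟩ := (Subgroup.bot_or_exists_ne_one N).resolve_left hne
    refine hsub N (fun v hv => ?_) ?_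
    · have := hN.conj_mem _ hv (SemidirectProduct.inr ⟨u, Subgroup.mem_zpowers u⟩)
      rw [hinl] at this
      exact this
    · by_cases hmr : m.right = 1
      · refine ⟨m.left, fun h => hm1 (SemidirectProduct.ext h hmr), ?_⟩
        convert hm using 1
        exact SemidirectProduct.ext (by simp) (by simp [hmr])
      · refine ⟨Multiplicative.ofAdd (1 - ((m.right : Kˣ) : K)), ?_, ?_⟩
        · intro h
          have h' : (1 : K) - ((m.right : Kˣ) : K) = 0 :=
            congrArg Multiplicative.toAdd h
          exact hmr (Subtype.ext (Units.ext (by simpa using (sub_eq_zero.1 h').symm)))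
        · let w : (Multiplicative K ⋊[φ] C) := SemidirectProduct.inl (Multiplicative.ofAdd 1)
          have h2 : w * (m * w⁻¹ * m⁻¹) ∈ N := by
            have h3 := mul_mem (hN.conj_mem _ hm w) (inv_mem hm)
            simpa [mul_assoc] using h3
          convert h2 using 1
          have h4 : m * w⁻¹ * m⁻¹ = SemidirectProduct.inl (φ m.right (Multiplicative.ofAdd 1)⁻¹) := by
            rw [← hinl, map_inv]
          rw [h4, ← map_mul]
          congr 1
          apply Multiplicative.toAdd.injective
          simp only [toAdd_mul, hφ, toAdd_ofAdd, toAdd_inv]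
          ring
  have hone : (1 : Multiplicative K) ≠ Multiplicative.ofAdd (1 : K) := by
    intro h
    exact zero_ne_one (congrArg (fun t : Multiplicative K => t.toAdd) h)
  have hu1 : (⟨u, Subgroup.mem_zpowers u⟩ : C) ≠ 1 := by
    intro h
    have : u = 1 := congrArg Subtype.val h
    rw [this, orderOf_one] at hu
    exact hq.ne_one hu.symm
  let a : (Multiplicative K ⋊[φ] C) := SemidirectProduct.inr ⟨u, Subgroup.mem_zpowers u⟩
  let b : (Multiplicative K ⋊[φ] C) := SemidirectProduct.inl (Multiplicative.ofAdd 1)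
  have hb1 : b ≠ 1 := by
    intro h
    exact hone (congrArg SemidirectProduct.left h).symm
  refine ⟨Multiplicative K ⋊[φ] C, inferInstance, Fintype.ofFinite (Multiplicative K ⋊[φ] C), ?_, ⟨b, hordV b rfl hb1⟩, ?_, ?_, ?_, ?_, ?_⟩
  · intro x
    by_cases hx : x.right = 1
    · by_cases h1 : x = 1
      · exact Or.inl (by rw [h1, orderOf_one])
      · exact Or.inr (Or.inl (hordV x hx h1))
    · exact Or.inr (Or.inr (hordC x hx))
  · rintro H ⟨x, hx, hxo⟩ ⟨y, hy, hyo⟩
    have hxr := hright_of_r x hxo
    have hyr := hright_of_q y hyo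
    have hV : ∀ v : Multiplicative K, SemidirectProduct.inl v ∈ H := by
      refine hsub H (fun v hv => ?_) ⟨x.left, ?_, ?_⟩
      · obtain ⟨n, hn⟩ := hgen y.right hyr ⟨u, Subgroup.mem_zpowers u⟩
        have h2 : y ^ n * SemidirectProduct.inl v * (y ^ n)⁻¹ ∈ H :=
          mul_mem (mul_mem (zpow_mem hy n) hv) (inv_mem (zpow_mem hy n))
        rw [hinl, show (y ^ n).right = y.right ^ n from
          map_zpow SemidirectProduct.rightHom y n] at h2
        simp only [hn] at h2
        exact h2
      · intro h
        have : x = 1 := SemidirectProduct.ext h hxr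
        rw [this, orderOf_one] at hxo
        exact hr.ne_one hxo.symm
      · convert hx using 1
        exact SemidirectProduct.ext (by simp) (by simp [hxr])
    rw [eq_top_iff]
    intro z _
    obtain ⟨n, hn⟩ := hgen y.right hyr z.right
    have hzn : (z * (y ^ n)⁻¹).right = 1 := by
      rw [SemidirectProduct.mul_right, SemidirectProduct.inv_right,
        show (y ^ n).right = y.right ^ n from map_zpow SemidirectProduct.rightHom y n]
      simp only [hn, mul_inv_cancel]
    have h3 : z * (y ^ n)⁻¹ ∈ H := by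
      convert hV (z * (y ^ n)⁻¹).left using 1
      exact SemidirectProduct.ext (by simp) (by rw [hzn]; simp)
    simpa using mul_mem h3 (zpow_mem hy n)
  · intro x y hx hy
    have h1 := hright_of_r x hx
    have h2 := hright_of_r y hy
    refine SemidirectProduct.ext ?_ (by simp [h1, h2])
    apply Multiplicative.toAdd.injective
    rw [hmull, hmull, h1, h2]
    simp [add_comm]
  · refine ⟨a, b * a, hordC a hu1, hordC (b * a) (by simpa [a, b] using hu1), ?_⟩
    intro h
    have h2 := congrArg (fun z : (Multiplicative K ⋊[φ] C) => z.left.toAdd) h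
    simp only [hmull] at h2
    simp [a, b] at h2
    exact hu1 (Subtype.ext (Units.ext (by simpa [u, Units.ext_iff] using h2)))
  · intro N hN hne x hx
    convert hnormal_V N hN hne x.left using 1
    exact SemidirectProduct.ext (by simp) (by simp [hright_of_r x hx])
  · intro x hx
    by_cases hxr : x.right = 1
    · refine ⟨a, fun h => ?_⟩
      rw [mul_inv_eq_one, mul_inv_eq_iff_eq_mul] at h
      have h2 := congrArg (fun z : (Multiplicative K ⋊[φ] C) => z.left.toAdd) h
      simp only [hmull] at h2
      have h3 : (u : K) * x.left.toAdd = x.left.toAdd := by simpa [a, hxr] using h2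
      rcases (mul_eq_zero.1 (show ((u : K) - 1) * x.left.toAdd = 0 by rw [sub_mul, h3]; ring))
        with h2 | h2
      · exact hu1 (Subtype.ext (Units.ext (by simpa [sub_eq_zero] using h2)))
      · exact hx (SemidirectProduct.ext (Multiplicative.toAdd.injective (by simpa using h2)) hxr)
    · refine ⟨b, fun h => ?_⟩
      rw [mul_inv_eq_one, mul_inv_eq_iff_eq_mul] at h
      have h2 := congrArg (fun z : (Multiplicative K ⋊[φ] C) => z.left.toAdd) h
      simp only [hmull] at h2
      simp [b, add_comm] at h2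
      exact hxr (Subtype.ext (Units.ext (by simpa using h2.symm)))

theorem result (s : ℕ) (hs : 1 ≤ s) (p : Fin s → Fin 2 → ℕ)
    (hp : ∀ j i, (p j i).Prime) (hinj : ∀ j i j' i', p j i = p j' i' → j = j' ∧ i = i') :
    ∃ (G : Fin (2 ^ s) → Type) (_ : ∀ a, Group (G a)) (_ : ∀ a, Fintype (G a)),
      (∀ a b, a ≠ b → ¬ Nonempty (G a ≃* G b)) ∧
      ∀ a, Set.range (orderOf : (G a) → ℕ) = {m : ℕ | ∃ c : Fin s → ℕ, (∀ j, c j = 1 ∨ c j = p j 0 ∨ c j = p j 1) ∧ m = ∏ j, c j} ∧
      ∀ (H : Subgroup (G a)) (N : Subgroup ↥H) [N.Normal], (H ≠ ⊤ ∨ N ≠ ⊥) → Set.range (orderOf : (↥H ⧸ N) → ℕ) ≠ {m : ℕ | ∃ c : Fin s → ℕ, (∀ j, c j = 1 ∨ c j = p j 0 ∨ c j = p j 1) ∧ m = ∏ j, c j} := by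
  classical
  have _ := hs
  have hrev : ∀ i : Fin 2, Fin.rev i ≠ i := by decide
  have hne : ∀ j i, p j i ≠ p j (Fin.rev i) := fun j i h => hrev i (hinj _ _ _ _ h).2.symm
  choose F FG FF hF using fun (j : Fin s) (i : Fin 2) =>
    exists_block (p j i) (p j (Fin.rev i)) (hp _ _) (hp _ _) (hne j i)
  let bit : Fin (2 ^ s) → Fin s → Fin 2 := finFunctionFinEquiv.symm
  -- orders in the factors
  have hord1 : ∀ a (j : Fin s) (y : F j (bit a j)),
      orderOf y = 1 ∨ orderOf y = p j 0 ∨ orderOf y = p j 1 := by
    intro a j y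
    have := (hF j (bit a j)).1 y
    have key : ∀ (i : Fin 2) (n : ℕ), (n = 1 ∨ n = p j i ∨ n = p j (Fin.rev i)) →
        n = 1 ∨ n = p j 0 ∨ n = p j 1 := by
      intro i n h
      fin_cases i <;> simp at h ⊢ <;> tauto
    exact key _ _ this
  have hexists : ∀ a (j : Fin s) (i : Fin 2), ∃ y : F j (bit a j), orderOf y = p j i := by
    intro a j i
    rcases eq_or_ne i (bit a j) with h | h
    · rw [h]; exact (hF j (bit a j)).2.1
    · have : i = Fin.rev (bit a j) := by
        revert h; generalize bit a j = k; revert i k; decide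
      rw [this]
      obtain ⟨x, -, hx, -⟩ := (hF j (bit a j)).2.2.2.2.1
      exact ⟨x, hx⟩
  have hcop : ∀ a (x : (∀ l, F l (bit a l))) (j k : Fin s), j ≠ k → Nat.Coprime (orderOf (x j)) (orderOf (x k)) := by
    intro a x j k hjk
    rcases hord1 a j (x j) with h1 | h1 | h1 <;> rcases hord1 a k (x k) with h2 | h2 | h2 <;>
      rw [h1, h2] <;> first
        | exact Nat.coprime_one_left _
        | exact Nat.coprime_one_right _
        | exact (Nat.coprime_primes (hp _ _) (hp _ _)).2 fun h => hjk (hinj _ _ _ _ h).1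
  have hordG : ∀ a (x : (∀ l, F l (bit a l))), orderOf x = ∏ j, orderOf (x j) := by
    intro a x
    refine Nat.dvd_antisymm ?_ ?_
    · rw [orderOf_dvd_iff_pow_eq_one]
      funext j
      exact orderOf_dvd_iff_pow_eq_one.1 (Finset.dvd_prod_of_mem _ (Finset.mem_univ j))
    · refine Fintype.prod_dvd_of_isRelPrime ?_ fun j => ?_
      · intro j k hjk
        exact Nat.coprime_iff_isRelPrime.1 (hcop a x j k hjk)
      · rw [orderOf_dvd_iff_pow_eq_one]
        exact congrFun (pow_orderOf_eq_one x) j
  -- an element of prime order lives in a single factor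
  have hsingle : ∀ a (j : Fin s) (i : Fin 2) (x : (∀ l, F l (bit a l))), orderOf x = p j i →
      x = Pi.mulSingle j (x j) ∧ orderOf (x j) = p j i := by
    intro a j i x hx
    have hk : ∀ k, k ≠ j → x k = 1 := by
      intro k hk
      rw [← orderOf_eq_one_iff]
      have hd : orderOf (x k) ∣ p j i := by
        rw [← hx, orderOf_dvd_iff_pow_eq_one]
        exact congrFun (pow_orderOf_eq_one x) k
      rcases hord1 a k (x k) with h | h | h
      · exact h
      all_goals
        exfalso
        rw [h, Nat.prime_dvd_prime_iff_eq (hp _ _) (hp _ _)] at hd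
        exact hk (hinj _ _ _ _ hd).1
    have hx' : x = Pi.mulSingle j (x j) := by
      funext k
      rcases eq_or_ne k j with rfl | h
      · simp
      · rw [Pi.mulSingle_eq_of_ne h, hk k h]
    refine ⟨hx', ?_⟩
    rw [← hx]
    conv_rhs => rw [hx']
    exact (orderOf_injective (MonoidHom.mulSingle (fun l => F l (bit a l)) j)
      (fun _ _ h => by simpa using congrFun h j) (x j)).symm
  refine ⟨fun a => ∀ l, F l (bit a l), fun _ => Pi.group, fun _ => Pi.instFintype, ?_, fun a => ⟨?_, ?_⟩⟩
  · rintro a b hab ⟨e⟩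
    have hbit : bit a ≠ bit b := fun h => hab (finFunctionFinEquiv.symm.injective h)
    obtain ⟨j, hj⟩ := Function.ne_iff.1 hbit
    have hbj : Fin.rev (bit b j) = bit a j := by
      revert hj; generalize bit a j = k; generalize bit b j = l; revert k l; decide
    obtain ⟨x, y, hx, hy, hxy⟩ := (hF j (bit b j)).2.2.2.2.1
    rw [hbj] at hx hy
    let X : (∀ l, F l (bit b l)) := Pi.mulSingle j x
    let Y : (∀ l, F l (bit b l)) := Pi.mulSingle j y
    have hX : orderOf X = p j (bit a j) := by
      rw [← hx]; exact orderOf_injective (MonoidHom.mulSingle (fun l => F l (bit b l)) j)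
        (fun _ _ h => by simpa using congrFun h j) x
    have hY : orderOf Y = p j (bit a j) := by
      rw [← hy]; exact orderOf_injective (MonoidHom.mulSingle (fun l => F l (bit b l)) j)
        (fun _ _ h => by simpa using congrFun h j) y
    obtain ⟨hX1, hX2⟩ := hsingle a j (bit a j) (e.symm X) (by rw [MulEquiv.orderOf_eq, hX])
    obtain ⟨hY1, hY2⟩ := hsingle a j (bit a j) (e.symm Y) (by rw [MulEquiv.orderOf_eq, hY])
    have hc : e.symm X * e.symm Y = e.symm Y * e.symm X := by
      rw [hX1, hY1, ← Pi.mulSingle_mul, ← Pi.mulSingle_mul,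
        (hF j (bit a j)).2.2.2.1 _ _ hX2 hY2]
    rw [← map_mul, ← map_mul, e.symm.injective.eq_iff] at hc
    have := congrFun hc j
    simp only [Pi.mul_apply, X, Y, Pi.mulSingle_eq_same] at this
    exact hxy this
  · ext m
    constructor
    · rintro ⟨x, rfl⟩
      exact ⟨fun j => orderOf (x j), fun j => hord1 a j (x j), hordG a x⟩
    · rintro ⟨c, hc, rfl⟩
      have : ∀ j, ∃ y : F j (bit a j), orderOf y = c j := by
        intro j
        rcases hc j with h | h | h
        · exact ⟨1, by rw [orderOf_one, h]⟩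
        · rw [h]; exact hexists a j 0
        · rw [h]; exact hexists a j 1
      choose y hy using this
      exact ⟨y, by rw [hordG a y]; exact Finset.prod_congr rfl fun j _ => hy j⟩
  · intro H N hN hHN heq
    have hprime : ∀ j i, ∃ z : ↥H ⧸ N, orderOf z = p j i := by
      intro j i
      have hm : p j i ∈ Set.range (orderOf : (↥H ⧸ N) → ℕ) := by
        rw [heq]
        refine ⟨fun k => if k = j then p j i else 1, fun k => ?_, ?_⟩
        · rcases eq_or_ne k j with rfl | h
          · fin_cases i <;> simp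
          · simp [h]
        · simp
      exact hm
    have hlift : ∀ j i, ∃ x ∈ H, orderOf x = p j i := by
      intro j i
      haveI : Fact (p j i).Prime := ⟨hp j i⟩
      obtain ⟨z, hz⟩ := hprime j i
      have hd : p j i ∣ Nat.card ↥H := by
        rw [← hz]
        exact (orderOf_dvd_natCard z).trans (Subgroup.card_quotient_dvd_card N)
      obtain ⟨x, hx⟩ := exists_prime_orderOf_dvd_card' (p j i) hd
      exact ⟨x, x.2, by rw [Subgroup.orderOf_coe, hx]⟩
    have hHtop : H = ⊤ := by
      have hfac : ∀ j, Subgroup.comap (MonoidHom.mulSingle (fun l => F l (bit a l)) j) H = ⊤ := by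
        intro j
        refine (hF j (bit a j)).2.2.1 _ ?_ ?_
        all_goals
          obtain ⟨x, hxH, hx⟩ := hlift j _
          obtain ⟨h1, h2⟩ := hsingle a j _ x hx
          refine ⟨x j, ?_, h2⟩
          rw [Subgroup.mem_comap, MonoidHom.mulSingle_apply, ← h1]
          exact hxH
      rw [eq_top_iff]
      intro x _
      refine Subgroup.pi_mem_of_mulSingle_mem x fun j => ?_
      exact (eq_top_iff.1 (hfac j)) (Subgroup.mem_top (x j))
    have hNne : N ≠ ⊥ := hHN.resolve_left (fun h => h hHtop)
    subst hHtop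
    obtain ⟨n, hn, hn1⟩ := (Subgroup.bot_or_exists_ne_one N).resolve_left hNne
    have hn1' : (n : (∀ l, F l (bit a l))) ≠ 1 := fun h => hn1 (Subtype.ext h)
    obtain ⟨j, hj⟩ := Function.ne_iff.1 hn1'
    obtain ⟨y, hy⟩ := (hF j (bit a j)).2.2.2.2.2.2 _ hj
    let ι : F j (bit a j) →* ↥(⊤ : Subgroup ((∀ l, F l (bit a l)))) :=
      (MonoidHom.mulSingle (fun l => F l (bit a l)) j).codRestrict _ (fun _ => Subgroup.mem_top _)
    have hM : (N.comap ι).Normal := hN.comap ι
    have hMne : N.comap ι ≠ ⊥ := by
      intro h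
      apply hy
      have hmem : ι y * n * (ι y)⁻¹ * n⁻¹ ∈ N := mul_mem (hN.conj_mem _ hn _) (inv_mem hn)
      have heq' : ι y * n * (ι y)⁻¹ * n⁻¹ = ι (y * (n : (∀ l, F l (bit a l))) j * y⁻¹ * ((n : (∀ l, F l (bit a l))) j)⁻¹) := by
        apply Subtype.ext
        funext k
        rcases eq_or_ne k j with rfl | hk
        · simp [ι]
        · simp [ι, Pi.mulSingle_eq_of_ne hk]
      rw [heq'] at hmem
      have h2 : y * (n : (∀ l, F l (bit a l))) j * y⁻¹ * ((n : (∀ l, F l (bit a l))) j)⁻¹ ∈ N.comap ι := hmem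
      rwa [h, Subgroup.mem_bot] at h2
    obtain ⟨z, hz⟩ := hprime j (bit a j)
    obtain ⟨x, rfl⟩ := QuotientGroup.mk_surjective z
    let x' : ↥(⊤ : Subgroup ((∀ l, F l (bit a l)))) := ⟨Function.update (x : (∀ l, F l (bit a l))) j 1, Subgroup.mem_top _⟩
    have hxj : ι ((x : (∀ l, F l (bit a l))) j) ∈ N := by
      rcases (hF j (bit a j)).1 ((x : (∀ l, F l (bit a l))) j) with h | h | h
      · rw [orderOf_eq_one_iff.1 h, map_one]; exact one_mem N
      · exact (hF j (bit a j)).2.2.2.2.2.1 _ hM hMne _ h
      · exfalso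
        have hd : p j (bit a j) ∣ orderOf x := by
          rw [← hz]; exact orderOf_map_dvd (QuotientGroup.mk' N) x
        rw [← Subgroup.orderOf_coe, hordG a,
          (hp _ _).prime.dvd_finset_prod_iff] at hd
        obtain ⟨k, -, hk⟩ := hd
        rcases eq_or_ne k j with rfl | hkj
        · rw [h, Nat.prime_dvd_prime_iff_eq (hp _ _) (hp _ _)] at hk
          exact hne _ _ hk
        · rcases hord1 a k ((x : (∀ l, F l (bit a l))) k) with h' | h' | h'
          · rw [h'] at hk; exact (hp j (bit a j)).not_dvd_one hk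
          all_goals
            rw [h', Nat.prime_dvd_prime_iff_eq (hp _ _) (hp _ _)] at hk
            exact hkj (hinj _ _ _ _ hk).1.symm
    have hxx : (QuotientGroup.mk x : _ ⧸ N) = QuotientGroup.mk x' := by
      rw [QuotientGroup.eq]
      have : x⁻¹ * x' = ι (((x : (∀ l, F l (bit a l))) j)⁻¹) := by
        apply Subtype.ext
        funext k
        rcases eq_or_ne k j with rfl | hk
        · simp [ι, x']
        · simp [ι, x', Pi.mulSingle_eq_of_ne hk, Function.update_of_ne hk]
      rw [this, map_inv]
      exact inv_mem hxj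
    have hd : p j (bit a j) ∣ orderOf x' := by
      rw [← hz, hxx]; exact orderOf_map_dvd (QuotientGroup.mk' N) x'
    rw [← Subgroup.orderOf_coe, hordG a, (hp _ _).prime.dvd_finset_prod_iff] at hd
    obtain ⟨k, -, hk⟩ := hd
    rcases eq_or_ne k j with rfl | hkj
    · simp [x', (hp k (bit a k)).ne_one] at hk
    · rcases hord1 a k ((x' : (∀ l, F l (bit a l))) k) with h' | h' | h'
      · rw [h'] at hk; exact (hp j (bit a j)).not_dvd_one hk
      all_goals
        rw [h', Nat.prime_dvd_prime_iff_eq (hp _ _) (hp _ _)] at hk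
        exact hkj (hinj _ _ _ _ hk).1.symm

end Cfsg.Agent.S3599
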