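import Cfsg.Statements.S3600
import Cfsg.Agent.Lib.Recog.OrderFive.Critical

set_option autoImplicit false
open Cfsg

namespace Cfsg.Agent.S3600

open Cfsg.Agent.S3491 (G0 F4)
open Cfsg.Lib.Recog.OrderFive Matrix

/-- The matrix of an element of the model. -/
noncomputable def affMat (y : G0) : Matrix.SpecialLinearGroup (Fin 3) F4 :=
  ⟨!![y.right.1 0 0, y.right.1 0 1, Multiplicative.toAdd y.left 0;
      y.right.1 1 0, y.right.1 1 1, Multiplicative.toAdd y.left 1;
      0, 0, 1], by
    have h := y.right.2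
    rw [Matrix.det_fin_two] at h
    rw [Matrix.det_fin_three]
    simp [h]⟩

/-- The model as a group of matrices. -/
noncomputable def affHom : G0 →* Matrix.SpecialLinearGroup (Fin 3) F4 :=
  MonoidHom.mk' affMat fun x y => by
    apply Subtype.ext
    show _ = (affMat x).1 * (affMat y).1
    ext i j
    fin_cases i <;> fin_cases j <;>
      simp [affMat, Matrix.SpecialLinearGroup.coe_mul, Matrix.mul_apply, Fin.sum_univ_three, Fin.sum_univ_two, SemidirectProduct.mul_left,
        SemidirectProduct.mul_right, Cfsg.Lib.Spec.natAct_apply, mul_comm, add_comm,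
        add_left_comm, add_assoc]

theorem affHom_injective : Function.Injective affHom := by
  intro x y h
  have e : ∀ i j, (affMat x).1 i j = (affMat y).1 i j := fun i j => by
    exact congrArg (fun A : Matrix.SpecialLinearGroup (Fin 3) F4 => A.1 i j) h
  refine SemidirectProduct.ext (Multiplicative.toAdd.injective (funext fun i => ?_))
    (Subtype.ext (Matrix.ext fun i j => ?_))
  · fin_cases i
    · simpa [affMat] using e 0 2
    · simpa [affMat] using e 1 2
  · fin_cases i <;> fin_cases j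
    · simpa [affMat] using e 0 0
    · simpa [affMat] using e 0 1
    · simpa [affMat] using e 1 0
    · simpa [affMat] using e 1 1

theorem range_affHom : affHom.range = Subgroup.closure {M : Matrix.SpecialLinearGroup (Fin 3) F4 |
    (M : Matrix (Fin 3) (Fin 3) F4) 2 0 = 0 ∧ (M : Matrix (Fin 3) (Fin 3) F4) 2 1 = 0 ∧
      (M : Matrix (Fin 3) (Fin 3) F4) 2 2 = 1} := by
  refine le_antisymm ?_ ((Subgroup.closure_le _).2 ?_)
  · rintro _ ⟨y, rfl⟩
    change affMat y ∈ _
    exact Subgroup.subset_closure ⟨by simp [affMat], by simp [affMat], by simp [affMat]⟩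
  · rintro M ⟨h0, h1, h2⟩
    refine ⟨⟨Multiplicative.ofAdd ![M.1 0 2, M.1 1 2],
      ⟨!![M.1 0 0, M.1 0 1; M.1 1 0, M.1 1 1], ?_⟩⟩, ?_⟩
    · have h := M.2
      rw [Matrix.det_fin_three, h0, h1, h2] at h
      rw [Matrix.det_fin_two_of]
      simpa using h
    · change affMat _ = M
      apply Subtype.ext
      ext i j
      fin_cases i <;> fin_cases j <;> simp [affMat, h0, h1, h2]

theorem model_equiv : ∃ (F : Type) (_ : Field F) (_ : Fintype F), Fintype.card F = 4 ∧
    Nonempty (G0 ≃* ↥(Subgroup.closure {M : Matrix.SpecialLinearGroup (Fin 3) F |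
      (M : Matrix (Fin 3) (Fin 3) F) 2 0 = 0 ∧ (M : Matrix (Fin 3) (Fin 3) F) 2 1 = 0 ∧
        (M : Matrix (Fin 3) (Fin 3) F) 2 2 = 1})) := by
  haveI := Fintype.ofFinite F4
  refine ⟨F4, inferInstance, inferInstance, ?_,
    ⟨(MonoidHom.ofInjective affHom_injective).trans (MulEquiv.subgroupCongr range_affHom)⟩⟩
  rw [← Nat.card_eq_fintype_card, GaloisField.card 2 2 (by norm_num)]; norm_num

/-- A finite group is critical with respect to a set Ω of natural numbers when its set of element orders is Ω while no proper section has Ω as its set of element orders. A finite group critical with respect to {1, 2, 3, 4, 5} (the set of element orders of the alternating group of degree 6) is isomorphic either to the alternating group of degree 6 or to the affine group F² ⋊ SL(2,F) over the field F with four elements (realised as the matrices of SL(3,F) with last row (0, 0, 1)). -/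
theorem result {G : Type*} [Group G] [Finite G]
    (hcrit : Set.range (orderOf : G → ℕ) = ({1, 2, 3, 4, 5} : Set ℕ) ∧
      ∀ (H : Subgroup G) (N : Subgroup ↥H) [N.Normal], (H ≠ ⊤ ∨ N ≠ ⊥) → Set.range (orderOf : (↥H ⧸ N) → ℕ) ≠ ({1, 2, 3, 4, 5} : Set ℕ)) :
    Nonempty (G ≃* alternatingGroup (Fin 6)) ∨
      ∃ (F : Type) (_ : Field F) (_ : Fintype F), Fintype.card F = 4 ∧
        Nonempty (G ≃* ↥(Subgroup.closure {M : Matrix.SpecialLinearGroup (Fin 3) F |
          (M : Matrix (Fin 3) (Fin 3) F) 2 0 = 0 ∧ (M : Matrix (Fin 3) (Fin 3) F) 2 1 = 0 ∧ (M : Matrix (Fin 3) (Fin 3) F) 2 2 = 1})) := by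
  obtain ⟨hr, hcrit⟩ := hcrit
  have hord : OrdFive G := fun g => by
    have := hr.le ⟨g, rfl⟩
    simp only [Set.mem_insert_iff, Set.mem_singleton_iff] at this
    omega
  have hex : ∀ n ∈ ({1, 2, 3, 4, 5} : Set ℕ), ∃ g : G, orderOf g = n := fun n hn => hr.ge hn
  rcases structure_theorem hord (hex 2 (by simp)) (hex 3 (by simp)) (hex 5 (by simp)) with
    h | ⟨N, hN, hNE, ⟨e⟩⟩
  · exact Or.inl h
  refine Or.inr ?_
  obtain ⟨F, iF, iFt, hF, ⟨e'⟩⟩ := model_equiv
  suffices hg : ∀ a b : G, orderOf a = 4 → orderOf b = 3 → orderOf (a * b) = 5 →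
      Subgroup.closure ({a, b} : Set G) = ⊤ by
    obtain ⟨e₀⟩ := FiveFour.iso_model hord hN hNE e (hex 4 (by simp)) hg
    exact ⟨F, iF, iFt, hF, ⟨e₀.trans e'⟩⟩
  intro a b ha hb hab
  by_contra hne
  set H := Subgroup.closure ({a, b} : Set G) with hH
  refine hcrit H ⊥ (Or.inl hne) (Set.Subset.antisymm ?_ ?_)
  · rintro _ ⟨q, rfl⟩
    obtain ⟨x, rfl⟩ := QuotientGroup.mk_surjective q
    rw [← hr]
    refine ⟨(x : G), ?_⟩
    rw [Subgroup.orderOf_coe]
    exact (orderOf_injective (QuotientGroup.mk' (⊥ : Subgroup H))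
      (fun u v h => by simpa [QuotientGroup.eq, Subgroup.mem_bot, inv_mul_eq_one] using h) x).symm
  · intro n hn
    have haH : a ∈ H := Subgroup.subset_closure (Or.inl rfl)
    have hbH : b ∈ H := Subgroup.subset_closure (Or.inr rfl)
    obtain ⟨x, hx, rfl⟩ : ∃ x ∈ H, orderOf x = n := by
      simp only [Set.mem_insert_iff, Set.mem_singleton_iff] at hn
      rcases hn with rfl | rfl | rfl | rfl | rfl
      · exact ⟨1, one_mem _, orderOf_one⟩
      · refine ⟨a ^ 2, pow_mem haH 2, ?_⟩
        rw [orderOf_pow' a two_ne_zero, ha]; rfl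
      · exact ⟨b, hbH, hb⟩
      · exact ⟨a, haH, ha⟩
      · exact ⟨a * b, mul_mem haH hbH, hab⟩
    refine ⟨QuotientGroup.mk' ⊥ (⟨x, hx⟩ : H), ?_⟩
    exact (orderOf_injective (QuotientGroup.mk' (⊥ : Subgroup H))
      (fun u v h => by simpa [QuotientGroup.eq, Subgroup.mem_bot, inv_mul_eq_one] using h) _).trans
      (Subgroup.orderOf_mk _ _)

end Cfsg.Agent.S3600
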