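import Cfsg.Statements.S3611
import Cfsg.Agent.Lib.Perm.PrimeDegreeHalf

set_option autoImplicit false
open Cfsg

namespace Cfsg.Agent.S3611

/-- Let G be an insoluble group acting faithfully and transitively on a finite set of prime size p, and suppose the normalizer of a Sylow p-subgroup of G has order p(p-1)/2. If p ≡ 3 (mod 4), then G is triply transitive, or for any two distinct points the stabilizer of both has exactly four orbits on the set (the two fixed points and exactly two orbits on the remaining p - 2 points). -/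
theorem result {G Ω : Type*} [Group G] [Finite G] [MulAction G Ω] [FaithfulSMul G Ω] [Finite Ω]
    (p : ℕ) (hp : p.Prime) (hΩ : Nat.card Ω = p) (htrans : MulAction.IsPretransitive G Ω)
    (hins : ¬ Group.IsSolvable G) (P : Sylow p G)
    (hN : 2 * Nat.card ↥(Subgroup.normalizer ((P : Subgroup G) : Set G)) = p * (p - 1))
    (hp3 : p % 4 = 3) :
    MulAction.IsMultiplyPretransitive G Ω 3 ∨
    ∀ α β : Ω, α ≠ β →
      Nat.card (MulAction.orbitRel.Quotient ↥(MulAction.stabilizer G α ⊓ MulAction.stabilizer G β) Ω) = 4 := by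
  classical
  haveI := Fact.mk hp
  haveI := Fintype.ofFinite Ω
  haveI := htrans
  let φ := MulAction.toPermHom G Ω
  have hinj : Function.Injective φ := MulAction.toPerm_injective
  set Γ := φ.range with hΓ
  let e : G ≃* Γ := MonoidHom.ofInjective hinj
  haveI : MulAction.IsPretransitive Γ Ω := ⟨fun x y => by
    obtain ⟨g, hg⟩ := MulAction.exists_smul_eq G x y
    exact ⟨e g, hg⟩⟩
  have hΓns : ¬ Group.IsSolvable Γ := fun hs => hins (by
    haveI := hs
    exact Group.isSolvable_of_isSolvable_injective (f := e.toMonoidHom) e.injective)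
  let P' : Sylow p Γ := P.mapSurjective (f := e.toMonoidHom) e.surjective
  have hN' : p * (p - 1) ≤ 2 * Nat.card (Subgroup.normalizer ((P' : Subgroup Γ) : Set Γ)) := by
    have h1 : Subgroup.normalizer ((P' : Subgroup Γ) : Set Γ) =
        (Subgroup.normalizer ((P : Subgroup G) : Set G)).map e.toMonoidHom := by
      rw [Subgroup.map_equiv_normalizer_eq (P : Subgroup G) e]; rfl
    rw [h1, Subgroup.card_map_of_injective (f := e.toMonoidHom) e.injective]
    exact hN.ge
  have hcard : Fintype.card Ω = p := by rw [← Nat.card_eq_fintype_card]; exact hΩ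
  have key := fun {a b c d f : Ω} (h1 : a ≠ b) (h2 : c ≠ a) (h3 : c ≠ b) (h4 : d ≠ a) (h5 : d ≠ b)
    (h6 : f ≠ a) (h7 : f ≠ b) =>
      Cfsg.Lib.Perm.PrimeHalf.two_orbits hcard Γ hΓns P' hN' h1 h2 h3 h4 h5 h6 h7
  have h2t : ∀ a b a' b' : Ω, a ≠ b → a' ≠ b' → ∃ g : G, g • a = a' ∧ g • b = b' := by
    intro a b a' b' hab hab'
    have h2 : MulAction.IsMultiplyPretransitive Γ Ω 2 :=
      (Cfsg.Agent.PrimeDegree.two_transitive_or_affine hcard Γ).resolve_right
        (fun ⟨e', h'⟩ => hΓns (Cfsg.Agent.PrimeDegree.isSolvable_of_affine Γ e' h'))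
    obtain ⟨g, h1, h1'⟩ := (MulAction.is_two_pretransitive_iff.mp h2) hab hab'
    obtain ⟨g0, hg0⟩ := g.2
    have hg : ∀ x : Ω, g0 • x = g • x := fun x => by
      show φ g0 x = (g : Equiv.Perm Ω) x
      rw [hg0]
    exact ⟨g0, (hg a).trans h1, (hg b).trans h1'⟩
  let R : Ω → Ω → Ω → Ω → Prop := fun a b c d => ∃ g : G, g • a = a ∧ g • b = b ∧ g • c = d
  have hRtr : ∀ {a b c d}, R a b c d → ∀ {d'}, R a b d d' → R a b c d' := by
    rintro a b c d ⟨g, ga, gb, gc⟩ d' ⟨k, ka, kb, kd⟩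
    exact ⟨k * g, by rw [mul_smul, ga, ka], by rw [mul_smul, gb, kb], by rw [mul_smul, gc, kd]⟩
  have hRsymm : ∀ {a b c d}, R a b c d → R a b d c := by
    rintro a b c d ⟨g, ga, gb, gc⟩
    exact ⟨g⁻¹, by rw [inv_smul_eq_iff, ga], by rw [inv_smul_eq_iff, gb], by rw [inv_smul_eq_iff, gc]⟩
  have hkey : ∀ {a b c d f : Ω}, a ≠ b → c ≠ a → c ≠ b → d ≠ a → d ≠ b → f ≠ a → f ≠ b →
      R a b c d ∨ R a b c f ∨ R a b d f := by
    intro a b c d f h1 h2 h3 h4 h5 h6 h7
    obtain ⟨g, hgΓ, ga, gb, gh⟩ := key h1 h2 h3 h4 h5 h6 h7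
    obtain ⟨g0, rfl⟩ := hgΓ
    rcases gh with h | h | h
    exacts [Or.inl ⟨g0, ga, gb, h⟩, Or.inr (Or.inl ⟨g0, ga, gb, h⟩), Or.inr (Or.inr ⟨g0, ga, gb, h⟩)]
  by_cases hall : ∀ a b c d : Ω, a ≠ b → c ≠ a → c ≠ b → d ≠ a → d ≠ b → R a b c d
  · left
    refine ⟨fun x y => ?_⟩
    have hx : ∀ i j : Fin 3, i ≠ j → x i ≠ x j := fun i j h => x.injective.ne h
    have hy : ∀ i j : Fin 3, i ≠ j → y i ≠ y j := fun i j h => y.injective.ne h
    obtain ⟨g, h1, h1'⟩ := h2t (x 0) (x 1) (y 0) (y 1) (hx _ _ (by decide)) (hy _ _ (by decide))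
    obtain ⟨k, k0, k1, k2⟩ := hall (y 0) (y 1) (g • x 2) (y 2) (hy _ _ (by decide))
      (by rw [← h1, Ne, smul_left_cancel_iff]; exact hx _ _ (by decide))
      (by rw [← h1', Ne, smul_left_cancel_iff]; exact hx _ _ (by decide))
      (hy _ _ (by decide)) (hy _ _ (by decide))
    refine ⟨k * g, Function.Embedding.ext fun i => ?_⟩
    fin_cases i <;> simp [mul_smul, h1, h1', k0, k1, k2]
  · right
    push Not at hall
    obtain ⟨a, b, c0, d0, hab, hca, hcb, hda, hdb, hnR⟩ := hall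
    intro α β hαβ
    obtain ⟨g, hga, hgb⟩ := h2t a b α β hab hαβ
    set c := g • c0 with hc
    set d := g • d0 with hd
    have hne : c ≠ α ∧ c ≠ β ∧ d ≠ α ∧ d ≠ β := by
      simp only [hc, hd, ← hga, ← hgb, Ne, smul_left_cancel_iff]
      exact ⟨hca, hcb, hda, hdb⟩
    have hncd : ¬ R α β c d := by
      rintro ⟨k, ka, kb, kc⟩
      refine hnR ⟨g⁻¹ * k * g, ?_, ?_, ?_⟩
      · rw [mul_smul, mul_smul, hga, ka, ← hga, inv_smul_smul]
      · rw [mul_smul, mul_smul, hgb, kb, ← hgb, inv_smul_smul]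
      · rw [mul_smul, mul_smul, ← hc, kc, hd, inv_smul_smul]
    set S := MulAction.stabilizer G α ⊓ MulAction.stabilizer G β
    let mk : Ω → MulAction.orbitRel.Quotient S Ω := Quotient.mk''
    have hmk : ∀ u v, mk u = mk v ↔ R α β v u := by
      intro u v
      rw [Quotient.eq'', MulAction.orbitRel_apply, MulAction.mem_orbit_iff]
      constructor
      · rintro ⟨⟨k, hk⟩, hkv⟩
        exact ⟨k, hk.1, hk.2, hkv⟩
      · rintro ⟨k, ka, kb, kv⟩
        exact ⟨⟨k, ka, kb⟩, kv⟩
    have hfix : ∀ u, R α β α u → u = α := fun u ⟨k, ka, _, kv⟩ => kv.symm.trans ka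
    have hfix' : ∀ u, R α β β u → u = β := fun u ⟨k, _, kb, kv⟩ => kv.symm.trans kb
    haveI := Fintype.ofFinite (MulAction.orbitRel.Quotient S Ω)
    have huniv : (Finset.univ : Finset (MulAction.orbitRel.Quotient S Ω)) = {mk α, mk β, mk c, mk d} := by
      refine (Finset.eq_univ_of_forall fun q => ?_).symm
      induction q using Quotient.inductionOn' with | _ u => ?_
      simp only [Finset.mem_insert, Finset.mem_singleton]
      by_cases hu1 : u = α
      · exact Or.inl (by rw [hu1])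
      by_cases hu2 : u = β
      · exact Or.inr (Or.inl (by rw [hu2]))
      rcases hkey hαβ hne.1 hne.2.1 hne.2.2.1 hne.2.2.2 hu1 hu2 with h | h | h
      · exact absurd h hncd
      · exact Or.inr (Or.inr (Or.inl ((hmk u c).2 h)))
      · exact Or.inr (Or.inr (Or.inr ((hmk u d).2 h)))
    rw [Nat.card_eq_fintype_card, ← Finset.card_univ, huniv]
    have n1 : mk α ≠ mk β := fun h => hαβ (hfix' α ((hmk α β).1 h))
    have n2 : mk α ≠ mk c := fun h => hne.1 (hfix c ((hmk c α).1 h.symm))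
    have n3 : mk α ≠ mk d := fun h => hne.2.2.1 (hfix d ((hmk d α).1 h.symm))
    have n4 : mk β ≠ mk c := fun h => hne.2.1 (hfix' c ((hmk c β).1 h.symm))
    have n5 : mk β ≠ mk d := fun h => hne.2.2.2 (hfix' d ((hmk d β).1 h.symm))
    have n6 : mk c ≠ mk d := fun h => hncd ((hmk d c).1 h.symm)
    simp [n1, n2, n3, n4, n5, n6]

end Cfsg.Agent.S3611
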