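import Cfsg.Statements.S3612
import Cfsg.Agent.Lib.Perm.PrimeDegreeHalfPrimitive

set_option autoImplicit false
open Cfsg

namespace Cfsg.Agent.S3612
open scoped Pointwise

/-- Let G be an insoluble group acting faithfully and transitively on a finite set of prime size p, and suppose the normalizer of a Sylow p-subgroup of G has order p(p-1)/2. If p > 7, then the stabilizer of a point acts primitively on the remaining p - 1 points. -/
theorem result {G Ω : Type*} [Group G] [Finite G] [MulAction G Ω] [FaithfulSMul G Ω] [Finite Ω]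
    (p : ℕ) (hp : p.Prime) (hΩ : Nat.card Ω = p) (htrans : MulAction.IsPretransitive G Ω)
    (hins : ¬ Group.IsSolvable G) (P : Sylow p G)
    (hN : 2 * Nat.card ↥(Subgroup.normalizer ((P : Subgroup G) : Set G)) = p * (p - 1))
    (hp7 : 7 < p) (α : Ω) :
    MulAction.IsPreprimitive ↥(MulAction.stabilizer G α) ↥(SubMulAction.ofStabilizer G α) := by
  classical
  haveI := Fact.mk hp
  haveI := Fintype.ofFinite Ω
  haveI := htrans
  let φ := MulAction.toPermHom G Ω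
  have hinj : Function.Injective φ := MulAction.toPerm_injective
  set Γ := φ.range with hΓ
  let ε : G ≃* Γ := MonoidHom.ofInjective hinj
  haveI : MulAction.IsPretransitive Γ Ω := ⟨fun x y => by
    obtain ⟨g, hg⟩ := MulAction.exists_smul_eq G x y
    exact ⟨ε g, hg⟩⟩
  have hΓns : ¬ Group.IsSolvable Γ := fun hs => hins (by
    haveI := hs
    exact Group.isSolvable_of_isSolvable_injective (f := ε.toMonoidHom) ε.injective)
  let P' : Sylow p Γ := P.mapSurjective (f := ε.toMonoidHom) ε.surjective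
  have hN' : p * (p - 1) ≤ 2 * Nat.card (Subgroup.normalizer ((P' : Subgroup Γ) : Set Γ)) := by
    have h1 : Subgroup.normalizer ((P' : Subgroup Γ) : Set Γ) =
        (Subgroup.normalizer ((P : Subgroup G) : Set G)).map ε.toMonoidHom := by
      rw [Subgroup.map_equiv_normalizer_eq (P : Subgroup G) ε]; rfl
    rw [h1, Subgroup.card_map_of_injective (f := ε.toMonoidHom) ε.injective]
    exact hN.ge
  have hcard : Fintype.card Ω = p := by rw [← Nat.card_eq_fintype_card]; exact hΩ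
  obtain ⟨e0, he0⟩ := Cfsg.Agent.PrimeDegree.exists_numbering hcard Γ
  -- put the point at zero
  let e : ZMod p ≃ Ω := (Equiv.addRight (e0.symm α)).trans e0
  have he : ∀ t : ZMod p, ∃ g ∈ Γ, ∀ i, g (e i) = e (i + t) := fun t => by
    obtain ⟨g, hg, hg'⟩ := he0 t
    exact ⟨g, hg, fun i => by simp [e, hg', add_right_comm]⟩
  have hα : e 0 = α := by simp [e]
  have hmul := Cfsg.Lib.Perm.PrimeHalf.exists_mul Γ e hcard he P' hN'
  let H : Subgroup (Equiv.Perm (ZMod p)) := Γ.map e.symm.permCongrHom.toMonoidHom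
  have hmem : ∀ g ∈ Γ, ∃ g' ∈ H, ∀ i, g' i = e.symm (g (e i)) := fun g hg =>
    ⟨_, Subgroup.mem_map_of_mem _ hg, fun i => by simp [Equiv.permCongrHom]⟩
  have hof : ∀ g' ∈ H, ∃ g : G, ∀ i, g • e i = e (g' i) := by
    rintro g' ⟨k, ⟨g, rfl⟩, rfl⟩
    exact ⟨g, fun i => by simp [Equiv.permCongrHom, φ]⟩
  have h2 : MulAction.IsMultiplyPretransitive Γ Ω 2 :=
    (Cfsg.Agent.PrimeDegree.two_transitive_or_affine hcard Γ).resolve_right
      (fun ⟨e', h'⟩ => hΓns (Cfsg.Agent.PrimeDegree.isSolvable_of_affine Γ e' h'))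
  have h2' : ∀ a b a' b' : ZMod p, a ≠ b → a' ≠ b' → ∃ g ∈ H, g a = a' ∧ g b = b' := by
    intro a b a' b' hab hab'
    obtain ⟨g, h1, h1'⟩ := (MulAction.is_two_pretransitive_iff.mp h2) (e.injective.ne hab) (e.injective.ne hab')
    obtain ⟨g', hg', hgi⟩ := hmem g.1 g.2
    refine ⟨g', hg', ?_, ?_⟩
    · rw [hgi, show (g : Equiv.Perm Ω) (e a) = e a' from h1, e.symm_apply_apply]
    · rw [hgi, show (g : Equiv.Perm Ω) (e b) = e b' from h1', e.symm_apply_apply]
  have horb : ∀ a b c d f : ZMod p, a ≠ b → c ≠ a → c ≠ b → d ≠ a → d ≠ b → f ≠ a → f ≠ b →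
      ∃ g ∈ H, g a = a ∧ g b = b ∧ (g c = d ∨ g c = f ∨ g d = f) := by
    intro a b c d f h1 h3 h4 h5 h6 h7 h8
    obtain ⟨g, hg, ga, gb, h⟩ := Cfsg.Lib.Perm.PrimeHalf.two_orbits hcard Γ hΓns P' hN'
      (e.injective.ne h1) (e.injective.ne h3) (e.injective.ne h4) (e.injective.ne h5) (e.injective.ne h6)
      (e.injective.ne h7) (e.injective.ne h8)
    obtain ⟨g', hg', hgi⟩ := hmem g hg
    refine ⟨g', hg', by rw [hgi, ga, e.symm_apply_apply], by rw [hgi, gb, e.symm_apply_apply], ?_⟩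
    rcases h with h | h | h
    · exact Or.inl (by rw [hgi, h, e.symm_apply_apply])
    · exact Or.inr (Or.inl (by rw [hgi, h, e.symm_apply_apply]))
    · exact Or.inr (Or.inr (by rw [hgi, h, e.symm_apply_apply]))
  have hHt : ∀ t : ZMod p, ∃ g ∈ H, ∀ i, g i = i + t := fun t => by
    obtain ⟨g, hg, hg'⟩ := he t
    obtain ⟨g', hg0, hgi⟩ := hmem g hg
    exact ⟨g', hg0, fun i => by rw [hgi, hg', e.symm_apply_apply]⟩
  have hHm : ∀ k : ZMod p, k ≠ 0 → ∃ g ∈ H, ∀ i, g i = k * k * i := fun k hk => by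
    obtain ⟨g, hg, hg'⟩ := hmul k hk
    obtain ⟨g', hg0, hgi⟩ := hmem g hg
    exact ⟨g', hg0, fun i => by rw [hgi, hg', e.symm_apply_apply]⟩
  haveI : MulAction.IsPretransitive ↥(MulAction.stabilizer G α) ↥(SubMulAction.ofStabilizer G α) := ⟨by
    rintro ⟨x, hx⟩ ⟨y, hy⟩
    rw [SubMulAction.mem_ofStabilizer_iff] at hx hy
    obtain ⟨g', hg', h1, h1'⟩ := h2' 0 (e.symm x) 0 (e.symm y)
      (fun h => hx (by rw [← hα, h, e.apply_symm_apply])) (fun h => hy (by rw [← hα, h, e.apply_symm_apply]))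
    obtain ⟨g, hg⟩ := hof g' hg'
    refine ⟨⟨g, ?_⟩, Subtype.ext ?_⟩
    · rw [MulAction.mem_stabilizer_iff, ← hα, hg, h1]
    · show g • x = y
      rw [← e.apply_symm_apply x, hg, h1', e.apply_symm_apply]⟩
  refine ⟨fun {B} hB => ?_⟩
  rw [MulAction.IsTrivialBlock]
  by_contra hcon
  push Not at hcon
  obtain ⟨hnt, huniv⟩ := hcon
  obtain ⟨x1, hx1, y1, hy1, hxy⟩ := hnt
  obtain ⟨w1, hw1⟩ := (Set.ne_univ_iff_exists_notMem _).1 huniv
  let r : ZMod p → ZMod p → Prop := fun i j => ∃ u v : ↥(SubMulAction.ofStabilizer G α),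
    (u : Ω) = e i ∧ (v : Ω) = e j ∧ ∃ k : MulAction.stabilizer G α, k • u ∈ B ∧ k • v ∈ B
  have hblock : ∀ (k l : MulAction.stabilizer G α) (u : ↥(SubMulAction.ofStabilizer G α)), k • u ∈ B → l • u ∈ B →
      ∀ v, k • v ∈ B → l • v ∈ B := by
    intro k l u hku hlu v hkv
    have hne : ((k⁻¹ • B) ∩ (l⁻¹ • B)).Nonempty :=
      ⟨u, Set.mem_inv_smul_set_iff.2 hku, Set.mem_inv_smul_set_iff.2 hlu⟩
    have heq := hB.smul_eq_smul_of_nonempty hne
    exact Set.mem_inv_smul_set_iff.1 (heq ▸ Set.mem_inv_smul_set_iff.2 hkv)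
  have hnz : ∀ (u : ↥(SubMulAction.ofStabilizer G α)) i, (u : Ω) = e i → i ≠ 0 := fun u i hu h =>
    (SubMulAction.mem_ofStabilizer_iff G α).1 u.2 (by rw [hu, h, hα])
  have hlift : ∀ i : ZMod p, i ≠ 0 → ∃ u : ↥(SubMulAction.ofStabilizer G α), (u : Ω) = e i := fun i hi =>
    ⟨⟨e i, (SubMulAction.mem_ofStabilizer_iff G α).2 fun h => hi (e.injective (h.trans hα.symm))⟩, rfl⟩
  refine Cfsg.Lib.Perm.PrimeHalf.no_blocks hp7 H h2' hHt hHm horb r ?_ ?_ ?_ ?_ ?_
  · rintro i j ⟨u, v, hu, hv, k, h1, h1'⟩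
    exact ⟨v, u, hv, hu, k, h1', h1⟩
  · rintro i j l ⟨u, v, hu, hv, k, hku, hkv⟩ ⟨v', w, hv', hw, k', hk'v, hk'w⟩
    obtain rfl : v' = v := Subtype.ext (hv'.trans hv.symm)
    exact ⟨u, w, hu, hw, k', hblock k k' v' hkv hk'v u hku, hk'w⟩
  · rintro g' hg' hg0 i j ⟨u, v, hu, hv, k, hku, hkv⟩
    obtain ⟨g, hg⟩ := hof g' hg'
    let g1 : MulAction.stabilizer G α := ⟨g, by rw [MulAction.mem_stabilizer_iff, ← hα, hg, hg0]⟩
    refine ⟨g1 • u, g1 • v, ?_, ?_, k * g1⁻¹, by simpa [mul_smul] using hku, by simpa [mul_smul] using hkv⟩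
    · show g • (u : Ω) = _; rw [hu, hg]
    · show g • (v : Ω) = _; rw [hv, hg]
  · intro i hi
    obtain ⟨u, hu⟩ := hlift i hi
    obtain ⟨k, hk⟩ := MulAction.exists_smul_eq ↥(MulAction.stabilizer G α) u x1
    refine ⟨e.symm ((k⁻¹ • y1 : ↥(SubMulAction.ofStabilizer G α)) : Ω), ?_, ?_, u, k⁻¹ • y1, hu, (e.apply_symm_apply _).symm, k,
      hk.symm ▸ hx1, by rwa [smul_inv_smul]⟩
    · exact hnz _ _ (e.apply_symm_apply _).symm
    · intro h
      have h' : u = k⁻¹ • y1 := Subtype.ext (by rw [hu, ← h, e.apply_symm_apply])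
      exact hxy (by rw [← hk, h', smul_inv_smul])
  · intro i hi
    obtain ⟨u, hu⟩ := hlift i hi
    obtain ⟨k, hk⟩ := MulAction.exists_smul_eq ↥(MulAction.stabilizer G α) u x1
    have hku : k • u ∈ B := hk.symm ▸ hx1
    refine ⟨e.symm ((k⁻¹ • w1 : ↥(SubMulAction.ofStabilizer G α)) : Ω), hnz _ _ (e.apply_symm_apply _).symm, ?_, ?_⟩
    · intro h
      have h' : u = k⁻¹ • w1 := Subtype.ext (by rw [hu, ← h, e.apply_symm_apply])
      exact hw1 (by rw [← smul_inv_smul k w1, ← h']; exact hku)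
    · rintro ⟨u', v', hu', hv', k', h1, h1'⟩
      obtain rfl : u' = u := Subtype.ext (hu'.trans hu.symm)
      obtain rfl : v' = k⁻¹ • w1 := Subtype.ext (hv'.trans (e.apply_symm_apply _))
      have := hblock k' k u' h1 hku _ h1'
      rw [smul_inv_smul] at this
      exact hw1 this

end Cfsg.Agent.S3612
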