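import Cfsg.Statements.S3613
import Cfsg.Agent.Lib.Perm.PrimeTwin

set_option autoImplicit false
open Cfsg

namespace Cfsg.Agent.S3613

/-- Let G be an insoluble group acting faithfully and transitively on a finite set of prime size p, and suppose the normalizer of a Sylow p-subgroup of G has order p(p-1)/2. If p = q + 2 for a prime q > 5, then G is 5-fold transitive. -/
theorem result {G Ω : Type*} [Group G] [Finite G] [MulAction G Ω] [FaithfulSMul G Ω] [Finite Ω]
    (p : ℕ) (hp : p.Prime) (hΩ : Nat.card Ω = p) (htrans : MulAction.IsPretransitive G Ω)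
    (hins : ¬ Group.IsSolvable G) (P : Sylow p G)
    (hN : 2 * Nat.card ↥(Subgroup.normalizer ((P : Subgroup G) : Set G)) = p * (p - 1))
    (q : ℕ) (hq : q.Prime) (hq5 : 5 < q) (hpq : p = q + 2) :
    MulAction.IsMultiplyPretransitive G Ω 5 := by
  classical
  haveI := Fact.mk hp
  haveI := Fact.mk hq
  haveI := Fintype.ofFinite Ω
  haveI := htrans
  let φ := MulAction.toPermHom G Ω
  have hinj : Function.Injective φ := MulAction.toPerm_injective
  set Γ := φ.range with hΓ
  let ε : G ≃* Γ := MonoidHom.ofInjective hinj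
  haveI : MulAction.IsPretransitive Γ Ω := ⟨fun x y => by
    obtain ⟨g, hg⟩ := MulAction.exists_smul_eq G x y
    exact ⟨ε g, hg⟩⟩
  have hΓns : ¬ Group.IsSolvable Γ := fun hs => hins (by
    haveI := hs
    exact Group.isSolvable_of_isSolvable_injective (f := ε.toMonoidHom) ε.injective)
  let P' : Sylow p Γ := P.mapSurjective (f := ε.toMonoidHom) ε.surjective
  have hN' : 2 * Nat.card (Subgroup.normalizer ((P' : Subgroup Γ) : Set Γ)) = p * (p - 1) := by
    have h1 : Subgroup.normalizer ((P' : Subgroup Γ) : Set Γ) =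
        (Subgroup.normalizer ((P : Subgroup G) : Set G)).map ε.toMonoidHom := by
      rw [Subgroup.map_equiv_normalizer_eq (P : Subgroup G) ε]; rfl
    rw [h1, Subgroup.card_map_of_injective (f := ε.toMonoidHom) ε.injective]
    exact hN
  have hcard : Fintype.card Ω = p := by rw [← Nat.card_eq_fintype_card]; exact hΩ
  refine ⟨fun x y => ?_⟩
  obtain ⟨_, ⟨g, rfl⟩, hgi⟩ := Cfsg.Lib.Perm.PrimeTwin.five_transitive hcard Γ hΓns P' hN' hq5 hpq x y
  exact ⟨g, Function.Embedding.ext fun i => hgi i⟩

end Cfsg.Agent.S3613
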