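import Cfsg.Statements.S3614
import Cfsg.Agent.Lib.Perm.PrimeTwin
import Cfsg.Agent.Lib.Perm.WittAlternating

set_option autoImplicit false
open Cfsg

namespace Cfsg.Agent.S3614

/-- Let G be an insoluble group acting faithfully and transitively on a finite set of prime size p, and suppose the normalizer of a Sylow p-subgroup of G has order p(p-1)/2. If p = q + 2 = 2r + 3 > 9 or p = q + 2 = 3r + 4 > 13 with q and r prime, then G is isomorphic to the alternating group of degree p. -/
theorem result {G Ω : Type*} [Group G] [Finite G] [MulAction G Ω] [FaithfulSMul G Ω] [Finite Ω]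
    (p : ℕ) (hp : p.Prime) (hΩ : Nat.card Ω = p) (htrans : MulAction.IsPretransitive G Ω)
    (hins : ¬ Group.IsSolvable G) (P : Sylow p G)
    (hN : 2 * Nat.card ↥(Subgroup.normalizer ((P : Subgroup G) : Set G)) = p * (p - 1))
    (q r : ℕ) (hq : q.Prime) (hr : r.Prime)
    (hcases : (p = q + 2 ∧ p = 2 * r + 3 ∧ 9 < p) ∨ (p = q + 2 ∧ p = 3 * r + 4 ∧ 13 < p)) :
    Nonempty (G ≃* alternatingGroup (Fin p)) := by
  classical
  haveI := Fact.mk hp
  haveI := Fact.mk hq
  haveI := Fintype.ofFinite Ω
  haveI := htrans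
  have hpq : p = q + 2 := hcases.elim (fun h => h.1) (fun h => h.1)
  have hq5 : 5 < q := by omega
  let φ := MulAction.toPermHom G Ω
  have hinj : Function.Injective φ := MulAction.toPerm_injective
  set Γ := φ.range with hΓ
  let ε : G ≃* Γ := MonoidHom.ofInjective hinj
  haveI : MulAction.IsPretransitive Γ Ω := ⟨fun x y => by
    obtain ⟨g, hg⟩ := MulAction.exists_smul_eq G x y
    exact ⟨ε g, hg⟩⟩
  have hΓns : ¬ Group.IsSolvable Γ := fun hs => hins (by
    haveI := hs
    exact Group.isSolvable_of_isSolvable_injective (f := ε.toMonoidHom) ε.injective)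
  let P' : Sylow p Γ := P.mapSurjective (f := ε.toMonoidHom) ε.surjective
  have hN' : 2 * Nat.card (Subgroup.normalizer ((P' : Subgroup Γ) : Set Γ)) = p * (p - 1) := by
    have h1 : Subgroup.normalizer ((P' : Subgroup Γ) : Set Γ) =
        (Subgroup.normalizer ((P : Subgroup G) : Set G)).map ε.toMonoidHom := by
      rw [Subgroup.map_equiv_normalizer_eq (P : Subgroup G) ε]; rfl
    rw [h1, Subgroup.card_map_of_injective (f := ε.toMonoidHom) ε.injective]
    exact hN
  have hcard : Fintype.card Ω = p := by rw [← Nat.card_eq_fintype_card]; exact hΩ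
  have h5 := Cfsg.Lib.Perm.PrimeTwin.five_transitive hcard Γ hΓns P' hN' hq5 hpq
  have hprim : MulAction.IsPreprimitive Γ Ω := MulAction.IsPreprimitive.of_prime_card (by rw [hΩ]; exact hp)
  have hA : alternatingGroup Ω ≤ Γ := by
    rcases hcases with ⟨-, h, h'⟩ | ⟨-, h, h'⟩
    · refine Cfsg.Lib.Perm.WittAlt.alternating_le Γ hprim h5 hr ?_ (Or.inl ⟨rfl, rfl⟩) (by rw [hcard, h]; ring)
      by_contra hlt
      have h4 : r ≤ 4 := by omega
      interval_cases r <;> first | omega | (norm_num at hr; done)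
    · refine Cfsg.Lib.Perm.WittAlt.alternating_le Γ hprim h5 hr ?_ (Or.inr ⟨rfl, rfl⟩) (by rw [hcard, h]; ring)
      by_contra hlt
      have h4 : r ≤ 4 := by omega
      interval_cases r <;> first | omega | (norm_num at hr; done)
  haveI : Nontrivial Ω := Fintype.one_lt_card_iff_nontrivial.1 (by rw [hcard]; exact hp.one_lt)
  have hΓA : Γ = alternatingGroup Ω := by
    have h1 : Γ.index ∣ 2 := alternatingGroup.index_eq_two (α := Ω) ▸ Subgroup.index_dvd_of_le hA
    rcases (Nat.dvd_prime Nat.prime_two).1 h1 with h | h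
    · exact absurd (Subgroup.index_eq_one.1 h) (Cfsg.Lib.Perm.PrimeTwin.ne_top hcard Γ P' hN')
    · exact Equiv.Perm.eq_alternatingGroup_of_index_eq_two h
  exact ⟨(ε.trans (MulEquiv.subgroupCongr hΓA)).trans (Fintype.equivFinOfCardEq hcard).altCongrHom⟩

end Cfsg.Agent.S3614
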