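import Cfsg.Statements.S3616
import Cfsg.Agent.Lib.Perm.ProjectiveOvergroup
import Cfsg.Agent.Lib.Linear.PSLSmall
import Cfsg.Agent.Lib.Dickson.Involutions

set_option autoImplicit false
open Cfsg

namespace Cfsg.Agent.S3616

/-- Let p > 7 be prime and let X be a finite group acting faithfully on a set of p + 1 points by even permutations. Suppose X has a proper subgroup isomorphic to PSL(2, p) that acts doubly transitively on the set (such an action is necessarily the natural one on the projective line). Then X is 4-fold transitive. -/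
theorem result {X Ω : Type*} [Group X] [Finite X] [MulAction X Ω] [FaithfulSMul X Ω] [Fintype Ω] [DecidableEq Ω]
    (p : ℕ) (hp : p.Prime) (hp7 : 7 < p) (hΩ : Fintype.card Ω = p + 1)
    (heven : ∀ x : X, Equiv.Perm.sign (MulAction.toPerm x : Equiv.Perm Ω) = 1)
    (L : Subgroup X) (hL : Nonempty (↥L ≃* Matrix.ProjectiveSpecialLinearGroup (Fin 2) (ZMod p)))
    (hLt : MulAction.IsMultiplyPretransitive ↥L Ω 2) (hLX : L ≠ ⊤) :
    MulAction.IsMultiplyPretransitive X Ω 4 := by
  classical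
  haveI := Fact.mk hp
  obtain ⟨ι⟩ := hL
  let φ := MulAction.toPermHom X Ω
  have hinj : Function.Injective φ := MulAction.toPerm_injective
  have hφL : Function.Injective (φ.comp L.subtype) := hinj.comp L.subtype_injective
  have hcard : 2 * Nat.card (L.map φ) = (p + 1) * (p * (p - 1)) := by
    rw [Subgroup.card_map_of_injective (f := φ) hinj, Nat.card_congr ι.toEquiv]
    have h := Cfsg.Lib.Linear.Two.card_PSL_two (F := ZMod p)
    have hodd : p % 2 = 1 := hp.eq_two_or_odd.resolve_left (by omega)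
    rw [ZMod.card, Nat.gcd_eq_left (by omega : 2 ∣ p - 1)] at h
    rw [h, show p ^ 2 - 1 = (p + 1) * (p - 1) by simpa using Nat.sq_sub_sq p 1]
    ring
  have key := Cfsg.Lib.Perm.ProjOver.four_transitive (p := p) hΩ hp7 φ.range
    (by rintro _ ⟨x, rfl⟩; exact heven x) (L.map φ) (Subgroup.map_le_range φ L) (fun h => hLX ?_) hcard ?_ ?_
  · refine ⟨fun x y => ?_⟩
    obtain ⟨_, ⟨g, rfl⟩, hgi⟩ := key x y
    exact ⟨g, Function.Embedding.ext fun i => hgi i⟩
  · refine eq_top_iff.2 fun x _ => ?_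
    obtain ⟨l, hl, he⟩ : φ x ∈ L.map φ := h ▸ ⟨x, rfl⟩
    exact hinj he ▸ hl
  · intro x y x' y' hxy hxy'
    obtain ⟨g, h1, h1'⟩ := (MulAction.is_two_pretransitive_iff.mp hLt) hxy hxy'
    exact ⟨φ g.1, Subgroup.mem_map_of_mem φ g.2, h1, h1'⟩
  · rintro hp4 _ ⟨w, hw, rfl⟩ hww hw1 _ ⟨c, hc, rfl⟩ hcw hcpow
    have hw2 : (ι ⟨w, hw⟩) ^ 2 = 1 := by
      rw [← map_pow, show (⟨w, hw⟩ : L) ^ 2 = 1 from Subtype.ext (hinj (by
        rw [OneMemClass.coe_one, map_one, SubmonoidClass.coe_pow, map_pow, pow_two]; exact hww)), map_one]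
    have hw0 : ι ⟨w, hw⟩ ≠ 1 := fun h => hw1 (by
      have := congrArg Subtype.val (ι.injective (h.trans (map_one ι).symm))
      simp only [OneMemClass.coe_one] at this
      rw [this, map_one])
    have hF : Fintype.card (ZMod p) = p := ZMod.card p
    have hcent := (Cfsg.Lib.Dickson.card_centralizer_involution (F := ZMod p) (by rw [hF]; omega) (by rw [hF]; omega)
      hw2 hw0).2 (by rw [hF]; exact hp4)
    rw [hF] at hcent
    have hmem : ι ⟨c, hc⟩ ∈ Subgroup.centralizer ({ι ⟨w, hw⟩} : Set (Matrix.ProjectiveSpecialLinearGroup (Fin 2) (ZMod p))) := by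
      rw [Subgroup.mem_centralizer_singleton_iff, ← map_mul, ← map_mul]
      exact congrArg ι (Subtype.ext (hinj (by simpa using hcw)))
    have h1 := Subgroup.orderOf_dvd_natCard _ hmem
    rw [hcent] at h1
    have h2 : orderOf (ι ⟨c, hc⟩) ∣ (p - 1) / 2 := by
      refine orderOf_dvd_of_pow_eq_one ?_
      rw [← map_pow, show (⟨c, hc⟩ : L) ^ ((p - 1) / 2) = 1 from Subtype.ext (hinj (by
        rw [OneMemClass.coe_one, map_one, SubmonoidClass.coe_pow, map_pow]; exact hcpow)), map_one]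
    have hodd : Odd ((p - 1) / 2) := ⟨(p - 1) / 4, by omega⟩
    have h3 : orderOf (ι ⟨c, hc⟩) ∣ 2 := by
      have h4 := Nat.dvd_sub h1 (h2.mul_left 2)
      rwa [show p + 1 - 2 * ((p - 1) / 2) = 2 by omega] at h4
    have h5 : orderOf (ι ⟨c, hc⟩) = 1 := by
      rcases (Nat.dvd_prime Nat.prime_two).1 h3 with h | h
      · exact h
      · exact absurd (hodd.of_dvd_nat (h ▸ h2)) (by decide)
    have h6 : (⟨c, hc⟩ : L) = 1 := ι.injective ((orderOf_eq_one_iff.1 h5).trans (map_one ι).symm)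
    have h7 : c = 1 := congrArg Subtype.val h6
    rw [h7, map_one]

end Cfsg.Agent.S3616
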