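import Cfsg.Statements.S3627
import Cfsg.Agent.Lib.J1.Spectrum

set_option autoImplicit false
open Cfsg

namespace Cfsg.Agent.S3627

open Cfsg.Lib.J1

/-- The parity of an element of the dihedral group of order ten. -/
def par : DihedralGroup 5 →* Multiplicative (ZMod 2) where
  toFun
    | .r _ => 1
    | .sr _ => Multiplicative.ofAdd 1
  map_one' := rfl
  map_mul' := by decide

/-- The tuples of dihedral elements of equal parity. -/
def K (N : ℕ) : Subgroup (Fin (N + 1) → DihedralGroup 5) where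
  carrier := {f | ∀ i, par (f i) = par (f 0)}
  mul_mem' {a b} ha hb i := by simp [ha i, hb i]
  one_mem' i := rfl
  inv_mem' {a} ha i := by simp [ha i]

/-- The seven orders of the solvable factor. -/
def S : List ℕ := [1, 2, 3, 5, 6, 10, 15]

theorem card_K (N : ℕ) : N < Nat.card (K N) := by
  have hinj : Function.Injective (fun v : Fin (N + 1) → ZMod 5 =>
      (⟨fun i => DihedralGroup.r (v i), fun i => rfl⟩ : K N)) := by
    intro v w h
    funext i
    exact DihedralGroup.r.inj (congrFun (Subtype.ext_iff.mp h) i)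
  have h := Nat.card_le_card_of_injective _ hinj
  rw [Nat.card_fun, Nat.card_zmod, Nat.card_fin] at h
  exact lt_of_lt_of_le ((Nat.lt_pow_self (by norm_num : 1 < 5)).trans_le
    (Nat.pow_le_pow_right (by norm_num) (Nat.le_succ N))) h

theorem orderOf_K {N : ℕ} (f : K N) : orderOf f ∈ ([1, 2, 5] : List ℕ) := by
  have h : f ^ 2 = 1 ∨ f ^ 5 = 1 := by
    by_cases hc : par ((f : Fin (N + 1) → DihedralGroup 5) 0) = 1
    · right
      refine Subtype.ext (funext fun i => ?_)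
      have key : ∀ d, par d = 1 → d ^ 5 = 1 := by decide
      simpa using key _ ((f.2 i).trans hc)
    · left
      refine Subtype.ext (funext fun i => ?_)
      have key : ∀ d, par d ≠ 1 → d ^ 2 = 1 := by decide
      simpa using key _ (fun h => hc ((f.2 i).symm.trans h))
  rcases h with h | h <;> have hd := orderOf_dvd_of_pow_eq_one h
  · rcases (Nat.dvd_prime Nat.prime_two).mp hd with e | e <;> simp [e]
  · rcases (Nat.dvd_prime Nat.prime_five).mp hd with e | e <;> simp [e]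

theorem exists_K {N : ℕ} {n : ℕ} (hn : n ∈ ([1, 2, 5] : List ℕ)) : ∃ f : K N, orderOf f = n := by
  have key : ∀ d : DihedralGroup 5, orderOf (⟨fun _ => d, fun _ => rfl⟩ : K N) = orderOf d := by
    intro d
    rw [← Subgroup.orderOf_coe, orderOf_eq_orderOf_iff]
    exact fun m => ⟨fun h => congrFun h 0, fun h => funext fun _ => h⟩
  simp only [List.mem_cons, List.not_mem_nil, or_false] at hn
  rcases hn with rfl | rfl | rfl
  · exact ⟨1, orderOf_one⟩
  · exact ⟨⟨fun _ => DihedralGroup.sr 0, fun _ => rfl⟩, (key _).trans (DihedralGroup.orderOf_sr 0)⟩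
  · exact ⟨⟨fun _ => DihedralGroup.r 1, fun _ => rfl⟩, (key _).trans DihedralGroup.orderOf_r_one⟩

theorem orderOf_perm (σ : Equiv.Perm (Fin 3)) : orderOf σ ∈ ([1, 2, 3] : List ℕ) := by
  have key : ∀ σ : Equiv.Perm (Fin 3), σ ^ 2 = 1 ∨ σ ^ 3 = 1 := by decide
  rcases key σ with h | h <;> have hd := orderOf_dvd_of_pow_eq_one h
  · rcases (Nat.dvd_prime Nat.prime_two).mp hd with e | e <;> simp [e]
  · rcases (Nat.dvd_prime Nat.prime_three).mp hd with e | e <;> simp [e]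

theorem exists_perm {n : ℕ} (hn : n ∈ ([1, 2, 3] : List ℕ)) :
    ∃ σ : Equiv.Perm (Fin 3), orderOf σ = n := by
  simp only [List.mem_cons, List.not_mem_nil, or_false] at hn
  rcases hn with rfl | rfl | rfl
  · exact ⟨1, orderOf_one⟩
  · exact ⟨Equiv.swap 0 1, orderOf_eq_prime (by decide) (by decide)⟩
  · exact ⟨Equiv.swap 0 1 * Equiv.swap 1 2, orderOf_eq_prime (by decide) (by decide)⟩

theorem exists_X {N : ℕ} {n : ℕ} : (∃ x : K N × Equiv.Perm (Fin 3), orderOf x = n) ↔ n ∈ S := by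
  constructor
  · rintro ⟨⟨f, σ⟩, rfl⟩
    rw [Prod.orderOf_mk]
    have key : ∀ a ∈ ([1, 2, 5] : List ℕ), ∀ b ∈ ([1, 2, 3] : List ℕ), Nat.lcm a b ∈ S := by decide
    exact key _ (orderOf_K f) _ (orderOf_perm σ)
  · intro hn
    have key : ∀ m ∈ S, ∃ a ∈ ([1, 2, 5] : List ℕ), ∃ b ∈ ([1, 2, 3] : List ℕ), Nat.lcm a b = m := by
      decide
    obtain ⟨a, ha, b, hb, rfl⟩ := key n hn
    obtain ⟨f, rfl⟩ := exists_K (N := N) ha
    obtain ⟨σ, rfl⟩ := exists_perm hb
    exact ⟨(f, σ), Prod.orderOf_mk⟩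

theorem range_J1 {n : ℕ} : (∃ g : Spor.J1, orderOf g = n) ↔ n ∈ ordList := exists_orderOf_iff

theorem four_to_three {a b c d : ℕ} (ha : a ∈ ordList) (hb : b ∈ ordList) (hc : c ∈ ordList)
    (hd : d ∈ ordList) : ∃ a' ∈ ordList, ∃ b' ∈ ordList, ∃ c' ∈ ordList, ∃ x ∈ S,
      Nat.lcm a' (Nat.lcm b' (Nat.lcm c' x)) = Nat.lcm a (Nat.lcm b (Nat.lcm c d)) := by
  have h1 : 1 ∈ S := by decide
  by_cases h : d ∈ S
  · exact ⟨a, ha, b, hb, c, hc, d, h, rfl⟩
  by_cases h' : c ∈ S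
  · exact ⟨a, ha, b, hb, d, hd, c, h', by rw [Nat.lcm_comm d c]⟩
  by_cases h'' : b ∈ S
  · exact ⟨a, ha, c, hc, d, hd, b, h'', by ac_rfl⟩
  by_cases h3 : a ∈ S
  · exact ⟨b, hb, c, hc, d, hd, a, h3, by ac_rfl⟩
  have big : ∀ m ∈ ordList, m ∉ S → m = 7 ∨ m = 11 ∨ m = 19 := by decide
  have key : a = b ∨ a = c ∨ a = d ∨ b = c ∨ b = d ∨ c = d := by
    have := big a ha h3; have := big b hb h''; have := big c hc h'; have := big d hd h; omega
  rcases key with rfl | rfl | rfl | rfl | rfl | rfl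
  · exact ⟨a, ha, c, hc, d, hd, 1, h1, by simp [← Nat.lcm_assoc, Nat.lcm_self]⟩
  · exact ⟨a, ha, b, hb, d, hd, 1, h1, by simp [← Nat.lcm_assoc, Nat.lcm_comm _ b, Nat.lcm_self]⟩
  · exact ⟨a, ha, b, hb, c, hc, 1, h1, by
      rw [Nat.lcm_one_right, show Nat.lcm a (Nat.lcm b (Nat.lcm c a)) =
        Nat.lcm (Nat.lcm a a) (Nat.lcm b c) by ac_rfl, Nat.lcm_self]⟩
  · exact ⟨a, ha, b, hb, d, hd, 1, h1, by simp [← Nat.lcm_assoc, Nat.lcm_self]⟩
  · exact ⟨a, ha, b, hb, c, hc, 1, h1, by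
      rw [Nat.lcm_one_right, show Nat.lcm b (Nat.lcm c b) = Nat.lcm (Nat.lcm b b) c by ac_rfl,
        Nat.lcm_self]⟩
  · exact ⟨a, ha, b, hb, c, hc, 1, h1, by rw [Nat.lcm_one_right, Nat.lcm_self]⟩

/-- Let J be the first Janko group. Then there are finite groups of arbitrarily large order with exactly the same set of element orders as J × J × J × J. -/
theorem result (N : ℕ) : ∃ (H : Type) (_ : Group H) (_ : Fintype H), N < Fintype.card H ∧
      Set.range (orderOf : H → ℕ) = Set.range (orderOf : ↥Cfsg.Spor.J1 × ↥Cfsg.Spor.J1 × ↥Cfsg.Spor.J1 × ↥Cfsg.Spor.J1 → ℕ) := by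
  refine ⟨Spor.J1 × Spor.J1 × Spor.J1 × (K N × Equiv.Perm (Fin 3)), inferInstance,
    Fintype.ofFinite _, ?_, ?_⟩
  · rw [Fintype.card_eq_nat_card]
    refine (card_K N).trans_le (Nat.card_le_card_of_injective
      (fun f : K N => ((1 : Spor.J1), (1 : Spor.J1), (1 : Spor.J1), f, (1 : Equiv.Perm (Fin 3)))) ?_)
    intro f f' h
    simpa using h
  · ext n
    simp only [Set.mem_range]
    constructor
    · rintro ⟨⟨a, b, c, x⟩, rfl⟩
      obtain ⟨d, hd⟩ := range_J1.mpr ((by decide : ∀ m ∈ S, m ∈ ordList) _ (exists_X.mp ⟨x, rfl⟩))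
      exact ⟨(a, b, c, d), by simp [Prod.orderOf_mk, hd]⟩
    · rintro ⟨⟨a, b, c, d⟩, rfl⟩
      obtain ⟨a', ha, b', hb, c', hc, x, hx, h⟩ := four_to_three (range_J1.mp ⟨a, rfl⟩)
        (range_J1.mp ⟨b, rfl⟩) (range_J1.mp ⟨c, rfl⟩) (range_J1.mp ⟨d, rfl⟩)
      obtain ⟨ga, rfl⟩ := range_J1.mpr ha
      obtain ⟨gb, rfl⟩ := range_J1.mpr hb
      obtain ⟨gc, rfl⟩ := range_J1.mpr hc
      obtain ⟨gx, rfl⟩ := (exists_X (N := N)).mpr hx
      exact ⟨(ga, gb, gc, gx), by simpa [Prod.orderOf_mk] using h⟩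

end Cfsg.Agent.S3627
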