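import Cfsg.Statements.S3633
import Cfsg.Agent.Lib.Solv.ThreePrimes
import Cfsg.Agent.Lib.Core.Fitting

set_option autoImplicit false
open Cfsg

namespace Cfsg.Agent.S3633

/-- Let G be a finite group and ρ a set of at least three prime divisors of the order of G that are pairwise non-adjacent in the prime graph (no element of order rs for distinct r, s ∈ ρ). Then at most one prime of ρ divides the order of any given solvable normal subgroup of G; in particular G is not solvable. -/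
theorem result {G : Type*} [Group G] [Finite G] (ρ : Finset ℕ) (hρ : 3 ≤ ρ.card) (hc : ((∀ r ∈ ρ, r.Prime ∧ r ∣ Nat.card G) ∧ (∀ r ∈ ρ, ∀ s ∈ ρ, r ≠ s → ¬ ∃ x : G, orderOf x = r * s)))
    (K : Subgroup G) [K.Normal] (hK : Group.IsSolvable ↥K) :
    (∀ r ∈ ρ, ∀ s ∈ ρ, r ∣ Nat.card ↥K → s ∣ Nat.card ↥K → r = s) ∧ ¬ Group.IsSolvable G := by
  classical
  obtain ⟨hd, hn⟩ := hc
  have key : ∀ (X : Subgroup G), Group.IsSolvable X → ∀ a ∈ ρ, ∀ b ∈ ρ, ∀ c ∈ ρ,
      a ≠ b → a ≠ c → b ≠ c → a ∣ Nat.card X → b ∣ Nat.card X → c ∣ Nat.card X → False := by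
    intro X hX a ha b hb c hc hab hac hbc haX hbX hcX
    haveI := hX
    obtain ⟨x, hx⟩ := Cfsg.Lib.Solv.three_primes (G := X) (hd a ha).1 (hd b hb).1 (hd c hc).1
      hab hac hbc haX hbX hcX
    rcases hx with hx | hx | hx
    · exact hn a ha b hb hab ⟨x, by rw [Subgroup.orderOf_coe, hx]⟩
    · exact hn a ha c hc hac ⟨x, by rw [Subgroup.orderOf_coe, hx]⟩
    · exact hn b hb c hc hbc ⟨x, by rw [Subgroup.orderOf_coe, hx]⟩
  refine ⟨fun r hr s hs hrK hsK => ?_, fun hG => ?_⟩
  · by_contra hrs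
    have h2 : ({r, s} : Finset ℕ).card < ρ.card :=
      lt_of_le_of_lt Finset.card_le_two (by omega)
    obtain ⟨t, ht, ht'⟩ := Finset.exists_mem_notMem_of_card_lt_card h2
    simp only [Finset.mem_insert, Finset.mem_singleton, not_or] at ht'
    haveI := Fact.mk (hd t ht).1
    obtain ⟨y, hy⟩ := exists_prime_orderOf_dvd_card' t (hd t ht).2
    set Z : Subgroup G := Subgroup.zpowers y with hZ
    have hX : Group.IsSolvable ↥(K ⊔ Z) := by
      haveI : Group.IsSolvable (K.subgroupOf (K ⊔ Z)) :=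
        Group.isSolvable_of_isSolvable_injective
          (f := (Subgroup.subgroupOfEquivOfLe (le_sup_left : K ≤ K ⊔ Z)).toMonoidHom)
          (MulEquiv.injective _)
      haveI : Group.IsSolvable (↥(K ⊔ Z) ⧸ K.subgroupOf (K ⊔ Z)) := by
        haveI := Cfsg.Lib.Core.isSolvable_of_isMulCommutative Z
        refine Group.isSolvable_of_surjective
          (f := (QuotientGroup.mk' (K.subgroupOf (K ⊔ Z))).comp (Subgroup.inclusion le_sup_right)) ?_
        intro g
        obtain ⟨g, rfl⟩ := QuotientGroup.mk_surjective g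
        obtain ⟨k, hk, z, hz, hkz⟩ := Subgroup.mem_sup_of_normal_left.mp g.2
        refine ⟨⟨z, hz⟩, QuotientGroup.eq.mpr ?_⟩
        rw [Subgroup.mem_subgroupOf]
        show z⁻¹ * (g : G) ∈ K
        rw [← hkz]
        simpa [mul_assoc] using Subgroup.Normal.conj_mem ‹K.Normal› k hk z⁻¹
      exact (Group.isSolvable_iff_subgroup_quotient (K.subgroupOf (K ⊔ Z))).2 ⟨‹_›, ‹_›⟩
    refine key (K ⊔ Z) hX r hr s hs t ht hrs (Ne.symm ht'.1) (Ne.symm ht'.2)
      (hrK.trans (Subgroup.card_dvd_of_le le_sup_left))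
      (hsK.trans (Subgroup.card_dvd_of_le le_sup_left)) ?_
    rw [← hy, ← Nat.card_zpowers]
    exact Subgroup.card_dvd_of_le le_sup_right
  · obtain ⟨a, b, c, ha, hb, hc, hab, hac, hbc⟩ := Finset.two_lt_card_iff.mp (by omega : 2 < ρ.card)
    have e : ∀ p ∈ ρ, p ∣ Nat.card (⊤ : Subgroup G) := fun p hp => by
      rw [Subgroup.card_top]; exact (hd p hp).2
    haveI := hG
    exact key ⊤ inferInstance a ha b hb c hc hab hac hbc (e a ha) (e b hb) (e c hc)

end Cfsg.Agent.S3633
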