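import Cfsg.Statements.S3634
import Cfsg.Agent.Lib.Solv.ThreePrimes

set_option autoImplicit false
open Cfsg

namespace Cfsg.Agent.S3634

/-- Let G be a finite group with normal subgroups K ≤ M, and let p, q, r be distinct primes with p dividing the order of K, q dividing the order of M/K and r dividing the order of G/M. Then p, q, r are not pairwise non-adjacent in the prime graph of G: G has an element of order pq, pr or qr. -/
theorem result {G : Type*} [Group G] [Finite G] (K M : Subgroup G) [K.Normal] [M.Normal] (hKM : K ≤ M)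
    (p q r : ℕ) (hp : p.Prime) (hq : q.Prime) (hr : r.Prime) (hpq : p ≠ q) (hpr : p ≠ r) (hqr : q ≠ r)
    (hpK : p ∣ Nat.card ↥K) (hqM : q ∣ Nat.card ↥M / Nat.card ↥K) (hrG : r ∣ Nat.card G / Nat.card ↥M) :
    (∃ x : G, orderOf x = p * q) ∨ (∃ x : G, orderOf x = p * r) ∨ (∃ x : G, orderOf x = q * r) := by
  classical
  by_contra hno
  push Not at hno
  haveI := Fact.mk hp
  haveI := Fact.mk hq
  haveI := Fact.mk hr
  obtain ⟨P⟩ : Nonempty (Sylow p K) := inferInstance
  set P' : Subgroup G := (P : Subgroup K).map K.subtype with hP'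
  set N : Subgroup G := Subgroup.normalizer (P' : Set G) with hN
  have hfr : N ⊔ K = ⊤ := Sylow.normalizer_sup_eq_top P
  have hP'N : P' ≤ N := Subgroup.le_normalizer
  -- `N` covers `G / M`
  have hcov : ∀ g : G, ∃ n ∈ N, ∃ k ∈ K, n * k = g := fun g => by
    have hg : g ∈ N ⊔ K := hfr ▸ Subgroup.mem_top g
    exact Subgroup.mem_sup_of_normal_right.mp hg
  set M' : Subgroup N := M.subgroupOf N with hM'
  have hqM' : q ∣ Nat.card M' := by
    let f : M' →* M ⧸ K.subgroupOf M := (QuotientGroup.mk' (K.subgroupOf M)).comp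
      { toFun := fun x => ⟨((x : N) : G), x.2⟩
        map_one' := rfl
        map_mul' := fun _ _ => rfl }
    have hsurj : Function.Surjective f := by
      intro m
      obtain ⟨m, rfl⟩ := QuotientGroup.mk_surjective m
      obtain ⟨n, hn, k, hk, hnk⟩ := hcov m
      have hnM : n ∈ M := by
        rw [show n = (m : G) * k⁻¹ by rw [← hnk, mul_inv_cancel_right]]
        exact M.mul_mem m.2 (M.inv_mem (hKM hk))
      refine ⟨⟨⟨n, hn⟩, hnM⟩, ?_⟩
      refine QuotientGroup.eq.mpr ?_
      rw [Subgroup.mem_subgroupOf]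
      simpa [← hnk] using hk
    refine dvd_trans ?_ (Subgroup.card_dvd_of_surjective f hsurj)
    have h1 := Subgroup.card_eq_card_quotient_mul_card_subgroup (K.subgroupOf M)
    rw [Nat.card_congr (Subgroup.subgroupOfEquivOfLe hKM).toEquiv] at h1
    rwa [h1, Nat.mul_div_cancel _ Nat.card_pos] at hqM
  obtain ⟨Q⟩ : Nonempty (Sylow q M') := inferInstance
  set Q' : Subgroup N := (Q : Subgroup M').map M'.subtype with hQ'
  set L : Subgroup N := Subgroup.normalizer (Q' : Set N) with hL
  have hfr2 : L ⊔ M' = ⊤ := Sylow.normalizer_sup_eq_top Q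
  have hrL : r ∣ Nat.card L := by
    let f : L →* G ⧸ M := (QuotientGroup.mk' M).comp (N.subtype.comp L.subtype)
    have hsurj : Function.Surjective f := by
      intro g
      obtain ⟨g, rfl⟩ := QuotientGroup.mk_surjective g
      obtain ⟨n, hn, k, hk, hnk⟩ := hcov g
      have hn2 : (⟨n, hn⟩ : N) ∈ L ⊔ M' := hfr2 ▸ Subgroup.mem_top _
      obtain ⟨l, hl, m, hm, hlm⟩ := Subgroup.mem_sup_of_normal_right.mp hn2
      refine ⟨⟨l, hl⟩, ?_⟩
      refine QuotientGroup.eq.mpr ?_
      have hln : (l : G) * (m : G) = n := congrArg Subtype.val hlm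
      show (l : G)⁻¹ * g ∈ M
      rw [← hnk, ← hln, mul_assoc, inv_mul_cancel_left]
      exact M.mul_mem hm (hKM hk)
    refine dvd_trans ?_ (Subgroup.card_dvd_of_surjective f hsurj)
    have h1 := Subgroup.card_eq_card_quotient_mul_card_subgroup M
    rwa [h1, Nat.mul_div_cancel _ Nat.card_pos] at hrG
  obtain ⟨y, hy⟩ := exists_prime_orderOf_dvd_card' r hrL
  set V : Subgroup N := (((Subgroup.center P').map P'.subtype)).subgroupOf N with hV
  have hVle : (Subgroup.center P').map P'.subtype ≤ N :=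
    (Subgroup.map_subtype_le _).trans hP'N
  haveI : V.Normal := by
    refine ⟨fun v hv n => ?_⟩
    obtain ⟨z, hz, hzv⟩ := Subgroup.mem_subgroupOf.mp hv
    have hn : ∀ {x : G}, x ∈ P' → (n : G) * x * (n : G)⁻¹ ∈ P' :=
      fun {x} hx => (Subgroup.mem_normalizer_iff.mp n.2 x).mp hx
    have hn' : ∀ {x : G}, x ∈ P' → (n : G)⁻¹ * x * n ∈ P' := fun {x} hx => by
      simpa using (Subgroup.mem_normalizer_iff.mp (N.inv_mem n.2) x).mp hx
    refine Subgroup.mem_subgroupOf.mpr ⟨⟨_, hn z.2⟩, ?_, by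
      show (n : G) * z * (n : G)⁻¹ = _
      rw [show (z : G) = v from hzv]
      rfl⟩
    simp only [SetLike.mem_coe, Subgroup.mem_center_iff] at hz ⊢
    intro x
    have h2 := congrArg Subtype.val (hz ⟨_, hn' x.2⟩)
    simp only [Subgroup.coe_mul] at h2
    refine Subtype.ext ?_
    simp only [Subgroup.coe_mul]
    calc (x : G) * ((n : G) * z * (n : G)⁻¹)
        = n * ((n : G)⁻¹ * x * n * z) * (n : G)⁻¹ := by group
      _ = n * ((z : G) * ((n : G)⁻¹ * x * n)) * (n : G)⁻¹ := by rw [h2]
      _ = _ := by group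
  have hP'p : IsPGroup p P' := P.isPGroup'.map _
  have hP'ne : Nontrivial P' := by
    rw [Subgroup.nontrivial_iff_ne_bot, hP', Ne,
      Subgroup.map_eq_bot_iff_of_injective _ K.subtype_injective]
    exact P.ne_bot_of_dvd_card hpK
  haveI := hP'p.center_nontrivial
  have hVeq : V ≃* Subgroup.center P' := (Subgroup.subgroupOfEquivOfLe hVle).trans
    ((Subgroup.center P').equivMapOfInjective _ P'.subtype_injective).symm
  obtain ⟨x, hx⟩ := Cfsg.Lib.Solv.three_primes_aux (G := N) (p := p) (q := q) (r := r) hpq hpr hqr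
    V Q' ((hP'p.to_subgroup _).of_equiv hVeq.symm)
    ⟨⟨fun a b => hVeq.injective (by rw [map_mul, map_mul]; exact Subtype.ext (Subgroup.mem_center_iff.mp (hVeq b).2 _))⟩⟩
    (by
      intro h
      obtain ⟨c, hc⟩ := exists_ne (1 : Subgroup.center P')
      refine hc (hVeq.symm.injective ?_)
      rw [map_one]
      exact Subtype.ext (Subgroup.mem_bot.mp (h ▸ (hVeq.symm c).2)))
    (Q.isPGroup'.map _)
    (by
      rw [hQ', Ne, Subgroup.map_eq_bot_iff_of_injective _ M'.subtype_injective]
      exact Q.ne_bot_of_dvd_card hqM')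
    (y : N) (by rw [Subgroup.orderOf_coe, hy])
    (fun a ha => (Subgroup.mem_normalizer_iff.mp y.2 a).mp ha)
  rcases hx with hx | hx | hx
  · exact hno.1 (x : G) (by rw [Subgroup.orderOf_coe, hx])
  · exact hno.2.1 (x : G) (by rw [Subgroup.orderOf_coe, hx])
  · exact hno.2.2 (x : G) (by rw [Subgroup.orderOf_coe, hx])

end Cfsg.Agent.S3634
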