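import Cfsg.Statements.S3639
-- import your own Cfsg.Agent.* helpers here

set_option autoImplicit false
open Cfsg

namespace Cfsg.Agent.S3639

set_option linter.style.haveILetI false
open Cfsg
open Matrix

variable {F : Type*} [Field F]

/-- the symplectic adjoint -/
def sadj (g : Matrix (Fin 4) (Fin 4) F) : Matrix (Fin 4) (Fin 4) F :=
  Matrix.of fun i j => g (3 - j) (3 - i)

theorem sadj_mul {g : GL (Fin 4) F} (hg : g ∈ Lie.Sp4 F) :
    sadj (g : Matrix (Fin 4) (Fin 4) F) * (g : Matrix (Fin 4) (Fin 4) F) = 1 := by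
  ext i k
  have h := hg (Pi.single (3 - i) 1) (Pi.single k 1)
  simp only [Units.coeHom_apply, Matrix.mulVec_single_one] at h
  fin_cases i <;> fin_cases k <;>
    simp [sadj, Matrix.mul_apply, Fin.sum_univ_four, Lie.altForm4, Matrix.col] at h ⊢ <;>
    linear_combination h

theorem mul_sadj {g : GL (Fin 4) F} (hg : g ∈ Lie.Sp4 F) :
    (g : Matrix (Fin 4) (Fin 4) F) * sadj (g : Matrix (Fin 4) (Fin 4) F) = 1 :=
  mul_eq_one_comm.mp (sadj_mul hg)

/-- 2 × 2 minor -/
def minor (g : Matrix (Fin 4) (Fin 4) F) (k l i j : Fin 4) : F := g k i * g l j - g l i * g k j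

theorem minor_mul (g h : Matrix (Fin 4) (Fin 4) F) (k l i j : Fin 4) :
    minor (g * h) k l i j = minor g k l 0 1 * minor h 0 1 i j + minor g k l 0 2 * minor h 0 2 i j +
      minor g k l 1 3 * minor h 1 3 i j + minor g k l 2 3 * minor h 2 3 i j +
      (minor g k l 0 3 * minor h 0 3 i j + minor g k l 1 2 * minor h 1 2 i j) := by
  simp only [minor, Matrix.mul_apply, Fin.sum_univ_four]
  ring

theorem star4_apply (g : Matrix (Fin 4) (Fin 4) F) (p r : Fin 4) :
    Lie.star4 g p r = minor g (Lie.pairOf p).1 (Lie.pairOf p).2 (Lie.pairOf r).1 (Lie.pairOf r).2 :=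
  rfl

theorem star4_mul [CharP F 2] {g h : GL (Fin 4) F} (hg : g ∈ Lie.Sp4 F) (hh : h ∈ Lie.Sp4 F) :
    Lie.star4 ((g * h : GL (Fin 4) F) : Matrix (Fin 4) (Fin 4) F) =
      Lie.star4 (g : Matrix (Fin 4) (Fin 4) F) * Lie.star4 (h : Matrix (Fin 4) (Fin 4) F) := by
  set A : Matrix (Fin 4) (Fin 4) F := (g : Matrix (Fin 4) (Fin 4) F)
  set B : Matrix (Fin 4) (Fin 4) F := (h : Matrix (Fin 4) (Fin 4) F)
  ext p r
  have hrow : minor A (Lie.pairOf p).1 (Lie.pairOf p).2 0 3 +
      minor A (Lie.pairOf p).1 (Lie.pairOf p).2 1 2 = 0 := by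
    have h1 := congrFun (congrFun (mul_sadj hg) (Lie.pairOf p).1) (3 - (Lie.pairOf p).2)
    have hne : (Lie.pairOf p).1 ≠ 3 - (Lie.pairOf p).2 :=
      (by decide : ∀ p, (Lie.pairOf p).1 ≠ 3 - (Lie.pairOf p).2) p
    rw [Matrix.one_apply_ne hne, Matrix.mul_apply, Fin.sum_univ_four] at h1
    simp only [sadj, Matrix.of_apply, sub_sub_cancel] at h1
    rw [show (3 - 0 : Fin 4) = 3 from rfl, show (3 - 1 : Fin 4) = 2 from rfl,
      show (3 - 2 : Fin 4) = 1 from rfl, show (3 - 3 : Fin 4) = 0 from rfl] at h1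
    simp only [minor, CharTwo.sub_eq_add]
    linear_combination h1
  have hcol : minor B 0 3 (Lie.pairOf r).1 (Lie.pairOf r).2 +
      minor B 1 2 (Lie.pairOf r).1 (Lie.pairOf r).2 = 0 := by
    have h1 := congrFun (congrFun (sadj_mul hh) (3 - (Lie.pairOf r).1)) (Lie.pairOf r).2
    have hne : 3 - (Lie.pairOf r).1 ≠ (Lie.pairOf r).2 :=
      (by decide : ∀ r, 3 - (Lie.pairOf r).1 ≠ (Lie.pairOf r).2) r
    rw [Matrix.one_apply_ne hne, Matrix.mul_apply, Fin.sum_univ_four] at h1
    simp only [sadj, Matrix.of_apply, sub_sub_cancel] at h1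
    rw [show (3 - 0 : Fin 4) = 3 from rfl, show (3 - 1 : Fin 4) = 2 from rfl,
      show (3 - 2 : Fin 4) = 1 from rfl, show (3 - 3 : Fin 4) = 0 from rfl] at h1
    simp only [minor, CharTwo.sub_eq_add]
    linear_combination h1
  rw [Units.val_mul, star4_apply, minor_mul, Matrix.mul_apply, Fin.sum_univ_four]
  simp only [star4_apply]
  rw [CharTwo.add_eq_zero] at hrow hcol
  rw [hrow, hcol, CharTwo.add_self_eq_zero, add_zero]
  rfl

/-- the defining property of the Suzuki group -/
def SzProp (e : ℕ) (g : GL (Fin 4) F) : Prop :=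
  g ∈ Lie.Sp4 F ∧
    Lie.star4 (g : Matrix (Fin 4) (Fin 4) F) = (g : Matrix (Fin 4) (Fin 4) F).map (fun x => x ^ e)

theorem szProp_of_mem [CharP F 2] [Finite F] {m : ℕ} {g : GL (Fin 4) F}
    (hg : g ∈ Lie.Sz F (2 ^ (m + 1))) : SzProp (2 ^ (m + 1)) g := by
  have hθ : (fun x : F => x ^ 2 ^ (m + 1)) = iterateFrobenius F 2 (m + 1) := rfl
  have h1 : SzProp (2 ^ (m + 1)) (1 : GL (Fin 4) F) := by
    refine ⟨one_mem _, ?_⟩
    ext p r
    fin_cases p <;> fin_cases r <;> simp [star4_apply, minor, Lie.pairOf, Matrix.one_apply]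
  have hm : ∀ a b : GL (Fin 4) F, SzProp (2 ^ (m + 1)) a → SzProp (2 ^ (m + 1)) b →
      SzProp (2 ^ (m + 1)) (a * b) := by
    intro a b ha hb
    refine ⟨mul_mem ha.1 hb.1, ?_⟩
    rw [star4_mul ha.1 hb.1, ha.2, hb.2, Units.val_mul, hθ, Matrix.map_mul]
  induction hg using Subgroup.closure_induction with
  | mem x hx => exact hx
  | one => exact h1
  | mul x y _ _ hx hy => exact hm x y hx hy
  | inv x _ hx =>
    have hp : ∀ n : ℕ, SzProp (2 ^ (m + 1)) (x ^ n) := by
      intro n
      induction n with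
      | zero => rw [pow_zero]; exact h1
      | succ n ih => rw [pow_succ]; exact hm _ _ ih hx
    have h2 : x⁻¹ = x ^ (orderOf x - 1) := by
      apply inv_eq_of_mul_eq_one_right
      rw [← pow_succ', Nat.sub_add_cancel (orderOf_pos x), pow_orderOf_eq_one]
    rw [h2]
    exact hp _

theorem quad_identity [CharP F 2] (p q u w x y : F) :
    !![p, u, w, 0; x, q, 0, w; y, 0, q, u; 0, y, x, p] *
        !![p, u, w, 0; x, q, 0, w; y, 0, q, u; 0, y, x, p] =
      (p + q) • !![p, u, w, 0; x, q, 0, w; y, 0, q, u; 0, y, x, p] +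
        (p * q + u * x + w * y) • (1 : Matrix (Fin 4) (Fin 4) F) := by
  ext i j
  fin_cases i <;> fin_cases j <;> simp [Matrix.mul_apply, Fin.sum_univ_four] <;> ring_nf <;>
    simp [CharTwo.two_eq_zero]

theorem pow_four_eq_one [CharP F 2] [Finite F] {m : ℕ} {g : GL (Fin 4) F}
    (hg : g ∈ Lie.Sz F (2 ^ (m + 1))) {v : Fin 4 → F} (hv : v ≠ 0)
    (hfix : (g : Matrix (Fin 4) (Fin 4) F) *ᵥ v = v) : g ^ 4 = 1 := by
  obtain ⟨hsp, hst⟩ := szProp_of_mem hg
  have hL := sadj_mul hsp
  have hR := mul_sadj hsp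
  set A : Matrix (Fin 4) (Fin 4) F := (g : Matrix (Fin 4) (Fin 4) F) with hA
  set T := A + sadj A with hT
  have hTv : T *ᵥ v = 0 := by
    have h1 : sadj A *ᵥ v = v := by
      nth_rewrite 1 [← hfix]
      rw [Matrix.mulVec_mulVec, hL, Matrix.one_mulVec]
    rw [hT, Matrix.add_mulVec, h1, hfix]
    funext i
    simp [CharTwo.add_self_eq_zero]
  set p := A 0 0 + A 3 3 with hp
  set q := A 1 1 + A 2 2 with hq
  set u := A 0 1 + A 2 3 with hu
  set w := A 0 2 + A 1 3 with hw
  set x := A 1 0 + A 3 2 with hx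
  set y := A 2 0 + A 3 1 with hy
  have hTm : T = !![p, u, w, 0; x, q, 0, w; y, 0, q, u; 0, y, x, p] := by
    ext i j
    fin_cases i <;> fin_cases j <;>
      simp [hT, sadj, hp, hq, hu, hw, hx, hy, CharTwo.add_self_eq_zero] <;> ring
  have hid : T * T = (p + q) • T + (p * q + u * x + w * y) • (1 : Matrix (Fin 4) (Fin 4) F) := by
    rw [hTm]; exact quad_identity p q u w x y
  have hδ : p * q + u * x + w * y = 0 := by
    have h2 := congrArg (fun M => M *ᵥ v) hid
    simp only [← Matrix.mulVec_mulVec, hTv, Matrix.mulVec_zero, Matrix.add_mulVec,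
      Matrix.smul_mulVec, smul_zero, zero_add, Matrix.one_mulVec] at h2
    exact (smul_eq_zero.mp h2.symm).resolve_right hv
  have htr : (Lie.star4 A).trace = (A.trace) ^ 2 ^ (m + 1) := by
    rw [hst]
    have h3 : (fun x : F => x ^ 2 ^ (m + 1)) = iterateFrobenius F 2 (m + 1) := rfl
    rw [h3]
    simp only [Matrix.trace, Matrix.diag, Fin.sum_univ_four, Matrix.map_apply,
      iterateFrobenius_def, add_pow_char_pow]
  have hrel1 : A 1 0 * A 2 3 + A 1 1 * A 2 2 + A 1 2 * A 2 1 + A 1 3 * A 2 0 = 1 := by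
    have h4 := congrFun (congrFun hR 1) 1
    simpa [Matrix.mul_apply, Fin.sum_univ_four, sadj] using h4
  have hrel2 : A 3 2 * A 0 1 + A 2 2 * A 1 1 + A 1 2 * A 2 1 + A 0 2 * A 3 1 = 1 := by
    have h4 := congrFun (congrFun hL 1) 1
    simpa [Matrix.mul_apply, Fin.sum_univ_four, sadj] using h4
  have hstr : (Lie.star4 A).trace = p * q + u * x + w * y := by
    simp only [Matrix.trace, Matrix.diag, Fin.sum_univ_four, star4_apply, minor, Lie.pairOf,
      hp, hq, hu, hw, hx, hy, CharTwo.sub_eq_add]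
    simp only [Matrix.cons_val_zero, Matrix.cons_val_one, Matrix.cons_val]
    have h2 : (2 : F) = 0 := CharTwo.two_eq_zero
    linear_combination (-1 : F) * hrel1 - hrel2 + (A 1 1 * A 2 2 + A 1 2 * A 2 1 - 1) * h2
  have ha : p + q = 0 := by
    have h5 : A.trace = p + q := by
      simp only [Matrix.trace, Matrix.diag, Fin.sum_univ_four, hp, hq]; ring
    rw [hstr, hδ, h5] at htr
    exact pow_eq_zero_iff (Nat.two_pow_pos (m + 1)).ne' |>.mp htr.symm
  rw [ha, hδ, zero_smul, zero_smul, zero_add] at hid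
  have h6 : (A * A + 1) * (A * A + 1) = 0 := by
    have h7 : A * T = A * A + 1 := by rw [hT, mul_add, hR]
    have h8 : T * A = A * A + 1 := by rw [hT, add_mul, hL]
    calc (A * A + 1) * (A * A + 1) = (A * T) * (A * T) := by rw [h7]
      _ = A * (T * A) * T := by simp only [mul_assoc]
      _ = A * (A * T) * T := by rw [h8, h7]
      _ = A * A * (T * T) := by simp only [mul_assoc]
      _ = 0 := by rw [hid, mul_zero]
  apply Units.ext
  rw [Units.val_pow_eq_pow_val, Units.val_one, ← hA]
  have h9 : A ^ 4 + (2 : F) • (A * A) + 1 = 0 := by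
    rw [two_smul, ← h6]; simp only [pow_succ, pow_zero, one_mul, mul_add, add_mul, mul_one,
      mul_assoc]; abel
  rw [CharTwo.two_eq_zero, zero_smul, add_zero, add_eq_zero_iff_eq_neg] at h9
  rw [h9]
  ext i j
  simp [CharTwo.neg_eq]

theorem eq_one_of_fixed [CharP F 2] [Finite F] {m : ℕ} {g : GL (Fin 4) F}
    (hg : g ∈ Lie.Sz F (2 ^ (m + 1))) (hodd : Odd (orderOf g)) {v : Fin 4 → F} (hv : v ≠ 0)
    (hfix : (g : Matrix (Fin 4) (Fin 4) F) *ᵥ v = v) : g = 1 := by
  have h1 : orderOf g ∣ 2 ^ 2 := orderOf_dvd_of_pow_eq_one (pow_four_eq_one hg hv hfix)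
  have h2 : Nat.Coprime (orderOf g) (2 ^ 2) :=
    Nat.Coprime.pow_right _ (Nat.coprime_two_right.mpr hodd)
  exact orderOf_eq_one_iff.mp (Nat.eq_one_of_dvd_coprimes h2 dvd_rfl h1)

theorem two_dvd_card [CharP F 2] [Finite F] (m : ℕ) :
    2 ∣ Nat.card ↥(Lie.Sz F (2 ^ (m + 1))) := by
  have h2 : (2 : F) = 0 := CharTwo.two_eq_zero
  set J : Matrix (Fin 4) (Fin 4) F := !![0,0,0,1; 0,0,1,0; 0,1,0,0; 1,0,0,0] with hJ
  have hJJ : J * J = 1 := by
    ext i j
    fin_cases i <;> fin_cases j <;> simp [hJ, Matrix.mul_apply, Fin.sum_univ_four]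
  let g : GL (Fin 4) F := ⟨J, J, hJJ, hJJ⟩
  have hg : g ∈ Lie.Sz F (2 ^ (m + 1)) := by
    refine Subgroup.subset_closure ⟨?_, ?_⟩
    · intro a b
      simp [g, hJ, Lie.altForm4, Matrix.mulVec, dotProduct, Fin.sum_univ_four]
      ring
    · ext i j
      fin_cases i <;> fin_cases j <;>
        simp [g, hJ, star4_apply, minor, Lie.pairOf, CharTwo.neg_eq]
  have ho : orderOf (⟨g, hg⟩ : ↥(Lie.Sz F (2 ^ (m + 1)))) = 2 := by
    rw [← Subgroup.orderOf_coe]
    refine orderOf_eq_prime ?_ ?_
    · apply Units.ext; rw [Units.val_pow_eq_pow_val, pow_two]; exact hJJ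
    · intro h
      have h3 := congrFun (congrFun
        (congrArg (fun z : GL (Fin 4) F => (z : Matrix (Fin 4) (Fin 4) F)) h) 0) 0
      simp [g, hJ] at h3
  have h4 := orderOf_dvd_natCard (⟨g, hg⟩ : ↥(Lie.Sz F (2 ^ (m + 1))))
  rwa [ho] at h4

section Semi

variable (k : ℕ) (S : Subgroup (GL (Fin 4) F))

/-- the diagonal action on `k` copies of the natural module -/
def act : ↥S →* MulAut (Multiplicative (Fin k → Fin 4 → F)) where
  toFun g :=
    { toFun := fun w => Multiplicative.ofAdd fun i =>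
        ((g : GL (Fin 4) F) : Matrix (Fin 4) (Fin 4) F) *ᵥ Multiplicative.toAdd w i
      invFun := fun w => Multiplicative.ofAdd fun i =>
        ((g⁻¹ : GL (Fin 4) F) : Matrix (Fin 4) (Fin 4) F) *ᵥ Multiplicative.toAdd w i
      left_inv := fun w => by
        apply Multiplicative.toAdd.injective
        funext i
        simp [Matrix.mulVec_mulVec, -Matrix.coe_units_inv]
      right_inv := fun w => by
        apply Multiplicative.toAdd.injective
        funext i
        simp [Matrix.mulVec_mulVec, -Matrix.coe_units_inv]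
      map_mul' := fun a b => by
        apply Multiplicative.toAdd.injective
        funext i
        simp [Matrix.mulVec_add] }
  map_one' := by
    ext w : 1
    simp
  map_mul' a b := by
    ext w : 1
    apply Multiplicative.toAdd.injective
    funext i
    simp [Matrix.mulVec_mulVec]

theorem act_apply (g : ↥S) (w : Multiplicative (Fin k → Fin 4 → F)) (i : Fin k) :
    Multiplicative.toAdd (act k S g w) i =
      ((g : GL (Fin 4) F) : Matrix (Fin 4) (Fin 4) F) *ᵥ Multiplicative.toAdd w i := rfl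

end Semi


/-- Let S be the Suzuki group over the field with q = 2^(2m+1) ≥ 8 elements. Then there are finite groups of arbitrarily large order with the same prime graph as S. -/
theorem result {F : Type*} [Field F] [Fintype F] {m : ℕ} (hm : 1 ≤ m) (hF : Fintype.card F = 2 ^ (2 * m + 1)) (N : ℕ) :
    ∃ (H : Type) (_ : Group H) (_ : Fintype H), N < Fintype.card H ∧ ((∀ r : ℕ, r.Prime → (r ∣ Nat.card ↥(Cfsg.Lie.Sz F (2 ^ (m + 1))) ↔ r ∣ Nat.card H)) ∧
      (∀ r s : ℕ, r.Prime → s.Prime → r ≠ s → ((∃ x : ↥(Cfsg.Lie.Sz F (2 ^ (m + 1))), orderOf x = r * s) ↔ (∃ y : H, orderOf y = r * s)))) := by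
  have : CharP F 2 := charP_of_card_eq_prime_pow hF
  set S := Cfsg.Lie.Sz F (2 ^ (m + 1)) with hS
  let H0 := Multiplicative (Fin N → Fin 4 → F) ⋊[act N S] ↥S
  have hcard : Nat.card H0 = Nat.card (Fin N → Fin 4 → F) * Nat.card ↥S := SemidirectProduct.card
  have hVcard : Nat.card (Fin N → Fin 4 → F) = 2 ^ ((2 * m + 1) * 4 * N) := by
    rw [Nat.card_fun, Nat.card_fun, Nat.card_fin, Nat.card_fin, Nat.card_eq_fintype_card, hF,
      ← pow_mul, ← pow_mul, mul_assoc]
  have hfin : Finite H0 := Nat.finite_of_card_ne_zero (by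
    rw [hcard]
    exact mul_ne_zero (by rw [hVcard]; positivity) Nat.card_pos.ne')
  haveI : Small.{0} H0 := Countable.toSmall _
  let f : Shrink.{0} H0 ≃* H0 := Shrink.mulEquiv
  have hfinS : Finite (Shrink.{0} H0) := Finite.of_equiv H0 f.symm.toEquiv
  letI hft : Fintype (Shrink.{0} H0) := Fintype.ofFinite _
  refine ⟨Shrink.{0} H0, inferInstance, hft, ?_, ?_, ?_⟩
  · rw [← Nat.card_eq_fintype_card, Nat.card_congr f.toEquiv, hcard, hVcard]
    have h1 : N < 2 ^ N := N.lt_two_pow_self
    have h2 : 2 ^ N ≤ 2 ^ ((2 * m + 1) * 4 * N) :=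
      Nat.pow_le_pow_right (by norm_num) (Nat.le_mul_of_pos_left N (by positivity))
    have h3 : 0 < Nat.card ↥S := Nat.card_pos
    calc N < 2 ^ ((2 * m + 1) * 4 * N) := h1.trans_le h2
      _ ≤ _ := Nat.le_mul_of_pos_right _ h3
  · intro r hr
    rw [Nat.card_congr f.toEquiv, hcard]
    refine ⟨fun h => h.mul_left _, fun h => ?_⟩
    rcases hr.dvd_mul.mp h with h | h
    · rw [hVcard] at h
      rw [(Nat.prime_dvd_prime_iff_eq hr Nat.prime_two).mp (hr.dvd_of_dvd_pow h)]
      exact two_dvd_card m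
    · exact h
  · intro r s hr hs hrs
    constructor
    · rintro ⟨x, hx⟩
      refine ⟨f.symm (SemidirectProduct.inr x), ?_⟩
      rw [MulEquiv.orderOf_eq, orderOf_injective _ SemidirectProduct.inr_injective, hx]
    · rintro ⟨y', hy'⟩
      obtain ⟨y, hy⟩ : ∃ y : H0, orderOf y = r * s := ⟨f y', by rw [MulEquiv.orderOf_eq, hy']⟩
      refine ⟨y.right, ?_⟩
      set d := orderOf y.right with hd
      have hd1 : d ∣ r * s := hy ▸ orderOf_map_dvd SemidirectProduct.rightHom y
      -- the part in the module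
      have hz : ∀ z : H0, z.right = 1 → z ^ 2 = 1 := by
        intro z hz
        apply SemidirectProduct.ext
        · rw [pow_two, SemidirectProduct.mul_left, hz, map_one, SemidirectProduct.one_left]
          apply Multiplicative.toAdd.injective
          funext i j
          simp [CharTwo.add_self_eq_zero]
        · rw [pow_two, SemidirectProduct.mul_right, hz, mul_one, SemidirectProduct.one_right]
      have hyd : (y ^ d).right = 1 := by
        have h := map_pow (SemidirectProduct.rightHom (φ := act N S)) y d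
        exact h.trans (pow_orderOf_eq_one y.right)
      have hd2 : r * s ∣ d * 2 := by
        rw [← hy]
        refine orderOf_dvd_of_pow_eq_one ?_
        rw [pow_mul]
        exact hz _ hyd
      -- reduce to the case that `r * s = d * 2` with `d` odd
      by_contra hne
      have hd0 : 0 < d := orderOf_pos y.right
      have heq : d * 2 = r * s := by
        obtain ⟨a, ha⟩ := hd1
        obtain ⟨b, hb⟩ := hd2
        have hab : a * b = 2 := by
          apply Nat.eq_of_mul_eq_mul_left hd0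
          rw [← mul_assoc, ← ha, ← hb]
        rcases (Nat.dvd_prime Nat.prime_two).mp ⟨b, hab.symm⟩ with rfl | rfl
        · exact absurd (by rw [ha, mul_one]) hne
        · exact ha.symm
      have hodd : Odd d := by
        rcases Nat.even_or_odd d with hev | hod
        · exfalso
          obtain ⟨c, hc⟩ := hev
          have h4 : 2 * 2 ∣ r * s := ⟨c, by rw [← heq, hc]; ring⟩
          have h22 : r = 2 ∧ s = 2 := by
            have hr2 : 2 ∣ r ∨ 2 ∣ s := Nat.prime_two.dvd_mul.mp (dvd_trans ⟨2, rfl⟩ h4)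
            rcases hr2 with h | h
            · have := (Nat.prime_dvd_prime_iff_eq Nat.prime_two hr).mp h
              subst this
              have h5 : 2 ∣ s := Nat.dvd_of_mul_dvd_mul_left (by norm_num) h4
              exact ⟨rfl, ((Nat.prime_dvd_prime_iff_eq Nat.prime_two hs).mp h5).symm⟩
            · have := (Nat.prime_dvd_prime_iff_eq Nat.prime_two hs).mp h
              subst this
              have h5 : 2 ∣ r := Nat.dvd_of_mul_dvd_mul_right (by norm_num) h4
              exact ⟨((Nat.prime_dvd_prime_iff_eq Nat.prime_two hr).mp h5).symm, rfl⟩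
          exact hrs (h22.1.trans h22.2.symm)
        · exact hod
      set z := y ^ d with hzdef
      have hzne : z.left ≠ 1 := by
        intro h
        have h1 : y ^ d = 1 := SemidirectProduct.ext h hyd
        have h2 : r * s ∣ d := hy ▸ orderOf_dvd_of_pow_eq_one h1
        have h3 := Nat.le_of_dvd hd0 h2
        omega
      have hfixz : act N S y.right z.left = z.left := by
        have hc : y * z = z * y := by rw [hzdef, ← pow_succ, ← pow_succ']
        have h := congrArg SemidirectProduct.left hc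
        rw [SemidirectProduct.mul_left, SemidirectProduct.mul_left, hyd, map_one,
          MulAut.one_apply, mul_comm z.left] at h
        exact mul_left_cancel h
      obtain ⟨i, hi⟩ : ∃ i, Multiplicative.toAdd z.left i ≠ 0 := by
        by_contra hall
        push Not at hall
        exact hzne (Multiplicative.toAdd.injective (funext hall))
      have hx1 : (y.right : GL (Fin 4) F) = 1 := by
        refine eq_one_of_fixed y.right.2 ?_ hi ?_
        · rw [Subgroup.orderOf_coe, ← hd]; exact hodd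
        · rw [← act_apply, hfixz]
      have hd1' : d = 1 := by
        rw [hd, ← Subgroup.orderOf_coe, hx1, orderOf_one]
      have h1 := hr.two_le
      have h2 := hs.two_le
      nlinarith


end Cfsg.Agent.S3639
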