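import Cfsg.Statements.S3641
import Cfsg.Agent.S0732
import Cfsg.Agent.Lib.Dickson.PSLTwo
import Cfsg.Agent.Lib.PGroup.Basic

set_option autoImplicit false
open Cfsg

namespace Cfsg.Agent.S3641

variable {G : Type*} [Group G] [Finite G]

theorem relIndex_sup_eq {S : Subgroup G} [S.Normal] (A : Subgroup G) :
    A.relIndex (A ⊔ S) = A.relIndex S := by
  have h1 := Subgroup.relIndex_sup_right (H := A) (K := S)
  have hm : ∀ {X Y : Subgroup G}, X ≤ Y → Nat.card X * X.relIndex Y = Nat.card Y := fun {X Y} h => by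
    rw [← Subgroup.relIndex_bot_left, Subgroup.relIndex_mul_relIndex _ _ _ bot_le h,
      Subgroup.relIndex_bot_left]
  have e1 := hm (le_sup_left : A ≤ A ⊔ S)
  have e2 := hm (le_sup_right : S ≤ A ⊔ S)
  have e3 := hm (inf_le_left : S ⊓ A ≤ S)
  have e4 := hm (inf_le_right : S ⊓ A ≤ A)
  rw [Subgroup.inf_relIndex_right] at e4
  rw [inf_comm, Subgroup.inf_relIndex_right, inf_comm] at e3
  rw [h1] at e2
  refine Nat.eq_of_mul_eq_mul_left (Nat.card_pos : 0 < Nat.card A) ?_
  calc Nat.card A * A.relIndex (A ⊔ S) = Nat.card S * S.relIndex A := e1.trans e2.symm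
    _ = Nat.card A * A.relIndex S := by rw [← e3, ← e4]; ring

theorem card_sylow {H : Type*} [Group H] [Finite H] {r : ℕ} [Fact r.Prime] (R : Sylow r H) :
    Nat.card (Sylow r H) = (Subgroup.normalizer ((R : Subgroup H) : Set H)).index :=
  R.card_eq_index_normalizer

/-- The image map on Sylow subgroups is equivariant. -/
theorem map_smul {H : Type*} [Group H] {r : ℕ} [Fact r.Prime] {f : G →* H} (hf : Function.Surjective f)
    (g : G) (R : Sylow r G) : (g • R).mapSurjective hf = f g • R.mapSurjective hf := by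
  refine Sylow.ext ?_
  rw [Sylow.coe_mapSurjective, Sylow.smul_def, Sylow.smul_def, Sylow.pointwise_smul_def,
    Sylow.pointwise_smul_def, Sylow.coe_mapSurjective]
  ext x
  constructor
  · rintro ⟨_, ⟨v, hv, rfl⟩, rfl⟩
    exact ⟨f v, ⟨v, hv, rfl⟩, by simp⟩
  · rintro ⟨_, ⟨v, hv, rfl⟩, rfl⟩
    exact ⟨_, ⟨v, hv, rfl⟩, by simp⟩

/-- A normal `q`-subgroup normalises a Sylow `r`-subgroup if no power of `q` fits. -/
theorem le_normalizer_of_no_factor {r q : ℕ} [Fact r.Prime] (hq : q.Prime) (R : Sylow r G) (S : Subgroup G)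
    [S.Normal] (hS : IsPGroup q S)
    (hno : ∀ a, q ^ (a + 1) ∣ Nat.card (Sylow r G) → q ^ (a + 1) % r ≠ 1) :
    S ≤ Subgroup.normalizer ((R : Subgroup G) : Set G) := by
  set N := Subgroup.normalizer ((R : Subgroup G) : Set G) with hN
  haveI := Fact.mk hq
  obtain ⟨b, hb⟩ := IsPGroup.iff_card.1 hS
  have hdvd : N.relIndex S ∣ q ^ b := hb ▸ (N.subgroupOf S).index_dvd_card
  obtain ⟨a, -, ha⟩ := (Nat.dvd_prime_pow hq).1 hdvd
  cases a with
  | zero => exact Subgroup.relIndex_eq_one.1 (by rw [ha, pow_zero])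
  | succ a =>
    exfalso
    refine hno a ?_ ?_
    · rw [← ha, card_sylow R, ← relIndex_sup_eq (S := S) N]
      exact Subgroup.relIndex_dvd_index_of_le le_sup_left
    set L : Subgroup G := (R : Subgroup G) ⊔ S with hL
    have hRL : (R : Subgroup G) ≤ L := le_sup_left
    have hmod := card_sylow_modEq_one r L
    rw [card_sylow (R.subtype hRL), Sylow.coe_subtype,
      ← Subgroup.subgroupOf_normalizer_eq hRL] at hmod
    have hrel : N.relIndex L = N.relIndex S := by
      have h1 : N ⊓ L ⊔ S = L := le_antisymm (sup_le inf_le_right le_sup_right)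
        (sup_le_sup_right (le_inf Subgroup.le_normalizer hRL) S)
      have h2 := relIndex_sup_eq (S := S) (N ⊓ L)
      rw [h1, Subgroup.inf_relIndex_right] at h2
      rw [h2]
      rw [Subgroup.relIndex, Subgroup.relIndex]
      congr 1
      ext x
      exact ⟨fun h => h.1, fun h => ⟨h, le_sup_right (a := (R : Subgroup G)) x.2⟩⟩
    rw [show (N.subgroupOf L).index = N.relIndex L from rfl, hrel, ha] at hmod
    rw [Nat.ModEq, Nat.one_mod_eq_one.2 (Fact.out : r.Prime).ne_one] at hmod
    exact hmod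

/-- Equal Sylow numbers in a quotient: the kernel normalises every Sylow subgroup. -/
theorem ker_le_normalizer {H : Type*} [Group H] {r : ℕ} [Fact r.Prime] {f : G →* H}
    (hf : Function.Surjective f) (hcard : Nat.card (Sylow r H) = Nat.card (Sylow r G)) (R : Sylow r G) :
    f.ker ≤ Subgroup.normalizer ((R : Subgroup G) : Set G) := by
  haveI : Finite H := Finite.of_surjective f hf
  have hinj := ((Nat.bijective_iff_surjective_and_card _).2
    ⟨Sylow.mapSurjective_surjective hf r, hcard.symm⟩).1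
  intro k hk
  refine Sylow.smul_eq_iff_mem_normalizer.1 (hinj ?_)
  rw [map_smul hf, show f k = 1 from hk, one_smul]

theorem primes_of_sylow_numbers {r : ℕ} (hr : r.Prime) {n : ℕ} (hn : n = 18 ∨ n = 136 ∨ n = 153)
    (h1 : n % r = 1) :
    (r = 17 ∧ n = 18) ∨ (r = 3 ∧ n = 136) ∨ (r = 2 ∧ n = 153) ∨ (r = 5 ∧ n = 136) ∨ (r = 19 ∧ n = 153) := by
  have hd : r ∣ n - 1 := by
    have := Nat.div_add_mod n r
    exact ⟨n / r, by omega⟩
  have hle : r ≤ 153 := le_trans (Nat.le_of_dvd (by omega) hd) (by omega)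
  rcases hn with rfl | rfl | rfl
  · have := Nat.le_of_dvd (by norm_num) hd
    interval_cases r <;> (revert hr h1; norm_num)
  · have : r ∈ Nat.divisors 135 := Nat.mem_divisors.2 ⟨hd, by norm_num⟩
    fin_cases this <;> (revert hr h1; norm_num)
  · have : r ∈ Nat.divisors 152 := Nat.mem_divisors.2 ⟨hd, by norm_num⟩
    fin_cases this <;> (revert hr h1; norm_num)

theorem central_of_all_sylow {z : G}
    (h : ∀ r : ℕ, ∀ _ : Fact r.Prime, r ∣ Nat.card G → ∃ R : Sylow r G, ∀ x ∈ (R : Subgroup G), z * x = x * z) :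
    z ∈ Subgroup.center G := by
  have htop : Subgroup.centralizer ({z} : Set G) = ⊤ := by
    refine Subgroup.eq_top_of_card_eq _ ?_
    refine Nat.dvd_antisymm (Subgroup.card_subgroup_dvd_card _) ?_
    refine (Nat.factorization_le_iff_dvd Nat.card_pos.ne' Nat.card_pos.ne').1 ?_
    intro r
    by_cases hr : r.Prime ∧ r ∣ Nat.card G
    · haveI := Fact.mk hr.1
      obtain ⟨R, hR⟩ := h r ⟨hr.1⟩ hr.2
      have hle : (R : Subgroup G) ≤ Subgroup.centralizer ({z} : Set G) := fun x hx =>
        Subgroup.mem_centralizer_singleton_iff.2 (hR x hx).symm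
      have := Subgroup.card_dvd_of_le hle
      rw [R.card_eq_multiplicity] at this
      exact (Nat.Prime.pow_dvd_iff_le_factorization hr.1 Nat.card_pos.ne').1 this
    · have : (Nat.card G).factorization r = 0 := by
        rcases not_and_or.1 hr with h' | h'
        · exact Nat.factorization_eq_zero_of_not_prime _ h'
        · exact Nat.factorization_eq_zero_of_not_dvd h'
      omega
  exact Subgroup.mem_center_iff.2 fun g =>
    Subgroup.mem_centralizer_singleton_iff.1 (htop ▸ Subgroup.mem_top g)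

local notation "SL17" => Matrix.SpecialLinearGroup (Fin 2) (ZMod 17)
local notation "PSL17" => Matrix.ProjectiveSpecialLinearGroup (Fin 2) (ZMod 17)

theorem exists_order_nine : ∃ x : PSL17, orderOf x = 9 := by
  let A : SL17 := ⟨!![0, 16; 1, 7], by decide⟩
  refine ⟨(QuotientGroup.mk A : PSL17), ?_⟩
  have h := orderOf_eq_prime_pow (G := PSL17) (x := QuotientGroup.mk A) (p := 3) (n := 1) ?_ ?_
  · exact h
  · intro e
    have e' : A ^ (3 ^ 1) ∈ Subgroup.center SL17 := (QuotientGroup.eq_one_iff _).1 e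
    have := congrArg (fun M : SL17 => M.1) (Subgroup.mem_center_iff.1 e' ⟨!![1, 1; 0, 1], by decide⟩)
    revert this
    decide
  · have : A ^ (3 ^ (1 + 1)) = 1 := by
      apply Subtype.ext
      decide
    exact congrArg (QuotientGroup.mk (s := Subgroup.center SL17)) this

/-- Facts about a group on eighteen points with a regular normal 17-group in a stabiliser. -/
theorem image_facts [Fact (Nat.Prime 17)] {α : Type*} [Fintype α] [DecidableEq α]
    (hα : Fintype.card α = 18) (B : Subgroup (Equiv.Perm α)) [MulAction.IsPretransitive B α]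
    (a : α) (U : Subgroup B) (hUa : U ≤ MulAction.stabilizer B a)
    (hUn : MulAction.stabilizer B a ≤ Subgroup.normalizer (U : Set B))
    (hU17 : IsPGroup 17 U) (hUfix : ∀ c, (∀ u ∈ U, u • c = c) → c = a) :
    (Nonempty (B ≃* Matrix.ProjGenLinGroup (Fin 2) (ZMod 17)) ∨ Nonempty (B ≃* PSL17)) ∧
    (Nat.card (Sylow 2 B) ∣ 153 → Nat.card (Sylow 2 B) = 153) ∧
    (Nat.card (Sylow 3 B) ≤ 136 → Nat.card (Sylow 3 B) = 136) := by
  classical
  -- the regular group of order 17
  have hUne : U ≠ ⊥ := by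
    rintro rfl
    obtain ⟨b, hb⟩ := Fintype.exists_ne_of_one_lt_card (by omega : 1 < Fintype.card α) a
    exact hb (hUfix b fun u hu => by rw [Subgroup.mem_bot.1 hu, one_smul])
  have hUc : Nat.card U = 17 := by
    obtain ⟨k, hk⟩ := IsPGroup.iff_card.1 hU17
    have h18 : Nat.card U ∣ Nat.factorial 18 := by
      rw [← hα, ← Fintype.card_perm (α := α), ← Nat.card_eq_fintype_card]
      exact (Subgroup.card_subgroup_dvd_card U).trans (Subgroup.card_subgroup_dvd_card B)
    rcases k with _ | _ | k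
    · exact absurd (Subgroup.card_eq_one.1 (by rw [hk, pow_zero])) hUne
    · simpa using hk
    · exfalso
      have : 17 ^ 2 ∣ Nat.factorial 18 := (pow_dvd_pow 17 (by omega)).trans (hk ▸ h18)
      norm_num [Nat.factorial] at this
  haveI hUcyc : IsCyclic U := isCyclic_of_prime_card hUc
  have hfree : ∀ u ∈ U, u ≠ 1 → ∀ c : α, u • c = c → c = a := by
    intro u hu hu1 c hc
    refine hUfix c fun w hw => ?_
    have htop := zpowers_eq_top_of_prime_card hUc (g := (⟨u, hu⟩ : U))
      (fun e => hu1 (congrArg Subtype.val e))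
    obtain ⟨i, hi⟩ : (⟨w, hw⟩ : U) ∈ Subgroup.zpowers (⟨u, hu⟩ : U) := htop ▸ Subgroup.mem_top _
    have hw' : w = u ^ i := by simpa using (congrArg Subtype.val hi).symm
    have : u ^ i ∈ MulAction.stabilizer B c := Subgroup.zpow_mem _ hc i
    rw [hw']; exact this
  have htransU : ∀ b c : α, b ≠ a → c ≠ a → ∃ u ∈ U, u • b = c := by
    intro b c hb hc
    have hmap : ∀ u : U, u.1 • b ≠ a := fun u e =>
      hb (MulAction.injective u.1 (e.trans (hUa u.2).symm))
    have hinj : Function.Injective fun u : U => (⟨u.1 • b, hmap u⟩ : {x : α // x ≠ a}) := by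
      intro u v h
      have h' : u.1 • b = v.1 • b := congrArg Subtype.val h
      by_contra hne
      refine hb (hfree (v.1⁻¹ * u.1) (U.mul_mem (U.inv_mem v.2) u.2) ?_ b (by rw [mul_smul, h', inv_smul_smul]))
      exact fun e => hne (Subtype.ext (inv_mul_eq_one.1 e).symm)
    obtain ⟨u, hu⟩ := ((Nat.bijective_iff_injective_and_card _).2 ⟨hinj, by
      rw [hUc, Nat.card_eq_fintype_card, Fintype.card_subtype_compl, Fintype.card_subtype_eq, hα]⟩).2 ⟨c, hc⟩
    exact ⟨u.1, u.2, congrArg Subtype.val hu⟩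
  let A := MulAction.stabilizer B a
  let φ : A →* MulAut U := U.normalizerMonoidHom.comp (Subgroup.inclusion hUn)
  have hker : ∀ s : A, φ s = 1 ↔ s.1 ∈ U := by
    intro s
    constructor
    · intro hs
      have hcomm : ∀ u ∈ U, s.1 * u = u * s.1 := fun u hu => by
        have hk : Subgroup.inclusion hUn s ∈ U.normalizerMonoidHom.ker := hs
        rw [Subgroup.normalizerMonoidHom_ker, Subgroup.mem_subgroupOf] at hk
        exact (hk u hu).symm
      obtain ⟨b, hb⟩ := Fintype.exists_ne_of_one_lt_card (by omega : 1 < Fintype.card α) a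
      have hsb : s.1 • b ≠ a := fun e => hb (MulAction.injective s.1 (e.trans s.2.symm))
      obtain ⟨u, hu, hub⟩ := htransU b _ hb hsb
      suffices s.1 = u by rw [this]; exact hu
      have hall : ∀ x : α, s.1 • x = u • x := fun x => by
        by_cases hx : x = a
        · rw [hx]; exact s.2.trans (hUa hu).symm
        obtain ⟨v, hv, rfl⟩ := htransU b x hb hx
        have hvu : v * u = u * v :=
          congrArg Subtype.val ((IsCyclic.commGroup (α := U)).mul_comm ⟨v, hv⟩ ⟨u, hu⟩)
        rw [← mul_smul, hcomm v hv, mul_smul, ← hub, ← mul_smul, hvu, mul_smul]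
      exact Subtype.ext (Equiv.ext hall)
    · intro hs
      refine MulEquiv.ext fun u => Subtype.ext ?_
      show s.1 * u.1 * s.1⁻¹ = u.1
      rw [show s.1 * u.1 = u.1 * s.1 from
        congrArg Subtype.val ((IsCyclic.commGroup (α := U)).mul_comm ⟨s.1, hs⟩ u), mul_inv_cancel_right]
  have hkerc : Nat.card φ.ker = 17 := by
    rw [← hUc]
    exact Nat.card_congr ⟨fun s => ⟨s.1.1, (hker s.1).1 s.2⟩, fun u => ⟨⟨u.1, hUa u.2⟩, (hker _).2 u.2⟩,
      fun _ => rfl, fun _ => rfl⟩
  have hAc : Nat.card A = 17 * Nat.card φ.range := by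
    rw [← Subgroup.card_mul_index φ.ker, hkerc, Subgroup.index_ker]
  have hd16 : Nat.card φ.range ∣ 16 := by
    have := Subgroup.card_subgroup_dvd_card φ.range
    rwa [IsCyclic.card_mulAut, hUc, Nat.totient_prime (by norm_num)] at this
  have hB : Nat.card B = (17 + 1) * 17 * Nat.card φ.range := by
    have := Subgroup.card_mul_index A
    rw [MulAction.index_stabilizer_of_transitive B a, Nat.card_eq_fintype_card (α := α), hα] at this
    rw [← this, hAc]; ring
  have hdlt : Nat.card φ.range < 17 :=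
    lt_of_le_of_lt (Nat.le_of_dvd (by norm_num) hd16) (by norm_num)
  -- recognition
  have hrec := Cfsg.Agent.S0732.result (p := 17) (d := Nat.card φ.range) (by norm_num) hα B hB hdlt
  have hcases : (Nat.card φ.range = 16 ∧ Nonempty (B ≃* Matrix.ProjGenLinGroup (Fin 2) (ZMod 17))) ∨
      (Nat.card φ.range = 8 ∧ Nonempty (B ≃* PSL17)) := by
    rcases hrec with ⟨h, e⟩ | ⟨h, e⟩ | ⟨q, -, hq, -⟩
    · exact Or.inl ⟨h, e⟩
    · exact Or.inr ⟨by omega, e⟩
    · exfalso
      rcases Nat.lt_or_ge q 5 with h | h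
      · interval_cases q <;> omega
      · have := Nat.pow_le_pow_right (show 0 < 2 by norm_num) h
        omega
  refine ⟨hcases.imp And.right And.right, ?_⟩
  -- three fixed points
  have h3 : ∀ s : B, ∀ b c : α, b ≠ a → c ≠ a → b ≠ c → s • a = a → s • b = b → s • c = c → s = 1 := by
    intro s b c hb hc hbc hsa hsb hsc
    obtain ⟨v, hv, hvc⟩ := htransU b c hb hc
    have hsv : s * v * s⁻¹ ∈ U := (Subgroup.mem_normalizer_iff.1 (hUn hsa) v).1 hv
    have hvv : s * v * s⁻¹ = v := by
      by_contra hne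
      refine hb (hfree (v⁻¹ * (s * v * s⁻¹)) (U.mul_mem (U.inv_mem hv) hsv) (fun e => hne ?_) b ?_)
      · exact (inv_mul_eq_one.1 e).symm
      · rw [mul_smul, mul_smul, mul_smul, inv_smul_eq_iff.2 hsb.symm, hvc, hsc, ← hvc, inv_smul_smul]
    have hv1 : v ≠ 1 := fun e => hbc (by rw [← hvc, e, one_smul])
    have hsU : s ∈ U := by
      refine (hker ⟨s, hsa⟩).1 (MulEquiv.ext fun w => Subtype.ext ?_)
      show s * w.1 * s⁻¹ = w.1
      have htop := zpowers_eq_top_of_prime_card hUc (g := (⟨v, hv⟩ : U))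
        (fun e => hv1 (congrArg Subtype.val e))
      obtain ⟨i, hi⟩ : w ∈ Subgroup.zpowers (⟨v, hv⟩ : U) := htop ▸ Subgroup.mem_top _
      have hw : w.1 = v ^ i := by simpa using (congrArg Subtype.val hi).symm
      rw [hw, ← conj_zpow, hvv]
    by_contra hs1
    exact hb (hfree s hsU hs1 b hsb)
  have h3' : ∀ s : B, ∀ x b c : α, b ≠ x → c ≠ x → b ≠ c → s • x = x → s • b = b → s • c = c → s = 1 := by
    intro s x b c hb hc hbc hsx hsb hsc
    obtain ⟨g, hg⟩ := MulAction.exists_smul_eq B x a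
    have hmv : ∀ y : α, y ≠ x → g • y ≠ a := fun y hy e => hy (MulAction.injective g (e.trans hg.symm))
    have hfx : ∀ y : α, s • y = y → (g * s * g⁻¹) • g • y = g • y := fun y hy => by
      rw [mul_smul, mul_smul, inv_smul_smul, hy]
    have := h3 (g * s * g⁻¹) (g • b) (g • c) (hmv b hb) (hmv c hc)
      (fun e => hbc (MulAction.injective g e)) (by rw [← hg]; exact hfx x hsx) (hfx b hsb) (hfx c hsc)
    exact conj_eq_one_iff.1 this
  haveI : IsCyclic (ZMod (Nat.card U))ˣ := by rw [hUc]; infer_instance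
  haveI : IsCyclic (MulAut U) :=
    isCyclic_of_surjective (IsCyclic.mulAutMulEquiv U).symm.toMonoidHom (IsCyclic.mulAutMulEquiv U).symm.surjective
  -- a stabiliser element commuting with the kernel
  have hkerpt : ∀ s : B, s • a = a → ∀ u ∈ U, u ≠ 1 → s * u = u * s → s ∈ U := by
    intro s hsa u hu hu1 hsu
    refine (hker ⟨s, hsa⟩).1 (MulEquiv.ext fun w => Subtype.ext ?_)
    show s * w.1 * s⁻¹ = w.1
    have htop := zpowers_eq_top_of_prime_card hUc (g := (⟨u, hu⟩ : U))
      (fun e => hu1 (congrArg Subtype.val e))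
    obtain ⟨i, hi⟩ : w ∈ Subgroup.zpowers (⟨u, hu⟩ : U) := htop ▸ Subgroup.mem_top _
    have hw : w.1 = u ^ i := by simpa using (congrArg Subtype.val hi).symm
    rw [hw, ← conj_zpow, hsu, mul_inv_cancel_right]
  constructor
  · -- Sylow 2
    intro hdvd
    obtain ⟨R₀⟩ : Nonempty (Sylow 2 B) := inferInstance
    obtain ⟨e, hed⟩ : ∃ e, Nat.card φ.range = 2 ^ e ∧ 3 ≤ e := by
      rcases hcases with ⟨h, -⟩ | ⟨h, -⟩
      · exact ⟨4, h, by norm_num⟩
      · exact ⟨3, h, le_rfl⟩
    have hRc : ∀ R : Sylow 2 B, Nat.card R = 2 ^ (e + 1) := by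
      intro R
      rw [R.card_eq_multiplicity, hB, hed.1,
        show (17 + 1) * 17 * 2 ^ e = 153 * 2 ^ (e + 1) by rw [pow_succ]; ring,
        Nat.factorization_mul (by norm_num) (by positivity), Finsupp.add_apply,
        Nat.factorization_eq_zero_of_not_dvd (by norm_num : ¬ 2 ∣ 153),
        Nat.Prime.factorization_pow Nat.prime_two, Finsupp.single_eq_same, zero_add]
    by_contra hne
    -- an orbit of length at most two
    obtain ⟨x, hx⟩ : ∃ x : α, (MulAction.orbit R₀ x).ncard ≤ 2 := by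
      by_contra hall
      push Not at hall
      have h4 : ∀ x : α, 4 ∣ (MulAction.orbit R₀ x).ncard := fun x => by
        obtain ⟨m, hm⟩ := R₀.2.card_orbit x
        rw [Nat.card_coe_set_eq] at hm
        have := hall x
        rw [hm] at this ⊢
        rcases m with _ | _ | m
        · simp at this
        · simp at this
        · exact ⟨2 ^ m, by ring⟩
      have h18 : Nat.card α = 18 := by rw [Nat.card_eq_fintype_card, hα]
      rw [Nat.card_congr (MulAction.selfEquivSigmaOrbits R₀ α), Nat.card_sigma] at h18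
      have : 4 ∣ 18 := h18 ▸ Finset.dvd_sum fun q _ => by rw [Nat.card_coe_set_eq]; exact h4 _
      norm_num at this
    -- move it to `a`
    obtain ⟨g, hg⟩ := MulAction.exists_smul_eq B x a
    set R : Sylow 2 B := g • R₀ with hR
    have hmemR : ∀ w, w ∈ R₀.1 → g * w * g⁻¹ ∈ R.1 := fun w hw => by
      rw [hR, Sylow.smul_def, Sylow.pointwise_smul_def]
      exact ⟨w, hw, rfl⟩
    set D : Subgroup B := R.1 ⊓ A with hD
    have hDc : 8 ≤ Nat.card D := by
      have h1 := Subgroup.card_mul_index (MulAction.stabilizer R₀ x)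
      rw [MulAction.index_stabilizer] at h1
      have hin : Nat.card (MulAction.stabilizer R₀ x) ≤ Nat.card D := by
        refine Nat.card_le_card_of_injective
          (fun w => ⟨g * w.1.1 * g⁻¹, hmemR _ w.1.2, ?_⟩) ?_
        · show (g * w.1.1 * g⁻¹) • a = a
          have hwx : w.1.1 • x = x := w.2
          rw [← hg, mul_smul, mul_smul, inv_smul_smul, hwx]
        · intro w w' h
          have h' := congrArg Subtype.val h
          exact Subtype.ext (Subtype.ext (mul_left_cancel (mul_right_cancel h')))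
      rw [hRc R₀] at h1
      have h16 : 2 ^ 4 ≤ 2 ^ (e + 1) := Nat.pow_le_pow_right (by norm_num) (by omega)
      have := Nat.mul_le_mul hin hx
      omega
    have hDU : ∀ w ∈ D, w ∈ U → w = 1 := by
      intro w hw hwU
      have h1 : orderOf w ∣ 17 := hUc ▸ Subgroup.orderOf_dvd_natCard _ hwU
      have h2 : orderOf w ∣ 2 ^ (e + 1) := hRc R ▸ Subgroup.orderOf_dvd_natCard _ hw.1
      have h3 : Nat.Coprime 17 (2 ^ (e + 1)) := Nat.Coprime.pow_right _ (by norm_num)
      exact orderOf_eq_one_iff.1 (Nat.dvd_one.1 (h3 ▸ Nat.dvd_gcd h1 h2))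
    let ψ : D →* MulAut U := φ.comp (Subgroup.inclusion inf_le_right)
    have hψ : Function.Injective ψ := (injective_iff_map_eq_one ψ).2 fun w hw =>
      Subtype.ext (hDU w.1 w.2 ((hker _).1 hw))
    haveI : IsCyclic D := isCyclic_of_injective ψ hψ
    obtain ⟨w, hw2⟩ : ∃ w : D, w ^ 2 ≠ 1 := by
      by_contra hall
      push Not at hall
      haveI := Fintype.ofFinite D
      have := IsCyclic.card_pow_eq_one_le (α := D) (n := 2) (by norm_num)
      rw [Finset.filter_true_of_mem fun w _ => hall w, Finset.card_univ, ← Nat.card_eq_fintype_card] at this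
      omega
    set t : B := w.1 ^ 2 with ht
    have ht1 : t ≠ 1 := fun e => hw2 (Subtype.ext (by simpa using e))
    -- squares fix points in short orbits
    let X : Finset α := Finset.univ.filter fun y => (MulAction.orbit R y).ncard ≤ 2
    have hsq : ∀ y ∈ X, t • y = y := by
      intro y hy
      by_contra hne
      have hy2 := (Finset.mem_filter.1 hy).2
      have h1 : w.1 • y ≠ y := fun e => hne (by rw [ht, pow_two, mul_smul, e, e])
      have hsub : ({y, w.1 • y, t • y} : Finset α) ⊆ (MulAction.orbit R y).toFinset := by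
        intro z hz
        simp only [Finset.mem_insert, Finset.mem_singleton] at hz
        rw [Set.mem_toFinset]
        rcases hz with rfl | rfl | rfl
        · exact MulAction.mem_orbit_self _
        · exact ⟨⟨w.1, w.2.1⟩, rfl⟩
        · exact ⟨⟨t, R.1.pow_mem w.2.1 2⟩, rfl⟩
      have := Finset.card_le_card hsub
      rw [← Set.ncard_eq_toFinset_card', Finset.card_insert_of_notMem (by simp [Ne.symm h1, Ne.symm hne]),
        Finset.card_insert_of_notMem (by
          simp only [Finset.mem_singleton]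
          intro e
          rw [ht, pow_two, mul_smul] at e
          exact h1 (MulAction.injective w.1 e).symm), Finset.card_singleton] at this
      omega
    have haX : a ∈ X := by
      refine Finset.mem_filter.2 ⟨Finset.mem_univ _, le_trans ?_ hx⟩
      have hsub : MulAction.orbit R a ⊆ (g • ·) '' MulAction.orbit R₀ x := by
        rintro _ ⟨s, rfl⟩
        have hs : (s : B) ∈ (g • R₀ : Sylow 2 B).1 := s.2
        rw [Sylow.smul_def, Sylow.pointwise_smul_def] at hs
        obtain ⟨v, hv, hvs⟩ := hs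
        refine ⟨(⟨v, hv⟩ : R₀) • x, MulAction.mem_orbit _ _, ?_⟩
        show g • v • x = s.1 • a
        rw [← hvs, ← hg]
        show _ = (g * v * g⁻¹) • g • x
        rw [mul_smul, mul_smul, inv_smul_smul]
      exact (Set.ncard_le_ncard hsub (Set.toFinite _)).trans (Set.ncard_image_le (Set.toFinite _))
    have hX2 : X.card ≤ 2 := by
      by_contra hX
      have hcard := Finset.card_erase_of_mem haX
      obtain ⟨b, hb, c, hc, hbc⟩ := Finset.one_lt_card.1 (by omega : 1 < (X.erase a).card)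
      exact ht1 (h3 t b c (Finset.ne_of_mem_erase hb) (Finset.ne_of_mem_erase hc) hbc
        (hsq a haX) (hsq b (Finset.mem_of_mem_erase hb)) (hsq c (Finset.mem_of_mem_erase hc)))
    -- an odd element normalising `R`
    set N := Subgroup.normalizer ((R : Subgroup B) : Set B) with hN
    obtain ⟨r, hr, hrr, hrN⟩ : ∃ r, r.Prime ∧ r ≠ 2 ∧ r ∣ Nat.card N := by
      have h1 : (R : Subgroup B).relIndex N * N.index = R.1.index :=
        Subgroup.relIndex_mul_index Subgroup.le_normalizer
      have h2 : R.1.index = 153 := by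
        have := Subgroup.card_mul_index R.1
        rw [hRc R, hB, hed.1, show (17 + 1) * 17 * 2 ^ e = 2 ^ (e + 1) * 153 by rw [pow_succ]; ring] at this
        exact Nat.eq_of_mul_eq_mul_left (by positivity) this
      rw [h2, ← card_sylow R] at h1
      have hne1 : (R : Subgroup B).relIndex N ≠ 1 := fun e' => hne (by rwa [e', one_mul] at h1)
      obtain ⟨r, hr, hrd⟩ := Nat.exists_prime_and_dvd hne1
      refine ⟨r, hr, ?_, hrd.trans (Subgroup.relIndex_dvd_card _ _)⟩
      rintro rfl
      have : 2 ∣ 153 := h1 ▸ hrd.mul_right _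
      norm_num at this
    haveI := Fact.mk hr
    obtain ⟨y, hy⟩ := exists_prime_orderOf_dvd_card' (G := N) r hrN
    have hy' : orderOf y.1 = r := by rw [Subgroup.orderOf_coe, hy]
    have hconjR : ∀ z : N, ∀ s ∈ R.1, z.1 * s * z.1⁻¹ ∈ R.1 := fun z s hs =>
      (Subgroup.mem_normalizer_iff.1 z.2 s).1 hs
    have hXinv : ∀ z : N, ∀ p ∈ X, z.1 • p ∈ X := by
      intro z p hp
      refine Finset.mem_filter.2 ⟨Finset.mem_univ _, le_trans ?_ (Finset.mem_filter.1 hp).2⟩
      have hsub : MulAction.orbit R (z.1 • p) ⊆ (z.1 • ·) '' MulAction.orbit R p := by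
        rintro _ ⟨s, rfl⟩
        refine ⟨(z.1⁻¹ * s.1 * z.1) • p, ⟨⟨_, ?_⟩, rfl⟩, ?_⟩
        · have := hconjR z⁻¹ s.1 s.2
          simpa using this
        · show z.1 • (z.1⁻¹ * s.1 * z.1) • p = s.1 • z.1 • p
          rw [← mul_smul, ← mul_smul]
          congr 1
          group
      exact (Set.ncard_le_ncard hsub (Set.toFinite _)).trans (Set.ncard_image_le (Set.toFinite _))
    have hya : y.1 • a = a := by
      by_contra hne'
      have h1 := hXinv y a haX
      have h2 := hXinv (y * y) a haX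
      rw [Subgroup.coe_mul, mul_smul] at h2
      have h3c : y.1 • y.1 • a = a := by
        by_contra h'
        have hsub : ({a, y.1 • a, y.1 • y.1 • a} : Finset α) ⊆ X := by
          intro z hz
          simp only [Finset.mem_insert, Finset.mem_singleton] at hz
          rcases hz with rfl | rfl | rfl
          · exact haX
          · exact h1
          · exact h2
        have := (Finset.card_le_card hsub).trans hX2
        rw [Finset.card_insert_of_notMem (by simp [Ne.symm hne', Ne.symm h']),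
          Finset.card_insert_of_notMem (by
            simp only [Finset.mem_singleton]
            exact fun e' => hne' (MulAction.injective y.1 e').symm), Finset.card_singleton] at this
        omega
      obtain ⟨k, hk⟩ : Odd r := hr.odd_of_ne_two hrr
      have hper : ∀ j : ℕ, (y.1 ^ (2 * j)) • a = a := fun j => by
        induction j with
        | zero => simp
        | succ j ih => rw [show 2 * (j + 1) = 2 * j + 2 by ring, pow_add, mul_smul, pow_two, mul_smul, h3c, ih]
      apply hne'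
      have := pow_orderOf_eq_one y.1
      rw [hy', hk, pow_succ'] at this
      calc y.1 • a = y.1 • (y.1 ^ (2 * k)) • a := by rw [hper]
        _ = a := by rw [← mul_smul, this, one_smul]
    have hyU : y.1 ∈ U := by
      refine (hker ⟨y.1, hya⟩).1 (orderOf_eq_one_iff.1 ?_)
      have h1 : orderOf (φ ⟨y.1, hya⟩) ∣ r := by
        refine (orderOf_map_dvd φ _).trans ?_
        rw [← Subgroup.orderOf_coe]
        exact hy'.dvd
      have h2 : orderOf (φ ⟨y.1, hya⟩) ∣ 16 := by
        refine (orderOf_dvd_natCard _).trans ?_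
        rw [IsCyclic.card_mulAut, hUc, Nat.totient_prime (by norm_num)]
      rcases (Nat.dvd_prime hr).1 h1 with h | h
      · exact h
      · exfalso
        rw [h] at h2
        exact hrr ((Nat.prime_dvd_prime_iff_eq hr Nat.prime_two).1 (hr.dvd_of_dvd_pow (n := 4) h2))
    have hy1 : y.1 ≠ 1 := fun e' => by rw [e', orderOf_one] at hy'; exact hr.ne_one hy'.symm
    have hwU : w.1 ∈ U := by
      refine hkerpt w.1 w.2.2 y.1 hyU hy1 ?_
      have h1 : w.1 * y.1 * w.1⁻¹ * y.1⁻¹ ∈ U :=
        U.mul_mem ((Subgroup.mem_normalizer_iff.1 (hUn w.2.2) _).1 hyU) (U.inv_mem hyU)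
      have h2 : w.1 * y.1 * w.1⁻¹ * y.1⁻¹ ∈ R.1 := by
        rw [show w.1 * y.1 * w.1⁻¹ * y.1⁻¹ = w.1 * (y.1 * w.1⁻¹ * y.1⁻¹) by group]
        exact R.1.mul_mem w.2.1 (hconjR y _ (R.1.inv_mem w.2.1))
      have h3 := hDU _ ⟨h2, hUa h1⟩ h1
      calc w.1 * y.1 = (w.1 * y.1 * w.1⁻¹ * y.1⁻¹) * (y.1 * w.1) := by group
        _ = y.1 * w.1 := by rw [h3, one_mul]
    exact ht1 (by rw [ht, hDU _ w.2 hwU, one_pow])
  · -- Sylow 3
    intro hle
    obtain ⟨R⟩ : Nonempty (Sylow 3 B) := inferInstance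
    obtain ⟨x9, hx9⟩ : ∃ x : B, orderOf x = 9 := by
      obtain ⟨x, hx⟩ := exists_order_nine
      rcases hcases with ⟨-, ⟨e⟩⟩ | ⟨-, ⟨e⟩⟩
      · exact ⟨e.symm (Matrix.ProjectiveSpecialLinearGroup.toPGL x), by
          rw [MulEquiv.orderOf_eq, orderOf_injective _ Matrix.ProjectiveSpecialLinearGroup.toPGL_injective, hx]⟩
      · exact ⟨e.symm x, by rw [MulEquiv.orderOf_eq, hx]⟩
    have hRc : ∀ Q : Sylow 3 B, Nat.card Q = 9 := by
      intro Q
      rw [Q.card_eq_multiplicity, hB]
      have hdd : (((17 + 1) * 17 * Nat.card φ.range)).factorization 3 = 2 := by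
        rw [show (17 + 1) * 17 * Nat.card φ.range = 3 ^ 2 * (2 * 17 * Nat.card φ.range) by ring,
          Nat.factorization_mul (by norm_num) (by have := Nat.card_pos (α := φ.range); positivity),
          Finsupp.add_apply, Nat.Prime.factorization_pow Nat.prime_three, Finsupp.single_eq_same,
          Nat.factorization_eq_zero_of_not_dvd (n := 2 * 17 * Nat.card φ.range)]
        rcases hcases with ⟨h, -⟩ | ⟨h, -⟩ <;> rw [h] <;> norm_num
      rw [hdd]; norm_num
    obtain ⟨Q, hQ⟩ := (IsPGroup.of_card (n := 2) (show Nat.card (Subgroup.zpowers x9) = 3 ^ 2 by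
      rw [Nat.card_zpowers, hx9]; norm_num)).exists_le_sylow
    have hQeq : Subgroup.zpowers x9 = Q.1 :=
      Subgroup.eq_of_le_of_card_ge hQ (by rw [Nat.card_zpowers, hx9, hRc])
    have hxQ : x9 ∈ Q.1 := hQ (Subgroup.mem_zpowers x9)
    haveI : IsCyclic Q := isCyclic_of_orderOf_eq_card (⟨x9, hxQ⟩ : Q) (by
      rw [hRc, ← Subgroup.orderOf_coe]; exact hx9)
    set N := Subgroup.normalizer ((Q : Subgroup B) : Set B) with hN
    -- no element of order 3 fixes a point
    have hnofix : ∀ z : α, ∀ s : B, s • z = z → s ^ 9 = 1 → s = 1 := by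
      intro z s hs hs9
      obtain ⟨g, hg⟩ := MulAction.exists_smul_eq B z a
      have hmem : (g * s * g⁻¹) • a = a := by rw [← hg, mul_smul, mul_smul, inv_smul_smul, hs]
      have h1 : orderOf (g * s * g⁻¹) ∣ 17 * Nat.card φ.range :=
        hAc ▸ Subgroup.orderOf_dvd_natCard A hmem
      have h2 : orderOf (g * s * g⁻¹) ∣ 9 := orderOf_dvd_of_pow_eq_one (by rw [conj_pow, hs9]; group)
      have h3 : Nat.Coprime 9 (17 * Nat.card φ.range) := by
        rcases hcases with ⟨h, -⟩ | ⟨h, -⟩ <;> rw [h] <;> norm_num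
      exact conj_eq_one_iff.1 (orderOf_eq_one_iff.1 (Nat.dvd_one.1 (h3 ▸ Nat.dvd_gcd h2 h1)))
    have hN36 : Nat.card N ≤ 36 := by
      let D := MulAction.stabilizer N a
      have hN1 := Subgroup.card_mul_index D
      rw [MulAction.index_stabilizer] at hN1
      have horb : (MulAction.orbit N a).ncard ≤ 18 := by
        rw [← hα, ← Nat.card_eq_fintype_card, ← Set.ncard_univ]
        exact Set.ncard_le_ncard (Set.subset_univ _) (Set.toFinite _)
      let ψ : D →* MulAut Q := (Q : Subgroup B).normalizerMonoidHom.comp D.subtype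
      have hψ : Function.Injective ψ := by
        refine (injective_iff_map_eq_one ψ).2 fun w hw => ?_
        have hk : w.1 ∈ (Q : Subgroup B).normalizerMonoidHom.ker := hw
        rw [Subgroup.normalizerMonoidHom_ker, Subgroup.mem_subgroupOf] at hk
        have hcx : x9 * w.1.1 = w.1.1 * x9 := hk x9 hxQ
        have hwa : w.1.1 • a = a := w.2
        have hfix : ∀ j : ℕ, w.1.1 • (x9 ^ j) • a = (x9 ^ j) • a := fun j => by
          rw [← mul_smul, ← (Commute.pow_left hcx j).eq, mul_smul, hwa]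
        have hn : ∀ j, 0 < j → j < 9 → (x9 ^ j) • a ≠ a := fun j h0 h9 e' => by
          refine pow_ne_one_of_lt_orderOf h0.ne' (hx9.symm ▸ h9) ?_
          exact hnofix a _ e' (by rw [← pow_mul, mul_comm, pow_mul, ← hx9, pow_orderOf_eq_one, one_pow])
        refine Subtype.ext (Subtype.ext ?_)
        refine h3' w.1.1 a ((x9 ^ 1) • a) ((x9 ^ 2) • a) (hn 1 (by norm_num) (by norm_num))
          (hn 2 (by norm_num) (by norm_num)) ?_ hwa (hfix 1) (hfix 2)
        intro e'
        rw [pow_succ' x9 1, mul_smul, pow_one] at e'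
        exact hn 1 (by norm_num) (by norm_num) (by rw [pow_one]; exact (MulAction.injective x9 e').symm)
      have hD6 : Nat.card D ∣ 6 := by
        have h := Subgroup.card_dvd_of_injective ψ hψ
        rw [IsCyclic.card_mulAut, hRc, show (9 : ℕ) = 3 ^ 2 by norm_num,
          Nat.totient_prime_pow Nat.prime_three (by norm_num)] at h
        simpa using h
      have hD16 : Nat.card D ∣ 17 * Nat.card φ.range := by
        rw [← hAc]
        refine Subgroup.card_dvd_of_injective
          ((N.subtype.comp D.subtype).codRestrict A fun w => w.2) fun u v huv => ?_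
        exact Subtype.ext (Subtype.ext (congrArg (fun z : A => (z : B)) huv))
      have hD2 : Nat.card D ≤ 2 := by
        have h := Nat.dvd_gcd hD6 hD16
        rcases hcases with ⟨h', -⟩ | ⟨h', -⟩ <;> rw [h'] at h <;> exact Nat.le_of_dvd (by norm_num) h
      rw [← hN1]
      exact le_trans (Nat.mul_le_mul hD2 horb) (by norm_num)
    have hidx := Subgroup.card_mul_index N
    rw [← card_sylow Q, hB] at hidx
    have hmod : Nat.card (Sylow 3 B) % 3 = 1 := card_sylow_modEq_one 3 B
    obtain ⟨m, hm⟩ : 9 ∣ Nat.card N := by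
      rw [← hRc Q]; exact Subgroup.card_dvd_of_le Subgroup.le_normalizer
    rw [hm] at hidx hN36
    have hm4 : m ≤ 4 := by omega
    rcases hcases with ⟨h, -⟩ | ⟨h, -⟩ <;> rw [h] at hidx <;> interval_cases m <;> omega

/-- The kernel of the action on the eighteen Sylow subgroups is trivial. -/
theorem kernel_trivial (hZ : Subgroup.center G = ⊥) [Fact (Nat.Prime 17)] {H : Type*} [Group H] {f : G →* H}
    (hf : Function.Surjective f)
    (hset : ∀ r : ℕ, r.Prime → r ∣ Nat.card G →
      (r = 17 ∧ Nat.card (Sylow r G) = 18) ∨ (r = 3 ∧ Nat.card (Sylow r G) = 136) ∨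
      (r = 2 ∧ Nat.card (Sylow r G) = 153) ∨ (r = 5 ∧ Nat.card (Sylow r G) = 136) ∨
      (r = 19 ∧ Nat.card (Sylow r G) = 153))
    (h5 : ∀ r : ℕ, r = 5 ∨ r = 19 → ¬ r ∣ Nat.card H)
    (h17 : ∀ P : Sylow 17 G, f.ker ≤ Subgroup.normalizer ((P : Subgroup G) : Set G))
    (h2 : Nat.card (Sylow 2 H) = Nat.card (Sylow 2 G)) (h3 : Nat.card (Sylow 3 H) = Nat.card (Sylow 3 G)) :
    f.ker = ⊥ := by
  classical
  haveI : Finite H := Finite.of_surjective f hf
  have hnorm : ∀ r : ℕ, ∀ _ : Fact r.Prime, r ≠ 5 → r ≠ 19 → r ∣ Nat.card G → ∀ R : Sylow r G,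
      f.ker ≤ Subgroup.normalizer ((R : Subgroup G) : Set G) := by
    intro r hr hr5 hr19 hrd R
    rcases hset r hr.out hrd with ⟨rfl, -⟩ | ⟨rfl, -⟩ | ⟨rfl, -⟩ | ⟨rfl, -⟩ | ⟨rfl, -⟩
    · exact h17 R
    · exact ker_le_normalizer hf h3 R
    · exact ker_le_normalizer hf h2 R
    · exact absurd rfl hr5
    · exact absurd rfl hr19
  -- the intersections are normal
  have hSn : ∀ r : ℕ, ∀ _ : Fact r.Prime, r ≠ 5 → r ≠ 19 → r ∣ Nat.card G → ∀ R : Sylow r G,
      ((R : Subgroup G) ⊓ f.ker).Normal := by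
    intro r hr hr5 hr19 hrd R
    have hall : ∀ R₁ R₂ : Sylow r G, (R₁ : Subgroup G) ⊓ f.ker ≤ R₂ := by
      intro R₁ R₂
      have h := (R₁.2.to_le (inf_le_left (b := f.ker))).inf_normalizer_sylow R₂
      have hle : (R₁ : Subgroup G) ⊓ f.ker ≤ Subgroup.normalizer ((R₂ : Subgroup G) : Set G) :=
        inf_le_right.trans (hnorm r hr hr5 hr19 hrd R₂)
      have h : (R₁ : Subgroup G) ⊓ f.ker ⊓ Subgroup.normalizer ((R₂ : Subgroup G) : Set G) = (R₁ : Subgroup G) ⊓ f.ker ⊓ R₂ := h; rw [inf_eq_left.2 hle] at h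
      exact inf_eq_left.1 h.symm
    refine ⟨fun x hx g => ⟨?_, f.normal_ker.conj_mem x hx.2 g⟩⟩
    have hx' : x ∈ (g⁻¹ • R : Sylow r G).1 := hall R _ hx
    rw [Sylow.smul_def, Sylow.pointwise_smul_def] at hx'
    obtain ⟨v, hv, hvx⟩ := hx'
    rw [← hvx]
    show g * (g⁻¹ * v * g⁻¹⁻¹) * g⁻¹ ∈ R.1
    rw [show g * (g⁻¹ * v * g⁻¹⁻¹) * g⁻¹ = v by group]
    exact hv
  -- no prime 5 or 19
  have hnor : ∀ r : ℕ, r = 5 ∨ r = 19 → ¬ r ∣ Nat.card G := by
    intro r hr hrd
    haveI hrp : Fact r.Prime := ⟨by rcases hr with rfl | rfl <;> norm_num⟩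
    obtain ⟨R⟩ : Nonempty (Sylow r G) := inferInstance
    have hn : Nat.card (Sylow r G) = 136 ∨ Nat.card (Sylow r G) = 153 := by
      rcases hset r hrp.out hrd with ⟨rfl, -⟩ | ⟨rfl, -⟩ | ⟨rfl, -⟩ | ⟨rfl, h⟩ | ⟨rfl, h⟩
      all_goals first | exact Or.inl h | exact Or.inr h | omega
    have hRK : (R : Subgroup G) ≤ f.ker := by
      intro x hx
      have h1 : orderOf (f x) ∣ Nat.card R :=
        (orderOf_map_dvd f x).trans (Subgroup.orderOf_dvd_natCard _ hx)
      obtain ⟨k, hk⟩ := IsPGroup.iff_card.1 R.2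
      rw [hk] at h1
      obtain ⟨j, -, hj⟩ := (Nat.dvd_prime_pow hrp.out).1 h1
      cases j with
      | zero => exact orderOf_eq_one_iff.1 hj
      | succ j => exact absurd ((Dvd.intro_left _ (pow_succ r j).symm).trans (hj ▸ orderOf_dvd_natCard (f x))) (h5 r hr)
    have h17d : 17 ∣ Nat.card (Sylow r G) := by rcases hn with h | h <;> rw [h] <;> norm_num
    obtain ⟨P⟩ : Nonempty (Sylow 17 G) := inferInstance
    have h17G : 17 ∣ Nat.card G :=
      h17d.trans ((Sylow.card_dvd_index R).trans (Subgroup.index_dvd_card _))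
    haveI := hSn 17 inferInstance (by norm_num) (by norm_num) h17G P
    set S := (P : Subgroup G) ⊓ f.ker
    have hSle : S ≤ Subgroup.normalizer ((R : Subgroup G) : Set G) :=
      le_normalizer_of_no_factor (by norm_num : Nat.Prime 17) R S (P.2.to_le inf_le_left) fun a ha => by
        have hb : a = 0 := by
          by_contra hne
          have h2 : 17 ^ 2 ≤ 17 ^ (a + 1) := Nat.pow_le_pow_right (by norm_num) (by omega)
          have := Nat.le_of_dvd (by omega) ha
          omega
        subst hb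
        rcases hr with rfl | rfl <;> norm_num
    -- the kernel holds a full set of conjugates
    set N := Subgroup.normalizer ((R : Subgroup G) : Set G)
    have htop : N ⊔ f.ker = ⊤ := by
      refine eq_top_iff.2 fun g _ => ?_
      have hR' : ((g • R : Sylow r G) : Subgroup G) ≤ f.ker := by
        rw [Sylow.smul_def, Sylow.pointwise_smul_def]
        rintro _ ⟨v, hv, rfl⟩
        exact f.normal_ker.conj_mem v (hRK hv) g
      obtain ⟨k, hk⟩ := MulAction.exists_smul_eq f.ker (R.subtype hRK) ((g • R).subtype hR')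
      rw [Sylow.smul_subtype] at hk
      have := Sylow.subtype_injective hk
      have h1 : k.1⁻¹ * g ∈ N := Sylow.smul_eq_iff_mem_normalizer.1 (by
        rw [mul_smul, ← this]
        exact inv_smul_smul k.1 R)
      rw [show g = k.1 * (k.1⁻¹ * g) by group]
      exact Subgroup.mul_mem _ (Subgroup.mem_sup_right k.2) (Subgroup.mem_sup_left h1)
    have hidx : N.index = N.relIndex f.ker := by
      rw [← relIndex_sup_eq (S := f.ker) N, htop, Subgroup.relIndex_top_right]
    have hidx' : N.index ∣ S.relIndex f.ker := by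
      rw [hidx, ← Subgroup.inf_relIndex_right N f.ker, ← Subgroup.relIndex_mul_relIndex S (N ⊓ f.ker) f.ker
        (le_inf hSle inf_le_right) inf_le_right]
      exact Dvd.intro_left _ rfl
    have hnot : ¬ 17 ∣ S.relIndex f.ker := by
      have hPK : (P : Subgroup G).relIndex ((P : Subgroup G) ⊔ f.ker) = S.relIndex f.ker := by
        rw [relIndex_sup_eq, ← Subgroup.inf_relIndex_right]
      rw [← hPK]
      intro h
      exact P.not_dvd_index
        (h.trans (Subgroup.relIndex_dvd_index_of_le le_sup_left))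
    exact hnot ((card_sylow R ▸ h17d).trans hidx')
  have hne : ∀ q : ℕ, q.Prime → q ∣ Nat.card G → q ≠ 5 ∧ q ≠ 19 := fun q _ hqd =>
    ⟨fun e => hnor q (Or.inl e) hqd, fun e => hnor q (Or.inr e) hqd⟩
  by_contra hK
  obtain ⟨q, hq, hqK⟩ := Nat.exists_prime_and_dvd
    (show Nat.card f.ker ≠ 1 from fun h => hK (Subgroup.card_eq_one.1 h))
  haveI := Fact.mk hq
  have hqG : q ∣ Nat.card G := hqK.trans (Subgroup.card_subgroup_dvd_card _)
  obtain ⟨x, hx⟩ := exists_prime_orderOf_dvd_card' (G := f.ker) q hqK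
  have hx' : orderOf x.1 = q := by rw [Subgroup.orderOf_coe, hx]
  obtain ⟨R, hR⟩ := (IsPGroup.of_card (n := 1) (show Nat.card (Subgroup.zpowers x.1) = q ^ 1 by
    rw [Nat.card_zpowers, hx', pow_one])).exists_le_sylow
  haveI hSnq := hSn q inferInstance (hne q hq hqG).1 (hne q hq hqG).2 hqG R
  set S := (R : Subgroup G) ⊓ f.ker with hS
  have hSne : S.subgroupOf R ≠ ⊥ := by
    intro e
    have h1 : (⟨x.1, hR (Subgroup.mem_zpowers _)⟩ : R) ∈ S.subgroupOf R :=
      ⟨hR (Subgroup.mem_zpowers _), x.2⟩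
    rw [e, Subgroup.mem_bot] at h1
    have : x.1 = 1 := congrArg Subtype.val h1
    rw [this, orderOf_one] at hx'
    exact hq.ne_one hx'.symm
  obtain ⟨z, hz, hz1⟩ := (Subgroup.bot_or_exists_ne_one _).resolve_left
    (Cfsg.Lib.PGroup.inf_center_ne_bot R.2 hSne)
  have hzc : z.1 ∈ Subgroup.center G := by
    refine central_of_all_sylow fun r hr hrd => ?_
    haveI := hr
    by_cases hrq : r = q
    · subst hrq
      exact ⟨R, fun w hw => (congrArg Subtype.val (Subgroup.mem_center_iff.1 hz.2 ⟨w, hw⟩)).symm⟩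
    obtain ⟨R'⟩ : Nonempty (Sylow r G) := inferInstance
    refine ⟨R', fun w hw => ?_⟩
    have hzS : z.1 ∈ S := hz.1
    have hzN := hnorm r hr (hne r hr.out hrd).1 (hne r hr.out hrd).2 hrd R' hzS.2
    have h1 : z.1 * w * z.1⁻¹ * w⁻¹ ∈ S := by
      rw [show z.1 * w * z.1⁻¹ * w⁻¹ = z.1 * (w * z.1⁻¹ * w⁻¹) by group]
      exact S.mul_mem hzS (hSnq.conj_mem _ (S.inv_mem hzS) w)
    have h2 : z.1 * w * z.1⁻¹ * w⁻¹ ∈ R'.1 :=
      R'.1.mul_mem ((Subgroup.mem_normalizer_iff.1 hzN w).1 hw) (R'.1.inv_mem hw)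
    have h3 : z.1 * w * z.1⁻¹ * w⁻¹ = 1 := by
      refine Subgroup.mem_bot.1 ?_
      rw [← (IsPGroup.disjoint_of_ne q r (Ne.symm hrq) _ _ (R.2.to_le inf_le_left) R'.2).eq_bot]
      exact ⟨h1, h2⟩
    calc z.1 * w = (z.1 * w * z.1⁻¹ * w⁻¹) * (w * z.1) := by group
      _ = w * z.1 := by rw [h3, one_mul]
  rw [hZ, Subgroup.mem_bot] at hzc
  exact hz1 (Subtype.ext hzc)


/-- Let G be a finite group with trivial centre whose set of Sylow numbers (numbers of Sylow r-subgroups, r over the prime divisors of its order) is exactly {18, 136, 153}. Then G is isomorphic to PSL(2, 17) or to PGL(2, 17). -/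
theorem result {G : Type*} [Group G] [Finite G] (hZ : Subgroup.center G = ⊥) (hNS : {c : ℕ | ∃ r : ℕ, r.Prime ∧ r ∣ Nat.card G ∧ c = Nat.card (Sylow r G)} = ({18, 136, 153} : Set ℕ))
    {F : Type*} [Field F] [Fintype F] (hF : Fintype.card F = 17) :
    Nonempty (G ≃* Matrix.ProjectiveSpecialLinearGroup (Fin 2) F) ∨ Nonempty (G ≃* (GL (Fin 2) F ⧸ Subgroup.center (GL (Fin 2) F))) := by
  classical
  haveI : Fact (Nat.Prime 17) := ⟨by norm_num⟩
  have hset : ∀ r : ℕ, r.Prime → r ∣ Nat.card G →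
      (r = 17 ∧ Nat.card (Sylow r G) = 18) ∨ (r = 3 ∧ Nat.card (Sylow r G) = 136) ∨
      (r = 2 ∧ Nat.card (Sylow r G) = 153) ∨ (r = 5 ∧ Nat.card (Sylow r G) = 136) ∨
      (r = 19 ∧ Nat.card (Sylow r G) = 153) := by
    intro r hr hrd
    haveI := Fact.mk hr
    have hmem : Nat.card (Sylow r G) ∈ ({18, 136, 153} : Set ℕ) := hNS ▸ ⟨r, hr, hrd, rfl⟩
    refine primes_of_sylow_numbers hr ?_ ?_
    · simpa using hmem
    · exact Eq.trans (card_sylow_modEq_one r G) (Nat.one_mod_eq_one.2 hr.ne_one)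
  have hget : ∀ c, c = 18 ∨ c = 136 ∨ c = 153 → ∃ r : ℕ, r.Prime ∧ r ∣ Nat.card G ∧ c = Nat.card (Sylow r G) := by
    intro c hc
    have : c ∈ ({18, 136, 153} : Set ℕ) := by simpa using hc
    rwa [← hNS] at this
  obtain ⟨r, hr, hrd, hrc⟩ := hget 18 (Or.inl rfl)
  obtain rfl : r = 17 := by
    rcases hset r hr hrd with ⟨h, -⟩ | ⟨-, h⟩ | ⟨-, h⟩ | ⟨-, h⟩ | ⟨-, h⟩
    · exact h
    all_goals omega
  have h23 : 2 ∣ Nat.card G ∧ 3 ∣ Nat.card G := by
    have : 18 ∣ Nat.card G := by
      obtain ⟨P⟩ : Nonempty (Sylow 17 G) := inferInstance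
      exact hrc ▸ (Sylow.card_dvd_index P).trans (Subgroup.index_dvd_card _)
    exact ⟨(by norm_num : 2 ∣ 18).trans this, (by norm_num : 3 ∣ 18).trans this⟩
  haveI := Fintype.ofFinite (Sylow 17 G)
  let α := Sylow 17 G
  have hα : Fintype.card α = 18 := by rw [← Nat.card_eq_fintype_card]; exact hrc.symm
  let ψ : G →* Equiv.Perm α := MulAction.toPermHom G α
  let f := ψ.rangeRestrict
  have hf : Function.Surjective f := ψ.rangeRestrict_surjective
  have hsmul : ∀ (g : G) (c : α), f g • c = g • c := fun g c => rfl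
  haveI : MulAction.IsPretransitive ψ.range α := ⟨fun x y => by
    obtain ⟨g, hg⟩ := MulAction.exists_smul_eq G x y
    exact ⟨f g, hg⟩⟩
  obtain ⟨P⟩ : Nonempty α := inferInstance
  obtain ⟨hrec, h2imp, h3imp⟩ := image_facts (α := α) hα ψ.range P ((P : Subgroup G).map f) (by
    rintro _ ⟨u, hu, rfl⟩
    exact Sylow.smul_eq_iff_mem_normalizer.2 (Subgroup.le_normalizer hu)) (by
    intro b hb
    obtain ⟨g, rfl⟩ := hf b
    have hg : g ∈ Subgroup.normalizer ((P : Subgroup G) : Set G) := Sylow.smul_eq_iff_mem_normalizer.1 hb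
    have hle : ∀ g' : G, g' ∈ Subgroup.normalizer ((P : Subgroup G) : Set G) →
        ∀ v ∈ (P : Subgroup G).map f, f g' * v * (f g')⁻¹ ∈ (P : Subgroup G).map f := by
      rintro g' hg' _ ⟨u, hu, rfl⟩
      exact ⟨g' * u * g'⁻¹, (Subgroup.mem_normalizer_iff.1 hg' u).1 hu, by simp⟩
    refine Subgroup.mem_normalizer_iff.2 fun v => ⟨hle g hg v, fun hv => ?_⟩
    have := hle g⁻¹ (inv_mem hg) _ hv
    simpa [mul_assoc] using this) (P.2.map f) (by
    intro c hc
    have hle : (P : Subgroup G) ≤ Subgroup.normalizer (c : Set G) := fun u hu =>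
      Sylow.smul_eq_iff_mem_normalizer.1 (hc (f u) ⟨u, hu, rfl⟩)
    have h := P.2.inf_normalizer_sylow c
    rw [inf_eq_left.2 hle] at h
    exact Sylow.ext (P.3 c.2 (inf_eq_left.1 h.symm)))
  have hle : ∀ r : ℕ, ∀ _ : Fact r.Prime, Nat.card (Sylow r ψ.range) ≤ Nat.card (Sylow r G) := fun r hr =>
    Nat.card_le_card_of_surjective _ (Sylow.mapSurjective_surjective hf r)
  have hn : ∀ r : ℕ, r.Prime → r ∣ Nat.card G → (r = 2 → Nat.card (Sylow r G) = 153) ∧
      (r = 3 → Nat.card (Sylow r G) = 136) := fun r hr hrd => by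
    rcases hset r hr hrd with ⟨rfl, h⟩ | ⟨rfl, h⟩ | ⟨rfl, h⟩ | ⟨rfl, h⟩ | ⟨rfl, h⟩ <;>
      exact ⟨fun e => by omega, fun e => by omega⟩
  have h2 : Nat.card (Sylow 2 ψ.range) = Nat.card (Sylow 2 G) := by
    have h153 := (hn 2 Nat.prime_two h23.1).1 rfl
    rw [h153]
    refine h2imp ?_
    obtain ⟨R⟩ : Nonempty (Sylow 2 G) := inferInstance
    rw [← h153, card_sylow R, card_sylow (R.mapSurjective hf)]
    refine dvd_trans (Subgroup.index_dvd_of_le ?_)
      (Subgroup.index_map_dvd _ hf)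
    rintro _ ⟨g, hg, rfl⟩
    refine Sylow.smul_eq_iff_mem_normalizer.1 ?_
    rw [← map_smul hf, Sylow.smul_eq_iff_mem_normalizer.2 hg]
  have h3 : Nat.card (Sylow 3 ψ.range) = Nat.card (Sylow 3 G) := by
    have h136 := (hn 3 Nat.prime_three h23.2).2 rfl
    rw [h136]
    exact h3imp ((hle 3 inferInstance).trans h136.le)
  have hker : f.ker = ⊥ := by
    refine kernel_trivial hZ hf hset ?_ ?_ h2 h3
    · intro r hr hrd
      have hcard : Nat.card ψ.range ∣ Nat.factorial 18 := by
        rw [← hα, ← Fintype.card_perm (α := α), ← Nat.card_eq_fintype_card]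
        exact Subgroup.card_subgroup_dvd_card _
      rcases hr with rfl | rfl
      · rcases hrec with ⟨⟨e⟩⟩ | ⟨⟨e⟩⟩
        · rw [Nat.card_congr e.toEquiv, Cfsg.Lib.Dickson.card_PGL_two_eq, ZMod.card] at hrd
          norm_num at hrd
        · have h1 := Subgroup.card_dvd_of_injective (Matrix.ProjectiveSpecialLinearGroup.toPGL
            (n := Fin 2) (R := ZMod 17)) Matrix.ProjectiveSpecialLinearGroup.toPGL_injective
          rw [← Nat.card_congr e.toEquiv, Cfsg.Lib.Dickson.card_PGL_two_eq, ZMod.card] at h1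
          have h5 := hrd.trans h1
          norm_num at h5
      · have h19 := hrd.trans hcard
        norm_num [Nat.factorial] at h19
    · intro Q k hk
      refine Sylow.smul_eq_iff_mem_normalizer.1 ?_
      rw [← hsmul, show f k = 1 from hk, one_smul]
  let e0 : G ≃* ψ.range := MulEquiv.ofBijective f ⟨(MonoidHom.ker_eq_bot_iff f).1 hker, hf⟩
  let φ : ZMod 17 ≃+* F := FiniteField.ringEquivOfCardEq (by rw [ZMod.card, hF])
  rcases hrec with ⟨⟨e⟩⟩ | ⟨⟨e⟩⟩
  · exact Or.inr ⟨(e0.trans e).trans (Cfsg.Lib.Dickson.pglEquiv φ)⟩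
  · exact Or.inl ⟨(e0.trans e).trans (Cfsg.Lib.Dickson.pslEquiv φ)⟩

end Cfsg.Agent.S3641
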