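import Cfsg.Statements.S3643
import Cfsg.Agent.Lib.MTwelveGraph.Main

set_option autoImplicit false
open Cfsg

namespace Cfsg.Agent.S3643

/-- Let G be a finite group of the same order as the Mathieu group M₁₂ whose character degree graph equals that of M₁₂ (same primes dividing some irreducible complex character degree, same pairs of distinct primes whose product divides some degree). Then G is isomorphic to M₁₂ or to the direct product of the alternating group of degree 4 with M₁₁. -/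
theorem result {G : Type*} [Group G] [Finite G] (hcard : Nat.card G = Nat.card ↥Cfsg.Spor.M12) (hΔ : Cfsg.degreePrimes G = Cfsg.degreePrimes ↥Cfsg.Spor.M12 ∧ Cfsg.degreeGraph G = Cfsg.degreeGraph ↥Cfsg.Spor.M12) :
    Nonempty (G ≃* ↥Cfsg.Spor.M12) ∨ Nonempty (G ≃* alternatingGroup (Fin 4) × ↥Cfsg.Spor.M11) := by
  classical
  haveI := Fintype.ofFinite G
  haveI := Fintype.ofFinite ↥Spor.M12
  have hle : Spor.M11 ≤ Spor.M12 := inf_le_left
  let eH := Subgroup.subgroupOfEquivOfLe hle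
  have hH : Nat.card (Spor.M11.subgroupOf Spor.M12) = 7920 :=
    (Nat.card_congr eH.toEquiv).trans Cfsg.Lib.Concrete.card_sporM11
  haveI := Cfsg.Lib.Concrete.isSimple_sporM11
  have hHs : IsSimpleGroup (Spor.M11.subgroupOf Spor.M12) := eH.isSimpleGroup_congr.2 ‹_›
  have hM : IsM12 ↥Spor.M12 := ⟨Cfsg.Lib.Concrete.isSimple_sporM12, Cfsg.Lib.Concrete.card_sporM12⟩
  obtain ⟨⟨χ, hχ⟩, φ, hφ⟩ := Cfsg.Lib.MTwelveGraph.degrees_dvd hM hH hHs
  have key : ∀ p q : ℕ, p ≠ q → p.Prime → q.Prime → (∃ ξ : IrrCharacter ↥Spor.M12, p * q ∣ charDegree (ξ : ↥Spor.M12 → ℂ)) →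
      ∃ η : IrrCharacter G, p * q ∣ charDegree (η : G → ℂ) := by
    intro p q hne hp hq ⟨ξ, hξ⟩
    have h : (degreeGraph ↥Spor.M12).Adj p q := ⟨hne, hp, hq, _, ⟨ξ, rfl⟩, hξ⟩
    rw [← hΔ.2] at h
    obtain ⟨-, -, -, d, ⟨η, hη⟩, hd⟩ := h
    exact ⟨η, hη ▸ hd⟩
  exact Cfsg.Lib.MTwelveGraph.main (hcard.trans Cfsg.Lib.Concrete.card_sporM12)
    (key 5 11 (by norm_num) (by norm_num) (by norm_num) ⟨χ, hχ⟩)
    (key 3 11 (by norm_num) (by norm_num) (by norm_num) ⟨φ, hφ⟩)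

end Cfsg.Agent.S3643
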