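import Cfsg.Statements.S3660
import Cfsg.Agent.Lib.Spec.Unbounded
import Cfsg.Agent.Lib.Spec.SLTwo

set_option autoImplicit false
open Cfsg

namespace Cfsg.Agent.S3660

open Cfsg.Lib.Spec

/-- The prime graph of a finite group has the prime divisors of its order as vertices, two distinct primes p, q being joined when the group has an element of order pq; two groups have the same prime graph when they have the same prime divisors and the same joined pairs. Let F be a finite field of characteristic 2 with at least 4 elements. Then there are finite groups of arbitrarily large order with the same prime graph as PSL(2,F); in particular PSL(2,F) is not determined by its prime graph. -/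
theorem result {F : Type*} [Field F] [Fintype F] [CharP F 2] (hF : 4 ≤ Fintype.card F) (N : ℕ) :
    ∃ (H : Type) (_ : Group H) (_ : Finite H), N < Nat.card H ∧
      ((∀ p : ℕ, p.Prime → (p ∣ Nat.card (Matrix.ProjectiveSpecialLinearGroup (Fin 2) F) ↔ p ∣ Nat.card H)) ∧
      (∀ p q : ℕ, p.Prime → q.Prime → p ≠ q → ((∃ g : (Matrix.ProjectiveSpecialLinearGroup (Fin 2) F), orderOf g = p * q) ↔ (∃ g : H, orderOf g = p * q)))) := by
  classical
  have hW : ∀ w : Multiplicative (Fin 2 → F), w ^ 2 = 1 := fun w => by
    apply Multiplicative.toAdd.injective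
    rw [toAdd_pow, two_nsmul, toAdd_one]
    exact funext fun i => CharTwo.add_self_eq_zero _
  have h2 : 2 ∣ Nat.card (Matrix.SpecialLinearGroup (Fin 2) F) := by
    let u : Matrix.SpecialLinearGroup (Fin 2) F := ⟨!![1, 1; 0, 1], by simp [Matrix.det_fin_two_of]⟩
    have hu : u ^ 2 = 1 := by
      refine sq_eq_one_of_trace_zero _ ?_
      simp [u, trc, CharTwo.add_self_eq_zero]
    have ho := orderOf_eq_prime hu fun h => by
      have := congrFun (congrFun (congrArg Subtype.val h) 0) 1
      simp [u] at this
    have h := orderOf_dvd_natCard u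
    rwa [ho] at h
  let e := pslEquivOfCharTwo (F := F)
  refine exists_primeGraph_large (natAct (F := F)) Nat.prime_two hW h2 ?_
    (fun p _ => by rw [Nat.card_congr e.toEquiv]) (fun p q _ _ _ =>
      ⟨fun ⟨g, hg⟩ => ⟨e g, by rw [MulEquiv.orderOf_eq, hg]⟩,
       fun ⟨g, hg⟩ => ⟨e.symm g, by rw [MulEquiv.orderOf_eq, hg]⟩⟩) N
  intro g hg hne w hw hfix
  exact absurd ((Nat.prime_dvd_prime_iff_eq hg Nat.prime_two).mp
    (orderOf_dvd_of_pow_eq_one (sq_eq_one_of_fixed g hw hfix))) hne

end Cfsg.Agent.S3660
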