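import Cfsg.Statements.S3662
import Mathlib
import Cfsg.Agent.Lib.Chev.G2FourAction
import Cfsg.Agent.S1059

set_option autoImplicit false
open Cfsg

namespace Cfsg.Agent.S3662



/-- The prime graph of a finite group has the prime divisors of its order as vertices, two distinct primes p, q being joined when the group has an element of order pq; two groups have the same prime graph when they have the same prime divisors and the same joined pairs. Let F be the field with 4 elements and L the Chevalley group of type G₂ over F. There are finite groups of arbitrarily large order with the same prime graph as L. -/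
theorem result {F : Type*} [Field F] [Fintype F] (hF : Fintype.card F = 4) (N : ℕ) :
    ∃ (H : Type) (_ : Group H) (_ : Finite H), N < Nat.card H ∧
      ((∀ p : ℕ, p.Prime → (p ∣ Nat.card ↥(Cfsg.Lie.chevG2.group F) ↔ p ∣ Nat.card H)) ∧
      (∀ p q : ℕ, p.Prime → q.Prime → p ≠ q → ((∃ g : ↥(Cfsg.Lie.chevG2.group F), orderOf g = p * q) ↔ (∃ g : H, orderOf g = p * q)))) := by
  open Cfsg.Lib.Chev.G2Four in
    exact (by
      classical
      obtain ⟨φ, htrans, ⟨g6, h6⟩, ⟨g10, h10⟩⟩ := exists_action hF
      have hGcard : Nat.card ↥(Cfsg.Lie.chevG2.group F) = 4 ^ 6 * (4 ^ 2 - 1) * (4 ^ 6 - 1) :=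
        Cfsg.Agent.S1059.result hF
      haveI : Finite ↥(Cfsg.Lie.chevG2.group F) := inferInstance
      -- a prime dividing the order of an element with a fixed vector is small
      have hfix : ∀ (g : ↥(Cfsg.Lie.chevG2.group F)) (v : Vec), v ≠ 1 → φ g v = v →
          orderOf g ∣ 61440 := by
        intro g v hv hg
        letI : MulAction ↥(Cfsg.Lie.chevG2.group F) Vec := MulAction.compHom Vec φ
        have horb : MulAction.orbit ↥(Cfsg.Lie.chevG2.group F) v = {1}ᶜ := by
          ext u
          constructor
          · rintro ⟨g, rfl⟩ h1
            have h1' : φ g v = 1 := h1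
            exact hv ((φ g).injective (h1'.trans (map_one (φ g)).symm))
          · intro hu
            exact htrans v u hv hu
        have hos := MulAction.index_stabilizer ↥(Cfsg.Lie.chevG2.group F) v
        rw [horb, Set.ncard_compl, Set.ncard_singleton, card_vec] at hos
        have hmul := Subgroup.index_mul_card (MulAction.stabilizer ↥(Cfsg.Lie.chevG2.group F) v)
        rw [hos, hGcard] at hmul
        have hst : Nat.card ↥(MulAction.stabilizer ↥(Cfsg.Lie.chevG2.group F) v) = 61440 := by
          norm_num at hmul ⊢
          omega
        exact hst ▸ Subgroup.orderOf_dvd_natCard (MulAction.stabilizer ↥(Cfsg.Lie.chevG2.group F) v) hg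
      -- elements of the orders ten and six
      have hex : ∀ n : ℕ, (∃ g : ↥(Cfsg.Lie.chevG2.group F), orderOf (φ g) = n) → 0 < n →
          ∃ g : ↥(Cfsg.Lie.chevG2.group F), orderOf g = n := by
        rintro n ⟨g, hg⟩ hn
        have hd : n ∣ orderOf g := hg ▸ orderOf_map_dvd φ g
        exact ⟨g ^ (orderOf g / n), orderOf_pow_orderOf_div (orderOf_pos g).ne' hd⟩
      -- the group
      let k := N + 1
      let V := Fin k → Vec
      let e := equivShrink.{0} ↥(Cfsg.Lie.chevG2.group F)
      letI : Group (Shrink.{0} ↥(Cfsg.Lie.chevG2.group F)) := e.symm.group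
      let me : Shrink.{0} ↥(Cfsg.Lie.chevG2.group F) ≃* ↥(Cfsg.Lie.chevG2.group F) := e.symm.mulEquiv
      let ψ : Shrink.{0} ↥(Cfsg.Lie.chevG2.group F) →* MulAut V :=
        MonoidHom.mk' (fun g => MulEquiv.piCongrRight fun _ => φ (me g))
          (fun a b => by
            apply MulEquiv.ext
            intro v
            funext i
            simp only [MulEquiv.piCongrRight, map_mul, MulAut.mul_apply]
            rfl)
      have hsq : ∀ v : V, v * v = 1 := fun v => funext fun i => mul_self_vec (v i)
      haveI : Finite (SemidirectProduct V (Shrink.{0} ↥(Cfsg.Lie.chevG2.group F)) ψ) :=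
        Finite.of_equiv _ SemidirectProduct.equivProd.symm
      let H := SemidirectProduct V (Shrink.{0} ↥(Cfsg.Lie.chevG2.group F)) ψ
      let pr : H →* ↥(Cfsg.Lie.chevG2.group F) := me.toMonoidHom.comp SemidirectProduct.rightHom
      have hsec : ∀ g : ↥(Cfsg.Lie.chevG2.group F), ∃ h : H, orderOf h = orderOf g := fun g =>
        ⟨SemidirectProduct.inr (me.symm g), by
          rw [orderOf_injective SemidirectProduct.inr SemidirectProduct.inr_injective, MulEquiv.orderOf_eq]⟩
      have hH : Nat.card H = 4096 ^ k * Nat.card ↥(Cfsg.Lie.chevG2.group F) := by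
        rw [Nat.card_congr SemidirectProduct.equivProd, Nat.card_prod, Nat.card_pi, Finset.prod_const,
          Finset.card_univ, Fintype.card_fin, card_vec, Nat.card_congr me.toEquiv]
      refine ⟨H, inferInstance, inferInstance, ?_, ?_, ?_⟩
      · rw [hH]
        calc N < 4096 ^ k := lt_of_lt_of_le (Nat.lt_two_pow_self (n := N))
              ((Nat.pow_le_pow_left (by norm_num) N).trans (Nat.pow_le_pow_right (by norm_num) (Nat.le_succ N)))
          _ ≤ _ := Nat.le_mul_of_pos_right _ Nat.card_pos
      · intro p hp
        rw [hH]
        refine ⟨fun h => h.mul_left _, fun h => ?_⟩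
        rcases hp.dvd_mul.1 h with h | h
        · have := hp.dvd_of_dvd_pow h
          rw [show (4096 : ℕ) = 2 ^ 12 by norm_num] at this
          have h2 := (Nat.prime_dvd_prime_iff_eq hp Nat.prime_two).1 (hp.dvd_of_dvd_pow this)
          subst h2
          rw [hGcard]
          norm_num
        · exact h
      · intro p q hp hq hpq
        refine ⟨fun ⟨g, hg⟩ => (hsec g).imp fun h e => e.trans hg, fun ⟨h, hh⟩ => ?_⟩
        -- the projection
        have hker : ∀ x : H, pr x = 1 → x * x = 1 := by
          intro x hx
          have hr : x.right = 1 := me.injective (hx.trans (map_one me).symm)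
          refine SemidirectProduct.ext ?_ ?_
          · show x.left * ψ x.right x.left = 1
            rw [hr, map_one, MulAut.one_apply]
            exact hsq _
          · show x.right * x.right = 1
            rw [hr, one_mul]
        have key : ∀ r : ℕ, r.Prime → r ≠ 2 → ∀ x : H, orderOf x = 2 * r →
            ∃ g : ↥(Cfsg.Lie.chevG2.group F), orderOf g = 2 * r := by
          intro r hr hr2 x hx
          by_cases hd : 2 * r ∣ orderOf (pr x)
          · exact ⟨pr x ^ (orderOf (pr x) / (2 * r)), orderOf_pow_orderOf_div (orderOf_pos _).ne' hd⟩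
          -- the image has order dividing `r`
          have hdvd : orderOf (pr x) ∣ 2 * r := hx ▸ orderOf_map_dvd pr x
          have h2r : r ∣ orderOf (pr x) := by
            have h1 : (x ^ orderOf (pr x)) * (x ^ orderOf (pr x)) = 1 :=
              hker _ (by rw [map_pow, pow_orderOf_eq_one])
            rw [← pow_add] at h1
            have h3 := orderOf_dvd_of_pow_eq_one h1
            rw [hx, ← two_mul] at h3
            exact Nat.dvd_of_mul_dvd_mul_left two_pos h3
          have heq : orderOf (pr x) = r := by
            obtain ⟨a, ha⟩ := h2r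
            rw [ha, mul_comm 2 r] at hdvd
            have hd2 : a ∣ 2 := Nat.dvd_of_mul_dvd_mul_left hr.pos hdvd
            rcases (Nat.dvd_prime Nat.prime_two).1 hd2 with rfl | rfl
            · rw [ha, mul_one]
            · exact absurd (by rw [ha, mul_comm]) hd
          -- a fixed vector
          have hxr : pr (x ^ r) = 1 := by rw [map_pow, ← heq, pow_orderOf_eq_one]
          have hne : x ^ r ≠ 1 := fun e => by
            have := Nat.le_of_dvd hr.pos (hx ▸ orderOf_dvd_of_pow_eq_one e)
            have := hr.pos
            omega
          have hr1 : (x ^ r).right = 1 := me.injective (hxr.trans (map_one me).symm)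
          have hl : (x ^ r).left ≠ 1 := fun e => hne (SemidirectProduct.ext e hr1)
          obtain ⟨i, hi⟩ : ∃ i, (x ^ r).left i ≠ 1 := Function.ne_iff.1 hl
          have hcomm : x * x ^ r = x ^ r * x := (Commute.refl x).pow_right r |>.eq
          have hfx : φ (pr x) ((x ^ r).left i) = (x ^ r).left i := by
            have h1 : x.left i * φ (pr x) ((x ^ r).left i) =
                (x ^ r).left i * ψ (x ^ r).right x.left i :=
              congrArg (fun y : H => y.left i) hcomm
            rw [hr1, map_one, MulAut.one_apply] at h1
            rw [mul_comm ((x ^ r).left i)] at h1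
            exact mul_left_cancel h1
          have h5 := hfix (pr x) _ hi hfx
          rw [heq] at h5
          have hr35 : r = 3 ∨ r = 5 := by
            rw [show (61440 : ℕ) = 2 ^ 12 * (3 * 5) by norm_num] at h5
            rcases hr.dvd_mul.1 h5 with h | h
            · exact absurd ((Nat.prime_dvd_prime_iff_eq hr Nat.prime_two).1 (hr.dvd_of_dvd_pow h)) hr2
            rcases hr.dvd_mul.1 h with h | h
            · exact Or.inl ((Nat.prime_dvd_prime_iff_eq hr Nat.prime_three).1 h)
            · exact Or.inr ((Nat.prime_dvd_prime_iff_eq hr (by norm_num)).1 h)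
          rcases hr35 with rfl | rfl
          · exact hex 6 ⟨g6, h6⟩ (by norm_num)
          · exact hex 10 ⟨g10, h10⟩ (by norm_num)
        by_cases hp2 : p = 2
        · subst hp2
          exact key q hq hpq.symm h hh
        by_cases hq2 : q = 2
        · subst hq2
          rw [mul_comm] at hh ⊢
          exact key p hp hpq h hh
        refine ⟨pr h, Nat.dvd_antisymm (hh ▸ orderOf_map_dvd pr h) ?_⟩
        have h1 : (h ^ orderOf (pr h)) * (h ^ orderOf (pr h)) = 1 := hker _ (by rw [map_pow, pow_orderOf_eq_one])
        rw [← pow_add] at h1
        have h3 := orderOf_dvd_of_pow_eq_one h1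
        rw [hh, ← two_mul] at h3
        refine Nat.Coprime.dvd_of_dvd_mul_left ?_ h3
        exact Nat.Coprime.mul_left ((Nat.coprime_primes hp Nat.prime_two).2 hp2)
          ((Nat.coprime_primes hq Nat.prime_two).2 hq2))

end Cfsg.Agent.S3662
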