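import Cfsg.Statements.S3663
import Cfsg.Agent.Lib.Spec.Unbounded
import Cfsg.Agent.Lib.U34.Spectrum
import Cfsg.Agent.Lib.U34.Unitary

set_option autoImplicit false
open Cfsg

namespace Cfsg.Agent.S3663

open Cfsg.Lib.U34 Matrix

/-- The natural action on row tuples modulo 5. -/
noncomputable def natAct : grp →* MulAut (Multiplicative (Fin 12 → ZMod 5)) where
  toFun g := AddEquiv.toMultiplicative
    { toFun := fun v => mat g *ᵥ v
      invFun := fun v => mat g⁻¹ *ᵥ v
      left_inv := fun v => by
        show mat g⁻¹ *ᵥ (mat g *ᵥ v) = v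
        rw [Matrix.mulVec_mulVec]
        simp [mat]
      right_inv := fun v => by
        show mat g *ᵥ (mat g⁻¹ *ᵥ v) = v
        rw [Matrix.mulVec_mulVec]
        simp [mat]
      map_add' := Matrix.mulVec_add _ }
  map_one' := by
    refine MulEquiv.ext fun w => ?_
    show Multiplicative.ofAdd (mat 1 *ᵥ w.toAdd) = w
    rw [mat_one, Matrix.one_mulVec]
    rfl
  map_mul' a b := by
    refine MulEquiv.ext fun w => ?_
    show Multiplicative.ofAdd (mat (a * b) *ᵥ w.toAdd) =
      Multiplicative.ofAdd (mat a *ᵥ (mat b *ᵥ w.toAdd))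
    rw [Matrix.mulVec_mulVec]
    simp [mat]

theorem natAct_fixed {g : grp} (hg : orderOf g = 13) {w : Multiplicative (Fin 12 → ZMod 5)}
    (h : natAct g w = w) : w = 1 := by
  have h1 : mat g *ᵥ w.toAdd = w.toAdd := congrArg Multiplicative.toAdd h
  have hp : ∀ l, mat g ^ l *ᵥ w.toAdd = w.toAdd := fun l => by
    induction l with
    | zero => rw [pow_zero, Matrix.one_mulVec]
    | succ l ih => rw [pow_succ, ← Matrix.mulVec_mulVec, h1, ih]
  have h2 := congrArg (fun M : M12 => M *ᵥ w.toAdd) (sum_pow_of_orderOf_thirteen g hg)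
  simp only [Matrix.sum_mulVec, hp, Matrix.zero_mulVec, Finset.sum_const, Finset.card_range] at h2
  refine Multiplicative.toAdd.injective (funext fun i => ?_)
  have h3 := congrFun h2 i
  rw [Pi.smul_apply, Pi.zero_apply, nsmul_eq_mul] at h3
  have hne : ((13 : ℕ) : ZMod 5) ≠ 0 := by decide
  haveI : Fact (Nat.Prime 5) := ⟨Nat.prime_five⟩
  show w.toAdd i = 0
  exact (mul_eq_zero.mp h3).resolve_left hne

theorem exists_orderOf_dvd {m d : ℕ} (h : ∃ g : grp, orderOf g = m) (hd : d ∣ m) (hm : m ≠ 0) :
    ∃ g : grp, orderOf g = d := by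
  obtain ⟨g, rfl⟩ := h
  exact ⟨g ^ (orderOf g / d), by
    rw [orderOf_pow_of_dvd (Nat.div_ne_zero_iff_of_dvd hd |>.mpr ⟨hm, ne_zero_of_dvd_ne_zero hm hd⟩)
      (Nat.div_dvd_of_dvd hd), Nat.div_div_self hd hm]⟩

theorem prime_orderOf {g : grp} (h : (orderOf g).Prime) :
    orderOf g = 2 ∨ orderOf g = 3 ∨ orderOf g = 5 ∨ orderOf g = 13 := by
  have hm := orderOf_mem g
  revert h hm
  generalize orderOf g = d
  intro h hm
  simp only [ordList, List.mem_cons, List.not_mem_nil, or_false] at hm
  rcases hm with rfl | rfl | rfl | rfl | rfl | rfl | rfl | rfl <;> norm_num at *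


/-- The prime graph of a finite group has the prime divisors of its order as vertices, two distinct primes p, q being joined when the group has an element of order pq; two groups have the same prime graph when they have the same prime divisors and the same joined pairs. Let F be the field with 16 elements and L = PSU(3,4) realised over F. There are finite groups of arbitrarily large order with the same prime graph as L. -/
theorem result {F : Type*} [Field F] [Fintype F] (hF : Fintype.card F = 16) (N : ℕ) :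
    ∃ (H : Type) (_ : Group H) (_ : Finite H), N < Nat.card H ∧
      ((∀ p : ℕ, p.Prime → (p ∣ Nat.card (Cfsg.PSU 3 F 4) ↔ p ∣ Nat.card H)) ∧
      (∀ p q : ℕ, p.Prime → q.Prime → p ≠ q → ((∃ g : (Cfsg.PSU 3 F 4), orderOf g = p * q) ↔ (∃ g : H, orderOf g = p * q)))) := by
  haveI : Fact (Nat.Prime 5) := ⟨Nat.prime_five⟩
  obtain ⟨h10, h13, h15⟩ := exists_orderOf_large
  have hsub : ∀ {d m : ℕ}, (∃ g : grp, orderOf g = m) → d ∣ m → m ≠ 0 → d ∣ Nat.card grp :=
    fun {d m} ⟨g, hg⟩ hd _ => hd.trans (hg ▸ orderOf_dvd_natCard g)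
  have hcard : ∀ p : ℕ, p.Prime → (p ∣ Nat.card grp ↔ p = 2 ∨ p = 3 ∨ p = 5 ∨ p = 13) := by
    intro p hp
    refine ⟨fun h => ?_, ?_⟩
    · haveI : Fact p.Prime := ⟨hp⟩
      obtain ⟨g, hg⟩ := exists_prime_orderOf_dvd_card' p h
      have := prime_orderOf (g := g) (hg.symm ▸ hp)
      rwa [hg] at this
    · rintro (rfl | rfl | rfl | rfl)
      · exact hsub h10 (by norm_num) (by norm_num)
      · exact hsub h15 (by norm_num) (by norm_num)
      · exact hsub h15 (by norm_num) (by norm_num)
      · exact hsub h13 (by norm_num) (by norm_num)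
  refine Cfsg.Lib.Spec.exists_primeGraph_large (l := 5) natAct Nat.prime_five (fun w => ?_)
    ((hcard 5 Nat.prime_five).mpr (by norm_num)) (fun g hg hg5 w hw hfix => ?_) (fun p hp => ?_)
    (fun p q hp hq hpq => ?_) N
  · refine Multiplicative.toAdd.injective (funext fun i => ?_)
    show (5 : ℕ) • w.toAdd i = 0
    rw [nsmul_eq_mul, show ((5 : ℕ) : ZMod 5) = 0 from ZMod.natCast_self 5, zero_mul]
  · rcases prime_orderOf hg with h | h | h | h
    · rw [h]; exact h10
    · rw [h]; exact h15
    · exact absurd h hg5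
    · exact absurd (natAct_fixed h hfix) hw
  · rw [card_PSU hF, hcard p hp]
    constructor
    · intro h
      have h' : p ∣ 2 ^ 6 * (3 * (5 ^ 2 * 13)) := by simpa using h
      rcases hp.dvd_mul.mp h' with h | h
      · exact Or.inl ((Nat.prime_dvd_prime_iff_eq hp Nat.prime_two).mp (hp.dvd_of_dvd_pow h))
      rcases hp.dvd_mul.mp h with h | h
      · exact Or.inr (Or.inl ((Nat.prime_dvd_prime_iff_eq hp Nat.prime_three).mp h))
      rcases hp.dvd_mul.mp h with h | h
      · exact Or.inr (Or.inr (Or.inl
          ((Nat.prime_dvd_prime_iff_eq hp Nat.prime_five).mp (hp.dvd_of_dvd_pow h))))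
      · exact Or.inr (Or.inr (Or.inr ((Nat.prime_dvd_prime_iff_eq hp (by norm_num)).mp h)))
    · rintro (rfl | rfl | rfl | rfl) <;> norm_num
  · rw [exists_orderOf_iff hF hp hq hpq]
    constructor
    · rintro (h | h) <;> rw [h]
      · exact h10
      · exact h15
    · rintro ⟨g, hg⟩
      have hm := orderOf_mem g
      rw [hg] at hm
      have := hp.two_le
      have := hq.two_le
      have hne : p * q ≠ 4 := fun h => hpq (by
        have : p ≤ 2 := by nlinarith
        have : q ≤ 2 := by nlinarith
        omega)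
      have hnp : ¬ Nat.Prime (p * q) := Nat.not_prime_mul hp.ne_one hq.ne_one
      simp only [ordList, List.mem_cons, List.not_mem_nil, or_false] at hm
      rcases hm with e | e | e | e | e | e | e | e
      · nlinarith
      · exact absurd (by rw [e]; norm_num) hnp
      · exact absurd (by rw [e]; norm_num) hnp
      · exact absurd e hne
      · exact absurd (by rw [e]; norm_num) hnp
      · exact Or.inl e
      · exact absurd (by rw [e]; norm_num) hnp
      · exact Or.inr e

end Cfsg.Agent.S3663
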