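import Mathlib
import Cfsg.Statements.S3670
import Cfsg.Agent.Lib.U33.Solv
import Cfsg.Agent.Lib.U33.Degrees
import Cfsg.Agent.Lib.Char.Clifford

set_option autoImplicit false
open Cfsg

namespace Cfsg.Agent.S3670

/-- The character degree graph of a finite group has as vertices the primes dividing some irreducible complex character degree, two distinct primes being joined when their product divides some irreducible character degree; two groups have the same character degree graph when they have the same vertices and the same joined pairs. Let F be the field with 9 elements and L = PSU(3,3) realised over F (order 6048). There is a finite solvable group of order 6048 with the same character degree graph as L; so L is not determined by its order together with its character degree graph. -/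
theorem result {F : Type*} [Field F] [Fintype F] (hF : Fintype.card F = 9) :
    ∃ (H : Type) (_ : Group H) (_ : Fintype H), Group.IsSolvable H ∧ Nat.card H = 6048 ∧ Cfsg.degreePrimes H = Cfsg.degreePrimes (Cfsg.PSU 3 F 3) ∧ Cfsg.degreeGraph H = Cfsg.degreeGraph (Cfsg.PSU 3 F 3) := by
  classical
  have h9 : Cfsg.Lib.U33.NineField F := by
    unfold Cfsg.Lib.U33.NineField
    rw [hF]; norm_num
  obtain ⟨H, iH, fH, hsol, hcard, d, hd, h42⟩ := Cfsg.Lib.U33.exists_solvable_group
  refine ⟨H, iH, fH, hsol, hcard, ?_⟩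
  have hH := Cfsg.Lib.U33.graph_of_degrees (X := H) hcard ⟨d, hd, (by norm_num : 6 ∣ 42).trans h42⟩
    ⟨d, hd, (by norm_num : 14 ∣ 42).trans h42⟩ ⟨d, hd, (by norm_num : 21 ∣ 42).trans h42⟩
  let e : Cfsg.PSU 3 F 3 ≃* Cfsg.SU 3 F 3 :=
    (QuotientGroup.quotientMulEquivOfEq (Cfsg.Lib.U33.center_su h9)).trans QuotientGroup.quotientBot
  letI := Fintype.ofFinite (Cfsg.SU 3 F 3)
  letI := Fintype.ofFinite (Cfsg.PSU 3 F 3)
  have htr : ∀ n d, d ∈ Cfsg.charDegrees (Cfsg.SU 3 F 3) → n ∣ d →
      ∃ d ∈ Cfsg.charDegrees (Cfsg.PSU 3 F 3), n ∣ d := by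
    rintro n _ ⟨χ, rfl⟩ h
    refine ⟨_, ⟨⟨_, Cfsg.Lib.Char.isIrrCharacter_comp_equiv e χ.2⟩, rfl⟩, ?_⟩
    simpa [Cfsg.charDegree] using h
  obtain ⟨⟨a, ha, ha'⟩, ⟨b, hb, hb'⟩, ⟨c, hc, hc'⟩⟩ := Cfsg.Lib.U33.exists_degrees h9
  have hU := Cfsg.Lib.U33.graph_of_degrees (X := Cfsg.PSU 3 F 3)
    ((Nat.card_congr e.toEquiv).trans (Cfsg.Lib.U33.card_su h9)) (htr 6 a ha ha') (htr 14 b hb hb') (htr 21 c hc hc')
  refine ⟨hH.1.trans hU.1.symm, ?_⟩
  ext p q
  exact (hH.2 p q).trans (hU.2 p q).symm

end Cfsg.Agent.S3670
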