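import Cfsg.Statements.S3678
import Cfsg.Agent.Lib.Spec.Unbounded
import Cfsg.Agent.Lib.Spec.SLTwo
import Cfsg.Agent.Lib.Linear.SLBasic

set_option autoImplicit false
open Cfsg

namespace Cfsg.Agent.S3678

open Cfsg.Lib.Spec Matrix

theorem not_orderOf_prod {G : Type*} [Group G] {g : G} {n : ℕ} (hn : ∃ p k, Nat.Prime p ∧ n = p ^ k)
    (h : g ^ n = 1) {r s : ℕ} (hr : r.Prime) (hs : s.Prime) (hrs : r ≠ s) : orderOf g ≠ r * s := by
  intro ho
  obtain ⟨p, k, hp, rfl⟩ := hn
  have hd := ho ▸ orderOf_dvd_of_pow_eq_one h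
  have h1 := (Nat.prime_dvd_prime_iff_eq hr hp).mp (hr.dvd_of_dvd_pow ((dvd_mul_right r s).trans hd))
  have h2 := (Nat.prime_dvd_prime_iff_eq hs hp).mp (hs.dvd_of_dvd_pow ((dvd_mul_left s r).trans hd))
  exact hrs (h1.trans h2.symm)

local instance factSeven : Fact (Nat.Prime 7) := ⟨by norm_num⟩

/-- The field with eight elements. -/
abbrev F8 := GaloisField 2 3

theorem coef_F8 (t : F8) : (chCoef t 2 = 0 ∧ chCoef t 1 = -1) ∨
    (chCoef t 3 = 0 ∧ chCoef t 2 = -1) ∨ (chCoef t 9 = 0 ∧ chCoef t 8 = -1) ∨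
      (chCoef t 7 = 0 ∧ chCoef t 6 = -1) := by
  haveI := Fintype.ofFinite F8
  have hq : Fintype.card F8 = 8 := by
    rw [← Nat.card_eq_fintype_card, GaloisField.card 2 3 (by norm_num)]; norm_num
  have h8 : t ^ 8 = t := hq ▸ FiniteField.pow_card t
  have h2 : (2 : F8) = 0 := CharTwo.two_eq_zero
  have hfac : t * (t + 1) * (t ^ 3 + t + 1) * (t ^ 3 + t ^ 2 + 1) = 0 := by
    linear_combination h8 + (t + t ^ 2 + t ^ 3 + 2 * t ^ 4 + 2 * t ^ 5 + t ^ 6 + t ^ 7) * h2
  rcases mul_eq_zero.mp hfac with h | hc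
  · rcases mul_eq_zero.mp h with h | hb
    · rcases mul_eq_zero.mp h with h | ha
      · left; simp [chCoef, h, CharTwo.neg_eq]
      · right; left
        have ht : t = 1 := by linear_combination ha - h2
        simp [chCoef, ht, CharTwo.neg_eq]
    · right; right; left
      have h3 : t ^ 3 = t + 1 := by linear_combination hb - (t + 1) * h2
      simp only [chCoef, CharTwo.sub_eq_add, CharTwo.neg_eq]
      constructor <;> grind
  · right; right; right
    have h3 : t ^ 3 = t ^ 2 + 1 := by linear_combination hc - (t ^ 2 + 1) * h2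
    simp only [chCoef, CharTwo.sub_eq_add, CharTwo.neg_eq]
    constructor <;> grind

theorem sl_F8_pow (g : Matrix.SpecialLinearGroup (Fin 2) F8) :
    g ^ 2 = 1 ∨ g ^ 3 = 1 ∨ g ^ 9 = 1 ∨ g ^ 7 = 1 := by
  rcases coef_F8 (trc g) with h | h | h | h
  · exact Or.inl (pow_eq_one_of_coef g h.1 h.2)
  · exact Or.inr (Or.inl (pow_eq_one_of_coef g h.1 h.2))
  · exact Or.inr (Or.inr (Or.inl (pow_eq_one_of_coef g h.1 h.2)))
  · exact Or.inr (Or.inr (Or.inr (pow_eq_one_of_coef g h.1 h.2)))

theorem coef_seven : ∀ t : ZMod 7,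
    (chCoef t 2 = 0 ∧ (chCoef t 1) ^ 2 = 1) ∨ (chCoef t 3 = 0 ∧ (chCoef t 2) ^ 2 = 1) ∨
      (chCoef t 4 = 0 ∧ (chCoef t 3) ^ 2 = 1) ∨ (chCoef t 7 = 0 ∧ (chCoef t 6) ^ 2 = 1) := by
  decide +kernel

theorem psl_seven_pow (x : Matrix.ProjectiveSpecialLinearGroup (Fin 2) (ZMod 7)) :
    x ^ 2 = 1 ∨ x ^ 3 = 1 ∨ x ^ 4 = 1 ∨ x ^ 7 = 1 := by
  induction x using QuotientGroup.induction_on with
  | H g =>
    have key : ∀ n : ℕ, chCoef (trc g) (n + 1) = 0 → (chCoef (trc g) n) ^ 2 = 1 →
        ((g : Matrix.ProjectiveSpecialLinearGroup (Fin 2) (ZMod 7))) ^ (n + 1) = 1 := by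
      intro n h h'
      rw [← QuotientGroup.mk_pow, QuotientGroup.eq_one_iff,
        Matrix.SpecialLinearGroup.mem_center_iff]
      refine ⟨-chCoef (trc g) n, by rw [Fintype.card_fin, neg_sq, h'], ?_⟩
      rw [pow_eq_scalar g h, Matrix.smul_one_eq_diagonal, Matrix.scalar_apply]
    rcases coef_seven (trc g) with h | h | h | h
    · exact Or.inl (key 1 h.1 h.2)
    · exact Or.inr (Or.inl (key 2 h.1 h.2))
    · exact Or.inr (Or.inr (Or.inl (key 3 h.1 h.2)))
    · exact Or.inr (Or.inr (Or.inr (key 6 h.1 h.2)))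

theorem card_sl_two {K : Type*} [Field K] [Fintype K] {q : ℕ} (hq : Fintype.card K = q) :
    Nat.card (Matrix.SpecialLinearGroup (Fin 2) K) * (q - 1) = (q ^ 2 - 1) * (q ^ 2 - q) := by
  have h := Cfsg.Lib.Linear.card_SL_mul (F := K) 2 (by norm_num)
  rw [hq, Fin.prod_univ_two] at h
  rw [mul_comm, h]
  simp

/-- The prime graph of a finite group has the prime divisors of its order as vertices, two distinct primes p, q being joined when the group has an element of order pq; two groups have the same prime graph when they have the same prime divisors and the same joined pairs. Let F be the field with 7 elements. There are finite groups of arbitrarily large order with the same prime graph as PSL(2,F) (the graph on {2, 3, 7} with no edges, which is also the prime graph of PSL(2,8)). -/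
theorem result {F : Type*} [Field F] [Fintype F] (hF : Fintype.card F = 7) (N : ℕ) :
    ∃ (H : Type) (_ : Group H) (_ : Finite H), N < Nat.card H ∧
      ((∀ p : ℕ, p.Prime → (p ∣ Nat.card (Matrix.ProjectiveSpecialLinearGroup (Fin 2) F) ↔ p ∣ Nat.card H)) ∧
      (∀ p q : ℕ, p.Prime → q.Prime → p ≠ q → ((∃ g : (Matrix.ProjectiveSpecialLinearGroup (Fin 2) F), orderOf g = p * q) ↔ (∃ g : H, orderOf g = p * q)))) := by
  classical
  haveI := Fintype.ofFinite F8
  have hq : Fintype.card F8 = 8 := by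
    rw [← Nat.card_eq_fintype_card, GaloisField.card 2 3 (by norm_num)]; norm_num
  have hS : Nat.card (Matrix.SpecialLinearGroup (Fin 2) F8) = 504 := by
    exact Nat.eq_of_mul_eq_mul_right (show 0 < 8 - 1 by norm_num) ((card_sl_two hq).trans (by norm_num))
  have e0 : F ≃+* ZMod 7 := FiniteField.ringEquivOfCardEq (by rw [ZMod.card, hF])
  let e1 : Matrix.SpecialLinearGroup (Fin 2) F ≃* Matrix.SpecialLinearGroup (Fin 2) (ZMod 7) :=
    { toFun := Matrix.SpecialLinearGroup.map e0.toRingHom
      invFun := Matrix.SpecialLinearGroup.map e0.symm.toRingHom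
      left_inv := fun g => by ext i j; simp
      right_inv := fun g => by ext i j; simp
      map_mul' := map_mul _ }
  let e : Matrix.ProjectiveSpecialLinearGroup (Fin 2) F ≃*
      Matrix.ProjectiveSpecialLinearGroup (Fin 2) (ZMod 7) :=
    QuotientGroup.congr _ _ e1 (by
      ext y
      simp only [Subgroup.mem_map, MonoidHom.coe_coe, Subgroup.mem_center_iff]
      constructor
      · rintro ⟨x, hx, rfl⟩ g
        obtain ⟨g', rfl⟩ := e1.surjective g
        rw [← map_mul, hx g', map_mul]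
      · intro hy
        refine ⟨e1.symm y, fun g => e1.injective ?_, e1.apply_symm_apply y⟩
        rw [map_mul, map_mul, e1.apply_symm_apply, hy])
  have hL : Nat.card (Matrix.ProjectiveSpecialLinearGroup (Fin 2) F) = 168 := by
    have h := Cfsg.Lib.Linear.card_SL_eq_gcd_mul_card_PSL (F := F) (ι := Fin 2)
    have h2 : Nat.card (Matrix.SpecialLinearGroup (Fin 2) F) = 336 :=
      Nat.eq_of_mul_eq_mul_right (show 0 < 7 - 1 by norm_num) ((card_sl_two hF).trans (by norm_num))
    rw [h2, hF, Fintype.card_fin] at h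
    exact Nat.eq_of_mul_eq_mul_left (show 0 < 2 by norm_num) (h.symm.trans (by norm_num))
  refine exists_primeGraph_large (natAct (F := F8)) Nat.prime_two (fun w => ?_) (by rw [hS]; norm_num)
    ?_ (fun p hp => ?_) (fun r s hr hs hrs => ?_) N
  · apply Multiplicative.toAdd.injective
    rw [toAdd_pow, two_nsmul, toAdd_one]
    exact funext fun i => CharTwo.add_self_eq_zero _
  · intro g hg hne w hw hfix
    exact absurd ((Nat.prime_dvd_prime_iff_eq hg Nat.prime_two).mp
      (orderOf_dvd_of_pow_eq_one (sq_eq_one_of_fixed g hw hfix))) hne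
  · rw [hL, hS]
    constructor <;> intro h
    · exact (h.trans (by norm_num : 168 ∣ 504))
    · rcases hp.dvd_mul.mp (show p ∣ 168 * 3 from h) with h | h
      · exact h
      · exact h.trans (by norm_num)
  · constructor
    · rintro ⟨g, hg⟩
      exfalso
      rw [← e.orderOf_eq] at hg
      rcases psl_seven_pow (e g) with h | h | h | h
      · exact not_orderOf_prod ⟨2, 1, Nat.prime_two, by norm_num⟩ h hr hs hrs hg
      · exact not_orderOf_prod ⟨3, 1, Nat.prime_three, by norm_num⟩ h hr hs hrs hg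
      · exact not_orderOf_prod ⟨2, 2, Nat.prime_two, by norm_num⟩ h hr hs hrs hg
      · exact not_orderOf_prod ⟨7, 1, by norm_num, by norm_num⟩ h hr hs hrs hg
    · rintro ⟨g, hg⟩
      exfalso
      rcases sl_F8_pow g with h | h | h | h
      · exact not_orderOf_prod ⟨2, 1, Nat.prime_two, by norm_num⟩ h hr hs hrs hg
      · exact not_orderOf_prod ⟨3, 1, Nat.prime_three, by norm_num⟩ h hr hs hrs hg
      · exact not_orderOf_prod ⟨3, 2, Nat.prime_three, by norm_num⟩ h hr hs hrs hg
      · exact not_orderOf_prod ⟨7, 1, by norm_num, by norm_num⟩ h hr hs hrs hg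

end Cfsg.Agent.S3678
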