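import Cfsg.Statements.S3680
import Cfsg.Agent.S0550
import Cfsg.Agent.S0721
import Mathlib.GroupTheory.GroupAction.Primitive
import Mathlib.GroupTheory.NoncommCoprod

set_option autoImplicit false
open Cfsg

namespace Cfsg.Agent.S3680

open MulAction

theorem result {G Ω : Type*} [Group G] [Finite G] [MulAction G Ω] [FaithfulSMul G Ω] [Finite Ω]
    (hprim : MulAction.IsPreprimitive G Ω) (N : Subgroup G)
    (hN : N = sSup {V : Subgroup G | V.Normal ∧ V ≠ ⊥ ∧ ∀ M : Subgroup G, M.Normal → M ≤ V → M = ⊥ ∨ M = V}) :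
    (∃ p : ℕ, p.Prime ∧ IsMulCommutative N ∧ (∀ x : N, x ^ p = 1) ∧
      MulAction.IsPretransitive N Ω ∧ ∀ ω : Ω, MulAction.stabilizer N ω = ⊥) ∨
    (∃ (T : Type) (_ : Group T) (m : ℕ), 1 ≤ m ∧ IsSimpleGroup T ∧ ¬ IsMulCommutative T ∧ Nonempty (N ≃* (Fin m → T))) := by
  classical
  set S := {V : Subgroup G | V.Normal ∧ V ≠ ⊥ ∧ ∀ M : Subgroup G, M.Normal → M ≤ V → M = ⊥ ∨ M = V}
    with hS
  rcases subsingleton_or_nontrivial Ω with hΩ | hΩ
  · left
    haveI : Subsingleton G := ⟨fun g h => FaithfulSMul.eq_of_smul_eq_smul (α := Ω)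
      fun x => Subsingleton.elim _ _⟩
    exact ⟨2, Nat.prime_two, ⟨⟨fun _ _ => Subsingleton.elim _ _⟩⟩, fun _ => Subsingleton.elim _ _,
      ⟨fun a b => ⟨1, Subsingleton.elim _ _⟩⟩, fun ω => Subsingleton.elim _ _⟩
  obtain ⟨a⟩ : Nonempty Ω := inferInstance
  haveI : IsPretransitive G Ω := hprim.toIsPretransitive
  have hco : IsCoatom (stabilizer G a) := IsPreprimitive.isCoatom_stabilizer_of_isPreprimitive G a
  have hnormal : ∀ L : Subgroup G, L.Normal → L ≤ stabilizer G a → L = ⊥ := by
    intro L hL hLH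
    rw [Subgroup.eq_bot_iff_forall]
    intro k hk
    apply FaithfulSMul.eq_of_smul_eq_smul (α := Ω)
    intro x
    obtain ⟨g, rfl⟩ := exists_smul_eq G a x
    have h := hLH (hL.conj_mem k hk g⁻¹)
    rw [mem_stabilizer_iff, inv_inv, mul_smul, mul_smul, inv_smul_eq_iff] at h
    rw [one_smul, h]
  have hcore : (stabilizer G a).normalCore = ⊥ :=
    hnormal _ (Subgroup.normalCore_normal _) (Subgroup.normalCore_le _)
  obtain ⟨V, ⟨hVn, hV0⟩, hVmin⟩ : ∃ V, Minimal (fun V : Subgroup G => V.Normal ∧ V ≠ ⊥) V := by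
    refine exists_minimal_of_wellFoundedLT _ ⟨(⊤ : Subgroup G), inferInstance, ?_⟩
    intro h
    have : stabilizer G a = ⊤ := top_unique (by rw [h]; exact bot_le)
    exact hco.1 this
  have hVmem : V ∈ S := ⟨hVn, hV0, fun M hM hMV => by
    by_cases h : M = ⊥
    · exact Or.inl h
    · exact Or.inr (le_antisymm hMV (hVmin ⟨hM, h⟩ hMV))⟩
  haveI := hVn
  have huniq : (∀ W ∈ S, W = V) → N = V := fun h => by
    rw [hN]
    exact le_antisymm (sSup_le fun W hW => (h W hW).le) (le_sSup hVmem)
  by_cases hab : IsMulCommutative V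
  · left
    have hNV : N = V := huniq fun W hW => by
      by_contra hne
      haveI := hW.1
      exact (S0550.result (stabilizer G a) hco hcore V W hV0 hW.2.1 hVmem.2.2 hW.2.2
        (Ne.symm hne)).2.2.2.2.1 hab
    subst hNV
    have hcomm : ∀ x ∈ N, ∀ y ∈ N, x * y = y * x := fun x hx y hy =>
      congrArg Subtype.val (hab.1.comm ⟨x, hx⟩ ⟨y, hy⟩)
    haveI : IsQuasiPreprimitive G Ω := @IsPreprimitive.isQuasiPreprimitive _ _ _ _ hprim
    have htr : IsPretransitive N Ω := by
      refine IsQuasiPreprimitive.isPretransitive_of_normal fun h => hV0 (hnormal N hVn fun k hk => ?_)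
      exact Set.eq_univ_iff_forall.1 h a ⟨k, hk⟩
    obtain ⟨x, hx, hx1⟩ := (Subgroup.bot_or_exists_ne_one N).resolve_left hV0
    have hone : Nat.card N ≠ 1 := fun h => hV0 (Subgroup.eq_bot_of_card_eq N h)
    set p := (Nat.card N).minFac with hpdef
    have hp : p.Prime := Nat.minFac_prime hone
    haveI : Fact p.Prime := ⟨hp⟩
    let A : Subgroup G :=
      { carrier := {y | y ∈ N ∧ y ^ p = 1}
        mul_mem' := fun {y z} hy hz => ⟨mul_mem hy.1 hz.1, by
          rw [Commute.mul_pow (hcomm y hy.1 z hz.1), hy.2, hz.2, one_mul]⟩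
        one_mem' := ⟨one_mem N, one_pow _⟩
        inv_mem' := fun {y} hy => ⟨inv_mem hy.1, by rw [inv_pow, hy.2, inv_one]⟩ }
    have hAn : A.Normal := ⟨fun y hy g => ⟨hVn.conj_mem y hy.1 g, by
      rw [conj_pow, hy.2, mul_one, mul_inv_cancel]⟩⟩
    have hA : A = N := by
      refine (hVmem.2.2 A hAn fun y hy => hy.1).resolve_left fun h => ?_
      obtain ⟨y, hy⟩ := exists_prime_orderOf_dvd_card' (G := N) p (Nat.minFac_dvd _)
      have : (y : G) ∈ A := ⟨y.2, by rw [← SubmonoidClass.coe_pow, ← hy, pow_orderOf_eq_one]; rfl⟩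
      rw [h, Subgroup.mem_bot] at this
      have hy1 : y = 1 := Subtype.ext this
      rw [hy1, orderOf_one] at hy
      exact hp.ne_one hy.symm
    refine ⟨p, hp, hab, fun y => Subtype.ext ?_, htr, fun ω => ?_⟩
    · have : (y : G) ∈ A := by rw [hA]; exact y.2
      exact this.2
    · rw [Subgroup.eq_bot_iff_forall]
      intro k hk
      apply Subtype.ext
      apply FaithfulSMul.eq_of_smul_eq_smul (α := Ω)
      intro y
      obtain ⟨m, rfl⟩ := htr.exists_smul_eq ω y
      show (k : G) • ((m : G) • ω) = (1 : G) • ((m : G) • ω)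
      rw [one_smul, ← mul_smul, hcomm _ k.2 _ m.2, mul_smul]
      exact congrArg ((m : G) • ·) hk
  · right
    obtain ⟨T, hT, m, hTs, hm, ⟨e⟩⟩ := S0721.result V hV0 hVmem.2.2
    have hTna : ¬ IsMulCommutative T := fun h => hab ⟨⟨fun x y => e.injective (by
      rw [map_mul, map_mul]; funext i; exact h.1.comm _ _)⟩⟩
    by_cases hW : ∃ W ∈ S, W ≠ V
    · obtain ⟨W, hWS, hne⟩ := hW
      haveI := hWS.1
      obtain ⟨hc, -, -, -, -, ⟨eWV⟩, -⟩ := S0550.result (stabilizer G a) hco hcore W V
        hWS.2.1 hV0 hWS.2.2 hVmem.2.2 hne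
      have hNW : N = V ⊔ W := by
        rw [hN]
        refine le_antisymm (sSup_le fun X hX => ?_) (sup_le (le_sSup hVmem) (le_sSup hWS))
        by_cases hXV : X = V
        · rw [hXV]; exact le_sup_left
        · have hdisj : X ⊓ V = ⊥ := by
            haveI := hX.1
            refine (hX.2.2 (X ⊓ V) inferInstance inf_le_left).resolve_right fun h => ?_
            exact hXV (((hVmem.2.2 X hX.1 (h ▸ inf_le_right)).resolve_left hX.2.1))
          have : X ≤ Subgroup.centralizer (V : Set G) := fun x hx v hv =>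
            (Subgroup.commute_of_normal_of_disjoint X V hX.1 hVn (disjoint_iff.2 hdisj) x v hx hv).eq.symm
          exact (this.trans hc.le).trans le_sup_right
      have hcommVW : ∀ (v : V) (w : W), Commute (V.subtype v) (W.subtype w) := fun v w => by
        have : (w : G) ∈ Subgroup.centralizer (V : Set G) := hc ▸ w.2
        exact this v v.2
      let f : V × W →* G := MonoidHom.noncommCoprod V.subtype W.subtype hcommVW
      have hf : Function.Injective f := by
        rw [injective_iff_map_eq_one]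
        rintro ⟨v, w⟩ h
        rw [MonoidHom.noncommCoprod_apply, Subgroup.coe_subtype, Subgroup.coe_subtype,
          mul_eq_one_iff_eq_inv] at h
        have h1 : (v : G) ∈ V ⊓ W := ⟨v.2, show (v : G) ∈ W by rw [h]; exact W.inv_mem w.2⟩
        have h2 : V ⊓ W = ⊥ := (hVmem.2.2 (V ⊓ W) inferInstance inf_le_left).resolve_right fun h' =>
          hne ((((hWS.2.2 V hVn (h' ▸ inf_le_right)).resolve_left hV0)).symm)
        rw [h2, Subgroup.mem_bot] at h1
        rw [h1, eq_comm, inv_eq_one] at h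
        exact Prod.ext (Subtype.ext h1) (Subtype.ext h)
      have hrange : f.range = N := by
        rw [hNW, MonoidHom.noncommCoprod_range, Subgroup.range_subtype, Subgroup.range_subtype]
      let e₂ : W ≃* (Fin m → T) := eWV.trans e
      let e₃ : (Fin m → T) × (Fin m → T) ≃* (Fin (m + m) → T) :=
        { (Equiv.sumArrowEquivProdArrow (Fin m) (Fin m) T).symm.trans
            (Equiv.arrowCongr finSumFinEquiv (Equiv.refl T)) with
          map_mul' := fun x y => by
            funext i
            obtain ⟨i | i, rfl⟩ := finSumFinEquiv.surjective i <;>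
              simp only [Equiv.toFun_as_coe, Equiv.trans_apply, Equiv.arrowCongr_apply, Function.comp_apply,
                Equiv.symm_apply_apply, Equiv.coe_refl, id_eq, Pi.mul_apply] <;> rfl }
      refine ⟨T, hT, m + m, by omega, hTs, hTna, ⟨?_⟩⟩
      exact ((MulEquiv.subgroupCongr hrange).symm.trans (MonoidHom.ofInjective hf).symm).trans
        ((e.prodCongr e₂).trans e₃)
    · push Not at hW
      exact ⟨T, hT, m, hm, hTs, hTna, ⟨(MulEquiv.subgroupCongr (huniq hW)).trans e⟩⟩

end Cfsg.Agent.S3680
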