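import Cfsg.Statements.S3682
import Cfsg.Agent.Lib.Perm.SecondCoreBound
-- import your own Cfsg.Agent.* helpers here

set_option autoImplicit false
open Cfsg

namespace Cfsg.Agent.S3682

/-- Wielandt's bound toward the Sims conjecture. Let a finite group G act faithfully and primitively on a set Ω, let a and b be points, and suppose the orbit of b under the stabilizer of a has length d ≥ 2. Then there are a prime p and a normal p-subgroup P of the stabilizer of a, all of whose elements fix b, such that the index of P in the stabilizer of a divides d! · ((d - 1)!)^d. -/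
theorem result {G Ω : Type*} [Group G] [Finite G] [MulAction G Ω] [FaithfulSMul G Ω] [Finite Ω]
    (hprim : MulAction.IsPreprimitive G Ω) (a b : Ω) (d : ℕ) (hd : Nat.card (MulAction.orbit (MulAction.stabilizer G a) b) = d) (h2 : 2 ≤ d) :
    ∃ p : ℕ, p.Prime ∧ ∃ P : Subgroup (MulAction.stabilizer G a), P.Normal ∧ IsPGroup p P ∧ (∀ g : P, ((g : MulAction.stabilizer G a) : G) • b = b) ∧
      P.index ∣ Nat.factorial d * (Nat.factorial (d - 1)) ^ d := by
  classical
  obtain ⟨g, hg, hA, hB, hne, hdA, hdB⟩ :=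
    Cfsg.Lib.Perm.TW.stabilizer_pair_setup hprim a b d hd h2
  set A := MulAction.stabilizer G a
  set B := MulAction.stabilizer G b
  let e : A ≃* B := (A.equivMapOfInjective _ (MulAut.conj g).injective).trans
    (MulEquiv.subgroupCongr hg.symm)
  by_cases h : Cfsg.Lib.Perm.TW.coreIn (Cfsg.Lib.Perm.TW.coreIn (A ⊓ B) A ⊓
      Cfsg.Lib.Perm.TW.coreIn (A ⊓ B) B) A = ⊥ ∨
    Cfsg.Lib.Perm.TW.coreIn (Cfsg.Lib.Perm.TW.coreIn (A ⊓ B) A ⊓
      Cfsg.Lib.Perm.TW.coreIn (A ⊓ B) B) B = ⊥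
  · refine ⟨2, Nat.prime_two, ⊥, inferInstance, IsPGroup.of_bot, fun x => ?_, ?_⟩
    · have hx : ((x : A) : G) = 1 := by
        have h1 : (x : A) = 1 := Subgroup.mem_bot.1 x.2
        rw [h1]; rfl
      rw [hx, one_smul]
    · rw [Subgroup.index_bot]
      exact Cfsg.Lib.Perm.TW.card_dvd_of_core_eq_bot e hdA hdB h
  · push Not at h
    obtain ⟨p, hp, hpg, -⟩ := Cfsg.Lib.Perm.TW.thompson_wielandt hA hB hne e h.1 h.2
    set A2 := Cfsg.Lib.Perm.TW.coreIn (Cfsg.Lib.Perm.TW.coreIn (A ⊓ B) A ⊓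
      Cfsg.Lib.Perm.TW.coreIn (A ⊓ B) B) A
    have hle : A2 ≤ A := Cfsg.Lib.Perm.TW.coreIn_le_right _ _
    refine ⟨p, hp, A2.subgroupOf A,
      (Subgroup.normal_subgroupOf_iff_le_normalizer hle).2
        (Cfsg.Lib.Perm.TW.le_normalizer_coreIn _ _),
      (hpg.to_le le_sup_left).of_equiv (Subgroup.subgroupOfEquivOfLe hle).symm,
      fun x => MulAction.mem_stabilizer_iff.1 ?_,
      Cfsg.Lib.Perm.TW.second_core_relIndex_dvd A B d hdA hdB⟩
    exact (((Cfsg.Lib.Perm.TW.coreIn_le_left _ _).trans inf_le_left).trans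
      ((Cfsg.Lib.Perm.TW.coreIn_le_left _ _).trans inf_le_right)) x.2

end Cfsg.Agent.S3682
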