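import Cfsg.Statements.S3683
import Mathlib

set_option autoImplicit false
open Cfsg

namespace Cfsg.Agent.S3683

/-- Let a finite group G act faithfully and primitively on a set Ω, and suppose the stabilizer of a point a fixes a second point b ≠ a (a suborbit of length 1 other than {a}). Then the stabilizer of a is trivial and G is cyclic of prime order. -/
theorem result {G Ω : Type*} [Group G] [Finite G] [MulAction G Ω] [FaithfulSMul G Ω] [Finite Ω]
    (hprim : MulAction.IsPreprimitive G Ω) (a b : Ω) (hab : a ≠ b) (hfix : ∀ g : G, g • a = a → g • b = b) :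
    MulAction.stabilizer G a = ⊥ ∧ IsCyclic G ∧ (Nat.card G).Prime := by
  classical
  haveI : Nontrivial Ω := ⟨a, b, hab⟩
  haveI := hprim
  have hca : IsCoatom (MulAction.stabilizer G a) := (MulAction.isCoatom_stabilizer_iff_preprimitive G a).2 hprim
  have hcb : IsCoatom (MulAction.stabilizer G b) := (MulAction.isCoatom_stabilizer_iff_preprimitive G b).2 hprim
  have heq : MulAction.stabilizer G a = MulAction.stabilizer G b :=
    (hca.le_iff.1 (fun g hg => hfix g hg)).resolve_left hcb.1 |>.symm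
  obtain ⟨x, hx⟩ := MulAction.exists_smul_eq G a b
  have hxN : x ∈ Subgroup.normalizer ((MulAction.stabilizer G a : Subgroup G) : Set G) := by
    rw [Subgroup.mem_normalizer_iff]
    intro g
    conv_rhs => rw [heq]
    rw [MulAction.mem_stabilizer_iff, MulAction.mem_stabilizer_iff, mul_smul, mul_smul,
      show x⁻¹ • b = a from inv_smul_eq_iff.2 hx.symm, ← hx, (MulAction.injective x).eq_iff]
  have htop : Subgroup.normalizer ((MulAction.stabilizer G a : Subgroup G) : Set G) = ⊤ := (hca.le_iff.1 Subgroup.le_normalizer).resolve_right fun h => by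
    rw [h, MulAction.mem_stabilizer_iff, hx] at hxN
    exact hab hxN.symm
  haveI hn : (MulAction.stabilizer G a).Normal := Subgroup.normalizer_eq_top_iff.1 htop
  have hbot : MulAction.stabilizer G a = ⊥ := by
    rw [Subgroup.eq_bot_iff_forall]
    intro g hg
    refine FaithfulSMul.eq_of_smul_eq_smul fun y : Ω => ?_
    obtain ⟨k, rfl⟩ := MulAction.exists_smul_eq G a y
    have h2 : (k⁻¹ * g * k⁻¹⁻¹) • a = a := MulAction.mem_stabilizer_iff.1 (hn.conj_mem g hg k⁻¹)
    rw [inv_inv, mul_smul, mul_smul, inv_smul_eq_iff] at h2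
    rw [one_smul, h2]
  refine ⟨hbot, ?_⟩
  rw [hbot] at hca
  obtain ⟨g, hg⟩ : ∃ g : G, g ≠ 1 := ⟨x, fun h => hab (by rw [← hx, h, one_smul])⟩
  haveI hGnt : Nontrivial G := ⟨g, 1, hg⟩
  have hz : ∀ y : G, y ≠ 1 → Subgroup.zpowers y = ⊤ := fun y hy =>
    hca.2 _ (bot_lt_iff_ne_bot.2 fun h => hy (Subgroup.mem_bot.1 (h ▸ Subgroup.mem_zpowers y)))
  haveI hcyc : IsCyclic G := isCyclic_iff_exists_zpowers_eq_top.2 ⟨g, hz g hg⟩
  refine ⟨hcyc, ?_⟩
  set q := (Nat.card G).minFac
  have hq : q.Prime := Nat.minFac_prime (Finite.one_lt_card (α := G)).ne'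
  haveI := Fact.mk hq
  obtain ⟨y, hy⟩ := exists_prime_orderOf_dvd_card' q (Nat.minFac_dvd (Nat.card G))
  have hy1 : y ≠ 1 := fun h => hq.one_lt.ne (by rw [← hy, h, orderOf_one])
  rw [← Subgroup.card_top, ← hz y hy1, Nat.card_zpowers, hy]
  exact hq

end Cfsg.Agent.S3683
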