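import Cfsg.Statements.S3684
import Cfsg.Agent.Lib.TwoGroup.Models
import Mathlib.GroupTheory.GroupAction.Primitive

set_option autoImplicit false
open Cfsg

namespace Cfsg.Agent.S3684

open MulAction

theorem result {G Ω : Type*} [Group G] [Finite G] [MulAction G Ω] [FaithfulSMul G Ω] [Finite Ω]
    (hprim : MulAction.IsPreprimitive G Ω) (a b : Ω) (h2 : Nat.card (MulAction.orbit (MulAction.stabilizer G a) b) = 2) :
    Nat.card (MulAction.stabilizer G a) = 2 ∧ ∃ p : ℕ, p.Prime ∧ Nonempty (G ≃* DihedralGroup p) := by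
  classical
  haveI : IsPretransitive G Ω := hprim.toIsPretransitive
  have hne : b ≠ a := by
    rintro rfl
    have : orbit (stabilizer G b) b = {b} := by
      refine Set.eq_singleton_iff_unique_mem.2 ⟨mem_orbit_self b, ?_⟩
      rintro _ ⟨g, rfl⟩
      exact g.2
    rw [this] at h2
    simp at h2
  haveI : Nontrivial Ω := ⟨⟨b, a, hne⟩⟩
  set H := stabilizer G a with hH
  set H' := stabilizer G b with hH'
  set K := H ⊓ H' with hK
  have hidx : K.relIndex H = 2 := by
    have h1 := index_stabilizer H b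
    rw [← h2, ← Nat.card_coe_set_eq] at *
    rw [← h1, hK, Subgroup.inf_relIndex_left, Subgroup.relIndex]
    congr 1
  have hcard : Nat.card H' = Nat.card H := by
    obtain ⟨g, hg⟩ := exists_smul_eq G a b
    rw [hH', ← hg, stabilizer_smul_eq_stabilizer_map_conj]
    exact Subgroup.card_map_of_injective (MulEquiv.injective _)
  have hKH : K ≤ H := inf_le_left
  have hKH' : K ≤ H' := inf_le_right
  have hidx' : K.relIndex H' = 2 := by
    have e1 := Subgroup.relIndex_mul_relIndex ⊥ K H bot_le hKH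
    have e2 := Subgroup.relIndex_mul_relIndex ⊥ K H' bot_le hKH'
    simp only [Subgroup.relIndex_bot_left] at e1 e2
    rw [hidx] at e1
    rw [hcard, ← e1] at e2
    exact Nat.eq_of_mul_eq_mul_left Nat.card_pos e2
  have hN1 : H ≤ Subgroup.normalizer (K : Set G) :=
    (Subgroup.normal_subgroupOf_iff_le_normalizer hKH).1 (Subgroup.normal_of_index_eq_two hidx)
  have hN2 : H' ≤ Subgroup.normalizer (K : Set G) :=
    (Subgroup.normal_subgroupOf_iff_le_normalizer hKH').1 (Subgroup.normal_of_index_eq_two hidx')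
  have hco : IsCoatom H := IsPreprimitive.isCoatom_stabilizer_of_isPreprimitive G a
  have hne' : ¬ H' ≤ H := by
    intro h
    have : K = H' := inf_eq_right.2 h
    rw [this, Subgroup.relIndex_self] at hidx'
    omega
  have hsup : H ⊔ H' = ⊤ := by
    refine hco.2 _ (lt_of_le_of_ne le_sup_left fun h => hne' ?_)
    rw [h]; exact le_sup_right
  have hKn : K.Normal := Subgroup.normalizer_eq_top_iff.1 (top_le_iff.1 (hsup ▸ sup_le hN1 hN2))
  have hnormal : ∀ L : Subgroup G, L.Normal → L ≤ H → L = ⊥ := by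
    intro L hL hLH
    rw [Subgroup.eq_bot_iff_forall]
    intro k hk
    apply FaithfulSMul.eq_of_smul_eq_smul (α := Ω)
    intro x
    obtain ⟨g, rfl⟩ := exists_smul_eq G a x
    have h := hLH (hL.conj_mem k hk g⁻¹)
    rw [hH, mem_stabilizer_iff, inv_inv, mul_smul, mul_smul, inv_smul_eq_iff] at h
    rw [one_smul, h]
  have hKbot : K = ⊥ := hnormal K hKn hKH
  rw [hKbot, Subgroup.relIndex_bot_left] at hidx hidx'
  refine ⟨hidx, ?_⟩
  obtain ⟨t, ht⟩ : ∃ t : G, t ∈ H ∧ t ≠ 1 :=
    (Subgroup.bot_or_exists_ne_one H).resolve_left (fun h => by rw [h] at hidx; simp at hidx)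
  obtain ⟨s, hs⟩ : ∃ s : G, s ∈ H' ∧ s ≠ 1 :=
    (Subgroup.bot_or_exists_ne_one H').resolve_left (fun h => by rw [h] at hidx'; simp at hidx')
  have hgen : ∀ (L : Subgroup G) (x : G), Nat.card L = 2 → x ∈ L → x ≠ 1 →
      L = Subgroup.zpowers x := by
    intro L x hL hx hx1
    haveI : Fact (Nat.Prime 2) := ⟨Nat.prime_two⟩
    refine le_antisymm (fun y hy => ?_) (Subgroup.zpowers_le.2 hx)
    obtain ⟨n, hn⟩ := mem_zpowers_of_prime_card (g := (⟨x, hx⟩ : L)) (g' := ⟨y, hy⟩) hL
      (fun h => hx1 (congrArg Subtype.val h))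
    exact ⟨n, by simpa using congrArg Subtype.val hn⟩
  have hsq : ∀ (L : Subgroup G) (x : G), Nat.card L = 2 → x ∈ L → x * x = 1 := by
    intro L x hL hx
    have h := pow_card_eq_one' (G := L) (x := ⟨x, hx⟩)
    rw [hL, pow_two] at h
    exact congrArg Subtype.val h
  have htt := hsq H t hidx ht.1
  have hss := hsq H' s hidx' hs.1
  have hHt := hgen H t hidx ht.1 ht.2
  have hH's := hgen H' s hidx' hs.1 hs.2
  set r := s * t with hr
  have hinv : t * r * t⁻¹ = r⁻¹ := by
    have e1 : t⁻¹ = t := inv_eq_of_mul_eq_one_left htt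
    have e2 : s⁻¹ = s := inv_eq_of_mul_eq_one_left hss
    rw [hr, mul_inv_rev, e1, e2, mul_assoc, mul_assoc, htt, mul_one]
  have htop : Subgroup.closure ({r, t} : Set G) = ⊤ := by
    rw [eq_top_iff, ← hsup, hHt, hH's, sup_le_iff, Subgroup.zpowers_le, Subgroup.zpowers_le]
    refine ⟨Cfsg.Lib.TwoGroup.mem_closure_right r t, ?_⟩
    have : s = r * t := by rw [hr, mul_assoc, htt, mul_one]
    rw [this]
    exact mul_mem (Cfsg.Lib.TwoGroup.mem_closure_left r t) (Cfsg.Lib.TwoGroup.mem_closure_right r t)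
  have hnnorm : ¬ H.Normal := fun h => by
    have := hnormal H h le_rfl
    rw [this] at hidx
    simp at hidx
  have hm : t ∉ Subgroup.zpowers r := by
    intro hmem
    apply hnnorm
    have hall : ∀ g : G, g ∈ Subgroup.zpowers r := by
      intro g
      have : g ∈ Subgroup.closure ({r, t} : Set G) := by rw [htop]; trivial
      refine (Subgroup.closure_le _).2 ?_ this
      rintro x (rfl | rfl)
      · exact Subgroup.mem_zpowers _
      · exact hmem
    refine ⟨fun k hk g => ?_⟩
    obtain ⟨i, hi⟩ := hall g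
    obtain ⟨j, hj⟩ := hall k
    have : g * k * g⁻¹ = k := by
      rw [← hi, ← hj]
      exact ((Commute.refl r).zpow_zpow i j).mul_inv_cancel
    rw [this]; exact hk
  obtain ⟨e⟩ := Cfsg.Lib.TwoGroup.equiv_dihedral htt hinv hm
  let eG : G ≃* DihedralGroup (orderOf r) :=
    (Subgroup.topEquiv.symm.trans (MulEquiv.subgroupCongr htop.symm)).trans e
  refine ⟨orderOf r, ?_, ⟨eG⟩⟩
  have hn1 : orderOf r ≠ 1 := by
    rw [Ne, orderOf_eq_one_iff]
    intro h
    apply hne'
    rw [hH's, Subgroup.zpowers_le]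
    have : s = t := by rw [← mul_right_cancel_iff (a := t), ← hr, h, htt]
    rw [this]; exact ht.1
  have hdvd : (orderOf r).minFac ∣ orderOf r := Nat.minFac_dvd _
  set p := (orderOf r).minFac with hpdef
  have hpp : p.Prime := Nat.minFac_prime hn1
  set u := r ^ (orderOf r / p) with hu
  have huo : orderOf u = p := orderOf_pow_orderOf_div (orderOf_pos r).ne' hdvd
  have hinvu : t * u * t⁻¹ = u⁻¹ := by rw [hu, ← conj_pow, hinv, inv_pow]
  have hmu : t ∉ Subgroup.zpowers u :=
    fun h => hm (Subgroup.zpowers_le.2 (pow_mem (Subgroup.mem_zpowers r) _) h)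
  obtain ⟨e'⟩ := Cfsg.Lib.TwoGroup.equiv_dihedral htt hinvu hmu
  have htop' : Subgroup.closure ({u, t} : Set G) = ⊤ := by
    refine hco.2 _ (lt_of_le_of_ne ?_ fun h => ?_)
    · rw [hHt, Subgroup.zpowers_le]; exact Cfsg.Lib.TwoGroup.mem_closure_right u t
    · have h3 : u ∈ H := h ▸ Cfsg.Lib.TwoGroup.mem_closure_left u t
      rw [hHt] at h3
      have hu1 : u ≠ 1 := fun h4 => hpp.ne_one (by rw [← huo, h4, orderOf_one])
      have h5 := hgen H u hidx (hHt ▸ h3) hu1
      exact hmu (h5 ▸ ht.1)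
  let eG' : G ≃* DihedralGroup p :=
    ((Subgroup.topEquiv.symm.trans (MulEquiv.subgroupCongr htop'.symm)).trans e').trans
      (huo ▸ MulEquiv.refl _)
  have := Nat.card_congr (eG.symm.trans eG').toEquiv
  rw [DihedralGroup.nat_card, DihedralGroup.nat_card] at this
  have : orderOf r = p := by omega
  rw [this]; exact hpp

end Cfsg.Agent.S3684
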