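import Cfsg.Statements.S3686
import Cfsg.Agent.Lib.Perm.SuborbitThree.Main
import Cfsg.Agent.Lib.Small.CentralizerGL23Core

set_option autoImplicit false
open Cfsg

namespace Cfsg.Agent.S3686

/-- Let G be a finite insoluble group acting faithfully and primitively on a set Ω so that the stabilizer of a point a has an orbit of length 3. Then G is isomorphic to one of: the alternating or the symmetric group of degree 5, PGL(2, 7), PSL(2, 11), PSL(2, 13), PSL(2, p) for a prime p ≡ ±1 (mod 16), PSL(3, 3), or a group containing a normal subgroup of index 2 isomorphic to PSL(3, 3) with trivial centralizer. -/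
theorem result {G Ω : Type*} [Group G] [Finite G] [MulAction G Ω] [FaithfulSMul G Ω] [Finite Ω]
    (hsol : ¬ Group.IsSolvable G) (hprim : MulAction.IsPreprimitive G Ω) (a b : Ω) (h3 : Nat.card (MulAction.orbit (MulAction.stabilizer G a) b) = 3) :
    Nonempty (G ≃* alternatingGroup (Fin 5)) ∨ Nonempty (G ≃* Equiv.Perm (Fin 5)) ∨
      Nonempty (G ≃* GL (Fin 2) (ZMod 7) ⧸ Subgroup.center (GL (Fin 2) (ZMod 7))) ∨
      Nonempty (G ≃* Matrix.ProjectiveSpecialLinearGroup (Fin 2) (ZMod 11)) ∨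
      Nonempty (G ≃* Matrix.ProjectiveSpecialLinearGroup (Fin 2) (ZMod 13)) ∨
      (∃ p : ℕ, p.Prime ∧ (p % 16 = 1 ∨ p % 16 = 15) ∧ Nonempty (G ≃* Matrix.ProjectiveSpecialLinearGroup (Fin 2) (ZMod p))) ∨
      Nonempty (G ≃* Matrix.ProjectiveSpecialLinearGroup (Fin 3) (ZMod 3)) ∨
      (∃ N : Subgroup G, N.Normal ∧ N.index = 2 ∧ Subgroup.centralizer (N : Set G) = ⊥ ∧
        Nonempty (N ≃* Matrix.ProjectiveSpecialLinearGroup (Fin 3) (ZMod 3))) :=
  Cfsg.Lib.Perm.SubThree.list_of_suborbit_three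
    (fun _ _ _ _ t ht f hf hodd v hv hvt hcv =>
      Cfsg.Lib.Small.CentralizerGL23.core_eq_bot t ht f hf hodd v hv hvt hcv)
    hsol hprim a b h3

end Cfsg.Agent.S3686
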