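import Cfsg.Statements.S3687
import Cfsg.Agent.Lib.Recog.AltSubconstituent.Shape
import Cfsg.Agent.Lib.Recog.AltSubconstituent.Paired

set_option autoImplicit false
open Cfsg

namespace Cfsg.Agent.S3687

open Equiv Equiv.Perm Subgroup MulAction Cfsg.Lib.Recog.AltSub

theorem exists_coord {M Y : Type*} [Group M] [MulAction M Y] (c : Y) (N : ℕ)
    (hc : Nat.card (orbit M c) = N + 1) :
    ∃ ε : orbit M c ≃ Fin (N + 1), ε ⟨c, mem_orbit_self c⟩ = 0 := by
  haveI : Finite (orbit M c) := Nat.finite_of_card_ne_zero (by omega)
  let e₀ : orbit M c ≃ Fin (N + 1) := Finite.equivFinOfCardEq hc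
  exact ⟨e₀.trans (Equiv.swap (e₀ ⟨c, mem_orbit_self c⟩) 0), by simp⟩

theorem apply_zero_iff {M Y : Type*} [Group M] [MulAction M Y] (c : Y) (N : ℕ)
    (ε : orbit M c ≃ Fin (N + 1)) (hε : ε ⟨c, mem_orbit_self c⟩ = 0) (m : M) :
    (ε.permCongrHom.toMonoidHom.comp (toPermHom M (orbit M c))) m 0 = 0 ↔ m • c = c := by
  show ε (m • ε.symm 0) = 0 ↔ _
  have h : ε.symm 0 = ⟨c, mem_orbit_self c⟩ := by rw [Equiv.symm_apply_eq, hε]
  rw [h, ← hε, ε.injective.eq_iff]
  exact Subtype.ext_iff

/-- Let a finite group G act faithfully and primitively on a set Ω, let a and b be points such that the orbit Δ of b under the stabilizer H of a has d ≥ 6 elements, and suppose that the permutation group induced by H on Δ contains the alternating group of Δ (the image of H in the symmetric group of Δ has index at most 2) while H does not act faithfully on Δ. Then either H induces exactly the alternating group of Δ and H is isomorphic to the direct product of the alternating groups of degrees d and d - 1; or H induces the full symmetric group of Δ and H is isomorphic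 to one of: the direct product of the symmetric groups of degrees d and d - 1, the direct product of the symmetric group of degree d with the alternating group of degree d - 1, or the subgroup of the direct product of the symmetric groups of degrees d and d - 1 consisting of the pairs of permutations with equal signs. -/
theorem result {G Ω : Type*} [Group G] [Finite G] [MulAction G Ω] [FaithfulSMul G Ω] [Finite Ω]
    (hprim : MulAction.IsPreprimitive G Ω) (a b : Ω) (d : ℕ) (hd : Nat.card (MulAction.orbit (MulAction.stabilizer G a) b) = d) (h6 : 6 ≤ d)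
    (halt : (MulAction.toPermHom (MulAction.stabilizer G a) (MulAction.orbit (MulAction.stabilizer G a) b)).range.index ≤ 2)
    (hunf : ¬ Function.Injective (MulAction.toPermHom (MulAction.stabilizer G a) (MulAction.orbit (MulAction.stabilizer G a) b))) :
    ((MulAction.toPermHom (MulAction.stabilizer G a) (MulAction.orbit (MulAction.stabilizer G a) b)).range.index = 2 ∧
      Nonempty (MulAction.stabilizer G a ≃* alternatingGroup (Fin d) × alternatingGroup (Fin (d - 1)))) ∨
    ((MulAction.toPermHom (MulAction.stabilizer G a) (MulAction.orbit (MulAction.stabilizer G a) b)).range = ⊤ ∧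
      (Nonempty (MulAction.stabilizer G a ≃* Equiv.Perm (Fin d) × Equiv.Perm (Fin (d - 1))) ∨
       Nonempty (MulAction.stabilizer G a ≃* Equiv.Perm (Fin d) × alternatingGroup (Fin (d - 1))) ∨
       Nonempty (MulAction.stabilizer G a ≃* ((Equiv.Perm.sign.comp (MonoidHom.fst (Equiv.Perm (Fin d)) (Equiv.Perm (Fin (d - 1))))) *
         (Equiv.Perm.sign.comp (MonoidHom.snd (Equiv.Perm (Fin d)) (Equiv.Perm (Fin (d - 1)))))).ker))) := by
  classical
  obtain ⟨n, rfl⟩ : ∃ n, d = n + 1 := ⟨d - 1, by omega⟩
  have hab : a ≠ b := by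
    rintro rfl
    have hs : Subsingleton (orbit (stabilizer G a) a) := ⟨by
      rintro ⟨_, ⟨h, rfl⟩⟩ ⟨_, ⟨h', rfl⟩⟩
      exact Subtype.ext ((h.2 : (h : G) • a = a).trans (h'.2 : (h' : G) • a = a).symm)⟩
    have := Finite.card_le_one_iff_subsingleton.mpr hs
    omega
  haveI := hprim.toIsPretransitive
  haveI : Nontrivial Ω := ⟨a, b, hab⟩
  obtain ⟨g₀, hg₀⟩ := exists_smul_eq G a b
  let e : stabilizer G a ≃* stabilizer G b :=
    (stabilizerEquivStabilizer (g := g₀) hg₀.symm)
  have hidx : Nat.card (orbit (stabilizer G b) a) = n + 1 := by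
    have h1 := Subgroup.card_mul_index (stabilizer (stabilizer G b) a)
    have h2 := Subgroup.card_mul_index (stabilizer (stabilizer G a) b)
    have h3 : Nat.card (stabilizer (stabilizer G b) a) = Nat.card (stabilizer (stabilizer G a) b) :=
      Nat.card_congr
        { toFun := fun x => ⟨⟨x.1.1, x.2⟩, x.1.2⟩
          invFun := fun x => ⟨⟨x.1.1, x.2⟩, x.1.2⟩
          left_inv := fun _ => rfl
          right_inv := fun _ => rfl }
    rw [index_stabilizer] at h1 h2
    rw [← Nat.card_coe_set_eq] at h1 h2
    rw [hd] at h2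
    rw [h3, ← Nat.card_congr e.toEquiv, ← h2] at h1
    exact Nat.eq_of_mul_eq_mul_left Nat.card_pos h1
  obtain ⟨ε, hε⟩ := exists_coord b n hd
  obtain ⟨δ, hδ⟩ := exists_coord a n hidx
  let τ := toPermHom (stabilizer G a) (orbit (stabilizer G a) b)
  let φ : stabilizer G a →* Perm (Fin (n + 1)) := ε.permCongrHom.toMonoidHom.comp τ
  let ψ : stabilizer G b →* Perm (Fin (n + 1)) :=
    δ.permCongrHom.toMonoidHom.comp (toPermHom (stabilizer G b) (orbit (stabilizer G b) a))
  have hrange : φ.range = τ.range.map ε.permCongrHom.toMonoidHom := MonoidHom.range_comp _ _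
  have hindex : φ.range.index = τ.range.index := by
    rw [hrange]; exact Subgroup.index_map_equiv τ.range ε.permCongrHom
  haveI : Nontrivial (Fin (n + 1)) := Fin.nontrivial_iff_two_le.mpr (by omega)
  have hcases : φ.range = ⊤ ∨ φ.range = alternatingGroup (Fin (n + 1)) := by
    rcases Nat.lt_or_ge φ.range.index 2 with h | h
    · have h1 : φ.range.index = 1 := by
        have := φ.range.index_ne_zero_of_finite
        omega
      exact Or.inl (index_eq_one.mp h1)
    · refine Or.inr (Equiv.Perm.eq_alternatingGroup_of_index_eq_two ?_)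
      rw [hindex] at h ⊢
      have : τ.range.index ≤ 2 := halt
      omega
  have haltφ : alternatingGroup (Fin (n + 1)) ≤ φ.range := by
    rcases hcases with h | h <;> rw [h]
    exact le_top
  have haltψ : alternatingGroup (Fin (n + 1)) ≤ ψ.range := by
    refine paired_alt (by omega) hprim hab φ haltφ ψ fun l hl ω hω => ?_
    have h1 : toPermHom (stabilizer G b) (orbit (stabilizer G b) a) l = 1 :=
      δ.permCongrHom.injective (hl.trans (map_one δ.permCongrHom).symm)
    exact congrArg Subtype.val (Equiv.congr_fun h1 ⟨ω, hω⟩)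
  have hcore : ∀ x : Ω, (stabilizer G x).normalCore = ⊥ := by
    intro x
    rw [eq_bot_iff]
    intro k hk
    rw [mem_bot]
    refine eq_of_smul_eq_smul fun y : Ω => ?_
    obtain ⟨g, rfl⟩ := exists_smul_eq G x y
    have h : (g⁻¹ * k * g) • x = x := by simpa using hk g⁻¹
    rw [one_smul]
    rw [mul_smul, mul_smul, inv_smul_eq_iff] at h
    exact h
  let P : Pair G n :=
    { H := stabilizer G a
      L := stabilizer G b
      φ := φ
      ψ := ψ
      five := by omega
      altφ := haltφ
      altψ := haltψ
      memφ := fun h => (apply_zero_iff b n ε hε h).symm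
      memψ := fun l => (apply_zero_iff a n δ hδ l).symm
      selfH := Cfsg.Lib.Perm.TW.selfLocal_of_isCoatom ((isCoatom_stabilizer_iff_preprimitive (G := G) a).mpr hprim) (hcore a)
      selfL := Cfsg.Lib.Perm.TW.selfLocal_of_isCoatom ((isCoatom_stabilizer_iff_preprimitive (G := G) b).mpr hprim) (hcore b)
      iso := ⟨e⟩ }
  have hne : P.K ≠ ⊥ := by
    intro h
    refine hunf ((injective_iff_map_eq_one _).mpr fun x hx => ?_)
    have hφ1 : φ x = 1 := by
      show ε.permCongrHom (τ x) = 1
      rw [show τ x = 1 from hx, map_one]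
    have : (x : G) ∈ P.K := P.mem_K.mpr ⟨x.2, hφ1⟩
    rw [h, mem_bot] at this
    exact Subtype.ext this
  obtain ⟨sA, sS⟩ := P.shape hne
  rw [show n + 1 - 1 = n by omega]
  rcases hcases with h | h
  · refine Or.inr ⟨?_, ?_⟩
    · rw [← index_eq_one, ← hindex, h, index_top]
    · rcases sS h with h' | h'
      · exact Or.inl h'
      · exact Or.inr (Or.inr h')
  · exact Or.inl ⟨by rw [← hindex, h, alternatingGroup.index_eq_two], sA h⟩

end Cfsg.Agent.S3687
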