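import Cfsg.Statements.S3693
import Cfsg.Agent.Lib.Perm.SecondCoreBound
-- import your own Cfsg.Agent.* helpers here

set_option autoImplicit false
open Cfsg

namespace Cfsg.Agent.S3693

/-- Let a finite group G act faithfully and primitively on a set Ω, let a and b be points such that the orbit Δ of b under the stabilizer H of a has length d ≥ 2, and consider the permutation group induced on Δ by the elements of H fixing b. If that induced group has trivial Fitting subgroup (no non-trivial nilpotent normal subgroup), then the two-point stabilizer of a and b has trivial Fitting subgroup and the order of H divides d! · ((d - 1)!)^d. -/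
theorem result {G Ω : Type*} [Group G] [Finite G] [MulAction G Ω] [FaithfulSMul G Ω] [Finite Ω]
    (hprim : MulAction.IsPreprimitive G Ω) (a b : Ω) (d : ℕ) (hd : Nat.card (MulAction.orbit (MulAction.stabilizer G a) b) = d) (h2 : 2 ≤ d)
    (hF : Cfsg.fittingSubgroup ↥(((MulAction.stabilizer G b).subgroupOf (MulAction.stabilizer G a)).map (MulAction.toPermHom (MulAction.stabilizer G a) (MulAction.orbit (MulAction.stabilizer G a) b))) = ⊥) :
    Cfsg.fittingSubgroup ↥(MulAction.stabilizer G a ⊓ MulAction.stabilizer G b) = ⊥ ∧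
      Nat.card (MulAction.stabilizer G a) ∣ Nat.factorial d * (Nat.factorial (d - 1)) ^ d := by
  classical
  obtain ⟨g, hg, hA, hB, hne, hdA, hdB⟩ :=
    Cfsg.Lib.Perm.TW.stabilizer_pair_setup hprim a b d hd h2
  set A := MulAction.stabilizer G a with hAdef
  set B := MulAction.stabilizer G b with hBdef
  let e : A ≃* B := (A.equivMapOfInjective _ (MulAut.conj g).injective).trans
    (MulEquiv.subgroupCongr hg.symm)
  set f := MulAction.toPermHom A (MulAction.orbit A b) with hf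
  set H' := B.subgroupOf A with hH'
  have hpc : ∀ p : ℕ, p.Prime → Cfsg.Lib.Perm.TW.pc p (A ⊓ B) = ⊥ := by
    intro p hp
    have : Fact p.Prime := ⟨hp⟩
    refine Cfsg.Lib.Perm.TW.pc_inf_eq_bot hA hB hne hg p ?_
    set Q := Cfsg.Lib.Perm.TW.pc p (A ⊓ B) with hQ
    have hQA : Q ≤ A := (Cfsg.Lib.Perm.TW.pc_le _ _).trans inf_le_left
    set Q' := Q.subgroupOf A with hQ'
    have hQH : Q' ≤ H' := fun x hx => (Cfsg.Lib.Perm.TW.pc_le p (A ⊓ B) hx).2
    have hn : ((Q'.map f).subgroupOf (H'.map f)).Normal := by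
      refine ⟨fun y hy k => ?_⟩
      obtain ⟨h, hh, hhk⟩ := k.2
      obtain ⟨x, hx, hxy⟩ := hy
      refine ⟨h * x * h⁻¹, ?_, ?_⟩
      · exact (Subgroup.mem_normalizer_iff.1
          (Cfsg.Lib.Perm.TW.le_normalizer_pc p (A ⊓ B) ⟨h.2, hh⟩) _).1 hx
      · simp only [Subgroup.coe_subtype] at hxy
        rw [map_mul, map_mul, map_inv, hhk, hxy]
        rfl
    have hp' : IsPGroup p ((Q'.map f).subgroupOf (H'.map f)) :=
      (((Cfsg.Lib.Perm.TW.isPGroup_pc p (A ⊓ B)).of_equiv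
        (Subgroup.subgroupOfEquivOfLe hQA).symm).map f).of_equiv
        (Subgroup.subgroupOfEquivOfLe (Subgroup.map_mono hQH)).symm
    have hbot := (Cfsg.Lib.Core.le_pCore' hn hp').trans
      (Cfsg.Lib.Core.pCore_le_fittingSubgroup p _)
    rw [hF, le_bot_iff, Subgroup.subgroupOf_eq_bot, disjoint_iff,
      inf_eq_left.2 (Subgroup.map_mono hQH), Subgroup.map_eq_bot_iff] at hbot
    intro x hx
    refine ⟨⟨x, hQA hx⟩, fun c => ?_, rfl⟩
    have h1 : f ⟨x, hQA hx⟩ = 1 := hbot (show (⟨x, hQA hx⟩ : A) ∈ Q' from hx)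
    have h2 := Equiv.congr_fun h1 ⟨c⁻¹ • b, ⟨c⁻¹, rfl⟩⟩
    have h3 : x • ((c : G)⁻¹ • b) = (c : G)⁻¹ • b := congrArg Subtype.val h2
    constructor
    · exact A.mul_mem (A.mul_mem c.2 (hQA hx)) (A.inv_mem c.2)
    · show ((c : G) * x * (c : G)⁻¹) • b = b
      rw [mul_smul, mul_smul, h3, smul_inv_smul]
  have hFH : Cfsg.fittingSubgroup ↥(A ⊓ B) = ⊥ := by
    rw [Cfsg.Lib.Core.fittingSubgroup_eq_iSup_pCore, iSup_eq_bot]
    intro q
    have h := hpc q q.2
    rwa [Cfsg.Lib.Perm.TW.pc, Subgroup.map_eq_bot_iff_of_injective _ (A ⊓ B).subtype_injective] at h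
  refine ⟨hFH, Cfsg.Lib.Perm.TW.card_dvd_of_core_eq_bot e hdA hdB ?_⟩
  by_contra h
  push Not at h
  obtain ⟨p, hp, hpg, -⟩ := Cfsg.Lib.Perm.TW.thompson_wielandt hA hB hne e h.1 h.2
  have hle := ((Cfsg.Lib.Perm.TW.coreIn_le_left (Cfsg.Lib.Perm.TW.coreIn (A ⊓ B) A ⊓
    Cfsg.Lib.Perm.TW.coreIn (A ⊓ B) B) A).trans inf_le_left).trans
    (Cfsg.Lib.Perm.TW.coreIn_le_left _ _)
  have := Cfsg.Lib.Perm.TW.le_pc hle
    (inf_le_left.trans (Cfsg.Lib.Perm.TW.le_normalizer_coreIn _ _)) (hpg.to_le le_sup_left)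
  rw [hpc p hp, le_bot_iff] at this
  exact h.1 this

end Cfsg.Agent.S3693
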