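import Cfsg.Statements.S3696
-- import your own Cfsg.Agent.* helpers here

set_option autoImplicit false
open Cfsg

namespace Cfsg.Agent.S3696

/-- The weighted arithmetic-geometric inequality in natural numbers. -/
theorem combine {A B a b x y : ℕ} (hA : A * a ^ a ≤ x ^ a) (hB : B * b ^ b ≤ y ^ b) :
    A * B * (a + b) ^ (a + b) ≤ (x + y) ^ (a + b) := by
  rcases Nat.eq_zero_or_pos a with rfl | ha
  · simp at hA
    calc A * B * (0 + b) ^ (0 + b) ≤ 1 * B * (0 + b) ^ (0 + b) := by gcongr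
      _ = B * b ^ b := by simp
      _ ≤ y ^ b := hB
      _ ≤ (x + y) ^ (0 + b) := by rw [zero_add]; gcongr; omega
  rcases Nat.eq_zero_or_pos b with rfl | hb
  · simp at hB
    calc A * B * (a + 0) ^ (a + 0) ≤ A * 1 * (a + 0) ^ (a + 0) := by gcongr
      _ = A * a ^ a := by simp
      _ ≤ x ^ a := hA
      _ ≤ (x + y) ^ (a + 0) := by rw [add_zero]; gcongr; omega
  have key : ((x : ℝ) / a) ^ a * ((y : ℝ) / b) ^ b ≤ (((x : ℝ) + y) / (a + b)) ^ (a + b) := by
    have ha' : (0 : ℝ) < a := by exact_mod_cast ha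
    have hb' : (0 : ℝ) < b := by exact_mod_cast hb
    have hx : (0 : ℝ) ≤ (x : ℝ) / a := by positivity
    have hy : (0 : ℝ) ≤ (y : ℝ) / b := by positivity
    have h := Real.geom_mean_le_arith_mean2_weighted (w₁ := (a : ℝ) / (a + b)) (w₂ := (b : ℝ) / (a + b))
      (by positivity) (by positivity) hx hy (by field_simp)
    have h' := pow_le_pow_left₀ (by positivity) h (a + b)
    rw [mul_pow, ← Real.rpow_natCast _ (a + b), ← Real.rpow_natCast _ (a + b), ← Real.rpow_mul hx,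
      ← Real.rpow_mul hy, Nat.cast_add, div_mul_cancel₀ _ (by positivity), div_mul_cancel₀ _ (by positivity),
      Real.rpow_natCast, Real.rpow_natCast] at h'
    refine h'.trans_eq ?_
    congr 1
    field_simp
  have h1 : ((A * B : ℕ) : ℝ) ≤ ((x : ℝ) / a) ^ a * ((y : ℝ) / b) ^ b := by
    have hA' : (A : ℝ) ≤ ((x : ℝ) / a) ^ a := by
      rw [div_pow, le_div_iff₀ (by positivity)]
      exact_mod_cast hA
    have hB' : (B : ℝ) ≤ ((y : ℝ) / b) ^ b := by
      rw [div_pow, le_div_iff₀ (by positivity)]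
      exact_mod_cast hB
    push_cast
    exact mul_le_mul hA' hB' (by positivity) (by positivity)
  have h2 := h1.trans key
  rw [div_pow, le_div_iff₀ (by positivity)] at h2
  exact_mod_cast h2

theorem pow_block {p e d : ℕ} (hp : 2 ≤ p) (hd : 1 ≤ d) (hde : d ≤ e) : p ^ e * d ^ d ≤ (p ^ e) ^ d := by
  obtain ⟨c, rfl⟩ : ∃ c, d = c + 1 := ⟨d - 1, by omega⟩
  rw [pow_succ' (p ^ e) c]
  refine Nat.mul_le_mul_left _ ?_
  rw [← pow_mul]
  calc (c + 1) ^ (c + 1) ≤ (2 ^ c) ^ (c + 1) := Nat.pow_le_pow_left Nat.lt_two_pow_self _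
    _ = 2 ^ (c * (c + 1)) := (pow_mul 2 c (c + 1)).symm
    _ ≤ p ^ (c * (c + 1)) := Nat.pow_le_pow_left hp _
    _ ≤ p ^ (e * c) := Nat.pow_le_pow_right (by omega) (by rw [mul_comm e c]; exact Nat.mul_le_mul_left c hde)

/-- The part of `S` inside the stabiliser of a point, and the orbit. -/
theorem card_eq_mul {Ω : Type*} [Fintype Ω] [DecidableEq Ω] (S : Subgroup (Equiv.Perm Ω)) (ω : Ω) :
    Nat.card (S ⊓ MulAction.stabilizer (Equiv.Perm Ω) ω : Subgroup _) * (MulAction.orbit S ω).ncard = Nat.card S := by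
  have h : (MulAction.orbit S ω).ncard = (MulAction.stabilizer (Equiv.Perm Ω) ω).relIndex S := by
    rw [← MulAction.index_stabilizer]
    rfl
  rw [h, ← Subgroup.inf_relIndex_left, ← Subgroup.relIndex_bot_left, ← Subgroup.relIndex_bot_left]
  exact Subgroup.relIndex_mul_relIndex _ _ _ bot_le inf_le_left

/-- Induction over subgroups of `A`. -/
theorem bound {Ω : Type*} [Fintype Ω] [DecidableEq Ω] (p : ℕ) (hp : p.Prime) (A O : Subgroup (Equiv.Perm Ω))
    (hA : IsPGroup p A) (hab : ∀ x ∈ A, ∀ y ∈ A, x * y = y * x) (hO : ∀ x, x ∈ O ↔ x ∈ A ∧ x ^ p = 1)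
    (N : ℕ) : ∀ S : Subgroup (Equiv.Perm Ω), S ≤ A → Nat.card S ≤ N →
      ∃ k, Nat.card (O ⊓ S : Subgroup _) = p ^ k ∧
        Nat.card S * k ^ k ≤ {ω : Ω | ∃ x ∈ S, x ω ≠ ω}.ncard ^ k := by
  haveI := Fact.mk hp
  induction N with
  | zero =>
    intro S _ h
    exact absurd h (not_le.mpr Nat.card_pos)
  | succ N ih =>
    intro S hSA hcard
    by_cases hbot : O ⊓ S = ⊥
    · refine ⟨0, by rw [hbot, Subgroup.card_bot, pow_zero], ?_⟩
      have hS : S = ⊥ := by
        by_contra hne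
        obtain ⟨n, hn⟩ := IsPGroup.iff_card.mp (hA.to_le hSA)
        have hn0 : n ≠ 0 := by
          rintro rfl
          exact hne (Subgroup.card_eq_one.mp hn)
        obtain ⟨x, hx⟩ := exists_prime_orderOf_dvd_card' (G := S) p (hn ▸ dvd_pow_self p hn0)
        have hxo : (x : Equiv.Perm Ω) ∈ O ⊓ S :=
          ⟨(hO _).mpr ⟨hSA x.2, congrArg Subtype.val (hx ▸ pow_orderOf_eq_one x : x ^ p = 1)⟩, x.2⟩
        rw [hbot, Subgroup.mem_bot] at hxo
        rw [show x = 1 from Subtype.ext hxo, orderOf_one] at hx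
        exact hp.one_lt.ne hx
      rw [hS, Subgroup.card_bot]
      simp
    obtain ⟨t, ht, ht1⟩ := Subgroup.bot_or_exists_ne_one _ |>.resolve_left hbot
    obtain ⟨ω, hω⟩ : ∃ ω, t ω ≠ ω := by
      by_contra h
      push Not at h
      exact ht1 (Equiv.ext h)
    set S' := S ⊓ MulAction.stabilizer (Equiv.Perm Ω) ω with hS'
    set y := (MulAction.orbit S ω).ncard with hy
    have hmul : Nat.card S' * y = Nat.card S := card_eq_mul S ω
    have hmulO := card_eq_mul (O ⊓ S) ω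
    rw [inf_assoc, ← hS'] at hmulO
    set z := (MulAction.orbit (O ⊓ S : Subgroup _) ω).ncard with hz
    have hz1 : 1 < z := (Set.one_lt_ncard (Set.toFinite _)).mpr
      ⟨t ω, ⟨⟨t, ht⟩, rfl⟩, ω, MulAction.mem_orbit_self ω, hω⟩
    have hzy : z ≤ y := Set.ncard_le_ncard (by rintro _ ⟨⟨x, hx⟩, rfl⟩; exact ⟨⟨x, hx.2⟩, rfl⟩) (Set.toFinite _)
    have hy1 : 1 < y := lt_of_lt_of_le hz1 hzy
    have hlt : Nat.card S' ≤ N := by
      have h1 : Nat.card S' * 2 ≤ Nat.card S' * y := Nat.mul_le_mul_left _ hy1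
      have h2 : 0 < Nat.card S' := Nat.card_pos
      omega
    obtain ⟨k', hk', hb⟩ := ih S' (inf_le_left.trans hSA) hlt
    obtain ⟨l, hl⟩ := IsPGroup.iff_card.mp (hA.to_le hSA)
    obtain ⟨e, _, he⟩ := (Nat.dvd_prime_pow hp).mp (hl ▸ hmul ▸ dvd_mul_left y _)
    obtain ⟨l', hl'⟩ := IsPGroup.iff_card.mp (hA.to_le ((inf_le_right (a := O)).trans hSA : O ⊓ S ≤ A))
    obtain ⟨d, _, hd⟩ := (Nat.dvd_prime_pow hp).mp (hl' ▸ hmulO ▸ dvd_mul_left z _)
    have hd1 : 1 ≤ d := by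
      rcases d with _ | d
      · simp at hd; omega
      · omega
    have hde : d ≤ e := (Nat.pow_le_pow_iff_right hp.one_lt).mp (hd ▸ he ▸ hzy)
    refine ⟨k' + d, by rw [← hmulO, hk', hd, pow_add], ?_⟩
    have hblock : y * d ^ d ≤ y ^ d := he ▸ pow_block hp.two_le hd1 hde
    refine le_trans ?_ (le_trans (combine hb hblock) (Nat.pow_le_pow_left ?_ _))
    · rw [hmul]
    · rw [hy, ← Set.ncard_union_eq ?_ (Set.toFinite _) (Set.toFinite _)]
      · refine Set.ncard_le_ncard (Set.union_subset ?_ ?_) (Set.toFinite _)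
        · rintro v ⟨x, hx, hxv⟩
          exact ⟨x, hx.1, hxv⟩
        · rintro _ ⟨⟨x, hx⟩, rfl⟩
          refine ⟨t, ht.2, fun h => hω (x.injective ?_)⟩
          show x (t ω) = x ω
          rw [← Equiv.Perm.mul_apply, hab x (hSA hx) t (hSA ht.2)]
          exact h
      · rw [Set.disjoint_left]
        rintro _ ⟨g, hg, hgv⟩ ⟨⟨x, hx⟩, rfl⟩
        refine hgv ?_
        show g (x ω) = x ω
        rw [← Equiv.Perm.mul_apply, hab g (hSA hg.1) x (hSA hx), Equiv.Perm.mul_apply,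
          show g ω = ω from hg.2]

/-- Let p be a prime, Ω a finite set with n ≥ p elements, and A an abelian p-subgroup of the symmetric group on Ω whose elements of order dividing p number p^k (so k is the rank of A). Then |A| · k^k ≤ n^k, that is, |A| ≤ (n/k)^k. -/
theorem result {Ω : Type*} [Fintype Ω] [DecidableEq Ω]
    (p : ℕ) (hp : p.Prime) (hn : p ≤ Fintype.card Ω) (A : Subgroup (Equiv.Perm Ω)) (hA : IsPGroup p A) (hab : IsMulCommutative A)
    (k : ℕ) (hk : Nat.card {x : A // x ^ p = 1} = p ^ k) :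
    Nat.card A * k ^ k ≤ Fintype.card Ω ^ k := by
  classical
  have hab' : ∀ x ∈ A, ∀ y ∈ A, x * y = y * x := fun x hx y hy =>
    congrArg Subtype.val (hab.is_comm.comm (⟨x, hx⟩ : A) ⟨y, hy⟩)
  let O : Subgroup (Equiv.Perm Ω) :=
    { carrier := {x | x ∈ A ∧ x ^ p = 1}
      one_mem' := ⟨A.one_mem, one_pow p⟩
      mul_mem' := fun {x y} hx hy => ⟨A.mul_mem hx.1 hy.1, by
        rw [(show Commute x y from hab' x hx.1 y hy.1).mul_pow, hx.2, hy.2, one_mul]⟩
      inv_mem' := fun {x} hx => ⟨A.inv_mem hx.1, by rw [inv_pow, hx.2, inv_one]⟩ }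
  obtain ⟨k', hk', hb⟩ := bound p hp A O hA hab' (fun x => Iff.rfl) _ A le_rfl le_rfl
  have hc : Nat.card (O ⊓ A : Subgroup _) = p ^ k := by
    rw [← hk]
    refine Nat.card_congr
      { toFun := fun x => ⟨⟨x.1, x.2.2⟩, Subtype.ext x.2.1.2⟩
        invFun := fun x => ⟨x.1.1, ⟨x.1.2, congrArg Subtype.val x.2⟩, x.1.2⟩
        left_inv := fun x => rfl
        right_inv := fun x => rfl }
  obtain rfl : k' = k := Nat.pow_right_injective hp.two_le (hk'.symm.trans hc)
  refine hb.trans (Nat.pow_le_pow_left ?_ _)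
  rw [← Nat.card_eq_fintype_card, ← Set.ncard_univ]
  exact Set.ncard_le_ncard (Set.subset_univ _) (Set.toFinite _)

end Cfsg.Agent.S3696
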