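import Cfsg.Statements.S3699
import Cfsg.Agent.Lib.CIT.Nonsolvable
import Cfsg.Agent.Lib.Linear.Suzuki.Partition
import Cfsg.Agent.Lib.Solv.ThreePrimes
import Cfsg.Agent.S2904

set_option autoImplicit false
open Cfsg

namespace Cfsg.Agent.S3699

open Cfsg.Lib Cfsg.Lib.Linear

/-- The Suzuki group only depends on the field up to isomorphism. -/
theorem sz_congr {F F' : Type*} [Field F] [Field F'] (φ : F ≃+* F') (e : ℕ) :
    Nonempty (↥(Lie.Sz F e) ≃* ↥(Lie.Sz F' e)) := by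
  let f : GL (Fin 4) F ≃* GL (Fin 4) F' := Units.mapEquiv φ.mapMatrix.toMulEquiv
  have hf : ∀ g i j, (f g : Matrix (Fin 4) (Fin 4) F') i j = φ ((g : Matrix (Fin 4) (Fin 4) F) i j) :=
    fun g i j => rfl
  have hsp : ∀ g, f g ∈ Lie.Sp4 F' ↔ g ∈ Lie.Sp4 F := by
    intro g
    have hval : ∀ (u v : Fin 4 → F),
        Lie.altForm4 ((f g : Matrix (Fin 4) (Fin 4) F').mulVec (φ ∘ u))
          ((f g : Matrix (Fin 4) (Fin 4) F').mulVec (φ ∘ v)) =
        φ (Lie.altForm4 ((g : Matrix (Fin 4) (Fin 4) F).mulVec u) ((g : Matrix (Fin 4) (Fin 4) F).mulVec v)) := by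
      intro u v
      simp [Lie.altForm4, Matrix.mulVec, dotProduct, hf, map_add, map_mul, map_sum]
    have halt : ∀ (u v : Fin 4 → F), Lie.altForm4 (φ ∘ u) (φ ∘ v) = φ (Lie.altForm4 u v) := by
      intro u v
      simp [Lie.altForm4, map_add, map_mul]
    constructor
    · intro h u v
      apply φ.injective
      have := h (φ ∘ u) (φ ∘ v)
      rwa [halt, Units.coeHom_apply, hval] at this
    · intro h u v
      have hu : u = φ ∘ (φ.symm ∘ u) := by ext; simp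
      have hv : v = φ ∘ (φ.symm ∘ v) := by ext; simp
      rw [hu, hv, halt, Units.coeHom_apply, hval]
      exact congrArg φ (h _ _)
  have hst : ∀ g : GL (Fin 4) F,
      (Lie.star4 (f g : Matrix (Fin 4) (Fin 4) F') = (f g : Matrix (Fin 4) (Fin 4) F').map (fun x => x ^ e)) ↔
      (Lie.star4 (g : Matrix (Fin 4) (Fin 4) F) = (g : Matrix (Fin 4) (Fin 4) F).map (fun x => x ^ e)) := by
    intro g
    rw [← Matrix.ext_iff, ← Matrix.ext_iff]
    refine forall₂_congr fun p r => ?_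
    simp only [Lie.star4, Matrix.of_apply, Matrix.map_apply, hf, ← map_mul, ← map_sub, ← map_pow]
    exact φ.injective.eq_iff
  have key : (Lie.Sz F e).map f.toMonoidHom = Lie.Sz F' e := by
    rw [Lie.Sz, Lie.Sz, MonoidHom.map_closure]
    congr 1
    ext g'
    obtain ⟨g, rfl⟩ := f.surjective g'
    constructor
    · rintro ⟨a, ha, hag⟩
      obtain rfl := f.injective hag
      exact ⟨(hsp a).2 ha.1, (hst a).2 ha.2⟩
    · rintro ⟨h1, h2⟩
      exact ⟨g, ⟨(hsp g).1 h1, (hst g).1 h2⟩, rfl⟩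
  exact ⟨((Lie.Sz F e).equivMapOfInjective f.toMonoidHom f.injective).trans (MulEquiv.subgroupCongr key)⟩

/-- An element whose order is a product of two primes lies in one of the cyclic components. -/
theorem exists_comp {F : Type*} [Field F] [Fintype F] {m : ℕ} (h : Suz.Params F m) {r s : ℕ}
    (hr : r.Prime) (hs : s.Prime) (hrs : r ≠ s) {x : ↥(Lie.Sz F (2 ^ (m + 1)))} (hx : orderOf x = r * s) :
    ∃ c ∈ Suz.compOrders h, r ∣ c ∧ s ∣ c := by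
  obtain ⟨f, -⟩ := Suz.exists_lie_equiv h
  have hy : orderOf (f.symm x) = r * s := by rw [MulEquiv.orderOf_eq, hx]
  have hne : f.symm x ≠ 1 := fun e => by
    rw [e, orderOf_one] at hy
    exact hr.ne_one (Nat.eq_one_of_mul_eq_one_right hy.symm)
  rcases Suz.cases_centralizer h hne with ⟨h4, -⟩ | ⟨-, hc⟩
  · have h4' : r * s ∣ 2 ^ 2 := hy ▸ orderOf_dvd_of_pow_eq_one h4
    have hr2 := (Nat.prime_dvd_prime_iff_eq hr Nat.prime_two).1 (hr.dvd_of_dvd_pow (dvd_trans ⟨s, rfl⟩ h4'))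
    have hs2 := (Nat.prime_dvd_prime_iff_eq hs Nat.prime_two).1
      (hs.dvd_of_dvd_pow (dvd_trans ⟨r, mul_comm r s⟩ h4'))
    exact absurd (hr2.trans hs2.symm) hrs
  · refine ⟨_, hc, ?_⟩
    have hd : orderOf (f.symm x) ∣ Nat.card ↥(Subgroup.centralizer ({f.symm x} : Set ↥(Cfsg.Sz F m))) :=
      Subgroup.orderOf_dvd_natCard _ (Subgroup.mem_centralizer_singleton_iff.2 rfl)
    rw [hy] at hd
    exact ⟨dvd_trans ⟨s, rfl⟩ hd, dvd_trans ⟨r, mul_comm r s⟩ hd⟩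

/-- The order of the Suzuki group, split into its components. -/
theorem card_eq {F : Type*} [Field F] [Fintype F] {m : ℕ} (h : Suz.Params F m) :
    Nat.card ↥(Lie.Sz F (2 ^ (m + 1))) =
      (2 ^ (2 * m + 1)) ^ 2 * ((2 ^ (2 * m + 1)) ^ 2 + 1) * (2 ^ (2 * m + 1) - 1) := by
  obtain ⟨f, -⟩ := Suz.exists_lie_equiv h
  rw [← Nat.card_congr f.toEquiv, Suz.card_Sz' h]

theorem not_three_dvd (m : ℕ) :
    ¬ 3 ∣ (2 ^ (2 * m + 1)) ^ 2 * ((2 ^ (2 * m + 1)) ^ 2 + 1) * (2 ^ (2 * m + 1) - 1) := by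
  have h2 : 2 ^ (2 * m + 1) % 3 = 2 := by
    rw [pow_succ, pow_mul, Nat.mul_mod, Nat.pow_mod]; norm_num
  generalize 2 ^ (2 * m + 1) = q at h2 ⊢
  intro h
  rcases Nat.prime_three.dvd_mul.1 h with h1 | h1
  · rcases Nat.prime_three.dvd_mul.1 h1 with h4 | h4
    · have := Nat.prime_three.dvd_of_dvd_pow h4; omega
    · rw [Nat.dvd_iff_mod_eq_zero, Nat.add_mod, Nat.pow_mod, h2] at h4; norm_num at h4
  · omega

/-- The odd part of the order of the Suzuki group divides `q ^ 4 - 1`. -/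
theorem dvd_pow_sub_one {n r : ℕ} (hr : r.Prime) (hr2 : r ≠ 2)
    (h : r ∣ (2 ^ n) ^ 2 * ((2 ^ n) ^ 2 + 1) * (2 ^ n - 1)) : r ∣ 2 ^ (4 * n) - 1 := by
  have e : 2 ^ (4 * n) - 1 = ((2 ^ n) ^ 2 + 1) * ((2 ^ n + 1) * (2 ^ n - 1)) := by
    rw [mul_comm 4 n, pow_mul, ← Nat.sq_sub_sq, one_pow,
      show (2 ^ n) ^ 4 = ((2 ^ n) ^ 2) ^ 2 by ring, ← Nat.sq_sub_sq, one_pow]
  rw [e]
  rcases hr.dvd_mul.1 h with h1 | h1
  · rcases hr.dvd_mul.1 h1 with h2 | h2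
    · rw [← pow_mul] at h2
      exact absurd ((Nat.prime_dvd_prime_iff_eq hr Nat.prime_two).1 (hr.dvd_of_dvd_pow h2)) hr2
    · exact dvd_mul_of_dvd_left h2 _
  · exact dvd_mul_of_dvd_right (dvd_mul_of_dvd_right h1 _) _

/-- Suzuki groups with the same prime divisors have the same parameter. -/
theorem exponent_dvd {m m' : ℕ} (hm : 1 ≤ m)
    (h : ∀ r : ℕ, r.Prime → r ≠ 2 →
      r ∣ (2 ^ (2 * m + 1)) ^ 2 * ((2 ^ (2 * m + 1)) ^ 2 + 1) * (2 ^ (2 * m + 1) - 1) →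
      r ∣ (2 ^ (2 * m' + 1)) ^ 2 * ((2 ^ (2 * m' + 1)) ^ 2 + 1) * (2 ^ (2 * m' + 1) - 1)) :
    2 * m + 1 ∣ 2 * m' + 1 := by
  set n := 2 * m + 1 with hn
  obtain ⟨r, hr, hrd, hmin⟩ := Cfsg.Agent.S2904.result 2 (4 * n) (by norm_num) (by omega) (by omega) (by omega)
  have hr2 : r ≠ 2 := by
    rintro rfl
    have h1 : 1 ≤ 2 ^ (4 * n) := Nat.one_le_two_pow
    have h2 : 2 ∣ 2 ^ (4 * n) := dvd_pow_self 2 (by omega)
    omega
  have hdiv : r ∣ (2 ^ n) ^ 2 + 1 := by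
    have e : 2 ^ (4 * n) - 1 = ((2 ^ n) ^ 2 + 1) * (2 ^ (2 * n) - 1) := by
      rw [show 4 * n = 2 * n * 2 by ring, pow_mul, ← pow_mul 2 n 2, mul_comm n 2, ← Nat.sq_sub_sq, one_pow]
    exact (hr.dvd_mul.1 (e ▸ hrd)).resolve_right (hmin (2 * n) (by omega) (by omega))
  have h' := dvd_pow_sub_one hr hr2 (h r hr hr2 (dvd_mul_of_dvd_left (dvd_mul_of_dvd_right hdiv _) _))
  have hg : r ∣ 2 ^ Nat.gcd (4 * n) (4 * (2 * m' + 1)) - 1 := by
    rw [← Nat.pow_sub_one_gcd_pow_sub_one]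
    exact Nat.dvd_gcd hrd h'
  have hle : Nat.gcd (4 * n) (4 * (2 * m' + 1)) ≤ 4 * n := Nat.le_of_dvd (by omega) (Nat.gcd_dvd_left _ _)
  rcases hle.lt_or_eq with hlt | heq
  · exact absurd hg (hmin _ (Nat.gcd_pos_of_pos_left _ (by omega)) hlt)
  · exact Nat.dvd_of_mul_dvd_mul_left (by norm_num) (heq ▸ Nat.gcd_dvd_right (4 * n) (4 * (2 * m' + 1)))


/-- Let `q = 2^(2m+1) ≥ 8` and `S = Sz(q)` the Suzuki group. If a finite group `G` has the same prime graph as `S` (same prime divisors of the order; for distinct primes `r, s` an element of order `rs` in one iff in the other), then `G/O₂(G)` is isomorphic to `S`. The known proof uses the classification of finite simple groups. -/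
theorem result {F : Type*} [Field F] [Fintype F] (m : ℕ) (hm : 1 ≤ m)
    (hF : Fintype.card F = 2 ^ (2 * m + 1)) {G : Type*} [Group G] [Finite G]
    (h : ((∀ r : ℕ, r.Prime → (r ∣ Nat.card ↥(Cfsg.Lie.Sz F (2 ^ (m + 1))) ↔ r ∣ Nat.card G)) ∧
      (∀ r s : ℕ, r.Prime → s.Prime → r ≠ s → ((∃ x : ↥(Cfsg.Lie.Sz F (2 ^ (m + 1))), orderOf x = r * s) ↔ (∃ y : G, orderOf y = r * s))))) :
    Nonempty (G ⧸ Cfsg.pCore 2 G ≃* ↥(Cfsg.Lie.Sz F (2 ^ (m + 1)))) := by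
  classical
  obtain ⟨hπ, hadj⟩ := h
  have hP : Suz.Params F m := ⟨hm, hF⟩
  have hcard := card_eq hP
  haveI : Fact (Nat.Prime 2) := ⟨Nat.prime_two⟩
  have hne : ∀ r s : ℕ, r.Prime → s.Prime → r ≠ s →
      (∀ c ∈ Suz.compOrders hP, ¬ (r ∣ c ∧ s ∣ c)) → ∀ y : G, orderOf y ≠ r * s := by
    intro r s hr hs hrs hno y hy
    obtain ⟨x, hx⟩ := (hadj r s hr hs hrs).2 ⟨y, hy⟩
    obtain ⟨c, hc, hc'⟩ := exists_comp hP hr hs hrs hx
    exact hno c hc hc'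
  have hcit : CIT.IsCIT G := by
    intro t ht
    rw [IsPGroup.iff_orderOf]
    intro y
    by_contra hy
    push Not at hy
    obtain ⟨r, hr, hr2, hrd⟩ : ∃ r : ℕ, r.Prime ∧ r ≠ 2 ∧ r ∣ orderOf y := by
      by_contra hno
      push Not at hno
      exact hy (orderOf y).primeFactorsList.length (Nat.eq_prime_pow_of_unique_prime_dvd (orderOf_pos y).ne'
        fun {d} hd hdy => by by_contra hd2; exact hno d hd hd2 hdy)
    rw [Subgroup.orderOf_coe y |>.symm] at hrd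
    have ho : orderOf ((y : G) ^ (orderOf (y : G) / r)) = r :=
      orderOf_pow_orderOf_div (orderOf_pos _).ne' hrd
    have hc : Commute ((y : G) ^ (orderOf (y : G) / r)) t :=
      (show Commute (y : G) t from Subgroup.mem_centralizer_singleton_iff.1 y.2).pow_left _
    refine hne r 2 hr Nat.prime_two hr2 (fun c hc' => fun hd => (Suz.comp_two_le hP hc').2 hd.2)
      ((y : G) ^ (orderOf (y : G) / r) * t) ?_
    rw [hc.orderOf_mul_eq_mul_orderOf_of_coprime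
      (by rw [ho, ht]; exact (Nat.coprime_primes hr Nat.prime_two).2 hr2), ho, ht]
  -- primes of two components
  have hq1 : 2 ^ (2 * m + 1) - 1 ∈ Suz.compOrders hP := Or.inl rfl
  have hq2 : 2 ^ (2 * m + 1) + 2 ^ (m + 1) + 1 ∈ Suz.compOrders hP := Or.inr (Or.inl rfl)
  have hprod : (2 ^ (2 * m + 1) + 2 ^ (m + 1) + 1) ∣ (2 ^ (2 * m + 1)) ^ 2 + 1 := by
    refine ⟨2 ^ (2 * m + 1) - 2 ^ (m + 1) + 1, ?_⟩
    have hle : 2 ^ (m + 1) ≤ 2 ^ (2 * m + 1) := Nat.pow_le_pow_right two_pos (by omega)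
    have hsq : ((2 ^ (m + 1) : ℕ) : ℤ) * (2 ^ (m + 1) : ℕ) = 2 * (2 ^ (2 * m + 1) : ℕ) := by
      push_cast
      rw [← pow_add, ← pow_succ']
      congr 1
      omega
    generalize 2 ^ (2 * m + 1) = q at hle hsq ⊢
    generalize 2 ^ (m + 1) = r at hle hsq ⊢
    zify [hle]
    linear_combination hsq
  obtain ⟨r, hr, hrd⟩ := Nat.exists_prime_and_dvd (show 2 ^ (2 * m + 1) - 1 ≠ 1 by
    have := (Suz.comp_two_le hP hq1).1; omega)
  obtain ⟨s, hs, hsd⟩ := Nat.exists_prime_and_dvd (show 2 ^ (2 * m + 1) + 2 ^ (m + 1) + 1 ≠ 1 by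
    have := (Suz.comp_two_le hP hq2).1; omega)
  have hdist : 2 ^ (2 * m + 1) - 1 ≠ 2 ^ (2 * m + 1) + 2 ^ (m + 1) + 1 :=
    (Nat.lt_of_le_of_lt (Nat.sub_le _ 1) (Nat.lt_succ_of_le (Nat.le_add_right _ _))).ne
  have hr2 : r ≠ 2 := fun e => (Suz.comp_two_le hP hq1).2 (e ▸ hrd)
  have hs2 : s ≠ 2 := fun e => (Suz.comp_two_le hP hq2).2 (e ▸ hsd)
  have hsep : ∀ c ∈ Suz.compOrders hP, ¬ (r ∣ c ∧ s ∣ c) := by
    rintro c hc ⟨hrc, hsc⟩
    by_cases e : c = 2 ^ (2 * m + 1) - 1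
    · subst e
      exact hs.not_dvd_one (Nat.Coprime.eq_one_of_dvd ((Suz.comp_coprime hP hq1 hq2 hdist).coprime_dvd_left hsc) hsd
        ▸ dvd_rfl)
    · exact hr.not_dvd_one (Nat.Coprime.eq_one_of_dvd ((Suz.comp_coprime hP hc hq1 e).coprime_dvd_left hrc) hrd
        ▸ dvd_rfl)
  have hrs : r ≠ s := by
    rintro rfl
    exact hsep _ hq1 ⟨hrd, hrd⟩ |>.elim
  have hns : ¬ Group.IsSolvable G := by
    intro hsol
    have h2G : 2 ∣ Nat.card G := (hπ 2 Nat.prime_two).1 (by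
      rw [hcard]
      exact dvd_mul_of_dvd_left (dvd_mul_of_dvd_left (dvd_pow (dvd_pow_self 2 (by omega)) (by norm_num)) _) _)
    have hrG : r ∣ Nat.card G := (hπ r hr).1 (by rw [hcard]; exact dvd_mul_of_dvd_right hrd _)
    have hsG : s ∣ Nat.card G := (hπ s hs).1 (by
      rw [hcard]; exact dvd_mul_of_dvd_left (dvd_mul_of_dvd_right (hsd.trans hprod) _) _)
    obtain ⟨x, hx⟩ := Cfsg.Lib.Solv.three_primes Nat.prime_two hr hs hr2.symm hs2.symm hrs h2G hrG hsG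
    rcases hx with hx | hx | hx
    · exact hne 2 r Nat.prime_two hr hr2.symm (fun c hc hd => (Suz.comp_two_le hP hc).2 hd.1) x hx
    · exact hne 2 s Nat.prime_two hs hs2.symm (fun c hc hd => (Suz.comp_two_le hP hc).2 hd.1) x hx
    · exact hne r s hr hs hrs hsep x hx
  have h3 : ¬ 3 ∣ Nat.card G := fun h => not_three_dvd m (hcard ▸ (hπ 3 Nat.prime_three).2 h)
  obtain ⟨F', i', j', m', hm', hF', ⟨e⟩⟩ := hcit.isoSuzuki_quotient hns h3
  have hcard' : Nat.card (G ⧸ Cfsg.pCore 2 G) = _ :=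
    (Nat.card_congr e.toEquiv).trans (card_eq (F := F') ⟨hm', hF'⟩)
  have hodd : ∀ p : ℕ, p.Prime → p ≠ 2 → (p ∣ Nat.card G ↔ p ∣ Nat.card (G ⧸ Cfsg.pCore 2 G)) := by
    intro p hp hp2
    refine ⟨fun hd => ?_, fun hd => hd.trans (Subgroup.card_quotient_dvd_card _)⟩
    rw [Subgroup.card_eq_card_quotient_mul_card_subgroup (Cfsg.pCore 2 G)] at hd
    refine (hp.dvd_mul.1 hd).resolve_right fun hQ => ?_
    obtain ⟨k, hk⟩ := IsPGroup.iff_card.1 (Core.pCore_isPGroup 2 G)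
    exact hp2 ((Nat.prime_dvd_prime_iff_eq hp Nat.prime_two).1 (hp.dvd_of_dvd_pow (hk ▸ hQ)))
  have h12 : 2 * m + 1 ∣ 2 * m' + 1 := exponent_dvd hm fun p hp hp2 hd =>
    hcard' ▸ (hodd p hp hp2).1 ((hπ p hp).1 (hcard ▸ hd))
  have h21 : 2 * m' + 1 ∣ 2 * m + 1 := exponent_dvd hm' fun p hp hp2 hd =>
    hcard ▸ (hπ p hp).2 ((hodd p hp hp2).2 (hcard' ▸ hd))
  obtain rfl : m = m' := by have := Nat.dvd_antisymm h12 h21; omega
  obtain ⟨φ⟩ : Nonempty (F' ≃+* F) := ⟨FiniteField.ringEquivOfCardEq (hF'.trans hF.symm)⟩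
  obtain ⟨f⟩ := sz_congr φ (2 ^ (m + 1))
  exact ⟨e.trans f⟩

end Cfsg.Agent.S3699
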