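import Cfsg.Statements.S3703
import Cfsg.Agent.Lib.Coprime.Action
import Cfsg.Agent.Lib.Core.Fitting
import Cfsg.Agent.Lib.Solv.FixedPointFree

set_option autoImplicit false
open Cfsg

namespace Cfsg.Agent.S3703

open Cfsg.Lib.Coprime

universe u

/-- A group acting fixed point freely on a subgroup trivialises that subgroup on an abelian module
on which all its conjugates have trivial norm. -/
theorem kernel_fixes {Y V : Type*} [Group Y] [Finite Y] [CommGroup V] (ρ : Y →* MulAut V)
    (F : Subgroup Y) {h : Y} {m : ℕ} (hm : 0 < m) (hnF : ∀ f ∈ F, h * f * h⁻¹ ∈ F)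
    (hfix : ∀ i, 0 < i → i < m → ∀ f ∈ F, h ^ i * f = f * h ^ i → f = 1)
    (hnorm : ∀ u : V, ∏ i ∈ Finset.range m, ρ (h ^ i) u = 1)
    {f₀ : Y} (hf₀ : f₀ ∈ F) (u : V) : (ρ f₀ u) ^ Nat.card F = u ^ Nat.card F := by
  classical
  haveI := Fintype.ofFinite F
  let T : V → V := fun w => ∏ f : F, ρ (f : Y) w
  have hT : ∀ w, ρ f₀ (T w) = T w := fun w => by
    show ρ f₀ (∏ f : F, ρ (f : Y) w) = ∏ f : F, ρ (f : Y) w
    rw [map_prod]
    refine Fintype.prod_equiv (Equiv.mulLeft (⟨f₀, hf₀⟩ : F)) _ _ fun f => ?_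
    show ρ f₀ (ρ (f : Y) w) = ρ (f₀ * f) w
    rw [map_mul]
    rfl
  have hpow : ∀ i, ∀ f ∈ F, h ^ i * f * (h ^ i)⁻¹ ∈ F := by
    intro i
    induction i with
    | zero => intro f hf; simpa using hf
    | succ i ih =>
      intro f hf
      rw [show h ^ (i + 1) * f * (h ^ (i + 1))⁻¹ = h * (h ^ i * f * (h ^ i)⁻¹) * h⁻¹ by
        rw [pow_succ']; group]
      exact hnF _ (ih f hf)
  have h1 : ∏ i ∈ Finset.range m, ∏ f : F, ρ ((f : Y) * h ^ i * (f : Y)⁻¹) u = 1 := by
    rw [Finset.prod_comm]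
    refine Finset.prod_eq_one fun f _ => ?_
    have h2 := congrArg (ρ (f : Y)) (hnorm (ρ (f : Y)⁻¹ u))
    rw [map_one, map_prod] at h2
    rw [← h2]
    refine Finset.prod_congr rfl fun i _ => ?_
    rw [map_mul, map_mul]
    rfl
  have hterm : ∀ i, 0 < i → i < m →
      ∏ f : F, ρ ((f : Y) * h ^ i * (f : Y)⁻¹) u = T (ρ (h ^ i) u) := by
    intro i hi him
    let g : F → F := fun f =>
      ⟨(f : Y) * (h ^ i * (f : Y)⁻¹ * (h ^ i)⁻¹), F.mul_mem f.2 (hpow i _ (F.inv_mem f.2))⟩
    have hg : Function.Bijective g := by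
      refine Finite.injective_iff_bijective.mp fun a b hab => ?_
      have h2 : (a : Y) * h ^ i * (a : Y)⁻¹ = b * h ^ i * (b : Y)⁻¹ := by
        have := congrArg (fun z : F => (z : Y) * h ^ i) hab
        simpa [g, mul_assoc] using this
      have h3 : h ^ i * ((b : Y)⁻¹ * a) = (b : Y)⁻¹ * a * h ^ i :=
        calc h ^ i * ((b : Y)⁻¹ * a) = (b : Y)⁻¹ * ((b : Y) * h ^ i * (b : Y)⁻¹) * a := by group
          _ = (b : Y)⁻¹ * ((a : Y) * h ^ i * (a : Y)⁻¹) * a := by rw [h2]
          _ = _ := by group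
      exact Subtype.ext (inv_mul_eq_one.mp (hfix i hi him _ (F.mul_mem (F.inv_mem b.2) a.2) h3)).symm
    refine Fintype.prod_bijective g hg _ _ fun f => ?_
    show ρ ((f : Y) * h ^ i * (f : Y)⁻¹) u = ρ ((g f : Y)) (ρ (h ^ i) u)
    rw [show (f : Y) * h ^ i * (f : Y)⁻¹ = (g f : Y) * h ^ i by simp [g, mul_assoc], map_mul]
    rfl
  rw [← Finset.mul_prod_erase _ _ (Finset.mem_range.mpr hm)] at h1
  simp only [pow_zero, mul_one, mul_inv_cancel, map_one, MulAut.one_apply, Finset.prod_const,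
    Finset.card_univ, ← Nat.card_eq_fintype_card] at h1
  have h2 := eq_inv_of_mul_eq_one_left h1
  rw [← map_pow, h2, map_inv, map_prod]
  congr 1
  refine Finset.prod_congr rfl fun i hi => ?_
  simp only [Finset.mem_erase, Finset.mem_range] at hi
  rw [hterm i (Nat.pos_of_ne_zero hi.1) hi.2, hT]

theorem ofSurj {W : Type*} [Group W] : Function.Surjective (Abelianization.of (G := W)) :=
  Quotient.mk_surjective

/-- Conjugation of `N(W)` on the abelianization of `W`. -/
noncomputable def abelAut {G : Type u} [Group G] (W : Subgroup G) :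
    Subgroup.normalizer (W : Set G) →* MulAut (Abelianization W) :=
  MonoidHom.mk' (fun g => (W.normalizerMonoidHom g).abelianizationCongr) fun a b => by
    refine MulEquiv.ext fun x => ?_
    obtain ⟨x, rfl⟩ := ofSurj x
    simp [map_mul]

theorem abelAut_of {G : Type u} [Group G] {W : Subgroup G} (g : Subgroup.normalizer (W : Set G))
    (w : W) : abelAut W g (Abelianization.of w) =
      Abelianization.of ⟨(g : G) * w * (g : G)⁻¹, (Subgroup.mem_normalizer_iff.mp g.2 w).mp w.2⟩ := by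
  simp [abelAut]
  rfl

/-- If every lift of `γ` in `P h` has trivial `m`-th power, `F` centralises the `p`-group `P`. -/
theorem centralizes {G : Type u} [Group G] [Finite G] {p : ℕ} [Fact p.Prime] (F P : Subgroup G)
    {h : G} {m : ℕ} (hm : 0 < m) (hP : IsPGroup p P) (hF : Group.IsSolvable F)
    (hcop : (Nat.card F).Coprime (Nat.card P)) (hFP : F ≤ Subgroup.normalizer (P : Set G))
    (hhP : h ∈ Subgroup.normalizer (P : Set G)) (hhF : ∀ f ∈ F, h * f * h⁻¹ ∈ F)
    (hfix : ∀ i, 0 < i → i < m → ∀ f ∈ F, h ^ i * f = f * h ^ i → f = 1)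
    (hpow : ∀ v ∈ P, (v * h) ^ m = 1) : ⁅P, F⁆ = ⊥ := by
  classical
  by_contra hne
  obtain ⟨W, ⟨hWP, hFW, hhW, hWne⟩, hWmin⟩ :=
    (Set.toFinite {W : Subgroup G | W ≤ P ∧ F ≤ Subgroup.normalizer (W : Set G) ∧
      h ∈ Subgroup.normalizer (W : Set G) ∧ ⁅W, F⁆ ≠ ⊥}).exists_minimal
      ⟨P, le_rfl, hFP, hhP, hne⟩
  have hcopW : (Nat.card F).Coprime (Nat.card W) :=
    hcop.coprime_dvd_right (Subgroup.card_dvd_of_le hWP)
  set D : Subgroup G := (commutator W).map W.subtype with hD
  have hDW : D ≤ W := Subgroup.map_subtype_le _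
  have hND : Subgroup.normalizer (W : Set G) ≤ Subgroup.normalizer (D : Set G) := by
    intro g hg
    rw [Subgroup.mem_normalizer_iff_map_conj_eq] at hg ⊢
    change W.map (MulAut.conj g).toMonoidHom = W at hg
    change D.map (MulAut.conj g).toMonoidHom = D
    rw [hD, commutator_def, Subgroup.map_commutator, ← MonoidHom.range_eq_map,
      Subgroup.range_subtype, Subgroup.map_commutator, hg]
  haveI := ((hP.to_le hWP)).isNilpotent
  have hDlt : D ≠ W := by
    intro hDe
    have h1 : commutator W = ⊤ := by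
      apply Subgroup.map_injective W.subtype_injective
      rw [← MonoidHom.range_eq_map, Subgroup.range_subtype]
      exact hDe
    haveI : Nontrivial W := by
      rw [Subgroup.nontrivial_iff_ne_bot]
      rintro rfl
      exact hWne (Subgroup.commutator_bot_left F)
    exact (IsSolvable.commutator_lt_top_of_nontrivial W).ne h1
  have hDF : ⁅D, F⁆ = ⊥ := by
    by_contra hDne
    exact hDlt (le_antisymm hDW (hWmin ⟨hDW.trans hWP, hFW.trans hND, hND hhW, hDne⟩ hDW))
  refine hWne (commutator_eq_bot_of_stabilizes hFW hcopW (Or.inl hF) (N := D) ?_ hDF)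
  rw [Subgroup.commutator_le]
  intro w hw f hf
  let Y := Subgroup.normalizer (W : Set G)
  let hY : Y := ⟨h, hhW⟩
  let u : W → Abelianization W := Abelianization.of
  have hformula : ∀ (k : ℕ) (w : W), ∃ hm' : ((w : G) * h) ^ k * (h ^ k)⁻¹ ∈ W,
      u ⟨_, hm'⟩ = ∏ i ∈ Finset.range k, abelAut W (hY ^ i) (u w) := by
    intro k w
    induction k with
    | zero =>
      have h0 : ((w : G) * h) ^ 0 * (h ^ 0)⁻¹ = 1 := by simp
      refine ⟨h0 ▸ W.one_mem, ?_⟩
      rw [show (⟨((w : G) * h) ^ 0 * (h ^ 0)⁻¹, h0 ▸ W.one_mem⟩ : W) = 1 from Subtype.ext h0]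
      simp [u]
    | succ k ih =>
      obtain ⟨hk, ih⟩ := ih
      have e : ((w : G) * h) ^ (k + 1) * (h ^ (k + 1))⁻¹ =
          w * (h * (((w : G) * h) ^ k * (h ^ k)⁻¹) * h⁻¹) := by
        rw [pow_succ', pow_succ h k]; group
      have hc := (Subgroup.mem_normalizer_iff.mp hhW _).mp hk
      refine ⟨e ▸ W.mul_mem w.2 hc, ?_⟩
      have e' : (⟨_, e ▸ W.mul_mem w.2 hc⟩ : W) = w * ⟨_, hc⟩ := Subtype.ext e
      rw [e', show u (w * ⟨_, hc⟩) = u w * u ⟨_, hc⟩ from map_mul _ _ _,
        Finset.prod_range_succ']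
      simp only [pow_zero, map_one, MulAut.one_apply]
      rw [mul_comm]
      congr 1
      rw [show u ⟨_, hc⟩ = abelAut W hY (u ⟨_, hk⟩) from (abelAut_of (W := W) hY ⟨_, hk⟩).symm, ih,
        map_prod]
      refine Finset.prod_congr rfl fun i _ => ?_
      rw [pow_succ', map_mul]
      rfl
  have hnorm : ∀ a : Abelianization W, ∏ i ∈ Finset.range m, abelAut W (hY ^ i) a = 1 := by
    intro a
    obtain ⟨a, rfl⟩ := ofSurj a
    obtain ⟨hk, hk'⟩ := hformula m a
    rw [show Abelianization.of a = u a from rfl, ← hk']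
    have hz : ((a : G) * h) ^ m * (h ^ m)⁻¹ = 1 := by
      have h1 := hpow a (hWP a.2)
      have h2 := hpow 1 P.one_mem
      rw [one_mul] at h2
      rw [h1, h2, inv_one, mul_one]
    show Abelianization.of _ = 1
    rw [show (⟨_, hk⟩ : W) = 1 from Subtype.ext hz, map_one]
  have hkey := kernel_fixes (abelAut W) (F.subgroupOf Y) (h := hY) hm
    (fun f hf => hhF f hf)
    (fun i hi him f hf he => by
      have := hfix i hi him (f : G) hf (congrArg Subtype.val he)
      exact Subtype.ext this)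
    hnorm (f₀ := ⟨f, hFW hf⟩) hf (u ⟨w, hw⟩)
  have hinj : (Nat.card (Abelianization W)).Coprime (Nat.card (F.subgroupOf Y)) := by
    rw [Nat.card_congr (Subgroup.subgroupOfEquivOfLe hFW).toEquiv]
    exact (hcopW.coprime_dvd_right (Subgroup.card_dvd_of_surjective Abelianization.of
      ofSurj)).symm
  have h2 := (powCoprime hinj).injective (a₁ := abelAut W ⟨f, hFW hf⟩ (u ⟨w, hw⟩))
    (a₂ := u ⟨w, hw⟩) hkey
  rw [abelAut_of] at h2
  have hfw : f * w * f⁻¹ ∈ W := (Subgroup.mem_normalizer_iff.mp (hFW hf) w).mp hw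
  have h3 : (⟨f * w * f⁻¹, hfw⟩ : W)⁻¹ * ⟨w, hw⟩ ∈ commutator W := by
    rw [← Abelianization.ker_of, MonoidHom.mem_ker, map_mul, map_inv]
    rw [inv_mul_eq_one]
    exact h2
  have h4 : (⟨w, hw⟩ : W) * (⟨f * w * f⁻¹, hfw⟩ : W)⁻¹ ∈ commutator W := by
    have := (Subgroup.Normal.conj_mem inferInstance _ h3 ⟨f * w * f⁻¹, hfw⟩)
    simpa [mul_assoc] using this
  refine ⟨_, h4, ?_⟩
  simp [commutatorElement_def, mul_assoc]


/-- Let N be a normal subgroup of the finite group G such that G/N is a Frobenius group with kernel F and cyclic complement H, where the order of F is coprime to that of N and F is not contained in the image of C_G(N) in G/N. Then G has an element of order p·#H for some prime p dividing the order of N. (A standard tool in recognising groups by their element orders.) -/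
theorem result {G : Type*} [Group G] [Finite G] (N : Subgroup G) [N.Normal]
    (Fb Hb : Subgroup (G ⧸ N)) [Fb.Normal] (hHb : Cfsg.IsFrobeniusComplement Hb) (hker : Cfsg.frobeniusKernel Hb = (Fb : Set (G ⧸ N)))
    (hcyc : IsCyclic Hb) (hcop : (Nat.card Fb).Coprime (Nat.card N))
    (hnot : ¬ Fb ≤ (Subgroup.centralizer (N : Set G)).map (QuotientGroup.mk' N)) :
    ∃ p : ℕ, p.Prime ∧ p ∣ Nat.card N ∧ ∃ g : G, orderOf g = p * Nat.card Hb := by
  classical
  by_contra hno
  push Not at hno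
  set m := Nat.card Hb with hm
  obtain ⟨γ, hγ⟩ := hcyc.exists_generator
  have hγm : orderOf (γ : G ⧸ N) = m := by
    rw [Subgroup.orderOf_coe, orderOf_eq_card_of_forall_mem_zpowers hγ]
  have hm0 : 0 < m := Nat.card_pos
  have hdisj : Disjoint Fb Hb := by
    rw [Subgroup.disjoint_def]
    intro x hx hx'
    have : x ∈ Cfsg.frobeniusKernel Hb := hker ▸ hx
    rcases this with h | h
    · exact h
    · exact absurd (by simpa using hx') (h 1)
  -- all lifts of the generator have order exactly `m`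
  have hlift : ∀ g : G, (g : G ⧸ N) = γ → g ^ m = 1 := by
    intro g hg
    by_contra hgm
    have hmem : g ^ m ∈ N := by
      rw [← QuotientGroup.eq_one_iff, QuotientGroup.mk_pow, hg, ← hγm, pow_orderOf_eq_one]
    have hd : m ∣ orderOf g := by
      rw [← hγm, ← hg]
      exact orderOf_map_dvd (QuotientGroup.mk' N) g
    obtain ⟨k, hk⟩ := hd
    have hk1 : k ≠ 1 := fun h => hgm (by rw [← orderOf_dvd_iff_pow_eq_one, hk, h, mul_one])
    obtain ⟨p, hp, hpk⟩ := Nat.exists_prime_and_dvd hk1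
    obtain ⟨j, rfl⟩ := hpk
    have hpN : p ∣ Nat.card N := by
      have h1 : orderOf (g ^ m) = p * j := by
        rw [orderOf_pow_of_dvd hm0.ne' ⟨_, hk⟩, hk, Nat.mul_div_cancel_left _ hm0]
      have h2 := Subgroup.orderOf_dvd_natCard N hmem
      rw [h1] at h2
      exact (dvd_mul_right p j).trans h2
    have hj : j ≠ 0 := by
      rintro rfl
      simp [(orderOf_pos g).ne'] at hk
    refine hno p hp hpN (g ^ j) ?_
    rw [orderOf_pow_of_dvd hj ⟨m * p, by rw [hk]; ring⟩, hk,
      show m * (p * j) = (p * m) * j by ring, Nat.mul_div_cancel _ (Nat.pos_of_ne_zero hj)]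
  -- an invariant Sylow subgroup of `Fb` acting nontrivially
  set CN : Subgroup (G ⧸ N) := (Subgroup.centralizer (N : Set G)).map (QuotientGroup.mk' N) with hCN
  set Z : Subgroup (G ⧸ N) := Subgroup.zpowers (γ : G ⧸ N) with hZ
  have hZn : Z ≤ Subgroup.normalizer (Fb : Set (G ⧸ N)) := fun z _ =>
    (Subgroup.normalizer_eq_top (H := Fb)).symm ▸ Subgroup.mem_top z
  have hZH : Z ≤ Hb := Subgroup.zpowers_le.mpr γ.2
  have hfrobcop : (Nat.card Z).Coprime (Nat.card Fb) := by
    refine Cfsg.Lib.Solv.coprime_of_fpf hZn fun b hb hb1 => eq_bot_iff.2 fun k hk => ?_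
    exact Subgroup.mem_bot.2 (Cfsg.Lib.Solv.fpf_of_frobenius hHb hdisj (hZH hb) hb1 hk.1
      (Subgroup.mem_centralizer_singleton_iff.1 hk.2))
  haveI : Group.IsSolvable Z := by
    haveI : IsMulCommutative Z := inferInstance
    exact Cfsg.Lib.Core.isSolvable_of_isMulCommutative Z
  obtain ⟨r, hr, R, hRn, hRne⟩ : ∃ r : ℕ, ∃ _ : Fact r.Prime, ∃ R : Sylow r Fb,
      Z ≤ Subgroup.normalizer (((R : Subgroup Fb).map Fb.subtype : Subgroup (G ⧸ N)) : Set _) ∧
      ¬ (R : Subgroup Fb).map Fb.subtype ≤ CN := by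
    by_contra hall
    push Not at hall
    refine hnot (fun x hx => ?_)
    have hdvd : Nat.card Fb ∣ Nat.card ↥(Fb ⊓ CN) := by
      refine (Nat.dvd_iff_prime_pow_dvd_dvd _ _).mpr fun p k hp hpk => ?_
      haveI := Fact.mk hp
      obtain ⟨R, hR⟩ := exists_invariant_sylow hZn hfrobcop (Or.inl inferInstance) p
      have hle : (R : Subgroup Fb).map Fb.subtype ≤ Fb ⊓ CN :=
        le_inf (Subgroup.map_subtype_le _) (hall p ⟨hp⟩ R hR)
      refine dvd_trans ?_ (Subgroup.card_dvd_of_le hle)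
      rw [Subgroup.card_map_of_injective Fb.subtype_injective, R.card_eq_multiplicity]
      exact pow_dvd_pow p ((hp.pow_dvd_iff_le_factorization Nat.card_pos.ne').mp hpk)
    have heq : Fb ⊓ CN = Fb :=
      Subgroup.eq_of_le_of_card_ge inf_le_left (Nat.le_of_dvd Nat.card_pos hdvd)
    exact (heq.symm ▸ hx : x ∈ Fb ⊓ CN).2
  set Rb : Subgroup (G ⧸ N) := (R : Subgroup Fb).map Fb.subtype with hRb
  have hRcop : (Nat.card N).Coprime (Nat.card Rb) :=
    (hcop.coprime_dvd_left (Subgroup.card_dvd_of_le (Subgroup.map_subtype_le _))).symm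
  set Rt : Subgroup G := Rb.comap (QuotientGroup.mk' N) with hRt
  have hNRt : N ≤ Rt := fun x hx => by
    show (x : G ⧸ N) ∈ Rb
    rw [(QuotientGroup.eq_one_iff x).mpr hx]
    exact one_mem _
  have hrel : N.relIndex Rt = Nat.card Rb := by
    calc N.relIndex Rt = ((⊥ : Subgroup (G ⧸ N)).comap (QuotientGroup.mk' N)).relIndex Rt := by
          rw [MonoidHom.comap_bot, QuotientGroup.ker_mk']
      _ = Nat.card Rb := by
          rw [Subgroup.relIndex_comap, hRt,
            Subgroup.map_comap_eq_self_of_surjective (QuotientGroup.mk'_surjective N),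
            Subgroup.relIndex_bot_left]
  obtain ⟨F1, hF1le, hF1card, hF1sup⟩ := exists_complement_of_coprime hNRt
    (fun x _ => (Subgroup.normalizer_eq_top (H := N)).symm ▸ Subgroup.mem_top x) (hrel ▸ hRcop)
  rw [hrel] at hF1card
  haveI : Group.IsSolvable F1 := by
    haveI := hr
    have h1 : IsPGroup r Rb := R.isPGroup'.map _
    obtain ⟨k, hk⟩ := IsPGroup.iff_card.1 h1
    haveI := (IsPGroup.of_card (p := r) (n := k) (hF1card.trans hk)).isNilpotent
    infer_instance
  have hF1N : F1 ≤ Subgroup.normalizer (N : Set G) :=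
    fun x _ => (Subgroup.normalizer_eq_top (H := N)).symm ▸ Subgroup.mem_top x
  have hcop1 : (Nat.card F1).Coprime (Nat.card N) := hF1card ▸ hRcop.symm
  -- a lift of `γ` normalizing `F1`
  obtain ⟨h0, hh0⟩ := QuotientGroup.mk_surjective (γ : G ⧸ N)
  obtain ⟨n, hn, hn'⟩ := exists_conj_of_coprime N F1 (F1.map (MulAut.conj h0).toMonoidHom) hF1N hcop1
    (Or.inl inferInstance) (by
      rw [hF1sup]
      rintro _ ⟨f, hf, rfl⟩
      show ((h0 * f * h0⁻¹ : G) : G ⧸ N) ∈ Rb
      rw [QuotientGroup.mk_mul, QuotientGroup.mk_mul, QuotientGroup.mk_inv, hh0]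
      exact (Subgroup.mem_normalizer_iff.mp (hRn (Subgroup.mem_zpowers _)) _).mp (hF1le hf))
    (card_map_conj _ _)
  set h1 := n⁻¹ * h0 with hh1
  have hh1q : (h1 : G ⧸ N) = γ := by
    rw [hh1, QuotientGroup.mk_mul, (QuotientGroup.eq_one_iff _).mpr (N.inv_mem hn), one_mul, hh0]
  have hh1F : h1 ∈ Subgroup.normalizer (F1 : Set G) := by
    rw [Subgroup.mem_normalizer_iff_map_conj_eq]
    change F1.map (MulAut.conj h1).toMonoidHom = F1
    rw [hh1, ← map_conj_conj, hn', map_conj_conj, inv_mul_cancel, map_conj_one]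
  -- an invariant Sylow subgroup of `N` not centralized by `F1`
  obtain ⟨p, hp, P, hPn, hPne⟩ : ∃ p : ℕ, ∃ _ : Fact p.Prime, ∃ P : Sylow p N,
      F1 ≤ Subgroup.normalizer (((P : Subgroup N).map N.subtype : Subgroup G) : Set G) ∧
      ⁅(P : Subgroup N).map N.subtype, F1⁆ ≠ ⊥ := by
    by_contra hall
    push Not at hall
    refine hRne fun x hx => ?_
    obtain ⟨x, rfl⟩ := QuotientGroup.mk_surjective x
    have hx' : x ∈ N ⊔ F1 := hF1sup ▸ hx
    obtain ⟨a, ha, f, hf, rfl⟩ := Subgroup.mem_sup_of_normal_left.mp hx'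
    refine ⟨f, ?_, ?_⟩
    · have hdvd : Nat.card N ∣ Nat.card ↥(N ⊓ Subgroup.centralizer (F1 : Set G)) := by
        refine (Nat.dvd_iff_prime_pow_dvd_dvd _ _).mpr fun q k hq hqk => ?_
        haveI := Fact.mk hq
        obtain ⟨P, hP⟩ := exists_invariant_sylow hF1N hcop1 (Or.inl inferInstance) q
        have hle : (P : Subgroup N).map N.subtype ≤ N ⊓ Subgroup.centralizer (F1 : Set G) :=
          le_inf (Subgroup.map_subtype_le _)
            (Subgroup.commutator_eq_bot_iff_le_centralizer.mp (hall q ⟨hq⟩ P hP))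
        refine dvd_trans ?_ (Subgroup.card_dvd_of_le hle)
        rw [Subgroup.card_map_of_injective N.subtype_injective, P.card_eq_multiplicity]
        exact pow_dvd_pow q ((hq.pow_dvd_iff_le_factorization Nat.card_pos.ne').mp hqk)
      have heq : N ⊓ Subgroup.centralizer (F1 : Set G) = N :=
        Subgroup.eq_of_le_of_card_ge inf_le_left (Nat.le_of_dvd Nat.card_pos hdvd)
      rw [SetLike.mem_coe, Subgroup.mem_centralizer_iff]
      intro y hy
      exact (Subgroup.mem_centralizer_iff.mp (heq.symm ▸ hy : y ∈ N ⊓ _).2 f hf).symm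
    · show (f : G ⧸ N) = ((a * f : G) : G ⧸ N)
      rw [QuotientGroup.mk_mul, (QuotientGroup.eq_one_iff a).mpr ha, one_mul]
  obtain ⟨Q, hQ⟩ := exists_sylow_eq_conj (G := N) P
    (show h1 ∈ Subgroup.normalizer (N : Set G) from
      (Subgroup.normalizer_eq_top (H := N)).symm ▸ Subgroup.mem_top h1)
  set P' : Subgroup G := (P : Subgroup N).map N.subtype with hP'
  have hQn : F1 ≤ Subgroup.normalizer (((Q : Subgroup N).map N.subtype : Subgroup G) : Set G) := by
    rw [hQ]
    intro f hf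
    rw [Subgroup.mem_normalizer_iff_map_conj_eq]
    change (P'.map (MulAut.conj h1).toMonoidHom).map (MulAut.conj f).toMonoidHom = _
    have hf' : h1⁻¹ * f * h1 ∈ F1 := by
      have := (Subgroup.mem_normalizer_iff.mp (inv_mem hh1F) f).mp hf
      rwa [inv_inv] at this
    rw [map_conj_conj, show f * h1 = h1 * (h1⁻¹ * f * h1) by group, ← map_conj_conj,
      map_conj_eq_self (hPn hf')]
  obtain ⟨c, hc, hcQ⟩ :=
    exists_centralizer_conj_sylow hF1N hcop1 (Or.inl inferInstance) P Q hPn hQn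
  set h := c⁻¹ * h1 with hh
  have hhq : (h : G ⧸ N) = γ := by
    rw [hh, QuotientGroup.mk_mul, (QuotientGroup.eq_one_iff _).mpr (N.inv_mem hc.1), one_mul, hh1q]
  have hhP : h ∈ Subgroup.normalizer (P' : Set G) := by
    rw [Subgroup.mem_normalizer_iff_map_conj_eq]
    change P'.map (MulAut.conj h).toMonoidHom = P'
    rw [hh, ← map_conj_conj, ← hQ, hcQ, map_conj_conj, inv_mul_cancel, map_conj_one]
  have hhF : ∀ f ∈ F1, h * f * h⁻¹ ∈ F1 := fun f hf => by
    have h2 := (Subgroup.mem_normalizer_iff.mp hh1F f).mp hf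
    have h3 := Subgroup.mem_centralizer_iff.mp hc.2 _ h2
    rw [hh, show c⁻¹ * h1 * f * (c⁻¹ * h1)⁻¹ = c⁻¹ * ((h1 * f * h1⁻¹) * c) by group, h3,
      inv_mul_cancel_left]
    exact h2
  refine hPne (centralizes (p := p) F1 P' hm0 (P.isPGroup'.map _) inferInstance
    (hcop1.coprime_dvd_right (Subgroup.card_dvd_of_le (Subgroup.map_subtype_le _))) hPn hhP hhF
    (fun i hi him f hf he => ?_) (fun v hv => hlift _ ?_))
  · have hfN : (f : G ⧸ N) = 1 := by
      refine Cfsg.Lib.Solv.fpf_of_frobenius hHb hdisj (Hb.pow_mem γ.2 i) ?_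
        (Subgroup.map_subtype_le _ (hF1le hf)) ?_
      · intro h1
        have := Nat.le_of_dvd hi (hγm ▸ orderOf_dvd_of_pow_eq_one h1)
        omega
      · have := congrArg (fun g : G => (g : G ⧸ N)) he
        simp only [QuotientGroup.mk_mul, QuotientGroup.mk_pow, hhq] at this
        exact this.symm
    exact Subgroup.disjoint_def.mp (disjoint_of_coprime_card hcop1) hf
      ((QuotientGroup.eq_one_iff f).mp hfN)
  · rw [QuotientGroup.mk_mul, (QuotientGroup.eq_one_iff v).mpr (Subgroup.map_subtype_le _ hv),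
      one_mul, hhq]

end Cfsg.Agent.S3703
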