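import Cfsg.Statements.S3713
import Cfsg.Agent.Lib.Recog.SpAmalgam.Bridge
-- import your own Cfsg.Agent.* helpers here

set_option autoImplicit false
open Cfsg

namespace Cfsg.Agent.S3713

/-- A presentation of the symplectic group as the universal completion of an amalgam of small subgroups. Let F be a field with more than two elements, n ≥ 2, and Sp the group of 2n × 2n matrices over F preserving the standard alternating form, acting on column vectors; write e_k, f_k for the standard basis vectors of the two halves (a hyperbolic basis). For each k let S_k be the subgroup of Sp fixing e_l and f_l for all l ≠ k (a copy of SL(2, F) on the plane of e_k, f_k), and for each i with i + 1 < n let M_i be the subgroup fixing every e_l and fixing f_l for all l other than i, i+1 (an abelian group isomorphic to the additive group of F³). Then Sp is the universal completion of the amalgam formed by the S_k, the M_i and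 the subgroups generated by two of them: for every group H and homomorphisms σ_k : S_k → H, μ_i : M_i → H such that for each pair of these subgroups some homomorphism on the subgroup they generate restricts to the given ones, there is exactly one homomorphism Sp → H restricting to every σ_k and μ_i. -/
theorem result
    (F : Type*) [Field F] (hF : ∃ a : F, a ≠ 0 ∧ a ≠ 1) (n : ℕ) (hn : 2 ≤ n)
    (S M : Fin n → Subgroup ↥(Matrix.symplecticGroup (Fin n) F))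
    (hS : ∀ j : Fin n, S j = Subgroup.closure {A : ↥(Matrix.symplecticGroup (Fin n) F) | ∀ k : Fin n, k ≠ j →
      ((A : ↥(Matrix.symplecticGroup (Fin n) F)) : Matrix (Fin n ⊕ Fin n) (Fin n ⊕ Fin n) F).mulVec (Pi.single (Sum.inl k) (1 : F)) = (Pi.single (Sum.inl k) (1 : F)) ∧ ((A : ↥(Matrix.symplecticGroup (Fin n) F)) : Matrix (Fin n ⊕ Fin n) (Fin n ⊕ Fin n) F).mulVec (Pi.single (Sum.inr k) (1 : F)) = (Pi.single (Sum.inr k) (1 : F))})
    (hM : ∀ i : Fin n, (i : ℕ) + 1 < n → M i = Subgroup.closure {A : ↥(Matrix.symplecticGroup (Fin n) F) |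
      (∀ k : Fin n, ((A : ↥(Matrix.symplecticGroup (Fin n) F)) : Matrix (Fin n ⊕ Fin n) (Fin n ⊕ Fin n) F).mulVec (Pi.single (Sum.inl k) (1 : F)) = (Pi.single (Sum.inl k) (1 : F))) ∧
        ∀ k : Fin n, (k : ℕ) ≠ i → (k : ℕ) ≠ (i : ℕ) + 1 → ((A : ↥(Matrix.symplecticGroup (Fin n) F)) : Matrix (Fin n ⊕ Fin n) (Fin n ⊕ Fin n) F).mulVec (Pi.single (Sum.inr k) (1 : F)) = (Pi.single (Sum.inr k) (1 : F))})
    {H : Type*} [Group H] (σ : ∀ j : Fin n, ↥(S j) →* H) (μ : ∀ i : Fin n, ↥(M i) →* H)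
    (hSS : ∀ j l : Fin n, j ≠ l → ∃ Ψ : ↥(S j ⊔ S l) →* H,
      (∀ (g : ↥(Matrix.symplecticGroup (Fin n) F)) (hg : g ∈ S j), Ψ ⟨g, Subgroup.mem_sup_left hg⟩ = σ j ⟨g, hg⟩) ∧
        (∀ (g : ↥(Matrix.symplecticGroup (Fin n) F)) (hg : g ∈ S l), Ψ ⟨g, Subgroup.mem_sup_right hg⟩ = σ l ⟨g, hg⟩))
    (hMM : ∀ i i' : Fin n, i ≠ i' → (i : ℕ) + 1 < n → (i' : ℕ) + 1 < n → ∃ Ψ : ↥(M i ⊔ M i') →* H,
      (∀ (g : ↥(Matrix.symplecticGroup (Fin n) F)) (hg : g ∈ M i), Ψ ⟨g, Subgroup.mem_sup_left hg⟩ = μ i ⟨g, hg⟩) ∧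
        (∀ (g : ↥(Matrix.symplecticGroup (Fin n) F)) (hg : g ∈ M i'), Ψ ⟨g, Subgroup.mem_sup_right hg⟩ = μ i' ⟨g, hg⟩))
    (hMS : ∀ i j : Fin n, (i : ℕ) + 1 < n → ∃ Ψ : ↥(M i ⊔ S j) →* H,
      (∀ (g : ↥(Matrix.symplecticGroup (Fin n) F)) (hg : g ∈ M i), Ψ ⟨g, Subgroup.mem_sup_left hg⟩ = μ i ⟨g, hg⟩) ∧
        (∀ (g : ↥(Matrix.symplecticGroup (Fin n) F)) (hg : g ∈ S j), Ψ ⟨g, Subgroup.mem_sup_right hg⟩ = σ j ⟨g, hg⟩)) :
    ∃! Φ : ↥(Matrix.symplecticGroup (Fin n) F) →* H,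
      (∀ (j : Fin n) (g : ↥(Matrix.symplecticGroup (Fin n) F)) (hg : g ∈ S j), Φ g = σ j ⟨g, hg⟩) ∧
        (∀ (i : Fin n), (i : ℕ) + 1 < n → ∀ (g : ↥(Matrix.symplecticGroup (Fin n) F)) (hg : g ∈ M i), Φ g = μ i ⟨g, hg⟩) := by
  classical
  let E : ↥(Matrix.symplecticGroup (Fin n) F) ≃* Cfsg.Lib.Linear.Symp.iso (Cfsg.Lib.Linear.Symp.spB n F) :=
    Cfsg.Lib.Linear.Symp.spEquiv
  let D : Cfsg.Lib.Recog.SpAmalgam.Data (Cfsg.Lib.Linear.Symp.spB n F) n H :=
    { hA := Cfsg.Lib.Linear.Symp.spB_isAlt n F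
      hB := Cfsg.Lib.Linear.Symp.spB_nondegenerate n F
      hF := Or.inl hF
      hn := hn
      Φ := Cfsg.Lib.Recog.SpAmalgam.stdFrame F n
      A := fun j => Cfsg.Lib.Recog.SpAmalgam.graph E (S j) (σ j)
      K := fun i => Cfsg.Lib.Recog.SpAmalgam.graph E (M i) (μ i)
      mapA := fun j => by
        rw [Cfsg.Lib.Recog.SpAmalgam.map_graph, hS j]
        exact Cfsg.Lib.Recog.SpAmalgam.closure_fix_ss j
      mapK := fun i hi => by
        rw [Cfsg.Lib.Recog.SpAmalgam.map_graph, hM i hi]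
        exact Cfsg.Lib.Recog.SpAmalgam.closure_fix_mm i
      injAA := fun j l h => by
        obtain ⟨Ψ, h1, h2⟩ := hSS j l h
        exact Cfsg.Lib.Recog.SpAmalgam.inj_graph_sup E _ _ Ψ h1 h2
      injKK := fun i k h hi hk => by
        obtain ⟨Ψ, h1, h2⟩ := hMM i k h hi hk
        exact Cfsg.Lib.Recog.SpAmalgam.inj_graph_sup E _ _ Ψ h1 h2
      injKA := fun i j hi => by
        obtain ⟨Ψ, h1, h2⟩ := hMS i j hi
        exact Cfsg.Lib.Recog.SpAmalgam.inj_graph_sup E _ _ Ψ h1 h2 }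
  obtain ⟨φ, hφA, hφK⟩ := D.exists_hom
  refine ⟨φ.comp E.toMonoidHom, ⟨fun j g hg => hφA j _ (Cfsg.Lib.Recog.SpAmalgam.mem_graph E (σ j) hg),
    fun i hi g hg => hφK i hi _ (Cfsg.Lib.Recog.SpAmalgam.mem_graph E (μ i) hg)⟩, ?_⟩
  rintro Ψ ⟨hΨA, hΨK⟩
  have hu : Ψ.comp E.symm.toMonoidHom = φ := by
    refine D.hom_unique (fun j g hg => ?_) (fun i hi g hg => ?_)
    · obtain ⟨x, hx, rfl⟩ := (D.mapA j).ge hg
      obtain ⟨⟨y, hy⟩, rfl⟩ := hx
      show Ψ (E.symm (E y)) = φ (E y)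
      rw [E.symm_apply_apply, hΨA j y hy]
      exact (hφA j _ (Cfsg.Lib.Recog.SpAmalgam.mem_graph E (σ j) hy)).symm
    · obtain ⟨x, hx, rfl⟩ := (D.mapK i hi).ge hg
      obtain ⟨⟨y, hy⟩, rfl⟩ := hx
      show Ψ (E.symm (E y)) = φ (E y)
      rw [E.symm_apply_apply, hΨK i hi y hy]
      exact (hφK i hi _ (Cfsg.Lib.Recog.SpAmalgam.mem_graph E (μ i) hy)).symm
  refine MonoidHom.ext fun g => ?_
  rw [← hu]
  show Ψ g = Ψ (E.symm (E g))
  rw [E.symm_apply_apply]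

end Cfsg.Agent.S3713
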