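import Cfsg.Statements.S3727
import Cfsg.Agent.Lib.LThreeExt.Mathieu

set_option autoImplicit false
open Cfsg

namespace Cfsg.Agent.S3727

open Cfsg.Lib.LThreeExt in
/-- The data of the statement give an `Ext`. -/
theorem exists_ext {F : Type} [Field F] {G Ω : Type*} [Group G] [MulAction G Ω]
    (h2 : MulAction.IsMultiplyPretransitive G Ω 2) (hev : Even (Nat.card Ω)) (a : Ω) (N : Subgroup G)
    (hNle : N ≤ MulAction.stabilizer G a) (hNnormal : ∀ g ∈ MulAction.stabilizer G a, ∀ x ∈ N, g * x * g⁻¹ ∈ N)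
    (e : ↥N ≃* Matrix.ProjectiveSpecialLinearGroup (Fin 3) F) :
    ∃ E : Ext F G Ω, (E.emb a).range = N := by
  classical
  haveI := MulAction.isPretransitive_of_is_two_pretransitive (G := G) (α := Ω)
  choose c hc using fun x => MulAction.exists_smul_eq G a x
  set c' : Ω → G := fun x => if x = a then 1 else c x with hc'
  have hca : ∀ x, c' x • a = x := fun x => by
    simp only [hc']
    split_ifs with h
    · rw [h, one_smul]
    · exact hc x
  let f : Ω → Matrix.ProjectiveSpecialLinearGroup (Fin 3) F →* G := fun x =>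
    ((MulAut.conj (c' x)).toMonoidHom.comp N.subtype).comp e.symm.toMonoidHom
  have hf : ∀ x k, f x k = c' x * (e.symm k : G) * (c' x)⁻¹ := fun x k => rfl
  refine ⟨{ emb := f, inj := fun x => ?_, fix := fun x k => ?_, conjugate := fun g x k => ?_,
            two := fun {p q r s} hpq hrs => ?_, even := hev, base := a }, ?_⟩
  · exact ((MulAut.conj (c' x)).injective.comp N.subtype_injective).comp e.symm.injective
  · rw [hf, mul_smul, mul_smul, inv_smul_eq_iff.2 (hca x).symm, hNle (e.symm k).2, hca]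
  · have hmem : (c' (g • x))⁻¹ * g * c' x ∈ MulAction.stabilizer G a := by
      rw [MulAction.mem_stabilizer_iff, mul_smul, mul_smul, hca, inv_smul_eq_iff, hca]
    have h1 := hNnormal _ hmem _ (e.symm k).2
    refine ⟨e ⟨_, h1⟩, ?_⟩
    rw [hf, hf, MulEquiv.symm_apply_apply]
    group
  · exact (MulAction.is_two_pretransitive_iff.1 h2) hpq hrs
  · have h1 : c' a = 1 := by simp [hc']
    show (f a).range = N
    ext g
    rw [MonoidHom.mem_range]
    refine ⟨?_, fun hg => ⟨e ⟨g, hg⟩, ?_⟩⟩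
    · rintro ⟨k, rfl⟩
      rw [hf, h1, one_mul, inv_one, mul_one]
      exact (e.symm k).2
    · rw [hf, h1, one_mul, inv_one, mul_one, MulEquiv.symm_apply_apply]

/-- Let a finite group G act faithfully and 2-transitively on a finite set Ω of even size, and suppose the stabilizer of a point a has a normal subgroup N isomorphic to PSL₃(q) with q = 2ⁿ, n ≥ 1. Then N is transitive on the remaining points, and either G has a normal subgroup of order q³ acting regularly on Ω and n is odd, or Ω has 22 points, q = 4, and G is isomorphic to the Mathieu group M₂₂ or has a subgroup of index 2 isomorphic to M₂₂. -/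
theorem result {G Ω : Type*} [Group G] [Finite G] [Fintype Ω] [MulAction G Ω] [FaithfulSMul G Ω]
    (h2 : MulAction.IsMultiplyPretransitive G Ω 2) (hev : Even (Fintype.card Ω)) (a : Ω) (N : Subgroup G)
    (hNle : N ≤ MulAction.stabilizer G a) (hNnormal : ∀ g ∈ MulAction.stabilizer G a, ∀ x ∈ N, g * x * g⁻¹ ∈ N)
    (n : ℕ) (hn : 1 ≤ n)
    (hN : ∃ (F : Type) (_ : Field F) (_ : Fintype F), Fintype.card F = 2 ^ n ∧
      Nonempty (↥N ≃* Matrix.ProjectiveSpecialLinearGroup (Fin 3) F)) :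
    (∀ x y : Ω, x ≠ a → y ≠ a → ∃ g ∈ N, g • x = y) ∧
    ((Odd n ∧ ∃ E : Subgroup G, E.Normal ∧ Nat.card E = (2 ^ n) ^ 3 ∧ (∀ x y : Ω, ∃ r ∈ E, r • x = y) ∧
        ∀ x : Ω, ∀ r ∈ E, r • x = x → r = 1) ∨
     (Fintype.card Ω = 22 ∧ n = 2 ∧ (Cfsg.Spor.IsoM22 G ∨ ∃ H : Subgroup G, H.index = 2 ∧ Cfsg.Spor.IsoM22 ↥H))) := by
  classical
  obtain ⟨F, hF, hFt, hFc, ⟨e⟩⟩ := hN
  haveI : Fact (Nat.Prime 2) := ⟨Nat.prime_two⟩
  haveI : CharP F 2 := charP_of_card_eq_prime_pow hFc
  rw [← Nat.card_eq_fintype_card] at hev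
  obtain ⟨E₀, hE₀⟩ := exists_ext h2 hev a N hNle hNnormal e
  rcases Cfsg.Lib.LThreeExt.Ext.cases E₀ with hFl | ⟨τ, hP⟩
  · exact (Cfsg.Lib.LThreeExt.flag_false E₀ hFl).elim
  set E := E₀.twist τ with hE
  have hrange : (E.emb a).range = N := by
    rw [← hE₀]
    show ((E₀.emb a).comp (τ a).toMonoidHom).range = _
    rw [MonoidHom.range_comp, MonoidHom.range_eq_top.2 (τ a).surjective, ← MonoidHom.range_eq_map]
  refine ⟨fun x y hx hy => ?_, ?_⟩
  · obtain ⟨k, hk⟩ := Cfsg.Lib.LThreeExt.trans_others E hP hx hy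
    exact ⟨_, hrange ▸ ⟨k, rfl⟩, hk⟩
  by_cases hT : (Cfsg.Lib.LThreeExt.ptGeo E hP).tee + 1 = Fintype.card F
  · obtain ⟨R, hR, hRc, hRt, hRs⟩ := Cfsg.Lib.LThreeExt.exists_regular E hP hT
    exact Or.inl ⟨Cfsg.Lib.LThreeExt.odd_exp E hP hT hn hFc, R, hR, by rw [hRc, hFc], hRt, hRs⟩
  · obtain ⟨hq, hT1⟩ := (Cfsg.Lib.LThreeExt.tee_cases E hP).resolve_left hT
    obtain ⟨hv, hM⟩ := Cfsg.Lib.LThreeExt.mathieu E hP hq hT1
    refine Or.inr ⟨by rw [← Nat.card_eq_fintype_card, hv], ?_, hM⟩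
    rw [hq] at hFc
    exact (Nat.pow_right_injective le_rfl (show 2 ^ 2 = 2 ^ n from hFc)).symm

end Cfsg.Agent.S3727
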