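import Cfsg.Statements.S3733

set_option autoImplicit false
open Cfsg

namespace Cfsg.Agent.S3733

/-- Let A and V be subgroups of a finite group with V abelian and nontrivial and A normalizing V. Suppose a nonempty finite family of proper subgroups of A partitions A: every non-identity element of A lies in exactly one member. If the number of members minus one is coprime to the order of V, then some member B of the family has a non-identity fixed point on V, that is V ∩ C(B) ≠ 1. -/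
theorem result {G : Type*} [Group G] [Finite G] (A V : Subgroup G) (hVab : IsMulCommutative V) (hV : V ≠ ⊥) (hAV : A ≤ Subgroup.normalizer (V : Set G)) (𝒜 : Finset (Subgroup G)) (hne : 𝒜.Nonempty) (hprop : ∀ B ∈ 𝒜, B < A) (hpart : ∀ a ∈ A, a ≠ 1 → ∃! B, B ∈ 𝒜 ∧ a ∈ B) (hk : (𝒜.card - 1).Coprime (Nat.card V)) : ∃ B ∈ 𝒜, V ⊓ Subgroup.centralizer (B : Set G) ≠ ⊥ := by
  classical
  have := Fintype.ofFinite G
  by_contra hcon
  push_neg at hcon
  letI : CommGroup V := { mul_comm := fun a b => hVab.1.comm a b }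
  apply hV
  rw [Subgroup.eq_bot_iff_forall]
  intro v hv
  have hmem : ∀ a ∈ A, a * v * a⁻¹ ∈ V := fun a ha =>
    (Subgroup.mem_normalizer_iff.mp (hAV ha) v).mp hv
  let f : G → V := fun g => if h : g ∈ A then ⟨g * v * g⁻¹, hmem g h⟩ else 1
  have hf : ∀ a ∈ A, (f a : G) = a * v * a⁻¹ := fun a ha => by simp [f, ha]
  let S : Subgroup G → Finset G := fun B => Finset.univ.filter (· ∈ B)
  have hS : ∀ B : Subgroup G, B ≤ A → ∀ b ∈ B, b * ((∏ x ∈ S B, f x : V) : G) * b⁻¹ =
      ((∏ x ∈ S B, f x : V) : G) := by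
    intro B hBA b hb
    let φ : V →* V :=
      { toFun := fun w => ⟨b * w * b⁻¹, (Subgroup.mem_normalizer_iff.mp (hAV (hBA hb)) w).mp w.2⟩
        map_one' := Subtype.ext (by simp)
        map_mul' := fun x y => Subtype.ext (by simp [mul_assoc]) }
    have h1 : φ (∏ x ∈ S B, f x) = ∏ x ∈ S B, f x := by
      rw [map_prod]
      refine Finset.prod_equiv (Equiv.mulLeft b) ?_ ?_
      · intro x
        simp [S, B.mul_mem_cancel_left hb]
      · intro x hx
        have hxA : x ∈ A := hBA (by simpa [S] using hx)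
        apply Subtype.ext
        rw [Equiv.coe_mulLeft, hf _ (mul_mem (hBA hb) hxA)]
        simp [φ, hf x hxA, mul_assoc]
    exact congrArg Subtype.val h1
  have hB1 : ∀ B ∈ 𝒜, ∀ w : V, (∀ b ∈ B, b * (w : G) * b⁻¹ = w) → w = 1 := by
    intro B hB w hw
    have hmem : (w : G) ∈ V ⊓ Subgroup.centralizer (B : Set G) :=
      Subgroup.mem_inf.mpr ⟨w.2, Subgroup.mem_centralizer_iff.mpr fun b hb =>
        mul_inv_eq_iff_eq_mul.mp (hw b hb)⟩
    rw [hcon B hB, Subgroup.mem_bot] at hmem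
    exact Subtype.ext hmem
  have hprodB : ∀ B ∈ 𝒜, ∏ x ∈ S B, f x = 1 := fun B hB => hB1 B hB _ (hS B (hprop B hB).le)
  obtain ⟨B₀, hB₀⟩ := hne
  have hprodA : ∏ x ∈ S A, f x = 1 :=
    hB1 B₀ hB₀ _ fun b hb => hS A le_rfl b ((hprop B₀ hB₀).le hb)
  have hsplit : ∀ B : Subgroup G, f 1 * ∏ x ∈ (S B).erase 1, f x = ∏ x ∈ S B, f x := fun B =>
    Finset.mul_prod_erase _ _ (by simp [S, one_mem])
  have hunion : (S A).erase 1 = 𝒜.biUnion fun B => (S B).erase 1 := by
    ext x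
    simp only [S, Finset.mem_erase, Finset.mem_filter, Finset.mem_univ, true_and, Finset.mem_biUnion]
    constructor
    · rintro ⟨hx1, hxA⟩
      obtain ⟨B, ⟨hB, hxB⟩, -⟩ := hpart x hxA hx1
      exact ⟨B, hB, hx1, hxB⟩
    · rintro ⟨B, hB, hx1, hxB⟩
      exact ⟨hx1, (hprop B hB).le hxB⟩
  have hdisj : (𝒜 : Set (Subgroup G)).PairwiseDisjoint fun B => (S B).erase 1 := by
    intro B hB C hC hne'
    rw [Function.onFun, Finset.disjoint_left]
    intro x hxB hxC
    simp only [S, Finset.mem_erase, Finset.mem_filter, Finset.mem_univ, true_and] at hxB hxC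
    exact hne' ((hpart x ((hprop B hB).le hxB.2) hxB.1).unique ⟨hB, hxB.2⟩ ⟨hC, hxC.2⟩)
  have hk1 : f 1 ^ 𝒜.card = f 1 := by
    have h1 : ∏ B ∈ 𝒜, (f 1 * ∏ x ∈ (S B).erase 1, f x) = 1 :=
      Finset.prod_eq_one fun B hB => by rw [hsplit, hprodB B hB]
    rw [Finset.prod_mul_distrib, Finset.prod_const, ← Finset.prod_biUnion hdisj, ← hunion] at h1
    have h2 : f 1 * ∏ x ∈ (S A).erase 1, f x = 1 := by rw [hsplit, hprodA]
    exact mul_right_cancel (h1.trans h2.symm)
  have hf1 : f 1 = ⟨v, hv⟩ := Subtype.ext (by rw [hf 1 (one_mem A)]; simp)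
  rw [hf1] at hk1
  have hpow : (⟨v, hv⟩ : V) ^ (𝒜.card - 1) = 1 := by
    have hpos : 0 < 𝒜.card := Finset.card_pos.mpr ⟨B₀, hB₀⟩
    rw [← Nat.sub_add_cancel hpos, pow_succ] at hk1
    simpa using hk1
  have ho := Nat.dvd_gcd (orderOf_dvd_of_pow_eq_one hpow) (orderOf_dvd_natCard (⟨v, hv⟩ : V))
  rw [hk.gcd_eq_one, Nat.dvd_one, orderOf_eq_one_iff] at ho
  exact congrArg Subtype.val ho

end Cfsg.Agent.S3733
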