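import Cfsg.Statements.S3735
import Cfsg.Agent.Lib.Coprime.Conjugacy

set_option autoImplicit false
open Cfsg

namespace Cfsg.Agent.S3735

theorem exists_invariant_le {G : Type*} [Group G] [Finite G] (A : Subgroup G) {D : Subgroup G}
    (hD : D ≠ ⊥) (hAD : A ≤ Subgroup.normalizer (D : Set G)) :
    ∃ M : Subgroup G, M ≤ D ∧ Minimal (fun M : Subgroup G => M ≠ ⊥ ∧ A ≤ Subgroup.normalizer (M : Set G)) M :=
  exists_minimal_le_of_wellFoundedLT _ D ⟨hD, hAD⟩

theorem conj_mem {G : Type*} [Group G] {A M : Subgroup G} (h : A ≤ Subgroup.normalizer (M : Set G))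
    {a x : G} (ha : a ∈ A) (hx : x ∈ M) : a * x * a⁻¹ ∈ M :=
  (Subgroup.mem_normalizer_iff.mp (h ha) x).mp hx

theorem le_normalizer_of_conj {G : Type*} [Group G] {A M : Subgroup G}
    (h : ∀ a ∈ A, ∀ x ∈ M, a * x * a⁻¹ ∈ M) : A ≤ Subgroup.normalizer (M : Set G) := by
  intro a ha
  rw [Subgroup.mem_normalizer_iff]
  intro x
  refine ⟨h a ha x, fun hx => ?_⟩
  simpa [mul_assoc] using h a⁻¹ (inv_mem ha) _ hx

theorem le_normalizer_sup {G : Type*} [Group G] {A M N : Subgroup G}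
    (hM : A ≤ Subgroup.normalizer (M : Set G)) (hN : A ≤ Subgroup.normalizer (N : Set G)) :
    A ≤ Subgroup.normalizer ((M ⊔ N : Subgroup G) : Set G) := fun a ha =>
  Subgroup.mem_normalizer_iff_map_conj_eq.mpr (by
    rw [Subgroup.map_sup]
    exact congrArg₂ (· ⊔ ·) (Cfsg.Lib.Coprime.map_conj_eq_self (hM ha))
      (Cfsg.Lib.Coprime.map_conj_eq_self (hN ha)))

theorem minimal_map_conj {G : Type*} [Group G] [Finite G] {H A M : Subgroup G} {h : G} (hh : h ∈ H)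
    (hAn : H ≤ Subgroup.normalizer (A : Set G))
    (hM : Minimal (fun M : Subgroup G => M ≠ ⊥ ∧ A ≤ Subgroup.normalizer (M : Set G)) M) :
    Minimal (fun M : Subgroup G => M ≠ ⊥ ∧ A ≤ Subgroup.normalizer (M : Set G))
      (M.map (MulAut.conj h).toMonoidHom) := by
  have hinv : ∀ (Y : Subgroup G) (k : G), k ∈ H → A ≤ Subgroup.normalizer (Y : Set G) →
      A ≤ Subgroup.normalizer ((Y.map (MulAut.conj k).toMonoidHom : Subgroup G) : Set G) := by
    intro Y k hk hY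
    refine le_normalizer_of_conj ?_
    rintro a ha _ ⟨x, hx, rfl⟩
    refine ⟨(k⁻¹ * a * k) * x * (k⁻¹ * a * k)⁻¹, conj_mem hY ?_ hx, by simp [mul_assoc]⟩
    simpa using conj_mem hAn (inv_mem hk) ha
  have hne : ∀ (Y : Subgroup G) (k : G), Y ≠ ⊥ → Y.map (MulAut.conj k).toMonoidHom ≠ ⊥ :=
    fun Y k hY h => hY ((Subgroup.map_eq_bot_iff_of_injective Y (MulAut.conj k).injective).mp h)
  refine ⟨⟨hne M h hM.1.1, hinv M h hh hM.1.2⟩, fun Y hY hle => ?_⟩
  have h1 : Y.map (MulAut.conj h⁻¹).toMonoidHom ≤ M := by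
    rintro _ ⟨y, hy, rfl⟩
    obtain ⟨x, hx, rfl⟩ := hle hy
    simpa [mul_assoc] using hx
  have h2 := hM.2 ⟨hne Y h⁻¹ hY.1, hinv Y h⁻¹ (inv_mem hh) hY.2⟩ h1
  rintro _ ⟨x, hx, rfl⟩
  obtain ⟨y, hy, rfl⟩ := h2 hx
  simpa [mul_assoc] using hy


/-- Clifford's Theorem for actions on finite abelian groups, first part. Let H and V be subgroups of a finite group with V abelian and H normalizing V, and let A be a normal subgroup of H. If every H-invariant subgroup of V has an H-invariant complement in V, then every A-invariant subgroup of V has an A-invariant complement in V. -/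
theorem result {G : Type*} [Group G] [Finite G] (H A V : Subgroup G) (hVab : IsMulCommutative V) (hHV : H ≤ Subgroup.normalizer (V : Set G)) (hAH : A ≤ H) (hAn : H ≤ Subgroup.normalizer (A : Set G)) (hss : ∀ U : Subgroup G, U ≤ V → H ≤ Subgroup.normalizer (U : Set G) → ∃ W : Subgroup G, W ≤ V ∧ H ≤ Subgroup.normalizer (W : Set G) ∧ U ⊓ W = ⊥ ∧ U ⊔ W = V) (U : Subgroup G) (hUV : U ≤ V) (hAU : A ≤ Subgroup.normalizer (U : Set G)) : ∃ W : Subgroup G, W ≤ V ∧ A ≤ Subgroup.normalizer (W : Set G) ∧ U ⊓ W = ⊥ ∧ U ⊔ W = V := by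
  let 𝒮 : Set (Subgroup G) := {M | M ≤ V ∧
    Minimal (fun M : Subgroup G => M ≠ ⊥ ∧ A ≤ Subgroup.normalizer (M : Set G)) M}
  have hW0V : sSup 𝒮 ≤ V := sSup_le fun M hM => hM.1
  have hW0H : H ≤ Subgroup.normalizer ((sSup 𝒮 : Subgroup G) : Set G) := by
    refine le_normalizer_of_conj fun h hh x hx => ?_
    have hle : sSup 𝒮 ≤ (sSup 𝒮).comap (MulAut.conj h).toMonoidHom := sSup_le fun M hM =>
      Subgroup.map_le_iff_le_comap.mp (le_sSup ⟨by
        rintro _ ⟨y, hy, rfl⟩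
        exact conj_mem hHV hh (hM.1 hy), minimal_map_conj hh hAn hM.2⟩)
    exact hle hx
  obtain ⟨C, hCV, hHC, hCi, hCs⟩ := hss _ hW0V hW0H
  have hC : C = ⊥ := by
    by_contra hne
    obtain ⟨M, hMC, hM⟩ := exists_invariant_le A hne (hAH.trans hHC)
    exact hM.1.1 (le_bot_iff.mp (hCi ▸ le_inf (le_sSup ⟨hMC.trans hCV, hM⟩) hMC))
  rw [hC, sup_bot_eq] at hCs
  let T : Set (Subgroup G) := {W | W ≤ V ∧ A ≤ Subgroup.normalizer (W : Set G) ∧ U ⊓ W = ⊥}
  obtain ⟨W, ⟨hWV, hAW, hUW⟩, hmax⟩ := (Set.toFinite T).exists_maximal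
    ⟨⊥, bot_le, le_normalizer_of_conj fun a _ x hx => by
      rw [Subgroup.mem_bot] at hx ⊢; simp [hx], inf_bot_eq U⟩
  refine ⟨W, hWV, hAW, hUW, le_antisymm (sup_le hUV hWV) ?_⟩
  refine hCs.symm.le.trans (sSup_le fun M hM => ?_)
  by_contra hMnle
  have hdis : M ⊓ (U ⊔ W) = ⊥ := by
    by_contra hne
    have hinv : A ≤ Subgroup.normalizer ((M ⊓ (U ⊔ W) : Subgroup G) : Set G) :=
      le_normalizer_of_conj fun a ha x hx =>
        ⟨conj_mem hM.2.1.2 ha hx.1, conj_mem (le_normalizer_sup hAU hAW) ha hx.2⟩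
    exact hMnle ((hM.2.2 ⟨hne, hinv⟩ inf_le_left).trans inf_le_right)
  have hWM : A ≤ Subgroup.normalizer ((W ⊔ M : Subgroup G) : Set G) := le_normalizer_sup hAW hM.2.1.2
  have hUWM : U ⊓ (W ⊔ M) = ⊥ := by
    rw [Subgroup.eq_bot_iff_forall]
    rintro u ⟨hu, hu'⟩
    have hMW : M ≤ Subgroup.normalizer (W : Set G) := le_normalizer_of_conj fun m hm w hw => by
      have hc : m * w = w * m :=
        congrArg Subtype.val (hVab.1.comm (⟨m, hM.1 hm⟩ : V) ⟨w, hWV hw⟩)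
      rw [hc, mul_inv_cancel_right]; exact hw
    obtain ⟨w, hw, m, hm, rfl⟩ := Cfsg.Lib.Coprime.exists_mul_of_mem_sup hMW hu'
    have hm1 : m ∈ M ⊓ (U ⊔ W) := ⟨hm, by
      simpa using mul_mem (Subgroup.mem_sup_right (S := U) (inv_mem hw))
        (Subgroup.mem_sup_left (T := W) hu)⟩
    rw [hdis, Subgroup.mem_bot] at hm1
    subst hm1
    rw [mul_one] at hu ⊢
    exact Subgroup.mem_bot.mp (hUW ▸ ⟨hu, hw⟩ : w ∈ (⊥ : Subgroup G))
  exact hMnle ((le_sup_right.trans (hmax ⟨sup_le hWV hM.1, hWM, hUWM⟩ le_sup_left)).trans le_sup_right)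

end Cfsg.Agent.S3735
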