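import Cfsg.Statements.S3736
import Cfsg.Agent.Lib.Coprime.Action
import Cfsg.Agent.Lib.Core.Fitting
import Cfsg.Agent.Lib.PGroup.Basic
import Cfsg.Agent.Lib.PGroup.ClassTwo
import Cfsg.Agent.Lib.PGroup.OddOmega
import Mathlib.GroupTheory.Abelianization.Defs

set_option autoImplicit false
open Cfsg
open scoped commutatorElement

namespace Cfsg.Agent.S3736

open Subgroup

universe u

/-- If `[P, A] = P` for coprime orders, the fixed points lie in the commutator subgroup. -/
theorem fixed_le {X : Type u} [Group X] [Finite X] (A P : Subgroup X) (hAP : A ≤ normalizer (P : Set X))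
    (hcop : (Nat.card A).Coprime (Nat.card P)) (hS : ⁅P, A⁆ = P) (z : P)
    (hz : ∀ a ∈ A, a * z = z * a) : z ∈ commutator P := by
  classical
  have := Fintype.ofFinite A
  let c : A → P →* P := fun a =>
    (MonoidHom.mk' (fun v : P => (⟨(a : X) * v * (a : X)⁻¹, (mem_normalizer_iff.mp (hAP a.2) v).mp v.2⟩ : P))
      (fun v w => Subtype.ext (by simp [mul_assoc])))
  let ν : P →* Abelianization P :=
    { toFun := fun v => ∏ a : A, Abelianization.of (c a v)
      map_one' := by simp
      map_mul' := fun v w => by simp [Finset.prod_mul_distrib] }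
  have hinv : ∀ (b : A) (v : P), ν (c b v) = ν v := by
    intro b v
    refine Fintype.prod_equiv (Equiv.mulRight b) _ _ fun a => ?_
    congr 1
    exact Subtype.ext (by simp [c, mul_assoc])
  have hle : ⁅P, A⁆ ≤ ν.ker.map P.subtype := by
    rw [commutator_le]
    intro y hy a ha
    refine ⟨(⟨y, hy⟩ : P) * c ⟨a, ha⟩ ⟨y, hy⟩⁻¹, ?_, by simp [c, commutatorElement_def, mul_assoc]⟩
    rw [SetLike.mem_coe, MonoidHom.mem_ker, map_mul, hinv, map_inv, mul_inv_cancel]
  rw [hS] at hle
  obtain ⟨w, hw, hwz⟩ := hle z.2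
  have hwz' : w = z := Subtype.ext hwz
  subst hwz'
  have h1 : ν w = Abelianization.of w ^ Nat.card A := by
    show ∏ a : A, Abelianization.of (c a w) = _
    rw [Finset.prod_congr rfl (fun a _ => congrArg Abelianization.of (show c a w = w from
      Subtype.ext (show (a : X) * w * (a : X)⁻¹ = w by rw [hz a a.2, mul_inv_cancel_right]))), Finset.prod_const, Finset.card_univ,
      ← Nat.card_eq_fintype_card]
  rw [MonoidHom.mem_ker.mp hw] at h1
  have h2 : orderOf (Abelianization.of w) = 1 := Nat.eq_one_of_dvd_coprimes hcop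
    (orderOf_dvd_of_pow_eq_one h1.symm)
    ((orderOf_map_dvd Abelianization.of w).trans (orderOf_dvd_natCard w))
  have h3 : w ∈ (Abelianization.of : P →* Abelianization P).ker := orderOf_eq_one_iff.mp h2
  rwa [Abelianization.ker_of] at h3


/-- The Hall–Higman reduction for a minimal non-trivial action. Let B, A and P be subgroups of a finite group with P a p-group, B normalizing P, and A a normal subgroup of B of order prime to p. Suppose A does not centralize P but centralizes every proper B-invariant subgroup of P. Then [P, A] = P; P is elementary abelian or special; B acts irreducibly on P/Φ(P), that is, the only B-invariant subgroups of P containing Φ(P) are Φ(P) and P; and if p is odd then every element of P has order dividing p. -/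
theorem result {X : Type*} [Group X] [Finite X] {p : ℕ} [Fact p.Prime] (B A P : Subgroup X) (hP : IsPGroup p P) (hBP : B ≤ Subgroup.normalizer (P : Set X)) (hAB : A ≤ B) (hAn : B ≤ Subgroup.normalizer (A : Set X)) (hAp : (Nat.card A).Coprime p) (hnt : ⁅P, A⁆ ≠ ⊥) (hmin : ∀ U : Subgroup X, U < P → B ≤ Subgroup.normalizer (U : Set X) → ⁅U, A⁆ = ⊥) : ⁅P, A⁆ = P ∧ (Cfsg.IsElementaryAbelian p P ∨ Cfsg.IsSpecial p ↥P) ∧ (∀ U : Subgroup X, (frattini ↥P).map P.subtype ≤ U → U ≤ P → B ≤ Subgroup.normalizer (U : Set X) → U = (frattini ↥P).map P.subtype ∨ U = P) ∧ (p ≠ 2 → ∀ x ∈ P, x ^ p = 1) := by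
  classical
  have hAP : A ≤ normalizer (P : Set X) := hAB.trans hBP
  have hcop : (Nat.card A).Coprime (Nat.card P) := by
    obtain ⟨k, hk⟩ := IsPGroup.iff_card.mp hP
    rw [hk]; exact Nat.Coprime.pow_right _ hAp
  have hPsol : Group.IsSolvable P := IsNilpotent.to_isSolvable (G := P) (h := hP.isNilpotent)
  have hS : ⁅P, A⁆ = P := by
    by_contra hne
    refine hnt (Cfsg.Lib.Coprime.commutator_eq_bot_of_commutator_commutator_eq_bot hAP hcop (Or.inr hPsol)
      (hmin _ (lt_of_le_of_ne (Cfsg.Lib.Coprime.commutator_le_of_le_normalizer hAP) hne) ?_))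
    intro b hb
    rw [Cfsg.Lib.Core.mem_normalizer_iff_map_conj, map_commutator,
      Cfsg.Lib.Core.map_conj_eq_of_mem_normalizer (hBP hb), Cfsg.Lib.Core.map_conj_eq_of_mem_normalizer (hAn hb)]
  have hfix : ∀ z : P, (∀ a ∈ A, a * (z : X) = z * a) → z ∈ commutator P := fixed_le A P hAP hcop hS
  -- a proper invariant subgroup is centralised by `A`
  have hcent : ∀ U : Subgroup X, U < P → B ≤ normalizer (U : Set X) → ∀ u ∈ U, ∀ a ∈ A, a * u = u * a :=
    fun U hU hBU u hu a ha => (commutator_eq_bot_iff_le_centralizer.mp (hmin U hU hBU) hu) a ha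
  -- proper characteristic subgroups are central and lie in the commutator subgroup
  have hchar : ∀ C : Subgroup P, C.Characteristic → C ≠ ⊤ → C ≤ center P ∧ C ≤ commutator P := by
    intro C hC hCne
    set C' := C.map P.subtype
    have hlt : C' < P := lt_of_le_of_ne (map_subtype_le _) fun h => hCne
      (map_injective P.subtype_injective (h.trans (by rw [← MonoidHom.range_eq_map, range_subtype])))
    have hn : normalizer (P : Set X) ≤ normalizer (C' : Set X) :=
      Cfsg.Lib.Core.normalizer_le_normalizer_map_char C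
    have hCA : ⁅C', A⁆ = ⊥ := hmin C' hlt (hBP.trans hn)
    have hCP : ⁅C', P⁆ ≤ C' := le_normalizer_iff_commutator_le_left.mp (le_normalizer.trans hn)
    have hZ : ⁅P, C'⁆ = ⊥ := by
      rw [← hS]
      refine commutator_commutator_eq_bot_of_rotate ?_ ?_
      · rw [commutator_comm A C', hCA, commutator_bot_left]
      · exact le_bot_iff.mp ((commutator_mono hCP le_rfl).trans hCA.le)
    refine ⟨fun x hx => mem_center_iff.mpr fun y => Subtype.ext ?_,
      fun x hx => hfix x fun a ha => (commutator_eq_bot_iff_le_centralizer.mp hCA ⟨x, hx, rfl⟩) a ha⟩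
    exact ((commutator_eq_bot_iff_le_centralizer.mp hZ y.2) _ ⟨x, hx, rfl⟩).symm
  have hPne : P ≠ ⊥ := fun h => hnt (by rw [h]; exact commutator_bot_left _)
  have : Nontrivial P := P.nontrivial_iff_ne_bot.mpr hPne
  have hΦne : frattini P ≠ ⊤ := Cfsg.Lib.PGroup.frattini_ne_top
  obtain ⟨hΦZ, hΦP⟩ := hchar (frattini P) inferInstance hΦne
  have hΦeq : frattini P = commutator P := le_antisymm hΦP (Cfsg.Lib.PGroup.commutator_le_frattini hP)
  have hclass : commutator P ≤ center P := hΦeq ▸ hΦZ
  have hcomm_pow : ∀ x y : P, ⁅x, y⁆ ^ p = 1 := by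
    intro x y
    rw [← Cfsg.Lib.PGroup.commutatorElement_pow_left hclass, commutatorElement_eq_one_iff_mul_comm]
    exact (mem_center_iff.mp (hΦZ (Cfsg.Lib.PGroup.pow_mem_frattini hP x)) y).symm
  refine ⟨hS, ?_, fun U hΦU hUP hBU => ?_, fun hp2 => ?_⟩
  · by_cases hZ : center P = ⊤
    · left
      have hab : ∀ x y : P, x * y = y * x := fun x y =>
        (mem_center_iff.mp (hZ ▸ mem_top x) y).symm
      have hcb : commutator P = ⊥ := by
        rw [eq_bot_iff, _root_.commutator_def, commutator_le]
        intro x _ y _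
        rw [mem_bot, commutatorElement_eq_one_iff_mul_comm]
        exact hab x y
      refine ⟨⟨⟨fun x y => hab x y⟩⟩, fun x hx => ?_⟩
      have h1 : (⟨x, hx⟩ : P) ^ p ∈ frattini P := Cfsg.Lib.PGroup.pow_mem_frattini hP _
      rw [hΦeq, hcb, mem_bot] at h1
      simpa using congrArg Subtype.val h1
    · right
      obtain ⟨-, hZP⟩ := hchar (center P) inferInstance hZ
      exact ⟨hP, le_antisymm hΦZ (hZP.trans hΦeq.ge), le_antisymm hclass hZP⟩
  · by_contra hne
    rw [not_or] at hne
    have hlt : U < P := lt_of_le_of_ne hUP hne.2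
    refine hne.1 (le_antisymm (fun u hu => ?_) hΦU)
    exact ⟨⟨u, hUP hu⟩, hΦeq.ge (hfix ⟨u, hUP hu⟩ fun a ha => hcent U hlt hBU u hu a ha), rfl⟩
  · let U : Subgroup X :=
      { carrier := {x | x ∈ P ∧ x ^ p = 1}
        one_mem' := ⟨one_mem P, one_pow p⟩
        inv_mem' := fun {x} hx => ⟨inv_mem hx.1, by rw [inv_pow, hx.2, inv_one]⟩
        mul_mem' := fun {x y} hx hy => ⟨mul_mem hx.1 hy.1, by
          have h := Cfsg.Lib.PGroup.mul_pow_of_class_two hclass (⟨x, hx.1⟩ : P) ⟨y, hy.1⟩ p
          obtain ⟨j, hj⟩ : p ∣ p.choose 2 := (Fact.out : p.Prime).dvd_choose_self two_ne_zero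
            (lt_of_le_of_ne (Fact.out : p.Prime).two_le hp2.symm)
          rw [hj, pow_mul, hcomm_pow, one_pow, mul_one] at h
          have h' := congrArg Subtype.val h
          simp only [SubgroupClass.coe_pow, Subgroup.coe_mul] at h'
          rw [h', hx.2, hy.2, one_mul]⟩ }
    intro x hx
    by_cases hUP : U = P
    · exact (hUP.ge hx : x ∈ U).2
    exfalso
    have hlt : U < P := lt_of_le_of_ne (fun y hy => hy.1) hUP
    have hBU : B ≤ normalizer (U : Set X) := Cfsg.Lib.Core.le_normalizer_iff_conj_mem.mpr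
      fun b hb u hu => ⟨(mem_normalizer_iff.mp (hBP hb) u).mp hu.1, by rw [conj_pow, hu.2, mul_one, mul_inv_cancel]⟩
    refine hnt ?_
    rw [commutator_comm, commutator_eq_bot_iff_le_centralizer]
    exact Cfsg.Lib.PGroup.le_centralizer_of_centralizes_omega hp2 A P hP hAP hcop
      fun y hy hyp a ha => hcent U hlt hBU y ⟨hy, hyp⟩ a ha

end Cfsg.Agent.S3736
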