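import Cfsg.Statements.S3737
import Cfsg.Agent.S3736
import Cfsg.Agent.Lib.PGroup.ClassTwo
import Mathlib.GroupTheory.PGroup

set_option autoImplicit false
open Cfsg
open scoped commutatorElement

namespace Cfsg.Agent.S3737

open Subgroup Cfsg.Lib.PGroup

universe u

variable {G : Type u} [Group G]

/-- The correction term of the abelian operation on a group of class two and odd exponent `p`. -/
def corr (h : ℕ) (x y : G) : G := ⁅y, x⁆ ^ h

theorem corr_central (hG : commutator G ≤ center G) (h : ℕ) (x y g : G) : g * corr h x y = corr h x y * g :=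
  ((show Commute g ⁅y, x⁆ from commutatorElement_comm_of_central hG y x g).pow_right h).eq

theorem corr_mul_left (hG : commutator G ≤ center G) (h : ℕ) (x y z : G) :
    corr h (x * y) z = corr h x z * corr h y z := by
  unfold corr
  rw [commutatorElement_mul_right hG, (show Commute ⁅z, x⁆ ⁅z, y⁆ from
    (commutatorElement_comm_of_central hG z x ⁅z, y⁆).symm).mul_pow]

theorem corr_mul_right (hG : commutator G ≤ center G) (h : ℕ) (x y z : G) :
    corr h x (y * z) = corr h x y * corr h x z := by
  unfold corr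
  rw [commutatorElement_mul_left hG, (show Commute ⁅y, x⁆ ⁅z, x⁆ from
    (commutatorElement_comm_of_central hG y x ⁅z, x⁆).symm).mul_pow]

theorem corr_corr_left (hG : commutator G ≤ center G) (h k : ℕ) (x y z : G) :
    corr h (corr k x y) z = 1 := by
  show ⁅z, corr k x y⁆ ^ h = 1
  rw [commutatorElement_eq_one_iff_mul_comm.mpr (corr_central hG k x y z), one_pow]

theorem corr_corr_right (hG : commutator G ≤ center G) (h k : ℕ) (x y z : G) :
    corr h z (corr k x y) = 1 := by
  show ⁅corr k x y, z⁆ ^ h = 1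
  rw [commutatorElement_eq_one_iff_mul_comm.mpr (corr_central hG k x y z).symm, one_pow]

/-- Automorphisms of a group of class two and odd exponent `p`: if a `p`-group normalises a
`p'`-group and every fixed point of the former is fixed by the latter, the latter acts trivially. -/
theorem trivial_of_fixed [Finite G] {p : ℕ} [hp : Fact p.Prime] (hp2 : p ≠ 2)
    (hG : commutator G ≤ center G) (hexp : ∀ x : G, x ^ p = 1) (P Q : Subgroup (MulAut G))
    (hP : IsPGroup p P) (hQ : (Nat.card Q).Coprime p) (hPQ : ∀ u ∈ P, ∀ a ∈ Q, u * a * u⁻¹ ∈ Q)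
    (hC : ∀ x : G, (∀ u ∈ P, u x = x) → ∀ a ∈ Q, a x = x) : ∀ a ∈ Q, ∀ x : G, a x = x := by
  classical
  obtain ⟨h, hh⟩ : ∃ h : ℕ, 2 * h = p + 1 := ⟨(p + 1) / 2, by
    have := hp.out.eq_two_or_odd
    omega⟩
  let op : G → G → G := fun x y => x * y * corr h x y
  have hcomm : ∀ x y : G, op x y = op y x := by
    intro x y
    show x * y * ⁅y, x⁆ ^ h = y * x * ⁅x, y⁆ ^ h
    have h1 : x * y = y * x * ⁅x, y⁆ := by
      rw [commutatorElement_comm_of_central hG x y (y * x)]
      simp [commutatorElement_def, mul_assoc]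
    have h2 : ⁅y, x⁆ = ⁅x, y⁆⁻¹ := (commutatorElement_inv x y).symm
    rw [h1, mul_assoc]
    congr 1
    rw [h2, inv_pow, mul_inv_eq_iff_eq_mul, ← pow_add, ← two_mul, hh, pow_succ, hexp, one_mul]
  have hassoc : ∀ x y z : G, op (op x y) z = op x (op y z) := by
    intro x y z
    show x * y * corr h x y * z * corr h (x * y * corr h x y) z = x * (y * z * corr h y z) * corr h x (y * z * corr h y z)
    rw [corr_mul_left hG, corr_corr_left hG, mul_one, corr_mul_left hG, corr_mul_right hG,
      corr_corr_right hG, mul_one, corr_mul_right hG]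
    have e1 := corr_central hG h x y z
    have e3 := corr_central hG h y z (corr h x y)
    have e4 := corr_central hG h y z (corr h x z)
    calc x * y * corr h x y * z * (corr h x z * corr h y z)
        = x * y * (corr h x y * z) * (corr h x z * corr h y z) := by group
      _ = x * y * z * (corr h x y * corr h x z * corr h y z) := by rw [← e1]; group
      _ = x * y * z * (corr h x y * (corr h y z * corr h x z)) := by rw [mul_assoc (corr h x y), e4]
      _ = x * y * z * (corr h y z * (corr h x y * corr h x z)) := by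
          rw [← mul_assoc (corr h x y), e3, mul_assoc (corr h y z)]
      _ = _ := by group
  let A : CommMonoid G :=
    { mul := op
      one := (1 : G)
      mul_assoc := hassoc
      one_mul := fun x => by
        show 1 * x * corr h 1 x = x
        simp [corr]
      mul_one := fun x => by
        show x * 1 * corr h x 1 = x
        simp [corr]
      mul_comm := hcomm
      npow := @npowRec G ⟨(1 : G)⟩ ⟨op⟩
      npow_zero := fun x => rfl
      npow_succ := fun n x => rfl }
  have := Fintype.ofFinite Q
  let T : G → G := fun x => @Finset.prod Q G A Finset.univ (fun a : Q => (a : MulAut G) x)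
  have hop : ∀ (e : MulAut G) (x y : G), e (op x y) = op (e x) (e y) := fun e x y => by
    simp [op, corr, map_commutatorElement]
  have hmap : ∀ (e : MulAut G) (s : Finset Q) (f : Q → G),
      e (@Finset.prod Q G A s f) = @Finset.prod Q G A s (fun a => e (f a)) := by
    intro e s f
    induction s using Finset.induction_on with
    | empty => exact map_one e
    | insert a s ha ih =>
      rw [@Finset.prod_insert Q G _ _ A _ _ ha, @Finset.prod_insert Q G _ _ A _ _ ha]
      show e (op _ _) = op _ _
      rw [hop, ih]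
  have hTQ : ∀ b ∈ Q, ∀ x : G, T (b x) = T x := by
    intro b hb x
    exact @Fintype.prod_equiv Q Q G _ _ A (Equiv.mulRight (⟨b, hb⟩ : Q)) _ _ (fun a => rfl)
  have hTP : ∀ u ∈ P, ∀ x : G, T (u x) = u (T x) := by
    intro u hu x
    show _ = u (@Finset.prod Q G A Finset.univ _)
    rw [hmap]
    refine (@Fintype.prod_equiv Q Q G _ _ A
      { toFun := fun a => ⟨u * a * u⁻¹, hPQ u hu a a.2⟩
        invFun := fun a => ⟨u⁻¹ * a * u⁻¹⁻¹, hPQ u⁻¹ (inv_mem hu) a a.2⟩
        left_inv := fun a => Subtype.ext (by simp [mul_assoc])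
        right_inv := fun a => Subtype.ext (by simp [mul_assoc]) } _ _ (fun a => ?_)).symm
    simp [MulAut.mul_apply]
  let _ : MulAction P G := MulAction.compHom G P.subtype
  have hGp : IsPGroup p G := fun x => ⟨1, by rw [pow_one]; exact hexp x⟩
  -- the kernel of `T`
  let K : Set G := {x | T x = 1}
  have hK1 : (1 : G) ∈ K := by
    show @Finset.prod Q G A Finset.univ (fun a : Q => (a : MulAut G) 1) = 1
    exact @Finset.prod_eq_one Q G Finset.univ A _ (fun a _ => map_one (a : MulAut G))
  have hTop : ∀ x y : G, T (op x y) = op (T x) (T y) := by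
    intro x y
    show @Finset.prod Q G A Finset.univ (fun a : Q => (a : MulAut G) (op x y)) = _
    simp_rw [hop]
    exact @Finset.prod_mul_distrib Q G Finset.univ A _ _
  -- `T x` is fixed by Q
  have hTfix : ∀ b ∈ Q, ∀ x : G, b (T x) = T x := by
    intro b hb x
    show b (@Finset.prod Q G A Finset.univ _) = _
    rw [hmap]
    exact @Fintype.prod_equiv Q Q G _ _ A (Equiv.mulLeft (⟨b, hb⟩ : Q)) _ _ (fun a => rfl)
  have hcop : ∀ x : G, (∀ a ∈ Q, a x = x) → T x = 1 → x = 1 := by
    intro x hx hT
    have key : ∀ s : Finset Q, @Finset.prod Q G A s (fun a : Q => (a : MulAut G) x) = x ^ s.card := by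
      intro s
      induction s using Finset.induction_on with
      | empty => exact (pow_zero x).symm
      | insert a s ha ih =>
        rw [@Finset.prod_insert Q G _ _ A _ _ ha, Finset.card_insert_of_notMem ha, ih, hx a a.2]
        show x * x ^ s.card * corr h x (x ^ s.card) = _
        rw [show corr h x (x ^ s.card) = 1 by
          rw [corr, commutatorElement_eq_one_iff_mul_comm.mpr (Commute.pow_self x _).eq, one_pow],
          mul_one, pow_succ']
    change @Finset.prod Q G A Finset.univ (fun a : Q => (a : MulAut G) x) = 1 at hT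
    rw [key, Finset.card_univ, ← Nat.card_eq_fintype_card] at hT
    exact orderOf_eq_one_iff.mp (Nat.eq_one_of_dvd_coprimes hQ (orderOf_dvd_of_pow_eq_one hT)
      (orderOf_dvd_of_pow_eq_one (hexp x)))
  -- the kernel has p-power order
  let AG : CommGroup G :=
    { A with
      inv := fun x => x⁻¹
      div := fun x y => op x y⁻¹
      div_eq_mul_inv := fun x y => rfl
      zpow := @zpowRec G ⟨(1 : G)⟩ ⟨op⟩ ⟨fun x => x⁻¹⟩ (@npowRec G ⟨(1 : G)⟩ ⟨op⟩)
      zpow_zero' := fun x => rfl
      zpow_succ' := fun n x => rfl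
      zpow_neg' := fun n x => rfl
      inv_mul_cancel := fun x => by
        show x⁻¹ * x * corr h x⁻¹ x = 1
        rw [show corr h x⁻¹ x = 1 by
          rw [corr, commutatorElement_eq_one_iff_mul_comm.mpr (by simp), one_pow], mul_one, inv_mul_cancel] }
  have hop1 : op 1 1 = 1 := by simp [op, corr]
  have hKmul : ∀ x y : G, x ∈ K → y ∈ K → op x y ∈ K := fun x y hx hy => by
    show T (op x y) = 1
    rw [hTop, show T x = 1 from hx, show T y = 1 from hy, hop1]
  have hinv : ∀ x : G, op x⁻¹ x = 1 := fun x => by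
    show x⁻¹ * x * corr h x⁻¹ x = 1
    rw [show corr h x⁻¹ x = 1 by
      rw [corr, commutatorElement_eq_one_iff_mul_comm.mpr (by simp), one_pow], mul_one, inv_mul_cancel]
  have hKinv : ∀ x : G, x ∈ K → x⁻¹ ∈ K := fun x hx => by
    show T x⁻¹ = 1
    have h1 := hTop x⁻¹ x
    rw [hinv, show T x = 1 from hx, show T (1 : G) = 1 from hK1] at h1
    simpa [op, corr, commutatorElement_def] using h1.symm
  let KS : @Subgroup G AG.toGroup :=
    @Subgroup.mk G AG.toGroup
      (@Submonoid.mk G AG.toMulOneClass (@Subsemigroup.mk G AG.toMul K (fun {x y} => hKmul x y)) hK1)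
      (fun {x} => hKinv x)
  have hKcard : ∃ k, Nat.card K = p ^ k := by
    obtain ⟨n, hn⟩ := IsPGroup.iff_card.mp hGp
    have hd : Nat.card KS ∣ Nat.card G := @Subgroup.card_subgroup_dvd_card G AG.toGroup KS
    rw [hn] at hd
    obtain ⟨k, -, hk⟩ := (Nat.dvd_prime_pow hp.out).mp hd
    exact ⟨k, (Nat.card_congr (Equiv.refl _)).trans hk⟩
  have hKstab : ∀ (u : P) (x : G), x ∈ K → u • x ∈ K := fun u x hx => by
    show T ((u : MulAut G) x) = 1
    rw [hTP u u.2, show T x = 1 from hx, map_one]
  let _ : MulAction P K :=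
    { smul := fun u x => ⟨u • (x : G), hKstab u x x.2⟩
      one_smul := fun x => Subtype.ext (one_smul P (x : G))
      mul_smul := fun u v x => Subtype.ext (mul_smul u v (x : G)) }
  have hKtriv : ∀ x ∈ K, x = 1 := by
    intro x hx
    by_contra hx1
    obtain ⟨k, hk⟩ := hKcard
    have hk0 : k ≠ 0 := by
      rintro rfl
      have h1 : Subsingleton K := (Nat.card_eq_one_iff_unique.mp (by rw [hk, pow_zero])).1
      exact hx1 (congrArg Subtype.val (Subsingleton.elim (⟨x, hx⟩ : K) ⟨1, hK1⟩))
    obtain ⟨⟨y, hy⟩, hyfix, hy1⟩ := hP.exists_fixed_point_of_prime_dvd_card_of_fixed_point K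
      (by rw [hk]; exact dvd_pow_self p hk0) (a := ⟨1, hK1⟩) (fun u => Subtype.ext (map_one (u : MulAut G)))
    have hyP : ∀ u ∈ P, u y = y := fun u hu => congrArg Subtype.val (hyfix ⟨u, hu⟩)
    exact hy1 (Subtype.ext (hcop y (hC y hyP) hy).symm)
  intro a ha x
  -- x minus its image under a lies in the kernel
  have h1 : op (a x) (x⁻¹) ∈ K := by
    show T (op (a x) x⁻¹) = 1
    rw [hTop, hTQ a ha, ← hTop, show op x x⁻¹ = 1 from (hcomm x x⁻¹).trans (@inv_mul_cancel G AG.toGroup x)]
    exact hK1
  have h2 := hKtriv _ h1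
  exact @eq_of_mul_inv_eq_one G AG.toDivisionMonoid _ _ h2


/-- Thompson's strengthening of the P × Q lemma for odd primes. Let p be an odd prime and let P, Q and G be subgroups of a finite group with P a p-group, Q of order prime to p and normalized by P, and G a p-group normalized by both P and Q. If every element of G centralized by P is centralized by Q, then Q centralizes G. -/
theorem result {X : Type*} [Group X] [Finite X] {p : ℕ} [Fact p.Prime] (hp : p ≠ 2) (P Q G : Subgroup X) (hP : IsPGroup p P) (hQ : (Nat.card Q).Coprime p) (hPQ : P ≤ Subgroup.normalizer (Q : Set X)) (hG : IsPGroup p G) (hPG : P ≤ Subgroup.normalizer (G : Set X)) (hQG : Q ≤ Subgroup.normalizer (G : Set X)) (hC : G ⊓ Subgroup.centralizer (P : Set X) ≤ Subgroup.centralizer (Q : Set X)) : Q ≤ Subgroup.centralizer (G : Set X) := by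
  induction G using WellFoundedLT.induction with
  | _ G ih =>
  by_contra hne
  have hnt : ⁅G, Q⁆ ≠ ⊥ := fun h => hne (le_centralizer_iff.mp (commutator_eq_bot_iff_le_centralizer.mp h))
  have hmin : ∀ U : Subgroup X, U < G → P ⊔ Q ≤ normalizer (U : Set X) → ⁅U, Q⁆ = ⊥ := fun U hU hn =>
    commutator_eq_bot_iff_le_centralizer.mpr (le_centralizer_iff.mp
      (ih U hU (hG.to_le hU.le) (le_sup_left.trans hn) (le_sup_right.trans hn)
        ((inf_le_inf_right _ hU.le).trans hC)))
  obtain ⟨-, hspec, -, hexp⟩ := Cfsg.Agent.S3736.result (P ⊔ Q) Q G hG (sup_le hPG hQG) le_sup_right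
    (sup_le hPQ le_normalizer) hQ hnt hmin
  have hclass : commutator G ≤ center G := by
    rcases hspec with h | h
    · intro x _
      exact mem_center_iff.mpr fun y => h.1.is_comm.comm y x
    · exact h.2.2.le
  apply hne
  have key := trivial_of_fixed hp hclass
    (fun x => Subtype.ext (by simpa using hexp hp x x.2))
    ((P.subgroupOf (normalizer (G : Set X))).map G.normalizerMonoidHom)
    ((Q.subgroupOf (normalizer (G : Set X))).map G.normalizerMonoidHom)
    ((hP.of_equiv (subgroupOfEquivOfLe hPG).symm).map _)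
    (hQ.coprime_dvd_left ((Cfsg.Lib.Core.card_map_dvd _ _).trans (Nat.card_congr (subgroupOfEquivOfLe hQG).toEquiv).dvd))
    (by
      rintro u ⟨u0, hu, rfl⟩ a ⟨a0, ha, rfl⟩
      exact ⟨u0 * a0 * u0⁻¹, (mem_normalizer_iff.mp (hPQ hu) _).mp ha, by simp⟩)
    (by
      rintro x hx a ⟨a0, ha, rfl⟩
      refine Subtype.ext ?_
      have h1 : (x : X) ∈ centralizer (Q : Set X) := hC ⟨x.2, fun u hu => by
        have h2 := congrArg Subtype.val (hx _ ⟨⟨u, hPG hu⟩, hu, rfl⟩)
        exact mul_inv_eq_iff_eq_mul.mp h2⟩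
      show (a0 : X) * x * (a0 : X)⁻¹ = x
      rw [h1 a0 ha, mul_inv_cancel_right])
  intro a ha g hg
  have h1 := congrArg Subtype.val (key _ ⟨⟨a, hQG ha⟩, ha, rfl⟩ ⟨g, hg⟩)
  exact (mul_inv_eq_iff_eq_mul.mp h1).symm

end Cfsg.Agent.S3737
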