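import Cfsg.Statements.S3738
import Cfsg.Agent.S4054
import Cfsg.Agent.Lib.Coprime.Action
import Cfsg.Agent.Lib.Thompson.Omega
import Cfsg.Agent.Lib.Core.Basic
-- import your own Cfsg.Agent.* helpers here

set_option autoImplicit false
open Cfsg

namespace Cfsg.Agent.S3738

open Subgroup
open scoped commutatorElement

theorem eq_of_card_eq_three {G : Type*} [Group G] [Finite G] {u : G} {Y Y' : Subgroup G}
    (hY : Y ≤ Subgroup.zpowers u) (hY' : Y' ≤ Subgroup.zpowers u) (hc : Nat.card Y = 3) (hc' : Nat.card Y' = 3) :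
    Y = Y' := by
  classical
  haveI := Fintype.ofFinite G
  set W := Subgroup.zpowers u
  set S : Finset W := Finset.univ.filter fun w => w ^ 3 = 1 with hS
  have hle : S.card ≤ 3 := IsCyclic.card_pow_eq_one_le (by norm_num)
  have hsub : ∀ Y : Subgroup G, Y ≤ W → Nat.card Y = 3 →
      (Finset.univ.filter fun w : W => (w : G) ∈ Y) = S := by
    intro Y hY hc
    refine Finset.eq_of_subset_of_card_le (fun w hw => ?_) ?_
    · rw [Finset.mem_filter] at hw
      rw [hS, Finset.mem_filter]
      refine ⟨Finset.mem_univ _, Subtype.ext ?_⟩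
      have := congrArg Subtype.val (pow_card_eq_one' (x := (⟨(w : G), hw.2⟩ : Y)))
      rwa [hc] at this
    · refine hle.trans (le_of_eq ?_)
      rw [← Fintype.card_subtype, ← Nat.card_eq_fintype_card, ← hc]
      exact Nat.card_congr ⟨fun y => ⟨⟨y.1, hY y.2⟩, y.2⟩, fun w => ⟨w.1.1, w.2⟩,
        fun _ => rfl, fun _ => rfl⟩
  ext g
  have h := Finset.ext_iff.1 ((hsub Y hY hc).trans (hsub Y' hY' hc').symm)
  constructor
  · intro hg
    simpa using (h ⟨g, hY hg⟩).1 (by simpa using hg)
  · intro hg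
    simpa using (h ⟨g, hY' hg⟩).2 (by simpa using hg)

/-- An automorphism of order `3 ^ (n + 2)` of a `3'`-subgroup of small elementary section. -/
theorem nine_le {V : Type*} [Group V] [Finite V] {m : ℕ} (g : MulAut V) (hg : g ^ 3 ^ (m + 2) = 1)
    (hz : g ^ 3 ^ (m + 1) ≠ 1) (hc : ∀ a b : V, a * b = b * a) (he : ∀ a : V, a ^ 2 = 1) {k : ℕ}
    (hk : Nat.card V = 2 ^ k) : 6 ≤ k := by
  classical
  set z := g ^ 3 ^ (m + 1) with hzdef
  have hz3 : z ^ 3 = 1 := by rw [hzdef, ← pow_mul, ← pow_succ]; exact hg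
  letI : CommGroup V := { (inferInstance : Group V) with mul_comm := hc }
  let f : V →* V :=
    { toFun := fun v => z v * v
      map_one' := by simp
      map_mul' := fun a b => by rw [map_mul, mul_mul_mul_comm] }
  have hinv : ∀ v : V, v⁻¹ = v := fun v => inv_eq_of_mul_eq_one_right (by rw [← sq]; exact he v)
  have hzfree : ∀ u ∈ f.range, z u = u → u = 1 := by
    rintro _ ⟨v, rfl⟩ h
    have h' : z (z v) * z v = z v * v := by
      have : z (z v * v) = z v * v := h
      rwa [map_mul] at this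
    have h2 : z (z v) = v := by
      have := congrArg (· * z v) h'
      simpa [mul_assoc, ← sq, he, mul_comm (z v) v, mul_left_comm] using this
    have h3 : z v = v := by
      have := DFunLike.congr_fun hz3 v
      rw [show (z ^ 3) v = z (z (z v)) from rfl, h2] at this
      simpa using this
    show z v * v = 1
    rw [h3, ← sq, he]
  have hgU : ∀ u ∈ f.range, g u ∈ f.range := by
    rintro _ ⟨v, rfl⟩
    refine ⟨g v, ?_⟩
    show z (g v) * g v = g (z v * v)
    rw [map_mul, ← MulAut.mul_apply, ← MulAut.mul_apply, hzdef, ← pow_succ, ← pow_succ']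
  have hUne : f.range ≠ ⊥ := by
    intro h
    apply hz
    ext v
    have h1 : z v * v = 1 := mem_bot.1 (h.le ⟨v, rfl⟩)
    rw [mul_eq_one_iff_eq_inv, hinv] at h1
    exact h1
  have hpowU : ∀ (i : ℕ), ∀ u ∈ f.range, (g ^ i) u ∈ f.range := by
    intro i
    induction i with
    | zero => intro u hu; simpa using hu
    | succ i ih => intro u hu; rw [pow_succ', MulAut.mul_apply]; exact hgU _ (ih u hu)
  let α := {u : f.range // u ≠ 1}
  let H : Subgroup (MulAut V) := zpowers g
  have hmemH : ∀ h : H, ∃ i : ℕ, g ^ i = h := fun h => mem_powers_iff_mem_zpowers.2 h.2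
  have hHU : ∀ (h : H), ∀ u ∈ f.range, (h : MulAut V) u ∈ f.range := by
    intro h u hu
    obtain ⟨i, hi⟩ := hmemH h
    rw [← hi]; exact hpowU i u hu
  letI : MulAction H α :=
    { smul := fun h u => ⟨⟨(h : MulAut V) (u.1 : V), hHU h _ u.1.2⟩, fun e => u.2 (Subtype.ext
        ((h : MulAut V).injective ((congrArg Subtype.val e).trans (map_one _).symm)))⟩
      one_smul := fun u => rfl
      mul_smul := fun a b u => rfl }
  have hord : orderOf g = 3 ^ (m + 2) := by
    haveI : Fact (Nat.Prime 3) := ⟨by norm_num⟩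
    exact orderOf_eq_prime_pow hz hg
  have horb : ∀ u : α, Nat.card (MulAction.orbit H u) = 3 ^ (m + 2) := by
    intro u
    have hstab : MulAction.stabilizer H u = ⊥ := by
      refine eq_bot_iff.2 fun h hh => ?_
      rw [mem_bot]
      by_contra hne
      obtain ⟨i, hi⟩ := hmemH h
      have hfix : (g ^ i) (u.1 : V) = (u.1 : V) := by
        have := congrArg (fun w : α => ((w.1 : f.range) : V)) hh
        rwa [hi]
      have hfixpow : ∀ j : ℕ, ((g ^ i) ^ j) (u.1 : V) = (u.1 : V) := by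
        intro j
        induction j with
        | zero => simp
        | succ j ih => rw [pow_succ, MulAut.mul_apply, hfix, ih]
      obtain ⟨a, ha, hao⟩ : ∃ a, a ≤ m + 2 ∧ orderOf (g ^ i) = 3 ^ a := (Nat.dvd_prime_pow (by norm_num)).1
        (hord ▸ orderOf_pow_dvd i)
      have ha0 : a ≠ 0 := by
        rintro rfl
        exact hne (Subtype.ext (by rw [← hi]; exact orderOf_eq_one_iff.1 (by simpa using hao)))
      have hzmem : z ∈ zpowers (g ^ i) := by
        haveI : Finite (MulAut V) := inferInstance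
        have hle : zpowers z ≤ zpowers (g ^ i) := by
          have hzc : Nat.card (zpowers z) = 3 := by
            rw [Nat.card_zpowers]
            haveI : Fact (Nat.Prime 3) := ⟨by norm_num⟩
            exact orderOf_eq_prime hz3 hz
          set T := zpowers ((g ^ i) ^ 3 ^ (a - 1))
          have hT : Nat.card T = 3 := by
            rw [Nat.card_zpowers, orderOf_pow_of_dvd (pow_pos (by norm_num) _).ne' (hao ▸ pow_dvd_pow 3 (Nat.sub_le a 1)),
              hao, Nat.pow_div (Nat.sub_le a 1) (by norm_num), show a - (a - 1) = 1 by omega, pow_one]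
          haveI : IsCyclic H := inferInstance
          have hTH : T ≤ H := zpowers_le.2 (pow_mem (pow_mem (mem_zpowers g) _) _)
          have hzH : zpowers z ≤ H := zpowers_le.2 (pow_mem (mem_zpowers g) _)
          rw [eq_of_card_eq_three hzH hTH hzc hT]
          exact zpowers_le.2 (pow_mem (mem_zpowers _) _)
        exact hle (mem_zpowers z)
      obtain ⟨j, hj⟩ := mem_powers_iff_mem_zpowers.2 hzmem
      exact u.2 (Subtype.ext (hzfree _ u.1.2 (by rw [← hj]; exact hfixpow j)))
    haveI := Fintype.ofFinite H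
    haveI := Fintype.ofFinite (MulAction.orbit H u)
    haveI := Fintype.ofFinite (MulAction.stabilizer H u)
    have h := MulAction.card_orbit_mul_card_stabilizer_eq_card_group H u
    rw [← Nat.card_zpowers g] at hord
    rw [← hord, Nat.card_eq_fintype_card (α := H), ← h, Nat.card_eq_fintype_card (α := MulAction.orbit H u), ← Nat.card_eq_fintype_card (α := MulAction.stabilizer H u), hstab,
      card_bot, mul_one]
  haveI := Fintype.ofFinite (MulAction.orbitRel.Quotient H α)
  have hdiv : 9 ∣ Nat.card α := by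
    rw [Nat.card_congr (MulAction.selfEquivSigmaOrbits H α), Nat.card_sigma]
    exact Finset.dvd_sum fun q _ => by
      rw [horb]
      exact (show (9 : ℕ) = 3 ^ 2 by norm_num) ▸ pow_dvd_pow 3 (by omega)
  obtain ⟨u, hu⟩ := (IsPGroup.iff_card (p := 2) (G := f.range)).1
    (IsPGroup.to_subgroup (IsPGroup.of_card hk) _)
  have hcardα : Nat.card α = 2 ^ u - 1 := by
    haveI := Fintype.ofFinite f.range
    rw [← hu, Nat.card_eq_fintype_card, Nat.card_eq_fintype_card, Fintype.card_subtype_compl, Fintype.card_subtype_eq]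
  have huk : u ≤ k := (Nat.pow_le_pow_iff_right Nat.one_lt_two).1 (hk ▸ hu ▸ card_le_card_group _)
  have hu1 : u ≠ 0 := fun e => hUne (card_eq_one.1 (by rw [hu, e, pow_zero]))
  rw [hcardα] at hdiv
  by_contra hlt
  push Not at hlt
  have hu5 : u ≤ 5 := by omega
  interval_cases u <;> first | omega | norm_num at hdiv

theorem main {X : Type*} [Group X] [Finite X] (d : X) (m : ℕ) (hd : orderOf d = 3 ^ (m + 2)) (P : Subgroup X)
    (hP : IsPGroup 2 P) (hdP : d ∈ normalizer (P : Set X))
    (hfaith : zpowers d ⊓ centralizer (P : Set X) = ⊥)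
    (hrank : ∀ V : Subgroup X, V ≤ P → IsMulCommutative V → Cfsg.PRankLE 2 2 V) : False := by
  classical
  haveI : Fact (Nat.Prime 2) := ⟨Nat.prime_two⟩
  set z := d ^ 3 ^ (m + 1) with hzdef
  have hz3 : orderOf z = 3 := by
    rw [hzdef, orderOf_pow_of_dvd (pow_pos (by norm_num) _).ne' (hd ▸ pow_dvd_pow 3 (by omega)), hd,
      Nat.pow_div (by omega) (by norm_num), show m + 2 - (m + 1) = 1 by omega, pow_one]
  let S : Set (Subgroup X) := {R | R ≤ P ∧ d ∈ normalizer (R : Set X) ∧ z ∉ centralizer (R : Set X)}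
  have hPS : P ∈ S := ⟨le_rfl, hdP, fun h => by
    have : z ∈ zpowers d ⊓ centralizer (P : Set X) := mem_inf.2 ⟨pow_mem (mem_zpowers d) _, h⟩
    rw [hfaith, mem_bot] at this
    rw [this, orderOf_one] at hz3; norm_num at hz3⟩
  obtain ⟨R, -, hR⟩ := (Set.toFinite S).exists_le_minimal hPS
  obtain ⟨hRP, hdR, hzR⟩ := hR.prop
  have hmin : ∀ R' : Subgroup X, R' ≤ R → d ∈ normalizer (R' : Set X) → z ∉ centralizer (R' : Set X) → R' = R :=
    fun R' h1 h2 h3 => le_antisymm h1 (hR.le_of_le ⟨h1.trans hRP, h2, h3⟩ h1)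
  have hRp : IsPGroup 2 R := hP.to_le hRP
  set Z := zpowers z with hZ
  have hzR' : Z ≤ normalizer (R : Set X) := zpowers_le.2 (pow_mem hdR _)
  have hZc : Nat.card Z = 3 := by rw [Nat.card_zpowers, hz3]
  obtain ⟨rc, hrc⟩ := IsPGroup.iff_card.1 hRp
  have hcop : ∀ R' : Subgroup X, R' ≤ R → (Nat.card Z).Coprime (Nat.card R') := fun R' h =>
    Nat.Coprime.coprime_dvd_right (card_dvd_of_le h) (by rw [hZc, hrc]; exact Nat.Coprime.pow_right _ (by norm_num))
  have hsolv : Group.IsSolvable Z := inferInstance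
  have hcomm_bot : ∀ {R' : Subgroup X}, ⁅R', Z⁆ = ⊥ ↔ z ∈ centralizer (R' : Set X) := by
    intro R'
    rw [commutator_eq_bot_iff_le_centralizer, Subgroup.le_centralizer_iff, hZ, zpowers_le]
  -- `R = [R, z]`
  have hRZ : ⁅R, Z⁆ = R := by
    refine hmin _ (Cfsg.Lib.Coprime.commutator_le_of_le_normalizer hzR') ?_ fun h => hzR ?_
    · rw [Cfsg.Lib.Core.mem_normalizer_iff_map_conj, Subgroup.map_commutator,
        Cfsg.Lib.Core.map_conj_eq_of_mem_normalizer hdR, hZ, MonoidHom.map_zpowers,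
        show (MulAut.conj d).toMonoidHom z = z from by
          show d * z * d⁻¹ = z
          rw [hzdef, (Commute.self_pow d _).eq, mul_inv_cancel_right]]
    · exact hcomm_bot.1 (Cfsg.Lib.Coprime.commutator_eq_bot_of_commutator_commutator_eq_bot hzR' (hcop R le_rfl)
        (Or.inl hsolv) (hcomm_bot.2 h))
  set F := (frattini R).map R.subtype with hF
  have hFle : F ≤ R := map_subtype_le _
  have hdF : d ∈ normalizer (F : Set X) := by
    have hRd := Cfsg.Lib.Core.map_conj_eq_of_mem_normalizer hdR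
    let θ : MulAut R := (MulEquiv.subgroupMap (MulAut.conj d) R).trans (MulEquiv.subgroupCongr hRd)
    rw [Cfsg.Lib.Core.mem_normalizer_iff_map_conj, hF, Subgroup.map_map,
      show (MulAut.conj d).toMonoidHom.comp R.subtype = R.subtype.comp θ.toMonoidHom from rfl, ← Subgroup.map_map,
      characteristic_iff_map_eq.1 inferInstance θ]
  haveI : Nontrivial R := (Subgroup.nontrivial_iff_ne_bot R).2 fun h => hzR (by
    rw [h]; exact mem_centralizer_iff.2 fun x hx => by rw [mem_bot.1 hx, one_mul, mul_one])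
  have hFz : z ∈ centralizer (F : Set X) := by
    by_contra h
    have := hmin F hFle hdF h
    exact Cfsg.Lib.PGroup.frattini_ne_top (Subgroup.map_injective R.subtype_injective (by
      rw [← hF, this, ← MonoidHom.range_eq_map, range_subtype]) : frattini R = ⊤)
  have hFR : ⁅R, F⁆ = ⊥ := by
    have h1 : ⁅⁅Z, F⁆, R⁆ = ⊥ := by
      rw [commutator_comm Z F, hcomm_bot.2 hFz, commutator_bot_left]
    have h2 : ⁅⁅F, R⁆, Z⁆ = ⊥ := by
      refine eq_bot_iff.2 ((commutator_mono ?_ le_rfl).trans (hcomm_bot.2 hFz).le)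
      rw [hF, commutator_comm]
      nth_rw 1 [show R = (⊤ : Subgroup R).map R.subtype by rw [← MonoidHom.range_eq_map, range_subtype]]
      rw [← Subgroup.map_commutator]
      exact map_mono (commutator_le_right _ _)
    have := commutator_commutator_eq_bot_of_rotate h1 h2
    rwa [hRZ] at this
  have hFc : frattini R ≤ center R := fun w hw => mem_center_iff.2 fun y => Subtype.ext (by
    exact commutatorElement_eq_one_iff_mul_comm.1 (mem_bot.1 (hFR ▸ commutator_mem_commutator y.2 (⟨w, hw, rfl⟩ : (w : X) ∈ F))))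
  have hcz : commutator R ≤ center R := (Cfsg.Lib.PGroup.commutator_le_frattini (p := 2) hRp).trans hFc
  -- exponent four
  have hcsq : ∀ a b : R, ⁅a, b⁆ ^ 2 = 1 := fun a b => by
    rw [← Cfsg.Lib.PGroup.commutatorElement_pow_left hcz, commutatorElement_eq_one_iff_mul_comm]
    exact (mem_center_iff.1 (hFc (Cfsg.Lib.PGroup.pow_mem_frattini (p := 2) hRp a)) b).symm
  let R4 : Subgroup R :=
    { carrier := {a | a ^ 4 = 1}
      one_mem' := one_pow _
      mul_mem' := fun {a b} (ha : a ^ 4 = 1) (hb : b ^ 4 = 1) => by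
        show (a * b) ^ 4 = 1
        rw [Cfsg.Lib.PGroup.mul_pow_of_class_two hcz, ha, hb, show Nat.choose 4 2 = 2 * 3 from rfl, pow_mul, hcsq]
        simp
      inv_mem' := fun {a} (ha : a ^ 4 = 1) => show a⁻¹ ^ 4 = 1 by rw [inv_pow, ha, inv_one] }
  have hR4top : R4.map R.subtype = R := by
    refine hmin _ (map_subtype_le _) ?_ fun h => hzR ?_
    · refine mem_normalizer_iff.2 fun y => ?_
      have key : ∀ g : X, g ∈ normalizer (R : Set X) → ∀ y ∈ R4.map R.subtype, g * y * g⁻¹ ∈ R4.map R.subtype := by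
        rintro g hg _ ⟨y, hy, rfl⟩
        refine ⟨⟨g * y * g⁻¹, (mem_normalizer_iff.1 hg _).1 y.2⟩, Subtype.ext ?_, rfl⟩
        show (g * (y : X) * g⁻¹) ^ 4 = 1
        rw [conj_pow, show (y : X) ^ 4 = 1 from congrArg Subtype.val (hy : y ^ 4 = 1), mul_one, mul_inv_cancel]
      exact ⟨key d hdR y, fun h => by
        have := key d⁻¹ (inv_mem hdR) _ h
        rwa [show d⁻¹ * (d * y * d⁻¹) * d⁻¹⁻¹ = y by group] at this⟩
    · refine Cfsg.Lib.Thompson.le_centralizer_of_centralizes_small Z R hRp hzR' (hcop R le_rfl) ?_ (mem_zpowers z)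
      intro x hx hxo a ha
      have hx4 : x ^ 4 = 1 := by
        rcases hxo with h2 | ⟨-, h4⟩
        · rw [show (4 : ℕ) = 2 * 2 from rfl, pow_mul, h2, one_pow]
        · exact h4
      obtain ⟨i, rfl⟩ := mem_zpowers_iff.1 ha
      have hc : Commute z x := (mem_centralizer_iff.1 h x ⟨⟨x, hx⟩, Subtype.ext hx4, rfl⟩).symm
      exact (hc.zpow_left i).eq
  have he4 : ∀ a : R, a ^ 4 = 1 := fun a => by
    obtain ⟨b, hb, hba⟩ := hR4top.ge a.2
    rwa [← Subtype.ext hba]
  have hFe : ∀ w ∈ frattini R, w ^ 2 = 1 := by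
    let N : Subgroup R :=
      { carrier := {w | w ∈ center R ∧ w ^ 2 = 1}
        one_mem' := ⟨one_mem _, one_pow _⟩
        mul_mem' := fun {a b} ha hb => ⟨mul_mem ha.1 hb.1, by
          rw [(show Commute a b from (mem_center_iff.1 ha.1 b).symm).mul_pow, ha.2, hb.2, one_mul]⟩
        inv_mem' := fun {a} ha => ⟨inv_mem ha.1, by rw [inv_pow, ha.2, inv_one]⟩ }
    intro w hw
    refine (Cfsg.Lib.PGroup.frattini_le_of_commutator_le_of_pow_mem (N := N) (p := 2) ?_ (fun g => ⟨?_, ?_⟩) hw).2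
    · rw [_root_.commutator_def]
      exact commutator_le.2 fun a _ b _ => ⟨hcz (commutator_mem_commutator (mem_top a) (mem_top b)), hcsq a b⟩
    · exact hFc (Cfsg.Lib.PGroup.pow_mem_frattini (p := 2) hRp g)
    · rw [← pow_mul]; exact he4 g
  obtain ⟨hl, hdim⟩ := Cfsg.Lib.PGroup.RankBound.card_frattini_data hRp hFc hFe
  generalize hkk : Cfsg.pRank 2 (R ⧸ frattini R) = k at hdim
  generalize hll : Cfsg.pRank 2 (frattini R) = l at hl hdim
  haveI := hRp.isNilpotent
  have hbound := Cfsg.Agent.S4054.result (P := R) hRp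
    (Subgroup.lowerCentralSeries_eq_bot_iff_nilpotencyClass_le.1 (by
      rw [Subgroup.lowerCentralSeries_succ, Subgroup.top_lowerCentralSeries_one]
      exact Subgroup.commutator_top_right_eq_bot_iff_le_center.mpr hcz))
    (Monoid.exponent_dvd_iff_forall_pow_eq_one.2 he4)
  rw [hkk, hll] at hbound
  have hR2 : Cfsg.pRank 2 R ≤ 2 := by
    refine csSup_le ⟨0, ⊥, inferInstance, fun a ha => by rw [mem_bot.1 ha, one_pow], by simp⟩ ?_
    rintro j ⟨A, hA, hAe, hAc⟩
    have h := hrank (A.map R.subtype) ((map_subtype_le _).trans hRP)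
      (Subgroup.map_isMulCommutative A R.subtype) ⊤
      (by haveI := Subgroup.map_isMulCommutative A R.subtype; exact ⟨⟨fun a b => Subtype.ext (mul_comm' _ _)⟩⟩) ?_
    · rw [card_top, card_map_of_injective R.subtype_injective] at h
      exact (Nat.pow_le_pow_iff_right Nat.one_lt_two).1 (hAc.trans h)
    · rintro ⟨_, a, ha, rfl⟩ -
      exact Subtype.ext (congrArg Subtype.val (hAe a ha) :)
  have hl2 : l ≤ 2 := by
    have h : l ≤ Cfsg.pRank 2 R := Cfsg.Lib.PGroup.RankBound.le_pRank
      ⟨frattini R, ⟨⟨fun a b => Subtype.ext (mem_center_iff.1 (hFc b.2) a)⟩⟩, hFe, hl.ge⟩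
    omega
  have hk5 : k ≤ 5 := by
    interval_cases l <;> omega
  have hVcard : Nat.card (R ⧸ frattini R) = 2 ^ k := by
    have h := card_eq_card_quotient_mul_card_subgroup (frattini R)
    rw [hdim, hl, pow_add] at h
    exact (Nat.eq_of_mul_eq_mul_right (pow_pos Nat.two_pos l) h).symm
  -- the action on the Frattini quotient
  have hRd := Cfsg.Lib.Core.map_conj_eq_of_mem_normalizer hdR
  let θ : MulAut R := (MulEquiv.subgroupMap (MulAut.conj d) R).trans (MulEquiv.subgroupCongr hRd)
  let g : MulAut (R ⧸ frattini R) := QuotientGroup.congr _ _ θ (characteristic_iff_map_eq.1 inferInstance θ)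
  have hgpow : ∀ (i : ℕ) (y : R), ∃ h : d ^ i * (y : X) * (d ^ i)⁻¹ ∈ R,
      (g ^ i) (y : R ⧸ frattini R) = ((⟨_, h⟩ : R) : R ⧸ frattini R) := by
    intro i
    induction i with
    | zero => intro y; exact ⟨by simp, congrArg (QuotientGroup.mk (s := frattini R)) (Subtype.ext (by simp))⟩
    | succ i ih =>
      intro y
      obtain ⟨h, hy⟩ := ih y
      refine ⟨(mem_normalizer_iff.1 (pow_mem hdR _) _).1 y.2, ?_⟩
      rw [pow_succ', MulAut.mul_apply, hy]
      show ((θ ⟨_, h⟩ : R) : R ⧸ frattini R) = _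
      refine congrArg (QuotientGroup.mk (s := frattini R)) (Subtype.ext ?_)
      show d * (d ^ i * (y : X) * (d ^ i)⁻¹) * d⁻¹ = d ^ (i + 1) * (y : X) * (d ^ (i + 1))⁻¹
      rw [pow_succ']; group
  have hg1 : g ^ 3 ^ (m + 2) = 1 := by
    ext q
    obtain ⟨y, rfl⟩ := QuotientGroup.mk_surjective q
    obtain ⟨h, hy⟩ := hgpow (3 ^ (m + 2)) y
    rw [hy, MulAut.one_apply]
    refine congrArg (QuotientGroup.mk (s := frattini R)) (Subtype.ext ?_)
    show d ^ 3 ^ (m + 2) * (y : X) * (d ^ 3 ^ (m + 2))⁻¹ = y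
    rw [← hd, pow_orderOf_eq_one]; simp
  have hgz : g ^ 3 ^ (m + 1) ≠ 1 := by
    intro e
    refine hzR (Cfsg.Lib.Coprime.le_centralizer_of_commutator_le_frattini hzR' (hcop R le_rfl) (Or.inl hsolv) ?_
      (mem_zpowers z))
    have h1 : ∀ y : R, ⁅(y : X), z⁆ ∈ F := by
      intro y
      obtain ⟨h, hy⟩ := hgpow (3 ^ (m + 1)) y
      rw [e, MulAut.one_apply] at hy
      have h1 := QuotientGroup.eq.1 hy.symm
      have h2 : z * (y : X)⁻¹ * z⁻¹ * (y : X) ∈ F := ⟨_, h1, by
        show (d ^ 3 ^ (m + 1) * (y : X) * (d ^ 3 ^ (m + 1))⁻¹)⁻¹ * (y : X) = _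
        rw [hzdef]; group⟩
      have h3 := inv_mem h2
      rw [show (z * (y : X)⁻¹ * z⁻¹ * (y : X))⁻¹ = (y : X)⁻¹ * (z * y * z⁻¹) by group] at h3
      -- conjugate by `y`
      have hyF : (y : X) * ((y : X)⁻¹ * (z * y * z⁻¹)) * (y : X)⁻¹ = (y : X)⁻¹ * (z * y * z⁻¹) := by
        have := commutatorElement_eq_one_iff_mul_comm.1 (mem_bot.1 (hFR ▸ commutator_mem_commutator y.2 h3))
        rw [this, mul_inv_cancel_right]
      have h4 : z * (y : X) * z⁻¹ * (y : X)⁻¹ ∈ F := by
        rw [show z * (y : X) * z⁻¹ * (y : X)⁻¹ = (y : X) * ((y : X)⁻¹ * (z * y * z⁻¹)) * (y : X)⁻¹ by group, hyF]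
        exact h3
      rw [← commutatorElement_inv]
      exact inv_mem h4
    refine commutator_le.2 fun y hy a ha => ?_
    obtain ⟨i, rfl⟩ := mem_powers_iff_mem_zpowers.2 ha
    clear ha
    induction i with
    | zero => simp
    | succ i ih =>
      dsimp only at ih ⊢
      have hyi : z ^ i * y * (z ^ i)⁻¹ ∈ R := (mem_normalizer_iff.1 (pow_mem (hzR' (mem_zpowers z)) i) y).1 hy
      have h1' := h1 ⟨y, hy⟩
      have hc : z ^ i * ⁅y, z⁆ * (z ^ i)⁻¹ = ⁅y, z⁆ := by
        have hcm : Commute z ⁅y, z⁆ := (mem_centralizer_iff.1 hFz _ h1').symm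
        rw [(hcm.pow_left i).eq, mul_inv_cancel_right]
      rw [show ⁅y, z ^ (i + 1)⁆ = ⁅y, z ^ i⁆ * (z ^ i * ⁅y, z⁆ * (z ^ i)⁻¹) by
        simp only [commutatorElement_def, pow_succ]; group, hc]
      exact mul_mem ih h1'
  obtain ⟨hQc, hQe⟩ := Cfsg.Lib.PGroup.isElementaryAbelian_quotient_frattini (p := 2) hRp
  have := nine_le g hg1 hgz (fun a b => congrArg Subtype.val (hQc.is_comm.comm ⟨a, mem_top a⟩ ⟨b, mem_top b⟩))
    (fun a => hQe a (mem_top a)) hVcard
  omega


/-- Let d be a non-identity 3-element of a finite group and P a 2-subgroup normalized by d on which ⟨d⟩ acts faithfully (no non-identity power of d centralizes P) and without non-identity fixed points (C_P(d) = 1). If every abelian subgroup of P has 2-rank at most 2, then d has order 3. -/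
theorem result {X : Type*} [Group X] [Finite X] (d : X) (n : ℕ) (hn : 1 ≤ n) (hd : orderOf d = 3 ^ n) (P : Subgroup X) (hP : IsPGroup 2 P) (hdP : d ∈ Subgroup.normalizer (P : Set X)) (hfaith : Subgroup.zpowers d ⊓ Subgroup.centralizer (P : Set X) = ⊥) (hfpf : P ⊓ Subgroup.centralizer {d} = ⊥) (hrank : ∀ V : Subgroup X, V ≤ P → IsMulCommutative V → Cfsg.PRankLE 2 2 V) : orderOf d = 3 := by
  by_contra hne
  obtain ⟨m, rfl⟩ : ∃ m, n = m + 2 := ⟨n - 2, by
    rcases n with _ | _ | n
    · omega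
    · exact absurd (by simpa using hd) hne
    · omega⟩
  exact main d m hd P hP hdP hfaith hrank

end Cfsg.Agent.S3738
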