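import Cfsg.Statements.S3739
import Cfsg.Agent.Lib.PGroup.RankBound
import Cfsg.Agent.Lib.Thompson.Omega
import Cfsg.Agent.Lib.Core.Cores
-- import your own Cfsg.Agent.* helpers here

set_option autoImplicit false
open Cfsg

namespace Cfsg.Agent.S3739

open scoped commutatorElement
open Subgroup

variable {G : Type*} [Group G] [Finite G]

theorem fixed_mod_three (e : G) (he : e ^ 3 = 1) (S : Set G) (hS : ∀ x ∈ S, e * x * e⁻¹ ∈ S) :
    S.ncard ≡ {x ∈ S | e * x = x * e}.ncard [MOD 3] := by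
  haveI : Fact (Nat.Prime 3) := ⟨Nat.prime_three⟩
  haveI : Finite (ConjAct G) := inferInstanceAs (Finite G)
  let T : SubMulAction (zpowers (ConjAct.toConjAct e)) G :=
    { carrier := S
      smul_mem' := by
        rintro ⟨c, hc⟩ x hx
        obtain ⟨k, rfl⟩ := Submonoid.mem_powers_iff _ _ |>.mp (mem_powers_iff_mem_zpowers.mpr hc)
        show ConjAct.toConjAct e ^ k • x ∈ S
        induction k with
        | zero => simpa using hx
        | succ k ih =>
          rw [pow_succ', mul_smul, ConjAct.smul_def, ConjAct.ofConjAct_toConjAct]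
          exact hS _ (ih (pow_mem (mem_zpowers _) k)) }
  have hP : IsPGroup 3 (zpowers (ConjAct.toConjAct e)) := fun g => ⟨1, by
    obtain ⟨k, hk⟩ := g.2
    apply Subtype.ext
    rw [pow_one, coe_pow, ← hk, OneMemClass.coe_one, ← zpow_natCast, ← zpow_mul, mul_comm, zpow_mul,
      zpow_natCast, ← map_pow, he, map_one, one_zpow]⟩
  have h := hP.card_modEq_card_fixedPoints T
  have h1 : Nat.card T = S.ncard := Nat.card_coe_set_eq S
  have h2 : Nat.card (MulAction.fixedPoints (zpowers (ConjAct.toConjAct e)) T) = {x ∈ S | e * x = x * e}.ncard := by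
    rw [← Nat.card_coe_set_eq {x ∈ S | e * x = x * e}]
    refine Nat.card_congr ⟨fun t => ⟨(t.1 : G), t.1.2, ?_⟩, fun x => ⟨⟨(x : G), x.2.1⟩, ?_⟩, fun t => rfl, fun x => rfl⟩
    · have := congrArg Subtype.val (t.2 ⟨_, mem_zpowers _⟩)
      exact mul_inv_eq_iff_eq_mul.mp this
    · rintro ⟨c, hc⟩
      have hstab : zpowers (ConjAct.toConjAct e) ≤ MulAction.stabilizer (ConjAct G) (x : G) :=
        zpowers_le.mpr (mul_inv_eq_iff_eq_mul.mpr x.2.2)
      exact Subtype.ext (hstab hc)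
  rw [← h1, ← h2]
  exact h

/-- The subgroup of elements of `Q` central modulo `W` and squaring into `W`. -/
def upper (Q W : Subgroup G) (hWQ : ∀ w ∈ W, ∀ q ∈ Q, q * w = w * q) : Subgroup G where
  carrier := {u | u ∈ Q ∧ u ^ 2 ∈ W ∧ ∀ q ∈ Q, ⁅u, q⁆ ∈ W}
  one_mem' := ⟨one_mem Q, by rw [one_pow]; exact one_mem W, fun q _ => by rw [commutatorElement_one_left]; exact one_mem W⟩
  mul_mem' := by
    rintro u v ⟨hu, hu2, huc⟩ ⟨hv, hv2, hvc⟩
    refine ⟨mul_mem hu hv, ?_, fun q hq => ?_⟩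
    · have e : (u * v) ^ 2 = ⁅v, u⁆ * (u ^ 2 * v ^ 2) := by
        have hc := hWQ _ (hvc u hu) u hu
        calc (u * v) ^ 2 = u * (v * u) * v := by simp only [pow_two, mul_assoc]
          _ = u * ⁅v, u⁆ * (u * v * v) := by rw [commutatorElement_def]; group
          _ = _ := by rw [hc]; simp only [pow_two, mul_assoc]
      rw [e]
      exact mul_mem (hvc u hu) (mul_mem hu2 hv2)
    · rw [commutatorElement_mul_left_eq_conj_mul, hWQ _ (hvc q hq) u hu, mul_inv_cancel_right]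
      exact mul_mem (hvc q hq) (huc q hq)
  inv_mem' := by
    rintro u ⟨hu, hu2, huc⟩
    refine ⟨inv_mem hu, by rw [inv_pow]; exact inv_mem hu2, fun q hq => ?_⟩
    have h := commutatorElement_mul_left_eq_conj_mul u⁻¹ u q
    rw [inv_mul_cancel, commutatorElement_one_left, hWQ _ (huc q hq) u⁻¹ (inv_mem hu), mul_inv_cancel_right] at h
    rw [eq_inv_of_mul_eq_one_right h.symm]
    exact inv_mem (huc q hq)

theorem mem_upper {Q W : Subgroup G} (hWQ : ∀ w ∈ W, ∀ q ∈ Q, q * w = w * q) {u : G} :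
    u ∈ upper Q W hWQ ↔ u ∈ Q ∧ u ^ 2 ∈ W ∧ ∀ q ∈ Q, ⁅u, q⁆ ∈ W := Iff.rfl

theorem card_upper_le (Q W : Subgroup G) (hQ : IsPGroup 2 Q) (hWQ : ∀ w ∈ W, ∀ q ∈ Q, q * w = w * q)
    (hWle : W ≤ Q) (hW2 : ∀ w ∈ W, w ^ 2 = 1) (hW4 : Nat.card W = 4)
    (hinv : ∀ q ∈ Q, q ^ 2 = 1 → q ∈ W) : Nat.card (upper Q W hWQ) ≤ 64 := by
  classical
  set U := upper Q W hWQ with hU
  set W0 := W.subgroupOf U with hW0
  have hWU : W ≤ U := fun w hw => ⟨hWle hw, by rw [hW2 w hw]; exact one_mem W, fun q hq => by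
    rw [commutatorElement_eq_one_iff_mul_comm.mpr (hWQ w hw q hq).symm]; exact one_mem W⟩
  haveI : W0.Normal := ⟨fun n hn g => by
    show ((g : G) * n * (g : G)⁻¹) ∈ W
    rw [hWQ (n : G) hn _ g.2.1, mul_inv_cancel_right]
    exact hn⟩
  have hWc : ∀ a b : W, a * b = b * a := fun a b => Subtype.ext (hWQ b b.2 a (hWle a.2))
  obtain ⟨co, hcoi, hcoadd⟩ := Cfsg.Lib.PGroup.RankBound.exists_coord hWc (fun a => Subtype.ext (hW2 a a.2))
    (l := 2) (by rw [hW4]; norm_num)
  have hco0 : co 1 = 0 := by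
    have := hcoadd 1 1
    rwa [mul_one, left_eq_add] at this
  let sq : U → W := fun u => ⟨(u : G) ^ 2, u.2.2.1⟩
  let cm' : U → U → W := fun u v => ⟨⁅(v : G), (u : G)⁆, v.2.2.2 u u.2.1⟩
  have sq_mul : ∀ u v : U, sq (u * v) = sq u * sq v * cm' u v := by
    intro u v
    apply Subtype.ext
    show ((u : G) * v) ^ 2 = (u : G) ^ 2 * (v : G) ^ 2 * ⁅(v : G), (u : G)⁆
    have hc : ∀ q ∈ Q, q * ⁅(v : G), (u : G)⁆ = ⁅(v : G), (u : G)⁆ * q := hWQ _ (v.2.2.2 u u.2.1)
    rw [hc _ (mul_mem (pow_mem u.2.1 2) (pow_mem v.2.1 2))]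
    calc ((u : G) * v) ^ 2 = (u : G) * ((v : G) * u) * v := by simp only [pow_two, mul_assoc]
      _ = (u : G) * ⁅(v : G), (u : G)⁆ * ((u : G) * v * v) := by rw [commutatorElement_def]; group
      _ = _ := by rw [hc _ u.2.1]; simp only [pow_two, mul_assoc]
  have cm_left : ∀ u u' v : U, cm' (u * u') v = cm' u v * cm' u' v := by
    intro u u' v
    apply Subtype.ext
    show ⁅(v : G), (u : G) * u'⁆ = ⁅(v : G), (u : G)⁆ * ⁅(v : G), (u' : G)⁆
    rw [commutatorElement_mul_right_eq_mul_conj, mul_assoc _ (u : G), mul_assoc, hWQ _ (v.2.2.2 u' u'.2.1) u u.2.1, mul_inv_cancel_right]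
  have cm_right : ∀ u v v' : U, cm' u (v * v') = cm' u v * cm' u v' := by
    intro u v v'
    apply Subtype.ext
    show ⁅(v : G) * v', (u : G)⁆ = ⁅(v : G), (u : G)⁆ * ⁅(v' : G), (u : G)⁆
    rw [commutatorElement_mul_left_eq_conj_mul, hWQ _ (v'.2.2.2 u u.2.1) v v.2.1, mul_inv_cancel_right]
    exact congrArg Subtype.val (hWc ⟨_, v'.2.2.2 u u.2.1⟩ ⟨_, v.2.2.2 u u.2.1⟩)
  have sq_w : ∀ u : U, u ∈ W0 → sq u = 1 := fun u hu => Subtype.ext (hW2 _ hu)
  have cm_w : ∀ u v : U, v ∈ W0 → cm' u v = 1 := fun u v hv => Subtype.ext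
    (commutatorElement_eq_one_iff_mul_comm.mpr (hWQ _ hv u u.2.1).symm)
  have cm_w' : ∀ u v : U, u ∈ W0 → cm' u v = 1 := fun u v hu => Subtype.ext
    (commutatorElement_eq_one_iff_mul_comm.mpr (hWQ _ hu v v.2.1))
  have resp : ∀ a b : U, QuotientGroup.leftRel W0 a b → ∃ w ∈ W0, b = a * w := fun a b h =>
    ⟨a⁻¹ * b, QuotientGroup.leftRel_apply.mp h, by group⟩
  let g : U ⧸ W0 → Fin 2 → ZMod 2 := fun x => Quotient.liftOn' x (fun u => co (sq u)) fun a b h => by
    obtain ⟨w, hw, rfl⟩ := resp a b h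
    rw [sq_mul, sq_w w hw, cm_w a w hw, mul_one, mul_one]
  let B : U ⧸ W0 → U ⧸ W0 → Fin 2 → ZMod 2 := fun x y =>
    Quotient.liftOn₂' x y (fun u v => co (cm' u v)) fun a a' b b' h h' => by
      obtain ⟨w, hw, rfl⟩ := resp a b h
      obtain ⟨w', hw', rfl⟩ := resp a' b' h'
      rw [cm_left, cm_right, cm_w' w _ hw, cm_w a w' hw', mul_one, mul_one]
  have hexp : ∀ x : U ⧸ W0, x * x = 1 := by
    intro x
    obtain ⟨u, rfl⟩ := QuotientGroup.mk_surjective x
    rw [← QuotientGroup.mk_mul, QuotientGroup.eq_one_iff]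
    show ((u : G) * u) ∈ W
    rw [← pow_two]; exact u.2.2.1
  obtain ⟨D, hD⟩ := IsPGroup.iff_card.mp ((hQ.to_le (fun u hu => hu.1 : U ≤ Q)).to_quotient W0)
  have hbound := Cfsg.Lib.PGroup.RankBound.anisotropic_bound hexp hD g B
    (fun x y => by
      obtain ⟨u, rfl⟩ := QuotientGroup.mk_surjective x
      obtain ⟨v, rfl⟩ := QuotientGroup.mk_surjective y
      show co (sq (u * v)) = co (sq u) + co (sq v) + co (cm' u v)
      rw [sq_mul, hcoadd, hcoadd])
    (fun x y z => by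
      obtain ⟨u, rfl⟩ := QuotientGroup.mk_surjective x
      obtain ⟨v, rfl⟩ := QuotientGroup.mk_surjective y
      obtain ⟨t, rfl⟩ := QuotientGroup.mk_surjective z
      show co (cm' (u * v) t) = co (cm' u t) + co (cm' v t)
      rw [cm_left, hcoadd])
    (fun x y z => by
      obtain ⟨u, rfl⟩ := QuotientGroup.mk_surjective x
      obtain ⟨v, rfl⟩ := QuotientGroup.mk_surjective y
      obtain ⟨t, rfl⟩ := QuotientGroup.mk_surjective z
      show co (cm' u (v * t)) = co (cm' u v) + co (cm' u t)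
      rw [cm_right, hcoadd])
    (fun x => by
      obtain ⟨u, rfl⟩ := QuotientGroup.mk_surjective x
      show co (sq u) = 0 ↔ _
      rw [← hco0, hcoi.eq_iff, QuotientGroup.eq_one_iff]
      exact ⟨fun h => hinv _ u.2.1 (congrArg Subtype.val h), sq_w u⟩)
  have h0 : Nat.card W0 = 4 := by
    rw [hW0, Nat.card_congr (Subgroup.subgroupOfEquivOfLe hWU).toEquiv, hW4]
  rw [Subgroup.card_eq_card_quotient_mul_card_subgroup W0, hD, h0]
  calc 2 ^ D * 4 ≤ 2 ^ 4 * 4 := Nat.mul_le_mul_right _ (Nat.pow_le_pow_right (by norm_num) (by omega))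
    _ = 64 := by norm_num

theorem arith {n f m f1 f2 f3 : ℕ} (hn : ∃ a, n = 2 ^ a) (hm : ∃ b, m = 2 ^ b) (hn64 : n ≤ 64)
    (hnf : n = 4 + 3 * f) (hf : f ≠ 0) (hmf : m = 4 + f1 + f2 + f3) (hmn : m ≤ n)
    (e1 : f ≡ f1 [MOD 3]) (e2 : f ≡ f2 [MOD 3]) (e3 : f ≡ f3 [MOD 3])
    (k1 : f1 ≠ 0 → 4 ≤ f1) (k2 : f2 ≠ 0 → 4 ≤ f2) (k3 : f3 ≠ 0 → 4 ≤ f3) (hmod : n ≡ m [MOD 3]) : m = n := by
  obtain ⟨a, rfl⟩ := hn
  obtain ⟨b, rfl⟩ := hm
  have ha : a ≤ 6 := (Nat.pow_le_pow_iff_right (le_refl 2)).mp (by norm_num; omega)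
  have hb : b ≤ 6 := (Nat.pow_le_pow_iff_right (le_refl 2)).mp (by norm_num; omega)
  unfold Nat.ModEq at *
  interval_cases a <;> interval_cases b <;> omega

/-- Let G be a finite group with C_G(O₂(G)) ≤ O₂(G) containing an element of order 6, and let d be a non-identity 3-element of G normalizing a nontrivial elementary abelian 2-subgroup W with C_W(d) = 1. Then G has an elementary abelian subgroup of order 8. -/
theorem result {G : Type*} [Group G] [Finite G] (hchar : Subgroup.centralizer (Cfsg.pCore 2 G : Set G) ≤ Cfsg.pCore 2 G) (hsix : ∃ g : G, orderOf g = 6) (d : G) (hd1 : d ≠ 1) (hd : IsPGroup 3 ↥(Subgroup.zpowers d)) (W : Subgroup G) (hW : Cfsg.IsElementaryAbelian 2 W) (hW1 : W ≠ ⊥) (hdW : d ∈ Subgroup.normalizer (W : Set G)) (hfpf : W ⊓ Subgroup.centralizer {d} = ⊥) : ∃ E : Subgroup G, Cfsg.IsElementaryAbelian 2 E ∧ Nat.card E = 8 := by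
  classical
  haveI : Fact (Nat.Prime 2) := ⟨Nat.prime_two⟩
  haveI : Fact (Nat.Prime 3) := ⟨Nat.prime_three⟩
  by_contra hno
  simp only [not_exists, not_and] at hno
  obtain ⟨hWcomm, hWexp⟩ := hW
  have hWc : ∀ a ∈ W, ∀ b ∈ W, a * b = b * a := fun a ha b hb => congrArg Subtype.val (hWcomm.is_comm.comm ⟨a, ha⟩ ⟨b, hb⟩)
  have hW2 : ∀ w ∈ W, w ^ 2 = 1 := hWexp
  have hWp : IsPGroup 2 W := fun w => ⟨1, Subtype.ext (hW2 w w.2)⟩
  have fix1 : ∀ w ∈ W, d * w * d⁻¹ = w → w = 1 := fun w hw h => by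
    have : w ∈ W ⊓ Subgroup.centralizer {d} :=
      ⟨hw, Subgroup.mem_centralizer_singleton_iff.mpr (mul_inv_eq_iff_eq_mul.mp h).symm⟩
    rwa [hfpf, Subgroup.mem_bot] at this
  have dW : ∀ w ∈ W, d * w * d⁻¹ ∈ W := fun w hw => (Subgroup.mem_normalizer_iff.mp hdW w).mp hw
  have small : ∀ H : Subgroup G, IsMulCommutative H → (∀ h ∈ H, h ^ 2 = 1) → Nat.card H ≤ 4 := by
    intro H hHc hHe
    by_contra hlt
    obtain ⟨k, hk⟩ := IsPGroup.iff_card.mp (fun h => ⟨1, Subtype.ext (hHe h h.2)⟩ : IsPGroup 2 H)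
    have hk3 : 3 ≤ k := by
      by_contra hk3
      have := Nat.pow_le_pow_right (show 0 < 2 by norm_num) (show k ≤ 2 by omega)
      omega
    obtain ⟨K, hK⟩ := Sylow.exists_subgroup_card_pow_prime 2 (G := H) (n := 3) (hk ▸ pow_dvd_pow 2 hk3)
    refine hno (K.map H.subtype) ⟨?_, ?_⟩ (by rw [Subgroup.card_map_of_injective H.subtype_injective, hK]; norm_num)
    · exact ⟨⟨fun a b => Subtype.ext (by
        obtain ⟨a', -, ha'⟩ := a.2; obtain ⟨b', -, hb'⟩ := b.2
        show (a : G) * b = b * a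
        rw [← ha', ← hb']
        exact congrArg Subtype.val (hHc.is_comm.comm a' b'))⟩⟩
    · rintro _ ⟨h, -, rfl⟩; exact hHe h h.2
  have hW4 : Nat.card W = 4 := by
    obtain ⟨k, hk⟩ := IsPGroup.iff_card.mp hWp
    have h4 := small W hWcomm hW2
    have hk2 : k ≤ 2 := (Nat.pow_le_pow_iff_right (le_refl 2)).mp (by rw [← hk]; norm_num; omega)
    interval_cases k
    · exact absurd (Subgroup.card_eq_one.mp (by rw [hk]; rfl)) hW1
    · exfalso
      obtain ⟨w, hw, hw1⟩ := (Subgroup.ne_bot_iff_exists_ne_one.mp hW1 |> fun ⟨w, h⟩ => (⟨(w : G), w.2, fun e => h (Subtype.ext e)⟩ : ∃ w, w ∈ W ∧ w ≠ 1))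
      obtain ⟨z, hz, huniq⟩ := (Nat.card_eq_two_iff' (1 : W)).mp (by rw [hk]; rfl)
      have e1 := huniq ⟨w, hw⟩ (fun e => hw1 (congrArg Subtype.val e))
      have e2 := huniq ⟨_, dW w hw⟩ (fun e => hw1 (conj_eq_one_iff.mp (congrArg Subtype.val e)))
      exact hw1 (fix1 w hw (congrArg Subtype.val (e2.trans e1.symm)))
    · rw [hk]; norm_num
  -- every involution centralizing `W` lies in `W`
  have hCW : ∀ s : G, (∀ w ∈ W, s * w = w * s) → s ^ 2 = 1 → s ∈ W := by
    intro s hs hs2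
    set H := W ⊔ Subgroup.zpowers s with hH
    have hle : H = Subgroup.closure ((W : Set G) ∪ {s}) := by
      rw [hH, Subgroup.closure_union, Subgroup.closure_eq, Subgroup.zpowers_eq_closure]
    have hgen : ∀ a ∈ ((W : Set G) ∪ {s}), ∀ b ∈ ((W : Set G) ∪ {s}), a * b = b * a := by
      rintro a (ha | ha) b (hb | hb)
      · exact hWc a ha b hb
      · rw [Set.mem_singleton_iff.mp hb]; exact (hs a ha).symm
      · rw [Set.mem_singleton_iff.mp ha]; exact hs b hb
      · rw [Set.mem_singleton_iff.mp ha, Set.mem_singleton_iff.mp hb]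
    have hcomm : IsMulCommutative H := by
      rw [hle]; exact Subgroup.isMulCommutative_closure hgen
    have hexp : ∀ h ∈ H, h ^ 2 = 1 := by
      intro h hh
      rw [hle] at hh
      induction hh using Subgroup.closure_induction with
      | mem x hx =>
        rcases hx with hx | hx
        · exact hW2 x hx
        · rw [Set.mem_singleton_iff.mp hx]; exact hs2
      | one => exact one_pow 2
      | mul x y hx hy ihx ihy =>
        have : Commute x y := congrArg Subtype.val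
          (hcomm.is_comm.comm ⟨x, hle ▸ hx⟩ ⟨y, hle ▸ hy⟩)
        rw [this.mul_pow, ihx, ihy, one_mul]
      | inv x _ ih => rw [inv_pow, ih, inv_one]
    have := Subgroup.eq_of_le_of_card_ge (le_sup_left : W ≤ H) (by rw [hW4]; exact small H hcomm hexp)
    rw [this]
    exact (le_sup_right : Subgroup.zpowers s ≤ H) (Subgroup.mem_zpowers s)
  set Q := Cfsg.pCore 2 G with hQdef
  have hQ : IsPGroup 2 Q := Cfsg.Lib.Core.pCore_isPGroup 2 G
  have hQn : Q.Normal := inferInstance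
  have hd3 : ∃ k, orderOf d = 3 ^ k := by
    obtain ⟨k, hk⟩ := IsPGroup.iff_card.mp hd
    exact ⟨k, by rw [← Nat.card_zpowers]; exact hk⟩
  -- `d` permutes the involutions of `W` transitively
  have fix2 : ∀ w ∈ W, d * (d * w * d⁻¹) * d⁻¹ = w → w = 1 := by
    intro w hw h
    refine fix1 w hw ?_
    obtain ⟨k, hk⟩ := hd3
    have hco : Nat.Coprime 2 (orderOf d) := hk ▸ Nat.Coprime.pow_right k (by norm_num)
    have hm : d ∈ Subgroup.zpowers (d ^ 2) := mem_zpowers_pow_iff.mpr hco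
    have hc : d ^ 2 ∈ Subgroup.centralizer ({w} : Set G) := by
      rw [Subgroup.mem_centralizer_singleton_iff]
      calc d ^ 2 * w = d * (d * w * d⁻¹) * d⁻¹ * d ^ 2 := by simp only [pow_two]; group
        _ = w * d ^ 2 := by rw [h]
    have := Subgroup.zpowers_le.mpr hc hm
    rw [Subgroup.mem_centralizer_singleton_iff] at this
    exact mul_inv_eq_iff_eq_mul.mpr this
  have wcases : ∀ s ∈ W, s ≠ 1 → ∀ w ∈ W, w = 1 ∨ w = s ∨ w = d * s * d⁻¹ ∨ w = d * (d * s * d⁻¹) * d⁻¹ := by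
    intro s hs hs1 w hw
    set a : Fin 4 → W := ![1, ⟨s, hs⟩, ⟨_, dW s hs⟩, ⟨_, dW _ (dW s hs)⟩] with ha
    have n2 : d * s * d⁻¹ ≠ 1 := fun e => hs1 (conj_eq_one_iff.mp e)
    have n3 : d * (d * s * d⁻¹) * d⁻¹ ≠ 1 := fun e => n2 (conj_eq_one_iff.mp e)
    have n4 : d * s * d⁻¹ ≠ s := fun e => hs1 (fix1 s hs e)
    have n5 : d * (d * s * d⁻¹) * d⁻¹ ≠ s := fun e => hs1 (fix2 s hs e)
    have n6 : d * (d * s * d⁻¹) * d⁻¹ ≠ d * s * d⁻¹ := fun e => n2 (fix1 _ (dW s hs) e)
    have hinj : Function.Injective a := by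
      intro i j hij
      have hij' := congrArg Subtype.val hij
      fin_cases i <;> fin_cases j <;> first
        | rfl
        | exact absurd hij' hs1
        | exact absurd hij'.symm hs1
        | exact absurd hij' n2
        | exact absurd hij'.symm n2
        | exact absurd hij' n3
        | exact absurd hij'.symm n3
        | exact absurd hij' n4
        | exact absurd hij'.symm n4
        | exact absurd hij' n5
        | exact absurd hij'.symm n5
        | exact absurd hij' n6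
        | exact absurd hij'.symm n6
    obtain ⟨i, hi⟩ := ((Function.Injective.bijective_of_nat_card_le hinj (by rw [hW4, Nat.card_fin]))).2 ⟨w, hw⟩
    have hi' := congrArg Subtype.val hi
    fin_cases i
    · exact Or.inl hi'.symm
    · exact Or.inr (Or.inl hi'.symm)
    · exact Or.inr (Or.inr (Or.inl hi'.symm))
    · exact Or.inr (Or.inr (Or.inr hi'.symm))
  -- `W` is contained in the centre of `Q`
  have hQW : ∀ w ∈ W, ∀ q ∈ Q, q * w = w * q := by
    set S := Q ⊔ W with hS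
    have hSp : IsPGroup 2 S := IsPGroup.to_sup_of_normal_left hQ hWp
    haveI : Nontrivial S := S.nontrivial_iff_ne_bot.mpr (fun h => hW1 (le_bot_iff.mp (h ▸ le_sup_right)))
    haveI := hSp.center_nontrivial
    obtain ⟨k, hk⟩ := IsPGroup.iff_card.mp (hSp.to_subgroup (Subgroup.center S))
    have hk0 : k ≠ 0 := by
      rintro rfl
      have := Finite.one_lt_card (α := Subgroup.center S)
      rw [pow_zero] at hk; omega
    obtain ⟨z, hz⟩ := exists_prime_orderOf_dvd_card' (G := Subgroup.center S) 2 (hk ▸ dvd_pow_self 2 hk0)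
    set t : G := ((z : S) : G) with ht
    have htS : ∀ q ∈ S, q * t = t * q := fun q hq => congrArg Subtype.val (Subgroup.mem_center_iff.mp z.2 ⟨q, hq⟩)
    have ht2 : t ^ 2 = 1 := by
      have := pow_orderOf_eq_one z
      rw [hz] at this
      exact congrArg (fun y : Subgroup.center S => ((y : S) : G)) this
    have ht1 : t ≠ 1 := fun e => by
      have : z = 1 := Subtype.ext (Subtype.ext e)
      rw [this, orderOf_one] at hz; norm_num at hz
    have htW : t ∈ W := hCW t (fun w hw => (htS w ((le_sup_right : W ≤ S) hw)).symm) ht2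
    have hconj : ∀ t' : G, (∀ q ∈ S, q * t' = t' * q) → ∀ q ∈ S, q * (d * t' * d⁻¹) = d * t' * d⁻¹ * q := by
      intro t' h q hq
      have hq' : d⁻¹ * q * d ∈ S := by
        have hle : S.map (MulAut.conj d⁻¹).toMonoidHom ≤ S := by
          rw [hS, Subgroup.map_sup]
          refine sup_le_sup ?_ ?_
          · rintro _ ⟨x, hx, rfl⟩
            exact hQn.conj_mem x hx d⁻¹
          · rintro _ ⟨x, hx, rfl⟩
            exact (Subgroup.mem_normalizer_iff.mp (inv_mem hdW) x).mp hx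
        have := hle (Subgroup.mem_map_of_mem _ hq)
        simpa using this
      calc q * (d * t' * d⁻¹) = d * ((d⁻¹ * q * d) * t') * d⁻¹ := by group
        _ = d * (t' * (d⁻¹ * q * d)) * d⁻¹ := by rw [h _ hq']
        _ = _ := by group
    intro w hw q hq
    have hqS : q ∈ S := (le_sup_left : Q ≤ S) hq
    rcases wcases t htW ht1 w hw with rfl | rfl | rfl | rfl
    · rw [one_mul, mul_one]
    · exact htS q hqS
    · exact hconj t htS q hqS
    · exact hconj _ (hconj t htS) q hqS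
  have hWleQ : W ≤ Q := fun w hw => hchar (Subgroup.mem_centralizer_iff.mpr (hQW w hw))
  have hinv : ∀ q ∈ Q, q ^ 2 = 1 → q ∈ W := fun q hq h2 => hCW q (fun w hw => hQW w hw q hq) h2
  have hWn : ∀ (g : G), ∀ w ∈ W, g * w * g⁻¹ ∈ W := fun g w hw =>
    hinv _ (hQn.conj_mem w (hWleQ hw) g) (by rw [conj_pow, hW2 w hw, mul_one, mul_inv_cancel])
  obtain ⟨g, hg⟩ := hsix
  set e := g ^ 2 with he
  set t := g ^ 3 with ht
  have he3 : e ^ 3 = 1 := by rw [he, ← pow_mul]; exact orderOf_dvd_iff_pow_eq_one.mp (by rw [hg])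
  have he1 : e ≠ 1 := pow_ne_one_of_lt_orderOf (by norm_num) (by omega)
  have ht2 : t ^ 2 = 1 := by rw [ht, ← pow_mul]; exact orderOf_dvd_iff_pow_eq_one.mp (by rw [hg])
  have ht1 : t ≠ 1 := pow_ne_one_of_lt_orderOf (by norm_num) (by omega)
  have hte : Commute t e := Commute.pow_pow_self g 3 2
  have hoe : orderOf e = 3 := orderOf_eq_prime he3 he1
  -- `e` centralizes `W`
  have heW : ∀ w ∈ W, e * w = w * e := by
    by_contra hcon
    push Not at hcon
    obtain ⟨w0, hw0, hne0⟩ := hcon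
    have hmove : ∀ w ∈ W, w ≠ 1 → e * w * e⁻¹ ≠ w := by
      have hfix : {x ∈ (W : Set G) | e * x = x * e}.ncard ≡ 4 [MOD 3] := by
        have := (fixed_mod_three e he3 (W : Set G) (fun x hx => hWn e x hx)).symm
        rwa [← Nat.card_coe_set_eq (W : Set G), show Nat.card (W : Set G) = 4 from hW4] at this
      set C := W ⊓ Subgroup.centralizer ({e} : Set G) with hC
      have hCc : Nat.card C = {x ∈ (W : Set G) | e * x = x * e}.ncard := by
        rw [← Nat.card_coe_set_eq {x ∈ (W : Set G) | e * x = x * e}]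
        refine Nat.card_congr (Equiv.subtypeEquivRight fun x => ?_)
        show (x ∈ W ∧ x ∈ Subgroup.centralizer {e}) ↔ (x ∈ W ∧ e * x = x * e)
        rw [Subgroup.mem_centralizer_singleton_iff]
        exact and_congr_right fun _ => eq_comm
      rw [← hCc] at hfix
      have hd4 : Nat.card C ∣ 2 ^ 2 := by
        rw [show (2 : ℕ) ^ 2 = Nat.card W by rw [hW4]; norm_num]; exact Subgroup.card_dvd_of_le inf_le_left
      obtain ⟨i, hi, hieq⟩ := (Nat.dvd_prime_pow Nat.prime_two).mp hd4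
      rw [hieq] at hfix
      intro w hw hw1 heq
      have hwC : w ∈ C := ⟨hw, Subgroup.mem_centralizer_singleton_iff.mpr (mul_inv_eq_iff_eq_mul.mp heq).symm⟩
      interval_cases i
      · have : C = ⊥ := Subgroup.card_eq_one.mp (by rw [hieq]; rfl)
        rw [this] at hwC; exact hw1 (Subgroup.mem_bot.mp hwC)
      · exact absurd hfix (by decide)
      · have : C = W := Subgroup.eq_of_le_of_card_ge inf_le_left (by rw [hW4, hieq]; norm_num)
        have h0 : w0 ∈ C := this ▸ hw0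
        exact hne0 (Subgroup.mem_centralizer_singleton_iff.mp h0.2).symm
    -- then `t` centralizes `W`
    have htW : t ∈ W := by
      refine hCW t (fun w hw => ?_) ht2
      by_contra hcw
      have hw1 : w ≠ 1 := fun h => hcw (by rw [h, mul_one, one_mul])
      set w' := t * w * t⁻¹ with hw'
      have hw'W : w' ∈ W := hWn t w hw
      have hne : w' ≠ w := fun h => hcw (mul_inv_eq_iff_eq_mul.mp h)
      have htinv : t⁻¹ = t := inv_eq_of_mul_eq_one_right (by rw [← pow_two]; exact ht2)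
      have hfixprod : t * (w * w') * t⁻¹ = w * w' := by
        have : t * w' * t⁻¹ = w := by
          rw [hw', htinv]
          calc t * (t * w * t) * t = (t * t) * w * (t * t) := by group
            _ = w := by rw [← pow_two, ht2, one_mul, mul_one]
        calc t * (w * w') * t⁻¹ = (t * w * t⁻¹) * (t * w' * t⁻¹) := by group
          _ = w' * w := by rw [this]
          _ = _ := hWc _ hw'W _ hw
      have hprod1 : w * w' ≠ 1 := fun h => hne (by
        rw [eq_inv_of_mul_eq_one_right h]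
        exact inv_eq_of_mul_eq_one_right (by rw [← pow_two]; exact hW2 w hw))
      set v := w * w' with hv
      have hvW : v ∈ W := mul_mem hw hw'W
      -- `e v e⁻¹` is also fixed by `t`
      have hev : t * (e * v * e⁻¹) * t⁻¹ = e * v * e⁻¹ := by
        calc t * (e * v * e⁻¹) * t⁻¹ = (t * e) * v * (t * e)⁻¹ := by group
          _ = (e * t) * v * (e * t)⁻¹ := by rw [hte.eq]
          _ = e * (t * v * t⁻¹) * e⁻¹ := by group
          _ = _ := by rw [hfixprod]
      -- so `t` fixes at least three elements of `W`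
      set C := W ⊓ Subgroup.centralizer ({t} : Set G) with hC
      have m1 : v ∈ C := ⟨hvW, Subgroup.mem_centralizer_singleton_iff.mpr (mul_inv_eq_iff_eq_mul.mp hfixprod).symm⟩
      have m2 : e * v * e⁻¹ ∈ C := ⟨hWn e v hvW, Subgroup.mem_centralizer_singleton_iff.mpr (mul_inv_eq_iff_eq_mul.mp hev).symm⟩
      have hd4 : Nat.card C ∣ 2 ^ 2 := by
        rw [show (2 : ℕ) ^ 2 = Nat.card W by rw [hW4]; norm_num]; exact Subgroup.card_dvd_of_le inf_le_left
      obtain ⟨i, hi, hieq⟩ := (Nat.dvd_prime_pow Nat.prime_two).mp hd4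
      interval_cases i
      · have : C = ⊥ := Subgroup.card_eq_one.mp (by rw [hieq]; rfl)
        rw [this] at m1; exact hprod1 (Subgroup.mem_bot.mp m1)
      · obtain ⟨z, -, huniq⟩ := (Nat.card_eq_two_iff' (1 : C)).mp (by rw [hieq]; rfl)
        have e1 := huniq ⟨v, m1⟩ (fun h => hprod1 (congrArg Subtype.val h))
        have e2 := huniq ⟨_, m2⟩ (fun h => hprod1 (conj_eq_one_iff.mp (congrArg Subtype.val h)))
        exact hmove v hvW hprod1 (congrArg Subtype.val (e2.trans e1.symm))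
      · have : C = W := Subgroup.eq_of_le_of_card_ge inf_le_left (by rw [hW4, hieq]; norm_num)
        exact hcw (Subgroup.mem_centralizer_singleton_iff.mp (this ▸ hw : w ∈ C).2).symm
    exact hmove t htW ht1 (by rw [← hte.eq, mul_inv_cancel_right])
  -- the subgroup `U`
  set U := upper Q W hQW with hU
  have hWU : W ≤ U := fun w hw => ⟨hWleQ hw, by rw [hW2 w hw]; exact one_mem W, fun q hq => by
    rw [commutatorElement_eq_one_iff_mul_comm.mpr (hQW w hw q hq).symm]; exact one_mem W⟩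
  have hUn : ∀ (g : G), ∀ u ∈ U, g * u * g⁻¹ ∈ U := by
    rintro g u ⟨hu, hu2, huc⟩
    refine ⟨hQn.conj_mem u hu g, by rw [conj_pow]; exact hWn g _ hu2, fun q hq => ?_⟩
    have h1 := hWn g _ (huc (g⁻¹ * q * g) (by simpa using hQn.conj_mem q hq g⁻¹))
    convert h1 using 1
    simp only [commutatorElement_def]; group
  have hemove : ∃ q ∈ Q, e * q ≠ q * e := by
    by_contra h
    push Not at h
    have : e ∈ Q := hchar (Subgroup.mem_centralizer_iff.mpr fun q hq => (h q hq).symm)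
    obtain ⟨k, hk⟩ := hQ ⟨e, this⟩
    have h2 : e ^ 2 ^ k = 1 := congrArg Subtype.val hk
    have := (Nat.prime_dvd_prime_iff_eq Nat.prime_three Nat.prime_two).mp
      (Nat.prime_three.dvd_of_dvd_pow (hoe ▸ orderOf_dvd_of_pow_eq_one h2))
    omega
  -- an element of `U` outside `W`
  have hex : ∃ u ∈ U, u ∉ W := by
    set W0 := W.subgroupOf Q with hW0
    haveI : W0.Normal := ⟨fun n hn g => hWn g n hn⟩
    have hQp : IsPGroup 2 (Q ⧸ W0) := hQ.to_quotient W0
    haveI : Nontrivial (Q ⧸ W0) := by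
      rw [← not_subsingleton_iff_nontrivial, QuotientGroup.subsingleton_iff]
      intro h
      obtain ⟨q, hq, hne⟩ := hemove
      have : (⟨q, hq⟩ : Q) ∈ W0 := h ▸ Subgroup.mem_top _
      exact hne (heW q this)
    haveI := hQp.center_nontrivial
    obtain ⟨k, hk⟩ := IsPGroup.iff_card.mp (hQp.to_subgroup (Subgroup.center (Q ⧸ W0)))
    have hk0 : k ≠ 0 := by
      rintro rfl
      have := Finite.one_lt_card (α := Subgroup.center (Q ⧸ W0))
      rw [pow_zero] at hk; omega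
    obtain ⟨z, hz⟩ := exists_prime_orderOf_dvd_card' (G := Subgroup.center (Q ⧸ W0)) 2 (hk ▸ dvd_pow_self 2 hk0)
    obtain ⟨u, hu⟩ := QuotientGroup.mk_surjective (z : Q ⧸ W0)
    refine ⟨u, ⟨u.2, ?_, fun q hq => ?_⟩, fun h => ?_⟩
    · have h2 : ((u : Q ⧸ W0)) ^ 2 = 1 := by
        rw [hu, ← SubmonoidClass.coe_pow, ← hz, pow_orderOf_eq_one]; rfl
      rw [← QuotientGroup.mk_pow, QuotientGroup.eq_one_iff] at h2
      exact h2
    · have h2 : (QuotientGroup.mk' W0) ⁅u, (⟨q, hq⟩ : Q)⁆ = 1 := by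
        rw [map_commutatorElement, commutatorElement_eq_one_iff_mul_comm]
        show (u : Q ⧸ W0) * _ = _ * (u : Q ⧸ W0)
        rw [hu]; exact (Subgroup.mem_center_iff.mp z.2 _).symm
      have h3 := (QuotientGroup.eq_one_iff (N := W0) _).mp h2
      exact h3
    · have h1 : (u : Q ⧸ W0) = 1 := (QuotientGroup.eq_one_iff u).mpr h
      rw [hu] at h1
      rw [show z = 1 from Subtype.ext h1, orderOf_one] at hz; norm_num at hz
  obtain ⟨u0, hu0, hu0W⟩ := hex
  set s0 := u0 ^ 2 with hs0def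
  have hs0 : s0 ∈ W := hu0.2.1
  have hs01 : s0 ≠ 1 := fun h => hu0W (hinv u0 hu0.1 h)
  set F : G → Set G := fun s => {u | u ∈ U ∧ u ^ 2 = s} with hF
  have Feq : ∀ s, (F (d * s * d⁻¹)).ncard = (F s).ncard := by
    intro s
    rw [← Set.ncard_image_of_injective (F s) (MulAut.conj d).injective]
    congr 1
    ext x
    constructor
    · rintro ⟨hx, hx2⟩
      refine ⟨d⁻¹ * x * d, ⟨by simpa using hUn d⁻¹ x hx, ?_⟩, by simp [mul_assoc]⟩
      have : (d⁻¹ * x * d⁻¹⁻¹) ^ 2 = s := by rw [conj_pow, hx2]; group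
      simpa using this
    · rintro ⟨y, ⟨hy, hy2⟩, rfl⟩
      refine ⟨hUn d y hy, ?_⟩
      show (d * y * d⁻¹) ^ 2 = _
      rw [conj_pow, hy2]
  set s1 := d * s0 * d⁻¹ with hs1def
  set s2 := d * s1 * d⁻¹ with hs2def
  have hs1W : s1 ∈ W := dW _ hs0
  have hs2W : s2 ∈ W := dW _ hs1W
  have n1 : s1 ≠ 1 := fun h => hs01 (conj_eq_one_iff.mp h)
  have n2 : s2 ≠ 1 := fun h => n1 (conj_eq_one_iff.mp h)
  have d01 : s1 ≠ s0 := fun h => hs01 (fix1 _ hs0 h)
  have d02 : s2 ≠ s0 := fun h => hs01 (fix2 _ hs0 h)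
  have d12 : s2 ≠ s1 := fun h => n1 (fix1 _ hs1W h)
  set f := (F s0).ncard with hfdef
  have hf0 : f ≠ 0 := Set.ncard_ne_zero_of_mem (show u0 ∈ F s0 from ⟨hu0, rfl⟩) (Set.toFinite _)
  -- decomposition of invariant subsets of `U`
  have split : ∀ P : G → Prop, (∀ w ∈ W, P w) →
      {u | u ∈ U ∧ P u}.ncard = 4 + {u | u ∈ F s0 ∧ P u}.ncard + {u | u ∈ F s1 ∧ P u}.ncard
        + {u | u ∈ F s2 ∧ P u}.ncard := by
    intro P hP
    have e : {u | u ∈ U ∧ P u} = (((W : Set G) ∪ {u | u ∈ F s0 ∧ P u}) ∪ {u | u ∈ F s1 ∧ P u}) ∪ {u | u ∈ F s2 ∧ P u} := by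
      ext u
      constructor
      · rintro ⟨hu, hPu⟩
        rcases wcases s0 hs0 hs01 (u ^ 2) hu.2.1 with h | h | h | h
        · exact Or.inl (Or.inl (Or.inl (hinv u hu.1 h)))
        · exact Or.inl (Or.inl (Or.inr ⟨⟨hu, h⟩, hPu⟩))
        · exact Or.inl (Or.inr ⟨⟨hu, h⟩, hPu⟩)
        · exact Or.inr ⟨⟨hu, h⟩, hPu⟩
      · rintro (((h | ⟨⟨h, -⟩, hp⟩) | ⟨⟨h, -⟩, hp⟩) | ⟨⟨h, -⟩, hp⟩)
        · exact ⟨hWU h, hP u h⟩
        all_goals exact ⟨h, hp⟩
    rw [e, Set.ncard_union_eq ?_ (Set.toFinite _) (Set.toFinite _), Set.ncard_union_eq ?_ (Set.toFinite _) (Set.toFinite _),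
      Set.ncard_union_eq ?_ (Set.toFinite _) (Set.toFinite _), ← Nat.card_coe_set_eq (W : Set G),
      show Nat.card (W : Set G) = 4 from hW4]
    · rw [Set.disjoint_right]
      rintro u ⟨⟨-, h⟩, -⟩ hW'
      exact hs01 (h.symm.trans (hW2 u hW'))
    · rw [Set.disjoint_right]
      rintro u ⟨⟨-, h⟩, -⟩ (hW' | ⟨⟨-, h'⟩, -⟩)
      · exact n1 (h.symm.trans (hW2 u hW'))
      · exact d01 (h.symm.trans h')
    · rw [Set.disjoint_right]
      rintro u ⟨⟨-, h⟩, -⟩ ((hW' | ⟨⟨-, h'⟩, -⟩) | ⟨⟨-, h'⟩, -⟩)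
      · exact n2 (h.symm.trans (hW2 u hW'))
      · exact d02 (h.symm.trans h')
      · exact d12 (h.symm.trans h')
  have hUcard : Nat.card U = 4 + 3 * f := by
    have h := split (fun _ => True) (fun _ _ => trivial)
    have e : ∀ (S : Set G), {u | u ∈ S ∧ True}.ncard = S.ncard := fun S => congrArg Set.ncard (Set.ext fun u => and_iff_left trivial)
    have e1 : (F s1).ncard = f := Feq s0
    have e2 : (F s2).ncard = f := (Feq s1).trans e1
    rw [e (F s0), e (F s1), e (F s2), ← hfdef, e1, e2] at h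
    have e0 : {u | u ∈ U ∧ True}.ncard = (U : Set G).ncard := e (U : Set G)
    rw [e0] at h
    rw [show Nat.card U = (U : Set G).ncard from Nat.card_coe_set_eq (U : Set G)]
    rw [h]; omega
  set C := U ⊓ Subgroup.centralizer ({e} : Set G) with hC
  have hCcard : Nat.card C = 4 + {u | u ∈ F s0 ∧ e * u = u * e}.ncard + {u | u ∈ F s1 ∧ e * u = u * e}.ncard
      + {u | u ∈ F s2 ∧ e * u = u * e}.ncard := by
    rw [← split (fun u => e * u = u * e) heW, show Nat.card C = (C : Set G).ncard from Nat.card_coe_set_eq (C : Set G)]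
    congr 1
    ext u
    show (u ∈ U ∧ u ∈ Subgroup.centralizer {e}) ↔ (u ∈ U ∧ e * u = u * e)
    rw [Subgroup.mem_centralizer_singleton_iff]
    exact and_congr_right fun _ => eq_comm
  have hk : ∀ s, {u | u ∈ F s ∧ e * u = u * e}.ncard ≠ 0 → 4 ≤ {u | u ∈ F s ∧ e * u = u * e}.ncard := by
    intro s hne
    obtain ⟨u, ⟨⟨hu, hus⟩, heu⟩⟩ := Set.nonempty_of_ncard_ne_zero hne
    calc 4 = ((fun w => u * w) '' (W : Set G)).ncard := by
          rw [Set.ncard_image_of_injective _ (mul_right_injective u), ← Nat.card_coe_set_eq (W : Set G)]; exact hW4.symm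
      _ ≤ _ := Set.ncard_le_ncard ?_ (Set.toFinite _)
    rintro _ ⟨w, hw, rfl⟩
    refine ⟨⟨mul_mem hu (hWU hw), ?_⟩, ?_⟩
    · show (u * w) ^ 2 = s
      rw [(show Commute u w from hQW w hw u hu.1).mul_pow, hus, hW2 w hw, mul_one]
    · show e * (u * w) = u * w * e
      rw [← mul_assoc, heu, mul_assoc, heW w hw, mul_assoc]
  have hmods : ∀ s ∈ W, (F s).ncard ≡ {u | u ∈ F s ∧ e * u = u * e}.ncard [MOD 3] := by
    intro s hs
    refine fixed_mod_three e he3 (F s) ?_
    rintro x ⟨hx, hx2⟩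
    refine ⟨hUn e x hx, ?_⟩
    show (e * x * e⁻¹) ^ 2 = s
    rw [conj_pow, hx2, heW s hs, mul_inv_cancel_right]
  have hUQ : U ≤ Q := fun u hu => hu.1
  have hCU : C = U := by
    refine Subgroup.eq_of_le_of_card_ge inf_le_left (le_of_eq ?_)
    refine (arith (IsPGroup.iff_card.mp (hQ.to_le hUQ)) (IsPGroup.iff_card.mp (hQ.to_le (inf_le_left.trans hUQ)))
      (card_upper_le Q W hQ hQW hWleQ hW2 hW4 hinv) hUcard hf0 hCcard (Subgroup.card_le_of_le inf_le_left)
      (hmods s0 hs0) ?_ ?_ (hk s0) (hk s1) (hk s2) ?_).symm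
    · have := hmods s1 hs1W; rwa [hs1def, Feq] at this
    · have := hmods s2 hs2W; rwa [hs2def, Feq, hs1def, Feq] at this
    · have h := fixed_mod_three e he3 (U : Set G) (fun x hx => hUn e x hx)
      rw [← Nat.card_coe_set_eq (U : Set G)] at h
      refine h.trans ?_
      rw [show Nat.card C = (C : Set G).ncard from Nat.card_coe_set_eq (C : Set G)]
      refine (congrArg Set.ncard (Set.ext fun u => ?_) ▸ Nat.ModEq.refl _)
      show (u ∈ U ∧ u ∈ Subgroup.centralizer {e}) ↔ (u ∈ U ∧ e * u = u * e)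
      rw [Subgroup.mem_centralizer_singleton_iff]
      exact and_congr_right fun _ => eq_comm
  have heU : ∀ u ∈ U, e * u = u * e := fun u hu =>
    (Subgroup.mem_centralizer_singleton_iff.mp (hCU ▸ hu : u ∈ C).2).symm
  -- `e` moves the centralizer of `U` in `Q`
  set D := Q ⊓ Subgroup.centralizer (U : Set G) with hD
  have hcomm : ∀ q ∈ Q, q⁻¹ * (e * q * e⁻¹) ∈ D := by
    intro q hq
    refine ⟨Q.mul_mem (Q.inv_mem hq) (hQn.conj_mem q hq e), Subgroup.mem_centralizer_iff.mpr fun u hu => ?_⟩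
    have hw := hu.2.2 q hq
    have h2 : ⁅u, e * q * e⁻¹⁆ = ⁅u, q⁆ := by
      calc ⁅u, e * q * e⁻¹⁆ = ⁅e * u * e⁻¹, e * q * e⁻¹⁆ := by rw [heU u hu, mul_inv_cancel_right]
        _ = e * ⁅u, q⁆ * e⁻¹ := by simp only [commutatorElement_def]; group
        _ = _ := by rw [heW _ hw, mul_inv_cancel_right]
    simp only [commutatorElement_def] at h2
    set a := e * q * e⁻¹
    have h3 : a * u⁻¹ * a⁻¹ = q * u⁻¹ * q⁻¹ := by
      have : u * (a * u⁻¹ * a⁻¹) = u * (q * u⁻¹ * q⁻¹) := by simpa only [mul_assoc] using h2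
      exact mul_left_cancel this
    calc u * (q⁻¹ * a) = q⁻¹ * (q * u⁻¹ * q⁻¹)⁻¹ * a := by group
      _ = q⁻¹ * (a * u⁻¹ * a⁻¹)⁻¹ * a := by rw [h3]
      _ = _ := by group
  have hDmove : ∃ x ∈ D, (x ^ 2 = 1 ∨ (2 = 2 ∧ x ^ 4 = 1)) ∧ e * x ≠ x * e := by
    by_contra h
    simp only [not_exists, not_and, not_not] at h
    have hA : Subgroup.zpowers e ≤ Subgroup.centralizer (D : Set G) := by
      refine Cfsg.Lib.Thompson.le_centralizer_of_centralizes_small (p := 2) (Subgroup.zpowers e) D (hQ.to_le inf_le_left) ?_ ?_ ?_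
      · refine Subgroup.zpowers_le.mpr ?_
        have hn : ∀ c : G, ∀ x ∈ D, c * x * c⁻¹ ∈ D := fun c x hx => by
          refine ⟨hQn.conj_mem x hx.1 c, Subgroup.mem_centralizer_iff.mpr fun u hu => ?_⟩
          have h1 := Subgroup.mem_centralizer_iff.mp hx.2 (c⁻¹ * u * c⁻¹⁻¹) (hUn c⁻¹ u hu)
          rw [inv_inv] at h1
          calc u * (c * x * c⁻¹) = c * ((c⁻¹ * u * c) * x) * c⁻¹ := by group
            _ = c * (x * (c⁻¹ * u * c)) * c⁻¹ := by rw [h1]
            _ = _ := by group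
        rw [Subgroup.mem_normalizer_iff]
        intro x
        exact ⟨hn e x, fun hx => by simpa [mul_assoc] using hn e⁻¹ _ hx⟩
      · rw [Nat.card_zpowers, hoe]
        obtain ⟨k, hk⟩ := IsPGroup.iff_card.mp (hQ.to_le (inf_le_left : D ≤ Q))
        rw [hk]; exact Nat.Coprime.pow_right k (by norm_num)
      · intro x hx hx2 a ha
        have : e ∈ Subgroup.centralizer ({x} : Set G) := Subgroup.mem_centralizer_singleton_iff.mpr (h x hx (hx2.imp_right fun h => ⟨trivial, h.2⟩))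
        exact Subgroup.mem_centralizer_singleton_iff.mp (Subgroup.zpowers_le.mpr this ha)
    obtain ⟨q, hq, hne⟩ := hemove
    set c := q⁻¹ * (e * q * e⁻¹) with hc
    have hce : e * c * e⁻¹ = c := by
      have := Subgroup.mem_centralizer_iff.mp (hA (Subgroup.mem_zpowers e)) c (hcomm q hq)
      rw [← this, mul_inv_cancel_right]
    have h1 : e * q * e⁻¹ = q * c := by rw [hc]; group
    have h3 : q * c ^ 3 = q := by
      have : e * (e * (e * q * e⁻¹) * e⁻¹) * e⁻¹ = q := by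
        calc _ = (e * e * e) * q * (e * e * e)⁻¹ := by group
          _ = e ^ 3 * q * (e ^ 3)⁻¹ := by simp only [pow_succ, pow_zero, one_mul]
          _ = q := by rw [he3]; group
      have hm : ∀ y, e * (y * c) * e⁻¹ = (e * y * e⁻¹) * c := fun y => by
        calc e * (y * c) * e⁻¹ = (e * y * e⁻¹) * (e * c * e⁻¹) := by group
          _ = _ := by rw [hce]
      rw [h1, hm, h1, hm, hm, h1] at this
      simpa only [pow_succ, pow_zero, one_mul, mul_assoc] using this
    have hc3 : c ^ 3 = 1 := by simpa using h3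
    obtain ⟨k, hk⟩ := hQ ⟨c, (hcomm q hq).1⟩
    have hk' : c ^ 2 ^ k = 1 := congrArg Subtype.val hk
    have hc1 : c = 1 := by
      rw [← orderOf_eq_one_iff]
      exact Nat.eq_one_of_dvd_coprimes (Nat.Coprime.pow_left k (show Nat.Coprime 2 3 by norm_num))
        (orderOf_dvd_of_pow_eq_one hk') (orderOf_dvd_of_pow_eq_one hc3)
    exact hne (mul_inv_eq_iff_eq_mul.mp (by rw [h1, hc1, mul_one]))
  obtain ⟨x, hx, hx24, hxe⟩ := hDmove
  have hx2 : x ^ 2 ≠ 1 := fun h => hxe (heW x (hinv x hx.1 h))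
  have hx4 : (x ^ 2) ^ 2 = 1 := by rw [← pow_mul]; exact (hx24.resolve_left hx2).2
  have hxW : x ^ 2 ∈ W := hinv _ (pow_mem hx.1 2) hx4
  obtain ⟨u, hu, hu2⟩ : ∃ u ∈ U, u ^ 2 = x ^ 2 := by
    have hne : (F (x ^ 2)).ncard ≠ 0 := by
      rcases wcases s0 hs0 hs01 _ hxW with h | h | h | h
      · exact absurd h hx2
      · rw [h]; exact hf0
      · rw [h, ← hs1def, hs1def, Feq]; exact hf0
      · rw [h, Feq, Feq]; exact hf0
    obtain ⟨u, hu⟩ := Set.nonempty_of_ncard_ne_zero hne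
    exact ⟨u, hu⟩
  have hcux : Commute u x := Subgroup.mem_centralizer_iff.mp hx.2 u hu
  have hprod : u⁻¹ * x ∈ W := by
    refine hinv _ (mul_mem (inv_mem hu.1) hx.1) ?_
    rw [hcux.inv_left.mul_pow, inv_pow, hu2, inv_mul_cancel]
  refine hxe ?_
  calc e * x = (e * u) * (u⁻¹ * x) := by group
    _ = u * (e * (u⁻¹ * x)) := by rw [heU u hu, mul_assoc]
    _ = u * ((u⁻¹ * x) * e) := by rw [heW _ hprod]
    _ = _ := by group

end Cfsg.Agent.S3739
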