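import Cfsg.Statements.S3740
import Cfsg.Agent.Lib.Linear.DicksonTwo
import Cfsg.Agent.Lib.Thompson.FixedPointFree
-- import your own Cfsg.Agent.* helpers here

set_option autoImplicit false
open Cfsg

namespace Cfsg.Agent.S3740

open Subgroup Matrix Cfsg.Lib.Linear.Dickson
open scoped MatrixGroups commutatorElement

abbrev A3 := SL(2, ZMod 3)

/-- An element of order four. -/
def i0 : A3 := ⟨!![0, 2; 1, 0], by decide⟩

/-- Another element of order four. -/
def x0 : A3 := ⟨!![1, 1; 1, 2], by decide⟩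

/-- A third element of order four. -/
def k0 : A3 := ⟨!![2, 1; 1, 1], by decide⟩

/-- The quaternion subgroup as a map. -/
def qf : QuaternionGroup 2 → A3
  | .a k => i0 ^ k.val
  | .xa k => x0 * i0 ^ k.val

theorem qf_mul : ∀ a b, qf (a * b) = qf a * qf b := by decide

theorem qf_inj : ∀ a b, qf a = qf b → a = b := by decide

theorem qf_cases : ∀ a, qf a * qf a ≠ 1 →
    qf a = i0 ∨ qf a = i0⁻¹ ∨ qf a = x0 ∨ qf a = x0⁻¹ ∨ qf a = k0 ∨ qf a = k0⁻¹ := by decide

/-- The quaternion subgroup as a homomorphism. -/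
def qh : QuaternionGroup 2 →* A3 := MonoidHom.mk' qf qf_mul

theorem qf_facts : (tU (1 : ZMod 3)) * i0 * (tU (1 : ZMod 3))⁻¹ = x0 ∧
    (tU (1 : ZMod 3)) * x0 * (tU (1 : ZMod 3))⁻¹ = k0 ∧ (tU (1 : ZMod 3)) * k0 * (tU (1 : ZMod 3))⁻¹ = i0 ∧
    i0 * x0 * i0⁻¹ = x0⁻¹ ∧ x0 * i0 * x0⁻¹ = i0⁻¹ ∧ i0 * x0 ≠ x0 * i0 ∧
    i0 ≠ x0 ∧ i0 ≠ x0⁻¹ ∧ i0 ≠ k0 ∧ i0 ≠ k0⁻¹ ∧ x0 ≠ k0 ∧ x0 ≠ k0⁻¹ ∧ i0 * i0 ≠ 1 ∧ x0 * x0 ≠ 1 ∧
    i0 * i0 * (i0 * i0) = 1 ∧ x0 * x0 * (x0 * x0) = 1 ∧ k0 * k0 ≠ 1 ∧ k0 * k0 * (k0 * k0) = 1 := by decide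

theorem qf_a1 : qf (QuaternionGroup.a 1) = i0 := by decide

theorem qf_xa0 : qf (QuaternionGroup.xa 0) = x0 := by decide

theorem qh_conj : ∀ b, ∃ c, qh c = tU (1 : ZMod 3) * qh b * (tU (1 : ZMod 3))⁻¹ := by decide

theorem k0_mem : ∃ a, qf a = k0 := by decide

theorem card_A3 : Nat.card A3 = 24 := by
  rw [Nat.card_eq_fintype_card]; decide

section Conj

variable {G : Type*} [Group G]

/-- `g` maps the pair `x^{±1}` to the pair `y^{±1}`. -/
def Maps (g x y : G) : Prop := g * x * g⁻¹ = y ∨ g * x * g⁻¹ = y⁻¹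

theorem Maps.mul {g h x y z : G} (h1 : Maps g x y) (h2 : Maps h y z) : Maps (h * g) x z := by
  have e : h * g * x * (h * g)⁻¹ = h * (g * x * g⁻¹) * h⁻¹ := by group
  have e' : h * y⁻¹ * h⁻¹ = (h * y * h⁻¹)⁻¹ := by group
  rcases h1 with h1 | h1 <;> rcases h2 with h2 | h2 <;> simp only [Maps, e, h1, e', h2, inv_inv] <;> tauto

theorem Maps.symm {g x y : G} (h1 : Maps g x y) : Maps g⁻¹ y x := by
  have e : g⁻¹ * (g * x * g⁻¹) * g⁻¹⁻¹ = x := by group
  have e' : g⁻¹ * y⁻¹ * g⁻¹⁻¹ = (g⁻¹ * y * g⁻¹⁻¹)⁻¹ := by group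
  rcases h1 with h1 | h1 <;> rw [h1] at e
  · exact Or.inl e
  · rw [e'] at e; exact Or.inr (inv_eq_iff_eq_inv.mp e)

theorem Maps.refl (x : G) : Maps 1 x x := Or.inl (by group)

/-- The subgroup fixing the pair `x^{±1}`. -/
def fixPair (x : G) : Subgroup G where
  carrier := {g | Maps g x x}
  one_mem' := Maps.refl x
  mul_mem' := fun ha hb => hb.mul ha
  inv_mem' := fun ha => ha.symm

theorem no_three [Finite G] {g x y z : G} (hg : Nat.Coprime 3 (orderOf g)) (h1 : Maps g x y) (h2 : Maps g y z)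
    (h3 : Maps g z x) : x = y ∨ x = y⁻¹ := by
  have hm : g ^ 3 ∈ fixPair x := by
    rw [pow_succ, pow_two]
    show Maps (g * g * g) x x
    rw [mul_assoc]
    exact (h1.mul h2).mul h3
  obtain ⟨k, hk⟩ := mem_zpowers_pow_iff.mpr hg
  have hgx : Maps g x x := by
    have := (fixPair x).zpow_mem hm k
    simp only at hk
    rwa [hk] at this
  rcases h1 with a | a <;> rcases hgx with b | b
  · exact Or.inl (b.symm.trans a)
  · exact Or.inr (by rw [← a, b, inv_inv])
  · exact Or.inr (b.symm.trans a)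
  · exact Or.inl (inv_injective (b.symm.trans a))

end Conj

section SL

variable {F : Type*} [Field F] {p : ℕ} [Fact p.Prime] [CharP F p]

theorem center_sq {z : SL(2, F)} (hz : z ∈ center SL(2, F)) : z * z = 1 := by
  obtain ⟨h1, h2, h3⟩ := isScalar_of_mem_center hz
  have hd := det_eq z
  rw [h1, ← h3] at hd
  apply ext_two <;> simp [Cfsg.Lib.Linear.Dickson.mul_apply', h1, h2, ← h3]
  all_goals linear_combination hd

theorem center_eq_of_ne {z w : SL(2, F)} (hz : z ∈ center SL(2, F)) (hz1 : z ≠ 1) (hw : w ∈ center SL(2, F))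
    (hw1 : w ≠ 1) : z = w := by
  have key : ∀ v : SL(2, F), v ∈ center SL(2, F) → v ≠ 1 → v 0 0 = -1 ∧ v 1 1 = -1 ∧ v 0 1 = 0 ∧ v 1 0 = 0 := by
    intro v hv hv1
    obtain ⟨h1, h2, h3⟩ := isScalar_of_mem_center hv
    have hd := det_eq v
    rw [h1, ← h3] at hd
    have h : (v 0 0 - 1) * (v 0 0 + 1) = 0 := by linear_combination hd
    rcases mul_eq_zero.mp h with h | h
    · refine absurd ?_ hv1
      apply ext_two <;> simp [h1, h2, ← h3, sub_eq_zero.mp h]
    · exact ⟨eq_neg_of_add_eq_zero_left h, h3 ▸ eq_neg_of_add_eq_zero_left h, h1, h2⟩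
  obtain ⟨a, b, c, d⟩ := key z hz hz1
  obtain ⟨a', b', c', d'⟩ := key w hw hw1
  exact ext_two (a.trans a'.symm) (c.trans c'.symm) (d.trans d'.symm) (b.trans b'.symm)

/-- A `p'`-element commuting with a nontrivial `p`-element is central. -/
theorem mem_center_of_commute (h2 : p ≠ 2) {r u : SL(2, F)} (hu : u ^ p = 1) (hu1 : u ≠ 1)
    (hr : Nat.Coprime p (orderOf r)) (h : Commute r u) : r ∈ center SL(2, F) := by
  have hp : p.Prime := Fact.out
  have huc : u ∉ center SL(2, F) := fun hc => hu1 (by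
    have h1 := pow_gcd_eq_one.mpr ⟨hu, (pow_two u).trans (center_sq hc)⟩
    rwa [((Nat.coprime_primes hp Nat.prime_two).mpr h2).gcd_eq_one, pow_one] at h1)
  obtain ⟨r0, s, a00, a01, a10, a11⟩ := exists_param huc h
  obtain ⟨e1, e2⟩ := tr2_param a00 a01 a10 a11
  rw [tr2_of_pow_eq_one (p := p) (x := u) (k := 1) (by rw [pow_one]; exact hu)] at e1 e2
  have hsq : tr2 r * tr2 r = 4 := by rw [e1]; linear_combination 4 * e2
  refine mem_center_of_sq_eq_one (two_ne_zero' h2) ?_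
  have h1 := sq_pow_eq_one (p := p) hsq
  have h3 : (r * r) ^ orderOf r = 1 := by rw [← pow_two, ← pow_mul, mul_comm, pow_mul, pow_orderOf_eq_one, one_pow]
  have h4 := pow_gcd_eq_one.mpr ⟨h1, h3⟩
  rwa [hr.gcd_eq_one, pow_one] at h4

end SL

/-- Let F be a finite field of odd characteristic p and let a be a p-element of SL₂(F) normalizing a subgroup R of order prime to p with [R, a] ≠ 1. Then p = 3, R is a quaternion group of order 8, and R⟨a⟩ is isomorphic to SL₂(3). -/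
theorem result (F : Type) [Field F] [Fintype F] {p : ℕ} [Fact p.Prime] [CharP F p] (hp : p ≠ 2) (a : Matrix.SpecialLinearGroup (Fin 2) F) (ha : IsPGroup p ↥(Subgroup.zpowers a)) (R : Subgroup (Matrix.SpecialLinearGroup (Fin 2) F)) (hR : (Nat.card R).Coprime p) (haR : a ∈ Subgroup.normalizer (R : Set (Matrix.SpecialLinearGroup (Fin 2) F))) (hnt : ⁅R, Subgroup.zpowers a⁆ ≠ ⊥) : p = 3 ∧ Nonempty (↥R ≃* QuaternionGroup 2) ∧ Nonempty (↥(R ⊔ Subgroup.zpowers a) ≃* Matrix.SpecialLinearGroup (Fin 2) (ZMod 3)) := by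
  classical
  have hp1 : p.Prime := Fact.out
  have hh2 : (2 : F) ≠ 0 := two_ne_zero' hp
  obtain ⟨k, hk⟩ := ha ⟨a, Subgroup.mem_zpowers a⟩
  have hk' : a ^ p ^ k = 1 := congrArg Subtype.val hk
  have hap : a ^ p = 1 := pow_eq_one_of_tr2 (tr2_of_pow_eq_one hk')
  have hcop : ∀ r ∈ R, Nat.Coprime p (orderOf r) := fun r hr =>
    Nat.Coprime.symm (Nat.Coprime.coprime_dvd_left (Subgroup.orderOf_dvd_natCard R hr) hR)
  obtain ⟨r, hr, hra⟩ : ∃ r ∈ R, r * a ≠ a * r := by
    by_contra hh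
    push Not at hh
    refine hnt (Subgroup.commutator_eq_bot_iff_le_centralizer.mpr fun r hr => ?_)
    rw [Subgroup.centralizer_eq_iInf]
    refine Subgroup.mem_iInf.mpr fun x => Subgroup.mem_iInf.mpr fun hx => ?_
    obtain ⟨j, rfl⟩ := hx
    rw [Subgroup.mem_centralizer_singleton_iff]
    exact ((show Commute r a from hh r hr).zpow_right j).eq
  have ha1 : a ≠ 1 := fun e => hra (by rw [e, mul_one, one_mul])
  set H := R ⊔ Subgroup.zpowers a with hH
  haveI : Finite (Matrix.SpecialLinearGroup (Fin 2) F) := inferInstance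
  set N := R.subgroupOf H with hN
  have hHN : H ≤ Subgroup.normalizer (R : Set _) := sup_le Subgroup.le_normalizer (Subgroup.zpowers_le.mpr haR)
  haveI : N.Normal := ⟨fun n hn g => (Subgroup.mem_normalizer_iff.mp (hHN g.2) _).mp hn⟩
  let aH : H := ⟨a, (le_sup_right : Subgroup.zpowers a ≤ H) (Subgroup.mem_zpowers a)⟩
  have hgen : ∀ h : H, (QuotientGroup.mk' N) h ∈ Subgroup.zpowers ((QuotientGroup.mk' N) aH) := by
    intro h
    have key : H ≤ ((Subgroup.zpowers ((QuotientGroup.mk' N) aH)).comap (QuotientGroup.mk' N)).map H.subtype := by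
      refine sup_le (fun x hx => ?_) (Subgroup.zpowers_le.mpr ⟨aH, Subgroup.mem_zpowers _, rfl⟩)
      refine ⟨⟨x, (le_sup_left : R ≤ H) hx⟩, ?_, rfl⟩
      show (QuotientGroup.mk' N) _ ∈ Subgroup.zpowers ((QuotientGroup.mk' N) aH)
      rw [show (QuotientGroup.mk' N) (⟨x, (le_sup_left : R ≤ H) hx⟩ : H) = 1 from (QuotientGroup.eq_one_iff (N := N) _).mpr hx]
      exact one_mem _
    obtain ⟨y, hy, hye⟩ := key h.2
    rw [← Subtype.ext hye]
    exact hy
  have haq : ((QuotientGroup.mk' N) aH) ^ p = 1 := by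
    rw [← map_pow, show aH ^ p = 1 from Subtype.ext hap, map_one]
  have hqp : ∀ h : H, ((QuotientGroup.mk' N) h) ^ p = 1 := by
    intro h
    obtain ⟨j, hj⟩ := hgen h
    simp only at hj
    rw [← hj, ← _root_.zpow_natCast, ← _root_.zpow_mul, mul_comm, _root_.zpow_mul, _root_.zpow_natCast, haq, _root_.one_zpow]
  have hmem : ∀ h : SL(2, F), h ∈ H → Nat.Coprime p (orderOf h) → h ∈ R := by
    intro h hh hco
    have h1 := hqp ⟨h, hh⟩
    have h2 : ((QuotientGroup.mk' N) ⟨h, hh⟩) ^ orderOf h = 1 := by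
      rw [← map_pow, show (⟨h, hh⟩ : H) ^ orderOf h = 1 from Subtype.ext (pow_orderOf_eq_one h), map_one]
    have h4 := pow_gcd_eq_one.mpr ⟨h1, h2⟩
    rw [hco.gcd_eq_one, pow_one] at h4
    exact (QuotientGroup.eq_one_iff (N := N) (⟨h, hh⟩ : H)).mp h4
  have hcardH : Nat.card H ≤ Nat.card R * p := by
    rw [Subgroup.card_eq_card_quotient_mul_card_subgroup N, mul_comm,
      Nat.card_congr (Subgroup.subgroupOfEquivOfLe (le_sup_left : R ≤ H)).toEquiv]
    refine Nat.mul_le_mul_left _ ?_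
    have htop : Subgroup.zpowers ((QuotientGroup.mk' N) aH) = ⊤ := by
      rw [eq_top_iff]
      intro q _
      obtain ⟨h, rfl⟩ := QuotientGroup.mk'_surjective N q
      exact hgen h
    rw [← Subgroup.card_top (G := H ⧸ N), ← htop, Nat.card_zpowers]
    exact Nat.le_of_dvd hp1.pos (orderOf_dvd_of_pow_eq_one haq)
  -- a noncommuting conjugate
  set w := r * a * r⁻¹ with hwdef
  have hwp : w ^ p ^ 1 = 1 := by rw [pow_one, hwdef, conj_pow, hap, mul_one, mul_inv_cancel]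
  have haH : a ∈ H := aH.2
  have hrH : r ∈ H := (le_sup_left : R ≤ H) hr
  have hwH : w ∈ H := mul_mem (mul_mem hrH haH) (inv_mem hrH)
  have hne : ¬ Commute a w := by
    intro hc
    have hwa : (w * a⁻¹) ^ p = 1 := by
      rw [(hc.symm.inv_right).mul_pow, inv_pow, hap, inv_one, mul_one, ← pow_one p, hwp]
    have hin : w * a⁻¹ ∈ R := by
      have : w * a⁻¹ = r * (a * r⁻¹ * a⁻¹) := by rw [hwdef]; group
      rw [this]
      exact mul_mem hr ((Subgroup.mem_normalizer_iff.mp haR _).mp (inv_mem hr))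
    have h4 := pow_gcd_eq_one.mpr ⟨hwa, pow_orderOf_eq_one (w * a⁻¹)⟩
    rw [(hcop _ hin).gcd_eq_one, pow_one, mul_inv_eq_one, hwdef] at h4
    exact hra (mul_inv_eq_iff_eq_mul.mp h4)
  obtain ⟨g, hg⟩ := exists_SL2_map_le hp H haH hwH (i := 1) (by rw [pow_one]; exact hap) hwp hne
  let f : SL(2, ZMod p) →* SL(2, F) := (conjGL g).comp (SpecialLinearGroup.map (ZMod.castHom (dvd_refl p) F))
  have hfH : ∀ A, f A ∈ H := hg
  have hfinj : Function.Injective f := (conjGL_injective g).comp fun A B hAB => by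
    apply ext_two <;> refine (ZMod.castHom (dvd_refl p) F).injective ?_
    · exact (map_apply' _ A 0 0).symm.trans ((congrArg (fun z : SL(2, F) => z 0 0) hAB).trans (map_apply' _ B 0 0))
    · exact (map_apply' _ A 0 1).symm.trans ((congrArg (fun z : SL(2, F) => z 0 1) hAB).trans (map_apply' _ B 0 1))
    · exact (map_apply' _ A 1 0).symm.trans ((congrArg (fun z : SL(2, F) => z 1 0) hAB).trans (map_apply' _ B 1 0))
    · exact (map_apply' _ A 1 1).symm.trans ((congrArg (fun z : SL(2, F) => z 1 1) hAB).trans (map_apply' _ B 1 1))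
  have hord : orderOf (f (tU 1)) = p := by
    rw [orderOf_injective f hfinj]
    refine orderOf_eq_prime ?_ ?_
    · rw [tU_pow, mul_one, ZMod.natCast_self, tU_zero]
    · intro h
      have := congrArg (fun z : SL(2, ZMod p) => z 0 1) h
      simp [tU_coe] at this
  -- the prime is three
  have hp3 : p = 3 := by
    by_contra h3
    have h30 : (3 : ZMod p) ≠ 0 := by
      intro h
      have h' : ((3 : ℕ) : ZMod p) = 0 := by exact_mod_cast h
      rw [ZMod.natCast_eq_zero_iff] at h'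
      exact h3 ((Nat.prime_dvd_prime_iff_eq hp1 Nat.prime_three).mp h')
    have h20 : (2 : ZMod p) ≠ 0 := two_ne_zero' hp
    let t : SL(2, ZMod p) := ⟨!![2, 0; 0, 2⁻¹], by simp [Matrix.det_fin_two, mul_inv_cancel₀ h20]⟩
    set b : ZMod p := 3⁻¹
    have e : ⁅t, tU b⁆ = tU 1 := by
      have h1 : t * tU b = tU (4 * b) * t := by
        apply ext_two <;> simp only [Cfsg.Lib.Linear.Dickson.mul_apply'] <;> simp [t, tU_coe] <;> field_simp <;> ring
      calc ⁅t, tU b⁆ = t * tU b * t⁻¹ * (tU b)⁻¹ := rfl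
        _ = tU (4 * b) * tU (-b) := by rw [h1, mul_inv_cancel_right, tU_inv]
        _ = tU 1 := by rw [tU_mul]; congr 1; simp only [b]; field_simp; ring
    have hc : (QuotientGroup.mk' N) ⟨f (tU 1), hfH _⟩ = 1 := by
      have : (⟨f (tU 1), hfH _⟩ : H) = ⁅(⟨f t, hfH _⟩ : H), (⟨f (tU b), hfH _⟩ : H)⁆ :=
        Subtype.ext ((congrArg f e).symm.trans (map_commutatorElement f t (tU b)))
      rw [this, map_commutatorElement, commutatorElement_eq_one_iff_mul_comm]
      obtain ⟨i, hi⟩ := hgen ⟨f t, hfH _⟩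
      obtain ⟨j, hj⟩ := hgen ⟨f (tU b), hfH _⟩
      simp only at hi hj
      rw [← hi, ← hj]
      exact (Commute.zpow_zpow_self _ i j).eq
    have hR' : f (tU 1) ∈ R := (QuotientGroup.eq_one_iff (N := N) (⟨f (tU 1), hfH _⟩ : H)).mp hc
    have := hcop _ hR'
    rw [hord, Nat.coprime_self] at this
    exact hp1.one_lt.ne' this
  subst hp3
  haveI : Fact (Nat.Prime 3) := ⟨Nat.prime_three⟩
  obtain ⟨eu, eu2, eu3, eix, exi, enc, d1, d2, d3, d4, d5, d6, hi2, hx2, hi4, hx4, hk2, hk4⟩ := qf_facts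
  set ψ := f.comp qh with hψ
  have hψinj : Function.Injective ψ := hfinj.comp fun a b h => qf_inj a b h
  set Q := ψ.range with hQdef
  have hQcard : Nat.card Q = 8 := by
    rw [hQdef, ← Nat.card_congr (MonoidHom.ofInjective hψinj).toEquiv, Nat.card_eq_fintype_card, QuaternionGroup.card]
  have hQR : Q ≤ R := by
    rintro _ ⟨x, rfl⟩
    refine hmem _ (hfH _) ?_
    have hd : orderOf (ψ x) ∣ 8 := hQcard ▸ Subgroup.orderOf_dvd_natCard Q ⟨x, rfl⟩
    exact Nat.Coprime.coprime_dvd_right hd (by norm_num)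
  set u := f (tU 1) with hudef
  have hu3 : u ^ 3 = 1 := hord ▸ pow_orderOf_eq_one u
  have hu1 : u ≠ 1 := fun h => by rw [h, orderOf_one] at hord; norm_num at hord
  have huH : u ∈ H := hfH _
  have huR : ∀ x ∈ R, u * x * u⁻¹ ∈ R := fun x hx => (Subgroup.mem_normalizer_iff.mp (hHN huH) x).mp hx
  -- `u` acts without fixed points on `R` modulo the centre
  set Z0 := Subgroup.center SL(2, F) with hZ0
  set Z := Z0.subgroupOf R with hZ
  haveI : Z.Normal := ⟨fun n hn g => by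
    show ((g : SL(2, F)) * n * (g : SL(2, F))⁻¹) ∈ Z0
    rw [Subgroup.mem_center_iff.mp (show (n : SL(2, F)) ∈ Z0 from hn) g, mul_inv_cancel_right]
    exact hn⟩
  let cu : ↥R ≃* ↥R :=
    { toFun := fun x => ⟨u * x * u⁻¹, huR x x.2⟩
      invFun := fun x => ⟨u⁻¹ * x * u, (Subgroup.mem_normalizer_iff.mp (hHN huH) _).mpr (by simpa [mul_assoc] using x.2)⟩
      left_inv := fun x => Subtype.ext (by group)
      right_inv := fun x => Subtype.ext (by group)
      map_mul' := fun x y => Subtype.ext (by simp [mul_assoc]) }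
  have hcZ : Z.map (cu : ↥R →* ↥R) = Z := by
    have : ∀ z ∈ Z, cu z = z := fun z hz => Subtype.ext (by
      show u * z * u⁻¹ = z
      rw [Subgroup.mem_center_iff.mp (show (z : SL(2, F)) ∈ Z0 from hz) u, mul_inv_cancel_right])
    ext z
    constructor
    · rintro ⟨y, hy, rfl⟩; show cu y ∈ Z; rw [this y hy]; exact hy
    · intro hz; exact ⟨z, hz, this z hz⟩
  set φ := QuotientGroup.congr Z Z cu hcZ with hφ
  have hφfpf : MonoidHom.FixedPointFree φ := by
    intro q hq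
    obtain ⟨x, rfl⟩ := QuotientGroup.mk_surjective q
    rw [QuotientGroup.eq_one_iff]
    have hzm : (x : SL(2, F))⁻¹ * (u * x * u⁻¹) ∈ Z0 := by
      have hq' : ((cu x : ↥R) : ↥R ⧸ Z) = (x : ↥R ⧸ Z) := hq
      have := QuotientGroup.eq.mp hq'.symm
      exact this
    show (x : SL(2, F)) ∈ Z0
    set z := (x : SL(2, F))⁻¹ * (u * x * u⁻¹) with hzdef
    by_cases hz1 : z = 1
    · refine mem_center_of_commute (p := 3) hp hu3 hu1 (hcop x x.2) ?_
      have : u * x * u⁻¹ = x := (inv_mul_eq_one.mp hz1).symm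
      exact (mul_inv_eq_iff_eq_mul.mp this).symm
    · exfalso
      have h1 : (x : SL(2, F))⁻¹ * u * x = z * u := by rw [hzdef]; group
      have h2 : ((x : SL(2, F))⁻¹ * u * x) ^ 3 = 1 := by
        have := conj_pow (i := 3) (a := (x : SL(2, F))⁻¹) (b := u)
        rw [inv_inv, hu3, mul_one, inv_mul_cancel] at this
        exact this
      rw [h1, (show Commute z u from (Subgroup.mem_center_iff.mp hzm u).symm).mul_pow, hu3, mul_one, pow_succ, pow_two,
        center_sq hzm, one_mul] at h2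
      exact hz1 h2
  have hφpow : (⇑φ)^[3] = id := by
    funext q
    obtain ⟨x, rfl⟩ := QuotientGroup.mk_surjective q
    show ((cu (cu (cu x)) : ↥R) : ↥R ⧸ Z) = _
    congr 1
    apply Subtype.ext
    show u * (u * (u * x * u⁻¹) * u⁻¹) * u⁻¹ = (x : SL(2, F))
    calc _ = (u * u * u) * x * (u * u * u)⁻¹ := by group
      _ = _ := by rw [← pow_two, ← pow_succ, hu3]; group
  haveI hnil : Group.IsNilpotent (↥R ⧸ Z) := Cfsg.Lib.Thompson.isNilpotent_of_fpf Nat.prime_three φ hφfpf hφpow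
  haveI hnilR : Group.IsNilpotent ↥R := by
    refine _root_.isNilpotent_of_ker_le_center (QuotientGroup.mk' Z) ?_
    rw [QuotientGroup.ker_mk']
    intro z hz
    rw [Subgroup.mem_center_iff]
    exact fun x => Subtype.ext (Subgroup.mem_center_iff.mp (show (z : SL(2, F)) ∈ Z0 from hz) x)
  -- the normalizer of `Q` in `R`
  set iQ := f i0 with hiQ
  set xQ := f x0 with hxQ
  set kQ := f k0 with hkQ
  have miQ : iQ ∈ Q := ⟨QuaternionGroup.a 1, congrArg f qf_a1⟩
  have mxQ : xQ ∈ Q := ⟨QuaternionGroup.xa 0, congrArg f qf_xa0⟩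
  have mkQ : kQ ∈ Q := by obtain ⟨a, ha⟩ := k0_mem; exact ⟨a, by show f (qf a) = f k0; rw [ha]⟩
  have sq_ne : ∀ y : A3, y * y ≠ 1 → f y * f y ≠ 1 := fun y hy h => hy (hfinj (by rw [map_mul, h, map_one]))
  have hne1 : ∀ y z : A3, y ≠ z → y ≠ z⁻¹ → ¬ (f y = f z ∨ f y = (f z)⁻¹) := fun y z h1 h2 h => by
    rcases h with h | h
    · exact h1 (hfinj h)
    · exact h2 (hfinj (h.trans (map_inv f z).symm))
  have image : ∀ n : SL(2, F), (∀ y, y ∈ Q → n * y * n⁻¹ ∈ Q) → ∀ y ∈ Q, y * y ≠ 1 →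
      Maps n y iQ ∨ Maps n y xQ ∨ Maps n y kQ := by
    intro n hn y hy hy2
    obtain ⟨a, ha⟩ := hn y hy
    have ha2 : qf a * qf a ≠ 1 := fun h => hy2 (by
      have h' : ψ a * ψ a = 1 := by show f (qf a) * f (qf a) = 1; rw [← map_mul, h, map_one]
      rw [ha, conj_mul] at h'
      exact conj_eq_one_iff.mp h')
    have ha' : n * y * n⁻¹ = f (qf a) := ha.symm
    rcases qf_cases a ha2 with e | e | e | e | e | e <;> rw [e] at ha' <;> (try simp only [map_inv] at ha')
    · exact Or.inl (Or.inl ha')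
    · exact Or.inl (Or.inr ha')
    · exact Or.inr (Or.inl (Or.inl ha'))
    · exact Or.inr (Or.inl (Or.inr ha'))
    · exact Or.inr (Or.inr (Or.inl ha'))
    · exact Or.inr (Or.inr (Or.inr ha'))
  have conju : ∀ n y z : SL(2, F), Maps n y z → Maps (u * n * u⁻¹) (u * y * u⁻¹) (u * z * u⁻¹) := by
    intro n y z h
    have e : u * n * u⁻¹ * (u * y * u⁻¹) * (u * n * u⁻¹)⁻¹ = u * (n * y * n⁻¹) * u⁻¹ := by group
    rcases h with h | h
    · exact Or.inl (by rw [e, h])
    · exact Or.inr (by rw [e, h]; group)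
  have mu : u * iQ * u⁻¹ = xQ ∧ u * xQ * u⁻¹ = kQ ∧ u * kQ * u⁻¹ = iQ := by
    refine ⟨?_, ?_, ?_⟩ <;> simp only [hudef, hiQ, hxQ, hkQ, ← map_inv, ← map_mul]
    · rw [eu]
    · rw [eu2]
    · rw [eu3]
  obtain ⟨mu1, mu2, mu3⟩ := mu
  set NQ := R ⊓ Subgroup.normalizer (Q : Set SL(2, F)) with hNQdef
  have hNQ : ∀ n ∈ NQ, ∀ y, y ∈ Q → n * y * n⁻¹ ∈ Q := fun n hn y hy => (Subgroup.mem_normalizer_iff.mp hn.2 y).mp hy
  have huN : ∀ n ∈ NQ, u * n * u⁻¹ ∈ NQ := by
    intro n hn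
    have huQ : ∀ y ∈ Q, u * y * u⁻¹ ∈ Q := by
      rintro _ ⟨a, rfl⟩
      obtain ⟨b, hb⟩ := qh_conj a
      refine ⟨b, ?_⟩
      show f (qh b) = u * f (qh a) * u⁻¹
      rw [hb, hudef, ← map_inv, ← map_mul, ← map_mul]
    have huQ' : u ∈ Subgroup.normalizer (Q : Set SL(2, F)) := by
      rw [Subgroup.mem_normalizer_iff]
      intro y
      refine ⟨huQ y, fun h => ?_⟩
      have h2 := huQ _ (huQ _ h)
      have : u * (u * (u * y * u⁻¹) * u⁻¹) * u⁻¹ = y := by
        calc _ = (u * u * u) * y * (u * u * u)⁻¹ := by group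
          _ = _ := by rw [← pow_two, ← pow_succ, hu3]; group
      rwa [this] at h2
    exact ⟨huR n hn.1, (Subgroup.normalizer _).mul_mem ((Subgroup.normalizer _).mul_mem huQ' hn.2) ((Subgroup.normalizer _).inv_mem huQ')⟩
  have no3 : ∀ m ∈ NQ, ∀ y z v : SL(2, F), Maps m y z → Maps m z v → Maps m v y → y = z ∨ y = z⁻¹ :=
    fun m hm y z v h1 h2 h3 => no_three (hcop m hm.1) h1 h2 h3
  have uniq : ∀ m y z v : SL(2, F), Maps m y v → Maps m z v → y = z ∨ y = z⁻¹ := by
    intro m y z v h1 h2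
    have h := h1.mul h2.symm
    rw [inv_mul_cancel] at h
    rcases h with h | h <;> [left; right] <;> simpa using h
  have dix : ¬ (iQ = xQ ∨ iQ = xQ⁻¹) := hne1 _ _ d1 d2
  have dik : ¬ (iQ = kQ ∨ iQ = kQ⁻¹) := hne1 _ _ d3 d4
  have dxk : ¬ (xQ = kQ ∨ xQ = kQ⁻¹) := hne1 _ _ d5 d6
  have sy : ∀ y z : SL(2, F), (y = z ∨ y = z⁻¹) → (z = y ∨ z = y⁻¹) := by
    rintro y z (rfl | rfl)
    · exact Or.inl rfl
    · exact Or.inr (inv_inv z).symm
  have fixi : ∀ n ∈ NQ, Maps n iQ iQ := by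
    intro n hn
    have i2 := image n (hNQ n hn) iQ miQ (sq_ne _ hi2)
    have x2 := image n (hNQ n hn) xQ mxQ (sq_ne _ hx2)
    have k2 := image n (hNQ n hn) kQ mkQ (sq_ne _ hk2)
    rcases i2 with h | h | h
    · exact h
    · exfalso
      rcases x2 with g | g | g
      · -- `i ↔ x`
        have hk' : Maps n kQ kQ := by
          rcases k2 with q | q | q
          · exact absurd (sy _ _ (uniq _ _ _ _ q g)) dxk
          · exact absurd (sy _ _ (uniq _ _ _ _ q h)) dik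
          · exact q
        set n' := u * n * u⁻¹ with hn'
        have c1 : Maps n' xQ kQ := by have := conju _ _ _ h; rwa [mu1, mu2] at this
        have c2 : Maps n' kQ xQ := by have := conju _ _ _ g; rwa [mu1, mu2] at this
        have c3 : Maps n' iQ iQ := by have := conju _ _ _ hk'; rwa [mu3] at this
        exact dik (no3 (n' * n) (mul_mem (huN n hn) hn) iQ kQ xQ (h.mul c1) (hk'.mul c2) (g.mul c3))
      · exact dix (uniq _ _ _ _ h g)
      · rcases k2 with q | q | q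
        · exact dix (no3 n hn iQ xQ kQ h g q)
        · exact dik (uniq _ _ _ _ h q)
        · exact dxk (uniq _ _ _ _ g q)
    · exfalso
      rcases k2 with q | q | q
      · -- `i ↔ k`
        have hx' : Maps n xQ xQ := by
          rcases x2 with g | g | g
          · exact absurd (uniq _ _ _ _ g q) dxk
          · exact g
          · exact absurd (sy _ _ (uniq _ _ _ _ g h)) dix
        set n' := u * n * u⁻¹ with hn'
        have c1 : Maps n' xQ iQ := by have := conju _ _ _ h; rwa [mu1, mu3] at this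
        have c2 : Maps n' iQ xQ := by have := conju _ _ _ q; rwa [mu1, mu3] at this
        have c3 : Maps n' kQ kQ := by have := conju _ _ _ hx'; rwa [mu2] at this
        exact dik (no3 (n' * n) (mul_mem (huN n hn) hn) iQ kQ xQ (h.mul c3) (q.mul c2) (hx'.mul c1))
      · rcases x2 with g | g | g
        · exact dik (no3 n hn iQ kQ xQ h q g)
        · exact dxk (uniq _ _ _ _ g q)
        · exact dix (uniq _ _ _ _ h g)
      · exact dik (uniq _ _ _ _ h q)
  have fixx : ∀ n ∈ NQ, Maps n xQ xQ := by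
    intro n hn
    have hn1 : u⁻¹ * n * u ∈ NQ := by
      have hu' : u⁻¹ = u * u := inv_eq_of_mul_eq_one_right (by rw [← pow_two, ← pow_succ', hu3])
      have := huN _ (huN n hn)
      convert this using 1
      calc u⁻¹ * n * u = u⁻¹ * n * u⁻¹⁻¹ := by rw [inv_inv]
        _ = (u * u) * n * (u * u)⁻¹ := by rw [hu']
        _ = _ := by group
    have := conju _ _ _ (fixi _ hn1)
    rw [mu1] at this
    convert this using 1
    group
  have hNQle : NQ ≤ Q := by
    intro n hn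
    have hQN : Q ≤ NQ := le_inf hQR Subgroup.le_normalizer
    have ci : iQ * xQ * iQ⁻¹ = xQ⁻¹ := by simp only [hiQ, hxQ, ← map_inv, ← map_mul]; rw [eix]
    have cx : xQ * iQ * xQ⁻¹ = iQ⁻¹ := by simp only [hiQ, hxQ, ← map_inv, ← map_mul]; rw [exi]
    obtain ⟨m, hm, hmi⟩ : ∃ m ∈ Q, (m * n) * iQ * (m * n)⁻¹ = iQ := by
      rcases fixi n hn with h | h
      · exact ⟨1, one_mem Q, by rw [one_mul, h]⟩
      · refine ⟨xQ, mxQ, ?_⟩
        calc xQ * n * iQ * (xQ * n)⁻¹ = xQ * (n * iQ * n⁻¹) * xQ⁻¹ := by group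
          _ = (xQ * iQ * xQ⁻¹)⁻¹ := by rw [h]; group
          _ = iQ := by rw [cx, inv_inv]
    obtain ⟨m', hm', hm'i, hm'x⟩ : ∃ m' ∈ Q, (m' * n) * iQ * (m' * n)⁻¹ = iQ ∧ (m' * n) * xQ * (m' * n)⁻¹ = xQ := by
      rcases fixx _ (mul_mem (hQN hm) hn) with h | h
      · exact ⟨m, hm, hmi, h⟩
      · refine ⟨iQ * m, mul_mem miQ hm, ?_, ?_⟩
        · calc iQ * m * n * iQ * (iQ * m * n)⁻¹ = iQ * (m * n * iQ * (m * n)⁻¹) * iQ⁻¹ := by group
            _ = iQ := by rw [hmi]; group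
        · calc iQ * m * n * xQ * (iQ * m * n)⁻¹ = iQ * (m * n * xQ * (m * n)⁻¹) * iQ⁻¹ := by group
            _ = (iQ * xQ * iQ⁻¹)⁻¹ := by rw [h]; group
            _ = xQ := by rw [ci, inv_inv]
    have hcen : m' * n ∈ Z0 := by
      by_contra hnc
      have c1 : Commute iQ (m' * n) := (mul_inv_eq_iff_eq_mul.mp hm'i).symm
      have c2 : Commute xQ (m' * n) := (mul_inv_eq_iff_eq_mul.mp hm'x).symm
      exact enc (hfinj (by rw [map_mul, map_mul]; exact (commute_of_commute hnc c1 c2).eq))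
    have hmn : m' * n ∈ Q := by
      by_cases h1 : m' * n = 1
      · rw [h1]; exact one_mem Q
      · have hii : iQ * iQ ∈ Z0 := mem_center_of_sq_eq_one hh2 (by simp only [hiQ, ← map_mul]; rw [hi4, map_one])
        rw [center_eq_of_ne hcen h1 hii (sq_ne _ hi2)]
        exact mul_mem miQ miQ
    have := mul_mem (inv_mem hm') hmn
    rwa [inv_mul_cancel_left] at this
  have hRQ : R = Q := by
    refine le_antisymm ?_ hQR
    by_contra hcon
    have hlt : Q.subgroupOf R < ⊤ := lt_top_iff_ne_top.mpr fun h => hcon (fun x hx => by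
      have : (⟨x, hx⟩ : ↥R) ∈ Q.subgroupOf R := h ▸ Subgroup.mem_top _
      exact this)
    obtain ⟨x, hx, hxn⟩ := SetLike.exists_of_lt (Group.normalizerCondition_of_isNilpotent _ hlt)
    refine hxn (hNQle ⟨x.2, ?_⟩)
    rw [Subgroup.mem_normalizer_iff] at hx
    refine Subgroup.mem_normalizer_iff.mpr ?_
    intro y
    constructor
    · intro hy; exact (hx ⟨y, hQR hy⟩).mp hy
    · intro hy
      have hyR : y ∈ R := by
        have := mul_mem (mul_mem (inv_mem x.2) (hQR hy)) x.2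
        simpa [mul_assoc] using this
      exact (hx ⟨y, hyR⟩).mpr hy
  refine ⟨rfl, ⟨(MulEquiv.subgroupCongr hRQ).trans (MonoidHom.ofInjective hψinj).symm⟩, ⟨?_⟩⟩
  have hrange : f.range = H := by
    refine Subgroup.eq_of_le_of_card_ge (fun _ ⟨A, hA⟩ => hA ▸ hfH A) ?_
    rw [← Nat.card_congr (MonoidHom.ofInjective hfinj).toEquiv, card_A3]
    calc Nat.card H ≤ Nat.card R * 3 := hcardH
      _ = 24 := by rw [hRQ, hQcard]
  exact (MulEquiv.subgroupCongr hrange.symm).trans (MonoidHom.ofInjective hfinj).symm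

end Cfsg.Agent.S3740
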