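import Cfsg.Statements.S3741
import Mathlib.GroupTheory.Sylow
import Cfsg.Agent.Lib.PGroup.Basic
-- import your own Cfsg.Agent.* helpers here

set_option autoImplicit false
open Cfsg

namespace Cfsg.Agent.S3741

open scoped commutatorElement

theorem count_eq {G : Type*} [Group G] [Finite G] {p : ℕ} [Fact p.Prime] (A B : Subgroup G)
    (hc : Nat.card ↥⁅A, B⁆ = p) (hcent : ∀ z ∈ ⁅A, B⁆, ∀ b ∈ B, z * b = b * z) :
    p * Nat.card {x : ↥A × ↥B // (x.1 : G) * x.2 = x.2 * x.1} =
      Nat.card ↥B * ((p - 1) * Nat.card ↥(A ⊓ Subgroup.centralizer (B : Set G)) + Nat.card ↥A) := by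
  classical
  have := Fintype.ofFinite A
  have := Fintype.ofFinite B
  let e : {x : ↥A × ↥B // (x.1 : G) * x.2 = x.2 * x.1} ≃
      Σ a : A, {b : B // (a : G) * b = b * a} :=
    { toFun := fun x => ⟨x.1.1, ⟨x.1.2, x.2⟩⟩
      invFun := fun x => ⟨(x.1, x.2.1), x.2.2⟩
      left_inv := fun _ => rfl
      right_inv := fun _ => rfl }
  rw [Nat.card_congr e, Nat.card_sigma, Finset.mul_sum]
  have key : ∀ a : A, p * Nat.card {b : B // (a : G) * b = b * a} =
      if (a : G) ∈ Subgroup.centralizer (B : Set G) then p * Nat.card B else Nat.card B := by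
    intro a
    split_ifs with ha
    · congr 1
      exact Nat.card_congr (Equiv.subtypeUnivEquiv fun b =>
        (Subgroup.mem_centralizer_iff.mp ha b b.2).symm)
    · let f : B →* ↥⁅A, B⁆ :=
        { toFun := fun b => ⟨⁅(a : G), (b : G)⁆, Subgroup.commutator_mem_commutator a.2 b.2⟩
          map_one' := Subtype.ext (by simp [commutatorElement_def])
          map_mul' := fun b c => Subtype.ext (by
            change ⁅(a : G), (b : G) * c⁆ = ⁅(a : G), (b : G)⁆ * ⁅(a : G), (c : G)⁆
            have h1 := hcent _ (Subgroup.commutator_mem_commutator a.2 c.2) b b.2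
            calc ⁅(a : G), (b : G) * c⁆ = ⁅(a : G), (b : G)⁆ * ((b : G) * ⁅(a : G), (c : G)⁆) * (b : G)⁻¹ := by
                  simp [commutatorElement_def, mul_assoc]
              _ = _ := by rw [← h1]; simp [mul_assoc]) }
      have hne : f.range ≠ ⊥ := by
        intro h
        apply ha
        rw [Subgroup.mem_centralizer_iff]
        intro b hb
        have : f ⟨b, hb⟩ = 1 := (Subgroup.eq_bot_iff_forall _).mp h _ ⟨_, rfl⟩
        exact (commutatorElement_eq_one_iff_mul_comm.mp (congrArg Subtype.val this)).symm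
      have : Fact (Nat.card ↥⁅A, B⁆).Prime := ⟨hc ▸ Fact.out⟩
      have htop := (Subgroup.eq_bot_or_eq_top_of_prime_card f.range).resolve_left hne
      have hk : f.ker.index = p := by
        rw [Subgroup.index_ker, htop, Subgroup.card_top, hc]
      have hcard : Nat.card {b : B // (a : G) * b = b * a} = Nat.card f.ker := by
        refine Nat.card_congr (Equiv.subtypeEquivRight fun b => ?_)
        rw [MonoidHom.mem_ker, ← Subtype.val_inj]
        exact commutatorElement_eq_one_iff_mul_comm.symm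
      rw [hcard, mul_comm, ← hk, Subgroup.card_mul_index]
  rw [Finset.sum_congr rfl fun a _ => key a, Finset.sum_ite, Finset.sum_const, Finset.sum_const,
    smul_eq_mul, smul_eq_mul]
  have h2 := Finset.card_filter_add_card_filter_not (s := (Finset.univ : Finset A))
    (fun a : A => (a : G) ∈ Subgroup.centralizer (B : Set G))
  rw [Finset.card_univ] at h2
  have h3 : Nat.card ↥(A ⊓ Subgroup.centralizer (B : Set G)) =
      (Finset.univ.filter fun a : A => (a : G) ∈ Subgroup.centralizer (B : Set G)).card := by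
    rw [← Fintype.card_subtype, ← Nat.card_eq_fintype_card]
    exact Nat.card_congr
      { toFun := fun x => ⟨⟨x.1, x.2.1⟩, x.2.2⟩
        invFun := fun x => ⟨x.1.1, x.1.2, x.2⟩
        left_inv := fun _ => rfl
        right_inv := fun _ => rfl }
  rw [h3, Nat.card_eq_fintype_card (α := A), ← h2]
  obtain ⟨q, hq⟩ : ∃ q, p = q + 1 := ⟨p - 1, (Nat.sub_add_cancel (Fact.out : p.Prime).one_le).symm⟩
  rw [hq, Nat.add_sub_cancel]
  ring


/-- Let A and B be subgroups of a finite p-group with [A, B] ≤ A ∩ B and [A, B] of order at most p. Then |A : C_A(B)| = |B : C_B(A)|. -/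
theorem result {G : Type*} [Group G] [Finite G] {p : ℕ} [Fact p.Prime] (hG : IsPGroup p G) (A B : Subgroup G) (hAB : ⁅A, B⁆ ≤ A ⊓ B) (hcard : Nat.card ↥⁅A, B⁆ ≤ p) : (A ⊓ Subgroup.centralizer (B : Set G)).relIndex A = (B ⊓ Subgroup.centralizer (A : Set G)).relIndex B := by
  classical
  rcases eq_or_ne ⁅A, B⁆ ⊥ with h0 | h0
  · rw [inf_eq_left.mpr (Subgroup.commutator_eq_bot_iff_le_centralizer.mp h0),
      inf_eq_left.mpr (Subgroup.commutator_eq_bot_iff_le_centralizer.mp
        ((Subgroup.commutator_comm B A).trans h0)), Subgroup.relIndex_self, Subgroup.relIndex_self]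
  have hcard' : Nat.card ↥⁅A, B⁆ = p := by
    obtain ⟨n, hn⟩ := IsPGroup.iff_card.mp (hG.to_subgroup ⁅A, B⁆)
    rcases Nat.eq_zero_or_pos n with hn0 | hn0
    · rw [hn0, pow_zero] at hn
      exact absurd (Subgroup.eq_bot_of_card_eq _ hn) h0
    · refine le_antisymm hcard ?_
      rw [hn]; exact Nat.le_self_pow hn0.ne' p
  have hAB' : ∀ D : Subgroup G, (D = A ∨ D = B) → ∀ z ∈ ⁅A, B⁆, ∀ b ∈ D, z * b = b * z := by
    intro D hD
    have hle : ⁅⁅A, B⁆, D⁆ ≤ ⁅A, B⁆ := by
      rcases hD with h | h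
      · rw [h]
        exact (Subgroup.commutator_mono (hAB.trans inf_le_right) le_rfl).trans
          (Subgroup.commutator_comm B A).le
      · rw [h]
        exact Subgroup.commutator_mono (hAB.trans inf_le_left) le_rfl
    have hlt := Cfsg.Lib.PGroup.commutator_lt_of_isPGroup (hG.to_subgroup ⁅A, B⁆)
      (hG.to_subgroup D) (Subgroup.le_normalizer_iff_commutator_le_left.mpr hle) h0
    have hbot : ⁅⁅A, B⁆, D⁆ = ⊥ := by
      obtain ⟨n, hn⟩ := IsPGroup.iff_card.mp (hG.to_subgroup ⁅⁅A, B⁆, D⁆)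
      rcases Nat.eq_zero_or_pos n with hn0 | hn0
      · exact Subgroup.eq_bot_of_card_eq _ (by rw [hn, hn0, pow_zero])
      · exact absurd (Subgroup.eq_of_le_of_card_ge hlt.le
          (by rw [hcard', hn]; exact Nat.le_self_pow hn0.ne' p)) hlt.ne
    intro z hz b hb
    exact (Subgroup.mem_centralizer_iff.mp
      (Subgroup.commutator_eq_bot_iff_le_centralizer.mp hbot hz) b hb).symm
  have e1 := count_eq A B hcard' (hAB' B (Or.inr rfl))
  have e2 := count_eq (p := p) B A ((Subgroup.commutator_comm B A).symm ▸ hcard')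
    (fun z hz => hAB' A (Or.inl rfl) z ((Subgroup.commutator_comm B A) ▸ hz))
  have hswap : Nat.card {x : ↥A × ↥B // (x.1 : G) * x.2 = x.2 * x.1} =
      Nat.card {x : ↥B × ↥A // (x.1 : G) * x.2 = x.2 * x.1} :=
    Nat.card_congr ((Equiv.prodComm _ _).subtypeEquiv fun _ => eq_comm)
  rw [hswap, e2] at e1
  set CA := A ⊓ Subgroup.centralizer (B : Set G)
  set CB := B ⊓ Subgroup.centralizer (A : Set G)
  have hA : Nat.card CA * CA.relIndex A = Nat.card A := by
    rw [← Subgroup.relIndex_bot_left, ← Subgroup.relIndex_bot_left]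
    exact Subgroup.relIndex_mul_relIndex _ _ _ bot_le inf_le_left
  have hB : Nat.card CB * CB.relIndex B = Nat.card B := by
    rw [← Subgroup.relIndex_bot_left, ← Subgroup.relIndex_bot_left]
    exact Subgroup.relIndex_mul_relIndex _ _ _ bot_le inf_le_left
  rw [← hA, ← hB] at e1
  have hpos : 0 < Nat.card CA * Nat.card CB * (p - 1) :=
    Nat.mul_pos (Nat.mul_pos Nat.card_pos Nat.card_pos)
      (Nat.sub_pos_of_lt (Fact.out : p.Prime).one_lt)
  apply Nat.eq_of_mul_eq_mul_right hpos
  linarith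

end Cfsg.Agent.S3741
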