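import Cfsg.Statements.S3744
import Cfsg.Agent.Lib.Core.PSolvable
import Cfsg.Agent.Lib.Core.Fitting
import Cfsg.Agent.Lib.Coprime.Conjugacy
import Cfsg.Agent.Lib.Coprime.Action

set_option autoImplicit false
open Cfsg

namespace Cfsg.Agent.S3744

open Subgroup Cfsg.Lib.Core Cfsg.Lib.Coprime

universe u

/-- A `p`-complement exists and contains every `p'`-subgroup up to conjugation. -/
theorem main : ∀ (n : ℕ) (G : Type u) [Group G] [Finite G] (p : ℕ) [Fact p.Prime], Nat.card G = n →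
    Cfsg.IsPSolvable p G → ∃ H : Subgroup G, (Nat.card H).Coprime p ∧ (∃ k : ℕ, H.index = p ^ k) ∧
      ∀ U : Subgroup G, (Nat.card U).Coprime p → ∃ g : G, U.map (MulAut.conj g).toMonoidHom ≤ H := by
  intro n
  induction n using Nat.strong_induction_on with
  | _ n ih =>
  intro G _ _ p _ hn hG
  subst hn
  cases subsingleton_or_nontrivial G
  · refine ⟨⊥, by simp, ⟨0, ?_⟩, fun U _ => ⟨1, fun x _ => by simp [Subsingleton.elim x 1]⟩⟩
    rw [pow_zero, index_bot, Nat.card_unique]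
  obtain ⟨M, hM⟩ := exists_isMinNormal_univ (G := G)
  have := hM.1
  obtain ⟨Hb, hHc, ⟨k, hk⟩, hdom⟩ :=
    ih _ (card_quotient_lt hM.2.1) (G ⧸ M) p rfl (isPSolvable_quotient hG M)
  set f := QuotientGroup.mk' M
  set H1 := Hb.comap f with hH1
  have hidx : H1.index = p ^ k := by
    rw [hH1, index_comap_of_surjective _ (QuotientGroup.mk'_surjective M), hk]
  have hMH : M ≤ H1 := (QuotientGroup.ker_mk' M).symm.trans_le (ker_le_comap f Hb)
  have hcard : Nat.card H1 = Nat.card M * Nat.card Hb := by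
    rw [hH1, card_comap_eq _ (QuotientGroup.mk'_surjective M), QuotientGroup.ker_mk']
  have hdom1 : ∀ U : Subgroup G, (Nat.card U).Coprime p → ∃ g : G, U.map (MulAut.conj g).toMonoidHom ≤ H1 := by
    intro U hU
    have hUf : (Nat.card (U.map f)).Coprime p :=
      Nat.Coprime.coprime_dvd_left (Cfsg.Lib.Core.card_map_dvd f U) hU
    obtain ⟨gb, hgb⟩ := hdom (U.map f) hUf
    obtain ⟨g, rfl⟩ := QuotientGroup.mk'_surjective M gb
    refine ⟨g, ?_⟩
    rintro x ⟨u, hu, rfl⟩
    exact hgb ⟨f u, ⟨u, hu, rfl⟩, by simp [f]⟩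
  rcases minimal_normal_of_isPSolvable hG hM with hMp | hMp
  swap
  · exact ⟨H1, by rw [hcard]; exact Nat.Coprime.mul_left hMp hHc, ⟨k, hidx⟩, hdom1⟩
  obtain ⟨m, hm⟩ := IsPGroup.iff_card.mp hMp
  have hrel : M.relIndex H1 = Nat.card Hb := by
    have h1 := card_mul_relIndex hMH
    rw [hcard] at h1
    exact Nat.eq_of_mul_eq_mul_left Nat.card_pos h1
  obtain ⟨H, hHH1, hHcard, hMHs⟩ := exists_complement_of_coprime hMH
    (by rw [normalizer_eq_top]; exact le_top) (by
      rw [hrel, hm]; exact Nat.Coprime.pow_left _ hHc.symm)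
  rw [hrel] at hHcard
  have hHp : (Nat.card H).Coprime p := hHcard ▸ hHc
  refine ⟨H, hHp, ⟨k + m, ?_⟩, fun U hU => ?_⟩
  · have h1 := H.card_mul_index
    rw [← H1.card_mul_index, hcard, hidx, hHcard, hm, mul_comm (p ^ m), mul_assoc] at h1
    rw [Nat.eq_of_mul_eq_mul_left Nat.card_pos h1, pow_add, mul_comm]
  obtain ⟨g, hg⟩ := hdom1 U hU
  set U' := U.map (MulAut.conj g).toMonoidHom with hU'
  have hU'c : (Nat.card U').Coprime p := by
    rw [hU', card_map_of_injective (MulAut.conj g).injective]; exact hU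
  have hsol : Group.IsSolvable M := IsNilpotent.to_isSolvable (G := M) (h := hMp.isNilpotent)
  set A := H ⊓ (M ⊔ U') with hA
  have hsup : M ⊔ A = M ⊔ U' := by
    refine le_antisymm (sup_le le_sup_left inf_le_right) fun x hx => ?_
    have hxH1 : x ∈ M ⊔ H := by rw [hMHs]; exact sup_le hMH hg hx
    obtain ⟨a, ha, b, hb, rfl⟩ := mem_sup_of_normal_left.mp hxH1
    refine mul_mem (mem_sup_left ha) (mem_sup_right ⟨hb, ?_⟩)
    have e : b = a⁻¹ * (a * b) := by group
    rw [e]; exact (M ⊔ U').mul_mem ((M ⊔ U').inv_mem (mem_sup_left ha)) hx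
  have hAc : (Nat.card A).Coprime p :=
    Nat.Coprime.coprime_dvd_left (Subgroup.card_dvd_of_le inf_le_left) hHp
  have hcop : ∀ V : Subgroup G, (Nat.card V).Coprime p → (Nat.card V).Coprime (Nat.card M) := fun V hV => by
    rw [hm]; exact Nat.Coprime.pow_right _ hV
  have hnorm : ∀ V : Subgroup G, V ≤ normalizer (M : Set G) := fun V => by
    rw [normalizer_eq_top]; exact le_top
  have hcA : Nat.card U' = Nat.card A := by
    have h1 := card_sup_of_disjoint (hnorm A) (disjoint_of_coprime_card (hcop A hAc)).symm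
    have h2 := card_sup_of_disjoint (hnorm U') (disjoint_of_coprime_card (hcop U' hU'c)).symm
    rw [hsup, h2] at h1
    exact Nat.eq_of_mul_eq_mul_left Nat.card_pos h1
  obtain ⟨n, -, hn⟩ := exists_conj_of_coprime M A U' (hnorm A) (hcop A hAc) (Or.inr hsol)
    (hsup ▸ le_sup_right) hcA
  refine ⟨n⁻¹ * g, ?_⟩
  rw [← map_conj_conj, ← hU', hn, map_conj_conj, inv_mul_cancel, map_conj_one]
  exact inf_le_left


/-- A finite p-soluble group has a p-complement, all its p-complements are conjugate, and every subgroup of order prime to p lies in one of them. Here a p-complement is a subgroup of order prime to p whose index is a power of p. -/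
theorem result {G : Type*} [Group G] [Finite G] {p : ℕ} [Fact p.Prime] (hG : Cfsg.IsPSolvable p G) : (∃ H : Subgroup G, (Nat.card H).Coprime p ∧ ∃ n : ℕ, H.index = p ^ n) ∧ (∀ H₁ H₂ : Subgroup G, (Nat.card H₁).Coprime p → (∃ n : ℕ, H₁.index = p ^ n) → (Nat.card H₂).Coprime p → (∃ n : ℕ, H₂.index = p ^ n) → ∃ g : G, H₂ = H₁.map (MulAut.conj g).toMonoidHom) ∧ (∀ U : Subgroup G, (Nat.card U).Coprime p → ∃ H : Subgroup G, (Nat.card H).Coprime p ∧ (∃ n : ℕ, H.index = p ^ n) ∧ ∃ g : G, U.map (MulAut.conj g).toMonoidHom ≤ H) := by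
  obtain ⟨H, hH, hHi, hdom⟩ := main _ G p rfl hG
  refine ⟨⟨H, hH, hHi⟩, fun H₁ H₂ h1 h1i h2 h2i => ?_, fun U hU => ⟨H, hH, hHi, hdom U hU⟩⟩
  have key : ∀ K : Subgroup G, (Nat.card K).Coprime p → (∃ n : ℕ, K.index = p ^ n) →
      ∃ g : G, K.map (MulAut.conj g).toMonoidHom = H := by
    intro K hK ⟨a, ha⟩
    obtain ⟨g, hg⟩ := hdom K hK
    refine ⟨g, Subgroup.eq_of_le_of_card_ge hg (Nat.le_of_dvd Nat.card_pos ?_)⟩
    rw [Subgroup.card_map_of_injective (MulAut.conj g).injective]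
    refine (Nat.Coprime.pow_right a hH).dvd_of_dvd_mul_right ?_
    rw [← ha, K.card_mul_index]
    exact H.card_subgroup_dvd_card
  obtain ⟨a, ha⟩ := key H₁ h1 h1i
  obtain ⟨b, hb⟩ := key H₂ h2 h2i
  refine ⟨b⁻¹ * a, ?_⟩
  rw [← Cfsg.Lib.Coprime.map_conj_conj, ha, ← hb, Cfsg.Lib.Coprime.map_conj_conj, inv_mul_cancel,
    Cfsg.Lib.Coprime.map_conj_one]

end Cfsg.Agent.S3744
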