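import Cfsg.Statements.S3745
import Cfsg.Agent.Lib.Solv.Hall
import Cfsg.Agent.Lib.Coprime.Action
import Cfsg.Agent.Lib.Core.PSolvable
import Cfsg.Agent.Lib.Core.Fitting

set_option autoImplicit false
open Cfsg

namespace Cfsg.Agent.S3745

open Subgroup
open scoped Pointwise

universe u

variable {X : Type u} [Group X] [Finite X] {π : Set ℕ}

omit [Finite X] in
theorem hall_subgroupOf {H G : Subgroup X} (h : IsPiHallOf π H G) : IsPiHall π (H.subgroupOf G) :=
  ⟨fun p hp hd => h.2.1 p hp (Nat.card_congr (subgroupOfEquivOfLe h.1).toEquiv ▸ hd), h.2.2⟩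

omit [Finite X] in
theorem hallOf_map {G : Subgroup X} {H : Subgroup G} (h : IsPiHall π H) :
    IsPiHallOf π (H.map G.subtype) G :=
  ⟨map_subtype_le H, fun p hp hd => h.1 p hp (Cfsg.Lib.Core.card_map_subtype H ▸ hd),
    fun p hp hpπ hd => h.2 p hp hpπ (by
      rwa [relIndex, subgroupOf, comap_map_eq_self_of_injective G.subtype_injective] at hd)⟩

omit [Finite X] in
theorem map_map_conj {G : Subgroup X} (H : Subgroup G) (g : G) :
    (MulAut.conj g • H).map G.subtype = (H.map G.subtype).map (MulAut.conj (g : X)).toMonoidHom := by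
  rw [Cfsg.Lib.Core.conj_smul_eq_map, map_map, map_map]
  rfl

theorem hallOf_conj {G H₁ H₂ : Subgroup X} (hsolv : Group.IsSolvable G) (h1 : IsPiHallOf π H₁ G)
    (h2 : IsPiHallOf π H₂ G) : ∃ g ∈ G, H₂ = H₁.map (MulAut.conj g).toMonoidHom := by
  have := hsolv
  obtain ⟨g, hg⟩ := Cfsg.Lib.Solv.le_conj_of_isPiHall (hall_subgroupOf h1) (K := H₂.subgroupOf G)
    (hall_subgroupOf h2).1
  obtain ⟨g', hg'⟩ := Cfsg.Lib.Solv.le_conj_of_isPiHall (hall_subgroupOf h2) (K := H₁.subgroupOf G)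
    (hall_subgroupOf h1).1
  have h3 : H₂ ≤ H₁.map (MulAut.conj (g : X)).toMonoidHom := by
    have h4 := map_mono (f := G.subtype) hg
    rwa [map_map_conj, subgroupOf_map_subtype, subgroupOf_map_subtype, inf_of_le_left h2.1,
      inf_of_le_left h1.1] at h4
  have h3' : H₁ ≤ H₂.map (MulAut.conj (g' : X)).toMonoidHom := by
    have h4 := map_mono (f := G.subtype) hg'
    rwa [map_map_conj, subgroupOf_map_subtype, subgroupOf_map_subtype, inf_of_le_left h2.1,
      inf_of_le_left h1.1] at h4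
  refine ⟨g, g.2, Subgroup.eq_of_le_of_card_ge h3 ?_⟩
  rw [card_map_of_injective (MulAut.conj (g : X)).injective]
  exact (Nat.le_of_dvd Nat.card_pos (Subgroup.card_dvd_of_le h3')).trans
    (card_map_of_injective (MulAut.conj (g' : X)).injective).le

theorem exists_invariant_hall (A G : Subgroup X) (hAG : A ≤ normalizer (G : Set X))
    (hcop : (Nat.card A).Coprime (Nat.card G)) (hsolv : Group.IsSolvable G) (π : Set ℕ) :
    ∃ H : Subgroup X, IsPiHallOf π H G ∧ A ≤ normalizer (H : Set X) := by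
  have := hsolv
  obtain ⟨H0, hH0⟩ := Cfsg.Lib.Solv.exists_isPiHall π G
  have h0 := hallOf_map hH0
  obtain ⟨g, hg, hinv⟩ := Cfsg.Lib.Coprime.exists_conj_invariant hAG hcop (Or.inr hsolv) (H0.map G.subtype) (by
    intro a ha
    have e : G.map (MulAut.conj a).toMonoidHom = G := Cfsg.Lib.Core.map_conj_eq_of_mem_normalizer (hAG ha)
    refine hallOf_conj hsolv h0 (H₂ := (H0.map G.subtype).map (MulAut.conj a).toMonoidHom) ?_
    refine ⟨(map_mono (map_subtype_le _)).trans e.le, fun p hp hd => h0.2.1 p hp ?_, fun p hp hpπ hd => h0.2.2 p hp hpπ ?_⟩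
    · rwa [card_map_of_injective (MulAut.conj a).injective] at hd
    · rw [← relIndex_map_map_of_injective (f := (MulAut.conj a).toMonoidHom) (hf := (MulAut.conj a).injective)]
      rw [e]
      exact hd)
  refine ⟨_, ⟨?_, ?_, ?_⟩, hinv⟩
  · intro y hy
    obtain ⟨z, hz, rfl⟩ := hy
    exact mul_mem (mul_mem hg (h0.1 hz)) (inv_mem hg)
  · intro p hp hd
    rw [card_map_of_injective (MulAut.conj g).injective] at hd
    exact h0.2.1 p hp hd
  · intro p hp hpπ hd
    refine h0.2.2 p hp hpπ ?_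
    have e : G.map (MulAut.conj g).toMonoidHom = G :=
      Cfsg.Lib.Core.map_conj_eq_of_mem_normalizer (le_normalizer hg)
    rw [← relIndex_map_map_of_injective (f := (MulAut.conj g).toMonoidHom) (hf := (MulAut.conj g).injective), e]
    exact hd

theorem exists_invariant_hall_ge : ∀ (n : ℕ) (X : Type u) [Group X] [Finite X] (A G U : Subgroup X),
    Nat.card G = n → A ≤ normalizer (G : Set X) → (Nat.card A).Coprime (Nat.card G) →
    Group.IsSolvable G → U ≤ G → A ≤ normalizer (U : Set X) →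
    (∀ p : ℕ, p.Prime → p ∣ Nat.card U → p ∈ π) →
    ∃ H : Subgroup X, IsPiHallOf π H G ∧ A ≤ normalizer (H : Set X) ∧ U ≤ H := by
  intro n
  induction n using Nat.strong_induction_on with
  | _ n ih =>
  intro X _ _ A G U hn hAG hcop hsolv hUG hAU hU
  subst hn
  by_cases hG : G = ⊥
  · refine ⟨G, ⟨le_rfl, fun p hp hd => ?_, fun p hp _ hd => ?_⟩, hAG, hUG⟩
    · rw [hG, card_bot] at hd; exact absurd (Nat.dvd_one.mp hd) hp.ne_one
    · rw [relIndex_self] at hd; exact absurd (Nat.dvd_one.mp hd) hp.ne_one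
  have : Nontrivial G := G.nontrivial_iff_ne_bot.mpr hG
  have := hsolv
  -- an invariant normal p-subgroup
  obtain ⟨M0, hM0⟩ := Cfsg.Lib.Core.exists_isMinNormal_univ (G := G)
  obtain ⟨-, p, hp, -, hM0p⟩ := Cfsg.Lib.Core.minimal_solvable_elementary hM0 inferInstance
  have := Fact.mk hp
  set M := (Cfsg.pCore p G).map G.subtype with hM
  have hMG : M ≤ G := map_subtype_le _
  have hM1 : M ≠ ⊥ := fun h => hM0.2.1 (eq_bot_iff.mpr
    ((Cfsg.Lib.Core.le_pCore' hM0.1 hM0p).trans
      ((map_eq_bot_iff_of_injective _ G.subtype_injective).mp h).le))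
  have hNM : normalizer (G : Set X) ≤ normalizer (M : Set X) :=
    Cfsg.Lib.Core.normalizer_le_normalizer_map_char _
  obtain ⟨m, hm⟩ := IsPGroup.iff_card.mp ((Cfsg.Lib.Core.pCore_isPGroup p G).map G.subtype : IsPGroup p M)
  change Nat.card M = p ^ m at hm
  set Y := normalizer (M : Set X) with hY
  have hMY : M ≤ Y := le_normalizer
  have hGY : G ≤ Y := le_normalizer.trans hNM
  have hAY : A ≤ Y := hAG.trans hNM
  have : (M.subgroupOf Y).Normal := normal_in_normalizer
  set f := QuotientGroup.mk' (M.subgroupOf Y)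
  have hker : f.ker = M.subgroupOf Y := QuotientGroup.ker_mk' _
  set Gb := (G.subgroupOf Y).map f with hGb
  have hcardG : Nat.card Gb * Nat.card M = Nat.card G := by
    have h1 := (M.subgroupOf G).index_mul_card
    rw [Nat.card_congr (subgroupOfEquivOfLe hMG).toEquiv] at h1
    have h2 : Nat.card Gb = (M.subgroupOf G).index := by
      rw [hGb, ← relIndex_bot_left, ← (Subgroup.map_bot f), relIndex_map_map, bot_sup_eq,
        sup_of_le_left (hker.le.trans (subgroupOf_mono Y hMG)), hker, relIndex_subgroupOf hGY]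
      rfl
    rw [h2, h1]
  have hlt : Nat.card Gb < Nat.card G := by
    rw [← hcardG]
    exact lt_mul_of_one_lt_right Nat.card_pos (M.one_lt_card_iff_ne_bot.mpr hM1)
  have hAb : (A.subgroupOf Y).map f ≤ normalizer (Gb : Set _) := by
    refine (map_mono ?_).trans (le_normalizer_map f)
    intro a ha
    exact (le_normalizer_comap Y.subtype) (hAG ha)
  have hsolb : Group.IsSolvable Gb := Cfsg.Lib.Core.isSolvable_map
    (Group.isSolvable_of_isSolvable_injective (f := (subgroupOfEquivOfLe hGY).toMonoidHom) (subgroupOfEquivOfLe hGY).injective) f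
  have hcopb : (Nat.card ((A.subgroupOf Y).map f)).Coprime (Nat.card Gb) := by
    refine (hcop.coprime_dvd_left ?_).coprime_dvd_right ⟨_, hcardG.symm⟩
    exact (Cfsg.Lib.Core.card_map_dvd f _).trans (Nat.card_congr (subgroupOfEquivOfLe hAY).toEquiv).dvd
  obtain ⟨Hb, hHb, hAHb, hUHb⟩ := ih _ hlt _ ((A.subgroupOf Y).map f) Gb ((U.subgroupOf Y).map f) rfl
    hAb hcopb hsolb (map_mono (subgroupOf_mono Y hUG)) ((map_mono (by
      intro a ha
      exact (le_normalizer_comap Y.subtype) (hAU ha))).trans (le_normalizer_map f)) (fun q hq hd => hU q hq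
        ((hd.trans (Cfsg.Lib.Core.card_map_dvd f _)).trans
          (Nat.card_congr (subgroupOfEquivOfLe (hUG.trans hGY)).toEquiv).dvd))
  set H1 := (Hb.comap f).map Y.subtype with hH1
  have hH1G : H1 ≤ G := by
    rintro y ⟨z, hz, rfl⟩
    obtain ⟨w, hw, hwe⟩ := hHb.1 (show f z ∈ Hb from hz)
    have h1 : w⁻¹ * z ∈ M.subgroupOf Y := QuotientGroup.eq.mp hwe
    have : (z : X) = (w : X) * ((w⁻¹ * z : Y) : X) := by simp
    change (z : X) ∈ G
    rw [this]
    exact mul_mem hw (hMG h1)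
  have hMH1 : M ≤ H1 := fun y hy => ⟨⟨y, hMY hy⟩, by
    have h1 : f ⟨y, hMY hy⟩ = 1 := (QuotientGroup.eq_one_iff _).mpr hy
    show f ⟨y, hMY hy⟩ ∈ Hb
    rw [h1]; exact one_mem Hb, rfl⟩
  have hUH1 : U ≤ H1 := fun y hy => ⟨⟨y, hGY (hUG hy)⟩, hUHb ⟨⟨y, hGY (hUG hy)⟩, hy, rfl⟩, rfl⟩
  have hAH1 : A ≤ normalizer (H1 : Set X) := by
    intro a ha
    refine le_normalizer_map Y.subtype ⟨⟨a, hAY ha⟩, ?_, rfl⟩
    exact le_normalizer_comap f (hAHb ⟨⟨a, hAY ha⟩, ha, rfl⟩)
  have hcardH1 : Nat.card H1 = Nat.card Hb * Nat.card M := by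
    rw [hH1, Cfsg.Lib.Core.card_map_subtype, Cfsg.Lib.Core.card_comap_eq _ (QuotientGroup.mk'_surjective _), hker,
      Nat.card_congr (subgroupOfEquivOfLe hMY).toEquiv, mul_comm]
  have hrel : H1.relIndex G = Hb.relIndex Gb := by
    have h1 := Cfsg.Lib.Core.card_mul_relIndex hH1G
    have h2 := Cfsg.Lib.Core.card_mul_relIndex hHb.1
    rw [hcardH1, ← hcardG, ← h2] at h1
    have h3 : Nat.card Hb * Nat.card M * H1.relIndex G = Nat.card Hb * Nat.card M * Hb.relIndex Gb := by
      rw [h1]; ring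
    exact Nat.eq_of_mul_eq_mul_left (Nat.mul_pos Nat.card_pos Nat.card_pos) h3
  by_cases hpπ : p ∈ π
  · refine ⟨H1, ⟨hH1G, fun q hq hd => ?_, fun q hq hqπ hd => hHb.2.2 q hq hqπ (hrel ▸ hd)⟩, hAH1, hUH1⟩
    rw [hcardH1, hm] at hd
    rcases hq.dvd_mul.mp hd with h | h
    · exact hHb.2.1 q hq h
    · exact ((Nat.prime_dvd_prime_iff_eq hq hp).mp (hq.dvd_of_dvd_pow h)) ▸ hpπ
  by_cases hH1 : Nat.card H1 < Nat.card G
  · obtain ⟨H, hH, hAH, hUH⟩ := ih _ hH1 X A H1 U rfl hAH1 (hcop.coprime_dvd_right (Subgroup.card_dvd_of_le hH1G))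
      (Cfsg.Lib.Core.isSolvable_of_le hH1G hsolv) hUH1 hAU hU
    refine ⟨H, ⟨hH.1.trans hH1G, hH.2.1, fun q hq hqπ hd => ?_⟩, hAH, hUH⟩
    rw [← relIndex_mul_relIndex H H1 G hH.1 hH1G] at hd
    rcases hq.dvd_mul.mp hd with h | h
    · exact hH.2.2 q hq hqπ h
    · exact hHb.2.2 q hq hqπ (hrel ▸ h)
  -- `G = M ⋊ K`
  have hH1eq : H1 = G := Subgroup.eq_of_le_of_card_ge hH1G (not_lt.mp hH1)
  obtain ⟨K, hK, hAK⟩ := exists_invariant_hall A G hAG hcop hsolv π
  set W := M ⊔ U with hW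
  have hWG : W ≤ G := sup_le hMG hUG
  have hUM : U ≤ normalizer (M : Set X) := hUG.trans hGY
  have hAW : A ≤ normalizer (W : Set X) :=
    fun a ha => by
      rw [Cfsg.Lib.Core.mem_normalizer_iff_map_conj, hW, Subgroup.map_sup,
        Cfsg.Lib.Core.map_conj_eq_of_mem_normalizer (hAY ha), Cfsg.Lib.Core.map_conj_eq_of_mem_normalizer (hAU ha)]
  have hMU : Disjoint M U := disjoint_of_coprime_natCard (Nat.coprime_of_dvd fun q hq h1 h2 => by
    rw [hm] at h1
    exact hpπ (((Nat.prime_dvd_prime_iff_eq hq hp).mp (hq.dvd_of_dvd_pow h1)) ▸ hU q hq h2))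
  have hMK : Nat.card K * Nat.card M = Nat.card G := by
    have h2 := Cfsg.Lib.Core.card_mul_relIndex hK.1
    have hdvd : Nat.card M ∣ K.relIndex G := by
      refine Nat.Coprime.dvd_of_dvd_mul_left (Nat.coprime_of_dvd fun q hq h1 h3 => ?_) (h2.symm ▸ Subgroup.card_dvd_of_le hMG)
      rw [hm] at h1
      exact hpπ (((Nat.prime_dvd_prime_iff_eq hq hp).mp (hq.dvd_of_dvd_pow h1)) ▸ hK.2.1 q hq h3)
    obtain ⟨c, hc⟩ := hdvd
    suffices hc1 : c = 1 by rw [← h2, hc, hc1, mul_one]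
    by_contra hc1
    obtain ⟨q, hq, hqc⟩ := Nat.exists_prime_and_dvd hc1
    have hqK : q ∣ K.relIndex G := hc ▸ hqc.mul_left _
    have hqG : q ∣ Nat.card Gb * Nat.card M := by
      rw [hcardG, ← h2]; exact hqK.mul_left _
    have hqπ : q ∉ π := fun h => hK.2.2 q hq h hqK
    rcases hq.dvd_mul.mp hqG with h | h
    · refine hqπ (hHb.2.1 q hq ?_)
      have h4 : Nat.card Hb * Nat.card M = Nat.card Gb * Nat.card M := by rw [← hcardH1, hH1eq, hcardG]
      rw [Nat.eq_of_mul_eq_mul_right Nat.card_pos h4]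
      exact h
    · -- q = p: the p-part of G is exactly M
      rw [hm] at h
      have hqp := (Nat.prime_dvd_prime_iff_eq hq hp).mp (hq.dvd_of_dvd_pow h)
      subst hqp
      have h5 : q ^ (m + 1) ∣ Nat.card Gb * Nat.card M := by
        rw [hcardG, ← h2, hc, hm, pow_succ]
        exact Dvd.dvd.mul_left (Nat.mul_dvd_mul_left _ hqc) _
      rw [hm, pow_succ, mul_comm (Nat.card Gb)] at h5
      have h6 := Nat.dvd_of_mul_dvd_mul_left (pow_pos hq.pos m) h5
      have h4 : Nat.card Hb * Nat.card M = Nat.card Gb * Nat.card M := by rw [← hcardH1, hH1eq, hcardG]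
      exact hqπ (hHb.2.1 q hq (by rw [Nat.eq_of_mul_eq_mul_right Nat.card_pos h4]; exact h6))
  have hcW : Nat.card W = Nat.card M * Nat.card U := by
    have hM' : (M.subgroupOf W).Normal :=
      (normal_subgroupOf_iff_le_normalizer le_sup_left).mpr (sup_le le_normalizer hUM)
    have h1 : (M.subgroupOf W).IsComplement' (U.subgroupOf W) := by
      refine isComplement'_of_disjoint_and_mul_eq_univ ?_ ?_
      · rw [disjoint_iff, eq_bot_iff]
        rintro z ⟨h1, h2⟩
        exact mem_bot.mpr (Subtype.ext (mem_bot.mp (hMU.le_bot ⟨h1, h2⟩)))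
      · rw [← normal_mul, ← subgroupOf_sup le_sup_left le_sup_right, subgroupOf_self, coe_top]
    rw [← h1.card_mul_card, Nat.card_congr (subgroupOfEquivOfLe (le_sup_left : M ≤ W)).toEquiv,
      Nat.card_congr (subgroupOfEquivOfLe (le_sup_right : U ≤ W)).toEquiv]
  have hUW : IsPiHallOf π U W := by
    refine ⟨le_sup_right, hU, fun q hq hqπ hd => hpπ ?_⟩
    have h2 := Cfsg.Lib.Core.card_mul_relIndex (le_sup_right : U ≤ W)
    rw [hcW, mul_comm (Nat.card M)] at h2
    rw [Nat.eq_of_mul_eq_mul_left Nat.card_pos h2, hm] at hd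
    exact ((Nat.prime_dvd_prime_iff_eq hq hp).mp (hq.dvd_of_dvd_pow hd)) ▸ hqπ
  have hKW : IsPiHallOf π (K ⊓ W) W := by
    refine ⟨inf_le_right, fun q hq hd => hK.2.1 q hq (hd.trans (Subgroup.card_dvd_of_le inf_le_left)),
      fun q hq hqπ hd => hpπ ?_⟩
    have h1 : K.relIndex W ∣ Nat.card M := by
      have h2 : K.relIndex W ≤ K.relIndex G := relIndex_le_of_le_right hWG (by rw [relIndex]; exact index_ne_zero_of_finite)
      -- `W = M (K ⊓ W)`
      have hsup : M ⊔ K = G := by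
        refine Subgroup.eq_of_le_of_card_ge (sup_le hMG hK.1) (Nat.le_of_dvd Nat.card_pos ?_)
        rw [← hMK]
        refine Nat.Coprime.mul_dvd_of_dvd_of_dvd ?_ (Subgroup.card_dvd_of_le le_sup_right) (Subgroup.card_dvd_of_le le_sup_left)
        exact Nat.coprime_of_dvd fun r hr h1 h3 => by
          rw [hm] at h3
          exact hpπ (((Nat.prime_dvd_prime_iff_eq hr hp).mp (hr.dvd_of_dvd_pow h3)) ▸ hK.2.1 r hr h1)
      have hWs : M ⊔ (K ⊓ W) = W := by
        refine le_antisymm (sup_le le_sup_left inf_le_right) fun w hw => ?_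
        have hw' : w ∈ ((M ⊔ K : Subgroup X) : Set X) := by rw [hsup]; exact hWG hw
        rw [coe_mul_of_right_le_normalizer_left _ _ (hK.1.trans hGY)] at hw'
        obtain ⟨a, ha, b, hb, rfl⟩ := hw'
        refine mul_mem (mem_sup_left ha) (mem_sup_right ⟨hb, ?_⟩)
        have : b = a⁻¹ * (a * b) := by group
        rw [this]; exact W.mul_mem (W.inv_mem (mem_sup_left ha : a ∈ W)) hw
      have h5 : (K ⊓ W).relIndex (M ⊔ (K ⊓ W)) ∣ Nat.card M := by
        have : (M.subgroupOf (M ⊔ (K ⊓ W))).Normal :=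
          (normal_subgroupOf_iff_le_normalizer le_sup_left).mpr
            (sup_le le_normalizer ((inf_le_left.trans hK.1).trans hGY))
        have h6 := Cfsg.Lib.Core.card_sup_dvd_mul ((K ⊓ W).subgroupOf (M ⊔ (K ⊓ W))) (M.subgroupOf (M ⊔ (K ⊓ W)))
        have h7 := Cfsg.Lib.Core.card_mul_relIndex (le_sup_right : K ⊓ W ≤ M ⊔ (K ⊓ W))
        rw [← subgroupOf_sup le_sup_right le_sup_left, sup_comm (K ⊓ W) M, subgroupOf_self, Subgroup.card_top,
          Nat.card_congr (subgroupOfEquivOfLe le_sup_right).toEquiv,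
          Nat.card_congr (subgroupOfEquivOfLe le_sup_left).toEquiv, ← h7] at h6
        exact Nat.dvd_of_mul_dvd_mul_left Nat.card_pos h6
      rwa [hWs, inf_relIndex_right] at h5
    rw [inf_relIndex_right] at hd
    have hd' := hd.trans h1
    rw [hm] at hd'
    exact ((Nat.prime_dvd_prime_iff_eq hq hp).mp (hq.dvd_of_dvd_pow hd')) ▸ hqπ
  have hsolW : Group.IsSolvable W := Cfsg.Lib.Core.isSolvable_of_le hWG hsolv
  obtain ⟨g, hg, hge⟩ := hallOf_conj hsolW hKW hUW
  obtain ⟨c, hc, hce⟩ := Cfsg.Lib.Coprime.exists_centralizer_conj hAW (hcop.coprime_dvd_right (Subgroup.card_dvd_of_le hWG))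
    (Or.inr hsolW) ((le_inf hAK hAW).trans inf_normalizer_le_normalizer_inf) hAU hg hge
  refine ⟨K.map (MulAut.conj c).toMonoidHom, ⟨?_, ?_, ?_⟩, ?_, hce ▸ map_mono inf_le_left⟩
  · rintro y ⟨z, hz, rfl⟩
    exact mul_mem (mul_mem (hWG hc.1) (hK.1 hz)) (inv_mem (hWG hc.1))
  · intro q hq hd
    rw [card_map_of_injective (MulAut.conj c).injective] at hd
    exact hK.2.1 q hq hd
  · intro q hq hqπ hd
    refine hK.2.2 q hq hqπ ?_
    have e : G.map (MulAut.conj c).toMonoidHom = G :=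
      Cfsg.Lib.Core.map_conj_eq_of_mem_normalizer (le_normalizer (hWG hc.1))
    rw [← relIndex_map_map_of_injective (f := (MulAut.conj c).toMonoidHom) (hf := (MulAut.conj c).injective), e]
    exact hd
  · intro a ha
    rw [Cfsg.Lib.Core.mem_normalizer_iff_map_conj]
    have hcomm : MulAut.conj a * MulAut.conj c = MulAut.conj c * MulAut.conj a := by
      rw [← map_mul, ← map_mul, mem_centralizer_iff.mp hc.2 a ha]
    calc (K.map (MulAut.conj c).toMonoidHom).map (MulAut.conj a).toMonoidHom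
        = K.map (MulAut.conj a * MulAut.conj c).toMonoidHom := by rw [map_map]; rfl
      _ = (K.map (MulAut.conj a).toMonoidHom).map (MulAut.conj c).toMonoidHom := by rw [hcomm, map_map]; rfl
      _ = _ := by rw [Cfsg.Lib.Core.map_conj_eq_of_mem_normalizer (hAK ha)]


/-- Coprime action on a solvable group and Hall subgroups. Let A and G be subgroups of a finite group with A normalizing G, the orders of A and G coprime, and G solvable, and let π be a set of primes. Then (a) G has an A-invariant Hall π-subgroup; (b) any two A-invariant Hall π-subgroups of G are conjugate by an element of C_G(A); (c) every A-invariant π-subgroup of G lies in an A-invariant Hall π-subgroup of G. -/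
theorem result {X : Type*} [Group X] [Finite X] (A G : Subgroup X) (hAG : A ≤ Subgroup.normalizer (G : Set X)) (hcop : (Nat.card A).Coprime (Nat.card G)) (hsolv : Group.IsSolvable G) (π : Set ℕ) : (∃ H : Subgroup X, Cfsg.IsPiHallOf π H G ∧ A ≤ Subgroup.normalizer (H : Set X)) ∧ (∀ H₁ H₂ : Subgroup X, Cfsg.IsPiHallOf π H₁ G → A ≤ Subgroup.normalizer (H₁ : Set X) → Cfsg.IsPiHallOf π H₂ G → A ≤ Subgroup.normalizer (H₂ : Set X) → ∃ c ∈ G ⊓ Subgroup.centralizer (A : Set X), H₂ = H₁.map (MulAut.conj c).toMonoidHom) ∧ (∀ U : Subgroup X, U ≤ G → A ≤ Subgroup.normalizer (U : Set X) → (∀ p : ℕ, p.Prime → p ∣ Nat.card U → p ∈ π) → ∃ H : Subgroup X, Cfsg.IsPiHallOf π H G ∧ A ≤ Subgroup.normalizer (H : Set X) ∧ U ≤ H) := by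
  refine ⟨exists_invariant_hall A G hAG hcop hsolv π, fun H₁ H₂ h1 hA1 h2 hA2 => ?_, fun U hUG hAU hU => ?_⟩
  · obtain ⟨g, hg, hge⟩ := hallOf_conj hsolv h1 h2
    exact Cfsg.Lib.Coprime.exists_centralizer_conj hAG hcop (Or.inr hsolv) hA1 hA2 hg hge
  · exact exists_invariant_hall_ge _ X A G U rfl hAG hcop hsolv hUG hAU hU

end Cfsg.Agent.S3745
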