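import Cfsg.Statements.S3746
import Cfsg.Agent.Lib.Core.Layer
import Mathlib.GroupTheory.Abelianization.Defs
-- import your own Cfsg.Agent.* helpers here

set_option autoImplicit false
open Cfsg

namespace Cfsg.Agent.S3746

open scoped commutatorElement


/-- Let Z ≤ Z(G) be a central subgroup of a finite group G and E a subgroup of G containing Z whose image E/Z is a component of G/Z (subnormal and quasisimple). Then the derived subgroup [E, E] is a component of G. -/
theorem result {G : Type*} [Group G] [Finite G] (Z : Subgroup G) (hZ : Z ≤ Subgroup.center G) [Z.Normal] (E : Subgroup G) (hZE : Z ≤ E) (hE : Cfsg.IsComponent (E.map (QuotientGroup.mk' Z))) : Cfsg.IsComponent ⁅E, E⁆ := by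
  classical
  obtain ⟨hsn, hperf, hsimp⟩ := hE
  set f := QuotientGroup.mk' Z with hf
  set L := ⁅E, E⁆ with hL
  have hLE : L ≤ E := Subgroup.commutator_le_self E
  have hmap : L.map f = E.map f := by
    rw [hL, Subgroup.map_commutator]
    exact Subgroup.isPerfect_iff.1 hperf
  have hsup : L ⊔ Z = E := by
    have h1 := congrArg (Subgroup.comap f) hmap
    rwa [Subgroup.comap_map_eq, Subgroup.comap_map_eq, hf, QuotientGroup.ker_mk',
      sup_eq_left.mpr hZE] at h1
  have hLL : ⁅L, L⁆ = L := by
    refine le_antisymm (Subgroup.commutator_le_self L) ?_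
    conv_lhs => rw [hL]
    rw [Subgroup.commutator_le]
    intro a ha b hb
    rw [← hsup] at ha hb
    obtain ⟨l, hl, z, hz, rfl⟩ := Subgroup.mem_sup_of_normal_right.mp ha
    obtain ⟨m, hm, w, hw, rfl⟩ := Subgroup.mem_sup_of_normal_right.mp hb
    have cz : ∀ g : G, g * z = z * g := fun g => Subgroup.mem_center_iff.mp (hZ hz) g
    have cw : ∀ g : G, g * w = w * g := fun g => Subgroup.mem_center_iff.mp (hZ hw) g
    have e : ⁅l * z, m * w⁆ = ⁅l, m⁆ := by
      rw [commutatorElement_def, commutatorElement_def, mul_inv_rev, mul_inv_rev]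
      calc l * z * (m * w) * (z⁻¹ * l⁻¹) * (w⁻¹ * m⁻¹)
          = l * (z * (m * w)) * z⁻¹ * l⁻¹ * w⁻¹ * m⁻¹ := by simp only [mul_assoc]
        _ = l * m * (w * l⁻¹) * w⁻¹ * m⁻¹ := by rw [← cz]; simp [mul_assoc]
        _ = l * m * l⁻¹ * m⁻¹ := by rw [← cw]; simp [mul_assoc]
    rw [e]
    exact Subgroup.commutator_mem_commutator hl hm
  refine ⟨?_, Subgroup.isPerfect_iff.2 hLL, ?_⟩
  · refine Cfsg.Lib.Core.isSubnormal_commutator_self ?_
    have := Subgroup.IsSubnormal.comap f hsn
    rwa [Subgroup.comap_map_eq, hf, QuotientGroup.ker_mk', sup_eq_left.mpr hZE] at this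
  let g : L →* ↥(E.map f) := (f.comp L.subtype).codRestrict _ fun l => ⟨l, hLE l.2, rfl⟩
  have hg : Function.Surjective g := by
    rintro ⟨y, hy⟩
    rw [← hmap] at hy
    obtain ⟨x, hx, rfl⟩ := hy
    exact ⟨⟨x, hx⟩, rfl⟩
  set h := (QuotientGroup.mk' (Subgroup.center ↥(E.map f))).comp g with hh
  have hker : h.ker = Subgroup.center L := by
    refine le_antisymm (fun k hk => ?_) (fun k hk => ?_)
    · have hk' : g k ∈ Subgroup.center ↥(E.map f) := (QuotientGroup.eq_one_iff _).mp hk
      have hz : ∀ l : L, ⁅(k : G), (l : G)⁆ ∈ Z := fun l => by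
        have h1 : g l * g k = g k * g l := Subgroup.mem_center_iff.mp hk' (g l)
        have h2 : f (l : G) * f (k : G) = f (k : G) * f (l : G) := congrArg Subtype.val h1
        rw [← QuotientGroup.ker_mk' Z, MonoidHom.mem_ker, ← hf, map_commutatorElement,
          commutatorElement_eq_one_iff_mul_comm, h2]
      let φ : L →* Subgroup.center G :=
        { toFun := fun l => ⟨⁅(k : G), (l : G)⁆, hZ (hz l)⟩
          map_one' := Subtype.ext (by simp [commutatorElement_def])
          map_mul' := fun a b => Subtype.ext (by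
            change ⁅(k : G), (a : G) * b⁆ = ⁅(k : G), (a : G)⁆ * ⁅(k : G), (b : G)⁆
            have h1 := Subgroup.mem_center_iff.mp (hZ (hz b)) (a : G)
            calc ⁅(k : G), (a : G) * b⁆ = ⁅(k : G), (a : G)⁆ * ((a : G) * ⁅(k : G), (b : G)⁆) * (a : G)⁻¹ := by
                  simp [commutatorElement_def, mul_assoc]
              _ = _ := by rw [h1]; simp [mul_assoc]) }
      rw [Subgroup.mem_center_iff]
      intro l
      have hl : l ∈ φ.ker := by
        have hle : commutator L ≤ φ.ker := by
          rw [commutator_def, Subgroup.commutator_le]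
          intro a _ b _
          rw [MonoidHom.mem_ker, map_commutatorElement, commutatorElement_eq_one_iff_mul_comm]
          exact Subtype.ext (Subgroup.mem_center_iff.mp (φ b).2 (φ a : G))
        apply hle
        rw [Group.isPerfect_def.1 (Subgroup.isPerfect_iff.2 hLL)]
        exact Subgroup.mem_top l
      exact Subtype.ext (commutatorElement_eq_one_iff_mul_comm.mp (congrArg Subtype.val hl)).symm
    · refine (QuotientGroup.eq_one_iff _).mpr (Subgroup.mem_center_iff.mpr fun y => ?_)
      obtain ⟨l, rfl⟩ := hg y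
      rw [← map_mul, ← map_mul, Subgroup.mem_center_iff.mp hk l]
  have := hsimp
  exact ((QuotientGroup.quotientMulEquivOfEq hker).symm.trans
    (QuotientGroup.quotientKerEquivOfSurjective h
      ((QuotientGroup.mk'_surjective _).comp hg))).isSimpleGroup

end Cfsg.Agent.S3746
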