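import Cfsg.Statements.S3747
import Cfsg.Agent.Lib.Core.Layer
-- import your own Cfsg.Agent.* helpers here

set_option autoImplicit false
open Cfsg

namespace Cfsg.Agent.S3747

open Cfsg.Lib.Core

theorem central_eq_one {G : Type*} [Group G] [Finite G] (T : Finset (Subgroup G))
    (hT : ∀ L ∈ T, Cfsg.IsComponent L ∧ Subgroup.center L = ⊥) :
    ∀ z ∈ sSup (T : Set (Subgroup G)), (∀ y ∈ sSup (T : Set (Subgroup G)), z * y = y * z) → z = 1 := by
  classical
  induction T using Finset.induction_on with
  | empty => intro z hz _; simpa using hz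
  | insert L s hLs ih =>
    intro z hz hcomm
    rw [Finset.coe_insert, sSup_insert] at hz hcomm
    have hc : ⁅L, sSup (s : Set (Subgroup G))⁆ = ⊥ := by
      rw [Subgroup.commutator_comm]
      refine commutator_sSup_left_eq_bot fun M hM => ?_
      exact component_commute (hT M (Finset.mem_insert_of_mem hM)).1
        (hT L (Finset.mem_insert_self L s)).1 fun h => hLs (h ▸ hM)
    obtain ⟨l, hl, h, hh, rfl⟩ := (mem_sup_of_commute hc).mp hz
    have hcom := commutator_eq_bot_iff_forall.mp hc
    have hl1 : l = 1 := by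
      have h1 : (⟨l, hl⟩ : L) ∈ Subgroup.center L := by
        rw [Subgroup.mem_center_iff]
        intro y
        apply Subtype.ext
        have h2 := hcomm y (Subgroup.mem_sup_left y.2)
        rw [mul_assoc, ← hcom y y.2 h hh, ← mul_assoc, ← mul_assoc, mul_left_inj] at h2
        exact h2.symm
      rw [(hT L (Finset.mem_insert_self L s)).2] at h1
      exact congrArg Subtype.val (Subgroup.mem_bot.mp h1)
    subst hl1
    rw [one_mul] at hcomm ⊢
    exact ih (fun M hM => hT M (Finset.mem_insert_of_mem hM)) h hh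
      fun y hy => hcomm y (Subgroup.mem_sup_right hy)

theorem set_central_eq_one {G : Type*} [Group G] [Finite G] (T : Set (Subgroup G))
    (hT : ∀ L ∈ T, Cfsg.IsComponent L ∧ Subgroup.center L = ⊥) {z : G} (hz : z ∈ sSup T)
    (hcomm : ∀ y ∈ sSup T, z * y = y * z) : z = 1 := by
  classical
  have := central_eq_one (Set.toFinite T).toFinset (fun L hL => hT L (by simpa using hL))
  rw [Set.Finite.coe_toFinset] at this
  exact this z hz hcomm

theorem center_map_conj {G : Type*} [Group G] {L : Subgroup G} (hL : Subgroup.center L = ⊥) (g : G) :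
    Subgroup.center ↥(L.map (MulAut.conj g).toMonoidHom) = ⊥ := by
  let e := L.equivMapOfInjective (MulAut.conj g).toMonoidHom (MulAut.conj g).injective
  rw [Subgroup.eq_bot_iff_forall]
  intro x hx
  have h1 : e.symm x ∈ Subgroup.center L := Subgroup.mem_center_iff.mpr fun y => e.injective (by
    rw [map_mul, map_mul, MulEquiv.apply_symm_apply]
    exact Subgroup.mem_center_iff.mp hx (e y))
  rw [hL, Subgroup.mem_bot] at h1
  exact e.symm.injective (h1.trans (map_one _).symm)

/-- The normal closure of a centreless component is a minimal normal subgroup inside the layer. -/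
theorem closure_minimal {G : Type*} [Group G] [Finite G] {K : Subgroup G}
    (hK : Cfsg.IsComponent K) (hKc : Subgroup.center K = ⊥) :
    Subgroup.normalClosure (K : Set G) ≠ ⊥ ∧ Subgroup.normalClosure (K : Set G) ≤ Cfsg.layer G ∧
      ∀ N : Subgroup G, N.Normal → N ≤ Subgroup.normalClosure (K : Set G) →
        N = ⊥ ∨ N = Subgroup.normalClosure (K : Set G) := by
  classical
  set C := Subgroup.normalClosure (K : Set G) with hC
  have hKC : K ≤ C := fun x hx => Subgroup.subset_normalClosure hx
  set T : Set (Subgroup G) := {L | ∃ g : G, L = K.map (MulAut.conj g).toMonoidHom} with hT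
  have hTc : ∀ L ∈ T, Cfsg.IsComponent L ∧ Subgroup.center L = ⊥ := by
    rintro _ ⟨g, rfl⟩
    exact ⟨IsComponent.map_conj hK g, center_map_conj hKc g⟩
  have hn : (sSup T).Normal := by
    refine ⟨fun x hx g => ?_⟩
    have hle : sSup T ≤ (sSup T).comap (MulAut.conj g).toMonoidHom := by
      refine sSup_le ?_
      rintro _ ⟨a, rfl⟩
      rw [← Subgroup.map_le_iff_le_comap, Subgroup.map_map]
      refine le_sSup ⟨g * a, ?_⟩
      congr 1
      ext y
      simp [mul_assoc]
    exact hle hx
  have hKT : K ≤ sSup T := le_sSup ⟨1, by ext; simp⟩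
  have hle : ∀ N : Subgroup G, N.Normal → K ≤ N → sSup T ≤ N := by
    intro N hN hKN
    refine sSup_le ?_
    rintro _ ⟨g, rfl⟩ _ ⟨x, hx, rfl⟩
    exact hN.conj_mem x (hKN hx) g
  have hCT : C = sSup T :=
    le_antisymm (Subgroup.normalClosure_le_normal hKT) (hle C Subgroup.normalClosure_normal hKC)
  refine ⟨fun h => IsComponent.ne_bot hK (le_bot_iff.mp (h ▸ hKC)),
    hCT.le.trans (sSup_le fun L hL => le_layer (hTc L hL).1), fun N hN hNC => ?_⟩
  by_cases h : ∃ L ∈ T, L ≤ N
  · right
    obtain ⟨_, ⟨g, rfl⟩, hL⟩ := h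
    refine le_antisymm hNC (hCT.le.trans (hle N hN fun x hx => ?_))
    have := hN.conj_mem _ (hL ⟨x, hx, rfl⟩) g⁻¹
    simpa [mul_assoc] using this
  · left
    push Not at h
    have hc : ⁅sSup T, N⁆ = ⊥ := commutator_sSup_left_eq_bot fun L hL =>
      (component_le_or_commute (hTc L hL).1 hN.isSubnormal).resolve_left (h L hL)
    rw [Subgroup.eq_bot_iff_forall]
    intro z hz
    exact set_central_eq_one T hTc ((hNC.trans hCT.le) hz) fun y hy =>
      (commutator_eq_bot_iff_forall.mp hc y hy z hz).symm


/-- Let G be a finite group. (a) If K is a component of G with trivial centre, then the normal closure of K in G is a minimal normal subgroup of G. (b) If the Fitting subgroup of G is trivial, then the layer E(G) is generated by the minimal normal subgroups of G. -/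
theorem result {G : Type*} [Group G] [Finite G] : (∀ K : Subgroup G, Cfsg.IsComponent K → Subgroup.center ↥K = ⊥ → (Subgroup.normalClosure (K : Set G) ≠ ⊥ ∧ ∀ N : Subgroup G, N.Normal → N ≤ Subgroup.normalClosure (K : Set G) → N = ⊥ ∨ N = Subgroup.normalClosure (K : Set G))) ∧ (Cfsg.fittingSubgroup G = ⊥ → sSup {N : Subgroup G | N ≠ ⊥ ∧ N.Normal ∧ ∀ N' : Subgroup G, N'.Normal → N' ≤ N → N' = ⊥ ∨ N' = N} = Cfsg.layer G) := by
  classical
  refine ⟨fun K hK hKc => ⟨(closure_minimal hK hKc).1, (closure_minimal hK hKc).2.2⟩, fun hF => ?_⟩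
  have hcen : ∀ L : Subgroup G, Cfsg.IsComponent L → Subgroup.center L = ⊥ := fun L hL => by
    have h1 := center_map_le_fittingSubgroup hL.1
    rw [hF, le_bot_iff] at h1
    exact (Subgroup.map_eq_bot_iff_of_injective _ L.subtype_injective).mp h1
  refine le_antisymm (sSup_le fun N hN => ?_) (sSup_le fun K hK => ?_)
  · obtain ⟨hN1, hNn, hNmin⟩ := hN
    by_cases h : ∃ L : Subgroup G, Cfsg.IsComponent L ∧ L ≤ N
    · obtain ⟨L, hL, hLN⟩ := h
      obtain ⟨hne, hlay, -⟩ := closure_minimal hL (hcen L hL)
      rcases hNmin _ Subgroup.normalClosure_normal (Subgroup.normalClosure_le_normal hLN) with h1 | h1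
      · exact absurd h1 hne
      · exact h1 ▸ hlay
    · push Not at h
      exfalso
      have hc : ⁅Cfsg.layer G, N⁆ = ⊥ := commutator_sSup_left_eq_bot fun L hL =>
        (component_le_or_commute hL hNn.isSubnormal).resolve_left (h L hL)
      have hgF : Cfsg.generalizedFittingSubgroup G = Cfsg.layer G := by
        rw [Cfsg.generalizedFittingSubgroup, hF, sup_bot_eq]
      have hNC : N ≤ Cfsg.layer G := by
        rw [← hgF]
        refine le_trans ?_ centralizer_generalizedFitting_le
        rw [hgF, ← Subgroup.commutator_eq_bot_iff_le_centralizer, Subgroup.commutator_comm]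
        exact hc
      apply hN1
      rw [Subgroup.eq_bot_iff_forall]
      intro z hz
      exact set_central_eq_one {L | Cfsg.IsComponent L} (fun L hL => ⟨hL, hcen L hL⟩) (hNC hz)
        fun y hy => (commutator_eq_bot_iff_forall.mp hc y hy z hz).symm
  · obtain ⟨hne, -, hmin⟩ := closure_minimal hK (hcen K hK)
    exact le_trans (fun x hx => Subgroup.subset_normalClosure hx)
      (le_sSup ⟨hne, Subgroup.normalClosure_normal, hmin⟩)

end Cfsg.Agent.S3747
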