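import Cfsg.Statements.S3802
import Cfsg.Agent.Lib.Core.PSolvable

set_option autoImplicit false
open Cfsg

namespace Cfsg.Agent.S3802

open Subgroup

universe u

/-- A minimal normal subgroup normalizes every subnormal subgroup. -/
theorem minNormal_le_normalizer : ∀ (n : ℕ) (G : Type u) [Group G] [Finite G], Nat.card G ≤ n →
    ∀ N S : Subgroup G, N.IsSubnormal → Cfsg.Lib.Core.IsMinNormal S → S ≤ normalizer (N : Set G) := by
  intro n
  induction n with
  | zero => intro G _ _ hn; have := Nat.card_pos (α := G); omega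
  | succ n ih =>
    intro G _ _ hn N S hN hS
    have hSn := hS.1
    rcases hN.lt_normal with rfl | ⟨K, hK, hNK, hKlt⟩
    · exact le_normalizer.trans' le_top
    rcases hS.inf_eq_bot_or_le K with h | h
    · refine le_trans ?_ (centralizer_le_normalizer _)
      intro s hs
      rw [mem_centralizer_iff]
      intro k hk
      exact (Subgroup.commute_of_normal_of_disjoint S K hSn hK (disjoint_iff.mpr h) s k hs (hNK hk)).eq.symm
    have hcard : Nat.card K ≤ n := by
      have h1 := K.card_le_card_group
      have h2 : Nat.card K ≠ Nat.card G := fun h => hKlt.ne (eq_top_of_card_eq K h)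
      omega
    have : Nontrivial K := (nontrivial_iff_ne_bot K).mpr fun hb => hS.2.1 (le_bot_iff.mp (hb ▸ h))
    have hne : S.subgroupOf K ≠ ⊥ := fun hb => hS.2.1 (by
      rw [subgroupOf_eq_bot, disjoint_iff, inf_eq_left.mpr h] at hb; exact hb)
    obtain ⟨T, hT, hTS⟩ := Cfsg.Lib.Core.exists_isMinNormal (N := S.subgroupOf K) inferInstance hne
    set T' := T.map K.subtype
    have hT'S : T' ≤ S := by
      rintro _ ⟨t, ht, rfl⟩
      exact mem_subgroupOf.mp (hTS ht)
    set U := normalClosure (T' : Set G)
    have hUeq : U = S := (hS.2.2 U normalClosure_normal (normalClosure_le_normal hT'S)).resolve_left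
      fun hb => hT.2.1 ((map_eq_bot_iff_of_injective _ K.subtype_injective).mp
        (le_bot_iff.mp (hb ▸ le_normalClosure)))
    rw [← hUeq]
    show normalClosure (T' : Set G) ≤ _
    rw [normalClosure]
    refine (closure_le _).mpr fun y hy => ?_
    obtain ⟨x, hx, hc⟩ := Group.mem_conjugatesOfSet_iff.mp hy
    obtain ⟨g, rfl⟩ := isConj_iff.mp hc
    obtain ⟨t, ht, rfl⟩ := hx
    let e : MulAut K := MulAut.conjNormal g
    have he : Cfsg.Lib.Core.IsMinNormal (T.map e.toMonoidHom) := by
      refine ⟨hT.1.map _ e.surjective, fun hb => hT.2.1 ((map_eq_bot_iff_of_injective _ e.injective).mp hb),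
        fun W hW hWle => ?_⟩
      rcases hT.2.2 (W.comap e.toMonoidHom) (hW.comap _) (by
          intro w hw
          obtain ⟨v, hv, hvw⟩ := hWle hw
          exact e.injective hvw ▸ hv) with h' | h'
      · refine Or.inl ?_
        rw [← map_comap_eq_self_of_surjective (f := e.toMonoidHom) e.surjective W, h', Subgroup.map_bot]
      · refine Or.inr ?_
        rw [← h', map_comap_eq_self_of_surjective (f := e.toMonoidHom) e.surjective]
    have h3 := ih K hcard (N.subgroupOf K) (T.map e.toMonoidHom) hN.subgroupOf he ⟨t, ht, rfl⟩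
    have h4 : (e t : K) ∈ normalizer ((N.subgroupOf K : Subgroup K) : Set K) := h3
    rw [SetLike.mem_coe, mem_normalizer_iff]
    intro z
    have hz : g * (t : G) * g⁻¹ = ((e t : K) : G) := (MulAut.conjNormal_apply g t).symm
    rw [show K.subtype t = (t : G) from rfl, hz]
    constructor
    · intro hzN
      exact mem_subgroupOf.mp ((mem_normalizer_iff.mp h4 ⟨z, hNK hzN⟩).mp hzN)
    · intro hzN
      have hzK : z ∈ K := by
        have h5 := hK.conj_mem _ (hNK hzN) ((e t : K) : G)⁻¹
        simpa [mul_assoc] using h5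
      exact (mem_normalizer_iff.mp h4 ⟨z, hzK⟩).mpr (mem_subgroupOf.mpr hzN)


/-- Let G be a finite group, M a maximal subgroup of G and N a subnormal subgroup of G contained in M. Then N is contained in every conjugate of M, that is, N lies in the core of M in G. -/
theorem result {G : Type*} [Group G] [Finite G] (M N : Subgroup G) (hM : IsCoatom M) (hN : N.IsSubnormal) (hNM : N ≤ M) :
    N ≤ Subgroup.normalCore M := by
  classical
  set C := normalCore M
  set f := QuotientGroup.mk' C
  have hCM : C ≤ M := normalCore_le M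
  suffices h : N.map f = ⊥ by
    rwa [Subgroup.map_eq_bot_iff, QuotientGroup.ker_mk'] at h
  set M' := M.map f
  have hN'M : N.map f ≤ M' := map_mono hNM
  have hcomapM : M'.comap f = M := by
    rw [comap_map_eq, QuotientGroup.ker_mk', sup_eq_left.mpr hCM]
  have : Nontrivial (G ⧸ C) := by
    rw [QuotientGroup.nontrivial_iff]
    intro h
    exact hM.1 (top_le_iff.mp (h ▸ hCM))
  obtain ⟨S, hS⟩ := Cfsg.Lib.Core.exists_isMinNormal_univ (G := G ⧸ C)
  have hSn := hS.1
  have hSN := minNormal_le_normalizer _ (G ⧸ C) le_rfl (N.map f) S (hN.map (QuotientGroup.mk'_surjective C)) hS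
  have hSM : ¬ S ≤ M' := by
    intro hle
    have hSc0 : (S.comap f).Normal := hSn.comap f
    have h1 : S.comap f ≤ C := normal_le_normalCore.mpr ((comap_mono hle).trans hcomapM.le)
    refine hS.2.1 ?_
    rw [← map_comap_eq_self_of_surjective (QuotientGroup.mk'_surjective C) S, Subgroup.map_eq_bot_iff,
      QuotientGroup.ker_mk']
    exact h1
  have htop : M ⊔ S.comap f = ⊤ := (hM.le_iff.mp le_sup_left).resolve_right fun h => hSM (by
    rw [← map_comap_eq_self_of_surjective (QuotientGroup.mk'_surjective C) S]
    exact map_mono (le_sup_right.trans h.le))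
  have hSc : (S.comap f).Normal := hSn.comap f
  rw [Subgroup.map_eq_bot_iff, QuotientGroup.ker_mk']
  intro x hx g
  obtain ⟨m, hm, s, hs, rfl⟩ := Subgroup.mem_sup_of_normal_right.mp (htop.symm ▸ mem_top g)
  have h1 : f (s * x * s⁻¹) ∈ N.map f := by
    rw [map_mul, map_mul, map_inv]
    exact (mem_normalizer_iff.mp (hSN hs) (f x)).mp (mem_map_of_mem f hx)
  have h2 : s * x * s⁻¹ ∈ M := hcomapM.le (hN'M h1)
  simpa [mul_assoc] using mul_mem (mul_mem hm h2) (inv_mem hm)

end Cfsg.Agent.S3802
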