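import Cfsg.Statements.S3937
import Cfsg.Agent.Lib.Subnormal.Zipper
import Cfsg.Agent.Lib.Core.Fitting

set_option autoImplicit false
open Cfsg

namespace Cfsg.Agent.S3937

open scoped commutatorElement
open Subgroup

universe u

/-- The iterated commutator `[x, g, …, g]`. -/
abbrev engel {G : Type u} [Group G] (g : G) (n : ℕ) (x : G) : G :=
  (List.replicate n g).foldl (fun a b => a * b * a⁻¹ * b⁻¹) x

theorem engel_succ {G : Type u} [Group G] (g : G) (n : ℕ) (x : G) :
    engel g (n + 1) x = engel g n x * g * (engel g n x)⁻¹ * g⁻¹ := by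
  simp [engel, List.replicate_succ', List.foldl_append]

theorem engel_coe {G : Type u} [Group G] (H : Subgroup G) (g : H) (n : ℕ) (x : H) :
    ((engel g n x : H) : G) = engel (g : G) n (x : G) := by
  induction n with
  | zero => rfl
  | succ n ih => rw [engel_succ, engel_succ]; simp only [coe_mul, coe_inv, ih]

theorem isSubnormal_of_isNilpotent {G : Type u} [Group G] [Finite G] [Group.IsNilpotent G]
    (H : Subgroup G) : H.IsSubnormal := by
  induction H using WellFoundedGT.induction with
  | _ H ih =>
  by_cases h : H = ⊤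
  · exact h ▸ IsSubnormal.top
  exact IsSubnormal.step _ _ le_normalizer
    (ih _ (Group.normalizerCondition_of_isNilpotent H (lt_top_iff_ne_top.mpr h))) normal_in_normalizer

theorem mem_fitting_of_engel : ∀ (n : ℕ) (G : Type u) [Group G] [Finite G], Nat.card G ≤ n → ∀ g : G,
    (∀ x : G, ∃ k : ℕ, engel g k x = 1) → g ∈ Cfsg.fittingSubgroup G := by
  intro n
  induction n with
  | zero => intro G _ _ hn; have := Nat.card_pos (α := G); omega
  | succ n ih =>
    intro G _ _ hn g hg
    set A := zpowers g
    have hAnil : Group.IsNilpotent A := by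
      have : IsMulCommutative A := inferInstance
      exact Cfsg.Lib.Core.isNilpotent_of_isMulCommutative A
    by_cases hA : A.IsSubnormal
    · exact Cfsg.Lib.Core.le_fittingSubgroup_of_isSubnormal hA hAnil (mem_zpowers g)
    exfalso
    have hsub : ∀ H : Subgroup G, H ≠ ⊤ → A ≤ H → (A.subgroupOf H).IsSubnormal := by
      intro H hH hAH
      have hgH : g ∈ H := hAH (mem_zpowers g)
      have hcard : Nat.card H ≤ n := by
        have h1 := H.card_le_card_group
        have h2 : Nat.card H ≠ Nat.card G := fun h => hH (eq_top_of_card_eq H h)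
        omega
      have hF := ih H hcard ⟨g, hgH⟩ fun x => (hg x).imp fun k hk => Subtype.ext (by
        rw [engel_coe]; exact hk)
      have hnil := Cfsg.Lib.Core.fittingSubgroup_isNilpotent H
      have hle : A.subgroupOf H ≤ Cfsg.fittingSubgroup H := by
        rintro x ⟨j, hj⟩
        have : x = ⟨g, hgH⟩ ^ j := Subtype.ext (by simpa using hj.symm)
        rw [this]; exact zpow_mem hF j
      exact Subgroup.IsSubnormal.trans hle (isSubnormal_of_isNilpotent _)
        (Cfsg.Lib.Core.fittingSubgroup_normal' H).isSubnormal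
    obtain ⟨M, ⟨hM, hAM⟩, hu⟩ := Cfsg.Lib.Subnormal.zipper A hA hsub
    have hMn : ¬ M.Normal := fun hn' => hA
      (Subgroup.IsSubnormal.trans hAM (hsub M hM.1 hAM) hn'.isSubnormal)
    have hNM : normalizer (M : Set G) = M := by
      rcases hM.le_iff.mp (le_normalizer (H := M)) with h | h
      · exact absurd (normalizer_eq_top_iff.mp h) hMn
      · exact h
    have hback : ∀ y : G, y * g * y⁻¹ * g⁻¹ ∈ M → y ∈ M := by
      intro y hy
      have hy' : y * g * y⁻¹ ∈ M := by simpa [mul_assoc] using mul_mem hy (hAM (mem_zpowers g))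
      have hco : IsCoatom (M.map (MulAut.conj y⁻¹).toMonoidHom) :=
        (OrderIso.isCoatom_iff ((MulAut.conj y⁻¹).mapSubgroup) M).mpr hM
      have heq := hu _ ⟨hco, zpowers_le.mpr ⟨_, hy', by simp [mul_assoc]⟩⟩
      have h1 : y⁻¹ ∈ normalizer (M : Set G) := mem_normalizer_iff_map_conj_eq.mpr heq
      rw [hNM] at h1
      simpa using inv_mem h1
    have hall : ∀ (k : ℕ) (x : G), engel g k x ∈ M → x ∈ M := by
      intro k
      induction k with
      | zero => intro x hx; exact hx
      | succ k ihk => intro x hx; rw [engel_succ] at hx; exact ihk x (hback _ hx)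
    exact hM.1 (eq_top_iff.mpr fun x _ => by
      obtain ⟨k, hk⟩ := hg x
      exact hall k x (hk ▸ one_mem M))


/-- Baer's characterization of the Fitting subgroup: in a finite group G, an element g lies in the Fitting subgroup if and only if g is a left Engel element, that is, for every x there is n with [x, g, g, …, g] = 1 (n entries g, [a, b] = aba⁻¹b⁻¹). -/
theorem result {G : Type*} [Group G] [Finite G] (g : G) :
    g ∈ Cfsg.fittingSubgroup G ↔ ∀ x : G, ∃ n : ℕ, (List.replicate n g).foldl (fun a b => a * b * a⁻¹ * b⁻¹) x = 1 := by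
  constructor
  · intro hg x
    set F := Cfsg.fittingSubgroup G
    have hFn : F.Normal := Cfsg.Lib.Core.fittingSubgroup_normal' G
    obtain ⟨k, hk⟩ := (Subgroup.isNilpotent_iff_lowerCentralSeries F).mp
      (Cfsg.Lib.Core.fittingSubgroup_isNilpotent G)
    have key : ∀ j, engel g (j + 1) x ∈ F.lowerCentralSeries j := by
      intro j
      induction j with
      | zero =>
        rw [engel_succ]
        show x * g * x⁻¹ * g⁻¹ ∈ F
        exact mul_mem (hFn.conj_mem g hg x) (inv_mem hg)
      | succ j ihj =>
        rw [engel_succ, Subgroup.lowerCentralSeries_succ, ← commutatorElement_def]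
        exact commutator_mem_commutator ihj hg
    exact ⟨k + 1, mem_bot.mp (hk ▸ key k)⟩
  · exact fun h => mem_fitting_of_engel _ G le_rfl g h

end Cfsg.Agent.S3937
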