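import Cfsg.Statements.S3748
import Cfsg.Agent.S3802
import Cfsg.Agent.S3937
import Cfsg.Agent.Lib.Coprime.Conjugacy

set_option autoImplicit false
open Cfsg

namespace Cfsg.Agent.S3748

open Subgroup


/-- Call a proper subgroup M of G primitive when M = N_G(N) for every non-trivial normal subgroup N of M. If M is a primitive subgroup of the finite group G, then no non-trivial subnormal subgroup of G is contained in M; in particular M ∩ F(G) = 1. -/
theorem result {G : Type*} [Group G] [Finite G] (M : Subgroup G) (hM : M ≠ ⊤) (hprim : ∀ N : Subgroup G, N ≤ M → M ≤ Subgroup.normalizer (N : Set G) → N ≠ ⊥ → Subgroup.normalizer (N : Set G) = M) : (∀ L : Subgroup G, L.IsSubnormal → L ≤ M → L = ⊥) ∧ M ⊓ Cfsg.fittingSubgroup G = ⊥ := by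
  classical
  have key : ∀ L : Subgroup G, L.IsSubnormal → L ≤ M → L = ⊥ := by
    intro L hL hLM
    by_contra hne
    obtain ⟨x, hx, hx1⟩ : ∃ x ∈ L, x ≠ 1 := by
      by_contra hcon
      push Not at hcon
      exact hne (eq_bot_iff_forall _ |>.mpr hcon)
    have : Nontrivial G := ⟨⟨x, 1, hx1⟩⟩
    obtain ⟨S, hS⟩ := Cfsg.Lib.Core.exists_isMinNormal_univ (G := G)
    have hSn := hS.1
    let J : Subgroup G := ⨆ m : M, L.map (MulAut.conj (m : G)).toMonoidHom
    have hJM : J ≤ M := iSup_le fun m => by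
      rintro _ ⟨l, hl, rfl⟩
      exact mul_mem (mul_mem m.2 (hLM hl)) (inv_mem m.2)
    have hMJ : M ≤ normalizer (J : Set G) := by
      intro g hg
      rw [mem_normalizer_iff_map_conj_eq]
      refine eq_of_le_of_card_ge ?_ (card_map_of_injective (MulAut.conj g).injective).ge
      rw [Subgroup.map_iSup]
      refine iSup_le fun m => ?_
      show (L.map (MulAut.conj (m : G)).toMonoidHom).map (MulAut.conj g).toMonoidHom ≤ J
      rw [Cfsg.Lib.Coprime.map_conj_conj]
      exact le_iSup (fun m : M => L.map (MulAut.conj (m : G)).toMonoidHom) ⟨g * m, mul_mem hg m.2⟩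
    have hJne : J ≠ ⊥ := fun hb => hx1 (mem_bot.mp (hb ▸
      le_iSup (fun m : M => L.map (MulAut.conj (m : G)).toMonoidHom) 1 ⟨x, hx, by simp⟩))
    have hSJ : S ≤ normalizer (J : Set G) := by
      intro s hs
      rw [mem_normalizer_iff_map_conj_eq, Subgroup.map_iSup]
      refine iSup_congr fun m => ?_
      exact Cfsg.Lib.Coprime.map_conj_eq_self
        (S3802.minNormal_le_normalizer _ G le_rfl _ S (Cfsg.Lib.Subnormal.isSubnormal_conj hL _) hS hs)
    have hSM : S ≤ M := hSJ.trans (hprim J hJM hMJ hJne).le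
    refine hM ?_
    rw [← hprim S hSM ((le_top : M ≤ ⊤).trans (normalizer_eq_top (H := S)).ge) hS.2.1]
    exact normalizer_eq_top (H := S)
  refine ⟨key, key _ ?_ inf_le_left⟩
  have := Cfsg.Lib.Core.fittingSubgroup_isNilpotent G
  have hF := Cfsg.Lib.Core.fittingSubgroup_normal' G
  exact IsSubnormal.trans inf_le_right (S3937.isSubnormal_of_isNilpotent _) hF.isSubnormal

end Cfsg.Agent.S3748
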