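import Cfsg.Statements.S3749
import Cfsg.Agent.Lib.Coprime.Action
import Cfsg.Agent.Lib.PGroup.Basic
import Cfsg.Agent.Lib.Core.Cores
-- import your own Cfsg.Agent.* helpers here

set_option autoImplicit false
open Cfsg

namespace Cfsg.Agent.S3749

open Subgroup
open Cfsg.Lib.Coprime

theorem main {G : Type*} [Group G] [Finite G] (M : Subgroup G) {p : ℕ} [Fact p.Prime] (P : Subgroup G)
    (hP : IsPGroup p P) (hPM : normalizer (P : Set G) = M) (N : Subgroup G) [N.Normal] (hMN : M ⊓ N = ⊥) :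
    ¬ p ∣ Nat.card N ∧ (∀ q : ℕ, [Fact q.Prime] → ∃! Q : Sylow q ↥N,
      M ≤ normalizer ((Q : Subgroup ↥N).map N.subtype : Set G)) ∧
    ((∃ q r : ℕ, q.Prime ∧ r.Prime ∧ q ≠ r ∧ q ∣ Nat.card N ∧ r ∣ Nat.card N) → ¬ IsCoatom M) := by
  have hfix : ∀ x ∈ N, x ∈ centralizer (P : Set G) → x = 1 := fun x hx hc =>
    mem_bot.1 (hMN.le ⟨hPM ▸ centralizer_le_normalizer _ hc, hx⟩)
  have hp : ¬ p ∣ Nat.card N := by
    intro hdvd
    obtain ⟨S, hPS⟩ := hP.exists_le_sylow
    obtain ⟨y, hy⟩ := exists_prime_orderOf_dvd_card' p hdvd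
    have hyp : IsPGroup p (zpowers (y : G)) := by
      refine IsPGroup.of_card (n := 1) ?_
      rw [Nat.card_zpowers, orderOf_coe, hy, pow_one]
    obtain ⟨S', hyS⟩ := hyp.exists_le_sylow
    obtain ⟨g, rfl⟩ := MulAction.exists_smul_eq G S S'
    have hyS' : g⁻¹ * (y : G) * g ∈ (S : Subgroup G) := by
      have h := hyS (mem_zpowers (y : G))
      rw [Sylow.coe_subgroup_smul, Subgroup.pointwise_smul_def] at h
      obtain ⟨s, hs, he⟩ := h
      rw [← he]
      simp only [SetLike.mem_coe] at hs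
      simpa [MulAut.conj_apply, mul_assoc] using hs
    have hyN : g⁻¹ * (y : G) * g ∈ N := by simpa using ‹N.Normal›.conj_mem _ y.2 g⁻¹
    let T : Subgroup (S : Subgroup G) := N.subgroupOf S
    have hTne : T ≠ ⊥ := by
      intro h
      have h1 : (⟨_, hyS'⟩ : (S : Subgroup G)) = 1 := mem_bot.1 (h.le hyN)
      have h2 : g⁻¹ * (y : G) * g = 1 := congrArg Subtype.val h1
      have h3 : (y : G) = 1 := by
        calc (y : G) = g * (g⁻¹ * (y : G) * g) * g⁻¹ := by group
          _ = 1 := by rw [h2]; group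
      rw [show y = 1 from Subtype.ext h3, orderOf_one] at hy
      exact (Fact.out : p.Prime).one_lt.ne' hy.symm
    haveI := S.2.isNilpotent
    haveI : T.Normal := inferInstance
    have hne := Cfsg.Lib.PGroup.inf_center_ne_bot S.2 hTne
    obtain ⟨⟨⟨z, hzS⟩, hz⟩, hz1⟩ := ne_bot_iff_exists_ne_one.1 hne
    exact hz1 (Subtype.ext (Subtype.ext (hfix z hz.1 (mem_centralizer_iff.2 fun x hx =>
      congrArg Subtype.val (mem_center_iff.1 hz.2 ⟨x, hPS hx⟩)))))
  have hcop : (Nat.card P).Coprime (Nat.card N) := by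
    obtain ⟨k, hk⟩ := IsPGroup.iff_card.1 hP
    rw [hk]; exact Nat.Coprime.pow_left _ ((Fact.out : p.Prime).coprime_iff_not_dvd.2 hp)
  haveI := hP.isNilpotent
  have hsol : Group.IsSolvable P ∨ Group.IsSolvable N := Or.inl inferInstance
  have hPN : P ≤ normalizer (N : Set G) := le_normalizer_of_normal
  have hPle : P ≤ M := hPM ▸ le_normalizer
  have huniq : ∀ (q : ℕ) [Fact q.Prime] (Q Q' : Sylow q N),
      P ≤ normalizer ((Q : Subgroup N).map N.subtype : Set G) →
      P ≤ normalizer ((Q' : Subgroup N).map N.subtype : Set G) → Q = Q' := by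
    intro q _ Q Q' hQ hQ'
    obtain ⟨c, hc, he⟩ := exists_centralizer_conj_sylow hPN hcop hsol Q Q' hQ hQ'
    rw [hfix c hc.1 hc.2, map_conj_one] at he
    exact Sylow.ext (map_injective N.subtype_injective he.symm)
  have hex : ∀ (q : ℕ) [Fact q.Prime], ∃! Q : Sylow q ↥N,
      M ≤ normalizer ((Q : Subgroup ↥N).map N.subtype : Set G) := by
    intro q _
    obtain ⟨Q, hQ⟩ := exists_invariant_sylow hPN hcop hsol q
    refine ⟨Q, fun m hm => ?_, fun Q' hQ' => huniq q Q' Q (hPle.trans hQ') hQ⟩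
    obtain ⟨Q', hQ'⟩ := exists_sylow_eq_conj Q (le_normalizer_of_normal (H := N) (mem_top m) : m ∈ normalizer (N : Set G))
    have hP' : P ≤ normalizer ((Q' : Subgroup N).map N.subtype : Set G) := by
      intro a ha
      rw [hQ', Subgroup.mem_normalizer_iff_map_conj_eq]
      change (_ : Subgroup G).map (MulAut.conj a).toMonoidHom = _
      have hb : m⁻¹ * a * m ∈ P := by
        have := (mem_normalizer_iff.1 (show m⁻¹ ∈ normalizer (P : Set G) by rw [hPM]; exact inv_mem hm) a).1 ha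
        simpa using this
      have e : a * m = m * (m⁻¹ * a * m) := by group
      rw [map_conj_conj, e, ← map_conj_conj, map_conj_eq_self (hQ hb)]
    rw [huniq q Q' Q hP' hQ] at hQ'
    rw [Subgroup.mem_normalizer_iff_map_conj_eq]
    exact hQ'.symm
  refine ⟨hp, fun q _ => hex q, ?_⟩
  rintro ⟨q, r, hq, hr, hqr, hqd, hrd⟩ hM
  have key : ∀ q : ℕ, q.Prime → q ∣ Nat.card N → IsPGroup q N := by
    intro q hq hqd
    haveI := Fact.mk hq
    obtain ⟨Q, hQ, -⟩ := hex q
    set T := (Q : Subgroup N).map N.subtype with hT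
    have hTN : T ≤ N := map_subtype_le _
    have hlt : M < M ⊔ T := by
      refine lt_of_le_of_ne le_sup_left fun h => Sylow.ne_bot_of_dvd_card Q hqd ?_
      have : T = ⊥ := eq_bot_iff.2 fun x hx => hMN.le ⟨h ▸ mem_sup_right hx, hTN hx⟩
      rwa [hT, map_eq_bot_iff_of_injective _ N.subtype_injective] at this
    have htop := hM.2 _ hlt
    have hNT : N ≤ T := by
      intro n hn
      obtain ⟨t, ht, m, hm, rfl⟩ := exists_mul_of_mem_sup hQ (sup_comm M T ▸ htop.symm ▸ mem_top n : n ∈ T ⊔ M)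
      have hm1 : m = 1 := mem_bot.1 (hMN.le ⟨hm, by simpa using mul_mem (inv_mem (hTN ht)) hn⟩)
      simpa [hm1] using ht
    exact ((Q.2.map N.subtype).to_le hNT)
  haveI := Fact.mk hq
  haveI := Fact.mk hr
  obtain ⟨k, hk⟩ := IsPGroup.iff_card.1 (key q hq hqd)
  rw [hk] at hrd
  exact hqr ((Nat.prime_dvd_prime_iff_eq hr hq).1 (hr.dvd_of_dvd_pow hrd)).symm

/-- Call a proper subgroup M of G primitive when M = N_G(N) for every non-trivial normal subgroup N of M. Let M be a primitive subgroup of the finite group G, p a prime with O_p(M) ≠ 1, and N a normal subgroup of G with M ∩ N = 1. Then p does not divide the order of N; for every prime q there is exactly one Sylow q-subgroup of N normalized by M; and if the order of N has at least two prime divisors then M is not a maximal subgroup of G. -/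
theorem result {G : Type*} [Group G] [Finite G] (M : Subgroup G) (hM : M ≠ ⊤) (hprim : ∀ N : Subgroup G, N ≤ M → M ≤ Subgroup.normalizer (N : Set G) → N ≠ ⊥ → Subgroup.normalizer (N : Set G) = M) {p : ℕ} [Fact p.Prime] (hOp : Cfsg.pCore p ↥M ≠ ⊥) (N : Subgroup G) [N.Normal] (hMN : M ⊓ N = ⊥) : ¬ p ∣ Nat.card N ∧ (∀ q : ℕ, [Fact q.Prime] → ∃! Q : Sylow q ↥N, M ≤ Subgroup.normalizer ((Q : Subgroup ↥N).map N.subtype : Set G)) ∧ ((∃ q r : ℕ, q.Prime ∧ r.Prime ∧ q ≠ r ∧ q ∣ Nat.card N ∧ r ∣ Nat.card N) → ¬ IsCoatom M) := by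
  set P := (Cfsg.pCore p M).map M.subtype with hPdef
  have hP : IsPGroup p P := (Cfsg.Lib.Core.pCore_isPGroup p M).map _
  have hPne : P ≠ ⊥ := by
    rwa [hPdef, Ne, Subgroup.map_eq_bot_iff_of_injective _ M.subtype_injective]
  exact main M P hP (hprim P (Subgroup.map_subtype_le _)
    (Subgroup.le_normalizer.trans (Cfsg.Lib.Core.normalizer_le_normalizer_map_char (Cfsg.pCore p M))) hPne) N hMN

end Cfsg.Agent.S3749
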