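import Cfsg.Statements.S3750
import Cfsg.Agent.Lib.Core.Layer
-- import your own Cfsg.Agent.* helpers here

set_option autoImplicit false
open Cfsg

namespace Cfsg.Agent.S3750

open Subgroup
open Cfsg.Lib.Core

theorem main {G : Type*} [Group G] [Finite G] (M : Subgroup G) (hM : M ≠ ⊤)
    (hprim : ∀ N : Subgroup G, N ≤ M → M ≤ normalizer (N : Set G) → N ≠ ⊥ → normalizer (N : Set G) = M)
    (N : Subgroup G) [N.Normal]
    (hMF : M ⊓ (Cfsg.generalizedFittingSubgroup ↥N).map N.subtype ≠ ⊥) :
    Cfsg.fittingSubgroup G = ⊥ ∧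
      (Cfsg.generalizedFittingSubgroup ↥N).map N.subtype = Cfsg.generalizedFittingSubgroup G ∧
      Cfsg.generalizedFittingSubgroup G = Cfsg.layer G ∧
      ∀ K : Subgroup G, K.Normal → K ≠ ⊥ → (∀ K' : Subgroup G, K'.Normal → K' ≤ K → K' = ⊥ ∨ K' = K) → K ≤ N := by
  have hX := generalizedFitting_map_eq_inf_of_isSubnormal (H := N) (Normal.isSubnormal inferInstance)
  haveI hXn : ((Cfsg.generalizedFittingSubgroup ↥N).map N.subtype).Normal := by
    haveI : (Cfsg.generalizedFittingSubgroup G).Normal := inferInstance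
    rw [hX]; exact inferInstance
  set X := (Cfsg.generalizedFittingSubgroup ↥N).map N.subtype with hXdef
  have hDn : M ≤ normalizer ((M ⊓ X : Subgroup G) : Set G) :=
    (le_inf le_normalizer le_normalizer_of_normal).trans inf_normalizer_le_normalizer_inf
  have hnorm := hprim _ inf_le_left hDn hMF
  -- a normal subgroup inside `M` is trivial
  have hsmall : ∀ Y : Subgroup G, Y.Normal → Y ≤ M → Y = ⊥ := by
    intro Y hY hle
    by_contra hne
    have := hprim Y hle (haveI := hY; le_normalizer_of_normal) hne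
    exact hM (by rw [← this, normalizer_eq_top_iff]; exact hY)
  -- a normal subgroup centralising `M ⊓ X` is trivial
  have hcent : ∀ Y : Subgroup G, Y.Normal → ⁅Y, M ⊓ X⁆ = ⊥ → Y = ⊥ := fun Y hY h =>
    hsmall Y hY ((commutator_eq_bot_iff_le_centralizer.1 h).trans
      ((centralizer_le_normalizer _).trans hnorm.le))
  set F := Cfsg.fittingSubgroup G with hF
  haveI : F.Normal := fittingSubgroup_normal' G
  have hFbot : F = ⊥ := by
    by_contra hne
    haveI hFnil : Group.IsNilpotent F := fittingSubgroup_isNilpotent G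
    haveI : Nontrivial F := (nontrivial_iff_ne_bot F).2 hne
    have hZne : (Subgroup.center F).map F.subtype ≠ ⊥ := by
      rw [Ne, map_eq_bot_iff_of_injective _ F.subtype_injective]
      exact Group.IsNilpotent.center_ne_bot _
    refine hZne (hcent _ inferInstance ?_)
    rw [commutator_eq_bot_iff_forall]
    rintro _ ⟨z, hz, rfl⟩ d hd
    obtain ⟨e, he, f, hf, rfl⟩ := mem_generalizedFitting.1 ((inf_le_right.trans (hX.le.trans inf_le_left)) hd)
    have h1 : (z : G) * e = e * z :=
      (commutator_eq_bot_iff_forall.1 commutator_layer_fitting e he z z.2).symm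
    have h2 : (z : G) * f = f * z := (congrArg Subtype.val (mem_center_iff.1 hz ⟨f, hf⟩)).symm
    show (z : G) * (e * f) = e * f * z
    rw [← mul_assoc, h1, mul_assoc, h2, mul_assoc]
  have hEG : Cfsg.generalizedFittingSubgroup G = Cfsg.layer G := by
    rw [Cfsg.generalizedFittingSubgroup, ← hF, hFbot, sup_bot_eq]
  have hcN : ∀ Y : Subgroup G, ⁅Y, N⁆ = ⊥ → Y = ⊥ := by
    intro Y h
    refine le_bot_iff.1 ((commutator_eq_bot_iff_le_centralizer.1 h).trans (le_of_eq ?_))
    refine hcent _ inferInstance (eq_bot_iff.2 ((commutator_mono le_rfl ?_).trans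
      (commutator_eq_bot_iff_le_centralizer.2 (le_refl (centralizer (N : Set G)))).le))
    exact inf_le_right.trans (map_subtype_le _)
  have hEN : Cfsg.layer G ≤ N := sSup_le fun L hL => by
    rcases component_le_or_commute hL (H := N) (Normal.isSubnormal inferInstance) with h | h
    · exact h
    · exact absurd (hcN L h) (IsComponent.ne_bot hL)
  refine ⟨hFbot, hX.trans (inf_eq_left.2 (hEG.le.trans hEN)), hEG, fun K hK hKne hKmin => ?_⟩
  rcases hKmin (K ⊓ N) inferInstance inf_le_left with h | h
  · refine absurd (hcN K (eq_bot_iff.2 ((le_inf ?_ ?_).trans h.le))) hKne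
    · exact commutator_le_left K N
    · exact commutator_le_right K N
  · exact h.ge.trans inf_le_right

/-- Call a proper subgroup M of G primitive when M = N_G(N) for every non-trivial normal subgroup N of M. Let M be a primitive subgroup of the finite group G and N a normal subgroup of G with M ∩ F*(N) ≠ 1. Then F(G) = 1 and F*(N) = F*(G) = E(G); in particular every minimal normal subgroup of G is contained in N. -/
theorem result {G : Type*} [Group G] [Finite G] (M : Subgroup G) (hM : M ≠ ⊤) (hprim : ∀ N : Subgroup G, N ≤ M → M ≤ Subgroup.normalizer (N : Set G) → N ≠ ⊥ → Subgroup.normalizer (N : Set G) = M) (N : Subgroup G) [N.Normal] (hMF : M ⊓ (Cfsg.generalizedFittingSubgroup ↥N).map N.subtype ≠ ⊥) : Cfsg.fittingSubgroup G = ⊥ ∧ (Cfsg.generalizedFittingSubgroup ↥N).map N.subtype = Cfsg.generalizedFittingSubgroup G ∧ Cfsg.generalizedFittingSubgroup G = Cfsg.layer G ∧ ∀ K : Subgroup G, K.Normal → K ≠ ⊥ → (∀ K' : Subgroup G, K'.Normal → K' ≤ K → K' = ⊥ ∨ K' = K) → K ≤ N := by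
  exact main M hM hprim N hMF

end Cfsg.Agent.S3750
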