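import Cfsg.Statements.S3751
import Cfsg.Agent.Lib.Core.Layer
-- import your own Cfsg.Agent.* helpers here

set_option autoImplicit false
open Cfsg

namespace Cfsg.Agent.S3751

open Subgroup
open Cfsg.Lib.Core
open scoped commutatorElement

universe u

variable {G : Type u} [Group G] [Finite G] {p : ℕ} [Fact p.Prime]

/-- The ambient `p`-core of a subgroup. -/
def ocore (p : ℕ) (M : Subgroup G) : Subgroup G := (Cfsg.pCore p M).map M.subtype

theorem le_ocore {A B : Subgroup G} (hAB : A ≤ B) (hn : B ≤ normalizer (A : Set G)) (hA : IsPGroup p A) :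
    A ≤ ocore p B := fun x hx =>
  haveI : (A.subgroupOf B).Normal := (normal_subgroupOf_iff_le_normalizer hAB).2 hn
  ⟨⟨x, hAB hx⟩, le_pCore (N := A.subgroupOf B) hA.comap_subtype hx, rfl⟩

def IsLocal (p : ℕ) (M : Subgroup G) : Prop :=
  ∃ T : Subgroup G, IsPGroup p T ∧ T ≠ ⊥ ∧ M = normalizer (T : Set G)

def IsMax (p : ℕ) (M : Subgroup G) : Prop := IsLocal p M ∧ ∀ L : Subgroup G, IsLocal p L → M ≤ L → L = M

omit [Finite G] [Fact p.Prime] in
theorem ocore_le (M : Subgroup G) : ocore p M ≤ M := map_subtype_le _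

theorem ocore_normal (M : Subgroup G) : M ≤ normalizer (ocore p M : Set G) :=
  le_normalizer.trans (normalizer_le_normalizer_map_char (Cfsg.pCore p M))

theorem ocore_isPGroup (M : Subgroup G) : IsPGroup p (ocore p M) := (pCore_isPGroup p M).map _

theorem exists_max {T : Subgroup G} (hT : IsPGroup p T) (hne : T ≠ ⊥) :
    ∃ H, IsMax p H ∧ normalizer (T : Set G) ≤ H := by
  obtain ⟨H, hle, hH, hmax⟩ := (Set.toFinite {H : Subgroup G | IsLocal p H}).exists_le_maximal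
    (a := normalizer (T : Set G)) ⟨T, hT, hne, rfl⟩
  exact ⟨H, ⟨hH, fun L hL hHL => le_antisymm (hmax hL hHL) hHL⟩, hle⟩

theorem normalizer_ocore {M : Subgroup G} (hM : IsMax p M) :
    ocore p M ≠ ⊥ ∧ normalizer (ocore p M : Set G) = M := by
  obtain ⟨T, hT, hne, hMT⟩ := hM.1
  have hle : T ≤ ocore p M := le_ocore (hMT ▸ le_normalizer) hMT.le hT
  have h0 : ocore p M ≠ ⊥ := fun h => hne (le_bot_iff.1 (h ▸ hle))
  exact ⟨h0, hM.2 _ ⟨_, ocore_isPGroup M, h0, rfl⟩ (ocore_normal M)⟩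

theorem ne_top {M : Subgroup G} (hM : IsMax p M) (hOp : Cfsg.pCore p G = ⊥) : M ≠ ⊤ := by
  intro h
  obtain ⟨h0, hn⟩ := normalizer_ocore hM
  refine h0 (le_bot_iff.1 ((le_pCore' ?_ (ocore_isPGroup M)).trans hOp.le))
  exact normalizer_eq_top_iff.1 (hn.trans h)

theorem mem_of_map_conj {M : Subgroup G} (hM : IsMax p M) {x : G}
    (hx : M.map (MulAut.conj x).toMonoidHom = M) : x ∈ M := by
  rw [← (normalizer_ocore hM).2, mem_normalizer_iff_map_conj]
  refine eq_of_le_of_card_ge ?_ (card_map_of_injective (MulEquiv.injective _)).ge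
  refine le_ocore ((map_mono (ocore_le M)).trans hx.le) ?_ ((ocore_isPGroup M).map _)
  calc M = M.map (MulAut.conj x).toMonoidHom := hx.symm
    _ ≤ (normalizer (ocore p M : Set G)).map (MulAut.conj x).toMonoidHom := map_mono (ocore_normal M)
    _ ≤ _ := le_normalizer_map _

theorem isMax_conj {M : Subgroup G} (hM : IsMax p M) (x : G) : IsMax p (M.map (MulAut.conj x).toMonoidHom) := by
  have key : ∀ (x : G) (M : Subgroup G), IsLocal p M → IsLocal p (M.map (MulAut.conj x).toMonoidHom) := by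
    rintro x M ⟨T, hT, hne, rfl⟩
    refine ⟨T.map (MulAut.conj x).toMonoidHom, hT.map _, ?_, ?_⟩
    · rwa [Ne, map_eq_bot_iff_of_injective _ (MulEquiv.injective _)]
    · exact map_equiv_normalizer_eq T (MulAut.conj x)
  refine ⟨key x M hM.1, fun L hL hle => ?_⟩
  have h := map_mono (f := (MulAut.conj x⁻¹).toMonoidHom) hle
  rw [← map_conj_mul, inv_mul_cancel] at h
  simp only [map_one, MonoidHom.id, Subgroup.map_id] at h
  have h' := hM.2 _ (key x⁻¹ L hL) (le_trans (le_of_eq (by ext; simp)) h)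
  rw [← h', ← map_conj_mul, mul_inv_cancel]
  ext; simp

/-- Two maximal locals form a primitive pair as soon as each contains the other's core. -/
theorem pair_cond (hloc : Cfsg.IsOfLocalCharacteristic p G) {M : Subgroup G} (hM : IsMax p M) :
    centralizer (Cfsg.pCore p ↥M : Set ↥M) ≤ Cfsg.pCore p ↥M ∧
      ∀ A : Subgroup G, A ≠ ⊥ → A ≤ M → M ≤ normalizer (A : Set G) → normalizer (A : Set G) ≤ M := by
  have hc : centralizer (Cfsg.pCore p ↥M : Set ↥M) ≤ Cfsg.pCore p ↥M := by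
    obtain ⟨T, hT, hne, rfl⟩ := hM.1
    exact hloc.2 T hT hne
  refine ⟨hc, fun A hA hAM hn => ?_⟩
  have hBne : ocore p A ≠ ⊥ := by
    intro hbot
    have hinf : A ⊓ ocore p M = ⊥ := le_bot_iff.1 (hbot ▸ le_ocore inf_le_left
      ((le_inf le_normalizer (hAM.trans (ocore_normal M))).trans inf_normalizer_le_normalizer_inf)
      ((ocore_isPGroup M).to_le inf_le_right))
    refine hA (le_bot_iff.1 (le_trans ?_ hinf.le))
    intro a ha
    refine ⟨ha, ⟨⟨a, hAM ha⟩, hc (mem_centralizer_iff.2 fun y hy => Subtype.ext ?_), rfl⟩⟩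
    refine (commutatorElement_eq_one_iff_mul_comm.1 (mem_bot.1 (hinf.le ⟨?_, ?_⟩))).symm
    · have h1 : ⁅a, (y : G)⁆ = a * ((y : G) * a⁻¹ * (y : G)⁻¹) := by rw [commutatorElement_def]; group
      rw [h1]
      exact A.mul_mem ha ((mem_normalizer_iff.1 (hn y.2) _).1 (A.inv_mem ha))
    · rw [commutatorElement_def]
      have hy' : (y : G) ∈ ocore p M := ⟨y, hy, rfl⟩
      exact (ocore p M).mul_mem ((mem_normalizer_iff.1 (ocore_normal M (hAM ha)) _).1 hy') ((ocore p M).inv_mem hy')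
  have hNB : normalizer (A : Set G) ≤ normalizer (ocore p A : Set G) :=
    normalizer_le_normalizer_map_char (Cfsg.pCore p A)
  exact hNB.trans (hM.2 _ ⟨_, ocore_isPGroup A, hBne, rfl⟩ (hn.trans hNB)).le

theorem exists_pair (hOp : Cfsg.pCore p G = ⊥) {M₀ : Subgroup G} (hM₀ : IsMax p M₀) {g : G} (hg : g ∉ M₀)
    (hdvd : p ∣ Nat.card ↥(M₀ ⊓ M₀.map (MulAut.conj g).toMonoidHom)) :
    ∃ M₁ M₂ : Subgroup G, IsMax p M₁ ∧ IsMax p M₂ ∧ M₁ ≠ M₂ ∧ ocore p M₁ ≤ M₂ ∧ ocore p M₂ ≤ M₁ := by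
  let S : Set (Subgroup G) := {T | IsPGroup p T ∧ T ≠ ⊥ ∧
    ∃ M L, IsMax p M ∧ IsMax p L ∧ M ≠ L ∧ T ≤ M ∧ T ≤ L}
  obtain ⟨y, hy⟩ := exists_prime_orderOf_dvd_card' p hdvd
  have hy0 : zpowers (y : G) ∈ S := by
    refine ⟨IsPGroup.of_card (n := 1) (by rw [Nat.card_zpowers, orderOf_coe, hy, pow_one]), ?_,
      M₀, _, hM₀, isMax_conj hM₀ g, fun h => hg (mem_of_map_conj hM₀ h.symm),
      zpowers_le.2 y.2.1, zpowers_le.2 y.2.2⟩
    rw [Ne, zpowers_eq_bot, ← orderOf_eq_one_iff, orderOf_coe, hy]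
    exact (Fact.out : p.Prime).one_lt.ne'
  obtain ⟨T, -, hTS, hmax⟩ := (Set.toFinite S).exists_le_maximal hy0
  obtain ⟨hT, hTne, M, L, hM, hL, hne, hTM, hTL⟩ := hTS
  have hTmax : ∀ (M L : Subgroup G), IsMax p M → IsMax p L → ∀ P : Subgroup G, IsPGroup p P → T ≤ P →
      P ≤ M → P ≤ L → M ≠ L → P = T := fun M L hM hL P hP hTP hPM hPL hne =>
    le_antisymm (hmax ⟨hP, fun h => hTne (le_bot_iff.1 (h ▸ hTP)), M, L, hM, hL, hne, hPM, hPL⟩ hTP) hTP
  obtain ⟨H, hH, hNH⟩ := exists_max hT hTne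
  let Full : Subgroup G → Prop := fun K => ∀ P : Subgroup G, IsPGroup p P → T ≤ P → P ≤ K → P = T
  have hgrow : ∀ K : Subgroup G, ¬ Full K → ∃ P : Subgroup G, IsPGroup p P ∧ T < P ∧ P ≤ K ∧
      P ≤ normalizer (T : Set G) := by
    intro K hK
    simp only [Full] at hK
    push Not at hK
    obtain ⟨P, hP, hTP, hPK, hne⟩ := hK
    haveI := hP.isNilpotent
    have hlt : T.subgroupOf P < ⊤ := lt_top_iff_ne_top.2 fun h =>
      hne (le_antisymm (subgroupOf_eq_top.1 h) hTP)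
    obtain ⟨w, hwn, hw⟩ := Set.exists_of_ssubset (Group.normalizerCondition_of_isNilpotent _ hlt)
    have hwT : (w : G) ∈ normalizer (T : Set G) := by
      have := le_normalizer_map P.subtype ⟨w, hwn, rfl⟩
      rwa [map_subgroupOf_eq_of_le hTP] at this
    refine ⟨T ⊔ zpowers (w : G), hP.to_le (sup_le hTP (zpowers_le.2 w.2)), ?_,
      (sup_le hTP (zpowers_le.2 w.2)).trans hPK, sup_le le_normalizer (zpowers_le.2 hwT)⟩
    refine lt_of_le_of_ne le_sup_left fun h => hw ?_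
    show (w : G) ∈ T
    rw [h]; exact mem_sup_right (mem_zpowers _)
  have hor : ∀ K : Subgroup G, IsMax p K → Full K ∨ K = H := by
    intro K hK
    by_contra h
    push Not at h
    obtain ⟨P, hP, hTP, hPK, hPN⟩ := hgrow K h.1
    exact hTP.ne (hTmax K H hK hH P hP hTP.le hPK (hPN.trans hNH) h.2).symm
  have hfullO : ∀ K : Subgroup G, IsMax p K → Full K → T ≤ K → ocore p K ≤ T := by
    intro K hK hF hTK
    have := hF (T ⊔ ocore p K) (IsPGroup.to_sup_of_normal_right' hT (ocore_isPGroup K)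
      (hTK.trans (ocore_normal K))) le_sup_left (sup_le hTK (ocore_le K))
    exact le_sup_right.trans this.le
  -- arrange that `T` is full in `L`
  wlog hLF : Full L generalizing M L
  · have hMF : Full M := (hor M hM).resolve_right fun h => hne (h.trans ((hor L hL).resolve_left hLF).symm)
    exact this L M hL hM (Ne.symm hne) hTL hTM hMF
  by_cases hMF : Full M
  · exact ⟨M, L, hM, hL, hne, (hfullO M hM hMF hTM).trans hTL, (hfullO L hL hLF hTL).trans hTM⟩
  obtain ⟨P, hP, hTP, hPM, hPN⟩ := hgrow M hMF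
  obtain ⟨x, hxP, hxT⟩ := SetLike.exists_of_lt hTP
  have hxL : x ∉ L := fun hxL => hxT (by
    have := hTmax M L hM hL (T ⊔ zpowers x) (hP.to_le (sup_le hTP.le (zpowers_le.2 hxP))) le_sup_left
      (sup_le hTM (zpowers_le.2 (hPM hxP))) (sup_le hTL (zpowers_le.2 hxL)) hne
    rw [← this]; exact mem_sup_right (mem_zpowers _))
  have hTx := map_conj_eq_of_mem_normalizer (hPN hxP)
  set L' := L.map (MulAut.conj x).toMonoidHom with hL'
  have hTL' : T ≤ L' := hTx ▸ map_mono hTL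
  refine ⟨L, L', hL, isMax_conj hL x, fun h => hxL (mem_of_map_conj hL h.symm), (hfullO L hL hLF hTL).trans hTL', ?_⟩
  refine (hfullO L' (isMax_conj hL x) ?_ hTL').trans hTL
  intro Q hQ hTQ hQL
  have hTx' := map_conj_eq_of_mem_normalizer (inv_mem (hPN hxP))
  have h1 := hLF (Q.map (MulAut.conj x⁻¹).toMonoidHom) (hQ.map _) (hTx'.ge.trans (map_mono hTQ)) (by
    refine (map_mono hQL).trans (le_of_eq ?_)
    rw [hL', ← map_conj_mul, inv_mul_cancel]
    ext; simp)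
  refine le_antisymm (fun z hz => ?_) hTQ
  have h2 : x⁻¹ * z * x ∈ T := h1.le ⟨z, hz, by simp⟩
  have h3 := (mem_normalizer_iff.1 (hPN hxP) _).1 h2
  simpa [mul_assoc] using h3

/-- Two distinct subgroups M₁, M₂ of G form a primitive pair when, for {i, j} = {1, 2}, every non-trivial normal subgroup A of M_i contained in M₁ ∩ M₂ satisfies N_{M_j}(A) = M₁ ∩ M₂; the pair has characteristic p when moreover C_{M_i}(O_p(M_i)) ≤ O_p(M_i) for both i and O_p(M₁)O_p(M₂) ≤ M₁ ∩ M₂. Let G be a finite group, p a prime dividing its order, with O_p(G) = 1 and every p-local subgroup of characteristic p. Then either G has a primitive pair of characteristic p, or every maximal p-local subgroup M of G is strongly p-embedded in G: M is a proper subgroup, p divides its order, and for every g ∉ M the order of M ∩ gMg⁻¹ is prime to p. -/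
theorem result {G : Type*} [Group G] [Finite G] {p : ℕ} [Fact p.Prime] (hloc : Cfsg.IsOfLocalCharacteristic p G) (hOp : Cfsg.pCore p G = ⊥) : (∃ M₁ M₂ : Subgroup G, M₁ ≠ M₂ ∧ (∀ A : Subgroup G, A ≠ ⊥ → A ≤ M₁ ⊓ M₂ → (M₁ ≤ Subgroup.normalizer (A : Set G) → M₂ ⊓ Subgroup.normalizer (A : Set G) = M₁ ⊓ M₂) ∧ (M₂ ≤ Subgroup.normalizer (A : Set G) → M₁ ⊓ Subgroup.normalizer (A : Set G) = M₁ ⊓ M₂)) ∧ Subgroup.centralizer (Cfsg.pCore p ↥M₁ : Set ↥M₁) ≤ Cfsg.pCore p ↥M₁ ∧ Subgroup.centralizer (Cfsg.pCore p ↥M₂ : Set ↥M₂) ≤ Cfsg.pCore p ↥M₂ ∧ (Cfsg.pCore p ↥M₁).map M₁.subtype ⊔ (Cfsg.pCore p ↥M₂).map M₂.subtype ≤ M₁ ⊓ M₂) ∨ (∀ M : Subgroup G, (∃ T : Subgroup G, IsPGroup p T ∧ T ≠ ⊥ ∧ M = Subgroup.normalizer (T : Set G)) → (∀ L : Subgroup G, (∃ T : Subgroup G, IsPGroup p T ∧ T ≠ ⊥ ∧ L = Subgroup.normalizer (T : Set G)) → M ≤ L → L = M) → M ≠ ⊤ ∧ p ∣ Nat.card M ∧ ∀ g : G, g ∉ M → ¬ p ∣ Nat.card ↥(M ⊓ M.map (MulAut.conj g).toMonoidHom))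 := by
  by_cases hall : ∀ M : Subgroup G, IsMax p M → M ≠ ⊤ ∧ p ∣ Nat.card M ∧
      ∀ g : G, g ∉ M → ¬ p ∣ Nat.card ↥(M ⊓ M.map (MulAut.conj g).toMonoidHom)
  · exact Or.inr fun M h1 h2 => hall M ⟨h1, h2⟩
  push Not at hall
  obtain ⟨M, hM, h⟩ := hall
  have hpM : p ∣ Nat.card M := by
    obtain ⟨h0, -⟩ := normalizer_ocore hM
    haveI : Nontrivial (ocore p M) := (Subgroup.nontrivial_iff_ne_bot _).2 h0
    obtain ⟨k, hk0, hk⟩ := (ocore_isPGroup (p := p) M).nontrivial_iff_card.1 inferInstance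
    exact (hk ▸ dvd_pow_self p (Nat.pos_iff_ne_zero.1 hk0)).trans (Subgroup.card_dvd_of_le (ocore_le M))
  obtain ⟨g, hg, hdvd⟩ := h (ne_top hM hOp) hpM
  obtain ⟨M₁, M₂, h₁, h₂, hne, hO₁, hO₂⟩ := exists_pair hOp hM hg hdvd
  obtain ⟨hc₁, hp₁⟩ := pair_cond hloc h₁
  obtain ⟨hc₂, hp₂⟩ := pair_cond hloc h₂
  refine Or.inl ⟨M₁, M₂, hne, fun A hA hle => ⟨fun hn => ?_, fun hn => ?_⟩, hc₁, hc₂,
    sup_le (le_inf (ocore_le M₁) hO₁) (le_inf hO₂ (ocore_le M₂))⟩
  · exact le_antisymm (le_inf (inf_le_right.trans (hp₁ A hA (hle.trans inf_le_left) hn)) inf_le_left)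
      (le_inf inf_le_right (inf_le_left.trans hn))
  · exact le_antisymm (le_inf inf_le_left (inf_le_right.trans (hp₂ A hA (hle.trans inf_le_right) hn)))
      (le_inf inf_le_left (inf_le_right.trans hn))

end Cfsg.Agent.S3751
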