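import Cfsg.Statements.S3752
import Cfsg.Agent.Lib.Core.Layer
-- import your own Cfsg.Agent.* helpers here

set_option autoImplicit false
open Cfsg

namespace Cfsg.Agent.S3752

open Subgroup
open Cfsg.Lib.Core
open scoped commutatorElement

universe u

variable {G : Type u} [Group G] [Finite G]

/-- The ambient `p`-core of a subgroup. -/
def ocore (p : ℕ) (M : Subgroup G) : Subgroup G := (Cfsg.pCore p M).map M.subtype

theorem ocore_le (p : ℕ) (M : Subgroup G) : ocore p M ≤ M := map_subtype_le _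

theorem ocore_normal (p : ℕ) (M : Subgroup G) : M ≤ normalizer (ocore p M : Set G) :=
  le_normalizer.trans (normalizer_le_normalizer_map_char (Cfsg.pCore p M))

theorem ocore_isPGroup (p : ℕ) (M : Subgroup G) : IsPGroup p (ocore p M) := (pCore_isPGroup p M).map _

theorem comm_bot {A B : Subgroup G} (hBA : B ≤ normalizer (A : Set G)) (hAB : A ≤ normalizer (B : Set G))
    (h : A ⊓ B = ⊥) : ∀ a ∈ A, ∀ b ∈ B, a * b = b * a := by
  intro a ha b hb
  refine commutatorElement_eq_one_iff_mul_comm.1 (mem_bot.1 (h.le ⟨?_, ?_⟩))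
  · have h1 : a * b * a⁻¹ * b⁻¹ = a * (b * a⁻¹ * b⁻¹) := by group
    rw [commutatorElement_def, h1]
    exact A.mul_mem ha ((mem_normalizer_iff.1 (hBA hb) _).1 (A.inv_mem ha))
  · rw [commutatorElement_def]
    exact B.mul_mem ((mem_normalizer_iff.1 (hAB ha) _).1 hb) (B.inv_mem hb)

theorem ocore_comm {r s : ℕ} [Fact r.Prime] [Fact s.Prime] (hrs : r ≠ s) {M N : Subgroup G}
    (h₁ : ocore s N ≤ M) (h₂ : ocore r M ≤ N) :
    ∀ a ∈ ocore r M, ∀ b ∈ ocore s N, a * b = b * a :=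
  comm_bot (h₁.trans (ocore_normal r M)) (h₂.trans (ocore_normal s N))
    (disjoint_iff.1 (IsPGroup.disjoint_of_ne _ _ hrs _ _ (ocore_isPGroup r M) (ocore_isPGroup s N)))

/-- A `B`-normalised `p`-subgroup of `B` lies in the ambient `p`-core. -/
theorem le_ocore {p : ℕ} {A B : Subgroup G} (hAB : A ≤ B) (hn : B ≤ normalizer (A : Set G)) (hA : IsPGroup p A) :
    A ≤ ocore p B := by
  intro x hx
  haveI : (A.subgroupOf B).Normal := (normal_subgroupOf_iff_le_normalizer hAB).2 hn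
  exact ⟨⟨x, hAB hx⟩, le_pCore (N := A.subgroupOf B) hA.comap_subtype hx, rfl⟩

/-- `L` is a component of the subgroup `M`. -/
def CompIn (M L : Subgroup G) : Prop := L ≤ M ∧ Cfsg.IsComponent (L.subgroupOf M)

theorem CompIn.mono {M H L : Subgroup G} (hL : CompIn M L) (hLH : L ≤ H) (hHM : H ≤ M) : CompIn H L := by
  refine ⟨hLH, ?_⟩
  have h1 := IsComponent.subgroupOf hL.2 (H := H.subgroupOf M) (fun x hx => hLH hx)
  have h2 := IsComponent.map_equiv h1 (subgroupOfEquivOfLe hHM)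
  convert h2 using 1
  ext x
  constructor
  · intro hx
    exact ⟨⟨⟨x, hHM x.2⟩, x.2⟩, hx, rfl⟩
  · rintro ⟨y, hy, rfl⟩
    exact hy

/-- The generalised Fitting subgroup of `M`, inside `G`. -/
def fstar (M : Subgroup G) : Subgroup G := (Cfsg.generalizedFittingSubgroup M).map M.subtype

theorem compIn_le_fstar {M L : Subgroup G} (hL : CompIn M L) : L ≤ fstar M := fun x hx =>
  ⟨⟨x, hL.1 hx⟩, layer_le_generalizedFitting (le_layer hL.2 hx), rfl⟩

theorem compIn_of_compIn_inf {M H K : Subgroup G} (hHM : H ≤ M) (hFH : fstar M ≤ H) (hK : CompIn H K) :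
    CompIn M K := by
  by_contra hne
  have hKM : K ≤ M := hK.1.trans hHM
  have hcomp : ∀ L : Subgroup M, Cfsg.IsComponent L → L.map M.subtype ≤ centralizer (K : Set G) := by
    intro L hL
    have hLin : CompIn M (L.map M.subtype) := ⟨map_subtype_le _, by
      rwa [Subgroup.subgroupOf, comap_map_eq_self_of_injective M.subtype_injective] ⟩
    have hLH : L.map M.subtype ≤ H := (compIn_le_fstar hLin).trans hFH
    have hne' : (L.map M.subtype).subgroupOf H ≠ K.subgroupOf H := fun e => by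
      refine hne ?_
      have := congrArg (Subgroup.map H.subtype) e
      rw [map_subgroupOf_eq_of_le hLH, map_subgroupOf_eq_of_le hK.1] at this
      rwa [← this]
    have h := component_commute (hLin.mono hLH hHM).2 hK.2 hne'
    intro x hx
    refine mem_centralizer_iff.2 fun k hk => ?_
    exact (congrArg Subtype.val (commutator_eq_bot_iff_forall.1 h ⟨x, hLH hx⟩ hx ⟨k, hK.1 hk⟩ hk)).symm
  have hfit : (Cfsg.fittingSubgroup M).map M.subtype ≤ centralizer (K : Set G) := by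
    have hle : (Cfsg.fittingSubgroup M).map M.subtype ≤ H :=
      (map_mono fitting_le_generalizedFitting).trans hFH
    haveI := fittingSubgroup_isNilpotent M
    have hn : H ≤ normalizer ((Cfsg.fittingSubgroup M).map M.subtype : Set G) := by
      haveI : (Cfsg.fittingSubgroup M).Normal := fittingSubgroup_normal' M
      refine hHM.trans (le_of_eq_of_le ?_ (le_normalizer_map M.subtype))
      rw [normalizer_eq_top_iff.2 inferInstance, ← MonoidHom.range_eq_map, range_subtype]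
    haveI : (((Cfsg.fittingSubgroup M).map M.subtype).subgroupOf H).Normal :=
      (normal_subgroupOf_iff_le_normalizer hle).2 hn
    have hsolv : Group.IsSolvable ↥(((Cfsg.fittingSubgroup M).map M.subtype).subgroupOf H) := by
      haveI : Group.IsSolvable ↥((Cfsg.fittingSubgroup M).map M.subtype) :=
        isSolvable_map (IsNilpotent.to_isSolvable) M.subtype
      exact solvable_of_solvable_injective (f := (subgroupOfEquivOfLe hle).toMonoidHom)
        (subgroupOfEquivOfLe hle).injective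
    have h := component_commute_solvable hK.2 hsolv le_normalizer_of_normal
    intro x hx
    refine mem_centralizer_iff.2 fun k hk => ?_
    exact congrArg Subtype.val (commutator_eq_bot_iff_forall.1 h ⟨k, hK.1 hk⟩ hk ⟨x, hle hx⟩ hx)
  have hall : fstar M ≤ centralizer (K : Set G) := by
    rw [fstar, Cfsg.generalizedFittingSubgroup, Subgroup.map_sup, Cfsg.layer, sSup_eq_iSup, Subgroup.map_iSup]
    refine sup_le (iSup_le fun L => ?_) hfit
    rw [Subgroup.map_iSup]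
    exact iSup_le fun hL => hcomp L hL
  have hKF : ∀ k ∈ K, k ∈ fstar M := by
    intro k hk
    refine ⟨⟨k, hKM hk⟩, centralizer_generalizedFitting_le (mem_centralizer_iff.2 fun y hy => Subtype.ext ?_), rfl⟩
    exact (mem_centralizer_iff.1 (hall ⟨y, hy, rfl⟩) k hk).symm
  refine IsComponent.not_solvable hK.2 ?_
  haveI : IsMulCommutative ↥(K.subgroupOf H) := ⟨⟨fun a b => Subtype.ext (Subtype.ext
    (mem_centralizer_iff.1 (hall (hKF _ b.2)) _ a.2))⟩⟩
  exact isSolvable_of_isMulCommutative _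

theorem layer_eq_bot (M₁ M₂ : Subgroup G) (hne : M₁ ≠ M₂)
    (hP : ∀ A : Subgroup G, A ≠ ⊥ → A ≤ M₁ ⊓ M₂ → M₁ ≤ normalizer (A : Set G) → ¬ M₂ ≤ normalizer (A : Set G))
    (h₁ : fstar M₁ ≤ M₂) (h₂ : fstar M₂ ≤ M₁) : Cfsg.layer M₁ = ⊥ := by
  have hfle : ∀ M : Subgroup G, fstar M ≤ M := fun M => map_subtype_le _
  have hiff : ∀ K, CompIn M₁ K ↔ CompIn M₂ K := fun K =>
    ⟨fun h => compIn_of_compIn_inf inf_le_right (le_inf h₂ (hfle _))
        (h.mono (le_inf h.1 ((compIn_le_fstar h).trans h₁)) inf_le_left),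
     fun h => compIn_of_compIn_inf inf_le_left (le_inf (hfle _) h₁)
        (h.mono (le_inf ((compIn_le_fstar h).trans h₂) h.1) inf_le_right)⟩
  have hlayer : ∀ M : Subgroup G, (Cfsg.layer M).map M.subtype = sSup {K | CompIn M K} := by
    intro M
    refine le_antisymm ?_ (sSup_le fun K hK x hx => ⟨⟨x, hK.1 hx⟩, le_layer hK.2 hx, rfl⟩)
    rw [Cfsg.layer, sSup_eq_iSup, Subgroup.map_iSup]
    refine iSup_le fun L => ?_
    rw [Subgroup.map_iSup]
    exact iSup_le fun hL => le_sSup ⟨map_subtype_le _, by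
      rwa [Subgroup.subgroupOf, comap_map_eq_self_of_injective M.subtype_injective]⟩
  by_contra h
  have hE : (Cfsg.layer M₁).map M₁.subtype ≠ ⊥ := by
    rwa [Ne, map_eq_bot_iff_of_injective _ M₁.subtype_injective]
  have heq : (Cfsg.layer M₁).map M₁.subtype = (Cfsg.layer M₂).map M₂.subtype := by
    rw [hlayer, hlayer]; simp only [hiff]
  refine hP _ hE (le_inf (map_subtype_le _) (heq.le.trans (map_subtype_le _)))
    (le_normalizer.trans (normalizer_le_normalizer_map_char (Cfsg.layer M₁))) ?_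
  rw [heq]
  exact le_normalizer.trans (normalizer_le_normalizer_map_char (Cfsg.layer M₂))

theorem centralizer_ocores {M : Subgroup G} (hE : Cfsg.layer M = ⊥) {x : G} (hx : x ∈ M)
    (hc : ∀ s : ℕ, s.Prime → ∀ y ∈ ocore s M, y * x = x * y) :
    (⟨x, hx⟩ : M) ∈ Cfsg.fittingSubgroup M := by
  refine (centralizer_fitting_le_iff_layer_eq_bot.2 hE) ?_
  rw [fittingSubgroup_eq_iSup_pCore, mem_centralizer_iff]
  intro y hy
  have hle : (⨆ p : Nat.Primes, Cfsg.pCore (p : ℕ) M) ≤ centralizer ({⟨x, hx⟩} : Set M) :=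
    iSup_le fun p z hz => mem_centralizer_singleton_iff.2 (Subtype.ext (hc p p.2 z ⟨z, hz, rfl⟩))
  exact mem_centralizer_singleton_iff.1 (hle hy)

theorem key (M₁ M₂ : Subgroup G) (hE : Cfsg.layer M₂ = ⊥) (q r : ℕ) [Fact q.Prime] [Fact r.Prime] (hrq : r ≠ q)
    (hF₁ : ∀ s : ℕ, s.Prime → ocore s M₁ ≤ M₂) (hF₂ : ∀ s : ℕ, s.Prime → ocore s M₂ ≤ M₁)
    (x : G) (hx : x ∈ M₂) (n : ℕ) (hxn : orderOf x = q ^ n)
    (hxc : ∀ s : ℕ, s.Prime → s ≠ q → ∀ z ∈ ocore s M₂, z * x = x * z) :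
    ∀ y ∈ ocore r M₁, y * x = x * y := by
  intro y hy
  have hr : r.Prime := Fact.out
  have hq : q.Prime := Fact.out
  have hyM : y ∈ M₂ := hF₁ r hr hy
  have hycomm : ∀ s : ℕ, s.Prime → s ≠ r → ∀ z ∈ ocore s M₂, y * z = z * y := fun s hs hsr z hz =>
    haveI := Fact.mk hs
    ocore_comm (Ne.symm hsr) (hF₂ s hs) (hF₁ r hr) y hy z hz
  set c := ⁅x, y⁆ with hc
  have hcM : c ∈ M₂ := by
    rw [hc, commutatorElement_def]; exact mul_mem (mul_mem (mul_mem hx hyM) (inv_mem hx)) (inv_mem hyM)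
  -- `c` centralises every core of `M₂`
  have hcF : (⟨c, hcM⟩ : M₂) ∈ Cfsg.fittingSubgroup M₂ := by
    refine centralizer_ocores hE hcM fun s hs z hz => ?_
    have hn : ∀ g ∈ M₂, g * z * g⁻¹ ∈ ocore s M₂ := fun g hg => (mem_normalizer_iff.1 (ocore_normal s M₂ hg) z).1 hz
    show Commute z c
    by_cases hsq : s = q
    · -- `y` centralises `O_q(M₂)`
      have hz' : ∀ w ∈ ocore s M₂, Commute w y := fun w hw => (hycomm s hs (hsq ▸ hrq.symm) w hw).symm
      have h1 : Commute (x⁻¹ * z * x) y := hz' _ (by simpa using hn x⁻¹ (inv_mem hx))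
      have h2 : Commute z (x * y * x⁻¹) := by
        have := h1.map (MulAut.conj x).toMonoidHom
        simpa [MulAut.conj_apply, mul_assoc] using this
      rw [hc, commutatorElement_def]
      exact h2.mul_right (hz' z hz).inv_right
    · -- `x` centralises it
      have hz' : ∀ w ∈ ocore s M₂, Commute w x := fun w hw => hxc s hs hsq w hw
      have h1 : Commute (y⁻¹ * z * y) x⁻¹ := (hz' _ (by simpa using hn y⁻¹ (inv_mem hyM))).inv_right
      have h2 : Commute z (y * x⁻¹ * y⁻¹) := by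
        have := h1.map (MulAut.conj y).toMonoidHom
        simpa [MulAut.conj_apply, mul_assoc] using this
      rw [hc, commutatorElement_def, show x * y * x⁻¹ * y⁻¹ = x * (y * x⁻¹ * y⁻¹) by group]
      exact (hz' z hz).mul_right h2
  -- split off the `r`-part
  set O := Cfsg.pCore r M₂ with hO
  set B := ⨆ s : {s : Nat.Primes // (s : ℕ) ≠ r}, Cfsg.pCore (s : ℕ) M₂ with hB
  have hFle : Cfsg.fittingSubgroup M₂ ≤ O ⊔ B := by
    rw [fittingSubgroup_eq_iSup_pCore]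
    refine iSup_le fun s => ?_
    by_cases hs : (s : ℕ) = r
    · rw [hs]; exact le_sup_left
    · exact le_sup_of_le_right (le_iSup (fun s : {s : Nat.Primes // (s : ℕ) ≠ r} => Cfsg.pCore (s : ℕ) M₂) ⟨s, hs⟩)
  have hBp : B ≤ Cfsg.pPrimeCore r M₂ := iSup_le fun s => by
    haveI := Fact.mk s.1.2
    refine le_pPrimeCore ?_
    obtain ⟨k, hk⟩ := IsPGroup.iff_card.1 (pCore_isPGroup (s.1 : ℕ) M₂)
    rw [hk]
    exact Nat.Coprime.pow_left k ((Nat.coprime_primes s.1.2 hr).2 s.2)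
  obtain ⟨a, ha, b, hb, hab⟩ := (mem_sup_of_commute (eq_bot_iff.2 ((commutator_mono le_rfl hBp).trans
    (commutator_pCore_pPrimeCore (p := r) (G := M₂)).le))).1 (hFle hcF)
  have hby : Commute (b : G) y := by
    have hle : B.map M₂.subtype ≤ centralizer ({y} : Set G) := by
      rw [hB, Subgroup.map_iSup]
      refine iSup_le fun s => fun w hw => mem_centralizer_singleton_iff.2 ?_
      exact (hycomm s.1 s.1.2 s.2 w hw).symm
    exact mem_centralizer_singleton_iff.1 (hle ⟨b, hb, rfl⟩)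
  have hba : Commute (b : G) (a : G) := by
    have := commutator_eq_bot_iff_forall.1 (commutator_pCore_pPrimeCore (p := r) (G := M₂)) a ha b (hBp hb)
    exact (congrArg Subtype.val this).symm
  have habc : (a : G) * (b : G) = c := congrArg Subtype.val hab
  -- `S = O_r(M₁) O_r(M₂)` is an `r`-group
  have hS : IsPGroup r ↥(ocore r M₁ ⊔ ocore r M₂ : Subgroup G) :=
    IsPGroup.to_sup_of_normal_right' (ocore_isPGroup r M₁) (ocore_isPGroup r M₂)
      ((hF₁ r hr).trans (ocore_normal r M₂))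
  have hay : (a : G) * y ∈ ocore r M₁ ⊔ ocore r M₂ :=
    mul_mem (mem_sup_right ⟨a, ha, rfl⟩) (mem_sup_left hy)
  obtain ⟨k₁, hk₁⟩ := hS ⟨_, hay⟩
  obtain ⟨k₂, hk₂⟩ := ocore_isPGroup r M₁ ⟨y, hy⟩
  have hk₁' : ((a : G) * y) ^ r ^ k₁ = 1 := congrArg Subtype.val hk₁
  have hk₂' : y ^ r ^ k₂ = 1 := congrArg Subtype.val hk₂
  have hb1 : b = 1 := by
    have hconj : x * y * x⁻¹ = (a : G) * y * b := by
      rw [mul_assoc (a : G) y, ← hby.eq, ← mul_assoc (a : G) (b : G) y, habc, hc, commutatorElement_def]; group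
    have hpow : (b : G) ^ r ^ (k₁ + k₂) = 1 := by
      have h1 : (x * y * x⁻¹) ^ r ^ (k₁ + k₂) = 1 := by
        rw [conj_pow, add_comm k₁, pow_add, pow_mul, hk₂', one_pow, mul_one, mul_inv_cancel]
      rw [hconj, ((hba.mul_right hby).symm).mul_pow, pow_add, pow_mul ((a : G) * y), hk₁', one_pow, one_mul,
        ← pow_add] at h1
      exact h1
    have h1 : orderOf b ∣ r ^ (k₁ + k₂) := orderOf_dvd_of_pow_eq_one (Subtype.ext hpow)
    have h2 : orderOf b ∣ Nat.card (Cfsg.pPrimeCore r M₂) :=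
      (orderOf_mk (G := M₂) b (hBp hb)) ▸ orderOf_dvd_natCard (⟨b, hBp hb⟩ : Cfsg.pPrimeCore r M₂)
    exact orderOf_eq_one_iff.1 (Nat.eq_one_of_dvd_coprimes
      (((pPrimeCore_coprime r M₂).pow_right _)) h2 h1)
  have hca : c ∈ ocore r M₂ := by rw [← habc, hb1, OneMemClass.coe_one, mul_one]; exact ⟨a, ha, rfl⟩
  have hcx : c * x = x * c := hxc r hr hrq c hca
  have hiter : ∀ i : ℕ, x ^ i * y * (x ^ i)⁻¹ = c ^ i * y := by
    intro i
    induction i with
    | zero => simp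
    | succ i ih =>
      have hci : Commute x (c ^ i) := (Commute.pow_left hcx i).symm
      calc x ^ (i + 1) * y * (x ^ (i + 1))⁻¹ = x * (x ^ i * y * (x ^ i)⁻¹) * x⁻¹ := by rw [pow_succ']; group
        _ = x * c ^ i * y * x⁻¹ := by rw [ih]; group
        _ = c ^ i * (x * y * x⁻¹) := by rw [hci.eq]; group
        _ = c ^ (i + 1) * y := by rw [pow_succ, hc, commutatorElement_def]; group
  have hcn : c ^ (q ^ n) = 1 := by
    have := hiter (q ^ n)
    rw [← hxn, pow_orderOf_eq_one, one_mul, inv_one, mul_one] at this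
    rw [← hxn]
    exact mul_right_cancel (this.symm.trans (one_mul y).symm)
  obtain ⟨k, hk⟩ := ocore_isPGroup r M₂ ⟨c, hca⟩
  have hc1 : c = 1 := orderOf_eq_one_iff.1 (Nat.eq_one_of_dvd_coprimes
    (((Nat.coprime_primes hr hq).2 hrq).pow k n) (orderOf_dvd_of_pow_eq_one (congrArg Subtype.val hk))
    (orderOf_dvd_of_pow_eq_one hcn))
  exact (commutatorElement_eq_one_iff_mul_comm.1 (hc ▸ hc1)).symm

/-- If `O_q` of one member is trivial, so is that of the other. -/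
theorem ocore_ne (M₁ M₂ : Subgroup G) (hE : Cfsg.layer M₂ = ⊥)
    (hF₁ : ∀ s : ℕ, s.Prime → ocore s M₁ ≤ M₂) (hF₂ : ∀ s : ℕ, s.Prime → ocore s M₂ ≤ M₁)
    (q : ℕ) [Fact q.Prime] (h₂ : ocore q M₂ = ⊥) : ocore q M₁ = ⊥ := by
  refine eq_bot_iff.2 fun x hx => ?_
  have hq : q.Prime := Fact.out
  have hxM : x ∈ M₂ := hF₁ q hq hx
  have hxF := centralizer_ocores hE hxM fun s hs y hy => by
    by_cases hsq : s = q
    · subst hsq; rw [h₂, mem_bot] at hy; simp [hy]
    · haveI := Fact.mk hs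
      exact (ocore_comm (Ne.symm hsq) (hF₂ s hs) (hF₁ q hq) x hx y hy).symm
  -- a `q`-element of the Fitting subgroup
  have hle : Cfsg.fittingSubgroup M₂ ≤ Cfsg.pPrimeCore q M₂ := by
    rw [fittingSubgroup_eq_iSup_pCore]
    refine iSup_le fun s => ?_
    by_cases hs : (s : ℕ) = q
    · rw [hs]
      rw [ocore, map_eq_bot_iff_of_injective _ M₂.subtype_injective] at h₂
      rw [h₂]; exact bot_le
    · haveI := Fact.mk s.2
      refine le_pPrimeCore ?_
      obtain ⟨k, hk⟩ := IsPGroup.iff_card.1 (pCore_isPGroup (s : ℕ) M₂)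
      rw [hk]
      exact Nat.Coprime.pow_left k ((Nat.coprime_primes s.2 hq).2 hs)
  obtain ⟨k, hk⟩ := ocore_isPGroup q M₁ ⟨x, hx⟩
  have h1 : orderOf (⟨x, hxM⟩ : M₂) ∣ q ^ k := orderOf_dvd_of_pow_eq_one (Subtype.ext (congrArg Subtype.val hk :))
  have h2 : orderOf (⟨x, hxM⟩ : M₂) ∣ Nat.card (Cfsg.pPrimeCore q M₂) :=
    (orderOf_mk (G := M₂) _ (hle hxF)) ▸ orderOf_dvd_natCard (⟨_, hle hxF⟩ : Cfsg.pPrimeCore q M₂)
  rw [mem_bot]
  exact congrArg Subtype.val (orderOf_eq_one_iff.1 (Nat.eq_one_of_dvd_coprimes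
    ((pPrimeCore_coprime q M₂).pow_right _) h2 h1))

/-- The `q`-elements of `M` centralising every `O_s(M)`, `s ≠ q`. -/
def qset (q : ℕ) (M : Subgroup G) : Set G :=
  {x | x ∈ M ∧ (∃ n, orderOf x = q ^ n) ∧ ∀ s : ℕ, s.Prime → s ≠ q → ∀ z ∈ ocore s M, z * x = x * z}

theorem normalizer_qset (q : ℕ) (M : Subgroup G) : M ≤ normalizer (closure (qset q M) : Set G) := by
  intro g hg
  have hset : ∀ g ∈ M, ∀ x ∈ qset q M, g * x * g⁻¹ ∈ qset q M := by
    rintro g hg x ⟨hx, ⟨n, hn⟩, hc⟩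
    refine ⟨mul_mem (mul_mem hg hx) (inv_mem hg), ⟨n, ?_⟩, fun s hs hsq z hz => ?_⟩
    · rw [← hn, ← MulAut.conj_apply, MulEquiv.orderOf_eq]
    · have h1 : Commute (g⁻¹ * z * g) x :=
        hc s hs hsq _ (by simpa using (mem_normalizer_iff.1 (ocore_normal s M (inv_mem hg)) z).1 hz)
      have := h1.map (MulAut.conj g).toMonoidHom
      simpa [MulAut.conj_apply, mul_assoc] using this.eq
  rw [mem_normalizer_iff_map_conj, MonoidHom.map_closure]
  congr 1
  ext x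
  constructor
  · rintro ⟨y, hy, rfl⟩; exact hset g hg y hy
  · intro hx
    exact ⟨g⁻¹ * x * g, by simpa using hset g⁻¹ (inv_mem hg) x hx, by simp [mul_assoc]⟩

theorem qset_subset (M₁ M₂ : Subgroup G) (hE : Cfsg.layer M₂ = ⊥) (q r : ℕ) [Fact q.Prime] [Fact r.Prime]
    (hrq : r ≠ q) (hF₁ : ∀ s : ℕ, s.Prime → ocore s M₁ ≤ M₂) (hF₂ : ∀ s : ℕ, s.Prime → ocore s M₂ ≤ M₁)
    (hn : M₂ ⊓ normalizer (ocore r M₁ : Set G) ≤ M₁) : qset q M₂ ⊆ qset q M₁ := by
  rintro x ⟨hx, ⟨n, hxn⟩, hxc⟩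
  have hall : ∀ s : ℕ, s.Prime → s ≠ q → ∀ z ∈ ocore s M₁, z * x = x * z := fun s hs hsq =>
    haveI := Fact.mk hs
    key M₁ M₂ hE q s hsq hF₁ hF₂ x hx n hxn hxc
  refine ⟨hn ⟨hx, centralizer_le_normalizer _ (mem_centralizer_iff.2 ?_)⟩, ⟨n, hxn⟩, hall⟩
  exact hall r Fact.out hrq

/-- Bender's Theorem on primitive pairs. Two distinct subgroups M₁, M₂ of G form a primitive pair when, for {i, j} = {1, 2}, every non-trivial normal subgroup A of M_i contained in M₁ ∩ M₂ satisfies N_{M_j}(A) = M₁ ∩ M₂; the pair has characteristic p when moreover C_{M_i}(O_p(M_i)) ≤ O_p(M_i) for both i and O_p(M₁)O_p(M₂) ≤ M₁ ∩ M₂. If (M₁, M₂) is a primitive pair of the finite group G with F*(M₁) ≤ M₂ and F*(M₂) ≤ M₁, then for some prime p the pair has characteristic p. -/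
theorem result {G : Type*} [Group G] [Finite G] (M₁ M₂ : Subgroup G) (hne : M₁ ≠ M₂) (hP : ∀ A : Subgroup G, A ≠ ⊥ → A ≤ M₁ ⊓ M₂ → (M₁ ≤ Subgroup.normalizer (A : Set G) → M₂ ⊓ Subgroup.normalizer (A : Set G) = M₁ ⊓ M₂) ∧ (M₂ ≤ Subgroup.normalizer (A : Set G) → M₁ ⊓ Subgroup.normalizer (A : Set G) = M₁ ⊓ M₂)) (h₁ : (Cfsg.generalizedFittingSubgroup ↥M₁).map M₁.subtype ≤ M₂) (h₂ : (Cfsg.generalizedFittingSubgroup ↥M₂).map M₂.subtype ≤ M₁) : ∃ p : ℕ, p.Prime ∧ Subgroup.centralizer (Cfsg.pCore p ↥M₁ : Set ↥M₁) ≤ Cfsg.pCore p ↥M₁ ∧ Subgroup.centralizer (Cfsg.pCore p ↥M₂ : Set ↥M₂) ≤ Cfsg.pCore p ↥M₂ ∧ (Cfsg.pCore p ↥M₁).map M₁.subtype ⊔ (Cfsg.pCore p ↥M₂).map M₂.subtype ≤ M₁ ⊓ M₂ := by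
  have hPneg : ∀ A : Subgroup G, A ≠ ⊥ → A ≤ M₁ ⊓ M₂ → M₁ ≤ Subgroup.normalizer (A : Set G) →
      ¬ M₂ ≤ Subgroup.normalizer (A : Set G) := fun A hA hle h1 h2 => by
    have e1 := (hP A hA hle).1 h1
    have e2 := (hP A hA hle).2 h2
    rw [inf_eq_left.2 h2] at e1
    rw [inf_eq_left.2 h1] at e2
    exact hne (e2.trans e1.symm)
  have hE₁ := layer_eq_bot M₁ M₂ hne hPneg h₁ h₂
  have hE₂ := layer_eq_bot M₂ M₁ (Ne.symm hne)
    (fun A hA hle h2 h1 => hPneg A hA (inf_comm M₂ M₁ ▸ hle) h1 h2) h₂ h₁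
  have hsub : ∀ (M : Subgroup G) (s : ℕ), s.Prime → ocore s M ≤ fstar M := fun M s hs =>
    haveI := Fact.mk hs
    Subgroup.map_mono ((Cfsg.Lib.Core.pCore_le_fittingSubgroup s M).trans Cfsg.Lib.Core.fitting_le_generalizedFitting)
  have hF₁ : ∀ s : ℕ, s.Prime → ocore s M₁ ≤ M₂ := fun s hs => (hsub M₁ s hs).trans h₁
  have hF₂ : ∀ s : ℕ, s.Prime → ocore s M₂ ≤ M₁ := fun s hs => (hsub M₂ s hs).trans h₂
  -- some core is nontrivial
  have hex : ∃ q : ℕ, q.Prime ∧ ocore q M₁ ≠ ⊥ := by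
    by_contra h
    push Not at h
    have hbot : ∀ (M : Subgroup G), Cfsg.layer M = ⊥ → (∀ q : ℕ, q.Prime → ocore q M = ⊥) → M = ⊥ := by
      intro M hE hM
      by_contra hne'
      haveI : Nontrivial M := (Subgroup.nontrivial_iff_ne_bot M).2 hne'
      refine Cfsg.Lib.Core.generalizedFitting_ne_bot (G := M) ?_
      rw [Cfsg.Lib.Core.generalizedFitting_eq_fitting_of_layer_eq_bot hE, Cfsg.Lib.Core.fittingSubgroup_eq_iSup_pCore,
        iSup_eq_bot]
      intro s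
      have := hM s s.2
      rwa [ocore, Subgroup.map_eq_bot_iff_of_injective _ M.subtype_injective] at this
    refine hne ((hbot M₁ hE₁ h).trans (hbot M₂ hE₂ fun q hq => ?_).symm)
    haveI := Fact.mk hq
    exact ocore_ne M₂ M₁ hE₁ hF₂ hF₁ q (h q hq)
  obtain ⟨q, hq, hq₁⟩ := hex
  haveI := Fact.mk hq
  have hq₂ : ocore q M₂ ≠ ⊥ := fun h => hq₁ (ocore_ne M₁ M₂ hE₂ hF₁ hF₂ q h)
  have honly : ∀ r : ℕ, r.Prime → r ≠ q → ocore r M₁ = ⊥ := by
    intro r hr hrq
    haveI := Fact.mk hr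
    by_contra hr₁
    have hr₂ : ocore r M₂ ≠ ⊥ := fun h => hr₁ (ocore_ne M₁ M₂ hE₂ hF₁ hF₂ r h)
    have hn₁ : M₂ ⊓ Subgroup.normalizer (ocore r M₁ : Set G) ≤ M₁ :=
      ((hP _ hr₁ (le_inf (ocore_le r M₁) (hF₁ r hr))).1 (ocore_normal r M₁)).le.trans inf_le_left
    have hn₂ : M₁ ⊓ Subgroup.normalizer (ocore r M₂ : Set G) ≤ M₂ :=
      ((hP _ hr₂ (le_inf (hF₂ r hr) (ocore_le r M₂))).2 (ocore_normal r M₂)).le.trans inf_le_right
    have heq : qset q M₁ = qset q M₂ := Set.Subset.antisymm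
      (qset_subset M₂ M₁ hE₁ q r hrq hF₂ hF₁ hn₂) (qset_subset M₁ M₂ hE₂ q r hrq hF₁ hF₂ hn₁)
    have hne' : Subgroup.closure (qset q M₁) ≠ ⊥ := by
      intro h
      refine hq₁ (eq_bot_iff.2 fun z hz => ?_)
      refine h.le (Subgroup.subset_closure ⟨ocore_le q M₁ hz, ?_, fun s hs hsq w hw => ?_⟩)
      · obtain ⟨k, hk⟩ := ocore_isPGroup q M₁ ⟨z, hz⟩
        obtain ⟨i, -, hi⟩ := (Nat.dvd_prime_pow hq).1 (orderOf_dvd_of_pow_eq_one (congrArg Subtype.val hk :))
        exact ⟨i, hi⟩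
      · haveI := Fact.mk hs
        exact ocore_comm hsq (ocore_le q M₁) (ocore_le s M₁) w hw z hz
    refine hPneg _ hne' (le_inf ((Subgroup.closure_le _).2 fun x hx => hx.1) ?_) (normalizer_qset q M₁) ?_
    · rw [heq]; exact (Subgroup.closure_le _).2 fun x hx => hx.1
    · rw [heq]; exact normalizer_qset q M₂
  have hchar : ∀ M : Subgroup G, Cfsg.layer M = ⊥ → (∀ r : ℕ, r.Prime → r ≠ q → ocore r M = ⊥) →
      Subgroup.centralizer (Cfsg.pCore q ↥M : Set ↥M) ≤ Cfsg.pCore q ↥M := by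
    intro M hE hM
    refine Cfsg.Lib.Core.generalizedFitting_eq_pCore_iff.1 ?_
    rw [Cfsg.Lib.Core.generalizedFitting_eq_fitting_of_layer_eq_bot hE, Cfsg.Lib.Core.fittingSubgroup_eq_iSup_pCore]
    refine le_antisymm (iSup_le fun s => ?_) (le_iSup (fun s : Nat.Primes => Cfsg.pCore (s : ℕ) M) ⟨q, hq⟩)
    by_cases hs : (s : ℕ) = q
    · rw [hs]
    · have := hM s s.2 hs
      rw [ocore, Subgroup.map_eq_bot_iff_of_injective _ M.subtype_injective] at this
      rw [this]; exact bot_le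
  refine ⟨q, hq, hchar M₁ hE₁ honly, hchar M₂ hE₂ fun r hr hrq => ?_,
    sup_le (le_inf (ocore_le q M₁) (hF₁ q hq)) (le_inf (hF₂ q hq) (ocore_le q M₂))⟩
  haveI := Fact.mk hr
  exact ocore_ne M₂ M₁ hE₁ hF₂ hF₁ r (honly r hr hrq)

end Cfsg.Agent.S3752
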