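import Cfsg.Statements.S3753
import Cfsg.Agent.Lib.Local.StablePair
import Cfsg.Agent.Lib.Local.SL2Involved
-- import your own Cfsg.Agent.* helpers here

set_option autoImplicit false
open Cfsg

namespace Cfsg.Agent.S3753

open Cfsg.Lib.Local

theorem charP_of {G : Type*} [Group G] {p : ℕ} {M : Subgroup G}
    (h : Subgroup.centralizer (Cfsg.pCore p ↥M : Set ↥M) ≤ Cfsg.pCore p ↥M) :
    M ⊓ Subgroup.centralizer (Cfsg.pCoreOf p M : Set G) ≤ Cfsg.pCoreOf p M :=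
  (isCharP_iff M).2 h

/-- For `p = 2`. -/
theorem core_le {G : Type*} [Group G] [Finite G] {M N : Subgroup G}
    (hc : Subgroup.centralizer (Cfsg.pCore 2 ↥M : Set ↥M) ≤ Cfsg.pCore 2 ↥M)
    (hab : ∀ S : Sylow 2 ↥M, IsMulCommutative (S : Subgroup ↥M))
    (hNM : Cfsg.pCoreOf 2 N ≤ M) : Cfsg.pCoreOf 2 N ≤ Cfsg.pCoreOf 2 M := by
  haveI : Fact (Nat.Prime 2) := ⟨Nat.prime_two⟩
  obtain ⟨S, hS⟩ := ((pCoreOf_isPGroup (p := 2) N).comap_subtype (K := M)).exists_le_sylow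
  have hQS := Cfsg.Lib.Core.pCore_le_sylow S
  intro x hx
  refine mem_pCoreOf.2 ⟨hNM hx, hc fun v hv => ?_⟩
  exact congrArg Subtype.val ((hab S).is_comm.comm ⟨v, hQS hv⟩ ⟨⟨x, hNM hx⟩, hS hx⟩)

/-- Two distinct subgroups M₁, M₂ of G form a primitive pair when, for {i, j} = {1, 2}, every non-trivial normal subgroup A of M_i contained in M₁ ∩ M₂ satisfies N_{M_j}(A) = M₁ ∩ M₂; the pair has characteristic p when moreover C_{M_i}(O_p(M_i)) ≤ O_p(M_i) for both i and O_p(M₁)O_p(M₂) ≤ M₁ ∩ M₂. If the finite group G has a primitive pair (M₁, M₂) of characteristic p for some prime p, then M₁ or M₂ has non-abelian Sylow 2-subgroups. In particular no group of odd order has a primitive pair of characteristic p. -/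
theorem result {G : Type*} [Group G] [Finite G] {p : ℕ} [Fact p.Prime] (M₁ M₂ : Subgroup G) (hne : M₁ ≠ M₂) (hP : ∀ A : Subgroup G, A ≠ ⊥ → A ≤ M₁ ⊓ M₂ → (M₁ ≤ Subgroup.normalizer (A : Set G) → M₂ ⊓ Subgroup.normalizer (A : Set G) = M₁ ⊓ M₂) ∧ (M₂ ≤ Subgroup.normalizer (A : Set G) → M₁ ⊓ Subgroup.normalizer (A : Set G) = M₁ ⊓ M₂)) (hc₁ : Subgroup.centralizer (Cfsg.pCore p ↥M₁ : Set ↥M₁) ≤ Cfsg.pCore p ↥M₁) (hc₂ : Subgroup.centralizer (Cfsg.pCore p ↥M₂ : Set ↥M₂) ≤ Cfsg.pCore p ↥M₂) (hO : (Cfsg.pCore p ↥M₁).map M₁.subtype ⊔ (Cfsg.pCore p ↥M₂).map M₂.subtype ≤ M₁ ⊓ M₂) : (∃ S : Sylow 2 ↥M₁, ¬ IsMulCommutative (S : Subgroup ↥M₁)) ∨ (∃ S : Sylow 2 ↥M₂, ¬ IsMulCommutative (S : Subgroup ↥M₂)) := by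
  by_contra hcon
  push Not at hcon
  obtain ⟨hab1, hab2⟩ := hcon
  have hQ1 : Cfsg.pCoreOf p M₁ ≤ M₂ := (le_sup_left.trans hO).trans inf_le_right
  have hQ2 : Cfsg.pCoreOf p M₂ ≤ M₁ := (le_sup_right.trans hO).trans inf_le_left
  by_cases h2 : p = 2
  · subst h2
    set A := Cfsg.pCoreOf 2 M₁ with hA
    have hAe : A = Cfsg.pCoreOf 2 M₂ :=
      le_antisymm (core_le hc₂ hab2 hQ1) (core_le hc₁ hab1 hQ2)
    have hA1 : A ≤ M₁ ⊓ M₂ := le_inf (pCoreOf_le M₁) hQ1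
    by_cases hA0 : A = ⊥
    · have h1 : M₁ = ⊥ := by
        have := charP_of hc₁
        rw [← hA, hA0, le_bot_iff] at this
        rw [← le_bot_iff, ← this]
        exact le_inf le_rfl fun x _ y hy => by rw [SetLike.mem_coe, Subgroup.mem_bot] at hy; simp [hy]
      have h2' : M₂ = ⊥ := by
        have := charP_of hc₂
        rw [← hAe, hA0, le_bot_iff] at this
        rw [← le_bot_iff, ← this]
        exact le_inf le_rfl fun x _ y hy => by rw [SetLike.mem_coe, Subgroup.mem_bot] at hy; simp [hy]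
      exact hne (h1.trans h2'.symm)
    have hn1 : M₁ ≤ Subgroup.normalizer (A : Set G) := le_normalizer_pCoreOf M₁
    have hn2 : M₂ ≤ Subgroup.normalizer (A : Set G) := hAe ▸ le_normalizer_pCoreOf M₂
    obtain ⟨ha, hb⟩ := hP A hA0 hA1
    exact hne (le_antisymm
      ((le_inf le_rfl hn1).trans ((hb hn2).le.trans inf_le_right))
      ((le_inf le_rfl hn2).trans ((ha hn1).le.trans inf_le_left)))
  · have hfree : ∀ M : Subgroup G, (∀ S : Sylow 2 ↥M, IsMulCommutative (S : Subgroup ↥M)) →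
        ¬ Cfsg.Involves (Cfsg.qd p) ↥M := fun M hab =>
      SL2Involved.not_involves_qd_of_not_involves_SL2
        (SL2Involved.not_involves_SL2_of_abelian_sylow_two h2 hab)
    have hpr : StablePair.Pr p M₁ M₂ :=
      ⟨fun A h1 h2 h3 => ((hP A h1 h2).1 h3).le.trans inf_le_left,
        fun A h1 h2 h3 => ((hP A h1 h2).2 h3).le.trans inf_le_right,
        charP_of hc₁, charP_of hc₂, hQ1, hQ2, hfree M₁ hab1, hfree M₂ hab2⟩
    exact hpr.no_pair h2 hne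

end Cfsg.Agent.S3753
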