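import Cfsg.Statements.S3754
import Cfsg.Agent.Lib.Coprime.Generation
import Cfsg.Agent.Lib.Core.Layer
import Cfsg.Agent.Lib.Core.PSolvable
import Cfsg.Agent.Lib.Fusion.Basic
import Cfsg.Agent.Lib.PGroup.Basic
-- import your own Cfsg.Agent.* helpers here

set_option autoImplicit false
open Cfsg

namespace Cfsg.Agent.S3754

open Subgroup
open scoped commutatorElement

variable {p : ℕ} [Fact p.Prime]

/-- In a `p`-solvable group with trivial `p`-core, `C(O_{p'}) ≤ O_{p'}`. -/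
theorem centralizer_pPrimeCore_le {X : Type*} [Group X] [Finite X] (h : Cfsg.IsPSolvable p X)
    (hO : Cfsg.pCore p X = ⊥) :
    centralizer (Cfsg.pPrimeCore p X : Set X) ≤ Cfsg.pPrimeCore p X := by
  have hp : p.Prime := Fact.out
  have hF : Cfsg.fittingSubgroup X ≤ Cfsg.pPrimeCore p X := by
    rw [Cfsg.Lib.Core.fittingSubgroup_eq_iSup_pCore]
    refine iSup_le fun q => ?_
    by_cases hq : (q : ℕ) = p
    · rw [hq, hO]; exact bot_le
    · haveI := Fact.mk q.2
      refine Cfsg.Lib.Core.le_pPrimeCore ?_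
      obtain ⟨k, hk⟩ := IsPGroup.iff_card.1 (Cfsg.Lib.Core.pCore_isPGroup (q : ℕ) X)
      rw [hk]
      exact Nat.Coprime.pow_left k ((Nat.coprime_primes q.2 hp).2 hq)
  have hstar : Cfsg.generalizedFittingSubgroup X ≤ Cfsg.pPrimeCore p X := by
    refine sup_le (sSup_le fun L hL => ?_) hF
    refine Cfsg.Lib.Core.le_pPrimeCore_of_isSubnormal hL.1 ?_
    haveI := hL.2.2
    haveI := Cfsg.Lib.Core.quasisimple_nontrivial hL.2
    have htop : Cfsg.Lib.Core.IsMinNormal (⊤ : Subgroup (L ⧸ center L)) :=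
      ⟨inferInstance, top_ne_bot, fun N hN _ => hN.eq_bot_or_eq_top⟩
    have hq : (Nat.card (L ⧸ center L)).Coprime p := by
      rcases Cfsg.Lib.Core.minimal_normal_of_isPSolvable
        (Cfsg.Lib.Core.isPSolvable_quotient (Cfsg.Lib.Core.isPSolvable_subgroup h L) (center L)) htop with h' | h'
      · exfalso
        refine Cfsg.Lib.Core.quasisimple_not_solvable hL.2 ?_
        haveI : Group.IsNilpotent (L ⧸ center L) := (h'.of_equiv Subgroup.topEquiv).isNilpotent
        haveI := Group.of_quotient_center_nilpotent (G := L) inferInstance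
        infer_instance
      · rwa [card_top] at h'
    have hZ : (Nat.card (center L)).Coprime p := by
      refine Nat.Coprime.coprime_dvd_left ?_ (Cfsg.Lib.Core.pPrimeCore_coprime p X)
      rw [← card_map_of_injective (K := center L) L.subtype_injective]
      exact card_dvd_of_le ((Cfsg.Lib.Core.center_map_le_fittingSubgroup hL.1).trans hF)
    rw [card_eq_card_quotient_mul_card_subgroup (center L)]
    exact hq.mul_left hZ
  exact (centralizer_le hstar).trans (Cfsg.Lib.Core.centralizer_generalizedFitting_le.trans hstar)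

theorem eq_one_of_coprime_pElement {X : Type*} [Group X] [Finite X] {U : Subgroup X} (hU : (Nat.card U).Coprime p)
    {x : X} (hx : x ∈ U) {k : ℕ} (hk : x ^ p ^ k = 1) : x = 1 :=
  orderOf_eq_one_iff.1 (Nat.eq_one_of_dvd_coprimes (hU.pow_right k) (Subgroup.orderOf_dvd_natCard U hx)
    (orderOf_dvd_of_pow_eq_one hk))

/-- The configuration in the quotient. -/
theorem exists_minimal {X : Type*} [Group X] [Finite X] (h : Cfsg.IsPSolvable p X) (hO : Cfsg.pCore p X = ⊥)
    (A : Subgroup X) (hne : A ≠ ⊥) (hA : ∀ a ∈ A, a ^ p = 1) (hab : ∀ a ∈ A, ∀ b ∈ A, a * b = b * a) :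
    ∃ (B U : Subgroup X) (x : X), B ≤ A ∧ B.relIndex A = p ∧ U ≤ Cfsg.pPrimeCore p X ∧
      A ≤ normalizer (U : Set X) ∧ U ≤ centralizer (B : Set X) ∧ x ∈ U ∧
      (∀ V : Subgroup X, V ≤ U → A ≤ normalizer (V : Set X) → V ≠ U → V ≤ centralizer (A : Set X)) ∧
      ¬ A ≤ centralizer ({x} : Set X) := by
  have hp : p.Prime := Fact.out
  set K := Cfsg.pPrimeCore p X
  haveI : IsMulCommutative A := ⟨⟨fun a b => Subtype.ext (hab a a.2 b b.2)⟩⟩
  have hAK : A ≤ normalizer (K : Set X) := le_normalizer_of_normal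
  have hAp : IsPGroup p A := fun a => ⟨1, Subtype.ext (by simpa using hA a a.2)⟩
  have hcop : (Nat.card A).Coprime (Nat.card K) := by
    obtain ⟨k, hk⟩ := IsPGroup.iff_card.1 hAp
    rw [hk]; exact (Cfsg.Lib.Core.pPrimeCore_coprime p X).symm.pow_left k
  obtain ⟨B, hB, hBnot⟩ : ∃ B ∈ Cfsg.Lib.Coprime.cocyclic A,
      ¬ K ⊓ centralizer (B : Set X) ≤ centralizer (A : Set X) := by
    by_contra hall
    push Not at hall
    have hKA : K ≤ centralizer (A : Set X) :=
      (Cfsg.Lib.Coprime.le_iSup_centralizer_cocyclic K hAK hcop).trans (iSup₂_le hall)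
    have hAK' : A ≤ K := (Subgroup.le_centralizer_iff.1 hKA).trans (centralizer_pPrimeCore_le h hO)
    refine hne (eq_bot_iff.2 fun a ha => mem_bot.2 ?_)
    exact eq_one_of_coprime_pElement (Cfsg.Lib.Core.pPrimeCore_coprime p X) (hAK' ha) (k := 1) (by rw [pow_one, hA a ha])
  obtain ⟨hBA, a, ha, hBa⟩ := hB
  have haB : a ∉ B := fun h' => hBnot (by
    have : A = B := by rw [← hBa, sup_eq_left.2 (zpowers_le.2 h')]
    rw [this]; exact inf_le_right)
  have hidx : B.relIndex A = p := by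
    have hnorm : zpowers a ≤ normalizer (B : Set X) := zpowers_le.2 (mem_normalizer_iff.2 fun y => by
      constructor
      · intro hy; rw [hab a ha y (hBA hy), mul_inv_cancel_right]; exact hy
      · intro hy
        have h1 := hab a⁻¹ (inv_mem ha) _ (hBA hy)
        have : y = a * y * a⁻¹ := by
          calc y = a⁻¹ * (a * y * a⁻¹) * a := by group
            _ = (a * y * a⁻¹) * a⁻¹ * a := by rw [h1]
            _ = a * y * a⁻¹ := by group
        rw [this]; exact hy)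
    haveI : (B.subgroupOf A).Normal := (normal_subgroupOf_iff_le_normalizer hBA).2
      (hBa ▸ sup_le le_normalizer hnorm)
    have htop : zpowers (⟨a, ha⟩ : A) ⊔ B.subgroupOf A = ⊤ := by
      refine map_injective A.subtype_injective ?_
      rw [Subgroup.map_sup, MonoidHom.map_zpowers, map_subgroupOf_eq_of_le hBA, ← MonoidHom.range_eq_map,
        range_subtype, sup_comm]
      exact hBa
    have h1 : B.relIndex A ∣ p := by
      have h : (B.subgroupOf A).relIndex (zpowers (⟨a, ha⟩ : A) ⊔ B.subgroupOf A) ∣ p := by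
        rw [relIndex_sup_right]
        refine (relIndex_dvd_card _ _).trans ?_
        rw [Nat.card_zpowers, orderOf_mk]
        exact orderOf_dvd_of_pow_eq_one (hA a ha)
      rwa [htop, relIndex_top_right] at h
    rcases (Nat.dvd_prime hp).1 h1 with h2 | h2
    · exact absurd (relIndex_eq_one.1 h2 ha) haB
    · exact h2
  have hAB : A ≤ normalizer (B : Set X) := fun b hb => mem_normalizer_iff.2 fun y => by
    constructor
    · intro hy; rw [hab b hb y (hBA hy), mul_inv_cancel_right]; exact hy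
    · intro hy
      have h1 := hab b⁻¹ (inv_mem hb) _ (hBA hy)
      have : y = b * y * b⁻¹ := by
        calc y = b⁻¹ * (b * y * b⁻¹) * b := by group
          _ = (b * y * b⁻¹) * b⁻¹ * b := by rw [h1]
          _ = b * y * b⁻¹ := by group
      rw [this]; exact hy
  obtain ⟨U, hUle, ⟨hU1, hU2, hU3⟩, hUmin⟩ :=
    (Set.toFinite {U : Subgroup X | U ≤ K ⊓ centralizer (B : Set X) ∧ A ≤ normalizer (U : Set X) ∧
      ¬ U ≤ centralizer (A : Set X)}).exists_le_minimal (a := K ⊓ centralizer (B : Set X))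
      ⟨le_rfl, Cfsg.Lib.Coprime.le_normalizer_inf_centralizer hAK hAB, hBnot⟩
  obtain ⟨x, hx, hxA⟩ := SetLike.not_le_iff_exists.1 hU3
  refine ⟨B, U, x, hBA, hidx, hU1.trans inf_le_left, hU2, hU1.trans inf_le_right, hx,
    fun V hV hAV hne' => ?_, fun hle => hxA ?_⟩
  · by_contra hnot
    exact hne' (le_antisymm hV (hUmin ⟨hV.trans hU1, hAV, hnot⟩ hV))
  · exact mem_centralizer_iff.2 fun b hb => (mem_centralizer_singleton_iff.1 (hle hb))

theorem mem_of_conj_step {G : Type*} [Group G] {R : Subgroup G} {a x : G} (h : ⁅x, a⁆ ∈ R) :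
    x * a * x⁻¹ * a⁻¹ ∈ R := by rwa [commutatorElement_def] at h

theorem main {M : Type*} [Group M] [Finite M] (hM : Cfsg.IsPSolvable p M) (A : Subgroup M) (hA : IsPGroup p A)
    (hΦ : (frattini ↥A).map A.subtype ≤ Cfsg.pCore p M) (hnot : ¬ A ≤ Cfsg.pCore p M) :
    ∃ x ∈ (Cfsg.pPrimeCore p (M ⧸ Cfsg.pCore p M)).comap (QuotientGroup.mk' (Cfsg.pCore p M)),
    let L := A ⊔ A.map (MulAut.conj x).toMonoidHom
    x ∈ (Cfsg.pResidual p L).map L.subtype ∧
    (Cfsg.pResidual p L).map L.subtype ≤ (Cfsg.pPrimeCore p (M ⧸ Cfsg.pCore p M)).comap (QuotientGroup.mk' (Cfsg.pCore p M)) ∧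
    ⁅(Cfsg.pResidual p L).map L.subtype, A⁆ = (Cfsg.pResidual p L).map L.subtype ∧
    (A ⊓ (Cfsg.pCore p L).map L.subtype).relIndex A = p ∧
    ⁅A ⊓ (Cfsg.pCore p L).map L.subtype, L⁆ ≤ Cfsg.pCore p M := by
  have hp : p.Prime := Fact.out
  set Q := Cfsg.pCore p M with hQdef
  set f := QuotientGroup.mk' Q with hf
  have hfs : Function.Surjective f := QuotientGroup.mk'_surjective Q
  have hker : ∀ y, f y = 1 → y ∈ Q := fun y hy => (QuotientGroup.eq_one_iff y).1 hy
  set Ab := A.map f with hAb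
  have hne : Ab ≠ ⊥ := fun h => hnot fun a ha => hker a (mem_bot.1 (h.le ⟨a, ha, rfl⟩))
  have hΦmem : ∀ y : A, y ∈ frattini A → f (y : M) = 1 := fun y hy =>
    (QuotientGroup.eq_one_iff _).2 (hΦ ⟨y, hy, rfl⟩)
  have hexp : ∀ a ∈ Ab, a ^ p = 1 := by
    rintro _ ⟨a, ha, rfl⟩
    rw [← map_pow]
    exact hΦmem ⟨a ^ p, pow_mem ha p⟩ (Cfsg.Lib.PGroup.pow_mem_frattini hA ⟨a, ha⟩)
  have hab : ∀ a ∈ Ab, ∀ b ∈ Ab, a * b = b * a := by
    rintro _ ⟨a, ha, rfl⟩ _ ⟨b, hb, rfl⟩
    rw [← commutatorElement_eq_one_iff_mul_comm, ← map_commutatorElement]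
    exact hΦmem ⁅(⟨a, ha⟩ : A), ⟨b, hb⟩⁆ (Cfsg.Lib.PGroup.commutator_le_frattini hA
      (commutator_mem_commutator (mem_top _) (mem_top _)))
  obtain ⟨B, U, xb, hBA, hidx, hUK, hAU, hUB, hxU, hUmin, hxA⟩ :=
    exists_minimal (Cfsg.Lib.Core.isPSolvable_quotient hM Q) Cfsg.Lib.Core.pCore_quotient_pCore_eq_bot Ab hne hexp hab
  have hUcop : (Nat.card U).Coprime p :=
    Cfsg.Lib.Core.coprime_card_of_le hUK (Cfsg.Lib.Core.pPrimeCore_coprime p _)
  -- choose the lift giving the smallest `L`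
  obtain ⟨L, ⟨x, hxb, hLdef⟩, hLmin⟩ := (Set.toFinite {L : Subgroup M | ∃ x : M, f x = xb ∧
      L = A ⊔ A.map (MulAut.conj x).toMonoidHom}).exists_minimal
    (let ⟨x, hx⟩ := hfs xb; ⟨_, x, hx, rfl⟩)
  have hAL : A ≤ L := hLdef ▸ le_sup_left
  set Lb := U ⊔ Ab
  have hLle : L.map f ≤ Lb := by
    rw [hLdef, Subgroup.map_sup]
    refine sup_le le_sup_right ?_
    rintro _ ⟨_, ⟨a, ha, rfl⟩, rfl⟩
    show f (x * a * x⁻¹) ∈ Lb
    rw [map_mul, map_mul, map_inv, hxb]
    exact mul_mem (mul_mem (mem_sup_left hxU) (mem_sup_right ⟨a, ha, rfl⟩)) (inv_mem (mem_sup_left hxU))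
  set R := (Cfsg.pResidual p L).map L.subtype with hR
  haveI : (Cfsg.pResidual p L).Normal := Cfsg.Lib.Fusion.pResidual_normal p L
  have hRL : R ≤ L := map_subtype_le _
  have hLR : L ≤ normalizer (R : Set M) := (normal_subgroupOf_iff_le_normalizer hRL).1 (by
    rwa [hR, Subgroup.subgroupOf, comap_map_eq_self_of_injective L.subtype_injective])
  -- `O^p(L)` maps into `U`
  have hRU : R.map f ≤ U := by
    rw [hR, Subgroup.map_map, Subgroup.map_le_iff_le_comap, Cfsg.pResidual, Subgroup.closure_le]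
    intro g hg
    show f (g : M) ∈ U
    obtain ⟨u, hu, b, hb, hub⟩ := Cfsg.Lib.Coprime.exists_mul_of_mem_sup hAU (hLle ⟨g, g.2, rfl⟩ : f (g : M) ∈ U ⊔ Ab)
    have hord : (orderOf (f (g : M))).Coprime p :=
      Nat.Coprime.coprime_dvd_left ((orderOf_map_dvd f (g : M)).trans (by rw [orderOf_coe])) hg
    -- the image of `f g` in `(U ⊔ Ab)/U` is a `p`-element
    haveI : (U.subgroupOf Lb).Normal := (normal_subgroupOf_iff_le_normalizer le_sup_left).2 (sup_le le_normalizer hAU)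
    let gb : Lb := ⟨f (g : M), hLle ⟨g, g.2, rfl⟩⟩
    have h1 : orderOf (gb : Lb ⧸ U.subgroupOf Lb) ∣ p := by
      refine orderOf_dvd_of_pow_eq_one ?_
      have e : (gb : Lb ⧸ U.subgroupOf Lb) = ((⟨b, mem_sup_right hb⟩ : Lb) : Lb ⧸ U.subgroupOf Lb) := by
        rw [QuotientGroup.eq]
        show (f (g : M))⁻¹ * b ∈ U
        rw [show (f (g : M))⁻¹ = (u * b)⁻¹ by rw [hub], mul_inv_rev, mul_assoc]
        have h2 := (mem_normalizer_iff.1 (hAU (inv_mem hb)) u⁻¹).1 (inv_mem hu)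
        rw [inv_inv, mul_assoc] at h2
        exact h2
      rw [e, ← QuotientGroup.mk_pow, QuotientGroup.eq_one_iff]
      show b ^ p ∈ U
      rw [hexp b hb]; exact one_mem _
    have h2 : orderOf (gb : Lb ⧸ U.subgroupOf Lb) ∣ orderOf (f (g : M)) := by
      refine (orderOf_map_dvd (QuotientGroup.mk' (U.subgroupOf Lb)) gb).trans (dvd_of_eq ?_)
      exact (orderOf_coe gb).symm
    have h3 := orderOf_eq_one_iff.1 (Nat.eq_one_of_dvd_coprimes hord h2 h1)
    exact (QuotientGroup.eq_one_iff gb).1 h3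
  -- the commutator
  set W := ⁅R, A⁆ with hW
  have hWR : W ≤ R := Cfsg.Lib.Coprime.commutator_le_of_le_normalizer (hAL.trans hLR)
  -- `xb` is in the image of `R`
  have hxbR : xb ∈ R.map f := by
    set V := R.map f
    have hAV : Ab ≤ normalizer (V : Set (M ⧸ Q)) := (map_mono (hAL.trans hLR)).trans (le_normalizer_map f)
    by_contra hxV
    have hVc := hUmin V hRU hAV (fun e => hxV (e ▸ hxU))
    refine hxA fun a' ha' => ?_
    obtain ⟨a, ha, rfl⟩ := ha'
    -- `[xb, a]` lies in `V` hence is centralised by `a`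
    have hxa : x * a * x⁻¹ ∈ L := hLdef ▸ mem_sup_right (⟨a, ha, rfl⟩ : x * a * x⁻¹ ∈ A.map (MulAut.conj x).toMonoidHom)
    set c := ⁅xb, f a⁆ with hc
    have hcU : c ∈ U := Cfsg.Lib.Coprime.commutator_le_of_le_normalizer hAU (commutator_mem_commutator hxU ⟨a, ha, rfl⟩)
    have hcl : x * a * x⁻¹ * a⁻¹ ∈ L := mul_mem hxa (inv_mem (hAL ha))
    have hfc : f (x * a * x⁻¹ * a⁻¹) = c := by rw [map_mul, map_mul, map_mul, map_inv, map_inv, hxb, hc, commutatorElement_def]
    obtain ⟨k, hk⟩ := Cfsg.Lib.Fusion.exists_pow_mem_pResidual (p := p) (⟨_, hcl⟩ : L)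
    have hcV : c ^ p ^ k ∈ V := ⟨_, ⟨_, hk, rfl⟩, by
      rw [Subgroup.coe_subtype, SubgroupClass.coe_pow, map_pow, hfc]⟩
    obtain ⟨m, hm⟩ := exists_pow_eq_self_of_coprime (x := c) (n := p ^ k)
      ((hUcop.symm.pow_left k).coprime_dvd_right (Subgroup.orderOf_dvd_natCard U hcU))
    have hcV' : c ∈ V := hm ▸ pow_mem hcV m
    have hac : f a * c = c * f a := mem_centralizer_iff.1 (hVc hcV') _ ⟨a, ha, rfl⟩
    have hiter : ∀ i : ℕ, xb * f a ^ i * xb⁻¹ = c ^ i * f a ^ i := by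
      intro i
      induction i with
      | zero => simp
      | succ i ih =>
        have hci : Commute (f a ^ i) c := Commute.pow_left hac i
        calc xb * f a ^ (i + 1) * xb⁻¹ = (xb * f a ^ i * xb⁻¹) * (xb * f a * xb⁻¹) := by rw [pow_succ]; group
          _ = c ^ i * f a ^ i * (c * f a) := by rw [ih, hc, commutatorElement_def]; group
          _ = c ^ i * (f a ^ i * c) * f a := by group
          _ = c ^ (i + 1) * f a ^ (i + 1) := by rw [hci.eq, pow_succ, pow_succ]; group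
    have hcp := hiter p
    rw [hexp _ ⟨a, ha, rfl⟩, mul_one, mul_inv_cancel, mul_one] at hcp
    have hc1 : c = 1 := eq_one_of_coprime_pElement hUcop hcU (k := 1) (by rw [pow_one]; exact hcp.symm)
    exact mem_centralizer_singleton_iff.2 (commutatorElement_eq_one_iff_mul_comm.1 hc1).symm
  obtain ⟨x', hx'R, hx'b⟩ := hxbR
  have hL' : A ⊔ A.map (MulAut.conj x').toMonoidHom ≤ L := by
    refine sup_le hAL ?_
    rintro _ ⟨a, ha, rfl⟩
    exact mul_mem (mul_mem (hRL hx'R) (hAL ha)) (inv_mem (hRL hx'R))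
  have hLeq : A ⊔ A.map (MulAut.conj x').toMonoidHom = L := le_antisymm hL' (hLmin ⟨x', hx'b, rfl⟩ hL')
  -- `L = R ⊔ A`
  have hLRA : L = R ⊔ A := by
    refine le_antisymm ?_ (sup_le hRL hAL)
    rw [← hLeq]
    refine sup_le le_sup_right ?_
    rintro _ ⟨a, ha, rfl⟩
    exact mul_mem (mul_mem (mem_sup_left hx'R) (mem_sup_right ha)) (inv_mem (mem_sup_left hx'R))
  have hWn : L ≤ normalizer (W : Set M) := by
    rw [hLRA]
    refine sup_le (Subgroup.normalizer_commutator_ge_left R A) (Subgroup.normalizer_commutator_ge_right R A)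
  have hWA : L = W ⊔ A := by
    refine le_antisymm ?_ (sup_le (hWR.trans hRL) hAL)
    rw [← hLeq]
    refine sup_le le_sup_right ?_
    rintro _ ⟨a, ha, rfl⟩
    show x' * a * x'⁻¹ ∈ W ⊔ A
    rw [show x' * a * x'⁻¹ = ⁅x', a⁆ * a by rw [commutatorElement_def, inv_mul_cancel_right]]
    exact mul_mem (mem_sup_left (commutator_mem_commutator hx'R ha)) (mem_sup_right ha)
  have hRW : R ≤ W := by
    haveI : (W.subgroupOf L).Normal := (normal_subgroupOf_iff_le_normalizer (hWR.trans hRL)).2 hWn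
    have hq : IsPGroup p (L ⧸ W.subgroupOf L) := by
      refine IsPGroup.of_surjective hA ((QuotientGroup.mk' (W.subgroupOf L)).comp (inclusion hAL)) fun y => ?_
      obtain ⟨⟨l, hl⟩, rfl⟩ := QuotientGroup.mk_surjective y
      obtain ⟨w, hw, a, ha, rfl⟩ := Cfsg.Lib.Coprime.exists_mul_of_mem_sup (hAL.trans hWn) (hWA.le hl : _ ∈ W ⊔ A)
      refine ⟨⟨a, ha⟩, ?_⟩
      show ((⟨a, hAL ha⟩ : L) : L ⧸ W.subgroupOf L) = ((⟨w * a, hl⟩ : L) : L ⧸ W.subgroupOf L)
      rw [QuotientGroup.eq]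
      show a⁻¹ * (w * a) ∈ W
      have := (mem_normalizer_iff.1 (hWn (inv_mem (hAL ha))) w).1 hw
      simpa [mul_assoc] using this
    exact (map_mono (Cfsg.Lib.Fusion.pResidual_le_of_isPGroup_quotient (W.subgroupOf L) hq)).trans
      (map_subgroupOf_eq_of_le (hWR.trans hRL)).le
  set P := (Cfsg.pCore p L).map L.subtype with hP
  have hPp : IsPGroup p P := (Cfsg.Lib.Core.pCore_isPGroup p L).map _
  have hPn : L ≤ normalizer (P : Set M) :=
    le_normalizer.trans (Cfsg.Lib.Core.normalizer_le_normalizer_map_char (Cfsg.pCore p L))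
  -- `B` centralises the image of `L`
  have hBc : ∀ b ∈ B, ∀ l ∈ L, b * f l = f l * b := by
    intro b hb l hl
    have hle : Lb ≤ centralizer ({b} : Set (M ⧸ Q)) := sup_le
      (fun u hu => mem_centralizer_singleton_iff.2 (mem_centralizer_iff.1 (hUB hu) b hb).symm)
      (fun a ha => mem_centralizer_singleton_iff.2 (hab a ha b (hBA hb)))
    exact (mem_centralizer_singleton_iff.1 (hle (hLle ⟨l, hl, rfl⟩))).symm
  set A₁ := A ⊓ B.comap f with hA₁
  have hA₁P : A₁ ≤ P := by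
    set N := L ⊓ (Q ⊔ A₁) with hN
    have hcomm : ∀ a ∈ A₁, ∀ l ∈ L, l * a * l⁻¹ ∈ Q ⊔ A₁ := by
      intro a ha l hl
      have h1 : l * a * l⁻¹ * a⁻¹ ∈ Q := hker _ (by
        have e := hBc (f a) ha.2 l hl
        rw [map_mul, map_mul, map_mul, map_inv, map_inv, ← e, mul_inv_cancel_right, mul_inv_cancel])
      have := mul_mem (mem_sup_left h1 : _ ∈ Q ⊔ A₁) (mem_sup_right ha)
      rwa [inv_mul_cancel_right] at this
    have hnorm : L ≤ normalizer ((Q ⊔ A₁ : Subgroup M) : Set M) := by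
      intro l hl
      have key : ∀ l ∈ L, ∀ y ∈ Q ⊔ A₁, l * y * l⁻¹ ∈ Q ⊔ A₁ := by
        intro l hl y hy
        have hle : Q ⊔ A₁ ≤ (Q ⊔ A₁).comap (MulAut.conj l).toMonoidHom :=
          sup_le (fun q hq => mem_sup_left ((inferInstance : Q.Normal).conj_mem q hq l)) (fun a ha => hcomm a ha l hl)
        exact hle hy
      refine mem_normalizer_iff.2 fun y => ⟨key l hl y, fun h => ?_⟩
      simpa [mul_assoc] using key l⁻¹ (inv_mem hl) _ h
    have hNn : L ≤ normalizer (N : Set M) := (le_inf le_normalizer hnorm).trans inf_normalizer_le_normalizer_inf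
    haveI : (N.subgroupOf L).Normal := (normal_subgroupOf_iff_le_normalizer inf_le_left).2 hNn
    have hNp : IsPGroup p N := (IsPGroup.to_sup_of_normal_left' (Cfsg.Lib.Core.pCore_isPGroup p M)
      (hA.to_le inf_le_left) (le_normalizer_of_normal)).to_le inf_le_right
    intro a ha
    exact ⟨⟨a, hAL ha.1⟩, Cfsg.Lib.Core.le_pCore (N := N.subgroupOf L) hNp.comap_subtype
      ⟨hAL ha.1, mem_sup_right ha⟩, rfl⟩
  have hAP : A ⊓ P = A₁ := by
    have h1 : A₁ ≤ A ⊓ P := le_inf inf_le_left hA₁P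
    have h2 : A₁.relIndex A = p := by
      rw [hA₁, inf_relIndex_left, relIndex_comap, hidx]
    have h3 := relIndex_mul_relIndex A₁ (A ⊓ P) A h1 inf_le_left
    rw [h2] at h3
    rcases (Nat.dvd_prime hp).1 (Dvd.intro _ h3 : A₁.relIndex (A ⊓ P) ∣ p) with h4 | h4
    · exact le_antisymm (relIndex_eq_one.1 h4) h1
    · exfalso
      rw [h4] at h3
      have h5 : (A ⊓ P).relIndex A = 1 := mul_left_cancel₀ hp.ne_zero (h3.trans (mul_one p).symm)
      have hAP' : A ≤ P := (relIndex_eq_one.1 h5).trans inf_le_right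
      -- then `A` centralises `U`
      refine hxA fun a' ha' => ?_
      obtain ⟨a, ha, rfl⟩ := ha'
      refine mem_centralizer_singleton_iff.2 ?_
      have hc1 : x' * a * x'⁻¹ * a⁻¹ ∈ P := mul_mem ((mem_normalizer_iff.1 (hPn (hRL hx'R)) a).1 (hAP' ha)) (inv_mem (hAP' ha))
      have hcU : f (x' * a * x'⁻¹ * a⁻¹) ∈ U := by
        rw [map_mul, map_mul, map_mul, map_inv, map_inv, hx'b, ← commutatorElement_def]
        exact Cfsg.Lib.Coprime.commutator_le_of_le_normalizer hAU (commutator_mem_commutator hxU ⟨a, ha, rfl⟩)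
      obtain ⟨k, hk⟩ := hPp ⟨_, hc1⟩
      have := eq_one_of_coprime_pElement hUcop hcU (k := k) (by
        rw [← map_pow, show (x' * a * x'⁻¹ * a⁻¹) ^ p ^ k = 1 from congrArg Subtype.val hk, map_one])
      rw [map_mul, map_mul, map_mul, map_inv, map_inv, hx'b, ← commutatorElement_def] at this
      exact (commutatorElement_eq_one_iff_mul_comm.1 this).symm
  refine ⟨x', show f x' ∈ Cfsg.pPrimeCore p (M ⧸ Q) from hx'b ▸ hUK hxU, ?_⟩
  show x' ∈ (Cfsg.pResidual p ↥(A ⊔ A.map (MulAut.conj x').toMonoidHom)).map _ ∧ _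
  rw [hLeq]
  refine ⟨hx'R, ?_, le_antisymm hWR hRW, ?_, ?_⟩
  · exact fun r hr => hUK (hRU ⟨r, hr, rfl⟩)
  · rw [hAP, hA₁, inf_relIndex_left, relIndex_comap, hidx]
  · rw [hAP]
    refine commutator_le.2 fun a ha l hl => hker _ ?_
    rw [map_commutatorElement, commutatorElement_eq_one_iff_mul_comm]
    exact hBc _ ha.2 l hl

/-- Let M be a finite p-soluble group and A a p-subgroup of M with Φ(A) ≤ O_p(M) but A ≰ O_p(M). Then there is x ∈ O_{p,p'}(M) such that L = ⟨A, xAx⁻¹⟩ satisfies: x ∈ O^p(L) and O^p(L) ≤ O_{p,p'}(M); [O^p(L), A] = O^p(L); A ∩ O_p(L) has index p in A; and [A ∩ O_p(L), L] ≤ O_p(M). Here O^p(L) is the subgroup generated by the p'-elements of L and O_{p,p'}(M) the preimage of O_{p'}(M/O_p(M)). -/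
theorem result {M : Type*} [Group M] [Finite M] {p : ℕ} [Fact p.Prime] (hM : Cfsg.IsPSolvable p M) (A : Subgroup M) (hA : IsPGroup p A) (hΦ : (frattini ↥A).map A.subtype ≤ Cfsg.pCore p M) (hnot : ¬ A ≤ Cfsg.pCore p M) : ∃ x ∈ (Cfsg.pPrimeCore p (M ⧸ Cfsg.pCore p M)).comap (QuotientGroup.mk' (Cfsg.pCore p M)), x ∈ (Cfsg.pResidual p ↥(A ⊔ A.map (MulAut.conj x).toMonoidHom)).map (A ⊔ A.map (MulAut.conj x).toMonoidHom).subtype ∧ (Cfsg.pResidual p ↥(A ⊔ A.map (MulAut.conj x).toMonoidHom)).map (A ⊔ A.map (MulAut.conj x).toMonoidHom).subtype ≤ (Cfsg.pPrimeCore p (M ⧸ Cfsg.pCore p M)).comap (QuotientGroup.mk' (Cfsg.pCore p M)) ∧ ⁅(Cfsg.pResidual p ↥(A ⊔ A.map (MulAut.conj x).toMonoidHom)).map (A ⊔ A.map (MulAut.conj x).toMonoidHom).subtype, A⁆ = (Cfsg.pResidual p ↥(A ⊔ A.map (MulAut.conj x).toMonoidHom)).map (A ⊔ A.map (MulAut.conj x).toMonoidHom).subtype ∧ (A ⊓ (Cfsg.pCore p ↥(A ⊔ A.map (MulAut.conj x).toMonoidHom)).map (A ⊔ A.map (MulAut.conj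 x).toMonoidHom).subtype).relIndex A = p ∧ ⁅A ⊓ (Cfsg.pCore p ↥(A ⊔ A.map (MulAut.conj x).toMonoidHom)).map (A ⊔ A.map (MulAut.conj x).toMonoidHom).subtype, A ⊔ A.map (MulAut.conj x).toMonoidHom⁆ ≤ Cfsg.pCore p M := by
  exact main hM A hA hΦ hnot

end Cfsg.Agent.S3754
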