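import Cfsg.Statements.S3755
import Cfsg.Agent.S2759
import Cfsg.Agent.Lib.Coprime.Generation
import Cfsg.Agent.Lib.TwoGroup.Models
import Cfsg.Agent.Lib.Core.Cores
-- import your own Cfsg.Agent.* helpers here

set_option autoImplicit false
open Cfsg

namespace Cfsg.Agent.S3755

open Subgroup

universe u

/-- An element `x` of odd prime order inverted by the involution `a`, acting nontrivially on the elementary
abelian 2-group `U` in which `a` fixes a subgroup of index at most two, has order three. -/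
theorem orderOf_eq_three {X : Type u} [Group X] [Finite X] {U : Subgroup X} (hU : Cfsg.IsElementaryAbelian 2 U)
    {a x : X} {r : ℕ} (hr : r.Prime) (hxo : orderOf x = r) (hr2 : r ≠ 2) (ha : a * a = 1)
    (hinv : a * x * a⁻¹ = x⁻¹) (hxU : x ∈ normalizer (U : Set X))
    (hne : ¬ U ≤ centralizer ({x} : Set X)) (hidx : (U ⊓ centralizer ({a} : Set X)).relIndex U ≤ 2) : r = 3 := by
  classical
  by_contra hr3
  have hr5 : 5 ≤ r := by
    rcases Nat.lt_or_ge r 5 with h | h
    · interval_cases r <;> first | omega | exact absurd hr (by decide)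
    · exact h
  set U1 := U ⊓ centralizer ({a} : Set X) with hU1
  set cx := (MulAut.conj x).toMonoidHom
  set U2 := U1.map cx with hU2
  have hUx : U.map cx = U := Cfsg.Lib.Core.map_conj_eq_of_mem_normalizer hxU
  have hU2le : U2 ≤ U := (map_mono inf_le_left).trans hUx.le
  set K := U1 ⊓ U2 with hK
  have hKle : K ≤ U := inf_le_left.trans inf_le_left
  have hidx2 : U2.relIndex U ≤ 2 := by
    have h := relIndex_map_map_of_injective (f := cx) U1 U (MulAut.conj x).injective
    rw [hUx] at h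
    rw [hU2, h]
    exact hidx
  have hKidx : K.relIndex U ≤ 4 := by
    refine le_trans (relIndex_inf_le (H := U1) (K := U2) (L := U)) ?_
    calc U1.relIndex U * U2.relIndex U ≤ 2 * 2 := Nat.mul_le_mul hidx hidx2
      _ = 4 := rfl
  have hKfix : ∀ k ∈ K, Commute x k := by
    intro k hk
    have h1 : Commute k a := mem_centralizer_singleton_iff.1 (mem_inf.1 (mem_inf.1 hk).1).2
    obtain ⟨u, hu, rfl⟩ := (mem_inf.1 hk).2
    have h2 : Commute u a := mem_centralizer_singleton_iff.1 (mem_inf.1 hu).2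
    have h2' : Commute (cx u) (cx a) := h2.map _
    have h3 : cx a = x ^ 2 * a := by
      show x * a * x⁻¹ = x ^ 2 * a
      rw [← hinv, sq]
      calc x * a * (a * x * a⁻¹) = x * (a * a) * x * a⁻¹ := by group
        _ = x * x * a := by rw [ha, mul_one, show a⁻¹ = a from inv_eq_of_mul_eq_one_right ha]
    rw [h3] at h2'
    have h4 : Commute (cx u) (x ^ 2) := by
      have := h2'.mul_right h1.inv_right
      rwa [mul_inv_cancel_right] at this
    obtain ⟨j, hj⟩ := exists_pow_eq_self_of_coprime (x := x) (n := 2)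
      (by rw [hxo]; exact ((Nat.coprime_primes hr Nat.prime_two).2 hr2).symm)
    exact (hj ▸ h4.pow_right j).symm
  -- `x` acts on `U ⧸ K`, which has at most four elements
  refine hne fun v hv => ?_
  refine mem_centralizer_singleton_iff.2 ?_
  have hc : IsMulCommutative U := hU.1
  haveI : (K.subgroupOf U).Normal := ⟨fun n hn g => by
    rw [show g * n * g⁻¹ = n by rw [mul_comm' g n, mul_inv_cancel_right]]; exact hn⟩
  let θ : MulAut U := (MulEquiv.subgroupMap (MulAut.conj x) U).trans (MulEquiv.subgroupCongr hUx)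
  have hθ : ∀ u : U, ((θ u : U) : X) = x * u * x⁻¹ := fun u => rfl
  have hθK : (K.subgroupOf U).map θ.toMonoidHom = K.subgroupOf U := by
    ext u
    constructor
    · rintro ⟨w, hw, rfl⟩
      refine mem_subgroupOf.2 ?_
      rw [show ((θ.toMonoidHom w : U) : X) = x * w * x⁻¹ from hθ w, (hKfix _ (mem_subgroupOf.1 hw)).eq, mul_inv_cancel_right]
      exact mem_subgroupOf.1 hw
    · intro hu
      refine ⟨u, hu, Subtype.ext ?_⟩
      rw [show ((θ.toMonoidHom u : U) : X) = x * u * x⁻¹ from hθ u, (hKfix _ (mem_subgroupOf.1 hu)).eq, mul_inv_cancel_right]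
  let θq : (U ⧸ K.subgroupOf U) ≃* (U ⧸ K.subgroupOf U) := QuotientGroup.congr _ _ θ hθK
  let π : Equiv.Perm {q : U ⧸ K.subgroupOf U // q ≠ 1} :=
    θq.toEquiv.subtypeEquiv fun q => by simp
  have hπ : π ^ r = 1 := by
    have hiter : ∀ (n : ℕ) (q : {q : U ⧸ K.subgroupOf U // q ≠ 1}) (u : U), q.1 = u →
        ((π ^ n) q).1 = (((θ ^ n) u : U) : U ⧸ K.subgroupOf U) := by
      intro n
      induction n with
      | zero => intro q u h; simpa using h
      | succ n ih =>
        intro q u h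
        rw [pow_succ', pow_succ', Equiv.Perm.mul_apply, MulAut.mul_apply]
        show θq ((π ^ n) q).1 = _
        rw [ih q u h]
        rfl
    have hθr : θ ^ r = 1 := by
      ext u
      have hit : ∀ n : ℕ, (((θ ^ n) u : U) : X) = x ^ n * u * (x ^ n)⁻¹ := by
        intro n
        induction n with
        | zero => simp
        | succ n ih => rw [pow_succ', MulAut.mul_apply, hθ, ih, pow_succ']; group
      rw [hit, ← hxo, pow_orderOf_eq_one]; simp
    ext q
    obtain ⟨u, hu⟩ := QuotientGroup.mk_surjective q.1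
    rw [hiter r q u hu.symm, hθr]
    exact hu
  have hπ1 : π = 1 := by
    by_contra hne'
    haveI := Fact.mk hr
    have ho := orderOf_eq_prime hπ hne'
    have hd : r ∣ Nat.card (Equiv.Perm {q : U ⧸ K.subgroupOf U // q ≠ 1}) := ho ▸ orderOf_dvd_natCard π
    rw [Nat.card_perm, hr.dvd_factorial] at hd
    have : Nat.card {q : U ⧸ K.subgroupOf U // q ≠ 1} ≤ 4 :=
      (Nat.card_le_card_of_injective _ Subtype.val_injective).trans hKidx
    omega
  let vU : U := ⟨v, hv⟩
  have hmem : v⁻¹ * (x * v * x⁻¹) ∈ K := by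
    by_cases h1 : (vU : U ⧸ K.subgroupOf U) = 1
    · have hvK : v ∈ K := mem_subgroupOf.1 ((QuotientGroup.eq_one_iff _).1 h1)
      rw [(hKfix v hvK).eq, mul_inv_cancel_right, inv_mul_cancel]; exact one_mem _
    · have h2 : ((π ⟨_, h1⟩).1 : U ⧸ K.subgroupOf U) = vU := by rw [hπ1]; rfl
      exact mem_subgroupOf.1 (QuotientGroup.eq.1 h2.symm)
  set f := v⁻¹ * (x * v * x⁻¹) with hf
  have hit : ∀ n : ℕ, x ^ n * v * (x ^ n)⁻¹ = v * f ^ n := by
    intro n
    induction n with
    | zero => simp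
    | succ n ih =>
      calc x ^ (n + 1) * v * (x ^ (n + 1))⁻¹ = x * (x ^ n * v * (x ^ n)⁻¹) * x⁻¹ := by rw [pow_succ']; group
        _ = x * v * x⁻¹ * (x * f ^ n * x⁻¹) := by rw [ih]; group
        _ = v * f ^ (n + 1) := by
          rw [((hKfix f hmem).pow_right n).eq, mul_inv_cancel_right, pow_succ', ← mul_assoc, hf]; group
  have h1 := hit r
  rw [← hxo, pow_orderOf_eq_one, one_mul, inv_one, mul_one, eq_comm, mul_eq_left, hxo] at h1
  have h2 : f ^ 2 = 1 := hU.2 f (hKle hmem)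
  have hf1 : f = 1 := orderOf_eq_one_iff.1 (Nat.eq_one_of_dvd_coprimes ((Nat.coprime_primes hr Nat.prime_two).2 hr2)
    (orderOf_dvd_of_pow_eq_one h1) (orderOf_dvd_of_pow_eq_one h2))
  rw [hf, inv_mul_eq_one] at hf1
  calc v * x = x * v * x⁻¹ * x := by rw [← hf1]
    _ = x * v := by group

theorem offender_bound {X : Type u} [Group X] [Finite X] (M V O : Subgroup X) (hV : Cfsg.IsElementaryAbelian 2 V)
    (hMV : M ≤ normalizer (V : Set X)) (hfaith : M ⊓ centralizer (V : Set X) = ⊥) (hOM : O ≤ M)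
    (hMO : M ≤ normalizer (O : Set X)) (hOodd : (Nat.card O).Coprime 2)
    (hcon : ∀ a ∈ M, a ∈ centralizer (O : Set X) → a ∈ O)
    (hno : ¬ Cfsg.Involves (Equiv.Perm (Fin 3)) M) :
    ∀ n, ∀ A : Subgroup X, Nat.card A = n → A ≤ M → Cfsg.IsElementaryAbelian 2 A →
      n ^ 2 ≤ (V ⊓ centralizer (A : Set X)).relIndex V := by
  classical
  haveI : Fact (Nat.Prime 2) := ⟨Nat.prime_two⟩
  intro n
  induction n using Nat.strong_induction_on with
  | _ n ih =>
  intro A hAn hAM hA
  haveI := hA.1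
  have hpos : 0 < (V ⊓ centralizer (A : Set X)).relIndex V := Nat.pos_of_ne_zero Subgroup.index_ne_zero_of_finite
  rcases eq_or_ne A ⊥ with rfl | hAne
  · rw [← hAn, card_bot, one_pow]; exact hpos
  obtain ⟨k, hk⟩ := IsPGroup.iff_card.1 (Cfsg.Lib.PGroup.isPGroup_of_isElementaryAbelian hA)
  obtain ⟨B, hB, c, hc, hcA⟩ : ∃ B ∈ Cfsg.Lib.Coprime.cocyclic A, ∃ c ∈ O ⊓ centralizer (B : Set X),
      c ∉ centralizer (A : Set X) := by
    by_contra hh
    push Not at hh
    refine hAne (eq_bot_iff.2 fun a ha => ?_)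
    have hle : O ≤ centralizer (A : Set X) :=
      (Cfsg.Lib.Coprime.le_iSup_centralizer_cocyclic O (hAM.trans hMO)
        (by rw [hk]; exact hOodd.symm.pow_left k)).trans (iSup₂_le fun B hB c hc => hh B hB c hc)
    have haO : a ∈ O := hcon a (hAM ha) (mem_centralizer_iff.2 fun o ho =>
      (mem_centralizer_iff.1 (hle ho) a ha).symm)
    rw [mem_bot, ← orderOf_eq_one_iff]
    exact Nat.eq_one_of_dvd_coprimes hOodd (Subgroup.orderOf_dvd_natCard _ haO)
      (orderOf_dvd_of_pow_eq_one (hA.2 a ha))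
  obtain ⟨hBA, a, haA, hBa⟩ := hB
  obtain ⟨hcO, hcB⟩ := mem_inf.1 hc
  have ha2 : a * a = 1 := by rw [← sq]; exact hA.2 a haA
  have hainv : a⁻¹ = a := inv_eq_of_mul_eq_one_right ha2
  have hab : ∀ b ∈ B, Commute b a := fun b hb =>
    congrArg Subtype.val (mul_comm' (⟨b, hBA hb⟩ : A) ⟨a, haA⟩)
  have hca : ¬ Commute c a := by
    intro hcom
    refine hcA ?_
    refine mem_centralizer_iff.2 fun z hz => ?_
    have hle : A ≤ centralizer ({c} : Set X) := hBa ▸ sup_le
      (fun b hb => mem_centralizer_singleton_iff.2 (mem_centralizer_iff.1 hcB b hb))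
      (zpowers_le.2 (mem_centralizer_singleton_iff.2 hcom.symm.eq))
    exact mem_centralizer_singleton_iff.1 (hle hz)
  set y := c⁻¹ * (a * c * a⁻¹) with hy
  have hyO : y ∈ O := mul_mem (inv_mem hcO) ((mem_normalizer_iff.1 (hMO (hAM haA)) c).1 hcO)
  have hyB : ∀ b ∈ B, Commute b y := fun b hb => by
    have h1 : Commute b c := mem_centralizer_iff.1 hcB b hb
    exact h1.inv_right.mul_right (((hab b hb).mul_right h1).mul_right (hab b hb).inv_right)
  have hay : a * y * a⁻¹ = y⁻¹ := by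
    rw [hy, hainv]
    calc a * (c⁻¹ * (a * c * a)) * a = a * c⁻¹ * a * c * (a * a) := by group
      _ = (a⁻¹ * c * a⁻¹)⁻¹ * c := by rw [ha2, hainv]; group; rw [show (a : X) ^ (-1 : ℤ) = a by rw [zpow_neg_one, hainv]]
      _ = (c⁻¹ * (a * c * a))⁻¹ := by rw [hainv]; group
  have hy1 : y ≠ 1 := by
    intro e
    rw [hy, inv_mul_eq_one, eq_mul_inv_iff_mul_eq] at e
    exact hca e
  obtain ⟨r, hr, hrd⟩ := Nat.exists_prime_and_dvd (fun e => hy1 (orderOf_eq_one_iff.1 e) : orderOf y ≠ 1)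
  set x := y ^ (orderOf y / r) with hx
  have hxo : orderOf x = r := orderOf_pow_orderOf_div (orderOf_pos y).ne' hrd
  have hr2 : r ≠ 2 := by
    rintro rfl
    exact absurd (Nat.eq_one_of_dvd_coprimes hOodd (hrd.trans (Subgroup.orderOf_dvd_natCard _ hyO)) dvd_rfl) (by norm_num)
  have hxinv : a * x * a⁻¹ = x⁻¹ := by rw [hx, ← conj_pow, hay, inv_pow]
  have hxB : ∀ b ∈ B, Commute b x := fun b hb => (hyB b hb).pow_right _
  have hxM : x ∈ M := hOM (pow_mem hyO _)
  have haB : a ∉ B := by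
    intro h
    refine hca ?_
    exact ((mem_centralizer_iff.1 hcB a h : Commute a c)).symm
  -- `x` moves a fixed point of `B`
  set U := V ⊓ centralizer (B : Set X) with hU
  have hUe : Cfsg.IsElementaryAbelian 2 U := Cfsg.Lib.PGroup.isElementaryAbelian_of_le hV inf_le_left
  have hnormU : ∀ g ∈ M, (∀ b ∈ B, Commute b g) → g ∈ normalizer (U : Set X) := by
    intro g hg hgB
    refine Subgroup.inf_normalizer_le_normalizer_inf (mem_inf.2 ⟨hMV hg, ?_⟩)
    refine le_normalizer ?_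
    exact mem_centralizer_iff.2 fun b hb => hgB b hb
  have hne : ¬ U ≤ centralizer ({x} : Set X) := by
    haveI := hV.1
    have cV : ∀ {v w : X}, v ∈ V → w ∈ V → Commute v w := fun hv hw =>
      congrArg Subtype.val (mul_comm' (⟨_, hv⟩ : V) ⟨_, hw⟩)
    have hxV : ∀ v ∈ V, x * v * x⁻¹ ∈ V := fun v hv => (mem_normalizer_iff.1 (hMV hxM) v).1 hv
    let W : Subgroup X :=
      { carrier := {w | ∃ v ∈ V, w = x * v * x⁻¹ * v⁻¹}
        one_mem' := ⟨1, one_mem _, by group⟩
        mul_mem' := by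
          rintro _ _ ⟨v, hv, rfl⟩ ⟨w, hw, rfl⟩
          refine ⟨v * w, mul_mem hv hw, ?_⟩
          have h1 : Commute v⁻¹ (x * w * x⁻¹ * w⁻¹) := (cV hv (mul_mem (hxV w hw) (inv_mem hw))).inv_left
          calc x * v * x⁻¹ * v⁻¹ * (x * w * x⁻¹ * w⁻¹) = x * v * x⁻¹ * (v⁻¹ * (x * w * x⁻¹ * w⁻¹)) := by group
            _ = x * v * x⁻¹ * (x * w * x⁻¹ * w⁻¹ * v⁻¹) := by rw [h1.eq]
            _ = x * (v * w) * x⁻¹ * (v * w)⁻¹ := by group
        inv_mem' := by
          rintro _ ⟨v, hv, rfl⟩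
          refine ⟨v⁻¹, inv_mem hv, ?_⟩
          have h1 : Commute v (x * v⁻¹ * x⁻¹) := cV hv (hxV _ (inv_mem hv))
          calc (x * v * x⁻¹ * v⁻¹)⁻¹ = v * (x * v⁻¹ * x⁻¹) := by group
            _ = x * v⁻¹ * x⁻¹ * v := h1.eq
            _ = x * v⁻¹ * x⁻¹ * v⁻¹⁻¹ := by rw [inv_inv] }
    have hWV : W ≤ V := by rintro _ ⟨v, hv, rfl⟩; exact mul_mem (hxV v hv) (inv_mem hv)
    have hWB : ∀ b ∈ B, ∀ w ∈ W, b * w * b⁻¹ ∈ W := by
      rintro b hb _ ⟨v, hv, rfl⟩
      refine ⟨b * v * b⁻¹, (mem_normalizer_iff.1 (hMV (hAM (hBA hb))) v).1 hv, ?_⟩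
      have h1 : Commute b x := hxB b hb
      calc b * (x * v * x⁻¹ * v⁻¹) * b⁻¹ = (b * x) * v * (b * x)⁻¹ * (b * v * b⁻¹)⁻¹ := by group
        _ = (x * b) * v * (x * b)⁻¹ * (b * v * b⁻¹)⁻¹ := by rw [h1.eq]
        _ = x * (b * v * b⁻¹) * x⁻¹ * (b * v * b⁻¹)⁻¹ := by group
    have hW1 : W ≠ ⊥ := by
      intro h
      have hxC : x ∈ M ⊓ centralizer (V : Set X) := mem_inf.2 ⟨hxM, mem_centralizer_iff.2 fun v hv => by
        have h1 : x * v * x⁻¹ * v⁻¹ = 1 := mem_bot.1 (h.le ⟨v, hv, rfl⟩)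
        rw [mul_inv_eq_one, mul_inv_eq_iff_eq_mul] at h1
        exact h1.symm⟩
      rw [hfaith, mem_bot] at hxC
      exact hr.ne_one (by rw [← hxo, hxC, orderOf_one])
    letI act : MulAction B W :=
      { smul := fun b w => ⟨(b : X) * w * (b : X)⁻¹, hWB b b.2 w w.2⟩
        one_smul := fun w => Subtype.ext (by show (1 : X) * w * (1 : X)⁻¹ = w; group)
        mul_smul := fun b b' w => Subtype.ext (by
          show ((b * b' : B) : X) * w * ((b * b' : B) : X)⁻¹ = b * (b' * w * (b' : X)⁻¹) * (b : X)⁻¹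
          rw [Subgroup.coe_mul]; group) }
    have hBp : IsPGroup 2 B := (Cfsg.Lib.PGroup.isPGroup_of_isElementaryAbelian hA).to_le hBA
    have hWp : IsPGroup 2 W := (Cfsg.Lib.PGroup.isPGroup_of_isElementaryAbelian hV).to_le hWV
    obtain ⟨e, he⟩ := IsPGroup.iff_card.1 hWp
    have hd : 2 ∣ Nat.card W := he ▸ dvd_pow_self 2 (by rintro rfl; exact hW1 (card_eq_one.1 (by simpa using he)))
    obtain ⟨w, hw, hw1⟩ := hBp.exists_fixed_point_of_prime_dvd_card_of_fixed_point W hd (a := 1)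
      (fun b => Subtype.ext (show (b : X) * 1 * (b : X)⁻¹ = 1 by group))
    intro hle
    obtain ⟨v, hv, hwv⟩ := w.2
    have hwU : (w : X) ∈ U := mem_inf.2 ⟨hWV w.2, mem_centralizer_iff.2 fun b hb => by
      have h1 : b * (w : X) * b⁻¹ = w := congrArg Subtype.val (hw ⟨b, hb⟩)
      rw [mul_inv_eq_iff_eq_mul] at h1; exact h1⟩
    have hwx : Commute (w : X) x := mem_centralizer_singleton_iff.1 (hle hwU)
    have hit : ∀ n : ℕ, x ^ n * v * (x ^ n)⁻¹ = (w : X) ^ n * v := by
      intro n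
      induction n with
      | zero => simp
      | succ n ihn =>
        calc x ^ (n + 1) * v * (x ^ (n + 1))⁻¹ = x * (x ^ n * v * (x ^ n)⁻¹) * x⁻¹ := by rw [pow_succ']; group
          _ = x * (w : X) ^ n * x⁻¹ * (x * v * x⁻¹) := by rw [ihn]; group
          _ = (w : X) ^ (n + 1) * v := by
            rw [(hwx.symm.pow_right n).eq, mul_inv_cancel_right, pow_succ, mul_assoc, hwv]; group
    have h1 := hit r
    rw [← hxo, pow_orderOf_eq_one, one_mul, inv_one, mul_one, eq_comm, mul_eq_right, hxo] at h1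
    refine hw1 (Subtype.ext (orderOf_eq_one_iff.1 (Nat.eq_one_of_dvd_coprimes
      ((Nat.coprime_primes hr Nat.prime_two).2 hr2) (orderOf_dvd_of_pow_eq_one h1)
      (orderOf_dvd_of_pow_eq_one (hV.2 _ (hWV w.2))))).symm)
  have hU1 : V ⊓ centralizer (A : Set X) = U ⊓ centralizer ({a} : Set X) := by
    rw [hU, inf_assoc]
    congr 1
    refine le_antisymm (le_inf (centralizer_le (SetLike.coe_subset_coe.2 hBA))
      (centralizer_le (Set.singleton_subset_iff.2 haA))) fun z hz => mem_centralizer_iff.2 fun g hg => ?_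
    obtain ⟨hzB, hza⟩ := mem_inf.1 hz
    have hle : A ≤ centralizer ({z} : Set X) := hBa ▸ sup_le
      (fun b hb => mem_centralizer_singleton_iff.2 (mem_centralizer_iff.1 hzB b hb))
      (zpowers_le.2 (mem_centralizer_singleton_iff.2 (mem_centralizer_singleton_iff.1 hza).symm))
    exact mem_centralizer_singleton_iff.1 (hle hg)
  have hstep : 4 ≤ (U ⊓ centralizer ({a} : Set X)).relIndex U := by
    by_contra hlt
    have hidx : (U ⊓ centralizer ({a} : Set X)).relIndex U ≤ 2 := by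
      obtain ⟨i, hi⟩ := (Cfsg.Lib.PGroup.isPGroup_of_isElementaryAbelian hUe).index
        ((U ⊓ centralizer ({a} : Set X)).subgroupOf U)
      change (U ⊓ centralizer ({a} : Set X)).relIndex U = 2 ^ i at hi
      rcases i with _ | _ | i
      · rw [hi]; norm_num
      · rw [hi]; norm_num
      · exfalso; rw [hi] at hlt
        exact hlt (le_trans (by norm_num) (Nat.pow_le_pow_right Nat.two_pos (show 2 ≤ i + 1 + 1 by omega)))
    have h3 := orderOf_eq_three hUe hr hxo hr2 ha2 hxinv (hnormU x hxM hxB) hne hidx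
    apply hno
    subst h3
    let xm : M := ⟨x, hxM⟩
    let am : M := ⟨a, hAM haA⟩
    have hxm : orderOf xm = 3 := by rw [Subgroup.orderOf_mk]; exact hxo
    have ham : am ∉ zpowers xm := by
      intro h
      have h1 : orderOf am ∣ 3 := hxm ▸ orderOf_dvd_of_mem_zpowers h
      have h2 : orderOf am = 2 := orderOf_eq_prime (Subtype.ext (show a ^ 2 = 1 by rw [sq]; exact ha2))
        (fun e => haB ((show a = 1 from congrArg Subtype.val e) ▸ one_mem B))
      rw [h2] at h1; norm_num at h1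
    obtain ⟨e⟩ := Cfsg.Lib.TwoGroup.equiv_dihedral (r := xm) (t := am) (Subtype.ext ha2) (Subtype.ext hxinv) ham
    rw [hxm] at e
    obtain ⟨e'⟩ := Cfsg.Agent.S2759.dihedral_three
    refine ⟨closure {xm, am}, ⊥, by rw [bot_subgroupOf]; infer_instance,
      ⟨((QuotientGroup.quotientMulEquivOfEq (bot_subgroupOf _)).trans QuotientGroup.quotientBot).trans (e.trans e')⟩⟩
  have hlt : Nat.card B < n := by
    rw [← hAn]
    refine lt_of_le_of_ne (card_le_of_le hBA) fun h => haB ?_
    rw [eq_of_le_of_card_ge hBA h.ge]; exact haA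
  have h2 : n ≤ Nat.card B * 2 := by
    have hnB : zpowers a ≤ normalizer (B : Set X) := zpowers_le.2 (mem_normalizer_iff.2 fun z => by
      constructor
      · intro h; rw [← (hab z h).eq, mul_inv_cancel_right]; exact h
      · intro h
        have h1 := (hab _ h).eq
        have : a * z * a⁻¹ = z := by
          calc a * z * a⁻¹ = a⁻¹ * (a * z * a⁻¹ * a) := by rw [← h1.symm]; group
            _ = z := by group
        rwa [this] at h)
    have hsurj : Function.Surjective (fun q : B × zpowers a => (⟨(q.1 : X) * q.2,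
        mul_mem (hBA q.1.2) (zpowers_le.2 haA q.2.2)⟩ : A)) := by
      intro z
      have hz : (z : X) ∈ ((B ⊔ zpowers a : Subgroup X) : Set X) := hBa.symm ▸ z.2
      rw [coe_mul_of_right_le_normalizer_left B (zpowers a) hnB] at hz
      obtain ⟨b, hb, w, hw, hbw⟩ := Set.mem_mul.1 hz
      exact ⟨(⟨b, hb⟩, ⟨w, hw⟩), Subtype.ext hbw⟩
    refine (hAn ▸ Nat.card_le_card_of_surjective _ hsurj).trans ?_
    rw [Nat.card_prod, Nat.card_zpowers]
    exact Nat.mul_le_mul_left _ (orderOf_le_of_pow_eq_one Nat.two_pos (by rw [sq]; exact ha2))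
  have hIH := ih _ hlt B rfl (hBA.trans hAM) (Cfsg.Lib.PGroup.isElementaryAbelian_of_le hA hBA)
  rw [hU1, ← relIndex_mul_relIndex _ U V inf_le_left inf_le_left, mul_comm]
  calc n ^ 2 ≤ (Nat.card B * 2) ^ 2 := Nat.pow_le_pow_left h2 2
    _ = Nat.card B ^ 2 * 4 := by ring
    _ ≤ U.relIndex V * (U ⊓ centralizer ({a} : Set X)).relIndex U := Nat.mul_le_mul hIH hstep


/-- Let M and V be subgroups of a finite group with V an elementary abelian 2-group, M normalizing V and acting faithfully on it (M ∩ C(V) = 1), and C_M(O_{2'}(M)) ≤ O_{2'}(M). If some elementary abelian 2-subgroup A of M satisfies |V : C_V(A)| < |A|², then M has a section isomorphic to the symmetric group of degree 3. -/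
theorem result {X : Type*} [Group X] [Finite X] (M V : Subgroup X) (hV : Cfsg.IsElementaryAbelian 2 V) (hMV : M ≤ Subgroup.normalizer (V : Set X)) (hfaith : M ⊓ Subgroup.centralizer (V : Set X) = ⊥) (hcon : Subgroup.centralizer (Cfsg.pPrimeCore 2 ↥M : Set ↥M) ≤ Cfsg.pPrimeCore 2 ↥M) (A : Subgroup X) (hAM : A ≤ M) (hA : Cfsg.IsElementaryAbelian 2 A) (hsmall : (V ⊓ Subgroup.centralizer (A : Set X)).relIndex V < Nat.card A ^ 2) : Cfsg.Involves (Equiv.Perm (Fin 3)) ↥M := by
  classical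
  haveI : Fact (Nat.Prime 2) := ⟨Nat.prime_two⟩
  by_contra hno
  set O := (Cfsg.pPrimeCore 2 ↥M).map M.subtype with hO
  have hMO : M ≤ Subgroup.normalizer (O : Set X) := fun m hm => Subgroup.mem_normalizer_iff.2 fun z => by
    have hn : (Cfsg.pPrimeCore 2 ↥M).Normal := inferInstance
    constructor
    · rintro ⟨w, hw, rfl⟩
      exact ⟨⟨m, hm⟩ * w * ⟨m, hm⟩⁻¹, hn.conj_mem w hw _, rfl⟩
    · rintro ⟨w, hw, hwz⟩
      refine ⟨⟨m, hm⟩⁻¹ * w * ⟨m, hm⟩, by simpa using hn.conj_mem w hw (⟨m, hm⟩ : M)⁻¹, ?_⟩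
      show m⁻¹ * (w : X) * m = z
      rw [show (w : X) = m * z * m⁻¹ from hwz]; group
  refine absurd hsmall (Nat.not_lt.2 (offender_bound M V O hV hMV hfaith (Subgroup.map_subtype_le _) hMO ?_
    (fun a ha hc => ?_) hno _ A rfl hAM hA))
  · rw [hO, Subgroup.card_map_of_injective M.subtype_injective]
    exact Cfsg.Lib.Core.pPrimeCore_coprime 2 M
  · exact ⟨⟨a, ha⟩, hcon (Subgroup.mem_centralizer_iff.2 fun w hw => Subtype.ext
      (Subgroup.mem_centralizer_iff.1 hc w ⟨w, hw, rfl⟩)), rfl⟩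

end Cfsg.Agent.S3755
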