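import Cfsg.Statements.S3760
-- import your own Cfsg.Agent.* helpers here

set_option autoImplicit false
open Cfsg

namespace Cfsg.Agent.S3760

open Subgroup

theorem conj_eq_iff_mem_normalizer {G : Type*} [Group G] (K : Subgroup G) (a b : G) :
    K.map (MulAut.conj a).toMonoidHom = K.map (MulAut.conj b).toMonoidHom ↔ a⁻¹ * b ∈ normalizer (K : Set G) := by
  rw [mem_normalizer_iff]
  constructor
  · intro h x
    constructor
    · intro hx
      have h1 : b * x * b⁻¹ ∈ K.map (MulAut.conj a).toMonoidHom := by rw [h]; exact ⟨x, hx, by simp⟩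
      obtain ⟨y, hy, hyx⟩ := h1
      simp only [MulEquiv.coe_toMonoidHom, MulAut.conj_apply] at hyx
      have : a⁻¹ * b * x * (a⁻¹ * b)⁻¹ = y := by
        calc a⁻¹ * b * x * (a⁻¹ * b)⁻¹ = a⁻¹ * (b * x * b⁻¹) * a := by group
          _ = y := by rw [← hyx]; group
      rw [this]; exact hy
    · intro hx
      have h1 : b * x * b⁻¹ ∈ K.map (MulAut.conj b).toMonoidHom := by
        rw [← h]
        refine ⟨_, hx, ?_⟩
        simp [mul_assoc]
      obtain ⟨y, hy, hyx⟩ := h1
      simp only [MulEquiv.coe_toMonoidHom, MulAut.conj_apply, mul_left_inj, mul_right_inj] at hyx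
      exact hyx ▸ hy
  · intro h
    ext z
    constructor
    · rintro ⟨x, hx, rfl⟩
      refine ⟨(a⁻¹ * b)⁻¹ * x * (a⁻¹ * b), (h _).mpr ?_, ?_⟩
      · simpa [mul_assoc] using hx
      · simp [mul_assoc]
    · rintro ⟨x, hx, rfl⟩
      exact ⟨_, (h x).mp hx, by simp [mul_assoc]⟩

/-- Let the group G act transitively on a set X, let x ∈ X with stabilizer H = G_x, and let K ≤ H. Then N_G(K) acts transitively on the set of fixed points of K if and only if every G-conjugate of K contained in H is already an H-conjugate of K. -/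
theorem result {G : Type*} [Group G] {X : Type*} [MulAction G X] (htrans : ∀ a b : X, ∃ g : G, g • a = b) (x : X) (K : Subgroup G) (hK : K ≤ MulAction.stabilizer G x) : (∀ a b : X, (∀ k ∈ K, k • a = a) → (∀ k ∈ K, k • b = b) → ∃ g ∈ Subgroup.normalizer (K : Set G), g • a = b) ↔ ∀ g : G, K.map (MulAut.conj g).toMonoidHom ≤ MulAction.stabilizer G x → ∃ h ∈ MulAction.stabilizer G x, K.map (MulAut.conj g).toMonoidHom = K.map (MulAut.conj h).toMonoidHom := by
  constructor
  · intro hN g hg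
    have hfix : ∀ k ∈ K, k • (g⁻¹ • x) = g⁻¹ • x := fun k hk => by
      have h1 : (g * k * g⁻¹) • x = x := hg ⟨k, hk, by simp⟩
      rw [← mul_smul, eq_inv_smul_iff, ← mul_smul, ← mul_assoc, h1]
    obtain ⟨n, hn, hnx⟩ := hN (g⁻¹ • x) x hfix (fun k hk => hK hk)
    refine ⟨g * n⁻¹, ?_, (conj_eq_iff_mem_normalizer K _ _).mpr (by simpa using inv_mem hn)⟩
    have h1 : (n * g⁻¹) ∈ MulAction.stabilizer G x := by rw [MulAction.mem_stabilizer_iff, mul_smul, hnx]
    simpa using inv_mem h1
  · intro hc a b ha hb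
    have key : ∀ c, (∀ k ∈ K, k • c = c) → ∃ n ∈ normalizer (K : Set G), n • x = c := fun c hc' => by
      obtain ⟨u, rfl⟩ := htrans x c
      obtain ⟨h, hh, he⟩ := hc u⁻¹ (by
        rintro _ ⟨k, hk, rfl⟩
        show (u⁻¹ * k * u⁻¹⁻¹) • x = x
        rw [inv_inv, mul_smul, mul_smul, hc' k hk, inv_smul_smul])
      refine ⟨u * h, by simpa using (conj_eq_iff_mem_normalizer K _ _).mp he, ?_⟩
      rw [mul_smul, MulAction.mem_stabilizer_iff.mp hh]
    obtain ⟨n, hn, rfl⟩ := key a ha
    obtain ⟨m, hm, rfl⟩ := key b hb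
    exact ⟨m * n⁻¹, mul_mem hm (inv_mem hn), by rw [mul_smul, inv_smul_smul]⟩

end Cfsg.Agent.S3760
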