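import Cfsg.Statements.S3763
import Cfsg.Agent.Lib.PGroup.ExtraspecialClassify
-- import your own Cfsg.Agent.* helpers here

set_option autoImplicit false
open Cfsg

namespace Cfsg.Agent.S3763

open Cfsg.Lib.Extraspecial Cfsg.Lib.PGroup
open scoped commutatorElement

variable {P : Type*} [Group P] [Finite P] {z : P}

theorem sq_eq_one (h : Setting 2 z) : z ^ 2 = 1 := h.pow_z

theorem elementary_of_list (h : Setting 2 z) {R : Subgroup P} {L : List (P × P)}
    (hL : SympList z R L) (hD : ∀ t ∈ L, IsD t) :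
    ∃ A : Subgroup P, A ≤ R ∧ z ∈ A ∧ (∀ a ∈ A, ∀ b ∈ A, a * b = b * a) ∧ (∀ a ∈ A, a ^ 2 = 1) ∧
      2 ^ (L.length + 1) ≤ Nat.card ↥A := by
  induction hL with
  | nil =>
    refine ⟨Subgroup.zpowers z, le_rfl, Subgroup.mem_zpowers z, ?_, ?_, ?_⟩
    · exact fun a _ b hb => h.commute_z a hb
    · rintro a ⟨k, rfl⟩
      change (z ^ k) ^ 2 = 1
      rw [← zpow_natCast, ← zpow_mul, mul_comm k, zpow_mul, zpow_natCast, h.pow_z, one_zpow]
    · rw [Nat.card_zpowers, h.ord]; simp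
  | @cons R x y L hx hy hxy hL ih =>
    obtain ⟨hxy', hD'⟩ := List.forall_mem_cons.1 hD
    obtain ⟨A, hAR, hzA, hAc, hA2, hcard⟩ := ih hD'
    have hcx : ∀ a ∈ A, a * x = x * a := fun a ha => (mem_perp.1 (hAR ha)).2.1
    have hxA : x ∉ A := fun hxA => by
      have := (mem_perp.1 (hAR hxA)).2.2
      exact Setting.ne_one h (hxy ▸ commutatorElement_eq_one_iff_commute.2 this)
    let B : Subgroup P := Subgroup.closure ((A : Set P) ∪ {x})
    have hAB : A ≤ B := fun a ha => Subgroup.subset_closure (Or.inl ha)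
    have hxB : x ∈ B := Subgroup.subset_closure (Or.inr rfl)
    have hgen : ∀ a ∈ (A : Set P) ∪ {x}, ∀ b ∈ (A : Set P) ∪ {x}, a * b = b * a := by
      rintro a (ha | rfl) b (hb | rfl)
      exacts [hAc a ha b hb, hcx a ha, (hcx b hb).symm, rfl]
    haveI := Subgroup.isMulCommutative_closure hgen
    have hBc : ∀ a ∈ B, ∀ b ∈ B, a * b = b * a := fun a ha b hb =>
      congrArg Subtype.val ((inferInstance : IsMulCommutative ↥B).is_comm.comm ⟨a, ha⟩ ⟨b, hb⟩)
    refine ⟨B, ?_, hAB hzA, hBc, fun a ha => ?_, ?_⟩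
    · rw [Subgroup.closure_le]
      rintro a (ha | rfl)
      exacts [(mem_perp.1 (hAR ha)).1, hx]
    · induction ha using Subgroup.closure_induction with
      | mem a ha =>
        rcases ha with ha | rfl
        · exact hA2 a ha
        · exact hxy'.1
      | one => simp
      | mul a b ha hb iha ihb =>
        rw [Commute.mul_pow (hBc a ha b hb), iha, ihb, one_mul]
      | inv a _ iha => rw [inv_pow, iha, inv_one]
    · have hinj : Function.Injective (fun t : Fin 2 × A =>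
          (⟨x ^ (t.1 : ℕ) * t.2, B.mul_mem (pow_mem hxB _) (hAB t.2.2)⟩ : B)) := by
        rintro ⟨i, a⟩ ⟨j, b⟩ hij
        have hij' : x ^ (i : ℕ) * a = x ^ (j : ℕ) * b := congrArg Subtype.val hij
        fin_cases i <;> fin_cases j <;> simp at hij'
        · simp [hij']
        · exact absurd (eq_mul_inv_of_mul_eq hij'.symm ▸ mul_mem a.2 (inv_mem b.2)) hxA
        · exact absurd (eq_mul_inv_of_mul_eq hij' ▸ mul_mem b.2 (inv_mem a.2)) hxA
        · simp [hij']
      have := Nat.card_le_card_of_injective _ hinj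
      rw [Nat.card_prod, Nat.card_fin] at this
      rw [List.length_cons, pow_succ']
      omega

theorem abelian_step (h : Setting 2 z) {R A : Subgroup P} (hR : Nondeg z R) (hAR : A ≤ R)
    (hA : ∀ a ∈ A, ∀ b ∈ A, a * b = b * a) {a : P} (ha : a ∈ A) (haz : a ∉ Subgroup.zpowers z) :
    ∃ y ∈ R, ⁅a, y⁆ = z ∧ perp R a y < R ∧ Nondeg z (perp R a y) ∧
      4 * Nat.card ↥(perp R a y) = Nat.card ↥R ∧
      Nat.card ↥A ≤ 2 * Nat.card ↥(A ⊓ perp R a y) := by
  haveI : Fact (Nat.Prime 2) := ⟨Nat.prime_two⟩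
  obtain ⟨y, hy, hay⟩ : ∃ y ∈ R, ¬ Commute a y := by
    by_contra! hc
    exact haz (hR.2 a (hAR ha) hc)
  have hz : ⁅a, y⁆ = z := by
    obtain ⟨k, hk, hzk⟩ := h.exists_pow (h.comm a y)
    interval_cases k
    · exact absurd (commutatorElement_eq_one_iff_commute.1 (by rw [← hzk, pow_zero])) hay
    · rw [← hzk, pow_one]
  refine ⟨y, hy, hz, lt_of_le_of_ne inf_le_left fun he => ?_, nondeg_perp h (hAR ha) hy hz hR, ?_, ?_⟩
  · exact hay (mem_perp.1 (he.ge hy)).2.1.symm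
  · obtain ⟨e, -⟩ := exists_equiv h (hAR ha) hy hz
    rw [← Nat.card_congr e, Nat.card_prod, Nat.card_prod, Nat.card_fin]
    ring
  · have hsurj : Function.Surjective (fun t : Fin 2 × ↥(A ⊓ perp R a y) =>
        (⟨a ^ (t.1 : ℕ) * t.2, A.mul_mem (pow_mem ha _) t.2.2.1⟩ : A)) := by
      rintro ⟨b, hb⟩
      obtain ⟨i, j, hi, hj, m, hm, rfl⟩ := decomp h (hAR ha) hy hz (hAR hb)
      have hj0 : j = 0 := by
        interval_cases j
        · rfl
        · exfalso
          refine hay ?_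
          have h1 : Commute a (a ^ i * y ^ 1 * m) := hA a ha _ hb
          have h2 := ((Commute.self_pow a i).inv_right).mul_right
            (h1.mul_right (mem_perp.1 hm).2.1.symm.inv_right)
          simpa [mul_assoc] using h2
      subst hj0
      refine ⟨(⟨i, hi⟩, ⟨m, ?_, hm⟩), Subtype.ext (by simp)⟩
      have := A.mul_mem (A.inv_mem (pow_mem ha i)) hb
      simpa [mul_assoc] using this
    have := Nat.card_le_card_of_surjective _ hsurj
    rwa [Nat.card_prod, Nat.card_fin] at this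

theorem abelian_bound (h : Setting 2 z) (R : Subgroup P) : Nondeg z R →
    ∀ A : Subgroup P, A ≤ R → (∀ a ∈ A, ∀ b ∈ A, a * b = b * a) →
      Nat.card ↥A ^ 2 ≤ 2 * Nat.card ↥R ∧
      ((∀ a ∈ A, a ^ 2 = 1) → 2 * Nat.card ↥R ≤ Nat.card ↥A ^ 2 →
        ∃ L, SympList z R L ∧ ∀ t ∈ L, IsD t) := by
  induction R using WellFoundedLT.induction with
  | _ R ih =>
  intro hR A hAR hA
  have hzR : Nat.card ↥(Subgroup.zpowers z) ≤ Nat.card ↥R :=
    Subgroup.card_le_of_le (Subgroup.zpowers_le.2 hR.1)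
  rw [Nat.card_zpowers, h.ord] at hzR
  by_cases hAz : A ≤ Subgroup.zpowers z
  · have hA2 : Nat.card ↥A ≤ 2 := by
      simpa [Nat.card_zpowers, h.ord] using Subgroup.card_le_of_le hAz
    refine ⟨by nlinarith, fun _ hle => ⟨[], ?_, by simp⟩⟩
    have hRz : R = Subgroup.zpowers z := by
      refine (Subgroup.eq_of_le_of_card_ge (Subgroup.zpowers_le.2 hR.1) ?_).symm
      rw [Nat.card_zpowers, h.ord]
      nlinarith
    rw [hRz]
    exact SympList.nil
  obtain ⟨a, ha, haz⟩ := SetLike.not_le_iff_exists.1 hAz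
  obtain ⟨y, hy, hay, hlt, hnd, hc4, hcA⟩ := abelian_step h hR hAR hA ha haz
  obtain ⟨h1, h2⟩ := ih _ hlt hnd (A ⊓ perp R a y) inf_le_right
    fun b hb c hc => hA b hb.1 c hc.1
  refine ⟨by nlinarith, fun he hle => ?_⟩
  obtain ⟨L, hL, hLD⟩ := h2 (fun b hb => he b hb.1) (by nlinarith)
  rcases h.pow_two_cases y with hy2 | hy2
  · exact ⟨(a, y) :: L, SympList.cons (hAR ha) hy hay hL,
      List.forall_mem_cons.2 ⟨⟨he a ha, hy2⟩, hLD⟩⟩
  · refine ⟨(a, a * y) :: L, SympList.cons (hAR ha) (mul_mem (hAR ha) hy) ?_ ?_,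
      List.forall_mem_cons.2 ⟨⟨he a ha, ?_⟩, hLD⟩⟩
    · rw [commutatorElement_mul_right h.le_center, commutatorElement_self, one_mul, hay]
    · have : perp R a (a * y) = perp R a y := by
        ext r
        simp only [mem_perp]
        refine ⟨fun hr => ⟨hr.1, hr.2.1, ?_⟩, fun hr => ⟨hr.1, hr.2.1, hr.2.1.mul_right hr.2.2⟩⟩
        simpa using hr.2.1.inv_right.mul_right hr.2.2
      rwa [this]
    · show (a * y) ^ 2 = 1
      rw [h.mul_sq, he a ha, hy2, h.symm hay, one_mul, h.sq_z]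

theorem rank_spec (hE : Cfsg.IsExtraspecial 2 P) :
    ∃ (z : P) (L : List (P × P)), Setting 2 z ∧ SympList z ⊤ L ∧
      Nat.card P = 2 ^ (2 * L.length + 1) ∧
      (((∀ t ∈ L, IsD t) ∧ Cfsg.PRankLE 2 (L.length + 1) P ∧ ¬ Cfsg.PRankLE 2 L.length P) ∨
        ((∃ q L', L = q :: L' ∧ IsQ z q ∧ ∀ t ∈ L', IsD t) ∧ Cfsg.PRankLE 2 L.length P ∧
          ¬ Cfsg.PRankLE 2 (L.length - 1) P)) := by
  haveI : Fact (Nat.Prime 2) := ⟨Nat.prime_two⟩
  obtain ⟨z, L, hz, hL, hlen, hcard, hcase⟩ := two_kinds hE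
  have hnd : Nondeg z (⊤ : Subgroup P) := by
    refine ⟨Subgroup.mem_top z, fun r _ hr => ?_⟩
    have hrc : r ∈ Subgroup.center P := Subgroup.mem_center_iff.2 fun g => (hr g (Subgroup.mem_top g)).eq.symm
    have : Subgroup.zpowers z = Subgroup.center P :=
      Subgroup.eq_of_le_of_card_ge (Subgroup.zpowers_le.2 hz.central)
        (le_of_eq (by rw [hE.2, Nat.card_zpowers, hz.ord]))
    exact this ▸ hrc
  have htop : Nat.card ↥(⊤ : Subgroup P) = 2 ^ (2 * L.length + 1) := by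
    rw [Subgroup.card_top, hcard]
  have hbd : ∀ A : Subgroup P, IsMulCommutative A → Nat.card ↥A ^ 2 ≤ 2 ^ (2 * L.length + 2) := by
    intro A hA
    have := (abelian_bound hz ⊤ hnd A le_top fun a ha b hb =>
      congrArg Subtype.val (hA.is_comm.comm ⟨a, ha⟩ ⟨b, hb⟩)).1
    rwa [htop, ← pow_succ'] at this
  have mk : ∀ (A : Subgroup P) (k : ℕ), (∀ a ∈ A, ∀ b ∈ A, a * b = b * a) →
      (∀ a ∈ A, a ^ 2 = 1) → 2 ^ (k + 1) ≤ Nat.card ↥A → ¬ Cfsg.PRankLE 2 k P := by
    intro A k hA h2 hk hle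
    have := hk.trans (hle A ⟨⟨fun a b => Subtype.ext (hA a a.2 b b.2)⟩⟩ h2)
    exact absurd (Nat.pow_le_pow_iff_right (le_refl 2) |>.1 this) (by omega)
  refine ⟨z, L, hz, hL, hcard, ?_⟩
  rcases hcase with ⟨hD, -⟩ | ⟨⟨q, L', rfl, hQ, hD⟩, -⟩
  · obtain ⟨A, -, -, hA, hA2, hk⟩ := elementary_of_list hz hL hD
    refine Or.inl ⟨hD, fun B hB _ => ?_, mk A _ hA hA2 hk⟩
    refine (Nat.pow_le_pow_iff_left two_ne_zero).1 ((hbd B hB).trans (le_of_eq ?_))
    ring
  · obtain ⟨-, -, -, hL'⟩ := hL.inv_cons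
    obtain ⟨A, -, -, hA, hA2, hk⟩ := elementary_of_list hz hL' hD
    refine Or.inr ⟨⟨q, L', rfl, hQ, hD⟩, fun B hB hB2 => ?_, mk A _ hA hA2 (by simpa using hk)⟩
    by_contra hlt
    push Not at hlt
    obtain ⟨k, hk'⟩ := IsPGroup.iff_card.1
      ((hE.1.1 : IsPGroup 2 P).to_subgroup B)
    rw [hk'] at hlt
    have hkge : (q :: L').length + 1 ≤ k := (Nat.pow_lt_pow_iff_right (le_refl 2)).1 hlt
    obtain ⟨L₁, hL₁, hD₁⟩ := (abelian_bound hz ⊤ hnd B le_top fun a ha b hb =>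
      congrArg Subtype.val (hB.is_comm.comm ⟨a, ha⟩ ⟨b, hb⟩)).2 hB2 (by
        rw [htop, hk', ← pow_succ', ← pow_mul]
        exact Nat.pow_le_pow_right (by norm_num) (by omega))
    have c1 := invCount_dihedral hz hL₁ hD₁
    have c2 := invCount_quaternion hz hL hQ hD
    have c3 := card_eq hz hL₁
    rw [htop] at c3
    have hl : L₁.length = L'.length + 1 := by
      have := Nat.pow_right_injective (le_refl 2) c3
      simp only [List.length_cons] at this
      omega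
    rw [c1, hl] at c2
    have := Nat.two_pow_pos (L'.length + 1)
    omega


/-- Let E be an extraspecial 2-group of order 2^(2n+1). Then the largest elementary abelian subgroups of E have order 2^n or 2^(n+1); and two extraspecial 2-groups of the same order whose largest elementary abelian subgroups have the same order are isomorphic. -/
theorem result {E : Type*} [Group E] [Finite E] (hE : Cfsg.IsExtraspecial 2 E) (n : ℕ) (hn : Nat.card E = 2 ^ (2 * n + 1)) : ((Cfsg.PRankLE 2 n E ∧ ¬ Cfsg.PRankLE 2 (n - 1) E) ∨ (Cfsg.PRankLE 2 (n + 1) E ∧ ¬ Cfsg.PRankLE 2 n E)) ∧ ∀ (E' : Type*) [Group E'] [Finite E'], Cfsg.IsExtraspecial 2 E' → Nat.card E' = Nat.card E → (∀ k : ℕ, Cfsg.PRankLE 2 k E ↔ Cfsg.PRankLE 2 k E') → Nonempty (E ≃* E') := by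
  haveI : Fact (Nat.Prime 2) := ⟨Nat.prime_two⟩
  obtain ⟨z, L, hz, hL, hcard, hcase⟩ := rank_spec hE
  obtain rfl : L.length = n := by
    have := Nat.pow_right_injective (le_refl 2) (hcard.symm.trans hn)
    omega
  refine ⟨?_, fun E' _ _ hE' hcc hrk => ?_⟩
  · rcases hcase with h | h
    · exact Or.inr h.2
    · exact Or.inl h.2
  obtain ⟨z', L', hz', hL', hcard', hcase'⟩ := rank_spec hE'
  have hlen : L.length = L'.length := by
    have := Nat.pow_right_injective (le_refl 2) (hcard.symm.trans (hcc.symm.trans hcard'))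
    omega
  rcases hcase with h | h <;> rcases hcase' with h' | h'
  · exact Cfsg.Lib.Extraspecial.equiv_DD hz hz' hL hL' hlen h.1 h'.1
  · exact absurd ((hrk _).2 (hlen ▸ h'.2.1)) h.2.2
  · exact absurd ((hrk _).1 h.2.1) (hlen ▸ h'.2.2)
  · exact Cfsg.Lib.Extraspecial.equiv_QQ hz hz' hL hL' hlen h.1 h'.1

end Cfsg.Agent.S3763
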