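import Cfsg.Statements.S3764
import Cfsg.Agent.Lib.Local.PrimeOrderOperator
-- import your own Cfsg.Agent.* helpers here

set_option autoImplicit false
open Cfsg

namespace Cfsg.Agent.S3764

open Subgroup Cfsg.Lib.Local
open scoped commutatorElement

/-- Let p, q, r be distinct primes and let X, Q, V be subgroups of a finite group with X of order r, Q an extraspecial q-group normalized by X with C_Q(X) = Z(Q), and V an elementary abelian p-group normalized by X and Q on which XQ acts faithfully ((X ⊔ Q) ∩ C(V) = 1). If C_V(X) = 1, then q = 2, r = 2^n + 1 for some n, and Q has order 2^(2n+1). -/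
theorem result {G : Type*} [Group G] [Finite G] {p q r : ℕ} (hp : p.Prime) (hq : q.Prime) (hr : r.Prime) (hpq : p ≠ q) (hpr : p ≠ r) (hqr : q ≠ r) (X Q V : Subgroup G) (hX : Nat.card X = r) (hQ : Cfsg.IsExtraspecial q ↥Q) (hXQ : X ≤ Subgroup.normalizer (Q : Set G)) (hCQ : Q ⊓ Subgroup.centralizer (X : Set G) = (Subgroup.center ↥Q).map Q.subtype) (hV : Cfsg.IsElementaryAbelian p V) (hXV : X ≤ Subgroup.normalizer (V : Set G)) (hQV : Q ≤ Subgroup.normalizer (V : Set G)) (hfaith : (X ⊔ Q) ⊓ Subgroup.centralizer (V : Set G) = ⊥) (hCV : V ⊓ Subgroup.centralizer (X : Set G) = ⊥) : q = 2 ∧ ∃ n : ℕ, r = 2 ^ n + 1 ∧ Nat.card Q = 2 ^ (2 * n + 1) := by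
  classical
  haveI : Fact p.Prime := ⟨hp⟩
  haveI : Fact q.Prime := ⟨hq⟩
  haveI : Fact r.Prime := ⟨hr⟩
  haveI : IsMulCommutative V := hV.1
  letI : CommGroup V := { (inferInstance : Group V) with mul_comm := fun a b => mul_comm' a b }
  obtain ⟨⟨hQp, hΦ, hQc⟩, hZ⟩ := hQ
  obtain ⟨x, hx, hx1⟩ : ∃ x ∈ X, x ≠ 1 := by
    rcases X.bot_or_exists_ne_one with h | h
    · exact absurd hX (by rw [h, card_bot]; exact hr.one_lt.ne)
    · exact h
  have hxr : x ^ r = 1 := by
    have h := pow_card_eq_one' (x := (⟨x, hx⟩ : X))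
    rw [hX] at h
    exact congrArg Subtype.val h
  have hgen : X = zpowers x := by
    refine le_antisymm (fun z hz => ?_) (zpowers_le.2 hx)
    obtain ⟨k, hk⟩ := mem_zpowers_iff.1 (mem_zpowers_of_prime_card (g := (⟨x, hx⟩ : X)) (g' := ⟨z, hz⟩) hX
      (fun e => hx1 (congrArg Subtype.val e)))
    exact mem_zpowers_iff.2 ⟨k, congrArg Subtype.val hk⟩
  have hfixiff : ∀ a ∈ Q, x * a * x⁻¹ = a → a ∈ (center Q).map Q.subtype := by
    intro a ha e
    rw [← hCQ, mem_inf]
    refine ⟨ha, mem_centralizer_iff.2 fun z hz => ?_⟩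
    obtain ⟨k, rfl⟩ := mem_zpowers_iff.1 (hgen.le hz)
    exact ((show Commute x a from mul_inv_eq_iff_eq_mul.1 e).zpow_left k).eq
  have hcenfix : ∀ a : Q, a ∈ center Q → x * (a : G) * x⁻¹ = a := fun a ha => by
    have h1 : (a : G) ∈ Q ⊓ centralizer (X : Set G) := hCQ ▸ mem_map_of_mem _ ha
    rw [mem_centralizer_iff.1 (mem_inf.1 h1).2 x hx, mul_inv_cancel_right]
  -- `[Q, X] = Q`
  have hcopQX : (Nat.card X).Coprime (Nat.card Q) := by
    obtain ⟨e, he⟩ := IsPGroup.iff_card.1 hQp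
    rw [hX, he]
    exact ((Nat.coprime_primes hr hq).2 (Ne.symm hqr)).pow_right e
  have hQX : ⁅Q, X⁆ = Q := by
    refine le_antisymm (Lib.Coprime.commutator_le_of_le_normalizer hXQ) fun a ha => ?_
    have htop : (⁅Q, X⁆).subgroupOf Q = ⊤ := by
      refine frattini_nongenerating (eq_top_iff.2 fun b _ => ?_)
      obtain ⟨n, hn, c, hc, hb⟩ := Lib.Coprime.le_commutator_sup_centralizer hXQ hcopQX
        (Or.inr (have := hQp.isNilpotent; IsNilpotent.to_isSolvable)) b.2
      have hnQ := Lib.Coprime.commutator_le_of_le_normalizer hXQ hn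
      rw [hCQ] at hc
      obtain ⟨c', hc', rfl⟩ := hc
      rw [show b = ⟨n, hnQ⟩ * c' from Subtype.ext hb]
      exact mul_mem (mem_sup_left (mem_subgroupOf.2 hn)) (mem_sup_right (hΦ ▸ hc'))
    exact mem_subgroupOf.1 (htop.ge (mem_top (⟨a, ha⟩ : Q)))
  have hnc : ∃ a : Q, a ∉ center Q := by
    by_contra hcon
    push Not at hcon
    have h1 : center Q = ⊤ := eq_top_iff.2 fun a _ => hcon a
    have h2 : commutator Q = ⊥ := by
      rw [commutator_def, commutator_eq_bot_iff_le_centralizer]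
      intro a _
      exact mem_centralizer_iff.2 fun b _ => (mem_center_iff.1 (hcon a) b)
    rw [h2] at hQc
    rw [← hQc, card_bot] at hZ
    exact hq.one_lt.ne hZ
  -- the representation
  set φ : Q →* MulAut V := (autOf V).comp (Subgroup.inclusion hQV) with hφ
  have hφinj : Function.Injective φ := by
    rw [← MonoidHom.ker_eq_bot_iff, eq_bot_iff]
    intro a ha
    have h1 : (a : G) ∈ (X ⊔ Q) ⊓ centralizer (V : Set G) :=
      mem_inf.2 ⟨mem_sup_right a.2, (autOf_eq_one_iff V _).1 (MonoidHom.mem_ker.1 ha)⟩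
    rw [hfaith, mem_bot] at h1
    exact mem_bot.2 (Subtype.ext h1)
  let xN : normalizer (V : Set G) := ⟨x, hXV hx⟩
  set y := autOf V xN with hy
  have hconj : ∀ a : Q, y * φ a * y⁻¹ = φ ⟨x * a * x⁻¹, (mem_normalizer_iff.1 (hXQ hx) _).1 a.2⟩ := fun a => by
    rw [hy, hφ, MonoidHom.comp_apply, MonoidHom.comp_apply, ← map_inv, ← map_mul, ← map_mul]
    rfl
  have hyfix : ∀ a : Q, y * φ a * y⁻¹ = φ a ↔ a ∈ center Q := fun a => by
    rw [hconj, hφinj.eq_iff]
    refine ⟨fun e => ?_, fun ha => Subtype.ext (hcenfix a ha)⟩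
    obtain ⟨b, hb, hba⟩ := hfixiff a a.2 (congrArg Subtype.val e)
    rwa [show b = a from Subtype.ext hba] at hb
  have hyr : y ^ r = 1 := by rw [hy, ← map_pow, show xN ^ r = 1 from Subtype.ext hxr, map_one]
  have hmoved : ∃ a ∈ φ.range, y * a * y⁻¹ ≠ a := by
    obtain ⟨a, ha⟩ := hnc
    exact ⟨φ a, ⟨a, rfl⟩, fun e => ha ((hyfix a).1 e)⟩
  have hy1 : y ≠ 1 := fun e => by
    obtain ⟨a, -, ha⟩ := hmoved
    exact ha (by rw [e]; simp)
  have hQA : φ.range = (Q.subgroupOf (normalizer (V : Set G))).map (autOf V) := by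
    ext z
    constructor
    · rintro ⟨a, rfl⟩; exact ⟨⟨a, hQV a.2⟩, mem_subgroupOf.2 a.2, rfl⟩
    · rintro ⟨a, ha, rfl⟩; exact ⟨⟨a, mem_subgroupOf.1 ha⟩, rfl⟩
  have hcentral : ∀ a : Q, (∀ b ∈ φ.range, φ a * b = b * φ a) ↔ a ∈ center Q := fun a => by
    rw [mem_center_iff]
    refine ⟨fun h b => hφinj ?_, fun h b hb => ?_⟩
    · rw [map_mul, map_mul]; exact (h _ ⟨b, rfl⟩).symm
    · obtain ⟨b', rfl⟩ := hb
      rw [← map_mul, ← map_mul, h b']
  have h : MinimalMoved φ.range (zpowers y) y q := by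
    refine ⟨hQp.of_surjective φ.rangeRestrict φ.rangeRestrict_surjective, ?_, hmoved, ?_, ?_, ?_, mem_zpowers y,
      ?_, by rw [orderOf_eq_prime hyr hy1]; exact (Nat.coprime_primes hr hq).2 (Ne.symm hqr)⟩
    · intro g hg
      obtain ⟨k, rfl⟩ := mem_zpowers_iff.1 hg
      rw [hQA]
      rintro _ ⟨b, hb, rfl⟩
      refine ⟨xN ^ k * b * (xN ^ k)⁻¹, ?_, by rw [map_mul, map_mul, map_inv, map_zpow]⟩
      rw [SetLike.mem_coe, mem_subgroupOf] at hb ⊢
      exact (mem_normalizer_iff.1 (zpow_mem (hXQ hx) k) _).1 hb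
    · rw [hQA, hy, ← MonoidHom.map_zpowers, ← map_commutator]
      congr 1
      refine map_injective (normalizer (V : Set G)).subtype_injective ?_
      rw [map_commutator, subgroupOf_map_subtype, inf_eq_left.2 hQV, MonoidHom.map_zpowers]
      show ⁅Q, zpowers x⁆ = Q
      rw [← hgen, hQX]
    · rintro _ ⟨⟨z, ⟨a, rfl⟩⟩, hz, rfl⟩
      refine (hyfix a).2 (hΦ ▸ ?_)
      have h1 := frattini_le_comap_frattini_of_surjective (φ := (MonoidHom.ofInjective hφinj).symm.toMonoidHom)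
        (MonoidHom.ofInjective hφinj).symm.surjective hz
      rw [mem_comap] at h1
      have e : (MonoidHom.ofInjective hφinj).symm ⟨φ a, ⟨a, rfl⟩⟩ = a := by
        rw [MulEquiv.symm_apply_eq]; exact Subtype.ext rfl
      rwa [MulEquiv.coe_toMonoidHom, e] at h1
    · rintro - _ ⟨a, rfl⟩ ha
      exact (hyfix a).2 ((hcentral a).1 ha)
    · intro g hg
      obtain ⟨k, rfl⟩ := mem_zpowers_iff.1 hg
      exact ((Commute.refl y).zpow_left k).eq
  obtain ⟨-, hq2, m, -, hrm, R, hAR, hRQ, hidx, hR⟩ := prime_exception (W := V)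
    (fun w => Subtype.ext (hV.2 w w.2)) h hyr hpq hpr hqr (fun w hw => by
      have h1 : (w : G) ∈ V ⊓ centralizer (X : Set G) := by
        refine mem_inf.2 ⟨w.2, mem_centralizer_iff.2 fun z hz => ?_⟩
        have e : x * (w : G) * x⁻¹ = w := congrArg Subtype.val hw
        obtain ⟨k, rfl⟩ := mem_zpowers_iff.1 (hgen.le hz)
        exact ((show Commute x (w : G) from mul_inv_eq_iff_eq_mul.1 e).zpow_left k).eq
      rw [hCV, mem_bot] at h1
      exact Subtype.ext h1)
  refine ⟨hq2, m, hrm, ?_⟩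
  have hA : innerCenter φ.range = (center Q).map φ := by
    ext z
    rw [mem_innerCenter]
    constructor
    · rintro ⟨⟨a, rfl⟩, ha⟩; exact ⟨a, (hcentral a).1 ha, rfl⟩
    · rintro ⟨a, ha, rfl⟩; exact ⟨⟨a, rfl⟩, (hcentral a).2 ha⟩
  have hAcard : Nat.card (innerCenter φ.range) = q := by
    rw [hA, card_map_of_injective hφinj, hZ]
  obtain rfl : R = innerCenter φ.range := le_antisymm (hR hAcard) hAR
  subst hq2
  calc Nat.card Q = Nat.card φ.range := Nat.card_congr (MonoidHom.ofInjective hφinj).toEquiv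
    _ = Nat.card (innerCenter φ.range) * (innerCenter φ.range).relIndex φ.range := by
        rw [← relIndex_bot_left (innerCenter φ.range), ← relIndex_bot_left φ.range,
          relIndex_mul_relIndex ⊥ _ _ bot_le hRQ]
    _ = 2 ^ (2 * m + 1) := by rw [hAcard, hidx, pow_succ, mul_comm]

end Cfsg.Agent.S3764
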