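import Cfsg.Statements.S3766
import Cfsg.Agent.Lib.Core.Fitting
import Cfsg.Agent.Lib.Solv.Nilpotent
-- import your own Cfsg.Agent.* helpers here

set_option autoImplicit false
open Cfsg

namespace Cfsg.Agent.S3766

open Subgroup
open Cfsg.Lib.Core
open scoped commutatorElement

variable {G : Type*} [Group G] [Finite G]

def IsChief (U V : Subgroup G) : Prop :=
  U.Normal ∧ V.Normal ∧ V < U ∧ ∀ W : Subgroup G, W.Normal → V ≤ W → W ≤ U → W = V ∨ W = U

theorem fitting_centralizes {F : Subgroup G} [F.Normal] [Group.IsNilpotent F] {U V : Subgroup G} (h : IsChief U V)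
    {g : G} (hg : g ∈ F) : ∀ u ∈ U, u * g * u⁻¹ * g⁻¹ ∈ V := by
  obtain ⟨hU, hV, hlt, hmax⟩ := h
  suffices hle : ⁅U, F⁆ ≤ V by
    intro u hu
    have := hle (commutator_mem_commutator hu hg)
    rwa [commutatorElement_def] at this
  rcases hmax (⁅U, F⁆ ⊔ V) inferInstance le_sup_right (sup_le (commutator_le_left U F) hlt.le) with h | h
  · exact le_sup_left.trans h.le
  -- `U ≤ F V`; the centre of the image of `F` meets the image of `U`
  exfalso
  let π := QuotientGroup.mk' V
  have hπ : Function.Surjective π := QuotientGroup.mk'_surjective V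
  have hUF : U.map π ≤ F.map π := by
    refine map_le_iff_le_comap.2 ?_
    rw [comap_map_eq, QuotientGroup.ker_mk']
    exact h.ge.trans (sup_le_sup_right (commutator_le_right U F) V)
  have hVU : V.map π = ⊥ := by rw [Subgroup.map_eq_bot_iff, QuotientGroup.ker_mk']
  have hUne : U.map π ≠ ⊥ := by
    rw [Ne, Subgroup.map_eq_bot_iff, QuotientGroup.ker_mk']
    exact fun h => hlt.not_ge h
  haveI : (U.map π).Normal := hU.map π hπ
  haveI : Group.IsNilpotent ↥(F.map π) := isNilpotent_map inferInstance π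
  haveI : ((U.map π).subgroupOf (F.map π)).Normal := inferInstance
  have hne := Cfsg.Lib.Solv.inf_center_ne_bot_of_isNilpotent (N := (U.map π).subgroupOf (F.map π))
    (by rw [Ne, subgroupOf_eq_bot, disjoint_iff, inf_eq_left.2 hUF]; exact hUne)
  set Z := (Subgroup.center (F.map π)).map (F.map π).subtype with hZ
  haveI : (F.map π).Normal := (inferInstance : F.Normal).map π hπ
  haveI : Z.Normal := inferInstance
  have hUZ : U.map π ⊓ Z ≠ ⊥ := by
    intro hbot
    refine hne (eq_bot_iff.2 fun x hx => ?_)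
    rw [mem_bot]
    exact Subtype.ext (mem_bot.1 (hbot.le ⟨hx.1, ⟨x, hx.2, rfl⟩⟩))
  set W := (U.map π ⊓ Z).comap π with hW
  haveI : W.Normal := inferInstance
  have hWU : W ≤ U := by
    intro x hx
    have h1 : π x ∈ U.map π := hx.1
    obtain ⟨u, hu, he⟩ := h1
    have h2 : u⁻¹ * x ∈ V := QuotientGroup.eq.1 he
    simpa using mul_mem hu (hlt.le h2)
  have hVW : V ≤ W := by
    intro x hx
    have : π x = 1 := (QuotientGroup.eq_one_iff x).2 hx
    show π x ∈ U.map π ⊓ Z
    rw [this]; exact one_mem _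
  rcases hmax W inferInstance hVW hWU with e | e
  · refine hUZ (eq_bot_iff.2 ?_)
    rw [← map_comap_eq_self_of_surjective hπ (U.map π ⊓ Z), ← hW, e, hVU]
  · have hUleZ : U.map π ≤ Z := fun y hy => by
      obtain ⟨u, hu, rfl⟩ := hy
      exact (e.ge hu).2
    have hbot : ⁅U, F⁆.map π = ⊥ := by
      rw [map_commutator, commutator_eq_bot_iff_forall]
      intro a ha b hb
      obtain ⟨z, hz, rfl⟩ := hUleZ ha
      exact (congrArg Subtype.val (mem_center_iff.1 hz ⟨b, hb⟩)).symm
    rw [Subgroup.map_eq_bot_iff, QuotientGroup.ker_mk'] at hbot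
    exact hlt.not_ge (h.ge.trans (sup_le hbot le_rfl))

/-- Elements of a solvable normal subgroup centralising the chief factors below its Fitting subgroup. -/
theorem mem_fitting [Group.IsSolvable G] (N : Subgroup G) [N.Normal] {g : G} (hgN : g ∈ N)
    (h : ∀ U V : Subgroup G, IsChief U V → U ≤ (Cfsg.fittingSubgroup N).map N.subtype →
      ∀ u ∈ U, u * g * u⁻¹ * g⁻¹ ∈ V) : g ∈ (Cfsg.fittingSubgroup N).map N.subtype := by
  haveI : (Cfsg.fittingSubgroup G).Normal := fittingSubgroup_normal' G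
  haveI hFn : ((Cfsg.fittingSubgroup N).map N.subtype).Normal := by
    rw [fittingSubgroup_map_eq_inf_of_isSubnormal (Normal.isSubnormal inferInstance)]; infer_instance
  set F := (Cfsg.fittingSubgroup N).map N.subtype with hF
  haveI hFnil : Group.IsNilpotent F := isNilpotent_map (fittingSubgroup_isNilpotent N) N.subtype
  let C : Subgroup G :=
    { carrier := {y | y ∈ N ∧ ∀ U V : Subgroup G, IsChief U V → U ≤ F → ∀ u ∈ U, u * y * u⁻¹ * y⁻¹ ∈ V}
      one_mem' := ⟨one_mem _, fun U V _ _ u _ => by simp⟩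
      mul_mem' := fun {a b} ha hb => ⟨mul_mem ha.1 hb.1, fun U V hc hUF u hu => by
        have h1 := ha.2 U V hc hUF u hu
        have h2 := hc.2.1.conj_mem _ (hb.2 U V hc hUF u hu) a
        rw [show u * (a * b) * u⁻¹ * (a * b)⁻¹ = (u * a * u⁻¹ * a⁻¹) * (a * (u * b * u⁻¹ * b⁻¹) * a⁻¹) by group]
        exact mul_mem h1 h2⟩
      inv_mem' := fun {a} ha => ⟨inv_mem ha.1, fun U V hc hUF u hu => by
        have h1 := hc.2.1.conj_mem _ (inv_mem (ha.2 U V hc hUF u hu)) a⁻¹
        rw [show u * a⁻¹ * u⁻¹ * a⁻¹⁻¹ = a⁻¹ * (u * a * u⁻¹ * a⁻¹)⁻¹ * a⁻¹⁻¹ by group]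
        exact h1⟩ }
  haveI hCn : C.Normal := ⟨fun y hy x => ⟨(inferInstance : N.Normal).conj_mem _ hy.1 x, fun U V hc hUF u hu => by
    have h1 := hc.2.1.conj_mem _ (hy.2 U V hc hUF _ (hc.1.conj_mem u hu x⁻¹)) x
    rw [show u * (x * y * x⁻¹) * u⁻¹ * (x * y * x⁻¹)⁻¹ = x * ((x⁻¹ * u * x⁻¹⁻¹) * y * (x⁻¹ * u * x⁻¹⁻¹)⁻¹ * y⁻¹) * x⁻¹ by group]
    exact h1⟩⟩
  suffices hCF : C ≤ F from hCF ⟨hgN, h⟩
  by_contra hne
  obtain ⟨K, ⟨hKn, hKC, hKF⟩, hmin⟩ := (Set.toFinite {K : Subgroup G | K.Normal ∧ K ≤ C ∧ ¬ K ≤ F}).exists_minimal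
    ⟨C, hCn, le_rfl, hne⟩
  have hKK : ⁅K, K⁆ ≤ F := by
    by_contra hnot
    have hKne : K ≠ ⊥ := fun e => hKF (e ▸ bot_le)
    exact (Group.IsSolvable.commutator_lt_of_ne_bot (H := K) hKne).not_ge
      (hmin ⟨inferInstance, (commutator_le_self K).trans hKC, hnot⟩ (commutator_le_self K))
  have hdrop : ∀ X : Subgroup G, X.Normal → X ≤ F → X ≠ ⊥ → ⁅X, K⁆ < X := by
    intro X hX hXF hXne
    obtain ⟨V, hle, ⟨hVn, hVlt⟩, hVmax⟩ := (Set.toFinite {V : Subgroup G | V.Normal ∧ V < X}).exists_le_maximal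
      (a := ⊥) ⟨inferInstance, bot_lt_iff_ne_bot.2 hXne⟩
    have hc : IsChief X V := ⟨hX, hVn, hVlt, fun W hW hVW hWX => by
      rcases hWX.lt_or_eq with h | h
      · exact Or.inl (le_antisymm (hVmax ⟨hW, h⟩ hVW) hVW)
      · exact Or.inr h⟩
    refine lt_of_le_of_lt (commutator_le.2 fun x hx k hk => ?_) hVlt
    rw [commutatorElement_def]
    exact (hKC hk).2 X V hc hXF x hx
  have hnil : Group.IsNilpotent K := by
    rw [Subgroup.isNilpotent_iff_lowerCentralSeries]
    have hn : ∀ n, (K.lowerCentralSeries n).Normal := by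
      intro n
      induction n with
      | zero => exact hKn
      | succ n ih => rw [Subgroup.lowerCentralSeries_succ]; infer_instance
    have hle : ∀ n, K.lowerCentralSeries (n + 1) ≤ F := by
      intro n
      induction n with
      | zero => exact hKK
      | succ n ih => rw [Subgroup.lowerCentralSeries_succ]; exact (@commutator_le_left _ _ _ _ (hn _)).trans ih
    have hcard : ∀ n, K.lowerCentralSeries (n + 1) = ⊥ ∨
        Nat.card ↥(K.lowerCentralSeries (n + 1)) + n ≤ Nat.card ↥(K.lowerCentralSeries 1) := by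
      intro n
      induction n with
      | zero => exact Or.inr le_rfl
      | succ n ih =>
        by_cases h0 : K.lowerCentralSeries (n + 1) = ⊥
        · left; rw [Subgroup.lowerCentralSeries_succ, h0, commutator_bot_left]
        · rcases ih with ih | ih
          · exact absurd ih h0
          right
          have h1 := hdrop _ (hn (n + 1)) (hle n) h0
          have h2 : Nat.card ↥(K.lowerCentralSeries (n + 1 + 1)) < Nat.card ↥(K.lowerCentralSeries (n + 1)) := by
            rw [Subgroup.lowerCentralSeries_succ]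
            exact Set.Finite.card_lt_card (Set.toFinite _) h1
          omega
    refine ⟨Nat.card ↥(K.lowerCentralSeries 1) + 1, (hcard _).resolve_right ?_⟩
    have : 0 < Nat.card ↥(K.lowerCentralSeries (Nat.card ↥(K.lowerCentralSeries 1) + 1)) := Nat.card_pos
    omega
  apply hKF
  have hKN : K ≤ N := fun k hk => (hKC hk).1
  intro k hk
  refine ⟨⟨k, hKN hk⟩, ?_, rfl⟩
  haveI : (K.subgroupOf N).Normal := inferInstance
  exact le_fittingSubgroup (N := K.subgroupOf N) (Group.nilpotent_of_mulEquiv (subgroupOfEquivOfLe hKN).symm) hk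

/-- Let G be a finite solvable group and N a normal subgroup of G. Call a pair V < U of normal subgroups of G a chief factor of G when no normal subgroup of G lies strictly between them; an element g centralizes the chief factor U/V when u g u⁻¹ g⁻¹ ∈ V for all u ∈ U. Then an element of G lies in the Fitting subgroup F(N) if and only if it lies in N and centralizes every chief factor of G; and also if and only if it lies in N and centralizes every chief factor U/V of G with U ≤ F(N). -/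
theorem result {G : Type*} [Group G] [Finite G] (hG : Group.IsSolvable G) (N : Subgroup G) [N.Normal] (g : G) : (g ∈ (Cfsg.fittingSubgroup ↥N).map N.subtype ↔ g ∈ N ∧ ∀ U V : Subgroup G, (U.Normal ∧ V.Normal ∧ V < U ∧ ∀ W : Subgroup G, W.Normal → V ≤ W → W ≤ U → W = V ∨ W = U) → ∀ u ∈ U, u * g * u⁻¹ * g⁻¹ ∈ V) ∧ (g ∈ (Cfsg.fittingSubgroup ↥N).map N.subtype ↔ g ∈ N ∧ ∀ U V : Subgroup G, (U.Normal ∧ V.Normal ∧ V < U ∧ ∀ W : Subgroup G, W.Normal → V ≤ W → W ≤ U → W = V ∨ W = U) → U ≤ (Cfsg.fittingSubgroup ↥N).map N.subtype → ∀ u ∈ U, u * g * u⁻¹ * g⁻¹ ∈ V) := by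
  haveI := hG
  have hfwd : g ∈ (Cfsg.fittingSubgroup ↥N).map N.subtype → g ∈ N ∧ ∀ U V : Subgroup G, IsChief U V →
      ∀ u ∈ U, u * g * u⁻¹ * g⁻¹ ∈ V := by
    intro hg
    haveI := Cfsg.Lib.Core.fittingSubgroup_normal' G
    haveI : ((Cfsg.fittingSubgroup N).map N.subtype).Normal := by
      rw [Cfsg.Lib.Core.fittingSubgroup_map_eq_inf_of_isSubnormal (Subgroup.Normal.isSubnormal inferInstance)]
      infer_instance
    haveI : Group.IsNilpotent ↥((Cfsg.fittingSubgroup N).map N.subtype) :=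
      Cfsg.Lib.Core.isNilpotent_map (Cfsg.Lib.Core.fittingSubgroup_isNilpotent N) N.subtype
    exact ⟨Subgroup.map_subtype_le _ hg, fun U V hc => fitting_centralizes hc hg⟩
  exact ⟨⟨hfwd, fun h => mem_fitting N h.1 fun U V hc _ => h.2 U V hc⟩,
    ⟨fun hg => ⟨(hfwd hg).1, fun U V hc _ => (hfwd hg).2 U V hc⟩, fun h => mem_fitting N h.1 h.2⟩⟩

end Cfsg.Agent.S3766
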