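import Cfsg.Statements.S3767
import Cfsg.Agent.Lib.Linear.SemiregularIsometry
-- import your own Cfsg.Agent.* helpers here

set_option autoImplicit false
open Cfsg

namespace Cfsg.Agent.S3767

open Subgroup
open scoped commutatorElement

variable {Q : Type*} [Group Q]

theorem comm_mul_left (h : ∀ a b : Q, ⁅a, b⁆ ∈ center Q) (a b c : Q) : ⁅a * b, c⁆ = ⁅a, c⁆ * ⁅b, c⁆ := by
  have e : ⁅a * b, c⁆ = a * ⁅b, c⁆ * a⁻¹ * ⁅a, c⁆ := by simp only [commutatorElement_def]; group
  rw [e, (mem_center_iff.1 (h b c) a), mul_inv_cancel_right, (mem_center_iff.1 (h b c) ⁅a, c⁆)]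

theorem comm_mul_right (h : ∀ a b : Q, ⁅a, b⁆ ∈ center Q) (a b c : Q) : ⁅a, b * c⁆ = ⁅a, b⁆ * ⁅a, c⁆ := by
  rw [← inv_inj, commutatorElement_inv, comm_mul_left h, mul_inv_rev, commutatorElement_inv, commutatorElement_inv]
  exact (mem_center_iff.1 (h c a) _)

theorem comm_pow_left (h : ∀ a b : Q, ⁅a, b⁆ ∈ center Q) (a b : Q) (k : ℕ) : ⁅a ^ k, b⁆ = ⁅a, b⁆ ^ k := by
  induction k with
  | zero => simp
  | succ k ih => rw [pow_succ, pow_succ, comm_mul_left h, ih]

theorem comm_out (h : ∀ a b : Q, ⁅a, b⁆ ∈ center Q) (a b : Q) :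
    ⁅(QuotientGroup.mk a : Q ⧸ center Q).out, (QuotientGroup.mk b : Q ⧸ center Q).out⁆ = ⁅a, b⁆ := by
  obtain ⟨z, hz⟩ := QuotientGroup.mk_out_eq_mul (center Q) a
  obtain ⟨w, hw⟩ := QuotientGroup.mk_out_eq_mul (center Q) b
  rw [hz, hw, comm_mul_left h, comm_mul_right h, comm_mul_right h]
  have h1 : ∀ (u : Q) (v : center Q), ⁅u, (v : Q)⁆ = 1 ∧ ⁅(v : Q), u⁆ = 1 := fun u v =>
    ⟨commutatorElement_eq_one_iff_mul_comm.2 (mem_center_iff.1 v.2 u),
      commutatorElement_eq_one_iff_mul_comm.2 (mem_center_iff.1 v.2 u).symm⟩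
  simp [(h1 _ _).1, (h1 _ _).2]

theorem extraspecial_dvd {p : ℕ} [Fact p.Prime] [Finite Q] (hQ : Cfsg.IsExtraspecial p Q) (n : ℕ)
    (hn : Nat.card Q = p ^ (2 * n + 1)) (φ : MulAut Q) {h : ℕ} (hh : 0 < h) (hcop : h.Coprime p) (hpow : φ ^ h = 1)
    (hfree : ∀ t : ℕ, ¬ h ∣ t → ∀ a : Q, (φ ^ t) a = a ↔ a ∈ center Q) :
    h ∣ p ^ n + 1 ∨ h ∣ p ^ n - 1 := by
  obtain ⟨⟨-, -, hcomm⟩, hZ⟩ := hQ
  have hc : ∀ a b : Q, ⁅a, b⁆ ∈ center Q := fun a b =>
    hcomm ▸ Subgroup.commutator_mem_commutator (mem_top a) (mem_top b)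
  letI : CommGroup (Q ⧸ center Q) :=
    { (inferInstance : Group (Q ⧸ center Q)) with
      mul_comm := by
        rintro ⟨a⟩ ⟨b⟩
        refine (QuotientGroup.eq (a := a * b) (b := b * a)).2 ?_
        have e : (a * b)⁻¹ * (b * a) = ⁅b⁻¹, a⁻¹⁆ := by simp only [commutatorElement_def]; group
        rw [e]
        exact hc _ _ }
  letI : CommGroup (center Q) := { (inferInstance : Group (center Q)) with
    mul_comm := fun a b => Subtype.ext (mem_center_iff.1 b.2 a) }
  have hp0 := (Fact.out : p.Prime)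
  let f : Q ⧸ center Q → Q ⧸ center Q → center Q := fun a b => ⟨⁅a.out, b.out⁆, hc _ _⟩
  have hf : ∀ a b : Q, ((f (QuotientGroup.mk a) (QuotientGroup.mk b) : center Q) : Q) = ⁅a, b⁆ := comm_out hc
  have hmap : (center Q).map (φ : Q ≃* Q).toMonoidHom = center Q :=
    Subgroup.characteristic_iff_map_eq.1 inferInstance φ
  let σ : MulAut (Q ⧸ center Q) := QuotientGroup.congr (center Q) (center Q) φ hmap
  have hσ : ∀ (t : ℕ) (a : Q), (σ ^ t) (QuotientGroup.mk a) = QuotientGroup.mk ((φ ^ t) a) := by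
    intro t
    induction t with
    | zero => intro a; rfl
    | succ t ih => intro a; rw [pow_succ', pow_succ', MulAut.mul_apply, MulAut.mul_apply, ih]; rfl
  have hfix : ∀ (t : ℕ), ∀ z ∈ center Q, (φ ^ t) z = z := fun t z hz => by
    by_cases ht : h ∣ t
    · obtain ⟨k, rfl⟩ := ht; rw [pow_mul, hpow, one_pow]; rfl
    · exact (hfree t ht z).2 hz
  refine Cfsg.Lib.Linear.semiregular_pairing (M := Q ⧸ center Q) (C := center Q) (q := p) hZ ?_ f ?_ ?_ ?_ σ ?_ ?_ hh hcop ?_ ?_ n ?_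
  · rintro ⟨a⟩
    refine ((QuotientGroup.eq_one_iff (a ^ p)).2 (mem_center_iff.2 fun b => ?_))
    refine (commutatorElement_eq_one_iff_mul_comm.1 ?_).symm
    rw [comm_pow_left hc]
    exact congrArg Subtype.val (show (⟨⁅a, b⁆, hc a b⟩ : center Q) ^ p = 1 from hZ ▸ pow_card_eq_one')
  · rintro ⟨a⟩ ⟨b⟩ ⟨c⟩
    refine Subtype.ext ?_
    show _ = ((f _ _ : center Q) : Q) * ((f _ _ : center Q) : Q)
    exact (hf (a * b) c).trans ((comm_mul_left hc a b c).trans (congrArg₂ (· * ·) (hf a c).symm (hf b c).symm))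
  · rintro ⟨a⟩
    exact Subtype.ext ((hf a a).trans (commutatorElement_self a))
  · rintro ⟨a⟩ ha
    refine (QuotientGroup.eq_one_iff a).2 (mem_center_iff.2 fun b => ?_)
    have e := (hf a b).symm.trans (congrArg Subtype.val (ha (QuotientGroup.mk b)))
    exact (commutatorElement_eq_one_iff_mul_comm.1 e).symm
  · rintro ⟨a⟩ ⟨b⟩
    refine Subtype.ext ?_
    refine (hf (φ a) (φ b)).trans ?_
    refine Eq.trans ?_ (hf a b).symm
    have e : φ ⁅a, b⁆ = ⁅φ a, φ b⁆ := map_commutatorElement φ.toMonoidHom a b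
    rw [← e]
    simpa using hfix 1 _ (hc a b)
  · rintro ⟨a⟩ ⟨b⟩ ⟨c⟩
    refine Subtype.ext ?_
    show _ = ((f _ _ : center Q) : Q) * ((f _ _ : center Q) : Q)
    exact (hf a (b * c)).trans ((comm_mul_right hc a b c).trans (congrArg₂ (· * ·) (hf a b).symm (hf a c).symm))
  · refine MulEquiv.ext ?_
    rintro ⟨a⟩
    exact (hσ h a).trans (by rw [hpow]; rfl)
  · intro x
    induction x using QuotientGroup.induction_on with
    | _ a =>
    intro ha t e
    rw [hσ, QuotientGroup.eq] at e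
    by_contra ht
    refine ha ((QuotientGroup.eq_one_iff a).2 ((hfree t ht a).1 ?_))
    set u := ((φ ^ t) a)⁻¹ * a with hu
    have hk : ∀ k : ℕ, (φ ^ (t * k)) a = a * (u⁻¹) ^ k := by
      intro k
      induction k with
      | zero => simp
      | succ k ih =>
        rw [Nat.mul_succ, Nat.add_comm, pow_add, MulAut.mul_apply, ih, map_mul, map_pow, map_inv, hfix t u e, pow_succ']
        rw [← mul_assoc a]
        congr 1
        have := mem_center_iff.1 e ((φ ^ t) a)
        rw [hu] at this ⊢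
        simp [mul_inv_rev]
    have h1 : u⁻¹ ^ h = 1 := by
      have := hk h
      rw [mul_comm, pow_mul, hpow, one_pow, MulAut.one_apply] at this
      exact mul_left_cancel (this.symm.trans (mul_one a).symm)
    have h2 : u⁻¹ ^ p = 1 := by
      have := congrArg Subtype.val (show (⟨u⁻¹, inv_mem e⟩ : center Q) ^ p = 1 from hZ ▸ pow_card_eq_one')
      simpa using this
    have h3 : u⁻¹ = 1 := by simpa [hcop.gcd_eq_one] using (pow_gcd_eq_one (a := u⁻¹)).2 ⟨h1, h2⟩
    rw [inv_eq_one, hu, inv_mul_eq_one] at h3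
    exact h3
  · have h1 := Subgroup.card_eq_card_quotient_mul_card_subgroup (center Q)
    rw [hn, hZ, pow_succ] at h1
    exact (Nat.eq_of_mul_eq_mul_right hp0.pos h1).symm

/-- Let P be an extraspecial p-group of order p^(2n+1) and H a cyclic group of order h prime to p acting on P (inside a common finite group: H normalizes P) so that C_P(x) = Z(P) for every non-identity x ∈ H. Then h divides p^n + 1 or h divides p^n − 1. -/
theorem result {G : Type*} [Group G] [Finite G] {p : ℕ} [Fact p.Prime] (P H : Subgroup G) (hP : Cfsg.IsExtraspecial p ↥P) (n : ℕ) (hn : Nat.card P = p ^ (2 * n + 1)) (hH : IsCyclic H) (hcop : (Nat.card H).Coprime p) (hHP : H ≤ Subgroup.normalizer (P : Set G)) (hfix : ∀ x ∈ H, x ≠ 1 → P ⊓ Subgroup.centralizer {x} = (Subgroup.center ↥P).map P.subtype) : Nat.card H ∣ p ^ n + 1 ∨ Nat.card H ∣ p ^ n - 1 := by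
  classical
  obtain ⟨⟨x, hxH⟩, hx⟩ := IsCyclic.exists_generator (α := H)
  have hord : orderOf x = Nat.card H := by
    rw [← orderOf_eq_card_of_forall_mem_zpowers hx, Subgroup.orderOf_mk]
  have hxn := hHP hxH
  let φ : MulAut P :=
    { toFun := fun a => ⟨x * a * x⁻¹, (Subgroup.mem_normalizer_iff.1 hxn a).1 a.2⟩
      invFun := fun a => ⟨x⁻¹ * a * x, by
        have := (Subgroup.mem_normalizer_iff.1 (inv_mem hxn) a).1 a.2
        simpa using this⟩
      left_inv := fun a => Subtype.ext (by simp [mul_assoc])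
      right_inv := fun a => Subtype.ext (by simp [mul_assoc])
      map_mul' := fun a b => Subtype.ext (by simp [mul_assoc]) }
  have hφ : ∀ (t : ℕ) (a : P), (((φ ^ t) a : P) : G) = x ^ t * a * (x ^ t)⁻¹ := by
    intro t
    induction t with
    | zero => intro a; simp
    | succ t ih =>
      intro a
      rw [pow_succ', MulAut.mul_apply]
      show x * (((φ ^ t) a : P) : G) * x⁻¹ = _
      rw [ih, pow_succ']
      group
  refine extraspecial_dvd hP n hn φ (h := Nat.card H) Nat.card_pos hcop ?_ fun t ht a => ?_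
  · refine MulEquiv.ext fun a => Subtype.ext ?_
    rw [hφ, ← hord, pow_orderOf_eq_one]; simp
  · have hne : x ^ t ≠ 1 := fun e => ht (hord ▸ orderOf_dvd_of_pow_eq_one e)
    have hmem := hfix (x ^ t) (pow_mem hxH t) hne
    rw [Subtype.ext_iff, hφ, mul_inv_eq_iff_eq_mul]
    constructor
    · intro e
      have h1 : (a : G) ∈ P ⊓ Subgroup.centralizer {x ^ t} :=
        ⟨a.2, Subgroup.mem_centralizer_singleton_iff.2 e.symm⟩
      rw [hmem] at h1
      obtain ⟨b, hb, e'⟩ := h1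
      rwa [Subtype.ext e'] at hb
    · intro ha
      have h1 : (a : G) ∈ P ⊓ Subgroup.centralizer {x ^ t} := hmem ▸ ⟨a, ha, rfl⟩
      exact (Subgroup.mem_centralizer_singleton_iff.1 h1.2).symm

end Cfsg.Agent.S3767
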