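import Cfsg.Statements.S3768
import Cfsg.Agent.Lib.Solv.FrobeniusBasic
-- import your own Cfsg.Agent.* helpers here

set_option autoImplicit false
open Cfsg

namespace Cfsg.Agent.S3768

open Cfsg.Lib.Solv Cfsg.Lib.Core
open scoped Pointwise

theorem frob_comm_surj {G : Type*} [Group G] [Finite G] {R K M : Subgroup G} [hM : M.Normal]
    (hR : Cfsg.IsFrobeniusComplement R) (hd : Disjoint K R) (hMK : M ≤ K) {r : G} (hr : r ∈ R) (hr1 : r ≠ 1)
    {m : G} (hm : m ∈ M) : ∃ x ∈ M, x⁻¹ * r * x * r⁻¹ = m := by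
  let f : M → M := fun x => ⟨(x : G)⁻¹ * r * x * r⁻¹, by
    have := M.mul_mem (M.inv_mem x.2) (hM.conj_mem _ x.2 r)
    simpa [mul_assoc] using this⟩
  have hf : Function.Injective f := fun a b hab => by
    have h1 : (a : G)⁻¹ * r * a * r⁻¹ = (b : G)⁻¹ * r * b * r⁻¹ := congrArg Subtype.val hab
    have h2 := fpf_of_frobenius hR hd hr hr1 (k := (a : G) * (b : G)⁻¹)
      (K.mul_mem (hMK a.2) (K.inv_mem (hMK b.2)))
      (by
        have h3 := congrArg (fun z => (a : G) * z * r * (b : G)⁻¹) h1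
        simp only [mul_assoc] at h3
        simpa [mul_assoc] using h3.symm)
    exact Subtype.ext (mul_inv_eq_one.mp h2)
  obtain ⟨x, hx⟩ := (Finite.injective_iff_surjective.mp hf) ⟨m, hm⟩
  exact ⟨x, x.2, congrArg Subtype.val hx⟩


/-- Let G be a finite Frobenius group with Frobenius complement R and Frobenius kernel K (the identity together with the elements in no conjugate of R), and let N be a normal subgroup of G not containing K. Then G/N is a Frobenius group with Frobenius complement RN/N whose Frobenius kernel is the image of K. -/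
theorem result {G : Type*} [Group G] [Finite G] (R : Subgroup G) (hR : Cfsg.IsFrobeniusComplement R) (N : Subgroup G) [N.Normal] (hKN : ¬ Cfsg.frobeniusKernel R ⊆ N) : Cfsg.IsFrobeniusComplement (R.map (QuotientGroup.mk' N)) ∧ Cfsg.frobeniusKernel (R.map (QuotientGroup.mk' N)) = QuotientGroup.mk' N '' Cfsg.frobeniusKernel R := by
  obtain ⟨K, hK, hKn, hc⟩ := frobenius_theorem hR
  have hd : Disjoint K R := hc.disjoint
  have hNK : N ≤ K := fun n hn => by
    by_contra hnK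
    have hn1 : n ≠ 1 := fun h => hnK (h ▸ K.one_mem)
    have h1 : n ∉ Cfsg.frobeniusKernel R := hK ▸ hnK
    rw [mem_frobeniusKernel_iff, not_or, not_forall] at h1
    obtain ⟨-, g, hg⟩ := h1
    have hrN : g⁻¹ * n * g ∈ N := by simpa using ‹N.Normal›.conj_mem n hn g⁻¹
    have hr1 : g⁻¹ * n * g ≠ 1 := fun h => hn1 (by simpa [mul_assoc] using congrArg (fun z => g * z * g⁻¹) h)
    refine hKN (hK ▸ fun k hk => ?_)
    obtain ⟨x, -, rfl⟩ := frob_comm_surj hR hd le_rfl (not_not.mp hg) hr1 hk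
    exact N.mul_mem (by simpa using ‹N.Normal›.conj_mem _ hrN x⁻¹) (N.inv_mem hrN)
  have : (K.map (QuotientGroup.mk' N)).Normal := hKn.map _ (QuotientGroup.mk'_surjective N)
  have hcb : (K.map (QuotientGroup.mk' N)).IsComplement' (R.map (QuotientGroup.mk' N)) := by
    refine Subgroup.isComplement'_of_disjoint_and_mul_eq_univ ?_ ?_
    · rw [disjoint_iff, eq_bot_iff]
      rintro _ ⟨⟨k, hk, rfl⟩, r, hr, hrk⟩
      have h1 : r⁻¹ * k ∈ N := QuotientGroup.eq.mp hrk
      have hrK : r ∈ K := by simpa using K.mul_mem hk (K.inv_mem (hNK h1))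
      have : r = 1 := Subgroup.mem_bot.mp (hd.le_bot ⟨hrK, hr⟩)
      rw [Subgroup.mem_bot, ← hrk, this, map_one]
    · refine Set.eq_univ_of_forall fun q => ?_
      obtain ⟨g, rfl⟩ := QuotientGroup.mk'_surjective N q
      obtain ⟨⟨⟨k, hk⟩, ⟨r, hr⟩⟩, rfl⟩ := hc.2 g
      exact ⟨_, ⟨k, hk, rfl⟩, _, ⟨r, hr, rfl⟩, (map_mul _ k r).symm⟩
  have hKb : K.map (QuotientGroup.mk' N) ≠ ⊥ := fun h => hKN (hK ▸ fun k hk =>
    (QuotientGroup.eq_one_iff k).mp (Subgroup.mem_bot.mp (h ▸ ⟨k, hk, rfl⟩ : (QuotientGroup.mk' N) k ∈ (⊥ : Subgroup (G ⧸ N)))))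
  have hRb : R.map (QuotientGroup.mk' N) ≠ ⊥ := fun h => hR.1 (eq_bot_iff.mpr fun r hr =>
    hd.le_bot ⟨hNK ((QuotientGroup.eq_one_iff r).mp (Subgroup.mem_bot.mp
      (h ▸ ⟨r, hr, rfl⟩ : (QuotientGroup.mk' N) r ∈ (⊥ : Subgroup (G ⧸ N))))), hr⟩)
  have hF : Cfsg.IsFrobeniusComplement (R.map (QuotientGroup.mk' N)) := by
    refine isFrobeniusComplement_of_fpf hcb hKb hRb fun h hh hh1 => ?_
    obtain ⟨r, hr, rfl⟩ := hh
    have hr1 : r ≠ 1 := fun h => hh1 (by rw [h, map_one])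
    rw [eq_bot_iff]
    rintro _ ⟨⟨k, hk, rfl⟩, hkc⟩
    have h1 := Subgroup.mem_centralizer_singleton_iff.mp hkc
    rw [← map_mul, ← map_mul] at h1
    have hN' : N.Normal := inferInstance
    have h2 : k⁻¹ * r * k * r⁻¹ ∈ N := by
      have h3 := QuotientGroup.eq.mp h1
      have h4 := hN'.conj_mem _ (N.inv_mem h3) r
      have h5 := hN'.conj_mem _ h3 r
      first
        | simpa [mul_assoc] using h4
        | simpa [mul_assoc] using h5
    obtain ⟨n, hn, hnk⟩ := frob_comm_surj hR hd hNK hr hr1 h2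
    have h6 := fpf_of_frobenius hR hd hr hr1 (k := k * n⁻¹) (K.mul_mem hk (K.inv_mem (hNK hn)))
      (by
        have h3 := congrArg (fun z => k * z * r * n⁻¹) hnk
        simp only [mul_assoc] at h3
        simpa [mul_assoc] using h3)
    rw [Subgroup.mem_bot]
    exact (QuotientGroup.eq_one_iff k).mpr (mul_inv_eq_one.mp h6 ▸ hn)
  refine ⟨hF, ?_⟩
  have hsub : (QuotientGroup.mk' N '' Cfsg.frobeniusKernel R) ⊆ Cfsg.frobeniusKernel (R.map (QuotientGroup.mk' N)) := by
    rw [← hK, ← Subgroup.coe_map]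
    intro q hq
    rw [mem_frobeniusKernel_iff, or_iff_not_imp_left]
    intro hq1 g hg
    refine hq1 ?_
    have h1 : g⁻¹ * q * g ∈ K.map (QuotientGroup.mk' N) := by simpa using this.conj_mem q hq g⁻¹
    simpa [mul_assoc] using congrArg (fun z => g * z * g⁻¹) (Subgroup.mem_bot.mp (hcb.disjoint.le_bot ⟨h1, hg⟩))
  refine (Set.eq_of_subset_of_ncard_le hsub ?_ (Set.toFinite _)).symm
  rw [← hK, ← Subgroup.coe_map, ← Nat.card_coe_set_eq, ← Nat.card_coe_set_eq, card_frobeniusKernel hF]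
  exact hcb.index_eq_card.le

end Cfsg.Agent.S3768
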