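import Cfsg.Statements.S3769
import Cfsg.Agent.Lib.Local.PrimeOrderOperator
-- import your own Cfsg.Agent.* helpers here

set_option autoImplicit false
open Cfsg

namespace Cfsg.Agent.S3769

open Subgroup Cfsg.Lib.Local
open scoped commutatorElement

/-- Let G and V be subgroups of a finite group with G solvable of odd order normalizing V, V an elementary abelian ℓ-group for a prime ℓ not dividing the order of G, and suppose G has a normal Hall subgroup K with a complement R of prime order. If C_V(R) = 1, then [R, K] centralizes V. -/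
theorem result {X : Type*} [Group X] [Finite X] (G : Subgroup X) (hsolv : Group.IsSolvable G) (hodd : Odd (Nat.card G)) (V : Subgroup X) {ℓ : ℕ} (hℓ : ℓ.Prime) (hV : Cfsg.IsElementaryAbelian ℓ V) (hℓG : ¬ ℓ ∣ Nat.card G) (hGV : G ≤ Subgroup.normalizer (V : Set X)) (K R : Subgroup X) (hKG : K ≤ G) (hKn : G ≤ Subgroup.normalizer (K : Set X)) (hHall : (Nat.card K).Coprime (K.relIndex G)) (hRG : R ≤ G) (hR : (Nat.card R).Prime) (hKR : K ⊓ R = ⊥) (hKRG : K ⊔ R = G) (hCV : V ⊓ Subgroup.centralizer (R : Set X) = ⊥) : ⁅R, K⁆ ≤ Subgroup.centralizer (V : Set X) := by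
  classical
  set r := Nat.card R with hr
  haveI : Fact r.Prime := ⟨hR⟩
  haveI : Fact ℓ.Prime := ⟨hℓ⟩
  haveI : IsMulCommutative V := hV.1
  letI : CommGroup V := { (inferInstance : Group V) with mul_comm := fun a b => mul_comm' a b }
  have hKV : K ≤ normalizer (V : Set X) := hKG.trans hGV
  have hRV : R ≤ normalizer (V : Set X) := hRG.trans hGV
  have hRK : R ≤ normalizer (K : Set X) := hRG.trans hKn
  have hcopRK : (Nat.card R).Coprime (Nat.card K) := by
    haveI : (K.subgroupOf G).Normal := normal_subgroupOf_of_le_normalizer hKn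
    have h1 : K.relIndex G = Nat.card R := by
      have htop : R.subgroupOf G ⊔ K.subgroupOf G = ⊤ := by
        refine map_injective G.subtype_injective ?_
        rw [Subgroup.map_sup, subgroupOf_map_subtype, subgroupOf_map_subtype, inf_eq_left.2 hRG, inf_eq_left.2 hKG,
          sup_comm, hKRG, ← MonoidHom.range_eq_map, Subgroup.range_subtype]
      have hbot : K.subgroupOf G ⊓ R.subgroupOf G = ⊥ := by
        rw [← inf_subgroupOf_right, eq_bot_iff]
        intro z hz
        have : (z : X) ∈ K ⊓ R := ⟨(mem_subgroupOf.1 (mem_inf.1 hz).1).1, mem_subgroupOf.1 (mem_inf.1 hz).2⟩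
        rw [hKR, mem_bot] at this
        exact mem_bot.2 (Subtype.ext this)
      rw [relIndex, ← relIndex_top_right, ← htop, relIndex_sup_right, ← inf_relIndex_right, hbot, relIndex_bot_left,
        Nat.card_congr (subgroupOfEquivOfLe hRG).toEquiv]
    rw [← h1]
    exact hHall.symm
  obtain ⟨x, hx, hx1⟩ : ∃ x ∈ R, x ≠ 1 := by
    rcases R.bot_or_exists_ne_one with h | h
    · exact absurd hR (by rw [hr, h, card_bot]; exact Nat.not_prime_one)
    · exact h
  have hxr : x ^ r = 1 := congrArg Subtype.val (pow_card_eq_one' (x := (⟨x, hx⟩ : R)))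
  have hgen : R = zpowers x := by
    refine le_antisymm (fun z hz => ?_) (zpowers_le.2 hx)
    obtain ⟨k, hk⟩ := mem_zpowers_iff.1 (mem_zpowers_of_prime_card (g := (⟨x, hx⟩ : R)) (g' := ⟨z, hz⟩) hr.symm
      (fun e => hx1 (congrArg Subtype.val e)))
    exact mem_zpowers_iff.2 ⟨k, congrArg Subtype.val hk⟩
  -- every invariant Sylow subgroup is centralized modulo the centralizer of `V`
  have key : ∀ q : ℕ, ∀ hq : Fact q.Prime, ∀ S : Subgroup X, IsPGroup q S → S ≤ K → R ≤ normalizer (S : Set X) →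
      ∀ a ∈ S, ⁅x, a⁆ ∈ centralizer (V : Set X) := by
    intro q hq S hS hSK hRS a ha
    by_contra hne
    have hSV := hSK.trans hKV
    let xN : normalizer (V : Set X) := ⟨x, hRV hx⟩
    set y := autOf V xN with hy
    have hyr : y ^ r = 1 := by rw [hy, ← map_pow, show xN ^ r = 1 from Subtype.ext hxr, map_one]
    have hmov : y * autOf V ⟨a, hSV ha⟩ * y⁻¹ ≠ autOf V ⟨a, hSV ha⟩ := fun e => hne (by
      rw [hy, ← map_inv, ← map_mul, ← map_mul] at e
      have h1 : autOf V ⁅xN, (⟨a, hSV ha⟩ : normalizer (V : Set X))⁆ = 1 := by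
        rw [commutatorElement_def, map_mul, e, ← map_mul, mul_inv_cancel, map_one]
      exact (autOf_eq_one_iff V _).1 h1)
    have hy1 : y ≠ 1 := fun e => hmov (by rw [e]; simp)
    have hqS : q ∣ Nat.card S := by
      obtain ⟨e, he⟩ := IsPGroup.iff_card.1 hS
      rcases Nat.eq_zero_or_pos e with rfl | he0
      · exfalso
        refine hne ?_
        rw [pow_zero] at he
        obtain rfl : a = 1 := congrArg Subtype.val (Subsingleton.elim (h := (Nat.card_eq_one_iff_unique.1 he).1)
          (⟨a, ha⟩ : S) 1)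
        rw [commutatorElement_one_right]; exact one_mem _
      · exact he ▸ dvd_pow_self q he0.ne'
    have hqG : q ∣ Nat.card G := hqS.trans (card_dvd_of_le (hSK.trans hKG))
    have hrG : r ∣ Nat.card G := card_dvd_of_le hRG
    have hqr : q ≠ r := fun e => hR.coprime_iff_not_dvd.1 hcopRK (e ▸ hqS.trans (card_dvd_of_le hSK))
    obtain ⟨Q0, -, h⟩ := exists_minimalMoved (X := zpowers y) (y := y)
      (((hS.of_equiv (subgroupOfEquivOfLe hSV).symm).map (autOf V))) (by
        intro g hg
        obtain ⟨k, rfl⟩ := mem_zpowers_iff.1 hg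
        rintro _ ⟨b, hb, rfl⟩
        refine ⟨xN ^ k * b * (xN ^ k)⁻¹, ?_, by rw [map_mul, map_mul, map_inv, map_zpow]⟩
        rw [SetLike.mem_coe, mem_subgroupOf] at hb ⊢
        exact (mem_normalizer_iff.1 (zpow_mem (hRS hx) k) _).1 hb)
      ⟨autOf V ⟨a, hSV ha⟩, ⟨_, mem_subgroupOf.2 ha, rfl⟩, hmov⟩ (mem_zpowers y)
      (fun g hg => by
        obtain ⟨k, rfl⟩ := mem_zpowers_iff.1 hg
        exact ((Commute.refl y).zpow_left k).eq)
      (by rw [orderOf_eq_prime hyr hy1]; exact (Nat.coprime_primes hR hq.out).2 (Ne.symm hqr))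
    obtain ⟨-, hq2, -⟩ := prime_exception (W := V) (fun w => Subtype.ext (hV.2 w w.2)) h hyr
      (fun e => hℓG (e ▸ hqG)) (fun e => hℓG (e ▸ hrG)) hqr (fun w hw => by
        have h1 : (w : X) ∈ V ⊓ centralizer (R : Set X) := by
          refine mem_inf.2 ⟨w.2, mem_centralizer_iff.2 fun z hz => ?_⟩
          have e : x * (w : X) * x⁻¹ = w := congrArg Subtype.val hw
          obtain ⟨k, rfl⟩ := mem_zpowers_iff.1 (hgen.le hz)
          exact ((show Commute x (w : X) from mul_inv_eq_iff_eq_mul.1 e).zpow_left k).eq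
        rw [hCV, mem_bot] at h1
        exact Subtype.ext h1)
    subst hq2
    exact (Nat.not_even_iff_odd.2 hodd) (even_iff_two_dvd.2 hqG)
  -- the elements centralized modulo the centralizer of `V`
  let T : Subgroup X :=
    { carrier := {a | a ∈ K ∧ ⁅x, a⁆ ∈ centralizer (V : Set X)}
      one_mem' := ⟨one_mem K, by rw [commutatorElement_one_right]; exact one_mem _⟩
      mul_mem' := fun {a b} ha hb => ⟨mul_mem ha.1 hb.1, by
        rw [show ⁅x, a * b⁆ = ⁅x, a⁆ * (a * ⁅x, b⁆ * a⁻¹) by simp [commutatorElement_def, mul_assoc]]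
        refine mul_mem ha.2 ?_
        rw [mem_centralizer_iff]
        intro v hv
        have hv' := (mem_normalizer_iff.1 (inv_mem (hKV ha.1)) v).1 hv
        rw [inv_inv] at hv'
        have h1 := mem_centralizer_iff.1 hb.2 _ hv'
        have h2 := congrArg (fun z => a * z * a⁻¹) h1
        simpa [mul_assoc] using h2⟩
      inv_mem' := fun {a} ha => ⟨inv_mem ha.1, by
        rw [show ⁅x, a⁻¹⁆ = a⁻¹ * ⁅x, a⁆⁻¹ * a by simp [commutatorElement_def, mul_assoc]]
        rw [mem_centralizer_iff]
        intro v hv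
        have hv' := (mem_normalizer_iff.1 (hKV ha.1) v).1 hv
        have h1 := mem_centralizer_iff.1 (inv_mem ha.2) _ hv'
        have h2 := congrArg (fun z => a⁻¹ * z * a) h1
        simpa [mul_assoc] using h2⟩ }
  have hTK : ∀ q : ℕ, q.Prime → ¬ q ∣ (T.subgroupOf K).index := by
    intro q hq
    haveI : Fact q.Prime := ⟨hq⟩
    obtain ⟨S, hS⟩ := Lib.Coprime.exists_invariant_sylow hRK hcopRK (Or.inl (by
      haveI : IsCyclic R := isCyclic_of_prime_card hr.symm
      exact Group.isSolvable_of_comm fun a b => IsCyclic.commGroup.mul_comm a b)) q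
    intro hd
    refine S.not_dvd_index (hd.trans (index_dvd_of_le fun a ha => ?_))
    exact mem_subgroupOf.2 ⟨a.2, key q ⟨hq⟩ _ (S.isPGroup'.map K.subtype) (map_subtype_le _) hS _
      (mem_map_of_mem _ ha)⟩
  have htop : T.subgroupOf K = ⊤ := by
    rw [← index_eq_one]
    by_contra hne
    obtain ⟨q, hq, hqd⟩ := Nat.exists_prime_and_dvd hne
    exact hTK q hq hqd
  rw [hgen, commutator_le]
  intro z hz a ha
  have haT : a ∈ T := mem_subgroupOf.1 (htop.ge (mem_top (⟨a, ha⟩ : K)))
  have hall : ∀ k : ℕ, ⁅x ^ k, a⁆ ∈ centralizer (V : Set X) := by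
    intro k
    induction k with
    | zero => rw [pow_zero, commutatorElement_one_left]; exact one_mem _
    | succ k ih =>
      rw [pow_succ', show ⁅x * x ^ k, a⁆ = x * ⁅x ^ k, a⁆ * x⁻¹ * ⁅x, a⁆ by
        simp only [commutatorElement_def]; group]
      refine mul_mem ?_ haT.2
      rw [mem_centralizer_iff]
      intro v hv
      have hv' := (mem_normalizer_iff.1 (inv_mem (hRV hx)) v).1 hv
      rw [inv_inv] at hv'
      have h1 := mem_centralizer_iff.1 ih _ hv'
      have h2 := congrArg (fun z => x * z * x⁻¹) h1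
      simpa [mul_assoc] using h2
  obtain ⟨k, rfl⟩ := mem_powers_iff_mem_zpowers.2 hz
  exact hall k

end Cfsg.Agent.S3769
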