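import Cfsg.Statements.S3770
import Cfsg.Agent.Lib.Solv.FrobeniusBasic
import Cfsg.Agent.Lib.Thompson.FixedPointFree
-- import your own Cfsg.Agent.* helpers here

set_option autoImplicit false
open Cfsg

namespace Cfsg.Agent.S3770

open Subgroup
open scoped commutatorElement

variable {V : Type*} [CommGroup V] {Γ : Type*} [Group Γ] [Finite Γ] (c : Γ →* MulAut V)

/-- The norm of `v` over a subgroup. -/
noncomputable def nm (A : Subgroup Γ) : V →* V :=
  letI := Fintype.ofFinite A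
  ∏ a : A, (c (a : Γ)).toMonoidHom

theorem nm_apply (A : Subgroup Γ) [Fintype A] (v : V) : nm c A v = ∏ a : A, c (a : Γ) v := by
  simp only [nm, MonoidHom.finsetProd_apply, MulEquiv.coe_toMonoidHom]
  exact Finset.prod_congr (Finset.ext fun x => by simp) fun _ _ => rfl

theorem c_mul (g h : Γ) (v : V) : c g (c h v) = c (g * h) v := by rw [map_mul]; rfl

theorem nm_smul_left (A : Subgroup Γ) {b : Γ} (hb : b ∈ A) (v : V) : c b (nm c A v) = nm c A v := by
  classical
  letI := Fintype.ofFinite A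
  rw [nm_apply, map_prod]
  refine Fintype.prod_equiv (Equiv.mulLeft (⟨b, hb⟩ : A)) _ _ fun a => ?_
  rw [c_mul]; rfl

theorem nm_smul_right (A : Subgroup Γ) {b : Γ} (hb : b ∈ A) (v : V) : nm c A (c b v) = nm c A v := by
  classical
  letI := Fintype.ofFinite A
  rw [nm_apply, nm_apply]
  refine Fintype.prod_equiv (Equiv.mulRight (⟨b, hb⟩ : A)) _ _ fun a => ?_
  rw [c_mul]; rfl

theorem nm_conj (A : Subgroup Γ) {σ : Γ} (hσ : σ ∈ normalizer (A : Set Γ)) (v : V) :
    c σ (nm c A v) = nm c A (c σ v) := by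
  classical
  letI := Fintype.ofFinite A
  rw [nm_apply, nm_apply, map_prod]
  let e : A ≃ A :=
    { toFun := fun a => ⟨σ * a * σ⁻¹, (mem_normalizer_iff.mp hσ a).mp a.2⟩
      invFun := fun a => ⟨σ⁻¹ * a * σ, (mem_normalizer_iff.mp hσ _).mpr (by simpa [mul_assoc] using a.2)⟩
      left_inv := fun a => Subtype.ext (by group)
      right_inv := fun a => Subtype.ext (by group) }
  refine Fintype.prod_equiv e _ _ fun a => ?_
  rw [c_mul, c_mul]
  congr 2
  show σ * (a : Γ) = σ * a * σ⁻¹ * σ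
  group

theorem nm_of_fixed (A : Subgroup Γ) (v : V) (h : ∀ a ∈ A, c a v = v) : nm c A v = v ^ Nat.card A := by
  classical
  letI := Fintype.ofFinite A
  rw [nm_apply, Finset.prod_congr rfl fun (a : A) _ => h a a.2, Finset.prod_const, Finset.card_univ, ← Nat.card_eq_fintype_card]

/-- An element is recovered from a power of exponent prime to its order. -/
theorem mem_of_pow_mem {S : Subgroup V} {ℓ n : ℕ} {v : V} (hv : v ^ ℓ = 1) (hco : ℓ.Coprime n) (h : v ^ n ∈ S) :
    v ∈ S := by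
  have h1 : v ^ Nat.gcd n ℓ ∈ S := by
    rw [← zpow_natCast, Nat.gcd_eq_gcd_ab, zpow_add, zpow_mul, zpow_mul, zpow_natCast, zpow_natCast, hv, one_zpow,
      mul_one]
    exact S.zpow_mem h _
  rwa [hco.symm, pow_one] at h1

/-- A fixed-point-free operator group of prime order spans the norm-zero part by its fixed points. -/
theorem span_fixed (A : Subgroup Γ) {ρ : Γ} {r : ℕ} (hr : r.Prime) (hρ : orderOf ρ = r)
    (hρA : ρ ∈ normalizer (A : Set Γ)) (hfpf : ∀ a ∈ A, a * ρ = ρ * a → a = 1) {ℓ : ℕ} (hℓ : ∀ v : V, v ^ ℓ = 1)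
    (hco : ℓ.Coprime (Nat.card A)) (S : Subgroup V) (hSA : ∀ a ∈ A, ∀ v ∈ S, c a v ∈ S)
    (hSρ : ∀ v ∈ S, c ρ v ∈ S) (hS : ∀ v ∈ S, nm c A v = 1) :
    ∀ v ∈ S, v ∈ closure {z | ∃ a ∈ A, ∃ w ∈ S, c ρ w = w ∧ z = c a w} := by
  classical
  intro v hv
  letI := Fintype.ofFinite A
  refine mem_of_pow_mem (hℓ v) hco ?_
  set T := closure {z | ∃ a ∈ A, ∃ w ∈ S, c ρ w = w ∧ z = c a w}
  have hSi : ∀ (i : ℕ) (w : V), w ∈ S → c (ρ ^ i) w ∈ S := by
    intro i
    induction i with
    | zero => intro w hw; simpa using hw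
    | succ i ih => intro w hw; rw [pow_succ, ← c_mul]; exact ih _ (hSρ w hw)
  have hρr : ρ ^ r = 1 := hρ ▸ pow_orderOf_eq_one ρ
  let w : A → V := fun a => ∏ i ∈ Finset.range r, c (ρ ^ i) (c (a : Γ)⁻¹ v)
  have hw : ∀ a : A, c (a : Γ) (w a) ∈ T := by
    intro a
    refine subset_closure ⟨a, a.2, w a, prod_mem fun i _ => hSi i _ (hSA _ (inv_mem a.2) v hv), ?_, rfl⟩
    simp only [w, map_prod, c_mul]
    set f : ℕ → V := fun i => c (ρ ^ i) (c (a : Γ)⁻¹ v) with hf
    have e : ∀ i, c (ρ * ρ ^ i * (a : Γ)⁻¹) v = f (i + 1) := fun i => by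
      simp only [hf, c_mul, pow_succ']
    have e2 : ∀ i, c (ρ ^ i * (a : Γ)⁻¹) v = f i := fun i => by simp only [hf, c_mul]
    calc ∏ i ∈ Finset.range r, c (ρ * (ρ ^ i * (a : Γ)⁻¹)) v = ∏ i ∈ Finset.range r, f (i + 1) :=
          Finset.prod_congr rfl fun i _ => by rw [← mul_assoc]; exact e i
      _ = ∏ i ∈ Finset.range r, f i := by
        have h1 := Finset.prod_range_succ' f r
        have h2 := Finset.prod_range_succ f r
        have h3 : f r = f 0 := by simp only [hf, hρr, pow_zero]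
        rw [h1, h3] at h2
        exact mul_right_cancel h2
      _ = _ := Finset.prod_congr rfl fun i _ => (e2 i).symm
  have key : ∏ a : A, c (a : Γ) (w a) = v ^ Nat.card A := by
    simp only [w, map_prod, c_mul]
    rw [Finset.prod_comm, Finset.prod_eq_single 0]
    · rw [Finset.prod_congr rfl fun (a : A) _ => (show c ((a : Γ) * (ρ ^ 0 * (a : Γ)⁻¹)) v = v by simp), Finset.prod_const,
        Finset.card_univ, ← Nat.card_eq_fintype_card]
    · intro i hi hi0
      have hir : ¬ r ∣ i := Nat.not_dvd_of_pos_of_lt (Nat.pos_of_ne_zero hi0) (Finset.mem_range.mp hi)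
      have hgen : ρ ∈ zpowers (ρ ^ i) := mem_zpowers_pow_iff.mpr (hρ ▸ ((hr.coprime_iff_not_dvd.mpr hir).symm))
      set σ := ρ ^ i with hσ
      have hσA : σ ∈ normalizer (A : Set Γ) := pow_mem hρA i
      have hfpf' : ∀ a ∈ A, a * σ = σ * a → a = 1 := by
        intro a ha h
        refine hfpf a ha ?_
        have : ρ ∈ centralizer ({a} : Set Γ) := zpowers_le.mpr (mem_centralizer_singleton_iff.mpr h.symm) hgen
        exact (mem_centralizer_singleton_iff.mp this).symm
      let f : A → A := fun a => ⟨a * (σ * (a : Γ)⁻¹ * σ⁻¹), mul_mem a.2 ((mem_normalizer_iff.mp hσA _).mp (inv_mem a.2))⟩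
      have hf : Function.Injective f := by
        intro a b hab
        have h : (a : Γ) * (σ * (a : Γ)⁻¹ * σ⁻¹) = b * (σ * (b : Γ)⁻¹ * σ⁻¹) := congrArg Subtype.val hab
        have hba : ((b : Γ)⁻¹ * a) * σ = σ * ((b : Γ)⁻¹ * a) := by
          calc ((b : Γ)⁻¹ * a) * σ = (b : Γ)⁻¹ * ((a : Γ) * (σ * (a : Γ)⁻¹ * σ⁻¹)) * (σ * a) := by group
            _ = (b : Γ)⁻¹ * ((b : Γ) * (σ * (b : Γ)⁻¹ * σ⁻¹)) * (σ * a) := by rw [h]
            _ = _ := by group
        exact Subtype.ext (inv_mul_eq_one.mp (hfpf' _ (mul_mem (inv_mem b.2) a.2) hba)).symm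
      rw [Fintype.prod_equiv (Equiv.ofBijective f (Finite.injective_iff_bijective.mp hf)) _ (fun b : A => c (b : Γ) (c σ v))
        fun a => ?_]
      · rw [← nm_apply]; exact hS _ (hSi i v hv)
      · rw [c_mul]; congr 2
        show (a : Γ) * (σ * (a : Γ)⁻¹) = (a : Γ) * (σ * (a : Γ)⁻¹ * σ⁻¹) * σ
        group
    · intro h; exact absurd (Finset.mem_range.mpr hr.pos) h
  rw [← key]
  exact prod_mem fun a _ => hw a

/-- An endomorphism commuting with the operators of `A`. -/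
def Good (A : Subgroup Γ) (g : V →* V) : Prop := ∀ a ∈ A, ∀ v, g (c a v) = c a (g v)

/-- Endomorphisms commuting with `A` commute on a cyclic module. -/
theorem good_comm (A : Subgroup Γ) (hA : ∀ a ∈ A, Good c A (c a).toMonoidHom) {u w : V}
    (hw : w ∈ closure {z | ∃ a ∈ A, z = c a u}) :
    ∃ h : V →* V, h u = w ∧ Good c A h ∧ ∀ g, Good c A g → ∀ v, g (h v) = h (g v) := by
  induction hw using Subgroup.closure_induction with
  | mem z hz =>
    obtain ⟨a, ha, rfl⟩ := hz
    exact ⟨(c a).toMonoidHom, rfl, hA a ha, fun g hg v => hg a ha v⟩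
  | one => exact ⟨1, rfl, fun a _ v => by simp, fun g _ v => by simp⟩
  | mul x y _ _ ihx ihy =>
    obtain ⟨h, h1, h2, h3⟩ := ihx
    obtain ⟨k, k1, k2, k3⟩ := ihy
    refine ⟨h * k, by rw [MonoidHom.mul_apply, h1, k1], fun a ha v => ?_, fun g hg v => ?_⟩
    · simp only [MonoidHom.mul_apply, h2 a ha v, k2 a ha v, map_mul]
    · simp only [MonoidHom.mul_apply, map_mul, h3 g hg v, k3 g hg v]
  | inv x _ ih =>
    obtain ⟨h, h1, h2, h3⟩ := ih
    refine ⟨h⁻¹, by rw [MonoidHom.inv_apply, h1], fun a ha v => ?_, fun g hg v => ?_⟩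
    · simp only [MonoidHom.inv_apply, h2 a ha v, map_inv]
    · simp only [MonoidHom.inv_apply, map_inv, h3 g hg v]

/-- The derived group of the kernel acts trivially. -/
theorem commutator_trivial (K : Subgroup Γ) [Group.IsNilpotent K] {ρ : Γ} {r : ℕ} (hr : r.Prime)
    (hρ : orderOf ρ = r) (hρK : ρ ∈ normalizer (K : Set Γ)) (hfpf : ∀ a ∈ K, a * ρ = ρ * a → a = 1) {ℓ : ℕ}
    (hℓp : ℓ.Prime) (hℓ : ∀ v : V, v ^ ℓ = 1) (hℓK : ¬ ℓ ∣ Nat.card K) {u : V} (hu : c ρ u = u)
    (hfix : ∀ v, c ρ v = v → v ∈ zpowers u) :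
    ∀ k ∈ K, ∀ l ∈ K, ∀ v : V, c k (c l v) = c l (c k v) := by
  classical
  by_contra hcon
  push Not at hcon
  obtain ⟨k0, hk0, l0, hl0, v0, hne⟩ := hcon
  set C : Subgroup Γ := c.ker with hC
  set L : ℕ → Subgroup Γ := fun n => ((⊤ : Subgroup K).lowerCentralSeries n).map K.subtype with hL
  have hLK : ∀ n, L n ≤ K := fun n => map_subtype_le _
  have h0 : ¬ L 0 ≤ C := by
    intro h
    have : ∀ k ∈ K, ∀ v, c k v = v := fun k hk v => by
      rw [MonoidHom.mem_ker.mp (h (by simp only [hL, Subgroup.lowerCentralSeries_zero]; exact ⟨⟨k, hk⟩, mem_top _, rfl⟩))]; rfl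
    exact hne (by simp [this k0 hk0, this l0 hl0])
  obtain ⟨N, hN⟩ : ∃ N, (⊤ : Subgroup K).lowerCentralSeries N = ⊥ := Subgroup.nilpotent_iff_lowerCentralSeries.mp inferInstance
  have hex : ∃ n, L n ≤ C := ⟨N, by simp only [hL, hN, Subgroup.map_bot]; exact bot_le⟩
  set m := Nat.find hex with hm
  have hm0 : m ≠ 0 := fun e => h0 (e ▸ Nat.find_spec hex)
  obtain ⟨n, hn⟩ : ∃ n, m = n + 1 := ⟨m - 1, by omega⟩
  set A := L n with hA
  have hAC : ¬ A ≤ C := Nat.find_min hex (show n < Nat.find hex by omega)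
  have hAK : A ≤ K := hLK n
  have hcomm : ∀ a ∈ A, ∀ k ∈ K, ∀ v, c a (c k v) = c k (c a v) := by
    rintro _ ⟨a, ha, rfl⟩ k hk v
    have h1 : ⁅a, (⟨k, hk⟩ : K)⁆ ∈ (⊤ : Subgroup K).lowerCentralSeries (n + 1) := by
      rw [Subgroup.lowerCentralSeries_succ]; exact commutator_mem_commutator ha (mem_top _)
    have h2 : ⁅(a : Γ), k⁆ ∈ C := by
      have := Nat.find_spec hex
      rw [← hm, hn] at this
      exact this ⟨_, h1, rfl⟩
    show c (a : Γ) (c k v) = c k (c (a : Γ) v)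
    have e : (a : Γ) * k = ⁅(a : Γ), k⁆ * (k * a) := by rw [commutatorElement_def]; group
    rw [c_mul, c_mul, e, ← c_mul, MonoidHom.mem_ker.mp h2]
    rfl
  have hAn : ∀ g ∈ normalizer (K : Set Γ), g ∈ normalizer (A : Set Γ) := by
    intro g hg
    haveI : ((⊤ : Subgroup K).lowerCentralSeries n).Characteristic := inferInstance
    exact Cfsg.Lib.Core.normalizer_le_normalizer_map_char ((⊤ : Subgroup K).lowerCentralSeries n) hg
  have hAρ := hAn ρ hρK
  have hKA : ∀ k ∈ K, k ∈ normalizer (A : Set Γ) := fun k hk => hAn k (le_normalizer hk)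
  have hcoK : ℓ.Coprime (Nat.card K) := (hℓp.coprime_iff_not_dvd).mpr hℓK
  have hcoA : ℓ.Coprime (Nat.card A) := Nat.Coprime.coprime_dvd_right (card_dvd_of_le hAK) hcoK
  have fA : ∀ a ∈ A, a * ρ = ρ * a → a = 1 := fun a ha => hfpf a (hAK ha)
  set N := nm c A
  let V1 := N.ker
  have h1A : ∀ a ∈ A, ∀ v ∈ V1, c a v ∈ V1 := fun a ha v hv => by
    show N (c a v) = 1; rw [nm_smul_right c A ha]; exact hv
  have h1ρ : ∀ v ∈ V1, c ρ v ∈ V1 := fun v hv => by
    show N (c ρ v) = 1; rw [← nm_conj c A hAρ, show N v = 1 from hv, map_one]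
  have split : ∀ v, v ^ Nat.card A * (N v)⁻¹ ∈ V1 := by
    intro v
    show N _ = 1
    rw [map_mul, map_pow, map_inv, nm_of_fixed c A (N v) fun a ha => nm_smul_left c A ha v, mul_inv_cancel]
  by_cases hNu : N u = 1
  swap
  · -- then `A` acts trivially
    have h1 : ∀ w ∈ V1, c ρ w = w → w = 1 := by
      intro w hw hwρ
      obtain ⟨j, rfl⟩ := hfix w hwρ
      have h : N u ^ j = 1 := by rw [← map_zpow]; exact hw
      have ho : orderOf (N u) = ℓ := by
        haveI := Fact.mk hℓp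
        exact orderOf_eq_prime (hℓ _) hNu
      obtain ⟨i, hi⟩ := ho ▸ orderOf_dvd_iff_zpow_eq_one.mpr h
      show u ^ j = 1
      rw [hi, zpow_mul, zpow_natCast, hℓ, one_zpow]
    have hV1 : ∀ v ∈ V1, v = 1 := by
      intro v hv
      have := span_fixed c A hr hρ hAρ fA hℓ hcoA V1 h1A h1ρ (fun v hv => hv) v hv
      refine mem_bot.mp ((closure_le (⊥ : Subgroup V)).mpr ?_ this)
      rintro _ ⟨a, -, w, hw, hwρ, rfl⟩
      simp [h1 w hw hwρ]
    refine hAC fun a ha => MonoidHom.mem_ker.mpr (MulEquiv.ext fun v => ?_)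
    show c a v = v
    have hv : v ^ Nat.card A = N v := mul_inv_eq_one.mp (hV1 _ (split v))
    have hS : v ∈ (c a).toMonoidHom.eqLocus (MonoidHom.id V) :=
      mem_of_pow_mem (hℓ v) hcoA (show c a (v ^ Nat.card A) = v ^ Nat.card A by rw [hv, nm_smul_left c A ha])
    exact hS
  · -- the part fixed by `A`
    let V0 : Subgroup V :=
      { carrier := {v | ∀ a ∈ A, c a v = v}
        one_mem' := fun a _ => map_one (c a)
        mul_mem' := fun {x y} hx hy a ha => by rw [map_mul, hx a ha, hy a ha]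
        inv_mem' := fun {x} hx a ha => by rw [map_inv, hx a ha] }
    have hfix0 : ∀ w ∈ V0, c ρ w = w → w = 1 := by
      intro w hw hwρ
      obtain ⟨j, rfl⟩ := hfix w hwρ
      have h : (u ^ j) ^ Nat.card A = 1 := by
        rw [← nm_of_fixed c A _ hw, map_zpow]
        show (N u) ^ j = 1
        rw [hNu, one_zpow]
      refine mem_bot.mp (mem_of_pow_mem (S := (⊥ : Subgroup V)) (hℓ _) hcoA (mem_bot.mpr h))
    have hnorm0 : ∀ g ∈ normalizer (A : Set Γ), ∀ v ∈ V0, c g v ∈ V0 := by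
      intro g hg v hv a ha
      have hm : g⁻¹ * a * g ∈ A := (mem_normalizer_iff.mp hg _).mpr (by simpa [mul_assoc] using ha)
      calc c a (c g v) = c (g * (g⁻¹ * a * g)) v := by rw [c_mul]; congr 2; group
        _ = c g v := by rw [← c_mul, hv _ hm]
    have hK0 : ∀ v ∈ V0, ∀ k ∈ K, c k v = v := by
      intro v hv k hk
      set S := V0 ⊓ (nm c K).ker with hS
      have hSbot : ∀ w ∈ S, w = 1 := by
        intro w hw
        have := span_fixed c K hr hρ hρK hfpf hℓ hcoK S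
          (fun a ha w hw => ⟨hnorm0 a (hKA a ha) w hw.1, by
            show nm c K (c a w) = 1; rw [nm_smul_right c K ha]; exact hw.2⟩)
          (fun w hw => ⟨hnorm0 ρ hAρ w hw.1, by
            show nm c K (c ρ w) = 1; rw [← nm_conj c K hρK, show nm c K w = 1 from hw.2, map_one]⟩)
          (fun w hw => hw.2) w hw
        refine mem_bot.mp ((closure_le (⊥ : Subgroup V)).mpr ?_ this)
        rintro _ ⟨a, -, z, hz, hzρ, rfl⟩
        simp [hfix0 z hz.1 hzρ]
      have hNK : nm c K v ∈ V0 := fun a ha => nm_smul_left c K (hAK ha) v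
      have hm : v ^ Nat.card K * (nm c K v)⁻¹ ∈ S := ⟨V0.mul_mem (V0.pow_mem hv _) (V0.inv_mem hNK), by
        show nm c K _ = 1
        rw [map_mul, map_pow, map_inv, nm_of_fixed c K (nm c K v) fun a ha => nm_smul_left c K ha v, mul_inv_cancel]⟩
      have h := mul_inv_eq_one.mp (hSbot _ hm)
      have hSk : v ∈ (c k).toMonoidHom.eqLocus (MonoidHom.id V) :=
        mem_of_pow_mem (hℓ v) hcoK (show c k (v ^ Nat.card K) = v ^ Nat.card K by rw [h, nm_smul_left c K hk])
      exact hSk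
    have gK : ∀ k ∈ K, Good c A (c k).toMonoidHom := fun k hk a ha v => (hcomm a ha k hk v).symm
    have gA : ∀ a ∈ A, Good c A (c a).toMonoidHom := fun a ha => gK a (hAK ha)
    set U := closure {z | ∃ a ∈ A, z = c a u}
    have hU : V1 ≤ U := by
      intro v hv
      refine (closure_le U).mpr ?_ (span_fixed c A hr hρ hAρ fA hℓ hcoA V1 h1A h1ρ (fun v hv => hv) v hv)
      rintro _ ⟨a, ha, w, -, hwρ, rfl⟩
      obtain ⟨j, rfl⟩ := hfix w hwρ
      show c a (u ^ j) ∈ U
      rw [map_zpow]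
      exact U.zpow_mem (Subgroup.subset_closure ⟨a, ha, rfl⟩) j
    have hUcomm : ∀ v ∈ V1, c k0 (c l0 v) = c l0 (c k0 v) := by
      have h1K : ∀ k ∈ K, c k u ∈ U := fun k hk => hU (by
        show N (c k u) = 1
        rw [← nm_conj c A (hKA k hk), show N u = 1 from hNu, map_one])
      obtain ⟨h, hh, hhg, hhc⟩ := good_comm c A gA (h1K k0 hk0)
      obtain ⟨h', hh', hhg', hhc'⟩ := good_comm c A gA (h1K l0 hl0)
      have hu0 : c k0 (c l0 u) = c l0 (c k0 u) := by
        have e1 : c k0 (h' u) = h' (c k0 u) := hhc' _ (gK k0 hk0) u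
        have e2 : c l0 (h u) = h (c l0 u) := hhc _ (gK l0 hl0) u
        calc c k0 (c l0 u) = h' (c k0 u) := by rw [← hh', e1]
          _ = h' (h u) := by rw [hh]
          _ = h (h' u) := hhc h' hhg' u
          _ = h (c l0 u) := by rw [hh']
          _ = c l0 (h u) := e2.symm
          _ = _ := by rw [hh]
      intro v hv
      obtain ⟨g, hg, -, hgc⟩ := good_comm c A gA (hU hv)
      rw [← hg]
      have e1 : ∀ (k : Γ), k ∈ K → ∀ x, c k (g x) = g (c k x) := fun k hk x => hgc _ (gK k hk) x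
      rw [e1 l0 hl0, e1 k0 hk0, e1 k0 hk0, e1 l0 hl0, hu0]
    refine hne ?_
    let E : Subgroup V :=
      { carrier := {v | c k0 (c l0 v) = c l0 (c k0 v)}
        one_mem' := by simp
        mul_mem' := fun {x y} hx hy => by
          show c k0 (c l0 (x * y)) = c l0 (c k0 (x * y))
          rw [map_mul, map_mul, map_mul, map_mul]; exact congrArg₂ (· * ·) hx hy
        inv_mem' := fun {x} hx => by
          show c k0 (c l0 x⁻¹) = c l0 (c k0 x⁻¹)
          rw [map_inv, map_inv, map_inv, map_inv]; exact congrArg (·⁻¹) hx }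
    refine (mem_of_pow_mem (S := E) (hℓ v0) hcoA ?_ : v0 ∈ E)
    have e : v0 ^ Nat.card A = (v0 ^ Nat.card A * (N v0)⁻¹) * N v0 := by rw [inv_mul_cancel_right]
    rw [e]
    have hN0 : N v0 ∈ V0 := fun a ha => nm_smul_left c A ha v0
    exact mul_mem (hUcomm _ (split v0)) (show c k0 (c l0 (N v0)) = c l0 (c k0 (N v0)) by
      rw [hK0 _ hN0 l0 hl0, hK0 _ hN0 k0 hk0, hK0 _ hN0 l0 hl0])

/-- Let G and V be subgroups of a finite group with G a Frobenius group with complement R of prime order and kernel K, G normalizing V, and V an elementary abelian ℓ-group for a prime ℓ not dividing the order of G. If C_V(R) has order ℓ, then the derived subgroup of K centralizes V. -/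
theorem result {X : Type*} [Group X] [Finite X] (G : Subgroup X) (V : Subgroup X) {ℓ : ℕ} (hℓ : ℓ.Prime) (hV : Cfsg.IsElementaryAbelian ℓ V) (hℓG : ¬ ℓ ∣ Nat.card G) (hGV : G ≤ Subgroup.normalizer (V : Set X)) (R : Subgroup ↥G) (hR : Cfsg.IsFrobeniusComplement R) (hRp : (Nat.card R).Prime) (hCV : Nat.card ↥(V ⊓ Subgroup.centralizer ((R.map G.subtype : Subgroup X) : Set X)) = ℓ) : ⁅Subgroup.closure (Subtype.val '' Cfsg.frobeniusKernel R), Subgroup.closure (Subtype.val '' Cfsg.frobeniusKernel R)⁆ ≤ Subgroup.centralizer (V : Set X) := by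
  classical
  haveI hrf : Fact (Nat.card R).Prime := ⟨hRp⟩
  obtain ⟨K, hK, hKn, hKc⟩ := Cfsg.Lib.Solv.frobenius_theorem hR
  have himg : Subgroup.closure (Subtype.val '' Cfsg.frobeniusKernel R) = K.map G.subtype := by
    rw [← hK]
    have : Subtype.val '' (K : Set G) = ((K.map G.subtype : Subgroup X) : Set X) := by rw [Subgroup.coe_map]; rfl
    rw [this, Subgroup.closure_eq]
  rw [himg, Subgroup.commutator_le]
  obtain ⟨⟨ρ, hρR⟩, hρo⟩ := exists_prime_orderOf_dvd_card' (G := R) (Nat.card R) dvd_rfl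
  rw [Subgroup.orderOf_mk] at hρo
  have hρ1 : ρ ≠ 1 := fun e => by rw [e, orderOf_one] at hρo; exact hRp.ne_one hρo.symm
  have hρK : ρ ∈ Subgroup.normalizer (K : Set G) := by rw [Subgroup.normalizer_eq_top]; exact Subgroup.mem_top _
  have hfpf : ∀ a ∈ K, a * ρ = ρ * a → a = 1 := fun a ha h =>
    Cfsg.Lib.Solv.fpf_of_frobenius hR hKc.disjoint hρR hρ1 ha h
  let φ : K ≃* K := (MulAut.conjNormal ρ : MulAut K)
  have hφ : MonoidHom.FixedPointFree φ := fun a ha => by
    refine Subtype.ext (hfpf a a.2 ?_)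
    have h : ρ * (a : G) * ρ⁻¹ = a := by
      have := congrArg Subtype.val ha
      rwa [MulAut.conjNormal_apply] at this
    exact (mul_inv_eq_iff_eq_mul.mp h).symm
  have hφp : (⇑φ)^[Nat.card R] = id := by
    have key : ∀ (n : ℕ) (a : K), (((⇑φ)^[n] a : K) : G) = ρ ^ n * a * (ρ ^ n)⁻¹ := by
      intro n
      induction n with
      | zero => intro a; simp
      | succ n ih =>
        intro a
        rw [Function.iterate_succ_apply', MulAut.conjNormal_apply, ih, pow_succ']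
        group
    funext a
    apply Subtype.ext
    rw [key, ← hρo, pow_orderOf_eq_one]
    simp
  haveI : Group.IsNilpotent K := Cfsg.Lib.Thompson.isNilpotent_of_fpf hRp φ hφ hφp
  obtain ⟨hVc, hVe⟩ := hV
  letI : CommGroup V := { (inferInstance : Group V) with mul_comm := hVc.is_comm.comm }
  let c : G →* MulAut V := (MulAut.conjNormal (H := V.subgroupOf (Subgroup.normalizer (V : Set X))) |>.comp
      (Subgroup.inclusion hGV)) |> fun f =>
    { toFun := fun g => ((Subgroup.subgroupOfEquivOfLe (Subgroup.le_normalizer (H := V))).symm.trans (f g)).trans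
        (Subgroup.subgroupOfEquivOfLe (Subgroup.le_normalizer (H := V)))
      map_one' := MulEquiv.ext fun v => Subtype.ext (by simp)
      map_mul' := fun g h => MulEquiv.ext fun v => Subtype.ext (by simp [mul_assoc]) }
  have hc : ∀ (g : G) (v : V), ((c g v : V) : X) = g * v * (g : X)⁻¹ := fun g v => rfl
  -- the fixed points of `ρ`
  have hgenR : Subgroup.zpowers ρ = R := Subgroup.eq_of_le_of_card_ge (Subgroup.zpowers_le.mpr hρR)
    (by rw [Nat.card_zpowers, hρo])
  have hfix : ∀ v : V, c ρ v = v ↔ (v : X) ∈ V ⊓ Subgroup.centralizer ((R.map G.subtype : Subgroup X) : Set X) := by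
    intro v
    rw [Subgroup.mem_inf, and_iff_right v.2]
    constructor
    · intro h
      have hs : R.map G.subtype ≤ Subgroup.centralizer ({(v : X)} : Set X) := by
        rw [← hgenR, MonoidHom.map_zpowers, Subgroup.zpowers_le, Subgroup.mem_centralizer_singleton_iff]
        exact mul_inv_eq_iff_eq_mul.mp ((hc ρ v).symm.trans (congrArg Subtype.val h))
      exact Subgroup.mem_centralizer_iff.mpr fun y hy => Subgroup.mem_centralizer_singleton_iff.mp (hs hy)
    · intro h
      have := Subgroup.mem_centralizer_iff.mp h (ρ : X) ⟨ρ, hρR, rfl⟩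
      exact Subtype.ext ((hc ρ v).trans (mul_inv_eq_iff_eq_mul.mpr this))
  set W := V ⊓ Subgroup.centralizer ((R.map G.subtype : Subgroup X) : Set X) with hW
  haveI : Fact ℓ.Prime := ⟨hℓ⟩
  obtain ⟨⟨u, hu⟩, huo⟩ := exists_prime_orderOf_dvd_card' (G := W) ℓ (by rw [hCV])
  rw [Subgroup.orderOf_mk] at huo
  have hWu : W = Subgroup.zpowers u := (Subgroup.eq_of_le_of_card_ge (Subgroup.zpowers_le.mpr hu)
    (by rw [Nat.card_zpowers, huo, hCV])).symm
  have main := commutator_trivial c K hRp hρo hρK hfpf hℓ (fun v => Subtype.ext (hVe v v.2))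
    (fun h => hℓG (h.trans (Subgroup.card_subgroup_dvd_card K))) (u := (⟨u, hu.1⟩ : V)) ((hfix _).mpr hu)
    (fun v hv => by
      obtain ⟨j, hj⟩ := (hWu ▸ (hfix v).mp hv : (v : X) ∈ Subgroup.zpowers u)
      exact ⟨j, Subtype.ext hj⟩)
  rintro _ ⟨k, hk, rfl⟩ _ ⟨l, hl, rfl⟩
  rw [Subgroup.mem_centralizer_iff]
  intro v hv
  have h1 := main k hk l hl (c k⁻¹ (c l⁻¹ (⟨v, hv⟩ : V)))
  have h2 : c k (c k⁻¹ (c l⁻¹ (⟨v, hv⟩ : V))) = c l⁻¹ (⟨v, hv⟩ : V) := by rw [c_mul, mul_inv_cancel, map_one]; rfl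
  rw [h2, c_mul c l l⁻¹, mul_inv_cancel, map_one] at h1
  have h3 := congrArg Subtype.val h1
  rw [hc, hc, hc, hc] at h3
  show v * ⁅(k : X), (l : X)⁆ = ⁅(k : X), (l : X)⁆ * v
  simp only [Subgroup.coe_inv, inv_inv, MulAut.one_apply] at h3
  rw [commutatorElement_def]
  calc v * ((k : X) * l * (k : X)⁻¹ * (l : X)⁻¹) = v * ((k : X) * l * (k : X)⁻¹ * (l : X)⁻¹) := rfl
    _ = ((k : X) * l * (k : X)⁻¹ * (l : X)⁻¹) * v := by
      conv_lhs => rw [← h3]
      group

end Cfsg.Agent.S3770
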