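import Cfsg.Statements.S3772
import Cfsg.Agent.Lib.PGroup.Basic
import Cfsg.Agent.Lib.PGroup.ClassTwo
-- import your own Cfsg.Agent.* helpers here

set_option autoImplicit false
set_option maxHeartbeats 1000000
open Cfsg

namespace Cfsg.Agent.S3772

open Subgroup Cfsg.Lib.PGroup
open scoped commutatorElement

universe u

/-- A sum that changes sign under a bijection is zero. -/
theorem sum_eq_zero_of_neg {α : Type*} [Fintype α] (f : α → ℤ) (e : α ≃ α) (h : ∀ x, f (e x) = -f x) :
    ∑ x, f x = 0 := by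
  have h1 : ∑ x, f x = -∑ x, f x := by
    conv_lhs => rw [← e.sum_comp f]
    rw [← Finset.sum_neg_distrib]
    exact Finset.sum_congr rfl fun x _ => h x
  linarith

theorem main {G : Type u} [Group G] [Finite G] (hG : IsPGroup 2 G) (hΦ : Nat.card (frattini G) = 2) (d : ℕ)
    (hd : (frattini G).index = 2 ^ d) :
    Nat.card {x : G // x ^ 2 = 1} = 2 ^ d ∨ ∃ e k : ℕ, Nat.card (center G) = 2 ^ k ∧ 1 ≤ k ∧ k + 1 ≤ d ∧
      2 * (e + 1) = d + 1 + k ∧ (Nat.card {x : G // x ^ 2 = 1} = 2 ^ d + 2 ^ e ∨
        Nat.card {x : G // x ^ 2 = 1} + 2 ^ e = 2 ^ d) := by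
  classical
  have := Fintype.ofFinite G
  have := Fact.mk Nat.prime_two
  have hΦn : (frattini G).Normal := inferInstance
  have hΦc : frattini G ≤ center G := le_center_of_card_eq_prime hG hΦ
  have hcl : commutator G ≤ center G := (commutator_le_frattini hG).trans hΦc
  have hcom : ∀ x y : G, ⁅y, x⁆ ∈ frattini G := fun x y => commutator_le_frattini hG (by
    rw [_root_.commutator_def]; exact commutator_mem_commutator (mem_top y) (mem_top x))
  obtain ⟨c, hcΦ, hc1⟩ := (frattini G).bot_or_exists_ne_one.resolve_left fun h => by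
    rw [h, card_bot] at hΦ; omega
  have htwo : ∀ g ∈ frattini G, g = 1 ∨ g = c := by
    intro g hg
    by_contra hne
    push Not at hne
    have := Fintype.ofFinite (frattini G)
    have h3 : ({⟨1, one_mem _⟩, ⟨c, hcΦ⟩, ⟨g, hg⟩} : Finset (frattini G)).card ≤ 2 := by
      rw [← hΦ, Nat.card_eq_fintype_card]; exact Finset.card_le_univ _
    rw [Finset.card_eq_three.mpr ⟨_, _, _, fun e => hc1 (congrArg Subtype.val e).symm,
      fun e => hne.1 (congrArg Subtype.val e).symm, fun e => hne.2 (congrArg Subtype.val e).symm, rfl⟩] at h3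
    omega
  have hcc : c * c = 1 := by
    rcases htwo _ (mul_mem hcΦ hcΦ) with h | h
    · exact h
    · exact absurd (mul_eq_left.mp h) hc1
  let χ : G → ℤ := fun g => if g = 1 then 1 else -1
  have hχ : ∀ a ∈ frattini G, ∀ b ∈ frattini G, χ (a * b) = χ a * χ b := by
    intro a ha b hb
    rcases htwo a ha with rfl | rfl <;> rcases htwo b hb with rfl | rfl <;> simp [χ, hc1, hcc]
  have hsq : ∀ x y : G, (x * y) ^ 2 = x ^ 2 * y ^ 2 * ⁅y, x⁆ := fun x y => by
    rw [mul_pow_of_class_two hcl, Nat.choose_self, pow_one]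
  let ε : G → ℤ := fun x => χ (x ^ 2)
  have hεsq : ∀ x, ε x * ε x = 1 := fun x => by show χ _ * χ _ = 1; simp [χ]; split_ifs <;> norm_num
  have hεmul : ∀ x y, ε (x * y) = ε x * ε y * χ ⁅y, x⁆ := fun x y => by
    show χ _ = χ _ * χ _ * χ _
    rw [hsq, hχ _ (mul_mem (pow_mem_frattini hG x) (pow_mem_frattini hG y)) _ (hcom x y),
      hχ _ (pow_mem_frattini hG x) _ (pow_mem_frattini hG y)]
  have hinner : ∀ y : G, ∑ x : G, χ ⁅y, x⁆ = if y ∈ center G then (Fintype.card G : ℤ) else 0 := by
    intro y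
    split_ifs with hy
    · rw [Finset.sum_congr rfl (g := fun _ => (1 : ℤ)) fun x _ => by
        rw [commutatorElement_eq_one_iff_mul_comm.mpr (mem_center_iff.mp hy x).symm]; simp [χ]]
      simp
    · rw [mem_center_iff] at hy
      push Not at hy
      obtain ⟨x₀, hx₀⟩ := hy
      refine sum_eq_zero_of_neg _ (Equiv.mulLeft x₀) fun x => ?_
      show χ ⁅y, x₀ * x⁆ = -χ ⁅y, x⁆
      rw [commutatorElement_mul_right hcl, hχ _ (hcom x₀ y) _ (hcom x y)]
      have : χ ⁅y, x₀⁆ = -1 := if_neg fun h => hx₀ (commutatorElement_eq_one_iff_mul_comm.mp h).symm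
      rw [this, neg_one_mul]
  have hS : (∑ x, ε x) * (∑ x, ε x) = (Fintype.card G : ℤ) * ∑ z : center G, ε z := by
    calc (∑ x, ε x) * (∑ x, ε x) = ∑ x, ε x * ∑ y, ε y := Finset.sum_mul _ _ _
      _ = ∑ x, ∑ y, ε x * ε (x * y) := Finset.sum_congr rfl fun x _ => by
          rw [← Equiv.sum_comp (Equiv.mulLeft x) ε, Finset.mul_sum]; rfl
      _ = ∑ y, ∑ x, ε x * ε (x * y) := Finset.sum_comm
      _ = ∑ y, ε y * ∑ x, χ ⁅y, x⁆ := Finset.sum_congr rfl fun y _ => by
          rw [Finset.mul_sum]
          refine Finset.sum_congr rfl fun x _ => ?_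
          rw [hεmul, show ε x * (ε x * ε y * χ ⁅y, x⁆) = ε x * ε x * (ε y * χ ⁅y, x⁆) by ring, hεsq, one_mul]
      _ = ∑ y, if y ∈ center G then (Fintype.card G : ℤ) * ε y else 0 := Finset.sum_congr rfl fun y _ => by
          rw [hinner]; split_ifs <;> ring
      _ = _ := by
          rw [← Finset.sum_filter, Finset.mul_sum, Finset.sum_subtype (p := fun y => y ∈ center G)]
          intro x; simp
  have hSval : ∑ x, ε x = 2 * (Nat.card {x : G // x ^ 2 = 1} : ℤ) - Fintype.card G := by
    rw [Nat.card_eq_fintype_card, Fintype.card_subtype]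
    have h1 : ∀ x, ε x = 2 * (if x ^ 2 = 1 then 1 else 0) - 1 := fun x => by
      show χ _ = _; simp only [χ]; split_ifs <;> norm_num
    rw [Finset.sum_congr rfl fun x _ => h1 x, Finset.sum_sub_distrib, ← Finset.mul_sum, Finset.sum_boole]
    simp
  have hGc : Fintype.card G = 2 ^ (d + 1) := by
    rw [← Nat.card_eq_fintype_card, ← (frattini G).card_mul_index, hΦ, hd, pow_succ']
  set j := Nat.card {x : G // x ^ 2 = 1}
  by_cases hall : ∀ z : center G, ε z = 1
  swap
  · left
    push Not at hall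
    obtain ⟨z₀, hz₀⟩ := hall
    have hneg : ε z₀ = -1 := by
      have hz₀' : ¬ ε z₀ = 1 := hz₀
      change (if _ then _ else _) = (-1 : ℤ)
      change ¬ (if _ then _ else _) = (1 : ℤ) at hz₀'
      split_ifs at hz₀' ⊢
      · exact absurd rfl hz₀'
      · rfl
    have h0 : ∑ z : center G, ε z = 0 := by
      refine sum_eq_zero_of_neg (fun z : center G => ε z) (Equiv.mulLeft z₀) fun z => ?_
      show ε ((z₀ : G) * z) = -ε z
      rw [hεmul, hneg, commutatorElement_eq_one_iff_mul_comm.mpr (mem_center_iff.mp z₀.2 (z : G)), show χ 1 = 1 from if_pos rfl]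
      ring
    rw [h0, mul_zero, mul_self_eq_zero, hSval, hGc] at hS
    push_cast at hS
    rw [pow_succ] at hS
    exact_mod_cast (by linarith : (j : ℤ) = 2 ^ d)
  · right
    obtain ⟨k, hk⟩ := IsPGroup.iff_card.mp (hG.to_subgroup (center G))
    have hna : center G ≠ ⊤ := by
      intro htop
      have hbot : frattini G = ⊥ := by
        rw [eq_bot_iff]
        refine frattini_le_of_commutator_le_of_pow_mem (p := 2) ?_ fun g => ?_
        · rw [_root_.commutator_def, commutator_le]
          exact fun x _ y _ => mem_bot.mpr (commutatorElement_eq_one_iff_mul_comm.mpr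
            (mem_center_iff.mp (htop ▸ mem_top y) x))
        · by_contra h
          have h' := hall ⟨g, htop ▸ mem_top g⟩
          change (if g ^ 2 = 1 then _ else _) = (1 : ℤ) at h'
          rw [if_neg (fun e => h (mem_bot.mpr e))] at h'
          norm_num at h'
      rw [hbot, card_bot] at hΦ
      omega
    have hk1 : 1 ≤ k := by
      have := card_dvd_of_le hΦc
      rw [hΦ, hk] at this
      by_contra h
      rw [show k = 0 by omega] at this
      norm_num at this
    have hkd : k + 1 ≤ d := by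
      by_contra hlt
      refine hna ?_
      have hm := (center G).card_mul_index
      rw [hk, Nat.card_eq_fintype_card, hGc] at hm
      have hcy : IsCyclic (G ⧸ center G) := by
        have hle : k ≤ d + 1 := (Nat.pow_dvd_pow_iff_le_right (by norm_num)).mp ⟨_, hm.symm⟩
        have hidx : (center G).index ∣ 2 := by
          have : (center G).index = 2 ^ (d + 1 - k) := by
            refine Nat.eq_of_mul_eq_mul_left (pow_pos two_pos k) ?_
            rw [hm, ← pow_add, Nat.add_sub_cancel' hle]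
          rw [this]
          exact (pow_dvd_pow 2 (show d + 1 - k ≤ 1 by omega)).trans (by norm_num)
        rw [index_eq_card] at hidx
        rcases (Nat.dvd_prime Nat.prime_two).mp hidx with h | h
        · have := (Nat.card_eq_one_iff_unique.mp h).1
          infer_instance
        · exact isCyclic_of_prime_card h
      refine eq_top_iff.mpr fun x _ => mem_center_iff.mpr fun y => ?_
      exact commutative_of_cyclic_center_quotient (QuotientGroup.mk' (center G)) (by rw [QuotientGroup.ker_mk']) y x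
    have hsum : ∑ z : center G, ε z = (2 : ℤ) ^ k := by
      rw [Finset.sum_congr rfl fun z _ => hall z]
      simp [← Nat.card_eq_fintype_card, hk]
    rw [hsum, hSval, hGc] at hS
    push_cast at hS
    set t := (d + 1 + k) / 2 with ht
    have habs : (2 * (j : ℤ) - 2 ^ (d + 1)).natAbs ^ 2 = 2 ^ (d + 1 + k) := by
      zify
      rw [sq_abs, sq, hS, ← pow_add]
    obtain ⟨i, -, hi⟩ := (Nat.dvd_prime_pow Nat.prime_two).mp
      ((dvd_pow_self _ two_ne_zero).trans habs.dvd)
    rw [hi, ← pow_mul] at habs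
    have hi2 : i * 2 = d + 1 + k := Nat.pow_right_injective le_rfl habs
    refine ⟨i - 1, k, hk, hk1, hkd, by omega, ?_⟩
    have hpow : (2 : ℤ) ^ i = 2 * 2 ^ (i - 1) := by rw [← pow_succ', Nat.sub_add_cancel (by omega : 1 ≤ i)]
    have hcases := Int.natAbs_eq (2 * (j : ℤ) - 2 ^ (d + 1))
    rw [hi, pow_succ] at hcases
    push_cast at hcases
    rw [hpow] at hcases
    rcases hcases with h | h
    · left; exact_mod_cast (by linarith : (j : ℤ) = 2 ^ d + 2 ^ (i - 1))
    · right; exact_mod_cast (by linarith : (j : ℤ) + 2 ^ (i - 1) = 2 ^ d)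


/-- Let G be a finite 2-group whose Frattini subgroup Φ(G) has order 2, with |G : Φ(G)| = 2^d, and let j be the number of elements x of G with x² = 1. Then j = 2^d, or j = 2^d + 2^(d−r) or j = 2^d − 2^(d−r) for some positive integer r with 2r ≤ d. Moreover if d = 2r and j is 2^d + 2^r or 2^d − 2^r, then G is extraspecial. -/
theorem result {G : Type*} [Group G] [Finite G] (hG : IsPGroup 2 G) (hΦ : Nat.card (frattini G) = 2) (d : ℕ) (hd : (frattini G).index = 2 ^ d) : (Nat.card {x : G // x ^ 2 = 1} = 2 ^ d ∨ ∃ r : ℕ, 1 ≤ r ∧ 2 * r ≤ d ∧ (Nat.card {x : G // x ^ 2 = 1} = 2 ^ d + 2 ^ (d - r) ∨ Nat.card {x : G // x ^ 2 = 1} + 2 ^ (d - r) = 2 ^ d)) ∧ (∀ r : ℕ, d = 2 * r → (Nat.card {x : G // x ^ 2 = 1} = 2 ^ d + 2 ^ r ∨ Nat.card {x : G // x ^ 2 = 1} + 2 ^ r = 2 ^ d) → Cfsg.IsExtraspecial 2 G) := by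
  refine ⟨?_, fun r hr hj => ?_⟩
  · rcases main hG hΦ d hd with h | ⟨e, k, -, hk1, hkd, he, h⟩
    · exact Or.inl h
    · refine Or.inr ⟨d - e, by omega, by omega, ?_⟩
      rw [show d - (d - e) = e by omega]
      exact h
  · have hpos : 0 < 2 ^ r := Nat.two_pow_pos r
    rcases main hG hΦ d hd with h | ⟨e, k, hk, hk1, hkd, he, h⟩
    · rw [h] at hj; omega
    have he' : e = r := by
      apply Nat.pow_right_injective (le_refl 2)
      show 2 ^ e = 2 ^ r
      have := Nat.two_pow_pos e
      omega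
    have hk' : k = 1 := by omega
    have := Fact.mk Nat.prime_two
    have hΦc : frattini G ≤ Subgroup.center G := le_center_of_card_eq_prime hG hΦ
    have hZ : frattini G = Subgroup.center G := Subgroup.eq_of_le_of_card_ge hΦc (by rw [hk, hΦ, hk', pow_one])
    refine ⟨⟨hG, hZ, ?_⟩, by rw [hk, hk', pow_one]⟩
    refine Subgroup.eq_of_le_of_card_ge ((commutator_le_frattini hG).trans hΦc) ?_
    rw [hk, hk', pow_one]
    refine (Subgroup.one_lt_card_iff_ne_bot _).mpr fun hbot => ?_
    have htop : Subgroup.center G = ⊤ := eq_top_iff.mpr fun x _ => Subgroup.mem_center_iff.mpr fun y => by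
      refine commutatorElement_eq_one_iff_mul_comm.mp (Subgroup.mem_bot.mp (hbot ▸ ?_))
      rw [_root_.commutator_def]; exact Subgroup.commutator_mem_commutator (Subgroup.mem_top y) (Subgroup.mem_top x)
    have h1 := hd
    rw [hZ, htop, Subgroup.index_top] at h1
    have := Nat.pow_right_injective (le_refl 2) (h1.symm.trans (pow_zero 2).symm)
    omega

end Cfsg.Agent.S3772
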