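import Cfsg.Statements.S3773
import Cfsg.Agent.Lib.PGroup.RankBound
-- import your own Cfsg.Agent.* helpers here

set_option autoImplicit false
open Cfsg

namespace Cfsg.Agent.S3773

open scoped commutatorElement

theorem zmod_two_cases : ∀ r : ZMod 2, r = 0 ∨ r = 1 := by decide

/-- Let G be a finite 2-group of nilpotency class at most 2 and exponent dividing 4 in which the elements x with x² = 1 form a subgroup N. Then |G| ≤ |N|³, and |G| < |N|³ unless G is special. -/
theorem result {G : Type*} [Group G] [Finite G] (hG : IsPGroup 2 G) (hcl : (⊤ : Subgroup G).lowerCentralSeries 2 = ⊥) (hexp : ∀ x : G, x ^ 4 = 1) (hN : ∀ x y : G, x ^ 2 = 1 → y ^ 2 = 1 → (x * y) ^ 2 = 1) : Nat.card G ≤ Nat.card {x : G // x ^ 2 = 1} ^ 3 ∧ (¬ Cfsg.IsSpecial 2 G → Nat.card G < Nat.card {x : G // x ^ 2 = 1} ^ 3) := by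
  classical
  haveI : Fact (Nat.Prime 2) := ⟨Nat.prime_two⟩
  have hcz := Cfsg.Lib.PGroup.commutator_le_center_of_lowerCentralSeries_two hcl
  have hc2 : ∀ a b : G, ⁅a, b⁆ ^ 2 = 1 := by
    intro a b
    have h := Cfsg.Lib.PGroup.mul_pow_of_class_two hcz b a 4
    rw [hexp, hexp, hexp, one_mul, one_mul, show Nat.choose 4 2 = 4 + 2 from rfl, pow_add, hexp, one_mul] at h
    exact h.symm
  let N : Subgroup G :=
    { carrier := {z | z ^ 2 = 1}
      one_mem' := one_pow _
      mul_mem' := fun {a b} ha hb => hN a b ha hb
      inv_mem' := fun {a} (ha : a ^ 2 = 1) => show a⁻¹ ^ 2 = 1 by rw [inv_pow, ha, inv_one] }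
  let M : Subgroup G := N ⊓ Subgroup.center G
  have hFM : frattini G ≤ M := by
    refine Cfsg.Lib.PGroup.frattini_le_of_commutator_le_of_pow_mem (p := 2) ?_ fun g => Subgroup.mem_inf.2 ⟨?_, ?_⟩
    · rw [_root_.commutator_def]
      exact Subgroup.commutator_le.2 fun a _ b _ => Subgroup.mem_inf.2
        ⟨hc2 a b, hcz (Subgroup.commutator_mem_commutator (Subgroup.mem_top a) (Subgroup.mem_top b))⟩
    · show (g ^ 2) ^ 2 = 1
      rw [← pow_mul]; exact hexp g
    · exact Subgroup.mem_center_iff.2 fun x => (commutatorElement_eq_one_iff_mul_comm.1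
        (show ⁅g ^ 2, x⁆ = 1 by rw [Cfsg.Lib.PGroup.commutatorElement_pow_left hcz, hc2])).symm
  have hFc : frattini G ≤ Subgroup.center G := hFM.trans inf_le_right
  have hFe : ∀ z ∈ frattini G, z ^ 2 = 1 := fun z hz => ((hFM hz).1 : _)
  obtain ⟨hl, hd⟩ := Cfsg.Lib.PGroup.RankBound.card_frattini_data hG hFc hFe
  generalize hdd : Cfsg.pRank 2 (G ⧸ frattini G) = d at hd ⊢
  generalize hll : Cfsg.pRank 2 (frattini G) = l at hl hd ⊢
  obtain ⟨e, hei, hem⟩ := Cfsg.Lib.PGroup.RankBound.exists_coord (Z := frattini G)
    (fun a b => Subtype.ext (Subgroup.mem_center_iff.1 (hFc b.2) a)) (fun a => Subtype.ext (hFe a a.2)) hl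
  have he0 : e 1 = 0 := by simpa using hem 1 1
  have hNF : frattini G ≤ N := hFM.trans inf_le_left
  obtain ⟨u, hu⟩ := IsPGroup.iff_card.1 ((hG.to_subgroup N).map (QuotientGroup.mk' (frattini G)))
  have hWcard : Nat.card (G ⧸ frattini G) = 2 ^ d := by
    have h := Subgroup.card_eq_card_quotient_mul_card_subgroup (frattini G)
    rw [hd, hl, pow_add] at h
    exact (Nat.eq_of_mul_eq_mul_right (by positivity) h).symm
  have hNcard : Nat.card {x : G // x ^ 2 = 1} = 2 ^ (u + l) := by
    show Nat.card N = _
    rw [Subgroup.card_eq_card_quotient_mul_card_subgroup ((frattini G).subgroupOf N), pow_add,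
      Nat.card_congr (Subgroup.subgroupOfEquivOfLe hNF).toEquiv, hl, ← hu]
    congr 1
    exact Nat.card_congr ((QuotientGroup.quotientMulEquivOfEq (by
      rw [MonoidHom.ker_domRestrict, QuotientGroup.ker_mk'])).trans
      ((QuotientGroup.quotientKerEquivRange ((QuotientGroup.mk' (frattini G)).domRestrict N)).trans
        (MulEquiv.subgroupCongr (MonoidHom.domRestrict_range _ _)))).toEquiv
  have hq2 : ∀ x : G, x ^ 2 ∈ frattini G := Cfsg.Lib.PGroup.pow_mem_frattini (p := 2) hG
  have hcF : ∀ a b : G, ⁅a, b⁆ ∈ frattini G := fun a b => Cfsg.Lib.PGroup.commutator_le_frattini (p := 2) hG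
    (Subgroup.commutator_mem_commutator (Subgroup.mem_top a) (Subgroup.mem_top b))
  let s : G → Fin l → ZMod 2 := fun x => e ⟨x ^ 2, hq2 x⟩
  let k : G → G → Fin l → ZMod 2 := fun x y => e ⟨⁅y, x⁆, hcF y x⟩
  have hout : ∀ x : G, ∃ a ∈ frattini G, Quotient.out (x : G ⧸ frattini G) = x * a := by
    intro x
    obtain ⟨n, hn⟩ := QuotientGroup.mk_out_eq_mul (frattini G) x
    exact ⟨n, n.2, hn⟩
  have hs : ∀ x : G, s (Quotient.out (x : G ⧸ frattini G)) = s x := by
    intro x
    obtain ⟨a, ha, hx⟩ := hout x
    refine congrArg e (Subtype.ext ?_)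
    show _ ^ 2 = _
    rw [hx, (show Commute x a from Subgroup.mem_center_iff.1 (hFc ha) x).mul_pow, hFe a ha, mul_one]
  have hcen : ∀ (a : G), a ∈ frattini G → ∀ z : G, ⁅a, z⁆ = 1 ∧ ⁅z, a⁆ = 1 := fun a ha z =>
    ⟨commutatorElement_eq_one_iff_mul_comm.2 (Subgroup.mem_center_iff.1 (hFc ha) z).symm,
      commutatorElement_eq_one_iff_mul_comm.2 (Subgroup.mem_center_iff.1 (hFc ha) z)⟩
  have hk : ∀ x y : G, k (Quotient.out (x : G ⧸ frattini G)) (Quotient.out (y : G ⧸ frattini G)) = k x y := by
    intro x y
    obtain ⟨a, ha, hx⟩ := hout x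
    obtain ⟨b, hb, hy⟩ := hout y
    refine congrArg e (Subtype.ext ?_)
    show ⁅_, _⁆ = ⁅_, _⁆
    rw [hx, hy, Cfsg.Lib.PGroup.commutatorElement_mul_left hcz, Cfsg.Lib.PGroup.commutatorElement_mul_right hcz,
      (hcen b hb _).1, (hcen a ha _).2]
    simp
  have hsq2 : ∀ x y : G, s (x * y) = s x + s y + k x y := by
    intro x y
    show e _ = e _ + e _ + e _
    rw [← hem, ← hem]
    refine congrArg e (Subtype.ext ?_)
    show (x * y) ^ 2 = x ^ 2 * y ^ 2 * ⁅y, x⁆
    rw [Cfsg.Lib.PGroup.mul_pow_of_class_two hcz, show Nat.choose 2 2 = 1 from rfl, pow_one]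
  obtain ⟨hle, heq⟩ := Cfsg.Lib.PGroup.RankBound.quadratic_bound (W := G ⧸ frattini G) (u := u)
    (by
      intro w
      induction w using QuotientGroup.induction_on with
      | H x => rw [← QuotientGroup.mk_mul, QuotientGroup.eq_one_iff, ← sq]; exact hq2 _)
    hWcard (fun w => s (Quotient.out w)) (fun w v => k (Quotient.out w) (Quotient.out v))
    (by
      intro w v
      induction w using QuotientGroup.induction_on with
      | H x =>
      induction v using QuotientGroup.induction_on with
      | H y =>
        simp only [← QuotientGroup.mk_mul, hs, hk]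
        exact hsq2 _ _)
    (by
      intro w v z
      induction w using QuotientGroup.induction_on with
      | H x =>
      induction v using QuotientGroup.induction_on with
      | H y =>
      induction z using QuotientGroup.induction_on with
      | H z =>
        simp only [← QuotientGroup.mk_mul, hk]
        show e _ = e _ + e _
        rw [← hem]
        exact congrArg e (Subtype.ext (Cfsg.Lib.PGroup.commutatorElement_mul_right hcz _ _ _)))
    (by
      intro w v z
      induction w using QuotientGroup.induction_on with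
      | H x =>
      induction v using QuotientGroup.induction_on with
      | H y =>
      induction z using QuotientGroup.induction_on with
      | H z =>
        simp only [← QuotientGroup.mk_mul, hk]
        show e _ = e _ + e _
        rw [← hem]
        exact congrArg e (Subtype.ext (Cfsg.Lib.PGroup.commutatorElement_mul_left hcz _ _ _)))
    (by
      rw [← hu]
      refine Nat.card_congr (Equiv.subtypeEquivRight fun w => ?_)
      induction w using QuotientGroup.induction_on with
      | H x =>
        rw [hs, Subgroup.mem_map]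
        constructor
        · intro h
          exact ⟨x, congrArg Subtype.val (hei (h.trans he0.symm)), rfl⟩
        · rintro ⟨y, hy, hyx⟩
          rw [← hs x, ← hyx, ← he0]
          show s (Quotient.out (y : G ⧸ frattini G)) = _
          rw [hs]
          exact congrArg e (Subtype.ext hy))
  rw [hNcard, hd, ← pow_mul]
  refine ⟨Nat.pow_le_pow_right (by omega) (by omega), fun hns => Nat.pow_lt_pow_right Nat.one_lt_two ?_⟩
  by_contra hlt
  obtain ⟨hrad, hcomp⟩ := heq (by omega)
  refine hns ⟨hG, ?_, ?_⟩
  · refine le_antisymm hFc fun z hz => ?_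
    have h := hrad (z : G ⧸ frattini G) fun w => by
      induction w using QuotientGroup.induction_on with
      | H x =>
        rw [hk, ← he0]
        exact congrArg e (Subtype.ext (commutatorElement_eq_one_iff_mul_comm.2 (Subgroup.mem_center_iff.1 hz x).symm))
    exact (QuotientGroup.eq_one_iff z).1 h
  · refine le_antisymm hcz fun z hz => ?_
    have hzF : z ∈ frattini G := by
      have h := hrad (z : G ⧸ frattini G) fun w => by
        induction w using QuotientGroup.induction_on with
        | H x =>
          rw [hk, ← he0]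
          exact congrArg e (Subtype.ext (commutatorElement_eq_one_iff_mul_comm.2 (Subgroup.mem_center_iff.1 hz x).symm))
      exact (QuotientGroup.eq_one_iff z).1 h
    let U : Submodule (ZMod 2) (Fin l → ZMod 2) := Submodule.span (ZMod 2) (e '' {c | (c : G) ∈ commutator G})
    have hU : e ⟨z, hzF⟩ ∈ U := by
      by_contra hnU
      obtain ⟨f, hf, hfU⟩ := U.exists_le_ker_of_lt_top (lt_top_iff_ne_top.2 fun h => hnU (by rw [h]; trivial))
      refine hf (LinearMap.pi_ext' fun i => LinearMap.ext_ring ?_)
      have hv := congrFun (hcomp (fun i => f (Pi.single i 1)) fun w v => ?_) i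
      · simpa using hv
      · induction w using QuotientGroup.induction_on with
        | H x =>
        induction v using QuotientGroup.induction_on with
        | H y =>
          rw [hk]
          have h0 : f (k x y) = 0 := hfU (Submodule.subset_span
            ⟨_, Subgroup.commutator_mem_commutator (Subgroup.mem_top y) (Subgroup.mem_top x), rfl⟩)
          rw [LinearMap.pi_apply_eq_sum_univ] at h0
          rw [← h0]
          refine Finset.sum_congr rfl fun i _ => ?_
          rw [smul_eq_mul, mul_comm]
          congr 2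
          funext j
          simp [Pi.single_apply, eq_comm]
    have : ∀ w ∈ U, ∃ c : frattini G, (c : G) ∈ commutator G ∧ e c = w := by
      intro w hw
      induction hw using Submodule.span_induction with
      | mem w hw => exact hw
      | zero => exact ⟨1, one_mem _, he0⟩
      | add _ _ _ _ ha hb =>
        obtain ⟨a, ha, rfl⟩ := ha
        obtain ⟨b, hb, rfl⟩ := hb
        exact ⟨a * b, mul_mem ha hb, hem a b⟩
      | smul r _ _ ha =>
        obtain ⟨a, ha, rfl⟩ := ha
        obtain rfl | rfl := zmod_two_cases r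
        · exact ⟨1, one_mem _, by rw [he0, zero_smul]⟩
        · exact ⟨a, ha, by rw [one_smul]⟩
    obtain ⟨c, hc, hce⟩ := this _ hU
    rw [hei hce] at hc
    exact hc

end Cfsg.Agent.S3773
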