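import Cfsg.Statements.S3775
import Mathlib
-- import your own Cfsg.Agent.* helpers here

set_option autoImplicit false
open Cfsg

namespace Cfsg.Agent.S3775

open Subgroup

variable {A : Type*} [CommGroup A] [Finite A] {p : ℕ} [Fact p.Prime]

/-- Invariance under a group of automorphisms. -/
def Inv (X : Subgroup (MulAut A)) (B : Subgroup A) : Prop := ∀ x ∈ X, ∀ b ∈ B, x b ∈ B

omit [Finite A] in
theorem inv_iff (X : Subgroup (MulAut A)) (B : Subgroup A) :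
    (∀ x ∈ X, B.map x.toMonoidHom = B) ↔ Inv X B := by
  constructor
  · intro h x hx b hb
    exact (h x hx).le ⟨b, hb, rfl⟩
  · intro h x hx
    refine le_antisymm ?_ fun b hb => ⟨x⁻¹ b, h _ (inv_mem hx) b hb, by simp⟩
    rintro _ ⟨b, hb, rfl⟩
    exact h x hx b hb

/-- Averaging: an invariant relative complement. -/
theorem exists_invariant_complement (X : Subgroup (MulAut A)) (hX : (Nat.card X).Coprime (Nat.card A))
    {N K D W₀ : Subgroup A} (hN : Inv X N) (hK : Inv X K) (hD : Inv X D) (hKD : K ≤ D)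
    (hWD : W₀ ≤ D) (hinf : W₀ ⊓ K = N) (hsup : W₀ ⊔ K = D) :
    ∃ W : Subgroup A, Inv X W ∧ W ≤ D ∧ W ⊓ K = N ∧ W ⊔ K = D := by
  classical
  haveI := Fintype.ofFinite X
  have hNW : N ≤ W₀ := hinf ▸ inf_le_left
  have hNK : N ≤ K := hinf ▸ inf_le_right
  have hex : ∀ d : A, ∃ k, k ∈ K ∧ (d ∈ D → k⁻¹ * d ∈ W₀) := by
    intro d
    by_cases hd : d ∈ D
    · obtain ⟨w, hw, k, hk, rfl⟩ := mem_sup.1 (hsup.ge hd)
      exact ⟨k, hk, fun _ => by rw [mul_comm w k, inv_mul_cancel_left]; exact hw⟩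
    · exact ⟨1, one_mem _, fun h => absurd h hd⟩
  choose κ hκK hκ using hex
  have huniq : ∀ d ∈ D, ∀ k ∈ K, k⁻¹ * d ∈ W₀ → k / κ d ∈ N := by
    intro d hd k hk h
    rw [← hinf]
    refine mem_inf.2 ⟨?_, K.div_mem hk (hκK d)⟩
    have := div_mem (hκ d hd) h
    rwa [show (κ d)⁻¹ * d / (k⁻¹ * d) = k / κ d by
      rw [div_eq_mul_inv, div_eq_mul_inv, mul_inv, inv_inv, mul_mul_mul_comm, mul_inv_cancel, mul_one, mul_comm]] at this
  let P : A → A := fun d => ∏ x : X, (x : MulAut A) (κ ((x : MulAut A)⁻¹ d))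
  have hPK : ∀ d, P d ∈ K := fun d => prod_mem fun x _ => hK _ x.2 _ (hκK _)
  have hmul : ∀ a ∈ D, ∀ b ∈ D, P a * P b / P (a * b) ∈ N := by
    intro a ha b hb
    simp only [P, ← Finset.prod_mul_distrib, ← Finset.prod_div_distrib]
    refine prod_mem fun x _ => ?_
    rw [← map_mul, ← map_div]
    refine hN _ x.2 _ ?_
    have ha' := hD _ (inv_mem x.2) a ha
    have hb' := hD _ (inv_mem x.2) b hb
    rw [map_mul]
    refine huniq _ (mul_mem ha' hb') _ (mul_mem (hκK _) (hκK _)) ?_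
    rw [mul_inv, mul_mul_mul_comm]
    exact mul_mem (hκ _ ha') (hκ _ hb')
  have hPk : ∀ k ∈ K, k ^ Nat.card X / P k ∈ N := by
    intro k hk
    rw [Nat.card_eq_fintype_card, ← Finset.card_univ, ← Finset.prod_const, ← Finset.prod_div_distrib]
    refine prod_mem fun x _ => ?_
    have hk' := hK _ (inv_mem x.2) k hk
    have h := huniq _ (hKD hk') _ hk' (by rw [inv_mul_cancel]; exact one_mem _)
    have := hN _ x.2 _ h
    rwa [map_div, MulAut.apply_inv_self] at this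
  let W : Subgroup A :=
    { carrier := {d | d ∈ D ∧ P d ∈ N}
      one_mem' := ⟨one_mem _, by
        have h := hPk 1 (one_mem _)
        rw [one_pow, one_div] at h
        exact inv_mem_iff.1 h⟩
      mul_mem' := fun {a b} ha hb => ⟨mul_mem ha.1 hb.1, by
        have := div_mem (mul_mem ha.2 hb.2) (hmul a ha.1 b hb.1)
        rwa [div_div_cancel] at this⟩
      inv_mem' := fun {a} ha => ⟨inv_mem ha.1, by
        have h1 := hPk 1 (one_mem _)
        rw [one_pow, one_div, inv_mem_iff] at h1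
        have h2 := hmul a ha.1 a⁻¹ (inv_mem ha.1)
        rw [mul_inv_cancel] at h2
        have h3 := div_mem (mul_mem h2 h1) ha.2
        rwa [div_mul_cancel, mul_div_cancel_left] at h3⟩ }
  have hWN : ∀ k ∈ K, k ∈ W → k ∈ N := by
    intro k hk hkW
    have h : k ^ Nat.card X ∈ N := by simpa using mul_mem (hPk k hk) hkW.2
    obtain ⟨m, hm⟩ := exists_pow_eq_self_of_coprime (x := k) (n := Nat.card X)
      (Nat.Coprime.coprime_dvd_right (orderOf_dvd_natCard k) hX)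
    rw [← hm]; exact pow_mem h m
  refine ⟨W, ?_, fun d hd => hd.1, le_antisymm (fun k hk => hWN k hk.2 hk.1) ?_, ?_⟩
  · intro y hy d hd
    refine ⟨hD y hy d hd.1, ?_⟩
    have e : P (y d) = y (P d) := by
      simp only [P, map_prod]
      refine (Fintype.prod_equiv (Equiv.mulLeft (⟨y, hy⟩ : X)) _ _ fun x => ?_).symm
      show y ((x : MulAut A) (κ ((x : MulAut A)⁻¹ d))) =
        ((⟨y, hy⟩ * x : X) : MulAut A) (κ (((⟨y, hy⟩ * x : X) : MulAut A)⁻¹ (y d)))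
      simp [MulAut.mul_apply]
    rw [e]; exact hN y hy _ hd.2
  · intro n hn
    refine ⟨⟨hKD (hNK hn), ?_⟩, hNK hn⟩
    have h := div_mem (pow_mem hn (Nat.card X)) (hPk n (hNK hn))
    rwa [div_div_cancel] at h
  · refine le_antisymm (sup_le (fun d hd => hd.1) hKD) fun d hd => ?_
    obtain ⟨m, hm⟩ := exists_pow_eq_self_of_coprime (x := P d) (n := Nat.card X)
      (Nat.Coprime.coprime_dvd_right (orderOf_dvd_natCard _) hX)
    set k := P d ^ m with hkdef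
    have hk : k ∈ K := pow_mem (hPK d) m
    have hkX : k ^ Nat.card X = P d := by rw [hkdef, ← pow_mul, mul_comm, pow_mul, hm]
    have hmem : d * k⁻¹ ∈ W := by
      refine ⟨mul_mem hd (inv_mem (hKD hk)), ?_⟩
      have h1 := hPk k hk
      rw [hkX] at h1
      have h2 := hmul (d * k⁻¹) (mul_mem hd (inv_mem (hKD hk))) k (hKD hk)
      rw [inv_mul_cancel_right] at h2
      have h3 := mul_mem h1 h2
      rwa [show P d / P k * (P (d * k⁻¹) * P k / P d) = P (d * k⁻¹) by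
        rw [div_mul_div_comm, mul_comm (P k) (P d), mul_comm (P (d * k⁻¹)) (P k), ← mul_assoc,
          mul_div_cancel_left]] at h3
    have := mul_mem (mem_sup_left hmem : d * k⁻¹ ∈ W ⊔ K) (mem_sup_right hk)
    rwa [inv_mul_cancel_right] at this

theorem pow_inf_eq {hp : p.Prime} {C : Subgroup A} {a : A} (ha : a ∉ C) (hap : a ^ p ∈ C) {k : ℤ}
    (hk : a ^ k ∈ C) : (p : ℤ) ∣ k := by
  by_contra hd
  have hc : IsCoprime (p : ℤ) k := (Nat.prime_iff_prime_int.1 hp).coprime_iff_not_dvd.2 hd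
  obtain ⟨u, v, huv⟩ := hc
  apply ha
  rw [← zpow_one a, ← huv, zpow_add, mul_comm u, mul_comm v, zpow_mul, zpow_mul, zpow_natCast]
  exact mul_mem (zpow_mem hap u) (zpow_mem hk v)

/-- A relative complement when the quotient is elementary. -/
theorem exists_complement_elementary {N K D : Subgroup A} (hNK : N ≤ K) (hKD : K ≤ D)
    (he : ∀ d ∈ D, d ^ p ∈ N) : ∃ W : Subgroup A, W ≤ D ∧ W ⊓ K = N ∧ W ⊔ K = D := by
  obtain ⟨W, hNW, ⟨hWD, hinf⟩, hmax⟩ :=
    (Set.toFinite {W : Subgroup A | W ≤ D ∧ W ⊓ K ≤ N}).exists_le_maximal (a := N) ⟨hNK.trans hKD, inf_le_left⟩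
  refine ⟨W, hWD, le_antisymm hinf (le_inf hNW hNK), le_antisymm (sup_le hWD hKD) fun d hd => ?_⟩
  by_contra hnot
  have hle := hmax ⟨sup_le hWD (zpowers_le.2 hd), fun x hx => ?_⟩ (le_sup_left : W ≤ W ⊔ zpowers d)
  · exact hnot (mem_sup_left (hle (mem_sup_right (mem_zpowers d))))
  · obtain ⟨w, hw, _, ⟨i, rfl⟩, rfl⟩ := mem_sup.1 hx.1
    have hi : d ^ i ∈ W ⊔ K := by
      have := mul_mem (inv_mem (mem_sup_left hw : w ∈ W ⊔ K)) (mem_sup_right hx.2)
      simpa using this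
    obtain ⟨j, rfl⟩ := pow_inf_eq (hp := Fact.out) hnot (mem_sup_left (hNW (he d hd))) hi
    have : d ^ ((p : ℤ) * j) ∈ W := by rw [zpow_mul, zpow_natCast]; exact zpow_mem (hNW (he d hd)) j
    exact hinf ⟨mul_mem hw this, hx.2⟩

/-- The kernel of a power map, as a subgroup. -/
def om (A : Type*) [CommGroup A] (n : ℕ) : Subgroup A := (powMonoidHom n : A →* A).ker

omit [Finite A] in
theorem mem_om {n : ℕ} {a : A} : a ∈ om A n ↔ a ^ n = 1 := MonoidHom.mem_ker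

theorem inv_om (X : Subgroup (MulAut A)) (n : ℕ) : Inv X (om A n) := fun x _ b hb => by
  rw [mem_om, ← map_pow, mem_om.1 hb, map_one]

theorem inv_pow (X : Subgroup (MulAut A)) {B : Subgroup A} (hB : Inv X B) (n : ℕ) :
    Inv X (B.map (powMonoidHom n)) := by
  rintro x hx _ ⟨b, hb, rfl⟩
  exact ⟨x b, hB x hx b hb, (map_pow x b n).symm⟩

theorem exists_order_p {B : Subgroup A} (hA : IsPGroup p A) (h : B ≠ ⊥) : ∃ b ∈ B, b ≠ 1 ∧ b ^ p = 1 := by
  haveI : Nontrivial B := (nontrivial_iff_ne_bot B).2 h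
  obtain ⟨k, hk0, hk⟩ := (hA.to_subgroup B).nontrivial_iff_card.1 inferInstance
  obtain ⟨b, hb⟩ := exists_prime_orderOf_dvd_card' (G := B) p (hk ▸ dvd_pow_self p (Nat.pos_iff_ne_zero.1 hk0))
  refine ⟨b, b.2, fun e => ?_, ?_⟩
  · rw [← orderOf_eq_one_iff, orderOf_coe, hb] at e
    exact (Fact.out : p.Prime).one_lt.ne' e
  · have := pow_orderOf_eq_one (b : A)
    rwa [orderOf_coe, hb] at this

/-- Irreducibility of the socle gives uniseriality. -/
theorem uniserial (hA : IsPGroup p A) (X : Subgroup (MulAut A))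
    (h : ∀ B : Subgroup A, Inv X B → (∀ b ∈ B, b ^ p = 1) → B = ⊥ ∨ ∀ a : A, a ∈ B ↔ a ^ p = 1)
    (B : Subgroup A) (hB : Inv X B) : ∃ i : ℕ, ∀ a : A, a ∈ B ↔ a ^ p ^ i = 1 := by
  classical
  obtain ⟨e, he⟩ := IsPGroup.iff_card.1 hA
  by_cases hall : ∀ a : A, a ∈ B
  · exact ⟨e, fun a => iff_of_true (hall a) (by rw [← he]; exact pow_card_eq_one')⟩
  have hex : ∃ i : ℕ, ∃ a : A, a ^ p ^ i = 1 ∧ a ∉ B := by
    push Not at hall
    obtain ⟨a, ha⟩ := hall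
    exact ⟨e, a, by rw [← he]; exact pow_card_eq_one', ha⟩
  obtain ⟨a, ha, haB⟩ := Nat.find_spec hex
  obtain ⟨i, hi⟩ : ∃ i, Nat.find hex = i + 1 := Nat.exists_eq_succ_of_ne_zero fun e0 => by
    rw [e0, pow_zero, pow_one] at ha
    exact haB (ha ▸ one_mem B)
  have hle : ∀ a : A, a ^ p ^ i = 1 → a ∈ B := fun a ha' => by
    by_contra hnot
    exact absurd (Nat.find_min' hex ⟨a, ha', hnot⟩) (by omega)
  refine ⟨i, fun b => ⟨fun hb => ?_, hle b⟩⟩
  by_contra hne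
  set C := B.map (powMonoidHom (p ^ i)) ⊓ om A p with hC
  have hBne : B.map (powMonoidHom (p ^ i)) ≠ ⊥ := fun h0 => hne (mem_bot.1 (h0.le ⟨b, hb, rfl⟩))
  rcases h C (fun x hx c hc => ⟨inv_pow X hB _ x hx c hc.1, inv_om X p x hx c hc.2⟩)
      (fun c hc => mem_om.1 hc.2) with h0 | h1
  · obtain ⟨c, hc, hc1, hcp⟩ := exists_order_p hA hBne
    exact hc1 (mem_bot.1 (h0.le ⟨hc, mem_om.2 hcp⟩))
  · rw [hi, pow_succ, pow_mul] at ha
    obtain ⟨⟨b', hb', hbe⟩, -⟩ := (h1 _).2 ha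
    apply haB
    have : a / b' ∈ B := hle _ (by rw [div_pow, div_eq_one]; exact hbe.symm)
    simpa using mul_mem this hb'

/-- A minimal invariant subgroup with prescribed top power is a direct factor. -/
theorem decompose (hA : IsPGroup p A) (X : Subgroup (MulAut A)) (hX : (Nat.card X).Coprime p)
    (hind : ¬ ∃ B C : Subgroup A, B ≠ ⊥ ∧ C ≠ ⊥ ∧ Inv X B ∧ Inv X C ∧ B ⊓ C = ⊥ ∧ B ⊔ C = ⊤)
    (B : Subgroup A) (hB : Inv X B) (hBp : ∀ b ∈ B, b ^ p = 1) :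
    B = ⊥ ∨ ∀ a : A, a ∈ B ↔ a ^ p = 1 := by
  classical
  have hp : p.Prime := Fact.out
  obtain ⟨c, hc⟩ := IsPGroup.iff_card.1 hA
  have hcop : (Nat.card X).Coprime (Nat.card A) := hc ▸ hX.pow_right c
  refine or_iff_not_imp_left.2 fun hBne => ?_
  -- the exponent is `p ^ (f + 1)`
  have hex : ∃ e : ℕ, ∀ a : A, a ^ p ^ e = 1 := ⟨c, fun a => by rw [← hc]; exact pow_card_eq_one'⟩
  have hemin := Nat.find_spec hex
  obtain ⟨f, hf⟩ : ∃ f, Nat.find hex = f + 1 := Nat.exists_eq_succ_of_ne_zero fun e0 => hBne (eq_bot_iff.2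
    fun b hb => by rw [e0] at hemin; simpa using hemin b)
  rw [hf] at hemin
  set π : A →* A := powMonoidHom (p ^ f)
  set T := (⊤ : Subgroup A).map π with hT
  have hTne : T ≠ ⊥ := fun h0 => by
    have : Nat.find hex ≤ f := Nat.find_min' hex fun a => mem_bot.1 (h0.le ⟨a, mem_top a, rfl⟩)
    omega
  have hTinv : Inv X T := inv_pow X (fun _ _ _ _ => mem_top _) _
  obtain ⟨U, -, ⟨hUne, hUinv, hUT⟩, hUmin⟩ :=
    (Set.toFinite {U : Subgroup A | U ≠ ⊥ ∧ Inv X U ∧ U ≤ T}).exists_le_minimal (a := T) ⟨hTne, hTinv, le_rfl⟩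
  let S : Set (Subgroup A) := {D | Inv X D ∧ D.map π = U}
  have hS0 : U.comap π ∈ S := by
    refine ⟨fun x hx a ha => ?_, map_comap_eq_self ((le_of_eq ?_).trans' hUT)⟩
    · show x a ^ p ^ f ∈ U
      rw [← map_pow]; exact hUinv x hx _ ha
    · rw [hT, MonoidHom.range_eq_map]
  obtain ⟨D, -, ⟨hDinv, hDU⟩, hDmin⟩ := (Set.toFinite S).exists_le_minimal hS0
  set Dp := D.map (powMonoidHom p) with hDp
  have hDpK : Dp ≤ D ⊓ π.ker := by
    rintro _ ⟨d, hd, rfl⟩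
    refine ⟨pow_mem hd p, ?_⟩
    show (d ^ p) ^ p ^ f = 1
    rw [← pow_mul, ← pow_succ']; exact hemin d
  -- `ker π ⊓ D = D ^ p`
  have hker : D ⊓ π.ker = Dp := by
    obtain ⟨W₀, hW₀D, hinf, hsup⟩ := exists_complement_elementary (p := p) hDpK inf_le_left
      (fun d hd => ⟨d, hd, rfl⟩)
    obtain ⟨W, hWinv, hWD, hWinf, hWsup⟩ := exists_invariant_complement X hcop (N := Dp) (K := D ⊓ π.ker) (inv_pow X hDinv p)
      (fun x hx a ha => mem_inf.2 ⟨hDinv x hx a ha.1, inv_om X (p ^ f) x hx a ha.2⟩) hDinv inf_le_left hW₀D hinf hsup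
    have hWS : W ∈ S := by
      refine ⟨hWinv, le_antisymm ((map_mono hWD).trans hDU.le) ?_⟩
      rw [← hDU, ← hWsup, Subgroup.map_sup]
      refine sup_le le_rfl ?_
      rw [(Subgroup.map_eq_bot_iff _).2 inf_le_right]
      exact bot_le
    have hWeq : D ≤ W := hDmin hWS hWD
    exact le_antisymm (fun x hx => hWinf.le ⟨hWeq hx.1, hx⟩) hDpK
  have hOm : ∀ j, j ≤ f → ∀ d ∈ D, d ^ p ^ j = 1 → ∃ x ∈ D, x ^ p = d := by
    intro j hj d hd hdj
    obtain ⟨x, hx, rfl⟩ := hker.le ⟨hd, show d ^ p ^ f = 1 by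
      rw [← Nat.sub_add_cancel hj, pow_add, mul_comm, pow_mul, hdj, one_pow]⟩
    exact ⟨x, hx, rfl⟩
  have hsoc : ∀ d ∈ D, d ^ p = 1 → d ∈ U := by
    intro d hd hdp
    have key : ∀ j, j ≤ f → ∃ x ∈ D, x ^ p ^ j = d := by
      intro j
      induction j with
      | zero => exact fun _ => ⟨d, hd, by rw [pow_zero, pow_one]⟩
      | succ j ih =>
        intro hj
        obtain ⟨x, hx, hxd⟩ := ih (by omega)
        obtain ⟨y, hy, rfl⟩ := hOm (j + 1) hj x hx (by rw [pow_succ, pow_mul, hxd, hdp])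
        exact ⟨y, hy, by rw [pow_succ', pow_mul, hxd]⟩
    obtain ⟨x, hx, rfl⟩ := key f le_rfl
    exact hDU.le ⟨x, hx, rfl⟩
  -- a complement of `D`
  obtain ⟨C, -, hCinf, hCmax⟩ :=
    (Set.toFinite {C : Subgroup A | C ⊓ D ≤ ⊥}).exists_le_maximal (a := ⊥) (show (⊥ : Subgroup A) ⊓ D ≤ ⊥ from inf_le_left)
  have hCsup : C ⊔ D = ⊤ := by
    by_contra hne
    have hex' : ∃ a, a ∉ C ⊔ D ∧ a ^ p ∈ C ⊔ D := by
      obtain ⟨a, ha⟩ : ∃ a, a ∉ C ⊔ D := by
        by_contra hall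
        push Not at hall
        exact hne (eq_top_iff.2 fun a _ => hall a)
      have hm : ∃ m, a ^ p ^ m ∈ C ⊔ D := ⟨f + 1, by rw [hemin]; exact one_mem _⟩
      obtain ⟨m, hm'⟩ : ∃ m, Nat.find hm = m + 1 := Nat.exists_eq_succ_of_ne_zero fun e0 => by
        have := Nat.find_spec hm
        rw [e0, pow_zero, pow_one] at this
        exact ha this
      refine ⟨a ^ p ^ m, fun h => absurd (Nat.find_min' hm h) (by omega), ?_⟩
      have := Nat.find_spec hm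
      rwa [hm', pow_succ, pow_mul] at this
    obtain ⟨a, ha, hap⟩ := hex'
    obtain ⟨c, hc', d, hd, hcd⟩ := mem_sup.1 hap
    have hd1 : d ^ p ^ f = 1 := by
      refine mem_bot.1 (hCinf ⟨?_, pow_mem hd _⟩)
      have h1 : c ^ p ^ f * d ^ p ^ f = 1 := by
        rw [← mul_pow, hcd, ← pow_mul, ← pow_succ']; exact hemin a
      rw [eq_inv_of_mul_eq_one_right h1]
      exact C.inv_mem (C.pow_mem hc' _)
    obtain ⟨x, hx, rfl⟩ := hOm f le_rfl d hd hd1
    set b := a / x with hb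
    have hbC : b ^ p ∈ C := by rw [hb, div_pow, ← hcd, mul_div_cancel_right]; exact hc'
    have hbn : b ∉ C ⊔ D := fun h => ha (by simpa [hb] using mul_mem h (mem_sup_right hx : x ∈ C ⊔ D))
    have hle := hCmax (show (C ⊔ zpowers b) ⊓ D ≤ ⊥ from fun y hy => ?_) (le_sup_left : C ≤ C ⊔ zpowers b)
    · exact hbn (mem_sup_left (hle (mem_sup_right (mem_zpowers b))))
    · obtain ⟨w, hw, _, ⟨i, rfl⟩, rfl⟩ := mem_sup.1 hy.1
      have hi : b ^ i ∈ C ⊔ D := by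
        have := mul_mem (inv_mem (mem_sup_left hw : w ∈ C ⊔ D)) (mem_sup_right hy.2)
        simpa using this
      obtain ⟨j, rfl⟩ := pow_inf_eq (hp := hp) hbn (mem_sup_left hbC) hi
      have : b ^ ((p : ℤ) * j) ∈ C := by rw [zpow_mul, zpow_natCast]; exact zpow_mem hbC j
      exact hCinf ⟨mul_mem hw this, hy.2⟩
  obtain ⟨E, hEinv, -, hEinf, hEsup⟩ := exists_invariant_complement X hcop (N := ⊥) (K := D) (D := ⊤)
    (fun x _ b hb => by rw [mem_bot] at hb ⊢; rw [hb, map_one]) hDinv (fun _ _ _ _ => mem_top _) le_top le_top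
    (le_antisymm hCinf bot_le) hCsup
  have hDne : D ≠ ⊥ := fun h0 => hUne (by rw [← hDU, h0, Subgroup.map_bot])
  have hDtop : D = ⊤ := by
    by_cases hE0 : E = ⊥
    · rw [← hEsup, hE0, bot_sup_eq]
    · exact absurd ⟨E, D, hE0, hDne, hEinv, hDinv, hEinf, hEsup⟩ hind
  have hBU : B ≤ U := fun b hb => hsoc b (hDtop ▸ mem_top b) (hBp b hb)
  have hUB : U ≤ B := hUmin ⟨hBne, hB, hBU.trans hUT⟩ hBU
  exact fun a => ⟨hBp a, fun ha => hUB (hsoc a (hDtop ▸ mem_top a) ha)⟩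

theorem main (hA : IsPGroup p A) (X : Subgroup (MulAut A)) (hX : (Nat.card X).Coprime p) :
    ((¬ ∃ B C : Subgroup A, B ≠ ⊥ ∧ C ≠ ⊥ ∧ Inv X B ∧ Inv X C ∧ B ⊓ C = ⊥ ∧ B ⊔ C = ⊤) ↔
      (∀ B : Subgroup A, Inv X B → ∃ i : ℕ, ∀ a : A, a ∈ B ↔ a ^ p ^ i = 1)) ∧
    ((∀ B : Subgroup A, Inv X B → ∃ i : ℕ, ∀ a : A, a ∈ B ↔ a ^ p ^ i = 1) ↔
      (∀ B : Subgroup A, Inv X B → (∀ b ∈ B, b ^ p = 1) → B = ⊥ ∨ ∀ a : A, a ∈ B ↔ a ^ p = 1)) := by
  have h23 : (∀ B : Subgroup A, Inv X B → ∃ i : ℕ, ∀ a : A, a ∈ B ↔ a ^ p ^ i = 1) →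
      (∀ B : Subgroup A, Inv X B → (∀ b ∈ B, b ^ p = 1) → B = ⊥ ∨ ∀ a : A, a ∈ B ↔ a ^ p = 1) := by
    intro h B hB hBp
    obtain ⟨i, hi⟩ := h B hB
    rcases i with _ | i
    · exact Or.inl (eq_bot_iff.2 fun b hb => by simpa using (hi b).1 hb)
    · exact Or.inr fun a => ⟨hBp a, fun ha => (hi a).2 (by rw [pow_succ', pow_mul, ha, one_pow])⟩
  refine ⟨⟨fun h => uniserial hA X (decompose hA X hX h), ?_⟩, h23, uniserial hA X⟩
  rintro h ⟨B, C, hB, hC, hBi, hCi, hinf, -⟩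
  obtain ⟨b, hb, hb1, hbp⟩ := exists_order_p hA hB
  obtain ⟨i, hi⟩ := h C hCi
  rcases i with _ | i
  · exact hC (eq_bot_iff.2 fun y hy => by simpa using (hi y).1 hy)
  · exact hb1 (mem_bot.1 (hinf.le ⟨hb, (hi b).2 (by rw [pow_succ', pow_mul, hbp, one_pow])⟩))

/-- Let A be a finite abelian p-group and X a group of automorphisms of A of order prime to p. Call a subgroup of A invariant when every element of X maps it onto itself. Then the following are equivalent: (i) A is not the direct product of two nontrivial invariant subgroups; (ii) every invariant subgroup of A is one of the subgroups Ω_i(A) = {a : a^(p^i) = 1}; (iii) the subgroup Ω₁(A) of elements of order dividing p has no invariant subgroups other than 1 and itself. -/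
theorem result {A : Type*} [CommGroup A] [Finite A] {p : ℕ} [Fact p.Prime] (hA : IsPGroup p A) (X : Subgroup (MulAut A)) (hX : (Nat.card X).Coprime p) : ((¬ ∃ B C : Subgroup A, B ≠ ⊥ ∧ C ≠ ⊥ ∧ (∀ x ∈ X, B.map x.toMonoidHom = B) ∧ (∀ x ∈ X, C.map x.toMonoidHom = C) ∧ B ⊓ C = ⊥ ∧ B ⊔ C = ⊤) ↔ (∀ B : Subgroup A, (∀ x ∈ X, B.map x.toMonoidHom = B) → ∃ i : ℕ, ∀ a : A, a ∈ B ↔ a ^ p ^ i = 1)) ∧ ((∀ B : Subgroup A, (∀ x ∈ X, B.map x.toMonoidHom = B) → ∃ i : ℕ, ∀ a : A, a ∈ B ↔ a ^ p ^ i = 1) ↔ (∀ B : Subgroup A, (∀ x ∈ X, B.map x.toMonoidHom = B) → (∀ b ∈ B, b ^ p = 1) → B = ⊥ ∨ ∀ a : A, a ∈ B ↔ a ^ p = 1)) := by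
  simp only [inv_iff]
  exact main hA X hX

end Cfsg.Agent.S3775
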