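import Cfsg.Statements.S3776
import Cfsg.Agent.Lib.TwoGroup.SolvSuzuki.ClassTwo
import Cfsg.Agent.Lib.PGroup.Basic

set_option autoImplicit false
open Cfsg
open scoped commutatorElement

namespace Cfsg.Agent.S3776

/-- Let G be a finite non-abelian 2-group with more than one involution admitting a solvable group of automorphisms that permutes its involutions transitively. Then the derived subgroup, the Frattini subgroup and the centre of G coincide and consist exactly of the elements x with x² = 1. -/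
theorem result {G : Type*} [Group G] [Finite G] (hG : IsPGroup 2 G) (hna : ¬ IsMulCommutative G) (htwo : ∃ x y : G, x ≠ y ∧ x ≠ 1 ∧ x ^ 2 = 1 ∧ y ≠ 1 ∧ y ^ 2 = 1) (hY : ∃ Y : Subgroup (MulAut G), Group.IsSolvable Y ∧ ∀ x y : G, x ≠ 1 → x ^ 2 = 1 → y ≠ 1 → y ^ 2 = 1 → ∃ a ∈ Y, a x = y) : commutator G = frattini G ∧ frattini G = Subgroup.center G ∧ ∀ x : G, x ∈ Subgroup.center G ↔ x ^ 2 = 1 := by
  obtain ⟨Y, hYs, hYt⟩ := hY
  have hK : Cfsg.Lib.SolvSuzuki.IsTransSol Y := ⟨hYs, fun x y hx hx2 hy hy2 =>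
    hYt x y hx (by rw [pow_two, hx2]) hy (by rw [pow_two, hy2])⟩
  have h2 : Cfsg.Lib.Suzuki2.TwoInvol G := by
    obtain ⟨x, y, hxy, hx, hx2, hy, hy2⟩ := htwo
    exact ⟨x, y, hxy, hx, by rw [← pow_two, hx2], hy, by rw [← pow_two, hy2]⟩
  have hne : ∃ x y : G, x * y ≠ y * x := by
    by_contra h
    push Not at h
    exact hna ⟨⟨h⟩⟩
  have hcomm := Cfsg.Lib.SolvSuzuki.class_two hG hK h2
  have hZ : ∀ x : G, x ∈ Subgroup.center G ↔ x ^ 2 = 1 := fun x => by
    rw [pow_two]
    exact ⟨fun hx => Cfsg.Lib.SolvSuzuki.center_sq (Nat.card G) G le_rfl hG hne Y hK h2 x hx,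
      fun hx => Cfsg.Lib.SolvSuzuki.involution_central hG hK hx⟩
  have hle : commutator G ≤ Subgroup.center G := by
    rw [commutator_def, Subgroup.commutator_le]
    exact fun a _ b _ => hcomm a b
  have hge : Subgroup.center G ≤ commutator G := by
    intro z hz
    by_cases hz1 : z = 1
    · exact hz1 ▸ one_mem _
    obtain ⟨a, b, hab⟩ := hne
    have he : ⁅a, b⁆ ≠ 1 := fun h => hab (commutatorElement_eq_one_iff_commute.1 h).eq
    obtain ⟨k, -, hk⟩ := hYt ⁅a, b⁆ z he ((hZ _).1 (hcomm a b)) hz1 ((hZ z).1 hz)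
    rw [← hk, map_commutatorElement, commutator_def]
    exact Subgroup.commutator_mem_commutator (Subgroup.mem_top _) (Subgroup.mem_top _)
  have hCZ : commutator G = Subgroup.center G := le_antisymm hle hge
  have : Fact (Nat.Prime 2) := ⟨Nat.prime_two⟩
  have hsq : ∀ x : G, x ^ 2 ∈ Subgroup.center G := fun x => by
    refine Subgroup.mem_center_iff.2 fun g => ?_
    have h1 : ⁅x * x, g⁆ = 1 := by
      rw [commutatorElement_mul_left_eq_conj_mul,
        Subgroup.mem_center_iff.1 (hcomm x g) x, mul_inv_cancel_right, ← pow_two]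
      exact (hZ _).1 (hcomm x g)
    rw [pow_two]
    exact (commutatorElement_eq_one_iff_commute.1 h1).eq.symm
  have hF : frattini G = Subgroup.center G := by
    rw [Cfsg.Lib.PGroup.frattini_eq_sup hG, hCZ]
    refine le_antisymm (sup_le le_rfl ?_) le_sup_left
    rw [Subgroup.closure_le]
    rintro _ ⟨x, rfl⟩
    exact hsq x
  exact ⟨hCZ.trans hF.symm, hF, hZ⟩

end Cfsg.Agent.S3776
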