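import Cfsg.Statements.S3778
import Mathlib
-- import your own Cfsg.Agent.* helpers here

set_option autoImplicit false
open Cfsg

namespace Cfsg.Agent.S3778

open scoped commutatorElement

universe u

variable {G : Type u} [Group G]

/-- The elements centralising the `i`-th lower central factor two steps down. -/
def factorCentralizer (i : ℕ) : Subgroup G where
  carrier := {x | ∀ y ∈ (⊤ : Subgroup G).lowerCentralSeries i, ⁅y, x⁆ ∈ (⊤ : Subgroup G).lowerCentralSeries (i + 2)}
  one_mem' := fun y _ => by rw [commutatorElement_one_right]; exact one_mem _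
  mul_mem' := fun {a b} ha hb y hy => by
    rw [show ⁅y, a * b⁆ = ⁅y, a⁆ * (a * ⁅y, b⁆ * a⁻¹) by simp only [commutatorElement_def]; group]
    exact mul_mem (ha y hy) ((inferInstance : Subgroup.Normal _).conj_mem _ (hb y hy) a)
  inv_mem' := fun {a} ha y hy => by
    rw [show ⁅y, a⁻¹⁆ = a⁻¹ * ⁅y, a⁆⁻¹ * a⁻¹⁻¹ by simp only [commutatorElement_def]; group]
    exact (inferInstance : Subgroup.Normal _).conj_mem _ (inv_mem (ha y hy)) a⁻¹

/-- The conjugates of `x` under a term of the lower central series. -/
def classPart (x : G) (i : ℕ) : Set G :=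
  (fun y => y * x * y⁻¹) '' ((⊤ : Subgroup G).lowerCentralSeries i : Set G)

variable [Finite G] {p : ℕ} [hp : Fact p.Prime]

theorem classPart_pow (hG : IsPGroup p G) (x : G) (i : ℕ) : ∃ n, (classPart x i).ncard = p ^ n := by
  set L := (⊤ : Subgroup G).lowerCentralSeries i with hL
  letI : MulAction L G := MulAction.compHom G ((MulAut.conj (G := G)).comp L.subtype)
  obtain ⟨n, hn⟩ := (hG.to_subgroup L).card_orbit x
  refine ⟨n, ?_⟩
  rw [← hn, Nat.card_coe_set_eq]
  congr 1
  ext z
  constructor
  · rintro ⟨y, hy, rfl⟩; exact ⟨⟨y, hy⟩, rfl⟩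
  · rintro ⟨⟨y, hy⟩, rfl⟩; exact ⟨y, hy, rfl⟩

open scoped Classical in
theorem pow_factors_le (hG : IsPGroup p G) (x : G) (j : ℕ) : ∀ k i : ℕ, i + k = j →
    p ^ ((Finset.Ico i j).filter (fun t => x ∉ factorCentralizer t)).card ≤ (classPart x i).ncard := by
  intro k
  induction k with
  | zero =>
    intro i hi
    rw [Finset.Ico_eq_empty (by omega), Finset.filter_empty, Finset.card_empty, pow_zero]
    exact (Set.ncard_pos (Set.toFinite _)).2 ⟨1 * x * 1⁻¹, 1, one_mem _, rfl⟩
  | succ k ih =>
    intro i hi
    have h := ih (i + 1) (by omega)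
    have hsub : classPart x (i + 1) ⊆ classPart x i :=
      Set.image_mono ((⊤ : Subgroup G).lowerCentralSeries_antitone (Nat.le_succ i))
    have hle := Set.ncard_le_ncard hsub (Set.toFinite _)
    rw [← Finset.insert_Ico_add_one_left_eq_Ico (show i < j by omega), Finset.filter_insert]
    by_cases hx : x ∈ factorCentralizer i
    · rw [if_neg (not_not_intro hx)]
      exact h.trans hle
    · rw [if_pos hx, Finset.card_insert_of_notMem (by simp), pow_succ]
      obtain ⟨m, hm⟩ := classPart_pow hG x i
      obtain ⟨n, hn⟩ := classPart_pow hG x (i + 1)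
      have hlt : n < m := by
        by_contra hnm
        refine hx fun y hy => ?_
        have heq : classPart x (i + 1) = classPart x i := Set.eq_of_subset_of_ncard_le hsub
          (by rw [hm, hn]; exact Nat.pow_le_pow_right hp.out.pos (by omega)) (Set.toFinite _)
        obtain ⟨l, hl, hly⟩ : y * x * y⁻¹ ∈ classPart x (i + 1) := heq ▸ ⟨y, hy, rfl⟩
        have : ⁅y, x⁆ = ⁅l, x⁆ := by
          simp only at hly
          rw [commutatorElement_def, commutatorElement_def, hly]
        rw [this]
        exact Subgroup.commutator_mem_commutator hl (Subgroup.mem_top x)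
      calc _ ≤ p ^ n * p := Nat.mul_le_mul_right _ (h.trans_eq hn)
        _ = p ^ (n + 1) := (pow_succ p n).symm
        _ ≤ p ^ m := Nat.pow_le_pow_right hp.out.pos hlt
        _ = _ := hm.symm

/-- If G is a finite p-group in which every conjugacy class has at most p^b elements (every element has centralizer of index at most p^b), then G is abelian when b = 0, and when b ≥ 1 its nilpotency class c satisfies (c − 1)(p − 1) < bp, that is c < bp/(p − 1) + 1, and hence c ≤ 2b. -/
theorem result {G : Type*} [Group G] [Finite G] {p : ℕ} [Fact p.Prime] (hG : IsPGroup p G) (b : ℕ) (hb : ∀ x : G, (Subgroup.centralizer ({x} : Set G)).index ≤ p ^ b) : ∃ c : ℕ, (⊤ : Subgroup G).lowerCentralSeries c = ⊥ ∧ (b ≠ 0 → (c - 1) * (p - 1) < b * p ∧ c ≤ 2 * b) ∧ (b = 0 → c ≤ 1) := by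
  classical
  haveI := hG.isNilpotent
  set c := Group.nilpotencyClass G with hc
  refine ⟨c, Subgroup.lowerCentralSeries_nilpotencyClass, ?_, ?_⟩
  swap
  · intro hb0
    rw [← Subgroup.lowerCentralSeries_eq_bot_iff_nilpotencyClass_le, Subgroup.top_lowerCentralSeries_one,
      commutator_def, eq_bot_iff, Subgroup.commutator_le]
    intro x _ y _
    rw [Subgroup.mem_bot, commutatorElement_eq_one_iff_mul_comm]
    have h1 := hb y
    rw [hb0, pow_zero] at h1
    have htop : Subgroup.centralizer ({y} : Set G) = ⊤ :=
      Subgroup.index_eq_one.1 (le_antisymm h1 (Nat.one_le_iff_ne_zero.2 Subgroup.index_ne_zero_of_finite))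
    exact Subgroup.mem_centralizer_singleton_iff.1 (htop ▸ Subgroup.mem_top x)
  intro hb0
  have hp2 := (Fact.out : p.Prime).two_le
  rcases Nat.lt_or_ge c 2 with hc2 | hc2
  · refine ⟨?_, by omega⟩
    rw [show c - 1 = 0 by omega, zero_mul]
    exact Nat.mul_pos (Nat.pos_of_ne_zero hb0) (by omega)
  set L := fun i => (⊤ : Subgroup G).lowerCentralSeries i with hL
  -- the centralisers are proper
  have hprop : ∀ i < c - 1, Nat.card (factorCentralizer (G := G) i) * p ≤ Nat.card G := by
    intro i hi
    have hne : factorCentralizer (G := G) i ≠ ⊤ := fun htop => by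
      have heq : L (i + 1) ≤ L (i + 2) := by
        refine Subgroup.commutator_le.2 fun y hy x _ => ?_
        exact (htop ▸ Subgroup.mem_top x : x ∈ factorCentralizer (G := G) i) y hy
      have hconst : ∀ k, L (i + 1) ≤ L (i + 1 + k) := by
        intro k
        induction k with
        | zero => exact le_rfl
        | succ k ih =>
          refine heq.trans ?_
          rw [show i + 2 = (i + 1) + 1 by omega, show i + 1 + (k + 1) = (i + 1 + k) + 1 by omega]
          exact Subgroup.commutator_mono ih le_rfl
      have hbot : L (i + 1) = ⊥ := by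
        refine eq_bot_iff.2 ((hconst (c - (i + 1))).trans ?_)
        rw [show i + 1 + (c - (i + 1)) = c by omega]
        exact Subgroup.lowerCentralSeries_nilpotencyClass.le
      have := Subgroup.lowerCentralSeries_eq_bot_iff_nilpotencyClass_le.1 hbot
      omega
    obtain ⟨k, hk⟩ := (hG.index (factorCentralizer (G := G) i))
    rw [← (factorCentralizer (G := G) i).card_mul_index, hk]
    refine Nat.mul_le_mul_left _ (Nat.le_self_pow ?_ p)
    rintro rfl
    exact hne (Subgroup.index_eq_one.1 (by rw [hk, pow_zero]))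
  -- at most `b` proper steps for each element
  haveI := Fintype.ofFinite G
  set F := fun x : G => (Finset.range (c - 1)).filter (fun t => x ∉ factorCentralizer t) with hF
  have hbound : ∀ x, (F x).card ≤ b := fun x => by
    have h := pow_factors_le hG x (c - 1) (c - 1) 0 (by omega)
    rw [← Finset.range_eq_Ico] at h
    have hcl : (classPart x 0).ncard ≤ (Subgroup.centralizer ({x} : Set G)).index := by
      have hsub : classPart x 0 ⊆ Set.range fun q : G ⧸ Subgroup.centralizer ({x} : Set G) => q.out * x * q.out⁻¹ := by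
        rintro z ⟨y, -, rfl⟩
        refine ⟨(y : G ⧸ Subgroup.centralizer ({x} : Set G)), ?_⟩
        obtain ⟨h, hh⟩ := QuotientGroup.mk_out_eq_mul (Subgroup.centralizer ({x} : Set G)) y
        simp only [hh, mul_inv_rev]
        rw [show y * h.1 * x * (h.1⁻¹ * y⁻¹) = y * (h.1 * x * h.1⁻¹) * y⁻¹ by group,
          Subgroup.mem_centralizer_singleton_iff.1 h.2, mul_inv_cancel_right]
      refine (Set.ncard_le_ncard hsub (Set.toFinite _)).trans ?_
      rw [← Nat.card_coe_set_eq]
      exact Finite.card_range_le _
    exact (Nat.pow_le_pow_iff_right (Fact.out : p.Prime).one_lt).1 (h.trans (hcl.trans (hb x)))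
  have hupper : ∑ x : G, (F x).card ≤ (Nat.card G - 1) * b := by
    have h1 : (F 1).card = 0 := by
      rw [Finset.card_eq_zero, Finset.filter_eq_empty_iff]
      exact fun t _ h => h (one_mem _)
    rw [← Finset.sum_erase (f := fun x => (F x).card) Finset.univ h1]
    refine (Finset.sum_le_card_nsmul _ _ b fun x _ => hbound x).trans ?_
    rw [Finset.card_erase_of_mem (Finset.mem_univ _), Finset.card_univ, Nat.card_eq_fintype_card, smul_eq_mul]
  have hlower : (c - 1) * (Nat.card G * (p - 1)) ≤ (∑ x : G, (F x).card) * p := by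
    simp only [hF, Finset.card_filter]
    rw [Finset.sum_comm, Finset.sum_mul]
    refine le_trans (le_of_eq ?_) (Finset.card_nsmul_le_sum _ _ (Nat.card G * (p - 1)) fun t ht => ?_)
    · rw [Finset.card_range, smul_eq_mul]
    · rw [← Finset.card_filter]
      have h1 := Finset.card_filter_add_card_filter_not (s := (Finset.univ : Finset G)) (fun x => x ∈ factorCentralizer t)
      rw [Finset.card_univ, ← Nat.card_eq_fintype_card] at h1
      have h2 : (Finset.univ.filter fun x : G => x ∈ factorCentralizer t).card = Nat.card (factorCentralizer (G := G) t) := by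
        rw [Nat.card_eq_fintype_card, Fintype.card_subtype]
      have h3 := hprop t (Finset.mem_range.1 ht)
      rw [h2] at h1
      rw [Nat.mul_sub_one, Nat.sub_le_iff_le_add]
      nlinarith
  have hfin : (c - 1) * (p - 1) < b * p := by
    have hpos : 0 < Nat.card G := Nat.card_pos
    have hbp : 0 < b * p := Nat.mul_pos (Nat.pos_of_ne_zero hb0) (by omega)
    have hm := hlower.trans (Nat.mul_le_mul_right p hupper)
    refine Nat.lt_of_mul_lt_mul_left (a := Nat.card G) ?_
    calc Nat.card G * ((c - 1) * (p - 1)) = (c - 1) * (Nat.card G * (p - 1)) := by ring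
      _ ≤ (Nat.card G - 1) * b * p := hm
      _ = (Nat.card G - 1) * (b * p) := mul_assoc _ _ _
      _ < Nat.card G * (b * p) := Nat.mul_lt_mul_of_pos_right (by omega) hbp
  refine ⟨hfin, ?_⟩
  obtain ⟨r, hr⟩ : ∃ r, p = r + 2 := ⟨p - 2, by omega⟩
  obtain ⟨e, he⟩ : ∃ e, c = e + 1 := ⟨c - 1, by omega⟩
  rw [hr, he] at hfin
  simp only [Nat.add_sub_cancel, show r + 2 - 1 = r + 1 by omega] at hfin
  nlinarith

end Cfsg.Agent.S3778
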