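import Cfsg.Statements.S3780
import Cfsg.Agent.Lib.PGroup.Basic
import Mathlib.Algebra.CharP.Lemmas

set_option autoImplicit false
open Cfsg

namespace Cfsg.Agent.S3780

open scoped Classical in
/-- A finite `p`-group of order dividing `p ^ m` is generated by `m` elements. -/
theorem exists_generators {Q : Type*} [Group Q] [Finite Q] {p : ℕ} [Fact p.Prime] :
    ∀ m : ℕ, ∀ H : Subgroup Q, H.index ∣ p ^ m → ∃ S : Finset Q, S.card ≤ m ∧ H ⊔ Subgroup.closure (S : Set Q) = ⊤ := by
  intro m
  induction m with
  | zero =>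
    intro H h
    refine ⟨∅, le_rfl, ?_⟩
    rw [pow_zero, Nat.dvd_one, Subgroup.index_eq_one] at h
    simp [h]
  | succ m ih =>
    intro H h
    by_cases htop : H = ⊤
    · exact ⟨∅, by simp, by simp [htop]⟩
    obtain ⟨x, -, hx⟩ := SetLike.exists_of_lt (lt_top_iff_ne_top.mpr htop)
    set H' := H ⊔ Subgroup.zpowers x
    have hlt : H < H' := SetLike.lt_iff_le_and_exists.mpr
      ⟨le_sup_left, x, Subgroup.mem_sup_right (Subgroup.mem_zpowers x), hx⟩
    obtain ⟨k, hk, hkeq⟩ := (Nat.dvd_prime_pow Fact.out).mp h
    obtain ⟨k', hk', hkeq'⟩ := (Nat.dvd_prime_pow Fact.out).mp ((Subgroup.index_dvd_of_le hlt.le).trans h)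
    have hlt' : H'.index < H.index := Subgroup.index_strictAnti hlt
    rw [hkeq, hkeq'] at hlt'
    have hkk := (Nat.pow_lt_pow_iff_right (Fact.out : p.Prime).one_lt).mp hlt'
    obtain ⟨S, hS, hSt⟩ := ih H' (hkeq' ▸ pow_dvd_pow p (by omega))
    refine ⟨insert x S, (Finset.card_insert_le x S).trans (by omega), ?_⟩
    rw [Finset.coe_insert, ← hSt, Set.insert_eq, Subgroup.closure_union, ← Subgroup.zpowers_eq_closure, sup_assoc]


/-- Let V be a finite abelian p-group and α an automorphism of V of order p whose fixed-point subgroup has order p^n. Then V can be generated by pn elements: some subset of V with at most pn elements generates V. -/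
theorem result {V : Type*} [CommGroup V] [Finite V] {p : ℕ} [Fact p.Prime] (hV : IsPGroup p V) (α : MulAut V) (hα : orderOf α = p) (n : ℕ) (hfix : Nat.card {v : V // α v = v} = p ^ n) : ∃ S : Finset V, S.card ≤ p * n ∧ Subgroup.closure (S : Set V) = ⊤ := by
  classical
  set f : V →* V := powMonoidHom p
  let W : Subgroup V := f.ker
  have hWmem : ∀ v : V, v ∈ W ↔ v ^ p = 1 := fun v => Iff.rfl
  -- the fixed-point-free bound on the elements of order dividing `p`
  let β : AddMonoid.End (Additive W) := AddMonoidHom.mk'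
    (fun w => Additive.ofMul (⟨α (Additive.toMul w : W) / (Additive.toMul w : W), by
      rw [hWmem, div_pow, ← map_pow, (hWmem _).mp (Additive.toMul w).2, map_one, div_one]⟩ : W))
    (fun a b => by
      apply Additive.toMul.injective
      apply Subtype.ext
      simp [map_mul, div_mul_div_comm])
  have hone : ∀ w : W, ((Additive.toMul ((β + 1) (Additive.ofMul w)) : W) : V) = α w := fun w => by
    show α (w : V) / (w : V) * (w : V) = α w
    exact div_mul_cancel _ _
  have hiter : ∀ (k : ℕ) (w : W), ((Additive.toMul (((β + 1) ^ k) (Additive.ofMul w)) : W) : V) = (α ^ k) w := by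
    intro k
    induction k with
    | zero => intro w; rfl
    | succ k ih =>
      intro w
      rw [pow_succ', pow_succ']
      show ((Additive.toMul ((β + 1) (((β + 1) ^ k) (Additive.ofMul w))) : W) : V) = α ((α ^ k) w)
      rw [← ih w, ← hone]
      rfl
  have hαp : (β + 1) ^ p = 1 := by
    refine AddMonoidHom.ext fun w => ?_
    apply Additive.toMul.injective
    apply Subtype.ext
    exact (hiter p (Additive.toMul w)).trans (by rw [← hα, pow_orderOf_eq_one]; rfl)
  have hβp : β ^ p = 0 := by
    obtain ⟨r, hr⟩ := Commute.exists_add_pow_prime_eq (Fact.out : p.Prime) (Commute.one_right β)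
    rw [hαp, one_pow] at hr
    have hp0 : (p : AddMonoid.End (Additive W)) = 0 := by
      refine AddMonoidHom.ext fun w => ?_
      show (p : AddMonoid.End (Additive W)) w = (0 : AddMonoid.End (Additive W)) w
      rw [AddMonoid.End.natCast_apply]
      apply Additive.toMul.injective
      apply Subtype.ext
      exact (hWmem _).mp (Additive.toMul w).2
    rw [hp0, zero_mul, zero_mul, zero_mul, add_zero] at hr
    exact add_eq_right.mp hr.symm
  have hker : ∀ k : ℕ, Nat.card (AddMonoidHom.ker (β ^ k)) ∣ p ^ (n * k) := by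
    intro k
    induction k with
    | zero =>
      have h1 : Nat.card (AddMonoidHom.ker (β ^ 0)) = 1 :=
        Nat.card_eq_one_iff_unique.mpr ⟨⟨fun a b =>
          Subtype.ext ((show a.1 = 0 from a.2).trans (show b.1 = 0 from b.2).symm)⟩, ⟨0⟩⟩
      exact h1.dvd.trans (one_dvd _)
    | succ k ih =>
      let g : AddMonoidHom.ker (β ^ (k + 1)) →+ AddMonoidHom.ker (β ^ k) :=
        (β.comp (AddMonoidHom.ker (β ^ (k + 1))).subtype).codRestrict _ fun w => by
          have h1 : (β ^ (k + 1)) w.1 = 0 := w.2
          exact (congrArg (fun φ : AddMonoid.End (Additive W) => φ w.1) (pow_succ β k)).symm.trans h1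
      have h2 : Nat.card g.ker ∣ p ^ n := by
        let e : g.ker → {v : V // α v = v} := fun w => ⟨((Additive.toMul (w.1.1) : W) : V),
          div_eq_one.mp (congrArg (fun z : AddMonoidHom.ker (β ^ k) => ((Additive.toMul z.1 : W) : V)) w.2)⟩
        have hfixp : IsPGroup p (MonoidHom.eqLocus α.toMonoidHom (MonoidHom.id V)) := hV.to_subgroup _
        obtain ⟨i, hi⟩ := IsPGroup.iff_card.mp (hV.to_subgroup
          ((MonoidHom.eqLocus α.toMonoidHom (MonoidHom.id V)) ⊓ W))
        have h3 : Nat.card g.ker ≤ p ^ n := hfix ▸ Nat.card_le_card_of_injective e (fun a b h => by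
          have h' : ((Additive.toMul a.1.1 : W) : V) = ((Additive.toMul b.1.1 : W) : V) := by
            have h2 := congrArg Subtype.val h
            exact h2
          exact Subtype.ext (Subtype.ext (Additive.toMul.injective (Subtype.ext h'))))
        have hWp : IsPGroup p W := hV.to_subgroup W
        obtain ⟨l, hl⟩ := IsPGroup.iff_card.mp hWp
        have h4 : Nat.card g.ker ∣ p ^ l := by
          refine (AddSubgroup.card_addSubgroup_dvd_card g.ker).trans
            ((AddSubgroup.card_addSubgroup_dvd_card _).trans (dvd_of_eq ?_))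
          rw [← hl]; exact Nat.card_congr Additive.toMul
        obtain ⟨j, -, hj⟩ := (Nat.dvd_prime_pow Fact.out).mp h4
        rw [hj] at h3 ⊢
        exact pow_dvd_pow p ((Nat.pow_le_pow_iff_right (Fact.out : p.Prime).one_lt).mp h3)
      rw [Nat.mul_succ, pow_add p, ← g.ker.card_mul_index, AddSubgroup.index_ker, mul_comm (p ^ (n * k))]
      exact mul_dvd_mul h2 ((AddSubgroup.card_addSubgroup_dvd_card _).trans ih)
  have hW : Nat.card W ∣ p ^ (p * n) := by
    have h := hker p
    have htop : AddMonoidHom.ker (β ^ p) = ⊤ := by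
      rw [hβp]; ext w; exact ⟨fun _ => trivial, fun _ => rfl⟩
    rw [htop, mul_comm n p, AddSubgroup.card_top] at h
    exact (Nat.card_congr Additive.toMul).symm ▸ h
  have hidx : f.range.index ∣ p ^ (p * n) := by
    have e1 := f.ker.card_mul_index
    have e2 := f.range.card_mul_index
    rw [Subgroup.index_ker, mul_comm] at e1
    rw [← Nat.eq_of_mul_eq_mul_left Nat.card_pos (e1.trans e2.symm)]
    exact hW
  obtain ⟨S, hS, hSt⟩ := exists_generators (p * n) f.range hidx
  refine ⟨S, hS, frattini_nongenerating ?_⟩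
  rw [sup_comm, eq_top_iff, ← hSt]
  refine sup_le_sup_right ?_ _
  rintro _ ⟨v, rfl⟩
  exact Cfsg.Lib.PGroup.pow_mem_frattini hV v

end Cfsg.Agent.S3780
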