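import Cfsg.Statements.S3782
import Cfsg.Agent.S3779
import Cfsg.Agent.Lib.PGroup.FrattiniStab
import Cfsg.Agent.Lib.Core.PSolvable
import Cfsg.Agent.Lib.Core.Cores
-- import your own Cfsg.Agent.* helpers here

set_option autoImplicit false
open Cfsg

namespace Cfsg.Agent.S3782

open Subgroup Cfsg.Lib.Lie Cfsg.Agent.S3779
open scoped TensorProduct commutatorElement

section Fixed

variable {G : Type} [Group G] [Finite G]

/-- Fixed points in a quotient by an invariant normal subgroup are at most as many as the fixed points. -/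
theorem card_fixed_quotient_le (α : MulAut G) (N : Subgroup G) [N.Normal]
    (ᾱ : MulAut (G ⧸ N)) (hᾱ : ∀ x : G, ᾱ x = (α x : G ⧸ N)) :
    Nat.card {y : G ⧸ N // ᾱ y = y} ≤ Nat.card {g : G // α g = g} := by
  let S := {x : G // x⁻¹ * α x ∈ N}
  let C := {g : G // α g = g}
  let D := {y : G ⧸ N // ᾱ y = y}
  let f : D × N → S := fun d => ⟨d.1.1.out * (d.2 : G), by
    have h : ((d.1.1.out * (d.2 : G) : G) : G ⧸ N) = d.1.1 := by
      rw [QuotientGroup.mk_mul_of_mem _ d.2.2, QuotientGroup.out_eq']
    rw [← QuotientGroup.eq, ← hᾱ, h]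
    exact d.1.2.symm⟩
  have hf : Function.Injective f := by
    intro a b h
    have h' : a.1.1.out * (a.2 : G) = b.1.1.out * (b.2 : G) := congrArg Subtype.val h
    have h1 := congrArg (fun x : G => (x : G ⧸ N)) h'
    simp only [QuotientGroup.mk_mul_of_mem _ a.2.2, QuotientGroup.mk_mul_of_mem _ b.2.2, QuotientGroup.out_eq'] at h1
    rw [h1] at h'
    exact Prod.ext (Subtype.ext h1) (Subtype.ext (mul_left_cancel h'))
  classical
  let ψ : S → N := fun s => ⟨_, s.2⟩
  let r : N → G := fun n => if h : ∃ s : S, ψ s = n then h.choose.1 else 1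
  let g : S → N × C := fun s => (ψ s, ⟨s.1 * (r (ψ s))⁻¹, by
    have h : ∃ t : S, ψ t = ψ s := ⟨s, rfl⟩
    have hr : r (ψ s) = h.choose.1 := dif_pos h
    have he : h.choose.1⁻¹ * α h.choose.1 = s.1⁻¹ * α s.1 := congrArg Subtype.val h.choose_spec
    have hs : α s.1 = s.1 * (h.choose.1⁻¹ * α h.choose.1) := by rw [he, mul_inv_cancel_left]
    rw [hr, map_mul, map_inv, hs]
    group⟩)
  have hg : Function.Injective g := by
    intro a b h
    have h1 := congrArg Prod.fst h
    have h2 : a.1 * (r (ψ a))⁻¹ = b.1 * (r (ψ b))⁻¹ := congrArg (fun z => (Prod.snd z).1) h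
    rw [show ψ a = ψ b from h1] at h2
    exact Subtype.ext (mul_right_cancel h2)
  have hle := (Nat.card_le_card_of_injective f hf).trans (Nat.card_le_card_of_injective g hg)
  rw [Nat.card_prod, Nat.card_prod, Nat.mul_comm (Nat.card N)] at hle
  exact Nat.le_of_mul_le_mul_right hle Nat.card_pos

/-- The automorphism of a quotient by an invariant subgroup. -/
noncomputable def quotAut (α : MulAut G) (N : Subgroup G) [N.Normal] (h : ∀ x ∈ N, α x ∈ N) : MulAut (G ⧸ N) :=
  MulEquiv.ofBijective (QuotientGroup.map N N (α : G →* G) (fun x hx => h x hx))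
    (Finite.injective_iff_bijective.1 (by
      refine (Finite.injective_iff_surjective).2 fun y => ?_
      obtain ⟨x, rfl⟩ := QuotientGroup.mk_surjective y
      exact ⟨((α.symm x : G) : G ⧸ N), congrArg (QuotientGroup.mk' N) (α.apply_symm_apply x)⟩))

theorem quotAut_mk (α : MulAut G) (N : Subgroup G) [N.Normal] (h : ∀ x ∈ N, α x ∈ N) (x : G) :
    quotAut α N h x = (α x : G ⧸ N) := rfl

theorem card_fixed_quotAut (α : MulAut G) (N : Subgroup G) [N.Normal] (h : ∀ x ∈ N, α x ∈ N) :
    Nat.card {y : G ⧸ N // quotAut α N h y = y} ≤ Nat.card {g : G // α g = g} :=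
  card_fixed_quotient_le α N _ (quotAut_mk α N h)

theorem quotAut_pow_eq_one {α : MulAut G} {p : ℕ} (hα : α ^ p = 1) (N : Subgroup G) [N.Normal]
    (h : ∀ x ∈ N, α x ∈ N) : quotAut α N h ^ p = 1 := by
  have key : ∀ (m : ℕ) (x : G), (quotAut α N h ^ m) (x : G ⧸ N) = ((α ^ m) x : G) := by
    intro m
    induction m with
    | zero => intro x; rfl
    | succ m ih => intro x; rw [pow_succ', pow_succ', MulAut.mul_apply, ih, quotAut_mk]; rfl
  refine MulEquiv.ext fun y => ?_
  obtain ⟨x, rfl⟩ := QuotientGroup.mk_surjective y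
  rw [key, hα]
  rfl

/-- The restriction to an invariant subgroup. -/
noncomputable def resAut (α : MulAut G) (N : Subgroup G) (h : ∀ x ∈ N, α x ∈ N) : MulAut N :=
  MulEquiv.ofBijective (((α : G →* G).comp N.subtype).codRestrict N (fun x => h x x.2))
    (Finite.injective_iff_bijective.1 fun a b hab => Subtype.ext (α.injective (congrArg Subtype.val hab)))

theorem resAut_apply (α : MulAut G) (N : Subgroup G) (h : ∀ x ∈ N, α x ∈ N) (x : N) :
    (resAut α N h x : G) = α x := rfl

theorem card_fixed_resAut (α : MulAut G) (N : Subgroup G) (h : ∀ x ∈ N, α x ∈ N) :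
    Nat.card {y : N // resAut α N h y = y} ≤ Nat.card {g : G // α g = g} :=
  Nat.card_le_card_of_injective (fun y => ⟨y.1.1, congrArg Subtype.val y.2⟩)
    fun a b h => Subtype.ext (Subtype.ext (congrArg Subtype.val h :))

theorem resAut_pow_eq_one {α : MulAut G} {p : ℕ} (hα : α ^ p = 1) (N : Subgroup G)
    (h : ∀ x ∈ N, α x ∈ N) : resAut α N h ^ p = 1 := by
  have key : ∀ (m : ℕ) (x : N), ((resAut α N h ^ m) x : G) = (α ^ m) x := by
    intro m
    induction m with
    | zero => intro x; rfl
    | succ m ih => intro x; rw [pow_succ', pow_succ', MulAut.mul_apply, MulAut.mul_apply, resAut_apply, ih]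
  exact MulEquiv.ext fun x => Subtype.ext ((key p x).trans (by rw [hα]; rfl))

theorem char_invariant (α : MulAut G) (N : Subgroup G) [hN : N.Characteristic] : ∀ x ∈ N, α x ∈ N :=
  fun x hx => (Subgroup.characteristic_iff_map_le.1 hN α) ⟨x, hx, rfl⟩

/-- The rank bound from the fixed points of an automorphism of order `p`. -/
theorem card_elementary_le {V : Type} [CommGroup V] [Finite V] {p n : ℕ} (hp : p.Prime)
    (hV : ∀ v : V, v ^ p = 1) (α : MulAut V) (hα : α ^ p = 1) (hfix : Nat.card {v : V // α v = v} ≤ p ^ n) :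
    Nat.card V ≤ p ^ (p * n) := by
  haveI := Fact.mk hp
  let A : AddMonoid.End (Additive V) := MonoidHom.toAdditive (α : V →* V)
  let β : AddMonoid.End (Additive V) := A - 1
  have hAm : ∀ (m : ℕ) (v : Additive V), (A ^ m) v = Additive.ofMul ((α ^ m) v.toMul) := by
    intro m
    induction m with
    | zero => intro v; rfl
    | succ m ih =>
      intro v
      rw [pow_succ', AddMonoid.End.coe_mul, Function.comp_apply, ih, pow_succ', MulAut.mul_apply]
      rfl
  have hA : (β + 1) ^ p = 1 := by
    rw [sub_add_cancel]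
    refine AddMonoidHom.ext fun v => ?_
    show (A ^ p) v = v
    rw [hAm p v, hα]
    rfl
  have hp0 : (p : AddMonoid.End (Additive V)) = 0 := by
    refine AddMonoidHom.ext fun w => ?_
    show (p : AddMonoid.End (Additive V)) w = (0 : AddMonoid.End (Additive V)) w
    rw [AddMonoid.End.natCast_apply]
    exact congrArg Additive.ofMul (hV w.toMul)
  have hβp : β ^ p = 0 := by
    obtain ⟨r, hr⟩ := Commute.exists_add_pow_prime_eq hp (Commute.one_right β)
    rw [hA, one_pow] at hr
    rw [hp0, zero_mul, zero_mul, zero_mul, add_zero] at hr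
    exact add_eq_right.mp hr.symm
  have hker1 : Nat.card (AddMonoidHom.ker β) ≤ p ^ n := by
    let e : AddMonoidHom.ker β → {v : V // α v = v} := fun w => ⟨w.1.toMul, by
      have h : A w.1 - w.1 = 0 := w.2
      exact congrArg Additive.toMul (sub_eq_zero.1 h)⟩
    refine le_trans (Nat.card_le_card_of_injective e fun a b h => Subtype.ext ?_) hfix
    have h1 : a.1.toMul = b.1.toMul := congrArg (fun z : {v : V // α v = v} => z.1) h
    exact h1
  have hk : ∀ k : ℕ, Nat.card (AddMonoidHom.ker (β ^ k)) ≤ p ^ (n * k) := by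
    intro k
    induction k with
    | zero =>
      rw [Nat.mul_zero, pow_zero]
      exact Finite.card_le_one_iff_subsingleton.2
        ⟨fun a b => Subtype.ext ((show a.1 = 0 from a.2).trans (show b.1 = 0 from b.2).symm)⟩
    | succ k ih =>
      let g : AddMonoidHom.ker (β ^ (k + 1)) →+ AddMonoidHom.ker (β ^ k) :=
        (β.comp (AddMonoidHom.ker (β ^ (k + 1))).subtype).codRestrict _ fun w => by
          have h1 : (β ^ (k + 1)) w.1 = 0 := w.2
          exact (congrArg (fun φ : AddMonoid.End (Additive V) => φ w.1) (pow_succ β k)).symm.trans h1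
      have hq : Nat.card (AddMonoidHom.ker (β ^ (k + 1)) ⧸ g.ker) ≤ p ^ (n * k) :=
        le_trans (Nat.card_le_card_of_injective _ (QuotientAddGroup.kerLift_injective g)) ih
      have hk2 : Nat.card g.ker ≤ p ^ n := by
        let e2 : g.ker → AddMonoidHom.ker β := fun w => ⟨w.1.1, congrArg Subtype.val w.2⟩
        refine le_trans (Nat.card_le_card_of_injective e2 fun a b h => Subtype.ext (Subtype.ext ?_)) hker1
        have h1 : a.1.1 = b.1.1 := congrArg (fun z : AddMonoidHom.ker β => z.1) h
        exact h1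
      have hc := (AddSubgroup.card_eq_card_quotient_mul_card_addSubgroup g.ker).le.trans (Nat.mul_le_mul hq hk2)
      rw [← pow_add] at hc
      rwa [show n * (k + 1) = n * k + n by ring]
  have h := hk p
  rw [hβp] at h
  rw [Nat.mul_comm p n]
  refine le_trans (le_of_eq (Nat.card_congr ?_)) h
  exact
    { toFun := fun v => ⟨Additive.ofMul v, rfl⟩
      invFun := fun w => w.1.toMul
      left_inv := fun _ => rfl
      right_inv := fun _ => rfl }

end Fixed

section Ring

universe u

variable {G : Type u} [Group G] [Finite G] {α : MulAut G} {c p : ℕ} [hp : Fact p.Prime]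

theorem nsmul_gr (i : ℕ) {x : G} (hx : x ∈ lcs G i) (m : ℕ) :
    m • gr i x hx = gr i (x ^ m) (pow_mem hx m) := by
  induction m with
  | zero => rw [zero_smul]; exact ((gr_eq_zero_iff _ _).2 (by rw [pow_zero]; exact one_mem _)).symm
  | succ m ih => rw [succ_nsmul, ih, ← gr_mul]; exact gr_congr _ _ _ (pow_succ x m).symm

/-- Higman's estimate: with fixed points killed by `N`, deep factors of the lower central series are
killed by `N * p ^ (f + 1)`. -/
theorem pow_mem_lcs_succ (hα : α ^ p = 1) {N f : ℕ}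
    (hN : ∀ a : LCRing G (f + 1), mu (p := p) α (f + 1) 1 a = a → N • a = 0)
    (hf : f = ∑ e ∈ Finset.range (2 ^ (p - 1) - 1), (p - 1) ^ e)
    (y : G) (hy : y ∈ lcs G f) : y ^ (N * p ^ (f + 1)) ∈ lcs G (f + 1) := by
  let pb := AdjoinRoot.powerBasis' (Polynomial.cyclotomic.monic p ℤ)
  let e := TensorProduct.equivFinsuppOfBasisLeft (N := LCRing G (f + 1)) pb.basis
  let T := CR p ⊗[ℤ] LCRing G (f + 1)
  have t_nsmul_lie : ∀ (m : ℕ) (x z : T), m • ⁅x, z⁆ = ⁅m • x, z⁆ := fun m x z =>
    (nsmul_lie (L := T) (M := T) x z m).symm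
  let I : LieIdeal ℤ T :=
    { carrier := {x | N • x = 0}
      add_mem' := fun {a b} (ha : N • a = 0) (hb : N • b = 0) => show N • (a + b) = 0 by
        rw [nsmul_add, ha, hb, add_zero]
      zero_mem' := nsmul_zero N
      smul_mem' := fun m {a} (ha : N • a = 0) => show N • (m • a) = 0 by
        rw [smul_comm, ha, smul_zero]
      lie_mem := fun {x a} (ha : N • a = 0) => show N • ⁅x, a⁆ = 0 by
        rw [t_lie_nsmul, ha, t_lie_zero] }
  let π : T →+ (T ⧸ I) := (LieSubmodule.Quotient.mk' I).toLinearMap.toAddMonoidHom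
  have hπ : ∀ x : T, π x = 0 ↔ N • x = 0 := fun x => LieSubmodule.Quotient.mk_eq_zero'.trans Iff.rfl
  have hπl : ∀ x z : T, π ⁅x, z⁆ = ⁅π x, π z⁆ := fun x z => rfl
  let A : ZMod p → AddSubgroup (T ⧸ I) := fun i => (eig (p := p) α (f + 1) i).map π
  have hA : IsFpfGrading A := by
    refine ⟨?_, ?_⟩
    · rw [eq_bot_iff]
      rintro _ ⟨v, hv, rfl⟩
      rw [AddSubgroup.mem_bot, hπ]
      rw [SetLike.mem_coe, mem_eig, w_zero, one_smul] at hv
      have hcomm : ∀ (x : T) i, e (ext α (f + 1) x) i = mu (p := p) α (f + 1) 1 (e x i) := by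
        intro x i
        induction x using TensorProduct.induction_on with
        | zero => simp
        | add a b ha hb => simp [map_add, ha, hb]
        | tmul r a =>
          rw [ext_tmul]
          simp only [e, TensorProduct.equivFinsuppOfBasisLeft_apply_tmul_apply]
          rw [map_zsmul]
      refine e.injective (Finsupp.ext fun i => ?_)
      rw [map_zero, Finsupp.zero_apply, map_nsmul, Finsupp.smul_apply]
      exact hN _ (by rw [← hcomm, hv])
    · rintro i j _ _ ⟨x, hx, rfl⟩ ⟨z, hz, rfl⟩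
      refine ⟨⁅x, z⁆, ?_, hπl x z⟩
      rw [SetLike.mem_coe, mem_eig] at hx hz ⊢
      rw [ext_lie, hx, hz, t_smul_lie_smul, w_add]
  have hchain : ∀ (m : List (ZMod p × T)) (u : T),
      π (chain u m) = chain (π u) (m.map fun q => (q.1, π q.2)) := by
    intro m
    induction m with
    | nil => intro u; rfl
    | cons q m ih => intro u; rw [List.map_cons, chain_cons, chain_cons, ih, hπl]
  have key : ∀ (ys : List G) (i : ZMod p) (u : T) (m : List (ZMod p × T)),
      u ∈ eig α (f + 1) i → (∀ q ∈ m, q.2 ∈ eig α (f + 1) q.1) → f ≤ m.length + ys.length →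
      (N * p ^ ys.length) • (ys.foldl (fun v y => ⁅v, (1 : CR p) ⊗ₜ[ℤ] cl (f + 1) 0 y⁆) (chain u m)) = 0 := by
    intro ys
    induction ys with
    | nil =>
      intro i u m hu hm hl
      rw [List.foldl_nil, List.length_nil, pow_zero, Nat.mul_one, ← hπ, hchain]
      refine chain_eq_zero hA (i := i) ⟨u, hu, rfl⟩ (fun q hq => ?_) ?_
      · obtain ⟨q', hq', rfl⟩ := List.mem_map.1 hq
        exact ⟨q'.2, hm q' hq', rfl⟩
      · rw [List.length_map, ← hf]
        simpa using hl
    | cons y ys ih =>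
      intro i u m hu hm hl
      rw [List.foldl_cons, List.length_cons, pow_succ, ← mul_assoc, mul_comm, ← smul_smul]
      set F := fun v : T => ys.foldl (fun v y => ⁅v, (1 : CR p) ⊗ₜ[ℤ] cl (f + 1) 0 y⁆) v
      have hadd : ∀ a b, F (a + b) = F a + F b := fun a b => fold_add _ ys a b
      let F' := AddMonoidHom.mk' F hadd
      show p • (N * p ^ ys.length) • F' ⁅chain u m, (1 : CR p) ⊗ₜ[ℤ] cl (f + 1) 0 y⁆ = 0
      rw [smul_comm, ← map_nsmul]
      rw [t_lie_nsmul]
      rw [← sum_comp' (α := α), t_lie_sum, map_sum, Finset.smul_sum]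
      refine Finset.sum_eq_zero fun j _ => ?_
      have h1 := ih i u (m ++ [(j, comp' α (cl (f + 1) 0 y) j)]) hu (fun q hq => by
        rcases List.mem_append.1 hq with hq | hq
        · exact hm q hq
        · rw [List.mem_singleton.1 hq]; exact comp'_mem hα _ j) (by simp at hl ⊢; omega)
      rw [chain_append] at h1
      exact h1
  have hiter : ∀ (x : G) (xs : List G), xs.length = f →
      (N * p ^ (f + 1)) • (iter x xs : LCRing G (f + 1)) = 0 := by
    intro x xs hlen
    have hz : p • ((N * p ^ xs.length) • ((1 : CR p) ⊗ₜ[ℤ] (iter x xs : LCRing G (f + 1)))) = 0 := by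
      have h1 : (1 : CR p) ⊗ₜ[ℤ] (iter x xs : LCRing G (f + 1)) =
          xs.foldl (fun v y => ⁅v, (1 : CR p) ⊗ₜ[ℤ] cl (f + 1) 0 y⁆) ((1 : CR p) ⊗ₜ[ℤ] cl (f + 1) 0 x) := by
        unfold iter
        clear hlen key
        generalize cl (f + 1) 0 x = a
        induction xs generalizing a with
        | nil => rfl
        | cons y ys ih => rw [List.foldl_cons, List.foldl_cons, ih, LieAlgebra.ExtendScalars.bracket_tmul, one_mul]
      let F' := AddMonoidHom.mk'
        (fun a : T => xs.foldl (fun v y => ⁅v, (1 : CR p) ⊗ₜ[ℤ] cl (f + 1) 0 y⁆) a)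
        (fun a b => fold_add _ xs a b)
      rw [h1]
      show p • (N * p ^ xs.length) • F' ((1 : CR p) ⊗ₜ[ℤ] cl (f + 1) 0 x) = 0
      rw [smul_comm, ← map_nsmul, ← sum_comp' (α := α), map_sum, Finset.smul_sum]
      exact Finset.sum_eq_zero fun j _ => key xs j _ [] (comp'_mem hα _ j) (by simp) (by simpa using hlen.ge)
    rw [smul_smul, TensorProduct.smul_tmul', TensorProduct.smul_tmul] at hz
    have hd : 0 < pb.dim := by
      simp only [pb, AdjoinRoot.powerBasis'_dim, Polynomial.natDegree_cyclotomic]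
      exact Nat.totient_pos.2 hp.out.pos
    have h2 := congrArg (fun v => e v ⟨0, hd⟩) hz
    simp only [e, TensorProduct.equivFinsuppOfBasisLeft_apply_tmul_apply, map_zero, Finsupp.zero_apply] at h2
    have h3 : pb.basis.repr 1 ⟨0, hd⟩ = 1 := by
      have : (1 : CR p) = pb.basis ⟨0, hd⟩ := by rw [pb.basis_eq_pow, pow_zero]
      rw [this, Module.Basis.repr_self, Finsupp.single_eq_same]
    rw [h3, one_smul, hlen, show p * (N * p ^ f) = N * p ^ (f + 1) by ring] at h2
    exact h2
  have hgen : ∀ k, ∀ y ∈ lcs G k, cl (f + 1) k y ∈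
      AddSubgroup.closure {v : LCRing G (f + 1) | ∃ x xs, List.length xs = k ∧ v = iter x xs} := by
    intro k
    induction k with
    | zero => intro y _; exact AddSubgroup.subset_closure ⟨y, [], rfl, rfl⟩
    | succ k ih =>
      intro y hy
      have hy' := (Subgroup.mem_lowerCentralSeries_succ_iff (⊤ : Subgroup G) k y).1 hy
      have hle : Subgroup.closure { x | ∃ a ∈ lcs G k, ∃ b ∈ (⊤ : Subgroup G), ⁅a, b⁆ = x } ≤ lcs G (k + 1) :=
        fun z hz => (Subgroup.mem_lowerCentralSeries_succ_iff (⊤ : Subgroup G) k z).2 hz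
      induction hy' using Subgroup.closure_induction with
      | mem z hz =>
        obtain ⟨a, ha, b, -, rfl⟩ := hz
        rw [show k + 1 = k + 0 + 1 from rfl, ← lc_bracket_cl (c := f + 1) (j := 0) (y := b) ha (Subgroup.mem_top b)]
        refine bracket_mem_of_closure (T := {cl (f + 1) 0 b}) ?_ (ih a ha) (AddSubgroup.subset_closure rfl)
        rintro _ ⟨x, xs, hl, rfl⟩ _ rfl
        refine AddSubgroup.subset_closure ⟨x, xs ++ [b], by simp [hl], ?_⟩
        unfold iter
        rw [List.foldl_append]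
        rfl
      | one => rw [cl_one]; exact zero_mem _
      | mul a b ha hb iha ihb => rw [cl_mul _ (hle ha) (hle hb)]; exact add_mem (iha (hle ha)) (ihb (hle hb))
      | inv a ha iha => rw [cl_inv _ (hle ha)]; exact neg_mem (iha (hle ha))
  have h1 : (N * p ^ (f + 1)) • cl (f + 1) f y = 0 := by
    have h := hgen f y hy
    generalize cl (f + 1) f y = v0 at h ⊢
    induction h using AddSubgroup.closure_induction with
    | mem v hv => obtain ⟨x, xs, hl, rfl⟩ := hv; exact hiter x xs hl
    | zero => exact smul_zero _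
    | add a b _ _ ha hb => rw [nsmul_add, ha, hb, add_zero]
    | neg a _ ha => rw [smul_neg, ha, neg_zero]
  have h3 := congrFun h1 ⟨f, Nat.lt_succ_self f⟩
  change (N * p ^ (f + 1)) • cl (f + 1) f y ⟨f, Nat.lt_succ_self f⟩ = 0 at h3
  rw [cl_apply f hy, dif_pos rfl, nsmul_gr] at h3
  exact (gr_eq_zero_iff f _).1 h3

end Ring

section PPart

/-- The iterated commutators of a subgroup with the whole group. -/
def itc {X : Type} [Group X] (A : Subgroup X) : ℕ → Subgroup X
  | 0 => A
  | j + 1 => ⁅itc A j, (⊤ : Subgroup X)⁆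

theorem itc_normal {X : Type} [Group X] (A : Subgroup X) [A.Normal] : ∀ j, (itc A j).Normal
  | 0 => (inferInstance : A.Normal)
  | j + 1 => by
    haveI := itc_normal A j
    exact Subgroup.commutator_normal (itc A j) ⊤

theorem itc_mono {X : Type} [Group X] {A B : Subgroup X} (h : A ≤ B) : ∀ j, itc A j ≤ itc B j
  | 0 => h
  | j + 1 => Subgroup.commutator_mono (itc_mono h j) le_rfl

theorem itc_itc {X : Type} [Group X] (A : Subgroup X) (i : ℕ) : ∀ j, itc (itc A i) j = itc A (i + j)
  | 0 => rfl
  | j + 1 => by show ⁅itc (itc A i) j, (⊤ : Subgroup X)⁆ = _; rw [itc_itc A i j]; rfl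

/-- Commutating with a term of the lower central series is at least as deep as iterating. -/
theorem commutator_lcs_le_itc {X : Type} [Group X] :
    ∀ (j : ℕ) (A : Subgroup X), A.Normal → ⁅A, lcs X j⁆ ≤ itc A (j + 1) := by
  intro j
  induction j with
  | zero => intro A _; exact le_rfl
  | succ j ih =>
    intro A hAn
    haveI := itc_normal A (j + 2)
    set M := itc A (j + 1 + 1)
    set φ := QuotientGroup.mk' M
    have hA1 : (itc A 1).Normal := itc_normal A 1
    have h1 : ⁅⁅(⊤ : Subgroup X).map φ, A.map φ⁆, (lcs X j).map φ⁆ = ⊥ := by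
      rw [← Subgroup.map_commutator, ← Subgroup.map_commutator, Subgroup.map_eq_bot_iff, QuotientGroup.ker_mk']
      rw [Subgroup.commutator_comm ⊤]
      refine (ih (itc A 1) hA1).trans (le_of_eq ?_)
      rw [itc_itc]
      congr 1
      omega
    have h2 : ⁅⁅A.map φ, (lcs X j).map φ⁆, (⊤ : Subgroup X).map φ⁆ = ⊥ := by
      rw [← Subgroup.map_commutator, ← Subgroup.map_commutator, Subgroup.map_eq_bot_iff, QuotientGroup.ker_mk']
      exact Subgroup.commutator_mono (ih A hAn) le_rfl
    have h := Subgroup.commutator_commutator_eq_bot_of_rotate h1 h2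
    rw [← Subgroup.map_commutator, ← Subgroup.map_commutator, Subgroup.map_eq_bot_iff, QuotientGroup.ker_mk'] at h
    rw [Subgroup.commutator_comm]
    exact h

variable {X : Type} [Group X] [Finite X] {p n : ℕ} [hp : Fact p.Prime]

/-- The image of the power map on an abelian subgroup. -/
def powSub (A : Subgroup X) (hA : ∀ a ∈ A, ∀ b ∈ A, a * b = b * a) (m : ℕ) : Subgroup X where
  carrier := {x | ∃ a ∈ A, a ^ m = x}
  one_mem' := ⟨1, one_mem A, one_pow m⟩
  mul_mem' := by
    rintro _ _ ⟨a, ha, rfl⟩ ⟨b, hb, rfl⟩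
    exact ⟨a * b, mul_mem ha hb, (show Commute a b from hA a ha b hb).mul_pow m⟩
  inv_mem' := by
    rintro _ ⟨a, ha, rfl⟩
    exact ⟨a⁻¹, inv_mem ha, inv_pow a m⟩

theorem mem_powSub {A : Subgroup X} {hA : ∀ a ∈ A, ∀ b ∈ A, a * b = b * a} {m : ℕ} {x : X} :
    x ∈ powSub A hA m ↔ ∃ a ∈ A, a ^ m = x := Iff.rfl

theorem powSub_normal (A : Subgroup X) [hn : A.Normal] (hA : ∀ a ∈ A, ∀ b ∈ A, a * b = b * a) (m : ℕ) :
    (powSub A hA m).Normal :=
  ⟨fun x ⟨a, ha, he⟩ g => ⟨g * a * g⁻¹, hn.conj_mem a ha g, by rw [conj_pow, he]⟩⟩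

theorem powSub_le (A : Subgroup X) (hA : ∀ a ∈ A, ∀ b ∈ A, a * b = b * a) (m : ℕ) : powSub A hA m ≤ A := by
  rintro _ ⟨a, ha, rfl⟩
  exact pow_mem ha m

omit [Finite X] in
theorem aut_pow_mem {α : MulAut X} {A : Subgroup X} (hα : ∀ a ∈ A, α a ∈ A)
    {hA : ∀ a ∈ A, ∀ b ∈ A, a * b = b * a} {m : ℕ} : ∀ x ∈ powSub A hA m, α x ∈ powSub A hA m := by
  rintro _ ⟨a, ha, rfl⟩
  exact ⟨α a, hα a ha, (map_pow α a m).symm⟩

/-- In a `p`-group, a proper inclusion of normal subgroups shrinks strictly under commutation. -/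
theorem not_le_commutator_sup (hX : IsPGroup p X) (D B : Subgroup X) [B.Normal]
    (h : D ≤ ⁅D, (⊤ : Subgroup X)⁆ ⊔ B) : D ≤ B := by
  haveI : Group.IsNilpotent (X ⧸ B) := (hX.to_quotient B).isNilpotent
  obtain ⟨m, hm⟩ := Subgroup.nilpotent_iff_lowerCentralSeries.1 (inferInstance : Group.IsNilpotent (X ⧸ B))
  set φ := QuotientGroup.mk' B
  have h1 : D.map φ ≤ ⁅D.map φ, (⊤ : Subgroup (X ⧸ B))⁆ := by
    refine (Subgroup.map_mono h).trans ?_
    rw [Subgroup.map_sup, Subgroup.map_commutator, QuotientGroup.map_mk'_self, sup_bot_eq]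
    exact Subgroup.commutator_mono le_rfl le_top
  have h2 : ∀ j, D.map φ ≤ lcs (X ⧸ B) j := by
    intro j
    induction j with
    | zero => exact le_top
    | succ j ih => exact h1.trans (Subgroup.commutator_mono ih le_rfl)
  have h3 : D.map φ = ⊥ := le_bot_iff.1 ((h2 m).trans hm.le)
  rw [Subgroup.map_eq_bot_iff, QuotientGroup.ker_mk'] at h3
  exact h3

/-- Unipotence: `p * n` commutations push an abelian invariant subgroup into its `p`-th powers. -/
theorem itc_le_powSub (hX : IsPGroup p X) (α : MulAut X) (hα : α ^ p = 1)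
    (hfix : Nat.card {x : X // α x = x} ≤ p ^ n) (A : Subgroup X) [hAn : A.Normal]
    (hA : ∀ a ∈ A, ∀ b ∈ A, a * b = b * a) (hAi : ∀ a ∈ A, α a ∈ A) :
    itc A (p * n) ≤ powSub A hA p := by
  set B := powSub A hA p
  haveI : B.Normal := powSub_normal A hA p
  have hBi : ∀ x ∈ B, α x ∈ B := aut_pow_mem hAi
  set V := A.map (QuotientGroup.mk' B)
  have hVc : ∀ a b : V, a * b = b * a := by
    rintro ⟨_, a, ha, rfl⟩ ⟨_, b, hb, rfl⟩
    exact Subtype.ext (by
      show QuotientGroup.mk' B a * QuotientGroup.mk' B b = QuotientGroup.mk' B b * QuotientGroup.mk' B a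
      rw [← map_mul, ← map_mul, hA a ha b hb])
  let _ : CommGroup V := { (inferInstance : Group V) with mul_comm := hVc }
  set ᾱ := quotAut α B hBi
  have hVi : ∀ x ∈ V, ᾱ x ∈ V := by
    rintro _ ⟨a, ha, rfl⟩
    exact ⟨α a, hAi a ha, (quotAut_mk α B hBi a).symm⟩
  have hcard : Nat.card V ≤ p ^ (p * n) := by
    refine card_elementary_le hp.out ?_ (resAut ᾱ V hVi) (resAut_pow_eq_one (quotAut_pow_eq_one hα B hBi) V hVi)
      (((card_fixed_resAut ᾱ V hVi).trans (card_fixed_quotAut α B hBi)).trans hfix)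
    rintro ⟨_, a, ha, rfl⟩
    refine Subtype.ext ?_
    show (QuotientGroup.mk' B a) ^ p = 1
    rw [← map_pow]
    exact (QuotientGroup.eq_one_iff _).2 ⟨a, ha, rfl⟩
  have hstep : ∀ j, itc A j ≤ B ∨
      p ^ j * Nat.card ((itc A j).map (QuotientGroup.mk' B)) ≤ Nat.card V := by
    intro j
    induction j with
    | zero => right; rw [pow_zero, one_mul]; exact le_rfl
    | succ j ih =>
      haveI := itc_normal A j
      have hle : itc A (j + 1) ≤ itc A j := Subgroup.commutator_le_left _ _
      rcases ih with h | h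
      · exact Or.inl (hle.trans h)
      by_cases hjB : itc A j ≤ B
      · exact Or.inl (hle.trans hjB)
      right
      set H := (itc A j).map (QuotientGroup.mk' B)
      set K := (itc A (j + 1)).map (QuotientGroup.mk' B)
      have hKH : K ≤ H := Subgroup.map_mono hle
      have hne : K ≠ H := by
        intro he
        refine hjB (not_le_commutator_sup hX _ B ?_)
        have := Subgroup.comap_mono (f := QuotientGroup.mk' B) he.ge
        rw [Subgroup.comap_map_eq, Subgroup.comap_map_eq, QuotientGroup.ker_mk'] at this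
        exact le_sup_left.trans this
      have hdvd := Subgroup.card_dvd_of_le hKH
      obtain ⟨s, hs⟩ := IsPGroup.iff_card.1 ((hX.to_quotient B).to_subgroup H)
      obtain ⟨t, ht⟩ := IsPGroup.iff_card.1 ((hX.to_quotient B).to_subgroup K)
      have hlt : t < s := by
        rw [hs, ht] at hdvd
        rcases Nat.lt_or_ge t s with hlt | hge
        · exact hlt
        · exact absurd (Subgroup.eq_of_le_of_card_ge hKH (by
            rw [hs, ht]; exact Nat.pow_le_pow_right hp.out.pos hge)) hne
      rw [hs] at h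
      rw [ht, ← pow_add]
      refine le_trans ?_ h
      rw [← pow_add]
      exact Nat.pow_le_pow_right hp.out.pos (by omega)
  rcases hstep (p * n) with h | h
  · exact h
  · have hpos : 0 < p ^ (p * n) := pow_pos hp.out.pos _
    have h1 : Nat.card ((itc A (p * n)).map (QuotientGroup.mk' B)) ≤ 1 :=
      Nat.le_of_mul_le_mul_left (by rw [mul_one]; exact h.trans hcard) hpos
    have h2 : (itc A (p * n)).map (QuotientGroup.mk' B) = ⊥ :=
      Subgroup.eq_bot_of_card_eq _ (le_antisymm h1 Nat.card_pos)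
    rw [Subgroup.map_eq_bot_iff, QuotientGroup.ker_mk'] at h2
    exact h2

theorem itc_le_powSub_pow (hX : IsPGroup p X) (α : MulAut X) (hα : α ^ p = 1)
    (hfix : Nat.card {x : X // α x = x} ≤ p ^ n) (A : Subgroup X) [hAn : A.Normal]
    (hA : ∀ a ∈ A, ∀ b ∈ A, a * b = b * a) (hAi : ∀ a ∈ A, α a ∈ A) :
    ∀ M, itc A (p * n * M) ≤ powSub A hA (p ^ M) := by
  intro M
  induction M with
  | zero => intro x hx; exact ⟨x, hx, by rw [pow_zero, pow_one]⟩
  | succ M ih =>
    rw [Nat.mul_succ, ← itc_itc]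
    set A' := powSub A hA (p ^ M)
    haveI : A'.Normal := powSub_normal A hA _
    have hA' : ∀ a ∈ A', ∀ b ∈ A', a * b = b * a := fun a ha b hb =>
      hA a (powSub_le A hA _ ha) b (powSub_le A hA _ hb)
    refine (itc_mono ih _).trans ((itc_le_powSub hX α hα hfix A' hA' (aut_pow_mem hAi)).trans ?_)
    rintro x ⟨a, ⟨b, hb, rfl⟩, rfl⟩
    exact ⟨b, hb, by rw [← pow_mul, pow_succ]⟩

theorem derived_le_lcs {G : Type} [Group G] : ∀ i, derivedSeries G i ≤ lcs G (2 ^ i - 1) := by
  intro i
  induction i with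
  | zero => exact le_top
  | succ i ih =>
    rw [derivedSeries_succ]
    refine (Subgroup.commutator_mono ih ih).trans ((commutator_lcs_le _ _).trans (le_of_eq ?_))
    congr 1
    have : 1 ≤ 2 ^ i := Nat.one_le_two_pow
    rw [pow_succ]
    omega

/-- Deep terms of the derived series have bounded class. -/
theorem derivedSeries_pgroup (hX : IsPGroup p X) (α : MulAut X) (hα : α ^ p = 1)
    (hfix : Nat.card {x : X // α x = x} ≤ p ^ n) (f : ℕ)
    (hf : f = ∑ e ∈ Finset.range (2 ^ (p - 1) - 1), (p - 1) ^ e) (Q : Subgroup X)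
    (hQ : Q = derivedSeries X (p * n * (n + f + 2))) : lcs Q (f + 1) = ⊥ := by
  have hf1 : 1 ≤ f := by
    rw [hf]
    have : 0 < 2 ^ (p - 1) - 1 := by
      have := Nat.one_lt_two_pow (n := p - 1) (by have := hp.out.two_le; omega)
      omega
    calc (1 : ℕ) = (p - 1) ^ 0 := (pow_zero _).symm
      _ ≤ _ := Finset.single_le_sum (f := fun e => (p - 1) ^ e) (fun _ _ => Nat.zero_le _) (Finset.mem_range.2 this)
  haveI hQc : Q.Characteristic := by rw [hQ]; infer_instance
  have hQi := char_invariant α Q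
  set β := resAut α Q hQi
  have hβ : β ^ p = 1 := resAut_pow_eq_one hα Q hQi
  have hQp : IsPGroup p Q := hX.to_subgroup Q
  have hβfix : Nat.card {x : Q // β x = x} ≤ p ^ n := (card_fixed_resAut α Q hQi).trans hfix
  have hN : ∀ a : LCRing Q (f + 1), mu (p := p) β (f + 1) 1 a = a → p ^ n • a = 0 := by
    intro a ha
    refine LCRing.ext fun k => ?_
    show p ^ n • a k = 0
    have hk := congrFun ha k
    rw [← gr_rep a k, nsmul_gr, gr_eq_zero_iff]
    set r : Q := rep a k
    have he : gr (k : ℕ) ((β ^ (1 : ZMod p).val) (rep a k)) (aut_mem _ (rep_mem a k)) =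
        gr (k : ℕ) (rep a k) (rep_mem a k) := by rw [gr_rep]; exact hk
    rw [gr_eq_iff, ZMod.val_one, pow_one] at he
    set N := lcs Q ((k : ℕ) + 1)
    have hNi : ∀ x ∈ N, β x ∈ N := fun x hx => map_lcs_le (β : Q →* Q) _ ⟨x, hx, rfl⟩
    set γ := quotAut β N hNi
    let C : Subgroup (Q ⧸ N) := γ.toMonoidHom.eqLocus (MonoidHom.id _)
    have hmem : ((r : Q) : Q ⧸ N) ∈ C := by
      show γ (r : Q ⧸ N) = r
      rw [quotAut_mk, QuotientGroup.eq]
      exact he
    have hCc : Nat.card C ≤ p ^ n := (card_fixed_quotAut β N hNi).trans hβfix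
    obtain ⟨s, hs⟩ := IsPGroup.iff_card.1 ((hQp.to_quotient N).to_subgroup C)
    rw [hs, Nat.pow_le_pow_iff_right hp.out.one_lt] at hCc
    rw [← QuotientGroup.eq_one_iff, QuotientGroup.mk_pow, ← orderOf_dvd_iff_pow_eq_one,
      ← Subgroup.orderOf_mk _ hmem]
    exact (_root_.orderOf_dvd_natCard _).trans (hs ▸ pow_dvd_pow p hCc)
  have hhig := pow_mem_lcs_succ hβ hN hf
  set Γ : ℕ → Subgroup X := fun j => (lcs Q j).map Q.subtype
  have hΓsucc : ∀ j, Γ (j + 1) = ⁅Γ j, Q⁆ := fun j => by
    show (⁅lcs Q j, (⊤ : Subgroup Q)⁆).map Q.subtype = _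
    rw [Subgroup.map_commutator, ← MonoidHom.range_eq_map, Subgroup.range_subtype]
  have hΓn : ∀ j, (Γ j).Normal := by
    intro j
    induction j with
    | zero =>
      show ((⊤ : Subgroup Q).map Q.subtype).Normal
      rw [← MonoidHom.range_eq_map, Subgroup.range_subtype]
      infer_instance
    | succ j ih => rw [hΓsucc]; exact Subgroup.commutator_normal _ _
  set K := Γ (f + 2)
  haveI : K.Normal := hΓn _
  have hΓi : ∀ j, ∀ x ∈ Γ j, α x ∈ Γ j := by
    rintro j _ ⟨x, hx, rfl⟩
    exact ⟨β x, map_lcs_le (β : Q →* Q) _ ⟨x, hx, rfl⟩, resAut_apply α Q hQi x⟩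
  set φ := QuotientGroup.mk' K
  have hφ := QuotientGroup.mk'_surjective K
  set Z := X ⧸ K
  have hZ : IsPGroup p Z := hX.to_quotient K
  set γ : MulAut Z := quotAut α K (hΓi _)
  set A := (Γ f).map φ
  haveI hAn : A.Normal := (hΓn f).map φ hφ
  have hA : ∀ a ∈ A, ∀ b ∈ A, a * b = b * a := by
    rintro _ ⟨_, ⟨a, ha, rfl⟩, rfl⟩ _ ⟨_, ⟨b, hb, rfl⟩, rfl⟩
    rw [← map_mul, ← map_mul]
    refine QuotientGroup.eq.2 ?_
    refine ⟨(a * b)⁻¹ * (b * a), ?_, rfl⟩
    have h1 : ⁅b⁻¹, a⁻¹⁆ ∈ lcs Q (f + f + 1) := commutator_mem_lcs (inv_mem hb) (inv_mem ha)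
    rw [show (a * b)⁻¹ * (b * a) = ⁅b⁻¹, a⁻¹⁆ by simp [commutatorElement_def, mul_assoc]]
    exact lcs_anti (by omega) h1
  have hAi : ∀ a ∈ A, γ a ∈ A := by
    rintro _ ⟨x, hx, rfl⟩
    exact ⟨α x, hΓi f x hx, (quotAut_mk α K (hΓi _) x).symm⟩
  set B := (Γ (f + 1)).map φ
  have hM : B ≤ powSub A hA (p ^ (n + f + 2)) := by
    rcases Nat.eq_zero_or_pos (p * n * (n + f + 2)) with h0 | h0
    · have hle := itc_le_powSub_pow hZ γ (quotAut_pow_eq_one hα K _) ((card_fixed_quotAut α K _).trans hfix) A hA hAi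
        (n + f + 2)
      rw [h0] at hle
      exact (Subgroup.map_mono (by rw [hΓsucc]; exact (haveI := hΓn f; Subgroup.commutator_le_left _ _))).trans hle
    refine le_trans ?_ (itc_le_powSub_pow hZ γ (quotAut_pow_eq_one hα K _) ((card_fixed_quotAut α K _).trans hfix)
      A hA hAi (n + f + 2))
    show (Γ (f + 1)).map φ ≤ _
    rw [hΓsucc, Subgroup.map_commutator]
    have hQle : Q.map φ ≤ lcs Z (p * n * (n + f + 2) - 1) := by
      refine (Subgroup.map_mono (hQ.le.trans (derived_le_lcs _))).trans ?_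
      show ((⊤ : Subgroup X).lowerCentralSeries _).map φ ≤ _
      rw [Subgroup.map_lowerCentralSeries, Subgroup.map_top_of_surjective φ hφ]
      exact lcs_anti (Nat.sub_le_sub_right (Nat.lt_two_pow_self).le 1)
    have h := (Subgroup.commutator_mono le_rfl hQle).trans (commutator_lcs_le_itc _ A hAn)
    rwa [Nat.sub_add_cancel h0] at h
  have hB : ∀ b ∈ B, ∃ c ∈ B, b = c ^ p := by
    intro b hb
    obtain ⟨a, ha, rfl⟩ := hM hb
    refine ⟨a ^ (p ^ (n + f + 1)), ?_, by rw [← pow_mul, ← pow_succ]⟩
    obtain ⟨_, ⟨x, hx, rfl⟩, rfl⟩ := ha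
    rw [← map_pow, ← map_pow]
    refine Subgroup.mem_map_of_mem φ (Subgroup.mem_map_of_mem _ ?_)
    rw [show n + f + 1 = n + (f + 1) from rfl, pow_add]
    exact hhig x hx
  have hBbot : B = ⊥ := by
    refine (Subgroup.eq_bot_iff_forall _).2 fun b hb => ?_
    have hm : ∀ m : ℕ, ∃ c ∈ B, b = c ^ p ^ m := by
      intro m
      induction m with
      | zero => exact ⟨b, hb, by rw [pow_zero, pow_one]⟩
      | succ m ih =>
        obtain ⟨c, hc, rfl⟩ := ih
        obtain ⟨d, hd, rfl⟩ := hB c hc
        exact ⟨d, hd, by rw [← pow_mul, pow_succ']⟩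
    obtain ⟨s, hs⟩ := IsPGroup.iff_card.1 hZ
    obtain ⟨c, -, rfl⟩ := hm s
    rw [← hs, pow_card_eq_one']
  have hstep : lcs Q (f + 1) ≤ lcs Q (f + 2) := by
    intro x hx
    have h : φ (x : X) ∈ B := ⟨(x : X), ⟨x, hx, rfl⟩, rfl⟩
    rw [hBbot, Subgroup.mem_bot] at h
    obtain ⟨y, hy, he⟩ := (QuotientGroup.eq_one_iff _).1 h
    exact Subtype.ext he ▸ hy
  have hall : ∀ k, lcs Q (f + 1) ≤ lcs Q (f + 1 + k) := by
    intro k
    induction k with
    | zero => exact le_rfl
    | succ k ih => exact hstep.trans (Subgroup.commutator_mono ih le_rfl)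
  obtain ⟨m, hm⟩ := Subgroup.nilpotent_iff_lowerCentralSeries.1 hQp.isNilpotent
  exact le_bot_iff.1 ((hall m).trans ((lcs_anti (Nat.le_add_left m (f + 1))).trans hm.le))

end PPart

section Solvable

theorem derived_le_map' {G : Type} [Group G] {a : ℕ} {O : Subgroup G} (h : derivedSeries G a ≤ O) :
    ∀ b, derivedSeries G (a + b) ≤ (derivedSeries O b).map O.subtype := by
  intro b
  induction b with
  | zero => rwa [derivedSeries_zero, ← MonoidHom.range_eq_map, range_subtype, Nat.add_zero]
  | succ b ih =>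
    rw [← Nat.add_assoc, derivedSeries_succ, derivedSeries_succ, map_commutator]
    exact commutator_mono ih ih

theorem derived_of_normal {G : Type} [Group G] (N : Subgroup G) [N.Normal] {a b : ℕ}
    (ha : derivedSeries (G ⧸ N) a = ⊥) (hb : derivedSeries N b = ⊥) : derivedSeries G (a + b) = ⊥ := by
  have h1 : derivedSeries G a ≤ N := by
    refine (QuotientGroup.ker_mk' N).le.trans' ?_
    rw [← Subgroup.map_eq_bot_iff]
    exact le_bot_iff.1 (ha ▸ map_derivedSeries_le_derivedSeries (QuotientGroup.mk' N) a)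
  have h2 := derived_le_map' h1 b
  rwa [hb, Subgroup.map_bot, le_bot_iff] at h2

theorem derived_mono_bot {G : Type} [Group G] {a b : ℕ} (h : derivedSeries G a = ⊥) (hab : a ≤ b) :
    derivedSeries G b = ⊥ :=
  le_bot_iff.1 ((derivedSeries_antitone G hab).trans h.le)

theorem derived_card {G : Type} [Group G] [Finite G] (hs : Group.IsSolvable G) :
    derivedSeries G (Nat.card G) = ⊥ := by
  have key : ∀ i, derivedSeries G i = ⊥ ∨ Nat.card (derivedSeries G i) + i ≤ Nat.card G := by
    intro i
    induction i with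
    | zero => right; rw [derivedSeries_zero, Subgroup.card_top]; omega
    | succ i ih =>
      rcases ih with h | h
      · exact Or.inl (derived_mono_bot h (by omega))
      by_cases hb : derivedSeries G i = ⊥
      · exact Or.inl (derived_mono_bot hb (by omega))
      right
      have hle : derivedSeries G (i + 1) ≤ derivedSeries G i := derivedSeries_antitone G (by omega)
      have hlt : Nat.card (derivedSeries G (i + 1)) < Nat.card (derivedSeries G i) := by
        refine lt_of_le_of_ne (Subgroup.card_le_of_le hle) fun he => hb ?_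
        have heq := Subgroup.eq_of_le_of_card_ge hle he.ge
        have hall : ∀ k, derivedSeries G (i + k) = derivedSeries G i := by
          intro k
          induction k with
          | zero => rfl
          | succ k ihk => rw [← Nat.add_assoc, derivedSeries_succ, ihk, ← derivedSeries_succ, heq]
        obtain ⟨m, hm⟩ := hs.solvable
        rw [← hall m]
        exact derived_mono_bot hm (by omega)
      omega
  rcases key (Nat.card G) with h | h
  · exact h
  · have := Nat.card_pos (α := derivedSeries G (Nat.card G))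
    omega

theorem derived_pgroup {X : Type} [Group X] [Finite X] {p n : ℕ} [hp : Fact p.Prime] (hX : IsPGroup p X)
    (α : MulAut X) (hα : α ^ p = 1) (hfix : Nat.card {x : X // α x = x} ≤ p ^ n) (f : ℕ)
    (hf : f = ∑ e ∈ Finset.range (2 ^ (p - 1) - 1), (p - 1) ^ e) :
    derivedSeries X (p * n * (n + f + 2) + (f + 1)) = ⊥ := by
  set Q := derivedSeries X (p * n * (n + f + 2)) with hQ
  have h := derived_le_map' (le_refl Q) (f + 1)
  have h2 : derivedSeries Q (f + 1) = ⊥ := by
    refine le_bot_iff.1 ((derived_le_lcs _).trans ?_)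
    refine (lcs_anti ?_).trans (derivedSeries_pgroup hX α hα hfix f hf Q rfl).le
    have := Nat.lt_two_pow_self (n := f + 1)
    omega
  rwa [h2, Subgroup.map_bot, le_bot_iff] at h

theorem solvable_bound {G : Type} [Group G] [Finite G] {p n : ℕ} [hp : Fact p.Prime] (hs : Group.IsSolvable G)
    (α : MulAut G) (hα : α ^ p = 1) (hfix : Nat.card {g : G // α g = g} = p ^ n) (f : ℕ)
    (hf : f = ∑ e ∈ Finset.range (2 ^ (p - 1) - 1), (p - 1) ^ e) :
    derivedSeries G (((p ^ (p * n)).factorial + (p * n * (n + f + 2) + (f + 1))) + f) = ⊥ := by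
  set N := Cfsg.pPrimeCore p G
  have hNi := char_invariant α N
  have hNfix : ∀ x : N, resAut α N hNi x = x → x = 1 := by
    intro x hx
    have hx' : (x : G) ∈ (α : G →* G).eqLocus (MonoidHom.id G) := congrArg Subtype.val hx
    have h1 : orderOf (x : G) ∣ p ^ n := by
      rw [← hfix, ← Subgroup.orderOf_mk _ hx']
      exact _root_.orderOf_dvd_natCard _
    have h2 : orderOf (x : G) ∣ Nat.card N := by
      rw [Subgroup.orderOf_coe]; exact _root_.orderOf_dvd_natCard _
    have h3 := Nat.dvd_gcd h2 h1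
    rw [Nat.Coprime.pow_right n (Cfsg.Lib.Core.pPrimeCore_coprime p G), Nat.dvd_one, orderOf_eq_one_iff] at h3
    exact Subtype.ext h3
  have hN : derivedSeries N f = ⊥ := by
    have hβ : resAut α N hNi ^ p = 1 := resAut_pow_eq_one hα N hNi
    rcases (Nat.dvd_prime hp.out).1 (orderOf_dvd_of_pow_eq_one hβ) with h1 | h1
    · rw [orderOf_eq_one_iff] at h1
      haveI : Subsingleton N := ⟨fun a b => by rw [hNfix a (by rw [h1]; rfl), hNfix b (by rw [h1]; rfl)]⟩
      exact Subsingleton.elim _ _
    · refine le_bot_iff.1 ((derived_le_lcs _).trans ?_)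
      refine (lcs_anti ?_).trans (le_of_eq (hf ▸ (Cfsg.Agent.S3779.result hp.out _ h1 hNfix).2.2))
      have := Nat.lt_two_pow_self (n := f)
      omega
  refine derived_of_normal N ?_ hN
  set H := G ⧸ N
  haveI hHs : Group.IsSolvable H := Group.isSolvable_of_surjective (QuotientGroup.mk'_surjective N)
  have hO : Cfsg.pPrimeCore p H = ⊥ := Cfsg.Lib.Core.pPrimeCore_quotient_eq_bot
  set β := quotAut α N hNi
  have hβfix : Nat.card {y : H // β y = y} ≤ p ^ n := (card_fixed_quotAut α N hNi).trans hfix.le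
  have hβ : β ^ p = 1 := quotAut_pow_eq_one hα N hNi
  set P := Cfsg.pCore p H
  have hP : IsPGroup p P := Cfsg.Lib.Core.pCore_isPGroup p H
  have hPi := char_invariant β P
  have hPd := derived_pgroup hP (resAut β P hPi) (resAut_pow_eq_one hβ P hPi)
    ((card_fixed_resAut β P hPi).trans hβfix) f hf
  refine derived_of_normal P ?_ hPd
  -- the action on the Frattini quotient of the core
  set F := frattini P
  have hFi := char_invariant (resAut β P hPi) F
  set V := P ⧸ F
  set βV := quotAut (resAut β P hPi) F hFi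
  have hVle : Nat.card V ≤ p ^ (p * n) := by
    haveI : Fact p.Prime := hp
    have hVc : ∀ a b : V, a * b = b * a := by
      intro a b
      induction a using QuotientGroup.induction_on with | _ a => ?_
      induction b using QuotientGroup.induction_on with | _ b => ?_
      rw [← QuotientGroup.mk_mul, ← QuotientGroup.mk_mul, QuotientGroup.eq]
      have : (a * b)⁻¹ * (b * a) = ⁅b⁻¹, a⁻¹⁆ := by simp [commutatorElement_def, mul_assoc]
      rw [this]
      exact Cfsg.Lib.PGroup.commutator_le_frattini hP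
        (Subgroup.commutator_mem_commutator (Subgroup.mem_top _) (Subgroup.mem_top _))
    let _ : CommGroup V := { (inferInstance : Group V) with mul_comm := hVc }
    refine card_elementary_le hp.out ?_ βV (quotAut_pow_eq_one (resAut_pow_eq_one hβ P hPi) F hFi)
      (((card_fixed_quotAut _ F hFi).trans (card_fixed_resAut β P hPi)).trans hβfix)
    intro v
    induction v using QuotientGroup.induction_on with | _ x => ?_
    rw [← QuotientGroup.mk_pow, QuotientGroup.eq_one_iff]
    exact Cfsg.Lib.PGroup.pow_mem_frattini hP x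
  let conjP : H →* MulAut P := MulAut.conjNormal
  let act : H →* Equiv.Perm V :=
    { toFun := fun g =>
        { toFun := Quotient.map' (conjP g) fun a b h => by
            rw [QuotientGroup.leftRel_apply] at h ⊢
            rw [← map_inv, ← map_mul]
            exact Cfsg.Lib.PGroup.apply_mem_frattini _ h
          invFun := Quotient.map' (conjP g⁻¹) fun a b h => by
            rw [QuotientGroup.leftRel_apply] at h ⊢
            rw [← map_inv (conjP g⁻¹), ← map_mul]
            exact Cfsg.Lib.PGroup.apply_mem_frattini _ h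
          left_inv := fun v => Quotient.inductionOn' v fun x => congrArg Quotient.mk''
            (by show conjP g⁻¹ (conjP g x) = x; rw [← MulAut.mul_apply, ← map_mul, inv_mul_cancel, map_one]; rfl)
          right_inv := fun v => Quotient.inductionOn' v fun x => congrArg Quotient.mk''
            (by show conjP g (conjP g⁻¹ x) = x; rw [← MulAut.mul_apply, ← map_mul, mul_inv_cancel, map_one]; rfl) }
      map_one' := Equiv.ext fun v => Quotient.inductionOn' v fun x => congrArg Quotient.mk''
        (by show conjP 1 x = x; rw [map_one]; rfl)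
      map_mul' := fun g g' => Equiv.ext fun v => Quotient.inductionOn' v fun x => congrArg Quotient.mk''
        (by show conjP (g * g') x = conjP g (conjP g' x); rw [map_mul]; rfl) }
  have hker : act.ker ≤ P := by
    refine Cfsg.Lib.Core.le_pCore' inferInstance ?_
    have hstab : ∀ g ∈ act.ker, conjP g ∈ Cfsg.Lib.PGroup.frattiniStab P := by
      intro g hg x
      have h := congrArg (fun σ : Equiv.Perm V => σ (x : V)) (MonoidHom.mem_ker.1 hg)
      exact QuotientGroup.eq.1 (Eq.symm h)
    have hC : Subgroup.centralizer (P : Set H) ≤ P :=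
      Cfsg.Lib.Core.centralizer_pCore_le_of_isPSolvable Cfsg.Lib.Core.isPSolvable_of_isSolvable hO
    have hker' : ∀ g : H, conjP g = 1 → g ∈ P := fun g hg => hC (Subgroup.mem_centralizer_iff.2 fun x hx => by
      have h := congrArg (fun σ : MulAut P => ((σ ⟨x, hx⟩ : P) : H)) hg
      change g * x * g⁻¹ = x at h
      nth_rewrite 1 [← h]
      group)
    intro g
    obtain ⟨a, ha⟩ := Cfsg.Lib.PGroup.isPGroup_frattiniStab hP ⟨conjP g, hstab g g.2⟩
    have hgP : ((g : H) ^ p ^ a) ∈ P := hker' _ (by rw [map_pow]; exact congrArg Subtype.val ha)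
    obtain ⟨b, hb⟩ := hP ⟨_, hgP⟩
    refine ⟨a + b, Subtype.ext ?_⟩
    show (g : H) ^ p ^ (a + b) = 1
    rw [pow_add, pow_mul]
    exact congrArg Subtype.val hb
  have hle : Nat.card (H ⧸ act.ker) ≤ (p ^ (p * n)).factorial := by
    refine (Nat.card_le_card_of_injective _ (QuotientGroup.kerLift_injective act)).trans ?_
    rw [Nat.card_perm]
    exact Nat.factorial_le hVle
  have hq : derivedSeries (H ⧸ act.ker) (p ^ (p * n)).factorial = ⊥ :=
    derived_mono_bot (derived_card (Group.isSolvable_of_surjective (QuotientGroup.mk'_surjective _))) hle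
  have h1 : derivedSeries H (p ^ (p * n)).factorial ≤ P := by
    refine le_trans ?_ hker
    refine (QuotientGroup.ker_mk' act.ker).le.trans' ?_
    rw [← Subgroup.map_eq_bot_iff]
    exact le_bot_iff.1 (hq ▸ map_derivedSeries_le_derivedSeries (QuotientGroup.mk' act.ker) _)
  have h2 := map_derivedSeries_eq (QuotientGroup.mk'_surjective P) (p ^ (p * n)).factorial
  rw [← h2, Subgroup.map_eq_bot_iff, QuotientGroup.ker_mk']
  exact h1

end Solvable

/-- Alperin's Theorem: for each prime p and each n ≥ 0 there is an integer l such that every finite solvable group admitting an automorphism of order p with exactly p^n fixed points has derived length at most l. -/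
theorem result (p : ℕ) (hp : p.Prime) (n : ℕ) : ∃ l : ℕ, ∀ (G : Type) [Group G] [Finite G], Group.IsSolvable G → ∀ α : MulAut G, orderOf α = p → Nat.card {g : G // α g = g} = p ^ n → derivedSeries G l = ⊥ := by
  haveI := Fact.mk hp
  exact ⟨_, fun G _ _ hs α hα hfix =>
    solvable_bound hs α (hα ▸ pow_orderOf_eq_one α) hfix _ rfl⟩

end Cfsg.Agent.S3782
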