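import Cfsg.Statements.S3784
import Mathlib.NumberTheory.Fermat
import Mathlib.Algebra.Ring.GeomSum
-- import your own Cfsg.Agent.* helpers here

set_option autoImplicit false
open Cfsg

namespace Cfsg.Agent.S3784

theorem odd_sum {f : ℕ → ℤ} (hf : ∀ i, Odd (f i)) (b : ℕ) :
    Odd (∑ i ∈ Finset.range b, f i) ↔ Odd b := by
  induction b with
  | zero => simp
  | succ b ih =>
    have := hf b
    rw [Finset.sum_range_succ, Int.odd_add, ih, Nat.odd_add_one, ← Int.not_odd_iff_even]
    simp [this]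

theorem odd_factor {m b : ℕ} (hb : Odd b) (hm : Odd m) :
    ∃ S : ℤ, Odd S ∧ S * ((m : ℤ) + 1) = (m : ℤ) ^ b + 1 := by
  refine ⟨∑ i ∈ Finset.range b, (-(m : ℤ)) ^ i, ?_, ?_⟩
  · exact (odd_sum (fun i => ((by exact_mod_cast hm : Odd (m : ℤ)).neg).pow) b).mpr hb
  · have h := geom_sum_mul (-(m : ℤ)) b
    rw [hb.neg_pow] at h
    linarith

theorem odd_eq_one {S : ℤ} {n : ℕ} (hS : Odd S) (hpos : 0 < S) (h : S.natAbs ∣ 2 ^ n) : S = 1 := by
  obtain ⟨k, -, hk⟩ := (Nat.dvd_prime_pow Nat.prime_two).mp h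
  rcases Nat.eq_zero_or_pos k with h0 | h0
  · rw [h0, pow_zero] at hk; omega
  · have : Even S.natAbs := hk ▸ (Nat.even_pow.mpr ⟨even_two, h0.ne'⟩)
    exact absurd (Int.natAbs_even.mp this) (Int.not_even_iff_odd.mpr hS)


/-- Let p, q be primes and a, b positive integers with p^a = q^b + 1. Then either p = 2, b = 1, a is prime and q = 2^a − 1; or q = 2, a = 1, b is a power of 2 and p = 2^b + 1; or p^a = 9 and q^b = 8. -/
theorem result (p q a b : ℕ) (hp : p.Prime) (hq : q.Prime) (ha : 1 ≤ a) (hb : 1 ≤ b) (h : p ^ a = q ^ b + 1) : (p = 2 ∧ b = 1 ∧ a.Prime ∧ q + 1 = 2 ^ a) ∨ (q = 2 ∧ a = 1 ∧ (∃ m : ℕ, b = 2 ^ m) ∧ p = 2 ^ b + 1) ∨ (p ^ a = 9 ∧ q ^ b = 8) := by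
  classical
  rcases hq.eq_two_or_odd' with hq2 | hqo
  · subst hq2
    have hpo : Odd p := by
      rcases hp.eq_two_or_odd' with h2 | h2
      · subst h2
        have : Even (2 ^ a) := Nat.even_pow.mpr ⟨even_two, by omega⟩
        rw [h] at this
        exact absurd (Nat.even_pow.mpr ⟨even_two, (by omega : b ≠ 0)⟩)
          (Nat.even_add_one.mp this)
      · exact h2
    rcases Nat.even_or_odd a with ⟨c, hc⟩ | hao
    · right; right
      have h3 : (p ^ c + 1) * (p ^ c - 1) = 2 ^ b := by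
        rw [← Nat.sq_sub_sq, one_pow, ← pow_mul, show c * 2 = a by omega, h, Nat.add_sub_cancel]
      obtain ⟨i, -, hi⟩ := (Nat.dvd_prime_pow Nat.prime_two).mp (Dvd.intro _ h3)
      obtain ⟨k, -, hk⟩ := (Nat.dvd_prime_pow Nat.prime_two).mp (Dvd.intro_left _ h3)
      have hpc : 2 ≤ p ^ c := le_trans hp.two_le (Nat.le_self_pow (by omega) p)
      have hik : 2 ^ i = 2 ^ k + 2 := by omega
      have hk1 : k = 1 := by
        rcases (by omega : k = 0 ∨ k = 1 ∨ 2 ≤ k) with h0 | h0 | h0
        · subst h0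
          rcases (by omega : i = 0 ∨ 1 ≤ i) with h1 | h1
          · subst h1; simp at hik
          · have : Even (2 ^ i) := Nat.even_pow.mpr ⟨even_two, by omega⟩
            rw [hik] at this; simp [parity_simps] at this
        · exact h0
        · have h4 : (4 : ℕ) ∣ 2 ^ k := (pow_dvd_pow 2 h0)
          have h5 : 2 ≤ i := by
            by_contra h5
            have := Nat.pow_le_pow_right (show 0 < 2 by norm_num) (show i ≤ 1 by omega)
            have := Nat.pow_pos (show 0 < 2 by norm_num) (n := k)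
            omega
          have h6 : (4 : ℕ) ∣ 2 ^ i := (pow_dvd_pow 2 h5)
          omega
      subst hk1
      have hp3 : p ^ c = 3 := by omega
      have ha9 : p ^ a = 9 := by rw [hc, ← two_mul, mul_comm, pow_mul, hp3]; norm_num
      exact ⟨ha9, by omega⟩
    · right; left
      have hmul := geom_sum_mul (p : ℤ) a
      set S : ℤ := ∑ i ∈ Finset.range a, (p : ℤ) ^ i with hS
      have hodd : Odd S := by
        exact (odd_sum (fun i => (by exact_mod_cast hpo : Odd (p : ℤ)).pow) a).mpr hao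
      have hh : (p : ℤ) ^ a - 1 = ((2 ^ b : ℕ) : ℤ) := by
        rw [← Nat.cast_pow, h]; push_cast; ring
      rw [hh] at hmul
      have hpos : 0 < S := by
        have h1 : (0 : ℤ) < S * ((p : ℤ) - 1) := by rw [hmul]; positivity
        have h2 : (0 : ℤ) ≤ (p : ℤ) - 1 := by have := hp.one_lt; omega
        exact pos_of_mul_pos_left h1 h2
      have hdvd : S.natAbs ∣ 2 ^ b := by
        rw [← Int.natCast_dvd_natCast, Int.natAbs_dvd]
        exact ⟨_, hmul.symm⟩
      rw [odd_eq_one hodd hpos hdvd, one_mul] at hmul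
      have ha1 : a = 1 := by
        have h1 : p ^ a = p ^ 1 := by
          rw [h, pow_one]
          omega
        exact Nat.pow_right_injective hp.two_le h1
      subst ha1
      rw [pow_one] at h
      exact ⟨rfl, rfl, Nat.pow_of_pow_add_prime one_lt_two (by omega) (h ▸ hp), h⟩
  · left
    have hp2 : p = 2 := by
      have : Even (p ^ a) := h ▸ (hqo.pow.add_one)
      exact (Nat.prime_dvd_prime_iff_eq Nat.prime_two hp).mp
        (even_iff_two_dvd.mp (Nat.even_pow.mp this).1) |>.symm
    subst hp2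
    have hbo : Odd b := by
      rcases Nat.even_or_odd b with ⟨c, hc⟩ | hb'
      · exfalso
        have ha2 : 2 ≤ a := by
          by_contra ha2
          rw [show a = 1 by omega, pow_one] at h
          have : 2 ≤ q ^ b := le_trans hq.two_le (Nat.le_self_pow (by omega) q)
          omega
        have h4 : (4 : ℕ) ∣ 2 ^ a := pow_dvd_pow 2 ha2
        obtain ⟨d, hd⟩ := (hqo.pow : Odd (q ^ c))
        have h5 : q ^ b = 4 * (d * d + d) + 1 := by rw [hc, pow_add, hd]; ring
        omega
      · exact hb'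
    obtain ⟨S, hSo, hS⟩ := odd_factor hbo hqo
    have hh : S * ((q : ℤ) + 1) = ((2 ^ a : ℕ) : ℤ) := by rw [hS, h]; push_cast; ring
    have hpos : 0 < S := by
      have h1 : (0 : ℤ) < S * ((q : ℤ) + 1) := by rw [hh]; positivity
      exact pos_of_mul_pos_left h1 (by positivity)
    have hdvd : S.natAbs ∣ 2 ^ a := by
      rw [← Int.natCast_dvd_natCast, Int.natAbs_dvd]
      exact ⟨_, hh.symm⟩
    rw [odd_eq_one hSo hpos hdvd, one_mul] at hh
    have hq1 : q + 1 = 2 ^ a := by exact_mod_cast hh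
    have hb1 : b = 1 := by
      have h1 : q ^ b = q ^ 1 := by rw [pow_one]; omega
      exact Nat.pow_right_injective hq.two_le h1
    refine ⟨rfl, hb1, ?_, hq1⟩
    have ha1 : a ≠ 1 := by
      intro ha1
      rw [ha1] at hq1
      have := hq.two_le
      omega
    exact (Nat.prime_of_pow_sub_one_prime ha1 (by rwa [← hq1, Nat.add_sub_cancel])).2

end Cfsg.Agent.S3784
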