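import Cfsg.Statements.S3785
import Cfsg.Agent.Lib.PGroup.OddOmega
import Cfsg.Agent.Lib.PGroup.Elements
import Cfsg.Agent.Lib.Core.PSolvable

set_option autoImplicit false
open Cfsg

namespace Cfsg.Agent.S3785

open Subgroup

theorem mem_pCore_of_mem_fitting {G : Type*} [Group G] [Finite G] {q : ℕ} [Fact q.Prime] {x : G}
    (hx : x ∈ Cfsg.fittingSubgroup G) {k : ℕ} (hk : orderOf x = q ^ k) : x ∈ Cfsg.pCore q G := by
  set F := Cfsg.fittingSubgroup G
  have hnil := Cfsg.Lib.Core.fittingSubgroup_isNilpotent G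
  have hFn : F.Normal := Cfsg.Lib.Core.fittingSubgroup_normal' G
  have hp : IsPGroup q (zpowers (⟨x, hx⟩ : F)) :=
    IsPGroup.of_card (n := k) (by rw [Nat.card_zpowers, ← Subgroup.orderOf_coe]; exact hk)
  obtain ⟨S, hS⟩ := hp.exists_le_sylow
  have hSn : (S : Subgroup F).Normal := inferInstance
  exact Cfsg.Lib.Core.le_pCore_of_isSubnormal (hSn.isSubnormal.trans' hFn.isSubnormal) (S.2.map _)
    ⟨_, hS (mem_zpowers _), rfl⟩


/-- Let G be a finite solvable group whose Fitting subgroup F(G) has odd order. If an element g of G commutes with every element of prime order of F(G), then g ∈ F(G). -/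
theorem result {G : Type*} [Group G] [Finite G] (hG : Group.IsSolvable G) (hodd : Odd (Nat.card (Cfsg.fittingSubgroup G))) (g : G) (hg : ∀ x ∈ Cfsg.fittingSubgroup G, (orderOf x).Prime → g * x = x * g) : g ∈ Cfsg.fittingSubgroup G := by
  classical
  set F := Cfsg.fittingSubgroup G with hF
  have hFn : F.Normal := Cfsg.Lib.Core.fittingSubgroup_normal' G
  let K : Subgroup G := centralizer {x | x ∈ F ∧ (orderOf x).Prime}
  have hKn : K.Normal := ⟨fun k hk a => by
    rw [mem_centralizer_iff] at hk ⊢
    rintro x ⟨hx, hxp⟩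
    have h1 := hk (a⁻¹ * x * a) ⟨by simpa using hFn.conj_mem x hx a⁻¹, by
      have h2 := (MulAut.conj a⁻¹).orderOf_eq x
      simp only [MulAut.conj_apply, inv_inv] at h2
      rw [h2]; exact hxp⟩
    simpa [mul_assoc] using congrArg (fun z => a * z * a⁻¹) h1⟩
  have hgK : g ∈ K := mem_centralizer_iff.mpr fun x hx => (hg x hx.1 hx.2).symm
  suffices h : K ≤ F from h hgK
  by_contra hKF
  set D := K ⊓ F with hD
  have hDn : D.Normal := inferInstance
  set f := QuotientGroup.mk' D
  have hne : K.map f ≠ ⊥ := by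
    rw [ne_eq, Subgroup.map_eq_bot_iff, QuotientGroup.ker_mk']
    exact fun h => hKF (h.trans inf_le_right)
  obtain ⟨Mb, hMb, hMbK⟩ := Cfsg.Lib.Core.exists_isMinNormal
    (Subgroup.Normal.map hKn f (QuotientGroup.mk'_surjective D)) hne
  obtain ⟨-, r, hr, -, hMbp⟩ := Cfsg.Lib.Core.minimal_solvable_elementary hMb inferInstance
  have : Fact r.Prime := ⟨hr⟩
  set M := Mb.comap f with hM
  have hMn : M.Normal := hMb.1.comap f
  have hMK : M ≤ K := by
    refine (comap_mono hMbK).trans (le_of_eq ?_)
    rw [comap_map_eq, QuotientGroup.ker_mk', sup_eq_left]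
    exact inf_le_left
  have hDM : D ≤ M := (QuotientGroup.ker_mk' D).symm.le.trans (f.ker_le_comap Mb)
  obtain ⟨R₀⟩ : Nonempty (Sylow r M) := inferInstance
  set R := (R₀ : Subgroup M).map M.subtype with hR
  have hRp : IsPGroup r R := R₀.2.map _
  have hRM : R ≤ M := map_subtype_le _
  have hcent : ∀ (q : ℕ), q.Prime → q ≠ r → R ≤ centralizer (Cfsg.pCore q G : Set G) := by
    intro q hq hqr
    have : Fact q.Prime := ⟨hq⟩
    have hOp := Cfsg.Lib.Core.pCore_isPGroup q G
    by_cases hbot : Cfsg.pCore q G = ⊥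
    · intro z _
      rw [mem_centralizer_iff, hbot]
      intro y hy
      rw [SetLike.mem_coe, mem_bot] at hy
      simp [hy]
    obtain ⟨i, hi⟩ := IsPGroup.iff_card.mp hRp
    obtain ⟨j, hj⟩ := IsPGroup.iff_card.mp hOp
    have hOF : Cfsg.pCore q G ≤ F := Cfsg.Lib.Core.pCore_le_fittingSubgroup q G
    refine Cfsg.Lib.PGroup.le_centralizer_of_centralizes_omega (p := q) ?_ R _ hOp
      ((le_top : R ≤ ⊤).trans (normalizer_eq_top (H := Cfsg.pCore q G)).ge)
      (by rw [hi, hj]; exact Nat.Coprime.pow _ _ ((Nat.coprime_primes hr hq).mpr (Ne.symm hqr))) ?_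
    · rintro rfl
      have hj0 : j ≠ 0 := by
        rintro rfl
        exact hbot (eq_bot_of_card_eq _ (by simpa using hj))
      exact Nat.not_even_iff_odd.mpr hodd (even_iff_two_dvd.mpr
        (((dvd_pow_self 2 hj0).trans hj.symm.dvd).trans (card_dvd_of_le hOF)))
    · intro x hx hxq a ha
      by_cases hx1 : x = 1
      · simp [hx1]
      refine ((mem_centralizer_iff.mp (hMK (hRM ha))) x ⟨hOF hx, ?_⟩).symm
      rw [orderOf_eq_prime hxq hx1]; exact hq
  have hDR : D ≤ normalizer (R : Set G) := by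
    intro d hd
    refine Cfsg.Lib.PGroup.mem_of_ordCompl_pow_mem fun q hq _ => ?_
    have : Fact q.Prime := ⟨hq⟩
    set u := d ^ (orderOf d / q ^ (orderOf d).factorization q)
    have hu : u ∈ Cfsg.pCore q G := mem_pCore_of_mem_fitting (pow_mem hd.2 _)
      (Cfsg.Lib.PGroup.orderOf_ordCompl_pow hq)
    by_cases hqr : q = r
    · subst hqr
      refine le_normalizer ?_
      have huM : u ∈ M := hDM (pow_mem hd _)
      have hle : ((Cfsg.pCore q G).subgroupOf M) ≤ R₀ :=
        IsPGroup.le_sylow_of_normal ((Cfsg.Lib.Core.pCore_isPGroup q G).comap_of_injective M.subtype M.subtype_injective) R₀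
      exact ⟨⟨u, huM⟩, hle hu, rfl⟩
    · exact centralizer_le_normalizer _ (mem_centralizer_iff.mpr fun z hz =>
        (mem_centralizer_iff.mp (hcent q hq hqr hz) u hu).symm)
  have hsup : M ≤ D ⊔ R := by
    have h1 : R.map f = Mb := by
      have hle : R.map f ≤ Mb := (map_mono hRM).trans (map_comap_le f Mb)
      refine le_antisymm hle ?_
      rw [← relIndex_eq_one]
      obtain ⟨e, he⟩ := hMbp.index ((R.map f).subgroupOf Mb)
      have hndvd : ¬ r ∣ (R.map f).relIndex Mb := by
        intro hdvd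
        refine R₀.not_dvd_index (hdvd.trans ?_)
        have : Mb = M.map f := (map_comap_eq_self_of_surjective (QuotientGroup.mk'_surjective D) Mb).symm
        rw [this, relIndex_map_map, QuotientGroup.ker_mk', sup_eq_left.mpr hDM]
        refine (relIndex_dvd_of_le_left M le_sup_left).trans (dvd_of_eq ?_)
        rw [hR, relIndex, subgroupOf, comap_map_eq_self_of_injective M.subtype_injective]
      change (R.map f).relIndex Mb = r ^ e at he
      rcases Nat.eq_zero_or_pos e with h0 | hpos
      · rw [he, h0, pow_zero]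
      · exact absurd (he ▸ dvd_pow_self r hpos.ne') hndvd
    have h2 : M = (R.map f).comap f := by rw [h1]
    rw [h2, comap_map_eq, QuotientGroup.ker_mk', sup_comm]
  have hRn : M ≤ normalizer (R : Set G) := hsup.trans (sup_le hDR le_normalizer)
  have hRsub : R.IsSubnormal := by
    have : (R.subgroupOf M).Normal := (normal_subgroupOf_iff_le_normalizer hRM).mpr hRn
    have h := this.isSubnormal.trans' hMn.isSubnormal
    rwa [subgroupOf_map_subtype, inf_of_le_left hRM] at h
  have hRF : R ≤ F := (Cfsg.Lib.Core.le_pCore_of_isSubnormal hRsub hRp).trans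
    (Cfsg.Lib.Core.pCore_le_fittingSubgroup r G)
  have hMD : M ≤ D := le_inf hMK (hsup.trans (sup_le inf_le_right hRF))
  refine hMb.2.1 ?_
  rw [← map_comap_eq_self_of_surjective (QuotientGroup.mk'_surjective D) Mb, ← hM,
    Subgroup.map_eq_bot_iff, QuotientGroup.ker_mk']
  exact hMD

end Cfsg.Agent.S3785
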