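import Cfsg.Statements.S3786
import Cfsg.Agent.Lib.Local.ExceptionalPowers
import Cfsg.Agent.Lib.Local.PLengthChain
import Cfsg.Agent.Lib.Local.HallHigmanTheoremB
import Cfsg.Agent.S0633
-- import your own Cfsg.Agent.* helpers here

set_option autoImplicit false
open Cfsg

namespace Cfsg.Agent.S3786

open Subgroup Cfsg.Lib.Local

universe u

theorem norm_step {K : Type u} [Group K] {O : Subgroup K} [O.Normal] {F : Type*} [Field F] {V : Type*}
    [AddCommGroup V] [Module F V] (ρ : K ⧸ O →* Module.End F V) (π : O →* Multiplicative V)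
    (heq : ∀ (g : K) (a : O), ρ (QuotientGroup.mk g) (π a).toAdd = (π (MulAut.conjNormal g a)).toAdd)
    (u : O) (g : K) : ∀ k : ℕ, ∃ w : O, (w : K) = ((u : K) * g) ^ k * (g ^ k)⁻¹ ∧
      (π w).toAdd = ∑ i ∈ Finset.range k, (ρ (QuotientGroup.mk g) ^ i) (π u).toAdd := by
  intro k
  induction k with
  | zero => exact ⟨1, by simp, by simp⟩
  | succ k ih =>
    obtain ⟨w, hw, hw'⟩ := ih
    refine ⟨w * MulAut.conjNormal (g ^ k) u, ?_, ?_⟩
    · rw [Subgroup.coe_mul, MulAut.conjNormal_apply, hw, pow_succ, pow_succ]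
      group
    · rw [map_mul, toAdd_mul, hw', Finset.sum_range_succ, ← heq, QuotientGroup.mk_pow, map_pow]

theorem norm_zero {K : Type u} [Group K] [Finite K] {p : ℕ} [Fact p.Prime] {F : Type*} [Field F] {V : Type*}
    [AddCommGroup V] [Module F V] (ρ : K ⧸ Cfsg.pCore p K →* Module.End F V)
    (π : Cfsg.pCore p K →* Multiplicative V) (hπ : Function.Surjective π)
    (heq : ∀ (g : K) (a : Cfsg.pCore p K), ρ (QuotientGroup.mk g) (π a).toAdd = (π (MulAut.conjNormal g a)).toAdd)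
    (P : Sylow p K) (N : ℕ) (hexp : ∀ x ∈ (P : Subgroup K), x ^ N = 1) {g : K} (hg : g ∈ (P : Subgroup K)) :
    ∑ i ∈ Finset.range N, ρ (QuotientGroup.mk g) ^ i = 0 := by
  refine LinearMap.ext fun x => ?_
  obtain ⟨u, hu⟩ := hπ (Multiplicative.ofAdd x)
  obtain ⟨w, hw, hw'⟩ := norm_step ρ π heq u g N
  have hw1 : w = 1 := Subtype.ext (by
    rw [hw, hexp _ (mul_mem (Cfsg.Lib.Core.pCore_le_sylow P u.2) hg), hexp g hg, inv_one, mul_one]; rfl)
  rw [hw1, map_one, toAdd_one] at hw'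
  rw [LinearMap.sum_apply, LinearMap.zero_apply, show x = (π u).toAdd by rw [hu]; rfl, ← hw']

/-- The arithmetical exception of Theorem B, for an element of order `p ^ (n + 1)`. -/
theorem exception {H : Type u} [Group H] [Finite H] {p : ℕ} [hp : Fact p.Prime] (hH : Cfsg.IsPSolvable p H)
    (hO : Cfsg.pCore p H = ⊥) {V : Type*} [AddCommGroup V] [Module (ZMod p) V] [FiniteDimensional (ZMod p) V]
    {ρ : H →* Module.End (ZMod p) V} (hρ : Function.Injective ρ) {x : H} {n : ℕ}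
    (hord : orderOf x = p ^ (n + 1)) {r : ℕ} (hr : r < p ^ (n + 1)) (hxr : (ρ x - 1) ^ r = 0) :
    ∃ q j m : ℕ, q.Prime ∧ j ≤ n ∧ 0 < m ∧ q ^ m = p ^ (n + 1 - j) - 1 ∧ q ^ m ≤ r / p ^ j ∧
      ∀ S : Sylow q H, ¬ IsMulCommutative (S : Subgroup H) := by
  set y := x ^ p ^ n with hy
  have hy1 : y ≠ 1 := fun e => absurd (Nat.le_of_dvd (pow_pos hp.out.pos _) (hord ▸ orderOf_dvd_of_pow_eq_one e))
    (Nat.pow_lt_pow_right hp.out.one_lt (Nat.lt_succ_self n)).not_ge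
  have hX : IsPGroup p (zpowers x) := IsPGroup.of_card (by rw [Nat.card_zpowers, hord])
  obtain ⟨q, hq, hqp, Q0, hQ0, -, hQX, hne⟩ :=
    exists_moved_qGroup hH hO hX (pow_mem (mem_zpowers x) _ : y ∈ zpowers x) hy1
  have : Fact q.Prime := ⟨hq⟩
  have hyp : y ^ p = 1 := by rw [hy, ← pow_mul, ← pow_succ, ← hord, pow_orderOf_eq_one]
  obtain ⟨Q, -, h⟩ := exists_minimalMoved hQ0 hQX hne (pow_mem (mem_zpowers x) _)
    (fun g hg => by
      obtain ⟨k, rfl⟩ := mem_zpowers_iff.1 hg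
      exact (((Commute.refl x).zpow_left k).pow_right _).eq)
    (by rw [orderOf_eq_prime hyp hy1]; exact (Nat.coprime_primes hp.out hq).2 (Ne.symm hqp))
  obtain ⟨hna, j, hj, m, hm, ⟨-, hdvd⟩, hb⟩ := theoremB hρ h hqp (mem_zpowers x) (n := n) hy.symm
    (by rw [← hord, pow_orderOf_eq_one]) hr hxr
  rw [show q ^ (2 * m) = q ^ m * q ^ m by rw [← pow_add, two_mul]] at hb
  have hk : r / p ^ j < p ^ (n + 1 - j) := Nat.div_lt_of_lt_mul (by
    rw [← pow_add, Nat.add_sub_cancel' (by omega)]; exact hr)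
  obtain ⟨hP, hAk⟩ := Cfsg.Agent.S0633.critical_arith (Nat.one_lt_pow hm.ne' hq.one_lt) hk hdvd hb
  exact ⟨q, j, m, hq, hj, hm, by omega, hAk, Cfsg.Agent.S0633.not_isMulCommutative_sylow Q h.isP hna⟩

/-- The hypothesis of part (a). -/
def NoException (p : ℕ) (G : Type u) [Group G] : Prop :=
  (¬ ∃ k : ℕ, p = 2 ^ k + 1) ∨ ∀ S : Sylow 2 G, IsMulCommutative (S : Subgroup G)

theorem NoException.of_surjective {p : ℕ} {G : Type u} [Group G] [Finite G] {K : Type u} [Group K]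
    (h : NoException p G) (f : G →* K) (hf : Function.Surjective f) : NoException p K := by
  refine h.imp_right fun hS S => ?_
  haveI : Finite K := Finite.of_surjective f hf
  obtain ⟨T, rfl⟩ := Sylow.mapSurjective_surjective hf 2 S
  haveI := hS T
  rw [Sylow.coe_mapSurjective]
  infer_instance

theorem one_step {K : Type u} [Group K] [Finite K] {p : ℕ} [hp : Fact p.Prime] (hp2 : p ≠ 2)
    (hK : Cfsg.IsPSolvable p K) (hO' : Cfsg.pPrimeCore p K = ⊥) (hex : NoException p K) (n : ℕ)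
    (hexp : ∀ P : Sylow p K, ∀ x ∈ (P : Subgroup K), x ^ p ^ (n + 1) = 1) :
    ∀ P : Sylow p (K ⧸ Cfsg.pCore p K), ∀ x ∈ (P : Subgroup (K ⧸ Cfsg.pCore p K)), x ^ p ^ n = 1 := by
  intro PH x hx
  obtain ⟨P, rfl⟩ := Sylow.mapSurjective_surjective (QuotientGroup.mk'_surjective (Cfsg.pCore p K)) p PH
  rw [Sylow.coe_mapSurjective] at hx
  obtain ⟨g, hg, rfl⟩ := hx
  by_contra hne
  obtain ⟨V, _, _, _, ρ, π, hρ, hπ, -, heq⟩ := exists_top_module hK hO'
  set x : K ⧸ Cfsg.pCore p K := QuotientGroup.mk' (Cfsg.pCore p K) g with hxdef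
  have hord : orderOf x = p ^ (n + 1) :=
    orderOf_eq_prime_pow hne (by rw [hxdef, ← map_pow, hexp P g hg, map_one])
  have hN := norm_zero ρ π hπ heq P _ (hexp P) hg
  rw [← geom_eq_sub_pow (ZMod p) (p := p)] at hN
  have hpos : 0 < p ^ (n + 1) := pow_pos hp.out.pos _
  obtain ⟨q, j, m, hq, hj, hm, hqm, -, hSyl⟩ := exception (Cfsg.Lib.Core.isPSolvable_quotient hK _)
    Cfsg.Lib.Core.pCore_quotient_pCore_eq_bot hρ hord (show p ^ (n + 1) - 1 < p ^ (n + 1) by omega) hN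
  have hdvd : p - 1 ∣ q ^ m := by
    rw [hqm]
    simpa using Nat.sub_dvd_pow_sub_pow p 1 (n + 1 - j)
  have h2p : 2 ∣ p - 1 := by
    obtain ⟨k, hk⟩ := hp.out.odd_of_ne_two hp2
    exact ⟨k, by omega⟩
  have hq2 : q = 2 := ((Nat.prime_dvd_prime_iff_eq Nat.prime_two hq).1
    (Nat.prime_two.dvd_of_dvd_pow (h2p.trans hdvd))).symm
  subst hq2
  obtain ⟨k, -, hk⟩ := (Nat.dvd_prime_pow Nat.prime_two).1 hdvd
  rcases hex.of_surjective _ (QuotientGroup.mk'_surjective (Cfsg.pCore p K)) with h | h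
  · exact h ⟨k, by have := hp.out.two_le; omega⟩
  · obtain ⟨S⟩ : Nonempty (Sylow 2 (K ⧸ Cfsg.pCore p K)) := inferInstance
    exact hSyl S (h S)

theorem two_step {K : Type u} [Group K] [Finite K] {p : ℕ} [hp : Fact p.Prime] (hp2 : p ≠ 2)
    (hK : Cfsg.IsPSolvable p K) (hO' : Cfsg.pPrimeCore p K = ⊥) (n : ℕ)
    (hexp : ∀ P : Sylow p K, ∀ x ∈ (P : Subgroup K), x ^ p ^ (n + 1) = 1) :
    ∀ P : Sylow p (((K ⧸ Cfsg.pCore p K) ⧸ Cfsg.pPrimeCore p (K ⧸ Cfsg.pCore p K)) ⧸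
        Cfsg.pCore p ((K ⧸ Cfsg.pCore p K) ⧸ Cfsg.pPrimeCore p (K ⧸ Cfsg.pCore p K))),
      ∀ x ∈ P, x ^ p ^ n = 1 := by
  set H := K ⧸ Cfsg.pCore p K
  set K2 := H ⧸ Cfsg.pPrimeCore p H
  intro P2 x hx
  have hH : Cfsg.IsPSolvable p H := Cfsg.Lib.Core.isPSolvable_quotient hK _
  have hOH : Cfsg.pCore p H = ⊥ := Cfsg.Lib.Core.pCore_quotient_pCore_eq_bot
  have hK2 : Cfsg.IsPSolvable p K2 := Cfsg.Lib.Core.isPSolvable_quotient hH _
  have hOK2 : Cfsg.pPrimeCore p K2 = ⊥ := Cfsg.Lib.Core.pPrimeCore_quotient_eq_bot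
  obtain ⟨PK2, rfl⟩ := Sylow.mapSurjective_surjective (QuotientGroup.mk'_surjective (Cfsg.pCore p K2)) p P2
  obtain ⟨PH, rfl⟩ := Sylow.mapSurjective_surjective (QuotientGroup.mk'_surjective (Cfsg.pPrimeCore p H)) p PK2
  obtain ⟨P, rfl⟩ := Sylow.mapSurjective_surjective (QuotientGroup.mk'_surjective (Cfsg.pCore p K)) p PH
  set f1 := QuotientGroup.mk' (Cfsg.pCore p K)
  set f2 := QuotientGroup.mk' (Cfsg.pPrimeCore p H)
  rw [← SetLike.mem_coe] at hx
  simp only [← Sylow.coe_coe, Sylow.coe_mapSurjective] at hx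
  obtain ⟨g2, ⟨_, ⟨g, hg, rfl⟩, rfl⟩, rfl⟩ := hx
  by_contra hne
  set x := QuotientGroup.mk' (Cfsg.pCore p K2) (f2 (f1 g)) with hxdef
  have hord : orderOf x = p ^ (n + 1) := orderOf_eq_prime_pow hne (by
    rw [hxdef, ← map_pow, ← map_pow, ← map_pow, hexp P g hg, map_one, map_one, map_one])
  -- the powers commute
  obtain ⟨V, _, _, _, ρ, π, hρ, hπ, -, heq⟩ := exists_top_module hK hO'
  let F := AlgebraicClosure (ZMod p)
  haveI : CharP F p := charP_of_injective_algebraMap (algebraMap (ZMod p) F).injective p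
  have hcomm := commute_top_powers (F := F) hp2 hH hOH (ρ := closureRep ρ) (closureRep_injective hρ)
    (X := (P : Subgroup K).map f1) (P.isPGroup'.map f1) n
    (by rintro _ ⟨a, ha, rfl⟩; rw [← map_pow, hexp P a ha, map_one])
    (by
      rintro _ ⟨a, ha, rfl⟩
      exact closureRep_sum_pow (norm_zero ρ π hπ heq P _ (hexp P) ha))
  -- the second module
  obtain ⟨V2, _, _, _, ρ2, π2, hρ2, hπ2, -, heq2⟩ := exists_top_module hK2 hOK2
  set T := ρ2 x with hT
  have hrel : (T ^ p ^ n - 1) * ∑ i ∈ Finset.range (p ^ n), T ^ i = 0 := by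
    refine LinearMap.ext fun v => ?_
    obtain ⟨u, hu⟩ := hπ2 (Multiplicative.ofAdd v)
    obtain ⟨w, hw, hw'⟩ := norm_step ρ2 π2 heq2 u (f2 (f1 g)) (p ^ n)
    obtain ⟨_, ⟨u0, hu0, rfl⟩, hu0'⟩ : (u : K2) ∈ ((P : Subgroup K).map f1).map f2 := by
      have h1 := Cfsg.Lib.Core.pCore_le_sylow
        ((P.mapSurjective (QuotientGroup.mk'_surjective (Cfsg.pCore p K))).mapSurjective
          (QuotientGroup.mk'_surjective (Cfsg.pPrimeCore p H))) u.2
      simpa only [Sylow.coe_mapSurjective] using h1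
    have hfix : (MulAut.conjNormal ((f2 (f1 g)) ^ p ^ n) w : Cfsg.pCore p K2) = w := by
      refine Subtype.ext ?_
      rw [MulAut.conjNormal_apply, hw, ← hu0']
      have h2 := (hcomm (f1 g) ⟨g, hg, rfl⟩ (f1 (u0 * g)) ⟨_, mul_mem hu0 hg, rfl⟩).map f2
      rw [map_pow, map_pow, map_mul, map_mul] at h2
      rw [← mul_assoc, h2.eq]
      group
    have h3 := heq2 ((f2 (f1 g)) ^ p ^ n) w
    rw [hfix, QuotientGroup.mk_pow, map_pow, hw'] at h3
    rw [Module.End.mul_apply, LinearMap.zero_apply, LinearMap.sub_apply, Module.End.one_apply, sub_eq_zero,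
      LinearMap.sum_apply, show v = (π2 u).toAdd by rw [hu]; rfl]
    exact h3
  rw [← pow_sub_one_eq (ZMod p) (p := p), ← geom_eq_sub_pow (ZMod p) (p := p), ← pow_add] at hrel
  have hp3 : 3 ≤ p := by have := hp.out.two_le; omega
  have hpn : 0 < p ^ n := pow_pos hp.out.pos _
  have h3p : 3 * p ^ n ≤ p ^ (n + 1) := by rw [pow_succ, mul_comm (p ^ n)]; exact Nat.mul_le_mul_right _ hp3
  obtain ⟨q, j, m, hq, hj, hm, hqm, hle, -⟩ := exception (Cfsg.Lib.Core.isPSolvable_quotient hK2 _)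
    Cfsg.Lib.Core.pCore_quotient_pCore_eq_bot hρ2 hord (show p ^ n + (p ^ n - 1) < p ^ (n + 1) by omega) hrel
  rw [hqm] at hle
  have h4 := Nat.mul_le_mul_right (p ^ j) hle
  have h5 := Nat.div_mul_le_self (p ^ n + (p ^ n - 1)) (p ^ j)
  have h6 : p ^ (n + 1 - j) * p ^ j = p ^ (n + 1) := by rw [← pow_add]; congr 1; omega
  have h7 : p ^ j ≤ p ^ n := Nat.pow_le_pow_right hp.out.pos hj
  rw [Nat.sub_mul, h6, one_mul] at h4
  omega

theorem pChain_zero_of_exp {G : Type u} [Group G] [Finite G] {p : ℕ} [hp : Fact p.Prime]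
    (hexp : ∀ P : Sylow p G, ∀ x ∈ (P : Subgroup G), x ^ p ^ 0 = 1) (k : ℕ) : PChain p k G := by
  refine pChain_of_coprime (hp.out.coprime_iff_not_dvd.2 fun hdvd => ?_).symm k
  obtain ⟨P⟩ : Nonempty (Sylow p G) := inferInstance
  have hP : (P : Subgroup G) = ⊥ := (Subgroup.eq_bot_iff_forall _).2 fun x hx => by
    simpa using hexp P x hx
  refine P.not_dvd_index ?_
  rw [hP, index_bot]
  exact hdvd

theorem exp_quotient {G : Type u} [Group G] [Finite G] {p : ℕ} [Fact p.Prime] {N : ℕ} (M : Subgroup G) [M.Normal]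
    (hexp : ∀ P : Sylow p G, ∀ x ∈ (P : Subgroup G), x ^ N = 1) :
    ∀ P : Sylow p (G ⧸ M), ∀ x ∈ (P : Subgroup (G ⧸ M)), x ^ N = 1 := by
  intro P x hx
  obtain ⟨S, rfl⟩ := Sylow.mapSurjective_surjective (QuotientGroup.mk'_surjective M) p P
  rw [Sylow.coe_mapSurjective] at hx
  obtain ⟨g, hg, rfl⟩ := hx
  rw [← map_pow, hexp S g hg, map_one]

theorem main_a {p : ℕ} [hp : Fact p.Prime] (hp2 : p ≠ 2) : ∀ (e : ℕ) (G : Type u) [Group G] [Finite G],
    Cfsg.IsPSolvable p G → NoException p G → (∀ P : Sylow p G, ∀ x ∈ (P : Subgroup G), x ^ p ^ e = 1) →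
      PChain p e G := by
  intro e
  induction e with
  | zero => intro G _ _ _ _ hexp; exact pChain_zero_of_exp hexp 0
  | succ n ih =>
    intro G _ _ hG hex hexp
    refine PChain.reduce ?_
    have hK : Cfsg.IsPSolvable p (G ⧸ Cfsg.pPrimeCore p G) := Cfsg.Lib.Core.isPSolvable_quotient hG _
    have hexK := hex.of_surjective _ (QuotientGroup.mk'_surjective (Cfsg.pPrimeCore p G))
    exact ih _ (Cfsg.Lib.Core.isPSolvable_quotient hK _)
      (hexK.of_surjective _ (QuotientGroup.mk'_surjective _))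
      (one_step hp2 hK Cfsg.Lib.Core.pPrimeCore_quotient_eq_bot hexK n (exp_quotient _ hexp))

theorem main_b {p : ℕ} [hp : Fact p.Prime] (hp2 : p ≠ 2) : ∀ (e : ℕ) (G : Type u) [Group G] [Finite G],
    Cfsg.IsPSolvable p G → (∀ P : Sylow p G, ∀ x ∈ (P : Subgroup G), x ^ p ^ e = 1) → PChain p (2 * e) G := by
  intro e
  induction e with
  | zero => intro G _ _ _ hexp; exact pChain_zero_of_exp hexp _
  | succ n ih =>
    intro G _ _ hG hexp
    have hK : Cfsg.IsPSolvable p (G ⧸ Cfsg.pPrimeCore p G) := Cfsg.Lib.Core.isPSolvable_quotient hG _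
    rw [show 2 * (n + 1) = (2 * n + 1) + 1 by ring]
    refine PChain.reduce (PChain.reduce ?_)
    exact ih _ (Cfsg.Lib.Core.isPSolvable_quotient (Cfsg.Lib.Core.isPSolvable_quotient
      (Cfsg.Lib.Core.isPSolvable_quotient hK _) _) _)
      (two_step hp2 hK Cfsg.Lib.Core.pPrimeCore_quotient_eq_bot n (exp_quotient _ hexp))

/-- The Hall–Higman bound on p-length. Let p be an odd prime and G a finite p-soluble group whose Sylow p-subgroups have exponent dividing p^e. (a) If p is not of the form 2^k + 1, or if the Sylow 2-subgroups of G are abelian, then G has p-length at most e. (b) In every case G has p-length at most 2e. -/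
theorem result {G : Type*} [Group G] [Finite G] {p : ℕ} [Fact p.Prime] (hp : p ≠ 2) (hG : Cfsg.IsPSolvable p G) (e : ℕ) (hexp : ∀ (P : Sylow p G), ∀ x ∈ (P : Subgroup G), x ^ p ^ e = 1) : (((¬ ∃ k : ℕ, p = 2 ^ k + 1) ∨ ∀ S : Sylow 2 G, IsMulCommutative (S : Subgroup G)) → Cfsg.PLengthLE p e G) ∧ Cfsg.PLengthLE p (2 * e) G := by
  exact ⟨fun h => (Cfsg.Lib.Local.pLengthLE_iff e).2 (main_a hp e G hG h hexp),
    (Cfsg.Lib.Local.pLengthLE_iff (2 * e)).2 (main_b hp e G hG hexp)⟩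

end Cfsg.Agent.S3786
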