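import Cfsg.Statements.S3787
import Cfsg.Agent.Lib.Local.TopModule
import Cfsg.Agent.Lib.Local.HallHigmanTheoremB
import Cfsg.Agent.Lib.FusionSys.NormalizerModel
import Mathlib.Algebra.Group.Shrink
import Mathlib.LinearAlgebra.Dual.Lemmas
-- import your own Cfsg.Agent.* helpers here

set_option autoImplicit false
open Cfsg

namespace Cfsg.Agent.S3787

open Subgroup Cfsg.Lib.Local
open scoped commutatorElement

universe u

/-- The shift on functions on `ZMod p`. -/
def shift (p : ℕ) : Module.End (ZMod p) (ZMod p → ZMod p) :=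
  LinearMap.funLeft (ZMod p) (ZMod p) (fun i => i + 1)

theorem shift_apply (p : ℕ) (f : ZMod p → ZMod p) (i : ZMod p) : shift p f i = f (i + 1) := rfl

theorem shift_pow_apply (p : ℕ) : ∀ (k : ℕ) (f : ZMod p → ZMod p) (i : ZMod p),
    (shift p ^ k) f i = f (i + k) := by
  intro k
  induction k with
  | zero => intro f i; simp
  | succ k ih =>
    intro f i
    rw [pow_succ, Module.End.mul_apply, ih, shift_apply]
    push_cast
    rw [add_assoc]

/-- An invariant subspace containing a function of nonzero sum is everything. -/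
theorem eq_top_of_sum_ne_zero {p : ℕ} [hp : Fact p.Prime] (U : Submodule (ZMod p) (ZMod p → ZMod p))
    (hU : ∀ f ∈ U, shift p f ∈ U) {a : ZMod p → ZMod p} (ha : a ∈ U) (hsum : ∑ i, a i ≠ 0) : U = ⊤ := by
  classical
  by_contra hne
  obtain ⟨μ, hμ0, hμ⟩ := Submodule.exists_dual_map_eq_bot_of_lt_top (lt_top_iff_ne_top.2 hne) inferInstance
  have hμU : ∀ f ∈ U, μ f = 0 := fun f hf => by
    have h := Submodule.mem_map_of_mem (f := μ) hf
    rwa [hμ, Submodule.mem_bot] at h
  set D : Module.End (ZMod p) (ZMod p → ZMod p) := shift p - 1 with hD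
  have hDp : D ^ p = 0 := by
    have h4 := pow_sub_one_eq (ZMod p) (p := p) (shift p) 1
    rw [pow_one] at h4
    rw [hD, h4, sub_eq_zero]
    refine LinearMap.ext fun f => funext fun i => ?_
    rw [shift_pow_apply, ZMod.natCast_self, add_zero]
    rfl
  have hex : ∃ k, μ.comp (D ^ k) = 0 := ⟨p, by rw [hDp, LinearMap.comp_zero]⟩
  obtain ⟨k, hk⟩ : ∃ k, Nat.find hex = k + 1 := ⟨Nat.find hex - 1, by
    have : Nat.find hex ≠ 0 := fun e => hμ0 (by
      have := Nat.find_spec hex
      rw [e, pow_zero] at this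
      exact LinearMap.ext fun f => LinearMap.congr_fun this f)
    omega⟩
  set ν := μ.comp (D ^ k) with hν
  have hν0 : ν ≠ 0 := Nat.find_min hex (by omega)
  have hν1 : ν.comp D = 0 := by
    have := Nat.find_spec hex
    rw [hk] at this
    rw [← this, hν, pow_succ]
    rfl
  have hνS : ∀ f, ν (shift p f) = ν f := fun f => by
    have := LinearMap.congr_fun hν1 f
    rw [hD, LinearMap.comp_apply, LinearMap.sub_apply, Module.End.one_apply, map_sub, LinearMap.zero_apply,
      sub_eq_zero] at this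
    exact this
  have hνk : ∀ (m : ℕ) f, ν ((shift p ^ m) f) = ν f := by
    intro m
    induction m with
    | zero => intro f; simp
    | succ m ih => intro f; rw [pow_succ', Module.End.mul_apply, hνS, ih]
  set c := ν (Pi.single 0 1) with hc
  have hbasis : ∀ i : ZMod p, ν (Pi.single i 1) = c := fun i => by
    rw [hc, ← hνk (-i).val (Pi.single 0 1)]
    congr 1
    refine funext fun j => ?_
    rw [shift_pow_apply, ZMod.natCast_zmod_val, ← sub_eq_add_neg]
    simp [Pi.single_apply, sub_eq_zero]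
  have hval : ∀ f, ν f = c * ∑ i, f i := fun f => by
    conv_lhs => rw [pi_eq_sum_univ' f, map_sum]
    rw [Finset.mul_sum]
    refine Finset.sum_congr rfl fun i _ => ?_
    rw [map_smul, hbasis, smul_eq_mul, mul_comm]
  have hνa : ν a = 0 := by
    refine hμU _ ?_
    have hDU : ∀ f ∈ U, D f ∈ U := fun f hf => sub_mem (hU f hf) hf
    have : ∀ m, (D ^ m) a ∈ U := by
      intro m
      induction m with
      | zero => simpa using ha
      | succ m ih => rw [pow_succ', Module.End.mul_apply]; exact hDU _ ih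
    exact this k
  rw [hval, mul_eq_zero] at hνa
  refine hν0 (LinearMap.ext fun f => ?_)
  rw [hval, hνa.resolve_right hsum, zero_mul]
  rfl

theorem core {K : Type u} [Group K] [Finite K] {p : ℕ} [hp : Fact p.Prime] (hp2 : p ≠ 2)
    (hnf : ¬ ∃ k : ℕ, p = 2 ^ k + 1) (hK : Cfsg.IsPSolvable p K) (hO' : Cfsg.pPrimeCore p K = ⊥) (P : Sylow p K)
    (hwr : ∀ (W : Type) [Group W] [Finite W], (∃ (B : Subgroup W) (t : W), B.Normal ∧ IsMulCommutative B ∧
      (∀ b ∈ B, b ^ p = 1) ∧ Nat.card B = p ^ p ∧ orderOf t = p ∧ t ∉ B ∧ Nat.card W = p ^ (p + 1) ∧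
      Nat.card ↥(B ⊓ Subgroup.centralizer ({t} : Set W)) = p) → ¬ Cfsg.Involves W ↥(P : Subgroup K)) :
    (Nat.card (K ⧸ Cfsg.pCore p K)).Coprime p := by
  classical
  set O := Cfsg.pCore p K with hOdef
  have hOP : O ≤ (P : Subgroup K) := Lib.Core.pCore_le_sylow P
  refine (hp.out.coprime_iff_not_dvd.2 fun hd => ?_).symm
  let q0 := QuotientGroup.mk' O
  set PH := P.mapSurjective (f := q0) (QuotientGroup.mk'_surjective O) with hPH
  obtain ⟨y, hy, hyord⟩ : ∃ y ∈ (PH : Subgroup (K ⧸ O)), orderOf y = p := by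
    obtain ⟨z, hz⟩ := exists_prime_orderOf_dvd_card' (G := ↥(PH : Subgroup (K ⧸ O))) p (by
      by_contra hnd
      have hcop := hp.out.coprime_iff_not_dvd.2 hnd
      refine PH.not_dvd_index ?_
      have := (Subgroup.card_mul_index (PH : Subgroup (K ⧸ O)))
      exact (hcop.dvd_mul_left).1 (this ▸ hd))
    exact ⟨z, z.2, by rw [Subgroup.orderOf_coe, hz]⟩
  obtain ⟨g, hgP, hgy⟩ := hy
  have hy1 : y ≠ 1 := fun e => hp.out.one_lt.ne (by rw [← hyord, e, orderOf_one])
  have hyp : y ^ p = 1 := orderOf_dvd_iff_pow_eq_one.1 (dvd_of_eq hyord)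
  have hX : IsPGroup p (zpowers y) := IsPGroup.of_card (n := 1) (by rw [Nat.card_zpowers, hyord, pow_one])
  obtain ⟨V, _, _, _, ρ, π, hρ, hπ, -, heq⟩ := exists_top_module hK hO'
  set fy : Module.End (ZMod p) V := ρ y with hfy
  -- the norm is nonzero
  obtain ⟨v0, hv0⟩ : ∃ v : V, (∑ i ∈ Finset.range p, fy ^ i) v ≠ 0 := by
    by_contra hcon
    push Not at hcon
    obtain ⟨q, hq, hqp, Q0, hQ0, -, hQX, hne0⟩ := exists_moved_qGroup (Lib.Core.isPSolvable_quotient hK O)
      Lib.Core.pCore_quotient_pCore_eq_bot hX (mem_zpowers y) hy1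
    haveI : Fact q.Prime := ⟨hq⟩
    obtain ⟨Q, -, h⟩ := exists_minimalMoved hQ0 hQX hne0 (mem_zpowers y)
      (fun g hg => by
        obtain ⟨k, rfl⟩ := mem_zpowers_iff.1 hg
        exact ((Commute.refl y).zpow_left k).eq)
      (by rw [hyord]; exact (Nat.coprime_primes hp.out hq).2 (Ne.symm hqp))
    have hzero : (ρ y - 1) ^ (p - 1) = 0 := by
      have h4 := geom_eq_sub_pow (ZMod p) (p := p) (ρ y) 1
      rw [pow_one] at h4
      rw [h4]
      exact LinearMap.ext hcon
    obtain ⟨-, j, hj, m, hm, ⟨hdvd, -⟩, hle⟩ := theoremB hρ h hqp (mem_zpowers y) (n := 0) (by simp)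
      (by rw [zero_add, pow_one, hyp]) (r := p - 1) (by rw [zero_add, pow_one]; have := hp.out.pos; omega) hzero
    obtain rfl : j = 0 := by omega
    rw [Nat.sub_zero, zero_add, pow_one] at hdvd hle
    rw [pow_zero, Nat.div_one] at hle
    obtain ⟨A, hA⟩ : ∃ A, q ^ m = A + 1 := ⟨q ^ m - 1, by have := Nat.one_le_pow m q hq.pos; omega⟩
    obtain ⟨B, hB⟩ : ∃ B, p = B + 1 := ⟨p - 1, by have := hp.out.pos; omega⟩
    have hq2m : q ^ (2 * m) = (A + 1) * (A + 1) := by rw [← hA, ← pow_add, two_mul]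
    rw [hq2m] at hdvd hle
    rw [show p - 1 = B by omega, hB] at hle
    have hAB : A + 1 ≤ B := by
      refine Nat.mul_self_le_mul_self_iff.1 ?_
      nlinarith
    rw [show (A + 1) * (A + 1) - 1 = A * (A + 2) by
      rw [show (A + 1) * (A + 1) = A * (A + 2) + 1 by ring, Nat.add_sub_cancel]] at hdvd
    have hA0 : 0 < A := by
      have := Nat.one_lt_pow hm.ne' hq.one_lt
      omega
    rcases hp.out.dvd_mul.1 hdvd with h1 | h1
    · have := Nat.le_of_dvd hA0 h1
      omega
    · have := Nat.le_of_dvd (by omega) h1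
      have hpA : p = q ^ m + 1 := by omega
      rcases hq.eq_two_or_odd' with rfl | hodd
      · exact hnf ⟨m, hpA⟩
      · refine hp2 (hp.out.even_iff.1 ?_)
        rw [hpA]
        exact (hodd.pow).add_one
  set w := (∑ i ∈ Finset.range p, fy ^ i) v0 with hw
  obtain ⟨lam, hlam⟩ : ∃ lam : Module.Dual (ZMod p) V, lam w = 1 :=
    Module.Projective.exists_dual_eq_one (ZMod p) hv0
  let Λ : V →ₗ[ZMod p] (ZMod p → ZMod p) := LinearMap.pi fun i => lam.comp (fy ^ i.val)
  have hΛ : ∀ u i, Λ u i = lam ((fy ^ i.val) u) := fun _ _ => rfl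
  have hfyp : fy ^ p = 1 := by rw [hfy, ← map_pow, hyp, map_one]
  have hΛS : ∀ u, Λ (fy u) = shift p (Λ u) := by
    intro u
    funext i
    rw [shift_apply, hΛ, hΛ, ← Module.End.mul_apply, ← pow_succ, ZMod.val_add, ZMod.val_one,
      ← pow_eq_pow_mod _ hfyp]
  have hsumv : ∑ i, Λ v0 i = 1 := by
    rw [← hlam, hw, LinearMap.sum_apply, map_sum]
    refine Finset.sum_bij (fun i _ => i.val) (fun i _ => Finset.mem_range.2 (ZMod.val_lt i))
      (fun i _ j _ e => ZMod.val_injective p e) (fun b hb => ⟨(b : ZMod p), Finset.mem_univ _,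
        ZMod.val_cast_of_lt (Finset.mem_range.1 hb)⟩) fun i _ => hΛ v0 i
  have hΛtop : LinearMap.range Λ = ⊤ := eq_top_of_sum_ne_zero _
    (by rintro _ ⟨u, rfl⟩; exact ⟨fy u, hΛS u⟩) ⟨v0, rfl⟩ (by rw [hsumv]; exact one_ne_zero)
  let L : O → ZMod p → ZMod p := fun o => Λ (π o).toAdd
  have hLmul : ∀ a b, L (a * b) = L a + L b := fun a b => by
    show Λ (π (a * b)).toAdd = _
    rw [map_mul, toAdd_mul, map_add]
  have hLsurj : Function.Surjective L := fun f => by
    obtain ⟨u, hu⟩ : f ∈ LinearMap.range Λ := hΛtop ▸ Submodule.mem_top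
    obtain ⟨o, ho⟩ := hπ (Multiplicative.ofAdd u)
    exact ⟨o, by show Λ (π o).toAdd = f; rw [ho]; exact hu⟩
  have hmkg : (QuotientGroup.mk g : K ⧸ O) = y := hgy
  have hLconj : ∀ (k : K) (o : O), (QuotientGroup.mk k : K ⧸ O) = y →
      L (MulAut.conjNormal k o) = shift p (L o) := fun k o hk => by
    show Λ (π _).toAdd = _
    rw [← heq, hk]
    exact hΛS _
  -- adjust the lift
  have hgp : g ^ p ∈ O := (QuotientGroup.eq_one_iff _).1 (by rw [QuotientGroup.mk_pow, hmkg, hyp])
  obtain ⟨o1, ho1⟩ := hLsurj (fun i => if i = 0 then -(L ⟨g ^ p, hgp⟩ 0) else 0)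
  set g' := (o1 : K) * g with hg'
  have hmkg' : (QuotientGroup.mk g' : K ⧸ O) = y := by
    rw [hg', QuotientGroup.mk_mul, (QuotientGroup.eq_one_iff (o1 : K)).2 o1.2, one_mul, hmkg]
  have hg'p : g' ^ p ∈ O := (QuotientGroup.eq_one_iff _).1 (by rw [QuotientGroup.mk_pow, hmkg', hyp])
  have hLg' : L ⟨g' ^ p, hg'p⟩ = 0 := by
    have hpow : ∀ k : ℕ, ∃ z : O, g' ^ k = z * g ^ k ∧ ∀ i, L z i = ∑ t ∈ Finset.range k, L o1 (i + t) := by
      intro k
      induction k with
      | zero => exact ⟨1, by simp, fun i => by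
          show Λ (π 1).toAdd i = _
          simp⟩
      | succ k ih =>
        obtain ⟨z, hz1, hz2⟩ := ih
        refine ⟨z * MulAut.conjNormal (g ^ k) o1, ?_, fun i => ?_⟩
        · rw [pow_succ, hz1, Subgroup.coe_mul, MulAut.conjNormal_apply, hg', pow_succ]
          group
        · rw [hLmul, Pi.add_apply, hz2, Finset.sum_range_succ]
          congr 1
          have hk : ∀ (k : ℕ) (o : O), L (MulAut.conjNormal (g ^ k) o) = (shift p ^ k) (L o) := by
            intro k
            induction k with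
            | zero => intro o; rw [pow_zero, map_one, pow_zero]; rfl
            | succ k ih2 =>
              intro o
              rw [pow_succ', map_mul, MulAut.mul_apply, hLconj g _ hmkg, ih2, pow_succ', Module.End.mul_apply]
          rw [hk, shift_pow_apply]
    obtain ⟨z, hz1, hz2⟩ := hpow p
    have hgfix : ∀ i : ZMod p, L ⟨g ^ p, hgp⟩ (i + 1) = L ⟨g ^ p, hgp⟩ i := fun i => by
      have e1 := hLconj g ⟨g ^ p, hgp⟩ hmkg
      rw [show MulAut.conjNormal g (⟨g ^ p, hgp⟩ : O) = ⟨g ^ p, hgp⟩ from Subtype.ext (by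
        rw [MulAut.conjNormal_apply]; group)] at e1
      have e2 := congrFun e1 i
      rw [shift_apply] at e2
      exact e2.symm
    have hconst : ∀ (t : ℕ), L ⟨g ^ p, hgp⟩ (t : ZMod p) = L ⟨g ^ p, hgp⟩ 0 := by
      intro t
      induction t with
      | zero => simp
      | succ t ih => rw [Nat.cast_succ, hgfix, ih]
    funext i
    rw [show (⟨g' ^ p, hg'p⟩ : O) = z * ⟨g ^ p, hgp⟩ from Subtype.ext hz1, hLmul, Pi.add_apply, hz2,
      ← ZMod.natCast_zmod_val i, hconst]
    have hsum : ∑ t ∈ Finset.range p, L o1 ((i.val : ZMod p) + t) = ∑ j : ZMod p, L o1 j := by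
      refine Finset.sum_bij (fun t _ => (i.val : ZMod p) + t) (fun _ _ => Finset.mem_univ _)
        (fun t ht t' ht' e => ?_) (fun b _ => ⟨(b - i.val : ZMod p).val, Finset.mem_range.2 (ZMod.val_lt _), ?_⟩)
        fun _ _ => rfl
      · have := congrArg ZMod.val (add_left_cancel e)
        rwa [ZMod.val_cast_of_lt (Finset.mem_range.1 ht), ZMod.val_cast_of_lt (Finset.mem_range.1 ht')] at this
      · rw [ZMod.natCast_zmod_val (b - _)]; abel
    rw [hsum, ho1, Finset.sum_ite_eq' Finset.univ (0 : ZMod p)]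
    simp
  have hg'P : g' ∈ (P : Subgroup K) := mul_mem (hOP o1.2) hgP
  -- the section
  set X := O ⊔ zpowers g' with hX'
  have hXP : X ≤ (P : Subgroup K) := sup_le hOP (zpowers_le.2 hg'P)
  let Lh : O →* Multiplicative (ZMod p → ZMod p) :=
    MonoidHom.mk' (fun o => Multiplicative.ofAdd (L o)) fun a b => by
      rw [hLmul]; rfl
  have hLh : ∀ o : O, Lh o = 1 ↔ L o = 0 := fun o => by
    show Multiplicative.ofAdd (L o) = Multiplicative.ofAdd 0 ↔ _
    exact Multiplicative.ofAdd.injective.eq_iff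
  set R := Lh.ker.map O.subtype with hR
  have hRmem : ∀ o : O, (o : K) ∈ R ↔ L o = 0 := fun o => by
    rw [hR, ← Subgroup.coe_subtype, Subgroup.mem_map_iff_mem O.subtype_injective, MonoidHom.mem_ker, hLh]
  have hRO : R ≤ O := map_subtype_le _
  have hnormg : g' ∈ normalizer (R : Set K) := by
    refine mem_normalizer_iff_map_conj_eq.2 (eq_of_le_of_card_ge ?_
      (card_map_of_injective (MulAut.conj g').injective).ge)
    rintro _ ⟨r, hr, rfl⟩
    obtain ⟨o, ho, rfl⟩ := hr
    have ho' : L o = 0 := (hLh o).1 ho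
    show g' * (o : K) * g'⁻¹ ∈ R
    rw [← MulAut.conjNormal_apply, hRmem, hLconj g' o hmkg', ho', map_zero]
  have hXn : X ≤ normalizer (R : Set K) := by
    refine sup_le (fun o ho => ?_) (zpowers_le.2 hnormg)
    refine mem_normalizer_iff_map_conj_eq.2 (eq_of_le_of_card_ge ?_
      (card_map_of_injective (MulAut.conj o).injective).ge)
    rintro _ ⟨r, ⟨r', hr', rfl⟩, rfl⟩
    exact ⟨⟨o, ho⟩ * r' * (⟨o, ho⟩ : O)⁻¹, (MonoidHom.normal_ker Lh).conj_mem _ hr' _, rfl⟩
  haveI : (R.subgroupOf X).Normal := normal_subgroupOf_of_le_normalizer hXn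
  let m := QuotientGroup.mk' (R.subgroupOf X)
  have hm1 : ∀ z : X, m z = 1 ↔ (z : K) ∈ R := fun z => QuotientGroup.eq_one_iff z
  set t := m ⟨g', mem_sup_right (mem_zpowers g')⟩ with ht
  set B := (O.subgroupOf X).map m with hB
  have hOX : O ≤ X := le_sup_left
  let j : O → X ⧸ R.subgroupOf X := fun o => m ⟨o, hOX o.2⟩
  have hj1 : ∀ o, j o = 1 ↔ L o = 0 := fun o => (hm1 _).trans (hRmem o)
  have hjmul : ∀ a b, j (a * b) = j a * j b := fun a b => map_mul m ⟨a, hOX a.2⟩ ⟨b, hOX b.2⟩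
  have hjB : ∀ b ∈ B, ∃ o, j o = b := by
    rintro _ ⟨z, hz, rfl⟩
    exact ⟨⟨z, hz⟩, rfl⟩
  have hjmem : ∀ o, j o ∈ B := fun o => ⟨⟨o, hOX o.2⟩, o.2, rfl⟩
  have hLinv : ∀ a, L a⁻¹ = -L a := fun a => eq_neg_of_add_eq_zero_left (by
    rw [← hLmul, inv_mul_cancel]; exact (hLh 1).1 (map_one Lh))
  have hjinv : ∀ a, j a⁻¹ = (j a)⁻¹ := fun a => map_inv m ⟨a, hOX a.2⟩
  have hjeq : ∀ a b, j a = j b ↔ L a = L b := fun a b => by
    rw [← inv_mul_eq_one, ← hjinv, ← hjmul, hj1, hLmul, hLinv, neg_add_eq_zero]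
  have hcardB : Nat.card B = p ^ p := by
    let e : B → ZMod p → ZMod p := fun b => L (hjB b b.2).choose
    have he : Function.Bijective e := by
      refine ⟨fun b b' hbb => Subtype.ext ?_, fun f => ?_⟩
      · rw [← (hjB b b.2).choose_spec, ← (hjB b' b'.2).choose_spec, hjeq]; exact hbb
      · obtain ⟨o, ho⟩ := hLsurj f
        exact ⟨⟨j o, hjmem o⟩, ((hjeq _ _).1 (hjB _ (hjmem o)).choose_spec).trans ho⟩
    rw [Nat.card_eq_of_bijective e he, Nat.card_fun, Nat.card_zmod]
  have htp : t ^ p = 1 := (hm1 (⟨g', mem_sup_right (mem_zpowers g')⟩ ^ p)).2 ((hRmem ⟨g' ^ p, hg'p⟩).2 hLg')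
  have hBn : B.Normal := Subgroup.Normal.map
    (normal_subgroupOf_of_le_normalizer (by rw [normalizer_eq_top_iff.2 inferInstance]; exact le_top)) m
    (QuotientGroup.mk'_surjective _)
  have htB : t ∉ B := fun h => by
    obtain ⟨o, ho⟩ := hjB t h
    have hr : ((⟨(o : K), hOX o.2⟩ : X)⁻¹ * ⟨g', mem_sup_right (mem_zpowers g')⟩ : X) ∈ R.subgroupOf X :=
      QuotientGroup.eq.1 ho
    have h1 : g' ∈ O := by
      have := mul_mem o.2 (hRO hr)
      simpa using this
    exact hy1 (hmkg' ▸ (QuotientGroup.eq_one_iff g').2 h1)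
  have htord : orderOf t = p := orderOf_eq_prime htp (fun e => htB (e ▸ one_mem B))
  have hcardW : Nat.card (X ⧸ R.subgroupOf X) = p ^ (p + 1) := by
    have hsup : B ⊔ zpowers t = ⊤ := by
      have hX2 : O.subgroupOf X ⊔ zpowers (⟨g', mem_sup_right (mem_zpowers g')⟩ : X) = ⊤ := by
        refine map_injective X.subtype_injective ?_
        rw [Subgroup.map_sup, subgroupOf_map_subtype, inf_eq_left.2 hOX, MonoidHom.map_zpowers,
          ← MonoidHom.range_eq_map, Subgroup.range_subtype]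
        rfl
      rw [hB, ht, ← MonoidHom.map_zpowers, ← Subgroup.map_sup, hX2, map_top_of_surjective _
        (QuotientGroup.mk'_surjective _)]
    haveI := hBn
    have hidx : B.index = p := by
      rw [index_eq_card]
      have hall : (⊤ : Subgroup ((X ⧸ R.subgroupOf X) ⧸ B)) = zpowers (QuotientGroup.mk' B t) := by
        rw [← MonoidHom.map_zpowers, ← map_top_of_surjective _ (QuotientGroup.mk'_surjective B), ← hsup,
          Subgroup.map_sup, QuotientGroup.map_mk'_self, bot_sup_eq]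
      rw [← card_top (G := (X ⧸ R.subgroupOf X) ⧸ B), hall, Nat.card_zpowers]
      refine orderOf_eq_prime ?_ fun e => htB ((QuotientGroup.eq_one_iff t).1 e)
      rw [← map_pow, htp, map_one]
    rw [← Subgroup.card_mul_index B, hidx, hcardB, pow_succ]
  have htj : ∀ o, (j o * t = t * j o) ↔ shift p (L o) = L o := fun o => by
    rw [← hLconj g' o hmkg', ← hjeq, eq_comm, ← mul_inv_eq_iff_eq_mul]
    have e1 : t * j o * t⁻¹ = j (MulAut.conjNormal g' o) := by
      show m _ * m _ * (m _)⁻¹ = m _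
      rw [← map_inv, ← map_mul, ← map_mul]
      exact congrArg m (Subtype.ext (by simp [MulAut.conjNormal_apply]))
    rw [e1]
  have hcardC : Nat.card ↥(B ⊓ centralizer ({t} : Set (X ⧸ R.subgroupOf X))) = p := by
    let e : ↥(B ⊓ centralizer ({t} : Set (X ⧸ R.subgroupOf X))) → ZMod p := fun b =>
      L (hjB b (mem_inf.1 b.2).1).choose 0
    have he : Function.Bijective e := by
      refine ⟨fun b b' hbb => Subtype.ext ?_, fun c => ?_⟩
      · have hb := (hjB b (mem_inf.1 b.2).1).choose_spec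
        have hb' := (hjB b' (mem_inf.1 b'.2).1).choose_spec
        set o := (hjB b (mem_inf.1 b.2).1).choose
        set o' := (hjB b' (mem_inf.1 b'.2).1).choose
        rw [← hb, ← hb', hjeq]
        have hc : ∀ (o : O), shift p (L o) = L o → ∀ n : ℕ, L o (n : ZMod p) = L o 0 := fun o ho n => by
          induction n with
          | zero => simp
          | succ n ih => rw [Nat.cast_succ, ← shift_apply p (L o), ho, ih]
        have h1 := hc o ((htj o).1 (by rw [hb]; exact mem_centralizer_singleton_iff.1 (mem_inf.1 b.2).2))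
        have h2 := hc o' ((htj o').1 (by rw [hb']; exact mem_centralizer_singleton_iff.1 (mem_inf.1 b'.2).2))
        funext i
        rw [← ZMod.natCast_zmod_val i, h1, h2]
        exact hbb
      · obtain ⟨o, ho⟩ := hLsurj (fun _ => c)
        have hmem : j o ∈ B ⊓ centralizer ({t} : Set (X ⧸ R.subgroupOf X)) := mem_inf.2 ⟨hjmem o,
          mem_centralizer_singleton_iff.2 ((htj o).2 (by rw [ho]; rfl))⟩
        exact ⟨⟨_, hmem⟩, congrFun (((hjeq _ _).1 (hjB _ (hjmem o)).choose_spec).trans ho) 0⟩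
    rw [Nat.card_eq_of_bijective e he, Nat.card_zmod]
  -- shrink to the lowest universe
  let E : Shrink.{0} (X ⧸ R.subgroupOf X) ≃* (X ⧸ R.subgroupOf X) := Shrink.mulEquiv
  have hEi : ∀ z, E (E.symm z) = z := E.apply_symm_apply
  haveI : Finite (Shrink.{0} (X ⧸ R.subgroupOf X)) := Finite.of_equiv _ E.symm.toEquiv
  refine hwr (Shrink.{0} (X ⧸ R.subgroupOf X)) ⟨B.comap E.toMonoidHom, E.symm t, hBn.comap _, ⟨⟨?_⟩⟩, ?_, ?_, ?_,
    ?_, ?_, ?_⟩ ?_
  · rintro ⟨a, ha⟩ ⟨b, hb⟩
    obtain ⟨o, ho⟩ := hjB _ ha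
    obtain ⟨o', ho'⟩ := hjB _ hb
    refine Subtype.ext (E.injective ?_)
    show E (a * b) = E (b * a)
    rw [map_mul, map_mul, show E a = j o from ho.symm, show E b = j o' from ho'.symm, ← hjmul, ← hjmul, hjeq,
      hLmul, hLmul, add_comm]
  · intro b hb
    obtain ⟨o, ho⟩ := hjB _ hb
    refine E.injective ?_
    rw [map_pow, map_one, show E b = j o from ho.symm]
    have hk : ∀ k : ℕ, L (o ^ k) = (k : ZMod p) • L o := by
      intro k
      induction k with
      | zero => rw [pow_zero, Nat.cast_zero, zero_smul]; exact (hLh 1).1 (map_one Lh)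
      | succ k ih => rw [pow_succ, hLmul, ih, Nat.cast_succ, add_smul, one_smul]
    have hjp : ∀ k : ℕ, j (o ^ k) = j o ^ k := fun k => map_pow m ⟨o, hOX o.2⟩ k
    rw [← hjp, hj1, hk, ZMod.natCast_self, zero_smul]
  · rw [← hcardB]
    exact Nat.card_congr (E.toEquiv.subtypeEquiv fun z => Iff.rfl)
  · rw [← htord]; exact E.symm.orderOf_eq t
  · intro h
    have := mem_comap.1 h
    rw [MulEquiv.coe_toMonoidHom, hEi] at this
    exact htB this
  · rw [Nat.card_congr E.toEquiv, hcardW]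
  · refine (Nat.card_congr (E.toEquiv.subtypeEquiv fun z => ?_)).trans hcardC
    rw [mem_inf, mem_inf, mem_comap, mem_centralizer_singleton_iff, mem_centralizer_singleton_iff]
    refine and_congr Iff.rfl ?_
    rw [← E.injective.eq_iff, map_mul, map_mul, hEi]
    rfl
  · exact Lib.FusionSys.involves_iff_exists_hom.2 ⟨X.subgroupOf (P : Subgroup K),
      (E.symm.toMonoidHom.comp m).comp (subgroupOfEquivOfLe hXP).toMonoidHom,
      (E.symm.surjective.comp (QuotientGroup.mk'_surjective _)).comp (subgroupOfEquivOfLe hXP).surjective⟩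

/-- Let G be a finite p-soluble group, p an odd prime not of the form 2^k + 1, and suppose the wreath product C_p ≀ C_p (of order p^(p+1)) is not involved in a Sylow p-subgroup of G: no section of a Sylow p-subgroup is isomorphic to it. Then G has p-length at most 1. -/
theorem result {G : Type*} [Group G] [Finite G] {p : ℕ} [Fact p.Prime] (hp2 : p ≠ 2) (hnf : (¬ ∃ k : ℕ, p = 2 ^ k + 1)) (hG : Cfsg.IsPSolvable p G) (P : Sylow p G) (hwr : ∀ (W : Type) [Group W] [Finite W], (∃ (B : Subgroup W) (t : W), B.Normal ∧ IsMulCommutative B ∧ (∀ b ∈ B, b ^ p = 1) ∧ Nat.card B = p ^ p ∧ orderOf t = p ∧ t ∉ B ∧ Nat.card W = p ^ (p + 1) ∧ Nat.card ↥(B ⊓ Subgroup.centralizer ({t} : Set W)) = p) → ¬ Cfsg.Involves W ↥(P : Subgroup G)) : Cfsg.PLengthLE p 1 G := by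
  let π := QuotientGroup.mk' (Cfsg.pPrimeCore p G)
  have hπ : Function.Surjective π := QuotientGroup.mk'_surjective _
  refine (Lib.Local.pLengthLE_iff 1).2 (Lib.Local.PChain.reduce (Lib.Local.pChain_of_coprime ?_ 0))
  refine core hp2 hnf (Lib.Core.isPSolvable_quotient hG _) Lib.Core.pPrimeCore_quotient_eq_bot
    (P.mapSurjective hπ) fun W _ _ hW hI => hwr W hW ?_
  exact Lib.FusionSys.involves_of_surjective (π.subgroupMap_surjective (P : Subgroup G)) hI

end Cfsg.Agent.S3787
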