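import Cfsg.Statements.S3788
import Cfsg.Agent.Lib.Local.TopModule
import Cfsg.Agent.Lib.Local.SFour
import Cfsg.Agent.Lib.Local.HallHigmanTheoremB
-- import your own Cfsg.Agent.* helpers here

set_option autoImplicit false
open Cfsg

namespace Cfsg.Agent.S3788

open Subgroup Cfsg.Lib.Local
open scoped commutatorElement

universe u

theorem core {K : Type u} [Group K] [Finite K] {p : ℕ} [hp : Fact p.Prime] (hK : Cfsg.IsPSolvable p K)
    (hO' : Cfsg.pPrimeCore p K = ⊥) (P : Sylow p K) (a0 : K) (ha0 : a0 ∈ (P : Subgroup K))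
    (hn : ∀ g ∈ (P : Subgroup K), g * a0 * g⁻¹ ∈ zpowers a0)
    (h : p ≠ 2 ∨ ¬ Cfsg.Involves (Equiv.Perm (Fin 4)) K) : a0 ∈ Cfsg.pCore p K := by
  classical
  by_contra ha0O
  set O := Cfsg.pCore p K with hOdef
  have hOp : IsPGroup p O := Lib.Core.pCore_isPGroup p K
  obtain ⟨e0, he0⟩ := IsPGroup.iff_orderOf.1 P.isPGroup' ⟨a0, ha0⟩
  rw [Subgroup.orderOf_mk] at he0
  have hex : ∃ t, a0 ^ p ^ t ∈ O := ⟨e0, by rw [← he0, pow_orderOf_eq_one]; exact one_mem O⟩
  obtain ⟨s, hs⟩ : ∃ s, Nat.find hex = s + 1 := ⟨Nat.find hex - 1, by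
    have : Nat.find hex ≠ 0 := fun e => ha0O (by simpa [e] using Nat.find_spec hex)
    omega⟩
  set a := a0 ^ p ^ s with ha
  have haO : a ∉ O := Nat.find_min hex (by omega)
  have hapO : a ^ p ∈ O := by
    rw [ha, ← pow_mul, ← pow_succ, ← hs]; exact Nat.find_spec hex
  have hconj : ∀ v ∈ O, ∃ k : ℤ, v * a * v⁻¹ * a⁻¹ = (a ^ p) ^ k := by
    intro v hv
    obtain ⟨i, hi⟩ := mem_zpowers_iff.1 (hn v (Lib.Core.pCore_le_sylow P hv))
    have h1 : v * a * v⁻¹ = a ^ i := by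
      rw [ha, ← conj_pow, ← hi, ← zpow_natCast (a0 ^ i), ← zpow_mul, ← zpow_natCast a0, ← zpow_mul, mul_comm]
    have h2 : v * a * v⁻¹ * a⁻¹ = a ^ (i - 1) := by rw [h1, zpow_sub_one]
    have h3 : a ^ (i - 1) ∈ O := by
      rw [← h2, show v * a * v⁻¹ * a⁻¹ = v * (a * v⁻¹ * a⁻¹) by group]
      exact mul_mem hv ((inferInstance : O.Normal).conj_mem _ (inv_mem hv) a)
    obtain ⟨k, hk⟩ : (p : ℤ) ∣ i - 1 := by
      by_contra hnd
      refine haO ?_
      obtain ⟨x, y, hxy⟩ : IsCoprime (p : ℤ) (i - 1) :=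
        (Prime.coprime_iff_not_dvd (Nat.prime_iff_prime_int.1 hp.out)).2 hnd
      have : a = (a ^ p) ^ x * (a ^ (i - 1)) ^ y := by
        rw [← zpow_natCast a p, ← zpow_mul, ← zpow_mul, ← zpow_add, mul_comm (p : ℤ), mul_comm (i - 1), hxy,
          zpow_one]
      rw [this]
      exact mul_mem (zpow_mem hapO x) (zpow_mem h3 y)
    exact ⟨k, by rw [h2, hk, zpow_mul, zpow_natCast]⟩
  obtain ⟨V, _, _, _, ρ, π, hρ, hπ, -, heq⟩ := exists_top_module hK hO'
  let u : K ⧸ O := QuotientGroup.mk a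
  let f : Module.End (ZMod p) V := ρ u
  let e : V := (π ⟨a ^ p, hapO⟩).toAdd
  let W : Submodule (ZMod p) V := Submodule.span (ZMod p) {e}
  have hfe : f e = e := by
    show ρ (QuotientGroup.mk a) _ = _
    rw [heq]
    refine congrArg (fun z => (π z).toAdd) (Subtype.ext ?_)
    rw [MulAut.conjNormal_apply]; group
  have hfW : ∀ w ∈ W, f w = w := fun w hw => by
    obtain ⟨c, rfl⟩ := Submodule.mem_span_singleton.1 hw
    rw [map_smul, hfe]
  have hfV : ∀ w, f w - w ∈ W := by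
    intro w
    obtain ⟨v, hv⟩ := hπ (Multiplicative.ofAdd w)
    obtain ⟨k, hk⟩ := hconj v v.2
    rw [show w = (π v).toAdd by rw [hv]; rfl]
    show ρ (QuotientGroup.mk a) _ - _ ∈ W
    rw [heq]
    have e1 : MulAut.conjNormal a v = ((⟨a ^ p, hapO⟩ : O) ^ k)⁻¹ * v := Subtype.ext (by
      rw [MulAut.conjNormal_apply, Subgroup.coe_mul, InvMemClass.coe_inv, SubgroupClass.coe_zpow]
      show a * (v : K) * a⁻¹ = ((a ^ p) ^ k)⁻¹ * v
      rw [← hk]; group)
    rw [e1, map_mul, map_inv, map_zpow, toAdd_mul, toAdd_inv, toAdd_zpow, add_sub_cancel_right]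
    exact neg_mem (zsmul_mem (Submodule.mem_span_singleton_self e) k)
  -- a moved subgroup
  have hu1 : u ≠ 1 := fun h1 => haO ((QuotientGroup.eq_one_iff a).1 h1)
  have hup : u ^ p = 1 := (QuotientGroup.eq_one_iff (a ^ p)).2 hapO
  have hord : orderOf u = p := orderOf_eq_prime hup hu1
  have hX : IsPGroup p (zpowers u) := IsPGroup.of_card (n := 1) (by rw [Nat.card_zpowers, hord, pow_one])
  obtain ⟨q, hq, hqp, Q, hQ, -, hQX, b, hb, hbne⟩ := exists_moved_qGroup (Lib.Core.isPSolvable_quotient hK O)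
    Lib.Core.pCore_quotient_pCore_eq_bot hX (mem_zpowers u) hu1
  have : Fact q.Prime := ⟨hq⟩
  have hnorm : ∀ R : Subgroup (K ⧸ O), (∀ c ∈ R, u * c * u⁻¹ ∈ R) → u ∈ normalizer (R : Set (K ⧸ O)) := by
    intro R hR
    refine mem_normalizer_iff_map_conj_eq.2 (eq_of_le_of_card_ge ?_
      (card_map_of_injective (MulAut.conj u).injective).ge)
    rintro _ ⟨c, hc, rfl⟩
    exact hR c hc
  set c := ⁅u, b⁆ with hc
  have hcQ : c ∈ Q := by
    rw [hc, commutatorElement_def]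
    exact mul_mem (hQX u (mem_zpowers u) b hb) (inv_mem hb)
  have hc1 : c ≠ 1 := fun h1 => hbne (by
    rw [hc, commutatorElement_eq_one_iff_mul_comm] at h1
    rw [h1, mul_inv_cancel_right])
  have hcop : (orderOf c).Coprime p := by
    obtain ⟨i, hi⟩ := IsPGroup.iff_orderOf.1 hQ ⟨c, hcQ⟩
    rw [Subgroup.orderOf_mk] at hi
    rw [hi]
    exact ((Nat.coprime_primes hq hp.out).2 hqp).pow_left i
  -- elements trivial on the layers of a chain of length two are trivial
  have htriv : ∀ (g : K ⧸ O) (U : Submodule (ZMod p) V), (orderOf g).Coprime p → (∀ w ∈ U, ρ g w = w) →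
      (∀ w, ρ g w - w ∈ U) → g = 1 := by
    intro g U hg hgU hgV
    have h2 : (ρ g - 1) ^ 2 = 0 := LinearMap.ext fun w => by
      show ρ g (ρ g w - w) - (ρ g w - w) = 0
      rw [hgU _ (hgV w), sub_self]
    have h3 : ρ (g ^ p) = ρ 1 := by
      rw [map_pow, map_one, ← sub_eq_zero]
      have h4 := pow_sub_one_eq (ZMod p) (p := p) (ρ g) 1
      rw [pow_one] at h4
      rw [← h4]
      exact pow_eq_zero_of_le hp.out.two_le h2
    rw [← orderOf_eq_one_iff]
    exact Nat.dvd_one.1 (hg.gcd_eq_one ▸ Nat.dvd_gcd dvd_rfl (orderOf_dvd_of_pow_eq_one (hρ h3)))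
  rcases Decidable.eq_or_ne p 2 with hp2 | hp2
  · subst hp2
    refine (h.resolve_left (by simp)) ?_
    have huu : u⁻¹ = u := inv_eq_of_mul_eq_one_right (by rw [← pow_two, hup])
    -- the plane
    let U : Submodule (ZMod 2) V := Submodule.span (ZMod 2) {e, ρ b e}
    have hceq : ∀ w, ρ c w = ρ u (ρ b (ρ u (ρ b⁻¹ w))) := fun w => by
      rw [hc, commutatorElement_def, huu, ρ_mul_apply, ρ_mul_apply, ρ_mul_apply]
    have hWU : W ≤ U := Submodule.span_mono (by simp)
    have hcV : ∀ w, ρ c w - w ∈ U := by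
      intro w
      have h1 : ρ b (ρ u (ρ b⁻¹ w)) - w ∈ U := by
        have h2 : ρ b (ρ u (ρ b⁻¹ w)) - w = ρ b (f (ρ b⁻¹ w) - ρ b⁻¹ w) := by
          rw [map_sub, ← ρ_mul_apply ρ b b⁻¹, mul_inv_cancel, map_one]; rfl
        obtain ⟨k, hk⟩ := Submodule.mem_span_singleton.1 (hfV (ρ b⁻¹ w))
        rw [h2, ← hk, map_smul]
        exact Submodule.smul_mem _ _ (Submodule.subset_span (by simp))
      rw [hceq, show ρ u (ρ b (ρ u (ρ b⁻¹ w))) - w =
        (f (ρ b (ρ u (ρ b⁻¹ w))) - ρ b (ρ u (ρ b⁻¹ w))) + (ρ b (ρ u (ρ b⁻¹ w)) - w) by simp [f]]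
      exact add_mem (hWU (hfV _)) h1
    have hcU : ∀ w ∈ U, ρ c w ∈ U := fun w hw => by simpa using add_mem (hcV w) hw
    -- the cube fixes the plane
    have hc3 : c ^ 3 = 1 := by
      let σ0 : U → U := fun w => ⟨ρ c w, hcU w w.2⟩
      have hσ0 : Function.Injective σ0 := fun w w' hw => by
        have h1 : ρ c (w : V) = ρ c (w' : V) := congrArg Subtype.val hw
        have h2 := congrArg (ρ c⁻¹) h1
        rw [← ρ_mul_apply, ← ρ_mul_apply, inv_mul_cancel, map_one] at h2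
        exact Subtype.ext h2
      have : Finite V := Finite.of_surjective (fun v => (π v).toAdd) fun w => hπ (Multiplicative.ofAdd w)
      let σ : Equiv.Perm U := Equiv.ofBijective σ0 (Finite.injective_iff_bijective.1 hσ0)
      have hσ : ∀ (k : ℕ) (w : U), (((σ ^ k) w : U) : V) = ρ (c ^ k) w := by
        intro k
        induction k with
        | zero => intro w; simp
        | succ k ih =>
          intro w
          rw [pow_succ', Equiv.Perm.mul_apply, pow_succ', ρ_mul_apply, ← ih]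
          rfl
      have hcard : Nat.card U ≤ 4 := by
        let g : ZMod 2 × ZMod 2 → U := fun k =>
          ⟨k.1 • e + k.2 • ρ b e, Submodule.mem_span_pair.2 ⟨k.1, k.2, rfl⟩⟩
        have hg : Function.Surjective g := fun w => by
          obtain ⟨k1, k2, hk⟩ := Submodule.mem_span_pair.1 w.2
          exact ⟨(k1, k2), Subtype.ext hk⟩
        exact (Nat.card_le_card_of_surjective g hg).trans (by simp)
      have h24 : orderOf σ ∣ 24 := by
        refine (orderOf_dvd_natCard σ).trans ?_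
        rw [Nat.card_perm]
        exact Nat.factorial_dvd_factorial hcard
      have hodd : (orderOf σ).Coprime 2 := hcop.coprime_dvd_left (orderOf_dvd_of_pow_eq_one
        (Equiv.ext fun w => Subtype.ext (by rw [hσ, pow_orderOf_eq_one, map_one]; rfl)))
      have h3 : σ ^ 3 = 1 := by
        refine orderOf_dvd_iff_pow_eq_one.1 ((hodd.pow_right 3).dvd_of_dvd_mul_left ?_)
        simpa using h24
      refine htriv _ U (hcop.coprime_dvd_left (orderOf_pow_dvd 3)) (fun w hw => ?_) fun w => ?_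
      · rw [← hσ 3 ⟨w, hw⟩, h3]; rfl
      · have h4 : ρ (c ^ 3) w - w =
            (ρ c (ρ c (ρ c w)) - ρ c (ρ c w)) + ((ρ c (ρ c w) - ρ c w) + (ρ c w - w)) := by
          rw [pow_succ, pow_two, ρ_mul_apply, ρ_mul_apply]; abel
        rw [h4]
        exact add_mem (hcV _) (add_mem (hcV _) (hcV _))
    have hc3' : orderOf c = 3 := orderOf_eq_prime (hp := ⟨Nat.prime_three⟩) hc3 hc1
    have : Fact (Nat.Prime 3) := ⟨Nat.prime_three⟩
    have hucu : u * c * u⁻¹ = c⁻¹ := by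
      rw [hc, commutatorElement_inv, commutatorElement_def, commutatorElement_def]
      calc u * (u * b * u⁻¹ * b⁻¹) * u⁻¹ = (u * u) * b * u⁻¹ * b⁻¹ * u⁻¹ := by group
        _ = b * u * b⁻¹ * u⁻¹ := by rw [← pow_two, hup, one_mul, huu]
    have hu' : u ∈ normalizer ((zpowers c : Subgroup (K ⧸ O)) : Set (K ⧸ O)) := hnorm _ fun d hd => by
      obtain ⟨k, rfl⟩ := mem_zpowers_iff.1 hd
      exact mem_zpowers_iff.2 ⟨-k, by rw [← conj_zpow, hucu, zpow_neg, inv_zpow]⟩
    obtain ⟨S, hS, hSmap, hSO, v, hv, hav⟩ := exists_lift_normalizer O hOp (q := 3) (by decide) (zpowers c)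
      (IsPGroup.of_card (n := 1) (by rw [Nat.card_zpowers, hc3', pow_one])) a hu'
    obtain ⟨y, hy, hyc⟩ := hSmap.ge (mem_zpowers c)
    have hmk : (QuotientGroup.mk (v⁻¹ * a) : K ⧸ O) = u := by
      rw [QuotientGroup.mk_mul, QuotientGroup.mk_inv, (QuotientGroup.eq_one_iff v).2 hv, inv_one, one_mul]
    have hxyy : v⁻¹ * a * y * (v⁻¹ * a)⁻¹ * y = 1 := by
      rw [← mem_bot, ← hSO, mem_inf]
      refine ⟨mul_mem ((mem_normalizer_iff.1 hav y).1 hy) hy, (QuotientGroup.eq_one_iff _).1 ?_⟩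
      rw [QuotientGroup.mk_mul, QuotientGroup.mk_mul, QuotientGroup.mk_mul, QuotientGroup.mk_inv, hmk,
        show (QuotientGroup.mk y : K ⧸ O) = c from hyc, hucu, inv_mul_cancel]
    have hx2 : (v⁻¹ * a) ^ 2 ∈ O := (QuotientGroup.eq_one_iff _).1 (by rw [QuotientGroup.mk_pow, hmk, hup])
    refine involves_four_of_inverted hOp (x := v⁻¹ * a) (y := y)
      (by rw [normalizer_eq_top_iff.2 inferInstance]; exact mem_top _)
      (by rw [normalizer_eq_top_iff.2 inferInstance]; exact mem_top _) ?_ ?_ ?_ ?_ ?_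
    · obtain ⟨k, hk⟩ := IsPGroup.iff_orderOf.1 hOp ⟨_, hx2⟩
      rw [Subgroup.orderOf_mk] at hk
      obtain ⟨i, -, hi⟩ := (Nat.dvd_prime_pow Nat.prime_two).1 (orderOf_dvd_of_pow_eq_one
        (n := 2 ^ (k + 1)) (x := v⁻¹ * a) (by rw [pow_succ', pow_mul, ← hk, pow_orderOf_eq_one]))
      exact ⟨i, hi⟩
    · obtain ⟨k, hk⟩ := IsPGroup.iff_orderOf.1 hS ⟨y, hy⟩
      exact ⟨k, by rwa [Subgroup.orderOf_mk] at hk⟩
    · have h1 : y ^ 3 = 1 := by
        rw [← mem_bot, ← hSO, mem_inf]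
        exact ⟨pow_mem hy 3, (QuotientGroup.eq_one_iff _).1 (by
          rw [QuotientGroup.mk_pow, show (QuotientGroup.mk y : K ⧸ O) = c from hyc, hc3])⟩
      rw [h1]; exact one_mem _
    · exact fun h1 => hc1 (hyc ▸ (QuotientGroup.eq_one_iff y).2
        (Lib.Core.centralizer_pCore_le_of_isPSolvable hK hO' h1))
    · rw [hxyy]; exact one_mem _
  · -- the vector `e` is fixed by `Q`
    obtain ⟨S, hS, hSmap, hSO, v, hv, hav⟩ := exists_lift_normalizer O hOp hqp Q hQ a
      (hnorm Q (hQX u (mem_zpowers u)))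
    set a' := v⁻¹ * a with ha'
    have hmk : (QuotientGroup.mk a' : K ⧸ O) = u := by
      rw [ha', QuotientGroup.mk_mul, QuotientGroup.mk_inv, (QuotientGroup.eq_one_iff v).2 hv, inv_one, one_mul]
    have hpow : ∀ k : ℕ, ∃ w : O, (v * a') ^ k = w * a' ^ k ∧
        (π w).toAdd = (∑ i ∈ Finset.range k, f ^ i) (π ⟨v, hv⟩).toAdd := by
      intro k
      induction k with
      | zero => exact ⟨1, by simp, by simp⟩
      | succ k ih =>
        obtain ⟨w, hw1, hw2⟩ := ih
        refine ⟨w * MulAut.conjNormal (a' ^ k) ⟨v, hv⟩, ?_, ?_⟩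
        · rw [pow_succ, hw1, Subgroup.coe_mul, MulAut.conjNormal_apply, pow_succ]
          group
        · rw [map_mul, toAdd_mul, hw2, ← heq, Finset.sum_range_succ, LinearMap.add_apply,
            QuotientGroup.mk_pow, hmk, map_pow]
    have ha'p : a' ^ p ∈ O := (QuotientGroup.eq_one_iff _).1 (by rw [QuotientGroup.mk_pow, hmk, hup])
    obtain ⟨w, hw1, hw2⟩ := hpow p
    have hN : (∑ i ∈ Finset.range p, f ^ i) = 0 := by
      have h4 := geom_eq_sub_pow (ZMod p) (p := p) f 1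
      rw [pow_one] at h4
      have h5 : (f - 1) ^ 2 = 0 := LinearMap.ext fun x => by
        show f (f x - x) - (f x - x) = 0
        rw [hfW _ (hfV x), sub_self]
      rw [← h4, ← Nat.add_sub_cancel' (show 2 ≤ p - 1 by have := hp.out.two_le; omega), pow_add, h5, zero_mul]
    have he : e = (π ⟨a' ^ p, ha'p⟩).toAdd := by
      have h1 : (⟨a ^ p, hapO⟩ : O) = w * ⟨a' ^ p, ha'p⟩ := Subtype.ext (by
        show a ^ p = (w : K) * a' ^ p
        rw [← hw1, ha', mul_inv_cancel_left])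
      show (π ⟨a ^ p, hapO⟩).toAdd = _
      rw [h1, map_mul, toAdd_mul, hw2, hN, LinearMap.zero_apply, zero_add]
    have hbe : ∀ d ∈ Q, ρ d e = e := by
      intro d hd
      obtain ⟨s, hs, rfl⟩ := hSmap.ge hd
      rw [he]
      show ρ (QuotientGroup.mk s) _ = _
      rw [heq]
      refine congrArg (fun z => (π z).toAdd) (Subtype.ext ?_)
      rw [MulAut.conjNormal_apply]
      show s * a' ^ p * s⁻¹ = a' ^ p
      have h1 : s * a' ^ p * s⁻¹ * (a' ^ p)⁻¹ = 1 := by
        rw [← mem_bot, ← hSO, mem_inf]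
        refine ⟨?_, mul_mem ((inferInstance : O.Normal).conj_mem _ ha'p s) (inv_mem ha'p)⟩
        rw [show s * a' ^ p * s⁻¹ * (a' ^ p)⁻¹ = s * (a' ^ p * s⁻¹ * (a' ^ p)⁻¹) by group]
        exact mul_mem hs ((mem_normalizer_iff.1 (pow_mem hav p) _).1 (inv_mem hs))
      exact mul_inv_eq_one.1 h1
    refine hc1 (htriv c W hcop (fun w hw => ?_) fun w => ?_)
    · obtain ⟨k, rfl⟩ := Submodule.mem_span_singleton.1 hw
      rw [map_smul, hbe c hcQ]
    · have hbW : ∀ x ∈ W, ρ b x = x := fun x hx => by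
        obtain ⟨k, rfl⟩ := Submodule.mem_span_singleton.1 hx
        rw [map_smul, hbe b hb]
      have h1 : ρ c w = f (ρ b (ρ u⁻¹ (ρ b⁻¹ w))) := by
        rw [hc, commutatorElement_def, ρ_mul_apply, ρ_mul_apply, ρ_mul_apply]
      set z := ρ u⁻¹ (ρ b⁻¹ w) with hz
      have h2 : ρ b⁻¹ w = f z := by
        show _ = ρ u (ρ u⁻¹ _)
        rw [← ρ_mul_apply ρ u u⁻¹, mul_inv_cancel, map_one]; rfl
      have h3 : ρ b z = w - (f z - z) := by
        conv_rhs => rw [← hbW _ (hfV z), ← h2, map_sub, ← ρ_mul_apply, mul_inv_cancel, map_one]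
        simp
      rw [h1, show f (ρ b z) - w = (f (ρ b z) - ρ b z) + -(f z - z) by rw [h3]; abel]
      exact add_mem (hfV _) (neg_mem (hfV z))

/-- Let G be a finite p-soluble group, P a Sylow p-subgroup of G and A a cyclic normal subgroup of P. If p is odd, or if no section of G is isomorphic to the symmetric group of degree 4, then A ≤ O_{p',p}(G). -/
theorem result {G : Type*} [Group G] [Finite G] {p : ℕ} [Fact p.Prime] (hG : Cfsg.IsPSolvable p G) (P : Sylow p G) (A : Subgroup G) (hAP : A ≤ (P : Subgroup G)) (hAn : (P : Subgroup G) ≤ Subgroup.normalizer (A : Set G)) (hA : IsCyclic A) (h : p ≠ 2 ∨ ¬ Cfsg.Involves (Equiv.Perm (Fin 4)) G) : A ≤ Cfsg.pPrimePCore p G := by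
  classical
  let π := QuotientGroup.mk' (Cfsg.pPrimeCore p G)
  have hπ : Function.Surjective π := QuotientGroup.mk'_surjective _
  intro x hx
  show π x ∈ Cfsg.pCore p (G ⧸ Cfsg.pPrimeCore p G)
  obtain ⟨a, rfl⟩ := (Subgroup.isCyclic_iff_exists_zpowers_eq_top A).1 hA
  obtain ⟨k, rfl⟩ := Subgroup.mem_zpowers_iff.1 hx
  rw [map_zpow]
  refine Subgroup.zpow_mem _ (core (Lib.Core.isPSolvable_quotient hG _) Lib.Core.pPrimeCore_quotient_eq_bot
    (P.mapSurjective hπ) (π a) ⟨a, hAP (Subgroup.mem_zpowers a), rfl⟩ ?_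
    (h.imp_right fun hn hi => hn (Lib.FusionSys.involves_of_surjective hπ hi))) k
  rintro _ ⟨g, hg, rfl⟩
  obtain ⟨i, hi⟩ := Subgroup.mem_zpowers_iff.1
    ((Subgroup.mem_normalizer_iff.1 (hAn hg) a).1 (Subgroup.mem_zpowers a))
  exact Subgroup.mem_zpowers_iff.2 ⟨i, by rw [← map_zpow, hi, map_mul, map_mul, map_inv]⟩

end Cfsg.Agent.S3788
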