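import Cfsg.Statements.S3789
import Cfsg.Agent.Lib.Local.TopModule
import Cfsg.Agent.Lib.Local.HallHigmanTheoremB
-- import your own Cfsg.Agent.* helpers here

set_option autoImplicit false
open Cfsg

namespace Cfsg.Agent.S3789

open Subgroup Cfsg.Lib.Local
open scoped commutatorElement

universe u

/-- A vector killed by `(b - 1) ^ 2` after projection vanishes when `b` moves the character. -/
theorem comp_fixed {H : Type*} [Group H] [Finite H] {F : Type*} [Field F] {V : Type*} [AddCommGroup V]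
    [Module F V] {ρ : H →* Module.End F V} {Q X : Subgroup H} {y : H} {q : ℕ} [Fact q.Prime]
    (h : MinimalMoved Q X y q) (hqF : (q : F) ≠ 0) (ψ : H → F) {b : H} (hb : b ∈ X)
    (hodd : Odd (orderOf b)) (hne : ∃ a ∈ innerCenter Q, ψ (b * a * b⁻¹) ≠ ψ a) {u : V}
    (hu : u ∈ eigenOf ρ (innerCenter Q) ψ) (h2 : ρ (b ^ 2) u - (ρ b u + ρ b u) + u = 0) : u = 0 := by
  obtain ⟨k, hk⟩ := hodd
  let w : Fin 3 → V := ![u, -(ρ b u + ρ b u), ρ (b ^ 2) u]
  let Ψ : Fin 3 → H → F := ![ψ, fun a => ψ (b⁻¹ * a * b), fun a => ψ ((b ^ 2)⁻¹ * a * b ^ 2)]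
  have h0 : w 0 = 0 := eigen_sum_eq_zero (natCard_cast_ne_zero hqF h.center_isPGroup) Finset.univ Ψ w
    (fun i _ => by
      fin_cases i
      · exact hu
      · exact neg_mem (add_mem (IsComponent.conj_mem_eigen h ψ hb hu) (IsComponent.conj_mem_eigen h ψ hb hu))
      · exact IsComponent.conj_mem_eigen h ψ (pow_mem hb 2) hu)
    (Finset.mem_univ 0) (fun i _ hi => by
      obtain ⟨a, ha, hane⟩ := hne
      fin_cases i
      · exact absurd rfl hi
      · refine ⟨b * a * b⁻¹, h.conj_mem_center hb ha, fun e => hane ?_⟩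
        have e' : ψ (b⁻¹ * (b * a * b⁻¹) * b) = ψ (b * a * b⁻¹) := e
        rw [show b⁻¹ * (b * a * b⁻¹) * b = a by group] at e'
        exact e'.symm
      · by_contra hcon
        push Not at hcon
        have hsq : ∀ (t : ℕ) (c : H), c ∈ innerCenter Q →
            ψ ((b ^ (2 * t))⁻¹ * c * b ^ (2 * t)) = ψ c := by
          intro t
          induction t with
          | zero => intro c _; simp
          | succ t ih =>
            intro c hc
            have hc' := h.conj_mem_center (inv_mem (pow_mem hb 2)) hc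
            rw [inv_inv] at hc'
            rw [show (b ^ (2 * (t + 1)))⁻¹ * c * b ^ (2 * (t + 1)) =
              (b ^ (2 * t))⁻¹ * ((b ^ 2)⁻¹ * c * b ^ 2) * b ^ (2 * t) by
                rw [show 2 * (t + 1) = 2 + 2 * t by ring, pow_add]; group, ih _ hc']
            exact hcon c hc
        have hbk : b ^ (2 * (k + 1)) = b := by
          rw [show 2 * (k + 1) = orderOf b + 1 by omega, pow_succ, pow_orderOf_eq_one, one_mul]
        have e' := hsq (k + 1) (b * a * b⁻¹) (h.conj_mem_center hb ha)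
        rw [hbk, show b⁻¹ * (b * a * b⁻¹) * b = a by group] at e'
        exact hane e'.symm)
    (by
      rw [Fin.sum_univ_three]
      show u + -(ρ b u + ρ b u) + ρ (b ^ 2) u = 0
      rw [← h2]; abel)
  exact h0

theorem core {K : Type u} [Group K] [Finite K] {p : ℕ} [hp : Fact p.Prime] (hp2 : p ≠ 2)
    (hK : Cfsg.IsPSolvable p K) (hO' : Cfsg.pPrimeCore p K = ⊥) (P : Sylow p K) (A B : Subgroup K)
    (hBP : B ≤ (P : Subgroup K)) (hBn : ∀ g ∈ (P : Subgroup K), ∀ b ∈ B, g * b * g⁻¹ ∈ B)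
    (hAB : A = ⁅B, B⁆) (hA : ∀ a ∈ A, ∀ a' ∈ A, a * a' = a' * a) : A ≤ Cfsg.pCore p K := by
  classical
  by_contra hAO
  set O := Cfsg.pCore p K with hOdef
  have hOP : O ≤ (P : Subgroup K) := Lib.Core.pCore_le_sylow P
  have hAP : A ≤ (P : Subgroup K) := hAB ▸ commutator_le.2 fun a ha b hb =>
    mul_mem (mul_mem (mul_mem (hBP ha) (hBP hb)) (inv_mem (hBP ha))) (inv_mem (hBP hb))
  have hAn : ∀ g ∈ (P : Subgroup K), ∀ a ∈ A, g * a * g⁻¹ ∈ A := fun g hg a ha => by
    subst hAB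
    exact conj_mem_commutator (hBn g hg) (hBn g hg) ha
  let f := QuotientGroup.mk' O
  set X := (P : Subgroup K).map f with hXdef
  have hX : IsPGroup p X := P.isPGroup'.map f
  have hAX : A.map f ≤ X := map_mono hAP
  haveI : ((A.map f).subgroupOf X).Normal := ⟨fun a ha g => by
    rw [mem_subgroupOf] at ha ⊢
    obtain ⟨a', ha', e⟩ := ha
    obtain ⟨g', hg', e'⟩ := g.2
    exact ⟨g' * a' * g'⁻¹, hAn g' hg' a' ha', by
      rw [map_mul, map_mul, map_inv, e, e']; rfl⟩⟩
  have hne : (A.map f).subgroupOf X ≠ ⊥ := fun e => hAO fun a ha => by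
    have h1 : (⟨f a, hAX (mem_map_of_mem f ha)⟩ : X) ∈ (A.map f).subgroupOf X := mem_map_of_mem f ha
    rw [e, mem_bot] at h1
    exact (QuotientGroup.eq_one_iff a).1 (congrArg Subtype.val h1)
  obtain ⟨z, hzA, hzc, hzord⟩ := Lib.PGroup.exists_mem_center_orderOf_eq hX hne
  set y : K ⧸ O := (z : K ⧸ O) with hy
  have hyX : y ∈ X := z.2
  have hyord : orderOf y = p := by rw [hy, Subgroup.orderOf_coe, hzord]
  have hcen : ∀ g ∈ X, g * y = y * g := fun g hg => congrArg Subtype.val (mem_center_iff.1 hzc ⟨g, hg⟩)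
  obtain ⟨q, hq, hqp, Q0, hQ0, -, hQX, hne0⟩ := exists_moved_qGroup (Lib.Core.isPSolvable_quotient hK O)
    Lib.Core.pCore_quotient_pCore_eq_bot hX hyX (fun e => by
      rw [e, orderOf_one] at hyord; exact hp.out.one_lt.ne hyord)
  have : Fact q.Prime := ⟨hq⟩
  obtain ⟨Q, -, h⟩ := exists_minimalMoved hQ0 hQX hne0 hyX hcen
    (by rw [hyord]; exact (Nat.coprime_primes hp.out hq).2 (Ne.symm hqp))
  obtain ⟨V, _, _, _, ρ, π, hρ, hπ, -, heq⟩ := exists_top_module hK hO'
  -- the quadratic relations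
  have hstep : ∀ (g : K) (v : O) (C : Subgroup K), g * v * g⁻¹ * (v : K)⁻¹ ∈ C →
      ∃ w : O, (w : K) ∈ C ∧ ρ (f g) (π v).toAdd - (π v).toAdd = (π w).toAdd := by
    intro g v C hC
    refine ⟨MulAut.conjNormal g v * v⁻¹, ?_, ?_⟩
    · rwa [Subgroup.coe_mul, MulAut.conjNormal_apply, InvMemClass.coe_inv]
    · rw [show ρ (f g) (π v).toAdd = _ from heq g v, map_mul, map_inv, toAdd_mul, toAdd_inv, sub_eq_add_neg]
  have hAfix : ∀ a ∈ A, ∀ w : O, (w : K) ∈ A → ρ (f a) (π w).toAdd = (π w).toAdd := by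
    intro a ha w hw
    rw [show ρ (f a) (π w).toAdd = _ from heq a w]
    refine congrArg (fun u => (π u).toAdd) (Subtype.ext ?_)
    rw [MulAut.conjNormal_apply, hA a ha _ hw, mul_inv_cancel_right]
  have hsq : ∀ a ∈ A, (ρ (f a) - 1) ^ 2 = 0 := by
    intro a ha
    refine LinearMap.ext fun x => ?_
    obtain ⟨v, hv⟩ := hπ (Multiplicative.ofAdd x)
    rw [show x = (π v).toAdd by rw [hv]; rfl]
    show ρ (f a) (ρ (f a) _ - _) - (ρ (f a) _ - _) = 0
    obtain ⟨w, hwA, hw⟩ := hstep a v A (by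
      rw [show a * v * a⁻¹ * (v : K)⁻¹ = a * ((v : K) * a⁻¹ * (v : K)⁻¹) by group]
      exact mul_mem ha (hAn _ (hOP v.2) _ (inv_mem ha)))
    rw [Module.End.one_apply, hw, hAfix a ha w hwA, sub_self]
  have hcube : ∀ a ∈ A, ∀ b ∈ B, (ρ (f a) - 1) * (ρ (f b) - 1) ^ 2 = 0 := by
    intro a ha b hb
    refine LinearMap.ext fun x => ?_
    obtain ⟨v, hv⟩ := hπ (Multiplicative.ofAdd x)
    rw [show x = (π v).toAdd by rw [hv]; rfl, pow_two]
    show ρ (f a) (ρ (f b) (ρ (f b) _ - _) - (ρ (f b) _ - _)) - (ρ (f b) (ρ (f b) _ - _) - (ρ (f b) _ - _)) = 0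
    obtain ⟨w, hwB, hw⟩ := hstep b v B (by
      rw [show b * v * b⁻¹ * (v : K)⁻¹ = b * ((v : K) * b⁻¹ * (v : K)⁻¹) by group]
      exact mul_mem hb (hBn _ (hOP v.2) _ (inv_mem hb)))
    rw [Module.End.one_apply, hw]
    obtain ⟨w', hwA, hw'⟩ := hstep b w A (by
      rw [hAB, ← commutatorElement_def]
      exact Subgroup.commutator_mem_commutator hb hwB)
    rw [hw', hAfix a ha w' hwA, sub_self]
  obtain ⟨a, ha, hay⟩ : y ∈ A.map f := hzA
  have hy2 : (ρ y - 1) ^ 2 = 0 := hay ▸ hsq a ha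
  have hyp : y ^ p ^ (0 + 1) = 1 := by rw [zero_add, pow_one]; exact orderOf_dvd_iff_pow_eq_one.1 (dvd_of_eq hyord)
  have hp3 : 3 ≤ p := by have := hp.out.two_le; omega
  obtain ⟨hna, j, hj, m, hm, ⟨hdvd, -⟩, hle⟩ := theoremB hρ h hqp hyX (n := 0) (by simp) hyp (r := 2)
    (by rw [zero_add, pow_one]; omega) hy2
  obtain rfl : j = 0 := by omega
  rw [Nat.sub_zero, zero_add, pow_one] at hdvd hle
  rw [pow_zero, Nat.div_one] at hle
  set Mq := q ^ (2 * m) with hMq
  have hMq4 : 4 ≤ Mq := by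
    calc 4 = 2 ^ 2 := by norm_num
      _ ≤ q ^ 2 := Nat.pow_le_pow_left hq.two_le 2
      _ ≤ Mq := Nat.pow_le_pow_right hq.pos (by omega)
  have hp3' : p = 3 := by
    by_contra hne3
    have hp5 : 4 ≤ p := by omega
    have h1 : Mq * 4 ≤ Mq * p := Nat.mul_le_mul_left _ hp5
    have h2 : p ≤ Mq - 1 := Nat.le_of_dvd (by omega) hdvd
    omega
  subst hp3'
  -- the prime three
  let F := AlgebraicClosure (ZMod 3)
  have : CharP F 3 := charP_of_injective_algebraMap (algebraMap (ZMod 3) F).injective 3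
  have hqF : (q : F) ≠ 0 := by
    rw [Ne, CharP.cast_eq_zero_iff F 3]
    exact fun hd => hqp ((Nat.prime_dvd_prime_iff_eq hp.out hq).1 hd).symm
  have hρF := closureRep_injective hρ
  obtain ⟨ψ, hc⟩ := exists_isComponent (closureRep ρ) hρF h hna hqF
  have hy2F := closureRep_sub_one_pow hy2
  have hNF : ∑ i ∈ Finset.range (3 ^ (0 + 1)), closureRep ρ y ^ i = 0 :=
    (geom_eq_sub_pow F (p := 3) (closureRep ρ y) 1).symm.trans hy2F
  have hBfix : ∀ b ∈ B, ∀ c ∈ innerCenter Q, ψ (f b * c * (f b)⁻¹) = ψ c := by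
    intro b hb
    by_contra hcon
    push Not at hcon
    obtain ⟨c, hc1, hc2⟩ := hcon
    have hfb : f b ∈ X := mem_map_of_mem f (hBP hb)
    have hodd : Odd (orderOf (f b)) := by
      obtain ⟨e, he⟩ := IsPGroup.iff_orderOf.1 hX ⟨f b, hfb⟩
      rw [Subgroup.orderOf_mk] at he
      rw [he]
      exact Odd.pow (by decide)
    have hkill : ∀ v ∈ eigenOf (closureRep ρ) (innerCenter Q) ψ, closureRep ρ y v - v = 0 := by
      intro v hv
      have hyv : closureRep ρ y v - v ∈ eigenOf (closureRep ρ) (innerCenter Q) ψ := by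
        refine sub_mem (mem_eigenOf.2 fun d hd => ?_) hv
        rw [mem_eigenOf.1 (IsComponent.conj_mem_eigen h ψ hyX hv) d hd]
        congr 1
        have h1 := h.conj_mem_center (inv_mem hyX) hd
        rw [inv_inv] at h1
        rw [← h.center_fixed hna _ h1]
        group
      refine comp_fixed h hqF ψ hfb hodd ⟨c, hc1, hc2⟩ hyv ?_
      have h1 : (closureRep ρ y - 1) * (closureRep ρ (f b) - 1) ^ 2 = 0 := by
        have := congrArg (Module.End.baseChangeHom (ZMod 3) F V) (hcube a ha b hb)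
        rw [← hay]
        simpa [closureRep] using this
      have h2 := LinearMap.congr_fun h1 v
      rw [pow_two] at h2
      simp only [Module.End.mul_apply, LinearMap.sub_apply, Module.End.one_apply, LinearMap.zero_apply,
        map_sub] at h2
      have hcomm : ∀ x, closureRep ρ y (closureRep ρ (f b) x) = closureRep ρ (f b) (closureRep ρ y x) :=
        fun x => by rw [← ρ_mul_apply, ← ρ_mul_apply, hcen _ hfb]
      rw [hcomm, hcomm] at h2
      rw [pow_two, ρ_mul_apply, map_sub, map_sub, ← h2]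
      abel
    obtain ⟨m', hm', -, -, hle'⟩ := component_bound h hna hc hqF hqp hyX (z := y) (f := 0) (by simp) hyp
      (fun d hd => by rw [h.center_fixed hna d hd]) (fun v _ => by
        have := LinearMap.congr_fun hNF v
        simpa [LinearMap.sum_apply, map_pow] using this)
      [1] (fun v hv => by simpa using hkill v hv)
    have h4 : 4 ≤ q ^ (2 * m') := by
      calc 4 = 2 ^ 2 := by norm_num
        _ ≤ q ^ 2 := Nat.pow_le_pow_left hq.two_le 2
        _ ≤ q ^ (2 * m') := Nat.pow_le_pow_right hq.pos (by omega)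
    simp only [List.length_cons, List.length_nil] at hle'
    norm_num at hle'
    omega
  obtain ⟨j', hj', -, -, m', hm', hidx, ⟨hdvd', -⟩, hle'⟩ := critical_bound hρF h hqF hqp hyX (n := 0) (by simp) hyp
    hNF (fun _ => 2) (fun j hj => ⟨[1, 1], rfl, by
      obtain rfl : j = 0 := by omega
      simpa [pow_two] using hy2F⟩) ψ hc
  obtain rfl : j' = 0 := by omega
  norm_num at hdvd' hle'
  have hcard4 : (radical h hc).relIndex Q = 4 := by
    rw [hidx]
    have h4 : 4 ≤ q ^ (2 * m') := by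
      calc 4 = 2 ^ 2 := by norm_num
        _ ≤ q ^ 2 := Nat.pow_le_pow_left hq.two_le 2
        _ ≤ q ^ (2 * m') := Nat.pow_le_pow_right hq.pos (by omega)
    omega
  -- the action on the quotient by the radical
  set R := radical h hc with hR
  set R' := R.subgroupOf Q with hR'
  haveI : R'.Normal := ⟨fun r hr d => by
    rw [hR', mem_subgroupOf] at hr ⊢
    rw [show ((d * r * d⁻¹ : Q) : K ⧸ O) = ⁅(d : K ⧸ O), (r : K ⧸ O)⁆ * r by
      simp [commutatorElement_def, mul_assoc]]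
    exact mul_mem (center_le_radical h hc (h.commutator_mem_center d.2 hr.1)) hr⟩
  let S : Subgroup (K ⧸ O) :=
    { carrier := {g | g ∈ X ∧ ∀ d ∈ innerCenter Q, ψ (g * d * g⁻¹) = ψ d}
      one_mem' := ⟨one_mem X, fun d _ => by simp⟩
      mul_mem' := fun {g g'} hg hg' => ⟨mul_mem hg.1 hg'.1, fun d hd => by
        rw [show g * g' * d * (g * g')⁻¹ = g * (g' * d * g'⁻¹) * g⁻¹ by group,
          hg.2 _ (h.conj_mem_center hg'.1 hd), hg'.2 d hd]⟩
      inv_mem' := fun {g} hg => ⟨inv_mem hg.1, fun d hd => by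
        have h1 := h.conj_mem_center (inv_mem hg.1) hd
        rw [inv_inv] at h1 ⊢
        rw [← hg.2 _ h1]
        congr 1
        group⟩ }
  have hwell : ∀ (g) (hgS : g ∈ S), ∀ c d : Q, (QuotientGroup.mk c : Q ⧸ R') = QuotientGroup.mk d →
      (QuotientGroup.mk (⟨g * c * g⁻¹, h.inv g hgS.1 _ c.2⟩ : Q) : Q ⧸ R') =
        QuotientGroup.mk ⟨g * d * g⁻¹, h.inv g hgS.1 _ d.2⟩ := by
    intro g hg c d hcd
    rw [QuotientGroup.eq, hR', mem_subgroupOf] at hcd ⊢
    have := radical_conj_mem h hc hg.1 hg.2 hcd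
    convert this using 1
    simp only [Subgroup.coe_mul, InvMemClass.coe_inv]
    group
  let act : S → Q ⧸ R' → Q ⧸ R' := fun g => Quotient.lift
    (fun c => QuotientGroup.mk (⟨(g : K ⧸ O) * c * (g : K ⧸ O)⁻¹, h.inv _ g.2.1 _ c.2⟩ : Q))
    fun c d hcd => hwell g g.2 c d (Quotient.sound hcd)
  have hact : ∀ (g : S) (c : Q), act g (QuotientGroup.mk c) =
      QuotientGroup.mk (⟨(g : K ⧸ O) * c * (g : K ⧸ O)⁻¹, h.inv _ g.2.1 _ c.2⟩ : Q) := fun _ _ => rfl
  have act_mul : ∀ (g g' : S) i, act (g * g') i = act g (act g' i) := by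
    intro g g' i
    obtain ⟨c, rfl⟩ := QuotientGroup.mk_surjective i
    rw [hact, hact, hact]
    exact congrArg QuotientGroup.mk (Subtype.ext (by simp [mul_assoc]))
  have act_one : ∀ i, act 1 i = i := by
    intro i
    obtain ⟨c, rfl⟩ := QuotientGroup.mk_surjective i
    rw [hact]
    exact congrArg QuotientGroup.mk (Subtype.ext (by simp))
  have hyS : y ∈ S := ⟨hyX, fun d hd => by rw [h.center_fixed hna d hd]⟩
  set ys : S := ⟨y, hyS⟩ with hys
  obtain ⟨i0, hi0⟩ : ∃ i, act ys i ≠ i := by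
    by_contra hcon
    push Not at hcon
    have hpow : ∀ (k : ℕ) i, act (ys ^ k) i = i := by
      intro k
      induction k with
      | zero => intro i; rw [pow_zero, act_one]
      | succ k ih => intro i; rw [pow_succ, act_mul, hcon, ih]
    have hQR : Q ≤ R := by
      refine h.commutator_eq.ge.trans (commutator_le.2 fun d hd w hw => ?_)
      obtain ⟨k, rfl⟩ := mem_powers_iff_mem_zpowers.2 hw
      have h1 := hpow k (QuotientGroup.mk (⟨d, hd⟩ : Q)⁻¹)
      rw [hact, QuotientGroup.eq, hR', mem_subgroupOf] at h1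
      have h2 := inv_mem h1
      convert h2 using 1
      simp only [commutatorElement_def, hys, Subgroup.coe_mul, InvMemClass.coe_inv, SubgroupClass.coe_pow]
      group
    rw [relIndex_eq_one.2 hQR] at hcard4
    exact absurd hcard4 (by norm_num)
  have hfixone : ∀ g : S, act g 1 = 1 := fun g => (hact g 1).trans
    (congrArg QuotientGroup.mk (Subtype.ext (by simp)))
  have hinj : ∀ g : S, Function.Injective (act g) := fun g i i' e => by
    have := congrArg (act g⁻¹) e
    rwa [← act_mul, ← act_mul, inv_mul_cancel, act_one, act_one] at this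
  have hy3 : ys ^ 3 = 1 := Subtype.ext (by simpa using hyp)
  have hi01 : i0 ≠ 1 := fun e => hi0 (by rw [e, hfixone])
  set i1 := act ys i0 with hi1
  set i2 := act ys i1 with hi2
  have h32 : act ys i2 = i0 := by
    rw [hi2, hi1, ← act_mul, ← act_mul, show ys * ys * ys = 1 by rw [← hy3, pow_succ, pow_two], act_one]
  have h12 : i1 ≠ i2 := fun e => hi0 (hinj ys (e.symm.trans rfl))
  have h02 : i0 ≠ i2 := fun e => hi0 ((congrArg (act ys) e).trans h32)
  have hall : ∀ i : Q ⧸ R', i = 1 ∨ i = i0 ∨ i = i1 ∨ i = i2 := by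
    intro i
    by_contra hcon
    push Not at hcon
    have := Fintype.ofFinite (Q ⧸ R')
    have hsub : ({1, i0, i1, i2, i} : Finset (Q ⧸ R')).card ≤ 4 := by
      refine (Finset.card_le_univ _).trans (le_of_eq ?_)
      rw [← Nat.card_eq_fintype_card, ← index_eq_card]
      exact hcard4
    have h11 : i1 ≠ 1 := fun e => hi01 (hinj ys (e.trans (hfixone ys).symm))
    have h21 : i2 ≠ 1 := fun e => h11 (hinj ys (e.trans (hfixone ys).symm))
    rw [Finset.card_insert_of_notMem, Finset.card_insert_of_notMem, Finset.card_insert_of_notMem,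
      Finset.card_insert_of_notMem, Finset.card_singleton] at hsub
    · omega
    all_goals simp [Ne.symm hcon.1, Ne.symm hcon.2.1, Ne.symm hcon.2.2.1, Ne.symm hcon.2.2.2, h12, h02,
      Ne.symm hi0, Ne.symm hi01, Ne.symm h11, Ne.symm h21]
  have hcommy : ∀ (g : S) i, act g (act ys i) = act ys (act g i) := fun g i => by
    rw [← act_mul, ← act_mul, show g * ys = ys * g from Subtype.ext (hcen _ g.2.1)]
  have hpowy : ∀ g : S, ∃ k : ℕ, ∀ i, act g i = act (ys ^ k) i := by
    intro g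
    have hkey : ∀ k : ℕ, act g i0 = act (ys ^ k) i0 → ∀ i, act g i = act (ys ^ k) i := by
      intro k hk i
      have hc : ∀ i, act g i = act (ys ^ k) i → act g (act ys i) = act (ys ^ k) (act ys i) := fun i hi => by
        rw [hcommy, hi, hcommy]
      rcases hall i with rfl | rfl | rfl | rfl
      · rw [hfixone, hfixone]
      · exact hk
      · exact hc _ hk
      · exact hc _ (hc _ hk)
    rcases hall (act g i0) with e | e | e | e
    · exact absurd (hinj g (e.trans (hfixone g).symm)) hi01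
    · exact ⟨0, hkey 0 (by rw [e, pow_zero, act_one])⟩
    · exact ⟨1, hkey 1 (by rw [e, pow_one])⟩
    · exact ⟨2, hkey 2 (by rw [e, pow_two, act_mul])⟩
  -- commutators act trivially
  let T : Subgroup (K ⧸ O) :=
    { carrier := {g | ∃ hg : g ∈ S, ∀ i, act ⟨g, hg⟩ i = i}
      one_mem' := ⟨one_mem S, act_one⟩
      mul_mem' := fun {g g'} ⟨hg, h1⟩ ⟨hg', h2⟩ => ⟨mul_mem hg hg', fun i =>
        (act_mul ⟨g, hg⟩ ⟨g', hg'⟩ i).trans (by rw [h2, h1])⟩
      inv_mem' := fun {g} ⟨hg, h1⟩ => ⟨inv_mem hg, fun i => hinj ⟨g, hg⟩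
        ((act_mul ⟨g, hg⟩ ⟨g⁻¹, inv_mem hg⟩ i).symm.trans (by
          rw [show (⟨g, hg⟩ : S) * ⟨g⁻¹, inv_mem hg⟩ = 1 from Subtype.ext (mul_inv_cancel g), act_one, h1]))⟩ }
  have hBS : B.map f ≤ S := by
    rintro _ ⟨b, hb, rfl⟩
    exact ⟨mem_map_of_mem f (hBP hb), hBfix b hb⟩
  have hAT : ⁅B.map f, B.map f⁆ ≤ T := commutator_le.2 fun u hu w hw => by
    refine ⟨mul_mem (mul_mem (mul_mem (hBS hu) (hBS hw)) (inv_mem (hBS hu))) (inv_mem (hBS hw)), fun i => ?_⟩
    obtain ⟨k, hk⟩ := hpowy ⟨u, hBS hu⟩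
    obtain ⟨l, hl⟩ := hpowy ⟨w, hBS hw⟩
    have hcm : ∀ i, act (⟨u, hBS hu⟩ * ⟨w, hBS hw⟩) i = act (⟨w, hBS hw⟩ * ⟨u, hBS hu⟩) i := fun i => by
      rw [act_mul, act_mul, hk, hl, hk, hl, ← act_mul, ← act_mul, ← pow_add, ← pow_add, add_comm]
    show act ((⟨u, hBS hu⟩ : S) * ⟨w, hBS hw⟩ * (⟨u, hBS hu⟩ : S)⁻¹ * (⟨w, hBS hw⟩ : S)⁻¹) i = i
    rw [mul_assoc (_ * _), act_mul, hcm, ← act_mul,
      show (⟨w, hBS hw⟩ : S) * ⟨u, hBS hu⟩ * ((⟨u, hBS hu⟩ : S)⁻¹ * (⟨w, hBS hw⟩ : S)⁻¹) = 1 by group, act_one]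
  rw [← map_commutator, ← hAB] at hAT
  obtain ⟨hyS', hy'⟩ := hAT ⟨a, ha, hay⟩
  exact hi0 (hy' i0)

theorem main {p : ℕ} [hp : Fact p.Prime] (hp2 : p ≠ 2) : ∀ (d : ℕ) (G : Type u) [Group G] [Finite G],
    Cfsg.IsPSolvable p G → (∀ P : Sylow p G, derivedSeries ↥(P : Subgroup G) d = ⊥) → PChain p d G := by
  intro d
  induction d with
  | zero =>
    intro G _ _ _ hd
    refine pChain_of_coprime (hp.out.coprime_iff_not_dvd.2 fun hdvd => ?_).symm 0
    obtain ⟨P⟩ : Nonempty (Sylow p G) := inferInstance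
    have hP : (P : Subgroup G) = ⊥ := (Subgroup.eq_bot_iff_forall _).2 fun x hx => by
      have h1 : (⟨x, hx⟩ : (P : Subgroup G)) ∈ derivedSeries ↥(P : Subgroup G) 0 := by
        rw [derivedSeries_zero]; exact mem_top _
      rw [hd P, mem_bot] at h1
      exact congrArg Subtype.val h1
    refine P.not_dvd_index ?_
    rw [hP, index_bot]
    exact hdvd
  | succ d ih =>
    intro G _ _ hG hd
    refine PChain.reduce ?_
    let f1 := QuotientGroup.mk' (Cfsg.pPrimeCore p G)
    set K := G ⧸ Cfsg.pPrimeCore p G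
    have hK : Cfsg.IsPSolvable p K := Lib.Core.isPSolvable_quotient hG _
    have hO' : Cfsg.pPrimeCore p K = ⊥ := Lib.Core.pPrimeCore_quotient_eq_bot
    refine ih _ (Lib.Core.isPSolvable_quotient hK _) fun PH => ?_
    obtain ⟨PK, rfl⟩ := Sylow.mapSurjective_surjective (QuotientGroup.mk'_surjective (Cfsg.pCore p K)) p PH
    obtain ⟨P, rfl⟩ := Sylow.mapSurjective_surjective (QuotientGroup.mk'_surjective (Cfsg.pPrimeCore p G)) p PK
    let g1 := f1.subgroupMap (P : Subgroup G)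
    set PK : Subgroup K := (P : Subgroup G).map f1
    let A : Subgroup K := (derivedSeries ↥PK d).map PK.subtype
    have hPKd : derivedSeries ↥PK (d + 1) = ⊥ := by
      rw [← map_derivedSeries_eq (f1.subgroupMap_surjective (P : Subgroup G)), hd P, Subgroup.map_bot]
    have hA : ∀ a ∈ A, ∀ a' ∈ A, a * a' = a' * a := by
      rintro _ ⟨a, ha, rfl⟩ _ ⟨a', ha', rfl⟩
      have h1 : ⁅a, a'⁆ ∈ derivedSeries ↥PK (d + 1) := by
        rw [derivedSeries_succ]; exact Subgroup.commutator_mem_commutator ha ha'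
      rw [hPKd, mem_bot, commutatorElement_eq_one_iff_mul_comm] at h1
      exact congrArg Subtype.val h1
    have hAO : A ≤ Cfsg.pCore p K := by
      rcases Nat.eq_zero_or_pos d with rfl | hd0
      · intro x hx
        refine Lib.Core.centralizer_pCore_le_of_isPSolvable hK hO' (mem_centralizer_iff.2 fun v hv => ?_)
        have hvP : v ∈ PK := Lib.Core.pCore_le_sylow (P.mapSurjective (f := f1)
          (QuotientGroup.mk'_surjective _)) hv
        exact hA v ⟨⟨v, hvP⟩, by rw [derivedSeries_zero]; exact mem_top _, rfl⟩ x hx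
      · obtain ⟨e, rfl⟩ := Nat.exists_eq_succ_of_ne_zero hd0.ne'
        refine core hp2 hK hO' (P.mapSurjective (f := f1) (QuotientGroup.mk'_surjective _)) A
          ((derivedSeries ↥PK e).map PK.subtype) (map_subtype_le _) ?_ ?_ hA
        · rintro g hg _ ⟨b, hb, rfl⟩
          exact ⟨⟨g, hg⟩ * b * (⟨g, hg⟩ : PK)⁻¹, (derivedSeries_normal _ e).conj_mem _ hb _, rfl⟩
        · show (derivedSeries ↥PK (e + 1)).map PK.subtype = _
          rw [derivedSeries_succ, map_commutator]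
    let f2 := QuotientGroup.mk' (Cfsg.pCore p K)
    show derivedSeries ↥(PK.map f2) d = ⊥
    rw [← map_derivedSeries_eq (f2.subgroupMap_surjective PK) d, eq_bot_iff]
    rintro _ ⟨a, ha, rfl⟩
    exact mem_bot.2 (Subtype.ext ((QuotientGroup.eq_one_iff _).2 (hAO ⟨a, ha, rfl⟩)))

/-- Let p be an odd prime and G a finite p-soluble group whose Sylow p-subgroups have derived length at most d. Then G has p-length at most d. -/
theorem result {G : Type*} [Group G] [Finite G] {p : ℕ} [Fact p.Prime] (hp : p ≠ 2) (hG : Cfsg.IsPSolvable p G) (d : ℕ) (hd : ∀ P : Sylow p G, derivedSeries ↥(P : Subgroup G) d = ⊥) : Cfsg.PLengthLE p d G := by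
  exact (Lib.Local.pLengthLE_iff d).2 (main hp d G hG hd)

end Cfsg.Agent.S3789
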