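import Cfsg.Statements.S3790
import Cfsg.Agent.Lib.Local.PLengthChain
-- import your own Cfsg.Agent.* helpers here

set_option autoImplicit false
open Cfsg

namespace Cfsg.Agent.S3790

open Subgroup Cfsg.Lib.Local

universe u

theorem relIndex_inf_dvd {G : Type*} [Group G] [Finite G] {A A' B B' : Subgroup G} [A.Normal] [A'.Normal]
    (hA : A ≤ B) (hA' : A' ≤ B') : (A ⊓ A').relIndex (B ⊓ B') ∣ A.relIndex B * A'.relIndex B' := by
  rw [← relIndex_mul_relIndex (A ⊓ A') (A ⊓ B') (B ⊓ B') (inf_le_inf_left A hA') (inf_le_inf_right B' hA),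
    mul_comm (A.relIndex B)]
  refine Nat.mul_dvd_mul ?_ ?_
  · have e : (A ⊓ A').relIndex (A ⊓ B') = A'.relIndex (A ⊓ B') := by
      rw [← inf_relIndex_right (A ⊓ A'), ← inf_relIndex_right A']
      congr 1
      ext x
      simp only [mem_inf]
      tauto
    rw [e]
    exact Lib.Core.relIndex_dvd_of_le_right_of_normal hA' inf_le_right
  · have e : (A ⊓ B').relIndex (B ⊓ B') = A.relIndex (B ⊓ B') := by
      rw [← inf_relIndex_right (A ⊓ B'), ← inf_relIndex_right A]
      congr 1
      ext x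
      simp only [mem_inf]
      tauto
    rw [e]
    exact Lib.Core.relIndex_dvd_of_le_right_of_normal hA inf_le_left

theorem pChain_inf {G : Type*} [Group G] [Finite G] {p : ℕ} [hp : Fact p.Prime] {k : ℕ} (M M' : Subgroup G)
    [M.Normal] [M'.Normal] (h : PChain p k (G ⧸ M)) (h' : PChain p k (G ⧸ M')) :
    PChain p k (G ⧸ (M ⊓ M')) := by
  obtain ⟨N, h0, htop, hm, hN, hev, hod⟩ := h
  obtain ⟨N', h0', htop', hm', hN', hev', hod'⟩ := h'
  let f : G ⧸ (M ⊓ M') →* G ⧸ M := QuotientGroup.map _ _ (MonoidHom.id G) inf_le_left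
  let f' : G ⧸ (M ⊓ M') →* G ⧸ M' := QuotientGroup.map _ _ (MonoidHom.id G) inf_le_right
  have hf : Function.Surjective f := fun x => by
    obtain ⟨g, rfl⟩ := QuotientGroup.mk'_surjective M x
    exact ⟨QuotientGroup.mk' _ g, rfl⟩
  have hf' : Function.Surjective f' := fun x => by
    obtain ⟨g, rfl⟩ := QuotientGroup.mk'_surjective M' x
    exact ⟨QuotientGroup.mk' _ g, rfl⟩
  have hd : ∀ i, ((N i).comap f ⊓ (N' i).comap f').relIndex ((N (i + 1)).comap f ⊓ (N' (i + 1)).comap f') ∣
      (N i).relIndex (N (i + 1)) * (N' i).relIndex (N' (i + 1)) := fun i => by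
    have := (hN i).comap f
    have := (hN' i).comap f'
    refine (relIndex_inf_dvd (comap_mono (hm i.le_succ)) (comap_mono (hm' i.le_succ))).trans ?_
    rw [relIndex_comap_of_surjective f hf, relIndex_comap_of_surjective f' hf']
  refine ⟨fun i => (N i).comap f ⊓ (N' i).comap f', ?_, ?_,
    fun i j hij => inf_le_inf (comap_mono (hm hij)) (comap_mono (hm' hij)), fun i => ?_, fun i hi => ?_,
    fun i hi => ?_⟩
  · show (N 0).comap f ⊓ (N' 0).comap f' = ⊥
    rw [h0, h0', eq_bot_iff]
    intro x hx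
    obtain ⟨g, rfl⟩ := QuotientGroup.mk'_surjective _ x
    exact mem_bot.2 ((QuotientGroup.eq_one_iff g).2
      (mem_inf.2 ⟨(QuotientGroup.eq_one_iff g).1 (mem_bot.1 (mem_inf.1 hx).1),
        (QuotientGroup.eq_one_iff g).1 (mem_bot.1 (mem_inf.1 hx).2)⟩))
  · simp only [htop, htop', comap_top, inf_top_eq]
  · have := (hN i).comap f
    have := (hN' i).comap f'
    exact Subgroup.normal_inf_normal _ _
  · exact (Nat.Coprime.mul_left (hev i hi) (hev' i hi)).coprime_dvd_left (hd i)
  · obtain ⟨e, he⟩ := hod i hi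
    obtain ⟨e', he'⟩ := hod' i hi
    have h2 := hd i
    rw [he, he', ← pow_add] at h2
    obtain ⟨j, -, hj⟩ := (Nat.dvd_prime_pow hp.out).1 h2
    exact ⟨j, hj⟩

theorem pChain_iInf {G : Type*} [Group G] [Finite G] {p : ℕ} [hp : Fact p.Prime] {k : ℕ} {r : ℕ}
    (M : Fin r → Subgroup G) [∀ i, (M i).Normal] (h : ∀ i, PChain p k (G ⧸ M i)) (s : Finset (Fin r)) :
    ∃ (X : Subgroup G) (_ : X.Normal), (∀ i ∈ s, X ≤ M i) ∧ PChain p k (G ⧸ X) := by
  classical
  induction s using Finset.induction_on with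
  | empty =>
    refine ⟨⊤, inferInstance, by simp, pChain_of_coprime ?_ k⟩
    rw [← index_eq_card, index_top]
    exact Nat.coprime_one_left p
  | insert a s _ ih =>
    obtain ⟨X, _, hX, hc⟩ := ih
    refine ⟨M a ⊓ X, inferInstance, fun i hi => ?_, pChain_inf _ _ (h a) hc⟩
    rcases Finset.mem_insert.1 hi with rfl | hi
    · exact inf_le_left
    · exact inf_le_right.trans (hX i hi)

theorem main (p : ℕ) [hp : Fact p.Prime] {r : ℕ} (q : Fin r → ℕ) [∀ i, Fact (q i).Prime] (hqp : ∀ i, q i ≠ p) :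
    ∀ (m : ℕ) (G : Type u) [Group G] [Finite G],
      (∀ s : ℕ, s.Prime → s ∣ Nat.card G → s ≠ p → ∃ i, q i = s) → ∀ l : Fin r → ℕ,
      Finset.univ.sum l = m → (∀ i, PChain (q i) (l i) G) → PChain p (Finset.univ.prod fun i => 1 + l i) G := by
  intro m
  induction m using Nat.strong_induction_on with
  | _ m ih =>
  intro G _ _ hcov l hm hl
  set P := Finset.univ.prod fun i => 1 + l i with hP
  have hP1 : 0 < P := Finset.prod_pos fun i _ => by omega
  rw [show P = P - 1 + 1 by omega]
  refine PChain.reduce ?_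
  set K := G ⧸ Cfsg.pPrimeCore p G
  set H := K ⧸ Cfsg.pCore p K with hH
  have hlH : ∀ i, PChain (q i) (l i) H := fun i => ((hl i).quotient _).quotient _
  have hcovH : ∀ s : ℕ, s.Prime → s ∣ Nat.card H → s ≠ p → ∃ i, q i = s := fun s hs hsd =>
    hcov s hs (hsd.trans ((card_quotient_dvd_card _).trans (card_quotient_dvd_card _)))
  have hOp : Cfsg.pCore p H = ⊥ := Lib.Core.pCore_quotient_pCore_eq_bot
  have hpiece : ∀ i, PChain p (P - 1) (H ⧸ Cfsg.pPrimeCore (q i) H) := by
    intro i
    have hlL : ∀ j, PChain (q j) (l j) (H ⧸ Cfsg.pPrimeCore (q i) H) := fun j => (hlH j).quotient _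
    have hO : Cfsg.pPrimeCore (q i) (H ⧸ Cfsg.pPrimeCore (q i) H) = ⊥ := Lib.Core.pPrimeCore_quotient_eq_bot
    rcases Nat.eq_zero_or_pos (l i) with h0 | h0
    · have hc := coprime_of_pChain_zero (h0 ▸ hlL i)
      have h1 : (⊤ : Subgroup (H ⧸ Cfsg.pPrimeCore (q i) H)) = ⊥ := by
        refine le_bot_iff.1 (hO ▸ Lib.Core.le_pPrimeCore' inferInstance ?_)
        rwa [card_top]
      refine pChain_of_coprime ?_ _
      have h2 := congrArg (fun X : Subgroup (H ⧸ Cfsg.pPrimeCore (q i) H) => Nat.card X) h1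
      simp only [card_top, card_bot] at h2
      rw [h2]
      exact Nat.coprime_one_left p
    set l' := Function.update l i (l i - 1) with hl'
    have e1 : Finset.univ.sum l' < m := by
      rw [← hm]
      exact Finset.sum_lt_sum (fun j _ => by
        by_cases hj : j = i <;> simp [hl', Function.update, hj]) ⟨i, Finset.mem_univ _, by
          simp only [Function.update_self]; omega⟩
    have e2 : (Finset.univ.prod fun j => 1 + l' j) ≤ P - 1 := by
      rw [hP, ← Finset.mul_prod_erase _ _ (Finset.mem_univ i), ← Finset.mul_prod_erase _ _ (Finset.mem_univ i),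
        Finset.prod_congr rfl (fun j hj => show 1 + l' j = 1 + l j by
          rw [hl', Function.update_of_ne (Finset.ne_of_mem_erase hj)]), hl', Function.update_self]
      have hR : 0 < (Finset.univ.erase i).prod fun j => 1 + l j := Finset.prod_pos fun j _ => by omega
      rw [show 1 + (l i - 1) = l i by omega, add_mul, one_mul]
      omega
    refine PChain.extension_pPrime (Cfsg.pCore (q i) (H ⧸ Cfsg.pPrimeCore (q i) H)) ?_ (PChain.mono ?_ e2)
    · obtain ⟨e, he⟩ := IsPGroup.iff_card.1 (Lib.Core.pCore_isPGroup (q i) (H ⧸ Cfsg.pPrimeCore (q i) H))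
      rw [he]
      exact ((Nat.coprime_primes Fact.out hp.out).2 (hqp i)).pow_left e
    refine ih _ e1 _ (fun s hs hsd hsp => hcovH s hs
      (hsd.trans ((card_quotient_dvd_card _).trans (card_quotient_dvd_card _))) hsp) l' rfl fun j => ?_
    by_cases hj : j = i
    · subst hj
      rw [hl', Function.update_self]
      exact PChain.quotient_pCore hO (by rw [show l j - 1 + 1 = l j by omega]; exact hlL j)
    · rw [hl', Function.update_of_ne hj]
      exact (hlL j).quotient _
  obtain ⟨X, hXn, hX, hc⟩ := pChain_iInf _ hpiece Finset.univ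
  have hXp : IsPGroup p X := by
    refine IsPGroup.of_card (n := (Nat.card X).primeFactorsList.length)
      (Nat.eq_prime_pow_of_unique_prime_dvd Nat.card_pos.ne' fun {s} hs hsd => ?_)
    by_contra hsp
    obtain ⟨i, rfl⟩ := hcovH s hs (hsd.trans (card_subgroup_dvd_card X)) hsp
    exact hs.coprime_iff_not_dvd.1 ((Lib.Core.pPrimeCore_coprime (q i) H).coprime_dvd_left
      (card_dvd_of_le (hX i (Finset.mem_univ i)))).symm hsd
  refine hc.of_surjective (QuotientGroup.lift X (MonoidHom.id H) fun x hx => ?_) fun h => ⟨QuotientGroup.mk' X h, rfl⟩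
  have h2 := Lib.Core.le_pCore' hXn hXp hx
  rw [hOp, mem_bot] at h2
  exact h2

/-- Let G be a finite solvable group and p a prime. Suppose p₁, …, p_r are distinct primes, all different from p, that include every prime dividing the order of G other than p, and that G has p_i-length at most l_i for each i. Then G has p-length at most the product of the numbers 1 + l_i. -/
theorem result {G : Type*} [Group G] [Finite G] (hG : Group.IsSolvable G) (p : ℕ) [Fact p.Prime] (r : ℕ) (q : Fin r → ℕ) (hq : ∀ i, (q i).Prime ∧ q i ≠ p) (hinj : Function.Injective q) (hcover : ∀ s : ℕ, s.Prime → s ∣ Nat.card G → s ≠ p → ∃ i, q i = s) (l : Fin r → ℕ) (hl : ∀ i, Cfsg.PLengthLE (q i) (l i) G) : Cfsg.PLengthLE p (Finset.univ.prod fun i => 1 + l i) G := by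
  have : ∀ i, Fact (q i).Prime := fun i => ⟨(hq i).1⟩
  exact (Lib.Local.pLengthLE_iff _).2 (main p q (fun i => (hq i).2) _ G hcover l rfl
    (fun i => (Lib.Local.pLengthLE_iff _).1 (hl i)))

end Cfsg.Agent.S3790
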