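import Cfsg.Statements.S3791
import Cfsg.Agent.Lib.Local.PLengthChain
-- import your own Cfsg.Agent.* helpers here

set_option autoImplicit false
open Cfsg

namespace Cfsg.Agent.S3791

open Subgroup Cfsg.Lib.Local

universe u

theorem derived_le_map {G : Type*} [Group G] {a : ℕ} {O : Subgroup G} (h : derivedSeries G a ≤ O) :
    ∀ b, derivedSeries G (a + b) ≤ (derivedSeries O b).map O.subtype := by
  intro b
  induction b with
  | zero => rwa [derivedSeries_zero, ← MonoidHom.range_eq_map, range_subtype, Nat.add_zero]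
  | succ b ih =>
    rw [← Nat.add_assoc, derivedSeries_succ, derivedSeries_succ, map_commutator]
    exact commutator_mono ih ih

theorem sylow_derived_of_surjective {G : Type*} [Group G] [Finite G] {K : Type*} [Group K] (f : G →* K)
    (hf : Function.Surjective f) {p : ℕ} [Fact p.Prime] {d : ℕ}
    (h : ∀ S : Sylow p G, derivedSeries (S : Subgroup G) d = ⊥) :
    ∀ P : Sylow p K, derivedSeries (P : Subgroup K) d = ⊥ := by
  intro P
  obtain ⟨S, rfl⟩ := Sylow.mapSurjective_surjective hf p P
  have h1 := derivedSeries_le_map_derivedSeries (f := f.subgroupMap (S : Subgroup G))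
    (f.subgroupMap_surjective _) d
  rw [h S, Subgroup.map_bot] at h1
  exact le_bot_iff.1 h1

theorem main {r : ℕ} (q : Fin r → ℕ) [∀ i, Fact (q i).Prime] (d : Fin r → ℕ) :
    ∀ (m : ℕ) (G : Type u) [Group G] [Finite G], Group.IsSolvable G →
      (∀ s : ℕ, s.Prime → s ∣ Nat.card G → ∃ i, q i = s) → ∀ l : Fin r → ℕ,
      Finset.univ.sum l = m → (∀ i, ∀ S : Sylow (q i) G, derivedSeries (S : Subgroup G) (d i) = ⊥) →
      (∀ i, PChain (q i) (l i) G) → derivedSeries G (Finset.univ.sum fun i => d i * l i) = ⊥ := by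
  intro m
  induction m using Nat.strong_induction_on with
  | _ m ih =>
  intro G _ _ hsol hcov l hm hd hl
  set S := Finset.univ.sum fun i => d i * l i with hS
  set X := derivedSeries G S with hX
  refine Subgroup.eq_bot_of_card_eq X (Nat.eq_one_iff_not_exists_prime_dvd.2 fun s hs hsd => ?_)
  obtain ⟨i, rfl⟩ := hcov s hs (hsd.trans (card_subgroup_dvd_card X))
  suffices hle : X ≤ Cfsg.pPrimeCore (q i) G from
    hs.coprime_iff_not_dvd.1 ((Lib.Core.pPrimeCore_coprime (q i) G).coprime_dvd_left (card_dvd_of_le hle)).symm hsd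
  let f := QuotientGroup.mk' (Cfsg.pPrimeCore (q i) G)
  have hf := QuotientGroup.mk'_surjective (Cfsg.pPrimeCore (q i) G)
  suffices hK : derivedSeries (G ⧸ Cfsg.pPrimeCore (q i) G) S = ⊥ by
    refine (QuotientGroup.ker_mk' (Cfsg.pPrimeCore (q i) G)).le.trans' ?_
    rw [← Subgroup.map_eq_bot_iff]
    exact le_bot_iff.1 (hK ▸ map_derivedSeries_le_derivedSeries f S)
  have hlK : ∀ j, PChain (q j) (l j) (G ⧸ Cfsg.pPrimeCore (q i) G) := fun j => (hl j).quotient _
  have hO : Cfsg.pPrimeCore (q i) (G ⧸ Cfsg.pPrimeCore (q i) G) = ⊥ := Lib.Core.pPrimeCore_quotient_eq_bot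
  set K := G ⧸ Cfsg.pPrimeCore (q i) G with hKdef
  rcases Nat.eq_zero_or_pos (l i) with h0 | h0
  · have h1 : (⊤ : Subgroup K) = ⊥ := by
      refine le_bot_iff.1 (hO ▸ Lib.Core.le_pPrimeCore' inferInstance ?_)
      rw [card_top]
      exact coprime_of_pChain_zero (h0 ▸ hlK i)
    exact le_bot_iff.1 (h1 ▸ le_top)
  set l' := Function.update l i (l i - 1) with hl'
  have e1 : Finset.univ.sum l' < m := by
    rw [← hm]
    exact Finset.sum_lt_sum (fun j _ => by
      by_cases hj : j = i <;> simp [hl', Function.update, hj]) ⟨i, Finset.mem_univ _, by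
        simp only [Function.update_self]; omega⟩
  have e2 : (Finset.univ.sum fun j => d j * l' j) + d i = S := by
    rw [hS, ← Finset.add_sum_erase _ _ (Finset.mem_univ i), ← Finset.add_sum_erase _ _ (Finset.mem_univ i),
      Finset.sum_congr rfl (fun j hj => show d j * l' j = d j * l j by
        rw [hl', Function.update_of_ne (Finset.ne_of_mem_erase hj)]), hl', Function.update_self]
    have : d i * (l i - 1) + d i = d i * l i := by
      rw [← Nat.mul_succ]; congr 1; omega
    omega
  have hdK : ∀ j, ∀ P : Sylow (q j) K, derivedSeries (P : Subgroup K) (d j) = ⊥ := fun j =>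
    sylow_derived_of_surjective f hf (hd j)
  set O := Cfsg.pCore (q i) K with hOdef
  have hKsol : Group.IsSolvable K := Group.isSolvable_of_surjective hf
  have hdvd : Nat.card (K ⧸ O) ∣ Nat.card G :=
    (card_quotient_dvd_card O).trans (card_quotient_dvd_card _)
  have h1 := ih _ e1 (K ⧸ O) (Group.isSolvable_of_surjective (QuotientGroup.mk'_surjective O))
    (fun s hs hsd => hcov s hs (hsd.trans hdvd)) l' rfl
    (fun j => sylow_derived_of_surjective _ (QuotientGroup.mk'_surjective O) (hdK j))
    (fun j => by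
      by_cases hj : j = i
      · subst hj
        rw [hl', Function.update_self]
        exact PChain.quotient_pCore hO (by rw [show l j - 1 + 1 = l j by omega]; exact hlK j)
      · rw [hl', Function.update_of_ne hj]
        exact (hlK j).quotient O)
  have h2 : derivedSeries K (Finset.univ.sum fun j => d j * l' j) ≤ O := by
    refine (QuotientGroup.ker_mk' O).le.trans' ?_
    rw [← Subgroup.map_eq_bot_iff]
    exact le_bot_iff.1 (h1 ▸ map_derivedSeries_le_derivedSeries (QuotientGroup.mk' O) _)
  have h3 : derivedSeries O (d i) = ⊥ := by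
    obtain ⟨P⟩ : Nonempty (Sylow (q i) K) := inferInstance
    have h4 := map_derivedSeries_le_derivedSeries (Subgroup.inclusion (Lib.Core.pCore_le_sylow P : O ≤ P)) (d i)
    rw [hdK i P, le_bot_iff, Subgroup.map_eq_bot_iff_of_injective _ (Subgroup.inclusion_injective _)] at h4
    exact h4
  have h5 := derived_le_map h2 (d i)
  rw [h3, Subgroup.map_bot, le_bot_iff, e2] at h5
  exact h5

/-- The Hall–Higman bound on derived length: let G be a finite solvable group, let p₁, …, p_r be distinct primes that include every prime dividing the order of G, and suppose that for each i the Sylow p_i-subgroups of G have derived length at most d_i and G has p_i-length at most l_i. Then G has derived length at most Σ d_i l_i. -/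
theorem result {G : Type*} [Group G] [Finite G] (hG : Group.IsSolvable G) (r : ℕ) (q : Fin r → ℕ) (hq : ∀ i, (q i).Prime) (hinj : Function.Injective q) (hcover : ∀ s : ℕ, s.Prime → s ∣ Nat.card G → ∃ i, q i = s) (d l : Fin r → ℕ) (hd : ∀ i, ∀ P : Subgroup G, (haveI := Fact.mk (hq i); ∃ S : Sylow (q i) G, (S : Subgroup G) = P) → derivedSeries ↥P (d i) = ⊥) (hl : ∀ i, Cfsg.PLengthLE (q i) (l i) G) : derivedSeries G (Finset.univ.sum fun i => d i * l i) = ⊥ := by
  have : ∀ i, Fact (q i).Prime := fun i => ⟨hq i⟩
  exact main q d _ G hG hcover l rfl (fun i S => hd i S ⟨S, rfl⟩)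
    (fun i => (Lib.Local.pLengthLE_iff _).1 (hl i))

end Cfsg.Agent.S3791
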