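import Cfsg.Statements.S3793
import Cfsg.Agent.Lib.Local.ShultGross
import Cfsg.Agent.Lib.Local.TopModule
import Cfsg.Agent.Lib.Solv.WardRank
import Cfsg.Agent.Lib.Core.Layer
-- import your own Cfsg.Agent.* helpers here

set_option autoImplicit false
open Cfsg

namespace Cfsg.Agent.S3793

open Subgroup Cfsg.Lib.Local
open Cfsg.Lib.Solv.WardRank
open scoped commutatorElement

universe u v

/-- An element of a `q`-group acting nontrivially on an `r`-group acts nontrivially on the Frattini quotient. -/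
theorem frattini_faithful {G : Type u} [Group G] [Finite G] {O : Subgroup G} [O.Normal] {q r : ℕ}
    [Fact q.Prime] [Fact r.Prime] (hqr : q ≠ r) (hO : IsPGroup r O) {d : G} (hd : IsPGroup q (zpowers d))
    (h : ∀ a : O, (QuotientGroup.mk (MulAut.conjNormal d a) : O ⧸ frattini O) = QuotientGroup.mk a) :
    d ∈ centralizer (O : Set G) := by
  have hcop : (Nat.card (zpowers d)).Coprime (Nat.card O) := by
    obtain ⟨a, ha⟩ := IsPGroup.iff_card.1 hd
    obtain ⟨b, hb⟩ := IsPGroup.iff_card.1 hO
    rw [ha, hb]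
    exact ((Nat.coprime_primes Fact.out Fact.out).2 hqr).pow a b
  refine Lib.Coprime.le_centralizer_of_commutator_le_frattini
    (fun z _ => by rw [normalizer_eq_top_iff.2 inferInstance]; exact mem_top z) hcop
    (Or.inr (have := hO.isNilpotent; IsNilpotent.to_isSolvable)) ?_ (mem_zpowers d)
  rw [commutator_le]
  intro a ha z hz
  have hfix : ∀ (k : ℕ) (b : O), (QuotientGroup.mk (MulAut.conjNormal (d ^ k) b) : O ⧸ frattini O) =
      QuotientGroup.mk b := by
    intro k
    induction k with
    | zero => intro b; rw [pow_zero, map_one]; rfl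
    | succ k ih =>
      intro b
      rw [pow_succ, map_mul, MulAut.mul_apply, ih, h]
  obtain ⟨k, rfl⟩ := mem_powers_iff_mem_zpowers.2 hz
  refine ⟨(⟨a, ha⟩ : O) * MulAut.conjNormal (d ^ k) (⟨a, ha⟩ : O)⁻¹, ?_, ?_⟩
  · have h2 := QuotientGroup.eq.1 (hfix k (⟨a, ha⟩ : O)⁻¹).symm
    rwa [inv_inv] at h2
  · show a * ((MulAut.conjNormal (d ^ k) (⟨a, ha⟩ : O)⁻¹ : O) : G) = ⁅a, d ^ k⁆
    rw [MulAut.conjNormal_apply, commutatorElement_def, Subgroup.coe_inv]
    group

/-- The socle power of a fixed-point-free operator of odd prime-power order centralizes `G / F(G)`. -/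
theorem socle_trivial {G : Type u} [Group G] [Finite G] [Group.IsSolvable G] {A : Type v} [CommGroup A] [Finite A]
    {φ : A →* MulAut G} {p : ℕ} [hp : Fact p.Prime] (hp2 : p ≠ 2) (hA : IsPGroup p A) (hG : ¬ p ∣ Nat.card G)
    (a : A) (ha : ∀ b : A, b ∈ zpowers a) (n : ℕ) (han : a ^ p ^ (n + 1) = 1)
    (hfpf : ∀ g : G, φ a g = g → g = 1) (g : G) :
    g⁻¹ * φ (a ^ p ^ n) g ∈ Cfsg.fittingSubgroup G := by
  classical
  set N := Cfsg.fittingSubgroup G with hNdef
  haveI hNn : N.Normal := Lib.Core.fittingSubgroup_normal' G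
  set yA := a ^ p ^ n with hyA
  have hNinv : Inv φ N := inv_of_map_eq fun b => Lib.Core.map_fittingSubgroup_equiv (φ b)
  have hGm : ¬ p ∣ Nat.card (G ⧸ N) := fun hd => hG (hd.trans (card_quotient_dvd_card N))
  let ψA := quoAct φ N hNinv
  suffices hall : ∀ x : G ⧸ N, ψA yA x = x by
    exact QuotientGroup.eq.1 (hall (QuotientGroup.mk' N g)).symm
  by_contra hcon
  push Not at hcon
  obtain ⟨x0, hx0⟩ := hcon
  -- the Fitting subgroup of the quotient
  haveI : Group.IsSolvable (G ⧸ N) :=
    Group.isSolvable_of_surjective (QuotientGroup.mk'_surjective N)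
  set F2 := Cfsg.fittingSubgroup (G ⧸ N) with hF2
  haveI : F2.Normal := Lib.Core.fittingSubgroup_normal' _
  obtain ⟨f, hf, hfne⟩ : ∃ f ∈ F2, ψA yA f ≠ f := by
    by_contra hc
    push Not at hc
    have hδ : x0⁻¹ * ψA yA x0 ∈ centralizer (F2 : Set (G ⧸ N)) := by
      refine mem_centralizer_iff.2 fun f hf => ?_
      have h1 : ψA yA x0 * f * (ψA yA x0)⁻¹ = x0 * f * x0⁻¹ := by
        conv_rhs => rw [← hc _ ((inferInstance : F2.Normal).conj_mem f hf x0)]
        rw [map_mul, map_mul, map_inv, hc f hf]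
      have h2 := congrArg (fun z => x0⁻¹ * z * ψA yA x0) h1
      simp only [mul_assoc, inv_mul_cancel, mul_one, inv_mul_cancel_left] at h2
      rw [← mul_assoc] at h2
      exact h2.symm
    have hδF := Lib.Core.centralizer_fitting_le_of_isSolvable hδ
    set δ := x0⁻¹ * ψA yA x0 with hδdef
    have hpow : ∀ k : ℕ, ψA (yA ^ k) x0 = x0 * δ ^ k := by
      intro k
      induction k with
      | zero => rw [pow_zero, map_one, MulAut.one_apply, pow_zero, mul_one]
      | succ k ih =>
        rw [pow_succ', map_mul, MulAut.mul_apply, ih, map_mul, map_pow (ψA yA) δ k, hc δ hδF, pow_succ', hδdef, ← mul_assoc,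
          mul_inv_cancel_left]
    have h1 := hpow p
    rw [show yA ^ p = 1 by rw [hyA, ← pow_mul, ← pow_succ, han], map_one, MulAut.one_apply, left_eq_mul] at h1
    have h2 : δ = 1 := (powCoprime ((hp.out.coprime_iff_not_dvd.2 hGm).symm)).injective
      (show δ ^ p = (1 : G ⧸ N) ^ p by rw [h1, one_pow])
    exact hx0 (inv_mul_eq_one.1 h2).symm
  -- a prime where it moves
  obtain ⟨q, hq, f, hf, hfne⟩ : ∃ q : ℕ, q.Prime ∧ ∃ f ∈ Cfsg.pCore q (G ⧸ N), ψA yA f ≠ f := by
    by_contra hc
    push Not at hc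
    refine hfne ?_
    let Fx : Subgroup (G ⧸ N) :=
      { carrier := {z | ψA yA z = z}
        one_mem' := map_one _
        mul_mem' := fun {u w} hu hw => by
          show ψA yA (u * w) = u * w
          rw [map_mul, show ψA yA u = u from hu, show ψA yA w = w from hw]
        inv_mem' := fun {u} hu => by
          show ψA yA u⁻¹ = u⁻¹
          rw [map_inv, show ψA yA u = u from hu] }
    rw [hF2, Lib.Core.fittingSubgroup_eq_iSup_pCore] at hf
    exact (iSup_le fun r : Nat.Primes => fun z hz => hc r r.2 z hz :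
      (⨆ r : Nat.Primes, Cfsg.pCore (r : ℕ) (G ⧸ N)) ≤ Fx) hf
  haveI : Fact q.Prime := ⟨hq⟩
  set Oq := Cfsg.pCore q (G ⧸ N) with hOq
  set U := Oq.comap (QuotientGroup.mk' N) with hU
  have hUinv : Inv φ U := Inv.comap_mk (inv_of_map_eq fun b => Lib.Core.map_pCore_equiv (ψA b))
  obtain ⟨S, hSinv⟩ := exists_inv_sylow hA hG q hUinv
  set S' := (S : Subgroup U).map U.subtype with hS'
  let gU : U →* Oq := ((QuotientGroup.mk' N).comp U.subtype).codRestrict Oq fun z => z.2
  have hgU : Function.Surjective gU := by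
    rintro ⟨z, hz⟩
    obtain ⟨k, rfl⟩ := QuotientGroup.mk'_surjective N z
    exact ⟨⟨k, hz⟩, rfl⟩
  have hStop : (S.mapSurjective hgU : Subgroup Oq) = ⊤ := by
    rw [eq_top_iff]
    exact ((S.mapSurjective hgU).is_maximal' ((Lib.Core.pCore_isPGroup q _).to_subgroup ⊤) le_top).le
  obtain ⟨s0, hs0, hs0'⟩ := hStop.ge (mem_top (⟨f, hf⟩ : Oq))
  set s : G := (s0 : G) with hs
  have hsS : s ∈ S' := mem_map_of_mem _ hs0
  have hsf : QuotientGroup.mk' N s = f := congrArg Subtype.val hs0'
  set d := s⁻¹ * φ yA s with hd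
  have hdS : d ∈ S' := mul_mem (inv_mem hsS) (hSinv yA s hsS)
  have hdN : d ∉ N := fun h => hfne (by rw [← hsf]; exact (QuotientGroup.eq.2 h).symm)
  have hdq : IsPGroup q (zpowers d) := (S.isPGroup'.map U.subtype).to_le (zpowers_le.2 hdS)
  obtain ⟨r, hr, hrq, hrd⟩ : ∃ r : ℕ, r.Prime ∧ r ≠ q ∧ d ∉ centralizer (Cfsg.pCore r G : Set G) := by
    by_contra hc
    push Not at hc
    let C : Subgroup G := U ⊓ ⨅ r : {r : Nat.Primes // (r : ℕ) ≠ q}, centralizer (Cfsg.pCore (r.1 : ℕ) G : Set G)
    haveI : U.Normal := (inferInstance : Oq.Normal).comap _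
    haveI : C.Normal := Subgroup.normal_inf_normal _ _
    have hdC : d ∈ C := mem_inf.2 ⟨map_subtype_le _ hdS, mem_iInf.2 fun r => hc r.1 r.1.2 r.2⟩
    refine hdN (Lib.Core.le_fittingSubgroup (N := C) ?_ hdC)
    -- every element of order prime to `q` is central
    have hcentral : ∀ (r : ℕ), r.Prime → r ≠ q → ∀ c : C, IsPGroup r (zpowers c) → c ∈ center C := by
      intro r hr hrq c hcr
      haveI : Fact r.Prime := ⟨hr⟩
      have hcN : (c : G) ∈ N := by
        rw [← QuotientGroup.eq_one_iff]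
        obtain ⟨e, he⟩ := IsPGroup.iff_orderOf.1 hcr ⟨c, mem_zpowers c⟩
        rw [Subgroup.orderOf_mk] at he
        have hcO : QuotientGroup.mk' N (c : G) ∈ Oq := (mem_inf.1 c.2).1
        obtain ⟨e', he'⟩ := IsPGroup.iff_orderOf.1 (Lib.Core.pCore_isPGroup q (G ⧸ N)) ⟨_, hcO⟩
        rw [Subgroup.orderOf_mk] at he'
        rw [← orderOf_eq_one_iff]
        have h1 : orderOf (QuotientGroup.mk' N (c : G)) ∣ r ^ e :=
          (orderOf_map_dvd _ _).trans (by rw [Subgroup.orderOf_coe, he])
        exact Nat.dvd_one.1 ((((Nat.coprime_primes hr hq).2 hrq).pow e e').gcd_eq_one ▸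
          Nat.dvd_gcd h1 he'.dvd)
      obtain ⟨Sr⟩ : Nonempty (Sylow r N) := inferInstance
      haveI := Lib.Core.fittingSubgroup_isNilpotent G
      haveI hSrn : (Sr : Subgroup N).Normal :=
        Sylow.normal_of_normalizerCondition Group.normalizerCondition_of_isNilpotent Sr
      haveI : (Sr : Subgroup N).Characteristic := Sylow.characteristic_of_normal Sr hSrn
      have hle : (Sr : Subgroup N).map N.subtype ≤ Cfsg.pCore r G := by
        haveI : ((Sr : Subgroup N).map N.subtype).Normal := ConjAct.normal_of_characteristic_of_normal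
        exact Lib.Core.le_pCore (Sr.isPGroup'.map _)
      have hcSr : (⟨(c : G), hcN⟩ : N) ∈ (Sr : Subgroup N) := by
        obtain ⟨T, hT⟩ := (show IsPGroup r (zpowers (⟨(c : G), hcN⟩ : N)) by
          obtain ⟨e, he⟩ := IsPGroup.iff_orderOf.1 hcr ⟨c, mem_zpowers c⟩
          rw [Subgroup.orderOf_mk] at he
          exact IsPGroup.of_card (n := e) (by
            rw [Nat.card_zpowers, Subgroup.orderOf_mk, Subgroup.orderOf_coe, he])).exists_le_sylow
        have hTS : T = Sr := by
          obtain ⟨u, hu⟩ := MulAction.exists_smul_eq N Sr T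
          rw [← hu, Sylow.smul_eq_of_normal]
        exact hTS ▸ hT (mem_zpowers _)
      have hcO : (c : G) ∈ Cfsg.pCore r G := hle ⟨_, hcSr, rfl⟩
      rw [mem_center_iff]
      intro c'
      refine Subtype.ext ?_
      exact (mem_centralizer_iff.1 (mem_iInf.1 (mem_inf.1 c'.2).2 ⟨⟨r, hr⟩, hrq⟩) _ hcO).symm
    have hquot : IsPGroup q (C ⧸ center C) := by
      intro z
      obtain ⟨c, rfl⟩ := QuotientGroup.mk_surjective z
      obtain ⟨e, b, hb, heb⟩ := Nat.exists_eq_pow_mul_and_not_dvd (orderOf_pos c).ne' q hq.ne_one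
      refine ⟨e, ?_⟩
      rw [← QuotientGroup.mk_pow, QuotientGroup.eq_one_iff]
      set u := c ^ q ^ e with hu
      have hub : u ^ b = 1 := by rw [hu, ← pow_mul, ← heb, pow_orderOf_eq_one]
      -- split `u` into its primary parts
      have key : ∀ b : ℕ, ¬ q ∣ b → ∀ u : C, u ^ b = 1 → u ∈ center C := by
        intro b
        induction b using Nat.recOnPosPrimePosCoprime with
        | prime_pow r e hr he =>
          intro hb u hu
          refine hcentral r hr (fun h => hb (h ▸ dvd_pow_self r he.ne')) u ?_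
          haveI : Fact r.Prime := ⟨hr⟩
          obtain ⟨i, -, hi⟩ := (Nat.dvd_prime_pow hr).1 (orderOf_dvd_of_pow_eq_one hu)
          exact IsPGroup.of_card (by rw [Nat.card_zpowers, hi])
        | zero => intro hb; exact absurd (dvd_zero q) hb
        | one => intro _ u hu; rw [pow_one] at hu; rw [hu]; exact one_mem _
        | coprime b1 b2 h1 h2 hcop ih1 ih2 =>
          intro hb u hu
          have hm1 := ih1 (fun h => hb (h.mul_right _)) (u ^ b2) (by rw [← pow_mul, mul_comm, hu])
          have hm2 := ih2 (fun h => hb (h.mul_left _)) (u ^ b1) (by rw [← pow_mul, hu])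
          obtain ⟨x, y, hxy⟩ := (Nat.isCoprime_iff_coprime.2 hcop : IsCoprime (b1 : ℤ) b2)
          have : u = (u ^ b1) ^ x * (u ^ b2) ^ y := by
            rw [← zpow_natCast u b1, ← zpow_natCast u b2, ← zpow_mul, ← zpow_mul, ← zpow_add,
              mul_comm (b1 : ℤ), mul_comm (b2 : ℤ), hxy, zpow_one]
          rw [this]
          exact mul_mem (zpow_mem hm2 x) (zpow_mem hm1 y)
      exact key b hb u hub
    haveI := hquot.isNilpotent
    exact Group.of_quotient_center_nilpotent inferInstance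
  -- the module
  haveI : Fact r.Prime := ⟨hr⟩
  set O := Cfsg.pCore r G with hO
  have hOr : IsPGroup r O := Lib.Core.pCore_isPGroup r G
  have hOinv : Inv φ O := inv_of_map_eq fun b => Lib.Core.map_pCore_equiv (φ b)
  letI : CommGroup (O ⧸ frattini O) := { (inferInstance : Group (O ⧸ frattini O)) with
    mul_comm := fun u w => by
      obtain ⟨u, rfl⟩ := QuotientGroup.mk'_surjective _ u
      obtain ⟨w, rfl⟩ := QuotientGroup.mk'_surjective _ w
      rw [← commutatorElement_eq_one_iff_mul_comm, ← map_commutatorElement]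
      exact (QuotientGroup.eq_one_iff _).2 (Lib.PGroup.commutator_le_frattini hOr
        (Subgroup.commutator_mem_commutator (mem_top u) (mem_top w))) }
  let χ : MulAut O →* MulAut (O ⧸ frattini O) :=
    { toFun := fun k => QuotientGroup.congr (frattini O) (frattini O) k
        (characteristic_iff_map_eq.1 frattini_characteristic _)
      map_one' := MulEquiv.ext fun z => by
        obtain ⟨u, rfl⟩ := QuotientGroup.mk'_surjective _ z
        rfl
      map_mul' := fun k l => MulEquiv.ext fun z => by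
        obtain ⟨u, rfl⟩ := QuotientGroup.mk'_surjective _ z
        rfl }
  have hχ : ∀ k u, χ k (QuotientGroup.mk' _ u) = QuotientGroup.mk' (frattini O) (k u) := fun _ _ => rfl
  let α : G →* MulAut (O ⧸ frattini O) := χ.comp MulAut.conjNormal
  let τ : A →* MulAut O := subAct φ O hOinv
  set t : MulAut (O ⧸ frattini O) := χ (τ a) with ht
  have hrel : ∀ g : G, t * α g * t⁻¹ = α (φ a g) := by
    intro g
    rw [ht, show α g = χ (MulAut.conjNormal g) from rfl, ← map_inv, ← map_mul, ← map_mul]
    refine congrArg χ (MulEquiv.ext fun u => Subtype.ext ?_)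
    rw [MulAut.mul_apply, MulAut.mul_apply, ← map_inv τ, MulAut.conjNormal_apply, subAct_apply,
      MulAut.conjNormal_apply, subAct_apply, map_mul, map_mul, apply_inv, map_inv]
  have hrelpow : ∀ (k : ℕ) (g : G), t ^ k * α g * (t ^ k)⁻¹ = α (φ (a ^ k) g) := by
    intro k
    induction k with
    | zero => intro g; simp
    | succ k ih =>
      intro g
      rw [pow_succ', show t * t ^ k * α g * (t * t ^ k)⁻¹ = t * (t ^ k * α g * (t ^ k)⁻¹) * t⁻¹ by group,
        ih, hrel, pow_succ', map_mul, MulAut.mul_apply]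
  obtain ⟨V, _, _, _, R, e, he⟩ := exists_zmod_rep (p := r) (W := O ⧸ frattini O) (fun v => by
    obtain ⟨u, rfl⟩ := QuotientGroup.mk'_surjective _ v
    rw [← map_pow]
    exact (QuotientGroup.eq_one_iff _).2 (Lib.PGroup.pow_mem_frattini hOr u)) (MonoidHom.id _)
  have hR : Function.Injective R := fun k l hkl => MulEquiv.ext fun w =>
    e.injective (Multiplicative.toAdd.injective ((he k w).symm.trans ((LinearMap.congr_fun hkl _).trans (he l w))))
  have : Finite (MulAut (O ⧸ frattini O)) := inferInstance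
  set Q := S'.map α with hQdef
  have hQ : IsPGroup q Q := (S.isPGroup'.map U.subtype).map α
  have hrp : r ≠ p := by
    rintro rfl
    refine hG ?_
    have hne : O ≠ ⊥ := fun e => hrd (mem_centralizer_iff.2 fun u hu => by
      rw [show u = 1 from mem_bot.1 (e.le hu)]; simp)
    obtain ⟨i, hi⟩ := IsPGroup.iff_card.1 hOr
    have hi0 : i ≠ 0 := fun e0 => hne (eq_bot_of_card_eq _ (by rw [hi, e0, pow_zero]))
    exact ((dvd_pow_self r hi0).trans (hi ▸ dvd_rfl)).trans (card_subgroup_dvd_card O)
  have hqp : q ≠ p := by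
    rintro rfl
    refine hGm ?_
    have hf1 : f ≠ 1 := fun e => hfne (by rw [e, map_one])
    obtain ⟨i, hi⟩ := IsPGroup.iff_orderOf.1 (Lib.Core.pCore_isPGroup q (G ⧸ N)) ⟨f, hf⟩
    rw [Subgroup.orderOf_mk] at hi
    have hi0 : i ≠ 0 := fun e0 => hf1 (orderOf_eq_one_iff.1 (by rw [hi, e0, pow_zero]))
    exact (dvd_pow_self q hi0).trans (hi ▸ orderOf_dvd_natCard f)
  let K := AlgebraicClosure (ZMod r)
  have : CharP K r := charP_of_injective_algebraMap (algebraMap (ZMod r) K).injective r
  have hcast : ∀ l : ℕ, l.Prime → l ≠ r → (l : K) ≠ 0 := fun l hl hlr => by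
    rw [Ne, CharP.cast_eq_zero_iff K r]
    exact fun hd => hlr ((Nat.prime_dvd_prime_iff_eq hr hl).1 hd).symm
  refine no_fixedPointFree (closureRep_injective hR) hQ (hcast q hq (Ne.symm hrq)) hp2
    (hcast p hp.out (Ne.symm hrp)) hqp (x := t) (n := n) ?_ ?_ ?_ ?_ ?_
  · rintro _ ⟨u, hu, rfl⟩
    exact ⟨φ a u, hSinv a u hu, (hrel u).symm⟩
  · rw [ht, ← map_pow, ← map_pow, han, map_one, map_one]
  · refine ⟨α s, mem_map_of_mem α hsS, fun e' => hrd ?_⟩
    rw [hrelpow, ← hyA] at e'
    have hαd : α d = 1 := by rw [hd, map_mul, map_inv, e', inv_mul_cancel]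
    refine frattini_faithful (Ne.symm hrq) hOr hdq fun u => ?_
    exact DFunLike.congr_fun hαd (QuotientGroup.mk' _ u)
  · rintro _ ⟨u, hu, rfl⟩ hfix
    rw [hrel] at hfix
    have hk : u⁻¹ * φ a u ∈ α.ker := by
      rw [MonoidHom.mem_ker, map_mul, map_inv, hfix, inv_mul_cancel]
    have hKinv : Inv φ α.ker := by
      have h1 : ∀ w ∈ α.ker, φ a w ∈ α.ker := fun w hw => by
        rw [MonoidHom.mem_ker] at hw ⊢
        rw [← hrel, hw, mul_one, mul_inv_cancel]
      intro b w hw
      obtain ⟨k, rfl⟩ := mem_powers_iff_mem_zpowers.2 (ha b)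
      induction k with
      | zero => simpa using hw
      | succ k ih => beta_reduce; rw [pow_succ', map_mul, MulAut.mul_apply]; exact h1 _ ih
    obtain ⟨w, hw, huw⟩ := exists_fixed_in_coset hA hG hKinv ⊤ (g := u) fun b _ => by
      obtain ⟨k, rfl⟩ := mem_powers_iff_mem_zpowers.2 (ha b)
      induction k with
      | zero => simp
      | succ k ih =>
        beta_reduce
        rw [pow_succ', map_mul, MulAut.mul_apply,
          show u⁻¹ * φ a (φ (a ^ k) u) = (u⁻¹ * φ a u) * φ a (u⁻¹ * φ (a ^ k) u) by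
            rw [map_mul, map_inv]; group]
        exact mul_mem hk (hKinv a _ (ih (mem_top _)))
    rw [hfpf w (hw a (mem_top a)), mul_one, inv_mem_iff] at huw
    exact huw
  · have hNsum : ∑ i ∈ Finset.range (p ^ (n + 1)), R t ^ i = 0 := by
      refine LinearMap.ext fun v => ?_
      rw [LinearMap.sum_apply, LinearMap.zero_apply]
      set S0 := ∑ i ∈ Finset.range (p ^ (n + 1)), (R t ^ i) v with hS0
      have htN : t ^ p ^ (n + 1) = 1 := by rw [ht, ← map_pow, ← map_pow, han, map_one, map_one]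
      have hfix : R t S0 = S0 := by
        rw [hS0, map_sum, ← sub_eq_zero, ← Finset.sum_sub_distrib]
        calc ∑ i ∈ Finset.range (p ^ (n + 1)), (R t ((R t ^ i) v) - (R t ^ i) v)
            = ∑ i ∈ Finset.range (p ^ (n + 1)), ((R t ^ (i + 1)) v - (R t ^ i) v) := by
              simp only [pow_succ', Module.End.mul_apply]
          _ = (R t ^ p ^ (n + 1)) v - (R t ^ 0) v := Finset.sum_range_sub (fun i => (R t ^ i) v) _
          _ = 0 := by rw [← map_pow, htN, map_one, pow_zero]; exact sub_self _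
      obtain ⟨w, hw⟩ := e.surjective (Multiplicative.ofAdd S0)
      obtain ⟨u, rfl⟩ := QuotientGroup.mk'_surjective _ w
      have hS0' : S0 = (e (QuotientGroup.mk' _ u)).toAdd := by rw [hw]; rfl
      rw [hS0', he] at hfix
      have hu : χ (τ a) (QuotientGroup.mk' _ u) = QuotientGroup.mk' (frattini O) u :=
        e.injective (Multiplicative.toAdd.injective hfix)
      rw [hχ] at hu
      have hOm : ¬ p ∣ Nat.card O := fun hd => hG (hd.trans (card_subgroup_dvd_card O))
      have hΦinv : Inv τ (frattini O) := inv_of_characteristic _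
      have hu' : u⁻¹ * τ a u ∈ frattini O := QuotientGroup.eq.1 hu.symm
      obtain ⟨w, hw', huw⟩ := exists_fixed_in_coset hA hOm hΦinv ⊤ (g := u) fun b _ => by
        obtain ⟨k, rfl⟩ := mem_powers_iff_mem_zpowers.2 (ha b)
        induction k with
        | zero => simp
        | succ k ih =>
          beta_reduce
          rw [pow_succ', map_mul, MulAut.mul_apply,
            show u⁻¹ * τ a (τ (a ^ k) u) = (u⁻¹ * τ a u) * τ a (u⁻¹ * τ (a ^ k) u) by
              rw [map_mul, map_inv]; group]
          exact mul_mem hu' (hΦinv a _ (ih (mem_top _)))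
      have hw1 : w = 1 := Subtype.ext (hfpf w (by
        have := congrArg Subtype.val (hw' a (mem_top a))
        simpa [τ, subAct_apply] using this))
      rw [hw1, mul_one, inv_mem_iff] at huw
      rw [hS0', show QuotientGroup.mk' (frattini O) u = 1 from (QuotientGroup.eq_one_iff u).2 huw, map_one]
      rfl
    exact closureRep_sum_pow hNsum

theorem main {p : ℕ} [hp : Fact p.Prime] (hp2 : p ≠ 2) : ∀ (n : ℕ) (G : Type u) [Group G] [Finite G],
    Group.IsSolvable G → ∀ σ : MulAut G, σ ^ p ^ n = 1 → (∀ g : G, σ g = g → g = 1) → Lib.Solv.FLe n G := by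
  intro n
  induction n with
  | zero =>
    intro G _ _ _ σ hσ hfpf
    rw [pow_zero, pow_one] at hσ
    exact Lib.Solv.fle_zero_iff.2 ⟨fun u w => (hfpf u (by rw [hσ]; rfl)).trans (hfpf w (by rw [hσ]; rfl)).symm⟩
  | succ n ih =>
    intro G _ _ hsol σ hσ hfpf
    haveI := hsol
    letI : CommGroup (zpowers σ) := { (inferInstance : Group (zpowers σ)) with
      mul_comm := fun u w => by
        obtain ⟨i, hi⟩ := mem_zpowers_iff.1 u.2
        obtain ⟨k, hk⟩ := mem_zpowers_iff.1 w.2
        refine Subtype.ext ?_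
        show (u : MulAut G) * w = w * u
        rw [← hi, ← hk, ← zpow_add, ← zpow_add, add_comm] }
    let φ : zpowers σ →* MulAut G := (zpowers σ).subtype
    obtain ⟨i, -, hi⟩ := (Nat.dvd_prime_pow hp.out).1 (orderOf_dvd_of_pow_eq_one hσ)
    have hA : IsPGroup p (zpowers σ) := IsPGroup.of_card (n := i) (by rw [Nat.card_zpowers, hi])
    set a : zpowers σ := ⟨σ, mem_zpowers σ⟩ with ha
    have hgen : ∀ b : zpowers σ, b ∈ zpowers a := fun b => by
      obtain ⟨k, hk⟩ := mem_zpowers_iff.1 b.2
      exact mem_zpowers_iff.2 ⟨k, Subtype.ext (by simpa [ha] using hk)⟩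
    have hG : ¬ p ∣ Nat.card G := by
      intro hd
      letI : MulAction (zpowers σ) G := MulAction.compHom G φ
      have h1 := hA.card_modEq_card_fixedPoints G
      have h2 : Nat.card (MulAction.fixedPoints (zpowers σ) G) = 1 := by
        rw [Nat.card_eq_one_iff_unique]
        refine ⟨⟨fun u w => Subtype.ext ((hfpf u (u.2 a)).trans (hfpf w (w.2 a)).symm)⟩, ⟨1, fun b => ?_⟩⟩
        exact map_one (φ b)
      rw [h2] at h1
      have h3 : 1 ≡ 0 [MOD p] := h1.symm.trans (Nat.modEq_zero_iff_dvd.2 hd)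
      exact hp.out.one_lt.ne' (Nat.dvd_one.1 (Nat.modEq_zero_iff_dvd.1 h3))
    set N := Cfsg.fittingSubgroup G with hN
    haveI : N.Normal := Lib.Core.fittingSubgroup_normal' G
    have hNinv : Inv φ N := inv_of_map_eq fun b => Lib.Core.map_fittingSubgroup_equiv (φ b)
    refine Lib.Solv.FLe.extension N (Lib.Core.fittingSubgroup_isNilpotent G) ?_
    refine ih _ (Group.isSolvable_of_surjective (QuotientGroup.mk'_surjective N))
      (quoAct φ N hNinv a) ?_ ?_
    · rw [← map_pow]
      refine MulEquiv.ext fun x => ?_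
      obtain ⟨g, rfl⟩ := QuotientGroup.mk'_surjective N x
      rw [quoAct_mk, MulAut.one_apply]
      exact (QuotientGroup.eq.2 (socle_trivial (φ := φ) hp2 hA hG a hgen n (Subtype.ext hσ) hfpf g)).symm
    · intro x hx
      obtain ⟨g, rfl⟩ := QuotientGroup.mk'_surjective N x
      rw [quoAct_mk] at hx
      obtain ⟨w, hw, hgw⟩ := exists_fixed_in_coset hA hG hNinv ⊤ (g := g) fun b _ => by
        obtain ⟨k, rfl⟩ := mem_powers_iff_mem_zpowers.2 (hgen b)
        induction k with
        | zero => simp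
        | succ k ih =>
          beta_reduce
          rw [pow_succ', map_mul, MulAut.mul_apply,
            show g⁻¹ * φ a (φ (a ^ k) g) = (g⁻¹ * φ a g) * φ a (g⁻¹ * φ (a ^ k) g) by
              rw [map_mul, map_inv]; group]
          exact mul_mem (QuotientGroup.eq.1 hx.symm) (hNinv a _ (ih (mem_top _)))
      rw [hfpf w (hw a (mem_top a)), mul_one, inv_mem_iff] at hgw
      exact (QuotientGroup.eq_one_iff g).2 hgw

/-- The Shult–Gross Theorem: let p be an odd prime and G a finite solvable group with an automorphism σ of order p^n fixing only the identity. Then G has Fitting height at most n: G has Fitting height at most m when there is a chain of normal subgroups 1 = F₀ ≤ F₁ ≤ ⋯ ≤ F_m = G with each F_{i+1}/F_i nilpotent. -/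
theorem result {G : Type*} [Group G] [Finite G] (hG : Group.IsSolvable G) {p : ℕ} (hp : p.Prime) (hp2 : p ≠ 2) (σ : MulAut G) (n : ℕ) (hσ : orderOf σ = p ^ n) (hfpf : ∀ g : G, σ g = g → g = 1) : ∃ F : Fin (n + 1) → Subgroup G, F 0 = ⊥ ∧ F (Fin.last n) = ⊤ ∧ Monotone F ∧ (∀ i, (F i).Normal) ∧ ∀ i : Fin n, ∃ k : ℕ, (F i.succ).lowerCentralSeries k ≤ F i.castSucc := by
  have : Fact p.Prime := ⟨hp⟩
  exact (Lib.Solv.fle_iff_fin n).1 (main hp2 n G hG σ (by rw [← hσ]; exact pow_orderOf_eq_one σ) hfpf)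

end Cfsg.Agent.S3793
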