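import Cfsg.Statements.S3794
import Cfsg.Agent.Lib.Core.Fitting
import Cfsg.Agent.Lib.Core.Layer
import Cfsg.Agent.Lib.Core.Cores
import Cfsg.Agent.Lib.Solv.Nilpotent
import Mathlib.GroupTheory.FixedPointFree
import Mathlib.GroupTheory.Perm.Cycle.Type

set_option autoImplicit false
open Cfsg

namespace Cfsg.Agent.S3794

open Subgroup

universe u

/-- A fixed-point-free automorphism stays fixed-point-free on equivariant finite quotients. -/
theorem fpf_of_surjective {G H : Type*} [Group G] [Finite G] [Group H] [Finite H] (π : G →* H)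
    (hπ : Function.Surjective π) (σ : MulAut G) (hσ : ∀ g, σ g = g → g = 1) (σ' : H → H)
    (h1 : σ' 1 = 1) (hcomp : ∀ g, π (σ g) = σ' (π g)) : ∀ h, σ' h = h → h = 1 := by
  have hsurj : Function.Surjective fun g => g⁻¹ * σ g := by
    refine Finite.surjective_of_injective fun a b hab => ?_
    have h1 : b * a⁻¹ * σ a = σ b := by
      have := congrArg (fun x => b * x) hab
      simpa [mul_assoc] using this
    have h2 : σ (b * a⁻¹) = b * a⁻¹ := by
      rw [map_mul, map_inv, ← h1, mul_assoc, mul_inv_cancel, mul_one]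
    exact (mul_inv_eq_one.mp (hσ _ h2)).symm
  have hsurj' : Function.Surjective fun h => h⁻¹ * σ' h := fun y => by
    obtain ⟨g, rfl⟩ := hπ y
    obtain ⟨a, ha⟩ := hsurj g
    refine ⟨π a, ?_⟩
    simp only at ha ⊢
    rw [← hcomp, ← map_inv, ← map_mul, ha]
  have hinj := Finite.injective_iff_surjective.mpr hsurj'
  intro h hh
  exact hinj (show h⁻¹ * σ' h = (1 : H)⁻¹ * σ' 1 by rw [hh, h1]; simp)

/-- A group with a fixed-point-free automorphism of order dividing 4 has odd order. -/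
theorem odd_card {G : Type*} [Group G] [Finite G] (σ : MulAut G) (hσ4 : σ ^ 4 = 1)
    (hσ : ∀ g, σ g = g → g = 1) : Odd (Nat.card G) := by
  classical
  by_contra hodd
  rw [Nat.not_odd_iff_even, even_iff_two_dvd] at hodd
  have : Fact (Nat.Prime 2) := ⟨Nat.prime_two⟩
  obtain ⟨S⟩ : Nonempty (Sylow 2 G) := inferInstance
  have hsurj : Function.Surjective fun g => g⁻¹ * σ g := by
    refine Finite.surjective_of_injective fun a b hab => ?_
    have h1 : b * a⁻¹ * σ a = σ b := by
      have := congrArg (fun x => b * x) hab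
      simpa [mul_assoc] using this
    have h2 : σ (b * a⁻¹) = b * a⁻¹ := by
      rw [map_mul, map_inv, ← h1, mul_assoc, mul_inv_cancel, mul_one]
    exact (mul_inv_eq_one.mp (hσ _ h2)).symm
  let S' : Sylow 2 G := Sylow.ofCard ((S : Subgroup G).map σ.toMonoidHom) (by
    rw [card_map_of_injective σ.injective]; exact S.card_eq_multiplicity)
  obtain ⟨g, hg⟩ := MulAction.exists_smul_eq G S S'
  obtain ⟨a, ha⟩ := hsurj g⁻¹
  simp only at ha
  -- `T = a S a⁻¹` is invariant
  have hmem : ∀ x ∈ (S : Subgroup G), ∃ y ∈ (S : Subgroup G), σ (a * x * a⁻¹) = a * y * a⁻¹ := by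
    intro x hx
    have : σ x ∈ (S' : Subgroup G) := mem_map_of_mem _ hx
    rw [← hg] at this
    obtain ⟨y, hy, hy'⟩ := this
    refine ⟨y, hy, ?_⟩
    change g * y * g⁻¹ = σ x at hy'
    have hsa : σ a = a * g⁻¹ := by rw [← ha, mul_inv_cancel_left]
    rw [map_mul, map_mul, map_inv, hsa, ← hy']
    group
  choose! f hf1 hf2 using hmem
  let e : ↥(S : Subgroup G) → ↥(S : Subgroup G) := fun x => ⟨f x, hf1 x x.2⟩
  have he : Function.Injective e := by
    intro x y hxy
    have h : f x = f y := congrArg Subtype.val hxy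
    have := (hf2 x x.2).trans ((congrArg (fun z => a * z * a⁻¹) h).trans (hf2 y y.2).symm)
    exact Subtype.ext (mul_left_cancel (mul_right_cancel (σ.injective this)))
  let π : Equiv.Perm (S : Subgroup G) := Equiv.ofBijective e (Finite.injective_iff_bijective.mp he)
  have hrel : ∀ x : (S : Subgroup G), σ (a * (x : G) * a⁻¹) = a * ((π x : (S : Subgroup G)) : G) * a⁻¹ :=
    fun x => hf2 x x.2
  have hpow : ∀ (k : ℕ) (x : (S : Subgroup G)),
      (σ ^ k) (a * (x : G) * a⁻¹) = a * (((π ^ k) x : (S : Subgroup G)) : G) * a⁻¹ := by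
    intro k
    induction k with
    | zero => simp
    | succ k ih =>
      intro x
      rw [pow_succ, pow_succ, MulAut.mul_apply, Equiv.Perm.mul_apply, hrel, ih]
  have hπ : π ^ 2 ^ 2 = 1 := by
    refine Equiv.ext fun x => Subtype.ext ?_
    have := hpow 4 x
    rw [hσ4, MulAut.one_apply] at this
    exact (mul_left_cancel (mul_right_cancel this)).symm
  have h1 : π 1 = 1 := by
    have := hrel 1
    simp only [OneMemClass.coe_one, mul_one, mul_inv_cancel, map_one] at this
    exact Subtype.ext (conj_eq_one_iff.mp this.symm)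
  have := Fintype.ofFinite (S : Subgroup G)
  have hd : 2 ∣ Fintype.card (S : Subgroup G) := by
    rw [← Nat.card_eq_fintype_card]
    exact S.dvd_card_of_dvd_card hodd
  obtain ⟨b, hb, hb1⟩ := Equiv.Perm.exists_fixed_point_of_prime' hd hπ h1
  have := hσ _ ((hrel b).trans (by rw [hb]))
  exact hb1 (Subtype.ext (conj_eq_one_iff.mp this))

section

variable {V : Type u} [CommGroup V] [Finite V]

/-- A subgroup of odd order on which `s` induces a fixed-point-free involution is inverted. -/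
theorem inverted (A : Subgroup (MulAut V)) (s : MulAut V) (hA : ∀ a ∈ A, s * a * s⁻¹ ∈ A)
    (h2 : ∀ a ∈ A, s ^ 2 * a * (s ^ 2)⁻¹ = a) (hfpf : ∀ a ∈ A, s * a * s⁻¹ = a → a = 1) :
    (∀ a ∈ A, s * a * s⁻¹ = a⁻¹) ∧ ∀ a ∈ A, ∀ b ∈ A, a * b = b * a := by
  let φ : A →* A :=
    { toFun := fun a => ⟨s * a * s⁻¹, hA a a.2⟩
      map_one' := Subtype.ext (by simp)
      map_mul' := fun a b => Subtype.ext (by simp [mul_assoc]) }
  have hφ : MonoidHom.FixedPointFree φ := fun a ha =>
    Subtype.ext (hfpf a a.2 (congrArg Subtype.val ha))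
  have hinv : Function.Involutive φ := fun a => Subtype.ext (by
    show s * (s * (a : MulAut V) * s⁻¹) * s⁻¹ = a
    calc s * (s * (a : MulAut V) * s⁻¹) * s⁻¹ = s ^ 2 * a * (s ^ 2)⁻¹ := by rw [pow_two]; group
      _ = a := h2 a a.2)
  refine ⟨fun a ha => ?_, fun a ha b hb => ?_⟩
  · exact congrArg Subtype.val (congrFun (hφ.coe_eq_inv_of_involutive hinv) ⟨a, ha⟩)
  · exact congrArg Subtype.val (hφ.commute_all_of_involutive hinv ⟨a, ha⟩ ⟨b, hb⟩).eq

/-- The Frobenius partition argument. -/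
theorem frobenius_trivial (M : Subgroup (MulAut V)) (s : MulAut V) (hs4 : s ^ 4 = 1)
    (hs : ∀ v : V, s v = v → v = 1) (hM : ∀ m ∈ M, s * m * s⁻¹ ∈ M)
    (hfpf2 : ∀ m ∈ M, s ^ 2 * m * (s ^ 2)⁻¹ = m → m = 1)
    (hcop : (Nat.card V).Coprime (Nat.card M)) : M = ⊥ := by
  classical
  have := Fintype.ofFinite M
  have happ : ∀ (a b : MulAut V) (v : V), (a * b) v = a (b v) := fun a b v => rfl
  have hMpow : ∀ (i : ℕ), ∀ m ∈ M, s ^ i * m * (s ^ i)⁻¹ ∈ M := by
    intro i
    induction i with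
    | zero => simp
    | succ i ih =>
      intro m hm
      rw [pow_succ', show s * s ^ i * m * (s * s ^ i)⁻¹ = s * (s ^ i * m * (s ^ i)⁻¹) * s⁻¹ by group]
      exact hM _ (ih m hm)
  have hfpf : ∀ i ∈ ({1, 2, 3} : Finset ℕ), ∀ m ∈ M, s ^ i * m * (s ^ i)⁻¹ = m → m = 1 := by
    intro i hi m hm h
    refine hfpf2 m hm ?_
    simp only [Finset.mem_insert, Finset.mem_singleton] at hi
    rcases hi with rfl | rfl | rfl
    · rw [pow_one] at h
      rw [pow_two, show s * s * m * (s * s)⁻¹ = s * (s * m * s⁻¹) * s⁻¹ by group, h, h]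
    · exact h
    · have hs3 : s ^ 3 = s⁻¹ := eq_inv_of_mul_eq_one_left (by rw [← pow_succ, hs4])
      rw [hs3, inv_inv] at h
      have h' : s * m * s⁻¹ = m := by
        conv_lhs => rw [← h]
        group
      rw [pow_two, show s * s * m * (s * s)⁻¹ = s * (s * m * s⁻¹) * s⁻¹ by group, h', h']
  set T : V → V := fun u => ∏ m : M, (m : MulAut V) u with hT
  have key : ∀ i ∈ ({1, 2, 3} : Finset ℕ), ∀ v : V,
      ∏ m : M, ((m : MulAut V) * s ^ i * (m : MulAut V)⁻¹) v = T ((s ^ i) v) := by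
    intro i hi v
    let f : M → M := fun m =>
      ⟨(m : MulAut V) * (s ^ i * (m : MulAut V)⁻¹ * (s ^ i)⁻¹), mul_mem m.2 (hMpow i _ (inv_mem m.2))⟩
    have hf : Function.Bijective f := by
      refine Finite.injective_iff_bijective.mp fun a b hab => ?_
      have h : (a : MulAut V) * (s ^ i * (a : MulAut V)⁻¹ * (s ^ i)⁻¹) =
          (b : MulAut V) * (s ^ i * (b : MulAut V)⁻¹ * (s ^ i)⁻¹) := congrArg Subtype.val hab
      have h2 : s ^ i * ((b : MulAut V)⁻¹ * a)⁻¹⁻¹ * (s ^ i)⁻¹ = (b : MulAut V)⁻¹ * a := by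
        have h3 := congrArg (fun z => (b : MulAut V)⁻¹ * z * (s ^ i * (a : MulAut V) * (s ^ i)⁻¹)) h
        simpa [mul_assoc] using h3.symm
      rw [inv_inv] at h2
      exact Subtype.ext (inv_mul_eq_one.mp (hfpf i hi _ (mul_mem (inv_mem b.2) a.2) h2)).symm
    rw [hT]
    refine Fintype.prod_bijective f hf _ _ fun m => ?_
    show _ = ((m : MulAut V) * (s ^ i * (m : MulAut V)⁻¹ * (s ^ i)⁻¹)) ((s ^ i) v)
    rw [← happ]
    congr 1
    group
  refine (eq_bot_iff_forall M).mpr fun x hx => MulEquiv.ext fun v => ?_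
  have hsum : ∀ m : M, v * ((m : MulAut V) * s ^ 1 * (m : MulAut V)⁻¹) v *
      ((m : MulAut V) * s ^ 2 * (m : MulAut V)⁻¹) v * ((m : MulAut V) * s ^ 3 * (m : MulAut V)⁻¹) v = 1 := by
    intro m
    set u := (m : MulAut V)⁻¹ v with hu
    have hv : v = (m : MulAut V) u := by rw [hu, ← happ, mul_inv_cancel, MulAut.one_apply]
    have h1 : u * (s ^ 1) u * (s ^ 2) u * (s ^ 3) u = 1 := by
      refine hs _ ?_
      have h4 : s ((s ^ 3) u) = u := by rw [← happ, ← pow_succ', hs4, MulAut.one_apply]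
      rw [map_mul, map_mul, map_mul, h4, pow_one,
        show s ((s ^ 2) u) = (s ^ 3) u from rfl]
      rw [show s (s u) = (s ^ 2) u from rfl]
      exact mul_comm _ u |>.trans (by simp [mul_assoc])
    simp only [happ]
    rw [← hu, hv, ← map_mul, ← map_mul, ← map_mul, h1, map_one]
  have hprod : ∏ m : M, (v * ((m : MulAut V) * s ^ 1 * (m : MulAut V)⁻¹) v *
      ((m : MulAut V) * s ^ 2 * (m : MulAut V)⁻¹) v * ((m : MulAut V) * s ^ 3 * (m : MulAut V)⁻¹) v) = 1 :=
    Finset.prod_eq_one fun m _ => hsum m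
  rw [Finset.prod_mul_distrib, Finset.prod_mul_distrib, Finset.prod_mul_distrib, key 1 (by simp),
    key 2 (by simp), key 3 (by simp), Finset.prod_const, Finset.card_univ] at hprod
  have hTm : ∀ a b, T (a * b) = T a * T b := fun a b => by
    simp only [hT, map_mul, Finset.prod_mul_distrib]
  have h123 : (s ^ 1) v * (s ^ 2) v * (s ^ 3) v = v⁻¹ := by
    refine eq_inv_of_mul_eq_one_right ?_
    have := hsum ⟨1, one_mem M⟩
    simpa [mul_assoc] using this
  rw [mul_assoc, mul_assoc, ← mul_assoc (T _), ← hTm, ← hTm, h123] at hprod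
  have hTinv : T v⁻¹ = (T v)⁻¹ := by simp [hT]
  rw [hTinv, mul_inv_eq_one] at hprod
  have hTfix : x (T v) = T v := by
    rw [hT, map_prod]
    exact Fintype.prod_equiv (Equiv.mulLeft (⟨x, hx⟩ : M)) _ _ fun m => rfl
  rw [← hprod, map_pow] at hTfix
  rw [Nat.card_eq_fintype_card (α := M)] at hcop
  exact (powCoprime hcop).injective hTfix

variable (H : Subgroup (MulAut V)) (s : MulAut V)

/-- The main step: a faithful group with fixed-point-free `s` is abelian. -/
theorem abelian (hsol : Group.IsSolvable H) (hs4 : s ^ 4 = 1) (hs : ∀ v : V, s v = v → v = 1)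
    (hH : ∀ h ∈ H, s * h * s⁻¹ ∈ H) (hfpf : ∀ h ∈ H, s * h * s⁻¹ = h → h = 1)
    (hodd : Odd (Nat.card H)) (hVodd : Odd (Nat.card V))
    (hF : (Nat.card V).Coprime (Nat.card (Cfsg.fittingSubgroup H))) :
    ∀ a ∈ H, ∀ b ∈ H, a * b = b * a := by
  classical
  have happ : ∀ (a b : MulAut V) (v : V), (a * b) v = a (b v) := fun a b v => rfl
  set t := s ^ 2 with ht
  have htt : t * t = 1 := by rw [ht, ← pow_add, hs4]
  have hH2 : ∀ h ∈ H, t * h * t⁻¹ ∈ H := fun h hh => by
    rw [ht, pow_two, show s * s * h * (s * s)⁻¹ = s * (s * h * s⁻¹) * s⁻¹ by group]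
    exact hH _ (hH h hh)
  have hno2 : ∀ h ∈ H, h * h = 1 → h = 1 := fun h hh h2 => by
    by_contra hne
    have ho : orderOf (⟨h, hh⟩ : H) = 2 :=
      orderOf_eq_prime (by rw [pow_two]; exact Subtype.ext h2) fun e => hne (congrArg Subtype.val e)
    exact (Nat.not_even_iff_odd.mpr hodd) (even_iff_two_dvd.mpr (ho ▸ orderOf_dvd_natCard _))
  -- the centralizer of `t` in `H` is inverted by `s`
  set C : Subgroup (MulAut V) := H ⊓ centralizer ({t} : Set (MulAut V)) with hC
  have hCmem : ∀ c, c ∈ C ↔ c ∈ H ∧ t * c * t⁻¹ = c := fun c => by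
    rw [hC, mem_inf, mem_centralizer_singleton_iff, mul_inv_eq_iff_eq_mul]
    exact and_congr_right fun _ => eq_comm
  have hCinv := inverted C s
    (fun c hc => by
      obtain ⟨h1, h2⟩ := (hCmem c).mp hc
      refine (hCmem _).mpr ⟨hH c h1, ?_⟩
      calc t * (s * c * s⁻¹) * t⁻¹ = s * (t * c * t⁻¹) * s⁻¹ := by rw [ht]; group
        _ = _ := by rw [h2])
    (fun c hc => ((hCmem c).mp hc).2) (fun c hc => hfpf c ((hCmem c).mp hc).1)
  -- `C` is trivial on the fixed points of `t`
  have hVp : ∀ c ∈ C, ∀ v : V, t v = v → c v = v := by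
    intro c hc v hv
    have hsv : ∀ w : V, t w = w → s w = w⁻¹ := fun w hw => by
      refine eq_inv_of_mul_eq_one_left (hs _ ?_)
      rw [map_mul, show s (s w) = t w from rfl, hw, mul_comm]
    have hcv : ∀ d ∈ C, t (d v) = d v := fun d hd => by
      obtain ⟨-, h2⟩ := (hCmem d).mp hd
      rw [← happ, mul_inv_eq_iff_eq_mul.mp h2, happ, hv]
    have h1 : c⁻¹ v = c v := by
      rw [← hCinv.1 c hc, happ, happ]
      have h2 : s⁻¹ v = v⁻¹ := by
        apply s.injective
        rw [← happ, mul_inv_cancel, MulAut.one_apply, map_inv, hsv v hv, inv_inv]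
      rw [h2, map_inv, map_inv, hsv _ (hcv c hc), inv_inv]
    have h2 : (c * c) v = v := by
      rw [happ, ← h1, ← happ, mul_inv_cancel, MulAut.one_apply]
    obtain ⟨k, hk⟩ : Odd (orderOf (⟨c, ((hCmem c).mp hc).1⟩ : H)) :=
      hodd.of_dvd_nat (orderOf_dvd_natCard _)
    have h3 : c ^ (2 * k + 1) = 1 := by
      rw [← hk]; exact congrArg Subtype.val (pow_orderOf_eq_one (⟨c, ((hCmem c).mp hc).1⟩ : H))
    have h4 : ∀ j, ((c * c) ^ j) v = v := fun j => by
      induction j with
      | zero => simp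
      | succ j ih => rw [pow_succ, happ, h2, ih]
    calc c v = c (((c * c) ^ k) v) := by rw [h4]
      _ = (c ^ (2 * k + 1)) v := by rw [← happ, ← pow_two, ← pow_mul, ← pow_succ']
      _ = v := by rw [h3, MulAut.one_apply]
  -- the Fitting subgroup
  set Q := (Cfsg.fittingSubgroup H).map H.subtype with hQ
  have hQH : Q ≤ H := map_subtype_le _
  have hQcard : (Nat.card V).Coprime (Nat.card Q) := by
    rw [hQ, card_map_of_injective H.subtype_injective]; exact hF
  have hQs : ∀ q ∈ Q, s * q * s⁻¹ ∈ Q := by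
    rintro _ ⟨q, hq, rfl⟩
    let e : H ≃* H := MulEquiv.ofBijective
      ({ toFun := fun a => ⟨s * a * s⁻¹, hH a a.2⟩
         map_one' := Subtype.ext (by simp)
         map_mul' := fun a b => Subtype.ext (by simp [mul_assoc]) } : H →* H)
      (Finite.injective_iff_bijective.mp fun a b hab => by
        have : s * (a : MulAut V) * s⁻¹ = s * b * s⁻¹ := congrArg Subtype.val hab
        exact Subtype.ext (mul_left_cancel (mul_right_cancel this)))
    have := Lib.Core.map_fittingSubgroup_equiv e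
    exact ⟨e q, this ▸ mem_map_of_mem _ hq, rfl⟩
  have hQt : ∀ q ∈ Q, t * q * t⁻¹ ∈ Q := fun q hq => by
    rw [ht, pow_two, show s * s * q * (s * s)⁻¹ = s * (s * q * s⁻¹) * s⁻¹ by group]
    exact hQs _ (hQs q hq)
  have hQnil : Group.IsNilpotent Q :=
    Lib.Core.isNilpotent_map (Lib.Core.fittingSubgroup_isNilpotent H) _
  set R : Subgroup (MulAut V) := (center Q).map Q.subtype with hR
  have hRmem : ∀ r ∈ R, r ∈ Q ∧ ∀ q ∈ Q, q * r = r * q := by
    rintro _ ⟨r, hr, rfl⟩
    exact ⟨r.2, fun q hq => congrArg Subtype.val (mem_center_iff.mp hr ⟨q, hq⟩)⟩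
  have hRQ : R ≤ Q := map_subtype_le _
  have hRt : ∀ r ∈ R, t * r * t⁻¹ = r := by
    -- the commutators of `R` with `t` form a subgroup inverted by `t`
    have hRs : ∀ r ∈ R, s * r * s⁻¹ ∈ R := by
      intro r hr
      refine ⟨⟨_, hQs r (hRQ hr)⟩, mem_center_iff.mpr fun q => Subtype.ext ?_, rfl⟩
      have hq' : s⁻¹ * (q : MulAut V) * s ∈ Q := by
        have h3 : s ^ 3 = s⁻¹ := eq_inv_of_mul_eq_one_left (by rw [← pow_succ, hs4])
        have := hQs _ (hQs _ (hQs _ q.2))
        rw [show s * (s * (s * (q : MulAut V) * s⁻¹) * s⁻¹) * s⁻¹ = s ^ 3 * q * (s ^ 3)⁻¹ by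
          simp [pow_succ, mul_assoc], h3, inv_inv] at this
        exact this
      have := congrArg (fun z => s * z * s⁻¹) ((hRmem r hr).2 _ hq')
      simpa [mul_assoc] using this
    have hRt' : ∀ r ∈ R, t * r * t⁻¹ ∈ R := fun r hr => by
      rw [ht, pow_two, show s * s * r * (s * s)⁻¹ = s * (s * r * s⁻¹) * s⁻¹ by group]
      exact hRs _ (hRs r hr)
    have hRc : ∀ a ∈ R, ∀ b ∈ R, a * b = b * a := fun a ha b hb => ((hRmem b hb).2 a (hRQ ha))
    let M : Subgroup (MulAut V) :=
      { carrier := {m | ∃ r ∈ R, m = r⁻¹ * (t * r * t⁻¹)}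
        one_mem' := ⟨1, one_mem R, by simp⟩
        mul_mem' := by
          rintro _ _ ⟨a, ha, rfl⟩ ⟨b, hb, rfl⟩
          refine ⟨a * b, mul_mem ha hb, ?_⟩
          have hc := hRc b⁻¹ (inv_mem hb) (a⁻¹ * (t * a * t⁻¹)) (mul_mem (inv_mem ha) (hRt' a ha))
          rw [show (a * b)⁻¹ * (t * (a * b) * t⁻¹) = b⁻¹ * (a⁻¹ * (t * a * t⁻¹)) * (t * b * t⁻¹) by group,
            hc]
          group
        inv_mem' := by
          rintro _ ⟨a, ha, rfl⟩
          refine ⟨a⁻¹, inv_mem ha, ?_⟩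
          rw [mul_inv_rev, inv_inv, hRc _ (inv_mem (hRt' a ha)) a ha]
          group }
    have hMR : M ≤ R := by
      rintro _ ⟨a, ha, rfl⟩; exact mul_mem (inv_mem ha) (hRt' a ha)
    have hMinv : ∀ m ∈ M, t * m * t⁻¹ = m⁻¹ := by
      rintro _ ⟨a, ha, rfl⟩
      have e : t * (t * a * t⁻¹) * t⁻¹ = a := by
        calc t * (t * a * t⁻¹) * t⁻¹ = (t * t) * a * (t * t)⁻¹ := by group
          _ = a := by rw [htt]; simp
      rw [show t * (a⁻¹ * (t * a * t⁻¹)) * t⁻¹ = (t * a * t⁻¹)⁻¹ * (t * (t * a * t⁻¹) * t⁻¹) by group, e]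
      group
    have hMbot := frobenius_trivial M s hs4 hs
      (by
        rintro _ ⟨a, ha, rfl⟩
        exact ⟨s * a * s⁻¹, hRs a ha, by rw [ht]; group⟩)
      (fun m hm h => hno2 m (hQH (hRQ (hMR hm))) (by
        rw [← ht, hMinv m hm] at h
        exact inv_eq_iff_mul_eq_one.mp h))
      (hQcard.coprime_dvd_right (card_dvd_of_le (hMR.trans hRQ)))
    intro r hr
    have : r⁻¹ * (t * r * t⁻¹) ∈ M := ⟨r, hr, rfl⟩
    rw [hMbot, mem_bot] at this
    exact (inv_mul_eq_one.mp this).symm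
  have hQtriv : ∀ q ∈ Q, t * q * t⁻¹ = q := by
    set K : Subgroup Q := closure {k : Q | ∃ y ∈ Q, (k : MulAut V) = y⁻¹ * (t * y * t⁻¹)} with hK
    have hKn : K.Normal := by
      refine ⟨fun k hk q => ?_⟩
      induction hk using closure_induction with
      | mem x hx =>
        obtain ⟨y, hy, hxy⟩ := hx
        let g : Q → Q := fun z => ⟨(z : MulAut V)⁻¹ * (t * z * t⁻¹), mul_mem (inv_mem z.2) (hQt z z.2)⟩
        have hg : ∀ z, g z ∈ K := fun z => subset_closure ⟨z, z.2, rfl⟩
        have : q * x * q⁻¹ = g (⟨y, hy⟩ * q⁻¹) * (g q⁻¹)⁻¹ := by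
          apply Subtype.ext
          simp only [g, coe_mul, InvMemClass.coe_inv, hxy]
          group
        rw [this]
        exact mul_mem (hg _) (inv_mem (hg _))
      | one => simp
      | mul x y _ _ hx hy =>
        rw [show q * (x * y) * q⁻¹ = q * x * q⁻¹ * (q * y * q⁻¹) by group]; exact mul_mem hx hy
      | inv x _ hx =>
        rw [show q * x⁻¹ * q⁻¹ = (q * x * q⁻¹)⁻¹ by group]; exact inv_mem hx
    by_contra hne
    push Not at hne
    obtain ⟨y, hy, hyne⟩ := hne
    have hKne : K ≠ ⊥ := fun h => hyne (by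
      have : (⟨y⁻¹ * (t * y * t⁻¹), mul_mem (inv_mem hy) (hQt y hy)⟩ : Q) ∈ K :=
        subset_closure ⟨y, hy, rfl⟩
      rw [h, mem_bot] at this
      exact (inv_mul_eq_one.mp (congrArg Subtype.val this)).symm)
    obtain ⟨x, hx⟩ := ne_bot_iff_exists_ne_one.mp
      (Lib.Solv.inf_center_ne_bot_of_isNilpotent (G := Q) hKne)
    obtain ⟨hxK, hxZ⟩ := mem_inf.mp x.2
    have hxR : ((x : Q) : MulAut V) ∈ R := mem_map_of_mem _ hxZ
    refine hx (Subtype.ext (Subtype.ext (MulEquiv.ext fun v => ?_)))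
    -- `K` fixes every commutator of `R` on `V`
    have hd : ∀ r ∈ R, ∀ w : V, t (r w * w⁻¹) = (r w * w⁻¹)⁻¹ := by
      intro r hr w
      have hrC : r ∈ C := (hCmem r).mpr ⟨hQH (hRQ hr), hRt r hr⟩
      have h1 : r (w * t w) = w * t w := hVp r hrC _ (by
        rw [map_mul, ← happ, htt, MulAut.one_apply, mul_comm])
      have h2 : t (r w) = r (t w) := by rw [← happ, mul_inv_eq_iff_eq_mul.mp (hRt r hr), happ]
      rw [map_mul] at h1
      rw [map_mul, map_inv, h2]
      refine eq_inv_of_mul_eq_one_left ?_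
      calc r (t w) * (t w)⁻¹ * (r w * w⁻¹) = (r w * r (t w)) * (w * t w)⁻¹ := by
            rw [mul_inv, mul_mul_mul_comm, mul_comm (r (t w)), mul_comm (t w)⁻¹]
        _ = 1 := by rw [h1, mul_inv_cancel]
    have hKfix : ∀ k ∈ K, ∀ r ∈ R, ∀ w : V, (k : MulAut V) (r w * w⁻¹) = r w * w⁻¹ := by
      intro k hk
      induction hk using closure_induction with
      | mem k hk =>
        obtain ⟨y, hy, hky⟩ := hk
        intro r hr w
        set d := r w * w⁻¹ with hdd
        have h1 : t (y d) = (y d)⁻¹ := by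
          rw [hdd, map_mul, map_inv, ← happ, (hRmem r hr).2 y hy, happ]
          exact hd r hr (y w)
        rw [hky, happ, happ, happ]
        have ht' : t⁻¹ = t := inv_eq_of_mul_eq_one_right htt
        rw [ht', hd r hr w, map_inv, map_inv, h1, inv_inv, ← happ, inv_mul_cancel, MulAut.one_apply]
      | one => intro r _ w; simp
      | mul a b _ _ ha hb => intro r hr w; rw [coe_mul, happ, hb r hr w, ha r hr w]
      | inv a _ ha =>
        intro r hr w
        conv_lhs => rw [← ha r hr w, ← happ, InvMemClass.coe_inv, inv_mul_cancel, MulAut.one_apply]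
    set X : MulAut V := ((x : Q) : MulAut V) with hX
    set d := X v * v⁻¹ with hdd
    have hfix : X d = d := hKfix _ hxK X hxR v
    have hn : ∀ n : ℕ, (X ^ n) v = v * d ^ n := by
      intro n
      induction n with
      | zero => simp
      | succ n ih =>
        rw [pow_succ', happ, ih, map_mul, map_pow, hfix, pow_succ',
          show X v = v * d by rw [hdd, mul_comm, inv_mul_cancel_right], mul_assoc]
    have h1 := hn (Nat.card Q)
    have h2 : X ^ Nat.card Q = 1 := by
      rw [hX, ← SubmonoidClass.coe_pow, pow_card_eq_one', OneMemClass.coe_one]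
    rw [h2, MulAut.one_apply, left_eq_mul] at h1
    have h3 : d = 1 := (powCoprime hQcard).injective (show d ^ Nat.card Q = 1 ^ Nat.card Q by rw [h1, one_pow])
    rw [hdd, mul_inv_eq_one] at h3
    exact h3
  -- `t` centralizes `H`
  have htH : ∀ h ∈ H, t * h * t⁻¹ = h := by
    intro h hh
    set k := h⁻¹ * (t * h * t⁻¹) with hk
    have hkH : k ∈ H := mul_mem (inv_mem hh) (hH2 h hh)
    have hcQ : ∀ f ∈ Q, f * k = k * f := by
      intro f hf
      have hf' : h * f * h⁻¹ ∈ Q := by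
        obtain ⟨f₀, hf₀, rfl⟩ := hf
        exact ⟨⟨h, hh⟩ * f₀ * ⟨h, hh⟩⁻¹,
          (Lib.Core.fittingSubgroup_normal' H).conj_mem f₀ hf₀ _, rfl⟩
      have h1 := hQtriv f hf
      have h2 := hQtriv _ hf'
      have e : t * (h * f * h⁻¹) * t⁻¹ = (t * h * t⁻¹) * (t * f * t⁻¹) * (t * h * t⁻¹)⁻¹ := by group
      rw [h2, h1] at e
      have := congrArg (fun z => h⁻¹ * z * (t * h * t⁻¹)) e
      simpa [hk, mul_assoc] using this
    have hkF : k ∈ Q := by
      refine ⟨⟨k, hkH⟩, ?_, rfl⟩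
      have hcen := Lib.Core.centralizer_fitting_le_of_isSolvable (G := H)
      refine hcen (mem_centralizer_iff.mpr fun f hf => Subtype.ext ?_)
      exact hcQ f (mem_map_of_mem _ hf)
    have h1 := hQtriv k hkF
    have e : t * (t * h * t⁻¹) * t⁻¹ = h := by
      calc t * (t * h * t⁻¹) * t⁻¹ = (t * t) * h * (t * t)⁻¹ := by group
        _ = h := by rw [htt]; simp
    have h2 : t * k * t⁻¹ = k⁻¹ := by
      rw [hk, show t * (h⁻¹ * (t * h * t⁻¹)) * t⁻¹ = (t * h * t⁻¹)⁻¹ * (t * (t * h * t⁻¹) * t⁻¹) by group, e]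
      group
    have h3 : k = 1 := hno2 k hkH (inv_eq_iff_mul_eq_one.mp (h2.symm.trans h1))
    exact (inv_mul_eq_one.mp h3).symm
  exact (inverted H s hH htH hfpf).2

end

/-- Every σ-invariant nontrivial normal subgroup contains a minimal one. -/
theorem exists_minimal {G : Type u} [Group G] [Finite G] [Nontrivial G] (σ : MulAut G) :
    ∃ N : Subgroup G, (N.Normal ∧ N.map σ.toMonoidHom = N ∧ N ≠ ⊥) ∧
      ∀ M : Subgroup G, M.Normal → M.map σ.toMonoidHom = M → M ≤ N → M = ⊥ ∨ M = N := by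
  obtain ⟨N, hN, hmin⟩ := (Set.toFinite
    {N : Subgroup G | N.Normal ∧ N.map σ.toMonoidHom = N ∧ N ≠ ⊥}).exists_minimal
    ⟨⊤, inferInstance, map_top_of_surjective _ σ.surjective, top_ne_bot⟩
  exact ⟨N, hN, fun M h1 h2 h3 => or_iff_not_imp_left.mpr fun h4 =>
    le_antisymm h3 (hmin ⟨h1, h2, h4⟩ h3)⟩

theorem main : ∀ (n : ℕ) (G : Type u) [Group G] [Finite G], Nat.card G = n → Group.IsSolvable G →
    ∀ σ : MulAut G, σ ^ 4 = 1 → (∀ g, σ g = g → g = 1) → Group.IsNilpotent (commutator G) := by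
  intro n
  induction n using Nat.strong_induction_on with
  | _ n ih =>
  intro G _ _ hn hsol σ hσ4 hσ
  subst hn
  cases subsingleton_or_nontrivial G
  · infer_instance
  obtain ⟨N, ⟨hNn, hNσ, hNne⟩, hmin⟩ := exists_minimal σ
  have hodd := odd_card σ hσ4 hσ
  -- `N` is abelian
  have hchar : ∀ (f : Subgroup G → Subgroup G), (∀ e : MulAut G, ∀ S, (f S).map e.toMonoidHom = f (S.map e.toMonoidHom)) →
      ∀ S : Subgroup G, S.Normal → S.map σ.toMonoidHom = S → (f S).Normal ∧ (f S).map σ.toMonoidHom = f S := by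
    intro f hf S hS hSσ
    refine ⟨⟨fun x hx g => ?_⟩, by rw [hf, hSσ]⟩
    have h := hf (MulAut.conj g) S
    have hSg : S.map (MulAut.conj g).toMonoidHom = S := by
      ext y
      simp only [mem_map, MulEquiv.coe_toMonoidHom, MulAut.conj_apply]
      exact ⟨fun ⟨z, hz, e⟩ => e ▸ hS.conj_mem z hz g,
        fun hy => ⟨g⁻¹ * y * g, by simpa using hS.conj_mem y hy g⁻¹, by group⟩⟩
    rw [hSg] at h
    rw [← h]
    exact ⟨x, hx, rfl⟩
  have hab : ∀ a ∈ N, ∀ b ∈ N, a * b = b * a := by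
    obtain ⟨h1, h2⟩ := hchar (fun S => ⁅S, S⁆) (fun e S => map_commutator S S e.toMonoidHom) N hNn hNσ
    rcases hmin _ h1 h2 (commutator_le_left N N) with h | h
    · intro a ha b hb
      have := commutator_eq_bot_iff_le_centralizer.mp h ha
      exact (mem_centralizer_iff.mp this b hb).symm
    · exfalso
      have hNs : Group.IsSolvable N := inferInstance
      exact hNne (by
        have hlt : ⁅N, N⁆ < N := by
          have : Nontrivial N := (nontrivial_iff_ne_bot N).mpr hNne
          have hne := Group.IsSolvable.commutator_lt_top_of_nontrivial N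
          rw [← map_subtype_commutator N]
          refine lt_of_le_of_ne (map_subtype_le _) fun e => hne.ne ?_
          apply map_injective N.subtype_injective
          rw [e, ← MonoidHom.range_eq_map, range_subtype]
        exact absurd h hlt.ne)
  letI hNc : CommGroup N := { (inferInstance : Group N) with
    mul_comm := fun a b => Subtype.ext (hab a a.2 b b.2) }
  -- `N` is a `p`-group
  obtain ⟨p, hp, hpN⟩ := Nat.exists_prime_and_dvd (n := Nat.card N)
    (fun h => hNne (card_eq_one.mp h))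
  have : Fact p.Prime := ⟨hp⟩
  have hexp : ∀ x ∈ N, x ^ p = 1 := by
    let Ω : Subgroup G :=
      { carrier := {x | x ∈ N ∧ x ^ p = 1}
        one_mem' := ⟨one_mem N, one_pow p⟩
        mul_mem' := fun {a b} ha hb => ⟨mul_mem ha.1 hb.1, by
          rw [(show Commute a b from hab a ha.1 b hb.1).mul_pow, ha.2, hb.2, one_mul]⟩
        inv_mem' := fun {a} ha => ⟨inv_mem ha.1, by rw [inv_pow, ha.2, inv_one]⟩ }
    have h1 : Ω.Normal := ⟨fun x hx g => ⟨hNn.conj_mem x hx.1 g, by rw [conj_pow, hx.2]; group⟩⟩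
    have h2 : Ω.map σ.toMonoidHom = Ω := by
      refine eq_of_le_of_card_ge ?_ (card_map_of_injective σ.injective).ge
      rintro _ ⟨x, hx, rfl⟩
      refine ⟨hNσ.le ⟨x, hx.1, rfl⟩, ?_⟩
      show σ x ^ p = 1
      rw [← map_pow, hx.2, map_one]
    rcases hmin Ω h1 h2 (fun x hx => hx.1) with h | h
    · obtain ⟨x, hx⟩ := exists_prime_orderOf_dvd_card' (G := N) p hpN
      have hx1 : (x : G) ∈ Ω := ⟨x.2, by
        rw [← hx, ← orderOf_coe, pow_orderOf_eq_one]⟩
      rw [h, mem_bot] at hx1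
      rw [← orderOf_coe, hx1, orderOf_one] at hx
      exact absurd hx.symm hp.ne_one
    · exact fun x hx => (h ▸ hx : x ∈ Ω).2
  have hNp : IsPGroup p N := fun x => ⟨1, Subtype.ext (by simpa using hexp x x.2)⟩
  -- the action on `N`
  let π : G →* MulAut N := MulAut.conjNormal
  let s : MulAut N :=
    MulEquiv.ofBijective ((σ.toMonoidHom.comp N.subtype).codRestrict N
        fun x => hNσ.le ⟨x, x.2, rfl⟩)
      (Finite.injective_iff_bijective.mp fun a b hab => Subtype.ext (σ.injective (congrArg Subtype.val hab)))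
  have hsval : ∀ x : N, ((s x : N) : G) = σ x := fun x => rfl
  have hspow : ∀ (k : ℕ) (x : N), (((s ^ k) x : N) : G) = (σ ^ k) (x : G) := by
    intro k
    induction k with
    | zero => simp
    | succ k ih => intro x; rw [pow_succ', pow_succ', MulAut.mul_apply, MulAut.mul_apply, hsval, ih]
  have hs4 : s ^ 4 = 1 := MulEquiv.ext fun x => Subtype.ext (by rw [hspow, hσ4]; rfl)
  have hcomm : ∀ g, π (σ g) = s * π g * s⁻¹ := by
    intro g
    refine eq_mul_inv_iff_mul_eq.mpr (MulEquiv.ext fun x => Subtype.ext ?_)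
    rw [MulAut.mul_apply, MulAut.mul_apply, MulAut.conjNormal_apply, hsval, hsval,
      MulAut.conjNormal_apply, map_mul, map_mul, map_inv]
  set H := π.range with hH
  have hHmem : ∀ h ∈ H, s * h * s⁻¹ ∈ H := by
    rintro _ ⟨g, rfl⟩; exact ⟨σ g, hcomm g⟩
  have hfpfH : ∀ h ∈ H, s * h * s⁻¹ = h → h = 1 := fun h hh e => by
    have := fpf_of_surjective π.rangeRestrict π.rangeRestrict_surjective σ hσ
      (fun z => ⟨s * z * s⁻¹, hHmem z z.2⟩) (Subtype.ext (by simp)) (fun g => Subtype.ext (hcomm g))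
      ⟨h, hh⟩ (Subtype.ext e)
    exact congrArg Subtype.val this
  have hHodd : Odd (Nat.card H) := hodd.of_dvd_nat (card_range_dvd π)
  have hHsol : Group.IsSolvable H := solvable_of_surjective π.rangeRestrict_surjective
  -- `O_p(H)` is trivial
  have hOp : Cfsg.pCore p H = ⊥ := by
    set O := (Cfsg.pCore p H).map H.subtype with hO
    have hOp : IsPGroup p O := (Lib.Core.pCore_isPGroup p H).map _
    let W : Subgroup G :=
      { carrier := {x | ∃ hx : x ∈ N, ∀ o ∈ O, o ⟨x, hx⟩ = ⟨x, hx⟩}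
        one_mem' := ⟨one_mem N, fun o _ => map_one o⟩
        mul_mem' := fun {a b} ha hb => ⟨mul_mem ha.1 hb.1, fun o ho => by
          show o (⟨a, ha.1⟩ * ⟨b, hb.1⟩) = _
          rw [map_mul, ha.2 o ho, hb.2 o ho]; rfl⟩
        inv_mem' := fun {a} ha => ⟨inv_mem ha.1, fun o ho => by
          show o (⟨a, ha.1⟩⁻¹) = _
          rw [map_inv, ha.2 o ho]; rfl⟩ }
    have hOn : ∀ g : G, ∀ o ∈ O, (π g)⁻¹ * o * π g ∈ O := by
      rintro g _ ⟨o, ho, rfl⟩
      refine ⟨⟨π g, g, rfl⟩⁻¹ * o * ⟨π g, g, rfl⟩, ?_, rfl⟩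
      have hn : (Cfsg.pCore p H).Normal := inferInstance
      simpa using hn.conj_mem o ho ⟨π g, g, rfl⟩⁻¹
    have hOs : ∀ o ∈ O, s⁻¹ * o * s ∈ O := by
      rintro _ ⟨o, ho, rfl⟩
      let e : H ≃* H := MulEquiv.ofBijective
        ({ toFun := fun a => ⟨s * a * s⁻¹, hHmem a a.2⟩
           map_one' := Subtype.ext (by simp)
           map_mul' := fun a b => Subtype.ext (by simp [mul_assoc]) } : H →* H)
        (Finite.injective_iff_bijective.mp fun a b hab => by
          have : s * (a : MulAut N) * s⁻¹ = s * b * s⁻¹ := congrArg Subtype.val hab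
          exact Subtype.ext (mul_left_cancel (mul_right_cancel this)))
      have h := Lib.Core.map_pCore_equiv (p := p) e
      obtain ⟨o', ho', heq⟩ := mem_map.mp (h.ge ho)
      refine ⟨o', ho', ?_⟩
      rw [← heq]
      show (o' : MulAut N) = s⁻¹ * (s * (o' : MulAut N) * s⁻¹) * s
      group
    have h1 : W.Normal := by
      refine ⟨fun x hx g => ⟨hNn.conj_mem x hx.1 g, fun o ho => ?_⟩⟩
      have h2 := hx.2 _ (hOn g o ho)
      have e : π g ⟨x, hx.1⟩ = ⟨g * x * g⁻¹, hNn.conj_mem x hx.1 g⟩ :=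
        Subtype.ext (MulAut.conjNormal_apply g _)
      rw [← e]
      conv_rhs => rw [← h2]
      rw [← MulAut.mul_apply, ← MulAut.mul_apply, ← mul_assoc, ← mul_assoc, mul_inv_cancel, one_mul]
    have h2 : W.map σ.toMonoidHom = W := by
      refine eq_of_le_of_card_ge ?_ (card_map_of_injective σ.injective).ge
      rintro _ ⟨x, hx, rfl⟩
      refine ⟨hNσ.le ⟨x, hx.1, rfl⟩, fun o ho => ?_⟩
      have h3 := hx.2 _ (hOs o ho)
      show o (s ⟨x, hx.1⟩) = s ⟨x, hx.1⟩
      conv_rhs => rw [← h3]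
      rw [← MulAut.mul_apply, ← MulAut.mul_apply, ← mul_assoc, ← mul_assoc, mul_inv_cancel, one_mul]
    rcases hmin W h1 h2 (fun x hx => hx.1) with hW | hW
    · exfalso
      have hfix := hOp.exists_fixed_point_of_prime_dvd_card_of_fixed_point (N : Type u) hpN
        (a := (1 : N)) (fun o => map_one (o : MulAut N))
      obtain ⟨b, hb, hb1⟩ := hfix
      have : (b : G) ∈ W := ⟨b.2, fun o ho => hb ⟨o, ho⟩⟩
      rw [hW, mem_bot] at this
      exact hb1 (Subtype.ext this.symm)
    · apply map_injective H.subtype_injective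
      rw [← hO, Subgroup.map_bot]
      refine (eq_bot_iff_forall O).mpr fun o ho => MulEquiv.ext fun x => ?_
      have hx : (x : G) ∈ W := hW.ge x.2
      exact hx.2 o ho
  have hFcop : (Nat.card N).Coprime (Nat.card (Cfsg.fittingSubgroup H)) := by
    obtain ⟨m, hm⟩ := IsPGroup.iff_card.mp hNp
    rw [hm]
    refine Nat.Coprime.pow_left m (hp.coprime_iff_not_dvd.mpr fun hd => ?_)
    have hnil := Lib.Core.fittingSubgroup_isNilpotent H
    obtain ⟨x, hx⟩ := exists_prime_orderOf_dvd_card' (G := Cfsg.fittingSubgroup H) p hd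
    obtain ⟨P, hP⟩ := (IsPGroup.of_card (n := 1) (by rw [Nat.card_zpowers, hx, pow_one]) :
      IsPGroup p (zpowers x)).exists_le_sylow
    have hPn : (P : Subgroup (Cfsg.fittingSubgroup H)).Normal :=
      P.normal_of_normalizerCondition (Group.normalizerCondition_of_isNilpotent)
    have hchar := P.characteristic_of_normal hPn
    have hn : ((P : Subgroup (Cfsg.fittingSubgroup H)).map (Cfsg.fittingSubgroup H).subtype).Normal :=
      inferInstance
    have hle := Lib.Core.le_pCore' hn (P.2.map _)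
    rw [hOp, le_bot_iff, Subgroup.map_eq_bot_iff_of_injective _ (subtype_injective _)] at hle
    have : x ∈ (P : Subgroup (Cfsg.fittingSubgroup H)) := hP (mem_zpowers x)
    rw [hle, mem_bot] at this
    rw [this, orderOf_one] at hx
    exact hp.ne_one hx.symm
  have hsfpf : ∀ v : N, s v = v → v = 1 := fun v hv =>
    Subtype.ext (hσ v (by rw [← hsval, hv]))
  have hHab := abelian H s hHsol hs4 hsfpf hHmem hfpfH hHodd
    (hodd.of_dvd_nat (card_subgroup_dvd_card N)) hFcop
  have hcent : ∀ c ∈ commutator G, π c = 1 := by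
    have : commutator G ≤ π.ker := by
      rw [_root_.commutator_def, commutator_le]
      intro a _ b _
      rw [MonoidHom.mem_ker, map_commutatorElement, commutatorElement_eq_one_iff_mul_comm]
      exact hHab _ ⟨a, rfl⟩ _ ⟨b, rfl⟩
    exact fun c hc => this hc
  -- induction
  let σ' : MulAut (G ⧸ N) := QuotientGroup.congr N N σ hNσ
  have hσ'v : ∀ g : G, (σ g : G ⧸ N) = σ' g := fun g => rfl
  have hσ'pow : ∀ (k : ℕ) (g : G), (σ' ^ k) (g : G ⧸ N) = ((σ ^ k) g : G) := by
    intro k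
    induction k with
    | zero => simp
    | succ k ih => intro g; rw [pow_succ', pow_succ', MulAut.mul_apply, MulAut.mul_apply, ih, hσ'v]
  have hlt : Nat.card (G ⧸ N) < Nat.card G := by
    rw [← Subgroup.index_eq_card, ← N.card_mul_index]
    exact lt_mul_of_one_lt_left (Nat.pos_of_ne_zero index_ne_zero_of_finite)
      (N.one_lt_card_iff_ne_bot.mpr hNne)
  have hrec := ih _ hlt (G ⧸ N) rfl
    (solvable_of_surjective (QuotientGroup.mk'_surjective N)) σ'
    (MulEquiv.ext fun x => by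
      obtain ⟨g, rfl⟩ := QuotientGroup.mk'_surjective N x
      rw [QuotientGroup.mk'_apply, hσ'pow, hσ4]; rfl)
    (fpf_of_surjective (QuotientGroup.mk' N) (QuotientGroup.mk'_surjective N) σ hσ σ' (map_one σ') hσ'v)
  let f : commutator G →* commutator (G ⧸ N) :=
    ((QuotientGroup.mk' N).comp (commutator G).subtype).codRestrict _ fun c => by
      have h : (commutator G).map (QuotientGroup.mk' N) = commutator (G ⧸ N) := by
        rw [_root_.commutator_def, map_commutator,
          map_top_of_surjective _ (QuotientGroup.mk'_surjective N), ← _root_.commutator_def]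
      exact h.le (mem_map_of_mem _ c.2)
  have := hrec
  refine Subgroup.isNilpotent_of_ker_le_center f (fun c hc => mem_center_iff.mpr fun d => ?_)
  have hcN : (c : G) ∈ N := (QuotientGroup.eq_one_iff _).mp (congrArg Subtype.val hc)
  apply Subtype.ext
  have := congrArg Subtype.val (DFunLike.congr_fun (hcent d d.2) (⟨c, hcN⟩ : N))
  rw [MulAut.conjNormal_apply, MulAut.one_apply] at this
  exact mul_inv_eq_iff_eq_mul.mp this

/-- Let G be a finite solvable group with an automorphism σ satisfying σ⁴ = 1 and fixing only the identity. Then the derived subgroup G' is nilpotent. -/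
theorem result {G : Type*} [Group G] [Finite G] (hG : Group.IsSolvable G) (σ : MulAut G) (hσ : σ ^ 4 = 1) (hfpf : ∀ g : G, σ g = g → g = 1) : Group.IsNilpotent (commutator G) :=
  main _ G rfl hG σ hσ hfpf

end Cfsg.Agent.S3794
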