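import Cfsg.Statements.S3795
import Cfsg.Agent.Lib.Local.GrossTwoLayers
import Cfsg.Agent.Lib.Local.GrossTwoMoved
import Cfsg.Agent.Lib.Solv.FittingLength
import Cfsg.Agent.S3794
-- import your own Cfsg.Agent.* helpers here

set_option autoImplicit false
open Cfsg

namespace Cfsg.Agent.S3795

open Subgroup Cfsg.Lib.Local Cfsg.Lib.Local.GrossTwo
open Cfsg.Lib.Solv.WardRank
open scoped commutatorElement

universe u v

/-- An element of a `q`-group acting nontrivially on an `r`-group acts nontrivially on the Frattini quotient. -/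
theorem frattini_faithful {G : Type u} [Group G] [Finite G] {O : Subgroup G} [O.Normal] {q r : ℕ}
    [Fact q.Prime] [Fact r.Prime] (hqr : q ≠ r) (hO : IsPGroup r O) {d : G} (hd : IsPGroup q (zpowers d))
    (h : ∀ a : O, (QuotientGroup.mk (MulAut.conjNormal d a) : O ⧸ frattini O) = QuotientGroup.mk a) :
    d ∈ centralizer (O : Set G) := by
  have hcop : (Nat.card (zpowers d)).Coprime (Nat.card O) := by
    obtain ⟨a, ha⟩ := IsPGroup.iff_card.1 hd
    obtain ⟨b, hb⟩ := IsPGroup.iff_card.1 hO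
    rw [ha, hb]
    exact ((Nat.coprime_primes Fact.out Fact.out).2 hqr).pow a b
  refine Lib.Coprime.le_centralizer_of_commutator_le_frattini
    (fun z _ => by rw [normalizer_eq_top_iff.2 inferInstance]; exact mem_top z) hcop
    (Or.inr (have := hO.isNilpotent; IsNilpotent.to_isSolvable)) ?_ (mem_zpowers d)
  rw [commutator_le]
  intro a ha z hz
  have hfix : ∀ (k : ℕ) (b : O), (QuotientGroup.mk (MulAut.conjNormal (d ^ k) b) : O ⧸ frattini O) =
      QuotientGroup.mk b := by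
    intro k
    induction k with
    | zero => intro b; rw [pow_zero, map_one]; rfl
    | succ k ih =>
      intro b
      rw [pow_succ, map_mul, MulAut.mul_apply, ih, h]
  obtain ⟨k, rfl⟩ := mem_powers_iff_mem_zpowers.2 hz
  refine ⟨(⟨a, ha⟩ : O) * MulAut.conjNormal (d ^ k) (⟨a, ha⟩ : O)⁻¹, ?_, ?_⟩
  · have h2 := QuotientGroup.eq.1 (hfix k (⟨a, ha⟩ : O)⁻¹).symm
    rwa [inv_inv] at h2
  · show a * ((MulAut.conjNormal (d ^ k) (⟨a, ha⟩ : O)⁻¹ : O) : G) = ⁅a, d ^ k⁆
    rw [MulAut.conjNormal_apply, commutatorElement_def, Subgroup.coe_inv]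
    group

/-- The involutory power of a fixed-point-free operator of two-power order centralizes `G` modulo the second
Fitting subgroup. -/
theorem socle_trivial {G : Type u} [Group G] [Finite G] [Group.IsSolvable G] {A : Type v} [CommGroup A] [Finite A]
    {φ : A →* MulAut G} (hA : IsPGroup 2 A) (hG : ¬ 2 ∣ Nat.card G)
    (a : A) (ha : ∀ b : A, b ∈ zpowers a) (n : ℕ) (han : a ^ 2 ^ (n + 2) = 1)
    (hfpf : ∀ g : G, φ a g = g → g = 1) [hNn : (Cfsg.fittingSubgroup G).Normal]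
    (hNinv : Inv φ (Cfsg.fittingSubgroup G)) (x : G ⧸ Cfsg.fittingSubgroup G) :
    x⁻¹ * quoAct φ (Cfsg.fittingSubgroup G) hNinv (a ^ 2 ^ (n + 1)) x ∈
      Cfsg.fittingSubgroup (G ⧸ Cfsg.fittingSubgroup G) := by
  classical
  have : Fact (Nat.Prime 2) := ⟨Nat.prime_two⟩
  set N := Cfsg.fittingSubgroup G with hNdef
  set yA := a ^ 2 ^ (n + 1) with hyA
  have hyA2 : yA * yA = 1 := by rw [hyA, ← pow_add, ← two_mul, ← pow_succ', han]
  let ψA := quoAct φ N hNinv
  by_contra hmove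
  have hsolN : Group.IsSolvable (G ⧸ N) := Group.isSolvable_of_surjective (QuotientGroup.mk'_surjective N)
  have hGm : ¬ 2 ∣ Nat.card (G ⧸ N) := fun hd => hG (hd.trans (card_quotient_dvd_card N))
  obtain ⟨q, r, hq, hr, hrq, S', hS'p, hS'inv, s, hsS, hsd⟩ := exists_moved_layer (φ := ψA) hA hGm
    (yA := yA) (by rw [pow_two, hyA2]) hmove
  have : Fact q.Prime := ⟨hq⟩
  have : Fact r.Prime := ⟨hr⟩
  have hψy2 : ∀ z, ψA yA (ψA yA z) = z := fun z => by
    rw [← MulAut.mul_apply, ← map_mul, hyA2, map_one, MulAut.one_apply]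
  have hψpow : ∀ (k : ℕ) (z : G ⧸ N), ψA (a ^ k) z = (ψA a ^ k) z := fun k z => by rw [map_pow]
  have hodd : ∀ l : ℕ, l.Prime → ∀ P : Subgroup (G ⧸ N), IsPGroup l P → P ≠ ⊥ → l ≠ 2 := by
    intro l hl P hP hne hl2
    subst hl2
    have : Fact (Nat.Prime 2) := ⟨hl⟩
    obtain ⟨i, hi⟩ := IsPGroup.iff_card.1 hP
    have hi0 : i ≠ 0 := fun e0 => hne (eq_bot_of_card_eq _ (by rw [hi, e0, pow_zero]))
    exact hGm (((dvd_pow_self 2 hi0).trans (hi ▸ dvd_rfl)).trans (card_subgroup_dvd_card P))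
  set O := Cfsg.pCore r (G ⧸ N) with hO
  have hOr : IsPGroup r O := Lib.Core.pCore_isPGroup r _
  have hOinv : Inv ψA O := inv_of_map_eq fun b => Lib.Core.map_pCore_equiv (ψA b)
  set D := closure ((fun t => t⁻¹ * ψA yA t) '' (S' : Set (G ⧸ N))) with hDdef
  have hDgen : ∀ t ∈ S', t⁻¹ * ψA yA t ∈ D := fun t ht => subset_closure ⟨t, ht, rfl⟩
  have hDS : D ≤ S' := (closure_le _).2 (by
    rintro _ ⟨t, ht, rfl⟩
    exact mul_mem (inv_mem ht) (hS'inv yA t ht))
  have hq2 : q ≠ 2 := hodd q hq S' hS'p (fun e => hsd (by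
    have h1 : s⁻¹ * ψA yA s ∈ S' := hDS (hDgen s hsS)
    rw [e, mem_bot] at h1
    rw [h1]
    exact one_mem _))
  have hr2 : r ≠ 2 := hodd r hr O hOr (fun e => hsd (by
    rw [e]
    exact mem_centralizer_iff.2 fun u hu => by rw [mem_bot.1 hu, one_mul, mul_one]))
  have hDinv : Inv ψA D := by
    intro b z hz
    have hle : D ≤ D.comap (ψA b).toMonoidHom := (closure_le _).2 (by
      rintro _ ⟨t, ht, rfl⟩
      show ψA b (t⁻¹ * ψA yA t) ∈ D
      rw [map_mul, map_inv, apply_comm b yA t]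
      exact hDgen _ (hS'inv b t ht))
    exact hle hz
  have hDnorm : ∀ u ∈ S', ∀ d ∈ D, u * d * u⁻¹ ∈ D := by
    intro u hu d hd
    have hle : D ≤ D.comap (MulAut.conj u).toMonoidHom := (closure_le _).2 (by
      rintro _ ⟨t, ht, rfl⟩
      show u * (t⁻¹ * ψA yA t) * u⁻¹ ∈ D
      have h1 := mul_mem (hDgen _ (mul_mem ht (inv_mem hu))) (inv_mem (hDgen _ (inv_mem hu)))
      convert h1 using 1
      rw [map_mul, map_inv]
      group)
    exact hle hd
  have hdDsd : ¬ D ≤ centralizer (O : Set (G ⧸ N)) := fun hle => hsd (hle (hDgen s hsS))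
  obtain ⟨R0, ⟨hR0O, hR0inv, hR0S, hR0D⟩, hmin'⟩ := Set.Finite.exists_minimal
    (s := {R : Subgroup (G ⧸ N) | R ≤ O ∧ Inv ψA R ∧ (∀ u ∈ S', ∀ c ∈ R, u * c * u⁻¹ ∈ R) ∧
      ¬ D ≤ centralizer (R : Set (G ⧸ N))}) (Set.toFinite _)
    ⟨O, le_rfl, hOinv, fun u _ c hc => (inferInstance : O.Normal).conj_mem c hc u, hdDsd⟩
  have hmin : ∀ R : Subgroup (G ⧸ N), R ≤ R0 → R ≠ R0 → Inv ψA R → (∀ u ∈ S', ∀ c ∈ R, u * c * u⁻¹ ∈ R) →
      D ≤ centralizer (R : Set (G ⧸ N)) := fun R hR hne h1 h2 => by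
    by_contra hc
    exact hne (le_antisymm hR (hmin' ⟨hR.trans hR0O, h1, h2, hc⟩ hR))
  have hR0r : IsPGroup r R0 := hOr.to_le hR0O
  have hDp : IsPGroup q D := hS'p.to_le hDS
  have hDn : D ≤ normalizer (R0 : Set (G ⧸ N)) := fun d hd =>
    mem_normalizer_of_conj_mem (hR0S d (hDS hd))
  have hcopD : (Nat.card D).Coprime (Nat.card R0) := by
    obtain ⟨i, hi⟩ := IsPGroup.iff_card.1 hDp
    obtain ⟨k, hk⟩ := IsPGroup.iff_card.1 hR0r
    rw [hi, hk]
    exact ((Nat.coprime_primes hq hr).2 (Ne.symm hrq)).pow i k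
  have hsolR : Group.IsSolvable D ∨ Group.IsSolvable R0 :=
    Or.inr (have := hR0r.isNilpotent; IsNilpotent.to_isSolvable)
  have hcent_bot : ∀ R : Subgroup (G ⧸ N), D ≤ centralizer (R : Set (G ⧸ N)) → ⁅D, R⁆ = ⊥ :=
    fun R h => commutator_eq_bot_iff_le_centralizer.2 h
  have hRD : ⁅R0, D⁆ = R0 := by
    by_contra hne
    have hle : ⁅R0, D⁆ ≤ R0 := Lib.Coprime.commutator_le_of_le_normalizer hDn
    have h := hmin _ hle hne (fun b z hz => by
      have h1 : (⁅R0, D⁆).map (ψA b).toMonoidHom = ⁅R0, D⁆ := by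
        rw [map_commutator, hR0inv.map_eq, hDinv.map_eq]
      exact h1.le (mem_map_of_mem _ hz))
      (fun u hu z hz => conj_mem_commutator (hR0S u hu) (hDnorm u hu) hz)
    refine hR0D ?_
    have h0 := Lib.Coprime.commutator_eq_bot_of_commutator_commutator_eq_bot hDn hcopD hsolR
      (by rw [commutator_comm]; exact hcent_bot _ h)
    rw [commutator_comm] at h0
    exact commutator_eq_bot_iff_le_centralizer.1 h0
  have hR0ne : R0 ≠ ⊥ := fun e => hR0D (fun d _ => mem_centralizer_iff.2 fun u hu => by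
    rw [e, SetLike.mem_coe, mem_bot] at hu
    rw [hu, one_mul, mul_one])
  set Φ0 := (frattini R0).map R0.subtype with hΦ0
  have hΦD : D ≤ centralizer (Φ0 : Set (G ⧸ N)) := by
    refine hmin Φ0 (map_subtype_le _) (fun e => ?_) ?_ ?_
    · have hnt : Nontrivial R0 := (nontrivial_iff_ne_bot R0).2 hR0ne
      refine Lib.PGroup.frattini_ne_top (G := R0) (eq_top_iff.2 fun b _ => ?_)
      obtain ⟨c, hc, hcb⟩ := e.ge b.2
      rwa [← show c = b from Subtype.ext hcb]
    · exact hR0inv.map_subtype (inv_of_characteristic (φ := subAct ψA R0 hR0inv) (frattini R0))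
    · exact fun u hu c hc => conj_mem_frattini_map (mem_normalizer_of_conj_mem (hR0S u hu)) hc
  have hΦmem : ∀ b ∈ R0, ∀ c ∈ R0, ⁅b, c⁆ ∈ Φ0 := fun b hb c hc =>
    ⟨⁅(⟨b, hb⟩ : R0), ⟨c, hc⟩⁆,
      Lib.PGroup.commutator_le_frattini hR0r (Subgroup.commutator_mem_commutator (mem_top _) (mem_top _)), rfl⟩
  have hΦpow : ∀ b ∈ R0, b ^ r ∈ Φ0 := fun b hb =>
    ⟨(⟨b, hb⟩ : R0) ^ r, Lib.PGroup.pow_mem_frattini hR0r _, rfl⟩
  have hΦcen : ∀ c ∈ Φ0, ∀ b ∈ R0, c * b = b * c := by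
    have hsub : ⁅Φ0, R0⁆ ≤ Φ0 := commutator_le.2 fun c hc b hb => hΦmem c (map_subtype_le _ hc) b hb
    have h1 : ⁅⁅R0, D⁆, Φ0⁆ = ⊥ := by
      refine commutator_commutator_eq_bot_of_rotate ?_ ?_
      · rw [hcent_bot _ hΦD, commutator_bot_left]
      · rw [commutator_comm, ← le_bot_iff]
        exact (commutator_mono le_rfl hsub).trans (hcent_bot _ hΦD).le
    rw [hRD, commutator_eq_bot_iff_le_centralizer] at h1
    intro c hc b hb
    exact mem_centralizer_iff.1 (h1 hb) c hc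
  -- a prime where the layer acts
  set U := O.comap (QuotientGroup.mk' N) with hU
  obtain ⟨SR, -⟩ := exists_inv_sylow hA hG r (Inv.comap_mk (h := hNinv) hOinv)
  let gU : U →* O := ((QuotientGroup.mk' N).comp U.subtype).codRestrict O fun z => z.2
  have hgU : Function.Surjective gU := by
    rintro ⟨z, hz⟩
    obtain ⟨k, rfl⟩ := QuotientGroup.mk'_surjective N z
    exact ⟨⟨k, hz⟩, rfl⟩
  have hStop : (SR.mapSurjective hgU : Subgroup O) = ⊤ := by
    rw [eq_top_iff]
    exact ((SR.mapSurjective hgU).is_maximal' (hOr.to_subgroup ⊤ |>.to_le le_rfl |> fun _ =>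
      (Lib.Core.pCore_isPGroup r _).to_subgroup ⊤) le_top).le
  obtain ⟨s', hs', hs'r, c0, hc0, hc0n⟩ : ∃ s' : ℕ, s'.Prime ∧ s' ≠ r ∧ ∃ c ∈ R0, ∃ g : G,
      QuotientGroup.mk' N g = c ∧ ∃ u : Cfsg.pCore s' G, (QuotientGroup.mk (MulAut.conjNormal g u) :
        Cfsg.pCore s' G ⧸ frattini (Cfsg.pCore s' G)) ≠ QuotientGroup.mk u := by
    by_contra hcon
    push Not at hcon
    refine hR0ne ((eq_bot_iff_forall _).2 fun c hc => ?_)
    obtain ⟨g0, hg0, hg0'⟩ := hStop.ge (mem_top (⟨c, hR0O hc⟩ : O))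
    have hgc : QuotientGroup.mk' N (g0 : G) = c := congrArg Subtype.val hg0'
    rw [← hgc]
    refine (QuotientGroup.eq_one_iff _).2 (mem_fitting_of_centralizes (q := r) ?_ fun l hl hlr => ?_)
    · exact g0.2
    have : Fact l.Prime := ⟨hl⟩
    exact frattini_faithful (Ne.symm hlr) (Lib.Core.pCore_isPGroup l G)
      ((SR.isPGroup'.map U.subtype).to_le (zpowers_le.2 (mem_map_of_mem _ hg0)))
      (hcon l hl hlr c hc _ hgc)
  have : Fact s'.Prime := ⟨hs'⟩
  set P := Cfsg.pCore s' G with hP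
  obtain ⟨gc, hgc, uc, huc⟩ := hc0n
  have hPs : IsPGroup s' P := Lib.Core.pCore_isPGroup s' G
  have hPinv : Inv φ P := inv_of_map_eq fun b => Lib.Core.map_pCore_equiv (φ b)
  have hPne : P ≠ ⊥ := fun e => huc (by
    have h1 : uc = 1 := Subtype.ext (mem_bot.1 (e.le uc.2))
    rw [h1, map_one])
  have hs'2 : s' ≠ 2 := by
    rintro rfl
    obtain ⟨i, hi⟩ := IsPGroup.iff_card.1 hPs
    have hi0 : i ≠ 0 := fun e0 => hPne (eq_bot_of_card_eq _ (by rw [hi, e0, pow_zero]))
    exact hG (((dvd_pow_self 2 hi0).trans (hi ▸ dvd_rfl)).trans (card_subgroup_dvd_card P))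
  letI : CommGroup (P ⧸ frattini P) := { (inferInstance : Group (P ⧸ frattini P)) with
    mul_comm := fun u w => by
      obtain ⟨u, rfl⟩ := QuotientGroup.mk'_surjective _ u
      obtain ⟨w, rfl⟩ := QuotientGroup.mk'_surjective _ w
      rw [← commutatorElement_eq_one_iff_mul_comm, ← map_commutatorElement]
      exact (QuotientGroup.eq_one_iff _).2 (Lib.PGroup.commutator_le_frattini hPs
        (Subgroup.commutator_mem_commutator (mem_top u) (mem_top w))) }
  let χ : MulAut P →* MulAut (P ⧸ frattini P) :=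
    { toFun := fun k => QuotientGroup.congr (frattini P) (frattini P) k
        (characteristic_iff_map_eq.1 frattini_characteristic _)
      map_one' := MulEquiv.ext fun z => by
        obtain ⟨u, rfl⟩ := QuotientGroup.mk'_surjective _ z
        rfl
      map_mul' := fun k l => MulEquiv.ext fun z => by
        obtain ⟨u, rfl⟩ := QuotientGroup.mk'_surjective _ z
        rfl }
  have hχ : ∀ k u, χ k (QuotientGroup.mk' _ u) = QuotientGroup.mk' (frattini P) (k u) := fun _ _ => rfl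
  let α0 : G →* MulAut (P ⧸ frattini P) := χ.comp MulAut.conjNormal
  have hNker : N ≤ α0.ker := by
    rw [hNdef, Lib.Core.fittingSubgroup_eq_iSup_pCore]
    refine iSup_le fun l g hg => MonoidHom.mem_ker.2 (MulEquiv.ext fun z => ?_)
    obtain ⟨u, rfl⟩ := QuotientGroup.mk'_surjective _ z
    show QuotientGroup.mk' (frattini P) (MulAut.conjNormal g u) = QuotientGroup.mk' (frattini P) u
    by_cases hl : (l : ℕ) = s'
    · have hgP : g ∈ P := by rw [hP, ← hl]; exact hg
      rw [show MulAut.conjNormal g u = (⟨g, hgP⟩ : P) * u * (⟨g, hgP⟩ : P)⁻¹ from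
        Subtype.ext (by rw [MulAut.conjNormal_apply]; rfl), map_mul, map_mul, map_inv,
        mul_comm (QuotientGroup.mk' (frattini P) ⟨g, hgP⟩), mul_inv_cancel_right]
    · have : Fact (l : ℕ).Prime := ⟨l.2⟩
      refine congrArg _ (Subtype.ext ?_)
      rw [MulAut.conjNormal_apply, mul_inv_eq_iff_eq_mul]
      exact Subgroup.commute_of_normal_of_disjoint _ _ inferInstance inferInstance
        (IsPGroup.disjoint_of_ne (l : ℕ) s' hl _ _ (Lib.Core.pCore_isPGroup (l : ℕ) G) hPs) g u hg u.2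
  let α : G ⧸ N →* MulAut (P ⧸ frattini P) := QuotientGroup.lift N α0 hNker
  have hα : ∀ g : G, α (QuotientGroup.mk' N g) = α0 g := fun g => rfl
  let τ : A →* MulAut P := subAct φ P hPinv
  set t : MulAut (P ⧸ frattini P) := χ (τ a) with ht
  have hrel : ∀ z : G ⧸ N, t * α z * t⁻¹ = α (ψA a z) := by
    intro z
    obtain ⟨g, rfl⟩ := QuotientGroup.mk'_surjective N z
    rw [quoAct_mk, hα, hα, ht, show α0 g = χ (MulAut.conjNormal g) from rfl, ← map_inv, ← map_mul, ← map_mul]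
    refine congrArg χ (MulEquiv.ext fun u => Subtype.ext ?_)
    rw [MulAut.mul_apply, MulAut.mul_apply, ← map_inv τ, MulAut.conjNormal_apply, subAct_apply,
      MulAut.conjNormal_apply, subAct_apply, map_mul, map_mul, apply_inv, map_inv]
  have hrelpow : ∀ (k : ℕ) (z : G ⧸ N), t ^ k * α z * (t ^ k)⁻¹ = α (ψA (a ^ k) z) := by
    intro k
    induction k with
    | zero => intro z; simp
    | succ k ih =>
      intro z
      rw [pow_succ', show t * t ^ k * α z * (t * t ^ k)⁻¹ = t * (t ^ k * α z * (t ^ k)⁻¹) * t⁻¹ by group,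
        ih, hrel, pow_succ', map_mul, MulAut.mul_apply]
  obtain ⟨V, _, _, _, RV, e, he⟩ := exists_zmod_rep (p := s') (W := P ⧸ frattini P) (fun v => by
    obtain ⟨u, rfl⟩ := QuotientGroup.mk'_surjective _ v
    rw [← map_pow]
    exact (QuotientGroup.eq_one_iff _).2 (Lib.PGroup.pow_mem_frattini hPs u)) (MonoidHom.id _)
  have hRV : Function.Injective RV := fun k l hkl => MulEquiv.ext fun w =>
    e.injective (Multiplicative.toAdd.injective ((he k w).symm.trans ((LinearMap.congr_fun hkl _).trans (he l w))))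
  have htN : t ^ 2 ^ (n + 2) = 1 := by rw [ht, ← map_pow, ← map_pow, han, map_one, map_one]
  have hNsum : ∑ i ∈ Finset.range (2 ^ (n + 2)), RV t ^ i = 0 := by
    refine LinearMap.ext fun v => ?_
    rw [LinearMap.sum_apply, LinearMap.zero_apply]
    set S0 := ∑ i ∈ Finset.range (2 ^ (n + 2)), (RV t ^ i) v with hS0
    have hfix : RV t S0 = S0 := by
      rw [hS0, map_sum, ← sub_eq_zero, ← Finset.sum_sub_distrib]
      calc ∑ i ∈ Finset.range (2 ^ (n + 2)), (RV t ((RV t ^ i) v) - (RV t ^ i) v)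
          = ∑ i ∈ Finset.range (2 ^ (n + 2)), ((RV t ^ (i + 1)) v - (RV t ^ i) v) := by
            simp only [pow_succ', Module.End.mul_apply]
        _ = (RV t ^ 2 ^ (n + 2)) v - (RV t ^ 0) v := Finset.sum_range_sub (fun i => (RV t ^ i) v) _
        _ = 0 := by rw [← map_pow, htN, map_one, pow_zero]; exact sub_self _
    obtain ⟨w, hw⟩ := e.surjective (Multiplicative.ofAdd S0)
    obtain ⟨u, rfl⟩ := QuotientGroup.mk'_surjective _ w
    have hS0' : S0 = (e (QuotientGroup.mk' _ u)).toAdd := by rw [hw]; rfl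
    rw [hS0', he] at hfix
    have hu : χ (τ a) (QuotientGroup.mk' _ u) = QuotientGroup.mk' (frattini P) u :=
      e.injective (Multiplicative.toAdd.injective hfix)
    rw [hχ] at hu
    have hPm : ¬ 2 ∣ Nat.card P := fun hd => hG (hd.trans (card_subgroup_dvd_card P))
    have hτfpf : ∀ w : P, τ a w = w → w = 1 := fun w hw => Subtype.ext (hfpf w (by
      simpa [τ, subAct_apply] using congrArg Subtype.val hw))
    have h1 := quoAct_fpf (φ := τ) hA hPm ha hτfpf (inv_of_characteristic (φ := τ) (frattini P))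
      (QuotientGroup.mk' _ u) (by rw [quoAct_mk]; exact hu)
    rw [hS0', h1, map_one]
    rfl
  let K := AlgebraicClosure (ZMod s')
  have : CharP K s' := charP_of_injective_algebraMap (algebraMap (ZMod s') K).injective s'
  have hcast : ∀ l : ℕ, l.Prime → l ≠ s' → (l : K) ≠ 0 := fun l hl hls => by
    rw [Ne, CharP.cast_eq_zero_iff K s']
    exact fun hd => hls ((Nat.prime_dvd_prime_iff_eq hs' hl).1 hd).symm
  have h2K : (2 : K) ≠ 0 := by exact_mod_cast hcast 2 Nat.prime_two (Ne.symm hs'2)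
  set R := R0.map α with hR
  have hRr : IsPGroup r R := hR0r.map α
  have hRinv : ∀ b ∈ R, t * b * t⁻¹ ∈ R := by
    rintro _ ⟨c, hc, rfl⟩
    exact ⟨ψA a c, hR0inv a c hc, (hrel c).symm⟩
  have hΦZ : ∀ c ∈ Φ0, α c ∈ innerCenter R := fun c hc => mem_innerCenter.2
    ⟨mem_map_of_mem α (map_subtype_le _ hc), by
      rintro _ ⟨b, hb, rfl⟩
      rw [← map_mul, hΦcen c hc b hb, map_mul]⟩
  set y := t ^ 2 ^ (n + 1) with hy
  have hDconj : ∀ d ∈ D.map α, ∀ b ∈ R, d * b * d⁻¹ ∈ R := by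
    rintro _ ⟨d, hd, rfl⟩ _ ⟨b, hb, rfl⟩
    exact ⟨d * b * d⁻¹, hR0S d (hDS hd) b hb, by simp⟩
  have hRnormZ : ∀ g ∈ normalizer (R : Set (MulAut (P ⧸ frattini P))), ∀ c ∈ innerCenter R,
      g * c * g⁻¹ ∈ innerCenter R := by
    intro g hg c hc
    obtain ⟨h1, h2⟩ := mem_innerCenter.1 hc
    refine mem_innerCenter.2 ⟨(mem_normalizer_iff.1 hg c).1 h1, fun b hb => ?_⟩
    have e := h2 _ (show g⁻¹ * b * g ∈ R by simpa using (mem_normalizer_iff.1 (inv_mem hg) b).1 hb)
    calc g * c * g⁻¹ * b = g * (c * (g⁻¹ * b * g)) * g⁻¹ := by group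
      _ = b * (g * c * g⁻¹) := by rw [e]; group
  refine two_layers (ρ := closureRep RV) (closureRep_injective hRV) hq2 hr2 (Ne.symm hrq)
    (hcast r hr (Ne.symm hs'r)) h2K hRr (hDp.map α) hDconj hRinv ?_ htN (closureRep_sum_pow hNsum) ?_ ?_ ?_ ?_ ?_
  · rintro _ ⟨d, hd, rfl⟩
    exact ⟨ψA a d, hDinv a d hd, (hrel d).symm⟩
  · rintro _ ⟨b, hb, rfl⟩ _ ⟨c, hc, rfl⟩
    rw [← map_commutatorElement]
    exact hΦZ _ (hΦmem b hb c hc)
  · rintro _ ⟨b, hb, rfl⟩
    rw [← map_pow]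
    exact hΦZ _ (hΦpow b hb)
  · rintro _ ⟨d, hd, rfl⟩ _ ⟨b, hb, rfl⟩ _ ⟨c, hc, rfl⟩
    rw [← map_commutatorElement, ← map_inv, ← map_mul, ← map_mul,
      ← mem_centralizer_iff.1 (hΦD hd) _ (hΦmem b hb c hc), mul_inv_cancel_right]
  · rintro _ ⟨c, hc, rfl⟩ hfix
    rw [hrel, ← map_inv, ← map_mul] at hfix
    set Kc := R0 ⊓ (innerCenter R).comap α with hKc
    have hKinv : Inv ψA Kc := by
      have h1 : ∀ w ∈ Kc, ψA a w ∈ Kc := fun w hw => by
        refine mem_inf.2 ⟨hR0inv a w (mem_inf.1 hw).1, mem_comap.2 ?_⟩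
        rw [← hrel]
        exact hRnormZ t (mem_normalizer_of_conj_mem hRinv) _ (mem_comap.1 (mem_inf.1 hw).2)
      intro b w hw
      obtain ⟨k, rfl⟩ := mem_powers_iff_mem_zpowers.2 (ha b)
      induction k with
      | zero => simpa using hw
      | succ k ih => beta_reduce; rw [pow_succ', map_mul, MulAut.mul_apply]; exact h1 _ ih
    have hcK : c⁻¹ * ψA a c ∈ Kc :=
      mem_inf.2 ⟨mul_mem (inv_mem hc) (hR0inv a c hc), mem_comap.2 hfix⟩
    obtain ⟨w, hw, hcw⟩ := exists_fixed_in_coset hA hGm hKinv ⊤ (g := c) fun b _ => by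
      obtain ⟨k, rfl⟩ := mem_powers_iff_mem_zpowers.2 (ha b)
      induction k with
      | zero => simp
      | succ k ih =>
        beta_reduce
        rw [pow_succ', map_mul, MulAut.mul_apply,
          show c⁻¹ * ψA a (ψA (a ^ k) c) = (c⁻¹ * ψA a c) * ψA a (c⁻¹ * ψA (a ^ k) c) by
            rw [map_mul, map_inv]; group]
        exact mul_mem hcK (hKinv a _ (ih (mem_top _)))
    rw [quoAct_fpf hA hG ha hfpf hNinv w (hw a (mem_top a)), mul_one, inv_mem_iff] at hcw
    exact mem_comap.1 (mem_inf.1 hcw).2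
  · by_contra hcon
    push Not at hcon
    set Z := innerCenter R with hZ
    -- the elements of `D` acting trivially modulo the centre
    let D1 : Subgroup (G ⧸ N) :=
      { carrier := {d | d ∈ D ∧ ∀ b ∈ R, b⁻¹ * (α d * b * (α d)⁻¹) ∈ Z}
        one_mem' := ⟨one_mem D, fun b hb => by simp⟩
        mul_mem' := fun {u w} hu hw => ⟨mul_mem hu.1 hw.1, fun b hb => by
          have hwb := hDconj _ (mem_map_of_mem α hw.1) b hb
          rw [show b⁻¹ * (α (u * w) * b * (α (u * w))⁻¹) = (b⁻¹ * (α w * b * (α w)⁻¹)) *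
            ((α w * b * (α w)⁻¹)⁻¹ * (α u * (α w * b * (α w)⁻¹) * (α u)⁻¹)) by rw [map_mul]; group]
          exact mul_mem (hw.2 b hb) (hu.2 _ hwb)⟩
        inv_mem' := fun {u} hu => ⟨inv_mem hu.1, fun b hb => by
          have hub := hDconj _ (mem_map_of_mem α (inv_mem hu.1)) b hb
          have h1 := inv_mem (hu.2 _ hub)
          rw [show ((α u⁻¹ * b * (α u⁻¹)⁻¹)⁻¹ * (α u * (α u⁻¹ * b * (α u⁻¹)⁻¹) * (α u)⁻¹))⁻¹ =
            b⁻¹ * (α u⁻¹ * b * (α u⁻¹)⁻¹) by rw [map_inv]; group] at h1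
          exact h1⟩ }
    have hgenD1 : ∀ u ∈ S', u⁻¹ * ψA yA u ∈ D1 := by
      intro u hu
      set g := u⁻¹ * ψA yA u with hg
      have hgD : g ∈ D := hDgen u hu
      have hgy : ψA yA g = g⁻¹ := by rw [hg, map_mul, map_inv, hψy2]; group
      have h2 : g ^ 2 ∈ D1 := by
        refine ⟨pow_mem hgD 2, fun b hb => ?_⟩
        have h3 := hcon (α g) (mem_map_of_mem α hgD) b hb
        have h4 : ⁅α g, y⁆ = α (g ^ 2) := by
          rw [commutatorElement_def, hy,
            show α g * t ^ 2 ^ (n + 1) * (α g)⁻¹ * (t ^ 2 ^ (n + 1))⁻¹ =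
              α g * (t ^ 2 ^ (n + 1) * α g⁻¹ * (t ^ 2 ^ (n + 1))⁻¹) by rw [map_inv]; group,
            hrelpow, ← hyA, map_inv (ψA yA), hgy, inv_inv, pow_two, map_mul α g g]
        rw [h4] at h3
        exact h3
      have hordg : Odd (orderOf g) := by
        obtain ⟨i, hi⟩ := IsPGroup.iff_orderOf.1 hDp ⟨g, hgD⟩
        rw [Subgroup.orderOf_mk] at hi
        rw [hi]
        exact (hq.odd_of_ne_two hq2).pow
      obtain ⟨k, hk⟩ := hordg
      have h5 : g = (g ^ 2) ^ (k + 1) := by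
        rw [← pow_mul, show 2 * (k + 1) = orderOf g + 1 by omega, pow_succ, pow_orderOf_eq_one, one_mul]
      rw [h5]
      exact pow_mem h2 _
    have hD1 : D ≤ D1 := (closure_le _).2 (by rintro _ ⟨u, hu, rfl⟩; exact hgenD1 u hu)
    have hRZ : R ≤ Z := by
      rw [hR, ← hRD, map_commutator, commutator_le]
      rintro b hb _ ⟨d, hd, rfl⟩
      have h1 := (hD1 hd).2 b⁻¹ (inv_mem hb)
      rwa [inv_inv, show b * (α d * b⁻¹ * (α d)⁻¹) = ⁅b, α d⁆ by rw [commutatorElement_def]; group] at h1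
    have hRab : ∀ b ∈ R, ∀ c ∈ R, b * c = c * b := fun b hb c hc => (mem_innerCenter.1 (hRZ hb)).2 c hc
    have hyR : ∀ b ∈ R, y * b * y⁻¹ = b :=
      abelian_fixed (closureRep_injective hRV) hr2 (hcast r hr (Ne.symm hs'r)) hRr hRab hRinv htN
        (closureRep_sum_pow hNsum)
    have hgenC : ∀ u ∈ S', ∀ b ∈ R, α (u⁻¹ * ψA yA u) * b = b * α (u⁻¹ * ψA yA u) := by
      intro u hu b hb
      have hub : ∀ w ∈ S', ∀ b ∈ R, α w * b * (α w)⁻¹ ∈ R := by
        rintro w hw _ ⟨c, hc, rfl⟩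
        exact ⟨w * c * w⁻¹, hR0S w hw c hc, by simp⟩
      rw [← mul_inv_eq_iff_eq_mul, map_mul, hyA, ← hrelpow, ← hy]
      have h6 : y⁻¹ * b * y = b := by
        nth_rewrite 1 [← hyR b hb]
        group
      have h7 := hub u hu b hb
      calc α u⁻¹ * (y * α u * y⁻¹) * b * (α u⁻¹ * (y * α u * y⁻¹))⁻¹
          = α u⁻¹ * (y * (α u * (y⁻¹ * b * y) * (α u)⁻¹) * y⁻¹) * (α u⁻¹)⁻¹ := by group
        _ = b := by rw [h6, hyR _ h7, map_inv]; group
    have hbot : R = ⊥ := by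
      rw [hR, ← hRD, map_commutator, ← hR, commutator_eq_bot_iff_le_centralizer]
      intro b hb
      refine mem_centralizer_iff.2 fun d hd => ?_
      obtain ⟨d, hd, rfl⟩ := hd
      let D2 : Subgroup (G ⧸ N) := (centralizer ({b} : Set (MulAut (P ⧸ frattini P)))).comap α
      have hle : D ≤ D2 := (closure_le _).2 (by
        rintro _ ⟨u, hu, rfl⟩
        exact mem_centralizer_singleton_iff.2 (hgenC u hu b hb))
      exact mem_centralizer_singleton_iff.1 (hle hd)
    have hc0R : α c0 ∈ R := mem_map_of_mem α hc0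
    rw [hbot, mem_bot, ← hgc, hα] at hc0R
    exact huc (DFunLike.congr_fun hc0R (QuotientGroup.mk' _ uc))

/-- A fixed-point-free operator of order dividing `2 ^ (k + 2)` gives Fitting height at most `2 k + 2`. -/
theorem main : ∀ (k : ℕ) (G : Type u) [Group G] [Finite G],
    Group.IsSolvable G → ∀ σ : MulAut G, σ ^ 2 ^ (k + 2) = 1 → (∀ g : G, σ g = g → g = 1) →
      Lib.Solv.FLe (2 * k + 2) G := by
  intro k
  induction k with
  | zero =>
    intro G _ _ hsol σ hσ hfpf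
    refine Lib.Solv.FLe.extension (commutator G) (S3794.main _ G rfl hsol σ hσ hfpf) ?_
    refine Lib.Solv.FLe.one_of_isNilpotent ?_
    letI : CommGroup (Abelianization G) := inferInstance
    exact (inferInstance : Group.IsNilpotent (Abelianization G))
  | succ k ih =>
    intro G _ _ hsol σ hσ hfpf
    haveI := hsol
    have : Fact (Nat.Prime 2) := ⟨Nat.prime_two⟩
    letI : CommGroup (zpowers σ) := { (inferInstance : Group (zpowers σ)) with
      mul_comm := fun u w => by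
        obtain ⟨i, hi⟩ := mem_zpowers_iff.1 u.2
        obtain ⟨l, hl⟩ := mem_zpowers_iff.1 w.2
        refine Subtype.ext ?_
        show (u : MulAut G) * w = w * u
        rw [← hi, ← hl, ← zpow_add, ← zpow_add, add_comm] }
    let φ : zpowers σ →* MulAut G := (zpowers σ).subtype
    obtain ⟨i, -, hi⟩ := (Nat.dvd_prime_pow Nat.prime_two).1 (orderOf_dvd_of_pow_eq_one hσ)
    have hA : IsPGroup 2 (zpowers σ) := IsPGroup.of_card (n := i) (by rw [Nat.card_zpowers, hi])
    set a : zpowers σ := ⟨σ, mem_zpowers σ⟩ with ha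
    have hgen : ∀ b : zpowers σ, b ∈ zpowers a := fun b => by
      obtain ⟨l, hl⟩ := mem_zpowers_iff.1 b.2
      exact mem_zpowers_iff.2 ⟨l, Subtype.ext (by simpa [ha] using hl)⟩
    have hG : ¬ 2 ∣ Nat.card G := by
      intro hd
      letI : MulAction (zpowers σ) G := MulAction.compHom G φ
      have h1 := hA.card_modEq_card_fixedPoints G
      have h2 : Nat.card (MulAction.fixedPoints (zpowers σ) G) = 1 := by
        rw [Nat.card_eq_one_iff_unique]
        refine ⟨⟨fun u w => Subtype.ext ((hfpf u (u.2 a)).trans (hfpf w (w.2 a)).symm)⟩, ⟨1, fun b => ?_⟩⟩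
        exact map_one (φ b)
      rw [h2] at h1
      have h3 : 1 ≡ 0 [MOD 2] := h1.symm.trans (Nat.modEq_zero_iff_dvd.2 hd)
      exact absurd (Nat.dvd_one.1 (Nat.modEq_zero_iff_dvd.1 h3)) (by norm_num)
    set N := Cfsg.fittingSubgroup G with hN
    haveI hNn : N.Normal := Lib.Core.fittingSubgroup_normal' G
    have hNinv : Inv φ N := inv_of_map_eq fun b => Lib.Core.map_fittingSubgroup_equiv (φ b)
    have hGm : ¬ 2 ∣ Nat.card (G ⧸ N) := fun hd => hG (hd.trans (card_quotient_dvd_card N))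
    let ψ := quoAct φ N hNinv
    have hfpfN := quoAct_fpf hA hG hgen (φ := φ) hfpf hNinv
    set M := Cfsg.fittingSubgroup (G ⧸ N) with hM
    haveI : M.Normal := Lib.Core.fittingSubgroup_normal' _
    have hMinv : Inv ψ M := inv_of_map_eq fun b => Lib.Core.map_fittingSubgroup_equiv (ψ b)
    have hsolN : Group.IsSolvable (G ⧸ N) := Group.isSolvable_of_surjective (QuotientGroup.mk'_surjective N)
    rw [show 2 * (k + 1) + 2 = (2 * k + 2) + 1 + 1 by ring]
    refine Lib.Solv.FLe.extension N (Lib.Core.fittingSubgroup_isNilpotent G) ?_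
    refine Lib.Solv.FLe.extension M (Lib.Core.fittingSubgroup_isNilpotent _) ?_
    refine ih _ (Group.isSolvable_of_surjective (QuotientGroup.mk'_surjective M))
      (quoAct ψ M hMinv a) ?_ (quoAct_fpf hA hGm hgen hfpfN hMinv)
    rw [← map_pow]
    refine MulEquiv.ext fun x => ?_
    obtain ⟨g, rfl⟩ := QuotientGroup.mk'_surjective M x
    rw [quoAct_mk, MulAut.one_apply]
    exact (QuotientGroup.eq.2 (socle_trivial (φ := φ) hA hG a hgen (k + 1) (Subtype.ext hσ) hfpf hNinv g)).symm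

/-- Gross's Theorem: let G be a finite solvable group with an automorphism σ of order 2^n, n > 1, fixing only the identity. Then G has Fitting height at most 2n − 2: G has Fitting height at most m when there is a chain of normal subgroups 1 = F₀ ≤ F₁ ≤ ⋯ ≤ F_m = G with each F_{i+1}/F_i nilpotent. -/
theorem result {G : Type*} [Group G] [Finite G] (hG : Group.IsSolvable G) (σ : MulAut G) (n : ℕ) (hn : 1 < n) (hσ : orderOf σ = 2 ^ n) (hfpf : ∀ g : G, σ g = g → g = 1) : ∃ F : Fin ((2 * n - 2) + 1) → Subgroup G, F 0 = ⊥ ∧ F (Fin.last (2 * n - 2)) = ⊤ ∧ Monotone F ∧ (∀ i, (F i).Normal) ∧ ∀ i : Fin (2 * n - 2), ∃ k : ℕ, (F i.succ).lowerCentralSeries k ≤ F i.castSucc := by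
  obtain ⟨k, rfl⟩ : ∃ k, n = k + 2 := ⟨n - 2, by omega⟩
  have h := main k G hG σ (by rw [← hσ]; exact pow_orderOf_eq_one σ) hfpf
  rw [show 2 * (k + 2) - 2 = 2 * k + 2 by omega]
  exact (Lib.Solv.fle_iff_fin _).1 h

end Cfsg.Agent.S3795
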