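import Cfsg.Statements.S3796
import Cfsg.Agent.Lib.Core.Fitting
import Cfsg.Agent.Lib.Core.Cores
import Cfsg.Agent.Lib.Core.Layer
import Cfsg.Agent.Lib.Coprime.Generation

set_option autoImplicit false
open Cfsg

namespace Cfsg.Agent.S3796

open Subgroup
open scoped commutatorElement

universe u

section Frob

variable {V : Type u} [CommGroup V]

/-- The sum of all the translates of an element under `M`. -/
noncomputable def tr (M : Subgroup (MulAut V)) [Fintype M] (v : V) : V := ∏ m : M, (m : MulAut V) v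

theorem tr_mul (M : Subgroup (MulAut V)) [Fintype M] (a b : V) : tr M (a * b) = tr M a * tr M b := by
  simp only [tr, map_mul, Finset.prod_mul_distrib]

theorem tr_inv (M : Subgroup (MulAut V)) [Fintype M] (a : V) : tr M a⁻¹ = (tr M a)⁻¹ := by
  simp [tr]

theorem tr_prod (M : Subgroup (MulAut V)) [Fintype M] {ι : Type*} (s : Finset ι) (f : ι → V) :
    tr M (∏ i ∈ s, f i) = ∏ i ∈ s, tr M (f i) := by
  simp only [tr, map_prod]
  exact Finset.prod_comm

theorem tr_fixed (M : Subgroup (MulAut V)) [Fintype M] {x : MulAut V} (hx : x ∈ M) (v : V) :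
    x (tr M v) = tr M v := by
  rw [tr, map_prod]
  exact Fintype.prod_equiv (Equiv.mulLeft (⟨x, hx⟩ : M)) _ _ fun m => rfl

theorem tr_apply (M : Subgroup (MulAut V)) [Fintype M] {x : MulAut V} (hx : x ∈ M) (v : V) :
    tr M (x v) = tr M v :=
  Fintype.prod_equiv (Equiv.mulRight (⟨x, hx⟩ : M)) _ _ fun m => rfl

theorem tr_pow (M : Subgroup (MulAut V)) [Fintype M] (σ : MulAut V)
    (hM : ∀ m ∈ M, σ * m * σ⁻¹ ∈ M) (v : V) : ∀ i : ℕ, tr M ((σ ^ i) v) = (σ ^ i) (tr M v) := by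
  have h1 : ∀ w, σ (tr M w) = tr M (σ w) := by
    intro w
    rw [tr, map_prod]
    let f : M → M := fun m => ⟨σ * m * σ⁻¹, hM m m.2⟩
    have hf : Function.Bijective f := Finite.injective_iff_bijective.mp fun a b hab =>
      Subtype.ext (mul_left_cancel (mul_right_cancel (congrArg Subtype.val hab)))
    refine Fintype.prod_bijective f hf _ _ fun m => ?_
    show σ ((m : MulAut V) w) = (σ * (m : MulAut V) * σ⁻¹) (σ w)
    simp [MulAut.mul_apply]
  intro i
  induction i with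
  | zero => simp
  | succ i ih => rw [pow_succ', MulAut.mul_apply, MulAut.mul_apply, ← h1, ih]

theorem conj_pow_mem (M : Subgroup (MulAut V)) (σ : MulAut V)
    (hM : ∀ m ∈ M, σ * m * σ⁻¹ ∈ M) : ∀ (i : ℕ), ∀ m ∈ M, σ ^ i * m * (σ ^ i)⁻¹ ∈ M := by
  intro i
  induction i with
  | zero => simp
  | succ i ih =>
    intro m hm
    rw [pow_succ', show σ * σ ^ i * m * (σ * σ ^ i)⁻¹ = σ * (σ ^ i * m * (σ ^ i)⁻¹) * σ⁻¹ by group]
    exact hM _ (ih m hm)

/-- The Frobenius partition identity. -/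
theorem expand (M : Subgroup (MulAut V)) [Fintype M] (σ : MulAut V) {p : ℕ}
    (hM : ∀ m ∈ M, σ * m * σ⁻¹ ∈ M)
    (hfpf : ∀ i, 0 < i → i < p + 1 → ∀ m ∈ M, σ ^ i * m * (σ ^ i)⁻¹ = m → m = 1) (v : V) :
    ∏ m : M, ∏ i ∈ Finset.range (p + 1), ((m : MulAut V) * σ ^ i * (m : MulAut V)⁻¹) v =
      (∏ i ∈ Finset.range p, tr M ((σ ^ (i + 1)) v)) * v ^ Fintype.card M := by
  rw [Finset.prod_comm, Finset.prod_range_succ']
  congr 1
  · refine Finset.prod_congr rfl fun i hi => ?_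
    rw [Finset.mem_range] at hi
    let f : M → M := fun m => ⟨(m : MulAut V) * (σ ^ (i + 1) * (m : MulAut V)⁻¹ * (σ ^ (i + 1))⁻¹),
      mul_mem m.2 (conj_pow_mem M σ hM _ _ (inv_mem m.2))⟩
    have hf : Function.Bijective f := by
      refine Finite.injective_iff_bijective.mp fun a b hab => ?_
      have h : (a : MulAut V) * (σ ^ (i + 1) * (a : MulAut V)⁻¹ * (σ ^ (i + 1))⁻¹) =
          (b : MulAut V) * (σ ^ (i + 1) * (b : MulAut V)⁻¹ * (σ ^ (i + 1))⁻¹) :=
        congrArg Subtype.val hab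
      have h2 : σ ^ (i + 1) * ((b : MulAut V)⁻¹ * a) * (σ ^ (i + 1))⁻¹ = (b : MulAut V)⁻¹ * a := by
        have h3 := congrArg (fun z => (b : MulAut V)⁻¹ * z *
          (σ ^ (i + 1) * (a : MulAut V) * (σ ^ (i + 1))⁻¹)) h
        simpa [mul_assoc] using h3.symm
      exact Subtype.ext (inv_mul_eq_one.mp
        (hfpf (i + 1) (by omega) (by omega) _ (mul_mem (inv_mem b.2) a.2) h2)).symm
    refine Fintype.prod_bijective f hf _ _ fun m => ?_
    show _ = ((m : MulAut V) * (σ ^ (i + 1) * (m : MulAut V)⁻¹ * (σ ^ (i + 1))⁻¹)) ((σ ^ (i + 1)) v)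
    rw [← MulAut.mul_apply]
    congr 1
    group
  · simp [Finset.prod_const, Finset.card_univ]

theorem pow_injective {n : ℕ} [Finite V] (hcop : (Nat.card V).Coprime n) {a b : V}
    (h : a ^ n = b ^ n) : a = b :=
  (powCoprime hcop).injective h

theorem prod_orbit_fixed (σ : MulAut V) {p : ℕ} (hσ : σ ^ (p + 1) = 1) (u : V) :
    σ (∏ i ∈ Finset.range (p + 1), (σ ^ i) u) = ∏ i ∈ Finset.range (p + 1), (σ ^ i) u := by
  rw [map_prod]
  conv_lhs => rw [Finset.prod_range_succ]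
  conv_rhs => rw [Finset.prod_range_succ']
  congr 1
  · exact Finset.prod_congr rfl fun i _ => by rw [pow_succ', MulAut.mul_apply]
  · rw [← MulAut.mul_apply, ← pow_succ', hσ, pow_zero]

/-- A group normalized fixed-point-freely is trivial where the operator is fixed-point-free. -/
theorem frob [Finite V] (M : Subgroup (MulAut V)) (σ : MulAut V) {p : ℕ} (hσ : σ ^ (p + 1) = 1)
    (hM : ∀ m ∈ M, σ * m * σ⁻¹ ∈ M)
    (hfpf : ∀ i, 0 < i → i < p + 1 → ∀ m ∈ M, σ ^ i * m * (σ ^ i)⁻¹ = m → m = 1)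
    (hcop : (Nat.card V).Coprime (Nat.card M)) (W : Subgroup V)
    (hMW : ∀ m ∈ M, ∀ w ∈ W, m w ∈ W) (hσW : ∀ w ∈ W, σ w ∈ W)
    (hW : ∀ w ∈ W, σ w = w → w = 1) : ∀ m ∈ M, ∀ w ∈ W, m w = w := by
  intro x hx v hv
  have := Fintype.ofFinite M
  have hpow : ∀ (i : ℕ), ∀ w ∈ W, (σ ^ i) w ∈ W := by
    intro i
    induction i with
    | zero => simp
    | succ i ih => intro w hw; rw [pow_succ', MulAut.mul_apply]; exact hσW _ (ih w hw)
  have hin : ∀ u ∈ W, ∏ i ∈ Finset.range (p + 1), (σ ^ i) u = 1 := fun u hu =>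
    hW _ (prod_mem fun i _ => hpow i u hu) (prod_orbit_fixed σ hσ u)
  have h := expand M σ hM hfpf v
  rw [Finset.prod_eq_one, ← tr_prod] at h
  · have h1 : ∏ i ∈ Finset.range p, (σ ^ (i + 1)) v = v⁻¹ := by
      have h2 := hin v hv
      rw [Finset.prod_range_succ', pow_zero, MulAut.one_apply] at h2
      exact eq_inv_of_mul_eq_one_left h2
    rw [h1, tr_inv, eq_comm, inv_mul_eq_one] at h
    have hfix := tr_fixed M hx v
    rw [h, map_pow, ← Nat.card_eq_fintype_card] at hfix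
    exact pow_injective hcop hfix
  · intro m _
    have hu : (m : MulAut V)⁻¹ v ∈ W := hMW _ (inv_mem m.2) v hv
    calc ∏ i ∈ Finset.range (p + 1), ((m : MulAut V) * σ ^ i * (m : MulAut V)⁻¹) v
        = (m : MulAut V) (∏ i ∈ Finset.range (p + 1), (σ ^ i) ((m : MulAut V)⁻¹ v)) := by
          rw [map_prod]; rfl
      _ = 1 := by rw [hin _ hu, map_one]

/-- An element commuting with `M` and trivial on the fixed points of `σ` is trivial on `[V, M]`. -/
theorem span_fix [Finite V] (M : Subgroup (MulAut V)) (σ : MulAut V) {p : ℕ}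
    (hσ : σ ^ (p + 1) = 1) (hM : ∀ m ∈ M, σ * m * σ⁻¹ ∈ M)
    (hfpf : ∀ i, 0 < i → i < p + 1 → ∀ m ∈ M, σ ^ i * m * (σ ^ i)⁻¹ = m → m = 1)
    (hcop : (Nat.card V).Coprime (Nat.card M)) (V0 : Subgroup V)
    (hM0 : ∀ m ∈ M, ∀ w ∈ V0, m w ∈ V0) (hσ0 : ∀ w ∈ V0, σ w ∈ V0) (y : MulAut V)
    (hy : ∀ w ∈ V0, σ w = w → y w = w) (hcomm : ∀ m ∈ M, ∀ w ∈ V0, y (m w) = m (y w))
    {n : MulAut V} (hn : n ∈ M) {u : V} (hu : u ∈ V0) : y (n u * u⁻¹) = n u * u⁻¹ := by
  have := Fintype.ofFinite M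
  set d := n u * u⁻¹ with hd
  have hd0 : d ∈ V0 := mul_mem (hM0 n hn u hu) (inv_mem hu)
  have hpow : ∀ (i : ℕ), ∀ w ∈ V0, (σ ^ i) w ∈ V0 := by
    intro i
    induction i with
    | zero => simp
    | succ i ih => intro w hw; rw [pow_succ', MulAut.mul_apply]; exact hσ0 _ (ih w hw)
  have h := expand M σ hM hfpf d
  have htr : tr M d = 1 := by rw [hd, tr_mul, tr_inv, tr_apply M hn, mul_inv_cancel]
  rw [Finset.prod_eq_one (s := Finset.range p) (fun i _ => by
    rw [tr_pow M σ hM, htr, map_one]), one_mul] at h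
  have hfix : y (d ^ Fintype.card M) = d ^ Fintype.card M := by
    rw [← h, map_prod]
    refine Finset.prod_congr rfl fun m _ => ?_
    have hw : (m : MulAut V)⁻¹ d ∈ V0 := hM0 _ (inv_mem m.2) d hd0
    have e : ∏ i ∈ Finset.range (p + 1), ((m : MulAut V) * σ ^ i * (m : MulAut V)⁻¹) d
        = (m : MulAut V) (∏ i ∈ Finset.range (p + 1), (σ ^ i) ((m : MulAut V)⁻¹ d)) := by
      rw [map_prod]; rfl
    have hw2 : ∏ i ∈ Finset.range (p + 1), (σ ^ i) ((m : MulAut V)⁻¹ d) ∈ V0 :=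
      prod_mem fun i _ => hpow i _ hw
    rw [e, hcomm m m.2 _ hw2, hy _ hw2 (prod_orbit_fixed σ hσ _)]
  rw [map_pow, ← Nat.card_eq_fintype_card] at hfix
  exact pow_injective hcop hfix

end Frob

section Setting

variable {V : Type u} [CommGroup V] [Finite V] {A : Type u} [CommGroup A] [Finite A]
  {p : ℕ} [hp : Fact p.Prime]

theorem zpowers_of_mem {a x : A} (hexp : ∀ c : A, c ^ p = 1) (hx : x ∈ zpowers a) (hx1 : x ≠ 1) :
    a ∈ zpowers x := by
  have ha1 : a ≠ 1 := fun h => hx1 (by rw [h, zpowers_one_eq_bot, mem_bot] at hx; exact hx)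
  have := eq_of_le_of_card_ge (zpowers_le.mpr hx) (by
    rw [Nat.card_zpowers, Nat.card_zpowers, orderOf_eq_prime (hexp a) ha1,
      orderOf_eq_prime (hexp x) hx1])
  exact this ▸ mem_zpowers a

theorem notMem_symm {c d : A} (hexp : ∀ c : A, c ^ p = 1) (hc : c ≠ 1) (hd : d ∉ zpowers c) :
    c ∉ zpowers d := fun h => hd (zpowers_of_mem hexp h hc)

theorem sup_eq_top {c d : A} (hcard : Nat.card A = p ^ 2) (hexp : ∀ c : A, c ^ p = 1) (hc : c ≠ 1)
    (hd : d ∉ zpowers c) : zpowers c ⊔ zpowers d = ⊤ := by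
  apply eq_top_of_card_eq
  have h1 := card_subgroup_dvd_card (zpowers c ⊔ zpowers d)
  rw [hcard] at h1 ⊢
  obtain ⟨k, hk, hk'⟩ := (Nat.dvd_prime_pow hp.out).mp h1
  rcases Nat.lt_or_ge k 2 with hlt | hge
  · exfalso
    have hzc : Nat.card (zpowers c) = p := by rw [Nat.card_zpowers, orderOf_eq_prime (hexp c) hc]
    have : zpowers c = zpowers c ⊔ zpowers d := eq_of_le_of_card_ge le_sup_left (by
      rw [hk', hzc]
      calc p ^ k ≤ p ^ 1 := Nat.pow_le_pow_right hp.out.pos (by omega)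
        _ = p := pow_one p)
    exact hd (this ▸ mem_sup_right (mem_zpowers d))
  · rw [hk', show k = 2 by omega]

/-- The data: an action of the four-group `A` on `V` with no common fixed point. -/
structure Act (V : Type u) [CommGroup V] (A : Type u) [CommGroup A] (p : ℕ) where
  ψ : A →* MulAut V
  card : Nat.card A = p ^ 2
  exp : ∀ c : A, c ^ p = 1
  fpf : ∀ v : V, (∀ c, ψ c v = v) → v = 1

variable (D : Act V A p)

theorem Act.conj_eq {c : A} {y : MulAut V} (h : Commute (D.ψ c) y) : D.ψ c * y * (D.ψ c)⁻¹ = y := by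
  rw [h.eq, mul_inv_cancel_right]

theorem Act.commute_ψ (c d : A) : Commute (D.ψ c) (D.ψ d) := (Commute.all c d).map D.ψ

theorem Act.fixed_of_two {c d : A} (hc : c ≠ 1) (hd : d ∉ zpowers c) {y : MulAut V}
    (h1 : Commute (D.ψ c) y) (h2 : Commute (D.ψ d) y) : ∀ e, Commute (D.ψ e) y := by
  let S : Subgroup A :=
    { carrier := {e | Commute (D.ψ e) y}
      one_mem' := by simp [Commute.one_left]
      mul_mem' := fun {a b} ha hb => by
        show Commute (D.ψ (a * b)) y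
        rw [map_mul]; exact ha.mul_left hb
      inv_mem' := fun {a} ha => by
        show Commute (D.ψ a⁻¹) y
        rw [map_inv]; exact ha.inv_left }
  have hS : (⊤ : Subgroup A) ≤ S := by
    rw [← sup_eq_top D.card D.exp hc hd]
    exact sup_le (zpowers_le.mpr h1) (zpowers_le.mpr h2)
  exact fun e => hS (mem_top e)

theorem Act.vfixed_of_two {c d : A} (hc : c ≠ 1) (hd : d ∉ zpowers c) {v : V}
    (h1 : D.ψ c v = v) (h2 : D.ψ d v = v) : v = 1 := by
  let S : Subgroup A :=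
    { carrier := {e | D.ψ e v = v}
      one_mem' := by simp
      mul_mem' := fun {a b} ha hb => by
        show D.ψ (a * b) v = v
        rw [map_mul, MulAut.mul_apply, hb, ha]
      inv_mem' := fun {a} ha => by
        show D.ψ a⁻¹ v = v
        conv_lhs => rw [← (ha : D.ψ a v = v)]
        rw [← MulAut.mul_apply, ← map_mul, inv_mul_cancel, map_one, MulAut.one_apply] }
  have hS : (⊤ : Subgroup A) ≤ S := by
    rw [← sup_eq_top D.card D.exp hc hd]
    exact sup_le (zpowers_le.mpr h1) (zpowers_le.mpr h2)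
  exact D.fpf v fun e => hS (mem_top e)

/-- Coprime generation by the centralizers of the non-identity elements. -/
theorem Act.gen (S : Subgroup (MulAut V)) (hS : ∀ c, ∀ y ∈ S, D.ψ c * y * (D.ψ c)⁻¹ ∈ S)
    (hcop : (Nat.card S).Coprime p) :
    S ≤ closure {y | y ∈ S ∧ ∃ c : A, c ≠ 1 ∧ Commute (D.ψ c) y} := by
  classical
  by_cases hinj : D.ψ.ker = ⊥
  swap
  · obtain ⟨c, hc⟩ := ne_bot_iff_exists_ne_one.mp hinj
    exact fun y hy => subset_closure ⟨hy, c, fun h => hc (Subtype.ext h),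
      by rw [MonoidHom.mem_ker.mp c.2]; exact Commute.one_left y⟩
  have hψ : Function.Injective D.ψ := (MonoidHom.ker_eq_bot_iff _).mp hinj
  have : IsMulCommutative D.ψ.range := ⟨⟨by
    rintro ⟨_, a, rfl⟩ ⟨_, b, rfl⟩
    exact Subtype.ext (D.commute_ψ a b).eq⟩⟩
  have hcard : Nat.card D.ψ.range = p ^ 2 := by
    rw [← Nat.card_congr (MonoidHom.ofInjective hψ).toEquiv, D.card]
  have hnorm : D.ψ.range ≤ normalizer (S : Set (MulAut V)) := by
    rintro _ ⟨c, rfl⟩
    rw [mem_normalizer_iff]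
    refine fun y => ⟨hS c y, fun h => ?_⟩
    have := hS c⁻¹ _ h
    simpa [map_inv, mul_assoc] using this
  refine (Lib.Coprime.le_iSup_centralizer_cocyclic S hnorm
    (hcard ▸ (hcop.symm.pow_left 2))).trans (iSup₂_le fun B hB => ?_)
  intro y hy
  obtain ⟨hyS, hyB⟩ := mem_inf.mp hy
  by_cases hB0 : B = ⊥
  · exfalso
    obtain ⟨hBA, a, ha, hBa⟩ := hB
    rw [hB0, bot_sup_eq] at hBa
    obtain ⟨c, rfl⟩ := ha
    have h2 : Nat.card D.ψ.range = orderOf (D.ψ c) := by rw [← Nat.card_zpowers, hBa]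
    have h3 : orderOf (D.ψ c) ∣ p := orderOf_dvd_of_pow_eq_one (by rw [← map_pow, D.exp, map_one])
    rw [← h2, hcard] at h3
    have := Nat.le_of_dvd hp.out.pos h3
    nlinarith [hp.out.two_le]
  · obtain ⟨b, hb⟩ := ne_bot_iff_exists_ne_one.mp hB0
    obtain ⟨c, hc⟩ := hB.1 b.2
    refine subset_closure ⟨hyS, c, fun h => hb (Subtype.ext ?_), ?_⟩
    · rw [← hc, h, map_one]; rfl
    · rw [hc]
      exact mem_centralizer_iff.mp hyB b b.2

variable (Q : Subgroup (MulAut V))

/-- `W` is `Q`-invariant, not centralized, and indecomposable for normal subgroups of `Q`. -/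
structure Atom (W : Subgroup V) : Prop where
  inv : ∀ y ∈ Q, ∀ w ∈ W, y w ∈ W
  moved : ∃ y ∈ Q, ∃ w ∈ W, y w ≠ w
  dich : ∀ N : Subgroup (MulAut V), N ≤ Q → (∀ q ∈ Q, ∀ n ∈ N, q * n * q⁻¹ ∈ N) →
    (∀ n ∈ N, ∀ w ∈ W, n w = w) ∨ W ≤ closure {z | ∃ n ∈ N, ∃ w ∈ W, n w * w⁻¹ = z}

/-- The elements of `Q` commuting with operators off the line of `d` fix `W`. -/
def Line (W : Subgroup V) (d : A) : Prop :=
  d ≠ 1 ∧ ∀ e, e ∉ zpowers d → ∀ y ∈ Q, Commute (D.ψ e) y → ∀ w ∈ W, y w = w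

/-- `g` induces the identity on `Q` modulo the kernel of `W`. -/
def Triv (W : Subgroup V) (g : MulAut V) : Prop :=
  (∀ y ∈ Q, g * y * g⁻¹ ∈ Q) ∧ ∀ y ∈ Q, ∀ w ∈ W, (g * y * g⁻¹ * y⁻¹) w = w

omit [Finite V] in
theorem Triv.mul {W : Subgroup V} {g h : MulAut V} (hg : Triv Q W g) (hh : Triv Q W h) :
    Triv Q W (g * h) := by
  refine ⟨fun y hy => ?_, fun y hy w hw => ?_⟩
  · rw [show g * h * y * (g * h)⁻¹ = g * (h * y * h⁻¹) * g⁻¹ by group]
    exact hg.1 _ (hh.1 y hy)
  · rw [show g * h * y * (g * h)⁻¹ * y⁻¹ =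
      (g * (h * y * h⁻¹) * g⁻¹ * (h * y * h⁻¹)⁻¹) * (h * y * h⁻¹ * y⁻¹) by group,
      MulAut.mul_apply, hh.2 y hy w hw, hg.2 _ (hh.1 y hy) w hw]

omit [Finite V] in
theorem Triv.one (W : Subgroup V) : Triv Q W 1 :=
  ⟨fun y hy => by simpa using hy, fun y _ w _ => by simp⟩

theorem Triv.pow {W : Subgroup V} {g : MulAut V} (hg : Triv Q W g) (n : ℕ) : Triv Q W (g ^ n) := by
  induction n with
  | zero => rw [pow_zero]; exact Triv.one Q W
  | succ n ih => rw [pow_succ]; exact ih.mul Q hg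

theorem Triv.inv' {W : Subgroup V} {g : MulAut V} (hg : Triv Q W g) : Triv Q W g⁻¹ := by
  have : g⁻¹ = g ^ (orderOf g - 1) := by
    refine inv_eq_of_mul_eq_one_right ?_
    rw [← pow_succ', Nat.sub_add_cancel (orderOf_pos g), pow_orderOf_eq_one]
  rw [this]; exact hg.pow Q _

theorem map_lowerCentralSeries {G K : Type*} [Group G] [Group K] (f : G →* K) (S : Subgroup G) :
    ∀ n, (S.lowerCentralSeries n).map f = (S.map f).lowerCentralSeries n := by
  intro n
  induction n with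
  | zero => rfl
  | succ n ih => rw [Subgroup.lowerCentralSeries_succ, map_commutator, ih]; rfl

variable {Q}

/-- The hypotheses on `Q`. -/
structure Good (Q : Subgroup (MulAut V)) : Prop where
  nil : Group.IsNilpotent Q
  cV : (Nat.card V).Coprime (Nat.card Q)
  cp : (Nat.card Q).Coprime p
  inv : ∀ c, ∀ y ∈ Q, D.ψ c * y * (D.ψ c)⁻¹ ∈ Q
  fpf : ∀ y ∈ Q, (∀ c, Commute (D.ψ c) y) → y = 1

theorem fpf_pow {M : Subgroup (MulAut V)} (hfpf : ∀ y ∈ M, (∀ c, Commute (D.ψ c) y) → y = 1)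
    {c e : A} (he : e ∉ zpowers c) (hc : c ≠ 1) (hM : ∀ y ∈ M, Commute (D.ψ c) y) :
    ∀ i, 0 < i → i < p → ∀ m ∈ M, D.ψ e ^ i * m * (D.ψ e ^ i)⁻¹ = m → m = 1 := by
  intro i h0 hi m hm h
  refine hfpf m hm (D.fixed_of_two hc (d := e ^ i) (fun h1 => he ?_) (hM m hm) ?_)
  · have hne : e ^ i ≠ 1 := fun h2 => by
      have he1 : e ≠ 1 := fun h3 => he (h3 ▸ one_mem _)
      have := Nat.le_of_dvd h0 (orderOf_eq_prime (D.exp e) he1 ▸ orderOf_dvd_of_pow_eq_one h2)
      omega
    exact zpowers_le.mpr h1 (zpowers_of_mem D.exp (pow_mem (mem_zpowers e) i) hne)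
  · rw [map_pow]; exact mul_inv_eq_iff_eq_mul.mp h

/-- Elements commuting with `ψ e` fix its fixed points. -/
theorem Good.trivial_on_fixed (hQ : Good D Q) {e : A} (he : e ≠ 1) {y : MulAut V} (hy : y ∈ Q)
    (hye : Commute (D.ψ e) y) {v : V} (hv : D.ψ e v = v) : y v = v := by
  obtain ⟨d, hd⟩ : ∃ d, d ∉ zpowers e := by
    by_contra h
    push Not at h
    have := congrArg (fun S : Subgroup A => Nat.card S) (eq_top_iff.mpr fun x _ => h x)
    simp only [card_top, Nat.card_zpowers, orderOf_eq_prime (D.exp e) he, D.card] at this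
    nlinarith [hp.out.two_le]
  let M : Subgroup (MulAut V) := Q ⊓ centralizer {D.ψ e}
  let W : Subgroup V := (D.ψ e).toMonoidHom.eqLocus (MonoidHom.id V)
  have hMc : ∀ m ∈ M, Commute (D.ψ e) m := fun m hm =>
    (mem_centralizer_singleton_iff.mp (mem_inf.mp hm).2).symm
  obtain ⟨k, hk⟩ : ∃ k, p = k + 1 := ⟨p - 1, by have := hp.out.pos; omega⟩
  refine frob M (D.ψ d) (p := k) (by rw [← hk, ← map_pow, D.exp, map_one]) (fun m hm => ?_)
    (fun i h0 hi => fpf_pow D (fun y hy => hQ.fpf y (mem_inf.mp hy).1) hd he hMc i h0 (hk ▸ hi))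
    (hQ.cV.coprime_dvd_right (card_dvd_of_le inf_le_left)) W (fun m hm w hw => ?_) (fun w hw => ?_)
    (fun w hw h => D.vfixed_of_two he hd hw h) y
    (mem_inf.mpr ⟨hy, mem_centralizer_singleton_iff.mpr hye.eq.symm⟩) v hv
  · refine mem_inf.mpr ⟨hQ.inv d m (mem_inf.mp hm).1, mem_centralizer_singleton_iff.mpr ?_⟩
    exact (((D.commute_ψ e d).mul_right (hMc m hm)).mul_right (D.commute_ψ e d).inv_right).eq.symm
  · show D.ψ e (m w) = m w
    have hw' : D.ψ e w = w := hw
    rw [← MulAut.mul_apply, (hMc m hm).eq, MulAut.mul_apply, hw']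
  · show D.ψ e (D.ψ d w) = D.ψ d w
    have hw' : D.ψ e w = w := hw
    rw [← MulAut.mul_apply, (D.commute_ψ e d).eq, MulAut.mul_apply, hw']

theorem lcs_le (Q : Subgroup (MulAut V)) : ∀ n, Q.lowerCentralSeries n ≤ Q
  | 0 => le_rfl
  | n + 1 => (commutator_mono (lcs_le Q n) le_rfl).trans (commutator_le_self Q)

theorem lcs_conj {Q : Subgroup (MulAut V)} {g : MulAut V}
    (hg : Q.map (MulAut.conj g).toMonoidHom = Q) (n : ℕ) {y : MulAut V}
    (hy : y ∈ Q.lowerCentralSeries n) : g * y * g⁻¹ ∈ Q.lowerCentralSeries n := by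
  have h := mem_map_of_mem (MulAut.conj g).toMonoidHom hy
  rw [map_lowerCentralSeries, hg] at h
  exact h

/-- Every atom has a line. -/
theorem Good.exists_line (hQ : Good D Q) {W : Subgroup V} (hW : Atom Q W) : ∃ d, Line D Q W d := by
  classical
  have hconj : ∀ g : MulAut V, (∀ y ∈ Q, g * y * g⁻¹ ∈ Q) → Q.map (MulAut.conj g).toMonoidHom = Q :=
    fun g hg => eq_of_le_of_card_ge (by rintro _ ⟨y, hy, rfl⟩; exact hg y hy)
      (card_map_of_injective (MulAut.conj g).injective).ge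
  have hex : ∃ n, ∀ z ∈ Q.lowerCentralSeries n, ∀ w ∈ W, z w = w := by
    obtain ⟨n, hn⟩ := (Subgroup.isNilpotent_iff_lowerCentralSeries (S := Q)).mp hQ.nil
    refine ⟨n, fun z hz w _ => ?_⟩
    rw [hn, mem_bot] at hz
    rw [hz, MulAut.one_apply]
  obtain ⟨j, hj⟩ : ∃ j, Nat.find hex = j + 1 := by
    refine ⟨Nat.find hex - 1, (Nat.succ_pred_eq_of_ne_zero ?_).symm⟩
    intro h
    obtain ⟨y, hy, w, hw, hne⟩ := hW.moved
    exact hne ((h ▸ Nat.find_spec hex) y hy w hw)
  set G1 := Q.lowerCentralSeries (j + 1) with hG1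
  set G0 := Q.lowerCentralSeries j with hG0
  have hfix1 : ∀ z ∈ G1, ∀ w ∈ W, z w = w := by
    have h := Nat.find_spec hex
    rw [hj] at h
    exact h
  have hG0c : ∀ c, ∀ y ∈ G0, D.ψ c * y * (D.ψ c)⁻¹ ∈ G0 := fun c y hy =>
    lcs_conj (hconj _ (hQ.inv c)) j hy
  have hgen := D.gen G0 hG0c (hQ.cp.coprime_dvd_left (card_dvd_of_le (lcs_le Q j)))
  obtain ⟨n0, ⟨hn0, d, hd, hn0d⟩, hn0W⟩ :
      ∃ n0 ∈ {y | y ∈ G0 ∧ ∃ c : A, c ≠ 1 ∧ Commute (D.ψ c) y}, ¬ ∀ w ∈ W, n0 w = w := by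
    by_contra h
    push Not at h
    let S : Subgroup (MulAut V) :=
      { carrier := {z | ∀ w ∈ W, z w = w}
        one_mem' := fun w _ => rfl
        mul_mem' := fun {a b} ha hb w hw => by rw [MulAut.mul_apply, hb w hw, ha w hw]
        inv_mem' := fun {a} ha w hw => by
          conv_lhs => rw [← ha w hw]
          rw [← MulAut.mul_apply, inv_mul_cancel, MulAut.one_apply] }
    have hle : G0 ≤ S := hgen.trans ((closure_le S).mpr h)
    exact Nat.find_min hex (show j < Nat.find hex by omega) fun z hz => hle hz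
  refine ⟨d, hd, fun e he y hy hye => ?_⟩
  let V0 : Subgroup V :=
    { carrier := {v | ∀ z ∈ G1, z v = v}
      one_mem' := fun z _ => map_one z
      mul_mem' := fun {a b} ha hb z hz => by rw [map_mul, ha z hz, hb z hz]
      inv_mem' := fun {a} ha z hz => by rw [map_inv, ha z hz] }
  have hWV0 : W ≤ V0 := fun w hw z hz => hfix1 z hz w hw
  have hV0 : ∀ g : MulAut V, (∀ y ∈ Q, g⁻¹ * y * g ∈ Q) → ∀ v ∈ V0, g v ∈ V0 := by
    intro g hg v hv z hz
    have h1 := lcs_conj (hconj g⁻¹ (by simpa using hg)) (j + 1) hz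
    rw [inv_inv] at h1
    have h2 := hv _ h1
    calc z (g v) = g ((g⁻¹ * z * g) v) := by simp [MulAut.mul_apply]
      _ = g v := by rw [h2]
  let N : Subgroup (MulAut V) := G0 ⊓ centralizer {D.ψ d}
  have hNc : ∀ n ∈ N, Commute (D.ψ d) n := fun n hn =>
    (mem_centralizer_singleton_iff.mp (mem_inf.mp hn).2).symm
  have hNQ : N ≤ Q := inf_le_left.trans (lcs_le Q j)
  have hcomm : ∀ q ∈ Q, ∀ n ∈ G0, ⁅n, q⁆ ∈ G1 := fun q hq n hn => by
    rw [hG1, Subgroup.lowerCentralSeries_succ]; exact commutator_mem_commutator hn hq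
  have hG1G0 : G1 ≤ G0 := by
    rw [hG1, Subgroup.lowerCentralSeries_succ]
    refine commutator_le.mpr fun n hn q hq => ?_
    rw [commutatorElement_def, show n * q * n⁻¹ * q⁻¹ = n * (q * n⁻¹ * q⁻¹) by group]
    exact mul_mem hn (by
      have := lcs_conj (hconj q fun y hy => mul_mem (mul_mem hq hy) (inv_mem hq)) j (inv_mem hn)
      simpa [mul_assoc] using this)
  have hN'n : ∀ q ∈ Q, ∀ n ∈ N ⊔ G1, q * n * q⁻¹ ∈ N ⊔ G1 := by
    intro q hq n hn
    have hn0' : n ∈ G0 := (sup_le inf_le_left hG1G0) hn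
    rw [show q * n * q⁻¹ = ⁅n, q⁆⁻¹ * n by rw [commutatorElement_def]; group]
    exact mul_mem (mem_sup_right (inv_mem (hcomm q hq n hn0'))) hn
  rcases hW.dich (N ⊔ G1) (sup_le hNQ (lcs_le Q (j + 1))) hN'n with hfix | hgenW
  · exact absurd (hfix n0 (mem_sup_left (mem_inf.mpr
      ⟨hn0, mem_centralizer_singleton_iff.mpr hn0d.eq.symm⟩))) hn0W
  have hV0Q : ∀ q ∈ Q, ∀ v ∈ V0, q v ∈ V0 := fun q hq =>
    hV0 q fun z hz => mul_mem (mul_mem (inv_mem hq) hz) hq
  have he1 : e ≠ 1 := fun h => he (h ▸ one_mem _)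
  obtain ⟨k, hk⟩ : ∃ k, p = k + 1 := ⟨p - 1, by have := hp.out.pos; omega⟩
  have hspan : ∀ n ∈ N, ∀ u ∈ V0, y (n u * u⁻¹) = n u * u⁻¹ := by
    intro n hn u hu
    refine span_fix N (D.ψ e) (p := k) (by rw [← hk, ← map_pow, D.exp, map_one]) (fun m hm => ?_)
      (fun i h0 hi => fpf_pow D (fun z hz => hQ.fpf z (hNQ hz)) he hd hNc i h0 (hk ▸ hi))
      (hQ.cV.coprime_dvd_right (card_dvd_of_le hNQ)) V0 (fun m hm => hV0Q m (hNQ hm))
      (hV0 _ fun z hz => by simpa using hQ.inv e⁻¹ z hz) y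
      (fun w _ hfix => hQ.trivial_on_fixed D he1 hy hye hfix) (fun m hm w hw => ?_) hn hu
    · refine mem_inf.mpr ⟨hG0c e m (mem_inf.mp hm).1, mem_centralizer_singleton_iff.mpr ?_⟩
      exact (((D.commute_ψ d e).mul_right (hNc m hm)).mul_right (D.commute_ψ d e).inv_right).eq.symm
    · have h1 : ⁅m, y⁆ ∈ G1 := hcomm y hy m (mem_inf.mp hm).1
      have h2 : y (m w) ∈ V0 := hV0Q y hy _ (hV0Q m (hNQ hm) w hw)
      have := h2 _ h1
      rw [← MulAut.mul_apply, ← MulAut.mul_apply, show ⁅m, y⁆ * y * m = m * y by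
        rw [commutatorElement_def]; group, MulAut.mul_apply] at this
      exact this.symm
  let S : Subgroup V := y.toMonoidHom.eqLocus (MonoidHom.id V)
  intro w hw
  refine ((closure_le S).mpr ?_) (hgenW hw)
  rintro _ ⟨n, hn, u, hu, rfl⟩
  let T : Subgroup (MulAut V) :=
    { carrier := {g | g ∈ Q ∧ ∃ m ∈ N, ∀ v ∈ V0, g v = m v}
      one_mem' := ⟨one_mem Q, 1, one_mem N, fun v _ => rfl⟩
      mul_mem' := fun {a b} ha hb => by
        obtain ⟨haQ, m, hm, hma⟩ := ha
        obtain ⟨hbQ, m', hm', hmb⟩ := hb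
        refine ⟨mul_mem haQ hbQ, m * m', mul_mem hm hm', fun v hv => ?_⟩
        rw [MulAut.mul_apply, MulAut.mul_apply, hmb v hv, hma _ (hV0Q m' (hNQ hm') v hv)]
      inv_mem' := fun {a} ha => by
        obtain ⟨haQ, m, hm, hma⟩ := ha
        refine ⟨inv_mem haQ, m⁻¹, inv_mem hm, fun v hv => ?_⟩
        apply a.injective
        rw [hma _ (hV0Q m⁻¹ (hNQ (inv_mem hm)) v hv), ← MulAut.mul_apply, ← MulAut.mul_apply,
          mul_inv_cancel, mul_inv_cancel] }
  obtain ⟨-, m, hm, hma⟩ := (sup_le (show N ≤ T from fun g hg => ⟨hNQ hg, g, hg, fun v _ => rfl⟩)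
    (show G1 ≤ T from fun g hg => ⟨lcs_le Q _ hg, 1, one_mem N, fun v hv => hv g hg⟩)) hn
  show y (n u * u⁻¹) = n u * u⁻¹
  rw [hma u (hWV0 hu)]
  exact hspan m hm u (hWV0 hu)

/-- Two independent lines cannot occur. -/
theorem Good.line_unique (hQ : Good D Q) {W : Subgroup V} (hW : Atom Q W) {d d' : A}
    (h : Line D Q W d) (h' : Line D Q W d') : d' ∈ zpowers d := by
  by_contra hne
  obtain ⟨y, hy, w, hw, hmv⟩ := hW.moved
  let S : Subgroup (MulAut V) :=
    { carrier := {z | ∀ w ∈ W, z w = w}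
      one_mem' := fun w _ => rfl
      mul_mem' := fun {a b} ha hb w hw => by rw [MulAut.mul_apply, hb w hw, ha w hw]
      inv_mem' := fun {a} ha w hw => by
        conv_lhs => rw [← ha w hw]
        rw [← MulAut.mul_apply, inv_mul_cancel, MulAut.one_apply] }
  refine hmv (((D.gen Q hQ.inv hQ.cp).trans ((closure_le S).mpr ?_)) hy w hw)
  rintro z ⟨hz, c, hc, hzc⟩
  by_cases hcd : c ∈ zpowers d
  · refine h'.2 c (fun hcd' => hne ?_) z hz hzc
    exact zpowers_le.mpr hcd (zpowers_of_mem D.exp hcd' hc)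
  · exact h.2 c hcd z hz hzc

/-- The subgroup of `Q` of elements moved by `g` only within the kernel of `W`. -/
theorem Good.triv_of (hQ : Good D Q) {W : Subgroup V} (hW : Atom Q W) {g : MulAut V}
    (hg : ∀ y ∈ Q, g * y * g⁻¹ ∈ Q)
    (h : ∀ c : A, c ≠ 1 → ∀ y ∈ Q, Commute (D.ψ c) y → ∀ w ∈ W, (g * y * g⁻¹ * y⁻¹) w = w) :
    Triv Q W g := by
  refine ⟨hg, fun y hy => ?_⟩
  let S : Subgroup (MulAut V) :=
    { carrier := {z | z ∈ Q ∧ ∀ w ∈ W, (g * z * g⁻¹ * z⁻¹) w = w}
      one_mem' := ⟨one_mem Q, fun w _ => by simp⟩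
      mul_mem' := fun {a b} ha hb => by
        refine ⟨mul_mem ha.1 hb.1, fun w hw => ?_⟩
        have h1 := hW.inv _ (inv_mem ha.1) w hw
        rw [show g * (a * b) * g⁻¹ * (a * b)⁻¹ =
          g * a * g⁻¹ * (g * b * g⁻¹ * b⁻¹) * a⁻¹ by group, MulAut.mul_apply, MulAut.mul_apply,
          hb.2 _ h1, ← MulAut.mul_apply, ha.2 w hw]
      inv_mem' := fun {a} ha => by
        refine ⟨inv_mem ha.1, fun w hw => ?_⟩
        have h1 := ha.2 _ (hW.inv a ha.1 w hw)
        rw [← MulAut.mul_apply, show g * a * g⁻¹ * a⁻¹ * a = g * a * g⁻¹ by group] at h1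
        apply (g * a * g⁻¹).injective
        rw [h1, ← MulAut.mul_apply]
        congr 1
        group }
  exact ((D.gen Q hQ.inv hQ.cp).trans ((closure_le S).mpr
    fun z ⟨hz, c, hc, hzc⟩ => ⟨hz, h c hc z hz hzc⟩) hy).2

theorem Good.line_triv (hQ : Good D Q) {W : Subgroup V} (hW : Atom Q W) {d : A}
    (h : Line D Q W d) : Triv Q W (D.ψ d) := by
  refine hQ.triv_of D hW (hQ.inv d) fun c hc y hy hyc w hw => ?_
  by_cases hcd : c ∈ zpowers d
  · obtain ⟨k, hk⟩ := zpowers_of_mem D.exp hcd hc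
    have hyd : Commute (D.ψ d) y := by rw [← hk, map_zpow]; exact hyc.zpow_left k
    rw [D.conj_eq hyd, mul_inv_cancel, MulAut.one_apply]
  · have h1 : Commute (D.ψ c) (D.ψ d * y * (D.ψ d)⁻¹ * y⁻¹) :=
      (((D.commute_ψ c d).mul_right hyc).mul_right (D.commute_ψ c d).inv_right).mul_right hyc.inv_right
    exact h.2 c hcd _ (mul_mem (hQ.inv d y hy) (inv_mem hy)) h1 w hw

theorem Atom.map {W : Subgroup V} (hW : Atom Q W) {x : MulAut V}
    (hx : ∀ y ∈ Q, x * y * x⁻¹ ∈ Q) (hx' : ∀ y ∈ Q, x⁻¹ * y * x ∈ Q) :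
    Atom Q (W.map x.toMonoidHom) where
  inv := by
    rintro y hy _ ⟨w, hw, rfl⟩
    refine ⟨(x⁻¹ * y * x) w, hW.inv _ (hx' y hy) w hw, ?_⟩
    show x ((x⁻¹ * y * x) w) = y (x w)
    simp [MulAut.mul_apply]
  moved := by
    obtain ⟨y, hy, w, hw, hne⟩ := hW.moved
    refine ⟨x * y * x⁻¹, hx y hy, x w, mem_map_of_mem _ hw, fun h => hne (x.injective ?_)⟩
    simpa [MulAut.mul_apply] using h
  dich := by
    intro N hN hNn
    let N' : Subgroup (MulAut V) := N.map (MulAut.conj x⁻¹).toMonoidHom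
    have hN' : ∀ n, n ∈ N' ↔ x * n * x⁻¹ ∈ N := fun n => by
      constructor
      · rintro ⟨m, hm, rfl⟩
        simpa [mul_assoc] using hm
      · intro h
        exact ⟨_, h, by simp [mul_assoc]⟩
    rcases hW.dich N' (fun n hn => by simpa [mul_assoc] using hx' _ (hN ((hN' n).mp hn)))
      (fun q hq n hn => (hN' _).mpr (by
        rw [show x * (q * n * q⁻¹) * x⁻¹ = x * q * x⁻¹ * (x * n * x⁻¹) * (x * q * x⁻¹)⁻¹ by group]
        exact hNn _ (hx q hq) _ ((hN' n).mp hn))) with h | h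
    · refine Or.inl ?_
      rintro n hn _ ⟨w, hw, rfl⟩
      have := congrArg x (h (x⁻¹ * n * x) ((hN' _).mpr (by simpa [mul_assoc] using hn)) w hw)
      simpa [MulAut.mul_apply] using this
    · refine Or.inr ((map_mono h).trans ?_)
      rw [MonoidHom.map_closure]
      refine closure_mono ?_
      rintro _ ⟨_, ⟨n, hn, w, hw, rfl⟩, rfl⟩
      refine ⟨_, (hN' n).mp hn, x w, mem_map_of_mem _ hw, ?_⟩
      simp [MulAut.mul_apply]

/-- The key step. -/
theorem Good.commute_of (hQ : Good D Q) {a : A} (ha : a ≠ 1) (R : Subgroup (MulAut V))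
    (hRQ : ∀ x ∈ R, ∀ y ∈ Q, x * y * x⁻¹ ∈ Q) (hRa : ∀ x ∈ R, Commute (D.ψ a) x)
    (hRA : ∀ c, ∀ x ∈ R, D.ψ c * x * (D.ψ c)⁻¹ ∈ R) (hRp : (Nat.card R).Coprime p)
    (hRfpf : ∀ x ∈ R, (∀ c, Commute (D.ψ c) x) → x = 1)
    (hCa : ∀ x ∈ R, ∀ y ∈ Q, Commute (D.ψ a) y → Commute x y) :
    ∀ x ∈ R, ∀ y ∈ Q, Commute x y := by
  classical
  intro x hx y hy
  by_contra hne
  set k := x * y * x⁻¹ * y⁻¹ with hk
  have hkQ : k ∈ Q := mul_mem (hRQ x hx y hy) (inv_mem hy)
  have hk1 : k ≠ 1 := fun h => hne (mul_inv_eq_iff_eq_mul.mp (mul_inv_eq_one.mp h))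
  obtain ⟨v, hv⟩ : ∃ v, k v ≠ v := by
    by_contra h
    push Not at h
    exact hk1 (MulEquiv.ext h)
  obtain ⟨W, ⟨hWinv, w0, hw0, hkw⟩, hmin⟩ := (Set.toFinite
    {W : Subgroup V | (∀ z ∈ Q, ∀ w ∈ W, z w ∈ W) ∧ ∃ w ∈ W, k w ≠ w}).exists_minimal
    ⟨⊤, fun z _ w _ => mem_top _, v, mem_top v, hv⟩
  have hW : Atom Q W := by
    refine ⟨hWinv, ⟨k, hkQ, w0, hw0, hkw⟩, fun N hN hNn => ?_⟩
    by_contra hboth
    rw [not_or] at hboth
    let C : Subgroup V :=
      { carrier := {w | w ∈ W ∧ ∀ n ∈ N, n w = w}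
        one_mem' := ⟨one_mem W, fun n _ => map_one n⟩
        mul_mem' := fun {a b} ha hb => ⟨mul_mem ha.1 hb.1, fun n hn => by
          rw [map_mul, ha.2 n hn, hb.2 n hn]⟩
        inv_mem' := fun {a} ha => ⟨inv_mem ha.1, fun n hn => by rw [map_inv, ha.2 n hn]⟩ }
    set E := closure {z | ∃ n ∈ N, ∃ w ∈ W, n w * w⁻¹ = z} with hE
    have hEW : E ≤ W := by
      rw [hE, closure_le]
      rintro _ ⟨n, hn, w, hw, rfl⟩
      exact mul_mem (hWinv n (hN hn) w hw) (inv_mem hw)
    have hfix : ∀ S : Subgroup V, S ≤ W → (∀ z ∈ Q, ∀ w ∈ S, z w ∈ S) → ¬ W ≤ S →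
        ∀ w ∈ S, k w = w := by
      intro S hSW hS hne w hw
      by_contra hkw'
      exact hne (hmin ⟨hS, w, hw, hkw'⟩ hSW)
    have hC : ∀ w ∈ C, k w = w := by
      refine hfix C (fun w hw => hw.1) (fun z hz w hw => ⟨hWinv z hz w hw.1, fun n hn => ?_⟩)
        (fun hle => hboth.1 fun n hn w hw => (hle hw).2 n hn)
      have h1 := hw.2 _ (hNn z⁻¹ (inv_mem hz) n hn)
      have h2 := congrArg z h1
      simpa [MulAut.mul_apply] using h2
    have hEk : ∀ w ∈ E, k w = w := by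
      refine hfix E hEW (fun z hz w hw => ?_) (fun hle => hboth.2 hle)
      have : E ≤ E.comap z.toMonoidHom := by
        rw [hE, closure_le]
        rintro _ ⟨n, hn, w, hw, rfl⟩
        refine subset_closure ⟨_, hNn z hz n hn, z w, hWinv z hz w hw, ?_⟩
        simp [MulAut.mul_apply]
      exact this hw
    have := Fintype.ofFinite N
    have hT : tr N w0 ∈ C := ⟨prod_mem fun n _ => hWinv _ (hN n.2) w0 hw0,
      fun n hn => tr_fixed N hn w0⟩
    have hP : ∏ n : N, ((n : MulAut V) w0 * w0⁻¹) ∈ E :=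
      prod_mem fun n _ => subset_closure ⟨n, n.2, w0, hw0, rfl⟩
    have hpow : w0 ^ Fintype.card N = tr N w0 * (∏ n : N, ((n : MulAut V) w0 * w0⁻¹))⁻¹ := by
      rw [Finset.prod_mul_distrib, Finset.prod_const, Finset.card_univ, tr, mul_inv, inv_pow,
        inv_inv, mul_inv_cancel_left]
    have h1 : k (w0 ^ Fintype.card N) = w0 ^ Fintype.card N := by
      rw [hpow, map_mul, map_inv, hC _ hT, hEk _ hP]
    rw [map_pow, ← Nat.card_eq_fintype_card] at h1
    exact hkw (pow_injective (hQ.cV.coprime_dvd_right (card_dvd_of_le hN)) h1)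
  have hRQ' : ∀ x ∈ R, ∀ y ∈ Q, x⁻¹ * y * x ∈ Q := fun x hx y hy => by
    simpa using hRQ x⁻¹ (inv_mem hx) y hy
  have haR : ∀ {z : MulAut V}, z ∈ R → ∀ i : ℕ, Commute (D.ψ (a ^ i)) z := fun hz i => by
    rw [map_pow]; exact (hRa _ hz).pow_left i
  have step : ∀ W' : Subgroup V, Atom Q W' → ∀ d, Line D Q W' d → d ∉ zpowers a →
      ∀ z ∈ R, Triv Q W' z := by
    intro W' hW' d hd hda
    have hLd := hQ.line_triv D hW' hd
    have hda' : a ∉ zpowers d := notMem_symm D.exp ha hda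
    have hna : ¬ Triv Q W' (D.ψ a) := by
      intro hLa
      obtain ⟨y, hy, w, hw, hmv⟩ := hW'.moved
      let S : Subgroup (MulAut V) :=
        { carrier := {z | ∀ w ∈ W', z w = w}
          one_mem' := fun w _ => rfl
          mul_mem' := fun {a b} ha hb w hw => by rw [MulAut.mul_apply, hb w hw, ha w hw]
          inv_mem' := fun {a} ha w hw => by
            conv_lhs => rw [← ha w hw]
            rw [← MulAut.mul_apply, inv_mul_cancel, MulAut.one_apply] }
      refine hmv (((D.gen Q hQ.inv hQ.cp).trans ((closure_le S).mpr ?_)) hy w hw)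
      rintro z ⟨hz, c, hc, hzc⟩
      by_cases hcd : c ∈ zpowers d
      · let M : Subgroup (MulAut V) := Q ⊓ centralizer {D.ψ c}
        let f : M → M := fun m => ⟨D.ψ a * m * (D.ψ a)⁻¹ * (m : MulAut V)⁻¹, by
          obtain ⟨hm1, hm2⟩ := mem_inf.mp m.2
          refine mem_inf.mpr ⟨mul_mem (hQ.inv a _ hm1) (inv_mem hm1),
            mem_centralizer_singleton_iff.mpr ?_⟩
          have hcm : Commute (D.ψ c) (m : MulAut V) := (mem_centralizer_singleton_iff.mp hm2).symm
          exact ((((D.commute_ψ c a).mul_right hcm).mul_right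
            (D.commute_ψ c a).inv_right).mul_right hcm.inv_right).eq.symm⟩
        have hf : Function.Surjective f := Finite.surjective_of_injective fun m m' hmm => by
          have h1 : D.ψ a * m * (D.ψ a)⁻¹ * (m : MulAut V)⁻¹ =
              D.ψ a * m' * (D.ψ a)⁻¹ * (m' : MulAut V)⁻¹ := congrArg Subtype.val hmm
          have h2 : D.ψ a * ((m' : MulAut V)⁻¹ * m) * (D.ψ a)⁻¹ = (m' : MulAut V)⁻¹ * m := by
            have h3 := congrArg (fun z => D.ψ a * (m' : MulAut V)⁻¹ * (D.ψ a)⁻¹ * z * (m : MulAut V)) h1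
            simpa [mul_assoc] using h3
          obtain ⟨hm1, hm2⟩ := mem_inf.mp m.2
          obtain ⟨hm1', hm2'⟩ := mem_inf.mp m'.2
          have hcm : Commute (D.ψ c) ((m' : MulAut V)⁻¹ * m) :=
            (show Commute (D.ψ c) (m' : MulAut V) from (mem_centralizer_singleton_iff.mp hm2').symm).inv_right.mul_right
              (mem_centralizer_singleton_iff.mp hm2).symm
          have hac : a ∉ zpowers c := fun h => hda' (zpowers_le.mpr hcd h)
          have := hQ.fpf _ (mul_mem (inv_mem hm1') hm1)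
            (D.fixed_of_two hc hac hcm (mul_inv_eq_iff_eq_mul.mp h2))
          exact Subtype.ext (inv_mul_eq_one.mp this).symm
        obtain ⟨m, hm⟩ := hf ⟨z, mem_inf.mpr ⟨hz, mem_centralizer_singleton_iff.mpr hzc.eq.symm⟩⟩
        intro w hw
        have hmz : D.ψ a * m * (D.ψ a)⁻¹ * (m : MulAut V)⁻¹ = z := congrArg Subtype.val hm
        rw [← hmz]
        exact hLa.2 m (mem_inf.mp m.2).1 w hw
      · exact hd.2 c hcd z hz hzc
    intro z hz
    let f : R → R := fun m => ⟨(m : MulAut V)⁻¹ * (D.ψ d * m * (D.ψ d)⁻¹),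
      mul_mem (inv_mem m.2) (hRA d m m.2)⟩
    have hf : Function.Surjective f := Finite.surjective_of_injective fun m m' hmm => by
      have h1 : (m : MulAut V)⁻¹ * (D.ψ d * m * (D.ψ d)⁻¹) =
          (m' : MulAut V)⁻¹ * (D.ψ d * m' * (D.ψ d)⁻¹) := congrArg Subtype.val hmm
      have h2 : D.ψ d * ((m : MulAut V) * (m' : MulAut V)⁻¹) * (D.ψ d)⁻¹ =
          (m : MulAut V) * (m' : MulAut V)⁻¹ := by
        have h3 := congrArg (fun z => (m : MulAut V) * z * (D.ψ d * (m' : MulAut V) * (D.ψ d)⁻¹)⁻¹) h1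
        simpa [mul_assoc] using h3
      have hmem := mul_mem m.2 (inv_mem m'.2)
      exact Subtype.ext (mul_inv_eq_one.mp (hRfpf _ hmem
        (D.fixed_of_two ha hda (hRa _ hmem) (mul_inv_eq_iff_eq_mul.mp h2))))
    obtain ⟨m, hm⟩ := hf ⟨z, hz⟩
    have hzm : (m : MulAut V)⁻¹ * (D.ψ d * m * (D.ψ d)⁻¹) = z := congrArg Subtype.val hm
    -- the line of the translate
    obtain ⟨c', hc'⟩ := hQ.exists_line D (hW'.map (hRQ m m.2) (hRQ' m m.2))
    have hLc' : Triv Q W' ((m : MulAut V)⁻¹ * D.ψ c' * m) := by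
      have h := hQ.line_triv D (hW'.map (hRQ m m.2) (hRQ' m m.2)) hc'
      refine ⟨fun y hy => ?_, fun y hy w hw => ?_⟩
      · rw [show (m : MulAut V)⁻¹ * D.ψ c' * m * y * ((m : MulAut V)⁻¹ * D.ψ c' * m)⁻¹ =
          (m : MulAut V)⁻¹ * (D.ψ c' * (m * y * (m : MulAut V)⁻¹) * (D.ψ c')⁻¹) * m by group]
        exact hRQ' m m.2 _ (h.1 _ (hRQ m m.2 y hy))
      · have h2 := h.2 _ (hRQ m m.2 y hy) _ (mem_map_of_mem _ hw)
        apply (m : MulAut V).injective
        rw [← MulAut.mul_apply, show (m : MulAut V) * ((m : MulAut V)⁻¹ * D.ψ c' * m * y *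
          ((m : MulAut V)⁻¹ * D.ψ c' * m)⁻¹ * y⁻¹) = D.ψ c' * (m * y * (m : MulAut V)⁻¹) *
          (D.ψ c')⁻¹ * (m * y * (m : MulAut V)⁻¹)⁻¹ * m by group, MulAut.mul_apply]
        exact h2
    -- it is a power of `d`
    have hc'mem : c' ∈ zpowers a ⊔ zpowers d := by rw [sup_eq_top D.card D.exp ha hda]; exact mem_top _
    obtain ⟨a', ha', d', hd', rfl⟩ := mem_sup.mp hc'mem
    obtain ⟨i, rfl⟩ := mem_zpowers_iff_mem_range_orderOf.mp ha' |> fun h =>
      (⟨_, (Finset.mem_image.mp h).choose_spec.2.symm⟩ : ∃ i : ℕ, a' = a ^ i)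
    obtain ⟨j, rfl⟩ : ∃ j : ℕ, d' = d ^ j :=
      ⟨_, (Finset.mem_image.mp (mem_zpowers_iff_mem_range_orderOf.mp hd')).choose_spec.2.symm⟩
    set r := (m : MulAut V)⁻¹ * (D.ψ (d ^ j) * m * (D.ψ (d ^ j))⁻¹) with hr
    have hrR : r ∈ R := mul_mem (inv_mem m.2) (hRA _ m m.2)
    have hai : Triv Q W' (D.ψ (a ^ i) * r) := by
      have h3 := hLc'.mul Q ((hLd.pow Q j).inv' Q)
      rw [← map_pow] at h3
      rw [show D.ψ (a ^ i) * r =
        (m : MulAut V)⁻¹ * D.ψ (a ^ i * d ^ j) * m * (D.ψ (d ^ j))⁻¹ by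
        rw [hr, map_mul, ← mul_assoc, ((haR m.2 i).inv_right).eq]
        group]
      exact h3
    have hi : a ^ i = 1 := by
      by_contra hi
      refine hna ?_
      have h5 := hai.pow Q (Nat.card R)
      rw [(haR hrR i).mul_pow] at h5
      have hr1 : r ^ Nat.card R = 1 :=
        congrArg Subtype.val (pow_card_eq_one' (x := (⟨r, hrR⟩ : R)))
      rw [hr1, mul_one, ← map_pow, ← pow_mul] at h5
      have hne1 : a ^ (i * Nat.card R) ≠ 1 := fun h => hi (by
        have h6 := orderOf_dvd_of_pow_eq_one h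
        rw [orderOf_eq_prime (D.exp a) ha] at h6
        rcases hp.out.dvd_mul.mp h6 with h7 | h7
        · exact orderOf_dvd_iff_pow_eq_one.mp (orderOf_eq_prime (D.exp a) ha ▸ h7)
        · exact absurd hRp.symm (fun h8 => hp.out.coprime_iff_not_dvd.mp h8 h7))
      obtain ⟨l, hl⟩ : ∃ l : ℕ, a = (a ^ (i * Nat.card R)) ^ l :=
        ⟨_, (Finset.mem_image.mp (mem_zpowers_iff_mem_range_orderOf.mp
          (zpowers_of_mem D.exp (pow_mem (mem_zpowers a) _) hne1))).choose_spec.2.symm⟩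
      rw [hl, map_pow]
      exact h5.pow Q l
    rw [hi, one_mul] at hc'
    have hdd : d ∈ zpowers (d ^ j) := zpowers_of_mem D.exp (pow_mem (mem_zpowers d) j) hc'.1
    have hline : Line D Q (W'.map (m : MulAut V).toMonoidHom) d :=
      ⟨fun h => hda (h ▸ one_mem _), fun e he =>
        hc'.2 e fun h => he (zpowers_le.mpr (pow_mem (mem_zpowers d) j) h)⟩
    have h := hQ.line_triv D (hW'.map (hRQ m m.2) (hRQ' m m.2)) hline
    have hmd : Triv Q W' ((m : MulAut V)⁻¹ * D.ψ d * m) := by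
      refine ⟨fun y hy => ?_, fun y hy w hw => ?_⟩
      · rw [show (m : MulAut V)⁻¹ * D.ψ d * m * y * ((m : MulAut V)⁻¹ * D.ψ d * m)⁻¹ =
          (m : MulAut V)⁻¹ * (D.ψ d * (m * y * (m : MulAut V)⁻¹) * (D.ψ d)⁻¹) * m by group]
        exact hRQ' m m.2 _ (h.1 _ (hRQ m m.2 y hy))
      · have h2 := h.2 _ (hRQ m m.2 y hy) _ (mem_map_of_mem _ hw)
        apply (m : MulAut V).injective
        rw [← MulAut.mul_apply, show (m : MulAut V) * ((m : MulAut V)⁻¹ * D.ψ d * m * y *
          ((m : MulAut V)⁻¹ * D.ψ d * m)⁻¹ * y⁻¹) = D.ψ d * (m * y * (m : MulAut V)⁻¹) *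
          (D.ψ d)⁻¹ * (m * y * (m : MulAut V)⁻¹)⁻¹ * m by group, MulAut.mul_apply]
        exact h2
    have hmd' := hmd.mul Q (hLd.inv' Q)
    rwa [show (m : MulAut V)⁻¹ * D.ψ d * m * (D.ψ d)⁻¹ = z by rw [← hzm]; group] at hmd'
  obtain ⟨d, hd⟩ := hQ.exists_line D hW
  by_cases hda : d ∈ zpowers a
  swap
  · exact hkw ((step W hW d hd hda x hx).2 y hy w0 hw0)
  have hlineW : Line D Q W a := by
    refine ⟨ha, fun e he => hd.2 e fun h => he ?_⟩
    exact zpowers_le.mpr hda h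
  -- every translate has the line of `a`
  have hall : ∀ z ∈ R, Line D Q (W.map z.toMonoidHom) a := by
    intro z hz
    have hW' := hW.map (hRQ z hz) (hRQ' z hz)
    obtain ⟨d', hd'⟩ := hQ.exists_line D hW'
    by_cases hd'a : d' ∈ zpowers a
    · exact ⟨ha, fun e he => hd'.2 e fun h => he (zpowers_le.mpr hd'a h)⟩
    exfalso
    have hT := step _ hW' d' hd' hd'a z hz
    have hlineW' : Line D Q W d' := by
      refine ⟨hd'.1, fun e he y hy hye w hw => ?_⟩
      have hq := hd'.2 e he y hy hye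
      have h1 := hT.2 y hy _ (hW'.inv y hy _ (mem_map_of_mem _ hw))
      rw [← MulAut.mul_apply, show z * y * z⁻¹ * y⁻¹ * y = z * y * z⁻¹ by group,
        hq _ (mem_map_of_mem _ hw)] at h1
      apply z.injective
      simpa [MulAut.mul_apply] using h1
    exact hd'a (hQ.line_unique D hW hlineW hlineW')
  refine hkw ((hQ.triv_of D hW (hRQ x hx) fun c hc y hy hyc w hw => ?_).2 y hy w0 hw0)
  by_cases hca : c ∈ zpowers a
  · obtain ⟨l, hl⟩ := zpowers_of_mem D.exp hca hc
    have hya : Commute (D.ψ a) y := by rw [← hl, map_zpow]; exact hyc.zpow_left l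
    rw [(hCa x hx y hy hya).eq, mul_inv_cancel_right, mul_inv_cancel, MulAut.one_apply]
  · have h1 := (hall x⁻¹ (inv_mem hx)).2 c hca y hy hyc
    have h2 : ∀ w ∈ W, (x * y * x⁻¹) w = w := fun w hw => by
      have h3 := congrArg x (h1 _ (mem_map_of_mem _ hw))
      simpa [MulAut.mul_apply] using h3
    have h4 := hlineW.2 c hca _ (inv_mem hy) hyc.inv_right w hw
    rw [MulAut.mul_apply, h4, h2 w hw]

end Setting

section Thompson

theorem exists_pCore_ne_bot {G : Type*} [Group G] [Finite G] [Nontrivial G] (hsol : Group.IsSolvable G) :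
    ∃ r : ℕ, r.Prime ∧ Cfsg.pCore r G ≠ ⊥ := by
  have hF : Cfsg.fittingSubgroup G ≠ ⊥ := fun hb => by
    have h := Lib.Core.centralizer_fitting_le_of_isSolvable (G := G)
    rw [hb] at h
    obtain ⟨g, hg⟩ := exists_ne (1 : G)
    have := h (mem_centralizer_iff.mpr fun y hy => by
      rw [SetLike.mem_coe, mem_bot] at hy
      simp [hy] : g ∈ centralizer ((⊥ : Subgroup G) : Set G))
    exact hg (mem_bot.mp this)
  by_contra h
  push Not at h
  refine hF ?_
  rw [Lib.Core.fittingSubgroup_eq_iSup_pCore, iSup_eq_bot]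
  exact fun r => h r r.2

end Thompson

/-- Equivariant data: the reduction to a minimal invariant normal subgroup. -/
theorem exists_minimal {G : Type u} [Group G] [Finite G] [Nontrivial G] (A : Set (MulAut G)) :
    ∃ N : Subgroup G, (N.Normal ∧ (∀ α ∈ A, N.map α.toMonoidHom = N) ∧ N ≠ ⊥) ∧
      ∀ M : Subgroup G, M.Normal → (∀ α ∈ A, M.map α.toMonoidHom = M) → M ≤ N → M = ⊥ ∨ M = N := by
  obtain ⟨N, hN, hmin⟩ := (Set.toFinite
    {N : Subgroup G | N.Normal ∧ (∀ α ∈ A, N.map α.toMonoidHom = N) ∧ N ≠ ⊥}).exists_minimal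
    ⟨⊤, inferInstance, fun α _ => map_top_of_surjective _ α.surjective, top_ne_bot⟩
  exact ⟨N, hN, fun M h1 h2 h3 => or_iff_not_imp_left.mpr fun h4 =>
    le_antisymm h3 (hmin ⟨h1, h2, h4⟩ h3)⟩

theorem nilpotent_quotient_step {G : Type u} [Group G] [Finite G] (hsol : Group.IsSolvable G)
    (A : Subgroup (MulAut G)) (N : Subgroup G) [hNn : N.Normal]
    (hmin : ∀ M : Subgroup G, M.Normal → (∀ α ∈ A, M.map α.toMonoidHom = M) → M ≤ N → M = ⊥ ∨ M = N)
    (hNA : ∀ α ∈ A, N.map α.toMonoidHom = N) (hNne : N ≠ ⊥) :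
    ∃ (_ : ∀ a ∈ N, ∀ b ∈ N, a * b = b * a) (p : ℕ), p.Prime ∧ IsPGroup p N := by
  have hchar : ∀ f : Subgroup G → Subgroup G,
      (∀ (e : MulAut G) (S : Subgroup G), (f S).map e.toMonoidHom = f (S.map e.toMonoidHom)) →
      (f N).Normal ∧ ∀ α ∈ A, (f N).map α.toMonoidHom = f N := by
    intro f hf
    refine ⟨⟨fun x hx g => ?_⟩, fun α hα => by rw [hf, hNA α hα]⟩
    have h := hf (MulAut.conj g) N
    have hSg : N.map (MulAut.conj g).toMonoidHom = N := by
      ext y
      simp only [mem_map, MulEquiv.coe_toMonoidHom, MulAut.conj_apply]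
      exact ⟨fun ⟨z, hz, e⟩ => e ▸ hNn.conj_mem z hz g,
        fun hy => ⟨g⁻¹ * y * g, by simpa using hNn.conj_mem y hy g⁻¹, by group⟩⟩
    rw [hSg] at h
    rw [← h]
    exact ⟨x, hx, rfl⟩
  have hab : ∀ a ∈ N, ∀ b ∈ N, a * b = b * a := by
    obtain ⟨h1, h2⟩ := hchar (fun S => ⁅S, S⁆) (fun e S => map_commutator S S e.toMonoidHom)
    rcases hmin _ h1 h2 (commutator_le_left N N) with h | h
    · intro a ha b hb
      have := commutator_eq_bot_iff_le_centralizer.mp h ha
      exact (mem_centralizer_iff.mp this b hb).symm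
    · exfalso
      have hlt : ⁅N, N⁆ < N := by
        have : Nontrivial N := (nontrivial_iff_ne_bot N).mpr hNne
        have hne := Group.IsSolvable.commutator_lt_top_of_nontrivial N
        rw [← map_subtype_commutator N]
        refine lt_of_le_of_ne (map_subtype_le _) fun e => hne.ne ?_
        apply map_injective N.subtype_injective
        rw [e, ← MonoidHom.range_eq_map, range_subtype]
      exact hlt.ne h
  refine ⟨hab, ?_⟩
  obtain ⟨p, hp, hpN⟩ := Nat.exists_prime_and_dvd (n := Nat.card N) (fun h => hNne (card_eq_one.mp h))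
  have : Fact p.Prime := ⟨hp⟩
  let Ω : Subgroup G :=
    { carrier := {x | x ∈ N ∧ x ^ p = 1}
      one_mem' := ⟨one_mem N, one_pow p⟩
      mul_mem' := fun {a b} ha hb => ⟨mul_mem ha.1 hb.1, by
        rw [(show Commute a b from hab a ha.1 b hb.1).mul_pow, ha.2, hb.2, one_mul]⟩
      inv_mem' := fun {a} ha => ⟨inv_mem ha.1, by rw [inv_pow, ha.2, inv_one]⟩ }
  have h1 : Ω.Normal := ⟨fun x hx g => ⟨hNn.conj_mem x hx.1 g, by rw [conj_pow, hx.2]; group⟩⟩
  have h2 : ∀ α ∈ A, Ω.map α.toMonoidHom = Ω := fun α hα => by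
    refine eq_of_le_of_card_ge ?_ (card_map_of_injective α.injective).ge
    rintro _ ⟨x, hx, rfl⟩
    refine ⟨(hNA α hα).le ⟨x, hx.1, rfl⟩, ?_⟩
    show α x ^ p = 1
    rw [← map_pow, hx.2, map_one]
  rcases hmin Ω h1 h2 (fun x hx => hx.1) with h | h
  · obtain ⟨x, hx⟩ := exists_prime_orderOf_dvd_card' (G := N) p hpN
    have hx1 : (x : G) ∈ Ω := ⟨x.2, by rw [← hx, ← orderOf_coe, pow_orderOf_eq_one]⟩
    rw [h, mem_bot] at hx1
    rw [← orderOf_coe, hx1, orderOf_one] at hx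
    exact absurd hx.symm hp.ne_one
  · exact ⟨p, hp, fun x => ⟨1, Subtype.ext (by simpa using ((h.symm.le x.2) : (x : G) ∈ Ω).2)⟩⟩


section Main

/-- Restriction of an automorphism to an invariant subgroup. -/
def resAut {G : Type*} [Group G] (N : Subgroup G) (α : MulAut G) (h : N.map α.toMonoidHom = N) : MulAut N where
  toFun x := ⟨α (x : G), h.le ⟨x, x.2, rfl⟩⟩
  invFun x := ⟨α.symm (x : G), by
    obtain ⟨y, hy, e⟩ := mem_map.mp (h.ge x.2)
    rw [← e]; simpa using hy⟩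
  left_inv x := Subtype.ext (α.symm_apply_apply (x : G))
  right_inv x := Subtype.ext (α.apply_symm_apply (x : G))
  map_mul' x y := Subtype.ext (map_mul α (x : G) y)

theorem mem_pCore_of_nilpotent {C : Type*} [Group C] [Finite C] (h : Group.IsNilpotent C) {p : ℕ}
    [Fact p.Prime] {x : C} {k : ℕ} (hx : orderOf x = p ^ k) : x ∈ Cfsg.pCore p C := by
  obtain ⟨P, hP⟩ := (IsPGroup.of_card (n := k) (by rw [Nat.card_zpowers, hx]) :
    IsPGroup p (zpowers x)).exists_le_sylow
  have hn : (P : Subgroup C).Normal :=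
    P.normal_of_normalizerCondition Group.normalizerCondition_of_isNilpotent
  exact Lib.Core.le_pCore' hn P.2 (hP (mem_zpowers x))

theorem fpf_quotient {G : Type u} [Group G] [Finite G] {p : ℕ} [hp : Fact p.Prime]
    (A : Subgroup (MulAut G)) (hAp : IsPGroup p A) (hG : ¬ p ∣ Nat.card G)
    (hfpf : ∀ g : G, (∀ α ∈ A, α g = g) → g = 1) (N : Subgroup G) [hNn : N.Normal]
    (hNA : ∀ α ∈ A, N.map α.toMonoidHom = N) {g : G} (hg : ∀ α ∈ A, g⁻¹ * α g ∈ N) : g ∈ N := by
  let X := {x : G // g⁻¹ * x ∈ N}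
  let act : MulAction A X :=
    { smul := fun α x => ⟨(α : MulAut G) x, by
        have h1 : (α : MulAut G) (g⁻¹ * x) ∈ N := (hNA _ α.2).le ⟨_, x.2, rfl⟩
        rw [map_mul, map_inv] at h1
        have h2 := mul_mem (hg _ α.2) h1
        rwa [mul_assoc, mul_inv_cancel_left] at h2⟩
      one_smul := fun x => Subtype.ext rfl
      mul_smul := fun α β x => Subtype.ext rfl }
  have hX : Nat.card X = Nat.card N :=
    Nat.card_congr ((Equiv.mulLeft g⁻¹).subtypeEquiv fun x => Iff.rfl)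
  have hnd : ¬ p ∣ Nat.card X := fun h => hG (h.trans (hX ▸ card_subgroup_dvd_card N))
  obtain ⟨x, hx⟩ := hAp.nonempty_fixed_point_of_prime_not_dvd_card X hnd
  have h1 := hfpf (x : G) fun α hα => congrArg Subtype.val (hx ⟨α, hα⟩)
  have h2 := x.2
  rw [h1, mul_one, inv_mem_iff] at h2
  exact h2

/-- On a minimal invariant normal `ℓ`-subgroup, the induced group has no normal `ℓ`-subgroup. -/
theorem pCore_range_eq_bot {G : Type u} [Group G] [Finite G] (A : Subgroup (MulAut G))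
    (N : Subgroup G) [hNn : N.Normal]
    (hmin : ∀ M : Subgroup G, M.Normal → (∀ α ∈ A, M.map α.toMonoidHom = M) → M ≤ N → M = ⊥ ∨ M = N)
    (hNA : ∀ α ∈ A, N.map α.toMonoidHom = N) (hNne : N ≠ ⊥) {ℓ : ℕ} [hl : Fact ℓ.Prime]
    (hNp : IsPGroup ℓ N) : Cfsg.pCore ℓ (MulAut.conjNormal : G →* MulAut N).range = ⊥ := by
  set π : G →* MulAut N := MulAut.conjNormal
  set H := π.range with hH
  have hlN : ℓ ∣ Nat.card N := by
    obtain ⟨m, hm⟩ := IsPGroup.iff_card.mp hNp
    have hm0 : m ≠ 0 := fun h => hNne (card_eq_one.mp (by rw [hm, h, pow_zero]))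
    exact hm ▸ dvd_pow_self ℓ hm0
  set O := (Cfsg.pCore ℓ H).map H.subtype with hO
  have hOp : IsPGroup ℓ O := (Lib.Core.pCore_isPGroup ℓ H).map _
  let W : Subgroup G :=
    { carrier := {x | ∃ hx : x ∈ N, ∀ o ∈ O, o ⟨x, hx⟩ = ⟨x, hx⟩}
      one_mem' := ⟨one_mem N, fun o _ => map_one o⟩
      mul_mem' := fun {a b} ha hb => ⟨mul_mem ha.1 hb.1, fun o ho => by
        show o (⟨a, ha.1⟩ * ⟨b, hb.1⟩) = _
        rw [map_mul, ha.2 o ho, hb.2 o ho]; rfl⟩
      inv_mem' := fun {a} ha => ⟨inv_mem ha.1, fun o ho => by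
        show o (⟨a, ha.1⟩⁻¹) = _
        rw [map_inv, ha.2 o ho]; rfl⟩ }
  have hOn : ∀ g : G, ∀ o ∈ O, (π g)⁻¹ * o * π g ∈ O := by
    rintro g _ ⟨o, ho, rfl⟩
    refine ⟨⟨π g, g, rfl⟩⁻¹ * o * ⟨π g, g, rfl⟩, ?_, rfl⟩
    have hn : (Cfsg.pCore ℓ H).Normal := inferInstance
    simpa using hn.conj_mem o ho ⟨π g, g, rfl⟩⁻¹
  have hOs : ∀ α (hα : α ∈ A), ∀ o ∈ O,
      (resAut N α (hNA α hα))⁻¹ * o * resAut N α (hNA α hα) ∈ O := by
    rintro α hα _ ⟨o, ho, rfl⟩
    set s := resAut N α (hNA α hα) with hs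
    have hHmem : ∀ h ∈ H, s * h * s⁻¹ ∈ H := by
      rintro _ ⟨g, rfl⟩
      refine ⟨α g, eq_mul_inv_iff_mul_eq.mpr (MulEquiv.ext fun x => Subtype.ext ?_)⟩
      rw [MulAut.mul_apply, MulAut.mul_apply, MulAut.conjNormal_apply]
      show _ = α ((π g x : N) : G)
      rw [MulAut.conjNormal_apply, map_mul, map_mul, map_inv]
      rfl
    let e : H ≃* H := MulEquiv.ofBijective
      ({ toFun := fun a => ⟨s * a * s⁻¹, hHmem a a.2⟩
         map_one' := Subtype.ext (by simp)
         map_mul' := fun a b => Subtype.ext (by simp [mul_assoc]) } : H →* H)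
      (Finite.injective_iff_bijective.mp fun a b hab => by
        have : s * (a : MulAut N) * s⁻¹ = s * b * s⁻¹ := congrArg Subtype.val hab
        exact Subtype.ext (mul_left_cancel (mul_right_cancel this)))
    obtain ⟨o', ho', heq⟩ := mem_map.mp ((Lib.Core.map_pCore_equiv (p := ℓ) e).ge ho)
    refine ⟨o', ho', ?_⟩
    rw [← heq]
    show (o' : MulAut N) = s⁻¹ * (s * (o' : MulAut N) * s⁻¹) * s
    group
  have h1 : W.Normal := by
    refine ⟨fun x hx g => ⟨hNn.conj_mem x hx.1 g, fun o ho => ?_⟩⟩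
    have h2 := hx.2 _ (hOn g o ho)
    have e : π g ⟨x, hx.1⟩ = ⟨g * x * g⁻¹, hNn.conj_mem x hx.1 g⟩ :=
      Subtype.ext (MulAut.conjNormal_apply g _)
    rw [← e]
    conv_rhs => rw [← h2]
    rw [← MulAut.mul_apply, ← MulAut.mul_apply, ← mul_assoc, ← mul_assoc, mul_inv_cancel, one_mul]
  have h2 : ∀ α ∈ A, W.map α.toMonoidHom = W := by
    intro α hα
    refine eq_of_le_of_card_ge ?_ (card_map_of_injective α.injective).ge
    rintro _ ⟨x, hx, rfl⟩
    refine ⟨(hNA α hα).le ⟨x, hx.1, rfl⟩, fun o ho => ?_⟩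
    have h3 := hx.2 _ (hOs α hα o ho)
    show o (resAut N α (hNA α hα) ⟨x, hx.1⟩) = resAut N α (hNA α hα) ⟨x, hx.1⟩
    conv_rhs => rw [← h3]
    rw [← MulAut.mul_apply, ← MulAut.mul_apply, ← mul_assoc, ← mul_assoc, mul_inv_cancel, one_mul]
  rcases hmin W h1 h2 (fun x hx => hx.1) with hW | hW
  · exfalso
    obtain ⟨b, hb, hb1⟩ := hOp.exists_fixed_point_of_prime_dvd_card_of_fixed_point (N : Type u) hlN
      (a := (1 : N)) (fun o => map_one (o : MulAut N))
    have : (b : G) ∈ W := ⟨b.2, fun o ho => hb ⟨o, ho⟩⟩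
    rw [hW, mem_bot] at this
    exact hb1 (Subtype.ext this.symm)
  · apply map_injective H.subtype_injective
    rw [← hO, Subgroup.map_bot]
    refine (eq_bot_iff_forall O).mpr fun o ho => MulEquiv.ext fun x => ?_
    exact (hW.ge x.2).2 o ho

theorem coprime_fitting {V : Type u} [Group V] [Finite V] {H : Type u} [Group H] [Finite H] {ℓ : ℕ}
    [hl : Fact ℓ.Prime] (hV : IsPGroup ℓ V) (hO : Cfsg.pCore ℓ H = ⊥) :
    (Nat.card V).Coprime (Nat.card (Cfsg.fittingSubgroup H)) := by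
  obtain ⟨m, hm⟩ := IsPGroup.iff_card.mp hV
  rw [hm]
  refine Nat.Coprime.pow_left m (hl.out.coprime_iff_not_dvd.mpr fun hd => ?_)
  obtain ⟨x, hx⟩ := exists_prime_orderOf_dvd_card' (G := Cfsg.fittingSubgroup H) ℓ hd
  have h1 := mem_pCore_of_nilpotent (Lib.Core.fittingSubgroup_isNilpotent H) (x := x) (k := 1)
    (by rw [hx, pow_one])
  have h2 : (x : H) ∈ (Cfsg.pCore ℓ (Cfsg.fittingSubgroup H)).map (Cfsg.fittingSubgroup H).subtype :=
    mem_map_of_mem _ h1
  have h3 := Lib.Core.pCore_map_le_of_isSubnormal (p := ℓ)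
    ((Lib.Core.fittingSubgroup_normal' H).isSubnormal) h2
  rw [hO, mem_bot] at h3
  rw [← orderOf_coe, h3, orderOf_one] at hx
  exact hl.out.ne_one hx.symm

/-- Thompson's theorem for solvable groups. -/
theorem thompson : ∀ (n : ℕ) (G : Type u) [Group G] [Finite G], Nat.card G = n → Group.IsSolvable G →
    ∀ (σ : MulAut G) (p : ℕ), p.Prime → σ ^ p = 1 → (∀ g, σ g = g → g = 1) → Group.IsNilpotent G := by
  intro n
  induction n using Nat.strong_induction_on with
  | _ n ih =>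
  intro G _ _ hn hsol σ p hp hσp hσ
  subst hn
  cases subsingleton_or_nontrivial G
  · infer_instance
  have hσ1 : σ ≠ 1 := fun h => by
    obtain ⟨g, hg⟩ := exists_ne (1 : G)
    exact hg (hσ g (by rw [h]; rfl))
  have : Fact p.Prime := ⟨hp⟩
  have hfpf : ∀ g : G, (∀ α ∈ zpowers σ, α g = g) → g = 1 := fun g h => hσ g (h σ (mem_zpowers σ))
  have hAp : IsPGroup p (zpowers σ) := IsPGroup.of_card (n := 1) (by
    rw [Nat.card_zpowers, orderOf_eq_prime hσp hσ1, pow_one])
  have hpG : ¬ p ∣ Nat.card G := fun hd => by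
    obtain ⟨b, hb, hb1⟩ := hAp.exists_fixed_point_of_prime_dvd_card_of_fixed_point (G : Type u) hd
      (a := (1 : G)) (fun o => map_one (o : MulAut G))
    exact hb1 (hfpf b fun α hα => hb ⟨α, hα⟩).symm
  obtain ⟨N, ⟨hNn, hNA, hNne⟩, hmin⟩ := exists_minimal (zpowers σ : Set (MulAut G))
  obtain ⟨hab, ℓ, hl, hNp⟩ := nilpotent_quotient_step hsol (zpowers σ) N hmin hNA hNne
  have : Fact ℓ.Prime := ⟨hl⟩
  letI hNc : CommGroup N := { (inferInstance : Group N) with
    mul_comm := fun a b => Subtype.ext (hab a a.2 b b.2) }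
  have hσN : N.map σ.toMonoidHom = N := hNA σ (mem_zpowers σ)
  have hlt : Nat.card (G ⧸ N) < Nat.card G := by
    rw [← Subgroup.index_eq_card, ← N.card_mul_index]
    exact lt_mul_of_one_lt_left (Nat.pos_of_ne_zero index_ne_zero_of_finite)
      (N.one_lt_card_iff_ne_bot.mpr hNne)
  let σ' : MulAut (G ⧸ N) := QuotientGroup.congr N N σ hσN
  have hσ'pow : ∀ (k : ℕ) (g : G), (σ' ^ k) (g : G ⧸ N) = ((σ ^ k) g : G) := by
    intro k
    induction k with
    | zero => simp
    | succ k ih => intro g; rw [pow_succ', pow_succ', MulAut.mul_apply, MulAut.mul_apply, ih]; rfl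
  have hrec := ih _ hlt (G ⧸ N) rfl (solvable_of_surjective (QuotientGroup.mk'_surjective N)) σ' p hp
    (MulEquiv.ext fun x => by
      obtain ⟨g, rfl⟩ := QuotientGroup.mk'_surjective N x
      rw [QuotientGroup.mk'_apply, hσ'pow, hσp]; rfl)
    (fun x hx => by
      obtain ⟨g, rfl⟩ := QuotientGroup.mk'_surjective N x
      refine (QuotientGroup.eq_one_iff g).mpr (fpf_quotient (zpowers σ) hAp hpG hfpf N hNA fun α hα => ?_)
      let S : Subgroup (MulAut G) :=
        { carrier := {β | N.map β.toMonoidHom = N ∧ g⁻¹ * β g ∈ N}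
          one_mem' := ⟨Subgroup.map_id N, by simp⟩
          mul_mem' := fun {a b} ha hb => by
            refine ⟨?_, ?_⟩
            · rw [show (a * b : MulAut G).toMonoidHom = a.toMonoidHom.comp b.toMonoidHom from rfl,
                ← Subgroup.map_map, hb.1, ha.1]
            · rw [MulAut.mul_apply, show a (b g) = a g * a (g⁻¹ * b g) by rw [← map_mul, mul_inv_cancel_left],
                ← mul_assoc]
              exact mul_mem ha.2 (ha.1.le ⟨_, hb.2, rfl⟩)
          inv_mem' := fun {a} ha => by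
            refine ⟨?_, ?_⟩
            · conv_lhs => rw [← ha.1]
              rw [Subgroup.map_map, show (a⁻¹ : MulAut G).toMonoidHom.comp a.toMonoidHom = MonoidHom.id G from
                MonoidHom.ext fun z => a.symm_apply_apply z, Subgroup.map_id]
            · obtain ⟨y, hy, hy'⟩ := mem_map.mp (ha.1.ge ha.2)
              have : a⁻¹ (g⁻¹ * a g) = y := by rw [← hy']; exact a.symm_apply_apply y
              rw [map_mul, map_inv, ← MulAut.mul_apply, inv_mul_cancel, MulAut.one_apply] at this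
              have h2 := inv_mem (this ▸ hy : (a⁻¹ g)⁻¹ * g ∈ N)
              rwa [mul_inv_rev, inv_inv] at h2 }
      have hS : zpowers σ ≤ S := zpowers_le.mpr ⟨hσN, by
        rw [← QuotientGroup.eq_one_iff, QuotientGroup.mk_mul, QuotientGroup.mk_inv, inv_mul_eq_one]
        exact hx.symm⟩
      exact (hS hα).2)
  let π : G →* MulAut N := MulAut.conjNormal
  have hker : N ≤ π.ker := fun x hx => MulEquiv.ext fun y => Subtype.ext (by
    rw [MulAut.conjNormal_apply, hab x hx y y.2, mul_inv_cancel_right]; rfl)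
  have hHnil : Group.IsNilpotent π.range := by
    have := hrec
    refine Group.nilpotent_of_surjective
      (QuotientGroup.lift N π.rangeRestrict (hker.trans (le_of_eq π.ker_rangeRestrict.symm))) fun y => ?_
    obtain ⟨g, rfl⟩ := π.rangeRestrict_surjective y
    exact ⟨g, rfl⟩
  have hOl := pCore_range_eq_bot (zpowers σ) N hmin hNA hNne hNp
  have hcop : (Nat.card N).Coprime (Nat.card π.range) := by
    have h := coprime_fitting (H := π.range) hNp hOl
    rwa [Lib.Core.fittingSubgroup_eq_top hHnil, card_top] at h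
  set s := resAut N σ hσN with hs
  have hspow : ∀ (k : ℕ) (x : N), (((s ^ k) x : N) : G) = (σ ^ k) (x : G) := by
    intro k
    induction k with
    | zero => simp
    | succ k ih => intro x; rw [pow_succ', pow_succ', MulAut.mul_apply, MulAut.mul_apply]; exact congrArg σ (ih x)
  have hcomm : ∀ g, π (σ g) = s * π g * s⁻¹ := by
    intro g
    refine eq_mul_inv_iff_mul_eq.mpr (MulEquiv.ext fun x => Subtype.ext ?_)
    rw [MulAut.mul_apply, MulAut.mul_apply, MulAut.conjNormal_apply]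
    show _ = σ ((π g x : N) : G)
    rw [MulAut.conjNormal_apply, map_mul, map_mul, map_inv]
    rfl
  obtain ⟨k, hk⟩ : ∃ k, p = k + 1 := ⟨p - 1, by have := hp.pos; omega⟩
  have hM : ∀ m ∈ π.range, s * m * s⁻¹ ∈ π.range := by
    rintro _ ⟨g, rfl⟩; exact ⟨σ g, hcomm g⟩
  have hfix1 : ∀ m ∈ π.range, s * m * s⁻¹ = m → m = 1 := by
    rintro _ ⟨g, rfl⟩ h
    have hgk : g⁻¹ * σ g ∈ π.ker := by
      rw [MonoidHom.mem_ker, map_mul, map_inv, hcomm, h, inv_mul_cancel]
    have hkerA : ∀ α ∈ zpowers σ, π.ker.map α.toMonoidHom = π.ker := by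
      intro α hα
      refine eq_of_le_of_card_ge ?_ (card_map_of_injective α.injective).ge
      rintro _ ⟨x, hx, rfl⟩
      refine MulEquiv.ext fun y => Subtype.ext ?_
      obtain ⟨z, hz, hzy⟩ := mem_map.mp ((hNA α hα).ge y.2)
      rw [MulAut.conjNormal_apply, ← hzy]
      have := congrArg (fun e : MulAut N => ((e ⟨z, hz⟩ : N) : G)) (MonoidHom.mem_ker.mp hx)
      simp only [π, MulAut.conjNormal_apply, MulAut.one_apply] at this
      simp only [MulEquiv.coe_toMonoidHom, MulAut.one_apply]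
      rw [← map_inv, ← map_mul, ← map_mul, ← hzy]
      exact congrArg α this
    let S : Subgroup (MulAut G) :=
      { carrier := {β | π.ker.map β.toMonoidHom = π.ker ∧ g⁻¹ * β g ∈ π.ker}
        one_mem' := ⟨Subgroup.map_id _, by simp⟩
        mul_mem' := fun {a b} ha hb => by
          refine ⟨?_, ?_⟩
          · rw [show (a * b : MulAut G).toMonoidHom = a.toMonoidHom.comp b.toMonoidHom from rfl,
              ← Subgroup.map_map, hb.1, ha.1]
          · rw [MulAut.mul_apply, show a (b g) = a g * a (g⁻¹ * b g) by rw [← map_mul, mul_inv_cancel_left],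
              ← mul_assoc]
            exact mul_mem ha.2 (ha.1.le ⟨_, hb.2, rfl⟩)
        inv_mem' := fun {a} ha => by
          refine ⟨?_, ?_⟩
          · conv_lhs => rw [← ha.1]
            rw [Subgroup.map_map, show (a⁻¹ : MulAut G).toMonoidHom.comp a.toMonoidHom = MonoidHom.id G from
              MonoidHom.ext fun z => a.symm_apply_apply z, Subgroup.map_id]
          · obtain ⟨y, hy, hy'⟩ := mem_map.mp (ha.1.ge ha.2)
            have : a⁻¹ (g⁻¹ * a g) = y := by rw [← hy']; exact a.symm_apply_apply y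
            rw [map_mul, map_inv, ← MulAut.mul_apply, inv_mul_cancel, MulAut.one_apply] at this
            have h2 := inv_mem (this ▸ hy : (a⁻¹ g)⁻¹ * g ∈ π.ker)
            rwa [mul_inv_rev, inv_inv] at h2 }
    have hS : zpowers σ ≤ S := zpowers_le.mpr ⟨hkerA σ (mem_zpowers σ), hgk⟩
    exact MonoidHom.mem_ker.mp
      (fpf_quotient (zpowers σ) hAp hpG hfpf π.ker hkerA fun α hα => (hS hα).2)
  have hsp : s ^ p = 1 := MulEquiv.ext fun x => Subtype.ext (by rw [hspow, hσp]; rfl)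
  have htriv := frob π.range s (p := k) (by rw [← hk, hsp]) hM (fun i h0 hi m hm h => by
      refine hfix1 m hm ?_
      have hci : Commute (s ^ i) m := mul_inv_eq_iff_eq_mul.mp h
      obtain ⟨l, hl⟩ : ∃ l : ℕ, (s ^ i) ^ l = s := by
        obtain ⟨l, -, hl⟩ := Nat.exists_mul_mod_eq_one_of_coprime (n := i) (k := p)
          (Nat.Coprime.symm (hp.coprime_iff_not_dvd.mpr fun hd => by
            have := Nat.le_of_dvd h0 hd; omega)) hp.one_lt
        refine ⟨l, ?_⟩
        rw [← pow_mul, ← Nat.mod_add_div (i * l) p, hl, pow_add, pow_mul, hsp, one_pow, mul_one, pow_one]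
      have := hci.pow_left l
      rw [hl] at this
      rw [this.eq, mul_inv_cancel_right])
    hcop ⊤ (fun _ _ _ _ => mem_top _) (fun _ _ => mem_top _)
    (fun w _ hw => Subtype.ext (hσ w (congrArg Subtype.val hw)))
  have := hrec
  refine Subgroup.isNilpotent_of_ker_le_center (QuotientGroup.mk' N) fun x hx => mem_center_iff.mpr fun g => ?_
  rw [QuotientGroup.ker_mk'] at hx
  have h := congrArg Subtype.val (htriv (π g) ⟨g, rfl⟩ ⟨x, hx⟩ (mem_top _))
  rw [MulAut.conjNormal_apply] at h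
  exact mul_inv_eq_iff_eq_mul.mp h

variable {V : Type u} [CommGroup V] [Finite V] {A : Type u} [CommGroup A] [Finite A]
  {p : ℕ} [hp : Fact p.Prime]

/-- A faithful solvable group normalized by `A` fixed-point-freely is nilpotent. -/
theorem Act.isNilpotent (D : Act V A p) (H : Subgroup (MulAut V)) (hsol : Group.IsSolvable H)
    (hH : ∀ c, ∀ y ∈ H, D.ψ c * y * (D.ψ c)⁻¹ ∈ H) (hHp : (Nat.card H).Coprime p)
    (hfpf : ∀ y ∈ H, (∀ c, Commute (D.ψ c) y) → y = 1)
    (hF : (Nat.card V).Coprime (Nat.card (Cfsg.fittingSubgroup H))) : Group.IsNilpotent H := by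
  classical
  by_contra hnil
  -- centralizers are nilpotent
  have hCnil : ∀ c : A, c ≠ 1 → Group.IsNilpotent ↥(H ⊓ centralizer {D.ψ c}) := by
    intro c hc
    obtain ⟨d, hd⟩ : ∃ d, d ∉ zpowers c := by
      by_contra h
      push Not at h
      have := congrArg (fun S : Subgroup A => Nat.card S) (eq_top_iff.mpr fun x _ => h x)
      simp only [card_top, Nat.card_zpowers, orderOf_eq_prime (D.exp c) hc, D.card] at this
      nlinarith [hp.out.two_le]
    set C := H ⊓ centralizer {D.ψ c} with hC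
    have hCd : C.map (MulAut.conj (D.ψ d)).toMonoidHom = C := by
      refine eq_of_le_of_card_ge ?_ (card_map_of_injective (MulAut.conj (D.ψ d)).injective).ge
      rintro _ ⟨y, hy, rfl⟩
      obtain ⟨hy1, hy2⟩ := mem_inf.mp hy
      refine mem_inf.mpr ⟨hH d y hy1, mem_centralizer_singleton_iff.mpr ?_⟩
      exact (((D.commute_ψ c d).mul_right (show Commute (D.ψ c) y from
        (mem_centralizer_singleton_iff.mp hy2).symm)).mul_right (D.commute_ψ c d).inv_right).eq.symm
    set σ := resAut C (MulAut.conj (D.ψ d)) hCd with hσ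
    have hσv : ∀ (k : ℕ) (x : C), (((σ ^ k) x : C) : MulAut V) = D.ψ (d ^ k) * x * (D.ψ (d ^ k))⁻¹ := by
      intro k
      induction k with
      | zero => simp
      | succ k ih =>
        intro x
        rw [pow_succ', MulAut.mul_apply]
        show D.ψ d * (((σ ^ k) x : C) : MulAut V) * (D.ψ d)⁻¹ = _
        rw [ih, pow_succ', map_mul]
        group
    have hsolC : Group.IsSolvable C := Lib.Core.isSolvable_of_le inf_le_left hsol
    refine thompson _ C rfl hsolC σ p hp.out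
      (MulEquiv.ext fun x => Subtype.ext (by rw [hσv, D.exp, map_one]; simp)) fun x hx => ?_
    obtain ⟨hx1, hx2⟩ := mem_inf.mp x.2
    have h1 : D.ψ d * x * (D.ψ d)⁻¹ = x := congrArg Subtype.val hx
    exact Subtype.ext (hfpf x hx1 (D.fixed_of_two hc hd
      (mem_centralizer_singleton_iff.mp hx2).symm (mul_inv_eq_iff_eq_mul.mp h1)))
  set F := Cfsg.fittingSubgroup H with hFdef
  have hFn : F.Normal := Lib.Core.fittingSubgroup_normal' H
  have hFne : F ≠ ⊤ := fun h => hnil (by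
    have h1 := Lib.Core.fittingSubgroup_isNilpotent H
    rw [← hFdef, h] at h1
    exact Group.isNilpotent_top.mp h1)
  have hntriv : Nontrivial (H ⧸ F) := by
    rw [← Finite.one_lt_card_iff_nontrivial, ← Subgroup.index_eq_card]
    exact one_lt_index_of_ne_top hFne
  have := hsol
  obtain ⟨r, hr, hOr⟩ := exists_pCore_ne_bot (G := H ⧸ F) inferInstance
  have : Fact r.Prime := ⟨hr⟩
  set M := (Cfsg.pCore r (H ⧸ F)).comap (QuotientGroup.mk' F) with hM
  have hMn : M.Normal := inferInstance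
  have hFM : F ≤ M := (QuotientGroup.ker_mk' F).symm.trans_le (ker_le_comap _ _)
  have hMF : ∀ m ∈ M, ∃ k, m ^ r ^ k ∈ F := fun m hm => by
    obtain ⟨k, hk⟩ := (Lib.Core.pCore_isPGroup r (H ⧸ F)) ⟨_, mem_comap.mp hm⟩
    refine ⟨k, (QuotientGroup.eq_one_iff _).mp ?_⟩
    rw [QuotientGroup.mk_pow]
    exact congrArg Subtype.val hk
  -- the action on the cores
  let cj : ∀ c : A, H ≃* H := fun c => resAut H (MulAut.conj (D.ψ c))
    (eq_of_le_of_card_ge (by rintro _ ⟨y, hy, rfl⟩; exact hH c y hy)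
      (card_map_of_injective (MulAut.conj (D.ψ c)).injective).ge)
  have hMA : ∀ (c : A) (m : H), m ∈ M → cj c m ∈ M := by
    intro c m hm
    let e : (H ⧸ F) ≃* (H ⧸ F) := QuotientGroup.congr F F (cj c) (Lib.Core.map_fittingSubgroup_equiv _)
    have h := (Lib.Core.map_pCore_equiv (p := r) e).le ⟨_, mem_comap.mp hm, rfl⟩
    exact mem_comap.mpr h
  have key : ∀ (q : ℕ), q.Prime → q ≠ r → M ≤ centralizer (Cfsg.pCore q H : Set H) ⊔ Cfsg.pCore q H := by
    intro q hq hqr
    have : Fact q.Prime := ⟨hq⟩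
    set O := Cfsg.pCore q H with hO
    have hOn : O.Normal := inferInstance
    have hFle : F ≤ centralizer (O : Set H) ⊔ O := by
      rw [hFdef, Lib.Core.fittingSubgroup_eq_iSup_pCore, iSup_le_iff]
      intro t
      by_cases ht : (t : ℕ) = q
      · rw [ht]; exact le_sup_right
      · have : Fact (t : ℕ).Prime := ⟨t.2⟩
        refine le_trans (fun x hx => mem_centralizer_iff.mpr fun y hy => ?_) le_sup_left
        exact (commute_of_normal_of_disjoint _ _ inferInstance inferInstance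
          (IsPGroup.disjoint_of_ne q t (Ne.symm ht) _ _ (Lib.Core.pCore_isPGroup q H)
            (Lib.Core.pCore_isPGroup (t : ℕ) H)) y x hy hx).eq
    set Q := O.map H.subtype with hQ
    have hQH : Q ≤ H := map_subtype_le _
    have hQp : IsPGroup q Q := (Lib.Core.pCore_isPGroup q H).map _
    have hQgood : Good D Q := by
      refine ⟨hQp.isNilpotent, hF.coprime_dvd_right ?_, hHp.coprime_dvd_left (card_dvd_of_le hQH),
        ?_, fun y hy => hfpf y (hQH hy)⟩
      · rw [hQ, card_map_of_injective H.subtype_injective]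
        exact card_dvd_of_le (Lib.Core.pCore_le_fittingSubgroup q H)
      · rintro c _ ⟨y, hy, rfl⟩
        exact ⟨cj c y, (Lib.Core.map_pCore_equiv (p := q) (cj c)).le ⟨y, hy, rfl⟩, rfl⟩
    have hMmap : ∀ c, ∀ y ∈ M.map H.subtype, D.ψ c * y * (D.ψ c)⁻¹ ∈ M.map H.subtype := by
      rintro c _ ⟨m, hm, rfl⟩
      exact ⟨cj c m, hMA c m hm, rfl⟩
    have hgen := D.gen (M.map H.subtype) hMmap (hHp.coprime_dvd_left (card_dvd_of_le (map_subtype_le _)))
    intro m0 hm0
    have hle : M.map H.subtype ≤ (centralizer (O : Set H) ⊔ O).map H.subtype := by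
      refine hgen.trans ((closure_le _).mpr ?_)
      rintro _ ⟨⟨m, hm, rfl⟩, c, hc, hcm⟩
      refine mem_map_of_mem _ ?_
      obtain ⟨k, hk⟩ := hMF m hm
      obtain ⟨j, l, hl, hml⟩ := Nat.exists_eq_pow_mul_and_not_dvd (orderOf_pos m).ne' r hr.ne_one
      have hl0 : l ≠ 0 := fun h => hl (h ▸ dvd_zero r)
      have h1 : m ^ r ^ k ∈ centralizer (O : Set H) ⊔ O := hFle hk
      have h2 : m ^ l ∈ centralizer (O : Set H) := by
        set C := H ⊓ centralizer {D.ψ c} with hC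
        have hnil := hCnil c hc
        have hmlC : ((m ^ l : H) : MulAut V) ∈ C := mem_inf.mpr ⟨(m ^ l).2,
          mem_centralizer_singleton_iff.mpr (by rw [SubmonoidClass.coe_pow]; exact (hcm.pow_right l).eq.symm)⟩
        have hord : orderOf ((m ^ l : H) : MulAut V) = r ^ j := by
          rw [orderOf_coe, orderOf_pow_of_dvd hl0 (hml ▸ dvd_mul_left l _), hml,
            Nat.mul_div_cancel _ (Nat.pos_of_ne_zero hl0)]
        set R := (Cfsg.pCore r C).map C.subtype with hR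
        have hRC : R ≤ C := map_subtype_le _
        have hmR : ((m ^ l : H) : MulAut V) ∈ R :=
          ⟨⟨_, hmlC⟩, mem_pCore_of_nilpotent hnil (k := j) (by rw [← orderOf_coe]; exact hord), rfl⟩
        have hcomm := hQgood.commute_of D hc R
          (fun x hx y hy => by
            obtain ⟨y0, hy0, rfl⟩ := hy
            exact ⟨⟨x, (mem_inf.mp (hRC hx)).1⟩ * y0 * ⟨x, (mem_inf.mp (hRC hx)).1⟩⁻¹,
              hOn.conj_mem y0 hy0 _, rfl⟩)
          (fun x hx => (mem_centralizer_singleton_iff.mp (mem_inf.mp (hRC hx)).2).symm)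
          (by
            rintro e _ ⟨x, hx, rfl⟩
            have hCe : C.map (MulAut.conj (D.ψ e)).toMonoidHom = C := by
              refine eq_of_le_of_card_ge ?_ (card_map_of_injective (MulAut.conj (D.ψ e)).injective).ge
              rintro _ ⟨y, hy, rfl⟩
              obtain ⟨hy1, hy2⟩ := mem_inf.mp hy
              refine mem_inf.mpr ⟨hH e y hy1, mem_centralizer_singleton_iff.mpr ?_⟩
              exact (((D.commute_ψ c e).mul_right (show Commute (D.ψ c) y from
                (mem_centralizer_singleton_iff.mp hy2).symm)).mul_right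
                  (D.commute_ψ c e).inv_right).eq.symm
            exact ⟨resAut C _ hCe x, (Lib.Core.map_pCore_equiv (p := r) (resAut C _ hCe)).le
              ⟨x, hx, rfl⟩, rfl⟩)
          (hHp.coprime_dvd_left (card_dvd_of_le (hRC.trans inf_le_left)))
          (fun x hx => hfpf x (mem_inf.mp (hRC hx)).1)
          (fun x hx y hy hy' => by
            obtain ⟨x', hx', rfl⟩ := hx
            have hyC : y ∈ C := mem_inf.mpr ⟨hQH hy, mem_centralizer_singleton_iff.mpr hy'.eq.symm⟩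
            obtain ⟨i, hi⟩ := IsPGroup.iff_orderOf.mp hQp ⟨y, hy⟩
            rw [orderOf_mk] at hi
            have hy2 := mem_pCore_of_nilpotent hnil (x := (⟨y, hyC⟩ : C)) (p := q) (k := i)
              (by rw [orderOf_mk, hi])
            exact congrArg Subtype.val (commute_of_normal_of_disjoint _ _ inferInstance inferInstance
              (IsPGroup.disjoint_of_ne r q (Ne.symm hqr) _ _ (Lib.Core.pCore_isPGroup r C)
                (Lib.Core.pCore_isPGroup q C)) x' ⟨y, hyC⟩ hx' hy2).eq)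
        refine mem_centralizer_iff.mpr fun y hy => Subtype.ext ?_
        exact (hcomm _ hmR _ (mem_map_of_mem _ hy)).eq.symm
      have hco : Nat.Coprime (r ^ k) l := (hr.coprime_iff_not_dvd.mpr hl).pow_left k
      have hb := Nat.gcd_eq_gcd_ab (r ^ k) l
      rw [hco.gcd_eq_one] at hb
      have hmm : m = (m ^ r ^ k) ^ (Nat.gcdA (r ^ k) l) * (m ^ l) ^ (Nat.gcdB (r ^ k) l) := by
        rw [← zpow_natCast m (r ^ k), ← zpow_natCast m l, ← zpow_mul, ← zpow_mul, ← zpow_add, ← hb]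
        simp
      rw [hmm]
      exact mul_mem (zpow_mem h1 _) (zpow_mem (mem_sup_left h2) _)
    exact (mem_map_iff_mem H.subtype_injective).mp (hle (mem_map_of_mem _ hm0))
  -- `r`-elements of `M` centralize the other cores
  have hr' : ∀ q : ℕ, q.Prime → q ≠ r → ∀ x ∈ M, ∀ k, orderOf x = r ^ k →
      x ∈ centralizer (Cfsg.pCore q H : Set H) := by
    intro q hq hqr x hx k hk
    have : Fact q.Prime := ⟨hq⟩
    set C := centralizer (Cfsg.pCore q H : Set H) with hC
    have hCn : C.Normal := inferInstance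
    have himg : QuotientGroup.mk' C x ∈ (Cfsg.pCore q H).map (QuotientGroup.mk' C) := by
      have h := mem_map_of_mem (QuotientGroup.mk' C) (key q hq hqr hx)
      rwa [Subgroup.map_sup, (Subgroup.map_eq_bot_iff _).mpr (QuotientGroup.ker_mk' C).ge, bot_sup_eq] at h
    obtain ⟨i, hi⟩ := IsPGroup.iff_orderOf.mp ((Lib.Core.pCore_isPGroup q H).map (QuotientGroup.mk' C)) ⟨_, himg⟩
    rw [orderOf_mk] at hi
    have hd : q ^ i ∣ r ^ k := hi ▸ hk ▸ orderOf_map_dvd _ x
    have hi0 : i = 0 := by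
      by_contra hne
      exact hqr ((Nat.prime_dvd_prime_iff_eq hq hr).mp (hq.dvd_of_dvd_pow ((dvd_pow_self q hne).trans hd)))
    rw [hi0, pow_zero, orderOf_eq_one_iff] at hi
    exact (QuotientGroup.eq_one_iff x).mp hi
  obtain ⟨S⟩ : Nonempty (Sylow r M) := inferInstance
  have hOrS : (Cfsg.pCore r H).subgroupOf M ≤ (S : Subgroup M) :=
    (Lib.Core.le_pCore' (inferInstanceAs ((Cfsg.pCore r H).subgroupOf M).Normal)
      ((Lib.Core.pCore_isPGroup r H).comap_subtype)).trans (Lib.Core.pCore_le_sylow S)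
  have hsup : F.subgroupOf M ⊔ (S : Subgroup M) = ⊤ := by
    rw [← index_eq_one]
    have h1 : (F.subgroupOf M ⊔ (S : Subgroup M)).index ∣ (F.subgroupOf M).index := index_dvd_of_le le_sup_left
    have h2 : (F.subgroupOf M ⊔ (S : Subgroup M)).index ∣ (S : Subgroup M).index := index_dvd_of_le le_sup_right
    have h3 : IsPGroup r (M ⧸ F.subgroupOf M) := fun z => by
      obtain ⟨m, rfl⟩ := QuotientGroup.mk'_surjective _ z
      obtain ⟨k, hk⟩ := hMF m m.2
      exact ⟨k, by rw [← map_pow]; exact (QuotientGroup.eq_one_iff _).mpr (mem_subgroupOf.mpr (by simpa using hk))⟩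
    obtain ⟨e, he⟩ := IsPGroup.iff_card.mp h3
    rw [Subgroup.index_eq_card (F.subgroupOf M), he] at h1
    obtain ⟨i, -, hi⟩ := (Nat.dvd_prime_pow hr).mp h1
    rw [hi] at h2 ⊢
    by_contra hne
    exact S.not_dvd_index ((dvd_pow_self r (fun h => hne (by rw [h, pow_zero]))).trans h2)
  have hSn : (S : Subgroup M).Normal := by
    rw [← normalizer_eq_top_iff, eq_top_iff, ← hsup]
    refine sup_le (fun f hf => ?_) le_normalizer
    have hfN : (f : H) ∈ normalizer (((S : Subgroup M).map M.subtype : Subgroup H) : Set H) := by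
      have hFle : F ≤ normalizer (((S : Subgroup M).map M.subtype : Subgroup H) : Set H) := by
        rw [hFdef, Lib.Core.fittingSubgroup_eq_iSup_pCore, iSup_le_iff]
        intro t
        by_cases ht : (t : ℕ) = r
        · rw [ht]
          refine le_trans ?_ le_normalizer
          intro x hx
          exact ⟨⟨x, hFM (Lib.Core.pCore_le_fittingSubgroup r H hx)⟩, hOrS hx, rfl⟩
        · refine le_trans (fun x hx => ?_) (centralizer_le_normalizer _)
          refine mem_centralizer_iff.mpr ?_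
          rintro _ ⟨y, hy, rfl⟩
          obtain ⟨k, hk⟩ := IsPGroup.iff_orderOf.mp S.2 ⟨y, hy⟩
          rw [orderOf_mk, ← orderOf_coe] at hk
          exact (mem_centralizer_iff.mp (hr' t t.2 ht y y.2 k hk) x hx).symm
      exact hFle (mem_subgroupOf.mp hf)
    rw [mem_normalizer_iff]
    intro y
    have := mem_normalizer_iff.mp hfN (y : H)
    rw [← mem_map_iff_mem M.subtype_injective (x := y), ← mem_map_iff_mem M.subtype_injective]
    simpa using this
  have hSF : (S : Subgroup M) ≤ F.subgroupOf M := by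
    intro s hs
    have h1 : (s : H) ∈ (Cfsg.pCore r M).map M.subtype :=
      mem_map_of_mem _ (Lib.Core.le_pCore' hSn S.2 hs)
    exact mem_subgroupOf.mpr (Lib.Core.pCore_le_fittingSubgroup r H
      (Lib.Core.pCore_map_le_of_isSubnormal hMn.isSubnormal h1))
  rw [sup_eq_left.mpr hSF, subgroupOf_eq_top] at hsup
  refine hOr ?_
  rw [← map_comap_eq_self_of_surjective (QuotientGroup.mk'_surjective F) (Cfsg.pCore r (H ⧸ F)), ← hM,
    Subgroup.map_eq_bot_iff, QuotientGroup.ker_mk']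
  exact hsup

end Main

theorem map_lcs_le {G K : Type*} [Group G] [Group K] (f : G →* K) :
    ∀ k, ((⊤ : Subgroup G).lowerCentralSeries k).map f ≤ (⊤ : Subgroup K).lowerCentralSeries k := by
  intro k
  induction k with
  | zero => exact le_top
  | succ k ih =>
    rw [Subgroup.lowerCentralSeries_succ, Subgroup.lowerCentralSeries_succ, map_commutator]
    exact commutator_mono ih le_top

/-- Ward's theorem: the nilpotent residual lies in the Fitting subgroup. -/
theorem main : ∀ (n : ℕ) (G : Type u) [Group G] [Finite G], Nat.card G = n → Group.IsSolvable G →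
    ∀ (p : ℕ) (A : Type u) [CommGroup A] [Finite A] (φ : A →* MulAut G), p.Prime → Nat.card A = p ^ 2 →
      (∀ c : A, c ^ p = 1) → (∀ g : G, (∀ c, φ c g = g) → g = 1) →
      ∃ k, (⊤ : Subgroup G).lowerCentralSeries k ≤ Cfsg.fittingSubgroup G := by
  intro n
  induction n using Nat.strong_induction_on with
  | _ n ih =>
  intro G _ _ hn hsol p A _ _ φ hpp hcard hexp hfpf
  subst hn
  cases subsingleton_or_nontrivial G
  · exact ⟨0, le_of_eq (Subsingleton.elim _ _)⟩
  have : Fact p.Prime := ⟨hpp⟩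
  have hfpf' : ∀ g : G, (∀ α ∈ φ.range, α g = g) → g = 1 := fun g h => hfpf g fun c => h _ ⟨c, rfl⟩
  have hAp : IsPGroup p φ.range := fun x => by
    obtain ⟨_, c, rfl⟩ := x
    exact ⟨1, Subtype.ext (by rw [pow_one, SubmonoidClass.coe_pow, ← map_pow, hexp, map_one]; rfl)⟩
  have hpG : ¬ p ∣ Nat.card G := fun hd => by
    obtain ⟨b, hb, hb1⟩ := hAp.exists_fixed_point_of_prime_dvd_card_of_fixed_point (G : Type u) hd
      (a := (1 : G)) (fun o => map_one (o : MulAut G))
    exact hb1 (hfpf' b fun α hα => hb ⟨α, hα⟩).symm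
  obtain ⟨N, ⟨hNn, hNA, hNne⟩, hmin⟩ := exists_minimal (φ.range : Set (MulAut G))
  obtain ⟨hab, ℓ, hl, hNp⟩ := nilpotent_quotient_step hsol φ.range N hmin hNA hNne
  have : Fact ℓ.Prime := ⟨hl⟩
  letI hNc : CommGroup N := { (inferInstance : Group N) with
    mul_comm := fun a b => Subtype.ext (hab a a.2 b b.2) }
  have hlt : Nat.card (G ⧸ N) < Nat.card G := by
    rw [← Subgroup.index_eq_card, ← N.card_mul_index]
    exact lt_mul_of_one_lt_left (Nat.pos_of_ne_zero index_ne_zero_of_finite)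
      (N.one_lt_card_iff_ne_bot.mpr hNne)
  -- action on the quotient and on `N`
  let φ' : A →* MulAut (G ⧸ N) :=
    { toFun := fun c => QuotientGroup.congr N N (φ c) (hNA _ ⟨c, rfl⟩)
      map_one' := MulEquiv.ext fun x => by
        obtain ⟨g, rfl⟩ := QuotientGroup.mk'_surjective N x
        show ((φ 1 g : G) : G ⧸ N) = g
        rw [map_one]; rfl
      map_mul' := fun c d => MulEquiv.ext fun x => by
        obtain ⟨g, rfl⟩ := QuotientGroup.mk'_surjective N x
        show ((φ (c * d) g : G) : G ⧸ N) = ((φ c (φ d g) : G) : G ⧸ N)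
        rw [map_mul]; rfl }
  obtain ⟨k1, hk1⟩ := ih _ hlt (G ⧸ N) rfl (solvable_of_surjective (QuotientGroup.mk'_surjective N))
    p A φ' hpp hcard hexp (fun x hx => by
      obtain ⟨g, rfl⟩ := QuotientGroup.mk'_surjective N x
      refine (QuotientGroup.eq_one_iff g).mpr (fpf_quotient φ.range hAp hpG hfpf' N hNA ?_)
      rintro _ ⟨c, rfl⟩
      rw [← QuotientGroup.eq_one_iff, QuotientGroup.mk_mul, QuotientGroup.mk_inv, inv_mul_eq_one]
      exact (hx c).symm)
  let ψ : A →* MulAut N :=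
    { toFun := fun c => resAut N (φ c) (hNA _ ⟨c, rfl⟩)
      map_one' := MulEquiv.ext fun x => Subtype.ext (by show φ 1 (x : G) = x; rw [map_one]; rfl)
      map_mul' := fun c d => MulEquiv.ext fun x => Subtype.ext (by
        show φ (c * d) (x : G) = φ c (φ d x)
        rw [map_mul]; rfl) }
  let D : Act N A p := ⟨ψ, hcard, hexp, fun v hv =>
    Subtype.ext (hfpf v fun c => congrArg Subtype.val (hv c))⟩
  let π : G →* MulAut N := MulAut.conjNormal
  have hcomm : ∀ c g, π (φ c g) = D.ψ c * π g * (D.ψ c)⁻¹ := by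
    intro c g
    refine eq_mul_inv_iff_mul_eq.mpr (MulEquiv.ext fun x => Subtype.ext ?_)
    rw [MulAut.mul_apply, MulAut.mul_apply, MulAut.conjNormal_apply]
    show _ = φ c ((π g x : N) : G)
    rw [MulAut.conjNormal_apply, map_mul, map_mul, map_inv]
    rfl
  have hH : ∀ c, ∀ y ∈ π.range, D.ψ c * y * (D.ψ c)⁻¹ ∈ π.range := by
    rintro c _ ⟨g, rfl⟩; exact ⟨φ c g, hcomm c g⟩
  have hHp : (Nat.card π.range).Coprime p :=
    (hpp.coprime_iff_not_dvd.mpr fun h => hpG (h.trans (card_range_dvd π))).symm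
  have hHfpf : ∀ y ∈ π.range, (∀ c, Commute (D.ψ c) y) → y = 1 := by
    rintro _ ⟨g, rfl⟩ hc
    have hkerA : ∀ α ∈ φ.range, π.ker.map α.toMonoidHom = π.ker := by
      rintro _ ⟨c, rfl⟩
      refine eq_of_le_of_card_ge ?_ (card_map_of_injective (φ c).injective).ge
      rintro _ ⟨x, hx, rfl⟩
      rw [MonoidHom.mem_ker]
      show π (φ c x) = 1
      rw [hcomm, MonoidHom.mem_ker.mp hx, mul_one, mul_inv_cancel]
    refine MonoidHom.mem_ker.mp (fpf_quotient φ.range hAp hpG hfpf' π.ker hkerA ?_)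
    rintro _ ⟨c, rfl⟩
    rw [MonoidHom.mem_ker, map_mul, map_inv, hcomm, D.conj_eq (hc c), inv_mul_cancel]
  have hnil := D.isNilpotent π.range (solvable_of_surjective π.rangeRestrict_surjective) hH hHp hHfpf
    (coprime_fitting hNp (pCore_range_eq_bot φ.range N hmin hNA hNne hNp))
  obtain ⟨k2, hk2⟩ := Subgroup.nilpotent_iff_lowerCentralSeries.mp hnil
  refine ⟨max k1 k2, ?_⟩
  set F1 := (Cfsg.fittingSubgroup (G ⧸ N)).comap (QuotientGroup.mk' N) with hF1
  have h1 : (⊤ : Subgroup G).lowerCentralSeries (max k1 k2) ≤ F1 := by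
    refine map_le_iff_le_comap.mp (((map_lcs_le _ _).trans ?_).trans hk1)
    exact Subgroup.lowerCentralSeries_antitone _ (le_max_left k1 k2)
  have h2 : (⊤ : Subgroup G).lowerCentralSeries (max k1 k2) ≤ π.ker := by
    intro x hx
    have h := map_lcs_le π.rangeRestrict (max k1 k2) (mem_map_of_mem _ hx)
    have h' := Subgroup.lowerCentralSeries_antitone _ (le_max_right k1 k2) h
    rw [hk2, mem_bot] at h'
    exact congrArg Subtype.val h'
  have hn : (F1 ⊓ π.ker).Normal := inferInstance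
  refine (le_inf h1 h2).trans (Lib.Core.le_fittingSubgroup' hn ?_)
  let f : ↥(F1 ⊓ π.ker) →* Cfsg.fittingSubgroup (G ⧸ N) :=
    ((QuotientGroup.mk' N).comp (F1 ⊓ π.ker).subtype).codRestrict _ fun x => (mem_inf.mp x.2).1
  have := Lib.Core.fittingSubgroup_isNilpotent (G ⧸ N)
  refine Subgroup.isNilpotent_of_ker_le_center f fun x hx => mem_center_iff.mpr fun y => Subtype.ext ?_
  have hxN : (x : G) ∈ N := (QuotientGroup.eq_one_iff _).mp (congrArg Subtype.val hx)
  have h := congrArg (fun e : MulAut N => ((e ⟨x, hxN⟩ : N) : G)) (MonoidHom.mem_ker.mp (mem_inf.mp y.2).2)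
  simp only [π, MulAut.conjNormal_apply, MulAut.one_apply] at h
  exact mul_inv_eq_iff_eq_mul.mp h

/-- Ward's Theorem: let G be a finite solvable group and A an elementary abelian group of automorphisms of G of order p² (p a prime) with no non-identity common fixed point. Then G has Fitting height at most 2: G has Fitting height at most m when there is a chain of normal subgroups 1 = F₀ ≤ F₁ ≤ ⋯ ≤ F_m = G with each F_{i+1}/F_i nilpotent. -/
theorem result {G : Type*} [Group G] [Finite G] (hG : Group.IsSolvable G) {p : ℕ} (hp : p.Prime) (A : Subgroup (MulAut G)) (hA : Cfsg.IsElementaryAbelian p A) (hcard : Nat.card A = p ^ 2) (hfpf : ∀ g : G, (∀ a ∈ A, a g = g) → g = 1) : ∃ F : Fin (2 + 1) → Subgroup G, F 0 = ⊥ ∧ F (Fin.last 2) = ⊤ ∧ Monotone F ∧ (∀ i, (F i).Normal) ∧ ∀ i : Fin 2, ∃ k : ℕ, (F i.succ).lowerCentralSeries k ≤ F i.castSucc := by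
  letI : CommGroup A := { (inferInstance : Group A) with mul_comm := hA.1.is_comm.comm }
  obtain ⟨k, hk⟩ := main _ G rfl hG p A A.subtype hp hcard
    (fun c => Subtype.ext (by simpa using hA.2 c c.2)) (fun g hg => hfpf g fun a ha => hg ⟨a, ha⟩)
  obtain ⟨k', hk'⟩ := (Subgroup.isNilpotent_iff_lowerCentralSeries (S := Cfsg.fittingSubgroup G)).mp
    (Lib.Core.fittingSubgroup_isNilpotent G)
  refine ⟨![⊥, Cfsg.fittingSubgroup G, ⊤], rfl, rfl, ?_, ?_, ?_⟩
  · intro i j hij
    fin_cases i <;> fin_cases j <;> simp_all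
  · intro i
    fin_cases i
    · exact inferInstanceAs (⊥ : Subgroup G).Normal
    · exact Lib.Core.fittingSubgroup_normal' G
    · exact inferInstanceAs (⊤ : Subgroup G).Normal
  · intro i
    fin_cases i
    · exact ⟨k', le_of_eq hk'⟩
    · exact ⟨k, hk⟩

end Cfsg.Agent.S3796
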