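import Cfsg.Statements.S3798
import Cfsg.Agent.Lib.Core.PSolvable
import Cfsg.Agent.Lib.Core.Cores
import Cfsg.Agent.Lib.PGroup.OddOmega
import Cfsg.Agent.Lib.Coprime.Conjugacy

set_option autoImplicit false
open Cfsg

namespace Cfsg.Agent.S3798

open Subgroup

section

variable {G : Type*} [Group G] [Finite G] {p : ℕ} [hp : Fact p.Prime]

/-- The automorphisms of `G` are transitive on the subgroups of order `p`. -/
def Trans (p : ℕ) (G : Type*) [Group G] : Prop :=
  ∀ U V : Subgroup G, Nat.card U = p → Nat.card V = p → ∃ a : MulAut G, U.map a.toMonoidHom = V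

theorem mem_of_trans (ht : Trans p G) {Z : Subgroup G}
    (hZ : ∀ a : MulAut G, Z.map a.toMonoidHom = Z) {u : G} (hu : u ∈ Z) (hu1 : orderOf u = p)
    {x : G} (hx : x ^ p = 1) : x ∈ Z := by
  by_cases h : x = 1
  · exact h ▸ one_mem Z
  obtain ⟨a, ha⟩ := ht (zpowers u) (zpowers x) (by rw [Nat.card_zpowers, hu1])
    (by rw [Nat.card_zpowers, orderOf_eq_prime hx h])
  obtain ⟨z, hz, rfl⟩ := mem_map.mp (ha ▸ mem_zpowers x : x ∈ (zpowers u).map a.toMonoidHom)
  exact (hZ a) ▸ mem_map_of_mem _ (zpowers_le.mpr hu hz)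

omit [Finite G] hp in
theorem map_centralizer_equiv (S : Subgroup G) (a : MulAut G) (hS : S.map a.toMonoidHom = S) :
    (centralizer (S : Set G)).map a.toMonoidHom = centralizer (S : Set G) := by
  ext x
  simp only [mem_map, mem_centralizer_iff, SetLike.mem_coe]
  constructor
  · rintro ⟨y, hy, rfl⟩ z hz
    rw [← hS] at hz
    obtain ⟨w, hw, rfl⟩ := mem_map.mp hz
    rw [← map_mul, ← map_mul, hy w hw]
  · intro hx
    refine ⟨a.symm x, fun z hz => ?_, by simp⟩
    apply a.injective
    rw [map_mul, map_mul, MulEquiv.apply_symm_apply]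
    exact hx _ (hS ▸ mem_map_of_mem a.toMonoidHom hz)

theorem exists_orderOf {Z : Subgroup G} (hZ : IsPGroup p Z) (hne : Z ≠ ⊥) :
    ∃ u ∈ Z, orderOf u = p := by
  obtain ⟨k, hk⟩ := IsPGroup.iff_card.mp hZ
  have hk0 : k ≠ 0 := fun h => hne (card_eq_one.mp (by rw [hk, h, pow_zero]))
  obtain ⟨u, hu⟩ := exists_prime_orderOf_dvd_card' (G := Z) p (hk ▸ dvd_pow_self p hk0)
  exact ⟨u, u.2, by rw [orderOf_coe]; exact hu⟩

theorem exists_pPrimeCore_ne_bot (h : Cfsg.IsPSolvable p G) [Nontrivial G]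
    (h0 : Cfsg.pCore p G = ⊥) : Cfsg.pPrimeCore p G ≠ ⊥ := by
  obtain ⟨M, hM⟩ := Lib.Core.exists_isMinNormal_univ (G := G)
  rcases Lib.Core.minimal_normal_of_isPSolvable h hM with hp' | hc
  · exact absurd (le_bot_iff.mp (h0 ▸ Lib.Core.le_pCore' hM.1 hp')) hM.2.1
  · exact fun hb => hM.2.1 (le_bot_iff.mp (hb ▸ Lib.Core.le_pPrimeCore' hM.1 hc))

/-- The reduced case. -/
theorem not_dvd_index_pCore (hp2 : p ≠ 2) (h : Cfsg.IsPSolvable p G)
    (hO : Cfsg.pPrimeCore p G = ⊥) (ht : Trans p G) : ¬ p ∣ (Cfsg.pCore p G).index := by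
  intro hdvd
  set N := Cfsg.pCore p G with hNdef
  have hNp : IsPGroup p N := Lib.Core.pCore_isPGroup p G
  have hCN : centralizer (N : Set G) ≤ N := Lib.Core.centralizer_pCore_le_of_isPSolvable h hO
  have hNne : N ≠ ⊥ := by
    intro hb
    have hc : centralizer (N : Set G) = ⊤ := by
      refine eq_top_iff.mpr fun x _ => mem_centralizer_iff.mpr fun y hy => ?_
      rw [SetLike.mem_coe, hb, mem_bot] at hy
      simp [hy]
    rw [hc, top_le_iff] at hCN
    rw [hCN, index_top] at hdvd
    exact hp.out.ne_one (Nat.dvd_one.mp hdvd)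
  have hNchar : ∀ a : MulAut G, N.map a.toMonoidHom = N := fun a => Lib.Core.map_pCore_equiv a
  -- every element of order `p` lies in `Z(N)`
  have hZchar : ∀ a : MulAut G,
      (N ⊓ centralizer (N : Set G)).map a.toMonoidHom = N ⊓ centralizer (N : Set G) := by
    intro a
    rw [map_inf _ _ _ a.injective, hNchar a, map_centralizer_equiv N a (hNchar a)]
  have hZne : N ⊓ centralizer (N : Set G) ≠ ⊥ := by
    have : Nontrivial N := (nontrivial_iff_ne_bot N).mpr hNne
    have := hNp.center_nontrivial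
    obtain ⟨z, hz⟩ := exists_ne (1 : center N)
    intro hb
    have hmem : ((z : N) : G) ∈ N ⊓ centralizer (N : Set G) :=
      mem_inf.mpr ⟨(z : N).2, mem_centralizer_iff.mpr fun y hy =>
        congrArg Subtype.val (mem_center_iff.mp z.2 ⟨y, hy⟩)⟩
    rw [hb, mem_bot] at hmem
    exact hz (Subtype.ext (Subtype.ext hmem))
  obtain ⟨u, hu, huo⟩ := exists_orderOf (hNp.to_le inf_le_left) hZne
  have hall : ∀ x : G, x ^ p = 1 → x ∈ N ⊓ centralizer (N : Set G) := fun x hx =>
    mem_of_trans ht hZchar hu huo hx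
  -- the next term of the upper series
  set f := QuotientGroup.mk' N with hf
  set M := (Cfsg.pPrimeCore p (G ⧸ N)).comap f with hM
  have hfs : Function.Surjective f := QuotientGroup.mk'_surjective N
  have hNM : N ≤ M := by
    rw [hM]; exact (QuotientGroup.ker_mk' N).symm.trans_le (ker_le_comap f _)
  have hMchar : ∀ a : MulAut G, M.map a.toMonoidHom = M := by
    intro a
    let e : (G ⧸ N) ≃* (G ⧸ N) := QuotientGroup.congr N N a (hNchar a)
    ext x
    rw [hM, mem_map_equiv, mem_comap, mem_comap]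
    have h1 : e (f (a.symm x)) = f x := by
      change ((a (a.symm x) : G) : G ⧸ N) = x
      rw [MulEquiv.apply_symm_apply]
    rw [← h1]
    conv_rhs => rw [← Lib.Core.map_pPrimeCore_equiv (p := p) e]
    exact (mem_map_iff_mem e.injective).symm
  have hcop : (Nat.card (N.subgroupOf M)).Coprime (N.subgroupOf M).index := by
    obtain ⟨m, hm⟩ := IsPGroup.iff_card.mp hNp
    have hidx : (N.subgroupOf M).index = Nat.card (Cfsg.pPrimeCore p (G ⧸ N)) := by
      show N.relIndex M = _
      have e : N = (⊥ : Subgroup (G ⧸ N)).comap f := by rw [MonoidHom.comap_bot, hf, QuotientGroup.ker_mk']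
      rw [hM]
      conv_lhs => arg 1; rw [e]
      rw [relIndex_comap, map_comap_eq_self_of_surjective hfs, relIndex_bot_left]
    rw [hidx, Nat.card_congr (subgroupOfEquivOfLe hNM).toEquiv, hm]
    exact Nat.Coprime.pow_left m (Lib.Core.pPrimeCore_coprime p _).symm
  obtain ⟨K0, hK0⟩ := Subgroup.exists_right_complement'_of_coprime hcop
  set K := K0.map M.subtype with hK
  have hKM : K ≤ M := map_subtype_le K0
  have hKc : (Nat.card K).Coprime (Nat.card N) := by
    rw [hK, card_map_of_injective M.subtype_injective, ← hK0.symm.index_eq_card,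
      ← Nat.card_congr (subgroupOfEquivOfLe hNM).toEquiv]
    exact hcop.symm
  have hsup : N ⊔ K = M := by
    refine le_antisymm (sup_le hNM hKM) fun x hx => ?_
    have hx' : (⟨x, hx⟩ : M) ∈ N.subgroupOf M ⊔ K0 := hK0.sup_eq_top ▸ mem_top _
    rw [hK, ← map_subgroupOf_eq_of_le hNM, ← Subgroup.map_sup]
    exact ⟨_, hx', rfl⟩
  have hNn : N.Normal := inferInstance
  have hnorm : ∀ S : Subgroup G, S ≤ normalizer (N : Set G) := fun S =>
    le_top.trans (normalizer_eq_top_iff.mpr hNn).ge
  have hfr : N ⊔ normalizer (K : Set G) = ⊤ := by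
    refine eq_top_iff.mpr fun g _ => ?_
    obtain ⟨n, hn, hB⟩ := Lib.Coprime.exists_conj_of_coprime N K
      (K.map (MulAut.conj g).toMonoidHom) (hnorm K) hKc
      (Or.inr (by have := hNp.isNilpotent; infer_instance))
      ((map_mono le_sup_right).trans (by
        rw [hsup]; exact (hMchar (MulAut.conj g)).le))
      (Lib.Coprime.card_map_conj K g)
    have hg : n⁻¹ * g ∈ normalizer (K : Set G) := by
      rw [mem_normalizer_iff_map_conj_eq]
      show K.map (MulAut.conj (n⁻¹ * g)).toMonoidHom = K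
      rw [← Lib.Coprime.map_conj_conj, hB, Lib.Coprime.map_conj_conj, inv_mul_cancel,
        Lib.Coprime.map_conj_one]
    have := mul_mem (mem_sup_left hn : n ∈ N ⊔ normalizer (K : Set G)) (mem_sup_right hg)
    simpa using this
  have hdvdK : p ∣ Nat.card (normalizer (K : Set G) : Subgroup G) := by
    refine hdvd.trans ?_
    rw [← relIndex_top_right, ← hfr, sup_comm, relIndex_sup_right]
    exact relIndex_dvd_card N _
  obtain ⟨w, hw⟩ := exists_prime_orderOf_dvd_card' (G := (normalizer (K : Set G) : Subgroup G)) p hdvdK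
  have hwo : orderOf (w : G) = p := by rw [orderOf_coe]; exact hw
  have hwp : (w : G) ^ p = 1 := by rw [← hwo, pow_orderOf_eq_one]
  have hwZ := hall _ hwp
  have hdisj := Lib.Coprime.disjoint_of_coprime_card hKc
  have hwM : (w : G) ∈ centralizer (M : Set G) := by
    have h1 : N ⊔ K ≤ centralizer ({(w : G)} : Set G) := by
      refine sup_le (fun y hy => mem_centralizer_singleton_iff.mpr
        (mem_centralizer_iff.mp (mem_inf.mp hwZ).2 y hy)) fun k hk => ?_
      rw [mem_centralizer_singleton_iff]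
      have ha : (w : G) * k * (w : G)⁻¹ * k⁻¹ ∈ K :=
        mul_mem ((mem_normalizer_iff.mp w.2 k).mp hk) (inv_mem hk)
      have hb : (w : G) * k * (w : G)⁻¹ * k⁻¹ ∈ N := by
        have := hNn.conj_mem _ (inv_mem (mem_inf.mp hwZ).1) k
        simpa [mul_assoc] using mul_mem (mem_inf.mp hwZ).1 this
      have h1 : (w : G) * k * (w : G)⁻¹ * k⁻¹ = 1 := disjoint_def.mp hdisj ha hb
      exact (mul_inv_eq_iff_eq_mul.mp (mul_inv_eq_one.mp h1)).symm
    rw [hsup] at h1
    exact mem_centralizer_iff.mpr fun y hy => mem_centralizer_singleton_iff.mp (h1 hy)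
  have hKN : K ≤ N := by
    refine le_trans ?_ hCN
    refine Lib.PGroup.le_centralizer_of_centralizes_omega hp2 K N hNp (hnorm K) hKc
      fun x _ hx a ha => ?_
    have := mem_of_trans ht (fun c => map_centralizer_equiv M c (hMchar c)) hwM hwo hx
    exact mem_centralizer_iff.mp this a (hKM ha)
  have hMN : Cfsg.pPrimeCore p (G ⧸ N) = ⊥ := by
    rw [← map_comap_eq_self_of_surjective hfs (Cfsg.pPrimeCore p (G ⧸ N)), ← hM, ← hsup,
      sup_eq_left.mpr hKN, Subgroup.map_eq_bot_iff, hf, QuotientGroup.ker_mk']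
  have : Nontrivial (G ⧸ N) := Finite.one_lt_card_iff_nontrivial.mp
    (lt_of_lt_of_le hp.out.one_lt (Nat.le_of_dvd Nat.card_pos hdvd))
  exact exists_pPrimeCore_ne_bot (Lib.Core.isPSolvable_quotient h N)
    Lib.Core.pCore_quotient_pCore_eq_bot hMN

theorem main (hp2 : p ≠ 2) (h : Cfsg.IsPSolvable p G) (ht : Trans p G) (U : Subgroup G) [U.Normal]
    (hU : U = Cfsg.pPrimeCore p G) : ¬ p ∣ (Cfsg.pCore p (G ⧸ U)).index := by
  subst hU
  set U := Cfsg.pPrimeCore p G
  refine not_dvd_index_pCore hp2 (Lib.Core.isPSolvable_quotient h U)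
    Lib.Core.pPrimeCore_quotient_eq_bot ?_
  have lift : ∀ V : Subgroup (G ⧸ U), Nat.card V = p →
      ∃ W : Subgroup G, Nat.card W = p ∧ W.map (QuotientGroup.mk' U) = V := by
    intro V hV
    have hc : Nat.card (V.comap (QuotientGroup.mk' U)) = Nat.card U * p := by
      rw [Lib.Core.card_comap_eq _ (QuotientGroup.mk'_surjective U), QuotientGroup.ker_mk', hV]
    obtain ⟨x, hx⟩ := exists_prime_orderOf_dvd_card' (G := V.comap (QuotientGroup.mk' U)) p
      (hc ▸ dvd_mul_left p _)
    have hxo : orderOf (x : G) = p := by rw [orderOf_coe]; exact hx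
    refine ⟨zpowers (x : G), by rw [Nat.card_zpowers, hxo], ?_⟩
    rw [MonoidHom.map_zpowers]
    refine eq_of_le_of_card_ge (zpowers_le.mpr (mem_comap.mp x.2)) ?_
    rw [hV, Nat.card_zpowers]
    refine (Nat.le_of_eq ?_)
    symm
    refine orderOf_eq_prime ?_ fun h1 => ?_
    · rw [← map_pow, ← hxo, pow_orderOf_eq_one, map_one]
    · have hmem : (x : G) ∈ U := (QuotientGroup.eq_one_iff _).mp h1
      have hd : p ∣ Nat.card U := hxo ▸ orderOf_mk (x : G) hmem ▸ orderOf_dvd_natCard _
      exact Lib.Core.pPrimeCore_not_dvd p G hd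
  intro A B hA hB
  obtain ⟨A', hA', hAm⟩ := lift A hA
  obtain ⟨B', hB', hBm⟩ := lift B hB
  obtain ⟨a, ha⟩ := ht A' B' hA' hB'
  refine ⟨QuotientGroup.congr U U a (Lib.Core.map_pPrimeCore_equiv a), ?_⟩
  rw [← hAm, ← hBm, ← ha, Subgroup.map_map, Subgroup.map_map]
  congr 1

end

/-- The Gaschütz–Yen Theorem: let G be a finite p-soluble group, p an odd prime dividing its order, such that the automorphism group of G permutes the subgroups of G of order p transitively. Then G has p-length at most 1. -/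
theorem result {G : Type*} [Group G] [Finite G] {p : ℕ} [Fact p.Prime] (hp : p ≠ 2) (hdvd : p ∣ Nat.card G) (hG : Cfsg.IsPSolvable p G) (htrans : ∀ U V : Subgroup G, Nat.card U = p → Nat.card V = p → ∃ a : MulAut G, U.map a.toMonoidHom = V) : Cfsg.PLengthLE p 1 G := by
  have h1 : (upperPSeries p G 1).1 = Cfsg.pPrimeCore p G := by
    show (Cfsg.pPrimeCore p (G ⧸ (⊥ : Subgroup G))).comap (QuotientGroup.mk' ⊥) = _
    rw [← Lib.Core.map_pPrimeCore_equiv (p := p) (QuotientGroup.quotientBot (G := G))]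
    ext x
    rw [mem_comap]
    exact (mem_map_iff_mem (QuotientGroup.quotientBot (G := G)).injective).symm
  have h2 := main hp hG htrans _ h1
  have h3 : (Cfsg.pPrimeCore p (G ⧸ (upperPSeries p G 2).1)) = ⊤ := by
    refine Lib.Core.pPrimeCore_eq_top ?_
    refine Lib.Core.coprime_iff_not_dvd'.mpr fun hd => h2 ?_
    change p ∣ ((Cfsg.pCore p (G ⧸ (upperPSeries p G 1).1)).comap (QuotientGroup.mk' _)).index at hd
    rwa [index_comap_of_surjective _ (QuotientGroup.mk'_surjective _)] at hd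
  show (Cfsg.pPrimeCore p (G ⧸ (upperPSeries p G 2).1)).comap (QuotientGroup.mk' _) = ⊤
  rw [h3, comap_top]

end Cfsg.Agent.S3798
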