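import Cfsg.Statements.S3797
import Cfsg.Agent.S3798
import Cfsg.Agent.Lib.TwoGroup.OneClassInvolutions
import Cfsg.Agent.Lib.Local.PLengthChain
import Cfsg.Agent.Lib.Local.PLengthOne
import Cfsg.Agent.Lib.Core.Cores
import Mathlib.GroupTheory.FiniteAbelian.Basic
-- import your own Cfsg.Agent.* helpers here

set_option autoImplicit false
open Cfsg

namespace Cfsg.Agent.S3797

open Subgroup Cfsg.Lib
open scoped commutatorElement

universe u

/-- All involutions are conjugate and there are two commuting ones. -/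
def OneClass (G : Type u) [Group G] : Prop :=
  (∀ x y : G, x ≠ 1 → x * x = 1 → y ≠ 1 → y * y = 1 → IsConj x y) ∧
    ∃ x y : G, x ≠ y ∧ x ≠ 1 ∧ x * x = 1 ∧ y ≠ 1 ∧ y * y = 1 ∧ Commute x y

theorem odd_coprime {a b : ℕ} (ha : Odd a) (hb : ∃ n, b = 2 ^ n) : a.Coprime b := by
  obtain ⟨n, rfl⟩ := hb
  exact (Nat.coprime_two_right.mpr ha).pow_right n

/-- A next layer above a normal subgroup, central modulo it. -/
theorem exists_layer {G : Type u} [Group G] [Finite G] {A D T : Subgroup G} [A.Normal] (hT : IsPGroup 2 T)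
    (hDT : D ≤ T) (hTD : T ≤ normalizer (D : Set G)) (hne : ¬ D ≤ A) :
    ∃ d ∈ D, d ∉ A ∧ d * d ∈ A ∧ ∀ t ∈ T, ⁅d, t⁆ ∈ A := by
  haveI : Fact (Nat.Prime 2) := ⟨Nat.prime_two⟩
  set φ := QuotientGroup.mk' A
  set Q := T.map φ
  have hQ : IsPGroup 2 Q := hT.map φ
  set D' := (D.map φ).subgroupOf Q
  haveI : D'.Normal := by
    refine normal_subgroupOf_iff_le_normalizer (map_mono hDT) |>.mpr ?_
    exact (map_mono hTD).trans (Subgroup.le_normalizer_map φ)
  have hD' : D' ≠ ⊥ := by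
    intro h
    rw [subgroupOf_eq_bot] at h
    have h1 : D.map φ = ⊥ := le_bot_iff.mp (h.le_bot.trans' (le_inf le_rfl (map_mono hDT)))
    rw [Subgroup.map_eq_bot_iff, QuotientGroup.ker_mk'] at h1
    exact hne h1
  have hc := PGroup.inf_center_ne_bot hQ (N := D') hD'
  obtain ⟨q, hq, hqo⟩ := S3798.exists_orderOf (p := 2) (hQ.to_subgroup _) hc
  obtain ⟨hqD, hqZ⟩ := mem_inf.mp hq
  obtain ⟨d, hd, hdq⟩ := mem_subgroupOf.mp hqD
  refine ⟨d, hd, fun hdA => ?_, ?_, fun t ht => ?_⟩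
  · have : q = 1 := Subtype.ext (by rw [← hdq]; exact (QuotientGroup.eq_one_iff d).mpr hdA)
    rw [this, orderOf_one] at hqo
    omega
  · rw [← QuotientGroup.eq_one_iff]
    show φ (d * d) = 1
    rw [map_mul, hdq, ← sq, ← coe_pow, ← hqo, pow_orderOf_eq_one]
    rfl
  · rw [← QuotientGroup.eq_one_iff]
    show φ ⁅d, t⁆ = 1
    rw [map_commutatorElement, hdq, commutatorElement_eq_one_iff_mul_comm]
    exact (congrArg Subtype.val (mem_center_iff.mp hqZ ⟨φ t, mem_map_of_mem φ ht⟩)).symm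

theorem commutator_le_centralizer {G : Type u} [Group G] {T K W : Subgroup G}
    (hW : ⁅W, T⁆ ≤ W) (hK : ⁅W, K⁆ = ⊥) : ⁅T, K⁆ ≤ centralizer (W : Set G) := by
  have h1 : ⁅⁅K, W⁆, T⁆ = ⊥ := by
    rw [Subgroup.commutator_comm K W, hK, commutator_bot_left]
  have h2 : ⁅⁅W, T⁆, K⁆ = ⊥ := le_bot_iff.mp ((commutator_mono hW le_rfl).trans hK.le)
  rw [← commutator_eq_bot_iff_le_centralizer]
  exact commutator_commutator_eq_bot_of_rotate h1 h2

/-- The subgroup of elements of `T` whose square and commutators with `T` lie in a normal subgroup. -/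
def layer {G : Type u} [Group G] (A T : Subgroup G) [hA : A.Normal] : Subgroup G where
  carrier := {d | d ∈ T ∧ d * d ∈ A ∧ ∀ t ∈ T, ⁅d, t⁆ ∈ A}
  one_mem' := ⟨one_mem T, by simp, fun t _ => by rw [commutatorElement_one_left]; exact one_mem A⟩
  mul_mem' := by
    rintro a b ⟨ha, ha2, hac⟩ ⟨hb, hb2, hbc⟩
    refine ⟨mul_mem ha hb, ?_, fun t ht => ?_⟩
    · have e : a * b * (a * b) = a * (⁅b, a⁆ * a) * (b * b) := by simp only [commutatorElement_def]; group
      rw [e, show a * (⁅b, a⁆ * a) * (b * b) = a * ⁅b, a⁆ * a⁻¹ * (a * a) * (b * b) by group]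
      exact mul_mem (mul_mem (hA.conj_mem _ (hbc a ha) a) ha2) hb2
    · rw [show ⁅a * b, t⁆ = a * ⁅b, t⁆ * a⁻¹ * ⁅a, t⁆ by simp only [commutatorElement_def]; group]
      exact mul_mem (hA.conj_mem _ (hbc t ht) a) (hac t ht)
  inv_mem' := by
    rintro a ⟨ha, ha2, hac⟩
    refine ⟨inv_mem ha, by rw [← mul_inv_rev]; exact inv_mem ha2, fun t ht => ?_⟩
    have h := hA.conj_mem _ (inv_mem (hac t ht)) a⁻¹
    rwa [show a⁻¹ * ⁅a, t⁆⁻¹ * a⁻¹⁻¹ = ⁅a⁻¹, t⁆ by simp only [commutatorElement_def]; group] at h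

theorem layer_conj {G : Type u} [Group G] (A T : Subgroup G) [hA : A.Normal] {d x : G}
    (hx : x ∈ normalizer (T : Set G)) (hd : d ∈ layer A T) : x * d * x⁻¹ ∈ layer A T := by
  refine ⟨(mem_normalizer_iff.mp hx d).mp hd.1, ?_, fun t ht => ?_⟩
  · rw [show x * d * x⁻¹ * (x * d * x⁻¹) = x * (d * d) * x⁻¹ by group]
    exact hA.conj_mem _ hd.2.1 x
  · have h := hA.conj_mem _ (hd.2.2 _ ((mem_normalizer_iff.mp (inv_mem hx) t).mp ht)) x
    rwa [show x * ⁅d, x⁻¹ * t * x⁻¹⁻¹⁆ * x⁻¹ = ⁅x * d * x⁻¹, t⁆ by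
      simp only [commutatorElement_def]; group] at h

/-- The reduced case. -/
theorem reduced {G : Type u} [Group G] [Finite G] [Group.IsSolvable G] (hG : OneClass G)
    (hO : Cfsg.pPrimeCore 2 G = ⊥)
    (IH : ∀ N : Subgroup G, N ≠ ⊤ → OneClass N → Local.PChain 2 1 N) : Local.PChain 2 1 G := by
  classical
  haveI : Fact (Nat.Prime 2) := ⟨Nat.prime_two⟩
  obtain ⟨hconj, x₀, y₀, hxy₀, hx₀, hx₀2, hy₀, hy₀2, -⟩ := hG
  have hps : Cfsg.IsPSolvable 2 G := Core.isPSolvable_of_isSolvable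
  set T := Cfsg.pCore 2 G with hTdef
  have hTp : IsPGroup 2 T := Core.pCore_isPGroup 2 G
  have hTn : T.Normal := inferInstance
  have hCT : centralizer (T : Set G) ≤ T := Core.centralizer_pCore_le_of_isPSolvable hps hO
  have hT2 : ∃ n, Nat.card T = 2 ^ n := IsPGroup.iff_card.mp hTp
  by_cases heven : (Nat.card (G ⧸ T)).Coprime 2
  · exact Local.PChain.extension_p T hTp (Local.pChain_of_coprime heven 0)
  exfalso
  -- all involutions are central in `T`
  let V : Subgroup G :=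
    { carrier := {x | x ∈ T ∧ x * x = 1 ∧ x ∈ centralizer (T : Set G)}
      one_mem' := ⟨one_mem T, one_mul 1, one_mem _⟩
      mul_mem' := by
        rintro a b ⟨ha, ha2, hac⟩ ⟨hb, hb2, hbc⟩
        refine ⟨mul_mem ha hb, ?_, mul_mem hac hbc⟩
        calc a * b * (a * b) = a * (b * a) * b := by group
          _ = a * (a * b) * b := by rw [mem_centralizer_iff.mp hac b hb]
          _ = a * a * (b * b) := by group
          _ = 1 := by rw [ha2, hb2, one_mul]
      inv_mem' := by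
        rintro a ⟨ha, ha2, hac⟩
        exact ⟨inv_mem ha, by rw [← mul_inv_rev, ha2, inv_one], inv_mem hac⟩ }
  have hVn : V.Normal := by
    refine ⟨fun a ha g => ⟨hTn.conj_mem a ha.1 g, ?_, (inferInstance : (centralizer (T : Set G)).Normal).conj_mem a ha.2.2 g⟩⟩
    rw [show g * a * g⁻¹ * (g * a * g⁻¹) = g * (a * a) * g⁻¹ by group, ha.2.1]; group
  haveI := hVn
  obtain ⟨z, hz⟩ : ∃ z : G, z ∈ V ∧ z ≠ 1 := by
    have hTne : T ≠ ⊥ := by
      intro h
      have : centralizer (T : Set G) = ⊤ := by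
        rw [h]; exact eq_top_iff.mpr fun g _ => mem_centralizer_iff.mpr fun y hy => by
          rw [SetLike.mem_coe, mem_bot] at hy; simp [hy]
      rw [this, top_le_iff] at hCT
      exact hx₀ (mem_bot.mp (h ▸ hCT.symm ▸ mem_top x₀))
    haveI : Nontrivial T := (nontrivial_iff_ne_bot T).mpr hTne
    haveI := hTp.center_nontrivial
    obtain ⟨c, hc, hco⟩ := S3798.exists_orderOf (p := 2) (hTp.to_subgroup (center T))
      ((nontrivial_iff_ne_bot _).mp inferInstance)
    have hc2 : c * c = 1 := by rw [← sq, ← hco, pow_orderOf_eq_one]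
    refine ⟨c, ⟨c.2, congrArg Subtype.val hc2, mem_centralizer_iff.mpr fun t ht =>
      congrArg Subtype.val (mem_center_iff.mp hc ⟨t, ht⟩)⟩, fun h => ?_⟩
    rw [show c = 1 from Subtype.ext h, orderOf_one] at hco
    omega
  have hinv : ∀ y : G, y * y = 1 → y ∈ V := by
    intro y hy
    by_cases h1 : y = 1
    · exact h1 ▸ one_mem V
    obtain ⟨g, hg⟩ := isConj_iff.mp (hconj z y hz.2 hz.1.2.1 h1 hy)
    exact hg ▸ hVn.conj_mem z hz.1 g
  have hVT : V ≤ T := fun _ h => h.1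
  have hVexp : ∀ v ∈ V, v * v = 1 := fun _ h => h.2.1
  have hVc : ∀ v ∈ V, ∀ t ∈ T, Commute v t := fun v hv t ht => (mem_centralizer_iff.mp hv.2.2 t ht).symm
  -- a complement of `T` in the preimage of the odd core of the quotient
  set φ := QuotientGroup.mk' T with hφdef
  have hφ := QuotientGroup.mk'_surjective T
  have hps' : Cfsg.IsPSolvable 2 (G ⧸ T) := Core.isPSolvable_quotient hps T
  have hO2 : Cfsg.pCore 2 (G ⧸ T) = ⊥ := Core.pCore_quotient_pCore_eq_bot
  haveI : Nontrivial (G ⧸ T) := by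
    rw [← Finite.one_lt_card_iff_nontrivial]
    have hpos : 0 < Nat.card (G ⧸ T) := Nat.card_pos
    rcases Nat.lt_or_ge 1 (Nat.card (G ⧸ T)) with h | h
    · exact h
    · exact absurd (show (Nat.card (G ⧸ T)).Coprime 2 by rw [show Nat.card (G ⧸ T) = 1 by omega]; exact Nat.coprime_one_left 2) heven
  set P := Cfsg.pPrimeCore 2 (G ⧸ T) with hPdef
  have hPne : P ≠ ⊥ := S3798.exists_pPrimeCore_ne_bot hps' hO2
  have hPodd : Odd (Nat.card P) := Nat.coprime_two_right.mp (Core.pPrimeCore_coprime 2 _)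
  set M := P.comap φ with hMdef
  haveI hMn : M.Normal := Subgroup.Normal.comap inferInstance φ
  have hTM : T ≤ M := (QuotientGroup.ker_mk' T).symm.trans_le (ker_le_comap φ _)
  have hidx : (T.subgroupOf M).index = Nat.card P := by
    show T.relIndex M = _
    have e : T = (⊥ : Subgroup (G ⧸ T)).comap φ := by rw [MonoidHom.comap_bot, hφdef, QuotientGroup.ker_mk']
    rw [hMdef]
    conv_lhs => arg 1; rw [e]
    rw [relIndex_comap, map_comap_eq_self_of_surjective hφ, relIndex_bot_left]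
  have hcop : (Nat.card (T.subgroupOf M)).Coprime (T.subgroupOf M).index := by
    rw [hidx, Nat.card_congr (subgroupOfEquivOfLe hTM).toEquiv]
    exact (odd_coprime hPodd hT2).symm
  obtain ⟨L0, hL0⟩ := Subgroup.exists_right_complement'_of_coprime hcop
  set L := L0.map M.subtype with hL
  have hLM : L ≤ M := map_subtype_le L0
  have hLodd : Odd (Nat.card L) := by
    rw [hL, card_map_of_injective M.subtype_injective, ← hL0.symm.index_eq_card, hidx]; exact hPodd
  have hLT : (Nat.card L).Coprime (Nat.card T) := odd_coprime hLodd hT2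
  have hdisj : Disjoint L T := Coprime.disjoint_of_coprime_card hLT
  have hsup : T ⊔ L = M := by
    refine le_antisymm (sup_le hTM hLM) fun x hx => ?_
    have hx' : (⟨x, hx⟩ : M) ∈ T.subgroupOf M ⊔ L0 := hL0.sup_eq_top ▸ mem_top _
    rw [hL, ← map_subgroupOf_eq_of_le hTM, ← Subgroup.map_sup]
    exact ⟨_, hx', rfl⟩
  have hnorm : ∀ S : Subgroup G, S ≤ normalizer (T : Set G) := fun S => by
    rw [normalizer_eq_top_iff.mpr hTn]; exact le_top
  have hsolT : Group.IsSolvable T := by haveI := hTp.isNilpotent; infer_instance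
  have hfr : T ⊔ normalizer (L : Set G) = ⊤ := by
    refine eq_top_iff.mpr fun g _ => ?_
    obtain ⟨n, hn, hB⟩ := Coprime.exists_conj_of_coprime T L
      (L.map (MulAut.conj g).toMonoidHom) (hnorm L) hLT (Or.inr hsolT)
      ((map_mono le_sup_right).trans (by
        rw [hsup]; rintro _ ⟨m, hm, rfl⟩; exact hMn.conj_mem m hm g))
      (Coprime.card_map_conj L g)
    have hg : n⁻¹ * g ∈ normalizer (L : Set G) := by
      rw [mem_normalizer_iff_map_conj_eq]
      show L.map (MulAut.conj (n⁻¹ * g)).toMonoidHom = L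
      rw [← Coprime.map_conj_conj, hB, Coprime.map_conj_conj, inv_mul_cancel, Coprime.map_conj_one]
    have := mul_mem (mem_sup_left hn : n ∈ T ⊔ normalizer (L : Set G)) (mem_sup_right hg)
    simpa using this
  -- the complement centralizes `V`
  have hLV : ∀ v ∈ V, ∀ l ∈ L, Commute v l := by
    let C := V ⊓ centralizer (L : Set G)
    have hCn : C.Normal := by
      refine ⟨fun a ha g => ?_⟩
      obtain ⟨t, ht, n, hn, rfl⟩ := mem_sup_of_normal_left.mp (hfr ▸ mem_top g : g ∈ T ⊔ normalizer (L : Set G))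
      have hb : n * a * n⁻¹ ∈ C := by
        refine ⟨hVn.conj_mem a ha.1 n, mem_centralizer_iff.mpr fun l hl => ?_⟩
        have h := mem_centralizer_iff.mp ha.2 _ ((mem_normalizer_iff.mp (inv_mem hn) l).mp hl)
        calc l * (n * a * n⁻¹) = n * (n⁻¹ * l * n⁻¹⁻¹ * a) * n⁻¹ := by group
          _ = n * (a * (n⁻¹ * l * n⁻¹⁻¹)) * n⁻¹ := by rw [h]
          _ = n * a * n⁻¹ * l := by group
      have hc := hVc _ hb.1 t ht
      rwa [show t * n * a * (t * n)⁻¹ = t * (n * a * n⁻¹) * t⁻¹ by group, ← hc.eq, mul_inv_cancel_right]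
    have hall : ∀ w ∈ C, w ≠ 1 → ∀ v ∈ V, v ∈ C := by
      intro w hw hw1 v hv
      by_cases h1 : v = 1
      · exact h1 ▸ one_mem C
      obtain ⟨g, hg⟩ := isConj_iff.mp (hconj w v hw1 (hVexp w hw.1) h1 (hVexp v hv))
      exact hg ▸ hCn.conj_mem w hw g
    have hdvd : 2 ∣ Nat.card (normalizer (L : Set G)) := by
      have h2 : 2 ∣ T.index := by
        by_contra h
        exact heven (Nat.coprime_comm.mp (Nat.prime_two.coprime_iff_not_dvd.mpr h))
      refine h2.trans ?_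
      rw [← relIndex_top_right, ← hfr, sup_comm, relIndex_sup_right]
      exact relIndex_dvd_card T _
    obtain ⟨w, hw⟩ := exists_prime_orderOf_dvd_card' (G := normalizer (L : Set G)) 2 hdvd
    have hwo : orderOf (w : G) = 2 := by rw [orderOf_coe]; exact hw
    have hw1 : (w : G) ≠ 1 := fun h => by rw [h, orderOf_one] at hwo; omega
    have hwV : (w : G) ∈ V := hinv _ (by rw [← sq, ← hwo, pow_orderOf_eq_one])
    have hwC : (w : G) ∈ C := by
      refine ⟨hwV, mem_centralizer_iff.mpr fun l hl => ?_⟩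
      have ha : (w : G) * l * (w : G)⁻¹ * l⁻¹ ∈ L := mul_mem ((mem_normalizer_iff.mp w.2 l).mp hl) (inv_mem hl)
      have hb : (w : G) * l * (w : G)⁻¹ * l⁻¹ ∈ T := by
        have := mul_mem (hVT hwV) (hTn.conj_mem _ (inv_mem (hVT hwV)) l)
        simpa [mul_assoc] using this
      exact (mul_inv_eq_iff_eq_mul.mp (mul_inv_eq_one.mp (disjoint_def.mp hdisj ha hb))).symm
    intro v hv l hl
    exact (mem_centralizer_iff.mp (hall _ hwC hw1 v hv).2 l hl).symm
  -- an abelian piece of the complement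
  obtain ⟨K₀, hK₀, hK₀P⟩ := Core.exists_isMinNormal (N := P) inferInstance hPne
  haveI := hK₀.1
  set K := L ⊓ K₀.comap φ with hK
  have hKL : K ≤ L := inf_le_left
  have hKne : K ≠ ⊥ := by
    intro h
    obtain ⟨q, hq, hq1⟩ := (bot_or_exists_ne_one _).resolve_left hK₀.2.1
    obtain ⟨g, rfl⟩ := hφ q
    obtain ⟨t, ht, l, hl, rfl⟩ := mem_sup_of_normal_left.mp (hsup ▸ mem_comap.mpr (hK₀P hq) : g ∈ T ⊔ L)
    have hφt : φ t = 1 := (QuotientGroup.eq_one_iff t).mpr ht
    have hlK : l ∈ K := ⟨hl, mem_comap.mpr (by rwa [map_mul, hφt, one_mul] at hq)⟩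
    rw [h, mem_bot] at hlK
    exact hq1 (by rw [map_mul, hφt, one_mul, hlK, map_one])
  have hKcomm : ∀ k ∈ K, ∀ l ∈ K, Commute k l := by
    intro k hk l hl
    have hab := (Core.minimal_solvable_elementary hK₀ inferInstance).1
    have h1 : φ ⁅k, l⁆ = 1 := by
      rw [map_commutatorElement, commutatorElement_eq_one_iff_mul_comm]
      exact congrArg Subtype.val (hab.is_comm.comm ⟨φ k, hk.2⟩ ⟨φ l, hl.2⟩)
    rw [← commutatorElement_eq_one_iff_commute]
    refine disjoint_def.mp hdisj ?_ ((QuotientGroup.eq_one_iff _).mp h1)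
    exact mul_mem (mul_mem (mul_mem hk.1 hl.1) (inv_mem hk.1)) (inv_mem hl.1)
  have hKodd : Odd (Nat.card K) := hLodd.of_dvd_nat (card_dvd_of_le hKL)
  have hKV : ∀ v ∈ V, ∀ k ∈ K, Commute v k := fun v hv k hk => hLV v hv k (hKL hk)
  set N := normalizer (K : Set G) with hN
  have hTN : T ⊔ N = ⊤ := by
    refine top_le_iff.mp (hfr.ge.trans (sup_le_sup le_rfl fun n hn => mem_normalizer_iff.mpr fun k => ?_))
    have hcomapn : (K₀.comap φ).Normal := hK₀.1.comap φ
    constructor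
    · rintro ⟨h1, h2⟩
      exact ⟨(mem_normalizer_iff.mp hn k).mp h1, hcomapn.conj_mem k h2 n⟩
    · rintro ⟨h1, h2⟩
      refine ⟨(mem_normalizer_iff.mp hn k).mpr h1, ?_⟩
      have := hcomapn.conj_mem _ h2 n⁻¹
      rwa [show n⁻¹ * (n * k * n⁻¹) * n⁻¹⁻¹ = k by group] at this
  have hKT : ∀ t ∈ T, t ∈ N → ∀ k ∈ K, Commute t k := by
    intro t ht htN k hk
    rw [← commutatorElement_eq_one_iff_commute]
    refine disjoint_def.mp hdisj (hKL (mul_mem ((mem_normalizer_iff.mp htN k).mp hk) (inv_mem hk))) ?_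
    have h := mul_mem ht (hTn.conj_mem _ (inv_mem ht) k)
    rwa [show t * (k * t⁻¹ * k⁻¹) = ⁅t, k⁆ by rw [commutatorElement_def]; group] at h
  have hcopK : ∀ W : Subgroup G, W ≤ T → (Nat.card K).Coprime (Nat.card W) := fun W hW =>
    (hLT.coprime_dvd_left (card_dvd_of_le hKL)).coprime_dvd_right (card_dvd_of_le hW)
  have hsolW : ∀ W : Subgroup G, W ≤ T → Group.IsSolvable K ∨ Group.IsSolvable W := fun W hW => by
    haveI := (hTp.to_le hW).isNilpotent
    exact Or.inr inferInstance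
  have hnormal : ∀ (W : Subgroup G) [W.Normal], K ≤ normalizer (W : Set G) := fun W _ => by
    rw [normalizer_eq_top_iff.mpr ‹W.Normal›]; exact le_top
  -- `K` does not centralize `T`
  have hTK : ⁅T, K⁆ ≠ ⊥ := by
    intro h
    rw [Subgroup.commutator_comm, commutator_eq_bot_iff_le_centralizer] at h
    obtain ⟨k, hk, hk1⟩ := (bot_or_exists_ne_one _).resolve_left hKne
    exact hk1 (disjoint_def.mp hdisj (hKL hk) (hCT (h hk)))
  -- normal abelian subgroups in `T` lie in `V`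
  have hab : ∀ A : Subgroup G, A.Normal → A ≤ T → IsMulCommutative A → A ≤ V := by
    intro A hAn hAT hAc
    haveI := hAn
    let fam : Set (Subgroup G) := {B | B.Normal ∧ B ≤ T ∧ IsMulCommutative B ∧ A ⊔ V ≤ B}
    have hne : fam.Nonempty := by
      refine ⟨A ⊔ V, inferInstance, sup_le hAT hVT, ?_, le_rfl⟩
      refine ⟨⟨fun a b => Subtype.ext ?_⟩⟩
      obtain ⟨a', ha, v, hv, hav⟩ := mem_sup_of_normal_left.mp a.2
      obtain ⟨b', hb, w, hw, hbw⟩ := mem_sup_of_normal_left.mp b.2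
      have h1 : Commute a' b' := congrArg Subtype.val (hAc.is_comm.comm ⟨a', ha⟩ ⟨b', hb⟩)
      have h2 : Commute a' w := (hVc w hw a' (hAT ha)).symm
      have h3 : Commute v b' := hVc v hv b' (hAT hb)
      have h4 : Commute v w := hVc v hv w (hVT hw)
      show (a : G) * b = b * a
      rw [← hav, ← hbw]
      exact ((h1.mul_right h2).mul_left (h3.mul_right h4)).eq
    obtain ⟨A₀, ⟨hA₀n, hA₀T, hA₀c, hA₀le⟩, hmax⟩ := Set.Finite.exists_maximal (Set.toFinite fam) hne
    haveI := hA₀n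
    have hAA₀ : A ≤ A₀ := le_sup_left.trans hA₀le
    have hVA₀ : V ≤ A₀ := le_sup_right.trans hA₀le
    by_contra hAV
    obtain ⟨a, ha, haV, ha2, -⟩ := exists_layer (A := V) hTp hA₀T
      (by rw [normalizer_eq_top_iff.mpr hA₀n]; exact le_top) (fun h => hAV (hAA₀.trans h))
    have hsq : ∀ v ∈ V, ∃ b ∈ A₀, b * b = v := by
      intro v hv
      by_cases h1 : v = 1
      · exact ⟨1, one_mem _, by rw [h1, one_mul]⟩
      have hne1 : a * a ≠ 1 := fun h => haV (hinv a h)
      obtain ⟨g, hg⟩ := isConj_iff.mp (hconj _ v hne1 (hVexp _ ha2) h1 (hVexp v hv))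
      exact ⟨g * a * g⁻¹, hA₀n.conj_mem a ha g, by rw [← hg]; group⟩
    have hA₀K : ⁅A₀, K⁆ = ⊥ := by
      by_contra hne
      obtain ⟨w, hw, hwo⟩ := S3798.exists_orderOf (p := 2) ((hTp.to_le hA₀T).to_le (commutator_le_left A₀ K)) hne
      have hwV : w ∈ V := hinv w (by rw [← sq, ← hwo, pow_orderOf_eq_one])
      haveI := hA₀c
      have := disjoint_def.mp (Coprime.disjoint_commutator_centralizer (hnormal A₀) (hcopK A₀ hA₀T)) hw
        (mem_centralizer_iff.mpr fun k hk => (hKV w hwV k hk).symm.eq)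
      rw [this, orderOf_one] at hwo
      omega
    let D₁ := layer A₀ T ⊓ centralizer (A₀ : Set G)
    haveI hD₁n : D₁.Normal := by
      refine ⟨fun d hd g => ⟨layer_conj A₀ T (by rw [normalizer_eq_top_iff.mpr hTn]; trivial) hd.1, ?_⟩⟩
      exact (inferInstance : (centralizer (A₀ : Set G)).Normal).conj_mem d hd.2 g
    have hA₀D : A₀ ≤ D₁ := fun x hx =>
      ⟨⟨hA₀T hx, mul_mem hx hx, fun t _ => by
        have := mul_mem hx (hA₀n.conj_mem _ (inv_mem hx) t)
        rwa [show x * (t * x⁻¹ * t⁻¹) = ⁅x, t⁆ by rw [commutatorElement_def]; group] at this⟩,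
        mem_centralizer_iff.mpr fun y hy => congrArg Subtype.val (hA₀c.is_comm.comm ⟨y, hy⟩ ⟨x, hx⟩)⟩
    have hD₁T : D₁ ≤ T := fun d hd => hd.1.1
    have hA₀cent : ∀ d ∈ D₁, ∀ x ∈ A₀, Commute x d := fun d hd x hx => mem_centralizer_iff.mp hd.2 x hx
    have hcom2 : ∀ d ∈ D₁, ∀ e ∈ D₁, ⁅d, e⁆ ∈ V := by
      intro d hd e he
      have hzA : ⁅d, e⁆ ∈ A₀ := hd.1.2.2 e (hD₁T he)
      refine hinv _ ?_
      have h1 : ⁅d * d, e⁆ = 1 := commutatorElement_eq_one_iff_commute.mpr (hA₀cent e he _ hd.1.2.1)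
      rw [show ⁅d * d, e⁆ = d * ⁅d, e⁆ * d⁻¹ * ⁅d, e⁆ by simp only [commutatorElement_def]; group,
        ← (hA₀cent d hd _ hzA).eq, mul_inv_cancel_right] at h1
      exact h1
    have hD₁K : ⁅D₁, K⁆ = ⊥ := by
      refine Coprime.commutator_eq_bot_of_stabilizes (hnormal D₁) (hcopK D₁ hD₁T) (hsolW D₁ hD₁T) ?_ hA₀K
      rw [Subgroup.commutator_le]
      intro d hd k hk
      set d' := k * d * k⁻¹ with hd'
      have hd'D : d' ∈ D₁ := hD₁n.conj_mem d hd k
      set e := d⁻¹ * d' with he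
      have heD : e ∈ D₁ := mul_mem (inv_mem hd) hd'D
      have hdd : d' * d' = d * d := by
        have hc : Commute (d * d) k := by
          rw [← commutatorElement_eq_one_iff_commute, ← mem_bot, ← hA₀K]
          exact commutator_mem_commutator hd.1.2.1 hk
        rw [show d' * d' = k * (d * d) * k⁻¹ by rw [hd']; group, ← hc.eq, mul_inv_cancel_right]
      have he2 : e * e ∈ V := by
        have hz := hcom2 e heD d hd
        have h1 : d * e * (d * e) = d * d := by rw [he, mul_inv_cancel_left]; exact hdd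
        have h2 : d * e * (d * e) = d * (d * (e * e) * ((e * e)⁻¹ * (d⁻¹ * e * d) * e)) := by group
        have hcm : Commute ⁅e, d⁆ e := hVc _ hz e (hD₁T heD)
        have hcd : Commute ⁅e, d⁆ d := hVc _ hz d (hD₁T hd)
        have h3 : d⁻¹ * e * d = ⁅e, d⁆ * e := by
          calc d⁻¹ * e * d = d⁻¹ * (⁅e, d⁆ * d) * e := by rw [commutatorElement_def]; group
            _ = d⁻¹ * (d * ⁅e, d⁆) * e := by rw [hcd.eq]
            _ = ⁅e, d⁆ * e := by group
        have h4 : d * e * (d * e) = d * d * (⁅e, d⁆ * (e * e)) := by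
          calc d * e * (d * e) = d * d * (d⁻¹ * e * d) * e := by group
            _ = _ := by rw [h3]; group
        rw [h4] at h1
        have h5 : ⁅e, d⁆ * (e * e) = 1 := by simpa using h1
        rw [eq_inv_of_mul_eq_one_right h5]
        exact inv_mem hz
      obtain ⟨b, hb, hbe⟩ := hsq _ he2
      have heA : e ∈ A₀ := by
        have hc : Commute b e := hA₀cent e heD b hb
        have h1 : b⁻¹ * e * (b⁻¹ * e) = 1 := by
          calc b⁻¹ * e * (b⁻¹ * e) = b⁻¹ * (e * b⁻¹) * e := by group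
            _ = b⁻¹ * (b⁻¹ * e) * e := by rw [hc.inv_left.eq]
            _ = (b * b)⁻¹ * (e * e) := by group
            _ = 1 := by rw [hbe, inv_mul_cancel]
        have := mul_mem hb (hVA₀ (hinv _ h1))
        rwa [mul_inv_cancel_left] at this
      have h6 := inv_mem (hA₀n.conj_mem e heA d)
      rwa [show (d * e * d⁻¹)⁻¹ = ⁅d, k⁆ by rw [he, hd', commutatorElement_def]; group] at h6
    have hCD : T ⊓ centralizer (D₁ : Set G) ≤ A₀ := by
      by_contra hne
      obtain ⟨d, hd, hdA, hd2, hdc⟩ := exists_layer (A := A₀) hTp inf_le_left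
        (by rw [normalizer_eq_top_iff.mpr (inferInstance : (T ⊓ centralizer (D₁ : Set G)).Normal)]; exact le_top) hne
      have hdD : d ∈ D₁ := ⟨⟨hd.1, hd2, hdc⟩, centralizer_le hA₀D hd.2⟩
      have hA₁ : D₁ ⊓ centralizer (D₁ : Set G) ∈ fam := by
        refine ⟨inferInstance, inf_le_left.trans hD₁T,
          ⟨⟨fun a b => Subtype.ext (mem_centralizer_iff.mp b.2.2 a a.2.1)⟩⟩,
          hA₀le.trans fun x hx => ⟨hA₀D hx, mem_centralizer_iff.mpr fun y hy => (hA₀cent y hy x hx).eq.symm⟩⟩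
      have hle : A₀ ≤ D₁ ⊓ centralizer (D₁ : Set G) := fun x hx =>
        ⟨hA₀D hx, mem_centralizer_iff.mpr fun y hy => (hA₀cent y hy x hx).eq.symm⟩
      exact hdA (hmax hA₁ hle ⟨hdD, hd.2⟩)
    refine hTK (Coprime.commutator_eq_bot_of_stabilizes (hnormal T) (hcopK T le_rfl) (hsolW T le_rfl)
      ((le_inf (commutator_le_left T K) (commutator_le_centralizer (commutator_le_left D₁ T) hD₁K)).trans hCD) hA₀K)
  -- the layer over `V`
  let U := layer V T
  have hUT : U ≤ T := fun _ h => h.1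
  haveI hUn : U.Normal := ⟨fun d hd g => layer_conj V T (by rw [normalizer_eq_top_iff.mpr hTn]; trivial) hd⟩
  have hVU : V ≤ U := fun v hv => ⟨hVT hv, mul_mem hv hv, fun t ht => by
    rw [commutatorElement_eq_one_iff_commute.mpr (hVc v hv t ht)]; exact one_mem V⟩
  have hVK : ⁅V, K⁆ = ⊥ := by
    rw [eq_bot_iff, Subgroup.commutator_le]
    intro v hv k hk
    rw [mem_bot, commutatorElement_eq_one_iff_commute]
    exact hKV v hv k hk
  have hUne : ∃ u ∈ U, u ∉ V := by
    have hTV : ¬ T ≤ V := fun h => hTK (le_bot_iff.mp ((commutator_mono h le_rfl).trans hVK.le))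
    obtain ⟨d, hd, hdV, hd2, hdc⟩ := exists_layer (A := V) hTp le_rfl le_normalizer hTV
    exact ⟨d, ⟨hd, hd2, hdc⟩, hdV⟩
  have hCU : T ⊓ centralizer (U : Set G) ≤ V := by
    by_contra hne
    obtain ⟨d, hd, hdV, hd2, hdc⟩ := exists_layer (A := V) hTp inf_le_left
      (by rw [normalizer_eq_top_iff.mpr (inferInstance : (T ⊓ centralizer (U : Set G)).Normal)]; exact le_top) hne
    exact hdV (hab (U ⊓ centralizer (U : Set G)) inferInstance (inf_le_left.trans hUT)
      ⟨⟨fun a b => Subtype.ext (mem_centralizer_iff.mp b.2.2 a a.2.1)⟩⟩ ⟨⟨hd.1, hd2, hdc⟩, hd.2⟩)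
  have hUTc : ⁅U, T⁆ ≤ V := by
    rw [Subgroup.commutator_le]; intro u hu t ht; exact hu.2.2 t ht
  have hUK : ⁅U, K⁆ ≠ ⊥ := by
    intro h
    refine hTK (Coprime.commutator_eq_bot_of_stabilizes (hnormal T) (hcopK T le_rfl) (hsolW T le_rfl)
      ((le_inf (commutator_le_left T K) (commutator_le_centralizer (hUTc.trans hVU) h)).trans hCU) hVK)
  have hUfpf : ∀ u ∈ U, (∀ k ∈ K, Commute k u) → u ∈ V := by
    intro u hu huK
    by_contra huV
    let U₁ := U ⊓ centralizer (K : Set G)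
    have hVU₁ : V ≤ U₁ := fun v hv => ⟨hVU hv, mem_centralizer_iff.mpr fun k hk => (hKV v hv k hk).symm.eq⟩
    haveI hU₁n : U₁.Normal := by
      refine ⟨fun a ha g => ?_⟩
      obtain ⟨t, ht, n, hn, rfl⟩ := mem_sup_of_normal_left.mp (hTN ▸ mem_top g : g ∈ T ⊔ N)
      have hb : n * a * n⁻¹ ∈ U₁ := by
        refine ⟨hUn.conj_mem a ha.1 n, mem_centralizer_iff.mpr fun k hk => ?_⟩
        have h := mem_centralizer_iff.mp ha.2 _ ((mem_normalizer_iff.mp (inv_mem hn) k).mp hk)
        calc k * (n * a * n⁻¹) = n * (n⁻¹ * k * n⁻¹⁻¹ * a) * n⁻¹ := by group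
          _ = n * (a * (n⁻¹ * k * n⁻¹⁻¹)) * n⁻¹ := by rw [h]
          _ = n * a * n⁻¹ * k := by group
      set b := n * a * n⁻¹ with hbdef
      have hc : ⁅b, t⁆ ∈ V := hb.1.2.2 t ht
      rw [show t * n * a * (t * n)⁻¹ = ⁅b, t⁆⁻¹ * b by rw [hbdef, commutatorElement_def]; group]
      exact mul_mem (hVU₁ (inv_mem hc)) hb
    have huU₁ : u ∈ U₁ := ⟨hu, mem_centralizer_iff.mpr fun k hk => (huK k hk).eq⟩
    have hcent : ⁅T, K⁆ ≤ centralizer (U₁ : Set G) := by
      refine commutator_le_centralizer (commutator_le_left U₁ T) ?_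
      rw [Subgroup.commutator_comm, commutator_eq_bot_iff_le_centralizer]
      exact fun k hk => mem_centralizer_iff.mpr fun x hx => ((mem_centralizer_iff.mp hx.2) k hk).symm
    refine hUK (Coprime.commutator_eq_bot_of_commutator_commutator_eq_bot (hnormal U) (hcopK U hUT)
      (hsolW U hUT) ?_)
    rw [commutator_eq_bot_iff_le_centralizer, Subgroup.commutator_le]
    intro x hx k hk
    suffices hmem : ⁅x, k⁆ ∈ U₁ from hmem.2
    set w := ⁅x, k⁆ with hw
    have hwU : w ∈ U := commutator_le_left U K (commutator_mem_commutator hx hk)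
    by_cases hw2 : w * w = 1
    · exact hVU₁ (hinv w hw2)
    have hu2 : u * u ≠ 1 := fun h => huV (hinv u h)
    obtain ⟨g, hg⟩ := isConj_iff.mp (hconj _ _ hu2 (hVexp _ hu.2.1) hw2 (hVexp _ hwU.2.1))
    set v := g * u * g⁻¹ with hvdef
    have hv : v ∈ U₁ := hU₁n.conj_mem u huU₁ g
    have hc : Commute v w :=
      mem_centralizer_iff.mp (hcent (commutator_mem_commutator (hUT hx) hk)) v hv
    have h1 : v⁻¹ * w * (v⁻¹ * w) = 1 := by
      calc v⁻¹ * w * (v⁻¹ * w) = v⁻¹ * (w * v⁻¹) * w := by group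
        _ = v⁻¹ * (v⁻¹ * w) * w := by rw [hc.inv_left.eq]
        _ = (g * (u * u) * g⁻¹)⁻¹ * (w * w) := by rw [hvdef]; group
        _ = 1 := by rw [hg, inv_mul_cancel]
    have := mul_mem hv (hVU₁ (hinv _ h1))
    rwa [mul_inv_cancel_left] at this
  have hTNV : ∀ t ∈ T, t ∈ N → t ∈ V := by
    intro t ht htN
    refine hCU ⟨ht, mem_centralizer_iff.mpr fun u hu => ?_⟩
    have hle : U ≤ centralizer ({t} : Set G) := by
      intro y hy
      obtain ⟨m, hm, c, hc, rfl⟩ := Coprime.le_commutator_sup_centralizer (hnormal U) (hcopK U hUT)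
        (hsolW U hUT) hy
      refine mul_mem (?_ : m ∈ centralizer ({t} : Set G)) ?_
      · refine (Subgroup.commutator_le.mpr fun x hx k hk => ?_) hm
        rw [mem_centralizer_singleton_iff]
        have hz : ⁅x, t⁆ ∈ V := hx.2.2 t ht
        have hkt := hKT t ht htN k hk
        have e1 : ⁅k * x * k⁻¹, t⁆ = ⁅x, t⁆ := by
          calc ⁅k * x * k⁻¹, t⁆ = k * x * (k⁻¹ * t) * k * x⁻¹ * k⁻¹ * t⁻¹ := by
                rw [commutatorElement_def]; group
            _ = k * x * (t * k⁻¹) * k * x⁻¹ * k⁻¹ * t⁻¹ := by rw [hkt.inv_right.eq]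
            _ = k * x * t * x⁻¹ * (k⁻¹ * t⁻¹) := by group
            _ = k * x * t * x⁻¹ * (t⁻¹ * k⁻¹) := by rw [hkt.inv_left.inv_right.eq]
            _ = k * ⁅x, t⁆ * k⁻¹ := by rw [commutatorElement_def]; group
            _ = ⁅x, t⁆ := by rw [← (hKV _ hz k hk).eq, mul_inv_cancel_right]
        set x' := k * x * k⁻¹ with hx'
        have hx'U : x' ∈ U := hUn.conj_mem x hx k
        have e2 : ⁅x * x'⁻¹, t⁆ = 1 := by
          have h2 : ⁅x'⁻¹, t⁆ = x'⁻¹ * ⁅x', t⁆⁻¹ * x' := by simp only [commutatorElement_def]; group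
          rw [show ⁅x * x'⁻¹, t⁆ = x * ⁅x'⁻¹, t⁆ * x⁻¹ * ⁅x, t⁆ by
            simp only [commutatorElement_def]; group, h2, e1,
            mul_assoc x'⁻¹, (hVc _ (inv_mem hz) x' (hUT hx'U)).eq, inv_mul_cancel_left,
            ← (hVc _ (inv_mem hz) x (hUT hx)).eq, mul_inv_cancel_right, inv_mul_cancel]
        rw [commutatorElement_eq_one_iff_mul_comm] at e2
        rw [show ⁅x, k⁆ = x * x'⁻¹ by rw [hx', commutatorElement_def]; group]
        exact e2
      · rw [mem_centralizer_singleton_iff]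
        have hcV := hUfpf c hc.1 fun k hk => mem_centralizer_iff.mp hc.2 k hk
        exact (hVc c hcV t ht).eq
    exact mem_centralizer_singleton_iff.mp (hle hu)
  -- the normalizer of `K`
  obtain ⟨u₀, hu₀, hu₀V⟩ := hUne
  have hNtop : N ≠ ⊤ := fun h => hu₀V (hTNV u₀ (hUT hu₀) (h ▸ mem_top u₀))
  have hVN : V ≤ N := fun v hv => mem_normalizer_iff.mpr fun k => by
    constructor
    · intro hk; rwa [(hKV v hv k hk).eq, mul_inv_cancel_right]
    · intro hk
      have h := (hKV v hv _ hk).eq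
      rwa [show k = v * k * v⁻¹ from by
        calc k = v⁻¹ * (v * k * v⁻¹ * v) := by group
          _ = v⁻¹ * (v * (v * k * v⁻¹)) := by rw [h]
          _ = v * k * v⁻¹ := by group]
  have hconjN : ∀ x y : G, x ∈ V → y ∈ V → x ≠ 1 → y ≠ 1 → ∃ n ∈ N, n * x * n⁻¹ = y := by
    intro x y hx hy hx1 hy1
    obtain ⟨g, hg⟩ := isConj_iff.mp (hconj x y hx1 (hVexp x hx) hy1 (hVexp y hy))
    obtain ⟨t, ht, n, hn, rfl⟩ := mem_sup_of_normal_left.mp (hTN ▸ mem_top g : g ∈ T ⊔ N)
    refine ⟨n, hn, ?_⟩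
    have hc := hVc _ (hVn.conj_mem x hx n) t ht
    rw [← hg, show t * n * x * (t * n)⁻¹ = t * (n * x * n⁻¹) * t⁻¹ by group, ← hc.eq, mul_inv_cancel_right]
  have hx₀V := hinv x₀ hx₀2
  have hy₀V := hinv y₀ hy₀2
  have hNone : OneClass N := by
    refine ⟨fun x y hx hx2 hy hy2 => ?_, ⟨⟨x₀, hVN hx₀V⟩, ⟨y₀, hVN hy₀V⟩, fun h => hxy₀ (congrArg Subtype.val h),
      fun h => hx₀ (congrArg Subtype.val h), Subtype.ext hx₀2, fun h => hy₀ (congrArg Subtype.val h),
      Subtype.ext hy₀2, Subtype.ext (hVc x₀ hx₀V y₀ (hVT hy₀V)).eq⟩⟩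
    obtain ⟨n, hn, hny⟩ := hconjN x y (hinv _ (congrArg Subtype.val hx2)) (hinv _ (congrArg Subtype.val hy2))
      (fun h => hx (Subtype.ext h)) (fun h => hy (Subtype.ext h))
    exact isConj_iff.mpr ⟨⟨n, hn⟩, Subtype.ext hny⟩
  have hPL : Cfsg.PLengthLE 2 1 N := (Local.pLengthLE_iff 1).mpr (IH N hNtop hNone)
  obtain ⟨S⟩ : Nonempty (Sylow 2 N) := inferInstance
  have hsupN := Local.pLengthOne_sup_normalizer hPL S
  set S' := (S : Subgroup N).map N.subtype with hS'
  set X := (normalizer ((S : Subgroup N) : Set N)).map N.subtype with hX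
  have hS'p : IsPGroup 2 S' := S.isPGroup'.map _
  have hXS : X ≤ normalizer (S' : Set G) := Subgroup.le_normalizer_map N.subtype
  have hXN : X ≤ N := map_subtype_le _
  -- the odd core of `N` centralizes `V`
  have hON : ∀ o ∈ Cfsg.pPrimeCore 2 N, ∀ v ∈ V, Commute (o : G) v := by
    intro o ho v hv
    have h1 : ⁅o, (⟨v, hVN hv⟩ : N)⁆ ∈ Cfsg.pPrimeCore 2 N ⊓ V.subgroupOf N := by
      refine ⟨?_, mem_subgroupOf.mpr ?_⟩
      · have := mul_mem ho ((inferInstance : (Cfsg.pPrimeCore 2 N).Normal).conj_mem _ (inv_mem ho) ⟨v, hVN hv⟩)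
        rwa [show o * (⟨v, hVN hv⟩ * o⁻¹ * (⟨v, hVN hv⟩ : N)⁻¹) = ⁅o, (⟨v, hVN hv⟩ : N)⁆ by
          rw [commutatorElement_def]; group] at this
      · show ⁅(o : G), v⁆ ∈ V
        exact mul_mem (hVn.conj_mem v hv o) (inv_mem hv)
    have hd : Disjoint (Cfsg.pPrimeCore 2 N) (V.subgroupOf N) := by
      refine Coprime.disjoint_of_coprime_card ?_
      refine odd_coprime (Nat.coprime_two_right.mp (Core.pPrimeCore_coprime 2 N)) ?_
      rw [Nat.card_congr (subgroupOfEquivOfLe hVN).toEquiv]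
      exact IsPGroup.iff_card.mp (hTp.to_le hVT)
    have h2 := disjoint_def.mp hd h1.1 h1.2
    rw [← commutatorElement_eq_one_iff_commute]
    exact congrArg Subtype.val h2
  have htrans : ∀ v ∈ V, ∀ w ∈ V, v ≠ 1 → w ≠ 1 → ∃ x ∈ X, x * v * x⁻¹ = w := by
    intro v hv w hw hv1 hw1
    obtain ⟨n, hn, hnv⟩ := hconjN v w hv hw hv1 hw1
    obtain ⟨o, ho, m, hm, hom⟩ := mem_sup_of_normal_left.mp (hsupN ▸ mem_top (⟨n, hn⟩ : N))
    have he : (o : G) * m = n := congrArg Subtype.val hom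
    refine ⟨(m : G), mem_map_of_mem _ hm, ?_⟩
    have hc := hON o ho _ (hVn.conj_mem v hv (m : G))
    rw [← hnv, ← he, show (o : G) * m * v * ((o : G) * m)⁻¹ = (o : G) * (m * v * (m : G)⁻¹) * (o : G)⁻¹ by group,
      hc.eq, mul_inv_cancel_right]
  have hVS : V ≤ S' := by
    intro v hv
    have h1 : V.subgroupOf N ≤ (S : Subgroup N) :=
      (Core.le_pCore' inferInstance ((hTp.to_le hVT).comap_subtype)).trans (Core.pCore_le_sylow S)
    exact ⟨⟨v, hVN hv⟩, h1 hv, rfl⟩
  have hSV : ∀ v ∈ V, ∀ s ∈ S', Commute v s := by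
    have hne : V.subgroupOf S' ≠ ⊥ := by
      intro h
      have : (⟨z, hVS hz.1⟩ : S') ∈ V.subgroupOf S' := mem_subgroupOf.mpr hz.1
      rw [h, mem_bot] at this
      exact hz.2 (congrArg Subtype.val this)
    obtain ⟨w, hw, hw1⟩ := (bot_or_exists_ne_one _).resolve_left (PGroup.inf_center_ne_bot hS'p hne)
    obtain ⟨hwV, hwZ⟩ := mem_inf.mp hw
    intro v hv s hs
    by_cases hv1 : v = 1
    · rw [hv1]; exact Commute.one_left s
    obtain ⟨x, hx, hxv⟩ := htrans (w : G) (mem_subgroupOf.mp hwV) v hv (fun h => hw1 (Subtype.ext h)) hv1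
    have hs' := (mem_normalizer_iff.mp (inv_mem (hXS hx)) s).mp hs
    have h : x⁻¹ * s * x⁻¹⁻¹ * (w : G) = (w : G) * (x⁻¹ * s * x⁻¹⁻¹) :=
      congrArg Subtype.val (mem_center_iff.mp hwZ ⟨_, hs'⟩)
    show v * s = s * v
    rw [← hxv]
    calc x * (w : G) * x⁻¹ * s = x * ((w : G) * (x⁻¹ * s * x⁻¹⁻¹)) * x⁻¹ := by group
      _ = x * (x⁻¹ * s * x⁻¹⁻¹ * (w : G)) * x⁻¹ := by rw [h]
      _ = s * (x * (w : G) * x⁻¹) := by group
  have hSnV : ¬ S' ≤ V := by
    intro h
    have hSeq : (S : Subgroup N) = V.subgroupOf N := by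
      ext y
      constructor
      · intro hy; exact mem_subgroupOf.mpr (h (mem_map_of_mem _ hy))
      · intro hy
        obtain ⟨y', hy', he⟩ := hVS (mem_subgroupOf.mp hy)
        exact (Subtype.ext he : y' = y) ▸ hy'
    have hTNeq : T.subgroupOf N = V.subgroupOf N := by
      ext y; exact ⟨fun hy => hTNV _ hy y.2, fun hy => hVT hy⟩
    have h1 : T.index = (S : Subgroup N).index := by
      rw [hSeq, ← hTNeq]
      show T.index = T.relIndex N
      rw [← relIndex_top_right, ← hTN, sup_comm, relIndex_sup_right]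
    refine heven (Nat.coprime_comm.mp (Nat.prime_two.coprime_iff_not_dvd.mpr ?_))
    show ¬ 2 ∣ T.index
    rw [h1]
    exact S.not_dvd_index
  let E := layer V S'
  have hES : E ≤ S' := fun _ h => h.1
  have hXE : X ≤ normalizer (E : Set G) := fun x hx => mem_normalizer_iff.mpr fun d =>
    ⟨fun hd => layer_conj V S' (hXS hx) hd, fun hd => by
      have := layer_conj V S' (hXS (inv_mem hx)) hd
      rwa [show x⁻¹ * (x * d * x⁻¹) * x⁻¹⁻¹ = d by group] at this⟩
  have hEne : ∃ g ∈ E, g ∉ V := by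
    obtain ⟨d, hd, hdV, hd2, hdc⟩ := exists_layer (A := V) hS'p le_rfl le_normalizer hSnV
    exact ⟨d, ⟨hd, hd2, hdc⟩, hdV⟩
  refine TwoGroup.OneClass.Config.contradiction (V := V) (U := U) (K := K) (E := E) (X := X)
    { vNormal := hVn
      uNormal := hUn
      v_le := hVU
      v_exp := hVexp
      v_comm := ?_
      u_sq := fun u hu => hu.2.1
      u_commutator := fun u hu w hw => hu.2.2 w (hUT hw)
      two_group := ?_
      involution := fun y _ hy => hinv y hy
      k_comm := hKcomm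
      k_odd := hKodd
      k_fpf := hUfpf
      e_sq := fun g hg => hg.2.1
      e_commutator := fun g hg h hh => hg.2.2 h (hES hh)
      e_inf := fun g hg hgU => hTNV g (hUT hgU) (map_subtype_le _ (hES hg))
      e_norm := hES.trans (map_subtype_le _)
      x_norm := hXN
      x_norm' := hXE
      transitive := htrans
      two_elements := ⟨x₀, hx₀V, y₀, hy₀V, hx₀, hy₀, hxy₀⟩
      e_nontrivial := hEne
      u_nontrivial := ⟨u₀, hu₀, hu₀V⟩ }
  · rintro v hv w (hw | hw)
    · obtain ⟨a, ha, b, hb, rfl⟩ := mem_sup_of_normal_left.mp hw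
      exact (hVc v hv a (hUT ha)).mul_right (hSV v hv b (hES hb))
    · exact hKV v hv w hw
  · rw [sup_comm]
    exact Core.isPGroup_sup_of_normal (hS'p.to_le hES) (hTp.to_le hUT)

theorem main : ∀ (n : ℕ) (G : Type u) [Group G] [Finite G], Nat.card G ≤ n → Group.IsSolvable G → OneClass G →
    Local.PChain 2 1 G := by
  intro n
  induction n with
  | zero => intro G _ _ h _ _; exact absurd (Nat.card_pos (α := G)) (by omega)
  | succ n ih =>
    intro G _ _ hle hsol hG
    haveI := hsol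
    haveI : Fact (Nat.Prime 2) := ⟨Nat.prime_two⟩
    by_cases hO : Cfsg.pPrimeCore 2 G = ⊥
    · refine reduced hG hO fun N hN hNc => ih N ?_ inferInstance hNc
      have : Nat.card N < Nat.card G := by
        refine lt_of_le_of_ne (card_le_card_group N) fun h => hN (eq_top_of_card_eq N h)
      omega
    · set O := Cfsg.pPrimeCore 2 G
      refine Local.PChain.extension_pPrime O (Core.pPrimeCore_coprime 2 G) (ih (G ⧸ O) ?_
        (Group.isSolvable_of_surjective (QuotientGroup.mk'_surjective O)) ?_)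
      · have h1 : Nat.card G = Nat.card (G ⧸ O) * Nat.card O := card_eq_card_quotient_mul_card_subgroup O
        have h2 : 1 < Nat.card O := (one_lt_card_iff_ne_bot O).mpr hO
        have h3 : Nat.card (G ⧸ O) * 1 < Nat.card (G ⧸ O) * Nat.card O :=
          Nat.mul_lt_mul_of_pos_left h2 Nat.card_pos
        omega
      · obtain ⟨hconj, x, y, hxy, hx, hx2, hy, hy2, hc⟩ := hG
        obtain ⟨j, hj⟩ : Odd (Nat.card O) := Nat.coprime_two_right.mp (Core.pPrimeCore_coprime 2 G)
        have hnot : ∀ w : G, w ≠ 1 → w * w = 1 → w ∉ O := fun w hw hw2 hwO => by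
          have h1 : orderOf w ∣ Nat.card O := by
            rw [← Subgroup.orderOf_mk w hwO]; exact _root_.orderOf_dvd_natCard _
          have h2 : orderOf w ∣ 2 := orderOf_dvd_of_pow_eq_one (by rw [sq]; exact hw2)
          exact hw (orderOf_eq_one_iff.mp (Nat.eq_one_of_dvd_coprimes (Core.pPrimeCore_coprime 2 G) h1 h2))
        have hlift : ∀ q : G ⧸ O, q ≠ 1 → q * q = 1 → ∃ w : G, w ≠ 1 ∧ w * w = 1 ∧ (w : G ⧸ O) = q := by
          intro q hq hq2
          obtain ⟨w, rfl⟩ := QuotientGroup.mk_surjective q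
          rw [← QuotientGroup.mk_mul, QuotientGroup.eq_one_iff] at hq2
          have hw' : ((w ^ Nat.card O : G) : G ⧸ O) = w := by
            rw [QuotientGroup.mk_pow, hj, pow_succ, pow_mul]
            have : (w : G ⧸ O) ^ 2 = 1 := by
              rw [sq, ← QuotientGroup.mk_mul, QuotientGroup.eq_one_iff]; exact hq2
            rw [this, one_pow, one_mul]
          refine ⟨w ^ Nat.card O, fun h => hq ?_, ?_, hw'⟩
          · rw [← hw', h]; rfl
          · rw [← pow_add, ← two_mul, pow_mul, sq]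
            exact congrArg Subtype.val (pow_card_eq_one' (x := (⟨w * w, hq2⟩ : O)))
        refine ⟨fun a b ha ha2 hb hb2 => ?_, (x : G ⧸ O), (y : G ⧸ O), fun h => ?_,
          fun h => hnot x hx hx2 ((QuotientGroup.eq_one_iff x).mp h), ?_,
          fun h => hnot y hy hy2 ((QuotientGroup.eq_one_iff y).mp h), ?_, hc.map (QuotientGroup.mk' O)⟩
        · obtain ⟨a', ha', ha2', rfl⟩ := hlift a ha ha2
          obtain ⟨b', hb', hb2', rfl⟩ := hlift b hb hb2
          exact (QuotientGroup.mk' O).map_isConj (hconj a' b' ha' ha2' hb' hb2')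
        · refine hnot (x⁻¹ * y) (fun h1 => hxy (inv_mul_eq_one.mp h1)) ?_ (QuotientGroup.eq.mp h)
          have hx' : x⁻¹ = x := inv_eq_of_mul_eq_one_left hx2
          rw [hx', show x * y * (x * y) = x * (y * x) * y by group, ← hc.eq,
            show x * (x * y) * y = x * x * (y * y) by group, hx2, hy2, one_mul]
        · rw [← QuotientGroup.mk_mul, hx2]; rfl
        · rw [← QuotientGroup.mk_mul, hy2]; rfl

/-- An abelian `2`-group with automorphisms transitive on involutions is homocyclic. -/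
theorem homocyclic {A : Type u} [CommGroup A] [Finite A] (hA : IsPGroup 2 A)
    (ht : ∀ x y : A, x ≠ 1 → x ^ 2 = 1 → y ≠ 1 → y ^ 2 = 1 → ∃ a : MulAut A, a x = y) :
    ∃ m r : ℕ, Nonempty (A ≃* (Fin r → Multiplicative (ZMod (2 ^ m)))) := by
  classical
  obtain ⟨ι, _, n, hn, ⟨e⟩⟩ := CommGroup.equiv_prod_multiplicative_zmod_of_finite A
  obtain ⟨k, hk⟩ := IsPGroup.iff_card.mp hA
  have hpow : ∀ i, ∃ s, n i = 2 ^ (s + 1) := by
    intro i
    have hd : n i ∣ 2 ^ k := by
      haveI : ∀ j, NeZero (n j) := fun j => ⟨by have := hn j; omega⟩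
      rw [← hk, Nat.card_congr e.toEquiv, Nat.card_pi]
      refine (dvd_of_eq ?_).trans (Finset.dvd_prod_of_mem _ (Finset.mem_univ i))
      rw [Nat.card_congr Multiplicative.toAdd, Nat.card_zmod]
    obtain ⟨s, -, hs⟩ := (Nat.dvd_prime_pow Nat.prime_two).mp hd
    refine ⟨s - 1, ?_⟩
    have : s ≠ 0 := fun h => by have := hn i; rw [hs, h, pow_zero] at this; omega
    rw [show s - 1 + 1 = s by omega, hs]
  choose s hs using hpow
  have heq : ∀ i j, s i ≤ s j → s i = s j := by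
    intro i j hij
    by_contra hne
    have hlt : s i < s j := lt_of_le_of_ne hij hne
    let z : ∀ l : ι, (∀ i' : ι, Multiplicative (ZMod (n i'))) := fun l =>
      Pi.mulSingle l (Multiplicative.ofAdd ((2 ^ s l : ℕ) : ZMod (n l)))
    have hz1 : ∀ l, z l ≠ 1 := fun l h => by
      have h1 := congrFun h l
      simp only [z, Pi.mulSingle_eq_same, Pi.one_apply] at h1
      have h2 : ((2 ^ s l : ℕ) : ZMod (n l)) = 0 := Multiplicative.ofAdd.injective h1
      rw [ZMod.natCast_eq_zero_iff, hs l, Nat.pow_dvd_pow_iff_le_right one_lt_two] at h2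
      omega
    have hz2 : ∀ l, z l ^ 2 = 1 := fun l => by
      simp only [z, ← Pi.mulSingle_pow, ← ofAdd_nsmul]
      rw [nsmul_eq_mul, ← Nat.cast_mul, ← pow_succ', show ((2 ^ (s l + 1) : ℕ) : ZMod (n l)) = 0 by
        rw [ZMod.natCast_eq_zero_iff, hs l], ofAdd_zero, Pi.mulSingle_one]
    let w : ∀ i' : ι, Multiplicative (ZMod (n i')) := Pi.mulSingle j (Multiplicative.ofAdd (1 : ZMod (n j)))
    have hw : w ^ (2 ^ s j) = z j := by
      simp only [w, z, ← Pi.mulSingle_pow, ← ofAdd_nsmul]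
      congr 2
      simp
    have key : ∀ l, e.symm (z l) ≠ 1 ∧ (e.symm (z l)) ^ 2 = 1 := fun l =>
      ⟨fun h => hz1 l (by simpa using congrArg e h), by rw [← map_pow, hz2, map_one]⟩
    obtain ⟨a, ha⟩ := ht _ _ (key j).1 (key j).2 (key i).1 (key i).2
    set w' := e (a (e.symm w))
    have h1 : w' ^ (2 ^ s j) = z i := by
      rw [← map_pow, ← map_pow, ← map_pow, hw, ha, MulEquiv.apply_symm_apply]
    have h2 := congrFun h1 i
    simp only [z, Pi.pow_apply, Pi.mulSingle_eq_same] at h2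
    have h3 : (w' i) ^ (2 ^ s j) = 1 := by
      haveI : NeZero (n i) := ⟨by have := hn i; omega⟩
      refine orderOf_dvd_iff_pow_eq_one.mp ((_root_.orderOf_dvd_natCard _).trans ?_)
      rw [Nat.card_congr Multiplicative.toAdd, Nat.card_zmod, hs i]
      exact pow_dvd_pow 2 hlt
    rw [h3] at h2
    have h4 : ((2 ^ s i : ℕ) : ZMod (n i)) = 0 := Multiplicative.ofAdd.injective h2.symm
    rw [ZMod.natCast_eq_zero_iff, hs i, Nat.pow_dvd_pow_iff_le_right one_lt_two] at h4
    omega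
  rcases isEmpty_or_nonempty ι with hι | ⟨⟨i₀⟩⟩
  · haveI : Subsingleton A := e.toEquiv.subsingleton
    haveI : Unique A := uniqueOfSubsingleton 1
    exact ⟨1, 0, ⟨MulEquiv.ofUnique⟩⟩
  · refine ⟨s i₀ + 1, Fintype.card ι, ⟨?_⟩⟩
    have hall : ∀ i, n i = 2 ^ (s i₀ + 1) := fun i => by
      rcases le_total (s i) (s i₀) with h | h
      · rw [hs i, heq i i₀ h]
      · rw [hs i, heq i₀ i h]
    let ρ : (∀ i, Multiplicative (ZMod (n i))) ≃* (ι → Multiplicative (ZMod (2 ^ (s i₀ + 1)))) :=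
      MulEquiv.piCongrRight fun i => AddEquiv.toMultiplicative (ZMod.ringEquivCongr (hall i)).toAddEquiv
    let σ : (ι → Multiplicative (ZMod (2 ^ (s i₀ + 1)))) ≃*
        (Fin (Fintype.card ι) → Multiplicative (ZMod (2 ^ (s i₀ + 1)))) :=
      { toFun := fun f k => f ((Fintype.equivFin ι).symm k)
        invFun := fun f i => f (Fintype.equivFin ι i)
        left_inv := fun f => by funext i; simp
        right_inv := fun f => by funext i; simp
        map_mul' := fun f g => rfl }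
    exact e.trans (ρ.trans σ)

/-- Let G be a finite solvable group of even order whose Sylow 2-subgroups contain more than one involution, and suppose all involutions of G are conjugate. Then G has 2-length at most 1, and a Sylow 2-subgroup S of G is either homocyclic (a direct product of cyclic groups of one common order) or a non-abelian 2-group with more than one involution admitting a solvable group of automorphisms transitive on its involutions. -/
theorem result {G : Type*} [Group G] [Finite G] (hG : Group.IsSolvable G) (heven : Even (Nat.card G)) (S : Sylow 2 G) (htwo : ∃ x y : G, x ∈ (S : Subgroup G) ∧ y ∈ (S : Subgroup G) ∧ x ≠ y ∧ x ≠ 1 ∧ x ^ 2 = 1 ∧ y ≠ 1 ∧ y ^ 2 = 1) (hconj : ∀ x y : G, x ≠ 1 → x ^ 2 = 1 → y ≠ 1 → y ^ 2 = 1 → IsConj x y) : Cfsg.PLengthLE 2 1 G ∧ ((∃ m r : ℕ, Nonempty (↥(S : Subgroup G) ≃* (Fin r → Multiplicative (ZMod (2 ^ m))))) ∨ (¬ IsMulCommutative (S : Subgroup G) ∧ ∃ Y : Subgroup (MulAut ↥(S : Subgroup G)), Group.IsSolvable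 Y ∧ ∀ x y : ↥(S : Subgroup G), x ≠ 1 → x ^ 2 = 1 → y ≠ 1 → y ^ 2 = 1 → ∃ a ∈ Y, a x = y)) := by
  haveI := hG
  haveI : Fact (Nat.Prime 2) := ⟨Nat.prime_two⟩
  obtain ⟨x₀, y₀, hx₀S, hy₀S, hxy, hx₀, hx₀2, hy₀, hy₀2⟩ := htwo
  -- two commuting involutions
  have hone : OneClass G := by
    refine ⟨fun x y hx hx2 hy hy2 => hconj x y hx (by rw [sq]; exact hx2) hy (by rw [sq]; exact hy2), ?_⟩
    haveI : Nontrivial (S : Subgroup G) :=
      ⟨⟨⟨x₀, hx₀S⟩, 1, fun h => hx₀ (congrArg Subtype.val h)⟩⟩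
    have := S.isPGroup'.center_nontrivial
    obtain ⟨c, hc, hco⟩ := S3798.exists_orderOf (p := 2) (S.isPGroup'.to_subgroup (Subgroup.center (S : Subgroup G)))
      ((nontrivial_iff_ne_bot _).mp inferInstance)
    have hc1 : (c : G) ≠ 1 := fun h => by
      rw [show c = 1 from Subtype.ext h, orderOf_one] at hco; omega
    have hc2 : (c : G) * c = 1 := congrArg Subtype.val (show c * c = 1 by have h := pow_orderOf_eq_one c; rwa [hco, sq] at h)
    by_cases hcx : (c : G) = x₀
    · refine ⟨c, y₀, fun h => hxy (hcx.symm.trans h), hc1, hc2, hy₀, (sq y₀) ▸ hy₀2, ?_⟩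
      exact (congrArg Subtype.val (mem_center_iff.mp hc ⟨y₀, hy₀S⟩)).symm
    · refine ⟨c, x₀, hcx, hc1, hc2, hx₀, (sq x₀) ▸ hx₀2, ?_⟩
      exact (congrArg Subtype.val (mem_center_iff.mp hc ⟨x₀, hx₀S⟩)).symm
  have hPL : Cfsg.PLengthLE 2 1 G := (Local.pLengthLE_iff 1).mpr (main (Nat.card G) G le_rfl hG hone)
  refine ⟨hPL, ?_⟩
  have hsup := Local.pLengthOne_sup_normalizer hPL S
  let θ : ↥(normalizer ((S : Subgroup G) : Set G)) →* MulAut ↥(S : Subgroup G) :=
    (S : Subgroup G).normalizerMonoidHom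
  have htr : ∀ x y : ↥(S : Subgroup G), x ≠ 1 → x ^ 2 = 1 → y ≠ 1 → y ^ 2 = 1 → ∃ a ∈ θ.range, a x = y := by
    intro x y hx hx2 hy hy2
    obtain ⟨g, hg⟩ := isConj_iff.mp (hconj (x : G) y (fun h => hx (Subtype.ext h))
      (by rw [← Subgroup.coe_pow, hx2]; rfl) (fun h => hy (Subtype.ext h)) (by rw [← Subgroup.coe_pow, hy2]; rfl))
    obtain ⟨o, ho, n, hn, rfl⟩ := mem_sup_of_normal_left.mp (hsup ▸ mem_top g :
      g ∈ Cfsg.pPrimeCore 2 G ⊔ normalizer ((S : Subgroup G) : Set G))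
    refine ⟨θ ⟨n, hn⟩, ⟨_, rfl⟩, Subtype.ext ?_⟩
    show n * (x : G) * n⁻¹ = y
    set w := n * (x : G) * n⁻¹ with hw
    have hwS : w ∈ (S : Subgroup G) := (mem_normalizer_iff.mp hn (x : G)).mp x.2
    have h1 : (y : G) * w⁻¹ ∈ Cfsg.pPrimeCore 2 G := by
      have h := mul_mem ho ((inferInstance : (Cfsg.pPrimeCore 2 G).Normal).conj_mem _ (inv_mem ho) w)
      rwa [show o * (w * o⁻¹ * w⁻¹) = (y : G) * w⁻¹ by rw [← hg, hw]; group] at h
    have hd : Disjoint (Cfsg.pPrimeCore 2 G) (S : Subgroup G) :=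
      Coprime.disjoint_of_coprime_card (odd_coprime (Nat.coprime_two_right.mp (Core.pPrimeCore_coprime 2 G))
        (IsPGroup.iff_card.mp S.isPGroup'))
    exact (mul_inv_eq_one.mp (disjoint_def.mp hd h1 (mul_mem y.2 (inv_mem hwS)))).symm
  by_cases hab : IsMulCommutative (S : Subgroup G)
  · left
    letI : CommGroup ↥(S : Subgroup G) :=
      { (inferInstance : Group ↥(S : Subgroup G)) with mul_comm := hab.is_comm.comm }
    refine homocyclic S.isPGroup' fun x y hx hx2 hy hy2 => ?_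
    obtain ⟨a, -, ha⟩ := htr x y hx hx2 hy hy2
    exact ⟨a, ha⟩
  · exact Or.inr ⟨hab, θ.range, Group.isSolvable_of_surjective θ.rangeRestrict_surjective, htr⟩

end Cfsg.Agent.S3797
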