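import Cfsg.Statements.S3799
import Mathlib
import Cfsg.Agent.Lib.PGroup.Basic

set_option autoImplicit false
open Cfsg

namespace Cfsg.Agent.S3799

open Matrix
open scoped commutatorElement

section

variable (p : ℕ) [Fact p.Prime] (n : ℕ)

local notation "K" => ZMod p
local notation "L0" => Fin.last (n + 1)

/-- Row parameters and column parameters. -/
def Par : Type := {u : Fin (n + 2) → ZMod p // u 0 = 0} × {w : Fin (n + 2) → ZMod p // w 0 = 0 ∧ w (Fin.last (n + 1)) = 0}

variable {p n}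

def e0 : Fin (n + 2) → ZMod p := Pi.single 0 1
def eL : Fin (n + 2) → ZMod p := Pi.single (Fin.last (n + 1)) 1

def N (u w : Fin (n + 2) → ZMod p) : Matrix (Fin (n + 2)) (Fin (n + 2)) (ZMod p) :=
  vecMulVec e0 u + vecMulVec w eL

theorem last_ne : (Fin.last (n + 1)) ≠ 0 := by simp [Fin.ext_iff]

theorem N_mul {u w u' w' : Fin (n + 2) → ZMod p} (hu : u 0 = 0) (hw : w' (Fin.last (n + 1)) = 0) :
    N u w * N u' w' = vecMulVec e0 ((u ⬝ᵥ w') • eL) := by
  have h1 : u ⬝ᵥ e0 = 0 := by simp [e0, dotProduct_single, hu]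
  have h2 : eL ⬝ᵥ (e0 : Fin (n + 2) → ZMod p) = 0 := by
    simp [e0, eL, dotProduct_single, (last_ne (n := n)).symm]
  have h3 : eL ⬝ᵥ w' = 0 := by simp [eL, single_dotProduct, hw]
  simp only [N, Matrix.add_mul, Matrix.mul_add, vecMulVec_mul_vecMulVec, h1, h2, h3]
  simp

theorem T_mul {u w u' w' : Fin (n + 2) → ZMod p} (hu : u 0 = 0) (hw : w' (Fin.last (n + 1)) = 0) :
    (1 + N u w) * (1 + N u' w') = 1 + N (u + u' + (u ⬝ᵥ w') • eL) (w + w') := by
  simp only [Matrix.add_mul, Matrix.mul_add, one_mul, mul_one, N_mul hu hw]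
  simp only [N, vecMulVec_add, add_vecMulVec]
  abel

theorem T_inj {u w u' w' : Fin (n + 2) → ZMod p} (hw : w 0 = 0) (hw' : w' 0 = 0)
    (hwL : w (Fin.last (n + 1)) = 0) (hwL' : w' (Fin.last (n + 1)) = 0)
    (h : (1 : Matrix _ _ (ZMod p)) + N u w = 1 + N u' w') : u = u' ∧ w = w' := by
  have h' := add_left_cancel h
  have hu : u = u' := by
    funext j
    have := congrFun (congrFun h' 0) j
    simpa [N, e0, vecMulVec_apply, hw, hw'] using this
  subst hu
  refine ⟨rfl, funext fun i => ?_⟩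
  by_cases hi : i = 0
  · rw [hi, hw, hw']
  have := congrFun (congrFun h' i) (Fin.last (n + 1))
  simpa [N, e0, eL, vecMulVec_apply, hi] using this

def Good (u w : Fin (n + 2) → ZMod p) : Prop := u 0 = 0 ∧ w 0 = 0 ∧ w (Fin.last (n + 1)) = 0

theorem good_mul {u w u' w' : Fin (n + 2) → ZMod p} (h : Good u w) (h' : Good u' w') :
    Good (u + u' + (u ⬝ᵥ w') • eL) (w + w') := by
  obtain ⟨a, b, c⟩ := h
  obtain ⟨a', b', c'⟩ := h'
  exact ⟨by simp [a, a', eL, (last_ne (n := n)).symm], by simp [b, b'], by simp [c, c']⟩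

variable (p n)

def E : Subgroup (GL (Fin (n + 2)) (ZMod p)) where
  carrier := {x | ∃ u w : Fin (n + 2) → ZMod p, Good u w ∧
    ((x : GL (Fin (n + 2)) (ZMod p)) : Matrix (Fin (n + 2)) (Fin (n + 2)) (ZMod p)) = 1 + N u w}
  one_mem' := ⟨0, 0, ⟨rfl, rfl, rfl⟩, by simp [N]⟩
  mul_mem' := by
    rintro x y ⟨u, w, h, hx⟩ ⟨u', w', h', hy⟩
    exact ⟨_, _, good_mul h h', by rw [Units.val_mul, hx, hy, T_mul h.1 h'.2.2]⟩
  inv_mem' := by
    intro x hx
    have key : ∀ k : ℕ, ∃ u w : Fin (n + 2) → ZMod p, Good u w ∧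
        ((x ^ k : GL (Fin (n + 2)) (ZMod p)) : Matrix (Fin (n + 2)) (Fin (n + 2)) (ZMod p)) = 1 + N u w := by
      intro k
      induction k with
      | zero => exact ⟨0, 0, ⟨rfl, rfl, rfl⟩, by simp [N]⟩
      | succ k ih =>
        obtain ⟨u, w, h, hk⟩ := ih
        obtain ⟨u', w', h', hx'⟩ := hx
        exact ⟨_, _, good_mul h h', by rw [pow_succ, Units.val_mul, hk, hx', T_mul h.1 h'.2.2]⟩
    have e : x⁻¹ = x ^ (orderOf x - 1) := by
      rw [inv_eq_iff_mul_eq_one, ← pow_succ', Nat.sub_add_cancel (orderOf_pos x), pow_orderOf_eq_one]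
    show ∃ u w : Fin (n + 2) → ZMod p, Good u w ∧
      ((x⁻¹ : GL (Fin (n + 2)) (ZMod p)) : Matrix (Fin (n + 2)) (Fin (n + 2)) (ZMod p)) = 1 + N u w
    rw [e]
    exact key _

variable {p n}

theorem exists_unit {u w : Fin (n + 2) → ZMod p} (h : Good u w) :
    ∃ x ∈ E p n, (x : Matrix _ _ (ZMod p)) = 1 + N u w := by
  have h' : Good (-u + (u ⬝ᵥ w) • eL) (-w) := by
    obtain ⟨a, b, c⟩ := h
    exact ⟨by simp [a, eL, (last_ne (n := n)).symm], by simp [b], by simp [c]⟩
  have hmul : (1 + N u w) * (1 + N (-u + (u ⬝ᵥ w) • eL) (-w)) = 1 := by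
    rw [T_mul h.1 h'.2.2, dotProduct_neg]
    simp [N, neg_smul]
  exact ⟨⟨1 + N u w, _, hmul, mul_eq_one_comm.1 hmul⟩, ⟨u, w, h, rfl⟩, rfl⟩

noncomputable def toE (q : {uw : (Fin (n + 2) → ZMod p) × (Fin (n + 2) → ZMod p) // Good uw.1 uw.2}) : E p n :=
  ⟨(exists_unit q.2).choose, (exists_unit q.2).choose_spec.1⟩

theorem toE_bij : Function.Bijective (toE (p := p) (n := n)) := by
  constructor
  · intro q q' h
    have h1 := (exists_unit q.2).choose_spec.2
    have h2 := (exists_unit q'.2).choose_spec.2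
    rw [show (exists_unit q.2).choose = (exists_unit q'.2).choose from congrArg Subtype.val h] at h1
    obtain ⟨a, b⟩ := T_inj q.2.2.1 q'.2.2.1 q.2.2.2 q'.2.2.2 (h1.symm.trans h2)
    exact Subtype.ext (Prod.ext a b)
  · rintro ⟨x, u, w, h, hx⟩
    exact ⟨⟨(u, w), h⟩, Subtype.ext (Units.ext ((exists_unit h).choose_spec.2.trans hx.symm))⟩

theorem card_E : Nat.card (E p n) = p ^ (1 + 2 * n) := by
  classical
  rw [← Nat.card_eq_of_bijective _ (toE_bij (p := p) (n := n))]
  let e : {uw : (Fin (n + 2) → ZMod p) × (Fin (n + 2) → ZMod p) // Good uw.1 uw.2} ≃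
      (Fin (n + 1) → ZMod p) × (Fin n → ZMod p) :=
    { toFun := fun q => (fun i => q.1.1 i.succ, fun i => q.1.2 i.castSucc.succ)
      invFun := fun q => ⟨(Fin.cons 0 q.1, Fin.cons 0 (Fin.snoc q.2 0)), by
        refine ⟨rfl, rfl, ?_⟩
        show Fin.cons (α := fun _ => ZMod p) 0 (Fin.snoc q.2 0) (Fin.last (n + 1)) = 0
        rw [← Fin.succ_last, Fin.cons_succ, Fin.snoc_last]⟩
      left_inv := fun q => by
        obtain ⟨⟨u, w⟩, hu, hw, hwL⟩ := q
        refine Subtype.ext (Prod.ext (funext fun i => ?_) (funext fun i => ?_))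
        · refine Fin.cases ?_ (fun j => ?_) i
          · simpa using hu.symm
          · simp
        · refine Fin.cases ?_ (fun j => ?_) i
          · simpa using hw.symm
          · refine Fin.lastCases ?_ (fun k => ?_) j
            · simpa using hwL.symm
            · simp
      right_inv := fun q => by
        refine Prod.ext (funext fun i => ?_) (funext fun i => ?_)
        · simp
        · simp }
  rw [Nat.card_congr e, Nat.card_prod, Nat.card_fun, Nat.card_fun, Nat.card_zmod, Nat.card_fin, Nat.card_fin,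
    ← pow_add]
  congr 1
  omega

theorem pow_E {x : GL (Fin (n + 2)) (ZMod p)} {u w : Fin (n + 2) → ZMod p} (h : Good u w)
    (hx : (x : Matrix _ _ (ZMod p)) = 1 + N u w) (k : ℕ) :
    ((x ^ k : GL (Fin (n + 2)) (ZMod p)) : Matrix _ _ (ZMod p)) =
      1 + N ((k : ZMod p) • u + ((k.choose 2 : ℕ) : ZMod p) • (u ⬝ᵥ w) • eL) ((k : ZMod p) • w) := by
  induction k with
  | zero => simp [N]
  | succ k ih =>
    have hw : w (Fin.last (n + 1)) = 0 := h.2.2
    have hg : ((k : ZMod p) • u + ((k.choose 2 : ℕ) : ZMod p) • (u ⬝ᵥ w) • (eL : Fin (n + 2) → ZMod p)) 0 = 0 := by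
      simp [h.1, eL, (last_ne (n := n)).symm]
    rw [pow_succ, Units.val_mul, ih, hx, T_mul hg hw]
    congr 2
    · have hL : (eL : Fin (n + 2) → ZMod p) ⬝ᵥ w = 0 := by simp [eL, single_dotProduct, hw]
      rw [add_dotProduct, smul_dotProduct, smul_dotProduct, smul_dotProduct, hL,
        Nat.choose_succ_succ k 1, Nat.choose_one_right]
      push_cast
      simp only [smul_eq_mul, mul_zero, add_zero]
      module
    · push_cast
      module

theorem main' (hp : p ≠ 2) (hn : 1 ≤ n) :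
    ∃ E : Subgroup (Matrix.GeneralLinearGroup (Fin (n + 2)) (ZMod p)), Cfsg.IsExtraspecial p ↥E ∧
      Nat.card E = p ^ (1 + 2 * n) ∧ ∀ x ∈ E, x ^ p = 1 := by
  classical
  have hpP : p.Prime := Fact.out
  have hexp : ∀ x ∈ E p n, x ^ p = 1 := by
    rintro x ⟨u, w, h, hx⟩
    apply Units.ext
    have hc : ((p.choose 2 : ℕ) : ZMod p) = 0 := by
      rw [ZMod.natCast_eq_zero_iff]
      exact hpP.dvd_choose_self two_ne_zero (lt_of_le_of_ne hpP.two_le (Ne.symm hp))
    rw [pow_E h hx, hc, ZMod.natCast_self]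
    simp [N]
  have hP : IsPGroup p (E p n) := IsPGroup.of_card card_E
  haveI : Finite (E p n) := inferInstance
  -- products
  have hmul : ∀ (a b : E p n) {u w u' w' : Fin (n + 2) → ZMod p}, Good u w → Good u' w' →
      ((a : GL (Fin (n + 2)) (ZMod p)) : Matrix _ _ (ZMod p)) = 1 + N u w →
      ((b : GL (Fin (n + 2)) (ZMod p)) : Matrix _ _ (ZMod p)) = 1 + N u' w' →
      (a * b = b * a ↔ u ⬝ᵥ w' = u' ⬝ᵥ w) := by
    intro a b u w u' w' h h' ha hb
    have e1 : (((a * b : E p n) : GL (Fin (n + 2)) (ZMod p)) : Matrix _ _ (ZMod p)) =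
        1 + N (u + u' + (u ⬝ᵥ w') • eL) (w + w') := by
      rw [Subgroup.coe_mul, Units.val_mul, ha, hb, T_mul h.1 h'.2.2]
    have e2 : (((b * a : E p n) : GL (Fin (n + 2)) (ZMod p)) : Matrix _ _ (ZMod p)) =
        1 + N (u' + u + (u' ⬝ᵥ w) • eL) (w' + w) := by
      rw [Subgroup.coe_mul, Units.val_mul, ha, hb, T_mul h'.1 h.2.2]
    constructor
    · intro hab
      rw [hab, e2] at e1
      have hg1 := good_mul h' h
      have hg2 := good_mul h h'
      have h3 := congrFun (T_inj hg1.2.1 hg2.2.1 hg1.2.2 hg2.2.2 e1).1 (Fin.last (n + 1))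
      simp [eL] at h3
      linear_combination -h3
    · intro heq
      apply Subtype.ext; apply Units.ext
      rw [e1, e2, heq, add_comm u, add_comm w]
  -- the centre
  have hcen : ∀ a : E p n, a ∈ Subgroup.center (E p n) ↔
      ∃ c : ZMod p, ((a : GL (Fin (n + 2)) (ZMod p)) : Matrix (Fin (n + 2)) (Fin (n + 2)) (ZMod p)) = 1 + N (c • (eL : Fin (n + 2) → ZMod p)) 0 := by
    intro a
    obtain ⟨u, w, h, ha⟩ := a.2
    constructor
    · intro hc
      have key : ∀ u' w', Good u' w' → u ⬝ᵥ w' = u' ⬝ᵥ w := fun u' w' h' => by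
        obtain ⟨b, hb, hbx⟩ := exists_unit h'
        exact (hmul a ⟨b, hb⟩ h h' ha hbx).1 (Subgroup.mem_center_iff.1 hc ⟨b, hb⟩).symm
      have hw0 : w = 0 := by
        funext i
        by_cases hi : i = 0
        · rw [hi]; exact h.2.1
        have := key (Pi.single i 1) 0 ⟨by simp [Ne.symm hi], rfl, rfl⟩
        simpa [single_dotProduct] using this.symm
      subst hw0
      refine ⟨u (Fin.last (n + 1)), ?_⟩
      rw [ha]
      congr 2
      funext i
      by_cases hiL : i = Fin.last (n + 1)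
      · simp [hiL, eL]
      by_cases hi : i = 0
      · subst hi; simp [h.1, eL, (last_ne (n := n)).symm]
      have := key 0 (Pi.single i 1) ⟨rfl, by simp [Ne.symm hi], by simp [Ne.symm hiL]⟩
      simp [dotProduct_single] at this
      simp [this, eL, hiL]
    · rintro ⟨c, hc⟩
      rw [Subgroup.mem_center_iff]
      intro b
      obtain ⟨u', w', h', hb⟩ := b.2
      refine ((hmul a b ⟨by simp [eL, (last_ne (n := n)).symm], rfl, rfl⟩ h' hc hb).2 ?_).symm
      simp [eL, single_dotProduct, h'.2.2]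
  have hgoodc : ∀ c : ZMod p, Good (c • (eL : Fin (n + 2) → ZMod p)) 0 := fun c =>
    ⟨by simp [eL, (last_ne (n := n)).symm], rfl, rfl⟩
  have hcard : Nat.card (Subgroup.center (E p n)) = p := by
    let f : ZMod p → Subgroup.center (E p n) := fun c =>
      ⟨⟨(exists_unit (hgoodc c)).choose, (exists_unit (hgoodc c)).choose_spec.1⟩,
        (hcen _).2 ⟨c, (exists_unit (hgoodc c)).choose_spec.2⟩⟩
    have hf : Function.Bijective f := by
      constructor
      · intro c c' h
        have h1 := (exists_unit (hgoodc c)).choose_spec.2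
        rw [show (exists_unit (hgoodc c)).choose = (exists_unit (hgoodc c')).choose from
          congrArg (fun z : Subgroup.center (E p n) => ((z : E p n) : GL (Fin (n + 2)) (ZMod p))) h,
          (exists_unit (hgoodc c')).choose_spec.2] at h1
        have h3 := congrFun (T_inj rfl rfl rfl rfl h1).1 (Fin.last (n + 1))
        simpa [eL] using h3.symm
      · rintro ⟨a, ha⟩
        obtain ⟨c, hc⟩ := (hcen a).1 ha
        exact ⟨c, Subtype.ext (Subtype.ext (Units.ext ((exists_unit (hgoodc c)).choose_spec.2.trans hc.symm)))⟩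
    rw [← Nat.card_eq_of_bijective f hf, Nat.card_zmod]
  have hcomm_le : commutator (E p n) ≤ Subgroup.center (E p n) := by
    rw [commutator_eq_closure, Subgroup.closure_le]
    rintro _ ⟨a, b, rfl⟩
    rw [SetLike.mem_coe, hcen]
    obtain ⟨u, w, h, ha⟩ := a.2
    obtain ⟨u', w', h', hb⟩ := b.2
    obtain ⟨z, hz, hzx⟩ := exists_unit (hgoodc (u ⬝ᵥ w' - u' ⬝ᵥ w))
    refine ⟨u ⬝ᵥ w' - u' ⬝ᵥ w, ?_⟩
    have hab : a * b = (⟨z, hz⟩ : E p n) * (b * a) := by
      apply Subtype.ext; apply Units.ext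
      have hg := good_mul h' h
      rw [Subgroup.coe_mul, Units.val_mul, ha, hb, T_mul h.1 h'.2.2, Subgroup.coe_mul, Units.val_mul, hzx,
        Subgroup.coe_mul, Units.val_mul, ha, hb, T_mul h'.1 h.2.2, T_mul (hgoodc _).1 hg.2.2]
      congr 2
      · simp only [smul_dotProduct, eL, single_dotProduct, hg.2.2, smul_eq_mul, mul_zero, one_mul]
        module
      · abel
    rw [commutatorElement_def, show a * b * a⁻¹ * b⁻¹ = (⟨z, hz⟩ : E p n) by rw [hab]; group]
    exact hzx
  have hne : commutator (E p n) ≠ ⊥ := by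
    intro h0
    let i : Fin (n + 2) := (⟨1, by omega⟩ : Fin (n + 2))
    have hi0 : i ≠ 0 := by simp [i, Fin.ext_iff]
    have hiL : i ≠ Fin.last (n + 1) := by simp [i, Fin.ext_iff]; omega
    have hA : Good (Pi.single i (1 : ZMod p)) 0 := ⟨by simp [Ne.symm hi0], rfl, rfl⟩
    have hB : Good (0 : Fin (n + 2) → ZMod p) (Pi.single i 1) := ⟨rfl, by simp [Ne.symm hi0], by simp [Ne.symm hiL]⟩
    obtain ⟨a, ha, hax⟩ := exists_unit hA
    obtain ⟨b, hb, hbx⟩ := exists_unit hB
    have hmem : ⁅(⟨a, ha⟩ : E p n), ⟨b, hb⟩⁆ ∈ commutator (E p n) :=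
      Subgroup.commutator_mem_commutator (Subgroup.mem_top _) (Subgroup.mem_top _)
    rw [h0, Subgroup.mem_bot, commutatorElement_eq_one_iff_mul_comm] at hmem
    have h1 := (hmul _ _ hA hB hax hbx).1 hmem
    simp at h1
  have hcz : commutator (E p n) = Subgroup.center (E p n) := by
    refine Subgroup.eq_of_le_of_card_ge hcomm_le ?_
    rw [hcard]
    have h1 : Nat.card (commutator (E p n)) ∣ p := (Subgroup.card_dvd_of_le hcomm_le).trans (dvd_of_eq hcard)
    rcases (Nat.dvd_prime hpP).1 h1 with h2 | h2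
    · exact absurd (Subgroup.card_eq_one.1 h2) hne
    · exact h2.ge
  refine ⟨E p n, ⟨⟨hP, ?_, hcz⟩, hcard⟩, card_E, hexp⟩
  refine le_antisymm (Cfsg.Lib.PGroup.frattini_le_of_commutator_le_of_pow_mem (p := p) hcomm_le fun g => ?_)
    (hcz.ge.trans (Cfsg.Lib.PGroup.commutator_le_frattini hP))
  rw [show g ^ p = 1 from Subtype.ext (hexp g g.2)]
  exact Subgroup.one_mem _

theorem main (p : ℕ) [Fact p.Prime] (hp : p ≠ 2) (n : ℕ) (hn : 1 ≤ n) :
    ∃ E : Subgroup (Matrix.GeneralLinearGroup (Fin (n + 2)) (ZMod p)), Cfsg.IsExtraspecial p ↥E ∧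
      Nat.card E = p ^ (1 + 2 * n) ∧ ∀ x ∈ E, x ^ p = 1 := main' hp hn

end


/-- For every odd prime p and every n ≥ 1 there is an extraspecial p-group of order p^(1+2n) and exponent p; concretely, the general linear group of degree n + 2 over the field with p elements contains such a subgroup. -/
theorem result (p : ℕ) [Fact p.Prime] (hp : p ≠ 2) (n : ℕ) (hn : 1 ≤ n) : ∃ E : Subgroup (Matrix.GeneralLinearGroup (Fin (n + 2)) (ZMod p)), Cfsg.IsExtraspecial p ↥E ∧ Nat.card E = p ^ (1 + 2 * n) ∧ ∀ x ∈ E, x ^ p = 1 := by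
  exact Cfsg.Agent.S3799.main p hp n hn

end Cfsg.Agent.S3799
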