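import Cfsg.Statements.S3800
import Mathlib.Tactic.Group
import Mathlib.GroupTheory.Sylow
import Mathlib.Data.Nat.Prime.Int
import Cfsg.Agent.Lib.Core.Basic
-- import your own Cfsg.Agent.* helpers here

set_option autoImplicit false
open Cfsg

namespace Cfsg.Agent.S3800

open Subgroup
open scoped commutatorElement Pointwise

/-- Let G be a finite group, N a normal subgroup of G whose order is prime to p, and P a p-subgroup of G. Then in G/N the normalizer of the image of P is the image of N_G(P), and the centralizer of the image of P is the image of C_G(P). -/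
theorem result {G : Type*} [Group G] [Finite G] {p : ℕ} [Fact p.Prime] (N : Subgroup G) [N.Normal] (hN : (Nat.card N).Coprime p) (P : Subgroup G) (hP : IsPGroup p P) : Subgroup.normalizer ((P.map (QuotientGroup.mk' N)) : Set (G ⧸ N)) = (Subgroup.normalizer (P : Set G)).map (QuotientGroup.mk' N) ∧ Subgroup.centralizer ((P.map (QuotientGroup.mk' N)) : Set (G ⧸ N)) = (Subgroup.centralizer (P : Set G)).map (QuotientGroup.mk' N) := by
  set π := QuotientGroup.mk' N
  have hN1 : ∀ x : G, π x = 1 ↔ x ∈ N := fun x => QuotientGroup.eq_one_iff x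
  have hlift : ∀ g : G, (∀ x ∈ P, π (g * x * g⁻¹) ∈ P.map π) → ∃ n ∈ N, n * g ∈ normalizer (P : Set G) := by
    intro g hg
    set K := P ⊔ N
    have hgK : P.map (MulAut.conj g).toMonoidHom ≤ K := by
      rintro _ ⟨x, hx, rfl⟩
      obtain ⟨y, hy, hye⟩ := hg x hx
      have h1 : y⁻¹ * (g * x * g⁻¹) ∈ N := QuotientGroup.eq.mp hye
      have h2 := mul_mem (mem_sup_left (T := N) hy) (mem_sup_right (S := P) h1)
      rwa [mul_inv_cancel_left] at h2
    have hidx : ∀ Q : Subgroup G, Nat.card Q = Nat.card P → Q ≤ K → ¬ p ∣ (Q.subgroupOf K).index := by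
      intro Q hQ hQK hdvd
      have h1 : (Q.subgroupOf K).index ∣ Nat.card N := by
        have hc := (Q.subgroupOf K).index_mul_card
        rw [Nat.card_congr (subgroupOfEquivOfLe hQK).toEquiv, hQ] at hc
        have hb := Cfsg.Lib.Core.card_sup_dvd_mul P N
        rw [show P ⊔ N = K from rfl, ← hc, mul_comm] at hb
        exact Nat.dvd_of_mul_dvd_mul_left Nat.card_pos hb
      exact (Fact.out : p.Prime).one_lt.ne' (Nat.eq_one_of_dvd_coprimes hN (hdvd.trans h1) dvd_rfl)
    have hcard : Nat.card (P.map (MulAut.conj g).toMonoidHom) = Nat.card P :=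
      (Nat.card_congr (P.equivMapOfInjective _ (MulAut.conj g).injective).toEquiv).symm
    let S₁ : Sylow p K := (hP.comap_of_injective K.subtype K.subtype_injective).toSylow (hidx P rfl le_sup_left)
    let S₂ : Sylow p K := ((hP.map (MulAut.conj g).toMonoidHom).comap_of_injective K.subtype K.subtype_injective).toSylow
      (hidx _ hcard hgK)
    obtain ⟨k, hk⟩ := MulAction.exists_smul_eq K S₂ S₁
    obtain ⟨a, ha, n, hn, hkn⟩ := mem_sup_of_normal_right.mp k.2
    have hmem : ∀ x ∈ P, (k : G) * (g * x * g⁻¹) * (k : G)⁻¹ ∈ P := fun x hx => by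
      have h1 : k * ⟨g * x * g⁻¹, hgK ⟨x, hx, rfl⟩⟩ * k⁻¹ ∈ ((k • S₂ : Sylow p K) : Subgroup K) :=
        ⟨_, (show (g * x * g⁻¹) ∈ P.map (MulAut.conj g).toMonoidHom from ⟨x, hx, rfl⟩), rfl⟩
      rw [hk] at h1
      exact h1
    refine ⟨n, hn, mem_normalizer_fintype fun x hx => ?_⟩
    have h2 := mul_mem (mul_mem (inv_mem ha) (hmem x hx)) ha
    rw [← hkn] at h2
    simpa [mul_assoc] using h2
  constructor
  · refine le_antisymm (fun y hy => ?_) (le_normalizer_map π)
    obtain ⟨g, rfl⟩ := QuotientGroup.mk'_surjective N y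
    obtain ⟨n, hn, hng⟩ := hlift g fun x hx => by
      rw [map_mul, map_mul, map_inv]
      exact (mem_normalizer_iff.mp hy _).mp (mem_map_of_mem π hx)
    exact ⟨n * g, hng, by rw [map_mul, (hN1 n).mpr hn, one_mul]⟩
  · refine le_antisymm (fun y hy => ?_) ?_
    · obtain ⟨g, rfl⟩ := QuotientGroup.mk'_surjective N y
      have hconj : ∀ x ∈ P, π (g * x * g⁻¹) = π x := fun x hx => by
        rw [map_mul, map_mul, map_inv, ← mem_centralizer_iff.mp hy (π x) (mem_map_of_mem π hx), mul_inv_cancel_right]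
      obtain ⟨n, hn, hng⟩ := hlift g fun x hx => (hconj x hx).symm ▸ mem_map_of_mem π hx
      refine ⟨n * g, mem_centralizer_iff.mpr fun x hx => ?_, by rw [map_mul, (hN1 n).mpr hn, one_mul]⟩
      have h1 : n * g * x * (n * g)⁻¹ * x⁻¹ ∈ N := by
        rw [← hN1, map_mul, map_inv, show n * g * x * (n * g)⁻¹ = n * (g * x * g⁻¹) * n⁻¹ by group, map_mul, map_mul,
          map_inv, (hN1 n).mpr hn, hconj x hx, one_mul, inv_one, mul_one, mul_inv_cancel]
      have h2 : n * g * x * (n * g)⁻¹ * x⁻¹ ∈ P := mul_mem ((mem_normalizer_iff.mp hng x).mp hx) (inv_mem hx)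
      have h3 : n * g * x * (n * g)⁻¹ * x⁻¹ = 1 := by
        obtain ⟨k, hk⟩ := IsPGroup.iff_card.mp hP
        exact orderOf_eq_one_iff.mp (Nat.eq_one_of_dvd_coprimes (hN.pow_right k)
          ((orderOf_mk _ h1).symm.dvd.trans (orderOf_dvd_natCard _))
          (hk ▸ (orderOf_mk _ h2).symm.dvd.trans (orderOf_dvd_natCard _)))
      rw [mul_inv_eq_one, mul_inv_eq_iff_eq_mul] at h3
      exact h3.symm
    · rintro _ ⟨g, hg, rfl⟩
      rw [mem_centralizer_iff]
      rintro _ ⟨x, hx, rfl⟩
      rw [← map_mul, ← map_mul, mem_centralizer_iff.mp hg x hx]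

end Cfsg.Agent.S3800
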