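import Cfsg.Statements.S3803
import Cfsg.Agent.Lib.Coprime.Action
import Cfsg.Agent.Lib.Thompson.Omega
import Cfsg.Agent.Lib.Core.Basic
import Cfsg.Agent.Lib.PGroup.Basic
-- import your own Cfsg.Agent.* helpers here

set_option autoImplicit false
open Cfsg

namespace Cfsg.Agent.S3803

open Subgroup
open scoped commutatorElement

variable {X : Type*} [Group X] [Finite X]

theorem centralizes_of_cyclic {C : Subgroup X} (hC : IsPGroup 2 C) [IsCyclic C] {a : X}
    (ha : Odd (orderOf a)) (hn : a ∈ normalizer (C : Set X)) : ∀ x ∈ C, a * x = x * a := by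
  let f := Subgroup.normalizerMonoidHom C
  obtain ⟨k, hk⟩ := IsPGroup.iff_card.1 hC
  have h1 : orderOf (f ⟨a, hn⟩) ∣ orderOf a := by
    have := orderOf_map_dvd f ⟨a, hn⟩
    rwa [orderOf_mk] at this
  have h2 : orderOf (f ⟨a, hn⟩) ∣ 2 ^ k := by
    refine (_root_.orderOf_dvd_natCard _).trans ?_
    rw [IsCyclic.card_mulAut, hk]
    rcases k with _ | k
    · exact dvd_of_eq (by norm_num)
    · rw [Nat.totient_prime_pow Nat.prime_two (Nat.succ_pos k)]
      simpa using pow_dvd_pow 2 (Nat.le_succ k)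
  have h3 : f ⟨a, hn⟩ = 1 := orderOf_eq_one_iff.1 (Nat.eq_one_of_dvd_coprimes
    ((Nat.coprime_two_left.2 ha).pow_left k) h2 h1)
  intro x hx
  have h4 : a * x * a⁻¹ = x := congrArg Subtype.val (DFunLike.congr_fun h3 (⟨x, hx⟩ : C))
  calc a * x = a * x * a⁻¹ * a := by group
    _ = x * a := by rw [h4]

theorem centralizes_of_maximal {A S : Subgroup X} (hA : Odd (Nat.card A)) (hS : IsPGroup 2 S)
    (hAS : A ≤ normalizer (S : Set X))
    (hmax : ∀ M : Subgroup S, M.index = 2 → A ≤ normalizer (M.map S.subtype : Set X)) :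
    A ≤ centralizer (S : Set X) := by
  haveI : Fact (Nat.Prime 2) := ⟨Nat.prime_two⟩
  obtain ⟨k, hk⟩ := IsPGroup.iff_card.1 hS
  haveI := hS.isNilpotent
  refine Cfsg.Lib.Coprime.le_centralizer_of_commutator_le_frattini hAS
    (hk ▸ (Nat.coprime_two_right.2 hA).pow_right k) (Or.inr inferInstance) ?_
  refine commutator_le.2 fun y hy a ha => ?_
  have hc : ⁅y, a⁆ ∈ S := Cfsg.Lib.Coprime.commutator_le_of_le_normalizer hAS (commutator_mem_commutator hy ha)
  refine ⟨⟨_, hc⟩, ?_, rfl⟩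
  rw [SetLike.mem_coe, frattini, Order.radical, mem_iInf]
  intro M
  rw [mem_iInf]
  intro hM
  have hidx : M.index = 2 := Cfsg.Lib.PGroup.index_of_isCoatom (p := 2) hS hM
  have hy' : a * y * a⁻¹ ∈ S := (mem_normalizer_iff.1 (hAS ha) y).1 hy
  have e : (⟨⁅y, a⁆, hc⟩ : S) = ⟨y, hy⟩ * (⟨a * y * a⁻¹, hy'⟩ : S)⁻¹ := by
    apply Subtype.ext
    show ⁅y, a⁆ = y * (a * y * a⁻¹)⁻¹
    rw [commutatorElement_def]; group
  rw [e, mul_mem_iff_of_index_two hidx, inv_mem_iff]
  constructor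
  · intro h
    obtain ⟨z, hz, hze⟩ := (mem_normalizer_iff.1 (hmax M hidx ha) y).1 ⟨⟨y, hy⟩, h, rfl⟩
    exact (Subtype.ext hze : z = ⟨a * y * a⁻¹, hy'⟩) ▸ hz
  · intro h
    obtain ⟨z, hz, hze⟩ := (mem_normalizer_iff.1 (hmax M hidx ha) y).2 ⟨⟨_, hy'⟩, h, rfl⟩
    exact (Subtype.ext hze : z = ⟨y, hy⟩) ▸ hz

theorem main (P A D : Subgroup X) (hP : IsPGroup 2 P) (hA : Odd (Nat.card A))
    (hAP : A ≤ normalizer (P : Set X)) (hDP : D ≤ P) (hD1 : 1 < Nat.card D) (hD2 : Nat.card D < Nat.card P)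
    (hinv : ∀ E : Subgroup X, E ≤ P → (Nat.card E = Nat.card D ∨ (Nat.card D = 2 ∧ Nat.card E = 4)) →
      A ≤ normalizer (E : Set X)) : A ≤ centralizer (P : Set X) := by
  classical
  haveI : Fact (Nat.Prime 2) := ⟨Nat.prime_two⟩
  obtain ⟨n, hn⟩ := IsPGroup.iff_card.1 hP
  obtain ⟨d, hd⟩ := IsPGroup.iff_card.1 (hP.to_le hDP)
  have hd0 : d ≠ 0 := fun e => by rw [hd, e] at hD1; norm_num at hD1
  have hdn : d < n := (Nat.pow_lt_pow_iff_right Nat.one_lt_two).1 (hd ▸ hn ▸ hD2)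
  have hodd : ∀ a ∈ A, Odd (orderOf a) := fun a ha => by
    have h : orderOf a ∣ Nat.card A := orderOf_mk a ha ▸ _root_.orderOf_dvd_natCard (⟨a, ha⟩ : A)
    exact Odd.of_dvd_nat hA h
  -- every element lying in a subgroup of order `2 ^ d` with small cyclic span is fixed
  have hcyc : ∀ C : Subgroup X, C ≤ P → IsCyclic C →
      (Nat.card C = Nat.card D ∨ (Nat.card D = 2 ∧ Nat.card C = 4)) → ∀ x ∈ C, ∀ a ∈ A, a * x = x * a := by
    intro C hC hcy hcard x hx a ha
    exact centralizes_of_cyclic (hP.to_le hC) (hodd a ha) (hinv C hC hcard ha) x hx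
  refine Cfsg.Lib.Thompson.le_centralizer_of_centralizes_small A P hP hAP
    (hn ▸ (Nat.coprime_two_right.2 hA).pow_right n) ?_
  intro x hx hxo a ha
  have hx4 : x ^ 4 = 1 := by
    rcases hxo with h | ⟨-, h⟩
    · rw [show (4 : ℕ) = 2 * 2 from rfl, pow_mul, h, one_pow]
    · exact h
  obtain ⟨i, hi, hxi⟩ := (Nat.dvd_prime_pow Nat.prime_two).1 (orderOf_dvd_of_pow_eq_one (n := 2 ^ 2) hx4)
  by_cases hspecial : d = 1 ∧ i = 2
  · refine hcyc (zpowers x) (zpowers_le.2 hx) inferInstance (Or.inr ⟨?_, ?_⟩) x (mem_zpowers x) a ha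
    · rw [hd, hspecial.1, pow_one]
    · rw [Nat.card_zpowers, hxi, hspecial.2]; norm_num
  -- a subgroup of order `2 ^ (d + 1)` above `x`
  obtain ⟨S₀, hS₀c, hxS₀⟩ := Sylow.exists_subgroup_card_pow_prime_le (G := P) 2 (n := i) (m := d + 1)
    (by rw [hn]; exact pow_dvd_pow 2 hdn) (zpowers (⟨x, hx⟩ : P))
    (by rw [Nat.card_zpowers, orderOf_mk, hxi]) (by omega)
  set S := S₀.map P.subtype with hSdef
  have hSP : S ≤ P := map_subtype_le _
  have hSc : Nat.card S = 2 ^ (d + 1) := by rw [hSdef, card_map_of_injective P.subtype_injective, hS₀c]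
  have hxS : x ∈ S := ⟨⟨x, hx⟩, hxS₀ (mem_zpowers _), rfl⟩
  have hM : ∀ M : Subgroup S, M.index = 2 → Nat.card ↥(M.map S.subtype) = Nat.card D := by
    intro M hM
    have := M.card_mul_index
    rw [hM, hSc, pow_succ] at this
    rw [card_map_of_injective S.subtype_injective, hd]
    exact Nat.eq_of_mul_eq_mul_right Nat.two_pos this
  by_cases hcy : IsCyclic S
  · obtain ⟨g, hg⟩ := hcy.exists_generator
    obtain ⟨j, hj⟩ := mem_zpowers_iff.1 (hg ⟨x, hxS⟩)
    have hgo : orderOf (g : X) = 2 ^ (d + 1) := by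
      rw [orderOf_coe, orderOf_eq_card_of_forall_mem_zpowers hg, hSc]
    have hjx : (g : X) ^ j = x := by rw [← SubgroupClass.coe_zpow, hj]
    have hg2 : Nat.card (zpowers ((g : X) ^ 2)) = Nat.card D := by
      rw [Nat.card_zpowers, orderOf_pow_of_dvd two_ne_zero (hgo ▸ dvd_pow_self 2 (Nat.succ_ne_zero d)), hgo, hd,
        pow_succ, Nat.mul_div_cancel _ Nat.two_pos]
    -- `x` is a square, as its order is less than `2 ^ (d + 1)`
    rcases Int.even_or_odd j with ⟨l, rfl⟩ | hjo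
    · refine hcyc (zpowers ((g : X) ^ 2)) (zpowers_le.2 (pow_mem (hSP g.2) 2)) inferInstance (Or.inl hg2) x ?_ a ha
      refine mem_zpowers_iff.2 ⟨l, ?_⟩
      rw [← hjx, ← zpow_natCast (g : X) 2, ← zpow_mul]; congr 1; ring
    · exfalso
      have h2 : (g : X) ^ (j * (2 ^ i : ℕ)) = 1 := by
        rw [zpow_mul, hjx, zpow_natCast, ← hxi, pow_orderOf_eq_one]
      rw [← orderOf_dvd_iff_zpow_eq_one, hgo] at h2
      have hcop : IsCoprime ((2 ^ (d + 1) : ℕ) : ℤ) j := by
        rw [Int.isCoprime_iff_gcd_eq_one, Int.gcd_eq_natAbs_gcd_natAbs, Int.natAbs_natCast]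
        exact (Nat.coprime_two_left.2 (Int.natAbs_odd.2 hjo)).pow_left _
      have h3 := hcop.dvd_of_dvd_mul_left h2
      rw [Int.natCast_dvd_natCast, Nat.pow_dvd_pow_iff_le_right Nat.one_lt_two] at h3
      exact hspecial ⟨by omega, by omega⟩
  -- a non-cyclic group is generated by its maximal subgroups
  have hAS : A ≤ normalizer (S : Set X) := by
    intro b hb
    have key : ∀ b ∈ A, ∀ y ∈ S, b * y * b⁻¹ ∈ S := by
      intro b hb y hy
      haveI := (hP.to_le hSP).isNilpotent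
      rcases eq_top_or_exists_le_coatom (zpowers (⟨y, hy⟩ : S)) with htop | ⟨M, hMc, hyM⟩
      · exact absurd ⟨⟨⟨y, hy⟩, fun z => mem_zpowers_iff.1 (htop ▸ mem_top z)⟩⟩ hcy
      · have hidx : M.index = 2 := Cfsg.Lib.PGroup.index_of_isCoatom (p := 2) (hP.to_le hSP) hMc
        exact map_subtype_le M ((mem_normalizer_iff.1 (hinv _ ((map_subtype_le M).trans hSP) (Or.inl (hM M hidx)) hb) y).1
          ⟨⟨y, hy⟩, hyM (mem_zpowers _), rfl⟩)
    refine mem_normalizer_iff.2 fun y => ⟨key b hb y, fun h => ?_⟩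
    simpa [mul_assoc] using key b⁻¹ (inv_mem hb) _ h
  exact (mem_centralizer_iff.1 (centralizes_of_maximal hA (hP.to_le hSP) hAS
    (fun M hM' => hinv _ ((map_subtype_le M).trans hSP) (Or.inl (hM M hM'))) ha) x hxS).symm

/-- Let P be a 2-subgroup and A a subgroup of odd order of a finite group, with A normalizing P. Let D ≤ P with 1 < |D| < |P|. If every subgroup of P of order |D|, and also every subgroup of P of order 4 in case |D| = 2, is normalized by A, then A centralizes P. -/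
theorem result {X : Type*} [Group X] [Finite X] (P A D : Subgroup X) (hP : IsPGroup 2 P) (hA : Odd (Nat.card A))
    (hAP : A ≤ Subgroup.normalizer (P : Set X)) (hDP : D ≤ P) (hD1 : 1 < Nat.card D) (hD2 : Nat.card D < Nat.card P)
    (hinv : ∀ E : Subgroup X, E ≤ P → (Nat.card E = Nat.card D ∨ (Nat.card D = 2 ∧ Nat.card E = 4)) → A ≤ Subgroup.normalizer (E : Set X)) :
    A ≤ Subgroup.centralizer (P : Set X) := by
  exact main P A D hP hA hAP hDP hD1 hD2 hinv

end Cfsg.Agent.S3803
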