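import Cfsg.Statements.S3804
import Mathlib.Analysis.SpecialFunctions.Pow.Real
import Mathlib.GroupTheory.Index
-- import your own Cfsg.Agent.* helpers here

set_option autoImplicit false
open Cfsg

namespace Cfsg.Agent.S3804

theorem card_mul_le {X : Type*} [Group X] [Finite X] (A B C : Subgroup X)
    (hA : A ≤ C) (hB : B ≤ C) : Nat.card A * Nat.card B ≤ Nat.card C * Nat.card ↥(A ⊓ B) := by
  have h1 : Nat.card B * B.relIndex C = Nat.card C := by
    rw [← Subgroup.relIndex_bot_left, ← Subgroup.relIndex_bot_left]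
    exact Subgroup.relIndex_mul_relIndex _ _ _ bot_le hB
  have h2 : Nat.card ↥(A ⊓ B) * B.relIndex A = Nat.card A := by
    rw [← Subgroup.inf_relIndex_left A B, ← Subgroup.relIndex_bot_left,
      ← Subgroup.relIndex_bot_left]
    exact Subgroup.relIndex_mul_relIndex _ _ _ bot_le inf_le_left
  have h3 : B.relIndex A ≤ B.relIndex C := Subgroup.relIndex_le_of_le_right hA Subgroup.index_ne_zero_of_finite
  rw [← h1, ← h2]
  have := Nat.mul_le_mul_left (Nat.card ↥(A ⊓ B) * Nat.card B) h3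
  linarith

theorem exists_mul_of_card_eq {X : Type*} [Group X] [Finite X] (A B C : Subgroup X)
    (hA : A ≤ C) (hB : B ≤ C) (h : Nat.card A * Nat.card B = Nat.card C * Nat.card ↥(A ⊓ B))
    {c : X} (hc : c ∈ C) : ∃ a ∈ A, ∃ b ∈ B, c = a * b := by
  have h1 : Nat.card B * B.relIndex C = Nat.card C := by
    rw [← Subgroup.relIndex_bot_left, ← Subgroup.relIndex_bot_left]
    exact Subgroup.relIndex_mul_relIndex _ _ _ bot_le hB
  have h2 : Nat.card ↥(A ⊓ B) * B.relIndex A = Nat.card A := by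
    rw [← Subgroup.inf_relIndex_left A B, ← Subgroup.relIndex_bot_left,
      ← Subgroup.relIndex_bot_left]
    exact Subgroup.relIndex_mul_relIndex _ _ _ bot_le inf_le_left
  have he : B.relIndex A = B.relIndex C := by
    rw [← h1, ← h2] at h
    apply Nat.eq_of_mul_eq_mul_left (Nat.mul_pos (Nat.card_pos (α := ↥(A ⊓ B)))
      (Nat.card_pos (α := B)))
    linarith
  let f : A ⧸ B.subgroupOf A → C ⧸ B.subgroupOf C :=
    Quotient.map' (Subgroup.inclusion hA) fun a a' haa => by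
      rw [QuotientGroup.leftRel_apply] at haa ⊢
      exact haa
  have hinj : Function.Injective f := by
    intro x y
    refine Quotient.inductionOn₂' x y fun a a' haa => ?_
    have := QuotientGroup.eq.mp (show (QuotientGroup.mk (Subgroup.inclusion hA a) :
      C ⧸ B.subgroupOf C) = QuotientGroup.mk (Subgroup.inclusion hA a') from haa)
    exact QuotientGroup.eq.mpr this
  obtain ⟨x, hx⟩ := (hinj.bijective_of_nat_card_le (by
    rw [← Subgroup.index_eq_card, ← Subgroup.index_eq_card]; exact he.ge)).2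
      (QuotientGroup.mk ⟨c, hc⟩)
  induction x using Quotient.inductionOn' with
  | h a =>
    have := QuotientGroup.eq.mp (show (QuotientGroup.mk (Subgroup.inclusion hA a) :
      C ⧸ B.subgroupOf C) = QuotientGroup.mk ⟨c, hc⟩ from hx)
    exact ⟨a, a.2, (a : X)⁻¹ * c, this, by simp⟩


/-- Let G and H be subgroups of a finite group with G normalizing H, fix a real number α > 0, and for a subgroup A of G put m(A) = |A|^α · |C_H(A)|. Let A and B be nontrivial subgroups of G at which m attains its maximum over all nontrivial subgroups of G, and assume that A ∩ B ≠ 1 or that this maximum is at least |H|. Then AB = BA is a subgroup at which m is again maximal, C_H(A ∩ B) = C_H(A) C_H(B), and if A ∩ B ≠ 1 then m is maximal at A ∩ B as well. -/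
theorem result {X : Type*} [Group X] [Finite X] (G H : Subgroup X) (hGH : G ≤ Subgroup.normalizer (H : Set X)) (α : ℝ) (hα : 0 < α)
    (A B : Subgroup X) (hA : A ≤ G) (hB : B ≤ G) (hA1 : A ≠ ⊥) (hB1 : B ≠ ⊥)
    (hAmax : ∀ A' : Subgroup X, A' ≤ G → A' ≠ ⊥ → (fun A : Subgroup X => ((Nat.card A : ℝ) ^ α) * (Nat.card ↥(H ⊓ Subgroup.centralizer (A : Set X)) : ℝ)) A' ≤ (fun A : Subgroup X => ((Nat.card A : ℝ) ^ α) * (Nat.card ↥(H ⊓ Subgroup.centralizer (A : Set X)) : ℝ)) A)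
    (hBmax : ∀ A' : Subgroup X, A' ≤ G → A' ≠ ⊥ → (fun A : Subgroup X => ((Nat.card A : ℝ) ^ α) * (Nat.card ↥(H ⊓ Subgroup.centralizer (A : Set X)) : ℝ)) A' ≤ (fun A : Subgroup X => ((Nat.card A : ℝ) ^ α) * (Nat.card ↥(H ⊓ Subgroup.centralizer (A : Set X)) : ℝ)) B)
    (hcase : A ⊓ B ≠ ⊥ ∨ (Nat.card H : ℝ) ≤ (fun A : Subgroup X => ((Nat.card A : ℝ) ^ α) * (Nat.card ↥(H ⊓ Subgroup.centralizer (A : Set X)) : ℝ)) A) :
    (∀ a ∈ A, ∀ b ∈ B, ∃ b' ∈ B, ∃ a' ∈ A, a * b = b' * a') ∧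
    (∀ A' : Subgroup X, A' ≤ G → A' ≠ ⊥ → (fun A : Subgroup X => ((Nat.card A : ℝ) ^ α) * (Nat.card ↥(H ⊓ Subgroup.centralizer (A : Set X)) : ℝ)) A' ≤ (fun A : Subgroup X => ((Nat.card A : ℝ) ^ α) * (Nat.card ↥(H ⊓ Subgroup.centralizer (A : Set X)) : ℝ)) (A ⊔ B)) ∧
    (∀ h ∈ H ⊓ Subgroup.centralizer ((A ⊓ B : Subgroup X) : Set X), ∃ u ∈ H ⊓ Subgroup.centralizer (A : Set X), ∃ v ∈ H ⊓ Subgroup.centralizer (B : Set X), h = u * v) ∧
    (A ⊓ B ≠ ⊥ → ∀ A' : Subgroup X, A' ≤ G → A' ≠ ⊥ → (fun A : Subgroup X => ((Nat.card A : ℝ) ^ α) * (Nat.card ↥(H ⊓ Subgroup.centralizer (A : Set X)) : ℝ)) A' ≤ (fun A : Subgroup X => ((Nat.card A : ℝ) ^ α) * (Nat.card ↥(H ⊓ Subgroup.centralizer (A : Set X)) : ℝ)) (A ⊓ B)) := by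
  classical
  beta_reduce at hAmax hBmax hcase ⊢
  set cA := H ⊓ Subgroup.centralizer (A : Set X) with hcA
  set cB := H ⊓ Subgroup.centralizer (B : Set X) with hcB
  set cI := H ⊓ Subgroup.centralizer ((A ⊓ B : Subgroup X) : Set X) with hcI
  set cJ := H ⊓ Subgroup.centralizer ((A ⊔ B : Subgroup X) : Set X) with hcJ
  have hcinf : cA ⊓ cB = cJ := by
    apply le_antisymm
    · refine le_inf (inf_le_left.trans inf_le_left) ?_
      rw [Subgroup.le_centralizer_iff]
      refine sup_le ?_ ?_ <;> rw [Subgroup.le_centralizer_iff]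
      · exact inf_le_left.trans inf_le_right
      · exact inf_le_right.trans inf_le_right
    · exact le_inf (inf_le_inf_left _ (Subgroup.centralizer_le (SetLike.coe_subset_coe.mpr le_sup_left)))
        (inf_le_inf_left _ (Subgroup.centralizer_le (SetLike.coe_subset_coe.mpr le_sup_right)))
  have hJne : A ⊔ B ≠ ⊥ := fun h => hA1 (le_bot_iff.mp (le_sup_left.trans h.le))
  have hJG : A ⊔ B ≤ G := sup_le hA hB
  have i1 : cA ≤ cI := inf_le_inf_left _ (Subgroup.centralizer_le (SetLike.coe_subset_coe.mpr inf_le_left))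
  have i2 : cB ≤ cI := inf_le_inf_left _ (Subgroup.centralizer_le (SetLike.coe_subset_coe.mpr inf_le_right))
  set M := (Nat.card A : ℝ) ^ α * (Nat.card ↥cA : ℝ) with hM
  have hMB : (Nat.card B : ℝ) ^ α * (Nat.card ↥cB : ℝ) = M :=
    le_antisymm (hAmax B hB hB1) (hBmax A hA hA1)
  have hJle : (Nat.card ↥(A ⊔ B) : ℝ) ^ α * (Nat.card ↥cJ : ℝ) ≤ M := hAmax _ hJG hJne
  have hIle : (Nat.card ↥(A ⊓ B) : ℝ) ^ α * (Nat.card ↥cI : ℝ) ≤ M := by
    by_cases hI : A ⊓ B = ⊥
    · have h1 : Nat.card ↥(A ⊓ B) = 1 := by rw [hI, Subgroup.card_bot]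
      rw [h1, Nat.cast_one, Real.one_rpow, one_mul]
      refine le_trans ?_ (hcase.resolve_left (not_not.mpr hI))
      exact_mod_cast Subgroup.card_le_of_le inf_le_left
    · exact hAmax _ (inf_le_left.trans hA) hI
  have c1 := card_mul_le A B (A ⊔ B) le_sup_left le_sup_right
  have c2 := card_mul_le cA cB cI i1 i2
  rw [hcinf] at c2
  have posr : ∀ K : Subgroup X, 0 < (Nat.card K : ℝ) := fun K => Nat.cast_pos.mpr Nat.card_pos
  set X1 := ((Nat.card A * Nat.card B : ℕ) : ℝ) ^ α with hX1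
  set X2 := ((Nat.card ↥(A ⊔ B) * Nat.card ↥(A ⊓ B) : ℕ) : ℝ) ^ α with hX2
  set Y1 := ((Nat.card ↥cA * Nat.card ↥cB : ℕ) : ℝ) with hY1
  set Y2 := ((Nat.card ↥cI * Nat.card ↥cJ : ℕ) : ℝ) with hY2
  have hXle : X1 ≤ X2 := Real.rpow_le_rpow (by positivity) (by exact_mod_cast c1) hα.le
  have hYle : Y1 ≤ Y2 := by rw [hY1, hY2]; exact_mod_cast c2
  have hlow : X1 * Y1 = M * M := by
    conv_rhs => arg 2; rw [← hMB]
    rw [hX1, hY1, hM, Nat.cast_mul, Nat.cast_mul, Real.mul_rpow (by positivity) (by positivity)]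
    ring
  set a := (Nat.card ↥(A ⊔ B) : ℝ) ^ α * (Nat.card ↥cJ : ℝ) with ha
  set b := (Nat.card ↥(A ⊓ B) : ℝ) ^ α * (Nat.card ↥cI : ℝ) with hb
  have hup : X2 * Y2 = a * b := by
    rw [hX2, hY2, ha, hb, Nat.cast_mul, Nat.cast_mul, Real.mul_rpow (by positivity) (by positivity)]
    ring
  have hMpos : 0 < M := mul_pos (Real.rpow_pos_of_pos (posr A) α) (posr cA)
  have hapos : 0 < a := mul_pos (Real.rpow_pos_of_pos (posr _) α) (posr cJ)
  have hX1pos : 0 < X1 := by
    rw [hX1]; exact Real.rpow_pos_of_pos (Nat.cast_pos.mpr (Nat.mul_pos Nat.card_pos Nat.card_pos)) α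
  have hY1pos : 0 < Y1 := by
    rw [hY1]; exact Nat.cast_pos.mpr (Nat.mul_pos Nat.card_pos Nat.card_pos)
  have hbpos : 0 < b := mul_pos (Real.rpow_pos_of_pos (posr _) α) (posr cI)
  have h12 : X1 * Y1 ≤ X2 * Y2 := mul_le_mul hXle hYle hY1pos.le (le_trans hX1pos.le hXle)
  have haM : a = M := by nlinarith
  have hbM : b = M := by nlinarith
  have hXX : X1 = X2 := by nlinarith
  have hYY : Y1 = Y2 := by nlinarith
  have e1 : Nat.card A * Nat.card B = Nat.card ↥(A ⊔ B) * Nat.card ↥(A ⊓ B) := by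
    have := (Real.rpow_left_inj (by positivity) (by positivity) hα.ne').mp hXX
    exact_mod_cast this
  have e2 : Nat.card cA * Nat.card cB = Nat.card cI * Nat.card ↥(cA ⊓ cB) := by
    rw [hcinf]
    rw [hY1, hY2] at hYY
    exact_mod_cast hYY
  refine ⟨?_, ?_, fun h hh => exists_mul_of_card_eq cA cB cI i1 i2 e2 hh, fun _ A' h1 h2 => ?_⟩
  · intro x hx y hy
    obtain ⟨b', hb', a', ha', he⟩ := exists_mul_of_card_eq B A (A ⊔ B) le_sup_right le_sup_left
      (by rw [mul_comm, inf_comm, e1]) (mul_mem (Subgroup.mem_sup_left hx) (Subgroup.mem_sup_right hy))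
    exact ⟨b', hb', a', ha', he⟩
  · intro A' h1 h2
    change _ ≤ a
    rw [haM]
    exact hAmax A' h1 h2
  · change _ ≤ b
    rw [hbM]
    exact hAmax A' h1 h2

end Cfsg.Agent.S3804
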