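import Cfsg.Statements.S3806
import Cfsg.Agent.Lib.PGroup.MaximalClass
import Cfsg.Agent.Lib.PGroup.Noncyclic
import Cfsg.Prelude.Def_CaseTheorems
-- import your own Cfsg.Agent.* helpers here

set_option autoImplicit false
open Cfsg

namespace Cfsg.Agent.S3806

open Subgroup
open scoped commutatorElement
open Cfsg.Lib.PGroup Cfsg.Lib.PGroup.MaxClass

local notation:max "γ[" k "]" => (Subgroup.lowerCentralSeries (⊤ : Subgroup _) k)

universe u
variable {p : ℕ} [hp : Fact p.Prime] {X : Type u} [Group X] [Finite X]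

/-- Commutators with elements having central `p`-th power are killed by `p`. -/
theorem comm_pow (hX : IsPGroup p X) (K : Subgroup X) [K.Normal]
    (hK : Regular.PowLaw p ↥K) {s : X} (hs : s ∈ K) (hsc : s ^ p ∈ center X) (x : X) :
    ⁅x, s⁆ ∈ K ∧ ⁅x, s⁆ ^ p = 1 := by
  have ha : x * s * x⁻¹ ∈ K := Normal.conj_mem inferInstance s hs x
  have h1 : (⟨x * s * x⁻¹, ha⟩ : K) ^ p = (⟨s, hs⟩ : K) ^ p := by
    refine Subtype.ext ?_
    rw [SubgroupClass.coe_pow, SubgroupClass.coe_pow, conj_pow, mem_center_iff.1 hsc x,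
      mul_inv_cancel_right]
  have h2 := congrArg Subtype.val
    ((Regular.good_E (Regular.good (hX.to_subgroup K) hK) _ _).1 h1)
  rw [SubgroupClass.coe_pow] at h2
  refine ⟨?_, ?_⟩
  · rw [commutatorElement_def]; exact K.mul_mem ha (K.inv_mem hs)
  · rw [commutatorElement_def]; exact h2

/-- The elements killed by `p` in a normal regular subgroup. -/
theorem exists_omega (hX : IsPGroup p X) (K : Subgroup X) [K.Normal] (hK : Regular.PowLaw p ↥K) :
    ∃ Ω : Subgroup X, Ω.Normal ∧ ∀ v, v ∈ Ω ↔ v ∈ K ∧ v ^ p = 1 := by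
  refine ⟨{ carrier := {v | v ∈ K ∧ v ^ p = 1}
            one_mem' := ⟨one_mem _, one_pow p⟩
            mul_mem' := ?_
            inv_mem' := ?_ }, ⟨fun v hv g => ⟨Normal.conj_mem inferInstance v hv.1 g, by
              rw [conj_pow, hv.2, mul_one, mul_inv_cancel]⟩⟩, fun v => Iff.rfl⟩
  · rintro a b ⟨ha, ha'⟩ ⟨hb, hb'⟩
    refine ⟨K.mul_mem ha hb, ?_⟩
    have h3 := Regular.good_O (Regular.good (hX.to_subgroup K) hK)
      (x := ⟨a, ha⟩) (y := ⟨b, hb⟩) (Subtype.ext ha') (Subtype.ext hb')
    exact congrArg Subtype.val h3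
  · rintro a ⟨ha, ha'⟩
    exact ⟨K.inv_mem ha, by rw [inv_pow, ha', inv_one]⟩

theorem last_central {n : ℕ} (h : IsMax p X n) : (γ[n - 2] : Subgroup X) ≤ center X := by
  intro x hx
  rw [mem_center_iff]
  intro g
  have h1 : ⁅x, g⁆ ∈ γ[n - 2 + 1] := mem_gamma_succ hx g
  rw [gamma_eq_bot h (by omega), mem_bot, commutatorElement_eq_one_iff_mul_comm] at h1
  exact h1.symm

/-- The terms `γ_i` with `n ≤ i + p` have exponent `p`. -/
theorem exp_gamma (hp2 : p ≠ 2) : ∀ (n : ℕ) (X : Type u) [Group X] [Finite X], IsMax p X n →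
    ∀ i, 1 ≤ i → n ≤ i + p → ∀ x ∈ (γ[i] : Subgroup X), x ^ p = 1 := by
  intro n
  induction n using Nat.strong_induction_on with | _ n ih => ?_
  intro X _ _ h i hi hn x hx
  have hp3 : 3 ≤ p := by have := hp.out.two_le; omega
  have hX := isPGroup h
  have h3 := h.three
  rcases Nat.lt_or_ge i (n - 1) with hin | hin
  swap
  · rw [gamma_eq_bot h hin, mem_bot] at hx
    rw [hx, one_pow]
  by_cases hlast : i = n - 2
  · subst hlast
    have h1 := card_gamma h (n - 2) hi (by omega)
    rw [show n - 1 - (n - 2) = 1 by omega, pow_one] at h1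
    have h2 := pow_card_eq_one' (x := (⟨x, hx⟩ : (γ[n - 2] : Subgroup X)))
    rw [h1] at h2
    exact congrArg Subtype.val h2
  have hn4 : 4 ≤ n := by omega
  have hq := isMax_quotient h (m := n - 2) (by omega) (by omega)
  rw [show n - 2 + 1 = n - 1 by omega] at hq
  rcases Nat.lt_or_ge 1 i with hi2 | hi1
  · have hPL : Regular.PowLaw p ↥(γ[i - 1] : Subgroup X) :=
      powLaw_gamma h hp2 (k := i - 1) (by omega) (by omega) le_rfl
    obtain ⟨Ω, -, hΩ⟩ := exists_omega hX _ hPL
    have hle : (γ[i] : Subgroup X) ≤ Ω := by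
      rw [show i = i - 1 + 1 by omega, Subgroup.lowerCentralSeries_succ, commutator_le]
      intro b hb g _
      have hbc : b ^ p ∈ center X := by
        refine last_central h ?_
        have h1 := ih (n - 1) (by omega) _ hq (i - 1) (by omega) (by omega) _
          ((mk_mem_gamma h (by omega)).2 hb)
        rw [← map_pow] at h1
        exact (QuotientGroup.eq_one_iff _).1 h1
      rw [hΩ, ← commutatorElement_inv]
      obtain ⟨h1, h2⟩ := comm_pow hX _ hPL hb hbc g
      exact ⟨inv_mem h1, by rw [inv_pow, h2, inv_one]⟩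
    exact ((hΩ x).1 (hle hx)).2
  obtain rfl : i = 1 := by omega
  -- `n ≤ p + 1`: in the quotient all `p`-th powers are central
  have hQP : IsPGroup p (X ⧸ (γ[n - 2] : Subgroup X)) := isPGroup hq
  have hQL : Regular.PowLaw p (X ⧸ (γ[n - 2] : Subgroup X)) :=
    Regular.powLaw_of_lcs (gamma_eq_bot hq (by omega))
  have hpow : ∀ a : X, a ^ p ∈ γ[n - 3] := by
    intro a
    set π := QuotientGroup.mk' (γ[n - 2] : Subgroup X)
    have hc : (π a) ^ p ∈ center (X ⧸ (γ[n - 2] : Subgroup X)) := by
      rw [mem_center_iff]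
      intro b
      have h1 : Commute (π a ^ p ^ 1) b := (Regular.commute_iff hQP hQL 1 _ _).2 (by
        rw [pow_one]
        refine ih (n - 1) (by omega) _ hq 1 le_rfl (by omega) _ ?_
        rw [show (1 : ℕ) = 0 + 1 from rfl, Subgroup.lowerCentralSeries_succ,
          Subgroup.lowerCentralSeries_zero]
        have e : (π a)⁻¹ * b⁻¹ * π a * b = ⁅(π a)⁻¹, b⁻¹⁆ := by
          simp [commutatorElement_def, mul_assoc]
        rw [e]
        exact commutator_mem_commutator (mem_top _) (mem_top _))
      rw [pow_one] at h1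
      exact h1.eq.symm
    have h1 := mem_last_of_central hq (pow_mem_gamma_succ hq (k := 0) (mem_top (π a))) hc
    rw [← map_pow, show n - 1 - 2 = n - 3 by omega] at h1
    exact (mk_mem_gamma h (by omega)).1 h1
  -- a suitable generator
  set C := centralizer ((γ[n - 3] : Subgroup X) : Set X) with hC
  have hCtop : C ≠ ⊤ := by
    intro htop
    refine h.below (le_bot_iff.1 ?_)
    rw [show n - 2 = n - 3 + 1 by omega, Subgroup.lowerCentralSeries_succ, commutator_le]
    intro a ha g _
    rw [mem_bot, commutatorElement_eq_one_iff_mul_comm]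
    exact mem_centralizer_iff.1 (htop.ge (mem_top g)) a ha
  have hne1 : (γ[1] : Subgroup X) ≠ ⊤ := by
    intro htop
    have h1 := card_gamma h 1 le_rfl (by omega)
    rw [htop, Subgroup.card_top, h.card] at h1
    have := Nat.pow_right_injective hp.out.two_le h1
    omega
  obtain ⟨s, hs1, hsC⟩ : ∃ s, s ∉ (γ[1] : Subgroup X) ∧ s ∉ C := by
    obtain ⟨a, ha⟩ := SetLike.exists_not_mem_of_ne_top _ hne1
    obtain ⟨c, hc⟩ := SetLike.exists_not_mem_of_ne_top _ hCtop
    by_contra! hall
    have haC := hall a ha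
    have hc1 : c ∈ γ[1] := by_contra fun hc1 => hc (hall c hc1)
    have hac : a * c ∉ (γ[1] : Subgroup X) := fun hm => ha (by simpa using mul_mem hm (inv_mem hc1))
    exact hc (by simpa using mul_mem (inv_mem haC) (hall _ hac))
  have hsc : s ^ p ∈ center X := by
    refine last_central h (by_contra fun hne => hsC ?_)
    rw [hC, mem_centralizer_iff]
    intro b hb
    have h1 : ⁅s ^ p, s⁆ ∈ γ[n - 3 + 2] := by
      rw [commutatorElement_eq_one_iff_mul_comm.2 ((Commute.refl s).pow_left p).eq]
      exact one_mem _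
    have h2 := comm_level h (by omega) (hpow s) (by rwa [show n - 3 + 1 = n - 2 by omega]) h1 b hb
    rw [gamma_eq_bot h (by omega), mem_bot, commutatorElement_eq_one_iff_mul_comm] at h2
    exact h2
  set W := zpowers s ⊔ (γ[1] : Subgroup X) with hW
  haveI : W.Normal := Subgroup.Normal.of_commutator_le _ (by
    rw [← Subgroup.top_lowerCentralSeries_one]; exact le_sup_right)
  have hPL : Regular.PowLaw p ↥W := by
    refine Regular.powLaw_of_lcs ?_
    rw [← Subgroup.map_eq_bot_iff_of_injective _ W.subtype_injective,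
      Subgroup.top_subtype_lowerCentralSeries, ← le_bot_iff]
    have hstep : ∀ j, 1 ≤ j → W.lowerCentralSeries j ≤ γ[j + 1] := by
      intro j hj
      induction j, hj using Nat.le_induction with
      | base =>
        have hA : ⁅(γ[1] : Subgroup X), W⁆ ≤ γ[2] := by
          rw [show (2 : ℕ) = 1 + 1 from rfl, Subgroup.lowerCentralSeries_succ _ 1]
          exact commutator_mono le_rfl le_top
        rw [show (1 : ℕ) = 0 + 1 from rfl, Subgroup.lowerCentralSeries_succ,
          Subgroup.lowerCentralSeries_zero]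
        refine (commutator_mono hW.le le_rfl).trans ?_
        refine commutator_sup_le ?_ hA
        rw [commutator_comm, hW]
        refine commutator_sup_le ?_ ?_
        · rw [commutator_le]
          rintro _ ⟨a, rfl⟩ _ ⟨b, rfl⟩
          rw [commutatorElement_eq_one_iff_mul_comm.2 ((Commute.refl s).zpow_zpow a b).eq]
          exact one_mem _
        · exact (commutator_mono le_rfl (zpowers_le.2 (mem_sup_left (mem_zpowers s)))).trans hA
      | succ j _ ihj =>
        rw [Subgroup.lowerCentralSeries_succ, Subgroup.lowerCentralSeries_succ _ (j + 1)]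
        exact commutator_mono ihj le_top
    exact (hstep (p - 1) (by omega)).trans (gamma_eq_bot h (by omega)).le
  obtain ⟨Ω, hΩn, hΩ⟩ := exists_omega hX W hPL
  haveI := hΩn
  have hWtop : W ≠ ⊤ := by
    intro htop
    refine noncyclic h ((isCyclic_iff_exists_zpowers_eq_top).2
      ⟨s, frattini_nongenerating ?_⟩)
    rw [frattini_eq h]
    exact htop
  obtain ⟨x₀, hx₀⟩ := SetLike.exists_not_mem_of_ne_top _ hWtop
  have hgen : closure ({s, x₀} : Set X) = ⊤ := by
    refine frattini_nongenerating ?_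
    rw [frattini_eq h]
    have hlt1 : (γ[1] : Subgroup X) < W :=
      lt_of_le_of_ne le_sup_right fun e => hs1 (e.ge (mem_sup_left (mem_zpowers s)))
    have hlt2 : W < closure ({s, x₀} : Set X) ⊔ γ[1] := by
      refine lt_of_le_of_ne (sup_le_sup_right (zpowers_le.2 (subset_closure (by simp))) _) fun e => ?_
      exact hx₀ (e.ge (mem_sup_left (subset_closure (by simp))))
    refine eq_top_of_le_card _ ?_
    obtain ⟨a, ha⟩ := IsPGroup.iff_card.1 (hX.to_subgroup W)
    obtain ⟨b, hb⟩ := IsPGroup.iff_card.1 (hX.to_subgroup (closure ({s, x₀} : Set X) ⊔ γ[1]))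
    have c1 := Cfsg.Lib.Fusion.card_lt_card_of_lt hlt1
    have c2 := Cfsg.Lib.Fusion.card_lt_card_of_lt hlt2
    rw [card_gamma h 1 le_rfl (by omega), ha] at c1
    rw [ha, hb] at c2
    rw [h.card, hb]
    have := (Nat.pow_lt_pow_iff_right hp.out.one_lt).1 c1
    have := (Nat.pow_lt_pow_iff_right hp.out.one_lt).1 c2
    exact Nat.pow_le_pow_right hp.out.pos (by omega)
  have hle : (γ[1] : Subgroup X) ≤ Ω := by
    rw [Subgroup.top_lowerCentralSeries_one, _root_.commutator_def, commutator_le]
    intro a _ b _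
    set π := QuotientGroup.mk' Ω
    have hsq : Commute (π x₀) (π s) := by
      refine commutatorElement_eq_one_iff_mul_comm.1 ?_
      rw [← map_commutatorElement]
      exact (QuotientGroup.eq_one_iff _).2
        ((hΩ _).2 (comm_pow hX W hPL (mem_sup_left (mem_zpowers s)) hsc x₀))
    rw [← QuotientGroup.eq_one_iff, ← QuotientGroup.mk'_apply, map_commutatorElement,
      commutatorElement_eq_one_iff_mul_comm]
    haveI := isMulCommutative_closure (k := ({π s, π x₀} : Set (X ⧸ Ω))) (by
      rintro _ (rfl | rfl) _ (rfl | rfl)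
      exacts [rfl, hsq.symm.eq, hsq.eq, rfl])
    have hmem : ∀ v : X, π v ∈ closure ({π s, π x₀} : Set (X ⧸ Ω)) := by
      intro v
      rw [show ({π s, π x₀} : Set (X ⧸ Ω)) = π '' {s, x₀} by simp [Set.image_pair],
        ← MonoidHom.map_closure, hgen]
      exact mem_map_of_mem _ (mem_top v)
    exact congrArg Subtype.val
      ((inferInstance : IsMulCommutative ↥(closure ({π s, π x₀} : Set (X ⧸ Ω)))).is_comm.comm
        ⟨_, hmem a⟩ ⟨_, hmem b⟩)
  exact ((hΩ x).1 (hle hx)).2

omit hp in
theorem rank_section {k : ℕ} (hk : Cfsg.SectionalPRankLE p k X) {Y : Type u} [Group Y] (π : X →* Y)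
    (hπ : Function.Surjective π) (A : Subgroup Y) (hA : ∀ a ∈ A, ∀ b ∈ A, a * b = b * a)
    (he : ∀ a ∈ A, a ^ p = 1) : Nat.card ↥A ≤ p ^ k := by
  let f : ↥(A.comap π) →* ↥A := (π.comp (A.comap π).subtype).codRestrict A fun x => x.2
  have hf : Function.Surjective f := by
    rintro ⟨a, ha⟩
    obtain ⟨x, rfl⟩ := hπ a
    exact ⟨⟨x, ha⟩, rfl⟩
  let e := QuotientGroup.quotientKerEquivOfSurjective f hf
  have h1 := hk (A.comap π) f.ker ⊤ ⟨⟨fun a b => Subtype.ext (e.injective (by
      rw [Subgroup.coe_mul, Subgroup.coe_mul, map_mul, map_mul]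
      exact Subtype.ext (hA _ (e a.1).2 _ (e b.1).2)))⟩⟩ (fun a _ => e.injective (by
      rw [map_pow, map_one]
      exact Subtype.ext (by simpa using he _ (e a).2)))
  rwa [Subgroup.card_top, Nat.card_congr e.toEquiv] at h1

theorem bound {n k : ℕ} (h : IsMax p X n) (hk : 1 ≤ k) (hpk : k + 2 ≤ p)
    (hr : Cfsg.SectionalPRankLE p k X) : n ≤ 2 * k := by
  by_contra hlt
  push Not at hlt
  have hp2 : p ≠ 2 := by omega
  rcases Nat.eq_or_lt_of_le hk with hk1 | hk2
  · subst hk1
    obtain ⟨E, -, hE, hEc⟩ := Noncyclic.exists_elemAb_sq hp2 (isPGroup h) ⊤ fun hc =>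
      noncyclic h ((MulEquiv.isCyclic (Subgroup.topEquiv (G := X))).1 hc)
    have h1 := rank_section hr (MonoidHom.id X) Function.surjective_id E
      (fun a ha b hb => congrArg Subtype.val (hE.1.is_comm.comm ⟨a, ha⟩ ⟨b, hb⟩)) hE.2
    rw [hEc, pow_one] at h1
    nlinarith [hp.out.two_le]
  · have hq := isMax_quotient h (m := 2 * k) (by omega) (by omega)
    set Q := X ⧸ (γ[2 * k] : Subgroup X)
    set A : Subgroup Q := γ[k - 1] with hA
    have hexp := exp_gamma hp2 (2 * k + 1) Q hq (k - 1) (by omega) (by omega)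
    have hcard : Nat.card ↥A = p ^ (k + 1) := by
      rw [hA, card_gamma hq (k - 1) (by omega) (by omega)]
      congr 1
      omega
    obtain ⟨a, ha, ha'⟩ : ∃ a ∈ (γ[k - 1] : Subgroup Q), a ∉ (γ[k] : Subgroup Q) := by
      refine SetLike.not_le_iff_exists.1 fun hle => ?_
      have := card_le_of_le hle
      rw [← hA, hcard, card_gamma hq k (by omega) (by omega)] at this
      have := (Nat.pow_le_pow_iff_right hp.out.one_lt).1 this
      omega
    have hcomm : ⁅A, A⁆ ≤ γ[2 * k] := by
      have hsp : zpowers a ⊔ γ[k] = A := by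
        have := sup_zpowers hq (k := k - 1) (by omega) ha (by rwa [show k - 1 + 1 = k by omega])
        rwa [show k - 1 + 1 = k by omega] at this
      refine (commutator_mono hsp.ge le_rfl).trans (commutator_sup_le ?_ ?_)
      · rw [commutator_comm]
        refine (commutator_mono hsp.ge le_rfl).trans (commutator_sup_le ?_ ?_)
        · rw [commutator_le]
          rintro _ ⟨i, rfl⟩ _ ⟨j, rfl⟩
          rw [commutatorElement_eq_one_iff_mul_comm.2 ((Commute.refl a).zpow_zpow i j).eq]
          exact one_mem _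
        · exact (commutator_mono le_rfl (zpowers_le.2 ha)).trans (commutator_lcs_mem (by omega))
      · exact commutator_lcs_mem (by omega)
    rw [gamma_eq_bot hq (by omega), le_bot_iff, commutator_eq_bot_iff_le_centralizer] at hcomm
    have h1 := rank_section hr (QuotientGroup.mk' (γ[2 * k] : Subgroup X))
      (QuotientGroup.mk'_surjective _) A
      (fun a ha b hb => mem_centralizer_iff.1 (hcomm hb) a ha) hexp
    rw [hcard] at h1
    have := (Nat.pow_le_pow_iff_right hp.out.one_lt).1 h1
    omega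


/-- Let p be a prime and S a finite p-group of order pⁿ (n ≥ 2) of maximal nilpotency class n − 1 whose sectional p-rank is exactly k (every section has p-rank at most k, and some section has p-rank k). If p ≥ k + 2 then the order of S is at most p^(2k). -/
theorem result {S : Type*} [Group S] [Finite S] (p : ℕ) [Fact p.Prime] (hS : IsPGroup p S) [Group.IsNilpotent S]
    (n : ℕ) (hn : 2 ≤ n) (hcard : Nat.card S = p ^ n) (hmax : Group.nilpotencyClass S = n - 1)
    (k : ℕ) (hk : 1 ≤ k) (hsr : Cfsg.SectionalPRankLE p k S ∧ ¬ Cfsg.SectionalPRankLE p (k - 1) S)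
    (hpk : k + 2 ≤ p) : Nat.card S ≤ p ^ (2 * k) := by
  rcases Nat.lt_or_ge n 3 with hn3 | hn3
  · rw [hcard]
    exact Nat.pow_le_pow_right (Fact.out : p.Prime).pos (by omega)
  · rw [hcard]
    exact Nat.pow_le_pow_right (Fact.out : p.Prime).pos
      (bound (Cfsg.Lib.PGroup.MaxClass.isMax_of_class hn3 hcard hmax) hk hpk hsr.1)

end Cfsg.Agent.S3806
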