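import Cfsg.Statements.S3807
import Cfsg.Agent.Lib.PGroup.AbelianIndexP
-- import your own Cfsg.Agent.* helpers here

set_option autoImplicit false
open Cfsg

namespace Cfsg.Agent.S3807

open scoped commutatorElement

theorem exp_quot {S : Type*} [Group S] [Finite S] {p : ℕ} [Fact p.Prime]
    (hna : ¬ IsMulCommutative S) (hV : Nat.card (S ⧸ Subgroup.center S) = p ^ 2) :
    ∀ v : S ⧸ Subgroup.center S, v ^ p = 1 := by
  intro v
  have hd := orderOf_dvd_natCard v
  rw [hV] at hd
  obtain ⟨k, hk, hk'⟩ := (Nat.dvd_prime_pow Fact.out).mp hd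
  rcases (by omega : k ≤ 1 ∨ k = 2) with h | h
  · rw [← orderOf_dvd_iff_pow_eq_one, hk']
    calc p ^ k ∣ p ^ 1 := pow_dvd_pow p h
      _ = p := pow_one p
  · exfalso
    apply hna
    have : IsCyclic (S ⧸ Subgroup.center S) := isCyclic_of_orderOf_eq_card v (by rw [hk', h, hV])
    exact isMulCommutative_of_isCyclic_quotient_center_self S

theorem card_derived_le {S : Type*} [Group S] [Finite S] {p : ℕ} [Fact p.Prime] (hS : IsPGroup p S)
    (hna : ¬ IsMulCommutative S) (A B : Subgroup S) [IsMulCommutative A] [IsMulCommutative B]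
    (hAi : A.index = p) (hBi : B.index = p) (hne : B ≠ A) : Nat.card (commutator S) ≤ p := by
  have hle : ¬ B ≤ A := fun h => by
    rcases (Cfsg.Lib.PGroup.isCoatom_of_index_prime hBi).le_iff.mp h with h' | h'
    · exact (Cfsg.Lib.PGroup.isCoatom_of_index_prime hAi).1 h'
    · exact hne h'.symm
  have hsup : A ⊔ B = ⊤ :=
    (Cfsg.Lib.PGroup.isCoatom_of_index_prime hAi).2 _ (lt_of_le_of_ne le_sup_left fun h =>
      hle (h ▸ le_sup_right))
  have hAB : A ⊓ B ≤ Subgroup.center S := by
    intro x hx
    rw [Subgroup.mem_center_iff]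
    intro g
    have : (⊤ : Subgroup S) ≤ Subgroup.centralizer {x} := by
      rw [← hsup]
      refine sup_le ?_ ?_ <;> intro y hy <;> rw [Subgroup.mem_centralizer_iff] <;>
        simp only [Set.mem_singleton_iff, forall_eq]
      · exact setLike_mul_comm hx.1 hy
      · exact setLike_mul_comm hx.2 hy
    exact (Subgroup.mem_centralizer_iff.mp (this (Subgroup.mem_top g)) x rfl).symm
  have h := Subgroup.index_dvd_of_le hAB
  rw [Cfsg.Lib.PGroup.index_center_of_abelian_index hS hna hAi] at h
  have h2 := (Nat.le_of_dvd (Nat.pos_of_ne_zero Subgroup.index_ne_zero_of_finite) h).trans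
    Subgroup.index_inf_le
  rw [hAi, hBi] at h2
  exact Nat.le_of_mul_le_mul_left h2 (Fact.out : p.Prime).pos


/-- Let S be a non-abelian finite p-group with an abelian subgroup A of index p. Then [S : Z(S)] = p·#[S,S], and either [S,S] has order p, S/Z(S) is elementary abelian of order p², and S has exactly p + 1 abelian subgroups of index p; or [S,S] has order at least p² and A is the only abelian subgroup of index p in S. -/
theorem result {S : Type*} [Group S] [Finite S] (p : ℕ) [Fact p.Prime] (hS : IsPGroup p S) (hna : ¬ IsMulCommutative S)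
    (A : Subgroup S) (hA : IsMulCommutative ↥A) (hAi : A.index = p) :
    (Subgroup.center S).index = p * Nat.card (commutator S) ∧
      ((Nat.card (commutator S) = p ∧ Cfsg.IsElementaryAbelian p (⊤ : Subgroup (S ⧸ Subgroup.center S)) ∧
          Nat.card (S ⧸ Subgroup.center S) = p ^ 2 ∧
          Nat.card {B : Subgroup S // IsMulCommutative ↥B ∧ B.index = p} = p + 1) ∨
        (p ^ 2 ≤ Nat.card (commutator S) ∧ ∀ B : Subgroup S, IsMulCommutative ↥B → B.index = p → B = A)) := by
  classical
  have := hA
  have hidx := Cfsg.Lib.PGroup.index_center_of_abelian_index hS hna hAi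
  refine ⟨hidx, ?_⟩
  have hne : Nat.card (commutator S) ≠ 1 := fun h => hna ⟨⟨fun a b => by
    have h1 : ⁅a, b⁆ ∈ commutator S :=
      Subgroup.commutator_mem_commutator (Subgroup.mem_top _) (Subgroup.mem_top _)
    rw [Subgroup.eq_bot_of_card_eq _ h, Subgroup.mem_bot] at h1
    exact commutatorElement_eq_one_iff_mul_comm.mp h1⟩⟩
  obtain ⟨n, hn⟩ := IsPGroup.iff_card.mp (hS.to_subgroup (commutator S))
  have hn0 : n ≠ 0 := fun h => hne (by rw [hn, h, pow_zero])
  rcases (by omega : n = 1 ∨ 2 ≤ n) with h1 | h1
  · left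
    have hc : Nat.card (commutator S) = p := by rw [hn, h1, pow_one]
    have hV : Nat.card (S ⧸ Subgroup.center S) = p ^ 2 := by
      rw [← Subgroup.index_eq_card, hidx, hc, pow_two]
    have hexp := exp_quot hna hV
    have hcomm : IsMulCommutative (S ⧸ Subgroup.center S) :=
      (IsPGroup.isMulCommutative_of_card_eq_prime_sq hV)
    refine ⟨hc, ⟨inferInstance, fun a _ => hexp a⟩, hV, ?_⟩
    rw [← Cfsg.Lib.PGroup.card_subgroups_order_p hV hexp]
    have hsurj := QuotientGroup.mk'_surjective (Subgroup.center S)
    have hZ : ∀ B : Subgroup S, IsMulCommutative B → B.index = p → Subgroup.center S ≤ B :=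
      fun B hB hBi => Cfsg.Lib.PGroup.center_le_of_abelian_index hna hBi
    have hback : ∀ B : Subgroup S, IsMulCommutative B → B.index = p →
        (B.map (QuotientGroup.mk' (Subgroup.center S))).comap (QuotientGroup.mk' _) = B := by
      intro B hB hBi
      rw [Subgroup.comap_map_eq, QuotientGroup.ker_mk', sup_eq_left]
      exact hZ B hB hBi
    refine Nat.card_congr
      { toFun := fun B => ⟨B.1.map (QuotientGroup.mk' (Subgroup.center S)), ?_⟩
        invFun := fun W => ⟨W.1.comap (QuotientGroup.mk' (Subgroup.center S)), ?_, ?_⟩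
        left_inv := fun B => Subtype.ext (hback B.1 B.2.1 B.2.2)
        right_inv := fun W => Subtype.ext (Subgroup.map_comap_eq_self_of_surjective hsurj W.1) }
    · have h2 := Subgroup.card_mul_index (B.1.map (QuotientGroup.mk' (Subgroup.center S)))
      rw [← Subgroup.index_comap_of_surjective _ hsurj, hback B.1 B.2.1 B.2.2, B.2.2, hV,
        pow_two] at h2
      exact Nat.eq_of_mul_eq_mul_right (Fact.out : p.Prime).pos h2
    · have : IsCyclic W.1 := isCyclic_of_prime_card W.2
      let g := ((QuotientGroup.mk' (Subgroup.center S)).subgroupComap W.1)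
      refine g.isMulCommutative_of_isCyclic_of_ker_le_center ?_
      intro x hx
      have hxZ : (x : S) ∈ Subgroup.center S := by
        rw [MonoidHom.mem_ker] at hx
        exact (QuotientGroup.eq_one_iff _).mp (congrArg Subtype.val hx)
      exact Subgroup.mem_center_iff.mpr fun y => Subtype.ext (Subgroup.mem_center_iff.mp hxZ y)
    · rw [Subgroup.index_comap_of_surjective _ hsurj]
      have h2 := Subgroup.card_mul_index W.1
      rw [W.2, hV, pow_two] at h2
      exact Nat.eq_of_mul_eq_mul_left (Fact.out : p.Prime).pos h2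
  · right
    refine ⟨hn ▸ Nat.pow_le_pow_right (Fact.out : p.Prime).pos h1, fun B hB hBi => ?_⟩
    by_contra hne'
    have h2 := card_derived_le hS hna A B hAi hBi hne'
    rw [hn] at h2
    have h3 := Nat.pow_le_pow_right (Fact.out : p.Prime).pos h1
    have := (Fact.out : p.Prime).one_lt
    nlinarith

end Cfsg.Agent.S3807
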