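import Cfsg.Statements.S3808
import Cfsg.Agent.Lib.PGroup.AbelianIndexP
-- import your own Cfsg.Agent.* helpers here

set_option autoImplicit false
open Cfsg

namespace Cfsg.Agent.S3808

theorem center_map_le {S : Type*} [Group S] [Finite S] {p : ℕ} [Fact p.Prime] (hS : IsPGroup p S)
    {Q : Subgroup S} [Q.Normal] (hQ : Nat.card (Subgroup.center ↥Q) = p) :
    (Subgroup.center ↥Q).map Q.subtype ≤ Subgroup.center S := by
  set Z := (Subgroup.center ↥Q).map Q.subtype with hZ
  have : Z.Normal := by rw [hZ]; infer_instance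
  have hcard : Nat.card Z = p := by
    rw [hZ, Subgroup.card_map_of_injective Q.subtype_injective, hQ]
  have hne : Z ≠ ⊥ := fun h => by
    rw [h, Subgroup.card_bot] at hcard
    exact (Fact.out : p.Prime).ne_one hcard.symm
  have hlt := Cfsg.Lib.PGroup.commutator_lt_of_isPGroup (hS.to_subgroup Z) (hS.to_subgroup ⊤)
    (by rw [Subgroup.normalizer_eq_top]) hne
  have hbot : ⁅Z, (⊤ : Subgroup S)⁆ = ⊥ := by
    rcases (Nat.dvd_prime Fact.out).mp (hcard ▸ Subgroup.card_dvd_of_le hlt.le) with h | h
    · exact Subgroup.eq_bot_of_card_eq _ h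
    · exact absurd (Subgroup.eq_of_le_of_card_ge hlt.le (by rw [h, hcard])) hlt.ne
  simpa [Subgroup.centralizer_univ] using Subgroup.commutator_eq_bot_iff_le_centralizer.mp hbot


/-- Let S be a finite p-group with an extraspecial subgroup Q of index p. Then either Z(S) = Z(Q), or S = Q·Z(S) and Z(S) has order p². -/
theorem result {S : Type*} [Group S] [Finite S] (p : ℕ) [Fact p.Prime] (hS : IsPGroup p S) (Q : Subgroup S) (hQ : Cfsg.IsExtraspecial p ↥Q) (hQi : Q.index = p) :
    Subgroup.center S = (Subgroup.center ↥Q).map Q.subtype ∨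
      (Q ⊔ Subgroup.center S = ⊤ ∧ Nat.card (Subgroup.center S) = p ^ 2) := by
  classical
  have : Q.Normal := Cfsg.Lib.PGroup.normal_of_index_eq hS hQi
  set Z := (Subgroup.center ↥Q).map Q.subtype with hZ
  have hle : Z ≤ Subgroup.center S := center_map_le hS hQ.2
  have hinf : Subgroup.center S ⊓ Q = Z := by
    refine le_antisymm (fun x hx => ⟨⟨x, hx.2⟩, Subgroup.mem_center_iff.mpr fun y =>
      Subtype.ext (Subgroup.mem_center_iff.mp hx.1 y), rfl⟩)
      (le_inf hle (Subgroup.map_subtype_le _))
  by_cases h : Subgroup.center S ≤ Q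
  · left
    rw [← hinf, inf_eq_left.mpr h]
  · right
    have htop : Q ⊔ Subgroup.center S = ⊤ :=
      (Cfsg.Lib.PGroup.isCoatom_of_index_prime hQi).2 _ (lt_of_le_of_ne le_sup_left fun h' =>
        h (h' ▸ le_sup_right))
    refine ⟨htop, ?_⟩
    have h1 : Q.relIndex (Subgroup.center S) = p := by
      rw [← Subgroup.relIndex_sup_right (H := Subgroup.center S), sup_comm, htop,
        Subgroup.relIndex_top_right, hQi]
    have h2 : Nat.card Z * Q.relIndex (Subgroup.center S) = Nat.card (Subgroup.center S) := by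
      rw [← Subgroup.inf_relIndex_left (Subgroup.center S) Q, hinf,
        ← Subgroup.relIndex_bot_left, ← Subgroup.relIndex_bot_left]
      exact Subgroup.relIndex_mul_relIndex _ _ _ bot_le hle
    rw [← h2, h1, hZ, Subgroup.card_map_of_injective Q.subtype_injective, hQ.2, pow_two]

end Cfsg.Agent.S3808
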