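import Cfsg.Statements.S3809
import Cfsg.Agent.Lib.PGroup.AbelianIndexP
import Cfsg.Agent.S0095
-- import your own Cfsg.Agent.* helpers here

set_option autoImplicit false
open Cfsg

namespace Cfsg.Agent.S3809


/-- Let S be a finite p-group with an extraspecial subgroup of index p. Then S has order p^(2+2n) for some n ≥ 1, derived length at most 3, and exponent dividing p³. -/
theorem result {S : Type*} [Group S] [Finite S] (p : ℕ) [Fact p.Prime] (hS : IsPGroup p S) (Q : Subgroup S) (hQ : Cfsg.IsExtraspecial p ↥Q) (hQi : Q.index = p) :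
    (∃ n : ℕ, 1 ≤ n ∧ Nat.card S = p ^ (2 + 2 * n)) ∧ derivedSeries S 3 = ⊥ ∧ ∀ x : S, x ^ (p ^ 3) = 1 := by
  classical
  have hn : Q.Normal := Cfsg.Lib.PGroup.normal_of_index_eq hS hQi
  obtain ⟨n, hn1, hcard⟩ := Cfsg.Agent.S0095.result hQ
  refine ⟨⟨n, hn1, ?_⟩, ?_, ?_⟩
  · rw [← Subgroup.card_mul_index Q, hcard, hQi, show 2 + 2 * n = 2 * n + 1 + 1 by ring, ← pow_succ]
  · have h1 : derivedSeries S 1 ≤ Q := by
      rw [derivedSeries_one]
      exact Cfsg.Lib.PGroup.commutator_le_of_isCoatom hS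
        (Cfsg.Lib.PGroup.isCoatom_of_index_prime hQi)
    have h2 : derivedSeries S 2 ≤ (Subgroup.center ↥Q).map Q.subtype := by
      rw [← hQ.1.2.2, commutator_def, Subgroup.map_commutator, ← MonoidHom.range_eq_map,
        Subgroup.range_subtype, derivedSeries_succ]
      exact Subgroup.commutator_mono h1 h1
    rw [derivedSeries_succ, Subgroup.commutator_eq_bot_iff_le_centralizer]
    refine h2.trans ((?_ : _ ≤ Subgroup.centralizer (((Subgroup.center ↥Q).map Q.subtype : Subgroup S) : Set S)).trans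
      (Subgroup.centralizer_le h2))
    exact Subgroup.le_centralizer _
  · intro x
    have hx : x ^ p ∈ Q := Cfsg.Lib.PGroup.pow_mem_of_isCoatom hS
      (Cfsg.Lib.PGroup.isCoatom_of_index_prime hQi) x
    have h1 := Cfsg.Lib.PGroup.pow_mem_frattini hQ.1.1 (⟨x ^ p, hx⟩ : Q)
    rw [hQ.1.2.1] at h1
    have h2 : (⟨_, h1⟩ : Subgroup.center ↥Q) ^ p = 1 :=
      by conv_lhs => arg 2; rw [← hQ.2]
         exact pow_card_eq_one'
    have h3 := congrArg (fun z : Subgroup.center ↥Q => ((z : Q) : S)) h2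
    simp only [SubmonoidClass.coe_pow, OneMemClass.coe_one] at h3
    rw [← pow_mul, ← pow_mul] at h3
    rw [show p ^ 3 = p * (p * p) by ring]
    exact h3

end Cfsg.Agent.S3809
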