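import Cfsg.Statements.S3810
import Cfsg.Agent.Lib.PGroup.AbelianIndexP
import Cfsg.Agent.S0095
import Cfsg.Agent.Lib.Solv.Nilpotent
-- import your own Cfsg.Agent.* helpers here

set_option autoImplicit false
open Cfsg

namespace Cfsg.Agent.S3810

open scoped commutatorElement

theorem nonabelian {Q : Type*} [Group Q] {p : ℕ} [Fact p.Prime] (hQ : Cfsg.IsExtraspecial p Q) :
    ¬ IsMulCommutative Q := by
  intro h
  have h1 : commutator Q = ⊥ := by
    rw [commutator_def, Subgroup.commutator_eq_bot_iff_le_centralizer]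
    intro a _
    rw [Subgroup.mem_centralizer_iff]
    exact fun b _ => h.is_comm.comm b a
  have := hQ.2
  rw [← hQ.1.2.2, h1, Subgroup.card_bot] at this
  exact (Fact.out : p.Prime).ne_one this.symm


/-- Let S be a finite p-group with an extraspecial subgroup of index p. Then S has an abelian subgroup of index p if and only if S has order p⁴. -/
theorem result {S : Type*} [Group S] [Finite S] (p : ℕ) [Fact p.Prime] (hS : IsPGroup p S) (Q : Subgroup S) (hQ : Cfsg.IsExtraspecial p ↥Q) (hQi : Q.index = p) :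
    (∃ A : Subgroup S, IsMulCommutative ↥A ∧ A.index = p) ↔ Nat.card S = p ^ 4 := by
  classical
  have hn : Q.Normal := Cfsg.Lib.PGroup.normal_of_index_eq hS hQi
  have hna := nonabelian hQ
  constructor
  · rintro ⟨A, hA, hAi⟩
    have := hA
    have hne : ¬ Q ≤ A := fun h => hna ⟨⟨fun a b => Subtype.ext (setLike_mul_comm (h a.2) (h b.2))⟩⟩
    have hAn : A.Normal := Cfsg.Lib.PGroup.normal_of_index_eq hS hAi
    have htop : A ⊔ Q = ⊤ := (Cfsg.Lib.PGroup.isCoatom_of_index_prime hAi).2 _
      (lt_of_le_of_ne le_sup_left fun h' => hne (h' ▸ le_sup_right))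
    have hi : (A.subgroupOf Q).index = p := by
      change A.relIndex Q = p
      rw [← Subgroup.relIndex_sup_right (H := Q), sup_comm, htop, Subgroup.relIndex_top_right, hAi]
    have : IsMulCommutative (A.subgroupOf Q) :=
      ⟨⟨fun a b => Subtype.ext (Subtype.ext (setLike_mul_comm (Subgroup.mem_subgroupOf.mp a.2) (Subgroup.mem_subgroupOf.mp b.2)))⟩⟩
    have h1 := Cfsg.Lib.PGroup.index_center_of_abelian_index hQ.1.1 hna hi
    rw [hQ.1.2.2, hQ.2] at h1
    have h2 := Subgroup.card_mul_index (Subgroup.center ↥Q)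
    rw [h1, hQ.2] at h2
    rw [← Subgroup.card_mul_index Q, ← h2, hQi]
    ring
  · intro hcard
    have hQc : Nat.card Q = p ^ 3 := by
      have := Subgroup.card_mul_index Q
      rw [hQi, hcard] at this
      exact Nat.eq_of_mul_eq_mul_right (Fact.out : p.Prime).pos (this.trans (by ring))
    set Z := (Subgroup.center ↥Q).map Q.subtype with hZdef
    have hZn : Z.Normal := by rw [hZdef]; infer_instance
    have hZc : Nat.card Z = p := by
      rw [hZdef, Subgroup.card_map_of_injective Q.subtype_injective, hQ.2]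
    have hZQ : Z ≤ Q := Subgroup.map_subtype_le _
    have hnil : Group.IsNilpotent (S ⧸ Z) := (hS.to_quotient Z).isNilpotent
    have hf := QuotientGroup.mk'_surjective Z
    set W := Q.map (QuotientGroup.mk' Z) with hW
    have : W.Normal := hn.map _ hf
    have hWne : W ≠ ⊥ := by
      rw [hW, Ne, Subgroup.map_eq_bot_iff, QuotientGroup.ker_mk']
      intro h
      have := Subgroup.card_dvd_of_le h
      rw [hQc, hZc] at this
      have h3 := Nat.le_of_dvd (Fact.out : p.Prime).pos this
      have h4 : p ^ 1 < p ^ 3 := Nat.pow_lt_pow_right (Fact.out : p.Prime).one_lt (by norm_num)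
      rw [pow_one] at h4
      omega
    obtain ⟨⟨w, hwW, hwZ⟩, hw1⟩ :=
      Subgroup.ne_bot_iff_exists_ne_one.1 (Cfsg.Lib.Solv.inf_center_ne_bot_of_isNilpotent hWne)
    have hw1' : w ≠ 1 := fun h => hw1 (Subtype.ext h)
    obtain ⟨b, hb, rfl⟩ := hwW
    have hbZ : b ∉ Z := fun h => hw1' ((QuotientGroup.eq_one_iff b).mpr h)
    have hbc : ∀ g : S, ⁅g, b⁆ ∈ Z := fun g => by
      rw [← QuotientGroup.eq_one_iff, ← QuotientGroup.mk'_apply, map_commutatorElement,
        commutatorElement_eq_one_iff_mul_comm]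
      exact Subgroup.mem_center_iff.mp hwZ _
    have hZcent : Z ≤ Subgroup.center S := by
      have hne : Z ≠ ⊥ := fun h => by
        rw [h, Subgroup.card_bot] at hZc
        exact (Fact.out : p.Prime).ne_one hZc.symm
      have hlt := Cfsg.Lib.PGroup.commutator_lt_of_isPGroup (hS.to_subgroup Z) (hS.to_subgroup ⊤)
        (by rw [Subgroup.normalizer_eq_top]) hne
      have hbot : ⁅Z, (⊤ : Subgroup S)⁆ = ⊥ := by
        rcases (Nat.dvd_prime Fact.out).mp (hZc ▸ Subgroup.card_dvd_of_le hlt.le) with h | h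
        · exact Subgroup.eq_bot_of_card_eq _ h
        · exact absurd (Subgroup.eq_of_le_of_card_ge hlt.le (by rw [h, hZc])) hlt.ne
      simpa [Subgroup.centralizer_univ] using Subgroup.commutator_eq_bot_iff_le_centralizer.mp hbot
    let f : S →* Z :=
      { toFun := fun g => ⟨⁅g, b⁆, hbc g⟩
        map_one' := Subtype.ext (by simp [commutatorElement_def])
        map_mul' := fun g h => Subtype.ext (by
          change ⁅g * h, b⁆ = ⁅g, b⁆ * ⁅h, b⁆
          have h1 := Subgroup.mem_center_iff.mp (hZcent (hbc h)) g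
          have h2 := Subgroup.mem_center_iff.mp (hZcent (hbc g)) ⁅h, b⁆
          calc ⁅g * h, b⁆ = g * ⁅h, b⁆ * g⁻¹ * ⁅g, b⁆ := by simp [commutatorElement_def, mul_assoc]
            _ = ⁅h, b⁆ * ⁅g, b⁆ := by rw [h1, mul_inv_cancel_right]
            _ = _ := h2) }
    have hfne : f.range ≠ ⊥ := by
      intro h
      apply hbZ
      refine ⟨⟨b, hb⟩, Subgroup.mem_center_iff.mpr fun y => Subtype.ext ?_, rfl⟩
      have : f y = 1 := (Subgroup.eq_bot_iff_forall _).mp h _ ⟨_, rfl⟩
      exact commutatorElement_eq_one_iff_mul_comm.mp (congrArg Subtype.val this)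
    have : Fact (Nat.card Z).Prime := ⟨hZc ▸ Fact.out⟩
    have htop := (Subgroup.eq_bot_or_eq_top_of_prime_card f.range).resolve_left hfne
    have hk : f.ker.index = p := by rw [Subgroup.index_ker, htop, Subgroup.card_top, hZc]
    refine ⟨f.ker, ?_, hk⟩
    -- the kernel has a central subgroup of index `p`
    have hbk : b ∈ f.ker := MonoidHom.mem_ker.mpr (Subtype.ext (commutatorElement_self b))
    have hZk : Z ≤ f.ker := fun z hz => MonoidHom.mem_ker.mpr (Subtype.ext
      (commutatorElement_eq_one_iff_mul_comm.mpr (Subgroup.mem_center_iff.mp (hZcent hz) b).symm))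
    have hkc : Nat.card f.ker = p ^ 3 := by
      have := Subgroup.card_mul_index f.ker
      rw [hk, hcard] at this
      exact Nat.eq_of_mul_eq_mul_right (Fact.out : p.Prime).pos (this.trans (by ring))
    set C := Subgroup.center ↥f.ker with hC
    have hbC : (⟨b, hbk⟩ : f.ker) ∈ C := Subgroup.mem_center_iff.mpr fun y => Subtype.ext
      (commutatorElement_eq_one_iff_mul_comm.mp (congrArg Subtype.val (MonoidHom.mem_ker.mp y.2)))
    have hZC : Z.subgroupOf f.ker ≤ C := fun z hz => Subgroup.mem_center_iff.mpr fun y =>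
      Subtype.ext (Subgroup.mem_center_iff.mp (hZcent hz) y)
    have hlt : Z.subgroupOf f.ker < C := lt_of_le_of_ne hZC fun h => hbZ (h.ge hbC)
    obtain ⟨k, -, hk'⟩ := (Nat.dvd_prime_pow Fact.out).mp
      (hkc ▸ Subgroup.card_subgroup_dvd_card C)
    have hcard1 : Nat.card (Z.subgroupOf f.ker) = p ^ 1 := by
      rw [Nat.card_congr (Subgroup.subgroupOfEquivOfLe hZk).toEquiv, hZc, pow_one]
    have hk2 : 2 ≤ k := by
      by_contra hk2
      exact hlt.ne (Subgroup.eq_of_le_of_card_ge hlt.le (by
        rw [hcard1, hk']; exact Nat.pow_le_pow_right (Fact.out : p.Prime).pos (by omega)))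
    have hidx : C.index ∣ p := by
      have h1 := Subgroup.card_mul_index C
      rw [hkc, hk'] at h1
      have h2 : p ^ 2 * C.index ∣ p ^ 2 * p := by
        rw [← pow_succ, ← h1]
        exact Nat.mul_dvd_mul_right (pow_dvd_pow p hk2) _
      exact (Nat.mul_dvd_mul_iff_left (pow_pos (Fact.out : p.Prime).pos 2)).mp h2
    have : IsCyclic (↥f.ker ⧸ C) := by
      rcases (Nat.dvd_prime Fact.out).mp hidx with h | h <;> rw [Subgroup.index_eq_card] at h
      · have : Subsingleton (↥f.ker ⧸ C) := (Nat.card_eq_one_iff_unique.mp h).1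
        exact isCyclic_of_subsingleton
      · exact isCyclic_of_prime_card h
    exact isMulCommutative_of_isCyclic_quotient_center_self _

end Cfsg.Agent.S3810
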