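import Cfsg.Statements.S3811
import Cfsg.Agent.Lib.PGroup.Basic
import Cfsg.Agent.Lib.Fusion.Alperin
-- import your own Cfsg.Agent.* helpers here

set_option autoImplicit false
open Cfsg

namespace Cfsg.Agent.S3811

open scoped commutatorElement
open Subgroup

/-- An abelian self-centralizing subgroup of index `p` in its normalizer. -/
def Hyp (p : ℕ) {P : Type*} [Group P] (E : Subgroup P) : Prop :=
  IsMulCommutative ↥E ∧ centralizer (E : Set P) ≤ E ∧ E.relIndex (normalizer (E : Set P)) = p

/-- The tower property of the overgroups of `E`. -/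
def Good (p : ℕ) {P : Type*} [Group P] (E : Subgroup P) : Prop :=
  ∀ K : Subgroup P, E ≤ K → K ≠ ⊤ → K.relIndex (normalizer (K : Set P)) = p ∧
    ∀ (i : ℕ) [Group.IsNilpotent ↥K], E.relIndex K = p ^ i → Group.nilpotencyClass ↥K = i + 1

universe u
variable {P : Type u} [Group P] [Finite P] {p : ℕ} [hp : Fact p.Prime]

omit [Finite P] in
theorem eq_of_prime_relIndex {A B C : Subgroup P} (hAB : A < B) (hBC : B ≤ C)
    (h : A.relIndex C = p) : B = C := by
  rw [← relIndex_mul_relIndex A B C hAB.le hBC] at h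
  have h1 : A.relIndex B ≠ 1 := fun h1 => hAB.not_ge (relIndex_eq_one.1 h1)
  have h2 : A.relIndex B = p :=
    (hp.out.eq_one_or_self_of_dvd _ ⟨_, h.symm⟩).resolve_left h1
  rw [h2] at h
  exact le_antisymm hBC (relIndex_eq_one.1 ((Nat.mul_eq_left hp.out.ne_zero).1 h))

theorem le_normalizer_of_prime (hP : IsPGroup p P) {A C : Subgroup P} (hAC : A ≤ C)
    (h : A.relIndex C = p) : C ≤ normalizer (A : Set P) := by
  have hlt : A < C := lt_of_le_of_ne hAC fun e => hp.out.one_lt.ne' (h ▸ e ▸ relIndex_self A)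
  have h2 := Cfsg.Lib.Fusion.lt_inf_normalizer (hP.to_subgroup C) hlt
  exact inf_eq_left.1 (eq_of_prime_relIndex h2 inf_le_left h)

theorem normalizer_le_of_lt (hP : IsPGroup p P) {J L : Subgroup P} (hJL : J < L)
    (h : J.relIndex (normalizer (J : Set P)) = p) : normalizer (J : Set P) ≤ L := by
  have h2 := Cfsg.Lib.Fusion.lt_inf_normalizer (hP.to_subgroup L) hJL
  exact inf_eq_right.1 (eq_of_prime_relIndex h2 inf_le_right h)

theorem lt_normalizer (hP : IsPGroup p P) {K : Subgroup P} (hK : K ≠ ⊤) :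
    K < normalizer (K : Set P) := by
  have := hP.isNilpotent
  exact Group.normalizerCondition_of_isNilpotent K (lt_top_iff_ne_top.2 hK)

omit [Finite P] in
theorem comm_le_of_prime {A C : Subgroup P} (hn : C ≤ normalizer (A : Set P)) (hAC : A ≤ C)
    (h : A.relIndex C = p) : ⁅C, C⁆ ≤ A := by
  haveI : (A.subgroupOf C).Normal := (normal_subgroupOf_iff_le_normalizer hAC).2 hn
  haveI : IsCyclic (↥C ⧸ A.subgroupOf C) :=
    isCyclic_of_prime_card (p := p) (by rw [← Subgroup.index_eq_card]; exact h)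
  have h2 : _root_.commutator ↥C ≤ A.subgroupOf C :=
    Subgroup.Normal.quotient_commutative_iff_commutator_le.mp inferInstance
  have h3 := Subgroup.map_mono (f := C.subtype) h2
  rw [_root_.commutator_def, Subgroup.map_commutator, ← MonoidHom.range_eq_map,
    Subgroup.range_subtype, map_subgroupOf_eq_of_le hAC] at h3
  exact h3

omit [Finite P] in
theorem relIndex_inf_of_prime {A B C : Subgroup P} (hn : C ≤ normalizer (A : Set P))
    (hAC : A ≤ C) (hBC : B ≤ C) (h : A.relIndex C = p) (hBA : ¬ B ≤ A) : A.relIndex B = p := by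
  haveI : (A.subgroupOf C).Normal := (normal_subgroupOf_iff_le_normalizer hAC).2 hn
  have h1 := relIndex_dvd_index_of_normal (A.subgroupOf C) (B.subgroupOf C)
  rw [relIndex_subgroupOf hBC] at h1
  exact (hp.out.eq_one_or_self_of_dvd _ (h1.trans (dvd_of_eq h))).resolve_left
    fun e => hBA (relIndex_eq_one.1 e)

omit [Finite P] in
theorem conj_mem_iff {H : Subgroup P} {g : P} (hg : g ∈ normalizer (H : Set P)) (x : P) :
    g * x * g⁻¹ ∈ H ↔ x ∈ H :=
  (mem_normalizer_iff.1 hg x).symm

omit [Finite P] in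
theorem map_conj_eq {H : Subgroup P} {g : P} (hg : g ∈ normalizer (H : Set P)) :
    H.map (MulAut.conj g).toMonoidHom = H := by
  ext x
  constructor
  · rintro ⟨y, hy, rfl⟩
    exact (conj_mem_iff hg y).2 hy
  · intro hx
    refine ⟨g⁻¹ * x * g, ?_, by simp [mul_assoc]⟩
    exact (conj_mem_iff hg _).1 (by simpa [mul_assoc] using hx)

omit [Finite P] in
theorem mem_map_conj {H : Subgroup P} {g x : P} :
    x ∈ H.map (MulAut.conj g).toMonoidHom ↔ g⁻¹ * x * g ∈ H := by
  constructor
  · rintro ⟨y, hy, rfl⟩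
    simpa [mul_assoc] using hy
  · intro hx
    exact ⟨g⁻¹ * x * g, hx, by simp [mul_assoc]⟩

theorem mem_normalizer_of_map_le {H : Subgroup P} {g : P}
    (h : H.map (MulAut.conj g).toMonoidHom ≤ H) : g ∈ normalizer (H : Set P) := by
  have he : H.map (MulAut.conj g).toMonoidHom = H := eq_of_le_of_card_ge h
    (le_of_eq (card_map_of_injective (MulAut.conj g).injective).symm)
  refine mem_normalizer_iff.2 fun x => ⟨fun hx => h ⟨x, hx, rfl⟩, fun hx => ?_⟩
  have hx' : g * x * g⁻¹ ∈ H.map (MulAut.conj g).toMonoidHom := by rw [he]; exact hx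
  simpa [mul_assoc] using mem_map_conj.1 hx'

omit [Finite P] in
theorem comm_mem_closure {R : Subgroup P} {s : Set P} (hR : R ≤ centralizer (closure s : Set P))
    {a : P} (h : ∀ b ∈ s, ⁅a, b⁆ ∈ R) : ∀ b ∈ closure s, ⁅a, b⁆ ∈ R := by
  intro b hb
  induction hb using closure_induction with
  | mem x hx => exact h x hx
  | one => simp
  | mul x y hx _ ix iy =>
    have e : ⁅a, x * y⁆ = ⁅a, x⁆ * (x * ⁅a, y⁆ * x⁻¹) := by
      simp [commutatorElement_def, mul_assoc]
    rw [e, show x * ⁅a, y⁆ * x⁻¹ = ⁅a, y⁆ by rw [hR iy x hx, mul_inv_cancel_right]]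
    exact R.mul_mem ix iy
  | inv x hx ix =>
    have e : ⁅a, x⁻¹⁆ = x⁻¹ * (⁅a, x⁆)⁻¹ * x := by
      simp [commutatorElement_def, mul_assoc]
    rw [e, hR (R.inv_mem ix) x⁻¹ (inv_mem hx), mul_assoc, inv_mul_cancel, mul_one]
    exact R.inv_mem ix

omit [Finite P] in
theorem comm_gens {R : Subgroup P} {s : Set P} (hR : R ≤ centralizer (closure s : Set P))
    (h : ∀ a ∈ s, ∀ b ∈ s, ⁅a, b⁆ ∈ R) : ⁅closure s, closure s⁆ ≤ R := by
  rw [commutator_le]
  intro a ha b hb
  refine comm_mem_closure hR (fun x hx => ?_) b hb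
  rw [← commutatorElement_inv]
  exact R.inv_mem (comm_mem_closure hR (h x hx) a ha)

theorem descend (hP : IsPGroup p P) {C X : Subgroup P} (hC : ¬ C ≤ X) :
    ∃ D : Subgroup P, ¬ D ≤ X ∧ D ≤ C ∧
      (∀ g ∈ normalizer (C : Set P), g ∈ normalizer (D : Set P)) ∧
      ∀ d ∈ D, ∀ m : P, ⁅d, m⁆ ∈ C → ⁅d, m⁆ ∈ X := by
  classical
  obtain ⟨n, hn⟩ := Subgroup.nilpotent_iff_lowerCentralSeries.mp hP.isNilpotent
  have hex : ∃ n, C ⊓ (⊤ : Subgroup P).lowerCentralSeries n ≤ X := ⟨n, by rw [hn]; simp⟩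
  obtain ⟨j, hj⟩ : ∃ j, Nat.find hex = j + 1 := by
    refine ⟨Nat.find hex - 1, (Nat.succ_pred_eq_of_ne_zero fun h0 => hC ?_).symm⟩
    have := Nat.find_spec hex
    rw [h0, Subgroup.lowerCentralSeries_zero, inf_top_eq] at this
    exact this
  refine ⟨C ⊓ (⊤ : Subgroup P).lowerCentralSeries j, Nat.find_min hex (by omega), inf_le_left,
    fun g hg => mem_normalizer_iff.2 fun x => ?_, fun d hd m hdm => ?_⟩
  · have hL : (⊤ : Subgroup P).lowerCentralSeries j |>.Normal := inferInstance
    simp only [mem_inf]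
    rw [mem_normalizer_iff.1 hg x]
    refine and_congr_right fun _ => ⟨fun hx => hL.conj_mem x hx g, fun hx => ?_⟩
    simpa [mul_assoc] using hL.conj_mem _ hx g⁻¹
  · have := Nat.find_spec hex
    rw [hj] at this
    refine this ⟨hdm, ?_⟩
    rw [Subgroup.lowerCentralSeries_succ]
    exact commutator_mem_commutator hd.2 (mem_top m)

theorem le_centralizer_of_card (hP : IsPGroup p P) {W K : Subgroup P} (hW : Nat.card ↥W = p)
    (hK : K ≤ normalizer (W : Set P)) : W ≤ centralizer (K : Set P) := by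
  have hne : ¬ W ≤ ⊥ := fun h => hp.out.one_lt.ne' (by rw [← hW, le_bot_iff.1 h, card_bot])
  obtain ⟨D, hD, hDW, -, hDc⟩ := descend hP hne
  have he : D = W := by
    refine eq_of_le_of_card_ge hDW ?_
    rw [hW]
    refine ((hp.out.eq_one_or_self_of_dvd _ (hW ▸ card_dvd_of_le hDW)).resolve_left
      fun h => hD ?_).ge
    rw [card_eq_one.1 h]
  intro w hw
  rw [mem_centralizer_iff]
  intro k hk
  have h1 : ⁅w, k⁆ ∈ W := by
    have e : ⁅w, k⁆ = w * (k * w⁻¹ * k⁻¹) := by simp [commutatorElement_def, mul_assoc]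
    rw [e]
    exact W.mul_mem hw ((conj_mem_iff (hK hk) _).2 (W.inv_mem hw))
  exact (commutatorElement_eq_one_iff_mul_comm.1
    (mem_bot.1 (hDc w (he ▸ hw) k h1))).symm

theorem second_step (hP : IsPGroup p P) {E N : Subgroup P} (hE : Hyp p E)
    (hNE : N = normalizer (E : Set P)) (hN : N ≠ ⊤) :
    N.relIndex (normalizer (N : Set P)) = p ∧ Nat.card ↥⁅N, N⁆ = p ∧
      ⁅N, N⁆ ≤ centralizer (N : Set P) := by
  obtain ⟨hab, hC, hEp⟩ := hE
  rw [← hNE] at hEp
  have hEN : E ≤ N := hNE ▸ le_normalizer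
  have hnE : N ≤ normalizer (E : Set P) := hNE.le
  have hcomm : ∀ a ∈ E, ∀ b ∈ E, a * b = b * a := fun a ha b hb =>
    congrArg Subtype.val (hab.is_comm.comm ⟨a, ha⟩ ⟨b, hb⟩)
  have hW_E : ⁅N, N⁆ ≤ E := comm_le_of_prime hnE hEN hEp
  have hltN := lt_normalizer hP hN
  -- intersections of `E` with its distinct conjugates inside `N`
  have hconj : ∀ g ∈ normalizer (N : Set P), g ∉ N →
      ⁅N, N⁆ ≤ centralizer (N : Set P) ∧
      (N ⊓ centralizer (N : Set P)).relIndex E = p ∧
      ∀ x ∈ E, g * x * g⁻¹ ∈ E → g * x * g⁻¹ ∈ N ⊓ centralizer (N : Set P) := by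
    intro g hg hgN
    set A := E.map (MulAut.conj g).toMonoidHom with hA
    have hAN : A ≤ N := by
      rw [← map_conj_eq hg]; exact map_mono hEN
    have hAp : A.relIndex N = p := by
      rw [hA, ← map_conj_eq hg, relIndex_map_map_of_injective _ _ (MulAut.conj g).injective, hEp]
    have hAn := le_normalizer_of_prime hP hAN hAp
    have hAE : ¬ A ≤ E := fun h => hgN (hNE ▸ mem_normalizer_of_map_le h)
    have hcard : Nat.card ↥A = Nat.card ↥E := card_map_of_injective (MulAut.conj g).injective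
    have hEA : ¬ E ≤ A := fun h => hAE (eq_of_le_of_card_ge h hcard.le).ge
    have hsup : E ⊔ A = N :=
      eq_of_prime_relIndex (lt_of_le_of_ne le_sup_left fun e => hAE (le_sup_right.trans e.ge))
        (sup_le hEN hAN) hEp
    have hAcomm : ∀ a ∈ A, ∀ b ∈ A, a * b = b * a := by
      rintro _ ⟨a, ha, rfl⟩ _ ⟨b, hb, rfl⟩
      rw [← map_mul, ← map_mul, hcomm a ha b hb]
    have hEAZ : ∀ x ∈ E, x ∈ A → x ∈ centralizer (N : Set P) := by
      intro x hxE hxA
      have : E ⊔ A ≤ centralizer ({x} : Set P) := by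
        refine sup_le (fun e he => ?_) (fun a ha => ?_) <;>
          simp only [mem_centralizer_singleton_iff]
        exacts [hcomm e he x hxE, hAcomm a ha x hxA]
      rw [hsup] at this
      rw [mem_centralizer_iff]
      intro n hn
      exact mem_centralizer_singleton_iff.1 (this hn)
    have hZE : N ⊓ centralizer (N : Set P) ≤ E :=
      inf_le_right.trans ((centralizer_le hEN).trans hC)
    have hZA : N ⊓ centralizer (N : Set P) ≤ A := by
      intro z hz
      refine mem_map_conj.2 (hC ?_)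
      rw [mem_centralizer_iff]
      intro e he
      have h1 := mem_centralizer_iff.1 hz.2 _ (hAN ⟨e, he, rfl⟩)
      have h2 := congrArg (fun y => g⁻¹ * y * g) h1
      simpa [mul_assoc] using h2
    refine ⟨fun w hw => hEAZ w (hW_E hw) (comm_le_of_prime hAn hAN hAp hw), ?_, fun x hx hgx => ?_⟩
    · have : N ⊓ centralizer (N : Set P) = A ⊓ E :=
        le_antisymm (le_inf hZA hZE) fun x hx => ⟨hEN hx.2, hEAZ x hx.2 hx.1⟩
      rw [this, inf_relIndex_right]
      exact relIndex_inf_of_prime hAn hAN hEN hAp hEA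
    · exact ⟨hEN hgx, hEAZ _ hgx ⟨x, hx, rfl⟩⟩
  obtain ⟨g₀, hg₀, hg₀N⟩ := SetLike.exists_of_lt hltN
  obtain ⟨hWc, hZp, -⟩ := hconj g₀ hg₀ hg₀N
  set Z := N ⊓ centralizer (N : Set P) with hZdef
  have hZE : Z ≤ E := inf_le_right.trans ((centralizer_le hEN).trans hC)
  have hcE : Nat.card ↥E = p * Nat.card ↥Z := by
    rw [← hZp, ← relIndex_bot_left, ← relIndex_bot_left,
      ← relIndex_mul_relIndex ⊥ Z E bot_le hZE, mul_comm]
  have hcN : Nat.card ↥N = p * Nat.card ↥E := by
    rw [← hEp, ← relIndex_bot_left, ← relIndex_bot_left,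
      ← relIndex_mul_relIndex ⊥ E N bot_le hEN, mul_comm]
  refine ⟨?_, ?_, hWc⟩
  · -- counting the conjugates of `E` under the normalizer of `N`
    set NN := normalizer (N : Set P)
    have hZconj : ∀ a ∈ NN, ∀ x, x ∈ Z → a * x * a⁻¹ ∈ Z := by
      intro a ha x hx
      refine ⟨(conj_mem_iff ha x).2 hx.1, mem_centralizer_iff.2 fun n hn => ?_⟩
      have h1 := mem_centralizer_iff.1 hx.2 _
        ((conj_mem_iff (NN.inv_mem ha) n).2 hn)
      have h2 := congrArg (fun y => a * y * a⁻¹) h1
      simpa [mul_assoc] using h2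
    let S : Set P := (E : Set P) \ (Z : Set P)
    let T : Set P := (N : Set P) \ (Z : Set P)
    let f : (↥NN ⧸ N.subgroupOf NN) × S → T := fun qx =>
      ⟨(qx.1.out : P) * qx.2.1 * (qx.1.out : P)⁻¹,
        (conj_mem_iff qx.1.out.2 _).2 (hEN qx.2.2.1), fun h => qx.2.2.2 (by
          simpa [mul_assoc] using hZconj _ (NN.inv_mem qx.1.out.2) _ h)⟩
    have hf : Function.Injective f := by
      rintro ⟨q, x⟩ ⟨q', x'⟩ h
      have h1 : (q.out : P) * x.1 * (q.out : P)⁻¹ = (q'.out : P) * x'.1 * (q'.out : P)⁻¹ :=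
        congrArg Subtype.val h
      have h2 : ((q'.out : P)⁻¹ * q.out) * x.1 * ((q'.out : P)⁻¹ * q.out)⁻¹ = x'.1 := by
        have := congrArg (fun y => (q'.out : P)⁻¹ * y * (q'.out : P)) h1
        simpa [mul_assoc] using this
      have hq : q' = q := by
        by_contra hne
        have hc : (q'.out : P)⁻¹ * q.out ∉ N := by
          intro hc
          apply hne
          rw [← QuotientGroup.out_eq' q', ← QuotientGroup.out_eq' q]
          exact QuotientGroup.eq.2 hc
        have := (hconj _ (NN.mul_mem (NN.inv_mem q'.out.2) q.out.2) hc).2.2 x.1 x.2.1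
          (by rw [h2]; exact x'.2.1)
        rw [h2] at this
        exact x'.2.2 this
      subst hq
      have : x = x' := Subtype.ext (by simpa using h2)
      rw [this]
    have hle := Nat.card_le_card_of_injective f hf
    rw [Nat.card_prod, Nat.card_coe_set_eq, Nat.card_coe_set_eq,
      Set.ncard_sdiff (SetLike.coe_subset_coe.2 hZE) (Set.toFinite _),
      Set.ncard_sdiff (SetLike.coe_subset_coe.2 (hZE.trans hEN)) (Set.toFinite _),
      ← Nat.card_coe_set_eq, ← Nat.card_coe_set_eq, ← Nat.card_coe_set_eq] at hle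
    change N.relIndex NN * (Nat.card ↥E - Nat.card ↥Z) ≤ Nat.card ↥N - Nat.card ↥Z at hle
    obtain ⟨a, ha⟩ := (hP.to_subgroup NN).index (N.subgroupOf NN)
    change N.relIndex NN = p ^ a at ha
    rw [ha] at hle ⊢
    rw [hcN, hcE] at hle
    have hz : 0 < Nat.card ↥Z := Nat.card_pos
    rcases a with - | - | a
    · exact absurd (relIndex_eq_one.1 (by rw [ha, pow_zero])) hltN.not_ge
    · exact pow_one p
    · exfalso
      obtain ⟨q, hq⟩ : ∃ q, p = q + 2 := ⟨p - 2, by have := hp.out.two_le; omega⟩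
      have hpow : p ^ 2 ≤ p ^ (a + 1 + 1) := Nat.pow_le_pow_right hp.out.pos (by omega)
      have e1 : p * Nat.card ↥Z - Nat.card ↥Z = (q + 1) * Nat.card ↥Z := by
        rw [hq]; rw [show (q + 2) * Nat.card ↥Z = (q + 1) * Nat.card ↥Z + Nat.card ↥Z by ring]
        omega
      have e2 : p * (p * Nat.card ↥Z) - Nat.card ↥Z = (q + 3) * ((q + 1) * Nat.card ↥Z) := by
        rw [hq]; rw [show (q + 2) * ((q + 2) * Nat.card ↥Z) =
          (q + 3) * ((q + 1) * Nat.card ↥Z) + Nat.card ↥Z by ring]
        omega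
      rw [e1, e2] at hle
      have h3 := Nat.le_of_mul_le_mul_right hle (by positivity)
      have h4 : q + 3 < p ^ 2 := by rw [hq]; nlinarith
      omega
  · -- the order of the derived subgroup
    obtain ⟨u₀, hu, huE⟩ : ∃ u₀ ∈ N, u₀ ∉ E := SetLike.exists_of_lt (lt_of_le_of_ne hEN fun e =>
      hp.out.one_lt.ne' (hEp ▸ e ▸ relIndex_self E))
    have hval : ∀ e ∈ E, ⁅u₀, e⁆ ∈ E := fun e he =>
      hW_E (commutator_mem_commutator hu (hEN he))
    let φ : ↥E →* P := MonoidHom.mk' (fun e => ⁅u₀, (e : P)⁆) (fun a b => by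
      have e1 : ⁅u₀, ((a * b : ↥E) : P)⁆ = ⁅u₀, (a : P)⁆ * ((a : P) * ⁅u₀, (b : P)⁆ * (a : P)⁻¹) := by
        simp [commutatorElement_def, mul_assoc]
      change ⁅u₀, ((a * b : ↥E) : P)⁆ = _
      rw [e1, hcomm _ a.2 _ (hval _ b.2), mul_inv_cancel_right])
    have hclos : closure ((E : Set P) ∪ {u₀}) = N := by
      refine eq_of_prime_relIndex (lt_of_le_of_ne ?_ fun e => huE ?_) ?_ hEp
      · exact fun x hx => subset_closure (Or.inl hx)
      · exact e.ge (subset_closure (Or.inr rfl))
      · rw [closure_le]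
        rintro x (hx | rfl)
        · exact hEN hx
        · exact hu
    have hker : φ.ker = Z.subgroupOf E := by
      ext e
      rw [MonoidHom.mem_ker, mem_subgroupOf]
      constructor
      · intro h
        refine ⟨hEN e.2, ?_⟩
        have : N ≤ centralizer ({(e : P)} : Set P) := by
          rw [← hclos, closure_le]
          rintro x (hx | rfl) <;> simp only [SetLike.mem_coe, mem_centralizer_singleton_iff]
          · exact hcomm x hx e e.2
          · exact commutatorElement_eq_one_iff_mul_comm.1 h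
        exact mem_centralizer_iff.2 fun n hn => mem_centralizer_singleton_iff.1 (this hn)
      · intro h
        exact commutatorElement_eq_one_iff_mul_comm.2 (mem_centralizer_iff.1 h.2 u₀ hu)
    have hR : Nat.card ↥φ.range = p := by
      rw [← index_ker, hker]; exact hZp
    have hle1 : φ.range ≤ ⁅N, N⁆ := by
      rintro _ ⟨e, rfl⟩
      exact commutator_mem_commutator hu (hEN e.2)
    have hge : ⁅N, N⁆ ≤ φ.range := by
      rw [← hclos] at hle1 hWc ⊢
      refine comm_gens (hle1.trans hWc) ?_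
      rintro a (ha | rfl) b (hb | rfl)
      · rw [commutatorElement_eq_one_iff_mul_comm.2 (hcomm a ha b hb)]; exact one_mem _
      · rw [← commutatorElement_inv]; exact φ.range.inv_mem ⟨⟨a, ha⟩, rfl⟩
      · exact ⟨⟨b, hb⟩, rfl⟩
      · rw [commutatorElement_self]; exact one_mem _
    rw [le_antisymm hge hle1, hR]

theorem central_step (hP : IsPGroup p P) {E N : Subgroup P} (hE : Hyp p E)
    (hNE : N = normalizer (E : Set P)) (hW : Nat.card ↥⁅N, N⁆ = p) {K : Subgroup P} (hNK : N < K)
    (hK : K ≠ ⊤)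
    (ih : ∀ M : Subgroup P, E ≤ M → M < K → M.relIndex (normalizer (M : Set P)) = p ∧
      (N ≤ M → ⁅N, N⁆ ≤ centralizer (M : Set P))) :
    ⁅N, N⁆ ≤ centralizer (K : Set P) := by
  obtain ⟨hab, hC, hEp⟩ := hE
  have hEN : E ≤ N := hNE ▸ le_normalizer
  obtain ⟨M, hNM, ⟨-, hMK⟩, hMmax⟩ :=
    Finite.exists_le_maximal (p := fun M : Subgroup P => N ≤ M ∧ M < K) ⟨le_rfl, hNK⟩
  have hEM := hEN.trans hNM
  obtain ⟨hMp, hWM⟩ := ih M hEM hMK
  have hWM := hWM hNM
  have hKnM : K = normalizer (M : Set P) := by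
    have h2 := Cfsg.Lib.Fusion.lt_inf_normalizer (hP.to_subgroup K) hMK
    have h3 : K ≤ normalizer (M : Set P) := by
      refine inf_eq_left.1 (by_contra fun hne => ?_)
      exact h2.not_ge (hMmax ⟨hNM.trans h2.le, lt_of_le_of_ne inf_le_left hne⟩ h2.le)
    exact eq_of_prime_relIndex hMK h3 hMp
  have hMp' : M.relIndex K = p := by rw [hKnM]; exact hMp
  have key : ∀ h ∈ normalizer (K : Set P), h ∉ K →
      M.map (MulAut.conj h).toMonoidHom ≤ K ∧
      ¬ M.map (MulAut.conj h).toMonoidHom ≤ M ∧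
      (M ⊓ M.map (MulAut.conj h).toMonoidHom).relIndex M = p ∧
      K ≤ normalizer ((M ⊓ M.map (MulAut.conj h).toMonoidHom : Subgroup P) : Set P) ∧
      ¬ E ≤ M ⊓ M.map (MulAut.conj h).toMonoidHom := by
    intro h hh hhK
    set Mh := M.map (MulAut.conj h).toMonoidHom with hMh
    have h1 : Mh ≤ K := by rw [← map_conj_eq hh]; exact map_mono hMK.le
    have h1p : Mh.relIndex K = p := by
      rw [hMh, ← map_conj_eq hh, relIndex_map_map_of_injective _ _ (MulAut.conj h).injective, hMp']
    have h2 : ¬ Mh ≤ M := fun hle => hhK (hKnM ▸ mem_normalizer_of_map_le hle)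
    have hcard : Nat.card ↥Mh = Nat.card ↥M := card_map_of_injective (MulAut.conj h).injective
    have h2' : ¬ M ≤ Mh := fun hle => h2 (eq_of_le_of_card_ge hle hcard.le).ge
    have hn := le_normalizer_of_prime hP h1 h1p
    have h3 : (M ⊓ Mh).relIndex M = p := by
      rw [inf_relIndex_left]
      exact relIndex_inf_of_prime hn h1 hMK.le h1p h2'
    have h4 : K ≤ normalizer ((M ⊓ Mh : Subgroup P) : Set P) := fun x hx =>
      mem_normalizer_iff.2 fun y => by
        simp only [mem_inf]
        rw [mem_normalizer_iff.1 (hKnM.le hx) y, mem_normalizer_iff.1 (hn hx) y]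
    refine ⟨h1, h2, h3, h4, fun hET => ?_⟩
    have hTM : M ⊓ Mh < M := lt_of_le_of_ne inf_le_left fun e => h2' (inf_eq_left.1 e)
    have hT := (ih (M ⊓ Mh) hET (hTM.trans hMK)).1
    exact hMK.not_ge (h4.trans (eq_of_prime_relIndex hTM (hMK.le.trans h4) hT).ge)
  obtain ⟨h, hh, hhK⟩ := SetLike.exists_of_lt (lt_normalizer hP hK)
  obtain ⟨hh1, hh2, hh3, hh4, -⟩ := key h hh hhK
  obtain ⟨-, -, hi3, hi4, hi5⟩ :=
    key h⁻¹ (inv_mem hh) (fun h' => hhK (inv_mem_iff.1 h'))
  set T' := M ⊓ M.map (MulAut.conj h⁻¹).toMonoidHom with hT'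
  set C := M ⊓ centralizer (T' : Set P) with hCdef
  set X := M ⊓ centralizer (M : Set P) with hX
  have hXE : X ≤ E := inf_le_right.trans ((centralizer_le hEM).trans hC)
  have hT'M : T' ⊔ E = M :=
    eq_of_prime_relIndex (lt_of_le_of_ne le_sup_left fun e => hi5 (le_sup_right.trans e.ge))
      (sup_le inf_le_left hEM) hi3
  have hCn : K ≤ normalizer (C : Set P) := by
    intro x hx
    refine mem_normalizer_of_map_le ?_
    rintro _ ⟨y, hy, rfl⟩
    refine ⟨(conj_mem_iff (hKnM.le hx) y).2 hy.1, mem_centralizer_iff.2 fun t ht => ?_⟩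
    have h1 := mem_centralizer_iff.1 hy.2 _ ((conj_mem_iff (hi4 (inv_mem hx)) t).2 ht)
    have h2 := congrArg (fun z => x * z * x⁻¹) h1
    simpa [mul_assoc] using h2
  by_cases hCX : C ≤ X
  · -- the derived subgroup lies in a conjugate of the centre of `M`
    have hWT : ⁅N, N⁆ ≤ M ⊓ M.map (MulAut.conj h).toMonoidHom :=
      (commutator_mono hNM hNM).trans
        (comm_le_of_prime (hMK.le.trans hh4) inf_le_left hh3)
    have hsup : M ⊔ M.map (MulAut.conj h).toMonoidHom = K :=
      eq_of_prime_relIndex (lt_of_le_of_ne le_sup_left fun e => hh2 (le_sup_right.trans e.ge))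
        (sup_le hMK.le hh1) hMp'
    intro w hw
    have hwX : h⁻¹ * w * h ∈ X := by
      refine hCX ⟨mem_map_conj.1 (hWT hw).2, mem_centralizer_iff.2 fun t ht => ?_⟩
      have ht1 : h * t * h⁻¹ ∈ M := by simpa [mul_assoc] using mem_map_conj.1 ht.2
      have h1 := mem_centralizer_iff.1 (hWM hw) _ ht1
      have h2 := congrArg (fun z => h⁻¹ * z * h) h1
      simpa [mul_assoc] using h2
    have : K ≤ centralizer ({w} : Set P) := by
      rw [← hsup]
      refine sup_le (fun m hm => mem_centralizer_singleton_iff.2 ?_) ?_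
      · exact mem_centralizer_iff.1 (hWM hw) m hm
      · rintro _ ⟨m, hm, rfl⟩
        refine mem_centralizer_singleton_iff.2 ?_
        have h1 := mem_centralizer_iff.1 hwX.2 m hm
        have h2 := congrArg (fun z => h * z * h⁻¹) h1
        simpa [mul_assoc] using h2
    exact mem_centralizer_iff.2 fun k hk => mem_centralizer_singleton_iff.1 (this hk)
  · obtain ⟨D, hDX, hDC, hDn, hDc⟩ := descend hP hCX
    have hDM : ∀ d ∈ D, ∀ m ∈ M, ⁅d, m⁆ ∈ X := by
      intro d hd m hm
      refine hDc d hd m ?_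
      have e : ⁅d, m⁆ = d * (m * d⁻¹ * m⁻¹) := by simp [commutatorElement_def, mul_assoc]
      rw [e]
      exact C.mul_mem (hDC hd) ((conj_mem_iff (hCn (hMK.le hm)) _).2 (C.inv_mem (hDC hd)))
    have hDN : D ≤ N := by
      intro d hd
      rw [hNE]
      refine mem_normalizer_of_map_le ?_
      rintro _ ⟨e, he, rfl⟩
      have h1 := E.mul_mem (hXE (hDM d hd e (hEM he))) he
      simpa [commutatorElement_def, mul_assoc] using h1
    have hDW : ⁅D, M⁆ ≤ ⁅N, N⁆ := by
      rw [commutator_le]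
      intro d hd m hm
      have hm' : m ∈ closure ((T' : Set P) ∪ (E : Set P)) := by
        rw [Subgroup.closure_union, closure_eq, closure_eq, hT'M]; exact hm
      refine comm_mem_closure ?_ ?_ m hm'
      · rw [Subgroup.closure_union, closure_eq, closure_eq, hT'M]; exact hWM
      · rintro x (hx | hx)
        · rw [commutatorElement_eq_one_iff_mul_comm.2
            (mem_centralizer_iff.1 (hDC hd).2 x hx).symm]
          exact one_mem _
        · exact commutator_mem_commutator (hDN hd) (hEN hx)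
    obtain ⟨d, hd, hdX⟩ := SetLike.not_le_iff_exists.1 hDX
    have hdE : ¬ d ∈ centralizer (E : Set P) := by
      intro hdc
      refine hdX ⟨(hDC hd).1, ?_⟩
      have : M ≤ centralizer ({d} : Set P) := by
        rw [← hT'M]
        exact sup_le (fun t ht => mem_centralizer_singleton_iff.2
          (mem_centralizer_iff.1 (hDC hd).2 t ht))
          (fun t ht => mem_centralizer_singleton_iff.2 (mem_centralizer_iff.1 hdc t ht))
      exact mem_centralizer_iff.2 fun m hm => mem_centralizer_singleton_iff.1 (this hm)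
    have heq : ⁅D, M⁆ = ⁅N, N⁆ := by
      refine eq_of_le_of_card_ge hDW ?_
      rw [hW]
      refine ((hp.out.eq_one_or_self_of_dvd _ (hW ▸ card_dvd_of_le hDW)).resolve_left
        fun h1 => hdE ?_).ge
      rw [mem_centralizer_iff]
      intro e he
      have := commutator_mem_commutator hd (hEM he)
      rw [card_eq_one.1 h1, mem_bot] at this
      exact (commutatorElement_eq_one_iff_mul_comm.1 this).symm
    refine le_centralizer_of_card hP hW fun x hx => mem_normalizer_of_map_le (le_of_eq ?_)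
    rw [← heq, Subgroup.map_commutator, map_conj_eq (hDn x (hCn hx)),
      map_conj_eq (hKnM.le hx)]

theorem quotient_step (hP : IsPGroup p P) {E N : Subgroup P} (hE : Hyp p E)
    (hNE : N = normalizer (E : Set P)) (hNN : N.relIndex (normalizer (N : Set P)) = p)
    {K : Subgroup P} (hNK : N ≤ K) (hK : K ≠ ⊤) (hW : ⁅N, N⁆ ≤ centralizer (K : Set P))
    (IH : ∀ (Q : Type u) [Group Q] [Finite Q], Nat.card Q < Nat.card P → IsPGroup p Q →
      ∀ F : Subgroup Q, Hyp p F → Good p F) :
    K.relIndex (normalizer (K : Set P)) = p ∧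
      ∀ (i : ℕ) [Group.IsNilpotent ↥K], E.relIndex K = p ^ i →
        Group.nilpotencyClass ↥K = i + 1 := by
  obtain ⟨hab, hC, hEp⟩ := hE
  rw [← hNE] at hEp
  have hEN : E ≤ N := hNE ▸ le_normalizer
  have hltK := lt_normalizer hP hK
  set NK := normalizer (K : Set P)
  have hNNK : normalizer (N : Set P) ≤ NK := by
    rcases eq_or_lt_of_le hNK with e | e
    · exact e ▸ le_rfl
    · exact (normalizer_le_of_lt hP e hNN).trans hltK.le
  set Z := K ⊓ centralizer (K : Set P) with hZdef
  have hZE : Z ≤ E := inf_le_right.trans ((centralizer_le (hEN.trans hNK)).trans hC)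
  haveI : (Z.subgroupOf NK).Normal := by
    refine ⟨fun x hx g => ?_⟩
    rw [mem_subgroupOf] at hx ⊢
    refine ⟨(conj_mem_iff g.2 _).2 hx.1, mem_centralizer_iff.2 fun k hk => ?_⟩
    have h1 := mem_centralizer_iff.1 hx.2 _
      ((conj_mem_iff (NK.inv_mem g.2) k).2 hk)
    have h2 := congrArg (fun z => (g : P) * z * (g : P)⁻¹) h1
    simpa [mul_assoc] using h2
  set π := QuotientGroup.mk' (Z.subgroupOf NK)
  have hπ : Function.Surjective π := QuotientGroup.mk'_surjective _
  have hker : π.ker = Z.subgroupOf NK := QuotientGroup.ker_mk' _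
  have hKne : K ≠ ⊥ := by
    intro e
    have h1 : E = ⊥ := le_bot_iff.1 ((hEN.trans hNK).trans e.le)
    apply hK
    rw [e]
    refine le_antisymm bot_le ?_
    intro x _
    rw [← h1]
    refine hC (mem_centralizer_iff.2 fun y hy => ?_)
    rw [h1] at hy
    rw [mem_bot.1 hy, one_mul, mul_one]
  haveI : Nontrivial ↥K := nontrivial_iff_ne_bot K |>.2 hKne
  have hZne : Z.subgroupOf NK ≠ ⊥ := by
    intro e
    haveI := (hP.to_subgroup K).center_nontrivial
    obtain ⟨z, hz, hz1⟩ := (center ↥K).bot_or_exists_ne_one.resolve_left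
      (nontrivial_iff_ne_bot _ |>.1 inferInstance)
    have : (⟨z.1, le_normalizer z.2⟩ : NK) ∈ Z.subgroupOf NK := by
      refine ⟨z.2, mem_centralizer_iff.2 fun k hk => ?_⟩
      exact congrArg Subtype.val (mem_center_iff.1 hz ⟨k, hk⟩)
    rw [e, mem_bot] at this
    exact hz1 (Subtype.ext (congrArg (fun y : ↥NK => (y : P)) this))
  have hQcard : Nat.card (↥NK ⧸ Z.subgroupOf NK) < Nat.card P := by
    have h1 := card_eq_card_quotient_mul_card_subgroup (Z.subgroupOf NK)
    have h2 : 1 < Nat.card ↥(Z.subgroupOf NK) :=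
      (one_lt_card_iff_ne_bot _).2 hZne
    have h3 : Nat.card ↥NK ≤ Nat.card P :=
      Nat.card_le_card_of_injective _ NK.subtype_injective
    have h4 : 0 < Nat.card (↥NK ⧸ Z.subgroupOf NK) := Nat.card_pos
    calc Nat.card (↥NK ⧸ Z.subgroupOf NK)
        < Nat.card (↥NK ⧸ Z.subgroupOf NK) * Nat.card ↥(Z.subgroupOf NK) :=
          lt_mul_of_one_lt_right h4 h2
      _ ≤ Nat.card P := h1 ▸ h3
  have hQp : IsPGroup p (↥NK ⧸ Z.subgroupOf NK) := (hP.to_subgroup NK).to_quotient _
  set F := (N.subgroupOf NK).map π with hF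
  set K' := (K.subgroupOf NK).map π with hK'
  have hkerN : π.ker ≤ N.subgroupOf NK :=
    hker.le.trans (comap_mono (hZE.trans hEN))
  have hkerK : π.ker ≤ K.subgroupOf NK :=
    hker.le.trans (comap_mono inf_le_left)
  have hFc : F.comap π = N.subgroupOf NK := comap_map_eq_self hkerN
  have hKc : K'.comap π = K.subgroupOf NK := comap_map_eq_self hkerK
  have hNle : N ≤ NK := hNK.trans le_normalizer
  have hrel : ∀ A B : Subgroup P, π.ker ≤ A.subgroupOf NK → A ≤ B → B ≤ NK →
      ((A.subgroupOf NK).map π).relIndex ((B.subgroupOf NK).map π) = A.relIndex B := by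
    intro A B hA hAB hB
    rw [relIndex_map_map, sup_eq_left.2 hA,
      sup_eq_left.2 (show π.ker ≤ B.subgroupOf NK from hA.trans (comap_mono hAB)), relIndex_subgroupOf hB]
  have hFn : normalizer (F : Set (↥NK ⧸ Z.subgroupOf NK)) = ((normalizer (N : Set P)).subgroupOf NK).map π := by
    rw [subgroupOf_normalizer_eq hNle, ← hFc, ← comap_normalizer_eq_of_surjective _ hπ,
      map_comap_eq_self_of_surjective hπ]
  have hHyp : Hyp p F := by
    refine ⟨⟨⟨?_⟩⟩, ?_, ?_⟩
    · rintro ⟨_, a, ha, rfl⟩ ⟨_, b, hb, rfl⟩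
      refine Subtype.ext (commutatorElement_eq_one_iff_mul_comm.1 ?_)
      change ⁅π a, π b⁆ = 1
      rw [← map_commutatorElement, ← MonoidHom.mem_ker, hker]
      have hw : ⁅(a : P), (b : P)⁆ ∈ ⁅N, N⁆ := commutator_mem_commutator ha hb
      exact ⟨hNK (commutator_le_self _ hw), hW hw⟩
    · intro y hy
      obtain ⟨g, rfl⟩ := hπ y
      refine mem_map_of_mem _ ?_
      rw [mem_subgroupOf, hNE]
      refine mem_normalizer_of_map_le ?_
      rintro _ ⟨e, he, rfl⟩
      have h1 := mem_centralizer_iff.1 hy _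
        (mem_map_of_mem π (show (⟨e, hNle (hEN he)⟩ : NK) ∈ N.subgroupOf NK from hEN he))
      have h2 : π ⁅g, (⟨e, hNle (hEN he)⟩ : NK)⁆ = 1 := by
        rw [map_commutatorElement]
        exact commutatorElement_eq_one_iff_mul_comm.2 h1.symm
      rw [← MonoidHom.mem_ker, hker, mem_subgroupOf] at h2
      have h3 := E.mul_mem (hZE h2) he
      simpa [commutatorElement_def, mul_assoc] using h3
    · rw [hFn, hrel N _ hkerN le_normalizer hNNK, hNN]
  have hKtop : K' ≠ ⊤ := by
    intro e
    rw [e, comap_top] at hKc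
    exact hltK.not_ge (subgroupOf_eq_top.1 hKc.symm)
  obtain ⟨hA, hB⟩ := IH _ hQcard hQp F hHyp K' (map_mono (comap_mono hNK)) hKtop
  have hK'n : normalizer (K' : Set (↥NK ⧸ Z.subgroupOf NK)) = ⊤ := by
    apply comap_injective hπ
    rw [comap_normalizer_eq_of_surjective _ hπ, hKc, comap_top,
      ← subgroupOf_normalizer_eq le_normalizer, subgroupOf_self]
  refine ⟨?_, fun i _ hi => ?_⟩
  · rw [hK'n, relIndex_top_right] at hA
    rw [← hA, ← index_comap_of_surjective K' hπ, hKc]
    rfl
  · haveI : Group.IsNilpotent ↥K' := (hQp.to_subgroup K').isNilpotent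
    rw [← relIndex_mul_relIndex E N K hEN hNK, hEp] at hi
    rcases i with - | i
    · rw [pow_zero] at hi
      exact absurd (Nat.eq_one_of_mul_eq_one_right hi) hp.out.one_lt.ne'
    rw [pow_succ'] at hi
    have hFK : F.relIndex K' = p ^ i := by
      rw [hF, hK', hrel N K hkerN hNK le_normalizer]
      exact Nat.eq_of_mul_eq_mul_left hp.out.pos hi
    have hcl := hB i hFK
    let f : ↥K →* ↥K' :=
      (π.comp (inclusion le_normalizer)).codRestrict K' fun k => ⟨_, k.2, rfl⟩
    have hf : Function.Surjective f := by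
      rintro ⟨_, x, hx, rfl⟩
      exact ⟨⟨x.1, hx⟩, rfl⟩
    have hfk : f.ker = center ↥K := by
      ext k
      rw [MonoidHom.mem_ker, mem_center_iff, Subtype.ext_iff]
      change π _ = 1 ↔ _
      rw [← MonoidHom.mem_ker, hker, mem_subgroupOf]
      constructor
      · intro h x
        exact Subtype.ext (mem_centralizer_iff.1 h.2 x.1 x.2)
      · intro h
        exact ⟨k.2, mem_centralizer_iff.2 fun x hx => congrArg Subtype.val (h ⟨x, hx⟩)⟩
    let e : ↥K ⧸ center ↥K ≃* ↥K' :=
      (QuotientGroup.quotientMulEquivOfEq hfk.symm).trans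
        (QuotientGroup.quotientKerEquivOfSurjective f hf)
    have h1 : Group.nilpotencyClass (↥K ⧸ center ↥K) = i + 1 := hcl ▸ le_antisymm
      (nilpotencyClass_le_of_surjective e.symm.toMonoidHom e.symm.surjective)
      (nilpotencyClass_le_of_surjective e.toMonoidHom e.surjective)
    rw [nilpotencyClass_quotient_center] at h1
    omega

theorem good : ∀ (n : ℕ) (Q : Type u) [Group Q] [Finite Q], Nat.card Q = n → IsPGroup p Q →
    ∀ E : Subgroup Q, Hyp p E → Good p E := by
  intro n
  induction n using Nat.strong_induction_on with | _ n IHn => ?_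
  intro Q _ _ hn hQ E hE
  have IH : ∀ (R : Type u) [Group R] [Finite R], Nat.card R < Nat.card Q → IsPGroup p R →
      ∀ F : Subgroup R, Hyp p F → Good p F :=
    fun R _ _ hlt => IHn (Nat.card R) (hn ▸ hlt) R rfl
  intro K hEK hK
  rcases eq_or_lt_of_le hEK with rfl | hlt
  · refine ⟨hE.2.2, fun i _ hi => ?_⟩
    have hi0 : i = 0 := by
      rw [relIndex_self] at hi
      exact ((Nat.pow_eq_one).1 hi.symm).resolve_left hp.out.one_lt.ne'
    subst hi0
    haveI := hE.1
    have h1 := (Group.IsNilpotent.nilpotencyClass_le_one_iff (G := ↥E)).2 inferInstance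
    have h0 : Group.nilpotencyClass ↥E ≠ 0 := by
      intro h
      rw [nilpotencyClass_zero_iff_subsingleton] at h
      have e : E = ⊥ := eq_bot_of_subsingleton E
      refine hK (le_antisymm le_top fun x _ => hE.2.1 (mem_centralizer_iff.2 fun y hy => ?_))
      rw [e] at hy
      rw [mem_bot.1 hy, one_mul, mul_one]
    omega
  generalize hNE : normalizer (E : Set Q) = N
  have hNK : N ≤ K := hNE ▸ normalizer_le_of_lt hQ hlt hE.2.2
  have hN : N ≠ ⊤ := fun e => hK (top_le_iff.1 (e ▸ hNK))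
  obtain ⟨hNN, hWp, hWc⟩ := second_step hQ hE hNE.symm hN
  have claim : ∀ (m : ℕ) (L : Subgroup Q), Nat.card ↥L = m → E ≤ L → L ≠ ⊤ →
      L.relIndex (normalizer (L : Set Q)) = p ∧
        (N ≤ L → ⁅N, N⁆ ≤ centralizer (L : Set Q)) := by
    intro m
    induction m using Nat.strong_induction_on with | _ m ihm => ?_
    intro L hm hEL hL
    rcases eq_or_lt_of_le hEL with rfl | hELlt
    · refine ⟨hE.2.2, fun hle => ?_⟩
      exact absurd (hNE ▸ hle) (lt_normalizer hQ hL).not_ge
    have hNL : N ≤ L := hNE ▸ normalizer_le_of_lt hQ hELlt hE.2.2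
    have hWL : ⁅N, N⁆ ≤ centralizer (L : Set Q) := by
      rcases eq_or_lt_of_le hNL with rfl | h
      · exact hWc
      · refine central_step hQ hE hNE.symm hWp h hL fun M hEM hML => ?_
        exact ihm _ (hm ▸ Cfsg.Lib.Fusion.card_lt_card_of_lt hML) M rfl hEM
          (fun e => not_top_lt (e ▸ hML))
    exact ⟨(quotient_step hQ hE hNE.symm hNN hNL hL hWL IH).1, fun _ => hWL⟩
  exact quotient_step hQ hE hNE.symm hNN hNK hK ((claim _ K rfl hEK hK).2 hNK) IH


/-- Let P be a finite p-group and E an abelian subgroup of P that contains its centralizer, has index p in its normalizer, and has index at least p² in P. Then the subgroups of P containing E are totally ordered by inclusion, each proper one has index p in its normalizer (so they form the normalizer tower of E, with all steps of index p), and the i-th member of the tower above E has nilpotency class i + 1 whenever it is a proper subgroup of P. -/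
theorem result {P : Type*} [Group P] [Finite P] (p : ℕ) [Fact p.Prime] (hP : IsPGroup p P)
    (E : Subgroup P) (hEab : IsMulCommutative ↥E) (hC : Subgroup.centralizer (E : Set P) ≤ E)
    (hN : (E.subgroupOf (Subgroup.normalizer (E : Set P))).index = p) (hidx : p ^ 2 ≤ E.index) :
    (∀ K L : Subgroup P, E ≤ K → E ≤ L → K ≤ L ∨ L ≤ K) ∧
      (∀ K : Subgroup P, E ≤ K → K ≠ ⊤ → (K.subgroupOf (Subgroup.normalizer (K : Set P))).index = p) ∧
      ∀ (i : ℕ) (K : Subgroup P) [Group.IsNilpotent ↥K], E ≤ K → K ≠ ⊤ → K.index * p ^ i = E.index →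
        Group.nilpotencyClass ↥K = i + 1 := by
  have hgood := good (p := p) _ P rfl hP E ⟨hEab, hC, hN⟩
  refine ⟨fun K L hK hL => ?_, fun K hK hKt => (hgood K hK hKt).1,
    fun i K _ hK hKt hi => (hgood K hK hKt).2 i ?_⟩
  · by_contra hcon
    push Not at hcon
    have h1 : K ⊓ L < K := lt_of_le_of_ne inf_le_left fun e => hcon.1 (inf_eq_left.1 e)
    have h2 : K ⊓ L < L := lt_of_le_of_ne inf_le_right fun e => hcon.2 (inf_eq_right.1 e)
    have hJt : K ⊓ L ≠ ⊤ := fun e => not_top_lt (e ▸ h1)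
    have hp' := (hgood _ (le_inf hK hL) hJt).1
    exact (lt_normalizer hP hJt).not_ge
      (le_inf (normalizer_le_of_lt hP h1 hp') (normalizer_le_of_lt hP h2 hp'))
  · have h1 : E.relIndex K * K.index = E.index := Subgroup.relIndex_mul_index hK
    rw [← hi, mul_comm] at h1
    exact Nat.eq_of_mul_eq_mul_left (Nat.pos_of_ne_zero Subgroup.index_ne_zero_of_finite) h1

end Cfsg.Agent.S3811
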