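import Cfsg.Statements.S3814
import Cfsg.Agent.Lib.Solv.TriFree.Lines
import Cfsg.Agent.Lib.Solv.ThreePrimes

set_option autoImplicit false
open Cfsg

namespace Cfsg.Agent.S3814

open Subgroup Cfsg.Lib.Solv.TriFree

theorem no_triple {G : Type*} [Group G] {σ : Finset ℕ} (hp : ∀ p ∈ σ, p.Prime)
    (h3 : ∀ p ∈ σ, ∀ q ∈ σ, ∀ r ∈ σ, p ≠ q → q ≠ r → p ≠ r → ∀ g : G, orderOf g ≠ p * q * r)
    {a b c : ℕ} (ha : a ∈ σ) (hb : b ∈ σ) (hc : c ∈ σ) (hab : a ≠ b) (hbc : b ≠ c) (hac : a ≠ c) {x y z : G}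
    (hx : orderOf x = a) (hy : orderOf y = b) (hz : orderOf z = c) (hxy : Commute x y) (hyz : Commute y z)
    (hxz : Commute x z) : False := by
  have h1 : orderOf (x * y) = a * b := by
    rw [hxy.orderOf_mul_eq_mul_orderOf_of_coprime
      (by rw [hx, hy]; exact (Nat.coprime_primes (hp a ha) (hp b hb)).2 hab), hx, hy]
  refine h3 a ha b hb c hc hab hbc hac (x * y * z) ?_
  rw [(hxz.mul_left hyz).orderOf_mul_eq_mul_orderOf_of_coprime ?_, h1, hz]
  rw [h1, hz]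
  exact Nat.Coprime.mul_left ((Nat.coprime_primes (hp a ha) (hp c hc)).2 hac) ((Nat.coprime_primes (hp b hb) (hp c hc)).2 hbc)

theorem split {G : Type*} [Group G] {a b : ℕ} (ha : a.Prime) (hb : b.Prime) (hab : a ≠ b) {g : G}
    (hg : orderOf g = a * b) : orderOf (g ^ b) = a ∧ orderOf (g ^ a) = b := by
  constructor
  · rw [orderOf_pow_of_dvd hb.ne_zero (hg ▸ dvd_mul_left b a), hg, Nat.mul_div_cancel _ hb.pos]
  · rw [orderOf_pow_of_dvd ha.ne_zero (hg ▸ dvd_mul_right a b), hg, Nat.mul_div_cancel_left _ ha.pos]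

/-- No element of prime order commutes with elements of all three other orders. -/
theorem no_star {G : Type*} [Group G] [Finite G] [Group.IsSolvable G] {σ : Finset ℕ} (hp : ∀ p ∈ σ, p.Prime)
    (h3 : ∀ p ∈ σ, ∀ q ∈ σ, ∀ r ∈ σ, p ≠ q → q ≠ r → p ≠ r → ∀ g : G, orderOf g ≠ p * q * r)
    {a b c d : ℕ} (ha : a ∈ σ) (hb : b ∈ σ) (hc : c ∈ σ) (hd : d ∈ σ) (hab : a ≠ b) (hac : a ≠ c) (had : a ≠ d)
    (hbc : b ≠ c) (hbd : b ≠ d) (hcd : c ≠ d) {x y z w : G} (hx : orderOf x = a) (hy : orderOf y = b)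
    (hz : orderOf z = c) (hw : orderOf w = d) (hxy : Commute x y) (hxz : Commute x z) (hxw : Commute x w) : False := by
  set C := centralizer ({x} : Set G)
  have hdvd : ∀ {t : ℕ} {u : G}, orderOf u = t → Commute x u → t ∣ Nat.card C := fun ht hu =>
    ht ▸ C.orderOf_dvd_natCard (mem_centralizer_singleton_iff.2 hu.eq.symm)
  obtain ⟨u, hu⟩ := Cfsg.Lib.Solv.three_primes (G := C) (hp b hb) (hp c hc) (hp d hd) hbc hbd hcd
    (hdvd hy hxy) (hdvd hz hxz) (hdvd hw hxw)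
  have key : ∀ {e f : ℕ}, e ∈ σ → f ∈ σ → e ≠ f → a ≠ e → a ≠ f → orderOf (u : G) = e * f → False := by
    intro e f he hf hef hae haf h
    obtain ⟨h1, h2⟩ := split (hp e he) (hp f hf) hef h
    have hc' : Commute x (u : G) := (mem_centralizer_singleton_iff.1 u.2).symm
    exact no_triple hp h3 ha he hf hae hef haf hx h1 h2 (hc'.pow_right f) ((Commute.refl (u : G)).pow_pow f e)
      (hc'.pow_right e)
  rw [← Subgroup.orderOf_coe] at hu
  rcases hu with h | h | h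
  · exact key hb hc hbc hab hac h
  · exact key hb hd hbd hab had h
  · exact key hc hd hcd hac had h

theorem exists_ind {G : Type*} [Group G] [Finite G] [Group.IsSolvable G] {σ : Finset ℕ} (hp : ∀ p ∈ σ, p.Prime)
    (hσ : σ.card = 4) (h2 : ∀ p ∈ σ, ∀ q ∈ σ, p ≠ q → ∃ g : G, orderOf g = p * q)
    (h3 : ∀ p ∈ σ, ∀ q ∈ σ, ∀ r ∈ σ, p ≠ q → q ≠ r → p ≠ r → ∀ g : G, orderOf g ≠ p * q * r)
    {a : ℕ} (ha : a ∈ σ) : ∃ x y : G, Ind a x y := by
  have := Fact.mk (hp a ha)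
  by_contra hno
  push Not at hno
  obtain ⟨b, c, d, hbc, hbd, hcd, he⟩ := Finset.card_eq_three.1 (show (σ.erase a).card = 3 by
    rw [Finset.card_erase_of_mem ha, hσ])
  have hmem : ∀ {t : ℕ}, t = b ∨ t = c ∨ t = d → t ∈ σ ∧ a ≠ t := fun {t} ht => by
    have : t ∈ σ.erase a := by rw [he]; simpa using ht
    exact ⟨Finset.mem_of_mem_erase this, (Finset.ne_of_mem_erase this).symm⟩
  obtain ⟨hb, hab⟩ := hmem (t := b) (Or.inl rfl)
  obtain ⟨hc, hac⟩ := hmem (t := c) (Or.inr (Or.inl rfl))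
  obtain ⟨hd, had⟩ := hmem (t := d) (Or.inr (Or.inr rfl))
  have P : Sylow a G := default
  obtain ⟨g, hg⟩ := h2 a ha b hb hab
  have hx := (split (hp a ha) (hp b hb) hab hg).1
  obtain ⟨Q, hQ⟩ := (IsPGroup.of_card (n := 1) (by rw [Nat.card_zpowers, hx, pow_one]) :
    IsPGroup a (zpowers (g ^ b))).exists_le_sylow
  have hPne : (P : Subgroup G) ≠ ⊥ := fun e => by
    obtain ⟨t, ht⟩ := MulAction.exists_smul_eq G P Q
    have hm : g ^ b ∈ ((t • P : Sylow a G) : Subgroup G) := ht ▸ hQ (mem_zpowers _)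
    rw [Sylow.coe_subgroup_smul, e, Subgroup.smul_bot, mem_bot] at hm
    exact ne_one_of_orderOf (hp a ha) hx hm
  have hnt : Nontrivial P := (Subgroup.nontrivial_iff_ne_bot _).2 hPne
  obtain ⟨z, hzm, hzc, hz⟩ := Cfsg.Lib.PGroup.exists_mem_center_orderOf_eq (G := P) P.isPGroup' (N := ⊤) top_ne_bot
  have hzo : orderOf (z : G) = a := by rw [Subgroup.orderOf_coe, hz]
  have key : ∀ {t : ℕ}, t ∈ σ → a ≠ t → ∃ u : G, orderOf u = t ∧ Commute (z : G) u := by
    intro t ht hat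
    obtain ⟨g, hg⟩ := h2 a ha t ht hat
    obtain ⟨h1, h1'⟩ := split (hp a ha) (hp t ht) hat hg
    obtain ⟨Q, hQ⟩ := (IsPGroup.of_card (n := 1) (by rw [Nat.card_zpowers, h1, pow_one]) :
      IsPGroup a (zpowers (g ^ t))).exists_le_sylow
    obtain ⟨s, hs⟩ := MulAction.exists_smul_eq G P Q
    have hm : g ^ t ∈ ((s • P : Sylow a G) : Subgroup G) := hs ▸ hQ (mem_zpowers _)
    rw [Sylow.coe_subgroup_smul] at hm
    have hm' : s⁻¹ * g ^ t * s ∈ (P : Subgroup G) := Cfsg.Lib.Core.mem_conj_smul.1 hm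
    have hin : s⁻¹ * g ^ t * s ∈ zpowers (z : G) := by
      by_contra hn
      exact hno z _ ⟨hzo, (orderOf_conj' s _).trans h1,
        congrArg Subtype.val (Subgroup.mem_center_iff.1 hzc ⟨_, hm'⟩).symm, hn⟩
    have hz' : (z : G) ∈ zpowers (s⁻¹ * g ^ t * s) :=
      (zpowers_eq_of_mem (hp a ha) hzo hin (ne_one_of_orderOf (hp a ha) ((orderOf_conj' s _).trans h1))).symm ▸
        mem_zpowers _
    obtain ⟨k, hk⟩ := mem_zpowers_iff.1 hz'
    exact ⟨s⁻¹ * g ^ a * s, (orderOf_conj' s _).trans h1',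
      hk ▸ (commute_conj' s ((Commute.refl g).pow_pow t a)).zpow_left k⟩
  obtain ⟨y, hy, hzy⟩ := key hb hab
  obtain ⟨u, hu, hzu⟩ := key hc hac
  obtain ⟨w, hw, hzw⟩ := key hd had
  exact no_star hp h3 ha hb hc hd hab hac had hbc hbd hcd hzo hy hu hw hzy hzu hzw

theorem four_false {G : Type*} [Group G] [Finite G] [Group.IsSolvable G] {σ : Finset ℕ} (hp : ∀ p ∈ σ, p.Prime)
    (hσ : σ.card = 4) (hG : ∀ t : ℕ, t.Prime → t ∣ Nat.card G → t ∈ σ)
    (hpair : ∀ p ∈ σ, ∀ q ∈ σ, p ≠ q → ∃ x y : G, orderOf x = p ∧ orderOf y = q ∧ Commute x y)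
    (h3 : ∀ p ∈ σ, ∀ q ∈ σ, ∀ r ∈ σ, p ≠ q → q ≠ r → p ≠ r → ∀ g : G, orderOf g ≠ p * q * r) : False := by
  have h2 : ∀ p ∈ σ, ∀ q ∈ σ, p ≠ q → ∃ g : G, orderOf g = p * q := fun p hp' q hq' hpq => by
    obtain ⟨x, y, hx, hy, hxy⟩ := hpair p hp' q hq' hpq
    exact ⟨x * y, by rw [hxy.orderOf_mul_eq_mul_orderOf_of_coprime
      (by rw [hx, hy]; exact (Nat.coprime_primes (hp p hp') (hp q hq')).2 hpq), hx, hy]⟩
  obtain ⟨a, ha⟩ := Finset.card_pos.1 (by rw [hσ]; norm_num : 0 < σ.card)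
  obtain ⟨x0, y0, h0⟩ := exists_ind hp hσ h2 h3 ha
  have : Nontrivial G := nontrivial_of_ne x0 1 (h0.x_ne (hp a ha))
  obtain ⟨N, hN⟩ := Cfsg.Lib.Core.exists_isMinNormal_univ (G := G)
  obtain ⟨hNc, r, hr, hNr, -⟩ := Cfsg.Lib.Core.minimal_solvable_elementary hN inferInstance
  have := Fact.mk hr
  have := hN.1
  obtain ⟨n, hn, hn1⟩ := N.bot_or_exists_ne_one.resolve_left hN.2.1
  have hno : ∀ m : N, m ≠ 1 → orderOf (m : G) = r := fun m hm =>
    orderOf_eq_prime (hNr m m.2) fun e => hm (Subtype.ext e)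
  have hrσ : r ∈ σ := hG r hr (orderOf_eq_prime (hNr n hn) hn1 ▸ orderOf_dvd_natCard n)
  obtain ⟨C, hC⟩ := Cfsg.Lib.Solv.exists_isPiHall (↑(σ.erase r) : Set ℕ) G
  let instN : CommGroup N := { (inferInstance : Group N) with mul_comm := hNc.is_comm.comm }
  let φ : C →* MulAut N := MulAut.conjNormal.comp C.subtype
  have hcomm : ∀ (x : C) (m : N), φ x m = m → Commute (x : G) (m : G) := fun x m h =>
    mul_inv_eq_iff_eq_mul.1 (by simpa [φ, MulAut.conjNormal_apply] using congrArg Subtype.val h)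
  have hmem : ∀ {t : ℕ}, t ∈ σ.erase r → t ∈ σ ∧ t ≠ r := fun ht => ⟨Finset.mem_of_mem_erase ht, Finset.ne_of_mem_erase ht⟩
  have T : Three φ (σ.erase r) :=
    { card3 := by rw [Finset.card_erase_of_mem hrσ, hσ]
      prime := fun t ht => hp t (hmem ht).1
      sol := inferInstance
      hcard := fun t ht hd => Finset.mem_coe.1 (hC.1 t ht hd)
      cop := fun t ht => not_dvd_elem hr (hp t (hmem ht).1) (hmem ht).2.symm hNr
      ntV := ⟨⟨n, hn⟩, fun e => hn1 (congrArg Subtype.val e)⟩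
      rank := fun t ht => by
        obtain ⟨x, y, h⟩ := exists_ind hp hσ h2 h3 (hmem ht).1
        exact exists_conj_ind inferInstance hC (hp t (hmem ht).1) (Finset.mem_coe.2 ht) h
      pairs := fun t ht u hu htu => by
        obtain ⟨x, y, hx, hy, hxy⟩ := hpair t (hmem ht).1 u (hmem hu).1 htu
        obtain ⟨g, hgx, hgy⟩ := exists_conj_pair inferInstance hC (hp t (hmem ht).1) (hp u (hmem hu).1)
          (Finset.mem_coe.2 ht) (Finset.mem_coe.2 hu) (hx ▸ pow_orderOf_eq_one x) (hy ▸ pow_orderOf_eq_one y) hxy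
        exact ⟨⟨_, hgx⟩, ⟨_, hgy⟩, by rw [Subgroup.orderOf_mk, orderOf_conj', hx],
          by rw [Subgroup.orderOf_mk, orderOf_conj', hy], Subtype.ext (commute_conj' g hxy).eq⟩
      fix := fun t ht u hu htu x y hx hy hxy v hv hv' => by
        by_contra hv1
        exact no_triple hp h3 (hmem ht).1 (hmem hu).1 hrσ htu (hmem hu).2 (hmem ht).2
          (by rw [Subgroup.orderOf_coe]; exact hx) (by rw [Subgroup.orderOf_coe]; exact hy) (hno v hv1)
          (congrArg Subtype.val hxy) (hcomm y v hv') (hcomm x v hv)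
      tri := fun t ht u hu w hw htu huw htw x y z hx hy hz hxy hyz hxz =>
        no_triple hp h3 (hmem ht).1 (hmem hu).1 (hmem hw).1 htu huw htw
          (by rw [Subgroup.orderOf_coe]; exact hx) (by rw [Subgroup.orderOf_coe]; exact hy)
          (by rw [Subgroup.orderOf_coe]; exact hz)
          (congrArg Subtype.val hxy) (congrArg Subtype.val hyz) (congrArg Subtype.val hxz)
      star := fun t ht u hu w hw htu huw htw x y z hx hy hz hxy hxz v hv => by
        by_contra hv1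
        exact no_star hp h3 (hmem ht).1 (hmem hu).1 (hmem hw).1 hrσ htu htw (hmem ht).2 huw (hmem hu).2 (hmem hw).2
          (by rw [Subgroup.orderOf_coe]; exact hx) (by rw [Subgroup.orderOf_coe]; exact hy)
          (by rw [Subgroup.orderOf_coe]; exact hz) (hno v hv1)
          (congrArg Subtype.val hxy) (congrArg Subtype.val hxz) (hcomm x v hv) }
  exact T.false

/-- A criterion for nonsolvability from element orders: let G be a finite group and σ a set of at least four primes such that for all distinct p, q ∈ σ the product pq is the order of some element of G, while for all pairwise distinct p, q, r ∈ σ no element of G has order pqr. Then G is not solvable. -/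
theorem result {G : Type*} [Group G] [Finite G]
    (σ : Finset ℕ) (hσ : 4 ≤ σ.card) (hprime : ∀ p ∈ σ, p.Prime)
    (h2 : ∀ p ∈ σ, ∀ q ∈ σ, p ≠ q → ∃ g : G, orderOf g = p * q)
    (h3 : ∀ p ∈ σ, ∀ q ∈ σ, ∀ r ∈ σ, p ≠ q → q ≠ r → p ≠ r → ∀ g : G, orderOf g ≠ p * q * r) :
    ¬ Group.IsSolvable G := by
  intro hsol
  obtain ⟨τ, hτσ, hτ⟩ := Finset.exists_subset_card_eq (by omega : 4 ≤ σ.card)
  obtain ⟨H, hH⟩ := Cfsg.Lib.Solv.exists_isPiHall (↑τ : Set ℕ) G
  refine four_false (G := H) (σ := τ) (fun p hp => hprime p (hτσ hp)) hτ (fun t ht hd => by simpa using hH.1 t ht hd)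
    (fun p hp q hq hpq => ?_) fun p hp q hq r hr h1 h2' h3' g => ?_
  · obtain ⟨g, hg⟩ := h2 p (hτσ hp) q (hτσ hq) hpq
    obtain ⟨hx, hy⟩ := split (hprime p (hτσ hp)) (hprime q (hτσ hq)) hpq hg
    have hxy : Commute (g ^ q) (g ^ p) := (Commute.refl g).pow_pow q p
    obtain ⟨s, hsx, hsy⟩ := exists_conj_pair hsol hH (hprime p (hτσ hp)) (hprime q (hτσ hq))
      (Finset.mem_coe.2 hp) (Finset.mem_coe.2 hq) (orderOf_dvd_iff_pow_eq_one.1 (dvd_of_eq hx))
      (orderOf_dvd_iff_pow_eq_one.1 (dvd_of_eq hy)) hxy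
    exact ⟨⟨_, hsx⟩, ⟨_, hsy⟩, by rw [Subgroup.orderOf_mk, orderOf_conj', hx],
      by rw [Subgroup.orderOf_mk, orderOf_conj', hy], Subtype.ext (commute_conj' s hxy).eq⟩
  · rw [← Subgroup.orderOf_coe]
    exact h3 p (hτσ hp) q (hτσ hq) r (hτσ hr) h1 h2' h3' g

end Cfsg.Agent.S3814
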