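import Cfsg.Statements.S3815

set_option autoImplicit false
open Cfsg

namespace Cfsg.Agent.S3815

/-- Let G be a finite group, p a prime and d ∈ G an element of order prime to p. If dg has order prime to p for every element g ∈ G of order prime to p, then d ∈ O_{p'}(G). -/
theorem result {G : Type*} [Group G] [Finite G] {p : ℕ} [Fact p.Prime]
    (d : G) (hd : (orderOf d).Coprime p)
    (h : ∀ g : G, (orderOf g).Coprime p → (orderOf (d * g)).Coprime p) :
    d ∈ Cfsg.pPrimeCore p G := by
  classical
  let S : Submonoid G :=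
    { carrier := {d | ∀ g : G, (orderOf g).Coprime p → (orderOf (d * g)).Coprime p}
      one_mem' := fun g hg => by rwa [one_mul]
      mul_mem' := fun {a b} ha hb g hg => by
        rw [mul_assoc]; exact ha _ (hb g hg) }
  have hfin : ∀ a ∈ S, a⁻¹ ∈ S := fun a ha => by
    obtain ⟨n, hn⟩ : ∃ n : ℕ, a ^ n = a⁻¹ :=
      (isOfFinOrder_of_finite a).mem_powers_iff_mem_zpowers.mpr
        (inv_mem (Subgroup.mem_zpowers a))
    exact hn ▸ pow_mem ha n
  let N : Subgroup G := { S with inv_mem' := fun {a} ha => hfin a ha }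
  have hN : N.Normal := by
    refine ⟨fun a ha x g hg => ?_⟩
    have hcg : ∀ (u v : G), orderOf (u * v * u⁻¹) = orderOf v := fun u v => by
      simpa [MulAut.conj_apply] using (MulAut.conj u).orderOf_eq v
    have h1 := ha (x⁻¹ * g * x) (by
      have h3 := hcg x⁻¹ g
      rw [inv_inv] at h3
      rwa [h3])
    have h2 : x * a * x⁻¹ * g = x * (a * (x⁻¹ * g * x)) * x⁻¹ := by simp [mul_assoc]
    rwa [h2, hcg]
  have hcop : (Nat.card N).Coprime p := by
    refine ((Fact.out : p.Prime).coprime_iff_not_dvd.mpr fun hdvd => ?_).symm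
    obtain ⟨x, hx⟩ := exists_prime_orderOf_dvd_card' p hdvd
    have h1 := x.2 1 (by simp)
    rw [mul_one, Subgroup.orderOf_coe, hx, Nat.coprime_self] at h1
    exact (Fact.out : p.Prime).one_lt.ne' h1
  exact (le_sSup ⟨hN, hcop⟩ : N ≤ Cfsg.pPrimeCore p G) h

end Cfsg.Agent.S3815
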