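import Cfsg.Statements.S3818
import Cfsg.Agent.Lib.Solv.FixedHalf.Main
-- import your own Cfsg.Agent.* helpers here

set_option autoImplicit false
open Cfsg

namespace Cfsg.Agent.S3818


/-- Let G be a finite solvable group and P a subgroup of G of prime order p > 3 whose conjugates generate G. Let V be a faithful irreducible representation of G over a field of positive characteristic, finite-dimensional. Then the subspace of V fixed by P has dimension less than half the dimension of V. -/
theorem result {G : Type*} [Group G] [Finite G] [Group.IsSolvable G]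
    {p : ℕ} [Fact p.Prime] (hp : 3 < p) (P : Subgroup G) (hP : Nat.card P = p) (hgen : Subgroup.normalClosure (P : Set G) = ⊤)
    {k : Type*} [Field k] (ℓ : ℕ) [Fact ℓ.Prime] [CharP k ℓ]
    {V : Type*} [AddCommGroup V] [Module k V] [FiniteDimensional k V]
    (ρ : Representation k G V) [ρ.IsIrreducible] (hfaith : Function.Injective ρ) :
    2 * Module.finrank k ↥(⨅ g : ↥P, LinearMap.ker (ρ (g : G) - LinearMap.id)) < Module.finrank k V := by
  obtain ⟨⟨g, hgP⟩, hg1⟩ : ∃ g : P, g ≠ 1 := by
    haveI : Nontrivial P := Finite.one_lt_card_iff_nontrivial.1 (by rw [hP]; exact (Fact.out : p.Prime).one_lt)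
    exact exists_ne 1
  have hgne : g ≠ 1 := fun h => hg1 (Subtype.ext h)
  have hgp : g ^ p = 1 := by
    have h := pow_card_eq_one' (x := (⟨g, hgP⟩ : P))
    rw [hP] at h
    exact congrArg Subtype.val h
  have hz : Subgroup.zpowers g = P := by
    refine Subgroup.eq_of_le_of_card_ge (Subgroup.zpowers_le.2 hgP) ?_
    rw [hP, Nat.card_zpowers, orderOf_eq_prime hgp hgne]
  have hgen' : Subgroup.normalClosure {g} = ⊤ := top_le_iff.1 (hgen ▸ Subgroup.normalClosure_le_normal (fun x hx => by
    rw [← hz] at hx
    exact (Subgroup.zpowers_le.2 (Subgroup.subset_normalClosure (Set.mem_singleton g))) hx))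
  have hnt : Nontrivial V := by
    by_contra h
    rw [not_nontrivial_iff_subsingleton] at h
    exact hgne (hfaith (LinearMap.ext fun v => Subsingleton.elim _ _))
  have hp5 : 5 ≤ p := by
    rcases (show p = 4 ∨ 5 ≤ p by omega) with h | h
    · exact absurd (h ▸ (Fact.out : p.Prime)) (by norm_num)
    · exact h
  have hirr : ∀ U : Submodule k V, (∀ x, ∀ v ∈ U, ρ x v ∈ U) → U = ⊥ ∨ U = ⊤ := fun U hU => by
    rcases IsSimpleOrder.eq_bot_or_eq_top (⟨U, fun x v hv => hU x v hv⟩ : Subrepresentation ρ) with h | h
    · exact Or.inl (congrArg Subrepresentation.toSubmodule h)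
    · exact Or.inr (congrArg Subrepresentation.toSubmodule h)
  have h := Cfsg.Lib.Solv.FixedHalf.bound_irr Fact.out hp5 hgp hgne hgen'
    (Cfsg.Lib.Solv.FixedHalf.smallSections Fact.out hp5 _ G g rfl hgp hgen') ρ hfaith hirr
  refine lt_of_le_of_lt (Nat.mul_le_mul_left 2 (Submodule.finrank_mono fun v hv => ?_)) h
  rw [Submodule.mem_iInf] at hv
  exact hv ⟨g, hgP⟩

end Cfsg.Agent.S3818
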