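import Cfsg.Statements.S3819
import Cfsg.Agent.Lib.Coprime.Action
import Cfsg.Agent.Lib.Coprime.Conjugacy
import Cfsg.Agent.Lib.Coprime.PGroupAction
import Cfsg.Agent.Lib.Core.PSolvable
import Cfsg.Agent.Lib.Core.Cores
import Cfsg.Agent.Lib.Core.Basic
-- import your own Cfsg.Agent.* helpers here

set_option autoImplicit false
open Cfsg

namespace Cfsg.Agent.S3819

open Subgroup Cfsg.Lib
open scoped commutatorElement

universe u

theorem solvable_of_pGroup {G : Type u} [Group G] [Finite G] {p : ℕ} [Fact p.Prime] (P : Subgroup G)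
    (hP : IsPGroup p P) : Group.IsSolvable P := by
  haveI := hP.isNilpotent
  exact IsNilpotent.to_isSolvable

/-- The reduced case: `H` has trivial `q'`-core. -/
theorem core {G : Type u} [Group G] [Finite G] {q : ℕ} [hq : Fact q.Prime] (H P : Subgroup G) [H.Normal]
    (hPH : (Nat.card P).Coprime (Nat.card H)) (hPs : Group.IsSolvable P)
    (hO : ∀ K : Subgroup G, K ≤ H → H ≤ normalizer (K : Set G) → (Nat.card K).Coprime q → K = ⊥)
    (hsol : Group.IsSolvable ↥⁅H, P⁆) (z : G) (hzH : z ∈ H) (hzP : z ∈ centralizer (P : Set G))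
    (hz : IsPGroup q (zpowers z))
    (D : Subgroup G) (hD : D ≤ H ⊓ centralizer ({z} : Set G))
    (hDn : H ⊓ centralizer ({z} : Set G) ≤ normalizer (D : Set G)) (hDP : P ≤ normalizer (D : Set G))
    (hDq : (Nat.card D).Coprime q)
    (E : Subgroup G) (hE : E ≤ H ⊓ centralizer (P : Set G))
    (hEn : H ⊓ centralizer (P : Set G) ≤ normalizer (E : Set G)) (hEq : (Nat.card E).Coprime q) :
    ⁅D, P⁆ = ⊥ ∧ D ⊓ E = ⊥ := by
  have hPn : P ≤ normalizer (H : Set G) := le_normalizer_of_normal
  set N := ⁅H, P⁆ with hN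
  have hNH : N ≤ H := Coprime.commutator_le_of_le_normalizer hPn
  have hHN : H ≤ normalizer (N : Set G) := normalizer_commutator_ge_left H P
  haveI := hsol
  set Q := (Cfsg.pCore q N).map N.subtype with hQ
  have hQN : Q ≤ N := map_subtype_le _
  have hQp : IsPGroup q Q := (Core.pCore_isPGroup q N).map _
  have hHQ : H ≤ normalizer (Q : Set G) := hHN.trans (Core.normalizer_le_normalizer_map_char _)
  have hPQ : P ≤ normalizer (Q : Set G) :=
    (normalizer_commutator_ge_right H P).trans (Core.normalizer_le_normalizer_map_char _)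
  have hON : Cfsg.pPrimeCore q N = ⊥ := by
    have h1 : (Cfsg.pPrimeCore q N).map N.subtype = ⊥ := hO _ ((map_subtype_le _).trans hNH)
      (hHN.trans (Core.normalizer_le_normalizer_map_char _))
      (by rw [Core.card_map_subtype]; exact Core.pPrimeCore_coprime q N)
    exact (map_eq_bot_iff_of_injective _ N.subtype_injective).1 h1
  have hNQ : N ⊓ centralizer (Q : Set G) ≤ Q := by
    rintro x ⟨hxN, hxQ⟩
    have h1 : (⟨x, hxN⟩ : N) ∈ centralizer (Cfsg.pCore q N : Set N) := mem_centralizer_iff.2 fun w hw =>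
      Subtype.ext (mem_centralizer_iff.1 hxQ (w : G) (mem_map_of_mem N.subtype hw))
    exact ⟨⟨x, hxN⟩, Core.centralizer_pCore_le_of_isPSolvable Core.isPSolvable_of_isSolvable hON h1, rfl⟩
  have hDH : D ≤ H := hD.trans inf_le_left
  have hDQbot : D ⊓ Q = ⊥ := by
    refine disjoint_iff.1 (Coprime.disjoint_of_coprime_card ?_)
    obtain ⟨k, hk⟩ := IsPGroup.iff_card.1 hQp
    rw [hk]; exact hDq.pow_right k
  have hQfix : Q ⊓ centralizer (zpowers z : Set G) ≤ centralizer (D : Set G) := by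
    rintro c ⟨hcQ, hcz⟩
    refine mem_centralizer_iff.2 fun d hd => ?_
    have hcz' : c ∈ centralizer ({z} : Set G) :=
      mem_centralizer_singleton_iff.2 (mem_centralizer_iff.1 hcz z (mem_zpowers z)).symm
    have hcH : c ∈ H := hNH (hQN hcQ)
    have h1 : ⁅d, c⁆ ∈ D ⊓ Q := by
      constructor
      · have := (mem_normalizer_iff.1 (hDn ⟨hcH, hcz'⟩) d⁻¹).1 (inv_mem hd)
        rw [commutatorElement_def, mul_assoc, mul_assoc]
        exact mul_mem hd (by simpa [mul_assoc] using this)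
      · have := (mem_normalizer_iff.1 (hHQ (hDH hd)) c).1 hcQ
        rw [commutatorElement_def]
        exact Q.mul_mem this (Q.inv_mem hcQ)
    rw [hDQbot, mem_bot, commutatorElement_eq_one_iff_mul_comm] at h1
    exact h1
  have hzQD : D ≤ centralizer (zpowers z : Set G) := fun d hd => by
    refine mem_centralizer_iff.2 fun w hw => ?_
    obtain ⟨k, rfl⟩ := mem_zpowers_iff.1 hw
    exact (Commute.zpow_left (show Commute z d from (mem_centralizer_singleton_iff.1 (hD hd).2).symm) k).eq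
  have hQD : ⁅Q, D⁆ = ⊥ := Coprime.commutator_eq_bot_of_AxB Q (zpowers z) D hQp hz hDq
    (zpowers_le.2 (hHQ hzH)) (hDH.trans hHQ) hzQD hQfix
  have hDC : D ≤ centralizer (Q : Set G) := le_centralizer_iff.1 (commutator_eq_bot_iff_le_centralizer.1 hQD)
  have h1 : ⁅D, P⁆ = ⊥ := by
    refine le_bot_iff.1 (le_of_le_of_eq (le_inf (Coprime.commutator_le_of_le_normalizer hDP) ?_) hDQbot)
    refine le_trans (le_inf (commutator_mono hDH le_rfl) ?_) hNQ
    exact (Coprime.commutator_le_of_le_normalizer hDP).trans hDC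
  refine ⟨h1, ?_⟩
  set C := H ⊓ centralizer (Q : Set G) with hC
  have hHC : H ≤ normalizer (C : Set G) := by
    intro h hh
    refine mem_normalizer_iff_map_conj_eq.2 ?_
    refine eq_of_le_of_card_ge ?_ (card_map_of_injective (MulAut.conj h).injective).ge
    rintro _ ⟨c, ⟨hcH, hcQ⟩, rfl⟩
    refine ⟨H.mul_mem (H.mul_mem hh hcH) (H.inv_mem hh), mem_centralizer_iff.2 fun w hw => ?_⟩
    have hw' : h⁻¹ * w * h ∈ Q := by
      simpa using (mem_normalizer_iff.1 (inv_mem (hHQ hh)) w).1 hw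
    have := congrArg (fun u => h * u * h⁻¹) (mem_centralizer_iff.1 hcQ _ hw')
    simpa [mul_assoc] using this
  have hPC : P ≤ normalizer (C : Set G) := by
    intro a ha
    refine mem_normalizer_iff_map_conj_eq.2 ?_
    refine eq_of_le_of_card_ge ?_ (card_map_of_injective (MulAut.conj a).injective).ge
    rintro _ ⟨c, ⟨hcH, hcQ⟩, rfl⟩
    refine ⟨(inferInstance : H.Normal).conj_mem c hcH a, mem_centralizer_iff.2 fun w hw => ?_⟩
    have hw' : a⁻¹ * w * a ∈ Q := by
      simpa using (mem_normalizer_iff.1 (inv_mem (hPQ ha)) w).1 hw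
    have := congrArg (fun u => a * u * a⁻¹) (mem_centralizer_iff.1 hcQ _ hw')
    simpa [mul_assoc] using this
  set E0 := E ⊓ centralizer (Q : Set G) with hE0
  have hE0C : E0 ≤ C := fun x hx => ⟨(hE hx.1).1, hx.2⟩
  have hCE : C ≤ normalizer (E0 : Set G) := by
    intro c hc
    obtain ⟨m, hm, c', hc', rfl⟩ := Coprime.le_commutator_sup_centralizer hPC
      (hPH.coprime_dvd_right (card_dvd_of_le inf_le_left)) (Or.inl hPs) hc
    refine mul_mem ?_ ?_
    · have hmN : m ∈ N := commutator_mono (inf_le_left : C ≤ H) le_rfl hm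
      have hmC : m ∈ C := Coprime.commutator_le_of_le_normalizer hPC hm
      have hmQ : m ∈ Q := hNQ ⟨hmN, hmC.2⟩
      refine centralizer_le_normalizer (E0 : Set G) (mem_centralizer_iff.2 fun e he => ?_)
      exact (mem_centralizer_iff.1 he.2 m hmQ).symm
    · refine mem_normalizer_iff_map_conj_eq.2 ?_
      refine eq_of_le_of_card_ge ?_ (card_map_of_injective (MulAut.conj c').injective).ge
      rintro _ ⟨e, ⟨heE, heQ⟩, rfl⟩
      refine ⟨(mem_normalizer_iff.1 (hEn ⟨hc'.1.1, hc'.2⟩) e).1 heE, ?_⟩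
      exact (centralizer (Q : Set G)).mul_mem ((centralizer (Q : Set G)).mul_mem hc'.1.2 heQ)
        ((centralizer (Q : Set G)).inv_mem hc'.1.2)
  have hE0q : (Nat.card E0).Coprime q := hEq.coprime_dvd_left (card_dvd_of_le inf_le_left)
  have hle : E0 ≤ (Cfsg.pPrimeCore q C).map C.subtype := by
    have hn : (E0.subgroupOf C).Normal := (normal_subgroupOf_iff_le_normalizer hE0C).2 hCE
    have h2 := Core.le_pPrimeCore' (p := q) hn
      (by rw [Nat.card_congr (subgroupOfEquivOfLe hE0C).toEquiv]; exact hE0q)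
    intro x hx
    exact ⟨⟨x, hE0C hx⟩, h2 hx, rfl⟩
  rw [hO _ ((map_subtype_le _).trans inf_le_left) (hHC.trans (Core.normalizer_le_normalizer_map_char _))
    (by rw [Core.card_map_subtype]; exact Core.pPrimeCore_coprime q C)] at hle
  exact le_bot_iff.1 (le_trans (fun x hx => ⟨hx.2, hDC hx.1⟩ : D ⊓ E ≤ E0) hle)

theorem map_centralizer_singleton {G : Type u} [Group G] [Finite G] {q : ℕ} [hq : Fact q.Prime]
    (H K : Subgroup G) [K.Normal] (hKH : K ≤ H) (hK : (Nat.card K).Coprime q) (z : G)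
    (hz : IsPGroup q (zpowers z)) :
    H.map (QuotientGroup.mk' K) ⊓ centralizer ({QuotientGroup.mk' K z} : Set (G ⧸ K)) ≤
      (H ⊓ centralizer ({z} : Set G)).map (QuotientGroup.mk' K) := by
  set f := QuotientGroup.mk' K
  rintro _ ⟨⟨x, hx, rfl⟩, hxz⟩
  have hxz' := mem_centralizer_singleton_iff.1 hxz
  obtain ⟨k, hk⟩ := IsPGroup.iff_card.1 hz
  have hcop : (Nat.card (zpowers z)).Coprime (Nat.card K) := by rw [hk]; exact hK.symm.pow_left k
  have hsol : Group.IsSolvable (zpowers z) := solvable_of_pGroup _ hz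
  set B := (zpowers z).map (MulAut.conj x).toMonoidHom with hB
  have hmem : x * z * x⁻¹ * z⁻¹ ∈ K := by
    refine (QuotientGroup.eq_one_iff _).1 ?_
    show f (x * z * x⁻¹ * z⁻¹) = 1
    rw [map_mul, map_mul, map_mul, map_inv, map_inv, hxz', mul_inv_cancel_right, mul_inv_cancel]
  have hBle : B ≤ K ⊔ zpowers z := by
    rw [hB, MonoidHom.map_zpowers, zpowers_le]
    show x * z * x⁻¹ ∈ _
    rw [show x * z * x⁻¹ = (x * z * x⁻¹ * z⁻¹) * z by group]
    exact mul_mem (mem_sup_left hmem) (mem_sup_right (mem_zpowers z))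
  obtain ⟨n, hn, hn'⟩ := Coprime.exists_conj_of_coprime K (zpowers z) B le_normalizer_of_normal hcop
    (Or.inl hsol) hBle (card_map_of_injective (MulAut.conj x).injective)
  refine ⟨n⁻¹ * x, ⟨H.mul_mem (H.inv_mem (hKH hn)) hx, mem_centralizer_singleton_iff.2 ?_⟩, ?_⟩
  · obtain ⟨w, hw, hwe⟩ : x * z * x⁻¹ ∈ (zpowers z).map (MulAut.conj n).toMonoidHom :=
      hn' ▸ ⟨z, mem_zpowers z, rfl⟩
    have hwe' : n * w * n⁻¹ = x * z * x⁻¹ := hwe
    have hfw : f w = f z := by
      have h1 := congrArg f hwe'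
      rw [map_mul, map_mul, map_mul, map_mul, map_inv, map_inv, show f n = 1 from (QuotientGroup.eq_one_iff n).2 hn,
        one_mul, inv_one, mul_one, hxz', mul_inv_cancel_right] at h1
      exact h1
    have hwz : w = z := by
      have h1 : w * z⁻¹ ∈ K ⊓ zpowers z := ⟨(QuotientGroup.eq_one_iff _).1 (by
        show f (w * z⁻¹) = 1
        rw [map_mul, hfw, map_inv, mul_inv_cancel]), (zpowers z).mul_mem hw ((zpowers z).inv_mem (mem_zpowers z))⟩
      rw [disjoint_iff.1 (Coprime.disjoint_of_coprime_card hcop.symm), mem_bot] at h1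
      exact mul_inv_eq_one.1 h1
    subst hwz
    calc n⁻¹ * x * w = n⁻¹ * (x * w * x⁻¹) * x := by group
      _ = n⁻¹ * (n * w * n⁻¹) * x := by rw [hwe']
      _ = w * (n⁻¹ * x) := by group
  · rw [map_mul, map_inv, show f n = 1 from (QuotientGroup.eq_one_iff n).2 hn, inv_one, one_mul]

/-- Let G be a finite group with Sylow p-subgroup P and H = O_{p'}(G), and suppose G = PH and the commutator subgroup [H, P] is solvable. Let q be a prime and z an element of q-power order of C_H(P). Then (O_{q'}(C_H(z)) ∩ O_{q'}(C_H(P))) · [O_{q'}(C_H(z)), P] ≤ O_{q'}(H). -/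
theorem result {G : Type*} [Group G] [Finite G] {p : ℕ} [Fact p.Prime]
    (P : Sylow p G) (hPH : Cfsg.pPrimeCore p G ⊔ (P : Subgroup G) = ⊤)
    (hsol : Group.IsSolvable ↥⁅Cfsg.pPrimeCore p G, (P : Subgroup G)⁆)
    {q : ℕ} [Fact q.Prime] (z : G) (hzH : z ∈ Cfsg.pPrimeCore p G) (hzP : z ∈ Subgroup.centralizer ((P : Subgroup G) : Set G))
    (hz : ∃ k : ℕ, orderOf z = q ^ k) :
    ((Cfsg.pPrimeCore q ↥(Cfsg.pPrimeCore p G ⊓ Subgroup.centralizer ({z} : Set G))).map
        (Cfsg.pPrimeCore p G ⊓ Subgroup.centralizer ({z} : Set G)).subtype ⊓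
      (Cfsg.pPrimeCore q ↥(Cfsg.pPrimeCore p G ⊓ Subgroup.centralizer ((P : Subgroup G) : Set G))).map
        (Cfsg.pPrimeCore p G ⊓ Subgroup.centralizer ((P : Subgroup G) : Set G)).subtype) ⊔
    ⁅(Cfsg.pPrimeCore q ↥(Cfsg.pPrimeCore p G ⊓ Subgroup.centralizer ({z} : Set G))).map
        (Cfsg.pPrimeCore p G ⊓ Subgroup.centralizer ({z} : Set G)).subtype, (P : Subgroup G)⁆ ≤
    (Cfsg.pPrimeCore q ↥(Cfsg.pPrimeCore p G)).map (Cfsg.pPrimeCore p G).subtype := by
  set H := Cfsg.pPrimeCore p G with hH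
  set Pg : Subgroup G := (P : Subgroup G) with hPg
  have hPp : IsPGroup p Pg := P.isPGroup'
  have hcopPH : (Nat.card Pg).Coprime (Nat.card H) := by
    obtain ⟨k, hk⟩ := IsPGroup.iff_card.1 hPp
    rw [hk]
    exact (Cfsg.Lib.Core.pPrimeCore_coprime p G).symm.pow_left k
  have hPs := solvable_of_pGroup Pg hPp
  set K := (Cfsg.pPrimeCore q ↥H).map H.subtype with hK
  haveI : K.Normal := Cfsg.Lib.Core.normal_map_char_of_normal _
  have hKq : (Nat.card K).Coprime q := by
    rw [hK, Cfsg.Lib.Core.card_map_subtype]; exact Cfsg.Lib.Core.pPrimeCore_coprime q H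
  have hKH : K ≤ H := Subgroup.map_subtype_le _
  set f := QuotientGroup.mk' K with hf
  have hfs : Function.Surjective f := QuotientGroup.mk'_surjective K
  haveI : (H.map f).Normal := Subgroup.Normal.map inferInstance f hfs
  set Cz := H ⊓ Subgroup.centralizer ({z} : Set G) with hCz
  set CP := H ⊓ Subgroup.centralizer (Pg : Set G) with hCP
  set D := (Cfsg.pPrimeCore q ↥Cz).map Cz.subtype with hD
  set E := (Cfsg.pPrimeCore q ↥CP).map CP.subtype with hE
  have hz' : IsPGroup q (Subgroup.zpowers z) := by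
    obtain ⟨k, hk⟩ := hz
    exact IsPGroup.of_card (n := k) (by rw [Nat.card_zpowers, hk])
  have hzP' : f z ∈ Subgroup.centralizer ((Pg.map f : Subgroup (G ⧸ K)) : Set (G ⧸ K)) := by
    refine Subgroup.mem_centralizer_iff.2 ?_
    rintro _ ⟨a, ha, rfl⟩
    rw [← map_mul, ← map_mul, Subgroup.mem_centralizer_iff.1 hzP a ha]
  have hPD : Pg ≤ Subgroup.normalizer (D : Set G) := by
    refine le_trans (fun a ha => ?_) (Cfsg.Lib.Core.normalizer_le_normalizer_map_char _)
    refine Subgroup.mem_normalizer_iff_map_conj_eq.2 ?_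
    refine Subgroup.eq_of_le_of_card_ge ?_ (Subgroup.card_map_of_injective (MulAut.conj a).injective).ge
    rintro _ ⟨c, ⟨hcH, hcz⟩, rfl⟩
    refine ⟨(inferInstance : H.Normal).conj_mem c hcH a, Subgroup.mem_centralizer_singleton_iff.2 ?_⟩
    have h1 : a * z = z * a := Subgroup.mem_centralizer_iff.1 hzP a ha
    have h2 : c * z = z * c := Subgroup.mem_centralizer_singleton_iff.1 hcz
    show a * c * a⁻¹ * z = z * (a * c * a⁻¹)
    exact ((Commute.mul_left (show Commute a z from h1) h2).mul_left (show Commute a z from h1).inv_left).eq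
  have hcardq : ∀ S : Subgroup G, (Nat.card S).Coprime q → (Nat.card (S.map f)).Coprime q := fun S h =>
    h.coprime_dvd_left (Cfsg.Lib.Core.card_map_dvd f S)
  obtain ⟨h1, h2⟩ := core (q := q) (H.map f) (Pg.map f)
    ((hcopPH.coprime_dvd_left (Cfsg.Lib.Core.card_map_dvd f Pg)).coprime_dvd_right
      (Cfsg.Lib.Core.card_map_dvd f H))
    (solvable_of_pGroup _ (hPp.map f))
    (fun K' hle hn hq' => by
      set K1 := K'.comap f with hK1
      have hK1H : K1 ≤ H := fun x hx => by
        obtain ⟨y, hy, hxy⟩ := hle hx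
        have : y⁻¹ * x ∈ K := (QuotientGroup.eq.1 hxy : _)
        simpa using mul_mem hy (hKH this)
      have hn1 : H ≤ Subgroup.normalizer (K1 : Set G) := fun h hh =>
        Subgroup.mem_normalizer_iff.2 fun x => by
          rw [hK1, Subgroup.mem_comap, Subgroup.mem_comap, map_mul, map_mul, map_inv]
          exact Subgroup.mem_normalizer_iff.1 (hn ⟨h, hh, rfl⟩) _
      have hnorm : (K1.subgroupOf H).Normal := (Subgroup.normal_subgroupOf_iff_le_normalizer hK1H).2 hn1
      have hc : (Nat.card K1).Coprime q := by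
        rw [hK1, Cfsg.Lib.Core.card_comap_eq f hfs, hf, QuotientGroup.ker_mk']
        exact hKq.mul_left hq'
      have hle2 := Cfsg.Lib.Core.le_pPrimeCore' (p := q) hnorm
        (by rw [Nat.card_congr (Subgroup.subgroupOfEquivOfLe hK1H).toEquiv]; exact hc)
      refine eq_bot_iff.2 fun y hy => ?_
      obtain ⟨x, rfl⟩ := hfs y
      rw [Subgroup.mem_bot]
      exact (QuotientGroup.eq_one_iff x).2 ⟨⟨x, hK1H hy⟩, hle2 hy, rfl⟩)
    (by
      rw [← Subgroup.map_commutator]
      haveI := hsol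
      exact Group.isSolvable_of_surjective (f.subgroupMap_surjective ⁅H, Pg⁆))
    (f z) (Subgroup.mem_map_of_mem f hzH) hzP'
    (by rw [← MonoidHom.map_zpowers]; exact hz'.map f)
    (D.map f)
    (by
      refine (Subgroup.map_mono (Subgroup.map_subtype_le _)).trans ?_
      rintro _ ⟨x, ⟨hxH, hxz⟩, rfl⟩
      refine ⟨⟨x, hxH, rfl⟩, Subgroup.mem_centralizer_singleton_iff.2 ?_⟩
      rw [← map_mul, ← map_mul, Subgroup.mem_centralizer_singleton_iff.1 hxz])
    (by
      refine (map_centralizer_singleton H K hKH hKq z hz').trans ?_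
      refine le_trans (Subgroup.map_mono ?_) (Subgroup.le_normalizer_map f)
      exact Subgroup.le_normalizer.trans (Cfsg.Lib.Core.normalizer_le_normalizer_map_char _))
    ((Subgroup.map_mono hPD).trans (Subgroup.le_normalizer_map f))
    (hcardq D (by rw [hD, Cfsg.Lib.Core.card_map_subtype]; exact Cfsg.Lib.Core.pPrimeCore_coprime q Cz))
    (E.map f)
    (by
      rw [← Cfsg.Lib.Coprime.map_inf_centralizer_eq f Subgroup.le_normalizer_of_normal hcopPH (Or.inl hPs)]
      exact Subgroup.map_mono (Subgroup.map_subtype_le _))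
    (by
      rw [← Cfsg.Lib.Coprime.map_inf_centralizer_eq f Subgroup.le_normalizer_of_normal hcopPH (Or.inl hPs)]
      refine le_trans (Subgroup.map_mono ?_) (Subgroup.le_normalizer_map f)
      exact Subgroup.le_normalizer.trans (Cfsg.Lib.Core.normalizer_le_normalizer_map_char _))
    (hcardq E (by rw [hE, Cfsg.Lib.Core.card_map_subtype]; exact Cfsg.Lib.Core.pPrimeCore_coprime q CP))
  refine sup_le ?_ ?_
  · intro x hx
    have : f x ∈ D.map f ⊓ E.map f := ⟨⟨x, hx.1, rfl⟩, ⟨x, hx.2, rfl⟩⟩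
    rw [h2, Subgroup.mem_bot] at this
    exact (QuotientGroup.eq_one_iff x).1 this
  · refine Subgroup.commutator_le.2 fun d hd a ha => ?_
    have := Subgroup.commutator_mem_commutator (Subgroup.mem_map_of_mem f hd) (Subgroup.mem_map_of_mem f ha)
    rw [h1, Subgroup.mem_bot, ← map_commutatorElement] at this
    exact (QuotientGroup.eq_one_iff _).1 this

end Cfsg.Agent.S3819
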