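import Cfsg.Statements.S3820
-- import your own Cfsg.Agent.* helpers here

set_option autoImplicit false
open Cfsg

namespace Cfsg.Agent.S3820

open Subgroup

theorem map_conj_mul {G : Type*} [Group G] (K : Subgroup G) (a b : G) :
    K.map (MulAut.conj (a * b)).toMonoidHom = (K.map (MulAut.conj b).toMonoidHom).map (MulAut.conj a).toMonoidHom := by
  rw [Subgroup.map_map]
  exact congrArg (fun f => K.map f) (MonoidHom.ext fun x => by simp [mul_assoc])

theorem map_conj_of_normalizer {G : Type*} [Group G] (K : Subgroup G) {a : G} (ha : a ∈ normalizer (K : Set G)) :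
    K.map (MulAut.conj a).toMonoidHom = K := by
  ext z
  constructor
  · rintro ⟨x, hx, rfl⟩; exact (mem_normalizer_iff.mp ha x).mp hx
  · intro hz
    refine ⟨a⁻¹ * z * a, (mem_normalizer_iff.mp ha _).mpr ?_, by simp [mul_assoc]⟩
    simpa [mul_assoc] using hz

theorem mem_normalizer_of_map_conj {G : Type*} [Group G] (K : Subgroup G) {a : G}
    (ha : K.map (MulAut.conj a).toMonoidHom = K) : a ∈ normalizer (K : Set G) := by
  rw [mem_normalizer_iff]
  intro h
  constructor
  · intro hh; rw [← ha]; exact ⟨h, hh, rfl⟩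
  · intro hh
    rw [← ha] at hh
    obtain ⟨y, hy, he⟩ := hh
    simp only [MulEquiv.coe_toMonoidHom, MulAut.conj_apply, mul_left_inj, mul_right_inj] at he
    exact he ▸ hy

/-- Call a subgroup H of G pronormal if H and gHg⁻¹ are conjugate inside ⟨H, gHg⁻¹⟩ for every g ∈ G. Let S ≤ H ≤ G be subgroups of a finite group with S pronormal in G (for instance S a Sylow subgroup). Then H is pronormal in G if and only if H and gHg⁻¹ are conjugate inside ⟨H, gHg⁻¹⟩ for every g ∈ N_G(S). In particular H is pronormal whenever N_G(S) ≤ H. -/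
theorem result {G : Type*} [Group G] [Finite G] (S H : Subgroup G) (hSH : S ≤ H)
    (hS : Cfsg.IsPronormal S) :
    Cfsg.IsPronormal H ↔
      ∀ g ∈ Subgroup.normalizer (S : Set G), ∃ w ∈ H ⊔ H.map (MulAut.conj g).toMonoidHom,
        H.map (MulAut.conj g).toMonoidHom = H.map (MulAut.conj w).toMonoidHom := by
  refine ⟨fun h g _ => h g, fun h g => ?_⟩
  set J := H ⊔ H.map (MulAut.conj g).toMonoidHom
  obtain ⟨y, hy, hye⟩ := hS g
  have hyJ : y ∈ J := sup_le_sup hSH (map_mono hSH) hy
  have hn : y⁻¹ * g ∈ normalizer (S : Set G) := mem_normalizer_of_map_conj S (by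
    rw [map_conj_mul, hye, ← map_conj_mul, inv_mul_cancel, map_one]
    exact Subgroup.map_id S)
  obtain ⟨w, hw, hwe⟩ := h _ hn
  have hwJ : w ∈ J := by
    refine (show H ⊔ H.map (MulAut.conj (y⁻¹ * g)).toMonoidHom ≤ J from sup_le le_sup_left ?_) hw
    rintro _ ⟨x, hx, rfl⟩
    have h1 : g * x * g⁻¹ ∈ J := le_sup_right (a := H) ⟨x, hx, rfl⟩
    simpa [mul_assoc] using mul_mem (mul_mem (inv_mem hyJ) h1) hyJ
  refine ⟨y * w, mul_mem hyJ hwJ, ?_⟩
  rw [map_conj_mul H y w, ← hwe, ← map_conj_mul, mul_inv_cancel_left]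

end Cfsg.Agent.S3820
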