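import Cfsg.Statements.S3821
import Cfsg.Agent.S3820
-- import your own Cfsg.Agent.* helpers here

set_option autoImplicit false
open Cfsg

namespace Cfsg.Agent.S3821

open Subgroup
open Cfsg.Agent.S3820 (map_conj_mul map_conj_of_normalizer mem_normalizer_of_map_conj)

theorem map_conj_subgroupOf {G : Type*} [Group G] {A H : Subgroup G} (hHA : H ≤ A) (a : A) :
    ((H.subgroupOf A).map (MulAut.conj a).toMonoidHom).map A.subtype = H.map (MulAut.conj (a : G)).toMonoidHom := by
  conv_rhs => rw [← map_subgroupOf_eq_of_le hHA]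
  rw [Subgroup.map_map, Subgroup.map_map]
  rfl

/-- Let A be a normal subgroup of the finite group G and H a subgroup of A. Then H is pronormal in G (H and gHg⁻¹ conjugate inside ⟨H, gHg⁻¹⟩ for every g ∈ G) if and only if H is pronormal in A and G = A · N_G(H). -/
theorem result {G : Type*} [Group G] [Finite G] (A H : Subgroup G) [A.Normal] (hHA : H ≤ A) :
    Cfsg.IsPronormal H ↔ (Cfsg.IsPronormal (H.subgroupOf A) ∧ A ⊔ Subgroup.normalizer (H : Set G) = ⊤) := by
  constructor
  · intro h
    refine ⟨fun a => ?_, ?_⟩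
    · obtain ⟨x, hx, he⟩ := h a
      have hle : H ⊔ H.map (MulAut.conj (a : G)).toMonoidHom =
          ((H.subgroupOf A) ⊔ (H.subgroupOf A).map (MulAut.conj a).toMonoidHom).map A.subtype := by
        rw [Subgroup.map_sup, map_conj_subgroupOf hHA, map_subgroupOf_eq_of_le hHA]
      rw [hle] at hx
      obtain ⟨y, hy, rfl⟩ := hx
      refine ⟨y, hy, map_injective A.subtype_injective ?_⟩
      rw [map_conj_subgroupOf hHA, map_conj_subgroupOf hHA]
      exact he
    · refine eq_top_iff.mpr fun g _ => ?_
      obtain ⟨x, hx, he⟩ := h g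
      have hxA : x ∈ A := sup_le hHA (by
        rintro _ ⟨y, hy, rfl⟩
        exact ‹A.Normal›.conj_mem y (hHA hy) g) hx
      have hn : x⁻¹ * g ∈ normalizer (H : Set G) := mem_normalizer_of_map_conj H (by
        rw [map_conj_mul, he, ← map_conj_mul, inv_mul_cancel, map_one]
        exact Subgroup.map_id H)
      rw [← mul_inv_cancel_left x g]
      exact mul_mem (mem_sup_left hxA) (mem_sup_right hn)
  · rintro ⟨hA, htop⟩ g
    obtain ⟨a, ha, n, hn, rfl⟩ := mem_sup_of_normal_left.mp (htop ▸ mem_top g)
    obtain ⟨x, hx, he⟩ := hA ⟨a, ha⟩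
    refine ⟨x, ?_, ?_⟩
    · rw [map_conj_mul, map_conj_of_normalizer H hn]
      have := mem_map_of_mem A.subtype hx
      rwa [Subgroup.map_sup, map_conj_subgroupOf hHA, map_subgroupOf_eq_of_le hHA] at this
    · rw [map_conj_mul, map_conj_of_normalizer H hn]
      have := congrArg (fun K => K.map A.subtype) he
      simpa only [map_conj_subgroupOf hHA] using this

end Cfsg.Agent.S3821
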