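import Cfsg.Statements.S3822
import Cfsg.Agent.Lib.Solv.FixedHalf.Main
import Cfsg.Agent.Lib.Core.Fitting
-- import your own Cfsg.Agent.* helpers here

set_option autoImplicit false
open Cfsg

namespace Cfsg.Agent.S3822

open scoped commutatorElement
open Cfsg.Lib.Solv

universe u

/-- An element of order `p ≥ 5` whose conjugates generate the operators fixes less than a square root of an
irreducible nontrivial elementary abelian section. -/
theorem card_fixed_sq_lt {H : Type u} [Group H] [Finite H] (A : Subgroup H) [Group.IsSolvable A] (W : Subgroup H)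
    {r p : ℕ} (hr : r.Prime) (hp : p.Prime) (hp5 : 5 ≤ p) (hWc : ∀ x ∈ W, ∀ y ∈ W, x * y = y * x)
    (hWr : ∀ x ∈ W, x ^ r = 1) (hAW : ∀ a ∈ A, ∀ x ∈ W, a * x * a⁻¹ ∈ W)
    (hirr : ∀ U : Subgroup H, U ≤ W → (∀ a ∈ A, ∀ x ∈ U, a * x * a⁻¹ ∈ U) → U = ⊥ ∨ U = W)
    (hne : ∃ a ∈ A, ∃ x ∈ W, a * x * a⁻¹ ≠ x) (g : A) (hg : g ^ p = 1)
    (hgen : Subgroup.normalClosure {g} = ⊤) :
    Nat.card {x : W // (g : H) * x * (g : H)⁻¹ = x} ^ 2 < Nat.card W := by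
  classical
  haveI : Fact r.Prime := ⟨hr⟩
  letI : CommGroup W := { (inferInstance : Group W) with mul_comm := fun x y => Subtype.ext (hWc _ x.2 _ y.2) }
  haveI : Module (ZMod r) (Additive W) := AddCommGroup.zmodModule fun x => by
    show x.toMul ^ r = 1
    exact Subtype.ext (by rw [Subgroup.coe_pow]; exact hWr _ x.toMul.2)
  let r₀ : A → Module.End (ZMod r) (Additive W) := fun a =>
    AddMonoidHom.toZModLinearMap r (AddMonoidHom.mk' (fun y : Additive W =>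
      Additive.ofMul (⟨(a : H) * y.toMul.1 * (a : H)⁻¹, hAW a a.2 _ y.toMul.2⟩ : W)) fun y z => by
        refine Additive.toMul.injective (Subtype.ext ?_)
        show (a : H) * (y.toMul.1 * z.toMul.1) * (a : H)⁻¹ = (a : H) * y.toMul.1 * (a : H)⁻¹ * ((a : H) * z.toMul.1 * (a : H)⁻¹)
        group)
  have hr₀ : ∀ a (y : Additive W), ((r₀ a y).toMul).1 = (a : H) * y.toMul.1 * (a : H)⁻¹ := fun a y => rfl
  obtain ⟨ρ, hρ⟩ : ∃ ρ : A →* Module.End (ZMod r) (Additive W),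
      ∀ a (y : Additive W), ((ρ a y).toMul).1 = (a : H) * y.toMul.1 * (a : H)⁻¹ := ⟨
    { toFun := r₀
      map_one' := LinearMap.ext fun y => Additive.toMul.injective (Subtype.ext (by rw [hr₀]; simp))
      map_mul' := fun a b => LinearMap.ext fun y => Additive.toMul.injective (Subtype.ext (by
        rw [hr₀, Module.End.mul_apply, hr₀, hr₀]; simp [mul_assoc])) }, hr₀⟩
  have hgker : g ∉ ρ.ker := by
    intro hgk
    obtain ⟨a, ha, x, hx, hax⟩ := hne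
    have hall : ρ.ker = ⊤ := top_le_iff.1 (hgen ▸ Subgroup.normalClosure_le_normal (Set.singleton_subset_iff.2 hgk))
    have h1 := LinearMap.congr_fun (MonoidHom.mem_ker.1 (hall ▸ Subgroup.mem_top (⟨a, ha⟩ : A) : (⟨a, ha⟩ : A) ∈ ρ.ker))
      (Additive.ofMul (⟨x, hx⟩ : W))
    have h2 := congrArg (fun y : Additive W => y.toMul.1) h1
    simp only [hρ] at h2
    exact hax h2
  obtain ⟨ρ', hρ', hinj⟩ : ∃ ρ' : A ⧸ ρ.ker →* Module.End (ZMod r) (Additive W),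
      (∀ x : A, ρ' (x : A ⧸ ρ.ker) = ρ x) ∧ Function.Injective ρ' :=
    ⟨QuotientGroup.lift ρ.ker ρ le_rfl, fun _ => rfl, by
      intro a b h
      induction a using QuotientGroup.induction_on with
      | _ a =>
      induction b using QuotientGroup.induction_on with
      | _ b =>
      refine QuotientGroup.eq.2 (MonoidHom.mem_ker.2 ?_)
      rw [map_mul, ← show ρ a = ρ b from h, ← map_mul, inv_mul_cancel, map_one]⟩
  have hgen' : Subgroup.normalClosure {(g : A ⧸ ρ.ker)} = ⊤ := by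
    have h := Subgroup.map_normalClosure {g} (QuotientGroup.mk' ρ.ker) (QuotientGroup.mk'_surjective ρ.ker)
    rw [hgen, Subgroup.map_top_of_surjective _ (QuotientGroup.mk'_surjective ρ.ker), Set.image_singleton] at h
    exact h.symm
  have hg' : (g : A ⧸ ρ.ker) ^ p = 1 := by rw [← QuotientGroup.mk_pow, hg]; rfl
  haveI : Group.IsSolvable (A ⧸ ρ.ker) := Group.isSolvable_of_surjective (QuotientGroup.mk'_surjective ρ.ker)
  haveI : Module.Finite (ZMod r) (Additive W) := Module.Finite.of_finite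
  haveI : Nontrivial (Additive W) := by
    obtain ⟨a, -, x, hx, hax⟩ := hne
    refine ⟨⟨Additive.ofMul (⟨x, hx⟩ : W), 0, fun h => hax ?_⟩⟩
    rw [show x = 1 from congrArg (fun y : Additive W => y.toMul.1) h]; simp
  have hb := FixedHalf.bound_irr hp hp5 hg' (fun h => hgker ((QuotientGroup.eq_one_iff g).1 h)) hgen'
    (FixedHalf.smallSections hp hp5 _ _ _ rfl hg' hgen') ρ' hinj (by
      intro U hU
      let M : Subgroup H :=
        { carrier := {x | ∃ hx : x ∈ W, Additive.ofMul (⟨x, hx⟩ : W) ∈ U}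
          one_mem' := ⟨one_mem W, zero_mem U⟩
          mul_mem' := fun {a b} ⟨ha, ha'⟩ ⟨hb, hb'⟩ => ⟨mul_mem ha hb, add_mem ha' hb'⟩
          inv_mem' := fun {a} ⟨ha, ha'⟩ => ⟨inv_mem ha, neg_mem ha'⟩ }
      rcases hirr M (fun x hx => hx.1) (fun a ha x ⟨hx, hx'⟩ => ⟨hAW a ha x hx, by
        have h1 := hU ((⟨a, ha⟩ : A) : A ⧸ ρ.ker) _ hx'
        rw [hρ'] at h1
        rwa [show ρ ⟨a, ha⟩ (Additive.ofMul ⟨x, hx⟩) = Additive.ofMul (⟨a * x * a⁻¹, hAW a ha x hx⟩ : W) from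
          Additive.toMul.injective (Subtype.ext (by rw [hρ]; rfl))] at h1⟩) with h | h
      · refine Or.inl ((Submodule.eq_bot_iff _).2 fun y hy => Additive.toMul.injective (Subtype.ext ?_))
        exact (Subgroup.eq_bot_iff_forall _).1 h y.toMul.1 ⟨y.toMul.2, hy⟩
      · refine Or.inr (Submodule.eq_top_iff'.2 fun y => ?_)
        obtain ⟨_, h1⟩ : y.toMul.1 ∈ M := by rw [h]; exact y.toMul.2
        exact h1)
  have hC : Nat.card {x : W // (g : H) * x * (g : H)⁻¹ = x} = Nat.card (FixedHalf.fixOf ρ' (g : A ⧸ ρ.ker)) :=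
    Nat.card_congr (Additive.ofMul.subtypeEquiv fun x => by
      rw [FixedHalf.mem_fixOf, hρ', ← Additive.toMul.injective.eq_iff, Subtype.ext_iff, hρ]
      rfl)
  rw [hC, ← Nat.card_congr (Additive.ofMul (α := W)).symm,
    Module.natCard_eq_pow_finrank (K := ZMod r) (V := FixedHalf.fixOf ρ' (g : A ⧸ ρ.ker)),
    Module.natCard_eq_pow_finrank (K := ZMod r) (V := Additive W), Nat.card_zmod, ← pow_mul]
  exact Nat.pow_lt_pow_right hr.one_lt (by omega)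

/-- Elements of coprime orders centralising a section and its bottom centralise the whole. -/
theorem eq_one_of_fix {H : Type*} [Group H] {q r e f : ℕ} (hq : q.Prime) (hr : r.Prime) (hqr : q ≠ r) {x y m : H}
    (hx : x ^ q ^ e = 1) (hm : m ^ r ^ f = 1) (hc : x * m = m * x) (h : x * y * x⁻¹ = m * y) : x * y = y * x := by
  have h1 : ∀ k : ℕ, x ^ k * y * (x ^ k)⁻¹ = m ^ k * y := by
    intro k
    induction k with
    | zero => simp
    | succ k ih =>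
      calc x ^ (k + 1) * y * (x ^ (k + 1))⁻¹ = x * (x ^ k * y * (x ^ k)⁻¹) * x⁻¹ := by rw [pow_succ']; group
        _ = (x * m ^ k * x⁻¹) * (x * y * x⁻¹) := by rw [ih]; group
        _ = m ^ (k + 1) * y := by
          rw [((show Commute x m from hc).pow_right k).eq, mul_inv_cancel_right, h, ← mul_assoc, ← pow_succ]
  have h2 := h1 (q ^ e)
  rw [hx, one_mul, inv_one, mul_one] at h2
  have h3 : m = 1 := by
    have := pow_gcd_eq_one.2 ⟨hm, (mul_eq_right.1 h2.symm)⟩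
    rwa [Nat.Coprime.gcd_eq_one (((Nat.coprime_primes hr hq).2 (Ne.symm hqr)).pow f e), pow_one] at this
  rw [h3, one_mul] at h
  exact mul_inv_eq_iff_eq_mul.1 h

/-- A minimal module moved by a normal subgroup of the operators is absorbed by two conjugates. -/
theorem exists_generating {H : Type u} [Group H] [Finite H] [Group.IsSolvable H] {p q r : ℕ} (hp : p.Prime) (hp5 : 5 ≤ p)
    (hq : q.Prime) (hr : r.Prime) (hqr : q ≠ r) (P A R Q : Subgroup H) (hP : Nat.card P = p) (a : H) (ha : a ∈ A)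
    (hA : A = P ⊔ P.map (MulAut.conj a).toMonoidHom) [hRn : R.Normal] (hR : IsPGroup r R) (htop : A ⊔ R = ⊤)
    (hQA : Q ≤ A) (hQ : IsPGroup q Q) (hAQ : ∀ c ∈ A, ∀ x ∈ Q, c * x * c⁻¹ ∈ Q)
    (hQR : ∃ x ∈ Q, ∃ y ∈ R, x * y ≠ y * x)
    (hmin : ∀ M : Subgroup H, M ≤ R → M ≠ R → (∀ c ∈ A, ∀ y ∈ M, c * y * c⁻¹ ∈ M) → ∀ x ∈ Q, ∀ y ∈ M, x * y = y * x) :
    ∃ b : H, P ⊔ P.map (MulAut.conj b).toMonoidHom = ⊤ := by
  classical
  haveI : Fact r.Prime := ⟨hr⟩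
  have hR1 : R ≠ ⊥ := fun h => by
    obtain ⟨x, -, y, hy, hxy⟩ := hQR
    rw [h, Subgroup.mem_bot] at hy
    exact hxy (by rw [hy]; simp)
  obtain ⟨M, ⟨hMn, hMR⟩, hMmax⟩ := wellFounded_gt.has_min {M : Subgroup H | M.Normal ∧ M < R}
    ⟨⊥, inferInstance, bot_lt_iff_ne_bot.2 hR1⟩
  have hMQ : ∀ x ∈ Q, ∀ m ∈ M, x * m = m * x := hmin M hMR.le hMR.ne fun c _ y hy => hMn.conj_mem y hy c
  have hel : ∀ x ∈ Q, ∃ e, x ^ q ^ e = 1 := fun x hx => by
    obtain ⟨e, he⟩ := hQ ⟨x, hx⟩; exact ⟨e, congrArg Subtype.val he⟩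
  have helR : ∀ x ∈ R, ∃ e, x ^ r ^ e = 1 := fun x hx => by
    obtain ⟨e, he⟩ := hR ⟨x, hx⟩; exact ⟨e, congrArg Subtype.val he⟩
  have hMcen : ∀ m ∈ M, ∀ y ∈ R, m * y = y * m := by
    by_cases hC : R ⊓ Subgroup.centralizer (M : Set H) = R
    · intro m hm y hy
      have hy' : y ∈ R ⊓ Subgroup.centralizer (M : Set H) := by rw [hC]; exact hy
      exact Subgroup.mem_centralizer_iff.1 hy'.2 m hm
    exfalso
    obtain ⟨x, hx, y, hy, hxy⟩ := hQR
    have hc : x * y * x⁻¹ * y⁻¹ ∈ R ⊓ Subgroup.centralizer (M : Set H) := by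
      refine Subgroup.mem_inf.2 ⟨mul_mem (hRn.conj_mem y hy x) (inv_mem hy), Subgroup.mem_centralizer_iff.2 fun m hm => ?_⟩
      have h1 : x⁻¹ * m * x = m := by rw [mul_assoc, ← hMQ x hx m hm, inv_mul_cancel_left]
      have h2 := hMQ x hx _ (by simpa using hMn.conj_mem m hm y⁻¹ : y⁻¹ * m * y ∈ M)
      calc m * (x * y * x⁻¹ * y⁻¹) = x * y * ((y⁻¹ * (x⁻¹ * m * x) * y) * x⁻¹) * y⁻¹ := by group
        _ = x * y * (x⁻¹ * (y⁻¹ * m * y)) * y⁻¹ := by
          rw [h1]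
          congr 2
          rw [eq_inv_mul_iff_mul_eq, ← mul_assoc, h2, mul_inv_cancel_right]
        _ = _ := by group
    obtain ⟨e, he⟩ := hel x hx
    obtain ⟨f, hf⟩ := helR _ hc.1
    exact hxy (eq_one_of_fix hq hr hqr he hf
      (hmin _ inf_le_left hC (fun c _ z hz => (inferInstance : (R ⊓ Subgroup.centralizer (M : Set H)).Normal).conj_mem z hz c) x hx _ hc)
      (by group))
  -- the quotient
  obtain ⟨π, hπ⟩ : ∃ π : H →* H ⧸ M, π = QuotientGroup.mk' M := ⟨_, rfl⟩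
  have hπs : Function.Surjective π := hπ ▸ QuotientGroup.mk'_surjective M
  have hπ1 : ∀ x, π x = 1 ↔ x ∈ M := fun x => by rw [hπ]; exact QuotientGroup.eq_one_iff x
  have hπR : ∀ x y, π x = π y → y ∈ R → x ∈ R := fun x y h hy => by
    have h1 : y⁻¹ * x ∈ M := (hπ1 _).1 (by rw [map_mul, map_inv, h, inv_mul_cancel])
    simpa using mul_mem hy (hMR.le h1)
  haveI : Group.IsSolvable (H ⧸ M) := Group.isSolvable_of_surjective hπs
  obtain ⟨W, hW⟩ : ∃ W, W = R.map π := ⟨_, rfl⟩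
  have hWn : W.Normal := hW ▸ hRn.map π hπs
  have hW1 : W ≠ ⊥ := fun h => hMR.not_ge fun y hy => (hπ1 y).1
    ((Subgroup.eq_bot_iff_forall _).1 h _ (hW ▸ ⟨y, hy, rfl⟩))
  have hWmin : ∀ U : Subgroup (H ⧸ M), U.Normal → U ≤ W → U = ⊥ ∨ U = W := by
    intro U hU hUW
    have hle : U.comap π ≤ R := fun x hx => by
      obtain ⟨y, hy, e⟩ := (hW ▸ hUW hx : π x ∈ R.map π)
      exact hπR x y e.symm hy
    rcases hle.eq_or_lt with h | h
    · exact Or.inr (by rw [hW, ← h, Subgroup.map_comap_eq_self_of_surjective hπs])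
    · refine Or.inl ((Subgroup.eq_bot_iff_forall _).2 fun x hx => ?_)
      obtain ⟨y, rfl⟩ := hπs x
      by_contra hy
      refine hMmax (U.comap π) ⟨inferInstance, h⟩ (lt_of_le_of_ne (fun m hm => ?_) fun e => hy ((hπ1 y).2 (e ▸ hx)))
      show π m ∈ U
      rw [(hπ1 m).2 hm]; exact one_mem U
  have hWc : ∀ x ∈ W, ∀ y ∈ W, x * y = y * x := by
    haveI := hWn
    rcases hWmin ⁅W, W⁆ inferInstance (Subgroup.commutator_le_left W W) with h | h
    · exact fun x hx y hy => commutatorElement_eq_one_iff_mul_comm.1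
        ((Subgroup.eq_bot_iff_forall _).1 h _ (Subgroup.commutator_mem_commutator hx hy))
    · exact absurd h (Group.IsSolvable.commutator_lt_of_ne_bot hW1).ne
  have hWp : IsPGroup r W := hW ▸ hR.map π
  have hWr : ∀ x ∈ W, x ^ r = 1 := by
    let U : Subgroup (H ⧸ M) :=
      { carrier := {x | x ∈ W ∧ x ^ r = 1}
        one_mem' := ⟨one_mem W, one_pow r⟩
        mul_mem' := fun {x y} hx hy => ⟨mul_mem hx.1 hy.1, by
          rw [(show Commute x y from hWc x hx.1 y hy.1).mul_pow, hx.2, hy.2, one_mul]⟩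
        inv_mem' := fun {x} hx => ⟨inv_mem hx.1, by rw [inv_pow, hx.2, inv_one]⟩ }
    rcases hWmin U ⟨fun x hx y => ⟨hWn.conj_mem x hx.1 y, by rw [conj_pow, hx.2, mul_one, mul_inv_cancel]⟩⟩ (fun x hx => hx.1) with h | h
    · exfalso
      haveI : Nontrivial W := (Subgroup.nontrivial_iff_ne_bot W).2 hW1
      obtain ⟨k, hk, hk'⟩ := hWp.nontrivial_iff_card.1 inferInstance
      obtain ⟨x, hx⟩ := exists_prime_orderOf_dvd_card' r (show r ∣ Nat.card W from hk' ▸ dvd_pow_self r hk.ne')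
      have hx1 : (x : H ⧸ M) = 1 := (Subgroup.eq_bot_iff_forall _).1 h _
        ⟨x.2, by rw [← hx, ← Subgroup.coe_pow, pow_orderOf_eq_one, Subgroup.coe_one]⟩
      rw [show x = 1 from Subtype.ext hx1, orderOf_one] at hx
      exact hr.one_lt.ne hx
    · exact fun x hx => (show x ∈ U by rw [h]; exact hx).2
  -- `Q` fixes only the identity of `W`
  obtain ⟨A', hA'⟩ : ∃ A', A' = A.map π := ⟨_, rfl⟩
  obtain ⟨Q', hQ'⟩ : ∃ Q', Q' = Q.map π := ⟨_, rfl⟩
  have hdec : ∀ h : H ⧸ M, ∃ c ∈ A', ∃ w ∈ W, h = w * c := fun h => by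
    obtain ⟨h, rfl⟩ := hπs h
    have : h ∈ R ⊔ A := by rw [sup_comm, htop]; exact Subgroup.mem_top h
    rw [Subgroup.mem_sup_of_normal_left] at this
    obtain ⟨y, hy, c, hc, rfl⟩ := this
    exact ⟨π c, hA' ▸ ⟨c, hc, rfl⟩, π y, hW ▸ ⟨y, hy, rfl⟩, map_mul π y c⟩
  have hAQ' : ∀ c ∈ A', ∀ x ∈ Q', c * x * c⁻¹ ∈ Q' := by
    rw [hA', hQ']
    rintro _ ⟨c, hc, rfl⟩ _ ⟨x, hx, rfl⟩
    exact ⟨c * x * c⁻¹, hAQ c hc x hx, by simp⟩
  have hfree : ∀ w ∈ W, (∀ x ∈ Q', x * w = w * x) → w = 1 := by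
    let U : Subgroup (H ⧸ M) := W ⊓ Subgroup.centralizer (Q' : Set (H ⧸ M))
    have hU : U.Normal := ⟨fun u hu h => by
      obtain ⟨c, hc, w, hw, rfl⟩ := hdec h
      have h1 : c * u * c⁻¹ ∈ U := by
        refine ⟨hWn.conj_mem u hu.1 c, Subgroup.mem_centralizer_iff.2 fun x hx => ?_⟩
        have hx' : c⁻¹ * x * c ∈ Q' := by simpa using hAQ' c⁻¹ (inv_mem hc) x hx
        calc x * (c * u * c⁻¹) = c * ((c⁻¹ * x * c) * u) * c⁻¹ := by group
          _ = c * (u * (c⁻¹ * x * c)) * c⁻¹ := by rw [Subgroup.mem_centralizer_iff.1 hu.2 _ hx']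
          _ = _ := by group
      rwa [show w * c * u * (w * c)⁻¹ = c * u * c⁻¹ by
        calc w * c * u * (w * c)⁻¹ = w * (c * u * c⁻¹) * w⁻¹ := by group
          _ = _ := by rw [hWc w hw _ h1.1, mul_inv_cancel_right]]⟩
    rcases hWmin U hU inf_le_left with h | h
    · exact fun w hw hw' => (Subgroup.eq_bot_iff_forall _).1 h w ⟨hw, Subgroup.mem_centralizer_iff.2 hw'⟩
    exfalso
    obtain ⟨x, hx, y, hy, hxy⟩ := hQR
    have hyU : π y ∈ U := by rw [h, hW]; exact ⟨y, hy, rfl⟩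
    have hm : x * y * x⁻¹ * y⁻¹ ∈ M := (hπ1 _).1 (by
      simp only [map_mul, map_inv]
      rw [Subgroup.mem_centralizer_iff.1 hyU.2 (π x) (hQ' ▸ ⟨x, hx, rfl⟩), mul_inv_cancel_right, mul_inv_cancel])
    obtain ⟨e, he⟩ := hel x hx
    obtain ⟨f, hf⟩ := helR _ (hMR.le hm)
    exact hxy (eq_one_of_fix hq hr hqr he hf (hMQ x hx _ hm) (by group))
  have hQA' : Q' ≤ A' := hA' ▸ hQ' ▸ Subgroup.map_mono hQA
  have hAW : ∀ x ∈ W, x ∈ A' → x = 1 := by
    intro w hw hwA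
    refine hfree w hw fun x hx => ?_
    have h1 : x * w * x⁻¹ * w⁻¹ ∈ Q' := by
      rw [mul_assoc, mul_assoc, ← mul_assoc w]
      exact mul_mem hx (hAQ' w hwA _ (inv_mem hx))
    have h2 : x * w * x⁻¹ * w⁻¹ ∈ W := mul_mem (hWn.conj_mem w hw x) (inv_mem hw)
    haveI : Fact q.Prime := ⟨hq⟩
    have h3 := IsPGroup.disjoint_of_ne q r hqr Q' W (hQ' ▸ hQ.map π) hWp
    rw [Subgroup.disjoint_def] at h3
    have h4 := h3 h1 h2
    rw [mul_inv_eq_one, mul_inv_eq_iff_eq_mul] at h4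
    exact h4
  -- a point outside the product of the two fixed groups
  obtain ⟨⟨g, hgP⟩, hg1⟩ : ∃ g : P, g ≠ 1 := by
    haveI : Nontrivial P := Finite.one_lt_card_iff_nontrivial.1 (by rw [hP]; exact hp.one_lt)
    exact exists_ne 1
  haveI : Fact p.Prime := ⟨hp⟩
  have hgp : g ^ p = 1 := by
    have h := pow_card_eq_one' (x := (⟨g, hgP⟩ : P))
    rw [hP] at h
    exact congrArg Subtype.val h
  have hzP : P = Subgroup.zpowers g := by
    refine (Subgroup.eq_of_le_of_card_ge (Subgroup.zpowers_le.2 hgP) ?_).symm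
    rw [hP, Nat.card_zpowers, orderOf_eq_prime hgp fun h => hg1 (Subtype.ext h)]
  have hgA : π g ∈ A' := hA' ▸ ⟨g, hA ▸ Subgroup.mem_sup_left hgP, rfl⟩
  have haA : π a ∈ A' := hA' ▸ ⟨a, ha, rfl⟩
  have hgenA : Subgroup.normalClosure {(⟨π g, hgA⟩ : A')} = ⊤ := by
    obtain ⟨S, hS⟩ : ∃ S, S = Subgroup.normalClosure {(⟨π g, hgA⟩ : A')} := ⟨_, rfl⟩
    rw [← hS, eq_top_iff]
    have h1 : (⟨π g, hgA⟩ : A') ∈ S := hS ▸ Subgroup.subset_normalClosure (Set.mem_singleton _)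
    have hSn : S.Normal := hS ▸ inferInstance
    have hle : A ≤ (S.map A'.subtype).comap π := by
      rw [hA, hzP, sup_le_iff]
      refine ⟨Subgroup.zpowers_le.2 ⟨_, h1, rfl⟩, ?_⟩
      rw [Subgroup.map_le_iff_le_comap]
      refine Subgroup.zpowers_le.2 ?_
      show π (a * g * a⁻¹) ∈ S.map A'.subtype
      exact ⟨_, hSn.conj_mem _ h1 ⟨π a, haA⟩, by simp⟩
    intro x _
    obtain ⟨c, hc, e⟩ := (hA' ▸ x.2 : x.1 ∈ A.map π)
    obtain ⟨y, hy, e'⟩ := hle hc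
    rwa [show x = y from Subtype.ext (e.symm.trans e'.symm)]
  obtain ⟨C, hC⟩ : ∃ C : Set W, C = {x | π g * x.1 * (π g)⁻¹ = x.1} := ⟨_, rfl⟩
  have hcard : Nat.card C ^ 2 < Nat.card W := by
    rw [hC]
    refine card_fixed_sq_lt A' W hr hp hp5 hWc hWr (fun c _ x hx => hWn.conj_mem x hx c) ?_ ?_ ⟨π g, hgA⟩
      (Subtype.ext (by rw [Subgroup.coe_pow, ← map_pow, hgp, map_one]; rfl)) hgenA
    · intro U hUW hU
      refine hWmin U ⟨fun u hu h => ?_⟩ hUW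
      obtain ⟨c, hc, w, hw, rfl⟩ := hdec h
      have h1 : c * u * c⁻¹ ∈ U := hU c hc u hu
      rwa [show w * c * u * (w * c)⁻¹ = c * u * c⁻¹ by
        calc w * c * u * (w * c)⁻¹ = w * (c * u * c⁻¹) * w⁻¹ := by group
          _ = _ := by rw [hWc w hw _ (hUW h1), mul_inv_cancel_right]]
    · by_contra hc
      push Not at hc
      obtain ⟨w, hw, hw1⟩ : ∃ w ∈ W, w ≠ 1 := by
        by_contra h
        push Not at h
        exact hW1 ((Subgroup.eq_bot_iff_forall _).2 h)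
      exact hw1 (hfree w hw fun x hx => mul_inv_eq_iff_eq_mul.1 (hc x (hQA' hx) w hw))
  obtain ⟨⟨w₀, hw₀⟩, hv⟩ : ∃ w : W, ∀ c₁ ∈ C, ∀ c₂ ∈ C, w.1 ≠ c₁.1 * (π a * c₂.1 * (π a)⁻¹) := by
    by_contra h
    push Not at h
    have hs : Function.Surjective fun c : C × C =>
        (⟨c.1.1.1 * (π a * c.2.1.1 * (π a)⁻¹), mul_mem c.1.1.2 (hWn.conj_mem _ c.2.1.2 _)⟩ : W) := fun w => by
      obtain ⟨c₁, h1, c₂, h2, e⟩ := h w
      exact ⟨(⟨c₁, h1⟩, ⟨c₂, h2⟩), Subtype.ext e.symm⟩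
    have := Nat.card_le_card_of_surjective _ hs
    rw [Nat.card_prod, ← pow_two] at this
    omega
  obtain ⟨v, hvR, rfl⟩ := (hW ▸ hw₀ : w₀ ∈ R.map π)
  refine ⟨v * a, ?_⟩
  obtain ⟨B, hB⟩ : ∃ B, B = P ⊔ P.map (MulAut.conj (v * a)).toMonoidHom := ⟨_, rfl⟩
  rw [← hB]
  have hgB : g ∈ B := hB ▸ Subgroup.mem_sup_left hgP
  have hgB2 : v * a * g * (v * a)⁻¹ ∈ B := hB ▸ Subgroup.mem_sup_right ⟨g, hgP, rfl⟩
  have hBR : B ⊔ R = ⊤ := by
    rw [eq_top_iff, ← htop]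
    refine sup_le ?_ le_sup_right
    rw [hA, hzP, sup_le_iff]
    refine ⟨Subgroup.zpowers_le.2 (Subgroup.mem_sup_left hgB), ?_⟩
    rw [Subgroup.map_le_iff_le_comap]
    refine Subgroup.zpowers_le.2 ?_
    show a * g * a⁻¹ ∈ B ⊔ R
    have h := mul_mem (mul_mem (inv_mem (Subgroup.mem_sup_right (S := B) hvR)) (Subgroup.mem_sup_left (T := R) hgB2))
      (Subgroup.mem_sup_right (S := B) hvR)
    simpa [mul_assoc] using h
  have hBRdec : ∀ h : H, ∃ y ∈ R, ∃ b ∈ B, h = y * b := fun h => by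
    have : h ∈ R ⊔ B := by rw [sup_comm, hBR]; exact Subgroup.mem_top h
    rw [Subgroup.mem_sup_of_normal_left] at this
    obtain ⟨y, hy, b, hb, e⟩ := this
    exact ⟨y, hy, b, hb, e.symm⟩
  let T : Subgroup (H ⧸ M) := (B ⊓ R).map π
  have hTn : T.Normal := ⟨fun t ht h => by
    obtain ⟨u, hu, rfl⟩ := ht
    obtain ⟨h, rfl⟩ := hπs h
    obtain ⟨y, hy, b, hb, rfl⟩ := hBRdec h
    refine ⟨b * u * b⁻¹, Subgroup.mem_inf.2 ⟨mul_mem (mul_mem hb hu.1) (inv_mem hb), hRn.conj_mem u hu.2 b⟩, ?_⟩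
    have h1 : π (b * u * b⁻¹) ∈ W := hW ▸ ⟨_, hRn.conj_mem u hu.2 b, rfl⟩
    calc π (b * u * b⁻¹) = π y * π (b * u * b⁻¹) * (π y)⁻¹ := by rw [hWc (π y) (hW ▸ ⟨y, hy, rfl⟩) _ h1, mul_inv_cancel_right]
      _ = _ := by simp [mul_assoc]⟩
  rcases hWmin T hTn (hW ▸ Subgroup.map_mono inf_le_right) with hT | hT
  · -- a complement would be conjugate to `A'`
    exfalso
    obtain ⟨B', hB'⟩ : ∃ B', B' = B.map π := ⟨_, rfl⟩
    have hBW : ∀ x ∈ B', x ∈ W → x = 1 := by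
      rw [hB', hW]
      rintro _ ⟨b, hb, rfl⟩ ⟨y, hy, e⟩
      exact (Subgroup.eq_bot_iff_forall _).1 hT _ ⟨b, ⟨hb, hπR b y e.symm hy⟩, rfl⟩
    have hcdec : ∀ x : H ⧸ M, ∃ c ∈ W, c * x ∈ B' := fun x => by
      obtain ⟨h, rfl⟩ := hπs x
      obtain ⟨y, hy, b, hb, rfl⟩ := hBRdec h
      exact ⟨(π y)⁻¹, inv_mem (hW ▸ ⟨y, hy, rfl⟩), by rw [map_mul, inv_mul_cancel_left, hB']; exact ⟨b, hb, rfl⟩⟩
    choose c hcW hcB using hcdec
    haveI := Fintype.ofFinite Q'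
    letI : CommGroup W := { (inferInstance : Group W) with mul_comm := fun x y => Subtype.ext (hWc _ x.2 _ y.2) }
    let cj : (H ⧸ M) → (W →* W) := fun x =>
      MonoidHom.mk' (fun w => ⟨x * w.1 * x⁻¹, hWn.conj_mem _ w.2 x⟩) fun w w' => Subtype.ext (by simp [mul_assoc])
    have hcoc : ∀ x y, (⟨c (x * y), hcW _⟩ : W) = ⟨c x, hcW x⟩ * cj x ⟨c y, hcW y⟩ := fun x y => Subtype.ext (by
      show c (x * y) = c x * (x * c y * x⁻¹)
      have h1 := mul_mem (hcB x) (hcB y)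
      have h2 : (c (x * y) * (x * y)) * ((c x * x) * (c y * y))⁻¹ = 1 := hBW _ (mul_mem (hcB _) (inv_mem h1)) (by
        rw [show (c (x * y) * (x * y)) * ((c x * x) * (c y * y))⁻¹ = c (x * y) * (c x * (x * c y * x⁻¹))⁻¹ by group]
        exact mul_mem (hcW _) (inv_mem (mul_mem (hcW _) (hWn.conj_mem _ (hcW y) x))))
      rw [show (c (x * y) * (x * y)) * ((c x * x) * (c y * y))⁻¹ = c (x * y) * (c x * (x * c y * x⁻¹))⁻¹ by group,
        mul_inv_eq_one] at h2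
      exact h2)
    obtain ⟨s, hs⟩ : ∃ s : W, s = ∏ y : Q', ⟨c y.1, hcW y.1⟩ := ⟨_, rfl⟩
    obtain ⟨k, hk, hk1⟩ := Nat.exists_mul_mod_eq_one_of_coprime
      (show (Nat.card Q').Coprime r by
        haveI : Fact q.Prime := ⟨hq⟩
        obtain ⟨e, he⟩ := IsPGroup.iff_card.1 (hQ' ▸ hQ.map π : IsPGroup q Q')
        rw [he]; exact ((Nat.coprime_primes hq hr).2 hqr).pow_left e) hr.one_lt
    obtain ⟨t, ht⟩ : ∃ t : W, t = s ^ k := ⟨_, rfl⟩
    have htB : ∀ x ∈ Q', (t : H ⧸ M) * x * (t : H ⧸ M)⁻¹ ∈ B' := by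
      intro x hx
      have h1 : s = ⟨c x, hcW x⟩ ^ Nat.card Q' * cj x s := by
        conv_lhs => rw [hs, ← Equiv.prod_comp (Equiv.mulLeft (⟨x, hx⟩ : Q'))]
        rw [Finset.prod_congr rfl fun (y : Q') _ => show (⟨c ((Equiv.mulLeft (⟨x, hx⟩ : Q')) y).1, hcW _⟩ : W) =
          ⟨c x, hcW x⟩ * cj x ⟨c y.1, hcW y.1⟩ from hcoc x y.1, Finset.prod_mul_distrib, Finset.prod_const,
          Finset.card_univ, ← Nat.card_eq_fintype_card, ← map_prod, ← hs]
      have h2 : (⟨c x, hcW x⟩ : W) = t * (cj x t)⁻¹ := by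
        rw [ht, map_pow, eq_mul_inv_iff_mul_eq]
        conv_rhs => rw [h1, mul_pow, ← pow_mul, pow_eq_pow_mod _ (show (⟨c x, hcW x⟩ : W) ^ r = 1 from Subtype.ext (hWr _ (hcW x))),
          hk1, pow_one]
      have h3 := congrArg Subtype.val h2
      have h4 := hcB x
      rw [show (t : H ⧸ M) * x * (t : H ⧸ M)⁻¹ = c x * x by
        rw [show c x = t.1 * (x * t.1 * x⁻¹)⁻¹ from h3]
        show (t : H ⧸ M) * x * (t : H ⧸ M)⁻¹ = t.1 * (x * t.1 * x⁻¹)⁻¹ * x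
        group]
      exact h4
    -- so `B'` normalises a conjugate of `Q'`
    have hNA : ∀ h : H ⧸ M, (∀ x ∈ Q', h * x * h⁻¹ ∈ Q') → h ∈ A' := by
      intro h hh
      obtain ⟨d, hd, w, hw, rfl⟩ := hdec h
      suffices hw1 : w = 1 by rw [hw1, one_mul]; exact hd
      refine hfree w hw fun x hx => ?_
      have h1 := hh _ (by simpa using hAQ' d⁻¹ (inv_mem hd) x hx : d⁻¹ * x * d ∈ Q')
      rw [show w * d * (d⁻¹ * x * d) * (w * d)⁻¹ = w * x * w⁻¹ by group] at h1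
      have h2 : w * x * w⁻¹ * x⁻¹ ∈ W := by
        rw [show w * x * w⁻¹ * x⁻¹ = w * (x * w⁻¹ * x⁻¹) by group]
        exact mul_mem hw (hWn.conj_mem _ (inv_mem hw) x)
      haveI : Fact q.Prime := ⟨hq⟩
      have h3 := IsPGroup.disjoint_of_ne q r hqr Q' W (hQ' ▸ hQ.map π) hWp
      rw [Subgroup.disjoint_def] at h3
      have h4 := h3 (mul_mem h1 (inv_mem hx)) h2
      rw [mul_inv_eq_one, mul_inv_eq_iff_eq_mul] at h4
      exact h4.symm
    have hBA : ∀ β ∈ B', (t : H ⧸ M)⁻¹ * β * t ∈ A' := by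
      intro β hβ
      refine hNA _ fun x hx => ?_
      obtain ⟨d, hd, w, hw, rfl⟩ := hdec β
      obtain ⟨x', hx', hx''⟩ : ∃ x', x' = d * x * d⁻¹ ∧ x' ∈ Q' := ⟨_, rfl, hAQ' d hd x hx⟩
      have h1 : (w * d) * ((t : H ⧸ M) * x * (t : H ⧸ M)⁻¹) * (w * d)⁻¹ ∈ B' :=
        mul_mem (mul_mem hβ (htB x hx)) (inv_mem hβ)
      have h2 := htB x' hx''
      have h3 : (t : H ⧸ M)⁻¹ * ((w * d) * ((t : H ⧸ M) * x * (t : H ⧸ M)⁻¹) * (w * d)⁻¹) * t * x'⁻¹ ∈ W := by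
        rw [hx']
        obtain ⟨u, hu, hu'⟩ : ∃ u, u = (t : H ⧸ M)⁻¹ * w * (d * t * d⁻¹) ∧ u ∈ W :=
          ⟨_, rfl, mul_mem (mul_mem (inv_mem t.2) hw) (hWn.conj_mem _ t.2 d)⟩
        rw [show (t : H ⧸ M)⁻¹ * ((w * d) * ((t : H ⧸ M) * x * (t : H ⧸ M)⁻¹) * (w * d)⁻¹) * t * (d * x * d⁻¹)⁻¹ =
          u * ((d * x * d⁻¹) * u⁻¹ * (d * x * d⁻¹)⁻¹) by rw [hu]; group]
        exact mul_mem hu' (hWn.conj_mem _ (inv_mem hu') _)
      have h4 : (w * d) * ((t : H ⧸ M) * x * (t : H ⧸ M)⁻¹) * (w * d)⁻¹ * ((t : H ⧸ M) * x' * (t : H ⧸ M)⁻¹)⁻¹ = 1 :=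
        hBW _ (mul_mem h1 (inv_mem h2)) (by
          have h5 := hWn.conj_mem _ h3 (t : H ⧸ M)
          rw [show (w * d) * ((t : H ⧸ M) * x * (t : H ⧸ M)⁻¹) * (w * d)⁻¹ * ((t : H ⧸ M) * x' * (t : H ⧸ M)⁻¹)⁻¹ =
            (t : H ⧸ M) * ((t : H ⧸ M)⁻¹ * ((w * d) * ((t : H ⧸ M) * x * (t : H ⧸ M)⁻¹) * (w * d)⁻¹) * t * x'⁻¹) * (t : H ⧸ M)⁻¹ by group]
          exact h5)
      rw [mul_inv_eq_one] at h4
      rw [show (t : H ⧸ M)⁻¹ * (w * d) * t * x * ((t : H ⧸ M)⁻¹ * (w * d) * t)⁻¹ =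
        (t : H ⧸ M)⁻¹ * ((w * d) * ((t : H ⧸ M) * x * (t : H ⧸ M)⁻¹) * (w * d)⁻¹) * t by group, h4,
        show (t : H ⧸ M)⁻¹ * ((t : H ⧸ M) * x' * (t : H ⧸ M)⁻¹) * t = x' by group]
      exact hx''
    have hc : ∀ (y : H ⧸ M) (w : W), y ∈ A' → w.1⁻¹ * y * w.1 ∈ A' → y * w.1 * y⁻¹ = w.1 := fun y w hy hyw => by
      have h1 : w.1⁻¹ * y * w.1 * y⁻¹ = 1 := hAW _ (by
        rw [show w.1⁻¹ * y * w.1 * y⁻¹ = w.1⁻¹ * (y * w.1 * y⁻¹) by group]
        exact mul_mem (inv_mem w.2) (hWn.conj_mem _ w.2 y)) (mul_mem hyw (inv_mem hy))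
      rw [show w.1⁻¹ * y * w.1 * y⁻¹ = w.1⁻¹ * (y * w.1 * y⁻¹) by group, inv_mul_eq_one] at h1
      exact h1.symm
    have hg2 : π a * π g * (π a)⁻¹ ∈ A' := mul_mem (mul_mem haA hgA) (inv_mem haA)
    have ht1 : t ∈ C := by
      rw [hC]
      exact hc _ t hgA (hBA _ (hB' ▸ ⟨g, hgB, rfl⟩))
    obtain ⟨t', ht'⟩ : ∃ t' : W, t'.1 = (π v)⁻¹ * t.1 := ⟨⟨_, mul_mem (inv_mem hw₀) t.2⟩, rfl⟩
    have ht2 : t'.1⁻¹ * (π a * π g * (π a)⁻¹) * t'.1 ∈ A' := by
      have h := hBA (π (v * a * g * (v * a)⁻¹)) (hB' ▸ ⟨_, hgB2, rfl⟩)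
      rw [ht']
      simpa [mul_assoc] using h
    have ht3 := hc _ t' hg2 ht2
    obtain ⟨c₂, hc₂⟩ : ∃ c₂ : W, c₂.1 = (π a)⁻¹ * t'.1⁻¹ * π a :=
      ⟨⟨_, by simpa using hWn.conj_mem _ (inv_mem t'.2) (π a)⁻¹⟩, rfl⟩
    refine hv t ht1 c₂ ?_ ?_
    · rw [hC]
      show π g * c₂.1 * (π g)⁻¹ = c₂.1
      rw [hc₂]
      calc π g * ((π a)⁻¹ * t'.1⁻¹ * π a) * (π g)⁻¹
          = (π a)⁻¹ * (π a * π g * (π a)⁻¹ * t'.1 * (π a * π g * (π a)⁻¹)⁻¹)⁻¹ * π a := by group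
        _ = _ := by rw [ht3]
    · show π v = t.1 * (π a * c₂.1 * (π a)⁻¹)
      rw [hc₂, ht']; group
  -- `B` contains `R`
  have hTR : ∀ y ∈ R, ∃ u ∈ B ⊓ R, u⁻¹ * y ∈ M := fun y hy => by
    obtain ⟨u, hu, e⟩ : π y ∈ T := by rw [hT, hW]; exact ⟨y, hy, rfl⟩
    exact ⟨u, hu, (hπ1 _).1 (by rw [map_mul, map_inv, e, inv_mul_cancel])⟩
  have hnorm : (B ⊓ R).Normal := ⟨fun u hu h => by
    obtain ⟨y, hy, b, hb, rfl⟩ := hBRdec h
    obtain ⟨u', hu', hm⟩ := hTR y hy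
    have h1 : b * u * b⁻¹ ∈ B ⊓ R := Subgroup.mem_inf.2 ⟨mul_mem (mul_mem hb hu.1) (inv_mem hb), hRn.conj_mem u hu.2 b⟩
    have h2 : y * b * u * (y * b)⁻¹ = u' * (b * u * b⁻¹) * u'⁻¹ := by
      calc y * b * u * (y * b)⁻¹ = u' * ((u'⁻¹ * y) * (b * u * b⁻¹) * (u'⁻¹ * y)⁻¹) * u'⁻¹ := by group
        _ = _ := by rw [hMcen _ hm _ h1.2, mul_inv_cancel_right]
    rw [h2]
    exact Subgroup.mem_inf.2 ⟨mul_mem (mul_mem hu'.1 h1.1) (inv_mem hu'.1), mul_mem (mul_mem hu'.2 h1.2) (inv_mem hu'.2)⟩⟩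
  have hRB : R ≤ B := by
    by_contra hle
    obtain ⟨x, hx, y, hy, hxy⟩ := hQR
    have hz := hmin (B ⊓ R) inf_le_right (fun h => hle (h ▸ inf_le_left)) (fun c _ z hz => hnorm.conj_mem z hz c) x hx
    obtain ⟨u, hu, hm⟩ := hTR y hy
    refine hxy ?_
    rw [show y = u * (u⁻¹ * y) by rw [mul_inv_cancel_left]]
    exact ((show Commute x u from hz u hu).mul_right (hMQ x hx _ hm)).eq
  rw [← hBR]
  exact (sup_eq_left.2 hRB).symm

/-- The `q`-core of `A` centralises the `r`-groups it normalizes. -/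
theorem centralizes {G : Type u} [Group G] [Finite G] {p : ℕ} (hp : p.Prime) (hp5 : 5 ≤ p) (P : Subgroup G)
    (hP : Nat.card P = p) (A : Subgroup G) (hsol : Group.IsSolvable A) (a : G) (ha : a ∈ A)
    (hA : A = P ⊔ P.map (MulAut.conj a).toMonoidHom)
    (hmax : ∀ B : Subgroup G, A ≤ B → Group.IsSolvable ↥B → (∃ b ∈ B, B = P ⊔ P.map (MulAut.conj b).toMonoidHom) → B = A)
    {q r : ℕ} [hq : Fact q.Prime] [hr : Fact r.Prime] (hqr : q ≠ r) (R₀ : Subgroup G) (hR₀ : IsPGroup r R₀)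
    (hAR₀ : ∀ c ∈ A, ∀ y ∈ R₀, c * y * c⁻¹ ∈ R₀) :
    ∀ x ∈ (Cfsg.pCore q A).map A.subtype, ∀ y ∈ R₀, x * y = y * x := by
  classical
  obtain ⟨Q, hQ⟩ : ∃ Q, Q = (Cfsg.pCore q A).map A.subtype := ⟨_, rfl⟩
  rw [← hQ]
  by_contra hbad
  obtain ⟨R, ⟨hRR, hAR, hQR⟩, hRmin⟩ := wellFounded_lt.has_min
    {R : Subgroup G | R ≤ R₀ ∧ (∀ c ∈ A, ∀ y ∈ R, c * y * c⁻¹ ∈ R) ∧ ¬ ∀ x ∈ Q, ∀ y ∈ R, x * y = y * x}
    ⟨R₀, le_rfl, hAR₀, hbad⟩
  have hR : IsPGroup r R := hR₀.to_le hRR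
  have hQA : Q ≤ A := hQ ▸ Subgroup.map_subtype_le _
  have hQp : IsPGroup q Q := hQ ▸ (Cfsg.Lib.Core.pCore_isPGroup q A).map _
  have hAQ : ∀ c ∈ A, ∀ x ∈ Q, c * x * c⁻¹ ∈ Q := by
    intro c hc x hx
    rw [hQ] at hx ⊢
    obtain ⟨x', hx', rfl⟩ := hx
    exact ⟨⟨c, hc⟩ * x' * ⟨c, hc⟩⁻¹, (inferInstance : (Cfsg.pCore q A).Normal).conj_mem _ hx' _, rfl⟩
  obtain ⟨K, hK⟩ : ∃ K, K = A ⊔ R := ⟨_, rfl⟩
  have hAK : A ≤ K := hK ▸ le_sup_left
  have hRK : R ≤ K := hK ▸ le_sup_right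
  have hPA : P ≤ A := hA ▸ le_sup_left
  haveI hRn : (R.subgroupOf K).Normal := Subgroup.normal_subgroupOf_iff_le_normalizer hRK |>.2 (by
    rw [hK, sup_le_iff]
    refine ⟨fun c hc => ?_, Subgroup.le_normalizer⟩
    rw [Subgroup.mem_normalizer_iff]
    exact fun y => ⟨hAR c hc y, fun h => by simpa [mul_assoc] using hAR c⁻¹ (inv_mem hc) _ h⟩)
  haveI : Group.IsSolvable R := by
    haveI : Group.IsNilpotent R := hR.isNilpotent
    infer_instance
  haveI : Group.IsSolvable A := hsol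
  haveI hKsol : Group.IsSolvable K := by
    haveI h1 : Group.IsSolvable (K ⧸ R.subgroupOf K) := by
      refine Group.isSolvable_of_surjective (f := (QuotientGroup.mk' (R.subgroupOf K)).comp (Subgroup.inclusion hAK)) fun x => ?_
      induction x using QuotientGroup.induction_on with
      | _ k =>
      have hk : (k : G) ∈ K := k.2
      have h2 : (A.subgroupOf K) ⊔ (R.subgroupOf K) = ⊤ := by
        rw [← Subgroup.subgroupOf_sup hAK hRK, ← hK, Subgroup.subgroupOf_self]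
      obtain ⟨c, hc, y, hy, e⟩ := Subgroup.mem_sup_of_normal_right.1 (h2.symm ▸ Subgroup.mem_top k :
        k ∈ (A.subgroupOf K) ⊔ (R.subgroupOf K))
      refine ⟨⟨c.1, hc⟩, QuotientGroup.eq.2 ?_⟩
      rw [← e]
      show c⁻¹ * (c * y) ∈ R.subgroupOf K
      rwa [inv_mul_cancel_left]
    haveI : Group.IsSolvable (R.subgroupOf K) :=
      Group.isSolvable_of_surjective (f := (Subgroup.subgroupOfEquivOfLe hRK).symm.toMonoidHom) (MulEquiv.surjective _)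
    exact Group.isSolvable_of_ker_le_range (R.subgroupOf K).subtype (QuotientGroup.mk' (R.subgroupOf K))
      (by rw [QuotientGroup.ker_mk', Subgroup.range_subtype])
  have hmap : ∀ X : Subgroup G, X ≤ K → (X.subgroupOf K).map K.subtype = X := fun X hX => by
    rw [Subgroup.subgroupOf_map_subtype, inf_eq_left.2 hX]
  have haK : a ∈ K := hAK ha
  have hPK : P ≤ K := hPA.trans hAK
  obtain ⟨b, hb⟩ := exists_generating hp hp5 hq.out hr.out hqr (P.subgroupOf K) (A.subgroupOf K) (R.subgroupOf K)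
    (Q.subgroupOf K) (by rw [Nat.card_congr (Subgroup.subgroupOfEquivOfLe hPK).toEquiv, hP]) ⟨a, haK⟩ ha
    (by
      refine Subgroup.map_injective (Subgroup.subtype_injective K) ?_
      rw [hmap A hAK, Subgroup.map_sup, Subgroup.map_map, hmap P hPK,
        show K.subtype.comp (MulAut.conj (⟨a, haK⟩ : K)).toMonoidHom = (MulAut.conj a).toMonoidHom.comp K.subtype from
          MonoidHom.ext fun x => by simp, ← Subgroup.map_map, hmap P hPK]
      exact hA)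
    (hR.of_equiv (Subgroup.subgroupOfEquivOfLe hRK).symm)
    (by rw [← Subgroup.subgroupOf_sup hAK hRK, ← hK, Subgroup.subgroupOf_self])
    (fun x hx => hQA hx) (hQp.of_equiv (Subgroup.subgroupOfEquivOfLe (hQA.trans hAK)).symm)
    (fun c hc x hx => hAQ c.1 hc x.1 hx)
    (by
      push Not at hQR
      obtain ⟨x, hx, y, hy, hxy⟩ := hQR
      exact ⟨⟨x, hAK (hQA hx)⟩, hx, ⟨y, hRK hy⟩, hy, fun h => hxy (congrArg Subtype.val h)⟩)
    (by
      intro M hMR hMne hAM x hx y hy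
      by_contra hxy
      refine hRmin (M.map K.subtype) ⟨(show M.map K.subtype ≤ R from ?_).trans hRR, ?_, fun h => hxy (Subtype.ext
        (h x.1 hx y.1 ⟨y, hy, rfl⟩))⟩ (lt_of_le_of_ne ?_ fun h => hMne ?_)
      · rintro _ ⟨z, hz, rfl⟩; exact hMR hz
      · rintro c hc _ ⟨z, hz, rfl⟩
        exact ⟨⟨c, hAK hc⟩ * z * ⟨c, hAK hc⟩⁻¹, hAM _ hc z hz, rfl⟩
      · rintro _ ⟨z, hz, rfl⟩; exact hMR hz
      · exact Subgroup.map_injective (Subgroup.subtype_injective K) (h.trans (hmap R hRK).symm))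
  have hKA : K = A := hmax K hAK hKsol ⟨b.1, b.2, by
    have h := congrArg (Subgroup.map K.subtype) hb
    rw [Subgroup.map_sup, Subgroup.map_map, hmap P hPK, ← MonoidHom.range_eq_map, Subgroup.range_subtype,
      show K.subtype.comp (MulAut.conj b).toMonoidHom = (MulAut.conj b.1).toMonoidHom.comp K.subtype from
        MonoidHom.ext fun x => by simp, ← Subgroup.map_map, hmap P hPK] at h
    exact h.symm⟩
  refine hQR fun x hx y hy => ?_
  have hyA : y ∈ A := hKA ▸ hRK hy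
  have h1 : x * y * x⁻¹ * y⁻¹ ∈ Q := by
    rw [mul_assoc, mul_assoc, ← mul_assoc y]
    exact mul_mem hx (hAQ y hyA _ (inv_mem hx))
  have h2 : x * y * x⁻¹ * y⁻¹ ∈ R := mul_mem (hAR x (hQA hx) y hy) (inv_mem hy)
  have h3 := IsPGroup.disjoint_of_ne q r hqr Q R hQp hR
  rw [Subgroup.disjoint_def] at h3
  have h4 := h3 h1 h2
  rw [mul_inv_eq_one, mul_inv_eq_iff_eq_mul] at h4
  exact h4

/-- Let G be a finite group and P a subgroup of prime order p > 3. Consider the solvable subgroups A of G of the form A = ⟨P, aPa⁻¹⟩ for some a ∈ A, and let A be maximal under inclusion among them. Then for every nilpotent subgroup V of G normalized by A, the subgroup F(A)V generated by the Fitting subgroup of A and V is nilpotent. -/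
theorem result {G : Type*} [Group G] [Finite G]
    {p : ℕ} [Fact p.Prime] (hp : 3 < p) (P : Subgroup G) (hP : Nat.card P = p) (A : Subgroup G)
    (hA : Group.IsSolvable ↥A ∧ ∃ a ∈ A, A = P ⊔ P.map (MulAut.conj a).toMonoidHom)
    (hmax : ∀ B : Subgroup G, A ≤ B → Group.IsSolvable ↥B → (∃ b ∈ B, B = P ⊔ P.map (MulAut.conj b).toMonoidHom) → B = A)
    (V : Subgroup G) (hV : Group.IsNilpotent ↥V) (hAV : A ≤ Subgroup.normalizer (V : Set G)) :
    Group.IsNilpotent ↥((Cfsg.fittingSubgroup ↥A).map A.subtype ⊔ V) := by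
  obtain ⟨hsol, a, ha, hA'⟩ := hA
  have hp5 : 5 ≤ p := by
    rcases (show p = 4 ∨ 5 ≤ p by omega) with h | h
    · exact absurd (h ▸ (Fact.out : p.Prime)) (by norm_num)
    · exact h
  obtain ⟨SA, hSA⟩ : ∃ SA : Nat.Primes → Subgroup G, ∀ s, SA s = (Cfsg.pCore s A).map A.subtype := ⟨_, fun _ => rfl⟩
  obtain ⟨SV, hSV⟩ : ∃ SV : Nat.Primes → Subgroup G, ∀ s, SV s = (Cfsg.pCore s V).map V.subtype := ⟨_, fun _ => rfl⟩
  have hVn : ∀ c ∈ A, ∀ y, y ∈ V ↔ c * y * c⁻¹ ∈ V := fun c hc => Subgroup.mem_normalizer_iff.1 (hAV hc)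
  have hconjV : ∀ c ∈ A, ∀ s, ∀ y ∈ SV s, c * y * c⁻¹ ∈ SV s := by
    intro c hc s y hy
    haveI : Fact (s : ℕ).Prime := ⟨s.2⟩
    let φ : V ≃* V :=
      { toFun := fun y => ⟨c * y.1 * c⁻¹, (hVn c hc _).1 y.2⟩
        invFun := fun y => ⟨c⁻¹ * y.1 * c, (hVn c hc _).2 (by simpa [mul_assoc] using y.2)⟩
        left_inv := fun y => Subtype.ext (by simp [mul_assoc])
        right_inv := fun y => Subtype.ext (by simp [mul_assoc])
        map_mul' := fun y z => Subtype.ext (by simp [mul_assoc]) }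
    rw [hSV] at hy ⊢
    obtain ⟨y', hy', rfl⟩ := hy
    refine ⟨φ y', ?_, rfl⟩
    have h := (inferInstance : (Cfsg.pCore (s : ℕ) V).Characteristic).fixed φ
    rw [← h] at hy'
    exact hy'
  have hne : ∀ s t : Nat.Primes, s ≠ t → ∀ x ∈ SA s, ∀ y ∈ SV t, x * y = y * x := fun s t hst => by
    haveI : Fact (s : ℕ).Prime := ⟨s.2⟩
    haveI : Fact (t : ℕ).Prime := ⟨t.2⟩
    rw [hSA]
    exact centralizes (Fact.out : p.Prime) hp5 P hP A hsol a ha hA' hmax (fun h => hst (Subtype.ext h)) (SV t)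
      (hSV t ▸ (Cfsg.Lib.Core.pCore_isPGroup (t : ℕ) V).map _) (fun c hc y hy => hconjV c hc t y hy)
  have hcomm : ∀ {K : Subgroup G} (s t : Nat.Primes), s ≠ t → ∀ x ∈ (Cfsg.pCore s K).map K.subtype,
      ∀ y ∈ (Cfsg.pCore t K).map K.subtype, x * y = y * x := by
    rintro K s t hst _ ⟨x, hx, rfl⟩ _ ⟨y, hy, rfl⟩
    haveI : Fact (s : ℕ).Prime := ⟨s.2⟩
    haveI : Fact (t : ℕ).Prime := ⟨t.2⟩
    exact congrArg Subtype.val (Subgroup.commute_of_normal_of_disjoint _ _ inferInstance inferInstance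
      (IsPGroup.disjoint_of_ne _ _ (fun h => hst (Subtype.ext h)) _ _ (Cfsg.Lib.Core.pCore_isPGroup (s : ℕ) K)
        (Cfsg.Lib.Core.pCore_isPGroup (t : ℕ) K)) x y hx hy).eq
  obtain ⟨S, hS⟩ : ∃ S : Nat.Primes → Subgroup G, ∀ s, S s = SA s ⊔ SV s := ⟨_, fun _ => rfl⟩
  have hSA' : ∀ s, SA s ≤ A := fun s => hSA s ▸ Subgroup.map_subtype_le _
  have hnorm : ∀ s, SA s ≤ Subgroup.normalizer (SV s : Set G) := fun s x hx => by
    rw [Subgroup.mem_normalizer_iff]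
    exact fun y => ⟨hconjV x (hSA' s hx) s y, fun h => by
      simpa [mul_assoc] using hconjV x⁻¹ (inv_mem (hSA' s hx)) s _ h⟩
  have hSp : ∀ s : Nat.Primes, IsPGroup (s : ℕ) (S s) := fun s => by
    haveI : Fact (s : ℕ).Prime := ⟨s.2⟩
    rw [hS]
    exact IsPGroup.to_sup_of_normal_right' (hSA s ▸ (Cfsg.Lib.Core.pCore_isPGroup (s : ℕ) A).map _)
      (hSV s ▸ (Cfsg.Lib.Core.pCore_isPGroup (s : ℕ) V).map _) (hnorm s)
  have hSc : ∀ s t, s ≠ t → ∀ x ∈ S s, ∀ y ∈ S t, x * y = y * x := by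
    intro s t hst
    have key : S s ≤ Subgroup.centralizer (S t : Set G) := by
      rw [hS, hS, sup_le_iff, Subgroup.le_centralizer_iff, sup_le_iff, ← Subgroup.le_centralizer_iff,
        Subgroup.le_centralizer_iff (H := SV s), sup_le_iff]
      refine ⟨⟨?_, ?_⟩, ⟨?_, ?_⟩⟩ <;> intro x hx <;> rw [Subgroup.mem_centralizer_iff] <;> intro y hy
      · exact (hcomm s t hst x (hSA s ▸ hx) y (hSA t ▸ hy)).symm
      · exact hne s t hst y hy x hx
      · exact (hne t s (Ne.symm hst) x hx y hy).symm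
      · exact hcomm s t hst y (hSV s ▸ hy) x (hSV t ▸ hx)
    exact fun x hx y hy => (Subgroup.mem_centralizer_iff.1 (key hx) y hy).symm
  obtain ⟨N, hN⟩ : ∃ N, N = ⨆ s, S s := ⟨_, rfl⟩
  have hFV : (Cfsg.fittingSubgroup ↥A).map A.subtype ⊔ V ≤ N := by
    refine sup_le ?_ ?_
    · rw [Cfsg.Lib.Core.fittingSubgroup_eq_iSup_pCore, Subgroup.map_iSup, hN]
      exact iSup_mono fun s => by rw [hS, hSA]; exact le_sup_left
    · haveI := hV
      have h : V = (⨆ s : Nat.Primes, Cfsg.pCore (s : ℕ) V).map V.subtype := by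
        rw [← Cfsg.Lib.Core.fittingSubgroup_eq_iSup_pCore, Cfsg.Lib.Core.fittingSubgroup_eq_top hV,
          ← MonoidHom.range_eq_map, Subgroup.range_subtype]
      rw [h, Subgroup.map_iSup, hN]
      exact iSup_mono fun s => by rw [hS, hSV]; exact le_sup_right
  have hNn : ∀ s, S s ≤ N := fun s => hN ▸ le_iSup S s
  have hnil : Group.IsNilpotent N := by
    have hle : ∀ s : Nat.Primes, (S s).subgroupOf N ≤ Cfsg.pCore (s : ℕ) N := fun s => by
      haveI : Fact (s : ℕ).Prime := ⟨s.2⟩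
      haveI : ((S s).subgroupOf N).Normal := (Subgroup.normal_subgroupOf_iff_le_normalizer (hNn s)).2 (by
        rw [hN]
        refine iSup_le fun t => ?_
        rcases eq_or_ne t s with h | h
        · rw [h]; exact Subgroup.le_normalizer
        · intro x hx
          rw [Subgroup.mem_normalizer_iff]
          refine fun y => ⟨fun hy => by rwa [hSc t s h x hx y hy, mul_inv_cancel_right], fun hy => ?_⟩
          have h1 := hSc t s h x hx _ hy
          have h2 : x * y * x⁻¹ = y := mul_left_cancel (a := x) (by rw [h1]; group)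
          rwa [h2] at hy)
      exact Cfsg.Lib.Core.le_pCore ((hSp s).of_equiv (Subgroup.subgroupOfEquivOfLe (hNn s)).symm)
    have htop : (⨆ s : Nat.Primes, Cfsg.pCore (s : ℕ) N) = ⊤ := by
      refine top_le_iff.1 (le_trans ?_ (iSup_mono hle))
      refine Subgroup.map_subtype_le_map_subtype.1 ?_
      rw [← MonoidHom.range_eq_map, Subgroup.range_subtype, Subgroup.map_iSup]
      conv_lhs => rw [hN]
      exact iSup_mono fun s => by rw [Subgroup.subgroupOf_map_subtype, inf_eq_left.2 (hNn s)]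
    have h := Cfsg.Lib.Core.iSup_pCore_isNilpotent (G := N)
    rw [htop] at h
    exact Group.nilpotent_of_mulEquiv (Subgroup.topEquiv (G := N))
  exact Cfsg.Lib.Core.isNilpotent_of_le hFV hnil

end Cfsg.Agent.S3822
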