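import Cfsg.Statements.S3824
import Cfsg.Agent.S4034

set_option autoImplicit false
open Cfsg

namespace Cfsg.Agent.S3824

open Subgroup

universe u

theorem solvable_of_abelian_two_index : ∀ (n : ℕ) (G : Type u) [Group G] [Finite G], Nat.card G ≤ n →
    ∀ A : Subgroup G, IsMulCommutative A → (∃ k, A.index = 2 ^ k) → Group.IsSolvable G := by
  intro n
  induction n with
  | zero => intro G _ _ hn; have := Nat.card_pos (α := G); omega
  | succ n ih =>
    intro G _ _ hn A hA ⟨k, hk⟩
    have : Fact (Nat.Prime 2) := ⟨Nat.prime_two⟩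
    by_cases hbot : A = ⊥
    · have h : IsPGroup 2 G := IsPGroup.of_card (n := k) (by rw [← hk, hbot, index_bot])
      have := h.isNilpotent
      infer_instance
    obtain ⟨⟨a, ha⟩, ha1⟩ := ne_bot_iff_exists_ne_one.mp hbot
    have hle : A ≤ centralizer ({a} : Set G) := fun y hy => mem_centralizer_singleton_iff.mpr
      (congrArg Subtype.val (hA.1.comm (⟨y, hy⟩ : A) ⟨a, ha⟩))
    obtain ⟨j, hj⟩ := S4034.exists_pow_of_dvd (p := 2) (k := k) (hk ▸ index_dvd_of_le hle)
    by_cases hs : IsSimpleGroup G
    · have := Fintype.ofFinite G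
      have hpr := Cfsg.Lib.Char.prime_card_of_class_prime_pow Nat.prime_two (g := a)
        (fun h => ha1 (Subtype.ext h)) (by rw [Cfsg.Lib.Char.card_classFinset, hj])
      have : Fact (Nat.card G).Prime := ⟨hpr⟩
      have : IsCyclic G := isCyclic_of_prime_card rfl
      exact Group.isSolvable_of_comm fun x y => mul_comm' x y
    have : Nontrivial G := ⟨⟨a, 1, fun h => ha1 (Subtype.ext h)⟩⟩
    obtain ⟨M, hM⟩ := Cfsg.Lib.Core.exists_isMinNormal_univ (G := G)
    have := hM.1
    have htop : M ≠ ⊤ := fun h => hs ⟨fun K hK => (hM.2.2 K hK (h ▸ le_top)).imp id fun e => e.trans h⟩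
    have h1 := M.card_le_card_group
    have h2 : Nat.card M ≠ Nat.card G := fun h => htop (eq_top_of_card_eq M h)
    have h3 := Cfsg.Lib.Core.card_quotient_lt hM.2.1
    have hMs : Group.IsSolvable M := ih M (by omega) (A.subgroupOf M) inferInstance
      (S4034.exists_pow_of_dvd (p := 2) (k := k) (hk ▸ S4034.relIndex_dvd_index_of_normal_right A M))
    have hQs : Group.IsSolvable (G ⧸ M) := ih (G ⧸ M) (by omega) (A.map (QuotientGroup.mk' M))
      (A.map_isMulCommutative _)
      (S4034.exists_pow_of_dvd (p := 2) (k := k) (hk ▸ index_map_dvd _ (QuotientGroup.mk'_surjective M)))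
    exact Group.isSolvable_of_ker_le_range M.subtype (QuotientGroup.mk' M) (by simp)


/-- Every finite group having an abelian subgroup whose index is a power of 2 is solvable. -/
theorem result {G : Type*} [Group G] [Finite G]
    (A : Subgroup G) (hA : IsMulCommutative A) (hidx : ∃ k : ℕ, A.index = 2 ^ k) : Group.IsSolvable G := by
  exact solvable_of_abelian_two_index _ G le_rfl A hA hidx

end Cfsg.Agent.S3824
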