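import Cfsg.Statements.S3825
import Mathlib.GroupTheory.FixedPointFree
import Mathlib.GroupTheory.Index
import Mathlib.GroupTheory.SpecificGroups.Cyclic
import Mathlib.GroupTheory.Commutator.Basic
-- import your own Cfsg.Agent.* helpers here

set_option autoImplicit false
open Cfsg

namespace Cfsg.Agent.S3825

open scoped commutatorElement


/-- Let U be a subgroup of a finite group H and w an involution of H normalizing U and commuting with exactly two elements of U, the identity and y. If V is a non-cyclic elementary abelian 2-subgroup of U containing y which is normal in U and invariant under w, then V is a Sylow 2-subgroup of U, V has order 4, and U/V is abelian. -/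
theorem result {H : Type*} [Group H] [Finite H] (U : Subgroup H) (w : H) (hw : orderOf w = 2)
    (hwU : w ∈ Subgroup.normalizer (U : Set H)) (y : H) (hy : y ≠ 1) (hyU : y ∈ U)
    (hfix : ∀ u ∈ U, w * u * w⁻¹ = u ↔ (u = 1 ∨ u = y))
    (V : Subgroup H) (hVU : V ≤ U) (hVn : (V.subgroupOf U).Normal) (hVw : ∀ v ∈ V, w * v * w⁻¹ ∈ V)
    (hVe : Cfsg.IsElementaryAbelian 2 V) (hVc : ¬ IsCyclic ↥V) (hyV : y ∈ V) :
    ¬ 2 ∣ V.relIndex U ∧ Nat.card ↥V = 4 ∧ ⁅U, U⁆ ≤ V := by
  classical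
  obtain ⟨hVc', hVsq⟩ := hVe
  have hw2 : w * w = 1 := by rw [← pow_two, ← hw, pow_orderOf_eq_one]
  have hwi : w⁻¹ = w := (eq_inv_of_mul_eq_one_left hw2).symm
  have hfx : ∀ u ∈ U, u⁻¹ * (w * u * w⁻¹) ∈ V →
      u⁻¹ * (w * u * w⁻¹) = 1 ∨ u⁻¹ * (w * u * w⁻¹) = y := by
    intro u hu hv
    rw [← hfix _ (hVU hv)]
    have h1 : (u⁻¹ * (w * u * w⁻¹))⁻¹ = u⁻¹ * (w * u * w⁻¹) :=
      inv_eq_of_mul_eq_one_left (by rw [← pow_two, hVsq _ hv])
    conv_rhs => rw [← h1]
    calc w * (u⁻¹ * (w * u * w⁻¹)) * w⁻¹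
        = (w * u⁻¹ * w⁻¹) * ((w * w) * u * (w⁻¹ * w⁻¹)) := by simp [mul_assoc]
      _ = (u⁻¹ * (w * u * w⁻¹))⁻¹ := by rw [hwi, hw2]; simp [mul_assoc, hwi]
  let c : U → H := fun u => (u : H)⁻¹ * (w * u * w⁻¹)
  let W : Set U := {u | c u ∈ V}
  have hVW : ∀ v (hv : v ∈ V), (⟨v, hVU hv⟩ : U) ∈ W := fun v hv => mul_mem (inv_mem hv) (hVw v hv)
  -- two elements with the same image differ by a fixed element
  have hsame : ∀ a b : U, c a = c b → (b : H) * (a : H)⁻¹ = 1 ∨ (b : H) * (a : H)⁻¹ = y := by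
    intro a b h
    rw [← hfix _ (mul_mem b.2 (inv_mem a.2))]
    have h1 : w * (b : H) * w⁻¹ = (b : H) * ((a : H)⁻¹ * (w * a * w⁻¹)) := by
      change (a : H)⁻¹ * (w * a * w⁻¹) = (b : H)⁻¹ * (w * b * w⁻¹) at h
      rw [h, mul_inv_cancel_left]
    calc w * ((b : H) * (a : H)⁻¹) * w⁻¹ = (w * b * w⁻¹) * (w * a * w⁻¹)⁻¹ := by simp [mul_assoc]
      _ = (b : H) * (a : H)⁻¹ := by rw [h1]; simp [mul_assoc]
  have hW4 : Nat.card W ≤ 4 := by
    have key : ∀ a b : U, c a = c b → b = a ∨ b = ⟨y, hyU⟩ * a := by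
      intro a b h
      rcases hsame a b h with h1 | h1
      · exact Or.inl (Subtype.ext (mul_inv_eq_one.mp h1))
      · exact Or.inr (Subtype.ext (mul_inv_eq_iff_eq_mul.mp h1))
    obtain ⟨a1, ha1⟩ : ∃ a1 : U, ∀ a ∈ W, c a = 1 → a = a1 ∨ a = ⟨y, hyU⟩ * a1 := by
      refine ⟨1, fun a _ ha => key 1 a ?_⟩
      rw [ha]
      simp [c]
    obtain ⟨a2, ha2⟩ : ∃ a2 : U, ∀ a ∈ W, c a = y → a = a2 ∨ a = ⟨y, hyU⟩ * a2 := by
      by_cases h : ∃ a ∈ W, c a = y
      · obtain ⟨a2, -, ha2⟩ := h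
        exact ⟨a2, fun a _ ha => key a2 a (ha2.trans ha.symm)⟩
      · exact ⟨1, fun a ha ha' => absurd ⟨a, ha, ha'⟩ h⟩
    have hsub : W ⊆ ({a1, ⟨y, hyU⟩ * a1, a2, ⟨y, hyU⟩ * a2} : Finset U) := by
      intro a ha
      simp only [Finset.coe_insert, Finset.coe_singleton, Set.mem_insert_iff, Set.mem_singleton_iff]
      rcases hfx a a.2 ha with h | h
      · rcases ha1 a ha h with h' | h' <;> tauto
      · rcases ha2 a ha h with h' | h' <;> tauto
    calc Nat.card W ≤ Nat.card (({a1, ⟨y, hyU⟩ * a1, a2, ⟨y, hyU⟩ * a2} : Finset U) : Set U) :=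
          Nat.card_mono (Finset.finite_toSet _) hsub
      _ ≤ 4 := by
          rw [Nat.card_coe_set_eq, Set.ncard_coe_finset]
          exact Finset.card_le_four
  let ι : V → W := fun v => ⟨⟨v, hVU v.2⟩, hVW v v.2⟩
  have hι : Function.Injective ι := fun a b h =>
    Subtype.ext (congrArg (fun z : W => ((z : U) : H)) h)
  have hV4 : Nat.card V = 4 := by
    have hle := (Nat.card_le_card_of_injective ι hι).trans hW4
    have hVp : IsPGroup 2 V := fun v => ⟨1, Subtype.ext (by simpa using hVsq v v.2)⟩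
    have : Fact (Nat.Prime 2) := ⟨Nat.prime_two⟩
    obtain ⟨n, hn⟩ := IsPGroup.iff_card.mp hVp
    have hn2 : n ≤ 2 := (Nat.pow_le_pow_iff_right (le_refl 2)).mp (hn ▸ hle)
    interval_cases n
    · exfalso; apply hVc
      rw [pow_zero] at hn
      have : Subsingleton V := (Nat.card_eq_one_iff_unique.mp hn).1
      exact isCyclic_of_subsingleton
    · exfalso; apply hVc
      rw [pow_one] at hn
      exact isCyclic_of_prime_card hn
    · exact hn
  have hιs : Function.Surjective ι := (hι.bijective_of_nat_card_le (by omega)).2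
  -- the induced involution on `U / V` has no fixed points
  let wU : U →* U :=
    { toFun := fun u => ⟨w * u * w⁻¹, (Subgroup.mem_normalizer_iff.mp hwU u).mp u.2⟩
      map_one' := Subtype.ext (by simp)
      map_mul' := fun a b => Subtype.ext (by simp [mul_assoc]) }
  have := hVn
  let φ : U ⧸ V.subgroupOf U →* U ⧸ V.subgroupOf U :=
    QuotientGroup.map _ _ wU fun u hu => hVw u hu
  have hfree : MonoidHom.FixedPointFree φ := by
    intro q hq
    obtain ⟨u, rfl⟩ := QuotientGroup.mk_surjective q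
    have h1 : (QuotientGroup.mk (wU u) : U ⧸ V.subgroupOf U) = QuotientGroup.mk u := hq
    rw [eq_comm, QuotientGroup.eq, Subgroup.mem_subgroupOf] at h1
    obtain ⟨v, hv⟩ := hιs ⟨u, h1⟩
    rw [QuotientGroup.eq_one_iff, Subgroup.mem_subgroupOf,
      ← congrArg (fun z : W => ((z : U) : H)) hv]
    exact v.2
  have hinv : Function.Involutive φ := by
    intro q
    obtain ⟨u, rfl⟩ := QuotientGroup.mk_surjective q
    change (QuotientGroup.mk (wU (wU u)) : U ⧸ V.subgroupOf U) = QuotientGroup.mk u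
    congr 1
    apply Subtype.ext
    change w * (w * u * w⁻¹) * w⁻¹ = u
    calc w * (w * (u : H) * w⁻¹) * w⁻¹ = (w * w) * u * (w⁻¹ * w⁻¹) := by simp [mul_assoc]
      _ = u := by rw [hwi, hw2]; simp
  refine ⟨?_, hV4, ?_⟩
  · intro h2
    have := hfree.odd_card_of_involutive hinv
    rw [← Subgroup.index_eq_card] at this
    exact Nat.not_even_iff_odd.mpr this (even_iff_two_dvd.mpr h2)
  · rw [Subgroup.commutator_le]
    intro a ha b hb
    have h1 := hfree.commute_all_of_involutive hinv (QuotientGroup.mk ⟨a, ha⟩) (QuotientGroup.mk ⟨b, hb⟩)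
    have h2 : (QuotientGroup.mk (⁅(⟨a, ha⟩ : U), ⟨b, hb⟩⁆) : U ⧸ V.subgroupOf U) = 1 := by
      rw [← QuotientGroup.mk'_apply, map_commutatorElement, commutatorElement_eq_one_iff_commute]
      exact h1
    rw [QuotientGroup.eq_one_iff, Subgroup.mem_subgroupOf] at h2
    exact h2

end Cfsg.Agent.S3825
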