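import Cfsg.Statements.S3835
import Cfsg.Agent.Lib.Sig.QdFusion
import Cfsg.Agent.Lib.Linear.SLBasic
-- import your own Cfsg.Agent.* helpers here

set_option autoImplicit false
open Cfsg

namespace Cfsg.Agent.S3835

open Subgroup Matrix Cfsg.Lib.Local
open scoped MatrixGroups

variable (p : ℕ) [Fact p.Prime]

/-- The affine map of the plane attached to an element of `Qd(p)`. -/
def act (M : Cfsg.qd p) (v : ZMod p × ZMod p) : ZMod p × ZMod p :=
  ((M.1 : Matrix (Fin 3) (Fin 3) (ZMod p)) 0 0 * v.1 + (M.1 : Matrix (Fin 3) (Fin 3) (ZMod p)) 0 1 * v.2 +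
      (M.1 : Matrix (Fin 3) (Fin 3) (ZMod p)) 0 2,
    (M.1 : Matrix (Fin 3) (Fin 3) (ZMod p)) 1 0 * v.1 + (M.1 : Matrix (Fin 3) (Fin 3) (ZMod p)) 1 1 * v.2 +
      (M.1 : Matrix (Fin 3) (Fin 3) (ZMod p)) 1 2)

theorem eq_affine' (M : Cfsg.qd p) : M = QdGroup.affine p (QdGroup.block p M)
    ((M.1 : Matrix (Fin 3) (Fin 3) (ZMod p)) 0 2, (M.1 : Matrix (Fin 3) (Fin 3) (ZMod p)) 1 2) := by
  obtain ⟨h0, h1, h2⟩ := QdGroup.row_two p M.2
  apply Subtype.ext
  apply Subtype.ext
  ext i j
  fin_cases i <;> fin_cases j <;> simp [QdGroup.affine_coe, QdGroup.block_coe, h0, h1, h2]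

@[reducible] def planeAction : MulAction (Cfsg.qd p) (ZMod p × ZMod p) where
  smul := act p
  one_smul v := by
    show act p 1 v = v
    simp [act]
  mul_smul M N v := by
    show act p (M * N) v = act p M (act p N v)
    obtain ⟨h0, h1, h2⟩ := QdGroup.row_two p N.2
    have hm : ((M * N).1 : Matrix (Fin 3) (Fin 3) (ZMod p)) = (M.1 : Matrix (Fin 3) (Fin 3) (ZMod p)) * (N.1 : Matrix (Fin 3) (Fin 3) (ZMod p)) := rfl
    simp only [act, hm, Matrix.mul_apply, Fin.sum_univ_three, h0, h1, h2]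
    ext <;> ring

def planeHom : Cfsg.qd p →* Equiv.Perm (ZMod p × ZMod p) :=
  letI := planeAction p
  MulAction.toPermHom (Cfsg.qd p) (ZMod p × ZMod p)

theorem planeHom_apply (M : Cfsg.qd p) (v : ZMod p × ZMod p) : planeHom p M v = act p M v := rfl

theorem planeHom_injective : Function.Injective (planeHom p) := by
  rw [injective_iff_map_eq_one]
  intro M hM
  have h : ∀ v, act p M v = v := fun v => by rw [← planeHom_apply, hM]; rfl
  have h00 := h (0, 0)
  have h10 := h (1, 0)
  have h01 := h (0, 1)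
  simp only [act, mul_zero, mul_one, add_zero, zero_add, Prod.mk.injEq] at h00 h10 h01
  obtain ⟨a, b⟩ := h00
  obtain ⟨h0, h1, h2⟩ := QdGroup.row_two p M.2
  rw [a, b] at h10 h01
  simp only [add_zero] at h10 h01
  apply Subtype.ext
  apply Subtype.ext
  ext i j
  fin_cases i <;> fin_cases j <;> simp [a, b, h10.1, h10.2, h01.1, h01.2, h0, h1, h2]

/-- `Qd(p)` has no index two subgroup. -/
theorem hom_eq_one (hp : p ≠ 2) (f : Cfsg.qd p →* ℤˣ) : f = 1 := by
  have hp' : p.Prime := Fact.out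
  have hsq : ∀ M : Cfsg.qd p, M ^ p = 1 → f M = 1 := by
    intro M hM
    have h1 : f M ^ p = 1 := by rw [← map_pow, hM, map_one]
    obtain ⟨k, hk⟩ := hp'.odd_of_ne_two hp
    rw [show f M ^ p = f M ^ (2 * k + 1) from congrArg _ hk, pow_succ, pow_mul] at h1
    rwa [Int.units_sq, one_pow, one_mul] at h1
  let ψ : SL(2, ZMod p) →* Cfsg.qd p :=
    { toFun := fun A => QdGroup.affine p A 0
      map_one' := QdGroup.affine_one p
      map_mul' := fun A B => by rw [QdGroup.affine_mul]; congr 1; ext <;> simp }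
  have hψ : f.comp ψ = 1 := by
    refine MonoidHom.eq_of_eqOn_dense (Cfsg.Lib.Linear.closure_transvection_eq_top) ?_
    rintro _ ⟨i, j, h, c, rfl⟩
    refine hsq _ ?_
    rw [← map_pow]
    convert map_one ψ
    apply Subtype.ext
    have hpow : ∀ n : ℕ, (SpecialLinearGroup.transvection h c : SL(2, ZMod p)) ^ n =
        SpecialLinearGroup.transvection h (n * c) := by
      intro n
      induction n with
      | zero =>
        rw [pow_zero]
        apply Subtype.ext
        simp [SpecialLinearGroup.transvection, Matrix.transvection]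
      | succ n ih =>
        rw [pow_succ, ih]
        apply Subtype.ext
        show Matrix.transvection i j ((n : ZMod p) * c) * Matrix.transvection i j c =
          Matrix.transvection i j (((n + 1 : ℕ) : ZMod p) * c)
        rw [Matrix.transvection_mul_transvection_same _ _ h, Nat.cast_add, Nat.cast_one, add_mul, one_mul]
    rw [hpow, ZMod.natCast_self, zero_mul]
    simp [SpecialLinearGroup.transvection, Matrix.transvection]
  ext M
  have e := eq_affine' p M
  have h : QdGroup.affine p 1 ((M.1 : Matrix (Fin 3) (Fin 3) (ZMod p)) 0 2, (M.1 : Matrix (Fin 3) (Fin 3) (ZMod p)) 1 2) *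
      ψ (QdGroup.block p M) = M := by
    conv_rhs => rw [e]
    show _ * QdGroup.affine p _ 0 = _
    rw [QdGroup.affine_mul]
    congr 1 <;> simp
  rw [← h, map_mul, hsq, show f (ψ (QdGroup.block p M)) = 1 from DFunLike.congr_fun hψ _]
  · simp
  · have hv : ∀ (v : ZMod p × ZMod p) (n : ℕ), QdGroup.affine p 1 v ^ n = QdGroup.affine p 1 ((n : ZMod p) * v.1, (n : ZMod p) * v.2) := by
      intro v n
      induction n with
      | zero => simpa [Prod.mk_zero_zero] using (QdGroup.affine_one p).symm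
      | succ n ih =>
        rw [pow_succ, ih, QdGroup.affine_mul, one_mul]
        congr 1
        ext <;> simp [add_mul] <;> ring
    rw [hv, ZMod.natCast_self, zero_mul, zero_mul]
    exact QdGroup.affine_one p

theorem exists_embedding (hp : p ≠ 2) {n : ℕ} (hn : p ^ 2 ≤ n) :
    ∃ H : Subgroup (alternatingGroup (Fin n)), Nonempty (↥H ≃* ↥(Cfsg.qd p)) := by
  classical
  obtain ⟨ι⟩ : Nonempty ((ZMod p × ZMod p) ↪ Fin n) := Function.Embedding.nonempty_of_card_le (by
    simpa [ZMod.card, ← sq] using hn)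
  let φ := (Equiv.Perm.viaEmbeddingHom ι).comp (planeHom p)
  have hs : ∀ M, φ M ∈ alternatingGroup (Fin n) := fun M =>
    Equiv.Perm.mem_alternatingGroup.2 (DFunLike.congr_fun (hom_eq_one p hp (Equiv.Perm.sign.comp φ)) M)
  let φ' := φ.codRestrict _ hs
  have hinj : Function.Injective φ' := fun a b h =>
    planeHom_injective p (Equiv.Perm.viaEmbeddingHom_injective ι (congrArg Subtype.val h))
  exact ⟨φ'.range, ⟨(MonoidHom.ofInjective hinj).symm⟩⟩

/-- For `n < p ^ 2` the `p`-subgroups of `S_n` are abelian. -/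
theorem comm_of_lt {n : ℕ} (hn : n < p ^ 2) {P : Subgroup (Equiv.Perm (Fin n))} (hP : IsPGroup p P) :
    ∀ a ∈ P, ∀ b ∈ P, a * b = b * a := by
  classical
  have hp' : p.Prime := Fact.out
  obtain ⟨ι⟩ : Nonempty ((Fin (n / p) × ZMod p) ↪ Fin n) := Function.Embedding.nonempty_of_card_le (by
    simpa [ZMod.card] using Nat.div_mul_le_self n p)
  let sh : Multiplicative (Fin (n / p) → ZMod p) →* Equiv.Perm (Fin (n / p) × ZMod p) :=
    { toFun := fun v =>
        { toFun := fun q => (q.1, q.2 + v.toAdd q.1)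
          invFun := fun q => (q.1, q.2 - v.toAdd q.1)
          left_inv := fun q => by simp
          right_inv := fun q => by simp }
      map_one' := by ext q <;> simp
      map_mul' := fun v w => by ext q <;> simp [add_assoc, add_comm (v.toAdd q.1)] }
  have hsh : Function.Injective sh := fun v w h => by
    apply Multiplicative.toAdd.injective
    funext i
    simpa [sh] using congrArg Prod.snd (DFunLike.congr_fun h (i, 0))
  let φ := (Equiv.Perm.viaEmbeddingHom ι).comp sh
  have hφ : Function.Injective φ := (Equiv.Perm.viaEmbeddingHom_injective ι).comp hsh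
  have hcard : Nat.card φ.range = p ^ (Nat.card (Equiv.Perm (Fin n))).factorization p := by
    rw [← Nat.card_congr (MonoidHom.ofInjective hφ).toEquiv, Nat.card_congr Multiplicative.toAdd,
      Nat.card_fun, Nat.card_zmod, Nat.card_eq_fintype_card (α := Fin (n / p)), Fintype.card_fin,
      Nat.card_perm, Nat.card_eq_fintype_card (α := Fin n), Fintype.card_fin, Nat.factorization_def _ hp',
      padicValNat_factorial (b := 2) (Nat.log_lt_of_lt_pow' (by norm_num) hn)]
    simp
  let D : Sylow p (Equiv.Perm (Fin n)) := Sylow.ofCard φ.range hcard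
  obtain ⟨Q, hQ⟩ := hP.exists_le_sylow
  obtain ⟨g, rfl⟩ := MulAction.exists_smul_eq (Equiv.Perm (Fin n)) D Q
  intro a ha b hb
  have key : ∀ x ∈ P, ∃ v, x = g * φ v * g⁻¹ := by
    intro x hx
    have h := hQ hx
    rw [Sylow.coe_subgroup_smul, Subgroup.pointwise_smul_def] at h
    obtain ⟨s, ⟨v, rfl⟩, he⟩ := h
    exact ⟨v, he.symm⟩
  obtain ⟨u, rfl⟩ := key a ha
  obtain ⟨w, rfl⟩ := key b hb
  rw [conj_mul, conj_mul, ← map_mul, ← map_mul, mul_comm u w]

theorem not_involves {n : ℕ} (hn : n < p ^ 2) : ¬ Cfsg.Involves ↥(Cfsg.qd p) ↥(alternatingGroup (Fin n)) := by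
  rintro ⟨K, R, hR, ⟨e⟩⟩
  haveI := hR
  let π : K →* Cfsg.qd p := e.toMonoidHom.comp (QuotientGroup.mk' (R.subgroupOf K))
  have hπ : Function.Surjective π := e.surjective.comp (QuotientGroup.mk'_surjective _)
  obtain ⟨S⟩ : Nonempty (Sylow p K) := inferInstance
  let T := S.mapSurjective hπ
  have hT : ∀ a ∈ (T : Subgroup (Cfsg.qd p)), ∀ b ∈ (T : Subgroup (Cfsg.qd p)), a * b = b * a := by
    rintro _ ⟨a, ha, rfl⟩ _ ⟨b, hb, rfl⟩
    have h := comm_of_lt p hn (P := (S : Subgroup K).map ((alternatingGroup (Fin n)).subtype.comp K.subtype))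
      (S.2.map _) _ ⟨a, ha, rfl⟩ _ ⟨b, hb, rfl⟩
    rw [← map_mul, ← map_mul]
    congr 1
    exact Subtype.ext (Subtype.ext h)
  obtain ⟨Q, hQ⟩ := (Cfsg.Lib.Sig.QdFusion.isPGroup_std p).exists_le_sylow
  obtain ⟨g, rfl⟩ := MulAction.exists_smul_eq (Cfsg.qd p) T Q
  have key : ∀ x : Cfsg.qd p, QdGroup.block p x ∈ Cfsg.Lib.Linear.Two.UT (ZMod p) →
      ∃ v ∈ (T : Subgroup (Cfsg.qd p)), x = g * v * g⁻¹ := by
    intro x hx
    have h := hQ hx
    rw [Sylow.coe_subgroup_smul, Subgroup.pointwise_smul_def] at h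
    obtain ⟨s, hs, he⟩ := h
    exact ⟨s, hs, he.symm⟩
  obtain ⟨u, hu, hue⟩ := key (QdGroup.affine p (Cfsg.Lib.Linear.Two.ut (Multiplicative.ofAdd 1)) 0)
    (by rw [QdGroup.block_affine]; exact ⟨_, rfl⟩)
  obtain ⟨w, hw, hwe⟩ := key (QdGroup.affine p 1 (0, 1)) (by rw [QdGroup.block_affine]; exact one_mem _)
  have h := congrArg (fun x => g * x * g⁻¹) (hT u hu w hw)
  rw [← conj_mul, ← conj_mul, ← hue, ← hwe] at h
  have h1 := congrArg (fun M : ↥(Cfsg.qd p) =>
    ((M : Matrix.SpecialLinearGroup (Fin 3) (ZMod p)) : Matrix (Fin 3) (Fin 3) (ZMod p)) 0 2) h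
  simp [QdGroup.affine_mul, QdGroup.affine_coe, Cfsg.Lib.Linear.Two.ut_coe] at h1

theorem main (hp : p ≠ 2) (n : ℕ) :
    ((∃ H : Subgroup (alternatingGroup (Fin n)), Nonempty (↥H ≃* ↥(Cfsg.qd p))) ↔ p ^ 2 ≤ n) ∧
      (n < p ^ 2 → ¬ Cfsg.Involves ↥(Cfsg.qd p) ↥(alternatingGroup (Fin n))) := by
  refine ⟨⟨fun ⟨H, ⟨e⟩⟩ => ?_, exists_embedding p hp⟩, not_involves p⟩
  by_contra h
  push Not at h
  refine not_involves p h ⟨H, ⊥, by rw [bot_subgroupOf]; infer_instance, ⟨?_⟩⟩
  exact ((QuotientGroup.quotientMulEquivOfEq (bot_subgroupOf H)).trans (QuotientGroup.quotientBot (G := H))).trans e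

/-- Let p be an odd prime and n a natural number. The alternating group of degree n has a subgroup isomorphic to Qd(p) (the natural semidirect product of an elementary abelian group of order p² by SL₂(p)) if and only if n ≥ p²; and if n < p² then Qd(p) is not even involved in it. -/
theorem result {p : ℕ} [Fact p.Prime] (hp : p ≠ 2) (n : ℕ) : ((∃ H : Subgroup (alternatingGroup (Fin n)), Nonempty (↥H ≃* ↥(Cfsg.qd p))) ↔ p ^ 2 ≤ n) ∧ (n < p ^ 2 → ¬ Cfsg.Involves ↥(Cfsg.qd p) ↥(alternatingGroup (Fin n))) := by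
  exact main p hp n

end Cfsg.Agent.S3835
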