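import Cfsg.Statements.S3836
import Cfsg.Agent.Lib.Core.Cores

set_option autoImplicit false
open Cfsg

namespace Cfsg.Agent.S3836

/-- Let G be a finite group that is p-stable in the normalizer form: for every p-subgroup Q and every x ∈ N_G(Q) with [Q, x, x] = 1, the image of x in N_G(Q)/C_G(Q) lies in O_p(N_G(Q)/C_G(Q)). Then every subgroup of G is p-stable in the same sense. -/
theorem result {G : Type*} [Group G] [Finite G] {p : ℕ} [Fact p.Prime] (hst : Cfsg.IsNormalizerPStable p G) (H : Subgroup G) : Cfsg.IsNormalizerPStable p ↥H := by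
  intro P hP g hg hcomm
  set P' : Subgroup G := P.map H.subtype with hP'
  have hNle : ∀ x : ↥(Subgroup.normalizer (P : Set ↥H)),
      ((x : H) : G) ∈ Subgroup.normalizer (P' : Set G) := fun x =>
    Subgroup.le_normalizer_map H.subtype (Subgroup.mem_map_of_mem _ x.2)
  let φ : ↥(Subgroup.normalizer (P : Set ↥H)) →* ↥(Subgroup.normalizer (P' : Set G)) :=
    { toFun := fun x => ⟨((x : H) : G), hNle x⟩
      map_one' := rfl
      map_mul' := fun _ _ => rfl }
  let CG := (Subgroup.centralizer (P' : Set G)).subgroupOf (Subgroup.normalizer (P' : Set G))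
  let CH := (Subgroup.centralizer (P : Set ↥H)).subgroupOf (Subgroup.normalizer (P : Set ↥H))
  have hC : CH = CG.comap φ := by
    ext x
    simp only [CH, CG, Subgroup.mem_comap, Subgroup.mem_subgroupOf, Subgroup.mem_centralizer_iff,
      SetLike.mem_coe, hP', φ, MonoidHom.coe_mk, OneHom.coe_mk, Subgroup.mem_map]
    constructor
    · rintro h _ ⟨y, hy, rfl⟩
      exact congrArg Subtype.val (h y hy)
    · intro h y hy
      exact Subtype.ext (h _ ⟨y, hy, rfl⟩)
  let ψ : (↥(Subgroup.normalizer (P : Set ↥H)) ⧸ CH) →*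
      (↥(Subgroup.normalizer (P' : Set G)) ⧸ CG) := QuotientGroup.map CH CG φ hC.le
  have hinj : Function.Injective ψ := by
    rw [← MonoidHom.ker_eq_bot_iff, eq_bot_iff]
    intro q hq
    obtain ⟨x, rfl⟩ := QuotientGroup.mk_surjective q
    rw [MonoidHom.mem_ker] at hq
    have h1 : φ x ∈ CG := (QuotientGroup.eq_one_iff _).mp hq
    exact (QuotientGroup.eq_one_iff x).mpr (hC ▸ h1)
  have hzp : (Subgroup.zpowers g).map H.subtype = Subgroup.zpowers (g : G) := by
    rw [MonoidHom.map_zpowers]; rfl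
  have key := hst P' (hP.map _) (g : G) (hNle ⟨g, hg⟩) (by
    rw [hP', ← hzp, ← Subgroup.map_commutator, ← Subgroup.map_commutator, hcomm, Subgroup.map_bot])
  let Q := (Cfsg.pCore p (↥(Subgroup.normalizer (P' : Set G)) ⧸ CG)).comap ψ
  have hQn : Q.Normal := Subgroup.Normal.comap inferInstance ψ
  have hQp : IsPGroup p Q := (Cfsg.Lib.Core.pCore_isPGroup p _).comap_of_injective ψ hinj
  exact (le_sSup ⟨hQn, hQp⟩ : Q ≤ Cfsg.pCore p _) key

end Cfsg.Agent.S3836
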