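import Cfsg.Statements.S3838
import Cfsg.Agent.S0081
import Cfsg.Agent.Lib.Fusion.Abelian
import Cfsg.Agent.Lib.Fusion.Basic
import Cfsg.Agent.Lib.PGroup.Basic

set_option autoImplicit false
open Cfsg
open scoped commutatorElement

namespace Cfsg.Agent.S3838

open Subgroup

universe u

/-- The case in which `Q` is normal. -/
theorem main {G : Type u} [Group G] [Finite G] {p : ℕ} [Fact p.Prime] (P : Sylow p G)
    (hN : Cfsg.HasNormalPComplement p ↥(normalizer ((P : Subgroup G) : Set G))) (Q : Subgroup G) [Q.Normal]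
    (h1 : (commutator ↥(P : Subgroup G)).map (P : Subgroup G).subtype ≤ Q)
    (h2 : Q ≤ (frattini ↥(P : Subgroup G)).map (P : Subgroup G).subtype) :
    Cfsg.HasNormalPComplement p G := by
  set f := QuotientGroup.mk' Q
  have hf := QuotientGroup.mk'_surjective Q
  set Pb := P.mapSurjective hf with hPb
  have hPc : (Pb : Subgroup (G ⧸ Q)) = (P : Subgroup G).map f := Sylow.coe_mapSurjective hf P
  have hQP : Q ≤ (P : Subgroup G) := h2.trans (map_subtype_le _)
  have hPbc : ∀ a ∈ (Pb : Subgroup (G ⧸ Q)), ∀ b ∈ (Pb : Subgroup (G ⧸ Q)), a * b = b * a := by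
    rw [hPc]
    rintro a ⟨x, hx, rfl⟩ b ⟨y, hy, rfl⟩
    rw [← commutatorElement_eq_one_iff_mul_comm, ← map_commutatorElement]
    refine (QuotientGroup.eq_one_iff _).mpr (h1 ⟨⁅(⟨x, hx⟩ : (P : Subgroup G)), ⟨y, hy⟩⁆,
      commutator_mem_commutator (mem_top _) (mem_top _), ?_⟩)
    simp [commutatorElement_def]
  set N := normalizer ((Pb : Subgroup (G ⧸ Q)) : Set (G ⧸ Q)) with hNdef
  let g0 : normalizer ((P : Subgroup G) : Set G) →* G ⧸ Q := f.comp (normalizer ((P : Subgroup G) : Set G)).subtype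
  have hrange : ∀ y ∈ N, ∃ x, g0 x = y := by
    intro y hy
    obtain ⟨x, rfl⟩ := hf y
    refine ⟨⟨x, ?_⟩, rfl⟩
    have hcm : ((P : Subgroup G).map f).comap f = (P : Subgroup G) := by
      rw [comap_map_eq, QuotientGroup.ker_mk', sup_of_le_left hQP]
    rw [mem_normalizer_iff]
    intro z
    have h3 := mem_normalizer_iff.mp hy (f z)
    rw [hPc] at h3
    rw [← map_inv, ← map_mul, ← map_mul] at h3
    constructor
    · exact fun hz => hcm.le (show x * z * x⁻¹ ∈ _ from mem_comap.mpr (h3.mp (mem_map_of_mem f hz)))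
    · exact fun hz => hcm.le (mem_comap.mpr (h3.mpr (mem_map_of_mem f hz)))
  have hmem : ∀ x, g0 x ∈ N := by
    intro x
    have hx := x.2
    rw [hNdef, hPc]
    exact le_normalizer_map f ⟨x, hx, rfl⟩
  have hNb : Cfsg.HasNormalPComplement p N :=
    Cfsg.Lib.Fusion.hasNormalPComplement_of_surjective (g0.codRestrict N hmem)
      (fun y => by
        obtain ⟨x, hx⟩ := hrange y y.2
        exact ⟨x, Subtype.ext hx⟩) hN
  let P' : Sylow p N := Pb.subtype le_normalizer
  have hinf := (Cfsg.Lib.Fusion.hasNormalPComplement_iff_inf P').mp hNb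
  have hP'n : (P' : Subgroup N).Normal := by
    rw [Sylow.coe_subtype]; exact normal_in_normalizer
  have hP'c : ∀ a ∈ (P' : Subgroup N), ∀ b ∈ (P' : Subgroup N), a * b = b * a := by
    intro a ha b hb
    exact Subtype.ext (hPbc a ha b hb)
  have hNC : N ≤ centralizer ((Pb : Subgroup (G ⧸ Q)) : Set (G ⧸ Q)) := by
    intro y hy
    obtain ⟨a, ha, b, hb, hab⟩ : ∃ a ∈ (P' : Subgroup N), ∃ b ∈ Cfsg.pResidual p N, a * b = ⟨y, hy⟩ := by
      have h3 : (⟨y, hy⟩ : N) ∈ (P' : Subgroup N) ⊔ Cfsg.pResidual p N := by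
        rw [Cfsg.Lib.Fusion.sylow_sup_pResidual]; exact mem_top _
      exact mem_sup_of_normal_left.mp h3
    intro z hz
    have hzP : (⟨z, le_normalizer hz⟩ : N) ∈ (P' : Subgroup N) := hz
    have h4 := commute_of_normal_of_disjoint _ _ hP'n inferInstance
      (by rw [disjoint_iff, inf_comm]; exact hinf) _ _ hzP hb
    have h5 : Commute (⟨z, le_normalizer hz⟩ : N) (a * b) :=
      Commute.mul_right (hP'c _ hzP a ha) h4
    rw [hab] at h5
    exact congrArg Subtype.val h5.eq
  have hGb : Cfsg.HasNormalPComplement p (G ⧸ Q) :=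
    Cfsg.Lib.Fusion.hasNormalPComplement_of_normalizer_le_centralizer Pb hNC
  have hle : Cfsg.pResidual p G ⊓ (P : Subgroup G) ≤ Q := by
    rintro x ⟨hx1, hx2⟩
    refine (QuotientGroup.eq_one_iff x).mp (mem_bot.mp
      (((Cfsg.Lib.Fusion.hasNormalPComplement_iff_inf Pb).mp hGb).le ⟨?_, ?_⟩))
    · exact Cfsg.Lib.Fusion.map_pResidual_le f ⟨x, hx1, rfl⟩
    · rw [SetLike.mem_coe, hPc]; exact ⟨x, hx2, rfl⟩
  have hR := Cfsg.Agent.S0081.result P (Cfsg.pResidual p G) (hle.trans h2)
  rw [Cfsg.Lib.Fusion.hasNormalPComplement_iff_coprime] at hR ⊢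
  rwa [Cfsg.Lib.Fusion.pResidual_pResidual, Subgroup.card_top] at hR


/-- Let G be a finite group with Sylow p-subgroup P such that N_G(P) has a normal p-complement. Then N_G(Q) has a normal p-complement for every subgroup Q with [P, P] ≤ Q ≤ Φ(P). -/
theorem result {G : Type*} [Group G] [Finite G] {p : ℕ} [Fact p.Prime] (P : Sylow p G) (hN : Cfsg.HasNormalPComplement p ↥(Subgroup.normalizer ((P : Subgroup G) : Set G))) (Q : Subgroup G) (h1 : (commutator ↥(P : Subgroup G)).map (P : Subgroup G).subtype ≤ Q) (h2 : Q ≤ (frattini ↥(P : Subgroup G)).map (P : Subgroup G).subtype) : Cfsg.HasNormalPComplement p ↥(Subgroup.normalizer (Q : Set G)) := by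
  have hQP : Q ≤ (P : Subgroup G) := h2.trans (map_subtype_le _)
  have hPX : (P : Subgroup G) ≤ normalizer (Q : Set G) := by
    intro x hx
    rw [mem_normalizer_iff]
    intro z
    have key : ∀ a ∈ (P : Subgroup G), ∀ w ∈ Q, a * w * a⁻¹ ∈ Q := by
      intro a ha w hw
      have hc : ⁅a, w⁆ ∈ Q := h1 ⟨⁅(⟨a, ha⟩ : (P : Subgroup G)), ⟨w, hQP hw⟩⁆,
        Subgroup.commutator_mem_commutator (mem_top _) (mem_top _), by simp [commutatorElement_def]⟩
      simpa [commutatorElement_def] using mul_mem hc hw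
    refine ⟨key x hx z, fun hz => ?_⟩
    have := key x⁻¹ (inv_mem hx) _ hz
    simpa [mul_assoc] using this
  set X := normalizer (Q : Set G) with hX
  let P' : Sylow p X := P.subtype hPX
  have : (Q.subgroupOf X).Normal := normal_in_normalizer
  let e : (P : Subgroup G) ≃* (P' : Subgroup X) := (subgroupOfEquivOfLe hPX).symm
  refine main P' ?_ (Q.subgroupOf X) ?_ ?_
  · refine Cfsg.Lib.Fusion.hasNormalPComplement_of_injective
      ((X.subtype.comp (normalizer ((P' : Subgroup X) : Set X)).subtype).codRestrict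
        (normalizer ((P : Subgroup G) : Set G)) ?_) ?_ hN
    · intro x
      have hm : (P' : Subgroup X).map X.subtype = (P : Subgroup G) := by
        rw [Sylow.coe_subtype, subgroupOf_map_subtype, inf_of_le_left hPX]
      exact hm ▸ le_normalizer_map X.subtype ⟨(x : X), x.2, rfl⟩
    · intro a b hab
      exact Subtype.ext (Subtype.ext (congrArg (fun w : ↥(normalizer ((P : Subgroup G) : Set G)) => (w : G)) hab))
  · rintro z ⟨y, hy, rfl⟩
    refine mem_subgroupOf.mpr (h1 ⟨(subgroupOfEquivOfLe hPX) y, ?_, rfl⟩)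
    have h3 : (commutator _).map (subgroupOfEquivOfLe hPX : (P' : Subgroup X) ≃* _).toMonoidHom ≤ commutator (P : Subgroup G) := by
      rw [_root_.commutator_def, map_commutator]; exact commutator_mono le_top le_top
    exact h3 ⟨y, hy, rfl⟩
  · intro z hz
    obtain ⟨f, hf, hfz⟩ := h2 (mem_subgroupOf.mp hz)
    refine ⟨e f, frattini_le_comap_frattini_of_surjective (φ := e.toMonoidHom) e.surjective hf,
      Subtype.ext ?_⟩
    change (f : G) = z
    exact hfz

end Cfsg.Agent.S3838
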