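import Cfsg.Statements.S3839
import Cfsg.Agent.Lib.Fusion.Alperin
import Cfsg.Agent.Lib.Local.Sylow
import Cfsg.Agent.Lib.Core.Cores
-- import your own Cfsg.Agent.* helpers here

set_option autoImplicit false
open Cfsg

namespace Cfsg.Agent.S3839

open Subgroup

/-- `Q` is a `p`-subgroup normalized, but not centralized, by a `p'`-element. -/
def Bad {G : Type*} [Group G] (p : ℕ) (Q : Subgroup G) : Prop :=
  IsPGroup p Q ∧ ∃ y ∈ normalizer (Q : Set G), (orderOf y).Coprime p ∧ y ∉ centralizer (Q : Set G)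

theorem bad_map {G : Type*} [Group G] {p : ℕ} {Q : Subgroup G} (h : Bad p Q) (g : G) :
    Bad p (Q.map (MulAut.conj g).toMonoidHom) := by
  obtain ⟨hQ, y, hy, hco, hyC⟩ := h
  have hmem : ∀ z, g * z * g⁻¹ ∈ Q.map (MulAut.conj g).toMonoidHom ↔ z ∈ Q := fun z => by
    constructor
    · rintro ⟨w, hw, hwz⟩
      rwa [← (MulAut.conj g).injective (hwz : MulAut.conj g w = MulAut.conj g z)]
    · exact fun hz => ⟨z, hz, rfl⟩
  refine ⟨hQ.map _, g * y * g⁻¹, ?_, ?_, ?_⟩
  · refine mem_normalizer_iff.2 fun z => ?_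
    rw [show z = g * (g⁻¹ * z * g) * g⁻¹ by group, hmem]
    conv_rhs => rw [show g * y * g⁻¹ * (g * (g⁻¹ * z * g) * g⁻¹) * (g * y * g⁻¹)⁻¹
      = g * (y * (g⁻¹ * z * g) * y⁻¹) * g⁻¹ by group, hmem]
    exact mem_normalizer_iff.1 hy _
  · rw [show g * y * g⁻¹ = (MulAut.conj g).toMonoidHom y from rfl,
      orderOf_injective _ (MulAut.conj g).injective]
    exact hco
  · intro hh
    refine hyC (mem_centralizer_iff.2 fun q hq => ?_)
    have h1 := mem_centralizer_iff.1 hh _ ((hmem q).2 hq)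
    refine mul_left_cancel (a := g) (mul_right_cancel (b := g⁻¹) ?_)
    calc g * (q * y) * g⁻¹ = g * q * g⁻¹ * (g * y * g⁻¹) := by group
      _ = g * y * g⁻¹ * (g * q * g⁻¹) := h1
      _ = g * (y * q) * g⁻¹ := by group

theorem not_bad {G : Type*} [Group G] [Finite G] {p : ℕ} [Fact p.Prime] (S : Sylow p G) (D : Subgroup G)
    (hD : IsStronglyClosed D (S : Subgroup G))
    (hloc : ∀ U : Subgroup G, U ≤ D → D ⊓ centralizer (U : Set G) ≤ U →
      HasNormalPComplement p ↥(normalizer (U : Set G))) :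
    ∀ Q : Subgroup G, ¬ Bad p Q := by
  classical
  have hp := (Fact.out : p.Prime)
  by_contra hno
  push Not at hno
  obtain ⟨Q₀, hQ₀', hmax'⟩ := Finset.exists_max_image (Set.toFinite {Q : Subgroup G | Bad p Q}).toFinset
    (fun Q => Nat.card Q) ((Set.Finite.toFinset_nonempty _).2 hno)
  have hQ₀ : Bad p Q₀ := by rw [Set.Finite.mem_toFinset] at hQ₀'; exact hQ₀'
  have hmax : ∀ R : Subgroup G, Bad p R → Nat.card R ≤ Nat.card Q₀ := fun R hR =>
    hmax' R (by rw [Set.Finite.mem_toFinset]; exact hR)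
  obtain ⟨T₀, -⟩ : ∃ T₀ : Sylow p (normalizer (Q₀ : Set G)), True := ⟨Classical.arbitrary _, trivial⟩
  obtain ⟨S₁, hS₁⟩ := (T₀.isPGroup'.map (normalizer (Q₀ : Set G)).subtype).exists_le_sylow
  obtain ⟨g, hg⟩ := MulAction.exists_smul_eq G S₁ S
  set cg := (MulAut.conj g).toMonoidHom with hcg
  set Q := Q₀.map cg with hQdef
  have hbad : Bad p Q := bad_map hQ₀ g
  have hcQ : Nat.card Q = Nat.card Q₀ := card_map_of_injective (MulAut.conj g).injective
  have hbig : ∀ R : Subgroup G, Bad p R → Nat.card R ≤ Nat.card Q := fun R hR => hcQ ▸ hmax R hR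
  set M := normalizer (Q : Set G) with hM
  have hMmap : (normalizer (Q₀ : Set G)).map cg = M := by
    rw [hM, hQdef]
    exact Q₀.map_equiv_normalizer_eq (MulAut.conj g)
  have hTS : ((T₀ : Subgroup (normalizer (Q₀ : Set G))).map (normalizer (Q₀ : Set G)).subtype).map cg
      ≤ (S : Subgroup G) ⊓ M := by
    refine le_inf ?_ ((map_mono (map_subtype_le _)).trans hMmap.le)
    rw [← hg]
    exact map_mono hS₁
  have hSM : ¬ p ∣ (((S : Subgroup G) ⊓ M).subgroupOf M).index := by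
    intro hd
    have h1 : Nat.card ↥((S : Subgroup G) ⊓ M) * (((S : Subgroup G) ⊓ M).subgroupOf M).index = Nat.card M :=
      Cfsg.Lib.Core.card_mul_relIndex inf_le_right
    have h2 : Nat.card M = Nat.card (T₀ : Subgroup (normalizer (Q₀ : Set G))) * (T₀ : Subgroup (normalizer (Q₀ : Set G))).index := by
      rw [card_mul_index, ← hMmap, card_map_of_injective (MulAut.conj g).injective]
    obtain ⟨a, ha⟩ := IsPGroup.iff_card.1 (S.isPGroup'.to_le (inf_le_left : (S : Subgroup G) ⊓ M ≤ _))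
    obtain ⟨b, hb⟩ := IsPGroup.iff_card.1 T₀.isPGroup'
    have hab : b ≤ a := by
      have h3 := card_le_of_le hTS
      rw [card_map_of_injective (MulAut.conj g).injective, card_map_of_injective (subtype_injective _), hb, ha] at h3
      exact (Nat.pow_le_pow_iff_right hp.one_lt).1 h3
    obtain ⟨c, hc⟩ := hd
    apply T₀.not_dvd_index
    rw [ha, h2, hb, hc, show p ^ a = p ^ b * p ^ (a - b) by rw [← pow_add, Nat.add_sub_cancel' hab], mul_assoc] at h1
    exact ⟨p ^ (a - b) * c, by rw [← Nat.eq_of_mul_eq_mul_left (pow_pos hp.pos b) h1]; ring⟩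
  obtain ⟨hQp, y, hy, hco, hyC⟩ := hbad
  have hQS : Q ≤ (S : Subgroup G) := by
    have hQM : Q ≤ M := le_normalizer
    haveI : (Q.subgroupOf M).Normal := normal_in_normalizer
    have hP : IsPGroup p (((S : Subgroup G) ⊓ M).subgroupOf M) :=
      (S.isPGroup'.to_le inf_le_left).comap_of_injective M.subtype M.subtype_injective
    have h1 : Q.subgroupOf M ≤ ((hP.toSylow hSM : Sylow p M) : Subgroup M) :=
      (Cfsg.Lib.Core.le_pCore' (N := Q.subgroupOf M) inferInstance (hQp.comap_of_injective M.subtype M.subtype_injective : IsPGroup p (Q.subgroupOf M))).trans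
        (Cfsg.Lib.Core.pCore_le_sylow (hP.toSylow hSM))
    intro q hq
    exact (mem_inf.1 (mem_subgroupOf.1 (h1 (mem_subgroupOf.2 hq : (⟨q, hQM hq⟩ : M) ∈ _)))).1
  set U := Q ⊓ D with hU
  have hUn : ∀ m ∈ M, ∀ u ∈ U, m * u * m⁻¹ ∈ U := fun m hm u hu => by
    have h1 : m * u * m⁻¹ ∈ Q := (mem_normalizer_iff.1 hm u).1 hu.1
    exact mem_inf.2 ⟨h1, hD.2 u hu.2 m (hQS h1)⟩
  have hMU : M ≤ normalizer (U : Set G) := fun m hm => mem_normalizer_iff.2 fun u =>
    ⟨hUn m hm u, fun h => by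
      have := hUn m⁻¹ (inv_mem hm) _ h
      rwa [show m⁻¹ * (m * u * m⁻¹) * m⁻¹⁻¹ = u by group] at this⟩
  by_cases hcU : D ⊓ centralizer (U : Set G) ≤ U
  · have hQN : Q ≤ normalizer (U : Set G) := le_normalizer.trans hMU
    have hmem := Cfsg.Lib.Fusion.mem_centralizer_of_hasNormalPComplement (hloc U inf_le_right hcU)
      (Q := Q.subgroupOf (normalizer (U : Set G))) (hQp.comap_of_injective _ (subtype_injective _))
      (g := ⟨y, hMU hy⟩) (mem_normalizer_iff.2 fun z => by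
        simp only [mem_subgroupOf]
        exact mem_normalizer_iff.1 hy _) (by rw [Subgroup.orderOf_mk]; exact hco)
    exact hyC (mem_centralizer_iff.2 fun q hq => congrArg Subtype.val
      (mem_centralizer_iff.1 hmem ⟨q, hQN hq⟩ (mem_subgroupOf.2 hq)))
  -- the stabilizer of the series `Q ≥ U ≥ 1`
  let A : Subgroup G :=
    { carrier := {a | a ∈ M ∧ a ∈ centralizer (U : Set G) ∧ ∀ q ∈ Q, a * q * a⁻¹ * q⁻¹ ∈ U}
      one_mem' := ⟨one_mem _, one_mem _, fun q _ => by simp⟩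
      mul_mem' := by
        rintro a b ⟨ha, ha', ha''⟩ ⟨hb, hb', hb''⟩
        refine ⟨mul_mem ha hb, mul_mem ha' hb', fun q hq => ?_⟩
        rw [show a * b * q * (a * b)⁻¹ * q⁻¹ = a * (b * q * b⁻¹ * q⁻¹) * a⁻¹ * (a * q * a⁻¹ * q⁻¹) by group]
        exact mul_mem (hUn a ha _ (hb'' q hq)) (ha'' q hq)
      inv_mem' := by
        rintro a ⟨ha, ha', ha''⟩
        refine ⟨inv_mem ha, inv_mem ha', fun q hq => ?_⟩
        have hq' : a⁻¹ * q * a ∈ Q := by
          have := (mem_normalizer_iff.1 (inv_mem ha) q).1 hq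
          rwa [inv_inv] at this
        have h1 := inv_mem (ha'' _ hq')
        rwa [show (a * (a⁻¹ * q * a) * a⁻¹ * (a⁻¹ * q * a)⁻¹)⁻¹ = a⁻¹ * q * a⁻¹⁻¹ * q⁻¹ by group] at h1 }
  have hAM : A ≤ M := fun a ha => ha.1
  haveI : (A.subgroupOf M).Normal := by
    refine ⟨fun a ha m => ?_⟩
    rw [mem_subgroupOf] at ha ⊢
    obtain ⟨ha1, ha2, ha3⟩ := ha
    show (m : G) * a * (m : G)⁻¹ ∈ A
    refine ⟨mul_mem (mul_mem m.2 ha1) (inv_mem m.2), mem_centralizer_iff.2 fun u hu => ?_, fun q hq => ?_⟩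
    · have hu' := hUn _ (inv_mem m.2) u hu
      rw [inv_inv] at hu'
      have h1 := mem_centralizer_iff.1 ha2 _ hu'
      calc u * ((m : G) * a * (m : G)⁻¹) = m * ((m : G)⁻¹ * u * m * a) * (m : G)⁻¹ := by group
        _ = m * (a * ((m : G)⁻¹ * u * m)) * (m : G)⁻¹ := by rw [h1]
        _ = m * a * (m : G)⁻¹ * u := by group
    · have hq' : (m : G)⁻¹ * q * m ∈ Q := by
        have := (mem_normalizer_iff.1 (inv_mem m.2) q).1 hq
        rwa [inv_inv] at this
      have h1 := hUn _ m.2 _ (ha3 _ hq')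
      rwa [show (m : G) * (a * ((m : G)⁻¹ * q * m) * (a : G)⁻¹ * ((m : G)⁻¹ * q * m)⁻¹) * (m : G)⁻¹ =
        (m : G) * a * (m : G)⁻¹ * q * ((m : G) * a * (m : G)⁻¹)⁻¹ * q⁻¹ by group] at h1
  set T := (S : Subgroup G) ⊓ A with hT
  -- `T` is not contained in `Q`
  have hDS : D ≤ (S : Subgroup G) := hD.1
  obtain ⟨t, htT, htQ⟩ : ∃ t ∈ T, t ∉ Q := by
    by_contra hh
    push Not at hh
    set W := D ⊓ centralizer (U : Set G) with hW
    have hQW : Q < Q ⊔ W := lt_of_le_not_ge le_sup_left fun h => hcU fun w hw =>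
      mem_inf.2 ⟨h (mem_sup_right hw), hw.1⟩
    have hWS : Q ⊔ W ≤ (S : Subgroup G) := sup_le hQS (inf_le_left.trans hDS)
    obtain ⟨x, hx, hxQ⟩ := SetLike.exists_of_lt
      (Cfsg.Lib.Fusion.lt_inf_normalizer (S.isPGroup'.to_le hWS) hQW)
    have hQnW : Q ≤ normalizer (W : Set G) := by
      have key : ∀ q ∈ Q, ∀ w ∈ W, q * w * q⁻¹ ∈ W := fun q hq w hw => by
        refine mem_inf.2 ⟨hD.2 w hw.1 q (mul_mem (mul_mem (hQS hq) (hDS hw.1)) (inv_mem (hQS hq))),
          mem_centralizer_iff.2 fun u hu => ?_⟩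
        have hu' := hUn _ (inv_mem (le_normalizer hq)) u hu
        rw [inv_inv] at hu'
        have h1 := mem_centralizer_iff.1 hw.2 _ hu'
        calc u * (q * w * q⁻¹) = q * (q⁻¹ * u * q * w) * q⁻¹ := by group
          _ = q * (w * (q⁻¹ * u * q)) * q⁻¹ := by rw [h1]
          _ = q * w * q⁻¹ * u := by group
      exact fun q hq => mem_normalizer_iff.2 fun w => ⟨key q hq w, fun h => by
        have := key q⁻¹ (inv_mem hq) _ h
        rwa [show q⁻¹ * (q * w * q⁻¹) * q⁻¹⁻¹ = w by group] at this⟩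
    have hxS := (mem_inf.1 hx).1
    obtain ⟨q, hq, w, hw, rfl⟩ : ∃ q ∈ Q, ∃ w ∈ W, q * w = x := by
      have h1 : x ∈ ((Q ⊔ W : Subgroup G) : Set G) := hxS
      rw [coe_mul_of_left_le_normalizer_right Q W hQnW] at h1
      exact Set.mem_mul.1 h1
    have hwM : w ∈ M := by
      have := mul_mem (inv_mem (le_normalizer (H := Q) hq)) (mem_inf.1 hx).2
      rwa [inv_mul_cancel_left] at this
    refine hxQ (mul_mem hq (hh w (mem_inf.2 ⟨hDS hw.1, hwM, hw.2, fun q' hq' => ?_⟩)))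
    have h1 : w * q' * w⁻¹ ∈ Q := (mem_normalizer_iff.1 hwM q').1 hq'
    refine mem_inf.2 ⟨mul_mem h1 (inv_mem hq'), ?_⟩
    have h2 : q' * w⁻¹ * q'⁻¹ ∈ D := hD.2 _ (inv_mem hw.1) q'
      (mul_mem (mul_mem (hQS hq') (inv_mem (hDS hw.1))) (inv_mem (hQS hq')))
    rw [show w * q' * w⁻¹ * q'⁻¹ = w * (q' * w⁻¹ * q'⁻¹) by group]
    exact mul_mem hw.1 h2
  -- Frattini argument
  obtain ⟨a, ha, n, hn, hcn⟩ : ∃ a ∈ A.subgroupOf M, ∃ n ∈ normalizer ((T.subgroupOf M : Subgroup M) : Set M),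
      a * n = (⟨y, hy⟩ : M) := by
    have hP : IsPGroup p (((S : Subgroup G) ⊓ M).subgroupOf M) :=
      (S.isPGroup'.to_le inf_le_left).comap_of_injective M.subtype M.subtype_injective
    have hTA : T.subgroupOf M ≤ A.subgroupOf M := fun z hz => mem_subgroupOf.2 (mem_inf.1 (mem_subgroupOf.1 hz)).2
    have heq : (T.subgroupOf M).subgroupOf (A.subgroupOf M) =
        ((hP.toSylow hSM : Sylow p M) : Subgroup M).subgroupOf (A.subgroupOf M) := by
      ext z
      show (((z : M) : G) ∈ T) ↔ (((z : M) : G) ∈ (S : Subgroup G) ⊓ M)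
      exact ⟨fun h => mem_inf.2 ⟨(mem_inf.1 h).1, (z : M).2⟩, fun h => mem_inf.2 ⟨(mem_inf.1 h).1, mem_subgroupOf.1 z.2⟩⟩
    have hR2 : IsPGroup p ((T.subgroupOf M).subgroupOf (A.subgroupOf M)) :=
      ((S.isPGroup'.to_le (inf_le_left : T ≤ _)).comap_of_injective M.subtype M.subtype_injective).comap_of_injective _
        (subtype_injective _)
    have hidx : ¬ p ∣ ((T.subgroupOf M).subgroupOf (A.subgroupOf M)).index := by
      rw [heq]
      exact Cfsg.Lib.Local.not_dvd_relIndex_of_normal (hP.toSylow hSM) (A.subgroupOf M)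
    have hsup := Sylow.normalizer_sup_eq_top (hR2.toSylow hidx)
    rw [show ((hR2.toSylow hidx : Sylow p (A.subgroupOf M)) : Subgroup (A.subgroupOf M)).map (A.subgroupOf M).subtype
      = T.subgroupOf M from by
        show ((T.subgroupOf M).subgroupOf (A.subgroupOf M)).map _ = _
        rw [map_subgroupOf_eq_of_le hTA], sup_comm] at hsup
    have hmem : (⟨y, hy⟩ : M) ∈ A.subgroupOf M ⊔ normalizer ((T.subgroupOf M : Subgroup M) : Set M) := by
      rw [hsup]; trivial
    exact mem_sup_of_normal_left.1 hmem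
  have hTM : T ≤ M := inf_le_right.trans hAM
  have hnT : (n : G) ∈ normalizer (T : Set G) := by
    refine mem_normalizer_iff.2 fun h => ?_
    constructor
    · intro hh
      exact mem_subgroupOf.1 ((mem_normalizer_iff.1 hn ⟨h, hTM hh⟩).1 (mem_subgroupOf.2 hh))
    · intro hh
      have hhM : h ∈ M := by
        have h1 := M.mul_mem (M.mul_mem (M.inv_mem n.2) (hTM hh)) n.2
        rwa [show (n : G)⁻¹ * ((n : G) * h * (n : G)⁻¹) * n = h by group] at h1
      exact mem_subgroupOf.1 ((mem_normalizer_iff.1 hn ⟨h, hhM⟩).2 (mem_subgroupOf.2 hh))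
  obtain ⟨k, m, hm, he⟩ := Nat.exists_eq_pow_mul_and_not_dvd (orderOf_pos (n : G)).ne' p hp.ne_one
  set z := (n : G) ^ p ^ k with hz
  have hzord : orderOf z = m := by
    rw [hz, orderOf_pow_of_dvd (pow_pos hp.pos k).ne' (he ▸ dvd_mul_right _ _), he,
      Nat.mul_div_cancel_left _ (pow_pos hp.pos k)]
  have hzC : z ∈ centralizer (Q : Set G) := by
    by_contra hzC
    have hb : Bad p (Q ⊔ T : Subgroup G) := by
      refine ⟨S.isPGroup'.to_le (sup_le hQS inf_le_left), z, pow_mem ?_ _, ?_, fun h =>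
        hzC (centralizer_le (SetLike.coe_subset_coe.2 le_sup_left) h)⟩
      · rw [Cfsg.Lib.Core.mem_normalizer_iff_map_conj, Subgroup.map_sup,
          Cfsg.Lib.Core.map_conj_eq_of_mem_normalizer n.2, Cfsg.Lib.Core.map_conj_eq_of_mem_normalizer hnT]
      · rw [hzord]; exact Nat.coprime_comm.1 ((Nat.Prime.coprime_iff_not_dvd hp).2 hm)
    exact absurd (hbig _ hb) (Nat.not_le.2 (Cfsg.Lib.Fusion.card_lt_card_of_lt
      (lt_of_le_not_ge le_sup_left fun h => htQ (h (mem_sup_right htT)))))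
  have hzA : z ∈ A := ⟨pow_mem n.2 _, centralizer_le (SetLike.coe_subset_coe.2 inf_le_left) hzC, fun q hq => by
    rw [← mem_centralizer_iff.1 hzC q hq, mul_inv_cancel_right, mul_inv_cancel]; exact one_mem _⟩
  have hyA : y ∈ A := by
    let ym : M := ⟨y, hy⟩
    have hq : QuotientGroup.mk' (A.subgroupOf M) ym = QuotientGroup.mk' (A.subgroupOf M) n := by
      rw [← show a * n = ym from hcn, map_mul, show QuotientGroup.mk' (A.subgroupOf M) a = 1 from
        (QuotientGroup.eq_one_iff _).2 ha, one_mul]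
    have hyk : y ^ p ^ k ∈ A := by
      have h1 : QuotientGroup.mk' (A.subgroupOf M) (ym ^ p ^ k) = 1 := by
        rw [map_pow, hq, ← map_pow]
        exact (QuotientGroup.eq_one_iff _).2 (mem_subgroupOf.2 hzA)
      exact mem_subgroupOf.1 ((QuotientGroup.eq_one_iff _).1 h1)
    obtain ⟨j, hj⟩ := exists_pow_eq_self_of_coprime (n := p ^ k) (hco.pow_right k).symm
    exact hj ▸ pow_mem hyk j
  refine hyC (mem_centralizer_iff.2 fun q hq => ?_)
  have hu := hyA.2.2 q hq
  set u := y * q * y⁻¹ * q⁻¹ with hudef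
  have hiter : ∀ i : ℕ, y ^ i * q * (y ^ i)⁻¹ = u ^ i * q := by
    intro i
    induction i with
    | zero => simp
    | succ i ih =>
      have hc : Commute u y := mem_centralizer_iff.1 hyA.2.1 u hu
      calc y ^ (i + 1) * q * (y ^ (i + 1))⁻¹ = y * (y ^ i * q * (y ^ i)⁻¹) * y⁻¹ := by rw [pow_succ']; group
        _ = (y * u ^ i * y⁻¹) * (y * q * y⁻¹) := by rw [ih]; group
        _ = u ^ (i + 1) * q := by
            rw [(hc.symm.pow_right i).eq, mul_inv_cancel_right, pow_succ, hudef]; group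
  have h1 := hiter (orderOf y)
  rw [pow_orderOf_eq_one, one_mul, inv_one, mul_one, eq_comm, mul_eq_right] at h1
  have hu1 : u = 1 := by
    obtain ⟨e, he⟩ := hQp ⟨u, (mem_inf.1 hu).1⟩
    have he' : u ^ p ^ e = 1 := congrArg Subtype.val he
    rw [← orderOf_eq_one_iff]
    exact Nat.eq_one_of_dvd_coprimes (hco.pow_right e) (orderOf_dvd_of_pow_eq_one h1)
      (orderOf_dvd_of_pow_eq_one he')
  rw [hudef, mul_inv_eq_one] at hu1
  calc q * y = y * q * y⁻¹ * y := by rw [hu1]
    _ = y * q := by group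


/-- A Frobenius normal p-complement criterion relative to a strongly closed subgroup. Let G be a finite group, S a Sylow p-subgroup and D a subgroup of S strongly closed in S with respect to G. Then G has a normal p-complement if and only if N_G(U) has a normal p-complement for every subgroup U of D with C_D(U) ≤ U. -/
theorem result {G : Type*} [Group G] [Finite G] {p : ℕ} [Fact p.Prime] (S : Sylow p G) (D : Subgroup G) (hD : Cfsg.IsStronglyClosed D (S : Subgroup G)) : Cfsg.HasNormalPComplement p G ↔ ∀ U : Subgroup G, U ≤ D → D ⊓ Subgroup.centralizer (U : Set G) ≤ U → Cfsg.HasNormalPComplement p ↥(Subgroup.normalizer (U : Set G)) := by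
  constructor
  · intro h U _ _
    exact Cfsg.Lib.Fusion.hasNormalPComplement_subgroup h _
  · intro h
    refine (Cfsg.Lib.Fusion.frobenius S).2 fun Q hQ g hg hco => ?_
    by_contra hgC
    exact not_bad S D hD h Q ⟨S.isPGroup'.to_le hQ, g, hg, hco, hgC⟩

end Cfsg.Agent.S3839
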