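import Cfsg.Statements.S3857
import Cfsg.Agent.Lib.Solv.FrobeniusBasic
import Cfsg.Agent.Lib.Solv.FixedPointFree
import Cfsg.Agent.Lib.Core.PSolvable
import Cfsg.Agent.Lib.Coprime.Action
import Mathlib.GroupTheory.SchurZassenhaus

set_option autoImplicit false
open Cfsg
open scoped commutatorElement

namespace Cfsg.Agent.S3857

open Subgroup Cfsg.Lib.Solv Cfsg.Lib.Core

universe u

/-- Elements with orders in `π` and outside `π` of prime order never commute. -/
def Sep (π : Set ℕ) (G : Type u) [Group G] : Prop :=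
  ∀ a b : ℕ, a.Prime → b.Prime → a ∈ π → b ∉ π → ∀ g : G, orderOf g ≠ a * b

/-- All prime divisors lie in `π`. -/
def Only (π : Set ℕ) (n : ℕ) : Prop := ∀ q : ℕ, q.Prime → q ∣ n → q ∈ π

variable {G : Type u} [Group G] [Finite G] {π : Set ℕ}

omit [Finite G] in
theorem sep_compl (h : Sep π G) : Sep πᶜ G := fun a b ha hb haπ hbπ g hg =>
  h b a hb ha (not_not.mp hbπ) haπ g (hg.trans (mul_comm a b))

omit [Finite G] in
theorem sep_map {H : Type u} [Group H] (f : H →* G) (hf : Function.Injective f) (h : Sep π G) :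
    Sep π H := fun a b ha hb haπ hbπ g => orderOf_injective f hf g ▸ h a b ha hb haπ hbπ (f g)

theorem sep_false (h : Sep π G) {x y : G} (hxy : Commute x y) (hx1 : x ≠ 1) (hy1 : y ≠ 1)
    (hx : Only π (orderOf x)) (hy : Only πᶜ (orderOf y)) : False := by
  obtain ⟨a, ha, had⟩ := Nat.exists_prime_and_dvd (fun e => hx1 (orderOf_eq_one_iff.mp e))
  obtain ⟨b, hb, hbd⟩ := Nat.exists_prime_and_dvd (fun e => hy1 (orderOf_eq_one_iff.mp e))
  have key : ∀ (z : G) (c : ℕ), c.Prime → c ∣ orderOf z → orderOf (z ^ (orderOf z / c)) = c := by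
    intro z c hc hcd
    rw [orderOf_pow_of_dvd (Nat.div_pos (Nat.le_of_dvd (orderOf_pos z) hcd) hc.pos).ne'
      (Nat.div_dvd_of_dvd hcd), Nat.div_div_self hcd (orderOf_pos z).ne']
  have hab : a ≠ b := fun e => hy b hb hbd (e ▸ hx a ha had)
  refine h a b ha hb (hx a ha had) (hy b hb hbd) (x ^ (orderOf x / a) * y ^ (orderOf y / b)) ?_
  rw [(hxy.pow_pow _ _).orderOf_mul_eq_mul_orderOf_of_coprime (by
    rw [key x a ha had, key y b hb hbd]; exact (Nat.coprime_primes ha hb).mpr hab),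
    key x a ha had, key y b hb hbd]

theorem only_of_mem {K : Subgroup G} (hK : Only π (Nat.card K)) {x : G} (hx : x ∈ K) :
    Only π (orderOf x) := fun q hq hd => hK q hq (hd.trans (Subgroup.orderOf_dvd_natCard K hx))

theorem only_of_le {H K : Subgroup G} (hle : H ≤ K) (hK : Only π (Nat.card K)) :
    Only π (Nat.card H) := fun q hq hd => hK q hq (hd.trans (Subgroup.card_dvd_of_le hle))

omit [Group G] [Finite G] in
theorem coprime_only {m n : ℕ} (hm : Only π m) (hn : Only πᶜ n) : m.Coprime n :=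
  Nat.coprime_of_dvd fun q hq h1 h2 => hn q hq h2 (hm q hq h1)

/-- A normal `π`-subgroup with a complement of order outside `π` is a Frobenius kernel. -/
theorem frob_of_sep (h : Sep π G) {K A : Subgroup G} [hKn : K.Normal] (hc : K.IsComplement' A)
    (hK : Only π (Nat.card K)) (hA : Only πᶜ (Nat.card A)) (hK1 : K ≠ ⊥) (hA1 : A ≠ ⊥) :
    IsFrobeniusComplement A ∧ frobeniusKernel A = (K : Set G) := by
  have hfr : IsFrobeniusComplement A := isFrobeniusComplement_of_fpf hc hK1 hA1 fun b hb hb1 => by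
    rw [eq_bot_iff]
    rintro k ⟨hk, hkb⟩
    rw [mem_bot]
    by_contra hk1
    exact sep_false h (mem_centralizer_singleton_iff.mp hkb) hk1 hb1 (only_of_mem hK hk)
      (only_of_mem hA hb)
  refine ⟨hfr, ?_⟩
  obtain ⟨K₀, hK₀, hK₀n, hc₀⟩ := frobenius_theorem hfr
  have hcard : Nat.card K₀ = Nat.card K := by
    rw [← hc₀.index_eq_card, hc.index_eq_card]
  have hle : K₀ ≤ K := fun x hx => by
    refine (QuotientGroup.eq_one_iff x).mp (orderOf_eq_one_iff.mp (Nat.eq_one_of_dvd_coprimes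
      (coprime_only hK hA) ((orderOf_map_dvd (QuotientGroup.mk' K) x).trans
        ((Subgroup.orderOf_dvd_natCard K₀ hx).trans hcard.dvd)) ?_))
    exact hc.symm.index_eq_card ▸ K.index_eq_card ▸ _root_.orderOf_dvd_natCard _
  rw [← hK₀, Subgroup.eq_of_le_of_card_ge hle hcard.ge]

theorem main [Group.IsSolvable G] (h : Sep π G) (hN : ∃ M : Subgroup G, M.Normal ∧ M ≠ ⊥ ∧ Only π (Nat.card M))
    (hout : ∃ b ∉ π, b.Prime ∧ b ∣ Nat.card G) :
    (∃ C : Subgroup G, Cfsg.IsFrobeniusComplement C) ∨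
    (∃ (H K : Subgroup G) (_ : H.Normal), K.Normal ∧ H < K ∧
      (∃ C : Subgroup ↥K, Cfsg.IsFrobeniusComplement C ∧ Cfsg.frobeniusKernel C = (H.subgroupOf K : Set ↥K)) ∧
      (∃ C : Subgroup (G ⧸ H), Cfsg.IsFrobeniusComplement C ∧ Cfsg.frobeniusKernel C = (K.map (QuotientGroup.mk' H) : Set (G ⧸ H)))) := by
  classical
  obtain ⟨N, ⟨hNn, hN1, hNπ⟩, hmax⟩ := Set.Finite.exists_maximal
    (s := {M : Subgroup G | M.Normal ∧ M ≠ ⊥ ∧ Only π (Nat.card M)}) (Set.toFinite _) hN
  have hNne : N ≠ ⊤ := by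
    intro e
    obtain ⟨b, hb, hbp, hbd⟩ := hout
    exact hb (hNπ b hbp (by rw [e, Subgroup.card_top]; exact hbd))
  have hnt : Nontrivial (G ⧸ N) := QuotientGroup.nontrivial_iff.mpr hNne
  obtain ⟨Mb, hMb⟩ := exists_isMinNormal_univ (G := G ⧸ N)
  obtain ⟨hMbc, q, hq, hexp, hMbq⟩ := minimal_solvable_elementary hMb inferInstance
  have := Fact.mk hq
  have hMbn := hMb.1
  set M := Mb.comap (QuotientGroup.mk' N) with hM
  have hMn : M.Normal := hMbn.comap _
  have hNM : N ≤ M := (QuotientGroup.ker_mk' N).symm.trans_le (ker_le_comap _ _)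
  have hMmap : M.map (QuotientGroup.mk' N) = Mb :=
    map_comap_eq_self_of_surjective (QuotientGroup.mk'_surjective N) _
  have hMc : Nat.card M = Nat.card N * Nat.card Mb := by
    rw [hM, Cfsg.Lib.Core.card_comap_eq _ (QuotientGroup.mk'_surjective N), QuotientGroup.ker_mk', mul_comm]
  obtain ⟨k, hk⟩ := IsPGroup.iff_card.mp hMbq
  have hMbne : Nat.card Mb ≠ 1 := fun e => hMb.2.1 (Subgroup.eq_bot_of_card_eq _ e)
  have hqπ : q ∉ π := by
    intro hqπ
    have hMπ : Only π (Nat.card M) := by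
      intro s hs hd
      rw [hMc] at hd
      rcases hs.dvd_mul.mp hd with e | e
      · exact hNπ s hs e
      · exact ((Nat.prime_dvd_prime_iff_eq hs hq).mp (hs.dvd_of_dvd_pow (hk ▸ e))) ▸ hqπ
    have hM1 : M ≠ ⊥ := fun e => hN1 (eq_bot_iff.mpr (hNM.trans e.le))
    have e := le_antisymm hNM (hmax ⟨hMn, hM1, hMπ⟩ hNM)
    rw [← e] at hMc
    exact hMbne (Nat.eq_of_mul_eq_mul_left (Nat.card_pos (α := N)) (by rw [mul_one]; exact hMc.symm))
  obtain ⟨P⟩ : Nonempty (Sylow q M) := inferInstance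
  set Q := (P : Subgroup M).map M.subtype with hQ
  have hNq : ¬ q ∣ Nat.card N := fun e => hqπ (hNπ q hq e)
  have hQc : Nat.card Q = q ^ k := by
    rw [hQ, Nat.card_congr ((P : Subgroup M).equivMapOfInjective _ M.subtype_injective).toEquiv.symm,
      P.card_eq_multiplicity, hMc, hk, Nat.factorization_mul Nat.card_pos.ne' (pow_ne_zero _ hq.ne_zero),
      Finsupp.add_apply, Nat.factorization_eq_zero_of_not_dvd hNq, hq.factorization_pow,
      Finsupp.single_eq_same, zero_add]
  have hQπ : Only πᶜ (Nat.card Q) := fun s hs hd => by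
    rw [hQc] at hd
    exact ((Nat.prime_dvd_prime_iff_eq hs hq).mp (hs.dvd_of_dvd_pow hd)) ▸ hqπ
  have hQN : Q ⊓ N = ⊥ := by
    rw [eq_bot_iff]
    rintro x ⟨hx1, hx2⟩
    exact mem_bot.mpr (orderOf_eq_one_iff.mp (Nat.eq_one_of_dvd_coprimes (coprime_only hNπ hQπ)
      (Subgroup.orderOf_dvd_natCard N hx2) (Subgroup.orderOf_dvd_natCard Q hx1)))
  have hQM : Q ≤ M := map_subtype_le _
  have hQ1 : Q ≠ ⊥ := fun e => hMbne (by rw [hk, ← hQc, e, card_bot])
  have hinj : ∀ x ∈ Q, (x : G ⧸ N) = 1 → x = 1 := fun x hx e =>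
    mem_bot.mp (hQN ▸ ⟨hx, (QuotientGroup.eq_one_iff x).mp e⟩)
  have hQcomm : IsMulCommutative Q := ⟨⟨fun a b => Subtype.ext (by
    refine commutatorElement_eq_one_iff_mul_comm.mp (hinj _ ?_ ?_)
    · exact mul_mem (mul_mem (mul_mem a.2 b.2) (inv_mem a.2)) (inv_mem b.2)
    · change QuotientGroup.mk' N ⁅(a : G), (b : G)⁆ = 1
      rw [map_commutatorElement, commutatorElement_eq_one_iff_mul_comm]
      exact congrArg Subtype.val (hMbc.is_comm.comm ⟨_, hMmap ▸ mem_map_of_mem _ (hQM a.2)⟩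
        ⟨_, hMmap ▸ mem_map_of_mem _ (hQM b.2)⟩))⟩⟩
  have hQexp : ∀ x ∈ Q, x ^ q = 1 := fun x hx => hinj _ (pow_mem hx q) (by
    rw [QuotientGroup.mk_pow]
    exact hexp _ (hMmap ▸ mem_map_of_mem _ (hQM hx)))
  obtain ⟨V, hV, hVN⟩ := exists_isMinNormal hNn hN1
  have hVc := isMulCommutative_of_minimal_solvable hV inferInstance
  have hVn := hV.1
  have hcyc : IsCyclic Q := by
    refine isCyclic_of_fpf_abelian hV.2.1 (by rw [normalizer_eq_top]; exact le_top) fun b hb hb1 => ?_
    rw [eq_bot_iff]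
    rintro v ⟨hv, hvb⟩
    rw [mem_bot]
    by_contra hv1
    exact sep_false h (mem_centralizer_singleton_iff.mp hvb) hv1 hb1 (only_of_mem hNπ (hVN hv))
      (only_of_mem hQπ hb)
  obtain ⟨y, hy⟩ := IsCyclic.exists_generator (α := Q)
  have hy1 : (y : G) ≠ 1 := by
    intro e
    apply hQ1
    rw [eq_bot_iff]
    intro x hx
    obtain ⟨j, hj⟩ := mem_zpowers_iff.mp (hy ⟨x, hx⟩)
    have hj' : (y : G) ^ j = x := by rw [← SubgroupClass.coe_zpow, hj]
    rw [mem_bot, ← hj', e, one_zpow]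
  set L := normalizer (Q : Set G) with hL
  have hQL : Q ≤ L := le_normalizer
  have hLN : L ⊔ N = ⊤ := by
    refine top_le_iff.mp ?_
    rw [← P.normalizer_sup_eq_top]
    refine sup_le le_sup_left ?_
    intro x hx
    have hxb : (x : G ⧸ N) ∈ Q.map (QuotientGroup.mk' N) := by
      have e : Q.map (QuotientGroup.mk' N) = Mb := by
        refine Subgroup.eq_of_le_of_card_ge ((map_mono hQM).trans hMmap.le) (le_of_eq ?_)
        have hf : Function.Injective ((QuotientGroup.mk' N).comp Q.subtype) := by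
          rw [injective_iff_map_eq_one]
          exact fun a ha => Subtype.ext (hinj _ a.2 ha)
        rw [hk, ← hQc, ← Nat.card_congr (MonoidHom.ofInjective hf).toEquiv.symm,
          MonoidHom.range_comp, range_subtype]
      exact e.symm ▸ hx
    obtain ⟨z, hz, hzx⟩ := hxb
    have hzN : z⁻¹ * x ∈ N := QuotientGroup.eq.mp hzx
    have : x = z * (z⁻¹ * x) := by group
    rw [this]
    exact mul_mem (mem_sup_left (hQL hz)) (mem_sup_right hzN)
  have hdis : L ⊓ N = ⊥ := by
    rw [eq_bot_iff]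
    rintro x ⟨hxL, hxN⟩
    rw [mem_bot]
    by_contra hx1
    have hc : x * y * x⁻¹ * (y : G)⁻¹ = 1 := by
      refine mem_bot.mp ((hQN.le : Q ⊓ N ≤ ⊥) ⟨Q.mul_mem ((mem_normalizer_iff.mp hxL _).mp y.2) (Q.inv_mem y.2), ?_⟩)
      have e : x * y * x⁻¹ * (y : G)⁻¹ = x * ((y : G) * x⁻¹ * (y : G)⁻¹) := by group
      rw [e]; exact mul_mem hxN (hNn.conj_mem _ (inv_mem hxN) _)
    exact sep_false h (mul_inv_eq_iff_eq_mul.mp (mul_inv_eq_one.mp hc)) hx1 hy1
      (only_of_mem hNπ hxN) (only_of_mem hQπ y.2)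
  have hcomp : N.IsComplement' L := by
    refine isComplement'_of_disjoint_and_mul_eq_univ (disjoint_iff.mpr (inf_comm N L ▸ hdis)) ?_
    rw [← normal_mul, sup_comm, hLN, coe_top]
  by_cases hLπ : Only πᶜ (Nat.card L)
  · exact Or.inl ⟨L, (frob_of_sep h hcomp hNπ hLπ hN1 (fun e => hQ1 (eq_bot_iff.mpr (hQL.trans e.le)))).1⟩
  right
  obtain ⟨p, hp, hpd, hpπ⟩ : ∃ p, p.Prime ∧ p ∣ Nat.card L ∧ p ∈ π := by
    by_contra hne
    exact hLπ fun s hs hd hsπ => hne ⟨s, hs, hd, hsπ⟩
  have := Fact.mk hp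
  set Cl : Subgroup L := (centralizer (Q : Set G)).subgroupOf L with hCl
  have hClmem : ∀ l : L, l ∈ Cl ↔ (l : G) * y = y * l := by
    intro l
    rw [hCl, mem_subgroupOf]
    constructor
    · exact fun hl => (hl _ y.2).symm
    · intro hl x hx
      obtain ⟨j, hj⟩ := mem_zpowers_iff.mp (hy ⟨x, hx⟩)
      have hj' : (y : G) ^ j = x := by rw [← SubgroupClass.coe_zpow, hj]
      rw [← hj']
      exact ((show Commute (l : G) y from hl).zpow_right j).eq.symm
  have hClπ : Only πᶜ (Nat.card Cl) := by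
    intro s hs hd hsπ
    have := Fact.mk hs
    obtain ⟨c, hc⟩ := exists_prime_orderOf_dvd_card' s hd
    have hco : orderOf ((c : L) : G) = s := by rw [orderOf_coe, orderOf_coe, hc]
    refine sep_false h ((hClmem c).mp c.2) (fun e => hs.ne_one (hco.symm.trans (orderOf_eq_one_iff.mpr e)))
      hy1 (fun t ht htd => ?_) (only_of_mem hQπ y.2)
    rw [hco] at htd
    exact ((Nat.prime_dvd_prime_iff_eq ht hs).mp htd) ▸ hsπ
  let φ : L →* MulAut Q := Q.normalizerMonoidHom
  have hker : φ.ker = Cl := by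
    rw [Subgroup.normalizerMonoidHom_ker]
  have hClN : Cl.Normal := hker ▸ MonoidHom.normal_ker φ
  have hab : ∀ a b : L, ⁅a, b⁆ ∈ Cl := by
    intro a b
    rw [← hker, MonoidHom.mem_ker, map_commutatorElement, commutatorElement_eq_one_iff_mul_comm]
    let e := IsCyclic.mulAutMulEquiv Q
    exact e.injective (by rw [map_mul, map_mul, mul_comm])
  have hidx : Only π Cl.index := by
    intro s hs hd
    by_contra hsπ
    have := Fact.mk hs
    obtain ⟨b, hb⟩ := exists_prime_orderOf_dvd_card' (G := L) p hpd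
    obtain ⟨S⟩ : Nonempty (Sylow s L) := inferInstance
    set W := Cl ⊔ (S : Subgroup L) with hW
    have hWn : W.Normal := ⟨fun x hx g => by
      have e : g * x * g⁻¹ = ⁅g, x⁆ * x := by simp [commutatorElement_def, mul_assoc]
      rw [e]; exact mul_mem (mem_sup_left (hab g x)) hx⟩
    have hWπ : Only πᶜ (Nat.card W) := by
      intro t ht htd
      rw [hW, sup_comm] at htd
      rcases ht.dvd_mul.mp (htd.trans (card_sup_dvd_mul _ _)) with e | e
      · rw [S.card_eq_multiplicity] at e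
        exact ((Nat.prime_dvd_prime_iff_eq ht hs).mp (ht.dvd_of_dvd_pow e)) ▸ hsπ
      · exact hClπ t ht e
    set A := zpowers b with hA
    have hAπ : Only π (Nat.card A) := by
      intro t ht htd
      rw [hA, Nat.card_zpowers, hb] at htd
      exact ((Nat.prime_dvd_prime_iff_eq ht hp).mp htd) ▸ hpπ
    have hsol : Group.IsSolvable A ∨ Group.IsSolvable W := Or.inr inferInstance
    obtain ⟨R, hR⟩ := Cfsg.Lib.Coprime.exists_invariant_sylow (A := A) (G := W)
      (by rw [normalizer_eq_top]; exact le_top) (coprime_only hAπ hWπ) hsol s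
    set R' := (R : Subgroup W).map W.subtype with hR'
    have hRp : IsPGroup s R' := R.isPGroup'.map _
    have hRC : ¬ R' ≤ Cl := by
      intro hle
      have h1 : R'.index = (R : Subgroup W).index * W.index := index_map_subtype _
      have h2 : ¬ s ∣ R'.index := by
        rw [h1]
        exact hs.not_dvd_mul R.not_dvd_index
          (fun e => S.not_dvd_index (e.trans (index_dvd_of_le le_sup_right)))
      exact h2 (hd.trans (index_dvd_of_le hle))
    obtain ⟨x, hx, hxC⟩ := SetLike.not_le_iff_exists.mp hRC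
    have hcopR : (Nat.card A).Coprime (Nat.card R') :=
      (coprime_only hAπ hWπ).coprime_dvd_right (Subgroup.card_dvd_of_le (map_subtype_le _))
    obtain ⟨n, hn, c, ⟨hc1, hc2⟩, rfl⟩ := Cfsg.Lib.Coprime.exists_mul_centralizer_of_commutator_mem
      (A := A) (G := R') hR hcopR (Or.inl (Cfsg.Lib.Core.isSolvable_of_isMulCommutative _))
      (N := Cl ⊓ R') inf_le_right
      (le_trans (le_inf (by rw [normalizer_eq_top]; exact le_top) hR) inf_normalizer_le_normalizer_inf)
      hx (fun a ha => ⟨hab _ _, by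
        have e : ⁅x, a⁆ = x * (a * x⁻¹ * a⁻¹) := by simp [commutatorElement_def, mul_assoc]
        rw [e]; exact mul_mem hx ((mem_normalizer_iff.mp (hR ha) _).mp (inv_mem hx))⟩)
    have hcb : Commute b c := hc2 b (mem_zpowers b)
    apply hxC
    have hc1' : c = 1 := by
      by_contra hcne
      exact sep_false (sep_map L.subtype L.subtype_injective h) hcb
        (fun e => hp.ne_one (hb.symm.trans (orderOf_eq_one_iff.mpr e))) hcne
        (only_of_mem hAπ (mem_zpowers b))
        (only_of_mem hWπ (map_subtype_le _ hc1))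
    rw [hc1', mul_one]
    exact hn.1
  have hcopC : (Nat.card Cl).Coprime Cl.index := (coprime_only hidx hClπ).symm
  obtain ⟨A0, hA0⟩ := exists_right_complement'_of_coprime hcopC
  set C := Cl.map L.subtype with hC
  have hCL : C ≤ L := map_subtype_le _
  have hCπ : Only πᶜ (Nat.card C) := by
    rw [hC, card_map_of_injective L.subtype_injective]; exact hClπ
  have hC1 : C ≠ ⊥ := fun e => hQ1 (by
    rw [eq_bot_iff, ← e]
    exact fun x hx => ⟨⟨x, hQL hx⟩, fun z hz =>
      congrArg Subtype.val (hQcomm.is_comm.comm ⟨z, hz⟩ ⟨x, hx⟩), rfl⟩)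
  set K := N ⊔ C with hK
  have hCNn : L ≤ normalizer (C : Set G) := by
    intro l hl
    rw [mem_normalizer_iff]
    intro x
    constructor
    · rintro ⟨z, hz, rfl⟩
      exact ⟨⟨l, hl⟩ * z * ⟨l, hl⟩⁻¹, hClN.conj_mem z hz _, rfl⟩
    · rintro ⟨z, hz, hze⟩
      refine ⟨(⟨l, hl⟩ : L)⁻¹ * z * ⟨l, hl⟩, ?_, ?_⟩
      · simpa using hClN.conj_mem z hz (⟨l, hl⟩ : L)⁻¹
      · change l⁻¹ * (z : G) * l = x
        rw [show (z : G) = l * x * l⁻¹ from hze]; group
  have hKn : K.Normal := by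
    rw [← normalizer_eq_top_iff, eq_top_iff, ← hLN]
    refine sup_le ?_ (le_sup_left.trans le_normalizer)
    intro l hl
    rw [mem_normalizer_iff_map_conj, hK, Subgroup.map_sup,
      Cfsg.Lib.Core.map_conj_eq_of_mem_normalizer (hCNn hl),
      Cfsg.Lib.Core.map_conj_eq_of_mem_normalizer (g := l) (by rw [normalizer_eq_top]; exact mem_top _)]
  refine ⟨N, K, hNn, hKn, lt_of_le_of_ne le_sup_left (fun e => hC1 ?_), ?_, ?_⟩
  · rw [eq_bot_iff, ← hdis]
    exact le_inf hCL (le_sup_right.trans e.symm.le)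
  · have hdis2 : Disjoint N C := disjoint_iff.mpr (eq_bot_iff.mpr
      ((inf_le_inf_left N hCL).trans (inf_comm N L ▸ hdis.le)))
    have hcK : (N.subgroupOf K).IsComplement' (C.subgroupOf K) := by
      refine isComplement'_of_disjoint_and_mul_eq_univ ?_ ?_
      · rw [disjoint_iff, eq_bot_iff]
        rintro z ⟨hz1, hz2⟩
        exact mem_bot.mpr (Subtype.ext (mem_bot.mp (hdis2.le_bot ⟨hz1, hz2⟩)))
      · rw [← normal_mul, ← subgroupOf_sup le_sup_left le_sup_right, subgroupOf_self, coe_top]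
    have hiN : Nat.card (N.subgroupOf K) = Nat.card N :=
      Nat.card_congr (subgroupOfEquivOfLe le_sup_left).toEquiv
    have hiC : Nat.card (C.subgroupOf K) = Nat.card C :=
      Nat.card_congr (subgroupOfEquivOfLe le_sup_right).toEquiv
    obtain ⟨h1, h2⟩ := frob_of_sep (sep_map K.subtype K.subtype_injective h) hcK
      (hiN ▸ hNπ) (hiC ▸ hCπ)
      (fun e => hN1 (by rw [← card_eq_one, ← hiN, e, card_bot]))
      (fun e => hC1 (by rw [← card_eq_one, ← hiC, e, card_bot]))
    exact ⟨_, h1, h2⟩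
  · let f : L →* G ⧸ N := (QuotientGroup.mk' N).comp L.subtype
    have hfinj : Function.Injective f := by
      rw [injective_iff_map_eq_one]
      exact fun l hl => Subtype.ext (mem_bot.mp (hdis ▸ ⟨l.2, (QuotientGroup.eq_one_iff (l : G)).mp hl⟩))
    have hfsur : Function.Surjective f := by
      rw [← MonoidHom.range_eq_top, MonoidHom.range_comp, range_subtype]
      have e : (L ⊔ N).map (QuotientGroup.mk' N) = ⊤ := by
        rw [hLN]; exact map_top_of_surjective _ (QuotientGroup.mk'_surjective N)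
      rwa [Subgroup.map_sup, QuotientGroup.map_mk'_self, sup_bot_eq] at e
    have hsep : Sep πᶜ (G ⧸ N) := by
      intro a b ha hb haπ hbπ g hg
      obtain ⟨l, rfl⟩ := hfsur g
      exact sep_compl (sep_map L.subtype L.subtype_injective h) a b ha hb haπ hbπ l
        ((orderOf_injective f hfinj l).symm.trans hg)
    have hKmap : K.map (QuotientGroup.mk' N) = Cl.map f := by
      rw [hK, Subgroup.map_sup, QuotientGroup.map_mk'_self, bot_sup_eq, hC, map_map]
    have : (Cl.map f).Normal := hClN.map f hfsur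
    have hcf : (Cl.map f).IsComplement' (A0.map f) := by
      refine isComplement'_of_disjoint_and_mul_eq_univ ?_ ?_
      · rw [disjoint_iff, ← map_inf _ _ _ hfinj, disjoint_iff.mp hA0.disjoint, Subgroup.map_bot]
      · rw [← normal_mul, ← Subgroup.map_sup, hA0.sup_eq_top, map_top_of_surjective f hfsur, coe_top]
    have hA0π : Only π (Nat.card A0) := hA0.symm.index_eq_card ▸ hidx
    obtain ⟨h1, h2⟩ := frob_of_sep hsep hcf (by rwa [card_map_of_injective hfinj])
      (by rw [card_map_of_injective hfinj, compl_compl]; exact hA0π)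
      (fun e => hC1 (by rw [hC, (Cl.map_eq_bot_iff_of_injective hfinj).mp e, Subgroup.map_bot]))
      (fun e => by
        have e1 := (A0.map_eq_bot_iff_of_injective hfinj).mp e
        have e2 := Cl.card_mul_index
        rw [hA0.symm.index_eq_card, e1, card_bot, mul_one] at e2
        exact hClπ p hp (e2.symm ▸ hpd) hpπ)
    exact ⟨A0.map f, h1, by rw [h2, hKmap]⟩


/-- A finite solvable group whose prime graph (prime divisors of the order, two distinct primes joined when there is an element of order their product) is disconnected is a Frobenius group or a 2-Frobenius group (it has normal subgroups H < K with K a Frobenius group with kernel H and G/H a Frobenius group with kernel K/H). -/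
theorem result {G : Type*} [Group G] [Finite G] (hsol : Group.IsSolvable G)
    (hdisc : (∃ A : Set ℕ, (∃ a ∈ A, a.Prime ∧ a ∣ Nat.card G) ∧ (∃ b ∉ A, b.Prime ∧ b ∣ Nat.card G) ∧
      ∀ a ∈ A, ∀ b ∉ A, a.Prime → b.Prime → a ∣ Nat.card G → b ∣ Nat.card G → ¬ ∃ g : G, orderOf g = a * b)) :
    (∃ C : Subgroup G, Cfsg.IsFrobeniusComplement C) ∨
    (∃ (H K : Subgroup G) (_ : H.Normal), K.Normal ∧ H < K ∧
      (∃ C : Subgroup ↥K, Cfsg.IsFrobeniusComplement C ∧ Cfsg.frobeniusKernel C = (H.subgroupOf K : Set ↥K)) ∧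
      (∃ C : Subgroup (G ⧸ H), Cfsg.IsFrobeniusComplement C ∧ Cfsg.frobeniusKernel C = (K.map (QuotientGroup.mk' H) : Set (G ⧸ H)))) := by
  obtain ⟨A, ⟨a, haA, hap, had⟩, ⟨b, hbA, hbp, hbd⟩, hsep⟩ := hdisc
  have := hsol
  have h : Sep A G := fun x y hx hy hxA hyA g hg => hsep x hxA y hyA hx hy
    ((Dvd.intro y hg.symm).trans (orderOf_dvd_natCard g))
    ((Dvd.intro_left x hg.symm).trans (orderOf_dvd_natCard g)) ⟨g, hg⟩
  have : Nontrivial G := Finite.one_lt_card_iff_nontrivial.mp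
    (lt_of_lt_of_le hap.one_lt (Nat.le_of_dvd Nat.card_pos had))
  obtain ⟨M, hM⟩ := exists_isMinNormal_univ (G := G)
  obtain ⟨-, p, hp, -, hMp⟩ := minimal_solvable_elementary hM inferInstance
  have := Fact.mk hp
  obtain ⟨k, hk⟩ := IsPGroup.iff_card.mp hMp
  have honly : ∀ π : Set ℕ, p ∈ π → Only π (Nat.card M) := fun π hpπ s hs hd =>
    ((Nat.prime_dvd_prime_iff_eq hs hp).mp (hs.dvd_of_dvd_pow (hk ▸ hd))) ▸ hpπ
  by_cases hpA : p ∈ A
  · exact main h ⟨M, hM.1, hM.2.1, honly A hpA⟩ ⟨b, hbA, hbp, hbd⟩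
  · exact main (sep_compl h) ⟨M, hM.1, hM.2.1, honly Aᶜ hpA⟩ ⟨a, not_not.mpr haA, hap, had⟩

end Cfsg.Agent.S3857
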