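import Cfsg.Statements.S3859

set_option autoImplicit false
open Cfsg

namespace Cfsg.Agent.S3859

theorem inf_not_normal {G : Type*} [Group G] [Finite G] (T : Subgroup G) [T.Normal] (hT : IsSimpleGroup T)
    (hna : ¬ IsMulCommutative T) {r : ℕ} [Fact r.Prime] (R : Sylow r G)
    (hR0 : (R : Subgroup G) ⊓ T ≠ ⊥) : ¬ ((R : Subgroup G) ⊓ T).Normal := by
  intro hn
  rcases hT.eq_bot_or_eq_top_of_normal (((R : Subgroup G) ⊓ T).subgroupOf T) inferInstance with h | h
  · rw [Subgroup.subgroupOf_eq_bot, disjoint_iff, inf_assoc, inf_idem] at h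
    exact hR0 h
  · rw [Subgroup.subgroupOf_eq_top, le_inf_iff] at h
    have hp : IsPGroup r T := R.2.to_le h.1
    have := hp.isNilpotent
    have := hp.center_nontrivial
    rcases hT.eq_bot_or_eq_top_of_normal (Subgroup.center T) inferInstance with hc | hc
    · exact (Subgroup.nontrivial_iff_ne_bot _).mp ‹_› hc
    · exact hna ⟨⟨fun a b => (Subgroup.mem_center_iff.mp (hc ▸ Subgroup.mem_top b) a)⟩⟩


theorem exists_sylow_map_eq_inf {G : Type*} [Group G] [Finite G] {r : ℕ} [Fact r.Prime] (R : Sylow r G)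
    (T : Subgroup G) [T.Normal] :
    ∃ Q : Sylow r T, (Q : Subgroup T).map T.subtype = (R : Subgroup G) ⊓ T := by
  obtain ⟨Q, hQ⟩ := (R.2.comap_of_injective T.subtype T.subtype_injective).exists_le_sylow
  obtain ⟨S, hS⟩ := (Q.2.map T.subtype).exists_le_sylow
  obtain ⟨g, hg⟩ := MulAction.exists_smul_eq G R S
  refine ⟨Q, (Subgroup.eq_of_le_of_card_ge ?_ ?_).symm⟩
  · intro x hx
    exact ⟨⟨x, hx.2⟩, hQ hx.1, rfl⟩
  · have hle : (Q : Subgroup T).map T.subtype ≤
        ((R : Subgroup G) ⊓ T).map (MulAut.conj g).toMonoidHom := by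
      intro x hx
      have h1 := hS hx
      rw [← hg, Sylow.coe_subgroup_smul] at h1
      obtain ⟨y, hy, rfl⟩ := h1
      refine ⟨y, ⟨hy, ?_⟩, rfl⟩
      have h2 := ‹T.Normal›.conj_mem _ (Subgroup.map_subtype_le _ hx) g⁻¹
      simpa [mul_assoc] using h2
    exact (Subgroup.card_le_of_le hle).trans
      (Subgroup.card_map_of_injective (MulAut.conj g).injective).le

/-- Let G be a finite group with a normal non-abelian simple subgroup T whose centralizer is trivial (G almost simple with socle T), r a prime and R a Sylow r-subgroup of G meeting T nontrivially. If R lies in exactly one maximal subgroup of G, then G/T is an r-group. -/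
theorem result {G : Type*} [Group G] [Finite G] (T : Subgroup G) [T.Normal] (hT : IsSimpleGroup T) (hna : ¬ IsMulCommutative T)
    (hC : Subgroup.centralizer (T : Set G) = ⊥) {r : ℕ} [Fact r.Prime] (R : Sylow r G) (hR0 : (R : Subgroup G) ⊓ T ≠ ⊥)
    (huniq : ∃! M : Subgroup G, IsCoatom M ∧ (R : Subgroup G) ≤ M) : IsPGroup r (G ⧸ T) := by
  obtain ⟨M, ⟨hM, hRM⟩, hMu⟩ := huniq
  have hNe : Subgroup.normalizer (((R : Subgroup G) ⊓ T : Subgroup G) : Set G) ≠ ⊤ := fun h =>
    inf_not_normal T hT hna R hR0 (Subgroup.normalizer_eq_top_iff.mp h)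
  have htop : (R : Subgroup G) ⊔ T = ⊤ := by
    by_contra hne
    obtain ⟨M₁, hM₁, hle₁⟩ := (eq_top_or_exists_le_coatom _).resolve_left hne
    obtain ⟨M₂, hM₂, hle₂⟩ := (eq_top_or_exists_le_coatom _).resolve_left hNe
    have hRN : (R : Subgroup G) ≤ Subgroup.normalizer (((R : Subgroup G) ⊓ T : Subgroup G) : Set G) := by
      intro x hx
      rw [Subgroup.mem_normalizer_iff]
      intro y
      simp only [Subgroup.mem_inf]
      refine and_congr ?_ ?_
      · exact ⟨fun hy => mul_mem (mul_mem hx hy) (inv_mem hx), fun hy => by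
          simpa [mul_assoc] using mul_mem (mul_mem (inv_mem hx) hy) hx⟩
      · exact ⟨fun hy => ‹T.Normal›.conj_mem y hy x, fun hy => by
          simpa [mul_assoc] using ‹T.Normal›.conj_mem _ hy x⁻¹⟩
    have e₁ := hMu M₁ ⟨hM₁, le_sup_left.trans hle₁⟩
    have e₂ := hMu M₂ ⟨hM₂, hRN.trans hle₂⟩
    subst e₁ e₂
    obtain ⟨Q, hQ⟩ : ∃ Q : Sylow r T, (Q : Subgroup T).map T.subtype = (R : Subgroup G) ⊓ T :=
      exists_sylow_map_eq_inf R T
    have hF := Sylow.normalizer_sup_eq_top Q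
    rw [hQ] at hF
    exact hM.1 (top_le_iff.mp (hF ▸ sup_le hle₂ (le_sup_right.trans hle₁)))
  intro q
  obtain ⟨g, rfl⟩ := QuotientGroup.mk_surjective q
  obtain ⟨x, hx, t, ht, rfl⟩ := Subgroup.mem_sup_of_normal_right.mp (htop.symm ▸ Subgroup.mem_top g)
  obtain ⟨k, hk⟩ := R.2 ⟨x, hx⟩
  refine ⟨k, ?_⟩
  rw [QuotientGroup.mk_mul_of_mem _ ht, ← QuotientGroup.mk_pow]
  have : x ^ r ^ k = 1 := by simpa using congrArg Subtype.val hk
  rw [this]; rfl

end Cfsg.Agent.S3859
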