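import Cfsg.Statements.S3858
import Cfsg.Agent.S3859
import Cfsg.Agent.Lib.Coprime.Conjugacy

set_option autoImplicit false
open Cfsg

namespace Cfsg.Agent.S3858

/-- Let G be a finite group with a normal non-abelian simple subgroup T whose centralizer is trivial (G almost simple with socle T), r a prime and R a Sylow r-subgroup of G meeting T nontrivially. Then R lies in exactly one maximal subgroup of G if and only if G has exactly one conjugacy class of maximal subgroups whose index is prime to r. -/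
theorem result {G : Type*} [Group G] [Finite G] (T : Subgroup G) [T.Normal] (hT : IsSimpleGroup T) (hna : ¬ IsMulCommutative T)
    (hC : Subgroup.centralizer (T : Set G) = ⊥) {r : ℕ} [Fact r.Prime] (R : Sylow r G) (hR0 : (R : Subgroup G) ⊓ T ≠ ⊥) :
    (∃! M : Subgroup G, IsCoatom M ∧ (R : Subgroup G) ≤ M) ↔
      ((∃ M : Subgroup G, IsCoatom M ∧ ¬ r ∣ M.index) ∧
        ∀ M₁ M₂ : Subgroup G, IsCoatom M₁ → ¬ r ∣ M₁.index → IsCoatom M₂ → ¬ r ∣ M₂.index → ∃ g : G, M₂ = M₁.map (MulAut.conj g).toMonoidHom) := by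
  have hconj : ∀ (M : Subgroup G) (g : G), IsCoatom M → IsCoatom (M.map (MulAut.conj g).toMonoidHom) :=
    fun M g hM => (OrderIso.isCoatom_iff ((MulAut.conj g).mapSubgroup) M).mpr hM
  have hidx : ∀ M : Subgroup G, (R : Subgroup G) ≤ M → ¬ r ∣ M.index := fun M hle h =>
    R.not_dvd_index (h.trans (Subgroup.index_dvd_of_le hle))
  have hcont : ∀ M : Subgroup G, ¬ r ∣ M.index →
      ∃ g : G, (R : Subgroup G) ≤ M.map (MulAut.conj g).toMonoidHom := by
    intro M hM
    obtain ⟨P⟩ : Nonempty (Sylow r M) := inferInstance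
    have hP : IsPGroup r ((P : Subgroup M).map M.subtype) := P.2.map _
    obtain ⟨Q, hQ⟩ := hP.exists_le_sylow
    have hcard : Nat.card ((P : Subgroup M).map M.subtype) = Nat.card (Q : Subgroup G) := by
      rw [Subgroup.card_map_of_injective M.subtype_injective, P.card_eq_multiplicity,
        Q.card_eq_multiplicity, ← M.index_mul_card,
        Nat.factorization_mul Subgroup.index_ne_zero_of_finite Nat.card_pos.ne']
      simp [Nat.factorization_eq_zero_of_not_dvd hM]
    have hQM : (Q : Subgroup G) ≤ M := by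
      rw [← Subgroup.eq_of_le_of_card_ge hQ hcard.ge]
      exact Subgroup.map_subtype_le _
    obtain ⟨g, hg⟩ := MulAction.exists_smul_eq G Q R
    refine ⟨g, ?_⟩
    rw [← hg]
    intro x hx
    rw [Sylow.coe_subgroup_smul] at hx
    obtain ⟨y, hy, rfl⟩ := hx
    exact ⟨y, hQM hy, rfl⟩
  constructor
  · rintro ⟨M, ⟨hM, hRM⟩, hu⟩
    refine ⟨⟨M, hM, hidx M hRM⟩, fun M₁ M₂ h₁ i₁ h₂ i₂ => ?_⟩
    obtain ⟨a, ha⟩ := hcont M₁ i₁
    obtain ⟨b, hb⟩ := hcont M₂ i₂
    have ea := hu _ ⟨hconj _ a h₁, ha⟩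
    have eb := hu _ ⟨hconj _ b h₂, hb⟩
    refine ⟨b⁻¹ * a, ?_⟩
    rw [← Cfsg.Lib.Coprime.map_conj_conj, ea, ← eb, Cfsg.Lib.Coprime.map_conj_conj, inv_mul_cancel,
      Cfsg.Lib.Coprime.map_conj_one]
  · rintro ⟨-, huniq⟩
    have hN : Subgroup.normalizer ((R : Subgroup G) : Set G) ≠ ⊤ := by
      intro h
      have hn := Subgroup.normalizer_eq_top_iff.mp h
      exact S3859.inf_not_normal T hT hna R hR0 inferInstance
    obtain ⟨M, hM, hNM⟩ := (eq_top_or_exists_le_coatom _).resolve_left hN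
    have hRM : (R : Subgroup G) ≤ M := Subgroup.le_normalizer.trans hNM
    refine ⟨M, ⟨hM, hRM⟩, ?_⟩
    rintro M' ⟨hM', hRM'⟩
    obtain ⟨g, rfl⟩ := huniq M M' hM (hidx M hRM) hM' (hidx M' hRM')
    have hR' : ((g⁻¹ • R : Sylow r G) : Subgroup G) ≤ M := by
      intro x hx
      rw [Sylow.coe_subgroup_smul] at hx
      obtain ⟨y, hy, rfl⟩ := hx
      obtain ⟨m, hm, rfl⟩ := hRM' hy
      simpa [mul_assoc] using hm
    obtain ⟨m, hm⟩ := MulAction.exists_smul_eq M ((g⁻¹ • R).subtype hR') (R.subtype hRM)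
    have hm' : (m : G) • g⁻¹ • R = R := by
      rw [Sylow.smul_subtype] at hm
      have h2 := congrArg (fun P : Sylow r M => (P : Subgroup M).map M.subtype) hm
      simp only [Sylow.coe_subtype, Subgroup.subgroupOf_map_subtype, inf_of_le_left hRM,
        inf_of_le_left (Sylow.smul_le hR' m)] at h2
      exact Sylow.ext h2
    rw [smul_smul, Sylow.smul_eq_iff_mem_normalizer] at hm'
    have hg : g ∈ M := by
      have := mul_mem (inv_mem m.2) (hNM hm')
      simpa using inv_mem this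
    exact Cfsg.Lib.Coprime.map_conj_eq_self (Subgroup.le_normalizer hg)

end Cfsg.Agent.S3858
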