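import Cfsg.Statements.S3862
import Cfsg.Agent.Lib.Fusion.Alperin
import Cfsg.Agent.Lib.Coprime.Action
import Cfsg.Agent.Lib.PGroup.Basic
import Cfsg.Agent.Lib.PGroup.ClassTwo

set_option autoImplicit false
open Cfsg

namespace Cfsg.Agent.S3862

open scoped commutatorElement
open Subgroup

universe u

/-- In a `2`-group with an operator of odd order without fixed points on the abelianization and
centralizing commutators and squares, every element is conjugate to its inverse. -/
theorem real_of_operator {Q : Type u} [Group Q] [Finite Q] (φ : Q →* Q) (N : ℕ) (hN : Odd N)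
    (hφN : ∀ x, φ^[N] x = x) (hQ : IsPGroup 2 Q)
    (hcl : commutator Q ≤ center Q) (hD : ∀ z ∈ commutator Q, φ z = z)
    (hsq : ∀ x : Q, φ (x * x) = x * x) (hz : ∀ x : Q, x * x ∈ center Q)
    (htop : closure {z | ∃ (y : Q) (j : ℕ), z = y * (φ^[j] y)⁻¹} = ⊤) (x : Q) :
    ∃ y : Q, y * x * y⁻¹ = x⁻¹ := by
  have hsumper : ∀ (j : ℕ) (y : Q),
      ∏ i ∈ Finset.range N, Abelianization.of (φ^[i] (φ^[j] y)) =
        ∏ i ∈ Finset.range N, Abelianization.of (φ^[i] y) := by
    intro j
    induction j with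
    | zero => intro y; rfl
    | succ j ih =>
      intro y
      rw [Function.iterate_succ_apply', ← ih y]
      set w := φ^[j] y
      have h1 := Finset.prod_range_succ' (fun i => Abelianization.of (φ^[i] w)) N
      rw [Finset.prod_range_succ, hφN] at h1
      simp only [Function.iterate_zero, id_eq, Function.iterate_succ_apply] at h1
      exact (mul_right_cancel h1).symm
  let ν : Q →* Abelianization Q :=
    { toFun := fun y => ∏ i ∈ Finset.range N, Abelianization.of (φ^[i] y)
      map_one' := Finset.prod_eq_one fun i _ => by rw [iterate_map_one, map_one]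
      map_mul' := fun a b => by
        rw [← Finset.prod_mul_distrib]
        exact Finset.prod_congr rfl fun i _ => by rw [iterate_map_mul, map_mul] }
  have hν : ∀ y, ν y = 1 := by
    have hle : closure {z | ∃ (y : Q) (j : ℕ), z = y * (φ^[j] y)⁻¹} ≤ ν.ker := by
      refine (closure_le _).mpr ?_
      rintro _ ⟨y, j, rfl⟩
      rw [SetLike.mem_coe, MonoidHom.mem_ker, map_mul, map_inv, mul_inv_eq_one]
      exact (hsumper j y).symm
    exact fun y => MonoidHom.mem_ker.mp (hle (htop.symm ▸ mem_top y))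
  have hord : ∀ z : Q, z ^ N ∈ commutator Q → z ∈ commutator Q := by
    intro z hzN
    obtain ⟨k, hk⟩ := hQ z
    have hcop : IsCoprime (N : ℤ) ((2 ^ k : ℕ) : ℤ) :=
      ((Nat.coprime_two_right.mpr hN).pow_right k).isCoprime
    obtain ⟨a, b, hab⟩ := hcop
    have heq : z = (z ^ (N : ℤ)) ^ a * (z ^ ((2 ^ k : ℕ) : ℤ)) ^ b := by
      rw [← zpow_mul, ← zpow_mul, ← zpow_add, mul_comm (N : ℤ), mul_comm (((2 ^ k : ℕ)) : ℤ), hab, zpow_one]
    rw [zpow_natCast, zpow_natCast, hk, one_zpow, mul_one] at heq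
    exact heq ▸ zpow_mem hzN a
  have hsqD : ∀ y : Q, y * y ∈ commutator Q := by
    intro y
    refine hord _ ?_
    rw [← Abelianization.ker_of, MonoidHom.mem_ker, map_pow]
    have h1 : ν (y * y) = Abelianization.of (y * y) ^ N := by
      show ∏ i ∈ Finset.range N, Abelianization.of (φ^[i] (y * y)) = _
      rw [Finset.prod_congr rfl (g := fun _ => Abelianization.of (y * y)) fun i _ => by
        rw [Function.iterate_fixed (hsq y)], Finset.prod_const, Finset.card_range]
    rw [← h1, hν]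
  have hDinv : ∀ d ∈ commutator Q, d * d = 1 := by
    intro d hd
    have hle : ∀ d ∈ commutator Q, d ^ 2 = 1 := by
      let T : Subgroup Q :=
        { carrier := {z | z ∈ center Q ∧ z ^ 2 = 1}
          one_mem' := ⟨one_mem _, one_pow 2⟩
          mul_mem' := fun {a b} ha hb => ⟨mul_mem ha.1 hb.1, by
            rw [(show Commute a b from (mem_center_iff.mp ha.1 b).symm).mul_pow, ha.2, hb.2, one_mul]⟩
          inv_mem' := fun {a} ha => ⟨inv_mem ha.1, by rw [inv_pow, ha.2, inv_one]⟩ }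
      have hT : commutator Q ≤ T := by
        rw [commutator_def, Subgroup.commutator_le]
        intro a _ b _
        refine ⟨hcl (commutator_mem_commutator (mem_top a) (mem_top b)), ?_⟩
        rw [← Cfsg.Lib.PGroup.commutatorElement_pow_right hcl, commutatorElement_eq_one_iff_mul_comm, sq]
        exact mem_center_iff.mp (hz b) a
      exact fun d hd => (hT hd).2
    rw [← sq]; exact hle d hd
  let P : ℕ → Q := fun k => Nat.recOn k 1 fun i acc => acc * φ^[i] x
  have hP : ∀ k, ∃ y : Q, P k * P k = (x * x) ^ k * ⁅x, y⁆ := by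
    intro k
    induction k with
    | zero => exact ⟨1, by simp [P]⟩
    | succ k ih =>
      obtain ⟨y, hy⟩ := ih
      have hback : ∀ i, ∃ w : Q, φ^[k] w = P i := fun i => ⟨φ^[N * (k + 1) - k] (P i), by
        rw [← Function.iterate_add_apply, Nat.add_sub_cancel' (le_trans (Nat.le_succ k)
          (Nat.le_mul_of_pos_left _ hN.pos))]
        exact Function.IsPeriodicPt.mul_const (hφN (P i) : Function.IsPeriodicPt φ N (P i)) (k + 1)⟩
      obtain ⟨w, hw⟩ := hback k
      refine ⟨y * w, ?_⟩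
      show P k * φ^[k] x * (P k * φ^[k] x) = _
      have h2 := Cfsg.Lib.PGroup.mul_pow_of_class_two hcl (P k) (φ^[k] x) 2
      rw [Nat.choose_self, pow_one, pow_two, pow_two, pow_two] at h2
      have h3 : ⁅φ^[k] x, P k⁆ = ⁅x, w⁆ := by
        have h4 : φ^[k] ⁅x, w⁆ = ⁅x, w⁆ := Function.iterate_fixed
          (hD _ (commutator_mem_commutator (mem_top x) (mem_top w))) k
        rw [← h4, ← hw]
        simp only [commutatorElement_def, iterate_map_mul, iterate_map_inv]
      have h5 : φ^[k] x * φ^[k] x = x * x := by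
        rw [← iterate_map_mul]; exact Function.iterate_fixed (hsq x) k
      have h6 : Commute ⁅x, y⁆ (x * x) := mem_center_iff.mp (hz x) _
      rw [h2, hy, h5, h3, Cfsg.Lib.PGroup.commutatorElement_mul_right hcl, pow_succ]
      rw [mul_assoc ((x * x) ^ k) ⁅x, y⁆, h6.eq]
      simp only [mul_assoc]
  obtain ⟨y, hy⟩ := hP N
  have hPD : P N ∈ commutator Q := by
    rw [← Abelianization.ker_of, MonoidHom.mem_ker]
    have h : ∀ k, Abelianization.of (P k) = ∏ i ∈ Finset.range k, Abelianization.of (φ^[i] x) := by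
      intro k
      induction k with
      | zero => simp [P]
      | succ k ih =>
        show Abelianization.of (P k * φ^[k] x) = _
        rw [map_mul, ih, Finset.prod_range_succ]
    rw [h]
    exact hν x
  rw [hDinv _ hPD] at hy
  obtain ⟨e, rfl⟩ := hN
  rw [pow_succ, pow_mul, sq (x * x), hDinv _ (hsqD x), one_pow, one_mul] at hy
  refine ⟨y, ?_⟩
  have h7 : x * x * x * y * x⁻¹ * y⁻¹ = 1 := by
    rw [hy, commutatorElement_def]; simp [mul_assoc]
  have h8 : y * x * y⁻¹ = x * x * x := by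
    have h9 : x * x * x * (y * x⁻¹ * y⁻¹) = 1 := by simpa [mul_assoc] using h7
    rw [mul_eq_one_iff_eq_inv.mp h9]; simp [mul_assoc]
  rw [h8]
  refine eq_inv_of_mul_eq_one_left ?_
  simpa [mul_assoc] using hDinv _ (hsqD x)


/-- If every 2-element of the finite group G that is conjugate to its inverse lies in the centre of G, then G has a normal 2-complement. -/
theorem result {G : Type*} [Group G] [Finite G] (h : ∀ x : G, (∃ j : ℕ, orderOf x = 2 ^ j) → IsConj x x⁻¹ → x ∈ Subgroup.center G) : Cfsg.HasNormalPComplement 2 G := by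
  classical
  have : Fact (Nat.Prime 2) := ⟨Nat.prime_two⟩
  obtain ⟨S⟩ : Nonempty (Sylow 2 G) := inferInstance
  refine (Cfsg.Lib.Fusion.frobenius S).mpr fun Q hQS g hg hgo => ?_
  suffices key : ∀ (Q : Subgroup G), IsPGroup 2 Q → g ∈ normalizer (Q : Set G) →
      g ∈ centralizer (Q : Set G) from key Q (S.2.to_le hQS) hg
  intro Q
  induction Q using WellFoundedLT.induction with
  | _ Q ih =>
  intro hQ hg
  set A := zpowers g
  have hAQ : A ≤ normalizer (Q : Set G) := zpowers_le.mpr hg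
  obtain ⟨b, hb⟩ := IsPGroup.iff_card.mp hQ
  have hcop : (Nat.card A).Coprime (Nat.card Q) := by
    rw [Nat.card_zpowers, hb]; exact hgo.pow_right b
  have hsol : Group.IsSolvable A := Group.isSolvable_of_comm fun a b => mul_comm' a b
  have hcentA : ∀ U : Subgroup G, g ∈ centralizer (U : Set G) → ⁅U, A⁆ = ⊥ := fun U hU =>
    commutator_eq_bot_iff_le_centralizer.mpr (le_centralizer_iff.mp (zpowers_le.mpr hU))
  have hQA : ⁅Q, A⁆ ≤ Q := Cfsg.Lib.Coprime.commutator_le_of_le_normalizer hAQ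
  by_cases htop : ⁅Q, A⁆ = Q
  swap
  · have hn : A ≤ normalizer ((⁅Q, A⁆ : Subgroup G) : Set G) := by
      intro a ha
      rw [mem_normalizer_iff_map_conj_eq, map_commutator]
      exact congrArg₂ (⁅·, ·⁆) (Cfsg.Lib.Coprime.map_conj_eq_self (hAQ ha))
        (Cfsg.Lib.Coprime.map_conj_eq_self (le_normalizer ha))
    have h1 := hcentA _ (ih _ (lt_of_le_of_ne hQA htop) (hQ.to_le hQA) (hn (mem_zpowers g)))
    rw [Cfsg.Lib.Coprime.commutator_commutator_eq hAQ hcop (Or.inl hsol)] at h1
    exact (le_centralizer_iff.mp (commutator_eq_bot_iff_le_centralizer.mp h1)) (mem_zpowers g)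
  by_cases hne : Q = ⊥
  · rw [mem_centralizer_iff]
    intro z hz
    rw [hne, SetLike.mem_coe, mem_bot] at hz
    simp [hz]
  set F := (frattini Q).map Q.subtype with hF
  have hFlt : F < Q := by
    refine lt_of_le_of_ne (map_subtype_le _) fun he => ?_
    have : Nontrivial Q := (nontrivial_iff_ne_bot Q).mpr hne
    refine Cfsg.Lib.PGroup.frattini_ne_top (map_injective Q.subtype_injective ?_)
    rw [← hF, he, ← MonoidHom.range_eq_map, range_subtype]
  let φ : Q →* Q :=
    { toFun := fun z => ⟨g * z * g⁻¹, (mem_normalizer_iff.mp hg z).mp z.2⟩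
      map_one' := Subtype.ext (by simp)
      map_mul' := fun x y => Subtype.ext (by simp [mul_assoc]) }
  have hgF : g ∈ normalizer (F : Set G) := by
    rw [mem_normalizer_iff_map_conj_eq]
    refine eq_of_le_of_card_ge ?_ (card_map_of_injective (MulAut.conj g).injective).ge
    rintro _ ⟨_, ⟨z, hz, rfl⟩, rfl⟩
    exact ⟨φ z, Cfsg.Lib.PGroup.map_frattini_le hQ hQ φ ⟨z, hz, rfl⟩, rfl⟩
  have hgcF := ih F hFlt (hQ.to_le hFlt.le) hgF
  have hAF : ⁅F, A⁆ = ⊥ := hcentA F hgcF
  have hQn : Q ≤ normalizer (F : Set G) := by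
    intro u hu
    rw [mem_normalizer_iff_map_conj_eq]
    refine eq_of_le_of_card_ge ?_ (card_map_of_injective (MulAut.conj u).injective).ge
    rintro _ ⟨_, ⟨z, hz, rfl⟩, rfl⟩
    exact ⟨⟨u, hu⟩ * z * ⟨u, hu⟩⁻¹, (inferInstance : (frattini Q).Normal).conj_mem z hz _, rfl⟩
  have hQF : ⁅Q, F⁆ ≤ F := by
    rw [commutator_comm]
    exact Cfsg.Lib.Coprime.commutator_le_of_le_normalizer hQn
  have hcentral : ⁅Q, F⁆ = ⊥ := by
    have h1 : ⁅⁅A, F⁆, Q⁆ = ⊥ := by rw [commutator_comm A F, hAF, commutator_bot_left]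
    have h2 : ⁅⁅F, Q⁆, A⁆ = ⊥ := le_bot_iff.mp <| hAF ▸
      commutator_mono (by rw [commutator_comm]; exact hQF) le_rfl
    have h3 := commutator_commutator_eq_bot_of_rotate h1 h2
    rwa [htop] at h3
  have hFz : ∀ z : Q, z ∈ frattini Q → z ∈ center Q := fun z hz => mem_center_iff.mpr fun y =>
    Subtype.ext ((mem_centralizer_iff.mp (commutator_eq_bot_iff_le_centralizer.mp hcentral y.2)
      (z : G) ⟨z, hz, rfl⟩).symm)
  have hFfix : ∀ z : Q, z ∈ frattini Q → φ z = z := fun z hz => Subtype.ext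
    (mul_inv_eq_iff_eq_mul.mpr (mem_centralizer_iff.mp hgcF (z : G) ⟨z, hz, rfl⟩).symm)
  have hiter : ∀ (i : ℕ) (z : Q), ((φ^[i]) z : G) = g ^ i * z * (g ^ i)⁻¹ := by
    intro i
    induction i with
    | zero => intro z; simp
    | succ i ih =>
      intro z
      rw [Function.iterate_succ_apply', pow_succ']
      show g * ((φ^[i]) z : G) * g⁻¹ = _
      rw [ih]; simp [mul_assoc]
  have hsqF : ∀ z : Q, z * z ∈ frattini Q := fun z => by
    rw [← sq]; exact Cfsg.Lib.PGroup.pow_mem_frattini hQ z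
  have htop' : closure {z | ∃ (y : Q) (j : ℕ), z = y * (φ^[j] y)⁻¹} = ⊤ := by
    rw [eq_top_iff]
    intro z _
    have hle : ⁅Q, A⁆ ≤ (closure {z | ∃ (y : Q) (j : ℕ), z = y * (φ^[j] y)⁻¹}).map Q.subtype := by
      rw [commutator_le]
      intro y hy a ha
      obtain ⟨j, hj⟩ := (isOfFinOrder_of_finite g).mem_powers_iff_mem_zpowers.mpr ha
      refine ⟨⟨y, hy⟩ * (φ^[j] ⟨y, hy⟩)⁻¹, subset_closure ⟨⟨y, hy⟩, j, rfl⟩, ?_⟩
      show y * ((φ^[j] (⟨y, hy⟩ : Q) : Q) : G)⁻¹ = ⁅y, a⁆
      have hj' : g ^ j = a := hj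
      rw [hiter, hj']
      simp [commutatorElement_def, mul_assoc]
    obtain ⟨w, hw, hwz⟩ := hle (htop.symm.le z.2)
    rwa [show w = z from Subtype.ext hwz] at hw
  rw [mem_centralizer_iff]
  intro z hz
  obtain ⟨y, hy⟩ := real_of_operator φ (orderOf g) (Nat.coprime_two_right.mp hgo)
    (fun w => Subtype.ext (by rw [hiter, pow_orderOf_eq_one]; simp)) hQ
    (fun w hw => hFz w (Cfsg.Lib.PGroup.commutator_le_frattini hQ hw))
    (fun w hw => hFfix w (Cfsg.Lib.PGroup.commutator_le_frattini hQ hw))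
    (fun w => hFfix _ (hsqF w)) (fun w => hFz _ (hsqF w)) htop' ⟨z, hz⟩
  have hreal : IsConj z z⁻¹ := isConj_iff.mpr ⟨(y : G), by
    have := congrArg Subtype.val hy
    simpa using this⟩
  obtain ⟨k, hk⟩ := hQ ⟨z, hz⟩
  have hzpow : z ^ 2 ^ k = 1 := by simpa using congrArg Subtype.val hk
  obtain ⟨j, -, hj⟩ := (Nat.dvd_prime_pow Nat.prime_two).mp (orderOf_dvd_of_pow_eq_one hzpow)
  exact (mem_center_iff.mp (h z ⟨j, hj⟩ hreal) g).symm

end Cfsg.Agent.S3862
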