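import Cfsg.Statements.S3865
import Cfsg.Agent.Lib.Fusion.MaxClassSylow

set_option autoImplicit false
open Cfsg

namespace Cfsg.Agent.S3865

/-- Let G be a finite group whose Sylow p-subgroup P has order p ^ n with n ≥ 2 and nilpotency class n - 1 (maximal class), whose largest normal subgroup of order prime to p is trivial, and which has no proper normal subgroup of index prime to p. Then either some x ∈ P has a centralizer in G whose order has p-part p ^ 2, or G is quasisimple with centre of order at most p. -/
theorem result {G : Type*} [Group G] [Finite G] (p : ℕ) [Fact p.Prime] (P : Sylow p G) (n : ℕ) (hP : Nat.card P = p ^ n) (hn : 2 ≤ n) (hmax : Group.nilpotencyClass ↥(P : Subgroup G) = n - 1) (hcore : Cfsg.pPrimeCore p G = ⊥) (hres : ∀ N : Subgroup G, N.Normal → (N.index).Coprime p → N = ⊤) : (∃ x ∈ (P : Subgroup G), (Nat.card (Subgroup.centralizer ({x} : Set G))).factorization p = 2) ∨ (Cfsg.IsQuasisimple G ∧ Nat.card (Subgroup.center G) ≤ p) := by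
  rcases Nat.eq_or_lt_of_le hn with hn2 | hn3
  · refine Or.inl ⟨1, one_mem _, ?_⟩
    have h1 : Subgroup.centralizer ({(1 : G)} : Set G) = ⊤ :=
      eq_top_iff.2 fun g _ => Subgroup.mem_centralizer_singleton_iff.2 (by simp)
    rw [h1, Subgroup.card_top]
    have h2 := P.card_eq_multiplicity
    rw [hP] at h2
    exact (Nat.pow_right_injective (Fact.out : p.Prime).two_le h2).symm.trans hn2.symm
  · by_cases hleft : ∃ x ∈ (P : Subgroup G), (Nat.card (Subgroup.centralizer ({x} : Set G))).factorization p = 2
    · exact Or.inl hleft
    · refine Or.inr (Cfsg.Lib.Fusion.MaxClassSylow.quasisimple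
        (Cfsg.Lib.PGroup.MaxClass.isMax_of_class hn3 hP hmax) (P : Subgroup G).subtype
        Subtype.val_injective (by rw [Subgroup.range_subtype]; exact P.not_dvd_index) ?_ hcore hres)
      intro x hx
      have hp := (Fact.out : p.Prime)
      have hle : (Subgroup.centralizer ({x} : Set P)).map (P : Subgroup G).subtype ≤
          Subgroup.centralizer ({(x : G)} : Set G) := by
        rintro _ ⟨y, hy, rfl⟩
        exact Subgroup.mem_centralizer_singleton_iff.2
          (congrArg Subtype.val (Subgroup.mem_centralizer_singleton_iff.1 hy))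
      have h2 := Subgroup.card_dvd_of_le hle
      rw [Subgroup.card_map_of_injective Subtype.val_injective, hx] at h2
      have h3 := (hp.pow_dvd_iff_le_factorization Nat.card_pos.ne').1 h2
      have h4 : (Nat.card (Subgroup.centralizer ({(x : G)} : Set G))).factorization p ≠ 2 :=
        fun e => hleft ⟨x, x.2, e⟩
      exact (hp.pow_dvd_iff_le_factorization Nat.card_pos.ne').2 (by
        show 3 ≤ (Nat.card (Subgroup.centralizer ({(x : G)} : Set G))).factorization p
        omega)

end Cfsg.Agent.S3865
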