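import Cfsg.Statements.S3866
import Mathlib.Tactic.Group
import Mathlib.GroupTheory.Index
-- import your own Cfsg.Agent.* helpers here

set_option autoImplicit false
open Cfsg

namespace Cfsg.Agent.S3866

open Subgroup

/-- Let A be a commutative normal subgroup of the finite group G with G generated by A and an element x. Then a ↦ x a x⁻¹ a⁻¹ is a surjective homomorphism from A onto the commutator subgroup of G whose kernel is the centralizer of x in A; in particular the commutator subgroup has order equal to the index in A of that centralizer. -/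
theorem result {G : Type*} [Group G] [Finite G] (A : Subgroup G) [A.Normal] (hA : IsMulCommutative A) (x : G) (hgen : A ⊔ Subgroup.zpowers x = ⊤) : (∀ a ∈ A, x * a * x⁻¹ * a⁻¹ ∈ commutator G) ∧ (∀ c ∈ commutator G, ∃ a ∈ A, x * a * x⁻¹ * a⁻¹ = c) ∧ (∀ a ∈ A, ∀ b ∈ A, x * (a * b) * x⁻¹ * (a * b)⁻¹ = (x * a * x⁻¹ * a⁻¹) * (x * b * x⁻¹ * b⁻¹)) ∧ Nat.card (commutator G) * Nat.card ↥(A ⊓ Subgroup.centralizer ({x} : Set G)) = Nat.card A := by
  have hcomm : ∀ a ∈ A, ∀ b ∈ A, a * b = b * a := fun a ha b hb =>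
    congrArg Subtype.val (hA.is_comm.comm ⟨a, ha⟩ ⟨b, hb⟩)
  have hfA : ∀ a ∈ A, x * a * x⁻¹ * a⁻¹ ∈ A := fun a ha =>
    mul_mem (‹A.Normal›.conj_mem a ha x) (inv_mem ha)
  have hmul : ∀ a ∈ A, ∀ b ∈ A, x * (a * b) * x⁻¹ * (a * b)⁻¹ = (x * a * x⁻¹ * a⁻¹) * (x * b * x⁻¹ * b⁻¹) := by
    intro a ha b hb
    calc x * (a * b) * x⁻¹ * (a * b)⁻¹ = (x * a * x⁻¹) * ((x * b * x⁻¹ * b⁻¹) * a⁻¹) := by group
      _ = (x * a * x⁻¹) * (a⁻¹ * (x * b * x⁻¹ * b⁻¹)) := by rw [hcomm _ (hfA b hb) _ (inv_mem ha)]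
      _ = _ := by group
  let f : A →* G :=
    { toFun := fun a => x * a * x⁻¹ * (a : G)⁻¹
      map_one' := by simp
      map_mul' := fun a b => hmul a a.2 b b.2 }
  have hIA : f.range ≤ A := by rintro _ ⟨a, rfl⟩; exact hfA a a.2
  have hIn : f.range.Normal := by
    rw [← normalizer_eq_top_iff, eq_top_iff, ← hgen, sup_le_iff, zpowers_le]
    refine ⟨fun a ha => ?_, ?_⟩
    · rw [mem_normalizer_iff]
      intro y
      have key : ∀ y ∈ A, a * y * a⁻¹ = y := fun y hy => by rw [hcomm a ha y hy, mul_inv_cancel_right]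
      constructor
      · intro hy; rw [key y (hIA hy)]; exact hy
      · intro hy
        have h1 : y ∈ A := by
          have := mul_mem (mul_mem (inv_mem ha) (hIA hy)) ha
          simpa [mul_assoc] using this
        rwa [key y h1] at hy
    · rw [mem_normalizer_iff]
      intro y
      constructor
      · rintro ⟨a, rfl⟩
        exact ⟨⟨x * a * x⁻¹, ‹A.Normal›.conj_mem a a.2 x⟩, by simp [f, mul_assoc]⟩
      · rintro ⟨a, ha⟩
        refine ⟨⟨x⁻¹ * a * x, by simpa using ‹A.Normal›.conj_mem a a.2 x⁻¹⟩, ?_⟩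
        have h1 : y = x⁻¹ * f a * x := by rw [ha]; group
        rw [h1]; simp [f, mul_assoc]
  have hle : commutator G ≤ f.range := by
    refine Normal.quotient_commutative_iff_commutator_le.mp ⟨⟨?_⟩⟩
    let C := (center (G ⧸ f.range)).comap (QuotientGroup.mk' f.range)
    have hcen : C = ⊤ := by
      have hA' : ∀ a ∈ A, ∀ z : G, z ∈ A ⊔ zpowers x →
          QuotientGroup.mk' f.range z * QuotientGroup.mk' f.range a = QuotientGroup.mk' f.range a * QuotientGroup.mk' f.range z := by
        intro a ha z hz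
        refine mem_centralizer_singleton_iff.mp ((sup_le ?_ ?_ : A ⊔ zpowers x ≤
          (centralizer {QuotientGroup.mk' f.range a}).comap (QuotientGroup.mk' f.range)) hz)
        · exact fun b hb => mem_centralizer_singleton_iff.mpr (by rw [← map_mul, ← map_mul, hcomm a ha b hb])
        · rw [zpowers_le]
          refine mem_centralizer_singleton_iff.mpr ?_
          rw [← map_mul, ← map_mul]
          show ((x * a : G) : G ⧸ f.range) = ((a * x : G) : G ⧸ f.range)
          rw [QuotientGroup.eq]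
          refine ⟨⟨x⁻¹ * a⁻¹ * x, by simpa using ‹A.Normal›.conj_mem a⁻¹ (inv_mem ha) x⁻¹⟩, ?_⟩
          simp only [f, MonoidHom.coe_mk, OneHom.coe_mk]
          group
      rw [eq_top_iff, ← hgen, sup_le_iff, zpowers_le]
      refine ⟨fun a ha => mem_center_iff.mpr fun q => ?_, mem_center_iff.mpr fun q => ?_⟩
      · obtain ⟨z, rfl⟩ := QuotientGroup.mk'_surjective f.range q
        exact hA' a ha z (hgen ▸ mem_top z)
      · obtain ⟨z, rfl⟩ := QuotientGroup.mk'_surjective f.range q
        refine mem_centralizer_singleton_iff.mp ((sup_le ?_ ?_ : A ⊔ zpowers x ≤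
          (centralizer {QuotientGroup.mk' f.range x}).comap (QuotientGroup.mk' f.range)) (hgen ▸ mem_top z))
        · exact fun b hb => mem_centralizer_singleton_iff.mpr (hA' b hb x (hgen ▸ mem_top x)).symm
        · rw [zpowers_le]; exact mem_centralizer_singleton_iff.mpr rfl
    intro a b
    obtain ⟨a, rfl⟩ := QuotientGroup.mk'_surjective f.range a
    exact (mem_center_iff.mp (show a ∈ C by rw [hcen]; exact mem_top a) b).symm
  have hge : f.range ≤ commutator G := by
    rintro _ ⟨a, rfl⟩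
    exact commutator_mem_commutator (mem_top x) (mem_top (a : G))
  refine ⟨fun a ha => hge ⟨⟨a, ha⟩, rfl⟩, fun c hc => ?_, hmul, ?_⟩
  · obtain ⟨a, rfl⟩ := hle hc
    exact ⟨a, a.2, rfl⟩
  · have hk : f.ker.map A.subtype = A ⊓ centralizer {x} := by
      ext a
      constructor
      · rintro ⟨b, hb, rfl⟩
        refine ⟨b.2, mem_centralizer_singleton_iff.mpr ?_⟩
        have h1 : x * b * x⁻¹ * (b : G)⁻¹ = 1 := hb
        rw [mul_inv_eq_one, mul_inv_eq_iff_eq_mul] at h1
        exact h1.symm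
      · rintro ⟨ha, hax⟩
        refine ⟨⟨a, ha⟩, ?_, rfl⟩
        show x * a * x⁻¹ * a⁻¹ = 1
        rw [← mem_centralizer_singleton_iff.mp hax, mul_inv_cancel_right, mul_inv_cancel]
    rw [le_antisymm hle hge, ← hk, ← Nat.card_congr (f.ker.equivMapOfInjective _ A.subtype_injective).toEquiv,
      ← f.ker.card_mul_index, Subgroup.index_ker, mul_comm]

end Cfsg.Agent.S3866
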