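import Cfsg.Statements.S3867
import Mathlib.GroupTheory.Sylow
-- import your own Cfsg.Agent.* helpers here

set_option autoImplicit false
open Cfsg

namespace Cfsg.Agent.S3867

open scoped Pointwise

theorem normalizer_sup {G : Type*} [Group G] [Finite G] {p : ℕ} [Fact p.Prime] (P : Sylow p G)
    (M : Subgroup G) [M.Normal] :
    Subgroup.normalizer ((((P : Subgroup G) ⊔ M : Subgroup G)) : Set G) =
      Subgroup.normalizer ((P : Subgroup G) : Set G) ⊔ M := by
  apply le_antisymm
  · intro x hx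
    have h1 : ((x • P : Sylow p G) : Subgroup G) ≤ (P : Subgroup G) ⊔ M := by
      rintro y ⟨z, hz, rfl⟩
      exact (Subgroup.mem_normalizer_iff.mp hx z).mp (Subgroup.mem_sup_left hz)
    obtain ⟨h, hh⟩ := MulAction.exists_smul_eq ↥((P : Subgroup G) ⊔ M)
      ((x • P).subtype h1) (P.subtype le_sup_left)
    rw [Sylow.smul_subtype] at hh
    have h2 := Sylow.subtype_injective hh
    rw [Subgroup.smul_def, ← mul_smul, Sylow.smul_eq_iff_mem_normalizer] at h2
    have h3 : (h : G) ∈ Subgroup.normalizer ((P : Subgroup G) : Set G) ⊔ M :=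
      sup_le_sup_right Subgroup.le_normalizer M h.2
    have := mul_mem (inv_mem h3) (Subgroup.mem_sup_left (T := M) h2)
    simpa using this
  · refine sup_le ?_ (le_sup_right.trans Subgroup.le_normalizer)
    intro x hx
    rw [Subgroup.mem_normalizer_iff_map_conj_eq] at hx ⊢
    change Subgroup.map (MulAut.conj x).toMonoidHom _ = _
    rw [Subgroup.map_sup]
    have hM : M.map (MulAut.conj x).toMonoidHom = M :=
      Subgroup.mem_normalizer_iff_map_conj_eq.mp (Subgroup.le_normalizer_of_normal (Subgroup.mem_top x))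
    change Subgroup.map (MulAut.conj x).toMonoidHom _ = _ at hx
    rw [hx, hM]

theorem card_quot {G : Type*} [Group G] [Finite G] {p : ℕ} [Fact p.Prime] (P : Sylow p G)
    (M : Subgroup G) [M.Normal] :
    Nat.card (Sylow p (G ⧸ M)) = (Subgroup.normalizer ((P : Subgroup G) : Set G) ⊔ M).index := by
  have hf := QuotientGroup.mk'_surjective M
  rw [(P.mapSurjective hf).card_eq_index_normalizer, ← Subgroup.index_comap_of_surjective _ hf,
    ← Sylow.coe_coe, Subgroup.comap_normalizer_eq_of_surjective _ hf, Sylow.coe_mapSurjective,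
    Subgroup.comap_map_eq, QuotientGroup.ker_mk', normalizer_sup]

theorem sup_inf_sup {G : Type*} [Group G] [Finite G] {p : ℕ} [Fact p.Prime] (P : Sylow p G)
    (M N : Subgroup G) [M.Normal] [N.Normal] (hMN : M ⊓ N = ⊥) :
    ((P : Subgroup G) ⊔ M) ⊓ ((P : Subgroup G) ⊔ N) = P := by
  refine le_antisymm ?_ (le_inf le_sup_left le_sup_left)
  let S : Subgroup G := ((P : Subgroup G) ⊔ M) ⊓ N
  have hS : IsPGroup p S := by
    have hP : IsPGroup p ↥((P : Subgroup G).map (QuotientGroup.mk' M)) := P.isPGroup'.map _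
    have hmap : S.map (QuotientGroup.mk' M) ≤ (P : Subgroup G).map (QuotientGroup.mk' M) := by
      refine (Subgroup.map_mono inf_le_left).trans ?_
      rw [Subgroup.map_sup, QuotientGroup.map_mk'_self, sup_bot_eq]
    refine ((hP.to_le hmap).of_injective ((QuotientGroup.mk' M).subgroupMap S) ?_)
    intro a b hab
    have := QuotientGroup.eq.mp (congrArg Subtype.val hab)
    have h2 : (a : G)⁻¹ * b ∈ N := mul_mem (inv_mem a.2.2) b.2.2
    have h3 : (a : G)⁻¹ * b ∈ M ⊓ N := ⟨this, h2⟩
    rw [hMN, Subgroup.mem_bot, inv_mul_eq_one] at h3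
    exact Subtype.ext h3
  have hnorm : (P : Subgroup G) ≤ Subgroup.normalizer (S : Set G) :=
    (le_inf (le_sup_left.trans Subgroup.le_normalizer)
      Subgroup.le_normalizer_of_normal).trans Subgroup.inf_normalizer_le_normalizer_inf
  have hSP : S ≤ (P : Subgroup G) := by
    have := P.is_maximal' (P.isPGroup'.to_sup_of_normal_right' hS hnorm) le_sup_left
    calc S ≤ (P : Subgroup G) ⊔ S := le_sup_right
      _ = P := this
  intro z hz
  obtain ⟨y, hy, n, hn, rfl⟩ := Subgroup.mem_sup_of_normal_right.mp hz.2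
  refine mul_mem hy (hSP ⟨?_, hn⟩)
  have := mul_mem (inv_mem (Subgroup.mem_sup_left (T := M) hy)) hz.1
  simpa using this

theorem card_sup_mul {G : Type*} [Group G] (A N : Subgroup G) [N.Normal] :
    Nat.card ↥(A ⊔ N) * Nat.card ↥(A ⊓ N) = Nat.card A * Nat.card N := by
  have h1 : Nat.card N * N.relIndex (A ⊔ N) = Nat.card ↥(A ⊔ N) := by
    rw [← Subgroup.relIndex_bot_left, ← Subgroup.relIndex_bot_left]
    exact Subgroup.relIndex_mul_relIndex _ _ _ bot_le le_sup_right
  have h2 : Nat.card ↥(A ⊓ N) * N.relIndex A = Nat.card A := by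
    rw [← Subgroup.relIndex_bot_left, ← Subgroup.relIndex_bot_left, ← Subgroup.inf_relIndex_left A N]
    exact Subgroup.relIndex_mul_relIndex _ _ _ bot_le inf_le_left
  rw [← h1, ← h2, Subgroup.relIndex_sup_right]
  ring


/-- Let M and N be nontrivial normal subgroups of the finite group G with M ⊓ N trivial, and let p be a prime. Writing n(X) for the number of Sylow p-subgroups of a group X, one has n(G) · n(G/MN) = n(G/M) · n(G/N). -/
theorem result {G : Type*} [Group G] [Finite G] (p : ℕ) [Fact p.Prime] (M N : Subgroup G) [M.Normal] [N.Normal] (hM : M ≠ ⊥) (hN : N ≠ ⊥) (hMN : M ⊓ N = ⊥) : Nat.card (Sylow p G) * Nat.card (Sylow p (G ⧸ (M ⊔ N))) = Nat.card (Sylow p (G ⧸ M)) * Nat.card (Sylow p (G ⧸ N)) := by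
  classical
  let P : Sylow p G := default
  let A := Subgroup.normalizer ((P : Subgroup G) : Set G)
  rw [P.card_eq_index_normalizer, card_quot P M, card_quot P N, card_quot P (M ⊔ N)]
  change A.index * (A ⊔ (M ⊔ N)).index = (A ⊔ M).index * (A ⊔ N).index
  rw [← sup_assoc]
  have hint : (A ⊔ M) ⊓ N = A ⊓ N := by
    refine le_antisymm ?_ (inf_le_inf_right N le_sup_left)
    refine le_inf ?_ inf_le_right
    have h1 : (A ⊔ M) ⊓ N ≤ (A ⊔ M) ⊓ (A ⊔ N) := inf_le_inf_left _ le_sup_right
    refine h1.trans ?_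
    rw [← normalizer_sup P M, ← normalizer_sup P N]
    refine Subgroup.inf_normalizer_le_normalizer_inf.trans ?_
    rw [sup_inf_sup P M N hMN]
  have e1 := card_sup_mul A N
  have e2 := card_sup_mul (A ⊔ M) N
  rw [hint] at e2
  have hcross : Nat.card A * Nat.card ↥(A ⊔ M ⊔ N) =
      Nat.card ↥(A ⊔ M) * Nat.card ↥(A ⊔ N) := by
    apply Nat.eq_of_mul_eq_mul_right (show 0 < Nat.card ↥(A ⊓ N) from Nat.card_pos)
    rw [mul_assoc, e2, mul_assoc, e1]
    ring
  apply Nat.eq_of_mul_eq_mul_right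
    (show 0 < Nat.card A * Nat.card ↥(A ⊔ M ⊔ N) from Nat.mul_pos Nat.card_pos Nat.card_pos)
  calc A.index * (A ⊔ M ⊔ N).index * (Nat.card A * Nat.card ↥(A ⊔ M ⊔ N))
      = (Nat.card A * A.index) * (Nat.card ↥(A ⊔ M ⊔ N) * (A ⊔ M ⊔ N).index) := by ring
    _ = (Nat.card ↥(A ⊔ M) * (A ⊔ M).index) * (Nat.card ↥(A ⊔ N) * (A ⊔ N).index) := by
        simp only [Subgroup.card_mul_index]
    _ = _ := by rw [hcross]; ring

end Cfsg.Agent.S3867
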