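import Cfsg.Statements.S3869
import Cfsg.Agent.Lib.Core.PSolvable
import Cfsg.Agent.Lib.Local.PIrreducible
import Mathlib.FieldTheory.Finite.Basic

set_option autoImplicit false
open Cfsg

namespace Cfsg.Agent.S3869

open Subgroup Polynomial

universe u

/-- A finite domain generated by a root of `X ^ q ^ d - X` has at most `q ^ d` elements. -/
theorem card_le_of_frobenius {R : Type u} [CommRing R] [IsDomain R] [Finite R] (q : ℕ) [hq : Fact q.Prime]
    [CharP R q] {d : ℕ} (hd : d ≠ 0) (t : R) (hgen : Subring.closure ({t} : Set R) = ⊤)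
    (ht : t ^ q ^ d = t) : Nat.card R ≤ q ^ d := by
  classical
  have : ExpChar R q := ExpChar.prime hq.out
  have hS : ∀ r : R, r ^ q ^ d = r := by
    intro r
    have h1 : r ∈ RingHom.eqLocus (iterateFrobenius R q d) (RingHom.id R) := by
      refine (Subring.closure_le (t := RingHom.eqLocus (iterateFrobenius R q d) (RingHom.id R))).mpr ?_
        (show r ∈ Subring.closure ({t} : Set R) by rw [hgen]; exact Subring.mem_top r)
      intro y hy
      rw [Set.mem_singleton_iff] at hy
      subst hy
      change iterateFrobenius R q d y = y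
      rw [iterateFrobenius_def]; exact ht
    change iterateFrobenius R q d r = r at h1
    rwa [iterateFrobenius_def] at h1
  have := Fintype.ofFinite R
  have hdeg : (X ^ q ^ d - X : R[X]).natDegree = q ^ d := by
    rw [natDegree_sub_eq_left_of_natDegree_lt (by
      rw [natDegree_X, natDegree_X_pow]; exact Nat.one_lt_pow hd hq.out.one_lt), natDegree_X_pow]
  have hne : (X ^ q ^ d - X : R[X]) ≠ 0 := fun h => by
    rw [h, natDegree_zero] at hdeg
    exact (pow_ne_zero d hq.out.ne_zero) hdeg.symm
  have h1 : (Finset.univ : Finset R).val ⊆ (X ^ q ^ d - X : R[X]).roots := by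
    intro r _
    rw [mem_roots hne]
    simp [hS r]
  have h2 : Fintype.card R ≤ Multiset.card (X ^ q ^ d - X : R[X]).roots :=
    Multiset.card_le_card ((Multiset.le_iff_subset Finset.univ.nodup).mpr h1)
  rw [Nat.card_eq_fintype_card]
  exact h2.trans ((card_roots' _).trans hdeg.le)

/-- An abelian minimal normal subgroup of exponent `q` and index `p` in a nonabelian group has order
`q ^ e`, `e` the order of `q` modulo `p`. -/
theorem card_eq {G : Type u} [Group G] [Finite G] {p q : ℕ} [Fact p.Prime] (hq : q.Prime) (hpq : q ≠ p)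
    (hna : ¬ IsMulCommutative G) (A : Subgroup G) [A.Normal] (hA : Cfsg.IsElementaryAbelian q A)
    (hidx : A.index = p) (hmin : ∀ B : Subgroup G, B.Normal → B ≤ A → B = ⊥ ∨ B = A) :
    Nat.card A = q ^ orderOf (q : ZMod p) ∧ ∃ x : G, orderOf x = p ∧ A ⊔ zpowers x = ⊤ ∧
      ∀ a ∈ A, x * a = a * x → a = 1 := by
  classical
  have hp : p.Prime := Fact.out
  have := Fact.mk hq
  have hAp : IsPGroup q A := Cfsg.Lib.PGroup.isPGroup_of_isElementaryAbelian hA
  obtain ⟨k, hk⟩ := IsPGroup.iff_card.mp hAp
  have hcardG : Nat.card G = q ^ k * p := by rw [← A.card_mul_index, hk, hidx]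
  obtain ⟨x, hx⟩ := exists_prime_orderOf_dvd_card' (G := G) p (hcardG ▸ dvd_mul_left p _)
  have hxA : x ∉ A := fun h => by
    have h1 := Subgroup.orderOf_dvd_natCard A h
    rw [hx, hk] at h1
    exact hpq ((Nat.prime_dvd_prime_iff_eq hp hq).mp (hp.dvd_of_dvd_pow h1)).symm
  have hsup : A ⊔ zpowers x = ⊤ := by
    by_contra hne
    have h1 := index_dvd_of_le (le_sup_left : A ≤ A ⊔ zpowers x)
    rw [hidx] at h1
    rcases (Nat.dvd_prime hp).mp h1 with h2 | h2
    · exact hne (index_eq_one.mp h2)
    · apply hxA
      have h3 : A ⊔ zpowers x = A := by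
        refine (Subgroup.eq_of_le_of_card_ge le_sup_left ?_).symm
        have h4 := (A ⊔ zpowers x).card_mul_index
        rw [h2, hcardG, ← hk] at h4
        exact (Nat.eq_of_mul_eq_mul_right hp.pos h4).le
      exact h3 ▸ mem_sup_right (mem_zpowers x)
  have hAc : ∀ a ∈ A, ∀ b ∈ A, a * b = b * a := fun a ha b hb =>
    congrArg Subtype.val (hA.1.is_comm.comm ⟨a, ha⟩ ⟨b, hb⟩)
  -- a subgroup of A invariant under x is normal
  have hnormal : ∀ B : Subgroup G, B ≤ A → (∀ b ∈ B, x * b * x⁻¹ ∈ B) → B.Normal := by
    intro B hB hxB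
    rw [← normalizer_eq_top_iff, eq_top_iff, ← hsup]
    refine sup_le ?_ (zpowers_le.mpr ?_)
    · intro a ha
      rw [Subgroup.mem_normalizer_iff]
      intro b
      constructor
      · intro hb
        rw [hAc a ha b (hB hb), mul_inv_cancel_right]; exact hb
      · intro hb
        have h1 := hAc a⁻¹ (inv_mem ha) _ (hB hb)
        have e : b = a⁻¹ * (a * b * a⁻¹) * a := by group
        rw [e, h1]; simpa using hb
    · exact Subgroup.mem_normalizer_fintype (S := (B : Set G)) hxB
  have hfix : ∀ a ∈ A, x * a = a * x → a = 1 := by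
    intro a ha hax
    by_contra ha1
    have hB : (A ⊓ centralizer ({x} : Set G)).Normal := hnormal _ inf_le_left fun b ⟨hb, hbx⟩ => by
      have e : x * b * x⁻¹ = b := by
        rw [← mem_centralizer_singleton_iff.mp hbx, mul_inv_cancel_right]
      rw [e]; exact ⟨hb, hbx⟩
    rcases hmin _ hB inf_le_left with h | h
    · exact ha1 (mem_bot.mp (h ▸ ⟨ha, mem_centralizer_singleton_iff.mpr hax.symm⟩))
    · apply hna
      have hc : ∀ b ∈ A, b * x = x * b := fun b hb => mem_centralizer_singleton_iff.mp ((h.ge hb).2)
      have hAZ : A ⊔ zpowers x ≤ center G := by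
        refine sup_le (fun b hb => ?_) (zpowers_le.mpr ?_)
        · rw [mem_center_iff]
          intro g
          have hg : g ∈ centralizer ({b} : Set G) := by
            refine ((sup_le (fun c hc' => mem_centralizer_singleton_iff.mpr (hAc c hc' b hb))
              (zpowers_le.mpr (mem_centralizer_singleton_iff.mpr (hc b hb).symm))) :
                A ⊔ zpowers x ≤ _) ?_
            rw [hsup]; exact mem_top g
          exact mem_centralizer_singleton_iff.mp hg
        · rw [mem_center_iff]
          intro g
          have hg : g ∈ centralizer ({x} : Set G) := by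
            refine ((sup_le (fun c hc' => mem_centralizer_singleton_iff.mpr (hc c hc'))
              (zpowers_le.mpr (mem_centralizer_singleton_iff.mpr rfl))) : A ⊔ zpowers x ≤ _) ?_
            rw [hsup]; exact mem_top g
          exact mem_centralizer_singleton_iff.mp hg
      rw [hsup] at hAZ
      exact ⟨⟨fun u v => (mem_center_iff.mp (hAZ (mem_top v)) u)⟩⟩
  refine ⟨?_, x, hx, hsup, hfix⟩
  have hAne : A ≠ ⊥ := by
    intro h
    apply hna
    rw [h, index_bot] at hidx
    have := isCyclic_of_prime_card hidx
    infer_instance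
  obtain ⟨v, hv, hv1⟩ := A.bot_or_exists_ne_one.resolve_left hAne
  let _ : CommGroup A := { (inferInstance : Group A) with mul_comm := hA.1.is_comm.comm }
  let T : AddMonoid.End (Additive A) :=
    MonoidHom.toAdditive (MulEquiv.toMonoidHom (MulAut.conjNormal x : MulAut A))
  have hTv : ∀ a : A, T (Additive.ofMul a) = Additive.ofMul (MulAut.conjNormal x a) := fun a => rfl
  set R := Subring.closure ({T} : Set (AddMonoid.End (Additive A))) with hR
  have hTR : T ∈ R := Subring.subset_closure rfl
  have hcomm : ∀ r ∈ R, r * T = T * r := by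
    intro r hr
    refine Subring.closure_induction ?_ ?_ ?_ ?_ ?_ ?_ hr
    · intro y hy; rw [Set.mem_singleton_iff.mp hy]
    · rw [zero_mul, mul_zero]
    · rw [one_mul, mul_one]
    · intro a b _ _ ha hb; rw [add_mul, mul_add, ha, hb]
    · intro a _ ha; exact (show Commute a T from ha).neg_left.eq
    · intro a b _ _ ha hb; rw [mul_assoc, hb, ← mul_assoc, ha, mul_assoc]
  let _ : CommRing R := Subring.closureCommRingOfComm (by
    intro a ha b hb; rw [Set.mem_singleton_iff.mp ha, Set.mem_singleton_iff.mp hb])
  -- invariant sets give normal subgroups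
  have hinv : ∀ W : AddSubgroup (Additive A), (∀ w ∈ W, T w ∈ W) → W = ⊥ ∨ W = ⊤ := by
    intro W hW
    let B : Subgroup G := (AddSubgroup.toSubgroup' W).map A.subtype
    have hB : B.Normal := hnormal B (map_subtype_le _) (by
      rintro b ⟨a, ha, rfl⟩
      exact ⟨MulAut.conjNormal x a, hW (Additive.ofMul a) ha, by simp⟩)
    rcases hmin B hB (map_subtype_le _) with h | h
    · left
      rw [eq_bot_iff]
      intro w hw
      have h1 : ((Additive.toMul w : A) : G) ∈ B := ⟨Additive.toMul w, hw, rfl⟩
      rw [h, mem_bot] at h1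
      exact (AddSubgroup.mem_bot).mpr (show Additive.toMul w = 1 from Subtype.ext h1)
    · right
      rw [eq_top_iff]
      intro w _
      obtain ⟨a, ha, hae⟩ := h.ge (Additive.toMul w : A).2
      exact (show Additive.ofMul a = w from A.subtype_injective hae) ▸ ha
  have hTpow : T ^ p = 1 := by
    have h1 : ∀ (n : ℕ) (a : Additive A), (T ^ n) a =
        Additive.ofMul (MulAut.conjNormal (x ^ n) (Additive.toMul a)) := by
      intro n
      induction n with
      | zero => intro a; simp
      | succ n ih =>
        intro a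
        rw [pow_succ', pow_succ', map_mul]
        change T ((T ^ n) a) = _
        rw [ih, hTv]
        rfl
    refine DFunLike.ext _ _ fun a => ?_
    rw [h1, ← hx, pow_orderOf_eq_one, map_one]
    rfl
  set v' : Additive A := Additive.ofMul ⟨v, hv⟩
  have hv' : v' ≠ 0 := fun e => hv1 (congrArg Subtype.val (show (⟨v, hv⟩ : A) = 1 from e))
  let ev : R →+ Additive A :=
    { toFun := fun r => (r : AddMonoid.End (Additive A)) v'
      map_zero' := rfl
      map_add' := fun _ _ => rfl }
  have hev : Function.Bijective ev := by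
    constructor
    · rw [injective_iff_map_eq_zero]
      intro r hr
      rcases hinv (AddMonoidHom.ker (r : AddMonoid.End (Additive A))) (fun w hw => by
        change (r : AddMonoid.End (Additive A)) (T w) = 0
        have e := DFunLike.congr_fun (hcomm r r.2) w
        change (r : AddMonoid.End (Additive A)) (T w) = T ((r : AddMonoid.End (Additive A)) w) at e
        rw [e, show (r : AddMonoid.End (Additive A)) w = 0 from hw, map_zero]) with h | h
      · have h2 : v' ∈ (⊥ : AddSubgroup (Additive A)) := h.le hr
        exact absurd (AddSubgroup.mem_bot.mp h2) hv'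
      · exact Subtype.ext (DFunLike.ext _ _ fun w => h.ge (AddSubgroup.mem_top w))
    · rcases hinv ev.range (by
        rintro w ⟨r, rfl⟩
        exact ⟨⟨T, hTR⟩ * r, rfl⟩) with h | h
      · have h2 : v' ∈ (⊥ : AddSubgroup (Additive A)) := h.le ⟨1, rfl⟩
        exact absurd (AddSubgroup.mem_bot.mp h2) hv'
      · exact fun w => h.ge (AddSubgroup.mem_top w)
  have : Finite R := Finite.of_injective _ hev.1
  have hcardR : Nat.card R = q ^ k := (Nat.card_congr (Equiv.ofBijective _ hev)).trans hk
  have : NoZeroDivisors R := ⟨fun {a b} hab => by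
    by_contra hne
    rw [not_or] at hne
    obtain ⟨ha, hb⟩ := hne
    rcases hinv (AddMonoidHom.ker (a : AddMonoid.End (Additive A))) (fun w hw => by
      change (a : AddMonoid.End (Additive A)) (T w) = 0
      have e := DFunLike.congr_fun (hcomm a a.2) w
      change (a : AddMonoid.End (Additive A)) (T w) = T ((a : AddMonoid.End (Additive A)) w) at e
      rw [e, show (a : AddMonoid.End (Additive A)) w = 0 from hw, map_zero]) with h | h
    · refine hb (hev.1 ?_)
      have h2 : (b : AddMonoid.End (Additive A)) v' ∈ (⊥ : AddSubgroup (Additive A)) := h.le (by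
        change (a : AddMonoid.End (Additive A)) ((b : AddMonoid.End (Additive A)) v') = 0
        exact congrArg (fun r : R => (r : AddMonoid.End (Additive A)) v') hab)
      exact (AddSubgroup.mem_bot.mp h2).trans (map_zero ev).symm
    · exact ha (Subtype.ext (DFunLike.ext _ _ fun w => h.ge (AddSubgroup.mem_top w)))⟩
  have : Nontrivial R := ⟨⟨1, 0, fun h => hv' (congrArg (fun r : R => (r : AddMonoid.End (Additive A)) v') h)⟩⟩
  have : IsDomain R := NoZeroDivisors.to_isDomain R
  have hchar : (q : R) = 0 := by
    refine hev.1 ?_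
    rw [map_zero, ← nsmul_one, map_nsmul]
    exact (show (⟨v, hv⟩ : A) ^ q = 1 from Subtype.ext (hA.2 v hv))
  have : CharP R q := by
    refine (CharP.charP_iff_prime_eq_zero hq).mpr hchar
  have : ExpChar R q := ExpChar.prime hq
  set d := orderOf (q : ZMod p) with hd
  have hq0 : (q : ZMod p) ≠ 0 := by
    rw [Ne, CharP.cast_eq_zero_iff (ZMod p) p]
    exact fun h => hpq ((Nat.prime_dvd_prime_iff_eq hp hq).mp h).symm
  have hd0 : d ≠ 0 := by
    rw [hd]
    rw [← Units.val_mk0 hq0, orderOf_units]
    exact (orderOf_pos _).ne'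
  set t : R := ⟨T, hTR⟩
  have htp : t ^ p = 1 := Subtype.ext (by rw [SubmonoidClass.coe_pow]; exact hTpow)
  have htd : t ^ q ^ d = t := by
    have h1 : ((q ^ d : ℕ) : ZMod p) = ((1 : ℕ) : ZMod p) := by
      rw [Nat.cast_pow, Nat.cast_one, hd, pow_orderOf_eq_one]
    have h2 : q ^ d % p = 1 % p := (ZMod.natCast_eq_natCast_iff' _ _ _).mp h1
    rw [Nat.one_mod_eq_one.mpr hp.ne_one] at h2
    conv_lhs => rw [← Nat.div_add_mod (q ^ d) p, pow_add, pow_mul, htp, one_pow, one_mul, h2, pow_one]
  have hgen : Subring.closure ({t} : Set R) = ⊤ := by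
    have h1 : (Subring.closure ({t} : Set R)).map R.subtype = R := by
      rw [RingHom.map_closure, Set.image_singleton]
      exact hR.symm
    rw [eq_top_iff]
    intro r _
    obtain ⟨r', hr', he⟩ := h1.ge r.2
    exact (Subtype.coe_injective he : r' = r) ▸ hr' 
  have hle : q ^ k ≤ q ^ d := hcardR ▸ card_le_of_frobenius q hd0 t hgen htd
  -- fixed points: only the identity
  have hdk : d ∣ k := by
    rw [hd, orderOf_dvd_iff_pow_eq_one]
    let φ : zpowers x →* MulAut A := (MulAut.conjNormal).comp (zpowers x).subtype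
    let _ : MulAction (zpowers x) A := MulAction.compHom A φ
    have hP : IsPGroup p (zpowers x) := IsPGroup.of_card (n := 1) (by rw [Nat.card_zpowers, hx, pow_one])
    have h1 := hP.card_modEq_card_fixedPoints A
    have hfp : MulAction.fixedPoints (zpowers x) A = {1} := by
      ext a
      constructor
      · intro ha
        refine Subtype.ext (hfix a a.2 ?_)
        have h2 := congrArg Subtype.val (ha ⟨x, mem_zpowers x⟩)
        change x * a * x⁻¹ = a at h2
        exact mul_inv_eq_iff_eq_mul.mp h2
      · rintro rfl g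
        exact map_one (φ g)
    rw [hk, hfp, Nat.card_unique] at h1
    have h3 := (ZMod.natCast_eq_natCast_iff _ _ p).mpr h1
    simpa using h3
  rw [hk]
  exact le_antisymm hle (Nat.pow_le_pow_right hq.pos (Nat.le_of_dvd
    (Nat.pos_of_ne_zero fun h => hAne ((Subgroup.card_eq_one).mp (by rw [hk, h, pow_zero]))) hdk))


/-- Let p and q be distinct primes and G a finite non-abelian group with a normal elementary abelian q-subgroup A that is a minimal normal subgroup of G and has index p. Then A has order q^e with e the multiplicative order of q modulo p, and G is minimal non-p-closed: its Sylow p-subgroups are not normal, while in every proper subgroup and in every proper quotient of G the Sylow p-subgroups are normal. -/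
theorem result {G : Type*} [Group G] [Finite G] {p q : ℕ} [Fact p.Prime] (hq : q.Prime) (hpq : q ≠ p)
    (hna : ¬ IsMulCommutative G) (A : Subgroup G) [A.Normal] (hA : Cfsg.IsElementaryAbelian q A) (hidx : A.index = p)
    (hmin : ∀ B : Subgroup G, B.Normal → B ≤ A → B = ⊥ ∨ B = A) :
    Nat.card ↥A = q ^ orderOf (q : ZMod p) ∧ ¬ Cfsg.IsPClosed p G ∧ (∀ H : Subgroup G, H ≠ ⊤ → Cfsg.IsPClosed p ↥H) ∧
      ∀ (N : Subgroup G) [N.Normal], N ≠ ⊥ → Cfsg.IsPClosed p (G ⧸ N) := by
  obtain ⟨hcard, x, hx, hsup, hfix⟩ := card_eq hq hpq hna A hA hidx hmin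
  have := Fact.mk hq
  have hAp := Cfsg.Lib.PGroup.isPGroup_of_isElementaryAbelian hA
  have hnp : ∀ y : G, orderOf y = p → ¬ (zpowers y).Normal := by
    intro y hy hn
    have hyA : y ∉ A := fun h => by
      have h1 := Subgroup.orderOf_dvd_natCard A h
      rw [hy, hcard] at h1
      exact hpq ((Nat.prime_dvd_prime_iff_eq Fact.out hq).mp ((Fact.out : p.Prime).dvd_of_dvd_pow h1)).symm
    apply hna
    -- G = A × ⟨y⟩
    have hdis : Disjoint A (zpowers y) := by
      rw [disjoint_iff]
      refine inf_eq_bot_of_coprime ?_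
      rw [Nat.card_zpowers, hy, hcard]
      exact Nat.Coprime.pow_left _ ((Nat.coprime_primes hq Fact.out).mpr hpq)
    have hc : ∀ a ∈ A, a * y = y * a := fun a ha =>
      commute_of_normal_of_disjoint _ _ (inferInstance : A.Normal) hn hdis a y ha (mem_zpowers y)
    have hs : A ⊔ zpowers y = ⊤ := by
      refine index_eq_one.mp ?_
      rcases (Nat.dvd_prime Fact.out).mp (hidx ▸ index_dvd_of_le (le_sup_left : A ≤ A ⊔ zpowers y)) with h | h
      · exact h
      · exfalso
        apply hyA
        have h4 : A ⊔ zpowers y = A := by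
          refine (Subgroup.eq_of_le_of_card_ge le_sup_left ?_).symm
          have h5 := (A ⊔ zpowers y).card_mul_index
          rw [h, ← A.card_mul_index, hidx] at h5
          exact (Nat.eq_of_mul_eq_mul_right (Fact.out : p.Prime).pos h5).le
        exact h4 ▸ mem_sup_right (mem_zpowers y)
    have hgen : closure ((A : Set G) ∪ {y}) = ⊤ := by
      rw [Subgroup.closure_union, closure_eq, ← zpowers_eq_closure, hs]
    have := isMulCommutative_closure (k := (A : Set G) ∪ {y}) (by
      rintro a (ha | rfl) b (hb | rfl)
      exacts [congrArg Subtype.val (hA.1.is_comm.comm ⟨a, ha⟩ ⟨b, hb⟩), hc a ha, (hc b hb).symm, rfl])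
    exact ⟨⟨fun u v => congrArg Subtype.val (this.is_comm.comm
      ⟨u, hgen ▸ mem_top u⟩ ⟨v, hgen ▸ mem_top v⟩)⟩⟩
  have hGc : Nat.card G = q ^ orderOf (q : ZMod p) * p := by rw [← A.card_mul_index, hcard, hidx]
  have hcop : Nat.Coprime (q ^ orderOf (q : ZMod p)) p :=
    Nat.Coprime.pow_left _ ((Nat.coprime_primes hq Fact.out).mpr hpq)
  refine ⟨hcard, ?_, ?_, ?_⟩
  · intro hcl
    obtain ⟨S, hS⟩ := (IsPGroup.of_card (p := p) (n := 1) (G := zpowers x)
      (by rw [Nat.card_zpowers, hx, pow_one])).exists_le_sylow
    refine hnp x hx ?_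
    have h1 : zpowers x = S := by
      refine Subgroup.eq_of_le_of_card_ge hS ?_
      rw [S.card_eq_multiplicity, Nat.card_zpowers, hx, hGc, Nat.factorization_mul_of_coprime hcop]
      have hp := (Fact.out : p.Prime)
      simp [hq.factorization_pow, hp.factorization_self, hpq]
    exact h1 ▸ hcl S
  · intro H hH
    by_cases hp : ∃ y ∈ H, orderOf y = p
    · obtain ⟨y, hyH, hy⟩ := hp
      have hHA : H ⊓ A = ⊥ := by
        have hyA : y ∉ A := fun h => by
          have h1 := Subgroup.orderOf_dvd_natCard A h
          rw [hy, hcard] at h1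
          exact hpq ((Nat.prime_dvd_prime_iff_eq Fact.out hq).mp ((Fact.out : p.Prime).dvd_of_dvd_pow h1)).symm
        have hHA1 : H ⊔ A = ⊤ := by
          refine index_eq_one.mp ?_
          rcases (Nat.dvd_prime Fact.out).mp (hidx ▸ index_dvd_of_le (le_sup_right : A ≤ H ⊔ A)) with h | h
          · exact h
          · exfalso
            apply hyA
            have h4 : H ⊔ A = A := by
              refine (Subgroup.eq_of_le_of_card_ge le_sup_right ?_).symm
              have h5 := (H ⊔ A).card_mul_index
              rw [h, ← A.card_mul_index, hidx] at h5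
              exact (Nat.eq_of_mul_eq_mul_right (Fact.out : p.Prime).pos h5).le
            exact h4 ▸ mem_sup_left hyH
        have hn : (H ⊓ A).Normal := by
          rw [← normalizer_eq_top_iff, eq_top_iff, ← hHA1]
          refine sup_le ?_ ?_
          · exact (le_inf le_normalizer (by rw [normalizer_eq_top]; exact le_top)).trans inf_normalizer_le_normalizer_inf
          · intro a ha
            rw [Subgroup.mem_normalizer_iff]
            intro b
            have hc : ∀ c ∈ A, a * c = c * a := fun c hc =>
              congrArg Subtype.val (hA.1.is_comm.comm ⟨a, ha⟩ ⟨c, hc⟩)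
            constructor
            · intro hb
              rw [hc b hb.2, mul_inv_cancel_right]; exact hb
            · intro hb
              have e : b = a⁻¹ * (a * b * a⁻¹) * a := by group
              rw [e, mul_assoc, ← hc _ hb.2, inv_mul_cancel_left]; exact hb
        rcases hmin _ hn inf_le_right with h | h
        · exact h
        · exact absurd (top_le_iff.mp (hHA1 ▸ sup_le le_rfl (h ▸ inf_le_left))) hH
      intro P
      have hHp : IsPGroup p H := by
        have hinj : Function.Injective ((QuotientGroup.mk' A).comp H.subtype) := by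
          rw [injective_iff_map_eq_one]
          exact fun h hh => Subtype.ext (mem_bot.mp (hHA ▸ ⟨h.2, (QuotientGroup.eq_one_iff (h : G)).mp hh⟩))
        refine IsPGroup.of_injective (IsPGroup.of_card (n := 1) ?_) _ hinj
        rw [← A.index_eq_card, hidx, pow_one]
      have : (P : Subgroup H) = ⊤ := by
        refine P.3 (Q := (⊤ : Subgroup H)) ?_ le_top |>.symm
        exact hHp.to_subgroup ⊤
      rw [this]; infer_instance
    · intro P
      have : (P : Subgroup H) = ⊥ := by
        by_contra hne
        obtain ⟨k, hk, hkc⟩ := P.isPGroup'.nontrivial_iff_card.mp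
          ((P : Subgroup H).nontrivial_iff_ne_bot.mpr hne)
        obtain ⟨y, hy⟩ := exists_prime_orderOf_dvd_card' (G := (P : Subgroup H)) p (hkc ▸ dvd_pow_self p hk.ne')
        exact hp ⟨((y : H) : G), (y : H).2, by rw [orderOf_coe, orderOf_coe, hy]⟩
      rw [this]; infer_instance
  · intro N _ hN P
    have hAN : A ≤ N := by
      rcases hmin (N ⊓ A) inferInstance inf_le_right with h | h
      · exfalso
        have hc : ∀ a ∈ A, ∀ n ∈ N, n * a = a * n := fun a ha n hn =>
          commute_of_normal_of_disjoint _ _ inferInstance inferInstance (disjoint_iff.mpr h) n a hn ha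
        obtain ⟨y, hy, hy1⟩ := N.bot_or_exists_ne_one.resolve_left hN
        obtain ⟨⟨a, ha⟩, ⟨z, hz⟩, hyz⟩ : ∃ (a : A) (z : zpowers x), y = a * z := by
          have hm : y ∈ ((A ⊔ zpowers x : Subgroup G) : Set G) := by rw [hsup]; exact mem_top y
          rw [normal_mul] at hm
          obtain ⟨a, ha, z, hz, rfl⟩ := hm
          exact ⟨⟨a, ha⟩, ⟨z, hz⟩, rfl⟩
        have hyA : y ∉ A := fun h' => hy1 (mem_bot.mp (h ▸ ⟨hy, h'⟩))
        have hz1 : z ≠ 1 := fun e => hyA (by rw [hyz]; simpa [e] using ha)
        have hzx : zpowers z = zpowers x := by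
          refine Subgroup.eq_of_le_of_card_ge (zpowers_le.mpr hz) ?_
          have h1 := Subgroup.orderOf_dvd_natCard _ hz
          rw [Nat.card_zpowers, hx] at h1
          rw [Nat.card_zpowers, Nat.card_zpowers, hx,
            ((Nat.dvd_prime Fact.out).mp h1).resolve_left (fun e => hz1 (orderOf_eq_one_iff.mp e))]
        obtain ⟨b, hb, hb1⟩ := A.bot_or_exists_ne_one.resolve_left (fun e => by
          rw [e, index_bot] at hidx
          exact hna (by have := isCyclic_of_prime_card hidx; infer_instance))
        refine hb1 (hfix b hb ?_)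
        have hbz : Commute b z := by
          have e1 : Commute b a := congrArg Subtype.val (hA.1.is_comm.comm ⟨b, hb⟩ ⟨a, ha⟩)
          have e2 : Commute b y := (hc b hb y hy).symm
          have e3 : z = a⁻¹ * y := by rw [hyz]; group
          rw [e3]; exact e1.inv_right.mul_right e2
        obtain ⟨j, hj⟩ := mem_zpowers_iff.mp (hzx.ge (mem_zpowers x))
        rw [← hj]
        exact (hbz.zpow_right j).eq.symm
      · exact h ▸ inf_le_left
    have hp : IsPGroup p (G ⧸ N) := by
      obtain ⟨k, -, hk⟩ := (Nat.dvd_prime_pow (Fact.out : p.Prime)).mp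
        (show N.index ∣ p ^ 1 by rw [pow_one, ← hidx]; exact index_dvd_of_le hAN)
      exact IsPGroup.of_card (n := k) (N.index_eq_card ▸ hk)
    have : (P : Subgroup (G ⧸ N)) = ⊤ := (P.3 (hp.to_subgroup ⊤) le_top).symm
    rw [this]; infer_instance

end Cfsg.Agent.S3869
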