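import Cfsg.Statements.S3868
import Cfsg.Agent.S3869
import Cfsg.Agent.Lib.Coprime.Action
import Cfsg.Agent.Lib.PGroup.Elements

set_option autoImplicit false
open Cfsg

namespace Cfsg.Agent.S3868

open Subgroup Cfsg.Lib.Core

/-- Structure of the non-simple minimal non-p-closed groups. Call a finite group p-closed when its Sylow p-subgroups are normal, and minimal non-p-closed when it is not p-closed but every proper subgroup and every proper quotient is. If such a group G is not simple, then there is a prime q ≠ p such that G has order p · q^e, where e is the multiplicative order of q modulo p, and G has a normal subgroup A of order q^e that is elementary abelian and is a minimal normal subgroup of G (so G is the semidirect product of A by a group of order p acting irreducibly). -/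
theorem result {G : Type*} [Group G] [Finite G] {p : ℕ} [Fact p.Prime]
    (hnc : ¬ Cfsg.IsPClosed p G) (hsub : ∀ H : Subgroup G, H ≠ ⊤ → Cfsg.IsPClosed p ↥H)
    (hquo : ∀ (N : Subgroup G) [N.Normal], N ≠ ⊥ → Cfsg.IsPClosed p (G ⧸ N)) (hns : ¬ IsSimpleGroup G) :
    ∃ q : ℕ, q.Prime ∧ q ≠ p ∧ Nat.card G = p * q ^ orderOf (q : ZMod p) ∧
      ∃ A : Subgroup G, A.Normal ∧ Nat.card ↥A = q ^ orderOf (q : ZMod p) ∧ Cfsg.IsElementaryAbelian q A ∧
        ∀ B : Subgroup G, B.Normal → B ≤ A → B = ⊥ ∨ B = A := by
  classical
  have hp : p.Prime := Fact.out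
  have hnt : Nontrivial G := by
    by_contra h
    rw [not_nontrivial_iff_subsingleton] at h
    exact hnc fun P => ⟨fun x hx g => by rw [Subsingleton.elim (g * x * g⁻¹) x]; exact hx⟩
  obtain ⟨N, hN⟩ : ∃ N : Subgroup G, IsMinNormal N ∧ N ≠ ⊤ := by
    by_contra hne
    push Not at hne
    refine hns { eq_bot_or_eq_top_of_normal := fun M hM => ?_ }
    by_contra h
    rw [not_or] at h
    obtain ⟨K, hK, hKM⟩ := Cfsg.Lib.Core.exists_isMinNormal hM h.1
    exact h.2 (top_le_iff.mp (hne K hK ▸ hKM))
  obtain ⟨hN, hNtop⟩ := hN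
  have hNn := hN.1
  -- the p-core is trivial
  have hcore : ∀ R : Subgroup G, R.Normal → IsPGroup p R → R = ⊥ := by
    intro R hR hRp
    by_contra hne
    refine hnc fun P => ?_
    have hRP : R ≤ P := (Cfsg.Lib.Core.le_pCore' hR hRp).trans (Cfsg.Lib.Core.pCore_le_sylow P)
    have h1 := hquo R hne (P.mapSurjective (QuotientGroup.mk'_surjective R))
    rw [Sylow.coe_mapSurjective] at h1
    have h2 := h1.comap (QuotientGroup.mk' R)
    rwa [comap_map_eq, QuotientGroup.ker_mk', sup_of_le_left hRP] at h2
  obtain ⟨P⟩ : Nonempty (Sylow p G) := inferInstance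
  -- N is a p'-group
  have hNp : ¬ p ∣ Nat.card N := by
    intro hd
    obtain ⟨R⟩ : Nonempty (Sylow p N) := inferInstance
    have hRn : (R : Subgroup N).Normal := hsub N hNtop R
    have hch : (R : Subgroup N).Characteristic := R.characteristic_of_normal hRn
    have h1 := hcore _ (Cfsg.Lib.Core.normal_map_char_of_normal (R : Subgroup N)) (R.isPGroup'.map _)
    rw [map_eq_bot_iff_of_injective _ N.subtype_injective] at h1
    exact R.ne_bot_of_dvd_card hd h1
  have hPn : ∀ H : Subgroup G, H ≠ ⊤ → (P : Subgroup G) ≤ H → H ≤ normalizer ((P : Subgroup G) : Set G) := by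
    intro H hH hPH h hh
    have hn := hsub H hH (P.subtype hPH)
    rw [Sylow.coe_subtype] at hn
    exact normal_subgroupOf_iff_le_normalizer hPH |>.mp hn hh
  have hnP : ¬ (P : Subgroup G).Normal := fun h => hnc fun Q => by
    have : Unique (Sylow p G) := Sylow.unique_of_normal P h
    rw [Subsingleton.elim Q P]; exact h
  have hsup : N ⊔ (P : Subgroup G) = ⊤ := by
    by_contra hne
    apply hnP
    have hn : (N ⊔ (P : Subgroup G)).Normal := by
      have h1 := hquo N hN.2.1 (P.mapSurjective (QuotientGroup.mk'_surjective N))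
      rw [Sylow.coe_mapSurjective] at h1
      have h2 := h1.comap (QuotientGroup.mk' N)
      rwa [comap_map_eq, QuotientGroup.ker_mk', sup_comm] at h2
    let P' : Sylow p (N ⊔ (P : Subgroup G) : Subgroup G) := P.subtype le_sup_right
    have hch : (P' : Subgroup (N ⊔ (P : Subgroup G) : Subgroup G)).Characteristic :=
      P'.characteristic_of_normal (hsub _ hne P')
    have h3 := Cfsg.Lib.Core.normal_map_char_of_normal
      (P' : Subgroup (N ⊔ (P : Subgroup G) : Subgroup G))
    rwa [Sylow.coe_subtype, subgroupOf_map_subtype, inf_of_le_left le_sup_right] at h3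
  have hcopNP : (Nat.card N).Coprime (Nat.card P) := by
    obtain ⟨k, hk⟩ := IsPGroup.iff_card.mp P.isPGroup'
    rw [hk]; exact Nat.Coprime.pow_right _ ((hp.coprime_iff_not_dvd.mpr hNp).symm)
  have hdis : Disjoint N (P : Subgroup G) := disjoint_of_coprime_natCard hcopNP
  have hcard : Nat.card N * Nat.card P = Nat.card G :=
    (isComplement'_of_disjoint_and_mul_eq_univ hdis (by rw [← normal_mul, hsup, coe_top])).card_mul
  -- N is a q-group
  obtain ⟨q, hq, hqN⟩ : ∃ q, q.Prime ∧ IsPGroup q N := by
    by_contra hne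
    push Not at hne
    apply hnP
    rw [← normalizer_eq_top_iff, eq_top_iff, ← hsup]
    refine sup_le ?_ le_normalizer
    have hcent : N ≤ centralizer ((P : Subgroup G) : Set G) := by
      rw [← subgroupOf_eq_top, ← index_eq_one]
      by_contra h1
      obtain ⟨q, hq, hqd⟩ := Nat.exists_prime_and_dvd h1
      have := Fact.mk hq
      have hsol : Group.IsSolvable (P : Subgroup G) ∨ Group.IsSolvable N := by
        left
        have h := P.isPGroup'.isNilpotent
        exact IsNilpotent.to_isSolvable (G := (P : Subgroup G)) (h := h)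
      obtain ⟨Q, hQ⟩ := Cfsg.Lib.Coprime.exists_invariant_sylow (A := (P : Subgroup G)) (G := N)
        (by rw [normalizer_eq_top]; exact le_top) hcopNP.symm hsol q
      have hQc : (Q : Subgroup N).map N.subtype ≤ centralizer ((P : Subgroup G) : Set G) := by
        set Q' := (Q : Subgroup N).map N.subtype
        have hQ'N : Q' ≤ N := map_subtype_le _
        have hne2 : (P : Subgroup G) ⊔ Q' ≠ ⊤ := by
          intro e
          apply hne q hq
          have hle : Nat.card N ≤ Nat.card Q' := by
            have h1 : Nat.card ((P : Subgroup G) ⊔ Q' : Subgroup G) ≤ Nat.card (P : Subgroup G) * Nat.card Q' := by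
              rw [← SetLike.coe_sort_coe, coe_mul_of_left_le_normalizer_right _ _ hQ, Nat.card_coe_set_eq]
              exact (Set.natCard_mul_le).trans (le_of_eq (by simp [Nat.card_coe_set_eq]; try exact Or.inl rfl))
            rw [e, Subgroup.card_top, ← hcard, mul_comm] at h1
            exact Nat.le_of_mul_le_mul_left h1 Nat.card_pos
          exact (Subgroup.eq_of_le_of_card_ge hQ'N hle) ▸ Q.isPGroup'.map N.subtype
        refine commutator_eq_bot_iff_le_centralizer.mp (le_bot_iff.mp ?_)
        rw [← hdis.eq_bot]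
        refine le_inf ((commutator_mono hQ'N le_top).trans (commutator_le_left N ⊤)) ?_
        exact le_normalizer_iff_commutator_le_right.mp (le_sup_right.trans (hPn _ hne2 le_sup_left))
      refine Q.not_dvd_index (hqd.trans (index_dvd_of_le ?_))
      exact fun x hx => hQc ⟨x, hx, rfl⟩
    exact hcent.trans (centralizer_le_normalizer _)
  have := Fact.mk hq
  have hNne : N ≠ ⊥ := hN.2.1
  have hqp : q ≠ p := by
    intro e
    subst e
    exact hNne (hcore N hNn hqN)
  have hsolN : Group.IsSolvable N := by
    have h := hqN.isNilpotent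
    exact IsNilpotent.to_isSolvable (G := N) (h := h)
  obtain ⟨hNc, q', hq', hexp, hq'N⟩ := Cfsg.Lib.Core.minimal_solvable_elementary hN hsolN
  have hqq : q' = q := by
    have := Fact.mk hq'
    obtain ⟨a, ha, hac⟩ := hqN.nontrivial_iff_card.mp ((N.nontrivial_iff_ne_bot).mpr hNne)
    obtain ⟨b, hb, hbc⟩ := hq'N.nontrivial_iff_card.mp ((N.nontrivial_iff_ne_bot).mpr hNne)
    exact ((Nat.prime_dvd_prime_iff_eq hq' hq).mp (hq'.dvd_of_dvd_pow (n := a)
      (hac ▸ hbc ▸ dvd_pow_self q' hb.ne')))
  rw [hqq] at hexp
  -- P has order p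
  have hP1 : (P : Subgroup G) ≠ ⊥ := fun e => hnP (e ▸ inferInstance)
  have hPc : Nat.card P = p := by
    have : Nontrivial (P : Subgroup G) := (P : Subgroup G).nontrivial_iff_ne_bot.mpr hP1
    obtain ⟨M, hM, -⟩ := (eq_top_or_exists_le_coatom (⊥ : Subgroup (P : Subgroup G))).resolve_left bot_ne_top
    have hMi := Cfsg.Lib.PGroup.index_of_isCoatom P.isPGroup' hM
    have hMn := Cfsg.Lib.PGroup.normal_of_isCoatom P.isPGroup' hM
    set M' := M.map (P : Subgroup G).subtype
    have hM'P : M' ≤ P := map_subtype_le _
    have hM'p : IsPGroup p M' := P.isPGroup'.to_le hM'P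
    have hne : N ⊔ M' ≠ ⊤ := by
      intro e
      have hdis' : Disjoint N M' := hdis.mono_right hM'P
      have h1 := (isComplement'_of_disjoint_and_mul_eq_univ hdis' (by rw [← normal_mul, e, coe_top])).card_mul
      rw [← hcard] at h1
      have h2 := Nat.eq_of_mul_eq_mul_left Nat.card_pos h1
      have h3 := M.card_mul_index
      rw [hMi, ← Nat.card_congr (M.equivMapOfInjective _ (P : Subgroup G).subtype_injective).toEquiv.symm,
        h2] at h3
      exact hp.one_lt.ne' (Nat.eq_of_mul_eq_mul_left (Nat.card_pos (α := (P : Subgroup G))) (by rw [mul_one]; exact h3))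
    -- M' is the normal Sylow subgroup of N ⊔ M'
    have hM'n : M'.Normal := by
      rw [← normalizer_eq_top_iff, eq_top_iff, ← hsup]
      refine sup_le ?_ ?_
      · refine le_trans ?_ (centralizer_le_normalizer _)
        refine commutator_eq_bot_iff_le_centralizer.mp (le_bot_iff.mp ?_)
        rw [← (hdis.mono_right hM'P).eq_bot]
        refine le_inf ((commutator_mono le_rfl le_top).trans (commutator_le_left N ⊤)) ?_
        refine le_normalizer_iff_commutator_le_right.mp ?_
        intro n hn
        have hMS : IsPGroup p (M'.subgroupOf (N ⊔ M')) := hM'p.of_equiv (subgroupOfEquivOfLe le_sup_right).symm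
        obtain ⟨S, hS⟩ := hMS.exists_le_sylow
        have hidxN : ¬ p ∣ (M'.subgroupOf (N ⊔ M')).index := by
          intro hd
          apply hNp
          have h1 := (isComplement'_of_disjoint_and_mul_eq_univ (H := N.subgroupOf (N ⊔ M')) (K := M'.subgroupOf (N ⊔ M'))
            (by
              rw [disjoint_iff, eq_bot_iff]
              rintro z ⟨h1, h2⟩
              exact mem_bot.mpr (Subtype.ext (mem_bot.mp ((hdis.mono_right hM'P).le_bot ⟨h1, h2⟩))))
            (by rw [← normal_mul, ← subgroupOf_sup le_sup_left le_sup_right, subgroupOf_self, coe_top])).index_eq_card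
          rwa [h1, Nat.card_congr (subgroupOfEquivOfLe le_sup_left).toEquiv] at hd
        let S' : Sylow p (N ⊔ M' : Subgroup G) := hMS.toSylow hidxN
        have hSn := hsub _ hne S'
        exact (normal_subgroupOf_iff_le_normalizer le_sup_right).mp hSn (mem_sup_left hn)
      · intro x hx
        rw [Cfsg.Lib.Core.mem_normalizer_iff_map_conj]
        have h1 : M.map (MulAut.conj (⟨x, hx⟩ : (P : Subgroup G))).toMonoidHom = M :=
          Cfsg.Lib.Core.normal_iff_map_conj.mp hMn _
        conv_rhs => rw [show M' = (M.map (MulAut.conj (⟨x, hx⟩ : (P : Subgroup G))).toMonoidHom).map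
          (P : Subgroup G).subtype by rw [h1]]
        rw [map_map, map_map]
        rfl
    have hM1 := hcore M' hM'n hM'p
    rw [map_eq_bot_iff_of_injective _ (P : Subgroup G).subtype_injective] at hM1
    rw [hM1, index_bot] at hMi
    exact hMi
  have hidx : N.index = p := by
    have h1 := N.card_mul_index
    rw [← hcard, hPc] at h1
    exact Nat.eq_of_mul_eq_mul_left Nat.card_pos h1
  have hna : ¬ IsMulCommutative G := by
    intro h
    exact hnP ⟨fun x hx g => by rw [h.is_comm.comm g x, mul_inv_cancel_right]; exact hx⟩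
  have hmin : ∀ B : Subgroup G, B.Normal → B ≤ N → B = ⊥ ∨ B = N := fun B hB hBN => hN.2.2 B hB hBN
  have hEA : Cfsg.IsElementaryAbelian q N := ⟨hNc, hexp⟩
  obtain ⟨hc, -⟩ := Cfsg.Agent.S3869.card_eq hq hqp hna N hEA hidx hmin
  refine ⟨q, hq, hqp, ?_, N, hNn, hc, hEA, hmin⟩
  rw [← hcard, hc, hPc, mul_comm]

end Cfsg.Agent.S3868
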