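import Cfsg.Statements.S3870
import Mathlib.Tactic.Group
import Mathlib.GroupTheory.Sylow
import Mathlib.Data.Nat.Prime.Int
import Mathlib.GroupTheory.Nilpotent
-- import your own Cfsg.Agent.* helpers here

set_option autoImplicit false
open Cfsg

namespace Cfsg.Agent.S3870

open Subgroup

/-- The normalizer in a `p`-group of a proper subgroup is larger. -/
theorem lt_inf_normalizer {G : Type*} [Group G] [Finite G] {p : ℕ} [Fact p.Prime] {P D : Subgroup G}
    (hP : IsPGroup p P) (hD : D < P) : D < P ⊓ normalizer (D : Set G) := by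
  refine lt_of_le_of_ne (le_inf hD.le le_normalizer) fun h => hD.ne ?_
  have := hP.isNilpotent
  have h1 : normalizer ((D.subgroupOf P) : Set P) = D.subgroupOf P := by
    refine le_antisymm (fun x hx => ?_) le_normalizer
    rw [mem_subgroupOf]
    refine h ▸ mem_inf.mpr ⟨x.2, mem_normalizer_iff.mpr fun y => ?_⟩
    constructor
    · intro hy
      exact (mem_normalizer_iff.mp hx ⟨y, hD.le hy⟩).mp hy
    · intro hy
      have hyP : y ∈ P := by
        have := mul_mem (mul_mem (inv_mem x.2) (hD.le hy)) x.2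
        simpa [mul_assoc] using this
      exact (mem_normalizer_iff.mp hx ⟨y, hyP⟩).mpr hy
  exact le_antisymm hD.le (subgroupOf_eq_top.mp
    (normalizerCondition_iff_only_full_group_self_normalizing.mp Group.normalizerCondition_of_isNilpotent _ h1))

/-- Let G be a finite simple group whose Sylow p-subgroups are not normal but such that every proper subgroup of G has a normal Sylow p-subgroup. Then any two distinct Sylow p-subgroups of G intersect trivially, and for every Sylow p-subgroup P the normalizer of every non-identity subgroup of P lies in the normalizer of P. -/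
theorem result {G : Type*} [Group G] [Finite G] [IsSimpleGroup G] {p : ℕ} [Fact p.Prime]
    (hnc : ¬ Cfsg.IsPClosed p G) (hsub : ∀ H : Subgroup G, H ≠ ⊤ → Cfsg.IsPClosed p ↥H) :
    (∀ P Q : Sylow p G, P ≠ Q → (P : Subgroup G) ⊓ (Q : Subgroup G) = ⊥) ∧
      ∀ (P : Sylow p G) (R : Subgroup G), R ≤ P → R ≠ ⊥ →
        Subgroup.normalizer (R : Set G) ≤ Subgroup.normalizer ((P : Subgroup G) : Set G) := by
  have hnorm : ∀ D : Subgroup G, D ≠ ⊥ → D ≠ ⊤ → normalizer (D : Set G) ≠ ⊤ := fun D h1 h2 h => by
    rcases (normalizer_eq_top_iff.mp h).eq_bot_or_eq_top with e | e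
    · exact h1 e
    · exact h2 e
  have main : ∀ n : ℕ, ∀ P Q : Sylow p G, (P : Subgroup G) ⊓ (Q : Subgroup G) ≠ ⊥ →
      Nat.card G - Nat.card ↥((P : Subgroup G) ⊓ (Q : Subgroup G)) = n → P = Q := by
    intro n
    induction n using Nat.strong_induction_on with
    | _ n ih =>
    intro P Q hne hn
    by_contra hPQ
    set D := (P : Subgroup G) ⊓ (Q : Subgroup G)
    have hDP : D < (P : Subgroup G) := lt_of_le_of_ne inf_le_left fun e =>
      hPQ (Sylow.ext (P.is_maximal' Q.isPGroup' (inf_eq_left.mp e)).symm)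
    have hDQ : D < (Q : Subgroup G) := lt_of_le_of_ne inf_le_right fun e =>
      hPQ (Sylow.ext (Q.is_maximal' P.isPGroup' (inf_eq_right.mp e)))
    set N := normalizer (D : Set G)
    have hN : N ≠ ⊤ := hnorm D hne (hDP.trans_le le_top).ne
    obtain ⟨T⟩ : Nonempty (Sylow p N) := inferInstance
    have hTn := hsub N hN T
    have hle : ∀ S : Subgroup G, IsPGroup p S → S ≤ N → S ≤ (T : Subgroup N).map N.subtype := fun S hS hSN => by
      obtain ⟨T', hT'⟩ := (hS.comap_of_injective N.subtype N.subtype_injective).exists_le_sylow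
      have : Subsingleton (Sylow p N) := (Sylow.unique_of_normal T hTn).instSubsingleton
      rw [Subsingleton.elim T T']
      exact fun x hx => ⟨⟨x, hSN hx⟩, hT' (show (⟨x, hSN hx⟩ : N) ∈ S.comap N.subtype from hx), rfl⟩
    obtain ⟨R, hR⟩ := (T.isPGroup'.map N.subtype).exists_le_sylow
    have key : ∀ S : Sylow p G, D < (S : Subgroup G) → R = S := fun S hDS => by
      have h1 := lt_inf_normalizer S.isPGroup' hDS
      have h2 : (S : Subgroup G) ⊓ N ≤ (R : Subgroup G) ⊓ (S : Subgroup G) :=
        le_inf ((hle _ (S.isPGroup'.to_le inf_le_left) inf_le_right).trans hR) inf_le_left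
      have hlt : Nat.card D < Nat.card ↥((R : Subgroup G) ⊓ (S : Subgroup G)) :=
        Set.ncard_lt_ncard (lt_of_lt_of_le h1 h2) (Set.toFinite _)
      refine ih _ ?_ R S (fun e => ?_) rfl
      · have := Subgroup.card_le_card_group (H := (R : Subgroup G) ⊓ (S : Subgroup G))
        omega
      · rw [e, card_bot] at hlt
        have := Nat.card_pos (α := D)
        omega
    exact hPQ ((key P hDP).symm.trans (key Q hDQ))
  refine ⟨fun P Q hPQ => by_contra fun h => hPQ (main _ P Q h rfl), fun P R hRP hR g hg => ?_⟩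
  refine Sylow.smul_eq_iff_mem_normalizer.mp ((main _ P (g • P) ?_ rfl).symm)
  intro h
  refine hR (eq_bot_iff.mpr fun x hx => h ▸ mem_inf.mpr ⟨hRP hx, ?_⟩)
  rw [Sylow.coe_subgroup_smul]
  exact ⟨g⁻¹ * x * g, hRP ((mem_normalizer_iff.mp hg _).mpr (by simpa [mul_assoc] using hx)), by simp [mul_assoc]⟩

end Cfsg.Agent.S3870
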