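import Cfsg.Statements.S3872
import Cfsg.Agent.Lib.PGroup.Regular
import Cfsg.Agent.Lib.PGroup.Basic
import Cfsg.Agent.Lib.PGroup.AbelianIndexP
import Cfsg.Agent.Lib.Fusion.Alperin
-- import your own Cfsg.Agent.* helpers here

set_option autoImplicit false
open Cfsg

namespace Cfsg.Agent.S3872

open Subgroup

variable {G : Type*} [Group G] [Finite G] {p : ℕ} [hp : Fact p.Prime]

theorem pow_closed (hG : IsPGroup p G)
    (hnc : ¬ (∃ H : Subgroup G, (H : Set G) = {g : G | g ^ p = 1}))
    (hsub : ∀ K : Subgroup G, K ≠ ⊤ → (∃ H : Subgroup ↥K, (H : Set ↥K) = {g : ↥K | g ^ p = 1})) :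
    ∃ x y : G, x ^ p = 1 ∧ y ^ p = 1 ∧ (x * y) ^ p ≠ 1 ∧ closure ({x, y} : Set G) = ⊤ := by
  obtain ⟨x, y, hx, hy, hxy⟩ : ∃ x y : G, x ^ p = 1 ∧ y ^ p = 1 ∧ (x * y) ^ p ≠ 1 := by
    by_contra! hcon
    exact hnc ⟨{ carrier := {g | g ^ p = 1}
                 one_mem' := one_pow p
                 mul_mem' := fun {a b} ha hb => hcon a b ha hb
                 inv_mem' := fun {a} ha => show a⁻¹ ^ p = 1 by rw [inv_pow, ha, inv_one] }, rfl⟩
  refine ⟨x, y, hx, hy, hxy, by_contra fun hK => ?_⟩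
  obtain ⟨H, hH⟩ := hsub _ hK
  have hmem : ∀ g : ↥(closure ({x, y} : Set G)), g ∈ H ↔ g ^ p = 1 := fun g =>
    (Set.ext_iff.1 hH g)
  have h1 := H.mul_mem ((hmem ⟨x, subset_closure (by simp)⟩).2 (Subtype.ext hx))
    ((hmem ⟨y, subset_closure (by simp)⟩).2 (Subtype.ext hy))
  exact hxy (congrArg Subtype.val ((hmem _).1 h1))

theorem card_bound (hG : IsPGroup p G) (hne : (⊤ : Subgroup G).lowerCentralSeries (p - 1) ≠ ⊥) :
    p ^ (p + 1) ≤ Nat.card G := by
  haveI := hG.isNilpotent
  have hp2 := hp.out.two_le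
  have hna : ¬ IsMulCommutative G := fun h => hne (eq_bot_iff.2
    ((Subgroup.lowerCentralSeries_antitone _ (show 1 ≤ p - 1 by omega)).trans (by
      rw [Subgroup.top_lowerCentralSeries_one, _root_.commutator_def, commutator_le]
      exact fun a _ b _ => mem_bot.2 (commutatorElement_eq_one_iff_mul_comm.2 (h.is_comm.comm a b)))))
  have hstep : ∀ k, k + 1 ≤ p - 1 → p ^ (k + 2) * Nat.card ↥((⊤ : Subgroup G).lowerCentralSeries (k + 1))
      ≤ Nat.card G := by
    intro k hk
    induction k with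
    | zero =>
      have h1 : p ^ 2 ≤ (frattini G).index := by
        obtain ⟨i, hi⟩ := hG.index (frattini G)
        rw [hi]
        refine Nat.pow_le_pow_right hp.out.pos ?_
        by_contra hlt
        apply hna
        obtain ⟨g, hg⟩ : ∃ g : G, zpowers g ⊔ frattini G = ⊤ := by
          rcases (show i = 0 ∨ i = 1 by omega) with rfl | rfl
          · exact ⟨1, by rw [index_eq_one.1 (hi.trans (pow_zero p)), sup_top_eq]⟩
          · rw [pow_one] at hi
            obtain ⟨g, hg⟩ : ∃ g : G, g ∉ frattini G := by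
              by_contra hall
              push Not at hall
              rw [show frattini G = ⊤ from eq_top_iff.2 fun x _ => hall x, index_top] at hi
              exact hp.out.ne_one hi.symm
            exact ⟨g, by rw [sup_comm]; exact Cfsg.Lib.PGroup.sup_zpowers_eq_top_of_index (p := p) hi hg⟩
        haveI : IsCyclic G := (isCyclic_iff_exists_zpowers_eq_top).2 ⟨g, frattini_nongenerating hg⟩
        exact IsCyclic.isMulCommutative
      calc p ^ 2 * Nat.card ↥((⊤ : Subgroup G).lowerCentralSeries 1)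
          ≤ (frattini G).index * Nat.card ↥(frattini G) := Nat.mul_le_mul h1 (card_le_of_le (by
            rw [Subgroup.top_lowerCentralSeries_one]; exact Cfsg.Lib.PGroup.commutator_le_frattini hG))
        _ = Nat.card G := by rw [mul_comm, card_mul_index]
    | succ k ih =>
      refine le_trans ?_ (ih (by omega))
      have hk0 : (⊤ : Subgroup G).lowerCentralSeries (k + 1) ≠ ⊥ := fun h0 => hne (eq_bot_iff.2
        ((Subgroup.lowerCentralSeries_antitone _ (show k + 1 ≤ p - 1 by omega)).trans h0.le))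
      have h2 : (⊤ : Subgroup G).lowerCentralSeries (k + 1 + 1) <
          (⊤ : Subgroup G).lowerCentralSeries (k + 1) := by
        rw [Subgroup.lowerCentralSeries_succ _ (k + 1)]
        exact Cfsg.Lib.PGroup.commutator_lt_of_isPGroup (hG.to_subgroup _) (hG.to_subgroup ⊤)
          (by rw [normalizer_eq_top_iff.2 inferInstance]) hk0
      have h3 := Cfsg.Lib.Fusion.card_lt_card_of_lt h2
      obtain ⟨a, ha⟩ := IsPGroup.iff_card.1 (hG.to_subgroup ((⊤ : Subgroup G).lowerCentralSeries (k + 1)))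
      obtain ⟨b, hb⟩ := IsPGroup.iff_card.1 (hG.to_subgroup ((⊤ : Subgroup G).lowerCentralSeries (k + 1 + 1)))
      rw [ha, hb] at h3 ⊢
      rw [← pow_add, ← pow_add]
      exact Nat.pow_le_pow_right hp.out.pos (by
        have := (Nat.pow_lt_pow_iff_right hp.out.one_lt).1 h3; omega)
  have h := hstep (p - 2) (by omega)
  rw [show p - 2 + 1 = p - 1 by omega, show p - 2 + 2 = p by omega] at h
  obtain ⟨a, ha⟩ := IsPGroup.iff_card.1 (hG.to_subgroup ((⊤ : Subgroup G).lowerCentralSeries (p - 1)))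
  have ha1 : a ≠ 0 := fun h0 => hne (card_eq_one.1 (by rw [ha, h0, pow_zero]))
  refine le_trans ?_ h
  rw [ha, ← pow_add]
  exact Nat.pow_le_pow_right hp.out.pos (by omega)


/-- Say that a finite group is p-exponent closed when its elements of order dividing p form a subgroup. Let G be a finite p-group that is not p-exponent closed, but all of whose proper subgroups and proper quotients are. Then G is generated by two elements, has nilpotency class at least p, has exponent p², has cyclic center, and has order at least p^(p+1). -/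
theorem result {G : Type*} [Group G] [Finite G] {p : ℕ} [Fact p.Prime] (hG : IsPGroup p G)
    (hnc : ¬ (∃ H : Subgroup G, (H : Set G) = {g : G | g ^ p = 1})) (hsub : ∀ K : Subgroup G, K ≠ ⊤ → (∃ H : Subgroup ↥K, (H : Set ↥K) = {g : ↥K | g ^ p = 1}))
    (hquo : ∀ (N : Subgroup G) [N.Normal], N ≠ ⊥ → (∃ H : Subgroup (G ⧸ N), (H : Set (G ⧸ N)) = {g : (G ⧸ N) | g ^ p = 1})) :
    (∃ x y : G, Subgroup.closure ({x, y} : Set G) = ⊤) ∧ (⊤ : Subgroup G).lowerCentralSeries (p - 1) ≠ ⊥ ∧
      Monoid.exponent G = p ^ 2 ∧ IsCyclic ↥(Subgroup.center G) ∧ p ^ (p + 1) ≤ Nat.card G := by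
  obtain ⟨x, y, hx, hy, hxy, htop⟩ := pow_closed hG hnc hsub
  have hne : (⊤ : Subgroup G).lowerCentralSeries (p - 1) ≠ ⊥ := fun h =>
    hxy (by
      have hx' : x ^ p ^ 1 = 1 := by rw [pow_one]; exact hx
      have hy' : y ^ p ^ 1 = 1 := by rw [pow_one]; exact hy
      have := Cfsg.Lib.PGroup.Regular.pow_mul_eq_one hG
        (Cfsg.Lib.PGroup.Regular.powLaw_of_lcs h) 1 hx' hy'
      rwa [pow_one] at this)
  have hN : ∀ (N : Subgroup G) [N.Normal], N ≠ ⊥ → ∀ g : G, g ^ p ∈ N := by
    intro N _ hN g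
    obtain ⟨H, hH⟩ := hquo N hN
    have hmem : ∀ a : G ⧸ N, a ∈ H ↔ a ^ p = 1 := fun a => Set.ext_iff.1 hH a
    have hg : (QuotientGroup.mk' N) g ∈ H := by
      have : Subgroup.closure ({x, y} : Set G) ≤ H.comap (QuotientGroup.mk' N) := by
        rw [Subgroup.closure_le]
        rintro a (rfl | rfl) <;> refine (hmem _).2 ?_ <;> rw [← map_pow] <;> simp [hx, hy]
      exact this (htop ▸ Subgroup.mem_top g)
    have h1 := (hmem _).1 hg
    rw [← map_pow] at h1
    exact (QuotientGroup.eq_one_iff _).1 h1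
  haveI : Nontrivial G := ⟨⟨(x * y) ^ p, 1, hxy⟩⟩
  have hcn := hG.center_nontrivial
  obtain ⟨z, hz1, hz⟩ : ∃ z ∈ Subgroup.center G, orderOf z = p := by
    obtain ⟨k, hk⟩ := (hG.to_subgroup (Subgroup.center G)).nontrivial_iff_card.1 hcn
    obtain ⟨z, hz⟩ := exists_prime_orderOf_dvd_card' p (G := ↥(Subgroup.center G))
      (hk.2 ▸ dvd_pow_self p (by omega))
    exact ⟨z, z.2, by rw [Subgroup.orderOf_coe, hz]⟩
  haveI hzn : (Subgroup.zpowers z).Normal := by
    refine ⟨fun a ha g => ?_⟩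
    rw [Subgroup.mem_center_iff.1 (Subgroup.zpowers_le.2 hz1 ha) g, mul_inv_cancel_right]
    exact ha
  have hzne : Subgroup.zpowers z ≠ ⊥ := fun h => (Fact.out : p.Prime).one_lt.ne' (by
    rw [← hz, ← Nat.card_zpowers, h, Subgroup.card_bot])
  have hexp : ∀ g : G, g ^ p ^ 2 = 1 := by
    intro g
    obtain ⟨i, hi⟩ := hN (Subgroup.zpowers z) hzne g
    change z ^ i = g ^ p at hi
    rw [sq, pow_mul, ← hi, ← zpow_natCast, ← zpow_mul, mul_comm, zpow_mul, zpow_natCast,
      ← hz, pow_orderOf_eq_one, one_zpow]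
  refine ⟨⟨x, y, htop⟩, hne, ?_, ?_, card_bound hG hne⟩
  · refine Nat.dvd_antisymm (Monoid.exponent_dvd_of_forall_pow_eq_one hexp) ?_
    obtain ⟨a, hale, ha⟩ := (Nat.dvd_prime_pow (Fact.out : p.Prime)).1
      (Monoid.exponent_dvd_of_forall_pow_eq_one hexp)
    rw [ha]
    refine pow_dvd_pow p ?_
    by_contra hlt
    apply hxy
    have h1 : (x * y) ^ Monoid.exponent G = 1 := Monoid.pow_exponent_eq_one _
    rw [ha] at h1
    rcases (show a = 0 ∨ a = 1 by omega) with rfl | rfl
    · rw [pow_zero, pow_one] at h1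
      rw [h1, one_pow]
    · rwa [pow_one] at h1
  · haveI : Fintype ↥(Subgroup.center G) := Fintype.ofFinite _
    have hcomm := (hG.to_subgroup (Subgroup.center G))
    obtain ⟨k, hk⟩ := IsPGroup.iff_card.1 hcomm
    -- every element of order `p` of the centre generates the same subgroup
    have huniq : ∀ w ∈ Subgroup.center G, w ^ p = 1 → w ∈ Subgroup.zpowers z := by
      intro w hw hwp
      by_contra hwz
      haveI : (Subgroup.zpowers w).Normal := by
        refine ⟨fun a ha g => ?_⟩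
        rw [Subgroup.mem_center_iff.1 (Subgroup.zpowers_le.2 hw ha) g, mul_inv_cancel_right]
        exact ha
      have hw1 : w ≠ 1 := fun e => hwz (e ▸ one_mem _)
      have hwne : Subgroup.zpowers w ≠ ⊥ := fun h => hw1 (Subgroup.zpowers_eq_bot.1 h)
      refine hxy ?_
      have h1 := hN _ hzne (x * y)
      have h2 := hN _ hwne (x * y)
      by_contra hne1
      have heq : ∀ v : G, orderOf v = p → (x * y) ^ p ∈ Subgroup.zpowers v →
          Subgroup.zpowers ((x * y) ^ p) = Subgroup.zpowers v := by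
        intro v hv hmem
        refine Subgroup.eq_of_le_of_card_ge (Subgroup.zpowers_le.2 hmem) ?_
        rw [Nat.card_zpowers, Nat.card_zpowers, hv,
          orderOf_eq_prime (by rw [← pow_mul, ← sq, hexp]) hne1]
      exact hwz ((((heq z hz h1).symm.trans (heq w (orderOf_eq_prime hwp hw1) h2))).ge
        (Subgroup.mem_zpowers w))
    rw [Subgroup.isCyclic_iff_exists_zpowers_eq_top]
    by_cases hall : ∀ v ∈ Subgroup.center G, v ^ p = 1
    · exact ⟨z, le_antisymm (Subgroup.zpowers_le.2 hz1) fun v hv => huniq v hv (hall v hv)⟩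
    push Not at hall
    obtain ⟨v₀, hv₀, hv₀p⟩ := hall
    have h1 : v₀ ^ p ∈ Subgroup.zpowers z :=
      huniq _ (pow_mem hv₀ p) (by rw [← pow_mul, ← sq, hexp])
    have hgen : Subgroup.zpowers (v₀ ^ p) = Subgroup.zpowers z := by
      refine Subgroup.eq_of_le_of_card_ge (Subgroup.zpowers_le.2 h1) ?_
      rw [Nat.card_zpowers, Nat.card_zpowers, hz,
        orderOf_eq_prime (by rw [← pow_mul, ← sq, hexp]) hv₀p]
    refine ⟨v₀, le_antisymm (Subgroup.zpowers_le.2 hv₀) fun v hv => ?_⟩
    have hzv : Subgroup.zpowers z ≤ Subgroup.zpowers v₀ :=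
      hgen ▸ Subgroup.zpowers_le.2 (Subgroup.npow_mem_zpowers v₀ p)
    obtain ⟨j, hj⟩ := hgen.ge (huniq _ (pow_mem hv p) (by rw [← pow_mul, ← sq, hexp]))
    change (v₀ ^ p) ^ j = v ^ p at hj
    have h2 : (v * v₀ ^ (-j)) ^ p = 1 := by
      rw [((show Commute v v₀ from (Subgroup.mem_center_iff.1 hv v₀).symm).zpow_right _).mul_pow,
        ← hj, ← zpow_natCast, ← zpow_natCast (v₀ ^ (-j)), ← zpow_mul, ← zpow_mul, ← zpow_add]
      simp [mul_comm]
    have h3 := mul_mem (hzv (huniq _ (mul_mem hv (zpow_mem hv₀ _)) h2))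
      (zpow_mem (Subgroup.mem_zpowers v₀) j)
    rwa [mul_assoc, ← zpow_add, neg_add_cancel, zpow_zero, mul_one] at h3

end Cfsg.Agent.S3872
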