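import Cfsg.Statements.S3873
import Cfsg.Agent.Lib.Core.PSolvable
import Cfsg.Agent.Lib.Coprime.Action
import Cfsg.Agent.Lib.Fusion.Abelian
-- import your own Cfsg.Agent.* helpers here

set_option autoImplicit false
open Cfsg

namespace Cfsg.Agent.S3873

open Subgroup

universe u

variable {G : Type u} [Group G]

/-- The solutions of `x ^ p = 1` in a proper subgroup, as a subgroup of the group. -/
theorem exists_omega {p : ℕ}
    (hsub : ∀ K : Subgroup G, K ≠ ⊤ → (∃ H : Subgroup ↥K, (H : Set ↥K) = {g : ↥K | g ^ p = 1}))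
    {K : Subgroup G} (hK : K ≠ ⊤) : ∃ W : Subgroup G, ∀ x, x ∈ W ↔ x ∈ K ∧ x ^ p = 1 := by
  obtain ⟨H, hH⟩ := hsub K hK
  refine ⟨H.map K.subtype, fun x => ⟨?_, fun h => ?_⟩⟩
  · rintro ⟨y, hy, rfl⟩
    exact ⟨y.2, congrArg Subtype.val ((Set.ext_iff.1 hH y).1 hy)⟩
  · exact ⟨⟨x, h.1⟩, (Set.ext_iff.1 hH _).2 (Subtype.ext h.2), rfl⟩

theorem omega_normal {p : ℕ} {K W : Subgroup G} (hK : K.Normal)
    (hW : ∀ x, x ∈ W ↔ x ∈ K ∧ x ^ p = 1) : W.Normal :=
  ⟨fun x hx g => (hW _).2 ⟨hK.conj_mem x ((hW x).1 hx).1 g, by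
    rw [conj_pow, ((hW x).1 hx).2, mul_one, mul_inv_cancel]⟩⟩

variable [Finite G]

/-- The order of an irreducible module over the prime field for an endomorphism of prime order. -/
theorem card_module {p q : ℕ} [hp : Fact p.Prime] [hq : Fact q.Prime] (hqp : q ≠ p) {V : Type*}
    [AddCommGroup V] [Finite V] [Nontrivial V] (T : AddMonoid.End V) (hTp : T ^ p = 1) (hTne : T ≠ 1)
    (hexp : ∀ v : V, q • v = 0)
    (hirr : ∀ A : AddSubgroup V, (∀ a ∈ A, T a ∈ A) → A = ⊥ ∨ A = ⊤) :
    Nat.card V = q ^ orderOf (q : ZMod p) := by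
  classical
  haveI : Finite (AddMonoid.End V) :=
    Finite.of_injective (fun f : AddMonoid.End V => (f : V → V)) DFunLike.coe_injective
  set R := Subring.closure ({T} : Set (AddMonoid.End V)) with hR
  haveI hRc : IsMulCommutative R := Subring.isMulCommutative_closure (by rintro a rfl b rfl; rfl)
  letI : CommRing R := { (inferInstance : Ring R) with mul_comm := fun a b => hRc.is_comm.comm a b }
  set t : R := ⟨T, Subring.subset_closure rfl⟩ with ht
  have hinj : ∀ r : R, r ≠ 0 → ∀ v, (r : AddMonoid.End V) v = 0 → v = 0 := by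
    intro r hr v hv
    let A : AddSubgroup V :=
      { carrier := {w | (r : AddMonoid.End V) w = 0}
        zero_mem' := map_zero _
        add_mem' := fun {a b} ha hb => show (r : AddMonoid.End V) (a + b) = 0 by
          rw [map_add, show (r : AddMonoid.End V) a = 0 from ha,
            show (r : AddMonoid.End V) b = 0 from hb, add_zero]
        neg_mem' := fun {a} ha => show (r : AddMonoid.End V) (-a) = 0 by
          rw [map_neg, show (r : AddMonoid.End V) a = 0 from ha, neg_zero] }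
    have hcomm : (r : AddMonoid.End V) * T = T * r := congrArg Subtype.val (mul_comm r t)
    rcases hirr A (fun a ha => by
      show (r : AddMonoid.End V) (T a) = 0
      show ((r : AddMonoid.End V) * T) a = 0
      rw [hcomm]
      show T ((r : AddMonoid.End V) a) = 0
      rw [show (r : AddMonoid.End V) a = 0 from ha, map_zero]) with h | h
    · have hm : v ∈ A := hv
      rw [h] at hm
      exact hm
    · exfalso
      refine hr (Subtype.ext (AddMonoidHom.ext fun w => ?_))
      exact (h.symm ▸ AddSubgroup.mem_top w : w ∈ A)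
  haveI : Nontrivial R := ⟨⟨t, 1, fun h => hTne (congrArg Subtype.val h)⟩⟩
  haveI : NoZeroDivisors R := ⟨fun {r s} h => by
    by_contra hcon
    push Not at hcon
    refine hcon.2 (Subtype.ext (AddMonoidHom.ext fun v => ?_))
    exact hinj r hcon.1 _ (congrArg (fun e : R => (e : AddMonoid.End V) v) h)⟩
  haveI : IsDomain R := NoZeroDivisors.to_isDomain R
  haveI : Fintype R := Fintype.ofFinite R
  obtain ⟨v, hv0⟩ := exists_ne (0 : V)
  have hbij : Function.Bijective fun r : R => (r : AddMonoid.End V) v := by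
    refine ⟨fun r s h => ?_, fun w => ?_⟩
    · by_contra hne'
      exact hv0 (hinj (r - s) (sub_ne_zero.2 hne') v (sub_eq_zero.2 h))
    · let A : AddSubgroup V :=
        { carrier := Set.range fun r : R => (r : AddMonoid.End V) v
          zero_mem' := ⟨0, rfl⟩
          add_mem' := by rintro _ _ ⟨a, rfl⟩ ⟨b, rfl⟩; exact ⟨a + b, rfl⟩
          neg_mem' := by rintro _ ⟨a, rfl⟩; exact ⟨-a, rfl⟩ }
      rcases hirr A (by rintro _ ⟨r, rfl⟩; exact ⟨t * r, rfl⟩) with h | h
      · exfalso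
        have hm : v ∈ A := ⟨1, rfl⟩
        rw [h] at hm
        exact hv0 hm
      · have hm : w ∈ A := h.symm ▸ AddSubgroup.mem_top w
        exact hm
  have hcard : Nat.card V = Fintype.card R := by
    rw [← Nat.card_eq_fintype_card, Nat.card_eq_of_bijective _ hbij]
  have hqR : (q : R) = 0 := by
    refine Subtype.ext (AddMonoidHom.ext fun w => ?_)
    show ((q : R) : AddMonoid.End V) w = 0
    rw [show ((q : R) : AddMonoid.End V) = (q : AddMonoid.End V) from map_natCast R.subtype q]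
    exact (AddMonoid.End.natCast_apply q w).trans (hexp w)
  haveI : CharP R q := (CharP.charP_iff_prime_eq_zero hq.out).2 hqR
  haveI : ExpChar R q := ExpChar.prime hq.out
  set d := orderOf (q : ZMod p) with hd
  have hq0 : (q : ZMod p) ≠ 0 := by
    rw [Ne, ZMod.natCast_eq_zero_iff]
    exact fun h => hqp ((Nat.prime_dvd_prime_iff_eq hp.out hq.out).1 h).symm
  have hd0 : 0 < d := by
    rw [hd, orderOf_pos_iff, isOfFinOrder_iff_pow_eq_one]
    exact ⟨p - 1, Nat.sub_pos_of_lt hp.out.one_lt, ZMod.pow_card_sub_one_eq_one hq0⟩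
  have hqd : q ^ d % p = 1 := by
    have h1 : ((q ^ d : ℕ) : ZMod p) = ((1 : ℕ) : ZMod p) := by
      rw [Nat.cast_pow, hd, pow_orderOf_eq_one, Nat.cast_one]
    rw [ZMod.natCast_eq_natCast_iff, Nat.ModEq, Nat.mod_eq_of_lt hp.out.one_lt] at h1
    exact h1
  have htp : t ^ p = 1 := Subtype.ext (by rw [SubmonoidClass.coe_pow]; exact hTp)
  have hfix : ∀ r : R, r ^ q ^ d = r := by
    intro r
    have hle : Subring.closure ({T} : Set (AddMonoid.End V)) ≤
        Subring.map R.subtype ((iterateFrobenius R q d).eqLocus (RingHom.id R)) := by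
      rw [Subring.closure_le]
      rintro _ rfl
      refine ⟨t, ?_, rfl⟩
      show iterateFrobenius R q d t = t
      rw [iterateFrobenius_def, ← Nat.mod_add_div (q ^ d) p, hqd, pow_add, pow_mul, htp, one_pow, mul_one, pow_one]
    obtain ⟨s, hs, hsr⟩ := hle r.2
    obtain rfl : s = r := Subtype.ext hsr
    exact hs
  have hRle : Fintype.card R ≤ q ^ d := by
    have h1d : 1 < q ^ d := Nat.one_lt_pow hd0.ne' hq.out.one_lt
    have hdeg : (Polynomial.X ^ (q ^ d) - Polynomial.X : Polynomial R).natDegree = q ^ d := by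
      rw [Polynomial.natDegree_sub_eq_left_of_natDegree_lt, Polynomial.natDegree_X_pow]
      rwa [Polynomial.natDegree_X_pow, Polynomial.natDegree_X]
    have hne0 : (Polynomial.X ^ (q ^ d) - Polynomial.X : Polynomial R) ≠ 0 := fun h => by
      rw [h, Polynomial.natDegree_zero] at hdeg
      omega
    have h := Polynomial.card_le_degree_of_subset_roots (p := (Polynomial.X ^ (q ^ d) - Polynomial.X : Polynomial R))
      (Z := Finset.univ) (fun r _ => by
        rw [Polynomial.mem_roots hne0]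
        simp [Polynomial.IsRoot, hfix r])
    rwa [hdeg, Finset.card_univ] at h
  letI : Field R := Fintype.fieldOfDomain R
  obtain ⟨n, hqn, hRc'⟩ := FiniteField.card R q
  have hn0 : 0 < (n : ℕ) := n.pos
  have hdk : d ∣ (n : ℕ) := by
    have ht0 : t ≠ 0 := fun h => by
      have h0 := htp
      rw [h, zero_pow hp.out.ne_zero] at h0
      exact zero_ne_one h0
    have h1 := FiniteField.pow_card_sub_one_eq_one t ht0
    have hot : orderOf t = p := by
      refine ((Nat.dvd_prime hp.out).1 (orderOf_dvd_of_pow_eq_one htp)).resolve_left fun h => ?_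
      exact hTne (congrArg Subtype.val (orderOf_eq_one_iff.1 h))
    have h2 : p ∣ q ^ (n : ℕ) - 1 := by
      rw [← hRc', ← hot]
      exact orderOf_dvd_of_pow_eq_one h1
    refine orderOf_dvd_of_pow_eq_one ?_
    have h3 : ((q ^ (n : ℕ) : ℕ) : ZMod p) = ((1 : ℕ) : ZMod p) :=
      (ZMod.natCast_eq_natCast_iff _ _ _).2 ((Nat.modEq_iff_dvd' (Nat.one_le_pow _ _ hq.out.pos)).2 h2).symm
    rwa [Nat.cast_pow, Nat.cast_one] at h3
  have hkd : (n : ℕ) ≤ d := (Nat.pow_le_pow_iff_right hq.out.one_lt).1 (hRc' ▸ hRle)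
  rw [hcard, hRc', le_antisymm hkd (Nat.le_of_dvd hn0 hdk)]

/-- The order of an irreducible elementary abelian group acted on by an element of prime order. -/
theorem card_irreducible {p q : ℕ} [hp : Fact p.Prime] [hq : Fact q.Prime] (hqp : q ≠ p) {N : Subgroup G}
    [N.Normal] [IsMulCommutative N] (hexp : ∀ n ∈ N, n ^ q = 1) (hne : N ≠ ⊥) {x : G} (hx : x ^ p = 1)
    (hcen : ¬ ∀ n ∈ N, x * n * x⁻¹ = n)
    (hirr : ∀ B : Subgroup G, B ≤ N → (∀ b ∈ B, x * b * x⁻¹ ∈ B) → B = ⊥ ∨ B = N) :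
    Nat.card N = q ^ orderOf (q : ZMod p) := by
  letI : CommGroup N := open scoped IsMulCommutative in inferInstance
  haveI : Nontrivial N := N.nontrivial_iff_ne_bot.2 hne
  set φ : N →* N := (MulAut.conjNormal (H := N) x).toMonoidHom with hφ
  let T : AddMonoid.End (Additive N) := MonoidHom.toAdditive φ
  have hTpow : ∀ (i : ℕ) (v : Additive N),
      (T ^ i : AddMonoid.End (Additive N)) v = Additive.ofMul ((MulAut.conjNormal (H := N) (x ^ i)) (Additive.toMul v)) := by
    intro i
    induction i with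
    | zero => intro v; simp
    | succ i ih =>
      intro v
      rw [pow_succ, pow_succ, map_mul]
      show (T ^ i : AddMonoid.End (Additive N)) (T v) = _
      rw [ih]
      rfl
  rw [← Nat.card_congr (Additive.ofMul (α := N)).symm]
  refine card_module hqp T (AddMonoidHom.ext fun v => ?_) (fun h => hcen fun n hn => ?_)
    (fun v => congrArg Additive.ofMul (show (Additive.toMul v : N) ^ q = 1 from
      Subtype.ext (hexp _ (Additive.toMul v : N).2))) (fun A hA => ?_)
  · refine (hTpow p v).trans ?_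
    rw [hx, map_one]
    rfl
  · have h2 : T (Additive.ofMul (⟨n, hn⟩ : N)) = Additive.ofMul (⟨n, hn⟩ : N) := by rw [h]; rfl
    exact congrArg (fun v : Additive N => ((Additive.toMul v : N) : G)) h2
  · rcases hirr (A.toSubgroup'.map N.subtype) (map_subtype_le _) (fun b hb => by
      obtain ⟨m, hm, rfl⟩ := hb
      exact ⟨MulAut.conjNormal (H := N) x m, hA _ hm, rfl⟩) with h | h
    · left
      rw [eq_bot_iff]
      intro a ha
      have h1 : ((Additive.toMul a : N) : G) ∈ A.toSubgroup'.map N.subtype := ⟨_, ha, rfl⟩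
      rw [h, mem_bot] at h1
      exact congrArg Additive.ofMul (show Additive.toMul a = 1 from Subtype.ext h1)
    · right
      rw [eq_top_iff]
      intro a _
      have h1 : ((Additive.toMul a : N) : G) ∈ A.toSubgroup'.map N.subtype := h.symm ▸ (Additive.toMul a : N).2
      obtain ⟨m, hm, hma⟩ := h1
      obtain rfl : m = Additive.toMul a := Subtype.ext hma
      exact hm

theorem aux {p : ℕ} [hp : Fact p.Prime]
    (hnc : ¬ (∃ H : Subgroup G, (H : Set G) = {g : G | g ^ p = 1}))
    (hsub : ∀ K : Subgroup G, K ≠ ⊤ → (∃ H : Subgroup ↥K, (H : Set ↥K) = {g : ↥K | g ^ p = 1}))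
    (hquo : ∀ (N : Subgroup G) [N.Normal], N ≠ ⊥ →
      (∃ H : Subgroup (G ⧸ N), (H : Set (G ⧸ N)) = {g : (G ⧸ N) | g ^ p = 1}))
    (hns : ¬ IsSimpleGroup G) (hnp : ¬ IsPGroup p G) :
    ∃ q : ℕ, q.Prime ∧ q ≠ p ∧ Nat.card G = p * q ^ orderOf (q : ZMod p) ∧
      ∃ A : Subgroup G, A.Normal ∧ Nat.card ↥A = q ^ orderOf (q : ZMod p) ∧ Cfsg.IsElementaryAbelian q A ∧
        ∀ B : Subgroup G, B.Normal → B ≤ A → B = ⊥ ∨ B = A := by
  classical
  have : Nontrivial G := by
    by_contra h
    rw [not_nontrivial_iff_subsingleton] at h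
    exact hnp fun g => ⟨0, Subsingleton.elim _ _⟩
  obtain ⟨N₀, hN₀n, hN₀b, hN₀t⟩ : ∃ K : Subgroup G, K.Normal ∧ K ≠ ⊥ ∧ K ≠ ⊤ := by
    by_contra hcon
    push Not at hcon
    exact hns ⟨fun K hK => (em (K = ⊥)).imp_right (hcon K hK)⟩
  obtain ⟨N, hNmin, hNle⟩ := Cfsg.Lib.Core.exists_isMinNormal hN₀n hN₀b
  obtain ⟨hNn, hNb, hNB⟩ := hNmin
  have hNt : N ≠ ⊤ := fun h => hN₀t (top_le_iff.1 (h.ge.trans hNle))
  -- the group is generated by the solutions
  have hgen : closure {g : G | g ^ p = 1} = ⊤ := by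
    by_contra h
    obtain ⟨W, hW⟩ := exists_omega hsub h
    exact hnc ⟨W, Set.ext fun g => ⟨fun hg => ((hW g).1 hg).2, fun hg => (hW g).2 ⟨subset_closure hg, hg⟩⟩⟩
  have hquot : ∀ (K : Subgroup G) [K.Normal], K ≠ ⊥ → ∀ g : G, g ^ p ∈ K := by
    intro K _ hK
    obtain ⟨H, hH⟩ := hquo K hK
    have htop : closure {g : G | g ^ p = 1} ≤ H.comap (QuotientGroup.mk' K) := by
      rw [closure_le]
      intro g hg
      show QuotientGroup.mk' K g ∈ (H : Set (G ⧸ K))
      rw [hH]
      show QuotientGroup.mk' K g ^ p = 1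
      rw [← map_pow, show g ^ p = 1 from hg, map_one]
    rw [hgen] at htop
    intro g
    have h1 : QuotientGroup.mk' K g ∈ (H : Set (G ⧸ K)) := htop (mem_top g)
    rw [hH] at h1
    have h2 : QuotientGroup.mk' K (g ^ p) = 1 := by rw [map_pow]; exact h1
    exact (QuotientGroup.eq_one_iff _).1 h2
  have hmin : ∀ K : Subgroup G, K.Normal → K ≠ ⊥ → N ≤ K := by
    intro K hK hK0
    rcases Cfsg.Lib.Core.IsMinNormal.inf_eq_bot_or_le ⟨hNn, hNb, hNB⟩ K with h | h
    · refine absurd ⟨⊤, Set.ext fun g => ⟨fun _ => ?_, fun _ => mem_top g⟩⟩ hnc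
      have : g ^ p ∈ N ⊓ K := ⟨hquot N hNb g, hquot K hK0 g⟩
      rwa [h, mem_bot] at this
    · exact h
  have hpN : ¬ p ∣ Nat.card N := by
    intro hd
    obtain ⟨x, hx⟩ := exists_prime_orderOf_dvd_card' p hd
    obtain ⟨W, hW⟩ := exists_omega hsub hNt
    have hxW : (x : G) ∈ W := (hW x).2 ⟨x.2, by rw [← hx, ← orderOf_coe, pow_orderOf_eq_one]⟩
    have hle := hmin W (omega_normal hNn hW) (fun h => by
      rw [h, mem_bot] at hxW
      rw [← orderOf_coe, hxW, orderOf_one] at hx
      exact hp.out.ne_one hx.symm)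
    refine hnp fun g => ⟨2, ?_⟩
    rw [pow_two, pow_mul]
    exact ((hW _).1 (hle (hquot N hNb g))).2
  have hW0 : ∀ W : Subgroup G, W.Normal → (∀ y ∈ W, y ^ p = 1) → W = ⊥ := by
    intro W hWn hWp
    by_contra hW
    obtain ⟨z, hz, hz1⟩ := N.bot_or_exists_ne_one.resolve_left hNb
    have ho : orderOf z = p := ((Nat.dvd_prime hp.out).1
      (orderOf_dvd_of_pow_eq_one (hWp z (hmin W hWn hW hz)))).resolve_left
      fun h => hz1 (orderOf_eq_one_iff.1 h)
    exact hpN (ho ▸ Subgroup.orderOf_dvd_natCard N hz)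
  have hQp : IsPGroup p (G ⧸ N) := fun g => by
    obtain ⟨g, rfl⟩ := QuotientGroup.mk_surjective g
    exact ⟨1, by rw [pow_one, ← QuotientGroup.mk_pow]; exact (QuotientGroup.eq_one_iff _).2 (hquot N hNb g)⟩
  obtain ⟨a, ha⟩ := IsPGroup.iff_card.1 hQp
  obtain ⟨a, rfl⟩ : ∃ b, a = b + 1 := Nat.exists_eq_succ_of_ne_zero (by
    rintro rfl
    rw [pow_zero, ← Subgroup.index_eq_card, index_eq_one] at ha
    exact hNt ha)
  -- the p-part has order p
  have hGp : Nat.card G = p * Nat.card N := by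
    obtain ⟨K', hK'⟩ := Sylow.exists_subgroup_card_pow_prime (G := G ⧸ N) p (n := a)
      (ha ▸ pow_dvd_pow p (Nat.le_succ a))
    have hK'i : K'.index = p := by
      have h := K'.card_mul_index
      rw [hK', ha, pow_succ] at h
      exact Nat.eq_of_mul_eq_mul_left (pow_pos hp.out.pos a) h
    have hK'n : K'.Normal := normal_of_index_eq_minFac_card (by
      rw [hK'i, ha, Nat.Prime.pow_minFac hp.out (Nat.succ_ne_zero a)])
    set K := K'.comap (QuotientGroup.mk' N) with hK
    have hKn : K.Normal := hK'n.comap _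
    have hKi : K.index = p := by rw [hK, index_comap_of_surjective _ (QuotientGroup.mk'_surjective N), hK'i]
    have hKt : K ≠ ⊤ := fun h => hp.out.ne_one (by rw [← hKi, h, index_top])
    obtain ⟨W, hW⟩ := exists_omega hsub hKt
    have hWb := hW0 W (omega_normal hKn hW) fun y hy => ((hW y).1 hy).2
    have hpK : ¬ p ∣ Nat.card K := fun hd => by
      obtain ⟨x, hx⟩ := exists_prime_orderOf_dvd_card' p hd
      have hxW : (x : G) ∈ W := (hW x).2 ⟨x.2, by rw [← hx, ← orderOf_coe, pow_orderOf_eq_one]⟩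
      rw [hWb, mem_bot] at hxW
      rw [← orderOf_coe, hxW, orderOf_one] at hx
      exact hp.out.ne_one hx.symm
    have h1 := K.card_mul_index
    have h2 := N.card_mul_index
    rw [hKi] at h1
    rw [Subgroup.index_eq_card, ha] at h2
    have ha0 : a = 0 := by
      by_contra ha0
      obtain ⟨b, rfl⟩ := Nat.exists_eq_succ_of_ne_zero ha0
      refine hpK ⟨Nat.card N * p ^ b, Nat.eq_of_mul_eq_mul_right hp.out.pos ?_⟩
      rw [pow_succ] at h2
      rw [h1, ← h2, pow_succ]; ring
    rw [← h2, ha0, zero_add, pow_one, mul_comm]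
  obtain ⟨P⟩ : Nonempty (Sylow p G) := inferInstance
  have hPc : Nat.card (P : Subgroup G) = p := by
    rw [P.card_eq_multiplicity, hGp, Nat.factorization_mul hp.out.ne_zero Nat.card_pos.ne', Finsupp.add_apply,
      hp.out.factorization_self, Nat.factorization_eq_zero_of_not_dvd hpN, pow_one]
  have hcop : (Nat.card (P : Subgroup G)).Coprime (Nat.card N) := by
    rw [hPc]; exact hp.out.coprime_iff_not_dvd.2 hpN
  have hPN : (P : Subgroup G) ≤ normalizer (N : Set G) := le_top.trans (normalizer_eq_top_iff.2 hNn).ge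
  have hdisj : N ⊓ (P : Subgroup G) = ⊥ := disjoint_iff.1 (Cfsg.Lib.Coprime.disjoint_of_coprime_card hcop.symm)
  have htop : N ⊔ (P : Subgroup G) = ⊤ := by
    refine Subgroup.eq_top_of_card_eq _ ?_
    rw [Cfsg.Lib.Coprime.card_sup_of_disjoint hPN (disjoint_iff.2 hdisj), hPc, hGp, mul_comm]
  have hPsol : Group.IsSolvable (P : Subgroup G) := by
    haveI := P.2.isNilpotent
    infer_instance
  obtain ⟨x, hx⟩ := exists_prime_orderOf_dvd_card' p (show p ∣ Nat.card (P : Subgroup G) by rw [hPc])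
  have hPx : (P : Subgroup G) = zpowers (x : G) := by
    refine (eq_of_le_of_card_ge (zpowers_le.2 x.2) ?_).symm
    rw [hPc, Nat.card_zpowers, orderOf_coe, hx]
  have hcen : ¬ ∀ n ∈ N, (x : G) * n * (x : G)⁻¹ = n := by
    intro hc
    have hPn : (P : Subgroup G).Normal := by
      rw [← normalizer_eq_top_iff, eq_top_iff, ← htop]
      refine sup_le (fun n hn => centralizer_le_normalizer _ ?_) le_normalizer
      rw [hPx, zpowers_eq_closure, centralizer_closure]
      exact mem_centralizer_singleton_iff.2 (mul_inv_eq_iff_eq_mul.1 (hc n hn)).symm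
    obtain ⟨z, hz, hz1⟩ := N.bot_or_exists_ne_one.resolve_left hNb
    have := hmin _ hPn (fun e => by rw [e, card_bot] at hPc; exact hp.out.ne_one hPc.symm) hz
    exact hz1 (mem_bot.1 (hdisj ▸ (⟨hz, this⟩ : z ∈ N ⊓ (P : Subgroup G))))
  obtain ⟨q, hq, hqN, Q, hQinv, hQc⟩ : ∃ (q : ℕ) (_ : q.Prime), q ∣ Nat.card N ∧ ∃ Q : Sylow q N,
      (P : Subgroup G) ≤ normalizer (((Q : Subgroup N).map N.subtype : Subgroup G) : Set G) ∧
      ¬ (Q : Subgroup N).map N.subtype ≤ centralizer ((P : Subgroup G) : Set G) := by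
    by_contra hcon
    push Not at hcon
    set C := N ⊓ centralizer ((P : Subgroup G) : Set G)
    have hdvd : Nat.card N ∣ Nat.card C := by
      refine (Nat.dvd_iff_prime_pow_dvd_dvd _ _).2 fun q k hq hd => ?_
      rcases Nat.eq_zero_or_pos k with rfl | hk
      · simp
      have := Fact.mk hq
      obtain ⟨Q, hQ⟩ := Cfsg.Lib.Coprime.exists_invariant_sylow hPN hcop (Or.inl hPsol) q
      have h1 := hcon q hq ((dvd_pow_self q hk.ne').trans hd) Q hQ
      refine Dvd.dvd.trans ?_ (card_dvd_of_le (le_inf (map_subtype_le _) h1))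
      rw [card_map_of_injective N.subtype_injective, Q.card_eq_multiplicity]
      exact pow_dvd_pow q ((hq.pow_dvd_iff_le_factorization Nat.card_pos.ne').1 hd)
    have heq : C = N := eq_of_le_of_card_ge inf_le_left (Nat.le_of_dvd Nat.card_pos hdvd)
    refine hcen fun n hn => ?_
    have : n ∈ centralizer ((P : Subgroup G) : Set G) := (heq.ge hn).2
    rw [mem_centralizer_iff.1 this _ x.2, mul_inv_cancel_right]
  have := Fact.mk hq
  set Q' := (Q : Subgroup N).map N.subtype with hQ'
  have hQN : Q' ≤ N := map_subtype_le _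
  have hXt : Q' ⊔ (P : Subgroup G) = ⊤ := by
    by_contra hX
    obtain ⟨W, hW⟩ := exists_omega hsub hX
    refine hQc fun y hy => mem_centralizer_iff.2 fun z hz => ?_
    have hzp : z ^ p = 1 := hPc ▸ orderOf_dvd_iff_pow_eq_one.1 (Subgroup.orderOf_dvd_natCard _ hz)
    have hzW : z ∈ W := (hW z).2 ⟨le_sup_right (α := Subgroup G) hz, hzp⟩
    have hyz : y * z * y⁻¹ ∈ W := (hW _).2 ⟨mul_mem (mul_mem (le_sup_left (α := Subgroup G) hy)
      (le_sup_right (α := Subgroup G) hz)) (inv_mem (le_sup_left (α := Subgroup G) hy)),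
      by rw [conj_pow, hzp, mul_one, mul_inv_cancel]⟩
    set c := y * z * y⁻¹ * z⁻¹ with hc
    have hcW : c ∈ W := mul_mem hyz (inv_mem hzW)
    have hcQ : c ∈ Q' := by
      rw [hc, show y * z * y⁻¹ * z⁻¹ = y * (z * y⁻¹ * z⁻¹) by group]
      exact mul_mem hy ((mem_normalizer_iff.1 (hQinv hz) _).1 (inv_mem hy))
    have hc1 : c = 1 := by
      by_contra hne
      have ho : orderOf c = p := ((Nat.dvd_prime hp.out).1
        (orderOf_dvd_of_pow_eq_one ((hW c).1 hcW).2)).resolve_left fun h => hne (orderOf_eq_one_iff.1 h)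
      exact hpN (ho ▸ Subgroup.orderOf_dvd_natCard N (hQN hcQ))
    calc z * y = c⁻¹ * (y * z) := by rw [hc]; group
      _ = y * z := by rw [hc1, inv_one, one_mul]
  have hQeq : Q' = N := by
    refine eq_of_le_of_card_ge hQN (le_of_eq ?_)
    have h1 := Cfsg.Lib.Coprime.card_sup_of_disjoint hQinv ((disjoint_iff.2 hdisj).mono_left hQN)
    rw [hXt, card_top, hPc, hGp, mul_comm] at h1
    exact Nat.eq_of_mul_eq_mul_right hp.out.pos h1
  have hNq : IsPGroup q N := hQeq ▸ Q.2.map N.subtype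
  have hNs : Group.IsSolvable N := by
    haveI := hNq.isNilpotent
    infer_instance
  obtain ⟨hcomm, q', hq', hexp, hNq'⟩ := Cfsg.Lib.Core.minimal_solvable_elementary ⟨hNn, hNb, hNB⟩ hNs
  obtain rfl : q = q' := by
    obtain ⟨k, hk⟩ := (haveI := Fact.mk hq'; hNq'.exists_card_eq)
    rw [hk] at hqN
    exact (Nat.prime_dvd_prime_iff_eq hq hq').1 (hq.dvd_of_dvd_pow hqN)
  have hqp : q ≠ p := fun h => hpN (h ▸ hqN)
  have hirr : ∀ B : Subgroup G, B ≤ N → (∀ b ∈ B, (x : G) * b * (x : G)⁻¹ ∈ B) → B = ⊥ ∨ B = N := by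
    intro B hB hinv
    refine hNB B ?_ hB
    rw [← normalizer_eq_top_iff, eq_top_iff, ← htop, hPx]
    refine sup_le (fun n hn => centralizer_le_normalizer _ (mem_centralizer_iff.2 fun b hb =>
      congrArg Subtype.val (hcomm.is_comm.comm (⟨b, hB hb⟩ : N) ⟨n, hn⟩))) (zpowers_le.2 ?_)
    exact Cfsg.Lib.Fusion.le_normalizer_of_conj_mem hinv
  have hNc := card_irreducible hqp hexp hNb
    (orderOf_dvd_iff_pow_eq_one.1 (by rw [orderOf_coe, hx])) hcen hirr
  exact ⟨q, hq, hqp, by rw [hGp, hNc], N, hNn, hNc, ⟨hcomm, hexp⟩, fun B hBn hBN => hNB B hBn hBN⟩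

/-- Say that a finite group is p-exponent closed when its elements of order dividing p form a subgroup. Let G be a finite group that is not p-exponent closed, but all of whose proper subgroups and proper quotients are, and suppose G is neither simple nor a p-group. Then there is a prime q ≠ p such that G has order p · q^e, where e is the multiplicative order of q modulo p, and G has a normal elementary abelian subgroup of order q^e that is a minimal normal subgroup of G. -/
theorem result {G : Type*} [Group G] [Finite G] {p : ℕ} [Fact p.Prime]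
    (hnc : ¬ (∃ H : Subgroup G, (H : Set G) = {g : G | g ^ p = 1})) (hsub : ∀ K : Subgroup G, K ≠ ⊤ → (∃ H : Subgroup ↥K, (H : Set ↥K) = {g : ↥K | g ^ p = 1}))
    (hquo : ∀ (N : Subgroup G) [N.Normal], N ≠ ⊥ → (∃ H : Subgroup (G ⧸ N), (H : Set (G ⧸ N)) = {g : (G ⧸ N) | g ^ p = 1}))
    (hns : ¬ IsSimpleGroup G) (hnp : ¬ IsPGroup p G) :
    ∃ q : ℕ, q.Prime ∧ q ≠ p ∧ Nat.card G = p * q ^ orderOf (q : ZMod p) ∧
      ∃ A : Subgroup G, A.Normal ∧ Nat.card ↥A = q ^ orderOf (q : ZMod p) ∧ Cfsg.IsElementaryAbelian q A ∧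
        ∀ B : Subgroup G, B.Normal → B ≤ A → B = ⊥ ∨ B = A := by
  exact aux hnc hsub hquo hns hnp

end Cfsg.Agent.S3873
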