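import Cfsg.Statements.S3875
import Cfsg.Agent.Lib.Small.LargePrimeValues
import Cfsg.Agent.Lib.Local.PIrreducible
import Cfsg.Agent.Lib.Coprime.Action
import Cfsg.Agent.Lib.Dickson.Targets
import Cfsg.Agent.Lib.Linear.PSLSmall
import Mathlib.FieldTheory.Finite.GaloisField
import Mathlib.GroupTheory.SemidirectProduct
-- import your own Cfsg.Agent.* helpers here

set_option autoImplicit false
open Cfsg

namespace Cfsg.Agent.S3875

open Cfsg.Lib

/-- A simple group that is not `p`-closed has order at least `p (p² - 1) / 2`. -/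
theorem simple_bound {p : ℕ} [hp : Fact p.Prime] {H : Type} [Group H] [Finite H] [IsSimpleGroup H]
    (hH : ¬ IsPClosed p H) : p * (p ^ 2 - 1) / 2 ≤ Nat.card H := by
  classical
  haveI := Fintype.ofFinite H
  by_contra hcon
  push Not at hcon
  have hnc : ¬ IsCyclic H := fun h => hH fun P => by
    letI := h.commGroup
    exact Subgroup.normal_of_comm _
  have hdvd : p ∣ Nat.card H := by
    by_contra hd
    refine hH fun P => ?_
    have h1 : Nat.card (P : Subgroup H) = 1 := by
      rw [P.card_eq_multiplicity, Nat.factorization_eq_zero_of_not_dvd hd, pow_zero]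
    rw [Subgroup.card_eq_one.1 h1]
    infer_instance
  have hbig : Nat.card H < p ^ 3 := by
    have h1 : p * (p ^ 2 - 1) / 2 ≤ p ^ 3 := by
      refine (Nat.div_le_self _ _).trans ?_
      rw [show p ^ 3 = p * p ^ 2 by ring]
      exact Nat.mul_le_mul_left _ (Nat.sub_le _ _)
    omega
  rcases Small.large_prime_cases hnc hdvd hbig with ⟨-, hcard, -⟩ | ⟨⟨D⟩⟩
  · omega
  · obtain ⟨hq, hcard, -⟩ := D.structure_two
    have h7 := D.seven_le
    have h1 : p ^ 2 - 1 ≤ 2 * ((p - 1) * (p - 2)) := by
      obtain ⟨r, rfl⟩ : ∃ r, p = r + 7 := ⟨p - 7, by omega⟩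
      rw [show r + 7 - 1 = r + 6 by omega, show r + 7 - 2 = r + 5 by omega, Nat.sub_le_iff_le_add]
      nlinarith
    have h2 : p * (p ^ 2 - 1) ≤ 2 * (p * (p - 1) * (p - 2)) := by
      calc p * (p ^ 2 - 1) ≤ p * (2 * ((p - 1) * (p - 2))) := Nat.mul_le_mul_left p h1
        _ = 2 * (p * (p - 1) * (p - 2)) := by ring
    omega

/-- A group of order prime to `p` acted on nontrivially by a `p`-group has order at least `m`. -/
theorem acted_bound {p m : ℕ} [hp : Fact p.Prime]
    (hleast : ∀ k : ℕ, IsPrimePow k → k % p = 1 → m ≤ k)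
    {H : Type} [Group H] [Finite H] {P N : Subgroup H} (hP : IsPGroup p P)
    (hN : ¬ p ∣ Nat.card N) (hPN : P ≤ Subgroup.normalizer (N : Set H))
    (hne : ¬ P ≤ Subgroup.centralizer (N : Set H)) : m ≤ Nat.card N := by
  classical
  obtain ⟨a, ha⟩ := IsPGroup.iff_card.1 hP
  have hcop : (Nat.card P).Coprime (Nat.card N) := by
    rw [ha]
    exact ((hp.out.coprime_iff_not_dvd).2 hN).pow_left a
  haveI : Group.IsNilpotent P := hP.isNilpotent
  have hsolP : Group.IsSolvable P := inferInstance
  by_contra hcon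
  apply hne
  have key : ∀ r : ℕ, ∀ _ : Fact r.Prime, ∃ R : Sylow r N,
      (R : Subgroup N).map N.subtype ≤ Subgroup.centralizer (P : Set H) := by
    intro r hr
    obtain ⟨R, hR⟩ := Coprime.exists_invariant_sylow hPN hcop (Or.inl hsolP) r
    refine ⟨R, ?_⟩
    set R' := (R : Subgroup N).map N.subtype with hR'
    by_contra hRc
    letI : MulAction P R' := MulAction.compHom R'
      (R'.normalizerMonoidHom.comp (Subgroup.inclusion hR))
    have hfix : ∀ x : R', x ∈ MulAction.fixedPoints P R' ↔ (x : H) ∈ Subgroup.centralizer (P : Set H) := by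
      intro x
      rw [MulAction.mem_fixedPoints, Subgroup.mem_centralizer_iff]
      refine ⟨fun h g hg => ?_, fun h g => ?_⟩
      · have h1 : g * (x : H) * g⁻¹ = x := congrArg Subtype.val (h ⟨g, hg⟩)
        exact mul_inv_eq_iff_eq_mul.1 h1
      · refine Subtype.ext ?_
        show (g : H) * (x : H) * (g : H)⁻¹ = x
        exact mul_inv_eq_iff_eq_mul.2 (h g g.2)
    set C := (Subgroup.centralizer (P : Set H)).subgroupOf R' with hC
    have hmod := hP.card_modEq_card_fixedPoints R'
    have hfc : Nat.card (MulAction.fixedPoints P R') = Nat.card C :=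
      Nat.card_congr (Equiv.subtypeEquivRight fun x => by
        rw [hC, Subgroup.mem_subgroupOf]; exact hfix x)
    rw [hfc, ← Subgroup.card_mul_index C] at hmod
    have hRp : IsPGroup r R' := R.isPGroup'.map N.subtype
    obtain ⟨c, hc⟩ := hRp.index C
    have hc0 : c ≠ 0 := by
      rintro rfl
      rw [pow_zero, Subgroup.index_eq_one, hC, Subgroup.subgroupOf_eq_top] at hc
      exact hRc hc
    have hCN : Nat.card C * C.index ∣ Nat.card N := by
      rw [Subgroup.card_mul_index]
      exact Subgroup.card_dvd_of_le (Subgroup.map_subtype_le _)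
    have hdC : ¬ p ∣ Nat.card C := fun h => hN ((dvd_mul_of_dvd_left h _).trans hCN)
    have hcp : C.index % p = 1 := by
      have h1 : Nat.card C * C.index ≡ Nat.card C * 1 [MOD p] := by rw [mul_one]; exact hmod
      have h2 := Nat.ModEq.cancel_left_of_coprime ((hp.out.coprime_iff_not_dvd).2 hdC) h1
      rw [Nat.ModEq, Nat.one_mod_eq_one.2 hp.out.ne_one] at h2
      exact h2
    have h3 := hleast C.index ⟨r, c, hr.out.prime, Nat.pos_of_ne_zero hc0, hc.symm⟩ hcp
    exact hcon (h3.trans (Nat.le_of_dvd Nat.card_pos ((dvd_mul_left _ _).trans hCN)))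
  rw [Subgroup.le_centralizer_iff]
  have htop : (Subgroup.centralizer (P : Set H)).subgroupOf N = ⊤ := by
    refine Subgroup.eq_top_of_card_eq _ (Nat.dvd_antisymm (Subgroup.card_subgroup_dvd_card _) ?_)
    refine (Nat.factorization_prime_le_iff_dvd Nat.card_pos.ne' Nat.card_pos.ne').1 fun r hr => ?_
    haveI : Fact r.Prime := ⟨hr⟩
    obtain ⟨R, hR⟩ := key r ⟨hr⟩
    have h1 : Nat.card (R : Subgroup N) ∣ Nat.card ((Subgroup.centralizer (P : Set H)).subgroupOf N) :=
      Subgroup.card_dvd_of_le fun x hx => Subgroup.mem_subgroupOf.2 (hR ⟨x, hx, rfl⟩)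
    rw [R.card_eq_multiplicity] at h1
    exact (hr.pow_dvd_iff_le_factorization Nat.card_pos.ne').1 h1
  rwa [Subgroup.subgroupOf_eq_top] at htop

/-- The lower bound. -/
theorem lower_bound {p m : ℕ} [hp : Fact p.Prime]
    (hleast : ∀ k : ℕ, IsPrimePow k → k % p = 1 → m ≤ k) :
    ∀ (n : ℕ) (H : Type) [Group H] [Finite H], Nat.card H = n → ¬ IsPClosed p H →
      min (p * m) (p * (p ^ 2 - 1) / 2) ≤ n := by
  intro n
  induction n using Nat.strong_induction_on with
  | _ n ih =>
  intro H _ _ hn hH
  classical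
  by_contra hcon
  by_cases hs : IsSimpleGroup H
  · exact hcon (le_trans (min_le_right _ _) (hn ▸ simple_bound hH))
  haveI : Nontrivial H := by
    by_contra hnt
    rw [not_nontrivial_iff_subsingleton] at hnt
    exact hH fun P => by rw [Subsingleton.elim (P : Subgroup H) ⊤]; infer_instance
  obtain ⟨N, hNn, hNb, hNt⟩ : ∃ N : Subgroup H, N.Normal ∧ N ≠ ⊥ ∧ N ≠ ⊤ := by
    by_contra hall
    push Not at hall
    exact hs { eq_bot_or_eq_top_of_normal := fun N hN => or_iff_not_imp_left.2 (hall N hN) }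
  have hlt : Nat.card N < n := by
    rw [← hn]
    exact lt_of_le_of_ne (Subgroup.card_le_card_group N) fun h => hNt (Subgroup.eq_top_of_card_eq N h)
  have hNc : IsPClosed p N := by
    by_contra h
    exact hcon ((ih _ hlt N rfl h).trans hlt.le)
  have hquot : ∀ D : Subgroup H, ∀ _ : D.Normal, D ≠ ⊥ → IsPClosed p (H ⧸ D) := by
    intro D _ hDb
    by_contra h
    have hlt' : Nat.card (H ⧸ D) < n := by
      rw [← hn, Subgroup.card_eq_card_quotient_mul_card_subgroup D]
      exact lt_mul_of_one_lt_right Nat.card_pos ((Subgroup.one_lt_card_iff_ne_bot D).2 hDb)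
    exact hcon ((ih _ hlt' _ rfl h).trans hlt'.le)
  obtain ⟨Q⟩ : Nonempty (Sylow p N) := inferInstance
  haveI := hNc Q
  haveI : (Q : Subgroup N).Characteristic := Sylow.characteristic_of_normal Q inferInstance
  by_cases hQb : (Q : Subgroup N) = ⊥
  swap
  · set D := (Q : Subgroup N).map N.subtype
    haveI : D.Normal := ConjAct.normal_of_characteristic_of_normal
    refine hH ((Local.isPClosed_quotient_iff D (Q.isPGroup'.map N.subtype)).1
      (hquot D inferInstance ?_))
    rwa [ne_eq, Subgroup.map_eq_bot_iff_of_injective _ N.subtype_injective]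
  have hNp : ¬ p ∣ Nat.card N := fun hd => by
    have h := Q.pow_dvd_card_of_pow_dvd_card (n := 1) (by rwa [pow_one])
    rw [hQb, Subgroup.card_bot, pow_one] at h
    exact hp.out.not_dvd_one h
  obtain ⟨P, hPn⟩ : ∃ P : Sylow p H, ¬ (P : Subgroup H).Normal := by
    by_contra h
    push Not at h
    exact hH h
  set M := (P : Subgroup H) ⊔ N with hM
  have hPM : (P : Subgroup H) ≤ M := le_sup_left
  haveI hMn : M.Normal := by
    have h := hquot N hNn hNb
    have hsurj := QuotientGroup.mk'_surjective N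
    have h1 := h (P.mapSurjective hsurj)
    rw [Sylow.coe_mapSurjective] at h1
    have h2 := h1.comap (QuotientGroup.mk' N)
    rwa [Subgroup.comap_map_eq, QuotientGroup.ker_mk'] at h2
  have hMtop : M = ⊤ := by
    by_contra hne
    have hlt' : Nat.card M < n := by
      rw [← hn]
      exact lt_of_le_of_ne (Subgroup.card_le_card_group M) fun h => hne (Subgroup.eq_top_of_card_eq M h)
    by_cases hMc : IsPClosed p M
    · haveI := hMc (P.subtype hPM)
      haveI : ((P.subtype hPM : Sylow p M) : Subgroup M).Characteristic :=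
        Sylow.characteristic_of_normal _ inferInstance
      refine hPn ?_
      rw [← Subgroup.map_subgroupOf_eq_of_le hPM, ← Sylow.coe_subtype P hPM]
      exact ConjAct.normal_of_characteristic_of_normal
    · exact hcon ((ih _ hlt' M rfl hMc).trans hlt'.le)
  have hne : ¬ (P : Subgroup H) ≤ Subgroup.centralizer (N : Set H) := by
    intro hc
    refine hPn (Subgroup.normalizer_eq_top_iff.1 ?_)
    rw [eq_top_iff, ← hMtop]
    exact sup_le Subgroup.le_normalizer
      ((Subgroup.le_centralizer_iff.1 hc).trans (Subgroup.centralizer_le_normalizer _))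
  have hbound := acted_bound hleast P.isPGroup' hNp
    (by rw [Subgroup.normalizer_eq_top]; exact le_top) hne
  have hPp : p ∣ Nat.card (P : Subgroup H) := by
    obtain ⟨a, ha⟩ := IsPGroup.iff_card.1 P.isPGroup'
    rcases Nat.eq_zero_or_pos a with h | h
    · refine absurd ?_ hPn
      rw [h, pow_zero] at ha
      rw [Subgroup.card_eq_one.1 ha]
      infer_instance
    · exact ha ▸ dvd_pow_self p h.ne'
  have h1 : Nat.card (P : Subgroup H) * Nat.card N ∣ Nat.card H := by
    refine Nat.Coprime.mul_dvd_of_dvd_of_dvd ?_ (Subgroup.card_subgroup_dvd_card _)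
      (Subgroup.card_subgroup_dvd_card _)
    obtain ⟨a, ha⟩ := IsPGroup.iff_card.1 P.isPGroup'
    rw [ha]
    exact ((hp.out.coprime_iff_not_dvd).2 hNp).pow_left a
  have h2 : p * m ≤ n := by
    rw [← hn]
    exact (Nat.mul_le_mul (Nat.le_of_dvd Nat.card_pos hPp) hbound).trans
      (Nat.le_of_dvd Nat.card_pos h1)
  exact hcon ((min_le_left _ _).trans h2)

/-- The Frobenius group of order `p m`. -/
theorem frobenius_witness {p m : ℕ} [hp : Fact p.Prime] (hm : IsPrimePow m) (hm1 : m % p = 1) :
    ∃ (H : Type) (_ : Group H) (_ : Finite H), Nat.card H = p * m ∧ ¬ IsPClosed p H := by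
  classical
  obtain ⟨r, b, hr, hb, rfl⟩ := hm
  haveI : Fact r.Prime := ⟨hr.nat_prime⟩
  let F := GaloisField r b
  haveI : Fintype F := Fintype.ofFinite F
  have hF : Nat.card F = r ^ b := GaloisField.card r b hb.ne'
  have hpdvd : p ∣ Nat.card Fˣ := by
    rw [Nat.card_units, hF]
    exact (Nat.modEq_iff_dvd' (Nat.one_le_pow _ _ hr.nat_prime.pos)).1
      (show 1 % p = r ^ b % p by rw [hm1, Nat.one_mod_eq_one.2 hp.out.ne_one])
  obtain ⟨ω, hω⟩ := exists_prime_orderOf_dvd_card' p hpdvd
  let U := Subgroup.zpowers ω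
  let φ : U →* MulAut (Multiplicative F) :=
    { toFun := fun u => AddEquiv.toMultiplicative (DistribMulAction.toAddAut Fˣ F (u : Fˣ))
      map_one' := by ext x; simp
      map_mul' := fun u v => by ext x; simp [mul_smul] }
  have hN : Nat.card (Multiplicative F) = r ^ b := (Nat.card_congr Multiplicative.toAdd).trans hF
  have hU : Nat.card U = p := by rw [Nat.card_zpowers, hω]
  haveI : Finite (Multiplicative F ⋊[φ] U) := Finite.of_equiv _ SemidirectProduct.equivProd.symm
  have hcard : Nat.card (Multiplicative F ⋊[φ] U) = p * r ^ b := by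
    rw [SemidirectProduct.card, hN, hU, mul_comm]
  refine ⟨Multiplicative F ⋊[φ] U, inferInstance, inferInstance, hcard, fun hc => ?_⟩
  set u : U := ⟨ω, Subgroup.mem_zpowers ω⟩
  set x : Multiplicative F := Multiplicative.ofAdd (1 : F)
  obtain ⟨P, hP⟩ := (IsPGroup.of_card (p := p) (n := 1)
    (G := (SemidirectProduct.inr : U →* Multiplicative F ⋊[φ] U).range) (by
      rw [pow_one, ← Nat.card_congr
        (MonoidHom.ofInjective (SemidirectProduct.inr_injective (φ := φ))).toEquiv, hU])).exists_le_sylow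
  haveI := hc P
  have hu : (SemidirectProduct.inr u : Multiplicative F ⋊[φ] U) ∈ (P : Subgroup _) :=
    hP ⟨u, rfl⟩
  set g : Multiplicative F ⋊[φ] U :=
    SemidirectProduct.inl x * SemidirectProduct.inr u * (SemidirectProduct.inl x)⁻¹ *
      (SemidirectProduct.inr u)⁻¹
  have hgP : g ∈ (P : Subgroup _) :=
    mul_mem ((hc P).conj_mem _ hu _) (inv_mem hu)
  have hgN : g = SemidirectProduct.inl (x * φ u x⁻¹) := by
    simp only [g, ← map_inv, map_mul, SemidirectProduct.inl_aut, mul_assoc]
  have h1 : orderOf g ∣ r ^ b := by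
    rw [hgN, orderOf_injective _ SemidirectProduct.inl_injective, ← hN]
    exact _root_.orderOf_dvd_natCard _
  obtain ⟨a, ha⟩ := IsPGroup.iff_orderOf.1 P.2 ⟨g, hgP⟩
  rw [Subgroup.orderOf_mk] at ha
  have hcop : (p ^ a).Coprime (r ^ b) := by
    refine ((hp.out.coprime_iff_not_dvd).2 fun h => ?_).pow_left a
    rw [Nat.dvd_iff_mod_eq_zero, hm1] at h
    exact one_ne_zero h
  have h2 : g = 1 := orderOf_eq_one_iff.1 (Nat.eq_one_of_dvd_coprimes hcop (ha ▸ dvd_rfl) h1)
  rw [hgN, ← map_one (SemidirectProduct.inl (φ := φ)), SemidirectProduct.inl_injective.eq_iff,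
    map_inv, mul_inv_eq_one] at h2
  have h3 : (1 : F) = (ω : F) * 1 := congrArg Multiplicative.toAdd h2
  rw [mul_one] at h3
  rw [Units.val_eq_one.1 h3.symm, orderOf_one] at hω
  exact hp.out.ne_one hω.symm

/-- The projective special linear group of order `p (p² - 1) / 2`. -/
theorem psl_witness {p : ℕ} [hp : Fact p.Prime] (hp2 : p ≠ 2) :
    ∃ (H : Type) (_ : Group H) (_ : Finite H),
      Nat.card H = p * (p ^ 2 - 1) / 2 ∧ ¬ IsPClosed p H := by
  classical
  refine ⟨Matrix.ProjectiveSpecialLinearGroup (Fin 2) (ZMod p), inferInstance, inferInstance, ?_,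
    fun h => ?_⟩
  · have h := Cfsg.Lib.Linear.Two.card_PSL_two (F := ZMod p)
    rw [ZMod.card, Nat.gcd_eq_left (by
      rcases hp.out.eq_two_or_odd with h2 | h2 <;> omega : 2 ∣ p - 1)] at h
    omega
  · obtain ⟨P⟩ : Nonempty (Sylow p (Matrix.ProjectiveSpecialLinearGroup (Fin 2) (ZMod p))) :=
      inferInstance
    exact Cfsg.Lib.Dickson.sylow_not_normal_psl p P (h P)

/-- Let p be an odd prime and let m be the least prime power congruent to 1 modulo p. Then the least order of a finite group whose Sylow p-subgroups are not normal is the smaller of p · m and p(p² − 1)/2: every finite group whose Sylow p-subgroups are not normal has at least that order, and some group of exactly that order has non-normal Sylow p-subgroups. -/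
theorem result (p : ℕ) [Fact p.Prime] (hp : p ≠ 2) (m : ℕ) (hm : IsPrimePow m) (hm1 : m % p = 1)
    (hleast : ∀ k : ℕ, IsPrimePow k → k % p = 1 → m ≤ k) :
    (∀ (H : Type) [Group H] [Finite H], ¬ Cfsg.IsPClosed p H → min (p * m) (p * (p ^ 2 - 1) / 2) ≤ Nat.card H) ∧
      ∃ (H : Type) (_ : Group H) (_ : Finite H), Nat.card H = min (p * m) (p * (p ^ 2 - 1) / 2) ∧ ¬ Cfsg.IsPClosed p H := by
  refine ⟨fun H _ _ hH => lower_bound hleast _ H rfl hH, ?_⟩
  rcases le_total (p * m) (p * (p ^ 2 - 1) / 2) with h | h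
  · rw [min_eq_left h]; exact frobenius_witness hm hm1
  · rw [min_eq_right h]; exact psl_witness hp

end Cfsg.Agent.S3875
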