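import Cfsg.Statements.S3878
import Cfsg.Agent.Lib.Linear.TransvectionGL
import Mathlib.FieldTheory.Finite.GaloisField
import Mathlib.Data.Nat.Totient
-- import your own Cfsg.Agent.* helpers here

set_option autoImplicit false
open Cfsg

namespace Cfsg.Agent.S3878

open Matrix Subgroup

theorem isPGroup_of_unique {G : Type*} [Group G] [Finite G] {π : Set ℕ} {K : Subgroup G}
    (hK : Cfsg.IsPiSubgroup π K) {p : ℕ}
    (huniq : ∀ r : ℕ, r.Prime → r ∈ π → r = p) : IsPGroup p K := by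
  refine IsPGroup.of_card (n := (Nat.card K).primeFactorsList.length)
    (Nat.eq_prime_pow_of_unique_prime_dvd (Nat.card_pos.ne') fun {d} hd hdK => huniq d hd (hK d hd hdK))

theorem dPi_of_trivial (π : Set ℕ)
    (h : (∀ p q : ℕ, p.Prime → q.Prime → p ∈ π → q ∈ π → p = q) ∨ ∀ p : ℕ, p.Prime → p ∈ π)
    (G : Type) [Group G] [Finite G] : Cfsg.IsDPiGroup π G := by
  intro H K hH hK
  rcases h with h | h
  swap
  · have hall : ∀ M : Subgroup G, Cfsg.IsPiSubgroup π M := fun M r hr _ => h r hr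
    refine ⟨1, ?_⟩
    rw [top_le_iff.1 (hH.2 (hall ⊤) le_top), top_le_iff.1 (hK.2 (hall ⊤) le_top)]
    exact (map_top_of_surjective _ (MulAut.conj (1 : G)).surjective).symm
  by_cases hp : ∃ p, p.Prime ∧ p ∈ π
  · obtain ⟨p, hp, hpπ⟩ := hp
    have : Fact p.Prime := ⟨hp⟩
    have hpg : ∀ M : Subgroup G, Cfsg.IsPiSubgroup π M → IsPGroup p M := fun M hM =>
      isPGroup_of_unique hM fun r hr hrπ => h r p hr hp hrπ hpπ
    have hsyl : ∀ M : Subgroup G, Maximal (Cfsg.IsPiSubgroup π) M → ∃ P : Sylow p G, (P : Subgroup G) = M := by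
      intro M hM
      obtain ⟨P, hP⟩ := (hpg M hM.1).exists_le_sylow
      refine ⟨P, le_antisymm (hM.2 ?_ hP) hP⟩
      intro r hr hd
      obtain ⟨n, hn⟩ := IsPGroup.iff_card.1 P.isPGroup'
      rw [hn] at hd
      exact (Nat.prime_dvd_prime_iff_eq hr hp).1 (hr.dvd_of_dvd_pow hd) ▸ hpπ
    obtain ⟨P, rfl⟩ := hsyl H hH
    obtain ⟨Q, rfl⟩ := hsyl K hK
    obtain ⟨g, hg⟩ := MulAction.exists_smul_eq G P Q
    exact ⟨g, by rw [← hg, Sylow.smul_def, Sylow.pointwise_smul_def]; rfl⟩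
  · push Not at hp
    have hb : ∀ M : Subgroup G, Cfsg.IsPiSubgroup π M → M = ⊥ := fun M hM => by
      refine eq_bot_of_card_eq M (by_contra fun hne => ?_)
      obtain ⟨r, hr, hrd⟩ := Nat.exists_prime_and_dvd hne
      exact hp r hr (hM r hr hrd)
    exact ⟨1, by rw [hb H hH.1, hb K hK.1, Subgroup.map_bot]⟩

theorem ePi_of_dPi (π : Set ℕ) (G : Type) [Group G] [Finite G] (h : Cfsg.IsDPiGroup π G) :
    Cfsg.IsEPiGroup π G := by
  have hex : ∀ M : Subgroup G, Cfsg.IsPiSubgroup π M → ∃ K, M ≤ K ∧ Maximal (Cfsg.IsPiSubgroup π) K := by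
    intro M hM
    obtain ⟨K, hMK, hK⟩ := (Set.toFinite {K : Subgroup G | Cfsg.IsPiSubgroup π K}).exists_le_maximal hM
    exact ⟨K, hMK, hK⟩
  obtain ⟨H, -, hH⟩ := hex ⊥ fun r hr hd => by
    rw [Subgroup.card_bot] at hd
    exact absurd (Nat.dvd_one.1 hd) hr.ne_one
  refine ⟨H, hH.1, fun r hr hrπ hd => ?_⟩
  have : Fact r.Prime := ⟨hr⟩
  let P : Sylow r G := default
  obtain ⟨K, hPK, hK⟩ := hex P fun t ht htd => by
    obtain ⟨n, hn⟩ := IsPGroup.iff_card.1 P.isPGroup'
    rw [hn] at htd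
    exact (Nat.prime_dvd_prime_iff_eq ht hr).1 (ht.dvd_of_dvd_pow htd) ▸ hrπ
  obtain ⟨g, hg⟩ := h H K hH hK
  refine P.not_dvd_index (hd.trans ?_)
  have hKH : K.index = H.index := by rw [hg]; exact Subgroup.index_map_equiv H (MulAut.conj g)
  rw [← hKH]
  exact index_dvd_of_le hPK

section Counterexample

variable {ι : Type} [Fintype ι] [DecidableEq ι] {F : Type} [Field F]

open Cfsg.Lib.Linear

/-- A subgroup with a full transvection group and an irreducible element contains `SL`. -/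
theorem sl_le (H : Subgroup (GL ι F)) (z0 : ι → F) (hz0 : z0 ≠ 0)
    (htv : ∀ a h, tv z0 a h ∈ H) (x : GL ι F) (hx : x ∈ H)
    (hirr : ∀ W : Submodule F (ι → F), (∀ w ∈ W, (x : Matrix ι ι F) *ᵥ w ∈ W) → W = ⊥ ∨ W = ⊤) :
    Cfsg.Geo.specialLinear ι F ≤ H := by
  classical
  let Z : Set (ι → F) := {z | ∀ a h, tv z a h ∈ H}
  have hinv : ∀ k ∈ H, ∀ z ∈ Z, (k : Matrix ι ι F) *ᵥ z ∈ Z := fun k hk z hz a h => by
    rw [tv_conj]
    exact mul_mem (mul_mem hk (hz _ _)) (inv_mem hk)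
  have hsmul : ∀ (c : F) z, z ∈ Z → c • z ∈ Z := fun c z hz a h => by
    have h' : (c • a) ⬝ᵥ z = 0 := by rwa [smul_dotProduct, ← dotProduct_smul]
    rw [tv_congr h h' (tvMat_smul c z a)]
    exact hz _ _
  have hzero : (0 : ι → F) ∈ Z := by simpa using hsmul 0 z0 htv
  have hadd : ∀ y z, y ∈ Z → z ∈ Z → y + z ∈ Z := by
    intro y z hy hz
    by_cases hd : ∃ c : F, z = c • y
    · obtain ⟨c, rfl⟩ := hd
      rw [show y + c • y = (1 + c) • y by rw [add_smul, one_smul]]
      exact hsmul _ _ hy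
    by_cases hy0 : y = 0
    · rwa [hy0, zero_add]
    obtain ⟨f, hf, hf'⟩ := Submodule.exists_le_ker_of_lt_top (Submodule.span F {z})
      (lt_of_le_of_ne le_top fun htop => by
        obtain ⟨c, hc⟩ := Submodule.mem_span_singleton.1 (htop ▸ Submodule.mem_top (x := y))
        rcases eq_or_ne c 0 with rfl | hc0
        · exact hy0 (by simpa using hc.symm)
        · exact hd ⟨c⁻¹, by rw [← hc, smul_smul, inv_mul_cancel₀ hc0, one_smul]⟩)
    -- a linear form killing `z` but not `y`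
    obtain ⟨g, hgy, hgz⟩ : ∃ g : (ι → F) →ₗ[F] F, g y = 1 ∧ g z = 0 := by
      have hy' : y ∉ Submodule.span F {z} := fun h => by
        obtain ⟨c, hc⟩ := Submodule.mem_span_singleton.1 h
        rcases eq_or_ne c 0 with rfl | hc0
        · exact hy0 (by simpa using hc.symm)
        · exact hd ⟨c⁻¹, by rw [← hc, smul_smul, inv_mul_cancel₀ hc0, one_smul]⟩
      obtain ⟨g, hgy, hgW⟩ := Submodule.exists_dual_map_eq_bot_of_notMem hy' inferInstance
      refine ⟨(g y)⁻¹ • g, by simp [hgy], ?_⟩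
      have : g z ∈ (Submodule.span F {z}).map g := Submodule.mem_map_of_mem (Submodule.mem_span_singleton_self z)
      rw [hgW, Submodule.mem_bot] at this
      simp [this]
    let a : ι → F := fun i => g (Pi.single i 1)
    have ha : ∀ v, a ⬝ᵥ v = g v := fun v => by
      conv_rhs => rw [show v = ∑ i, v i • (Pi.single i (1 : F) : ι → F) from pi_eq_sum_univ' v]
      rw [map_sum]
      simp [dotProduct, a, mul_comm]
    have haz : a ⬝ᵥ z = 0 := by rw [ha, hgz]
    have h1 := hinv _ (hz a haz) y hy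
    rwa [coe_tv, tvMat_mulVec, ha, hgy, one_smul] at h1
  let W : Submodule F (ι → F) :=
    { carrier := Z, zero_mem' := hzero, add_mem' := fun {y z} => hadd y z, smul_mem' := hsmul }
  refine SL_le_of_tv_mem H fun z a h => ?_
  have : z ∈ W := by
    rcases hirr W (fun w hw => hinv x hx w hw) with h | h
    · exact absurd (h ▸ (show z0 ∈ W from htv) : z0 ∈ (⊥ : Submodule F (ι → F))) (by simpa using hz0)
    · rw [h]; trivial
  exact this a h

/-- For fixed `z` the transvections form a `p`-group. -/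
theorem isPGroup_tv (p : ℕ) [hp : Fact p.Prime] [CharP F p] (z : ι → F) :
    IsPGroup p (closure {g : GL ι F | ∃ a h, g = tv z a h}) := by
  have hmul : ∀ a b ha hb, tv z a ha * tv z b hb =
      tv z (a + b) (by rw [add_dotProduct, ha, hb, add_zero]) := by
    intro a b ha hb
    apply Units.ext
    rw [Units.val_mul, coe_tv, coe_tv, coe_tv, tvMat, tvMat, tvMat, add_mul, one_mul, mul_add, mul_one,
      vecMulVec_mul_vecMulVec, ha, vecMulVec_add]
    simp [add_assoc, add_comm]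
  have hone : tv z 0 (zero_dotProduct z) = 1 := Units.ext (by simp [coe_tv, tvMat])
  let T : Subgroup (GL ι F) :=
    { carrier := {g | ∃ a h, g = tv z a h}
      one_mem' := ⟨0, zero_dotProduct z, hone.symm⟩
      mul_mem' := by rintro _ _ ⟨a, ha, rfl⟩ ⟨b, hb, rfl⟩; exact ⟨_, _, hmul a b ha hb⟩
      inv_mem' := by
        rintro _ ⟨a, ha, rfl⟩
        refine ⟨-a, by rw [neg_dotProduct, ha, neg_zero], inv_eq_of_mul_eq_one_right ?_⟩
        rw [hmul, ← hone]
        exact tv_congr _ _ (by rw [add_neg_cancel]) }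
  have hT : closure {g : GL ι F | ∃ a h, g = tv z a h} ≤ T := (closure_le T).2 subset_rfl
  refine IsPGroup.to_le ?_ hT
  intro g
  obtain ⟨a, ha, hg⟩ := g.2
  refine ⟨1, Subtype.ext ?_⟩
  rw [pow_one, SubmonoidClass.coe_pow, hg]
  have key : ∀ n : ℕ, tv z a ha ^ n = tv z ((n : F) • a) (by rw [smul_dotProduct, ha, smul_zero]) := by
    intro n
    induction n with
    | zero => rw [pow_zero, ← hone]; exact tv_congr _ _ (by simp)
    | succ n ih => rw [pow_succ, ih, hmul]; exact tv_congr _ _ (by simp [add_smul])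
  rw [key, OneMemClass.coe_one, ← hone]
  exact tv_congr _ _ (by simp [CharP.cast_eq_zero])

end Counterexample

open Cfsg.Lib.Linear in
theorem exists_not_ePi (π : Set ℕ) {p q s : ℕ} (hp : p.Prime) (hq : q.Prime) (hs : s.Prime)
    (hpπ : p ∈ π) (hqπ : q ∈ π) (hsπ : s ∉ π) (hpq : p ≠ q) :
    ∃ (G : Type) (_ : Group G) (_ : Finite G), ¬ Cfsg.IsEPiGroup π G := by
  classical
  have : Fact p.Prime := ⟨hp⟩
  obtain ⟨b, hb⟩ : ∃ b, p ^ (s + 1) < q ^ b := ⟨p ^ (s + 1), Nat.lt_pow_self hq.one_lt⟩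
  have hcop : p.Coprime (q ^ b) := ((Nat.coprime_primes hp hq).2 hpq).pow_right b
  have : NeZero (q ^ b) := ⟨(pow_pos hq.pos b).ne'⟩
  set N := orderOf (ZMod.unitOfCoprime p hcop) with hN
  have hN0 : 0 < N := orderOf_pos _
  have hdvd : ∀ d : ℕ, q ^ b ∣ p ^ d - 1 ↔ N ∣ d := by
    intro d
    rw [hN, orderOf_dvd_iff_pow_eq_one, Units.ext_iff, Units.val_pow_eq_pow_val, Units.val_one,
      ZMod.coe_unitOfCoprime, ← Nat.cast_pow, ← Nat.cast_one (R := ZMod (q ^ b)),
      ZMod.natCast_eq_natCast_iff, Nat.ModEq.comm, Nat.modEq_iff_dvd' (Nat.one_le_pow _ _ hp.pos)]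
  have hqN : q ^ b ∣ p ^ N - 1 := (hdvd N).2 dvd_rfl
  have hsN : s + 1 < N := by
    refine (Nat.pow_lt_pow_iff_right hp.one_lt).1 (hb.trans_le ((Nat.le_of_dvd ?_ hqN).trans (Nat.sub_le _ _)))
    have := Nat.one_lt_pow hN0.ne' hp.one_lt
    omega
  refine ⟨GL (Fin N) (ZMod p), inferInstance, inferInstance, ?_⟩
  rintro ⟨H, hH1, hH2⟩
  -- an irreducible element of order `q ^ b`
  let K := GaloisField p N
  have : Fintype K := Fintype.ofFinite K
  let B : Module.Basis (Fin N) (ZMod p) K :=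
    (Module.finBasis (ZMod p) K).reindex (finCongr (GaloisField.finrank p hN0.ne'))
  obtain ⟨ζ, hζ⟩ : ∃ ζ : Kˣ, orderOf ζ = q ^ b := by
    obtain ⟨g, hg⟩ := IsCyclic.exists_ofOrder_eq_natCard (α := Kˣ)
    have hc : orderOf g = p ^ N - 1 := by
      rw [hg, Nat.card_units, GaloisField.card p N hN0.ne']
    obtain ⟨e, he⟩ := hqN
    refine ⟨g ^ e, ?_⟩
    have he0 : e ≠ 0 := by
      rintro rfl
      have := Nat.one_lt_pow hN0.ne' hp.one_lt
      omega
    rw [orderOf_pow_of_dvd he0 (by rw [hc, he]; exact dvd_mul_left _ _), hc, he,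
      Nat.mul_div_cancel _ (Nat.pos_of_ne_zero he0)]
  let x : GL (Fin N) (ZMod p) := Units.map (Algebra.leftMulMatrix B).toRingHom.toMonoidHom ζ
  have hxq : x ^ q ^ b = 1 := by rw [← map_pow, ← hζ, pow_orderOf_eq_one, map_one]
  have hxirr : ∀ W : Submodule (ZMod p) (Fin N → ZMod p),
      (∀ w ∈ W, (x : Matrix (Fin N) (Fin N) (ZMod p)) *ᵥ w ∈ W) → W = ⊥ ∨ W = ⊤ := by
    intro W hW
    let e : K ≃ₗ[ZMod p] (Fin N → ZMod p) := B.equivFun
    let S : Submodule (ZMod p) K := W.comap e.toLinearMap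
    have hS : ∀ y ∈ S, (ζ : K) * y ∈ S := by
      intro y hy
      show e ((ζ : K) * y) ∈ W
      have h := hW _ (show e y ∈ W from hy)
      rwa [show e ((ζ : K) * y) = (x : Matrix (Fin N) (Fin N) (ZMod p)) *ᵥ e y from
        (Algebra.leftMulMatrix_mulVec_repr B (ζ : K) y).symm]
    let C : Subalgebra (ZMod p) K :=
      { carrier := {c | ∀ y ∈ S, c * y ∈ S}
        mul_mem' := fun {c d} hc hd y hy => by rw [mul_assoc]; exact hc _ (hd y hy)
        add_mem' := fun {c d} hc hd y hy => by rw [add_mul]; exact S.add_mem (hc y hy) (hd y hy)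
        algebraMap_mem' := fun r y hy => by rw [← Algebra.smul_def]; exact S.smul_mem r hy }
    have hCtop : C = ⊤ := by
      have h1 : (IntermediateField.adjoin (ZMod p) {(ζ : K)}).toSubalgebra ≤ C := by
        rw [IntermediateField.adjoin_simple_toSubalgebra_of_isAlgebraic (Algebra.IsAlgebraic.isAlgebraic _)]
        exact Algebra.adjoin_le (Set.singleton_subset_iff.2 hS)
      set E := IntermediateField.adjoin (ZMod p) {(ζ : K)} with hE
      have hd : N ∣ Module.finrank (ZMod p) E := by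
        rw [← hdvd, ← hζ, orderOf_dvd_iff_pow_eq_one]
        have hcard : Nat.card E = p ^ Module.finrank (ZMod p) E := by
          rw [Module.natCard_eq_pow_finrank (K := ZMod p), Nat.card_zmod]
        let z : E := ⟨(ζ : K), IntermediateField.mem_adjoin_simple_self _ _⟩
        have : Fintype E := Fintype.ofFinite E
        have hz : z ≠ 0 := fun h => ζ.ne_zero (congrArg Subtype.val h)
        have := FiniteField.pow_card_sub_one_eq_one z hz
        rw [← Nat.card_eq_fintype_card, hcard] at this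
        exact Units.ext (by simpa using congrArg Subtype.val this)
      have hle : Module.finrank (ZMod p) E ≤ N := by
        refine le_trans ?_ (GaloisField.finrank p hN0.ne').le
        exact LinearMap.finrank_le_finrank_of_injective (f := E.val.toLinearMap) Subtype.val_injective
      have hpos : 0 < Module.finrank (ZMod p) E := Module.finrank_pos
      have hEtop : E = ⊤ := IntermediateField.eq_of_le_of_finrank_eq le_top (by
        rw [IntermediateField.finrank_top', GaloisField.finrank p hN0.ne']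
        exact le_antisymm hle (Nat.le_of_dvd hpos hd))
      rw [hEtop, IntermediateField.top_toSubalgebra] at h1
      exact top_le_iff.1 h1
    by_cases h0 : S = ⊥
    · left
      rw [Submodule.eq_bot_iff]
      intro w hw
      have : e.symm w ∈ S := by simpa [S] using hw
      rw [h0, Submodule.mem_bot] at this
      simpa using congrArg e this
    · right
      obtain ⟨y, hy, hy0⟩ := Submodule.exists_mem_ne_zero_of_ne_bot h0
      refine Submodule.eq_top_iff'.2 fun w => ?_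
      have hc : e.symm w * y⁻¹ ∈ C := hCtop ▸ Algebra.mem_top
      have h := hc y hy
      rw [mul_assoc, inv_mul_cancel₀ hy0, mul_one] at h
      simpa [S] using h
  -- `H` contains conjugates of every `p`-group and of `x`
  have hsub : ∀ (r : ℕ) [Fact r.Prime], r ∈ π → ∀ T : Subgroup (GL (Fin N) (ZMod p)), IsPGroup r T →
      ∃ g, ∀ t ∈ T, g * t * g⁻¹ ∈ H := by
    intro r hr hrπ T hT
    let P : Sylow r H := default
    have hidx : ¬ r ∣ ((P : Subgroup H).map H.subtype).index := by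
      rw [index_map_subtype]
      intro hd
      rcases hr.out.dvd_mul.1 hd with h | h
      · exact P.not_dvd_index h
      · exact hH2 r hr.out hrπ h
    let Q : Sylow r (GL (Fin N) (ZMod p)) := (P.isPGroup'.map H.subtype).toSylow hidx
    obtain ⟨R, hR⟩ := hT.exists_le_sylow
    obtain ⟨g, hg⟩ := MulAction.exists_smul_eq (GL (Fin N) (ZMod p)) R Q
    refine ⟨g, fun t ht => ?_⟩
    have : g * t * g⁻¹ ∈ (Q : Subgroup (GL (Fin N) (ZMod p))) := by
      rw [← hg, Sylow.smul_def, Sylow.pointwise_smul_def]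
      exact ⟨t, hR ht, rfl⟩
    rw [IsPGroup.toSylow_coe] at this
    exact map_subtype_le _ this
  let e0 : Fin N → ZMod p := Pi.single ⟨0, hN0⟩ 1
  obtain ⟨g, hg⟩ := hsub p hpπ _ (isPGroup_tv p e0)
  have : Fact q.Prime := ⟨hq⟩
  obtain ⟨g', hg'⟩ := hsub q hqπ (zpowers x) fun y => by
    obtain ⟨k, hk⟩ := y.2
    refine ⟨b, Subtype.ext ?_⟩
    rw [SubmonoidClass.coe_pow, ← hk]
    show (x ^ k) ^ (q ^ b) = 1
    rw [← zpow_natCast (x ^ k), ← _root_.zpow_mul, mul_comm, _root_.zpow_mul, zpow_natCast, hxq, _root_.one_zpow]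
  have hirr' : ∀ W : Submodule (ZMod p) (Fin N → ZMod p),
      (∀ w ∈ W, ((g' * x * g'⁻¹ : GL (Fin N) (ZMod p)) : Matrix (Fin N) (Fin N) (ZMod p)) *ᵥ w ∈ W) →
        W = ⊥ ∨ W = ⊤ := by
    intro W hW
    let L := (Matrix.toLin' ((g' : GL (Fin N) (ZMod p)) : Matrix (Fin N) (Fin N) (ZMod p)))
    have hcancel : ∀ w, ((g'⁻¹ : GL (Fin N) (ZMod p)) : Matrix (Fin N) (Fin N) (ZMod p)) *ᵥ L w = w :=
      fun w => by
        show _ *ᵥ ((g' : Matrix (Fin N) (Fin N) (ZMod p)) *ᵥ w) = w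
        rw [mulVec_mulVec, ← Units.val_mul, inv_mul_cancel, Units.val_one, one_mulVec]
    have hcancel' : ∀ w, L (((g'⁻¹ : GL (Fin N) (ZMod p)) : Matrix (Fin N) (Fin N) (ZMod p)) *ᵥ w) = w :=
      fun w => by
        show (g' : Matrix (Fin N) (Fin N) (ZMod p)) *ᵥ _ = w
        rw [mulVec_mulVec, ← Units.val_mul, mul_inv_cancel, Units.val_one, one_mulVec]
    rcases hxirr (W.comap L) (fun w hw => by
      have h := hW _ (show L w ∈ W from hw)
      rw [Units.val_mul, Units.val_mul, ← mulVec_mulVec, hcancel, ← mulVec_mulVec] at h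
      exact h) with h | h
    · left
      refine (Submodule.eq_bot_iff _).2 fun w hw => ?_
      have h2 : ((g'⁻¹ : GL (Fin N) (ZMod p)) : Matrix (Fin N) (Fin N) (ZMod p)) *ᵥ w ∈ W.comap L := by
        rw [Submodule.mem_comap, hcancel']; exact hw
      rw [h, Submodule.mem_bot] at h2
      rw [← hcancel' w, h2, map_zero]
    · right
      refine Submodule.eq_top_iff'.2 fun w => ?_
      have h2 : ((g'⁻¹ : GL (Fin N) (ZMod p)) : Matrix (Fin N) (Fin N) (ZMod p)) *ᵥ w ∈ W.comap L :=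
        h ▸ Submodule.mem_top
      rwa [Submodule.mem_comap, hcancel'] at h2
  have hz0 : (g : Matrix (Fin N) (Fin N) (ZMod p)) *ᵥ e0 ≠ 0 := fun h => by
    have h2 := congrArg (((g⁻¹ : GL (Fin N) (ZMod p)) : Matrix (Fin N) (Fin N) (ZMod p)) *ᵥ ·) h
    simp only [mulVec_mulVec, mulVec_zero, ← Units.val_mul, inv_mul_cancel, Units.val_one, one_mulVec] at h2
    exact absurd (congrFun h2 ⟨0, hN0⟩) (by simp [e0])
  have hSL : Cfsg.Geo.specialLinear (Fin N) (ZMod p) ≤ H :=
    sl_le H _ hz0 (fun a h => by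
      rw [tv_conj]
      exact hg _ (subset_closure ⟨_, _, rfl⟩)) _ (hg' x (mem_zpowers x)) hirr'
  refine hsπ (hH1 s hs ((?_ : s ∣ Nat.card (Cfsg.Geo.specialLinear (Fin N) (ZMod p))).trans
    (card_dvd_of_le hSL)))
  rw [Cfsg.Geo.specialLinear, ← range_toGL,
    ← Nat.card_congr (MonoidHom.ofInjective (toGL_injective' (ι := Fin N) (F := ZMod p))).toEquiv]
  have hcard := card_SL_mul (F := ZMod p) N hN0
  rw [ZMod.card] at hcard
  have hps : p ≠ s := fun h => hsπ (h ▸ hpπ)
  by_cases hs1 : s ∣ p - 1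
  · have h2 : (p - 1) * (p - 1) ∣ ∏ i : Fin N, (p ^ N - p ^ (i : ℕ)) := by
      obtain ⟨k, hk⟩ : ∃ k, N = k + 2 := ⟨N - 2, by omega⟩
      have hf : ∀ i : Fin N, p - 1 ∣ p ^ N - p ^ (i : ℕ) := fun i => by
        rw [show p ^ N = p ^ (i : ℕ) * p ^ (N - (i : ℕ)) by rw [← pow_add, Nat.add_sub_cancel' i.2.le],
          ← Nat.mul_sub_one]
        exact Dvd.dvd.mul_left (by simpa using Nat.sub_dvd_pow_sub_pow p 1 (N - (i : ℕ))) _
      rw [← Finset.mul_prod_erase Finset.univ _ (Finset.mem_univ (⟨0, hN0⟩ : Fin N))]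
      exact Nat.mul_dvd_mul (hf _) ((hf ⟨1, by omega⟩).trans (Finset.dvd_prod_of_mem
        (fun i : Fin N => p ^ N - p ^ (i : ℕ)) (by simp [Fin.ext_iff])))
    rw [← hcard] at h2
    exact hs1.trans (Nat.dvd_of_mul_dvd_mul_left (by have := hp.two_le; omega) h2)
  · refine ((hs.dvd_mul).1 ?_).resolve_left hs1
    rw [hcard]
    refine dvd_trans ?_ (Finset.dvd_prod_of_mem _ (Finset.mem_univ (⟨N - (s - 1), by have := hs.two_le; omega⟩ : Fin N)))
    simp only
    rw [show p ^ N = p ^ (N - (s - 1)) * p ^ (s - 1) by rw [← pow_add]; congr 1; omega, ← Nat.mul_sub_one]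
    refine Dvd.dvd.mul_left ((Nat.modEq_iff_dvd' (Nat.one_le_pow _ _ hp.pos)).1 (Nat.ModEq.symm ?_)) _
    have h := Nat.ModEq.pow_totient ((Nat.coprime_primes hp hs).2 hps)
    rwa [Nat.totient_prime hs] at h

/-- For a set of primes π the following are equivalent: every finite group has a Hall π-subgroup; in every finite group the maximal π-subgroups are pairwise conjugate; π contains at most one prime or contains every prime. -/
theorem result (π : Set ℕ) :
    ((∀ (G : Type) [Group G] [Finite G], Cfsg.IsEPiGroup π G) ↔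
      ((∀ p q : ℕ, p.Prime → q.Prime → p ∈ π → q ∈ π → p = q) ∨ ∀ p : ℕ, p.Prime → p ∈ π)) ∧
    ((∀ (G : Type) [Group G] [Finite G], Cfsg.IsDPiGroup π G) ↔
      ((∀ p q : ℕ, p.Prime → q.Prime → p ∈ π → q ∈ π → p = q) ∨ ∀ p : ℕ, p.Prime → p ∈ π)) := by
  have key : (∀ (G : Type) [Group G] [Finite G], Cfsg.IsEPiGroup π G) →
      ((∀ p q : ℕ, p.Prime → q.Prime → p ∈ π → q ∈ π → p = q) ∨ ∀ p : ℕ, p.Prime → p ∈ π) := by
    intro h
    by_contra hcon
    push Not at hcon
    obtain ⟨⟨p, q, hp, hq, hpπ, hqπ, hpq⟩, s, hs, hsπ⟩ := hcon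
    obtain ⟨G, _, _, hG⟩ := exists_not_ePi π hp hq hs hpπ hqπ hsπ hpq
    exact hG (h G)
  refine ⟨⟨key, fun h G _ _ => ePi_of_dPi π G (dPi_of_trivial π h G)⟩,
    ⟨fun h => key fun G _ _ => ePi_of_dPi π G (h G), fun h G _ _ => dPi_of_trivial π h G⟩⟩

end Cfsg.Agent.S3878
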