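import Cfsg.Statements.S3880
import Cfsg.Agent.Lib.PGroup.Metacyclic
-- import your own Cfsg.Agent.* helpers here

set_option autoImplicit false
open Cfsg

namespace Cfsg.Agent.S3880

open Cfsg.Lib.PGroup.Metacyclic

theorem maximal_iff {G : Type*} [Group G] [Finite G] {p : ℕ} [Fact p.Prime] (hp : p ≠ 2) (hG : IsPGroup p G)
    (P : Pres p G) (L : Subgroup G) :
    Maximal (fun K : Subgroup G => IsMulCommutative ↥K) L ↔ Nat.card L = (commutator G).index := by
  constructor
  · intro hL
    have hZ : Subgroup.center G ≤ L := by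
      have hsup : IsMulCommutative ↥(L ⊔ Subgroup.center G) := by
        refine (P.isMulCommutative_iff hp _).mpr ?_
        have himg : P.img hp (L ⊔ Subgroup.center G) = P.img hp L := by
          refine le_antisymm ?_ fun v ⟨g, hg, e⟩ => ⟨g, le_sup_left (α := Subgroup G) hg, e⟩
          rintro _ ⟨g, hg, rfl⟩
          obtain ⟨x, hx, z, hz, rfl⟩ := Subgroup.mem_sup_of_normal_right.mp hg
          exact ⟨x, hx, by rw [P.tau_mul, (P.mem_center_iff' z).mp hz, smul_zero, add_zero]⟩
        rw [himg]
        exact (P.isMulCommutative_iff hp L).mp hL.1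
      exact le_sup_right.trans (hL.2 hsup le_sup_left)
    have hperp : P.perp (P.img hp L) ≤ P.img hp L := by
      intro v hv
      obtain ⟨g, hg⟩ : ∃ g, P.tau g = v := P.tau_surjective hp v
      have hgc : g ∈ Subgroup.centralizer (L : Set G) := fun h hh =>
        ((P.commute_iff h g).mpr (hg ▸ hv _ ⟨h, hh, rfl⟩)).eq
      have hsup : IsMulCommutative ↥(L ⊔ Subgroup.zpowers g) := by
        rw [← Subgroup.closure_eq L, Subgroup.zpowers_eq_closure, ← Subgroup.closure_union]
        refine Subgroup.isMulCommutative_closure ?_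
        rintro x (hx | hx) y (hy | hy)
        · exact congrArg Subtype.val (hL.1.is_comm.comm (⟨x, hx⟩ : L) ⟨y, hy⟩)
        · rw [Set.mem_singleton_iff.mp hy]; exact hgc x hx
        · rw [Set.mem_singleton_iff.mp hx]; exact (hgc y hy).symm
        · rw [Set.mem_singleton_iff.mp hy, Set.mem_singleton_iff.mp hx]
      exact ⟨g, hL.2 hsup le_sup_left (le_sup_right (α := Subgroup G) (Subgroup.mem_zpowers g)), hg⟩
    have heq : P.perp (P.img hp L) = P.img hp L := le_antisymm hperp ((P.isMulCommutative_iff hp L).mp hL.1)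
    rw [P.card_of_center_le hp hZ, P.index_commutator hp]
    congr 1
    have h := P.card_perp (P.img hp L)
    rw [heq] at h
    exact Nat.mul_self_inj.mp h
  · intro hL
    refine ⟨(P.comm_iff_card_le hp hG L).mpr hL.le, fun K hK hLK => ?_⟩
    exact (Subgroup.eq_of_le_of_card_ge hLK (hL ▸ (P.comm_iff_card_le hp hG K).mp hK)).ge


/-- Let p be an odd prime and G a finite metacyclic p-group (G has a cyclic normal subgroup with cyclic quotient). Then a subgroup L of G is abelian if and only if |L| ≤ |G : G'|, and L is a maximal abelian subgroup of G if and only if |L| = |G : G'|. -/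
theorem result {G : Type*} [Group G] [Finite G] {p : ℕ} [Fact p.Prime] (hp : p ≠ 2) (hG : IsPGroup p G) (hmc : Cfsg.IsMetacyclic G) (L : Subgroup G) :
    (IsMulCommutative ↥L ↔ Nat.card ↥L ≤ (commutator G).index) ∧
      (Maximal (fun K : Subgroup G => IsMulCommutative ↥K) L ↔ Nat.card ↥L = (commutator G).index) := by
  obtain ⟨P⟩ := Cfsg.Lib.PGroup.Metacyclic.nonempty_pres hp hG hmc
  exact ⟨P.comm_iff_card_le hp hG L, maximal_iff hp hG P L⟩

end Cfsg.Agent.S3880
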