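import Cfsg.Statements.S3881
import Cfsg.Agent.Lib.PGroup.Metacyclic
-- import your own Cfsg.Agent.* helpers here

set_option autoImplicit false
open Cfsg

namespace Cfsg.Agent.S3881

open Cfsg.Lib.PGroup.Metacyclic

theorem card_torsion {p : ℕ} [hp : Fact p.Prime] {n i : ℕ} (hi : i ≤ n) :
    Nat.card {v : ZMod (p ^ n) × ZMod (p ^ n) // (p ^ i) • v = 0} = p ^ (2 * i) := by
  classical
  have key : Nat.card {x : ZMod (p ^ n) // (p ^ i) • x = 0} = p ^ i := by
    have hpn : p ^ n = p ^ (n - i) * p ^ i := by rw [← pow_add, Nat.sub_add_cancel hi]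
    haveI : NeZero (p ^ n) := ⟨pow_ne_zero _ hp.out.ne_zero⟩
    let f : Fin (p ^ i) → {x : ZMod (p ^ n) // (p ^ i) • x = 0} := fun j =>
      ⟨((p ^ (n - i) * j.val : ℕ) : ZMod (p ^ n)), by
        rw [nsmul_eq_mul, ← Nat.cast_mul, ZMod.natCast_eq_zero_iff, hpn]
        exact ⟨j.val, by ring⟩⟩
    have hf : Function.Bijective f := by
      constructor
      · intro a b hab
        have h1 := congrArg ZMod.val (congrArg Subtype.val hab)
        simp only [f, ZMod.val_natCast] at h1
        rw [Nat.mod_eq_of_lt (hpn ▸ Nat.mul_lt_mul_of_pos_left a.2 (pow_pos hp.out.pos _)),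
          Nat.mod_eq_of_lt (hpn ▸ Nat.mul_lt_mul_of_pos_left b.2 (pow_pos hp.out.pos _))] at h1
        exact Fin.ext (Nat.eq_of_mul_eq_mul_left (pow_pos hp.out.pos _) h1)
      · rintro ⟨x, hx⟩
        rw [nsmul_eq_mul, ← ZMod.natCast_zmod_val x, ← Nat.cast_mul, ZMod.natCast_eq_zero_iff] at hx
        have h2 : p ^ i * p ^ (n - i) ∣ p ^ i * x.val := by
          rw [← pow_add, Nat.add_sub_cancel' hi]; exact hx
        obtain ⟨c, hc⟩ := Nat.dvd_of_mul_dvd_mul_left (pow_pos hp.out.pos _) h2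
        refine ⟨⟨c, ?_⟩, Subtype.ext (by show ((p ^ (n - i) * c : ℕ) : ZMod (p ^ n)) = x; rw [← hc, ZMod.natCast_zmod_val])⟩
        have := x.val_lt
        rw [hc] at this
        exact Nat.lt_of_mul_lt_mul_left (this.trans_eq hpn)
    rw [← Nat.card_eq_of_bijective f hf, Nat.card_fin]
  rw [two_mul, pow_add]
  conv_rhs => rw [← key]
  rw [← Nat.card_prod]
  exact Nat.card_congr
    { toFun := fun v => (⟨v.1.1, by simpa using congrArg Prod.fst v.2⟩, ⟨v.1.2, by simpa using congrArg Prod.snd v.2⟩)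
      invFun := fun v => ⟨(v.1.1, v.2.1), Prod.ext (by simpa using v.1.2) (by simpa using v.2.2)⟩
      left_inv := fun v => rfl
      right_inv := fun v => rfl }

theorem card_pre {G : Type*} [Group G] [Finite G] {p : ℕ} [Fact p.Prime] (hp : p ≠ 2) (P : Pres p G)
    (S : P.V → Prop) :
    Nat.card {g : G // S (P.tau g)} = Nat.card (Subgroup.center G) * Nat.card {v : P.V // S v} := by
  obtain ⟨s, hs⟩ := (P.tau_surjective hp).hasRightInverse
  rw [← Nat.card_prod]
  refine Nat.card_congr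
    { toFun := fun g => (⟨(s (P.tau g.1))⁻¹ * g.1, (P.tau_eq_iff _ _).mp (hs _)⟩, ⟨P.tau g.1, g.2⟩)
      invFun := fun x => ⟨s x.2.1 * x.1.1, ?_⟩
      left_inv := fun g => Subtype.ext (mul_inv_cancel_left _ _)
      right_inv := fun x => ?_ }
  · rw [P.tau_mul, hs, (P.mem_center_iff' _).mp x.1.2, smul_zero, add_zero]; exact x.2.2
  · have e : P.tau (s x.2.1 * x.1.1) = x.2.1 := by
      rw [P.tau_mul, hs, (P.mem_center_iff' _).mp x.1.2, smul_zero, add_zero]
    refine Prod.ext (Subtype.ext ?_) (Subtype.ext e)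
    simp only [e, inv_mul_cancel_left]


/-- Let p be an odd prime and G a finite metacyclic p-group (G has a cyclic normal subgroup with cyclic quotient). Suppose G is non-abelian with |G'| = p^n. Then for 1 ≤ i ≤ n the number of elements of G whose conjugacy class has exactly p^i elements is |Z(G)| · (p^(2i) − p^(2i−2)). -/
theorem result {G : Type*} [Group G] [Finite G] {p : ℕ} [Fact p.Prime] (hp : p ≠ 2) (hG : IsPGroup p G) (hmc : Cfsg.IsMetacyclic G) (n : ℕ) (hn : n ≠ 0) (hGn : Nat.card ↥(commutator G) = p ^ n) (i : ℕ) (hi : 1 ≤ i) (hin : i ≤ n) :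
    Nat.card {g : G // (Subgroup.centralizer ({g} : Set G)).index = p ^ i} =
      Nat.card ↥(Subgroup.center G) * (p ^ (2 * i) - p ^ (2 * i - 2)) := by
  obtain ⟨P⟩ := Cfsg.Lib.PGroup.Metacyclic.nonempty_pres hp hG hmc
  have hpp : p.Prime := Fact.out
  obtain rfl : n = P.n := Nat.pow_right_injective hpp.two_le (hGn.symm.trans P.card_commutator)
  classical
  have e : Nat.card {g : G // (Subgroup.centralizer ({g} : Set G)).index = p ^ i} =
      Nat.card {g : G // addOrderOf (P.tau g) = p ^ i} :=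
    Nat.card_congr (Equiv.subtypeEquivRight fun g => by rw [P.centralizer_index hp])
  rw [e, card_pre hp P (fun v => addOrderOf v = p ^ i)]
  congr 1
  have hiff : ∀ v : P.V, addOrderOf v = p ^ i ↔ p ^ i • v = 0 ∧ ¬ p ^ (i - 1) • v = 0 := fun v => by
    rw [← addOrderOf_dvd_iff_nsmul_eq_zero, ← addOrderOf_dvd_iff_nsmul_eq_zero]
    constructor
    · intro h
      rw [h]
      refine ⟨dvd_rfl, fun hd => ?_⟩
      have := (Nat.pow_dvd_pow_iff_le_right hpp.one_lt).mp hd
      omega
    · rintro ⟨h1, h2⟩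
      obtain ⟨j, hj, hj'⟩ := (Nat.dvd_prime_pow hpp).mp h1
      rw [hj'] at h2 ⊢
      congr 1
      by_contra hne
      exact h2 (pow_dvd_pow p (by omega))
  rw [Nat.card_congr (Equiv.subtypeEquivRight hiff), ← card_torsion (p := p) hin, show 2 * i - 2 = 2 * (i - 1) by omega,
    ← card_torsion (p := p) (show i - 1 ≤ P.n by omega)]
  simp only [Nat.card_eq_fintype_card, Fintype.card_subtype]
  rw [← Finset.card_sdiff_of_subset]
  · congr 1
    ext v
    simp
  · intro v hv
    simp only [Finset.mem_filter, Finset.mem_univ, true_and] at hv ⊢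
    obtain ⟨c, hc⟩ := pow_dvd_pow p (Nat.sub_le i 1)
    rw [hc, mul_comm, mul_smul, hv, smul_zero]

end Cfsg.Agent.S3881
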