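import Cfsg.Statements.S3882
import Cfsg.Agent.Lib.PGroup.Metacyclic
-- import your own Cfsg.Agent.* helpers here

set_option autoImplicit false
open Cfsg

namespace Cfsg.Agent.S3882

open Cfsg.Lib.PGroup.Metacyclic

theorem mem_closure_iff {G : Type*} [Group G] [Finite G] {p : ℕ} [Fact p.Prime] (hp : p ≠ 2)
    (P : Pres p G) {s : ℕ} (hs : s ≤ P.n) (g : G) :
    g ∈ Subgroup.closure {x : G | ∃ y : G, y ^ p ^ s = x} ↔
      (Subgroup.centralizer ({g} : Set G)).index ∣ p ^ (P.n - s) := by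
  rw [P.closure_pow hp hs, P.mem_pre, P.centralizer_index hp, addOrderOf_dvd_iff_nsmul_eq_zero,
    ← Nat.cast_smul_eq_nsmul P.R, P.mem_mulSub]
  set v := P.tau g
  constructor
  · rintro ⟨x, hx⟩
    rw [← hx, smul_smul, ← Nat.cast_mul, ← pow_add, Nat.sub_add_cancel hs, ZMod.natCast_self, zero_smul]
  · intro h
    have key : ∀ a : P.R, ((p ^ (P.n - s) : ℕ) : P.R) * a = 0 → ∃ b : P.R, ((p ^ s : ℕ) : P.R) * b = a := by
      intro a ha
      rw [← ZMod.natCast_zmod_val a, ← Nat.cast_mul, ZMod.natCast_eq_zero_iff] at ha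
      have h2 : p ^ (P.n - s) * p ^ s ∣ p ^ (P.n - s) * a.val := by
        rw [← pow_add, Nat.sub_add_cancel hs]; exact ha
      obtain ⟨c, hc⟩ := Nat.dvd_of_mul_dvd_mul_left (pow_pos (Fact.out : p.Prime).pos _) h2
      exact ⟨(c : P.R), by rw [← Nat.cast_mul, ← hc, ZMod.natCast_zmod_val]⟩
    obtain ⟨b1, h1⟩ := key v.1 (by simpa using congrArg Prod.fst h)
    obtain ⟨b2, h2⟩ := key v.2 (by simpa using congrArg Prod.snd h)
    exact ⟨(b1, b2), Prod.ext (by simpa using h1) (by simpa using h2)⟩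


/-- Let p be an odd prime and G a finite metacyclic p-group (G has a cyclic normal subgroup with cyclic quotient). Suppose |G'| = p^n and 0 ≤ s ≤ n. Then an element g lies in the subgroup generated by the p^s-th powers if and only if its conjugacy class has at most p^(n−s) elements; in particular the subgroup generated by the p^n-th powers is the center of G. -/
theorem result {G : Type*} [Group G] [Finite G] {p : ℕ} [Fact p.Prime] (hp : p ≠ 2) (hG : IsPGroup p G) (hmc : Cfsg.IsMetacyclic G) (n : ℕ) (hGn : Nat.card ↥(commutator G) = p ^ n) (s : ℕ) (hs : s ≤ n) (g : G) :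
    (g ∈ Subgroup.closure {x : G | ∃ y : G, y ^ p ^ s = x} ↔ (Subgroup.centralizer ({g} : Set G)).index ≤ p ^ (n - s)) ∧
      Subgroup.closure {x : G | ∃ y : G, y ^ p ^ n = x} = Subgroup.center G := by
  obtain ⟨P⟩ := Cfsg.Lib.PGroup.Metacyclic.nonempty_pres hp hG hmc
  obtain rfl : n = P.n := Nat.pow_right_injective (Fact.out : p.Prime).two_le (hGn.symm.trans P.card_commutator)
  refine ⟨?_, ?_⟩
  · rw [mem_closure_iff hp P hs g]
    obtain ⟨j, hj⟩ := hG.index (Subgroup.centralizer ({g} : Set G))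
    rw [hj]
    refine ⟨fun h => Nat.le_of_dvd (pow_pos (Fact.out : p.Prime).pos _) h, fun h => ?_⟩
    exact pow_dvd_pow p ((Nat.pow_le_pow_iff_right (Fact.out : p.Prime).one_lt).mp h)
  · rw [P.closure_pow hp le_rfl]
    ext x
    rw [P.mem_pre, P.mem_center_iff', P.mem_mulSub, ZMod.natCast_self]
    simp [eq_comm]

end Cfsg.Agent.S3882
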