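import Cfsg.Statements.S3883
import Cfsg.Agent.Lib.PGroup.Metacyclic
import Cfsg.Agent.Lib.PGroup.Basic
-- import your own Cfsg.Agent.* helpers here

set_option autoImplicit false
open Cfsg

namespace Cfsg.Agent.S3883

open Cfsg.Lib.PGroup.Metacyclic
open scoped commutatorElement


/-- Let p be an odd prime and G a finite metacyclic p-group (G has a cyclic normal subgroup with cyclic quotient). Suppose G is non-abelian. Then an element g of G lies outside the Frattini subgroup if and only if its centralizer C_G(g) is abelian. -/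
theorem result {G : Type*} [Group G] [Finite G] {p : ℕ} [Fact p.Prime] (hp : p ≠ 2) (hG : IsPGroup p G) (hmc : Cfsg.IsMetacyclic G) (hna : ¬ IsMulCommutative G) (g : G) :
    g ∉ frattini G ↔ IsMulCommutative ↥(Subgroup.centralizer ({g} : Set G)) := by
  obtain ⟨P⟩ := Cfsg.Lib.PGroup.Metacyclic.nonempty_pres hp hG hmc
  have hpp : p.Prime := Fact.out
  have hn : 1 ≤ P.n := by
    by_contra h0
    refine hna ⟨⟨fun x y => ?_⟩⟩
    have hbot : commutator G = ⊥ := Subgroup.eq_bot_of_card_eq _ (by rw [P.card_commutator, show P.n = 0 by omega, pow_zero])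
    refine commutatorElement_eq_one_iff_mul_comm.mp (Subgroup.mem_bot.mp (hbot ▸ ?_))
    exact Subgroup.commutator_mem_commutator (Subgroup.mem_top x) (Subgroup.mem_top y)
  have hΦ : frattini G = P.pre (P.mulSub 1) := by
    have : (P.pre (P.mulSub 1)).Normal := by
      rw [← P.closure_pow hp hn]
      refine ⟨fun x hx c => ?_⟩
      induction hx using Subgroup.closure_induction with
      | mem y hy =>
        obtain ⟨z, rfl⟩ := hy
        exact Subgroup.subset_closure ⟨c * z * c⁻¹, by rw [conj_pow]⟩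
      | one => simp
      | mul y z _ _ hy hz => simpa [mul_assoc] using Subgroup.mul_mem _ hy hz
      | inv y _ hy => simpa [mul_assoc] using Subgroup.inv_mem _ hy
    refine le_antisymm (Cfsg.Lib.PGroup.frattini_le_of_commutator_le_of_pow_mem (p := p) ?_ fun x => ?_) ?_
    · rw [_root_.commutator_def, Subgroup.commutator_le]
      intro x _ y _
      obtain ⟨j, hj⟩ := hG.index (Subgroup.centralizer ({⁅x, y⁆} : Set G))
      refine P.mem_pre.mpr (P.mem_mulSub.mpr ?_)
      -- the derived subgroup is generated by a power of `a`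
      have hw : ⁅x, y⁆ ∈ Subgroup.zpowers (P.w) := by
        have e : ⁅x, y⁆ = x * y * (y * x)⁻¹ := by simp [commutatorElement_def, mul_assoc]
        rw [e, P.rep_spec x, P.rep_spec y, comm_formula P.one_le P.conj]
        exact mul_mem (pow_mem (Subgroup.mem_zpowers _) _) (inv_mem (pow_mem (Subgroup.mem_zpowers _) _))
      obtain ⟨k, hk⟩ := (isOfFinOrder_of_finite P.w).mem_powers_iff_mem_zpowers.mpr hw
      obtain ⟨c, hc⟩ := (P.modEq.symm.dvd' : p ∣ P.r - 1)
      refine ⟨(((c * k : ℕ) : P.R), 0), ?_⟩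
      have hk' : P.a ^ ((P.r - 1) * k) = ⁅x, y⁆ := by rw [← hk, pow_mul]; rfl
      have := P.tau_base ((P.r - 1) * k) 0
      rw [pow_zero, mul_one, hk'] at this
      rw [this, hc, pow_one, geom_zero]
      ext <;> simp [mul_assoc]
    · rw [← P.closure_pow hp hn]; exact Subgroup.subset_closure ⟨x, by rw [pow_one]⟩
    · rw [← P.closure_pow hp hn, Subgroup.closure_le]
      rintro _ ⟨y, rfl⟩
      rw [pow_one]
      exact Cfsg.Lib.PGroup.pow_mem_frattini hG y
  set C := Subgroup.centralizer ({g} : Set G) with hC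
  obtain ⟨j, hj⟩ := hG.index C
  rw [P.comm_iff_card_le hp hG C]
  have hcard := C.card_mul_index
  rw [hj, P.card_group hp] at hcard
  rw [P.index_commutator hp, hΦ]
  have hmem : g ∈ P.pre (P.mulSub 1) ↔ C.index ∣ p ^ (P.n - 1) := by
    rw [P.mem_pre, P.centralizer_index hp, addOrderOf_dvd_iff_nsmul_eq_zero, ← Nat.cast_smul_eq_nsmul P.R, P.mem_mulSub]
    set v := P.tau g
    constructor
    · rintro ⟨x, hx⟩
      rw [← hx, smul_smul, ← Nat.cast_mul, ← pow_add, Nat.sub_add_cancel hn, ZMod.natCast_self, zero_smul]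
    · intro h
      have key : ∀ a : P.R, ((p ^ (P.n - 1) : ℕ) : P.R) * a = 0 → ∃ b : P.R, ((p ^ 1 : ℕ) : P.R) * b = a := by
        intro a ha
        rw [← ZMod.natCast_zmod_val a, ← Nat.cast_mul, ZMod.natCast_eq_zero_iff] at ha
        have h2 : p ^ (P.n - 1) * p ^ 1 ∣ p ^ (P.n - 1) * a.val := by
          rw [← pow_add, Nat.sub_add_cancel hn]; exact ha
        obtain ⟨c, hc⟩ := Nat.dvd_of_mul_dvd_mul_left (pow_pos hpp.pos _) h2
        exact ⟨(c : P.R), by rw [← Nat.cast_mul, ← hc, ZMod.natCast_zmod_val]⟩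
      obtain ⟨b1, h1⟩ := key v.1 (by simpa using congrArg Prod.fst h)
      obtain ⟨b2, h2⟩ := key v.2 (by simpa using congrArg Prod.snd h)
      exact ⟨(b1, b2), Prod.ext (by simpa using h1) (by simpa using h2)⟩
  rw [hmem, hj, Nat.pow_dvd_pow_iff_le_right hpp.one_lt]
  have hz := Nat.card_pos (α := Subgroup.center G)
  constructor
  · intro h
    refine Nat.le_of_mul_le_mul_right (c := p ^ j) ?_ (pow_pos hpp.pos _)
    rw [hcard]
    calc Nat.card (Subgroup.center G) * (p ^ P.n * p ^ P.n) = Nat.card (Subgroup.center G) * p ^ P.n * p ^ P.n := by ring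
      _ ≤ _ := Nat.mul_le_mul_left _ (Nat.pow_le_pow_right hpp.pos (by omega))
  · intro h hjn
    have h2 : Nat.card (Subgroup.center G) * p ^ P.n * p ^ j < Nat.card (Subgroup.center G) * p ^ P.n * p ^ P.n :=
      Nat.mul_lt_mul_of_pos_left (Nat.pow_lt_pow_right hpp.one_lt (by omega)) (Nat.mul_pos hz (pow_pos hpp.pos _))
    have := Nat.mul_le_mul_right (p ^ j) h
    rw [hcard] at this
    linarith

end Cfsg.Agent.S3883
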