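import Cfsg.Statements.S3884
import Cfsg.Agent.Lib.PGroup.Metacyclic
-- import your own Cfsg.Agent.* helpers here

set_option autoImplicit false
open Cfsg

namespace Cfsg.Agent.S3884

open Cfsg.Lib.PGroup.Metacyclic

theorem split {G : Type*} [Group G] [Finite G] {p : ℕ} [hp' : Fact p.Prime] (hp : p ≠ 2) (hG : IsPGroup p G)
    (P : Pres p G) :
    ∃ A B : Subgroup G, IsCyclic ↥A ∧ IsCyclic ↥B ∧ A ⊓ B = ⊥ ∧ Nat.card ↥A * Nat.card ↥B = Nat.card G := by
  obtain ⟨m, hm⟩ := (IsPGroup.iff_orderOf.mp hG) P.a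
  -- `t` only matters modulo `p ^ m`; take `e ≤ q` with `p ^ e ∣ t`
  obtain ⟨e, heq, u, hu, hu'⟩ : ∃ e ≤ P.q, ∃ u : ℕ, P.t = p ^ e * u ∧ (e = P.q ∨ ¬ p ∣ u) := by
    by_cases hd : p ^ P.q ∣ P.t
    · obtain ⟨u, hu⟩ := hd
      exact ⟨P.q, le_rfl, u, hu, Or.inl rfl⟩
    · have ht0 : P.t ≠ 0 := fun h => hd (h ▸ dvd_zero _)
      obtain ⟨e, u, hu, htu⟩ := Nat.exists_eq_pow_mul_and_not_dvd ht0 p hp'.out.ne_one
      refine ⟨e, ?_, u, htu, Or.inr hu⟩
      by_contra hlt
      exact hd (htu ▸ dvd_mul_of_dvd_left (pow_dvd_pow p (by omega)) u)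
  set c := p ^ (P.q - e) with hc
  have hbe : P.b ^ (c * p ^ e) = P.a ^ P.t := by
    rw [hc, ← pow_add, Nat.sub_add_cancel heq, P.pow_q]
  have hr : P.r ^ c ≡ 1 [MOD p] := by simpa using P.modEq.pow c
  obtain ⟨v, hv, hv'⟩ := geom_prime_pow hp e hr 1 hp'.out.not_dvd_one
  rw [mul_one] at hv'
  -- solve for the exponent
  obtain ⟨x, hx⟩ : ∃ x : ℕ, orderOf P.a ∣ x * v + u := by
    have hunit : IsUnit ((v : ℕ) : ZMod (p ^ m)) := by
      rw [ZMod.isUnit_iff_coprime]
      exact ((hp'.out.coprime_iff_not_dvd.mpr hv).pow_left m).symm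
    haveI : NeZero (p ^ m) := ⟨pow_ne_zero _ hp'.out.ne_zero⟩
    refine ⟨(-(u : ZMod (p ^ m)) * Ring.inverse (v : ZMod (p ^ m))).val, ?_⟩
    rw [hm, ← ZMod.natCast_eq_zero_iff]
    push_cast
    rw [ZMod.natCast_zmod_val, mul_assoc, Ring.inverse_mul_cancel _ hunit, mul_one, neg_add_cancel]
  set h := P.a ^ x * P.b ^ c with hh
  have hhe : h ^ p ^ e = 1 := by
    rw [hh, P.pow_eq, hbe, ← pow_add, hu, hv', ← orderOf_dvd_iff_pow_eq_one]
    refine hx.trans ⟨p ^ e, ?_⟩
    ring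
  have hmem : ∀ k : ℕ, h ^ k ∈ Subgroup.zpowers P.a → p ^ e ∣ k := by
    intro k hk
    rw [hh, P.pow_eq, Subgroup.mul_mem_cancel_left _ (pow_mem (Subgroup.mem_zpowers _) _)] at hk
    have := P.mem_a _ hk
    rw [show P.q = (P.q - e) + e by omega, pow_add, ← hc] at this
    exact Nat.dvd_of_mul_dvd_mul_left (pow_pos hp'.out.pos _) this
  have hho : orderOf h = p ^ e :=
    Nat.dvd_antisymm (orderOf_dvd_of_pow_eq_one hhe) (hmem _ (by rw [pow_orderOf_eq_one]; exact one_mem _))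
  rcases hu' with rfl | hu'
  · refine ⟨Subgroup.zpowers P.a, Subgroup.zpowers h, inferInstance, inferInstance, ?_, ?_⟩
    · rw [eq_bot_iff]
      rintro y ⟨hya, hyh⟩
      obtain ⟨k, rfl⟩ := (isOfFinOrder_of_finite h).mem_powers_iff_mem_zpowers.mpr hyh
      obtain ⟨d, rfl⟩ := hmem k hya
      rw [Subgroup.mem_bot]
      show h ^ (p ^ P.q * d) = 1
      rw [pow_mul, hhe, one_pow]
    · rw [Nat.card_zpowers, Nat.card_zpowers, hho, P.card_eq]
  · -- here `b` has order `p ^ (q + m - e)`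
    by_cases hem : m ≤ e
    · -- `t` is a multiple of the order of `a`: split by `b` itself
      have hb : P.b ^ p ^ P.q = 1 := by
        rw [P.pow_q, ← orderOf_dvd_iff_pow_eq_one, hm, hu]
        exact dvd_mul_of_dvd_left (pow_dvd_pow p hem) u
      have hbo : orderOf P.b = p ^ P.q :=
        Nat.dvd_antisymm (orderOf_dvd_of_pow_eq_one hb) (P.mem_a _ (by rw [pow_orderOf_eq_one]; exact one_mem _))
      refine ⟨Subgroup.zpowers P.a, Subgroup.zpowers P.b, inferInstance, inferInstance, ?_, ?_⟩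
      · rw [eq_bot_iff]
        rintro y ⟨hya, hyb⟩
        obtain ⟨k, rfl⟩ := (isOfFinOrder_of_finite P.b).mem_powers_iff_mem_zpowers.mpr hyb
        obtain ⟨d, rfl⟩ := P.mem_a k hya
        rw [Subgroup.mem_bot]
        show P.b ^ (p ^ P.q * d) = 1
        rw [pow_mul, hb, one_pow]
      · rw [Nat.card_zpowers, Nat.card_zpowers, hbo, P.card_eq]
    push Not at hem
    have hto : orderOf (P.a ^ P.t) = p ^ (m - e) := by
      rw [orderOf_pow, hm, hu]
      have hg : Nat.gcd (p ^ m) (p ^ e * u) = p ^ e := by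
        rw [show p ^ m = p ^ e * p ^ (m - e) by rw [← pow_add, Nat.add_sub_cancel' hem.le], Nat.gcd_mul_left,
          ((hp'.out.coprime_iff_not_dvd.mpr hu').pow_left (m - e)).gcd_eq_one, mul_one]
      rw [hg, Nat.pow_div hem.le hp'.out.pos]
    have hbo : orderOf P.b = p ^ (P.q + (m - e)) := by
      obtain ⟨d, hd⟩ := P.mem_a (orderOf P.b) (by rw [pow_orderOf_eq_one]; exact one_mem _)
      have h1 := orderOf_pow_of_dvd (x := P.b) (pow_ne_zero _ hp'.out.ne_zero) (⟨d, hd⟩ : p ^ P.q ∣ orderOf P.b)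
      rw [P.pow_q, hto, hd, Nat.mul_div_cancel_left _ (pow_pos hp'.out.pos _)] at h1
      rw [hd, ← h1, pow_add]
    refine ⟨Subgroup.zpowers P.b, Subgroup.zpowers h, inferInstance, inferInstance, ?_, ?_⟩
    · rw [eq_bot_iff]
      rintro y ⟨hyb, hyh⟩
      obtain ⟨k, rfl⟩ := (isOfFinOrder_of_finite h).mem_powers_iff_mem_zpowers.mpr hyh
      obtain ⟨l, hl⟩ := (isOfFinOrder_of_finite P.b).mem_powers_iff_mem_zpowers.mpr hyb
      rw [Subgroup.mem_bot]
      show h ^ k = 1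
      have hl' : P.b ^ l = P.a ^ (x * geom (P.r ^ c) k) * P.b ^ (c * k) := by
        rw [← P.pow_eq]; exact hl
      -- the exponent of `b` agrees modulo `p ^ q`
      have hk : p ^ e ∣ k := by
        have ha : P.a ^ (x * geom (P.r ^ c) k) ∈ Subgroup.zpowers (P.a ^ P.t) := by
          rcases le_total (c * k) l with hle | hle
          · obtain ⟨d, hd⟩ := Nat.exists_eq_add_of_le hle
            rw [hd, add_comm, pow_add] at hl'
            have he := mul_right_cancel hl'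
            obtain ⟨d', rfl⟩ := P.mem_a d (he ▸ pow_mem (Subgroup.mem_zpowers _) _)
            rw [← he, pow_mul, P.pow_q]
            exact pow_mem (Subgroup.mem_zpowers _) _
          · obtain ⟨d, hd⟩ := Nat.exists_eq_add_of_le hle
            rw [hd, add_comm, pow_add, ← mul_assoc] at hl'
            have he : P.a ^ (x * geom (P.r ^ c) k) * P.b ^ d = 1 := by
              conv_lhs at hl' => rw [← one_mul (P.b ^ l)]
              exact (mul_right_cancel hl').symm
            obtain ⟨d', rfl⟩ := P.mem_a d ((eq_inv_of_mul_eq_one_right he) ▸ inv_mem (pow_mem (Subgroup.mem_zpowers _) _))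
            rw [eq_inv_of_mul_eq_one_left he, pow_mul, P.pow_q]
            exact inv_mem (pow_mem (Subgroup.mem_zpowers _) _)
        obtain ⟨i, hi⟩ := (isOfFinOrder_of_finite (P.a ^ P.t)).mem_powers_iff_mem_zpowers.mpr ha
        change (P.a ^ P.t) ^ i = _ at hi
        rw [← pow_mul, pow_eq_pow_iff_modEq, hm] at hi
        have h1 : p ^ e ∣ x * geom (P.r ^ c) k :=
          ((hi.of_dvd (pow_dvd_pow p hem.le)).dvd_iff dvd_rfl).mp (dvd_mul_of_dvd_left ⟨u, hu⟩ i)
        have hxp : ¬ p ∣ x := fun hxd => by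
          refine hu' ((Nat.dvd_add_right (dvd_mul_of_dvd_left hxd v)).mp ?_)
          exact (hm ▸ dvd_pow_self p (by omega : m ≠ 0) : p ∣ orderOf P.a).trans hx
        exact (dvd_geom_iff hp hr e k).mp (((hp'.out.coprime_iff_not_dvd.mpr hxp).pow_left e).dvd_of_dvd_mul_left h1)
      obtain ⟨d, rfl⟩ := hk
      rw [pow_mul, hhe, one_pow]
    · rw [Nat.card_zpowers, Nat.card_zpowers, hho, hbo, P.card_eq, hm, ← pow_add, ← pow_add]
      congr 1
      omega


/-- Let p be an odd prime and G a finite metacyclic p-group (G has a cyclic normal subgroup with cyclic quotient). Then G is the product of two cyclic subgroups with trivial intersection: there are cyclic subgroups A and B with A ∩ B = 1 and |A| · |B| = |G|. -/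
theorem result {G : Type*} [Group G] [Finite G] {p : ℕ} [Fact p.Prime] (hp : p ≠ 2) (hG : IsPGroup p G) (hmc : Cfsg.IsMetacyclic G) : ∃ A B : Subgroup G, IsCyclic ↥A ∧ IsCyclic ↥B ∧ A ⊓ B = ⊥ ∧ Nat.card ↥A * Nat.card ↥B = Nat.card G := by
  obtain ⟨P⟩ := Cfsg.Lib.PGroup.Metacyclic.nonempty_pres hp hG hmc
  exact split hp hG P

end Cfsg.Agent.S3884
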