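import Cfsg.Statements.S3885
import Cfsg.Agent.Lib.PGroup.Metacyclic
-- import your own Cfsg.Agent.* helpers here

set_option autoImplicit false
open Cfsg

namespace Cfsg.Agent.S3885

open Cfsg.Lib.PGroup.Metacyclic


/-- Let p be an odd prime and G a finite metacyclic p-group (G has a cyclic normal subgroup with cyclic quotient). Then every abelian subgroup K of G containing the center of G is the center of its own centralizer: K = Z(C_G(K)). -/
theorem result {G : Type*} [Group G] [Finite G] {p : ℕ} [Fact p.Prime] (hp : p ≠ 2) (hG : IsPGroup p G) (hmc : Cfsg.IsMetacyclic G) (K : Subgroup G) (hK : IsMulCommutative ↥K) (hZ : Subgroup.center G ≤ K) :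
    K = Subgroup.centralizer (K : Set G) ⊓ Subgroup.centralizer (Subgroup.centralizer (K : Set G) : Set G) := by
  obtain ⟨P⟩ := Cfsg.Lib.PGroup.Metacyclic.nonempty_pres hp hG hmc
  set C := Subgroup.centralizer (K : Set G)
  have hKC : K ≤ C := fun x hx y hy => congrArg Subtype.val (hK.is_comm.comm (⟨y, hy⟩ : K) ⟨x, hx⟩)
  have hZC : Subgroup.center G ≤ Subgroup.centralizer (C : Set G) := Pres.center_le_centralizer' C
  have h2 : Subgroup.centralizer (C : Set G) = K := by
    rw [← P.pre_img hp hZC, P.img_centralizer, P.img_centralizer, P.perp_perp, P.pre_img hp hZ]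
  rw [h2]
  exact (inf_eq_right.mpr hKC).symm

end Cfsg.Agent.S3885
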