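import Cfsg.Statements.S3886
import Cfsg.Agent.S3880
import Cfsg.Agent.Lib.Core.Basic
-- import your own Cfsg.Agent.* helpers here

set_option autoImplicit false
open Cfsg

namespace Cfsg.Agent.S3886

open Cfsg.Lib.PGroup.Metacyclic

theorem card_center_eq {G : Type*} [Group G] (R : Subgroup G) :
    Nat.card (Subgroup.center R) = Nat.card (R ⊓ Subgroup.centralizer (R : Set G) : Subgroup G) := by
  rw [← Cfsg.Lib.Core.center_map_eq_inf_centralizer, Subgroup.card_map_of_injective R.subtype_injective]

theorem value {G : Type*} [Group G] [Finite G] {p : ℕ} [Fact p.Prime] (hp : p ≠ 2) (hG : IsPGroup p G)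
    (P : Pres p G) (R : Subgroup G) :
    Nat.card R * Nat.card (Subgroup.center R) ≤ (commutator G).index ^ 2 ∧
      (Nat.card R * Nat.card (Subgroup.center R) = (commutator G).index ^ 2 ↔
        (¬ IsMulCommutative R ∨ Maximal (fun K : Subgroup G => IsMulCommutative K) R)) := by
  rw [card_center_eq]
  by_cases hR : IsMulCommutative R
  · have hle : R ≤ Subgroup.centralizer (R : Set G) := fun x hx y hy =>
      congrArg Subtype.val (hR.is_comm.comm (⟨y, hy⟩ : R) ⟨x, hx⟩)
    have hcard := (P.comm_iff_card_le hp hG R).mp hR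
    rw [inf_eq_left.mpr hle, ← sq, Cfsg.Agent.S3880.maximal_iff hp hG P R]
    refine ⟨Nat.pow_le_pow_left hcard 2, ⟨fun h => Or.inr (Nat.pow_left_injective two_ne_zero h), ?_⟩⟩
    rintro (h | h)
    · exact absurd hR h
    · rw [h]
  · have hZ := P.center_le_of_not_comm hp hG hR
    have hC : Subgroup.centralizer (R : Set G) ≤ R := by
      intro g hg
      have h' : P.tau g ∈ P.perp (P.img hp R) := by rw [← P.img_centralizer]; exact ⟨g, hg, rfl⟩
      rw [← P.pre_img hp hZ]
      exact P.mem_pre.mpr (P.perp_le_of_not_comm hp hR h')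
    have heq : Nat.card R * Nat.card (Subgroup.centralizer (R : Set G)) = (commutator G).index ^ 2 := by
      rw [P.index_commutator hp, P.card_of_center_le hp hZ, mul_assoc, mul_comm (Nat.card (P.img hp R)),
        P.card_centralizer_mul hp R]
      ring
    rw [inf_eq_right.mpr hC, heq]
    exact ⟨le_rfl, iff_of_true rfl (Or.inl hR)⟩


/-- Let p be an odd prime and G a finite metacyclic p-group (G has a cyclic normal subgroup with cyclic quotient). Then the largest value of |R| · |Z(R)| over subgroups R of G is |G : G'|², and the subgroups attaining it (the centrally large subgroups) are exactly the non-abelian subgroups together with the maximal abelian subgroups of G. -/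
theorem result {G : Type*} [Group G] [Finite G] {p : ℕ} [Fact p.Prime] (hp : p ≠ 2) (hG : IsPGroup p G) (hmc : Cfsg.IsMetacyclic G) : Cfsg.maxCentralProduct G = (commutator G).index ^ 2 ∧
    ∀ R : Subgroup G, Cfsg.IsCentrallyLarge R ↔ (¬ IsMulCommutative ↥R ∨ Maximal (fun K : Subgroup G => IsMulCommutative ↥K) R) := by
  obtain ⟨P⟩ := Cfsg.Lib.PGroup.Metacyclic.nonempty_pres hp hG hmc
  have hmax : Cfsg.maxCentralProduct G = (commutator G).index ^ 2 := by
    obtain ⟨R, hR⟩ : ∃ R : Subgroup G, Maximal (fun K : Subgroup G => IsMulCommutative K) R :=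
      Set.Finite.exists_maximal (Set.toFinite {K : Subgroup G | IsMulCommutative K})
        ⟨⊥, show IsMulCommutative (⊥ : Subgroup G) from inferInstance⟩
    refine IsGreatest.csSup_eq ⟨⟨R, (value hp hG P R).2.mpr (Or.inr hR)⟩, ?_⟩
    rintro _ ⟨S, rfl⟩
    exact (value hp hG P S).1
  refine ⟨hmax, fun R => ?_⟩
  unfold Cfsg.IsCentrallyLarge
  rw [hmax]
  exact (value hp hG P R).2

end Cfsg.Agent.S3886
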