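import Cfsg.Statements.S3887
import Cfsg.Agent.Lib.PGroup.Metacyclic
-- import your own Cfsg.Agent.* helpers here

set_option autoImplicit false
open Cfsg

namespace Cfsg.Agent.S3887

open Cfsg.Lib.PGroup.Metacyclic

theorem product_eq {G : Type*} [Group G] [Finite G] {p : ℕ} [Fact p.Prime] (hp : p ≠ 2) (P : Pres p G)
    (R : Subgroup G) : Nat.card R * Nat.card (Subgroup.centralizer (R : Set G)) =
      Nat.card (R ⊓ Subgroup.center G : Subgroup G) * (Nat.card (Subgroup.center G) * (p ^ P.n * p ^ P.n)) := by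
  rw [← P.card_centralizer_mul hp R, P.card_eq_mul hp R]
  ring


/-- Let p be an odd prime and G a finite metacyclic p-group (G has a cyclic normal subgroup with cyclic quotient). Then a subgroup R of G maximizes |R| · |C_G(R)| over all subgroups of G if and only if R contains the center of G. -/
theorem result {G : Type*} [Group G] [Finite G] {p : ℕ} [Fact p.Prime] (hp : p ≠ 2) (hG : IsPGroup p G) (hmc : Cfsg.IsMetacyclic G) (R : Subgroup G) : Cfsg.IsCentralizerLarge R ↔ Subgroup.center G ≤ R := by
  obtain ⟨P⟩ := Cfsg.Lib.PGroup.Metacyclic.nonempty_pres hp hG hmc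
  have hpos : 0 < Nat.card (Subgroup.center G) * (p ^ P.n * p ^ P.n) :=
    Nat.mul_pos Nat.card_pos (Nat.mul_pos (pow_pos (Fact.out : p.Prime).pos _) (pow_pos (Fact.out : p.Prime).pos _))
  have hle : ∀ S : Subgroup G, Nat.card (S ⊓ Subgroup.center G : Subgroup G) ≤ Nat.card (Subgroup.center G) :=
    fun S => Nat.card_le_card_of_injective _ (Subgroup.inclusion_injective inf_le_right)
  have hmax : Cfsg.maxCentralizerProduct G = Nat.card (Subgroup.center G) * (Nat.card (Subgroup.center G) * (p ^ P.n * p ^ P.n)) := by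
    refine IsGreatest.csSup_eq ⟨⟨⊤, ?_⟩, ?_⟩
    · rw [product_eq hp P, top_inf_eq]
    · rintro _ ⟨S, rfl⟩
      rw [product_eq hp P]
      exact Nat.mul_le_mul_right _ (hle S)
  unfold Cfsg.IsCentralizerLarge
  rw [product_eq hp P, hmax, Nat.mul_left_inj hpos.ne']
  refine ⟨fun h => ?_, fun h => by rw [inf_eq_right.mpr h]⟩
  exact inf_eq_right.mp (Subgroup.eq_of_le_of_card_ge inf_le_right h.ge)

end Cfsg.Agent.S3887
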