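import Cfsg.Statements.S3888
import Cfsg.Agent.Lib.PGroup.Huppert
import Cfsg.Agent.S0112
import Cfsg.Agent.S0126

set_option autoImplicit false
open Cfsg

namespace Cfsg.Agent.S3888

open Subgroup
open Cfsg.Lib.PGroup
open Cfsg.Lib.PGroup.Regular
open Cfsg.Lib.PGroup.Huppert
open scoped commutatorElement

universe u0

variable {G : Type u0} [Group G] [Finite G] {p : ℕ} [Fact p.Prime]

omit [Finite G] [Fact p.Prime] in
/-- The `j`-th power of `g c` when `c ↦ g⁻¹ c g` is unipotent. -/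
theorem pow_mul_formula {g c e f : G} (hc : g⁻¹ * c * g = c * e) (he : g⁻¹ * e * g = e * f)
    (hf : g⁻¹ * f * g = f) (hce : Commute c e) (hcf : Commute c f) (hef : Commute e f) :
    ∀ j : ℕ, (g * c) ^ j = g ^ j * c ^ j * e ^ j.choose 2 * f ^ j.choose 3
  | 0 => by simp
  | j + 1 => by
    have hconjpow : ∀ (a : G) (m : ℕ), g⁻¹ * a ^ m * g = (g⁻¹ * a * g) ^ m := fun a m => by
      rw [show g⁻¹ * a * g = g⁻¹ * a * g⁻¹⁻¹ by rw [inv_inv], conj_pow, inv_inv]
    have h2 : (j + 1).choose 2 = j + j.choose 2 := by simp [Nat.choose_succ_succ]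
    have h3 : (j + 1).choose 3 = j.choose 2 + j.choose 3 := by simp [Nat.choose_succ_succ]
    rw [pow_succ, pow_mul_formula hc he hf hce hcf hef j, h2, h3, pow_succ g]
    calc g ^ j * c ^ j * e ^ j.choose 2 * f ^ j.choose 3 * (g * c)
        = g ^ j * g * ((g⁻¹ * c ^ j * g) * (g⁻¹ * e ^ j.choose 2 * g) *
            (g⁻¹ * f ^ j.choose 3 * g)) * c := by group
      _ = g ^ j * g * ((c ^ j * e ^ j) * (e ^ j.choose 2 * f ^ j.choose 2) * f ^ j.choose 3) * c := by
        rw [hconjpow, hconjpow, hconjpow, hc, he, hf, hce.mul_pow, hef.mul_pow]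
      _ = g ^ j * g * (c ^ j * c) * e ^ (j + j.choose 2) * f ^ (j.choose 2 + j.choose 3) := by
        rw [pow_add, pow_add]
        have e1 : Commute (e ^ j * (e ^ j.choose 2 * (f ^ j.choose 2 * f ^ j.choose 3))) c :=
          (hce.symm.pow_left _).mul_left ((hce.symm.pow_left _).mul_left
            ((hcf.symm.pow_left _).mul_left (hcf.symm.pow_left _)))
        simp only [mul_assoc]
        congr 3
        simpa only [mul_assoc] using e1.eq
      _ = _ := by rw [pow_succ c]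

omit [Finite G] [Fact p.Prime] in
/-- The iterated conjugate of an element when conjugation by `g` is unipotent. -/
theorem conj_pow_formula {g a e d f : G} (ha : g⁻¹ * a * g = a * e) (he : g⁻¹ * e * g = e * d)
    (hd : g⁻¹ * d * g = d * f) (hf : g⁻¹ * f * g = f) (hed : Commute e d) (hef : Commute e f)
    (hdf : Commute d f) :
    ∀ j : ℕ, (g ^ j)⁻¹ * a * g ^ j = a * e ^ j * d ^ j.choose 2 * f ^ j.choose 3
  | 0 => by simp
  | j + 1 => by
    have hconjpow : ∀ (b : G) (m : ℕ), g⁻¹ * b ^ m * g = (g⁻¹ * b * g) ^ m := fun b m => by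
      rw [show g⁻¹ * b * g = g⁻¹ * b * g⁻¹⁻¹ by rw [inv_inv], conj_pow, inv_inv]
    have h2 : (j + 1).choose 2 = j + j.choose 2 := by simp [Nat.choose_succ_succ]
    have h3 : (j + 1).choose 3 = j.choose 2 + j.choose 3 := by simp [Nat.choose_succ_succ]
    rw [h2, h3]
    calc (g ^ (j + 1))⁻¹ * a * g ^ (j + 1) = g⁻¹ * ((g ^ j)⁻¹ * a * g ^ j) * g := by
          rw [pow_succ, mul_inv_rev]; group
      _ = (g⁻¹ * a * g) * (g⁻¹ * e ^ j * g) * (g⁻¹ * d ^ j.choose 2 * g) *
            (g⁻¹ * f ^ j.choose 3 * g) := by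
        rw [conj_pow_formula ha he hd hf hed hef hdf j]; group
      _ = a * e * (e ^ j * d ^ j) * (d ^ j.choose 2 * f ^ j.choose 2) * f ^ j.choose 3 := by
        rw [hconjpow, hconjpow, hconjpow, ha, he, hd, hf, hed.mul_pow, hdf.mul_pow]
      _ = a * e ^ (j + 1) * d ^ (j + j.choose 2) * f ^ (j.choose 2 + j.choose 3) := by
        rw [pow_succ' e, pow_add, pow_add]; simp only [mul_assoc]

omit [Finite G] in
/-- An element is a power of its coprime powers. -/
theorem mem_zpowers_pow (hG : IsPGroup p G) {t : ℕ} (ht : ¬ p ∣ t) (a : G) : a ∈ zpowers (a ^ t) := by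
  obtain ⟨k, hk⟩ := IsPGroup.iff_orderOf.mp hG a
  have hco : (orderOf a).Coprime t := by
    rw [hk]
    exact Nat.Coprime.pow_left k ((Fact.out : p.Prime).coprime_iff_not_dvd.mpr ht)
  obtain ⟨s, hs⟩ := exists_pow_eq_self_of_coprime hco.symm
  exact mem_zpowers_iff.mpr ⟨(s : ℤ), by rw [zpow_natCast, hs]⟩

omit [Fact p.Prime] [Finite G] in
/-- The index of a subgroup in its product with a subgroup normalising it. -/
theorem relIndex_sup_normalized {D T : Subgroup G} (h : T ≤ normalizer (D : Set G)) :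
    D.relIndex (T ⊔ D) = D.relIndex T := by
  have hD : D ≤ normalizer (D : Set G) := le_normalizer
  haveI : (D.subgroupOf (normalizer (D : Set G))).Normal := (normal_subgroupOf_iff_le_normalizer hD).2 le_rfl
  rw [← relIndex_subgroupOf (H := D) (sup_le h hD), ← relIndex_subgroupOf (H := D) h, subgroupOf_sup h hD]
  exact relIndex_sup_right _ _

/-- The parameter can be normalised by squares. -/
theorem exists_scale {s0 : ℕ} (h : ¬ p ∣ s0) :
    ∃ μ s : ℕ, ¬ p ∣ μ ∧ (s = 1 ∨ ¬ IsSquare (s : ZMod p)) ∧ μ * μ * s0 ≡ s [MOD p] := by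
  by_cases hsq : IsSquare (s0 : ZMod p)
  · obtain ⟨r, hr⟩ := hsq
    have hs0 : (s0 : ZMod p) ≠ 0 := fun h0 => h ((ZMod.natCast_eq_zero_iff _ _).mp h0)
    have hr0 : r ≠ 0 := fun h0 => hs0 (by rw [hr, h0, mul_zero])
    refine ⟨(r⁻¹).val, 1, fun hdvd => inv_ne_zero hr0 ?_, Or.inl rfl, ?_⟩
    · rw [← ZMod.natCast_zmod_val r⁻¹, (ZMod.natCast_eq_zero_iff _ _).mpr hdvd]
    · rw [← ZMod.natCast_eq_natCast_iff]
      push_cast
      rw [ZMod.natCast_zmod_val, hr]
      field_simp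
  · exact ⟨1, s0, (Fact.out : p.Prime).not_dvd_one, Or.inr hsq, by simp [Nat.ModEq]⟩

/-- Data: a normal elementary abelian `N = ⟨w, v⟩`, its centraliser `C`, and `g ∉ C`. -/
structure Setup (p : ℕ) (G : Type u0) [Group G] where
  C : Subgroup G
  g : G
  v : G
  w : G
  hG : IsPGroup p G
  hp2 : p ≠ 2
  normal : C.Normal
  index : C.index = p
  gnot : g ∉ C
  vC : v ∈ C
  wC : w ∈ C
  vp : v ^ p = 1
  wp : w ^ p = 1
  w1 : w ≠ 1
  wcen : w ∈ center G
  vcen : ∀ c ∈ C, Commute v c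
  vg : g⁻¹ * v * g = v * w
  omega : ∀ x ∈ C, x ^ p = 1 → ∃ i j : ℕ, x = v ^ i * w ^ j

namespace Setup

variable (S : Setup p G)

omit [Finite G] [Fact p.Prime] in
theorem w_comm (x : G) : Commute S.w x := (mem_center_iff.mp S.wcen x).symm

omit [Finite G] in
theorem orderOf_w : orderOf S.w = p := orderOf_eq_prime S.wp S.w1

omit [Finite G] in
theorem gp_mem : S.g ^ p ∈ S.C := by
  haveI := S.normal
  have h := pow_card_eq_one' (x := (S.g : G ⧸ S.C))
  rw [← index_eq_card, S.index] at h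
  rwa [← QuotientGroup.eq_one_iff, QuotientGroup.mk_pow]

omit [Finite G] in
theorem w_pow_eq_one_iff (n : ℕ) : S.w ^ n = 1 ↔ p ∣ n := by
  rw [← orderOf_dvd_iff_pow_eq_one, S.orderOf_w]

omit [Finite G] in
/-- An element of the form `v^i w^j` commuting with `g` is a power of `w`. -/
theorem pow_v_eq_one {i : ℕ} (h : Commute S.g (S.v ^ i)) : S.v ^ i = 1 := by
  have h1 : S.g⁻¹ * S.v ^ i * S.g = S.v ^ i := by
    rw [mul_assoc, ← h.eq, inv_mul_cancel_left]
  have h2 : S.g⁻¹ * S.v ^ i * S.g = S.v ^ i * S.w ^ i := by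
    rw [show S.g⁻¹ * S.v ^ i * S.g = S.g⁻¹ * S.v ^ i * S.g⁻¹⁻¹ by rw [inv_inv], ← conj_pow,
      inv_inv, S.vg, (S.w_comm S.v).symm.mul_pow]
  have h3 : S.w ^ i = 1 := mul_eq_left.mp (h2.symm.trans h1)
  obtain ⟨t, rfl⟩ := (S.w_pow_eq_one_iff i).mp h3
  rw [pow_mul, S.vp, one_pow]

theorem omega_mem {x : G} (hx : x ∈ S.C) (hxp : x ^ p = 1) : ∀ c ∈ S.C, Commute x c := by
  obtain ⟨i, j, rfl⟩ := S.omega x hx hxp
  exact fun c hc => ((S.vcen c hc).pow_left i).mul_left ((S.w_comm c).pow_left j)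

theorem conj_omega {x : G} (hx : x ∈ S.C) (hxp : x ^ p = 1) :
    ∃ i : ℕ, S.g⁻¹ * x * S.g = x * S.w ^ i := by
  obtain ⟨i, j, rfl⟩ := S.omega x hx hxp
  refine ⟨i, ?_⟩
  have h2 : S.g⁻¹ * S.v ^ i * S.g = S.v ^ i * S.w ^ i := by
    rw [show S.g⁻¹ * S.v ^ i * S.g = S.g⁻¹ * S.v ^ i * S.g⁻¹⁻¹ by rw [inv_inv], ← conj_pow,
      inv_inv, S.vg, (S.w_comm S.v).symm.mul_pow]
  calc S.g⁻¹ * (S.v ^ i * S.w ^ j) * S.g = (S.g⁻¹ * S.v ^ i * S.g) * (S.g⁻¹ * S.w ^ j * S.g) := by group
    _ = S.v ^ i * S.w ^ i * S.w ^ j := by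
      rw [h2, mul_assoc S.g⁻¹ (S.w ^ j), ((S.w_comm S.g).pow_left j).eq, inv_mul_cancel_left]
    _ = _ := by rw [mul_assoc, ← pow_add, Nat.add_comm, pow_add, mul_assoc]

/-- The elements of order `p` of `C`, as a finite set, are at most `p^2`. -/
theorem omega_card : Nat.card {x : S.C // x ^ p = 1} ≤ p ^ 2 := by
  classical
  refine le_trans (Nat.card_le_card_of_surjective
    (fun ij : Fin p × Fin p => (⟨⟨S.v ^ (ij.1 : ℕ) * S.w ^ (ij.2 : ℕ),
      mul_mem (pow_mem S.vC _) (pow_mem S.wC _)⟩, Subtype.ext (by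
        show (S.v ^ (ij.1 : ℕ) * S.w ^ (ij.2 : ℕ)) ^ p = 1
        rw [((S.w_comm S.v).symm.pow_pow _ _).mul_pow, ← pow_mul, mul_comm, pow_mul, S.vp, one_pow,
          ← pow_mul, mul_comm, pow_mul, S.wp, one_pow, one_mul])⟩ : {x : S.C // x ^ p = 1})) ?_) ?_
  · rintro ⟨⟨x, hx⟩, hxp⟩
    obtain ⟨i, j, rfl⟩ := S.omega x hx (by simpa using congrArg Subtype.val hxp)
    have hpos := (Fact.out : p.Prime).pos
    refine ⟨(⟨i % p, Nat.mod_lt _ hpos⟩, ⟨j % p, Nat.mod_lt _ hpos⟩), Subtype.ext (Subtype.ext ?_)⟩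
    show S.v ^ (i % p) * S.w ^ (j % p) = _
    rw [← pow_eq_pow_mod i S.vp, ← pow_eq_pow_mod j S.wp]
  · simp [sq]

theorem isMetacyclic_C : Cfsg.IsMetacyclic ↥S.C := by
  refine metacyclic_of_central_omega S.hp2 (S.hG.to_subgroup S.C) ?_ S.omega_card
  intro x hx
  refine mem_center_iff.mpr fun c => Subtype.ext ?_
  exact (S.omega_mem x.2 (by simpa using congrArg Subtype.val hx) c c.2).eq.symm

theorem powLaw_C : PowLaw p ↥S.C :=
  powLaw_of_isCyclic_commutator S.hp2 (S.hG.to_subgroup S.C)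
    (isCyclic_commutator_of_metacyclic (S.hG.to_subgroup S.C) S.isMetacyclic_C)

theorem good_C : Good p ↥S.C := good (S.hG.to_subgroup S.C) S.powLaw_C

theorem index_U : (powSubgroup S.good_C).index ≤ p ^ 2 := by
  rw [index_powSubgroup]
  exact S.omega_card

/-- If `g^p` is not a `p`-th power in `C`, the group is metacyclic. -/
theorem metacyclic_of_not_pow (h : ¬ ∃ u ∈ S.C, S.g ^ p = u ^ p) : Cfsg.IsMetacyclic G := by
  refine metacyclic_of_index_aux S.hp2 _ G le_rfl S.hG ?_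
  set U : Subgroup G := (powSubgroup S.good_C).map S.C.subtype with hU
  have hle : U ≤ powerClosure p 1 (⊤ : Subgroup G) := by
    rintro _ ⟨_, ⟨x, rfl⟩, rfl⟩
    exact subset_closure ⟨(x : G), mem_top _, by simp⟩
  have hnot : S.g ^ p ∉ U := by
    rintro ⟨_, ⟨x, rfl⟩, hx⟩
    exact h ⟨x, x.2, by simpa using hx.symm⟩
  have hlt : U < powerClosure p 1 (⊤ : Subgroup G) := lt_of_le_of_ne hle fun he =>
    hnot (he ▸ subset_closure ⟨S.g, mem_top _, by rw [pow_one]⟩)
  have hUi : U.index ≤ p ^ 3 := by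
    rw [hU, index_map_subtype, S.index, pow_succ]
    exact Nat.mul_le_mul_right p S.index_U
  have h1 := Subgroup.relIndex_mul_index hlt.le
  have h2 : p ≤ U.relIndex (powerClosure p 1 (⊤ : Subgroup G)) := by
    obtain ⟨k, hk⟩ := (S.hG.to_subgroup (powerClosure p 1 (⊤ : Subgroup G))).index
      (U.subgroupOf (powerClosure p 1 (⊤ : Subgroup G)))
    have hk' : U.relIndex (powerClosure p 1 (⊤ : Subgroup G)) = p ^ k := hk
    rcases Nat.eq_zero_or_pos k with h0 | h0
    · rw [h0, pow_zero] at hk'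
      exact absurd (relIndex_eq_one.mp hk') (not_le_of_gt hlt)
    · rw [hk']; exact Nat.le_self_pow h0.ne' p
  have h3 := Nat.mul_le_mul_right (powerClosure p 1 (⊤ : Subgroup G)).index h2
  rw [h1] at h3
  refine Nat.le_of_mul_le_mul_left (h3.trans (hUi.trans_eq ?_)) (Fact.out : p.Prime).pos
  ring

/-- The case of a non-cyclic power subgroup: maximal class for `p = 3`. -/
theorem maximal_class {n : ℕ} (hn : Nat.card G = p ^ n) {a : G} (ha : a ∈ S.C) (hav : a ^ p = S.v)
    (hu : ∃ u ∈ S.C, S.g ^ p = u ^ p) :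
    p = 3 ∧ 2 ≤ n ∧ (⊤ : Subgroup G).lowerCentralSeries (n - 2) ≠ ⊥ := by
  haveI := S.normal
  have hp := (Fact.out : p.Prime)
  have hgood := S.good_C
  have hφC : ∀ x ∈ S.C, S.g⁻¹ * x * S.g ∈ S.C := fun x hx => by
    simpa using Normal.conj_mem (inferInstance : S.C.Normal) x hx S.g⁻¹
  set e := a⁻¹ * (S.g⁻¹ * a * S.g) with he_def
  have heC : e ∈ S.C := mul_mem (inv_mem ha) (hφC a ha)
  have hae : S.g⁻¹ * a * S.g = a * e := (mul_inv_cancel_left _ _).symm
  have hgoodmul : ∀ x ∈ S.C, ∀ y ∈ S.C, Commute (x ^ p) y → (x * y) ^ p = x ^ p * y ^ p := by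
    intro x hx y hy hxy
    simpa using congrArg Subtype.val (hgood.1 ⟨x, hx⟩ ⟨y, hy⟩ (Subtype.ext (by simpa using hxy.eq)))
  have hconjp : ∀ x : G, S.g⁻¹ * x ^ p * S.g = (S.g⁻¹ * x * S.g) ^ p := fun x => by
    rw [show S.g⁻¹ * x * S.g = S.g⁻¹ * x * S.g⁻¹⁻¹ by rw [inv_inv], conj_pow, inv_inv]
  have hep : e ^ p = S.w := by
    have h1 := hgoodmul a ha e heC (hav ▸ S.vcen e heC)
    rw [← hae, ← hconjp, hav, S.vg] at h1
    exact (mul_left_cancel h1).symm
  set d := e⁻¹ * (S.g⁻¹ * e * S.g) with hd_def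
  have hdC : d ∈ S.C := mul_mem (inv_mem heC) (hφC e heC)
  have hed : S.g⁻¹ * e * S.g = e * d := (mul_inv_cancel_left _ _).symm
  have hdp : d ^ p = 1 := by
    have h1 := hgoodmul e heC d hdC (hep ▸ S.w_comm d)
    rw [← hed, ← hconjp, hep, mul_assoc S.g⁻¹, (S.w_comm S.g).eq, inv_mul_cancel_left] at h1
    exact mul_eq_left.mp h1.symm
  obtain ⟨i, hdi⟩ := S.conj_omega hdC hdp
  have hf : S.g⁻¹ * S.w ^ i * S.g = S.w ^ i := by
    rw [mul_assoc, ((S.w_comm S.g).pow_left i).eq, inv_mul_cancel_left]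
  have hconj := conj_pow_formula hae hed hdi hf (S.omega_mem hdC hdp e heC).symm
    ((S.w_comm e).symm.pow_right i) ((S.w_comm d).symm.pow_right i) p
  -- `g^p` commutes with `a`
  obtain ⟨u, huC, hup⟩ := hu
  have hua : Commute (u ^ p) a := by
    have hlawC := S.powLaw_C
    have hGC := S.hG.to_subgroup S.C
    have h1 : Commute ((⟨a, ha⟩ : S.C) ^ p ^ 1) ⟨u, huC⟩ := by
      refine Subtype.ext ?_
      simpa [hav] using (S.vcen u huC).eq
    have h2 := (commute_iff hGC hlawC 1 _ _).mp h1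
    have h3 : Commute ((⟨u, huC⟩ : S.C) ^ p ^ 1) ⟨a, ha⟩ := by
      refine (commute_iff hGC hlawC 1 _ _).mpr ?_
      rw [show (⟨u, huC⟩ : S.C)⁻¹ * ⟨a, ha⟩⁻¹ * ⟨u, huC⟩ * ⟨a, ha⟩ =
        ((⟨a, ha⟩ : S.C)⁻¹ * ⟨u, huC⟩⁻¹ * ⟨a, ha⟩ * ⟨u, huC⟩)⁻¹ by group, inv_pow, h2, inv_one]
    exact (by simpa using congrArg Subtype.val h3.eq : u ^ p * a = a * u ^ p)
  rw [hup, mul_assoc, ← hua.eq, inv_mul_cancel_left] at hconj
  have h2dvd : d ^ p.choose 2 = 1 := by
    obtain ⟨t, ht⟩ := hp.dvd_choose_self two_ne_zero (lt_of_le_of_ne hp.two_le (Ne.symm S.hp2))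
    rw [ht, pow_mul, hdp, one_pow]
  rw [h2dvd, hep, mul_one, mul_assoc, ← pow_mul] at hconj
  have hone : S.w * S.w ^ (i * p.choose 3) = 1 := mul_eq_left.mp hconj.symm
  rw [← pow_succ', S.w_pow_eq_one_iff] at hone
  have hp3 : p = 3 := by
    by_contra hne
    have h3lt : 3 < p := by
      have := hp.two_le
      have := S.hp2
      omega
    have h3dvd := hp.dvd_choose_self (k := 3) (by omega) h3lt
    have := (Nat.dvd_add_right (Dvd.dvd.mul_left h3dvd i)).mp hone
    exact hp.one_lt.ne' (Nat.dvd_one.mp this)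
  have hi : ¬ p ∣ i := fun hdvd => by
    have := (Nat.dvd_add_right (Dvd.dvd.mul_right hdvd _)).mp hone
    exact hp.one_lt.ne' (Nat.dvd_one.mp this)
  -- the centraliser of `g` in `C`
  have hfix1 : ∀ x ∈ S.C, Commute S.g x → x ^ p = 1 → x ∈ zpowers S.w := by
    intro x hx hgx hxp
    obtain ⟨i', j', rfl⟩ := S.omega x hx hxp
    have h1 : Commute S.g (S.v ^ i') := by
      have := hgx.mul_right (((S.w_comm S.g).symm.pow_right j').inv_right)
      rwa [mul_inv_cancel_right] at this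
    rw [S.pow_v_eq_one h1, one_mul]
    exact pow_mem (mem_zpowers _) _
  have hfix2 : ∀ x ∈ S.C, Commute S.g x → x ^ p ∈ zpowers S.w → x ∈ zpowers S.w := by
    intro x hx hgx hxw
    obtain ⟨β, hβ⟩ := (mem_powers_iff_mem_zpowers (x := S.w)).mpr hxw
    have hβ' : S.w ^ β = x ^ p := hβ
    set y := x * (e ^ β)⁻¹ with hy
    have hyC : y ∈ S.C := mul_mem hx (inv_mem (pow_mem heC β))
    have hyp : y ^ p = 1 := by
      rw [hy, hgoodmul x hx _ (inv_mem (pow_mem heC β)) (hβ' ▸ (S.w_comm _).pow_left β), ← hβ',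
        inv_pow, ← pow_mul, mul_comm β p, pow_mul, hep, mul_inv_cancel]
    obtain ⟨i', hi'⟩ := S.conj_omega hyC hyp
    have hx1 : S.g⁻¹ * x * S.g = x := by rw [mul_assoc, ← hgx.eq, inv_mul_cancel_left]
    have hxy : x = y * e ^ β := by rw [hy, inv_mul_cancel_right]
    have h1 : S.g⁻¹ * x * S.g = y * S.w ^ i' * (e ^ β * d ^ β) := by
      rw [hxy, show S.g⁻¹ * (y * e ^ β) * S.g = (S.g⁻¹ * y * S.g) * (S.g⁻¹ * e ^ β * S.g) by group,
        hi', show S.g⁻¹ * e ^ β * S.g = S.g⁻¹ * e ^ β * S.g⁻¹⁻¹ by rw [inv_inv], ← conj_pow, inv_inv,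
        hed, (S.omega_mem hdC hdp e heC).symm.mul_pow]
    rw [hx1] at h1
    have h4 : S.w ^ i' * d ^ β = 1 := by
      have h5 : y * e ^ β = y * e ^ β * (S.w ^ i' * d ^ β) := by
        rw [← hxy]
        conv_lhs => rw [h1]
        rw [mul_assoc y, ← mul_assoc (S.w ^ i'), ((S.w_comm (e ^ β)).pow_left i').eq, hxy]
        simp only [mul_assoc]
      exact (mul_eq_left.mp h5.symm)
    have h6 : p ∣ β := by
      have h7 : S.g⁻¹ * d ^ β * S.g = d ^ β * S.w ^ (i * β) := by
        rw [show S.g⁻¹ * d ^ β * S.g = S.g⁻¹ * d ^ β * S.g⁻¹⁻¹ by rw [inv_inv], ← conj_pow, inv_inv,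
          hdi, ((S.w_comm d).symm.pow_right i).mul_pow, pow_mul]
      have h8 : d ^ β = (S.w ^ i')⁻¹ := eq_inv_of_mul_eq_one_right h4
      rw [h8, mul_assoc, ← (((S.w_comm S.g).symm.pow_right i').inv_right).eq, inv_mul_cancel_left]
        at h7
      have h9 := (S.w_pow_eq_one_iff (i * β)).mp (mul_eq_left.mp h7.symm)
      exact (hp.dvd_mul.mp h9).resolve_left hi
    refine hfix1 x hx hgx ?_
    obtain ⟨t, rfl⟩ := h6
    rw [← hβ', pow_mul, S.wp, one_pow]
  have hfix : ∀ x ∈ S.C, Commute S.g x → x ∈ zpowers S.w := by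
    intro x hx hgx
    obtain ⟨k, hk⟩ := IsPGroup.iff_orderOf.mp S.hG x
    have key : ∀ m, ∀ y ∈ S.C, Commute S.g y → y ^ p ^ m = 1 → y ∈ zpowers S.w := by
      intro m
      induction m with
      | zero => intro y _ _ hy; rw [pow_zero, pow_one] at hy; rw [hy]; exact one_mem _
      | succ m ihm =>
        intro y hy hgy hym
        refine hfix2 y hy hgy (ihm _ (pow_mem hy p) (hgy.pow_right p) ?_)
        rw [← pow_mul, ← pow_succ']
        exact hym
    exact key k x hx hgx (by rw [← hk, pow_orderOf_eq_one])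
  -- the self-centralising subgroup of order `p^2`
  set A := closure ({S.g, S.w} : Set G) with hA
  have hgA : S.g ∈ A := subset_closure (by simp)
  have hwA : S.w ∈ A := subset_closure (by simp)
  have hAcomm : ∀ x ∈ A, Commute S.g x := by
    intro x hx
    refine closure_induction (p := fun x _ => Commute S.g x) ?_ (Commute.one_right _)
      (fun _ _ _ _ h1 h2 => h1.mul_right h2) (fun _ _ h => h.inv_right) hx
    rintro _ (rfl | rfl)
    · exact Commute.refl _
    · exact (S.w_comm S.g).symm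
  have hAC : A ⊓ S.C = zpowers S.w := le_antisymm (fun x hx => hfix x hx.2 (hAcomm x hx.1))
    (zpowers_le.mpr ⟨hwA, S.wC⟩)
  have hrel : S.C.relIndex A = p := by
    have h1 := relIndex_dvd_index_of_normal S.C A
    rw [S.index] at h1
    refine (hp.eq_one_or_self_of_dvd _ h1).resolve_left fun h => S.gnot ?_
    exact relIndex_eq_one.mp h hgA
  have hAcard : Nat.card A = p ^ 2 := by
    have h1 := Cfsg.Lib.Core.card_mul_relIndex (inf_le_left : A ⊓ S.C ≤ A)
    rw [inf_relIndex_left, hrel, hAC, Nat.card_zpowers, S.orderOf_w] at h1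
    rw [← h1, sq]
  have hcent : centralizer (A : Set G) = A := by
    refine le_antisymm (fun x hx => ?_) ?_
    · have hgx : Commute S.g x := mem_centralizer_iff.mp hx _ hgA
      have hzt : zpowers S.g ⊔ S.C = ⊤ := by
        by_contra hne
        have h1 : S.C < zpowers S.g ⊔ S.C :=
          lt_of_le_of_ne le_sup_right fun h => S.gnot (h ▸ mem_sup_left (mem_zpowers _))
        have h2 := relIndex_mul_index h1.le
        rw [S.index] at h2
        rcases hp.eq_one_or_self_of_dvd _ (Dvd.intro _ h2) with h | h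
        · exact not_le_of_gt h1 (relIndex_eq_one.mp h)
        · rw [h] at h2
          exact hne (index_eq_one.mp (Nat.eq_of_mul_eq_mul_left hp.pos (h2.trans (mul_one p).symm)))
      obtain ⟨y, hy, c, hc, rfl⟩ := (mem_sup_of_normal_right (s := zpowers S.g) (t := S.C)).mp
        (show x ∈ zpowers S.g ⊔ S.C from hzt ▸ mem_top x)
      have hyA : y ∈ A := zpowers_le.mpr hgA hy
      refine mul_mem hyA ?_
      have hgc : Commute S.g c := by
        have := (hAcomm y hyA).inv_right.mul_right hgx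
        rwa [inv_mul_cancel_left] at this
      exact zpowers_le.mpr hwA (hfix c hc hgc)
    · intro x hx
      refine mem_centralizer_iff.mpr fun y hy => ?_
      exact congrArg Subtype.val (IsPGroup.commutative_of_card_eq_prime_sq hAcard ⟨y, hy⟩ ⟨x, hx⟩)
  have hcl := Cfsg.Agent.S0112.class_aux n G hn A hAcard hcent
  have hn2 : 2 ≤ n := by
    have := Subgroup.card_subgroup_dvd_card A
    rw [hAcard, hn] at this
    exact (Nat.pow_dvd_pow_iff_le_right hp.one_lt).mp this
  refine ⟨hp3, hn2, fun hbot => ?_⟩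
  haveI := S.hG.isNilpotent
  have := Subgroup.lowerCentralSeries_eq_bot_iff_nilpotencyClass_le.mp hbot
  by_cases h3 : n = 2
  · -- an abelian group has no element outside `C`
    subst h3
    refine S.gnot ?_
    have hvg : Commute S.g S.v :=
      IsPGroup.commutative_of_card_eq_prime_sq hn S.g S.v
    have h1 := S.vg
    rw [mul_assoc, ← hvg.eq, inv_mul_cancel_left] at h1
    exact absurd (mul_eq_left.mp h1.symm) S.w1
  · omega

/-- The conclusion of the classification, apart from the metacyclic case. -/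
def Concl (p n : ℕ) (G : Type u0) [Group G] : Prop :=
    (3 ≤ n ∧ ∃ x y z : G, Subgroup.closure ({x, y, z} : Set G) = ⊤ ∧ x ^ p = 1 ∧ y ^ p = 1 ∧ z ^ p ^ (n - 2) = 1 ∧
        x * z = z * x ∧ y * z = z * y ∧ x⁻¹ * y * x = y * z ^ p ^ (n - 3)) ∨
    (4 ≤ n ∧ ∃ (s : ℕ) (x y z : G), (s = 1 ∨ ¬ IsSquare (s : ZMod p)) ∧ Subgroup.closure ({x, y, z} : Set G) = ⊤ ∧
        x ^ p = 1 ∧ y ^ p = 1 ∧ z ^ p ^ (n - 2) = 1 ∧ y * z = z * y ∧ x⁻¹ * y * x = y * z ^ (s * p ^ (n - 3)) ∧
        x⁻¹ * z * x = y * z) ∨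
    (p = 3 ∧ 2 ≤ n ∧ (⊤ : Subgroup G).lowerCentralSeries (n - 2) ≠ ⊥)

theorem mem_of_closure {X : Set G} (hC : S.C ≤ closure X) (hx : ∃ x ∈ closure X, x ∉ S.C) :
    closure X = ⊤ := by
  haveI := S.normal
  obtain ⟨x, hx1, hx2⟩ := hx
  have hlt : S.C < closure X := lt_of_le_of_ne hC fun h => hx2 (h ▸ hx1)
  have h2 := relIndex_mul_index hlt.le
  rw [S.index] at h2
  rcases (Fact.out : p.Prime).eq_one_or_self_of_dvd _ (Dvd.intro _ h2) with h | h
  · exact absurd (relIndex_eq_one.mp h) (not_le_of_gt hlt)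
  · rw [h] at h2
    exact index_eq_one.mp (Nat.eq_of_mul_eq_mul_left (Fact.out : p.Prime).pos
      (h2.trans (mul_one p).symm))

/-- The case `C = N`. -/
theorem small_case {n : ℕ} (hn : Nat.card G = p ^ n) (hC : ∀ c ∈ S.C, c ^ p = 1) :
    Cfsg.IsMetacyclic G ∨ Concl p n G := by
  haveI := S.normal
  have hp := (Fact.out : p.Prime)
  have hCeq : S.C = closure ({S.v, S.w} : Set G) := by
    refine le_antisymm (fun c hc => ?_) ((closure_le _).mpr ?_)
    · obtain ⟨i, j, rfl⟩ := S.omega c hc (hC c hc)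
      exact mul_mem (pow_mem (subset_closure (by simp)) _) (pow_mem (subset_closure (by simp)) _)
    · rintro _ (rfl | rfl)
      exacts [S.vC, S.wC]
  have hCcard : Nat.card S.C ≤ p ^ 2 :=
    le_trans (Nat.card_le_card_of_injective (fun c : S.C => (⟨c, Subtype.ext (by
      simpa using hC c c.2)⟩ : {x : S.C // x ^ p = 1})) fun a b h => congrArg Subtype.val h) S.omega_card
  have hC2 : p ^ 2 ≤ Nat.card S.C := by
    have hlt : zpowers S.w < S.C := by
      refine lt_of_le_of_ne (zpowers_le.mpr S.wC) fun h => S.w1 ?_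
      have hv : S.v ∈ zpowers S.w := h ▸ S.vC
      have h1 : Commute S.g S.v := by
        obtain ⟨i, hi⟩ := mem_zpowers_iff.mp hv
        rw [← hi]; exact (S.w_comm S.g).symm.zpow_right i
      have h2 := S.vg
      rw [mul_assoc, ← h1.eq, inv_mul_cancel_left] at h2
      exact mul_eq_left.mp h2.symm
    have h1 : Nat.card (zpowers S.w) < Nat.card S.C :=
      lt_of_le_of_ne (card_le_of_le hlt.le) fun he => hlt.ne (eq_of_le_of_card_ge hlt.le he.ge)
    obtain ⟨k, hk⟩ := IsPGroup.iff_card.mp (S.hG.to_subgroup S.C)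
    rw [hk, Nat.card_zpowers, S.orderOf_w] at h1
    rw [hk]
    refine Nat.pow_le_pow_right hp.pos ?_
    by_contra h
    have := Nat.pow_le_pow_right hp.pos (show k ≤ 1 by omega)
    rw [pow_one] at this
    omega
  have hn3 : n = 3 := by
    refine Nat.pow_right_injective hp.two_le (show p ^ n = p ^ 3 from ?_)
    rw [← hn, ← Subgroup.card_mul_index S.C, S.index, le_antisymm hCcard hC2]
    ring
  subst hn3
  by_cases hx : ∃ x, x ∉ S.C ∧ x ^ p = 1
  · right; left
    obtain ⟨x, hxC, hxp⟩ := hx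
    have hxv : S.v⁻¹ * (x⁻¹ * S.v * x) ∈ zpowers S.w := by
      -- the centraliser of `x` in `N`
      have hx1 : x ∈ zpowers S.g ⊔ S.C := by
        have := S.mem_of_closure (X := (zpowers S.g : Set G) ∪ S.C)
          (fun c hc => subset_closure (Or.inr hc)) ⟨S.g, subset_closure (Or.inl (mem_zpowers _)), S.gnot⟩
        rw [sup_eq_closure, this]; exact mem_top x
      obtain ⟨y, hy, c, hc, rfl⟩ := (mem_sup_of_normal_right (s := zpowers S.g) (t := S.C)).mp hx1
      obtain ⟨k, hk⟩ := (mem_powers_iff_mem_zpowers (x := S.g)).mpr hy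
      have hk' : S.g ^ k = y := hk
      have key : ∀ k : ℕ, (S.g ^ k)⁻¹ * S.v * S.g ^ k = S.v * S.w ^ k := by
        intro k
        induction k with
        | zero => simp
        | succ k ih =>
          rw [pow_succ, mul_inv_rev, show S.g⁻¹ * (S.g ^ k)⁻¹ * S.v * (S.g ^ k * S.g) =
            S.g⁻¹ * ((S.g ^ k)⁻¹ * S.v * S.g ^ k) * S.g by group, ih,
            show S.g⁻¹ * (S.v * S.w ^ k) * S.g = (S.g⁻¹ * S.v * S.g) * (S.g⁻¹ * S.w ^ k * S.g) by group,
            S.vg, mul_assoc S.g⁻¹, ((S.w_comm S.g).pow_left k).eq, inv_mul_cancel_left, mul_assoc,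
            pow_succ']
      have : (y * c)⁻¹ * S.v * (y * c) = S.v * S.w ^ k := by
        rw [← hk', show (S.g ^ k * c)⁻¹ * S.v * (S.g ^ k * c) =
          c⁻¹ * ((S.g ^ k)⁻¹ * S.v * S.g ^ k) * c by group, key, mul_assoc,
          ((S.vcen c hc).mul_left ((S.w_comm c).pow_left k)).eq, inv_mul_cancel_left]
      rw [this, inv_mul_cancel_left]
      exact pow_mem (mem_zpowers _) _
    set z := S.v⁻¹ * (x⁻¹ * S.v * x) with hz
    have hvz : x⁻¹ * S.v * x = S.v * z := (mul_inv_cancel_left _ _).symm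
    have hz1 : z ≠ 1 := by
      intro h1
      refine hxC ?_
      -- `x` would centralise `N`
      rw [h1, mul_one] at hvz
      have hxv' : Commute x S.v := by
        show x * S.v = S.v * x
        conv_lhs => rw [← hvz]
        group
      by_contra
      have htop := S.mem_of_closure (X := ({x} : Set G) ∪ S.C) (fun c hc => subset_closure (Or.inr hc))
        ⟨x, subset_closure (Or.inl rfl), hxC⟩
      have hall : ∀ t : G, Commute t S.v := by
        intro t
        refine closure_induction (p := fun t _ => Commute t S.v) ?_ (Commute.one_left _)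
          (fun _ _ _ _ a b => a.mul_left b) (fun _ _ a => a.inv_left) (htop ▸ mem_top t :
            t ∈ closure (({x} : Set G) ∪ S.C))
        rintro t (rfl | ht)
        exacts [hxv', (S.vcen t ht).symm]
      have h2 := S.vg
      rw [mul_assoc, ← (hall S.g).eq, inv_mul_cancel_left] at h2
      exact S.w1 (mul_eq_left.mp h2.symm)
    have hzc : z ∈ center G := zpowers_le.mpr S.wcen hxv
    refine ⟨le_rfl, x, S.v, z, ?_, hxp, S.vp, ?_, (mem_center_iff.mp hzc x),
      (mem_center_iff.mp hzc S.v), ?_⟩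
    · refine S.mem_of_closure ?_ ⟨x, subset_closure (by simp), hxC⟩
      rw [hCeq, closure_le]
      rintro _ (rfl | rfl)
      · exact subset_closure (by simp)
      · refine zpowers_le.mpr (subset_closure (by simp) : z ∈ closure ({x, S.v, z} : Set G)) ?_
        have hzw : zpowers z = zpowers S.w := by
          refine eq_of_le_of_card_ge (zpowers_le.mpr hxv) (le_of_eq ?_)
          rw [Nat.card_zpowers, Nat.card_zpowers, S.orderOf_w]
          refine (orderOf_eq_prime ?_ hz1).symm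
          obtain ⟨t, ht⟩ := mem_zpowers_iff.mp hxv
          rw [← ht, ← zpow_natCast, ← zpow_mul, mul_comm, zpow_mul, zpow_natCast, S.wp, one_zpow]
        rw [hzw]; exact mem_zpowers _
    · obtain ⟨t, ht⟩ := mem_zpowers_iff.mp hxv
      rw [show (3 : ℕ) - 2 = 1 from rfl, pow_one, ← ht, ← zpow_natCast, ← zpow_mul, mul_comm, zpow_mul,
        zpow_natCast, S.wp, one_zpow]
    · rw [Nat.sub_self, pow_zero, pow_one]; exact hvz
  · left
    push Not at hx
    have hgp : S.g ^ p ≠ 1 := hx S.g S.gnot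
    have hord : orderOf S.g = p ^ 2 := by
      refine orderOf_eq_prime_pow (n := 1) (by rw [pow_one]; exact hgp) ?_
      rw [sq, pow_mul]
      exact hC _ S.gp_mem
    have hidx : (zpowers S.g).index = p := by
      have h1 := Subgroup.card_mul_index (zpowers S.g)
      rw [Nat.card_zpowers, hord, hn] at h1
      exact Nat.eq_of_mul_eq_mul_left (pow_pos hp.pos 2) (h1.trans (by ring))
    haveI : (zpowers S.g).Normal := normal_of_index_eq_minFac_card (by
      rw [hidx, hn, Nat.Prime.pow_minFac hp (by norm_num)])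
    exact ⟨zpowers S.g, inferInstance, inferInstance,
      isCyclic_of_prime_card (p := p) (by rw [← index_eq_card, hidx])⟩

/-- The abelian case `C = ⟨c⟩ × ⟨v⟩`. -/
theorem abelian_case {n : ℕ} (hn : Nat.card G = p ^ n) (hcap : ∀ a ∈ S.C, (a ^ p) ^ p = 1 → a ^ p ∈ zpowers S.w)
    (hbig : ∃ c ∈ S.C, c ^ p ≠ 1) : Cfsg.IsMetacyclic G ∨ Concl p n G := by
  haveI := S.normal
  have hp := (Fact.out : p.Prime)
  have hgood := S.good_C
  set U := powSubgroup hgood with hUdef
  have hUcyc : IsCyclic ↥U := by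
    by_contra hnc
    obtain ⟨E, hEU, hE, hEc⟩ :=
      Noncyclic.exists_elemAb_sq S.hp2 (S.hG.to_subgroup S.C) U hnc
    have hEw : E.map S.C.subtype ≤ zpowers S.w := by
      rintro _ ⟨x, hx, rfl⟩
      obtain ⟨a, rfl⟩ := hEU hx
      have h1 : ((a ^ p : S.C) : G) ^ p = 1 := by simpa using congrArg Subtype.val (hE.2 _ hx)
      simpa using hcap a a.2 (by simpa using h1)
    have := card_le_of_le hEw
    rw [card_map_of_injective S.C.subtype_injective, hEc, Nat.card_zpowers, S.orderOf_w] at this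
    have := lt_self_pow₀ hp.one_lt (show 1 < 2 by norm_num)
    omega
  obtain ⟨⟨u', cc, rfl⟩, hgen⟩ := hUcyc.exists_generator
  set c : G := (cc : G) with hcdef
  have hcC : c ∈ S.C := cc.2
  have hpowU : ∀ a ∈ S.C, a ^ p ∈ zpowers (c ^ p) := by
    intro a ha
    obtain ⟨k, hk⟩ := mem_zpowers_iff.mp (hgen ⟨(⟨a, ha⟩ : S.C) ^ p, ⟨a, ha⟩, rfl⟩)
    refine mem_zpowers_iff.mpr ⟨k, ?_⟩
    simpa [hcdef] using congrArg (fun z : ↥U => ((z : S.C) : G)) hk
  have hcp : c ^ p ≠ 1 := by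
    intro h
    obtain ⟨a, ha, hap⟩ := hbig
    have := hpowU a ha
    rw [h, zpowers_one_eq_bot, mem_bot] at this
    exact hap this
  obtain ⟨m0, hm0⟩ := IsPGroup.iff_orderOf.mp S.hG c
  have hm2 : 2 ≤ m0 := by
    by_contra h
    apply hcp
    rw [← orderOf_dvd_iff_pow_eq_one, hm0]
    interval_cases m0
    · simp
    · simp
  obtain ⟨m, rfl⟩ : ∃ m, m0 = m + 2 := ⟨m0 - 2, by omega⟩
  set q := p ^ (m + 1) with hq
  have hcq : c ^ q ≠ 1 := by
    rw [ne_eq, ← orderOf_dvd_iff_pow_eq_one, hm0, Nat.pow_dvd_pow_iff_le_right hp.one_lt]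
    omega
  have hcqp : (c ^ q) ^ p = 1 := by
    rw [← pow_mul, hq, ← pow_succ, ← orderOf_dvd_iff_pow_eq_one, hm0]
  have hcqw : c ^ q ∈ zpowers S.w := by
    have e : c ^ q = (c ^ p ^ m) ^ p := by rw [← pow_mul, hq, pow_succ]
    rw [e] at hcqp ⊢
    exact hcap _ (pow_mem hcC _) hcqp
  have hzw : zpowers (c ^ q) = zpowers S.w := by
    refine eq_of_le_of_card_ge (zpowers_le.mpr hcqw) (le_of_eq ?_)
    rw [Nat.card_zpowers, Nat.card_zpowers, S.orderOf_w, orderOf_eq_prime hcqp hcq]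
  have hwc : S.w ∈ zpowers c := by
    have : S.w ∈ zpowers (c ^ q) := hzw ▸ mem_zpowers _
    exact zpowers_le.mpr (pow_mem (mem_zpowers c) q) this
  -- `C` is the product of `⟨c⟩` and `⟨v⟩`
  set D := closure ({c, S.v} : Set G) with hD
  have hDC : D ≤ S.C := (closure_le _).mpr (by rintro _ (rfl | rfl); exacts [hcC, S.vC])
  have hDcomm : ∀ a ∈ D, ∀ b ∈ D, Commute a b := by
    have hcv : Commute c S.v := (S.vcen c hcC).symm
    haveI := isMulCommutative_closure (k := ({c, S.v} : Set G)) (by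
      rintro _ (rfl | rfl) _ (rfl | rfl)
      exacts [rfl, hcv.eq, hcv.eq.symm, rfl])
    intro a ha b hb
    exact congrArg Subtype.val (IsMulCommutative.is_comm.comm (⟨a, ha⟩ : D) ⟨b, hb⟩)
  have hCD : S.C ≤ D := by
    intro a ha
    obtain ⟨k, hk⟩ := mem_zpowers_iff.mp (hpowU a ha)
    have hck : (c ^ k)⁻¹ ∈ S.C := inv_mem (zpow_mem hcC k)
    have h1 : (a * (c ^ k)⁻¹) ^ p = 1 := by
      have := (good_E hgood ⟨a, ha⟩ ⟨c ^ k, zpow_mem hcC k⟩).mp (Subtype.ext (by
        simp only [SubmonoidClass.coe_pow]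
        rw [← hk, ← zpow_natCast c p, ← zpow_mul, mul_comm, zpow_mul, zpow_natCast]))
      simpa using congrArg Subtype.val this
    obtain ⟨i, j, hij⟩ := S.omega _ (mul_mem ha hck) h1
    have e : a = S.v ^ i * S.w ^ j * c ^ k := by rw [← hij, inv_mul_cancel_right]
    have hcD : c ∈ D := subset_closure (by simp)
    rw [e]
    exact mul_mem (mul_mem (pow_mem (subset_closure (by simp)) _)
      (pow_mem (zpowers_le.mpr hcD hwc) _)) (zpow_mem hcD k)
  have comm : ∀ a ∈ S.C, ∀ b ∈ S.C, Commute a b := fun a ha b hb => hDcomm a (hCD ha) b (hCD hb)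
  have hCcard : Nat.card S.C = p ^ (m + 3) := by
    have hcap' : zpowers S.v ⊓ zpowers c = ⊥ := by
      refine eq_bot_iff.mpr fun x hx => ?_
      obtain ⟨i, hi⟩ := (mem_powers_iff_mem_zpowers (x := S.v)).mpr hx.1
      have hi' : S.v ^ i = x := hi
      obtain ⟨k, hk⟩ := (mem_powers_iff_mem_zpowers (x := c)).mpr hx.2
      have hk' : c ^ k = x := hk
      have hxp : x ^ p = 1 := by rw [← hi', ← pow_mul, mul_comm, pow_mul, S.vp, one_pow]
      rw [← hk', ← pow_mul, ← orderOf_dvd_iff_pow_eq_one, hm0, pow_succ] at hxp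
      obtain ⟨t, rfl⟩ := (Nat.mul_dvd_mul_iff_right hp.pos).mp hxp
      have hxw : x ∈ zpowers S.w := by
        rw [← hk', pow_mul]; exact pow_mem hcqw t
      obtain ⟨l, hl⟩ := mem_zpowers_iff.mp hxw
      rw [mem_bot, ← hi']
      refine S.pow_v_eq_one ?_
      rw [hi', ← hl]; exact (S.w_comm S.g).symm.zpow_right l
    haveI hvn : ((zpowers c).subgroupOf D).Normal := ⟨fun a ha b => by
      show ((b : D) : G) * a * ((b : D) : G)⁻¹ ∈ zpowers c
      rw [(hDcomm b b.2 a a.2).eq, mul_inv_cancel_right]; exact ha⟩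
    have hCeq : S.C = D := le_antisymm hCD hDC
    have hv1 : S.v ≠ 1 := by
      intro h
      have := S.vg
      rw [h, mul_one, inv_mul_cancel, one_mul] at this
      exact S.w1 this.symm
    have hsup : zpowers S.v ⊔ zpowers c = D := by
      refine le_antisymm (sup_le (zpowers_le.mpr (subset_closure (by simp)))
        (zpowers_le.mpr (subset_closure (by simp)))) ((closure_le _).mpr ?_)
      rintro _ (rfl | rfl)
      exacts [mem_sup_right (mem_zpowers _), mem_sup_left (mem_zpowers _)]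
    have h1 := Cfsg.Lib.Core.card_mul_relIndex (show zpowers c ≤ D from hsup ▸ le_sup_right)
    have h2 : (zpowers c).relIndex D = p := by
      rw [← hsup, relIndex]
      have hn' : zpowers S.v ≤ normalizer (zpowers c : Set G) := by
        refine fun a ha => mem_normalizer_fintype fun b hb => ?_
        have hcom : Commute a b := hDcomm a (hsup ▸ mem_sup_left ha) b (hsup ▸ mem_sup_right hb)
        rw [hcom.eq, mul_inv_cancel_right]; exact hb
      rw [← relIndex, relIndex_sup_normalized hn', ← inf_relIndex_right, inf_comm, hcap',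
        relIndex_bot_left, Nat.card_zpowers, orderOf_eq_prime S.vp hv1]
    rw [hCeq, ← h1, h2, Nat.card_zpowers, hm0, ← pow_succ]
  have hn4 : n = m + 4 := by
    refine Nat.pow_right_injective hp.two_le (show p ^ n = p ^ (m + 4) from ?_)
    rw [← hn, ← Subgroup.card_mul_index S.C, S.index, hCcard, ← pow_succ]
  subst hn4
  have e2 : m + 4 - 2 = m + 2 := by omega
  have e3 : m + 4 - 3 = m + 1 := by omega
  have hφC : ∀ x ∈ S.C, S.g⁻¹ * x * S.g ∈ S.C := fun x hx => by
    simpa using Normal.conj_mem (inferInstance : S.C.Normal) x hx S.g⁻¹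
  have hφpow : ∀ (x : G) (k : ℕ), S.g⁻¹ * x ^ k * S.g = (S.g⁻¹ * x * S.g) ^ k := fun x k => by
    rw [show S.g⁻¹ * x * S.g = S.g⁻¹ * x * S.g⁻¹⁻¹ by rw [inv_inv], conj_pow, inv_inv]
  have hrep : ∀ a ∈ S.C, ∃ k l : ℕ, a = c ^ k * S.v ^ l := by
    intro a ha
    refine closure_induction (p := fun a _ => ∃ k l : ℕ, a = c ^ k * S.v ^ l) ?_ ⟨0, 0, by simp⟩ ?_ ?_
      (hCD ha)
    · rintro _ (rfl | rfl)
      exacts [⟨1, 0, by simp⟩, ⟨0, 1, by simp⟩]
    · rintro _ _ _ _ ⟨k, l, rfl⟩ ⟨k', l', rfl⟩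
      refine ⟨k + k', l + l', ?_⟩
      rw [mul_assoc, ← mul_assoc (S.v ^ l), ((comm S.v S.vC c hcC).pow_pow l k').eq, pow_add, pow_add]
      simp only [mul_assoc]
    · rintro _ _ ⟨k, l, rfl⟩
      refine ⟨(orderOf c - 1) * k, (orderOf S.v - 1) * l, ?_⟩
      refine inv_eq_of_mul_eq_one_right ?_
      rw [mul_assoc, ← mul_assoc (S.v ^ l), ((comm S.v S.vC c hcC).pow_pow l _).eq, mul_assoc (c ^ _),
        ← mul_assoc, ← pow_add, ← pow_add, show k + (orderOf c - 1) * k = (1 + (orderOf c - 1)) * k by ring,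
        show l + (orderOf S.v - 1) * l = (1 + (orderOf S.v - 1)) * l by ring,
        Nat.add_sub_cancel' (orderOf_pos c), Nat.add_sub_cancel' (orderOf_pos S.v), pow_mul, pow_mul,
        pow_orderOf_eq_one, pow_orderOf_eq_one, one_pow, one_pow, one_mul]
  -- the displacement of `c` has order `p`
  set e := c⁻¹ * (S.g⁻¹ * c * S.g) with he_def
  have heC : e ∈ S.C := mul_mem (inv_mem hcC) (hφC c hcC)
  have hce : S.g⁻¹ * c * S.g = c * e := (mul_inv_cancel_left _ _).symm
  have hdown : ∀ N : ℕ, e ^ p ^ (N + 2) = 1 → e ^ p ^ (N + 1) = 1 := by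
    intro N hN
    set c' := c ^ p ^ N with hc'
    set e' := e ^ p ^ N with he'
    have hc'C : c' ∈ S.C := pow_mem hcC _
    have he'C : e' ∈ S.C := pow_mem heC _
    have hce' : S.g⁻¹ * c' * S.g = c' * e' := by
      rw [hc', hφpow, hce, (comm c hcC e heC).mul_pow]
    have he'pp : (e' ^ p) ^ p = 1 := by
      rw [he', ← pow_mul, ← pow_mul, ← sq, ← pow_add]; exact hN
    have he'pw := hcap e' he'C he'pp
    set d := e'⁻¹ * (S.g⁻¹ * e' * S.g) with hd
    have hdC : d ∈ S.C := mul_mem (inv_mem he'C) (hφC e' he'C)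
    have hed : S.g⁻¹ * e' * S.g = e' * d := (mul_inv_cancel_left _ _).symm
    have hdp : d ^ p = 1 := by
      have h1 : S.g⁻¹ * e' ^ p * S.g = e' ^ p := by
        obtain ⟨l, hl⟩ := mem_zpowers_iff.mp he'pw
        rw [← hl, mul_assoc, ((S.w_comm S.g).zpow_left l).eq, inv_mul_cancel_left]
      rw [hφpow, hed, (comm e' he'C d hdC).mul_pow] at h1
      exact mul_eq_left.mp h1
    obtain ⟨k, l, hkl⟩ := hrep e heC
    have hd' : d = e' ^ k * S.w ^ (l * p ^ N) := by
      have he'rep : e' = c' ^ k * S.v ^ (l * p ^ N) := by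
        rw [he', hkl, ((comm c hcC S.v S.vC).pow_pow k l).mul_pow, hc', ← pow_mul, ← pow_mul,
          ← pow_mul, mul_comm k]
      have hck : S.g⁻¹ * c' ^ k * S.g = (c' * e') ^ k := by rw [hφpow, hce']
      rw [hd]
      conv_lhs => arg 2; rw [he'rep, show S.g⁻¹ * (c' ^ k * S.v ^ (l * p ^ N)) * S.g =
        (S.g⁻¹ * c' ^ k * S.g) * (S.g⁻¹ * S.v ^ (l * p ^ N) * S.g) by group, hck, hφpow, S.vg,
        (comm c' hc'C e' he'C).mul_pow, (S.w_comm S.v).symm.mul_pow]
      rw [show c' ^ k * e' ^ k * (S.v ^ (l * p ^ N) * S.w ^ (l * p ^ N)) =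
        c' ^ k * S.v ^ (l * p ^ N) * (e' ^ k * S.w ^ (l * p ^ N)) by
          rw [mul_assoc, ← mul_assoc (e' ^ k), ((comm e' he'C S.v S.vC).pow_pow k _).eq]
          simp only [mul_assoc], ← he'rep, inv_mul_cancel_left]
    show e ^ p ^ (N + 1) = 1
    rw [pow_succ, pow_mul, ← he']
    by_contra hne
    have hkp : p ∣ k := by
      have h1 : (e' ^ k) ^ p = 1 := by
        have h2 := hdp
        rw [hd', ((comm e' he'C S.w S.wC).pow_pow _ _).mul_pow, ← pow_mul S.w, mul_comm _ p, pow_mul S.w,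
          S.wp, one_pow, mul_one] at h2
        exact h2
      rw [← pow_mul, mul_comm, pow_mul, ← orderOf_dvd_iff_pow_eq_one] at h1
      rwa [orderOf_eq_prime he'pp hne] at h1
    have hdw : S.g⁻¹ * d * S.g = d := by
      have hdm : d ∈ zpowers S.w := by
        obtain ⟨t, rfl⟩ := hkp
        rw [hd', pow_mul]
        exact mul_mem (pow_mem he'pw t) (pow_mem (mem_zpowers _) _)
      obtain ⟨t, ht⟩ := mem_zpowers_iff.mp hdm
      rw [← ht, mul_assoc, ((S.w_comm S.g).zpow_left t).eq, inv_mul_cancel_left]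
    have hconj := conj_pow_formula hce' hed (f := 1) (by rw [hdw, mul_one]) (by simp)
      (comm e' he'C d hdC) (Commute.one_right _) (Commute.one_right _) p
    rw [mul_assoc, ← (comm (S.g ^ p) S.gp_mem c' hc'C).eq, inv_mul_cancel_left, one_pow, mul_one,
      mul_assoc] at hconj
    obtain ⟨t, ht⟩ := hp.dvd_choose_self two_ne_zero (lt_of_le_of_ne hp.two_le (Ne.symm S.hp2))
    rw [ht, pow_mul, hdp, one_pow, mul_one] at hconj
    exact hne (mul_eq_left.mp hconj.symm)
  have hep : e ^ p = 1 := by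
    obtain ⟨N, hN⟩ := S.hG e
    have key : ∀ N, e ^ p ^ (N + 1) = 1 → e ^ p = 1 := by
      intro N
      induction N with
      | zero => intro h; simpa using h
      | succ N ih => exact fun h => ih (hdown N h)
    exact key N (by rw [pow_succ, pow_mul, hN, one_pow])
  obtain ⟨i, l, hil⟩ := S.omega e heC hep
  have hee : S.g⁻¹ * e * S.g = e * S.w ^ i := by
    rw [hil, show S.g⁻¹ * (S.v ^ i * S.w ^ l) * S.g = (S.g⁻¹ * S.v ^ i * S.g) * (S.g⁻¹ * S.w ^ l * S.g)
      by group, hφpow, S.vg, (S.w_comm S.v).symm.mul_pow, mul_assoc S.g⁻¹, ((S.w_comm S.g).pow_left l).eq,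
      inv_mul_cancel_left, mul_assoc, ← pow_add, Nat.add_comm, pow_add, mul_assoc]
  by_cases hh : ∃ u ∈ S.C, S.g ^ p = u ^ p
  swap
  · exact Or.inl (S.metacyclic_of_not_pow hh)
  have hW : S.w ^ (i * p.choose 3) ∈ zpowers (c ^ q) := hzw ▸ pow_mem (mem_zpowers _) _
  obtain ⟨α, hα⟩ := (mem_powers_iff_mem_zpowers (x := c ^ q)).mpr hW
  have hα' : (c ^ q) ^ α = S.w ^ (i * p.choose 3) := hα
  by_cases hexc : p ∣ 1 + p ^ m * α
  · -- maximal class, order `3^4`
    refine Or.inr (Or.inr (Or.inr ?_))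
    have hm : m = 0 := by
      by_contra h
      exact hp.one_lt.ne' (Nat.dvd_one.mp
        ((Nat.dvd_add_left (Dvd.dvd.mul_right (dvd_pow_self p h) α)).mp hexc))
    subst hm
    have hne : ¬ p ∣ i * p.choose 3 := by
      intro h
      rw [(S.w_pow_eq_one_iff _).mpr h, ← orderOf_dvd_iff_pow_eq_one, orderOf_eq_prime hcqp hcq] at hα'
      rw [pow_zero, one_mul] at hexc
      exact hp.one_lt.ne' (Nat.dvd_one.mp ((Nat.dvd_add_left hα').mp hexc))
    have hp3 : p = 3 := by
      by_contra h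
      have h3 : 3 < p := by
        have := hp.two_le
        have := S.hp2
        omega
      exact hne (Dvd.dvd.mul_left (hp.dvd_choose_self (k := 3) (by omega) h3) i)
    refine ⟨hp3, by omega, fun hbot => ?_⟩
    have h1 : e ∈ (⊤ : Subgroup G).lowerCentralSeries 1 := by
      have : e = ⁅c⁻¹, S.g⁻¹⁆ := by simp [he_def, commutatorElement_def, mul_assoc]
      rw [this, top_lowerCentralSeries_one]
      exact commutator_mem_commutator (mem_top _) (mem_top _)
    have h2 : S.w ^ i ∈ (⊤ : Subgroup G).lowerCentralSeries 2 := by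
      have : S.w ^ i = ⁅e⁻¹, S.g⁻¹⁆ := by
        rw [commutatorElement_def, inv_inv, inv_inv,
          show e⁻¹ * S.g⁻¹ * e * S.g = e⁻¹ * (S.g⁻¹ * e * S.g) by group, hee, inv_mul_cancel_left]
      rw [this]
      exact commutator_mem_commutator (inv_mem h1) (mem_top _)
    rw [show 0 + 4 - 2 = 2 from rfl] at hbot
    rw [hbot, mem_bot, S.w_pow_eq_one_iff] at h2
    exact hne (Dvd.dvd.mul_right h2 _)
  -- an element of order `p` outside `C`
  obtain ⟨k, hk⟩ : ∃ k : ℕ, (c ^ p * S.w ^ (i * p.choose 3)) ^ k = (S.g ^ p)⁻¹ := by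
    have hD' : c ^ p * S.w ^ (i * p.choose 3) = (c ^ p) ^ (1 + p ^ m * α) := by
      rw [← hα', pow_add, pow_one, ← pow_mul, ← pow_mul, hq, pow_succ']
      ring_nf
    obtain ⟨u, huC, hup⟩ := hh
    have h1 : (S.g ^ p)⁻¹ ∈ zpowers ((c ^ p) ^ (1 + p ^ m * α)) :=
      inv_mem (zpowers_le.mpr (mem_zpowers_pow S.hG hexc (c ^ p)) (hup ▸ hpowU u huC))
    rw [hD']
    exact (mem_powers_iff_mem_zpowers (x := (c ^ p) ^ (1 + p ^ m * α))).mpr h1
  set x := S.g * c ^ k with hx
  have hxp : x ^ p = 1 := by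
    rw [hx, pow_mul_formula (e := e ^ k) (f := (S.w ^ i) ^ k)
      (by rw [hφpow, hce, (comm c hcC e heC).mul_pow])
      (by rw [hφpow, hee, ((S.w_comm e).pow_left i).symm.mul_pow])
      (by rw [mul_assoc, (((S.w_comm S.g).pow_left i).pow_left k).eq, inv_mul_cancel_left])
      ((comm c hcC e heC).pow_pow k k)
      ((((S.w_comm c).pow_left i).pow_left k).symm.pow_left k)
      ((((S.w_comm e).pow_left i).pow_left k).symm.pow_left k)]
    obtain ⟨t, ht⟩ := hp.dvd_choose_self two_ne_zero (lt_of_le_of_ne hp.two_le (Ne.symm S.hp2))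
    have e1 : (e ^ k) ^ p.choose 2 = 1 := by
      rw [← pow_mul, ht, mul_left_comm, pow_mul, hep, one_pow]
    have e2 : ((S.w ^ i) ^ k) ^ p.choose 3 = (S.w ^ (i * p.choose 3)) ^ k := by
      rw [← pow_mul, ← pow_mul, ← pow_mul]; ring_nf
    have e3 : (c ^ k) ^ p = (c ^ p) ^ k := by rw [← pow_mul, ← pow_mul, mul_comm]
    rw [e1, mul_one, e2, e3, mul_assoc, ← ((S.w_comm (c ^ p)).pow_left _).symm.mul_pow, hk,
      mul_inv_cancel]
  have hxC : x ∉ S.C := fun h => S.gnot (by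
    have := mul_mem h (inv_mem (pow_mem hcC k))
    rwa [hx, mul_inv_cancel_right] at this)
  have hxφ : ∀ t ∈ S.C, x⁻¹ * t * x = S.g⁻¹ * t * S.g := fun t ht => by
    rw [hx, show (S.g * c ^ k)⁻¹ * t * (S.g * c ^ k) = (c ^ k)⁻¹ * ((S.g⁻¹ * t * S.g) * c ^ k) by group,
      (comm _ (hφC t ht) _ (pow_mem hcC k)).eq, inv_mul_cancel_left]
  by_cases hi : p ∣ i
  · -- `c` can be corrected to commute with `x`
    refine Or.inr (Or.inl ⟨by omega, ?_⟩)
    have hew : e = S.w ^ l := by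
      obtain ⟨t, rfl⟩ := hi
      rw [hil, pow_mul, S.vp, one_pow, one_mul]
    set r := (p - 1) * l with hr
    set z0 := c * S.v ^ r with hz0
    have hz0C : z0 ∈ S.C := mul_mem hcC (pow_mem S.vC r)
    have hz0fix : S.g⁻¹ * z0 * S.g = z0 := by
      rw [hz0, show S.g⁻¹ * (c * S.v ^ r) * S.g = (S.g⁻¹ * c * S.g) * (S.g⁻¹ * S.v ^ r * S.g) by group,
        hce, hφpow, S.vg, (S.w_comm S.v).symm.mul_pow, hew, mul_assoc, ← mul_assoc (S.w ^ l),
        ((S.w_comm (S.v ^ r)).pow_left l).eq, mul_assoc (S.v ^ r), ← pow_add]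
      have : p ∣ l + r := by
        rw [hr, show l + (p - 1) * l = (1 + (p - 1)) * l by ring, Nat.add_sub_cancel' hp.one_le]
        exact dvd_mul_right p l
      rw [(S.w_pow_eq_one_iff _).mpr this, mul_one]
    have hz0q : z0 ^ q = c ^ q := by
      rw [hz0, ((comm c hcC S.v S.vC).pow_right r).mul_pow, ← pow_mul S.v, mul_comm r, hq, pow_succ',
        mul_assoc, pow_mul S.v, S.vp, one_pow, mul_one]
    have hwq : S.w ∈ zpowers (c ^ q) := hzw ▸ mem_zpowers _
    obtain ⟨t, ht⟩ := (mem_powers_iff_mem_zpowers (x := c ^ q)).mpr hwq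
    have ht' : (c ^ q) ^ t = S.w := ht
    have htp : ¬ p ∣ t := by
      rintro ⟨t', rfl⟩
      exact S.w1 (by rw [← ht', pow_mul, hcqp, one_pow])
    have hzq : (z0 ^ t) ^ p ^ (m + 1) = S.w := by
      rw [← pow_mul, mul_comm, pow_mul, ← hq, hz0q, ht']
    refine ⟨x, S.v, z0 ^ t, ?_, hxp, S.vp, ?_, ?_, (S.vcen _ (pow_mem hz0C t)).eq, ?_⟩
    · refine S.mem_of_closure ?_ ⟨x, subset_closure (by simp), hxC⟩
      refine hCD.trans ((closure_le _).mpr ?_)
      have hv : S.v ∈ closure ({x, S.v, z0 ^ t} : Set G) := subset_closure (by simp)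
      rintro _ (rfl | rfl)
      · have h2 : z0 ∈ closure ({x, S.v, z0 ^ t} : Set G) :=
          zpowers_le.mpr (subset_closure (by simp)) (mem_zpowers_pow S.hG htp z0)
        have h3 := mul_mem h2 (inv_mem (pow_mem hv r))
        rwa [hz0, mul_inv_cancel_right] at h3
      · exact hv
    · rw [e2, pow_succ, pow_mul, hzq, S.wp]
    · have h1 : x⁻¹ * z0 ^ t * x = z0 ^ t := by
        rw [hxφ _ (pow_mem hz0C t), hφpow, hz0fix]
      calc x * z0 ^ t = x * (x⁻¹ * z0 ^ t * x) := by rw [h1]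
        _ = z0 ^ t * x := by group
    · rw [e3, hzq, hxφ _ S.vC, S.vg]
  · -- conjugation is nontrivial on the displacement
    refine Or.inr (Or.inr (Or.inl ⟨by omega, ?_⟩))
    obtain ⟨s0, hs0⟩ := (mem_powers_iff_mem_zpowers (x := c ^ q)).mpr
      (show S.w ^ i ∈ zpowers (c ^ q) from hzw ▸ pow_mem (mem_zpowers _) _)
    have hs0' : (c ^ q) ^ s0 = S.w ^ i := hs0
    have hs0p : ¬ p ∣ s0 := by
      rintro ⟨t', rfl⟩
      rw [pow_mul, hcqp, one_pow] at hs0'
      exact hi ((S.w_pow_eq_one_iff i).mp hs0'.symm)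
    obtain ⟨μ, s, hμp, hs, hμs⟩ := exists_scale hs0p
    have hxe : x⁻¹ * e * x = e * S.w ^ i := by rw [hxφ e heC, hee]
    have hxc : x⁻¹ * c * x = c * e := by rw [hxφ c hcC, hce]
    have hxw : x⁻¹ * S.w ^ i * x = S.w ^ i := by
      rw [mul_assoc, ((S.w_comm x).pow_left i).eq, inv_mul_cancel_left]
    have hone : x⁻¹ * 1 * x = (1 : G) := by simp
    have hewc : Commute e (S.w ^ i) := ((S.w_comm e).pow_left i).symm
    set y := e ^ μ * (S.w ^ i) ^ μ.choose 2 with hy
    have hcconj : (x ^ μ)⁻¹ * c * x ^ μ = c * y := by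
      rw [conj_pow_formula hxc hxe (f := 1) (by rw [hxw, mul_one]) hone hewc (Commute.one_right _)
        (Commute.one_right _) μ, one_pow, mul_one, mul_assoc, hy]
    have heconj : (x ^ μ)⁻¹ * e * x ^ μ = e * (S.w ^ i) ^ μ := by
      rw [conj_pow_formula hxe (d := 1) (by rw [hxw, mul_one]) (f := 1) (by simp) hone
        (Commute.one_right _) (Commute.one_right _) (Commute.one_right _) μ, one_pow, one_pow, mul_one,
        mul_one]
    have hyC : y ∈ S.C := mul_mem (pow_mem heC μ) (pow_mem (pow_mem S.wC i) _)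
    have hxμC : x ^ μ ∉ S.C := fun h => hxC (zpowers_le.mpr h (mem_zpowers_pow S.hG hμp x))
    refine ⟨s, x ^ μ, y, c, hs, ?_, by rw [← pow_mul, mul_comm, pow_mul, hxp, one_pow], ?_, ?_,
      (comm y hyC c hcC).eq, ?_, ?_⟩
    · refine S.mem_of_closure ?_ ⟨x ^ μ, subset_closure (by simp), hxμC⟩
      have hcX : c ∈ closure ({x ^ μ, y, c} : Set G) := subset_closure (by simp)
      have hwX : S.w ∈ closure ({x ^ μ, y, c} : Set G) := zpowers_le.mpr hcX hwc
      have heμ : e ^ μ ∈ closure ({x ^ μ, y, c} : Set G) := by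
        have h3 : y * ((S.w ^ i) ^ μ.choose 2)⁻¹ ∈ closure ({x ^ μ, y, c} : Set G) :=
          mul_mem (subset_closure (by simp)) (inv_mem (pow_mem (pow_mem hwX _) _))
        rwa [hy, mul_inv_cancel_right] at h3
      have heX : e ∈ closure ({x ^ μ, y, c} : Set G) := zpowers_le.mpr heμ (mem_zpowers_pow S.hG hμp e)
      refine hCD.trans ((closure_le _).mpr ?_)
      rintro _ (rfl | rfl)
      · exact hcX
      · refine zpowers_le.mpr ?_ (mem_zpowers_pow S.hG hi S.v)
        have h3 := mul_mem heX (inv_mem (pow_mem hwX l))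
        rwa [hil, mul_inv_cancel_right] at h3
    · rw [hy, (hewc.pow_pow μ _).mul_pow, ← pow_mul, mul_comm μ, pow_mul, hep, one_pow, one_mul,
        ← pow_mul, mul_comm _ p, ← pow_mul S.w, ← mul_assoc, mul_comm i, mul_assoc, pow_mul, S.wp, one_pow]
    · rw [e2, ← hm0, pow_orderOf_eq_one]
    · rw [e3, hy,
        show (x ^ μ)⁻¹ * (e ^ μ * (S.w ^ i) ^ μ.choose 2) * x ^ μ =
          ((x ^ μ)⁻¹ * e ^ μ * x ^ μ) * ((x ^ μ)⁻¹ * (S.w ^ i) ^ μ.choose 2 * x ^ μ) by group,
        show (x ^ μ)⁻¹ * e ^ μ * x ^ μ = ((x ^ μ)⁻¹ * e * x ^ μ) ^ μ by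
          rw [show (x ^ μ)⁻¹ * e * x ^ μ = (x ^ μ)⁻¹ * e * ((x ^ μ)⁻¹)⁻¹ by rw [inv_inv], conj_pow,
            inv_inv],
        heconj, (hewc.pow_right μ).mul_pow, mul_assoc (x ^ μ)⁻¹,
        (((S.w_comm (x ^ μ)).pow_left i).pow_left _).eq, inv_mul_cancel_left, mul_assoc, mul_assoc]
      congr 1
      rw [(((Commute.refl (S.w ^ i)).pow_left μ).pow_left μ).pow_right (μ.choose 2) |>.eq]
      congr 1
      rw [← pow_mul, ← hs0', ← pow_mul, ← pow_mul, mul_comm s]
      rw [pow_mul, pow_mul c q s]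
      exact (pow_eq_pow_iff_modEq.mpr (by
        rw [orderOf_eq_prime hcqp hcq, mul_comm]; exact hμs))
    · exact hcconj.trans (comm c hcC y hyC).eq

end Setup

/-- Assemble the data from a noncyclic group of rank at most two. -/
theorem classification {n : ℕ} (hp2 : p ≠ 2) (hn : Nat.card G = p ^ n) (hrk : Cfsg.PRankLE p 2 G) :
    Cfsg.IsMetacyclic G ∨ Setup.Concl p n G := by
  have hp := (Fact.out : p.Prime)
  have hG : IsPGroup p G := IsPGroup.of_card hn
  by_cases hcyc : IsCyclic G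
  · refine Or.inl ⟨⊤, inferInstance, ?_, ?_⟩
    · exact isCyclic_of_surjective (Subgroup.topEquiv : (⊤ : Subgroup G) ≃* G).symm.toMonoidHom
        (Subgroup.topEquiv : (⊤ : Subgroup G) ≃* G).symm.surjective
    · exact isCyclic_of_surjective (QuotientGroup.mk' (⊤ : Subgroup G)) (QuotientGroup.mk'_surjective _)
  obtain ⟨N, hN, hNe, hNc⟩ := Cfsg.Agent.S0126.result hp2 hG hcyc
  have hNbot : N ≠ ⊥ := fun h => by
    rw [h, card_bot] at hNc
    exact (Nat.one_lt_pow two_ne_zero hp.one_lt).ne hNc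
  obtain ⟨w0, hw0N, hw0c, hw0⟩ := exists_mem_center_orderOf_eq hG hNbot
  obtain ⟨v, hvN, hvw⟩ : ∃ v ∈ N, v ∉ zpowers w0 := by
    by_contra hall
    push Not at hall
    have := card_le_of_le (show N ≤ zpowers w0 from hall)
    rw [hNc, Nat.card_zpowers, hw0] at this
    have := lt_self_pow₀ hp.one_lt (show 1 < 2 by norm_num)
    omega
  have hw0p : w0 ^ p = 1 := hw0 ▸ pow_orderOf_eq_one w0
  have hvp : v ^ p = 1 := hNe.2 v hvN
  have hwv : ∀ a : G, Commute w0 a := fun a => (mem_center_iff.mp hw0c a).symm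
  have hNgen : ∀ x ∈ N, ∃ i j : ℕ, x = v ^ i * w0 ^ j := by
    haveI : (zpowers w0).Normal := ⟨fun a ha g => by
      rw [mem_center_iff.mp (zpowers_le.mpr hw0c ha) g, mul_inv_cancel_right]; exact ha⟩
    have hle : zpowers v ⊔ zpowers w0 ≤ N := sup_le (zpowers_le.mpr hvN) (zpowers_le.mpr hw0N)
    have heq : zpowers v ⊔ zpowers w0 = N := by
      refine eq_of_le_of_card_ge hle ?_
      obtain ⟨k, hk⟩ := IsPGroup.iff_card.mp (hG.to_subgroup (zpowers v ⊔ zpowers w0))
      have hlt : zpowers w0 < zpowers v ⊔ zpowers w0 :=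
        lt_of_le_of_ne le_sup_right fun h => hvw (h ▸ mem_sup_left (mem_zpowers v))
      have h1 : Nat.card (zpowers w0) < Nat.card ↥(zpowers v ⊔ zpowers w0) :=
        lt_of_le_of_ne (card_le_of_le hlt.le) fun he => hlt.ne (eq_of_le_of_card_ge hlt.le he.ge)
      rw [hNc, hk]
      rw [hk, Nat.card_zpowers, hw0] at h1
      refine Nat.pow_le_pow_right hp.pos ?_
      by_contra h
      have := Nat.pow_le_pow_right hp.pos (show k ≤ 1 by omega)
      rw [pow_one] at this
      omega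
    intro x hx
    obtain ⟨a, ha, b, hb, rfl⟩ := (mem_sup_of_normal_right (s := zpowers v) (t := zpowers w0)).mp
      (show x ∈ zpowers v ⊔ zpowers w0 from heq ▸ hx)
    obtain ⟨i, hi⟩ := (mem_powers_iff_mem_zpowers (x := v)).mpr ha
    obtain ⟨j, hj⟩ := (mem_powers_iff_mem_zpowers (x := w0)).mpr hb
    have hi' : v ^ i = a := hi
    have hj' : w0 ^ j = b := hj
    exact ⟨i, j, by rw [hi', hj']⟩
  -- every element of order `p` centralising `N` lies in it
  have homega : ∀ x : G, Commute x v → x ^ p = 1 → x ∈ N := by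
    intro x hxv hxp
    have hcomm : ∀ a ∈ ({x, v, w0} : Set G), ∀ b ∈ ({x, v, w0} : Set G), a * b = b * a := by
      rintro _ (rfl | rfl | rfl) _ (rfl | rfl | rfl)
      exacts [rfl, hxv.eq, (hwv _).eq.symm, hxv.eq.symm, rfl, (hwv _).eq.symm, (hwv _).eq, (hwv _).eq, rfl]
    haveI := isMulCommutative_closure hcomm
    have hexp : ∀ a ∈ closure ({x, v, w0} : Set G), a ^ p = 1 := fun a ha => by
      refine closure_induction (p := fun a _ => a ^ p = 1) ?_ (one_pow p) ?_ ?_ ha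
      · rintro _ (rfl | rfl | rfl)
        exacts [hxp, hvp, hw0p]
      · intro a b ha' hb' h1 h2
        have hab : Commute a b := congrArg Subtype.val (IsMulCommutative.is_comm.comm
          (⟨a, ha'⟩ : closure ({x, v, w0} : Set G)) ⟨b, hb'⟩)
        rw [hab.mul_pow, h1, h2, mul_one]
      · intro a _ h1
        rw [inv_pow, h1, inv_one]
    have hle : N ≤ closure ({x, v, w0} : Set G) := by
      intro a ha
      obtain ⟨i, j, rfl⟩ := hNgen a ha
      exact mul_mem (pow_mem (subset_closure (by simp)) _) (pow_mem (subset_closure (by simp)) _)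
    have heq := eq_of_le_of_card_ge hle ((hrk _ inferInstance hexp).trans hNc.ge)
    rw [heq]
    exact subset_closure (by simp)
  by_cases hcen : ∀ g : G, Commute g v
  · -- `N` is central
    refine Or.inl (metacyclic_of_central_omega hp2 hG ?_ ?_)
    · intro x hx
      obtain ⟨i, j, rfl⟩ := hNgen x (homega x (hcen x) hx)
      exact mul_mem (pow_mem (mem_center_iff.mpr fun g => (hcen g).eq) _) (pow_mem hw0c _)
    · rw [← hNc]
      exact Nat.card_le_card_of_injective
        (fun x : {x : G // x ^ p = 1} => (⟨x.1, homega x.1 (hcen x.1) x.2⟩ : N))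
        fun a b h => Subtype.ext (congrArg (fun z : N => (z : G)) h)
  push Not at hcen
  obtain ⟨g, hg⟩ := hcen
  set C := centralizer ({v} : Set G) with hCdef
  have hCmem : ∀ x, x ∈ C ↔ Commute x v := fun x => mem_centralizer_singleton_iff
  have hgC : g ∉ C := fun h => hg ((hCmem g).mp h)
  -- every conjugate of `v` differs from it by a central element of `⟨w0⟩`
  have hq : ∀ t : G, v⁻¹ * (t⁻¹ * v * t) ∈ zpowers w0 := by
    haveI : (zpowers w0).Normal := ⟨fun a ha g => by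
      rw [mem_center_iff.mp (zpowers_le.mpr hw0c ha) g, mul_inv_cancel_right]; exact ha⟩
    have hcard : Nat.card (N.map (QuotientGroup.mk' (zpowers w0))) = p := by
      have h1 : (zpowers w0).relIndex N = Nat.card (N.map (QuotientGroup.mk' (zpowers w0))) := by
        rw [← relIndex_ker, QuotientGroup.ker_mk']
      have h2 := Cfsg.Lib.Core.card_mul_relIndex (show zpowers w0 ≤ N from zpowers_le.mpr hw0N)
      rw [h1, Nat.card_zpowers, hw0, hNc, sq] at h2
      exact Nat.eq_of_mul_eq_mul_left hp.pos h2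
    haveI := hN.map (QuotientGroup.mk' (zpowers w0)) (QuotientGroup.mk'_surjective _)
    have hc := le_center_of_card_eq_prime (hG.to_quotient _) hcard (mem_map_of_mem _ hvN)
    intro t
    rw [← QuotientGroup.ker_mk' (zpowers w0), MonoidHom.mem_ker, map_mul, map_mul, map_mul, map_inv,
      map_inv, mul_assoc ((QuotientGroup.mk' (zpowers w0)) t)⁻¹,
      ← mem_center_iff.mp hc (QuotientGroup.mk' (zpowers w0) t), inv_mul_cancel_left, inv_mul_cancel]
  haveI hCn : C.Normal := by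
    refine ⟨fun a ha t => (hCmem _).mpr ?_⟩
    have h1 : Commute a (t⁻¹ * v * t) := by
      rw [show t⁻¹ * v * t = v * (v⁻¹ * (t⁻¹ * v * t)) by group]
      refine ((hCmem a).mp ha).mul_right ?_
      obtain ⟨l, hl⟩ := mem_zpowers_iff.mp (hq t)
      rw [← hl]; exact ((hwv a).zpow_left l).symm
    show t * a * t⁻¹ * v = v * (t * a * t⁻¹)
    calc t * a * t⁻¹ * v = t * (a * (t⁻¹ * v * t)) * t⁻¹ := by group
      _ = t * ((t⁻¹ * v * t) * a) * t⁻¹ := by rw [h1.eq]
      _ = _ := by group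
  have hidx : C.index = p := by
    obtain ⟨k, hk⟩ := hG.index C
    have hle : C.index ≤ p := by
      rw [index_eq_card, ← hw0, ← Nat.card_zpowers]
      refine Nat.card_le_card_of_injective (fun r : G ⧸ C =>
        (⟨v⁻¹ * (r.out * v * r.out⁻¹), by simpa using hq r.out⁻¹⟩ : zpowers w0)) fun r1 r2 h => ?_
      have h1 : r1.out * v * r1.out⁻¹ = r2.out * v * r2.out⁻¹ :=
        mul_left_cancel (congrArg Subtype.val h)
      rw [← r1.out_eq', ← r2.out_eq', QuotientGroup.eq, hCmem]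
      show r1.out⁻¹ * r2.out * v = v * (r1.out⁻¹ * r2.out)
      calc r1.out⁻¹ * r2.out * v = r1.out⁻¹ * (r2.out * v * r2.out⁻¹) * r2.out := by group
        _ = r1.out⁻¹ * (r1.out * v * r1.out⁻¹) * r2.out := by rw [h1]
        _ = _ := by group
    have hne : C.index ≠ 1 := fun h => hgC (by rw [index_eq_one.mp h]; exact mem_top g)
    rw [hk] at hle hne ⊢
    rcases Nat.lt_or_ge k 2 with h | h
    · interval_cases k
      · simp at hne
      · rw [pow_one]
    · have h5 := Nat.pow_le_pow_right hp.pos h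
      have h6 := lt_self_pow₀ hp.one_lt (show 1 < 2 by norm_num)
      omega
  set w := v⁻¹ * (g⁻¹ * v * g) with hwdef
  have hvg : g⁻¹ * v * g = v * w := (mul_inv_cancel_left _ _).symm
  have hw1 : w ≠ 1 := fun h => hgC ((hCmem g).mpr (by
    rw [h, mul_one] at hvg
    show g * v = v * g
    conv_lhs => rw [← hvg]
    group))
  have hwp : w ^ p = 1 := by
    obtain ⟨l, hl⟩ := mem_zpowers_iff.mp (hq g)
    rw [hwdef, ← hl, ← zpow_natCast, ← zpow_mul, mul_comm, zpow_mul, zpow_natCast, hw0p, one_zpow]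
  have hwz : zpowers w = zpowers w0 := by
    refine eq_of_le_of_card_ge (zpowers_le.mpr (hq g)) (le_of_eq ?_)
    rw [Nat.card_zpowers, Nat.card_zpowers, hw0, orderOf_eq_prime hwp hw1]
  let S : Setup p G :=
    { C := C, g := g, v := v, w := w, hG := hG, hp2 := hp2, normal := hCn, index := hidx, gnot := hgC
      vC := (hCmem v).mpr (Commute.refl v)
      wC := by
        obtain ⟨l, hl⟩ := mem_zpowers_iff.mp (hq g)
        refine (hCmem w).mpr ?_
        rw [hwdef, ← hl]; exact (hwv v).zpow_left l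
      vp := hvp, wp := hwp, w1 := hw1, wcen := zpowers_le.mpr hw0c (hq g)
      vcen := fun c hc => ((hCmem c).mp hc).symm
      vg := hvg
      omega := fun x hx hxp => by
        obtain ⟨i, j, rfl⟩ := hNgen x (homega x ((hCmem x).mp hx) hxp)
        obtain ⟨j', hj'⟩ := (mem_powers_iff_mem_zpowers (x := w)).mpr
          (show w0 ^ j ∈ zpowers w from hwz ▸ pow_mem (mem_zpowers w0) j)
        have hj'' : w ^ j' = w0 ^ j := hj'
        exact ⟨i, j', by rw [hj'']⟩ }
  by_cases hsmall : ∀ c ∈ S.C, c ^ p = 1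
  · exact S.small_case hn hsmall
  push Not at hsmall
  by_cases hcap : ∀ a ∈ S.C, (a ^ p) ^ p = 1 → a ^ p ∈ zpowers S.w
  · exact S.abelian_case hn hcap hsmall
  push Not at hcap
  obtain ⟨a, ha, happ, haw⟩ := hcap
  -- a `p`-th root of a non-central element of order `p`
  obtain ⟨i, j, hij⟩ := S.omega (a ^ p) (pow_mem ha p) happ
  have hi : ¬ p ∣ i := by
    rintro ⟨t, rfl⟩
    apply haw
    rw [hij, pow_mul, hvp, one_pow, one_mul]
    exact pow_mem (mem_zpowers _) _
  by_cases hh : ∃ u ∈ S.C, S.g ^ p = u ^ p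
  swap
  · exact Or.inl (S.metacyclic_of_not_pow hh)
  obtain ⟨t, -, hti⟩ := Nat.exists_mul_mod_eq_one_of_coprime
    ((hp.coprime_iff_not_dvd.mpr hi).symm) hp.one_lt
  have hti' : v ^ (i * t) = v := by rw [pow_eq_pow_mod _ hvp, hti, pow_one]
  let S' : Setup p G :=
    { S with
      v := v * w ^ (j * t)
      vC := mul_mem S.vC (pow_mem S.wC _)
      vp := by rw [((S.w_comm v).symm.pow_right _).mul_pow, hvp, one_mul, ← pow_mul, mul_comm, pow_mul,
        hwp, one_pow]
      vcen := fun c hc => (S.vcen c hc).mul_left ((S.w_comm c).pow_left _)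
      vg := by
        rw [show g⁻¹ * (v * w ^ (j * t)) * g = (g⁻¹ * v * g) * (g⁻¹ * w ^ (j * t) * g) by group, hvg,
          mul_assoc g⁻¹, ((S.w_comm g).pow_left _).eq, inv_mul_cancel_left, mul_assoc,
          ← pow_succ', pow_succ, mul_assoc]
      omega := fun x hx hxp => by
        obtain ⟨i', j', rfl⟩ := S.omega x hx hxp
        refine ⟨i', j' + (p - 1) * (j * t * i'), ?_⟩
        show v ^ i' * w ^ j' = (v * w ^ (j * t)) ^ i' * w ^ (j' + (p - 1) * (j * t * i'))
        rw [((S.w_comm v).symm.pow_right _).mul_pow, ← pow_mul, mul_assoc, ← pow_add]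
        congr 1
        rw [show j * t * i' + (j' + (p - 1) * (j * t * i')) = (1 + (p - 1)) * (j * t * i') + j' by ring,
          Nat.add_sub_cancel' hp.one_le, pow_add, pow_mul, hwp, one_pow, one_mul] }
  refine Or.inr (Or.inr (Or.inr (S'.maximal_class hn (a := a ^ t) (pow_mem ha t) ?_ hh)))
  show (a ^ t) ^ p = v * w ^ (j * t)
  rw [← pow_mul, mul_comm, pow_mul, hij]
  show (v ^ i * w ^ j) ^ t = v * w ^ (j * t)
  rw [((S.w_comm v).symm.pow_pow _ _).mul_pow, ← pow_mul, ← pow_mul, hti']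

/-- The classification of the p-groups of rank at most two for odd p. Let p be an odd prime and G a group of order p^n with no elementary abelian subgroup of order p³. Then one of the following holds: G is metacyclic; n ≥ 3 and G is generated by elements x, y, z with x^p = y^p = z^(p^(n−2)) = 1, z commuting with x and y, and x⁻¹yx = y z^(p^(n−3)); n ≥ 4 and G is generated by elements x, y, z with x^p = y^p = z^(p^(n−2)) = 1, yz = zy, x⁻¹yx = y z^(s p^(n−3)) and x⁻¹zx = yz, where s = 1 or s is a quadratic non-residue modulo p; or p = 3 and G has maximal class (nilpotency class n − 1). -/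
theorem result {G : Type*} [Group G] [Finite G] {p : ℕ} [Fact p.Prime] (hp : p ≠ 2) (n : ℕ) (hG : Nat.card G = p ^ n)
    (hrk : Cfsg.PRankLE p 2 G) :
    Cfsg.IsMetacyclic G ∨
    (3 ≤ n ∧ ∃ x y z : G, Subgroup.closure ({x, y, z} : Set G) = ⊤ ∧ x ^ p = 1 ∧ y ^ p = 1 ∧ z ^ p ^ (n - 2) = 1 ∧
        x * z = z * x ∧ y * z = z * y ∧ x⁻¹ * y * x = y * z ^ p ^ (n - 3)) ∨
    (4 ≤ n ∧ ∃ (s : ℕ) (x y z : G), (s = 1 ∨ ¬ IsSquare (s : ZMod p)) ∧ Subgroup.closure ({x, y, z} : Set G) = ⊤ ∧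
        x ^ p = 1 ∧ y ^ p = 1 ∧ z ^ p ^ (n - 2) = 1 ∧ y * z = z * y ∧ x⁻¹ * y * x = y * z ^ (s * p ^ (n - 3)) ∧
        x⁻¹ * z * x = y * z) ∨
    (p = 3 ∧ 2 ≤ n ∧ (⊤ : Subgroup G).lowerCentralSeries (n - 2) ≠ ⊥) := by
  exact classification hp hG hrk

end Cfsg.Agent.S3888
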