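import Cfsg.Statements.S3889
-- import your own Cfsg.Agent.* helpers here

set_option autoImplicit false
open Cfsg

namespace Cfsg.Agent.S3889

open Subgroup

/-- A finite abelian group that is the union of a family of proper subgroups any two of which intersect trivially is elementary abelian: its exponent is a prime. -/
theorem result {G : Type*} [CommGroup G] [Finite G] (𝓑 : Set (Subgroup G)) (hprop : ∀ B ∈ 𝓑, B ≠ ⊤)
    (hcov : ∀ g : G, ∃ B ∈ 𝓑, g ∈ B) (hdisj : ∀ B ∈ 𝓑, ∀ C ∈ 𝓑, B ≠ C → B ⊓ C = ⊥) :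
    (Monoid.exponent G).Prime := by
  have key : ∀ B ∈ 𝓑, ∀ a ∈ B, a ≠ 1 → ∀ z : G, z ∉ B → orderOf z = orderOf a := by
    intro B hB a ha ha1 z hz
    obtain ⟨C, hC, hzC⟩ := hcov z
    have hBC : B ≠ C := fun e => hz (e ▸ hzC)
    have hz1 : z ≠ 1 := fun e => hz (e ▸ one_mem B)
    have aux : ∀ {B C : Subgroup G}, B ∈ 𝓑 → C ∈ 𝓑 → B ≠ C → ∀ {a b : G}, a ∈ B → a ≠ 1 → b ∈ C →
        b ^ orderOf a = 1 := by
      intro B C hB hC hne a b ha ha1 hb
      by_contra hb1
      obtain ⟨D, hD, habD⟩ := hcov (a * b)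
      have h1 : b ^ orderOf a ∈ D := by
        have := pow_mem habD (orderOf a)
        rwa [mul_pow, pow_orderOf_eq_one, one_mul] at this
      have hDC : D = C := by
        by_contra h
        exact hb1 (mem_bot.mp (hdisj D hD C hC h ▸ mem_inf.mpr ⟨h1, pow_mem hb _⟩))
      have haC : a ∈ C := by simpa using mul_mem (hDC ▸ habD : a * b ∈ C) (inv_mem hb)
      exact ha1 (mem_bot.mp (hdisj B hB C hC hne ▸ mem_inf.mpr ⟨ha, haC⟩))
    exact Nat.dvd_antisymm (orderOf_dvd_of_pow_eq_one (aux hB hC hBC ha ha1 hzC))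
      (orderOf_dvd_of_pow_eq_one (aux hC hB (Ne.symm hBC) hzC hz1 ha))
  obtain ⟨B₁, hB₁, -⟩ := hcov 1
  obtain ⟨g, hg⟩ : ∃ g : G, g ≠ 1 := by
    by_contra h
    push Not at h
    exact hprop B₁ hB₁ (eq_top_iff.mpr fun x _ => h x ▸ one_mem B₁)
  have hsame : ∀ x y : G, x ≠ 1 → y ≠ 1 → orderOf x = orderOf y := by
    intro x y hx hy
    obtain ⟨B, hB, hxB⟩ := hcov x
    by_cases hyB : y ∈ B
    · obtain ⟨z, -, hz⟩ := SetLike.exists_of_lt (lt_top_iff_ne_top.mpr (hprop B hB))
      rw [← key B hB x hxB hx z hz, key B hB y hyB hy z hz]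
    · exact (key B hB x hxB hx y hyB).symm
  have hp : (orderOf g).Prime := by
    have h1 : orderOf g ≠ 1 := fun h => hg (orderOf_eq_one_iff.mp h)
    refine Nat.prime_def_minFac.mpr ⟨by have := orderOf_pos g; omega, ?_⟩
    have hd : orderOf (g ^ (orderOf g / (orderOf g).minFac)) = (orderOf g).minFac :=
      orderOf_pow_orderOf_div (orderOf_pos g).ne' (Nat.minFac_dvd _)
    refine ((hsame g _ hg fun h => ?_).trans hd).symm
    rw [h, orderOf_one] at hd
    exact (Nat.minFac_prime h1).one_lt.ne hd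
  have hexp : Monoid.exponent G = orderOf g := by
    refine Nat.dvd_antisymm (Monoid.exponent_dvd_of_forall_pow_eq_one fun x => ?_) (Monoid.order_dvd_exponent g)
    rcases eq_or_ne x 1 with rfl | hx
    · exact one_pow _
    · rw [hsame g x hg hx]; exact pow_orderOf_eq_one x
  rw [hexp]; exact hp

end Cfsg.Agent.S3889
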