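import Cfsg.Statements.S3892
import Cfsg.Agent.Lib.PGroup.NilpotentCover
-- import your own Cfsg.Agent.* helpers here

set_option autoImplicit false
open Cfsg

namespace Cfsg.Agent.S3892

open Equiv Subgroup

section
variable {G : Type*} [Group G] [Finite G]

theorem orderOf_cj {G : Type*} [Group G] (g u : G) : orderOf (g * u * g⁻¹) = orderOf u :=
  (MulAut.conj g).orderOf_eq u

/-- With `p²` not dividing the order, conjugates of an element of order `p` in its normaliser lie in its span. -/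
theorem key_normalizer {p : ℕ} [hp : Fact p.Prime] {u : G} (hu : orderOf u = p) (hp2 : ¬ p ^ 2 ∣ Nat.card G)
    {v : G} (hv : orderOf v = p) (hvN : v ∈ normalizer (zpowers u : Set G)) : v ∈ zpowers u := by
  have hU : IsPGroup p (zpowers u) := IsPGroup.of_card (n := 1) (by rw [Nat.card_zpowers, hu, pow_one])
  have hV : IsPGroup p (zpowers v) := IsPGroup.of_card (n := 1) (by rw [Nat.card_zpowers, hv, pow_one])
  obtain ⟨k, hk⟩ := (hV.to_sup_of_normal_right' hU (zpowers_le.2 hvN) |>.exists_card_eq)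
  rw [sup_comm] at hk
  have h1 : Nat.card (zpowers v) ≤ p ^ k := hk ▸ Nat.le_of_dvd Nat.card_pos (card_dvd_of_le le_sup_right)
  rw [Nat.card_zpowers, hv] at h1
  have hk1 : k ≤ 1 := by
    by_contra hlt
    exact hp2 ((pow_dvd_pow p (by omega : 2 ≤ k)).trans (hk ▸ card_subgroup_dvd_card _))
  have hsup : zpowers u = zpowers u ⊔ zpowers v := eq_of_le_of_card_ge le_sup_left (by
    rw [hk, Nat.card_zpowers, hu]
    exact le_of_le_of_eq (Nat.pow_le_pow_right hp.out.pos hk1) (pow_one p))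
  exact hsup ▸ le_sup_right (α := Subgroup G) (mem_zpowers v)

theorem key_conj {p : ℕ} [hp : Fact p.Prime] {u : G} (hu : orderOf u = p) (hp2 : ¬ p ^ 2 ∣ Nat.card G)
    (g : G) (h : g * u * g⁻¹ ∈ normalizer (zpowers u : Set G)) : g ∈ normalizer (zpowers u : Set G) := by
  have hv : orderOf (g * u * g⁻¹) = p := (orderOf_cj g u).trans hu
  have h2 := key_normalizer hu hp2 hv h
  have he : (zpowers u).map (MulAut.conj g).toMonoidHom = zpowers u := by
    refine eq_of_le_of_card_ge ?_ ?_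
    · rw [MonoidHom.map_zpowers]; exact zpowers_le.2 h2
    · rw [card_map_of_injective (MulAut.conj g).injective]
  rw [mem_normalizer_iff]
  intro x
  constructor
  · intro hx
    exact he ▸ ⟨x, hx, rfl⟩
  · intro hx
    rw [← he] at hx
    obtain ⟨y, hy, hyx⟩ := hx
    simp only [MulEquiv.coe_toMonoidHom, MulAut.conj_apply, mul_left_inj, mul_right_inj] at hyx
    exact hyx ▸ hy

theorem le_of_centralizer {p : ℕ} [hp : Fact p.Prime] {u : G} (hu : orderOf u = p)
    (hC : ∀ g, g * u = u * g → g ∈ zpowers u) {A : Subgroup G} (hA : Group.IsNilpotent A) (huA : u ∈ A) :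
    A ≤ zpowers u := by
  have := hA
  haveI : Nontrivial A := ⟨⟨⟨u, huA⟩, 1, fun h => by
    have hu1 : u = 1 := congrArg Subtype.val h
    rw [hu1, orderOf_one] at hu
    exact hp.out.ne_one hu.symm⟩⟩
  haveI : Nontrivial (center A) := (nontrivial_iff_ne_bot _).2 (Group.IsNilpotent.center_ne_bot A)
  obtain ⟨w, hw⟩ := exists_ne (1 : center A)
  have hwu : ((w : A) : G) ∈ zpowers u :=
    hC _ (congrArg Subtype.val (mem_center_iff.1 w.2 ⟨u, huA⟩)).symm
  have hw1 : ((w : A) : G) ≠ 1 := fun h => hw (Subtype.ext (Subtype.ext h))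
  have he : zpowers ((w : A) : G) = zpowers u := by
    refine eq_of_le_of_card_ge (zpowers_le.2 hwu) ?_
    rw [Nat.card_zpowers, Nat.card_zpowers, hu]
    have hd : orderOf ((w : A) : G) ∣ p := hu ▸ orderOf_dvd_of_mem_zpowers hwu
    exact ((Nat.dvd_prime hp.out).1 hd).elim (fun h => absurd (orderOf_eq_one_iff.1 h) hw1) (fun h => h.ge)
  intro x hx
  refine hC x ?_
  obtain ⟨i, hi⟩ := mem_zpowers_iff.1 (he ▸ mem_zpowers u : u ∈ zpowers ((w : A) : G))
  have hxw : Commute x ((w : A) : G) := congrArg Subtype.val (mem_center_iff.1 w.2 ⟨x, hx⟩)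
  rw [← hi]
  exact (hxw.zpow_right i).eq

/-- Refuting a minimal nilpotent cover through a self-centralizing element of prime order. -/
theorem false_of_self_centralizing {p : ℕ} [hp : Fact p.Prime] {u : G} (hu : orderOf u = p)
    (hp2 : ¬ p ^ 2 ∣ Nat.card G) (hC : ∀ g, g * u = u * g → g ∈ zpowers u)
    {P : Subgroup G} (hP : P ≠ ⊤) (huP : u ∈ P) (hlt : P.index < (normalizer (zpowers u : Set G)).index)
    (𝓐 : Finset (Subgroup G)) (hcov : ∀ g : G, ∃ A ∈ 𝓐, g ∈ A) (hprop : ∀ A ∈ 𝓐, A ≠ ⊤)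
    (hmin : ∀ 𝓑 : Finset (Subgroup G), (∀ A ∈ 𝓑, A ≠ ⊤) ∧ (∀ g : G, ∃ A ∈ 𝓑, g ∈ A) → 𝓐.card ≤ 𝓑.card)
    (hnil : ∀ A ∈ 𝓐, Group.IsNilpotent A) : False := by
  obtain ⟨R, hR, hRc, hRu⟩ := Cfsg.Lib.PGroup.exists_members 𝓐 hcov hnil
    (le_normalizer (mem_zpowers u)) (key_conj hu hp2)
  refine Cfsg.Lib.PGroup.false_of_replace 𝓐 hcov hprop hmin R hR (Cfsg.Lib.PGroup.conjSet P)
    (fun Q hQ => Cfsg.Lib.PGroup.ne_top_of_mem_conjSet hP hQ) ?_ fun A hA x hx => Or.inl ?_
  · rw [hRc]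
    exact (Cfsg.Lib.PGroup.card_conjSet_le P).trans_lt hlt
  · obtain ⟨g, hg⟩ := hRu A hA
    have := hnil A (hR hA)
    have hA' : Group.IsNilpotent (A.map (MulAut.conj g⁻¹).toMonoidHom) :=
      (Group.isNilpotent_congr (A.equivMapOfInjective (MulAut.conj g⁻¹).toMonoidHom (MulAut.conj g⁻¹).injective)).1 this
    have h1 : g⁻¹ * x * g ∈ zpowers u :=
      le_of_centralizer hu hC hA' ⟨_, hg, by simp [mul_assoc]⟩ ⟨x, hx, by simp⟩
    exact Cfsg.Lib.PGroup.exists_mem_conjSet (zpowers_le.2 huP h1)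

end

/-- The stabiliser of a set of points. -/
def setStab {α : Type*} [Finite α] (S : Set α) : Subgroup (Perm α) where
  carrier := {g | ∀ a, a ∈ S ↔ g a ∈ S}
  one_mem' := fun a => Iff.rfl
  mul_mem' := fun {g h} hg hh a => (hh a).trans (hg (h a))
  inv_mem' := fun {g} hg a => by
    have := hg (g⁻¹ a)
    rw [show g (g⁻¹ a) = a from g.apply_symm_apply a] at this
    exact this.symm

theorem not_sq_dvd_factorial {p n : ℕ} (hp : p.Prime) (hn : n < 2 * p) : ¬ p ^ 2 ∣ n.factorial := by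
  intro h
  haveI := Fact.mk hp
  have h1 : 2 ≤ padicValNat p n.factorial :=
    (padicValNat_dvd_iff_le n.factorial_ne_zero).1 h
  have hlog : Nat.log p n < 2 := by
    rcases Nat.eq_zero_or_pos n with rfl | hn0
    · simp
    · exact Nat.log_lt_of_lt_pow hn0.ne' (hn.trans_le (by rw [sq]; exact Nat.mul_le_mul_right p hp.two_le))
  rw [padicValNat_factorial hlog] at h1
  simp only [show Finset.Ico 1 2 = {1} from rfl, Finset.sum_singleton, pow_one] at h1
  have : n / p < 2 := (Nat.div_lt_iff_lt_mul hp.pos).2 hn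
  omega

theorem exists_prime_window {n : ℕ} (hn : 6 ≤ n) : ∃ p, p.Prime ∧ 5 ≤ p ∧ p < n ∧ n < 2 * p := by
  rcases Nat.even_or_odd n with ⟨k, rfl⟩ | ⟨k, rfl⟩
  · obtain ⟨p, hp, h1, h2⟩ := Nat.exists_prime_lt_and_le_two_mul k (by omega)
    refine ⟨p, hp, ?_, ?_, by omega⟩
    · rcases Nat.lt_or_ge p 5 with h | h
      · interval_cases p <;> first | omega | (exfalso; revert hp; norm_num)
      · exact h
    · rcases eq_or_lt_of_le h2 with rfl | h
      · exact absurd ((Nat.prime_mul_iff.1 hp)) (by omega)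
      · omega
  · obtain ⟨p, hp, h1, h2⟩ := Nat.exists_prime_lt_and_le_two_mul k (by omega)
    refine ⟨p, hp, ?_, by omega, by omega⟩
    rcases Nat.lt_or_ge p 5 with h | h
    · interval_cases p <;> first | omega | (exfalso; revert hp; norm_num)
    · exact h

/-- The general case, for a group `G` embedded in the symmetric group and containing the alternating one. -/
theorem main_large {n : ℕ} (hn : 6 ≤ n) {G : Type*} [Group G] [Finite G] (f : G →* Perm (Fin n))
    (hf : Function.Injective f) (hA : ∀ s : Perm (Fin n), Perm.sign s = 1 → ∃ g : G, f g = s)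
    (𝓐 : Finset (Subgroup G)) (hcov : ∀ g : G, ∃ A ∈ 𝓐, g ∈ A) (hprop : ∀ A ∈ 𝓐, A ≠ ⊤)
    (hmin : ∀ 𝓑 : Finset (Subgroup G), (∀ A ∈ 𝓑, A ≠ ⊤) ∧ (∀ g : G, ∃ A ∈ 𝓑, g ∈ A) → 𝓐.card ≤ 𝓑.card)
    (hnil : ∀ A ∈ 𝓐, Group.IsNilpotent A) : False := by
  obtain ⟨p, hp, hp5, hpn, hn2⟩ := exists_prime_window hn
  haveI := Fact.mk hp
  obtain ⟨q, rfl⟩ : ∃ q, p = q + 5 := ⟨p - 5, by omega⟩
  set e : Fin (q + 5) ↪ Fin n := Fin.castLEEmb hpn.le with he
  set ι := Equiv.Perm.viaEmbeddingHom e with hι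
  have hιi : Function.Injective ι := Equiv.Perm.viaEmbeddingHom_injective e
  have hιs : ∀ s, Perm.sign (ι s) = Perm.sign s := fun s => by
    classical
    rw [hι, Equiv.Perm.viaEmbeddingHom_apply, Equiv.Perm.viaEmbedding]
    convert Equiv.Perm.sign_extendDomain s (Equiv.ofInjective e.1 e.2) using 2
    congr 1
  set r := finRotate (q + 5) with hr
  set sw := Equiv.swap (0 : Fin (q + 5)) 1
  have hrs : Perm.sign r = 1 := by
    rw [hr, sign_finRotate]
    rcases hp.odd_of_ne_two (by omega) with ⟨k, hk⟩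
    rw [show q + 5 - 1 = 2 * k by omega, pow_mul]
    simp
  have hro : orderOf r = q + 5 := by rw [hr]; exact (Equiv.Perm.lcm_cycleType _).symm.trans (by rw [cycleType_finRotate]; simp)
  obtain ⟨u, hu⟩ := hA (ι r) (by rw [hιs, hrs])
  obtain ⟨u', hu'⟩ := hA (ι (sw * r * sw⁻¹)) (by rw [hιs]; simp [hrs])
  have huo : orderOf u = q + 5 := by rw [← orderOf_injective f hf, hu, orderOf_injective ι hιi, hro]
  have hu'o : orderOf u' = q + 5 := by
    rw [← orderOf_injective f hf, hu', orderOf_injective ι hιi, orderOf_cj, hro]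
  have hp2 : ¬ (q + 5) ^ 2 ∣ Nat.card G := by
    intro h
    refine not_sq_dvd_factorial hp hn2 (h.trans ?_)
    have h1 := Subgroup.card_dvd_of_injective f hf
    rwa [Nat.card_eq_fintype_card (α := Perm (Fin n)), Fintype.card_perm, Fintype.card_fin] at h1
  have hnu : u' ∉ zpowers u := by
    intro h
    have h1 : sw * r * sw⁻¹ ∈ zpowers r := by
      obtain ⟨i, hi⟩ := mem_zpowers_iff.1 h
      refine mem_zpowers_iff.2 ⟨i, hιi ?_⟩
      rw [map_zpow, ← hu, ← map_zpow, hi, hu']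
    have h2 : Commute (sw * r * sw⁻¹) r := by
      obtain ⟨i, hi⟩ := mem_zpowers_iff.1 h1
      rw [← hi]
      exact (Commute.refl r).zpow_left i
    have h3 := congrArg (fun s : Perm (Fin (q + 5)) => s 0) h2.eq
    simp [sw, hr, Equiv.swap_apply_def, Fin.ext_iff, Fin.val_add, Nat.mod_eq_of_lt] at h3
  set S : Set (Fin n) := {a | (a : ℕ) < q + 5}
  have hιS : ∀ s, ι s ∈ setStab S := fun s a => by
    by_cases ha : a ∈ Set.range e
    · obtain ⟨b, rfl⟩ := ha
      rw [hι, Equiv.Perm.viaEmbeddingHom_apply, Equiv.Perm.viaEmbedding_apply]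
      simp [S, he]
    · rw [hι, Equiv.Perm.viaEmbeddingHom_apply, Equiv.Perm.viaEmbedding_apply_of_notMem _ _ _ ha]
  have hP : (setStab S).comap f ≠ ⊤ := by
    intro htop
    set a : Fin n := ⟨0, by omega⟩
    set b : Fin n := ⟨q + 5, hpn⟩
    set c : Fin n := ⟨1, by omega⟩
    obtain ⟨g, hg⟩ := hA (Equiv.swap a b * Equiv.swap a c) (by
      rw [map_mul, Equiv.Perm.sign_swap (by simp [a, b, Fin.ext_iff]), Equiv.Perm.sign_swap (by simp [a, c, Fin.ext_iff])]
      rfl)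
    have h1 : f g ∈ setStab S := Subgroup.mem_comap.1 (htop ▸ Subgroup.mem_top g)
    rw [hg] at h1
    have h2 := (h1 c).1 (by simp [S, c])
    rw [Perm.mul_apply, Equiv.swap_apply_right, Equiv.swap_apply_left] at h2
    simp [S, b] at h2
  have huS : u ∈ (setStab S).comap f := Subgroup.mem_comap.2 (hu ▸ hιS r)
  refine Cfsg.Lib.PGroup.false_of_lt (B := normalizer (zpowers u : Set G)) (P := (setStab S).comap f) ?_ hP
    (u := u) (le_normalizer (mem_zpowers u)) (key_conj huo hp2) 𝓐 hcov hprop hmin hnil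
  have hne : ∀ a : Fin n, a ∈ S → f u a ≠ a := by
    intro a ha
    obtain ⟨b, rfl⟩ : a ∈ Set.range e := ⟨⟨a, ha⟩, rfl⟩
    rw [hu, hι, Equiv.Perm.viaEmbeddingHom_apply, Equiv.Perm.viaEmbedding_apply]
    intro h
    have h3 := e.injective h
    rw [hr, finRotate_succ_apply] at h3
    simpa [Fin.ext_iff, Fin.val_add] using congrArg (fun x => x - b) h3
  have hfix : ∀ a : Fin n, a ∉ S → f u a = a := by
    intro a ha
    rw [hu, hι, Equiv.Perm.viaEmbeddingHom_apply]
    exact Equiv.Perm.viaEmbedding_apply_of_notMem _ _ _ (by rintro ⟨b, rfl⟩; exact ha b.2)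
  refine lt_of_le_of_ne (fun g hg => Subgroup.mem_comap.2 fun a => ?_) fun hEq => ?_
  · obtain ⟨i, hi⟩ := mem_zpowers_iff.1 ((mem_normalizer_iff''.1 hg u).1 (mem_zpowers u))
    -- the fixed points of `u` are preserved
    have hkey : f g * f (g⁻¹ * u * g) = f u * f g := by rw [← map_mul, ← map_mul]; group
    rw [← hi, map_zpow] at hkey
    constructor
    · intro ha
      by_contra hga
      have h4 : f u (f g a) = f g a := hfix _ hga
      have h5 := congrArg (fun s : Perm (Fin n) => s a) hkey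
      simp only [Perm.mul_apply] at h5
      rw [h4] at h5
      have h6 : (f u ^ i) a = a := (f g).injective h5
      have h7 : zpowers u = zpowers (u ^ i) := by
        refine (eq_of_le_of_card_ge (zpowers_le.2 (zpow_mem (mem_zpowers u) i)) ?_).symm
        rw [hi, Nat.card_zpowers, Nat.card_zpowers, show g⁻¹ * u * g = g⁻¹ * u * g⁻¹⁻¹ by rw [inv_inv], orderOf_cj]
      obtain ⟨j, hj⟩ := mem_zpowers_iff.1 (h7 ▸ mem_zpowers u : u ∈ zpowers (u ^ i))
      refine hne a ha ?_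
      rw [← hj, map_zpow, map_zpow]
      exact Equiv.Perm.zpow_apply_eq_self_of_apply_eq_self h6 j
    · intro hga
      by_contra ha
      have h5 := congrArg (fun s : Perm (Fin n) => s a) hkey
      simp only [Perm.mul_apply] at h5
      rw [Equiv.Perm.zpow_apply_eq_self_of_apply_eq_self (hfix a ha) i] at h5
      exact hne _ hga h5.symm
  · refine hnu (key_normalizer huo hp2 hu'o (hEq ▸ Subgroup.mem_comap.2 (hu' ▸ hιS _)))

theorem alt_five (𝓐 : Finset (Subgroup (alternatingGroup (Fin 5)))) (hcov : ∀ g, ∃ A ∈ 𝓐, g ∈ A)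
    (hprop : ∀ A ∈ 𝓐, A ≠ ⊤)
    (hmin : ∀ 𝓑 : Finset (Subgroup (alternatingGroup (Fin 5))), (∀ A ∈ 𝓑, A ≠ ⊤) ∧ (∀ g, ∃ A ∈ 𝓑, g ∈ A) → 𝓐.card ≤ 𝓑.card)
    (hnil : ∀ A ∈ 𝓐, Group.IsNilpotent A) : False := by
  haveI : Fact (Nat.Prime 3) := ⟨by norm_num⟩
  let u : alternatingGroup (Fin 5) := ⟨Equiv.swap 0 1 * Equiv.swap 1 2, Equiv.Perm.mem_alternatingGroup.2 (by decide)⟩
  have hu : orderOf u = 3 := orderOf_eq_prime (by decide) (by decide)
  have hcard : Nat.card (alternatingGroup (Fin 5)) = 60 := by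
    rw [Nat.card_eq_fintype_card]; decide +kernel
  have hC : ∀ g, g * u = u * g → g = u ^ 0 ∨ g = u ^ 1 ∨ g = u ^ 2 := by decide +kernel
  let P : Subgroup (alternatingGroup (Fin 5)) := MulAction.stabilizer _ (3 : Fin 5)
  have hPc : ∀ g : alternatingGroup (Fin 5), g ∈ P ↔ (g : Perm (Fin 5)) 3 = 3 := fun g => Iff.rfl
  have hN : ∀ g : alternatingGroup (Fin 5), g ∈ normalizer (zpowers u : Set (alternatingGroup (Fin 5))) →
      g * u * g⁻¹ = u ^ 1 ∨ g * u * g⁻¹ = u ^ 2 := by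
    intro g hg
    obtain ⟨i, hi⟩ := (mem_zpowers_iff.1 ((mem_normalizer_iff.1 hg u).1 (mem_zpowers u)))
    rw [← hi, zpow_eq_zpow_emod' i (n := 3) (by decide)]
    have h0 : 0 ≤ i % 3 := Int.emod_nonneg _ (by norm_num)
    have h3 : i % 3 < 3 := Int.emod_lt_of_pos _ (by norm_num)
    obtain h | h | h : i % 3 = 0 ∨ i % 3 = 1 ∨ i % 3 = 2 := by omega
    all_goals rw [show ((3 : ℕ) : ℤ) = 3 from rfl, h]
    · exfalso
      rw [zpow_eq_zpow_emod' i (n := 3) (by decide), show ((3 : ℕ) : ℤ) = 3 from rfl, h, zpow_zero] at hi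
      rw [eq_comm, conj_eq_one_iff] at hi
      exact absurd hi (by decide)
    · left; simp
    · right; rw [show (2 : ℤ) = ((2 : ℕ) : ℤ) from rfl, zpow_natCast]
  refine false_of_self_centralizing hu (by rw [hcard]; norm_num)
    (fun g hg => by rcases hC g hg with h | h | h <;> rw [h] <;> exact pow_mem (mem_zpowers u) _)
    (P := P) (fun h => ?_) ?_ ?_ 𝓐 hcov hprop hmin hnil
  · have h1 := (hPc ⟨Equiv.swap 0 3 * Equiv.swap 0 1, Equiv.Perm.mem_alternatingGroup.2 (by decide)⟩).1 (h ▸ Subgroup.mem_top _)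
    revert h1
    decide
  · exact (hPc u).2 (by decide)
  · classical
    have e1 : P.index ≤ 5 := by
      rw [MulAction.index_stabilizer]
      exact (Set.ncard_le_ncard (Set.subset_univ _)).trans (by simp)
    have e2 : Nat.card (normalizer (zpowers u : Set (alternatingGroup (Fin 5)))) ≤
        Fintype.card {g : alternatingGroup (Fin 5) // g * u * g⁻¹ = u ^ 1 ∨ g * u * g⁻¹ = u ^ 2} := by
      rw [← Nat.card_eq_fintype_card]
      exact Nat.card_le_card_of_injective (fun g => ⟨g.1, hN g g.2⟩) fun a b h => Subtype.ext (congrArg (fun z => z.1) h)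
    have e3 : Fintype.card {g : alternatingGroup (Fin 5) // g * u * g⁻¹ = u ^ 1 ∨ g * u * g⁻¹ = u ^ 2} = 6 := by
      decide +kernel
    have e4 := (normalizer (zpowers u : Set (alternatingGroup (Fin 5)))).card_mul_index
    rw [hcard] at e4
    rw [e3] at e2
    nlinarith

theorem sym_small {n p : ℕ} [hp : Fact p.Prime] (u : Perm (Fin n)) (hu : orderOf u = p)
    (hu1 : Perm.sign u = 1) (hp2 : ¬ p ^ 2 ∣ Nat.card (Perm (Fin n))) (hC : ∀ g, g * u = u * g → g ∈ zpowers u)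
    (hN : ∃ g : Perm (Fin n), g * u * g⁻¹ ∉ zpowers u) (hn : 2 ≤ n)
    (𝓐 : Finset (Subgroup (Perm (Fin n)))) (hcov : ∀ g, ∃ A ∈ 𝓐, g ∈ A)
    (hprop : ∀ A ∈ 𝓐, A ≠ ⊤)
    (hmin : ∀ 𝓑 : Finset (Subgroup (Perm (Fin n))), (∀ A ∈ 𝓑, A ≠ ⊤) ∧ (∀ g, ∃ A ∈ 𝓑, g ∈ A) → 𝓐.card ≤ 𝓑.card)
    (hnil : ∀ A ∈ 𝓐, Group.IsNilpotent A) : False := by
  haveI : Nontrivial (Fin n) := Fin.nontrivial_iff_two_le.2 hn
  obtain ⟨R, hR, hRc, hRu⟩ := Cfsg.Lib.PGroup.exists_members 𝓐 hcov hnil
    (le_normalizer (mem_zpowers u)) (key_conj hu hp2)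
  refine Cfsg.Lib.PGroup.false_of_replace 𝓐 hcov hprop hmin R hR {alternatingGroup (Fin n)}
    (fun Q hQ h => ?_) ?_ fun A hA x hx => Or.inl ⟨_, Finset.mem_singleton_self _, ?_⟩
  · rw [Finset.mem_singleton] at hQ
    subst hQ
    have h2 := alternatingGroup.index_eq_two (α := Fin n)
    rw [h, index_top] at h2
    omega
  · rw [Finset.card_singleton, hRc]
    have h1 : (normalizer (zpowers u : Set (Perm (Fin n)))).index ≠ 1 := fun h => by
      obtain ⟨g, hg⟩ := hN
      exact hg ((mem_normalizer_iff.1 (index_eq_one.1 h ▸ Subgroup.mem_top g) u).1 (mem_zpowers u))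
    have h0 : (normalizer (zpowers u : Set (Perm (Fin n)))).index ≠ 0 := FiniteIndex.index_ne_zero
    omega
  · obtain ⟨g, hg⟩ := hRu A hA
    have hA' : Group.IsNilpotent (A.map (MulAut.conj g⁻¹).toMonoidHom) :=
      (Group.isNilpotent_congr (A.equivMapOfInjective (MulAut.conj g⁻¹).toMonoidHom (MulAut.conj g⁻¹).injective)).1
        (hnil A (hR hA))
    obtain ⟨i, hi⟩ := mem_zpowers_iff.1
      (le_of_centralizer hu hC hA' ⟨_, hg, by simp [mul_assoc]⟩ ⟨x, hx, rfl⟩)
    rw [Equiv.Perm.mem_alternatingGroup]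
    have h3 := congrArg Perm.sign hi
    rw [map_zpow, hu1, one_zpow] at h3
    rw [show Perm.sign x = Perm.sign ((MulAut.conj g⁻¹).toMonoidHom x) from by
      simp [MulAut.conj_apply, mul_left_comm (Perm.sign g) (Perm.sign x), mul_comm]]
    exact h3.symm

/-- A cover of a group is a finite set of proper subgroups whose union is the whole group; it is minimal when no cover has fewer members, and nilpotent when all its members are nilpotent. The alternating groups of degree at least 5 and the symmetric groups of degree at least 4 have no nilpotent minimal cover. -/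
theorem result (n : ℕ) :
    (5 ≤ n → ¬ ∃ 𝓐 : Finset (Subgroup ↥(alternatingGroup (Fin n))), ((∀ A ∈ 𝓐, A ≠ ⊤) ∧ (∀ g : ↥(alternatingGroup (Fin n)), ∃ A ∈ 𝓐, g ∈ A)) ∧ (∀ 𝓑 : Finset (Subgroup ↥(alternatingGroup (Fin n))), (∀ A ∈ 𝓑, A ≠ ⊤) ∧ (∀ g : ↥(alternatingGroup (Fin n)), ∃ A ∈ 𝓑, g ∈ A) → 𝓐.card ≤ 𝓑.card) ∧ (∀ A ∈ 𝓐, Group.IsNilpotent ↥A)) ∧
    (4 ≤ n → ¬ ∃ 𝓐 : Finset (Subgroup (Equiv.Perm (Fin n))), ((∀ A ∈ 𝓐, A ≠ ⊤) ∧ (∀ g : (Equiv.Perm (Fin n)), ∃ A ∈ 𝓐, g ∈ A)) ∧ (∀ 𝓑 : Finset (Subgroup (Equiv.Perm (Fin n))), (∀ A ∈ 𝓑, A ≠ ⊤) ∧ (∀ g : (Equiv.Perm (Fin n)), ∃ A ∈ 𝓑, g ∈ A) → 𝓐.card ≤ 𝓑.card) ∧ (∀ A ∈ 𝓐, Group.IsNilpotent ↥A)) := by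
  refine ⟨fun hn => ?_, fun hn => ?_⟩
  · rintro ⟨𝓐, ⟨hprop, hcov⟩, hmin, hnil⟩
    rcases Nat.lt_or_ge n 6 with h | h
    · obtain rfl : n = 5 := by omega
      exact alt_five 𝓐 hcov hprop hmin hnil
    · exact main_large h (alternatingGroup (Fin n)).subtype Subtype.coe_injective
        (fun s hs => ⟨⟨s, hs⟩, rfl⟩) 𝓐 hcov hprop hmin hnil
  · rintro ⟨𝓐, ⟨hprop, hcov⟩, hmin, hnil⟩
    rcases Nat.lt_or_ge n 6 with h | h
    · interval_cases n
      · haveI : Fact (Nat.Prime 3) := ⟨by norm_num⟩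
        refine sym_small (p := 3) (Equiv.swap 0 1 * Equiv.swap 1 2) (orderOf_eq_prime (by decide) (by decide)) (by decide)
          (by rw [Nat.card_eq_fintype_card, Fintype.card_perm, Fintype.card_fin]; decide)
          (fun g hg => ?_) ⟨Equiv.swap 0 3, fun hm => ?_⟩ (by norm_num) 𝓐 hcov hprop hmin hnil
        · have : ∀ g : Perm (Fin 4), g * (Equiv.swap 0 1 * Equiv.swap 1 2) = (Equiv.swap 0 1 * Equiv.swap 1 2) * g →
              ∃ k : Fin 3, g = (Equiv.swap 0 1 * Equiv.swap 1 2) ^ (k : ℕ) := by decide +kernel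
          obtain ⟨k, rfl⟩ := this g hg
          exact pow_mem (mem_zpowers _) _
        · obtain ⟨i, hi⟩ := mem_zpowers_iff.1 hm
          have h1 := congrArg (fun s : Perm (Fin 4) => s 3) hi
          rw [Equiv.Perm.zpow_apply_eq_self_of_apply_eq_self (by decide) i] at h1
          revert h1; decide
      · haveI : Fact (Nat.Prime 5) := ⟨by norm_num⟩
        let u : Perm (Fin 5) := finRotate 5
        refine sym_small (p := 5) u (orderOf_eq_prime (by decide +kernel) (by decide)) (by decide +kernel)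
          (by rw [Nat.card_eq_fintype_card, Fintype.card_perm, Fintype.card_fin]; decide)
          (fun g hg => ?_) ⟨Equiv.swap 0 1, fun hm => ?_⟩ (by norm_num) 𝓐 hcov hprop hmin hnil
        · have : ∀ g : Perm (Fin 5), g * u = u * g → ∃ k : Fin 5, g = u ^ (k : ℕ) := by decide +kernel
          obtain ⟨k, rfl⟩ := this g hg
          exact pow_mem (mem_zpowers _) _
        · obtain ⟨i, hi⟩ := mem_zpowers_iff.1 hm
          have h1 : Commute (u ^ i) u := (Commute.refl u).zpow_left i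
          rw [hi] at h1
          exact absurd h1.eq (by decide +kernel)
    · exact main_large h (MonoidHom.id _) Function.injective_id (fun s _ => ⟨s, rfl⟩) 𝓐 hcov hprop hmin hnil

end Cfsg.Agent.S3892
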