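import Cfsg.Statements.S3893
import Cfsg.Agent.S3639
import Cfsg.Agent.S2354
import Cfsg.Agent.Lib.PGroup.NilpotentCover
-- import your own Cfsg.Agent.* helpers here

set_option autoImplicit false
open Cfsg

namespace Cfsg.Agent.S3893

open Subgroup Matrix Cfsg.Agent.S3639

section
variable {F : Type*} [Field F] [CharP F 2] {E : ℕ}

/-- A unipotent involution in lower triangular form. -/
def uMat : Matrix (Fin 4) (Fin 4) F := !![1, 0, 0, 0; 0, 1, 0, 0; 1, 0, 1, 0; 1, 1, 0, 1]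

theorem uMat_mul : (uMat : Matrix (Fin 4) (Fin 4) F) * uMat = 1 := by
  ext i j
  fin_cases i <;> fin_cases j <;> simp [uMat, Matrix.mul_apply, Fin.sum_univ_four, CharTwo.add_self_eq_zero]

/-- The involution. -/
def uGL : GL (Fin 4) F := ⟨uMat, uMat, uMat_mul, uMat_mul⟩

theorem uGL_mem (hE : E ≠ 0) : (uGL : GL (Fin 4) F) ∈ Cfsg.Lie.Sz F E := by
  have h2 : (2 : F) = 0 := CharTwo.two_eq_zero
  refine Subgroup.subset_closure ⟨?_, ?_⟩
  · intro a b
    simp [uGL, uMat, Cfsg.Lie.altForm4, Matrix.mulVec, dotProduct, Fin.sum_univ_four]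
    linear_combination (a 0 * b 0 + a 0 * b 1 + a 1 * b 0) * h2
  · ext i j
    fin_cases i <;> fin_cases j <;>
      simp [uGL, uMat, star4_apply, minor, Cfsg.Lie.pairOf, CharTwo.neg_eq, zero_pow hE]

/-- The antidiagonal involution. -/
def wMat : Matrix (Fin 4) (Fin 4) F := !![0,0,0,1; 0,0,1,0; 0,1,0,0; 1,0,0,0]

omit [CharP F 2] in
theorem wMat_mul : (wMat : Matrix (Fin 4) (Fin 4) F) * wMat = 1 := by
  ext i j
  fin_cases i <;> fin_cases j <;> simp [wMat, Matrix.mul_apply, Fin.sum_univ_four]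

theorem wGL_mem (hE : E ≠ 0) : (⟨wMat, wMat, wMat_mul, wMat_mul⟩ : GL (Fin 4) F) ∈ Cfsg.Lie.Sz F E := by
  refine Subgroup.subset_closure ⟨?_, ?_⟩
  · intro a b
    simp [wMat, Cfsg.Lie.altForm4, Matrix.mulVec, dotProduct, Fin.sum_univ_four]
    ring
  · ext i j
    fin_cases i <;> fin_cases j <;>
      simp [wMat, star4_apply, minor, Cfsg.Lie.pairOf, CharTwo.neg_eq, zero_pow hE]

/-- Lower triangular shape. -/
def Low (g : GL (Fin 4) F) : Prop := ∀ i j : Fin 4, i < j → g.val i j = 0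

variable [Finite F]

/-- The lower triangular subgroup of a group of matrices. -/
def lowSub (S : Subgroup (GL (Fin 4) F)) : Subgroup S where
  carrier := {g | (g : GL (Fin 4) F).val.BlockTriangular OrderDual.toDual}
  one_mem' := Matrix.blockTriangular_one
  mul_mem' := fun {a b} ha hb => Matrix.BlockTriangular.mul ha hb
  inv_mem' := fun {a} ha => by
    show ((a⁻¹ : S) : GL (Fin 4) F).val.BlockTriangular OrderDual.toDual
    have : a⁻¹ = a ^ (orderOf a - 1) := by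
      apply inv_eq_of_mul_eq_one_right
      rw [← pow_succ', Nat.sub_add_cancel (orderOf_pos a), pow_orderOf_eq_one]
    rw [this]
    induction orderOf a - 1 with
    | zero => exact Matrix.blockTriangular_one
    | succ k ih => rw [pow_succ]; exact Matrix.BlockTriangular.mul ih ha

theorem mem_lowSub {S : Subgroup (GL (Fin 4) F)} {g : S} : g ∈ lowSub S ↔ Low (g : GL (Fin 4) F) :=
  ⟨fun h i j hij => h (by exact hij), fun h i j hij => h i j hij⟩

variable {m : ℕ}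

theorem pow_inj {a b : F} (h : a ^ 2 ^ (m + 1) = b ^ 2 ^ (m + 1)) : a = b :=
  iterateFrobenius_inj F 2 (m + 1) h

/-- Only triangular elements conjugate the involution to a triangular element. -/
theorem low_of_conj {g v : GL (Fin 4) F} (hg : g ∈ Cfsg.Lie.Sz F (2 ^ (m + 1)))
    (hv : v ∈ Cfsg.Lie.Sz F (2 ^ (m + 1))) (hlv : Low v) (he : g * uGL = v * g) : Low g := by
  obtain ⟨-, hgs⟩ := szProp_of_mem hg
  obtain ⟨-, hvs⟩ := szProp_of_mem hv
  set a := g.val with ha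
  set w := v.val with hw
  have hvv : w * w = 1 := by
    have h1 : v * v = 1 := by
      rw [show v = g * uGL * g⁻¹ by rw [he]; group,
        show g * uGL * g⁻¹ * (g * uGL * g⁻¹) = g * (uGL * uGL) * g⁻¹ by group,
        show (uGL : GL (Fin 4) F) * uGL = 1 from Units.ext uMat_mul]
      group
    simpa using congrArg Units.val h1
  have hz : ∀ i j : Fin 4, i < j → w i j = 0 := hlv
  have hd : ∀ i, w i i = 1 := by
    intro i
    have h := congrFun (congrFun hvv i) i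
    rw [Matrix.mul_apply, Finset.sum_eq_single i (fun j _ hj => by
      rcases lt_or_gt_of_ne hj with h' | h'
      · rw [hz j i h', mul_zero]
      · rw [hz i j h', zero_mul]) (by simp), Matrix.one_apply_eq] at h
    exact CharTwo.sq_injective (show w i i ^ 2 = (1 : F) ^ 2 by rw [one_pow, sq]; exact h)
  have s1 := congrFun (congrFun hvs 1) 0
  simp [star4_apply, minor, Cfsg.Lie.pairOf, ← hw, hd, hz 0 1 (by decide)] at s1
  have q20 := congrFun (congrFun hvv 2) 0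
  simp [Matrix.mul_apply, Fin.sum_univ_four, hd, hz 2 3 (by decide)] at q20
  have h10 : w 1 0 = 0 := by
    rw [add_comm (w 2 0), add_assoc, ← add_assoc, add_comm, ← add_assoc] at q20
    have : w 2 1 * w 1 0 = 0 := by
      linear_combination q20 - w 2 0 * (CharTwo.two_eq_zero (R := F))
    rw [s1] at this
    rcases mul_eq_zero.1 this with h | h
    · exact (pow_eq_zero_iff (by positivity)).1 h
    · exact h
  have E0 : ∀ i j, (a * (uMat : Matrix (Fin 4) (Fin 4) F)) i j = (w * a) i j := fun i j =>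
    congrFun (congrFun (congrArg (fun x : GL (Fin 4) F => (x.val : Matrix (Fin 4) (Fin 4) F)) he) i) j
  have e00 := E0 0 0
  have e01 := E0 0 1
  have e10 := E0 1 0
  have e11 := E0 1 1
  simp [uMat, Matrix.mul_apply, Fin.sum_univ_four, hd, h10, hz 0 1 (by decide), hz 0 2 (by decide),
    hz 0 3 (by decide), hz 1 2 (by decide), hz 1 3 (by decide)] at e00 e01 e10 e11
  have a03 : a 0 3 = 0 := e01
  have a13 : a 1 3 = 0 := e11
  have a02 : a 0 2 = 0 := by simpa [a03] using e00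
  have a12 : a 1 2 = 0 := by simpa [a13] using e10
  have t1 := congrFun (congrFun hgs 0) 1
  simp [star4_apply, minor, Cfsg.Lie.pairOf, ← ha, a02, a12] at t1
  have t2 := congrFun (congrFun hgs 2) 3
  simp [star4_apply, minor, Cfsg.Lie.pairOf, ← ha, a12, a13] at t2
  have t1' : a 0 1 = 0 := (pow_eq_zero_iff (by positivity)).1 t1.symm
  have t2' : a 2 3 = 0 := (pow_eq_zero_iff (by positivity)).1 t2.symm
  intro i j hij
  fin_cases i <;> fin_cases j <;> first
    | (exact absurd hij (by decide))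
    | exact a02
    | exact a03
    | exact a12
    | exact a13
    | exact t1'
    | exact t2'

/-- A triangular element commuting with the involution is unipotent of order at most four. -/
theorem pow_four_of_commute {g : GL (Fin 4) F} (hg : g ∈ Cfsg.Lie.Sz F (2 ^ (m + 1))) (hl : Low g)
    (he : g * uGL = uGL * g) : g ^ 4 = 1 := by
  obtain ⟨hsp, hgs⟩ := szProp_of_mem hg
  set a := g.val with ha
  have hz : ∀ i j : Fin 4, i < j → a i j = 0 := hl
  have e20 := congrFun (congrFun (congrArg (fun x : GL (Fin 4) F => (x.val : Matrix (Fin 4) (Fin 4) F)) he) 2) 0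
  simp [uGL, uMat, Matrix.mul_apply, Fin.sum_univ_four, ← ha, hz 2 3 (by decide)] at e20
  have s0 := congrFun (congrFun hgs 0) 0
  simp [star4_apply, minor, Cfsg.Lie.pairOf, ← ha, hz 0 1 (by decide)] at s0
  have r11 := congrFun (congrFun (sadj_mul hsp) 1) 1
  simp [sadj, Matrix.mul_apply, Fin.sum_univ_four, ← ha, hz 0 1 (by decide), hz 1 2 (by decide),
    hz 2 3 (by decide), hz 1 3 (by decide), hz 0 2 (by decide)] at r11
  have h22 : a 2 2 = a 0 0 := by linear_combination e20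
  have h00 : a 0 0 = 1 := by
    refine pow_inj (m := m) ?_
    rw [one_pow, ← s0]
    linear_combination r11 - a 1 1 * h22
  refine pow_four_eq_one hg (v := Pi.single 3 1) (by simp) ?_
  have r00 := congrFun (congrFun (sadj_mul hsp) 0) 0
  simp [sadj, Matrix.mul_apply, Fin.sum_univ_four, ← ha, hz 0 1 (by decide), hz 0 2 (by decide),
    hz 0 3 (by decide), hz 2 3 (by decide), hz 1 3 (by decide), h00] at r00
  funext i
  fin_cases i <;>
    simp [← ha, Matrix.mulVec_single_one, Matrix.col, hz 0 3 (by decide), hz 1 3 (by decide),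
      hz 2 3 (by decide), r00]

end

section
variable {F : Type*} [Field F] [Fintype F] [CharP F 2] {m : ℕ}

/-- Commuting with a diagonal element with distinct entries. -/
theorem diag_of_commute {g d : GL (Fin 4) F} (hd : ∀ i j : Fin 4, i ≠ j → d.val i j = 0)
    (hne : ∀ i j : Fin 4, i ≠ j → d.val i i ≠ d.val j j) (h : g * d = d * g) :
    ∀ i j : Fin 4, i ≠ j → g.val i j = 0 := by
  intro i j hij
  have h1 := congrFun (congrFun (congrArg (fun x : GL (Fin 4) F => (x.val : Matrix (Fin 4) (Fin 4) F)) h) i) j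
  rw [Units.val_mul, Units.val_mul, Matrix.mul_apply, Matrix.mul_apply,
    Finset.sum_eq_single j (fun k _ hk => by rw [hd k j hk, mul_zero]) (by simp),
    Finset.sum_eq_single i (fun k _ hk => by rw [hd i k hk.symm, zero_mul]) (by simp)] at h1
  have h2 : g.val i j * (d.val j j - d.val i i) = 0 := by linear_combination h1
  exact (mul_eq_zero.1 h2).resolve_right (sub_ne_zero.2 (hne j i hij.symm))

theorem distinct_of_diag (hF : Fintype.card F = 2 ^ (2 * m + 1)) {d : GL (Fin 4) F}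
    (hd : d ∈ Cfsg.Lie.Sz F (2 ^ (m + 1))) (hdiag : ∀ i j : Fin 4, i ≠ j → d.val i j = 0) (hd1 : d ≠ 1) :
    ∀ i j : Fin 4, i ≠ j → d.val i i ≠ d.val j j := by
  obtain ⟨hsp, hds⟩ := szProp_of_mem hd
  set a := d.val with ha
  set E := 2 ^ (m + 1) with hE
  have hEE : E * E = Fintype.card F * 2 := by rw [hF, hE, ← pow_add, ← pow_succ]; congr 1; omega
  have hpE : ∀ t : F, (t ^ E) ^ E = t ^ 2 := fun t => by rw [← pow_mul, hEE, pow_mul, FiniteField.pow_card]
  have s0 := congrFun (congrFun hds 0) 0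
  simp [star4_apply, minor, Cfsg.Lie.pairOf, ← ha, hdiag 0 1 (by decide)] at s0
  have r00 := congrFun (congrFun (sadj_mul hsp) 0) 0
  simp [sadj, Matrix.mul_apply, Fin.sum_univ_four, ← ha, hdiag 0 1 (by decide), hdiag 0 2 (by decide),
    hdiag 0 3 (by decide), hdiag 1 0 (by decide), hdiag 2 0 (by decide), hdiag 3 0 (by decide),
    hdiag 3 1 (by decide), hdiag 3 2 (by decide)] at r00
  have r11 := congrFun (congrFun (sadj_mul hsp) 1) 1
  simp [sadj, Matrix.mul_apply, Fin.sum_univ_four, ← ha, hdiag 0 1 (by decide), hdiag 1 0 (by decide),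
    hdiag 2 1 (by decide), hdiag 2 0 (by decide), hdiag 2 3 (by decide), hdiag 3 1 (by decide),
    hdiag 0 2 (by decide), hdiag 1 3 (by decide), hdiag 1 2 (by decide)] at r11
  set t := a 0 0 with ht
  set s := a 1 1 with hs
  have ht0 : t ≠ 0 := by rintro e; rw [e] at r00; simp at r00
  have hs0 : s ≠ 0 := by rintro e; rw [e] at r11; simp at r11
  have h33 : a 3 3 = t⁻¹ := by
    refine eq_inv_of_mul_eq_one_left ?_
    linear_combination r00
  have h22 : a 2 2 = s⁻¹ := by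
    refine eq_inv_of_mul_eq_one_left ?_
    linear_combination r11
  have sq2 : ∀ x y : F, x ^ 2 = y ^ 2 → x = y := fun x y h => CharTwo.sq_injective h
  have ht1 : t ≠ 1 := by
    intro e
    refine hd1 (Units.ext ?_)
    have : s = 1 := by rw [e, one_pow] at s0; rw [← s0]; ring
    ext i j
    rw [← ha]
    fin_cases i <;> fin_cases j <;>
      simp [hdiag, ← ht, ← hs, e, this, h33, h22]
  intro i j hij heq
  have k1 : s ≠ t := by
    intro e
    refine ht1 ?_
    have h1 : t ^ E = t ^ 2 := by rw [← s0, e]; ring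
    have h2 : (t ^ 2) ^ 2 = t ^ 2 := calc
      (t ^ 2) ^ 2 = (t ^ E) ^ 2 := by rw [h1]
      _ = (t ^ 2) ^ E := by rw [← pow_mul, ← pow_mul, mul_comm]
      _ = (t ^ E) ^ E := by rw [h1]
      _ = t ^ 2 := hpE t
    have h3 := sq2 _ _ h2
    have h4 : t * (t - 1) = 0 := by linear_combination h3
    exact sub_eq_zero.1 ((mul_eq_zero.1 h4).resolve_left ht0)
  have k2 : s ≠ t⁻¹ := by
    intro e
    refine ht1 ?_
    have h1 : t ^ E = 1 := by rw [← s0, e, mul_inv_cancel₀ ht0]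
    refine sq2 _ _ ?_
    rw [← hpE t, h1, one_pow, one_pow]
  have k3 : s ≠ s⁻¹ := by
    intro e
    refine ht1 ?_
    have h0 : s ^ 2 = 1 := by nth_rewrite 1 [sq, e]; exact inv_mul_cancel₀ hs0
    have h1 : t ^ E = t := by
      rw [← s0, sq2 s 1 (by rw [h0, one_pow]), mul_one]
    have h2 := hpE t
    rw [h1, h1] at h2
    have h4 : t * (t - 1) = 0 := by linear_combination -h2
    exact sub_eq_zero.1 ((mul_eq_zero.1 h4).resolve_left ht0)
  have k4 : t ≠ t⁻¹ := by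
    intro e
    refine ht1 (sq2 _ _ ?_)
    nth_rewrite 1 [sq, e]
    rw [one_pow]
    exact inv_mul_cancel₀ ht0
  have k5 : t ≠ s⁻¹ := fun e => k2 (by rw [e, inv_inv])
  fin_cases i <;> fin_cases j <;> first
    | exact hij rfl
    | (simp [← ha, ← ht, ← hs, h22, h33] at heq
       first
        | exact k1 heq | exact k1 heq.symm | exact k2 heq | exact k2 heq.symm | exact k3 heq | exact k3 heq.symm
        | exact k4 heq | exact k4 heq.symm | exact k5 heq | exact k5 heq.symm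
        | exact k1 (inv_injective heq) | exact k1 (inv_injective heq).symm)

theorem exists_torus (hm : 1 ≤ m) (hF : Fintype.card F = 2 ^ (2 * m + 1)) :
    ∃ d ∈ Cfsg.Lie.Sz F (2 ^ (m + 1)), (∀ i j : Fin 4, i ≠ j → d.val i j = 0) ∧ d ≠ 1 ∧ Odd (orderOf d) := by
  classical
  set E := 2 ^ (m + 1) with hE
  have hE2 : 2 ≤ E := le_self_pow₀ one_le_two (by omega)
  have hEE : E * E = Fintype.card F * 2 := by rw [hF, hE, ← pow_add, ← pow_succ]; congr 1; omega
  haveI : Nontrivial Fˣ := by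
    rw [← Fintype.one_lt_card_iff_nontrivial, Fintype.card_units, hF]
    have : 2 ^ 3 ≤ 2 ^ (2 * m + 1) := Nat.pow_le_pow_right two_pos (by omega)
    omega
  obtain ⟨t, ht⟩ := exists_ne (1 : Fˣ)
  set c : Fin 4 → Fˣ := ![t, t ^ (E - 1), (t ^ (E - 1))⁻¹, t⁻¹] with hc
  let d : GL (Fin 4) F := ⟨Matrix.diagonal fun l => (c l : F), Matrix.diagonal fun l => ((c l)⁻¹ : Fˣ),
    by rw [Matrix.diagonal_mul_diagonal]; simp, by rw [Matrix.diagonal_mul_diagonal]; simp⟩
  have hd : d ∈ Cfsg.Lie.Sz F E := by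
    refine Subgroup.subset_closure ⟨?_, ?_⟩
    · intro u v
      have h0 := t.ne_zero
      have h0' : (t : F) ^ (E - 1) ≠ 0 := pow_ne_zero _ h0
      simp only [d, Units.coeHom_apply, Cfsg.Lie.altForm4, Matrix.mulVec_diagonal, hc, Units.val_inv_eq_inv_val,
        Units.val_pow_eq_pow_val, Matrix.cons_val]
      field_simp
    · have h0 := t.ne_zero
      have h0' : (t : F) ^ (E - 1) ≠ 0 := pow_ne_zero _ h0
      have e1 : (t : F) ^ E = (t : F) ^ (E - 1) * t := by rw [← pow_succ]; congr 1; omega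
      have e2 : ((t : F) ^ (E - 1)) ^ E = (t : F) / (t : F) ^ (E - 1) := by
        apply mul_right_cancel₀ (pow_ne_zero E h0)
        rw [← mul_pow, ← pow_succ, show E - 1 + 1 = E by omega, ← pow_mul, hEE, pow_mul, FiniteField.pow_card, sq, e1]
        field_simp
      simp only [d]
      rw [Cfsg.Agent.S2354.star4_diagonal, Matrix.diagonal_map (f := fun x : F => x ^ E) (zero_pow (M₀ := F) (by omega : E ≠ 0))]
      refine congrArg Matrix.diagonal (funext fun l => ?_)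
      fin_cases l <;>
        simp only [hc, Units.val_inv_eq_inv_val, Units.val_pow_eq_pow_val, Matrix.cons_val, Fin.zero_eta, Fin.mk_one,
          Fin.reduceFinMk, inv_pow, e2, Function.comp_apply] <;>
        (try rw [e1]) <;> field_simp
  refine ⟨d, hd, fun i j h => Matrix.diagonal_apply_ne _ h, fun h => ht ?_, ?_⟩
  · have := congrFun (congrFun (congrArg (fun x : GL (Fin 4) F => (x.val : Matrix (Fin 4) (Fin 4) F)) h) 0) 0
    simpa [d, hc] using this
  · refine Odd.of_dvd_nat (?_ : Odd (Fintype.card F - 1)) (orderOf_dvd_of_pow_eq_one ?_)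
    · rw [hF]
      exact Nat.Even.sub_odd Nat.one_le_two_pow (Nat.even_pow.2 ⟨even_two, by omega⟩) odd_one
    · refine Units.ext ?_
      rw [Units.val_pow_eq_pow_val]
      simp only [d]
      rw [Matrix.diagonal_pow, Units.val_one, ← Matrix.diagonal_one]
      exact congrArg Matrix.diagonal (funext fun l => FiniteField.pow_card_sub_one_eq_one _ (c l).ne_zero)

theorem main (hm : 1 ≤ m) (hF : Fintype.card F = 2 ^ (2 * m + 1))
    (𝓐 : Finset (Subgroup ↥(Cfsg.Lie.Sz F (2 ^ (m + 1)))))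
    (hcov : ∀ g, ∃ A ∈ 𝓐, g ∈ A) (hprop : ∀ A ∈ 𝓐, A ≠ ⊤)
    (hmin : ∀ 𝓑 : Finset (Subgroup ↥(Cfsg.Lie.Sz F (2 ^ (m + 1)))), (∀ A ∈ 𝓑, A ≠ ⊤) ∧ (∀ g, ∃ A ∈ 𝓑, g ∈ A) → 𝓐.card ≤ 𝓑.card)
    (hnil : ∀ A ∈ 𝓐, Group.IsNilpotent A) : False := by
  have hE : 2 ^ (m + 1) ≠ 0 := by positivity
  obtain ⟨d, hdS, hdd, hd1, hdo⟩ := exists_torus (F := F) hm hF
  have hu : Low (uGL : GL (Fin 4) F) := by
    intro i j hij
    fin_cases i <;> fin_cases j <;> first | exact absurd hij (by decide) | simp [uGL, uMat]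
  have key : ∀ g : (Cfsg.Lie.Sz F (2 ^ (m + 1))), g * ⟨uGL, uGL_mem hE⟩ * g⁻¹ ∈ lowSub (Cfsg.Lie.Sz F (2 ^ (m + 1))) → g ∈ lowSub (Cfsg.Lie.Sz F (2 ^ (m + 1))) := by
    intro g hg
    rw [mem_lowSub] at hg ⊢
    exact low_of_conj g.2 (g * ⟨uGL, uGL_mem hE⟩ * g⁻¹ : (Cfsg.Lie.Sz F (2 ^ (m + 1)))).2 hg (by simp)
  refine Cfsg.Lib.PGroup.false_of_extra (B := lowSub (Cfsg.Lie.Sz F (2 ^ (m + 1)))) (fun h => ?_) (u := ⟨uGL, uGL_mem hE⟩)
    (mem_lowSub.2 hu) key ⟨d, hdS⟩ ?_ ?_ 𝓐 hcov hprop hmin hnil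
  · have hw : (⟨⟨wMat, wMat, wMat_mul, wMat_mul⟩, wGL_mem hE⟩ : (Cfsg.Lie.Sz F (2 ^ (m + 1)))) ∈ lowSub (Cfsg.Lie.Sz F (2 ^ (m + 1))) := h ▸ Subgroup.mem_top _
    have := mem_lowSub.1 hw 0 3 (by decide)
    simp [wMat] at this
  · intro A hA hzA g hgA
    have := hA
    have hu2 : orderOf (g * ⟨uGL, uGL_mem hE⟩ * g⁻¹ : (Cfsg.Lie.Sz F (2 ^ (m + 1)))) ∣ 2 := orderOf_dvd_of_pow_eq_one (by
      rw [conj_pow, show (⟨uGL, uGL_mem hE⟩ : (Cfsg.Lie.Sz F (2 ^ (m + 1)))) ^ 2 = 1 from Subtype.ext (by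
        rw [SubmonoidClass.coe_pow, sq]; exact Units.ext uMat_mul)]
      group)
    have hz2 : (orderOf (⟨d, hdS⟩ : (Cfsg.Lie.Sz F (2 ^ (m + 1))))).Coprime 2 := by
      rw [← Subgroup.orderOf_coe]; exact Nat.coprime_two_right.2 hdo
    have hc : Commute (⟨_, hzA⟩ : A) ⟨_, hgA⟩ := Cfsg.Lib.PGroup.commute_of_coprime_orderOf _ _ (by
      rw [← Subgroup.orderOf_coe (⟨_, hzA⟩ : A), ← Subgroup.orderOf_coe (⟨_, hgA⟩ : A)]
      exact Nat.Coprime.of_dvd_right hu2 hz2)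
    have hc' := congrArg Subtype.val hc.eq
    simp only [Subgroup.coe_mul] at hc'
    set v : (Cfsg.Lie.Sz F (2 ^ (m + 1))) := g⁻¹ * ⟨d, hdS⟩ * g with hv
    have hvu : v * ⟨uGL, uGL_mem hE⟩ = ⟨uGL, uGL_mem hE⟩ * v := by
      rw [hv, show g⁻¹ * ⟨d, hdS⟩ * g * ⟨uGL, uGL_mem hE⟩ = g⁻¹ * (⟨d, hdS⟩ * (g * ⟨uGL, uGL_mem hE⟩ * g⁻¹)) * g by group,
        hc']
      group
    have hvl : v ∈ lowSub (Cfsg.Lie.Sz F (2 ^ (m + 1))) := key v (by
      rw [hvu, mul_inv_cancel_right]; exact mem_lowSub.2 hu)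
    have h4 : v ^ 4 = 1 := Subtype.ext (by
      rw [SubmonoidClass.coe_pow]
      exact pow_four_of_commute v.2 (mem_lowSub.1 hvl) (congrArg Subtype.val hvu))
    have h5 : orderOf (⟨d, hdS⟩ : (Cfsg.Lie.Sz F (2 ^ (m + 1)))) ∣ 2 ^ 2 := orderOf_dvd_of_pow_eq_one (by
      have : v ^ 4 = g⁻¹ * (⟨d, hdS⟩ : (Cfsg.Lie.Sz F (2 ^ (m + 1)))) ^ 4 * g := by
        have h6 := conj_pow (i := 4) (a := g⁻¹) (b := (⟨d, hdS⟩ : (Cfsg.Lie.Sz F (2 ^ (m + 1)))))
        rwa [inv_inv] at h6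
      rw [h4] at this
      calc (⟨d, hdS⟩ : (Cfsg.Lie.Sz F (2 ^ (m + 1)))) ^ 4 = g * (g⁻¹ * (⟨d, hdS⟩ : (Cfsg.Lie.Sz F (2 ^ (m + 1)))) ^ 4 * g) * g⁻¹ := by group
        _ = 1 := by rw [← this]; group)
    have h6 : orderOf (⟨d, hdS⟩ : (Cfsg.Lie.Sz F (2 ^ (m + 1)))) = 1 := Nat.eq_one_of_dvd_coprimes (hz2.pow_right 2) dvd_rfl h5
    exact hd1 (congrArg Subtype.val (orderOf_eq_one_iff.1 h6))
  · intro A hA hzA x hx
    have := hA
    refine ⟨1, ?_⟩
    haveI : Nontrivial A := ⟨⟨⟨_, hzA⟩, 1, fun h => hd1 (congrArg (fun a : A => ((a : (Cfsg.Lie.Sz F (2 ^ (m + 1)))) : GL (Fin 4) F)) h)⟩⟩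
    haveI : Nontrivial (Subgroup.center A) := (Subgroup.nontrivial_iff_ne_bot _).2 (Group.IsNilpotent.center_ne_bot A)
    obtain ⟨w, hw⟩ := exists_ne (1 : Subgroup.center A)
    have hwc : ∀ y : A, ((y : (Cfsg.Lie.Sz F (2 ^ (m + 1)))) : GL (Fin 4) F) * ((w : A) : (Cfsg.Lie.Sz F (2 ^ (m + 1)))) = ((w : A) : (Cfsg.Lie.Sz F (2 ^ (m + 1)))) * ((y : (Cfsg.Lie.Sz F (2 ^ (m + 1)))) : GL (Fin 4) F) := fun y =>
      congrArg (fun a : A => ((a : (Cfsg.Lie.Sz F (2 ^ (m + 1)))) : GL (Fin 4) F)) (Subgroup.mem_center_iff.1 w.2 y)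
    have hwd := diag_of_commute hdd (distinct_of_diag hF hdS hdd hd1) (hwc ⟨_, hzA⟩).symm
    have hw1 : (((w : A) : (Cfsg.Lie.Sz F (2 ^ (m + 1)))) : GL (Fin 4) F) ≠ 1 := fun h => hw (Subtype.ext (Subtype.ext (Subtype.ext h)))
    have hxd := diag_of_commute hwd (distinct_of_diag hF ((w : A) : (Cfsg.Lie.Sz F (2 ^ (m + 1)))).2 hwd hw1) (hwc ⟨x, hx⟩)
    rw [inv_one, one_mul, mul_one, mem_lowSub]
    exact fun i j hij => hxd i j hij.ne

end

/-- A cover of a group is a finite set of proper subgroups whose union is the whole group; it is minimal when no cover has fewer members, and nilpotent when all its members are nilpotent. The Suzuki groups Sz(q), q = 2^(2m+1) with m ≥ 1, have no nilpotent minimal cover. -/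
theorem result {F : Type*} [Field F] [Fintype F] (m : ℕ) (hm : 1 ≤ m) (hF : Fintype.card F = 2 ^ (2 * m + 1)) :
    ¬ ∃ 𝓐 : Finset (Subgroup ↥(Cfsg.Lie.Sz F (2 ^ (m + 1)))), ((∀ A ∈ 𝓐, A ≠ ⊤) ∧ (∀ g : ↥(Cfsg.Lie.Sz F (2 ^ (m + 1))), ∃ A ∈ 𝓐, g ∈ A)) ∧ (∀ 𝓑 : Finset (Subgroup ↥(Cfsg.Lie.Sz F (2 ^ (m + 1)))), (∀ A ∈ 𝓑, A ≠ ⊤) ∧ (∀ g : ↥(Cfsg.Lie.Sz F (2 ^ (m + 1))), ∃ A ∈ 𝓑, g ∈ A) → 𝓐.card ≤ 𝓑.card) ∧ (∀ A ∈ 𝓐, Group.IsNilpotent ↥A) := by
  haveI : CharP F 2 := charP_of_card_eq_prime_pow hF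
  rintro ⟨𝓐, ⟨hprop, hcov⟩, hmin, hnil⟩
  exact main hm hF 𝓐 hcov hprop hmin hnil

end Cfsg.Agent.S3893
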