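import Cfsg.Statements.S3894
import Cfsg.Agent.Lib.PGroup.NilpotentCover
-- import your own Cfsg.Agent.* helpers here

set_option autoImplicit false
open Cfsg

namespace Cfsg.Agent.S3894

open Subgroup Matrix

section General
variable {F : Type*} [Field F] {n : ℕ}

local notation "PI" => QuotientGroup.mk' (Subgroup.center (GL (Fin n) F))

/-- A central element is scalar. -/
theorem exists_scalar {c : GL (Fin n) F} (hc : c ∈ Subgroup.center (GL (Fin n) F)) :
    ∃ a : F, c.val = a • (1 : Matrix (Fin n) (Fin n) F) := by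
  obtain ⟨a, ha⟩ := Matrix.GeneralLinearGroup.mem_center_iff_val_mem_range_scalar.1 hc
  exact ⟨a, by rw [← ha, Matrix.smul_one_eq_diagonal]; rfl⟩

theorem exists_smul_of_eq {x y : GL (Fin n) F} (h : PI x = PI y) : ∃ a : F, y.val = a • x.val := by
  obtain ⟨a, ha⟩ := exists_scalar (QuotientGroup.eq.1 h)
  refine ⟨a, ?_⟩
  calc y.val = x.val * (x⁻¹ * y).val := by rw [← Units.val_mul, mul_inv_cancel_left]
    _ = _ := by rw [ha, mul_smul_comm, mul_one]

theorem eq_one_of_scalar {x : GL (Fin n) F} {a : F} (h : x.val = a • (1 : Matrix (Fin n) (Fin n) F)) :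
    PI x = 1 := by
  refine (QuotientGroup.eq_one_iff _).2 (Matrix.GeneralLinearGroup.mem_center_iff_val_mem_range_scalar.2 ⟨a, ?_⟩)
  rw [h, Matrix.smul_one_eq_diagonal]
  rfl

variable [Finite F]

/-- The group of upper triangular matrices. -/
def triSub : Subgroup (GL (Fin n) F) where
  carrier := {g | g.val.BlockTriangular id}
  one_mem' := Matrix.blockTriangular_one
  mul_mem' := fun {a b} ha hb => Matrix.BlockTriangular.mul ha hb
  inv_mem' := fun {a} ha => by
    show (a⁻¹).val.BlockTriangular id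
    have : a⁻¹ = a ^ (orderOf a - 1) := by
      apply inv_eq_of_mul_eq_one_right
      rw [← pow_succ', Nat.sub_add_cancel (orderOf_pos a), pow_orderOf_eq_one]
    rw [this]
    induction orderOf a - 1 with
    | zero => exact Matrix.blockTriangular_one
    | succ k ih => rw [pow_succ]; exact Matrix.BlockTriangular.mul ih ha

theorem mem_triSub {g : GL (Fin n) F} : g ∈ (triSub : Subgroup (GL (Fin n) F)) ↔ ∀ i j, j < i → g.val i j = 0 :=
  ⟨fun h i j hij => h hij, fun h i j hij => h i j hij⟩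

/-- The stabiliser of the first coordinate line. -/
def lineSub [NeZero n] : Subgroup (GL (Fin n) F) where
  carrier := {g | ∀ i, i ≠ 0 → g.val i 0 = 0}
  one_mem' := fun i hi => Matrix.one_apply_ne hi
  mul_mem' := fun {a b} ha hb i hi => by
    rw [Units.val_mul, Matrix.mul_apply, Finset.sum_eq_single 0 (fun k _ hk => by rw [hb k hk, mul_zero]) (by simp),
      ha i hi, zero_mul]
  inv_mem' := fun {a} ha => by
    show ∀ i, i ≠ 0 → (a⁻¹).val i 0 = 0
    have : a⁻¹ = a ^ (orderOf a - 1) := by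
      apply inv_eq_of_mul_eq_one_right
      rw [← pow_succ', Nat.sub_add_cancel (orderOf_pos a), pow_orderOf_eq_one]
    rw [this]
    induction orderOf a - 1 with
    | zero => exact fun i hi => by rw [pow_zero, Units.val_one]; exact Matrix.one_apply_ne hi
    | succ k ih =>
      intro i hi
      rw [pow_succ, Units.val_mul, Matrix.mul_apply,
        Finset.sum_eq_single 0 (fun l _ hl => by rw [ha l hl, mul_zero]) (by simp), ih i hi, zero_mul]

theorem mem_lineSub [NeZero n] {g : GL (Fin n) F} :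
    g ∈ (lineSub : Subgroup (GL (Fin n) F)) ↔ ∀ i, i ≠ 0 → g.val i 0 = 0 := Iff.rfl

theorem mem_map_of_center_le {H : Subgroup (GL (Fin n) F)} (h : Subgroup.center (GL (Fin n) F) ≤ H)
    {x : GL (Fin n) F} : PI x ∈ H.map PI ↔ x ∈ H := by
  refine ⟨fun hx => ?_, fun hx => ⟨x, hx, rfl⟩⟩
  obtain ⟨y, hy, hyx⟩ := hx
  simpa using mul_mem hy (h (QuotientGroup.eq.1 hyx))

theorem center_le_triSub : Subgroup.center (GL (Fin n) F) ≤ triSub := fun c hc => by
  obtain ⟨a, ha⟩ := exists_scalar hc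
  rw [mem_triSub]
  intro i j hij
  rw [ha, Matrix.smul_apply, Matrix.one_apply_ne hij.ne', smul_zero]

theorem center_le_lineSub [NeZero n] : Subgroup.center (GL (Fin n) F) ≤ lineSub := fun c hc => by
  obtain ⟨a, ha⟩ := exists_scalar hc
  rw [mem_lineSub]
  intro i hi
  rw [ha, Matrix.smul_apply, Matrix.one_apply_ne hi, smul_zero]

theorem triSub_le_lineSub [NeZero n] : (triSub : Subgroup (GL (Fin n) F)) ≤ lineSub := fun g hg i hi =>
  mem_triSub.1 hg i 0 ((Fin.pos_iff_ne_zero' i).2 hi)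

/-- The regular unipotent matrix. -/
def jordan : Matrix (Fin n) (Fin n) F := Matrix.of fun i j => if i = j ∨ (i : ℕ) + 1 = j then 1 else 0

omit [Finite F] in
theorem jordan_triangular : (jordan : Matrix (Fin n) (Fin n) F).BlockTriangular id := fun i j hij => by
  have : (j : ℕ) < i := hij
  simp only [jordan, Matrix.of_apply]
  rw [if_neg]
  rintro (h | h)
  · subst h; omega
  · omega

omit [Finite F] in
theorem jordan_det : (jordan : Matrix (Fin n) (Fin n) F).det = 1 := by
  rw [Matrix.det_of_upperTriangular jordan_triangular]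
  simp [jordan]

/-- The regular unipotent element. -/
def jordanSL : Matrix.SpecialLinearGroup (Fin n) F := ⟨jordan, jordan_det⟩

theorem diag_of_mul {A B : Matrix (Fin n) (Fin n) F} (hA : A.BlockTriangular id) (hB : B.BlockTriangular id)
    (i : Fin n) : (A * B) i i = A i i * B i i := by
  rw [Matrix.mul_apply, Finset.sum_eq_single i (fun l _ hl => ?_) (by simp)]
  rcases lt_or_gt_of_ne hl with h | h
  · rw [hA h, zero_mul]
  · rw [hB h, mul_zero]

/-- Only triangular elements conjugate the regular unipotent element to a triangular one. -/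
theorem tri_of_conj {x : GL (Fin n) F}
    (h : x * Matrix.SpecialLinearGroup.toGL jordanSL * x⁻¹ ∈ (triSub : Subgroup (GL (Fin n) F))) :
    x ∈ (triSub : Subgroup (GL (Fin n) F)) := by
  rw [← inv_mem_iff]
  set J := Matrix.SpecialLinearGroup.toGL (jordanSL : Matrix.SpecialLinearGroup (Fin n) F) with hJ
  set T := (x * J * x⁻¹).val with hT
  have hTt : T.BlockTriangular id := h
  set y := (x⁻¹).val with hy
  set N : Matrix (Fin n) (Fin n) F := jordan - 1 with hN
  have hNy : N * y = y * (T - 1) := by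
    have e : J.val * y = y * T := by rw [hy, hT, ← Units.val_mul, ← Units.val_mul]; group
    rw [hN, sub_mul, mul_sub, one_mul, mul_one, ← e]
    rfl
  have hNnil : IsNilpotent N := by
    refine ⟨n, ?_⟩
    have key : ∀ k : ℕ, ∀ i j : Fin n, (j : ℕ) < i + k → (N ^ k) i j = 0 := by
      intro k
      induction k with
      | zero => intro i j hij; rw [pow_zero, Matrix.one_apply_ne]; rintro rfl; omega
      | succ k ih =>
        intro i j hij
        rw [pow_succ, Matrix.mul_apply]
        refine Finset.sum_eq_zero fun l _ => ?_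
        by_cases hl : (l : ℕ) < i + k
        · rw [ih i l hl, zero_mul]
        · have : N l j = 0 := by
            simp only [hN, jordan, Matrix.sub_apply, Matrix.of_apply, Matrix.one_apply]
            by_cases hlj : l = j
            · simp [hlj]
            · rw [if_neg hlj, if_neg (by rintro (h | h) <;> [exact hlj h; omega]), sub_zero]
          rw [this, mul_zero]
    ext i j
    exact key n i j (by omega)
  have hSnil : ∀ i, T i i = 1 := by
    intro i
    obtain ⟨k, hk⟩ := hNnil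
    have hpow : ∀ k : ℕ, N ^ k * y = y * (T - 1) ^ k := by
      intro k
      induction k with
      | zero => simp
      | succ k ih => rw [pow_succ, mul_assoc, hNy, ← mul_assoc, ih, mul_assoc, ← pow_succ]
    have h0 : (T - 1) ^ k = 0 := by
      have h1 := hpow k
      rw [hk, zero_mul] at h1
      calc (T - 1) ^ k = x.val * (y * (T - 1) ^ k) := by rw [hy, ← mul_assoc, Units.mul_inv, one_mul]
        _ = 0 := by rw [← h1, mul_zero]
    have hd : ∀ k : ℕ, ((T - 1) ^ k).BlockTriangular id ∧ ((T - 1) ^ k) i i = (T i i - 1) ^ k := by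
      intro k
      induction k with
      | zero => exact ⟨by rw [pow_zero]; exact Matrix.blockTriangular_one, by simp⟩
      | succ k ih =>
        have ht : (T - 1).BlockTriangular id := hTt.sub Matrix.blockTriangular_one
        refine ⟨by rw [pow_succ]; exact ih.1.mul ht, ?_⟩
        rw [pow_succ, diag_of_mul ih.1 ht, ih.2, pow_succ (T i i - 1)]
        simp
    have h2 := (hd k).2
    rw [h0] at h2
    exact sub_eq_zero.1 (eq_zero_of_pow_eq_zero h2.symm)
  rw [mem_triSub]
  suffices ∀ m : ℕ, ∀ i j : Fin n, (j : ℕ) < m → j < i → y i j = 0 from fun i j hij => this (j + 1) i j (by omega) hij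
  intro m
  induction m with
  | zero => intro i j hj; omega
  | succ m ih =>
    intro i j hj hij
    have hi : (i : ℕ) - 1 < n := by omega
    set l : Fin n := ⟨(i : ℕ) - 1, hi⟩
    have h1 := congrFun (congrFun hNy l) j
    have hl : (N * y) l j = y i j := by
      rw [Matrix.mul_apply, Finset.sum_eq_single i (fun b _ hb => ?_) (by simp)]
      · simp only [hN, jordan, Matrix.sub_apply, Matrix.of_apply]
        rw [if_pos (Or.inr (by show (i : ℕ) - 1 + 1 = i; have : (j : ℕ) < i := hij; omega)),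
          Matrix.one_apply_ne (by intro e; have := congrArg Fin.val e; have : (j : ℕ) < i := hij; simp [l] at *; omega),
          sub_zero, one_mul]
      · simp only [hN, jordan, Matrix.sub_apply, Matrix.of_apply, Matrix.one_apply]
        by_cases hlb : l = b
        · simp [hlb]
        · rw [if_neg hlb, if_neg (by
            rintro (h | h)
            · exact hlb h
            · refine hb (Fin.ext ?_)
              have : (j : ℕ) < i := hij
              simp [l] at h
              omega), sub_zero, zero_mul]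
    have hr : (y * (T - 1)) l j = 0 := by
      rw [Matrix.mul_apply]
      refine Finset.sum_eq_zero fun b _ => ?_
      rcases lt_trichotomy b j with hb | rfl | hb
      · rw [ih l b (by have : (b : ℕ) < j := hb; omega) (by
          show (b : ℕ) < (i : ℕ) - 1
          have : (b : ℕ) < j := hb; have : (j : ℕ) < i := hij; omega), zero_mul]
      · rw [Matrix.sub_apply, hSnil, Matrix.one_apply_eq, sub_self, mul_zero]
      · rw [Matrix.sub_apply, hTt hb, Matrix.one_apply_ne hb.ne', sub_zero, mul_zero]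
    rw [hl, hr] at h1
    exact h1

theorem transvection_det {i j : Fin n} (hij : i ≠ j) : (Matrix.transvection i j (1 : F)).det = 1 :=
  Matrix.det_transvection_of_ne i j hij 1

variable (G : Subgroup (GL (Fin n) F ⧸ Subgroup.center (GL (Fin n) F)))
  (hG : ((Matrix.SpecialLinearGroup.toGL : Matrix.SpecialLinearGroup (Fin n) F →* GL (Fin n) F).range).map (QuotientGroup.mk' (Subgroup.center (GL (Fin n) F))) ≤ G)

include hG

/-- The image of a special linear element in `G`. -/
def sl (S : Matrix.SpecialLinearGroup (Fin n) F) : G :=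
  ⟨PI (Matrix.SpecialLinearGroup.toGL S), hG ⟨_, ⟨S, rfl⟩, rfl⟩⟩

theorem key_tri (g : G) (h : g * sl G hG jordanSL * g⁻¹ ∈ (triSub.map PI).subgroupOf G) :
    g ∈ (triSub.map PI).subgroupOf G := by
  obtain ⟨x, hx⟩ := QuotientGroup.mk'_surjective _ (g : GL (Fin n) F ⧸ Subgroup.center (GL (Fin n) F))
  rw [mem_subgroupOf] at h ⊢
  rw [← hx, mem_map_of_center_le center_le_triSub]
  refine tri_of_conj ((mem_map_of_center_le center_le_triSub).1 ?_)
  rw [map_mul, map_mul, map_inv, hx]
  exact h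

theorem jordan_mem : sl G hG jordanSL ∈ (triSub.map PI).subgroupOf G :=
  mem_subgroupOf.2 ⟨_, jordan_triangular, rfl⟩

theorem main_three (hn : 3 ≤ n) (𝓐 : Finset (Subgroup G)) (hcov : ∀ g : G, ∃ A ∈ 𝓐, g ∈ A)
    (hprop : ∀ A ∈ 𝓐, A ≠ ⊤)
    (hmin : ∀ 𝓑 : Finset (Subgroup G), (∀ A ∈ 𝓑, A ≠ ⊤) ∧ (∀ g : G, ∃ A ∈ 𝓑, g ∈ A) → 𝓐.card ≤ 𝓑.card)
    (hnil : ∀ A ∈ 𝓐, Group.IsNilpotent A) : False := by
  haveI : NeZero n := ⟨by omega⟩
  refine Cfsg.Lib.PGroup.false_of_lt (B := (triSub.map PI).subgroupOf G) (P := (lineSub.map PI).subgroupOf G) ?_ ?_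
    (u := sl G hG jordanSL) (jordan_mem G hG) (key_tri G hG) 𝓐 hcov hprop hmin hnil
  · refine lt_of_le_of_ne (fun g hg => ?_) fun he => ?_
    · exact mem_subgroupOf.2 (Subgroup.map_mono triSub_le_lineSub (mem_subgroupOf.1 hg))
    · set i : Fin n := ⟨2, by omega⟩
      set j : Fin n := ⟨1, by omega⟩
      have hij : i ≠ j := fun e => by simp [i, j, Fin.ext_iff] at e
      have h1 : sl G hG ⟨Matrix.transvection i j 1, transvection_det hij⟩ ∈ (lineSub.map PI).subgroupOf G := by
        refine mem_subgroupOf.2 ⟨_, fun k hk => ?_, rfl⟩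
        show Matrix.transvection i j 1 k 0 = 0
        rw [Matrix.transvection, Matrix.add_apply, Matrix.one_apply_ne hk,
          Matrix.single_apply_of_col_ne _ _ (by simp [j, Fin.ext_iff]), add_zero]
      rw [← he, mem_subgroupOf] at h1
      have h2 := mem_triSub.1 ((mem_map_of_center_le center_le_triSub).1 h1) i j (by simp [i, j, Fin.lt_def])
      have h3 : Matrix.transvection i j (1 : F) i j = 0 := h2
      simp [Matrix.transvection, Matrix.one_apply_ne hij] at h3
  · intro he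
    set i : Fin n := ⟨1, by omega⟩
    have hij : i ≠ 0 := fun e => by simp [i, Fin.ext_iff] at e
    have h1 : sl G hG ⟨Matrix.transvection i 0 1, transvection_det hij⟩ ∈ (lineSub.map PI).subgroupOf G :=
      he ▸ Subgroup.mem_top _
    rw [mem_subgroupOf] at h1
    have h2 := (mem_map_of_center_le center_le_lineSub).1 h1 i hij
    have h3 : Matrix.transvection i 0 (1 : F) i 0 = 0 := h2
    simp [Matrix.transvection, Matrix.one_apply_ne hij] at h3

end General

section Two
variable {F : Type*} [Field F]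

local notation "PT" => QuotientGroup.mk' (Subgroup.center (GL (Fin 2) F))
local notation "M2" => Matrix (Fin 2) (Fin 2) F

/-- `X` has an eigenvector. -/
def HasEigen (X : M2) : Prop := ∃ v : Fin 2 → F, v ≠ 0 ∧ ∃ l : F, X *ᵥ v = l • v

theorem hasEigen_of_det {X : M2} {s : F} (h : (X - s • 1).det = 0) : HasEigen X := by
  obtain ⟨v, hv, hXv⟩ := Matrix.exists_mulVec_eq_zero_iff.2 h
  refine ⟨v, hv, s, ?_⟩
  rw [Matrix.sub_mulVec, Matrix.smul_mulVec, Matrix.one_mulVec, sub_eq_zero] at hXv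
  exact hXv

/-- An element without fixed point that projectively commutes with one having a fixed point. -/
theorem comm_no_eigen {X W : M2} {c : F} (hX : X.det = 1) (hW : W.det ≠ 0) (hXe : ¬ HasEigen X)
    (hWe : HasEigen W) (hWs : ∀ l : F, W ≠ l • 1) (hc : c ≠ 0) (h : W * X = c • (X * W)) :
    c = -1 ∧ X * X = (-1 : F) • 1 := by
  obtain ⟨v, hv, l, hl⟩ := hWe
  have hl0 : l ≠ 0 := fun e => hW (Matrix.exists_mulVec_eq_zero_iff.1 ⟨v, hv, by rw [hl, e, zero_smul]⟩)
  have hind : ∀ a b : F, a • (X *ᵥ v) + b • v = 0 → a = 0 ∧ b = 0 := by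
    intro a b he
    have ha : a = 0 := by
      by_contra ha
      refine hXe ⟨v, hv, -b / a, ?_⟩
      rw [add_eq_zero_iff_eq_neg, ← neg_smul] at he
      rw [← inv_smul_smul₀ ha (X *ᵥ v), he, smul_smul, div_eq_inv_mul]
    refine ⟨ha, ?_⟩
    rw [ha, zero_smul, zero_add, smul_eq_zero] at he
    exact he.resolve_right hv
  have hCH : X * X = (X 0 0 + X 1 1) • X - (1 : M2) := by
    rw [Matrix.det_fin_two] at hX
    ext i j
    fin_cases i <;> fin_cases j <;> simp [Matrix.mul_apply, Fin.sum_univ_two] <;>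
      first | linear_combination (-1 : F) * hX | ring
  set τ := X 0 0 + X 1 1 with hτ
  have h1 : W *ᵥ (X *ᵥ v) = (c * l) • (X *ᵥ v) := by
    rw [Matrix.mulVec_mulVec, h, Matrix.smul_mulVec, ← Matrix.mulVec_mulVec, hl, Matrix.mulVec_smul, smul_smul]
  have h2 : X *ᵥ (X *ᵥ v) = τ • (X *ᵥ v) - v := by
    rw [Matrix.mulVec_mulVec, hCH, Matrix.sub_mulVec, Matrix.smul_mulVec, Matrix.one_mulVec]
  have h3 : W *ᵥ (X *ᵥ (X *ᵥ v)) = (c * (c * l)) • (X *ᵥ (X *ᵥ v)) := by
    rw [Matrix.mulVec_mulVec _ W X, h, Matrix.smul_mulVec, ← Matrix.mulVec_mulVec, h1, Matrix.mulVec_smul, smul_smul]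
  rw [h2, Matrix.mulVec_sub, Matrix.mulVec_smul, h1, hl, smul_sub, smul_smul, smul_smul] at h3
  obtain ⟨ha, hb⟩ := hind (τ * (c * l) - c * (c * l) * τ) (c * (c * l) - l) (by
    rw [sub_smul, sub_smul]
    rw [← sub_eq_zero] at h3
    rw [← h3]
    abel)
  have hc1 : c ≠ 1 := by
    intro e
    refine hWs l ?_
    set P : M2 := Matrix.of fun i j => ![v, X *ᵥ v] j i with hP
    have hPd : P.det ≠ 0 := by
      intro hd
      obtain ⟨w, hw, hPw⟩ := Matrix.exists_mulVec_eq_zero_iff.2 hd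
      have h4 : w 1 • (X *ᵥ v) + w 0 • v = 0 := by
        rw [← hPw]
        funext i
        rw [Pi.add_apply, Pi.smul_apply, Pi.smul_apply, smul_eq_mul, smul_eq_mul, Matrix.mulVec_eq_sum]
        fin_cases i <;> simp [hP, Fin.sum_univ_two, Matrix.mulVec, dotProduct] <;> ring
      obtain ⟨hw1, hw0⟩ := hind _ _ h4
      exact hw (funext fun i => by fin_cases i <;> assumption)
    have hWP : W * P = (l • (1 : M2)) * P := by
      rw [smul_mul_assoc, one_mul]
      have e0 : ∀ i, (W *ᵥ v) i = l * v i := fun i => by rw [hl]; rfl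
      have e1 : ∀ i, (W *ᵥ (X *ᵥ v)) i = l * (X *ᵥ v) i := fun i => by rw [h1, e, one_mul]; rfl
      ext i j
      fin_cases j
      · exact e0 i
      · exact e1 i
    exact (Matrix.isUnit_iff_isUnit_det _).2 (isUnit_iff_ne_zero.2 hPd) |>.mul_left_inj.1 hWP
  have hc2 : (c - 1) * (c + 1) = 0 := by
    have : l * (c * c - 1) = 0 := by linear_combination hb
    linear_combination (mul_eq_zero.1 this).resolve_left hl0
  have hcm : c = -1 := eq_neg_of_add_eq_zero_left ((mul_eq_zero.1 hc2).resolve_left (sub_ne_zero.2 hc1))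
  refine ⟨hcm, ?_⟩
  have hτ0 : τ = 0 := by
    have : (c * l * (1 - c)) * τ = 0 := by linear_combination ha
    exact (mul_eq_zero.1 this).resolve_left (mul_ne_zero (mul_ne_zero hc hl0) (sub_ne_zero.2 hc1.symm))
  rw [hCH, hτ0, zero_smul, zero_sub, neg_smul, one_smul]

theorem smul_ne_zero_of_eq {X Y : GL (Fin 2) F} {c : F} (h : Y.val = c • X.val) : c ≠ 0 := by
  rintro rfl
  rw [zero_smul] at h
  exact Units.ne_zero Y h

theorem exists_comm {X W : GL (Fin 2) F} (h : PT X * PT W = PT W * PT X) :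
    ∃ c : F, c ≠ 0 ∧ W.val * X.val = c • (X.val * W.val) := by
  rw [← map_mul, ← map_mul] at h
  obtain ⟨c, hc⟩ := exists_smul_of_eq h
  exact ⟨c, smul_ne_zero_of_eq hc, hc⟩

variable [Finite F]

/-- The centraliser of the unipotent element has exponent dividing the characteristic. -/
theorem pow_char_of_commute {p : ℕ} [Fact p.Prime] [CharP F p] {x : GL (Fin 2) F}
    (h : PT x * PT (Matrix.SpecialLinearGroup.toGL jordanSL) = PT (Matrix.SpecialLinearGroup.toGL jordanSL) * PT x) :
    PT x ^ p = 1 := by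
  set J := Matrix.SpecialLinearGroup.toGL (jordanSL : Matrix.SpecialLinearGroup (Fin 2) F) with hJdef
  have hxT : x ∈ (triSub : Subgroup (GL (Fin 2) F)) := tri_of_conj (by
    rw [← mem_map_of_center_le center_le_triSub, map_mul, map_mul, map_inv, h, mul_inv_cancel_right]
    exact ⟨_, jordan_triangular, rfl⟩)
  have h10 : x.val 1 0 = 0 := mem_triSub.1 hxT 1 0 (by decide)
  obtain ⟨c, -, hc⟩ := exists_comm h
  have eJ : J.val = jordan := rfl
  rw [eJ] at hc
  have e00 := congrFun (congrFun hc 0) 0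
  have e01 := congrFun (congrFun hc 0) 1
  simp [jordan, Matrix.mul_apply, Fin.sum_univ_two, h10] at e00 e01
  have hd : x.val.det ≠ 0 := ((Matrix.isUnit_iff_isUnit_det _).1 x.isUnit).ne_zero
  rw [Matrix.det_fin_two, h10, mul_zero, sub_zero] at hd
  have hc1 : c = 1 := by
    have : (c - 1) * x.val 0 0 = 0 := by linear_combination -e00
    exact sub_eq_zero.1 ((mul_eq_zero.1 this).resolve_right (left_ne_zero_of_mul hd))
  have hx11 : x.val 1 1 = x.val 0 0 := by subst hc1; linear_combination e01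
  set a := x.val 0 0 with ha
  set D := x.val - a • (1 : M2) with hD
  have hD2 : D * D = 0 := by
    ext i j
    fin_cases i <;> fin_cases j <;> simp [hD, Matrix.mul_apply, Fin.sum_univ_two, h10, hx11, ← ha]
  have hDp : D ^ p = 0 := pow_eq_zero_of_le (Fact.out : p.Prime).two_le (by rw [sq, hD2])
  rw [← map_pow]
  refine eq_one_of_scalar (a := a ^ p) ?_
  have hx : x.val = D + a • (1 : M2) := by rw [hD, sub_add_cancel]
  rw [Units.val_pow_eq_pow_val, hx, add_pow_char_of_commute _ ((Commute.one_right D).smul_right a), hDp, zero_add,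
    smul_pow, one_pow]

variable (G : Subgroup (GL (Fin 2) F ⧸ Subgroup.center (GL (Fin 2) F)))
  (hG : ((Matrix.SpecialLinearGroup.toGL : Matrix.SpecialLinearGroup (Fin 2) F →* GL (Fin 2) F).range).map (QuotientGroup.mk' (Subgroup.center (GL (Fin 2) F))) ≤ G)

include hG

theorem tri_ne_top : (triSub.map PT).subgroupOf G ≠ ⊤ := by
  intro he
  have h1 : sl G hG ⟨Matrix.transvection (1 : Fin 2) 0 1, transvection_det (by decide)⟩ ∈
      (triSub.map PT).subgroupOf G := he ▸ Subgroup.mem_top _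
  rw [mem_subgroupOf] at h1
  have h2 := mem_triSub.1 ((mem_map_of_center_le center_le_triSub).1 h1) 1 0 (by decide)
  have h3 : Matrix.transvection (1 : Fin 2) 0 (1 : F) 1 0 = 0 := h2
  simp [Matrix.transvection] at h3

theorem jordan_pow (p : ℕ) [Fact p.Prime] [CharP F p] : sl G hG jordanSL ^ p = 1 :=
  Subtype.ext (pow_char_of_commute rfl)

/-- In a nilpotent subgroup through a conjugate of the unipotent element every order is a power of `p`. -/
theorem pow_prime_of_mem (p : ℕ) [hp : Fact p.Prime] [CharP F p] {A : Subgroup G} (hA : Group.IsNilpotent A)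
    {g : G} (hgA : g * sl G hG jordanSL * g⁻¹ ∈ A) {y : G} (hy : y ∈ A) : ∃ k : ℕ, y ^ p ^ k = 1 := by
  have := hA
  refine ⟨(orderOf y).factorization p + 1, ?_⟩
  set e := (orderOf y).factorization p with he
  have hu : orderOf (g * sl G hG jordanSL * g⁻¹) ∣ p := orderOf_dvd_of_pow_eq_one (by
    rw [conj_pow, jordan_pow G hG p, mul_one, mul_inv_cancel])
  have hcop : (orderOf (y ^ p ^ e)).Coprime p := by
    have hd : p ^ e ∣ orderOf y := Nat.ordProj_dvd _ _
    rw [orderOf_pow_of_dvd (pow_ne_zero _ hp.out.ne_zero) hd]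
    exact (Nat.coprime_ordCompl hp.out (orderOf_pos y).ne').symm
  have hc : Commute (⟨_, pow_mem hy (p ^ e)⟩ : A) ⟨_, hgA⟩ := Cfsg.Lib.PGroup.commute_of_coprime_orderOf _ _ (by
    rw [← Subgroup.orderOf_coe (⟨_, pow_mem hy (p ^ e)⟩ : A), ← Subgroup.orderOf_coe (⟨_, hgA⟩ : A)]
    exact Nat.Coprime.of_dvd_right hu hcop)
  have hc' := congrArg Subtype.val hc.eq
  simp only [Subgroup.coe_mul] at hc'
  obtain ⟨x, hx⟩ := QuotientGroup.mk'_surjective _
    ((g⁻¹ * y ^ p ^ e * g : G) : GL (Fin 2) F ⧸ Subgroup.center (GL (Fin 2) F))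
  have h2 : (g⁻¹ * y ^ p ^ e * g) ^ p = 1 := by
    refine Subtype.ext ?_
    rw [SubmonoidClass.coe_pow, ← hx]
    refine pow_char_of_commute ?_
    rw [hx]
    refine congrArg Subtype.val (?_ : g⁻¹ * y ^ p ^ e * g * sl G hG jordanSL = sl G hG jordanSL * (g⁻¹ * y ^ p ^ e * g))
    calc g⁻¹ * y ^ p ^ e * g * sl G hG jordanSL = g⁻¹ * (y ^ p ^ e * (g * sl G hG jordanSL * g⁻¹)) * g := by group
      _ = _ := by rw [hc']; group
  rw [pow_succ, pow_mul]
  have h3 : (g⁻¹ * y ^ p ^ e * g) ^ p = g⁻¹ * (y ^ p ^ e) ^ p * g := by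
    simpa using conj_pow (i := p) (a := g⁻¹) (b := y ^ p ^ e)
  rw [h2] at h3
  calc (y ^ p ^ e) ^ p = g * (g⁻¹ * (y ^ p ^ e) ^ p * g) * g⁻¹ := by group
    _ = 1 := by rw [← h3]; group

omit hG in
theorem square_of_pow {p k : ℕ} [hp : Fact p.Prime] [CharP F p] {x : GL (Fin 2) F} (h : PT x ^ p ^ k = 1) :
    ∃ s : F, s ^ 2 = x.val.det := by
  rcases hp.out.eq_two_or_odd' with rfl | hodd
  · obtain ⟨s, hs⟩ := FiniteField.isSquare_of_char_two (ringChar.eq F 2) x.val.det
    exact ⟨s, by rw [hs, sq]⟩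
  · rw [← map_pow] at h
    obtain ⟨c, hc⟩ := exists_scalar ((QuotientGroup.eq_one_iff _).1 h)
    obtain ⟨j, hj⟩ := hodd.pow (n := k)
    have h1 : x.val.det ^ p ^ k = c ^ 2 := by
      rw [← Matrix.det_pow, ← Units.val_pow_eq_pow_val, hc, Matrix.det_smul, Matrix.det_one, mul_one, Fintype.card_fin]
    have h0 : x.val.det ≠ 0 := ((Matrix.isUnit_iff_isUnit_det _).1 x.isUnit).ne_zero
    refine ⟨c / x.val.det ^ j, ?_⟩
    rw [div_pow, ← h1, hj, ← pow_mul, div_eq_iff (pow_ne_zero _ h0)]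
    ring

omit hG in
theorem mem_SL_of_pow {p k : ℕ} [Fact p.Prime] [CharP F p] {x : GL (Fin 2) F} (h : PT x ^ p ^ k = 1) :
    PT x ∈ ((Matrix.SpecialLinearGroup.toGL : Matrix.SpecialLinearGroup (Fin 2) F →* GL (Fin 2) F).range).map PT := by
  obtain ⟨s, hs⟩ := square_of_pow h
  have h0 : x.val.det ≠ 0 := ((Matrix.isUnit_iff_isUnit_det _).1 x.isUnit).ne_zero
  have hs0 : s ≠ 0 := fun e => h0 (by rw [← hs, e]; ring)
  refine ⟨Matrix.SpecialLinearGroup.toGL ⟨s⁻¹ • x.val, ?_⟩, ⟨_, rfl⟩, ?_⟩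
  · rw [Matrix.det_smul, Fintype.card_fin, ← hs, inv_pow, inv_mul_cancel₀ (pow_ne_zero 2 hs0)]
  · refine QuotientGroup.eq.2 (Matrix.GeneralLinearGroup.mem_center_iff_val_mem_range_scalar.2 ⟨s, ?_⟩)
    set S := Matrix.SpecialLinearGroup.toGL (⟨s⁻¹ • x.val, _⟩ : Matrix.SpecialLinearGroup (Fin 2) F) with hS
    have h2 : x.val = S.val * (s • (1 : M2)) := by
      rw [mul_smul_comm, mul_one, hS]
      show x.val = s • (s⁻¹ • x.val)
      rw [smul_inv_smul₀ hs0]
    calc Matrix.scalar (Fin 2) s = (S⁻¹).val * (S.val * (s • (1 : M2))) := by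
          rw [← mul_assoc, Units.inv_mul, one_mul, Matrix.smul_one_eq_diagonal]; rfl
      _ = _ := by rw [← h2, Units.val_mul]

/-- Every fixed-point element is conjugate into the triangular subgroup. -/
theorem exists_conj_tri {x : G} {X : GL (Fin 2) F} (hX : PT X = (x : GL (Fin 2) F ⧸ Subgroup.center (GL (Fin 2) F)))
    (hXe : HasEigen X.val) : ∃ g : G, g⁻¹ * x * g ∈ (triSub.map PT).subgroupOf G := by
  obtain ⟨v, hv, l, hl⟩ := hXe
  have hS : ∃ S : Matrix.SpecialLinearGroup (Fin 2) F, ∀ i, S.val i 0 = v i := by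
    by_cases h0 : v 0 = 0
    · have h1 : v 1 ≠ 0 := fun h1 => hv (funext fun i => by fin_cases i <;> assumption)
      exact ⟨⟨!![0, -(v 1)⁻¹; v 1, 0], by simp [Matrix.det_fin_two, h1]⟩, fun i => by fin_cases i <;> simp [h0]⟩
    · exact ⟨⟨!![v 0, 0; v 1, (v 0)⁻¹], by simp [Matrix.det_fin_two, h0]⟩, fun i => by fin_cases i <;> simp⟩
  obtain ⟨S, hS⟩ := hS
  refine ⟨sl G hG S, mem_subgroupOf.2 ?_⟩
  show (PT (Matrix.SpecialLinearGroup.toGL S))⁻¹ * (x : GL (Fin 2) F ⧸ Subgroup.center (GL (Fin 2) F)) *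
    PT (Matrix.SpecialLinearGroup.toGL S) ∈ triSub.map PT
  rw [← hX, ← map_inv, ← map_mul, ← map_mul, mem_map_of_center_le center_le_triSub, mem_triSub]
  set T := Matrix.SpecialLinearGroup.toGL S with hT
  intro i j hij
  have hi : i = 1 ∧ j = 0 := by revert hij; fin_cases i <;> fin_cases j <;> decide
  obtain ⟨rfl, rfl⟩ := hi
  have hcol : ∀ i, (X.val * T.val) i 0 = l * v i := fun i => by
    have e1 : (X.val * T.val) i 0 = (X.val *ᵥ v) i := by
      rw [Matrix.mul_apply]
      show ∑ k, X.val i k * T.val k 0 = ∑ k, X.val i k * v k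
      exact Finset.sum_congr rfl fun k _ => congrArg (X.val i k * ·) (hS k)
    rw [e1, hl]
    rfl
  have h2 := congrFun (congrFun (Units.inv_mul T) 1) 0
  rw [Matrix.mul_apply, Fin.sum_univ_two, Matrix.one_apply_ne (by decide)] at h2
  rw [Units.val_mul, Units.val_mul, mul_assoc, Matrix.mul_apply, Fin.sum_univ_two, hcol, hcol]
  rw [show T.val 0 0 = v 0 from hS 0, show T.val 1 0 = v 1 from hS 1] at h2
  linear_combination l * h2

omit hG in
theorem anti_false {Z W : M2} {a : F} (ha0 : a ≠ 0) (h2 : (2 : F) ≠ 0) (haa : a * a ≠ -1)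
    (hZ : Z = !![a, 0; 0, a⁻¹]) (hW : W.det ≠ 0) (h : Z * W = (-1 : F) • (W * Z)) : False := by
  apply hW
  have e00 := congrFun (congrFun h 0) 0
  have e01 := congrFun (congrFun h 0) 1
  simp [hZ, Matrix.mul_apply, Fin.sum_univ_two] at e00 e01
  have w00 : W 0 0 = 0 := by
    have : (2 * a) * W 0 0 = 0 := by linear_combination e00
    exact (mul_eq_zero.1 this).resolve_left (mul_ne_zero h2 ha0)
  have w01 : W 0 1 = 0 := by
    have : (a * a + 1) * W 0 1 = 0 := by
      field_simp at e01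
      linear_combination e01
    exact (mul_eq_zero.1 this).resolve_left fun e => haa (eq_neg_of_add_eq_zero_left e)
  rw [Matrix.det_fin_two, w00, w01]
  ring

theorem main_two (hq : 4 ≤ Nat.card F) (𝓐 : Finset (Subgroup G)) (hcov : ∀ g : G, ∃ A ∈ 𝓐, g ∈ A)
    (hprop : ∀ A ∈ 𝓐, A ≠ ⊤)
    (hmin : ∀ 𝓑 : Finset (Subgroup G), (∀ A ∈ 𝓑, A ≠ ⊤) ∧ (∀ g : G, ∃ A ∈ 𝓑, g ∈ A) → 𝓐.card ≤ 𝓑.card)
    (hnil : ∀ A ∈ 𝓐, Group.IsNilpotent A) : False := by
  classical
  haveI : Fintype F := Fintype.ofFinite F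
  obtain ⟨p, hchar⟩ := CharP.exists F
  haveI : Fact p.Prime := ⟨CharP.char_is_prime F p⟩
  set L := ((Matrix.SpecialLinearGroup.toGL : Matrix.SpecialLinearGroup (Fin 2) F →* GL (Fin 2) F).range).map PT
  by_cases hGL : G = L
  swap
  · obtain ⟨R, hR, hRc, hRu⟩ := Cfsg.Lib.PGroup.exists_members 𝓐 hcov hnil (jordan_mem G hG) (key_tri G hG)
    have hL : L.subgroupOf G ≠ ⊤ := fun h => hGL (le_antisymm (subgroupOf_eq_top.1 h) hG)
    refine Cfsg.Lib.PGroup.false_of_replace 𝓐 hcov hprop hmin R hR {L.subgroupOf G}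
      (fun B hB => by rw [Finset.mem_singleton] at hB; exact hB ▸ hL) ?_ fun A hA x hx => Or.inl ?_
    · rw [Finset.card_singleton, hRc]
      have h1 : ((triSub.map PT).subgroupOf G).index ≠ 1 := fun h => tri_ne_top G hG (index_eq_one.1 h)
      have h0 : ((triSub.map PT).subgroupOf G).index ≠ 0 := FiniteIndex.index_ne_zero
      omega
    · obtain ⟨g, hg⟩ := hRu A hA
      obtain ⟨k, hk⟩ := pow_prime_of_mem G hG p (hnil A (hR hA)) hg hx
      obtain ⟨X, hX⟩ := QuotientGroup.mk'_surjective _ (x : GL (Fin 2) F ⧸ Subgroup.center (GL (Fin 2) F))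
      refine ⟨_, Finset.mem_singleton_self _, mem_subgroupOf.2 ?_⟩
      rw [← hX]
      exact mem_SL_of_pow (p := p) (k := k) (by rw [hX]; exact congrArg Subtype.val hk)
  -- the projective special linear group
  have hlift : ∀ x : G, ∃ X : Matrix.SpecialLinearGroup (Fin 2) F, sl G hG X = x := fun x => by
    obtain ⟨_, ⟨X, rfl⟩, hX⟩ : (x : GL (Fin 2) F ⧸ Subgroup.center (GL (Fin 2) F)) ∈ L := hGL ▸ x.2
    exact ⟨X, Subtype.ext hX⟩
  obtain ⟨a, ha0, ha2, haa, hodd⟩ : ∃ a : F, a ≠ 0 ∧ a * a ≠ 1 ∧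
      ((¬ IsSquare (-1 : F)) → a * a ≠ -1) ∧ ((¬ IsSquare (-1 : F)) → a ^ ((Fintype.card F - 1) / 2) = 1) := by
    obtain ⟨b, hb⟩ : ∃ b : F, b ≠ 0 ∧ b ≠ 1 ∧ b ≠ -1 := by
      by_contra hcon
      push Not at hcon
      have : (Finset.univ : Finset F) ⊆ {0, 1, -1} := fun b _ => by
        simp only [Finset.mem_insert, Finset.mem_singleton]
        by_cases h0 : b = 0
        · exact Or.inl h0
        · by_cases h1 : b = 1
          · exact Or.inr (Or.inl h1)
          · exact Or.inr (Or.inr (hcon b h0 h1))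
      have h3 := (Finset.card_le_card this).trans Finset.card_le_three
      rw [Finset.card_univ, ← Nat.card_eq_fintype_card] at h3
      omega
    by_cases hs : IsSquare (-1 : F)
    · exact ⟨b, hb.1, fun e => (mul_self_eq_one_iff.1 e).elim hb.2.1 hb.2.2, fun h => absurd hs h, fun h => absurd hs h⟩
    · refine ⟨b * b, mul_ne_zero hb.1 hb.1, fun e => ?_, fun _ e => hs ⟨b * b, e.symm⟩, fun _ => ?_⟩
      · rcases mul_self_eq_one_iff.1 e with e | e
        · exact (mul_self_eq_one_iff.1 e).elim hb.2.1 hb.2.2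
        · exact hs ⟨b, e.symm⟩
      · have hodd : Fintype.card F % 2 = 1 := by
          rcases Nat.mod_two_eq_zero_or_one (Fintype.card F) with h | h
          · exact absurd (FiniteField.isSquare_of_char_two (FiniteField.even_card_iff_char_two.2 h) _) hs
          · exact h
        rw [← sq, ← pow_mul, Nat.mul_div_cancel' (by omega), FiniteField.pow_card_sub_one_eq_one _ hb.1]
  let Z : Matrix.SpecialLinearGroup (Fin 2) F := ⟨!![a, 0; 0, a⁻¹], by simp [Matrix.det_fin_two, ha0]⟩
  have hZv : ∀ i, (Z.val *ᵥ Pi.single 0 1) i = a * (Pi.single 0 1 : Fin 2 → F) i := fun i => by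
    fin_cases i <;> simp [Z, Matrix.mulVec, dotProduct, Fin.sum_univ_two]
  have hZe : HasEigen Z.val := ⟨Pi.single 0 1, by simp, a, funext fun i => by rw [hZv i]; rfl⟩
  have hZs : ∀ l : F, Z.val ≠ l • 1 := fun l h => by
    have h0 := congrFun (congrFun h 0) 0
    have h1 := congrFun (congrFun h 1) 1
    simp [Z] at h0 h1
    rw [← h1] at h0
    apply ha2
    nth_rewrite 1 [h0]
    exact inv_mul_cancel₀ ha0
  have hz1 : sl G hG Z ≠ 1 := fun h => by
    obtain ⟨c, hc⟩ := exists_scalar ((QuotientGroup.eq_one_iff _).1 (congrArg Subtype.val h))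
    exact hZs c hc
  have hzpow : ∀ j : ℕ, a ^ j = 1 → sl G hG Z ^ j = 1 := fun j hj => by
    refine Subtype.ext ?_
    rw [SubmonoidClass.coe_pow]
    show PT (Matrix.SpecialLinearGroup.toGL Z) ^ j = 1
    rw [← map_pow]
    refine eq_one_of_scalar (a := 1) ?_
    rw [Units.val_pow_eq_pow_val, one_smul]
    show Z.val ^ j = 1
    rw [show Z.val = Matrix.diagonal ![a, a⁻¹] by
      ext i j; fin_cases i <;> fin_cases j <;> simp [Z], Matrix.diagonal_pow, ← Matrix.diagonal_one]
    refine congrArg Matrix.diagonal (funext fun i => ?_)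
    fin_cases i <;> simp [hj]
  have hcomm : ∀ S T : Matrix.SpecialLinearGroup (Fin 2) F, sl G hG S * sl G hG T = sl G hG T * sl G hG S →
      ∃ c : F, c ≠ 0 ∧ T.val * S.val = c • (S.val * T.val) := fun S T h => exists_comm (congrArg Subtype.val h)
  refine Cfsg.Lib.PGroup.false_of_extra (tri_ne_top G hG) (jordan_mem G hG) (key_tri G hG) (sl G hG Z) ?_ ?_
    𝓐 hcov hprop hmin hnil
  · intro A hA hzA g hgA
    obtain ⟨k, hk⟩ := pow_prime_of_mem G hG p hA hgA hzA
    have h1 : orderOf (sl G hG Z) ∣ Fintype.card F - 1 :=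
      orderOf_dvd_of_pow_eq_one (hzpow _ (FiniteField.pow_card_sub_one_eq_one a ha0))
    have h2 : orderOf (sl G hG Z) ∣ p ^ k := orderOf_dvd_of_pow_eq_one hk
    obtain ⟨r, hp', hFc⟩ := FiniteField.card F p
    have hcop : (Fintype.card F - 1).Coprime (p ^ k) := by
      refine Nat.Coprime.pow_right _ (hp'.coprime_iff_not_dvd.2 fun hd => ?_).symm
      have h3 : p ∣ Fintype.card F := hFc ▸ dvd_pow_self p r.pos.ne'
      have h4 : p ∣ 1 := (Nat.dvd_add_right hd).1 (by rwa [Nat.sub_add_cancel Fintype.card_pos])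
      exact hp'.not_dvd_one h4
    exact hz1 (orderOf_eq_one_iff.1 (Nat.eq_one_of_dvd_coprimes hcop h1 h2))
  · intro A hA hzA x hx
    obtain ⟨X, rfl⟩ := hlift x
    refine exists_conj_tri G hG (X := Matrix.SpecialLinearGroup.toGL X) rfl ?_
    by_contra hXe
    have := hA
    haveI : Nontrivial A := ⟨⟨⟨_, hzA⟩, 1, fun h => hz1 (congrArg Subtype.val h)⟩⟩
    haveI : Nontrivial (Subgroup.center A) :=
      (Subgroup.nontrivial_iff_ne_bot _).2 (Group.IsNilpotent.center_ne_bot A)
    obtain ⟨w, hw⟩ := exists_ne (1 : Subgroup.center A)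
    obtain ⟨W, hW⟩ := hlift ((w : A) : G)
    have hwc : ∀ y : A, (y : G) * sl G hG W = sl G hG W * y := fun y => by
      rw [hW]; exact congrArg Subtype.val (Subgroup.mem_center_iff.1 w.2 y)
    have hWs : ∀ l : F, W.val ≠ l • 1 := fun l h => hw (Subtype.ext (Subtype.ext (hW.symm.trans
      (Subtype.ext (eq_one_of_scalar h)))))
    have hdet : ∀ S : Matrix.SpecialLinearGroup (Fin 2) F, S.val.det ≠ 0 := fun S => by
      rw [S.2]; exact one_ne_zero
    have hWe : HasEigen W.val := by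
      by_contra hWe
      obtain ⟨c, hc0, hc⟩ := hcomm W Z (hwc ⟨_, hzA⟩).symm
      obtain ⟨hcm, hWW⟩ := comm_no_eigen W.2 (hdet Z) hWe hZe hZs hc0 hc
      by_cases hs : IsSquare (-1 : F)
      · obtain ⟨s, hs⟩ := hs
        have : (W.val - s • 1) * (W.val + s • 1) = 0 := by
          rw [sub_mul, mul_add, mul_add, hWW, mul_smul_comm, mul_one, smul_mul_assoc, one_mul, smul_mul_assoc,
            one_mul, smul_smul, ← hs]
          abel
        have hd := congrArg Matrix.det this
        rw [Matrix.det_mul, Matrix.det_zero, mul_eq_zero] at hd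
        rcases hd with hd | hd
        · exact hWe (hasEigen_of_det hd)
        · exact hWe (hasEigen_of_det (s := -s) (by rwa [neg_smul, sub_neg_eq_add]))
      · have h2 : (2 : F) ≠ 0 := fun h => hs ⟨1, by linear_combination -h⟩
        exact anti_false (Z := Z.val) (W := W.val) ha0 h2 (haa hs) rfl (hdet W) (hcm ▸ hc)
    obtain ⟨c, hc0, hc⟩ := hcomm X W (hwc ⟨_, hx⟩)
    obtain ⟨hcm, hXX⟩ := comm_no_eigen X.2 (hdet W) hXe hWe hWs hc0 hc
    by_cases hs : IsSquare (-1 : F)
    · obtain ⟨s, hs⟩ := hs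
      have : (X.val - s • 1) * (X.val + s • 1) = 0 := by
        rw [sub_mul, mul_add, mul_add, hXX, mul_smul_comm, mul_one, smul_mul_assoc, one_mul, smul_mul_assoc,
          one_mul, smul_smul, ← hs]
        abel
      have hd := congrArg Matrix.det this
      rw [Matrix.det_mul, Matrix.det_zero, mul_eq_zero] at hd
      rcases hd with hd | hd
      · exact hXe (hasEigen_of_det hd)
      · exact hXe (hasEigen_of_det (s := -s) (by rwa [neg_smul, sub_neg_eq_add]))
    · have hxx : sl G hG X ^ 2 = 1 := by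
        refine Subtype.ext ?_
        rw [SubmonoidClass.coe_pow]
        show PT (Matrix.SpecialLinearGroup.toGL X) ^ 2 = 1
        rw [← map_pow]
        exact eq_one_of_scalar (a := -1) (by rw [Units.val_pow_eq_pow_val, sq]; exact hXX)
      have hcz : Commute (⟨_, hzA⟩ : A) ⟨_, hx⟩ := Cfsg.Lib.PGroup.commute_of_coprime_orderOf _ _ (by
        rw [← Subgroup.orderOf_coe (⟨_, hzA⟩ : A), ← Subgroup.orderOf_coe (⟨_, hx⟩ : A)]
        refine Nat.Coprime.coprime_dvd_right (orderOf_dvd_of_pow_eq_one hxx) ?_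
        refine Nat.Coprime.coprime_dvd_left (orderOf_dvd_of_pow_eq_one (hzpow _ (hodd hs))) ?_
        rw [Nat.coprime_two_right, Nat.odd_iff]
        have h43 : Fintype.card F % 4 = 3 := Classical.not_not.1 fun h => hs (FiniteField.isSquare_neg_one_iff.2 h)
        omega)
      obtain ⟨d, hd0, hd⟩ := hcomm X Z (congrArg Subtype.val hcz.eq).symm
      obtain ⟨hdm, -⟩ := comm_no_eigen X.2 (hdet Z) hXe hZe hZs hd0 hd
      exact anti_false (Z := Z.val) (W := X.val) ha0 (fun h => hs ⟨1, by linear_combination -h⟩) (haa hs) rfl (hdet X) (hdm ▸ hd)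

end Two

/-- A cover of a group is a finite set of proper subgroups whose union is the whole group; it is minimal when no cover has fewer members, and nilpotent when all its members are nilpotent. Let F be a finite field with q elements and n ≥ 3, or n = 2 and q ≥ 4. Then no subgroup of PGL_n(F) = GL_n(F)/Z(GL_n(F)) containing the image of SL_n(F) has a nilpotent minimal cover. -/
theorem result {F : Type*} [Field F] [Fintype F] (n : ℕ) (hn : 3 ≤ n ∨ (n = 2 ∧ 4 ≤ Fintype.card F))
    (G : Subgroup (GL (Fin n) F ⧸ Subgroup.center (GL (Fin n) F)))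
    (hG : ((Matrix.SpecialLinearGroup.toGL : Matrix.SpecialLinearGroup (Fin n) F →* GL (Fin n) F).range).map
      (QuotientGroup.mk' (Subgroup.center (GL (Fin n) F))) ≤ G) :
    ¬ ∃ 𝓐 : Finset (Subgroup ↥G), ((∀ A ∈ 𝓐, A ≠ ⊤) ∧ (∀ g : ↥G, ∃ A ∈ 𝓐, g ∈ A)) ∧ (∀ 𝓑 : Finset (Subgroup ↥G), (∀ A ∈ 𝓑, A ≠ ⊤) ∧ (∀ g : ↥G, ∃ A ∈ 𝓑, g ∈ A) → 𝓐.card ≤ 𝓑.card) ∧ (∀ A ∈ 𝓐, Group.IsNilpotent ↥A) := by
  rintro ⟨𝓐, ⟨hprop, hcov⟩, hmin, hnil⟩
  rcases hn with hn | ⟨rfl, hq⟩
  · exact main_three G hG hn 𝓐 hcov hprop hmin hnil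
  · exact main_two G hG (by rwa [Nat.card_eq_fintype_card]) 𝓐 hcov hprop hmin hnil

end Cfsg.Agent.S3894
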