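import Cfsg.Statements.S3895
import Cfsg.Agent.Lib.Fusion.Alperin
import Mathlib.GroupTheory.Index
import Cfsg.Agent.Lib.Local.Sylow
-- import your own Cfsg.Agent.* helpers here

set_option autoImplicit false
open Cfsg

namespace Cfsg.Agent.S3895

open Subgroup

/-- An odd element normalizing, but not centralizing, a subgroup of `P` which contains `Z(P)`. -/
theorem exists_odd_normalizer {G : Type*} [Group G] [Finite G] (P : Sylow 2 G)
    (h : ¬ HasNormalPComplement 2 G) :
    ∃ (E : Subgroup G) (y : G), E ≤ (P : Subgroup G) ∧ (∀ z ∈ (P : Subgroup G),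
      (∀ u ∈ (P : Subgroup G), z * u = u * z) → z ∈ E) ∧ y ∈ normalizer (E : Set G) ∧
      (orderOf y).Coprime 2 ∧ y ∉ centralizer (E : Set G) := by
  haveI : Fact (Nat.Prime 2) := ⟨Nat.prime_two⟩
  by_contra hno
  refine h (Cfsg.Lib.Fusion.hasNormalPComplement_of_tame P fun Q hQ x hx hco => ?_)
  by_contra hxC
  set D := (P : Subgroup G) ⊓ (Q : Subgroup G) with hD
  set M := normalizer (D : Set G) with hM
  set C := centralizer (D : Set G) with hC
  have hCM : C ≤ M := centralizer_le_normalizer _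
  haveI hCn : (C.subgroupOf M).Normal := by
    rw [hC, hM, ← normalizerMonoidHom_ker D]
    infer_instance
  have hPM : IsPGroup 2 (((P : Subgroup G) ⊓ M).subgroupOf M) :=
    (P.isPGroup'.to_le inf_le_left).comap_of_injective M.subtype M.subtype_injective
  let T : Sylow 2 M := hPM.toSylow hQ.1
  let R : Subgroup G := (P : Subgroup G) ⊓ C
  have hRC : R ≤ C := inf_le_right
  have hRC' : (R.subgroupOf M) = (T : Subgroup M) ⊓ C.subgroupOf M := by
    show ((P : Subgroup G) ⊓ C).subgroupOf M = ((P : Subgroup G) ⊓ M).subgroupOf M ⊓ C.subgroupOf M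
    ext u
    simp only [mem_subgroupOf, mem_inf]
    exact ⟨fun h => ⟨⟨h.1, u.2⟩, h.2⟩, fun h => ⟨h.1.1, h.2⟩⟩
  obtain ⟨c, hc, n, hn, hcn⟩ : ∃ c ∈ C.subgroupOf M, ∃ n ∈ normalizer ((R.subgroupOf M : Subgroup M) : Set M),
      c * n = (⟨x, hx⟩ : M) := by
    have hR2 : IsPGroup 2 ((R.subgroupOf M).subgroupOf (C.subgroupOf M)) :=
      ((P.isPGroup'.to_le (inf_le_left : R ≤ _)).comap_of_injective M.subtype M.subtype_injective).comap_of_injective _
        (subtype_injective _)
    have hidx : ¬ 2 ∣ ((R.subgroupOf M).subgroupOf (C.subgroupOf M)).index := by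
      rw [show ((R.subgroupOf M).subgroupOf (C.subgroupOf M)) = (T : Subgroup M).subgroupOf (C.subgroupOf M) by
        rw [hRC']; exact inf_subgroupOf_right _ _]
      exact Cfsg.Lib.Local.not_dvd_relIndex_of_normal T (C.subgroupOf M)
    have hsup := Sylow.normalizer_sup_eq_top (hR2.toSylow hidx)
    rw [show ((hR2.toSylow hidx : Sylow 2 (C.subgroupOf M)) : Subgroup (C.subgroupOf M)).map (C.subgroupOf M).subtype
      = R.subgroupOf M from by
        show ((R.subgroupOf M).subgroupOf (C.subgroupOf M)).map _ = _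
        rw [map_subgroupOf_eq_of_le]
        exact fun u hu => hRC hu, sup_comm] at hsup
    have hmem : (⟨x, hx⟩ : M) ∈ C.subgroupOf M ⊔ normalizer ((R.subgroupOf M : Subgroup M) : Set M) := by
      rw [hsup]; trivial
    exact mem_sup_of_normal_left.1 hmem
  have hnR : (n : G) ∈ normalizer (R : Set G) := by
    refine mem_normalizer_iff.2 fun h => ?_
    constructor
    · intro hh
      have := (mem_normalizer_iff.1 hn ⟨h, hCM (hRC hh)⟩).1 (mem_subgroupOf.2 hh)
      exact mem_subgroupOf.1 this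
    · intro hh
      have hhM : h ∈ M := by
        have h1 := M.mul_mem (M.mul_mem (M.inv_mem n.2) (hCM (hRC hh))) n.2
        rwa [show (n : G)⁻¹ * ((n : G) * h * (n : G)⁻¹) * n = h by group] at h1
      exact mem_subgroupOf.1 ((mem_normalizer_iff.1 hn ⟨h, hhM⟩).2 (mem_subgroupOf.2 hh))
  obtain ⟨k, m, hm, he⟩ := Nat.exists_eq_pow_mul_and_not_dvd (orderOf_pos (n : G)).ne' 2 (by norm_num)
  set y := (n : G) ^ 2 ^ k with hy
  have hym : orderOf y = m := by
    rw [hy, orderOf_pow_of_dvd (pow_pos Nat.two_pos k).ne' (he ▸ dvd_mul_right _ _), he,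
      Nat.mul_div_cancel_left _ (pow_pos Nat.two_pos k)]
  refine hno ⟨D ⊔ R, y, sup_le inf_le_left inf_le_left, fun z hz hcz => mem_sup_right (mem_inf.2 ⟨hz,
    mem_centralizer_iff.2 fun d hd => (hcz d (inf_le_left (b := (Q : Subgroup G)) hd)).symm⟩), ?_, ?_, ?_⟩
  · refine pow_mem ?_ _
    refine Cfsg.Lib.Core.mem_normalizer_iff_map_conj.2 ?_
    rw [Subgroup.map_sup, Cfsg.Lib.Core.mem_normalizer_iff_map_conj.1 n.2, Cfsg.Lib.Core.mem_normalizer_iff_map_conj.1 hnR]
  · rw [hym]; exact (Nat.coprime_comm.1 ((Nat.Prime.coprime_iff_not_dvd Nat.prime_two).2 hm))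
  · intro hyC
    have hyC' : y ∈ C := centralizer_le (SetLike.coe_subset_coe.2 le_sup_left) hyC
    let xm : M := ⟨x, hx⟩
    have hq : QuotientGroup.mk' (C.subgroupOf M) xm = QuotientGroup.mk' (C.subgroupOf M) n := by
      rw [← show c * n = xm from hcn, map_mul, show QuotientGroup.mk' (C.subgroupOf M) c = 1 from
        (QuotientGroup.eq_one_iff _).2 hc, one_mul]
    have hxk : x ^ 2 ^ k ∈ C := by
      have h1 : QuotientGroup.mk' (C.subgroupOf M) (xm ^ 2 ^ k) = 1 := by
        rw [map_pow, hq, ← map_pow]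
        exact (QuotientGroup.eq_one_iff _).2 (mem_subgroupOf.2 hyC')
      exact mem_subgroupOf.1 ((QuotientGroup.eq_one_iff _).1 h1)
    obtain ⟨j, hj⟩ := exists_pow_eq_self_of_coprime (n := 2 ^ k) (hco.pow_right k).symm
    exact hxC (hj ▸ pow_mem hxk j)

/-- The fixed points of an odd automorphism of a `2`-group have index at least four. -/
theorem four_mul_card_fixed {G : Type*} [Group G] [Finite G] {E : Subgroup G} (hE : IsPGroup 2 E) {y : G}
    (hy : y ∈ normalizer (E : Set G)) (hco : (orderOf y).Coprime 2) (hyC : y ∉ centralizer (E : Set G)) :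
    4 * Nat.card (E ⊓ centralizer {y} : Subgroup G) ≤ Nat.card E := by
  haveI : Fact (Nat.Prime 2) := ⟨Nat.prime_two⟩
  set F := E ⊓ centralizer ({y} : Set G) with hF
  obtain ⟨i, hi⟩ := hE.index (F.subgroupOf E)
  have hmul := card_mul_index (F.subgroupOf E)
  rw [Nat.card_congr (subgroupOfEquivOfLe (inf_le_left : F ≤ E)).toEquiv, hi] at hmul
  rcases i with _ | _ | i
  · rw [pow_zero, mul_one] at hmul
    have hFE : F = E := eq_of_le_of_card_ge inf_le_left hmul.ge
    refine absurd (mem_centralizer_iff.2 fun e he => ?_) hyC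
    exact mem_centralizer_singleton_iff.1 ((mem_inf.1 (hFE.ge he)).2)
  · exfalso
    refine hyC (mem_centralizer_iff.2 fun e he => ?_)
    by_cases heF : e ∈ F
    · exact mem_centralizer_singleton_iff.1 (mem_inf.1 heF).2
    have he' : y * e * y⁻¹ ∈ E := (mem_normalizer_iff.1 hy e).1 he
    have heF' : y * e * y⁻¹ ∉ F := by
      intro hh
      have h1 := mem_centralizer_singleton_iff.1 (mem_inf.1 hh).2
      refine heF (mem_inf.2 ⟨he, mem_centralizer_singleton_iff.2 ?_⟩)
      have h2 : y * e = y * (y * e * y⁻¹) := by rw [← h1]; group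
      have h3 := mul_left_cancel h2
      calc e * y = y * e * y⁻¹ * y := by rw [← h3]
        _ = y * e := by group
    have hf : e⁻¹ * (y * e * y⁻¹) ∈ F := by
      have h2 := (mul_mem_iff_of_index_two (H := F.subgroupOf E) (by rw [hi, zero_add, pow_one])
        (a := ⟨e⁻¹, inv_mem he⟩) (b := ⟨_, he'⟩)).2
      have h3 := h2 (iff_of_false (fun hh => heF (by simpa using inv_mem (mem_subgroupOf.1 hh)))
        (fun hh => heF' (mem_subgroupOf.1 hh)))
      exact mem_subgroupOf.1 h3
    set f := e⁻¹ * (y * e * y⁻¹) with hfdef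
    have hiter : ∀ n : ℕ, y ^ n * e * (y ^ n)⁻¹ = e * f ^ n := by
      intro n
      induction n with
      | zero => simp
      | succ n ih =>
        have hc : Commute y f := (mem_centralizer_singleton_iff.1 (mem_inf.1 hf).2).symm
        calc y ^ (n + 1) * e * (y ^ (n + 1))⁻¹ = y * (y ^ n * e * (y ^ n)⁻¹) * y⁻¹ := by
              rw [pow_succ']; group
          _ = (y * e * y⁻¹) * (y * f ^ n * y⁻¹) := by rw [ih]; group
          _ = e * f ^ (n + 1) := by
              rw [(hc.pow_right n).eq, mul_inv_cancel_right, pow_succ', ← mul_assoc, hfdef]; group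
    have h1 := hiter (orderOf y)
    rw [pow_orderOf_eq_one, one_mul, inv_one, mul_one, eq_comm, mul_eq_left] at h1
    have hf1 : f = 1 := by
      obtain ⟨a, ha⟩ := hE ⟨f, inf_le_left (b := centralizer ({y} : Set G)) hf⟩
      have ha' : f ^ 2 ^ a = 1 := congrArg Subtype.val ha
      rw [← orderOf_eq_one_iff]
      exact Nat.eq_one_of_dvd_coprimes (hco.pow_right a) (orderOf_dvd_of_pow_eq_one h1)
        (orderOf_dvd_of_pow_eq_one ha')
    rw [hfdef, inv_mul_eq_one] at hf1
    nth_rewrite 1 [hf1]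
    group
  · rw [← hmul, mul_comm 4]
    exact Nat.mul_le_mul_left _ (le_trans (by norm_num) (Nat.pow_le_pow_right Nat.two_pos (show 2 ≤ i + 1 + 1 by omega)))

theorem two_mul_card_le {G : Type*} [Group G] [Finite G] (P : Sylow 2 G) (h : ¬ HasNormalPComplement 2 G) :
    2 * Nat.card {c : ConjClasses G // ∀ x ∈ c.carrier, ∃ k : ℕ, orderOf x = 2 ^ k} ≤ Nat.card (P : Subgroup G) := by
  classical
  haveI : Fact (Nat.Prime 2) := ⟨Nat.prime_two⟩
  haveI := Fintype.ofFinite G
  haveI : Finite (ConjClasses G) := Quotient.finite _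
  haveI := Fintype.ofFinite (ConjClasses G)
  obtain ⟨E, y, hEP, hZE, hyN, hco, hyC⟩ := exists_odd_normalizer P h
  have h4 := four_mul_card_fixed (P.isPGroup'.to_le hEP) hyN hco hyC
  let PS : Finset G := Finset.univ.filter (· ∈ (P : Subgroup G))
  let ES : Finset G := Finset.univ.filter (· ∈ E)
  let FS : Finset G := Finset.univ.filter (· ∈ E ⊓ centralizer ({y} : Set G))
  let A : Finset (ConjClasses G) := ES.image ConjClasses.mk
  let B : Finset (ConjClasses G) := ((PS \ ES).image ConjClasses.mk) \ A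
  have hcover : Nat.card {c : ConjClasses G // ∀ x ∈ c.carrier, ∃ k : ℕ, orderOf x = 2 ^ k} ≤ A.card + B.card := by
    rw [Nat.card_eq_fintype_card, Fintype.card_subtype]
    refine le_trans (Finset.card_le_card ?_) (Finset.card_union_le A B)
    intro c hc
    obtain ⟨x, rfl⟩ := ConjClasses.exists_rep c
    obtain ⟨k, hk⟩ := (Finset.mem_filter.1 hc).2 x ConjClasses.mem_carrier_mk
    have hx2 : IsPGroup 2 (zpowers x) := IsPGroup.of_card (by rw [Nat.card_zpowers, hk])
    obtain ⟨Q, hQ⟩ := hx2.exists_le_sylow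
    obtain ⟨g, hg⟩ := MulAction.exists_smul_eq G Q P
    have hgx : g * x * g⁻¹ ∈ (P : Subgroup G) := by
      rw [← hg]
      exact smul_mem_pointwise_smul x (MulAut.conj g) _ (hQ (mem_zpowers x))
    have hmk : ConjClasses.mk x = ConjClasses.mk (g * x * g⁻¹) :=
      ConjClasses.mk_eq_mk_iff_isConj.2 (isConj_iff.2 ⟨g, rfl⟩)
    rw [hmk]
    by_cases hA : ConjClasses.mk (g * x * g⁻¹) ∈ A
    · exact Finset.mem_union_left _ hA
    · refine Finset.mem_union_right _ (Finset.mem_sdiff.2 ⟨Finset.mem_image.2 ⟨_, ?_, rfl⟩, hA⟩)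
      exact Finset.mem_sdiff.2 ⟨Finset.mem_filter.2 ⟨Finset.mem_univ _, hgx⟩,
        fun hE' => hA (Finset.mem_image.2 ⟨_, hE', rfl⟩)⟩
  have hA3 : 3 * A.card ≤ ES.card + 2 * FS.card := by
    have hFA : ∀ u ∈ FS, ConjClasses.mk u ∈ A := fun u hu => Finset.mem_image.2
      ⟨u, Finset.mem_filter.2 ⟨Finset.mem_univ _, (mem_inf.1 (Finset.mem_filter.1 hu).2).1⟩, rfl⟩
    rw [Finset.card_eq_sum_card_fiberwise (f := ConjClasses.mk) (s := ES) (t := A)
        (fun u hu => Finset.mem_image.2 ⟨u, hu, rfl⟩),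
      Finset.card_eq_sum_card_fiberwise (f := ConjClasses.mk) (s := FS) (t := A) hFA,
      Finset.mul_sum, ← Finset.sum_add_distrib, mul_comm 3, ← smul_eq_mul, ← Finset.sum_const]
    refine Finset.sum_le_sum fun c hc => ?_
    obtain ⟨u, hu, rfl⟩ := Finset.mem_image.1 hc
    have huE : u ∈ E := (Finset.mem_filter.1 hu).2
    by_cases hcu : u * y = y * u
    · have h1 : 1 ≤ (FS.filter fun a => ConjClasses.mk a = ConjClasses.mk u).card :=
        Finset.card_pos.2 ⟨u, Finset.mem_filter.2 ⟨Finset.mem_filter.2 ⟨Finset.mem_univ _,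
          mem_inf.2 ⟨huE, mem_centralizer_singleton_iff.2 hcu⟩⟩, rfl⟩⟩
      have h2 : 1 ≤ (ES.filter fun a => ConjClasses.mk a = ConjClasses.mk u).card :=
        Finset.card_pos.2 ⟨u, Finset.mem_filter.2 ⟨hu, rfl⟩⟩
      omega
    · let cj : ℕ → G := fun i => y ^ i * u * (y ^ i)⁻¹
      have hinj : ∀ i j, i < 3 → j < 3 → i < j → cj i ≠ cj j := by
        intro i j hi hj hij e
        have hfix : Commute (y ^ (j - i)) u := by
          have e' : y ^ i * u * (y ^ i)⁻¹ = y ^ i * (y ^ (j - i) * u * (y ^ (j - i))⁻¹) * (y ^ i)⁻¹ := by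
            rw [show y ^ i * u * (y ^ i)⁻¹ = cj j from e]
            show y ^ j * u * (y ^ j)⁻¹ = _
            conv_lhs => rw [show j = i + (j - i) by omega, pow_add]
            group
          have e'' := mul_left_cancel (mul_right_cancel e')
          show _ * _ = _ * _
          calc y ^ (j - i) * u = y ^ (j - i) * u * (y ^ (j - i))⁻¹ * y ^ (j - i) := by group
            _ = u * y ^ (j - i) := by rw [← e'']
        refine hcu ?_
        rcases (show j - i = 1 ∨ j - i = 2 by omega) with e1 | e2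
        · rw [e1, pow_one] at hfix; exact hfix.eq.symm
        · rw [e2] at hfix
          obtain ⟨m, hm⟩ := exists_pow_eq_self_of_coprime hco.symm
          have h' := hfix.pow_left m
          rw [hm] at h'
          exact h'.eq.symm
      have h3 : 3 ≤ (ES.filter fun a => ConjClasses.mk a = ConjClasses.mk u).card := by
        refine le_trans (le_of_eq (Finset.card_range 3).symm) (Finset.card_le_card_of_injOn cj ?_ ?_)
        · intro i _
          refine Finset.mem_filter.2 ⟨Finset.mem_filter.2 ⟨Finset.mem_univ _,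
            (mem_normalizer_iff.1 (pow_mem hyN i) u).1 huE⟩, ?_⟩
          exact ConjClasses.mk_eq_mk_iff_isConj.2 (isConj_iff.2 ⟨(y ^ i)⁻¹, by
            show (y ^ i)⁻¹ * (y ^ i * u * (y ^ i)⁻¹) * (y ^ i)⁻¹⁻¹ = u
            group⟩)
        · intro i hi j hj e
          rw [Finset.coe_range, Set.mem_Iio] at hi hj
          rcases lt_trichotomy i j with hl | hl | hl
          · exact absurd e (hinj i j hi hj hl)
          · exact hl
          · exact absurd e.symm (hinj j i hj hi hl)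
      omega
  have hB2 : 2 * B.card ≤ (PS \ ES).card := by
    refine le_trans ?_ (Finset.card_le_card (Finset.filter_subset (fun u => ConjClasses.mk u ∈ B) _))
    rw [Finset.card_eq_sum_card_fiberwise (f := ConjClasses.mk) (s := (PS \ ES).filter fun u => ConjClasses.mk u ∈ B) (t := B)
        (fun u hu => (Finset.mem_filter.1 hu).2),
      mul_comm, ← smul_eq_mul, ← Finset.sum_const]
    refine Finset.sum_le_sum fun c hc => ?_
    obtain ⟨hc1, hc2⟩ := Finset.mem_sdiff.1 hc
    obtain ⟨u, hu, rfl⟩ := Finset.mem_image.1 hc1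
    obtain ⟨huP, huE⟩ := Finset.mem_sdiff.1 hu
    have huP' : u ∈ (P : Subgroup G) := (Finset.mem_filter.1 huP).2
    obtain ⟨v, hv, hne⟩ : ∃ v ∈ (P : Subgroup G), u * v ≠ v * u := by
      by_contra hh
      push Not at hh
      exact huE (Finset.mem_filter.2 ⟨Finset.mem_univ _, hZE u huP' hh⟩)
    have hmk : ConjClasses.mk (v * u * v⁻¹) = ConjClasses.mk u :=
      ConjClasses.mk_eq_mk_iff_isConj.2 (IsConj.symm (isConj_iff.2 ⟨v, rfl⟩))
    have hne' : v * u * v⁻¹ ≠ u := fun e => hne (mul_inv_eq_iff_eq_mul.1 e).symm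
    refine le_trans (Finset.card_pair hne').ge (Finset.card_le_card ?_)
    intro w hw
    have hwP : w ∈ PS ∧ ConjClasses.mk w = ConjClasses.mk u := by
      rcases Finset.mem_insert.1 hw with rfl | hw
      · exact ⟨Finset.mem_filter.2 ⟨Finset.mem_univ _, mul_mem (mul_mem hv huP') (inv_mem hv)⟩, hmk⟩
      · rw [Finset.mem_singleton] at hw; subst hw; exact ⟨huP, rfl⟩
    refine Finset.mem_filter.2 ⟨Finset.mem_filter.2 ⟨Finset.mem_sdiff.2 ⟨hwP.1, fun hwE => hc2 ?_⟩, ?_⟩, hwP.2⟩
    · exact Finset.mem_image.2 ⟨w, hwE, hwP.2⟩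
    · rw [hwP.2]; exact hc
  have hsub : ES ⊆ PS := fun u hu => Finset.mem_filter.2 ⟨Finset.mem_univ _, hEP (Finset.mem_filter.1 hu).2⟩
  have hsd := Finset.card_sdiff_add_card_eq_card hsub
  have hcP : PS.card = Nat.card (P : Subgroup G) := by rw [Nat.card_eq_fintype_card, ← Fintype.card_subtype]
  have hcE : ES.card = Nat.card E := by rw [Nat.card_eq_fintype_card, ← Fintype.card_subtype]
  have hcF : FS.card = Nat.card (E ⊓ centralizer {y} : Subgroup G) := by
    rw [Nat.card_eq_fintype_card, ← Fintype.card_subtype]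
  omega

theorem card_classes_eq {G : Type*} [Group G] [Finite G] (P : Sylow 2 G) (h : HasNormalPComplement 2 G) :
    Nat.card {c : ConjClasses G // ∀ x ∈ c.carrier, ∃ k : ℕ, orderOf x = 2 ^ k} =
      Nat.card (ConjClasses (P : Subgroup G)) := by
  haveI : Fact (Nat.Prime 2) := ⟨Nat.prime_two⟩
  obtain ⟨P₀, N, hN, hc⟩ := h
  have hNc : (Nat.card N).Coprime 2 := Cfsg.Lib.Fusion.coprime_card_of_complement hc
  have hdisj : N ⊓ (P : Subgroup G) = ⊥ := by
    obtain ⟨a, ha⟩ := IsPGroup.iff_card.1 P.isPGroup'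
    exact inf_eq_bot_of_coprime (ha ▸ hNc.pow_right a)
  have hsup : N ⊔ (P : Subgroup G) = ⊤ := by
    refine isComplement'_of_card_mul_and_disjoint (H := N) (K := (P : Subgroup G)) ?_ (disjoint_iff.2 hdisj)
      |>.sup_eq_top
    rw [P.card_eq_multiplicity, ← P₀.card_eq_multiplicity]
    exact hc.card_mul
  have hord : ∀ (u : (P : Subgroup G)), ∀ x ∈ (ConjClasses.mk (u : G)).carrier, ∃ k : ℕ, orderOf x = 2 ^ k := by
    intro u x hx
    obtain ⟨g, hg⟩ := isConj_iff.1 (ConjClasses.mk_eq_mk_iff_isConj.1 (ConjClasses.mem_carrier_iff_mk_eq.1 hx))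
    obtain ⟨k, hk⟩ := IsPGroup.iff_orderOf.1 P.isPGroup' u
    refine ⟨k, ?_⟩
    rw [← orderOf_injective (MulAut.conj g).toMonoidHom (MulAut.conj g).injective x]
    show orderOf (g * x * g⁻¹) = _
    rw [hg]
    exact (Subgroup.orderOf_coe u).trans hk
  refine (Nat.card_congr (Equiv.ofBijective (fun C : ConjClasses (P : Subgroup G) =>
    (⟨ConjClasses.map (P : Subgroup G).subtype C, by
      obtain ⟨u, rfl⟩ := C.exists_rep
      exact hord u⟩ : {c : ConjClasses G // ∀ x ∈ c.carrier, ∃ k : ℕ, orderOf x = 2 ^ k})) ⟨?_, ?_⟩)).symm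
  · intro C D e
    obtain ⟨u, rfl⟩ := C.exists_rep
    obtain ⟨v, rfl⟩ := D.exists_rep
    obtain ⟨g, hg⟩ := isConj_iff.1 (ConjClasses.mk_eq_mk_iff_isConj.1 (congrArg Subtype.val e :
      ConjClasses.mk (u : G) = ConjClasses.mk (v : G)))
    have hgm : g ∈ N ⊔ (P : Subgroup G) := by rw [hsup]; trivial
    obtain ⟨n, hn, w, hw, rfl⟩ := mem_sup_of_normal_left.1 hgm
    refine ConjClasses.mk_eq_mk_iff_isConj.2 (isConj_iff.2 ⟨⟨w, hw⟩, Subtype.ext ?_⟩)
    show w * u * w⁻¹ = v
    have hz : (w * u * w⁻¹) ∈ (P : Subgroup G) := mul_mem (mul_mem hw u.2) (inv_mem hw)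
    have hd : (v : G) * (w * u * w⁻¹)⁻¹ ∈ N ⊓ (P : Subgroup G) := by
      refine mem_inf.2 ⟨?_, mul_mem v.2 (inv_mem hz)⟩
      rw [show (v : G) = n * w * u * (n * w)⁻¹ from hg.symm]
      show n * w * u * (n * w)⁻¹ * (w * u * w⁻¹)⁻¹ ∈ N
      have : n * w * u * (n * w)⁻¹ * (w * u * w⁻¹)⁻¹ = n * ((w * u * w⁻¹) * n⁻¹ * (w * u * w⁻¹)⁻¹) := by group
      rw [this]
      exact mul_mem hn (hN.conj_mem _ (inv_mem hn) _)
    rw [hdisj, mem_bot, mul_inv_eq_one] at hd
    exact hd.symm
  · rintro ⟨c, hc'⟩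
    obtain ⟨x, rfl⟩ := c.exists_rep
    obtain ⟨k, hk⟩ := hc' x ConjClasses.mem_carrier_mk
    obtain ⟨Q, hQ⟩ := (IsPGroup.of_card (n := k) (by rw [Nat.card_zpowers, hk]) : IsPGroup 2 (zpowers x)).exists_le_sylow
    obtain ⟨g, hg⟩ := MulAction.exists_smul_eq G Q P
    have hgx : g * x * g⁻¹ ∈ (P : Subgroup G) := by
      rw [← hg]
      exact smul_mem_pointwise_smul x (MulAut.conj g) _ (hQ (mem_zpowers x))
    exact ⟨ConjClasses.mk ⟨_, hgx⟩, Subtype.ext (ConjClasses.mk_eq_mk_iff_isConj.2 (IsConj.symm (isConj_iff.2 ⟨g, rfl⟩)))⟩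


/-- Let G be a finite group with Sylow 2-subgroup P, and write k₂(G) for the number of conjugacy classes of G consisting of 2-elements (elements of 2-power order, the identity included). Then k₂(G) > |P|/2 if and only if G has a normal 2-complement and P has more than |P|/2 conjugacy classes. -/
theorem result {G : Type*} [Group G] [Finite G] (P : Sylow 2 G) :
    Nat.card ↥(P : Subgroup G) < 2 * Nat.card {c : ConjClasses G // ∀ x ∈ c.carrier, ∃ k : ℕ, orderOf x = 2 ^ k} ↔
      Cfsg.HasNormalPComplement 2 G ∧ Nat.card ↥(P : Subgroup G) < 2 * Nat.card (ConjClasses ↥(P : Subgroup G)) := by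
  constructor
  · intro h
    have hn : Cfsg.HasNormalPComplement 2 G := by
      by_contra hn
      exact absurd (two_mul_card_le P hn) (Nat.not_le.2 h)
    exact ⟨hn, card_classes_eq P hn ▸ h⟩
  · rintro ⟨hn, h⟩
    rw [card_classes_eq P hn]
    exact h

end Cfsg.Agent.S3895
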