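import Cfsg.Statements.S3897
import Cfsg.Agent.Lib.Fusion.Abelian
import Mathlib.GroupTheory.ClassEquation

set_option autoImplicit false
open Cfsg

namespace Cfsg.Agent.S3897

open Subgroup

section

variable {G : Type*} [Group G] [Finite G] {p : ℕ} [hp : Fact p.Prime]

/-- The classes of elements of `p`-power order. -/
abbrev PClasses (p : ℕ) (G : Type*) [Group G] :=
  {c : ConjClasses G // ∀ x ∈ c.carrier, ∃ k : ℕ, orderOf x = p ^ k}

omit [Finite G] hp in
theorem mk_mem {x : G} (h : ∃ k : ℕ, orderOf x = p ^ k) :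
    ∀ y ∈ (ConjClasses.mk x).carrier, ∃ k : ℕ, orderOf y = p ^ k := by
  intro y hy
  rw [ConjClasses.mem_carrier_iff_mk_eq, ConjClasses.mk_eq_mk_iff_isConj, isConj_iff] at hy
  obtain ⟨g, hg⟩ := hy
  obtain ⟨k, hk⟩ := h
  exact ⟨k, by rw [← hk, ← hg]; exact (orderOf_injective (MulAut.conj g).toMonoidHom (MulAut.conj g).injective y).symm⟩

/-- The map from a Sylow subgroup to the classes of `p`-elements. -/
noncomputable def classOf (P : Sylow p G) (x : (P : Subgroup G)) : PClasses p G :=
  ⟨ConjClasses.mk (x : G), mk_mem (by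
    obtain ⟨k, hk⟩ := IsPGroup.iff_orderOf.mp P.2 x
    exact ⟨k, by rw [orderOf_coe, hk]⟩)⟩

theorem classOf_surjective (P : Sylow p G) : Function.Surjective (classOf P) := by
  rintro ⟨c, hc⟩
  obtain ⟨x, rfl⟩ := ConjClasses.exists_rep c
  obtain ⟨k, hk⟩ := hc x ConjClasses.mem_carrier_mk
  obtain ⟨Q, hQ⟩ := (IsPGroup.of_card (n := k) (by rw [Nat.card_zpowers, hk]) :
    IsPGroup p (zpowers x)).exists_le_sylow
  obtain ⟨g, hg⟩ := MulAction.exists_smul_eq G Q P
  have h1 : g * x * g⁻¹ ∈ (P : Subgroup G) := by
    rw [← hg]; exact smul_mem_pointwise_smul x (MulAut.conj g) (Q : Subgroup G) (hQ (mem_zpowers x))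
  refine ⟨⟨_, h1⟩, Subtype.ext ?_⟩
  exact ConjClasses.mk_eq_mk_iff_isConj.mpr (isConj_iff.mpr ⟨g⁻¹, by group⟩)

theorem card_le_sylow (P : Sylow p G) : Nat.card (PClasses p G) ≤ Nat.card (P : Subgroup G) :=
  Nat.card_le_card_of_surjective _ (classOf_surjective P)

theorem card_le_classes (P : Sylow p G) :
    Nat.card (PClasses p G) ≤ Nat.card (ConjClasses (P : Subgroup G)) := by
  refine Nat.card_le_card_of_surjective
    (fun c => Quotient.liftOn c (classOf P) fun a b hab => Subtype.ext ?_) fun c => ?_
  · exact ConjClasses.mk_eq_mk_iff_isConj.mpr ((P : Subgroup G).subtype.map_isConj hab)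
  · obtain ⟨x, rfl⟩ := classOf_surjective P c
    exact ⟨ConjClasses.mk x, rfl⟩

/-- A nonabelian `p`-group has few classes. -/
theorem card_classes_le (hG : IsPGroup p G) (hna : ¬ IsMulCommutative G) :
    2 * p * Nat.card (ConjClasses G) ≤ (p + 1) * Nat.card G := by
  classical
  have := Fintype.ofFinite G
  obtain ⟨n, hn⟩ := IsPGroup.iff_card.mp hG
  set Z := center G with hZ
  have hidx : p ^ 2 ∣ Z.index := by
    have hd : Z.index ∣ p ^ n := hn ▸ index_dvd_card Z
    obtain ⟨i, -, hi⟩ := (Nat.dvd_prime_pow hp.out).mp hd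
    rw [hi]
    refine pow_dvd_pow p ?_
    by_contra h
    have hcy : IsCyclic (G ⧸ Z) := by
      rcases (show i = 0 ∨ i = 1 by omega) with rfl | rfl
      · have := (Nat.card_eq_one_iff_unique.mp (show Nat.card (G ⧸ Z) = 1 from hi)).1
        infer_instance
      · exact isCyclic_of_prime_card (show Nat.card (G ⧸ Z) = p from hi.trans (pow_one p))
    exact hna (MonoidHom.isMulCommutative_of_isCyclic_of_ker_le_center (QuotientGroup.mk' Z)
      (le_of_eq (QuotientGroup.ker_mk' Z)))
  have hZle : p ^ 2 * Nat.card Z ≤ Nat.card G := by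
    rw [← Z.card_mul_index, mul_comm (Nat.card Z)]
    exact Nat.mul_le_mul_right _ (Nat.le_of_dvd (Nat.pos_of_ne_zero index_ne_zero_of_finite) hidx)
  -- the class equation
  set nc := Finset.univ.filter fun c : ConjClasses G => c ∈ ConjClasses.noncenter G with hnc
  have hcard : Nat.card (ConjClasses G) = Nat.card Z + nc.card := by
    have h1 : (Finset.univ.filter fun c : ConjClasses G => c ∉ ConjClasses.noncenter G).card
        = Nat.card Z := by
      rw [← Fintype.card_subtype, ← Nat.card_eq_fintype_card]
      have h := Set.BijOn.equiv _ (ConjClasses.mk_bijOn G)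
      exact (Nat.card_congr h).symm
    rw [Nat.card_eq_fintype_card, ← Finset.card_univ, ← h1, add_comm, hnc,
      Finset.card_filter_add_card_filter_not]
  have hbig : p * nc.card + Nat.card Z ≤ Nat.card G := by
    have hsum : ∑ c ∈ nc, p ≤ ∑ c ∈ nc, c.carrier.ncard := by
      refine Finset.sum_le_sum fun c hc => ?_
      simp only [hnc, Finset.mem_filter, Finset.mem_univ, true_and] at hc
      obtain ⟨x, rfl⟩ := ConjClasses.exists_rep c
      have hx : x ∉ Z := fun h => by
        have := (ConjClasses.mk_bijOn G).mapsTo h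
        exact this hc
      have hcard : (ConjClasses.mk x).carrier.ncard = (centralizer ({x} : Set G)).index := by
        rw [← ConjAct.orbit_eq_carrier_conjClasses, ← Nat.card_coe_set_eq,
          Nat.card_congr (MulAction.orbitEquivQuotientStabilizer (ConjAct G) x)]
        rw [show Nat.card (ConjAct G ⧸ MulAction.stabilizer (ConjAct G) x) =
          (MulAction.stabilizer (ConjAct G) x).index from rfl]
        have := ConjAct.stabilizer_eq_centralizer x
        exact congrArg Subgroup.index this
      rw [hcard]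
      obtain ⟨i, -, hi⟩ := (Nat.dvd_prime_pow hp.out).mp
        (hn ▸ index_dvd_card (centralizer ({x} : Set G)))
      rw [hi]
      have : i ≠ 0 := fun h => hx (mem_center_iff.mpr fun g => by
        have htop : centralizer ({x} : Set G) = ⊤ := index_eq_one.mp (by rw [hi, h, pow_zero])
        exact mem_centralizer_singleton_iff.mp (htop ▸ mem_top g))
      exact Nat.le_self_pow this p
    rw [Finset.sum_const, smul_eq_mul] at hsum
    have heq := Group.nat_card_center_add_sum_card_noncenter_eq_card G
    rw [finsum_mem_eq_sum_of_inter_support_eq (s := ConjClasses.noncenter G)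
      (fun c => Nat.card c.carrier) (t := nc) (by ext c; simp [hnc])] at heq
    simp only [Nat.card_coe_set_eq] at heq
    rw [← heq, add_comm, mul_comm]
    exact Nat.add_le_add_left hsum _
  rw [hcard]
  have h2 := hp.out.two_le
  obtain ⟨q, rfl⟩ : ∃ q, p = q + 1 := ⟨p - 1, by omega⟩
  have h3 : 2 * Nat.card Z ≤ Nat.card G :=
    le_trans (Nat.mul_le_mul_right _ (h2.trans (Nat.le_self_pow (by norm_num) _))) hZle
  have h4 := Nat.mul_le_mul_left q h3
  nlinarith

/-- Without a normal complement an abelian Sylow subgroup gives few classes. -/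
theorem card_le_of_abelian (P : Sylow p G) (hab : IsMulCommutative (P : Subgroup G))
    (hno : ¬ Cfsg.HasNormalPComplement p G) :
    2 * p * Nat.card (PClasses p G) ≤ (p + 1) * Nat.card (P : Subgroup G) := by
  classical
  set N := normalizer ((P : Subgroup G) : Set G) with hNdef
  have := Fintype.ofFinite N
  have := Fintype.ofFinite (P : Subgroup G)
  let act : MulAction N (P : Subgroup G) :=
    { smul := fun n x => ⟨(n : G) * x * (n : G)⁻¹, (mem_normalizer_iff.mp n.2 _).mp x.2⟩
      one_smul := fun x => Subtype.ext (by show (1 : G) * x * (1 : G)⁻¹ = x; simp)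
      mul_smul := fun a b x => Subtype.ext (by
        show (a : G) * b * x * ((a : G) * b)⁻¹ = (a : G) * ((b : G) * x * (b : G)⁻¹) * (a : G)⁻¹
        group) }
  have hsmul : ∀ (n : N) (x : (P : Subgroup G)), ((n • x : (P : Subgroup G)) : G) = (n : G) * x * (n : G)⁻¹ :=
    fun n x => rfl
  set Ω := MulAction.orbitRel.Quotient N (P : Subgroup G)
  have := Fintype.ofFinite Ω
  have hle : Nat.card (PClasses p G) ≤ Fintype.card Ω := by
    rw [← Nat.card_eq_fintype_card]
    refine Nat.card_le_card_of_surjective (Quotient.lift (classOf P) fun a b hab => Subtype.ext ?_) fun c => ?_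
    · obtain ⟨n, rfl⟩ := hab
      exact ConjClasses.mk_eq_mk_iff_isConj.mpr
        (isConj_iff.mpr ⟨(n : G), rfl⟩ : IsConj (b : G) _).symm
    · obtain ⟨x, rfl⟩ := classOf_surjective P c
      exact ⟨Quotient.mk _ x, rfl⟩
  set C := (centralizer ((P : Subgroup G) : Set G)).subgroupOf N with hC
  have hCtop : C ≠ ⊤ := fun h => hno (Lib.Fusion.hasNormalPComplement_of_normalizer_le_centralizer P
    (subgroupOf_eq_top.mp h))
  have hCidx : 2 ≤ C.index := one_lt_index_of_ne_top hCtop
  have hburn := MulAction.sum_card_fixedBy_eq_card_orbits_mul_card_group N (P : Subgroup G)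
  have hfix : ∀ n : N, p * Fintype.card (MulAction.fixedBy (P : Subgroup G) n) ≤
      if n ∈ C then p * Nat.card (P : Subgroup G) else Nat.card (P : Subgroup G) := by
    intro n
    split_ifs with h
    · rw [Nat.card_eq_fintype_card]
      exact Nat.mul_le_mul_left _ (Fintype.card_subtype_le _)
    · let F : Subgroup (P : Subgroup G) :=
        { carrier := {x | n • x = x}
          one_mem' := Subtype.ext (by rw [hsmul]; simp)
          mul_mem' := fun {a b} ha hb => Subtype.ext (by
            have ha' : (n : G) * a * (n : G)⁻¹ = a := congrArg Subtype.val ha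
            have hb' : (n : G) * b * (n : G)⁻¹ = b := congrArg Subtype.val hb
            rw [hsmul, coe_mul]
            calc (n : G) * (a * b) * (n : G)⁻¹ = ((n : G) * a * (n : G)⁻¹) * ((n : G) * b * (n : G)⁻¹) := by group
              _ = _ := by rw [ha', hb'])
          inv_mem' := fun {a} ha => Subtype.ext (by
            have ha' : (n : G) * a * (n : G)⁻¹ = a := congrArg Subtype.val ha
            rw [hsmul, InvMemClass.coe_inv]
            calc (n : G) * (a : G)⁻¹ * (n : G)⁻¹ = ((n : G) * a * (n : G)⁻¹)⁻¹ := by group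
              _ = _ := by rw [ha']) }
      have hF : F ≠ ⊤ := fun hF => h (mem_subgroupOf.mpr (mem_centralizer_iff.mpr fun y hy => by
        have : n • (⟨y, hy⟩ : (P : Subgroup G)) = ⟨y, hy⟩ := hF.ge (mem_top _)
        exact (mul_inv_eq_iff_eq_mul.mp (congrArg Subtype.val this)).symm))
      have hFc : Fintype.card (MulAction.fixedBy (P : Subgroup G) n) = Nat.card F := by
        rw [← Nat.card_eq_fintype_card]; rfl
      obtain ⟨a, ha⟩ := IsPGroup.iff_card.mp P.2
      obtain ⟨i, -, hi⟩ := (Nat.dvd_prime_pow hp.out).mp (ha ▸ F.index_dvd_card)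
      have hi0 : i ≠ 0 := fun h0 => hF (index_eq_one.mp (by rw [hi, h0, pow_zero]))
      rw [hFc, ← F.card_mul_index, hi, mul_comm p]
      exact Nat.mul_le_mul_left _ (Nat.le_self_pow hi0 p)
  have hsum : p * (Fintype.card Ω * Fintype.card N) ≤
      Nat.card C * (p * Nat.card (P : Subgroup G)) +
        (Fintype.card N - Nat.card C) * Nat.card (P : Subgroup G) := by
    rw [← hburn, Finset.mul_sum]
    refine (Finset.sum_le_sum fun n _ => hfix n).trans (le_of_eq ?_)
    rw [Finset.sum_ite, Finset.sum_const, Finset.sum_const, smul_eq_mul, smul_eq_mul,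
      Nat.card_eq_fintype_card (α := C), Fintype.card_subtype, Finset.filter_not, Finset.card_sdiff_of_subset (Finset.filter_subset _ _), Finset.card_univ]
  have hNC : 2 * Nat.card C ≤ Fintype.card N := by
    rw [← Nat.card_eq_fintype_card, ← C.card_mul_index, mul_comm 2]
    exact Nat.mul_le_mul_left _ hCidx
  obtain ⟨d, hd⟩ : ∃ d, Fintype.card N = Nat.card C + d := ⟨Fintype.card N - Nat.card C, by omega⟩
  rw [hd, Nat.add_sub_cancel_left] at hsum
  rw [hd] at hNC
  have hN0 : 0 < Nat.card C + d := hd ▸ Fintype.card_pos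
  refine le_of_mul_le_mul_right ?_ hN0
  have h2 := hp.out.two_le
  have h3 := Nat.mul_le_mul_right (Nat.card C + d) (Nat.mul_le_mul_left (2 * p) hle)
  nlinarith [Nat.mul_le_mul_right ((Nat.card (P : Subgroup G)) * (p - 1)) (show Nat.card C ≤ d by omega),
    show p = p - 1 + 1 by omega]

end

/-- Let p be an odd prime and G a finite group with Sylow p-subgroup P, and write k_p(G) for the number of conjugacy classes of G consisting of p-elements (elements of p-power order, the identity included). Then k_p(G) > (p + 1)|P|/(2p) if and only if G has a normal p-complement and P is abelian. -/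
theorem result {G : Type*} [Group G] [Finite G] {p : ℕ} [Fact p.Prime] (hp : p ≠ 2) (P : Sylow p G) :
    (p + 1) * Nat.card ↥(P : Subgroup G) < 2 * p * Nat.card {c : ConjClasses G // ∀ x ∈ c.carrier, ∃ k : ℕ, orderOf x = p ^ k} ↔
      Cfsg.HasNormalPComplement p G ∧ IsMulCommutative ↥(P : Subgroup G) := by
  have h2 := (Fact.out : p.Prime).two_le
  constructor
  · intro h
    by_cases hab : IsMulCommutative ↥(P : Subgroup G)
    · refine ⟨?_, hab⟩
      by_contra hno
      exact absurd (card_le_of_abelian P hab hno) (not_le.mpr h)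
    · have h1 := card_classes_le P.2 hab
      have h3 := Nat.mul_le_mul_left (2 * p) (card_le_classes P)
      exact absurd (h3.trans h1) (not_le.mpr h)
  · rintro ⟨⟨P₀, K, hK, hc⟩, hab⟩
    have hcop : (Nat.card K).Coprime p := by
      have := Lib.Fusion.coprime_card_of_complement hc
      exact this
    have hinj : Function.Injective (classOf P) := by
      intro a b hab'
      obtain ⟨g, hg⟩ := isConj_iff.mp (ConjClasses.mk_eq_mk_iff_isConj.mp (congrArg Subtype.val hab'))
      -- pass to the abelian quotient
      have hcomm : ∀ x y : G, x * y * x⁻¹ * y⁻¹ ∈ K := by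
        have e := hc.symm.QuotientMulEquiv
        obtain ⟨t, ht⟩ := MulAction.exists_smul_eq G P₀ P
        have e2 : (P₀ : Subgroup G) ≃* (P : Subgroup G) := P₀.equiv P
        intro x y
        rw [← QuotientGroup.eq_one_iff]
        apply (e.trans e2).injective
        simp only [QuotientGroup.mk_mul, QuotientGroup.mk_inv, map_mul, map_inv, map_one]
        rw [hab.is_comm.comm (e.trans e2 (x : G ⧸ K)), mul_inv_cancel_right, mul_inv_cancel]
      have h1 : (b : G) * (a : G)⁻¹ ∈ K := by
        rw [← hg]; exact hcomm g a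
      have h3 : (b : G) * (a : G)⁻¹ = 1 := by
        have hmem : (b : G) * (a : G)⁻¹ ∈ (P : Subgroup G) := mul_mem b.2 (inv_mem a.2)
        obtain ⟨n, hn⟩ := IsPGroup.iff_card.mp P.2
        have hd : Disjoint K (P : Subgroup G) := disjoint_of_coprime_natCard (hn ▸ hcop.pow_right n)
        exact disjoint_def.mp hd h1 hmem
      exact Subtype.ext (mul_inv_eq_one.mp h3).symm
    have hle := Nat.card_le_card_of_injective _ hinj
    have hpos : 0 < Nat.card ↥(P : Subgroup G) := Nat.card_pos
    calc (p + 1) * Nat.card ↥(P : Subgroup G) < 2 * p * Nat.card ↥(P : Subgroup G) :=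
          Nat.mul_lt_mul_of_pos_right (by omega) hpos
      _ ≤ _ := Nat.mul_le_mul_left _ hle

end Cfsg.Agent.S3897
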