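import Cfsg.Statements.S3899
import Cfsg.Agent.S3897

set_option autoImplicit false
open Cfsg

namespace Cfsg.Agent.S3899

open Subgroup
open scoped commutatorElement

universe u

/-- The classes of elements whose order has all prime divisors in `π`. -/
abbrev PiClasses (π : Finset ℕ) (G : Type u) [Group G] :=
  {c : ConjClasses G // ∀ x ∈ c.carrier, ∀ r : ℕ, r.Prime → r ∣ orderOf x → r ∈ π}

theorem orderOf_eq_of_mem {G : Type u} [Group G] {x y : G} (hy : y ∈ (ConjClasses.mk x).carrier) :
    orderOf y = orderOf x := by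
  rw [ConjClasses.mem_carrier_iff_mk_eq, ConjClasses.mk_eq_mk_iff_isConj, isConj_iff] at hy
  obtain ⟨g, hg⟩ := hy
  rw [← hg]
  exact (orderOf_injective (MulAut.conj g).toMonoidHom (MulAut.conj g).injective y).symm

theorem factorization_pow_le {G : Type u} [Group G] [Finite G] (r : ℕ) (H : Subgroup G) :
    r ^ (Nat.card H).factorization r ≤ r ^ (Nat.card G).factorization r := by
  rcases Nat.eq_zero_or_pos r with rfl | hr
  · simp
  exact Nat.pow_le_pow_right hr
    ((Nat.factorization_le_iff_dvd Nat.card_pos.ne' Nat.card_pos.ne').mpr (card_subgroup_dvd_card H) r)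

/-- Splitting off one prime: the class of a `π`-element from those of its two parts. -/
theorem card_le_sigma {G : Type u} [Group G] [Finite G] (π : Finset ℕ) {r : ℕ} (hr : r.Prime) :
    Nat.card (PiClasses π G) ≤
      Nat.card ((c : S3897.PClasses r G) ×
        PiClasses (π.erase r) ↥(centralizer ({Quotient.out c.1} : Set G))) := by
  classical
  let T := (c : S3897.PClasses r G) ×
    PiClasses (π.erase r) ↥(centralizer ({Quotient.out c.1} : Set G))
  let f : T → ConjClasses G := fun t =>
    Quotient.liftOn t.2.1 (fun y => ConjClasses.mk (Quotient.out t.1.1 * (y : G))) fun a b hab => by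
      obtain ⟨g, hg⟩ := isConj_iff.mp (hab : IsConj a b)
      refine ConjClasses.mk_eq_mk_iff_isConj.mpr (isConj_iff.mpr ⟨(g : G), ?_⟩)
      have hgc := mem_centralizer_singleton_iff.mp g.2
      have hg' : (g : G) * a * (g : G)⁻¹ = b := congrArg Subtype.val hg
      rw [← hg', show (g : G) * (Quotient.out t.1.1 * a) * (g : G)⁻¹ =
        (g : G) * Quotient.out t.1.1 * a * (g : G)⁻¹ by group, hgc]
      group
  have hsub : ∀ c : PiClasses π G, ∃ t, f t = c.1 := by
    rintro ⟨c, hc⟩
    obtain ⟨x, rfl⟩ := ConjClasses.exists_rep c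
    obtain ⟨j, l, hl, hxl⟩ := Nat.exists_eq_pow_mul_and_not_dvd (orderOf_pos x).ne' r hr.ne_one
    have hco : Nat.Coprime (r ^ j) l := (hr.coprime_iff_not_dvd.mpr hl).pow_left j
    have hb := Nat.gcd_eq_gcd_ab (r ^ j) l
    rw [hco.gcd_eq_one] at hb
    set u := (x ^ l) ^ (Nat.gcdB (r ^ j) l) with hu
    set v := (x ^ r ^ j) ^ (Nat.gcdA (r ^ j) l) with hv
    have huv : x = u * v := by
      rw [hu, hv, ← zpow_natCast x l, ← zpow_natCast x (r ^ j), ← zpow_mul, ← zpow_mul, ← zpow_add,
        add_comm, ← hb]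
      simp
    have hu1 : u ^ r ^ j = 1 := by
      rw [hu, ← zpow_natCast, zpow_comm, zpow_natCast, ← pow_mul, mul_comm l, ← hxl,
        pow_orderOf_eq_one, one_zpow]
    have hv1 : v ^ l = 1 := by
      rw [hv, ← zpow_natCast, zpow_comm, zpow_natCast, ← pow_mul, ← hxl, pow_orderOf_eq_one, one_zpow]
    obtain ⟨k, -, hk⟩ := (Nat.dvd_prime_pow hr).mp (orderOf_dvd_of_pow_eq_one hu1)
    have hu' : ∀ y ∈ (ConjClasses.mk u).carrier, ∃ k : ℕ, orderOf y = r ^ k :=
      fun y hy => ⟨k, by rw [orderOf_eq_of_mem hy, hk]⟩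
    obtain ⟨g, hg⟩ := isConj_iff.mp (ConjClasses.mk_eq_mk_iff_isConj.mp
      (Quotient.out_eq (ConjClasses.mk u) : ConjClasses.mk (Quotient.out (ConjClasses.mk u)) = _).symm)
    have hcomm : u * v = v * u :=
      ((((Commute.refl x).pow_pow l (r ^ j)).zpow_zpow _ _)).eq
    have hvC : g * v * g⁻¹ ∈ centralizer ({Quotient.out (ConjClasses.mk u)} : Set G) := by
      rw [mem_centralizer_singleton_iff, ← hg]
      calc g * v * g⁻¹ * (g * u * g⁻¹) = g * (v * u) * g⁻¹ := by group
        _ = _ := by rw [← hcomm]; group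
    have hv' : ∀ y ∈ (ConjClasses.mk (⟨g * v * g⁻¹, hvC⟩ :
        centralizer ({Quotient.out (ConjClasses.mk u)} : Set G))).carrier,
        ∀ s : ℕ, s.Prime → s ∣ orderOf y → s ∈ π.erase r := by
      intro y hy s hs hsd
      rw [orderOf_eq_of_mem hy, ← orderOf_coe] at hsd
      change s ∣ orderOf ((MulAut.conj g).toMonoidHom v) at hsd
      rw [orderOf_injective _ (MulAut.conj g).injective] at hsd
      have hsl : s ∣ l := hsd.trans (orderOf_dvd_of_pow_eq_one hv1)
      refine Finset.mem_erase.mpr ⟨fun h => hl (h ▸ hsl), ?_⟩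
      exact hc x ConjClasses.mem_carrier_mk s hs (hxl ▸ hsl.mul_left _)
    refine ⟨⟨⟨ConjClasses.mk u, hu'⟩, ⟨ConjClasses.mk _, hv'⟩⟩, ?_⟩
    refine ConjClasses.mk_eq_mk_iff_isConj.mpr (isConj_iff.mpr ⟨g⁻¹, ?_⟩)
    show g⁻¹ * (Quotient.out (ConjClasses.mk u) * (g * v * g⁻¹)) * g⁻¹⁻¹ = x
    rw [← hg, huv]; group
  calc Nat.card (PiClasses π G) ≤ Nat.card (Set.range f) :=
        Nat.card_le_card_of_injective (fun c => ⟨c.1, hsub c⟩) fun a b h =>
          Subtype.ext (congrArg (fun z : Set.range f => z.1) h :)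
    _ ≤ Nat.card T := Finite.card_range_le f

theorem card_pClasses_le {G : Type u} [Group G] [Finite G] {r : ℕ} [Fact r.Prime] :
    Nat.card (S3897.PClasses r G) ≤ r ^ (Nat.card G).factorization r := by
  obtain ⟨P⟩ : Nonempty (Sylow r G) := inferInstance
  exact (S3897.card_le_sylow P).trans (le_of_eq P.card_eq_multiplicity)

theorem card_le_mul {G : Type u} [Group G] [Finite G] (π : Finset ℕ) {r : ℕ} (hr : r.Prime)
    (hbound : ∀ H : Subgroup G, Nat.card (PiClasses (π.erase r) H) ≤
      (π.erase r).prod fun s => s ^ (Nat.card H).factorization s) :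
    Nat.card (PiClasses π G) ≤ Nat.card (S3897.PClasses r G) *
      (π.erase r).prod fun s => s ^ (Nat.card G).factorization s := by
  classical
  have := Fintype.ofFinite (S3897.PClasses r G)
  refine (card_le_sigma π hr).trans ?_
  rw [Nat.card_sigma]
  refine (Finset.sum_le_card_nsmul _ _ ((π.erase r).prod fun s => s ^ (Nat.card G).factorization s)
    fun c _ => (hbound _).trans (Finset.prod_le_prod' fun s _ => factorization_pow_le s _)).trans (le_of_eq ?_)
  rw [Finset.card_univ, smul_eq_mul, ← Nat.card_eq_fintype_card (α := S3897.PClasses r G)]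

theorem card_piClasses_le : ∀ (π : Finset ℕ), (∀ r ∈ π, r.Prime) → ∀ (G : Type u) [Group G] [Finite G],
    Nat.card (PiClasses π G) ≤ π.prod fun r => r ^ (Nat.card G).factorization r := by
  intro π
  induction π using Finset.strongInduction with
  | _ π ih =>
  intro hπ G _ _
  classical
  rcases π.eq_empty_or_nonempty with rfl | ⟨r, hr⟩
  · rw [Finset.prod_empty]
    have : Subsingleton (PiClasses (∅ : Finset ℕ) G) := ⟨fun a b => Subtype.ext ?_⟩
    · exact Finite.card_le_one_iff_subsingleton.mpr this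
    · obtain ⟨x, hx⟩ := ConjClasses.exists_rep a.1
      obtain ⟨y, hy⟩ := ConjClasses.exists_rep b.1
      have key : ∀ (c : PiClasses (∅ : Finset ℕ) G) (z : G), ConjClasses.mk z = c.1 → z = 1 := by
        intro c z hz
        by_contra hne
        obtain ⟨s, hs, hsd⟩ := Nat.exists_prime_and_dvd (fun h => hne (orderOf_eq_one_iff.mp h))
        exact absurd (c.2 z (hz ▸ ConjClasses.mem_carrier_mk) s hs hsd) (Finset.notMem_empty s)
      rw [← hx, ← hy, key a x hx, key b y hy]
  · have : Fact r.Prime := ⟨hπ r hr⟩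
    rw [← Finset.mul_prod_erase π _ hr]
    refine (card_le_mul π (hπ r hr) fun H => ih (π.erase r) (Finset.erase_ssubset hr)
      (fun s hs => hπ s (Finset.mem_of_mem_erase hs)) H).trans ?_
    exact Nat.mul_le_mul_right _ card_pClasses_le

/-- Intersections of normal complements. -/
theorem exists_inter {G : Type u} [Group G] [Finite G] (K : ℕ → Subgroup G) :
    ∀ π : Finset ℕ, (∀ r ∈ π, (K r).Normal) →
      ∃ N : Subgroup G, N.Normal ∧ (∀ r ∈ π, N ≤ K r) ∧ (∀ M, (∀ r ∈ π, M ≤ K r) → M ≤ N) ∧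
        N.index ∣ π.prod fun r => (K r).index := by
  intro π
  induction π using Finset.induction_on with
  | empty => exact fun _ => ⟨⊤, inferInstance, by simp, fun M _ => le_top, by simp⟩
  | @insert a s ha ih =>
    intro hK
    obtain ⟨N, hN, hle, hmax, hidx⟩ := ih fun r hr => hK r (Finset.mem_insert_of_mem hr)
    have hA := hK a (Finset.mem_insert_self a s)
    refine ⟨K a ⊓ N, inferInstance, ?_, fun M hM => le_inf (hM a (Finset.mem_insert_self a s))
      (hmax M fun r hr => hM r (Finset.mem_insert_of_mem hr)), ?_⟩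
    · intro r hr
      rcases Finset.mem_insert.mp hr with rfl | hr
      · exact inf_le_left
      · exact inf_le_right.trans (hle r hr)
    · rw [Finset.prod_insert ha, ← relIndex_mul_index (inf_le_left : K a ⊓ N ≤ K a), inf_relIndex_left,
        mul_comm]
      exact mul_dvd_mul_left _ ((relIndex_dvd_index_of_normal N (K a)).trans hidx)

/-- Let π be a finite non-empty set of odd primes with smallest member p and G a finite group. Write k_π(G) for the number of conjugacy classes of G consisting of π-elements (elements all of whose order's prime divisors lie in π) and |G|_π for the π-part of the order of G. If k_π(G) > (p + 1)|G|_π/(2p), then G has a normal π-complement (a normal subgroup of order prime to π whose index is a π-number) and an abelian Hall π-subgroup. -/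
theorem result {G : Type*} [Group G] [Finite G] (π : Finset ℕ) (hπ : ∀ r ∈ π, r.Prime) (h2 : 2 ∉ π) (p : ℕ) (hp : p ∈ π)
    (hmin : ∀ r ∈ π, p ≤ r) (hk : (p + 1) * π.prod (fun r => r ^ (Nat.card G).factorization r) < 2 * p * Nat.card {c : ConjClasses G // ∀ x ∈ c.carrier, ∀ r : ℕ, r.Prime → r ∣ orderOf x → r ∈ π}) :
    (∃ N : Subgroup G, N.Normal ∧ (∀ r : ℕ, r.Prime → r ∣ Nat.card ↥N → r ∉ π) ∧ ∀ r : ℕ, r.Prime → r ∣ N.index → r ∈ π) ∧ ∃ H : Subgroup G, Cfsg.IsPiHall (↑π : Set ℕ) H ∧ IsMulCommutative ↥H := by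
  classical
  have key : ∀ r ∈ π, ∃ K : Subgroup G, K.Normal ∧ (Nat.card K).Coprime r ∧
      K.index = r ^ (Nat.card G).factorization r ∧ commutator G ≤ K := by
    intro r hr
    have : Fact r.Prime := ⟨hπ r hr⟩
    obtain ⟨P⟩ : Nonempty (Sylow r G) := inferInstance
    set R := (π.erase r).prod fun s => s ^ (Nat.card G).factorization s with hR
    have h1 : Nat.card (PiClasses π G) ≤ Nat.card (S3897.PClasses r G) * R :=
      card_le_mul π (hπ r hr) fun H =>
        card_piClasses_le (π.erase r) (fun s hs => hπ s (Finset.mem_of_mem_erase hs)) H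
    have h3 : r ^ (Nat.card G).factorization r = Nat.card (P : Subgroup G) := P.card_eq_multiplicity.symm
    have hlt : (r + 1) * Nat.card (P : Subgroup G) < 2 * r * Nat.card (S3897.PClasses r G) := by
      rw [← Finset.mul_prod_erase π _ hr, h3, ← hR] at hk
      have hpr : p ≤ r := hmin r hr
      by_contra hcon
      push Not at hcon
      have h5 := Nat.mul_le_mul_left (2 * p) h1
      have h6 := Nat.mul_le_mul_left p hcon
      have h7 : 2 * p * Nat.card (S3897.PClasses r G) * r ≤ (p + 1) * Nat.card (P : Subgroup G) * r := by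
        nlinarith [Nat.mul_le_mul_right (Nat.card (P : Subgroup G)) hpr]
      have h8 := Nat.le_of_mul_le_mul_right h7 (hπ r hr).pos
      have h9 := Nat.mul_le_mul_right R h8
      change (p + 1) * (Nat.card (P : Subgroup G) * R) < 2 * p * Nat.card (PiClasses π G) at hk
      nlinarith
    obtain ⟨⟨P₀, K, hK, hc⟩, hab⟩ := (S3897.result (fun h => h2 (h ▸ hr)) P).mp hlt
    refine ⟨K, hK, Lib.Fusion.coprime_card_of_complement hc, ?_, ?_⟩
    · rw [hc.symm.index_eq_card]; exact P₀.card_eq_multiplicity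
    · let e : (G ⧸ K) ≃* (P : Subgroup G) := hc.symm.QuotientMulEquiv.trans (P₀.equiv P)
      refine Subgroup.Normal.quotient_commutative_iff_commutator_le.mp ⟨⟨fun a b => e.injective ?_⟩⟩
      rw [map_mul, map_mul, hab.is_comm.comm]
  choose! K hKn hKc hKi hKab using key
  obtain ⟨N, hNn, hle, hmax, hidx⟩ := exists_inter K π hKn
  have hN1 : ∀ r : ℕ, r.Prime → r ∣ Nat.card N → r ∉ π := fun r hr hd hmem =>
    hr.ne_one ((Nat.coprime_self r).mp ((hKc r hmem).coprime_dvd_left (hd.trans (card_dvd_of_le (hle r hmem)))))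
  have hN2 : ∀ r : ℕ, r.Prime → r ∣ N.index → r ∈ π := by
    intro r hr hd
    obtain ⟨s, hs, hsd⟩ := hr.prime.exists_mem_finset_dvd (hd.trans hidx)
    rw [hKi s hs] at hsd
    exact (Nat.prime_dvd_prime_iff_eq hr (hπ s hs)).mp (hr.dvd_of_dvd_pow hsd) ▸ hs
  refine ⟨⟨N, hNn, hN1, hN2⟩, ?_⟩
  have hcop : (Nat.card N).Coprime N.index := Nat.coprime_of_dvd fun r hr h1 h3 => hN1 r hr h1 (hN2 r hr h3)
  obtain ⟨H, hH⟩ := Subgroup.exists_right_complement'_of_coprime hcop
  refine ⟨H, ⟨fun r hr hd => hN2 r hr (by rwa [hH.symm.index_eq_card]),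
    fun r hr hmem hd => hN1 r hr (by rwa [hH.index_eq_card] at hd) (Finset.mem_coe.mp hmem)⟩,
    ⟨⟨fun a b => ?_⟩⟩⟩
  have h1 : ⁅(a : G), (b : G)⁆ ∈ N := hmax (commutator G) hKab
    (by rw [_root_.commutator_def]; exact commutator_mem_commutator (mem_top _) (mem_top _))
  have h3 : ⁅(a : G), (b : G)⁆ ∈ H := mul_mem (mul_mem (mul_mem a.2 b.2) (inv_mem a.2)) (inv_mem b.2)
  exact Subtype.ext (commutatorElement_eq_one_iff_mul_comm.mp (disjoint_def.mp hH.disjoint h1 h3))

end Cfsg.Agent.S3899
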