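import Cfsg.Statements.S3898
import Cfsg.Agent.S3899
import Cfsg.Agent.S3895
import Cfsg.Agent.Lib.Core.Cores
-- import your own Cfsg.Agent.* helpers here

set_option autoImplicit false
open Cfsg

namespace Cfsg.Agent.S3898

open Subgroup Cfsg.Agent.S3897 Cfsg.Agent.S3899
open scoped commutatorElement

universe u

section

variable {G : Type*} [Group G] [Finite G] {p : ℕ} [hp : Fact p.Prime]

/-- A nonabelian `p`-group has few classes. -/
theorem card_classes_le_half (hp2 : p ≠ 2) (hG : IsPGroup p G) (hna : ¬ IsMulCommutative G) :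
    2 * Nat.card (ConjClasses G) ≤ Nat.card G := by
  classical
  have := Fintype.ofFinite G
  obtain ⟨n, hn⟩ := IsPGroup.iff_card.mp hG
  set Z := center G with hZ
  have hidx : p ^ 2 ∣ Z.index := by
    have hd : Z.index ∣ p ^ n := hn ▸ index_dvd_card Z
    obtain ⟨i, -, hi⟩ := (Nat.dvd_prime_pow hp.out).mp hd
    rw [hi]
    refine pow_dvd_pow p ?_
    by_contra h
    have hcy : IsCyclic (G ⧸ Z) := by
      rcases (show i = 0 ∨ i = 1 by omega) with rfl | rfl
      · have := (Nat.card_eq_one_iff_unique.mp (show Nat.card (G ⧸ Z) = 1 from hi)).1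
        infer_instance
      · exact isCyclic_of_prime_card (show Nat.card (G ⧸ Z) = p from hi.trans (pow_one p))
    exact hna (MonoidHom.isMulCommutative_of_isCyclic_of_ker_le_center (QuotientGroup.mk' Z)
      (le_of_eq (QuotientGroup.ker_mk' Z)))
  have hZle : p ^ 2 * Nat.card Z ≤ Nat.card G := by
    rw [← Z.card_mul_index, mul_comm (Nat.card Z)]
    exact Nat.mul_le_mul_right _ (Nat.le_of_dvd (Nat.pos_of_ne_zero index_ne_zero_of_finite) hidx)
  -- the class equation
  set nc := Finset.univ.filter fun c : ConjClasses G => c ∈ ConjClasses.noncenter G with hnc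
  have hcard : Nat.card (ConjClasses G) = Nat.card Z + nc.card := by
    have h1 : (Finset.univ.filter fun c : ConjClasses G => c ∉ ConjClasses.noncenter G).card
        = Nat.card Z := by
      rw [← Fintype.card_subtype, ← Nat.card_eq_fintype_card]
      have h := Set.BijOn.equiv _ (ConjClasses.mk_bijOn G)
      exact (Nat.card_congr h).symm
    rw [Nat.card_eq_fintype_card, ← Finset.card_univ, ← h1, add_comm, hnc,
      Finset.card_filter_add_card_filter_not]
  have hbig : p * nc.card + Nat.card Z ≤ Nat.card G := by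
    have hsum : ∑ c ∈ nc, p ≤ ∑ c ∈ nc, c.carrier.ncard := by
      refine Finset.sum_le_sum fun c hc => ?_
      simp only [hnc, Finset.mem_filter, Finset.mem_univ, true_and] at hc
      obtain ⟨x, rfl⟩ := ConjClasses.exists_rep c
      have hx : x ∉ Z := fun h => by
        have := (ConjClasses.mk_bijOn G).mapsTo h
        exact this hc
      have hcard : (ConjClasses.mk x).carrier.ncard = (centralizer ({x} : Set G)).index := by
        rw [← ConjAct.orbit_eq_carrier_conjClasses, ← Nat.card_coe_set_eq,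
          Nat.card_congr (MulAction.orbitEquivQuotientStabilizer (ConjAct G) x)]
        rw [show Nat.card (ConjAct G ⧸ MulAction.stabilizer (ConjAct G) x) =
          (MulAction.stabilizer (ConjAct G) x).index from rfl]
        have := ConjAct.stabilizer_eq_centralizer x
        exact congrArg Subgroup.index this
      rw [hcard]
      obtain ⟨i, -, hi⟩ := (Nat.dvd_prime_pow hp.out).mp
        (hn ▸ index_dvd_card (centralizer ({x} : Set G)))
      rw [hi]
      have : i ≠ 0 := fun h => hx (mem_center_iff.mpr fun g => by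
        have htop : centralizer ({x} : Set G) = ⊤ := index_eq_one.mp (by rw [hi, h, pow_zero])
        exact mem_centralizer_singleton_iff.mp (htop ▸ mem_top g))
      exact Nat.le_self_pow this p
    rw [Finset.sum_const, smul_eq_mul] at hsum
    have heq := Group.nat_card_center_add_sum_card_noncenter_eq_card G
    rw [finsum_mem_eq_sum_of_inter_support_eq (s := ConjClasses.noncenter G)
      (fun c => Nat.card c.carrier) (t := nc) (by ext c; simp [hnc])] at heq
    simp only [Nat.card_coe_set_eq] at heq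
    rw [← heq, add_comm, mul_comm]
    exact Nat.add_le_add_left hsum _
  rw [hcard]
  have h3 : 3 ≤ p := by have := hp.out.two_le; omega
  rw [sq] at hZle
  obtain ⟨q, rfl⟩ : ∃ q, p = q + 3 := ⟨p - 3, by omega⟩
  have h4 := Nat.mul_le_mul_left (2 * (q + 2)) hZle
  have h5 := Nat.mul_le_mul_left ((q + 3) * (q + 3) * 2) hbig
  refine Nat.le_of_mul_le_mul_left (show (q + 3) * (q + 3) * (2 * (Nat.card Z + nc.card)) ≤ (q + 3) * (q + 3) * Nat.card G from
    Nat.le_of_mul_le_mul_left (show (q + 3) * ((q + 3) * (q + 3) * (2 * (Nat.card Z + nc.card))) ≤ (q + 3) * ((q + 3) * (q + 3) * Nat.card G) from ?_) (by omega))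
    (Nat.mul_pos (by omega) (by omega))
  calc (q + 3) * ((q + 3) * (q + 3) * (2 * (Nat.card Z + nc.card)))
      = (q + 3) * (q + 3) * 2 * ((q + 3) * nc.card + Nat.card Z) + 2 * (q + 2) * ((q + 3) * (q + 3) * Nat.card Z) := by ring
    _ ≤ (q + 3) * (q + 3) * 2 * Nat.card G + 2 * (q + 2) * Nat.card G := Nat.add_le_add h5 h4
    _ ≤ (q + 3) * ((q + 3) * (q + 3) * Nat.card G) := by
      rw [← Nat.add_mul, ← Nat.mul_assoc (q + 3) ((q + 3) * (q + 3))]
      exact Nat.mul_le_mul_right _ (by ring_nf; omega)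

/-- Without a normal complement an abelian Sylow subgroup gives few classes. -/
theorem card_le_half_of_abelian (hp2 : p ≠ 2) (hodd : Odd (Nat.card G)) (P : Sylow p G) (hab : IsMulCommutative (P : Subgroup G))
    (hno : ¬ Cfsg.HasNormalPComplement p G) :
    2 * Nat.card (PClasses p G) ≤ Nat.card (P : Subgroup G) := by
  classical
  set N := normalizer ((P : Subgroup G) : Set G) with hNdef
  have := Fintype.ofFinite N
  have := Fintype.ofFinite (P : Subgroup G)
  let act : MulAction N (P : Subgroup G) :=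
    { smul := fun n x => ⟨(n : G) * x * (n : G)⁻¹, (mem_normalizer_iff.mp n.2 _).mp x.2⟩
      one_smul := fun x => Subtype.ext (by show (1 : G) * x * (1 : G)⁻¹ = x; simp)
      mul_smul := fun a b x => Subtype.ext (by
        show (a : G) * b * x * ((a : G) * b)⁻¹ = (a : G) * ((b : G) * x * (b : G)⁻¹) * (a : G)⁻¹
        group) }
  have hsmul : ∀ (n : N) (x : (P : Subgroup G)), ((n • x : (P : Subgroup G)) : G) = (n : G) * x * (n : G)⁻¹ :=
    fun n x => rfl
  set Ω := MulAction.orbitRel.Quotient N (P : Subgroup G)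
  have := Fintype.ofFinite Ω
  have hle : Nat.card (PClasses p G) ≤ Fintype.card Ω := by
    rw [← Nat.card_eq_fintype_card]
    refine Nat.card_le_card_of_surjective (Quotient.lift (classOf P) fun a b hab => Subtype.ext ?_) fun c => ?_
    · obtain ⟨n, rfl⟩ := hab
      exact ConjClasses.mk_eq_mk_iff_isConj.mpr
        (isConj_iff.mpr ⟨(n : G), rfl⟩ : IsConj (b : G) _).symm
    · obtain ⟨x, rfl⟩ := classOf_surjective P c
      exact ⟨Quotient.mk _ x, rfl⟩
  set C := (centralizer ((P : Subgroup G) : Set G)).subgroupOf N with hC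
  have hCtop : C ≠ ⊤ := fun h => hno (Lib.Fusion.hasNormalPComplement_of_normalizer_le_centralizer P
    (subgroupOf_eq_top.mp h))
  have hCidx : 2 ≤ C.index := one_lt_index_of_ne_top hCtop
  have hburn := MulAction.sum_card_fixedBy_eq_card_orbits_mul_card_group N (P : Subgroup G)
  have hfix : ∀ n : N, p * Fintype.card (MulAction.fixedBy (P : Subgroup G) n) ≤
      if n ∈ C then p * Nat.card (P : Subgroup G) else Nat.card (P : Subgroup G) := by
    intro n
    split_ifs with h
    · rw [Nat.card_eq_fintype_card]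
      exact Nat.mul_le_mul_left _ (Fintype.card_subtype_le _)
    · let F : Subgroup (P : Subgroup G) :=
        { carrier := {x | n • x = x}
          one_mem' := Subtype.ext (by rw [hsmul]; simp)
          mul_mem' := fun {a b} ha hb => Subtype.ext (by
            have ha' : (n : G) * a * (n : G)⁻¹ = a := congrArg Subtype.val ha
            have hb' : (n : G) * b * (n : G)⁻¹ = b := congrArg Subtype.val hb
            rw [hsmul, coe_mul]
            calc (n : G) * (a * b) * (n : G)⁻¹ = ((n : G) * a * (n : G)⁻¹) * ((n : G) * b * (n : G)⁻¹) := by group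
              _ = _ := by rw [ha', hb'])
          inv_mem' := fun {a} ha => Subtype.ext (by
            have ha' : (n : G) * a * (n : G)⁻¹ = a := congrArg Subtype.val ha
            rw [hsmul, InvMemClass.coe_inv]
            calc (n : G) * (a : G)⁻¹ * (n : G)⁻¹ = ((n : G) * a * (n : G)⁻¹)⁻¹ := by group
              _ = _ := by rw [ha']) }
      have hF : F ≠ ⊤ := fun hF => h (mem_subgroupOf.mpr (mem_centralizer_iff.mpr fun y hy => by
        have : n • (⟨y, hy⟩ : (P : Subgroup G)) = ⟨y, hy⟩ := hF.ge (mem_top _)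
        exact (mul_inv_eq_iff_eq_mul.mp (congrArg Subtype.val this)).symm))
      have hFc : Fintype.card (MulAction.fixedBy (P : Subgroup G) n) = Nat.card F := by
        rw [← Nat.card_eq_fintype_card]; rfl
      obtain ⟨a, ha⟩ := IsPGroup.iff_card.mp P.2
      obtain ⟨i, -, hi⟩ := (Nat.dvd_prime_pow hp.out).mp (ha ▸ F.index_dvd_card)
      have hi0 : i ≠ 0 := fun h0 => hF (index_eq_one.mp (by rw [hi, h0, pow_zero]))
      rw [hFc, ← F.card_mul_index, hi, mul_comm p]
      exact Nat.mul_le_mul_left _ (Nat.le_self_pow hi0 p)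
  have hsum : p * (Fintype.card Ω * Fintype.card N) ≤
      Nat.card C * (p * Nat.card (P : Subgroup G)) +
        (Fintype.card N - Nat.card C) * Nat.card (P : Subgroup G) := by
    rw [← hburn, Finset.mul_sum]
    refine (Finset.sum_le_sum fun n _ => hfix n).trans (le_of_eq ?_)
    rw [Finset.sum_ite, Finset.sum_const, Finset.sum_const, smul_eq_mul, smul_eq_mul,
      Nat.card_eq_fintype_card (α := C), Fintype.card_subtype, Finset.filter_not, Finset.card_sdiff_of_subset (Finset.filter_subset _ _), Finset.card_univ]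
  have hPC : (P : Subgroup G).subgroupOf N ≤ C := fun x hx => mem_centralizer_iff.mpr fun y hy =>
    congrArg Subtype.val (hab.is_comm.comm ⟨y, hy⟩ ⟨(x : G), hx⟩)
  have hpC : ¬ p ∣ C.index := by
    refine fun hd => P.not_dvd_index (hd.trans ((Subgroup.index_dvd_of_le hPC).trans ?_))
    exact ⟨N.index, (Subgroup.relIndex_mul_index (le_normalizer : (P : Subgroup G) ≤ N)).symm⟩
  have hoddC : Odd C.index := hodd.of_dvd_nat (C.index_dvd_card.trans (card_subgroup_dvd_card N))
  have hk : 2 * (p - 1) ≤ C.index * (p - 2) := by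
    have h3 : 3 ≤ p := by have := hp.out.two_le; omega
    have hC3 : 3 ≤ C.index := by obtain ⟨j, hj⟩ := hoddC; omega
    rcases Nat.lt_or_ge p 4 with h4 | h4
    · obtain rfl : p = 3 := by omega
      have h5 : C.index ≠ 3 := fun e => hpC (e ▸ dvd_rfl)
      obtain ⟨j, hj⟩ := hoddC
      omega
    · exact le_trans (by omega : 2 * (p - 1) ≤ 3 * (p - 2)) (Nat.mul_le_mul_right _ hC3)
  obtain ⟨d, hd⟩ : ∃ d, Fintype.card N = Nat.card C + d :=
    ⟨Fintype.card N - Nat.card C, by
      have : Nat.card C ≤ Fintype.card N := by rw [← Nat.card_eq_fintype_card]; exact Subgroup.card_le_card_group C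
      omega⟩
  have hidxC : Nat.card C + d = Nat.card C * C.index := by rw [← hd, ← Nat.card_eq_fintype_card, C.card_mul_index]
  rw [hd, Nat.add_sub_cancel_left] at hsum
  have hN0 : 0 < Nat.card C + d := hd ▸ Fintype.card_pos
  refine (Nat.mul_le_mul_left 2 hle).trans (le_of_mul_le_mul_left ?_ (Nat.mul_pos hp.out.pos hN0))
  obtain ⟨e, rfl⟩ : ∃ e, p = e + 2 := ⟨p - 2, by have := hp.out.two_le; omega⟩
  rw [show e + 2 - 1 = e + 1 from rfl, Nat.add_sub_cancel] at hk
  have h6 := Nat.mul_le_mul_left (Nat.card C * Nat.card (P : Subgroup G)) hk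
  have h7 := Nat.mul_le_mul_left 2 hsum
  have h8 : d + Nat.card C = Nat.card C * C.index := by omega
  calc (e + 2) * (Nat.card C + d) * (2 * Fintype.card Ω)
      = 2 * ((e + 2) * (Fintype.card Ω * (Nat.card C + d))) := by ring
    _ ≤ 2 * (Nat.card C * ((e + 2) * Nat.card (P : Subgroup G)) + d * Nat.card (P : Subgroup G)) := h7
    _ = Nat.card C * Nat.card (P : Subgroup G) * (2 * (e + 1)) + 2 * (Nat.card C + d) * Nat.card (P : Subgroup G) := by ring
    _ ≤ Nat.card C * Nat.card (P : Subgroup G) * (C.index * e) + 2 * (Nat.card C + d) * Nat.card (P : Subgroup G) :=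
      Nat.add_le_add_right h6 _
    _ = (e + 2) * (Nat.card C + d) * Nat.card (P : Subgroup G) := by rw [hidxC]; ring


theorem of_odd (hp2 : p ≠ 2) (hodd : Odd (Nat.card G)) (P : Sylow p G)
    (h : Nat.card (P : Subgroup G) < 2 * Nat.card (PClasses p G)) :
    Cfsg.HasNormalPComplement p G ∧ IsMulCommutative (P : Subgroup G) := by
  by_cases hab : IsMulCommutative (P : Subgroup G)
  · refine ⟨?_, hab⟩
    by_contra hno
    exact absurd (card_le_half_of_abelian hp2 hodd P hab hno) (not_le.mpr h)
  · exact absurd ((Nat.mul_le_mul_left 2 (card_le_classes P)).trans (card_classes_le_half hp2 P.2 hab)) (not_le.mpr h)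

end

/-- Let π be a finite set of primes containing 2 and G a finite group. Write k_π(G) for the number of conjugacy classes of G consisting of π-elements (elements all of whose order's prime divisors lie in π) and |G|_π for the π-part of the order of G. If k_π(G) > |G|_π/2, then G has a normal π-complement (a normal subgroup of order prime to π whose index is a π-number) and an abelian Hall subgroup for the set of odd primes in π. -/
theorem result {G : Type*} [Group G] [Finite G] (π : Finset ℕ) (hπ : ∀ r ∈ π, r.Prime) (h2 : 2 ∈ π)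
    (hk : π.prod (fun r => r ^ (Nat.card G).factorization r) < 2 * Nat.card {c : ConjClasses G // ∀ x ∈ c.carrier, ∀ r : ℕ, r.Prime → r ∣ orderOf x → r ∈ π}) :
    (∃ N : Subgroup G, N.Normal ∧ (∀ r : ℕ, r.Prime → r ∣ Nat.card ↥N → r ∉ π) ∧ ∀ r : ℕ, r.Prime → r ∣ N.index → r ∈ π) ∧ ∃ H : Subgroup G, Cfsg.IsPiHall ((↑π : Set ℕ) \ {2}) H ∧ IsMulCommutative ↥H := by
  classical
  set e : ℕ → ℕ := fun r => r ^ (Nat.card G).factorization r with he
  have hsplit : ∀ r ∈ π, e r < 2 * Nat.card (PClasses r G) := by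
    intro r hr
    have : Fact r.Prime := ⟨hπ r hr⟩
    have h1 := card_le_mul (G := G) π (hπ r hr) fun H =>
      card_piClasses_le (π.erase r) (fun s hs => hπ s (Finset.mem_of_mem_erase hs)) H
    rw [← Finset.mul_prod_erase π _ hr] at hk
    exact Nat.lt_of_mul_lt_mul_right (hk.trans_le (by rw [mul_assoc]; exact Nat.mul_le_mul_left 2 h1))
  haveI : Fact (Nat.Prime 2) := ⟨Nat.prime_two⟩
  obtain ⟨P⟩ : Nonempty (Sylow 2 G) := inferInstance
  have hlt2 : Nat.card (P : Subgroup G) < 2 * Nat.card (PClasses 2 G) := by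
    rw [P.card_eq_multiplicity]; exact hsplit 2 h2
  obtain ⟨⟨P₀, M, hMn, hMc⟩, -⟩ := (S3895.result P).mp hlt2
  have hMcop : (Nat.card M).Coprime 2 := Lib.Fusion.coprime_card_of_complement hMc
  have hModd : Odd (Nat.card M) := Nat.coprime_two_right.mp hMcop
  have hMi : M.index = e 2 := by rw [hMc.symm.index_eq_card]; exact P₀.card_eq_multiplicity
  have key : ∀ r ∈ π.erase 2, ∃ K : Subgroup G, K.Normal ∧ (Nat.card K).Coprime r ∧ K ≤ M ∧
      K.index = e 2 * e r ∧ ⁅M, M⁆ ≤ K := by
    intro r hr
    obtain ⟨hr2, hrπ⟩ := Finset.mem_erase.mp hr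
    have : Fact r.Prime := ⟨hπ r hrπ⟩
    have hrM : ¬ r ∣ M.index := by
      rw [hMi, he]
      exact fun hd => hr2 ((Nat.prime_dvd_prime_iff_eq (hπ r hrπ) Nat.prime_two).mp ((hπ r hrπ).dvd_of_dvd_pow hd))
    obtain ⟨Q⟩ : Nonempty (Sylow r M) := inferInstance
    have hfac : (Nat.card M).factorization r = (Nat.card G).factorization r := by
      rw [← M.card_mul_index, Nat.factorization_mul Nat.card_pos.ne' index_ne_zero_of_finite,
        Finsupp.add_apply, Nat.factorization_eq_zero_of_not_dvd hrM, add_zero]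
    have hQc : Nat.card (Q : Subgroup M) = e r := by rw [Q.card_eq_multiplicity, hfac]
    have hmap : Nat.card (PClasses r G) ≤ Nat.card (PClasses r M) := by
      refine Nat.card_le_card_of_surjective (fun c : PClasses r M =>
        (⟨ConjClasses.map M.subtype c.1, ?_⟩ : PClasses r G)) ?_
      · obtain ⟨c, hc⟩ := c
        obtain ⟨x, rfl⟩ := ConjClasses.exists_rep c
        obtain ⟨k, hk'⟩ := hc x ConjClasses.mem_carrier_mk
        exact mk_mem ⟨k, (orderOf_coe x).trans hk'⟩
      · rintro ⟨c, hc⟩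
        obtain ⟨x, rfl⟩ := ConjClasses.exists_rep c
        obtain ⟨k, hk'⟩ := hc x ConjClasses.mem_carrier_mk
        have hxM : x ∈ M := by
          rw [← QuotientGroup.eq_one_iff, ← orderOf_eq_one_iff]
          refine Nat.eq_one_of_dvd_coprimes ((Nat.Coprime.pow_left k ((hπ r hrπ).coprime_iff_not_dvd.mpr hrM)))
            (hk' ▸ orderOf_map_dvd (QuotientGroup.mk' M) x) (_root_.orderOf_dvd_natCard _)
        exact ⟨⟨ConjClasses.mk ⟨x, hxM⟩, mk_mem ⟨k, by rw [← orderOf_coe]; exact hk'⟩⟩, Subtype.ext rfl⟩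
    have hlt : Nat.card (Q : Subgroup M) < 2 * Nat.card (PClasses r M) := by
      rw [hQc]; exact (hsplit r hrπ).trans_le (Nat.mul_le_mul_left 2 hmap)
    obtain ⟨⟨Q₀, K, hK, hc⟩, hab⟩ := of_odd hr2 hModd Q hlt
    have hKcop := Lib.Fusion.coprime_card_of_complement hc
    have hKidx : K.index = e r := by rw [hc.symm.index_eq_card, Q₀.card_eq_multiplicity, hfac]
    haveI : K.Characteristic := by
      have hKO : K = Cfsg.pPrimeCore r M := by
        refine le_antisymm (Lib.Core.le_pPrimeCore hKcop) ?_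
        set O := Cfsg.pPrimeCore r M
        have hO : (Nat.card O).Coprime r := Lib.Core.pPrimeCore_coprime r M
        have h1 : Nat.card (O.map (QuotientGroup.mk' K)) = 1 := by
          refine Nat.eq_one_of_dvd_coprimes (hO.pow_right ((Nat.card G).factorization r))
            (card_map_dvd O (QuotientGroup.mk' K)) ?_
          exact (card_subgroup_dvd_card _).trans (dvd_of_eq hKidx)
        have h3 := Subgroup.card_eq_one.mp h1
        rwa [Subgroup.map_eq_bot_iff, QuotientGroup.ker_mk'] at h3
      rw [hKO]; infer_instance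
    refine ⟨K.map M.subtype, inferInstance, ?_, map_subtype_le K, ?_, ?_⟩
    · rwa [card_map_of_injective M.subtype_injective]
    · rw [index_map_subtype, hKidx, hMi, mul_comm]
    · let q : (M ⧸ K) ≃* (Q : Subgroup M) := hc.symm.QuotientMulEquiv.trans (Q₀.equiv Q)
      have h1 : commutator M ≤ K :=
        Subgroup.Normal.quotient_commutative_iff_commutator_le.mp ⟨⟨fun a b => q.injective (by
          rw [map_mul, map_mul, hab.is_comm.comm])⟩⟩
      have h3 := Subgroup.map_mono (f := M.subtype) h1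
      rwa [_root_.commutator_def, map_commutator, ← MonoidHom.range_eq_map, range_subtype] at h3
  choose! K hKn hKc hKM hKi hKab using key
  obtain ⟨N₁, hN₁n, hle, hmax, hidx⟩ := exists_inter K (π.erase 2) hKn
  set N := N₁ ⊓ M
  have hNn : N.Normal := inferInstance
  have hN1 : ∀ r : ℕ, r.Prime → r ∣ Nat.card N → r ∉ π := by
    intro r hr hd hmem
    by_cases hr2 : r = 2
    · subst hr2
      exact hr.ne_one ((Nat.coprime_self 2).mp (hMcop.coprime_dvd_left (hd.trans (card_dvd_of_le inf_le_right))))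
    · have hmem' := Finset.mem_erase.mpr ⟨hr2, hmem⟩
      exact hr.ne_one ((Nat.coprime_self r).mp ((hKc r hmem').coprime_dvd_left
        (hd.trans (card_dvd_of_le (inf_le_left.trans (hle r hmem'))))))
  have hN2 : ∀ r : ℕ, r.Prime → r ∣ N.index → r ∈ π := by
    intro r hr hd
    have hd' : r ∣ (π.erase 2).prod (fun s => (K s).index) * M.index := by
      refine hd.trans ?_
      rw [← relIndex_mul_index (inf_le_right : N ≤ M), inf_relIndex_right]
      exact mul_dvd_mul_right ((relIndex_dvd_index_of_normal N₁ M).trans hidx) _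
    have hpow : ∀ s ∈ π, r ∣ e s → r ∈ π := fun s hs hsd =>
      (Nat.prime_dvd_prime_iff_eq hr (hπ s hs)).mp (hr.dvd_of_dvd_pow hsd) ▸ hs
    rcases hr.dvd_mul.mp hd' with h | h
    · obtain ⟨s, hs, hsd⟩ := hr.prime.exists_mem_finset_dvd h
      rw [hKi s hs] at hsd
      rcases hr.dvd_mul.mp hsd with h | h
      · exact hpow 2 h2 h
      · exact hpow s (Finset.mem_of_mem_erase hs) h
    · exact hpow 2 h2 (hMi ▸ h)
  refine ⟨⟨N, hNn, hN1, hN2⟩, ?_⟩
  set L := N.subgroupOf M
  have hLc : Nat.card L = Nat.card N := Nat.card_congr (subgroupOfEquivOfLe inf_le_right).toEquiv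
  have hLi : L.index * M.index = N.index := relIndex_mul_index (inf_le_right : N ≤ M)
  have hcop : (Nat.card L).Coprime L.index := Nat.coprime_of_dvd fun r hr h1 h3 =>
    hN1 r hr (hLc ▸ h1) (hN2 r hr (h3.trans ⟨_, hLi.symm⟩))
  obtain ⟨H, hH⟩ := Subgroup.exists_right_complement'_of_coprime hcop
  have hHc : Nat.card (H.map M.subtype) = L.index := by
    rw [card_map_of_injective M.subtype_injective, hH.symm.index_eq_card]
  have hHab : ∀ a b : H, a * b = b * a := by
    intro a b
    have h1 : ⁅(a : M), (b : M)⁆ ∈ L := by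
      rw [mem_subgroupOf]
      refine ⟨hmax ⁅M, M⁆ hKab ?_, (⁅(a : M), (b : M)⁆).2⟩
      exact commutator_mem_commutator (a : M).2 (b : M).2
    have h3 : ⁅(a : M), (b : M)⁆ ∈ H := mul_mem (mul_mem (mul_mem a.2 b.2) (inv_mem a.2)) (inv_mem b.2)
    exact Subtype.ext (commutatorElement_eq_one_iff_mul_comm.mp (disjoint_def.mp hH.disjoint h1 h3))
  refine ⟨H.map M.subtype, ⟨fun r hr hd => ?_, fun r hr hmem hd => ?_⟩, ⟨⟨?_⟩⟩⟩
  · rw [hHc] at hd
    refine ⟨Finset.mem_coe.mpr (hN2 r hr (hd.trans ⟨_, hLi.symm⟩)), fun h => ?_⟩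
    rw [Set.mem_singleton_iff] at h
    subst h
    exact hr.ne_one ((Nat.coprime_self 2).mp (hMcop.coprime_dvd_left (hd.trans L.index_dvd_card)))
  · obtain ⟨hmem, hr2⟩ := hmem
    rw [index_map_subtype, hH.index_eq_card, hLc] at hd
    rcases hr.dvd_mul.mp hd with h | h
    · exact hN1 r hr h (Finset.mem_coe.mp hmem)
    · exact hr2 ((Nat.prime_dvd_prime_iff_eq hr Nat.prime_two).mp (hr.dvd_of_dvd_pow (hMi ▸ h)))
  · rintro ⟨_, a, ha, rfl⟩ ⟨_, b, hb, rfl⟩
    exact Subtype.ext (congrArg (fun z : H => ((z : M) : G)) (hHab ⟨a, ha⟩ ⟨b, hb⟩))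

end Cfsg.Agent.S3898
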