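import Cfsg.Statements.S3900
import Cfsg.Agent.Lib.Struct.ValueSimple
import Cfsg.Agent.Lib.Kazarin.Radical
-- import your own Cfsg.Agent.* helpers here

set_option autoImplicit false
open Cfsg

namespace Cfsg.Agent.S3900

open Subgroup Cfsg.Lib Cfsg.Lib.Struct
open scoped commutatorElement

universe u

variable {G : Type u} [Group G]

theorem val_iff : ∀ (k : ℕ) (x : G), Val k x ↔ ∃ f : Fin (k + 1) → G,
    x = ((List.ofFn f).tail).foldl (fun a b => a * b * a⁻¹ * b⁻¹) (f 0)
  | 0, x => ⟨fun _ => ⟨fun _ => x, by simp⟩, fun _ => trivial⟩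
  | k + 1, x => by
    have h : ∀ f : Fin (k + 1 + 1) → G,
        ((List.ofFn f).tail).foldl (fun a b => a * b * a⁻¹ * b⁻¹) (f 0)
          = ⁅((List.ofFn fun i : Fin (k + 1) => f i.castSucc).tail).foldl
              (fun a b => a * b * a⁻¹ * b⁻¹) (f (Fin.castSucc 0)), f (Fin.last (k + 1))⁆ := by
      intro f
      rw [List.ofFn_succ' f, List.concat_eq_append, List.tail_append_of_ne_nil (by simp),
        List.foldl_append, List.foldl_cons, List.foldl_nil, commutatorElement_def, Fin.castSucc_zero]
    constructor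
    · rintro ⟨a, b, ha, rfl⟩
      obtain ⟨f, rfl⟩ := (val_iff k a).1 ha
      refine ⟨Fin.snoc f b, ?_⟩
      rw [h, Fin.snoc_last]
      simp only [Fin.snoc_castSucc]
    · rintro ⟨f, rfl⟩
      exact ⟨_, _, (val_iff k _).2 ⟨fun i => f i.castSucc, rfl⟩, h f⟩

variable [Finite G]

theorem eq_one_of_disjunct {a b c : ℕ} (ha : 0 < a) (hb : 0 < b) (hco : a.Coprime b) (hc : c = b)
    (h : (∀ r : ℕ, r.Prime → r ∣ a * b → r ∣ c) ∨ a * b ≤ c) : a = 1 := by
  subst hc
  rcases h with h | h
  · by_contra ha1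
    obtain ⟨r, hr, hra⟩ := Nat.exists_prime_and_dvd ha1
    exact hr.ne_one (Nat.eq_one_of_dvd_coprimes hco hra (h r hr (hra.mul_right _)))
  · have : a ≤ 1 := Nat.le_of_mul_le_mul_right (by simpa using h) hb
    omega

theorem isSolvable_of_key {k : ℕ} : ∀ (n : ℕ) {G : Type u} [Group G] [Finite G], Nat.card G = n →
    Key k G → Group.IsSolvable G := by
  intro n
  induction n using Nat.strong_induction_on with
  | _ n ih =>
  intro G _ _ hn hkey
  subst hn
  by_contra hns
  have hsub : ∀ K : Subgroup G, K ≠ ⊤ → Group.IsSolvable ↥K := fun K hK =>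
    ih _ (Core.lt_card_of_ne_top hK) rfl (key_sub hkey K)
  obtain ⟨R, hRn, hRs, hR⟩ := Kazarin.exists_radical G
  haveI := hRn
  set π := QuotientGroup.mk' R with hπ
  have hπs : Function.Surjective π := QuotientGroup.mk'_surjective R
  have hnsH : ¬ Group.IsSolvable (G ⧸ R) := fun h => by
    haveI := h
    haveI := hRs
    exact hns (Group.isSolvable_of_ker_le_range R.subtype π
      (by rw [hπ, QuotientGroup.ker_mk', range_subtype]))
  have hprop : ∀ K : Subgroup (G ⧸ R), K ≠ ⊤ → Group.IsSolvable ↥(K.comap π) := fun K hK =>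
    hsub _ fun h => hK (by rw [← map_comap_eq_self_of_surjective hπs K, h, map_top_of_surjective π hπs])
  have hsolv : ∀ K : Subgroup (G ⧸ R), K ≠ ⊤ → Group.IsSolvable ↥K := fun K hK => by
    haveI := hprop K hK
    exact Group.isSolvable_of_surjective (π.subgroupComap_surjective_of_surjective K hπs)
  have hsimple : IsSimpleGroup (G ⧸ R) := by
    haveI : Nontrivial (G ⧸ R) := by
      by_contra h
      rw [not_nontrivial_iff_subsingleton] at h
      exact hnsH inferInstance
    refine ⟨fun N hN => ?_⟩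
    by_cases h : N = ⊤
    · exact Or.inr h
    left
    have hle : N.comap π ≤ R := hR _ (hN.comap π) (hprop N h)
    rw [← map_comap_eq_self_of_surjective hπs N, Subgroup.map_eq_bot_iff]
    exact hle.trans (le_of_eq (QuotientGroup.ker_mk' R).symm)
  have hmin : Cfsg.IsMinimalSimple (G ⧸ R) :=
    ⟨hsimple, fun h => hnsH (haveI := h; Core.isSolvable_of_isMulCommutative _), hsolv⟩
  have hval : ∀ (r : ℕ) [Fact r.Prime] (K : Subgroup (G ⧸ R)), K ≠ ⊤ → ∀ x : G, Val k x →
      (∃ i, orderOf x = r ^ i) → π x ∈ K → π x ∈ (Cfsg.pCore r ↥K).map K.subtype := by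
    intro r _ K hK x hv hxr hxK
    haveI := hprop K hK
    set g := π.subgroupComap K with hg
    have hgs : Function.Surjective g := π.subgroupComap_surjective_of_surjective K hπs
    have hx' : (⟨x, hxK⟩ : ↥(K.comap π)) ∈ Cfsg.pCore r ↥(K.comap π) := by
      refine value_mem_pCore' (key_sub hkey _) (fun w hw => ?_) ?_
      · rw [← Subgroup.orderOf_coe] at hw
        have e : ((⁅(⟨x, hxK⟩ : ↥(K.comap π)), w⁆ : ↥(K.comap π)) : G) = ⁅x, (w : G)⁆ :=
          map_commutatorElement (K.comap π).subtype _ w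
        rw [e] at hw
        exact Subtype.ext (e.trans (hkey x w hv (primary_coprime hxr hw)))
      · obtain ⟨i, hi⟩ := hxr
        exact ⟨i, by rw [← Subgroup.orderOf_coe]; exact hi⟩
    exact ⟨g ⟨x, hxK⟩, Core.map_pCore_le g hgs ⟨_, hx', rfl⟩, rfl⟩
  let S : ValueSystem (G ⧸ R) :=
    { V := fun r => {h | h ≠ 1 ∧ r.Prime ∧ ∃ x, Val k x ∧ π x = h ∧ ∃ i, orderOf x = r ^ i}
      min := hmin
      ord := fun {r v} hv => by
        obtain ⟨-, hr, x, -, rfl, i, hi⟩ := hv
        obtain ⟨j, _, hj⟩ := (Nat.dvd_prime_pow hr).1 (hi ▸ orderOf_map_dvd π x)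
        exact ⟨j, hj⟩
      ne_one := fun hv => hv.1
      conj := fun {r v} g hv => by
        obtain ⟨hv1, hr, x, hx, rfl, i, hi⟩ := hv
        obtain ⟨g', rfl⟩ := hπs g
        refine ⟨fun e => hv1 (conj_eq_one_iff.1 e), hr, g' * x * g'⁻¹, val_conj hx g', by simp, i, ?_⟩
        rw [Cfsg.Lib.Invol.orderOf_conj_eq, hi]
      core := fun {r} _ {K v} hK hv hvK => by
        obtain ⟨-, hr, x, hx, rfl, hxr⟩ := hv
        exact hval r K hK x hx hxr hvK
      step := fun {r} _ {Q v u} hQ hv hvQ huQ hne => by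
        obtain ⟨-, hr, x, hx, rfl, hxr⟩ := hv
        obtain ⟨U, hU, hxU, hUQ⟩ := exists_sylow_lift π hπs hQ hvQ hxr
        obtain ⟨w, hw, rfl⟩ : u ∈ U.map π := by rw [hUQ]; exact huQ
        obtain ⟨i, hi⟩ := IsPGroup.iff_orderOf.1 hU
          ⟨⁅x, w⁆, mul_mem (mul_mem (mul_mem hxU hw) (inv_mem hxU)) (inv_mem hw)⟩
        rw [Subgroup.orderOf_mk] at hi
        exact ⟨hne, hr, ⁅x, w⁆, val_comm hx w, map_commutatorElement π x w, i, hi⟩
      exist := fun {r} _ {U t} hU ht hco hnc => by
        obtain ⟨x, hx, hxr, hxU, hx1⟩ := exists_value π hπs k hU ht hco hnc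
        exact ⟨π x, ⟨hx1, (Fact.out : r.Prime), x, hx, rfl, hxr⟩, hxU⟩
      nilq := fun {K} hK => by
        haveI := hprop K hK
        haveI := quotient_nilpotent (key_sub hkey (K.comap π))
        set g := π.subgroupComap K with hg
        have hgs : Function.Surjective g := π.subgroupComap_surjective_of_surjective K hπs
        have hle : Cfsg.fittingSubgroup ↥(K.comap π) ≤ (Cfsg.fittingSubgroup ↥K).comap g :=
          Subgroup.map_le_iff_le_comap.1 (Core.map_fittingSubgroup_le g hgs)
        refine Group.nilpotent_of_surjective (QuotientGroup.map _ _ g hle)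
          (QuotientGroup.map_surjective_of_surjective _ _ _ ?_ hle)
        exact (QuotientGroup.mk'_surjective _).comp hgs }
  exact S.false

/-- A criterion of Baumslag–Wiegold type for a term of the lower central series. Let G be a finite group and k ≥ 0; call an element a left-normed commutator value of length k + 1 when it has the form [[…[x₀, x₁], …], x_k] with k + 1 entries (for k = 0, any element), where [a, b] = aba⁻¹b⁻¹. Then the (k+1)-st term γ_{k+1}(G) of the lower central series (γ₁(G) = G) is nilpotent if and only if for every two such values x, y of coprime orders, either every prime dividing o(x)·o(y) divides o(xy), or o(x)·o(y) ≤ o(xy). -/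
theorem result {G : Type*} [Group G] [Finite G] (k : ℕ) :
    Group.IsNilpotent ↥((⊤ : Subgroup G).lowerCentralSeries k) ↔
      ∀ x y : G, (∃ f : Fin (k + 1) → G, x = ((List.ofFn f).tail).foldl (fun a b => a * b * a⁻¹ * b⁻¹) (f 0)) → (∃ f : Fin (k + 1) → G, y = ((List.ofFn f).tail).foldl (fun a b => a * b * a⁻¹ * b⁻¹) (f 0)) → (orderOf x).Coprime (orderOf y) →
        (∀ r : ℕ, r.Prime → r ∣ orderOf x * orderOf y → r ∣ orderOf (x * y)) ∨ orderOf x * orderOf y ≤ orderOf (x * y) := by
  constructor
  · intro hnil x y hx hy hco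
    have hxm := val_mem_lcs ((val_iff k x).2 hx)
    have hym := val_mem_lcs ((val_iff k y).2 hy)
    have hc : Commute (⟨x, hxm⟩ : ↥((⊤ : Subgroup G).lowerCentralSeries k)) ⟨y, hym⟩ := by
      refine mem_centralizer_singleton_iff.1 (Cfsg.Lib.Struct.MaxCent.mem_of_primary_parts
        (H := centralizer ({⟨y, hym⟩} : Set ↥((⊤ : Subgroup G).lowerCentralSeries k)))
        fun s z hs hz hzk => ?_)
      obtain ⟨i, hi⟩ := hzk
      rw [mem_centralizer_singleton_iff]
      refine (mem_centralizer_singleton_iff.1 (Cfsg.Lib.Struct.MaxCent.mem_of_primary_parts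
        (H := centralizer ({z} : Set ↥((⊤ : Subgroup G).lowerCentralSeries k)))
        fun t w ht hw hwk => ?_)).symm
      obtain ⟨j, hj⟩ := hwk
      rw [mem_centralizer_singleton_iff]
      by_cases hst : t = s
      · subst hst
        have h1 : t ^ i ∣ orderOf x := by
          rw [← hi, ← Subgroup.orderOf_mk x hxm]; exact orderOf_dvd_of_mem_zpowers hz
        have h2 : t ^ j ∣ orderOf y := by
          rw [← hj, ← Subgroup.orderOf_mk y hym]; exact orderOf_dvd_of_mem_zpowers hw
        have : Nat.Coprime (t ^ i) (t ^ j) := (hco.coprime_dvd_left h1).coprime_dvd_right h2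
        by_cases hi0 : i = 0
        · rw [hi0, pow_zero, orderOf_eq_one_iff] at hi; simp [hi]
        · have hj0 : j = 0 := by
            by_contra hj0
            exact ht.out.ne_one (Nat.eq_one_of_dvd_coprimes this (dvd_pow_self t hi0) (dvd_pow_self t hj0))
          rw [hj0, pow_zero, orderOf_eq_one_iff] at hj; simp [hj]
      · exact Cfsg.Lib.Struct.MaxCent.commute_of_nilpotent hnil hst hj hi
    right
    rw [Commute.orderOf_mul_eq_mul_orderOf_of_coprime (show Commute x y from congrArg Subtype.val hc) hco]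
  · intro h
    have hkey : Key k G := by
      intro v u hv hco
      have hx := val_comm hv u
      have hw := val_conj hv u
      have hmul : ⁅v, u⁆ * (u * v * u⁻¹) = v := by rw [commutatorElement_def]; group
      have hco' : (orderOf ⁅v, u⁆).Coprime (orderOf (u * v * u⁻¹)) := by
        rwa [Cfsg.Lib.Invol.orderOf_conj_eq]
      refine orderOf_eq_one_iff.1 (eq_one_of_disjunct (orderOf_pos _) (orderOf_pos _) hco' ?_
        (h _ _ ((val_iff k _).1 hx) ((val_iff k _).1 hw) hco'))
      rw [hmul, Cfsg.Lib.Invol.orderOf_conj_eq]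
    haveI : Group.IsSolvable G := isSolvable_of_key _ rfl hkey
    exact isNilpotent_lcs hkey

end Cfsg.Agent.S3900
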