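import Cfsg.Statements.S3904
import Cfsg.Agent.Lib.Struct.MaxCentralizer
-- import your own Cfsg.Agent.* helpers here

set_option autoImplicit false
open Cfsg

namespace Cfsg.Agent.S3904

open Cfsg Subgroup
open scoped Pointwise

theorem quot_case {Q : Type*} [Group Q] [Finite Q] (E K : Subgroup Q) (p a : ℕ) (hp : p.Prime)
    (hE : Cfsg.IsFrobeniusComplement E) (hEp : (Nat.card ↥E).Prime) [K.Normal]
    (hel : Cfsg.IsElementaryAbelian p K) (ha : Nat.card ↥K = p ^ a) (hne : Nat.card ↥E ≠ p)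
    (hcard : Nat.card Q = Nat.card ↥K * Nat.card ↥E)
    (hmin : ∀ R : Subgroup Q, R.Normal → R ≤ K → R = ⊥ ∨ R = K) :
    ¬ IsMulCommutative Q ∧ (∀ H : Subgroup Q, H ≠ ⊤ → IsMulCommutative ↥H) ∧
      ∃ p q a : ℕ, p.Prime ∧ q.Prime ∧ p ≠ q ∧ Nat.card Q = p ^ a * q ∧
        ∀ P : Subgroup Q, Nat.card ↥P = p ^ a → P.Normal := by
  have hidx : Nat.card (Q ⧸ K) = Nat.card ↥E := by
    have h1 := K.card_eq_card_quotient_mul_card_subgroup
    rw [hcard, mul_comm] at h1
    exact (Nat.eq_of_mul_eq_mul_right Nat.card_pos h1).symm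
  have hpK : ∀ x : Q, ∀ j : ℕ, x ^ p ^ j = 1 → x ∈ K := by
    intro x j hx
    rw [← QuotientGroup.eq_one_iff]
    rw [← orderOf_eq_one_iff]
    refine Nat.eq_one_of_dvd_coprimes (((Nat.coprime_primes hp hEp).2 hne.symm).pow_left j) ?_ ?_
    · exact orderOf_dvd_of_pow_eq_one (by rw [← QuotientGroup.mk_pow, hx, QuotientGroup.mk_one])
    · exact hidx ▸ orderOf_dvd_natCard _
  refine ⟨fun hc => ?_, fun H hH => ?_, p, Nat.card ↥E, a, hp, hEp, hne.symm, by rw [hcard, ha], fun P hP => ?_⟩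
  · have := hc
    obtain ⟨g, -, hg⟩ := SetLike.exists_of_lt (lt_top_iff_ne_top.2 hE.2.1)
    apply hE.1
    refine le_antisymm (fun x hx => (hE.2.2 g hg).le ⟨hx, x, hx, ?_⟩) bot_le
    show g * x * g⁻¹ = x
    rw [mul_comm' g x, mul_inv_cancel_right]
  · have := hel.1
    by_cases hle : H ≤ K
    · exact ⟨⟨fun x y => Subtype.ext (congrArg Subtype.val (mul_comm' (⟨x, hle x.2⟩ : ↥K) ⟨y, hle y.2⟩) :)⟩⟩
    · have htop : H ⊔ K = ⊤ := by
        obtain ⟨x, hx, hxK⟩ := SetLike.not_le_iff_exists.1 hle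
        haveI := Fact.mk hEp
        have hne' : (H.map (QuotientGroup.mk' K)) ≠ ⊥ := fun e =>
          hxK ((QuotientGroup.eq_one_iff x).1 (Subgroup.mem_bot.1 (e.le ⟨x, hx, rfl⟩)))
        haveI : Fact (Nat.card (Q ⧸ K)).Prime := ⟨by rw [hidx]; exact hEp⟩
        have h2 : H.map (QuotientGroup.mk' K) = ⊤ := (Subgroup.eq_bot_or_eq_top_of_prime_card _).resolve_left hne'
        have h3 := congrArg (Subgroup.comap (QuotientGroup.mk' K)) h2
        rwa [Subgroup.comap_map_eq, QuotientGroup.ker_mk', Subgroup.comap_top] at h3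
      have hn : (H ⊓ K).Normal := by
        rw [← Subgroup.normalizer_eq_top_iff, eq_top_iff, ← htop]
        refine sup_le ((le_inf Subgroup.le_normalizer (by rw [Subgroup.normalizer_eq_top]; exact le_top)).trans
          Subgroup.inf_normalizer_le_normalizer_inf) fun k hk => Subgroup.mem_normalizer_iff.2 fun x => ?_
        have hcomm : ∀ w ∈ K, k * w * k⁻¹ = w := fun w hw => by
          have e : k * w = w * k := congrArg Subtype.val (mul_comm' (⟨k, hk⟩ : ↥K) ⟨w, hw⟩)
          rw [e, mul_inv_cancel_right]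
        refine ⟨fun hx => by rw [hcomm x hx.2]; exact hx, fun hx => ?_⟩
        have hxK : x ∈ K := by
          have := K.mul_mem (K.mul_mem (K.inv_mem hk) hx.2) hk
          simpa [mul_assoc] using this
        rwa [hcomm x hxK] at hx
      rcases hmin _ hn inf_le_right with e | e
      · haveI : IsCyclic ↥H := by
          haveI := Fact.mk hEp
          haveI : IsCyclic (Q ⧸ K) := isCyclic_of_prime_card hidx
          refine isCyclic_of_injective ((QuotientGroup.mk' K).comp H.subtype) ?_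
          rw [← MonoidHom.ker_eq_bot_iff, eq_bot_iff]
          intro x hx
          exact Subgroup.mem_bot.2 (Subtype.ext (Subgroup.mem_bot.1 (e.le
            ⟨x.2, (QuotientGroup.eq_one_iff (x : Q)).1 (MonoidHom.mem_ker.1 hx)⟩)))
        exact ⟨⟨fun x y => by obtain ⟨g, hg⟩ := IsCyclic.exists_generator (α := ↥H); obtain ⟨i, rfl⟩ := hg x; obtain ⟨j, rfl⟩ := hg y; exact ((Commute.refl g).zpow_zpow i j).eq⟩⟩
      · exact absurd (eq_top_iff.2 (htop ▸ sup_le le_rfl (inf_eq_right.1 e))) hH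
  · have hPK : P = K := Subgroup.eq_of_le_of_card_ge
      (fun x hx => hpK x a (orderOf_dvd_iff_pow_eq_one.1 (hP ▸ P.orderOf_dvd_natCard hx))) (by rw [ha, hP])
    exact hPK ▸ inferInstance

theorem transport {Q Q' : Type*} [Group Q] [Group Q'] [Finite Q'] (e : Q ≃* Q')
    (h : (∃ p : ℕ, p.Prime ∧ Cfsg.IsElementaryAbelian p (⊤ : Subgroup Q)) ∨
      (¬ IsMulCommutative Q ∧ (∀ H : Subgroup Q, H ≠ ⊤ → IsMulCommutative ↥H) ∧
      ∃ p q a : ℕ, p.Prime ∧ q.Prime ∧ p ≠ q ∧ Nat.card Q = p ^ a * q ∧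
        ∀ P : Subgroup Q, Nat.card ↥P = p ^ a → P.Normal)) :
    (∃ p : ℕ, p.Prime ∧ Cfsg.IsElementaryAbelian p (⊤ : Subgroup Q')) ∨
      (¬ IsMulCommutative Q' ∧ (∀ H : Subgroup Q', H ≠ ⊤ → IsMulCommutative ↥H) ∧
      ∃ p q a : ℕ, p.Prime ∧ q.Prime ∧ p ≠ q ∧ Nat.card Q' = p ^ a * q ∧
        ∀ P : Subgroup Q', Nat.card ↥P = p ^ a → P.Normal) := by
  rcases h with ⟨p, hp, hc, hpow⟩ | ⟨hn, hH, p, q, a, hp, hq, hpq, hcard, hP⟩
  · refine Or.inl ⟨p, hp, ⟨⟨fun x y => Subtype.ext (e.symm.injective ?_)⟩⟩, fun x _ => e.symm.injective ?_⟩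
    · simp only [Subgroup.coe_mul, map_mul]
      exact congrArg Subtype.val (hc.is_comm.comm ⟨e.symm x, Subgroup.mem_top _⟩ ⟨e.symm y, Subgroup.mem_top _⟩ :)
    · rw [map_pow, map_one]
      exact hpow _ (Subgroup.mem_top _)
  · refine Or.inr ⟨fun hc => hn ⟨⟨fun x y => e.injective (by rw [map_mul, map_mul]; exact hc.is_comm.comm _ _)⟩⟩,
      fun H hH' => ?_, p, q, a, hp, hq, hpq, ?_, fun P hPc => ?_⟩
    · have h1 := hH (H.comap e.toMonoidHom) fun h0 => hH' (eq_top_iff.2 fun x _ => by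
        have := h0.ge (Subgroup.mem_top (e.symm x))
        simpa using this)
      exact ⟨⟨fun x y => Subtype.ext (e.symm.injective (by
        simp only [Subgroup.coe_mul, map_mul]
        exact congrArg Subtype.val (h1.is_comm.comm ⟨e.symm x, by simp⟩ ⟨e.symm y, by simp⟩ :)))⟩⟩
    · rw [← Nat.card_congr e.toEquiv, hcard]
    · have h1 := hP (P.comap e.toMonoidHom) (by
        rw [← hPc]
        exact (Subgroup.card_map_of_injective e.injective).symm.trans
          (congrArg (fun W : Subgroup Q' => Nat.card ↥W) (Subgroup.map_comap_eq_self_of_surjective (f := e.toMonoidHom) e.surjective P)))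
      have h2 := h1.map e.toMonoidHom e.surjective
      rwa [Subgroup.map_comap_eq_self_of_surjective e.surjective] at h2

/-- Let G be a non-abelian finite group in which the centralizer of every non-central element is a maximal subgroup. Then G/Z(G) is either an elementary abelian p-group for some prime p, or a minimal non-abelian group (non-abelian with all proper subgroups abelian) of order p^a · q for distinct primes p, q with a normal Sylow p-subgroup. -/
theorem result {G : Type*} [Group G] [Finite G] (hna : ¬ IsMulCommutative G)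
    (h : ∀ x : G, x ∉ Subgroup.center G → IsCoatom (Subgroup.centralizer ({x} : Set G))) :
    (∃ p : ℕ, p.Prime ∧ Cfsg.IsElementaryAbelian p (⊤ : Subgroup (G ⧸ Subgroup.center G))) ∨
    (¬ IsMulCommutative (G ⧸ Subgroup.center G) ∧ (∀ H : Subgroup (G ⧸ Subgroup.center G), H ≠ ⊤ → IsMulCommutative ↥H) ∧
      ∃ p q a : ℕ, p.Prime ∧ q.Prime ∧ p ≠ q ∧ Nat.card (G ⧸ Subgroup.center G) = p ^ a * q ∧
        ∀ P : Subgroup (G ⧸ Subgroup.center G), Nat.card ↥P = p ^ a → P.Normal) := by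
  haveI : (⊤ : Subgroup G).Normal := inferInstance
  have hH : Cfsg.Lib.Struct.MaxCent.Hyp (⊤ : Subgroup G) := fun x _ hxn =>
    h x fun hx => hxn (Subgroup.mem_centralizer_iff.2 fun y _ => Subgroup.mem_center_iff.1 hx y)
  let e0 : ↥(⊤ : Subgroup G) ≃* G := Subgroup.topEquiv
  have hmap : (Subgroup.center ↥(⊤ : Subgroup G)).map e0.toMonoidHom = Subgroup.center G := by
    ext x
    simp only [Subgroup.mem_map_equiv, Subgroup.mem_center_iff]
    exact ⟨fun hx g => by simpa using congrArg e0 (hx (e0.symm g)), fun hx g =>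
      e0.injective (by simpa using hx (e0 g))⟩
  refine transport (QuotientGroup.congr _ _ e0 hmap) ?_
  by_cases hnil : Group.IsNilpotent ↥(⊤ : Subgroup G)
  · exact Or.inl (Cfsg.Lib.Struct.MaxCent.elementary_of_nilpotent ⊤ hH hnil)
  · obtain ⟨E, K, p, hp, hE, hEp, hK, -, hel, ⟨a, ha⟩, hne, hcard, hmin⟩ :=
      Cfsg.Lib.Struct.MaxCent.frobenius_of_not_nilpotent ⊤ hH hnil
    refine Or.inr (quot_case E K p a hp hE hEp hel ha hne hcard fun R hR hRK => ?_)
    have hsurj := QuotientGroup.mk'_surjective (Subgroup.center ↥(⊤ : Subgroup G))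
    have h1 := hmin (R.comap (QuotientGroup.mk' _)) ((hR.comap _).map _ e0.surjective)
      (by rw [Subgroup.map_comap_eq_self_of_surjective hsurj]; exact hRK)
    rwa [Subgroup.map_comap_eq_self_of_surjective hsurj] at h1

end Cfsg.Agent.S3904
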