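import Cfsg.Statements.S3908
import Cfsg.Agent.Lib.PGroup.SameOrderIso
-- import your own Cfsg.Agent.* helpers here

set_option autoImplicit false
open Cfsg

namespace Cfsg.Agent.S3908

theorem sylow_form {G : Type*} [Group G] [Finite G]
    (hB : ∀ A B : Subgroup G, IsMulCommutative ↥A → IsMulCommutative ↥B → Nat.card ↥A = Nat.card ↥B →
      ∃ g : G, B = A.map (MulAut.conj g).toMonoidHom)
    (p : ℕ) [Fact p.Prime] (P : Sylow p G) :
    IsCyclic ↥(P : Subgroup G) ∨ (p = 2 ∧ ∃ k : ℕ, Nonempty (↥(P : Subgroup G) ≃* QuaternionGroup (2 ^ k))) ∨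
      ∀ x : ↥(P : Subgroup G), x ^ p = 1 := by
  refine Cfsg.Lib.PGroup.SameOrder.cyclic_or_quaternion_or_exponent P.isPGroup' ?_
  intro A B hA hB' hcard hAc
  let ι := (P : Subgroup G).subtype
  obtain ⟨g, hg⟩ := hB (A.map ι) (B.map ι) (Subgroup.map_isMulCommutative _ _) (Subgroup.map_isMulCommutative _ _)
    (by rw [Subgroup.card_subtype, Subgroup.card_subtype, hcard])
  have e : ↥A ≃* ↥B :=
    (A.equivMapOfInjective ι (P : Subgroup G).subtype_injective).trans
      (((A.map ι).equivMapOfInjective _ (MulAut.conj g).injective).trans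
        ((MulEquiv.subgroupCongr hg.symm).trans (B.equivMapOfInjective ι (P : Subgroup G).subtype_injective).symm))
  exact isCyclic_of_surjective e.toMonoidHom e.surjective


/-- Let G be a finite group in which any two abelian subgroups of the same order are conjugate. Then a Sylow 2-subgroup of G is cyclic, elementary abelian or generalized quaternion, and for an odd prime p a Sylow p-subgroup of G is cyclic or has exponent dividing p. -/
theorem result {G : Type*} [Group G] [Finite G] (hB : ∀ A B : Subgroup G, IsMulCommutative ↥A → IsMulCommutative ↥B → Nat.card ↥A = Nat.card ↥B → ∃ g : G, B = A.map (MulAut.conj g).toMonoidHom) :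
    (∀ P : Sylow 2 G, IsCyclic ↥(P : Subgroup G) ∨ Cfsg.IsElementaryAbelian 2 (P : Subgroup G) ∨ ∃ k : ℕ, Nonempty (↥(P : Subgroup G) ≃* QuaternionGroup (2 ^ k))) ∧
    ∀ (p : ℕ) [Fact p.Prime], p ≠ 2 → ∀ P : Sylow p G, IsCyclic ↥(P : Subgroup G) ∨ ∀ x ∈ (P : Subgroup G), x ^ p = 1 := by
  refine ⟨fun P => ?_, fun p _ hp2 P => ?_⟩
  · have : Fact (Nat.Prime 2) := ⟨Nat.prime_two⟩
    rcases sylow_form hB 2 P with h | ⟨-, h⟩ | h
    · exact Or.inl h
    · exact Or.inr (Or.inr h)
    · refine Or.inr (Or.inl ⟨⟨⟨fun a b => ?_⟩⟩, fun a ha => congrArg Subtype.val (h ⟨a, ha⟩)⟩)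
      have hinv : ∀ z : ↥(P : Subgroup G), z⁻¹ = z := fun z => inv_eq_of_mul_eq_one_right (by rw [← sq]; exact h z)
      calc a * b = (a * b)⁻¹ := (hinv _).symm
        _ = b * a := by rw [mul_inv_rev, hinv, hinv]
  · rcases sylow_form hB p P with h | ⟨h, -⟩ | h
    · exact Or.inl h
    · exact absurd h hp2
    · exact Or.inr fun x hx => congrArg Subtype.val (h ⟨x, hx⟩)

end Cfsg.Agent.S3908
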