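import Cfsg.Statements.S3909
import Mathlib.GroupTheory.Sylow
import Mathlib.GroupTheory.SpecificGroups.Cyclic
-- import your own Cfsg.Agent.* helpers here

set_option autoImplicit false
open Cfsg

namespace Cfsg.Agent.S3909

theorem first {G : Type*} [Group G]
    (hB : ∀ A B : Subgroup G, IsMulCommutative ↥A → IsMulCommutative ↥B → Nat.card ↥A = Nat.card ↥B → ∃ g : G, B = A.map (MulAut.conj g).toMonoidHom)
    (M : Subgroup G) [M.Normal] : ∀ a : G, (∃ m ∈ M, orderOf m = orderOf a) → a ∈ M := by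
  rintro a ⟨m, hm, hma⟩
  obtain ⟨g, hg⟩ := hB (Subgroup.zpowers m) (Subgroup.zpowers a) inferInstance inferInstance
    (by rw [Nat.card_zpowers, Nat.card_zpowers, hma])
  obtain ⟨z, hz, rfl⟩ := hg.le (Subgroup.mem_zpowers a)
  exact Subgroup.Normal.conj_mem inferInstance z (Subgroup.zpowers_le.mpr hm hz) g


/-- Let G be a finite group in which any two abelian subgroups of the same order are conjugate. Let M be a normal subgroup of G. If M contains an element of the same order as a ∈ G, then a ∈ M; and if M is elementary abelian of order p^t with p prime and t ≥ 2, then M is the unique Sylow p-subgroup of G. -/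
theorem result {G : Type*} [Group G] [Finite G] (hB : ∀ A B : Subgroup G, IsMulCommutative ↥A → IsMulCommutative ↥B → Nat.card ↥A = Nat.card ↥B → ∃ g : G, B = A.map (MulAut.conj g).toMonoidHom) (M : Subgroup G) [M.Normal] :
    (∀ a : G, (∃ m ∈ M, orderOf m = orderOf a) → a ∈ M) ∧
    ∀ (p t : ℕ) [Fact p.Prime], 2 ≤ t → Nat.card ↥M = p ^ t → Cfsg.IsElementaryAbelian p M → ∀ P : Sylow p G, (P : Subgroup G) = M := by
  classical
  refine ⟨first hB M, ?_⟩
  intro p t hp ht hcard hM P
  obtain ⟨hMc, hMe⟩ := hM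
  have hMp : IsPGroup p M := IsPGroup.of_card hcard
  refine le_antisymm (fun x hx => ?_) (IsPGroup.le_sylow_of_normal hMp P)
  rcases eq_or_ne x 1 with rfl | hx1
  · exact one_mem M
  obtain ⟨k, hk⟩ := IsPGroup.iff_orderOf.mp P.isPGroup' ⟨x, hx⟩
  rw [Subgroup.orderOf_mk] at hk
  rcases (by omega : k = 0 ∨ k = 1 ∨ 2 ≤ k) with rfl | rfl | hk2
  · rw [pow_zero] at hk
    exact absurd (orderOf_eq_one_iff.mp hk) hx1
  · have hd : p ∣ Nat.card M := hcard ▸ dvd_pow_self p (by omega)
    obtain ⟨⟨m, hm⟩, hmo⟩ := exists_prime_orderOf_dvd_card' p hd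
    rw [Subgroup.orderOf_mk] at hmo
    exact first hB M x ⟨m, hm, by rw [hmo, hk, pow_one]⟩
  · exfalso
    set y := x ^ p ^ (k - 2) with hy
    have hyo : orderOf y = p ^ 2 := by
      rw [hy, orderOf_pow' _ (pow_ne_zero _ hp.out.ne_zero), hk,
        Nat.gcd_eq_right (pow_dvd_pow p (by omega)), Nat.pow_div (by omega) hp.out.pos]
      congr 1; omega
    obtain ⟨W, hW⟩ := Sylow.exists_subgroup_card_pow_prime (G := M) p
      (hcard ▸ pow_dvd_pow p ht : p ^ 2 ∣ Nat.card M)
    have hWc : IsMulCommutative ↥(W.map M.subtype) := ⟨⟨fun a b => by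
      obtain ⟨_, a, -, rfl⟩ := a
      obtain ⟨_, b, -, rfl⟩ := b
      exact Subtype.ext (congrArg (fun z : M => (z : G)) (hMc.is_comm.comm a b))⟩⟩
    obtain ⟨g, hg⟩ := hB (W.map M.subtype) (Subgroup.zpowers y) hWc inferInstance (by
      rw [Subgroup.card_map_of_injective M.subtype_injective, hW, Nat.card_zpowers, hyo])
    obtain ⟨_, ⟨z, -, rfl⟩, hzy⟩ := hg.le (Subgroup.mem_zpowers y)
    have h1 : y ^ p = 1 := by
      rw [← hzy]
      simp only [MulEquiv.coe_toMonoidHom, MulAut.conj_apply, Subgroup.coe_subtype, conj_pow,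
        hMe z z.2, mul_one, mul_inv_cancel]
    have := orderOf_dvd_of_pow_eq_one h1
    rw [hyo] at this
    have h2 := Nat.le_of_dvd hp.out.pos this
    have h3 := hp.out.one_lt
    nlinarith

end Cfsg.Agent.S3909
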