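import Cfsg.Statements.S3910
import Mathlib.Tactic.Group
import Mathlib.GroupTheory.Sylow
import Mathlib.GroupTheory.Nilpotent
import Mathlib.GroupTheory.SpecificGroups.ZGroup
-- import your own Cfsg.Agent.* helpers here

set_option autoImplicit false
open Cfsg

namespace Cfsg.Agent.S3910

open Subgroup

/-- A finite `p`-group with conjugate cyclic subgroups of equal order is cyclic. -/
theorem isCyclic_pGroup {P : Type*} [Group P] [Finite P] {p : ℕ} [hp : Fact p.Prime] (hP : IsPGroup p P)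
    (hB : ∀ x y : P, orderOf x = orderOf y → ∃ g : P, zpowers y = (zpowers x).map (MulAut.conj g).toMonoidHom) :
    IsCyclic P := by
  classical
  by_contra hnc
  have := hP.isNilpotent
  have hcoat : ∀ M : Subgroup P, IsCoatom M → M.Normal := fun M hM =>
    Group.normalizerCondition_of_isNilpotent.normal_of_coatom M hM
  have hpow : ∀ M : Subgroup P, IsCoatom M → ∀ z : P, z ^ p ∈ M := fun M hM z => by
    have := hcoat M hM
    obtain ⟨k, hk⟩ := IsPGroup.iff_card.mp hP
    have hidx : M.index = p := by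
      obtain ⟨j, hj⟩ := (Nat.dvd_prime_pow hp.out).mp (hk ▸ M.index_dvd_card)
      obtain ⟨c, hc⟩ := exists_prime_orderOf_dvd_card' p (G := P ⧸ M) (by
        rw [← Subgroup.index_eq_card, hj.2]
        refine dvd_pow_self p fun h0 => hM.1 (index_eq_one.mp ?_)
        rw [hj.2, h0, pow_zero])
      have htop : (zpowers c).comap (QuotientGroup.mk' M) = ⊤ := by
        refine hM.2 _ (lt_of_le_of_ne (fun x hx => ?_) fun h => ?_)
        · show QuotientGroup.mk' M x ∈ zpowers c
          rw [show QuotientGroup.mk' M x = 1 from (QuotientGroup.eq_one_iff x).mpr hx]; exact one_mem _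
        · obtain ⟨x, rfl⟩ := QuotientGroup.mk'_surjective M c
          have hx : x ∈ M := h ▸ (show x ∈ (zpowers (QuotientGroup.mk' M x)).comap (QuotientGroup.mk' M) from mem_zpowers _)
          rw [show QuotientGroup.mk' M x = 1 from (QuotientGroup.eq_one_iff x).mpr hx, orderOf_one] at hc
          exact hp.out.one_lt.ne hc
      have h2 : zpowers c = ⊤ := by
        rw [← map_comap_eq_self_of_surjective (QuotientGroup.mk'_surjective M) (zpowers c), htop,
          map_top_of_surjective _ (QuotientGroup.mk'_surjective M)]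
      rw [Subgroup.index_eq_card, ← card_top, ← h2, Nat.card_zpowers, hc]
    rw [← hidx]
    exact M.pow_index_mem z
  -- a proper subgroup lies in a coatom
  have hle : ∀ H : Subgroup P, H ≠ ⊤ → ∃ M, IsCoatom M ∧ H ≤ M := fun H hH =>
    (eq_top_or_exists_le_coatom H).resolve_left hH
  have hcyc : ∀ x : P, zpowers x ≠ ⊤ := fun x h => hnc ⟨⟨x, fun y => by show y ∈ zpowers x; rw [h]; exact mem_top y⟩⟩
  obtain ⟨M₁, hM₁, -⟩ := hle (zpowers (1 : P)) (hcyc 1)
  obtain ⟨x₀, -, hx₀⟩ := SetLike.exists_of_lt (lt_top_iff_ne_top.mpr hM₁.1)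
  have hex : ∃ n, ∃ x, x ∉ M₁ ∧ orderOf x = n := ⟨_, x₀, hx₀, rfl⟩
  obtain ⟨x, hxM, hxo⟩ := Nat.find_spec hex
  have hmin : ∀ z, z ∉ M₁ → orderOf x ≤ orderOf z := fun z hz => hxo ▸ Nat.find_min' hex ⟨z, hz, rfl⟩
  obtain ⟨M, hM, hxle⟩ := hle (zpowers x) (hcyc x)
  have hinv : ∀ {y : P} (N : Subgroup P), N.Normal → y ∈ N → ∀ z : P, orderOf y = orderOf z → z ∈ N := by
    intro y N hN hy z hyz
    obtain ⟨g, hg⟩ := hB y z hyz
    obtain ⟨w, hw, hwz⟩ := (hg ▸ mem_zpowers z : z ∈ (zpowers y).map (MulAut.conj g).toMonoidHom)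
    rw [← hwz]
    exact hN.conj_mem w (zpowers_le.mpr hy hw) g
  obtain ⟨z, hzM, hzM₁⟩ : ∃ z, z ∉ M ∧ z ∉ M₁ := by
    by_contra h
    push Not at h
    obtain ⟨a, -, ha⟩ := SetLike.exists_of_lt (lt_top_iff_ne_top.mpr hM.1)
    have haM₁ : a ∈ M₁ := h a ha
    have hxa : x * a ∉ M := fun hc => ha (by
      simpa using mul_mem (inv_mem (hxle (mem_zpowers x))) hc)
    exact hxM (by simpa using mul_mem (h _ hxa) (inv_mem haM₁))
  rcases eq_or_lt_of_le (hmin z hzM₁) with h | h
  · exact hzM (hinv M (hcoat M hM) (hxle (mem_zpowers x)) z h)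
  · obtain ⟨i, hi⟩ := IsPGroup.iff_orderOf.mp hP x
    obtain ⟨j, hj⟩ := IsPGroup.iff_orderOf.mp hP z
    have hij : i < j := (Nat.pow_lt_pow_iff_right hp.out.one_lt).mp (hi ▸ hj ▸ h)
    have ho : orderOf (z ^ p ^ (j - i)) = orderOf x := by
      rw [orderOf_pow' z (pow_ne_zero _ hp.out.ne_zero), hj, Nat.gcd_eq_right (pow_dvd_pow p (Nat.sub_le j i)),
        Nat.pow_div (Nat.sub_le j i) hp.out.pos, hi]
      congr 1
      omega
    refine hxM (hinv M₁ (hcoat M₁ hM₁) ?_ x ho)
    obtain ⟨d, hd⟩ : ∃ d, j - i = d + 1 := ⟨j - i - 1, by omega⟩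
    rw [hd, pow_succ, mul_comm, pow_mul]
    exact pow_mem (hpow M₁ hM₁ z) _

/-- A finite nilpotent group in which any two abelian subgroups of the same order are conjugate is cyclic. -/
theorem result {G : Type*} [Group G] [Finite G] (hB : ∀ A B : Subgroup G, IsMulCommutative ↥A → IsMulCommutative ↥B → Nat.card ↥A = Nat.card ↥B → ∃ g : G, B = A.map (MulAut.conj g).toMonoidHom) (hnil : Group.IsNilpotent G) : IsCyclic G := by
  have : IsZGroup G := ⟨fun p hp P => ?_⟩
  · exact inferInstance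
  have := Fact.mk hp
  refine isCyclic_pGroup P.isPGroup' fun x y hxy => ?_
  have hcomm : ∀ a : (P : Subgroup G), IsMulCommutative (zpowers (a : G)) := fun a => inferInstance
  obtain ⟨g, hg⟩ := hB (zpowers (x : G)) (zpowers (y : G)) (hcomm x) (hcomm y)
    (by rw [Nat.card_zpowers, Nat.card_zpowers, orderOf_coe, orderOf_coe, hxy])
  -- the conjugating element may be taken in `P`
  have hN : ∀ (r : ℕ) (_ : Fact r.Prime) (R : Sylow r G), (R : Subgroup G).Normal :=
    ((Group.isNilpotent_of_finite_tfae (G := G)).out 0 3 rfl rfl).mp hnil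
  have htop : (P : Subgroup G) ⊔ centralizer ((P : Subgroup G) : Set G) = ⊤ := by
    rw [← card_eq_iff_eq_top]
    refine Nat.dvd_antisymm (Subgroup.card_subgroup_dvd_card _) ?_
    refine (Nat.dvd_iff_prime_pow_dvd_dvd _ _).mpr fun r k hr hk => ?_
    have := Fact.mk hr
    rcases eq_or_ne r p with rfl | hrp
    · exact (P.pow_dvd_card_of_pow_dvd_card hk).trans (card_dvd_of_le le_sup_left)
    · obtain ⟨R⟩ : Nonempty (Sylow r G) := inferInstance
      refine (R.pow_dvd_card_of_pow_dvd_card hk).trans (card_dvd_of_le (le_sup_of_le_right fun a ha => ?_))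
      exact mem_centralizer_iff.mpr fun b hb => commute_of_normal_of_disjoint _ _ (hN p inferInstance P) (hN r inferInstance R)
        (IsPGroup.disjoint_of_ne p r hrp.symm _ _ P.isPGroup' R.isPGroup') b a hb ha
  have := hN p inferInstance P
  obtain ⟨a, ha, c, hc, rfl⟩ := mem_sup_of_normal_left.mp (htop ▸ mem_top g)
  refine ⟨⟨a, ha⟩, map_injective (P : Subgroup G).subtype_injective ?_⟩
  rw [MonoidHom.map_zpowers, MonoidHom.map_zpowers, MonoidHom.map_zpowers]
  show zpowers (y : G) = zpowers (a * (x : G) * a⁻¹)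
  rw [hg, MonoidHom.map_zpowers]
  congr 1
  show a * c * (x : G) * (a * c)⁻¹ = a * (x : G) * a⁻¹
  rw [mul_inv_rev]
  have hxc := mem_centralizer_iff.mp hc (x : G) x.2
  calc a * c * (x : G) * (c⁻¹ * a⁻¹) = a * (c * (x : G) * c⁻¹) * a⁻¹ := by group
    _ = a * (x : G) * a⁻¹ := by rw [← hxc, mul_inv_cancel_right]

end Cfsg.Agent.S3910
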