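import Cfsg.Statements.S3911
import Cfsg.Agent.Lib.Struct.AbelianConjugate
import Cfsg.Agent.S3908
-- import your own Cfsg.Agent.* helpers here

set_option autoImplicit false
open Cfsg

namespace Cfsg.Agent.S3911

open Subgroup Cfsg.Lib

universe u

theorem nice_odd {G : Type u} [Group G] [Finite G] (hB : Struct.AbelianConj.Conj G) (M : Subgroup G)
    [M.Normal] {p : ℕ} [hp : Fact p.Prime] (hp2 : p ≠ 2) (h1 : p ∣ Nat.card ↥M) (h2 : p ∣ M.index)
    (P : Sylow p G) : Struct.AbelianConj.Nice p (P : Subgroup G) := by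
  rcases (Cfsg.Agent.S3908.result hB).2 p hp2 P with h | h
  · exact Or.inl h
  · exfalso
    refine P.not_dvd_index (h2.trans (index_dvd_of_le fun x hx => ?_))
    by_cases hx1 : x = 1
    · rw [hx1]; exact one_mem M
    obtain ⟨⟨m, hm⟩, hmo⟩ := exists_prime_orderOf_dvd_card' p h1
    rw [Subgroup.orderOf_mk] at hmo
    exact Struct.AbelianConj.mem_of_orderOf hB M hm (hmo.trans (orderOf_eq_prime (h x hx) hx1).symm)

theorem conj_quotient_odd {G : Type u} [Group G] [Finite G] (hB : Struct.AbelianConj.Conj G)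
    (M : Subgroup G) [M.Normal] (hM : Odd (Nat.card ↥M)) : Struct.AbelianConj.Conj (G ⧸ M) := by
  refine Struct.AbelianConj.conj_quotient hB fun p hp h1 h2 P => nice_odd hB M ?_ h1 h2 P
  rintro rfl
  exact (Nat.not_even_iff_odd.2 hM) (even_iff_two_dvd.2 h1)

/-- Let G be a finite group in which any two abelian subgroups of the same order are conjugate. If M is a normal subgroup of G of odd order, then any two abelian subgroups of G/M of the same order are conjugate in G/M. -/
theorem result {G : Type*} [Group G] [Finite G] (hB : ∀ A B : Subgroup G, IsMulCommutative ↥A → IsMulCommutative ↥B → Nat.card ↥A = Nat.card ↥B → ∃ g : G, B = A.map (MulAut.conj g).toMonoidHom) (M : Subgroup G) [M.Normal] (hM : Odd (Nat.card ↥M)) :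
    ∀ A B : Subgroup (G ⧸ M), IsMulCommutative ↥A → IsMulCommutative ↥B → Nat.card ↥A = Nat.card ↥B →
      ∃ g : G ⧸ M, B = A.map (MulAut.conj g).toMonoidHom := by
  exact conj_quotient_odd hB M hM

end Cfsg.Agent.S3911
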