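import Cfsg.Statements.S3912
import Cfsg.Agent.S3911
-- import your own Cfsg.Agent.* helpers here

set_option autoImplicit false
open Cfsg

namespace Cfsg.Agent.S3912

open Subgroup Cfsg.Lib QuaternionGroup

universe u

theorem quaternion_core_false {G : Type u} [Group G] [Finite G] [Group.IsSolvable G]
    (hB : Struct.AbelianConj.Conj G) (hO : Cfsg.pPrimeCore 2 G = ⊥) (P : Sylow 2 G) {k : ℕ}
    (hk : 2 ≤ k) (e : ↥(P : Subgroup G) ≃* QuaternionGroup (2 ^ k)) : False := by
  haveI : Fact (Nat.Prime 2) := ⟨Nat.prime_two⟩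
  haveI : NeZero (2 ^ k) := ⟨pow_ne_zero _ two_ne_zero⟩
  have hk4 : 4 ≤ 2 ^ k := by
    calc 4 = 2 ^ 2 := by norm_num
      _ ≤ 2 ^ k := Nat.pow_le_pow_right (by norm_num) hk
  set D := Cfsg.pCore 2 G with hD
  have hDP : D ≤ (P : Subgroup G) := (Core.pCore_isPGroup 2 G).le_sylow_of_normal P
  have hord : ∀ q : QuaternionGroup (2 ^ k), orderOf ((e.symm q : ↥(P : Subgroup G)) : G) = orderOf q :=
    fun q => (Subgroup.orderOf_coe _).trans (e.symm.orderOf_eq q)
  by_cases h4 : ∃ d ∈ D, orderOf d = 4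
  · obtain ⟨d, hd, hd4⟩ := h4
    have hxa : ∀ i, ((e.symm (xa i) : ↥(P : Subgroup G)) : G) ∈ D := fun i =>
      Struct.AbelianConj.mem_of_orderOf hB D hd (hd4.trans ((hord _).trans (orderOf_xa i)).symm)
    have hPD : (P : Subgroup G) ≤ D := by
      intro x hx
      have hxe : (⟨x, hx⟩ : ↥(P : Subgroup G)) = e.symm (e ⟨x, hx⟩) := (e.symm_apply_apply _).symm
      rcases hq : e ⟨x, hx⟩ with i | i
      · have : (a i : QuaternionGroup (2 ^ k)) = xa 0 * xa (i - ((2 ^ k : ℕ) : ZMod (2 * 2 ^ k))) := by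
          rw [xa_mul_xa]; congr 1; ring
        rw [hq, this, map_mul] at hxe
        rw [show x = ((⟨x, hx⟩ : ↥(P : Subgroup G)) : G) from rfl, hxe, Subgroup.coe_mul]
        exact mul_mem (hxa _) (hxa _)
      · rw [hq] at hxe
        rw [show x = ((⟨x, hx⟩ : ↥(P : Subgroup G)) : G) from rfl, hxe]
        exact hxa _
    set u := ((e.symm (a 1) : ↥(P : Subgroup G)) : G) with hu
    have huo : orderOf u = 2 * 2 ^ k := (hord _).trans orderOf_a_one
    have hconj : ∀ g : G, g * u * g⁻¹ ∈ zpowers u := by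
      intro g
      have hgD : g * u * g⁻¹ ∈ D :=
        (inferInstance : (Cfsg.pCore 2 G).Normal).conj_mem u (hPD (SetLike.coe_mem _)) g
      have hgo : orderOf (g * u * g⁻¹) = 2 * 2 ^ k := by rw [Cfsg.Lib.Invol.orderOf_conj_eq, huo]
      rcases hq : e ⟨g * u * g⁻¹, hDP hgD⟩ with i | i
      · have h1 : (⟨g * u * g⁻¹, hDP hgD⟩ : ↥(P : Subgroup G)) = e.symm (a i) := by
          rw [← hq, MulEquiv.symm_apply_apply]
        rw [show g * u * g⁻¹ = ((⟨g * u * g⁻¹, hDP hgD⟩ : ↥(P : Subgroup G)) : G) from rfl, h1,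
          ← ZMod.natCast_zmod_val i, ← a_one_pow, map_pow, SubmonoidClass.coe_pow]
        exact pow_mem (mem_zpowers u) _
      · exfalso
        have h1 : orderOf (g * u * g⁻¹) = 4 := by
          rw [← Subgroup.orderOf_mk _ (hDP hgD), ← e.orderOf_eq, hq]
          exact orderOf_xa i
        omega
    haveI : NeZero (2 * 2 ^ k) := ⟨by omega⟩
    have hv : orderOf (u ^ 2 ^ (k - 1)) = 4 := by
      rw [orderOf_pow' _ (pow_ne_zero _ two_ne_zero), huo, show 2 * 2 ^ k = 2 ^ (k + 1) by ring,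
        Nat.gcd_eq_right (pow_dvd_pow 2 (by omega)), Nat.pow_div (by omega) two_pos,
        show k + 1 - (k - 1) = 2 by omega]
      norm_num
    obtain ⟨g, hg⟩ := hB (zpowers (u ^ 2 ^ (k - 1))) (zpowers ((e.symm (xa 0) : ↥(P : Subgroup G)) : G))
      inferInstance inferInstance (by rw [Nat.card_zpowers, Nat.card_zpowers, hv, hord, orderOf_xa])
    obtain ⟨z, hz, hze⟩ := hg.le (mem_zpowers ((e.symm (xa 0) : ↥(P : Subgroup G)) : G))
    obtain ⟨j, rfl⟩ := mem_zpowers_iff.1 hz
    have hze' : g * (u ^ 2 ^ (k - 1)) ^ j * g⁻¹ = ((e.symm (xa 0) : ↥(P : Subgroup G)) : G) := hze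
    have hmem : ((e.symm (xa 0) : ↥(P : Subgroup G)) : G) ∈ zpowers u := by
      rw [← hze', ← conj_zpow, ← conj_pow]
      exact zpow_mem (pow_mem (hconj g) _) _
    obtain ⟨l, hl⟩ := (mem_zpowers_iff).1 hmem
    have h2 : (a 1 : QuaternionGroup (2 ^ k)) ^ l = xa 0 := by
      apply e.symm.injective
      apply Subtype.ext
      rw [map_zpow, SubgroupClass.coe_zpow]
      exact hl
    obtain ⟨m, hm⟩ : ∃ m : ℕ, (a 1 : QuaternionGroup (2 ^ k)) ^ m = xa 0 :=
      (isOfFinOrder_of_finite _).mem_powers_iff_mem_zpowers.2 ⟨l, h2⟩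
    rw [a_one_pow] at hm
    exact nomatch hm
  · push Not at h4
    have hsq : ∀ d ∈ D, d = 1 ∨ orderOf d = 2 := by
      intro d hd
      obtain ⟨i, hi⟩ := IsPGroup.iff_orderOf.1 (Core.pCore_isPGroup 2 G) ⟨d, hd⟩
      rw [Subgroup.orderOf_mk] at hi
      rcases i with _ | _ | i
      · exact Or.inl (orderOf_eq_one_iff.1 (by simpa using hi))
      · exact Or.inr (by simpa using hi)
      · exfalso
        refine h4 _ (pow_mem hd (2 ^ i)) ?_
        rw [orderOf_pow' _ (pow_ne_zero _ two_ne_zero), hi,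
          Nat.gcd_eq_right (pow_dvd_pow 2 (by omega)), Nat.pow_div (by omega) two_pos,
          show i + 1 + 1 - i = 2 by omega]
        norm_num
    have huniq : ∀ x y : G, x ∈ (P : Subgroup G) → y ∈ (P : Subgroup G) → orderOf x = 2 →
        orderOf y = 2 → x = y := by
      intro x y hx hy ox oy
      have h1 := Cfsg.Lib.Invol.quaternion_eq_of_orderOf_two (x := e ⟨x, hx⟩)
        (by rw [e.orderOf_eq, Subgroup.orderOf_mk, ox])
      have h2 := Cfsg.Lib.Invol.quaternion_eq_of_orderOf_two (x := e ⟨y, hy⟩)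
        (by rw [e.orderOf_eq, Subgroup.orderOf_mk, oy])
      exact congrArg Subtype.val (e.injective (h1.trans h2.symm))
    have hall : ∀ g : G, g ∈ centralizer (D : Set G) := by
      intro g d hd
      rcases hsq d hd with rfl | hd2
      · simp
      · have hgd : g * d * g⁻¹ ∈ D := (inferInstance : (Cfsg.pCore 2 G).Normal).conj_mem d hd g
        have := huniq _ _ (hDP hgd) (hDP hd) (by rw [Cfsg.Lib.Invol.orderOf_conj_eq, hd2]) hd2
        exact (mul_inv_eq_iff_eq_mul.1 this).symm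
    have hle := Core.centralizer_pCore_le_of_isPSolvable
      (Core.isPSolvable_of_isSolvable (p := 2) (G := G)) hO
    refine h4 _ (hle (hall ((e.symm (xa 0) : ↥(P : Subgroup G)) : G))) ?_
    rw [hord, orderOf_xa]

theorem quaternion_le_one {G : Type u} [Group G] [Finite G] [Group.IsSolvable G]
    (hB : Struct.AbelianConj.Conj G) (P : Sylow 2 G) {k : ℕ}
    (e : ↥(P : Subgroup G) ≃* QuaternionGroup (2 ^ k)) : k ≤ 1 := by
  by_contra hk
  haveI : Fact (Nat.Prime 2) := ⟨Nat.prime_two⟩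
  set K := Cfsg.pPrimeCore 2 G with hK
  have hKodd : Odd (Nat.card ↥K) := by
    rw [← Nat.coprime_two_right]
    exact Core.pPrimeCore_coprime 2 G
  set π := QuotientGroup.mk' K with hπ
  have hπs : Function.Surjective π := QuotientGroup.mk'_surjective K
  let f : ↥(P : Subgroup G) →* ↥((P.mapSurjective hπs : Sylow 2 (G ⧸ K)) : Subgroup (G ⧸ K)) :=
    (π.comp (P : Subgroup G).subtype).codRestrict _ fun x => ⟨x, x.2, rfl⟩
  have hf : Function.Bijective f := by
    refine ⟨?_, ?_⟩
    · rw [← MonoidHom.ker_eq_bot_iff, Subgroup.eq_bot_iff_forall]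
      intro x hx
      have hxK : (x : G) ∈ K := (QuotientGroup.eq_one_iff _).1 (congrArg Subtype.val hx :)
      obtain ⟨i, hi⟩ := IsPGroup.iff_orderOf.1 P.2 x
      refine orderOf_eq_one_iff.1 (Nat.eq_one_of_dvd_coprimes
        ((Nat.coprime_two_right.2 hKodd).pow_right i) ?_ hi.dvd)
      rw [← Subgroup.orderOf_coe, ← Subgroup.orderOf_mk (x : G) hxK]
      exact orderOf_dvd_natCard _
    · rintro ⟨_, x, hx, rfl⟩
      exact ⟨⟨x, hx⟩, rfl⟩
  exact quaternion_core_false (Cfsg.Agent.S3911.conj_quotient_odd hB K hKodd)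
    Core.pPrimeCore_quotient_eq_bot (P.mapSurjective hπs) (Nat.lt_of_not_le hk)
    ((MulEquiv.ofBijective f hf).symm.trans e)

theorem conj_quotient_solvable {G : Type u} [Group G] [Finite G] [Group.IsSolvable G]
    (hB : Struct.AbelianConj.Conj G) (M : Subgroup G) [M.Normal] : Struct.AbelianConj.Conj (G ⧸ M) := by
  refine Struct.AbelianConj.conj_quotient hB fun p hp h1 h2 P => ?_
  by_cases hp2 : p = 2
  swap
  · exact Cfsg.Agent.S3911.nice_odd hB M hp2 h1 h2 P
  subst hp2
  rcases (Cfsg.Agent.S3908.result hB).1 P with h | h | ⟨k, ⟨e⟩⟩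
  · exact Or.inl h
  · exfalso
    refine P.not_dvd_index (h2.trans (index_dvd_of_le fun x hx => ?_))
    by_cases hx1 : x = 1
    · rw [hx1]; exact one_mem M
    obtain ⟨⟨m, hm⟩, hmo⟩ := exists_prime_orderOf_dvd_card' 2 h1
    rw [Subgroup.orderOf_mk] at hmo
    exact Struct.AbelianConj.mem_of_orderOf hB M hm (hmo.trans (orderOf_eq_prime (h.2 x hx) hx1).symm)
  · have hk := quaternion_le_one hB P e
    rcases (by omega : k = 0 ∨ k = 1) with rfl | rfl
    · haveI : IsCyclic (QuaternionGroup (2 ^ 0)) := quaternionGroup_one_isCyclic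
      exact Or.inl (isCyclic_of_injective e.toMonoidHom e.injective)
    · refine Or.inr ⟨rfl, ?_, fun x hx => ?_, fun x hx y hy ox oy => ?_⟩
      · rw [Nat.card_congr e.toEquiv, Nat.card_eq_fintype_card, QuaternionGroup.card]
        norm_num
      · have h4 : (e ⟨x, hx⟩) ^ (2 ^ 2) = 1 := by
          refine orderOf_dvd_iff_pow_eq_one.1 ((Monoid.order_dvd_exponent _).trans ?_)
          rw [QuaternionGroup.exponent]
          decide
        rw [← map_pow] at h4
        exact congrArg Subtype.val ((MulEquiv.map_eq_one_iff e).1 h4)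
      · haveI : NeZero (2 ^ 1) := ⟨by norm_num⟩
        have h1' := Cfsg.Lib.Invol.quaternion_eq_of_orderOf_two (x := e ⟨x, hx⟩)
          (by rw [e.orderOf_eq, Subgroup.orderOf_mk, ox])
        have h2' := Cfsg.Lib.Invol.quaternion_eq_of_orderOf_two (x := e ⟨y, hy⟩)
          (by rw [e.orderOf_eq, Subgroup.orderOf_mk, oy])
        exact congrArg Subtype.val (e.injective (h1'.trans h2'.symm))

/-- Let G be a finite solvable group in which any two abelian subgroups of the same order are conjugate. Then every quotient of G has the same property: any two abelian subgroups of the quotient of the same order are conjugate. -/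
theorem result {G : Type*} [Group G] [Finite G] (hB : ∀ A B : Subgroup G, IsMulCommutative ↥A → IsMulCommutative ↥B → Nat.card ↥A = Nat.card ↥B → ∃ g : G, B = A.map (MulAut.conj g).toMonoidHom) (hsol : Group.IsSolvable G) (M : Subgroup G) [M.Normal] :
    ∀ A B : Subgroup (G ⧸ M), IsMulCommutative ↥A → IsMulCommutative ↥B → Nat.card ↥A = Nat.card ↥B →
      ∃ g : G ⧸ M, B = A.map (MulAut.conj g).toMonoidHom := by
  haveI := hsol
  exact conj_quotient_solvable hB M

end Cfsg.Agent.S3912
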