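import Cfsg.Statements.S4022
import Cfsg.Agent.Lib.Solv.Hall
import Cfsg.Agent.Lib.Core.PSolvable
import Cfsg.Agent.Lib.Coprime.Conjugacy
-- import your own Cfsg.Agent.* helpers here

set_option autoImplicit false
open Cfsg

namespace Cfsg.Agent.S4022

open Subgroup
open scoped Pointwise

universe u

def PConj (G : Type u) [Group G] : Prop :=
  ∀ p : ℕ, p.Prime → ∀ H K : Subgroup G, IsPGroup p H → IsPGroup p K → Nat.card H = Nat.card K →
    ∃ g : G, K = H.map (MulAut.conj g).toMonoidHom

def CycAway (r : ℕ) (G : Type u) [Group G] : Prop :=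
  ∀ p : ℕ, p.Prime → p ≠ r → ∀ P : Sylow p G, IsCyclic P

variable {G : Type u} [Group G] [Finite G]

theorem cycAway_subgroup {r : ℕ} (h : CycAway r G) (L : Subgroup G) : CycAway r L := by
  intro p hp hpr P
  haveI := Fact.mk hp
  obtain ⟨Q, hQ⟩ := (P.2.map L.subtype).exists_le_sylow
  haveI : IsCyclic (Q : Subgroup G) := h p hp hpr Q
  haveI : IsCyclic ↥((P : Subgroup L).map L.subtype) :=
    isCyclic_of_injective (inclusion hQ) (inclusion_injective hQ)
  exact isCyclic_of_injective ((P : Subgroup L).equivMapOfInjective L.subtype L.subtype_injective).toMonoidHom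
    (MulEquiv.injective _)

theorem eq_of_le_cyclic {W Y Y' : Subgroup G} [IsCyclic W] (hY : Y ≤ W) (hY' : Y' ≤ W)
    (hc : Nat.card Y = Nat.card Y') : Y = Y' := by
  classical
  haveI := Fintype.ofFinite G
  set S : Finset W := Finset.univ.filter fun w => w ^ Nat.card Y = 1 with hS
  have hle : S.card ≤ Nat.card Y := IsCyclic.card_pow_eq_one_le Nat.card_pos
  have hsub : ∀ Z : Subgroup G, Z ≤ W → Nat.card Z = Nat.card Y →
      (Finset.univ.filter fun w : W => (w : G) ∈ Z) = S := by
    intro Z hZ hZc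
    refine Finset.eq_of_subset_of_card_le (fun w hw => ?_) ?_
    · rw [Finset.mem_filter] at hw
      rw [hS, Finset.mem_filter]
      refine ⟨Finset.mem_univ _, Subtype.ext ?_⟩
      have := congrArg Subtype.val (pow_card_eq_one' (x := (⟨(w : G), hw.2⟩ : Z)))
      rwa [hZc] at this
    · refine hle.trans (le_of_eq ?_)
      rw [← Fintype.card_subtype, ← Nat.card_eq_fintype_card, ← hZc]
      exact Nat.card_congr ⟨fun y => ⟨⟨y.1, hZ y.2⟩, y.2⟩, fun w => ⟨w.1.1, w.2⟩,
        fun _ => rfl, fun _ => rfl⟩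
  ext g
  have h := Finset.ext_iff.1 ((hsub Y hY rfl).trans (hsub Y' hY' hc.symm).symm)
  constructor
  · intro hg
    simpa using (h ⟨g, hY hg⟩).1 (by simpa using hg)
  · intro hg
    simpa using (h ⟨g, hY' hg⟩).2 (by simpa using hg)

theorem map_conj_mul' (H : Subgroup G) (a b : G) :
    (H.map (MulAut.conj b).toMonoidHom).map (MulAut.conj a).toMonoidHom = H.map (MulAut.conj (a * b)).toMonoidHom := by
  rw [Cfsg.Lib.Coprime.map_conj_conj]

/-- A cyclic Sylow subgroup makes equal-order `p`-subgroups conjugate. -/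
theorem pconj_of_cyclic {p : ℕ} [Fact p.Prime] (hc : ∀ P : Sylow p G, IsCyclic P) {H K : Subgroup G}
    (hH : IsPGroup p H) (hK : IsPGroup p K) (h : Nat.card H = Nat.card K) :
    ∃ g : G, K = H.map (MulAut.conj g).toMonoidHom := by
  obtain ⟨P, hP⟩ := hH.exists_le_sylow
  obtain ⟨Q, hQ⟩ := hK.exists_le_sylow
  obtain ⟨g, rfl⟩ := MulAction.exists_smul_eq G P Q
  refine ⟨g, ?_⟩
  haveI : IsCyclic ↥((g • P : Sylow p G) : Subgroup G) := hc _
  refine eq_of_le_cyclic hQ ?_ ?_
  · rw [Sylow.coe_subgroup_smul, Subgroup.pointwise_smul_def]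
    exact map_mono hP
  · rw [card_map_of_injective (MulEquiv.injective _), h]

theorem cycAway_quotient {r : ℕ} (h : CycAway r G) (N : Subgroup G) [N.Normal] : CycAway r (G ⧸ N) := by
  intro p hp hpr Q
  haveI := Fact.mk hp
  obtain ⟨P, rfl⟩ := Sylow.mapSurjective_surjective (QuotientGroup.mk'_surjective N) p Q
  haveI : IsCyclic (P : Subgroup G) := h p hp hpr P
  exact isCyclic_of_surjective ((QuotientGroup.mk' N).subgroupMap (P : Subgroup G))
    ((QuotientGroup.mk' N).subgroupMap_surjective _)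

theorem pconj_quotient (h : PConj G) (N : Subgroup G) [N.Normal] : PConj (G ⧸ N) := by
  intro p hp U U' hU hU' hc
  haveI := Fact.mk hp
  set f := QuotientGroup.mk' N
  have hf : Function.Surjective f := QuotientGroup.mk'_surjective N
  have hlift : ∀ W : Subgroup (G ⧸ N), IsPGroup p W → ∃ S : Subgroup G, IsPGroup p S ∧ S.map f = W ∧
      Nat.card S = p ^ (Nat.card N * Nat.card W).factorization p := by
    intro W hW
    obtain ⟨S⟩ : Nonempty (Sylow p ↥(W.comap f)) := inferInstance
    refine ⟨(S : Subgroup ↥(W.comap f)).map (W.comap f).subtype, S.2.map _, ?_, ?_⟩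
    · let φ : ↥(W.comap f) →* W := f.subgroupComap W
      have hφ : Function.Surjective φ := MonoidHom.subgroupComap_surjective_of_surjective f W hf
      have htop : ((S.mapSurjective hφ : Sylow p W) : Subgroup W) = ⊤ :=
        (S.mapSurjective hφ).is_maximal' (hW.to_subgroup ⊤ |>.to_le le_rfl) le_top |>.symm
      rw [Sylow.coe_mapSurjective] at htop
      rw [Subgroup.map_map, show f.comp (W.comap f).subtype = W.subtype.comp φ from rfl, ← Subgroup.map_map, htop,
        ← MonoidHom.range_eq_map, range_subtype]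
    · rw [card_map_of_injective (W.comap f).subtype_injective, S.card_eq_multiplicity,
        Cfsg.Lib.Core.card_comap_eq f hf, QuotientGroup.ker_mk']
  obtain ⟨S, hS, hSm, hSc⟩ := hlift U hU
  obtain ⟨S', hS', hSm', hSc'⟩ := hlift U' hU'
  obtain ⟨g, hg⟩ := h p hp S S' hS hS' (by rw [hSc, hSc', hc])
  refine ⟨f g, ?_⟩
  rw [← hSm', hg, ← hSm, Subgroup.map_map, Subgroup.map_map]
  congr 1

theorem main : ∀ (n : ℕ) (G : Type u) [Group G] [Finite G] [Group.IsSolvable G], Nat.card G ≤ n → PConj G →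
    ∀ r : ℕ, CycAway r G → ∀ H K : Subgroup G, Nat.card H = Nat.card K →
      ∃ g : G, K = H.map (MulAut.conj g).toMonoidHom := by
  intro n
  induction n with
  | zero => intro G _ _ _ h; exact absurd Nat.card_pos h.not_gt
  | succ n ih =>
  intro G _ _ _ hn hD r hcyc H K hHK
  classical
  rcases subsingleton_or_nontrivial G with hG | hG
  · exact ⟨1, Subsingleton.elim _ _⟩
  obtain ⟨N, hN⟩ := Cfsg.Lib.Core.exists_isMinNormal_univ (G := G)
  haveI := hN.1
  obtain ⟨-, q, hq, -, hNq⟩ := Cfsg.Lib.Core.minimal_solvable_elementary hN inferInstance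
  haveI := Fact.mk hq
  obtain ⟨b, hb⟩ := IsPGroup.iff_card.1 hNq
  have hb0 : b ≠ 0 := fun e => hN.2.1 (card_eq_one.1 (by rw [hb, e, pow_zero]))
  set a := (Nat.card H).factorization q with ha
  -- images in the quotient
  have hquot : Nat.card (H.map (QuotientGroup.mk' N)) = Nat.card (K.map (QuotientGroup.mk' N)) →
      ∃ g : G, K ⊔ N = (H ⊔ N).map (MulAut.conj g).toMonoidHom := by
    intro hc
    have hlt : Nat.card (G ⧸ N) ≤ n := by
      have := Cfsg.Lib.Core.card_quotient_lt hN.2.1
      omega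
    obtain ⟨gb, hg⟩ := ih (G ⧸ N) hlt (pconj_quotient hD N) r (cycAway_quotient hcyc N) _ _ hc
    obtain ⟨g, rfl⟩ := QuotientGroup.mk'_surjective N gb
    refine ⟨g, ?_⟩
    have h1 := congrArg (Subgroup.comap (QuotientGroup.mk' N)) hg
    rw [comap_map_eq, QuotientGroup.ker_mk', Subgroup.map_map,
      show (MulAut.conj (QuotientGroup.mk' N g)).toMonoidHom.comp (QuotientGroup.mk' N) =
        (QuotientGroup.mk' N).comp (MulAut.conj g).toMonoidHom from by ext; simp,
      ← Subgroup.map_map, comap_map_eq, QuotientGroup.ker_mk'] at h1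
    rw [h1, Subgroup.map_sup, ((Cfsg.Lib.Core.normal_iff_map_conj (H := N)).1 hN.1 g)]
  have hcardmap : ∀ L : Subgroup G, Nat.card (L.map (QuotientGroup.mk' N)) * Nat.card ↥(N ⊓ L) = Nat.card L := by
    intro L
    have h := ((QuotientGroup.mk' N).comp L.subtype).ker.card_mul_index
    rw [Subgroup.index_ker, MonoidHom.range_comp, range_subtype, ← MonoidHom.comap_ker, QuotientGroup.ker_mk'] at h
    rw [← h, mul_comm]
    congr 1
    rw [show N.comap L.subtype = N.subgroupOf L from rfl, ← card_map_of_injective (K := N.subgroupOf L) L.subtype_injective, subgroupOf_map_subtype]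
  by_cases hab : b ≤ a
  · have hle : ∀ L : Subgroup G, q ^ b ∣ Nat.card L → N ≤ L := by
      intro L hL
      obtain ⟨U, hU⟩ := Sylow.exists_subgroup_card_pow_prime (G := L) q hL
      obtain ⟨g, hg⟩ := hD q hq N (U.map L.subtype) hNq ((IsPGroup.of_card hU).map _)
        (by rw [card_map_of_injective L.subtype_injective, hU, hb])
      rw [((Cfsg.Lib.Core.normal_iff_map_conj (H := N)).1 hN.1 g)] at hg
      exact hg ▸ map_subtype_le U
    have hdvd : q ^ b ∣ Nat.card H := (pow_dvd_pow q hab).trans (Nat.ordProj_dvd _ q)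
    have hNH := hle H hdvd
    have hNK := hle K (hHK ▸ hdvd)
    obtain ⟨g, hg⟩ := hquot (Nat.eq_of_mul_eq_mul_right Nat.card_pos (by
      have h1 := hcardmap H
      have h2 := hcardmap K
      rw [inf_eq_left.2 hNH] at h1
      rw [inf_eq_left.2 hNK] at h2
      rw [h1, h2, hHK]))
    exact ⟨g, by rwa [sup_eq_left.2 hNH, sup_eq_left.2 hNK] at hg⟩
  push Not at hab
  have hinf : ∀ L : Subgroup G, Nat.card L = Nat.card H → Nat.card ↥(N ⊓ L) = q ^ a := by
    intro L hL
    obtain ⟨U⟩ : Nonempty (Sylow q L) := inferInstance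
    have hUc : Nat.card ↥((U : Subgroup L).map L.subtype) = q ^ a := by
      rw [card_map_of_injective L.subtype_injective, U.card_eq_multiplicity, hL]
    obtain ⟨U', hU'⟩ := Sylow.exists_subgroup_card_pow_prime (G := N) q (n := a) (hb ▸ pow_dvd_pow q hab.le)
    obtain ⟨g, hg⟩ := hD q hq (U'.map N.subtype) _ ((IsPGroup.of_card hU').map _) (U.2.map L.subtype)
      (by rw [card_map_of_injective N.subtype_injective, hU', hUc])
    have hUN : (U : Subgroup L).map L.subtype ≤ N := by
      rw [hg]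
      exact (map_mono (map_subtype_le U')).trans (((Cfsg.Lib.Core.normal_iff_map_conj (H := N)).1 hN.1 g)).le
    obtain ⟨c, hc⟩ := IsPGroup.iff_card.1 (hNq.to_le (inf_le_left : N ⊓ L ≤ N))
    have h1 : q ^ c ∣ Nat.card L := hc ▸ card_dvd_of_le inf_le_right
    rw [hL, hq.pow_dvd_iff_le_factorization Nat.card_pos.ne'] at h1
    have h2 := Nat.le_of_dvd Nat.card_pos (card_dvd_of_le (le_inf hUN (map_subtype_le (U : Subgroup L))))
    rw [hUc, hc] at h2
    have h3 := (Nat.pow_le_pow_iff_right hq.one_lt).1 h2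
    rw [hc, show c = a by omega]
  have hIH := hinf H rfl
  have hIK := hinf K hHK.symm
  by_cases ha0 : a = 0
  · rw [ha0, pow_zero] at hIH hIK
    have hcop : ∀ L : Subgroup G, Nat.card L = Nat.card H → (Nat.card L).Coprime (Nat.card N) := fun L hL => by
      rw [hL, hb]
      refine Nat.Coprime.pow_right b ((hq.coprime_iff_not_dvd.2 fun hd => ?_).symm)
      have := (hq.dvd_iff_one_le_factorization Nat.card_pos.ne').1 hd
      omega
    obtain ⟨g, hg⟩ := hquot (by
      have h1 := hcardmap H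
      have h2 := hcardmap K
      rw [hIH, mul_one] at h1
      rw [hIK, mul_one] at h2
      rw [h1, h2, hHK])
    set H' := H.map (MulAut.conj g).toMonoidHom with hH'
    have hH'c : Nat.card H' = Nat.card H := card_map_of_injective (MulEquiv.injective _)
    obtain ⟨m, -, hm⟩ := Cfsg.Lib.Coprime.exists_conj_of_coprime N H' K le_normalizer_of_normal
      (hcop H' hH'c) (Or.inr inferInstance) (by
        rw [Subgroup.map_sup, ((Cfsg.Lib.Core.normal_iff_map_conj (H := N)).1 hN.1 g)] at hg
        rw [sup_comm, ← hg]; exact le_sup_left) (by rw [hH'c, hHK])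
    exact ⟨m * g, by rw [hm, hH', map_conj_mul']⟩
  have hqr : q = r := by
    by_contra hne
    obtain ⟨P, hP⟩ := hNq.exists_le_sylow
    haveI : IsCyclic (P : Subgroup G) := hcyc q hq hne P
    haveI : IsCyclic N := isCyclic_of_injective (inclusion hP) (inclusion_injective hP)
    obtain ⟨hab', _, _, hexp, -⟩ := Cfsg.Lib.Core.minimal_solvable_elementary hN inferInstance
    obtain ⟨x, hx⟩ := IsCyclic.exists_generator (α := N)
    have h1 : Nat.card N ∣ q := by
      rw [← orderOf_eq_card_of_forall_mem_zpowers hx]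
      obtain ⟨-, q', hq', hexp', hNq'⟩ := Cfsg.Lib.Core.minimal_solvable_elementary hN inferInstance
      have hqq : q' = q := by
        haveI := Fact.mk hq'
        by_contra hne'
        exact hN.2.1 (disjoint_self.1 (IsPGroup.disjoint_of_ne _ _ hne' N N hNq' hNq))
      subst hqq
      exact orderOf_dvd_of_pow_eq_one (Subtype.ext (hexp' x x.2))
    rw [hb] at h1
    have := (Nat.pow_dvd_pow_iff_le_right hq.one_lt).1 (by rwa [pow_one] : q ^ b ∣ q ^ 1)
    omega
  subst hqr
  obtain ⟨g, hg⟩ := hD q hq (N ⊓ H) (N ⊓ K) (hNq.to_le inf_le_left) (hNq.to_le inf_le_left) (by rw [hIH, hIK])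
  set H' := H.map (MulAut.conj g).toMonoidHom with hH'
  have hH'c : Nat.card H' = Nat.card H := card_map_of_injective (MulEquiv.injective _)
  set V := N ⊓ K with hV
  have hVH : V = N ⊓ H' := by
    rw [hg, Subgroup.map_inf _ _ _ (MulEquiv.injective _), ((Cfsg.Lib.Core.normal_iff_map_conj (H := N)).1 hN.1 g)]
  set M := normalizer (V : Set G) with hM
  have hnorm : ∀ L : Subgroup G, L ≤ normalizer ((N ⊓ L : Subgroup G) : Set G) := fun L =>
    (le_inf le_normalizer_of_normal le_normalizer).trans inf_normalizer_le_normalizer_inf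
  have hH'M : H' ≤ M := by rw [hM, hVH]; exact hnorm H'
  have hKM : K ≤ M := hnorm K
  have hcomp : ∀ L : Subgroup G, Nat.card L = Nat.card H → V = N ⊓ L →
      ∃ C : Subgroup G, C ≤ L ∧ Nat.card C = Nat.card H / q ^ a ∧ L = V ⊔ C := by
    intro L hL hVL
    obtain ⟨C, hC⟩ := Cfsg.Lib.Solv.hall_exists (G := L) (m := Nat.card H / q ^ a) (k := q ^ a)
      (by rw [hL, Nat.div_mul_cancel (Nat.ordProj_dvd _ q)])
      ((Nat.coprime_ordCompl hq Nat.card_pos.ne').symm.pow_right a)
    refine ⟨C.map L.subtype, map_subtype_le C, by rw [card_map_of_injective L.subtype_injective, hC], ?_⟩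
    refine (eq_of_le_of_card_ge (sup_le (hVL ▸ inf_le_right) (map_subtype_le C)) (Nat.le_of_dvd Nat.card_pos ?_)).symm
    rw [hL, ← Nat.mul_div_cancel' (Nat.ordProj_dvd (Nat.card H) q)]
    refine Nat.Coprime.mul_dvd_of_dvd_of_dvd ((Nat.coprime_ordCompl hq Nat.card_pos.ne').pow_left a) ?_ ?_
    · rw [hVL, ← hinf L hL]
      exact card_dvd_of_le le_sup_left
    · refine dvd_trans (dvd_of_eq ?_) (card_dvd_of_le (le_sup_right : C.map L.subtype ≤ V ⊔ C.map L.subtype))
      rw [card_map_of_injective L.subtype_injective, hC]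
  obtain ⟨C₁, hC₁, hC₁c, hC₁s⟩ := hcomp H' hH'c hVH
  obtain ⟨C₂, hC₂, hC₂c, hC₂s⟩ := hcomp K hHK.symm rfl
  set e := (Nat.card M).factorization q
  set k := Nat.card M / q ^ e
  have hcopk : k.Coprime (q ^ e) := (Nat.coprime_ordCompl hq Nat.card_pos.ne').symm.pow_right e
  obtain ⟨L, hL⟩ := Cfsg.Lib.Solv.hall_exists (G := M) (m := k) (k := q ^ e)
    (by rw [Nat.div_mul_cancel (Nat.ordProj_dvd _ q)]) hcopk
  have hcopC : (Nat.card H / q ^ a).Coprime (q ^ e) := (Nat.coprime_ordCompl hq Nat.card_pos.ne').symm.pow_right e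
  have hin : ∀ C : Subgroup G, C ≤ M → Nat.card C = Nat.card H / q ^ a → ∃ (x : M) (D : Subgroup L),
      Nat.card D = Nat.card H / q ^ a ∧ C = ((D.map L.subtype).map M.subtype).map (MulAut.conj (x : G)).toMonoidHom := by
    intro C hC hCc
    obtain ⟨x, hx⟩ := Cfsg.Lib.Solv.hall_le_conj (G := M) (m := k) (k := q ^ e)
      (by rw [Nat.div_mul_cancel (Nat.ordProj_dvd _ q)]) hcopk hL (K := C.subgroupOf M)
      (by rw [Nat.card_congr (subgroupOfEquivOfLe hC).toEquiv, hCc]; exact hcopC)
    set C' := (C.subgroupOf M).map (MulAut.conj x⁻¹).toMonoidHom with hC'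
    have hC'L : C' ≤ L := by
      rintro _ ⟨c, hc, rfl⟩
      obtain ⟨l, hl, rfl⟩ := hx hc
      simpa [mul_assoc] using hl
    refine ⟨x, C'.subgroupOf L, ?_, ?_⟩
    · rw [Nat.card_congr (subgroupOfEquivOfLe hC'L).toEquiv, hC', card_map_of_injective (MulEquiv.injective _),
        Nat.card_congr (subgroupOfEquivOfLe hC).toEquiv, hCc]
    · rw [map_subgroupOf_eq_of_le hC'L, hC', Subgroup.map_map, Subgroup.map_map]
      conv_lhs => rw [← map_subgroupOf_eq_of_le hC]
      congr 1
      ext c; simp [mul_assoc]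
  obtain ⟨x₁, D₁, hD₁, hx₁⟩ := hin C₁ (hC₁.trans hH'M) hC₁c
  obtain ⟨x₂, D₂, hD₂, hx₂⟩ := hin C₂ (hC₂.trans hKM) hC₂c
  have hLcyc : CycAway q L := cycAway_subgroup (cycAway_subgroup hcyc M) L
  have hLn : Nat.card L ≤ n := by
    have hd : Nat.card L < Nat.card G := by
      refine lt_of_le_of_ne (Nat.le_of_dvd Nat.card_pos ((card_subgroup_dvd_card L).trans (card_subgroup_dvd_card M))) fun heq => ?_
      have h1 : q ∣ Nat.card G := (dvd_pow_self q hb0).trans (hb ▸ card_subgroup_dvd_card N)
      rw [← heq, hL] at h1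
      exact Nat.not_dvd_ordCompl hq Nat.card_pos.ne' h1
    omega
  have hLD : PConj L := by
    intro p hp U U' hU hU' hc
    haveI := Fact.mk hp
    by_cases hpq : p = q
    · subst hpq
      have hone : ∀ U : Subgroup L, IsPGroup p U → U = ⊥ := by
        intro U hU
        obtain ⟨c, hc⟩ := IsPGroup.iff_card.1 hU
        rcases c with _ | c
        · exact card_eq_one.1 (by rw [hc, pow_zero])
        · refine absurd ?_ (Nat.not_dvd_ordCompl hq (n := Nat.card M) Nat.card_pos.ne')
          have := (dvd_pow_self p (Nat.succ_ne_zero c)).trans (hc ▸ card_subgroup_dvd_card U)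
          rwa [hL] at this
      exact ⟨1, by rw [hone U hU, hone U' hU', Subgroup.map_bot]⟩
    · exact pconj_of_cyclic (hLcyc p hp hpq) hU hU' hc
  obtain ⟨l, hl⟩ := ih L hLn hLD q hLcyc D₁ D₂ (by rw [hD₁, hD₂])
  set z : M := x₂ * (l : M) * x₁⁻¹
  have hzC : C₂ = C₁.map (MulAut.conj (z : G)).toMonoidHom := by
    rw [hx₁, hx₂, hl]
    simp only [Subgroup.map_map]
    congr 1
    ext d; simp [z, mul_assoc]
  refine ⟨(z : G) * g, ?_⟩
  rw [← map_conj_mul', ← hH', hC₂s, hC₁s, Subgroup.map_sup, ← hzC]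
  congr 1
  exact (Cfsg.Lib.Core.map_conj_eq_of_mem_normalizer z.2).symm

/-- Let G be a finite solvable group in which, for every prime p, any two p-subgroups of the same order are conjugate, and suppose the Sylow p-subgroups of G are cyclic for all primes p with at most one exception. Then any two subgroups of G of the same order are conjugate. -/
theorem result {G : Type*} [Group G] [Finite G]
    [Group.IsSolvable G] (hD : ∀ p : ℕ, p.Prime → ∀ H K : Subgroup G, IsPGroup p H → IsPGroup p K → Nat.card H = Nat.card K →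
      ∃ g : G, K = H.map (MulAut.conj g).toMonoidHom)
    (r : ℕ) (hcyc : ∀ p : ℕ, p.Prime → p ≠ r → ∀ P : Sylow p G, IsCyclic P) :
    ∀ H K : Subgroup G, Nat.card H = Nat.card K → ∃ g : G, K = H.map (MulAut.conj g).toMonoidHom := by
  exact main _ G le_rfl hD r hcyc

end Cfsg.Agent.S4022
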