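import Cfsg.Statements.S3913
import Cfsg.Agent.Lib.Struct.AbelianConjSolvable
import Cfsg.Agent.S4022
-- import your own Cfsg.Agent.* helpers here

set_option autoImplicit false
open Cfsg

namespace Cfsg.Agent.S3913

open Subgroup Cfsg.Lib Cfsg.Lib.Struct.AbelianConjSolv
open scoped Pointwise commutatorElement

universe u

abbrev Conj (G : Type u) [Group G] : Prop := Struct.AbelianConj.Conj G

variable {G : Type u} [Group G] [Finite G]

theorem sylow_mem_of_orderOf {p : ℕ} [Fact p.Prime] (P : Sylow p G) [(P : Subgroup G).Normal] {x : G} {k : ℕ}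
    (hx : orderOf x = p ^ k) : x ∈ (P : Subgroup G) :=
  le_normal_sylow P (IsPGroup.of_card (n := k) (by rw [Nat.card_zpowers, hx])) (mem_zpowers x)

theorem map_conj_sylow_le {p : ℕ} (P : Sylow p G) (g : G) :
    (P : Subgroup G).map (MulAut.conj g).toMonoidHom = ((g • P : Sylow p G) : Subgroup G) := by
  rw [Sylow.coe_subgroup_smul, Subgroup.pointwise_smul_def]; rfl

theorem map_subtype_conj {Q : Type*} [Group Q] (M : Subgroup Q) (m : ↥M) (X : Subgroup ↥M) :
    (X.map (MulAut.conj m).toMonoidHom).map M.subtype = (X.map M.subtype).map (MulAut.conj (m : Q)).toMonoidHom := by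
  rw [Subgroup.map_map, Subgroup.map_map]
  congr 1

theorem injOn_sylow {p : ℕ} [Fact p.Prime] {H : Subgroup G} (hH : IsPGroup p H) (N : Subgroup G)
    (hN : ¬ p ∣ Nat.card N) : H ⊓ N = ⊥ :=
  card_eq_one.1 (by
    obtain ⟨k, hk⟩ := IsPGroup.iff_card.1 (hH.to_le (inf_le_left : H ⊓ N ≤ H))
    rcases k with _ | k
    · rw [hk, pow_zero]
    · exact absurd ((dvd_pow_self p (Nat.succ_ne_zero k)).trans (hk ▸ card_dvd_of_le inf_le_right)) hN)

theorem card_map_of_inf {H N : Subgroup G} [N.Normal] (h : H ⊓ N = ⊥) :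
    Nat.card ↥(H.map (QuotientGroup.mk' N)) = Nat.card H := by
  refine (Nat.card_congr (Equiv.ofBijective ((QuotientGroup.mk' N).subgroupMap H) ⟨?_, ?_⟩)).symm
  · refine (injective_iff_map_eq_one _).2 fun x hx => Subtype.ext ?_
    have h1 : (x : G) ∈ H ⊓ N := ⟨x.2, (QuotientGroup.eq_one_iff _).1 (congrArg Subtype.val hx)⟩
    exact mem_bot.1 (h ▸ h1)
  · exact (QuotientGroup.mk' N).subgroupMap_surjective H

/-- The faithful quotient on a normal elementary Sylow subgroup. -/
theorem faithful_setup [Group.IsSolvable G] (hB : Conj G) {r : ℕ} [Fact r.Prime] (R : Sylow r G)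
    [(R : Subgroup G).Normal] (hR : Cfsg.IsElementaryAbelian r (R : Subgroup G)) :
    ∃ R' : Sylow r (G ⧸ Cfsg.pPrimeCore r G),
      (R' : Subgroup _) = (R : Subgroup G).map (QuotientGroup.mk' (Cfsg.pPrimeCore r G)) ∧
      (R' : Subgroup (G ⧸ Cfsg.pPrimeCore r G)).Normal ∧
      Cfsg.IsElementaryAbelian r (R' : Subgroup (G ⧸ Cfsg.pPrimeCore r G)) ∧
      Conj (G ⧸ Cfsg.pPrimeCore r G) ∧ (R : Subgroup G) ⊓ Cfsg.pPrimeCore r G = ⊥ ∧
      ∀ x ∈ Cfsg.pPrimeCore r G, x ∈ centralizer ((R : Subgroup G) : Set G) := by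
  set π := QuotientGroup.mk' (Cfsg.pPrimeCore r G)
  refine ⟨R.mapSurjective (QuotientGroup.mk'_surjective _), Sylow.coe_mapSurjective _ _, ?_, ?_,
    Cfsg.Agent.S3912.conj_quotient_solvable hB _, injOn_sylow R.2 _ (Core.pPrimeCore_not_dvd r G), ?_⟩
  · rw [Sylow.coe_mapSurjective]
    exact (inferInstance : (R : Subgroup G).Normal).map _ (QuotientGroup.mk'_surjective _)
  · rw [Sylow.coe_mapSurjective]
    haveI := hR.1
    refine ⟨inferInstance, ?_⟩
    rintro _ ⟨x, hx, rfl⟩
    rw [← map_pow, hR.2 x hx, map_one]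
  · intro x hx
    refine mem_centralizer_iff.2 fun t ht => ?_
    exact (commute_of_normal_of_disjoint (R : Subgroup G) (Cfsg.pPrimeCore r G) inferInstance inferInstance
      (disjoint_iff.2 (injOn_sylow R.2 _ (Core.pPrimeCore_not_dvd r G))) t x ht hx).eq

/-- An elementary abelian subgroup of order `p²` meets the centralizer of a normal elementary Sylow subgroup. -/
theorem exists_centralizing [Group.IsSolvable G] (hB : Conj G) {r : ℕ} [Fact r.Prime] (R : Sylow r G)
    [(R : Subgroup G).Normal] (hR : Cfsg.IsElementaryAbelian r (R : Subgroup G)) {p : ℕ} [Fact p.Prime]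
    (hpr : p ≠ r) (E : Subgroup G) (hE : Cfsg.IsElementaryAbelian p E) (hc : Nat.card E = p ^ 2) :
    ∃ e ∈ E, e ≠ 1 ∧ e ∈ centralizer ((R : Subgroup G) : Set G) := by
  by_contra hcon
  push Not at hcon
  obtain ⟨R', hR', hn, hR'e, hB', -, hOc⟩ := faithful_setup hB R hR
  haveI := hn
  haveI := hE.1
  have hinf : E ⊓ Cfsg.pPrimeCore r G = ⊥ := eq_bot_iff.2 fun e he => mem_bot.2
    (by_contra fun h1 => hcon e he.1 h1 (hOc e he.2))
  refine no_rank_two hB' R' hR'e Core.pPrimeCore_quotient_eq_bot hpr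
    (E.map (QuotientGroup.mk' (Cfsg.pPrimeCore r G))) ⟨inferInstance, ?_⟩ (by rw [card_map_of_inf hinf, hc])
  rintro _ ⟨x, hx, rfl⟩
  rw [← map_pow, hE.2 x hx, map_one]

/-- A noncyclic group of exponent `p` has an elementary abelian subgroup of order `p²`. -/
theorem exists_rank_two_sub {p : ℕ} [hp : Fact p.Prime] {P : Subgroup G} (hP : IsPGroup p P)
    (hexp : ∀ x ∈ P, x ^ p = 1) (hnc : ¬ IsCyclic P) :
    ∃ E ≤ P, Cfsg.IsElementaryAbelian p E ∧ Nat.card E = p ^ 2 := by
  have hne : Nontrivial ↥P := by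
    rcases subsingleton_or_nontrivial ↥P with h | h
    · exact absurd isCyclic_of_subsingleton hnc
    · exact h
  haveI := hP.center_nontrivial
  obtain ⟨⟨z, hz⟩, hz1⟩ := exists_ne (1 : ↥(center ↥P))
  have hzG1 : (z : G) ≠ 1 := fun h => hz1 (Subtype.ext (Subtype.ext h))
  have hzo : orderOf (z : G) = p := orderOf_eq_prime (hexp z z.2) hzG1
  obtain ⟨x, hx, hxz⟩ : ∃ x ∈ P, x ∉ zpowers (z : G) := by
    by_contra h
    push Not at h
    exact hnc (isCyclic_of_injective (inclusion (show P ≤ zpowers (z : G) from h)) (inclusion_injective _))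
  have hx1 : x ≠ 1 := fun h => hxz (h ▸ one_mem _)
  have hxo : orderOf x = p := orderOf_eq_prime (hexp x hx) hx1
  have hcomm : Commute (z : G) x := (congrArg Subtype.val (mem_center_iff.1 hz ⟨x, hx⟩)).symm
  set E := zpowers (z : G) ⊔ zpowers x with hE
  have hEP : E ≤ P := sup_le (zpowers_le.2 z.2) (zpowers_le.2 hx)
  have hEc : ∀ a ∈ E, a ∈ centralizer (E : Set G) := by
    have h1 : E ≤ centralizer ({(z : G)} : Set G) :=
      sup_le (zpowers_le.2 (mem_centralizer_singleton_iff.2 rfl))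
        (zpowers_le.2 (mem_centralizer_singleton_iff.2 hcomm.eq.symm))
    have h2 : E ≤ centralizer ({x} : Set G) :=
      sup_le (zpowers_le.2 (mem_centralizer_singleton_iff.2 hcomm.eq))
        (zpowers_le.2 (mem_centralizer_singleton_iff.2 rfl))
    intro a ha
    refine mem_centralizer_iff.2 fun b hb => ?_
    have h3 : E ≤ centralizer ({a} : Set G) := sup_le
      (zpowers_le.2 (mem_centralizer_singleton_iff.2 (mem_centralizer_singleton_iff.1 (h1 ha)).symm))
      (zpowers_le.2 (mem_centralizer_singleton_iff.2 (mem_centralizer_singleton_iff.1 (h2 ha)).symm))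
    exact mem_centralizer_singleton_iff.1 (h3 hb)
  refine ⟨E, hEP, ⟨⟨⟨fun a b => Subtype.ext ((mem_centralizer_iff.1 (hEc b b.2)) a a.2)⟩⟩,
    fun a ha => hexp a (hEP ha)⟩, ?_⟩
  have hcop : zpowers (z : G) ⊓ zpowers x = ⊥ := by
    have hd := card_dvd_of_le (inf_le_right : zpowers (z : G) ⊓ zpowers x ≤ zpowers x)
    rw [Nat.card_zpowers x, hxo] at hd
    rcases (Nat.dvd_prime hp.out).1 hd with hkc | hkc
    · exact card_eq_one.1 hkc
    · refine absurd ?_ hxz
      have h1 : zpowers (z : G) ⊓ zpowers x = zpowers x :=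
        eq_of_le_of_card_ge inf_le_right (by rw [hkc, Nat.card_zpowers, hxo])
      exact (h1.ge (mem_zpowers x)).1
  have hn : zpowers x ≤ normalizer (zpowers (z : G) : Set G) := by
    refine le_trans ?_ (centralizer_le_normalizer _)
    exact zpowers_le.2 (mem_centralizer_iff.2 fun a ha => by
      obtain ⟨k, rfl⟩ := ha
      exact (hcomm.zpow_left k).eq)
  have h5 : Nat.card ↥E = Nat.card ↥(zpowers (z : G)) * Nat.card ↥(zpowers x) := by
    rw [← Nat.card_prod]
    refine (Nat.card_congr (Equiv.ofBijective (fun q => (⟨(q.1 : G) * q.2,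
      mul_mem (mem_sup_left q.1.2) (mem_sup_right q.2.2)⟩ : ↥E)) ⟨?_, ?_⟩)).symm
    · exact fun q q' h => Subgroup.mul_injective_of_disjoint (disjoint_iff.2 hcop) (congrArg Subtype.val h)
    · rintro ⟨a, ha⟩
      rw [hE, ← SetLike.mem_coe, coe_mul_of_right_le_normalizer_left _ _ hn] at ha
      obtain ⟨b, hb, c, hc, rfl⟩ := ha
      exact ⟨(⟨b, hb⟩, ⟨c, hc⟩), rfl⟩
  rw [h5, Nat.card_zpowers, Nat.card_zpowers, hzo, hxo, pow_two]

/-- Sylow subgroups of exponent `p` that are not cyclic are normal. -/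
theorem exp_normal_aux : ∀ (n : ℕ) (G : Type u) [Group G] [Finite G] [Group.IsSolvable G], Nat.card G ≤ n →
    Conj G → ∀ (p : ℕ) [Fact p.Prime] (P : Sylow p G), ¬ IsCyclic ↥(P : Subgroup G) →
      (∀ x ∈ (P : Subgroup G), x ^ p = 1) → (P : Subgroup G).Normal := by
  intro n
  induction n with
  | zero => intro G _ _ _ h; exact absurd Nat.card_pos h.not_gt
  | succ n ih =>
  intro G _ _ _ hn hB p hp P hnc hexp
  classical
  have hPp := P.2
  rcases subsingleton_or_nontrivial G with hG | hG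
  · exact ⟨fun x hx g => by rw [Subsingleton.elim (g * x * g⁻¹) x]; exact hx⟩
  obtain ⟨M, hM⟩ := Cfsg.Lib.Core.exists_isMinNormal_univ (G := G)
  haveI := hM.1
  obtain ⟨hMc, r, hr, hMexp, hMr⟩ := Cfsg.Lib.Core.minimal_solvable_elementary hM inferInstance
  haveI := Fact.mk hr
  obtain ⟨m, hm, hm1⟩ := M.bot_or_exists_ne_one.resolve_left hM.2.1
  have hmo : orderOf m = r := orderOf_eq_prime (hMexp m hm) hm1
  by_cases hrp : r = p
  · subst hrp
    have hle : (P : Subgroup G) ≤ M := fun x hx => by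
      by_cases hx1 : x = 1
      · rw [hx1]; exact one_mem M
      · exact Struct.AbelianConj.mem_of_orderOf hB M hm (hmo.trans (orderOf_eq_prime (hexp x hx) hx1).symm)
    rw [← P.is_maximal' hMr hle]
    exact hM.1
  -- `P M` is normal
  have hinf : (P : Subgroup G) ⊓ M = ⊥ :=
    disjoint_iff.1 (IsPGroup.disjoint_of_ne _ _ (Ne.symm hrp) _ M hPp hMr)
  have hcard := card_map_of_inf hinf
  let P' : Sylow p (G ⧸ M) := P.mapSurjective (QuotientGroup.mk'_surjective M)
  have hP' : (P' : Subgroup (G ⧸ M)) = (P : Subgroup G).map (QuotientGroup.mk' M) := Sylow.coe_mapSurjective _ _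
  haveI hPMn : ((P : Subgroup G) ⊔ M).Normal := by
    have h1 : (P' : Subgroup (G ⧸ M)).Normal := by
      refine ih (G ⧸ M) (by have := Cfsg.Lib.Core.card_quotient_lt hM.2.1; omega)
        (Cfsg.Agent.S3912.conj_quotient_solvable hB M) p P' ?_ ?_
      · intro hc
        refine hnc ?_
        let f := (QuotientGroup.mk' M).subgroupMap (P : Subgroup G)
        have hf : Function.Injective f := (injective_iff_map_eq_one _).2 fun x hx => Subtype.ext
          (mem_bot.1 (hinf ▸ (⟨x.2, (QuotientGroup.eq_one_iff _).1 (congrArg Subtype.val hx)⟩ :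
            (x : G) ∈ (P : Subgroup G) ⊓ M)))
        rw [hP'] at hc
        exact isCyclic_of_injective f hf
      · rw [hP']
        rintro _ ⟨x, hx, rfl⟩
        rw [← map_pow, hexp x hx, map_one]
    rw [show (P : Subgroup G) ⊔ M = (P' : Subgroup (G ⧸ M)).comap (QuotientGroup.mk' M) by
      rw [hP', comap_map_eq, QuotientGroup.ker_mk']]
    exact h1.comap _
  -- `P` centralizes `M`
  obtain ⟨E, hEP, hE, hEc⟩ := exists_rank_two_sub hPp hexp hnc
  haveI := hE.1
  have hex : ∃ e ∈ E, e ≠ 1 ∧ e ∈ centralizer (M : Set G) := by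
    by_cases hR : ∃ R : Sylow r G, ∀ x ∈ (R : Subgroup G), x ^ r = 1
    · obtain ⟨R, hR⟩ := hR
      have hle : (R : Subgroup G) ≤ M := fun x hx => by
        by_cases hx1 : x = 1
        · rw [hx1]; exact one_mem M
        · exact Struct.AbelianConj.mem_of_orderOf hB M hm (hmo.trans (orderOf_eq_prime (hR x hx) hx1).symm)
      have hMR : M = (R : Subgroup G) := (R.is_maximal' hMr hle)
      haveI : (R : Subgroup G).Normal := hMR ▸ hM.1
      rw [hMR]
      exact exists_centralizing hB R ⟨hMR ▸ hMc, hR⟩ (Ne.symm hrp) E hE hEc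
    -- the minimal normal subgroup has prime order
    push Not at hR
    obtain ⟨R, hMR⟩ := hMr.exists_le_sylow
    have hMcyc : IsCyclic ↥M := by
      have h8 := Cfsg.Agent.S3908.result hB
      have hcycR : IsCyclic ↥(R : Subgroup G) → IsCyclic ↥M := fun h =>
        haveI := h
        isCyclic_of_injective (inclusion hMR) (inclusion_injective hMR)
      by_cases hr2 : r = 2
      · subst hr2
        rcases h8.1 R with h | h | ⟨k, ⟨e⟩⟩
        · exact hcycR h
        · exfalso
          obtain ⟨x, hx, hxr⟩ := hR R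
          exact hxr (h.2 x hx)
        · haveI : NeZero (2 ^ k) := ⟨pow_ne_zero _ two_ne_zero⟩
          refine ⟨⟨m, hm⟩, fun y => ?_⟩
          by_cases hy1 : y = 1
          · exact ⟨0, by simp [hy1]⟩
          have hyo : orderOf (y : G) = 2 := orderOf_eq_prime (hMexp y y.2) fun h => hy1 (Subtype.ext h)
          have h1 := Cfsg.Lib.Invol.quaternion_eq_of_orderOf_two (x := e ⟨m, hMR hm⟩)
            (by rw [e.orderOf_eq, Subgroup.orderOf_mk, hmo])
          have h2 := Cfsg.Lib.Invol.quaternion_eq_of_orderOf_two (x := e ⟨y, hMR y.2⟩)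
            (by rw [e.orderOf_eq, Subgroup.orderOf_mk, hyo])
          have h3 : m = (y : G) := congrArg Subtype.val (e.injective (h1.trans h2.symm))
          exact ⟨1, Subtype.ext (by simpa using h3)⟩
      · rcases h8.2 r hr2 R with h | h
        · exact hcycR h
        · exfalso
          obtain ⟨x, hx, hxr⟩ := hR R
          exact hxr (h x hx)
    have hMcard : Nat.card ↥M = r := by
      obtain ⟨g, hg⟩ := hMcyc.exists_generator
      rw [← orderOf_eq_card_of_forall_mem_zpowers hg]
      refine orderOf_eq_prime (Subtype.ext (hMexp g g.2)) fun h => ?_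
      subst h
      obtain ⟨k, hk⟩ := hg ⟨m, hm⟩
      exact hm1 (by simpa using (congrArg Subtype.val hk).symm)
    by_contra hcon
    push Not at hcon
    refine hM.2.1 (le_bot_iff.1 ((Coprime.le_iSup_centralizer_of_not_isCyclic (not_isCyclic_elementary hE hEc)
      (le_normalizer_of_normal (H := M)) ?_).trans (iSup_le fun e => le_of_eq ?_)))
    · rw [hEc, hMcard]
      exact ((Nat.coprime_primes hp.out hr).2 (Ne.symm hrp)).pow_left 2
    · rcases (Nat.dvd_prime hr).1 (hMcard ▸ card_dvd_of_le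
        (inf_le_left : M ⊓ centralizer ({(e : G)} : Set G) ≤ M)) with h | h
      · exact card_eq_one.1 h
      · exfalso
        refine hcon e.1 e.2.1 e.2.2 (mem_centralizer_iff.2 fun t ht => mem_centralizer_singleton_iff.1 ?_)
        exact ((eq_of_le_of_card_ge inf_le_left (by rw [h, hMcard])).ge ht).2
  obtain ⟨e, heE, he1, hec⟩ := hex
  have hPC : (P : Subgroup G) ≤ centralizer (M : Set G) := fun x hx => by
    by_cases hx1 : x = 1
    · rw [hx1]; exact one_mem _
    · exact Struct.AbelianConj.mem_of_orderOf hB _ hec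
        ((orderOf_eq_prime (hE.2 e heE) he1).trans (orderOf_eq_prime (hexp x hx) hx1).symm)
  have hWn : (P : Subgroup G) ⊔ M ≤ normalizer ((P : Subgroup G) : Set G) := by
    refine sup_le le_normalizer (le_trans (fun a ha => ?_) (centralizer_le_normalizer _))
    exact mem_centralizer_iff.2 fun x hx => ((mem_centralizer_iff.1 (hPC hx)) a ha).symm
  refine ⟨fun x hx g => ?_⟩
  let PW : Sylow p ↥((P : Subgroup G) ⊔ M) := P.subtype le_sup_left
  haveI : (PW : Subgroup ↥((P : Subgroup G) ⊔ M)).Normal := by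
    rw [Sylow.coe_subtype]
    exact normal_subgroupOf_iff_le_normalizer le_sup_left |>.2 hWn
  have hmem : g * x * g⁻¹ ∈ (P : Subgroup G) ⊔ M := hPMn.conj_mem x (mem_sup_left hx) g
  obtain ⟨k, hk⟩ := IsPGroup.iff_orderOf.1 hPp ⟨x, hx⟩
  rw [Subgroup.orderOf_mk] at hk
  have h2 := sylow_mem_of_orderOf PW (x := ⟨g * x * g⁻¹, hmem⟩) (k := k)
    (by rw [Subgroup.orderOf_mk, Cfsg.Lib.Invol.orderOf_conj_eq, hk])
  rwa [Sylow.coe_subtype] at h2

theorem exp_elementary [Group.IsSolvable G] (hB : Conj G) {p : ℕ} [Fact p.Prime] (P : Sylow p G)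
    (hnc : ¬ IsCyclic ↥(P : Subgroup G)) (hexp : ∀ x ∈ (P : Subgroup G), x ^ p = 1) :
    (P : Subgroup G).Normal ∧ Cfsg.IsElementaryAbelian p (P : Subgroup G) := by
  haveI hn := exp_normal_aux _ G le_rfl hB p P hnc hexp
  refine ⟨hn, ?_, hexp⟩
  have hne : Nontrivial ↥(P : Subgroup G) := by
    rcases subsingleton_or_nontrivial ↥(P : Subgroup G) with h | h
    · exact absurd isCyclic_of_subsingleton hnc
    · exact h
  haveI := P.2.center_nontrivial
  obtain ⟨⟨z, hz⟩, hz1⟩ := exists_ne (1 : ↥(center ↥(P : Subgroup G)))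
  set Z := (center ↥(P : Subgroup G)).map (P : Subgroup G).subtype with hZ
  haveI : Z.Normal := by
    haveI : (center ↥(P : Subgroup G)).Characteristic := inferInstance
    exact inferInstance
  refine ⟨⟨fun a b => ?_⟩⟩
  have ha : (a : G) ∈ Z := by
    by_cases ha1 : (a : G) = 1
    · rw [ha1]; exact one_mem _
    refine Struct.AbelianConj.mem_of_orderOf hB Z (m := (z : G)) ⟨z, hz, rfl⟩ ?_
    rw [orderOf_eq_prime (hexp _ z.2) fun h => hz1 (Subtype.ext (Subtype.ext h)),
      orderOf_eq_prime (hexp _ a.2) ha1]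
  obtain ⟨a', ha', e⟩ := ha
  have : a' = a := Subtype.ext e
  subst this
  exact (mem_center_iff.1 ha' b).symm

/-- The primes with an elementary abelian non-cyclic Sylow subgroup. -/
def Good (G : Type u) [Group G] (p : ℕ) : Prop :=
  p.Prime ∧ ∀ P : Sylow p G, ¬ IsCyclic ↥(P : Subgroup G) ∧ ∀ x ∈ (P : Subgroup G), x ^ p = 1

theorem good_of_exists {p : ℕ} [Fact p.Prime] (P : Sylow p G) (hnc : ¬ IsCyclic ↥(P : Subgroup G))
    (hexp : ∀ x ∈ (P : Subgroup G), x ^ p = 1) : Good G p := by
  refine ⟨Fact.out, fun Q => ?_⟩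
  have e := P.equiv Q
  refine ⟨fun h => hnc (e.isCyclic.2 h), fun x hx => ?_⟩
  have h1 : (e.symm ⟨x, hx⟩) ^ p = 1 := Subtype.ext (hexp _ (SetLike.coe_mem _))
  rw [← map_pow, MulEquiv.map_eq_one_iff] at h1
  exact congrArg Subtype.val h1

/-- The product of the noncyclic elementary abelian Sylow subgroups. -/
def core (G : Type u) [Group G] : Subgroup G := closure {x | Good G (orderOf x)}

instance core_normal : (core G).Normal := by
  refine ⟨fun x hx g => ?_⟩
  suffices h : core G ≤ (core G).comap (MulAut.conj g).toMonoidHom from h hx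
  refine (closure_le _).2 fun y hy => subset_closure ?_
  show Good G (orderOf (g * y * g⁻¹))
  rwa [Cfsg.Lib.Invol.orderOf_conj_eq]

theorem core_comm [Group.IsSolvable G] (hB : Conj G) : IsMulCommutative ↥(core G) := by
  refine isMulCommutative_closure ?_
  intro x hx y hy
  obtain ⟨P⟩ : Nonempty (Sylow (orderOf x) G) := inferInstance
  obtain ⟨Q⟩ : Nonempty (Sylow (orderOf y) G) := inferInstance
  haveI := Fact.mk hx.1
  haveI := Fact.mk hy.1
  obtain ⟨hPn, hPe⟩ := exp_elementary hB P (hx.2 P).1 (hx.2 P).2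
  obtain ⟨hQn, -⟩ := exp_elementary hB Q (hy.2 Q).1 (hy.2 Q).2
  haveI := hPn
  haveI := hQn
  have hxP := sylow_mem_of_orderOf P (x := x) (k := 1) (pow_one _).symm
  by_cases hxy : orderOf x = orderOf y
  · haveI := hPe.1
    exact setLike_mul_comm hxP (sylow_mem_of_orderOf P (x := y) (k := 1) (by rw [pow_one, hxy]))
  · exact (commute_of_normal_of_disjoint _ _ hPn hQn (IsPGroup.disjoint_of_ne _ _ hxy _ _ P.2 Q.2) x y hxP
      (sylow_mem_of_orderOf Q (x := y) (k := 1) (pow_one _).symm)).eq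

theorem good_of_dvd_orderOf [Group.IsSolvable G] (hB : Conj G) {x : G} (hx : x ∈ core G) :
    ∀ p : ℕ, p.Prime → p ∣ orderOf x → Good G p := by
  haveI := core_comm hB
  unfold core at hx
  induction hx using closure_induction with
  | mem y hy => intro p hp hd; rwa [(Nat.prime_dvd_prime_iff_eq hp hy.1).1 hd]
  | one => intro p hp hd; rw [orderOf_one] at hd; exact absurd hd hp.not_dvd_one
  | mul a b ha hb iha ihb =>
    intro p hp hd
    have hab : Commute a b := setLike_mul_comm (s := core G) ha hb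
    rcases (Nat.Prime.dvd_mul hp).1 (hd.trans (hab.orderOf_mul_dvd_lcm.trans (Nat.lcm_dvd_mul _ _))) with h | h
    · exact iha p hp h
    · exact ihb p hp h
  | inv a _ iha => intro p hp hd; rw [orderOf_inv] at hd; exact iha p hp hd

theorem sylow_le_core [Group.IsSolvable G] {p : ℕ} [Fact p.Prime] (h : Good G p) (P : Sylow p G) :
    (P : Subgroup G) ≤ core G := by
  intro x hx
  by_cases hx1 : x = 1
  · rw [hx1]; exact one_mem _
  refine subset_closure ?_
  show Good G (orderOf x)
  rwa [orderOf_eq_prime ((h.2 P).2 x hx) hx1]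

theorem core_coprime [Group.IsSolvable G] (hB : Conj G) : (Nat.card ↥(core G)).Coprime (core G).index := by
  refine Nat.coprime_of_dvd fun p hp h1 h2 => ?_
  haveI := Fact.mk hp
  obtain ⟨x, hx⟩ := exists_prime_orderOf_dvd_card' (G := ↥(core G)) p h1
  have hg : Good G p := good_of_dvd_orderOf hB x.2 p hp (by rw [Subgroup.orderOf_coe, hx])
  obtain ⟨P⟩ : Nonempty (Sylow p G) := inferInstance
  exact P.not_dvd_index (h2.trans (index_dvd_of_le (sylow_le_core hg P)))

theorem not_good_two_of_q8 [Group.IsSolvable G] {S : Sylow 2 G} (h : ∃ x ∈ (S : Subgroup G), x ^ 2 ≠ 1) :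
    ¬ Good G 2 := fun hg => by
  obtain ⟨x, hx, hx2⟩ := h
  exact hx2 ((hg.2 S).2 x hx)

/-- The shape of a noncyclic Sylow 2-subgroup of the quotient by the core. -/
theorem sylow_two_q8 [Group.IsSolvable G] (hB : Conj G) (S : Sylow 2 G) (hnc : ¬ IsCyclic ↥(S : Subgroup G))
    (hng : ¬ Good G 2) :
    Nat.card (S : Subgroup G) = 8 ∧ ¬ IsMulCommutative ↥(S : Subgroup G) ∧
      (∀ x ∈ (S : Subgroup G), x ^ 4 = 1) ∧
      (∀ x ∈ (S : Subgroup G), ∀ y ∈ (S : Subgroup G), orderOf x = 2 → orderOf y = 2 → x = y) := by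
  haveI : Fact (Nat.Prime 2) := ⟨Nat.prime_two⟩
  rcases (Cfsg.Agent.S3908.result hB).1 S with h | h | ⟨k, ⟨e⟩⟩
  · exact absurd h hnc
  · exact absurd (good_of_exists S hnc h.2) hng
  have hk := Cfsg.Agent.S3912.quaternion_le_one hB S e
  rcases (by omega : k = 0 ∨ k = 1) with rfl | rfl
  · haveI : IsCyclic (QuaternionGroup (2 ^ 0)) := QuaternionGroup.quaternionGroup_one_isCyclic
    exact absurd (isCyclic_of_injective e.toMonoidHom e.injective) hnc
  haveI : NeZero (2 ^ 1) := ⟨by norm_num⟩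
  refine ⟨?_, fun hc => ?_, fun x hx => ?_, fun x hx y hy ox oy => ?_⟩
  · rw [Nat.card_congr e.toEquiv, Nat.card_eq_fintype_card, QuaternionGroup.card]
    norm_num
  · have h1 := hc.is_comm.comm (e.symm (QuaternionGroup.a 1)) (e.symm (QuaternionGroup.xa 0))
    rw [← map_mul, ← map_mul] at h1
    have h2 := e.symm.injective h1
    rw [QuaternionGroup.a_mul_xa, QuaternionGroup.xa_mul_a] at h2
    simp only [QuaternionGroup.xa.injEq] at h2
    revert h2
    decide
  · have h4 : (e ⟨x, hx⟩) ^ 4 = 1 := by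
      refine orderOf_dvd_iff_pow_eq_one.1 ((Monoid.order_dvd_exponent _).trans ?_)
      rw [QuaternionGroup.exponent]
      decide
    rw [← map_pow] at h4
    exact congrArg Subtype.val ((MulEquiv.map_eq_one_iff e).1 h4)
  · have h1' := Cfsg.Lib.Invol.quaternion_eq_of_orderOf_two (x := e ⟨x, hx⟩)
      (by rw [e.orderOf_eq, Subgroup.orderOf_mk, ox])
    have h2' := Cfsg.Lib.Invol.quaternion_eq_of_orderOf_two (x := e ⟨y, hy⟩)
      (by rw [e.orderOf_eq, Subgroup.orderOf_mk, oy])
    exact congrArg Subtype.val (e.injective (h1'.trans h2'.symm))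

/-- A quaternion Sylow subgroup centralizes or acts irreducibly. -/
theorem centralizes_or_irreducible [Group.IsSolvable G] (hB : Conj G) {r : ℕ} [Fact r.Prime] (hr : r ≠ 2)
    (R : Sylow r G) [(R : Subgroup G).Normal] (hR : Cfsg.IsElementaryAbelian r (R : Subgroup G))
    (S : Sylow 2 G) (hS8 : Nat.card (S : Subgroup G) = 8) (hna : ¬ IsMulCommutative ↥(S : Subgroup G))
    (h4 : ∀ x ∈ (S : Subgroup G), x ^ 4 = 1)
    (huniq : ∀ x ∈ (S : Subgroup G), ∀ y ∈ (S : Subgroup G), orderOf x = 2 → orderOf y = 2 → x = y)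
    {U : Subgroup G} (hU : U ≤ R) (hU1 : U ≠ ⊥) (hSU : (S : Subgroup G) ≤ normalizer (U : Set G)) :
    (∀ (x : G) (k : ℕ), orderOf x = 2 ^ k → x ∈ centralizer ((R : Subgroup G) : Set G)) ∨ U = R := by
  haveI : Fact (Nat.Prime 2) := ⟨Nat.prime_two⟩
  obtain ⟨R', hR', hn, hR'e, hB', hRO, hOc⟩ := faithful_setup hB R hR
  haveI := hn
  set O := Cfsg.pPrimeCore r G with hO
  set π := QuotientGroup.mk' O with hπ
  have ho4 : ∀ x ∈ (S : Subgroup G), x ≠ 1 → orderOf x = 2 ∨ orderOf x = 4 := by
    intro x hx hx1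
    obtain ⟨i, hi, hie⟩ := (Nat.dvd_prime_pow Nat.prime_two (m := 2)).1 (orderOf_dvd_of_pow_eq_one (h4 x hx))
    rcases (by omega : i = 0 ∨ i = 1 ∨ i = 2) with rfl | rfl | rfl
    · exact absurd (orderOf_eq_one_iff.1 hie) hx1
    · exact Or.inl hie
    · exact Or.inr hie
  by_cases hf : ∃ x ∈ (S : Subgroup G), x ∈ O ∧ orderOf x = 4
  · left
    obtain ⟨a, ha, haO, hao⟩ := hf
    have ha2 : orderOf (a * a) = 2 := by
      rw [← pow_two, orderOf_pow' _ two_ne_zero, hao]; rfl
    have hSO : (S : Subgroup G) ≤ O := fun x hx => by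
      by_cases hx1 : x = 1
      · rw [hx1]; exact one_mem _
      rcases ho4 x hx hx1 with h | h
      · rw [huniq x hx _ (mul_mem ha ha) h ha2]
        exact mul_mem haO haO
      · exact Struct.AbelianConj.mem_of_orderOf hB O haO (hao.trans h.symm)
    intro x k hx
    refine hOc x ?_
    obtain ⟨Q, hQ⟩ := (IsPGroup.of_card (p := 2) (n := k) (G := ↥(zpowers x))
      (by rw [Nat.card_zpowers, hx])).exists_le_sylow
    obtain ⟨g, rfl⟩ := MulAction.exists_smul_eq G S Q
    have h1 := hQ (mem_zpowers x)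
    rw [← map_conj_sylow_le] at h1
    obtain ⟨s, hs, rfl⟩ := h1
    exact (inferInstance : O.Normal).conj_mem s (hSO hs) g
  right
  push Not at hf
  have hsub : ∀ x ∈ (S : Subgroup G) ⊓ O, x = 1 ∨ orderOf x = 2 := by
    intro x hx
    by_cases hx1 : x = 1
    · exact Or.inl hx1
    · exact Or.inr ((ho4 x hx.1 hx1).resolve_right fun h => hf x hx.1 hx.2 h)
  by_cases hSO : (S : Subgroup G) ⊓ O = ⊥
  · have h8 : Nat.card ↥((S : Subgroup G).map π) = 8 := by rw [card_map_of_inf hSO, hS8]
    have hna' : ¬ IsMulCommutative ↥((S : Subgroup G).map π) := by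
      intro hc
      refine hna ⟨⟨fun a b => Subtype.ext ?_⟩⟩
      have h1 := setLike_mul_comm (s := (S : Subgroup G).map π)
        (mem_map_of_mem π a.2) (mem_map_of_mem π b.2)
      rw [← map_mul, ← map_mul] at h1
      have h2 : ((a : G) * b)⁻¹ * (b * a) ∈ (S : Subgroup G) ⊓ O :=
        ⟨(S : Subgroup G).mul_mem ((S : Subgroup G).inv_mem ((S : Subgroup G).mul_mem a.2 b.2))
          ((S : Subgroup G).mul_mem b.2 a.2), QuotientGroup.eq.1 h1⟩
      rw [hSO, mem_bot, inv_mul_eq_one] at h2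
      exact h2
    have h1 : U.map π = (R' : Subgroup _) := by
      refine no_invariant hB' R' hR'e Core.pPrimeCore_quotient_eq_bot hr _ h8 hna' _
        (hR' ▸ map_mono hU) ((map_mono hSU).trans (le_normalizer_map _)) fun h => hU1 ?_
      have := card_map_of_inf (H := U) (N := O) (le_bot_iff.1 (hRO ▸ inf_le_inf_right O hU))
      rw [h, card_bot] at this
      exact card_eq_one.1 this.symm
    rw [hR'] at h1
    refine eq_of_le_of_card_ge hU ?_
    rw [← card_map_of_inf hRO, ← h1]
    exact Nat.le_of_dvd Nat.card_pos (card_map_dvd U π)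
  exfalso
  obtain ⟨z, hz, hz1⟩ := ((S : Subgroup G) ⊓ O).bot_or_exists_ne_one.resolve_left hSO
  have hzo : orderOf z = 2 := (hsub z hz).resolve_left hz1
  have hS2 : (S : Subgroup G) ⊓ O = zpowers z := by
    refine le_antisymm (fun x hx => ?_) (zpowers_le.2 hz)
    rcases hsub x hx with rfl | h
    · exact one_mem _
    · rw [huniq x hx.1 z hz.1 h hzo]; exact mem_zpowers z
  have hsq : ∀ x ∈ (S : Subgroup G), x ^ 2 ∈ (S : Subgroup G) ⊓ O := by
    intro x hx
    by_cases h2 : x ^ 2 = 1
    · rw [h2]; exact one_mem _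
    have h2o : orderOf (x ^ 2) = 2 := orderOf_eq_prime (by rw [← pow_mul]; exact h4 x hx) h2
    rw [huniq _ (pow_mem hx 2) z hz.1 h2o hzo]
    exact hz
  set E := (S : Subgroup G).map π with hEdef
  have hE2 : ∀ a ∈ E, a ^ 2 = 1 := by
    rintro _ ⟨x, hx, rfl⟩
    rw [← map_pow]
    exact (QuotientGroup.eq_one_iff _).2 (hsq x hx).2
  have hEc : IsMulCommutative ↥E := ⟨⟨fun a b => by
    have ha : a * a = 1 := Subtype.ext (by rw [← pow_two]; exact hE2 _ a.2)
    have hb : b * b = 1 := Subtype.ext (by rw [← pow_two]; exact hE2 _ b.2)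
    have hab : a * b * (a * b) = 1 := Subtype.ext (by rw [← pow_two]; exact hE2 _ (a * b).2)
    calc a * b = a⁻¹ * b⁻¹ := by rw [inv_eq_of_mul_eq_one_right ha, inv_eq_of_mul_eq_one_right hb]
      _ = (b * a)⁻¹ := (mul_inv_rev b a).symm
      _ = b * a := inv_eq_of_mul_eq_one_right (by
          calc b * a * (b * a) = b * (a * b * (a * b)) * b⁻¹ := by group
            _ = 1 := by rw [hab, mul_one, mul_inv_cancel])⟩⟩
  refine no_rank_two hB' R' hR'e Core.pPrimeCore_quotient_eq_bot (Ne.symm hr) E ⟨hEc, hE2⟩ ?_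
  have h1 := ((π.comp (S : Subgroup G).subtype).ker).card_mul_index
  rw [index_ker, MonoidHom.range_comp, range_subtype, ← hEdef, hS8,
    ← card_map_of_injective (K := (π.comp (S : Subgroup G).subtype).ker) (S : Subgroup G).subtype_injective,
    show ((π.comp (S : Subgroup G).subtype).ker).map (S : Subgroup G).subtype = (S : Subgroup G) ⊓ O by
      rw [← MonoidHom.comap_ker, QuotientGroup.ker_mk']; exact subgroupOf_map_subtype O (S : Subgroup G) |>.trans (inf_comm _ _),
    hS2, Nat.card_zpowers, hzo] at h1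
  exact Nat.eq_of_mul_eq_mul_left two_pos (h1.trans (by norm_num))

/-- Solvable groups with conjugate abelian subgroups of equal order. -/
theorem main [Group.IsSolvable G] (hB : Conj G) (H K : Subgroup G) (hHK : Nat.card H = Nat.card K) :
    ∃ g : G, K = H.map (MulAut.conj g).toMonoidHom := by
  haveI : Fact (Nat.Prime 2) := ⟨Nat.prime_two⟩
  set F := core G with hF
  haveI hFc : IsMulCommutative ↥F := core_comm hB
  have hcopF := core_coprime hB
  -- the intersections with `F`
  have hparts : ∀ L : Subgroup G, Nat.card ↥(F ⊓ L) * F.relIndex L = Nat.card L ∧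
      (Nat.card ↥F).Coprime (F.relIndex L) ∧ Nat.card ↥(F ⊓ L) = Nat.gcd (Nat.card L) (Nat.card F) := by
    intro L
    have h1 : Nat.card ↥(F ⊓ L) * F.relIndex L = Nat.card L := by
      rw [← inf_relIndex_right F L]
      exact Core.card_mul_relIndex inf_le_right
    have h2 : (Nat.card ↥F).Coprime (F.relIndex L) := hcopF.coprime_dvd_right (relIndex_dvd_index_of_normal F L)
    refine ⟨h1, h2, ?_⟩
    rw [← h1, Nat.Coprime.gcd_mul_right_cancel _ h2.symm]
    exact (Nat.gcd_eq_left (card_dvd_of_le inf_le_left)).symm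
  obtain ⟨g, hg⟩ := hB (F ⊓ H) (F ⊓ K) (comm_of_le inf_le_left hFc) (comm_of_le inf_le_left hFc)
    (by rw [(hparts H).2.2, (hparts K).2.2, hHK])
  suffices key : ∀ H : Subgroup G, Nat.card H = Nat.card K → F ⊓ H = F ⊓ K →
      ∃ g : G, K = H.map (MulAut.conj g).toMonoidHom by
    obtain ⟨g', hg'⟩ := key (H.map (MulAut.conj g).toMonoidHom)
      (by rw [card_map_of_injective (MulEquiv.injective _), hHK])
      (by rw [hg, Subgroup.map_inf _ _ _ (MulEquiv.injective _),
        (Cfsg.Lib.Core.normal_iff_map_conj (H := F)).1 inferInstance g])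
    exact ⟨g' * g, by rw [hg', Cfsg.Agent.S4022.map_conj_mul']⟩
  clear hHK hg g H
  intro H hHK hV
  set V := F ⊓ K with hVdef
  set M := normalizer (V : Set G) with hM
  have hnorm : ∀ L : Subgroup G, L ≤ normalizer ((F ⊓ L : Subgroup G) : Set G) := fun L =>
    (le_inf le_normalizer_of_normal le_normalizer).trans inf_normalizer_le_normalizer_inf
  have hHM : H ≤ M := by rw [hM, ← hV]; exact hnorm H
  have hKM : K ≤ M := hnorm K
  have hVc : IsMulCommutative ↥V := comm_of_le inf_le_left hFc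
  have hFM : F ≤ M := le_trans (fun a ha => mem_centralizer_iff.2 fun b hb => setLike_mul_comm (s := F) hb.1 ha)
    (centralizer_le_normalizer _)
  set π := QuotientGroup.mk' F with hπ
  set Mb := M.map π with hMb
  -- Sylow subgroups of the quotient
  have hcycQ : ∀ (p : ℕ) [Fact p.Prime], p ≠ 2 → ∀ Q : Sylow p (G ⧸ F), IsCyclic ↥(Q : Subgroup (G ⧸ F)) := by
    intro p _ hp2 Q
    obtain ⟨P, rfl⟩ := Sylow.mapSurjective_surjective (QuotientGroup.mk'_surjective F) p Q
    rw [Sylow.coe_mapSurjective]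
    rcases (Cfsg.Agent.S3908.result hB).2 p hp2 P with h | h
    · exact isCyclic_of_surjective ((QuotientGroup.mk' F).subgroupMap (P : Subgroup G))
        ((QuotientGroup.mk' F).subgroupMap_surjective _)
    · by_cases hc : IsCyclic ↥(P : Subgroup G)
      · exact isCyclic_of_surjective ((QuotientGroup.mk' F).subgroupMap (P : Subgroup G))
          ((QuotientGroup.mk' F).subgroupMap_surjective _)
      · have h1 : (P : Subgroup G).map π = ⊥ := by
          rw [Subgroup.map_eq_bot_iff, hπ, QuotientGroup.ker_mk']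
          exact sylow_le_core (good_of_exists P hc h) P
        rw [h1]
        infer_instance
  have hcyc : Cfsg.Agent.S4022.CycAway 2 ↥Mb := fun p hp hp2 =>
    Cfsg.Agent.S4022.cycAway_subgroup (r := 2) (G := G ⧸ F) (fun q hq hq2 =>
      haveI := Fact.mk hq
      hcycQ q hq2) Mb p hp hp2
  have hD : Cfsg.Agent.S4022.PConj ↥Mb := by
    intro p hp X Y hX hY hXY
    haveI := Fact.mk hp
    by_cases hp2 : p = 2
    swap
    · exact Cfsg.Agent.S4022.pconj_of_cyclic (hcyc p hp hp2) hX hY hXY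
    subst hp2
    by_cases hcyc2 : ∀ T : Sylow 2 ↥Mb, IsCyclic ↥(T : Subgroup ↥Mb)
    · exact Cfsg.Agent.S4022.pconj_of_cyclic hcyc2 hX hY hXY
    push Not at hcyc2
    obtain ⟨T₀, hT₀⟩ := hcyc2
    -- a quaternion Sylow subgroup inside `M`
    let f : ↥M →* ↥Mb := π.subgroupMap M
    have hf : Function.Surjective f := π.subgroupMap_surjective M
    obtain ⟨S₀, hS₀⟩ := Sylow.mapSurjective_surjective hf 2 T₀
    obtain ⟨S, hS⟩ := (S₀.2.map M.subtype).exists_le_sylow
    have hSnc : ¬ IsCyclic ↥(S : Subgroup G) := by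
      intro h
      refine hT₀ ?_
      haveI : IsCyclic ↥((S₀ : Subgroup ↥M).map M.subtype) :=
        isCyclic_of_injective (inclusion hS) (inclusion_injective hS)
      haveI : IsCyclic ↥(S₀ : Subgroup ↥M) := isCyclic_of_injective
        ((S₀ : Subgroup ↥M).equivMapOfInjective M.subtype M.subtype_injective).toMonoidHom (MulEquiv.injective _)
      rw [← hS₀, Sylow.coe_mapSurjective]
      exact isCyclic_of_surjective (f.subgroupMap (S₀ : Subgroup ↥M)) (f.subgroupMap_surjective _)
    have hng : ¬ Good G 2 := by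
      intro hg
      refine hT₀ ?_
      rw [← hS₀, Sylow.coe_mapSurjective, show (S₀ : Subgroup ↥M).map f = ⊥ from ?_]
      · infer_instance
      rw [Subgroup.map_eq_bot_iff]
      intro x hx
      refine MonoidHom.mem_ker.2 (Subtype.ext ((QuotientGroup.eq_one_iff _).2 ?_))
      exact sylow_le_core hg S (hS ⟨x, hx, rfl⟩)
    obtain ⟨hS8, hSna, hS4, huniq⟩ := sylow_two_q8 hB S hSnc hng
    -- all of `S` lies in `M`
    have hS0 : (S₀ : Subgroup ↥M).map M.subtype = (S : Subgroup G) := by
      refine eq_of_le_of_card_ge hS ?_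
      rw [hS8]
      by_contra hlt
      push Not at hlt
      obtain ⟨k, hk⟩ := IsPGroup.iff_card.1 (S₀.2.map M.subtype)
      rw [hk] at hlt
      have hk2 : k ≤ 2 := by
        by_contra h
        have : 2 ^ 3 ≤ 2 ^ k := Nat.pow_le_pow_right (by norm_num) (by omega)
        omega
      refine hT₀ ?_
      haveI : IsCyclic ↥((S₀ : Subgroup ↥M).map M.subtype) := by
        set T := (S₀ : Subgroup ↥M).map M.subtype
        by_cases h4 : ∃ x ∈ T, orderOf x = 4
        · obtain ⟨x, hx, hx4⟩ := h4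
          refine isCyclic_of_orderOf_eq_card (⟨x, hx⟩ : ↥T) ?_
          rw [Subgroup.orderOf_mk, hx4, hk]
          have h1 : (4 : ℕ) ∣ 2 ^ k := by rw [← hk, ← hx4, ← Subgroup.orderOf_mk x hx]; exact orderOf_dvd_natCard _
          have h2 : 4 ≤ 2 ^ k := Nat.le_of_dvd (by positivity) h1
          have h3 : 2 ^ k ≤ 2 ^ 2 := Nat.pow_le_pow_right (by norm_num) hk2
          omega
        · push Not at h4
          by_cases hT1 : T = ⊥
          · rw [hT1]; infer_instance
          obtain ⟨z, hz, hz1⟩ := T.bot_or_exists_ne_one.resolve_left hT1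
          have ho : ∀ x ∈ T, x ≠ 1 → orderOf x = 2 := fun x hx hx1 => by
            obtain ⟨i, hi, hie⟩ := (Nat.dvd_prime_pow Nat.prime_two (m := 2)).1
              (orderOf_dvd_of_pow_eq_one (hS4 x (hS hx)))
            rcases (by omega : i = 0 ∨ i = 1 ∨ i = 2) with rfl | rfl | rfl
            · exact absurd (orderOf_eq_one_iff.1 hie) hx1
            · exact hie
            · exact absurd hie (h4 x hx)
          refine ⟨⟨z, hz⟩, fun y => ?_⟩
          by_cases hy : y = 1
          · exact ⟨0, by simp [hy]⟩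
          have h3 : (y : G) = z := huniq _ (hS y.2) _ (hS hz) (ho _ y.2 fun h => hy (Subtype.ext h)) (ho z hz hz1)
          exact ⟨1, Subtype.ext (by simp [h3])⟩
      haveI : IsCyclic ↥(S₀ : Subgroup ↥M) := isCyclic_of_injective
        ((S₀ : Subgroup ↥M).equivMapOfInjective M.subtype M.subtype_injective).toMonoidHom (MulEquiv.injective _)
      rw [← hS₀, Sylow.coe_mapSurjective]
      exact isCyclic_of_surjective (f.subgroupMap (S₀ : Subgroup ↥M)) (f.subgroupMap_surjective _)
    have hSM : (S : Subgroup G) ≤ M := hS0 ▸ map_subtype_le _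
    have hSF : (S : Subgroup G) ⊓ F = ⊥ := injOn_sylow S.2 F fun hd => hng (by
      obtain ⟨x, hx⟩ := exists_prime_orderOf_dvd_card' (G := ↥F) 2 hd
      exact good_of_dvd_orderOf hB x.2 2 Nat.prime_two (by rw [Subgroup.orderOf_coe, hx]))
    -- conjugate both subgroups into the image of `S`
    have hinto : ∀ X : Subgroup ↥Mb, IsPGroup 2 X →
        ∃ (m : ↥Mb) (A : Subgroup G), A ≤ S ∧ (X.map (MulAut.conj m).toMonoidHom).map Mb.subtype = A.map π := by
      intro X hX
      obtain ⟨T, hT⟩ := hX.exists_le_sylow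
      obtain ⟨m, rfl⟩ := MulAction.exists_smul_eq ↥Mb T₀ T
      refine ⟨m⁻¹, ((X.map (MulAut.conj m⁻¹).toMonoidHom).map Mb.subtype).comap π ⊓ S, inf_le_right, ?_⟩
      have hle : (X.map (MulAut.conj m⁻¹).toMonoidHom).map Mb.subtype ≤ (S : Subgroup G).map π := by
        rintro _ ⟨_, ⟨x, hx, rfl⟩, rfl⟩
        have h1 := hT hx
        rw [← map_conj_sylow_le, ← hS₀, Sylow.coe_mapSurjective] at h1
        obtain ⟨t, ⟨s, hs, rfl⟩, rfl⟩ := h1
        refine ⟨(s : G), hS ⟨s, hs, rfl⟩, ?_⟩
        simp [f, mul_assoc]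
        rfl
      refine le_antisymm (fun y hy => ?_) (map_le_iff_le_comap.2 inf_le_left)
      obtain ⟨s, hs, rfl⟩ := hle hy
      exact ⟨s, ⟨hy, hs⟩, rfl⟩
    obtain ⟨m₁, A, hA, hXA⟩ := hinto X hX
    obtain ⟨m₂, A', hA', hYA⟩ := hinto Y hY
    have hinf : ∀ B : Subgroup G, B ≤ S → B ⊓ F = ⊥ := fun B hB =>
      le_bot_iff.1 (hSF ▸ inf_le_inf_right F hB)
    have hAc : Nat.card A = Nat.card A' := by
      rw [← card_map_of_inf (hinf A hA), ← card_map_of_inf (hinf A' hA'), ← hπ, ← hXA, ← hYA,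
        card_map_of_injective Mb.subtype_injective, card_map_of_injective Mb.subtype_injective,
        card_map_of_injective (MulEquiv.injective _), card_map_of_injective (MulEquiv.injective _), hXY]
    obtain ⟨g, hgM, hg⟩ : ∃ g ∈ M, A' = A.map (MulAut.conj g).toMonoidHom := by
      by_cases hA8 : 8 ≤ Nat.card A
      · refine ⟨1, one_mem _, ?_⟩
        have e1 : A = (S : Subgroup G) := eq_of_le_of_card_ge hA (by rw [hS8]; exact hA8)
        have e2 : A' = (S : Subgroup G) := eq_of_le_of_card_ge hA' (by rw [hS8, ← hAc]; exact hA8)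
        rw [e1, e2, map_one]
        exact (Subgroup.map_id _).symm
      -- abelian products with the centralized part of `V`
      have habel : ∀ B : Subgroup G, B ≤ S → Nat.card B < 8 → IsMulCommutative ↥B := by
        intro B hB hB8
        obtain ⟨k, hk⟩ := IsPGroup.iff_card.1 (S.2.to_le hB)
        have hk2 : k ≤ 2 := by
          by_contra h
          have : 2 ^ 3 ≤ 2 ^ k := Nat.pow_le_pow_right (by norm_num) (by omega)
          omega
        exact Cfsg.Lib.PGroup.Huppert.isMulCommutative_of_card_le_sq (p := 2)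
          (IsPGroup.of_card hk) (hk ▸ Nat.pow_le_pow_right (by norm_num) hk2)
      set W := V ⊓ centralizer {x : G | ∃ k, orderOf x = 2 ^ k} with hW
      have hWV : W ≤ V := inf_le_left
      have hWodd : (Nat.card W).Coprime 2 := by
        refine Core.coprime_card_of_le (hWV.trans inf_le_left) (Core.coprime_iff_not_dvd'.2 fun hd => hng ?_)
        obtain ⟨x, hx⟩ := exists_prime_orderOf_dvd_card' (G := ↥F) 2 hd
        exact good_of_dvd_orderOf hB x.2 2 Nat.prime_two (by rw [Subgroup.orderOf_coe, hx])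
      have hprod : ∀ B : Subgroup G, B ≤ S → Nat.card B < 8 → IsMulCommutative ↥(W ⊔ B) ∧
          Nat.card ↥(W ⊔ B) = Nat.card W * Nat.card B ∧ (∀ z ∈ W ⊔ B, Odd (orderOf z) → z ∈ W) ∧
          ∀ z ∈ W ⊔ B, (∃ k, orderOf z = 2 ^ k) → z ∈ B := by
        intro B hB hB8
        haveI := habel B hB hB8
        haveI := comm_of_le hWV hVc
        have hcom : ∀ w ∈ W, ∀ b ∈ B, Commute w b := fun w hw b hb => by
          obtain ⟨k, hk⟩ := IsPGroup.iff_orderOf.1 S.2 ⟨b, hB hb⟩
          rw [Subgroup.orderOf_mk] at hk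
          exact ((mem_centralizer_iff.1 hw.2) b ⟨k, hk⟩).symm
        have hn : B ≤ normalizer (W : Set G) := le_trans
          (fun b hb => mem_centralizer_iff.2 fun w hw => (hcom w hw b hb).eq) (centralizer_le_normalizer _)
        have hdec : ∀ z ∈ W ⊔ B, ∃ w ∈ W, ∃ b ∈ B, w * b = z := fun z hz => by
          rw [← SetLike.mem_coe, coe_mul_of_right_le_normalizer_left W B hn] at hz
          exact hz
        have hord : ∀ w ∈ W, ∀ b ∈ B, (orderOf w).Coprime (orderOf b) := fun w hw b hb => by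
          obtain ⟨k, hk⟩ := IsPGroup.iff_orderOf.1 S.2 ⟨b, hB hb⟩
          rw [Subgroup.orderOf_mk] at hk
          rw [hk]
          refine (hWodd.coprime_dvd_left ?_).pow_right k
          rw [← Subgroup.orderOf_mk w hw]
          exact orderOf_dvd_natCard _
        have hdisj : W ⊓ B = ⊥ := eq_bot_iff.2 fun x hx => mem_bot.2
          (orderOf_eq_one_iff.1 (Nat.eq_one_of_dvd_coprimes (hord x hx.1 x hx.2) dvd_rfl dvd_rfl))
        refine ⟨⟨⟨?_⟩⟩, ?_, ?_, ?_⟩
        · rintro ⟨a, ha⟩ ⟨b, hb⟩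
          obtain ⟨w, hw, c, hc, rfl⟩ := hdec a ha
          obtain ⟨w', hw', c', hc', rfl⟩ := hdec b hb
          refine Subtype.ext ?_
          show w * c * (w' * c') = w' * c' * (w * c)
          have e1 : Commute w w' := setLike_mul_comm hw hw'
          have e2 : Commute c c' := setLike_mul_comm hc hc'
          exact ((e1.mul_right (hcom w hw c' hc')).mul_left
            ((hcom w' hw' c hc).symm.mul_right e2)).eq
        · rw [← Nat.card_prod]
          refine (Nat.card_congr (Equiv.ofBijective (fun q => (⟨(q.1 : G) * q.2,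
            mul_mem (mem_sup_left q.1.2) (mem_sup_right q.2.2)⟩ : ↥(W ⊔ B))) ⟨?_, ?_⟩)).symm
          · exact fun q q' h => Subgroup.mul_injective_of_disjoint (disjoint_iff.2 hdisj) (congrArg Subtype.val h)
          · rintro ⟨a, ha⟩
            obtain ⟨w, hw, c, hc, rfl⟩ := hdec a ha
            exact ⟨(⟨w, hw⟩, ⟨c, hc⟩), rfl⟩
        · intro z hz hodd
          obtain ⟨w, hw, b, hb, rfl⟩ := hdec z hz
          obtain ⟨k, hk⟩ := IsPGroup.iff_orderOf.1 S.2 ⟨b, hB hb⟩
          rw [Subgroup.orderOf_mk] at hk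
          rw [(hcom w hw b hb).orderOf_mul_eq_mul_orderOf_of_coprime (hord w hw b hb), hk] at hodd
          rcases k with _ | k
          · rw [show b = 1 from orderOf_eq_one_iff.1 (by rw [hk, pow_zero]), mul_one]; exact hw
          · exfalso
            rw [pow_succ', ← mul_assoc] at hodd
            exact (Nat.not_odd_iff_even.2 ((even_two.mul_left _).mul_right _)) hodd
        · intro z hz hz2
          obtain ⟨j, hj⟩ := hz2
          obtain ⟨w, hw, b, hb, rfl⟩ := hdec z hz
          rw [(hcom w hw b hb).orderOf_mul_eq_mul_orderOf_of_coprime (hord w hw b hb)] at hj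
          have hw1 : orderOf w = 1 := by
            refine Nat.eq_one_of_dvd_coprimes (hWodd.pow_right j) ?_ (Dvd.intro _ hj)
            rw [← Subgroup.orderOf_mk w hw]
            exact orderOf_dvd_natCard _
          rw [orderOf_eq_one_iff.1 hw1, one_mul]
          exact hb
      obtain ⟨hc1, hn1, hodd1, htwo1⟩ := hprod A hA (not_le.1 hA8)
      obtain ⟨hc2, hn2, hodd2, htwo2⟩ := hprod A' hA' (hAc ▸ not_le.1 hA8)
      obtain ⟨g, hg⟩ := hB (W ⊔ A) (W ⊔ A') hc1 hc2 (by rw [hn1, hn2, hAc])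
      have hWg : ∀ w ∈ W, g * w * g⁻¹ ∈ W := fun w hw => hodd2 _ (hg.ge ⟨w, mem_sup_left hw, rfl⟩) (by
        rw [Cfsg.Lib.Invol.orderOf_conj_eq, ← Nat.coprime_two_right]
        refine hWodd.coprime_dvd_left ?_
        rw [← Subgroup.orderOf_mk w hw]
        exact orderOf_dvd_natCard _)
      refine ⟨g, mem_normalizer_iff_map_conj_eq.2 ?_, (eq_of_le_of_card_ge ?_ ?_).symm⟩
      · refine eq_of_le_of_card_ge ?_ (card_map_of_injective (MulEquiv.injective _)).ge
        rw [map_le_iff_le_comap]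
        intro v hv
        refine Cfsg.Lib.Struct.MaxCent.mem_of_primary_parts fun s z hs hz hzk => ?_
        have hzV : z ∈ V := zpowers_le.2 hv hz
        by_cases hz1 : z = 1
        · rw [hz1]; exact one_mem _
        obtain ⟨i, hi⟩ := hzk
        have hzo : s ∣ orderOf z := by
          rw [hi]
          exact dvd_pow_self s fun h => hz1 (orderOf_eq_one_iff.1 (by rw [hi, h, pow_zero]))
        have hgood := good_of_dvd_orderOf hB (hzV.1 : z ∈ F) s hs.out hzo
        obtain ⟨P⟩ : Nonempty (Sylow s G) := inferInstance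
        obtain ⟨hPn, hPe⟩ := exp_elementary hB P (hgood.2 P).1 (hgood.2 P).2
        haveI := hPn
        have hzP := sylow_mem_of_orderOf P hi
        have hs2 : s ≠ 2 := fun h => hng (h ▸ hgood)
        have hSn : (S : Subgroup G) ≤ normalizer ((V ⊓ P : Subgroup G) : Set G) :=
          (le_inf hSM le_normalizer_of_normal).trans inf_normalizer_le_normalizer_inf
        rcases centralizes_or_irreducible hB hs2 P hPe S hS8 hSna hS4 huniq (U := V ⊓ P) inf_le_right
          (fun h => hz1 (mem_bot.1 (h ▸ ⟨hzV, hzP⟩))) hSn with h | h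
        · exact hWV (hWg z ⟨hzV, mem_centralizer_iff.2 fun x ⟨k, hk⟩ =>
            (mem_centralizer_iff.1 (h x k hk) z hzP).symm⟩)
        · exact (h ▸ inf_le_left : (P : Subgroup G) ≤ V) (hPn.conj_mem z hzP g)
      · rintro _ ⟨a, ha, rfl⟩
        refine htwo2 _ (hg.ge ⟨a, mem_sup_right ha, rfl⟩) ?_
        obtain ⟨k, hk⟩ := IsPGroup.iff_orderOf.1 S.2 ⟨a, hA ha⟩
        rw [Subgroup.orderOf_mk] at hk
        exact ⟨k, by rw [MulEquiv.coe_toMonoidHom, MulEquiv.orderOf_eq, hk]⟩
      · rw [card_map_of_injective (MulEquiv.injective _), hAc]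
    refine ⟨m₂⁻¹ * ⟨π g, mem_map_of_mem π hgM⟩ * m₁, ?_⟩
    have hY' : Y.map (MulAut.conj m₂).toMonoidHom =
        (X.map (MulAut.conj m₁).toMonoidHom).map (MulAut.conj ⟨π g, mem_map_of_mem π hgM⟩).toMonoidHom := by
      apply map_injective Mb.subtype_injective
      rw [hYA, hg, Subgroup.map_map,
        show π.comp (MulAut.conj g).toMonoidHom = (MulAut.conj (π g)).toMonoidHom.comp π from by ext; simp,
        ← Subgroup.map_map, ← hXA]
      exact (map_subtype_conj Mb ⟨π g, mem_map_of_mem π hgM⟩ _).symm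
    rw [← Cfsg.Agent.S4022.map_conj_mul', ← Cfsg.Agent.S4022.map_conj_mul', ← hY',
      Cfsg.Agent.S4022.map_conj_mul', inv_mul_cancel, map_one]
    exact (Subgroup.map_id Y).symm
  -- the images
  have hrel : F.relIndex H = F.relIndex K := by
    have h1 := (hparts H).1
    have h2 := (hparts K).1
    rw [hV] at h1
    exact Nat.eq_of_mul_eq_mul_left Nat.card_pos (h1.trans (hHK.trans h2.symm))
  have himg : ∀ L : Subgroup G, Nat.card ↥(L.map π) = F.relIndex L := by
    intro L
    rw [relIndex, show L.map π = (π.comp L.subtype).range by rw [MonoidHom.range_comp, range_subtype],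
      ← index_ker, ← MonoidHom.comap_ker, hπ, QuotientGroup.ker_mk']
    rfl
  obtain ⟨mb, hmb⟩ := Cfsg.Agent.S4022.result hD 2 hcyc ((H.map π).subgroupOf Mb) ((K.map π).subgroupOf Mb) (by
    rw [Nat.card_congr (subgroupOfEquivOfLe (map_mono hHM)).toEquiv,
      Nat.card_congr (subgroupOfEquivOfLe (map_mono hKM)).toEquiv, himg, himg, hrel])
  obtain ⟨m, hm, hme⟩ := mb.2
  have hsup : K ⊔ F = (H ⊔ F).map (MulAut.conj m).toMonoidHom := by
    have h0 : K.map π = (H.map π).map (MulAut.conj (π m)).toMonoidHom := by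
      have h1 := congrArg (Subgroup.map Mb.subtype) hmb
      rw [subgroupOf_map_subtype, inf_eq_left.2 (map_mono hKM), Subgroup.map_map,
        show Mb.subtype.comp (MulAut.conj mb).toMonoidHom = (MulAut.conj (π m)).toMonoidHom.comp Mb.subtype from by
          ext x; simp [hme],
        ← Subgroup.map_map, subgroupOf_map_subtype, inf_eq_left.2 (map_mono hHM)] at h1
      exact h1
    rw [Subgroup.map_map,
      show (MulAut.conj (π m)).toMonoidHom.comp π = π.comp (MulAut.conj m).toMonoidHom from by ext; simp,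
      ← Subgroup.map_map] at h0
    have h2 := congrArg (Subgroup.comap π) h0
    rw [comap_map_eq, comap_map_eq, hπ, QuotientGroup.ker_mk'] at h2
    rw [h2, Subgroup.map_sup, ((Cfsg.Lib.Core.normal_iff_map_conj (H := F)).1 inferInstance m)]
  set H' := H.map (MulAut.conj m).toMonoidHom with hH'
  have hV' : F ⊓ H' = V := by
    rw [hH', ← ((Cfsg.Lib.Core.normal_iff_map_conj (H := F)).1 inferInstance m),
      ← Subgroup.map_inf _ _ _ (MulEquiv.injective _), hV]
    exact Cfsg.Lib.Core.map_conj_eq_of_mem_normalizer hm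
  have hH'c : Nat.card H' = Nat.card H := card_map_of_injective (MulEquiv.injective _)
  have hcompl : ∀ L : Subgroup G, ∃ C : Subgroup G, C ≤ L ∧ Nat.card C = F.relIndex L ∧ L = (F ⊓ L) ⊔ C := by
    intro L
    obtain ⟨C, hC⟩ := exists_left_complement'_of_coprime (N := F.subgroupOf L) (by
      rw [← card_map_of_injective (K := F.subgroupOf L) L.subtype_injective, subgroupOf_map_subtype]
      exact (hparts L).2.1.coprime_dvd_left (card_dvd_of_le inf_le_left))
    refine ⟨C.map L.subtype, map_subtype_le C, ?_, ?_⟩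
    · rw [card_map_of_injective L.subtype_injective, relIndex]
      exact hC.index_eq_card.symm
    · rw [← subgroupOf_map_subtype F L, ← Subgroup.map_sup, sup_comm, hC.sup_eq_top,
        ← MonoidHom.range_eq_map, range_subtype]
  obtain ⟨C₁, hC₁, hC₁c, hC₁s⟩ := hcompl H'
  obtain ⟨C₂, hC₂, hC₂c, hC₂s⟩ := hcompl K
  have hrel' : F.relIndex H' = F.relIndex K := by
    have h1 := (hparts H').1
    have h2 := (hparts K).1
    rw [hV'] at h1
    exact Nat.eq_of_mul_eq_mul_left Nat.card_pos (h1.trans (hH'c.trans (hHK.trans h2.symm)))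
  obtain ⟨f, hf, hfC⟩ := Cfsg.Lib.Coprime.exists_conj_of_coprime F C₁ C₂ le_normalizer_of_normal
    (by rw [hC₁c]; exact (hparts H').2.1.symm) (Or.inr inferInstance) (by
      refine (hC₂.trans (le_sup_left : K ≤ K ⊔ F)).trans ?_
      rw [hsup, Subgroup.map_sup, ← hH', ((Cfsg.Lib.Core.normal_iff_map_conj (H := F)).1 inferInstance m), hC₁s]
      exact sup_le (sup_le (inf_le_left.trans le_sup_left) le_sup_right) le_sup_left)
    (by rw [hC₂c, hC₁c, hrel'])
  refine ⟨f * m, ?_⟩
  rw [← Cfsg.Agent.S4022.map_conj_mul', ← hH', hC₁s, hV', Subgroup.map_sup, ← hfC,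
    Cfsg.Lib.Core.map_conj_eq_of_mem_normalizer (show f ∈ normalizer (V : Set G) from hFM hf)]
  exact hC₂s


/-- If G is a finite solvable group in which any two abelian subgroups of the same order are conjugate, then any two subgroups of G of the same order are conjugate. -/
theorem result {G : Type*} [Group G] [Finite G] (hB : ∀ A B : Subgroup G, IsMulCommutative ↥A → IsMulCommutative ↥B → Nat.card ↥A = Nat.card ↥B → ∃ g : G, B = A.map (MulAut.conj g).toMonoidHom) (hsol : Group.IsSolvable G) (A B : Subgroup G)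
    (h : Nat.card ↥A = Nat.card ↥B) : ∃ g : G, B = A.map (MulAut.conj g).toMonoidHom := by
  haveI := hsol
  exact main hB A B h

end Cfsg.Agent.S3913
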