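import Cfsg.Statements.S3915
import Cfsg.Agent.Lib.Core.Layer
import Cfsg.Agent.S0205

set_option autoImplicit false
open Cfsg

namespace Cfsg.Agent.S3915

open Subgroup Cfsg.Lib.Core

universe u

theorem exists_noncentral_two_element {K : Type*} [Group K] [Finite K] (hK : Cfsg.IsQuasisimple K) :
    ∃ x : K, x ∉ Subgroup.center K ∧ ∃ a, orderOf x = 2 ^ a := by
  by_contra h
  push Not at h
  obtain ⟨P⟩ := (inferInstance : Nonempty (Sylow 2 K))
  have hP : (P : Subgroup K) ≤ Subgroup.center K := by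
    intro x hx
    by_contra hxc
    obtain ⟨a, ha⟩ := (P.2.to_le (Subgroup.zpowers_le.2 hx)).exists_card_eq
    exact h x hxc a (by rw [← Nat.card_zpowers]; exact ha)
  have hodd : Odd (Nat.card (K ⧸ Subgroup.center K)) := by
    rw [← Subgroup.index_eq_card]
    rcases Nat.even_or_odd (Subgroup.center K).index with he | ho
    · exact absurd (he.two_dvd.trans (Subgroup.index_dvd_of_le hP)) P.not_dvd_index
    · exact ho
  haveI := Cfsg.Agent.S0205.result hodd
  haveI : Group.IsSolvable (Subgroup.center K) :=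
    Group.isSolvable_of_comm fun u v => Subtype.ext (Subgroup.mem_center_iff.1 v.2 u)
  exact quasisimple_not_solvable hK
    (Group.isSolvable_of_ker_le_range (Subgroup.center K).subtype
      (QuotientGroup.mk' (Subgroup.center K)) (by simp))

theorem commute_of_commutator_eq_bot {G : Type*} [Group G] {A B : Subgroup G} (h : ⁅A, B⁆ = ⊥)
    {a b : G} (ha : a ∈ A) (hb : b ∈ B) : Commute a b :=
  (Subgroup.mem_centralizer_iff.1 (Subgroup.commutator_eq_bot_iff_le_centralizer.1 h ha) b hb).symm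

theorem no_two_components {G : Type*} [Group G] [Finite G]
    (hP : ∀ (p : ℕ), p.Prime → ∀ A B : Subgroup G, IsCyclic ↥A → IsCyclic ↥B → IsPGroup p ↥A →
      Nat.card ↥A = Nat.card ↥B → ∃ g : G, B = A.map (MulAut.conj g).toMonoidHom)
    {K₁ K₂ : Subgroup G} (h₁ : Cfsg.IsComponent K₁) (h₂ : Cfsg.IsComponent K₂) : K₁ = K₂ := by
  by_contra hne
  obtain ⟨x₁, hx₁, a₁, ha₁⟩ := exists_noncentral_two_element h₁.2
  obtain ⟨x₂, hx₂, a₂, ha₂⟩ := exists_noncentral_two_element h₂.2
  suffices ∀ (A B : Subgroup G), Cfsg.IsComponent A → Cfsg.IsComponent B → A ≠ B →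
      ∀ (x : A) (y : B), x ∉ Subgroup.center A → y ∉ Subgroup.center B → ∀ a b, b ≤ a →
      orderOf x = 2 ^ a → orderOf y = 2 ^ b → False by
    rcases le_total a₂ a₁ with hle | hle
    · exact this K₁ K₂ h₁ h₂ hne x₁ x₂ hx₁ hx₂ a₁ a₂ hle ha₁ ha₂
    · exact this K₂ K₁ h₂ h₁ (Ne.symm hne) x₂ x₁ hx₂ hx₁ a₂ a₁ hle ha₂ ha₁
  intro A B hA hB hAB x y hx hy a b hba hxa hyb
  have hcAB := component_commute hA hB hAB
  have hxy : Commute (x : G) (y : G) := commute_of_commutator_eq_bot hcAB x.2 y.2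
  have hdvd : orderOf ((x : G) * y) ∣ 2 ^ a := by
    refine hxy.orderOf_mul_dvd_lcm.trans (Nat.lcm_dvd ?_ ?_)
    · rw [Subgroup.orderOf_coe, hxa]
    · rw [Subgroup.orderOf_coe, hyb]
      exact Nat.pow_dvd_pow 2 hba
  obtain ⟨c, hca, hc⟩ := (Nat.dvd_prime_pow Nat.prime_two).1 hdvd
  set z : G := (x : G) ^ (2 ^ (a - c)) with hz
  have hzc : orderOf z = 2 ^ c := by
    rw [hz, orderOf_pow_of_dvd (pow_ne_zero _ two_ne_zero), Subgroup.orderOf_coe, hxa,
      Nat.pow_div (Nat.sub_le a c) Nat.two_pos, Nat.sub_sub_self hca]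
    rw [Subgroup.orderOf_coe, hxa]
    exact Nat.pow_dvd_pow 2 (Nat.sub_le a c)
  obtain ⟨g, hg⟩ := hP 2 Nat.prime_two (Subgroup.zpowers z) (Subgroup.zpowers ((x : G) * y))
    inferInstance inferInstance (IsPGroup.of_card (n := c) (by rw [Nat.card_zpowers, hzc]))
    (by rw [Nat.card_zpowers, Nat.card_zpowers, hzc, hc])
  have hzA : Subgroup.zpowers z ≤ A := Subgroup.zpowers_le.2 (A.pow_mem x.2 _)
  have hmem : (x : G) * y ∈ A.map (MulAut.conj g).toMonoidHom :=
    Subgroup.map_mono hzA (hg ▸ Subgroup.mem_zpowers _)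
  by_cases heq : A.map (MulAut.conj g).toMonoidHom = A
  · rw [heq] at hmem
    have hyA : (y : G) ∈ A := by simpa using A.mul_mem (A.inv_mem x.2) hmem
    refine hy (Subgroup.mem_center_iff.2 fun k => Subtype.ext ?_)
    exact (commute_of_commutator_eq_bot hcAB hyA k.2).eq.symm
  · have hcc := component_commute (IsComponent.map_conj hA g) hA heq
    refine hx (Subgroup.mem_center_iff.2 fun k => Subtype.ext ?_)
    have h1 : Commute ((x : G) * y) (k : G) := commute_of_commutator_eq_bot hcc hmem k.2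
    have h2 : Commute (y : G) (k : G) := (commute_of_commutator_eq_bot hcAB k.2 y.2).symm
    have h3 : Commute (x : G) (k : G) := by
      simpa using h1.mul_left h2.inv_left
    exact h3.eq.symm

/-- Let G be a finite group in which, for every prime p, any two cyclic p-subgroups of the same order are conjugate. If the layer E(G), the subgroup generated by the components of G, is non-trivial, then E(G)/Z(E(G)) is a non-abelian simple group. -/
theorem result {G : Type*} [Group G] [Finite G] (hP : ∀ (p : ℕ), p.Prime → ∀ A B : Subgroup G, IsCyclic ↥A → IsCyclic ↥B → IsPGroup p ↥A → Nat.card ↥A = Nat.card ↥B → ∃ g : G, B = A.map (MulAut.conj g).toMonoidHom) (hE : Cfsg.layer G ≠ ⊥) :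
    IsSimpleGroup (↥(Cfsg.layer G) ⧸ Subgroup.center ↥(Cfsg.layer G)) ∧ ¬ IsMulCommutative (↥(Cfsg.layer G) ⧸ Subgroup.center ↥(Cfsg.layer G)) := by
  obtain ⟨K, hK⟩ : ∃ K : Subgroup G, Cfsg.IsComponent K := by
    by_contra h
    push Not at h
    exact hE (layer_eq_bot_iff.2 h)
  have e : Cfsg.layer G = K :=
    le_antisymm (sSup_le fun L hL => (no_two_components hP hL hK).le) (le_layer hK)
  rw [e]
  refine ⟨hK.2.2, fun hc => quasisimple_center_ne_top hK.2 (top_le_iff.1 ?_)⟩
  rw [← quasisimple_commutator hK.2]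
  exact Subgroup.Normal.quotient_commutative_iff_commutator_le.1 hc

end Cfsg.Agent.S3915
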