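import Cfsg.Statements.S3917
import Mathlib.Tactic.Group
import Mathlib.GroupTheory.Sylow
import Cfsg.Agent.Lib.Coprime.Generation
import Mathlib.GroupTheory.Schreier
-- import your own Cfsg.Agent.* helpers here

set_option autoImplicit false
open Cfsg

namespace Cfsg.Agent.S3917

open Subgroup

/-- Say that a group has self-centralizing non-cyclic subgroups when every non-cyclic subgroup H satisfies C_G(H) ≤ H. A finite abelian group with self-centralizing non-cyclic subgroups is cyclic or elementary abelian of order p² for a prime p. -/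
theorem result {G : Type*} [CommGroup G] [Finite G] (hX : (∀ H : Subgroup G, ¬ IsCyclic ↥H → Subgroup.centralizer (H : Set G) ≤ H)) :
    IsCyclic G ∨ ∃ p : ℕ, p.Prime ∧ Nat.card G = p ^ 2 ∧ Monoid.exponent G = p := by
  refine or_iff_not_imp_left.mpr fun hnc => ?_
  obtain ⟨q, a, b, hq, ha1, haq, hbq, hba⟩ := Cfsg.Lib.Coprime.exists_two_independent_of_not_isCyclic (A := G) hnc
  have := Fact.mk hq
  set H := closure ({a, b} : Set G)
  have haH : a ∈ H := subset_closure (Set.mem_insert a _)
  have hbH : b ∈ H := subset_closure (Set.mem_insert_of_mem a rfl)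
  have hle : H ≤ (powMonoidHom q : G →* G).ker := by
    rw [closure_le]
    rintro x (rfl | rfl)
    · exact haq
    · exact hbq
  have hex : ∀ x : H, x ^ q = 1 := fun x => Subtype.ext (hle x.2)
  have hrank : Group.rank H ≤ 2 := by
    classical
    have h := Subgroup.rank_closure_finset_le_card ({a, b} : Finset G)
    have e : closure ((({a, b} : Finset G)) : Set G) = H := by rw [Finset.coe_pair]
    have h2 : Group.rank H ≤ ({a, b} : Finset G).card := by
      rw [← Group.rank_congr (MulEquiv.subgroupCongr e)]; exact h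
    exact h2.trans Finset.card_le_two
  obtain ⟨k, hk2, hk⟩ := (Nat.dvd_prime_pow hq).mp ((card_dvd_exponent_pow_rank' H hex).trans (pow_dvd_pow q hrank))
  have hk2' : k = 2 := by
    by_contra hne
    have hHa : zpowers a = H := eq_of_le_of_card_ge (zpowers_le.mpr haH) (by
      rw [Nat.card_zpowers, orderOf_eq_prime haq ha1, hk]
      calc q ^ k ≤ q ^ 1 := Nat.pow_le_pow_right hq.pos (by omega)
        _ = q := pow_one q)
    exact hba (hHa.symm ▸ hbH)
  have hncH : ¬ IsCyclic H := fun hc => by
    obtain ⟨g, hg⟩ := IsCyclic.exists_ofOrder_eq_natCard (α := H)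
    have h1 := Nat.le_of_dvd hq.pos (orderOf_dvd_of_pow_eq_one (hex g))
    rw [hg, hk, hk2'] at h1
    nlinarith [hq.two_le]
  have htop : H = ⊤ := eq_top_iff.mpr fun x _ => hX H hncH (mem_centralizer_iff.mpr fun y _ => mul_comm y x)
  refine ⟨q, hq, ?_, ?_⟩
  · rw [← card_top (G := G), ← htop, hk, hk2']
  · refine Nat.dvd_antisymm (Monoid.exponent_dvd_of_forall_pow_eq_one fun x => hle (htop ▸ mem_top x)) ?_
    rw [← orderOf_eq_prime haq ha1]
    exact Monoid.order_dvd_exponent a

end Cfsg.Agent.S3917
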