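import Cfsg.Statements.S3918
import Cfsg.Agent.S0126
import Cfsg.Agent.Lib.PGroup.Basic
-- import your own Cfsg.Agent.* helpers here

set_option autoImplicit false
open Cfsg

namespace Cfsg.Agent.S3918

open scoped commutatorElement

theorem bound {R : Type*} [Group R] [Finite R] {p : ℕ} [Fact p.Prime] (hR : IsPGroup p R)
    (A : Subgroup R) [A.Normal] (hC : Subgroup.centralizer (A : Set R) ≤ A)
    (hA2 : Nat.card A = p ^ 2) : Nat.card R ≤ p ^ 3 := by
  have := hR.isNilpotent
  have hp := (Fact.out : p.Prime)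
  by_cases hcen : A ≤ Subgroup.center R
  · have htop : A = ⊤ := top_le_iff.mp (le_trans
      (Subgroup.centralizer_eq_top_iff_subset.mpr hcen).ge hC)
    rw [htop, Subgroup.card_top] at hA2
    exact hA2 ▸ Nat.pow_le_pow_right hp.pos (by norm_num)
  obtain ⟨a0, ha0, ha0c⟩ := SetLike.not_le_iff_exists.mp hcen
  set K := ⁅A, (⊤ : Subgroup R)⁆ with hK
  have hAne : A ≠ ⊥ := fun h => hcen (h ▸ bot_le)
  have hlt : K < A := Cfsg.Lib.PGroup.commutator_lt_of_isPGroup (hR.to_subgroup A)
    (hR.to_subgroup ⊤) (by rw [Subgroup.normalizer_eq_top]) hAne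
  obtain ⟨k, hk⟩ := IsPGroup.iff_card.mp (hR.to_subgroup K)
  have hk1 : k ≤ 1 := by
    by_contra hk2
    exact hlt.ne (Subgroup.eq_of_le_of_card_ge hlt.le (by
      rw [hA2, hk]; exact Nat.pow_le_pow_right hp.pos (by omega)))
  have hKc : K ≤ Subgroup.center R := by
    rcases eq_or_ne K ⊥ with h | h
    · rw [h]; exact bot_le
    have hlt2 : ⁅K, (⊤ : Subgroup R)⁆ < K := Cfsg.Lib.PGroup.commutator_lt_of_isPGroup
      (hR.to_subgroup K) (hR.to_subgroup ⊤) (by rw [Subgroup.normalizer_eq_top]) h
    obtain ⟨j, hj⟩ := IsPGroup.iff_card.mp (hR.to_subgroup ⁅K, (⊤ : Subgroup R)⁆)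
    have hj0 : j = 0 := by
      by_contra hj0
      exact hlt2.ne (Subgroup.eq_of_le_of_card_ge hlt2.le (by
        rw [hk, hj]; exact Nat.pow_le_pow_right hp.pos (by omega)))
    have hbot : ⁅K, (⊤ : Subgroup R)⁆ = ⊥ :=
      Subgroup.eq_bot_of_card_eq _ (by rw [hj, hj0, pow_zero])
    simpa [Subgroup.centralizer_univ] using Subgroup.commutator_eq_bot_iff_le_centralizer.mp hbot
  have hmem : ∀ r : R, ⁅a0, r⁆ ∈ K := fun r =>
    Subgroup.commutator_mem_commutator ha0 (Subgroup.mem_top r)
  let f : R →* K :=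
    { toFun := fun r => ⟨⁅a0, r⁆, hmem r⟩
      map_one' := Subtype.ext (by simp [commutatorElement_def])
      map_mul' := fun g h => Subtype.ext (by
        change ⁅a0, g * h⁆ = ⁅a0, g⁆ * ⁅a0, h⁆
        have h1 := Subgroup.mem_center_iff.mp (hKc (hmem h)) g
        calc ⁅a0, g * h⁆ = ⁅a0, g⁆ * (g * ⁅a0, h⁆) * g⁻¹ := by
              simp [commutatorElement_def, mul_assoc]
          _ = _ := by rw [h1]; simp [mul_assoc]) }
  have hker : f.ker ≤ A := by
    intro r hr
    have hra : Commute a0 r :=
      commutatorElement_eq_one_iff_mul_comm.mp (congrArg Subtype.val (MonoidHom.mem_ker.mp hr))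
    refine hC ?_
    rw [Subgroup.mem_centralizer_iff]
    have hAgen : A ≤ (A ⊓ Subgroup.center R) ⊔ Subgroup.zpowers a0 := by
      have hinf : A ⊓ Subgroup.center R ≠ ⊥ := Cfsg.Lib.Solv.inf_center_ne_bot_of_isNilpotent hAne
      obtain ⟨i, hi⟩ := IsPGroup.iff_card.mp (hR.to_subgroup (A ⊓ Subgroup.center R))
      have hi1 : 1 ≤ i := by
        by_contra hi0
        exact hinf (Subgroup.eq_bot_of_card_eq _ (by rw [hi, show i = 0 by omega, pow_zero]))
      set D := (A ⊓ Subgroup.center R) ⊔ Subgroup.zpowers a0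
      have hDA : D ≤ A := sup_le inf_le_left (Subgroup.zpowers_le.mpr ha0)
      have hlt3 : A ⊓ Subgroup.center R < D := lt_of_le_of_ne le_sup_left fun h =>
        ha0c (h.ge (Subgroup.mem_sup_right (Subgroup.mem_zpowers a0))).2
      obtain ⟨j, hj⟩ := IsPGroup.iff_card.mp (hR.to_subgroup D)
      have hij : i < j := by
        by_contra hij
        exact hlt3.ne (Subgroup.eq_of_le_of_card_ge hlt3.le (by
          rw [hi, hj]; exact Nat.pow_le_pow_right hp.pos (by omega)))
      exact (Subgroup.eq_of_le_of_card_ge hDA (by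
        rw [hA2, hj]; exact Nat.pow_le_pow_right hp.pos (by omega))).ge
    intro a ha
    have : A ≤ Subgroup.centralizer {r} := hAgen.trans (sup_le
      (fun z hz => Subgroup.mem_centralizer_iff.mpr fun y hy => by
        rw [Set.mem_singleton_iff] at hy; subst hy; exact Subgroup.mem_center_iff.mp hz.2 y)
      (Subgroup.zpowers_le.mpr (Subgroup.mem_centralizer_iff.mpr fun y hy => by
        rw [Set.mem_singleton_iff] at hy; subst hy; exact hra.eq.symm)))
    exact (Subgroup.mem_centralizer_iff.mp (this ha) r rfl).symm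
  calc Nat.card R = Nat.card f.ker * f.ker.index := (Subgroup.card_mul_index _).symm
    _ ≤ p ^ 2 * p ^ 1 := Nat.mul_le_mul ((Subgroup.card_le_of_le hker).trans hA2.le) (by
        rw [Subgroup.index_ker]
        exact (Subgroup.card_le_card_group _).trans (hk ▸ Nat.pow_le_pow_right hp.pos hk1))
    _ = p ^ 3 := by ring


/-- Say that a group has self-centralizing non-cyclic subgroups when every non-cyclic subgroup H satisfies C_G(H) ≤ H. For an odd prime p, a finite non-abelian p-group has self-centralizing non-cyclic subgroups if and only if it has order p³. -/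
theorem result {G : Type*} [Group G] [Finite G] {p : ℕ} [Fact p.Prime] (hp : p ≠ 2) (hG : IsPGroup p G) (hna : ¬ IsMulCommutative G) :
    (∀ H : Subgroup G, ¬ IsCyclic ↥H → Subgroup.centralizer (H : Set G) ≤ H) ↔ Nat.card G = p ^ 3 := by
  classical
  have hp' := (Fact.out : p.Prime)
  obtain ⟨n, hn⟩ := IsPGroup.iff_card.mp hG
  have hn3 : 3 ≤ n := by
    by_contra h
    apply hna
    rcases (by omega : n = 0 ∨ n = 1 ∨ n = 2) with rfl | rfl | rfl
    · have : Subsingleton G := (Nat.card_eq_one_iff_unique.mp (hn.trans (pow_zero p))).1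
      exact ⟨⟨fun a b => Subsingleton.elim _ _⟩⟩
    · have : IsCyclic G := isCyclic_of_prime_card (hn.trans (pow_one p))
      exact ⟨⟨mul_comm'⟩⟩
    · exact IsPGroup.isMulCommutative_of_card_eq_prime_sq hn
  constructor
  · intro h
    have hnc : ¬ IsCyclic G := fun hc => hna inferInstance
    obtain ⟨A, hAn, ⟨hAc, hAe⟩, hA2⟩ := Cfsg.Agent.S0126.result hp hG hnc
    have hAnc : ¬ IsCyclic A := fun hc => by
      obtain ⟨g, hg⟩ := IsCyclic.exists_ofOrder_eq_natCard (α := A)
      have := orderOf_dvd_of_pow_eq_one (show g ^ p = 1 from Subtype.ext (hAe g g.2))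
      rw [hg, hA2] at this
      have h2 := Nat.le_of_dvd hp'.pos this
      have := hp'.one_lt
      nlinarith
    have := bound hG A (h A hAnc) hA2
    rw [hn] at this ⊢
    exact le_antisymm this (Nat.pow_le_pow_right hp'.pos hn3)
  · intro hcard H hH
    obtain ⟨k, hk⟩ := IsPGroup.iff_card.mp (hG.to_subgroup H)
    have hk2 : 2 ≤ k := by
      by_contra h
      apply hH
      rcases (by omega : k = 0 ∨ k = 1) with rfl | rfl
      · rw [Subgroup.eq_bot_of_card_eq H (hk.trans (pow_zero p))]
        exact isCyclic_of_subsingleton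
      · exact isCyclic_of_prime_card (hk.trans (pow_one p))
    have hk3 : k ≤ 3 := (Nat.pow_le_pow_iff_right hp'.one_lt).mp (hcard ▸ hk ▸ Subgroup.card_le_card_group H)
    rcases (by omega : k = 2 ∨ k = 3) with rfl | rfl
    · have hHc : IsMulCommutative H := IsPGroup.isMulCommutative_of_card_eq_prime_sq hk
      have hle : H ≤ Subgroup.centralizer (H : Set G) := Subgroup.le_centralizer H
      obtain ⟨j, hj⟩ := IsPGroup.iff_card.mp (hG.to_subgroup (Subgroup.centralizer (H : Set G)))
      have hj3 : j ≤ 3 := (Nat.pow_le_pow_iff_right hp'.one_lt).mp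
        (hcard ▸ hj ▸ Subgroup.card_le_card_group _)
      by_contra hne
      have hj2 : j = 3 := by
        by_contra hj2
        exact hne (Subgroup.eq_of_le_of_card_ge hle (by
          rw [hk, hj]; exact Nat.pow_le_pow_right hp'.pos (by omega))).ge
      have htop : Subgroup.centralizer (H : Set G) = ⊤ :=
        Subgroup.eq_top_of_card_eq _ (by rw [hj, hj2, hcard])
      have hHZ : H ≤ Subgroup.center G := Subgroup.centralizer_eq_top_iff_subset.mp htop
      apply hna
      have hidx : (Subgroup.center G).index ∣ p := by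
        have h1 := Subgroup.index_dvd_of_le hHZ
        have h2 := Subgroup.card_mul_index H
        rw [hk, hcard] at h2
        rwa [Nat.eq_of_mul_eq_mul_left (pow_pos hp'.pos 2) (h2.trans (pow_succ p 2))] at h1
      have : IsCyclic (G ⧸ Subgroup.center G) := by
        rcases (Nat.dvd_prime hp').mp hidx with h | h <;> rw [Subgroup.index_eq_card] at h
        · have : Subsingleton (G ⧸ Subgroup.center G) := (Nat.card_eq_one_iff_unique.mp h).1
          exact isCyclic_of_subsingleton
        · exact isCyclic_of_prime_card h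
      exact isMulCommutative_of_isCyclic_quotient_center_self G
    · rw [Subgroup.eq_top_of_card_eq H (hk.trans hcard.symm)]
      exact le_top

end Cfsg.Agent.S3918
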