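import Cfsg.Statements.S3919
import Cfsg.Agent.S0016
import Cfsg.Agent.Lib.TwoGroup.MaximalClass
import Cfsg.Agent.Lib.PGroup.Basic
import Cfsg.Agent.Lib.Solv.Nilpotent
import Cfsg.Agent.Lib.Core.Basic
-- import your own Cfsg.Agent.* helpers here

set_option autoImplicit false
open Cfsg

namespace Cfsg.Agent.S3919

open Subgroup
open scoped commutatorElement

theorem index_commutator_ge {G : Type*} [Group G] [Finite G] (hG : IsPGroup 2 G) (hnc : ¬ IsCyclic G) :
    4 ≤ (commutator G).index := by
  haveI : Fact (Nat.Prime 2) := ⟨Nat.prime_two⟩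
  obtain ⟨a, ha⟩ := hG.index (commutator G)
  rcases a with _ | _ | a
  · exfalso
    have hle := Cfsg.Lib.PGroup.commutator_le_frattini (p := 2) hG
    rw [show commutator G = ⊤ from index_eq_one.1 (by simpa using ha), top_le_iff] at hle
    haveI : Nontrivial G := by
      rw [← not_subsingleton_iff_nontrivial]
      intro h; exact hnc isCyclic_of_subsingleton
    exact Cfsg.Lib.PGroup.frattini_ne_top hle
  · exfalso
    have hne : (commutator G) ≠ ⊤ := fun h => by rw [h, index_top] at ha; norm_num at ha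
    obtain ⟨g, hg⟩ : ∃ g : G, g ∉ commutator G := by
      by_contra h; push Not at h; exact hne ((eq_top_iff' _).2 h)
    have htop : commutator G ⊔ zpowers g = ⊤ := by
      refine index_eq_one.1 ?_
      have h1 : (commutator G ⊔ zpowers g).index ∣ 2 := by
        rw [show (2 : ℕ) = (commutator G).index by rw [ha]; norm_num]
        exact index_dvd_of_le le_sup_left
      rcases (Nat.dvd_prime Nat.prime_two).1 h1 with h | h
      · exact h
      · have := eq_of_le_of_card_ge (le_sup_left : commutator G ≤ commutator G ⊔ zpowers g) (by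
          have e1 := card_mul_index (commutator G)
          have e2 := card_mul_index (commutator G ⊔ zpowers g)
          rw [ha] at e1; rw [h] at e2
          norm_num at e1; omega)
        exact absurd (this ▸ mem_sup_right (mem_zpowers g)) hg
    have hgen : zpowers g ⊔ frattini G = ⊤ := top_le_iff.1 (htop ▸ sup_le
      ((Cfsg.Lib.PGroup.commutator_le_frattini (p := 2) hG).trans le_sup_right) le_sup_left)
    exact hnc ⟨⟨g, fun x => mem_zpowers_iff.1 ((frattini_nongenerating hgen).ge (mem_top x))⟩⟩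
  · rw [ha]
    exact le_trans (by norm_num) (Nat.pow_le_pow_right Nat.two_pos (show 2 ≤ a + 1 + 1 by omega))

theorem index_commutator_quaternion (k : ℕ) [NeZero (2 ^ k)] : (commutator (QuaternionGroup (2 ^ k))).index ≤ 4 := by
  set m := 2 ^ k
  have hmem : (QuaternionGroup.a 2 : QuaternionGroup m) ∈ commutator (QuaternionGroup m) := by
    have h := commutator_mem_commutator (H₁ := ⊤) (H₂ := ⊤) (mem_top (QuaternionGroup.a 1 : QuaternionGroup m))
      (mem_top (QuaternionGroup.xa 0))
    rw [_root_.commutator_def]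
    convert h using 1
    rw [commutatorElement_def]
    have e1 : (QuaternionGroup.a 1 : QuaternionGroup m)⁻¹ = QuaternionGroup.a (-1) := rfl
    have e2 : (QuaternionGroup.xa 0 : QuaternionGroup m)⁻¹ = QuaternionGroup.xa ((m : ZMod (2 * m)) + 0) := rfl
    rw [e1, e2, QuaternionGroup.a_mul_xa, QuaternionGroup.xa_mul_a, QuaternionGroup.xa_mul_xa]
    have h2m : (m : ZMod (2 * m)) * 2 = 0 := by
      have := ZMod.natCast_self (2 * m)
      push_cast at this
      linear_combination this
    congr 1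
    linear_combination -h2m
  have h1 : Nat.card (zpowers (QuaternionGroup.a 2 : QuaternionGroup m)) ≤ Nat.card (commutator (QuaternionGroup m)) :=
    card_le_of_le (zpowers_le.2 hmem)
  rw [Nat.card_zpowers, show (QuaternionGroup.a 2 : QuaternionGroup m) = (QuaternionGroup.a 1) ^ 2 by
      rw [QuaternionGroup.a_one_pow]; rfl, orderOf_pow_of_dvd two_ne_zero (by
      rw [QuaternionGroup.orderOf_a_one]; exact dvd_mul_right 2 m), QuaternionGroup.orderOf_a_one,
    Nat.mul_div_cancel_left _ Nat.two_pos] at h1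
  have h2 := card_mul_index (commutator (QuaternionGroup m))
  rw [Nat.card_eq_fintype_card (α := QuaternionGroup m), QuaternionGroup.card] at h2
  have hm : 0 < m := pow_pos Nat.two_pos k
  nlinarith

theorem forward {G : Type*} [Group G] [Finite G] (hna : ¬ IsMulCommutative G) (hG : IsPGroup 2 G)
    (h : ∀ H : Subgroup G, ¬ IsCyclic ↥H → centralizer (H : Set G) ≤ H) : (commutator G).index = 4 := by
  classical
  haveI : Fact (Nat.Prime 2) := ⟨Nat.prime_two⟩
  haveI : Nontrivial G := by
    rw [← not_subsingleton_iff_nontrivial]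
    intro h'; exact hna ⟨⟨fun a b => Subsingleton.elim _ _⟩⟩
  have hnc : ¬ IsCyclic G := fun hc => hna ⟨⟨fun a b => by
    letI : CommGroup G := IsCyclic.commGroup
    exact mul_comm a b⟩⟩
  refine le_antisymm ?_ (index_commutator_ge hG hnc)
  obtain ⟨z, -, hzc, hz⟩ := Cfsg.Lib.PGroup.exists_mem_center_orderOf_eq hG (N := ⊤) top_ne_bot
  by_cases hu : ∀ t : G, orderOf t = 2 → t = z
  · have huniq : ∀ H K : Subgroup G, Nat.card H = 2 → Nat.card K = 2 → H = K := by
      have key : ∀ H : Subgroup G, Nat.card H = 2 → H = zpowers z := by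
        intro H hH
        obtain ⟨⟨t, htH⟩, ht⟩ := exists_prime_orderOf_dvd_card' (G := H) 2 hH.symm.dvd
        rw [Subgroup.orderOf_mk] at ht
        refine (eq_of_le_of_card_ge (zpowers_le.2 (hu t ht ▸ htH)) ?_).symm
        rw [hH, Nat.card_zpowers, hz]
      exact fun H K hH hK => (key H hH).trans (key K hK).symm
    obtain hc | ⟨-, k, ⟨e⟩⟩ := Cfsg.Agent.S0016.result 2 hG huniq
    · exact absurd hc hnc
    haveI : NeZero (2 ^ k) := ⟨(pow_pos Nat.two_pos k).ne'⟩
    refine le_of_eq_of_le ?_ (index_commutator_quaternion k)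
    have hmap : (commutator G).map e.toMonoidHom = commutator (QuaternionGroup (2 ^ k)) := by
      rw [_root_.commutator_def, _root_.commutator_def, Subgroup.map_commutator,
        ← MonoidHom.range_eq_map, MonoidHom.range_eq_top.2 e.surjective]
    rw [← hmap]
    exact (index_map_equiv _ e).symm
  push Not at hu
  obtain ⟨t, ht, htz⟩ := hu
  haveI : (zpowers z).Normal := ⟨fun a ha g => by
    rw [Subgroup.mem_center_iff.1 (zpowers_le.2 hzc ha) g, mul_inv_cancel_right]; exact ha⟩
  set H := zpowers t ⊔ zpowers z with hH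
  have hHc : Nat.card H ≤ 4 := by
    refine Nat.le_of_dvd (by norm_num) ((Cfsg.Lib.Core.card_sup_dvd_mul _ _).trans ?_)
    rw [Nat.card_zpowers, Nat.card_zpowers, ht, hz]
  have hHnc : ¬ IsCyclic H := by
    intro hc
    haveI := Fintype.ofFinite H
    have hd := IsCyclic.card_orderOf_eq_totient (α := H) (d := 2)
    let t' : H := ⟨t, mem_sup_left (mem_zpowers t)⟩
    let z' : H := ⟨z, mem_sup_right (mem_zpowers z)⟩
    have ht' : orderOf t' = 2 := by rw [Subgroup.orderOf_mk]; exact ht
    have hz' : orderOf z' = 2 := by rw [Subgroup.orderOf_mk]; exact hz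
    have h1 := hd (by rw [← ht']; exact orderOf_dvd_card)
    rw [Nat.totient_two, Finset.card_eq_one] at h1
    obtain ⟨w, hw⟩ := h1
    have e1 : t' ∈ Finset.univ.filter fun x : H => orderOf x = 2 := by simp [ht']
    have e2 : z' ∈ Finset.univ.filter fun x : H => orderOf x = 2 := by simp [hz']
    rw [hw, Finset.mem_singleton] at e1 e2
    exact htz (congrArg Subtype.val (e1.trans e2.symm))
  have hCle : centralizer ({t} : Set G) ≤ H := by
    refine le_trans ?_ (h H hHnc)
    intro c hc
    refine mem_centralizer_iff.2 fun x hx => ?_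
    have hle : H ≤ centralizer ({c} : Set G) := sup_le
      (zpowers_le.2 (mem_centralizer_singleton_iff.2 (mem_centralizer_singleton_iff.1 hc).symm))
      (zpowers_le.2 (mem_centralizer_singleton_iff.2 (Subgroup.mem_center_iff.1 hzc c).symm))
    exact mem_centralizer_singleton_iff.1 (hle hx)
  let f : G ⧸ centralizer ({t} : Set G) → commutator G := fun q =>
    ⟨⁅q.out, t⁆, by rw [_root_.commutator_def]; exact commutator_mem_commutator (mem_top _) (mem_top _)⟩
  have hf : Function.Injective f := by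
    intro q r e
    have e' : q.out * t * q.out⁻¹ = r.out * t * r.out⁻¹ := by
      have := congrArg (fun w : commutator G => (w : G) * t) e
      simpa [f, commutatorElement_def] using this
    rw [← q.out_eq, ← r.out_eq]
    refine QuotientGroup.eq.2 (mem_centralizer_singleton_iff.2 ?_)
    calc q.out⁻¹ * r.out * t = q.out⁻¹ * (r.out * t * r.out⁻¹) * r.out := by group
      _ = q.out⁻¹ * (q.out * t * q.out⁻¹) * r.out := by rw [e']
      _ = t * (q.out⁻¹ * r.out) := by group
  have h1 : (centralizer ({t} : Set G)).index ≤ Nat.card (commutator G) := Nat.card_le_card_of_injective f hf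
  have h2 := card_mul_index (commutator G)
  have h3 := card_mul_index (centralizer ({t} : Set G))
  have h4 := (card_le_of_le hCle).trans hHc
  have h5 : 0 < Nat.card (commutator G) := Nat.card_pos
  nlinarith

theorem backward {G : Type*} [Group G] [Finite G] {n : ℕ} (hn : 3 ≤ n) (hG : Nat.card G = 2 ^ n)
    (hc : Group.nilpotencyClass G = n - 1) :
    ∀ H : Subgroup G, ¬ IsCyclic ↥H → centralizer (H : Set G) ≤ H := by
  classical
  haveI : Fact (Nat.Prime 2) := ⟨Nat.prime_two⟩
  obtain ⟨a, b, ha, hb, -, hrel⟩ := Cfsg.Lib.TwoGroup.MaximalClass.exists_generators_of_class hn hG hc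
  have hai : (zpowers a).index = 2 := by
    have h1 := card_mul_index (zpowers a)
    rw [Nat.card_zpowers, ha, hG, show 2 ^ n = 2 ^ (n - 1) * 2 by rw [← pow_succ, Nat.sub_add_cancel (by omega)]] at h1
    exact Nat.eq_of_mul_eq_mul_left (pow_pos Nat.two_pos _) h1
  have hdec : ∀ x : G, x ∉ zpowers a → ∃ k : ℤ, x = a ^ k * b := by
    intro x hx
    have h := (mul_mem_iff_of_index_two hai (a := x) (b := b⁻¹)).2
      (iff_of_false hx fun h => hb (by simpa using inv_mem h))
    obtain ⟨k, hk⟩ := mem_zpowers_iff.1 h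
    exact ⟨k, by rw [hk, inv_mul_cancel_right]⟩
  have hsmall : ∀ j : ℤ, b * a ^ j * b⁻¹ = a ^ j → (2 ^ (n - 2) : ℤ) ∣ j := by
    intro j hj
    rw [← conj_zpow] at hj
    obtain ⟨w, rfl⟩ : ∃ w, n = w + 3 := ⟨n - 3, by omega⟩
    rw [show w + 3 - 2 = w + 1 from rfl] at hrel ⊢
    rw [show w + 3 - 1 = w + 2 from rfl] at ha
    have hinv : b * a * b⁻¹ = a⁻¹ → (2 ^ (w + 1) : ℤ) ∣ j := by
      intro h'
      rw [h', inv_zpow, ← zpow_neg] at hj
      have h1 := zpow_eq_zpow_iff_modEq.1 hj
      rw [ha, Int.modEq_iff_dvd] at h1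
      push_cast at h1
      rw [pow_succ' (2 : ℤ) (w + 1), show j - -j = 2 * j by ring] at h1
      exact (mul_dvd_mul_iff_left two_ne_zero).1 h1
    rcases hrel with ⟨-, h'⟩ | ⟨-, h'⟩ | ⟨h4, -, h'⟩
    · exact hinv h'
    · exact hinv h'
    · rw [h', ← zpow_natCast, ← zpow_mul, Nat.cast_sub (Nat.one_le_pow _ _ Nat.two_pos)] at hj
      have h1 := zpow_eq_zpow_iff_modEq.1 hj
      rw [ha, Int.modEq_iff_dvd] at h1
      push_cast at h1
      rw [pow_succ' (2 : ℤ) (w + 1), show j - (2 ^ (w + 1) - 1) * j = 2 * ((1 - 2 ^ w) * j) by ring] at h1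
      have h2 := (mul_dvd_mul_iff_left two_ne_zero).1 h1
      refine (IsCoprime.pow_left ?_).dvd_of_dvd_mul_left h2
      refine ⟨(2 : ℤ) ^ (w - 1), 1, ?_⟩
      rw [show (2 : ℤ) ^ w = 2 ^ (w - 1) * 2 by rw [← pow_succ, Nat.sub_add_cancel (by omega)]]
      ring
  intro H hH c hcH
  obtain ⟨h, hhH, hhA⟩ : ∃ h ∈ H, h ∉ zpowers a := by
    by_contra hh
    push Not at hh
    exact hH (isCyclic_of_le hh)
  obtain ⟨k, rfl⟩ := hdec h hhA
  -- elements of the centralizer
  have hcen : ∀ j : ℤ, Commute (a ^ j) (a ^ k * b) → (2 ^ (n - 2) : ℤ) ∣ j := by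
    intro j hj
    refine hsmall j ?_
    have h1 : a ^ k * (b * a ^ j) = a ^ k * (a ^ j * b) := by
      calc a ^ k * (b * a ^ j) = a ^ k * b * a ^ j := by group
        _ = a ^ j * (a ^ k * b) := hj.eq.symm
        _ = a ^ k * (a ^ j * b) := by group
    rw [mul_left_cancel h1, mul_inv_cancel_right]
  have hzH : ∀ j : ℤ, (2 ^ (n - 2) : ℤ) ∣ j → a ^ j ∈ H := by
    rintro j ⟨i, rfl⟩
    rw [zpow_mul]
    refine zpow_mem ?_ i
    have hne : H ⊓ zpowers a ≠ ⊥ := by
      intro h0
      refine hH (isCyclic_of_le (fun x hx => ?_ : H ≤ zpowers (a ^ k * b)))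
      by_cases hxA : x ∈ zpowers a
      · rw [show x = 1 from mem_bot.1 (h0 ▸ mem_inf.2 ⟨hx, hxA⟩)]; exact one_mem _
      · have h' := (mul_mem_iff_of_index_two hai (a := x) (b := (a ^ k * b)⁻¹)).2
          (iff_of_false hxA fun h => hhA (by simpa using inv_mem h))
        have h1 : x * (a ^ k * b)⁻¹ ∈ H ⊓ zpowers a := mem_inf.2 ⟨mul_mem hx (inv_mem hhH), h'⟩
        rw [h0, mem_bot, mul_inv_eq_one] at h1
        rw [h1]; exact mem_zpowers _
    obtain ⟨⟨u, hu⟩, huo⟩ : ∃ u : (H ⊓ zpowers a : Subgroup G), orderOf u = 2 := by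
      obtain ⟨e, he⟩ := IsPGroup.iff_card.1 ((IsPGroup.of_card hG).to_subgroup (H ⊓ zpowers a))
      exact exists_prime_orderOf_dvd_card' 2 (he ▸ dvd_pow_self 2 (by
        rintro rfl; exact hne (card_eq_one.1 (by simpa using he))))
    rw [Subgroup.orderOf_mk] at huo
    obtain ⟨i', hi'⟩ := mem_zpowers_iff.1 (mem_inf.1 hu).2
    have h2 : a ^ (i' * 2) = a ^ (0 : ℤ) := by
      rw [zpow_mul, hi', zpow_zero]
      exact_mod_cast (huo ▸ pow_orderOf_eq_one u)
    have h3 := zpow_eq_zpow_iff_modEq.1 h2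
    rw [ha, Int.modEq_iff_dvd, show n - 1 = n - 2 + 1 by omega] at h3
    push_cast at h3
    rw [pow_succ, zero_sub, dvd_neg] at h3
    obtain ⟨d, hd⟩ := (mul_dvd_mul_iff_right two_ne_zero).1 h3
    have hodd : ¬ (2 : ℤ) ∣ d := by
      rintro ⟨d', rfl⟩
      have : u = 1 := by
        rw [← hi', hd, show (2 : ℤ) ^ (n - 2) * (2 * d') = ((2 ^ (n - 1) : ℕ) : ℤ) * d' by
          rw [show n - 1 = n - 2 + 1 by omega]; push_cast; ring, zpow_mul, zpow_natCast, ← ha, pow_orderOf_eq_one, one_zpow]
      rw [this, orderOf_one] at huo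
      norm_num at huo
    obtain ⟨d', rfl⟩ : Odd d := Int.not_even_iff_odd.1 fun he => hodd (even_iff_two_dvd.1 he)
    have : a ^ ((2 : ℤ) ^ (n - 2)) = u := by
      rw [← hi', hd, zpow_eq_zpow_iff_modEq, ha, Int.modEq_iff_dvd, show n - 1 = n - 2 + 1 by omega]
      exact ⟨d', by push_cast; ring⟩
    rw [this]
    exact (mem_inf.1 hu).1
  have hcomm : Commute c (a ^ k * b) := (mem_centralizer_iff.1 hcH _ hhH).symm
  by_cases hcA : c ∈ zpowers a
  · obtain ⟨j, rfl⟩ := mem_zpowers_iff.1 hcA
    exact hzH j (hcen j hcomm)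
  · have h' := (mul_mem_iff_of_index_two hai (a := c) (b := (a ^ k * b)⁻¹)).2
      (iff_of_false hcA fun h => hhA (by simpa using inv_mem h))
    obtain ⟨j, hj⟩ := mem_zpowers_iff.1 h'
    have hc' : c = a ^ j * (a ^ k * b) := by rw [hj, inv_mul_cancel_right]
    rw [hc']
    refine mul_mem (hzH j (hcen j ?_)) hhH
    rw [hj]
    exact hcomm.mul_left (Commute.refl _).inv_left


/-- Say that a group has self-centralizing non-cyclic subgroups when every non-cyclic subgroup H satisfies C_G(H) ≤ H. A finite non-abelian 2-group G of order 2^n has self-centralizing non-cyclic subgroups if and only if G has nilpotency class n − 1 (that is, G is dihedral, semidihedral or generalized quaternion). -/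
theorem result {G : Type*} [Group G] [Finite G] (hna : ¬ IsMulCommutative G) (n : ℕ) (hG : Nat.card G = 2 ^ n) :
    (∀ H : Subgroup G, ¬ IsCyclic ↥H → Subgroup.centralizer (H : Set G) ≤ H) ↔ (⊤ : Subgroup G).lowerCentralSeries (n - 2) ≠ ⊥ := by
  classical
  haveI : Fact (Nat.Prime 2) := ⟨Nat.prime_two⟩
  have hGp : IsPGroup 2 G := IsPGroup.of_card hG
  haveI := hGp.isNilpotent
  have hn : 3 ≤ n := by
    by_contra hlt
    apply hna
    interval_cases n
    · haveI : Subsingleton G := (Nat.card_eq_one_iff_unique.1 (by simpa using hG)).1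
      exact ⟨⟨fun a b => Subsingleton.elim _ _⟩⟩
    · haveI := isCyclic_of_prime_card (p := 2) (α := G) (by simpa using hG)
      letI : CommGroup G := IsCyclic.commGroup
      exact ⟨⟨mul_comm⟩⟩
    · exact IsPGroup.isMulCommutative_of_card_eq_prime_sq hG
  rw [ne_eq, Subgroup.lowerCentralSeries_eq_bot_iff_nilpotencyClass_le]
  have hup := Cfsg.Lib.Solv.nilpotencyClass_le_of_card_eq_pow n hG (by omega)
  constructor
  · intro h
    have := Cfsg.Lib.TwoGroup.MaximalClass.class_of_index_four n hn G hG (forward hna hGp h)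
    omega
  · intro h
    exact backward hn hG (by omega)

end Cfsg.Agent.S3919
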