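import Cfsg.Statements.S3920
import Mathlib.GroupTheory.SpecificGroups.Dihedral
import Mathlib.Tactic.LinearCombination
-- import your own Cfsg.Agent.* helpers here

set_option autoImplicit false
open Cfsg

namespace Cfsg.Agent.S3920

open DihedralGroup

theorem exists_sr {n : ℕ} (H : Subgroup (DihedralGroup n)) (h : ¬ IsCyclic H) :
    ∃ i, (sr i : DihedralGroup n) ∈ H := by
  by_contra hn
  push Not at hn
  apply h
  have hle : H ≤ Subgroup.zpowers (r 1 : DihedralGroup n) := by
    intro x hx
    rcases x with a | a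
    · exact ⟨(a.cast : ℤ), by simp⟩
    · exact absurd hx (hn a)
  exact isCyclic_of_injective (Subgroup.inclusion hle) (Subgroup.inclusion_injective hle)

theorem exists_r {n : ℕ} (H : Subgroup (DihedralGroup n)) (h : ¬ IsCyclic H) :
    ∃ d, d ≠ 0 ∧ (r d : DihedralGroup n) ∈ H := by
  by_contra hn
  push Not at hn
  obtain ⟨i, hi⟩ := exists_sr H h
  apply h
  have hle : H ≤ Subgroup.zpowers (sr i : DihedralGroup n) := by
    intro x hx
    rcases x with a | a
    · by_cases ha : a = 0
      · subst ha; exact one_mem _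
      · exact absurd hx (hn a ha)
    · have := mul_mem hi hx
      rw [sr_mul_sr] at this
      have ha : a - i = 0 := by
        by_contra ha
        exact hn _ ha this
      rw [sub_eq_zero.mp ha]
      exact Subgroup.mem_zpowers _
  exact isCyclic_of_injective (Subgroup.inclusion hle) (Subgroup.inclusion_injective hle)

/-- Rotations and reflections with parameter divisible by `m`. -/
def levelSub (n m : ℕ) (h : m ∣ n) : Subgroup (DihedralGroup n) where
  carrier := {x | match x with
    | r i => ZMod.castHom h (ZMod m) i = 0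
    | sr i => ZMod.castHom h (ZMod m) i = 0}
  one_mem' := map_zero (ZMod.castHom h (ZMod m))
  mul_mem' := by
    rintro (a | a) (b | b) ha hb <;>
      simp only [Set.mem_setOf_eq, r_mul_r, r_mul_sr, sr_mul_r, sr_mul_sr] at ha hb ⊢ <;>
      simp only [map_add, map_sub, ha, hb, add_zero, sub_zero]
  inv_mem' := by
    rintro (a | a) ha <;> simp only [Set.mem_setOf_eq, inv_r, inv_sr] at ha ⊢
    · rw [map_neg, ha, neg_zero]
    · exact ha

theorem mem_levelSub_r {n m : ℕ} (h : m ∣ n) (i : ZMod n) :
    (r i : DihedralGroup n) ∈ levelSub n m h ↔ ZMod.castHom h (ZMod m) i = 0 := Iff.rfl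

theorem mem_levelSub_sr {n m : ℕ} (h : m ∣ n) (i : ZMod n) :
    (sr i : DihedralGroup n) ∈ levelSub n m h ↔ ZMod.castHom h (ZMod m) i = 0 := Iff.rfl

theorem not_comm {n m : ℕ} (h : m ∣ n) (hm : ¬ n ∣ 2 * m) :
    ¬ IsMulCommutative (levelSub n m h) := by
  intro hc
  have hr : (r (m : ZMod n) : DihedralGroup n) ∈ levelSub n m h := by
    rw [mem_levelSub_r, map_natCast, ZMod.natCast_self]
  have hs : (sr 0 : DihedralGroup n) ∈ levelSub n m h := by rw [mem_levelSub_sr, map_zero]
  have := setLike_mul_comm hr hs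
  simp only [r_mul_sr, sr_mul_r, sr.injEq, zero_sub, zero_add] at this
  apply hm
  rw [← ZMod.natCast_eq_zero_iff, Nat.cast_mul, Nat.cast_ofNat, two_mul]
  exact neg_eq_iff_add_eq_zero.mp this

theorem two_torsion_unique {n : ℕ} [NeZero n] {a b : ZMod n} (ha : a + a = 0) (ha0 : a ≠ 0)
    (hb : b + b = 0) (hb0 : b ≠ 0) : a = b := by
  apply ZMod.val_injective
  have key : ∀ c : ZMod n, c + c = 0 → c ≠ 0 → 2 * c.val = n := by
    intro c hc hc0
    have h1 : ((c.val + c.val : ℕ) : ZMod n) = 0 := by simp [hc]
    rw [ZMod.natCast_eq_zero_iff] at h1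
    obtain ⟨k, hk⟩ := h1
    have h2 := ZMod.val_lt c
    have h3 : 0 < c.val := Nat.pos_of_ne_zero fun h => hc0 ((ZMod.val_eq_zero c).mp h)
    have : k = 1 := by
      by_contra hk1
      rcases Nat.eq_zero_or_pos k with rfl | hk0
      · omega
      · have : n * 2 ≤ n * k := Nat.mul_le_mul_left n (by omega)
        omega
    subst this; omega
  have h1 := key a ha ha0
  have h2 := key b hb hb0
  omega


/-- Say that a group has self-centralizing non-cyclic subgroups when every non-cyclic subgroup H satisfies C_G(H) ≤ H. For n ≥ 3, the dihedral group of order 2n has self-centralizing non-cyclic subgroups if and only if n is odd or a power of 2. -/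
theorem result (n : ℕ) (hn : 3 ≤ n) : (∀ H : Subgroup (DihedralGroup n), ¬ IsCyclic ↥H → Subgroup.centralizer (H : Set (DihedralGroup n)) ≤ H) ↔ (Odd n ∨ ∃ k : ℕ, n = 2 ^ k) := by
  classical
  have : NeZero n := ⟨by omega⟩
  constructor
  · intro h
    by_contra hn'
    push Not at hn'
    obtain ⟨hne, hnp⟩ := hn'
    obtain ⟨a, m, hm, hnm⟩ := Nat.exists_eq_two_pow_mul_odd (show n ≠ 0 by omega)
    have ha : 1 ≤ a := by
      by_contra ha
      rw [show a = 0 by omega, pow_zero, one_mul] at hnm
      exact hne (hnm ▸ hm)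
    have hm1 : 3 ≤ m := by
      obtain ⟨c, hc⟩ := hm
      rcases Nat.eq_zero_or_pos c with rfl | hc0
      · exact absurd (by rw [hnm, hc]; ring) (hnp a)
      · omega
    have hd : 2 ^ a ∣ n := ⟨m, hnm⟩
    have hnc := not_comm hd (by
      intro h'
      rw [hnm, mul_comm 2 (2 ^ a)] at h'
      have := Nat.le_of_dvd (by norm_num) ((Nat.mul_dvd_mul_iff_left (Nat.two_pow_pos a)).mp h')
      omega)
    have hle := h (levelSub n (2 ^ a) hd) (fun _ => hnc inferInstance)
    obtain ⟨b, rfl⟩ : ∃ b, a = b + 1 := ⟨a - 1, by omega⟩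
    set z : ZMod n := ((2 ^ b * m : ℕ) : ZMod n) with hzdef
    have hz2 : z + z = 0 := by
      rw [hzdef, ← Nat.cast_add, ← two_mul, ← mul_assoc, ← pow_succ', ← hnm, ZMod.natCast_self]
    have hmem : (r z : DihedralGroup n) ∈ levelSub n (2 ^ (b + 1)) hd := by
      apply hle
      rw [Subgroup.mem_centralizer_iff]
      rintro (c | c) -
      · simp [add_comm]
      · simp only [r_mul_sr, sr_mul_r, sr.injEq]
        linear_combination hz2
    rw [mem_levelSub_r, hzdef, map_natCast, ZMod.natCast_eq_zero_iff, pow_succ] at hmem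
    have := (Nat.mul_dvd_mul_iff_left (Nat.two_pow_pos b)).mp hmem
    exact Nat.not_even_iff_odd.mpr hm (even_iff_two_dvd.mpr this)
  · intro hn' H hH x hx
    rw [Subgroup.mem_centralizer_iff] at hx
    obtain ⟨i, hi⟩ := exists_sr H hH
    obtain ⟨d, hd0, hd⟩ := exists_r H hH
    have hxi := hx _ hi
    have hxd := hx _ hd
    rcases hn' with hodd | ⟨k, hk⟩
    · have hno : ∀ c : ZMod n, c + c = 0 → c = 0 := by
        intro c hc
        obtain ⟨e, he⟩ := hodd
        have hn0 : ((2 * e + 1 : ℕ) : ZMod n) = 0 := by rw [← he]; exact ZMod.natCast_self n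
        push_cast at hn0
        linear_combination (-(e : ZMod n)) * hc + c * hn0
      rcases x with a | a
      · simp only [r_mul_sr, sr_mul_r, sr.injEq] at hxi
        rw [hno a (by linear_combination hxi)]
        exact one_mem H
      · simp only [r_mul_sr, sr_mul_r, sr.injEq] at hxd
        exact absurd (hno d (by linear_combination -hxd)) hd0
    · -- the central rotation lies in `H`
      obtain ⟨h0, hh0, hh2, hhH⟩ : ∃ h0 : ZMod n, h0 ≠ 0 ∧ h0 + h0 = 0 ∧ (r h0 : DihedralGroup n) ∈ H := by
        have hpow : (r d : DihedralGroup n) ^ 2 ^ k = 1 := by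
          rw [r_pow, ← hk, ZMod.natCast_self, mul_zero, r_zero]
        obtain ⟨j, -, hj⟩ := (Nat.dvd_prime_pow Nat.prime_two).mp (orderOf_dvd_of_pow_eq_one hpow)
        obtain ⟨j', rfl⟩ : ∃ j', j = j' + 1 := Nat.exists_eq_succ_of_ne_zero fun h => by
          subst h
          rw [pow_zero, orderOf_eq_one_iff, DihedralGroup.one_def, r.injEq] at hj
          exact hd0 hj
        have h1 : (r d : DihedralGroup n) ^ 2 ^ j' ≠ 1 := fun h => by
          have := orderOf_dvd_of_pow_eq_one h
          rw [hj] at this
          have := (Nat.pow_dvd_pow_iff_le_right (show 1 < 2 by norm_num)).mp this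
          omega
        rw [r_pow] at h1
        refine ⟨d * ((2 ^ j' : ℕ) : ZMod n), fun h => h1 (by rw [h, r_zero]), ?_, by rw [← r_pow]; exact pow_mem hd _⟩
        have h2 : (r d : DihedralGroup n) ^ 2 ^ (j' + 1) = 1 := by rw [← hj, pow_orderOf_eq_one]
        rw [r_pow, DihedralGroup.one_def, r.injEq] at h2
        push_cast at h2 ⊢
        linear_combination h2
      have htor : ∀ c : ZMod n, c + c = 0 → (r c : DihedralGroup n) ∈ H := by
        intro c hc
        by_cases hc0 : c = 0
        · subst hc0; exact one_mem H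
        · rw [two_torsion_unique hc hc0 hh2 hh0]; exact hhH
      rcases x with a | a
      · simp only [r_mul_sr, sr_mul_r, sr.injEq] at hxi
        exact htor a (by linear_combination hxi)
      · simp only [sr_mul_sr, r.injEq] at hxi
        have h1 := htor (a - i) (by linear_combination hxi)
        have := mul_mem hi h1
        rwa [sr_mul_r, add_sub_cancel] at this

end Cfsg.Agent.S3920
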