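import Cfsg.Statements.S3927
import Cfsg.Agent.Lib.Subnormal.GeneratingOvergroups
import Mathlib.GroupTheory.SemidirectProduct
import Mathlib.GroupTheory.Index
-- import your own Cfsg.Agent.* helpers here

set_option autoImplicit false
open Cfsg

namespace Cfsg.Agent.S3927

open Subgroup SemidirectProduct Cfsg.Lib.Subnormal

universe u

/-- The commutation map of an automorphism. -/
def phi {G : Type*} [Group G] (α : MulAut G) : G → G := fun c => c * (α c)⁻¹

theorem phi_iterate_comm {G : Type*} [Group G] (α : MulAut G) : ∀ (k : ℕ) (g : G),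
    α ((phi α)^[k] g) = (phi α)^[k] (α g) := by
  intro k
  induction k with
  | zero => intro g; rfl
  | succ k ih =>
    intro g
    rw [Function.iterate_succ_apply, Function.iterate_succ_apply, ih]
    simp [phi]

theorem aux : ∀ (n : ℕ) {G : Type u} [Group G] [Finite G], Nat.card G = n → ∀ α : MulAut G,
    closure (Set.range (phi α)) = ⊤ → ∀ k, closure (Set.range ((phi α)^[k])) = ⊤ := by
  intro n
  induction n using Nat.strong_induction_on with
  | _ n ih =>
  intro G _ _ hn α hG k
  subst hn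
  classical
  by_cases hne : closure (Set.range ((phi α)^[k])) = ⊤
  · exact hne
  exfalso
  set H := closure (Set.range ((phi α)^[k])) with hH
  let ι : ↥(Subgroup.zpowers α) →* MulAut G := (Subgroup.zpowers α).subtype
  let a0 : ↥(Subgroup.zpowers α) := ⟨α, mem_zpowers α⟩
  have : Finite (G ⋊[ι] ↥(Subgroup.zpowers α)) :=
    Finite.of_injective (fun x => (x.left, x.right)) fun x y e => by
      ext <;> simp_all
  set A := (inr : ↥(Subgroup.zpowers α) →* G ⋊[ι] ↥(Subgroup.zpowers α)).range with hA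
  have haA : inr a0 ∈ A := ⟨a0, rfl⟩
  have hphi : ∀ g : G, (inl (phi α g) : G ⋊[ι] ↥(Subgroup.zpowers α)) = inl g * inr a0 * (inl g)⁻¹ * (inr a0)⁻¹ := by
    intro g
    rw [← map_inv, ← map_inv, mul_assoc (inl g), mul_assoc (inl g), ← inl_aut, ← map_mul]
    simp [phi, ι, a0]
  -- the overgroups of `A`
  have hpow : ∀ (K : Subgroup G), K.map α.toMonoidHom ≤ K →
      ∀ (b : ↥(Subgroup.zpowers α)), ∀ g ∈ K, ι b g ∈ K := by
    intro K hK b g hg
    obtain ⟨i, hi⟩ := mem_powers_iff_mem_zpowers.2 b.2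
    have : ∀ j : ℕ, (α ^ j) g ∈ K := by
      intro j
      induction j with
      | zero => exact hg
      | succ j ihj => rw [pow_succ', MulAut.mul_apply]; exact hK ⟨_, ihj, rfl⟩
    show (b : MulAut G) g ∈ K
    rw [← hi]
    exact this i
  let L : (K : Subgroup G) → K.map α.toMonoidHom ≤ K → Subgroup (G ⋊[ι] ↥(Subgroup.zpowers α)) := fun K hK =>
    { carrier := {x | x.left ∈ K}
      one_mem' := one_mem K
      mul_mem' := fun {x y} hx hy => by
        show (x * y).left ∈ K
        rw [mul_left]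
        exact mul_mem hx (hpow K hK _ _ hy)
      inv_mem' := fun {x} hx => by
        show (x⁻¹).left ∈ K
        rw [inv_left]
        exact hpow K hK _ _ (inv_mem hx) }
  have hLmem : ∀ K hK x, x ∈ L K hK ↔ x.left ∈ K := fun _ _ _ => Iff.rfl
  have hHinv : H.map α.toMonoidHom ≤ H := by
    rw [hH, MonoidHom.map_closure, closure_le]
    rintro _ ⟨_, ⟨g, rfl⟩, rfl⟩
    exact subset_closure ⟨α g, (phi_iterate_comm α k g).symm⟩
  set LH := L H hHinv with hLH
  have hLne : LH ≠ ⊤ := fun e => hne (eq_top_iff.2 fun g _ => by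
    have h1 : (inl g : G ⋊[ι] ↥(Subgroup.zpowers α)) ∈ LH := e ▸ mem_top _
    rw [hLH, hLmem H hHinv, left_inl] at h1
    exact h1)
  have hAL : A ≤ LH := by
    rintro _ ⟨b, rfl⟩
    rw [hLH, hLmem H hHinv, left_inr]
    exact one_mem H
  have hAne : A ≠ ⊤ := fun e => hLne (top_le_iff.1 (e ▸ hAL))
  have hAn : normalClosure (A : Set (G ⋊[ι] ↥(Subgroup.zpowers α))) = ⊤ := by
    have hN : (normalClosure (A : Set (G ⋊[ι] ↥(Subgroup.zpowers α)))).Normal := normalClosure_normal
    have hinl : ∀ g : G, (inl g : G ⋊[ι] ↥(Subgroup.zpowers α)) ∈ normalClosure (A : Set (G ⋊[ι] ↥(Subgroup.zpowers α))) := by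
      intro g
      have : closure (Set.range (phi α)) ≤ (normalClosure (A : Set (G ⋊[ι] ↥(Subgroup.zpowers α)))).comap inl := by
        rw [closure_le]
        rintro _ ⟨c, rfl⟩
        show inl (phi α c) ∈ normalClosure (A : Set (G ⋊[ι] ↥(Subgroup.zpowers α)))
        rw [hphi]
        exact mul_mem (hN.conj_mem _ (subset_normalClosure haA) _) (inv_mem (subset_normalClosure haA))
      exact this (hG ▸ mem_top g)
    rw [eq_top_iff]
    intro x _
    rw [← inl_left_mul_inr_right x]
    exact mul_mem (hinl _) (subset_normalClosure ⟨_, rfl⟩)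
  have hY : sSup (overFam A) ≤ LH := by
    refine sSup_le fun X hX => ?_
    set GX : Subgroup G := X.comap inl with hGX
    have hAX : A ≤ X := hX.2.1
    have hGXt : GX ≠ ⊤ := fun e => hX.1 (eq_top_iff.2 fun x _ => by
      rw [← inl_left_mul_inr_right x]
      exact mul_mem (show x.left ∈ GX from e ▸ mem_top _) (hAX ⟨_, rfl⟩))
    have hαX : ∀ g ∈ GX, α g ∈ GX := fun g hg => by
      show inl (α g) ∈ X
      rw [show (inl (α g) : G ⋊[ι] ↥(Subgroup.zpowers α)) = inr a0 * inl g * inr a0⁻¹ from inl_aut a0 g]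
      exact mul_mem (mul_mem (hAX ⟨_, rfl⟩) hg) (hAX ⟨_, rfl⟩)
    have hαX' : GX.map (α : G ≃* G).toMonoidHom = GX := eq_of_le_of_card_ge
      (by rintro _ ⟨g, hg, rfl⟩; exact hαX g hg) (card_map_of_injective α.injective).ge
    let β : MulAut GX := ((α : G ≃* G).subgroupMap GX).trans (MulEquiv.subgroupCongr hαX')
    have hβ : ∀ g : GX, ((β g : GX) : G) = α g := fun _ => rfl
    have hval : ∀ (j : ℕ) (g : GX), ((((phi β)^[j]) g : GX) : G) = (phi α)^[j] g := by
      intro j
      induction j with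
      | zero => intro g; rfl
      | succ j ihj =>
        intro g
        rw [Function.iterate_succ_apply, Function.iterate_succ_apply, ihj]
        congr 1
    -- `GX` is generated by its commutators with `α`
    set K : Subgroup G := (closure (Set.range (phi β))).map GX.subtype with hK
    have hKle : K ≤ GX := map_subtype_le _
    have hKgen : ∀ g ∈ GX, phi α g ∈ K := fun g hg =>
      ⟨phi β ⟨g, hg⟩, subset_closure ⟨_, rfl⟩, (hval 1 ⟨g, hg⟩)⟩
    have hKα : K.map α.toMonoidHom ≤ K := by
      rw [hK, map_map, MonoidHom.map_closure, closure_le]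
      rintro _ ⟨_, ⟨g, rfl⟩, rfl⟩
      refine ⟨phi β (β g), subset_closure ⟨_, rfl⟩, ?_⟩
      simp [phi, hβ]
    have hKconj : ∀ g ∈ GX, ∀ c ∈ K, g * c * g⁻¹ ∈ K := by
      intro g hg c hc
      obtain ⟨c', hc', rfl⟩ := hc
      induction hc' using closure_induction with
      | mem x hx =>
        obtain ⟨u, rfl⟩ := hx
        have e : g * ((phi β u : GX) : G) * g⁻¹ = phi α (g * u) * (phi α g)⁻¹ := by
          have h0 : ((phi β u : GX) : G) = phi α u := hval 1 u
          rw [h0]
          simp [phi, mul_assoc]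
        rw [show GX.subtype (phi β u) = ((phi β u : GX) : G) from rfl, e]
        exact mul_mem (hKgen _ (mul_mem hg u.2)) (inv_mem (hKgen _ hg))
      | one => simp
      | mul x y _ _ hx hy =>
        rw [map_mul, show g * (GX.subtype x * GX.subtype y) * g⁻¹ =
          (g * GX.subtype x * g⁻¹) * (g * GX.subtype y * g⁻¹) by group]
        exact mul_mem hx hy
      | inv x _ hx =>
        rw [map_inv, show g * (GX.subtype x)⁻¹ * g⁻¹ = (g * GX.subtype x * g⁻¹)⁻¹ by group]
        exact inv_mem hx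
    have htel : ∀ (b : ↥(Subgroup.zpowers α)), ∀ g ∈ GX, g * (ι b g)⁻¹ ∈ K := by
      intro b g hg
      obtain ⟨i, hi⟩ := mem_powers_iff_mem_zpowers.2 b.2
      have : ∀ j : ℕ, g * ((α ^ j) g)⁻¹ ∈ K := by
        intro j
        induction j with
        | zero => simp
        | succ j ihj =>
          rw [show g * ((α ^ (j + 1)) g)⁻¹ = phi α g * α (g * ((α ^ j) g)⁻¹) by
            rw [pow_succ', MulAut.mul_apply]; simp [phi, mul_assoc]]
          exact mul_mem (hKgen g hg) (hKα ⟨_, ihj, rfl⟩)
      show g * ((b : MulAut G) g)⁻¹ ∈ K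
      rw [← hi]
      exact this i
    have hmemGX : ∀ x ∈ X, x.left ∈ GX := fun x hx => by
      show inl x.left ∈ X
      rw [show (inl x.left : G ⋊[ι] ↥(Subgroup.zpowers α)) = x * (inr x.right)⁻¹ from
        eq_mul_inv_of_mul_eq (inl_left_mul_inr_right x)]
      exact mul_mem hx (inv_mem (hAX ⟨_, rfl⟩))
    have hXK : X ≤ L K hKα := by
      intro x hx
      refine (hX.2.2 (X ⊓ L K hKα) (le_inf hAX ?_) inf_le_left ?_ hx).2
      · rintro _ ⟨b, rfl⟩
        rw [hLmem K hKα, left_inr]
        exact one_mem K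
      · refine le_normalizer_of_forall fun z hz => ?_
        rintro _ ⟨w, hw, rfl⟩
        refine ⟨X.mul_mem (X.mul_mem hz hw.1) (X.inv_mem hz), ?_⟩
        have hw2 : w.left ∈ K := hw.2
        show (z * w * z⁻¹).left ∈ K
        simp only [mul_left, inv_left, mul_right]
        set g := z.left with hg
        have hgX : g ∈ GX := hmemGX z hz
        have e : g * ι z.right w.left * ι (z.right * w.right) (ι z.right⁻¹ g⁻¹) =
            (g * ι z.right w.left * g⁻¹) * (g * (ι w.right g)⁻¹) := by
          have hc : ι (z.right * w.right) (ι z.right⁻¹ g⁻¹) = (ι w.right g)⁻¹ := by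
            rw [← MulAut.mul_apply, ← map_mul, mul_comm' z.right w.right, mul_assoc, mul_inv_cancel, mul_one,
              map_inv]
          rw [hc]
          group
        rw [e]
        exact mul_mem (hKconj g hgX _ (hpow K hKα _ _ hw2)) (htel _ g hgX)
    have hβgen : closure (Set.range (phi β)) = ⊤ := eq_top_iff.2 fun g _ => by
      obtain ⟨y, hy, hyg⟩ : (g : G) ∈ K := by
        have := hXK (show (inl (g : G) : G ⋊[ι] ↥(Subgroup.zpowers α)) ∈ X from g.2)
        rwa [hLmem K hKα, left_inl] at this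
      rwa [← Subtype.ext hyg]
    have hlt : Nat.card GX < Nat.card G :=
      lt_of_le_of_ne (card_le_card_group GX) fun e => hGXt (eq_top_of_card_eq GX e)
    have hrec := ih _ hlt rfl β hβgen k
    intro x hx
    rw [hLH, hLmem H hHinv]
    have h1 : GX ≤ H := by
      intro g hg
      have : (⟨g, hg⟩ : GX) ∈ (H.comap GX.subtype) := by
        refine (hrec.symm.le.trans ?_) (mem_top _)
        rw [closure_le]
        rintro _ ⟨c, rfl⟩
        exact subset_closure ⟨c, (hval k c).symm⟩
      exact this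
    exact h1 (hmemGX x hx)
  obtain ⟨M, ⟨hM, hAM⟩, huniq⟩ := existsUnique_of_sSup_ne_top A hAn hAne fun e => hLne (top_le_iff.1 (e ▸ hY))
  have hLM : LH ≤ M := by
    obtain ⟨M', hM', hLM'⟩ := (eq_top_or_exists_le_coatom LH).resolve_left hLne
    exact huniq M' ⟨hM', hAL.trans hLM'⟩ ▸ hLM'
  have hback : ∀ g, (inl (phi α g) : G ⋊[ι] ↥(Subgroup.zpowers α)) ∈ M → inl g ∈ M := by
    intro g hg
    rw [hphi] at hg
    have h1 : inl g * inr a0 * (inl g)⁻¹ ∈ M := by simpa using mul_mem hg (hAM haA)
    refine mem_of_cj_eq hM hAM hAn ?_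
    have hA1 : A ≤ cj (inl g)⁻¹ M := by
      have key : Subgroup.zpowers (inr a0 : G ⋊[ι] ↥(Subgroup.zpowers α)) ≤ cj (inl g)⁻¹ M :=
        zpowers_le.2 ⟨_, h1, by simp [mul_assoc]⟩
      rintro _ ⟨b, rfl⟩
      obtain ⟨i, hi⟩ := mem_zpowers_iff.1 b.2
      refine key (mem_zpowers_iff.2 ⟨i, ?_⟩)
      rw [← map_zpow]
      exact congrArg inr (Subtype.ext (by rw [SubgroupClass.coe_zpow]; exact hi))
    have h2 := huniq _ ⟨isCoatom_cj _ hM, hA1⟩
    conv_lhs => rw [← h2, cj_cj_inv]
  have hit : ∀ j, (∀ g, (inl ((phi α)^[j] g) : G ⋊[ι] ↥(Subgroup.zpowers α)) ∈ M) → ∀ g, inl g ∈ M := by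
    intro j
    induction j with
    | zero => exact fun h g => h g
    | succ j ihj => exact fun h => ihj fun g => hback _ (by
        have := h g
        rwa [Function.iterate_succ_apply'] at this)
  refine hM.1 (eq_top_iff.2 fun x _ => ?_)
  rw [← inl_left_mul_inr_right x]
  refine mul_mem (hit k (fun g => hLM ?_) _) (hAM ⟨_, rfl⟩)
  rw [hLH, hLmem H hHinv, left_inl]
  exact subset_closure ⟨g, rfl⟩

/-- Let G be a finite group and α an automorphism of G with [G, α] = G, that is, the elements g·α(g)⁻¹ generate G. Then for every k ≥ 1 the iterated commutators [g, α, …, α] with k entries α — the values of the k-th iterate of the map c ↦ c·α(c)⁻¹ — also generate G. -/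
theorem result {G : Type*} [Group G] [Finite G] (α : MulAut G) (hG : Subgroup.closure (Set.range (fun c : G => c * (α c)⁻¹)) = ⊤) (k : ℕ) (hk : 1 ≤ k) :
    Subgroup.closure (Set.range ((fun c : G => c * (α c)⁻¹)^[k])) = ⊤ := by
  exact aux _ rfl α hG k

end Cfsg.Agent.S3927
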