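import Cfsg.Statements.S3939
import Cfsg.Agent.S4034
import Cfsg.Agent.Lib.PGroup.Elements

set_option autoImplicit false
open Cfsg

namespace Cfsg.Agent.S3939

open scoped commutatorElement
open Subgroup

universe u

theorem subgroupOf_upperCentralSeries_le {G : Type u} [Group G] (H : Subgroup G) (n : ℕ) :
    (Subgroup.upperCentralSeries G n).subgroupOf H ≤ Subgroup.upperCentralSeries H n := by
  induction n with
  | zero =>
    intro x hx
    simp only [Subgroup.upperCentralSeries_zero, mem_subgroupOf, mem_bot] at hx ⊢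
    exact Subtype.ext hx
  | succ n ih =>
    intro x hx
    rw [Subgroup.mem_upperCentralSeries_succ_iff]
    intro y
    exact ih (mem_subgroupOf.mpr ((Subgroup.mem_upperCentralSeries_succ_iff.mp (mem_subgroupOf.mp hx)) y))

theorem mem_hypercenter_of_pPart {G : Type u} [Group G] [Finite G] {p : ℕ} [Fact p.Prime] (u : G)
    {k : ℕ} (hu : orderOf u = p ^ k) (hc : ∀ x : G, (orderOf x).Coprime p → x * u = u * x) :
    ∃ n, u ∈ Subgroup.upperCentralSeries G n := by
  have hup : IsPGroup p (zpowers u) := IsPGroup.of_card (n := k) (by rw [Nat.card_zpowers]; exact hu)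
  obtain ⟨P, hP⟩ := hup.exists_le_sylow
  set E := closure {x : G | (orderOf x).Coprime p} with hE
  have hEn : E.Normal := ⟨fun e he g => by
    have hle : E.map (MulAut.conj g).toMonoidHom ≤ E := by
      rw [hE, MonoidHom.map_closure]
      refine closure_mono ?_
      rintro _ ⟨x, hx, rfl⟩
      show (orderOf (MulAut.conj g x)).Coprime p
      rw [(MulAut.conj g).orderOf_eq x]; exact hx
    exact hle ⟨e, he, rfl⟩⟩
  have hEc : E ≤ centralizer ({u} : Set G) := (closure_le _).mpr fun x hx =>
    mem_centralizer_singleton_iff.mpr (hc x hx)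
  have htop : (P : Subgroup G) ⊔ E = ⊤ := by
    have hq := S4034.sylowFree_quotient_isPGroup (p := p) (K := E) fun x hx => subset_closure hx
    obtain ⟨a, ha⟩ := IsPGroup.iff_card.mp hq
    rw [← index_eq_card] at ha
    obtain ⟨b, -, hb⟩ := (Nat.dvd_prime_pow Fact.out).mp (ha ▸ index_dvd_of_le (le_sup_right : E ≤ (P : Subgroup G) ⊔ E))
    rw [← index_eq_one, hb]
    rcases Nat.eq_zero_or_pos b with rfl | hpos
    · rfl
    · exact absurd ((hb ▸ dvd_pow_self p hpos.ne').trans (index_dvd_of_le le_sup_left)) P.not_dvd_index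
  set N := normalClosure ({u} : Set G) with hN
  have hNP : N ≤ (P : Subgroup G) := by
    rw [hN, normalClosure]
    refine (closure_le _).mpr fun y hy => ?_
    obtain ⟨s, hs, hs'⟩ := Group.mem_conjugatesOfSet_iff.mp hy
    rw [Set.mem_singleton_iff] at hs
    subst hs
    obtain ⟨g, rfl⟩ := isConj_iff.mp hs'
    obtain ⟨a, ha, e, he, rfl⟩ := Subgroup.mem_sup_of_normal_right.mp (htop.symm ▸ mem_top g)
    have he' : e * s * e⁻¹ = s := mul_inv_eq_iff_eq_mul.mpr (mem_centralizer_singleton_iff.mp (hEc he))
    rw [show a * e * s * (a * e)⁻¹ = a * (e * s * e⁻¹) * a⁻¹ by simp [mul_assoc], he']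
    exact mul_mem (mul_mem ha (hP (mem_zpowers s))) (inv_mem ha)
  have hNE : ∀ d ∈ N, ∀ e ∈ E, e * d = d * e := by
    intro d hd e he
    have hle : N ≤ centralizer (E : Set G) := by
      have hn : (centralizer (E : Set G)).Normal := inferInstance
      exact normalClosure_le_normal (Set.singleton_subset_iff.mpr
        (mem_centralizer_iff.mpr fun e he => mem_centralizer_singleton_iff.mp (hEc he)))
    exact mem_centralizer_iff.mp (hle hd) e he
  let D : ℕ → Subgroup G := fun i => Nat.recOn i N fun _ X => ⁅X, (⊤ : Subgroup G)⁆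
  have hDn : ∀ i, (D i).Normal := by
    intro i
    induction i with
    | zero => exact normalClosure_normal
    | succ i ih => exact @Subgroup.commutator_normal _ _ (D i) ⊤ ih inferInstance
  have hDN : ∀ i, D i ≤ N := by
    intro i
    induction i with
    | zero => exact le_rfl
    | succ i ih =>
      have := hDn i
      exact (@Subgroup.commutator_le_left _ _ (D i) ⊤ (hDn i)).trans ih
  have hDP : ∀ i, D i ≤ (P : Subgroup G).lowerCentralSeries i := by
    intro i
    induction i with
    | zero => exact hNP
    | succ i ih =>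
      show ⁅D i, (⊤ : Subgroup G)⁆ ≤ _
      rw [Subgroup.commutator_le]
      intro d hd g _
      obtain ⟨a, ha, e, he, rfl⟩ := Subgroup.mem_sup_of_normal_right.mp (htop.symm ▸ mem_top g)
      have hae : ⁅d, a * e⁆ = ⁅d, a⁆ * (a * ⁅d, e⁆ * a⁻¹) := by simp [commutatorElement_def, mul_assoc]
      have h1 : ⁅d, e⁆ = 1 := commutatorElement_eq_one_iff_mul_comm.mpr (hNE d (hDN i hd) e he).symm
      rw [hae, h1, mul_one, mul_inv_cancel, mul_one, Subgroup.lowerCentralSeries_succ]
      exact commutator_mem_commutator (ih hd) ha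
  obtain ⟨m, hm⟩ := (Subgroup.isNilpotent_iff_lowerCentralSeries _).mp (P.2.isNilpotent)
  have hup' : ∀ j, j ≤ m → D (m - j) ≤ Subgroup.upperCentralSeries G j := by
    intro j
    induction j with
    | zero => intro _; exact (hDP m).trans (le_of_eq_of_le hm bot_le)
    | succ j ih =>
      intro hj x hx
      rw [Subgroup.mem_upperCentralSeries_succ_iff]
      intro y
      refine ih (by omega) ?_
      rw [show m - j = m - (j + 1) + 1 by omega]
      exact commutator_mem_commutator hx (mem_top y)
  exact ⟨m, hup' m le_rfl (by rw [Nat.sub_self]; exact subset_normalClosure rfl)⟩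


/-- In a finite group G the set of elements g such that the subgroup generated by g and x is nilpotent for every x ∈ G is exactly the hypercenter of G (the last term of the upper central series). -/
theorem result {G : Type*} [Group G] [Finite G] (g : G) :
    (∀ x : G, Group.IsNilpotent ↥(Subgroup.closure ({x, g} : Set G))) ↔ g ∈ ⨆ n : ℕ, Subgroup.upperCentralSeries G n := by
  classical
  constructor
  · intro h
    refine Cfsg.Lib.PGroup.mem_of_ordCompl_pow_mem fun q hq _ => ?_
    have : Fact q.Prime := ⟨hq⟩
    set u := g ^ (orderOf g / q ^ (orderOf g).factorization q)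
    have hu : orderOf u = q ^ (orderOf g).factorization q := Cfsg.Lib.PGroup.orderOf_ordCompl_pow hq
    obtain ⟨n, hn⟩ := mem_hypercenter_of_pPart u hu fun x hx => by
      have := h x
      set H := closure ({x, g} : Set G)
      have hxH : x ∈ H := subset_closure (by simp)
      have hgH : g ∈ H := subset_closure (by simp)
      have hc := Cfsg.Lib.PGroup.commute_of_coprime_orderOf (⟨x, hxH⟩ : H) ⟨u, pow_mem hgH _⟩ (by
        rw [← Subgroup.orderOf_coe, ← Subgroup.orderOf_coe]
        show (orderOf x).Coprime (orderOf u)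
        rw [hu]; exact hx.pow_right _)
      exact congrArg Subtype.val hc.eq
    exact le_iSup (fun n => Subgroup.upperCentralSeries G n) n hn
  · intro hg x
    obtain ⟨n, hn⟩ : ∃ n, g ∈ Subgroup.upperCentralSeries G n :=
      (Subgroup.mem_iSup_of_directed (Subgroup.upperCentralSeries_mono G).directed_le).mp hg
    set H := closure ({x, g} : Set G)
    have hxH : x ∈ H := subset_closure (by simp)
    have hgH : g ∈ H := subset_closure (by simp)
    set Z := Subgroup.upperCentralSeries H n
    have hgZ : (⟨g, hgH⟩ : H) ∈ Z := subgroupOf_upperCentralSeries_le H n (mem_subgroupOf.mpr hn)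
    refine ⟨n + 1, eq_top_iff.mpr fun a _ => ?_⟩
    have hgen : ∀ b : H, (b : H ⧸ Z) ∈ zpowers ((⟨x, hxH⟩ : H) : H ⧸ Z) := by
      have hle : H ≤ ((zpowers ((⟨x, hxH⟩ : H) : H ⧸ Z)).comap (QuotientGroup.mk' Z)).map H.subtype := by
        refine (closure_le _).mpr ?_
        rintro y (rfl | rfl)
        · exact ⟨⟨y, hxH⟩, mem_zpowers _, rfl⟩
        · exact ⟨⟨y, hgH⟩, by
            rw [SetLike.mem_coe, mem_comap, QuotientGroup.mk'_apply, (QuotientGroup.eq_one_iff _).mpr hgZ]
            exact one_mem _, rfl⟩
      intro b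
      obtain ⟨c, hc, hcb⟩ := hle b.2
      exact Subtype.ext hcb ▸ hc
    rw [Subgroup.mem_upperCentralSeries_succ_iff]
    intro b
    rw [← QuotientGroup.eq_one_iff]
    obtain ⟨i, hi⟩ := hgen a
    obtain ⟨j, hj⟩ := hgen b
    simp only [QuotientGroup.mk_mul, QuotientGroup.mk_inv, commutatorElement_def]
    rw [← hi, ← hj]
    group

end Cfsg.Agent.S3939
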