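import Cfsg.Statements.S3941
import Mathlib.GroupTheory.SpecificGroups.Alternating.Simple
import Mathlib.GroupTheory.Sylow
-- import your own Cfsg.Agent.* helpers here

set_option autoImplicit false
open Cfsg

namespace Cfsg.Agent.S3941

open Equiv

theorem no_normal_sylow {p m : ℕ} [Fact p.Prime] (hm : 4 ≤ m) (hpm : p ≤ m) (hp : p ≠ 2)
    (S : Sylow p ↥(alternatingGroup (Fin m))) : ¬ (S : Subgroup ↥(alternatingGroup (Fin m))).Normal := by
  intro hn
  rcases (by omega : m = 4 ∨ 5 ≤ m) with rfl | hm5
  · obtain rfl : p = 3 := by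
      have := (Fact.out : p.Prime).two_le
      interval_cases p
      · omega
      · rfl
      · exact absurd (Fact.out : (4 : ℕ).Prime) (by decide)
    let a : ↥(alternatingGroup (Fin 4)) := ⟨swap 0 1 * swap 1 2, by rw [Perm.mem_alternatingGroup]; decide⟩
    let b : ↥(alternatingGroup (Fin 4)) := ⟨swap 0 1 * swap 1 3, by rw [Perm.mem_alternatingGroup]; decide⟩
    have hmem : ∀ c : ↥(alternatingGroup (Fin 4)), c ^ 3 = 1 → c ≠ 1 → c ∈ (S : Subgroup _) := by
      intro c hc hc1
      have hpz : IsPGroup 3 ↥(Subgroup.zpowers c) := IsPGroup.of_card (n := 1)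
        (by rw [Nat.card_zpowers, orderOf_eq_prime hc hc1, pow_one])
      obtain ⟨R, hR⟩ := hpz.exists_le_sylow
      have := Sylow.unique_of_normal S hn
      rw [Subsingleton.elim R S] at hR
      exact hR (Subgroup.mem_zpowers c)
    have hab : a * b ∈ (S : Subgroup _) :=
      mul_mem (hmem a (by decide) (by decide)) (hmem b (by decide) (by decide))
    obtain ⟨k, hk⟩ := IsPGroup.iff_orderOf.mp S.isPGroup' ⟨a * b, hab⟩
    rw [Subgroup.orderOf_mk, orderOf_eq_prime (p := 2) (by decide) (by decide)] at hk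
    rcases Nat.eq_zero_or_pos k with h | h
    · subst h; simp at hk
    · exact absurd ((Nat.prime_dvd_prime_iff_eq Nat.prime_three Nat.prime_two).mp
        (hk ▸ dvd_pow_self 3 h.ne')) (by norm_num)
  · have := alternatingGroup.isSimpleGroup (α := Fin m) (by simpa using hm5)
    have : Nontrivial (Fin m) := Fin.nontrivial_iff_two_le.mpr (by omega)
    have hcard : 2 * Nat.card ↥(alternatingGroup (Fin m)) = m.factorial := by
      rw [two_mul_nat_card_alternatingGroup, Nat.card_perm, Nat.card_fin]
    have hpdvd : p ∣ Nat.card ↥(alternatingGroup (Fin m)) := by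
      have := Nat.dvd_factorial (Fact.out : p.Prime).pos hpm
      rw [← hcard] at this
      exact ((Nat.coprime_primes Fact.out Nat.prime_two).mpr hp).dvd_of_dvd_mul_left this
    rcases hn.eq_bot_or_eq_top with h | h
    · exact S.ne_bot_of_dvd_card hpdvd h
    · obtain ⟨k, hk⟩ := IsPGroup.iff_card.mp S.isPGroup'
      rw [h, Subgroup.card_top] at hk
      have h4 : 4 ∣ m.factorial := dvd_trans (by decide) (Nat.factorial_dvd_factorial hm)
      rw [← hcard, hk] at h4
      have h2 : 2 ∣ p ^ k := Nat.dvd_of_mul_dvd_mul_left (show 0 < 2 by norm_num) h4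
      exact hp ((Nat.prime_dvd_prime_iff_eq Nat.prime_two Fact.out).mp
        (Nat.prime_two.dvd_of_dvd_pow h2)).symm


/-- Let n ≥ 5 and p an odd prime with p ≤ n, and suppose that every proper subgroup of the alternating group of degree n whose order is divisible by p has a normal Sylow p-subgroup. Then n = p. -/
theorem result (n p : ℕ) (hn : 5 ≤ n) [Fact p.Prime] (hp : p ≠ 2) (hpn : p ≤ n)
    (h : ∀ H : Subgroup ↥(alternatingGroup (Fin n)), H ≠ ⊤ → p ∣ Nat.card ↥H → Cfsg.IsPClosed p ↥H) : n = p := by
  classical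
  by_contra hne
  obtain ⟨m, rfl⟩ : ∃ m, n = m + 1 := ⟨n - 1, by omega⟩
  let ι : Fin m ≃ {x : Fin (m + 1) // x ≠ Fin.last m} := (finSuccAboveEquiv (Fin.last m))
  let e : Perm (Fin m) →* Perm (Fin (m + 1)) :=
    Equiv.Perm.ofSubtype.comp (Equiv.permCongrHom ι).toMonoidHom
  have hsign : ∀ σ, Perm.sign (e σ) = Perm.sign σ := fun σ => by
    change Perm.sign (Equiv.Perm.ofSubtype (ι.permCongr σ)) = Perm.sign σ
    rw [Perm.sign_ofSubtype, Perm.sign_permCongr]
  have he : Function.Injective e :=
    Equiv.Perm.ofSubtype_injective.comp (Equiv.permCongrHom ι).injective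
  let φ : ↥(alternatingGroup (Fin m)) →* ↥(alternatingGroup (Fin (m + 1))) :=
    (e.comp (alternatingGroup (Fin m)).subtype).codRestrict _ fun x =>
      Perm.mem_alternatingGroup.mpr ((hsign x).trans (Perm.mem_alternatingGroup.mp x.2))
  have hφ : Function.Injective φ := fun a b hab =>
    Subtype.ext (he (congrArg Subtype.val hab))
  have : Nontrivial (Fin m) := Fin.nontrivial_iff_two_le.mpr (by omega)
  have : Nontrivial (Fin (m + 1)) := Fin.nontrivial_iff_two_le.mpr (by omega)
  have hc1 : 2 * Nat.card ↥(alternatingGroup (Fin m)) = m.factorial := by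
    rw [two_mul_nat_card_alternatingGroup, Nat.card_perm, Nat.card_fin]
  have hc2 : 2 * Nat.card ↥(alternatingGroup (Fin (m + 1))) = (m + 1).factorial := by
    rw [two_mul_nat_card_alternatingGroup, Nat.card_perm, Nat.card_fin]
  have hcr : Nat.card φ.range = Nat.card ↥(alternatingGroup (Fin m)) :=
    (Nat.card_congr (MonoidHom.ofInjective hφ).toEquiv).symm
  have hpdvd : p ∣ Nat.card φ.range := by
    have := Nat.dvd_factorial (Fact.out : p.Prime).pos (show p ≤ m by omega)
    rw [← hc1, ← hcr] at this
    exact ((Nat.coprime_primes Fact.out Nat.prime_two).mpr hp).dvd_of_dvd_mul_left this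
  have hne' : φ.range ≠ ⊤ := by
    intro h
    rw [h, Subgroup.card_top] at hcr
    rw [hcr, hc1, Nat.factorial_succ] at hc2
    have := Nat.factorial_pos m
    nlinarith
  obtain ⟨S⟩ : Nonempty (Sylow p ↥(alternatingGroup (Fin m))) := inferInstance
  have hH := h φ.range hne' hpdvd
  refine no_normal_sylow (by omega) (by omega) hp S ?_
  let T : Sylow p φ.range := S.mapSurjective (f := φ.rangeRestrict) φ.rangeRestrict_surjective
  have hT := hH T
  have : (S : Subgroup _) = (T : Subgroup φ.range).comap φ.rangeRestrict := by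
    rw [Sylow.coe_mapSurjective, Subgroup.comap_map_eq_self_of_injective
      (MonoidHom.rangeRestrict_injective_iff.mpr hφ)]
  rw [this]
  exact hT.comap _

end Cfsg.Agent.S3941
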