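import Cfsg.Statements.S4249
import Cfsg.Agent.Lib.Thompson.FixedPointFree
import Cfsg.Agent.Lib.Solv.Nilpotent

set_option autoImplicit false
set_option linter.style.haveILetI false
open Cfsg

namespace Cfsg.Agent.S4249

open Subgroup

universe u

variable {X : Type u} [Group X] [Finite X] {p : ℕ}

open scoped IsMulCommutative in
theorem mul_pow_eq_prod {V : Subgroup X} [V.Normal] [IsMulCommutative V] (z : X) (v : V) (n : ℕ) :
    ∃ w : V, ((v : X) * z) ^ n = (w : X) * z ^ n ∧
      w = ∏ i ∈ Finset.range n, MulAut.conjNormal (z ^ i) v := by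
  induction n with
  | zero => exact ⟨1, by simp, by simp⟩
  | succ n ih =>
    obtain ⟨w, hw, hw'⟩ := ih
    refine ⟨w * MulAut.conjNormal (z ^ n) v, ?_, ?_⟩
    · rw [pow_succ, hw, Subgroup.coe_mul, MulAut.conjNormal_apply, pow_succ z]
      simp [mul_assoc]
    · rw [Finset.prod_range_succ, ← hw']

open scoped IsMulCommutative in
/-- If all elements of the cosets `V g y` have order dividing `p`, then `Q` centralizes `V`. -/
theorem le_centralizer_of_exponent (hp : p.Prime) {V Q : Subgroup X} [V.Normal] [IsMulCommutative V]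
    {y : X} (hy : y ∈ normalizer (Q : Set X)) (hgy : ∀ g ∈ Q, (g * y) ^ p = 1)
    (hvgy : ∀ g ∈ Q, ∀ v ∈ V, (v * (g * y)) ^ p = 1)
    (hcop : (Nat.card Q).Coprime (Nat.card V)) : Q ≤ centralizer (V : Set X) := by
  classical
  have := Fintype.ofFinite Q
  let c : X →* MulAut V := MulAut.conjNormal
  have hzero : ∀ (v : V) (g : Q), ∏ i ∈ Finset.range p, c (((g : X) * y) ^ i) v = 1 := by
    intro v g
    obtain ⟨w, hw, hw'⟩ := mul_pow_eq_prod ((g : X) * y) v p
    rw [hvgy g g.2 v v.2, hgy g g.2, mul_one] at hw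
    rw [← hw']
    exact Subtype.ext hw.symm
  have hmem : ∀ (i : ℕ) (g : Q), ((g : X) * y) ^ i * (y ^ i)⁻¹ ∈ Q := by
    intro i g
    induction i with
    | zero => simp
    | succ i ih =>
      have h1 : ((g : X) * y) ^ (i + 1) * (y ^ (i + 1))⁻¹ =
          (g : X) * (y * (((g : X) * y) ^ i * (y ^ i)⁻¹) * y⁻¹) := by
        rw [pow_succ', pow_succ']
        group
      rw [h1]
      exact Q.mul_mem g.2 ((mem_normalizer_iff.mp hy _).mp ih)
  intro q hq
  rw [mem_centralizer_iff]
  intro v hv
  let v' : V := ⟨v, hv⟩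
  let f : ℕ → V := fun i => ∏ g : Q, c (((g : X) * y) ^ i) v'
  have hf : ∏ i ∈ Finset.range p, f i = 1 := by
    rw [Finset.prod_comm]
    exact Finset.prod_eq_one fun g _ => hzero v' g
  have hfix : ∀ i, i + 1 < p → c q (f (i + 1)) = f (i + 1) := by
    intro i hi
    let d : Q → Q := fun g => ⟨((g : X) * y) ^ (i + 1) * (y ^ (i + 1))⁻¹, hmem _ g⟩
    have hd : Function.Bijective d := by
      refine Finite.injective_iff_bijective.mp fun a b hab => ?_
      have h1 : ((a : X) * y) ^ (i + 1) = ((b : X) * y) ^ (i + 1) :=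
        mul_right_cancel (congrArg Subtype.val hab)
      have hco : (i + 1).Coprime p := ((hp.coprime_iff_not_dvd.mpr
        (Nat.not_dvd_of_pos_of_lt (Nat.succ_pos i) hi)).symm)
      obtain ⟨m, hm⟩ := Nat.exists_mul_mod_eq_one_of_coprime hco hp.one_lt
      have h2 : ∀ g : Q, (((g : X) * y) ^ (i + 1)) ^ m = (g : X) * y := fun g => by
        rw [← pow_mul, pow_eq_pow_mod _ (hgy g g.2), hm.2, pow_one]
      exact Subtype.ext (mul_right_cancel ((h2 a).symm.trans (h1 ▸ h2 b)))
    have h3 : f (i + 1) = ∏ k : Q, c (k : X) (c (y ^ (i + 1)) v') :=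
      Fintype.prod_bijective d hd _ _ fun g => by
        rw [← MulAut.mul_apply, ← map_mul, inv_mul_cancel_right]
    rw [h3, map_prod]
    refine Fintype.prod_equiv (Equiv.mulLeft ⟨q, hq⟩) _ _ fun k => ?_
    simp [map_mul]
  obtain ⟨m, hm⟩ := Nat.exists_eq_succ_of_ne_zero hp.ne_zero
  rw [hm, Finset.prod_range_succ'] at hf
  have hf0 : f 0 = v' ^ Nat.card Q := by
    simp [f, Nat.card_eq_fintype_card]
  have hprod : c q (∏ i ∈ Finset.range m, f (i + 1)) = ∏ i ∈ Finset.range m, f (i + 1) := by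
    rw [map_prod]
    exact Finset.prod_congr rfl fun i hi => hfix i (by have := Finset.mem_range.mp hi; omega)
  have hv0 : c q (f 0) = f 0 := by
    rw [eq_inv_of_mul_eq_one_right hf, map_inv, hprod]
  rw [hf0, map_pow] at hv0
  have := (powCoprime hcop.symm).injective hv0
  have h' : q * v * q⁻¹ = v := congrArg Subtype.val this
  exact (mul_inv_eq_iff_eq_mul.mp h').symm

/-- A normal subgroup of index `p` with all outside elements of order `p` is nilpotent. -/
theorem isNilpotent_of_outside_exponent (hp : p.Prime) : ∀ {X : Type u} [Group X] [Finite X]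
    (H : Subgroup X), H.Normal → H.index = p → (∀ x ∉ H, x ^ p = 1) → Group.IsNilpotent H := by
  intro X iX fX H hH hidx hout
  induction hn : Nat.card X using Nat.strong_induction_on generalizing X with
  | _ n ih =>
  have hHtop : H ≠ ⊤ := fun h => hp.ne_one (hidx ▸ index_eq_one.mpr h)
  have hcardX : Nat.card H * p = Nat.card X := hidx ▸ H.card_mul_index
  -- proper invariant subgroups
  have hsub : ∀ (K : Subgroup X) (y : X), K ≤ H → K ≠ H → y ∉ H →
      y ∈ normalizer (K : Set X) → Group.IsNilpotent K := by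
    intro K y hKH hKne hyH hyK
    have hyp := hout y hyH
    have hyo : orderOf y = p := by
      have : Fact p.Prime := ⟨hp⟩
      exact orderOf_eq_prime hyp fun h => hyH (h ▸ one_mem H)
    have hzH : ∀ z ∈ zpowers y, z ∈ H → z = 1 := by
      intro z hz hzH
      by_contra hz1
      have hgen : zpowers z = zpowers y := by
        refine eq_of_le_of_card_ge (zpowers_le.mpr hz) ?_
        rw [Nat.card_zpowers, Nat.card_zpowers, hyo]
        have hd := orderOf_dvd_natCard (zpowers y) hz
        rw [Nat.card_zpowers, hyo] at hd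
        exact ((hp.eq_one_or_self_of_dvd _ hd).resolve_left
          (fun h => hz1 (orderOf_eq_one_iff.mp h))).ge
      exact hyH (zpowers_le.mpr hzH (hgen ▸ mem_zpowers y))
    have hdisj : Disjoint K (zpowers y) := disjoint_iff.mpr (eq_bot_iff.mpr fun z hz =>
      mem_bot.mpr (hzH z hz.2 (hKH hz.1)))
    have hyN : zpowers y ≤ normalizer (K : Set X) := zpowers_le.mpr hyK
    set L := K ⊔ zpowers y with hL
    have hKL : K ≤ L := le_sup_left
    have hcardL : Nat.card L = Nat.card K * p := by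
      rw [hL, Cfsg.Lib.Coprime.card_sup_of_disjoint hyN hdisj, Nat.card_zpowers, hyo]
    have hlt : Nat.card L < n := by
      rw [hcardL, ← hn, ← hcardX]
      exact Nat.mul_lt_mul_of_pos_right (lt_of_le_of_ne (card_le_of_le hKH)
        fun h => hKne (eq_of_le_of_card_ge hKH h.ge)) hp.pos
    have hnorm : (K.subgroupOf L).Normal :=
      (normal_subgroupOf_iff_le_normalizer hKL).mpr (sup_le le_normalizer hyN)
    have hidxL : (K.subgroupOf L).index = p := by
      have h := (K.subgroupOf L).card_mul_index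
      rw [Nat.card_congr (subgroupOfEquivOfLe hKL).toEquiv, hcardL] at h
      exact mul_left_cancel₀ Nat.card_pos.ne' h
    have hnil := ih _ hlt (K.subgroupOf L) hnorm hidxL (fun l hl => by
      refine Subtype.ext ?_
      show (l : X) ^ p = 1
      refine hout _ fun hlH => hl ?_
      obtain ⟨k, hk, z, hz, he⟩ := Cfsg.Lib.Coprime.exists_mul_of_mem_sup hyN l.2
      have : z = 1 := hzH z hz (by
        have h1 := H.mul_mem (H.inv_mem (hKH hk)) hlH
        rwa [he, inv_mul_cancel_left] at h1)
      rw [mem_subgroupOf, he, this, mul_one]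
      exact hk) rfl
    exact (Group.isNilpotent_congr (subgroupOfEquivOfLe hKL)).mp hnil
  have hfrattini : ∀ (r : ℕ) [Fact r.Prime] (R : Sylow r H), ∃ y, y ∉ H ∧
      y ∈ normalizer (((R : Subgroup H).map H.subtype : Subgroup X) : Set X) := by
    intro r _ R
    by_contra hne
    push Not at hne
    have h := Sylow.normalizer_sup_eq_top R
    refine hHtop (top_le_iff.mp (h.ge.trans (sup_le ?_ le_rfl)))
    exact fun y hy => by_contra fun hyH => hne y hyH hy
  have hquot : ∀ (N : Subgroup X) [N.Normal], N ≤ H → N ≠ ⊥ →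
      Group.IsNilpotent (H.map (QuotientGroup.mk' N)) := by
    intro N hN hNH hN0
    have hs := QuotientGroup.mk'_surjective N
    refine ih _ (hn ▸ Cfsg.Lib.Core.card_quotient_lt hN0) (H.map (QuotientGroup.mk' N))
      (hH.map _ hs) ?_ (fun x hx => ?_) rfl
    · rw [index_map_eq H hs (by rw [QuotientGroup.ker_mk']; exact hNH), hidx]
    · obtain ⟨z, rfl⟩ := hs x
      rw [← map_pow, hout z fun hz => hx ⟨z, hz, rfl⟩, map_one]
  by_cases hno : ∀ N : Subgroup X, N.Normal → N ≤ H → N = ⊥ ∨ N = H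
  · -- no normal subgroup of `X` strictly inside `H`
    obtain hG | ⟨r, hr, hr2, hd⟩ : IsPGroup 2 H ∨ ∃ r, r.Prime ∧ r ≠ 2 ∧ r ∣ Nat.card H := by
      by_cases h : ∃ r, r.Prime ∧ r ≠ 2 ∧ r ∣ Nat.card H
      · exact Or.inr h
      · push Not at h
        exact Or.inl (IsPGroup.of_card (Nat.eq_prime_pow_of_unique_prime_dvd Nat.card_pos.ne'
          fun {d} hd hdvd => by_contra fun hne => h d hd hne hdvd))
    · have := Fact.mk Nat.prime_two
      exact hG.isNilpotent
    have : Fact r.Prime := ⟨hr⟩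
    obtain ⟨R⟩ : Nonempty (Sylow r H) := inferInstance
    obtain ⟨y, hyH, hyR⟩ := hfrattini r R
    set R₁ := (R : Subgroup H).map H.subtype with hR₁
    have hR0 : (R : Subgroup H) ≠ ⊥ := R.ne_bot_of_dvd_card hd
    have hR₁p : IsPGroup r R₁ := R.2.map _
    by_contra hnil
    have hJmap := Cfsg.Lib.Thompson.map_thompsonSubgroupOf (p := r) H.subtype (R : Subgroup H)
      H.subtype_injective.injOn
    have hZmap := Cfsg.Lib.Thompson.map_zenter H.subtype (R : Subgroup H) H.subtype_injective.injOn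
    have hkey : ∀ K : Subgroup H, K ≤ (R : Subgroup H) → K ≠ ⊥ →
        y ∈ normalizer ((K.map H.subtype : Subgroup X) : Set X) →
        Cfsg.HasNormalPComplement r (normalizer (K : Set H)) := by
      intro K hKR hK0 hyK
      set M := normalizer ((K.map H.subtype : Subgroup X) : Set X) with hM
      have hMy : y ∈ normalizer ((H ⊓ M : Subgroup X) : Set X) :=
        Subgroup.inf_normalizer_le_normalizer_inf
          ⟨by rw [normalizer_eq_top_iff.mpr hH]; trivial, le_normalizer hyK⟩
      have hne : H ⊓ M ≠ H := by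
        intro h
        have htop : M = ⊤ := by
          have hle : H ≤ M := h ▸ inf_le_right
          have hltM : Nat.card H < Nat.card M := lt_of_le_of_ne (card_le_of_le hle) fun h' =>
            hyH ((eq_of_le_of_card_ge hle h'.ge).symm ▸ hyK)
          refine eq_top_of_card_eq _ ?_
          have h1 : H.index = H.relIndex M * M.index := (relIndex_mul_index hle).symm
          rw [hidx] at h1
          rcases hp.eq_one_or_self_of_dvd M.index ⟨H.relIndex M, by rw [h1, mul_comm]⟩ with h2 | h2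
          · rw [← M.card_mul_index, h2, mul_one]
          · exfalso
            have h4 := M.card_mul_index
            rw [h2] at h4
            exact hltM.ne (mul_right_cancel₀ hp.ne_zero (hcardX.trans h4.symm))
        rcases hno _ (normalizer_eq_top_iff.mp htop) (map_subtype_le _) with h1 | h1
        · exact hK0 ((Subgroup.map_eq_bot_iff_of_injective _ H.subtype_injective).mp h1)
        · exact hnil (((h1 ▸ hR₁p.to_le (map_mono hKR) : IsPGroup r H)).isNilpotent)
      have hnilHM := hsub _ y inf_le_left hne hyH hMy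
      have hnpc : Cfsg.HasNormalPComplement r (H ⊓ M : Subgroup X) :=
        Cfsg.Lib.Thompson.hasNormalPComplement_of_isNilpotent
      have hmem : ∀ z : normalizer (K : Set H), ((z : H) : X) ∈ H ⊓ M := fun z =>
        ⟨(z : H).2, le_normalizer_map H.subtype ⟨z, z.2, rfl⟩⟩
      refine Cfsg.Lib.Fusion.hasNormalPComplement_of_injective
        ((H.subtype.comp (normalizer (K : Set H)).subtype).codRestrict _ hmem) ?_ hnpc
      exact fun a b hab => Subtype.ext (H.subtype_injective (congrArg Subtype.val hab :))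
    have h1 := hkey _ (Cfsg.Lib.Thompson.thompsonSubgroupOf_le (p := r) (R : Subgroup H))
      (Cfsg.Lib.Thompson.thompsonSubgroupOf_ne_bot R.2 hR0)
      (by rw [hJmap]; exact Cfsg.Lib.Thompson.normalizer_le_normalizer_thompsonSubgroupOf _ hyR)
    have h2 := hkey _ inf_le_left (Cfsg.Lib.Thompson.zenter_ne_bot R.2 hR0)
      (by rw [hZmap]; exact Cfsg.Lib.Thompson.normalizer_le_normalizer_zenter _ hyR)
    have hnpc := Cfsg.Lib.Thompson.thompson_normal_p_complement hr2 R
      ⟨h1, Cfsg.Lib.Fusion.hasNormalPComplement_of_le (centralizer_le_normalizer _) h2⟩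
    have hchar : ((Cfsg.pResidual r H).map H.subtype).Normal := by
      refine ⟨fun x hx g => ?_⟩
      obtain ⟨z, hz, rfl⟩ := hx
      exact ⟨MulAut.conjNormal g z, Cfsg.Lib.Fusion.map_pResidual_le
        (MulAut.conjNormal g : MulAut H).toMonoidHom ⟨z, hz, rfl⟩, MulAut.conjNormal_apply g z⟩
    rcases hno _ hchar (map_subtype_le _) with h | h
    · obtain ⟨k, hk⟩ := Cfsg.Lib.Fusion.index_pResidual_eq_pow (p := r) (G := H)
      rw [(Subgroup.map_eq_bot_iff_of_injective _ H.subtype_injective).mp h, index_bot] at hk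
      exact hnil (IsPGroup.of_card hk).isNilpotent
    · have hc := Cfsg.Lib.Fusion.hasNormalPComplement_iff_coprime.mp hnpc
      rw [← card_map_of_injective H.subtype_injective, h] at hc
      exact hr.coprime_iff_not_dvd.mp hc.symm hd
  push Not at hno
  obtain ⟨N, hN, hNH, hN0, hNne⟩ := hno
  obtain ⟨x, hx⟩ : ∃ x, x ∉ H := by
    by_contra h
    push Not at h
    exact hHtop (top_le_iff.mp fun z _ => h z)
  have hNnil := hsub N x hNH hNne hx ((normalizer_eq_top_iff.mpr hN).ge (mem_top x))
  -- an abelian normal subgroup of `X` of prime exponent inside `N`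
  have : Nontrivial N := (nontrivial_iff_ne_bot N).mpr hN0
  set Z := (Subgroup.center N).map N.subtype with hZ
  have hZ0 : Z ≠ ⊥ := by
    rw [hZ, ne_eq, Subgroup.map_eq_bot_iff_of_injective _ N.subtype_injective]
    intro h
    have h1 := Cfsg.Lib.Solv.inf_center_ne_bot_of_isNilpotent (G := N) (N := ⊤) top_ne_bot
    rw [top_inf_eq] at h1
    exact h1 h
  have hZn : Z.Normal := Cfsg.Lib.Core.normal_map_char_of_normal _
  obtain ⟨s, hs, hsd⟩ := Nat.exists_prime_and_dvd
    (fun h => hZ0 (card_eq_one.mp h) : Nat.card Z ≠ 1)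
  have : Fact s.Prime := ⟨hs⟩
  set V : Subgroup X := closure {z | z ∈ Z ∧ z ^ s = 1} with hVdef
  have hVEA : Cfsg.IsElementaryAbelian s V := Cfsg.Lib.Thompson.isEA_closure
    (fun a ha b hb => by
      obtain ⟨a', ha', rfl⟩ := ha.1
      obtain ⟨b', -, rfl⟩ := hb.1
      exact ((mem_center_iff.mp ha' b' : b' * a' = a' * b') |> congrArg N.subtype).symm)
    (fun a ha => ha.2)
  have := hVEA.1
  have hVZ : V ≤ Z := (closure_le _).mpr fun z hz => hz.1
  have hVH : V ≤ H := (hVZ.trans (map_subtype_le _)).trans hNH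
  have hV0 : V ≠ ⊥ := fun h => by
    obtain ⟨z, hz⟩ := exists_prime_orderOf_dvd_card' (G := Z) s hsd
    have h1 : (z : X) ∈ V := subset_closure ⟨z.2, by rw [← hz, ← Subgroup.orderOf_coe, pow_orderOf_eq_one]⟩
    rw [h, mem_bot] at h1
    rw [← Subgroup.orderOf_coe, h1, orderOf_one] at hz
    exact hs.one_lt.ne hz
  have hVn : V.Normal := ⟨fun v hv g => subset_closure
    ⟨hZn.conj_mem v (hVZ hv) g, by rw [conj_pow, hVEA.2 v hv, mul_one, mul_inv_cancel]⟩⟩
  have hQn := hquot V hVH hV0
  have hVp : IsPGroup s V := Cfsg.Lib.Thompson.isPGroup_of_isEA hVEA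
  set q := (QuotientGroup.mk' V).subgroupMap H with hq
  have hqs : Function.Surjective q := (QuotientGroup.mk' V).subgroupMap_surjective H
  have hker : q.ker = V.subgroupOf H := by
    ext z
    rw [MonoidHom.mem_ker, mem_subgroupOf, ← QuotientGroup.eq_one_iff, ← OneMemClass.coe_eq_one]
    rfl
  refine (Group.isNilpotent_of_finite_tfae.out 0 3 rfl rfl).mpr fun r hr P => ?_
  have hmapn : ∀ T : Sylow r H, ((T : Subgroup H).map q).Normal := fun T => by
    have := (Group.isNilpotent_of_finite_tfae.out 0 3 rfl rfl).mp hQn r hr (T.mapSurjective hqs)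
    rwa [Sylow.coe_mapSurjective] at this
  have hVHn : (V.subgroupOf H).Normal := hVn.subgroupOf H
  have hVHp : IsPGroup s (V.subgroupOf H) := hVp.of_equiv (subgroupOfEquivOfLe hVH).symm
  by_cases hrs : r = s
  · subst hrs
    have hle : q.ker ≤ (P : Subgroup H) := hker.trans_le (hVHp.le_sylow_of_normal P)
    rw [← comap_map_eq_self hle]
    exact (hmapn P).comap q
  obtain ⟨y, hyH, hyP⟩ := hfrattini r P
  obtain ⟨j, hj⟩ := IsPGroup.iff_card.mp P.2
  obtain ⟨i, hi⟩ := IsPGroup.iff_card.mp hVp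
  have hP₁H : (P : Subgroup H).map H.subtype ≤ H := map_subtype_le _
  have houtP : ∀ g ∈ (P : Subgroup H).map H.subtype, g * y ∉ H := fun g hg h => hyH (by
    have h1 := H.mul_mem (H.inv_mem (hP₁H hg)) h
    rwa [inv_mul_cancel_left] at h1)
  have hPV := le_centralizer_of_exponent hp (V := V) hyP (fun g hg => hout _ (houtP g hg))
    (fun g hg v hv => hout _ fun h => houtP g hg (by
      have h1 := H.mul_mem (H.inv_mem (hVH hv)) h
      rwa [inv_mul_cancel_left] at h1))
    (by
      rw [card_map_of_injective H.subtype_injective, hj, hi]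
      exact Nat.Coprime.pow j i ((Nat.coprime_primes hr.out hs).mpr hrs))
  refine ⟨fun z hz g => ?_⟩
  have h1 : g * z * g⁻¹ ∈ (P : Subgroup H) ⊔ V.subgroupOf H := by
    rw [← hker, ← Subgroup.comap_map_eq, mem_comap, map_mul, map_mul, map_inv]
    exact (hmapn P).conj_mem _ ⟨z, hz, rfl⟩ _
  obtain ⟨k, hk, w, hw, he⟩ := mem_sup_of_normal_right.mp h1
  have hcomm : Commute k w := Subtype.ext
    ((mem_centralizer_iff.mp (hPV ⟨k, hk, rfl⟩) w hw).symm)
  have hcop : (Nat.card (P : Subgroup H)).Coprime (Nat.card (V.subgroupOf H)) := by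
    rw [hj, Nat.card_congr (subgroupOfEquivOfLe hVH).toEquiv, hi]
    exact Nat.Coprime.pow j i ((Nat.coprime_primes hr.out hs).mpr hrs)
  have hpow : ∀ t ∈ (P : Subgroup H), t ^ Nat.card (P : Subgroup H) = 1 := fun t ht =>
    congrArg Subtype.val (pow_card_eq_one' (x := (⟨t, ht⟩ : (P : Subgroup H))))
  have h2 : w ^ Nat.card (P : Subgroup H) = 1 := by
    have hx1 : (g * z * g⁻¹) ^ Nat.card (P : Subgroup H) = 1 := by
      rw [conj_pow, hpow z hz, mul_one, mul_inv_cancel]
    rwa [← he, hcomm.mul_pow, hpow k hk, one_mul] at hx1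
  have h3 : w = 1 := orderOf_eq_one_iff.mp (Nat.eq_one_of_dvd_coprimes hcop
    (orderOf_dvd_of_pow_eq_one h2) (orderOf_dvd_natCard (V.subgroupOf H) hw))
  rw [← he, h3, mul_one]
  exact hk

/-- Let G be a finite group and p a prime such that G is not a p-group, and suppose the Hughes subgroup H_p(G), generated by all elements g with g^p ≠ 1, is a proper subgroup. Then H_p(G) is nilpotent and has index p in G. -/
theorem result {G : Type*} [Group G] [Finite G] (p : ℕ) (hp : p.Prime) (hG : ¬ IsPGroup p G)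
    (hH : Subgroup.closure {g : G | g ^ p ≠ 1} ≠ ⊤) :
    Group.IsNilpotent (Subgroup.closure {g : G | g ^ p ≠ 1}) ∧ (Subgroup.closure {g : G | g ^ p ≠ 1}).index = p := by
  have : Fact p.Prime := ⟨hp⟩
  set H := Subgroup.closure {g : G | g ^ p ≠ 1} with hHdef
  have hout : ∀ x ∉ H, x ^ p = 1 := fun x hx => by_contra fun h => hx (Subgroup.subset_closure h)
  have hHn : H.Normal := by
    refine ⟨fun z hz g => ?_⟩
    have hle : H.map (MulAut.conj g).toMonoidHom ≤ H := by
      rw [hHdef, MonoidHom.map_closure, Subgroup.closure_le]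
      rintro _ ⟨w, hw, rfl⟩
      refine Subgroup.subset_closure fun h => hw ((MulAut.conj g).injective ?_)
      rw [map_pow, map_one]
      exact h
    exact hle ⟨z, hz, rfl⟩
  obtain ⟨x, hx⟩ : ∃ x, x ∉ H := by
    by_contra h
    push Not at h
    exact hH (top_le_iff.mp fun z _ => h z)
  have hxo : orderOf x = p := orderOf_eq_prime (hout x hx) fun h => hx (h ▸ one_mem H)
  -- nilpotency
  have hnil : Group.IsNilpotent H := by
    set L := H ⊔ Subgroup.zpowers x with hL
    have hHL : H ≤ L := le_sup_left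
    have hd : Disjoint H (Subgroup.zpowers x) := by
      rw [disjoint_comm, disjoint_iff, eq_bot_iff]
      rintro z ⟨hz, hzH⟩
      rw [Subgroup.mem_bot]
      by_contra hz1
      have hd := Subgroup.orderOf_dvd_natCard (Subgroup.zpowers x) hz
      rw [Nat.card_zpowers, hxo] at hd
      have hgen : Subgroup.zpowers z = Subgroup.zpowers x := by
        refine Subgroup.eq_of_le_of_card_ge (Subgroup.zpowers_le.mpr hz) ?_
        rw [Nat.card_zpowers, Nat.card_zpowers, hxo]
        exact ((hp.eq_one_or_self_of_dvd _ hd).resolve_left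
          (fun h => hz1 (orderOf_eq_one_iff.mp h))).ge
      exact hx (Subgroup.zpowers_le.mpr hzH (hgen ▸ Subgroup.mem_zpowers x))
    have hxN : Subgroup.zpowers x ≤ Subgroup.normalizer (H : Set G) := by
      rw [Subgroup.normalizer_eq_top_iff.mpr hHn]; exact le_top
    have hidx : (H.subgroupOf L).index = p := by
      have h := (H.subgroupOf L).card_mul_index
      rw [Nat.card_congr (Subgroup.subgroupOfEquivOfLe hHL).toEquiv, hL,
        Cfsg.Lib.Coprime.card_sup_of_disjoint hxN hd, Nat.card_zpowers, hxo] at h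
      exact mul_left_cancel₀ Nat.card_pos.ne' h
    exact (Group.isNilpotent_congr (Subgroup.subgroupOfEquivOfLe hHL)).mp
      (isNilpotent_of_outside_exponent hp _ (hHn.subgroupOf L) hidx
        fun l hl => Subtype.ext (hout _ hl))
  refine ⟨hnil, ?_⟩
  -- the index
  obtain ⟨q, hq, hqd, hqp⟩ : ∃ q, q.Prime ∧ q ∣ Nat.card H ∧ q ≠ p := by
    by_contra hne
    push Not at hne
    have hHp : IsPGroup p H := IsPGroup.of_card (Nat.eq_prime_pow_of_unique_prime_dvd Nat.card_pos.ne'
      fun {d} hd hdvd => hne d hd hdvd)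
    refine hG fun g => ?_
    by_cases hg : g ∈ H
    · obtain ⟨k, hk⟩ := hHp ⟨g, hg⟩
      exact ⟨k, congrArg Subtype.val hk⟩
    · exact ⟨1, by rw [pow_one]; exact hout g hg⟩
  have : Fact q.Prime := ⟨hq⟩
  obtain ⟨Q⟩ : Nonempty (Sylow q H) := inferInstance
  have hQn : (Q : Subgroup H).Normal :=
    (Group.isNilpotent_of_finite_tfae.out 0 3 rfl rfl).mp hnil q this Q
  have := Q.characteristic_of_normal hQn
  set Q₁ := (Q : Subgroup H).map H.subtype with hQ₁
  have hQ₁p : IsPGroup q Q₁ := Q.2.map _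
  have hQ₁n : Q₁.Normal := Cfsg.Lib.Core.normal_map_char_of_normal _
  have hQ₁0 : Q₁ ≠ ⊥ := by
    rw [hQ₁, ne_eq, Subgroup.map_eq_bot_iff_of_injective _ H.subtype_injective]
    exact Q.ne_bot_of_dvd_card hqd
  set V := Cfsg.Lib.Thompson.zenter Q₁ with hV
  have hVn : V.Normal := Subgroup.normalizer_eq_top_iff.mp (top_le_iff.mp
    ((Subgroup.normalizer_eq_top_iff.mpr hQ₁n).ge.trans
      (Cfsg.Lib.Thompson.normalizer_le_normalizer_zenter _)))
  have : IsMulCommutative V := ⟨⟨fun a b => Subtype.ext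
    (Subgroup.mem_centralizer_iff.mp b.2.2 a a.2.1)⟩⟩
  obtain ⟨v, hv, hv1⟩ := V.bot_or_exists_ne_one.resolve_left
    (Cfsg.Lib.Thompson.zenter_ne_bot hQ₁p hQ₁0)
  have hvH : v ∈ H := Subgroup.map_subtype_le _ hv.1
  obtain ⟨P⟩ : Nonempty (Sylow p G) := inferInstance
  have hPH : (P : Subgroup G) ⊔ H = ⊤ := Cfsg.Lib.Fusion.sylow_sup_eq_top P H
    (IsPGroup.iff_card.mp (fun z : G ⧸ H => ⟨1, by
      obtain ⟨w, rfl⟩ := QuotientGroup.mk_surjective z
      by_cases hw : w ∈ H
      · rw [(QuotientGroup.eq_one_iff w).mpr hw, one_pow]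
      · rw [pow_one, ← QuotientGroup.mk_pow, hout w hw, QuotientGroup.mk_one]⟩))
  have hne : H.subgroupOf (P : Subgroup G) ≠ ⊤ := fun h =>
    hH (top_le_iff.mp (hPH.ge.trans (sup_le (Subgroup.subgroupOf_eq_top.mp h) le_rfl)))
  have : Finite (Subgroup (P : Subgroup G)) := Finite.of_injective _ SetLike.coe_injective
  obtain h' | ⟨M, hM, hDM⟩ := IsCoatomic.eq_top_or_exists_le_coatom (H.subgroupOf (P : Subgroup G))
  · exact absurd h' hne
  have hPnil := P.2.isNilpotent
  have hMn : M.Normal := (Group.isNilpotent_of_finite_tfae.out 0 2 rfl rfl).mp hPnil M hM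
  by_cases hMD : M ≤ H.subgroupOf (P : Subgroup G)
  · have hMi : M.index = p := Cfsg.Lib.PGroup.index_of_isCoatom P.2 hM
    have he : H.subgroupOf (P : Subgroup G) = M := le_antisymm hDM hMD
    have h1 : H.index = H.relIndex (P : Subgroup G) := by
      rw [← Subgroup.relIndex_top_right, ← hPH, Subgroup.relIndex_sup_right]
    rw [h1]
    show (H.subgroupOf (P : Subgroup G)).index = p
    rw [he, hMi]
  exfalso
  obtain ⟨z, hzM, hzH⟩ := SetLike.not_le_iff_exists.mp hMD
  obtain ⟨y, hy⟩ : ∃ y, y ∉ M := by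
    by_contra h
    push Not at h
    exact hM.1 (top_le_iff.mp fun w _ => h w)
  have hout' : ∀ g ∈ M, (((g * y : (P : Subgroup G))) : G) ∉ H := fun g hg h => hy (by
    have h1 := M.mul_mem (M.inv_mem hg) (hDM (x := g * y) h)
    rwa [inv_mul_cancel_left] at h1)
  have hyN : (y : G) ∈ Subgroup.normalizer ((M.map (P : Subgroup G).subtype : Subgroup G) : Set G) :=
    Subgroup.le_normalizer_map (P : Subgroup G).subtype
      ⟨y, (Subgroup.normalizer_eq_top_iff.mpr hMn).ge (Subgroup.mem_top y), rfl⟩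
  have hMV := le_centralizer_of_exponent hp (V := V) hyN
    (fun g hg => by
      obtain ⟨g', hg', rfl⟩ := hg
      exact hout _ (hout' g' hg'))
    (fun g hg w hw => by
      obtain ⟨g', hg', rfl⟩ := hg
      refine hout _ fun h => hout' g' hg' ?_
      have hwH : w ∈ H := Subgroup.map_subtype_le _ hw.1
      have h1 := H.mul_mem (H.inv_mem hwH) h
      rwa [inv_mul_cancel_left] at h1)
    (by
      obtain ⟨a, ha⟩ := IsPGroup.iff_card.mp ((P.2.to_subgroup M).map (P : Subgroup G).subtype)
      obtain ⟨b, hb⟩ := IsPGroup.iff_card.mp (hQ₁p.to_le (inf_le_left : V ≤ Q₁))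
      rw [ha, hb]
      exact Nat.Coprime.pow a b ((Nat.coprime_primes hp hq).mpr hqp.symm))
  have hcomm : Commute v (z : G) :=
    Subgroup.mem_centralizer_iff.mp (hMV ⟨z, hzM, rfl⟩) v hv
  have hvz : v * (z : G) ∉ H := fun h => hzH (by
    have h1 := H.mul_mem (H.inv_mem hvH) h
    rwa [inv_mul_cancel_left] at h1)
  have h1 := hout _ hvz
  rw [hcomm.mul_pow, hout (z : G) hzH, mul_one] at h1
  obtain ⟨b, hb⟩ := IsPGroup.iff_card.mp (hQ₁p.to_le (inf_le_left : V ≤ Q₁))
  refine hv1 (orderOf_eq_one_iff.mp (Nat.eq_one_of_dvd_coprimes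
    (((Nat.coprime_primes hp hq).mpr hqp.symm).pow_right b) (orderOf_dvd_of_pow_eq_one h1) ?_))
  rw [← hb]
  exact Subgroup.orderOf_dvd_natCard V hv

end Cfsg.Agent.S4249
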