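import Cfsg.Statements.S3946
import Cfsg.Agent.S4249
-- import your own Cfsg.Agent.* helpers here

set_option autoImplicit false
open Cfsg

namespace Cfsg.Agent.S3946

open Subgroup

universe u

theorem pow_eq_prod {G : Type u} [Group G] (α : MulAut G) {A : Subgroup (MulAut G)} (a : A) (ha : (a : MulAut G) = α)
    (x : G) (n : ℕ) :
    ((SemidirectProduct.inl x : G ⋊[A.subtype] A) * SemidirectProduct.inr a) ^ n =
      SemidirectProduct.inl (((List.range n).map (fun i : ℕ => (α ^ i) x)).prod) * SemidirectProduct.inr (a ^ n) := by
  induction n with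
  | zero => simp
  | succ n ih =>
    have h : SemidirectProduct.inr (a ^ n) * (SemidirectProduct.inl x : G ⋊[A.subtype] A) =
        SemidirectProduct.inl ((α ^ n) x) * SemidirectProduct.inr (a ^ n) := by
      have h1 := SemidirectProduct.inl_aut (φ := A.subtype) (a ^ n) x
      rw [Subgroup.coe_subtype, SubmonoidClass.coe_pow, ha] at h1
      rw [h1, mul_assoc, ← map_mul SemidirectProduct.inr, inv_mul_cancel, map_one, mul_one]
    rw [pow_succ, ih, List.range_succ, List.map_append, List.prod_append, List.map_singleton, List.prod_singleton,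
      map_mul, pow_succ a, map_mul]
    simp only [mul_assoc]
    rw [← mul_assoc (SemidirectProduct.inr (a ^ n)), h]
    simp only [mul_assoc]

theorem main {G : Type u} [Group G] [Finite G] (α : MulAut G) (hp : (orderOf α).Prime)
    (hsplit : ∀ x : G, (((List.range (orderOf α)).map (fun i : ℕ => (α ^ i) x)).prod = 1)) :
    Group.IsNilpotent G := by
  set p := orderOf α with hpdef
  haveI := Fact.mk hp
  set A := zpowers α with hA
  set a : A := ⟨α, mem_zpowers α⟩ with ha
  have hao : orderOf a = p := by rw [← Subgroup.orderOf_coe]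
  let S := G ⋊[A.subtype] A
  haveI : Finite S := Finite.of_equiv _ SemidirectProduct.equivProd.symm
  by_cases hS : IsPGroup p S
  · have : IsPGroup p G := hS.of_injective (SemidirectProduct.inl : G →* S) SemidirectProduct.inl_injective
    exact this.isNilpotent
  have hAc : Nat.card A = p := by rw [hA, Nat.card_zpowers]
  -- the elements outside the kernel have order `p`
  have hcoset : ∀ y : S, y.right = a → y ^ p = 1 := fun y hr => by
    rw [← SemidirectProduct.inl_left_mul_inr_right y, hr, pow_eq_prod α a rfl, hsplit,
      ← hao, pow_orderOf_eq_one, map_one, map_one, one_mul]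
  have key : ∀ x : S, x.right ≠ 1 → x ^ p = 1 := by
    intro x hx
    have h1 : zpowers x.right = ⊤ := by
      refine eq_top_of_card_eq _ ?_
      rw [Nat.card_zpowers, hAc]
      exact ((Nat.dvd_prime hp).1 (hAc ▸ orderOf_dvd_natCard x.right)).resolve_left
        (fun h => hx (orderOf_eq_one_iff.1 h))
    obtain ⟨m, hm⟩ := mem_powers_iff_mem_zpowers.2 (h1 ▸ mem_top a)
    have hr : (x ^ m).right = a := by
      rw [← hm]; exact map_pow SemidirectProduct.rightHom x m
    have hy := hcoset _ hr
    have hxp : (x ^ p).right = 1 := by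
      rw [show (x ^ p).right = x.right ^ p from map_pow SemidirectProduct.rightHom x p, ← hAc, pow_card_eq_one']
    have hw := hcoset (x ^ p * x ^ m) (by rw [SemidirectProduct.mul_right, hxp, hr, one_mul])
    rw [(Commute.pow_pow_self x p m).mul_pow, hy, mul_one, ← pow_mul] at hw
    rw [← pow_mul] at hy
    have hpm : p.Coprime m := hp.coprime_iff_not_dvd.2 fun hd => by
      obtain ⟨k, rfl⟩ := hd
      have h1 : a = 1 := by
        rw [← hm]
        show x.right ^ (p * k) = 1
        rw [pow_mul, ← hAc, pow_card_eq_one', one_pow]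
      rw [h1, orderOf_one] at hao
      exact hp.ne_one hao.symm
    have h2 : orderOf x ∣ Nat.gcd (p * p) (m * p) :=
      Nat.dvd_gcd (orderOf_dvd_of_pow_eq_one hw) (orderOf_dvd_of_pow_eq_one hy)
    rw [Nat.gcd_mul_right, hpm, one_mul] at h2
    exact orderOf_dvd_iff_pow_eq_one.1 h2
  set K := (SemidirectProduct.inl : G →* S).range with hK
  have hKr : ∀ x : S, x ∈ K ↔ x.right = 1 := fun x => by
    rw [hK, SemidirectProduct.range_inl_eq_ker_rightHom, MonoidHom.mem_ker]; rfl
  have hle : Subgroup.closure {g : S | g ^ p ≠ 1} ≤ K := by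
    rw [closure_le]
    exact fun x hx => (hKr x).2 (by_contra fun h => hx (key x h))
  have hKi : K.index = p := by
    rw [hK, SemidirectProduct.range_inl_eq_ker_rightHom, index_ker,
      MonoidHom.range_eq_top.2 SemidirectProduct.rightHom_surjective, card_top, hAc]
  have hne : Subgroup.closure {g : S | g ^ p ≠ 1} ≠ ⊤ := fun h => by
    rw [h, top_le_iff] at hle
    rw [hle, index_top] at hKi
    exact hp.ne_one hKi.symm
  obtain ⟨hn, hi⟩ := Cfsg.Agent.S4249.result p hp hS hne
  have heq : Subgroup.closure {g : S | g ^ p ≠ 1} = K := by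
    refine eq_of_le_of_card_ge hle (le_of_eq ?_)
    have c1 := (Subgroup.closure {g : S | g ^ p ≠ 1}).card_mul_index
    have c2 := K.card_mul_index
    rw [hi] at c1
    rw [hKi] at c2
    exact Nat.eq_of_mul_eq_mul_right hp.pos (c2.trans c1.symm)
  rw [heq] at hn
  exact (Group.isNilpotent_congr (MonoidHom.ofInjective SemidirectProduct.inl_injective)).2 hn

/-- Call an automorphism α of order n of a group G splitting when x · α(x) · α²(x) ⋯ α^(n−1)(x) = 1 for every x ∈ G. A finite group admitting a splitting automorphism of prime order is nilpotent (this contains the case of a fixed-point-free automorphism of prime order). -/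
theorem result {G : Type*} [Group G] [Finite G] (α : MulAut G) (hp : (orderOf α).Prime)
    (hsplit : ∀ x : G, (((List.range (orderOf α)).map (fun i : ℕ => (α ^ i) x)).prod = 1)) : Group.IsNilpotent G := by
  exact main α hp hsplit

end Cfsg.Agent.S3946
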