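import Cfsg.Statements.S3949
import Mathlib.GroupTheory.OrderOfElement
import Mathlib.Tactic.Group
-- import your own Cfsg.Agent.* helpers here

set_option autoImplicit false
open Cfsg

namespace Cfsg.Agent.S3949

theorem iter {G : Type*} [Group G] (α : MulAut G) {g : G} (h : α g = g⁻¹) (n : ℕ) :
    (fun c : G => c * (α c)⁻¹)^[n] g = g ^ 2 ^ n := by
  induction n with
  | zero => simp
  | succ n ih =>
    rw [Function.iterate_succ_apply', ih]
    simp only [map_pow, h, inv_pow, inv_inv]
    rw [← pow_add, ← Nat.two_mul, ← pow_succ']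


/-- Let G be a finite group and α an automorphism of G of order 2 such that the elements g·α(g)⁻¹ generate G. Let j be a positive integer such that 2^j divides the order of no element inverted by α. Then the set of values of the j-th iterate of the map c ↦ c·α(c)⁻¹ is exactly the set of elements of odd order inverted by α. -/
theorem result {G : Type*} [Group G] [Finite G] (α : MulAut G) (hα : orderOf α = 2) (hG : Subgroup.closure (Set.range (fun c : G => c * (α c)⁻¹)) = ⊤)
    (j : ℕ) (hj : ∀ g : G, α g = g⁻¹ → ¬ 2 ^ j ∣ orderOf g) :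
    Set.range ((fun c : G => c * (α c)⁻¹)^[j]) = {g : G | Odd (orderOf g) ∧ α g = g⁻¹} := by
  classical
  rcases j with _ | j
  · exact absurd (by simp) (hj 1 (by simp))
  have hinvol : ∀ c : G, α (α c) = c := by
    intro c
    have h2 : α ^ 2 = 1 := by rw [← hα, pow_orderOf_eq_one]
    have := congrArg (fun β : MulAut G => β c) h2
    simpa [pow_two] using this
  ext g
  constructor
  · rintro ⟨c, rfl⟩
    rw [Function.iterate_succ_apply]
    have hu : α (c * (α c)⁻¹) = (c * (α c)⁻¹)⁻¹ := by
      rw [map_mul, map_inv, hinvol, mul_inv_rev, inv_inv]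
    rw [iter α hu]
    set u := c * (α c)⁻¹
    refine ⟨?_, by rw [map_pow, hu, inv_pow]⟩
    obtain ⟨e, m, hm, hem⟩ : ∃ e m : ℕ, Odd m ∧ orderOf u = 2 ^ e * m :=
      Nat.exists_eq_two_pow_mul_odd (orderOf_pos u).ne'
    have he : e ≤ j := by
      by_contra he
      exact hj u hu (hem ▸ dvd_mul_of_dvd_left (pow_dvd_pow 2 (by omega)) m)
    refine hm.of_dvd_nat (orderOf_dvd_of_pow_eq_one ?_)
    rw [← pow_mul]
    exact orderOf_dvd_iff_pow_eq_one.mp (hem ▸ Nat.mul_dvd_mul_right (pow_dvd_pow 2 he) m)
  · rintro ⟨hodd, hg⟩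
    obtain ⟨m, hm⟩ := exists_pow_eq_self_of_coprime (x := g) (n := 2 ^ (j + 1))
      ((Nat.coprime_two_left.mpr hodd).pow_left _)
    refine ⟨g ^ m, ?_⟩
    rw [iter α (by rw [map_pow, hg, inv_pow]), pow_right_comm, hm]

end Cfsg.Agent.S3949
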