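import Cfsg.Statements.S3950
import Cfsg.Agent.S3979
import Cfsg.Agent.Lib.Coprime.Generation
import Mathlib.GroupTheory.FiniteAbelian.Duality
import Mathlib.RingTheory.RootsOfUnity.Complex
import Mathlib.RingTheory.RootsOfUnity.AlgebraicallyClosed
import Mathlib.Analysis.Complex.Polynomial.Basic
-- import your own Cfsg.Agent.* helpers here

set_option autoImplicit false
open Cfsg

namespace Cfsg.Agent.S3950

open Cfsg.Lib.Schur

theorem not_cyclic_stem {G : Type*} [CommGroup G] [Finite G] (h : ¬ IsCyclic G) : ¬ Subsingleton (M G) := by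
  have : NeZero ((Monoid.exponent G : ℕ) : ℂ) := ⟨Nat.cast_ne_zero.mpr Monoid.exponent_ne_zero_of_finite⟩
  obtain ⟨e⟩ := CommGroup.monoidHom_mulEquiv_of_hasEnoughRootsOfUnity G ℂ
  have : Finite (G →* ℂˣ) := Finite.of_equiv _ e.symm.toEquiv
  obtain ⟨q, a, b, hq, ha1, haq, hbq, hba⟩ :=
    Cfsg.Lib.Coprime.exists_two_independent_of_not_isCyclic (A := G →* ℂˣ)
      (fun hc => h (e.isCyclic.mp hc))
  have := Fact.mk hq
  have : NeZero ((q : ℕ) : ℂ) := ⟨Nat.cast_ne_zero.mpr hq.ne_zero⟩
  have hcard : Nat.card (rootsOfUnity q ℂ) = q := HasEnoughRootsOfUnity.natCard_rootsOfUnity ℂ q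
  let ψ : rootsOfUnity q ℂ →* Multiplicative (ZMod q) :=
    (AddMonoidHom.toMultiplicative (ZMod.castHom hcard.symm.dvd (ZMod q)).toAddMonoidHom).comp
      (zmodCyclicMulEquiv (inferInstance : IsCyclic (rootsOfUnity q ℂ))).symm.toMonoidHom
  have hψ : Function.Injective ψ := by
    have hb : Function.Injective (ZMod.castHom hcard.symm.dvd (ZMod q)) := by
      refine ((Nat.bijective_iff_surjective_and_card _).mpr ⟨ZMod.castHom_surjective _, ?_⟩).1
      rw [Nat.card_zmod, Nat.card_zmod, hcard]
    intro x y hxy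
    exact (MulEquiv.injective _) (Multiplicative.toAdd.injective (hb (Multiplicative.ofAdd.injective hxy)))
  let res : ∀ f : G →* ℂˣ, f ^ q = 1 → (G →* rootsOfUnity q ℂ) := fun f hf =>
    f.codRestrict (rootsOfUnity q ℂ) fun g => (mem_rootsOfUnity q _).mpr (DFunLike.congr_fun hf g)
  let toZ : ∀ f : G →* ℂˣ, f ^ q = 1 → (G →* Multiplicative (ZMod q)) := fun f hf => ψ.comp (res f hf)
  have hinj : ∀ (f : G →* ℂˣ) (hf : f ^ q = 1) (g : G), toZ f hf g = 1 → f g = 1 := fun f hf g hg =>
    congrArg Subtype.val ((map_eq_one_iff ψ hψ).mp hg)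
  set fa := toZ a haq with hfa
  set fb := toZ b hbq with hfb
  -- the two characters are independent
  obtain ⟨g₀, k₀, hd⟩ : ∃ g k : G, Multiplicative.toAdd (fa g) * Multiplicative.toAdd (fb k) -
      Multiplicative.toAdd (fa k) * Multiplicative.toAdd (fb g) ≠ 0 := by
    by_contra hne
    push Not at hne
    obtain ⟨g, hg⟩ : ∃ g, a g ≠ 1 := by
      by_contra hall
      push Not at hall
      exact ha1 (MonoidHom.ext fun g => hall g)
    have hg' : Multiplicative.toAdd (fa g) ≠ 0 := fun e => hg (hinj a haq g e)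
    set c := Multiplicative.toAdd (fb g) * (Multiplicative.toAdd (fa g))⁻¹ with hc
    refine hba (Subgroup.mem_zpowers_iff.mpr ⟨(c.val : ℤ), MonoidHom.ext fun k => ?_⟩)
    rw [zpow_natCast, MonoidHom.pow_apply]
    have h1 : Multiplicative.toAdd (fb k) = c * Multiplicative.toAdd (fa k) := by
      have h2 := sub_eq_zero.mp (hne g k)
      rw [hc]; field_simp
      linear_combination h2
    have h4 : fb k = fa k ^ c.val := by
      refine Multiplicative.toAdd.injective ?_
      rw [toAdd_pow, h1, nsmul_eq_mul, ZMod.natCast_zmod_val]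
    have h5 : ψ (res b hbq k) = ψ (res a haq k ^ c.val) := by rw [map_pow]; exact h4
    exact (congrArg Subtype.val (hψ h5)).symm
  let β : Pairing G (Multiplicative (ZMod q)) :=
    { toFun := fun g k => Multiplicative.ofAdd (Multiplicative.toAdd (fa g) * Multiplicative.toAdd (fb k))
      map_mul_left := fun x y z => by rw [map_mul fa, toAdd_mul, add_mul, ofAdd_add]
      map_mul_right := fun x y z => by rw [map_mul fb, toAdd_mul, mul_add, ofAdd_add] }
  have hstem : IsStemExtension β.proj := by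
    refine β.isStemExtension fun z => ?_
    set D := Multiplicative.toAdd (fa g₀) * Multiplicative.toAdd (fb k₀) -
      Multiplicative.toAdd (fa k₀) * Multiplicative.toAdd (fb g₀) with hD
    refine ⟨g₀ ^ (Multiplicative.toAdd z * D⁻¹).val, k₀, mul_comm _ _, ?_⟩
    refine Multiplicative.toAdd.injective ?_
    simp only [β, map_pow, toAdd_mul, toAdd_inv, toAdd_ofAdd, toAdd_pow, nsmul_eq_mul, ZMod.natCast_zmod_val]
    field_simp
    rw [hD]; ring
  intro hsub
  obtain ⟨ψ, hψ⟩ := exists_mult_surjection (canon G) hstem canon_surjective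
  have h1 := Nat.card_le_card_of_surjective ψ hψ
  have hu : Nat.card (M G) = 1 := Nat.card_eq_one_iff_unique.mpr ⟨hsub, ⟨1⟩⟩
  rw [hu, Nat.card_congr β.kerEquiv.toEquiv, Nat.card_congr Multiplicative.toAdd, Nat.card_zmod] at h1
  have := hq.two_le
  omega


/-- A finite abelian group has trivial Schur multiplier if and only if it is cyclic. -/
theorem result {G : Type*} [CommGroup G] [Finite G] : Cfsg.HasCyclicSchurMultiplier G 1 ↔ IsCyclic G := by
  rw [Cfsg.Lib.Schur.hasCyclic_one_iff]
  exact ⟨fun hs => by_contra fun hc => not_cyclic_stem hc hs, fun hc => S3979.mult_trivial⟩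

end Cfsg.Agent.S3950
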