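import Cfsg.Statements.S3952
import Cfsg.Agent.Lib.Schur.TwistedAlgebra
import Mathlib.GroupTheory.FiniteAbelian.Duality
import Mathlib.RingTheory.RootsOfUnity.AlgebraicallyClosed
-- import your own Cfsg.Agent.* helpers here

set_option autoImplicit false
open Cfsg

namespace Cfsg.Agent.S3952

open Cfsg.Lib.Schur Subgroup

/-- If `A` is the Schur multiplier of the finite group `Q`, then the square of the exponent of `A` divides the order of `Q`. -/
theorem result {Q : Type*} [Group Q] [Finite Q] {A : Type*} [CommGroup A] (hA : Cfsg.HasSchurMultiplier Q A) : Monoid.exponent A ^ 2 ∣ Nat.card Q := by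
  obtain ⟨a⟩ := nonempty_equiv_of_has hA
  obtain ⟨Γ, _, _, σ, hσ, ⟨e⟩⟩ := exists_cover (canon Q) canon_surjective
  let _ : CommGroup σ.ker :=
    { (inferInstance : Group σ.ker) with
      mul_comm := fun x y => Subtype.ext (mem_center_iff.mp (hσ.2.1 y.2) x) }
  have : NeZero ((Monoid.exponent σ.ker : ℕ) : ℂ) := ⟨Nat.cast_ne_zero.mpr Monoid.exponent_ne_zero_of_finite⟩
  obtain ⟨f⟩ := CommGroup.monoidHom_mulEquiv_of_hasEnoughRootsOfUnity σ.ker ℂ
  obtain ⟨g, hg⟩ := Monoid.exists_orderOf_eq_exponent (G := σ.ker) Monoid.ExponentExists.of_finite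
  have h1 := sq_orderOf_dvd_index hσ.2.1 hσ.2.2 (f.symm g)
  rw [MulEquiv.orderOf_eq, hg, Monoid.exponent_eq_of_mulEquiv (e.trans a.symm)] at h1
  rwa [Subgroup.index_ker, MonoidHom.range_eq_top.mpr hσ.1, Subgroup.card_top] at h1

end Cfsg.Agent.S3952
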