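import Cfsg.Statements.S3954
import Cfsg.Agent.Lib.Schur.Transfer
import Mathlib.GroupTheory.FiniteAbelian.Duality
import Mathlib.RingTheory.RootsOfUnity.AlgebraicallyClosed
import Mathlib.Analysis.Complex.Polynomial.Basic
-- import your own Cfsg.Agent.* helpers here

set_option autoImplicit false
open Cfsg

namespace Cfsg.Agent.S3954

open Cfsg.Lib.Schur Subgroup

/-- A quotient of a finite abelian group is isomorphic to a subgroup. -/
theorem exists_subgroup_equiv_of_surjective {B C : Type*} [CommGroup B] [CommGroup C] [Finite B] (f : B →* C)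
    (hf : Function.Surjective f) : ∃ S : Subgroup B, Nonempty (C ≃* S) := by
  have : Finite C := Finite.of_surjective f hf
  have : NeZero ((Monoid.exponent B : ℕ) : ℂ) := ⟨Nat.cast_ne_zero.mpr Monoid.exponent_ne_zero_of_finite⟩
  have : NeZero ((Monoid.exponent C : ℕ) : ℂ) := ⟨Nat.cast_ne_zero.mpr Monoid.exponent_ne_zero_of_finite⟩
  obtain ⟨eB⟩ := CommGroup.monoidHom_mulEquiv_of_hasEnoughRootsOfUnity B ℂ
  obtain ⟨eC⟩ := CommGroup.monoidHom_mulEquiv_of_hasEnoughRootsOfUnity C ℂ
  let i : (C →* ℂˣ) →* B := eB.toMonoidHom.comp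
    { toFun := fun φ => φ.comp f, map_one' := MonoidHom.ext fun _ => rfl, map_mul' := fun a b => MonoidHom.ext fun _ => rfl }
  have hi : Function.Injective i := fun a b h => MonoidHom.ext fun c => by
    obtain ⟨x, rfl⟩ := hf c
    exact DFunLike.congr_fun (eB.injective h) x
  exact ⟨i.range, ⟨eC.symm.trans (MonoidHom.ofInjective hi)⟩⟩

/-- Let `U` be a subgroup of index `m` in the finite group `G`, let `A` be the Schur multiplier of `G` and `B` that of `U`. Then the subgroup of `m`-th powers of `A` is isomorphic to a subgroup of `B`. -/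
theorem result {G : Type*} [Group G] [Finite G] (U : Subgroup G) {A B : Type*} [CommGroup A] [CommGroup B] (hA : Cfsg.HasSchurMultiplier G A) (hB : Cfsg.HasSchurMultiplier U B) : ∃ C : Subgroup B, Nonempty ((powMonoidHom U.index : A →* A).range ≃* C) := by
  obtain ⟨eA⟩ := nonempty_equiv_of_has hA
  obtain ⟨eB⟩ := nonempty_equiv_of_has hB
  have : Finite A := finite_of_has hA
  have : Finite B := finite_of_has hB
  obtain ⟨tr, cor, h⟩ := exists_res_cor U
  let t : A →* B := eB.symm.toMonoidHom.comp (tr.comp eA.toMonoidHom)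
  let c : B →* A := eA.symm.toMonoidHom.comp (cor.comp eB.toMonoidHom)
  have hct : ∀ a, c (t a) = a ^ U.index := fun a => by
    show eA.symm (cor (eB (eB.symm (tr (eA a))))) = _
    rw [eB.apply_symm_apply, h, map_pow, eA.symm_apply_apply]
  let f : t.range →* (powMonoidHom U.index : A →* A).range :=
    (c.comp t.range.subtype).codRestrict _ fun x => by
      obtain ⟨a, ha⟩ := x.2
      exact ⟨a, by rw [powMonoidHom_apply, ← hct, ha]; rfl⟩
  have hf : Function.Surjective f := by
    rintro ⟨_, a, rfl⟩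
    exact ⟨⟨t a, a, rfl⟩, Subtype.ext (hct a)⟩
  obtain ⟨S, ⟨e⟩⟩ := exists_subgroup_equiv_of_surjective f hf
  exact ⟨S.map t.range.subtype, ⟨e.trans (S.equivMapOfInjective _ t.range.subtype_injective)⟩⟩

end Cfsg.Agent.S3954
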