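import Cfsg.Statements.S3955
import Cfsg.Agent.Lib.Schur.ProjRep
-- import your own Cfsg.Agent.* helpers here

set_option autoImplicit false
open Cfsg

namespace Cfsg.Agent.S3955

open Cfsg.Lib.Schur Subgroup

/-- Let `Q` be a finite group with Schur multiplier `A`, and let `σ : Γ →* Q` be a finite stem extension whose kernel is isomorphic to `A` (a Schur covering group of `Q`). Then every homomorphism `γ` from `Q` to the quotient of `GL n ℂ` by its centre lifts along `σ`: there is a homomorphism `ρ : Γ →* GL n ℂ` which, followed by the quotient map, equals `γ ∘ σ`. -/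
theorem result {Q : Type*} [Group Q] [Finite Q] {A : Type*} [CommGroup A] (hA : Cfsg.HasSchurMultiplier Q A) {Γ : Type*} [Group Γ] [Finite Γ] (σ : Γ →* Q) (hσ : Cfsg.IsStemExtension σ) (hk : Nonempty (σ.ker ≃* A)) (n : ℕ) (γ : Q →* (GL (Fin n) ℂ ⧸ Subgroup.center (GL (Fin n) ℂ))) : ∃ ρ : Γ →* GL (Fin n) ℂ, (QuotientGroup.mk' (Subgroup.center (GL (Fin n) ℂ))).comp ρ = γ.comp σ := by
  obtain ⟨β, hβ0⟩ := exists_lift (canon Q) σ hσ.2.1 (MonoidHom.id Q) (fun q => hσ.1 q)
  have hβ : σ.comp β = covMap (canon Q) := hβ0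
  refine exists_lift_projective (lift_surjective (canon Q) hσ canon_surjective hβ) hβ ?_ n γ
  obtain ⟨e⟩ := hk
  obtain ⟨a⟩ := nonempty_equiv_of_has hA
  have hmap := map_mult (canon Q) hσ.2.1 canon_surjective hβ
  rw [inf_eq_left.mpr hσ.2.2] at hmap
  let ψ : M Q →* σ.ker := (MulEquiv.subgroupCongr hmap).toMonoidHom.comp (β.subgroupMap (mult (canon Q)))
  have hs : Function.Surjective ψ :=
    (MulEquiv.subgroupCongr hmap).surjective.comp (β.subgroupMap_surjective (mult (canon Q)))
  have hb : Function.Bijective ψ := (Nat.bijective_iff_surjective_and_card _).mpr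
    ⟨hs, Nat.card_congr (e.trans a).symm.toEquiv⟩
  rw [eq_bot_iff]
  rintro c ⟨hcβ, hc⟩
  have h1 : ψ ⟨c, hc⟩ = 1 := Subtype.ext hcβ
  exact congrArg Subtype.val (hb.1 (h1.trans (map_one ψ).symm))

end Cfsg.Agent.S3955
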