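import Cfsg.Statements.S3956
import Cfsg.Agent.Lib.Schur.ProjRep
import Mathlib.RingTheory.RootsOfUnity.AlgebraicallyClosed
import Mathlib.GroupTheory.FiniteAbelian.Duality
-- import your own Cfsg.Agent.* helpers here

set_option autoImplicit false
universe u v
open Cfsg

namespace Cfsg.Agent.S3956

open Cfsg.Lib.Schur Subgroup

/-- Let `σ : Γ →* Q` be a finite stem extension of the finite group `Q` such that every homomorphism from `Q` to the quotient of `GL n ℂ` by its centre, for every `n`, lifts along `σ` to a homomorphism `Γ →* GL n ℂ`. Then `σ` is a Schur covering group of `Q`: for every finite stem extension `τ : Δ →* Q` with `Δ` in the same universe as `Q`, the kernel of `τ` is a homomorphic image of the kernel of `σ`. -/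
theorem result {Q : Type u} [Group Q] [Finite Q] {Γ : Type v} [Group Γ] [Finite Γ] (σ : Γ →* Q) (hσ : Cfsg.IsStemExtension σ) (hlift : ∀ (n : ℕ) (γ : Q →* (GL (Fin n) ℂ ⧸ Subgroup.center (GL (Fin n) ℂ))), ∃ ρ : Γ →* GL (Fin n) ℂ, (QuotientGroup.mk' (Subgroup.center (GL (Fin n) ℂ))).comp ρ = γ.comp σ) (Δ : Type u) [Group Δ] [Finite Δ] (τ : Δ →* Q) (hτ : Cfsg.IsStemExtension τ) : ∃ π : σ.ker →* τ.ker, Function.Surjective π := by
  obtain ⟨β, hβ0⟩ := exists_lift (canon Q) σ hσ.2.1 (MonoidHom.id Q) (fun q => hσ.1 q)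
  have hβ : σ.comp β = covMap (canon Q) := hβ0
  obtain ⟨Γ₀, _, _, σ₀, hσ₀, ⟨e₀⟩⟩ := exists_cover (canon Q) canon_surjective
  obtain ⟨β₀, hβ₀0⟩ := exists_lift (canon Q) σ₀ hσ₀.2.1 (MonoidHom.id Q) (fun q => hσ₀.1 q)
  have hβ₀ : σ₀.comp β₀ = covMap (canon Q) := hβ₀0
  have hmap₀ := map_mult (canon Q) hσ₀.2.1 canon_surjective hβ₀
  rw [inf_eq_left.mpr hσ₀.2.2] at hmap₀
  let ψ₀ : M Q →* σ₀.ker := (MulEquiv.subgroupCongr hmap₀).toMonoidHom.comp (β₀.subgroupMap (mult (canon Q)))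
  have hb₀ : Function.Bijective ψ₀ := (Nat.bijective_iff_surjective_and_card _).mpr
    ⟨(MulEquiv.subgroupCongr hmap₀).surjective.comp (β₀.subgroupMap_surjective (mult (canon Q))),
      Nat.card_congr e₀.toEquiv.symm⟩
  have hmap := map_mult (canon Q) hσ.2.1 canon_surjective hβ
  rw [inf_eq_left.mpr hσ.2.2] at hmap
  let ψ : M Q →* σ.ker := (MulEquiv.subgroupCongr hmap).toMonoidHom.comp (β.subgroupMap (mult (canon Q)))
  have hs : Function.Surjective ψ :=
    (MulEquiv.subgroupCongr hmap).surjective.comp (β.subgroupMap_surjective (mult (canon Q)))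
  have hinj : Function.Injective ψ := by
    rw [injective_iff_map_eq_one]
    intro m hm
    by_contra hne
    have hm₀ : ψ₀ m ≠ 1 := fun h => hne (hb₀.1 (h.trans (map_one ψ₀).symm))
    let _ : CommGroup σ₀.ker :=
      { (inferInstance : Group σ₀.ker) with
        mul_comm := fun a b => Subtype.ext (mem_center_iff.mp (hσ₀.2.1 b.2) a) }
    have : NeZero ((Monoid.exponent σ₀.ker : ℕ) : ℂ) := ⟨Nat.cast_ne_zero.mpr Monoid.exponent_ne_zero_of_finite⟩
    obtain ⟨χ, hχ⟩ := CommGroup.exists_apply_ne_one_of_hasEnoughRootsOfUnity σ₀.ker ℂ hm₀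
    obtain ⟨n, ρ₀, hn, hρ₀⟩ := exists_rep_with_character hσ₀.2.1 χ
    set sc := (Matrix.GeneralLinearGroup.scalar (Fin n) : ℂˣ →* GL (Fin n) ℂ) with hsc
    have hcen : center (GL (Fin n) ℂ) = sc.range := Matrix.GeneralLinearGroup.center_eq_range_scalar
    let γ : Q →* GL (Fin n) ℂ ⧸ center (GL (Fin n) ℂ) := σ₀.liftOfSurjective hσ₀.1
      ⟨(QuotientGroup.mk' _).comp ρ₀, fun k hk => (QuotientGroup.eq_one_iff _).mpr
        (hcen ▸ ⟨χ ⟨k, hk⟩, (hρ₀ ⟨k, hk⟩).symm⟩)⟩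
    obtain ⟨ρ, hρ⟩ := hlift n γ
    have heq : ρ.comp β m.1 = ρ₀.comp β₀ m.1 := by
      refine eqOn_commutator (fun x => ?_) m.2.2
      rw [← QuotientGroup.eq]
      have h1 : QuotientGroup.mk' (center (GL (Fin n) ℂ)) (ρ (β x)) = γ (σ (β x)) := DFunLike.congr_fun hρ (β x)
      have h2 : γ (σ₀ (β₀ x)) = QuotientGroup.mk' (center (GL (Fin n) ℂ)) (ρ₀ (β₀ x)) :=
        MonoidHom.liftOfRightInverse_comp_apply _ _ _ _ (β₀ x)
      rw [show σ (β x) = covMap (canon Q) x from DFunLike.congr_fun hβ x,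
        ← show σ₀ (β₀ x) = covMap (canon Q) x from DFunLike.congr_fun hβ₀ x, h2] at h1
      exact h1
    have h3 : ρ.comp β m.1 = 1 := by
      show ρ (β m.1) = 1
      rw [show β m.1 = 1 from congrArg Subtype.val hm, map_one]
    have h4 : ρ₀.comp β₀ m.1 = sc (χ (ψ₀ m)) := hρ₀ (ψ₀ m)
    exact hχ (scalar_injective hn ((h4.symm.trans (heq.symm.trans h3)).trans (map_one _).symm))
  obtain ⟨φ, hφ⟩ := exists_mult_surjection (canon Q) hτ canon_surjective
  exact ⟨φ.comp (MulEquiv.ofBijective ψ ⟨hinj, hs⟩).symm.toMonoidHom,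
    hφ.comp (MulEquiv.ofBijective ψ ⟨hinj, hs⟩).symm.surjective⟩

end Cfsg.Agent.S3956
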