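import Cfsg.Statements.S3978
import Cfsg.Agent.S3955
import Cfsg.Agent.S3956
-- import your own Cfsg.Agent.* helpers here

set_option autoImplicit false
open Cfsg

namespace Cfsg.Agent.S3978

open Cfsg.Lib.Schur

/-- A finite group `Q` has trivial Schur multiplier if and only if, for every `n`, every homomorphism from `Q` to the projective general linear group (the quotient of `GL n ℂ` by its centre) lifts to a homomorphism into `GL n ℂ`. -/
theorem result {Q : Type*} [Group Q] [Finite Q] : Cfsg.HasCyclicSchurMultiplier Q 1 ↔ ∀ (n : ℕ) (γ : Q →* (GL (Fin n) ℂ ⧸ Subgroup.center (GL (Fin n) ℂ))), ∃ ρ : Q →* GL (Fin n) ℂ, (QuotientGroup.mk' (Subgroup.center (GL (Fin n) ℂ))).comp ρ = γ := by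
  constructor
  · intro h n γ
    have : Subsingleton (M Q) := hasCyclic_one_iff.mp h
    obtain ⟨e⟩ := nonempty_equiv_of_has h
    have hid : Cfsg.IsStemExtension (MonoidHom.id Q) := isStemExtension_id
    have hk : Nonempty ((MonoidHom.id Q).ker ≃* Multiplicative (ZMod 1)) := by
      have : Subsingleton (MonoidHom.id Q).ker := ⟨fun a b => Subtype.ext (a.2.trans b.2.symm)⟩
      have : Subsingleton (Multiplicative (ZMod 1)) := inferInstance
      exact ⟨{ toFun := fun _ => 1, invFun := fun _ => 1, left_inv := fun x => Subsingleton.elim _ _,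
               right_inv := fun x => Subsingleton.elim _ _, map_mul' := fun _ _ => (mul_one 1).symm }⟩
    exact Cfsg.Agent.S3955.result h (MonoidHom.id Q) hid hk n γ
  · intro h
    rw [hasCyclic_one_iff]
    obtain ⟨Γ₀, _, _, σ₀, hσ₀, ⟨e₀⟩⟩ := exists_cover (canon Q) canon_surjective
    obtain ⟨π, hπ⟩ := Cfsg.Agent.S3956.result (MonoidHom.id Q) isStemExtension_id (fun n γ => h n γ) Γ₀ σ₀ hσ₀
    have : Subsingleton (MonoidHom.id Q).ker := ⟨fun a b => Subtype.ext (a.2.trans b.2.symm)⟩
    exact (e₀.surjective.comp hπ).subsingleton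

end Cfsg.Agent.S3978
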