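import Cfsg.Statements.S3960
import Cfsg.Agent.Lib.Schur.Perfect
-- import your own Cfsg.Agent.* helpers here

set_option autoImplicit false
universe u
open Cfsg

namespace Cfsg.Agent.S3960

open Cfsg.Lib.Schur Subgroup

/-- A finite perfect group `Q` has a universal central extension: a finite perfect group `G` in the universe of `Q` and a surjective homomorphism `π : G →* Q` with central kernel such that for every group `X` in that universe and every surjective homomorphism `ξ : X →* Q` with central kernel there is exactly one homomorphism `η : G →* X` with `ξ ∘ η = π`. -/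
theorem result {Q : Type u} [Group Q] [Finite Q] (hQ : Group.IsPerfect Q) : ∃ (G : Type u) (_ : Group G) (_ : Finite G) (π : G →* Q), Group.IsPerfect G ∧ Function.Surjective π ∧ π.ker ≤ Subgroup.center G ∧ ∀ (X : Type u) [Group X] (ξ : X →* Q), Function.Surjective ξ → ξ.ker ≤ Subgroup.center X → ∃! η : G →* X, ξ.comp η = π := by
  refine ⟨commutator (Cov (canon Q)), inferInstance, finite_commutator_cov,
    (covMap (canon Q)).comp (commutator (Cov (canon Q))).subtype, isPerfect_commutator hQ,
    covMap_commutator_surjective hQ, ?_, ?_⟩
  · intro x hx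
    rw [mem_center_iff]
    exact fun y => Subtype.ext (mem_center_iff.mp (ker_covMap_le_center (canon Q) (show (x : Cov (canon Q)) ∈ (covMap (canon Q)).ker from hx)) y)
  · intro X _ ξ hξ hk
    obtain ⟨β, hβ⟩ := exists_lift (canon Q) ξ hk (MonoidHom.id Q) (fun q => hξ q)
    have hβ' : ξ.comp β = covMap (canon Q) := hβ
    refine ⟨β.comp (commutator (Cov (canon Q))).subtype, by show ξ.comp (β.comp _) = _; rw [← MonoidHom.comp_assoc, hβ'], fun η hη => ?_⟩
    refine hom_eq_of_perfect (isPerfect_commutator hQ) fun x => hk ?_
    show ξ _ = 1
    rw [map_mul, map_inv, show ξ (η x) = covMap (canon Q) (x : Cov (canon Q)) from DFunLike.congr_fun hη x,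
      show ξ (β.comp (commutator (Cov (canon Q))).subtype x) = covMap (canon Q) (x : Cov (canon Q)) from
        DFunLike.congr_fun hβ' _, inv_mul_cancel]

end Cfsg.Agent.S3960
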