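import Cfsg.Statements.S3961
import Cfsg.Agent.Lib.Schur.Perfect
-- import your own Cfsg.Agent.* helpers here

set_option autoImplicit false
universe u v
open Cfsg

namespace Cfsg.Agent.S3961

open Cfsg.Lib.Schur Subgroup
open scoped commutatorElement

/-- Let `π : G →* Q` be a surjective homomorphism with central kernel from a finite perfect group `G` (a perfect cover of `Q`). Then `π` is universal, in the sense that every surjective homomorphism `ξ : X →* Q` with central kernel from a group `X` in the universe of `G` admits a homomorphism `η : G →* X` with `ξ ∘ η = π`, if and only if `G` has trivial Schur multiplier. -/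
theorem result {G : Type u} {Q : Type v} [Group G] [Group Q] [Finite G] (hG : Group.IsPerfect G) (π : G →* Q) (hπ : Function.Surjective π) (hker : π.ker ≤ Subgroup.center G) : (∀ (X : Type u) [Group X] (ξ : X →* Q), Function.Surjective ξ → ξ.ker ≤ Subgroup.center X → ∃ η : G →* X, ξ.comp η = π) ↔ Cfsg.HasCyclicSchurMultiplier G 1 := by
  rw [hasCyclic_one_iff]
  constructor
  · intro hU
    set G' := commutator (Cov (canon G))
    set f := (covMap (canon G)).comp G'.subtype with hfdef
    have hf : Function.Surjective f := covMap_commutator_surjective hG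
    have hP : Group.IsPerfect G' := isPerfect_commutator hG
    have hfk : f.ker ≤ center G' := fun x hx => by
      rw [mem_center_iff]
      exact fun y => Subtype.ext (mem_center_iff.mp (ker_covMap_le_center (canon G) (show (x : Cov (canon G)) ∈ (covMap (canon G)).ker from hx)) y)
    have hk : (π.comp f).ker ≤ center G' := fun x hx => by
      refine mem_center_of_forall_commutator hP fun y => hfk ?_
      show f _ = 1
      rw [map_commutatorElement]
      exact commutatorElement_eq_one_iff_mul_comm.mpr (mem_center_iff.mp (hker (show f x ∈ π.ker from hx)) (f y)).symm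
    obtain ⟨η, hη⟩ := hU G' (π.comp f) (hπ.comp hf) hk
    have h1 : f.comp η = MonoidHom.id G := hom_eq_of_perfect hG fun x => hker (by
      show π _ = 1
      rw [map_mul, map_inv, show π (f.comp η x) = π x from DFunLike.congr_fun hη x]
      exact inv_mul_cancel _)
    have h2 : η.comp f = MonoidHom.id G' := hom_eq_of_perfect hP fun x => hfk (by
      show f _ = 1
      rw [map_mul, map_inv, show f (η.comp f x) = f x from DFunLike.congr_fun h1 (f x)]
      exact inv_mul_cancel _)
    have hinj : ∀ m : M G, m = 1 := fun m => by
      have h3 : (⟨(m : Cov (canon G)), m.2.2⟩ : G') = 1 := by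
        rw [← MonoidHom.id_apply G' ⟨(m : Cov (canon G)), m.2.2⟩, ← h2, MonoidHom.comp_apply,
          show f ⟨(m : Cov (canon G)), m.2.2⟩ = 1 from m.2.1, map_one]
      exact Subtype.ext (congrArg (fun y : G' => (y : Cov (canon G))) h3)
    exact ⟨fun a b => (hinj a).trans (hinj b).symm⟩
  · intro hM X _ ξ hξ hk
    let P : Subgroup (G × X) := MonoidHom.eqLocus (π.comp (MonoidHom.fst G X)) (ξ.comp (MonoidHom.snd G X))
    let σ : P →* G := (MonoidHom.fst G X).comp P.subtype
    have hσs : Function.Surjective σ := fun g => by
      obtain ⟨x, hx⟩ := hξ (π g)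
      exact ⟨⟨(g, x), hx.symm⟩, rfl⟩
    have hσk : σ.ker ≤ center P := fun p hp => by
      rw [mem_center_iff]
      intro p'
      have h1 : p.1.1 = 1 := hp
      have h2 : p.1.2 ∈ center X := hk (show ξ p.1.2 = 1 from p.2.symm.trans (show π p.1.1 = 1 by rw [h1, map_one]))
      refine Subtype.ext (Prod.ext ?_ ?_)
      · show p'.1.1 * p.1.1 = p.1.1 * p'.1.1
        rw [h1, mul_one, one_mul]
      · exact mem_center_iff.mp h2 _
    obtain ⟨s, hs⟩ := exists_section hG hM hσs hσk
    refine ⟨((MonoidHom.snd G X).comp P.subtype).comp s, MonoidHom.ext fun g => ?_⟩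
    show ξ (s g : G × X).2 = π g
    exact (s g).2.symm.trans (congrArg π (DFunLike.congr_fun hs g))

end Cfsg.Agent.S3961
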