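import Cfsg.Statements.S3962
-- import your own Cfsg.Agent.* helpers here

set_option autoImplicit false
open Cfsg

namespace Cfsg.Agent.S3962

open scoped commutatorElement

/-- Let `G` be a perfect group and `π : G →* Q` a surjective homomorphism whose kernel is central. Then `π` maps the centre of `G` onto the centre of `Q`. Taking `π` to be the map to `G ⧸ Z(G)` shows that the central quotient of a perfect group has trivial centre. -/
theorem result {G Q : Type*} [Group G] [Group Q] (hG : Group.IsPerfect G) (π : G →* Q) (hπ : Function.Surjective π) (hker : π.ker ≤ Subgroup.center G) : (Subgroup.center G).map π = Subgroup.center Q := by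
  refine le_antisymm ?_ ?_
  · rintro _ ⟨z, hz, rfl⟩
    rw [Subgroup.mem_center_iff]
    intro q
    obtain ⟨x, rfl⟩ := hπ q
    rw [← map_mul, ← map_mul, Subgroup.mem_center_iff.mp hz x]
  · intro q hq
    obtain ⟨g, rfl⟩ := hπ q
    refine ⟨g, ?_, rfl⟩
    have hc : ∀ x : G, ⁅g, x⁆ ∈ Subgroup.center G := fun x => hker (by
      show π _ = 1
      rw [map_commutatorElement]
      exact commutatorElement_eq_one_iff_mul_comm.mpr (Subgroup.mem_center_iff.mp hq (π x)).symm)
    let f : G →* G :=
      { toFun := fun x => ⁅g, x⁆
        map_one' := by simp [commutatorElement_def]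
        map_mul' := fun x y => by
          calc ⁅g, x * y⁆ = ⁅g, x⁆ * (x * ⁅g, y⁆ * x⁻¹) := by simp [commutatorElement_def, mul_assoc]
            _ = ⁅g, x⁆ * ⁅g, y⁆ := by rw [Subgroup.mem_center_iff.mp (hc y) x, mul_inv_cancel_right] }
    have hker' : commutator G ≤ f.ker := by
      rw [_root_.commutator_def, Subgroup.commutator_le]
      intro a _ b _
      show f ⁅a, b⁆ = 1
      rw [map_commutatorElement]
      exact commutatorElement_eq_one_iff_mul_comm.mpr (Subgroup.mem_center_iff.mp (hc b) (f a))
    show g ∈ Subgroup.center G
    rw [Subgroup.mem_center_iff]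
    intro x
    exact (commutatorElement_eq_one_iff_mul_comm.mp (hker' (hG.commutator_eq_top ▸ Subgroup.mem_top x))).symm

end Cfsg.Agent.S3962
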