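import Cfsg.Statements.S3964
import Cfsg.Agent.Lib.Schur.TwoGen
-- import your own Cfsg.Agent.* helpers here

set_option autoImplicit false
open Cfsg

namespace Cfsg.Agent.S3964

open Cfsg.Lib.Schur Subgroup


/-- For odd `n` the dihedral group of order `2 n` has trivial Schur multiplier. -/
theorem result (n : ℕ) (hn : Odd n) : Cfsg.HasCyclicSchurMultiplier (DihedralGroup n) 1 := by
  have : NeZero n := ⟨fun h => by simp [h] at hn⟩
  refine ⟨⟨DihedralGroup n, inferInstance, inferInstance, MonoidHom.id _, isStemExtension_id,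
    ⟨?_⟩⟩, fun Γ _ _ σ hσ => ?_⟩
  · have : Subsingleton ↥(MonoidHom.id (DihedralGroup n)).ker :=
      ⟨fun a b => Subtype.ext (a.2.trans b.2.symm)⟩
    exact { toFun := fun _ => 1, invFun := fun _ => 1, left_inv := fun x => Subsingleton.elim _ _,
            right_inv := fun x => Subsingleton.elim _ _, map_mul' := fun _ _ => (mul_one 1).symm }
  · obtain ⟨c, hc, hk⟩ := dihedral_stem hσ
    refine ⟨1, fun k => ⟨1, ?_⟩⟩
    obtain ⟨i, hi, hd⟩ := hk k k.2
    have hd' : (n : ℤ) ∣ i := (Int.isCoprime_iff_gcd_eq_one.mpr (by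
      have h1 : Nat.Coprime n 2 := (Nat.coprime_two_right).mpr hn
      simpa [Int.gcd] using h1)).dvd_of_dvd_mul_left hd
    obtain ⟨j, rfl⟩ := hd'
    rw [zpow_mul, zpow_natCast, hc, one_zpow] at hi
    exact Subtype.ext hi

end Cfsg.Agent.S3964
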