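import Cfsg.Statements.S3967
import Cfsg.Agent.Lib.Schur.TwoGen
import Mathlib.GroupTheory.PresentedGroup
import Mathlib.GroupTheory.SemidirectProduct
import Mathlib
-- import your own Cfsg.Agent.* helpers here

set_option autoImplicit false
open Cfsg

namespace Cfsg.Agent.S3967

open Subgroup
open scoped commutatorElement

theorem normal_of_center {G : Type*} [Group G] {H : Subgroup G} (h : H ≤ center G) : H.Normal :=
  ⟨fun a ha g => by rw [mem_center_iff.1 (h ha) g, mul_inv_cancel_right]; exact ha⟩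

theorem dvd_eq {a b c : ℤ} (h : a ∣ b) (e : c = b) : a ∣ c := e ▸ h

/-- Arithmetic data of a metacyclic presentation: `d m' = m`, `d s = r - 1`, `u` inverse to `s` modulo `m'`. -/
structure Data where
  m : ℕ
  n : ℕ
  r : ℕ
  t : ℕ
  d : ℕ
  m' : ℕ
  e : ℕ
  s : ℕ
  u : ℤ
  hd : 0 < d
  hn : 0 < n
  hm' : 0 < m'
  he : 0 < e
  hm : m = d * m'
  hr : r = d * s + 1
  hu : (m' : ℤ) ∣ (s : ℤ) * u - 1
  hed : e ∣ d
  hS : m' * e ∣ ∑ i ∈ Finset.range n, r ^ i
  ht : m' * e ∣ t
  ord_dvd : ∀ {k : ℕ}, k ∣ m → k ∣ t → k ∣ ∑ i ∈ Finset.range n, r ^ i → k ∣ m' * e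

namespace Data

variable (D : Data)

/-- The order of the commutator. -/
def N : ℕ := D.m' * D.e

/-- The sum of powers. -/
def sumPow (i : ℕ) : ℕ := ∑ j ∈ Finset.range i, D.r ^ j

/-- The relation lattice. -/
def f : ℤ × ℤ →+ ℤ × ℤ where
  toFun x := (x.1 * D.d, x.2 * D.N - x.1 * D.u)
  map_zero' := by simp
  map_add' x y := by ext <;> simp <;> ring

theorem rd : (D.N : ℤ) ∣ (D.d : ℤ) - ((D.r : ℤ) - 1) * D.u := by
  have h1 : (D.r : ℤ) - 1 = D.d * D.s := by rw [D.hr]; push_cast; ring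
  obtain ⟨k, hk⟩ := D.hu
  obtain ⟨c, hc⟩ := D.hed
  refine ⟨-((c : ℤ) * k), ?_⟩
  rw [h1, N, mul_assoc, show (D.s : ℤ) * D.u = 1 + D.m' * k by linarith]
  rw [hc]; push_cast; ring

theorem rn : (D.N : ℤ) ∣ (D.r : ℤ) ^ D.n - 1 := by
  rw [← geom_sum_mul (D.r : ℤ) D.n]
  refine dvd_mul_of_dvd_left ?_ _
  exact_mod_cast D.hS

theorem mem_L {i j : ℤ} : (i, j) ∈ D.f.range ↔ ∃ x, i = x * D.d ∧ (D.N : ℤ) ∣ j + x * D.u := by
  constructor
  · rintro ⟨⟨x, y⟩, hxy⟩
    simp only [f, AddMonoidHom.coe_mk, ZeroHom.coe_mk, Prod.mk.injEq] at hxy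
    exact ⟨x, hxy.1.symm, y, by rw [← hxy.2]; ring⟩
  · rintro ⟨x, rfl, y, hy⟩
    refine ⟨(x, y), ?_⟩
    simp only [f, AddMonoidHom.coe_mk, ZeroHom.coe_mk, Prod.mk.injEq]
    exact ⟨trivial, by linarith⟩

theorem mem_L_right {j : ℤ} (h : (D.N : ℤ) ∣ j) : ((0 : ℤ), j) ∈ D.f.range :=
  D.mem_L.2 ⟨0, by simp, by simpa using h⟩

/-- The abelian normal subgroup. -/
abbrev K : Type := (ℤ × ℤ) ⧸ D.f.range

/-- The conjugation by the second generator. -/
def up : ℤ × ℤ →+ ℤ × ℤ where
  toFun x := (x.1, x.1 + D.r * x.2)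
  map_zero' := by simp
  map_add' x y := by ext <;> simp; ring

/-- Its inverse modulo the lattice. -/
def down : ℤ × ℤ →+ ℤ × ℤ where
  toFun x := (x.1, (D.r : ℤ) ^ (D.n - 1) * (x.2 - x.1))
  map_zero' := by simp
  map_add' x y := by ext <;> simp; ring

theorem pow_pred : (D.r : ℤ) ^ (D.n - 1) * D.r = (D.r : ℤ) ^ D.n := by
  rw [← pow_succ, Nat.sub_add_cancel D.hn]

theorem up_le : D.f.range ≤ D.f.range.comap D.up := by
  rintro ⟨i, j⟩ h
  obtain ⟨x, rfl, hx⟩ := D.mem_L.1 h
  refine D.mem_L.2 ⟨x, rfl, ?_⟩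
  have := dvd_add (hx.mul_left (D.r : ℤ)) (D.rd.mul_left x)
  refine dvd_eq this ?_
  ring

theorem down_le : D.f.range ≤ D.f.range.comap D.down := by
  rintro ⟨i, j⟩ h
  obtain ⟨x, rfl, hx⟩ := D.mem_L.1 h
  refine D.mem_L.2 ⟨x, rfl, ?_⟩
  have := dvd_sub (dvd_sub (hx.mul_left ((D.r : ℤ) ^ (D.n - 1))) (D.rd.mul_left ((D.r : ℤ) ^ (D.n - 1) * x)))
    (D.rn.mul_left (x * D.u))
  refine dvd_eq this ?_
  rw [← D.pow_pred]
  ring

/-- The conjugation as an automorphism. -/
def beta : MulAut (Multiplicative D.K) :=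
  MulEquiv.mk'
    { toFun := fun x => Multiplicative.ofAdd (QuotientAddGroup.map _ _ D.up D.up_le x.toAdd)
      invFun := fun x => Multiplicative.ofAdd (QuotientAddGroup.map _ _ D.down D.down_le x.toAdd)
      left_inv := fun x => by
        induction x using Multiplicative.rec with
        | _ x =>
          induction x using QuotientAddGroup.induction_on with
          | _ x =>
            obtain ⟨i, j⟩ := x
            refine congrArg Multiplicative.ofAdd ((QuotientAddGroup.eq).2 ?_)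
            have := D.mem_L_right (D.rn.mul_left (-j))
            convert this using 1
            simp only [down, up, AddMonoidHom.coe_mk, ZeroHom.coe_mk, ← D.pow_pred, Prod.neg_mk, Prod.mk_add_mk]
            ext <;> ring
      right_inv := fun x => by
        induction x using Multiplicative.rec with
        | _ x =>
          induction x using QuotientAddGroup.induction_on with
          | _ x =>
            obtain ⟨i, j⟩ := x
            refine congrArg Multiplicative.ofAdd ((QuotientAddGroup.eq).2 ?_)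
            have := D.mem_L_right (D.rn.mul_left (i - j))
            convert this using 1
            simp only [down, up, AddMonoidHom.coe_mk, ZeroHom.coe_mk, ← D.pow_pred, Prod.neg_mk, Prod.mk_add_mk]
            ext <;> ring }
    (fun x y => congrArg Multiplicative.ofAdd (map_add (QuotientAddGroup.map _ _ D.up D.up_le) x.toAdd y.toAdd))

/-- An element of the normal subgroup. -/
def el (i j : ℤ) : Multiplicative D.K := Multiplicative.ofAdd ((((i, j) : ℤ × ℤ)) : D.K)

theorem el_mul (i j i' j' : ℤ) : D.el i j * D.el i' j' = D.el (i + i') (j + j') := rfl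

theorem el_inv (i j : ℤ) : (D.el i j)⁻¹ = D.el (-i) (-j) := rfl

theorem el_zpow (i j k : ℤ) : D.el i j ^ k = D.el (k * i) (k * j) := by
  refine Multiplicative.toAdd.injective ?_
  show k • (((i, j) : ℤ × ℤ) : D.K) = (((k * i, k * j) : ℤ × ℤ) : D.K)
  rw [← QuotientAddGroup.mk_zsmul]
  simp

theorem el_eq {i j i' j' : ℤ} (x : ℤ) (hi : i' - i = x * D.d) (hj : (D.N : ℤ) ∣ j' - j + x * D.u) :
    D.el i j = D.el i' j' := by
  refine congrArg Multiplicative.ofAdd (QuotientAddGroup.eq.2 (D.mem_L.2 ⟨x, ?_, ?_⟩))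
  · show -i + i' = x * D.d; linarith
  · show (D.N : ℤ) ∣ -j + j' + x * D.u
    refine dvd_eq hj ?_; ring

theorem el_eq_one {i j : ℤ} (h : D.el i j = 1) : ∃ x, i = x * D.d ∧ (D.N : ℤ) ∣ j + x * D.u :=
  D.mem_L.1 ((QuotientAddGroup.eq_zero_iff _).1 (congrArg Multiplicative.toAdd h))

theorem exists_el (x : Multiplicative D.K) : ∃ i j, x = D.el i j := by
  induction x using Multiplicative.rec with
  | _ x =>
    induction x using QuotientAddGroup.induction_on with
    | _ x => exact ⟨x.1, x.2, rfl⟩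

theorem beta_el (i j : ℤ) : D.beta (D.el i j) = D.el i (i + D.r * j) := rfl

theorem beta_pow (k : ℕ) (i j : ℤ) :
    (D.beta ^ k) (D.el i j) = D.el i (D.sumPow k * i + (D.r : ℤ) ^ k * j) := by
  induction k with
  | zero => simp [sumPow]
  | succ k ih =>
    rw [pow_succ', MulAut.mul_apply, ih, beta_el, sumPow, sumPow, geom_sum_succ]
    congr 1
    push_cast; ring

theorem beta_pow_n : D.beta ^ D.n = 1 := by
  refine MulEquiv.ext fun x => ?_
  obtain ⟨i, j, rfl⟩ := D.exists_el x
  rw [beta_pow, MulAut.one_apply]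
  refine D.el_eq 0 (by ring) ?_
  have h1 : (D.N : ℤ) ∣ (D.sumPow D.n : ℤ) := by exact_mod_cast D.hS
  have := dvd_neg.2 (dvd_add (h1.mul_right i) (D.rn.mul_right j))
  refine dvd_eq this ?_; ring

/-- The action. -/
def act : Multiplicative ℤ →* MulAut (Multiplicative D.K) := zpowersHom _ D.beta

/-- The infinite extension. -/
abbrev S : Type := Multiplicative D.K ⋊[D.act] Multiplicative ℤ

/-- The central element realising the relation on the power of the second generator. -/
def zeta : D.S := ⟨D.el (-(D.t : ℤ)) 0, Multiplicative.ofAdd (D.n : ℤ)⟩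

theorem act_one : D.act (Multiplicative.ofAdd 1) = D.beta := by
  show D.beta ^ (1 : ℤ) = D.beta
  exact zpow_one _

theorem zeta_center : D.zeta ∈ center D.S := by
  rw [mem_center_iff]
  intro g
  have hn : D.act (Multiplicative.ofAdd (D.n : ℤ)) = 1 := by
    show D.beta ^ (D.n : ℤ) = 1
    rw [zpow_natCast, beta_pow_n]
  have hfix : ∀ z : Multiplicative ℤ, D.act z (D.el (-(D.t : ℤ)) 0) = D.el (-(D.t : ℤ)) 0 := by
    have h1 : D.beta ∈ MulAction.stabilizer (MulAut (Multiplicative D.K)) (D.el (-(D.t : ℤ)) 0) := by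
      show D.beta (D.el _ _) = _
      rw [beta_el]
      refine D.el_eq 0 (by ring) ?_
      have : (D.N : ℤ) ∣ (D.t : ℤ) := by exact_mod_cast D.ht
      refine dvd_eq this ?_; ring
    exact fun z => zpow_mem h1 z.toAdd
  refine SemidirectProduct.ext ?_ (mul_comm _ _)
  show g.left * D.act g.right (D.el _ _) = D.el _ _ * D.act (Multiplicative.ofAdd (D.n : ℤ)) g.left
  rw [hfix, hn, MulAut.one_apply, mul_comm]

instance : (zpowers D.zeta).Normal := normal_of_center (zpowers_le.2 D.zeta_center)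

/-- The covering group. -/
abbrev Cover : Type := D.S ⧸ zpowers D.zeta

/-- The lift of the first generator. -/
def A : D.Cover := QuotientGroup.mk (SemidirectProduct.inl (D.el 1 0))

/-- The lift of the second generator. -/
def B : D.Cover := QuotientGroup.mk (SemidirectProduct.inr (Multiplicative.ofAdd 1))

/-- The embedding of the normal subgroup. -/
def inK : Multiplicative D.K →* D.Cover := (QuotientGroup.mk' _).comp SemidirectProduct.inl

theorem inK_inj : Function.Injective D.inK := by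
  rw [injective_iff_map_eq_one]
  intro x hx
  obtain ⟨k, hk⟩ := mem_zpowers_iff.1 ((QuotientGroup.eq_one_iff _).1 hx)
  have h2 : (SemidirectProduct.rightHom : D.S →* _) (D.zeta ^ k) = 1 := by
    rw [hk, SemidirectProduct.rightHom_inl]
  rw [map_zpow] at h2
  have h3 : k * (D.n : ℤ) = 0 := by
    have := congrArg Multiplicative.toAdd h2
    simpa [zeta] using this
  have hk0 : k = 0 := (mul_eq_zero.1 h3).resolve_right (by have := D.hn; omega)
  rw [hk0, zpow_zero] at hk
  exact SemidirectProduct.inl_injective (hk.symm.trans (map_one _).symm)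

theorem B_conj (x : Multiplicative D.K) : D.B * D.inK x * D.B⁻¹ = D.inK (D.beta x) := by
  show QuotientGroup.mk (s := zpowers D.zeta) (SemidirectProduct.inr (Multiplicative.ofAdd 1) * SemidirectProduct.inl x *
    (SemidirectProduct.inr (Multiplicative.ofAdd 1))⁻¹) = QuotientGroup.mk (SemidirectProduct.inl (D.beta x))
  rw [← map_inv, ← SemidirectProduct.inl_aut, act_one]

theorem inK_el (i j : ℤ) : D.inK (D.el i j) = D.A ^ i * D.inK (D.el 0 1) ^ j := by
  rw [show D.A = D.inK (D.el 1 0) from rfl, ← map_zpow, ← map_zpow, ← map_mul, el_zpow, el_zpow, el_mul]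
  simp

theorem B_pow : D.B ^ D.n = D.A ^ D.t := by
  rw [show D.A = D.inK (D.el 1 0) from rfl, ← map_pow, ← zpow_natCast (D.el 1 0), el_zpow]
  show (QuotientGroup.mk' (zpowers D.zeta)) _ ^ D.n = QuotientGroup.mk' (zpowers D.zeta) _
  rw [← map_pow]
  show QuotientGroup.mk _ = QuotientGroup.mk _
  rw [QuotientGroup.eq]
  convert inv_mem (mem_zpowers D.zeta) using 1
  rw [← map_pow, ← map_inv, eq_inv_iff_mul_eq_one]
  ext
  · simp only [SemidirectProduct.mul_left, SemidirectProduct.left_inr, SemidirectProduct.right_inr,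
      SemidirectProduct.left_inl, SemidirectProduct.mul_right, SemidirectProduct.right_inl, one_mul, mul_one]
    show D.act _ (D.el _ _) * D.act _ (D.el _ _) = 1
    have hn : D.act ((Multiplicative.ofAdd (1 : ℤ)) ^ D.n)⁻¹ = 1 := by
      rw [map_inv, map_pow, act_one, beta_pow_n, inv_one]
    rw [hn, MulAut.one_apply, MulAut.one_apply, el_mul]
    exact (D.el_eq (i' := 0) (j' := 0) 0 (by ring) (by simp)).trans rfl
  · simp [zeta, -map_pow]

theorem finite_cover : Finite D.Cover := by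
  have hK : Finite (Multiplicative D.K) := by
    refine Finite.of_surjective (fun q : Fin D.d × Fin D.N => D.el (q.1 : ℕ) (q.2 : ℕ)) fun x => ?_
    obtain ⟨i, j, rfl⟩ := D.exists_el x
    have hN : 0 < D.N := Nat.mul_pos D.hm' D.he
    set x := i / (D.d : ℤ) with hx
    obtain ⟨a, ha⟩ := Int.eq_ofNat_of_zero_le (Int.emod_nonneg i (by have := D.hd; omega : (D.d : ℤ) ≠ 0))
    obtain ⟨b, hb⟩ := Int.eq_ofNat_of_zero_le (Int.emod_nonneg (j + x * D.u) (by omega : (D.N : ℤ) ≠ 0))
    have h1 := Int.emod_lt_of_pos i (by have := D.hd; omega : (0 : ℤ) < D.d)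
    have h2 := Int.emod_lt_of_pos (j + x * D.u) (by omega : (0 : ℤ) < D.N)
    refine ⟨(⟨a, by omega⟩, ⟨b, by omega⟩), D.el_eq x ?_ ?_⟩
    · show i - (a : ℤ) = x * D.d
      rw [← ha]
      have := Int.mul_ediv_add_emod i (D.d : ℤ)
      rw [hx]; linarith
    · show (D.N : ℤ) ∣ j - (b : ℤ) + x * D.u
      rw [← hb, show j - (j + x * D.u) % (D.N : ℤ) + x * D.u = (j + x * D.u) - (j + x * D.u) % (D.N : ℤ) by ring]
      exact ⟨_, (eq_sub_of_add_eq (Int.mul_ediv_add_emod (j + x * D.u) (D.N : ℤ))).symm⟩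
  refine Finite.of_surjective (fun q : Multiplicative D.K × Fin D.n =>
    D.inK q.1 * D.B ^ (q.2 : ℕ)) fun g => ?_
  induction g using QuotientGroup.induction_on with
  | _ g =>
    obtain ⟨i, hi⟩ := Int.eq_ofNat_of_zero_le (Int.emod_nonneg g.right.toAdd (by have := D.hn; omega : (D.n : ℤ) ≠ 0))
    have h1 := Int.emod_lt_of_pos g.right.toAdd (by have := D.hn; omega : (0 : ℤ) < D.n)
    set q := g.right.toAdd / (D.n : ℤ) with hq
    refine ⟨(g.left * D.el 1 0 ^ ((D.t : ℤ) * q), ⟨i, by omega⟩), ?_⟩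
    have hgr : D.B ^ g.right.toAdd = QuotientGroup.mk (SemidirectProduct.inr g.right) := by
      show (QuotientGroup.mk' (zpowers D.zeta)) _ ^ g.right.toAdd = QuotientGroup.mk' (zpowers D.zeta) _
      rw [← map_zpow, ← map_zpow]
      congr 2
      refine Multiplicative.toAdd.injective ?_
      simp
    show D.inK _ * D.B ^ i = QuotientGroup.mk g
    conv_rhs => rw [← SemidirectProduct.inl_left_mul_inr_right g, QuotientGroup.mk_mul, ← hgr]
    rw [map_mul, map_zpow, show D.inK (D.el 1 0) = D.A from rfl, mul_assoc]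
    congr 1
    rw [zpow_mul, zpow_natCast, ← B_pow, ← zpow_natCast D.B D.n, ← zpow_mul, ← zpow_natCast D.B i, ← zpow_add, ← hi]
    congr 1
    have := Int.mul_ediv_add_emod g.right.toAdd (D.n : ℤ)
    rw [hq]; linarith

/-- The central element generating the kernel. -/
def z0 : D.Cover := D.inK (D.el 0 1) ^ D.m'

theorem z0_eq : D.z0 = D.inK (D.el 0 D.m') := by
  rw [z0, ← map_pow, ← zpow_natCast (D.el 0 1), el_zpow]
  simp

theorem z0_center : D.z0 ∈ center D.Cover := by
  rw [mem_center_iff]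
  intro g
  induction g using QuotientGroup.induction_on with
  | _ g =>
    rw [← SemidirectProduct.inl_left_mul_inr_right g, QuotientGroup.mk_mul]
    have h1 : Commute (QuotientGroup.mk (SemidirectProduct.inl g.left) : D.Cover) D.z0 := by
      rw [z0_eq]; exact (Commute.all g.left _).map D.inK
    have h2 : Commute (QuotientGroup.mk (SemidirectProduct.inr g.right) : D.Cover) D.z0 := by
      have h : Commute D.B D.z0 := by
        have := D.B_conj (D.el 0 D.m')
        rw [beta_el, ← z0_eq, D.el_eq (i := 0) (j := 0 + D.r * D.m') (i' := 0) (j' := D.m') 0 (by ring) ?_,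
          ← z0_eq] at this
        · exact mul_inv_eq_iff_eq_mul.1 this
        · obtain ⟨c, hc⟩ := D.hed
          refine ⟨-(c * D.s : ℕ), ?_⟩
          rw [N, D.hr, hc]; push_cast; ring
      have e : (SemidirectProduct.inr g.right : D.S) = SemidirectProduct.inr (Multiplicative.ofAdd 1) ^ g.right.toAdd := by
        rw [← map_zpow]
        congr 1
        refine Multiplicative.toAdd.injective ?_
        simp
      rw [e, QuotientGroup.mk_zpow]
      exact h.zpow_left _
    exact (h1.mul_left h2).eq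

instance : (zpowers D.z0).Normal := normal_of_center (zpowers_le.2 D.z0_center)

theorem z0_zpow_eq_one {k : ℤ} (h : D.z0 ^ k = 1) : (D.e : ℤ) ∣ k := by
  rw [z0_eq, ← map_zpow, el_zpow] at h
  obtain ⟨x, hx, hd⟩ := D.el_eq_one (D.inK_inj (h.trans (map_one _).symm))
  rw [mul_zero, eq_comm, mul_eq_zero] at hx
  rw [hx.resolve_right (by have := D.hd; omega), zero_mul, add_zero, N, Nat.cast_mul, mul_comm k] at hd
  exact (mul_dvd_mul_iff_left (by have := D.hm'; omega : (D.m' : ℤ) ≠ 0)).1 hd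

theorem z0_pow : D.z0 ^ D.e = 1 := by
  rw [z0_eq, ← map_pow, ← zpow_natCast (D.el 0 _), el_zpow]
  rw [D.el_eq (i' := 0) (j' := 0) 0 (by ring) ⟨-1, by rw [N]; push_cast; ring⟩]
  exact map_one D.inK

theorem C_eq : D.inK (D.el 0 1) = ⁅D.B, D.A⁆ := by
  rw [commutatorElement_def, show D.A = D.inK (D.el 1 0) from rfl, D.B_conj, ← map_inv, ← map_mul, beta_el,
    el_inv, el_mul]
  simp

theorem A_zpow_mem {i : ℤ} (h : D.A ^ i ∈ zpowers D.z0) : (D.m : ℤ) ∣ i := by
  obtain ⟨k, hk⟩ := mem_zpowers_iff.1 h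
  rw [z0_eq, show D.A = D.inK (D.el 1 0) from rfl, ← map_zpow, ← map_zpow, el_zpow, el_zpow] at hk
  have h1 := D.inK_inj hk
  rw [← inv_mul_eq_one, el_inv, el_mul] at h1
  obtain ⟨x, hx, hd⟩ := D.el_eq_one h1
  have h2 : (D.m' : ℤ) ∣ x := by
    have h3 : (D.m' : ℤ) ∣ x * D.u := by
      have h4 : (D.m' : ℤ) ∣ -(k * D.m') + i * 0 + x * D.u :=
        (Dvd.intro (D.e : ℤ) (by rw [N]; push_cast; ring)).trans hd
      have := dvd_add h4 (Dvd.intro_left k rfl : (D.m' : ℤ) ∣ k * D.m')
      refine dvd_eq this ?_; ring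
    have := dvd_sub (h3.mul_left (D.s : ℤ)) (D.hu.mul_left x)
    refine dvd_eq this ?_; ring
  obtain ⟨y, hy⟩ := h2
  refine ⟨y, ?_⟩
  rw [D.hm]; push_cast
  rw [hy] at hx
  linarith

end Data

section
variable (m n r t : ℕ)

/-- The relations. -/
abbrev rels : Set (FreeGroup Bool) :=
  {FreeGroup.of true ^ m, (FreeGroup.of false) ^ n * (FreeGroup.of true ^ t)⁻¹, FreeGroup.of false * FreeGroup.of true * (FreeGroup.of false)⁻¹ * (FreeGroup.of true ^ r)⁻¹}

/-- The presented group. -/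
abbrev Met : Type := PresentedGroup (rels m n r t)

/-- The first generator. -/
abbrev ga : Met m n r t := PresentedGroup.of true

/-- The second generator. -/
abbrev gb : Met m n r t := PresentedGroup.of false

theorem ga_pow : ga m n r t ^ m = 1 := by
  show (PresentedGroup.mk (rels m n r t) (FreeGroup.of true)) ^ m = 1
  rw [← map_pow]
  exact PresentedGroup.one_of_mem (by simp)

theorem gb_pow : gb m n r t ^ n = ga m n r t ^ t := by
  rw [← mul_inv_eq_one]
  show (PresentedGroup.mk (rels m n r t) (FreeGroup.of false)) ^ n * ((PresentedGroup.mk (rels m n r t) (FreeGroup.of true)) ^ t)⁻¹ = 1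
  rw [← map_pow, ← map_pow, ← map_inv, ← map_mul]
  exact PresentedGroup.one_of_mem (by simp)

theorem gb_conj : gb m n r t * ga m n r t * (gb m n r t)⁻¹ = ga m n r t ^ r := by
  rw [← mul_inv_eq_one]
  show (PresentedGroup.mk (rels m n r t) (FreeGroup.of false)) * (PresentedGroup.mk (rels m n r t) (FreeGroup.of true)) *
    (PresentedGroup.mk (rels m n r t) (FreeGroup.of false))⁻¹ * ((PresentedGroup.mk (rels m n r t) (FreeGroup.of true)) ^ r)⁻¹ = 1
  rw [← map_pow, ← map_inv, ← map_inv, ← map_mul, ← map_mul, ← map_mul]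
  exact PresentedGroup.one_of_mem (by simp)

theorem gen_top : closure ({ga m n r t, gb m n r t} : Set (Met m n r t)) = ⊤ := by
  rw [eq_top_iff, ← PresentedGroup.closure_range_of, closure_le]
  rintro _ ⟨b, rfl⟩
  cases b
  · exact subset_closure (Or.inr rfl)
  · exact subset_closure (Or.inl rfl)

end

theorem main (D : Data) : Cfsg.HasCyclicSchurMultiplier (Met D.m D.n D.r D.t) D.e ∧
    ∀ i : ℤ, ga D.m D.n D.r D.t ^ i = 1 → (D.m : ℤ) ∣ i := by
  set a := ga D.m D.n D.r D.t with ha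
  set b := gb D.m D.n D.r D.t with hb
  have har : ∀ i : ℤ, b * a ^ i * b⁻¹ = a ^ ((D.r : ℤ) * i) := fun i => by
    rw [← conj_zpow, gb_conj, ← zpow_natCast a D.r, ← zpow_mul]
  let ℓ : ℤ × ℤ →+ ℤ := AddMonoidHom.mk' (fun x => x.1 + ((D.r : ℤ) - 1) * x.2) (fun x y => by simp; ring)
  have hL : D.f.range ≤ ((zmultiplesHom (Additive (Met D.m D.n D.r D.t)) (Additive.ofMul a)).comp ℓ).ker := by
    rintro ⟨i, j⟩ h
    obtain ⟨x, rfl, y, hy⟩ := D.mem_L.1 h
    show (x * (D.d : ℤ) + ((D.r : ℤ) - 1) * j) • Additive.ofMul a = 0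
    refine congrArg Additive.ofMul ?_
    show a ^ _ = 1
    obtain ⟨k, hk⟩ := D.hu
    have hj : j = (D.N : ℤ) * y - x * D.u := by linarith
    have e : x * (D.d : ℤ) + ((D.r : ℤ) - 1) * j = (D.m : ℤ) * (D.s * D.e * y - x * k) := by
      rw [hj, Data.N, D.hm, show (D.r : ℤ) - 1 = D.d * D.s by rw [D.hr]; push_cast; ring]
      push_cast
      linear_combination (-(x * (D.d : ℤ))) * hk
    rw [e, zpow_mul, zpow_natCast, ga_pow, one_zpow]
  let f₁ : Multiplicative D.K →* Met D.m D.n D.r D.t :=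
    AddMonoidHom.toMultiplicativeLeft (QuotientAddGroup.lift _ _ hL)
  have hf₁ : ∀ i j, f₁ (D.el i j) = a ^ (i + ((D.r : ℤ) - 1) * j) := fun i j => rfl
  have hcompat : ∀ g : Multiplicative ℤ, f₁.comp (D.act g).toMonoidHom =
      (MulAut.conj (zpowersHom (Met D.m D.n D.r D.t) b g)).toMonoidHom.comp f₁ := by
    have h1 : ∀ x, f₁ (D.beta x) = b * f₁ x * b⁻¹ := fun x => by
      obtain ⟨i, j, rfl⟩ := D.exists_el x
      rw [D.beta_el, hf₁, hf₁, har]
      congr 1; ring
    intro g
    refine MonoidHom.ext fun x => ?_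
    show f₁ ((D.beta ^ g.toAdd) x) = b ^ g.toAdd * f₁ x * (b ^ g.toAdd)⁻¹
    generalize g.toAdd = k
    induction k using Int.induction_on generalizing x with
    | zero => simp
    | succ k ih =>
      rw [zpow_add_one, MulAut.mul_apply, ih, h1, zpow_add_one, mul_inv_rev]; group
    | pred k ih =>
      have h2 : f₁ (D.beta⁻¹ x) = b⁻¹ * f₁ x * b := by
        have := h1 (D.beta⁻¹ x)
        rw [MulAut.apply_inv_self] at this
        rw [this]; group
      rw [zpow_sub_one, MulAut.mul_apply, ih, h2, zpow_sub_one]; group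
  let σ₀ : D.S →* Met D.m D.n D.r D.t := SemidirectProduct.lift f₁ (zpowersHom (Met D.m D.n D.r D.t) b) hcompat
  have hz : zpowers D.zeta ≤ σ₀.ker := by
    rw [zpowers_le, MonoidHom.mem_ker]
    show f₁ (D.el (-(D.t : ℤ)) 0) * b ^ (D.n : ℤ) = 1
    rw [hf₁, zpow_natCast, gb_pow, mul_zero, add_zero, zpow_neg, zpow_natCast, inv_mul_cancel]
  let σ : D.Cover →* Met D.m D.n D.r D.t := QuotientGroup.lift _ σ₀ hz
  have hσK : ∀ x, σ (D.inK x) = f₁ x := fun x => SemidirectProduct.lift_inl f₁ _ hcompat x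
  have hσA : σ D.A = a := by rw [show D.A = D.inK (D.el 1 0) from rfl, hσK, hf₁]; simp
  have hσB : σ D.B = b := by
    show σ₀ (SemidirectProduct.inr (Multiplicative.ofAdd 1)) = b
    rw [SemidirectProduct.lift_inr]
    exact zpow_one b
  have hσz : σ D.z0 = 1 := by
    rw [D.z0_eq, hσK, hf₁, zero_add,
      show ((D.r : ℤ) - 1) * D.m' = (D.m : ℤ) * D.s by rw [D.hm, D.hr]; push_cast; ring,
      zpow_mul, zpow_natCast a D.m, ga_pow, one_zpow]
  -- the map back
  let τ : Met D.m D.n D.r D.t →* D.Cover ⧸ zpowers D.z0 := PresentedGroup.toGroup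
    (f := fun x => QuotientGroup.mk (if x = true then D.A else D.B)) (by
      have e : ∀ x : Bool, FreeGroup.lift (fun x => (QuotientGroup.mk (if x = true then D.A else D.B) : D.Cover ⧸ zpowers D.z0))
          (FreeGroup.of x) = QuotientGroup.mk' _ (if x = true then D.A else D.B) := fun x => FreeGroup.lift_apply_of
      intro w hw
      simp only [rels, Set.mem_insert_iff, Set.mem_singleton_iff] at hw
      have key : ∀ g : D.Cover, (∃ i j : ℤ, g = D.inK (D.el i j) ∧ ∃ x, i = x * D.d ∧ (D.m' : ℤ) ∣ j + x * D.u) →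
          QuotientGroup.mk' (zpowers D.z0) g = 1 := by
        rintro g ⟨i, j, rfl, x, rfl, k, hk⟩
        refine (QuotientGroup.eq_one_iff _).2 (mem_zpowers_iff.2 ⟨k, ?_⟩)
        rw [D.z0_eq, ← map_zpow, D.el_zpow]
        refine congrArg _ (D.el_eq x (by ring) ⟨0, ?_⟩)
        linear_combination hk
      rcases hw with rfl | rfl | rfl
      · rw [map_pow, e, if_pos rfl, ← map_pow]
        refine key _ ⟨D.m, 0, ?_, D.m', by rw [D.hm]; push_cast; ring, Dvd.intro D.u (by ring)⟩
        rw [D.inK_el, zpow_natCast, zpow_zero, mul_one]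
      · rw [map_mul, map_inv, map_pow, map_pow, e, e, if_pos rfl, if_neg (by simp), ← map_pow, ← map_pow, D.B_pow,
          mul_inv_cancel]
      · rw [map_mul, map_mul, map_mul, map_inv, map_inv, map_pow, e, e, if_pos rfl, if_neg (by simp), ← map_inv,
          ← map_mul, ← map_mul, ← map_pow, ← map_inv, ← map_mul]
        refine key _ ⟨1 - (D.r : ℤ), 1, ?_, -(D.s : ℤ), by rw [D.hr]; push_cast; ring, ?_⟩
        · have hA : D.A = D.inK (D.el 1 0) := rfl
          rw [hA, D.B_conj, D.beta_el, ← map_pow, ← map_inv, ← map_mul, ← zpow_natCast (D.el 1 0) D.r,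
            D.el_zpow, D.el_inv, D.el_mul]
          congr 2 <;> ring
        · have := dvd_neg.2 D.hu
          refine dvd_eq this ?_; ring)
  have hτa : τ a = QuotientGroup.mk D.A := PresentedGroup.toGroup.of _
  have hτb : τ b = QuotientGroup.mk D.B := PresentedGroup.toGroup.of _
  have hordA : ∀ i : ℤ, a ^ i = 1 → (D.m : ℤ) ∣ i := fun i hi => D.A_zpow_mem (by
    rw [← QuotientGroup.eq_one_iff, QuotientGroup.mk_zpow, ← hτa, ← map_zpow, hi, map_one])
  have hcomp : ∀ g : D.Cover, τ (σ g) = QuotientGroup.mk g := by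
    intro g
    induction g using QuotientGroup.induction_on with
    | _ g =>
      rw [← SemidirectProduct.inl_left_mul_inr_right g, QuotientGroup.mk_mul, map_mul, map_mul, QuotientGroup.mk_mul]
      congr 1
      · obtain ⟨i, j, hij⟩ := D.exists_el g.left
        rw [hij, show (QuotientGroup.mk (SemidirectProduct.inl (D.el i j)) : D.Cover) = D.inK (D.el i j) from rfl, hσK,
          hf₁, map_zpow, hτa, ← QuotientGroup.mk_zpow, QuotientGroup.eq, mem_zpowers_iff]
        refine ⟨(1 - (D.s : ℤ) * D.u) / D.m' * j, ?_⟩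
        obtain ⟨k, hk⟩ := D.hu
        have h1 : (1 - (D.s : ℤ) * D.u) / D.m' = -k := by
          rw [show 1 - (D.s : ℤ) * D.u = (D.m' : ℤ) * (-k) by linarith, Int.mul_ediv_cancel_left _ (by have := D.hm'; omega)]
        rw [h1, D.z0_eq, show D.A = D.inK (D.el 1 0) from rfl, ← map_zpow, ← map_zpow, ← map_inv, ← map_mul,
          D.el_zpow, D.el_zpow, D.el_inv, D.el_mul]
        refine congrArg _ (D.el_eq (-(D.s : ℤ) * j) (by rw [D.hr]; push_cast; ring) ⟨0, ?_⟩)
        linear_combination (-j) * hk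
      · have e : (SemidirectProduct.inr g.right : D.S) = SemidirectProduct.inr (Multiplicative.ofAdd 1) ^ g.right.toAdd := by
          rw [← map_zpow]
          congr 1
          refine Multiplicative.toAdd.injective ?_
          simp
        rw [e, QuotientGroup.mk_zpow]
        show τ (σ (D.B ^ _)) = _
        rw [map_zpow, hσB, map_zpow, hτb]
        rfl
  have hker : σ.ker = zpowers D.z0 := le_antisymm (fun g hg => by
    rw [← QuotientGroup.eq_one_iff, ← hcomp, MonoidHom.mem_ker.1 hg, map_one]) (zpowers_le.2 hσz)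
  have hord : orderOf D.z0 = D.e := Nat.dvd_antisymm (orderOf_dvd_of_pow_eq_one D.z0_pow)
    (Int.natCast_dvd_natCast.1 (D.z0_zpow_eq_one (by rw [zpow_natCast, pow_orderOf_eq_one])))
  haveI := D.finite_cover
  refine ⟨⟨⟨D.Cover, inferInstance, inferInstance, σ, ⟨?_, ?_, ?_⟩, ?_⟩, ?_⟩, hordA⟩
  · rw [← MonoidHom.range_eq_top, eq_top_iff, ← gen_top, closure_le]
    rintro _ (rfl | rfl)
    · exact ⟨_, hσA⟩
    · exact ⟨_, hσB⟩
  · rw [hker, zpowers_le]; exact D.z0_center
  · rw [hker, zpowers_le, Data.z0, D.C_eq]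
    exact pow_mem (commutator_mem_commutator (mem_top _) (mem_top _)) _
  · haveI : IsCyclic σ.ker := by rw [hker]; infer_instance
    exact ⟨mulEquivOfCyclicCardEq (by rw [Nat.card_congr Multiplicative.toAdd, Nat.card_zmod, hker, Nat.card_zpowers, hord])⟩
  intro Γ _ _ σ' hσ'
  obtain ⟨A', hA'⟩ := hσ'.1 a
  obtain ⟨B', hB'⟩ := hσ'.1 b
  set c := ⁅B', A'⁆ with hc
  have hr1 : (D.r - 1 : ℕ) = D.d * D.s := by have := D.hr; omega
  have hσc : σ' c = a ^ (D.r - 1) := by
    rw [hc, map_commutatorElement, hA', hB', commutatorElement_def, gb_conj, pow_sub a (by have := D.hr; omega : 1 ≤ D.r), pow_one]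
  set z := c * (A' ^ (D.r - 1))⁻¹ with hzdef
  have hzc : z ∈ center Γ := hσ'.2.1 (by
    show σ' _ = 1
    rw [hzdef, map_mul, map_inv, map_pow, hσc, hA', mul_inv_cancel])
  have hcz : c = z * A' ^ (D.r - 1) := by rw [hzdef, inv_mul_cancel_right]
  have hcA : Commute c A' := by
    rw [hcz]; exact (Commute.symm (mem_center_iff.1 hzc A')).mul_left ((Commute.refl A').pow_left _)
  have hBA : B' * A' * B'⁻¹ = c * A' := by rw [hc, commutatorElement_def, inv_mul_cancel_right]
  have hBAi : ∀ i : ℕ, B' * A' ^ i * B'⁻¹ = c ^ i * A' ^ i := fun i => by rw [← conj_pow, hBA, hcA.mul_pow]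
  have hBc : B' * c * B'⁻¹ = c ^ D.r := by
    calc B' * c * B'⁻¹ = (B' * z * B'⁻¹) * (B' * A' ^ (D.r - 1) * B'⁻¹) := by rw [hcz]; group
      _ = z * (c ^ (D.r - 1) * A' ^ (D.r - 1)) := by rw [hBAi, mem_center_iff.1 hzc B', mul_inv_cancel_right]
      _ = c ^ (D.r - 1) * c := by
        rw [← mul_assoc, ← mem_center_iff.1 hzc, mul_assoc, ← hcz]
      _ = _ := by rw [← pow_succ, Nat.sub_add_cancel (by have := D.hr; omega)]
  have hcen : ∀ i : ℕ, A' ^ i ∈ center Γ → c ^ i = 1 := fun i hi => by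
    have := hBAi i
    rw [mem_center_iff.1 hi B', mul_inv_cancel_right] at this
    exact mul_eq_right.1 this.symm
  have hm : c ^ D.m = 1 := hcen _ (hσ'.2.1 (by show σ' _ = 1; rw [map_pow, hA', ga_pow]))
  have hk : A' ^ D.t * (B' ^ D.n)⁻¹ ∈ center Γ := hσ'.2.1 (by
    show σ' _ = 1
    rw [map_mul, map_inv, map_pow, map_pow, hA', hB', gb_pow, mul_inv_cancel])
  have hAB : Commute (A' ^ D.t) B' := by
    have h1 : Commute (A' ^ D.t * (B' ^ D.n)⁻¹) B' := Commute.symm (mem_center_iff.1 hk B')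
    have := h1.mul_left ((Commute.refl B').pow_left D.n)
    rwa [inv_mul_cancel_right] at this
  have ht : c ^ D.t = 1 := by
    have := hBAi D.t
    rw [← hAB.eq, mul_inv_cancel_right] at this
    exact mul_eq_right.1 this.symm
  have hBn : ∀ i, B' ^ i * A' * (B' ^ i)⁻¹ = c ^ D.sumPow i * A' := by
    intro i
    induction i with
    | zero => simp [Data.sumPow]
    | succ i ih =>
      calc B' ^ (i + 1) * A' * (B' ^ (i + 1))⁻¹ = B' * (B' ^ i * A' * (B' ^ i)⁻¹) * B'⁻¹ := by
            rw [pow_succ' B']; group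
        _ = (B' * c ^ D.sumPow i * B'⁻¹) * (B' * A' * B'⁻¹) := by rw [ih]; group
        _ = c ^ D.sumPow (i + 1) * A' := by
          rw [← conj_pow, hBc, hBA, ← pow_mul, ← mul_assoc, ← pow_succ, Data.sumPow, Data.sumPow, geom_sum_succ]
  have hS : c ^ D.sumPow D.n = 1 := by
    have h1 : Commute (B' ^ D.n) A' := by
      have h2 : Commute ((A' ^ D.t * (B' ^ D.n)⁻¹)⁻¹ * A' ^ D.t) A' :=
        (Commute.symm (mem_center_iff.1 hk A')).inv_left.mul_left ((Commute.refl A').pow_left _)
      convert h2 using 1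
      group
    have := hBn D.n
    rw [h1.eq, mul_inv_cancel_right] at this
    exact mul_eq_right.1 this.symm
  haveI hN : (zpowers c).Normal := by
    rw [← normalizer_eq_top_iff, eq_top_iff, ← Cfsg.Lib.Schur.closure_sup_center hσ'.2.1 {A', B'} (by
      rw [Set.image_pair, hA', hB', gen_top])]
    refine sup_le ((closure_le _).mpr ?_) (center_le_normalizer _)
    have key : ∀ w : Γ, w * c * w⁻¹ ∈ zpowers c → w ∈ normalizer (zpowers c : Set Γ) := by
      intro w hw
      have hle : (zpowers c).map (MulAut.conj w).toMonoidHom ≤ zpowers c := by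
        rw [MonoidHom.map_zpowers, zpowers_le]; exact hw
      have heq := eq_of_le_of_card_ge hle (by
        rw [card_map_of_injective (MulAut.conj w).injective])
      rw [mem_normalizer_iff]
      intro x
      constructor
      · exact fun hx => heq.le ⟨x, hx, rfl⟩
      · intro hx
        obtain ⟨y, hy, hyx⟩ := heq.ge hx
        rwa [← (MulAut.conj w).injective hyx]
    rintro w (rfl | rfl)
    · exact key _ (by rw [← hcA.eq, mul_inv_cancel_right]; exact mem_zpowers c)
    · exact key _ (by rw [hBc]; exact pow_mem (mem_zpowers c) _)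
  have hle : σ'.ker ≤ zpowers c := hσ'.2.2.trans (Cfsg.Lib.Schur.commutator_le_of_two (x := B') (y := A')
    (Cfsg.Lib.Schur.closure_sup_center hσ'.2.1 {B', A'} (by rw [Set.image_pair, hA', hB', Set.pair_comm, gen_top])) _ (mem_zpowers c))
  refine Cfsg.Lib.Schur.exists_surjection_of_zpowers (d := c ^ D.m') ?_ ?_ ?_
  · show σ' _ = 1
    rw [map_pow, hσc, ← pow_mul, hr1, show D.d * D.s * D.m' = D.m * D.s by rw [D.hm]; ring, pow_mul, ga_pow, one_pow]
  · intro x hx
    obtain ⟨i, rfl⟩ := mem_zpowers_iff.1 (hle hx)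
    have h1 := hordA ((D.r - 1 : ℕ) * i) (by rw [zpow_mul, zpow_natCast, ← hσc, ← map_zpow]; exact hx)
    rw [hr1, D.hm, Nat.cast_mul, Nat.cast_mul, mul_assoc, mul_dvd_mul_iff_left (by have := D.hd; omega)] at h1
    have h2 : (D.m' : ℤ) ∣ i := by
      have := dvd_sub (h1.mul_right D.u) (D.hu.mul_right i)
      refine dvd_eq this ?_; ring
    obtain ⟨j, rfl⟩ := h2
    exact mem_zpowers_iff.2 ⟨j, by rw [zpow_mul, zpow_natCast]⟩
  · rw [← pow_mul, ← orderOf_dvd_iff_pow_eq_one]
    exact D.ord_dvd (orderOf_dvd_of_pow_eq_one hm) (orderOf_dvd_of_pow_eq_one ht) (orderOf_dvd_of_pow_eq_one hS)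

/-- Let `m, n ≥ 1`, `r ≥ 1` with `r ^ n ≡ 1 (mod m)`, and `l` a natural number; put `d = gcd(m, r - 1)`, `t = m l / d` and `h = d · gcd(m, 1 + r + ⋯ + r^(n-1)) / m`. The group presented by generators `a, b` and relations `a ^ m = 1`, `b ^ n = a ^ t`, `b a b⁻¹ = a ^ r` (a metacyclic group of order `m n`) has Schur multiplier cyclic of order `gcd(l, h)`. -/
theorem result (m n r l : ℕ) (hm : 0 < m) (hn : 0 < n) (hr : 0 < r) (hrn : r ^ n ≡ 1 [MOD m]) : Cfsg.HasCyclicSchurMultiplier (PresentedGroup ({FreeGroup.of true ^ m, (FreeGroup.of false) ^ n * (FreeGroup.of true ^ (m * l / Nat.gcd m (r - 1)))⁻¹, FreeGroup.of false * FreeGroup.of true * (FreeGroup.of false)⁻¹ * (FreeGroup.of true ^ r)⁻¹} : Set (FreeGroup Bool))) (Nat.gcd l (Nat.gcd m (r - 1) * Nat.gcd m (∑ i ∈ Finset.range n, r ^ i) / m)) := by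
  set d := Nat.gcd m (r - 1) with hdd
  set S := ∑ i ∈ Finset.range n, r ^ i with hSdef
  obtain ⟨m', hm'⟩ : d ∣ m := Nat.gcd_dvd_left _ _
  obtain ⟨s, hs⟩ : d ∣ r - 1 := Nat.gcd_dvd_right _ _
  have hd0 : 0 < d := Nat.gcd_pos_of_pos_left _ hm
  have hm'0 : 0 < m' := Nat.pos_of_ne_zero fun h => by rw [h, mul_zero] at hm'; omega
  have hcop : Nat.Coprime m' s := by
    have h1 : Nat.gcd (d * m') (d * s) = d * 1 := by rw [← hm', ← hs, mul_one]
    rw [Nat.gcd_mul_left] at h1
    exact Nat.eq_of_mul_eq_mul_left hd0 h1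
  have hrs : r = d * s + 1 := by omega
  have hmS : m' ∣ S := by
    have h1 : (m : ℤ) ∣ (S : ℤ) * ((r : ℤ) - 1) := by
      have := geom_sum_mul (r : ℤ) n
      rw [hSdef]; push_cast
      rw [this]
      obtain ⟨k, hk⟩ := (Nat.modEq_iff_dvd.1 hrn.symm)
      exact ⟨k, by push_cast at hk; linarith⟩
    have h2 : (d : ℤ) * m' ∣ (d : ℤ) * ((S : ℤ) * s) := by
      rw [show (d : ℤ) * m' = m by exact_mod_cast hm'.symm,
        show (d : ℤ) * ((S : ℤ) * s) = (S : ℤ) * ((r : ℤ) - 1) by rw [hrs]; push_cast; ring]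
      exact h1
    have h3 : m' ∣ S * s := by
      exact_mod_cast (mul_dvd_mul_iff_left (by omega : (d : ℤ) ≠ 0)).1 h2
    exact hcop.dvd_of_dvd_mul_right h3
  obtain ⟨h, hh⟩ : m' ∣ Nat.gcd m S := Nat.dvd_gcd (Dvd.intro_left d hm'.symm) hmS
  have hh0 : 0 < h := Nat.pos_of_ne_zero fun h0 => by
    rw [h0, mul_zero] at hh; exact (Nat.gcd_pos_of_pos_left S hm).ne' hh
  have hhd : h ∣ d := by
    have h1 : m' * h ∣ m' * d := by rw [← hh, mul_comm m' d, ← hm']; exact Nat.gcd_dvd_left _ _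
    exact Nat.dvd_of_mul_dvd_mul_left hm'0 h1
  have e1 : d * Nat.gcd m S / m = h := by
    rw [hh, ← mul_assoc, ← hm', Nat.mul_div_cancel_left _ hm]
  have e2 : m * l / d = m' * l := by rw [hm', mul_assoc, Nat.mul_div_cancel_left _ hd0]
  have hu : ∃ u : ℤ, (m' : ℤ) ∣ (s : ℤ) * u - 1 := by
    have h1 := Nat.gcd_eq_gcd_ab s m'
    rw [Nat.Coprime.gcd_eq_one hcop.symm] at h1
    exact ⟨Nat.gcdA s m', -Nat.gcdB s m', by push_cast at h1; linarith⟩
  obtain ⟨u, hu⟩ := hu
  let D : Data :=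
    { m := m, n := n, r := r, t := m * l / d, d := d, m' := m', e := Nat.gcd l h, s := s, u := u
      hd := hd0, hn := hn, hm' := hm'0, he := Nat.gcd_pos_of_pos_right _ hh0, hm := hm', hr := hrs, hu := hu
      hed := (Nat.gcd_dvd_right l h).trans hhd
      hS := (Nat.mul_dvd_mul_left m' (Nat.gcd_dvd_right l h)).trans (hh ▸ Nat.gcd_dvd_right m S)
      ht := e2 ▸ Nat.mul_dvd_mul_left m' (Nat.gcd_dvd_left l h)
      ord_dvd := fun {k} h1 h2 h3 => by
        rw [← Nat.gcd_mul_left, ← hh]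
        exact Nat.dvd_gcd (e2 ▸ h2) (Nat.dvd_gcd h1 h3) }
  have := (main D).1
  rw [e1]
  exact this

end Cfsg.Agent.S3967
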