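import Cfsg.Statements.S3968
import Cfsg.Agent.Lib.Char.Burnside
import Mathlib.RingTheory.RootsOfUnity.Complex
import Mathlib.GroupTheory.SpecificGroups.Cyclic
-- import your own Cfsg.Agent.* helpers here

set_option autoImplicit false
open Cfsg

namespace Cfsg.Agent.S3968

open Cfsg.Lib.Char Subgroup Module

/-- An idempotent has natural trace, and trace one forces a line. -/
theorem trace_idempotent {V : Type*} [AddCommGroup V] [Module ℂ V] [FiniteDimensional ℂ V] {e : Module.End ℂ V}
    (he : IsIdempotentElem e) :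
    LinearMap.trace ℂ V e = (finrank ℂ (LinearMap.range e) : ℂ) :=
  ((LinearMap.isProj_range_iff_isIdempotentElem e).mpr he).trace

/-- Let `p` be a prime and `G` a finite group with a faithful irreducible complex character of degree `p` (so `G` is an irreducible linear group in `p` variables). If `p ^ 2` divides the order of `G`, then the centre of `G` is nontrivial. -/
theorem result {G : Type*} [Group G] [Finite G] (p : ℕ) (hp : p.Prime) (χ : Cfsg.IrrCharacter G) (hdeg : χ.1 1 = p) (hfaith : ∀ g : G, χ.1 g = χ.1 1 → g = 1) (hdiv : p ^ 2 ∣ Nat.card G) : Subgroup.center G ≠ ⊥ := by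
  classical
  let _ : Fintype G := Fintype.ofFinite G
  have := Fact.mk hp
  obtain ⟨n, ρ, hirr, hρ⟩ := χ.2
  have hn : n = p := by
    have h1 : ρ.character 1 = (p : ℂ) := by rw [hρ]; exact hdeg
    rw [Representation.char_one, Module.finrank_fin_fun] at h1
    exact_mod_cast h1
  have hfin : finrank ℂ (Fin n → ℂ) = p := by rw [Module.finrank_fin_fun, hn]
  have hf : ∀ g, ρ g = 1 → g = 1 := fun g hg => hfaith g (by
    rw [← hρ]
    show LinearMap.trace ℂ _ (ρ g) = LinearMap.trace ℂ _ (ρ 1)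
    rw [hg, map_one ρ])
  have hinj : Function.Injective ρ := fun a b hab => by
    have h : ρ (a⁻¹ * b) = 1 := by rw [map_mul, ← hab, ← map_mul, inv_mul_cancel, map_one]
    exact inv_mul_eq_one.mp (hf _ h)
  intro hbot
  obtain ⟨P⟩ : Nonempty (Sylow p G) := inferInstance
  have hP2 : p ^ 2 ∣ Nat.card (P : Subgroup G) := P.pow_dvd_card_of_pow_dvd_card hdiv
  have : Nontrivial (P : Subgroup G) := Finite.one_lt_card_iff_nontrivial.mp
    (lt_of_lt_of_le (by nlinarith [hp.two_le]) (Nat.le_of_dvd Nat.card_pos hP2))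
  let Z := (center (P : Subgroup G)).map (P : Subgroup G).subtype
  -- the character vanishes off the identity of `Z`
  have hvan : ∀ z ∈ Z, z ≠ 1 → ρ.character z = 0 := by
    intro z hz hz1
    obtain ⟨z', hz', rfl⟩ := hz
    have hPC : (P : Subgroup G) ≤ centralizer ({(z' : G)} : Set G) := fun x hx =>
      mem_centralizer_singleton_iff.mpr (congrArg Subtype.val (mem_center_iff.mp hz' ⟨x, hx⟩))
    have hcop : Nat.Coprime (finrank ℂ (Fin n → ℂ)) (classFinset (z' : G)).card := by
      rw [hfin, card_classFinset]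
      exact (hp.coprime_iff_not_dvd).mpr fun h => P.not_dvd_index (h.trans (index_dvd_of_le hPC))
    rcases character_zero_or_norm ρ (z' : G) hcop with h | h
    · exact h
    · obtain ⟨c, hc⟩ := (norm_character_eq_iff ρ _).mp h
      refine absurd ((mem_bot).mp (hbot ▸ (mem_center_iff.mpr fun y => hinj ?_ : (z' : G) ∈ center G))) hz1
      rw [map_mul, map_mul, hc]
      exact LinearMap.ext fun v => by simp [Module.End.mul_apply]
  have hcardc : (Nat.card Z : ℂ) ≠ 0 := Nat.cast_ne_zero.mpr Nat.card_pos.ne'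
  let e : Module.End ℂ (Fin n → ℂ) := (Nat.card Z : ℂ)⁻¹ • ∑ z : Z, ρ z
  have he : IsIdempotentElem e := by
    have h1 : ∀ w : Z, ρ w * ∑ z : Z, ρ z = ∑ z : Z, ρ z := fun w => by
      rw [Finset.mul_sum]
      exact Fintype.sum_equiv (Equiv.mulLeft w) _ _ fun z => by rw [← map_mul]; rfl
    show e * e = e
    simp only [e, smul_mul_assoc, mul_smul_comm, Finset.sum_mul, h1, Finset.sum_const, Finset.card_univ,
      ← Nat.cast_smul_eq_nsmul ℂ, smul_smul, ← Nat.card_eq_fintype_card]
    rw [inv_mul_cancel₀ hcardc, mul_one]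
  have htr := trace_idempotent he
  have hsum : ∑ z : Z, ρ.character (z : G) = (p : ℂ) := by
    rw [Finset.sum_eq_single (1 : Z)]
    · rw [OneMemClass.coe_one, Representation.char_one, hfin]
    · exact fun z _ hz => hvan z z.2 fun h => hz (Subtype.ext h)
    · exact fun h => absurd (Finset.mem_univ _) h
  have htr' : LinearMap.trace ℂ _ e = (Nat.card Z : ℂ)⁻¹ * p := by
    rw [map_smul, map_sum, smul_eq_mul, ← hsum]; rfl
  rw [htr'] at htr
  have hdvd : Nat.card Z ∣ p := ⟨finrank ℂ (LinearMap.range e), by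
    have h2 : (p : ℂ) = (Nat.card Z : ℂ) * (finrank ℂ (LinearMap.range e) : ℂ) := by
      rw [← htr, mul_inv_cancel_left₀ hcardc]
    exact_mod_cast h2⟩
  have hZ : Nat.card Z = p := by
    rcases hp.eq_one_or_self_of_dvd _ hdvd with h | h
    · have : Nontrivial (center (P : Subgroup G)) := P.isPGroup'.center_nontrivial
      have h2 := Finite.one_lt_card (α := center (P : Subgroup G))
      have h3 : Nat.card Z = Nat.card (center (P : Subgroup G)) :=
        (Nat.card_congr (equivMapOfInjective _ _ (P : Subgroup G).subtype_injective).toEquiv).symm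
      omega
    · exact h
  -- `P` is abelian: it preserves the eigenlines of a generator of `Z`
  have : IsCyclic Z := isCyclic_of_prime_card hZ
  obtain ⟨z, hz⟩ := IsCyclic.exists_generator (α := Z)
  have hzo : orderOf (z : G) = p := by
    rw [orderOf_coe, orderOf_eq_card_of_forall_mem_zpowers hz, hZ]
  obtain ⟨ζ, hζ⟩ : ∃ ζ : ℂ, IsPrimitiveRoot ζ p := ⟨_, Complex.isPrimitiveRoot_exp p hp.ne_zero⟩
  let E : ℕ → Module.End ℂ (Fin n → ℂ) := fun j => (p : ℂ)⁻¹ • ∑ i ∈ Finset.range p, (ζ ^ j) ^ i • ρ (z : G) ^ i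
  have hpC : (p : ℂ) ≠ 0 := Nat.cast_ne_zero.mpr hp.ne_zero
  have hzp : ρ (z : G) ^ p = 1 := by rw [← map_pow, ← hzo, pow_orderOf_eq_one, map_one]
  have hroll : ∀ j, ζ ^ j • ρ (z : G) * E j = E j := fun j => by
    have h0 : (ζ ^ j • ρ (z : G)) ^ p = 1 := by
      rw [smul_pow, hzp, ← pow_mul, mul_comm, pow_mul, hζ.pow_eq_one, one_pow, one_smul]
    have h1 := mul_geom_sum (ζ ^ j • ρ (z : G)) p
    rw [h0, sub_self, sub_mul, one_mul, sub_eq_zero] at h1
    simp only [smul_pow] at h1
    show ζ ^ j • ρ (z : G) * ((p : ℂ)⁻¹ • _) = (p : ℂ)⁻¹ • _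
    rw [mul_smul_comm, h1]
  have hidem : ∀ j, IsIdempotentElem (E j) := fun j => by
    have h2 : ∀ i, (ζ ^ j) ^ i • ρ (z : G) ^ i * E j = E j := fun i => by
      induction i with
      | zero => rw [pow_zero, pow_zero, one_smul, one_mul]
      | succ i ih => rw [← smul_pow, pow_succ, mul_assoc, hroll, smul_pow]; exact ih
    show (p : ℂ)⁻¹ • (∑ i ∈ Finset.range p, (ζ ^ j) ^ i • ρ (z : G) ^ i) * E j = E j
    rw [smul_mul_assoc, Finset.sum_mul, Finset.sum_congr rfl (fun i _ => h2 i), Finset.sum_const,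
      Finset.card_range, ← Nat.cast_smul_eq_nsmul ℂ, smul_smul, inv_mul_cancel₀ hpC, one_smul]
  have hline : ∀ j, finrank ℂ (LinearMap.range (E j)) = 1 := fun j => by
    have h := trace_idempotent (hidem j)
    rw [map_smul, map_sum, Finset.sum_eq_single 0] at h
    · rw [pow_zero, pow_zero, one_smul, LinearMap.trace_one, hfin, smul_eq_mul, inv_mul_cancel₀ hpC] at h
      exact_mod_cast h.symm
    · intro i hi hi0
      rw [map_smul, ← map_pow,
        show LinearMap.trace ℂ _ (ρ ((z : G) ^ i)) = 0 from hvan _ (pow_mem z.2 i)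
          (pow_ne_one_of_lt_orderOf hi0 (hzo.symm ▸ Finset.mem_range.mp hi)), smul_zero]
    · exact fun h => absurd (Finset.mem_range.mpr hp.pos) h
  have hone : ∑ j ∈ Finset.range p, E j = 1 := by
    simp only [E]
    rw [← Finset.smul_sum, Finset.sum_comm, Finset.sum_eq_single 0]
    · simp only [pow_zero, one_smul, Finset.sum_const, Finset.card_range, ← Nat.cast_smul_eq_nsmul ℂ, smul_smul,
        inv_mul_cancel₀ hpC]
    · intro i hi hi0
      simp only [← Finset.sum_smul, ← pow_mul, mul_comm _ i]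
      simp only [pow_mul]
      rw [show ∑ j ∈ Finset.range p, (ζ ^ i) ^ j = 0 from
        (hζ.pow_of_coprime i ((hp.coprime_iff_not_dvd.mpr
          (Nat.not_dvd_of_pos_of_lt (Nat.pos_of_ne_zero hi0) (Finset.mem_range.mp hi))).symm)).geom_sum_eq_zero hp.one_lt,
        zero_smul]
    · exact fun h => absurd (Finset.mem_range.mpr hp.pos) h
  have hcomm : ∀ (j : ℕ) (a : (P : Subgroup G)), ρ (a : G) * E j = E j * ρ (a : G) := fun j a => by
    obtain ⟨z', hz', hzz⟩ := z.2
    have hc : Commute (ρ (a : G)) (ρ (z : G)) := by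
      rw [← hzz]
      exact (show Commute (a : G) (z' : G) from congrArg Subtype.val (mem_center_iff.mp hz' a)).map ρ
    exact (Commute.smul_right (Commute.sum_right _ _ _ fun i _ => (hc.pow_right i).smul_right _) _)
  have hscal : ∀ (j : ℕ) (a : (P : Subgroup G)), ∃ c : ℂ, ρ (a : G) * E j = c • E j := fun j a => by
    obtain ⟨v, hv0, hv⟩ := finrank_eq_one_iff'.mp (hline j)
    have hfix : ∀ w : LinearMap.range (E j), E j w.1 = w.1 := by
      rintro ⟨_, x, rfl⟩
      exact LinearMap.congr_fun (hidem j) x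
    obtain ⟨c, hc⟩ := hv ⟨E j (ρ (a : G) v.1), ⟨_, rfl⟩⟩
    refine ⟨c, LinearMap.ext fun x => ?_⟩
    obtain ⟨d, hd⟩ := hv ⟨E j x, ⟨_, rfl⟩⟩
    have hd' : d • v.1 = E j x := congrArg Subtype.val hd
    have hc' : c • v.1 = E j (ρ (a : G) v.1) := congrArg Subtype.val hc
    have h5 : ρ (a : G) v.1 = c • v.1 := by
      rw [hc']
      conv_lhs => rw [← hfix v]
      exact LinearMap.congr_fun (hcomm j a) v.1
    show ρ (a : G) (E j x) = c • E j x
    rw [← hd', map_smul, h5, smul_comm]
  have hab : ∀ a b : (P : Subgroup G), a * b = b * a := fun a b => by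
    refine Subtype.ext (hinj ?_)
    rw [Subgroup.coe_mul, Subgroup.coe_mul, map_mul, map_mul, ← mul_one (ρ (a : G) * ρ (b : G)),
      ← mul_one (ρ (b : G) * ρ (a : G)), ← hone, Finset.mul_sum, Finset.mul_sum]
    refine Finset.sum_congr rfl fun j _ => ?_
    obtain ⟨c, hc⟩ := hscal j a
    obtain ⟨d, hd⟩ := hscal j b
    rw [mul_assoc, mul_assoc, hd, hc, mul_smul_comm d (ρ (a : G)) (E j), mul_smul_comm c (ρ (b : G)) (E j),
      hc, hd, smul_comm]
  have hZP : Z = (P : Subgroup G) := by
    refine le_antisymm (map_subtype_le _) fun x hx => ⟨⟨x, hx⟩, mem_center_iff.mpr fun y => hab y _, rfl⟩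
  rw [← hZP, hZ] at hP2
  have := Nat.le_of_dvd hp.pos hP2
  nlinarith [hp.two_le]

end Cfsg.Agent.S3968
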