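import Cfsg.Statements.S3969
import Mathlib.GroupTheory.Schreier
import Cfsg.Agent.Lib.Fusion.Abelian
import Cfsg.Agent.Lib.Coprime.Action
import Cfsg.Agent.Lib.PGroup.Elements

set_option autoImplicit false
open Cfsg

namespace Cfsg.Agent.S3969

open Subgroup

theorem card_torsion_dvd {A : Type*} [CommGroup A] [Finite A] (p : ℕ) [Fact p.Prime] :
    Nat.card (powMonoidHom p : A →* A).ker ∣ p ^ Group.rank A := by
  set f : A →* A := powMonoidHom p
  have h1 : Nat.card f.ker = Nat.card (A ⧸ f.range) := by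
    have e1 := f.ker.card_mul_index
    have e2 := f.range.card_mul_index
    rw [index_ker, mul_comm] at e1
    rw [index_eq_card] at e2
    exact Nat.eq_of_mul_eq_mul_left Nat.card_pos (e1.trans e2.symm)
  rw [h1]
  refine dvd_trans (card_dvd_exponent_pow_rank' (A ⧸ f.range) (n := p) fun g => ?_)
    (pow_dvd_pow p (Group.rank_le_of_surjective (QuotientGroup.mk' f.range) (QuotientGroup.mk'_surjective _)))
  obtain ⟨a, rfl⟩ := QuotientGroup.mk_surjective g
  rw [← QuotientGroup.mk_pow, QuotientGroup.eq_one_iff]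
  exact ⟨a, rfl⟩


/-- Let `P` be an abelian Sylow `p`-subgroup of the finite group `G`, generated by `d` elements (`d` its minimal number of generators). If the order of `G` is coprime to `(p - 1)(p ^ 2 - 1) ⋯ (p ^ d - 1)`, then `G` has a normal `p`-complement. (The classical statement needs only the largest number of cyclic factors of `P` of equal order in place of `d`; the form here follows from it.) -/
theorem result {G : Type*} [Group G] [Finite G] (p : ℕ) [Fact p.Prime] (P : Sylow p G) (hab : IsMulCommutative (P : Subgroup G)) (hcop : Nat.Coprime (Nat.card G) (∏ i ∈ Finset.Icc 1 (Group.rank (P : Subgroup G)), (p ^ i - 1))) : Cfsg.HasNormalPComplement p G := by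
  classical
  have hbig := hcop
  have hp : p.Prime := Fact.out
  refine Cfsg.Lib.Fusion.hasNormalPComplement_of_normalizer_le_centralizer P fun n hn => ?_
  refine Cfsg.Lib.PGroup.mem_of_ordCompl_pow_mem fun q hq hqn => ?_
  set u := n ^ (orderOf n / q ^ (orderOf n).factorization q)
  have hu : u ∈ normalizer ((P : Subgroup G) : Set G) := pow_mem hn _
  have huo : orderOf u = q ^ (orderOf n).factorization q := Cfsg.Lib.PGroup.orderOf_ordCompl_pow hq
  have hcent : (P : Subgroup G) ≤ centralizer ((P : Subgroup G) : Set G) := le_centralizer _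
  by_cases hqp : q = p
  · subst hqp
    refine hcent ?_
    have hpg : IsPGroup q (zpowers u) := IsPGroup.of_card (by rw [Nat.card_zpowers]; exact huo)
    have h1 : IsPGroup q ↥((P : Subgroup G) ⊔ zpowers u) := by
      rw [sup_comm]; exact hpg.to_sup_of_normal_right' P.2 (zpowers_le.mpr hu)
    exact (P.is_maximal' h1 le_sup_left).le (mem_sup_right (mem_zpowers u))
  set A := zpowers u with hA
  have hAG : A ≤ normalizer ((P : Subgroup G) : Set G) := zpowers_le.mpr hu
  obtain ⟨m, hm⟩ := IsPGroup.iff_card.mp P.2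
  have hcop : (Nat.card A).Coprime (Nat.card (P : Subgroup G)) := by
    rw [hA, Nat.card_zpowers, huo, hm]
    exact Nat.Coprime.pow _ _ ((Nat.coprime_primes hq hp).mpr hqp)
  set W := ⁅(P : Subgroup G), A⁆ with hW
  by_cases hW1 : W = ⊥
  · exact (le_centralizer_iff.mp (commutator_eq_bot_iff_le_centralizer.mp (hW ▸ hW1))) (mem_zpowers u)
  exfalso
  have hWP : W ≤ (P : Subgroup G) := Cfsg.Lib.Coprime.commutator_le_of_le_normalizer hAG
  have hd := Cfsg.Lib.Coprime.disjoint_commutator_centralizer hAG hcop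
  have hWA : A ≤ normalizer (W : Set G) := by
    intro a ha
    rw [mem_normalizer_iff_map_conj_eq, hW, map_commutator]
    exact congrArg₂ (⁅·, ·⁆) (Cfsg.Lib.Coprime.map_conj_eq_self (hAG ha))
      (Cfsg.Lib.Coprime.map_conj_eq_self (le_normalizer ha))
  letI : CommGroup (P : Subgroup G) :=
    { (inferInstance : Group (P : Subgroup G)) with mul_comm := hab.1.comm }
  let Y : Subgroup G :=
    { carrier := {x | x ∈ W ∧ x ^ p = 1}
      one_mem' := ⟨one_mem W, one_pow p⟩
      mul_mem' := fun {a b} ha hb => ⟨mul_mem ha.1 hb.1, by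
        rw [(show Commute a b from congrArg Subtype.val
          (hab.1.comm (⟨a, hWP ha.1⟩ : (P : Subgroup G)) ⟨b, hWP hb.1⟩)).mul_pow, ha.2, hb.2, one_mul]⟩
      inv_mem' := fun {a} ha => ⟨inv_mem ha.1, by rw [inv_pow, ha.2, inv_one]⟩ }
  have hYdvd : Nat.card Y ∣ p ^ Group.rank (P : Subgroup G) := by
    refine dvd_trans ?_ (card_torsion_dvd p)
    exact Subgroup.card_dvd_of_injective
      ((Subgroup.inclusion (fun x hx => hWP hx.1 : Y ≤ (P : Subgroup G))).codRestrict
        (powMonoidHom p : (P : Subgroup G) →* (P : Subgroup G)).ker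
        (fun x => Subtype.ext x.2.2))
      (fun a b h => Subtype.ext (by have h1 := congrArg Subtype.val (congrArg Subtype.val h); exact h1))
  obtain ⟨i, hi, hYi⟩ := (Nat.dvd_prime_pow hp).mp hYdvd
  have hi0 : 1 ≤ i := by
    have hWp : IsPGroup p W := P.2.to_le hWP
    obtain ⟨j, hj⟩ := IsPGroup.iff_card.mp hWp
    have hj0 : j ≠ 0 := by
      rintro rfl
      exact hW1 (eq_bot_of_card_eq W (by simpa using hj))
    obtain ⟨x, hx⟩ := exists_prime_orderOf_dvd_card' (G := W) p (hj ▸ dvd_pow_self p hj0)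
    by_contra hi'
    rw [show i = 0 by omega, pow_zero] at hYi
    have hxY : (x : G) ∈ Y := ⟨x.2, by rw [← hx, ← Subgroup.orderOf_coe, pow_orderOf_eq_one]⟩
    rw [eq_bot_of_card_eq Y hYi, mem_bot] at hxY
    rw [← Subgroup.orderOf_coe, hxY, orderOf_one] at hx
    exact hp.one_lt.ne hx
  let act : MulAction A Y :=
    { smul := fun a y => ⟨(a : G) * y * (a : G)⁻¹, (mem_normalizer_iff.mp (hWA a.2) _).mp y.2.1, by
        rw [conj_pow, y.2.2]; simp⟩
      one_smul := fun y => Subtype.ext (by show (1 : G) * y * (1 : G)⁻¹ = y; simp)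
      mul_smul := fun a b y => Subtype.ext (by
        show (a : G) * b * y * ((a : G) * b)⁻¹ = (a : G) * ((b : G) * y * (b : G)⁻¹) * (a : G)⁻¹
        simp [mul_assoc]) }
  have hfix : Nat.card (MulAction.fixedPoints A Y) = 1 := by
    rw [Nat.card_eq_one_iff_unique]
    refine ⟨⟨fun y z => ?_⟩, ⟨⟨1, fun a => Subtype.ext (by show (a : G) * 1 * (a : G)⁻¹ = 1; simp)⟩⟩⟩
    have key : ∀ y : MulAction.fixedPoints A Y, ((y : Y) : G) = 1 := fun y => by
      refine Subgroup.disjoint_def.mp hd y.1.2.1 (mem_centralizer_iff.mpr fun a ha => ?_)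
      exact mul_inv_eq_iff_eq_mul.mp (congrArg Subtype.val (y.2 ⟨a, ha⟩))
    exact Subtype.ext (Subtype.ext ((key y).trans (key z).symm))
  have : Fact q.Prime := ⟨hq⟩
  have hmod := (IsPGroup.of_card (G := A) (p := q) (n := (orderOf n).factorization q)
    (by rw [hA, Nat.card_zpowers, huo])).card_modEq_card_fixedPoints Y
  rw [hfix, hYi] at hmod
  have hdvd : q ∣ p ^ i - 1 := (Nat.modEq_iff_dvd' (Nat.one_le_pow _ _ hp.pos)).mp hmod.symm
  refine hq.one_lt.ne' (Nat.eq_one_of_dvd_coprimes hbig (hqn.trans (orderOf_dvd_natCard n))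
    (hdvd.trans (Finset.dvd_prod_of_mem (fun j => p ^ j - 1) (Finset.mem_Icc.mpr ⟨hi0, hi⟩))))

end Cfsg.Agent.S3969
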