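import Cfsg.Statements.S3970
import Cfsg.Agent.Lib.Fusion.Abelian
import Cfsg.Agent.Lib.PGroup.Basic
import Cfsg.Agent.Lib.Coprime.Action
import Mathlib.GroupTheory.Schreier
-- import your own Cfsg.Agent.* helpers here

set_option autoImplicit false
open Cfsg

namespace Cfsg.Agent.S3970

universe u

open Subgroup
open scoped commutatorElement

/-- An operator group of prime power order `r ^ i` on a small abelian `p`-group is trivial, apart from `(2, 3)`. -/
theorem automizer_trivial {G : Type*} [Group G] [Finite G] {p r : ℕ} (hp : p.Prime) (hr : r.Prime) (hpr : p < r)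
    (h12 : ¬ 12 ∣ Nat.card G) (P A : Subgroup G) (hP : IsPGroup p P) (hPc : IsMulCommutative P)
    (hrk : Group.rank P ≤ 2) (hA : IsPGroup r A) (hAn : A ≤ normalizer (P : Set G)) :
    A ≤ centralizer (P : Set G) := by
  classical
  have := Fact.mk hp
  have := Fact.mk hr
  let φ : A →* MulAut P := P.normalizerMonoidHom.comp (Subgroup.inclusion hAn)
  let F := frattini P
  have hF : F.Characteristic := frattini_characteristic
  let Φ : A →* MulAut (P ⧸ F) :=
    { toFun := fun a => QuotientGroup.congr F F (φ a) (characteristic_iff_map_eq.mp hF (φ a))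
      map_one' := MulEquiv.ext fun x => by
        obtain ⟨y, rfl⟩ := QuotientGroup.mk_surjective x
        show ((φ 1 y : P) : P ⧸ F) = (y : P ⧸ F)
        rw [map_one]; rfl
      map_mul' := fun a b => MulEquiv.ext fun x => by
        obtain ⟨y, rfl⟩ := QuotientGroup.mk_surjective x
        show ((φ (a * b) y : P) : P ⧸ F) = ((φ a (φ b y) : P) : P ⧸ F)
        rw [map_mul]; rfl }
  let _ : MulAction A (P ⧸ F) := MulAction.compHom _ Φ
  have hel := Cfsg.Lib.PGroup.isElementaryAbelian_quotient_frattini hP
  let _ : CommGroup (P ⧸ F) :=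
    { (inferInstance : Group (P ⧸ F)) with
      mul_comm := fun a b => congrArg Subtype.val (hel.1.is_comm.comm (⟨a, mem_top a⟩ : (⊤ : Subgroup (P ⧸ F))) ⟨b, mem_top b⟩) }
  have hd : Nat.card (P ⧸ F) ∣ p ^ 2 :=
    (card_dvd_exponent_pow_rank' (G := P ⧸ F) (n := p) fun g => hel.2 g (mem_top g)).trans
      (pow_dvd_pow p ((Group.rank_le_of_surjective (QuotientGroup.mk' F) (QuotientGroup.mk'_surjective F)).trans hrk))
  let Fix : Subgroup (P ⧸ F) :=
    { carrier := MulAction.fixedPoints A (P ⧸ F)
      one_mem' := fun a => map_one (Φ a)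
      mul_mem' := fun {x y} hx hy a => show Φ a (x * y) = x * y by
        rw [map_mul, show Φ a x = x from hx a, show Φ a y = y from hy a]
      inv_mem' := fun {x} hx a => show Φ a x⁻¹ = x⁻¹ by rw [map_inv, show Φ a x = x from hx a] }
  have hmod : Nat.card (P ⧸ F) ≡ Nat.card Fix [MOD r] := hA.card_modEq_card_fixedPoints (α := P ⧸ F)
  have hfix : Fix = ⊤ := by
    rw [← card_eq_iff_eq_top]
    obtain ⟨k, hk2, hk⟩ := (Nat.dvd_prime_pow hp).mp hd
    obtain ⟨j, hj2, hj⟩ := (Nat.dvd_prime_pow hp).mp (hk ▸ Fix.card_subgroup_dvd_card)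
    rw [hk, hj] at hmod ⊢
    by_contra hne
    have hjk : j < k := lt_of_le_of_ne hj2 fun h => hne (by rw [h])
    have hdv : r ∣ p ^ k - p ^ j := (Nat.modEq_iff_dvd' (Nat.pow_le_pow_right hp.pos hj2)).mp hmod.symm
    have hpos := hp.two_le
    have hrp : ¬ r ∣ p := fun h => by
      rcases (Nat.prime_dvd_prime_iff_eq hr hp).mp h with rfl
      omega
    have hr1 : ¬ r ∣ p - 1 := fun h => by
      have := Nat.le_of_dvd (by omega) h
      omega
    interval_cases k
    · omega
    · interval_cases j
      exact hr1 (by simpa using hdv)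
    · interval_cases j
      · have e : p ^ 2 - p ^ 0 = (p + 1) * (p - 1) := by
          rw [pow_zero, ← Nat.sq_sub_sq]; simp
        rw [e] at hdv
        rcases hr.dvd_mul.mp hdv with h | h
        · have h1 := Nat.le_of_dvd (by omega) h
          have hr' : r = p + 1 := by omega
          have hp2 : p = 2 := by
            rcases hp.eq_two_or_odd with h2 | h2
            · exact h2
            · have : 2 ∣ r := by omega
              have := (Nat.prime_dvd_prime_iff_eq Nat.prime_two hr).mp this
              omega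
          subst hp2
          refine h12 ?_
          have h4 : 2 ^ 2 ∣ Nat.card G := by
            rw [← hk]
            exact (F.card_quotient_dvd_card).trans P.card_subgroup_dvd_card
          have h3 : 3 ∣ Nat.card G := by
            subst hr'
            obtain ⟨i, hi⟩ := IsPGroup.iff_card.mp hA
            rcases Nat.eq_zero_or_pos i with hi0 | hipos
            · rw [hi0, pow_zero, Nat.card_eq_one_iff_unique] at hi
              exfalso
              refine hne ?_
              have : Fix = ⊤ := by
                refine eq_top_iff.mpr fun x _ a => ?_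
                show Φ a x = x
                rw [hi.1.elim a 1, map_one]; rfl
              rw [← hj, this, card_top, hk]
            · exact (dvd_pow_self 3 hipos.ne').trans (hi ▸ A.card_subgroup_dvd_card)
          exact Nat.Coprime.mul_dvd_of_dvd_of_dvd (m := 4) (n := 3) (by norm_num) h4 h3
        · exact hr1 h
      · have e : p ^ 2 - p ^ 1 = p * (p - 1) := by rw [Nat.mul_sub, mul_one, pow_one, sq]
        rw [e] at hdv
        exact (hr.dvd_mul.mp hdv).elim hrp hr1
  refine Cfsg.Lib.Coprime.le_centralizer_of_commutator_le_frattini hAn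
    (IsPGroup.coprime_card_of_ne r p (by omega) _ _ hA hP) (Or.inr (Group.isSolvable_of_comm fun a b => mul_comm' a b)) ?_
  rw [commutator_le]
  intro g hg a ha
  have h1 : Φ ⟨a, ha⟩ ((⟨g, hg⟩ : P) : P ⧸ F) = ((⟨g, hg⟩ : P) : P ⧸ F) :=
    (eq_top_iff.mp hfix (mem_top ((⟨g, hg⟩ : P) : P ⧸ F)) : ((⟨g, hg⟩ : P) : P ⧸ F) ∈ Fix) ⟨a, ha⟩
  change ((φ ⟨a, ha⟩ ⟨g, hg⟩ : P) : P ⧸ F) = _ at h1
  rw [QuotientGroup.eq] at h1
  refine ⟨(⟨g, hg⟩ : P) * (φ ⟨a, ha⟩ ⟨g, hg⟩)⁻¹, ?_, ?_⟩
  · show _ ∈ F
    rwa [hPc.is_comm.comm]
  · simp [φ, commutatorElement_def, mul_assoc]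

theorem solvable_aux (n : ℕ) : ∀ (G : Type u) [Group G] [Finite G], Nat.card G = n →
    (∀ p : ℕ, p.Prime → p ∣ Nat.card G → (∃ q : ℕ, q.Prime ∧ q ∣ Nat.card G ∧ p < q) →
      ∀ P : Sylow p G, IsMulCommutative (P : Subgroup G) ∧ Group.rank (P : Subgroup G) ≤ 2) →
    ¬ 12 ∣ Nat.card G → Group.IsSolvable G := by
  induction n using Nat.strong_induction_on with
  | _ n ih =>
  intro G _ _ hn h h12
  by_cases h1 : Nat.card G = 1
  · have := (Nat.card_eq_one_iff_unique.mp h1).1
    exact Group.isSolvable_of_comm fun a b => Subsingleton.elim _ _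
  set p := (Nat.card G).minFac with hpdef
  have hp : p.Prime := Nat.minFac_prime h1
  have := Fact.mk hp
  have hpG : p ∣ Nat.card G := Nat.minFac_dvd _
  by_cases hq : ∃ q : ℕ, q.Prime ∧ q ∣ Nat.card G ∧ p < q
  · obtain ⟨P⟩ : Nonempty (Sylow p G) := inferInstance
    obtain ⟨hPc, hrk⟩ := h p hp hpG hq P
    have hN : normalizer ((P : Subgroup G) : Set G) ≤ centralizer ((P : Subgroup G) : Set G) := by
      set N := normalizer ((P : Subgroup G) : Set G)
      set C := centralizer ((P : Subgroup G) : Set G)
      rw [← subgroupOf_eq_top, ← card_eq_iff_eq_top]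
      refine Nat.dvd_antisymm (C.subgroupOf N).card_subgroup_dvd_card ?_
      refine (Nat.dvd_iff_prime_pow_dvd_dvd _ _).mpr fun r k hr hk => ?_
      rcases Nat.eq_zero_or_pos k with hk0 | hkpos
      · simp [hk0]
      have := Fact.mk hr
      obtain ⟨R⟩ : Nonempty (Sylow r N) := inferInstance
      have hRle : (R : Subgroup N).map N.subtype ≤ C := by
        have hRp : IsPGroup r ((R : Subgroup N).map N.subtype) := R.isPGroup'.map _
        rcases eq_or_ne r p with hrp | hrp
        · subst hrp
          have h2 : (R : Subgroup N).map N.subtype ≤ (P : Subgroup G) := by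
            rw [← sup_eq_right]
            exact P.is_maximal' (hRp.to_sup_of_normal_right' P.isPGroup' (map_subtype_le _)) le_sup_right
          exact h2.trans fun x hx => mem_centralizer_iff.mpr fun y hy =>
            congrArg Subtype.val (hPc.is_comm.comm ⟨y, hy⟩ ⟨x, hx⟩)
        · have hrG : r ∣ Nat.card G := ((dvd_pow_self r hkpos.ne').trans hk).trans N.card_subgroup_dvd_card
          have hlt : p < r := lt_of_le_of_ne (Nat.minFac_le_of_dvd hr.two_le hrG) (Ne.symm hrp)
          exact automizer_trivial hp hr hlt h12 _ _ P.isPGroup' hPc hrk hRp (map_subtype_le _)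
      exact (R.pow_dvd_card_of_pow_dvd_card hk).trans (card_dvd_of_le fun x hx =>
        mem_subgroupOf.mpr (hRle (mem_map_of_mem _ hx)))
    obtain ⟨P', M, hMn, hM⟩ := Cfsg.Lib.Fusion.hasNormalPComplement_of_normalizer_le_centralizer P hN
    have hcard := hM.card_mul
    have hlt : Nat.card M < n := by
      have hp1 : 1 < Nat.card (P' : Subgroup G) :=
        hp.one_lt.trans_le (Nat.le_of_dvd Nat.card_pos (P'.dvd_card_of_dvd_card hpG))
      have hM0 : 0 < Nat.card M := Nat.card_pos
      rw [← hn, ← hcard]
      exact lt_mul_of_one_lt_right hM0 hp1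
    have hidx : ∀ q : ℕ, q.Prime → q ∣ Nat.card M → ¬ q ∣ Nat.card (P' : Subgroup G) := fun q hq' hqM hqP => by
      obtain ⟨i, hi⟩ := IsPGroup.iff_card.mp P'.isPGroup'
      have hqp := (Nat.prime_dvd_prime_iff_eq hq' hp).mp (hq'.dvd_of_dvd_pow (hi ▸ hqP))
      subst hqp
      refine P'.not_dvd_index ?_
      rwa [← Nat.eq_of_mul_eq_mul_right Nat.card_pos (hcard.trans (by rw [mul_comm, card_mul_index]) :
        Nat.card M * Nat.card (P' : Subgroup G) = (P' : Subgroup G).index * Nat.card (P' : Subgroup G))]
    have hMs : Group.IsSolvable M := ih _ hlt M rfl (fun q hq' hqM ⟨s, hs, hsM, hqs⟩ Q => by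
      have := Fact.mk hq'
      obtain ⟨hQc, hQr⟩ := h q hq' (hqM.trans M.card_subgroup_dvd_card)
        ⟨s, hs, hsM.trans M.card_subgroup_dvd_card, hqs⟩
        (IsPGroup.toSylow (Q.isPGroup'.map M.subtype) (by
          intro hdiv
          rw [← relIndex_mul_index (map_subtype_le (Q : Subgroup M))] at hdiv
          rcases hq'.dvd_mul.mp hdiv with h2 | h2
          · refine Q.not_dvd_index ?_
            rwa [relIndex, subgroupOf, comap_map_eq_self_of_injective M.subtype_injective] at h2
          · rw [hM.symm.index_eq_card] at h2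
            exact hidx q hq' hqM h2))
      let e := equivMapOfInjective (Q : Subgroup M) M.subtype M.subtype_injective
      refine ⟨⟨⟨fun a b => e.injective ?_⟩⟩, ?_⟩
      · rw [map_mul, map_mul]
        exact hQc.is_comm.comm (e a) (e b)
      · rw [Group.rank_congr e]
        exact hQr) fun hd => h12 (hd.trans M.card_subgroup_dvd_card)
    have hQp : IsPGroup p (G ⧸ M) := by
      obtain ⟨i, hi⟩ := IsPGroup.iff_card.mp P'.isPGroup'
      exact IsPGroup.of_card (n := i) (by rw [← Subgroup.index_eq_card, hM.symm.index_eq_card, hi])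
    have := hQp.isNilpotent
    have hQs : Group.IsSolvable (G ⧸ M) := inferInstance
    exact solvable_of_ker_le_range M.subtype (QuotientGroup.mk' M) (by rw [QuotientGroup.ker_mk', range_subtype])
  · have hpow : IsPGroup p G := by
      push Not at hq
      exact IsPGroup.of_card (n := (Nat.card G).primeFactorsList.length)
        (Nat.eq_prime_pow_of_unique_prime_dvd Nat.card_pos.ne' fun {d} hd hdG =>
          le_antisymm (hq d hd hdG) (Nat.minFac_le_of_dvd hd.two_le hdG))
    have := hpow.isNilpotent
    infer_instance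

/-- Let `G` be a finite group such that for every prime `p` dividing its order, other than the largest such prime, the Sylow `p`-subgroups are abelian and generated by at most two elements, and suppose `12` does not divide the order of `G`. Then `G` is solvable. In particular a group of cube-free order not divisible by `12` is solvable. -/
theorem result {G : Type*} [Group G] [Finite G] (h : ∀ p : ℕ, p.Prime → p ∣ Nat.card G → (∃ q : ℕ, q.Prime ∧ q ∣ Nat.card G ∧ p < q) → ∀ P : Sylow p G, IsMulCommutative (P : Subgroup G) ∧ Group.rank (P : Subgroup G) ≤ 2) (h12 : ¬ 12 ∣ Nat.card G) : Group.IsSolvable G := by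
  exact solvable_aux (Nat.card G) G rfl h h12

end Cfsg.Agent.S3970
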