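import Cfsg.Statements.S3971
import Cfsg.Agent.Lib.Fusion.Alperin
import Cfsg.Agent.Lib.Coprime.Action
import Cfsg.Agent.Lib.PGroup.Basic

set_option autoImplicit false
open Cfsg

namespace Cfsg.Agent.S3971

open scoped commutatorElement
open Subgroup


/-- Let `G` be a finite group of order `2 ^ a * n` with `n` odd and not divisible by `3`, and suppose `G` has an element of order `2 ^ (a - 1)` (so a Sylow `2`-subgroup has a cyclic subgroup of index at most `2`). Then `G` has a normal subgroup of order `n`. -/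
theorem result {G : Type*} [Group G] [Finite G] (a n : ℕ) (hG : Nat.card G = 2 ^ a * n) (hn : Odd n) (h3 : ¬ 3 ∣ n) (hx : ∃ x : G, orderOf x = 2 ^ (a - 1)) : ∃ N : Subgroup G, N.Normal ∧ Nat.card N = n := by
  classical
  have : Fact (Nat.Prime 2) := ⟨Nat.prime_two⟩
  obtain ⟨x, hx⟩ := hx
  have hxp : IsPGroup 2 (zpowers x) := IsPGroup.of_card (n := a - 1) (by rw [Nat.card_zpowers]; exact hx)
  obtain ⟨P, hP⟩ := hxp.exists_le_sylow
  have hfac : (Nat.card G).factorization 2 = a := by
    rw [hG, Nat.factorization_mul (pow_ne_zero _ (by norm_num)) (by rintro rfl; exact absurd hn (by decide)),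
      Finsupp.add_apply, Nat.Prime.factorization_pow Nat.prime_two, Finsupp.single_eq_same,
      Nat.factorization_eq_zero_of_not_dvd hn.not_two_dvd_nat, add_zero]
  have hPc : Nat.card (P : Subgroup G) = 2 ^ a := hfac ▸ P.card_eq_multiplicity
  suffices hc : Cfsg.HasNormalPComplement 2 G by
    obtain ⟨Q, N, hN, hc⟩ := hc
    refine ⟨N, hN, ?_⟩
    have h := hc.card_mul
    rw [Q.card_eq_multiplicity, hfac, hG, mul_comm (2 ^ a) n] at h
    exact Nat.eq_of_mul_eq_mul_right (pow_pos (by norm_num) a) h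
  refine (Cfsg.Lib.Fusion.frobenius P).mpr fun Q hQ g hg hgo => ?_
  have hQp : IsPGroup 2 Q := P.2.to_le hQ
  have hsol : Group.IsSolvable (zpowers g) := Group.isSolvable_of_comm fun a b => mul_comm' a b
  have hAN : zpowers g ≤ normalizer (Q : Set G) := zpowers_le.mpr hg
  obtain ⟨b, hb⟩ := IsPGroup.iff_card.mp hQp
  have hcop : (Nat.card (zpowers g)).Coprime (Nat.card Q) := by
    rw [Nat.card_zpowers, hb]; exact hgo.pow_right b
  refine (Cfsg.Lib.Coprime.le_centralizer_of_commutator_le_frattini hAN hcop (Or.inl hsol) ?_) (mem_zpowers g)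
  -- the Frattini quotient of `Q` has order at most `4`
  set Φ := (frattini Q).map Q.subtype with hΦ
  have hle4 : (frattini Q).index ≤ 4 := by
    set C := (zpowers x).subgroupOf Q
    have hC2 : C.index ≤ 2 := by
      have h1 : C.index ≤ (zpowers x).relIndex (P : Subgroup G) := relIndex_le_of_le_right hQ (by
        exact index_ne_zero_of_finite)
      have h2 : (zpowers x).relIndex (P : Subgroup G) * 2 ^ (a - 1) = 2 ^ a := by
        have h := ((zpowers x).subgroupOf (P : Subgroup G)).index_mul_card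
        rw [Nat.card_congr (subgroupOfEquivOfLe hP).toEquiv, Nat.card_zpowers, hx, hPc] at h
        exact h
      have h3 : 2 ^ a ≤ 2 * 2 ^ (a - 1) := by
        rw [← pow_succ']; exact Nat.pow_le_pow_right (by norm_num) (by omega)
      exact h1.trans (Nat.le_of_mul_le_mul_right (h2 ▸ h3) (pow_pos (by norm_num) _))
    have hcyc : IsCyclic C := isCyclic_of_injective ((Q.subtype.comp C.subtype).codRestrict (zpowers x) fun c => c.2)
      (fun a b h => by
        apply Subtype.ext; apply Subtype.ext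
        have h' := congrArg Subtype.val h
        exact h')
    obtain ⟨c, hc⟩ := hcyc.exists_generator
    have h4 : ((frattini Q).subgroupOf C).index ≤ 2 := by
      have hle : zpowers (c ^ 2) ≤ (frattini Q).subgroupOf C := zpowers_le.mpr
        (show ((c ^ 2 : C) : Q) ∈ frattini Q by rw [SubmonoidClass.coe_pow]; exact Cfsg.Lib.PGroup.pow_mem_frattini hQp _)
      refine (Nat.le_of_dvd (Nat.pos_of_ne_zero index_ne_zero_of_finite) (index_dvd_of_le hle)).trans ?_
      have h5 := (zpowers (c ^ 2)).index_mul_card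
      rw [Nat.card_zpowers, orderOf_pow, orderOf_eq_card_of_forall_mem_zpowers hc] at h5
      have h6 : Nat.card C ≤ 2 * (Nat.card C / (Nat.card C).gcd 2) := by
        obtain ⟨d, hd⟩ := Nat.gcd_dvd_left (Nat.card C) 2
        have hg2 : (Nat.card C).gcd 2 ≤ 2 := Nat.le_of_dvd (by norm_num) (Nat.gcd_dvd_right _ _)
        have hg0 : 0 < (Nat.card C).gcd 2 := Nat.gcd_pos_of_pos_right _ (by norm_num)
        rw [show Nat.card C / (Nat.card C).gcd 2 = d from
          Nat.div_eq_of_eq_mul_right hg0 hd]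
        calc Nat.card C = (Nat.card C).gcd 2 * d := hd
          _ ≤ 2 * d := Nat.mul_le_mul_right d hg2
      exact Nat.le_of_mul_le_mul_right (h5.le.trans h6) (Nat.div_pos (Nat.gcd_le_left _ Nat.card_pos) (Nat.gcd_pos_of_pos_right _ (by norm_num)))
    have h7 : (frattini Q).index ≤ (frattini Q ⊓ C).index :=
      Nat.le_of_dvd (Nat.pos_of_ne_zero index_ne_zero_of_finite) (index_dvd_of_le inf_le_left)
    refine h7.trans ?_
    rw [← relIndex_mul_index (inf_le_right : frattini Q ⊓ C ≤ C), inf_relIndex_right]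
    exact Nat.mul_le_mul h4 hC2
  rw [commutator_le]
  intro q hq u hu
  have hqu : ⁅q, u⁆ ∈ Q := Cfsg.Lib.Coprime.commutator_le_of_le_normalizer hAN (commutator_mem_commutator hq hu)
  refine ⟨⟨⁅q, u⁆, hqu⟩, ?_, rfl⟩
  by_contra hne
  -- `u` permutes at most three nontrivial cosets in orbits of size prime to `6`
  have huN : u ∈ normalizer (Q : Set G) := hAN hu
  have huo : (orderOf u).Coprime 6 := by
    have hd : orderOf u ∣ orderOf g := orderOf_dvd_of_mem_zpowers hu
    refine (Nat.Coprime.mul_right (hgo.coprime_dvd_left hd) ?_ : (orderOf u).Coprime (2 * 3))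
    refine ((Nat.prime_three.coprime_iff_not_dvd).mpr fun h => h3 ?_).symm
    have h1 : 3 ∣ 2 ^ a * n := hG ▸ h.trans (orderOf_dvd_natCard u)
    exact (Nat.prime_three.dvd_mul.mp h1).resolve_left fun h2 => by
      have := Nat.prime_three.dvd_of_dvd_pow h2
      omega
  let φ : Q →* Q :=
    { toFun := fun x => ⟨u * x * u⁻¹, (mem_normalizer_iff.mp huN x).mp x.2⟩
      map_one' := Subtype.ext (by simp)
      map_mul' := fun x y => Subtype.ext (by simp [mul_assoc]) }
  have hφ : frattini Q ≤ (frattini Q).comap φ :=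
    map_le_iff_le_comap.mp (Cfsg.Lib.PGroup.map_frattini_le hQp hQp φ)
  let σ : Q ⧸ frattini Q →* Q ⧸ frattini Q := QuotientGroup.map _ _ φ hφ
  have hiter : ∀ (i : ℕ) (x : Q), ((φ^[i]) x : G) = u ^ i * x * (u ^ i)⁻¹ := by
    intro i
    induction i with
    | zero => intro x; simp
    | succ i ih =>
      intro x
      rw [Function.iterate_succ_apply', pow_succ']
      show u * ((φ^[i]) x : G) * u⁻¹ = _
      rw [ih]; simp [mul_assoc]
  have hσ : ∀ (i : ℕ) (x : Q), (σ^[i]) (x : Q ⧸ frattini Q) = (((φ^[i]) x : Q) : Q ⧸ frattini Q) := by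
    intro i
    induction i with
    | zero => intro x; rfl
    | succ i ih => intro x; rw [Function.iterate_succ_apply', Function.iterate_succ_apply', ih]; rfl
  have hN : Function.IsPeriodicPt σ (orderOf u) ((⟨q, hq⟩ : Q) : Q ⧸ frattini Q) := by
    show (σ^[orderOf u]) _ = _
    rw [hσ]
    refine congrArg _ (Subtype.ext ?_)
    rw [hiter, pow_orderOf_eq_one]; simp
  have hσ1 : σ ((⟨q, hq⟩ : Q) : Q ⧸ frattini Q) ≠ ((⟨q, hq⟩ : Q) : Q ⧸ frattini Q) := by
    intro h
    have h' : ((φ ⟨q, hq⟩ : Q) : Q ⧸ frattini Q) = ((⟨q, hq⟩ : Q) : Q ⧸ frattini Q) := h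
    have h1 : (φ ⟨q, hq⟩)⁻¹ * ⟨q, hq⟩ ∈ frattini Q := QuotientGroup.eq.mp h'
    have h2 := (inferInstance : (frattini Q).Normal).mem_comm_iff.mp h1
    refine hne ?_
    have h3 : (⟨⁅q, u⁆, hqu⟩ : Q) = ⟨q, hq⟩ * (φ ⟨q, hq⟩)⁻¹ :=
      Subtype.ext (by simp [φ, commutatorElement_def, mul_assoc])
    show (⟨⁅q, u⁆, hqu⟩ : Q) ∈ frattini Q
    rw [h3]; exact h2
  set x₀ : Q ⧸ frattini Q := ((⟨q, hq⟩ : Q) : Q ⧸ frattini Q) with hx₀
  set m := Function.minimalPeriod σ x₀
  have hm : m ∣ orderOf u := Function.IsPeriodicPt.minimalPeriod_dvd hN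
  have hmpos : 0 < m := Function.minimalPeriod_pos_of_mem_periodicPts ⟨_, orderOf_pos u, hN⟩
  have hinj : Function.Injective (Option.elim' (1 : Q ⧸ frattini Q) (fun i : Fin m => (σ^[(i : ℕ)]) x₀)) := by
    have hx1 : ∀ i : ℕ, (σ^[i]) x₀ ≠ 1 := by
      intro i h
      refine hσ1 ?_
      have hfix : ∀ j, (σ^[j]) (1 : Q ⧸ frattini Q) = 1 := fun j =>
        Function.iterate_fixed (map_one σ) j
      have h1 : x₀ = 1 := by
        have hp : Function.IsPeriodicPt σ (orderOf u * (i + 1)) x₀ := hN.mul_const _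
        have hle : i ≤ orderOf u * (i + 1) :=
          le_trans (Nat.le_succ i) (Nat.le_mul_of_pos_left _ (orderOf_pos u))
        have h2 : (σ^[orderOf u * (i + 1) - i]) ((σ^[i]) x₀) = x₀ := by
          rw [← Function.iterate_add_apply, Nat.sub_add_cancel hle]; exact hp
        rw [h, hfix] at h2
        exact h2.symm
      rw [h1]; exact map_one σ
    intro i j h
    cases i <;> cases j <;> simp only [Option.elim'] at h
    · rfl
    · exact absurd h.symm (hx1 _)
    · exact absurd h (hx1 _)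
    · rename_i i j
      exact congrArg some (Fin.ext ((Function.iterate_eq_iterate_iff_of_lt_minimalPeriod i.2 j.2).mp h))
  have hcard := Nat.card_le_card_of_injective _ hinj
  rw [Finite.card_option, Nat.card_fin, ← index_eq_card] at hcard
  have hm3 : m ≤ 3 := by omega
  have hcop6 : m.Coprime 6 := huo.coprime_dvd_left hm
  have hm1 : m = 1 := by
    interval_cases m <;> first | rfl | (norm_num at hcop6)
  exact hσ1 (Function.minimalPeriod_eq_one_iff_isFixedPt.mp hm1)

end Cfsg.Agent.S3971
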