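import Cfsg.Statements.S3972
import Cfsg.Agent.S3559
-- import your own Cfsg.Agent.* helpers here

set_option autoImplicit false
open Cfsg

namespace Cfsg.Agent.S3972

open Cfsg.Agent.S3559 MulAction
open scoped Pointwise

section schur

variable {G Ω : Type*} [Group G] [MulAction G Ω] {C : Type*} [CommGroup C] (idx : Ω ≃ C)

/-- The image of an invariant set under a power map of exponent prime to the order is invariant. -/
theorem inv_image_pow [Finite C] [Finite Ω] :
    ∀ r : ℕ, r ≠ 0 → r.Coprime (Nat.card C) → ∀ T : Set C, Inv idx G (fun c => c ∈ T) →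
      Inv idx G (fun c => c ∈ (fun t => t ^ r) '' T) := by
  classical
  haveI := Fintype.ofFinite C
  haveI := Fintype.ofFinite Ω
  intro r
  induction r using Nat.strong_induction_on with
  | _ r ih =>
  intro hr hco T hT
  by_cases h1 : r = 1
  · subst h1; simpa using hT
  obtain ⟨l, hl, hdvd⟩ := Nat.exists_prime_and_dvd h1
  obtain ⟨s, rfl⟩ := hdvd
  rw [Nat.coprime_mul_iff_left] at hco
  have hs : s ≠ 0 := fun h => hr (by rw [h, mul_zero])
  have hlt : s < l * s := (lt_mul_iff_one_lt_left (Nat.pos_of_ne_zero hs)).2 hl.one_lt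
  have hU := ih s hlt hs hco.2 T hT
  have himg : (fun t : C => t ^ (l * s)) '' T = (fun t : C => t ^ l) '' ((fun t => t ^ s) '' T) := by
    rw [Set.image_image]
    exact Set.image_congr' fun t => by rw [← pow_mul, mul_comm]
  rw [himg]
  generalize (fun t : C => t ^ s) '' T = U at hU
  haveI := Fact.mk hl
  haveI : CharP (MonoidAlgebra (ZMod l) C) l :=
    charP_of_injective_algebraMap (algebraMap (ZMod l) (MonoidAlgebra (ZMod l) C)).injective l
  set f : MonoidAlgebra (ZMod l) C := ∑ c ∈ U.toFinset, MonoidAlgebra.single c (1 : ZMod l) with hf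
  have hfc : ∀ y, f.coeff y = if y ∈ U then 1 else 0 := fun y => by
    rw [hf, MonoidAlgebra.coeff_sum, Finsupp.finsetSum_apply]
    simp [MonoidAlgebra.coeff_single, Finsupp.single_apply]
  have hfinv : Inv idx G (fun c => f.coeff c) := fun g u v => by
    simp only [hfc]
    rw [show ((idx (g • u))⁻¹ * idx (g • v) ∈ U) = ((idx u)⁻¹ * idx v ∈ U) from hU g u v]
  have hinj : Function.Injective (fun c : C => c ^ l) := fun a b h =>
    (powCoprime hco.1.symm).injective h
  have hpow : ∀ y, (f ^ l).coeff y = if y ∈ (fun t => t ^ l) '' U then 1 else 0 := fun y => by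
    rw [hf, sum_pow_char, MonoidAlgebra.coeff_sum, Finsupp.finsetSum_apply]
    simp only [MonoidAlgebra.single_pow, one_pow, MonoidAlgebra.coeff_single, Finsupp.single_apply]
    split_ifs with hy
    · obtain ⟨t, ht, rfl⟩ := hy
      rw [Finset.sum_eq_single t (fun b _ hb => if_neg fun e => hb (hinj e))
        (fun h => absurd (Set.mem_toFinset.2 ht) h), if_pos rfl]
    · exact Finset.sum_eq_zero fun b hb => if_neg fun e => hy ⟨b, Set.mem_toFinset.1 hb, e⟩
  intro g u v
  have h := inv_powAlg idx hfinv l g u v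
  simp only [hpow] at h
  refine propext ⟨fun hm => ?_, fun hm => ?_⟩
  · by_contra hn
    rw [if_pos hm, if_neg hn] at h
    exact one_ne_zero h
  · by_contra hn
    rw [if_neg hn, if_pos hm] at h
    exact zero_ne_one h

end schur

theorem main {G Ω : Type*} [Group G] [Finite G] [MulAction G Ω] [Finite Ω] (hprim : IsPreprimitive G Ω)
    (C : Subgroup G) [hcyc : IsCyclic ↥C] (hCt : IsPretransitive ↥C Ω) (hCs : ∀ a : Ω, stabilizer ↥C a = ⊥)
    {p m : ℕ} [hp : Fact p.Prime] (hm : 2 ≤ m) (hn : Nat.card Ω = p ^ m) : IsMultiplyPretransitive G Ω 2 := by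
  classical
  letI : CommGroup C := IsCyclic.commGroup
  haveI := Fintype.ofFinite Ω
  haveI := Fintype.ofFinite C
  have hone_lt : 1 < p ^ m := Nat.one_lt_pow (by omega) hp.out.one_lt
  obtain ⟨o⟩ : Nonempty Ω := Finite.card_pos_iff.1 (by omega)
  have hbij : Function.Bijective (fun c : C => c • o) := by
    refine ⟨fun c d h => ?_, hCt.exists_smul_eq o⟩
    have : d⁻¹ * c ∈ stabilizer C o := by
      rw [mem_stabilizer_iff, mul_smul, show c • o = d • o from h, inv_smul_smul]
    rw [hCs o, Subgroup.mem_bot] at this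
    exact (inv_mul_eq_one.1 this).symm
  let idx : Ω ≃ C := (Equiv.ofBijective _ hbij).symm
  have hidx : ∀ w, idx w • o = w := fun w => (Equiv.ofBijective _ hbij).apply_symm_apply w
  have hidx' : ∀ c : C, idx (c • o) = c := fun c => (Equiv.ofBijective _ hbij).symm_apply_apply c
  let T : C → Set C := fun x => {z | ∃ g : G, g • o = o ∧ g • (x • o) = z • o}
  have hTiff : ∀ x (u v : Ω), (idx u)⁻¹ * idx v ∈ T x ↔ ∃ g : G, g • o = u ∧ g • (x • o) = v := by
    intro x u v
    constructor
    · rintro ⟨g, h1, h2⟩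
      refine ⟨(idx u : G) * g, ?_, ?_⟩
      · rw [mul_smul, h1]; exact hidx u
      · rw [mul_smul, h2]
        change idx u • (((idx u)⁻¹ * idx v) • o) = v
        rw [← mul_smul, mul_inv_cancel_left, hidx]
    · rintro ⟨g, h1, h2⟩
      refine ⟨(idx u : G)⁻¹ * g, ?_, ?_⟩
      · rw [mul_smul, h1, inv_smul_eq_iff]; exact (hidx u).symm
      · rw [mul_smul, h2, mul_smul]
        change (idx u)⁻¹ • v = (idx u)⁻¹ • (idx v • o)
        rw [hidx]
  have hTinv : ∀ x, Inv idx G (fun c => c ∈ T x) := by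
    intro x g u v
    refine propext ?_
    dsimp only
    rw [hTiff, hTiff]
    constructor
    · rintro ⟨k, h1, h2⟩
      exact ⟨g⁻¹ * k, by rw [mul_smul, h1, inv_smul_smul], by rw [mul_smul, h2, inv_smul_smul]⟩
    · rintro ⟨k, h1, h2⟩
      exact ⟨g * k, by rw [mul_smul, h1], by rw [mul_smul, h2]⟩
  have hself : ∀ x, x ∈ T x := fun x => ⟨1, one_smul _ _, one_smul _ _⟩
  have hsymm : ∀ x y, y ∈ T x → x ∈ T y := fun x y ⟨g, h1, h2⟩ =>
    ⟨g⁻¹, inv_smul_eq_iff.2 h1.symm, inv_smul_eq_iff.2 h2.symm⟩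
  have htrans : ∀ x y z, y ∈ T x → z ∈ T y → z ∈ T x := fun x y z ⟨g, h1, h2⟩ ⟨k, h3, h4⟩ =>
    ⟨k * g, by rw [mul_smul, h1, h3], by rw [mul_smul, h2, h4]⟩
  have hclass : ∀ x y, y ∈ T x → T y = T x := fun x y h =>
    Set.ext fun z => ⟨fun hz => htrans x y z h hz, fun hz => htrans y x z (hsymm x y h) hz⟩
  have hone : ∀ x, x ≠ 1 → (1 : C) ∉ T x := by
    rintro x hx ⟨g, h1, h2⟩
    rw [one_smul] at h2
    have : x • o = o := smul_left_cancel g (h2.trans h1.symm)
    exact hx (by rw [← hidx' x, this, ← hidx' 1, one_smul])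
  have hmin : ∀ U : Set C, Inv idx G (fun c => c ∈ U) → ∀ z ∈ U, T z ⊆ U := by
    rintro U hU z hz c ⟨g, h1, h2⟩
    have h := hU g o (z • o)
    dsimp only at h
    rw [h1, h2, hidx', hidx'] at h
    have he : (idx o)⁻¹ = (1 : C) := by
      rw [show idx o = 1 by rw [← hidx' 1, one_smul], inv_one]
    rw [he, one_mul, one_mul] at h
    exact h.symm ▸ hz
  have hcardC : Nat.card C = p ^ m := (Nat.card_congr idx.symm).trans hn
  have hpC : p ∣ Nat.card C := hcardC ▸ dvd_pow_self p (by omega)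
  have hmeet : ∀ x : C, x ≠ 1 → ∃ a : C, a ≠ 1 ∧ a ^ p = 1 ∧ a ∈ T x := by
    intro x hx
    by_contra hno
    push Not at hno
    have hfull : ∀ t ∈ T x, ∀ a : C, a ^ p = 1 → t * a ∈ T x := fun t ht a ha => by
      by_cases ht1 : t ^ p = 1
      · exact absurd ht (hno t (fun h => hone x hx (h ▸ ht)) ht1)
      · exact coset_full idx hprim hpC (T x) (hTinv x) t ht1 ht a ha
    let K : Subgroup C :=
      { carrier := {a | ∀ t, t * a ∈ T x ↔ t ∈ T x}
        one_mem' := fun t => by rw [mul_one]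
        mul_mem' := fun {a b} ha hb t => by rw [← mul_assoc, hb, ha]
        inv_mem' := fun {a} ha t => by rw [← ha (t * a⁻¹), inv_mul_cancel_right] }
    have hKinv : Inv idx G (fun c => c ∈ K) := by
      have key : ∀ u v, (idx u)⁻¹ * idx v ∈ K ↔ ∀ w, ((idx u)⁻¹ * idx w ∈ T x ↔ (idx v)⁻¹ * idx w ∈ T x) := by
        intro u v
        constructor
        · intro h w
          rw [← h ((idx v)⁻¹ * idx w)]
          congr! 1
          rw [mul_comm _ ((idx u)⁻¹ * idx v), mul_assoc, mul_inv_cancel_left]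
        · intro h t
          obtain ⟨w, hw⟩ := idx.surjective (idx v * t)
          have := h w
          rw [hw, inv_mul_cancel_left] at this
          rw [← this, mul_comm t, mul_assoc]
      intro g u v
      refine propext ?_
      dsimp only
      rw [key, key]
      have hT : ∀ u w, ((idx (g • u))⁻¹ * idx (g • w) ∈ T x) = ((idx u)⁻¹ * idx w ∈ T x) := fun u w => hTinv x g u w
      constructor
      · intro h w
        have := h (g • w)
        rwa [hT u w, hT v w] at this
      · intro h w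
        have := h (g⁻¹ • w)
        rw [← hT u (g⁻¹ • w), ← hT v (g⁻¹ • w), smul_inv_smul] at this
        exact this
    obtain ⟨a, ha⟩ := exists_prime_orderOf_dvd_card' (G := C) p hpC
    have hap : a ^ p = 1 := ha ▸ pow_orderOf_eq_one a
    have haK : a ∈ K := by
      intro t
      refine ⟨fun h => ?_, fun h => hfull t h a hap⟩
      have := hfull _ h a⁻¹ (by rw [inv_pow, hap, inv_one])
      rwa [mul_inv_cancel_right] at this
    rcases trivial_of_inv idx hprim K hKinv with h | h
    · rw [h, Subgroup.mem_bot] at haK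
      rw [haK, orderOf_one] at ha
      exact hp.out.one_lt.ne ha
    · have : x⁻¹ ∈ K := h ▸ Subgroup.mem_top _
      have := (this x).2 (hself x)
      rw [mul_inv_cancel] at this
      exact hone x hx this
  have himage : ∀ (r : ℕ) (x : C), ¬ p ∣ r → T (x ^ r) = (fun t => t ^ r) '' T x := by
    intro r x hr
    have hco : r.Coprime (Nat.card C) :=
      hcardC ▸ (((hp.out.coprime_iff_not_dvd.2 hr).symm).pow_right m)
    have hr0 : r ≠ 0 := fun h => hr (h ▸ dvd_zero p)
    refine Set.Subset.antisymm (hmin _ (inv_image_pow idx r hr0 hco _ (hTinv x)) _ ⟨x, hself x, rfl⟩) ?_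
    obtain ⟨s, -, hs⟩ := Nat.exists_mul_mod_eq_one_of_coprime hco (hcardC ▸ hone_lt)
    have hsc : s.Coprime (Nat.card C) := by
      rw [Nat.coprime_comm, hcardC]
      refine Nat.Coprime.pow_left m (hp.out.coprime_iff_not_dvd.2 fun hd => ?_)
      have h2 := Nat.mod_add_div (r * s) (Nat.card C)
      rw [hs] at h2
      have h3 : p ∣ r * s := hd.mul_left r
      rw [← h2] at h3
      exact hp.out.not_dvd_one ((Nat.dvd_add_left (hpC.mul_right _)).1 h3)
    have hback : ∀ t : C, (t ^ r) ^ s = t := fun t => by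
      rw [← pow_mul, ← pow_mod_natCard, hs, pow_one]
    have hs0 : s ≠ 0 := fun h => by rw [h, mul_zero, Nat.zero_mod] at hs; omega
    have hsub := hmin _ (inv_image_pow idx s hs0 hsc _ (hTinv (x ^ r))) x ⟨x ^ r, hself _, hback x⟩
    rintro _ ⟨t, ht, rfl⟩
    obtain ⟨u, hu, rfl⟩ := hsub ht
    show (u ^ s) ^ r ∈ _
    rwa [← pow_mul, mul_comm, pow_mul, hback]
  -- a class containing a generator
  obtain ⟨x₀, hx₀⟩ := IsCyclic.exists_generator (α := C)
  have hx₀o : orderOf x₀ = p ^ m := by rw [orderOf_eq_card_of_forall_mem_zpowers hx₀, hcardC]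
  have hx₀p : x₀ ^ p ≠ 1 := fun h => by
    have h1 := Nat.le_of_dvd hp.out.pos (orderOf_dvd_of_pow_eq_one h)
    rw [hx₀o] at h1
    have h2 : p ^ 1 < p ^ m := Nat.pow_lt_pow_right hp.out.one_lt (by omega)
    rw [pow_one] at h2
    omega
  have hx₀1 : x₀ ≠ 1 := fun h => hx₀p (by rw [h, one_pow])
  obtain ⟨a, ha1, hap, haT⟩ := hmeet x₀ hx₀1
  have hTa : T a = T x₀ := hclass _ _ haT
  let P1 : Finset C := Finset.univ.filter fun c => c ≠ 1 ∧ c ^ p = 1
  let O1 : Finset C := Finset.univ.filter fun c => c ^ p = 1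
  let S : Finset C := (T a).toFinset
  have hao : orderOf a = p := orderOf_eq_prime hap ha1
  have hO1 : O1 = (Finset.range p).image (fun i => a ^ i) := by
    refine (Finset.eq_of_subset_of_card_le ?_ ?_).symm
    · intro c hc
      obtain ⟨i, -, rfl⟩ := Finset.mem_image.1 hc
      exact Finset.mem_filter.2 ⟨Finset.mem_univ _, by rw [← pow_mul, mul_comm, pow_mul, hap, one_pow]⟩
    · rw [Finset.card_image_of_injOn (fun i hi j hj h => by
        simp only [Finset.coe_range, Set.mem_Iio] at hi hj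
        exact pow_injOn_Iio_orderOf (hao.symm ▸ hi) (hao.symm ▸ hj) h), Finset.card_range]
      exact IsCyclic.card_pow_eq_one_le hp.out.pos
  have hP1 : ∀ c ∈ P1, ∃ r, ¬ p ∣ r ∧ c = a ^ r := by
    intro c hc
    obtain ⟨-, hc1, hcp⟩ := Finset.mem_filter.1 hc
    have hc' : c ∈ O1 := Finset.mem_filter.2 ⟨Finset.mem_univ _, hcp⟩
    rw [hO1] at hc'
    obtain ⟨i, -, rfl⟩ := Finset.mem_image.1 hc'
    exact ⟨i, fun ⟨k, hk⟩ => hc1 (by rw [hk, pow_mul, hap, one_pow]), rfl⟩
  -- the number of solutions of `t = s * y` inside the class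
  let w : C → ℕ := fun y => (S.filter fun s => s * y ∈ S).card
  have hw : ∀ (y z : C), z ∈ T y → w z = w y := by
    intro y z ⟨g, h1, h2⟩
    have hval : ∀ (g : G) (u v : Ω), ((idx (g • u))⁻¹ * idx (g • v) ∈ T a) = ((idx u)⁻¹ * idx v ∈ T a) :=
      hTinv a
    have hcount : ∀ u v : Ω, (Finset.univ.filter fun q : Ω =>
        (idx u)⁻¹ * idx q ∈ T a ∧ (idx v)⁻¹ * idx q ∈ T a).card = w ((idx v)⁻¹ * idx u) := by
      intro u v
      refine Finset.card_bij (fun q _ => (idx u)⁻¹ * idx q) ?_ ?_ ?_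
      · intro q hq
        simp only [Finset.mem_filter, Finset.mem_univ, true_and] at hq
        refine Finset.mem_filter.2 ⟨Set.mem_toFinset.2 hq.1, Set.mem_toFinset.2 ?_⟩
        rw [show (idx u)⁻¹ * idx q * ((idx v)⁻¹ * idx u) = (idx v)⁻¹ * idx q by
          rw [mul_comm, mul_assoc, mul_inv_cancel_left]]
        exact hq.2
      · intro q _ q' _ h; exact idx.injective (mul_left_cancel h)
      · intro s hs
        simp only [Finset.mem_filter, S, Set.mem_toFinset] at hs
        refine ⟨idx.symm (idx u * s), ?_, ?_⟩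
        · simp only [Finset.mem_filter, Finset.mem_univ, true_and, Equiv.apply_symm_apply, inv_mul_cancel_left]
          refine ⟨hs.1, ?_⟩
          rw [show (idx v)⁻¹ * (idx u * s) = s * ((idx v)⁻¹ * idx u) by rw [← mul_assoc, mul_comm]]
          exact hs.2
        · simp only [Equiv.apply_symm_apply, inv_mul_cancel_left]
    have e1 := hcount (y • o) o
    have e2 := hcount (z • o) o
    have he : (idx o)⁻¹ = (1 : C) := by rw [show idx o = 1 by rw [← hidx' 1, one_smul], inv_one]
    rw [hidx', he, one_mul] at e1 e2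
    rw [← e1, ← e2]
    refine (Finset.card_equiv (MulAction.toPerm g) fun q => ?_).symm
    simp only [Finset.mem_filter, Finset.mem_univ, true_and, MulAction.toPerm_apply]
    have k1 := hval g (y • o) q
    have k2 := hval g o q
    rw [h2, hidx', hidx'] at k1
    rw [h1, he] at k2
    rw [k1, k2]
  -- equality of the class sizes and of their parts of order `p`
  have hsize : ∀ c ∈ P1, (T c).toFinset.card = S.card ∧
      (P1 ∩ (T c).toFinset).card = (P1 ∩ S).card := by
    intro c hc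
    obtain ⟨r, hr, rfl⟩ := hP1 c hc
    have hco : (Nat.card C).Coprime r :=
      hcardC ▸ ((hp.out.coprime_iff_not_dvd.2 hr).pow_left m)
    have hinj : Function.Injective (fun t : C => t ^ r) := fun u v h => (powCoprime hco).injective h
    have he : (T (a ^ r)).toFinset = S.image (fun t => t ^ r) := by
      ext t; simp [S, himage r a hr]
    have heP : P1 ∩ (T (a ^ r)).toFinset = (P1 ∩ S).image (fun t => t ^ r) := by
      rw [he]
      ext t
      simp only [Finset.mem_inter, Finset.mem_image]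
      constructor
      · rintro ⟨ht, u, hu, rfl⟩
        refine ⟨u, ⟨?_, hu⟩, rfl⟩
        obtain ⟨-, h1, h2⟩ := Finset.mem_filter.1 ht
        refine Finset.mem_filter.2 ⟨Finset.mem_univ _, fun h => h1 (by rw [h, one_pow]), hinj ?_⟩
        show (u ^ p) ^ r = 1 ^ r
        rw [one_pow, ← pow_mul, mul_comm, pow_mul, h2]
      · rintro ⟨u, ⟨hu, huS⟩, rfl⟩
        refine ⟨?_, u, huS, rfl⟩
        obtain ⟨-, h1, h2⟩ := Finset.mem_filter.1 hu
        refine Finset.mem_filter.2 ⟨Finset.mem_univ _, fun h => h1 (hinj ?_), ?_⟩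
        · show u ^ r = 1 ^ r; rw [one_pow, h]
        · rw [← pow_mul, mul_comm, pow_mul, h2, one_pow]
    exact ⟨by rw [he, Finset.card_image_of_injective _ hinj],
      by rw [heP, Finset.card_image_of_injective _ hinj]⟩
  have hS1 : (1 : C) ∉ S := fun h => hone a ha1 (Set.mem_toFinset.1 h)
  set h := (P1 ∩ S).card with hh
  -- the classes partition the non-identity elements
  have hTne : ∀ y : C, y ≠ 1 → ∀ c ∈ P1, (c ∈ T y ↔ T c = T y) := fun y _ c _ =>
    ⟨hclass y c, fun e => e ▸ hself c⟩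
  have hkey : h * (∑ y ∈ Finset.univ.erase (1 : C), w y) = S.card * ∑ c ∈ P1, w c := by
    have e1 : ∀ y ∈ Finset.univ.erase (1 : C), h * w y = ∑ c ∈ P1 ∩ (T y).toFinset, w c := by
      intro y hy
      have hy1 := Finset.ne_of_mem_erase hy
      obtain ⟨c, hc1, hcp, hcT⟩ := hmeet y hy1
      have hc : c ∈ P1 := Finset.mem_filter.2 ⟨Finset.mem_univ _, hc1, hcp⟩
      rw [Finset.sum_congr rfl (fun d hd => hw y d (Set.mem_toFinset.1 (Finset.mem_inter.1 hd).2)),
        Finset.sum_const, smul_eq_mul, ← (hsize c hc).2]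
      congr 3
      ext t
      rw [Set.mem_toFinset, Set.mem_toFinset, hclass y c hcT]
    rw [Finset.mul_sum, Finset.sum_congr rfl e1, Finset.mul_sum]
    rw [Finset.sum_comm' (t' := P1) (s' := fun c => (T c).toFinset) (fun y c => ?_)]
    · exact Finset.sum_congr rfl fun c hc => by rw [Finset.sum_const, (hsize c hc).1, smul_eq_mul]
    simp only [Finset.mem_inter, Set.mem_toFinset, Finset.mem_erase, Finset.mem_univ, and_true]
    constructor
    · rintro ⟨hy, hc, hcy⟩
      exact ⟨hsymm _ _ hcy, hc⟩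
    · rintro ⟨hyc, hc⟩
      exact ⟨fun e => hone c (Finset.mem_filter.1 hc).2.1 (e ▸ hyc), hc, hsymm _ _ hyc⟩
  have htotal : ∑ y ∈ Finset.univ.erase (1 : C), w y + S.card = S.card * S.card := by
    have hall : ∑ y : C, w y = S.card * S.card := by
      simp only [w, Finset.card_filter]
      rw [Finset.sum_comm]
      rw [Finset.sum_congr rfl (fun s _ => ?_), Finset.sum_const, smul_eq_mul]
      rw [← Finset.card_filter]
      exact Finset.card_equiv (Equiv.mulLeft s) fun y => by simp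
    have hw1 : w 1 = S.card := by
      simp only [w, mul_one]
      rw [Finset.filter_true_of_mem (fun s hs => hs)]
    rw [← hall, ← Finset.add_sum_erase _ _ (Finset.mem_univ (1 : C)), hw1, add_comm]
  -- the part outside the elements of order p is periodic
  set R := S.filter (fun s => s ^ p ≠ 1) with hR
  have hRmem : ∀ s ∈ R, ∀ c : C, c ^ p = 1 → s * c ∈ S := fun s hs c hc => by
    obtain ⟨hsS, hsp⟩ := Finset.mem_filter.1 hs
    exact Set.mem_toFinset.2 (coset_full idx hprim hpC (T a) (hTinv a) s hsp (Set.mem_toFinset.1 hsS) c hc)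
  have hsplit : S.card = h + R.card := by
    rw [← Finset.card_filter_add_card_filter_not (s := S) (fun s => s ^ p = 1), hh, hR]
    congr 2
    ext s
    simp only [Finset.mem_filter, Finset.mem_inter, P1, Finset.mem_univ, true_and]
    exact ⟨fun ⟨h1, h2⟩ => ⟨⟨fun e => hS1 (e ▸ h1), h2⟩, h1⟩, fun ⟨⟨_, h2⟩, h1⟩ => ⟨h1, h2⟩⟩
  have hwP : ∀ c ∈ P1, w c = R.card + ((P1 ∩ S).filter fun s => s * c ∈ S).card := by
    intro c hc
    obtain ⟨-, hc1, hcp⟩ := Finset.mem_filter.1 hc
    simp only [w]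
    rw [← Finset.card_filter_add_card_filter_not (s := S.filter fun s => s * c ∈ S) (fun s => s ^ p ≠ 1)]
    congr 2
    · ext s
      simp only [Finset.mem_filter, R]
      exact ⟨fun ⟨⟨h1, _⟩, h3⟩ => ⟨h1, h3⟩, fun ⟨h1, h3⟩ => ⟨⟨h1, hRmem s (Finset.mem_filter.2 ⟨h1, h3⟩) c hcp⟩, h3⟩⟩
    · ext s
      simp only [Finset.mem_filter, Finset.mem_inter, P1, Finset.mem_univ, true_and, not_not]
      exact ⟨fun ⟨⟨h1, h2⟩, h3⟩ => ⟨⟨⟨fun e => hS1 (e ▸ h1), h3⟩, h1⟩, h2⟩, fun ⟨⟨⟨_, h3⟩, h1⟩, h2⟩ => ⟨⟨h1, h2⟩, h3⟩⟩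
  have hin : ∑ c ∈ P1, ((P1 ∩ S).filter fun s => s * c ∈ S).card + h = h * h := by
    simp only [Finset.card_filter]
    rw [Finset.sum_comm]
    have e : ∀ s ∈ P1 ∩ S, (∑ c ∈ P1, if s * c ∈ S then 1 else 0) + 1 = h := by
      intro s hs
      obtain ⟨hsP, hsS⟩ := Finset.mem_inter.1 hs
      obtain ⟨-, hs1, hsp⟩ := Finset.mem_filter.1 hsP
      show _ + 1 = (P1 ∩ S).card
      rw [← Finset.card_filter, ← Finset.card_erase_add_one hs]
      congr 1
      refine Finset.card_equiv (Equiv.mulLeft s) fun c => ?_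
      simp only [Finset.mem_filter, Finset.mem_erase, Finset.mem_inter, Equiv.coe_mulLeft, P1, Finset.mem_univ, true_and]
      have hmul : (s * c) ^ p = c ^ p := by rw [mul_pow, hsp, one_mul]
      rw [hmul]
      constructor
      · rintro ⟨⟨h1, h2⟩, h3⟩
        exact ⟨fun e => h1 (by simpa using e), ⟨fun e => hS1 (e ▸ h3), h2⟩, h3⟩
      · rintro ⟨h1, ⟨_, h2⟩, h3⟩
        exact ⟨⟨fun e => h1 (by rw [e, mul_one]), h2⟩, h3⟩
    have e2 := Finset.sum_congr rfl e
    rw [Finset.sum_add_distrib, Finset.sum_const, Finset.sum_const, smul_eq_mul, mul_one, smul_eq_mul, ← hh] at e2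
    exact e2
  have hRpos : 0 < R.card :=
    Finset.card_pos.2 ⟨x₀, Finset.mem_filter.2 ⟨Set.mem_toFinset.2 (hTa ▸ hself x₀), hx₀p⟩⟩
  have hall : h = P1.card := by
    have e3 : ∑ c ∈ P1, w c = P1.card * R.card + ∑ c ∈ P1, ((P1 ∩ S).filter fun s => s * c ∈ S).card := by
      rw [Finset.sum_congr rfl hwP, Finset.sum_add_distrib, Finset.sum_const, smul_eq_mul]
    rw [e3] at hkey
    generalize ∑ y ∈ Finset.univ.erase (1 : C), w y = W at htotal hkey
    generalize ∑ c ∈ P1, ((P1 ∩ S).filter fun s => s * c ∈ S).card = I at hin hkey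
    have h1 : h * (S.card * S.card) + S.card * h = h * S.card + S.card * (P1.card * R.card + h * h) := by
      rw [← htotal, ← hin]
      linear_combination hkey
    have hSpos : 0 < S.card := by omega
    have h2 : h * S.card = P1.card * R.card + h * h :=
      Nat.eq_of_mul_eq_mul_left hSpos (by linarith)
    rw [hsplit] at h2
    exact Nat.eq_of_mul_eq_mul_right hRpos (by linarith)
  have hP1S : P1 ⊆ S := fun c hc =>
    (Finset.mem_inter.1 ((Finset.eq_of_subset_of_card_le Finset.inter_subset_left (hall ▸ hh.le : P1.card ≤ (P1 ∩ S).card)).symm ▸ hc)).2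
  have hevery : ∀ x, x ≠ 1 → x ∈ T a := by
    intro x hx
    obtain ⟨c, hc1, hcp, hcT⟩ := hmeet x hx
    have hc := Set.mem_toFinset.1 (hP1S (Finset.mem_filter.2 ⟨Finset.mem_univ c, hc1, hcp⟩))
    rw [← hclass a c hc, hclass x c hcT]
    exact hself x
  haveI := hprim.toIsPretransitive
  rw [is_two_pretransitive_iff]
  intro u v u' v' huv hu'v'
  have hne : ∀ u v : Ω, u ≠ v → ∃ g : G, g • o = u ∧ g • (a • o) = v := fun u v h =>
    (hTiff a u v).1 (hevery _ (fun e => h (idx.injective (inv_mul_eq_one.1 e))))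
  obtain ⟨g, hg1, hg2⟩ := hne u v huv
  obtain ⟨k, hk1, hk2⟩ := hne u' v' hu'v'
  exact ⟨k * g⁻¹, by rw [mul_smul, ← hg1, inv_smul_smul, hk1], by rw [mul_smul, ← hg2, inv_smul_smul, hk2]⟩

/-- A permutation of full prime power order is a single cycle. -/
theorem regular_zpowers {Ω : Type*} [Fintype Ω] [DecidableEq Ω] {p m : ℕ} [hp : Fact p.Prime] (hm : m ≠ 0)
    (hΩ : Fintype.card Ω = p ^ m) (σ : Equiv.Perm Ω) (hσ : orderOf σ = p ^ m) (x y : Ω) :
    ∃ i : ℤ, (σ ^ i) x = y := by
  have hmem : p ^ m ∈ σ.cycleType := by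
    by_contra hno
    have hd : σ.cycleType.lcm ∣ p ^ (m - 1) := by
      refine Multiset.lcm_dvd.2 fun c hc => ?_
      have hc' : c ∣ p ^ m := hσ ▸ Equiv.Perm.dvd_of_mem_cycleType hc
      obtain ⟨i, hi, rfl⟩ := (Nat.dvd_prime_pow hp.out).1 hc'
      exact pow_dvd_pow p (by
        rcases eq_or_ne i m with rfl | h
        · exact absurd hc hno
        · omega)
    rw [Equiv.Perm.lcm_cycleType, hσ] at hd
    have := (Nat.pow_dvd_pow_iff_le_right hp.out.one_lt).1 hd
    omega
  have hge : p ^ m ≤ σ.support.card := Equiv.Perm.sum_cycleType σ ▸ Multiset.le_sum_of_mem hmem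
  have hsupp : σ.support = Finset.univ :=
    Finset.eq_univ_of_card _ (le_antisymm (Finset.card_le_univ _) (hΩ ▸ hge))
  have hct : σ.cycleType = {p ^ m} := by
    obtain ⟨t, ht⟩ := Multiset.exists_cons_of_mem hmem
    have hs := Equiv.Perm.sum_cycleType σ
    rw [hsupp, Finset.card_univ, hΩ, ht, Multiset.sum_cons] at hs
    have ht0 : t.sum = 0 := by omega
    have : t = 0 := by
      refine Multiset.eq_zero_of_forall_notMem fun c hc => ?_
      have h1 := Equiv.Perm.two_le_of_mem_cycleType (ht ▸ Multiset.mem_cons_of_mem hc : c ∈ σ.cycleType)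
      have h2 := Multiset.le_sum_of_mem hc
      omega
    rw [ht, this]
    rfl
  have hcyc : σ.IsCycle := Equiv.Perm.card_cycleType_eq_one.1 (by rw [hct]; rfl)
  exact hcyc.exists_zpow_eq (Equiv.Perm.mem_support.1 (hsupp ▸ Finset.mem_univ x))
    (Equiv.Perm.mem_support.1 (hsupp ▸ Finset.mem_univ y))

/-- Let `p` be a prime, `m ≥ 2`, and `G` a transitive but not doubly transitive permutation group on `p ^ m` points containing a permutation of order `p ^ m` (necessarily a full cycle). Then `G` is imprimitive, and the normal closure in `G` of the `p ^ (m - 1)`-th power of that permutation is an intransitive normal subgroup. -/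
theorem result {Ω : Type*} [Fintype Ω] [DecidableEq Ω] (p m : ℕ) (hp : p.Prime) (hm : 2 ≤ m) (hΩ : Fintype.card Ω = p ^ m) (G : Subgroup (Equiv.Perm Ω)) (htr : MulAction.IsPretransitive G Ω) (h2 : ¬ MulAction.IsMultiplyPretransitive G Ω 2) (g : G) (hg : orderOf g = p ^ m) : ¬ MulAction.IsPreprimitive G Ω ∧ ¬ MulAction.IsPretransitive (Subgroup.normalClosure ({g ^ (p ^ (m - 1))} : Set G)) Ω := by
  classical
  haveI := Fact.mk hp
  haveI := htr
  set C : Subgroup G := Subgroup.zpowers g
  have hgΩ : orderOf (g : Equiv.Perm Ω) = p ^ m := (Subgroup.orderOf_coe g).trans hg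
  have hreg := regular_zpowers (by omega) hΩ (g : Equiv.Perm Ω) hgΩ
  have hCt : MulAction.IsPretransitive C Ω := ⟨fun x y => by
    obtain ⟨i, hi⟩ := hreg x y
    exact ⟨⟨g ^ i, i, rfl⟩, hi⟩⟩
  have hCcard : Nat.card C = p ^ m := by rw [Nat.card_zpowers, hg]
  have hn : Nat.card Ω = p ^ m := by rw [Nat.card_eq_fintype_card, hΩ]
  have hCs : ∀ a : Ω, stabilizer C a = ⊥ := by
    intro a
    have h1 := MulAction.index_stabilizer_of_transitive C a
    rw [hn] at h1
    refine Subgroup.eq_bot_of_card_eq _ (Nat.eq_of_mul_eq_mul_right (pow_pos hp.pos m) ?_)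
    nth_rewrite 1 [← h1]
    rw [Subgroup.card_mul_index, hCcard, one_mul]
  have hnp : ¬ IsPreprimitive G Ω := fun h => h2 (main h C hCt hCs hm hn)
  refine ⟨hnp, ?_⟩
  obtain ⟨B, hB, hnt⟩ : ∃ B : Set Ω, IsBlock G B ∧ ¬ IsTrivialBlock B := by
    by_contra hno
    push Not at hno
    exact hnp ⟨fun {B} hB => hno B hB⟩
  have hns : ¬ B.Subsingleton := fun h => hnt (Or.inl h)
  have hnu : B ≠ Set.univ := fun h => hnt (Or.inr h)
  rw [Set.not_subsingleton_iff] at hns
  obtain ⟨u, hu, v, hv, huv⟩ := hns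
  set z : G := g ^ (p ^ (m - 1)) with hz
  have hzord : orderOf z = p := by
    rw [hz, orderOf_pow' _ (pow_ne_zero _ hp.ne_zero), hg,
      Nat.gcd_eq_right (pow_dvd_pow p (by omega)), Nat.pow_div (by omega) hp.pos, show m - (m - 1) = 1 by omega, pow_one]
  have hzB : z • B = B := by
    obtain ⟨⟨c, hc⟩, hcv⟩ := hCt.exists_smul_eq u v
    have hcB : c • B = B := hB.smul_eq_of_mem hu (by rw [show c • u = v from hcv]; exact hv)
    have hc1 : c ≠ 1 := fun h => huv (by rw [← show c • u = v from hcv, h, one_smul])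
    obtain ⟨i, rfl⟩ := Subgroup.mem_zpowers_iff.1 hc
    have hK : Subgroup.zpowers (g ^ i) ≤ stabilizer G B := Subgroup.zpowers_le.2 hcB
    refine hK ?_
    obtain ⟨t, ht, hto⟩ := (Nat.dvd_prime_pow hp).1 (hg ▸ orderOf_dvd_of_pow_eq_one
      (by rw [← zpow_natCast, ← zpow_mul, mul_comm, zpow_mul, zpow_natCast, pow_orderOf_eq_one, one_zpow] :
        (g ^ i) ^ orderOf g = 1))
    have ht0 : t ≠ 0 := fun h => hc1 (orderOf_eq_one_iff.1 (by rw [hto, h, pow_zero]))
    have hpd : p ∣ Nat.card (Subgroup.zpowers (g ^ i)) := by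
      rw [Nat.card_zpowers, hto]; exact dvd_pow_self p ht0
    obtain ⟨e, he⟩ := exists_prime_orderOf_dvd_card' (G := Subgroup.zpowers (g ^ i)) p hpd
    have hle : Subgroup.zpowers (g ^ i) ≤ C := Subgroup.zpowers_le.2 (Subgroup.zpow_mem_zpowers g i)
    haveI := Fintype.ofFinite C
    let e' : C := ⟨e, hle e.2⟩
    let z' : C := ⟨z, pow_mem (Subgroup.mem_zpowers g) _⟩
    have heo : orderOf e' = p := by rw [← Subgroup.orderOf_coe]; exact (Subgroup.orderOf_coe e).trans he
    have hzo : orderOf z' = p := by rw [← Subgroup.orderOf_coe]; exact hzord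
    have hset : (Subgroup.zpowers e' : Set C).toFinset = Finset.univ.filter fun c : C => c ^ p = 1 := by
      refine Finset.eq_of_subset_of_card_le (fun c hc => ?_) ?_
      · rw [Set.mem_toFinset] at hc
        refine Finset.mem_filter.2 ⟨Finset.mem_univ _, ?_⟩
        obtain ⟨j, rfl⟩ := Subgroup.mem_zpowers_iff.1 hc
        rw [← zpow_natCast, ← zpow_mul, mul_comm, zpow_mul, zpow_natCast, ← heo, pow_orderOf_eq_one, one_zpow]
      · refine le_trans (IsCyclic.card_pow_eq_one_le hp.pos) (le_of_eq ?_)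
        rw [Set.toFinset_card, ← Nat.card_eq_fintype_card]
        exact heo.symm.trans (Nat.card_zpowers e').symm
    have hze : z' ∈ Subgroup.zpowers e' := by
      have h : z' ∈ (Subgroup.zpowers e' : Set C).toFinset :=
        hset ▸ Finset.mem_filter.2 ⟨Finset.mem_univ _, hzo ▸ pow_orderOf_eq_one z'⟩
      exact Set.mem_toFinset.1 h
    obtain ⟨j, hj⟩ := Subgroup.mem_zpowers_iff.1 hze
    have hj' : (e : G) ^ j = z := congrArg Subtype.val hj
    rw [← hj']
    exact zpow_mem e.2 j
  let K : Subgroup G :=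
    { carrier := {h | ∀ x : G, h • (x • B) = x • B}
      one_mem' := fun x => one_smul _ _
      mul_mem' := fun {a b} ha hb x => by rw [mul_smul, hb, ha]
      inv_mem' := fun {a} ha x => inv_smul_eq_iff.2 (ha x).symm }
  haveI : K.Normal := ⟨fun h hh y x => by
    rw [mul_smul, mul_smul, ← mul_smul y⁻¹ x B, hh (y⁻¹ * x), ← mul_smul, mul_inv_cancel_left]⟩
  have hzK : z ∈ K := by
    intro x
    obtain ⟨⟨c, hc⟩, hcu⟩ := hCt.exists_smul_eq u (x • u)
    have hcu' : c • u = x • u := hcu
    have hxB : x • B = c • B := by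
      have h1 : (c⁻¹ * x) • B = B := hB.smul_eq_of_mem hu (by rw [mul_smul, ← hcu', inv_smul_smul]; exact hu)
      rwa [mul_smul, inv_smul_eq_iff] at h1
    obtain ⟨i, rfl⟩ := Subgroup.mem_zpowers_iff.1 hc
    rw [hxB, ← mul_smul, hz, (Commute.self_zpow g i).pow_left _, mul_smul, ← hz, hzB]
  intro htN
  refine hnu (Set.eq_univ_of_forall fun w => ?_)
  obtain ⟨⟨h, hh⟩, hhw⟩ := htN.exists_smul_eq u w
  have hhK : h ∈ K := Subgroup.normalClosure_le_normal (Set.singleton_subset_iff.2 hzK) hh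
  have h1 := hhK 1
  rw [one_smul] at h1
  rw [← h1]
  exact ⟨u, hu, hhw⟩

end Cfsg.Agent.S3972
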