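import Cfsg.Statements.S3973
import Cfsg.Agent.Lib.Schur.Basic
import Mathlib.GroupTheory.PresentedGroup
import Mathlib.LinearAlgebra.Finsupp.Pi
import Mathlib.LinearAlgebra.Dimension.RankNullity
import Mathlib.LinearAlgebra.Dimension.Localization
-- import your own Cfsg.Agent.* helpers here

set_option autoImplicit false
open Cfsg

namespace Cfsg.Agent.S3973

open Cfsg.Lib.Schur Subgroup

/-- If a finite group is presented by `n` generators and a finite set of `r` relators, then its Schur multiplier can be generated by `r - n` elements. In particular a finite group with a presentation having as many relators as generators has trivial Schur multiplier. -/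
theorem result (n : ℕ) (rels : Finset (FreeGroup (Fin n))) [Finite (PresentedGroup (rels : Set (FreeGroup (Fin n))))] {A : Type*} [CommGroup A] [Finite A] (hA : Cfsg.HasSchurMultiplier (PresentedGroup (rels : Set (FreeGroup (Fin n)))) A) : Group.rank A ≤ rels.card - n := by
  classical
  set R : Set (FreeGroup (Fin n)) := (rels : Set (FreeGroup (Fin n))) with hR
  let π : FreeGroup (Fin n) →* PresentedGroup R := PresentedGroup.mk R
  have hπ : Function.Surjective π := PresentedGroup.mk_surjective R
  have hker : π.ker = normalClosure R := QuotientGroup.ker_mk' (normalClosure R)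
  set K := (covMap π).ker
  let gen : rels → Additive K := fun i =>
    Additive.ofMul (⟨((i : FreeGroup (Fin n)) : Cov π), show π i.1 = 1 from
      (hker ▸ subset_normalClosure i.2 : i.1 ∈ π.ker)⟩ : K)
  let g := Fintype.linearCombination ℤ gen
  have hg : Function.Surjective g := by
    intro a
    obtain ⟨⟨c, hc⟩, rfl⟩ := Additive.ofMul.surjective a
    let S : Set (Cov π) := QuotientGroup.mk' (rel π) '' R
    have hS : closure S ≤ center (Cov π) := (closure_le _).mpr (by
      rintro _ ⟨x, hx, rfl⟩
      exact ker_covMap_le_center π (show π x = 1 from (hker ▸ subset_normalClosure hx : x ∈ π.ker)))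
    have : (closure S).Normal :=
      ⟨fun s hs y => by rwa [mem_center_iff.mp (hS hs) y, mul_inv_cancel_right]⟩
    obtain ⟨x, hx⟩ := QuotientGroup.mk_surjective c
    subst hx
    have hxR : x ∈ normalClosure R := hker ▸ (show x ∈ π.ker from hc)
    have h1 : (x : Cov π) ∈ closure S := normalClosure_le_normal subset_closure
      (map_normalClosure_le R (QuotientGroup.mk' (rel π)) (mem_map_of_mem _ hxR))
    have hSK : closure S ≤ K := (closure_le _).mpr (by
      rintro _ ⟨y, hy, rfl⟩
      exact show π y = 1 from (hker ▸ subset_normalClosure hy : y ∈ π.ker))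
    have h2 : ∀ y (hy : y ∈ closure S), Additive.ofMul (⟨y, hSK hy⟩ : K) ∈ LinearMap.range g := by
      intro y hy
      induction hy using closure_induction with
      | mem y hy =>
        obtain ⟨r, hr, rfl⟩ := hy
        exact ⟨Pi.single (⟨r, Finset.mem_coe.mp hr⟩ : rels) 1, by
          rw [Fintype.linearCombination_apply_single, one_smul]; rfl⟩
      | one => exact zero_mem _
      | mul a b _ _ ha hb => exact add_mem ha hb
      | inv a _ ha => exact neg_mem ha
    exact h2 _ h1
  let ab : Cov π →* Abelianization (FreeGroup (Fin n)) := QuotientGroup.lift (rel π) Abelianization.of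
    ((Subgroup.commutator_mono le_top le_rfl).trans_eq (QuotientGroup.ker_mk' _).symm)
  let e : Additive (Abelianization (FreeGroup (Fin n))) ≃+ (Fin n →₀ ℤ) := FreeAbelianGroup.equivFinsupp (Fin n)
  let f : Additive K →+ (Fin n →₀ ℤ) := e.toAddMonoidHom.comp (ab.comp K.subtype).toAdditive
  let F := f.toIntLinearMap.comp g
  have hrange : n ≤ Module.finrank ℤ (LinearMap.range F) := by
    set m := Nat.card (PresentedGroup R)
    have hm : (m : ℤ) ≠ 0 := by exact_mod_cast Nat.card_pos.ne'
    have hmem : ∀ v : Fin n →₀ ℤ, (m : ℤ) • v ∈ LinearMap.range F := fun v => by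
      obtain ⟨x, hx⟩ := QuotientGroup.mk_surjective (Additive.toMul (e.symm v))
      have hxm : covMap π ((x ^ m : FreeGroup (Fin n)) : Cov π) = 1 := by
        rw [covMap_mk, map_pow]; exact pow_card_eq_one'
      obtain ⟨w, hw⟩ := hg (Additive.ofMul ⟨_, hxm⟩)
      refine ⟨w, ?_⟩
      show f (g w) = _
      rw [hw, natCast_zsmul]
      show e (Additive.ofMul (Abelianization.of (x ^ m))) = m • v
      rw [map_pow, ofMul_pow, map_nsmul, show Additive.ofMul (Abelianization.of x) = e.symm v from congrArg Additive.ofMul hx,
        e.apply_symm_apply]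
    let s : (Fin n →₀ ℤ) →ₗ[ℤ] LinearMap.range F :=
      ((m : ℤ) • LinearMap.id : (Fin n →₀ ℤ) →ₗ[ℤ] (Fin n →₀ ℤ)).codRestrict _ hmem
    have hs : Function.Injective s := fun a b hab => smul_right_injective _ hm (congrArg Subtype.val hab)
    calc n = Module.finrank ℤ (Fin n →₀ ℤ) := by rw [Module.finrank_finsupp_self, Fintype.card_fin]
      _ ≤ _ := LinearMap.finrank_le_finrank_of_injective hs
  have hrk : Module.finrank ℤ (LinearMap.ker F) ≤ rels.card - n := by
    have h1 := Submodule.finrank_quotient_add_finrank (LinearMap.ker F)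
    rw [F.quotKerEquivRange.finrank_eq, Module.finrank_fintype_fun_eq_card, Fintype.card_coe] at h1
    omega
  have hFmult : ∀ w, F w = 0 ↔ ((g w).toMul : Cov π) ∈ mult π := fun w => by
    show e (Additive.ofMul (ab ((g w).toMul : Cov π))) = 0 ↔ _
    rw [EmbeddingLike.map_eq_zero_iff, ofMul_eq_zero]
    refine ⟨fun h => ⟨(g w).toMul.2, ?_⟩, fun h => ?_⟩
    · obtain ⟨x, hx⟩ := QuotientGroup.mk_surjective ((g w).toMul : Cov π)
      rw [← hx] at h ⊢
      have h3 : x ∈ commutator (FreeGroup (Fin n)) := (QuotientGroup.eq_one_iff x).mp h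
      have h4 : (commutator (FreeGroup (Fin n))).map (QuotientGroup.mk' (rel π)) ≤ commutator (Cov π) := by
        rw [_root_.commutator_def, _root_.commutator_def, Subgroup.map_commutator]
        exact Subgroup.commutator_mono le_top le_top
      exact h4 (mem_map_of_mem _ h3)
    · exact Abelianization.commutator_subset_ker ab h.2
  obtain ⟨a⟩ := nonempty_equiv_of_has hA
  obtain ⟨eM⟩ := nonempty_mult_equiv π (canon (PresentedGroup R)) hπ canon_surjective
  let c : LinearMap.ker F → A := fun w =>
    a.symm (eM ⟨((g w.1).toMul : Cov π), (hFmult w.1).mp w.2⟩)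
  have hc_add : ∀ u v, c (u + v) = c u * c v := fun u v => by
    show a.symm (eM _) = a.symm (eM _) * a.symm (eM _)
    rw [← map_mul, ← map_mul]
    refine congrArg (fun t => a.symm (eM t)) (Subtype.ext ?_)
    show ((g (u.1 + v.1)).toMul : Cov π) = _
    rw [map_add, toMul_add]; rfl
  let C : Multiplicative (LinearMap.ker F) →* A := MonoidHom.mk' (fun w => c w.toAdd) fun u v => hc_add _ _
  have hC : Function.Surjective C := fun y => by
    let m := eM.symm (a y)
    obtain ⟨w, hw⟩ := hg (Additive.ofMul ⟨m.1, m.2.1⟩)
    have hwm : ((g w).toMul : Cov π) = m.1 := by rw [hw]; rfl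
    refine ⟨Multiplicative.ofAdd ⟨w, (hFmult w).mpr (hwm ▸ m.2)⟩, ?_⟩
    show a.symm (eM ⟨((g w).toMul : Cov π), _⟩) = y
    rw [show (⟨((g w).toMul : Cov π), (hFmult w).mp ((hFmult w).mpr (hwm ▸ m.2))⟩ : mult π) = m from Subtype.ext hwm,
      eM.apply_symm_apply, a.symm_apply_apply]
  let b := Module.finBasis ℤ (LinearMap.ker F)
  let T : Finset A := Finset.univ.image fun i => C (Multiplicative.ofAdd (b i))
  refine le_trans (Group.rank_le (S := T) ?_) (le_trans (Finset.card_image_le.trans_eq (Finset.card_fin _)) hrk)
  refine eq_top_iff.mpr fun y _ => ?_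
  obtain ⟨w, rfl⟩ := hC y
  have hspan : w.toAdd ∈ Submodule.span ℤ (Set.range b) := b.span_eq ▸ Submodule.mem_top
  have hall : ∀ u ∈ Submodule.span ℤ (Set.range b), C (Multiplicative.ofAdd u) ∈ closure (T : Set A) := by
    intro u hu
    induction hu using Submodule.span_induction with
    | mem x hx =>
      obtain ⟨i, rfl⟩ := hx
      exact subset_closure (Finset.mem_coe.mpr (Finset.mem_image_of_mem _ (Finset.mem_univ i)))
    | zero => rw [ofAdd_zero, map_one]; exact one_mem _
    | add u v _ _ hu hv => rw [ofAdd_add, map_mul]; exact mul_mem hu hv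
    | smul k u _ hu => rw [ofAdd_zsmul, map_zpow]; exact zpow_mem hu k
  exact hall _ hspan

end Cfsg.Agent.S3973
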