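import Cfsg.Statements.S3974
import Cfsg.Agent.Lib.Schur.Covers
import Mathlib.Data.Nat.Prime.Int
-- import your own Cfsg.Agent.* helpers here

set_option autoImplicit false
universe u v
open Cfsg

namespace Cfsg.Agent.S3974

open Cfsg.Lib.Schur Subgroup

/-- Let `Q` be a finite group with Schur multiplier `A`. Any two Schur covering groups of `Q` (finite stem extensions `σ₁ : Γ₁ →* Q`, `σ₂ : Γ₂ →* Q` with kernels isomorphic to `A`, `Γ₁, Γ₂` in the universe of `Q`) are isomorphic over `Q` — there is a group isomorphism `e : Γ₁ ≃* Γ₂` with `σ₂ ∘ e = σ₁` — if and only if the order of the commutator quotient of `Q` is coprime to the order of `A`. In particular a finite perfect group has a unique Schur covering group up to isomorphism over it. -/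
theorem result {Q : Type u} [Group Q] [Finite Q] {A : Type v} [CommGroup A] (hA : Cfsg.HasSchurMultiplier Q A) : (∀ (Γ₁ Γ₂ : Type u) [Group Γ₁] [Finite Γ₁] [Group Γ₂] [Finite Γ₂] (σ₁ : Γ₁ →* Q) (σ₂ : Γ₂ →* Q), Cfsg.IsStemExtension σ₁ → Cfsg.IsStemExtension σ₂ → Nonempty (σ₁.ker ≃* A) → Nonempty (σ₂.ker ≃* A) → ∃ e : Γ₁ ≃* Γ₂, σ₂.comp e.toMonoidHom = σ₁) ↔ Nat.Coprime (Nat.card (Abelianization Q)) (Nat.card A) := by
  classical
  obtain ⟨eA⟩ := nonempty_equiv_of_has hA
  rw [show Nat.card A = Nat.card (M Q) from Nat.card_congr eA.toEquiv]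
  let _ : CommGroup (M Q) :=
    { (inferInstance : Group (M Q)) with
      mul_comm := fun a b => Subtype.ext (mem_center_iff.mp (mult_le_center (canon Q) b.2) a) }
  have : Finite (Abelianization Q) := Finite.of_surjective _ (QuotientGroup.mk_surjective (s := commutator Q))
  let K := (covMap (canon Q)).ker
  let ι : K →* Abelianization (Cov (canon Q)) := Abelianization.of.comp K.subtype
  let π : Cov (canon Q) →* Abelianization Q := Abelianization.of.comp (covMap (canon Q))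
  have hπ : Function.Surjective π := fun y => by
    obtain ⟨q, rfl⟩ := QuotientGroup.mk_surjective y
    obtain ⟨c, rfl⟩ := covMap_surjective (canon Q) canon_surjective q
    exact ⟨c, rfl⟩
  have hiK : ∀ c : Cov (canon Q), π c = 1 ↔ ∃ r : K, ι r = Abelianization.of c := fun c => by
    constructor
    · intro hc
      have h1 : covMap (canon Q) c ∈ (commutator (Cov (canon Q))).map (covMap (canon Q)) := by
        rw [_root_.commutator_def, Subgroup.map_commutator,
          map_top_of_surjective _ (covMap_surjective _ canon_surjective), ← _root_.commutator_def]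
        exact (QuotientGroup.eq_one_iff _).mp hc
      obtain ⟨k, hk, hkc⟩ := h1
      refine ⟨⟨c * k⁻¹, by show covMap (canon Q) _ = 1; rw [map_mul, map_inv, hkc, mul_inv_cancel]⟩, ?_⟩
      show Abelianization.of (c * k⁻¹) = _
      rw [map_mul, map_inv, show Abelianization.of k = 1 from (QuotientGroup.eq_one_iff k).mpr hk, inv_one, mul_one]
    · rintro ⟨r, hr⟩
      have h1 : (r : Cov (canon Q))⁻¹ * c ∈ commutator (Cov (canon Q)) := QuotientGroup.eq.mp hr
      have h2 : π ((r : Cov (canon Q))⁻¹ * c) = 1 := Abelianization.commutator_subset_ker π h1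
      have h3 : π (r : Cov (canon Q)) = 1 := (congrArg Abelianization.of r.2).trans (map_one Abelianization.of)
      rwa [map_mul, map_inv, h3, inv_one, one_mul] at h2
  constructor
  · intro huniq
    by_contra hnc
    obtain ⟨q, hq, hqQ, hqM⟩ := Nat.Prime.not_coprime_iff_dvd.mp hnc
    have := Fact.mk hq
    obtain ⟨y, hy⟩ := exists_prime_orderOf_dvd_card' q hqQ
    obtain ⟨c, rfl⟩ := hπ y
    obtain ⟨m, hm⟩ : ∃ m : M Q, m ∉ (powMonoidHom q : M Q →* M Q).range := by
      by_contra hall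
      push Not at hall
      obtain ⟨z, hz⟩ := exists_prime_orderOf_dvd_card' q hqM
      have hinj := Finite.injective_iff_surjective.mpr (fun x => hall x : Function.Surjective (powMonoidHom q : M Q →* M Q))
      have : z = 1 := hinj (show z ^ q = (1 : M Q) ^ q by rw [one_pow, ← hz, pow_orderOf_eq_one])
      exact hq.one_lt.ne' (by rw [← hz, this, orderOf_one])
    let e : Additive (Abelianization (FreeGroup Q)) ≃+ (Q →₀ ℤ) := FreeAbelianGroup.equivFinsupp Q
    let ab : Cov (canon Q) →* Abelianization (FreeGroup Q) := QuotientGroup.lift (rel (canon Q)) Abelianization.of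
      ((Subgroup.commutator_mono le_top le_rfl).trans_eq (QuotientGroup.ker_mk' _).symm)
    let fC : Additive (Cov (canon Q)) →+ (Q →₀ ℤ) := e.toAddMonoidHom.comp ab.toAdditive
    let L : Submodule ℤ (Q →₀ ℤ) := AddSubgroup.toIntSubmodule ((fC.comp K.subtype.toAdditive).range)
    let b := Module.Free.chooseBasis ℤ L
    obtain ⟨r, hr⟩ := (hiK (c ^ q)).mp (by rw [map_pow, ← hy, pow_orderOf_eq_one])
    have hab : ∀ {x y : Cov (canon Q)}, Abelianization.of x = Abelianization.of y → ab x = ab y := fun {x y} h => by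
      rw [← Abelianization.lift_apply_of ab x, ← Abelianization.lift_apply_of ab y, h]
    let fL : Additive K →+ L := (fC.comp K.subtype.toAdditive).codRestrict L fun x => ⟨x, rfl⟩
    have hv : ((fL (Additive.ofMul r) : L) : Q →₀ ℤ) = (q : ℤ) • fC (Additive.ofMul c) := by
      show e (Additive.ofMul (ab r.1)) = (q : ℤ) • e (Additive.ofMul (ab c))
      rw [hab (show Abelianization.of r.1 = Abelianization.of (c ^ q) from hr), map_pow, ofMul_pow, map_nsmul,
        natCast_zsmul]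
    obtain ⟨i, hi⟩ : ∃ i, ¬ (q : ℤ) ∣ b.repr (fL (Additive.ofMul r)) i := by
      by_contra hall
      push Not at hall
      set w : L := b.repr.symm ((b.repr (fL (Additive.ofMul r))).mapRange (fun t => t / (q : ℤ)) (Int.zero_ediv _)) with hw
      have hqw : (q : ℤ) • w = fL (Additive.ofMul r) := by
        refine b.repr.injective (Finsupp.ext fun i => ?_)
        rw [map_smul, hw, LinearEquiv.apply_symm_apply, Finsupp.smul_apply, Finsupp.mapRange_apply, smul_eq_mul,
          Int.mul_ediv_cancel' (hall i)]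
      have h1 : (w : Q →₀ ℤ) = fC (Additive.ofMul c) := by
        refine smul_right_injective _ (Nat.cast_ne_zero.mpr hq.ne_zero : (q : ℤ) ≠ 0) ?_
        show (q : ℤ) • (w : Q →₀ ℤ) = (q : ℤ) • fC (Additive.ofMul c)
        rw [← hv, ← hqw]; rfl
      obtain ⟨s, hs⟩ := w.2
      rw [h1] at hs
      have h2 : ab (Additive.toMul s).1 = ab c := congrArg Additive.toMul (e.injective hs)
      obtain ⟨x, hx⟩ := QuotientGroup.mk_surjective ((Additive.toMul s).1⁻¹ * c)
      have h3 : Abelianization.of x = 1 := by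
        show ab (x : Cov (canon Q)) = 1
        rw [hx, map_mul, map_inv, h2, inv_mul_cancel]
      have h4 : Abelianization.of ((Additive.toMul s).1⁻¹ * c) = 1 := by
        rw [← hx]
        show (Abelianization.of.comp (QuotientGroup.mk' (rel (canon Q)))) x = 1
        rw [← Abelianization.lift_apply_of (Abelianization.of.comp (QuotientGroup.mk' (rel (canon Q)))) x, h3, map_one]
      have h5 : π c = 1 := (hiK c).mpr ⟨Additive.toMul s, by
        rw [map_mul, map_inv, inv_mul_eq_one] at h4; exact h4⟩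
      exact hq.one_lt.ne' (by rw [← hy, h5, orderOf_one])
    let δ : K →* M Q := MonoidHom.mk' (fun x => m ^ b.repr (fL (Additive.ofMul x)) i) fun x x' => by
      rw [ofMul_mul, map_add, map_add, Finsupp.add_apply, zpow_add]
    have hδM : ∀ n : M Q, δ ⟨n.1, n.2.1⟩ = 1 := fun n => by
      have h0 : fL (Additive.ofMul (⟨n.1, n.2.1⟩ : K)) = 0 := Subtype.ext (by
        show e (Additive.ofMul (ab n.1)) = 0
        rw [show ab n.1 = 1 from Abelianization.commutator_subset_ker ab n.2.2, ofMul_one, map_zero])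
      show m ^ b.repr _ i = 1
      rw [h0, map_zero, Finsupp.zero_apply, zpow_zero]
    obtain ⟨Γ₀, _, _, σ₀, hσ₀, ⟨e₀⟩⟩ := exists_cover (canon Q) canon_surjective
    obtain ⟨β₀, p₀, hβ₀, -, hp₀, hp₀M, hinj₀⟩ := exists_retraction_of_cover hσ₀ ⟨e₀⟩
    let p' : K →* M Q := p₀ * δ
    obtain ⟨Γ', _, _, σ', β', hσ', ⟨e'⟩, hβ', hp', hinj'⟩ := exists_cover_of_retraction p' fun n => by
      show p₀ _ * δ _ = n
      rw [hp₀M, hδM, mul_one]
    obtain ⟨E, hE⟩ := huniq Γ₀ Γ' σ₀ σ' hσ₀ hσ' ⟨e₀.trans eA.symm⟩ ⟨e'.trans eA.symm⟩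
    let β'' : Cov (canon Q) →* Γ' := E.toMonoidHom.comp β₀
    have hd : ∀ x, σ' ((β'' x)⁻¹ * β' x) = 1 := fun x => by
      rw [map_mul, map_inv, show σ' (β'' x) = σ₀ (β₀ x) from DFunLike.congr_fun hE (β₀ x),
        show σ₀ (β₀ x) = covMap (canon Q) x from DFunLike.congr_fun hβ₀ x,
        show σ' (β' x) = covMap (canon Q) x from DFunLike.congr_fun hβ' x, inv_mul_cancel]
    have hcen : ∀ x, (β'' x)⁻¹ * β' x ∈ center Γ' := fun x => hσ'.2.1 (hd x)
    let ψ : Cov (canon Q) →* σ'.ker := MonoidHom.mk' (fun x => ⟨(β'' x)⁻¹ * β' x, hd x⟩) fun x y => Subtype.ext (by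
      show (β'' (x * y))⁻¹ * β' (x * y) = (β'' x)⁻¹ * β' x * ((β'' y)⁻¹ * β' y)
      rw [map_mul, map_mul, mul_inv_rev]
      calc (β'' y)⁻¹ * (β'' x)⁻¹ * (β' x * β' y) = (β'' y)⁻¹ * ((β'' x)⁻¹ * β' x) * β' y := by group
        _ = (β'' x)⁻¹ * β' x * (β'' y)⁻¹ * β' y := by rw [mem_center_iff.mp (hcen x) (β'' y)⁻¹]
        _ = (β'' x)⁻¹ * β' x * ((β'' y)⁻¹ * β' y) := mul_assoc _ _ _)
    let f : M Q →* σ'.ker := (β'.comp (mult (canon Q)).subtype).codRestrict σ'.ker fun n =>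
      (DFunLike.congr_fun hβ' n.1).trans n.2.1
    have hfb : Function.Bijective f := (Nat.bijective_iff_injective_and_card _).mpr
      ⟨(injective_iff_map_eq_one f).mpr fun n hn => hinj' n (congrArg Subtype.val hn), Nat.card_congr e'.toEquiv.symm⟩
    let ψ' : Cov (canon Q) →* M Q := (MulEquiv.ofBijective f hfb).symm.toMonoidHom.comp ψ
    have hψr : ψ' r.1 = δ r := by
      refine (MulEquiv.ofBijective f hfb).symm_apply_eq.mpr (Subtype.ext ?_)
      show (β'' r.1)⁻¹ * β' r.1 = β' (δ r).1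
      rw [show β'' r.1 = β'' (p₀ r).1 from congrArg E (hp₀ r), eqOn_commutator hcen (p₀ r).2.2, hp' r]
      show (β' (p₀ r).1)⁻¹ * β' ((p₀ r).1 * (δ r).1) = _
      rw [map_mul, inv_mul_cancel_left]
    have hψc : ψ' r.1 = ψ' c ^ q := by
      rw [← map_pow, ← Abelianization.lift_apply_of ψ' r.1, ← Abelianization.lift_apply_of ψ' (c ^ q)]
      exact congrArg _ hr
    obtain ⟨u, v, huv⟩ := (((Nat.prime_iff_prime_int).mp hq).coprime_iff_not_dvd.mpr hi)
    refine hm ⟨m ^ u * (ψ' c) ^ v, ?_⟩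
    rw [powMonoidHom_apply, mul_pow, ← zpow_natCast, ← zpow_natCast (ψ' c ^ v), ← zpow_mul, ← zpow_mul,
      mul_comm v (q : ℤ), zpow_mul (ψ' c), zpow_natCast, ← hψc, hψr]
    show m ^ (u * (q : ℤ)) * (m ^ b.repr (fL (Additive.ofMul r)) i) ^ v = m
    rw [← zpow_mul, mul_comm (b.repr _ i) v, ← zpow_add, huv, zpow_one]
  · intro hcop Γ₁ Γ₂ _ _ _ _ σ₁ σ₂ hσ₁ hσ₂ hk₁ hk₂
    obtain ⟨k₁⟩ := hk₁
    obtain ⟨k₂⟩ := hk₂
    obtain ⟨β₁, p₁, hβ₁, hs₁, hp₁, hp₁M, hi₁⟩ := exists_retraction_of_cover hσ₁ ⟨k₁.trans eA⟩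
    obtain ⟨β₂, p₂, hβ₂, hs₂, hp₂, hp₂M, -⟩ := exists_retraction_of_cover hσ₂ ⟨k₂.trans eA⟩
    let δ : K →* M Q := p₂ * p₁⁻¹
    let ι' : K →* ι.range := ι.rangeRestrict
    have hιker : ι'.ker ≤ δ.ker := fun x hx => by
      rw [MonoidHom.ker_rangeRestrict] at hx
      have hxc : x.1 ∈ commutator (Cov (canon Q)) := (QuotientGroup.eq_one_iff _).mp hx
      show p₂ x * (p₁ x)⁻¹ = 1
      rw [show x = (⟨(⟨x.1, x.2, hxc⟩ : M Q).1, x.2⟩ : K) from rfl, hp₂M ⟨x.1, x.2, hxc⟩, hp₁M ⟨x.1, x.2, hxc⟩,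
        mul_inv_cancel]
    let δ' : ι.range →* M Q := ι'.liftOfSurjective ι.rangeRestrict_surjective ⟨δ, hιker⟩
    have hδ' : ∀ x, δ' (ι' x) = δ x := fun x => MonoidHom.liftOfRightInverse_comp_apply _ _ _ _ x
    set a := Nat.card (Abelianization Q) with ha
    have hmem : ∀ c, Abelianization.of c ^ a ∈ ι.range := fun c => by
      obtain ⟨r, hr⟩ := (hiK (c ^ a)).mp (by rw [map_pow, pow_card_eq_one'])
      exact ⟨r, by rw [hr, map_pow]⟩
    obtain ⟨u, v, huv⟩ := Nat.isCoprime_iff_coprime.mpr hcop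
    let ψ : Cov (canon Q) →* M Q :=
      ((zpowGroupHom u : M Q →* M Q).comp δ').comp
        (((powMonoidHom a).comp Abelianization.of).codRestrict ι.range hmem)
    have hψ : ∀ x : K, ψ x.1 = δ x := fun x => by
      show (δ' _) ^ u = δ x
      have h1 : (⟨Abelianization.of x.1 ^ a, hmem x.1⟩ : ι.range) = ι' x ^ a := Subtype.ext rfl
      show δ' ⟨Abelianization.of x.1 ^ a, hmem x.1⟩ ^ u = δ x
      rw [h1, map_pow, hδ', ← zpow_natCast, ← zpow_mul]
      have h2 : δ x ^ (v * (Nat.card (M Q) : ℤ)) = 1 := by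
        rw [mul_comm, zpow_mul, zpow_natCast, pow_card_eq_one', one_zpow]
      calc δ x ^ ((a : ℤ) * u) = δ x ^ (u * (a : ℤ)) * δ x ^ (v * (Nat.card (M Q) : ℤ)) := by
            rw [h2, mul_one, mul_comm]
        _ = δ x := by rw [← zpow_add, huv, zpow_one]
    have hzc : ∀ c, β₂ (ψ c).1 ∈ center Γ₂ := fun c => hσ₂.2.1 ((DFunLike.congr_fun hβ₂ (ψ c).1).trans (ψ c).2.1)
    let β : Cov (canon Q) →* Γ₂ := MonoidHom.mk' (fun c => β₂ c * β₂ ((ψ c)⁻¹).1) fun x y => by
      show β₂ (x * y) * β₂ ((ψ (x * y))⁻¹).1 = β₂ x * β₂ ((ψ x)⁻¹).1 * (β₂ y * β₂ ((ψ y)⁻¹).1)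
      have hz : β₂ ((ψ x)⁻¹).1 ∈ center Γ₂ := by
        rw [Subgroup.coe_inv, map_inv]; exact inv_mem (hzc x)
      rw [map_mul ψ, mul_inv, Subgroup.coe_mul, map_mul, map_mul, mul_assoc, mul_assoc,
        ← mul_assoc (β₂ ((ψ x)⁻¹).1) (β₂ y), ← mem_center_iff.mp hz (β₂ y), mul_assoc (β₂ y)]
    have hβ : σ₂.comp β = covMap (canon Q) := MonoidHom.ext fun c => by
      show σ₂ (β₂ c * β₂ ((ψ c)⁻¹).1) = _
      rw [map_mul, show σ₂ (β₂ ((ψ c)⁻¹).1) = 1 from (DFunLike.congr_fun hβ₂ _).trans ((ψ c)⁻¹).2.1, mul_one]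
      exact DFunLike.congr_fun hβ₂ c
    have hker : β₁.ker ≤ β.ker := fun c hc => by
      have hcK : c ∈ K := by
        show covMap (canon Q) c = 1
        rw [← hβ₁, MonoidHom.comp_apply, show β₁ c = 1 from hc, map_one]
      have h1 : p₁ ⟨c, hcK⟩ = 1 := hi₁ _ (by rw [← hp₁ ⟨c, hcK⟩]; exact hc)
      show β₂ c * β₂ ((ψ c)⁻¹).1 = 1
      rw [show ψ c = δ ⟨c, hcK⟩ from hψ ⟨c, hcK⟩,
        show δ ⟨c, hcK⟩ = p₂ ⟨c, hcK⟩ from by show p₂ _ * (p₁ _)⁻¹ = _; rw [h1, inv_one, mul_one],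
        show β₂ c = β₂ (p₂ ⟨c, hcK⟩).1 from hp₂ ⟨c, hcK⟩, Subgroup.coe_inv, ← map_mul, mul_inv_cancel, map_one]
    let η := β₁.liftOfSurjective hs₁ ⟨β, hker⟩
    have hη : ∀ c, η (β₁ c) = β c := fun c => MonoidHom.liftOfRightInverse_comp_apply _ _ _ _ c
    have hηs : Function.Surjective η := fun x => by
      obtain ⟨c, rfl⟩ := lift_surjective (canon Q) hσ₂ canon_surjective hβ x
      exact ⟨β₁ c, hη c⟩
    have hcard : Nat.card Γ₁ = Nat.card Γ₂ := by
      rw [← σ₁.ker.card_mul_index, ← σ₂.ker.card_mul_index, Subgroup.index_ker, Subgroup.index_ker,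
        MonoidHom.range_eq_top.mpr hσ₁.1, MonoidHom.range_eq_top.mpr hσ₂.1,
        Nat.card_congr (k₁.trans k₂.symm).toEquiv]
    refine ⟨MulEquiv.ofBijective η ((Nat.bijective_iff_surjective_and_card _).mpr ⟨hηs, hcard⟩), ?_⟩
    refine MonoidHom.ext fun x => ?_
    obtain ⟨c, rfl⟩ := hs₁ x
    show σ₂ (η (β₁ c)) = σ₁ (β₁ c)
    rw [hη]
    exact (DFunLike.congr_fun hβ c).trans (DFunLike.congr_fun hβ₁ c).symm

end Cfsg.Agent.S3974
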