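import Cfsg.Statements.S3976
import Cfsg.Agent.S3975

set_option autoImplicit false
open Cfsg

namespace Cfsg.Agent.S3976

open scoped Pointwise


/-- Let `p` be a prime and `G` a group of order `p ^ m`. For every `s ≤ m` the number of normal subgroups of `G` of order `p ^ s` is congruent to `1` modulo `p`. -/
theorem result {G : Type*} [Group G] [Finite G] (p m s : ℕ) (hp : p.Prime) (hG : Nat.card G = p ^ m) (hs : s ≤ m) : Nat.card {H : Subgroup G // H.Normal ∧ Nat.card H = p ^ s} ≡ 1 [MOD p] := by
  have : Fact p.Prime := ⟨hp⟩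
  have h1 := S3975.result (G := G) p s hp (hG ▸ pow_dvd_pow p hs)
  let X := {H : Subgroup G // Nat.card H = p ^ s}
  let act : MulAction G X :=
    { smul := fun g H => ⟨MulAut.conj g • H.1, by
        exact (Nat.card_congr (Subgroup.equivSMul (MulAut.conj g) H.1).toEquiv).symm.trans H.2⟩
      one_smul := fun H => Subtype.ext (by show MulAut.conj (1 : G) • H.1 = H.1; rw [map_one, one_smul])
      mul_smul := fun g g' H => Subtype.ext (by
        show MulAut.conj (g * g') • H.1 = MulAut.conj g • MulAut.conj g' • H.1
        rw [map_mul, mul_smul]) }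
  have h2 := (IsPGroup.of_card (G := G) hG).card_modEq_card_fixedPoints X
  have h3 : Nat.card (MulAction.fixedPoints G X) = Nat.card {H : Subgroup G // H.Normal ∧ Nat.card H = p ^ s} := by
    refine Nat.card_congr
      { toFun := fun H => ⟨H.1.1, ⟨fun x hx g => ?_⟩, H.1.2⟩
        invFun := fun H => ⟨⟨H.1, H.2.2⟩, fun g => Subtype.ext ?_⟩
        left_inv := fun H => rfl
        right_inv := fun H => rfl }
    · have h := congrArg Subtype.val (H.2 g)
      exact h.le ⟨x, hx, rfl⟩
    · have := H.2.1
      show MulAut.conj g • H.1 = H.1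
      exact Subgroup.Normal.conjAct this g
  rw [← h3]
  exact h2.symm.trans h1

end Cfsg.Agent.S3976
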