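import Cfsg.Statements.S3980
import Cfsg.Agent.Lib.Schur.Product
-- import your own Cfsg.Agent.* helpers here

set_option autoImplicit false
universe u v w
open Cfsg

namespace Cfsg.Agent.S3980

open Cfsg.Lib.Schur
open scoped TensorProduct

/-- Let `Q₁` and `Q₂` be finite groups whose commutator quotients have coprime orders, with Schur multipliers `A` and `B`. Then the Schur multiplier of `Q₁ × Q₂` is isomorphic to `A × B`. -/
theorem result {Q₁ : Type u} {Q₂ : Type v} [Group Q₁] [Group Q₂] [Finite Q₁] [Finite Q₂] {A B : Type w} [CommGroup A] [CommGroup B] (hA : Cfsg.HasSchurMultiplier Q₁ A) (hB : Cfsg.HasSchurMultiplier Q₂ B) (hcop : Nat.Coprime (Nat.card (Abelianization Q₁)) (Nat.card (Abelianization Q₂))) : Cfsg.HasSchurMultiplier (Q₁ × Q₂) (A × B) := by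
  obtain ⟨a⟩ := nonempty_equiv_of_has hA
  obtain ⟨b⟩ := nonempty_equiv_of_has hB
  obtain ⟨e⟩ := mult_prod_equiv (Q₁ := Q₁) (Q₂ := Q₂)
  have hT : Subsingleton (AbTensor Q₁ Q₂) := by
    refine subsingleton_of_forall_eq 1 fun t => ?_
    have h : Subgroup.closure {t : AbTensor Q₁ Q₂ | ∃ q r, abTmul q r = t} ≤ ⊥ := by
      rw [Subgroup.closure_le]
      rintro _ ⟨q, r, rfl⟩
      let fl : Q₁ →* AbTensor Q₁ Q₂ := MonoidHom.mk' (fun q => abTmul q r) fun x y => abTmul_mul_left x y r
      let fr : Q₂ →* AbTensor Q₁ Q₂ := MonoidHom.mk' (fun r => abTmul q r) fun x y => abTmul_mul_right q x y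
      have h1 : (abTmul q r) ^ Nat.card (Abelianization Q₁) = 1 := by
        show (fl q) ^ _ = 1
        rw [← Abelianization.lift_apply_of fl q, ← map_pow, pow_card_eq_one', map_one]
      have h2 : (abTmul q r) ^ Nat.card (Abelianization Q₂) = 1 := by
        show (fr r) ^ _ = 1
        rw [← Abelianization.lift_apply_of fr r, ← map_pow, pow_card_eq_one', map_one]
      exact Subgroup.mem_bot.mpr (orderOf_eq_one_iff.mp (Nat.eq_one_of_dvd_coprimes hcop
        (orderOf_dvd_of_pow_eq_one h1) (orderOf_dvd_of_pow_eq_one h2)))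
    exact Subgroup.mem_bot.mp (h (by rw [closure_abTmul]; exact Subgroup.mem_top t))
  let d : M Q₂ ≃* M Q₂ × AbTensor Q₁ Q₂ :=
    { toFun := fun m => (m, 1)
      invFun := Prod.fst
      left_inv := fun m => rfl
      right_inv := fun p => Prod.ext rfl (Subsingleton.elim _ _)
      map_mul' := fun x y => Prod.ext rfl (mul_one 1).symm }
  exact has_iff.mpr ⟨(a.prodCongr (b.trans d)).trans e⟩

end Cfsg.Agent.S3980
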