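import Cfsg.Statements.S3981
import Mathlib.GroupTheory.Sylow
import Cfsg.Agent.Lib.Solv.Nilpotent
-- import your own Cfsg.Agent.* helpers here

set_option autoImplicit false
open Cfsg

namespace Cfsg.Agent.S3981

theorem no_step {G : Type*} [Group G] [Finite G] {p : ℕ} [Fact p.Prime] {Q : Subgroup G}
    (hQ : IsPGroup p Q) {y : G} (hy : orderOf y = 2) (hyQ : y ∈ Subgroup.normalizer (Q : Set G))
    (hmax : ∀ R : Subgroup G, IsPGroup p ↥R → Q ≤ R → y ∈ Subgroup.normalizer (R : Set G) → R = Q)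
    {x : G} (hxN : x ∈ Subgroup.normalizer (Q : Set G)) (hxQ : x ∉ Q) (hxp : x ^ p ∈ Q) :
    y * x * y⁻¹ ∉ Q ⊔ Subgroup.zpowers x := by
  intro hmem
  set R := Q ⊔ Subgroup.zpowers x
  have hR : IsPGroup p R := by
    refine hQ.to_sup_of_normal_left' ?_ (Subgroup.zpowers_le.mpr hxN)
    obtain ⟨k, hk⟩ := hQ ⟨_, hxp⟩
    have h1 : (x ^ p) ^ p ^ k = 1 := congrArg Subtype.val hk
    rw [← pow_mul, ← pow_succ'] at h1
    obtain ⟨j, -, hj⟩ := (Nat.dvd_prime_pow Fact.out).mp (orderOf_dvd_of_pow_eq_one h1)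
    exact IsPGroup.of_card (by rw [Nat.card_zpowers, hj])
  have hyR : y ∈ Subgroup.normalizer (R : Set G) := by
    rw [Subgroup.mem_normalizer_iff_map_conj_eq]
    refine Subgroup.eq_of_le_of_card_ge ?_ (le_of_eq
      (Subgroup.card_map_of_injective (MulAut.conj y).injective).symm)
    rw [Subgroup.map_le_iff_le_comap]
    refine sup_le (fun q hq => ?_) (Subgroup.zpowers_le.mpr hmem)
    exact Subgroup.mem_sup_left ((Subgroup.mem_normalizer_iff.mp hyQ q).mp hq)
  exact hxQ ((hmax R hR le_sup_left hyR) ▸ Subgroup.mem_sup_right (Subgroup.mem_zpowers x))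


/-- Let p be an odd prime, Q a p-subgroup of the finite group G and y an involution normalizing Q. Then Q is maximal among the p-subgroups of G normalized by y if and only if the image of y in N_G(Q) ⧸ Q neither inverts nor centralizes any element of order p there; the latter is phrased inside N_G(Q): for every x in N_G(Q) outside Q with x ^ p ∈ Q, neither y x y⁻¹ x nor y x y⁻¹ x⁻¹ lies in Q. -/
theorem result {G : Type*} [Group G] [Finite G] (p : ℕ) [Fact p.Prime] (hp2 : p ≠ 2) (Q : Subgroup G) (hQ : IsPGroup p ↥Q) (y : G) (hy : orderOf y = 2) (hyQ : y ∈ Subgroup.normalizer (Q : Set G)) : (∀ R : Subgroup G, IsPGroup p ↥R → Q ≤ R → y ∈ Subgroup.normalizer (R : Set G) → R = Q) ↔ ∀ x : G, x ∈ Subgroup.normalizer (Q : Set G) → x ∉ Q → x ^ p ∈ Q → (y * x * y⁻¹ * x ∉ Q ∧ y * x * y⁻¹ * x⁻¹ ∉ Q) := by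
  classical
  constructor
  · intro hmax x hxN hxQ hxp
    constructor <;> intro h <;> apply no_step hQ hy hyQ hmax hxN hxQ hxp
    · have := mul_mem (Subgroup.mem_sup_left (T := Subgroup.zpowers x) h)
        (inv_mem (Subgroup.mem_sup_right (S := Q) (Subgroup.mem_zpowers x)))
      simpa [mul_assoc] using this
    · have := mul_mem (Subgroup.mem_sup_left (T := Subgroup.zpowers x) h)
        (Subgroup.mem_sup_right (S := Q) (Subgroup.mem_zpowers x))
      simpa [mul_assoc] using this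
  · intro hcond R hR hQR hyR
    by_contra hne
    have hlt : Q < R := lt_of_le_of_ne hQR (Ne.symm hne)
    have : Group.IsNilpotent R := hR.isNilpotent
    -- the normalizer of `Q` inside `R`
    set R0 := R ⊓ Subgroup.normalizer (Q : Set G) with hR0
    have hQR0 : Q ≤ R0 := le_inf hQR Subgroup.le_normalizer
    have hne0 : R0 ≠ Q := by
      intro h
      have hlt' : Q.subgroupOf R < ⊤ := lt_top_iff_ne_top.mpr fun h' => hlt.not_ge
        (Subgroup.subgroupOf_eq_top.mp h')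
      obtain ⟨⟨z, hzR⟩, hz, hz'⟩ := SetLike.exists_of_lt
        (Group.normalizerCondition_of_isNilpotent _ hlt')
      apply hz'
      have h5 : (Q.subgroupOf R).map R.subtype = Q := Subgroup.map_subgroupOf_eq_of_le hQR
      have h6 := Subgroup.le_normalizer_map R.subtype (Subgroup.mem_map_of_mem _ hz)
      rw [h5] at h6
      exact h.le ⟨hzR, h6⟩
    have hn : (Q.subgroupOf R0).Normal :=
      (Subgroup.normal_subgroupOf_iff_le_normalizer hQR0).mpr inf_le_right
    have hV : IsPGroup p (↥R0 ⧸ Q.subgroupOf R0) := (hR.to_le inf_le_left).to_quotient _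
    have : Nontrivial (↥R0 ⧸ Q.subgroupOf R0) := QuotientGroup.nontrivial_iff.mpr fun h =>
      hne0 (le_antisymm (Subgroup.subgroupOf_eq_top.mp h) hQR0)
    have hd : p ∣ Nat.card (Subgroup.center (↥R0 ⧸ Q.subgroupOf R0)) := by
      obtain ⟨n, hn⟩ := IsPGroup.iff_card.mp
        (hV.to_subgroup (Subgroup.center (↥R0 ⧸ Q.subgroupOf R0)))
      rw [hn]
      refine dvd_pow_self p fun h0 => ?_
      rw [h0, pow_zero] at hn
      exact (bot_lt_iff_ne_bot.mp hV.bot_lt_center) (Subgroup.eq_bot_of_card_eq _ hn)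
    obtain ⟨⟨v, hvc⟩, hv⟩ := exists_prime_orderOf_dvd_card' p hd
    rw [Subgroup.orderOf_mk] at hv
    obtain ⟨⟨x, hx⟩, rfl⟩ := QuotientGroup.mk_surjective v
    have hxQ : x ∉ Q := fun h => by
      rw [(QuotientGroup.eq_one_iff (N := Q.subgroupOf R0) ⟨x, hx⟩).mpr h, orderOf_one] at hv
      exact (Fact.out : p.Prime).ne_one hv.symm
    have hcent : ∀ z ∈ R0, x * z * x⁻¹ * z⁻¹ ∈ Q := by
      intro z hz
      have h1 := Subgroup.mem_center_iff.mp hvc (QuotientGroup.mk ⟨z, hz⟩)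
      rw [← QuotientGroup.mk_mul, ← QuotientGroup.mk_mul, QuotientGroup.eq, Subgroup.mem_subgroupOf] at h1
      simp only [Subgroup.coe_mul, InvMemClass.coe_inv] at h1
      have h2 : (z * x)⁻¹ ∈ Subgroup.normalizer (Q : Set G) := inv_mem (mul_mem hz.2 hx.2)
      have h3 := (Subgroup.mem_normalizer_iff''.mp h2 _).mp h1
      simpa [mul_assoc] using h3
    have hxp : x ^ p ∈ Q := by
      have h1 : (QuotientGroup.mk (⟨x, hx⟩ : R0) : ↥R0 ⧸ Q.subgroupOf R0) ^ p = 1 := by
        rw [← hv]; exact pow_orderOf_eq_one _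
      rw [← QuotientGroup.mk_pow, QuotientGroup.eq_one_iff, Subgroup.mem_subgroupOf] at h1
      exact h1
    have hyR0 : ∀ z ∈ R0, y * z * y⁻¹ ∈ R0 := fun z hz => ⟨(Subgroup.mem_normalizer_iff.mp hyR z).mp hz.1,
      (Subgroup.normalizer (Q : Set G)).mul_mem ((Subgroup.normalizer (Q : Set G)).mul_mem hyQ hz.2) ((Subgroup.normalizer (Q : Set G)).inv_mem hyQ)⟩
    set x' := y * x * y⁻¹ with hx'
    have hy2 : y * y = 1 := by rw [← pow_two, ← hy, pow_orderOf_eq_one]
    have hyi : y⁻¹ = y := (eq_inv_of_mul_eq_one_left hy2).symm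
    have hyx' : y * x' * y⁻¹ = x := by
      calc y * x' * y⁻¹ = (y * y) * x * (y⁻¹ * y⁻¹) := by simp [hx', mul_assoc]
        _ = x := by rw [hyi, hy2]; simp
    -- `u = x' * x` is fixed modulo `Q`
    set u := x' * x with hu
    have huR0 : u ∈ R0 := mul_mem (hyR0 x hx) hx
    have huQ : u ∉ Q := fun h => (hcond x hx.2 hxQ hxp).1 h
    have hup : u ^ p ∈ Q := by
      have hxc : (QuotientGroup.mk (⟨x, hx⟩ : R0) : ↥R0 ⧸ Q.subgroupOf R0) ∈ Subgroup.center _ := hvc
      have hcm : Commute (QuotientGroup.mk (⟨x', hyR0 x hx⟩ : R0) : ↥R0 ⧸ Q.subgroupOf R0)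
          (QuotientGroup.mk (⟨x, hx⟩ : R0)) := Subgroup.mem_center_iff.mp hxc _
      have h2 : (x' : G) ^ p ∈ Q := by
        rw [hx', conj_pow]
        exact (Subgroup.mem_normalizer_iff.mp hyQ _).mp hxp
      have h1 : (QuotientGroup.mk (⟨u, huR0⟩ : R0) : ↥R0 ⧸ Q.subgroupOf R0) ^ p = 1 := by
        have e : (⟨u, huR0⟩ : R0) = ⟨x', hyR0 x hx⟩ * ⟨x, hx⟩ := rfl
        rw [e, QuotientGroup.mk_mul, hcm.mul_pow, ← QuotientGroup.mk_pow, ← QuotientGroup.mk_pow,
          (QuotientGroup.eq_one_iff (N := Q.subgroupOf R0) _).mpr (show ((⟨x', hyR0 x hx⟩ : R0) ^ p : R0).1 ∈ Q from h2),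
          (QuotientGroup.eq_one_iff (N := Q.subgroupOf R0) _).mpr (show ((⟨x, hx⟩ : R0) ^ p : R0).1 ∈ Q from hxp),
          one_mul]
      rw [← QuotientGroup.mk_pow, QuotientGroup.eq_one_iff, Subgroup.mem_subgroupOf] at h1
      exact h1
    apply (hcond u huR0.2 huQ hup).2
    have e : y * u * y⁻¹ * u⁻¹ = x * x' * x⁻¹ * x'⁻¹ := by
      rw [hu, show y * (x' * x) * y⁻¹ = (y * x' * y⁻¹) * (y * x * y⁻¹) by simp [mul_assoc],
        hyx', ← hx', mul_inv_rev, ← mul_assoc]
    rw [e]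
    exact hcent x' (hyR0 x hx)

end Cfsg.Agent.S3981
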