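import Cfsg.Statements.S3982
import Cfsg.Agent.Lib.Coprime.Action
import Mathlib.GroupTheory.FixedPointFree
import Mathlib.GroupTheory.Sylow
-- import your own Cfsg.Agent.* helpers here

set_option autoImplicit false
open Cfsg

namespace Cfsg.Agent.S3982

theorem inverts {G : Type*} [Group G] [Finite G] (p : ℕ)
    (hC : ∀ g : G, g ≠ 1 → (∃ k : ℕ, orderOf g = p ^ k) →
      Odd (Nat.card ↥(Subgroup.centralizer ({g} : Set G))))
    (R : Subgroup G) (hR : IsPGroup p R) [Fact p.Prime] (t : G) (ht : orderOf t = 2)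
    (htN : t ∈ Subgroup.normalizer (R : Set G)) :
    ∀ g ∈ R, t * g * t⁻¹ = g⁻¹ := by
  let φ : R →* R :=
    { toFun := fun g => ⟨t * g * t⁻¹, (Subgroup.mem_normalizer_iff.mp htN g).mp g.2⟩
      map_one' := Subtype.ext (by simp)
      map_mul' := fun a b => Subtype.ext (by simp [mul_assoc]) }
  have hfree : MonoidHom.FixedPointFree φ := by
    intro g hg
    by_contra hne
    have h2 : t * (g : G) * t⁻¹ = g := congrArg Subtype.val hg
    obtain ⟨k, hk⟩ := IsPGroup.iff_orderOf.mp hR g
    have := hC g (by simpa using hne) ⟨k, by rw [Subgroup.orderOf_coe, hk]⟩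
    apply Nat.not_even_iff_odd.mpr this
    rw [even_iff_two_dvd, ← ht]
    refine Subgroup.orderOf_dvd_natCard _ ?_
    rw [Subgroup.mem_centralizer_iff]
    simp only [Set.mem_singleton_iff, forall_eq]
    exact (mul_inv_eq_iff_eq_mul.mp h2).symm
  have hinv : Function.Involutive φ := by
    intro g
    apply Subtype.ext
    have h2 : t * t = 1 := by rw [← pow_two, ← ht, pow_orderOf_eq_one]
    have h3 : t⁻¹ = t := (eq_inv_of_mul_eq_one_left h2).symm
    change t * (t * (g : G) * t⁻¹) * t⁻¹ = g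
    calc t * (t * (g : G) * t⁻¹) * t⁻¹ = (t * t) * g * (t⁻¹ * t⁻¹) := by simp [mul_assoc]
      _ = g := by rw [h3, h2]; simp
  intro g hg
  exact congrArg Subtype.val (congrFun (hfree.coe_eq_inv_of_involutive hinv) ⟨g, hg⟩)


/-- Let p be an odd prime and G a finite group of even order divisible by p in which the centralizer of every non-identity p-element has odd order. If some nontrivial p-subgroup of G has a normalizer of even order, then the normalizer of every Sylow p-subgroup of G has even order. -/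
theorem result {G : Type*} [Group G] [Finite G] (p : ℕ) [Fact p.Prime] (hp2 : p ≠ 2) (hpG : p ∣ Nat.card G) (h2G : 2 ∣ Nat.card G) (hC : ∀ g : G, g ≠ 1 → (∃ k : ℕ, orderOf g = p ^ k) → Odd (Nat.card ↥(Subgroup.centralizer ({g} : Set G)))) (Q : Subgroup G) (hQ : IsPGroup p ↥Q) (hQ1 : Q ≠ ⊥) (hev : Even (Nat.card ↥(Subgroup.normalizer (Q : Set G)))) (P : Sylow p G) : Even (Nat.card ↥(Subgroup.normalizer ((P : Subgroup G) : Set G))) := by
  classical
  let F : Set (Subgroup G) := {R | Q ≤ R ∧ IsPGroup p R ∧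
    Even (Nat.card ↥(Subgroup.normalizer (R : Set G)))}
  obtain ⟨R, -, ⟨hQR, hR, hRe⟩, hmax⟩ :=
    (Set.toFinite F).exists_le_maximal (a := Q) ⟨le_rfl, hQ, hev⟩
  have hR1 : R ≠ ⊥ := fun h => hQ1 (le_bot_iff.mp (h ▸ hQR))
  obtain ⟨⟨t, htN⟩, ht⟩ := exists_prime_orderOf_dvd_card'
    (G := ↥(Subgroup.normalizer (R : Set G))) 2 (even_iff_two_dvd.mp hRe)
  rw [Subgroup.orderOf_mk] at ht
  have ht2 : t * t = 1 := by rw [← pow_two, ← ht, pow_orderOf_eq_one]
  have hti : t⁻¹ = t := (eq_inv_of_mul_eq_one_left ht2).symm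
  have hinv := inverts p hC R hR t ht htN
  let C : Subgroup G := Subgroup.centralizer (R : Set G)
  let N : Subgroup G := Subgroup.normalizer (R : Set G)
  have hCmem : ∀ z, z ∈ C ↔ ∀ b ∈ R, b * z = z * b := fun z => Subgroup.mem_centralizer_iff
  have hRC : R ≤ C := by
    intro a ha
    rw [hCmem]
    intro b hb
    have h1 := hinv (a * b) (mul_mem ha hb)
    have h2 : t * (a * b) * t⁻¹ = (t * a * t⁻¹) * (t * b * t⁻¹) := by simp [mul_assoc]
    rw [h2, hinv a ha, hinv b hb, ← mul_inv_rev, inv_inj] at h1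
    exact h1
  have hCodd : Odd (Nat.card C) := by
    obtain ⟨g, hg, hg1⟩ := R.bot_or_exists_ne_one.resolve_left hR1
    obtain ⟨k, hk⟩ := IsPGroup.iff_orderOf.mp hR ⟨g, hg⟩
    have := hC g hg1 ⟨k, by rw [← hk, Subgroup.orderOf_mk]⟩
    exact this.of_dvd_nat (Subgroup.card_dvd_of_le
      (Subgroup.centralizer_le (Set.singleton_subset_iff.mpr hg)))
  -- `R` is a Sylow subgroup of its centralizer
  have hAC : Subgroup.zpowers t ≤ Subgroup.normalizer (C : Set G) := by
    rw [Subgroup.zpowers_le]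
    have : (C.subgroupOf N).Normal := inferInstance
    exact (Subgroup.normal_subgroupOf_iff_le_normalizer
      (Subgroup.centralizer_le_normalizer _)).mp this htN
  obtain ⟨S, hRS, hAS⟩ := Cfsg.Lib.Coprime.exists_invariant_sylow_ge (A := Subgroup.zpowers t)
    hAC (by rw [Nat.card_zpowers, ht]; exact Nat.coprime_two_left.mpr hCodd) (Or.inl (Group.isSolvable_of_comm fun a b => Subtype.ext (setLike_mul_comm a.2 b.2)))
    hRC hR (Subgroup.zpowers_le.mpr htN)
  have hSR : (S : Subgroup C).map C.subtype = R := by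
    refine le_antisymm (hmax ⟨hQR.trans hRS, S.isPGroup'.map _, ?_⟩ hRS) hRS
    rw [even_iff_two_dvd, ← ht, ← Nat.card_zpowers]
    exact Subgroup.card_dvd_of_le hAS
  -- `R` is a Sylow subgroup of `G`
  obtain ⟨P0, hP0⟩ := hR.exists_le_sylow
  have hP0R : (P0 : Subgroup G) = R := by
    by_contra hne
    have hlt : R < P0 := lt_of_le_of_ne hP0 (Ne.symm hne)
    have : Group.IsNilpotent (P0 : Subgroup G) := P0.isPGroup'.isNilpotent
    have hlt' : R.subgroupOf P0 < ⊤ := lt_top_iff_ne_top.mpr fun h => hlt.not_ge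
      (Subgroup.subgroupOf_eq_top.mp h)
    obtain ⟨⟨y, hyP⟩, hy, hy'⟩ := SetLike.exists_of_lt
      (Group.normalizerCondition_of_isNilpotent _ hlt')
    have hyR : y ∉ R := hy'
    have hyN : y ∈ N := by
      have h5 : (R.subgroupOf P0).map (P0 : Subgroup G).subtype = R :=
        Subgroup.map_subgroupOf_eq_of_le hP0
      have h6 := Subgroup.le_normalizer_map (P0 : Subgroup G).subtype
        (Subgroup.mem_map_of_mem _ hy)
      rwa [h5] at h6
    have hyC : y ∉ C := by
      intro hyC
      have hle : R ⊔ Subgroup.zpowers y ≤ C := sup_le hRC (Subgroup.zpowers_le.mpr hyC)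
      have hp : IsPGroup p ↥(R ⊔ Subgroup.zpowers y) := P0.isPGroup'.to_le
        (sup_le hP0 (Subgroup.zpowers_le.mpr hyP))
      have hS : (S : Subgroup C) ≤ (R ⊔ Subgroup.zpowers y).subgroupOf C := fun a ha =>
        Subgroup.mem_sup_left (hSR ▸ Subgroup.mem_map_of_mem C.subtype ha)
      have := S.is_maximal' (hp.of_equiv (Subgroup.subgroupOfEquivOfLe hle).symm) hS
      have hyS : (⟨y, hyC⟩ : C) ∈ (S : Subgroup C) := by
        rw [← this]
        exact Subgroup.mem_sup_right (Subgroup.mem_zpowers y)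
      exact hyR (hSR ▸ Subgroup.mem_map_of_mem C.subtype hyS)
    let z : G := y * t * y⁻¹ * t⁻¹
    have hzC : z ∈ C := by
      rw [hCmem]
      intro b hb
      have hbt : b * t = t * b⁻¹ := by
        have := hinv b⁻¹ (inv_mem hb)
        rw [inv_inv] at this
        conv_lhs => rw [← this]
        simp
      have hby : y⁻¹ * b * y ∈ R := (Subgroup.mem_normalizer_iff''.mp hyN b).mp hb
      have h1 : (y⁻¹ * b * y) * t = t * (y⁻¹ * b⁻¹ * y) := by
        have := hinv _ (inv_mem hby)
        rw [inv_inv] at this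
        conv_lhs => rw [← this]
        simp [mul_assoc]
      calc b * z = y * ((y⁻¹ * b * y) * t) * y⁻¹ * t⁻¹ := by simp [z, mul_assoc]
        _ = y * t * y⁻¹ * (b⁻¹ * t) := by rw [h1, hti]; simp [mul_assoc]
        _ = y * t * y⁻¹ * (t * b) := by
          congr 1
          have := hinv b hb
          rw [← this, hti]
          simp [mul_assoc, ht2]
        _ = z * b := by simp [z, hti, mul_assoc]
    let w : G := z ^ ((orderOf z + 1) / 2)
    have hzodd : Odd (orderOf z) := hCodd.of_dvd_nat (Subgroup.orderOf_dvd_natCard _ hzC)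
    have hw2 : w * w = z := by
      rw [← pow_add, show (orderOf z + 1) / 2 + (orderOf z + 1) / 2 = orderOf z + 1 from by
        obtain ⟨m, hm⟩ := hzodd; omega, pow_succ, pow_orderOf_eq_one, one_mul]
    have htz : t * z * t⁻¹ = z⁻¹ := by
      simp only [z, hti, mul_inv_rev, inv_inv, mul_assoc, ht2, mul_one]
    have htw : t * w * t⁻¹ = w⁻¹ := by simp only [w, ← conj_pow, htz, inv_pow]
    let u : G := w⁻¹ * y
    have hut : u * t = t * u := by
      have h1 : w * t * w⁻¹ = y * t * y⁻¹ := by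
        calc w * t * w⁻¹ = w * (t * w⁻¹ * t⁻¹) * t := by simp [mul_assoc]
          _ = w * w * t := by rw [← conj_inv, htw, inv_inv]
          _ = y * t * y⁻¹ := by rw [hw2]; simp [z, mul_assoc]
      calc u * t = w⁻¹ * (y * t * y⁻¹) * y := by simp [u, mul_assoc]
        _ = t * u := by rw [← h1]; simp [u, mul_assoc]
    have hwC : w ∈ C := pow_mem hzC _
    have hwN : w ∈ N := Subgroup.centralizer_le_normalizer _ hwC
    have huN : u ∈ N := mul_mem (inv_mem hwN) hyN
    let f := QuotientGroup.mk' (C.subgroupOf N)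
    have hfu : f ⟨u, huN⟩ = f ⟨y, hyN⟩ := by
      rw [QuotientGroup.mk'_eq_mk']
      refine ⟨(⟨y, hyN⟩ : N)⁻¹ * ⟨w, hwN⟩ * ⟨y, hyN⟩, ?_, ?_⟩
      · have hn : (C.subgroupOf N).Normal := inferInstance
        have := hn.conj_mem ⟨w, hwN⟩ hwC (⟨y, hyN⟩ : N)⁻¹
        rwa [inv_inv] at this
      · apply Subtype.ext
        simp [u, mul_assoc]
    have hyne : f ⟨y, hyN⟩ ≠ 1 := by
      rw [QuotientGroup.mk'_apply, Ne, QuotientGroup.eq_one_iff, Subgroup.mem_subgroupOf]
      exact hyC
    obtain ⟨k, hk⟩ := P0.isPGroup' ⟨y, hyP⟩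
    have hk' : y ^ p ^ k = 1 := congrArg Subtype.val hk
    have hpu : p ∣ orderOf u := by
      have hdvd : orderOf (f ⟨y, hyN⟩) ∣ p ^ k := orderOf_dvd_of_pow_eq_one (by
        rw [← map_pow, show (⟨y, hyN⟩ : N) ^ p ^ k = 1 from Subtype.ext hk', map_one])
      obtain ⟨j, -, hj⟩ := (Nat.dvd_prime_pow Fact.out).mp hdvd
      refine (dvd_pow_self p (n := j) (fun h => hyne ?_)).trans ?_
      · rw [h, pow_zero] at hj
        exact orderOf_eq_one_iff.mp hj
      · rw [← hj, ← hfu]
        exact (orderOf_map_dvd f _).trans (by rw [Subgroup.orderOf_mk])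
    let v : G := u ^ (orderOf u / p)
    have hv : orderOf v = p := orderOf_pow_orderOf_div (orderOf_pos u).ne' hpu
    have := hC v (fun h => by
      rw [h, orderOf_one] at hv; exact (Fact.out : p.Prime).one_lt.ne hv) ⟨1, by rw [hv, pow_one]⟩
    apply Nat.not_even_iff_odd.mpr this
    rw [even_iff_two_dvd, ← ht]
    refine Subgroup.orderOf_dvd_natCard _ ?_
    rw [Subgroup.mem_centralizer_iff]
    simp only [Set.mem_singleton_iff, forall_eq]
    exact (Commute.pow_left hut _).eq
  have h1 := P.card_eq_index_normalizer.symm.trans P0.card_eq_index_normalizer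
  have h2 : Nat.card ↥(Subgroup.normalizer ((P : Subgroup G) : Set G)) =
      Nat.card ↥(Subgroup.normalizer ((P0 : Subgroup G) : Set G)) := by
    apply Nat.eq_of_mul_eq_mul_right (Nat.pos_of_ne_zero
      (Subgroup.index_ne_zero_of_finite (H := Subgroup.normalizer ((P : Subgroup G) : Set G))))
    simp only [Sylow.coe_coe] at h1 ⊢
    rw [Subgroup.card_mul_index, h1, Subgroup.card_mul_index]
  rw [h2, hP0R]
  exact hRe

end Cfsg.Agent.S3982
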