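import Cfsg.Statements.S3983
-- import your own Cfsg.Agent.* helpers here

set_option autoImplicit false
open scoped Pointwise
open Cfsg

namespace Cfsg.Agent.S3983

open Subgroup
open scoped Pointwise

/-- Sylow subgroups meeting nontrivially coincide, in the TI case. -/
theorem eq_of_inf_ne_bot {G : Type*} [Group G] [Finite G] {p : ℕ} [Fact p.Prime] (P : Sylow p G)
    (hTI : ∀ g : G, g ∉ normalizer ((P : Subgroup G) : Set G) → (P : Subgroup G) ⊓ (MulAut.conj g • (P : Subgroup G)) = ⊥)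
    (R S : Sylow p G) (h : (R : Subgroup G) ⊓ (S : Subgroup G) ≠ ⊥) : R = S := by
  obtain ⟨a, rfl⟩ := MulAction.exists_smul_eq G P R
  obtain ⟨b, rfl⟩ := MulAction.exists_smul_eq G P S
  by_cases hn : a⁻¹ * b ∈ normalizer ((P : Subgroup G) : Set G)
  · have h1 : (a⁻¹ * b) • P = P := Sylow.smul_eq_iff_mem_normalizer.mpr hn
    conv_rhs => rw [← mul_inv_cancel_left a b, mul_smul, h1]
  · exfalso
    refine h ?_
    rw [Sylow.coe_subgroup_smul, Sylow.coe_subgroup_smul, show b = a * (a⁻¹ * b) from (mul_inv_cancel_left a b).symm,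
      map_mul, mul_smul, ← Subgroup.smul_inf, hTI _ hn, Subgroup.smul_bot]

/-- Let P be a Sylow p-subgroup of the finite group G that meets each conjugate g P g⁻¹ with g outside N_G(P) trivially, and let U be a subgroup of G of order divisible by p. Then a Sylow p-subgroup Q of U has the same property inside U: Q meets each conjugate u Q u⁻¹ with u ∈ U outside N_U(Q) trivially. -/
theorem result {G : Type*} [Group G] [Finite G] (p : ℕ) [Fact p.Prime] (P : Sylow p G) (hTI : ∀ g : G, g ∉ Subgroup.normalizer ((P : Subgroup G) : Set G) → (P : Subgroup G) ⊓ (MulAut.conj g • (P : Subgroup G)) = ⊥) (U : Subgroup G) (hU : p ∣ Nat.card ↥U) (Q : Sylow p ↥U) : ∀ u : ↥U, u ∉ Subgroup.normalizer ((Q : Subgroup ↥U) : Set ↥U) → (Q : Subgroup ↥U) ⊓ (MulAut.conj u • (Q : Subgroup ↥U)) = ⊥ := by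
  intro u hu
  by_contra hne
  refine hu ?_
  obtain ⟨R, hR⟩ := (Q.isPGroup'.map U.subtype).exists_le_sylow
  have hQR : (Q : Subgroup U) = (R : Subgroup G).subgroupOf U := by
    refine (Q.is_maximal' ?_ ?_).symm
    · exact R.isPGroup'.comap_of_injective _ U.subtype_injective
    · exact fun x hx => mem_subgroupOf.mpr (hR (mem_map_of_mem _ hx))
  have hmeet : (R : Subgroup G) ⊓ (((u : G) • R : Sylow p G) : Subgroup G) ≠ ⊥ := by
    intro hbot
    refine hne (eq_bot_iff.mpr fun x hx => ?_)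
    obtain ⟨y, hy, hyx⟩ := hx.2
    have h1 : (x : G) ∈ (R : Subgroup G) ⊓ (((u : G) • R : Sylow p G) : Subgroup G) := by
      refine ⟨hR (mem_map_of_mem _ hx.1), ?_⟩
      rw [Sylow.coe_subgroup_smul]
      exact ⟨y, hR (mem_map_of_mem _ hy), by rw [← hyx]; rfl⟩
    rw [hbot, mem_bot] at h1
    exact mem_bot.mpr (Subtype.ext h1)
  have hfix : (u : G) ∈ normalizer ((R : Subgroup G) : Set G) :=
    Sylow.smul_eq_iff_mem_normalizer.mp (eq_of_inf_ne_bot P hTI R _ hmeet).symm
  rw [mem_normalizer_iff]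
  intro y
  rw [hQR, mem_subgroupOf, mem_subgroupOf]
  exact mem_normalizer_iff.mp hfix (y : G)

end Cfsg.Agent.S3983
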