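import Cfsg.Statements.S3984
import Mathlib.Tactic.Group
import Mathlib.GroupTheory.Sylow
import Cfsg.Agent.S3983
-- import your own Cfsg.Agent.* helpers here

set_option autoImplicit false
open scoped Pointwise
open Cfsg

namespace Cfsg.Agent.S3984

open Subgroup
open scoped Pointwise

/-- Let P be a Sylow p-subgroup of the finite group G that meets each conjugate g P g⁻¹ with g outside N_G(P) trivially, and let N be a normal subgroup of G of order prime to p. Then every Sylow p-subgroup Q of G ⧸ N meets each conjugate x Q x⁻¹ with x outside its normalizer trivially. -/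
theorem result {G : Type*} [Group G] [Finite G] (p : ℕ) [Fact p.Prime] (P : Sylow p G) (hTI : ∀ g : G, g ∉ Subgroup.normalizer ((P : Subgroup G) : Set G) → (P : Subgroup G) ⊓ (MulAut.conj g • (P : Subgroup G)) = ⊥) (N : Subgroup G) [N.Normal] (hN : (Nat.card ↥N).Coprime p) (Q : Sylow p (G ⧸ N)) : ∀ x : G ⧸ N, x ∉ Subgroup.normalizer ((Q : Subgroup (G ⧸ N)) : Set (G ⧸ N)) → (Q : Subgroup (G ⧸ N)) ⊓ (MulAut.conj x • (Q : Subgroup (G ⧸ N))) = ⊥ := by
  intro x hx
  by_contra hne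
  refine hx ?_
  obtain ⟨g, rfl⟩ := QuotientGroup.mk'_surjective N x
  obtain ⟨R, hR⟩ := Sylow.mapSurjective_surjective (QuotientGroup.mk'_surjective N) p Q
  subst hR
  rw [Sylow.coe_mapSurjective] at hne ⊢
  obtain ⟨y, ⟨⟨r, hrR, hry⟩, hy2⟩, hy1⟩ := SetLike.exists_of_lt (bot_lt_iff_ne_bot.mpr hne)
  obtain ⟨_, ⟨s, hs, rfl⟩, hsy⟩ := hy2
  set S : Sylow p G := g • R
  have hrK : r ∈ (S : Subgroup G) ⊔ N := by
    have h1 : (g * s * g⁻¹)⁻¹ * r ∈ N := by
      refine QuotientGroup.eq.mp ?_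
      show QuotientGroup.mk' N (g * s * g⁻¹) = QuotientGroup.mk' N r
      rw [hry, ← hsy, map_mul, map_mul, map_inv]; rfl
    have h2 : g * s * g⁻¹ ∈ (S : Subgroup G) := by
      rw [Sylow.coe_subgroup_smul]
      exact ⟨s, hs, rfl⟩
    have h3 := mul_mem (mem_sup_left (T := N) h2) (mem_sup_right (S := (S : Subgroup G)) h1)
    rwa [mul_inv_cancel_left] at h3
  -- conjugate `r` into `S` by an element of `N`
  obtain ⟨T, hT⟩ : ∃ T : Sylow p ↥((S : Subgroup G) ⊔ N), zpowers (⟨r, hrK⟩ : ↥((S : Subgroup G) ⊔ N)) ≤ T := by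
    refine IsPGroup.exists_le_sylow ?_
    obtain ⟨a, ha⟩ := IsPGroup.iff_orderOf.mp R.isPGroup' ⟨r, hrR⟩
    refine IsPGroup.of_card (n := a) ?_
    rw [Nat.card_zpowers, ← ha, orderOf_mk, orderOf_mk]
  obtain ⟨k, hk⟩ := MulAction.exists_smul_eq ↥((S : Subgroup G) ⊔ N) T (S.subtype le_sup_left)
  obtain ⟨a, haS, m, hmN, hkm⟩ := mem_sup_of_normal_right.mp k.2
  have hm : m * r * m⁻¹ ∈ (S : Subgroup G) := by
    have h1 : k * ⟨r, hrK⟩ * k⁻¹ ∈ ((k • T : Sylow p _) : Subgroup _) := by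
      exact ⟨_, hT (mem_zpowers _), rfl⟩
    rw [hk] at h1
    rw [Sylow.coe_subtype, mem_subgroupOf, Subgroup.coe_mul, Subgroup.coe_mul, Subgroup.coe_inv, ← hkm] at h1
    have h2 := mul_mem (mul_mem (inv_mem haS) h1) haS
    simpa [mul_assoc] using h2
  have hmeet : ((m • R : Sylow p G) : Subgroup G) ⊓ (S : Subgroup G) ≠ ⊥ := by
    intro hbot
    have h1 : m * r * m⁻¹ ∈ ((m • R : Sylow p G) : Subgroup G) ⊓ (S : Subgroup G) := by
      refine ⟨?_, hm⟩
      rw [Sylow.coe_subgroup_smul]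
      exact ⟨r, hrR, rfl⟩
    rw [hbot, mem_bot, conj_eq_one_iff] at h1
    exact hy1 (mem_bot.mpr (by rw [← hry, h1, map_one]))
  have heq := S3983.eq_of_inf_ne_bot P hTI _ _ hmeet
  have hn : m⁻¹ * g ∈ normalizer ((R : Subgroup G) : Set G) := by
    refine Sylow.smul_eq_iff_mem_normalizer.mp ?_
    rw [mul_smul, show g • R = m • R from heq.symm, inv_smul_smul]
  have h3 := le_normalizer_map (H := (R : Subgroup G)) (QuotientGroup.mk' N) (mem_map_of_mem _ hn)
  rwa [map_mul, map_inv, show QuotientGroup.mk' N m = 1 from (QuotientGroup.eq_one_iff m).mpr hmN, inv_one, one_mul] at h3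

end Cfsg.Agent.S3984
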