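import Cfsg.Statements.S3985
import Mathlib.Tactic.Group
import Mathlib.NumberTheory.Basic
import Mathlib.GroupTheory.Sylow
import Mathlib.Data.Nat.Prime.Int
import Cfsg.Agent.S3983
import Mathlib.GroupTheory.SpecificGroups.Cyclic
import Mathlib.FieldTheory.Finite.Basic
-- import your own Cfsg.Agent.* helpers here

set_option autoImplicit false
open scoped Pointwise
open Cfsg

namespace Cfsg.Agent.S3985

open Subgroup
open scoped Pointwise

/-- Let P be a cyclic Sylow p-subgroup of the finite group G. Then P meets each conjugate g P g⁻¹ with g outside N_G(P) trivially if and only if P is weakly self-centralizing: C_G(x) = C_G(P) for every non-identity x ∈ P. -/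
theorem result {G : Type*} [Group G] [Finite G] (p : ℕ) [Fact p.Prime] (P : Sylow p G) (hcyc : IsCyclic ↥(P : Subgroup G)) : (∀ g : G, g ∉ Subgroup.normalizer ((P : Subgroup G) : Set G) → (P : Subgroup G) ⊓ (MulAut.conj g • (P : Subgroup G)) = ⊥) ↔ ∀ x : G, x ∈ (P : Subgroup G) → x ≠ 1 → Subgroup.centralizer ({x} : Set G) = Subgroup.centralizer ((P : Subgroup G) : Set G) := by
  have hPC : (P : Subgroup G) ≤ centralizer ((P : Subgroup G) : Set G) := fun a ha =>
    mem_centralizer_iff.mpr fun b hb => congrArg Subtype.val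
      ((inferInstance : IsCyclic (P : Subgroup G)).isMulCommutative.is_comm.comm ⟨b, hb⟩ ⟨a, ha⟩)
  constructor
  · intro hTI x hxP hx1
    refine le_antisymm (fun g hg => ?_) (centralizer_le (Set.singleton_subset_iff.mpr hxP))
    have hgN : g ∈ normalizer ((P : Subgroup G) : Set G) := by
      by_contra h
      refine hx1 (mem_bot.mp (hTI g h ▸ mem_inf.mpr ⟨hxP, x, hxP, ?_⟩))
      show g * x * g⁻¹ = x
      rw [mem_centralizer_singleton_iff.mp hg, mul_inv_cancel_right]
    -- the automorphism induced by `g` is `a ↦ a ^ k` and fixes `x`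
    obtain ⟨c, hc⟩ := IsCyclic.exists_generator (α := (P : Subgroup G))
    obtain ⟨e, he⟩ := IsPGroup.iff_orderOf.mp P.isPGroup' c
    have hgc : g * (c : G) * g⁻¹ ∈ (P : Subgroup G) := (mem_normalizer_iff.mp hgN _).mp c.2
    obtain ⟨k, hk⟩ := mem_zpowers_iff.mp (hc ⟨_, hgc⟩)
    have hk' : g * (c : G) * g⁻¹ = (c : G) ^ k := (congrArg Subtype.val hk).symm.trans (SubgroupClass.coe_zpow c k)
    have hiter : ∀ n : ℕ, g ^ n * (c : G) * (g ^ n)⁻¹ = (c : G) ^ (k ^ n) := fun n => by
      induction n with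
      | zero => simp
      | succ n ih =>
        rw [pow_succ', pow_succ' k, zpow_mul, ← hk', conj_zpow]
        calc g * g ^ n * (c : G) * (g * g ^ n)⁻¹ = g * (g ^ n * (c : G) * (g ^ n)⁻¹) * g⁻¹ := by group
          _ = g * (c : G) ^ (k ^ n) * g⁻¹ := by rw [ih]
    obtain ⟨i, hi⟩ := mem_zpowers_iff.mp (hc ⟨x, hxP⟩)
    have hi' : (c : G) ^ i = x := (SubgroupClass.coe_zpow c i).symm.trans (congrArg Subtype.val hi)
    have hfixx : (c : G) ^ (k * i) = (c : G) ^ i := by
      rw [zpow_mul, ← hk', conj_zpow, hi', mem_centralizer_singleton_iff.mp hg, mul_inv_cancel_right]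
    rw [zpow_eq_zpow_iff_modEq, orderOf_coe, he, Int.modEq_comm, Int.modEq_iff_dvd, ← sub_one_mul] at hfixx
    have hni : ¬ (p : ℤ) ^ e ∣ i := fun h => hx1 (by
      rw [← hi']
      refine orderOf_dvd_iff_zpow_eq_one.mp ?_
      rw [orderOf_coe, he]; exact_mod_cast h)
    have hpk : (p : ℤ) ∣ k - 1 := by
      by_contra h
      refine hni (IsCoprime.dvd_of_dvd_mul_left ?_ (show (p : ℤ) ^ e ∣ (k - 1) * i from by exact_mod_cast hfixx))
      exact (((Nat.prime_iff_prime_int).mp Fact.out).coprime_iff_not_dvd.mpr h).pow_left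
    have hke : (p : ℤ) ^ e ∣ k ^ p ^ e - 1 := by
      have := dvd_sub_pow_of_dvd_sub hpk e
      rw [one_pow] at this
      exact (pow_dvd_pow _ (Nat.le_succ e)).trans this
    have h1 : g ^ p ^ e ∈ centralizer ((P : Subgroup G) : Set G) := by
      rw [mem_centralizer_iff]
      intro a ha
      obtain ⟨j, hj⟩ := mem_zpowers_iff.mp (hc ⟨a, ha⟩)
      have hj' : (c : G) ^ j = a := (SubgroupClass.coe_zpow c j).symm.trans (congrArg Subtype.val hj)
      have h2 : g ^ p ^ e * (c : G) * (g ^ p ^ e)⁻¹ = c := by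
        rw [hiter]
        conv_rhs => rw [← zpow_one (c : G)]
        rw [zpow_eq_zpow_iff_modEq, orderOf_coe, he, Int.modEq_comm, Int.modEq_iff_dvd]
        exact_mod_cast hke
      have h3 : Commute (g ^ p ^ e) (c : G) := mul_inv_eq_iff_eq_mul.mp h2
      rw [← hj']
      exact (h3.zpow_right j).eq.symm
    let N := normalizer ((P : Subgroup G) : Set G)
    set m := ((P : Subgroup G).subgroupOf N).index
    have h2 : g ^ m ∈ centralizer ((P : Subgroup G) : Set G) :=
      hPC (mem_subgroupOf.mp (((P : Subgroup G).subgroupOf N).pow_index_mem ⟨g, hgN⟩))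
    have hcop : Nat.Coprime (p ^ e) m := Nat.Coprime.pow_left e ((Fact.out : p.Prime).coprime_iff_not_dvd.mpr
      fun h => P.not_dvd_index (h.trans (by
        rw [← relIndex_mul_index (le_normalizer (H := (P : Subgroup G)))]
        exact dvd_mul_right _ _)))
    obtain ⟨a, b, hab⟩ := Nat.isCoprime_iff_coprime.mpr hcop
    rw [← zpow_one g, ← hab, zpow_add, mul_comm a, mul_comm b, zpow_mul, zpow_mul, zpow_natCast, zpow_natCast]
    exact mul_mem (zpow_mem h1 a) (zpow_mem h2 b)
  · intro hw g hg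
    by_contra hne
    refine hg ?_
    obtain ⟨x, ⟨hx, hx2⟩, hx1⟩ := SetLike.exists_of_lt (bot_lt_iff_ne_bot.mpr hne)
    have hxS : x ∈ ((g • P : Sylow p G) : Subgroup G) := hx2
    have hgP : ((g • P : Sylow p G) : Subgroup G) ≤ centralizer {x} := by
      obtain ⟨y, hy, hyx⟩ := hx2
      rintro _ ⟨a, ha, rfl⟩
      rw [mem_centralizer_singleton_iff, ← hyx]
      show g * a * g⁻¹ * (g * y * g⁻¹) = g * y * g⁻¹ * (g * a * g⁻¹)
      have := mem_centralizer_iff.mp (hPC ha) y hy
      calc g * a * g⁻¹ * (g * y * g⁻¹) = g * (a * y) * g⁻¹ := by group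
        _ = g * (y * a) * g⁻¹ := by rw [this]
        _ = g * y * g⁻¹ * (g * a * g⁻¹) := by group
    rw [hw x hx (fun e => hx1 (e ▸ one_mem _))] at hgP
    refine Sylow.smul_eq_iff_mem_normalizer.mp (Sylow.ext ?_)
    refine ((g • P : Sylow p G).is_maximal' ?_ le_sup_left).symm.trans (P.is_maximal' ?_ le_sup_right) <;>
    exact (g • P : Sylow p G).isPGroup'.to_sup_of_normal_right' P.isPGroup' (hgP.trans (centralizer_le_normalizer _))

end Cfsg.Agent.S3985
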