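import Cfsg.Statements.S3986
import Mathlib.Tactic.Group
import Mathlib.GroupTheory.Nilpotent
import Mathlib.GroupTheory.SchurZassenhaus
-- import your own Cfsg.Agent.* helpers here

set_option autoImplicit false
open Cfsg

namespace Cfsg.Agent.S3986

open Subgroup

/-- Let p be a prime and G a finite group. Then some Sylow p-subgroup of G is a direct factor of G (it is normal and has a normal complement) if and only if every element of p-power order commutes with every element whose order is a power of a prime other than p. -/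
theorem result {G : Type*} [Group G] [Finite G] (p : ℕ) [Fact p.Prime] : (∃ (P : Sylow p G) (K : Subgroup G), (P : Subgroup G).Normal ∧ K.Normal ∧ (P : Subgroup G) ⊓ K = ⊥ ∧ (P : Subgroup G) ⊔ K = ⊤) ↔ ∀ x y : G, (∃ a : ℕ, orderOf x = p ^ a) → (∃ q b : ℕ, q.Prime ∧ q ≠ p ∧ orderOf y = q ^ b) → x * y = y * x := by
  constructor
  · rintro ⟨P, K, hPn, hKn, hbot, htop⟩ x y ⟨a, ha⟩ ⟨q, b, hq, hqp, hb⟩
    have hxP : x ∈ (P : Subgroup G) := by
      obtain ⟨S, hS⟩ := (IsPGroup.of_card (G := zpowers x) (n := a) (by rw [Nat.card_zpowers, ha])).exists_le_sylow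
      have : Subsingleton (Sylow p G) := (Sylow.unique_of_normal P hPn).instSubsingleton
      rw [Subsingleton.elim P S]
      exact hS (mem_zpowers x)
    have hyK : y ∈ K := by
      rw [← QuotientGroup.eq_one_iff, ← orderOf_eq_one_iff]
      obtain ⟨k, hk⟩ := IsPGroup.iff_card.mp P.isPGroup'
      have hidx : K.index = p ^ k := by
        have hc : IsComplement' K (P : Subgroup G) := isComplement'_of_disjoint_and_mul_eq_univ
          (disjoint_iff.mpr (inf_comm (P : Subgroup G) K ▸ hbot)) (by rw [← normal_mul, sup_comm, htop, coe_top])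
        rw [hc.symm.index_eq_card, hk]
      refine Nat.eq_one_of_dvd_coprimes (Nat.Coprime.pow b k ((Nat.coprime_primes hq Fact.out).mpr hqp))
        (hb ▸ orderOf_map_dvd (QuotientGroup.mk' K) y) ?_
      rw [← hidx, Subgroup.index_eq_card]
      exact orderOf_dvd_natCard _
    exact commute_of_normal_of_disjoint _ _ hPn hKn (disjoint_iff.mpr hbot) x y hxP hyK
  · intro h
    obtain ⟨P⟩ : Nonempty (Sylow p G) := inferInstance
    set C := centralizer ((P : Subgroup G) : Set G)
    have hQC : ∀ (q : ℕ) [Fact q.Prime], q ≠ p → ∀ Q : Sylow q G, (Q : Subgroup G) ≤ C := by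
      intro q hq hqp Q y hy
      rw [mem_centralizer_iff]
      intro x hx
      obtain ⟨a, ha⟩ := IsPGroup.iff_orderOf.mp P.isPGroup' ⟨x, hx⟩
      obtain ⟨b, hb⟩ := IsPGroup.iff_orderOf.mp Q.isPGroup' ⟨y, hy⟩
      exact h x y ⟨a, by rw [← ha, orderOf_mk]⟩ ⟨q, b, hq.out, hqp, by rw [← hb, orderOf_mk]⟩
    have hPn : (P : Subgroup G).Normal := by
      rw [← normalizer_eq_top_iff, ← card_eq_iff_eq_top]
      refine Nat.dvd_antisymm (Subgroup.card_subgroup_dvd_card _) ?_
      refine (Nat.dvd_iff_prime_pow_dvd_dvd _ _).mpr fun q k hq hk => ?_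
      have := Fact.mk hq
      rcases eq_or_ne q p with rfl | hqp
      · exact (P.pow_dvd_card_of_pow_dvd_card hk).trans (card_dvd_of_le le_normalizer)
      · obtain ⟨Q⟩ : Nonempty (Sylow q G) := inferInstance
        exact (Q.pow_dvd_card_of_pow_dvd_card hk).trans
          (card_dvd_of_le ((hQC q hqp Q).trans (centralizer_le_normalizer _)))
    obtain ⟨K, hK⟩ := exists_right_complement'_of_coprime P.card_coprime_index
    have hKC : K ≤ C := by
      rw [← subgroupOf_eq_top, ← card_eq_iff_eq_top]
      refine Nat.dvd_antisymm (Subgroup.card_subgroup_dvd_card _) ?_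
      refine (Nat.dvd_iff_prime_pow_dvd_dvd _ _).mpr fun q k hq hk => ?_
      have := Fact.mk hq
      rcases Nat.eq_zero_or_pos k with hk0 | hkpos
      · simp [hk0]
      have hqp : q ≠ p := fun e => P.not_dvd_index (by
        rw [hK.symm.index_eq_card]
        exact e ▸ (dvd_pow_self q hkpos.ne').trans hk)
      obtain ⟨R⟩ : Nonempty (Sylow q K) := inferInstance
      obtain ⟨Q, hQ⟩ := (R.isPGroup'.map K.subtype).exists_le_sylow
      exact (R.pow_dvd_card_of_pow_dvd_card hk).trans
        (card_dvd_of_le fun x hx => mem_subgroupOf.mpr (hQC q hqp Q (hQ (mem_map_of_mem _ hx))))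
    have hsup : (P : Subgroup G) ⊔ K = ⊤ := hK.sup_eq_top
    have hKn : K.Normal := by
      rw [← normalizer_eq_top_iff, eq_top_iff, ← hsup]
      refine sup_le (fun x hx => centralizer_le_normalizer _ ?_) le_normalizer
      exact mem_centralizer_iff.mpr fun k hk => (mem_centralizer_iff.mp (hKC hk) x hx).symm
    exact ⟨P, K, hPn, hKn, hK.disjoint.eq_bot, hsup⟩

end Cfsg.Agent.S3986
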