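import Cfsg.Statements.S3987
import Cfsg.Agent.Lib.Coprime.Action
import Mathlib.GroupTheory.Index
-- import your own Cfsg.Agent.* helpers here

set_option autoImplicit false
open Cfsg

namespace Cfsg.Agent.S3987

theorem centralizer_index_mul {G : Type*} [Group G] [Finite G] {x y : G}
    (h : (Subgroup.centralizer ({x * y} : Set G)).index =
      (Subgroup.centralizer ({x} : Set G)).index * (Subgroup.centralizer ({y} : Set G)).index) :
    Commute x y := by
  set Cx := Subgroup.centralizer ({x} : Set G)
  set Cy := Subgroup.centralizer ({y} : Set G)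
  set Cxy := Subgroup.centralizer ({x * y} : Set G)
  have hle : Cx ⊓ Cy ≤ Cxy := by
    intro g hg
    have h1 : x * g = g * x := Subgroup.mem_centralizer_iff.mp hg.1 x rfl
    have h2 : y * g = g * y := Subgroup.mem_centralizer_iff.mp hg.2 y rfl
    rw [Subgroup.mem_centralizer_iff]
    simp only [Set.mem_singleton_iff, forall_eq]
    rw [mul_assoc, h2, ← mul_assoc, h1, mul_assoc]
  have h1 : (Cx ⊓ Cy).index ≤ Cxy.index := h ▸ Subgroup.index_inf_le
  have h2 : Cxy.index ≤ (Cx ⊓ Cy).index := Nat.le_of_dvd
    (Nat.pos_of_ne_zero Subgroup.index_ne_zero_of_finite) (Subgroup.index_dvd_of_le hle)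
  have h3 : Nat.card Cxy = Nat.card ↥(Cx ⊓ Cy) := by
    apply Nat.eq_of_mul_eq_mul_right (Nat.pos_of_ne_zero (Subgroup.index_ne_zero_of_finite (H := Cxy)))
    rw [Subgroup.card_mul_index, le_antisymm h2 h1, Subgroup.card_mul_index]
  have h4 := Subgroup.eq_of_le_of_card_ge hle h3.le
  have h5 : x * y ∈ Cx ⊓ Cy := h4.ge (Subgroup.mem_centralizer_iff.mpr (by simp))
  have h6 : x * (x * y) = (x * y) * x := Subgroup.mem_centralizer_iff.mp h5.1 x rfl
  rw [mul_assoc, mul_right_inj] at h6
  exact h6

theorem mem_of_coprime {G : Type*} [Group G] [Finite G] (N : Subgroup G) [N.Normal] {g : G}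
    (h : (orderOf g).Coprime N.index) : g ∈ N := by
  rw [← QuotientGroup.eq_one_iff, ← orderOf_eq_one_iff]
  refine Nat.eq_one_of_dvd_coprimes h ?_ ?_
  · exact orderOf_map_dvd (QuotientGroup.mk' N) g
  · rw [Subgroup.index_eq_card]; exact orderOf_dvd_natCard _


/-- Let p be a prime and G a finite group. Then some Sylow p-subgroup of G is a direct factor of G (normal with a normal complement) if and only if for every element x of p-power order and every element y whose order is a power of a prime other than p, the conjugacy class of x y has as many elements as the product of the sizes of the classes of x and of y. -/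
theorem result {G : Type*} [Group G] [Finite G] (p : ℕ) [Fact p.Prime] : (∃ (P : Sylow p G) (K : Subgroup G), (P : Subgroup G).Normal ∧ K.Normal ∧ (P : Subgroup G) ⊓ K = ⊥ ∧ (P : Subgroup G) ⊔ K = ⊤) ↔ ∀ x y : G, (∃ a : ℕ, orderOf x = p ^ a) → (∃ q b : ℕ, q.Prime ∧ q ≠ p ∧ orderOf y = q ^ b) → (Subgroup.centralizer ({x * y} : Set G)).index = (Subgroup.centralizer ({x} : Set G)).index * (Subgroup.centralizer ({y} : Set G)).index := by
  classical
  have hp := (Fact.out : p.Prime)
  constructor
  · rintro ⟨P, K, hPn, hKn, hPK, hsup⟩ x y ⟨a, ha⟩ ⟨q, b, hq, hqp, hb⟩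
    have := hPn
    have := hKn
    have hdis : Disjoint (P : Subgroup G) K := disjoint_iff.mpr hPK
    have hcomp : Subgroup.IsComplement' (P : Subgroup G) K :=
      Subgroup.isComplement'_of_disjoint_and_mul_eq_univ hdis (by rw [← Subgroup.normal_mul, hsup]; rfl)
    obtain ⟨n, hn⟩ := IsPGroup.iff_card.mp P.isPGroup'
    have hKi : K.index = p ^ n := by rw [hcomp.index_eq_card, hn]
    have hPi : (P : Subgroup G).index = Nat.card K := hcomp.symm.index_eq_card
    have hxP : x ∈ (P : Subgroup G) := by
      refine mem_of_coprime _ ?_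
      rw [ha]
      exact Nat.Coprime.pow_left a (hp.coprime_iff_not_dvd.mpr P.not_dvd_index)
    have hyK : y ∈ K := by
      refine mem_of_coprime _ ?_
      rw [hb, hKi]
      exact Nat.Coprime.pow b n ((Nat.coprime_primes hq hp).mpr hqp)
    have hcomm : ∀ u ∈ (P : Subgroup G), ∀ v ∈ K, Commute u v := fun u hu v hv =>
      Subgroup.commute_of_normal_of_disjoint _ _ hPn hKn hdis u v hu hv
    set Cx := Subgroup.centralizer ({x} : Set G)
    set Cy := Subgroup.centralizer ({y} : Set G)
    have hK : K ≤ Cx := fun v hv => Subgroup.mem_centralizer_iff.mpr (by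
      simp only [Set.mem_singleton_iff, forall_eq]; exact (hcomm x hxP v hv).eq)
    have hP : (P : Subgroup G) ≤ Cy := fun u hu => Subgroup.mem_centralizer_iff.mpr (by
      simp only [Set.mem_singleton_iff, forall_eq]; exact (hcomm u hu y hyK).eq.symm)
    have heq : Subgroup.centralizer ({x * y} : Set G) = Cx ⊓ Cy := by
      apply le_antisymm
      · intro g hg
        have hg' : x * y * g = g * (x * y) := Subgroup.mem_centralizer_iff.mp hg _ rfl
        have h1 : g * x * g⁻¹ * (g * y * g⁻¹) = x * y := by
          simp only [mul_assoc, inv_mul_cancel_left]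
          rw [← mul_assoc g x, ← mul_assoc (g * x), mul_assoc g x, ← hg', mul_inv_cancel_right]
        have h2 : x⁻¹ * (g * x * g⁻¹) = y * (g * y * g⁻¹)⁻¹ := by
          rw [eq_mul_inv_iff_mul_eq, mul_assoc, h1, inv_mul_cancel_left]
        have h3 : x⁻¹ * (g * x * g⁻¹) ∈ (P : Subgroup G) ⊓ K :=
          ⟨(P : Subgroup G).mul_mem ((P : Subgroup G).inv_mem hxP) (hPn.conj_mem x hxP g),
            h2 ▸ K.mul_mem hyK (K.inv_mem (hKn.conj_mem y hyK g))⟩
        rw [hPK, Subgroup.mem_bot] at h3
        have h4 : g * y * g⁻¹ = y := (mul_inv_eq_one.mp (h2.symm.trans h3)).symm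
        refine ⟨Subgroup.mem_centralizer_iff.mpr ?_, Subgroup.mem_centralizer_iff.mpr ?_⟩ <;>
          simp only [Set.mem_singleton_iff, forall_eq]
        · exact (mul_inv_eq_iff_eq_mul.mp (inv_mul_eq_one.mp h3).symm).symm
        · exact (mul_inv_eq_iff_eq_mul.mp h4).symm
      · intro g hg
        have h1 : x * g = g * x := Subgroup.mem_centralizer_iff.mp hg.1 x rfl
        have h2 : y * g = g * y := Subgroup.mem_centralizer_iff.mp hg.2 y rfl
        rw [Subgroup.mem_centralizer_iff]
        simp only [Set.mem_singleton_iff, forall_eq]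
        rw [mul_assoc, h2, ← mul_assoc, h1, mul_assoc]
    rw [heq]
    refine le_antisymm Subgroup.index_inf_le (Nat.le_of_dvd
      (Nat.pos_of_ne_zero Subgroup.index_ne_zero_of_finite) ?_)
    refine Nat.Coprime.mul_dvd_of_dvd_of_dvd ?_ (Subgroup.index_dvd_of_le inf_le_left)
      (Subgroup.index_dvd_of_le inf_le_right)
    have hcop : (K.index).Coprime (P : Subgroup G).index := by
      rw [hKi]
      exact Nat.Coprime.pow_left n (hp.coprime_iff_not_dvd.mpr P.not_dvd_index)
    exact (hcop.coprime_dvd_left (Subgroup.index_dvd_of_le hK)).coprime_dvd_right (Subgroup.index_dvd_of_le hP)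
  · intro h
    obtain ⟨P⟩ : Nonempty (Sylow p G) := inferInstance
    set C := Subgroup.centralizer ((P : Subgroup G) : Set G) with hC
    have hCi : ∀ q : ℕ, q.Prime → q ≠ p → ¬ q ∣ C.index := by
      intro q hq hqp
      have : Fact q.Prime := ⟨hq⟩
      obtain ⟨R⟩ : Nonempty (Sylow q G) := inferInstance
      have hR : (R : Subgroup G) ≤ C := by
        intro y hy
        rw [hC, Subgroup.mem_centralizer_iff]
        intro x hx
        obtain ⟨a, ha⟩ := IsPGroup.iff_orderOf.mp P.isPGroup' ⟨x, hx⟩
        obtain ⟨b, hb⟩ := IsPGroup.iff_orderOf.mp R.isPGroup' ⟨y, hy⟩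
        rw [Subgroup.orderOf_mk] at ha hb
        exact (centralizer_index_mul (h x y ⟨a, ha⟩ ⟨q, b, hq, hqp, hb⟩)).eq
      exact fun hd => R.not_dvd_index (hd.trans (Subgroup.index_dvd_of_le hR))
    have htop : (P : Subgroup G) ⊔ C = ⊤ := by
      rw [← Subgroup.index_eq_one]
      by_contra hne
      obtain ⟨q, hq, hqd⟩ := Nat.exists_prime_and_dvd hne
      by_cases hqp : q = p
      · rw [hqp] at hqd
        exact P.not_dvd_index (hqd.trans (Subgroup.index_dvd_of_le le_sup_left))
      · exact hCi q hq hqp (hqd.trans (Subgroup.index_dvd_of_le le_sup_right))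
    have hPn : (P : Subgroup G).Normal := by
      rw [← Subgroup.normalizer_eq_top_iff, eq_top_iff, ← htop]
      exact sup_le Subgroup.le_normalizer (Subgroup.centralizer_le_normalizer _)
    obtain ⟨L, hL⟩ := Subgroup.exists_right_complement'_of_coprime P.card_coprime_index
    have hLC : L ≤ C := by
      intro l hl
      refine mem_of_coprime C (Nat.coprime_of_dvd fun q hq h1 h2 => ?_)
      by_cases hqp : q = p
      · rw [hqp] at h1
        exact P.not_dvd_index (hL.symm.index_eq_card.symm ▸
          (h1.trans (Subgroup.orderOf_dvd_natCard _ hl)))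
      · exact hCi q hq hqp h2
    have hsup : (P : Subgroup G) ⊔ L = ⊤ := hL.sup_eq_top
    refine ⟨P, L, hPn, ?_, disjoint_iff.mp hL.disjoint, hsup⟩
    rw [← Subgroup.normalizer_eq_top_iff, eq_top_iff, ← hsup]
    refine sup_le ?_ Subgroup.le_normalizer
    exact (Subgroup.le_centralizer_iff.mp hLC).trans (Subgroup.centralizer_le_normalizer _)

end Cfsg.Agent.S3987
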