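import Cfsg.Statements.S3989
import Cfsg.Agent.Lib.Core.PSolvable
import Cfsg.Agent.Lib.Fusion.Alperin
import Mathlib.GroupTheory.Sylow

set_option autoImplicit false
open Cfsg

namespace Cfsg.Agent.S3989

universe u

open Subgroup

/-- The hypothesis on class products. -/
def ClassMul (p : ℕ) (G : Type u) [Group G] : Prop :=
  ∀ x y : G, (∃ a : ℕ, orderOf x = p ^ a) → (∃ q b : ℕ, q.Prime ∧ q ≠ p ∧ orderOf y = q ^ b) →
    ∀ z : G, IsConj (x * y) z ↔ ∃ a b : G, z = a * x * a⁻¹ * (b * y * b⁻¹)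

/-- A prime power order element of a quotient lifts to one of order a power of the same prime. -/
theorem lift_prime_pow {G Q : Type u} [Group G] [Finite G] [Group Q] (π : G →* Q)
    (hπ : Function.Surjective π) {r : ℕ} (hr : r.Prime) {x : Q} {a : ℕ} (hx : orderOf x = r ^ a) :
    ∃ x' : G, (∃ b, orderOf x' = r ^ b) ∧ π x' = x := by
  haveI : Fact r.Prime := ⟨hr⟩
  obtain ⟨g, rfl⟩ := hπ x
  obtain ⟨b, m, hm, hbm⟩ := Nat.exists_eq_pow_mul_and_not_dvd (orderOf_pos g).ne' r hr.ne_one
  have hcop : (orderOf (π g)).Coprime m := by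
    rw [hx]; exact ((hr.coprime_iff_not_dvd).2 hm).pow_left a
  obtain ⟨k, hk⟩ := exists_pow_eq_self_of_coprime hcop.symm
  have hgm : (g ^ m) ^ r ^ b = 1 := by rw [← pow_mul, mul_comm, ← hbm, pow_orderOf_eq_one]
  refine ⟨(g ^ m) ^ k, ?_, by rw [map_pow, map_pow]; exact hk⟩
  obtain ⟨c, -, hc⟩ := (Nat.dvd_prime_pow hr).1
    (orderOf_dvd_of_pow_eq_one (show ((g ^ m) ^ k) ^ r ^ b = 1 by
      rw [← pow_mul, mul_comm, pow_mul, hgm, one_pow]))
  exact ⟨c, hc⟩

theorem ClassMul.quotient {p : ℕ} [Fact p.Prime] {G : Type u} [Group G] [Finite G]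
    (h : ClassMul p G) (N : Subgroup G) [N.Normal] : ClassMul p (G ⧸ N) := by
  intro x y ⟨a, hx⟩ ⟨q, b, hq, hqp, hy⟩ z
  have hπ := QuotientGroup.mk'_surjective N
  set π := QuotientGroup.mk' N
  obtain ⟨x', hx', rfl⟩ := lift_prime_pow π hπ (Fact.out : p.Prime) hx
  obtain ⟨y', ⟨b', hy'⟩, rfl⟩ := lift_prime_pow π hπ hq hy
  constructor
  · intro hz
    obtain ⟨c, hc⟩ := isConj_iff.1 hz
    obtain ⟨c', rfl⟩ := hπ c
    refine ⟨π c', π c', ?_⟩
    rw [← hc]; group
  · rintro ⟨u, v, rfl⟩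
    obtain ⟨u', rfl⟩ := hπ u
    obtain ⟨v', rfl⟩ := hπ v
    obtain ⟨c, hc⟩ := isConj_iff.1
      ((h x' y' hx' ⟨q, b', hq, hqp, hy'⟩ (u' * x' * u'⁻¹ * (v' * y' * v'⁻¹))).2 ⟨u', v', rfl⟩)
    refine isConj_iff.2 ⟨π c, ?_⟩
    simpa using congrArg π hc

/-- If `x * y` is conjugate to `y` then the normal closure of `x` stabilises the class of `y`. -/
theorem not_mem_normalClosure {p : ℕ} {G : Type u} [Group G] [Finite G] (h : ClassMul p G) {x y : G}
    (hx : ∃ a : ℕ, orderOf x = p ^ a) (hy : ∃ q b : ℕ, q.Prime ∧ q ≠ p ∧ orderOf y = q ^ b)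
    (hy1 : y ≠ 1) (hconj : IsConj (x * y) y) : y ∉ normalClosure ({x} : Set G) := by
  classical
  intro hyN
  let S : Set G := {w | IsConj y w}
  let K : Subgroup G :=
    { carrier := {n | ∀ w, n * w ∈ S ↔ w ∈ S}
      one_mem' := fun w => by simp
      mul_mem' := fun {m n} hm hn w => by rw [mul_assoc, hm, hn]
      inv_mem' := fun {n} hn w => by rw [← hn (n⁻¹ * w), mul_inv_cancel_left] }
  have hsub : ∀ g : G, g * x * g⁻¹ ∈ K := by
    intro g
    have hmap : ∀ w ∈ S, g * x * g⁻¹ * w ∈ S := by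
      intro w hw
      obtain ⟨v, rfl⟩ := isConj_iff.1 hw
      exact hconj.symm.trans ((h x y hx hy _).2 ⟨g, v, rfl⟩)
    intro w
    refine ⟨fun hw => ?_, hmap w⟩
    let f : S → S := fun s => ⟨g * x * g⁻¹ * s, hmap s s.2⟩
    have hf : Function.Injective f := fun s t hst =>
      Subtype.ext (mul_left_cancel (congrArg Subtype.val hst))
    obtain ⟨⟨s, hs⟩, hst⟩ := (Finite.injective_iff_surjective.1 hf) ⟨_, hw⟩
    have : s = w := mul_left_cancel (congrArg Subtype.val hst)
    exact this ▸ hs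
  have hle : normalClosure ({x} : Set G) ≤ K := by
    rw [normalClosure, closure_le]
    intro z hz
    obtain ⟨a, ha, hz⟩ := Group.mem_conjugatesOfSet_iff.1 hz
    rw [Set.mem_singleton_iff] at ha
    rw [ha] at hz
    obtain ⟨c, rfl⟩ := isConj_iff.1 hz
    exact hsub c
  have := ((K.inv_mem (hle hyN)) y).2 (IsConj.refl y)
  rw [inv_mul_cancel] at this
  obtain ⟨c, hc⟩ := isConj_iff.1 this
  exact hy1 (conj_eq_one_iff.1 hc)

theorem main (p : ℕ) [Fact p.Prime] : ∀ (n : ℕ) (G : Type u) [Group G] [Finite G], Nat.card G = n →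
    ClassMul p G → Cfsg.IsPSolvable p G := by
  intro n
  induction n using Nat.strong_induction_on with
  | _ n ih =>
  intro G _ _ hn h
  classical
  rcases subsingleton_or_nontrivial G with hs | hs
  · exact (Cfsg.Lib.Core.isPSolvable_iff p).2 (Cfsg.Lib.Core.HasFactorChain.of_subsingleton _)
  obtain ⟨N, hN⟩ := Cfsg.Lib.Core.exists_isMinNormal_univ (G := G)
  haveI := hN.1
  have hlt : Nat.card (G ⧸ N) < n := by
    rw [← hn, ← index_eq_card, ← index_mul_card N]
    exact lt_mul_of_one_lt_right (Nat.pos_of_ne_zero index_ne_zero_of_finite)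
      ((one_lt_card_iff_ne_bot N).2 hN.2.1)
  have hq := ih _ hlt _ rfl (h.quotient N)
  refine (Cfsg.Lib.Core.isPSolvable_iff p).2
    (Cfsg.Lib.Core.HasFactorChain.extension N ?_ ((Cfsg.Lib.Core.isPSolvable_iff p).1 hq))
  by_contra hPF
  -- `N` has no normal p-complement
  have hnc : ¬ Cfsg.HasNormalPComplement p N := by
    intro hc
    have hR := Cfsg.Lib.Fusion.hasNormalPComplement_iff_coprime.1 hc
    set R : Subgroup G := (Cfsg.pResidual p N).map N.subtype with hRdef
    haveI : (Cfsg.pResidual p N).Characteristic := characteristic_iff_comap_eq.2 fun φ => by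
      ext g
      rw [mem_comap, Cfsg.Lib.Fusion.mem_pResidual_iff_coprime hc,
        Cfsg.Lib.Fusion.mem_pResidual_iff_coprime hc]
      simp [orderOf_injective φ.toMonoidHom φ.injective g]
    haveI hRn : R.Normal := ConjAct.normal_of_characteristic_of_normal
    rcases hN.inf_eq_bot_or_le R with hb | hb
    · have hb' : Cfsg.pResidual p N = ⊥ := by
        have : R = ⊥ := eq_bot_iff.2 (hb ▸ le_inf (map_subtype_le _) le_rfl)
        exact (map_eq_bot_iff_of_injective _ N.subtype_injective).1 this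
      apply hPF
      left
      obtain ⟨P⟩ : Nonempty (Sylow p N) := inferInstance
      have hc' := Cfsg.Lib.Fusion.isComplement'_pResidual hc P
      rw [hb'] at hc'
      have htop := hc'.sup_eq_top
      rw [bot_sup_eq] at htop
      obtain ⟨k, hk⟩ := IsPGroup.iff_card.1 P.isPGroup'
      exact ⟨k, by rw [← hk, htop, card_top]⟩
    · apply hPF
      right
      have htop : Cfsg.pResidual p N = ⊤ := eq_top_iff.2 fun y _ => by
        obtain ⟨y', hy', he⟩ := mem_map.1 (hb y.2)
        exact (Subtype.ext he : y' = y) ▸ hy'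
      rwa [htop, card_top] at hR
  -- hence some p-subgroup of `N` is acted on nontrivially by an element of prime power order
  obtain ⟨P⟩ : Nonempty (Sylow p N) := inferInstance
  have hex : ∃ (U : Subgroup N) (y : N), IsPGroup p U ∧ y ∈ normalizer (U : Set N) ∧
      y ∉ centralizer (U : Set N) ∧ ∃ q b : ℕ, q.Prime ∧ q ≠ p ∧ orderOf y = q ^ b := by
    by_contra hno
    push Not at hno
    refine hnc (Cfsg.Lib.Fusion.hasNormalPComplement_of_tame P fun Q _ x hx hxp => ?_)
    set U : Subgroup N := (P : Subgroup N) ⊓ (Q : Subgroup N)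
    have hU : IsPGroup p U := P.isPGroup'.to_le inf_le_left
    set C : Subgroup N := centralizer (U : Set N)
    have hone : C.relIndex (zpowers x) = 1 := by
      refine Nat.eq_one_iff_not_exists_prime_dvd.2 fun q hq hqd => ?_
      haveI : Fact q.Prime := ⟨hq⟩
      have hqp : q ≠ p := fun he => by
        have hdvd : q ∣ orderOf x := by
          rw [← Nat.card_zpowers]
          exact hqd.trans (relIndex_dvd_card _ _)
        exact (Nat.Prime.coprime_iff_not_dvd (Fact.out : p.Prime)).1 hxp.symm (he ▸ hdvd)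
      obtain ⟨T⟩ : Nonempty (Sylow q (zpowers x)) := inferInstance
      have hT : (T : Subgroup (zpowers x)) ≤ C.subgroupOf (zpowers x) := by
        intro t ht
        rw [mem_subgroupOf]
        obtain ⟨b, hb⟩ := IsPGroup.iff_orderOf.1 T.isPGroup' ⟨t, ht⟩
        by_contra hnot
        refine hno U (t : N) hU ((zpowers_le.2 hx) t.2) hnot q b hq hqp ?_
        rw [Subgroup.orderOf_coe]
        rw [← Subgroup.orderOf_coe] at hb
        exact hb
      exact T.not_dvd_index (hqd.trans (index_dvd_of_le hT))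
    exact (relIndex_eq_one.1 hone) (mem_zpowers x)
  obtain ⟨U, y, hU, hyU, hyC, q, b, hq, hqp, hy⟩ := hex
  rw [mem_centralizer_iff] at hyC
  push Not at hyC
  obtain ⟨a, ha, hay⟩ := hyC
  set x : N := a * y * a⁻¹ * y⁻¹ with hxdef
  have hxU : x ∈ U := by
    have h1 : y * a⁻¹ * y⁻¹ ∈ U := (mem_normalizer_iff.1 hyU _).1 (U.inv_mem ha)
    have : x = a * (y * a⁻¹ * y⁻¹) := by rw [hxdef]; group
    rw [this]; exact U.mul_mem ha h1
  have hx1 : x ≠ 1 := fun he => hay (by
    rw [hxdef, mul_inv_eq_one, mul_inv_eq_iff_eq_mul] at he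
    exact he)
  obtain ⟨c, hc⟩ := IsPGroup.iff_orderOf.1 hU ⟨x, hxU⟩
  have hxord : orderOf (x : G) = p ^ c := by
    rw [← hc, ← Subgroup.orderOf_coe (⟨x, hxU⟩ : U), ← Subgroup.orderOf_coe x]
  have hy1 : (y : G) ≠ 1 := fun he => hay (by
    have : y = 1 := Subtype.ext he
    rw [this, mul_one, one_mul])
  refine not_mem_normalClosure h ⟨c, hxord⟩ ⟨q, b, hq, hqp, by rw [Subgroup.orderOf_coe, hy]⟩ hy1
    (isConj_iff.2 ⟨(a : G)⁻¹, ?_⟩) ?_
  · simp [hxdef, mul_assoc]
  · have hle : normalClosure ({(x : G)} : Set G) ≤ N := normalClosure_le_normal (by simp)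
    rcases hN.inf_eq_bot_or_le (normalClosure ({(x : G)} : Set G)) with hb | hb
    · exact absurd (Subtype.ext (mem_bot.1 (hb ▸ mem_inf.2
        ⟨x.2, subset_normalClosure (Set.mem_singleton _)⟩))) hx1
    · exact hb y.2


/-- Let p be a prime and G a finite group such that for every element x of p-power order and every element y whose order is a power of a prime other than p, the conjugacy class of x y is the set of all products of a conjugate of x with a conjugate of y. Then G is p-solvable. -/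
theorem result {G : Type*} [Group G] [Finite G] (p : ℕ) [Fact p.Prime] (h : ∀ x y : G, (∃ a : ℕ, orderOf x = p ^ a) → (∃ q b : ℕ, q.Prime ∧ q ≠ p ∧ orderOf y = q ^ b) → ∀ z : G, IsConj (x * y) z ↔ ∃ a b : G, z = a * x * a⁻¹ * (b * y * b⁻¹)) : Cfsg.IsPSolvable p G := by
  exact main p _ G rfl h

end Cfsg.Agent.S3989
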