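import Cfsg.Statements.S3992
import Cfsg.Agent.S1475
import Cfsg.Agent.Lib.Core.PSolvable
import Cfsg.Agent.Lib.Core.Cores
import Cfsg.Agent.Lib.Solv.FixedPointFree
-- import your own Cfsg.Agent.* helpers here

set_option autoImplicit false
open Cfsg

namespace Cfsg.Agent.S3992

open Subgroup Cfsg.Lib.Core
open scoped commutatorElement

universe u

/-- Commuting elements have orders powers of the same prime. -/
theorem eq_of_commute {G : Type*} [Group G] [Finite G] (hpp : ∀ g : G, g ≠ 1 → IsPrimePow (orderOf g))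
    {p q : ℕ} [Fact p.Prime] [Fact q.Prime] {a b : G} (ha : orderOf a = p) (hb : orderOf b = q)
    (h : Commute a b) : p = q := by
  have hp := (Fact.out : p.Prime)
  have hq := (Fact.out : q.Prime)
  by_contra hne
  have ho : orderOf (a * b) = p * q := by
    rw [h.orderOf_mul_eq_mul_orderOf_of_coprime (by rw [ha, hb]; exact (Nat.coprime_primes hp hq).2 hne), ha, hb]
  obtain ⟨w, n, hw, -, hwn⟩ := hpp (a * b) (fun e => by
    rw [e, orderOf_one] at ho; exact hp.ne_one (Nat.eq_one_of_mul_eq_one_right ho.symm))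
  rw [ho] at hwn
  have hw' : w.Prime := Nat.prime_iff.mpr hw
  exact hne (((Nat.prime_dvd_prime_iff_eq hp hw').mp (hp.dvd_of_dvd_pow (hwn ▸ dvd_mul_right p q))).trans
    ((Nat.prime_dvd_prime_iff_eq hq hw').mp (hq.dvd_of_dvd_pow (hwn ▸ dvd_mul_left q p))).symm)

/-- Two non-solvable subgroups cannot centralize each other with trivial intersection. -/
theorem not_commute {G : Type*} [Group G] [Finite G] (hpp : ∀ g : G, g ≠ 1 → IsPrimePow (orderOf g))
    {A B : Subgroup G} (hA : ¬ Group.IsSolvable A) (hB : B ≠ ⊥) (hAB : A ≤ centralizer (B : Set G)) : False := by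
  classical
  obtain ⟨q, hq, hqB⟩ := Nat.exists_prime_and_dvd (fun e => hB (card_eq_one.1 e) : Nat.card B ≠ 1)
  haveI := Fact.mk hq
  obtain ⟨⟨b, hb⟩, hbo⟩ := exists_prime_orderOf_dvd_card' (G := B) q hqB
  rw [Subgroup.orderOf_mk] at hbo
  refine hA ?_
  have hqA : IsPGroup q A := by
    rw [IsPGroup.iff_orderOf]
    rintro ⟨y, hy⟩
    rw [Subgroup.orderOf_mk]
    rcases eq_or_ne y 1 with rfl | hy1
    · exact ⟨0, by simp⟩
    obtain ⟨w, n, hw, hn, hwn⟩ := hpp y hy1
    have hw' : w.Prime := Nat.prime_iff.mpr hw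
    haveI := Fact.mk hw'
    have hyw : orderOf (y ^ (orderOf y / w)) = w :=
      orderOf_pow_orderOf_div (orderOf_pos y).ne' (hwn ▸ dvd_pow_self w hn.ne')
    exact ⟨n, by rw [← hwn, eq_of_commute hpp hyw hbo
      ((show Commute b y from mem_centralizer_iff.1 (hAB hy) b hb).symm.pow_left _)]⟩
  haveI := hqA.isNilpotent
  infer_instance

theorem isPrimePow_quotient {G : Type*} [Group G] [Finite G] (hpp : ∀ g : G, g ≠ 1 → IsPrimePow (orderOf g))
    (R : Subgroup G) [R.Normal] (x : G ⧸ R) (hx : x ≠ 1) : IsPrimePow (orderOf x) := by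
  obtain ⟨g, rfl⟩ := QuotientGroup.mk_surjective x
  have hg : g ≠ 1 := fun e => hx (by rw [e]; rfl)
  obtain ⟨w, n, hw, hn, hwn⟩ := hpp g hg
  obtain ⟨j, -, hj⟩ := (Nat.dvd_prime_pow (Nat.prime_iff.mpr hw)).1
    (hwn ▸ orderOf_map_dvd (QuotientGroup.mk' R) g)
  exact ⟨w, j, hw, Nat.pos_of_ne_zero (by rintro rfl; exact hx (orderOf_eq_one_iff.1 (by simpa using hj))), hj.symm⟩

theorem radical_isPGroup {G : Type u} [Group G] [Finite G] (hns : ¬ Group.IsSolvable G)
    (hpp : ∀ g : G, g ≠ 1 → IsPrimePow (orderOf g)) (R : Subgroup G) [hRn : R.Normal] (hRs : Group.IsSolvable R) :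
    ∃ p : ℕ, p.Prime ∧ IsPGroup p R := by
  classical
  rcases eq_or_ne R ⊥ with rfl | hR
  · exact ⟨2, Nat.prime_two, IsPGroup.of_bot⟩
  obtain ⟨V, hV, hVR⟩ := exists_isMinNormal hRn hR
  obtain ⟨hVc, p, hp, -, hVp⟩ := minimal_solvable_elementary hV (isSolvable_of_le hVR hRs)
  haveI := Fact.mk hp
  refine ⟨p, hp, ?_⟩
  set F := Cfsg.pCore p G with hF
  haveI hFn : F.Normal := by rw [hF]; infer_instance
  by_contra hRp
  have hRF : R.map (QuotientGroup.mk' F) ≠ ⊥ := fun h => by
    rw [Subgroup.map_eq_bot_iff, QuotientGroup.ker_mk'] at h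
    exact hRp ((pCore_isPGroup p G).to_le h)
  obtain ⟨Mb, hMb, hMR⟩ := exists_isMinNormal (hRn.map _ (QuotientGroup.mk'_surjective F)) hRF
  haveI := hRs
  obtain ⟨hMc, q, hq, -, hMq⟩ := minimal_solvable_elementary hMb (isSolvable_of_le hMR
    (solvable_of_surjective ((QuotientGroup.mk' F).subgroupMap_surjective R)))
  haveI := Fact.mk hq
  haveI := hMb.1
  set M := Mb.comap (QuotientGroup.mk' F) with hM
  haveI : M.Normal := by rw [hM]; infer_instance
  have hFM : F ≤ M := fun y hy => by
    show QuotientGroup.mk' F y ∈ Mb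
    rw [show QuotientGroup.mk' F y = 1 from (QuotientGroup.eq_one_iff _).2 hy]; exact one_mem _
  have hcardM : Nat.card M = Nat.card F * Nat.card Mb := by
    rw [← card_mul_relIndex hFM]
    congr 1
    rw [show F.relIndex M = ((⊥ : Subgroup (G ⧸ F)).comap (QuotientGroup.mk' F)).relIndex M by
        rw [MonoidHom.comap_bot, QuotientGroup.ker_mk'], relIndex_comap, relIndex_bot_left,
      hM, map_comap_eq_self_of_surjective (QuotientGroup.mk'_surjective F)]
  obtain ⟨e, he⟩ := IsPGroup.iff_card.1 (pCore_isPGroup p G : IsPGroup p F)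
  obtain ⟨f, hf⟩ := IsPGroup.iff_card.1 hMq
  have hf0 : f ≠ 0 := by rintro rfl; exact hMb.2.1 (card_eq_one.1 (by simpa using hf))
  have hqp : q ≠ p := by
    rintro rfl
    have hle : M ≤ F := le_pCore' inferInstance (IsPGroup.of_card (n := e + f) (by rw [hcardM, he, hf, pow_add]))
    refine hMb.2.1 (eq_bot_iff.2 fun y hy => ?_)
    obtain ⟨z, rfl⟩ := QuotientGroup.mk'_surjective F y
    exact (QuotientGroup.eq_one_iff _).2 (hle hy)
  obtain ⟨Q0⟩ : Nonempty (Sylow q M) := inferInstance
  set Q := (Q0 : Subgroup M).map M.subtype with hQ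
  have hQM : Q ≤ M := map_subtype_le _
  have hQq : IsPGroup q Q := Q0.isPGroup'.map _
  have hQF : Q ⊓ F = ⊥ := by
    refine inf_eq_bot_of_coprime ?_
    obtain ⟨a, ha⟩ := IsPGroup.iff_card.1 hQq
    rw [ha, he]
    exact Nat.Coprime.pow _ _ ((Nat.coprime_primes hq hp).2 hqp)
  have hQc : IsMulCommutative Q := by
    refine ⟨⟨fun a b => Subtype.ext ?_⟩⟩
    have h1 : ⁅(a : G), (b : G)⁆ ∈ Q ⊓ F := by
      refine mem_inf.2 ⟨?_, (QuotientGroup.eq_one_iff _).1 ?_⟩
      · rw [commutatorElement_def]
        exact mul_mem (mul_mem (mul_mem a.2 b.2) (inv_mem a.2)) (inv_mem b.2)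
      · show QuotientGroup.mk' F ⁅(a : G), (b : G)⁆ = 1
        rw [map_commutatorElement, commutatorElement_eq_one_iff_mul_comm]
        exact congrArg Subtype.val (hMc.is_comm.comm ⟨_, hQM a.2⟩ ⟨_, hQM b.2⟩)
    rw [hQF, mem_bot] at h1
    exact commutatorElement_eq_one_iff_mul_comm.1 h1
  have hQne : Q ≠ ⊥ := by
    intro h
    have h2 : Nat.card Q = q ^ (Nat.card M).factorization q := by
      rw [hQ, card_map_of_injective (subtype_injective _)]; exact Q0.card_eq_multiplicity
    rw [h, card_bot] at h2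
    have h3 : q ∣ Nat.card M := hcardM ▸ Dvd.dvd.mul_left (hf ▸ dvd_pow_self q hf0) _
    exact hq.not_dvd_one (h2 ▸ dvd_pow_self q ((Nat.Prime.factorization_pos_of_dvd hq Nat.card_pos.ne' h3).ne'))
  haveI := hV.1
  have hfpf : ∀ b ∈ Q, b ≠ 1 → V ⊓ centralizer {b} = ⊥ := by
    intro b hb hb1
    by_contra hne
    obtain ⟨⟨v, hv⟩, hvo⟩ : ∃ v : (V ⊓ centralizer {b} : Subgroup G), orderOf v = p := by
      obtain ⟨a, ha⟩ := IsPGroup.iff_card.1 (hVp.to_le (inf_le_left : V ⊓ centralizer {b} ≤ V))
      exact exists_prime_orderOf_dvd_card' p (ha ▸ dvd_pow_self p (by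
        rintro rfl; exact hne (card_eq_one.1 (by simpa using ha))))
    rw [Subgroup.orderOf_mk] at hvo
    obtain ⟨j, hj⟩ := IsPGroup.iff_orderOf.1 hQq ⟨b, hb⟩
    rw [Subgroup.orderOf_mk] at hj
    have hj0 : j ≠ 0 := by rintro rfl; exact hb1 (orderOf_eq_one_iff.1 (by simpa using hj))
    have hbq : orderOf (b ^ (orderOf b / q)) = q :=
      orderOf_pow_orderOf_div (orderOf_pos b).ne' (hj ▸ dvd_pow_self q hj0)
    exact hqp (eq_of_commute hpp hbq hvo
      ((show Commute v b from mem_centralizer_singleton_iff.1 (mem_inf.1 hv).2).symm.pow_left _))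
  haveI := hVc
  haveI := hQc
  have hcyc : IsCyclic Q := Cfsg.Lib.Solv.isCyclic_of_fpf_abelian hV.2.1
    (fun x _ => by rw [normalizer_eq_top_iff.mpr hV.1]; trivial) hfpf
  have hCq : IsPGroup q (centralizer (Q : Set G)) := by
    rw [IsPGroup.iff_orderOf]
    rintro ⟨y, hy⟩
    rw [Subgroup.orderOf_mk]
    rcases eq_or_ne y 1 with rfl | hy1
    · exact ⟨0, by simp⟩
    obtain ⟨w, n, hw, hn, hwn⟩ := hpp y hy1
    have hw' : w.Prime := Nat.prime_iff.mpr hw
    haveI := Fact.mk hw'
    have hyw : orderOf (y ^ (orderOf y / w)) = w :=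
      orderOf_pow_orderOf_div (orderOf_pos y).ne' (hwn ▸ dvd_pow_self w hn.ne')
    obtain ⟨⟨c, hc⟩, hco⟩ : ∃ c : Q, orderOf c = q := by
      obtain ⟨a, ha⟩ := IsPGroup.iff_card.1 hQq
      exact exists_prime_orderOf_dvd_card' q (ha ▸ dvd_pow_self q (by
        rintro rfl; exact hQne (card_eq_one.1 (by simpa using ha))))
    rw [Subgroup.orderOf_mk] at hco
    exact ⟨n, by rw [← hwn, eq_of_commute hpp hyw hco ((show Commute c y from mem_centralizer_iff.1 hy c hc).symm.pow_left _)]⟩
  haveI := hCq.isNilpotent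
  have hNsol : Group.IsSolvable (normalizer (Q : Set G)) := by
    haveI : Group.IsSolvable (MulAut Q) :=
      solvable_of_surjective (f := (IsCyclic.mulAutMulEquiv Q).symm.toMonoidHom) (MulEquiv.surjective _)
    exact solvable_of_ker_le_range (inclusion (centralizer_le_normalizer _)) (normalizerMonoidHom Q)
      (by rw [normalizerMonoidHom_ker, Subgroup.inclusion_range])
  have hMsol : Group.IsSolvable M := by
    haveI : Group.IsSolvable F := by
      haveI := (pCore_isPGroup p G : IsPGroup p F).isNilpotent; infer_instance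
    haveI : Group.IsSolvable Mb := by
      haveI := hMq.isNilpotent; infer_instance
    haveI : Group.IsSolvable (M.map (QuotientGroup.mk' F)) := isSolvable_of_le (map_comap_le _ _) inferInstance
    exact solvable_of_ker_le_range (inclusion hFM) ((QuotientGroup.mk' F).subgroupMap M)
      (fun y hy => ⟨⟨(y : G), (QuotientGroup.eq_one_iff _).1 (congrArg Subtype.val hy)⟩, rfl⟩)
  refine hns ?_
  have hsup := Sylow.normalizer_sup_eq_top Q0
  rw [← hQ] at hsup
  haveI := hMsol
  haveI := hNsol
  suffices h : Group.IsSolvable (G ⧸ M) by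
    haveI := h
    exact solvable_of_ker_le_range M.subtype (QuotientGroup.mk' M) (by rw [range_subtype, QuotientGroup.ker_mk'])
  refine solvable_of_surjective (f := (QuotientGroup.mk' M).comp (normalizer (Q : Set G)).subtype) fun y => ?_
  obtain ⟨g, rfl⟩ := QuotientGroup.mk'_surjective M y
  have hg : g ∈ normalizer (Q : Set G) ⊔ M := by rw [hsup]; trivial
  obtain ⟨n, hn, m, hm, rfl⟩ := mem_sup_of_normal_right.1 hg
  exact ⟨⟨n, hn⟩, by
    show QuotientGroup.mk' M n = _
    rw [map_mul, show QuotientGroup.mk' M m = 1 from (QuotientGroup.eq_one_iff _).2 hm, mul_one]⟩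

theorem socle {G : Type u} [Group G] [Finite G] [Nontrivial G] (hpp : ∀ g : G, g ≠ 1 → IsPrimePow (orderOf g))
    (hrad : ∀ N : Subgroup G, N.Normal → Group.IsSolvable N → N = ⊥) :
    ∃ M : Subgroup G, M.Normal ∧ IsSimpleGroup M ∧ ¬ IsMulCommutative M ∧
      ∀ N : Subgroup G, N.Normal → N ≠ ⊥ → M ≤ N := by
  classical
  obtain ⟨M, hM⟩ := exists_isMinNormal_univ (G := G)
  haveI := hM.1
  have hMns : ¬ Group.IsSolvable M := fun h => hM.2.1 (hrad M hM.1 h)
  haveI : Nontrivial M := (Subgroup.nontrivial_iff_ne_bot M).2 hM.2.1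
  refine ⟨M, hM.1, ?_, fun h => hMns (by
    haveI := h
    exact isSolvable_of_le (le_refl M) (Group.isSolvable_of_comm fun a b => mul_comm' a b)), fun N hN hNne => ?_⟩
  · obtain ⟨N, hN⟩ := exists_isMinNormal_univ (G := M)
    haveI := hN.1
    have key : N = ⊤ := by
      set A := N.map M.subtype with hA
      by_cases hAn : A.Normal
      · rcases hM.2.2 A hAn (map_subtype_le _) with h | h
        · exact absurd (Subgroup.map_eq_bot_iff_of_injective _ M.subtype_injective |>.1 h) hN.2.1
        · exact Subgroup.map_injective M.subtype_injective (by rw [← hA, h, ← MonoidHom.range_eq_map, range_subtype])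
      exfalso
      obtain ⟨g, hg⟩ : ∃ g : G, A.map (MulAut.conj g).toMonoidHom ≠ A := by
        by_contra hh
        push Not at hh
        exact hAn ⟨fun a ha g => hh g ▸ ⟨a, ha, rfl⟩⟩
      let N' : Subgroup M := N.map (MulAut.conjNormal g : MulAut M).toMonoidHom
      haveI hN'n : N'.Normal := hN.1.map _ (MulEquiv.surjective _)
      have hA' : N'.map M.subtype = A.map (MulAut.conj g).toMonoidHom := by
        rw [hA, Subgroup.map_map, Subgroup.map_map]; rfl
      have hne : N' ≠ N := fun e => hg (by rw [← hA', e])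
      have hdisj : N ⊓ N' = ⊥ := (hN.inf_eq_bot_or_le N').resolve_right fun hle => hne
        (eq_of_le_of_card_ge hle (le_of_eq (card_map_of_injective (MulEquiv.injective _)))).symm
      have hN'ne : N' ≠ ⊥ := fun e => hN.2.1 ((Subgroup.map_eq_bot_iff_of_injective _ (MulEquiv.injective _)).1 e)
      have hppM : ∀ x : M, x ≠ 1 → IsPrimePow (orderOf x) := fun x hx => by
        rw [← Subgroup.orderOf_coe]; exact hpp _ fun e => hx (Subtype.ext e)
      refine not_commute hppM ?_ hN'ne fun a ha => mem_centralizer_iff.2 fun b hb =>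
        (Subgroup.commute_of_normal_of_disjoint N N' inferInstance inferInstance (disjoint_iff.2 hdisj) a b ha hb).eq.symm
      intro hsol
      obtain ⟨-, r, hr, -, hNr⟩ := minimal_solvable_elementary hN hsol
      haveI := Fact.mk hr
      have hsn : A.IsSubnormal := (Cfsg.Lib.Core.isSubnormal_map_subtype_iff (Subgroup.Normal.isSubnormal hM.1) N).2
        (Subgroup.Normal.isSubnormal hN.1)
      have hAle : A ≤ Cfsg.pCore r G := le_pCore_of_isSubnormal hsn (hNr.map _)
      have hcore : Cfsg.pCore r G = ⊥ := hrad _ inferInstance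
        (by haveI := (pCore_isPGroup r G).isNilpotent; infer_instance)
      rw [hcore, le_bot_iff] at hAle
      exact hN.2.1 ((Subgroup.map_eq_bot_iff_of_injective _ M.subtype_injective).1 hAle)
    exact ⟨fun K hK => by
      rcases hN.inf_eq_bot_or_le K with h | h
      · left; rwa [key, top_inf_eq] at h
      · right; rw [key] at h; exact top_le_iff.1 h⟩
  · haveI := hN
    rcases hM.inf_eq_bot_or_le N with h | h
    · exfalso
      refine not_commute hpp hMns hNne fun a ha => mem_centralizer_iff.2 fun b hb =>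
        (Subgroup.commute_of_normal_of_disjoint M N hM.1 hN (disjoint_iff.2 h) a b ha hb).eq.symm
    · exact h


/-- Let G be a finite non-solvable group in which every element has prime-power order, and let R be its largest solvable normal subgroup. Then R is a p-group for some prime p; G/R has a non-abelian simple normal subgroup contained in every nontrivial normal subgroup of G/R (its unique minimal normal subgroup); and the order of every solvable subgroup of G has at most two prime divisors. -/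
theorem result {G : Type*} [Group G] [Finite G] (hns : ¬ Group.IsSolvable G) (hpp : ∀ g : G, g ≠ 1 → IsPrimePow (orderOf g))
    (R : Subgroup G) [R.Normal] (hRs : Group.IsSolvable ↥R) (hRmax : ∀ N : Subgroup G, N.Normal → Group.IsSolvable ↥N → N ≤ R) :
    (∃ p : ℕ, p.Prime ∧ IsPGroup p ↥R) ∧
      (∃ M : Subgroup (G ⧸ R), M.Normal ∧ IsSimpleGroup ↥M ∧ ¬ IsMulCommutative ↥M ∧
        ∀ N : Subgroup (G ⧸ R), N.Normal → N ≠ ⊥ → M ≤ N) ∧
      ∀ H : Subgroup G, Group.IsSolvable ↥H → (Nat.card ↥H).primeFactors.card ≤ 2 := by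
  classical
  refine ⟨radical_isPGroup hns hpp R hRs, ?_, fun H hH => ?_⟩
  · have hsol : ∀ N : Subgroup (G ⧸ R), N.Normal → Group.IsSolvable N → N = ⊥ := by
      intro N hN hNs
      have hW : Group.IsSolvable ↥(N.comap (QuotientGroup.mk' R)) := by
        haveI := hRs
        haveI := hNs
        exact solvable_of_ker_le_range (Subgroup.inclusion (H := R) (K := N.comap (QuotientGroup.mk' R))
            (fun y hy => by
              show QuotientGroup.mk' R y ∈ N
              rw [show QuotientGroup.mk' R y = 1 from (QuotientGroup.eq_one_iff _).2 hy]; exact one_mem _))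
          ((QuotientGroup.mk' R).subgroupComap N)
          (fun y hy => ⟨⟨(y : G), (QuotientGroup.eq_one_iff _).1 (congrArg Subtype.val hy)⟩, rfl⟩)
      refine eq_bot_iff.2 fun y hy => ?_
      obtain ⟨z, rfl⟩ := QuotientGroup.mk'_surjective R y
      exact (QuotientGroup.eq_one_iff _).2 (hRmax _ (hN.comap _) hW hy)
    haveI : Nontrivial (G ⧸ R) := by
      rw [← not_subsingleton_iff_nontrivial]
      intro h
      rw [QuotientGroup.subsingleton_iff] at h
      exact hns (by haveI := hRs; rw [h] at this; exact solvable_of_surjective (f := (Subgroup.topEquiv (G := G)).toMonoidHom) (MulEquiv.surjective _))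
    exact socle (isPrimePow_quotient hpp R) hsol
  · haveI := hH
    refine Cfsg.Agent.S1475.result (G := H) fun g => ?_
    by_cases hg : g = 1
    · exact Or.inr hg
    · exact Or.inl (by rw [← Subgroup.orderOf_coe]; exact hpp _ fun e => hg (Subtype.ext e))

end Cfsg.Agent.S3992
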