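import Cfsg.Statements.S3993
import Cfsg.Agent.S4035

set_option autoImplicit false
open Cfsg

namespace Cfsg.Agent.S3993

open Subgroup

universe u

section

variable {G : Type u} [Group G] [Finite G]

/-- The fixed-point count of the power map. -/
noncomputable def rootCount (G : Type u) [Group G] (a : ℕ) : ℕ := Nat.card {g : G // g ^ a = 1}

theorem dvd_sum_of_conj_invariant [Fintype G] (S : Finset G) (f : G → ℕ) (d : ℕ)
    (hS : ∀ x v : G, IsConj x v → x ∈ S → v ∈ S) (hf : ∀ x v : G, IsConj x v → f x = f v)
    (h : ∀ v ∈ S, d ∣ (centralizer ({v} : Set G)).index * f v) : d ∣ ∑ v ∈ S, f v := by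
  classical
  have : Fintype (ConjClasses G) := Fintype.ofFinite _
  rw [← Finset.sum_fiberwise S ConjClasses.mk f]
  refine Finset.dvd_sum fun c _ => ?_
  obtain ⟨x, rfl⟩ := ConjClasses.exists_rep c
  by_cases hx : x ∈ S
  · have hfil : (S.filter fun v => ConjClasses.mk v = ConjClasses.mk x) =
        (ConjClasses.mk x).carrier.toFinset := by
      ext v
      simp only [Finset.mem_filter, Set.mem_toFinset, ConjClasses.mem_carrier_iff_mk_eq]
      exact ⟨fun hv => hv.2, fun hv => ⟨hS x v (ConjClasses.mk_eq_mk_iff_isConj.mp hv).symm hx, hv⟩⟩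
    rw [hfil, Finset.sum_congr rfl (g := fun _ => f x) (fun v hv => (hf x v ?_).symm),
      Finset.sum_const, smul_eq_mul, ← Set.ncard_eq_toFinset_card', S4035.carrier_ncard_eq_index]
    · exact h x hx
    · rw [Set.mem_toFinset, ConjClasses.mem_carrier_iff_mk_eq, ConjClasses.mk_eq_mk_iff_isConj] at hv
      exact hv.symm
  · rw [Finset.sum_eq_zero fun v hv => ?_]
    · exact dvd_zero d
    · rw [Finset.mem_filter] at hv
      exact absurd (hS v x (ConjClasses.mk_eq_mk_iff_isConj.mp hv.2) hv.1) hx

theorem rootCount_centralizer_conj {x v : G} (h : IsConj x v) (a : ℕ) :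
    rootCount (centralizer ({x} : Set G)) a = rootCount (centralizer ({v} : Set G)) a := by
  obtain ⟨c, rfl⟩ := isConj_iff.mp h
  let e := MulAut.conj c
  have hmem : ∀ u, u ∈ centralizer ({x} : Set G) ↔ e u ∈ centralizer ({c * x * c⁻¹} : Set G) := by
    intro u
    rw [mem_centralizer_singleton_iff, mem_centralizer_singleton_iff, ← MulAut.conj_apply (g := c) (h := x),
      ← map_mul, ← map_mul, e.injective.eq_iff]
  refine Nat.card_congr (Equiv.subtypeEquiv (Equiv.subtypeEquiv e.toEquiv hmem) fun u => ?_)
  simp only [Subtype.ext_iff, SubmonoidClass.coe_pow, OneMemClass.coe_one, Equiv.subtypeEquiv_apply,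
    OneMemClass.coe_one]
  show (u : G) ^ a = 1 ↔ (e (u : G)) ^ a = 1
  rw [← map_pow]
  exact (map_eq_one_iff e e.injective).symm

theorem rootCount_split [Fintype G] [DecidableEq G] {a c : ℕ} (hac : a.Coprime c) :
    rootCount G (a * c) =
      ∑ v ∈ (Finset.univ.filter fun v : G => v ^ c = 1), rootCount (centralizer ({v} : Set G)) a := by
  obtain ⟨e, he1, he2⟩ := Nat.chineseRemainder hac 0 1
  have hp : ∀ {v : G} {n : ℕ}, v ^ c = 1 → n ≡ 1 [MOD c] → v ^ n = v := fun {v n} hv hn =>
    (pow_eq_pow_iff_modEq.mpr (hn.of_dvd (orderOf_dvd_of_pow_eq_one hv)) : v ^ n = v ^ 1).trans (pow_one v)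
  rw [rootCount, Nat.card_eq_fintype_card, Fintype.card_subtype]
  rw [Finset.card_eq_sum_card_fiberwise (f := fun g => g ^ e) (t := Finset.univ.filter fun v : G => v ^ c = 1)]
  · refine Finset.sum_congr rfl fun v hv => ?_
    rw [Finset.mem_filter] at hv
    rw [rootCount, Finset.filter_filter, ← Fintype.card_subtype, ← Nat.card_eq_fintype_card]
    refine Nat.card_congr
      { toFun := fun g => ⟨⟨g.1 * v⁻¹, ?_⟩, ?_⟩
        invFun := fun u => ⟨(u.1 : G) * v, ?_, ?_⟩
        left_inv := fun g => Subtype.ext (inv_mul_cancel_right g.1 v)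
        right_inv := fun u => Subtype.ext (Subtype.ext (mul_inv_cancel_right (u.1 : G) v)) }
    · obtain ⟨g, hg1, hg2⟩ := g
      show g * v⁻¹ ∈ centralizer ({v} : Set G)
      rw [mem_centralizer_singleton_iff, ← hg2]
      exact ((Commute.self_pow g e).mul_left ((Commute.refl (g ^ e)).inv_left)).eq
    · obtain ⟨g, hg1, hg2⟩ := g
      apply Subtype.ext
      simp only [SubmonoidClass.coe_pow, OneMemClass.coe_one]
      rw [← hg2, ((Commute.self_pow g e).inv_right).mul_pow, inv_pow, ← pow_mul, mul_inv_eq_one,
        pow_eq_pow_iff_modEq]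
      refine Nat.ModEq.of_dvd (orderOf_dvd_of_pow_eq_one hg1) ?_
      simpa [mul_comm a c, mul_comm e a] using (Nat.ModEq.mul_left' a he2).symm
    · obtain ⟨⟨u, huC⟩, hu⟩ := u
      have hua : u ^ a = 1 := by simpa using congrArg Subtype.val hu
      have hc' : Commute u v := mem_centralizer_singleton_iff.mp huC
      show (u * v) ^ (a * c) = 1
      rw [hc'.mul_pow, pow_mul, hua, one_pow, one_mul, mul_comm, pow_mul, hv.2, one_pow]
    · obtain ⟨⟨u, huC⟩, hu⟩ := u
      have hua : u ^ a = 1 := by simpa using congrArg Subtype.val hu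
      have hc' : Commute u v := mem_centralizer_singleton_iff.mp huC
      obtain ⟨k, hk⟩ := (Nat.modEq_zero_iff_dvd).mp he1
      show (u * v) ^ e = v
      rw [hc'.mul_pow, hp hv.2 he2, hk, pow_mul, hua, one_pow, one_mul]
  · intro g hg
    simp only [Finset.coe_filter, Finset.mem_univ, true_and, Set.mem_setOf_eq] at hg ⊢
    obtain ⟨k, hk⟩ := (Nat.modEq_zero_iff_dvd).mp he1
    rw [← pow_mul, hk, mul_comm (a * k) c, ← mul_assoc, mul_comm c a, pow_mul, hg, one_pow]

theorem rootCount_full {p : ℕ} (hp : p.Prime) : ∀ (n : ℕ) (G : Type u) [Group G] [Finite G],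
    Nat.card G ≤ n → p ^ (Nat.card G).factorization p ∣ rootCount G (p ^ (Nat.card G).factorization p) := by
  intro n
  induction n with
  | zero => intro G _ _ hn; have := Nat.card_pos (α := G); omega
  | succ n ih =>
    intro G _ _ hn
    classical
    have := Fintype.ofFinite G
    set B := (Nat.card G).factorization p
    set c := Nat.card G / p ^ B
    have hcop : (p ^ B).Coprime c :=
      ((Nat.coprime_ordCompl hp Nat.card_pos.ne').pow_left B)
    have htot : rootCount G (p ^ B * c) = Nat.card G := by
      rw [Nat.ordProj_mul_ordCompl_eq_self]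
      exact Nat.card_congr (Equiv.subtypeUnivEquiv fun g => pow_card_eq_one')
    have hsplit := rootCount_split (G := G) hcop
    rw [htot] at hsplit
    set S := Finset.univ.filter fun v : G => v ^ c = 1
    set f := fun v : G => rootCount (centralizer ({v} : Set G)) (p ^ B)
    have hnc : p ^ B ∣ ∑ v ∈ S.filter (fun v => v ∉ center G), f v := by
      refine dvd_sum_of_conj_invariant _ _ _ ?_ (fun x v h => rootCount_centralizer_conj h _) ?_
      · intro x v h hx
        obtain ⟨d, rfl⟩ := isConj_iff.mp h
        simp only [S, Finset.mem_filter, Finset.mem_univ, true_and] at hx ⊢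
        exact ⟨by rw [conj_pow, hx.1]; simp, fun hz => hx.2 (by
          simpa [mul_assoc] using (inferInstance : (center G).Normal).conj_mem _ hz d⁻¹)⟩
      · intro v hv
        simp only [S, Finset.mem_filter, Finset.mem_univ, true_and] at hv
        set C := centralizer ({v} : Set G)
        have hne : C ≠ ⊤ := fun h => hv.2 (mem_center_iff.mpr fun g =>
          mem_centralizer_singleton_iff.mp (h ▸ mem_top g : g ∈ C))
        have hlt : Nat.card C ≤ n := by
          have h1 := C.card_le_card_group
          have h2 : Nat.card C ≠ Nat.card G := fun h => hne (eq_top_of_card_eq C h)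
          omega
        set b := (Nat.card C).factorization p
        have hpow : rootCount C (p ^ B) = rootCount C (p ^ b) := by
          refine Nat.card_congr (Equiv.subtypeEquivRight fun g => ?_)
          rw [← orderOf_dvd_iff_pow_eq_one, ← orderOf_dvd_iff_pow_eq_one]
          refine ⟨fun h => ?_, fun h => h.trans (pow_dvd_pow p ?_)⟩
          · obtain ⟨j, -, hj⟩ := (Nat.dvd_prime_pow hp).mp h
            rw [hj]
            exact pow_dvd_pow p ((hp.pow_dvd_iff_le_factorization Nat.card_pos.ne').mp
              (hj ▸ orderOf_dvd_natCard g))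
          · exact (Nat.factorization_le_iff_dvd Nat.card_pos.ne' Nat.card_pos.ne').mpr
              (card_subgroup_dvd_card C) p
        have hB : p ^ B ∣ C.index * p ^ b := by
          have h1 : p ^ B ∣ C.index * Nat.card C := C.index_mul_card.symm ▸ Nat.ordProj_dvd _ _
          rw [← Nat.ordProj_mul_ordCompl_eq_self (Nat.card C) p, ← mul_assoc] at h1
          exact ((Nat.coprime_ordCompl hp Nat.card_pos.ne').pow_left B).dvd_of_dvd_mul_right h1
        show p ^ B ∣ C.index * rootCount C (p ^ B)
        rw [hpow]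
        exact hB.trans (mul_dvd_mul_left _ (ih C hlt))
    have hcentral : ∀ v ∈ S.filter (fun v => v ∈ center G), f v = rootCount G (p ^ B) := by
      intro v hv
      rw [Finset.mem_filter] at hv
      have htop : centralizer ({v} : Set G) = ⊤ := eq_top_iff.mpr fun g _ =>
        mem_centralizer_singleton_iff.mpr (mem_center_iff.mp hv.2 g)
      refine Nat.card_congr (Equiv.subtypeEquiv
        (Equiv.subtypeUnivEquiv fun g => htop.symm ▸ mem_top g) fun u => ?_)
      rw [Subtype.ext_iff]
      rfl
    rw [← Finset.sum_filter_add_sum_filter_not S (fun v => v ∈ center G), Finset.sum_congr rfl hcentral,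
      Finset.sum_const, smul_eq_mul] at hsplit
    have h1 : p ^ B ∣ (S.filter (fun v => v ∈ center G)).card * rootCount G (p ^ B) :=
      (Nat.dvd_add_left hnc).mp (hsplit ▸ Nat.ordProj_dvd _ _)
    refine (Nat.Coprime.dvd_of_dvd_mul_left ?_ h1)
    refine (hp.coprime_iff_not_dvd.mpr fun hd => ?_).pow_left B
    let Z : Subgroup G :=
      { carrier := {v | v ^ c = 1 ∧ v ∈ center G}
        one_mem' := ⟨one_pow c, one_mem _⟩
        mul_mem' := fun {x y} hx hy => ⟨by
          rw [(show Commute x y from mem_center_iff.mp hy.2 x).mul_pow, hx.1, hy.1, one_mul],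
          mul_mem hx.2 hy.2⟩
        inv_mem' := fun {x} hx => ⟨by rw [inv_pow, hx.1, inv_one], inv_mem hx.2⟩ }
    have hZ : Nat.card Z = (S.filter (fun v => v ∈ center G)).card := by
      rw [Finset.filter_filter, ← Fintype.card_subtype, ← Nat.card_eq_fintype_card]
      exact Nat.card_congr (Equiv.refl _)
    rw [← hZ] at hd
    have : Fact p.Prime := ⟨hp⟩
    obtain ⟨z, hz⟩ := exists_prime_orderOf_dvd_card' (G := Z) p hd
    have hzc : orderOf (z : G) ∣ c := orderOf_dvd_of_pow_eq_one z.2.1
    rw [Subgroup.orderOf_coe, hz] at hzc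
    exact Nat.not_dvd_ordCompl hp Nat.card_pos.ne' hzc

theorem totient_dvd_card_orderOf_eq (m : ℕ) :
    Nat.totient m ∣ Nat.card {g : G // orderOf g = m} := by
  classical
  have := Fintype.ofFinite G
  have : Fintype (Subgroup G) := Fintype.ofFinite _
  rw [Nat.card_eq_fintype_card, Fintype.card_subtype,
    Finset.card_eq_sum_card_fiberwise (f := Subgroup.zpowers) (t := Finset.univ)
      (fun g _ => Finset.mem_coe.mpr (Finset.mem_univ _))]
  refine Finset.dvd_sum fun K _ => ?_
  by_cases hK : ∃ g : G, orderOf g = m ∧ zpowers g = K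
  · obtain ⟨g, hg, rfl⟩ := hK
    refine dvd_of_eq ?_
    rw [Finset.filter_filter, ← IsCyclic.card_orderOf_eq_totient (α := zpowers g) (d := m)
      (by rw [← Nat.card_eq_fintype_card, Nat.card_zpowers, hg]), ← Fintype.card_subtype,
      ← Fintype.card_subtype]
    refine Fintype.card_congr
      { toFun := fun k => ⟨(k.1 : G), ?_, ?_⟩
        invFun := fun h => ⟨⟨h.1, h.2.2.le (mem_zpowers h.1)⟩, ?_⟩
        left_inv := fun k => rfl
        right_inv := fun h => rfl }
    · rw [Subgroup.orderOf_coe]; exact k.2
    · refine eq_of_le_of_card_ge (zpowers_le.mpr k.1.2) ?_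
      rw [Nat.card_zpowers, Nat.card_zpowers, Subgroup.orderOf_coe, k.2, hg]
    · rw [← Subgroup.orderOf_coe]; exact h.2.1
  · rw [Finset.card_eq_zero.mpr (Finset.filter_eq_empty_iff.mpr fun g hg hgK => hK ⟨g, (Finset.mem_filter.mp hg).2, hgK⟩)]
    exact dvd_zero _

theorem pow_dvd_rootCount {p : ℕ} (hp : p.Prime) (b : ℕ) (hb : b ≤ (Nat.card G).factorization p) :
    p ^ b ∣ rootCount G (p ^ b) := by
  classical
  have := Fintype.ofFinite G
  set B := (Nat.card G).factorization p
  suffices h : ∀ d, d ≤ B → p ^ (B - d) ∣ rootCount G (p ^ (B - d)) by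
    have := h (B - b) (by omega)
    rwa [show B - (B - b) = b by omega] at this
  intro d
  induction d with
  | zero => intro _; rw [Nat.sub_zero]; exact rootCount_full hp _ G le_rfl
  | succ d ih =>
    intro hd
    obtain ⟨e, he⟩ : ∃ e, B - d = e + 1 := ⟨B - d - 1, by omega⟩
    rw [show B - (d + 1) = e by omega]
    have h0 := ih (by omega)
    rw [he] at h0
    have h1 : p ^ e ∣ rootCount G (p ^ (e + 1)) := (pow_dvd_pow p (by omega : e ≤ e + 1)).trans h0
    have h2 : rootCount G (p ^ (e + 1)) =
        rootCount G (p ^ e) + Nat.card {g : G // orderOf g = p ^ (e + 1)} := by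
      simp only [rootCount, Nat.card_eq_fintype_card, Fintype.card_subtype]
      rw [← Finset.card_union_of_disjoint]
      · congr 1
        ext g
        simp only [Finset.mem_filter, Finset.mem_univ, true_and, Finset.mem_union,
          ← orderOf_dvd_iff_pow_eq_one]
        constructor
        · intro h
          obtain ⟨j, hj, hje⟩ := (Nat.dvd_prime_pow hp).mp h
          rcases Nat.lt_or_ge j (e + 1) with hlt | hge
          · exact Or.inl (hje ▸ pow_dvd_pow p (Nat.lt_succ_iff.mp hlt))
          · exact Or.inr (by rw [hje, show j = e + 1 by omega])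
        · rintro (h | h)
          · exact h.trans (pow_dvd_pow p (Nat.le_succ e))
          · exact h.dvd
      · rw [Finset.disjoint_filter]
        intro g _ h h'
        rw [← orderOf_dvd_iff_pow_eq_one, h', Nat.pow_dvd_pow_iff_le_right hp.one_lt] at h
        omega
    have h3 : p ^ e ∣ Nat.card {g : G // orderOf g = p ^ (e + 1)} := by
      refine dvd_trans ?_ (totient_dvd_card_orderOf_eq _)
      rw [Nat.totient_prime_pow_succ hp]
      exact dvd_mul_right _ _
    exact (Nat.dvd_add_left h3).mp (h2 ▸ h1)

theorem frobenius_count [Fintype G] [DecidableEq G] (m : ℕ) (hm : m ∣ Nat.card G) : m ∣ rootCount G m := by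
  have hm0 : m ≠ 0 := fun h => Nat.card_pos.ne' (Nat.eq_zero_of_zero_dvd (h ▸ hm))
  rw [Nat.dvd_iff_prime_pow_dvd_dvd]
  intro q k hq hk
  refine (pow_dvd_pow q ((hq.pow_dvd_iff_le_factorization hm0).mp hk)).trans ?_
  set b := m.factorization q
  have hcop : (q ^ b).Coprime (m / q ^ b) := (Nat.coprime_ordCompl hq hm0).pow_left b
  have hsplit := rootCount_split (G := G) hcop
  rw [Nat.ordProj_mul_ordCompl_eq_self] at hsplit
  rw [hsplit]
  refine dvd_sum_of_conj_invariant _ _ _ ?_ (fun x v h => rootCount_centralizer_conj h _) ?_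
  · intro x v h hx
    obtain ⟨d, rfl⟩ := isConj_iff.mp h
    simp only [Finset.mem_filter, Finset.mem_univ, true_and] at hx ⊢
    rw [conj_pow, hx]; simp
  · intro v _
    set C := centralizer ({v} : Set G)
    have hB : q ^ b ∣ C.index * Nat.card C := C.index_mul_card.symm ▸ (Nat.ordProj_dvd m q).trans hm
    by_cases hle : b ≤ (Nat.card C).factorization q
    · exact dvd_mul_of_dvd_right (pow_dvd_rootCount hq b hle) _
    · have heq : rootCount C (q ^ b) = rootCount C (q ^ (Nat.card C).factorization q) := by
        refine Nat.card_congr (Equiv.subtypeEquivRight fun g => ?_)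
        rw [← orderOf_dvd_iff_pow_eq_one, ← orderOf_dvd_iff_pow_eq_one]
        refine ⟨fun h => ?_, fun h => h.trans (pow_dvd_pow q (by omega))⟩
        obtain ⟨j, -, hj⟩ := (Nat.dvd_prime_pow hq).mp h
        rw [hj]
        exact pow_dvd_pow q ((hq.pow_dvd_iff_le_factorization Nat.card_pos.ne').mp (hj ▸ orderOf_dvd_natCard g))
      rw [heq]
      rw [← Nat.ordProj_mul_ordCompl_eq_self (Nat.card C) q, ← mul_assoc] at hB
      exact (((Nat.coprime_ordCompl hq Nat.card_pos.ne').pow_left b).dvd_of_dvd_mul_right hB).trans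
        (mul_dvd_mul_left _ (pow_dvd_rootCount hq _ le_rfl))


end

/-- Frobenius' divisibility Theorem: if m divides the order of a finite group G, then m divides the number of elements g of G with g^m = 1. -/
theorem result {G : Type*} [Group G] [Finite G] (m : ℕ) (hm : m ∣ Nat.card G) :
    m ∣ Nat.card {g : G // g ^ m = 1} := by
  classical
  have := Fintype.ofFinite G
  exact frobenius_count m hm

end Cfsg.Agent.S3993
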