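import Cfsg.Statements.S3994
import Cfsg.Agent.S3993

set_option autoImplicit false
open Cfsg

namespace Cfsg.Agent.S3994

/-- Let G be a finite group and n a positive integer. The number of elements of G whose order is divisible by n is either 0 or divisible by the largest divisor of the order of G that is coprime to n. -/
theorem result {G : Type*} [Group G] [Finite G] (n : ℕ) (hn : 0 < n) :
    Nat.card {g : G // n ∣ orderOf g} = 0 ∨
      (Nat.card G / Nat.gcd (Nat.card G) (n ^ Nat.card G)) ∣ Nat.card {g : G // n ∣ orderOf g} := by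
  classical
  have := Fintype.ofFinite G
  right
  set c := Nat.gcd (Nat.card G) (n ^ Nat.card G) with hc
  set N := Nat.card G / c
  have hNc : N * c = Nat.card G := Nat.div_mul_cancel (Nat.gcd_dvd_left _ _)
  have hNn : N.Coprime n := by
    refine Nat.coprime_of_dvd fun q hq hqN hqn => ?_
    set v := (Nat.card G).factorization q
    have h1 : q ^ v ∣ c := Nat.dvd_gcd (Nat.ordProj_dvd _ _)
      ((pow_dvd_pow_of_dvd hqn v).trans (pow_dvd_pow n (Nat.factorization_lt q Nat.card_pos.ne').le))
    exact Nat.pow_succ_factorization_not_dvd Nat.card_pos.ne' hq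
      (by rw [pow_succ']; exact (mul_dvd_mul hqN h1).trans hNc.dvd)
  have hac : N.Coprime c := (hNn.pow_right _).coprime_dvd_right (Nat.gcd_dvd_right _ _)
  obtain ⟨e, he1, he2⟩ := Nat.chineseRemainder hac 0 1
  have hp : ∀ {v : G} {k : ℕ}, v ^ c = 1 → k ≡ 1 [MOD c] → v ^ k = v := fun {v k} hv hk =>
    (pow_eq_pow_iff_modEq.mpr (hk.of_dvd (orderOf_dvd_of_pow_eq_one hv)) : v ^ k = v ^ 1).trans (pow_one v)
  have hgc : ∀ g : G, (g ^ e) ^ c = 1 := fun g => by
    obtain ⟨k, hk⟩ := (Nat.modEq_zero_iff_dvd).mp he1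
    rw [← pow_mul, hk, mul_right_comm, hNc, pow_mul, pow_card_eq_one', one_pow]
  have hord : ∀ g : G, n ∣ orderOf g ↔ n ∣ orderOf (g ^ e) := fun g => by
    refine ⟨fun h => ?_, fun h => h.trans (orderOf_pow_dvd e)⟩
    rw [orderOf_pow]
    set d := Nat.gcd (orderOf g) e
    have hdc : d.Coprime c := by
      have hec : e.Coprime c := by
        have h1 := he2.gcd_eq
        rwa [Nat.gcd_one_left] at h1
      exact hec.coprime_dvd_left (Nat.gcd_dvd_right _ _)
    have hdN : d ∣ N := hdc.dvd_of_dvd_mul_right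
      (hNc ▸ (Nat.gcd_dvd_left _ _).trans (orderOf_dvd_natCard g))
    have hdn : n.Coprime d := (hNn.coprime_dvd_left hdN).symm
    exact (Nat.dvd_div_iff_mul_dvd (Nat.gcd_dvd_left _ _)).mpr
      (mul_comm n d ▸ hdn.mul_dvd_of_dvd_of_dvd h (Nat.gcd_dvd_left _ _))
  rw [Nat.card_eq_fintype_card (α := {g : G // n ∣ orderOf g}), Fintype.card_subtype,
    Finset.card_eq_sum_card_fiberwise (f := fun g => g ^ e)
      (t := Finset.univ.filter fun v : G => v ^ c = 1 ∧ n ∣ orderOf v)]
  · have hfib : ∀ v ∈ Finset.univ.filter (fun v : G => v ^ c = 1 ∧ n ∣ orderOf v),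
        ((Finset.univ.filter fun g : G => n ∣ orderOf g).filter fun g => g ^ e = v).card =
          S3993.rootCount (Subgroup.centralizer ({v} : Set G)) N := by
      intro v hv
      rw [Finset.mem_filter] at hv
      obtain ⟨k, hk⟩ := (Nat.modEq_zero_iff_dvd).mp he1
      rw [S3993.rootCount, Finset.filter_filter, ← Fintype.card_subtype, ← Nat.card_eq_fintype_card]
      refine Nat.card_congr
        { toFun := fun g => ⟨⟨g.1 * v⁻¹, ?_⟩, ?_⟩
          invFun := fun u => ⟨(u.1 : G) * v, ?_⟩
          left_inv := fun g => Subtype.ext (inv_mul_cancel_right g.1 v)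
          right_inv := fun u => Subtype.ext (Subtype.ext (mul_inv_cancel_right (u.1 : G) v)) }
      · obtain ⟨g, hg1, hg2⟩ := g
        show g * v⁻¹ ∈ Subgroup.centralizer ({v} : Set G)
        rw [Subgroup.mem_centralizer_singleton_iff, ← hg2]
        exact ((Commute.self_pow g e).mul_left ((Commute.refl (g ^ e)).inv_left)).eq
      · obtain ⟨g, hg1, hg2⟩ := g
        apply Subtype.ext
        simp only [SubmonoidClass.coe_pow, OneMemClass.coe_one]
        rw [← hg2, ((Commute.self_pow g e).inv_right).mul_pow, inv_pow, ← pow_mul, mul_inv_eq_one,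
          pow_eq_pow_iff_modEq]
        refine Nat.ModEq.of_dvd (hNc ▸ orderOf_dvd_natCard g) ?_
        simpa [mul_comm e N] using (Nat.ModEq.mul_left' N he2).symm
      · obtain ⟨⟨u, huC⟩, hu⟩ := u
        have hua : u ^ N = 1 := by simpa using congrArg Subtype.val hu
        have hc' : Commute u v := Subgroup.mem_centralizer_singleton_iff.mp huC
        have h2 : (u * v) ^ e = v := by
          rw [hc'.mul_pow, hp hv.2.1 he2, hk, pow_mul, hua, one_pow, one_mul]
        exact ⟨(hord _).mpr (by rw [h2]; exact hv.2.2), h2⟩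
    rw [Finset.sum_congr rfl hfib]
    refine S3993.dvd_sum_of_conj_invariant _ _ _ ?_
      (fun x v h => S3993.rootCount_centralizer_conj h _) ?_
    · intro x v h hx
      obtain ⟨d, rfl⟩ := isConj_iff.mp h
      simp only [Finset.mem_filter, Finset.mem_univ, true_and] at hx ⊢
      exact ⟨by rw [conj_pow, hx.1]; simp, by
        rw [show orderOf (d * x * d⁻¹) = orderOf x from (MulAut.conj d).orderOf_eq x]; exact hx.2⟩
    · intro v _
      set C := Subgroup.centralizer ({v} : Set G)
      have h1 : N ∣ C.index * Nat.card C := C.index_mul_card.symm ▸ Dvd.intro c hNc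
      have h2 : N ∣ C.index * Nat.gcd N (Nat.card C) :=
        (Nat.dvd_gcd (dvd_mul_left N C.index) h1).trans (by rw [Nat.gcd_mul_left])
      refine h2.trans (mul_dvd_mul_left _ ?_)
      have heq : S3993.rootCount C N = S3993.rootCount C (Nat.gcd N (Nat.card C)) := by
        refine Nat.card_congr (Equiv.subtypeEquivRight fun g => ?_)
        rw [← orderOf_dvd_iff_pow_eq_one, ← orderOf_dvd_iff_pow_eq_one, Nat.dvd_gcd_iff]
        exact ⟨fun h => ⟨h, orderOf_dvd_natCard g⟩, fun h => h.1⟩
      rw [heq]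
      exact S3993.frobenius_count _ (Nat.gcd_dvd_right _ _)
  · intro g hg
    simp only [Finset.coe_filter, Finset.mem_univ, true_and, Set.mem_ofPred_eq] at hg ⊢
    exact ⟨hgc g, (hord g).mp hg⟩

end Cfsg.Agent.S3994
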