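import Cfsg.Statements.S3995
import Cfsg.Agent.S3993
import Cfsg.Agent.S4377
import Cfsg.Agent.S0016
-- import your own Cfsg.Agent.* helpers here

set_option autoImplicit false
open Cfsg

namespace Cfsg.Agent.S3995

open Subgroup

universe u
variable {G : Type u} [Group G] [Finite G]

/-- The number of elements of order `m`. -/
noncomputable def cnt (G : Type u) [Group G] (m : ℕ) : ℕ := Nat.card {g : G // orderOf g = m}

theorem cnt_eq_zero {m : ℕ} (h : ∀ g : G, orderOf g ≠ m) : cnt G m = 0 := by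
  have : IsEmpty {g : G // orderOf g = m} := ⟨fun g => h g g.2⟩
  exact Nat.card_of_isEmpty

theorem dvd_roots {m : ℕ} (hm : m ∣ Nat.card G) : m ∣ ∑ d ∈ m.divisors, cnt G d :=
  (S4377.key G (Nat.pos_of_dvd_of_pos hm Nat.card_pos)) ▸ S3993.result m hm

theorem cnt_one : cnt G 1 = 1 :=
  Nat.card_eq_one_iff_unique.mpr ⟨⟨fun x y => Subtype.ext
    ((orderOf_eq_one_iff.mp x.2).trans (orderOf_eq_one_iff.mp y.2).symm)⟩, ⟨⟨1, orderOf_one⟩⟩⟩

/-- Elements of a group of exponent dividing `4` with one involution. -/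
theorem quaternion_or_cyclic (hG : IsPGroup 2 G) (h4 : ∀ x : G, x ^ 4 = 1)
    (huniq : ∀ x y : G, orderOf x = 2 → orderOf y = 2 → x = y) {w : G} (hw : orderOf w = 4) :
    Nonempty (G ≃* QuaternionGroup 2) ∨ (IsCyclic G ∧ Nat.card G = 4) := by
  have := Fact.mk Nat.prime_two
  have hcyc : IsCyclic G → Nat.card G = 4 := fun hc => by
    obtain ⟨g, hg⟩ := hc.exists_generator
    have h1 : orderOf g = Nat.card G := orderOf_eq_card_of_forall_mem_zpowers hg
    exact Nat.dvd_antisymm (h1 ▸ orderOf_dvd_of_pow_eq_one (h4 g)) (hw ▸ orderOf_dvd_natCard w)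
  rcases Cfsg.Agent.S0016.result 2 hG (fun H K hH hK => by
    obtain ⟨a, ha⟩ := exists_prime_orderOf_dvd_card' (G := H) 2 (hH ▸ dvd_rfl)
    obtain ⟨b, hb⟩ := exists_prime_orderOf_dvd_card' (G := K) 2 (hK ▸ dvd_rfl)
    rw [← Subgroup.orderOf_coe] at ha hb
    have e1 : zpowers (a : G) = H :=
      eq_of_le_of_card_ge (zpowers_le.mpr a.2) (by rw [Nat.card_zpowers, ha, hH])
    have e2 : zpowers (b : G) = K :=
      eq_of_le_of_card_ge (zpowers_le.mpr b.2) (by rw [Nat.card_zpowers, hb, hK])
    rw [← e1, ← e2, huniq _ _ ha hb]) with h | ⟨-, k, ⟨e⟩⟩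
  · exact Or.inr ⟨h, hcyc h⟩
  · have h1 : orderOf (QuaternionGroup.a (n := 2 ^ k) 1) = 2 * 2 ^ k := QuaternionGroup.orderOf_a_one
    have h2 : 2 * 2 ^ k ∣ 4 := by
      rw [← h1, ← MulEquiv.orderOf_eq e.symm]
      exact orderOf_dvd_of_pow_eq_one (h4 _)
    rcases k with _ | _ | k
    · refine Or.inr ?_
      have h3 : IsCyclic (QuaternionGroup (2 ^ 0)) := by
        refine isCyclic_of_orderOf_eq_card (QuaternionGroup.xa 0) ?_
        rw [QuaternionGroup.orderOf_xa, Nat.card_eq_fintype_card, QuaternionGroup.card]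
        rfl
      have h4 : IsCyclic G := isCyclic_of_surjective e.symm e.symm.surjective
      exact ⟨h4, hcyc h4⟩
    · exact Or.inl ⟨e⟩
    · exact absurd (Nat.le_of_dvd (by norm_num) h2) (by
        have := Nat.one_le_two_pow (n := k)
        rw [pow_succ, pow_succ]
        omega)

theorem prod_two {p : ℕ} [hp : Fact p.Prime] (hp2 : p ≠ 2) (z : G) (hz : orderOf z = 2)
    (huniq : ∀ x : G, orderOf x = 2 → x = z) (hord : ∀ x : G, x ^ (2 * p) = 1) (hpd : p ∣ Nat.card G) :
    ∃ (p : ℕ) (P : Type) (_ : Group P) (_ : Finite P), p.Prime ∧ p ≠ 2 ∧ IsPGroup p P ∧ Monoid.exponent P = p ∧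
      Nonempty (G ≃* Multiplicative (ZMod 2) × P) := by
  classical
  have := Fact.mk Nat.prime_two
  have hzc : ∀ g : G, g * z = z * g := fun g => by
    have h := huniq (MulAut.conj g z) (by rw [MulEquiv.orderOf_eq, hz])
    rw [MulAut.conj_apply] at h
    exact mul_inv_eq_iff_eq_mul.mp h
  have hz2 : z ^ 2 = 1 := hz ▸ pow_orderOf_eq_one z
  obtain ⟨S⟩ : Nonempty (Sylow p G) := inferInstance
  have hSexp : ∀ x : (S : Subgroup G), x ^ p = 1 := by
    intro x
    obtain ⟨k, hk⟩ := (IsPGroup.iff_orderOf.mp S.isPGroup') x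
    have h1 : p ^ k ∣ 2 * p := hk ▸ orderOf_dvd_of_pow_eq_one (Subtype.ext (by simpa using hord x))
    have h2 : p ^ k ∣ p := (((Nat.coprime_primes hp.out Nat.prime_two).mpr hp2).pow_left k).dvd_of_dvd_mul_left h1
    exact orderOf_dvd_iff_pow_eq_one.mp (hk ▸ h2)
  let f : Multiplicative (ZMod 2) × (S : Subgroup G) →* G :=
    { toFun := fun u => z ^ (Multiplicative.toAdd u.1).val * u.2
      map_one' := by simp
      map_mul' := fun u v => by
        simp only [Prod.fst_mul, Prod.snd_mul, toAdd_mul, Subgroup.coe_mul]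
        have h1 : z ^ (Multiplicative.toAdd u.1 + Multiplicative.toAdd v.1).val =
            z ^ (Multiplicative.toAdd u.1).val * z ^ (Multiplicative.toAdd v.1).val := by
          rw [← pow_add, ZMod.val_add]
          exact (pow_eq_pow_mod _ hz2).symm
        rw [h1, mul_assoc, mul_assoc]
        congr 1
        rw [← mul_assoc, ← mul_assoc,
          ((show Commute (u.2 : G) z from hzc _).pow_right _).eq] }
  have hinj : Function.Injective f := by
    rw [injective_iff_map_eq_one]
    rintro ⟨a, x⟩ hu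
    change z ^ (Multiplicative.toAdd a).val * (x : G) = 1 at hu
    obtain ⟨k, hk⟩ := (IsPGroup.iff_orderOf.mp S.isPGroup') x
    have hx2 : orderOf x ∣ 2 := by
      refine orderOf_dvd_of_pow_eq_one (Subtype.ext ?_)
      rw [Subgroup.coe_pow, eq_inv_of_mul_eq_one_right hu, inv_pow, ← pow_mul, mul_comm, pow_mul, hz2,
        one_pow, inv_one, Subgroup.coe_one]
    have hx1 : x = 1 := by
      rw [← orderOf_eq_one_iff, hk]
      exact Nat.eq_one_of_dvd_coprimes (((Nat.coprime_primes hp.out Nat.prime_two).mpr hp2).pow_left k)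
        dvd_rfl (hk ▸ hx2)
    subst hx1
    rw [Subgroup.coe_one, mul_one] at hu
    have hd := orderOf_dvd_of_pow_eq_one hu
    rw [hz] at hd
    have := Nat.eq_zero_of_dvd_of_lt hd (ZMod.val_lt (Multiplicative.toAdd a))
    rw [ZMod.val_eq_zero] at this
    exact Prod.ext (Multiplicative.toAdd.injective this) rfl
  have hsurj : Function.Surjective f := by
    refine ((Nat.bijective_iff_injective_and_card f).mpr ⟨hinj, ?_⟩).2
    rw [Nat.card_prod, Nat.card_congr Multiplicative.toAdd, Nat.card_zmod]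
    -- a Sylow `2`-subgroup has order two
    obtain ⟨T⟩ : Nonempty (Sylow 2 G) := inferInstance
    have hT : Nat.card (T : Subgroup G) ≤ 2 := by
      have hle : ∀ x : (T : Subgroup G), (x : G) = 1 ∨ (x : G) = z := fun x => by
        obtain ⟨k, hk⟩ := (IsPGroup.iff_orderOf.mp T.isPGroup') x
        have h1 : 2 ^ k ∣ 2 * p := hk ▸ orderOf_dvd_of_pow_eq_one (Subtype.ext (by simpa using hord x))
        have h2 : 2 ^ k ∣ 2 := (((Nat.coprime_primes Nat.prime_two hp.out).mpr hp2.symm).pow_left k).dvd_of_dvd_mul_right h1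
        rw [← hk, Subgroup.orderOf_mk] at h2
        rcases (Nat.dvd_prime Nat.prime_two).mp h2 with h | h
        · exact Or.inl (orderOf_eq_one_iff.mp h)
        · exact Or.inr (huniq _ h)
      refine (Nat.card_le_card_of_injective (fun x : (T : Subgroup G) => decide ((x : G) = z)) fun x y h => ?_).trans (by simp)
      have h' := h
      simp only [decide_eq_decide] at h'
      refine Subtype.ext ?_
      rcases hle x with hx | hx <;> rcases hle y with hy | hy <;> grind
    refine le_antisymm ?_ ?_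
    · have := Nat.card_le_card_of_injective f hinj
      rwa [Nat.card_prod, Nat.card_congr Multiplicative.toAdd, Nat.card_zmod] at this
    · refine Nat.le_of_dvd (Nat.mul_pos two_pos Nat.card_pos) ?_
      rw [Nat.dvd_iff_prime_pow_dvd_dvd]
      intro q k hq hqk
      rcases Nat.eq_zero_or_pos k with rfl | hk
      · simp
      have hqc : q ∣ Nat.card G := (dvd_pow_self q hk.ne').trans hqk
      have := Fact.mk hq
      obtain ⟨g, hg⟩ := exists_prime_orderOf_dvd_card' q hqc
      have : q ∣ 2 * p := hg ▸ orderOf_dvd_of_pow_eq_one (hord g)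
      rcases (Nat.Prime.dvd_mul hq).mp this with h | h
      · obtain rfl := (Nat.prime_dvd_prime_iff_eq hq Nat.prime_two).mp h
        refine dvd_mul_of_dvd_left ((pow_dvd_pow 2 ((hq.pow_dvd_iff_le_factorization Nat.card_pos.ne').mp hqk)).trans ?_) _
        rw [← T.card_eq_multiplicity]
        have h1 : Nat.card (T : Subgroup G) ∣ 2 := by
          have := Nat.card_pos (α := (T : Subgroup G))
          interval_cases h : Nat.card (T : Subgroup G) <;> norm_num
        exact h1
      · obtain rfl := (Nat.prime_dvd_prime_iff_eq hq hp.out).mp h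
        refine dvd_mul_of_dvd_right ((pow_dvd_pow q ((hq.pow_dvd_iff_le_factorization Nat.card_pos.ne').mp hqk)).trans ?_) _
        rw [← S.card_eq_multiplicity]
  have : Small.{0} (S : Subgroup G) := Countable.toSmall _
  refine ⟨p, Shrink.{0} (S : Subgroup G), inferInstance, Finite.of_equiv _ (equivShrink _), hp.out, hp2,
    S.isPGroup'.of_equiv Shrink.mulEquiv.symm, ?_,
    ⟨(MulEquiv.ofBijective f ⟨hinj, hsurj⟩).symm.trans (MulEquiv.prodCongr (MulEquiv.refl _) Shrink.mulEquiv.symm)⟩⟩
  rw [← Monoid.exponent_eq_of_mulEquiv (Shrink.mulEquiv (α := (S : Subgroup G))).symm]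
  refine (hp.out.eq_one_or_self_of_dvd _ (Monoid.exponent_dvd_of_forall_pow_eq_one hSexp)).resolve_left fun h => ?_
  have hbot : (S : Subgroup G) = ⊥ := (Subgroup.eq_bot_iff_forall _).mpr fun x hx => by
    have := Monoid.pow_exponent_eq_one (⟨x, hx⟩ : (S : Subgroup G))
    rw [h, pow_one] at this
    exact congrArg Subtype.val this
  exact S.ne_bot_of_dvd_card hpd hbot


/-- Let G be a finite group such that the numbers of elements of each order that occurs in G (the numbers #{g : o(g) = m}, m ranging over the element orders of G) take exactly two values, 1 and some n ≠ 1. Then either G is a p-group of exponent p and order at least 3 for some prime p, or G is the quaternion group of order 8, or G is cyclic of order 4, or G ≅ Z₂ × P for a p-group P of exponent p with p an odd prime. -/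
theorem result {G : Type*} [Group G] [Finite G] (n : ℕ) (hn : n ≠ 1) (h : ((fun m : ℕ => Nat.card {g : G // orderOf g = m}) '' Set.range (orderOf : G → ℕ)) = {1, n}) :
    (∃ p : ℕ, p.Prime ∧ IsPGroup p G ∧ 3 ≤ Nat.card G ∧ Monoid.exponent G = p) ∨
      Nonempty (G ≃* QuaternionGroup 2) ∨ (IsCyclic G ∧ Nat.card G = 4) ∨
      (∃ (p : ℕ) (P : Type) (_ : Group P) (_ : Finite P), p.Prime ∧ p ≠ 2 ∧ IsPGroup p P ∧ Monoid.exponent P = p ∧
        Nonempty (G ≃* Multiplicative (ZMod 2) × P)) := by
  classical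
  have := Fintype.ofFinite G
  have hval : ∀ x : G, cnt G (orderOf x) = 1 ∨ cnt G (orderOf x) = n := fun x => by
    have : cnt G (orderOf x) ∈ ({1, n} : Set ℕ) := h ▸ ⟨orderOf x, ⟨x, rfl⟩, rfl⟩
    simpa using this
  obtain ⟨x₀, hx₀⟩ : ∃ x : G, cnt G (orderOf x) = n := by
    obtain ⟨_, ⟨x, rfl⟩, hx⟩ : n ∈ (fun m : ℕ => Nat.card {g : G // orderOf g = m}) '' Set.range (orderOf : G → ℕ) := by
      rw [h]; simp
    exact ⟨x, hx⟩
  have hbig : ∀ x : G, 3 ≤ orderOf x → cnt G (orderOf x) = n ∧ (orderOf x).totient ∣ n := fun x hx => by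
    have h1 : (orderOf x).totient ∣ cnt G (orderOf x) := S3993.totient_dvd_card_orderOf_eq _
    have h2 : cnt G (orderOf x) = n := (hval x).resolve_left fun he => by
      rw [he, Nat.dvd_one, Nat.totient_eq_one_iff] at h1
      omega
    exact ⟨h2, h2 ▸ h1⟩
  have hcases : ∀ m, 3 ≤ m → cnt G m = 0 ∨ cnt G m = n := fun m hm => by
    by_cases hex : ∃ x : G, orderOf x = m
    · obtain ⟨x, rfl⟩ := hex
      exact Or.inr (hbig x hm).1
    · exact Or.inl (cnt_eq_zero fun g hg => hex ⟨g, hg⟩)
  -- odd primes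
  have hodd : ∀ p, p.Prime → p ≠ 2 → p ∣ Nat.card G → cnt G p = n ∧ 2 ∣ n ∧ p ∣ 1 + n := fun p hp hp2 hd => by
    have := Fact.mk hp
    obtain ⟨x, hx⟩ := exists_prime_orderOf_dvd_card' p hd
    have h3 : 3 ≤ p := by have := hp.two_le; omega
    obtain ⟨h1, h2⟩ := hbig x (hx ▸ h3)
    rw [hx] at h1 h2
    refine ⟨h1, (even_iff_two_dvd.mp (Nat.totient_even (by omega))).trans h2, ?_⟩
    have h4 := dvd_roots hd
    rwa [hp.divisors, Finset.sum_pair hp.ne_one.symm, cnt_one, h1] at h4
  have hnd : ∀ p, p.Prime → p ≠ 2 → p ∣ Nat.card G → ¬ p ∣ n := fun p hp hp2 hd hdn =>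
    hp.ne_one (Nat.dvd_one.mp ((Nat.dvd_add_left hdn).mp (hodd p hp hp2 hd).2.2))
  have hsq : ∀ p, p.Prime → p ≠ 2 → ∀ x : G, ¬ p ^ 2 ∣ orderOf x := fun p hp hp2 x hd => by
    obtain ⟨c, hc⟩ := hd
    have hy : orderOf (x ^ c) = p ^ 2 := by
      rw [orderOf_pow, hc, Nat.gcd_mul_left_left, Nat.mul_div_cancel _ (Nat.pos_of_ne_zero ?_)]
      intro h0; rw [h0, mul_zero] at hc; exact (orderOf_pos x).ne' hc
    have hdc : p ∣ Nat.card G := (dvd_pow_self p two_ne_zero).trans (hy ▸ orderOf_dvd_natCard _)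
    have h1 := (hbig (x ^ c) (by rw [hy]; nlinarith [hp.two_le])).2
    rw [hy, Nat.totient_prime_pow hp two_pos] at h1
    exact hnd p hp hp2 hdc ((dvd_mul_right p _).trans (by simpa using h1))
  have hmul : ∀ a b : ℕ, a.Coprime b → ∀ {c : ℕ}, c ∣ a * b → ∃ y z, y ∣ a ∧ z ∣ b ∧ y * z = c :=
    fun a b _ c hc => Nat.dvd_mul.mp hc
  have honeprime : ∀ p q, p.Prime → q.Prime → p ≠ 2 → q ≠ 2 → p ∣ Nat.card G → q ∣ Nat.card G → p = q := by
    intro p q hp hq hp2 hq2 hpd hqd
    by_contra hne
    have hcop : p.Coprime q := (Nat.coprime_primes hp hq).mpr hne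
    have h1 := (dvd_mul_right p q).trans (dvd_roots (hcop.mul_dvd_of_dvd_of_dvd hpd hqd))
    have hdiv : (p * q).divisors = {1, p, q, p * q} := by
      ext c
      simp only [Nat.mem_divisors, Finset.mem_insert, Finset.mem_singleton, ne_eq, mul_eq_zero,
        hp.ne_zero, hq.ne_zero, or_self, not_false_eq_true, and_true]
      constructor
      · intro hc
        obtain ⟨y, z, hy, hz, rfl⟩ := hmul p q hcop hc
        rcases (Nat.dvd_prime hp).mp hy with rfl | rfl <;> rcases (Nat.dvd_prime hq).mp hz with rfl | rfl <;> simp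
      · rintro (rfl | rfl | rfl | rfl) <;> simp
    have hp3 : 3 ≤ p := by have := hp.two_le; omega
    have hq3 : 3 ≤ q := by have := hq.two_le; omega
    rw [hdiv, Finset.sum_insert (by simp; refine ⟨by omega, by omega, ?_⟩; nlinarith),
      Finset.sum_insert (by simp; refine ⟨hne, ?_⟩; nlinarith), Finset.sum_pair (by simp [hp.ne_one, hq.ne_zero]),
      cnt_one, (hodd p hp hp2 hpd).1, (hodd q hq hq2 hqd).1] at h1
    have h2 := (hodd p hp hp2 hpd).2.2
    refine hnd p hp hp2 hpd ?_
    rcases hcases (p * q) (by nlinarith [hp.two_le, hq.two_le]) with h0 | h0 <;> rw [h0] at h1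
    · rw [show 1 + (n + (n + 0)) = (1 + n) + n by ring] at h1
      exact (Nat.dvd_add_right h2).mp h1
    · rw [show 1 + (n + (n + n)) = (1 + n) + 2 * n by ring] at h1
      exact (((Nat.coprime_primes hp Nat.prime_two).mpr hp2).dvd_of_dvd_mul_left ((Nat.dvd_add_right h2).mp h1))
  -- the involutions
  have huni : 2 ∣ n → 2 ∣ Nat.card G → ∃ z : G, orderOf z = 2 ∧ cnt G 2 = 1 ∧ ∀ x : G, orderOf x = 2 → x = z := by
    intro hn2 hd
    have := Fact.mk Nat.prime_two
    obtain ⟨z, hz⟩ := exists_prime_orderOf_dvd_card' 2 hd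
    have h1 := dvd_roots hd
    rw [Nat.prime_two.divisors, Finset.sum_pair (by norm_num), cnt_one] at h1
    have h2 : cnt G 2 = 1 := by
      have := hval z
      rw [hz] at this
      rcases this with h | h
      · exact h
      · rw [h] at h1; omega
    refine ⟨z, hz, h2, fun x hx => ?_⟩
    have := (Nat.card_eq_one_iff_unique.mp h2).1
    exact congrArg Subtype.val (Subsingleton.elim (⟨x, hx⟩ : {g : G // orderOf g = 2}) ⟨z, hz⟩)
  have h4data : ∀ w : G, orderOf w = 4 → cnt G 4 = n ∧ 2 ∣ n := fun w hw => by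
    obtain ⟨h1, h2⟩ := hbig w (by omega)
    rw [hw] at h1 h2
    exact ⟨h1, (show Nat.totient 4 = 2 by decide) ▸ h2⟩
  have hno4p : ∀ w : G, orderOf w = 4 → ∀ p, p.Prime → p ≠ 2 → ¬ p ∣ Nat.card G := by
    intro w hw p hp hp2 hpd
    obtain ⟨hc4, hn2⟩ := h4data w hw
    have hd4 : 4 ∣ Nat.card G := hw ▸ orderOf_dvd_natCard w
    obtain ⟨z, hz, hc2, huniq⟩ := huni hn2 ((by norm_num : 2 ∣ 4).trans hd4)
    have := Fact.mk hp
    obtain ⟨g, hg⟩ := exists_prime_orderOf_dvd_card' p hpd
    have hzg : Commute z g := by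
      have h := huniq (MulAut.conj g z) (by rw [MulEquiv.orderOf_eq, hz])
      rw [MulAut.conj_apply] at h
      exact (mul_inv_eq_iff_eq_mul.mp h).symm
    have hcop2 : (2 : ℕ).Coprime p := (Nat.coprime_primes Nat.prime_two hp).mpr hp2.symm
    have hc2p : cnt G (2 * p) = n := by
      have h1 : orderOf (z * g) = 2 * p := by
        rw [hzg.orderOf_mul_eq_mul_orderOf_of_coprime (by rwa [hz, hg]), hz, hg]
      have := (hbig (z * g) (by rw [h1]; linarith [hp.two_le])).1
      rwa [h1] at this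
    have hcop : (4 : ℕ).Coprime p := by simpa using hcop2.pow_left 2
    have h1 := (dvd_mul_left p 4).trans (dvd_roots (hcop.mul_dvd_of_dvd_of_dvd hd4 hpd))
    have hp3 : 3 ≤ p := by have := hp.two_le; omega
    have hdiv : (4 * p).divisors = {1, 2, 4, p, 2 * p, 4 * p} := by
      ext c
      simp only [Nat.mem_divisors, Finset.mem_insert, Finset.mem_singleton, ne_eq, mul_eq_zero,
        hp.ne_zero, show (4 : ℕ) ≠ 0 by norm_num, or_self, not_false_eq_true, and_true]
      constructor
      · intro hc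
        obtain ⟨y, z, hy, hz, rfl⟩ := hmul 4 p hcop hc
        have : y ≤ 4 := Nat.le_of_dvd (by norm_num) hy
        rcases (Nat.dvd_prime hp).mp hz with rfl | rfl <;> interval_cases y <;> simp_all
      · rintro (rfl | rfl | rfl | rfl | rfl | rfl)
        · simp
        · exact dvd_mul_of_dvd_left (by norm_num) _
        · simp
        · simp
        · exact mul_dvd_mul_right (by norm_num) _
        · simp
    have hp4 : p ≠ 4 := fun h => by rw [h] at hp; norm_num at hp
    rw [hdiv, Finset.sum_insert (by simp; omega), Finset.sum_insert (by simp; omega),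
      Finset.sum_insert (by simp; omega), Finset.sum_insert (by simp; omega), Finset.sum_pair (by omega),
      cnt_one, hc2, hc4, (hodd p hp hp2 hpd).1, hc2p] at h1
    have h2 := (hodd p hp hp2 hpd).2.2
    refine hnd p hp hp2 hpd ?_
    rcases hcases (4 * p) (by omega) with h0 | h0 <;> rw [h0] at h1
    · rw [show 1 + (1 + (n + (n + (n + 0)))) = 2 * (1 + n) + n by ring] at h1
      exact (Nat.dvd_add_right (h2.mul_left 2)).mp h1
    · rw [show 1 + (1 + (n + (n + (n + n)))) = 2 * (1 + n) + 2 * n by ring] at h1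
      exact hcop2.symm.dvd_of_dvd_mul_left ((Nat.dvd_add_right (h2.mul_left 2)).mp h1)
  have hno8 : ∀ x : G, ¬ 8 ∣ orderOf x := by
    intro x ⟨c, hc⟩
    have hy : orderOf (x ^ c) = 8 := by
      rw [orderOf_pow, hc, Nat.gcd_mul_left_left, Nat.mul_div_cancel _ (Nat.pos_of_ne_zero ?_)]
      intro h0; rw [h0, mul_zero] at hc; exact (orderOf_pos x).ne' hc
    have h8 := (hbig (x ^ c) (by omega)).2
    rw [hy] at h8
    have hw : orderOf ((x ^ c) ^ 2) = 4 := by
      rw [orderOf_pow, hy]; rfl
    have h4n : 4 ∣ n := (show Nat.totient 8 = 4 by decide) ▸ h8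
    obtain ⟨z, hz, hc2, -⟩ := huni ((by norm_num : 2 ∣ 4).trans h4n) ((by norm_num : 2 ∣ 8).trans (hy ▸ orderOf_dvd_natCard _))
    have h1 := dvd_roots ((by norm_num : 4 ∣ 8).trans (hy ▸ orderOf_dvd_natCard (x ^ c)))
    rw [show (4 : ℕ).divisors = {1, 2, 4} by decide, Finset.sum_insert (by decide),
      Finset.sum_pair (by norm_num), cnt_one, hc2, (h4data _ hw).1] at h1
    omega
  have hord : ∀ x : G, ∀ q k : ℕ, q.Prime → q ^ k ∣ orderOf x → q ∣ Nat.card G ∨ k = 0 := fun x q k _ hd => by
    rcases Nat.eq_zero_or_pos k with rfl | hk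
    · exact Or.inr rfl
    · exact Or.inl ((dvd_pow_self q hk.ne').trans (hd.trans (orderOf_dvd_natCard x)))
  by_cases hex : ∃ p, p.Prime ∧ p ≠ 2 ∧ p ∣ Nat.card G
  · obtain ⟨p, hp, hp2, hpd⟩ := hex
    have := Fact.mk hp
    have hbound : ∀ x : G, orderOf x ∣ 2 * p := fun x => by
      rw [Nat.dvd_iff_prime_pow_dvd_dvd]
      intro q k hq hqk
      rcases hord x q k hq hqk with hqd | rfl
      swap
      · simp
      by_cases hq2 : q = 2
      · subst hq2
        have hk : k ≤ 1 := by
          by_contra hk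
          obtain ⟨c, hc⟩ := (show (4 : ℕ) ∣ 2 ^ k from pow_dvd_pow 2 (show 2 ≤ k by omega)).trans hqk
          refine hno4p (x ^ c) ?_ p hp hp2 hpd
          rw [orderOf_pow, hc, Nat.gcd_mul_left_left, Nat.mul_div_cancel _ (Nat.pos_of_ne_zero ?_)]
          intro h0; rw [h0, mul_zero] at hc; exact (orderOf_pos x).ne' hc
        exact dvd_mul_of_dvd_left ((pow_dvd_pow 2 hk).trans (by norm_num)) _
      · obtain rfl := honeprime q p hq hp hq2 hp2 hqd hpd
        have hk : k ≤ 1 := by
          by_contra hk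
          exact hsq q hq hq2 x ((pow_dvd_pow q (show 2 ≤ k by omega)).trans hqk)
        exact dvd_mul_of_dvd_right ((pow_dvd_pow q hk).trans (by rw [pow_one])) _
    by_cases h2 : 2 ∣ Nat.card G
    · obtain ⟨z, hz, -, huniq⟩ := huni (hodd p hp hp2 hpd).2.1 h2
      exact Or.inr (Or.inr (Or.inr (prod_two hp2 z hz huniq (fun x => orderOf_dvd_iff_pow_eq_one.mp (hbound x)) hpd)))
    · have hpp : ∀ x : G, orderOf x ∣ p := fun x => by
        refine Nat.Coprime.dvd_of_dvd_mul_left ?_ (hbound x)
        exact (Nat.prime_two.coprime_iff_not_dvd.mpr fun h => h2 (h.trans (orderOf_dvd_natCard x))).symm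
      refine Or.inl ⟨p, hp, IsPGroup.iff_orderOf.mpr fun x => ?_, ?_, ?_⟩
      · obtain ⟨i, -, hi⟩ := (Nat.dvd_prime_pow hp).mp (show orderOf x ∣ p ^ 1 by rw [pow_one]; exact hpp x)
        exact ⟨i, hi⟩
      · exact le_trans (by have := hp.two_le; omega) (Nat.le_of_dvd Nat.card_pos hpd)
      · refine (hp.eq_one_or_self_of_dvd _ (Monoid.exponent_dvd.mpr hpp)).resolve_left fun h1 => ?_
        obtain ⟨g, hg⟩ := exists_prime_orderOf_dvd_card' p hpd
        exact hp.ne_one (Nat.dvd_one.mp (h1 ▸ hg ▸ Monoid.order_dvd_exponent g))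
  · have h2g : ∀ x : G, ∃ k ≤ 2, orderOf x = 2 ^ k := fun x => by
      have h1 : orderOf x ∣ 4 := by
        rw [Nat.dvd_iff_prime_pow_dvd_dvd]
        intro q k hq hqk
        rcases hord x q k hq hqk with hqd | rfl
        swap
        · simp
        obtain rfl : q = 2 := by_contra fun hq2 => hex ⟨q, hq, hq2, hqd⟩
        by_contra hk
        refine hno8 x ((pow_dvd_pow 2 (show 3 ≤ k from ?_)).trans hqk)
        by_contra hk3
        exact hk (pow_dvd_pow 2 (show k ≤ 2 by omega))
      exact (Nat.dvd_prime_pow Nat.prime_two).mp (show orderOf x ∣ 2 ^ 2 from h1)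
    have hP : IsPGroup 2 G := IsPGroup.iff_orderOf.mpr fun x => by
      obtain ⟨k, -, hk⟩ := h2g x
      exact ⟨k, hk⟩
    by_cases hw : ∃ w : G, orderOf w = 4
    · obtain ⟨w, hw⟩ := hw
      obtain ⟨z, hz, -, huniq⟩ := huni (h4data w hw).2 ((by norm_num : 2 ∣ 4).trans (hw ▸ orderOf_dvd_natCard w))
      rcases quaternion_or_cyclic hP (fun x => by
        obtain ⟨k, hk, hk'⟩ := h2g x
        exact orderOf_dvd_iff_pow_eq_one.mp (hk' ▸ pow_dvd_pow 2 hk))
        (fun a b ha hb => (huniq a ha).trans (huniq b hb).symm) hw with h | h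
      · exact Or.inr (Or.inl h)
      · exact Or.inr (Or.inr (Or.inl h))
    · have h2all : ∀ x : G, orderOf x ∣ 2 := fun x => by
        obtain ⟨k, hk, hk'⟩ := h2g x
        rw [hk']
        interval_cases k
        · norm_num
        · norm_num
        · exact absurd ⟨x, hk'⟩ hw
      refine Or.inl ⟨2, Nat.prime_two, hP, ?_, ?_⟩
      · by_contra hc
        refine hn ?_
        rcases (Nat.dvd_prime Nat.prime_two).mp (h2all x₀) with h1 | h1
        · rw [← hx₀, h1, cnt_one]
        · rw [← hx₀, h1]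
          have : Nat.card G = 2 := by
            have := Nat.le_of_dvd Nat.card_pos (h1 ▸ orderOf_dvd_natCard x₀)
            omega
          refine le_antisymm ?_ ?_
          · have h5 : cnt G 2 + cnt G 1 ≤ 2 := by
              have := S4377.key G (n := 2) two_pos
              rw [Nat.prime_two.divisors, Finset.sum_pair (by norm_num)] at this
              have hle := Nat.card_le_card_of_injective (Subtype.val : {g : G // g ^ 2 = 1} → G) Subtype.val_injective
              unfold cnt
              omega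
            rw [cnt_one] at h5
            omega
          · have : Nonempty {g : G // orderOf g = 2} := ⟨⟨x₀, h1⟩⟩
            exact Nat.one_le_iff_ne_zero.mpr Nat.card_pos.ne'
      · refine (Nat.prime_two.eq_one_or_self_of_dvd _ (Monoid.exponent_dvd.mpr h2all)).resolve_left fun h1 => ?_
        have := Monoid.order_dvd_exponent x₀
        rw [h1, Nat.dvd_one] at this
        exact hn (by rw [← hx₀, this, cnt_one])

end Cfsg.Agent.S3995
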