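import Cfsg.Statements.S3996
import Cfsg.Agent.Lib.Counting.ThreeValues
import Cfsg.Agent.S0144
import Cfsg.Agent.Lib.Invol.Cyclic
-- import your own Cfsg.Agent.* helpers here

set_option autoImplicit false
open Cfsg

namespace Cfsg.Agent.S3996

open Cfsg.Lib.Counting

universe u

variable {G : Type u} [Group G] [Finite G]

theorem solvable_of_two_primes {H : Type u} [Group H] [Finite H] (p q : ℕ) (hp : p.Prime) (hq : q.Prime)
    (h : ∀ r : ℕ, r.Prime → r ∣ Nat.card H → r = p ∨ r = q) : Group.IsSolvable H := by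
  have hd : Nat.card H ∣ p ^ Nat.card H * q ^ Nat.card H := by
    rw [Nat.dvd_iff_prime_pow_dvd_dvd]
    intro r k hr hk
    rcases Nat.eq_zero_or_pos k with rfl | hk0
    · simp
    have hkle : k ≤ Nat.card H :=
      (Nat.lt_pow_self hr.one_lt).le.trans (Nat.le_of_dvd Nat.card_pos hk)
    rcases h r hr ((dvd_pow_self r hk0.ne').trans hk) with rfl | rfl
    · exact (pow_dvd_pow r hkle).mul_right _
    · exact (pow_dvd_pow r hkle).mul_left _
  obtain ⟨u, v, hu, hv, huv⟩ := exists_dvd_and_dvd_of_dvd_mul hd
  obtain ⟨i, -, rfl⟩ := (Nat.dvd_prime_pow hp).1 hu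
  obtain ⟨j, -, rfl⟩ := (Nat.dvd_prime_pow hq).1 hv
  exact Cfsg.Agent.S0144.result p q i j hp hq huv

theorem solvable_of_card_le_two {H : Type u} [Group H] [Finite H] (h : (Nat.card H).primeFactors.card ≤ 2) :
    Group.IsSolvable H := by
  have hmem : ∀ r : ℕ, r.Prime → r ∣ Nat.card H → r ∈ (Nat.card H).primeFactors := fun r hr hd =>
    Nat.mem_primeFactors.2 ⟨hr, hd, Nat.card_pos.ne'⟩
  interval_cases hc : (Nat.card H).primeFactors.card
  · refine solvable_of_two_primes 2 3 Nat.prime_two Nat.prime_three fun r hr hd => ?_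
    rw [Finset.card_eq_zero] at hc
    exact absurd (hc ▸ hmem r hr hd) (Finset.notMem_empty r)
  · obtain ⟨p, hp⟩ := Finset.card_eq_one.1 hc
    have hpp : p.Prime := (Nat.mem_primeFactors.1 (hp ▸ Finset.mem_singleton_self p)).1
    refine solvable_of_two_primes p p hpp hpp fun r hr hd => Or.inl ?_
    exact Finset.mem_singleton.1 (hp ▸ hmem r hr hd)
  · obtain ⟨p, q, -, hpq⟩ := Finset.card_eq_two.1 hc
    refine solvable_of_two_primes p q (Nat.mem_primeFactors.1 (hpq ▸ by simp : p ∈ (Nat.card H).primeFactors)).1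
      (Nat.mem_primeFactors.1 (hpq ▸ by simp : q ∈ (Nat.card H).primeFactors)).1 fun r hr hd => ?_
    have h' := hmem r hr hd
    rw [hpq] at h'
    simpa using h'

theorem orderCount_two_mul (z : G) (hz : orderOf z = 2) (huniq : ∀ g : G, orderOf g = 2 → g = z) {m : ℕ}
    (hm : Odd m) : orderCount G (2 * m) = orderCount G m := by
  have hm0 : m ≠ 0 := by rintro rfl; exact Nat.not_odd_zero hm
  have hc : ∀ g : G, Commute z g := fun g => by
    have h1 : g * z * g⁻¹ = z := huniq _ (by rw [show g * z * g⁻¹ = MulAut.conj g z from rfl, MulEquiv.orderOf_eq, hz])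
    exact (mul_inv_eq_iff_eq_mul.1 h1).symm
  have hz2 : z * z = 1 := by rw [← pow_two, ← hz, pow_orderOf_eq_one]
  have hup : ∀ g : G, orderOf g = m → orderOf (z * g) = 2 * m := fun g hg => by
    rw [(hc g).orderOf_mul_eq_mul_orderOf_of_coprime (by rw [hz, hg]; exact Nat.coprime_two_left.2 hm), hz, hg]
  have hdown : ∀ g : G, orderOf g = 2 * m → orderOf (z * g) = m := fun g hg => by
    have h1 : orderOf (g ^ m) = 2 := by
      rw [orderOf_pow' g hm0, hg, Nat.gcd_eq_right (dvd_mul_left m 2), Nat.mul_div_cancel _ (Nat.pos_of_ne_zero hm0)]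
    have h2 : z * g = g ^ (m + 1) := by rw [pow_succ, huniq _ h1]
    rw [h2, orderOf_pow' g (by omega), hg]
    obtain ⟨j, rfl⟩ := hm
    rw [show 2 * j + 1 + 1 = 2 * (j + 1) by ring, Nat.gcd_mul_left,
      show Nat.gcd (2 * j + 1) (j + 1) = 1 from by
        have h3 := Nat.gcd_dvd_left (2 * j + 1) (j + 1)
        have h4 := Nat.gcd_dvd_right (2 * j + 1) (j + 1)
        exact Nat.dvd_one.1 ((Nat.dvd_add_right h3).1 (show Nat.gcd (2 * j + 1) (j + 1) ∣ 2 * j + 1 + 1 by
          rw [show 2 * j + 1 + 1 = 2 * (j + 1) by ring]; exact h4.mul_left 2)),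
      mul_one, Nat.mul_div_cancel_left _ two_pos]
  refine Nat.card_congr
    { toFun := fun g => ⟨z * g.1, hdown g.1 g.2⟩
      invFun := fun g => ⟨z * g.1, hup g.1 g.2⟩
      left_inv := fun g => Subtype.ext (by simp [← mul_assoc, hz2])
      right_inv := fun g => Subtype.ext (by simp [← mul_assoc, hz2]) }

theorem four_divisors (f : ℕ → ℕ) : ∑ d ∈ (4 : ℕ).divisors, f d = f 1 + f 2 + f 4 := by
  rw [show (4 : ℕ).divisors = {1, 2, 4} by decide]
  simp [add_assoc]

theorem not_two_odd_primes {z : G} (hz : orderOf z = 2) (huniq : ∀ g : G, orderOf g = 2 → g = z)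
    (hs2 : orderCount G 2 = 1) {u w : ℕ} (hu : orderCount G 4 = u) (hu0 : u ≠ 0)
    (hval : ∀ m, 2 < m → orderCount G m = 0 ∨ orderCount G m = u ∨ orderCount G m = w) (huw : u ≠ w)
    {p q : ℕ} (hp : p.Prime) (hp2 : p ≠ 2) (hq : q.Prime) (hq2 : q ≠ 2) (hpq : p ≠ q)
    (hpd : p ∣ Nat.card G) (hqd : q ∣ Nat.card G)
    (hcases : orderCount G p = u ∧ orderCount G q = u ∨ orderCount G p = w ∧ orderCount G q = w ∨
      orderCount G p = u ∧ orderCount G q = w) : False := by
  haveI := Fact.mk hp
  haveI := Fact.mk hq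
  have hp2' := two_ne_zero_zmod hp hp2
  have hq2' := two_ne_zero_zmod hq hq2
  have h4 : 4 ∣ Nat.card G := by
    obtain ⟨g, hg⟩ := orderCount_ne_zero_iff.1 (hu ▸ hu0 : orderCount G 4 ≠ 0)
    exact hg ▸ orderOf_dvd_natCard g
  have hnd : ∀ x : ℕ, x.Prime → x ≠ 2 → ¬ x ∣ 4 := fun x hx hx2 h => hx2
    ((Nat.prime_dvd_prime_iff_eq hx Nat.prime_two).1 (hx.dvd_of_dvd_pow (show x ∣ 2 ^ 2 from h)))
  have h2m : ∀ x : ℕ, Odd x → orderCount G (2 * x) = orderCount G x := fun x hx => orderCount_two_mul z hz huniq hx
  have hsum1 : ∀ x : ℕ, x.Prime → x ≠ 2 → ∑ d ∈ (4 * x).divisors, orderCount G d =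
      (2 + u) + (2 * orderCount G x + orderCount G (4 * x)) := fun x hx hx2 => by
    rw [sum_divisors_mul_prime hx (hnd x hx hx2), four_divisors, four_divisors, orderCount_one, hs2, hu, one_mul,
      h2m x (hx.odd_of_ne_two hx2)]
    ring
  have hdp : 4 * p ∣ Nat.card G :=
    ((hp.coprime_iff_not_dvd.2 (hnd p hp hp2)).symm).mul_dvd_of_dvd_of_dvd h4 hpd
  have hdq : 4 * q ∣ Nat.card G :=
    ((hq.coprime_iff_not_dvd.2 (hnd q hq hq2)).symm).mul_dvd_of_dvd_of_dvd h4 hqd
  have hq4p : ¬ q ∣ 4 * p := fun h => ((Nat.Prime.dvd_mul hq).1 h).elim (hnd q hq hq2)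
    (fun h => hpq ((Nat.prime_dvd_prime_iff_eq hq hp).1 h).symm)
  have hdpq : 4 * p * q ∣ Nat.card G :=
    ((hq.coprime_iff_not_dvd.2 hq4p).symm).mul_dvd_of_dvd_of_dvd hdp hqd
  obtain ⟨ho, hlt⟩ := odd_mul_primes hp hp2 hq hq2
  have hsum2 : ∑ d ∈ (4 * p * q).divisors, orderCount G d =
      (2 + u + (2 * orderCount G p + orderCount G (4 * p))) +
        (2 * orderCount G q + orderCount G (4 * q) + (2 * orderCount G (p * q) + orderCount G (4 * p * q))) := by
    rw [sum_divisors_mul_prime hq hq4p, hsum1 p hp hp2, sum_divisors_mul_prime hp (hnd p hp hp2),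
      four_divisors, four_divisors]
    simp only [one_mul, mul_assoc]
    rw [h2m q (hq.odd_of_ne_two hq2), h2m (p * q) ho]
    ring
  -- the congruences
  have hm4 : 4 ∣ 2 + u := by
    have := dvd_sum_orderCount (G := G) h4
    rw [four_divisors, orderCount_one, hs2, hu] at this
    exact this
  have e4p := (dvd_mul_right 4 p).trans (dvd_sum_orderCount (G := G) hdp)
  have e4q := (dvd_mul_right 4 q).trans (dvd_sum_orderCount (G := G) hdq)
  have e4pq := ((dvd_mul_right 4 p).mul_right q).trans (dvd_sum_orderCount (G := G) hdpq)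
  have ep := cast_sum_eq_zero (G := G) hdp (dvd_mul_left p 4)
  have eq' := cast_sum_eq_zero (G := G) hdq (dvd_mul_left q 4)
  have epq_p := cast_sum_eq_zero (G := G) hdpq ((dvd_mul_left p 4).mul_right q)
  have epq_q := cast_sum_eq_zero (G := G) hdpq (dvd_mul_left q (4 * p))
  have f_p := cast_sum_eq_zero (G := G) (mul_dvd_of_primes hp hq hpq hpd hqd) (dvd_mul_right p q)
  have f_q := cast_sum_eq_zero (G := G) (mul_dvd_of_primes hp hq hpq hpd hqd) (dvd_mul_left q p)
  rw [sum_two_primes hp hq hpq] at f_p f_q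
  rw [hsum1 p hp hp2] at e4p ep
  rw [hsum1 q hq hq2] at e4q eq'
  rw [hsum2] at e4pq epq_p epq_q
  push_cast at f_p f_q ep eq' epq_p epq_q
  have hP := cast_prime hp hpd
  have hQ := cast_prime hq hqd
  have hcp := hval (4 * p) (by have := hp.two_le; omega)
  have hcq := hval (4 * q) (by have := hq.two_le; omega)
  have hd' := hval (p * q) (by
    have : 3 ≤ p := by have := hp.two_le; omega
    have := hq.two_le; nlinarith)
  have he := hval (4 * p * q) (by have := hp.two_le; have := hq.two_le; nlinarith)
  have he0 : orderCount G (4 * q) = 0 → orderCount G (4 * p * q) = 0 := fun h0 => by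
    by_contra hne
    exact orderCount_ne_zero_of_dvd hne ⟨p, by ring⟩ (by have := hq.pos; omega) h0
  rcases hcases with ⟨h1, h2⟩ | ⟨h1, h2⟩ | ⟨h1, h2⟩
  all_goals rw [h1] at e4p e4pq ep epq_p epq_q f_p f_q hP
  all_goals rw [h2] at e4q e4pq eq' epq_p epq_q f_p f_q hQ
  · -- both counts equal to that of four
    have cp : orderCount G (4 * p) = w ∧ (w : ZMod p) = 1 := by
      have h3 : (orderCount G (4 * p) : ZMod p) = 1 := by linear_combination ep - 3 * hP
      rcases hcp with e | e | e
      · exact absurd (e ▸ h3) (by rw [Nat.cast_zero]; exact zero_ne_one)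
      · rw [e, hP] at h3; exact absurd (by linear_combination -h3 : (2 : ZMod p) = 0) hp2'
      · exact ⟨e, e ▸ h3⟩
    have cq : orderCount G (4 * q) = w := by
      have h3 : (orderCount G (4 * q) : ZMod q) = 1 := by linear_combination eq' - 3 * hQ
      rcases hcq with e | e | e
      · exact absurd (e ▸ h3) (by rw [Nat.cast_zero]; exact zero_ne_one)
      · rw [e, hQ] at h3; exact absurd (by linear_combination -h3 : (2 : ZMod q) = 0) hq2'
      · exact e
    have cd : orderCount G (p * q) = w := by
      have h3 : (orderCount G (p * q) : ZMod p) = 1 := by linear_combination f_p - 2 * hP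
      rcases hd' with e | e | e
      · exact absurd (e ▸ h3) (by rw [Nat.cast_zero]; exact zero_ne_one)
      · rw [e, hP] at h3; exact absurd (by linear_combination -h3 : (2 : ZMod p) = 0) hp2'
      · exact e
    rw [cp.1] at e4p e4pq epq_p
    rw [cq] at e4pq epq_p
    rw [cd] at e4pq epq_p
    have h3 : (orderCount G (4 * p * q) : ZMod p) = -1 := by linear_combination epq_p - 5 * hP - 4 * cp.2
    rcases he with e | e | e
    · rw [e, Nat.cast_zero] at h3; exact one_ne_zero (α := ZMod p) (by linear_combination h3)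
    · rw [e] at e4pq; omega
    · rw [e, cp.2] at h3; exact hp2' (by linear_combination h3)
  · -- both counts different from that of four
    have hup : (u : ZMod p) = 1 := by
      have h3 : (orderCount G (p * q) : ZMod p) = 1 := by linear_combination f_p - 2 * hP
      rcases hd' with e | e | e
      · exact absurd (e ▸ h3) (by rw [Nat.cast_zero]; exact zero_ne_one)
      · exact e ▸ h3
      · rw [e, hP] at h3; exact absurd (by linear_combination -h3 : (2 : ZMod p) = 0) hp2'
    have cd : orderCount G (p * q) = u := by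
      have h3 : (orderCount G (p * q) : ZMod p) = 1 := by linear_combination f_p - 2 * hP
      rcases hd' with e | e | e
      · exact absurd (e ▸ h3) (by rw [Nat.cast_zero]; exact zero_ne_one)
      · exact e
      · rw [e, hP] at h3; exact absurd (by linear_combination -h3 : (2 : ZMod p) = 0) hp2'
    have huq : (u : ZMod q) = 1 := by rw [cd] at f_q; linear_combination f_q - 2 * hQ
    have cp : orderCount G (4 * p) = w := by
      have h3 : (orderCount G (4 * p) : ZMod p) = -1 := by linear_combination ep - hup - 2 * hP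
      rcases hcp with e | e | e
      · rw [e, Nat.cast_zero] at h3; exact absurd (by linear_combination h3 : (1 : ZMod p) = 0) one_ne_zero
      · rw [e, hup] at h3; exact absurd (by linear_combination h3 : (2 : ZMod p) = 0) hp2'
      · exact e
    have cq : orderCount G (4 * q) = w := by
      have h3 : (orderCount G (4 * q) : ZMod q) = -1 := by linear_combination eq' - huq - 2 * hQ
      rcases hcq with e | e | e
      · rw [e, Nat.cast_zero] at h3; exact absurd (by linear_combination h3 : (1 : ZMod q) = 0) one_ne_zero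
      · rw [e, huq] at h3; exact absurd (by linear_combination h3 : (2 : ZMod q) = 0) hq2'
      · exact e
    rw [cp] at e4p e4pq epq_p
    rw [cq] at e4pq epq_p
    rw [cd] at e4pq epq_p
    have h3 : (orderCount G (4 * p * q) : ZMod p) = 1 := by linear_combination epq_p - 3 * hup - 6 * hP
    rcases he with e | e | e
    · rw [e, Nat.cast_zero] at h3; exact zero_ne_one h3
    · rw [e] at e4pq; omega
    · rw [e, hP] at h3; exact hp2' (by linear_combination -h3)
  · -- one of each
    have cp : orderCount G (4 * p) = w ∧ (w : ZMod p) = 1 := by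
      have h3 : (orderCount G (4 * p) : ZMod p) = 1 := by linear_combination ep - 3 * hP
      rcases hcp with e | e | e
      · exact absurd (e ▸ h3) (by rw [Nat.cast_zero]; exact zero_ne_one)
      · rw [e, hP] at h3; exact absurd (by linear_combination -h3 : (2 : ZMod p) = 0) hp2'
      · exact ⟨e, e ▸ h3⟩
    have cd : orderCount G (p * q) = u ∧ (u : ZMod q) = 0 := by
      have h3 : (orderCount G (p * q) : ZMod p) = -1 := by linear_combination f_p - hP - cp.2
      rcases hd' with e | e | e
      · rw [e, Nat.cast_zero] at h3; exact absurd (by linear_combination h3 : (1 : ZMod p) = 0) one_ne_zero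
      · refine ⟨e, ?_⟩
        rw [e] at f_q
        exact (mul_eq_zero.1 (show (2 : ZMod q) * u = 0 by linear_combination f_q - hQ)).resolve_left hq2'
      · rw [e, cp.2] at h3; exact absurd (by linear_combination h3 : (2 : ZMod p) = 0) hp2'
    have cq : orderCount G (4 * q) = 0 := by
      have h3 : (orderCount G (4 * q) : ZMod q) = 0 := by linear_combination eq' - cd.2 - 2 * hQ
      rcases hcq with e | e | e
      · exact e
      · rw [cp.1] at e4p; rw [e] at e4q; omega
      · rw [e, hQ] at h3; exact absurd (by linear_combination -h3 : (1 : ZMod q) = 0) one_ne_zero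
    rw [cp.1, cq, cd.1, he0 cq] at epq_q
    push_cast at epq_q
    exact one_ne_zero (α := ZMod q) (by linear_combination -epq_q + 5 * cd.2 + 3 * hQ)

/-- A finite group in which the numbers of elements of each order that occurs (the numbers #{g : o(g) = m}, m ranging over the element orders) take exactly three different values is solvable. -/
theorem result {G : Type*} [Group G] [Finite G] (h : (((fun m : ℕ => Nat.card {g : G // orderOf g = m}) '' Set.range (orderOf : G → ℕ))).ncard = 3) : Group.IsSolvable G := by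
  classical
  set V := (fun m : ℕ => Nat.card {g : G // orderOf g = m}) '' Set.range (orderOf : G → ℕ) with hV
  have h1V : 1 ∈ V := ⟨1, ⟨1, orderOf_one⟩, orderCount_one⟩
  have h2 : (V \ {1}).ncard = 2 := by
    rw [Set.ncard_sdiff_singleton_of_mem h1V, h]
  obtain ⟨a, b, hab, hab2⟩ := Set.ncard_eq_two.1 h2
  have hmem : ∀ m, orderCount G m ≠ 0 → orderCount G m = 1 ∨ orderCount G m = a ∨ orderCount G m = b := by
    intro m hm
    obtain ⟨g, hg⟩ := orderCount_ne_zero_iff.1 hm
    have hV' : orderCount G m ∈ V := ⟨m, ⟨g, hg⟩, rfl⟩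
    by_cases h1 : orderCount G m = 1
    · exact Or.inl h1
    · have : orderCount G m ∈ V \ {1} := ⟨hV', h1⟩
      rw [hab2] at this
      exact Or.inr (by simpa using this)
  have hval : ∀ m, 2 < m → orderCount G m = 0 ∨ orderCount G m = a ∨ orderCount G m = b := fun m hm => by
    by_cases h0 : orderCount G m = 0
    · exact Or.inl h0
    · refine Or.inr ((hmem m h0).resolve_left fun h1 => ?_)
      have := even_orderCount (G := G) hm
      rw [h1] at this; omega
  have hodd : OddValues G a b := fun m hm h1 => hval m (by obtain ⟨k, rfl⟩ := hm; omega)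
  by_cases hGe : Odd (Nat.card G)
  · exact solvable_of_card_le_two (primeFactors_card_le_two hodd hGe)
  rw [Nat.not_odd_iff_even, even_iff_two_dvd] at hGe
  haveI : Fact (Nat.Prime 2) := ⟨Nat.prime_two⟩
  have hs2 : orderCount G 2 ≠ 0 := orderCount_prime_ne_zero Nat.prime_two hGe
  by_cases hs21 : orderCount G 2 = 1
  · obtain ⟨z, hz⟩ := orderCount_ne_zero_iff.1 hs2
    have huniq : ∀ g : G, orderOf g = 2 → g = z := fun g hg => by
      have hsub := (Nat.card_eq_one_iff_unique.1 hs21).1
      exact congrArg Subtype.val (hsub.elim (⟨g, hg⟩ : {g : G // orderOf g = 2}) ⟨z, hz⟩)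
    by_cases hs4 : orderCount G 4 = 0
    · -- a Sylow subgroup of order two
      obtain ⟨T⟩ : Nonempty (Sylow 2 G) := inferInstance
      have hle : ∀ x ∈ (T : Subgroup G), x = 1 ∨ x = z := by
        intro x hx
        obtain ⟨k, hk⟩ := T.isPGroup' ⟨x, hx⟩
        obtain ⟨j, -, hj⟩ := (Nat.dvd_prime_pow Nat.prime_two).1
          (orderOf_dvd_of_pow_eq_one (x := x) (n := 2 ^ k) (congrArg Subtype.val hk))
        rcases Nat.lt_or_ge j 2 with hj2 | hj2
        · interval_cases j
          · exact Or.inl (orderOf_eq_one_iff.1 hj)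
          · exact Or.inr (huniq x hj)
        · exfalso
          exact orderCount_ne_zero_of_dvd (orderCount_ne_zero_iff.2 ⟨x, hj⟩)
            (show 4 ∣ 2 ^ j from (pow_dvd_pow 2 hj2)) four_ne_zero hs4
      haveI : IsCyclic (T : Subgroup G) := by
        have hzT : ∀ x ∈ (T : Subgroup G), x ≠ 1 → x = z := fun x hx h1 => (hle x hx).resolve_left h1
        by_cases hT : (T : Subgroup G) = ⊥
        · rw [hT]; infer_instance
        · obtain ⟨⟨x, hx⟩, hx1⟩ := Subgroup.ne_bot_iff_exists_ne_one.1 hT
          refine ⟨⟨⟨x, hx⟩, fun y => ?_⟩⟩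
          by_cases hy : y = 1
          · exact ⟨0, by simp [hy]⟩
          · rw [show y = ⟨x, hx⟩ from Subtype.ext ((hzT y y.2 fun e => hy (Subtype.ext e)).trans
              (hzT x hx fun e => hx1 (Subtype.ext e)).symm)]
            exact Subgroup.mem_zpowers _
      obtain ⟨M, hM⟩ := Cfsg.Lib.Invol.exists_index_two_of_isCyclic (even_iff_two_dvd.2 hGe) T inferInstance
      haveI : M.Normal := Subgroup.normal_of_index_eq_two hM
      have hModd : Odd (Nat.card M) := by
        rw [Nat.odd_iff]
        by_contra hne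
        have hd4 : 2 ^ 2 ∣ Nat.card G := by
          rw [← M.index_mul_card, hM, pow_two]
          exact mul_dvd_mul_left 2 (Nat.dvd_of_mod_eq_zero (by omega))
        have hle2 := Nat.le_of_dvd Nat.card_pos (T.pow_dvd_card_of_pow_dvd_card hd4)
        have : Nat.card (T : Subgroup G) ≤ 2 := by
          refine (Nat.card_mono (Set.toFinite ({1, z} : Set G)) fun x hx => hle x hx).trans ?_
          rw [Nat.card_coe_set_eq]
          exact (Set.ncard_insert_le _ _).trans (by rw [Set.ncard_singleton])
        omega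
      have hMv : OddValues M a b := fun m hm h1 => by
        have hcount : orderCount M m = orderCount G m := by
          refine Nat.card_congr
            { toFun := fun g => ⟨g.1.1, by rw [Subgroup.orderOf_coe]; exact g.2⟩
              invFun := fun g => ⟨⟨g.1, ?_⟩, by rw [Subgroup.orderOf_mk]; exact g.2⟩
              left_inv := fun _ => rfl
              right_inv := fun _ => rfl }
          obtain ⟨k, rfl⟩ := hm
          have h3 := Subgroup.sq_mem_of_index_two hM g.1
          have h4 : g.1 = (g.1 ^ 2) ^ (k + 1) := by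
            have h5 := pow_orderOf_eq_one g.1
            rw [g.2] at h5
            rw [← pow_mul, show 2 * (k + 1) = (2 * k + 1) + 1 by ring, pow_succ, h5, one_mul]
          rw [h4]; exact M.pow_mem h3 _
        rw [hcount]; exact hodd m hm h1
      haveI := solvable_of_card_le_two (primeFactors_card_le_two hMv hModd)
      haveI : Group.IsSolvable (G ⧸ M) := by
        haveI : IsCyclic (G ⧸ M) := isCyclic_of_prime_card (p := 2) hM
        exact Group.isSolvable_of_comm IsCyclic.commGroup.mul_comm
      exact Group.isSolvable_of_ker_le_range M.subtype (QuotientGroup.mk' M)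
        (by rw [QuotientGroup.ker_mk', Subgroup.range_subtype])
    · -- two odd primes are impossible
      by_cases htwo : ∃ p q : ℕ, p.Prime ∧ p ≠ 2 ∧ q.Prime ∧ q ≠ 2 ∧ p ≠ q ∧ p ∣ Nat.card G ∧ q ∣ Nat.card G
      · exfalso
        obtain ⟨p, q, hp, hp2, hq, hq2, hpq, hpd, hqd⟩ := htwo
        have hsp := (hval p (by have := hp.two_le; omega)).resolve_left (orderCount_prime_ne_zero hp hpd)
        have hsq := (hval q (by have := hq.two_le; omega)).resolve_left (orderCount_prime_ne_zero hq hqd)
        rcases (hval 4 (by norm_num)).resolve_left hs4 with hu | hu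
        · rcases hsp with e | e <;> rcases hsq with e' | e'
          · exact not_two_odd_primes hz huniq hs21 hu (hu ▸ hs4) hval hab hp hp2 hq hq2 hpq hpd hqd (Or.inl ⟨e, e'⟩)
          · exact not_two_odd_primes hz huniq hs21 hu (hu ▸ hs4) hval hab hp hp2 hq hq2 hpq hpd hqd (Or.inr (Or.inr ⟨e, e'⟩))
          · exact not_two_odd_primes hz huniq hs21 hu (hu ▸ hs4) hval hab hq hq2 hp hp2 hpq.symm hqd hpd (Or.inr (Or.inr ⟨e', e⟩))
          · exact not_two_odd_primes hz huniq hs21 hu (hu ▸ hs4) hval hab hp hp2 hq hq2 hpq hpd hqd (Or.inr (Or.inl ⟨e, e'⟩))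
        · have hval' : ∀ m, 2 < m → orderCount G m = 0 ∨ orderCount G m = b ∨ orderCount G m = a :=
            fun m hm => (hval m hm).imp_right Or.symm
          rcases hsp with e | e <;> rcases hsq with e' | e'
          · exact not_two_odd_primes hz huniq hs21 hu (hu ▸ hs4) hval' hab.symm hp hp2 hq hq2 hpq hpd hqd (Or.inr (Or.inl ⟨e, e'⟩))
          · exact not_two_odd_primes hz huniq hs21 hu (hu ▸ hs4) hval' hab.symm hq hq2 hp hp2 hpq.symm hqd hpd (Or.inr (Or.inr ⟨e', e⟩))
          · exact not_two_odd_primes hz huniq hs21 hu (hu ▸ hs4) hval' hab.symm hp hp2 hq hq2 hpq hpd hqd (Or.inr (Or.inr ⟨e, e'⟩))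
          · exact not_two_odd_primes hz huniq hs21 hu (hu ▸ hs4) hval' hab.symm hp hp2 hq hq2 hpq hpd hqd (Or.inl ⟨e, e'⟩)
      · push Not at htwo
        by_cases hex : ∃ p : ℕ, p.Prime ∧ p ≠ 2 ∧ p ∣ Nat.card G
        · obtain ⟨p, hp, hp2, hpd⟩ := hex
          refine solvable_of_two_primes 2 p Nat.prime_two hp fun r hr hrd => ?_
          by_contra hne
          push Not at hne
          exact htwo r p hr hne.1 hp hp2 hne.2 hrd hpd
        · push Not at hex
          refine solvable_of_two_primes 2 3 Nat.prime_two Nat.prime_three fun r hr hrd => Or.inl ?_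
          by_contra hne
          exact hex r hr hne hrd
  · -- one value above two
    have hs2odd : ¬ 2 ∣ orderCount G 2 := fun hd => by
      have h3 := dvd_sum_orderCount (G := G) hGe
      rw [Nat.prime_two.sum_divisors, orderCount_one] at h3
      omega
    obtain ⟨c, hc⟩ : ∃ c, ∀ m, 2 < m → orderCount G m = 0 ∨ orderCount G m = c := by
      rcases (hmem 2 hs2).resolve_left hs21 with e | e
      · refine ⟨b, fun m hm => (hval m hm).imp_right fun h' => h'.resolve_left fun ha => ?_⟩
        exact hs2odd (e.trans ha.symm ▸ even_orderCount hm)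
      · refine ⟨a, fun m hm => (hval m hm).imp_right fun h' => h'.resolve_right fun hb => ?_⟩
        exact hs2odd (e.trans hb.symm ▸ even_orderCount hm)
    have hc' : OddValues G c c := fun m hm h1 => (hc m (by obtain ⟨k, rfl⟩ := hm; omega)).imp_right Or.inl
    have honly : ∀ p q : ℕ, p.Prime → p ≠ 2 → q.Prime → q ≠ 2 → p ∣ Nat.card G → q ∣ Nat.card G → p = q := by
      intro p q hp hp2 hq hq2 hpd hqd
      by_contra hne
      have hsp := (hc p (by have := hp.two_le; omega)).resolve_left (orderCount_prime_ne_zero hp hpd)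
      have hsq := (hc q (by have := hq.two_le; omega)).resolve_left (orderCount_prime_ne_zero hq hqd)
      exact (pair_same hc' hp hp2 hq hq2 hne hpd hqd hsp hsq).2.2 rfl
    by_cases hex : ∃ p : ℕ, p.Prime ∧ p ≠ 2 ∧ p ∣ Nat.card G
    · obtain ⟨p, hp, hp2, hpd⟩ := hex
      refine solvable_of_two_primes 2 p Nat.prime_two hp fun r hr hrd => ?_
      by_contra hne
      push Not at hne
      exact hne.2 (honly r p hr hne.1 hp hp2 hrd hpd)
    · push Not at hex
      refine solvable_of_two_primes 2 3 Nat.prime_two Nat.prime_three fun r hr hrd => Or.inl ?_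
      by_contra hne
      exact hex r hr hne hrd

end Cfsg.Agent.S3996
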