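import Cfsg.Statements.S3997
import Mathlib.Tactic.Group
import Mathlib.GroupTheory.Nilpotent
import Mathlib.GroupTheory.SchurZassenhaus
-- import your own Cfsg.Agent.* helpers here

set_option autoImplicit false
open Cfsg

namespace Cfsg.Agent.S3997

open Subgroup

/-- The number of elements of `p`-power order is the sum over the orders. -/
theorem card_pElements_eq {G H : Type*} [Group G] [Finite G] [Group H] [Finite H]
    (hT : ∀ m : ℕ, Nat.card {g : G // orderOf g = m} = Nat.card {h : H // orderOf h = m}) (S : Set ℕ) :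
    Nat.card {g : G // orderOf g ∈ S} = Nat.card {h : H // orderOf h ∈ S} := by
  have h1 : ∀ m : ℕ, Nonempty ({g : G // orderOf g = m} ≃ {h : H // orderOf h = m}) := fun m =>
    ⟨(Finite.equivFinOfCardEq (hT m)).trans (Finite.equivFin _).symm⟩
  let e' : ∀ m : ℕ, {g : G // orderOf g = m} ≃ {h : H // orderOf h = m} := fun m => (h1 m).some
  let E : G ≃ H := (Equiv.sigmaFiberEquiv (orderOf : G → ℕ)).symm.trans
    ((Equiv.sigmaCongrRight e').trans (Equiv.sigmaFiberEquiv (orderOf : H → ℕ)))
  have hE : ∀ g, orderOf (E g) = orderOf g := fun g => (e' (orderOf g) ⟨g, rfl⟩).2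
  exact Nat.card_congr (Equiv.subtypeEquiv E fun g => by rw [hE])

/-- Let G and H be finite groups with the same order type: for every m they have the same number of elements of order m. If G is nilpotent then so is H. -/
theorem result {G H : Type*} [Group G] [Finite G] [Group H] [Finite H] (hT : (∀ m : ℕ, Nat.card {g : G // orderOf g = m} = Nat.card {h : H // orderOf h = m})) (hG : Group.IsNilpotent G) :
    Group.IsNilpotent H := by
  classical
  have hcard : Nat.card G = Nat.card H := by
    have := card_pElements_eq hT Set.univ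
    rwa [Nat.card_congr (Equiv.subtypeUnivEquiv (fun g => Set.mem_univ _)),
      Nat.card_congr (Equiv.subtypeUnivEquiv (fun h => Set.mem_univ _))] at this
  refine ((Group.isNilpotent_of_finite_tfae (G := H)).out 3 0 rfl rfl).mp ?_
  intro p hp P
  have hp' := hp
  obtain ⟨R⟩ : Nonempty (Sylow p G) := inferInstance
  have hRn : (R : Subgroup G).Normal := ((Group.isNilpotent_of_finite_tfae (G := G)).out 0 3 rfl rfl).mp hG p ‹_› R
  have hR : ∀ g : G, orderOf g ∈ {m : ℕ | ∃ k, m = p ^ k} ↔ g ∈ (R : Subgroup G) := fun g => by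
    constructor
    · rintro ⟨k, hk⟩
      obtain ⟨S, hS⟩ := (IsPGroup.of_card (G := zpowers g) (n := k) (by rw [Nat.card_zpowers, hk])).exists_le_sylow
      have : Subsingleton (Sylow p G) := (Sylow.unique_of_normal R hRn).instSubsingleton
      rw [Subsingleton.elim R S]
      exact hS (mem_zpowers g)
    · intro hg
      obtain ⟨k, hk⟩ := IsPGroup.iff_orderOf.mp R.isPGroup' ⟨g, hg⟩
      exact ⟨k, by rw [← hk, orderOf_mk]⟩
  have hPc : Nat.card (P : Subgroup H) = Nat.card {h : H // orderOf h ∈ {m : ℕ | ∃ k, m = p ^ k}} := by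
    rw [← card_pElements_eq hT, Nat.card_congr (Equiv.subtypeEquivRight hR), P.card_eq_multiplicity, ← hcard,
      ← R.card_eq_multiplicity]
  let i : ↥(P : Subgroup H) → {h : H // orderOf h ∈ {m : ℕ | ∃ k, m = p ^ k}} := fun h =>
    ⟨h.1, by
      obtain ⟨k, hk⟩ := IsPGroup.iff_orderOf.mp P.isPGroup' h
      exact ⟨k, by rw [← hk, orderOf_coe]⟩⟩
  have hi : Function.Bijective i := (Nat.bijective_iff_injective_and_card i).mpr
    ⟨fun a b h => Subtype.ext (congrArg (fun t => t.1) h), hPc⟩
  refine ⟨fun h hh g => ?_⟩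
  obtain ⟨y, hy⟩ := hi.2 ⟨g * h * g⁻¹, by
    obtain ⟨k, hk⟩ := IsPGroup.iff_orderOf.mp P.isPGroup' ⟨h, hh⟩
    exact ⟨k, by rw [← hk, orderOf_mk]; exact MulEquiv.orderOf_eq (MulAut.conj g) h⟩⟩
  have h1 : y.1 = g * h * g⁻¹ := congrArg Subtype.val hy
  exact h1 ▸ y.2

end Cfsg.Agent.S3997
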