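import Cfsg.Statements.S3998
import Cfsg.Agent.Lib.Coprime.Conjugacy
import Mathlib.GroupTheory.Solvable
import Mathlib.GroupTheory.SchurZassenhaus

set_option autoImplicit false
open Cfsg

namespace Cfsg.Agent.S3998

open Subgroup

universe u v

/-- All prime divisors of `n` are at least `r`. -/
def Big (r n : ℕ) : Prop := ∀ q : ℕ, q.Prime → q ∣ n → r ≤ q

/-- All prime divisors of `n` are below `r`. -/
def Small (r n : ℕ) : Prop := ∀ q : ℕ, q.Prime → q ∣ n → q < r

theorem coprime_of {r a b : ℕ} (ha : Big r a) (hb : Small r b) : a.Coprime b :=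
  Nat.coprime_of_dvd fun q hq h1 h2 => (Nat.lt_irrefl q) (lt_of_lt_of_le (hb q hq h2) (ha q hq h1))

theorem eq_of_split {r a a' b b' : ℕ} (h : a * a' = b * b') (ha : Big r a) (ha' : Small r a')
    (hb : Big r b) (hb' : Small r b') : a = b :=
  Nat.dvd_antisymm ((coprime_of ha hb').dvd_of_dvd_mul_right ⟨a', h.symm⟩)
    ((coprime_of hb ha').dvd_of_dvd_mul_right ⟨b', h⟩)

/-- A normal subgroup splitting the order at `r`. -/
def NormalHall (r : ℕ) {G : Type u} [Group G] (N : Subgroup G) : Prop :=
  N.Normal ∧ Big r (Nat.card N) ∧ Small r N.index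

theorem mem_iff_of_normalHall {G : Type u} [Group G] [Finite G] {r : ℕ} {N : Subgroup G}
    (h : NormalHall r N) (x : G) : x ∈ N ↔ Big r (orderOf x) := by
  have hN := h.1
  refine ⟨fun hx q hq hd => h.2.1 q hq (hd.trans ?_), fun hx => ?_⟩
  · exact orderOf_mk x hx ▸ orderOf_dvd_natCard _
  · refine (QuotientGroup.eq_one_iff x).mp (orderOf_eq_one_iff.mp ?_)
    have h1 : orderOf (x : G ⧸ N) ∣ orderOf x := orderOf_map_dvd (QuotientGroup.mk' N) x
    have h2 : orderOf (x : G ⧸ N) ∣ N.index := orderOf_dvd_natCard _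
    exact Nat.eq_one_of_dvd_coprimes (coprime_of hx h.2.2) h1 h2

theorem card_set_of_normalHall {G : Type u} [Group G] [Finite G] {r : ℕ} {N : Subgroup G}
    (h : NormalHall r N) : Nat.card {x : G // Big r (orderOf x)} = Nat.card N :=
  Nat.card_congr (Equiv.subtypeEquivRight fun x => (mem_iff_of_normalHall h x).symm)

theorem exists_prime_normal {G : Type u} [Group G] [Finite G] [Nontrivial G]
    (h : Cfsg.IsSupersolvable G) : ∃ (q : ℕ) (Q : Subgroup G), q.Prime ∧ Q.Normal ∧ Nat.card Q = q := by
  obtain ⟨n, H, h0, hn, hnorm, hstep⟩ := h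
  by_contra hne
  push Not at hne
  have key : ∀ i : ℕ, (hi : i ≤ n) → H ⟨i, by omega⟩ = ⊥ := by
    intro i
    induction i with
    | zero => intro _; exact h0
    | succ i ih =>
      intro hi
      obtain ⟨g, hg⟩ := hstep ⟨i, by omega⟩
      have hi' : H (Fin.castSucc ⟨i, by omega⟩) = ⊥ := ih (by omega)
      rw [hi', bot_sup_eq] at hg
      have hg' : H ⟨i + 1, by omega⟩ = zpowers g := hg
      by_contra hb
      have hg1 : g ≠ 1 := fun h1 => hb (by rw [hg', h1, zpowers_one_eq_bot])
      obtain ⟨q, hq, hqd⟩ := Nat.exists_prime_and_dvd (fun h1 => hg1 (orderOf_eq_one_iff.mp h1))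
      have : Fact q.Prime := ⟨hq⟩
      have hzn : (zpowers g).Normal := hg' ▸ hnorm _
      set y := g ^ (orderOf g / q) with hy
      have hdiv : orderOf g / q ∣ orderOf g := Nat.div_dvd_of_dvd hqd
      have hpos : orderOf g / q ≠ 0 :=
        (Nat.div_pos (Nat.le_of_dvd (orderOf_pos g) hqd) hq.pos).ne'
      have hyo : orderOf y = q := by
        rw [hy, orderOf_pow_of_dvd hpos hdiv, Nat.div_div_self hqd (orderOf_pos g).ne']
      refine hne q (zpowers y) hq ⟨fun x hx a => ?_⟩ (by rw [Nat.card_zpowers, hyo])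
      obtain ⟨k, rfl⟩ := mem_zpowers_iff.mp hx
      obtain ⟨j, hj⟩ := mem_zpowers_iff.mp (hzn.conj_mem g (mem_zpowers g) a)
      refine mem_zpowers_iff.mpr ⟨j * k, ?_⟩
      have h1 : a * (y ^ k) * a⁻¹ = (a * y * a⁻¹) ^ k := by rw [conj_zpow]
      have h2 : a * y * a⁻¹ = y ^ j := by
        rw [hy, ← conj_pow, ← hj, ← zpow_natCast, ← zpow_natCast g, ← zpow_mul, ← zpow_mul, mul_comm]
      rw [h1, h2, zpow_mul]
  exact top_ne_bot (α := Subgroup G) ((hn.symm.trans (key n le_rfl)))

theorem isSupersolvable_quotient {G : Type u} [Group G] (h : Cfsg.IsSupersolvable G) (N : Subgroup G)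
    [N.Normal] : Cfsg.IsSupersolvable (G ⧸ N) := by
  obtain ⟨n, H, h0, hn, hnorm, hstep⟩ := h
  refine ⟨n, fun i => (H i).map (QuotientGroup.mk' N), by simp [h0],
    by simp [hn, map_top_of_surjective _ (QuotientGroup.mk'_surjective N)],
    fun i => (hnorm i).map _ (QuotientGroup.mk'_surjective N), fun i => ?_⟩
  obtain ⟨g, hg⟩ := hstep i
  exact ⟨QuotientGroup.mk' N g, by beta_reduce; rw [hg, Subgroup.map_sup, MonoidHom.map_zpowers]⟩

/-- A supersolvable group has all these normal Hall subgroups. -/
theorem exists_normalHall : ∀ (n : ℕ) (G : Type u) [Group G] [Finite G], Nat.card G = n →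
    Cfsg.IsSupersolvable G → ∀ r, ∃ N : Subgroup G, NormalHall r N := by
  intro n
  induction n using Nat.strong_induction_on with
  | _ n ih =>
  intro G _ _ hn h r
  subst hn
  cases subsingleton_or_nontrivial G
  · refine ⟨⊥, inferInstance, fun q hq hd => ?_, fun q hq hd => ?_⟩
    · rw [card_bot, Nat.dvd_one] at hd; exact absurd hd hq.ne_one
    · rw [index_bot, Nat.card_unique, Nat.dvd_one] at hd; exact absurd hd hq.ne_one
  obtain ⟨q, Q, hq, hQn, hQc⟩ := exists_prime_normal h
  have hlt : Nat.card (G ⧸ Q) < Nat.card G := by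
    rw [← Subgroup.index_eq_card, ← Q.card_mul_index, hQc]
    exact lt_mul_of_one_lt_left (Nat.pos_of_ne_zero index_ne_zero_of_finite) hq.one_lt
  obtain ⟨Mq, hMn, hMb, hMs⟩ := ih _ hlt (G ⧸ Q) rfl (isSupersolvable_quotient h Q) r
  set M := Mq.comap (QuotientGroup.mk' Q) with hM
  have hMi : M.index = Mq.index := index_comap_of_surjective _ (QuotientGroup.mk'_surjective Q)
  have hQM : Q ≤ M := (QuotientGroup.ker_mk' Q).symm.trans_le (ker_le_comap _ _)
  have hMc : Nat.card M = q * Nat.card Mq := by
    have h1 := M.card_mul_index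
    have h2 := Mq.card_mul_index
    have h3 := Q.card_mul_index
    rw [← Subgroup.index_eq_card] at h2
    rw [← h3, hQc, ← h2, hMi, ← mul_assoc] at h1
    exact Nat.eq_of_mul_eq_mul_right (Nat.pos_of_ne_zero index_ne_zero_of_finite) h1
  rcases le_or_gt r q with hrq | hrq
  · refine ⟨M, inferInstance, fun s hs hd => ?_, hMi ▸ hMs⟩
    rw [hMc] at hd
    rcases hs.dvd_mul.mp hd with h1 | h1
    · exact ((Nat.prime_dvd_prime_iff_eq hs hq).mp h1) ▸ hrq
    · exact hMb s hs h1
  · have hcop : (Nat.card (Q.subgroupOf M)).Coprime (Q.subgroupOf M).index := by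
      have hidx : (Q.subgroupOf M).index = Nat.card Mq := by
        have := (Q.subgroupOf M).card_mul_index
        rw [Nat.card_congr (subgroupOfEquivOfLe hQM).toEquiv, hQc, hMc] at this
        exact Nat.eq_of_mul_eq_mul_left hq.pos this
      rw [hidx, Nat.card_congr (subgroupOfEquivOfLe hQM).toEquiv, hQc]
      exact hq.coprime_iff_not_dvd.mpr fun hd => absurd (hMb q hq hd) (not_le.mpr hrq)
    obtain ⟨B0, hB0⟩ := Subgroup.exists_right_complement'_of_coprime hcop
    have hBc : Nat.card B0 = Nat.card Mq := by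
      rw [← hB0.symm.index_eq_card]
      have := (Q.subgroupOf M).card_mul_index
      rw [Nat.card_congr (subgroupOfEquivOfLe hQM).toEquiv, hQc, hMc] at this
      exact Nat.eq_of_mul_eq_mul_left hq.pos this
    -- `B₀` centralizes `Q`
    have hBn : B0.Normal := by
      rw [← normalizer_eq_top_iff, eq_top_iff, ← hB0.sup_eq_top]
      refine sup_le (fun x hx => ?_) le_normalizer
      refine centralizer_le_normalizer _ (mem_centralizer_iff.mpr fun b hb => Subtype.ext ?_)
      let φ : M →* MulAut Q := (MulAut.conjNormal : G →* MulAut Q).comp M.subtype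
      have hcy : IsCyclic Q := by
        have : Fact q.Prime := ⟨hq⟩
        exact isCyclic_of_prime_card hQc
      have hcardAut : Nat.card (MulAut Q) = q - 1 := by
        rw [IsCyclic.card_mulAut, hQc, Nat.totient_prime hq]
      have h1 : orderOf (φ b) ∣ orderOf b := orderOf_map_dvd φ b
      have h2 : orderOf (φ b) ∣ q - 1 := hcardAut ▸ orderOf_dvd_natCard _
      have hbB : orderOf b ∣ Nat.card Mq := hBc ▸ orderOf_mk b hb ▸ orderOf_dvd_natCard _
      have h3 : φ b = 1 := by
        refine orderOf_eq_one_iff.mp (Nat.eq_one_of_dvd_coprimes ?_ (h1.trans hbB) h2)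
        refine coprime_of hMb fun s hs hd => ?_
        have h4 := Nat.le_of_dvd (by have := hq.two_le; omega) hd
        omega
      have h4 := congrArg (fun e : MulAut Q => ((e ⟨x, hx⟩ : Q) : G)) h3
      simp only [φ, MonoidHom.comp_apply, coe_subtype, MulAut.conjNormal_apply, MulAut.one_apply] at h4
      exact mul_inv_eq_iff_eq_mul.mp h4
    set B := B0.map M.subtype with hB
    have hBhall : Big r (Nat.card B) := by
      rw [hB, card_map_of_injective M.subtype_injective, hBc]; exact hMb
    have hBidx : Small r B.index := by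
      intro s hs hd
      rw [hB, index_map_subtype, hB0.index_eq_card,
        Nat.card_congr (subgroupOfEquivOfLe hQM).toEquiv, hQc, hMi] at hd
      rcases hs.dvd_mul.mp hd with h1 | h1
      · exact ((Nat.prime_dvd_prime_iff_eq hs hq).mp h1) ▸ hrq
      · exact hMs s hs h1
    refine ⟨B, ⟨fun x hx a => ?_⟩, hBhall, hBidx⟩
    obtain ⟨b, hb, rfl⟩ := hx
    have hmem : a * (b : G) * a⁻¹ ∈ M := (inferInstance : M.Normal).conj_mem _ b.2 a
    have hord : Big r (orderOf (⟨_, hmem⟩ : M)) := by
      intro s hs hd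
      rw [← orderOf_coe] at hd
      change s ∣ orderOf ((MulAut.conj a).toMonoidHom (b : G)) at hd
      rw [orderOf_injective _ (MulAut.conj a).injective, orderOf_coe, ← orderOf_mk b hb] at hd
      exact hMb s hs (hBc ▸ hd.trans (orderOf_dvd_natCard _))
    have hh : NormalHall r B0 := ⟨hBn, by rw [hBc]; exact hMb, fun s hs hd => by
      rw [hB0.index_eq_card, Nat.card_congr (subgroupOfEquivOfLe hQM).toEquiv, hQc] at hd
      exact ((Nat.prime_dvd_prime_iff_eq hs hq).mp hd) ▸ hrq⟩
    exact ⟨_, (mem_iff_of_normalHall hh _).mpr hord, rfl⟩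

theorem card_eq_sum {G : Type u} [Group G] [Finite G] (P : ℕ → Prop) [DecidablePred P] {N : ℕ}
    (hN : Nat.card G ≤ N) :
    Nat.card {g : G // P (orderOf g)} =
      ∑ m ∈ Finset.range (N + 1), if P m then Nat.card {g : G // orderOf g = m} else 0 := by
  classical
  have := Fintype.ofFinite G
  rw [Nat.card_eq_fintype_card, Fintype.card_subtype,
    Finset.card_eq_sum_card_fiberwise (f := fun g : G => orderOf g) (t := Finset.range (N + 1))
      (fun g _ => Finset.mem_coe.mpr (Finset.mem_range.mpr
        (Nat.lt_succ_of_le ((Nat.le_of_dvd Nat.card_pos (orderOf_dvd_natCard g)).trans hN))))]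
  refine Finset.sum_congr rfl fun m _ => ?_
  split_ifs with hm
  · rw [Nat.card_eq_fintype_card, Fintype.card_subtype, Finset.filter_filter]
    congr 1
    ext g
    simp only [Finset.mem_filter, Finset.mem_univ, true_and]
    exact ⟨fun h => h.2, fun h => ⟨h ▸ hm, h⟩⟩
  · refine Finset.card_eq_zero.mpr (Finset.filter_eq_empty_iff.mpr fun g hg h => hm ?_)
    simp only [Finset.mem_filter, Finset.mem_univ, true_and] at hg
    exact h ▸ hg

/-- Let G and H be finite groups with the same order type (for every m the same number of elements of order m). If G is supersolvable then H is solvable. -/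
theorem result {G H : Type*} [Group G] [Finite G] [Group H] [Finite H] (hT : (∀ m : ℕ, Nat.card {g : G // orderOf g = m} = Nat.card {h : H // orderOf h = m})) (hG : Cfsg.IsSupersolvable G) :
    Group.IsSolvable H := by
  classical
  set N := max (Nat.card G) (Nat.card H) with hNdef
  have hcount : ∀ (P : ℕ → Prop), Nat.card {g : G // P (orderOf g)} = Nat.card {h : H // P (orderOf h)} :=
    fun P => by
      rw [card_eq_sum P (le_max_left (Nat.card G) (Nat.card H)),
        card_eq_sum P (le_max_right (Nat.card G) (Nat.card H))]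
      exact Finset.sum_congr rfl fun m _ => by rw [hT m]
  have hcard : Nat.card G = Nat.card H := by
    have h := hcount fun _ => True
    rwa [Nat.card_congr (Equiv.subtypeUnivEquiv fun _ => trivial),
      Nat.card_congr (Equiv.subtypeUnivEquiv fun _ => trivial)] at h
  have key : ∀ d r, r + d = Nat.card H + 1 → ∃ M : Subgroup H, NormalHall r M ∧ Group.IsSolvable M := by
    intro d
    induction d with
    | zero =>
      intro r hr
      refine ⟨⊥, ⟨inferInstance, fun q hq hd => ?_, fun q hq hd => ?_⟩, inferInstance⟩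
      · rw [card_bot, Nat.dvd_one] at hd; exact absurd hd hq.ne_one
      · rw [index_bot] at hd
        have := Nat.le_of_dvd Nat.card_pos hd
        omega
    | succ d ih =>
      intro r hr
      obtain ⟨M, ⟨hMn, hMb, hMs⟩, hMsol⟩ := ih (r + 1) (by omega)
      by_cases hrp : r.Prime
      swap
      · refine ⟨M, ⟨hMn, fun q hq hd => (Nat.le_succ r).trans (hMb q hq hd), fun q hq hd => ?_⟩, hMsol⟩
        have := hMs q hq hd
        rcases Nat.lt_succ_iff_lt_or_eq.mp this with h | rfl
        · exact h
        · exact absurd hq hrp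
      have : Fact r.Prime := ⟨hrp⟩
      obtain ⟨P⟩ : Nonempty (Sylow r H) := inferInstance
      obtain ⟨a, ha⟩ := IsPGroup.iff_card.mp P.2
      have hcop : (Nat.card M).Coprime (Nat.card (P : Subgroup H)) := by
        rw [ha]
        refine (Nat.Coprime.pow_left a (hrp.coprime_iff_not_dvd.mpr fun hd => ?_)).symm
        have := hMb r hrp hd
        omega
      set T := M ⊔ (P : Subgroup H) with hT'
      have hTc : Nat.card T = Nat.card M * Nat.card (P : Subgroup H) :=
        Lib.Coprime.card_sup_of_disjoint (le_top.trans (normalizer_eq_top_iff.mpr hMn).ge)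
          (Subgroup.disjoint_of_coprime_natCard hcop)
      have hTb : Big r (Nat.card T) := by
        intro q hq hd
        rw [hTc, ha] at hd
        rcases hq.dvd_mul.mp hd with h | h
        · exact (Nat.le_succ r).trans (hMb q hq h)
        · exact ((Nat.prime_dvd_prime_iff_eq hq hrp).mp (hq.dvd_of_dvd_pow h)).ge
      have hTs : Small r T.index := by
        intro q hq hd
        rcases Nat.lt_succ_iff_lt_or_eq.mp (hMs q hq (hd.trans (index_dvd_of_le le_sup_left))) with h | h
        · exact h
        · exact absurd (hd.trans (index_dvd_of_le le_sup_right)) (by rw [h]; exact P.not_dvd_index)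
      obtain ⟨NG, hNG⟩ := exists_normalHall _ G rfl hG r
      have hset : Nat.card {x : H // Big r (orderOf x)} = Nat.card T := by
        rw [← hcount fun m => Big r m, card_set_of_normalHall hNG]
        refine eq_of_split (r := r) ?_ hNG.2.1 hNG.2.2 hTb hTs
        rw [NG.card_mul_index, T.card_mul_index, hcard]
      let f : T → {x : H // Big r (orderOf x)} := fun x =>
        ⟨x, fun q hq hd => hTb q hq (hd.trans (orderOf_coe x ▸ orderOf_dvd_natCard _))⟩
      have hbij : Function.Bijective f := by
        have hinj : Function.Injective f := fun x y hxy =>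
          Subtype.ext (congrArg (fun z : {x : H // Big r (orderOf x)} => (z : H)) hxy)
        exact (Nat.bijective_iff_injective_and_card f).mpr ⟨hinj, hset.symm⟩
      have hTn : T.Normal := by
        refine ⟨fun x hx g => ?_⟩
        have hb : Big r (orderOf (g * x * g⁻¹)) := by
          change Big r (orderOf ((MulAut.conj g).toMonoidHom x))
          rw [orderOf_injective _ (MulAut.conj g).injective]
          exact (f ⟨x, hx⟩).2
        obtain ⟨y, hy⟩ := hbij.2 ⟨_, hb⟩
        have : (y : H) = g * x * g⁻¹ := congrArg Subtype.val hy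
        exact this ▸ y.2
      refine ⟨T, ⟨hTn, hTb, hTs⟩, ?_⟩
      have hq : IsPGroup r (T ⧸ M.subgroupOf T) := by
        refine IsPGroup.of_card (n := a) ?_
        have h1 := (M.subgroupOf T).card_mul_index
        rw [Nat.card_congr (subgroupOfEquivOfLe (le_sup_left : M ≤ T)).toEquiv, hTc, ha] at h1
        exact Nat.eq_of_mul_eq_mul_left Nat.card_pos h1
      have := hq.isNilpotent
      exact Group.isSolvable_of_ker_le_range (inclusion (le_sup_left : M ≤ T))
        (QuotientGroup.mk' (M.subgroupOf T)) fun x hx => by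
        rw [QuotientGroup.ker_mk', mem_subgroupOf] at hx
        exact ⟨⟨(x : H), hx⟩, rfl⟩
  obtain ⟨M, ⟨hMn, hMb, hMs⟩, hsol⟩ := key (Nat.card H + 1) 0 (by omega)
  have hM : M = ⊤ := index_eq_one.mp (by
    by_contra h
    obtain ⟨q, hq, hd⟩ := Nat.exists_prime_and_dvd h
    exact Nat.not_lt_zero q (hMs q hq hd))
  subst hM
  exact Group.isSolvable_of_surjective (f := (⊤ : Subgroup H).subtype) fun x => ⟨⟨x, mem_top x⟩, rfl⟩

end Cfsg.Agent.S3998
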