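import Cfsg.Statements.S3999
import Cfsg.Agent.S0042
import Cfsg.Agent.Lib.PGroup.FrobeniusTransfer

set_option autoImplicit false
open Cfsg

namespace Cfsg.Agent.S3999

/-- Let F be a finite Frobenius group (it has a Frobenius complement) and G a finite group with the same order type as F (for every m the same number of elements of order m). Then G is a Frobenius group; moreover G is solvable if and only if F is. -/
theorem result {F G : Type*} [Group F] [Finite F] [Group G] [Finite G] (hF : (∃ C : Subgroup F, Cfsg.IsFrobeniusComplement C)) (hT : (∀ m : ℕ, Nat.card {g : F // orderOf g = m} = Nat.card {h : G // orderOf h = m})) :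
    (∃ C : Subgroup G, Cfsg.IsFrobeniusComplement C) ∧ (Group.IsSolvable G ↔ Group.IsSolvable F) := by
  obtain ⟨C, hC⟩ := hF
  obtain ⟨N, hN, -, hNnil⟩ := Cfsg.Agent.S0042.result C hC
  obtain ⟨K, d⟩ := Cfsg.Lib.PGroup.OrderType.data_of_frobenius hC fun K hK => by
    rw [SetLike.coe_injective (hK.trans hN.symm)]; exact hNnil
  obtain ⟨e, he⟩ := Cfsg.Lib.PGroup.OrderType.exists_orderEquiv hT
  obtain ⟨K', H, d', hk⟩ := Cfsg.Lib.PGroup.OrderType.exists_data d e he
  have := d'.normal
  have hs := Cfsg.Lib.PGroup.OrderType.same_of_equiv e he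
  refine ⟨⟨H, Cfsg.Lib.Solv.isFrobeniusComplement_of_fpf d'.compl d'.ne_bot d'.compl_ne_bot d'.fpf⟩,
    fun h => ?_, fun h => ?_⟩
  · exact Cfsg.Lib.PGroup.OrderType.isSolvable_of_data d' d
      (Cfsg.Lib.PGroup.OrderType.same_symm hs) (Nat.card_congr e.symm) hk h
  · exact Cfsg.Lib.PGroup.OrderType.isSolvable_of_data d d' hs (Nat.card_congr e) hk.symm h

end Cfsg.Agent.S3999
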