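import Cfsg.Statements.S4001
import Cfsg.Agent.S0042
import Cfsg.Agent.Lib.PGroup.FrobeniusTransfer
import Cfsg.Agent.Lib.PGroup.Elements
import Cfsg.Agent.Lib.Solv.FrobeniusConj
import Cfsg.Agent.Lib.Local.CNSolvable
import Cfsg.Agent.Lib.Coprime.Conjugacy
-- import your own Cfsg.Agent.* helpers here

set_option autoImplicit false
open Cfsg

namespace Cfsg.Agent.S4001

open Subgroup Cfsg.Lib.PGroup.OrderType Cfsg.Lib.Solv
open scoped Pointwise

universe u v

theorem data_frob {F : Type u} [Group F] [Finite F] {C : Subgroup F} (hC : IsFrobeniusComplement C)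
    {K : Subgroup F} (hK : frobeniusKernel C = (K : Set F)) : Data F K C := by
  obtain ⟨N, hN, -, hNil⟩ := S0042.result C hC
  obtain ⟨K', hd⟩ := data_of_frobenius hC fun M hM => by
    rw [SetLike.coe_injective (hM.trans hN.symm)]; exact hNil
  obtain ⟨K₀, hK₀, hK₀n, hc⟩ := frobenius_theorem hC
  obtain rfl : K₀ = K := SetLike.coe_injective (hK₀.trans hK)
  refine ⟨hK₀n, ?_, ?_, hd.compl_ne_bot, hc, ?_, ?_⟩
  · rw [show K₀ = N from SetLike.coe_injective (hK₀.trans hN.symm)]; exact hNil
  · rintro rfl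
    exact hC.2.1 (by simpa using hc.sup_eq_top)
  · rw [← hc.index_eq_card, hc.symm.index_eq_card]
    exact (frob_coprime hC).symm
  · intro h hh hh1
    rw [eq_bot_iff]
    rintro k ⟨hk, hkc⟩
    exact mem_bot.mpr (fpf_of_frobenius hC hc.disjoint hh hh1 hk (mem_centralizer_singleton_iff.mp hkc))

/-- Elements of the kernel are centralised only by elements of the kernel. -/
theorem mem_of_commute {F : Type u} [Group F] [Finite F] {K C : Subgroup F} (d : Data F K C) {x k : F}
    (hk : k ∈ K) (hk1 : k ≠ 1) (hc : Commute k x) : x ∈ K := by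
  have := d.normal
  by_contra hx
  have hx' : ¬ orderOf x ∣ Nat.card K := fun h => hx ((mem_iff_of_coprime d.coprime x).mpr h)
  have hcop := order_cases d x hx'
  have hko := K.orderOf_dvd_natCard hk
  have hkx : orderOf (k * x) = orderOf k * orderOf x :=
    hc.orderOf_mul_eq_mul_orderOf_of_coprime (hcop.symm.coprime_dvd_left hko)
  by_cases h1 : orderOf (k * x) ∣ Nat.card K
  · exact hx' ((dvd_mul_left _ _).trans (hkx ▸ h1))
  · exact hk1 (orderOf_eq_one_iff.mp (Nat.eq_one_of_dvd_coprimes (order_cases d (k * x) h1)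
      (hkx ▸ dvd_mul_right _ _) hko))

theorem isCyclic_odd {F : Type u} [Group F] [Finite F] [Group.IsNilpotent F] (hodd : ¬ 2 ∣ Nat.card F)
    (hF : AbelianCyclic F) : IsCyclic F := by
  have hn : ∀ {p : ℕ} [Fact p.Prime] (P : Sylow p F), (P : Subgroup F).Normal := fun {p} hp P =>
    Sylow.normal_of_normalizerCondition Group.normalizerCondition_of_isNilpotent P
  let e := Sylow.directProductOfNormal hn
  have hcomm : ∀ x y : F, x * y = y * x := by
    intro x y
    obtain ⟨a, rfl⟩ := e.surjective x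
    obtain ⟨b, rfl⟩ := e.surjective y
    rw [← map_mul, ← map_mul]
    congr 1
    funext p P
    have := Fact.mk (Nat.prime_of_mem_primeFactors p.2)
    rcases Cfsg.Lib.Local.CN.isCyclic_or_quaternion_of_abelianCyclic
      (abelianCyclic_of_injective (G := F) (P : Subgroup F).subtype (P : Subgroup F).subtype_injective hF)
      P.isPGroup' with h | ⟨h2, -⟩
    · have := h
      exact IsCyclic.isMulCommutative.is_comm.comm (a p P) (b p P)
    · exact absurd (h2 ▸ Nat.dvd_of_mem_primeFactors p.2) hodd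
  have hc : IsCyclic (⊤ : Subgroup F) := hF ⊤ ⟨⟨fun a b => Subtype.ext (hcomm a b)⟩⟩
  exact Subgroup.topEquiv.isCyclic.mp hc

theorem isCyclic_compl {F : Type u} [Group F] [Finite F] {K C : Subgroup F} (d : Data F K C) (hK : IsCyclic K) :
    IsCyclic C := by
  have := d.normal
  obtain ⟨g, hg⟩ := hK.exists_generator
  have hg1 : (g : F) ≠ 1 := by
    intro h
    refine d.ne_bot ((Subgroup.eq_bot_iff_forall K).mpr fun k hk => ?_)
    obtain ⟨i, hi⟩ := mem_zpowers_iff.mp (hg ⟨k, hk⟩)
    have h' : g = 1 := Subtype.ext h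
    rw [h', one_zpow] at hi
    exact congrArg Subtype.val hi.symm
  have hgen : ∀ k ∈ K, ∃ i : ℤ, (g : F) ^ i = k := fun k hk => by
    obtain ⟨i, hi⟩ := mem_zpowers_iff.mp (hg ⟨k, hk⟩)
    exact ⟨i, congrArg Subtype.val hi⟩
  have hcomm : ∀ a b : C, a * b = b * a := by
    intro a b
    obtain ⟨i, hi⟩ := hgen _ (d.normal.conj_mem _ g.2 (a : F))
    obtain ⟨j, hj⟩ := hgen _ (d.normal.conj_mem _ g.2 (b : F))
    have h1 : (a : F) * b * g * ((a : F) * b)⁻¹ = b * a * g * ((b : F) * a)⁻¹ := by
      rw [show (a : F) * b * g * ((a : F) * b)⁻¹ = a * (b * g * (b : F)⁻¹) * (a : F)⁻¹ by group,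
        show (b : F) * a * g * ((b : F) * a)⁻¹ = b * (a * g * (a : F)⁻¹) * (b : F)⁻¹ by group, ← hi, ← hj,
        ← conj_zpow, ← conj_zpow, ← hi, ← hj, ← zpow_mul, ← zpow_mul, mul_comm]
    by_contra hne
    have hmem : (g : F) ∈ K ⊓ centralizer {(((a * b)⁻¹ * (b * a) : C) : F)} := by
      refine ⟨g.2, mem_centralizer_singleton_iff.mpr ?_⟩
      push_cast
      symm
      calc ((a : F) * b)⁻¹ * (b * a) * (g : F) = ((a : F) * b)⁻¹ * (b * a * (g : F) * ((b : F) * a)⁻¹) * (b * a) := by group
        _ = ((a : F) * b)⁻¹ * (a * b * (g : F) * ((a : F) * b)⁻¹) * (b * a) := by rw [h1]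
        _ = (g : F) * (((a : F) * b)⁻¹ * (b * a)) := by group
    rw [d.fpf _ (SetLike.coe_mem _) (fun h => hne (inv_mul_eq_one.mp (Subtype.ext h))), mem_bot] at hmem
    exact hg1 hmem
  have hF := abelianCyclic_quotient d
  have hC : AbelianCyclic C := abelianCyclic_of_injective (G := F ⧸ K)
    ((QuotientGroup.mk' K).comp C.subtype) (by
      rw [injective_iff_map_eq_one]
      intro c hc
      exact Subtype.ext (mem_bot.mp (d.compl.disjoint.le_bot ⟨(QuotientGroup.eq_one_iff _).mp hc, c.2⟩))) hF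
  exact Subgroup.topEquiv.isCyclic.mp (hC ⊤ ⟨⟨fun a b => Subtype.ext (hcomm a b)⟩⟩)

theorem pow_of_orderOf {F : Type u} [Group F] [Finite F] {Q : Type v} [Group Q] (f : F →* Q) {x : F} {n : ℕ}
    (h : n ∣ orderOf (f x)) : ∃ y : F, orderOf y = n := by
  have h2 := h.trans (orderOf_map_dvd f x)
  obtain ⟨c, hc⟩ := h2
  have hc0 : c ≠ 0 := fun e => (orderOf_pos x).ne' (by rw [hc, e, mul_zero])
  exact ⟨x ^ c, by rw [orderOf_pow, hc, Nat.gcd_mul_left_left, Nat.mul_div_cancel _ (Nat.pos_of_ne_zero hc0)]⟩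

theorem exists_order_of_cyclic {F : Type u} [Group F] [Finite F] (hF : IsCyclic F) {n : ℕ} (h : n ∣ Nat.card F) :
    ∃ y : F, orderOf y = n := by
  obtain ⟨g, hg⟩ := hF.exists_generator
  obtain ⟨c, hc⟩ := h
  have h1 : orderOf g = n * c := (orderOf_eq_card_of_forall_mem_zpowers hg).trans hc
  exact pow_of_orderOf (MonoidHom.id F) (x := g) ⟨c, h1⟩

/-- An element outside a Frobenius group's kernel has nontrivial fixed points on the bottom layer. -/
theorem exists_fixed {G : Type u} [Group G] [Finite G] {A V : Subgroup G} {z : G} {q : ℕ} [hq : Fact q.Prime]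
    (hV : V ≠ ⊥) (hVn : V.Normal) (hA : A ≠ ⊥) (hAc : IsCyclic A) (hz : orderOf z = q)
    (hzA : z ∈ normalizer (A : Set G)) (hqA : ¬ q ∣ Nat.card A)
    (hfA : ∀ a ∈ A, a ≠ 1 → V ⊓ centralizer {a} = ⊥) (hfz : A ⊓ centralizer {z} = ⊥) :
    ∃ v ∈ V, v ≠ 1 ∧ Commute v z := by
  classical
  by_contra hno
  push Not at hno
  have hz1 : z ≠ 1 := fun e => hq.out.ne_one (by rw [← hz, e, orderOf_one])
  set B := A ⊔ zpowers z with hB
  have hAB : A ≤ B := le_sup_left
  have hzB : zpowers z ≤ B := le_sup_right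
  have hAn : (A.subgroupOf B).Normal :=
    normal_subgroupOf_iff_le_normalizer hAB |>.mpr (sup_le le_normalizer (zpowers_le.mpr hzA))
  have hd : Disjoint A (zpowers z) := Cfsg.Lib.Coprime.disjoint_of_coprime_card (by
    rw [Nat.card_zpowers, hz]; exact (hq.out.coprime_iff_not_dvd.mpr hqA).symm)
  have hd' : Disjoint (A.subgroupOf B) ((zpowers z).subgroupOf B) := by
    rw [disjoint_iff, subgroupOf, subgroupOf, ← comap_inf, ← subgroupOf, disjoint_iff.mp hd, bot_subgroupOf]
  have hsup : A.subgroupOf B ⊔ (zpowers z).subgroupOf B = ⊤ := by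
    rw [← subgroupOf_sup hAB hzB, ← hB, subgroupOf_self]
  have hc : (A.subgroupOf B).IsComplement' ((zpowers z).subgroupOf B) := by
    refine isComplement'_of_disjoint_and_mul_eq_univ hd' ?_
    rw [← normal_mul, hsup, coe_top]
  have hgen : ∀ x : G, x ∈ zpowers z → x ≠ 1 → z ∈ zpowers x := by
    intro x hx hx1
    have e : zpowers x = zpowers z := by
      refine eq_of_le_of_card_ge (zpowers_le.mpr hx) (le_of_eq ?_)
      rw [Nat.card_zpowers, Nat.card_zpowers]
      have h1 : orderOf x ∣ q := by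
        exact hz ▸ (Subgroup.orderOf_dvd_natCard (zpowers z) hx).trans (Nat.card_zpowers z).dvd
      rw [hz, (hq.out.eq_one_or_self_of_dvd _ h1).resolve_left fun h => hx1 (orderOf_eq_one_iff.mp h)]
    rw [e]; exact mem_zpowers z
  have hfr : IsFrobeniusComplement ((zpowers z).subgroupOf B) := by
    refine isFrobeniusComplement_of_fpf hc ?_ ?_ fun h hh hh1 => ?_
    · rw [Ne, subgroupOf_eq_bot, disjoint_iff, inf_of_le_left hAB]; exact hA
    · rw [Ne, subgroupOf_eq_bot, disjoint_iff, inf_of_le_left hzB, zpowers_eq_bot]; exact hz1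
    · rw [eq_bot_iff]
      rintro k ⟨hk, hkc⟩
      obtain ⟨i, hi⟩ := mem_zpowers_iff.mp (hgen _ hh fun e => hh1 (Subtype.ext e))
      have h1 : Commute (k : G) (h : G) := congrArg Subtype.val (mem_centralizer_singleton_iff.mp hkc)
      have h2 : (k : G) ∈ A ⊓ centralizer {z} :=
        ⟨hk, mem_centralizer_singleton_iff.mpr (hi ▸ (h1.zpow_right i)).eq⟩
      rw [hfz, mem_bot] at h2
      exact mem_bot.mpr (Subtype.ext h2)
  refine not_fpf_frobenius hV (by rw [normalizer_eq_top]; exact le_top) (fun b hb hb1 => ?_) _ hfr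
  by_cases hbA : b ∈ A
  · exact hfA b hbA hb1
  obtain ⟨j, hj⟩ := IsPGroup.iff_card.mp (IsPGroup.of_card (p := q) (n := 1) (G := zpowers z) (by rw [Nat.card_zpowers, hz, pow_one]))
  have hcardz : Nat.card ((zpowers z).subgroupOf B) = q := by
    rw [Nat.card_congr (subgroupOfEquivOfLe hzB).toEquiv, Nat.card_zpowers, hz]
  have hcop : (Nat.card (A.subgroupOf B)).Coprime (A.subgroupOf B).index := by
    rw [hc.symm.index_eq_card, hcardz, Nat.card_congr (subgroupOfEquivOfLe hAB).toEquiv]
    exact (hq.out.coprime_iff_not_dvd.mpr hqA).symm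
  have d : Data B (A.subgroupOf B) ((zpowers z).subgroupOf B) :=
    { normal := hAn
      nil := by
        have : IsCyclic (A.subgroupOf B) := (subgroupOfEquivOfLe hAB).isCyclic.mpr hAc
        have : IsMulCommutative (A.subgroupOf B) := IsCyclic.isMulCommutative
        letI : CommGroup (A.subgroupOf B) := open scoped IsMulCommutative in inferInstance
        infer_instance
      ne_bot := by rw [Ne, subgroupOf_eq_bot, disjoint_iff, inf_of_le_left hAB]; exact hA
      compl_ne_bot := hfr.1
      compl := hc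
      coprime := hcop
      fpf := fun h hh hh1 => by
        rw [eq_bot_iff]
        rintro k ⟨hk, hkc⟩
        exact mem_bot.mpr (fpf_of_frobenius hfr hc.disjoint hh hh1 hk (mem_centralizer_singleton_iff.mp hkc)) }
  set b' : B := ⟨b, hb⟩
  have hb' : b' ∉ A.subgroupOf B := hbA
  have hcop' := order_cases d b' fun h => hb' ((mem_iff_of_coprime hcop b').mpr h)
  have hbq : orderOf b' ∣ Nat.card ((zpowers z).subgroupOf B) :=
    hcop'.dvd_of_dvd_mul_left (hc.card_mul.symm ▸ _root_.orderOf_dvd_natCard b')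
  obtain ⟨g, hg⟩ := exists_conj_mem_of_orderOf_dvd hfr (fun e => hb1 (congrArg Subtype.val e)) hbq
  rw [eq_bot_iff]
  rintro v ⟨hv, hvc⟩
  rw [mem_bot]
  by_contra hv1
  have hg' : (g : G)⁻¹ * b * g ∈ zpowers z := hg
  obtain ⟨i, hi⟩ := mem_zpowers_iff.mp (hgen _ hg' fun e => hb1 (by
    calc b = (g : G) * ((g : G)⁻¹ * b * g) * (g : G)⁻¹ := by group
      _ = 1 := by rw [e]; group))
  refine hno ((g : G)⁻¹ * v * g) (by simpa using hVn.conj_mem v hv (g : G)⁻¹) (fun e => hv1 ?_) ?_
  · calc v = (g : G) * ((g : G)⁻¹ * v * g) * (g : G)⁻¹ := by group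
      _ = 1 := by rw [e]; group
  · rw [← hi]
    refine Commute.zpow_right ?_ i
    show (g : G)⁻¹ * v * g * ((g : G)⁻¹ * b * g) = (g : G)⁻¹ * b * g * ((g : G)⁻¹ * v * g)
    have h1 := mem_centralizer_singleton_iff.mp hvc
    calc (g : G)⁻¹ * v * g * ((g : G)⁻¹ * b * g) = (g : G)⁻¹ * (v * b) * g := by group
      _ = (g : G)⁻¹ * (b * v) * g := by rw [h1]
      _ = _ := by group


/-- Let G be a 2-Frobenius group: it has normal subgroups H < K with K a Frobenius group with kernel H and G/H a Frobenius group with kernel K/H. Then G is solvable; K/H has odd order coprime to the order of H and to the order of G/K (it is the image of an odd-order Hall subgroup); G/K is cyclic; and the prime graph of G has exactly two connected components, both complete: for distinct primes p, q dividing the order of G, G has an element of order pq exactly when p and q either both divide the order of K/H or both do not. -/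
theorem result {G : Type*} [Group G] [Finite G] (H K : Subgroup G) [H.Normal] [K.Normal] (hlt : H < K)
    (hK : ∃ C : Subgroup ↥K, Cfsg.IsFrobeniusComplement C ∧ Cfsg.frobeniusKernel C = (H.subgroupOf K : Set ↥K))
    (hGH : ∃ C : Subgroup (G ⧸ H), Cfsg.IsFrobeniusComplement C ∧ Cfsg.frobeniusKernel C = (K.map (QuotientGroup.mk' H) : Set (G ⧸ H))) :
    Group.IsSolvable G ∧ Odd (Nat.card (↥K ⧸ H.subgroupOf K)) ∧
      Nat.Coprime (Nat.card (↥K ⧸ H.subgroupOf K)) (Nat.card ↥H * Nat.card (G ⧸ K)) ∧ IsCyclic (G ⧸ K) ∧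
      ∀ p q : ℕ, p.Prime → q.Prime → p ≠ q → p ∣ Nat.card G → q ∣ Nat.card G →
        ((∃ g : G, orderOf g = p * q) ↔ (p ∣ Nat.card (↥K ⧸ H.subgroupOf K) ↔ q ∣ Nat.card (↥K ⧸ H.subgroupOf K))) := by
  classical
  obtain ⟨C₁, hC₁, hker₁⟩ := hK
  obtain ⟨C₂, hC₂, hker₂⟩ := hGH
  set H' := H.subgroupOf K with hH'
  set f := QuotientGroup.mk' H with hf
  set Kb := K.map f with hKbdef
  have d₁ := data_frob hC₁ hker₁
  have d₂ := data_frob hC₂ hker₂
  have hle := hlt.le
  have hKbn : Kb.Normal := d₂.normal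
  -- `K / H` as a subgroup of `G / H`
  let φ : ↥K →* G ⧸ H := f.comp K.subtype
  have hφk : φ.ker = H' := by
    ext x
    exact QuotientGroup.eq_one_iff (x : G)
  have hφr : φ.range = Kb := by rw [MonoidHom.range_comp, Subgroup.range_subtype]
  let eKb : ↥K ⧸ H' ≃* Kb := (QuotientGroup.quotientMulEquivOfEq hφk.symm).trans
    ((QuotientGroup.quotientKerEquivRange φ).trans (MulEquiv.subgroupCongr hφr))
  have hcardKb : Nat.card (↥K ⧸ H') = Nat.card Kb := Nat.card_congr eKb.toEquiv
  have hacKb : AbelianCyclic Kb :=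
    abelianCyclic_of_injective eKb.symm.toMonoidHom eKb.symm.injective (abelianCyclic_quotient d₁)
  have hodd : ¬ 2 ∣ Nat.card Kb := by
    intro h2
    have := Fact.mk Nat.prime_two
    obtain ⟨u, hu⟩ := exists_prime_orderOf_dvd_card' 2 h2
    have hnil := d₂.nil
    have hu' : ∀ v : Kb, orderOf v = 2 → v = u := fun v hv => by
      by_cases hc : v * u = u * v
      · exact unique_involution hacKb hv hu hc
      exfalso
      obtain ⟨P⟩ : Nonempty (Sylow 2 Kb) := inferInstance
      have hPn : (P : Subgroup Kb).Normal :=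
        Sylow.normal_of_normalizerCondition (Group.normalizerCondition_of_isNilpotent (h := hnil)) P
      have hmem : ∀ w : Kb, orderOf w = 2 → w ∈ (P : Subgroup Kb) := fun w hw => by
        obtain ⟨Q, hQ⟩ := (IsPGroup.of_card (p := 2) (n := 1) (G := Subgroup.zpowers w)
          (by rw [Nat.card_zpowers, hw, pow_one])).exists_le_sylow
        let _ := P.unique_of_normal hPn
        exact Subsingleton.elim Q P ▸ hQ (Subgroup.mem_zpowers w)
      have : Nontrivial (P : Subgroup Kb) := ⟨⟨⟨u, hmem u hu⟩, 1, fun e => by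
        have e' : u = 1 := congrArg Subtype.val e
        rw [e', orderOf_one] at hu; norm_num at hu⟩⟩
      have := P.isPGroup'.center_nontrivial
      obtain ⟨⟨z, hzc⟩, hz1⟩ := exists_ne (1 : Subgroup.center (P : Subgroup Kb))
      obtain ⟨k, hk⟩ := (IsPGroup.iff_orderOf.mp P.isPGroup') z
      have hk0 : k ≠ 0 := fun e => hz1 (Subtype.ext (orderOf_eq_one_iff.mp (by rw [hk, e, pow_zero])))
      set w := z ^ 2 ^ (k - 1) with hw
      have hwo : orderOf (w : Kb) = 2 := by
        rw [Subgroup.orderOf_coe, hw, orderOf_pow, hk, Nat.gcd_eq_right (pow_dvd_pow 2 (by omega)),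
          Nat.pow_div (by omega) two_pos, show k - (k - 1) = 1 by omega, pow_one]
      have hwc : w ∈ Subgroup.center (P : Subgroup Kb) := pow_mem hzc _
      have e1 : v = w := unique_involution hacKb hv hwo
        (congrArg Subtype.val (Subgroup.mem_center_iff.mp hwc ⟨v, hmem v hv⟩))
      have e2 : u = w := unique_involution hacKb hu hwo
        (congrArg Subtype.val (Subgroup.mem_center_iff.mp hwc ⟨u, hmem u hu⟩))
      exact hc (by rw [e1, e2])
    obtain ⟨c, hcC, hc1⟩ := C₂.bot_or_exists_ne_one.resolve_left d₂.compl_ne_bot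
    have hcu := congrArg Subtype.val (hu' ⟨c * (u : G ⧸ H) * c⁻¹, hKbn.conj_mem _ u.2 c⟩ (by
      rw [← Subgroup.orderOf_coe]
      show orderOf (MulAut.conj c (u : G ⧸ H)) = 2
      rw [MulEquiv.orderOf_eq, Subgroup.orderOf_coe, hu]))
    have hu1 : (u : G ⧸ H) ≠ 1 := fun e => by
      rw [← Subgroup.orderOf_coe, e, orderOf_one] at hu; norm_num at hu
    have hcK := mem_of_commute d₂ u.2 hu1 (mul_inv_eq_iff_eq_mul.mp hcu).symm
    exact hc1 (Subgroup.mem_bot.mp (d₂.compl.disjoint.le_bot ⟨hcK, hcC⟩))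
  have hKbc : IsCyclic Kb := by
    have := d₂.nil
    exact isCyclic_odd hodd hacKb
  have hKHc : IsCyclic (↥K ⧸ H') := eKb.isCyclic.mpr hKbc
  have hC₂c := isCyclic_compl d₂ hKbc
  have e2 : G ⧸ K ≃* C₂ :=
    (QuotientGroup.quotientQuotientEquivQuotient H K hle).symm.trans d₂.compl.symm.QuotientMulEquiv
  have hGKc : IsCyclic (G ⧸ K) := e2.isCyclic.mpr hC₂c
  have hsol : Group.IsSolvable G := by
    have hH : Group.IsSolvable H' := by have := d₁.nil; infer_instance
    have hKH : Group.IsSolvable (↥K ⧸ H') := by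
      have : IsMulCommutative (↥K ⧸ H') := IsCyclic.isMulCommutative
      letI : CommGroup (↥K ⧸ H') := open scoped IsMulCommutative in inferInstance
      infer_instance
    have hKs : Group.IsSolvable K := (Group.isSolvable_iff_subgroup_quotient H').2 ⟨hH, hKH⟩
    have hGK : Group.IsSolvable (G ⧸ K) := by
      have : IsMulCommutative (G ⧸ K) := IsCyclic.isMulCommutative
      letI : CommGroup (G ⧸ K) := open scoped IsMulCommutative in inferInstance
      infer_instance
    exact (Group.isSolvable_iff_subgroup_quotient K).2 ⟨hKs, hGK⟩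
  set m := Nat.card (↥K ⧸ H') with hm
  have hh : Nat.card H' = Nat.card H := Nat.card_congr (Subgroup.subgroupOfEquivOfLe hle).toEquiv
  have hKc : Nat.card K = Nat.card H * m := by
    rw [← hh, hm, ← Subgroup.index_eq_card, Subgroup.card_mul_index]
  have hGc : Nat.card G = Nat.card K * Nat.card (G ⧸ K) := by
    rw [← Subgroup.index_eq_card, Subgroup.card_mul_index]
  have hmh : m.Coprime (Nat.card H) := by
    have := d₁.coprime
    rw [Subgroup.index_eq_card, hh] at this
    exact this.symm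
  have hmc : m.Coprime (Nat.card (G ⧸ K)) := by
    have := d₂.coprime
    rw [d₂.compl.symm.index_eq_card, ← Nat.card_congr e2.toEquiv] at this
    rwa [hcardKb]
  refine ⟨hsol, Nat.odd_iff.mpr (Nat.two_dvd_ne_zero.mp (hcardKb ▸ hodd)), hmh.mul_right hmc, hGKc, ?_⟩
  -- no edges between the two parts
  have hno : ∀ p q : ℕ, p.Prime → q.Prime → p ≠ q → p ∣ m → ¬ q ∣ m → ∀ g : G, orderOf g ≠ p * q := by
    intro p q hp hq hpq hpm hqm g hg
    have hph : ¬ p ∣ Nat.card H := fun h => hp.ne_one (Nat.eq_one_of_dvd_coprimes hmh hpm h)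
    have hcop : p.Coprime q := (Nat.coprime_primes hp hq).mpr hpq
    obtain ⟨a, b, hab⟩ : ∃ a b, a = g ^ q ∧ b = g ^ p := ⟨_, _, rfl, rfl⟩
    have hao : orderOf (g ^ q) = p := by
      rw [orderOf_pow, hg, Nat.gcd_mul_left_left, Nat.mul_div_cancel _ hq.pos]
    have hbo : orderOf (g ^ p) = q := by
      rw [orderOf_pow, hg, Nat.gcd_mul_right_left, Nat.mul_div_cancel_left _ hp.pos]
    have hfa : orderOf (f (g ^ q)) = p := by
      refine (hp.eq_one_or_self_of_dvd _ (hao ▸ orderOf_map_dvd f _)).resolve_left fun e => ?_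
      have := Subgroup.orderOf_dvd_natCard H ((QuotientGroup.eq_one_iff _).mp (orderOf_eq_one_iff.mp e))
      rw [hao] at this
      exact hph this
    have := d₂.normal
    have hKbmem := mem_iff_of_coprime d₂.coprime
    have haKb : f (g ^ q) ∈ Kb := (hKbmem _).mpr (by rw [hfa, ← hcardKb]; exact hpm)
    have hfg : f g ∈ Kb := by
      refine mem_of_commute d₂ haKb (fun e => ?_) (((Commute.refl g).pow_left q).map f)
      rw [e, orderOf_one] at hfa; exact hp.ne_one hfa.symm
    have hgK : g ∈ K := by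
      obtain ⟨k, hk, hkg⟩ := hfg
      have h1 : k⁻¹ * g ∈ K := hle (QuotientGroup.eq.mp hkg)
      simpa using K.mul_mem hk h1
    have hq' : q ∣ Nat.card H := by
      have := Subgroup.orderOf_dvd_natCard K hgK
      rw [hg, hKc] at this
      exact (hq.dvd_mul.mp ((dvd_mul_left q p).trans this)).resolve_right hqm
    by_cases h1 : orderOf (⟨g, hgK⟩ : K) ∣ Nat.card H'
    · rw [← Subgroup.orderOf_coe, hg, hh] at h1
      exact hph ((dvd_mul_right p q).trans h1)
    · have h2 := order_cases d₁ _ h1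
      rw [← Subgroup.orderOf_coe, hg, hh] at h2
      exact hq.ne_one (Nat.eq_one_of_dvd_coprimes h2 (dvd_mul_left q p) hq')
  -- the mixed case
  have hmix : ∀ p q : ℕ, p.Prime → q.Prime → p ≠ q → p ∣ Nat.card H → q ∣ Nat.card (G ⧸ K) →
      ¬ q ∣ Nat.card H → ¬ q ∣ m → ∃ g : G, orderOf g = p * q := by
    intro p q hp hq hpq hph hqc hqh hqm
    have := Fact.mk hp
    have := Fact.mk hq
    set A := C₁.map K.subtype with hA
    have hAcard : Nat.card A = m := by
      rw [hA, Subgroup.card_map_of_injective K.subtype_injective, ← d₁.compl.symm.index_eq_card,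
        Subgroup.index_eq_card]
    have hAK : A ≤ K := Subgroup.map_subtype_le _
    obtain ⟨y, hy⟩ := exists_prime_orderOf_dvd_card' (G := G) q (hGc ▸ dvd_mul_of_dvd_right hqc _)
    have hyK : A ≤ Subgroup.normalizer (H : Set G) := by rw [Subgroup.normalizer_eq_top]; exact le_top
    obtain ⟨n, hn, hnA⟩ := Cfsg.Lib.Coprime.exists_conj_of_coprime H A (A.map (MulAut.conj y).toMonoidHom)
      hyK (by rw [hAcard]; exact hmh) (Or.inr inferInstance) (by
        rintro _ ⟨a, ha, rfl⟩
        obtain ⟨⟨⟨u, hu⟩, ⟨v, hv⟩⟩, huv⟩ := d₁.compl.2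
          ⟨y * a * y⁻¹, (inferInstance : K.Normal).conj_mem a (hAK ha) y⟩
        show y * a * y⁻¹ ∈ H ⊔ A
        have huv' : ((u * v : K) : G) = y * a * y⁻¹ := congrArg Subtype.val huv
        rw [← huv']
        exact mul_mem (le_sup_left (α := Subgroup G) hu) (le_sup_right (α := Subgroup G) ⟨v, hv, rfl⟩))
      (Cfsg.Lib.Coprime.card_map_conj _ _)
    set y' := n⁻¹ * y with hy'
    have hy'A : y' ∈ Subgroup.normalizer (A : Set G) := by
      rw [Subgroup.mem_normalizer_iff_map_conj_eq]
      show A.map (MulAut.conj (n⁻¹ * y)).toMonoidHom = A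
      rw [← Cfsg.Lib.Coprime.map_conj_conj, hnA, Cfsg.Lib.Coprime.map_conj_conj, inv_mul_cancel,
        Cfsg.Lib.Coprime.map_conj_one]
    have hfy : f y' = f y := by
      rw [hy', map_mul, map_inv, show f n = 1 from (QuotientGroup.eq_one_iff n).mpr hn, inv_one, one_mul]
    have hqy : q ∣ orderOf y' := by
      refine dvd_trans (dvd_of_eq ?_) (orderOf_map_dvd f y')
      rw [hfy]
      refine ((hq.eq_one_or_self_of_dvd _ (hy ▸ orderOf_map_dvd f y)).resolve_left fun e => ?_).symm
      have := Subgroup.orderOf_dvd_natCard H ((QuotientGroup.eq_one_iff _).mp (orderOf_eq_one_iff.mp e))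
      rw [hy] at this
      exact hqh this
    obtain ⟨c, hc⟩ := hqy
    have hc0 : c ≠ 0 := fun e => (orderOf_pos y').ne' (by rw [hc, e, mul_zero])
    set z := y' ^ c with hz
    have hzo : orderOf z = q := by
      rw [hz, orderOf_pow, hc, Nat.gcd_mul_left_left, Nat.mul_div_cancel _ (Nat.pos_of_ne_zero hc0)]
    have hzK : z ∉ K := fun h => by
      have := Subgroup.orderOf_dvd_natCard K h
      rw [hzo, hKc] at this
      exact (hq.dvd_mul.mp this).elim hqh hqm
    -- a Sylow subgroup of `H`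
    obtain ⟨P⟩ : Nonempty (Sylow p H') := inferInstance
    have := d₁.nil
    have hPn : (P : Subgroup H').Normal :=
      Sylow.normal_of_normalizerCondition Group.normalizerCondition_of_isNilpotent P
    have := P.characteristic_of_normal hPn
    have hV1 : ((P : Subgroup H').map H'.subtype) ≠ ⊥ := by
      rw [Ne, Subgroup.map_eq_bot_iff_of_injective _ H'.subtype_injective]
      exact P.ne_bot_of_dvd_card (hh ▸ hph)
    let ε : H' ≃* H := Subgroup.subgroupOfEquivOfLe hle
    set V := (((P : Subgroup H').map ε.toMonoidHom)).map H.subtype with hV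
    have hVne : V ≠ ⊥ := by
      rw [hV, Ne, Subgroup.map_eq_bot_iff_of_injective _ H.subtype_injective,
        Subgroup.map_eq_bot_iff_of_injective (f := ε.toMonoidHom) _ ε.injective]
      exact P.ne_bot_of_dvd_card (hh ▸ hph)
    have hVn : V.Normal := by
      have hPH : Nat.card ((P : Subgroup H').map ε.toMonoidHom) = p ^ (Nat.card H).factorization p := by
        rw [Subgroup.card_map_of_injective ε.injective, P.card_eq_multiplicity, hh]
      have : ((Sylow.ofCard _ hPH : Sylow p H) : Subgroup H).Normal := by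
        rw [Sylow.coe_ofCard]; exact hPn.map _ ε.surjective
      have := (Sylow.ofCard _ hPH).characteristic_of_normal this
      have h2 := Cfsg.Lib.Core.normal_map_char_of_normal (N := H) ((Sylow.ofCard _ hPH : Sylow p H) : Subgroup H)
      rwa [Sylow.coe_ofCard] at h2
    have hAne : A ≠ ⊥ := by
      rw [hA, Ne, Subgroup.map_eq_bot_iff_of_injective _ K.subtype_injective]; exact d₁.compl_ne_bot
    have hAc : IsCyclic A :=
      ((C₁.equivMapOfInjective K.subtype K.subtype_injective).symm.trans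
        d₁.compl.symm.QuotientMulEquiv.symm).isCyclic.mpr hKHc
    obtain ⟨v, hv, hv1, hvz⟩ := exists_fixed (A := A) (V := V) (z := z) hVne hVn hAne hAc hzo
      (pow_mem hy'A c) (hAcard ▸ hqm) (fun a ha ha1 => by
        obtain ⟨a, ha, rfl⟩ := ha
        rw [eq_bot_iff]
        rintro w ⟨hw, hwc⟩
        have hwH : w ∈ H := Subgroup.map_subtype_le _ hw
        have h1 : (⟨w, hle hwH⟩ : K) ∈ H' ⊓ Subgroup.centralizer {a} :=
          ⟨hwH, Subgroup.mem_centralizer_singleton_iff.mpr
            (Subtype.ext (Subgroup.mem_centralizer_singleton_iff.mp hwc))⟩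
        rw [d₁.fpf a ha (fun e => ha1 (by rw [e]; rfl)), Subgroup.mem_bot] at h1
        exact Subgroup.mem_bot.mpr (congrArg Subtype.val h1))
      (by
        rw [eq_bot_iff]
        rintro a ⟨ha, hac⟩
        rw [Subgroup.mem_bot]
        by_contra ha1
        have hfz : f z ∈ Kb := by
          refine mem_of_commute d₂ (Subgroup.mem_map_of_mem f (hAK ha)) (fun e => ?_)
            ((show Commute a z from Subgroup.mem_centralizer_singleton_iff.mp hac).map f)
          obtain ⟨a, ha', rfl⟩ := ha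
          have : a ∈ H' := (QuotientGroup.eq_one_iff (a : G)).mp e
          have := Subgroup.mem_bot.mp (d₁.compl.disjoint.le_bot ⟨this, ha'⟩)
          exact ha1 (by rw [this]; rfl)
        obtain ⟨k, hk, hkz⟩ := hfz
        exact hzK (by simpa using K.mul_mem hk (hle (QuotientGroup.eq.mp hkz))))
    obtain ⟨i, hi⟩ : ∃ i, orderOf v = p ^ i := by
      obtain ⟨j, -, hj⟩ := (Nat.dvd_prime_pow hp).mp (show orderOf v ∣ p ^ (Nat.card H).factorization p by
        refine (Subgroup.orderOf_dvd_natCard V hv).trans (dvd_of_eq ?_)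
        rw [hV, Subgroup.card_map_of_injective H.subtype_injective,
          Subgroup.card_map_of_injective ε.injective, P.card_eq_multiplicity, hh])
      exact ⟨j, hj⟩
    have hi0 : i ≠ 0 := fun e => hv1 (orderOf_eq_one_iff.mp (by rw [hi, e, pow_zero]))
    refine ⟨v ^ p ^ (i - 1) * z, ?_⟩
    have hvo : orderOf (v ^ p ^ (i - 1)) = p := by
      rw [orderOf_pow, hi, Nat.gcd_eq_right (pow_dvd_pow p (by omega)), Nat.pow_div (by omega) hp.pos,
        show i - (i - 1) = 1 by omega, pow_one]
    rw [(hvz.pow_left _).orderOf_mul_eq_mul_orderOf_of_coprime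
      (by rw [hvo, hzo]; exact (Nat.coprime_primes hp hq).mpr hpq), hvo, hzo]
  intro p q hp hq hpq hpG hqG
  have hcases : ∀ r : ℕ, r.Prime → r ∣ Nat.card G → ¬ r ∣ m → r ∣ Nat.card H ∨ r ∣ Nat.card (G ⧸ K) := by
    intro r hr hd hrm
    rw [hGc, hKc] at hd
    rcases hr.dvd_mul.mp hd with h | h
    · exact Or.inl ((hr.dvd_mul.mp h).resolve_right hrm)
    · exact Or.inr h
  constructor
  · rintro ⟨g, hg⟩
    by_contra hiff
    by_cases hpm : p ∣ m
    · exact hno p q hp hq hpq hpm (fun hqm => hiff (iff_of_true hpm hqm)) g hg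
    · have hqm : q ∣ m := by
        by_contra hqm
        exact hiff (iff_of_false hpm hqm)
      exact hno q p hq hp hpq.symm hqm hpm g (hg.trans (mul_comm p q))
  · intro hiff
    have hcop : p.Coprime q := (Nat.coprime_primes hp hq).mpr hpq
    by_cases hpm : p ∣ m
    · obtain ⟨x, hx⟩ := exists_order_of_cyclic hKHc (hcop.mul_dvd_of_dvd_of_dvd hpm (hiff.mp hpm))
      obtain ⟨k, rfl⟩ := QuotientGroup.mk'_surjective H' x
      obtain ⟨w, hw⟩ := pow_of_orderOf (QuotientGroup.mk' H') (x := k) (dvd_of_eq hx.symm)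
      exact ⟨w, by rw [Subgroup.orderOf_coe, hw]⟩
    have hqm : ¬ q ∣ m := fun h => hpm (hiff.mpr h)
    by_cases hqh : q ∣ Nat.card H
    · by_cases hph : p ∣ Nat.card H
      · have := Fact.mk hp
        have := Fact.mk hq
        have := d₁.nil
        obtain ⟨a, ha⟩ := exists_prime_orderOf_dvd_card' (G := H') p (hh ▸ hph)
        obtain ⟨b, hb⟩ := exists_prime_orderOf_dvd_card' (G := H') q (hh ▸ hqh)
        refine ⟨((a * b : H') : K), ?_⟩
        rw [Subgroup.orderOf_coe, Subgroup.orderOf_coe,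
          (Cfsg.Lib.PGroup.commute_of_coprime_orderOf a b (by rwa [ha, hb])).orderOf_mul_eq_mul_orderOf_of_coprime
            (by rwa [ha, hb]), ha, hb]
      · obtain ⟨g, hg⟩ := hmix q p hq hp hpq.symm hqh ((hcases p hp hpG hpm).resolve_left hph) hph hpm
        exact ⟨g, hg.trans (mul_comm q p)⟩
    · have hqc := (hcases q hq hqG hqm).resolve_left hqh
      rcases hcases p hp hpG hpm with hph | hpc
      · exact hmix p q hp hq hpq hph hqc hqh hqm
      · obtain ⟨x, hx⟩ := exists_order_of_cyclic hGKc (hcop.mul_dvd_of_dvd_of_dvd hpc hqc)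
        obtain ⟨k, rfl⟩ := QuotientGroup.mk'_surjective K x
        exact pow_of_orderOf (QuotientGroup.mk' K) (x := k) (dvd_of_eq hx.symm)

end Cfsg.Agent.S4001
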