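import Cfsg.Statements.S4002
import Cfsg.Agent.Lib.Solv.ThreePrimes
import Mathlib.NumberTheory.Bertrand
-- import your own Cfsg.Agent.* helpers here

set_option autoImplicit false
open Cfsg

namespace Cfsg.Agent.S4002

theorem three_primes_interval (n : ℕ) (hn : 7 ≤ n) :
    ∃ p q r : ℕ, p.Prime ∧ q.Prime ∧ r.Prime ∧ p < q ∧ q < r ∧ r ≤ n ∧ n < p * q := by
  by_cases h1 : n < 15
  · exact ⟨3, 5, 7, by norm_num, by norm_num, by norm_num, by norm_num, by norm_num, hn, h1⟩
  by_cases h2 : n < 25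
  · exact ⟨5, 7, 11, by norm_num, by norm_num, by norm_num, by norm_num, by norm_num, by omega, by omega⟩
  by_cases h3 : n < 64
  · exact ⟨7, 11, 13, by norm_num, by norm_num, by norm_num, by norm_num, by norm_num, by omega, by omega⟩
  set a := Nat.sqrt n with ha
  have ha8 : 8 ≤ a := Nat.le_sqrt.2 (by omega)
  have hle : a * a ≤ n := Nat.sqrt_le n
  have hlt : n < (a + 1) * (a + 1) := Nat.lt_succ_sqrt n
  obtain ⟨p, hp, hp1, hp2⟩ := Nat.exists_prime_lt_and_le_two_mul a (by omega)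
  obtain ⟨q, hq, hq1, hq2⟩ := Nat.exists_prime_lt_and_le_two_mul (2 * a) (by omega)
  obtain ⟨r, hr, hr1, hr2⟩ := Nat.exists_prime_lt_and_le_two_mul (4 * a) (by omega)
  refine ⟨p, q, r, hp, hq, hr, by omega, by omega, ?_, ?_⟩
  · calc r ≤ 8 * a := by omega
      _ ≤ a * a := Nat.mul_le_mul_right a ha8
      _ ≤ n := hle
  · exact hlt.trans_le (Nat.mul_le_mul (by omega) (by omega))


/-- If the set of element orders of a finite group G is {1, 2, …, n} with n ≥ 7, then G is not solvable. -/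
theorem result {G : Type*} [Group G] [Finite G] (n : ℕ) (hn : 7 ≤ n) (h : Set.range (orderOf : G → ℕ) = {k : ℕ | 1 ≤ k ∧ k ≤ n}) : ¬ Group.IsSolvable G := by
  intro hsol
  obtain ⟨p, q, r, hp, hq, hr, hpq, hqr, hrn, hnpq⟩ := three_primes_interval n hn
  have hdvd : ∀ s : ℕ, s.Prime → s ≤ n → s ∣ Nat.card G := by
    intro s hs hsn
    have hs' : s ∈ Set.range (orderOf : G → ℕ) := by rw [h]; exact ⟨hs.one_lt.le, hsn⟩
    obtain ⟨x, hx⟩ := hs'
    exact hx ▸ orderOf_dvd_natCard x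
  obtain ⟨x, hx⟩ := Cfsg.Lib.Solv.three_primes (G := G) hp hq hr hpq.ne (hpq.trans hqr).ne hqr.ne
    (hdvd p hp (by omega)) (hdvd q hq (by omega)) (hdvd r hr hrn)
  have hxn : orderOf x ≤ n := by
    have h' : orderOf x ∈ Set.range (orderOf : G → ℕ) := ⟨x, rfl⟩
    rw [h] at h'
    exact h'.2
  have h1 : p * q ≤ p * r := Nat.mul_le_mul_left p hqr.le
  have h2 : p * r ≤ q * r := Nat.mul_le_mul_right r hpq.le
  rcases hx with hx | hx | hx <;> omega

end Cfsg.Agent.S4002
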