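import Cfsg.Statements.S4003
import Cfsg.Agent.S0519
import Cfsg.Agent.Lib.PGroup.Noncyclic
import Cfsg.Agent.Lib.PGroup.Basic
import Cfsg.Agent.Lib.Char.Central
import Mathlib.GroupTheory.SpecificGroups.Cyclic
-- import your own Cfsg.Agent.* helpers here

set_option autoImplicit false
open Cfsg

namespace Cfsg.Agent.S4003

open Subgroup
open scoped commutatorElement

theorem card_gen {Q : Type*} [Group Q] [Finite Q] (w : Q) :
    Nat.card {u : Q // zpowers u = zpowers w} = Nat.totient (orderOf w) := by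
  classical
  haveI := Fintype.ofFinite Q
  have h := IsCyclic.card_orderOf_eq_totient (α := zpowers w) (d := orderOf w) (by
    rw [← Nat.card_eq_fintype_card, Nat.card_zpowers])
  rw [← h, ← Fintype.card_subtype, ← Nat.card_eq_fintype_card]
  refine Nat.card_congr ⟨fun u => ⟨⟨u.1, u.2.le (mem_zpowers u.1)⟩, by
      rw [Subgroup.orderOf_mk, ← Nat.card_zpowers, u.2, Nat.card_zpowers]⟩,
    fun u => ⟨u.1.1, ?_⟩, fun u => rfl, fun u => rfl⟩
  refine eq_of_le_of_card_ge (zpowers_le.2 u.1.2) ?_
  rw [Nat.card_zpowers, Nat.card_zpowers, Subgroup.orderOf_coe, u.2]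

/-- A set closed under passing to other generators of the same cyclic subgroup. -/
theorem dvd_card_closed {Q : Type*} [Group Q] [Finite Q] (T : Finset Q) (d : ℕ)
    (hcl : ∀ w ∈ T, ∀ u, zpowers u = zpowers w → u ∈ T) (hd : ∀ w ∈ T, d ∣ Nat.totient (orderOf w)) :
    d ∣ T.card := by
  classical
  haveI := Fintype.ofFinite Q
  rw [Finset.card_eq_sum_card_fiberwise (f := fun w => zpowers w) (t := T.image fun w => zpowers w)
    (fun w hw => Finset.mem_image_of_mem _ hw)]
  refine Finset.dvd_sum fun X hX => ?_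
  obtain ⟨w, hw, rfl⟩ := Finset.mem_image.1 hX
  have h : (T.filter fun u => zpowers u = zpowers w) = Finset.univ.filter fun u => zpowers u = zpowers w := by
    ext u
    simp only [Finset.mem_filter, Finset.mem_univ, true_and, and_iff_right_iff_imp]
    exact hcl w hw u
  rw [h, ← Fintype.card_subtype, ← Nat.card_eq_fintype_card, card_gen]
  exact hd w hw

theorem card_orderOf_eq {Q : Type*} [Group Q] [Finite Q] (k : ℕ) :
    Nat.card {x : Q // orderOf x = k} =
      Nat.totient k * Nat.card {X : Subgroup Q // IsCyclic X ∧ Nat.card X = k} := by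
  classical
  haveI := Fintype.ofFinite Q
  haveI := Fintype.ofFinite (Subgroup Q)
  rw [Nat.card_eq_fintype_card, Fintype.card_subtype, Nat.card_eq_fintype_card, Fintype.card_subtype,
    Finset.card_eq_sum_card_fiberwise (f := fun w => zpowers w)
      (t := Finset.univ.filter fun X : Subgroup Q => IsCyclic X ∧ Nat.card X = k)
      (fun w hw => Finset.mem_filter.2 ⟨Finset.mem_univ _, inferInstance,
        by rw [Nat.card_zpowers]; exact (Finset.mem_filter.1 hw).2⟩),
    mul_comm, ← smul_eq_mul, ← Finset.sum_const]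
  refine Finset.sum_congr rfl fun X hX => ?_
  obtain ⟨-, hc, hk⟩ := Finset.mem_filter.1 hX
  obtain ⟨w, rfl⟩ := (Subgroup.isCyclic_iff_exists_zpowers_eq_top X).1 hc
  rw [Nat.card_zpowers] at hk
  rw [← hk, ← card_gen w, Nat.card_eq_fintype_card, Fintype.card_subtype]
  congr 1
  ext u
  simp only [Finset.mem_filter, Finset.mem_univ, true_and]
  exact ⟨fun h => h.2, fun h => ⟨by rw [← Nat.card_zpowers, h, Nat.card_zpowers], h⟩⟩

/-- Multiplying by an element of a normal elementary subgroup of order `p ^ 2` keeps the `p`-th power. -/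
theorem pow_mul_eq {R : Type*} [Group R] [Finite R] {p : ℕ} [hp : Fact p.Prime] (hp2 : p ≠ 2)
    (hR : IsPGroup p R) {N : Subgroup R} [hNn : N.Normal] (hN : Cfsg.IsElementaryAbelian p N)
    (hNc : Nat.card N = p ^ 2) (x : R) {n : R} (hn : n ∈ N) : (x * n) ^ p = x ^ p := by
  set c := ⁅n, x⁆ with hc
  have hlt : ⁅N, (⊤ : Subgroup R)⁆ < N := Cfsg.Lib.PGroup.commutator_lt_of_isPGroup (p := p)
    (hR.to_subgroup N) (hR.to_subgroup ⊤) (fun y _ => by
      rw [normalizer_eq_top_iff.mpr hNn]; trivial) (fun h => by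
      rw [h, card_bot] at hNc; exact (Nat.one_lt_pow two_ne_zero hp.out.one_lt).ne hNc)
  set K := ⁅N, (⊤ : Subgroup R)⁆ with hK
  have hKc : K ≤ center R := by
    obtain ⟨a, ha⟩ := IsPGroup.iff_card.1 (hR.to_subgroup K)
    have ha2 : a < 2 := by
      have h1 : Nat.card K < Nat.card N := lt_of_le_of_ne (card_le_of_le hlt.le)
        (fun e => hlt.ne (eq_of_le_of_card_ge hlt.le e.ge))
      rw [ha, hNc] at h1
      exact (Nat.pow_lt_pow_iff_right hp.out.one_lt).1 h1
    haveI : K.Normal := by rw [hK]; infer_instance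
    interval_cases a
    · rw [(card_eq_one.1 (by simpa using ha) : K = ⊥)]; exact bot_le
    · exact Cfsg.Lib.PGroup.le_center_of_card_eq_prime hR (by simpa using ha)
  have hcK : c ∈ K := commutator_mem_commutator hn (mem_top x)
  have hcc : ∀ y, Commute c y := fun y => (mem_center_iff.1 (hKc hcK) y).symm
  have hcp : c ^ p = 1 := hN.2 c (hlt.le hcK)
  have key : ∀ k : ℕ, (x * n) ^ k = x ^ k * n ^ k * c ^ k.choose 2 := by
    intro k
    induction k with
    | zero => simp
    | succ k ih =>
      have hswap : n ^ k * x = x * n ^ k * c ^ k := by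
        clear ih
        induction k with
        | zero => simp
        | succ k ihk =>
          have h1 : n * x = x * n * c := by
            rw [mul_assoc, ← (hcc n).eq, ← mul_assoc, ← (hcc x).eq, hc, commutatorElement_def]; group
          calc n ^ (k + 1) * x = n * (n ^ k * x) := by rw [pow_succ', mul_assoc]
            _ = n * x * n ^ k * c ^ k := by rw [ihk]; group
            _ = x * n * (c * n ^ k) * c ^ k := by rw [h1]; group
            _ = x * n ^ (k + 1) * c ^ (k + 1) := by
                rw [(hcc (n ^ k)).eq, pow_succ', pow_succ' c]; group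
      rw [pow_succ, ih, Nat.choose_succ_succ', Nat.choose_one_right]
      calc x ^ k * n ^ k * c ^ k.choose 2 * (x * n)
          = x ^ k * n ^ k * (x * n) * c ^ k.choose 2 := by
            rw [mul_assoc _ (c ^ _), ((hcc (x * n)).pow_left _).eq]; group
        _ = x ^ k * (x * n ^ k * c ^ k) * n * c ^ k.choose 2 := by rw [← hswap]; group
        _ = x ^ (k + 1) * n ^ (k + 1) * c ^ (k + k.choose 2) := by
            rw [pow_succ x, pow_succ n, pow_add]
            calc x ^ k * (x * n ^ k * c ^ k) * n * c ^ k.choose 2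
                = x ^ k * x * n ^ k * (c ^ k * n) * c ^ k.choose 2 := by group
              _ = x ^ k * x * n ^ k * (n * c ^ k) * c ^ k.choose 2 := by rw [((hcc n).pow_left k).eq]
              _ = _ := by group
  obtain ⟨t, ht⟩ := hp.out.dvd_choose_self two_ne_zero (lt_of_le_of_ne hp.out.two_le (Ne.symm hp2))
  rw [key p, hN.2 n hn, mul_one, ht, pow_mul, hcp, one_pow, mul_one]

theorem exists_normal_sq {R : Type*} [Group R] [Finite R] {p : ℕ} [hp : Fact p.Prime] (hp2 : p ≠ 2)
    (hR : IsPGroup p R) (hnc : ¬ IsCyclic R) :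
    ∃ E : Subgroup R, E.Normal ∧ Cfsg.IsElementaryAbelian p E ∧ Nat.card E = p ^ 2 := by
  by_contra hno
  have hn : ∀ A : Subgroup R, A.Normal → IsMulCommutative A → IsCyclic A := by
    intro A hA hAc
    by_contra hAnc
    haveI := hA
    haveI := hAc
    obtain ⟨E, -, hE⟩ := Cfsg.Lib.PGroup.Noncyclic.exists_normal_elemAb_sq_of_abelian hp2 hR A hAnc
    exact hno ⟨E, hE⟩
  obtain ⟨E, -, hE, hEc⟩ := Cfsg.Lib.PGroup.Noncyclic.exists_elemAb_sq hp2 hR ⊤ fun h => hnc
    (isCyclic_of_surjective (Subgroup.topEquiv (G := R)).toMonoidHom (MulEquiv.surjective _))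
  exact hp2 (Cfsg.Agent.S0519.result p hR hn ⟨E, hE.1, Cfsg.Lib.PGroup.Noncyclic.not_isCyclic_of_elemAb hE hEc⟩).1

theorem pgroup_case {R : Type*} [Group R] [Finite R] {p : ℕ} [hp : Fact p.Prime] (hp2 : p ≠ 2)
    (hR : IsPGroup p R) (hnc : ¬ IsCyclic R) {s : ℕ} (hs : 1 < s) :
    p ^ s ∣ Nat.card {x : R // orderOf x = p ^ s} := by
  classical
  haveI := Fintype.ofFinite R
  obtain ⟨N, hNn, hN, hNc⟩ := exists_normal_sq hp2 hR hnc
  haveI := Fintype.ofFinite (R ⧸ N)
  have hord : ∀ x, ∀ n ∈ N, orderOf x = p ^ s → orderOf (x * n) = p ^ s := by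
    intro x n hn hx
    have h1 := pow_mul_eq hp2 hR hN hNc x hn
    obtain ⟨s', rfl⟩ : ∃ s', s = s' + 1 := ⟨s - 1, by omega⟩
    have hxp : orderOf (x ^ p) = p ^ s' := by
      rw [orderOf_pow_of_dvd hp.out.ne_zero (hx ▸ dvd_pow_self p (by omega)), hx, pow_succ,
        Nat.mul_div_cancel _ hp.out.pos]
    refine orderOf_eq_prime_pow (fun h => ?_) ?_
    · have hs' : s' = (s' - 1) + 1 := by omega
      rw [hs', pow_succ', pow_mul, h1] at h
      have := orderOf_dvd_of_pow_eq_one h
      rw [hxp, Nat.pow_dvd_pow_iff_le_right hp.out.one_lt] at this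
      omega
    · rw [pow_succ', pow_mul, h1, ← pow_mul, ← pow_succ', ← hx, pow_orderOf_eq_one]
  let T : Finset (R ⧸ N) := (Finset.univ.filter fun x : R => orderOf x = p ^ s).image (QuotientGroup.mk (s := N))
  have hfib : Nat.card {x : R // orderOf x = p ^ s} = T.card * p ^ 2 := by
    rw [Nat.card_eq_fintype_card, Fintype.card_subtype,
      Finset.card_eq_sum_card_fiberwise (f := QuotientGroup.mk (s := N)) (t := T)
        (fun w hw => Finset.mem_image_of_mem _ hw), ← smul_eq_mul, ← Finset.sum_const]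
    refine Finset.sum_congr rfl fun q hq => ?_
    obtain ⟨x, hx, rfl⟩ := Finset.mem_image.1 hq
    rw [← hNc, ← Fintype.card_coe, ← Nat.card_eq_fintype_card]
    refine Nat.card_congr (Equiv.ofBijective (fun u => (⟨x⁻¹ * u.1,
      QuotientGroup.eq.1 (Finset.mem_filter.1 u.2).2.symm⟩ : N)) ⟨?_, ?_⟩)
    · intro u v h
      exact Subtype.ext (mul_left_cancel (congrArg Subtype.val h))
    · intro n
      refine ⟨⟨x * n, Finset.mem_filter.2 ⟨Finset.mem_filter.2 ⟨Finset.mem_univ _,
        hord x n n.2 (Finset.mem_filter.1 hx).2⟩, ?_⟩⟩, Subtype.ext (inv_mul_cancel_left x _)⟩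
      show ((x * n : R) : R ⧸ N) = x
      rw [QuotientGroup.mk_mul, (QuotientGroup.eq_one_iff _).2 n.2, mul_one]
  have hT : p ^ (s - 2) ∣ T.card := by
    refine dvd_card_closed T _ (fun w hw u hu => ?_) fun w hw => ?_
    · obtain ⟨x, hx, rfl⟩ := Finset.mem_image.1 hw
      have hu' : u ∈ zpowers (x : R ⧸ N) := hu ▸ mem_zpowers u
      obtain ⟨i, rfl⟩ := mem_powers_iff_mem_zpowers.2 hu'
      refine Finset.mem_image.2 ⟨x ^ i, Finset.mem_filter.2 ⟨Finset.mem_univ _, ?_⟩, rfl⟩
      rw [(Nat.Coprime.orderOf_pow ?_), (Finset.mem_filter.1 hx).2]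
      rw [(Finset.mem_filter.1 hx).2]
      refine Nat.Coprime.pow_left _ ((Nat.Prime.coprime_iff_not_dvd hp.out).2 fun hd => ?_)
      obtain ⟨j, rfl⟩ := hd
      have h1 : orderOf ((x : R ⧸ N) ^ (p * j)) = orderOf (x : R ⧸ N) := by
        rw [← Nat.card_zpowers, hu, Nat.card_zpowers]
      have hne : orderOf (x : R ⧸ N) ≠ 1 := by
        intro h0
        rw [orderOf_eq_one_iff, QuotientGroup.eq_one_iff] at h0
        have := orderOf_dvd_of_pow_eq_one (hN.2 x h0)
        rw [(Finset.mem_filter.1 hx).2] at this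
        have h' : p ^ s ∣ p ^ 1 := by rwa [pow_one]
        rw [Nat.pow_dvd_pow_iff_le_right hp.out.one_lt] at h'
        omega
      obtain ⟨a, ha⟩ := IsPGroup.iff_orderOf.1 (hR.to_quotient N) (x : R ⧸ N)
      rcases a with _ | a
      · exact hne (by simpa using ha)
      have hpd : p ∣ orderOf (x : R ⧸ N) := ha ▸ dvd_pow_self p (by omega)
      have h2 : orderOf ((x : R ⧸ N) ^ (p * j)) ∣ orderOf ((x : R ⧸ N) ^ p) := by
        rw [pow_mul]; exact orderOf_pow_dvd _
      rw [h1, orderOf_pow_of_dvd hp.out.ne_zero hpd] at h2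
      exact absurd (Nat.le_of_dvd (Nat.div_pos (Nat.le_of_dvd (orderOf_pos _) hpd) hp.out.pos) h2)
        (Nat.not_le.2 (Nat.div_lt_self (orderOf_pos _) hp.out.one_lt))
    · obtain ⟨x, hx, rfl⟩ := Finset.mem_image.1 hw
      obtain ⟨a, ha⟩ := IsPGroup.iff_orderOf.1 (hR.to_quotient N) (x : R ⧸ N)
      have h1 : (x : R ⧸ N) ^ p ^ a = 1 := ha ▸ pow_orderOf_eq_one _
      replace h1 : x ^ p ^ a ∈ N := (QuotientGroup.eq_one_iff _).1 ((QuotientGroup.mk_pow N x _).trans h1)
      have h2 := hN.2 _ h1
      rw [← pow_mul, ← pow_succ] at h2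
      have h3 := orderOf_dvd_of_pow_eq_one h2
      rw [(Finset.mem_filter.1 hx).2, Nat.pow_dvd_pow_iff_le_right hp.out.one_lt] at h3
      rw [ha, Nat.totient_prime_pow hp.out (by omega)]
      exact Dvd.dvd.mul_right (pow_dvd_pow p (by omega)) _
  obtain ⟨c, hc⟩ := hT
  rw [hfib, hc, mul_comm _ c, mul_assoc, ← pow_add, Nat.sub_add_cancel (by omega)]
  exact dvd_mul_left _ _

theorem group_case {H : Type*} [Group H] [Finite H] {p : ℕ} [hp : Fact p.Prime] (hp2 : p ≠ 2)
    (P : Sylow p H) (hP : ¬ IsCyclic (P : Subgroup H)) {s : ℕ} (hs : 1 < s) :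
    p ^ s ∣ Nat.card {x : H // orderOf x = p ^ s} := by
  classical
  have hR := P.isPGroup'
  have hPs : p ∣ Nat.card {X : Subgroup (P : Subgroup H) // IsCyclic X ∧ Nat.card X = p ^ s} := by
    have h := pgroup_case hp2 hR hP hs
    rw [card_orderOf_eq, Nat.totient_prime_pow hp.out (by omega)] at h
    have h' : p ^ (s - 1) * p ∣ p ^ (s - 1) *
        ((p - 1) * Nat.card {X : Subgroup (P : Subgroup H) // IsCyclic X ∧ Nat.card X = p ^ s}) := by
      rwa [← mul_assoc, ← pow_succ, Nat.sub_add_cancel (by omega)]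
    refine ((hp.out.dvd_mul).1 ((Nat.mul_dvd_mul_iff_left (pow_pos hp.out.pos _)).1 h')).resolve_left fun h1 => ?_
    have := hp.out.two_le
    exact absurd (Nat.le_of_dvd (by omega) h1) (by omega)
  let α := {X : Subgroup H // IsCyclic X ∧ Nat.card X = p ^ s}
  letI act : MulAction (P : Subgroup H) α :=
    { smul := fun g X => ⟨X.1.map (MulAut.conj (g : H)).toMonoidHom,
        (X.1.equivMapOfInjective _ (MulAut.conj (g : H)).injective).isCyclic.1 X.2.1,
        (card_map_of_injective (MulAut.conj (g : H)).injective).trans X.2.2⟩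
      one_smul := fun X => Subtype.ext (by
        show X.1.map (MulAut.conj ((1 : (P : Subgroup H)) : H)).toMonoidHom = X.1
        rw [OneMemClass.coe_one, map_one]; exact Subgroup.map_id _)
      mul_smul := fun g h X => Subtype.ext (by
        show X.1.map (MulAut.conj ((g * h : (P : Subgroup H)) : H)).toMonoidHom =
          (X.1.map (MulAut.conj (h : H)).toMonoidHom).map (MulAut.conj (g : H)).toMonoidHom
        rw [Subgroup.map_map, Subgroup.coe_mul, map_mul]; rfl) }
  have hfix := hR.card_modEq_card_fixedPoints α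
  have hPle : ∀ X : α, X ∈ MulAction.fixedPoints (P : Subgroup H) α ↔ X.1 ≤ (P : Subgroup H) ∧
      (P : Subgroup H) ≤ normalizer (X.1 : Set H) := by
    intro X
    constructor
    · intro hX
      have hn : (P : Subgroup H) ≤ normalizer (X.1 : Set H) := fun g hg =>
        Cfsg.Lib.Core.mem_normalizer_iff_map_conj.2 (congrArg Subtype.val (hX ⟨g, hg⟩))
      have hXp : IsPGroup p X.1 := IsPGroup.of_card X.2.2
      refine ⟨?_, hn⟩
      exact sup_eq_left.1 (P.is_maximal' (hR.to_sup_of_normal_right' hXp hn) le_sup_left)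
    · intro hX g
      exact Subtype.ext (Cfsg.Lib.Core.mem_normalizer_iff_map_conj.1 (hX.2 g.2))
  have hα : p ∣ Nat.card α := by
    refine (Nat.modEq_zero_iff_dvd).1 (hfix.trans ((Nat.modEq_zero_iff_dvd).2 ?_))
    let β := {X : Subgroup (P : Subgroup H) // IsCyclic X ∧ Nat.card X = p ^ s}
    letI actb : MulAction (P : Subgroup H) β :=
      { smul := fun g X => ⟨X.1.map (MulAut.conj g).toMonoidHom,
          (X.1.equivMapOfInjective _ (MulAut.conj g).injective).isCyclic.1 X.2.1,
          (card_map_of_injective (MulAut.conj g).injective).trans X.2.2⟩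
        one_smul := fun X => Subtype.ext (by
          show X.1.map (MulAut.conj (1 : (P : Subgroup H))).toMonoidHom = X.1
          rw [map_one]; exact Subgroup.map_id _)
        mul_smul := fun g h X => Subtype.ext (by
          show X.1.map (MulAut.conj (g * h)).toMonoidHom =
            (X.1.map (MulAut.conj h).toMonoidHom).map (MulAut.conj g).toMonoidHom
          rw [Subgroup.map_map, map_mul]; rfl) }
    have hb := ((Nat.modEq_zero_iff_dvd).2 hPs).symm.trans (hR.card_modEq_card_fixedPoints β)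
    refine (Nat.modEq_zero_iff_dvd).1 (Nat.ModEq.trans ?_ hb.symm)
    refine congrArg (· % p) (Nat.card_congr (Equiv.ofBijective (fun X : MulAction.fixedPoints (P : Subgroup H) α =>
      (⟨⟨X.1.1.subgroupOf (P : Subgroup H), (subgroupOfEquivOfLe ((hPle X.1).1 X.2).1).isCyclic.2 X.1.2.1,
          (Nat.card_congr (subgroupOfEquivOfLe ((hPle X.1).1 X.2).1).toEquiv).trans X.1.2.2⟩, ?_⟩ :
        MulAction.fixedPoints (P : Subgroup H) β)) ⟨?_, ?_⟩))
    · intro g
      refine Subtype.ext (Subgroup.map_injective (subtype_injective (P : Subgroup H)) ?_)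
      show ((X.1.1.subgroupOf (P : Subgroup H)).map (MulAut.conj g).toMonoidHom).map _ = (X.1.1.subgroupOf (P : Subgroup H)).map _
      rw [Subgroup.map_map, show (P : Subgroup H).subtype.comp (MulAut.conj g).toMonoidHom =
        (MulAut.conj (g : H)).toMonoidHom.comp (P : Subgroup H).subtype from rfl, ← Subgroup.map_map,
        map_subgroupOf_eq_of_le ((hPle X.1).1 X.2).1]
      exact congrArg Subtype.val (X.2 g)
    · intro X Y h
      refine Subtype.ext (Subtype.ext ?_)
      have h' := congrArg (Subgroup.map (P : Subgroup H).subtype) (congrArg Subtype.val (congrArg Subtype.val h))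
      simpa only [map_subgroupOf_eq_of_le ((hPle X.1).1 X.2).1, map_subgroupOf_eq_of_le ((hPle Y.1).1 Y.2).1] using h'
    · rintro ⟨⟨Y, hY1, hY2⟩, hY⟩
      refine ⟨⟨⟨Y.map (P : Subgroup H).subtype, (Y.equivMapOfInjective _ (subtype_injective _)).isCyclic.1 hY1,
        (card_map_of_injective (subtype_injective _)).trans hY2⟩, ?_⟩, ?_⟩
      · intro g
        refine Subtype.ext ?_
        show (Y.map (P : Subgroup H).subtype).map (MulAut.conj (g : H)).toMonoidHom = Y.map _
        rw [Subgroup.map_map, show (MulAut.conj (g : H)).toMonoidHom.comp (P : Subgroup H).subtype =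
          (P : Subgroup H).subtype.comp (MulAut.conj g).toMonoidHom from rfl, ← Subgroup.map_map]
        exact congrArg _ (congrArg Subtype.val (hY g))
      · exact Subtype.ext (Subtype.ext (comap_map_eq_self_of_injective (subtype_injective _) Y))
  rw [card_orderOf_eq, Nat.totient_prime_pow hp.out (by omega)]
  obtain ⟨c, hc⟩ := hα
  rw [show Nat.card {X : Subgroup H // IsCyclic X ∧ Nat.card X = p ^ s} = p * c from hc]
  exact ⟨(p - 1) * c, by
    conv_rhs => rw [show p ^ s = p ^ (s - 1) * p by rw [← pow_succ, Nat.sub_add_cancel (by omega)]]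
    ring⟩


/-- Let G be a finite group, p an odd prime dividing the order of G whose Sylow p-subgroups are not cyclic, and n = p^s·m with s > 1 and m coprime to p. Then the number of elements of G of order n is a multiple of p^s. -/
theorem result {G : Type*} [Group G] [Finite G] (p : ℕ) [Fact p.Prime] (hodd : p ≠ 2) (hpG : p ∣ Nat.card G)
    (P : Sylow p G) (hP : ¬ IsCyclic ↥(P : Subgroup G)) (s m : ℕ) (hs : 1 < s) (hm : Nat.Coprime p m) :
    p ^ s ∣ Nat.card {g : G // orderOf g = p ^ s * m} := by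
  classical
  have hp := (Fact.out : p.Prime)
  haveI := Fintype.ofFinite G
  rcases Nat.eq_zero_or_pos m with rfl | hm0
  · rw [Nat.coprime_zero_right] at hm
    exact absurd hm hp.ne_one
  have hcop : (p ^ s).Coprime m := hm.pow_left s
  let f : (Σ y : {y : G // orderOf y = m}, {x : Subgroup.centralizer ({(y : G)} : Set G) // orderOf x = p ^ s}) →
      {g : G // orderOf g = p ^ s * m} := fun a => ⟨(a.2.1 : G) * a.1.1, by
    have hc : Commute (a.2.1 : G) a.1.1 := Subgroup.mem_centralizer_singleton_iff.1 a.2.1.2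
    have h1 : orderOf (a.2.1 : G) = p ^ s := (Subgroup.orderOf_coe _).trans a.2.2
    rw [hc.orderOf_mul_eq_mul_orderOf_of_coprime (by rw [h1, a.1.2]; exact hcop), h1, a.1.2]⟩
  have hf : Function.Bijective f := by
    constructor
    · rintro ⟨⟨y, hy⟩, ⟨⟨x, hx⟩, hxo⟩⟩ ⟨⟨y', hy'⟩, ⟨⟨x', hx'⟩, hxo'⟩⟩ h
      have h' : x * y = x' * y' := congrArg Subtype.val h
      rw [Subgroup.orderOf_mk] at hxo hxo'
      have e := congrArg (fun z => z ^ p ^ s) h'
      rw [(show Commute x y from Subgroup.mem_centralizer_singleton_iff.1 hx).mul_pow,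
        (show Commute x' y' from Subgroup.mem_centralizer_singleton_iff.1 hx').mul_pow,
        ← hxo, pow_orderOf_eq_one, hxo, ← hxo', pow_orderOf_eq_one, hxo', one_mul, one_mul] at e
      obtain ⟨j, hj⟩ := exists_pow_eq_self_of_coprime (x := y) (n := p ^ s) (by rw [hy]; exact hcop)
      obtain ⟨j', hj'⟩ := exists_pow_eq_self_of_coprime (x := y') (n := p ^ s) (by rw [hy']; exact hcop)
      have hmem : y = y' := by
        have h1 : y ∈ Subgroup.zpowers y' := by rw [← hj, e]; exact pow_mem (pow_mem (Subgroup.mem_zpowers _) _) _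
        obtain ⟨i, hi⟩ := mem_powers_iff_mem_zpowers.2 h1
        have h2 : y' ^ (p ^ s) = (y' ^ (p ^ s)) ^ i := by
          conv_lhs => rw [← e, ← hi]
          rw [← pow_mul, ← pow_mul, mul_comm]
        calc y = y' ^ i := hi.symm
          _ = ((y' ^ p ^ s) ^ j') ^ i := by rw [hj']
          _ = ((y' ^ p ^ s) ^ i) ^ j' := by rw [← pow_mul, ← pow_mul (y' ^ p ^ s), mul_comm]
          _ = y' := by rw [← h2, hj']
      subst hmem
      have hxx : x = x' := mul_right_cancel h'
      subst hxx
      rfl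
    · rintro ⟨g, hg⟩
      have hy : orderOf (g ^ p ^ s) = m := by
        rw [orderOf_pow_of_dvd (pow_pos hp.pos s).ne' (hg ▸ dvd_mul_right _ _), hg,
          Nat.mul_div_cancel_left _ (pow_pos hp.pos s)]
      have hx : orderOf (g ^ m) = p ^ s := by
        rw [orderOf_pow_of_dvd hm0.ne' (hg ▸ dvd_mul_left _ _), hg, Nat.mul_div_cancel _ hm0]
      obtain ⟨a, ha⟩ := exists_pow_eq_self_of_coprime (x := g ^ p ^ s) (n := p ^ s) (by rw [hy]; exact hcop)
      obtain ⟨b, hb⟩ := exists_pow_eq_self_of_coprime (x := g ^ m) (n := m) (by rw [hx]; exact hcop.symm)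
      let y := (g ^ p ^ s) ^ a
      let x := (g ^ m) ^ b
      have hyo : orderOf y = m := by
        refine Nat.dvd_antisymm (hy ▸ orderOf_pow_dvd a) ?_
        rw [← hy]; conv_lhs => rw [← ha]
        rw [show ((g ^ p ^ s) ^ p ^ s) ^ a = y ^ p ^ s by simp only [y, ← pow_mul]; congr 1; ring]
        exact orderOf_pow_dvd _
      have hxo : orderOf x = p ^ s := by
        refine Nat.dvd_antisymm (hx ▸ orderOf_pow_dvd b) ?_
        rw [← hx]; conv_lhs => rw [← hb]
        rw [show ((g ^ m) ^ m) ^ b = x ^ m by simp only [x, ← pow_mul]; congr 1; ring]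
        exact orderOf_pow_dvd _
      have hxy : Commute x y := ((Commute.self_pow g m).symm.pow_right (p ^ s)).pow_pow b a
      refine ⟨⟨⟨y, hyo⟩, ⟨⟨x, Subgroup.mem_centralizer_singleton_iff.2 hxy.eq⟩,
        by rw [Subgroup.orderOf_mk]; exact hxo⟩⟩, Subtype.ext ?_⟩
      show x * y = g
      set z := x * y with hz
      have hzg : Commute z g := (((Commute.self_pow g m).symm.pow_left b).mul_left
        ((Commute.self_pow g (p ^ s)).symm.pow_left a))
      have e1 : z ^ p ^ s = g ^ p ^ s := by
        rw [hz, hxy.mul_pow, ← hxo, pow_orderOf_eq_one, hxo, one_mul]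
        exact (by simp only [y, ← pow_mul]; congr 1; ring : y ^ p ^ s = ((g ^ p ^ s) ^ p ^ s) ^ a).trans ha
      have e2 : z ^ m = g ^ m := by
        rw [hz, hxy.mul_pow, ← hyo, pow_orderOf_eq_one, hyo, mul_one]
        exact (by simp only [x, ← pow_mul]; congr 1; ring : x ^ m = ((g ^ m) ^ m) ^ b).trans hb
      have h1 : (z * g⁻¹) ^ p ^ s = 1 := by rw [hzg.inv_right.mul_pow, e1, inv_pow, mul_inv_cancel]
      have h2 : (z * g⁻¹) ^ m = 1 := by rw [hzg.inv_right.mul_pow, e2, inv_pow, mul_inv_cancel]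
      rw [← mul_inv_eq_one, ← orderOf_eq_one_iff]
      exact Nat.eq_one_of_dvd_coprimes hcop (orderOf_dvd_of_pow_eq_one h1) (orderOf_dvd_of_pow_eq_one h2)
  rw [← Nat.card_congr (Equiv.ofBijective f hf), Nat.card_sigma]
  haveI : Finite (ConjClasses G) := Quotient.finite _
  haveI := Fintype.ofFinite (ConjClasses G)
  rw [← Finset.sum_fiberwise Finset.univ (fun y : {y : G // orderOf y = m} => ConjClasses.mk (y : G))]
  refine Finset.dvd_sum fun C _ => ?_
  rcases (Finset.univ.filter fun z : {z : G // orderOf z = m} => ConjClasses.mk (z : G) = C).eq_empty_or_nonempty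
    with h0 | ⟨⟨y, hy⟩, hyC⟩
  · rw [h0, Finset.sum_empty]; exact dvd_zero _
  obtain rfl : ConjClasses.mk y = C := (Finset.mem_filter.1 hyC).2
  rw [Finset.sum_congr rfl (g := fun _ => Nat.card {x : Subgroup.centralizer ({y} : Set G) // orderOf x = p ^ s}) ?_,
    Finset.sum_const, smul_eq_mul]
  swap
  · intro z hz
    obtain ⟨c, hc⟩ := isConj_iff.1 (ConjClasses.mk_eq_mk_iff_isConj.1 (Finset.mem_filter.1 hz).2.symm)
    have hcd : (Subgroup.centralizer ({y} : Set G)).map (MulAut.conj c).toMonoidHom =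
        Subgroup.centralizer ({(z : G)} : Set G) := by
      rw [← hc]
      ext w
      rw [Subgroup.mem_map_equiv, MulAut.conj_symm_apply, Subgroup.mem_centralizer_singleton_iff,
        Subgroup.mem_centralizer_singleton_iff]
      constructor
      · intro h
        calc w * (c * y * c⁻¹) = c * (c⁻¹ * w * c * y) * c⁻¹ := by group
          _ = c * (y * (c⁻¹ * w * c)) * c⁻¹ := by rw [h]
          _ = c * y * c⁻¹ * w := by group
      · intro h
        calc c⁻¹ * w * c * y = c⁻¹ * (w * (c * y * c⁻¹)) * c := by group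
          _ = c⁻¹ * (c * y * c⁻¹ * w) * c := by rw [h]
          _ = y * (c⁻¹ * w * c) := by group
    let e := (((MulAut.conj c).subgroupMap (Subgroup.centralizer ({y} : Set G))).trans (MulEquiv.subgroupCongr hcd))
    exact (Nat.card_congr (e.toEquiv.subtypeEquiv fun a => by
      show orderOf a = _ ↔ orderOf (e a) = _
      rw [MulEquiv.orderOf_eq])).symm
  have hcls : (Finset.univ.filter fun z : {z : G // orderOf z = m} => ConjClasses.mk (z : G) = ConjClasses.mk y).card =
      (Subgroup.centralizer ({y} : Set G)).index := by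
    rw [← Cfsg.Lib.Char.card_classFinset]
    refine Finset.card_bij (fun z _ => (z : G)) (fun z hz => Cfsg.Lib.Char.mem_classFinset.2
      (ConjClasses.mk_eq_mk_iff_isConj.1 (Finset.mem_filter.1 hz).2).symm) (fun a _ b _ h => Subtype.ext h) ?_
    intro w hw
    have hw' := Cfsg.Lib.Char.mem_classFinset.1 hw
    obtain ⟨c, hc⟩ := isConj_iff.1 hw'
    exact ⟨⟨w, by rw [← hc, show c * y * c⁻¹ = (MulAut.conj c).toMonoidHom y from rfl,
      orderOf_injective _ (MulAut.conj c).injective, hy]⟩,
      Finset.mem_filter.2 ⟨Finset.mem_univ _, ConjClasses.mk_eq_mk_iff_isConj.2 hw'.symm⟩, rfl⟩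
  rw [hcls]
  obtain ⟨T⟩ : Nonempty (Sylow p (Subgroup.centralizer ({y} : Set G))) := inferInstance
  by_cases hT : IsCyclic (T : Subgroup (Subgroup.centralizer ({y} : Set G)))
  · have hidx : p ∣ (Subgroup.centralizer ({y} : Set G)).index := by
      by_contra hnd
      apply hP
      have h1 : Nat.card (T : Subgroup (Subgroup.centralizer ({y} : Set G))) = Nat.card (P : Subgroup G) := by
        rw [T.card_eq_multiplicity, P.card_eq_multiplicity, ← Subgroup.card_mul_index (Subgroup.centralizer ({y} : Set G)),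
          Nat.factorization_mul Nat.card_pos.ne' Subgroup.index_ne_zero_of_finite, Finsupp.add_apply,
          Nat.factorization_eq_zero_of_not_dvd hnd, add_zero]
      let S := Sylow.ofCard ((T : Subgroup (Subgroup.centralizer ({y} : Set G))).map (Subgroup.centralizer ({y} : Set G)).subtype)
        (by rw [Subgroup.card_map_of_injective (Subgroup.subtype_injective _), h1]; exact P.card_eq_multiplicity)
      exact (P.equiv S).isCyclic.2
        (((T : Subgroup (Subgroup.centralizer ({y} : Set G))).equivMapOfInjective _ (Subgroup.subtype_injective _)).isCyclic.1 hT)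
    have hphi : p ^ (s - 1) ∣ Nat.card {x : Subgroup.centralizer ({y} : Set G) // orderOf x = p ^ s} := by
      rw [card_orderOf_eq, Nat.totient_prime_pow hp (by omega), mul_assoc]
      exact dvd_mul_right _ _
    refine dvd_trans (dvd_of_eq ?_) (mul_dvd_mul hidx hphi)
    rw [← pow_succ', Nat.sub_add_cancel (by omega)]
  · exact Dvd.dvd.mul_left (group_case hodd T hT hs) _

end Cfsg.Agent.S4003
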