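import Cfsg.Statements.S4004
import Cfsg.Agent.Lib.Counting.ThreeValues
import Cfsg.Agent.S0144
import Cfsg.Agent.Lib.Solv.FixedPointFree
import Cfsg.Agent.Lib.Core.PSolvable
-- import your own Cfsg.Agent.* helpers here

set_option autoImplicit false
open Cfsg

namespace Cfsg.Agent.S4004

open Cfsg.Lib.Counting
open scoped Pointwise IsMulCommutative

universe u

variable {G : Type u} [Group G] [Finite G]

theorem exists_commuting_of_not_dvd {p m : ℕ} [Fact p.Prime] {P : Subgroup G} (hP : IsPGroup p P)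
    (h : ¬ p ∣ orderCount G m) : ∃ g : G, orderOf g = m ∧ ∀ x ∈ P, Commute x g := by
  letI : MulAction P {g : G // orderOf g = m} :=
    { smul := fun x g => ⟨MulAut.conj (x : G) g.1, by rw [MulEquiv.orderOf_eq]; exact g.2⟩
      one_smul := fun g => Subtype.ext (show MulAut.conj ((1 : P) : G) g.1 = g.1 by simp)
      mul_smul := fun x y g => Subtype.ext (show MulAut.conj ((x * y : P) : G) g.1 = _ by
        rw [Subgroup.coe_mul, map_mul]; rfl) }
  obtain ⟨g, hg⟩ := hP.nonempty_fixed_point_of_prime_not_dvd_card _ h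
  exact ⟨g.1, g.2, fun x hx => mul_inv_eq_iff_eq_mul.1 (congrArg Subtype.val (hg ⟨x, hx⟩))⟩

theorem mixed_ne {p q : ℕ} (hp : p.Prime) (hq : q.Prime) (hpq : p ≠ q) (hq2 : q ≠ 2) (hpd : p ∣ Nat.card G) :
    orderCount G (p * q) ≠ orderCount G p := fun he => by
  haveI := Fact.mk hp
  haveI := Fact.mk hq
  have hnd : ¬ p ∣ orderCount G (p * q) := fun h => by
    have h' := cast_prime (G := G) hp hpd
    rw [← he, (ZMod.natCast_eq_zero_iff _ _).2 h] at h'
    exact one_ne_zero (α := ZMod p) (by linear_combination h')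
  obtain ⟨P⟩ : Nonempty (Sylow p G) := inferInstance
  obtain ⟨g, hg, hgP⟩ := exists_commuting_of_not_dvd P.isPGroup' hnd
  have hy : orderOf (g ^ p) = q := by
    rw [orderOf_pow' g hp.ne_zero, hg, Nat.gcd_eq_right (dvd_mul_right p q), Nat.mul_div_cancel_left _ hp.pos]
  have key : ∀ x : G, orderOf x = p → ∃ y : G, orderOf y = q ∧ Commute x y := fun x hx => by
    obtain ⟨Q, hQ⟩ := (IsPGroup.of_card (p := p) (G := Subgroup.zpowers x) (n := 1)
      (by rw [Nat.card_zpowers, hx, pow_one])).exists_le_sylow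
    obtain ⟨c, rfl⟩ := MulAction.exists_smul_eq G P Q
    have hxm : x ∈ ((c • P : Sylow p G) : Subgroup G) := hQ (Subgroup.mem_zpowers x)
    rw [Sylow.smul_def, Sylow.pointwise_smul_def, Subgroup.pointwise_smul_def] at hxm
    obtain ⟨x0, hx0, rfl⟩ := hxm
    exact ⟨MulAut.conj c (g ^ p), by rw [MulEquiv.orderOf_eq, hy],
      ((hgP x0 hx0).pow_right p).map (MulAut.conj c)⟩
  choose y hy hcom using key
  have hle : orderCount G p * 2 ≤ orderCount G (p * q) := by
    have hord : ∀ (x : G) (hx : orderOf x = p) (i : Fin 2), orderOf (y x hx ^ (i.1 + 1)) = q := fun x hx i =>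
      (Nat.Coprime.orderOf_pow (by
        rw [hy]; exact hq.coprime_iff_not_dvd.2 fun h => by
          have := Nat.le_of_dvd (by omega) h; have := hq.two_le; have := i.2; omega)).trans (hy x hx)
    let f : {x : G // orderOf x = p} × Fin 2 → {g : G // orderOf g = p * q} := fun z =>
      ⟨z.1.1 * y z.1.1 z.1.2 ^ (z.2.1 + 1), by
        rw [((hcom z.1.1 z.1.2).pow_right _).orderOf_mul_eq_mul_orderOf_of_coprime
          (by rw [z.1.2, hord]; exact (Nat.coprime_primes hp hq).2 hpq), z.1.2, hord]⟩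
    have hf : Function.Injective f := by
      rintro ⟨⟨x, hx⟩, i⟩ ⟨⟨x', hx'⟩, j⟩ h
      have h' : x * y x hx ^ (i.1 + 1) = x' * y x' hx' ^ (j.1 + 1) := congrArg Subtype.val h
      have hpow : x ^ q = x' ^ q := by
        have := congrArg (· ^ q) h'
        simp only [((hcom x hx).pow_right _).mul_pow, ((hcom x' hx').pow_right _).mul_pow] at this
        rwa [← pow_mul, ← pow_mul, mul_comm (i.1 + 1), mul_comm (j.1 + 1), pow_mul, pow_mul,
          show y x hx ^ q = 1 from hy x hx ▸ pow_orderOf_eq_one _,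
          show y x' hx' ^ q = 1 from hy x' hx' ▸ pow_orderOf_eq_one _, one_pow, one_pow, mul_one, mul_one] at this
      obtain rfl : x = x' := by
        obtain ⟨k', hk'⟩ := exists_pow_eq_self_of_coprime (x := x') (n := q) (by
          rw [hx']; exact (Nat.coprime_primes hq hp).2 hpq.symm)
        have hz : x' ∈ Subgroup.zpowers x := by
          rw [← hk', ← hpow]; exact pow_mem (pow_mem (Subgroup.mem_zpowers x) _) _
        obtain ⟨e, he⟩ := Subgroup.mem_zpowers_iff.1 hz
        have hc : Commute x⁻¹ x' := he ▸ ((Commute.refl x).inv_left).zpow_right e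
        have h1 : (x⁻¹ * x') ^ q = 1 := by rw [hc.mul_pow, inv_pow, hpow, inv_mul_cancel]
        have h2 : (x⁻¹ * x') ^ p = 1 := by
          rw [hc.mul_pow, inv_pow, show x ^ p = 1 from hx ▸ pow_orderOf_eq_one x,
            show x' ^ p = 1 from hx' ▸ pow_orderOf_eq_one x', inv_one, one_mul]
        have h3 := pow_gcd_eq_one.2 ⟨h1, h2⟩
        rw [(Nat.coprime_primes hq hp).2 hpq.symm, pow_one] at h3
        exact inv_mul_eq_one.1 h3
      have h2 := mul_left_cancel h'
      have hi := i.2
      have hj := j.2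
      have := pow_injOn_Iio_orderOf (x := y x hx) (show i.1 + 1 < orderOf (y x hx) by
          rw [hy]; have := hq.two_le; omega) (show j.1 + 1 < orderOf (y x hx) by
          rw [hy]; have := hq.two_le; omega) h2
      exact Prod.ext rfl (Fin.ext (Nat.succ_injective this))
    have := Nat.card_le_card_of_injective f hf
    rwa [Nat.card_prod, Nat.card_fin] at this
  have := orderCount_prime_ne_zero hp hpd
  omega

/-- With no element of order `p * q`, the second power of `p` does not occur. -/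
theorem orderCount_sq_eq_zero {p q : ℕ} (hp : p.Prime) (hq : q.Prime) (hpq : p ≠ q) (hqd : q ∣ Nat.card G)
    (hmix : orderCount G (p * q) = 0) (hpd : p ∣ Nat.card G)
    (hval : orderCount G (p ^ 2) = 0 ∨ orderCount G (p ^ 2) = orderCount G p ∨
      orderCount G (p ^ 2) = orderCount G q) : orderCount G (p ^ 2) = 0 := by
  haveI := Fact.mk hp
  haveI := Fact.mk hq
  rcases hval with e | e | e
  · exact e
  · by_contra hne
    obtain ⟨g, hg⟩ := orderCount_ne_zero_iff.1 hne
    have h := cast_sum_eq_zero (G := G) (hg ▸ orderOf_dvd_natCard g) (dvd_pow_self p two_ne_zero)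
    rw [Nat.sum_divisors_prime_pow hp, Finset.sum_range_succ, Finset.sum_range_succ, Finset.sum_range_one,
      pow_zero, pow_one, orderCount_one, e] at h
    push_cast at h
    rw [cast_prime hp hpd] at h
    exact one_ne_zero (α := ZMod p) (by linear_combination -h)
  · by_contra hne
    obtain ⟨z, hz⟩ := exists_prime_orderOf_dvd_card' q hqd
    have hnd : ¬ q ∣ orderCount G (p ^ 2) := fun h => by
      have h' := cast_prime (G := G) hq hqd
      rw [← e, (ZMod.natCast_eq_zero_iff _ _).2 h] at h'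
      exact one_ne_zero (α := ZMod q) (by linear_combination h')
    obtain ⟨g, hg, hgc⟩ := exists_commuting_of_not_dvd (p := q) (P := Subgroup.zpowers z)
      (IsPGroup.of_card (n := 1) (by rw [Nat.card_zpowers, hz, pow_one])) hnd
    have ho : orderOf (z * g) = q * p ^ 2 := by
      rw [(hgc z (Subgroup.mem_zpowers z)).orderOf_mul_eq_mul_orderOf_of_coprime
        (by rw [hz, hg]; exact ((Nat.coprime_primes hq hp).2 hpq.symm).pow_right 2), hz, hg]
    exact orderCount_ne_zero_of_dvd (orderCount_ne_zero_iff.2 ⟨_, ho⟩) (show p * q ∣ q * p ^ 2 from ⟨p, by ring⟩)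
      (Nat.mul_ne_zero hp.ne_zero hq.ne_zero) hmix

/-- A Frobenius configuration of order `p * q` on an abelian group has elements of square order. -/
theorem eq_one_of_norms {H : Type u} [Group H] {V : Type u} [CommGroup V] (φ : H →* MulAut V) {g y : H} {p q : ℕ}
    (hp : 0 < p) (hy : y ^ q = 1) (hfix : ∀ c ∈ Subgroup.zpowers y, c ≠ 1 → ∀ v : V, φ c v = v → v = 1)
    (hnorm : ∀ i, 0 < i → i < p → ∃ m : ℕ, (g ^ i)⁻¹ * y * g ^ i = y ^ m ∧ y ^ m ≠ y)
    (hexp : ∀ (j : ℕ) (v : V), ∏ i ∈ Finset.range p, φ (y ^ j * g ^ i * (y ^ j)⁻¹) v = 1) (v : V) :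
    v ^ q = 1 := by
  have hall : ∏ j ∈ Finset.range q, ∏ i ∈ Finset.range p, φ (y ^ j * g ^ i * (y ^ j)⁻¹) v = 1 :=
    Finset.prod_eq_one fun j _ => hexp j v
  rw [Finset.prod_comm, Finset.prod_eq_single 0] at hall
  · simpa using hall
  · intro i hi hi0
    obtain ⟨m, hm, hmne⟩ := hnorm i (Nat.pos_of_ne_zero hi0) (Finset.mem_range.1 hi)
    set c := y ^ m * y⁻¹ with hc
    have hcmem : c ∈ Subgroup.zpowers y :=
      mul_mem (pow_mem (Subgroup.mem_zpowers y) m) (inv_mem (Subgroup.mem_zpowers y))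
    have hc1 : c ≠ 1 := fun h => hmne (mul_inv_eq_one.1 h)
    have hcom : Commute (y ^ m) y⁻¹ := ((Commute.refl y).pow_left m).inv_right
    have hcq : c ^ q = 1 := by
      rw [hc, hcom.mul_pow, ← pow_mul, mul_comm, pow_mul, hy, inv_pow, hy, inv_one, one_pow, one_mul]
    have h1 : ∀ j, φ (y ^ j * g ^ i * (y ^ j)⁻¹) v = φ (g ^ i) (φ (c ^ j) v) := fun j => by
      rw [← MulAut.mul_apply, ← map_mul]
      congr 2
      have h2 : (g ^ i)⁻¹ * y ^ j * g ^ i = (y ^ m) ^ j := by
        rw [← hm]
        conv_rhs => rw [show (g ^ i)⁻¹ * y * g ^ i = (g ^ i)⁻¹ * y * ((g ^ i)⁻¹)⁻¹ by rw [inv_inv], conj_pow]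
        rw [inv_inv]
      rw [hc, hcom.mul_pow, ← h2, inv_pow]
      group
    simp only [h1]
    rw [← map_prod]
    have : ∏ j ∈ Finset.range q, φ (c ^ j) v = 1 := by
      refine hfix c hcmem hc1 _ ?_
      rw [map_prod]
      have h : ∀ j, φ c (φ (c ^ j) v) = φ (c ^ (j + 1)) v := fun j => by
        rw [← MulAut.mul_apply, ← map_mul, ← pow_succ']
      simp only [h]
      have h1 := Finset.prod_range_succ' (fun j => φ (c ^ j) v) q
      have h2 := Finset.prod_range_succ (fun j => φ (c ^ j) v) q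
      rw [h1, hcq, pow_zero, map_one, MulAut.one_apply] at h2
      exact mul_right_cancel h2
    rw [this, map_one]
  · simp [hp]

theorem prod_conj_eq {V : Subgroup G} [V.Normal] [IsMulCommutative V] (x : G) (v : V) (n : ℕ) :
    ((v : G) * x) ^ n = ((∏ i ∈ Finset.range n, MulAut.conjNormal (x ^ i) v : V) : G) * x ^ n := by
  induction n with
  | zero => simp
  | succ n ih =>
    rw [Finset.prod_range_succ, Subgroup.coe_mul, MulAut.conjNormal_apply, pow_succ, ih, pow_succ x n]
    group

/-- The structure of a solvable group all of whose element orders are `1`, `r`, `s`. -/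
theorem frobenius_of_orders {r s : ℕ} (hr : r.Prime) (hs : s.Prime) (hrs : r ≠ s)
    (hord : ∀ g : G, orderOf g = 1 ∨ orderOf g = r ∨ orderOf g = s) (hsd : s ∣ Nat.card G)
    (N : Subgroup G) [N.Normal] (hN : IsPGroup r N) (hN1 : N ≠ ⊥) [IsMulCommutative N]
    (hsol : Group.IsSolvable G) : ∃ C : Subgroup G, Cfsg.IsFrobeniusComplement C ∧ (Nat.card ↥C).Prime := by
  classical
  haveI := Fact.mk hr
  haveI := Fact.mk hs
  have hmix : ∀ x y : G, Commute x y → orderOf x = r → orderOf y = s → False := fun x y hc hx hy => by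
    have h := hord (x * y)
    rw [hc.orderOf_mul_eq_mul_orderOf_of_coprime (by rw [hx, hy]; exact (Nat.coprime_primes hr hs).2 hrs),
      hx, hy] at h
    have h1 : r < r * s := lt_mul_of_one_lt_right hr.pos hs.one_lt
    have h2 : s < r * s := lt_mul_of_one_lt_left hs.pos hr.one_lt
    have := hr.two_le
    omega
  have hordP : ∀ (t : ℕ) (H : Subgroup G), t.Prime → IsPGroup t H → ∀ x ∈ H, x ≠ 1 → orderOf x = t := by
    intro t H ht hH x hx hx1
    haveI := Fact.mk ht
    obtain ⟨k, hk⟩ := hH ⟨x, hx⟩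
    obtain ⟨j, -, hj⟩ := (Nat.dvd_prime_pow ht).1
      (orderOf_dvd_of_pow_eq_one (x := x) (congrArg Subtype.val hk))
    have h1 : orderOf x ≠ 1 := fun h => hx1 (orderOf_eq_one_iff.1 h)
    rcases hord x with e | e | e
    · exact absurd e h1
    all_goals
      refine e.trans ?_
      rw [e] at hj
      refine (Nat.prime_dvd_prime_iff_eq (by assumption) ht).1 ?_
      exact (by assumption : Nat.Prime _).dvd_of_dvd_pow (dvd_of_eq hj)
  obtain ⟨W, hNW, hWmax⟩ := (Set.toFinite {H : Subgroup G | H.Normal ∧ IsPGroup r H}).exists_le_maximal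
    (show N ∈ _ from ⟨‹_›, hN⟩)
  obtain ⟨hWn, hWp⟩ := hWmax.prop
  haveI := hWn
  have hfpf : ∀ (H : Subgroup G), IsPGroup r H → ∀ y : G, orderOf y = s → H ⊓ Subgroup.centralizer {y} = ⊥ := by
    intro H hH y hy
    refine eq_bot_iff.2 fun x ⟨hx, hxc⟩ => Subgroup.mem_bot.2 ?_
    by_contra hx1
    exact hmix x y (Subgroup.mem_centralizer_singleton_iff.1 hxc) (hordP r H hr hH x hx hx1) hy
  -- a normal extension by an `s`-group
  have hWtop : W ≠ ⊤ := fun h => by
    obtain ⟨y, hy⟩ := exists_prime_orderOf_dvd_card' s hsd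
    have := hordP r W hr hWp y (h ▸ Subgroup.mem_top y) (fun e => hs.ne_one (by rw [← hy, e, orderOf_one]))
    exact hrs (this.symm.trans hy)
  haveI : Nontrivial (G ⧸ W) := QuotientGroup.nontrivial_iff.2 hWtop
  haveI : Group.IsSolvable (G ⧸ W) := Group.isSolvable_of_surjective (QuotientGroup.mk'_surjective W)
  obtain ⟨M, hM⟩ := Cfsg.Lib.Core.exists_isMinNormal_univ (G := G ⧸ W)
  obtain ⟨hMab, t, ht, hMt, -⟩ := Cfsg.Lib.Core.minimal_solvable_elementary hM inferInstance
  haveI := hMab
  haveI := Fact.mk ht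
  haveI := hM.1
  set K := M.comap (QuotientGroup.mk' W) with hK
  haveI : K.Normal := Subgroup.Normal.comap inferInstance _
  have hWK : W ≤ K := fun x hx => by
    rw [hK, Subgroup.mem_comap, show (QuotientGroup.mk' W) x = 1 from (QuotientGroup.eq_one_iff x).2 hx]
    exact M.one_mem
  have hKne : ∃ x ∈ K, x ∉ W := by
    obtain ⟨m, hm, hm1⟩ := M.bot_or_exists_ne_one.resolve_left hM.2.1
    obtain ⟨x, rfl⟩ := QuotientGroup.mk'_surjective W m
    exact ⟨x, hm, fun h => hm1 ((QuotientGroup.eq_one_iff x).2 h)⟩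
  have hMpow : ∀ x ∈ K, x ^ t ∈ W := fun x hx => by
    exact (QuotientGroup.eq_one_iff _).1 ((map_pow (QuotientGroup.mk' W) x t).trans (hMt _ hx))
  have hts : t = s := by
    obtain ⟨x, hx, hxW⟩ := hKne
    by_cases htr : t = r
    · exfalso
      subst htr
      refine hxW (hWmax.le_of_ge ⟨inferInstance, fun z => ?_⟩ hWK hx)
      obtain ⟨k, hk⟩ := hWp ⟨_, hMpow z z.2⟩
      exact ⟨k + 1, Subtype.ext (by simpa [pow_succ', pow_mul, Subtype.ext_iff] using hk)⟩
    · rcases hord x with e | e | e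
      · exact absurd (orderOf_eq_one_iff.1 e ▸ W.one_mem) hxW
      · exfalso
        obtain ⟨k, hk⟩ := exists_pow_eq_self_of_coprime (x := x) (n := t)
          (by rw [e]; exact (Nat.coprime_primes ht hr).2 htr)
        exact hxW (hk ▸ pow_mem (hMpow x hx) k)
      · by_contra hne
        obtain ⟨k, hk⟩ := exists_pow_eq_self_of_coprime (x := x) (n := t)
          (by rw [e]; exact (Nat.coprime_primes ht hs).2 hne)
        exact hxW (hk ▸ pow_mem (hMpow x hx) k)
  subst hts
  obtain ⟨y, hyK, hy⟩ : ∃ y ∈ K, orderOf y = t := by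
    obtain ⟨x, hx, hxW⟩ := hKne
    rcases hord x with e | e | e
    · exact absurd (orderOf_eq_one_iff.1 e ▸ W.one_mem) hxW
    · exfalso
      obtain ⟨k, hk⟩ := exists_pow_eq_self_of_coprime (x := x) (n := t)
        (by rw [e]; exact (Nat.coprime_primes hs hr).2 hrs.symm)
      exact hxW (hk ▸ pow_mem (hMpow x hx) k)
    · exact ⟨x, hx, e⟩
  -- Sylow subgroups for the second prime have prime order
  have hsq : ∀ H : Subgroup G, IsPGroup t H → Nat.card H ≤ t := by
    intro H hH
    by_contra hlt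
    obtain ⟨k, hk⟩ := IsPGroup.iff_card.1 hH
    have hk2 : 2 ≤ k := by
      by_contra hk2
      have := Nat.pow_le_pow_right hs.pos (show k ≤ 1 by omega)
      rw [pow_one] at this
      omega
    obtain ⟨E, hE⟩ := Sylow.exists_subgroup_card_pow_prime t (G := H) (n := 2)
      (hk ▸ pow_dvd_pow t hk2)
    set E' := E.map H.subtype with hE'
    have hEc : Nat.card E' = t ^ 2 := by
      rw [hE', Nat.card_congr (E.equivMapOfInjective H.subtype H.subtype_injective).toEquiv.symm, hE]
    haveI : IsMulCommutative E' := ⟨⟨IsPGroup.commutative_of_card_eq_prime_sq hEc⟩⟩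
    have hEp : IsPGroup t E' := IsPGroup.of_card hEc
    have hcyc := Cfsg.Lib.Solv.isCyclic_of_fpf_abelian (B := E') (V := N) hN1
      (by rw [Subgroup.normalizer_eq_top]; exact le_top)
      (fun b hb hb1 => hfpf N hN b (hordP t E' hs hEp b hb hb1))
    obtain ⟨c, hc⟩ := hcyc.exists_ofOrder_eq_natCard
    rw [hEc, ← Subgroup.orderOf_coe] at hc
    rcases hord c with e | e | e <;> rw [e] at hc
    · exact absurd hc.symm (Nat.one_lt_pow two_ne_zero hs.one_lt).ne'
    · exact hrs ((Nat.prime_dvd_prime_iff_eq hs hr).1 (hc ▸ dvd_pow_self t two_ne_zero)).symm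
    · have := Nat.lt_pow_self (n := 1) hs.one_lt
      nlinarith [hs.two_le]
  set S := Subgroup.zpowers y with hS
  have hScard : Nat.card S = t := by rw [hS, Nat.card_zpowers, hy]
  have hSp : IsPGroup t S := IsPGroup.of_card (n := 1) (by rw [hScard, pow_one])
  have hSK : S ≤ K := Subgroup.zpowers_le.2 hyK
  have hSmax : ∀ H : Subgroup G, IsPGroup t H → S ≤ H → H = S := fun H hH hle =>
    (Subgroup.eq_of_le_of_card_ge hle (hScard.symm ▸ hsq H hH)).symm
  -- Frattini
  have hnorm : Subgroup.normalizer (S : Set G) ⊔ K = ⊤ := by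
    obtain ⟨P, hP⟩ := (hSp.comap_subtype (K := K)).exists_le_sylow
    have hmap : (P : Subgroup K).map K.subtype = S := by
      refine hSmax _ (P.isPGroup'.map _) fun x hx => ?_
      exact Subgroup.mem_map.2 ⟨⟨x, hSK hx⟩, hP hx, rfl⟩
    have := P.normalizer_sup_eq_top
    rwa [hmap] at this
  have hKeq : K ≤ W ⊔ S := fun x hx => by
    rcases hord x with e | e | e
    · rw [orderOf_eq_one_iff.1 e]; exact one_mem _
    · obtain ⟨k, hk⟩ := exists_pow_eq_self_of_coprime (x := x) (n := t)
        (by rw [e]; exact (Nat.coprime_primes hs hr).2 hrs.symm)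
      exact Subgroup.mem_sup_left (hk ▸ pow_mem (hMpow x hx) k)
    · obtain ⟨P, hP⟩ := hSp.exists_le_sylow
      obtain ⟨Q, hQ⟩ := (IsPGroup.of_card (p := t) (G := Subgroup.zpowers x) (n := 1)
        (by rw [Nat.card_zpowers, e, pow_one])).exists_le_sylow
      obtain ⟨c, hc⟩ := MulAction.exists_smul_eq G P Q
      have hxm : x ∈ ((c • P : Sylow t G) : Subgroup G) := hc ▸ hQ (Subgroup.mem_zpowers x)
      rw [Sylow.smul_def, Sylow.pointwise_smul_def, Subgroup.pointwise_smul_def, hSmax _ P.isPGroup' hP] at hxm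
      obtain ⟨s₀, hs₀, rfl⟩ := hxm
      obtain ⟨n, hn, w, hw, hnw⟩ : ∃ n ∈ Subgroup.normalizer (S : Set G), ∃ w ∈ K, n * w = c := by
        have : c ∈ Subgroup.normalizer (S : Set G) ⊔ K := hnorm ▸ Subgroup.mem_top c
        exact Subgroup.mem_sup_of_normal_right.1 this
      have hcK : c * s₀ * c⁻¹ ∈ W ⊔ S := by
        have h1 : n * (w * s₀ * w⁻¹) * n⁻¹ = c * s₀ * c⁻¹ := by rw [← hnw]; group
        rw [← h1]
        have h2 : w * s₀ * w⁻¹ * s₀⁻¹ ∈ W := by
          have hcomm : Commute (QuotientGroup.mk' W w) (QuotientGroup.mk' W s₀) := by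
            have := mul_comm (⟨_, hw⟩ : M) ⟨_, hSK hs₀⟩
            exact congrArg Subtype.val this
          refine (QuotientGroup.eq_one_iff _).1 ?_
          change QuotientGroup.mk' W (w * s₀ * w⁻¹ * s₀⁻¹) = 1
          rw [map_mul, map_mul, map_mul, hcomm.eq, map_inv, map_inv]
          group
        have h3 : n * (w * s₀ * w⁻¹) * n⁻¹ = n * (w * s₀ * w⁻¹ * s₀⁻¹) * n⁻¹ * (n * s₀ * n⁻¹) := by group
        rw [h3]
        exact mul_mem (Subgroup.mem_sup_left (hWn.conj_mem _ h2 n))
          (Subgroup.mem_sup_right ((Subgroup.mem_normalizer_iff.1 hn _).1 hs₀))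
      exact hcK
  by_cases hg : ∃ g ∈ Subgroup.normalizer (S : Set G), orderOf g = r
  · exfalso
    obtain ⟨g, hgN, hgr⟩ := hg
    obtain ⟨v, hv, hv1⟩ := N.bot_or_exists_ne_one.resolve_left hN1
    have hcon : ∀ w : N, w ^ t = 1 := by
      refine eq_one_of_norms (MulAut.conjNormal (H := N)) (g := g) (y := y) (p := r) hr.pos
        (hy ▸ pow_orderOf_eq_one y) ?_ ?_ ?_
      · intro c hc hc1 w hw
        have hw' : c * w * c⁻¹ = (w : G) := congrArg Subtype.val hw
        have hmem : (w : G) ∈ N ⊓ Subgroup.centralizer {c} :=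
          ⟨w.2, Subgroup.mem_centralizer_singleton_iff.2 (mul_inv_eq_iff_eq_mul.1 hw').symm⟩
        rw [hfpf N hN c (hordP t S hs hSp c hc hc1), Subgroup.mem_bot] at hmem
        exact Subtype.ext hmem
      · intro i hi0 hir
        have hgi : g ^ i ∈ Subgroup.normalizer (S : Set G) := pow_mem hgN i
        have hmem : (g ^ i)⁻¹ * y * g ^ i ∈ S := by
          have := (Subgroup.mem_normalizer_iff.1 (inv_mem hgi) y).1 (Subgroup.mem_zpowers y)
          simpa using this
        obtain ⟨m, hm⟩ := (mem_powers_iff_mem_zpowers.2 hmem : (g ^ i)⁻¹ * y * g ^ i ∈ Submonoid.powers y)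
        refine ⟨m, hm.symm, fun h => hmix (g ^ i) y ?_ ?_ hy⟩
        · have := hm.symm.trans h
          rw [mul_assoc, inv_mul_eq_iff_eq_mul] at this
          exact this.symm
        · rw [Nat.Coprime.orderOf_pow (by
            rw [hgr]; exact hr.coprime_iff_not_dvd.2 fun h => by
              have := Nat.le_of_dvd hi0 h; omega), hgr]
      · intro j w
        set x := y ^ j * g * (y ^ j)⁻¹ with hx
        have hxi : ∀ i : ℕ, x ^ i = y ^ j * g ^ i * (y ^ j)⁻¹ := fun i => conj_pow
        simp only [← hxi]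
        have hxr : x ^ r = 1 := by
          rw [hxi, ← hgr, pow_orderOf_eq_one, mul_one, mul_inv_cancel]
        have hxo : IsPGroup r (Subgroup.zpowers x) := by
          refine fun z => ⟨1, Subtype.ext ?_⟩
          obtain ⟨e, he⟩ := Subgroup.mem_zpowers_iff.1 z.2
          simp only [pow_one, SubgroupClass.coe_pow, OneMemClass.coe_one]
          rw [← he, ← zpow_natCast (x ^ e), ← zpow_mul, mul_comm, zpow_mul, zpow_natCast, hxr, one_zpow]
        have hsup : IsPGroup r (N ⊔ Subgroup.zpowers x : Subgroup G) := hN.to_sup_of_normal_left hxo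
        have hwx : (w : G) * x ∈ (N ⊔ Subgroup.zpowers x : Subgroup G) :=
          mul_mem (Subgroup.mem_sup_left w.2) (Subgroup.mem_sup_right (Subgroup.mem_zpowers x))
        have hpow : ((w : G) * x) ^ r = 1 := by
          by_cases h1 : (w : G) * x = 1
          · rw [h1, one_pow]
          · conv_lhs => rw [← hordP r _ hr hsup _ hwx h1]
            exact pow_orderOf_eq_one _
        rw [prod_conj_eq, hxr, mul_one] at hpow
        exact Subtype.ext hpow
    refine hv1 (congrArg Subtype.val (show (⟨v, hv⟩ : N) = 1 from ?_))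
    have hd : orderOf v ∣ t := orderOf_dvd_of_pow_eq_one (congrArg Subtype.val (hcon ⟨v, hv⟩))
    rw [hordP r N hr hN v hv hv1] at hd
    exact absurd ((Nat.prime_dvd_prime_iff_eq hr hs).1 hd) hrs
  · push Not at hg
    have htop : W ⊔ S = ⊤ := by
      refine top_le_iff.1 (hnorm ▸ sup_le (fun x hx => ?_) hKeq)
      rcases hord x with e | e | e
      · rw [orderOf_eq_one_iff.1 e]; exact one_mem _
      · exact absurd e (hg x hx)
      · refine Subgroup.mem_sup_right ?_
        have hp' : IsPGroup t (S ⊔ Subgroup.zpowers x : Subgroup G) :=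
          hSp.to_sup_of_normal_left' (IsPGroup.of_card (n := 1) (by rw [Nat.card_zpowers, e, pow_one]))
            ((Subgroup.zpowers_le.2 hx))
        exact hSmax _ hp' le_sup_left ▸ Subgroup.mem_sup_right (Subgroup.mem_zpowers x)
    have hdisj : Disjoint W S := IsPGroup.disjoint_of_ne r t hrs W S hWp hSp
    have hc : W.IsComplement' S := Subgroup.isComplement'_of_disjoint_and_mul_eq_univ hdisj
      (by rw [← Subgroup.normal_mul, htop, Subgroup.coe_top])
    have hWne : W ≠ ⊥ := fun h => hN1 (eq_bot_iff.2 (h ▸ hNW))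
    refine ⟨S, Cfsg.Lib.Solv.isFrobeniusComplement_of_fpf hc hWne ?_ fun h hh h1 =>
      hfpf W hWp h (hordP t S hs hSp h hh h1), hScard ▸ hs⟩
    intro h
    rw [h, Subgroup.card_bot] at hScard
    exact hs.ne_one hScard.symm

/-- Let G be a finite group of odd order in which the numbers of elements of each order that occurs (the numbers #{g : o(g) = m}, m ranging over the element orders of G) take exactly three different values. Then the order of G has at most two prime divisors; and if it has exactly two, then every Sylow subgroup of G for a prime dividing its order has prime exponent, G is a Frobenius group, and some Frobenius complement of G has prime order. -/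
theorem result {G : Type*} [Group G] [Finite G] (hodd : Odd (Nat.card G)) (h : (((fun m : ℕ => Nat.card {g : G // orderOf g = m}) '' Set.range (orderOf : G → ℕ))).ncard = 3) :
    (Nat.card G).primeFactors.card ≤ 2 ∧
      ((Nat.card G).primeFactors.card = 2 →
        (∀ (p : ℕ) [Fact p.Prime] (P : Sylow p G), p ∣ Nat.card G → Monoid.exponent ↥(P : Subgroup G) = p) ∧
        ∃ C : Subgroup G, Cfsg.IsFrobeniusComplement C ∧ (Nat.card ↥C).Prime) := by
  classical
  set V := (fun m : ℕ => Nat.card {g : G // orderOf g = m}) '' Set.range (orderOf : G → ℕ) with hV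
  have h1V : 1 ∈ V := ⟨1, ⟨1, orderOf_one⟩, orderCount_one⟩
  have h2 : (V \ {1}).ncard = 2 := by
    rw [Set.ncard_sdiff_singleton_of_mem h1V, h]
  obtain ⟨a, b, hab, hab2⟩ := Set.ncard_eq_two.1 h2
  have hv : OddValues G a b := fun m hm hlt => by
    by_cases h0 : orderCount G m = 0
    · exact Or.inl h0
    · obtain ⟨g, hg⟩ := orderCount_ne_zero_iff.1 h0
      have : orderCount G m ∈ V \ {1} := ⟨⟨m, ⟨g, hg⟩, rfl⟩, fun h1 => by
        have := even_orderCount (G := G) (show 2 < m by obtain ⟨k, rfl⟩ := hm; omega)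
        rw [Set.mem_singleton_iff] at h1
        omega⟩
      rw [hab2] at this
      exact Or.inr (by simpa using this)
  refine ⟨primeFactors_card_le_two hv hodd, fun h2f => ?_⟩
  obtain ⟨p, q, hpq, hpqf⟩ := Finset.card_eq_two.1 h2f
  have hpm : p ∈ (Nat.card G).primeFactors := by rw [hpqf]; simp
  have hqm : q ∈ (Nat.card G).primeFactors := by rw [hpqf]; simp
  rw [Nat.mem_primeFactors] at hpm hqm
  obtain ⟨hp, hpd, -⟩ := hpm
  obtain ⟨hq, hqd, -⟩ := hqm
  have honly : ∀ r : ℕ, r.Prime → r ∣ Nat.card G → r = p ∨ r = q := fun r hr hd => by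
    have : r ∈ (Nat.card G).primeFactors := Nat.mem_primeFactors.2 ⟨hr, hd, Nat.card_pos.ne'⟩
    rw [hpqf] at this
    simpa using this
  have hne2 : ∀ x : ℕ, x ∣ Nat.card G → x ≠ 2 := fun x hx e =>
    (Nat.not_even_iff_odd.2 hodd) (even_iff_two_dvd.2 (e ▸ hx))
  have hoddd : ∀ m : ℕ, m ∣ Nat.card G → Odd m := fun m hm => hodd.of_dvd_nat hm
  have hsne : orderCount G p ≠ orderCount G q := by
    intro he
    rcases (hv p (hoddd p hpd) hp.one_lt).resolve_left (orderCount_prime_ne_zero hp hpd) with e | e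
    · exact not_all_same hv hodd hp hq hpq hpd hqd fun r hr hd => by
        rcases honly r hr hd with rfl | rfl
        exacts [e, he.symm.trans e]
    · exact not_all_same hv.symm hodd hp hq hpq hpd hqd fun r hr hd => by
        rcases honly r hr hd with rfl | rfl
        exacts [e, he.symm.trans e]
  have hval : ∀ m, Odd m → 1 < m →
      orderCount G m = 0 ∨ orderCount G m = orderCount G p ∨ orderCount G m = orderCount G q := by
    intro m hm hlt
    have e1 := (hv p (hoddd p hpd) hp.one_lt).resolve_left (orderCount_prime_ne_zero hp hpd)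
    have e2 := (hv q (hoddd q hqd) hq.one_lt).resolve_left (orderCount_prime_ne_zero hq hqd)
    rcases hv m hm hlt with e | e | e <;> omega
  obtain ⟨ho, hlt⟩ := odd_mul_primes hp (hne2 p hpd) hq (hne2 q hqd)
  have hmix : orderCount G (p * q) = 0 := by
    rcases hval _ ho hlt with e | e | e
    · exact e
    · exact absurd e (mixed_ne hp hq hpq (hne2 q hqd) hpd)
    · exact absurd (mul_comm p q ▸ e) (mixed_ne hq hp hpq.symm (hne2 p hpd) hqd)
  have hp2 : orderCount G (p ^ 2) = 0 := orderCount_sq_eq_zero hp hq hpq hqd hmix hpd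
    (hval _ (hoddd p hpd).pow (Nat.one_lt_pow two_ne_zero hp.one_lt))
  have hq2 : orderCount G (q ^ 2) = 0 := orderCount_sq_eq_zero hq hp hpq.symm hpd (mul_comm p q ▸ hmix) hqd
    ((hval _ (hoddd q hqd).pow (Nat.one_lt_pow two_ne_zero hq.one_lt)).imp_right Or.symm)
  have hord : ∀ g : G, orderOf g = 1 ∨ orderOf g = p ∨ orderOf g = q := by
    intro g
    have hne : orderCount G (orderOf g) ≠ 0 := orderCount_ne_zero_iff.2 ⟨g, rfl⟩
    by_cases h1 : orderOf g = 1
    · exact Or.inl h1
    have key : ∀ r : ℕ, r.Prime → r ∣ orderOf g → orderCount G (r ^ 2) = 0 →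
        (∀ x : ℕ, x.Prime → x ∣ orderOf g → x = r) → orderOf g = r := by
      intro r hr hrd hr2 hx
      obtain ⟨k, hk⟩ : ∃ k, orderOf g = r ^ k := ⟨_, Nat.eq_prime_pow_of_unique_prime_dvd (orderOf_pos g).ne'
        (fun {x} hxp hxd => hx x hxp hxd)⟩
      rcases Nat.lt_or_ge k 2 with hk2 | hk2
      · interval_cases k
        · exact absurd hk h1
        · rw [hk, pow_one]
      · exact absurd hr2 (orderCount_ne_zero_of_dvd hne (hk ▸ pow_dvd_pow r hk2) (pow_ne_zero _ hr.ne_zero))
    have hnot : ¬ (p ∣ orderOf g ∧ q ∣ orderOf g) := fun ⟨h1, h2⟩ =>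
      orderCount_ne_zero_of_dvd hne (mul_dvd_of_primes hp hq hpq h1 h2) (by omega) hmix
    obtain ⟨r, hr, hrd⟩ := Nat.exists_prime_and_dvd h1
    have honly' : ∀ x : ℕ, x.Prime → x ∣ orderOf g → x = p ∨ x = q := fun x hx hd =>
      honly x hx (hd.trans (orderOf_dvd_natCard g))
    rcases honly' r hr hrd with rfl | rfl
    · exact Or.inr (Or.inl (key r hr hrd hp2 fun x hx hd =>
        (honly' x hx hd).resolve_right fun e => hnot ⟨hrd, e ▸ hd⟩))
    · exact Or.inr (Or.inr (key r hr hrd hq2 fun x hx hd =>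
        (honly' x hx hd).resolve_left fun e => hnot ⟨e ▸ hd, hrd⟩))
  constructor
  · intro r hr P hrd
    haveI : Nontrivial ↥(P : Subgroup G) :=
      (Subgroup.nontrivial_iff_ne_bot _).2 (P.ne_bot_of_dvd_card hrd)
    rw [Monoid.exponent_eq_prime_iff hr.out]
    intro x hx
    obtain ⟨k, hk⟩ := P.isPGroup' x
    obtain ⟨j, -, hj⟩ := (Nat.dvd_prime_pow hr.out).1 (orderOf_dvd_of_pow_eq_one hk)
    rw [← Subgroup.orderOf_coe] at hj ⊢
    rcases hord x with e | e | e
    · exact absurd (Subtype.ext (orderOf_eq_one_iff.1 e)) hx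
    · rw [e] at hj ⊢
      exact (Nat.prime_dvd_prime_iff_eq hp hr.out).1 (hp.dvd_of_dvd_pow (dvd_of_eq hj))
    · rw [e] at hj ⊢
      exact (Nat.prime_dvd_prime_iff_eq hq hr.out).1 (hq.dvd_of_dvd_pow (dvd_of_eq hj))
  · haveI hsol : Group.IsSolvable G := by
      have hd : Nat.card G ∣ p ^ Nat.card G * q ^ Nat.card G := by
        rw [Nat.dvd_iff_prime_pow_dvd_dvd]
        intro r k hr hk
        rcases Nat.eq_zero_or_pos k with rfl | hk0
        · simp
        have hkle : k ≤ Nat.card G :=
          (Nat.lt_pow_self hr.one_lt).le.trans (Nat.le_of_dvd Nat.card_pos hk)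
        rcases honly r hr ((dvd_pow_self r hk0.ne').trans hk) with rfl | rfl
        · exact (pow_dvd_pow r hkle).mul_right _
        · exact (pow_dvd_pow r hkle).mul_left _
      obtain ⟨u, v, hu, hv, huv⟩ := exists_dvd_and_dvd_of_dvd_mul hd
      obtain ⟨i, -, rfl⟩ := (Nat.dvd_prime_pow hp).1 hu
      obtain ⟨j, -, rfl⟩ := (Nat.dvd_prime_pow hq).1 hv
      exact Cfsg.Agent.S0144.result p q i j hp hq huv
    haveI : Nontrivial G := Finite.one_lt_card_iff_nontrivial.1
      (hp.one_lt.trans_le (Nat.le_of_dvd Nat.card_pos hpd))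
    obtain ⟨N, hN⟩ := Cfsg.Lib.Core.exists_isMinNormal_univ (G := G)
    haveI := hN.1
    obtain ⟨hab', t, ht, hNt, hNp⟩ := Cfsg.Lib.Core.minimal_solvable_elementary hN inferInstance
    haveI := hab'
    haveI := Fact.mk ht
    obtain ⟨x0, hx0, hx01⟩ := N.bot_or_exists_ne_one.resolve_left hN.2.1
    have hx : orderOf x0 = t := orderOf_eq_prime (hNt x0 hx0) hx01
    rcases honly t ht (hx ▸ orderOf_dvd_natCard x0) with rfl | rfl
    · exact frobenius_of_orders ht hq hpq hord hqd N hNp hN.2.1 hsol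
    · exact frobenius_of_orders ht hp hpq.symm (fun g => (hord g).imp_right Or.symm) hpd N hNp hN.2.1 hsol

end Cfsg.Agent.S4004
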