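import Cfsg.Statements.S4005
import Cfsg.Agent.S0144
import Cfsg.Agent.Lib.Solv.FixedPointFree
import Cfsg.Agent.Lib.Core.Layer
import Cfsg.Agent.Lib.Core.PSolvable
import Cfsg.Agent.Lib.PGroup.Elements
import Cfsg.Agent.Lib.PGroup.Basic

set_option autoImplicit false
open Cfsg
open scoped commutatorElement

namespace Cfsg.Agent.S4005

open Subgroup Cfsg.Lib.Core

universe u

variable {G : Type u} [Group G] [Finite G]

/-- A group of exponent `q` acting fixed-point-freely on an abelian group has order dividing `q`. -/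
theorem card_dvd_of_fpf {q : ℕ} (hq : q.Prime) (R V : Subgroup G) [IsMulCommutative V] (hV : V ≠ ⊥)
    (hRV : R ≤ normalizer (V : Set G)) (hexp : ∀ x ∈ R, x ^ q = 1)
    (hfpf : ∀ b ∈ R, b ≠ 1 → V ⊓ centralizer {b} = ⊥) : Nat.card R ∣ q := by
  by_cases hR : R = ⊥
  · rw [hR, card_bot]; exact one_dvd q
  have := Fact.mk hq
  have hRp : IsPGroup q R := fun x => ⟨1, Subtype.ext (by simpa using hexp x x.2)⟩
  have : Nontrivial R := R.nontrivial_iff_ne_bot.mpr hR
  obtain ⟨z, -, hz, hzo⟩ := Cfsg.Lib.PGroup.exists_mem_center_orderOf_eq hRp (N := ⊤) top_ne_bot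
  have hle : R ≤ zpowers (z : G) := by
    intro y hy
    set B := closure ({(z : G), y} : Set G)
    have hBR : B ≤ R := (closure_le _).mpr (by
      rintro w (rfl | rfl)
      exacts [z.2, hy])
    have h1 : (z : G) * y = y * z := (congrArg Subtype.val (mem_center_iff.mp hz ⟨y, hy⟩)).symm
    have : IsMulCommutative B := isMulCommutative_closure (by
      rintro a (rfl | rfl) b (rfl | rfl) <;> first | rfl | exact h1 | exact h1.symm)
    have := Cfsg.Lib.Solv.isCyclic_of_fpf_abelian (B := B) hV (hBR.trans hRV)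
      (fun b hb hb1 => hfpf b (hBR hb) hb1)
    obtain ⟨g, hg⟩ := IsCyclic.exists_generator (α := B)
    have hgq : orderOf g ∣ q := orderOf_dvd_of_pow_eq_one (Subtype.ext (by simpa using hexp g (hBR g.2)))
    have hBc : Nat.card B ∣ q := orderOf_eq_card_of_forall_mem_zpowers hg ▸ hgq
    have hle : zpowers (z : G) ≤ B := zpowers_le.mpr (subset_closure (Set.mem_insert _ _))
    rw [Subgroup.eq_of_le_of_card_ge hle (by
      rw [Nat.card_zpowers, orderOf_coe, hzo]; exact Nat.le_of_dvd hq.pos hBc)]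
    exact subset_closure (Set.mem_insert_of_mem _ rfl)
  refine (Subgroup.card_dvd_of_le hle).trans ?_
  rw [Nat.card_zpowers, orderOf_coe, hzo]


/-- A finite group whose set of element orders is exactly {1, 2, 3} has either a normal elementary abelian 3-subgroup of index 2 or a normal elementary abelian 2-subgroup of index 3. -/
theorem result {G : Type*} [Group G] [Finite G] (h : Set.range (orderOf : G → ℕ) = {k : ℕ | 1 ≤ k ∧ k ≤ 3}) :
    (∃ N : Subgroup G, N.Normal ∧ Cfsg.IsElementaryAbelian 3 N ∧ N.index = 2) ∨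
      (∃ N : Subgroup G, N.Normal ∧ Cfsg.IsElementaryAbelian 2 N ∧ N.index = 3) := by
  classical
  have hord : ∀ x : G, 1 ≤ orderOf x ∧ orderOf x ≤ 3 := fun x => (Set.ext_iff.mp h _).mp ⟨x, rfl⟩
  have hex : ∀ p : ℕ, p = 2 ∨ p = 3 → ∀ (P : Subgroup G), IsPGroup p P → ∀ x ∈ P, x ^ p = 1 := by
    intro p hp P hP x hx
    have hpp : p.Prime := by rcases hp with rfl | rfl <;> norm_num
    obtain ⟨k, hk⟩ := hP ⟨x, hx⟩
    obtain ⟨i, -, hi⟩ := (Nat.dvd_prime_pow hpp).mp (orderOf_dvd_of_pow_eq_one
      (show x ^ p ^ k = 1 by simpa using congrArg Subtype.val hk))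
    have h3 := (hord x).2
    rw [hi] at h3
    refine orderOf_dvd_iff_pow_eq_one.mp (hi ▸ ?_)
    rcases i with _ | _ | i
    · simp
    · simp
    · exfalso
      have : 4 ≤ p ^ (i + 1 + 1) := le_trans (Nat.pow_le_pow_left hpp.two_le 2)
        (Nat.pow_le_pow_right hpp.pos (by omega))
      omega
  have hnc : ∀ x y : G, orderOf x = 2 → orderOf y = 3 → x * y ≠ y * x := by
    intro x y hx hy hc
    have h6 := (show Commute x y from hc).orderOf_mul_eq_mul_orderOf_of_coprime (by rw [hx, hy]; decide)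
    have := (hord (x * y)).2
    rw [h6, hx, hy] at this
    omega
  have hprime : ∀ q : ℕ, q.Prime → q ∣ Nat.card G → q = 2 ∨ q = 3 := by
    intro q hq hd
    have := Fact.mk hq
    obtain ⟨x, hx⟩ := exists_prime_orderOf_dvd_card' (G := G) q hd
    have := (hord x).2
    have := hq.two_le
    omega
  have hcard : Nat.card G = 2 ^ (Nat.card G).factorization 2 * 3 ^ (Nat.card G).factorization 3 := by
    refine Nat.eq_of_factorization_eq Nat.card_pos.ne' (by positivity) fun q => ?_
    rw [Nat.factorization_mul (by positivity) (by positivity), Nat.prime_two.factorization_pow,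
      Nat.prime_three.factorization_pow]
    by_cases hq2 : q = 2
    · subst hq2; simp
    by_cases hq3 : q = 3
    · subst hq3; simp
    simp only [Finsupp.add_apply, Finsupp.single_apply, Ne.symm hq2, Ne.symm hq3, if_false, add_zero]
    by_cases hq : q.Prime
    · exact Nat.factorization_eq_zero_of_not_dvd fun hd => by
        rcases hprime q hq hd with e | e
        exacts [hq2 e, hq3 e]
    · exact Nat.factorization_eq_zero_of_not_prime _ hq
  have hsol : Group.IsSolvable G := Cfsg.Agent.S0144.result 2 3 _ _ Nat.prime_two Nat.prime_three hcard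
  obtain ⟨x2, hx2⟩ : ∃ x : G, orderOf x = 2 := (Set.ext_iff.mp h 2).mpr ⟨by norm_num, by norm_num⟩
  obtain ⟨x3, hx3⟩ : ∃ x : G, orderOf x = 3 := (Set.ext_iff.mp h 3).mpr ⟨by norm_num, by norm_num⟩
  have hordp : ∀ (p : ℕ), p = 2 ∨ p = 3 → ∀ y : G, y ≠ 1 → y ^ p = 1 → orderOf y = p := by
    intro p hp y hy1 hyp
    have := Fact.mk (show p.Prime by rcases hp with rfl | rfl <;> norm_num)
    exact orderOf_eq_prime hyp hy1
  -- the core of one prime is nontrivial
  have hnt : Nontrivial G := ⟨⟨x2, 1, fun e => by simp [e] at hx2⟩⟩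
  obtain ⟨M, hM⟩ := exists_isMinNormal_univ (G := G)
  obtain ⟨hMc, p, hp, hMexp, hMp⟩ := minimal_solvable_elementary hM inferInstance
  have hp23 : p = 2 ∨ p = 3 := by
    have := Fact.mk hp
    obtain ⟨k, hk, hkc⟩ := hMp.nontrivial_iff_card.mp (M.nontrivial_iff_ne_bot.mpr hM.2.1)
    exact hprime p hp ((dvd_pow_self p hk.ne').trans (hkc ▸ M.card_subgroup_dvd_card))
  have := Fact.mk hp
  set V := pCore p G with hVdef
  have hVn : V.Normal := inferInstance
  have hVp : IsPGroup p V := pCore_isPGroup p G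
  have hV1 : V ≠ ⊥ := fun e => hM.2.1 (eq_bot_iff.mpr ((le_pCore' hM.1 hMp).trans (hVdef ▸ e.le)))
  obtain ⟨q, hq23, hqp⟩ : ∃ q, (q = 2 ∨ q = 3) ∧ q ≠ p := by
    rcases hp23 with rfl | rfl
    exacts [⟨3, Or.inr rfl, by norm_num⟩, ⟨2, Or.inl rfl, by norm_num⟩]
  have hqpr : q.Prime := by rcases hq23 with rfl | rfl <;> norm_num
  have := Fact.mk hqpr
  have hnc' : ∀ x y : G, x ≠ 1 → y ≠ 1 → x ^ p = 1 → y ^ q = 1 → x * y ≠ y * x := by
    intro x y hx1 hy1 hxp hyq hc
    have hxo := hordp p hp23 x hx1 hxp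
    have hyo := hordp q hq23 y hy1 hyq
    rcases hp23 with rfl | rfl <;> rcases hq23 with rfl | rfl
    · exact hqp rfl
    · exact hnc x y hxo hyo hc
    · exact hnc y x hyo hxo hc.symm
    · exact hqp rfl
  have hqcore : pCore q G = ⊥ := by
    rw [eq_bot_iff]
    intro y hy
    rw [mem_bot]
    by_contra hy1
    obtain ⟨v, hv, hv1⟩ := V.bot_or_exists_ne_one.resolve_left hV1
    refine hnc' v y hv1 hy1 (hex p hp23 V hVp v hv) (hex q hq23 _ (pCore_isPGroup q G) y hy) ?_
    refine commute_of_normal_of_disjoint _ _ hVn inferInstance ?_ v y hv hy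
    obtain ⟨a, ha⟩ := IsPGroup.iff_card.mp hVp
    obtain ⟨b, hb⟩ := IsPGroup.iff_card.mp (pCore_isPGroup q G)
    refine disjoint_of_coprime_natCard ?_
    rw [ha, hb]
    exact Nat.Coprime.pow _ _ ((Nat.coprime_primes hp hqpr).mpr hqp.symm)
  have hF : fittingSubgroup G ≤ V := by
    rw [fittingSubgroup_eq_iSup_pCore]
    refine iSup_le fun ⟨r, hr⟩ => ?_
    by_cases hrp : r = p
    · subst hrp; exact le_rfl
    by_cases hrq : r = q
    · subst hrq; rw [hqcore]; exact bot_le
    have := Fact.mk hr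
    intro y hy
    by_contra hyV
    obtain ⟨k, hk⟩ := pCore_isPGroup r G ⟨y, hy⟩
    obtain ⟨i, -, hi⟩ := (Nat.dvd_prime_pow hr).mp (orderOf_dvd_of_pow_eq_one
      (show y ^ r ^ k = 1 by simpa using congrArg Subtype.val hk))
    have hi0 : i ≠ 0 := by
      rintro rfl
      exact hyV ((orderOf_eq_one_iff.mp (by rw [hi, pow_zero]) : y = 1) ▸ one_mem V)
    rcases hprime r hr ((dvd_pow_self r hi0).trans (hi ▸ orderOf_dvd_natCard y)) with e | e <;>
      rcases hp23 with e1 | e1 <;> rcases hq23 with e2 | e2 <;> omega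
  have hCV : centralizer (V : Set G) ≤ V :=
    (centralizer_le hF).trans (centralizer_fitting_le_of_isSolvable.trans hF)
  have hVc : IsMulCommutative V := by
    rcases hp23 with rfl | rfl
    · exact ⟨⟨fun a b => by
        have e : ∀ c : V, c⁻¹ = c := fun c => inv_eq_of_mul_eq_one_right
          (Subtype.ext (by have := hex 2 (Or.inl rfl) V hVp c c.2; rwa [sq] at this))
        calc a * b = (a * b)⁻¹ := (e _).symm
          _ = b * a := by rw [mul_inv_rev, e, e]⟩⟩
    · -- an involution inverts `V`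
      let φ : V → V := fun v => ⟨x2 * v * x2⁻¹, hVn.conj_mem v v.2 x2⟩
      have hφ2 : ∀ v, φ (φ v) = v := fun v => Subtype.ext (by
        have h2 : x2 * x2 = 1 := by rw [← sq, ← hx2, pow_orderOf_eq_one]
        have h2' : x2⁻¹ = x2 := inv_eq_of_mul_eq_one_right h2
        simp only [φ, h2']
        calc x2 * (x2 * v * x2) * x2 = (x2 * x2) * v * (x2 * x2) := by group
          _ = v := by rw [h2]; group)
      have hφfix : ∀ v, φ v = v → v = 1 := by
        intro v hv
        by_contra hv1
        have hv' : x2 * v * x2⁻¹ = v := congrArg Subtype.val hv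
        exact hnc x2 v hx2 (hordp 3 (Or.inr rfl) v (fun e => hv1 (Subtype.ext e))
          (hex 3 (Or.inr rfl) V hVp v v.2)) (mul_inv_eq_iff_eq_mul.mp hv')
      -- `v ↦ v⁻¹ * φ v` is a bijection
      have hbij : Function.Surjective (fun v : V => v⁻¹ * φ v) := by
        refine Finite.injective_iff_surjective.mp fun v w hvw => ?_
        have hm : ∀ a b : V, φ (a * b⁻¹) = φ a * (φ b)⁻¹ := fun a b => Subtype.ext (by simp [φ, mul_assoc])
        have h1 : φ (v * w⁻¹) = v * w⁻¹ := by
          rw [hm]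
          have h2 : φ v = v * (w⁻¹ * φ w) := by rw [← (hvw : v⁻¹ * φ v = w⁻¹ * φ w), mul_inv_cancel_left]
          rw [h2]; group
        exact mul_inv_eq_one.mp (hφfix _ h1)
      have hinv : ∀ v : V, φ v = v⁻¹ := by
        intro v
        obtain ⟨w, rfl⟩ := hbij v
        refine Subtype.ext ?_
        have hm : φ (w⁻¹ * φ w) = (φ w)⁻¹ * φ (φ w) := Subtype.ext (by simp [φ, mul_assoc])
        change ((φ (w⁻¹ * φ w) : V) : G) = (((w⁻¹ * φ w)⁻¹ : V) : G)
        rw [hm, hφ2, mul_inv_rev, inv_inv]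
      exact ⟨⟨fun a b => by
        have h1 : φ (a⁻¹ * b⁻¹) = φ a⁻¹ * φ b⁻¹ := Subtype.ext (by simp [φ, mul_assoc])
        rw [hinv, hinv, hinv, mul_inv_rev, inv_inv, inv_inv] at h1
        exact h1.symm⟩⟩
  obtain ⟨R⟩ : Nonempty (Sylow q G) := inferInstance
  have hRexp : ∀ x ∈ (R : Subgroup G), x ^ q = 1 := hex q hq23 _ R.isPGroup'
  have hfpf : ∀ b ∈ (R : Subgroup G), b ≠ 1 → V ⊓ centralizer {b} = ⊥ := by
    intro b hb hb1
    rw [eq_bot_iff]
    rintro v ⟨hv, hvb⟩
    rw [mem_bot]
    by_contra hv1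
    exact hnc' v b hv1 hb1 (hex p hp23 V hVp v hv) (hRexp b hb) (mem_centralizer_singleton_iff.mp hvb)
  have hRc : Nat.card R ∣ q := card_dvd_of_fpf hqpr R V hV1 (by rw [normalizer_eq_top]; exact le_top) hRexp hfpf
  have hidx : V.index = q := by
    obtain ⟨P⟩ : Nonempty (Sylow p G) := inferInstance
    have hPV : (P : Subgroup G) ≤ V := by
      rcases hp23 with rfl | rfl
      · -- the Sylow 2-subgroup is abelian, hence centralises `V`
        refine le_trans (fun x hx => ?_) hCV
        intro v hv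
        have hvP : v ∈ (P : Subgroup G) := pCore_le_sylow P hv
        have e : ∀ c ∈ (P : Subgroup G), c⁻¹ = c := fun c hc => inv_eq_of_mul_eq_one_right (by
          rw [← sq]; exact hex 2 (Or.inl rfl) _ P.isPGroup' c hc)
        calc v * x = (v * x)⁻¹ := (e _ (mul_mem hvP hx)).symm
          _ = x * v := by rw [mul_inv_rev, e x hx, e v hvP]
      · -- the involution is central modulo `V`
        intro y hy
        by_contra hyV
        have hq2 : q = 2 := by omega
        have hinv : ∀ v ∈ V, x2 * v * x2⁻¹ = v⁻¹ := by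
          intro v hv
          set w := v * (x2 * v * x2⁻¹) with hw
          have hwV : w ∈ V := mul_mem hv (hVn.conj_mem v hv x2)
          have hx22 : x2 * x2 = 1 := by rw [← sq, ← hx2, pow_orderOf_eq_one]
          have hwc : x2 * w * x2⁻¹ = w := by
            have h2' : x2⁻¹ = x2 := inv_eq_of_mul_eq_one_right hx22
            have hcm := congrArg Subtype.val (hVc.is_comm.comm ⟨_, hVn.conj_mem v hv x2⟩ ⟨v, hv⟩)
            change x2 * v * x2⁻¹ * v = v * (x2 * v * x2⁻¹) at hcm
            rw [hw, h2'] at *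
            calc x2 * (v * (x2 * v * x2)) * x2 = x2 * v * x2 * v * (x2 * x2) := by group
              _ = v * (x2 * v * x2) := by rw [hx22, mul_one, hcm]
          have hw1 : w = 1 := by
            by_contra hw1
            exact hnc x2 w hx2 (hordp 3 (Or.inr rfl) w hw1 (hex 3 (Or.inr rfl) V hVp w hwV))
              (mul_inv_eq_iff_eq_mul.mp hwc)
          exact (inv_eq_of_mul_eq_one_right hw1).symm
        have hcomm : ⁅x2, y⁆ ∈ V := hCV (by
          intro v hv
          have h1 := hinv v hv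
          have h2 := hinv (y * v * y⁻¹) (hVn.conj_mem v hv y)
          have h3 := hinv v⁻¹ (inv_mem hv)
          have hx22 : x2 * x2 = 1 := by rw [← sq, ← hx2, pow_orderOf_eq_one]
          have h2' : x2⁻¹ = x2 := inv_eq_of_mul_eq_one_right hx22
          have hy2 : y⁻¹ * v * y ∈ V := by simpa using hVn.conj_mem v hv y⁻¹
          have h4 := hinv _ (inv_mem hy2)
          rw [inv_inv] at h4
          show v * ⁅x2, y⁆ = ⁅x2, y⁆ * v
          rw [commutatorElement_def]
          have e1 : x2⁻¹ * v * x2 = v⁻¹ := by rw [h2']; rw [h2'] at h1; exact h1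
          have e2 : y⁻¹ * v⁻¹ * y = (y⁻¹ * v * y)⁻¹ := by group
          calc v * (x2 * y * x2⁻¹ * y⁻¹) = x2 * (x2⁻¹ * v * x2) * y * x2⁻¹ * y⁻¹ := by group
            _ = x2 * y * (y⁻¹ * v⁻¹ * y) * x2⁻¹ * y⁻¹ := by rw [e1]; group
            _ = x2 * y * x2⁻¹ * (x2 * (y⁻¹ * v * y)⁻¹ * x2⁻¹) * y⁻¹ := by rw [e2]; group
            _ = x2 * y * x2⁻¹ * (y⁻¹ * v * y) * y⁻¹ := by rw [h4]
            _ = _ := by group)
        have hxy : orderOf ((x2 * y : G) : G ⧸ V) = 2 * 3 := by
          rw [QuotientGroup.mk_mul]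
          have hc : Commute (x2 : G ⧸ V) (y : G ⧸ V) := by
            rw [← commutatorElement_eq_one_iff_commute]
            change ⁅QuotientGroup.mk' V x2, QuotientGroup.mk' V y⁆ = 1
            rw [← map_commutatorElement]
            exact (QuotientGroup.eq_one_iff _).mpr hcomm
          have hx2V : x2 ∉ V := fun hm => by
            have := hex 3 (Or.inr rfl) V hVp x2 hm
            have h5 := orderOf_dvd_of_pow_eq_one this
            rw [hx2] at h5
            omega
          have e2 : orderOf (x2 : G ⧸ V) = 2 := orderOf_eq_prime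
            (by rw [← QuotientGroup.mk_pow, ← hx2, pow_orderOf_eq_one]; rfl)
            (fun e => hx2V ((QuotientGroup.eq_one_iff x2).mp e))
          have e3 : orderOf (y : G ⧸ V) = 3 := orderOf_eq_prime
            (by rw [← QuotientGroup.mk_pow, hex 3 (Or.inr rfl) _ P.isPGroup' y hy]; rfl)
            (fun e => hyV ((QuotientGroup.eq_one_iff y).mp e))
          rw [hc.orderOf_mul_eq_mul_orderOf_of_coprime (by rw [e2, e3]; decide), e2, e3]
        have h7 := Nat.le_of_dvd (orderOf_pos _) (orderOf_map_dvd (QuotientGroup.mk' V) (x2 * y))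
        have h8 : orderOf ((QuotientGroup.mk' V) (x2 * y)) = 6 := hxy
        have := (hord (x2 * y)).2
        omega
    obtain ⟨a, ha⟩ := IsPGroup.iff_card.mp hVp
    have hdvd : V.index ∣ q := by
      refine Nat.dvd_trans ?_ hRc
      rw [R.card_eq_multiplicity]
      have hsp : ∀ r : ℕ, r.Prime → r ∣ V.index → r = q := by
        intro r hr hd
        rcases eq_or_ne r p with rfl | hrp
        · exact absurd (hd.trans (index_dvd_of_le hPV)) P.not_dvd_index
        · rcases hprime r hr (hd.trans V.index_dvd_card) with e | e <;>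
            rcases hp23 with e1 | e1 <;> rcases hq23 with e2 | e2 <;> omega
      have hi := Nat.eq_prime_pow_of_unique_prime_dvd index_ne_zero_of_finite
        (fun {r} hr hd => hsp r hr hd)
      rw [hi]
      refine Nat.pow_dvd_pow q ((hqpr.pow_dvd_iff_le_factorization Nat.card_pos.ne').mp ?_)
      exact hi ▸ V.index_dvd_card
    refine ((Nat.dvd_prime hqpr).mp hdvd).resolve_left fun e => ?_
    rcases hq23 with rfl | rfl
    · have hpd := Subgroup.orderOf_dvd_natCard V (show x2 ∈ V by rw [index_eq_one.mp e]; exact mem_top _)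
      rw [hx2, ha] at hpd
      exact hqp ((Nat.prime_dvd_prime_iff_eq Nat.prime_two hp).mp (Nat.prime_two.dvd_of_dvd_pow hpd))
    · have hpd := Subgroup.orderOf_dvd_natCard V (show x3 ∈ V by rw [index_eq_one.mp e]; exact mem_top _)
      rw [hx3, ha] at hpd
      exact hqp ((Nat.prime_dvd_prime_iff_eq Nat.prime_three hp).mp (Nat.prime_three.dvd_of_dvd_pow hpd))
  rcases hp23 with rfl | rfl
  · right
    refine ⟨V, hVn, ⟨hVc, hex 2 (Or.inl rfl) V hVp⟩, ?_⟩
    rw [hidx]; omega
  · left
    refine ⟨V, hVn, ⟨hVc, hex 3 (Or.inr rfl) V hVp⟩, ?_⟩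
    rw [hidx]; omega

end Cfsg.Agent.S4005
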