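import Cfsg.Statements.S4007
import Cfsg.Agent.Lib.Recog.OrderSix.Six.Main
import Cfsg.Agent.Lib.Recog.OrderSix.Six.CertPure
import Cfsg.Agent.Lib.Recog.OrderSix.Six.CertFive
import Cfsg.Agent.Lib.Recog.OrderSix.Six.CertFour
import Cfsg.Agent.Lib.Recog.OrderSix.Six.CertSix

set_option autoImplicit false
open Cfsg

namespace Cfsg.Agent.S4007

open Cfsg.Lib.Recog.OrderSix in
/-- The four enumerations hold in a finite group with element orders at most six. -/
theorem enums {H : Type*} [Group H] [Finite H] (ho : OrdSix H) : Six.Enums H :=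
  ⟨fun _ _ _ hz hv hzv hne hy hp hc => Six.enum_pure ho hz hv hzv hne hy hp hc,
    fun _ _ _ hz hx hx1 hzx hy hy1 hc => Six.enum_five ho hz hx hx1 hzx hy hy1 hc,
    fun _ _ _ _ hz hx hzx hy hc h5 ha haz haw hay hprod => Six.enum_four ho hz hx hzx hy hc h5 ha haz haw hay hprod,
    fun hA _ _ _ _ ht hx hy htx hty hxy ha hat hay hprod => Six.enum_six ho hA ht hx hy htx hty hxy ha hat hay hprod⟩

/-- A finite group G whose set of element orders is exactly {1, 2, 3, 4, 5, 6} satisfies one of: G has a normal elementary abelian 5-subgroup with quotient isomorphic to the dicyclic group of order 12 or to SL(2, 3); G has a normal elementary abelian 2-subgroup with quotient isomorphic to the alternating group of degree 5; G is isomorphic to the symmetric group of degree 5 or of degree 6. -/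
theorem result {G : Type*} [Group G] [Finite G] (h : Set.range (orderOf : G → ℕ) = {k : ℕ | 1 ≤ k ∧ k ≤ 6}) :
    (∃ (N : Subgroup G) (_ : N.Normal), Cfsg.IsElementaryAbelian 5 N ∧
        (Nonempty (G ⧸ N ≃* QuaternionGroup 3) ∨ Nonempty (G ⧸ N ≃* Matrix.SpecialLinearGroup (Fin 2) (ZMod 3)))) ∨
      (∃ (N : Subgroup G) (_ : N.Normal), Cfsg.IsElementaryAbelian 2 N ∧ Nonempty (G ⧸ N ≃* ↥(alternatingGroup (Fin 5)))) ∨
      Nonempty (G ≃* Equiv.Perm (Fin 5)) ∨ Nonempty (G ≃* Equiv.Perm (Fin 6)) := by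
  exact Cfsg.Lib.Recog.OrderSix.Six.general_of_enums (fun H _ _ ho => enums ho) h

end Cfsg.Agent.S4007
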