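import Cfsg.Statements.S4013

set_option autoImplicit false
open Cfsg

namespace Cfsg.Agent.S4013

/-- Let G be a finite p-group (p prime) and N < M normal subgroups of G such that for some g ∈ M ∖ N the conjugacy class of g is exactly M ∖ N. Then p = 2 and N has index 2 in M. -/
theorem result {G : Type*} [Group G] [Finite G] (p : ℕ) [Fact p.Prime] (hG : IsPGroup p G) (N M : Subgroup G) [N.Normal] [M.Normal] (hNM : N < M) (g : G) (hgM : g ∈ M) (hgN : g ∉ N) (hcl : {h : G | IsConj g h} = (M : Set G) \ (N : Set G)) : p = 2 ∧ N.relIndex M = 2 := by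
  classical
  have := Fintype.ofFinite G
  obtain ⟨a, ha⟩ := IsPGroup.iff_card.mp hG
  have hp := (Fact.out : p.Prime)
  have hclass : Nat.card {h : G | IsConj g h} ∣ Nat.card G := by
    have h1 : Nat.card (MulAction.orbit (ConjAct G) g) ∣ Nat.card (ConjAct G) := by
      rw [Nat.card_coe_set_eq, ← MulAction.index_stabilizer]
      exact Subgroup.index_dvd_card _
    have h2 : MulAction.orbit (ConjAct G) g = {h : G | IsConj g h} := by
      ext h
      rw [ConjAct.mem_orbit_conjAct]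
      exact isConj_comm
    rw [h2] at h1
    exact h1
  rw [hcl, ha] at hclass
  have hdiff : Nat.card ↥((M : Set G) \ (N : Set G)) = Nat.card M - Nat.card N := by
    rw [Nat.card_coe_set_eq, Set.ncard_sdiff (SetLike.coe_subset_coe.mpr hNM.le)]
    rw [← Nat.card_coe_set_eq, ← Nat.card_coe_set_eq]
    rfl
  obtain ⟨m, hm⟩ := IsPGroup.iff_card.mp (hG.to_subgroup N)
  obtain ⟨j, hj⟩ : ∃ j, N.relIndex M = p ^ j := (hG.to_subgroup M).index (N.subgroupOf M)
  have hMc : Nat.card M = p ^ m * p ^ j := by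
    rw [← hm, ← hj, ← (N.subgroupOf M).card_mul_index,
      Nat.card_congr (Subgroup.subgroupOfEquivOfLe hNM.le).toEquiv]
    rfl
  have hj0 : j ≠ 0 := by
    rintro rfl
    exact hNM.ne (Subgroup.eq_of_le_of_card_ge hNM.le (by rw [hMc, hm, pow_zero, mul_one]))
  rw [hdiff, hMc, hm, ← Nat.mul_sub_one] at hclass
  have hd1 : p ^ j - 1 ∣ p ^ a := dvd_trans (Dvd.intro_left _ rfl) hclass
  obtain ⟨i, -, hi⟩ := (Nat.dvd_prime_pow hp).mp hd1
  have hpj : p ≤ p ^ j := Nat.le_self_pow hj0 p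
  have h2 := hp.two_le
  rcases Nat.eq_zero_or_pos i with hi0 | hi0
  · rw [hi0, pow_zero] at hi
    have hp2 : p = 2 := by omega
    exact ⟨hp2, by rw [hj]; omega⟩
  · exfalso
    have hd2 : p ∣ p ^ j - 1 := hi ▸ dvd_pow_self p hi0.ne'
    have hd3 : p ∣ p ^ j := dvd_pow_self p hj0
    have hd4 : p ∣ 1 := by
      have := Nat.dvd_sub hd3 hd2
      rwa [show p ^ j - (p ^ j - 1) = 1 by omega] at this
    exact hp.one_lt.ne' (Nat.dvd_one.mp hd4)

end Cfsg.Agent.S4013
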