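import Cfsg.Statements.S4014
import Mathlib.GroupTheory.RegularWreathProduct
import Cfsg.Agent.Lib.PGroup.Basic
-- import your own Cfsg.Agent.* helpers here

set_option autoImplicit false
open Cfsg

namespace Cfsg.Agent.S4014

open Subgroup
open scoped commutatorElement

variable {p : ℕ} [Fact p.Prime]

/-- A `p`-group with all orbits of size at most `p ^ k` has `k`-th derived subgroup acting trivially. -/
theorem derived_small : ∀ (k : ℕ) {K : Type} [Group K] [Finite K] {α : Type} [Finite α] [MulAction K α],
    IsPGroup p K → (∀ a : α, (MulAction.orbit K a).ncard ≤ p ^ k) →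
      ∀ g ∈ derivedSeries K k, ∀ a : α, g • a = a := by
  have hp : p.Prime := Fact.out
  intro k
  induction k with
  | zero =>
    intro K _ _ α _ _ _ h g _ a
    obtain ⟨b, hb⟩ := Set.ncard_eq_one.1 (le_antisymm (by simpa using h a)
      ((Set.ncard_pos (Set.toFinite _)).2 (MulAction.nonempty_orbit a)))
    have h1 : g • a ∈ MulAction.orbit K a := MulAction.mem_orbit a g
    have h2 : a ∈ MulAction.orbit K a := MulAction.mem_orbit_self a
    rw [hb, Set.mem_singleton_iff] at h1 h2
    rw [h1, h2]
  | succ k ih =>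
    intro K _ _ α _ _ hK h g hg a
    -- the derived subgroup has orbits of size at most `p ^ k`
    set C := commutator K
    have horb : ∀ a : α, (MulAction.orbit C a).ncard ≤ p ^ k := by
      intro a
      obtain ⟨j, hj⟩ := hK.card_orbit a
      rw [Nat.card_coe_set_eq] at hj
      by_cases hjk : j ≤ k
      · refine le_trans ?_ (Nat.pow_le_pow_right hp.pos hjk)
        rw [← hj]
        exact Set.ncard_le_ncard (fun x ⟨c, hc⟩ => ⟨c, hc⟩) (Set.toFinite _)
      have hj' : j = k + 1 := by
        have := h a
        rw [hj] at this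
        have := (Nat.pow_le_pow_iff_right hp.one_lt).1 this
        omega
      subst hj'
      have hidx := MulAction.index_stabilizer K a
      rw [hj] at hidx
      have hne : MulAction.stabilizer K a ≠ ⊤ := fun e => by
        rw [e, index_top] at hidx
        exact absurd hidx (Nat.one_lt_pow (Nat.succ_ne_zero k) hp.one_lt).ne
      obtain ⟨M, hM, hle⟩ := (eq_top_or_exists_le_coatom (MulAction.stabilizer K a)).resolve_left hne
      have hCM : C ≤ M := Cfsg.Lib.PGroup.commutator_le_of_isCoatom hK hM
      refine le_trans (Set.ncard_le_ncard (t := MulAction.orbit M a)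
        (fun x ⟨c, hc⟩ => ⟨⟨c, hCM c.2⟩, hc⟩) (Set.toFinite _)) (le_of_eq ?_)
      rw [← MulAction.index_stabilizer M a]
      have h1 : MulAction.stabilizer M a = (MulAction.stabilizer K a).subgroupOf M := by ext; rfl
      rw [h1]
      have h2 := relIndex_mul_index hle
      rw [hidx, Cfsg.Lib.PGroup.index_of_isCoatom hK hM, pow_succ] at h2
      exact Nat.eq_of_mul_eq_mul_right hp.pos h2
    have hd : derivedSeries K (k + 1) ≤ (derivedSeries C k).map C.subtype := by
      have : ∀ i, derivedSeries K (i + 1) ≤ (derivedSeries C i).map C.subtype := by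
        intro i
        induction i with
        | zero => rw [derivedSeries_one, derivedSeries_zero, ← MonoidHom.range_eq_map, range_subtype]
        | succ i ih2 =>
          rw [derivedSeries_succ, derivedSeries_succ C, Subgroup.map_commutator]
          exact commutator_mono ih2 ih2
      exact this k
    obtain ⟨c, hc, rfl⟩ := hd hg
    exact ih (hK.to_subgroup C) horb c hc a

/-- The base coordinate of a derived subgroup of a wreath product. -/
theorem wreath_derived {D Q : Type} [Group D] [CommGroup Q] {q : Q} (hq : q ≠ 1) : ∀ i : ℕ, ∀ d ∈ derivedSeries D i,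
    ∃ w ∈ derivedSeries (D ≀ᵣ Q) (i + 1), w.right = 1 ∧ w.left 1 = d := by
  classical
  intro i
  induction i with
  | zero =>
    intro d _
    let u : D ≀ᵣ Q := ⟨Pi.mulSingle 1 d, 1⟩
    let s : D ≀ᵣ Q := ⟨1, q⟩
    refine ⟨⁅u, s⁆, ?_, ?_, ?_⟩
    · rw [derivedSeries_one]
      exact commutator_mem_commutator (mem_top u) (mem_top s)
    · simp [commutatorElement_def, u, s]
    · simp [commutatorElement_def, u, s, hq]
  | succ i ih =>
    intro d hd
    let B : Subgroup (D ≀ᵣ Q) := (RegularWreathProduct.rightHom (D := D) (Q := Q)).ker ⊓ derivedSeries (D ≀ᵣ Q) (i + 1)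
    let π : B →* D :=
      { toFun := fun w => w.1.left 1
        map_one' := rfl
        map_mul' := fun w v => by
          have hw : w.1.right = 1 := w.2.1
          simp [hw] }
    have hle : derivedSeries D i ≤ π.range := fun x hx => by
      obtain ⟨w, hw, hr, hl⟩ := ih x hx
      exact ⟨⟨w, hr, hw⟩, hl⟩
    have h2 : derivedSeries D (i + 1) ≤ (commutator B).map π := by
      rw [derivedSeries_succ, _root_.commutator_def, Subgroup.map_commutator, ← MonoidHom.range_eq_map]
      exact commutator_mono hle hle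
    obtain ⟨w, hw, rfl⟩ := h2 hd
    refine ⟨w.1, ?_, w.2.1, rfl⟩
    rw [derivedSeries_succ]
    refine commutator_mono (inf_le_right : B ≤ _) (inf_le_right : B ≤ _) ?_
    rw [← Subgroup.map_subtype_commutator]
    exact ⟨w, hw, rfl⟩

theorem iterated_ne_bot (Q : Type) [CommGroup Q] [Nontrivial Q] : ∀ m : ℕ,
    derivedSeries (IteratedWreathProduct Q (m + 1)) m ≠ ⊥ := by
  obtain ⟨q, hq⟩ := exists_ne (1 : Q)
  intro m
  induction m with
  | zero =>
    rw [derivedSeries_zero]
    intro h
    let w : IteratedWreathProduct Q 0 ≀ᵣ Q := ⟨1, q⟩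
    have h1 : w = 1 := (mem_bot.1 (h.le (mem_top (w : IteratedWreathProduct Q 1))) :)
    exact hq (congrArg RegularWreathProduct.right h1)
  | succ m ih =>
    intro h
    refine ih (eq_bot_iff.2 fun d hd => ?_)
    obtain ⟨w, hw, -, rfl⟩ := wreath_derived (D := IteratedWreathProduct Q (m + 1)) hq m d hd
    rw [show w = 1 from mem_bot.1 (h.le hw)]
    exact mem_bot.2 rfl

theorem main (n : ℕ) (hn : 1 ≤ n) (P : Sylow p (Equiv.Perm (Fin n))) :
    derivedSeries ↥(P : Subgroup (Equiv.Perm (Fin n))) (Nat.log p n) = ⊥ ∧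
      (1 ≤ Nat.log p n → derivedSeries ↥(P : Subgroup (Equiv.Perm (Fin n))) (Nat.log p n - 1) ≠ ⊥) := by
  classical
  have hp : p.Prime := Fact.out
  constructor
  · refine eq_bot_iff.2 fun g hg => mem_bot.2 (Subtype.ext (Equiv.ext fun a => ?_))
    refine derived_small (p := p) (Nat.log p n) (K := ↥(P : Subgroup (Equiv.Perm (Fin n)))) P.2 (fun a => ?_) g hg a
    obtain ⟨j, hj⟩ := P.2.card_orbit a
    rw [Nat.card_coe_set_eq] at hj
    rw [hj]
    refine Nat.pow_le_pow_right hp.pos (Nat.le_log_of_pow_le hp.one_lt ?_)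
    rw [← hj]
    simpa using Set.ncard_le_card (MulAction.orbit (↥(P : Subgroup (Equiv.Perm (Fin n)))) a)
  · intro hk
    obtain ⟨m, hm⟩ : ∃ m, Nat.log p n = m + 1 := ⟨Nat.log p n - 1, by omega⟩
    rw [hm, Nat.add_sub_cancel]
    let Q := Multiplicative (ZMod p)
    haveI : Nontrivial Q := inferInstance
    have hle : p ^ (m + 1) ≤ n := hm ▸ Nat.pow_log_le_self p (by omega)
    obtain ⟨ι⟩ : Nonempty ((Fin (m + 1) → Q) ↪ Fin n) := Function.Embedding.nonempty_of_card_le (by
      simpa [Q, ZMod.card] using hle)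
    let f := (Equiv.Perm.viaEmbeddingHom ι).comp (iteratedWreathToPermHom Q (m + 1))
    have hf : Function.Injective f :=
      (Equiv.Perm.viaEmbeddingHom_injective ι).comp (iteratedWreathToPermHomInj Q (m + 1))
    have hW : IsPGroup p (IteratedWreathProduct Q (m + 1)) := by
      refine IsPGroup.of_card (n := ∑ i ∈ Finset.range (m + 1), p ^ i) ?_
      rw [IteratedWreathProduct.card]
      simp [Q]
    obtain ⟨S, hS⟩ := (hW.of_equiv (MonoidHom.ofInjective hf) : IsPGroup p f.range).exists_le_sylow
    let φ : IteratedWreathProduct Q (m + 1) →* ↥(P : Subgroup (Equiv.Perm (Fin n))) :=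
      (Sylow.equiv S P).toMonoidHom.comp ((inclusion hS).comp f.rangeRestrict)
    have hφ : Function.Injective φ := (Sylow.equiv S P).injective.comp
      ((inclusion_injective hS).comp (fun a b h => hf (congrArg Subtype.val h)))
    intro hbot
    refine iterated_ne_bot Q m (eq_bot_iff.2 fun w hw => mem_bot.2 (hφ ?_))
    rw [map_one]
    exact mem_bot.1 (hbot.le (map_derivedSeries_le_derivedSeries φ m ⟨w, hw, rfl⟩))

/-- Let p be a prime, n ≥ 1, and P a Sylow p-subgroup of the symmetric group on n letters. Then the derived length of P is exactly k = ⌊log_p n⌋ (the largest k with p^k ≤ n): the k-th derived subgroup of P is trivial and, when k ≥ 1, the (k−1)-st is not. -/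
theorem result (p : ℕ) [Fact p.Prime] (n : ℕ) (hn : 1 ≤ n) (P : Sylow p (Equiv.Perm (Fin n))) : derivedSeries ↥(P : Subgroup (Equiv.Perm (Fin n))) (Nat.log p n) = ⊥ ∧ (1 ≤ Nat.log p n → derivedSeries ↥(P : Subgroup (Equiv.Perm (Fin n))) (Nat.log p n - 1) ≠ ⊥) := by
  exact main n hn P

end Cfsg.Agent.S4014
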