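import Cfsg.Statements.S4015
import Cfsg.Agent.S4014
import Cfsg.Agent.Lib.PGroup.Basic
import Mathlib.GroupTheory.RegularWreathProduct
import Mathlib.GroupTheory.SemidirectProduct
import Mathlib.LinearAlgebra.Matrix.GeneralLinearGroup.Card
import Mathlib.FieldTheory.Finite.Extension
import Mathlib.NumberTheory.Multiplicity
-- import your own Cfsg.Agent.* helpers here

set_option autoImplicit false
open Cfsg

namespace Cfsg.Agent.S4015

open scoped commutatorElement

universe u v

variable {p : ℕ} [Fact p.Prime]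

/-- `p`-part of `∏ (q ^ j - 1)`. -/
theorem sum_val (hp : p ≠ 2) {q : ℕ} (hq : 1 < q) (hpq : ¬ p ∣ q) :
    ∀ n : ℕ, ∑ j ∈ Finset.range n, padicValNat p (q ^ (j + 1) - 1) =
      (n / orderOf (q : ZMod p)) * padicValNat p (q ^ orderOf (q : ZMod p) - 1) +
        padicValNat p (n / orderOf (q : ZMod p)).factorial := by
  have hpp : p.Prime := Fact.out
  set e := orderOf (q : ZMod p) with he
  have hdvd : ∀ j : ℕ, p ∣ q ^ j - 1 ↔ e ∣ j := fun j => by
    rw [← ZMod.natCast_eq_zero_iff, Nat.cast_sub (Nat.one_le_pow _ _ (by omega)), sub_eq_zero,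
      Nat.cast_pow, Nat.cast_one, he, orderOf_dvd_iff_pow_eq_one]
  intro n
  induction n with
  | zero => simp
  | succ n ih =>
    rw [Finset.sum_range_succ, ih, Nat.succ_div]
    by_cases h : e ∣ n + 1
    · obtain ⟨c, hc⟩ := h
      have he0 : 0 < e := Nat.pos_of_ne_zero fun h0 => by simp [h0] at hc
      have hc0 : c ≠ 0 := fun h0 => by simp [h0] at hc
      have hdiv : n / e + 1 = c := by
        have h2 := Nat.succ_div (a := n) (b := e)
        rw [if_pos ⟨c, hc⟩] at h2
        rw [← h2, hc, Nat.mul_div_cancel_left _ he0]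
      have h1 : padicValNat p (q ^ (n + 1) - 1) = padicValNat p (q ^ e - 1) + padicValNat p c := by
        rw [hc, pow_mul]
        have := padicValNat.pow_sub_pow (p := p) (hpp.odd_of_ne_two hp) (x := q ^ e) (y := 1)
          (Nat.one_lt_pow he0.ne' hq) ((hdvd e).2 dvd_rfl) (fun h => hpq (hpp.dvd_of_dvd_pow h)) hc0
        simpa using this
      rw [if_pos ⟨c, hc⟩, h1, Nat.factorial_succ,
        padicValNat.mul (by omega : n / e + 1 ≠ 0) (Nat.factorial_ne_zero _), ← hdiv, add_mul, one_mul]
      omega
    · rw [if_neg h, padicValNat.eq_zero_of_not_dvd (fun h' => h ((hdvd _).1 h')), add_zero, add_zero]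

theorem val_GL (hp : p ≠ 2) (F : Type u) [Field F] [Fintype F] {q : ℕ} (hq : Fintype.card F = q)
    (hpq : ¬ p ∣ q) (n : ℕ) :
    (Nat.card (Matrix.GeneralLinearGroup (Fin n) F)).factorization p =
      (n / orderOf (q : ZMod p)) * padicValNat p (q ^ orderOf (q : ZMod p) - 1) +
        padicValNat p (n / orderOf (q : ZMod p)).factorial := by
  have hpp : p.Prime := Fact.out
  have hq1 : 1 < q := hq ▸ Fintype.one_lt_card
  rw [← sum_val hp hq1 hpq n, Matrix.card_GL_field, hq]
  rw [Nat.factorization_prod_apply (fun i _ => (Nat.sub_pos_of_lt (Nat.pow_lt_pow_right hq1 i.2)).ne'),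
    Fin.sum_univ_eq_sum_range (fun i => (q ^ n - q ^ i).factorization p) n,
    ← Finset.sum_range_reflect (fun j => padicValNat p (q ^ (j + 1) - 1)) n]
  refine Finset.sum_congr rfl fun i hi => ?_
  rw [Finset.mem_range] at hi
  have h1 : q ^ n - q ^ i = q ^ i * (q ^ (n - 1 - i + 1) - 1) := by
    rw [Nat.mul_sub, mul_one, ← pow_add, show i + (n - 1 - i + 1) = n by omega]
  have h2 : q ^ (n - 1 - i + 1) - 1 ≠ 0 :=
    (Nat.sub_pos_of_lt (Nat.one_lt_pow (Nat.succ_ne_zero _) hq1)).ne'
  rw [Nat.factorization_def _ hpp, h1, padicValNat.mul (pow_ne_zero _ (by omega)) h2,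
    padicValNat.eq_zero_of_not_dvd (fun h => hpq (hpp.dvd_of_dvd_pow h)), zero_add]

/-- A faithful representation of `G` gives one of `G ≀ᵣ Q`. -/
def wreathRep {F W G Q : Type*} [Field F] [AddCommGroup W] [Module F W] [Group G] [Group Q]
    (ρ : G →* Module.End F W) : G ≀ᵣ Q →* Module.End F (Q → W) where
  toFun w := LinearMap.pi fun x => (ρ (w.left x)).comp (LinearMap.proj (w.right⁻¹ * x))
  map_one' := by
    ext f x
    simp
  map_mul' a b := by
    ext f x
    simp [mul_assoc]

theorem wreathRep_injective {F W G Q : Type*} [Field F] [AddCommGroup W] [Module F W] [Nontrivial W]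
    [Group G] [Group Q] {ρ : G →* Module.End F W} (hρ : Function.Injective ρ) :
    Function.Injective (wreathRep (Q := Q) ρ) := by
  classical
  rw [injective_iff_map_eq_one]
  intro w hw
  have hinv : ∀ g : G, ∀ v, v ≠ 0 → ρ g v ≠ 0 := fun g v hv h => hv (by
    have := congrArg (ρ g⁻¹) h
    rw [map_zero, ← Module.End.mul_apply, ← map_mul, inv_mul_cancel, map_one] at this
    simpa using this)
  have key : ∀ (y : Q) (v : W), ρ (w.left (w.right * y)) v = if w.right * y = y then v else 0 := fun y v => by
    have := congrFun (LinearMap.congr_fun hw (Pi.single y v)) (w.right * y)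
    simpa [wreathRep, Pi.single_apply] using this
  obtain ⟨v, hv⟩ := exists_ne (0 : W)
  have hr : w.right = 1 := by
    by_contra hr
    have := key 1 v
    rw [if_neg (by simpa using hr)] at this
    exact hinv _ v hv this
  ext x
  · refine hρ ((LinearMap.ext fun u => ?_ : ρ (w.left x) = 1).trans (map_one ρ).symm)
    have := key x u
    rw [hr, one_mul, if_pos rfl] at this
    exact this
  · exact hr

/-- The iterated wreath product acts faithfully in dimension `p ^ m * e`. -/
theorem iterated_rep {F : Type u} {K : Type v} [Field F] [Field K] [Algebra F K] [Module.Finite F K] {Q : Type} [Group Q]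
    [Fintype Q] (hQ : Fintype.card Q = p) (χ : Q →* K) (hχ : Function.Injective χ) : ∀ m : ℕ,
    ∃ (W : Type v) (_ : AddCommGroup W) (_ : Module F W) (_ : Module.Finite F W)
      (ρ : IteratedWreathProduct Q (m + 1) →* Module.End F W),
      Function.Injective ρ ∧ Module.finrank F W = p ^ m * Module.finrank F K := by
  intro m
  induction m with
  | zero =>
    refine ⟨K, inferInstance, inferInstance, inferInstance,
      (Algebra.lmul F K).toRingHom.toMonoidHom.comp
        (χ.comp (RegularWreathProduct.rightHom (D := IteratedWreathProduct Q 0) (Q := Q))), ?_, by simp⟩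
    intro a b h
    have h1 : χ (RegularWreathProduct.right a) = χ (RegularWreathProduct.right b) := Algebra.lmul_injective h
    haveI : Subsingleton (IteratedWreathProduct Q 0) := by
      show Subsingleton PUnit
      infer_instance
    exact RegularWreathProduct.ext (Subsingleton.elim _ _) (hχ h1)
  | succ m ih =>
    obtain ⟨W, _, _, _, ρ, hρ, hW⟩ := ih
    haveI : Nontrivial W := Module.nontrivial_of_finrank_pos (R := F) (by
      rw [hW]; exact mul_pos (pow_pos (Fact.out : p.Prime).pos _) Module.finrank_pos)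
    refine ⟨Q → W, inferInstance, inferInstance, inferInstance, wreathRep ρ, wreathRep_injective hρ, ?_⟩
    rw [Module.finrank_pi_fintype, Finset.sum_const, Finset.card_univ, hQ, hW, smul_eq_mul, pow_succ]
    ring

/-- A faithful linear action in dimension at most `n` gives an embedding into `GL n`. -/
theorem exists_hom_GL {F : Type u} {G W : Type*} [Field F] [Group G] [AddCommGroup W] [Module F W]
    [Module.Finite F W] {n : ℕ} (hn : Module.finrank F W ≤ n) (ρ : G →* Module.End F W)
    (hρ : Function.Injective ρ) :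
    ∃ f : G →* Matrix.GeneralLinearGroup (Fin n) F, Function.Injective f := by
  let V := W × (Fin (n - Module.finrank F W) → F)
  have hV : Module.finrank F V = n := by
    rw [Module.finrank_prod, Module.finrank_fin_fun]
    omega
  let ρ' : G →* Module.End F V :=
    { toFun := fun g => LinearMap.prodMap (ρ g) 1
      map_one' := by ext <;> simp
      map_mul' := fun g h => by ext <;> simp }
  have hρ' : Function.Injective ρ' := fun g h e => hρ (LinearMap.ext fun x =>
    congrArg Prod.fst (LinearMap.congr_fun e (x, 0)))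
  let ψ := LinearMap.toMatrixAlgEquiv (Module.finBasisOfFinrankEq F V hV)
  refine ⟨((ψ.toRingEquiv.toMulEquiv.toMonoidHom).comp ρ').toHomUnits, fun g h e => hρ' (ψ.injective ?_)⟩
  exact congrArg Units.val e

theorem main (hp : p ≠ 2) (F : Type u) [Field F] [Fintype F] (q : ℕ) (hq : Fintype.card F = q)
    (hpq : ¬ p ∣ q) (n : ℕ) (hn : orderOf (q : ZMod p) ≤ n)
    (P : Sylow p (Matrix.GeneralLinearGroup (Fin n) F)) :
    derivedSeries ↥(P : Subgroup (Matrix.GeneralLinearGroup (Fin n) F))
        (Nat.log p (n / orderOf (q : ZMod p)) + 1) = ⊥ ∧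
      derivedSeries ↥(P : Subgroup (Matrix.GeneralLinearGroup (Fin n) F))
        (Nat.log p (n / orderOf (q : ZMod p))) ≠ ⊥ := by
  classical
  have hpp : p.Prime := Fact.out
  set e := orderOf (q : ZMod p) with he
  have hq0 : (q : ZMod p) ≠ 0 := fun h => hpq ((ZMod.natCast_eq_zero_iff _ _).1 h)
  have he0 : 0 < e := orderOf_pos_iff.2
    (isOfFinOrder_iff_pow_eq_one.2 ⟨p - 1, Nat.sub_pos_of_lt hpp.one_lt, ZMod.pow_card_sub_one_eq_one hq0⟩)
  have hq1 : 1 < q := hq ▸ Fintype.one_lt_card
  set w := n / e with hw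
  have hw1 : 1 ≤ w := (Nat.one_le_div_iff he0).2 hn
  set a := padicValNat p (q ^ e - 1) with ha
  haveI : NeZero e := ⟨he0.ne'⟩
  haveI : Fact (ringChar F).Prime := ⟨CharP.char_is_prime F (ringChar F)⟩
  let K := FiniteField.Extension F (ringChar F) e
  have hK : Module.finrank F K = e := FiniteField.finrank_extension F (ringChar F) e
  have hcK : Nat.card Kˣ = q ^ e - 1 := by
    rw [Nat.card_units, FiniteField.natCard_extension, Nat.card_eq_fintype_card, hq]
  have hpa : p ^ a ∣ Nat.card Kˣ := hcK ▸ pow_padicValNat_dvd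
  obtain ⟨g, hg⟩ := IsCyclic.exists_ofOrder_eq_natCard (α := Kˣ)
  have hpos : 0 < Nat.card Kˣ := Nat.card_pos
  have hord : orderOf (g ^ (Nat.card Kˣ / p ^ a)) = p ^ a := by
    rw [orderOf_pow_of_dvd (Nat.div_pos (Nat.le_of_dvd hpos hpa) (pow_pos hpp.pos _)).ne'
      (by rw [hg]; exact Nat.div_dvd_of_dvd hpa), hg, Nat.div_div_self hpa hpos.ne']
  let C := Subgroup.zpowers (g ^ (Nat.card Kˣ / p ^ a))
  have hC : Nat.card C = p ^ a := by rw [Nat.card_zpowers, hord]
  have ha0 : a ≠ 0 := (dvd_iff_padicValNat_ne_zero (by omega : q ^ e - 1 ≠ 0)).1 (by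
    rw [← ZMod.natCast_eq_zero_iff, Nat.cast_sub (Nat.one_le_pow _ _ (by omega)), sub_eq_zero,
      Nat.cast_pow, Nat.cast_one, he, pow_orderOf_eq_one])
  -- the monomial group
  let S : Sylow p (Equiv.Perm (Fin w)) := Classical.arbitrary _
  let φ : ↥(S : Subgroup (Equiv.Perm (Fin w))) →* MulAut (Fin w → C) := mulAutArrow
  let D := (Fin w → C) ⋊[φ] ↥(S : Subgroup (Equiv.Perm (Fin w)))
  let ρ : D →* Module.End F (Fin w → K) :=
    { toFun := fun d => LinearMap.pi fun i => (LinearMap.mulLeft F (((d.left i : Kˣ) : K))).comp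
        (LinearMap.proj ((d.right : Equiv.Perm (Fin w))⁻¹ i))
      map_one' := by
        ext f i
        simp
      map_mul' := fun d d' => by
        ext f i
        erw [SemidirectProduct.mul_left, SemidirectProduct.mul_right]
        simp [φ, mul_assoc, Subgroup.smul_def]
        left; rfl }
  have hρ : Function.Injective ρ := by
    rw [injective_iff_map_eq_one]
    intro d hd
    have key : ∀ (i j : Fin w), ((d.left i : Kˣ) : K) * (if (d.right : Equiv.Perm (Fin w))⁻¹ i = j then 1 else 0) =
        if i = j then 1 else 0 := fun i j => by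
      have := congrFun (LinearMap.congr_fun hd (Pi.single j 1)) i
      simpa [ρ, Pi.single_apply] using this
    have hr : ∀ i, (d.right : Equiv.Perm (Fin w))⁻¹ i = i := fun i => by
      by_contra h
      have := key i i
      rw [if_neg h, mul_zero, if_pos rfl] at this
      exact zero_ne_one this
    refine SemidirectProduct.ext (funext fun i => Subtype.ext (Units.ext ?_)) (Subtype.ext ?_)
    · simpa [hr i] using key i i
    · exact inv_eq_one.1 (Equiv.ext hr)
  have hdim : Module.finrank F (Fin w → K) ≤ n := by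
    rw [Module.finrank_pi_fintype, Finset.sum_const, Finset.card_univ, Fintype.card_fin, hK, smul_eq_mul]
    exact Nat.div_mul_le_self n e
  obtain ⟨f, hf⟩ := exists_hom_GL hdim ρ hρ
  have hcard : Nat.card f.range = p ^ (Nat.card (Matrix.GeneralLinearGroup (Fin n) F)).factorization p := by
    rw [← Nat.card_congr (MonoidHom.ofInjective hf).toEquiv, SemidirectProduct.card, Nat.card_fun, hC,
      S.card_eq_multiplicity, Nat.card_eq_fintype_card (α := Fin w), Fintype.card_fin,
      Nat.card_eq_fintype_card (α := Equiv.Perm (Fin w)), Fintype.card_perm, Fintype.card_fin,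
      Nat.factorization_def _ hpp, val_GL hp F hq hpq n, ← pow_mul, ← pow_add, mul_comm a]
  let T : Sylow p (Matrix.GeneralLinearGroup (Fin n) F) := Sylow.ofCard f.range hcard
  let ψ : ↥(P : Subgroup (Matrix.GeneralLinearGroup (Fin n) F)) →* D :=
    (MonoidHom.ofInjective hf).symm.toMonoidHom.comp (Sylow.equiv P T).toMonoidHom
  have hψ : Function.Injective ψ :=
    (MonoidHom.ofInjective hf).symm.injective.comp (Sylow.equiv P T).injective
  constructor
  · have hDk : derivedSeries D (Nat.log p w) ≤ (SemidirectProduct.rightHom : D →* _).ker := by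
      intro d hd
      have := map_derivedSeries_le_derivedSeries (SemidirectProduct.rightHom : D →* _) _ ⟨d, hd, rfl⟩
      rw [(S4014.result p w hw1 S).1, Subgroup.mem_bot] at this
      exact this
    have hD : derivedSeries D (Nat.log p w + 1) = ⊥ := by
      rw [derivedSeries_succ, eq_bot_iff, Subgroup.commutator_le]
      intro x hx y hy
      rw [Subgroup.mem_bot, commutatorElement_eq_one_iff_mul_comm]
      have hxr : x.right = 1 := hDk hx
      have hyr : y.right = 1 := hDk hy
      refine SemidirectProduct.ext ?_ ?_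
      · rw [SemidirectProduct.mul_left, SemidirectProduct.mul_left, hxr, hyr, map_one, MulAut.one_apply, MulAut.one_apply, mul_comm]
      · rw [SemidirectProduct.mul_right, SemidirectProduct.mul_right, hxr, hyr]
    refine eq_bot_iff.2 fun g hg => Subgroup.mem_bot.2 (hψ ?_)
    rw [map_one]
    exact Subgroup.mem_bot.1 (hD.le (map_derivedSeries_le_derivedSeries ψ _ ⟨g, hg, rfl⟩))
  · set k := Nat.log p w
    let Q := Multiplicative (ZMod p)
    have hQ : Nat.card Q = p := by simp [Q]
    obtain ⟨z, hz⟩ : ∃ z : Kˣ, orderOf z = p :=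
      ⟨(g ^ (Nat.card Kˣ / p ^ a)) ^ p ^ (a - 1), by
        obtain ⟨b, hb⟩ : ∃ b, a = b + 1 := ⟨a - 1, by omega⟩
        rw [orderOf_pow_of_dvd (pow_ne_zero _ hpp.ne_zero) (by rw [hord]; exact pow_dvd_pow p (by omega)),
          hord, hb, Nat.add_sub_cancel, pow_succ, Nat.mul_div_cancel_left _ (pow_pos hpp.pos _)]⟩
    let χ : Q →* K := (Units.coeHom K).comp ((Subgroup.zpowers z).subtype.comp
      (mulEquivOfPrimeCardEq (p := p) hQ (by rw [Nat.card_zpowers, hz])).toMonoidHom)
    have hχ : Function.Injective χ := Units.val_injective.comp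
      (Subtype.val_injective.comp (MulEquiv.injective _))
    obtain ⟨W, _, _, _, σ, hσ, hW⟩ := iterated_rep (p := p) (F := F) (Q := Q) (by simp [Q]) χ hχ k
    have hdim' : Module.finrank F W ≤ n := by
      rw [hW, hK]
      exact le_trans (Nat.mul_le_mul_right e (Nat.pow_log_le_self p (by omega))) (Nat.div_mul_le_self n e)
    obtain ⟨f', hf'⟩ := exists_hom_GL hdim' σ hσ
    have hI : IsPGroup p (IteratedWreathProduct Q (k + 1)) := by
      refine IsPGroup.of_card (n := ∑ i ∈ Finset.range (k + 1), p ^ i) ?_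
      rw [IteratedWreathProduct.card, hQ]
    obtain ⟨U, hU⟩ := (hI.of_equiv (MonoidHom.ofInjective hf') : IsPGroup p f'.range).exists_le_sylow
    let θ : IteratedWreathProduct Q (k + 1) →* ↥(P : Subgroup (Matrix.GeneralLinearGroup (Fin n) F)) :=
      (Sylow.equiv U P).toMonoidHom.comp ((Subgroup.inclusion hU).comp f'.rangeRestrict)
    have hθ : Function.Injective θ := (Sylow.equiv U P).injective.comp
      ((Subgroup.inclusion_injective hU).comp (fun a b h => hf' (congrArg Subtype.val h)))
    intro hbot
    refine S4014.iterated_ne_bot Q k (eq_bot_iff.2 fun v hv => Subgroup.mem_bot.2 (hθ ?_))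
    rw [map_one]
    exact Subgroup.mem_bot.1 (hbot.le (map_derivedSeries_le_derivedSeries θ k ⟨v, hv, rfl⟩))

/-- Let p be an odd prime, F a finite field with q elements where p does not divide q, and e the multiplicative order of q modulo p. Let n ≥ e and write w = ⌊n/e⌋ and k = ⌊log_p w⌋. Then a Sylow p-subgroup of GL(n, F) has derived length exactly k + 1: its (k+1)-st derived subgroup is trivial and its k-th is not. -/
theorem result (p : ℕ) [Fact p.Prime] (hp : p ≠ 2) (F : Type*) [Field F] [Fintype F] (q : ℕ) (hq : Fintype.card F = q) (hpq : ¬ p ∣ q) (n : ℕ) (hn : orderOf (q : ZMod p) ≤ n) (P : Sylow p (Matrix.GeneralLinearGroup (Fin n) F)) : derivedSeries ↥(P : Subgroup (Matrix.GeneralLinearGroup (Fin n) F)) (Nat.log p (n / orderOf (q : ZMod p)) + 1) = ⊥ ∧ derivedSeries ↥(P : Subgroup (Matrix.GeneralLinearGroup (Fin n) F)) (Nat.log p (n / orderOf (q : ZMod p))) ≠ ⊥ := by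
  exact main hp F q hq hpq n hn P

end Cfsg.Agent.S4015
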