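import Cfsg.Statements.S4016
import Cfsg.Prelude.Def_Transfer
import Cfsg.Agent.Lib.Fusion.Basic
import Cfsg.Agent.S0182
import Mathlib.GroupTheory.SchurZassenhaus
import Mathlib.GroupTheory.Transfer
import Mathlib.LinearAlgebra.Matrix.Charpoly.FiniteField
import Mathlib.RingTheory.IntegralDomain
import Mathlib.GroupTheory.SpecificGroups.Cyclic
import Mathlib.Algebra.Ring.GeomSum
import Mathlib.NumberTheory.Basic
-- import your own Cfsg.Agent.* helpers here

set_option autoImplicit false
open Cfsg

namespace Cfsg.Agent.S4016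

open Subgroup Cfsg.Lib.Fusion

set_option linter.style.haveILetI false
set_option linter.unusedSectionVars false

universe u

/-- A regular friendship graph of degree at least three does not exist. -/
theorem friendship {V : Type*} [Fintype V] [DecidableEq V] [Nonempty V] (R : V → V → Prop)
    (hirr : ∀ v, ¬ R v v) (k : ℕ) (hk : 3 ≤ k) (hreg : ∀ v, Nat.card {w // R v w} = k)
    (hfr : ∀ v w, v ≠ w → Nat.card {z // R v z ∧ R z w} = 1) (hsymm : ∀ v w, R v w → R w v) :
    False := by
  classical
  obtain ⟨r, hr, hrk⟩ : ∃ r, Nat.Prime r ∧ r ∣ k - 1 := Nat.exists_prime_and_dvd (by omega)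
  haveI := Fact.mk hr
  let A : Matrix V V (ZMod r) := Matrix.of fun v w => if R v w then 1 else 0
  let J : Matrix V V (ZMod r) := Matrix.of fun _ _ => 1
  have hk1 : (k : ZMod r) = 1 := by
    have : ((k - 1 : ℕ) : ZMod r) = 0 := (ZMod.natCast_eq_zero_iff _ _).2 hrk
    rwa [Nat.cast_sub (by omega), Nat.cast_one, sub_eq_zero] at this
  have hrow : ∀ v, (∑ w, A v w) = 1 := by
    intro v
    show (∑ w, if R v w then (1 : ZMod r) else 0) = 1
    rw [Finset.sum_boole, ← Fintype.card_subtype, ← Nat.card_eq_fintype_card, hreg, hk1]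
  have hA2 : A * A = J := by
    ext v w
    rw [Matrix.mul_apply]
    show (∑ z, (if R v z then (1 : ZMod r) else 0) * (if R z w then 1 else 0)) = 1
    simp only [mul_ite, mul_one, mul_zero]
    simp only [← ite_and]
    rw [Finset.sum_boole, ← Fintype.card_subtype, ← Nat.card_eq_fintype_card]
    by_cases hvw : v = w
    · subst hvw
      rw [Nat.card_congr (Equiv.subtypeEquivRight (q := fun z => R v z)
        fun z => ⟨fun h => h.2, fun h => ⟨hsymm _ _ h, h⟩⟩), hreg, hk1]
    · rw [Nat.card_congr (Equiv.subtypeEquivRight (q := fun z => R v z ∧ R z w)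
        fun z => ⟨fun h => ⟨h.2, h.1⟩, fun h => ⟨h.2, h.1⟩⟩), hfr v w hvw, Nat.cast_one]
  have hAJ : A * J = J := by
    ext v w
    rw [Matrix.mul_apply]
    show (∑ z, A v z * 1) = 1
    simp only [mul_one]
    exact hrow v
  have hpow : ∀ m : ℕ, A ^ (m + 2) = J := by
    intro m
    induction m with
    | zero => rw [Nat.zero_add, pow_two, hA2]
    | succ m ih => rw [pow_succ', ih, hAJ]
  have hJJ : J * J = J := by
    calc J * J = A * A * J := by rw [hA2]
      _ = J := by rw [Matrix.mul_assoc, hAJ, hAJ]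
  have hcard : (Fintype.card V : ZMod r) = 1 := by
    obtain ⟨v⟩ := (inferInstance : Nonempty V)
    have h := congrFun (congrFun hJJ v) v
    rw [Matrix.mul_apply] at h
    simpa [J] using h
  have h1 : Matrix.trace J = 1 := by
    show (∑ v : V, (1 : ZMod r)) = 1
    rw [Finset.sum_const, Finset.card_univ, nsmul_one, hcard]
  have h0 : Matrix.trace A = 0 := by
    show (∑ v : V, if R v v then (1 : ZMod r) else 0) = 0
    exact Finset.sum_eq_zero fun v _ => if_neg (hirr v)
  have h := ZMod.trace_pow_card A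
  obtain ⟨m, hm⟩ : ∃ m, r = m + 2 := ⟨r - 2, by have := hr.two_le; omega⟩
  rw [h0, zero_pow hr.ne_zero] at h
  have h' : Matrix.trace (A ^ r) = 1 := by
    conv_lhs => rw [show A ^ r = A ^ (m + 2) from congrArg (A ^ ·) hm, hpow]
    exact h1
  exact zero_ne_one (h.symm.trans h')

variable {G : Type*} [Group G]

theorem comm_mem {H : Subgroup G} [IsMulCommutative H] {a b : G} (ha : a ∈ H) (hb : b ∈ H) :
    Commute a b := congrArg Subtype.val ((IsMulCommutative.is_comm (M := H)).comm ⟨a, ha⟩ ⟨b, hb⟩)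

theorem relIndex_sup {T Z : Subgroup G} (h : T ≤ normalizer (Z : Set G)) :
    Z.relIndex (T ⊔ Z) = Z.relIndex T := by
  have hZ : Z ≤ normalizer (Z : Set G) := le_normalizer
  haveI : (Z.subgroupOf (normalizer (Z : Set G))).Normal :=
    (Subgroup.normal_subgroupOf_iff_le_normalizer hZ).2 le_rfl
  rw [← Subgroup.relIndex_subgroupOf (sup_le h hZ), Subgroup.subgroupOf_sup h hZ,
    Subgroup.relIndex_sup_right, Subgroup.relIndex_subgroupOf h]

theorem orderOf_conj' (g y : G) : orderOf (g * y * g⁻¹) = orderOf y :=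
  orderOf_injective (MulAut.conj g).toMonoidHom (MulAut.conj g).injective y

theorem order_inv {t : G} (ht : orderOf t = 2) : t⁻¹ = t :=
  inv_eq_of_mul_eq_one_right (by rw [← pow_two, ← ht, pow_orderOf_eq_one])

theorem order_sq {t : G} (ht : orderOf t = 2) : t * t = 1 := by
  rw [← pow_two, ← ht, pow_orderOf_eq_one]

/-- Two involutions whose product has order prime to `p` commute. -/
theorem commute_of_coprime [Finite G] {p : ℕ} (hp : p.Prime) (hp2 : p ≠ 2)
    (hab : ∀ H : Subgroup G, ¬ p ∣ Nat.card H → IsMulCommutative H)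
    {t u : G} (ht : orderOf t = 2) (hu : orderOf u = 2) (hx : ¬ p ∣ orderOf (t * u)) :
    Commute t u := by
  haveI := Fact.mk hp
  have hti : t⁻¹ = t := inv_eq_of_mul_eq_one_right (by rw [← pow_two, ← ht, pow_orderOf_eq_one])
  have hui : u⁻¹ = u := inv_eq_of_mul_eq_one_right (by rw [← pow_two, ← hu, pow_orderOf_eq_one])
  set Z : Subgroup G := zpowers (t * u) with hZ
  have hconj : t * (t * u) * t⁻¹ = (t * u)⁻¹ := by
    rw [mul_inv_rev, hui, hti, ← mul_assoc, order_sq ht, one_mul]
  have hn : zpowers t ≤ normalizer (Z : Set G) := by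
    rw [zpowers_le, mem_normalizer_iff]
    intro h
    have key : ∀ i : ℤ, t * (t * u) ^ i * t⁻¹ = (t * u) ^ (-i) := fun i => by
      rw [← conj_zpow, hconj, inv_zpow']
    constructor
    · rintro ⟨i, rfl⟩
      exact ⟨-i, (key i).symm⟩
    · rintro ⟨i, hi⟩
      refine ⟨-i, ?_⟩
      have h1 : h = t⁻¹ * (t * u) ^ i * t := by
        rw [show (t * u) ^ i = t * h * t⁻¹ from hi]; group
      rw [h1, hti]
      show (t * u) ^ (-i) = t * (t * u) ^ i * t
      rw [← key i, hti]
  have hdvd : Nat.card ↥(zpowers t ⊔ Z) ∣ 2 * orderOf (t * u) := by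
    have h1 : Nat.card ↥(zpowers t ⊔ Z) = Nat.card Z * (Z.subgroupOf (zpowers t ⊔ Z)).index := by
      rw [← Subgroup.card_mul_index (Z.subgroupOf (zpowers t ⊔ Z)),
        Nat.card_congr (Subgroup.subgroupOfEquivOfLe (le_sup_right : Z ≤ zpowers t ⊔ Z)).toEquiv]
    rw [h1, show (Z.subgroupOf (zpowers t ⊔ Z)).index = Z.relIndex (zpowers t ⊔ Z) from rfl,
      relIndex_sup hn, hZ, Nat.card_zpowers, mul_comm]
    refine Nat.mul_dvd_mul_right ?_ _
    rw [← ht, ← Nat.card_zpowers t]
    exact Subgroup.index_dvd_card _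
  have hnd : ¬ p ∣ Nat.card ↥(zpowers t ⊔ Z) := fun h => by
    rcases (Nat.Prime.dvd_mul hp).1 (h.trans hdvd) with h2 | h2
    · exact hp2 ((Nat.prime_dvd_prime_iff_eq hp Nat.prime_two).1 h2)
    · exact hx h2
  haveI := hab _ hnd
  have h1 : t ∈ zpowers t ⊔ Z := mem_sup_left (mem_zpowers t)
  have h2 : u ∈ zpowers t ⊔ Z := by
    have := mul_mem (inv_mem h1) (mem_sup_right (mem_zpowers (t * u)) : t * u ∈ zpowers t ⊔ Z)
    rwa [inv_mul_cancel_left] at this
  exact comm_mem h1 h2

theorem orderOf_pow_prime_of_dvd [Finite G] {p : ℕ} (g : G) (h : p ∣ orderOf g) :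
    orderOf (g ^ (orderOf g / p)) = p := by
  obtain ⟨m, hm⟩ := h
  rcases Nat.eq_zero_or_pos p with rfl | hp
  · exact absurd (orderOf_pos g) (by rw [hm, zero_mul]; exact lt_irrefl _)
  · have hm0 : m ≠ 0 := fun h0 => absurd (orderOf_pos g) (by rw [hm, h0, mul_zero]; exact lt_irrefl _)
    rw [hm, Nat.mul_div_cancel_left _ hp,
      orderOf_pow_of_dvd hm0 (hm ▸ dvd_mul_left m p), hm,
      Nat.mul_div_cancel _ (Nat.pos_of_ne_zero hm0)]

theorem isPGroup_orderOf [Finite G] {p : ℕ} [Fact p.Prime] {y : G} {k : ℕ}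
    (hy : orderOf y = p ^ k) : IsPGroup p (zpowers y) :=
  IsPGroup.of_card (n := k) (by rw [Nat.card_zpowers, hy])

theorem eq_one_of_p_of_coprime {p : ℕ} [Fact p.Prime] {H : Subgroup G} (hH : IsPGroup p H)
    {x : G} (hx : x ∈ H) (h : ¬ p ∣ orderOf x) : x = 1 := by
  obtain ⟨k, hk⟩ := IsPGroup.iff_orderOf.mp hH ⟨x, hx⟩
  rw [← Subgroup.orderOf_coe] at hk
  rcases k with _ | k
  · exact orderOf_eq_one_iff.1 (by simpa using hk)
  · exact absurd (hk ▸ dvd_pow_self p k.succ_ne_zero) h

/-- An element of order prime to `p` normalizing a cyclic `p`-group and fixing one of its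
nontrivial elements centralizes it. -/
theorem centralizes_cyclic [Finite G] {p : ℕ} [hp : Fact p.Prime] {P : Subgroup G}
    (hP : IsPGroup p P) [hc : IsCyclic P] {a x : G} (ha : a ∈ normalizer (P : Set G))
    (hao : ¬ p ∣ orderOf a) (hx : x ∈ P) (hx1 : x ≠ 1) (hax : a * x = x * a) :
    a ∈ centralizer (P : Set G) := by
  obtain ⟨u, hu⟩ := (Subgroup.isCyclic_iff_exists_zpowers_eq_top P).1 hc
  obtain ⟨n, hn⟩ := IsPGroup.iff_card.mp hP
  rw [← hu, Nat.card_zpowers] at hn
  have hau : a * u * a⁻¹ ∈ zpowers u := by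
    rw [hu]; exact (mem_normalizer_iff.1 ha u).1 (hu ▸ mem_zpowers u)
  obtain ⟨r, hr⟩ := hau
  have hr : a * u * a⁻¹ = u ^ r := hr.symm
  obtain ⟨i, rfl⟩ : x ∈ zpowers u := hu ▸ hx
  have key : ∀ j : ℕ, a ^ j * u * (a ^ j)⁻¹ = u ^ (r ^ j) := by
    intro j
    induction j with
    | zero => simp
    | succ j ih =>
      rw [pow_succ', mul_inv_rev, show a * a ^ j * u * ((a ^ j)⁻¹ * a⁻¹) =
        a * (a ^ j * u * (a ^ j)⁻¹) * a⁻¹ by simp [mul_assoc], ih, ← conj_zpow, hr, ← zpow_mul,
        pow_succ']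
  have hzi : u ^ (r * i) = u ^ i := by
    rw [zpow_mul, ← hr, conj_zpow, hax, mul_inv_cancel_right]
  have hdvd : ((p ^ n : ℕ) : ℤ) ∣ (r - 1) * i := by
    rw [← hn, orderOf_dvd_iff_zpow_eq_one, sub_mul, one_mul, zpow_sub, hzi, mul_inv_cancel]
  have hni : ¬ ((p ^ n : ℕ) : ℤ) ∣ i := by
    intro h
    rw [← hn, orderOf_dvd_iff_zpow_eq_one] at h
    exact hx1 h
  have hpr : (p : ℤ) ∣ r - 1 := by
    by_contra h
    have hcop : IsCoprime ((p ^ n : ℕ) : ℤ) (r - 1) := by
      rw [Nat.cast_pow]
      exact ((Nat.prime_iff_prime_int.mp hp.out).coprime_iff_not_dvd.2 h).pow_left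
    exact hni (hcop.dvd_of_dvd_mul_left hdvd)
  have h1 : a ^ p ^ n * u * (a ^ p ^ n)⁻¹ = u := by
    rw [key]
    have h2 := dvd_sub_pow_of_dvd_sub hpr n
    rw [one_pow] at h2
    have h3 : ((p ^ n : ℕ) : ℤ) ∣ r ^ p ^ n - 1 :=
      dvd_trans (by rw [Nat.cast_pow, pow_succ]; exact dvd_mul_right _ _) h2
    rwa [← hn, orderOf_dvd_iff_zpow_eq_one, zpow_sub, zpow_one, mul_inv_eq_one, hn] at h3
  have hcop : (p ^ n).Coprime (orderOf a) := ((hp.out.coprime_iff_not_dvd).2 hao).pow_left _
  have hmem : a ∈ zpowers (a ^ p ^ n) := by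
    obtain ⟨m, hm⟩ := exists_pow_eq_self_of_coprime hcop
    exact ⟨m, by simpa using hm⟩
  rw [← hu, mem_centralizer_iff]
  rintro y ⟨j, rfl⟩
  have hc : Commute (a ^ p ^ n) u := mul_inv_eq_iff_eq_mul.1 h1
  obtain ⟨l, hl⟩ := hmem
  have : Commute a u := hl ▸ hc.zpow_left l
  exact ((this.zpow_right j).eq).symm

theorem sylow_isCyclic_of_injective [Finite G] {p : ℕ} [Fact p.Prime] {H : Type*} [Group H]
    (f : H →* G) (hf : Function.Injective f) (hc : ∀ P : Sylow p G, IsCyclic P) (Q : Sylow p H) :
    IsCyclic Q := by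
  obtain ⟨P, hP⟩ := (Q.2.map f).exists_le_sylow
  haveI := hc P
  exact isCyclic_of_injective
    ((inclusion hP).comp ((Q : Subgroup H).equivMapOfInjective f hf).toMonoidHom)
    ((inclusion_injective hP).comp ((Q : Subgroup H).equivMapOfInjective f hf).injective)

theorem hab_subgroup [Finite G] {p : ℕ}
    (hab : ∀ H : Subgroup G, ¬ p ∣ Nat.card H → IsMulCommutative H) (M : Subgroup G) :
    ∀ H : Subgroup M, ¬ p ∣ Nat.card H → IsMulCommutative H := by
  intro H hH
  haveI := hab (H.map M.subtype) (by rwa [Subgroup.card_map_of_injective M.subtype_injective])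
  exact ⟨⟨fun a b => Subtype.ext (Subtype.ext (comm_mem
    (H := H.map M.subtype) (mem_map_of_mem _ a.2) (mem_map_of_mem _ b.2)))⟩⟩

theorem exists_sylow_conj [Finite G] {p : ℕ} [Fact p.Prime] (P : Sylow p G) {H : Subgroup G}
    (hH : IsPGroup p H) : ∃ g : G, ∀ h ∈ H, g * h * g⁻¹ ∈ (P : Subgroup G) := by
  obtain ⟨Q, hQ⟩ := hH.exists_le_sylow
  obtain ⟨g, hg⟩ := MulAction.exists_smul_eq G Q P
  refine ⟨g, fun h hh => ?_⟩
  rw [← hg]
  exact Subgroup.smul_mem_pointwise_smul h (MulAut.conj g) _ (hQ hh)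

theorem card_dvd_card_of_coprime {P : Subgroup G} [Finite G] {N A H : Subgroup G}
    (hN : Nat.card N = Nat.card P * Nat.card A) (hH : H ≤ N)
    (hc : (Nat.card H).Coprime (Nat.card P)) : Nat.card H ∣ Nat.card A :=
  hc.dvd_of_dvd_mul_left (hN ▸ card_dvd_of_le hH)

theorem not_center [Finite G] {p : ℕ} [Fact p.Prime] {P : Sylow p G}
    (hsimp : ∀ M : Subgroup G, M.Normal → M = ⊥ ∨ M = ⊤) (hPn : ¬ (P : Subgroup G).Normal) {z : G}
    (h : centralizer ({z} : Set G) = ⊤) : z = 1 := by
  rcases hsimp (center G) inferInstance with hz | hz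
  · have : z ∈ center G := mem_center_iff.2 fun g =>
      mem_centralizer_singleton_iff.1 (h ▸ mem_top g)
    rw [hz] at this
    exact this
  · refine absurd ⟨fun n hn g => ?_⟩ hPn
    have hg : g ∈ center G := hz ▸ mem_top g
    rwa [show g * n * g⁻¹ = n by rw [← mem_center_iff.1 hg n, mul_inv_cancel_right]]

/-- The situation of a minimal counterexample. -/
structure Ctx (p : ℕ) (G : Type*) [Group G] where
  P : Sylow p G
  cyc : IsCyclic P
  ab : ∀ H : Subgroup G, ¬ p ∣ Nat.card H → IsMulCommutative H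
  simp : ∀ M : Subgroup G, M.Normal → M = ⊥ ∨ M = ⊤
  notNormal : ¬ (P : Subgroup G).Normal
  hp2 : p ≠ 2
  a₀ : G
  a₀N : a₀ ∈ normalizer ((P : Subgroup G) : Set G)
  a₀p : ¬ p ∣ orderOf a₀
  a₀C : a₀ ∉ centralizer ((P : Subgroup G) : Set G)
  prop : ∀ H : Subgroup G, H ≠ ⊤ → HasNormalPComplement p H ∨ ∀ Q : Sylow p H, (Q : Subgroup H).Normal

section
variable [Finite G] {p : ℕ} [hp : Fact p.Prime] (c : Ctx p G)

/-- The Sylow normalizer. -/
abbrev Ctx.N (c : Ctx p G) : Subgroup G := normalizer ((c.P : Subgroup G) : Set G)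

/-- The Sylow centralizer. -/
abbrev Ctx.C (c : Ctx p G) : Subgroup G := centralizer ((c.P : Subgroup G) : Set G)

theorem Ctx.PC : (c.P : Subgroup G) ≤ c.C := by
  haveI := c.cyc
  haveI : IsMulCommutative (c.P : Subgroup G) := inferInstance
  exact fun x hx => mem_centralizer_iff.2 fun y hy => (comm_mem hy hx).eq

theorem Ctx.p_mem {g : G} (hg : g ∈ c.N) (hp' : ∃ k, orderOf g = p ^ k) : g ∈ (c.P : Subgroup G) := by
  obtain ⟨k, hk⟩ := hp'
  have h1 : IsPGroup p ↥((c.P : Subgroup G) ⊔ zpowers g) :=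
    IsPGroup.to_sup_of_normal_left' c.P.2 (isPGroup_orderOf hk) ((zpowers_le).2 hg)
  rw [← c.P.3 h1 le_sup_left]
  exact mem_sup_right (mem_zpowers g)

theorem Ctx.eq_N {H : Subgroup G} (hH : H ≠ ⊤) (hle : c.N ≤ H) : H = c.N := by
  rcases c.prop H hH with h | h
  · exfalso
    have hN : HasNormalPComplement p c.N := hasNormalPComplement_of_le hle h
    have hL : (⟨c.a₀, c.a₀N⟩ : c.N) ∈ pResidual p c.N :=
      mem_pResidual_of_coprime (by
        rw [Subgroup.orderOf_mk]; exact ((hp.out.coprime_iff_not_dvd).2 c.a₀p).symm)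
    haveI : ((c.P : Subgroup G).subgroupOf c.N).Normal :=
      Subgroup.normal_subgroupOf_iff_le_normalizer (le_normalizer) |>.2 le_rfl
    have hd : Disjoint (pResidual p c.N) ((c.P : Subgroup G).subgroupOf c.N) := by
      rw [disjoint_iff, ← Sylow.coe_subtype c.P le_normalizer]
      exact (hasNormalPComplement_iff_inf _).1 hN
    refine c.a₀C (mem_centralizer_iff.2 fun x hx => ?_)
    have := Subgroup.commute_of_normal_of_disjoint _ _ inferInstance inferInstance hd
      ⟨c.a₀, c.a₀N⟩ ⟨x, le_normalizer hx⟩ hL hx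
    exact (congrArg Subtype.val this.eq).symm
  · refine le_antisymm ?_ hle
    have hPH : (c.P : Subgroup G) ≤ H := le_normalizer.trans hle
    have := h (c.P.subtype hPH)
    rw [Sylow.coe_subtype] at this
    exact (Subgroup.normal_subgroupOf_iff_le_normalizer hPH).1 this

theorem Ctx.cent_le_N {x : G} (hx : x ∈ (c.P : Subgroup G)) (hx1 : x ≠ 1) :
    centralizer ({x} : Set G) ≤ c.N := by
  haveI := c.cyc
  haveI : IsMulCommutative (c.P : Subgroup G) := inferInstance
  obtain ⟨u, hu⟩ := (Subgroup.isCyclic_iff_exists_zpowers_eq_top (c.P : Subgroup G)).1 c.cyc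
  have hne : normalizer ((zpowers x : Subgroup G) : Set G) ≠ ⊤ := by
    intro h
    haveI : (zpowers x).Normal := normalizer_eq_top_iff.1 h
    rcases c.simp (zpowers x) inferInstance with h' | h'
    · exact hx1 (zpowers_eq_bot.1 h')
    · have : (c.P : Subgroup G) = ⊤ := top_le_iff.1 (h' ▸ zpowers_le.2 hx)
      exact c.notNormal (this ▸ inferInstance)
  have hNle : c.N ≤ normalizer ((zpowers x : Subgroup G) : Set G) := by
    intro g hg
    have key : ∀ g ∈ c.N, ∀ y ∈ zpowers x, g * y * g⁻¹ ∈ zpowers x := by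
      intro g hg y hy
      obtain ⟨i, rfl⟩ : x ∈ zpowers u := hu ▸ hx
      obtain ⟨r, hr⟩ : g * u * g⁻¹ ∈ zpowers u :=
        hu ▸ (mem_normalizer_iff.1 hg u).1 (hu ▸ mem_zpowers u)
      obtain ⟨j, rfl⟩ := hy
      refine ⟨r * j, ?_⟩
      simp only [← conj_zpow, ← show u ^ r = g * u * g⁻¹ from hr, ← zpow_mul]
      ring_nf
    rw [mem_normalizer_iff]
    refine fun y => ⟨key g hg y, fun hy => ?_⟩
    have := key g⁻¹ (inv_mem hg) _ hy
    simpa [mul_assoc] using this
  intro g hg
  rw [← c.eq_N hne hNle]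
  have hcm : Commute g x := mem_centralizer_singleton_iff.1 hg
  rw [mem_normalizer_iff]
  intro y
  constructor
  · rintro ⟨i, rfl⟩
    exact ⟨i, by rw [(hcm.zpow_right i).eq, mul_inv_cancel_right]⟩
  · rintro ⟨i, hi⟩
    refine ⟨i, ?_⟩
    have hi : x ^ i = g * y * g⁻¹ := hi
    show x ^ i = y
    calc x ^ i = g⁻¹ * x ^ i * g := by
          rw [mul_assoc, ← (hcm.zpow_right i).eq, inv_mul_cancel_left]
      _ = y := by rw [hi]; group

theorem Ctx.cent_eq {x : G} (hx : x ∈ (c.P : Subgroup G)) (hx1 : x ≠ 1) :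
    centralizer ({x} : Set G) = c.C := by
  haveI := c.cyc
  refine le_antisymm (fun g hg => ?_) fun g hg =>
    mem_centralizer_singleton_iff.2 (mem_centralizer_iff.1 hg x hx).symm
  obtain ⟨k, m, hm, he⟩ :=
    Nat.exists_eq_pow_mul_and_not_dvd (orderOf_pos g).ne' p hp.out.ne_one
  have hgN := c.cent_le_N hx hx1 hg
  have hcm : Commute g x := mem_centralizer_singleton_iff.1 hg
  have h1 : g ^ m ∈ (c.P : Subgroup G) := by
    refine c.p_mem (pow_mem hgN m) ⟨k, ?_⟩
    have hm0 : m ≠ 0 := fun h => hm (h ▸ dvd_zero p)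
    rw [orderOf_pow_of_dvd hm0 (he ▸ dvd_mul_left _ _), he,
      Nat.mul_div_cancel _ (Nat.pos_of_ne_zero hm0)]
  have h2 : g ^ p ^ k ∈ c.C := by
    refine centralizes_cyclic c.P.2 (pow_mem hgN _) ?_ hx hx1 (hcm.pow_left _).eq
    rw [orderOf_pow_of_dvd (pow_pos hp.out.pos k).ne' (he ▸ dvd_mul_right _ _), he,
      Nat.mul_div_cancel_left _ (pow_pos hp.out.pos k)]
    exact hm
  have hcop : (p ^ k).Coprime m := ((hp.out.coprime_iff_not_dvd).2 hm).pow_left _
  obtain ⟨s, t, hst⟩ : IsCoprime ((p ^ k : ℕ) : ℤ) (m : ℤ) := Nat.isCoprime_iff_coprime.2 hcop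
  have : g = (g ^ p ^ k) ^ s * (g ^ m) ^ t := by
    rw [← zpow_natCast g, ← zpow_natCast g, ← zpow_mul, ← zpow_mul, ← zpow_add,
      show ((p ^ k : ℕ) : ℤ) * s + (m : ℤ) * t = 1 by linarith, zpow_one]
  rw [this]
  exact mul_mem (zpow_mem h2 s) (zpow_mem (c.PC h1) t)

theorem Ctx.exists_A : ∃ A : Subgroup G, A ≤ c.N ∧ ¬ p ∣ Nat.card A ∧
    Nat.card c.N = Nat.card (c.P : Subgroup G) * Nat.card A ∧
    ∀ g ∈ c.N, ∃ x ∈ (c.P : Subgroup G), ∃ a ∈ A, g = x * a := by
  set Q := c.P.subtype (le_normalizer : (c.P : Subgroup G) ≤ c.N)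
  haveI : (Q : Subgroup c.N).Normal := by
    rw [Sylow.coe_subtype]
    exact Subgroup.normal_subgroupOf_iff_le_normalizer le_normalizer |>.2 le_rfl
  obtain ⟨A₁, hA₁⟩ := Subgroup.exists_right_complement'_of_coprime Q.card_coprime_index
  have hcardQ : Nat.card (Q : Subgroup c.N) = Nat.card (c.P : Subgroup G) := by
    rw [Sylow.coe_subtype]
    exact Nat.card_congr (Subgroup.subgroupOfEquivOfLe le_normalizer).toEquiv
  refine ⟨A₁.map c.N.subtype, map_subtype_le _, ?_, ?_, ?_⟩
  · rw [Subgroup.card_map_of_injective (subtype_injective _), ← hA₁.symm.index_eq_card]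
    exact Q.not_dvd_index
  · rw [Subgroup.card_map_of_injective (subtype_injective _), ← hcardQ]
    exact hA₁.card_mul.symm
  · intro g hg
    obtain ⟨⟨⟨x, hx⟩, ⟨a, ha⟩⟩, h⟩ := hA₁.2 ⟨g, hg⟩
    refine ⟨x, ?_, a, mem_map_of_mem _ ha, congrArg Subtype.val h.symm⟩
    rw [Sylow.coe_subtype] at hx
    exact hx

theorem Ctx.exists_conj_P {y : G} (hy : orderOf y = p) :
    ∃ g : G, g * y * g⁻¹ ∈ (c.P : Subgroup G) := by
  obtain ⟨g, hg⟩ := exists_sylow_conj c.P (isPGroup_orderOf (p := p) (k := 1) (by rw [pow_one, hy]))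
  exact ⟨g, hg y (mem_zpowers y)⟩

theorem Ctx.cent_conj {y g : G} (hy : y ≠ 1) (hg : g * y * g⁻¹ ∈ (c.P : Subgroup G)) (h : G) :
    h ∈ centralizer ({y} : Set G) ↔ g * h * g⁻¹ ∈ c.C := by
  rw [← c.cent_eq hg (by simpa using hy), mem_centralizer_singleton_iff,
    mem_centralizer_singleton_iff, conj_mul, conj_mul]
  simp

include c in
theorem Ctx.A_comm {A : Subgroup G} (hA : ¬ p ∣ Nat.card A) {a b : G} (ha : a ∈ A) (hb : b ∈ A) :
    Commute a b := by
  haveI := c.ab A hA
  exact comm_mem ha hb

theorem Ctx.cent_D {A : Subgroup G} (hAp : ¬ p ∣ Nat.card A)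
    (hdec : ∀ g ∈ c.N, ∃ x ∈ (c.P : Subgroup G), ∃ a ∈ A, g = x * a)
    {a : G} (ha : a ∈ A) (haC : a ∈ c.C) (ha1 : a ≠ 1) :
    centralizer ({a} : Set G) = c.N := by
  refine c.eq_N (fun h => ha1 (not_center c.simp c.notNormal h)) fun g hg => ?_
  obtain ⟨x, hx, b, hb, rfl⟩ := hdec g hg
  refine mem_centralizer_singleton_iff.2 ?_
  have h1 : Commute x a := mem_centralizer_iff.1 haC x hx
  exact (h1.mul_left (c.A_comm hAp hb ha)).eq

theorem inverts_pow {t u : G} (ht : orderOf t = 2) (hu : orderOf u = 2) (n : ℕ) :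
    t * (t * u) ^ n * t⁻¹ = ((t * u) ^ n)⁻¹ ∧ u * (t * u) ^ n * u⁻¹ = ((t * u) ^ n)⁻¹ := by
  refine ⟨?_, ?_⟩ <;> rw [← conj_pow, ← inv_pow] <;> congr 1 <;>
    rw [mul_inv_rev, order_inv ht, order_inv hu]
  · rw [← mul_assoc, order_sq ht, one_mul]
  · rw [mul_assoc, mul_assoc, order_sq hu, mul_one]

theorem Ctx.mem_N_of_conj {z w : G} (hz : z ∈ (c.P : Subgroup G)) (hz1 : z ≠ 1)
    (h : w * z * w⁻¹ ∈ (c.P : Subgroup G)) : w ∈ c.N := by
  haveI := c.cyc
  have hmap : ∀ v ∈ (c.P : Subgroup G), w * v * w⁻¹ ∈ c.C := fun v hv => by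
    rw [← c.cent_eq h (by simpa using hz1), mem_centralizer_singleton_iff, conj_mul, conj_mul]
    exact congrArg (fun e => w * e * w⁻¹) (mem_centralizer_iff.1 (c.PC hv) z hz).symm
  have hCN : c.C ≤ c.N := centralizer_le_normalizer _
  have : ∀ v ∈ (c.P : Subgroup G), w * v * w⁻¹ ∈ (c.P : Subgroup G) := fun v hv => by
    obtain ⟨k, hk⟩ := IsPGroup.iff_orderOf.mp c.P.2 ⟨v, hv⟩
    exact c.p_mem (hCN (hmap v hv)) ⟨k, by rw [orderOf_conj', ← hk, Subgroup.orderOf_mk]⟩
  exact mem_normalizer_iff.2 fun v => ⟨this v, fun hv => by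
    obtain ⟨i, hi⟩ := Finite.surjective_of_injective
      (f := fun v : (c.P : Subgroup G) => (⟨w * v * w⁻¹, this v v.2⟩ : (c.P : Subgroup G)))
      (fun a b hab => Subtype.ext (by simpa using congrArg Subtype.val hab)) ⟨_, hv⟩
    have := congrArg Subtype.val hi
    simp only [mul_left_inj, mul_right_inj] at this
    exact this ▸ i.2⟩

include c in
theorem Ctx.contradiction : False := by
  classical
  haveI := c.cyc
  obtain ⟨A, hAN, hAp, hNcard, hdec⟩ := c.exists_A
  have hp3 : 3 ≤ p := by have := hp.out.two_le; have := c.hp2; omega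
  -- the image of `A` in the automorphisms of the subgroup of order `p`
  obtain ⟨z, hzP, hz⟩ : ∃ z ∈ (c.P : Subgroup G), orderOf z = p := by
    haveI : Nontrivial (c.P : Subgroup G) := (Subgroup.nontrivial_iff_ne_bot _).2 fun h =>
      c.notNormal (h ▸ inferInstance)
    obtain ⟨z, hz⟩ := exists_prime_orderOf_dvd_card' (G := (c.P : Subgroup G)) p (by
      obtain ⟨n, hn⟩ := IsPGroup.iff_card.mp c.P.2
      have : 1 < Nat.card (c.P : Subgroup G) := Finite.one_lt_card
      rw [hn] at this ⊢
      exact dvd_pow_self p (by rintro rfl; simp at this))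
    exact ⟨z, z.2, by rw [Subgroup.orderOf_coe, hz]⟩
  have hz1 : z ≠ 1 := fun h => hp.out.ne_one (by rw [← hz, h, orderOf_one])
  have hAz : A ≤ normalizer ((zpowers z : Subgroup G) : Set G) := by
    intro a ha
    have key : ∀ b ∈ c.N, ∀ y ∈ zpowers z, b * y * b⁻¹ ∈ zpowers z := by
      intro b hb y hy
      obtain ⟨u, hu⟩ := (Subgroup.isCyclic_iff_exists_zpowers_eq_top (c.P : Subgroup G)).1 c.cyc
      obtain ⟨i, rfl⟩ : z ∈ zpowers u := hu ▸ hzP
      obtain ⟨r, hr⟩ : b * u * b⁻¹ ∈ zpowers u :=
        hu ▸ (mem_normalizer_iff.1 hb u).1 (hu ▸ mem_zpowers u)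
      obtain ⟨j, rfl⟩ := hy
      refine ⟨r * j, ?_⟩
      simp only [← conj_zpow, ← show u ^ r = b * u * b⁻¹ from hr, ← zpow_mul]
      ring_nf
    rw [mem_normalizer_iff]
    refine fun y => ⟨key a (hAN ha) y, fun hy => ?_⟩
    simpa [mul_assoc] using key a⁻¹ (inv_mem (hAN ha)) _ hy
  let ψ : A →* (ZMod (Nat.card (zpowers z)))ˣ :=
    ((IsCyclic.mulAutMulEquiv (zpowers z)).toMonoidHom.comp
      (zpowers z).normalizerMonoidHom).comp (inclusion hAz)
  have hcardz : Nat.card (zpowers z) = p := by rw [Nat.card_zpowers, hz]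
  have hψ : ∀ a : A, ψ a = 1 ↔ (a : G) ∈ c.C := by
    intro a
    have h1 : ψ a = 1 ↔ inclusion hAz a ∈ (zpowers z).normalizerMonoidHom.ker := by
      simp only [ψ, MonoidHom.coe_comp, Function.comp_apply, MulEquiv.coe_toMonoidHom,
        EmbeddingLike.map_eq_one_iff, MonoidHom.mem_ker]
    rw [h1, normalizerMonoidHom_ker, mem_subgroupOf]
    show (a : G) ∈ centralizer ((zpowers z : Subgroup G) : Set G) ↔ _
    rw [← c.cent_eq hzP hz1, mem_centralizer_singleton_iff, mem_centralizer_iff]
    exact ⟨fun h => (h z (mem_zpowers z)).symm, fun h => by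
      rintro y ⟨i, rfl⟩
      exact ((show Commute (a : G) z from h).zpow_right i).eq.symm⟩
  have hroots : ∀ r : ℕ, 0 < r → ∀ S : Finset (ZMod (Nat.card (zpowers z)))ˣ,
      (∀ s ∈ S, s ^ r = 1) → S.card ≤ r := by
    rw [hcardz]
    intro r hr S hS
    refine le_trans (Finset.card_le_card (t := Finset.univ.filter fun s => s ^ r = 1) fun s hs =>
      Finset.mem_filter.2 ⟨Finset.mem_univ s, hS s hs⟩) (IsCyclic.card_pow_eq_one_le hr)
  -- `D = A ⊓ C` is a proper subgroup of `A`
  have hDA : ¬ A ≤ c.C := by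
    intro hle
    obtain ⟨x, hx, b, hb, hxb⟩ := hdec c.a₀ c.a₀N
    exact c.a₀C (hxb ▸ mul_mem (c.PC hx) (hle hb))
  set D : Subgroup G := A ⊓ c.C with hD
  have hCdec : ∀ g ∈ c.C, ∃ x ∈ (c.P : Subgroup G), ∃ a ∈ D, g = x * a := by
    intro g hg
    obtain ⟨x, hx, a, ha, rfl⟩ := hdec g (centralizer_le_normalizer _ hg)
    exact ⟨x, hx, a, ⟨ha, (mul_mem_cancel_left (c.PC hx)).1 hg⟩, rfl⟩
  have hCp' : ∀ g ∈ c.C, ¬ p ∣ orderOf g → g ∈ D := by
    intro g hg hgp
    obtain ⟨x, hx, a, ha, rfl⟩ := hCdec g hg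
    have hcm : Commute x a := mem_centralizer_iff.1 ha.2 x hx
    have h1 : x ^ orderOf (x * a) * a ^ orderOf (x * a) = 1 := by
      rw [← hcm.mul_pow, pow_orderOf_eq_one]
    have h2 : x ^ orderOf (x * a) = 1 := by
      have hA' : x ^ orderOf (x * a) ∈ A := eq_inv_of_mul_eq_one_left h1 ▸ inv_mem (pow_mem ha.1 _)
      exact eq_one_of_p_of_coprime c.P.2 (pow_mem hx _) fun h =>
        hAp (h.trans (Subgroup.orderOf_dvd_natCard _ hA'))
    obtain ⟨k, hk⟩ := IsPGroup.iff_orderOf.mp c.P.2 ⟨x, hx⟩
    rw [Subgroup.orderOf_mk] at hk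
    have h3 : orderOf x = 1 := Nat.eq_one_of_dvd_coprimes
      ((hk ▸ ((hp.out.coprime_iff_not_dvd).2 hgp).pow_left k) : (orderOf x).Coprime _)
      dvd_rfl (orderOf_dvd_of_pow_eq_one h2)
    rwa [orderOf_eq_one_iff.1 h3, one_mul]
  have hcardC : Nat.card c.C = Nat.card (c.P : Subgroup G) * Nat.card D := by
    rw [← Nat.card_prod]
    refine (Nat.card_congr (Equiv.ofBijective
      (fun (u : ↥(c.P : Subgroup G) × ↥D) =>
        (⟨u.1 * u.2, mul_mem (c.PC u.1.2) u.2.2.2⟩ : c.C)) ⟨?_, ?_⟩)).symm
    · rintro ⟨⟨x, hx⟩, ⟨a, ha⟩⟩ ⟨⟨y, hy⟩, ⟨b, hb⟩⟩ h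
      have h : x * a = y * b := congrArg Subtype.val h
      have h' : y⁻¹ * x = b * a⁻¹ := by
        rw [inv_mul_eq_iff_eq_mul, ← mul_assoc, ← h, mul_inv_cancel_right]
      have h1 : y⁻¹ * x = 1 := eq_one_of_p_of_coprime c.P.2 (mul_mem (inv_mem hy) hx) fun hd =>
        hAp (hd.trans (Subgroup.orderOf_dvd_natCard _ (h' ▸ mul_mem hb.1 (inv_mem ha.1))))
      have hxy : x = y := (inv_mul_eq_one.1 h1).symm
      subst hxy
      simpa using h
    · rintro ⟨g, hg⟩
      obtain ⟨x, hx, a, ha, rfl⟩ := hCdec g hg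
      exact ⟨(⟨x, hx⟩, ⟨a, ha⟩), rfl⟩
  have hDp : ¬ p ∣ Nat.card D := fun h => hAp (h.trans (card_dvd_of_le inf_le_left))
  -- the prime `q` and the Burnside argument
  have key : ∀ q : ℕ, q.Prime → ∀ B : Subgroup G, IsPGroup q B → B ≤ A →
      ¬ Nat.card B ∣ Nat.card D →
      ∃ K : Subgroup G, K = centralizer (B : Set G) ∧ ¬ p ∣ Nat.card K ∧ A ≤ K ∧
        (∃ T : Sylow q G, (T : Subgroup G) ≤ K) ∧
        ∃ x : G, orderOf x = p ∧ x ∉ c.N ∧ ∀ k ∈ K, x * k * x⁻¹ ∈ K := by
    intro q hq B hBq hBA hBD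
    haveI := Fact.mk hq
    have hqp : q ≠ p := by
      rintro rfl
      obtain ⟨k, hk⟩ := IsPGroup.iff_card.mp hBq
      rcases k with _ | k
      · exact hBD (by rw [hk, pow_zero]; exact one_dvd _)
      · exact hAp ((hk ▸ dvd_pow_self q k.succ_ne_zero).trans (card_dvd_of_le hBA))
    have hqBp : (Nat.card B).Coprime (Nat.card (c.P : Subgroup G)) := by
      obtain ⟨k, hk⟩ := IsPGroup.iff_card.mp hBq
      obtain ⟨n, hn⟩ := IsPGroup.iff_card.mp c.P.2
      rw [hk, hn]
      exact Nat.Coprime.pow k n ((Nat.coprime_primes hq hp.out).2 hqp)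
    set K := centralizer (B : Set G) with hK
    have hKp : ¬ p ∣ Nat.card K := by
      intro h
      obtain ⟨⟨y, hyK⟩, hy⟩ := exists_prime_orderOf_dvd_card' (G := K) p h
      rw [Subgroup.orderOf_mk] at hy
      have hy1 : y ≠ 1 := fun e => hp.out.ne_one (by rw [← hy, e, orderOf_one])
      obtain ⟨g, hg⟩ := c.exists_conj_P hy
      have hmap : B.map (MulAut.conj g).toMonoidHom ≤ c.C := by
        rintro _ ⟨b, hb, rfl⟩
        exact (c.cent_conj hy1 hg b).1 (mem_centralizer_singleton_iff.2
          (mem_centralizer_iff.1 hyK b hb))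
      have := card_dvd_of_le hmap
      rw [Subgroup.card_map_of_injective (MulAut.conj g).injective, hcardC] at this
      exact hBD (hqBp.dvd_of_dvd_mul_left this)
    have hAK : A ≤ K := fun a ha => mem_centralizer_iff.2 fun b hb => c.A_comm hAp (hBA hb) ha
    obtain ⟨T, hT⟩ := hBq.exists_le_sylow
    have hTp : ¬ p ∣ Nat.card (T : Subgroup G) := fun h => by
      obtain ⟨k, hk⟩ := IsPGroup.iff_card.mp T.2
      exact hqp ((Nat.prime_dvd_prime_iff_eq hp.out hq).1 (hp.out.dvd_of_dvd_pow (hk ▸ h))).symm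
    haveI := c.ab _ hTp
    have hTK : (T : Subgroup G) ≤ K := fun t ht =>
      mem_centralizer_iff.2 fun b hb => comm_mem (hT hb) ht
    have hCT : centralizer ((T : Subgroup G) : Set G) = K := by
      refine le_antisymm (centralizer_le hT) fun k hk => mem_centralizer_iff.2 fun t ht => ?_
      exact c.A_comm hKp (hTK ht) hk
    have hnle : ¬ normalizer ((T : Subgroup G) : Set G) ≤ centralizer ((T : Subgroup G) : Set G) := by
      intro hle
      have hc := MonoidHom.ker_transferSylow_isComplement' T hle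
      rcases c.simp _ (MonoidHom.normal_ker (MonoidHom.transferSylow T hle)) with h | h
      · rw [h, isComplement'_bot_left] at hc
        have hG : ∀ a b : G, a * b = b * a := fun a b =>
          comm_mem (H := (T : Subgroup G)) (hc ▸ mem_top a) (hc ▸ mem_top b)
        exact c.notNormal ⟨fun n hn g => by rw [hG g n, mul_inv_cancel_right]; exact hn⟩
      · rw [h, isComplement'_top_left] at hc
        have hB : B = ⊥ := le_bot_iff.1 (hT.trans hc.le)
        exact hBD (by rw [hB, Subgroup.card_bot]; exact one_dvd _)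
    have hNp : p ∣ Nat.card ↥(normalizer ((T : Subgroup G) : Set G)) := by
      by_contra h
      haveI := c.ab _ h
      exact hnle fun n hn => mem_centralizer_iff.2 fun t ht =>
        comm_mem (le_normalizer ht) hn
    obtain ⟨⟨x, hxN⟩, hx⟩ := exists_prime_orderOf_dvd_card' (G := ↥(normalizer ((T : Subgroup G) : Set G))) p hNp
    rw [Subgroup.orderOf_mk] at hx
    have hxK : ∀ k ∈ K, x * k * x⁻¹ ∈ K := by
      intro k hk
      rw [← hCT] at hk ⊢
      refine mem_centralizer_iff.2 fun t ht => ?_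
      have ht' : x⁻¹ * t * x ∈ (T : Subgroup G) :=
        (mem_normalizer_iff.1 hxN _).2 (by simpa [mul_assoc] using SetLike.mem_coe.1 ht)
      have := congrArg (fun e => x * e * x⁻¹) (mem_centralizer_iff.1 hk _ ht')
      simpa [mul_assoc] using this
    refine ⟨K, rfl, hKp, hAK, ⟨T, hTK⟩, x, hx, fun hxc => hDA fun a ha => ?_, hxK⟩
    have hxP : x ∈ (c.P : Subgroup G) := c.p_mem hxc ⟨1, by rw [hx, pow_one]⟩
    have h1 : x * a * x⁻¹ * a⁻¹ ∈ (c.P : Subgroup G) := by
      rw [show x * a * x⁻¹ * a⁻¹ = x * (a * x⁻¹ * a⁻¹) by group]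
      exact mul_mem hxP ((mem_normalizer_iff.1 (hAN ha) _).1 (inv_mem hxP))
    have h2 : x * a * x⁻¹ * a⁻¹ ∈ K := mul_mem (hxK a (hAK ha)) (inv_mem (hAK ha))
    have h3 : x * a * x⁻¹ * a⁻¹ = 1 := eq_one_of_p_of_coprime c.P.2 h1 fun h =>
      hKp (h.trans (Subgroup.orderOf_dvd_natCard _ h2))
    rw [mul_inv_eq_one, mul_inv_eq_iff_eq_mul] at h3
    rw [← c.cent_eq hxP (fun e => hp.out.ne_one (by rw [← hx, e, orderOf_one]))]
    exact mem_centralizer_singleton_iff.2 h3.symm
  by_cases hDbot : D = ⊥
  swap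
  · -- `D` is not trivial: `p = 3` and the involutions form a friendship graph
    obtain ⟨q, hq, B, hBq, hBA, hBD⟩ : ∃ q : ℕ, q.Prime ∧ ∃ B : Subgroup G,
        IsPGroup q B ∧ B ≤ A ∧ ¬ Nat.card B ∣ Nat.card D := by
      by_contra hno
      apply hDA
      have hall : Nat.card A ∣ Nat.card D := by
        rw [← Nat.factorization_le_iff_dvd Nat.card_pos.ne' Nat.card_pos.ne']
        intro q
        by_cases hq : q.Prime
        swap
        · simp [Nat.factorization_eq_zero_of_not_prime _ hq]
        haveI := Fact.mk hq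
        obtain ⟨S⟩ : Nonempty (Sylow q A) := inferInstance
        have h := not_not.1 fun h => hno ⟨q, hq, (S : Subgroup A).map A.subtype,
          S.2.map A.subtype, map_subtype_le _, h⟩
        rw [Subgroup.card_map_of_injective A.subtype_injective, S.card_eq_multiplicity] at h
        exact (hq.pow_dvd_iff_le_factorization Nat.card_pos.ne').1 h
      have : D = A := Subgroup.eq_of_le_of_card_ge inf_le_left (Nat.le_of_dvd Nat.card_pos hall)
      exact this ▸ inf_le_right
    obtain ⟨K, hK, hKp, hAK, ⟨T, hTK⟩, x, hx, hxN, hxK⟩ := key q hq B hBq hBA hBD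
    obtain ⟨e, he, he1⟩ := (Subgroup.ne_bot_iff_exists_ne_one.1 hDbot) |> fun ⟨⟨e, he⟩, h⟩ =>
      (⟨e, he, fun h' => h (Subtype.ext h')⟩ : ∃ e, e ∈ D ∧ e ≠ 1)
    have hKN : K ≤ c.N := fun k hk => by
      rw [← c.cent_D hAp hdec he.1 he.2 he1]
      exact mem_centralizer_singleton_iff.2 (c.A_comm hKp hk (hAK he.1))
    have hKA : K = A := by
      refine (Subgroup.eq_of_le_of_card_ge hAK (Nat.le_of_dvd Nat.card_pos ?_)).symm
      refine card_dvd_card_of_coprime hNcard hKN ?_
      obtain ⟨n, hn⟩ := IsPGroup.iff_card.mp c.P.2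
      rw [hn]
      exact (((hp.out.coprime_iff_not_dvd).2 hKp).symm).pow_right _
    subst hKA
    have hpow : ∀ (i : ℕ), ∀ k ∈ K, x ^ i * k * (x ^ i)⁻¹ ∈ K := by
      intro i
      induction i with
      | zero => intro k hk; simpa using hk
      | succ i ih =>
        intro k hk
        have := hxK _ (ih k hk)
        rw [pow_succ']
        simpa [mul_assoc] using this
    have hsep : ∀ i : ℕ, ¬ p ∣ i → ∀ d ∈ D, d ≠ 1 → x ^ i * d * (x ^ i)⁻¹ ∉ D := by
      intro i hi d hd hd1 hd'
      apply hxN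
      have hd'1 : x ^ i * d * (x ^ i)⁻¹ ≠ 1 := by simpa using hd1
      have hxiN : x ^ i ∈ c.N := by
        refine c.mem_N_of_conj hzP hz1 ?_
        have hzc : z ∈ centralizer ({d} : Set G) :=
          mem_centralizer_singleton_iff.2 (mem_centralizer_iff.1 hd.2 z hzP)
        have : x ^ i * z * (x ^ i)⁻¹ ∈ c.N := by
          rw [← c.cent_D hAp hdec hd'.1 hd'.2 hd'1, mem_centralizer_singleton_iff, conj_mul,
            conj_mul, (mem_centralizer_singleton_iff.1 hzc)]
        exact c.p_mem this ⟨1, by rw [orderOf_conj', hz, pow_one]⟩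
      obtain ⟨m, hm⟩ := exists_pow_eq_self_of_coprime (x := x) (n := i)
        (by rw [hx]; exact ((hp.out.coprime_iff_not_dvd).2 hi).symm)
      exact hm ▸ pow_mem hxiN m
    have hinjD : ∀ a ∈ D, ∀ b ∈ D, ∀ ha : a ∈ K, ∀ hb : b ∈ K,
        ψ ⟨x * a * x⁻¹, hxK a ha⟩ = ψ ⟨x * b * x⁻¹, hxK b hb⟩ → a = b := by
      intro a hda b hdb ha hb h
      have h1 : ψ ⟨x * (a * b⁻¹) * x⁻¹, hxK _ (mul_mem ha (inv_mem hb))⟩ = 1 := by
        rw [← div_self' (ψ ⟨x * b * x⁻¹, hxK b hb⟩)]
        conv_rhs => arg 1; rw [← h]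
        rw [← map_div]
        congr 1
        ext
        simp [div_eq_mul_inv, mul_assoc]
      have h2 := (hψ _).1 h1
      by_contra hne
      refine hsep 1 (by intro hd; exact hp.out.ne_one (Nat.dvd_one.1 hd)) (a * b⁻¹)
        (mul_mem hda (inv_mem hdb)) (fun e => hne (mul_inv_eq_one.1 e)) ?_
      rw [pow_one]
      exact ⟨hxK _ (mul_mem ha (inv_mem hb)), h2⟩
    -- a prime divisor of the order of `D`
    have hDne1 : Nat.card D ≠ 1 := fun h => hDbot (Subgroup.card_eq_one.1 h)
    obtain ⟨r, hr, hrD⟩ := Nat.exists_prime_and_dvd hDne1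
    haveI := Fact.mk hr
    obtain ⟨⟨d, hd⟩, hdo⟩ := exists_prime_orderOf_dvd_card' (G := D) r hrD
    rw [Subgroup.orderOf_mk] at hdo
    haveI : Fintype K := Fintype.ofFinite _
    have hroot2 : (Finset.univ.filter fun a : K => a ^ r = 1).card ≤ r * r := by
      set R := Finset.univ.filter fun a : K => a ^ r = 1
      refine (Finset.card_le_mul_card_image (f := ψ) R r ?_).trans ?_
      · intro s hs
        obtain ⟨a₁, ha₁, rfl⟩ := Finset.mem_image.1 hs
        have hfib : ∀ a ∈ R.filter (fun a => ψ a = ψ a₁), ((a * a₁⁻¹ : K) : G) ∈ D := fun a ha =>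
          ⟨(a * a₁⁻¹).2, (hψ _).1 (by rw [map_mul, (Finset.mem_filter.1 ha).2, map_inv, mul_inv_cancel])⟩
        let f : K → (ZMod (Nat.card (zpowers z)))ˣ := fun a =>
          ψ ⟨x * ((a * a₁⁻¹ : K) : G) * x⁻¹, hxK _ (a * a₁⁻¹).2⟩
        rw [← Finset.card_image_of_injOn (f := f) (s := R.filter fun a => ψ a = ψ a₁)]
        · refine hroots r hr.pos _ fun s hs => ?_
          obtain ⟨a, ha, rfl⟩ := Finset.mem_image.1 hs
          have har : a ^ r = 1 := (Finset.mem_filter.1 (Finset.mem_filter.1 ha).1).2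
          have ha₁r : a₁ ^ r = 1 := (Finset.mem_filter.1 ha₁).2
          rw [← map_pow, show (⟨x * ((a * a₁⁻¹ : K) : G) * x⁻¹, hxK _ (a * a₁⁻¹).2⟩ : K) ^ r = 1
            from Subtype.ext ?_, map_one]
          have h0 : (a * a₁⁻¹) ^ r = 1 := by
            rw [Commute.mul_pow (Subtype.ext (c.A_comm hKp a.2 (inv_mem a₁.2)).eq), har, inv_pow,
              ha₁r, inv_one, one_mul]
          show (x * ((a * a₁⁻¹ : K) : G) * x⁻¹) ^ r = 1
          rw [conj_pow, ← SubmonoidClass.coe_pow, h0, OneMemClass.coe_one, mul_one, mul_inv_cancel]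
        · intro a ha b hb hab
          have := hinjD _ (hfib a ha) _ (hfib b hb) (a * a₁⁻¹).2 (b * a₁⁻¹).2 hab
          exact mul_right_cancel (Subtype.ext this)
      · refine Nat.mul_le_mul_left r (hroots r hr.pos _ fun s hs => ?_)
        obtain ⟨a, ha, rfl⟩ := Finset.mem_image.1 hs
        rw [← map_pow, (Finset.mem_filter.1 ha).2, map_one]
    have hcount : p * (r - 1) + 1 ≤ r * r := by
      have hne : ∀ j : ℕ, j < r - 1 → d ^ (j + 1) ≠ 1 := fun j hj h => by
        have := Nat.le_of_dvd j.succ_pos (hdo ▸ orderOf_dvd_of_pow_eq_one h)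
        omega
      let g : Option (Fin p × Fin (r - 1)) → K := fun o => o.elim 1 fun u =>
        ⟨x ^ (u.1 : ℕ) * d ^ ((u.2 : ℕ) + 1) * (x ^ (u.1 : ℕ))⁻¹, hpow _ _ (pow_mem hd.1 _)⟩
      have hg : Function.Injective g := by
        have hsym : ∀ i i' j j' : ℕ, i < i' → i' < p → j < r - 1 →
            x ^ i * d ^ (j + 1) * (x ^ i)⁻¹ ≠ x ^ i' * d ^ (j' + 1) * (x ^ i')⁻¹ := by
          intro i i' j j' hii hi' hj heq
          obtain ⟨m, rfl⟩ := Nat.exists_eq_add_of_le hii.le
          have h1 : d ^ (j + 1) = x ^ m * d ^ (j' + 1) * (x ^ m)⁻¹ := by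
            rw [pow_add x i m] at heq
            apply mul_left_cancel (a := x ^ i)
            apply mul_right_cancel (b := (x ^ i)⁻¹)
            rw [heq]
            simp [mul_assoc]
          refine hsep m (fun hd' => ?_) _ (pow_mem hd _) ?_ (h1 ▸ pow_mem hd _)
          · have := Nat.le_of_dvd (by omega) hd'
            omega
          · intro h0
            rw [h0, mul_one, mul_inv_cancel] at h1
            exact hne j hj h1
        intro a b hab
        match a, b with
        | none, none => rfl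
        | none, some ⟨i, j⟩ => exact absurd (congrArg Subtype.val hab).symm (by simpa [g] using hne j j.2)
        | some ⟨i, j⟩, none => exact absurd (congrArg Subtype.val hab) (by simpa [g] using hne j j.2)
        | some ⟨i, j⟩, some ⟨i', j'⟩ =>
          have hab : x ^ (i : ℕ) * d ^ ((j : ℕ) + 1) * (x ^ (i : ℕ))⁻¹ =
              x ^ (i' : ℕ) * d ^ ((j' : ℕ) + 1) * (x ^ (i' : ℕ))⁻¹ := congrArg Subtype.val hab
          rcases lt_trichotomy (i : ℕ) i' with h | h | h
          · exact absurd hab (hsym _ _ _ _ h i'.2 j.2)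
          · have hi : i = i' := Fin.ext h
            subst hi
            have h1 : d ^ ((j : ℕ) + 1) = d ^ ((j' : ℕ) + 1) := by simpa using hab
            have hlt : ∀ j : Fin (r - 1), (j : ℕ) + 1 < orderOf d := fun j => by
              have := j.2; rw [hdo]; omega
            have h2 := pow_injOn_Iio_orderOf (Set.mem_Iio.2 (hlt j)) (Set.mem_Iio.2 (hlt j')) h1
            rw [Fin.ext (show (j : ℕ) = j' by omega)]
          · exact absurd hab.symm (hsym _ _ _ _ h i.2 j'.2)
      have hle := Finset.card_le_card (s := Finset.univ.image g)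
        (t := Finset.univ.filter fun a : K => a ^ r = 1) (by
          intro a ha
          obtain ⟨o, -, rfl⟩ := Finset.mem_image.1 ha
          refine Finset.mem_filter.2 ⟨Finset.mem_univ _, ?_⟩
          rcases o with _ | ⟨i, j⟩
          · exact one_pow r
          · refine Subtype.ext ?_
            show (x ^ (i : ℕ) * d ^ ((j : ℕ) + 1) * (x ^ (i : ℕ))⁻¹) ^ r = 1
            rw [conj_pow, ← pow_mul, mul_comm _ r, pow_mul, show d ^ r = 1 from hdo ▸ pow_orderOf_eq_one d, one_pow,
              mul_one, mul_inv_cancel])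
      rw [Finset.card_image_of_injective _ hg, Finset.card_univ, Fintype.card_option,
        Fintype.card_prod, Fintype.card_fin, Fintype.card_fin] at hle
      exact hle.trans hroot2
    have hrp : r ∣ p - 1 := by
      have h1 : ψ ⟨x * d * x⁻¹, hxK d hd.1⟩ ≠ 1 := fun h =>
        hsep 1 (fun h' => hp.out.ne_one (Nat.dvd_one.1 h')) d hd
          (fun e => hr.ne_one (by rw [← hdo, e, orderOf_one]))
          (by rw [pow_one]; exact ⟨hxK d hd.1, (hψ _).1 h⟩)
      have h2 : ψ ⟨x * d * x⁻¹, hxK d hd.1⟩ ^ r = 1 := by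
        rw [← map_pow, show (⟨x * d * x⁻¹, hxK d hd.1⟩ : K) ^ r = 1 from Subtype.ext (by
          show (x * d * x⁻¹) ^ r = 1
          rw [conj_pow, ← hdo, pow_orderOf_eq_one, mul_one, mul_inv_cancel]), map_one]
      have h3 := orderOf_eq_prime h2 h1
      have h4 : orderOf (ψ ⟨x * d * x⁻¹, hxK d hd.1⟩) ∣ p - 1 := by
        refine (_root_.orderOf_dvd_natCard _).trans (dvd_of_eq ?_)
        rw [Nat.card_eq_fintype_card, ZMod.card_units_eq_totient, hcardz, Nat.totient_prime hp.out]
      exact h3 ▸ h4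
    have hrle : r ≤ p - 1 := Nat.le_of_dvd (by omega) hrp
    have hp3' : p = 3 ∧ r = 2 := by
      have h4 : p ≤ r + 1 := by
        obtain ⟨r', rfl⟩ : ∃ r', r = r' + 2 := ⟨r - 2, by have := hr.two_le; omega⟩
        rw [show r' + 2 - 1 = r' + 1 from rfl] at hcount
        by_contra h
        nlinarith
      have hreq : r = p - 1 := by omega
      have hodd : Odd p := hp.out.odd_of_ne_two c.hp2
      have : 2 ∣ r := by rcases hodd with ⟨w, hw⟩; exact ⟨w, by omega⟩
      have := (Nat.prime_dvd_prime_iff_eq Nat.prime_two hr).1 this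
      omega
    obtain ⟨rfl, rfl⟩ := hp3'
    have hu2 : Nat.card (ZMod (Nat.card (zpowers z)))ˣ = 2 := by
      rw [Nat.card_eq_fintype_card, ZMod.card_units_eq_totient, hcardz, Nat.totient_prime hp.out]
    have hD2 : Nat.card D = 2 := by
      refine le_antisymm ?_ (Nat.le_of_dvd Nat.card_pos hrD)
      rw [← hu2]
      exact Nat.card_le_card_of_injective (fun a : D => ψ ⟨x * a * x⁻¹, hxK a a.2.1⟩)
        fun a b h => Subtype.ext (hinjD _ a.2 _ b.2 a.2.1 b.2.1 h)
    have hA4 : Nat.card K = 4 := by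
      have hk : Nat.card ψ.ker = Nat.card D := Nat.card_congr
        { toFun := fun a => ⟨(a : K), (a : K).2, (hψ _).1 a.2⟩
          invFun := fun a => ⟨⟨a, a.2.1⟩, (hψ _).2 a.2.2⟩
          left_inv := fun a => rfl
          right_inv := fun a => rfl }
      have h1 : Nat.card K = Nat.card D * Nat.card ψ.range := by
        rw [← Subgroup.card_mul_index ψ.ker, hk, Subgroup.index_ker]
      have h2 : Nat.card ψ.range ≤ 2 := hu2 ▸ Nat.card_le_card_of_injective _ Subtype.val_injective
      have h3 : Nat.card D ≠ Nat.card K := fun h => hDA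
        ((Subgroup.eq_of_le_of_card_ge inf_le_left h.ge : D = K) ▸ inf_le_right)
      have h4 : 0 < Nat.card ψ.range := Nat.card_pos
      rw [hD2] at h1 h3
      interval_cases h5 : Nat.card ψ.range <;> omega
    have hexp : ∀ a ∈ K, a ^ 2 = 1 := by
      have h1 : 4 ≤ (Finset.univ.filter fun a : K => a ^ 2 = 1).card := by
        let g : Fin 4 → K := ![1, ⟨d, hd.1⟩, ⟨x * d * x⁻¹, hxK d hd.1⟩,
          ⟨x ^ 2 * d * (x ^ 2)⁻¹, hpow 2 d hd.1⟩]
        have hd1 : d ≠ 1 := fun e => by rw [e, orderOf_one] at hdo; omega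
        have e1 : x * d * x⁻¹ ≠ d := fun e =>
          hsep 1 (by decide) d hd hd1 (by rw [pow_one, e]; exact hd)
        have e2 : x ^ 2 * d * (x ^ 2)⁻¹ ≠ d := fun e =>
          hsep 2 (by decide) d hd hd1 (by rw [e]; exact hd)
        have e3 : x ^ 2 * d * (x ^ 2)⁻¹ ≠ x * d * x⁻¹ := fun e => e1 (by
          apply mul_left_cancel (a := x); apply mul_right_cancel (b := x⁻¹)
          refine Eq.trans ?_ e
          simp [pow_two, mul_assoc])
        have hg : Function.Injective g := by
          intro i j hij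
          have hij : ((g i : K) : G) = g j := congrArg Subtype.val hij
          fin_cases i <;> fin_cases j <;>
            first
              | rfl
              | (exfalso; simp [g, hd1, Ne.symm hd1, show x * d * x⁻¹ ≠ 1 from fun e => hd1 (by simpa using e), show (1 : G) ≠ x * d * x⁻¹ from fun e => hd1 (by simpa using e.symm), show x ^ 2 * d * (x ^ 2)⁻¹ ≠ 1 from fun e => hd1 (by simpa using e), show (1 : G) ≠ x ^ 2 * d * (x ^ 2)⁻¹ from fun e => hd1 (by simpa using e.symm), e1, Ne.symm e1, e2, Ne.symm e2, e3, Ne.symm e3] at hij)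
        refine le_trans ?_ (Finset.card_le_card (s := Finset.univ.image g) ?_)
        · rw [Finset.card_image_of_injective _ hg, Finset.card_univ, Fintype.card_fin]
        · intro a ha
          obtain ⟨i, -, rfl⟩ := Finset.mem_image.1 ha
          refine Finset.mem_filter.2 ⟨Finset.mem_univ _, Subtype.ext ?_⟩
          have hd2 : d ^ 2 = 1 := by rw [← hdo, pow_orderOf_eq_one]
          show ((g i : K) : G) ^ 2 = 1
          fin_cases i <;> simp [g, hd2, conj_pow]
      intro a ha
      have h2 : (Finset.univ.filter fun a : K => a ^ 2 = 1) = Finset.univ :=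
        Finset.eq_of_subset_of_card_le (Finset.subset_univ _)
          (by rw [Finset.card_univ, ← Nat.card_eq_fintype_card, hA4]; exact h1)
      have h3 : (⟨a, ha⟩ : K) ∈ Finset.univ.filter fun a : K => a ^ 2 = 1 :=
        (Finset.ext_iff.1 h2 _).2 (Finset.mem_univ _)
      exact congrArg Subtype.val (Finset.mem_filter.1 h3).2
    have hq2 : q = 2 := by
      haveI := Fact.mk hq
      obtain ⟨k, hk⟩ := IsPGroup.iff_card.mp hBq
      have h4 : Nat.card B ∣ 2 ^ 2 := (card_dvd_of_le hBA).trans (dvd_of_eq (by rw [hA4]; rfl))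
      rcases k with _ | k
      · exact absurd (by rw [hk, pow_zero]; exact one_dvd _) hBD
      · exact (Nat.prime_dvd_prime_iff_eq hq Nat.prime_two).1
          (hq.dvd_of_dvd_pow ((hk ▸ dvd_pow_self q k.succ_ne_zero).trans h4))
    subst hq2
    have hTA : (T : Subgroup G) = K := by
      have : IsPGroup 2 K := IsPGroup.of_card (n := 2) (by rw [hA4]; rfl)
      exact (T.3 this hTK).symm
    -- involutions
    have hd1 : d ≠ 1 := fun e => by rw [e, orderOf_one] at hdo; omega
    have hCd : centralizer ({d} : Set G) = c.N := c.cent_D hAp hdec hd.1 hd.2 hd1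
    have hDd : ∀ a ∈ D, a = 1 ∨ a = d := by
      intro a ha
      haveI : Fintype D := Fintype.ofFinite _
      by_contra h
      push Not at h
      have h2 : ({1, d, a} : Finset G) ⊆ (D : Set G).toFinset := by
        intro y hy
        rw [Set.mem_toFinset]
        simp only [Finset.mem_insert, Finset.mem_singleton] at hy
        rcases hy with rfl | rfl | rfl
        exacts [one_mem _, hd, ha]
      have h3 := Finset.card_le_card h2
      rw [Set.toFinset_card, Fintype.card_eq_nat_card] at h3
      rw [Finset.card_eq_three.2 ⟨1, d, a, hd1.symm, h.1.symm, h.2.symm, rfl⟩] at h3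
      have : Nat.card (D : Set G) = 2 := hD2
      omega
    have hconjd : ∀ t : G, orderOf t = 2 → ∃ g : G, g * t * g⁻¹ = d := by
      intro t ht
      obtain ⟨g, hg⟩ := exists_sylow_conj T (isPGroup_orderOf (p := 2) (k := 1) (by rw [pow_one, ht]))
      have hgt := hg t (mem_zpowers t)
      rw [hTA] at hgt
      -- the elements of `K`
      have : g * t * g⁻¹ = d ∨ g * t * g⁻¹ = x * d * x⁻¹ ∨ g * t * g⁻¹ = x ^ 2 * d * (x ^ 2)⁻¹ := by
        by_contra hcon
        push Not at hcon
        have h1 : ({1, d, x * d * x⁻¹, x ^ 2 * d * (x ^ 2)⁻¹, g * t * g⁻¹} : Finset G) ⊆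
            (K : Set G).toFinset := by
          intro y hy
          rw [Set.mem_toFinset]
          simp only [Finset.mem_insert, Finset.mem_singleton] at hy
          rcases hy with rfl | rfl | rfl | rfl | rfl
          exacts [one_mem _, hd.1, hxK d hd.1, hpow 2 d hd.1, hgt]
        have h2 := Finset.card_le_card h1
        rw [Set.toFinset_card, Fintype.card_eq_nat_card] at h2
        have hK4 : Nat.card (K : Set G) = 4 := hA4
        have e1 : x * d * x⁻¹ ≠ d := fun e =>
          hsep 1 (by decide) d hd hd1 (by rw [pow_one, e]; exact hd)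
        have e2 : x ^ 2 * d * (x ^ 2)⁻¹ ≠ d := fun e =>
          hsep 2 (by decide) d hd hd1 (by rw [e]; exact hd)
        have e3 : x ^ 2 * d * (x ^ 2)⁻¹ ≠ x * d * x⁻¹ := fun e => e1 (by
          apply mul_left_cancel (a := x); apply mul_right_cancel (b := x⁻¹)
          refine Eq.trans ?_ e
          simp [pow_two, mul_assoc])
        have ht1 : g * t * g⁻¹ ≠ 1 := fun e => by
          rw [← orderOf_conj' g t, e, orderOf_one] at ht; omega
        have n1 : (1 : G) ∉ ({d, x * d * x⁻¹, x ^ 2 * d * (x ^ 2)⁻¹, g * t * g⁻¹} : Finset G) := by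
          simp only [Finset.mem_insert, Finset.mem_singleton, not_or]
          exact ⟨hd1.symm, fun e => hd1 (by simpa using e.symm), fun e => hd1 (by simpa using e.symm), ht1.symm⟩
        rw [Finset.card_insert_of_notMem n1, Finset.card_insert_of_notMem (by
          simp only [Finset.mem_insert, Finset.mem_singleton, not_or]
          exact ⟨e1.symm, e2.symm, hcon.1.symm⟩), Finset.card_insert_of_notMem (by
          simp only [Finset.mem_insert, Finset.mem_singleton, not_or]
          exact ⟨e3.symm, hcon.2.1.symm⟩), Finset.card_insert_of_notMem (by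
          simp only [Finset.mem_singleton]
          exact hcon.2.2.symm), Finset.card_singleton] at h2
        omega
      rcases this with h | h | h
      · exact ⟨g, h⟩
      · exact ⟨x⁻¹ * g, by
          calc x⁻¹ * g * t * (x⁻¹ * g)⁻¹ = x⁻¹ * (g * t * g⁻¹) * x := by group
            _ = d := by rw [h]; group⟩
      · exact ⟨(x ^ 2)⁻¹ * g, by
          calc (x ^ 2)⁻¹ * g * t * ((x ^ 2)⁻¹ * g)⁻¹ = (x ^ 2)⁻¹ * (g * t * g⁻¹) * x ^ 2 := by group
            _ = d := by rw [h]; group⟩
    have hCinv : ∀ w ∈ c.C, orderOf w = 2 → w = d := by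
      intro w hw hwo
      rcases hDd w (hCp' w hw (by rw [hwo]; decide)) with h | h
      · rw [h, orderOf_one] at hwo; omega
      · exact h
    haveI : Fintype G := Fintype.ofFinite G
    let V := {t : G // orderOf t = 2}
    let R : V → V → Prop := fun t u => t ≠ u ∧ Commute (t : G) (u : G)
    have hVd : orderOf d = 2 := hdo
    haveI : Nonempty V := ⟨⟨d, hVd⟩⟩
    have hreg : ∀ v : V, Nat.card {w // R v w} = Nat.card {w // R ⟨d, hVd⟩ w} := by
      intro v
      obtain ⟨g, hg⟩ := hconjd v v.2
      refine Nat.card_congr (Equiv.subtypeEquiv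
        ((MulAut.conj g).toEquiv.subtypeEquiv fun t => by
          show orderOf t = 2 ↔ orderOf (g * t * g⁻¹) = 2
          rw [orderOf_conj']) ?_)
      intro w
      show (v ≠ w ∧ Commute (v : G) w) ↔
        ((⟨d, hVd⟩ : V) ≠ ⟨g * w * g⁻¹, _⟩ ∧ Commute d (g * w * g⁻¹))
      simp only [ne_eq, Subtype.ext_iff, ← hg, Commute.conj_iff, mul_left_inj, mul_right_inj]
      exact and_congr (not_congr Subtype.ext_iff) Iff.rfl
    have hk3 : 3 ≤ Nat.card {w // R ⟨d, hVd⟩ w} := by
      have ha : x * d * x⁻¹ ∈ K ∧ x * d * x⁻¹ ∉ c.C := ⟨hxK d hd.1, fun h =>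
        hsep 1 (by decide) d hd hd1 (by rw [pow_one]; exact ⟨hxK d hd.1, h⟩)⟩
      set a := x * d * x⁻¹ with hadef
      have hao : orderOf a = 2 := by rw [orderOf_conj', hdo]
      have hf : ∀ v : (c.P : Subgroup G), ∀ h : orderOf ((v : G) * a * (v : G)⁻¹) = 2,
          R ⟨d, hVd⟩ ⟨(v : G) * a * (v : G)⁻¹, h⟩ := by
        intro v hv
        refine ⟨fun e => ha.2 ?_, ?_⟩
        · have e : d = (v : G) * a * (v : G)⁻¹ := congrArg Subtype.val e
          have : a = (v : G)⁻¹ * d * v := by rw [e]; group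
          rw [this]
          exact mul_mem (mul_mem (inv_mem (c.PC v.2)) hd.2) (c.PC v.2)
        · have h1 : Commute d (v : G) := (mem_centralizer_iff.1 hd.2 v v.2).symm
          exact (h1.mul_right (c.A_comm hKp hd.1 ha.1)).mul_right h1.inv_right
      refine le_trans ?_ (Nat.card_le_card_of_injective (α := (c.P : Subgroup G))
        (fun v => (⟨⟨(v : G) * a * (v : G)⁻¹, by rw [orderOf_conj', hao]⟩, hf v _⟩ :
          {w // R ⟨d, hVd⟩ w})) ?_)
      · obtain ⟨n, hn⟩ := IsPGroup.iff_card.mp c.P.2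
        rw [hn]
        rcases n with _ | n
        · exact absurd (Subgroup.card_eq_one.1 hn ▸ inferInstance) c.notNormal
        · calc 3 = 3 ^ 1 := rfl
            _ ≤ 3 ^ (n + 1) := Nat.pow_le_pow_right (by norm_num) (by omega)
      · intro v w hvw
        have h : (v : G) * a * (v : G)⁻¹ = w * a * (w : G)⁻¹ :=
          congrArg (fun s : {w // R ⟨d, hVd⟩ w} => ((s : V) : G)) hvw
        by_contra hne
        apply ha.2
        have hv1 : (w : G)⁻¹ * v ≠ 1 := fun e => hne (Subtype.ext (inv_mul_eq_one.1 e).symm)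
        rw [← c.cent_eq (mul_mem (inv_mem w.2) v.2) hv1, mem_centralizer_singleton_iff]
        calc a * ((w : G)⁻¹ * v) = (w : G)⁻¹ * ((w : G) * a * (w : G)⁻¹) * v := by group
          _ = (w : G)⁻¹ * v * a := by rw [← h]; group
    refine friendship R (fun v h => h.1 rfl) _ hk3 hreg ?_ fun v w h => ⟨h.1.symm, h.2.symm⟩
    rintro ⟨t, ht⟩ ⟨u, hu⟩ htu
    have htu : t ≠ u := fun e => htu (Subtype.ext e)
    by_cases hcm : Commute t u
    · have hne1 : t * u ≠ 1 := fun e => htu (by rw [eq_inv_of_mul_eq_one_left e, order_inv hu])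
      have htuo : orderOf (t * u) = 2 := orderOf_eq_prime (by
        rw [hcm.mul_pow, ← ht, pow_orderOf_eq_one, ht, ← hu, pow_orderOf_eq_one, one_mul]) hne1
      have ht2 : t * t = 1 := by rw [← pow_two, ← ht, pow_orderOf_eq_one]
      have hu2' : u * u = 1 := by rw [← pow_two, ← hu, pow_orderOf_eq_one]
      rw [Nat.card_eq_one_iff_unique]
      constructor
      · have huniq : ∀ s : G, orderOf s = 2 → s ≠ t → s ≠ u → Commute t s → Commute s u → s = t * u := by
          intro s hs hst hsu hts hsu'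
          by_contra hne
          let F : Subgroup G := closure {t, u, s}
          haveI : IsMulCommutative F := Subgroup.isMulCommutative_closure (fun a ha b hb => by
            simp only [Set.mem_insert_iff, Set.mem_singleton_iff] at ha hb
            rcases ha with rfl | rfl | rfl <;> rcases hb with rfl | rfl | rfl <;>
              first
                | rfl
                | exact hcm.eq
                | exact hcm.eq.symm
                | exact hts.eq
                | exact hts.eq.symm
                | exact hsu'.eq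
                | exact hsu'.eq.symm)
          have hF2 : IsPGroup 2 F := by
            intro a
            refine ⟨1, ?_⟩
            rw [pow_one]
            refine Subtype.ext ?_
            show (a : G) ^ 2 = 1
            refine Subgroup.closure_induction (p := fun y _ => y ^ 2 = 1) ?_ (one_pow 2) ?_ ?_ a.2
            · intro y hy
              simp only [Set.mem_insert_iff, Set.mem_singleton_iff] at hy
              rcases hy with rfl | rfl | rfl
              exacts [by rw [← ht, pow_orderOf_eq_one], by rw [← hu, pow_orderOf_eq_one],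
                by rw [← hs, pow_orderOf_eq_one]]
            · intro y w hy hw h1 h2
              rw [Commute.mul_pow (comm_mem hy hw), h1, h2, one_mul]
            · intro y _ h1
              rw [inv_pow, h1, inv_one]
          obtain ⟨T', hT'⟩ := hF2.exists_le_sylow
          have hc4 : Nat.card (T' : Subgroup G) = 4 := by
            rw [T'.card_eq_multiplicity, ← T.card_eq_multiplicity, hTA, hA4]
          have h5 : ({1, t, u, t * u, s} : Finset G) ⊆ ((T' : Subgroup G) : Set G).toFinset := by
            intro y hy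
            rw [Set.mem_toFinset]
            have mt : t ∈ F := subset_closure (by simp)
            have mu : u ∈ F := subset_closure (by simp)
            simp only [Finset.mem_insert, Finset.mem_singleton] at hy
            rcases hy with rfl | rfl | rfl | rfl | rfl
            exacts [one_mem _, hT' mt, hT' mu, hT' (mul_mem mt mu),
              hT' (subset_closure (by simp))]
          have h6 := Finset.card_le_card h5
          rw [Set.toFinset_card, Fintype.card_eq_nat_card] at h6
          have hT4 : Nat.card ((T' : Subgroup G) : Set G) = 4 := hc4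
          have t1 : t ≠ 1 := fun e => by rw [e, orderOf_one] at ht; omega
          have u1 : u ≠ 1 := fun e => by rw [e, orderOf_one] at hu; omega
          have s1 : s ≠ 1 := fun e => by rw [e, orderOf_one] at hs; omega
          rw [Finset.card_insert_of_notMem (by
              simp only [Finset.mem_insert, Finset.mem_singleton, not_or]
              exact ⟨t1.symm, u1.symm, hne1.symm, s1.symm⟩), Finset.card_insert_of_notMem (by
              simp only [Finset.mem_insert, Finset.mem_singleton, not_or]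
              exact ⟨htu, fun e => u1 (left_eq_mul.1 e), hst.symm⟩), Finset.card_insert_of_notMem (by
              simp only [Finset.mem_insert, Finset.mem_singleton, not_or]
              exact ⟨fun e => t1 (right_eq_mul.1 e), hsu.symm⟩), Finset.card_insert_of_notMem (by
              simp only [Finset.mem_singleton]
              exact Ne.symm hne), Finset.card_singleton] at h6
          omega
        constructor
        rintro ⟨⟨a, ha⟩, ⟨ha1, ha2⟩, ⟨ha3, ha4⟩⟩ ⟨⟨b, hb⟩, ⟨hb1, hb2⟩, ⟨hb3, hb4⟩⟩
        refine Subtype.ext (Subtype.ext ?_)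
        show a = b
        rw [huniq a ha (fun e => ha1 (Subtype.ext e.symm)) (fun e => ha3 (Subtype.ext e)) ha2 ha4,
          huniq b hb (fun e => hb1 (Subtype.ext e.symm)) (fun e => hb3 (Subtype.ext e)) hb2 hb4]
      · have t1 : t ≠ 1 := fun e => by rw [e, orderOf_one] at ht; omega
        have u1 : u ≠ 1 := fun e => by rw [e, orderOf_one] at hu; omega
        exact ⟨⟨⟨t * u, htuo⟩, ⟨fun e => u1 (left_eq_mul.1 (congrArg Subtype.val e)),
          (Commute.refl t).mul_right hcm⟩, ⟨fun e => t1 (mul_eq_right.1 (congrArg Subtype.val e)),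
          hcm.mul_left (Commute.refl u)⟩⟩⟩
    · have hdv : 3 ∣ orderOf (t * u) := by
        by_contra h
        exact hcm (commute_of_coprime hp.out c.hp2 c.ab ht hu h)
      set n := orderOf (t * u) / 3 with hn
      have hy := orderOf_pow_prime_of_dvd (t * u) hdv
      rw [← hn] at hy
      set y := (t * u) ^ n with hy'
      have hy1 : y ≠ 1 := fun e => by rw [e, orderOf_one] at hy; omega
      obtain ⟨hit, hiu⟩ := inverts_pow ht hu n
      rw [← hy'] at hit hiu
      obtain ⟨g, hg⟩ := c.exists_conj_P hy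
      have hCy := c.cent_conj hy1 hg
      set s := g⁻¹ * d * g with hs'
      have hso : orderOf s = 2 := by
        rw [hs', ← orderOf_conj' g, show g * (g⁻¹ * d * g) * g⁻¹ = d by group, hdo]
      have hsy : s ∈ centralizer ({y} : Set G) :=
        (hCy s).2 (by rw [hs', show g * (g⁻¹ * d * g) * g⁻¹ = d by group]; exact hd.2)
      have huniq : ∀ w : G, orderOf w = 2 → w ∈ centralizer ({y} : Set G) → w = s := by
        intro w hw hwy
        have := hCinv _ ((hCy w).1 hwy) (by rw [orderOf_conj', hw])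
        rw [hs', ← this]
        group
      have hfix : ∀ v : G, v * y * v⁻¹ = y⁻¹ → Commute v s := by
        intro v hv
        have h1 : v * s * v⁻¹ ∈ centralizer ({y} : Set G) := by
          rw [mem_centralizer_singleton_iff]
          have hy2 : y = v * y⁻¹ * v⁻¹ := by rw [← conj_inv, hv, inv_inv]
          rw [hy2, conj_mul, conj_mul]
          exact congrArg (fun e => v * e * v⁻¹)
            (Commute.inv_right (mem_centralizer_singleton_iff.1 hsy : Commute s y)).eq
        have h2 := huniq _ (by rw [orderOf_conj', hso]) h1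
        exact mul_inv_eq_iff_eq_mul.1 h2
      have hyy : y⁻¹ ≠ y := fun e => by
        have : orderOf y ∣ 2 := orderOf_dvd_of_pow_eq_one (by
          rw [pow_two]; nth_rw 1 [← e]; exact inv_mul_cancel y)
        rw [hy] at this
        exact absurd this (by decide)
      have hst : t ≠ s := fun e => hyy (by
        have : Commute t y := e ▸ mem_centralizer_singleton_iff.1 hsy
        rw [← hit, this.eq, mul_inv_cancel_right])
      have hsu : s ≠ u := fun e => hyy (by
        have : Commute u y := e ▸ mem_centralizer_singleton_iff.1 hsy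
        rw [← hiu, this.eq, mul_inv_cancel_right])
      rw [Nat.card_eq_one_iff_unique]
      refine ⟨⟨?_⟩, ⟨⟨⟨s, hso⟩, ⟨fun e => hst (congrArg Subtype.val e), hfix t hit⟩,
        fun e => hsu (congrArg Subtype.val e), (hfix u hiu).symm⟩⟩⟩
      have hw : ∀ w : G, orderOf w = 2 → Commute t w → Commute w u → w = s := fun w hw h1 h2 =>
        huniq w hw (mem_centralizer_singleton_iff.2 ((h1.symm.mul_right h2).pow_right n).eq)
      rintro ⟨⟨a, ha⟩, ⟨-, ha2⟩, ⟨-, ha4⟩⟩ ⟨⟨b, hb⟩, ⟨-, hb2⟩, ⟨-, hb4⟩⟩
      refine Subtype.ext (Subtype.ext ?_)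
      show a = b
      rw [hw a ha ha2 ha4, hw b hb hb2 hb4]
  · -- `D = ⊥`: centralizers are abelian
    haveI : IsMulCommutative (c.P : Subgroup G) := inferInstance
    have hCP : c.C = (c.P : Subgroup G) := by
      refine le_antisymm (fun g hg => ?_) c.PC
      obtain ⟨v, hv, a, ha, rfl⟩ := hCdec g hg
      rw [hDbot, mem_bot] at ha
      rwa [ha, mul_one]
    have hpc : ∀ y : G, orderOf y = p → ∀ b ∈ centralizer ({y} : Set G), ¬ p ∣ orderOf b → b = 1 := by
      intro y hy b hb hbp
      have hy1 : y ≠ 1 := fun e => hp.out.ne_one (by rw [← hy, e, orderOf_one])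
      obtain ⟨g, hg⟩ := c.exists_conj_P hy
      have h := (c.cent_conj hy1 hg b).1 hb
      rw [hCP] at h
      have := eq_one_of_p_of_coprime c.P.2 h (by rwa [orderOf_conj'])
      simpa using this
    have hcent_ab : ∀ a : G, a ≠ 1 → ∀ b ∈ centralizer ({a} : Set G),
        ∀ b' ∈ centralizer ({a} : Set G), b * b' = b' * b := by
      intro a ha b hb b' hb'
      by_cases hap : p ∣ orderOf a
      · have hy := orderOf_pow_prime_of_dvd a hap
        set y := a ^ (orderOf a / p)
        have hy1 : y ≠ 1 := fun e => hp.out.ne_one (by rw [← hy, e, orderOf_one])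
        obtain ⟨g, hg⟩ := c.exists_conj_P hy
        have hmem : ∀ w ∈ centralizer ({a} : Set G), g * w * g⁻¹ ∈ (c.P : Subgroup G) := fun w hw => by
          rw [← hCP, ← c.cent_conj hy1 hg, mem_centralizer_singleton_iff]
          exact ((show Commute w a from mem_centralizer_singleton_iff.1 hw).pow_right _).eq
        exact ((Commute.conj_iff g).1 (comm_mem (hmem b hb) (hmem b' hb'))).eq
      · have hp' : ¬ p ∣ Nat.card (centralizer ({a} : Set G)) := fun h => by
          obtain ⟨⟨y, hyC⟩, hy⟩ := exists_prime_orderOf_dvd_card' (G := centralizer ({a} : Set G)) p h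
          rw [Subgroup.orderOf_mk] at hy
          exact ha (hpc y hy a (mem_centralizer_singleton_iff.2
            (mem_centralizer_singleton_iff.1 hyC).symm) hap)
        haveI := c.ab _ hp'
        exact (comm_mem hb hb').eq
    have hnotab : ¬ ∀ a b : G, a * b = b * a := fun h => c.notNormal
      ⟨fun n hn g => by rwa [show g * n * g⁻¹ = n by rw [h g n, mul_inv_cancel_right]]⟩
    by_cases heven : 2 ∣ Nat.card G
    swap
    · haveI : Group.IsSolvable G := Cfsg.Agent.S0182.result
        (Nat.not_even_iff_odd.1 (fun h => heven h.two_dvd)) hcent_ab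
      rcases c.simp (commutator G) inferInstance with h | h
      · refine hnotab fun a b => ?_
        have : a * b * a⁻¹ * b⁻¹ ∈ commutator G :=
          Subgroup.commutator_mem_commutator (mem_top a) (mem_top b)
        rw [h, mem_bot, mul_inv_eq_one, mul_inv_eq_iff_eq_mul] at this
        exact this
      · have : Subsingleton G := by
          by_contra hs
          rw [not_subsingleton_iff_nontrivial] at hs
          exact (Group.IsSolvable.commutator_lt_top_of_nontrivial G).ne h
        exact hnotab fun a b => Subsingleton.elim _ _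
    have hinv : ∀ t : G, orderOf t = 2 → ∃ u : G, orderOf u = 2 ∧ ¬ Commute t u := by
      intro t ht
      by_contra hno
      push Not at hno
      have htop : closure {u : G | orderOf u = 2} = ⊤ := by
        have hn : (closure {u : G | orderOf u = 2}).Normal := by
          refine ⟨fun n hn g => ?_⟩
          have : (closure {u : G | orderOf u = 2}).map (MulAut.conj g).toMonoidHom ≤
              closure {u : G | orderOf u = 2} := by
            rw [MonoidHom.map_closure, closure_le]
            rintro _ ⟨u, hu, rfl⟩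
            refine subset_closure ?_
            show orderOf (g * u * g⁻¹) = 2
            rw [orderOf_conj']; exact hu
          exact this ⟨n, hn, rfl⟩
        refine (c.simp _ hn).resolve_left fun h => ?_
        have : t ∈ (⊥ : Subgroup G) := h ▸ subset_closure ht
        rw [mem_bot] at this
        rw [this, orderOf_one] at ht
        omega
      have hle : closure {u : G | orderOf u = 2} ≤ centralizer ({t} : Set G) :=
        (closure_le _).2 fun u hu => mem_centralizer_singleton_iff.2 (hno u hu).symm.eq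
      rw [htop, top_le_iff] at hle
      have := not_center c.simp c.notNormal hle
      rw [this, orderOf_one] at ht
      omega
    obtain ⟨t₁, ht₁⟩ := exists_prime_orderOf_dvd_card' (G := G) 2 heven
    -- every involution inverts an element of order `p`
    have hinvert : ∀ t u : G, orderOf t = 2 → orderOf u = 2 → ¬ Commute t u →
        ∃ g y : G, orderOf y = p ∧ g * y * g⁻¹ ∈ (c.P : Subgroup G) ∧
          g * t * g⁻¹ ∈ c.N ∧ g * u * g⁻¹ ∈ c.N := by
      intro t u ht hu htu
      have hdv : p ∣ orderOf (t * u) := by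
        by_contra h
        exact htu (commute_of_coprime hp.out c.hp2 c.ab ht hu h)
      have hy := orderOf_pow_prime_of_dvd (t * u) hdv
      set n := orderOf (t * u) / p
      set y := (t * u) ^ n with hy'
      have hy1 : y ≠ 1 := fun e => hp.out.ne_one (by rw [← hy, e, orderOf_one])
      obtain ⟨g, hg⟩ := c.exists_conj_P hy
      obtain ⟨hit, hiu⟩ := inverts_pow ht hu n
      rw [← hy'] at hit hiu
      refine ⟨g, y, hy, hg, ?_, ?_⟩ <;>
        refine c.mem_N_of_conj hg (by simpa using hy1) ?_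
      · rw [show g * t * g⁻¹ * (g * y * g⁻¹) * (g * t * g⁻¹)⁻¹ = g * (t * y * t⁻¹) * g⁻¹ by group,
          hit, ← conj_inv]
        exact inv_mem hg
      · rw [show g * u * g⁻¹ * (g * y * g⁻¹) * (g * u * g⁻¹)⁻¹ = g * (u * y * u⁻¹) * g⁻¹ by group,
          hiu, ← conj_inv]
        exact inv_mem hg
    -- the involution `t` of `A`
    have hPodd : ¬ 2 ∣ Nat.card (c.P : Subgroup G) := by
      obtain ⟨n, hn⟩ := IsPGroup.iff_card.mp c.P.2
      rw [hn]
      exact fun h => c.hp2 ((Nat.prime_dvd_prime_iff_eq Nat.prime_two hp.out).1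
        (Nat.prime_two.dvd_of_dvd_pow h)).symm
    have hA2 : 2 ∣ Nat.card A := by
      obtain ⟨u, hu, htu⟩ := hinv t₁ ht₁
      obtain ⟨g, y, -, -, hgt, -⟩ := hinvert t₁ u ht₁ hu htu
      have : 2 ∣ Nat.card c.N := by
        rw [← ht₁, ← orderOf_conj' g t₁]
        exact Subgroup.orderOf_dvd_natCard _ hgt
      rw [hNcard] at this
      exact ((Nat.prime_two.coprime_iff_not_dvd).2 hPodd).dvd_of_dvd_mul_left this
    obtain ⟨⟨t, htA⟩, ht⟩ := exists_prime_orderOf_dvd_card' (G := A) 2 hA2
    rw [Subgroup.orderOf_mk] at ht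
    have hψinj : Function.Injective ψ := by
      rw [← MonoidHom.ker_eq_bot_iff, Subgroup.eq_bot_iff_forall]
      intro a ha
      have : (a : G) ∈ D := ⟨a.2, (hψ a).1 ha⟩
      rw [hDbot, mem_bot] at this
      exact Subtype.ext this
    have huniqA : ∀ a ∈ A, a ^ 2 = 1 → a = 1 ∨ a = t := by
      intro a ha ha2
      by_contra h
      push Not at h
      have hle := hroots 2 (by norm_num)
        (({1, ⟨t, htA⟩, ⟨a, ha⟩} : Finset A).image ψ) (by
          intro s hs
          obtain ⟨w, hw, rfl⟩ := Finset.mem_image.1 hs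
          rw [← map_pow, show w ^ 2 = 1 from ?_, map_one]
          simp only [Finset.mem_insert, Finset.mem_singleton] at hw
          rcases hw with rfl | rfl | rfl
          exacts [one_pow 2, Subtype.ext (by rw [SubmonoidClass.coe_pow]; exact (by rw [← ht, pow_orderOf_eq_one] : t ^ 2 = 1)),
            Subtype.ext (by rw [SubmonoidClass.coe_pow]; exact ha2)])
      have e1 : (1 : A) ≠ ⟨t, htA⟩ := by
        intro e
        have : t = 1 := (congrArg Subtype.val e).symm
        rw [this, orderOf_one] at ht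
        omega
      have e2 : (1 : A) ≠ ⟨a, ha⟩ := fun e => h.1 (congrArg Subtype.val e).symm
      have e3 : (⟨t, htA⟩ : A) ≠ ⟨a, ha⟩ := fun e => h.2 (congrArg Subtype.val e).symm
      rw [Finset.card_image_of_injective _ hψinj, Finset.card_insert_of_notMem (by
        simp only [Finset.mem_insert, Finset.mem_singleton, not_or]; exact ⟨e1, e2⟩),
        Finset.card_insert_of_notMem (by simp only [Finset.mem_singleton]; exact e3),
        Finset.card_singleton] at hle
      omega
    have ht2 : t ^ 2 = 1 := by rw [← ht, pow_orderOf_eq_one]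
    have htneg : ∀ v ∈ (c.P : Subgroup G), t * v * t⁻¹ = v⁻¹ := by
      intro v hv
      have htv : t * v * t⁻¹ ∈ (c.P : Subgroup G) := (mem_normalizer_iff.1 (hAN htA) v).1 hv
      have hfix : Commute t (v * (t * v * t⁻¹)) := by
        have h1 : t * (v * (t * v * t⁻¹)) * t⁻¹ = (t * v * t⁻¹) * v := by
          rw [← conj_mul]
          congr 1
          calc t * (t * v * t⁻¹) * t⁻¹ = t ^ 2 * v * (t ^ 2)⁻¹ := by simp [pow_two, mul_assoc]
            _ = v := by rw [ht2]; simp
        rw [(comm_mem htv hv).eq] at h1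
        exact mul_inv_eq_iff_eq_mul.1 h1
      by_contra hne
      have hne1 : v * (t * v * t⁻¹) ≠ 1 := fun e => hne (eq_inv_of_mul_eq_one_right e)
      have htC : t ∈ c.C := by
        rw [← c.cent_eq (mul_mem hv htv) hne1]
        exact mem_centralizer_singleton_iff.2 hfix.eq
      have : t ∈ D := ⟨htA, htC⟩
      rw [hDbot, mem_bot] at this
      rw [this, orderOf_one] at ht
      omega
    have hNinv : ∀ w ∈ c.N, orderOf w = 2 → ∃ v ∈ (c.P : Subgroup G), w = v * t ∧
        ∃ s ∈ (c.P : Subgroup G), w = s * t * s⁻¹ := by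
      intro w hw hwo
      obtain ⟨v, hv, a, ha, rfl⟩ := hdec w hw
      have h1 : v * (a * v * a⁻¹) * a ^ 2 = 1 := by
        have : (v * a) ^ 2 = 1 := by rw [← hwo, pow_orderOf_eq_one]
        rw [← this]
        simp [pow_two, mul_assoc]
      have hvP : v * (a * v * a⁻¹) ∈ (c.P : Subgroup G) :=
        mul_mem hv ((mem_normalizer_iff.1 (hAN ha) v).1 hv)
      have ha2 : a ^ 2 = 1 := by
        have h3 : v * (a * v * a⁻¹) = (a ^ 2)⁻¹ := eq_inv_of_mul_eq_one_left h1
        have h4 := eq_one_of_p_of_coprime c.P.2 hvP (fun hd' => hAp (hd'.trans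
          (Subgroup.orderOf_dvd_natCard _ (h3 ▸ inv_mem (pow_mem ha 2)))))
        rw [h4] at h1
        simpa using h1
      rcases huniqA a ha ha2 with rfl | rfl
      · exfalso
        rw [mul_one] at hwo
        exact hPodd (hwo ▸ Subgroup.orderOf_dvd_natCard _ hv)
      · refine ⟨v, hv, rfl, ?_⟩
        obtain ⟨m, hm⟩ : ∃ m, (v ^ m) ^ 2 = v := by
          obtain ⟨m, hm⟩ := exists_pow_eq_self_of_coprime (x := v) (n := 2)
            ((Nat.prime_two.coprime_iff_not_dvd).2
              fun h => hPodd (h.trans (Subgroup.orderOf_dvd_natCard _ hv)))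
          exact ⟨m, by rw [← pow_mul, mul_comm, pow_mul]; exact hm⟩
        refine ⟨v ^ m, pow_mem hv m, ?_⟩
        calc v * a = (v ^ m) ^ 2 * a := by rw [hm]
          _ = v ^ m * (a * (v ^ m)⁻¹ * a⁻¹) * a := by
            rw [htneg _ (inv_mem (pow_mem hv m)), inv_inv, pow_two]
          _ = v ^ m * a * (v ^ m)⁻¹ := by group
    -- the centralizer of `t`
    obtain ⟨K, hK, hKp, hAK, -, x, hx, -, hxK⟩ :=
      key 2 Nat.prime_two (zpowers t) (isPGroup_orderOf (p := 2) (k := 1) (by rw [pow_one, ht]))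
        (zpowers_le.2 htA) (by
          rw [Nat.card_zpowers, ht, hDbot, Subgroup.card_bot]
          exact fun h => absurd (Nat.le_of_dvd one_pos h) (by norm_num))
    have hKt : ∀ g : G, g ∈ K ↔ Commute g t := by
      intro g
      rw [hK, mem_centralizer_iff]
      refine ⟨fun h => (h t (mem_zpowers t)).symm, fun h => ?_⟩
      rintro y ⟨i, rfl⟩
      exact (h.zpow_right i).eq.symm
    haveI : Fintype G := Fintype.ofFinite G
    have hfree : ∀ (S : Set G) (y : G), orderOf y = p → (∀ s ∈ S, orderOf s = 2) →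
        (∀ s ∈ S, y * s * y⁻¹ ∈ S) → p ∣ Nat.card S := by
      intro S y hy hS hyS
      have hyi : ∀ i : ℕ, ∀ s ∈ S, y ^ i * s * (y ^ i)⁻¹ ∈ S := by
        intro i
        induction i with
        | zero => intro s hs; simpa using hs
        | succ i ih =>
          intro s hs
          rw [pow_succ', mul_inv_rev,
            show y * y ^ i * s * ((y ^ i)⁻¹ * y⁻¹) = y * (y ^ i * s * (y ^ i)⁻¹) * y⁻¹ by group]
          exact hyS _ (ih s hs)
      have hyz : ∀ g ∈ zpowers y, ∀ s ∈ S, g * s * g⁻¹ ∈ S := fun g hg s hs => by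
        rw [mem_zpowers_iff_mem_range_orderOf, Finset.mem_image] at hg
        obtain ⟨i, -, rfl⟩ := hg
        exact hyi i s hs
      letI : MulAction (zpowers y) S :=
        { smul := fun g s => ⟨g * s * (g : G)⁻¹, hyz g g.2 s s.2⟩
          one_smul := fun s => Subtype.ext (show (1 : G) * s * (1 : G)⁻¹ = s by simp)
          mul_smul := fun g h s => Subtype.ext (show ((g : G) * h) * s * ((g : G) * h)⁻¹ =
            g * (h * s * (h : G)⁻¹) * (g : G)⁻¹ by group) }
      have h := (isPGroup_orderOf (p := p) (k := 1) (by rw [pow_one, hy]) :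
        IsPGroup p (zpowers y)).card_modEq_card_fixedPoints S
      have hemp : MulAction.fixedPoints (zpowers y) S = ∅ := by
        refine Set.eq_empty_of_forall_notMem fun s hs => ?_
        have h1 : y * (s : G) * y⁻¹ = s :=
          congrArg Subtype.val (hs (⟨y, mem_zpowers y⟩ : zpowers y))
        have h2 := hpc y hy s (mem_centralizer_singleton_iff.2 (mul_inv_eq_iff_eq_mul.1 h1).symm)
          (by rw [hS s s.2]; exact fun h3 => c.hp2 ((Nat.prime_dvd_prime_iff_eq hp.out Nat.prime_two).1 h3))
        rw [← hS s s.2] at ht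
        have := hS s s.2
        rw [h2, orderOf_one] at this
        omega
      rw [hemp, show Nat.card (∅ : Set S) = 0 by simp] at h
      exact Nat.modEq_zero_iff_dvd.1 h
    let I : Set G := {u | orderOf u = 2}
    let M : Set G := {u | orderOf u = 2 ∧ Commute u t}
    have hI : p ∣ Nat.card I := hfree I z hz (fun s hs => hs) fun s hs => by
      show orderOf (z * s * z⁻¹) = 2
      rw [orderOf_conj']; exact hs
    have hM : p ∣ Nat.card M := hfree M x hx (fun s hs => hs.1) fun s hs =>
      ⟨by rw [orderOf_conj']; exact hs.1, (hKt _).1 (hxK s ((hKt s).2 hs.2))⟩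
    let NC : Set G := {u | orderOf u = 2 ∧ ¬ Commute u t}
    have hNC : p ∣ Nat.card NC := by
      have hsum : Nat.card I = Nat.card M + Nat.card NC := by
        simp only [Nat.card_coe_set_eq]
        rw [← Set.ncard_union_eq (Set.disjoint_left.2 fun u hu hu' => hu'.2 hu.2)]
        congr 1
        ext u
        simp only [I, M, NC, Set.mem_union, Set.mem_setOf_eq]
        tauto
      rw [hsum] at hI
      exact (Nat.dvd_add_right hM).1 hI
    let NC₀ : Set G := {u | orderOf u = 2 ∧ u ∈ c.N ∧ u ≠ t}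
    have hNC₀ : Nat.card NC₀ + 1 = Nat.card (c.P : Subgroup G) := by
      have hbij : Set.BijOn (fun v : G => v * t) ((c.P : Subgroup G) : Set G)
          {u | orderOf u = 2 ∧ u ∈ c.N} := by
        refine ⟨fun v hv => ⟨?_, mul_mem (le_normalizer hv) (hAN htA)⟩,
          fun a _ b _ h => mul_right_cancel h, fun u hu => ?_⟩
        · refine orderOf_eq_prime ?_ fun e => ?_
          · calc (v * t) ^ 2 = v * (t * v * t⁻¹) * t ^ 2 := by simp [pow_two, mul_assoc]
              _ = 1 := by rw [htneg v hv, mul_inv_cancel, ht2, mul_one]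
          · have : t ∈ D := ⟨htA, c.PC (eq_inv_of_mul_eq_one_right e ▸ inv_mem hv)⟩
            rw [hDbot, mem_bot] at this
            rw [this, orderOf_one] at ht
            omega
        · obtain ⟨v, hv, he, -⟩ := hNinv u hu.2 hu.1
          exact ⟨v, hv, he.symm⟩
      have h1 : NC₀ = {u | orderOf u = 2 ∧ u ∈ c.N} \ {t} := by
        ext u; simp [NC₀, and_assoc]
      rw [Nat.card_coe_set_eq, h1,
        Set.ncard_diff_singleton_add_one (show t ∈ {u | orderOf u = 2 ∧ u ∈ c.N} from ⟨ht, hAN htA⟩),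
        ← hbij.image_eq, Set.ncard_image_of_injOn hbij.injOn, ← Nat.card_coe_set_eq]
      rfl
    -- the fibration of `NC` over the conjugates of `P` normalized by `t`
    have hNC₀C : ∀ u ∈ NC₀, ¬ Commute u t := by
      intro u hu hcm
      obtain ⟨v, hv, rfl, -⟩ := hNinv u hu.2.1 hu.1
      by_cases hv1 : v = 1
      · exact hu.2.2 (by rw [hv1, one_mul])
      · have h1 : Commute t v := by
          have := hcm.mul_left (Commute.refl t).inv_left
          rw [mul_inv_cancel_right] at this
          exact this.symm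
        have h2 : t ∈ D := ⟨htA, by
          rw [← c.cent_eq hv hv1]; exact mem_centralizer_singleton_iff.2 h1.eq⟩
        rw [hDbot, mem_bot] at h2
        rw [h2, orderOf_one] at ht
        omega
    have hsurj : ∀ u ∈ NC, ∃ k ∈ K, ∃ u₀ ∈ NC₀, k * u₀ * k⁻¹ = u := by
      intro u hu
      obtain ⟨g, y, -, -, hgt, hgu⟩ := hinvert t u ht hu.1 fun h => hu.2 h.symm
      obtain ⟨-, -, -, s, hs, he⟩ := hNinv _ hgt (by rw [orderOf_conj', ht])
      have hk : s⁻¹ * g ∈ K := by
        rw [hKt]
        have : s⁻¹ * g * t * (s⁻¹ * g)⁻¹ = t := by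
          calc s⁻¹ * g * t * (s⁻¹ * g)⁻¹ = s⁻¹ * (g * t * g⁻¹) * s := by group
            _ = t := by rw [he]; group
        exact mul_inv_eq_iff_eq_mul.1 this
      refine ⟨(s⁻¹ * g)⁻¹, inv_mem hk, s⁻¹ * g * u * (s⁻¹ * g)⁻¹, ⟨?_, ?_, ?_⟩, by group⟩
      · rw [orderOf_conj']; exact hu.1
      · rw [show s⁻¹ * g * u * (s⁻¹ * g)⁻¹ = s⁻¹ * (g * u * g⁻¹) * s by group]
        exact mul_mem (mul_mem (inv_mem (le_normalizer hs)) hgu) (le_normalizer hs)
      · intro e
        have hu' : u = t := by
          have h1 : s⁻¹ * g * t * (s⁻¹ * g)⁻¹ = t := by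
            rw [((hKt _).1 hk).eq, mul_inv_cancel_right]
          exact mul_left_cancel (mul_right_cancel (e.trans h1.symm))
        exact hu.2 (hu' ▸ Commute.refl t)
    choose! kf hkf uf huf hfe using hsurj
    have hequiv : Nat.card A * Nat.card NC = Nat.card K * Nat.card NC₀ := by
      rw [← Nat.card_prod, ← Nat.card_prod]
      have hmem : ∀ a : A, ∀ u : NC, (a : G)⁻¹ * uf u * a ∈ NC₀ := by
        intro a u
        obtain ⟨h1, h2, h3⟩ := huf u u.2
        refine ⟨?_, mul_mem (mul_mem (inv_mem (hAN a.2)) h2) (hAN a.2), fun e => h3 ?_⟩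
        · have := orderOf_conj' (a : G)⁻¹ (uf u)
          rw [inv_inv] at this
          rw [this, h1]
        · have hat : Commute (a : G) t := c.A_comm hAp a.2 htA
          calc uf u = (a : G) * ((a : G)⁻¹ * uf u * a) * (a : G)⁻¹ := by group
            _ = t := by rw [e, hat.eq, mul_inv_cancel_right]
      refine Nat.card_congr (Equiv.ofBijective (fun w : A × NC =>
        ((⟨kf w.2 * w.1, mul_mem (hkf _ w.2.2) (hAK w.1.2)⟩ : K),
         (⟨_, hmem w.1 w.2⟩ : NC₀))) ⟨?_, ?_⟩)
      · rintro ⟨a, u⟩ ⟨b, v⟩ h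
        simp only [Prod.mk.injEq, Subtype.ext_iff] at h
        obtain ⟨h1, h2⟩ := h
        have huv : (u : G) = v := by
          rw [← hfe u u.2, ← hfe v v.2]
          calc kf u * uf u * (kf u)⁻¹
              = (kf u * a) * ((a : G)⁻¹ * uf u * a) * (kf u * a)⁻¹ := by group
            _ = (kf v * b) * ((b : G)⁻¹ * uf v * b) * (kf v * b)⁻¹ := by rw [h1, h2]
            _ = kf v * uf v * (kf v)⁻¹ := by group
        have huv' : u = v := Subtype.ext huv
        subst huv'
        exact Prod.ext (Subtype.ext (mul_left_cancel h1)) rfl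
      · rintro ⟨⟨k, hk⟩, ⟨u₀, hu₀⟩⟩
        have hu : k * u₀ * k⁻¹ ∈ NC := by
          refine ⟨by rw [orderOf_conj']; exact hu₀.1, fun h => hNC₀C u₀ hu₀ ?_⟩
          have hkt : k * t * k⁻¹ = t := by rw [((hKt k).1 hk).eq, mul_inv_cancel_right]
          rw [← hkt] at h
          exact (Commute.conj_iff k).1 h
        set u : NC := ⟨_, hu⟩
        set w := (kf u)⁻¹ * k with hw
        have hwK : w ∈ K := mul_mem (inv_mem (hkf _ u.2)) hk
        have hwu : w * u₀ * w⁻¹ = uf u := by
          calc w * u₀ * w⁻¹ = (kf u)⁻¹ * (k * u₀ * k⁻¹) * kf u := by rw [hw]; group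
            _ = (kf u)⁻¹ * (kf u * uf u * (kf u)⁻¹) * kf u := by rw [hfe u u.2]
            _ = uf u := by group
        obtain ⟨v, hv, he, -⟩ := hNinv u₀ hu₀.2.1 hu₀.1
        obtain ⟨v', hv', he', -⟩ := hNinv (uf u) (huf u u.2).2.1 (huf u u.2).1
        have hv1 : v ≠ 1 := fun e => hu₀.2.2 (by rw [he, e, one_mul])
        have hwN : w ∈ c.N := by
          refine c.mem_N_of_conj hv hv1 ?_
          have hwt : Commute w t := (hKt w).1 hwK
          have : w * v * w⁻¹ = v' := by
            apply mul_right_cancel (b := t)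
            rw [← he', ← hwu, he]
            calc w * v * w⁻¹ * t = w * v * (w⁻¹ * t) := by group
              _ = w * v * (t * w⁻¹) := by rw [hwt.inv_left.eq]
              _ = w * (v * t) * w⁻¹ := by group
          rw [this]; exact hv'
        have hwA : w ∈ A := by
          obtain ⟨s, hs, a, ha, hsa⟩ := hdec w hwN
          have hsK : s ∈ K := by
            have : s = w * a⁻¹ := by rw [hsa, mul_inv_cancel_right]
            rw [this]; exact mul_mem hwK (inv_mem (hAK ha))
          have hs1 : s = 1 := eq_one_of_p_of_coprime c.P.2 hs fun h =>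
            hKp (h.trans (Subgroup.orderOf_dvd_natCard _ hsK))
          rwa [hsa, hs1, one_mul]
        refine ⟨(⟨w, hwA⟩, u), ?_⟩
        simp only [Prod.mk.injEq, Subtype.mk.injEq]
        exact ⟨by rw [hw, mul_inv_cancel_left], by rw [← hwu]; group⟩
    have hdvd : p ∣ Nat.card K * Nat.card NC₀ := hequiv ▸ dvd_mul_of_dvd_right hNC _
    rcases (Nat.Prime.dvd_mul hp.out).1 hdvd with h | h
    · exact hKp h
    · have hpP : p ∣ Nat.card NC₀ + 1 := by
        have h' := Subgroup.orderOf_dvd_natCard _ hzP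
        rw [hz, ← hNC₀] at h'
        exact h'
      exact hp.out.ne_one (Nat.dvd_one.1 ((Nat.dvd_add_right h).1 hpP))

end

/-- The reduction to the minimal configuration. -/
theorem main (p : ℕ) [hp : Fact p.Prime] : ∀ (n : ℕ) (G : Type u) [Group G] [Finite G],
    Nat.card G ≤ n → (∀ P : Sylow p G, IsCyclic P) →
    (∀ H : Subgroup G, ¬ p ∣ Nat.card H → IsMulCommutative H) →
    HasNormalPComplement p G ∨ ∀ P : Sylow p G, (P : Subgroup G).Normal := by
  intro n
  induction n with
  | zero =>
    intro G _ _ h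
    exact absurd h (by have := Nat.card_pos (α := G); omega)
  | succ n ih =>
    intro G _ _ hn hcyc hab
    by_cases hcomp : HasNormalPComplement p G
    · exact Or.inl hcomp
    right
    intro P
    by_contra hPn
    have hallN : ∀ Q : Sylow p G, ¬ (Q : Subgroup G).Normal := fun Q hQ => hPn (by
      haveI := Sylow.unique_of_normal Q hQ
      rw [Subsingleton.elim P Q]; exact hQ)
    haveI := hcyc P
    haveI : IsMulCommutative (P : Subgroup G) := inferInstance
    -- proper subgroups
    have hsub : ∀ H : Subgroup G, H ≠ ⊤ →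
        HasNormalPComplement p H ∨ ∀ Q : Sylow p H, (Q : Subgroup H).Normal := by
      intro H hH
      have hlt : Nat.card H < Nat.card G := (card_le_card_group H).lt_of_ne fun h =>
        hH (eq_top_of_card_eq H h)
      exact ih H (by omega) (sylow_isCyclic_of_injective H.subtype H.subtype_injective hcyc)
        (hab_subgroup hab H)
    have hquot : ∀ M : Subgroup G, M ≠ ⊥ → ∀ [M.Normal],
        (∀ H : Subgroup (G ⧸ M), ¬ p ∣ Nat.card H → IsMulCommutative H) →
        HasNormalPComplement p (G ⧸ M) ∨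
          ∀ Q : Sylow p (G ⧸ M), (Q : Subgroup (G ⧸ M)).Normal := by
      intro M hM _ habM
      have hlt : Nat.card (G ⧸ M) < Nat.card G := by
        rw [card_eq_card_quotient_mul_card_subgroup M]
        exact lt_mul_of_one_lt_right Nat.card_pos ((one_lt_card_iff_ne_bot M).2 hM)
      refine ih (G ⧸ M) (by omega) (fun Q => ?_) habM
      obtain ⟨Q₀, rfl⟩ := Sylow.mapSurjective_surjective (QuotientGroup.mk'_surjective M) p Q
      haveI := hcyc Q₀
      rw [Sylow.coe_mapSurjective]
      exact isCyclic_of_surjective ((QuotientGroup.mk' M).subgroupMap (Q₀ : Subgroup G))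
        (MonoidHom.subgroupMap_surjective _ _)
    obtain ⟨a₀, ha₀N, ha₀p, ha₀C⟩ : ∃ a, a ∈ normalizer ((P : Subgroup G) : Set G) ∧
        ¬ p ∣ orderOf a ∧ a ∉ centralizer ((P : Subgroup G) : Set G) := by
      by_contra hno
      push Not at hno
      apply hcomp
      have hle : normalizer ((P : Subgroup G) : Set G) ≤ centralizer ((P : Subgroup G) : Set G) := by
        intro g hg
        obtain ⟨k, m, hm, he⟩ :=
          Nat.exists_eq_pow_mul_and_not_dvd (orderOf_pos g).ne' p hp.out.ne_one
        have h2 : g ^ p ^ k ∈ centralizer ((P : Subgroup G) : Set G) := by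
          refine hno _ (pow_mem hg _) ?_
          rw [orderOf_pow_of_dvd (pow_pos hp.out.pos k).ne' (he ▸ dvd_mul_right _ _), he,
            Nat.mul_div_cancel_left _ (pow_pos hp.out.pos k)]
          exact hm
        have h1 : g ^ m ∈ (P : Subgroup G) := by
          have hm0 : m ≠ 0 := fun h => hm (h ▸ dvd_zero p)
          have ho : orderOf (g ^ m) = p ^ k := by
            rw [orderOf_pow_of_dvd hm0 (he ▸ dvd_mul_left _ _), he,
              Nat.mul_div_cancel _ (Nat.pos_of_ne_zero hm0)]
          have h1 : IsPGroup p ↥((P : Subgroup G) ⊔ zpowers (g ^ m)) :=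
            IsPGroup.to_sup_of_normal_left' P.2 (isPGroup_orderOf ho) (zpowers_le.2 (pow_mem hg m))
          rw [← P.3 h1 le_sup_left]
          exact mem_sup_right (mem_zpowers _)
        have hcop : (p ^ k).Coprime m := ((hp.out.coprime_iff_not_dvd).2 hm).pow_left _
        obtain ⟨s, t, hst⟩ : IsCoprime ((p ^ k : ℕ) : ℤ) (m : ℤ) :=
          Nat.isCoprime_iff_coprime.2 hcop
        have hPC : (P : Subgroup G) ≤ centralizer ((P : Subgroup G) : Set G) := fun x hx =>
          mem_centralizer_iff.2 fun y hy => (comm_mem hy hx).eq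
        have : g = (g ^ p ^ k) ^ s * (g ^ m) ^ t := by
          rw [← zpow_natCast g, ← zpow_natCast g, ← zpow_mul, ← zpow_mul, ← zpow_add,
            show ((p ^ k : ℕ) : ℤ) * s + (m : ℤ) * t = 1 by linarith, zpow_one]
        rw [this]
        exact mul_mem (zpow_mem h2 s) (zpow_mem (hPC h1) t)
      exact ⟨P, (MonoidHom.transferSylow P hle).ker, MonoidHom.normal_ker _,
        MonoidHom.ker_transferSylow_isComplement' P hle⟩
    have hp2 : p ≠ 2 := by
      rintro rfl
      obtain ⟨u, hu⟩ := (Subgroup.isCyclic_iff_exists_zpowers_eq_top (P : Subgroup G)).1 (hcyc P)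
      obtain ⟨k, hk⟩ := IsPGroup.iff_card.mp P.2
      rcases k with _ | k
      · exact hPn ((Subgroup.card_eq_one.1 (by rw [hk, pow_zero])) ▸ inferInstance)
      -- the involution of `P` is fixed
      have hord : orderOf u = 2 ^ (k + 1) := by rw [← Nat.card_zpowers, hu, hk]
      have hzo : orderOf (u ^ 2 ^ k) = 2 := by
        rw [orderOf_pow_of_dvd (pow_ne_zero k two_ne_zero) (hord ▸ pow_dvd_pow 2 k.le_succ), hord,
          pow_succ, Nat.mul_div_cancel_left _ (pow_pos two_pos k)]
      have hzP : u ^ 2 ^ k ∈ (P : Subgroup G) := pow_mem (hu ▸ mem_zpowers u) _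
      refine ha₀C (centralizes_cyclic P.2 ha₀N ha₀p hzP
        (fun e => by rw [e, orderOf_one] at hzo; omega) ?_)
      obtain ⟨r, hr⟩ : a₀ * u * a₀⁻¹ ∈ zpowers u :=
        hu ▸ (mem_normalizer_iff.1 ha₀N u).1 (hu ▸ mem_zpowers u)
      have hc : a₀ * u ^ 2 ^ k * a₀⁻¹ = (u ^ 2 ^ k) ^ r := by
        rw [← conj_pow, ← show u ^ r = a₀ * u * a₀⁻¹ from hr, ← zpow_natCast, ← zpow_mul,
          ← zpow_natCast u, ← zpow_mul, mul_comm]
      rcases Int.even_or_odd' r with ⟨j, rfl | rfl⟩
      · have : (u ^ 2 ^ k) ^ (2 * j) = 1 := by rw [zpow_mul, zpow_two, order_sq hzo, one_zpow]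
        rw [this] at hc
        exact absurd (by simpa using hc : u ^ 2 ^ k = 1) (fun e => by rw [e, orderOf_one] at hzo; omega)
      · have : (u ^ 2 ^ k) ^ (2 * j + 1) = u ^ 2 ^ k := by
          rw [zpow_add, zpow_mul, zpow_two, order_sq hzo, one_zpow, one_mul, zpow_one]
        rw [this] at hc
        exact mul_inv_eq_iff_eq_mul.1 hc
    -- no normal `p'`-subgroup
    have hOp' : ∀ M : Subgroup G, M.Normal → ¬ p ∣ Nat.card M → M = ⊥ := by
      intro M hMn hMp
      by_contra hM
      have hcardM : (Nat.card M).Coprime p := ((hp.out.coprime_iff_not_dvd).2 hMp).symm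
      haveI := hab M hMp
      have habq : ∀ H : Subgroup (G ⧸ M), ¬ p ∣ Nat.card H → IsMulCommutative H := by
        intro H hH
        have hpre : ¬ p ∣ Nat.card ↥(H.comap (QuotientGroup.mk' M)) := by
          intro hd'
          have e : Nat.card ↥(H.comap (QuotientGroup.mk' M)) = Nat.card M * Nat.card H := by
            exact QuotientGroup.card_preimage_mk M (H : Set (G ⧸ M))
          rw [e] at hd'
          rcases (Nat.Prime.dvd_mul hp.out).1 hd' with h | h
          exacts [hMp h, hH h]
        haveI := hab _ hpre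
        refine ⟨⟨fun a b => Subtype.ext ?_⟩⟩
        obtain ⟨a', ha'⟩ := QuotientGroup.mk'_surjective M (a : G ⧸ M)
        obtain ⟨b', hb'⟩ := QuotientGroup.mk'_surjective M (b : G ⧸ M)
        have := congrArg (QuotientGroup.mk' M) (comm_mem
          (show a' ∈ H.comap (QuotientGroup.mk' M) by rw [mem_comap, ha']; exact a.2)
          (show b' ∈ H.comap (QuotientGroup.mk' M) by rw [mem_comap, hb']; exact b.2)).eq
        rw [map_mul, map_mul, ha', hb'] at this
        exact this
      rcases hquot M hM habq with h | h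
      · apply hcomp
        rw [hasNormalPComplement_iff_coprime] at h
        set L := (pResidual p (G ⧸ M)).comap (QuotientGroup.mk' M)
        have hL : (Nat.card L).Coprime p := by
          have e : Nat.card L = Nat.card M * Nat.card (pResidual p (G ⧸ M)) :=
            QuotientGroup.card_preimage_mk M ((pResidual p (G ⧸ M) : Subgroup (G ⧸ M)) : Set (G ⧸ M))
          rw [e]
          exact hcardM.mul_left h
        refine hasNormalPComplement_of_normal L hL ?_
        obtain ⟨k, hk⟩ := index_pResidual_eq_pow (G := G ⧸ M) (p := p)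
        refine IsPGroup.of_card (n := k) ?_
        rw [← hk, ← Subgroup.index_eq_card]
        exact index_comap_of_surjective _ (QuotientGroup.mk'_surjective M)
      · have hPM := h (P.mapSurjective (QuotientGroup.mk'_surjective M))
        rw [Sylow.coe_mapSurjective] at hPM
        have hSn : ((P : Subgroup G) ⊔ M).Normal := by
          have := hPM.comap (QuotientGroup.mk' M)
          rwa [comap_map_eq, QuotientGroup.ker_mk'] at this
        -- `a₀` centralizes `M`
        have ha₀M : a₀ ∈ centralizer (M : Set G) := by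
          have hcard : Nat.card ↥(zpowers a₀ ⊔ M) =
              Nat.card M * (M.subgroupOf (zpowers a₀ ⊔ M)).index := by
            rw [← Subgroup.card_mul_index (M.subgroupOf (zpowers a₀ ⊔ M)),
              Nat.card_congr (Subgroup.subgroupOfEquivOfLe (le_sup_right : M ≤ zpowers a₀ ⊔ M)).toEquiv]
          have hd' : ¬ p ∣ Nat.card ↥(zpowers a₀ ⊔ M) := by
            rw [hcard]
            intro hd''
            rcases (Nat.Prime.dvd_mul hp.out).1 hd'' with h' | h'
            · exact hMp h'
            · refine ha₀p (h'.trans ?_)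
              rw [show (M.subgroupOf (zpowers a₀ ⊔ M)).index = M.relIndex (zpowers a₀ ⊔ M) from rfl,
                Subgroup.relIndex_sup_right, ← Nat.card_zpowers]
              exact Subgroup.index_dvd_card _
          haveI := hab _ hd'
          exact mem_centralizer_iff.2 fun y hy =>
            (comm_mem (mem_sup_right hy) (mem_sup_left (mem_zpowers a₀))).eq
        have hPCM : (P : Subgroup G) ≤ centralizer (M : Set G) := by
          have hmem : ∀ v ∈ (P : Subgroup G), v⁻¹ * (a₀ * v * a₀⁻¹) ∈ centralizer (M : Set G) := by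
            intro v _
            have hn : (centralizer (M : Set G)).Normal := Subgroup.normal_centralizer
            rw [show v⁻¹ * (a₀ * v * a₀⁻¹) = (v⁻¹ * a₀ * v⁻¹⁻¹) * a₀⁻¹ by group]
            exact mul_mem (hn.conj_mem a₀ ha₀M v⁻¹) (inv_mem ha₀M)
          -- the map `v ↦ v⁻¹ v^a₀` is injective on `P`
          have hinj : Function.Injective (fun v : (P : Subgroup G) =>
              (⟨(v : G)⁻¹ * (a₀ * v * a₀⁻¹), mul_mem (inv_mem v.2)
                ((mem_normalizer_iff.1 ha₀N _).1 v.2)⟩ : (P : Subgroup G))) := by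
            intro v w hvw
            by_contra hne
            have hvw : (v : G)⁻¹ * (a₀ * v * a₀⁻¹) = (w : G)⁻¹ * (a₀ * w * a₀⁻¹) :=
              congrArg Subtype.val hvw
            have hne1 : (w : G) * (v : G)⁻¹ ≠ 1 := fun e => hne (Subtype.ext (mul_inv_eq_one.1 e).symm)
            refine ha₀C (centralizes_cyclic P.2 ha₀N ha₀p (mul_mem w.2 (inv_mem v.2)) hne1 ?_)
            have e1 : a₀ * w * a₀⁻¹ = (w : G) * (v : G)⁻¹ * (a₀ * v * a₀⁻¹) := by
              rw [mul_assoc (w : G) (v : G)⁻¹, hvw, mul_inv_cancel_left]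
            calc a₀ * ((w : G) * (v : G)⁻¹)
                = a₀ * w * a₀⁻¹ * (a₀ * v * a₀⁻¹)⁻¹ * a₀ := by group
              _ = (w : G) * (v : G)⁻¹ * a₀ := by rw [e1, mul_inv_cancel_right]
          intro v hv
          obtain ⟨w, hw⟩ := Finite.surjective_of_injective hinj ⟨v, hv⟩
          have := congrArg Subtype.val hw
          simp only at this
          rw [← this]
          exact hmem w w.2
        apply hPn
        refine ⟨fun v hv g => ?_⟩
        have h1 : g * v * g⁻¹ ∈ (P : Subgroup G) ⊔ M := hSn.conj_mem v (mem_sup_left hv) g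
        obtain ⟨s, hs, m, hm, he⟩ := mem_sup_of_normal_right.1 h1
        have hcm : Commute s m := (mem_centralizer_iff.1 (hPCM hs) m hm).symm
        obtain ⟨k, hk⟩ := IsPGroup.iff_orderOf.mp P.2 ⟨v, hv⟩
        rw [Subgroup.orderOf_mk] at hk
        have hpk : (s * m) ^ p ^ k = 1 := by rw [he, conj_pow, ← hk, pow_orderOf_eq_one]; simp
        rw [hcm.mul_pow] at hpk
        have hmP : m ^ p ^ k ∈ (P : Subgroup G) := by
          rw [eq_inv_of_mul_eq_one_right hpk]; exact inv_mem (pow_mem hs _)
        have hm1 : m ^ p ^ k = 1 := eq_one_of_p_of_coprime P.2 hmP fun h' =>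
          hMp (h'.trans (Subgroup.orderOf_dvd_natCard _ (pow_mem hm _)))
        have hm2 : orderOf m = 1 := Nat.eq_one_of_dvd_coprimes
          (((hp.out.coprime_iff_not_dvd).2 hMp).pow_left k) (orderOf_dvd_of_pow_eq_one hm1)
          (Subgroup.orderOf_dvd_natCard _ hm)
        rw [← he, orderOf_eq_one_iff.1 hm2, mul_one]
        exact hs
    -- normal subgroups with a normal complement or a normal Sylow subgroup
    have hres : ∀ M : Subgroup G, M.Normal → HasNormalPComplement p M →
        (pResidual p M).map M.subtype = ⊥ := by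
      intro M hMn h
      refine hOp' _ ⟨?_⟩ ?_
      · rintro _ ⟨m, hm, rfl⟩ g
        have hm' : g * (m : G) * g⁻¹ ∈ M := hMn.conj_mem _ m.2 g
        refine ⟨⟨_, hm'⟩, ?_, rfl⟩
        rw [SetLike.mem_coe, mem_pResidual_iff_coprime h] at hm ⊢
        rw [Subgroup.orderOf_mk, orderOf_conj', Subgroup.orderOf_coe]
        exact hm
      · rw [Subgroup.card_map_of_injective M.subtype_injective]
        exact (hp.out.coprime_iff_not_dvd).1 (hasNormalPComplement_iff_coprime.1 h).symm
    -- no normal `p`-subgroup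
    have hOp : ∀ M : Subgroup G, M.Normal → IsPGroup p M → M = ⊥ := by
      intro M hMn hMpg
      by_contra hM
      have hMP : M ≤ (P : Subgroup G) := by
        have h1 : IsPGroup p ↥((P : Subgroup G) ⊔ M) := IsPGroup.to_sup_of_normal_right P.2 hMpg
        rw [← P.3 h1 le_sup_left]
        exact le_sup_right
      have hCn : (centralizer (M : Set G)).Normal := Subgroup.normal_centralizer
      have hPC : (P : Subgroup G) ≤ centralizer (M : Set G) := fun x hx =>
        mem_centralizer_iff.2 fun y hy => (comm_mem (hMP hy) hx).eq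
      by_cases hC : centralizer (M : Set G) = ⊤
      swap
      · rcases hsub _ hC with h | h
        · have h0 := hres _ hCn h
          rw [Subgroup.map_eq_bot_iff_of_injective _ (subtype_injective _)] at h0
          have hp' : IsPGroup p (centralizer (M : Set G)) := by
            obtain ⟨k, hk⟩ := index_pResidual_eq_pow (G := centralizer (M : Set G)) (p := p)
            rw [h0, index_bot] at hk
            exact IsPGroup.of_card hk
          exact hPn (P.3 hp' hPC ▸ hCn)
        · have h1 := h (P.subtype hPC)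
          rw [Sylow.coe_subtype] at h1
          have h2 : centralizer (M : Set G) ≤ normalizer ((P : Subgroup G) : Set G) :=
            (Subgroup.normal_subgroupOf_iff_le_normalizer hPC).1 h1
          haveI := hCn
          have h3 : normalizer ((P : Subgroup G) : Set G) ⊔ centralizer (M : Set G) = ⊤ :=
            Sylow.normalizer_sup_eq_top' P hPC
          rw [sup_eq_left.2 h2] at h3
          exact hPn (normalizer_eq_top_iff.1 h3)
      have hcent : ∀ m ∈ M, ∀ g : G, Commute m g := fun m hm g =>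
        mem_centralizer_iff.1 (hC ▸ mem_top g : g ∈ centralizer (M : Set G)) m hm
      obtain ⟨km, hkm⟩ := IsPGroup.iff_card.mp hMpg
      have hsplit : ∀ S : Subgroup G, M ≤ S → (M.relIndex S).Coprime p → ∃ H : Subgroup G,
          H ≤ S ∧ (Nat.card H).Coprime p ∧ ∀ s ∈ S, ∃ m ∈ M, ∃ h ∈ H, s = m * h := by
        intro S hMS hcop
        have hc : Nat.Coprime (Nat.card (M.subgroupOf S)) (M.subgroupOf S).index := by
          rw [Nat.card_congr (Subgroup.subgroupOfEquivOfLe hMS).toEquiv, hkm]
          exact (hcop.symm).pow_left _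
        obtain ⟨H, hH⟩ := Subgroup.exists_right_complement'_of_coprime hc
        refine ⟨H.map S.subtype, map_subtype_le _, ?_, ?_⟩
        · rw [Subgroup.card_map_of_injective (subtype_injective _), ← hH.symm.index_eq_card]
          exact hcop
        · intro s hs
          obtain ⟨⟨⟨m, hm⟩, ⟨h', hh'⟩⟩, he⟩ := hH.2 ⟨s, hs⟩
          exact ⟨m, hm, h', mem_map_of_mem _ hh', congrArg Subtype.val he.symm⟩
      have hrel : ∀ H : Subgroup (G ⧸ M),
          M.relIndex (H.comap (QuotientGroup.mk' M)) = Nat.card H := by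
        intro H
        have e : Nat.card ↥(H.comap (QuotientGroup.mk' M)) = Nat.card M * Nat.card H :=
          QuotientGroup.card_preimage_mk M (H : Set (G ⧸ M))
        have hMle : M ≤ H.comap (QuotientGroup.mk' M) := fun m hm => by
          rw [mem_comap, show QuotientGroup.mk' M m = 1 from (QuotientGroup.eq_one_iff m).2 hm]
          exact one_mem _
        rw [← Subgroup.card_mul_index (M.subgroupOf (H.comap (QuotientGroup.mk' M))),
          Nat.card_congr (Subgroup.subgroupOfEquivOfLe hMle).toEquiv] at e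
        exact Nat.eq_of_mul_eq_mul_left Nat.card_pos e
      have hMle : ∀ H : Subgroup (G ⧸ M), M ≤ H.comap (QuotientGroup.mk' M) := fun H m hm => by
        rw [mem_comap, show QuotientGroup.mk' M m = 1 from (QuotientGroup.eq_one_iff m).2 hm]
        exact one_mem _
      have habq : ∀ H : Subgroup (G ⧸ M), ¬ p ∣ Nat.card H → IsMulCommutative H := by
        intro H hH
        obtain ⟨H', hH'le, hH'c, hdec'⟩ := hsplit _ (hMle H)
          (by rw [hrel]; exact ((hp.out.coprime_iff_not_dvd).2 hH).symm)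
        haveI := hab H' ((hp.out.coprime_iff_not_dvd).1 hH'c.symm)
        refine ⟨⟨fun a b => Subtype.ext ?_⟩⟩
        have hl : ∀ a : H, ∃ h' ∈ H', QuotientGroup.mk' M h' = a := by
          intro a
          obtain ⟨a', ha'⟩ := QuotientGroup.mk'_surjective M (a : G ⧸ M)
          obtain ⟨m, hm, h', hh', rfl⟩ := hdec' a' (by rw [mem_comap, ha']; exact a.2)
          refine ⟨h', hh', ?_⟩
          rw [← ha', map_mul, show QuotientGroup.mk' M m = 1 from (QuotientGroup.eq_one_iff m).2 hm,
            one_mul]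
        obtain ⟨a', ha'm, ha'⟩ := hl a
        obtain ⟨b', hb'm, hb'⟩ := hl b
        have := congrArg (QuotientGroup.mk' M) (comm_mem ha'm hb'm).eq
        rw [map_mul, map_mul, ha', hb'] at this
        exact this
      rcases hquot M hM habq with h | h
      · set L := (pResidual p (G ⧸ M)).comap (QuotientGroup.mk' M)
        have hLn : L.Normal := (pResidual_normal p (G ⧸ M)).comap _
        have hcopR := hasNormalPComplement_iff_coprime.1 h
        obtain ⟨H, hHL, hHc, hdec'⟩ := hsplit L (hMle _) (by rw [hrel]; exact hcopR)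
        have hmemH : ∀ l ∈ L, ¬ p ∣ orderOf l → l ∈ H := by
          intro l hl hlp
          obtain ⟨m, hm, h', hh', rfl⟩ := hdec' l hl
          have hcm : Commute m h' := hcent m hm h'
          have h1 : m ^ orderOf (m * h') * h' ^ orderOf (m * h') = 1 := by
            rw [← hcm.mul_pow, pow_orderOf_eq_one]
          have h2 : m ^ orderOf (m * h') = 1 := eq_one_of_p_of_coprime hMpg (pow_mem hm _) fun hd' =>
            (hp.out.coprime_iff_not_dvd).1 hHc.symm (hd'.trans (Subgroup.orderOf_dvd_natCard _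
              (eq_inv_of_mul_eq_one_left h1 ▸ inv_mem (pow_mem hh' _))))
          obtain ⟨k, hk⟩ := IsPGroup.iff_orderOf.mp hMpg ⟨m, hm⟩
          rw [Subgroup.orderOf_mk] at hk
          have h3 : orderOf m = 1 := Nat.eq_one_of_dvd_coprimes
            (((hp.out.coprime_iff_not_dvd).2 hlp).pow_left k) (hk ▸ dvd_rfl)
            (orderOf_dvd_of_pow_eq_one h2)
          rwa [orderOf_eq_one_iff.1 h3, one_mul]
        have hHn : H.Normal := ⟨fun v hv g => hmemH _ (hLn.conj_mem v (hHL hv) g) (by
          rw [orderOf_conj']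
          exact fun hd' => (hp.out.coprime_iff_not_dvd).1 hHc.symm
            (hd'.trans (Subgroup.orderOf_dvd_natCard _ hv)))⟩
        have hHbot := hOp' H hHn ((hp.out.coprime_iff_not_dvd).1 hHc.symm)
        have hLM : L = M := by
          refine le_antisymm (fun l hl => ?_) (hMle _)
          obtain ⟨m, hm, h', hh', rfl⟩ := hdec' l hl
          rw [hHbot, mem_bot] at hh'
          rwa [hh', mul_one]
        obtain ⟨k, hk⟩ := index_pResidual_eq_pow (G := G ⧸ M) (p := p)
        have hidx : M.index = p ^ k := by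
          rw [← hk, ← index_comap_of_surjective _ (QuotientGroup.mk'_surjective M)]
          exact congrArg Subgroup.index hLM.symm
        have hG : IsPGroup p (⊤ : Subgroup G) := IsPGroup.of_card (n := km + k) (by
          rw [Subgroup.card_top, ← Subgroup.card_mul_index M, hkm, hidx, pow_add])
        exact hPn (P.3 hG le_top ▸ inferInstance)
      · have hPM := h (P.mapSurjective (QuotientGroup.mk'_surjective M))
        rw [Sylow.coe_mapSurjective] at hPM
        have := hPM.comap (QuotientGroup.mk' M)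
        rw [comap_map_eq, QuotientGroup.ker_mk', sup_eq_left.2 hMP] at this
        exact hPn this
    have hsimp : ∀ M : Subgroup G, M.Normal → M = ⊥ ∨ M = ⊤ := by
      intro M hMn
      by_contra hcon
      push Not at hcon
      rcases hsub M hcon.2 with h | h
      · have h0 := hres M hMn h
        rw [Subgroup.map_eq_bot_iff_of_injective _ (subtype_injective _)] at h0
        refine hcon.1 (hOp M hMn ?_)
        obtain ⟨k, hk⟩ := index_pResidual_eq_pow (G := M) (p := p)
        rw [h0, index_bot] at hk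
        exact IsPGroup.of_card hk
      · obtain ⟨Q⟩ : Nonempty (Sylow p M) := inferInstance
        haveI := Sylow.characteristic_of_normal Q (h Q)
        have hb : ((Q : Subgroup M).map M.subtype) = ⊥ :=
          hOp _ (ConjAct.normal_of_characteristic_of_normal (H := M) (K := (Q : Subgroup M)))
            (Q.2.map M.subtype)
        rw [Subgroup.map_eq_bot_iff_of_injective _ (subtype_injective _)] at hb
        refine hcon.1 (hOp' M hMn fun hd' => ?_)
        exact Q.ne_bot_of_dvd_card hd' hb
    exact Ctx.contradiction (p := p)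
      ({ P := P, cyc := hcyc P, ab := hab, simp := hsimp, notNormal := hPn, hp2 := hp2, a₀ := a₀,
         a₀N := ha₀N, a₀p := ha₀p, a₀C := ha₀C, prop := hsub } : Ctx p G)

/-- Let G be a finite group and p a prime such that a Sylow p-subgroup P of G is cyclic and every subgroup of G of order prime to p is abelian. Then G has a normal p-complement or P is normal in G. -/
theorem result {G : Type*} [Group G] [Finite G] {p : ℕ}
    [Fact p.Prime] (P : Sylow p G) (hcyc : IsCyclic P)
    (hab : ∀ H : Subgroup G, ¬ p ∣ Nat.card H → IsMulCommutative H) :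
    Cfsg.HasNormalPComplement p G ∨ (P : Subgroup G).Normal := by
  have hall : ∀ Q : Sylow p G, IsCyclic Q := fun Q => by
    haveI := hcyc
    exact isCyclic_of_surjective (Sylow.equiv P Q).toMonoidHom (Sylow.equiv P Q).surjective
  exact (main p (Nat.card G) G le_rfl hall hab).imp id fun h => h P

end Cfsg.Agent.S4016
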