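import Cfsg.Statements.S4017
import Cfsg.Agent.Lib.Struct.MixedTwoCount
import Cfsg.Agent.Lib.Fusion.Alperin
-- import your own Cfsg.Agent.* helpers here

set_option autoImplicit false
open Cfsg

namespace Cfsg.Agent.S4017

open Subgroup Cfsg.Lib.Struct.MixedTwo

theorem large_inherit {p q m n : ℕ} (hq : q.Prime) (hn : n ≠ 0) (hmn : m ∣ n) {A B : Prop}
    (hAB : m.factorization q = n.factorization q → A → B)
    (h : q ^ n.factorization q - 1 < p ∨ (p = q ^ n.factorization q - 1 ∧ A)) :
    q ^ m.factorization q - 1 < p ∨ (p = q ^ m.factorization q - 1 ∧ B) := by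
  have hm : m ≠ 0 := fun h0 => hn (Nat.eq_zero_of_zero_dvd (h0 ▸ hmn))
  have hle : m.factorization q ≤ n.factorization q :=
    (Nat.factorization_le_iff_dvd hm hn).2 hmn q
  rcases h with h | ⟨h, hA⟩
  · left
    have := Nat.pow_le_pow_right hq.pos hle
    omega
  · rcases eq_or_lt_of_le hle with he | hlt
    · exact Or.inr ⟨by rw [he]; exact h, hAB he hA⟩
    · left
      have := Nat.pow_lt_pow_right hq.one_lt hlt
      have := Nat.one_le_pow (m.factorization q) q hq.pos
      omega

theorem isPGroup_of_primes {G : Type*} [Group G] [Finite G] {p : ℕ} (hp : p.Prime)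
    (h : ∀ r, r.Prime → r ∣ Nat.card G → r = p) : IsPGroup p G :=
  IsPGroup.of_card (Nat.eq_prime_pow_of_unique_prime_dvd Nat.card_pos.ne' fun {d} hd hdd => h d hd hdd)

universe w

theorem main (n : ℕ) : ∀ (G : Type w) [Group G] [Finite G] (p q : ℕ), Nat.card G = n →
    p.Prime → q.Prime → p ≠ q → p ≠ 2 → p ∣ Nat.card G → q ∣ Nat.card G →
    (∀ H : Subgroup G, H ≠ ⊤ → ¬ IsPGroup q H → q ∣ Nat.card H → p ∣ Nat.card H) →
    (q ^ (Nat.card G).factorization q - 1 < p ∨
      (p = q ^ (Nat.card G).factorization q - 1 ∧ ∀ P : Sylow p G, IsMulCommutative P)) →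
    ∀ r : ℕ, r.Prime → r ∣ Nat.card G → r = p ∨ r = q := by
  induction n using Nat.strong_induction_on with
  | _ n ih =>
  intro G _ _ p q hn hp hq hpq hp2 hpG hqG hmix hlarge r hr hrG
  have : Fact p.Prime := ⟨hp⟩
  have : Fact q.Prime := ⟨hq⟩
  -- proper subgroups of order divisible by `q`
  have hsub : ∀ H : Subgroup G, H ≠ ⊤ → q ∣ Nat.card H →
      ∀ s, s.Prime → s ∣ Nat.card H → s = p ∨ s = q := by
    intro H hH hqH s hs hsH
    by_cases hqg : IsPGroup q H
    · obtain ⟨k, hk⟩ := IsPGroup.iff_card.1 hqg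
      exact Or.inr ((Nat.prime_dvd_prime_iff_eq hs hq).1 (hs.dvd_of_dvd_pow (hk ▸ hsH)))
    have hlt : Nat.card H < n := hn ▸ lt_of_le_of_ne (Subgroup.card_le_card_group H)
      fun h => hH (H.eq_top_of_card_eq h)
    refine ih _ hlt H p q rfl hp hq hpq hp2 (hmix H hH hqg hqH) hqH (fun K hK hKq hqK => ?_) ?_ s hs hsH
    · have hne : K.map H.subtype ≠ ⊤ := fun h => hH (top_le_iff.1 (h ▸ map_subtype_le K))
      have := hmix _ hne (fun h => hKq (h.of_equiv
        (K.equivMapOfInjective _ (subtype_injective H)).symm))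
        (by rwa [card_map_of_injective (subtype_injective H)])
      rwa [card_map_of_injective (subtype_injective H)] at this
    · refine large_inherit hq Nat.card_pos.ne' (card_subgroup_dvd_card H) (fun _ hab P => ?_) hlarge
      have hP := P.isPGroup'.map H.subtype
      exact ⟨⟨fun a b => Subtype.ext (Subtype.ext
        (pgroup_comm hab hP ⟨_, a.2, rfl⟩ ⟨_, b.2, rfl⟩).eq)⟩⟩
  by_contra hrpq
  push Not at hrpq
  obtain ⟨hrp, hrq⟩ := hrpq
  -- normal subgroups of order prime to `q`
  have hodd : ∀ N : Subgroup G, N.Normal → ¬ q ∣ Nat.card N → IsPGroup p N := by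
    intro N hN hqN
    refine isPGroup_of_primes hp fun s hs hsN => ?_
    by_contra hsp
    have : Fact s.Prime := ⟨hs⟩
    let R : Sylow s N := default
    have hfr := Sylow.normalizer_sup_eq_top R
    set R' := (R : Subgroup N).map N.subtype with hR'
    set M := normalizer (R' : Set G)
    have hqM : q ∣ Nat.card M := by
      have h := Cfsg.Lib.Core.card_sup_dvd_mul M N
      rw [hfr, card_top] at h
      exact (hq.dvd_mul.1 (hqG.trans h)).resolve_right hqN
    obtain ⟨x, hx⟩ := exists_prime_orderOf_dvd_card' q hqM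
    rw [← Subgroup.orderOf_coe] at hx
    have hRp : IsPGroup s R' := R.isPGroup'.map _
    have hd : Disjoint R' (zpowers (x : G)) :=
      IsPGroup.disjoint_of_ne s q (fun h => hqN (h ▸ hsN)) _ _ hRp
        (IsPE.zpowers_pGroup (⟨1, by rw [pow_one, ← hx, pow_orderOf_eq_one]⟩ : IsPE q (x : G)))
    have hK := Cfsg.Lib.Coprime.card_sup_of_disjoint (zpowers_le.2 x.2) hd
    rw [Nat.card_zpowers, hx, card_map_of_injective (subtype_injective N),
      R.card_eq_multiplicity] at hK
    have hne : R' ⊔ zpowers (x : G) ≠ ⊤ := by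
      intro htop
      rw [htop, card_top] at hK
      rcases hp.dvd_mul.1 (hK ▸ hpG) with h | h
      · exact hsp ((Nat.prime_dvd_prime_iff_eq hp hs).1 (hp.dvd_of_dvd_pow h)).symm
      · exact hpq ((Nat.prime_dvd_prime_iff_eq hp hq).1 h)
    have hsdvd : s ∣ Nat.card (R' ⊔ zpowers (x : G) : Subgroup G) := hK ▸ dvd_mul_of_dvd_left
      (dvd_pow_self s (hs.factorization_pos_of_dvd Nat.card_pos.ne' hsN).ne') q
    rcases hsub _ hne (hK ▸ dvd_mul_left q _) s hs hsdvd with h | h
    · exact hsp h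
    · exact hqN (h ▸ hsN)
  have hcore : ∀ N : Subgroup G, N.Normal → ¬ q ∣ Nat.card N → N = ⊥ := by
    intro N hN hqN
    by_contra hN1
    obtain ⟨k, hk⟩ := IsPGroup.iff_card.1 (hodd N hN hqN)
    have hdvd : ∀ s, s.Prime → s ≠ p → s ∣ Nat.card G → s ∣ N.index := by
      intro s hs hsp h
      rw [← N.card_mul_index] at h
      exact (hs.dvd_mul.1 h).resolve_left fun h' =>
        hsp ((Nat.prime_dvd_prime_iff_eq hs hp).1 (hs.dvd_of_dvd_pow (hk ▸ h')))
    by_cases hpN : p ∣ N.index
    · have hlt : Nat.card (G ⧸ N) < n := by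
        rw [← hn, ← N.card_mul_index, ← Subgroup.index_eq_card]
        exact lt_mul_of_one_lt_left (Nat.pos_of_ne_zero N.index_ne_zero_of_finite)
          (N.one_lt_card_iff_ne_bot.2 hN1)
      rw [Subgroup.index_eq_card] at hdvd hpN
      refine (ih _ hlt (G ⧸ N) p q rfl hp hq hpq hp2 hpN (hdvd q hq hpq.symm hqG) ?_ ?_ r hr
        (hdvd r hr hrp hrG)).elim hrp hrq
      · intro K hK hKq hqK
        have hmap := map_comap_eq_self_of_surjective (QuotientGroup.mk'_surjective N) K
        have hdiv : Nat.card K ∣ Nat.card (K.comap (QuotientGroup.mk' N)) := by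
          conv_lhs => rw [← hmap]
          exact card_map_dvd _ _
        have hne : K.comap (QuotientGroup.mk' N) ≠ ⊤ := fun h => hK (by
          rw [← hmap, h, map_top_of_surjective _ (QuotientGroup.mk'_surjective N)])
        by_contra hpK
        exact hKq (isPGroup_of_primes hq fun s hs hsK =>
          (hsub _ hne (hqK.trans hdiv) s hs (hsK.trans hdiv)).resolve_left fun h => hpK (h ▸ hsK))
      · refine large_inherit hq Nat.card_pos.ne' N.card_quotient_dvd_card (fun _ hab P => ?_) hlarge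
        refine ⟨⟨fun a b => Subtype.ext ?_⟩⟩
        have hpre : IsPGroup p ((P : Subgroup (G ⧸ N)).comap (QuotientGroup.mk' N)) :=
          P.isPGroup'.comap_of_ker_isPGroup _ (by rw [QuotientGroup.ker_mk']; exact hodd N hN hqN)
        obtain ⟨a', ha'⟩ := QuotientGroup.mk'_surjective N (a : G ⧸ N)
        obtain ⟨b', hb'⟩ := QuotientGroup.mk'_surjective N (b : G ⧸ N)
        have hcm := pgroup_comm hab hpre (g := a') (h := b') (mem_comap.2 (ha' ▸ a.2))
          (mem_comap.2 (hb' ▸ b.2))
        show (a : G ⧸ N) * b = b * a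
        rw [← ha', ← hb', ← map_mul, hcm.eq, map_mul]
    · have hco : (Nat.card N).Coprime N.index := by
        rw [hk]; exact Nat.Coprime.pow_left k (hp.coprime_iff_not_dvd.2 hpN)
      obtain ⟨C, hC⟩ := exists_right_complement'_of_coprime hco
      have hCc : Nat.card C = N.index := hC.symm.index_eq_card.symm
      have hne : C ≠ ⊤ := fun h => hpN (by rw [← hCc, h, card_top]; exact hpG)
      exact (hsub C hne (hCc ▸ hdvd q hq hpq.symm hqG) r hr (hCc ▸ hdvd r hr hrp hrG)).elim hrp hrq
  let Q : Sylow q G := default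
  have hQc : Nat.card Q = q ^ (Nat.card G).factorization q := Q.card_eq_multiplicity
  -- Frobenius
  by_cases hgood : ∀ U : Subgroup G, U ≤ (Q : Subgroup G) →
      ∀ g ∈ normalizer (U : Set G), (orderOf g).Coprime q → g ∈ centralizer (U : Set G)
  · obtain ⟨P, K, hK, hcompl⟩ := (Cfsg.Lib.Fusion.frobenius Q).2 hgood
    have hqK : ¬ q ∣ Nat.card K := hcompl.index_eq_card ▸ P.not_dvd_index
    obtain ⟨k, hk⟩ := IsPGroup.iff_card.1 (hodd K hK hqK)
    have h := hrG
    rw [← hcompl.card_mul, hk, P.card_eq_multiplicity] at h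
    rcases hr.dvd_mul.1 h with h | h
    · exact hrp ((Nat.prime_dvd_prime_iff_eq hr hp).1 (hr.dvd_of_dvd_pow h))
    · exact hrq ((Nat.prime_dvd_prime_iff_eq hr hq).1 (hr.dvd_of_dvd_pow h))
  push Not at hgood
  obtain ⟨U, hUQ, g, hgn, hgq, hgc⟩ := hgood
  have hUp : IsPGroup q U := Q.isPGroup'.to_le hUQ
  obtain ⟨u, hu, hgu⟩ : ∃ u ∈ U, ¬ Commute g u := by
    by_contra hno
    push Not at hno
    exact hgc (mem_centralizer_iff.2 fun u hu => (hno u hu).eq.symm)
  have hU1 : U ≠ ⊥ := by
    rintro rfl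
    exact hgu ((mem_bot.1 hu) ▸ Commute.one_right g)
  have hgp : IsPE p g := by
    obtain ⟨e, he⟩ : ∃ e, orderOf g = p ^ e := by
      refine ⟨_, Nat.eq_prime_pow_of_unique_prime_dvd (orderOf_pos g).ne' fun {s} hs hsd => ?_⟩
      by_contra hsp
      have hsq : s ≠ q := by
        rintro rfl
        exact hs.not_dvd_one (hgq.gcd_eq_one ▸ Nat.dvd_gcd hsd dvd_rfl)
      have : Fact s.Prime := ⟨hs⟩
      obtain ⟨x, hx⟩ := exists_prime_orderOf_dvd_card' (G := zpowers g) s (by rwa [Nat.card_zpowers])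
      rw [← Subgroup.orderOf_coe] at hx
      have hd : Disjoint U (zpowers (x : G)) := IsPGroup.disjoint_of_ne q s hsq.symm _ _ hUp
        (IsPE.zpowers_pGroup (⟨1, by rw [pow_one, ← hx, pow_orderOf_eq_one]⟩ : IsPE s (x : G)))
      have hK := Cfsg.Lib.Coprime.card_sup_of_disjoint
        (zpowers_le.2 (zpowers_le.2 hgn x.2)) hd
      obtain ⟨i, hi⟩ := IsPGroup.iff_card.1 hUp
      have hi0 : i ≠ 0 := by
        rintro rfl
        exact hU1 (card_eq_one.1 hi)
      rw [Nat.card_zpowers, hx, hi] at hK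
      have hne : U ⊔ zpowers (x : G) ≠ ⊤ := by
        intro htop
        rw [htop, card_top] at hK
        rcases hp.dvd_mul.1 (hK ▸ hpG) with h | h
        · exact hpq ((Nat.prime_dvd_prime_iff_eq hp hq).1 (hp.dvd_of_dvd_pow h))
        · exact hsp ((Nat.prime_dvd_prime_iff_eq hp hs).1 h).symm
      rcases hsub _ hne (hK ▸ dvd_mul_of_dvd_left (dvd_pow_self q hi0) s) s hs
        (hK ▸ dvd_mul_left s _) with h | h
      exacts [hsp h, hsq h]
    exact ⟨e, by rw [← he, pow_orderOf_eq_one]⟩
  obtain ⟨hUge, -⟩ := orbit_conj hp hgp (fun w hw => conj_mem_of_normalizer hgn hw) hu hgu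
  have hUle : Nat.card U ≤ q ^ (Nat.card G).factorization q := hQc ▸ Subgroup.card_le_of_le hUQ
  rcases hlarge with hlt | ⟨hpe, hab⟩
  · omega
  have hQcard : q ^ (Nat.card G).factorization q = p + 1 := by omega
  have hUeq : U = (Q : Subgroup G) :=
    Subgroup.eq_of_le_of_card_ge hUQ (by rw [hQc, hQcard]; exact hUge)
  have hq2 : q = 2 := by
    have : 2 ∣ q ^ (Nat.card G).factorization q :=
      hQcard ▸ even_iff_two_dvd.1 (hp.odd_of_ne_two hp2).add_one
    exact ((Nat.prime_dvd_prime_iff_eq Nat.prime_two hq).1 (Nat.prime_two.dvd_of_dvd_pow this)).symm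
  subst hq2
  subst hUeq
  exact Cfsg.Lib.Struct.MixedTwo.Ctx.false
    { hp := hp, hp2 := hp2, hpG := hpG, hab := hab
      card_two := fun Q' => by rw [Q'.card_eq_multiplicity, hQcard]
      even := fun H hH h2 s hs hsH => (hsub H hH h2 s hs hsH).symm
      third := ⟨r, hr, hrq, hrp, hrG⟩
      core := hcore
      moving := fun Q' => by
        obtain ⟨h, rfl⟩ := MulAction.exists_smul_eq G Q Q'
        refine ⟨h * g * h⁻¹, hgp.conj h, fun w hw => ?_, h * u * h⁻¹, conj_mem_smul h hu, fun hc => hgu ?_⟩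
        · obtain ⟨k, hk, rfl⟩ := hw
          have := conj_mem_smul h (P := Q) (conj_mem_of_normalizer hgn hk)
          simpa [MulAut.smul_def, mul_assoc] using this
        · have := hc.map (MulAut.conj h⁻¹)
          simpa [MulAut.conj_apply, mul_assoc] using this }

/-- Let G be a finite group and let p and q be distinct primes dividing the order of G, with p odd. Suppose that p divides the order of every proper subgroup of G that is neither a q-group nor of order prime to q. Let q^a be the q-part of the order of G. If p > q^a − 1, or if p = q^a − 1 and the Sylow p-subgroups of G are abelian, then p and q are the only primes dividing the order of G. -/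
theorem result {G : Type*} [Group G] [Finite G]
    {p q : ℕ} (hp : p.Prime) (hq : q.Prime) (hpq : p ≠ q) (hp2 : p ≠ 2)
    (hpG : p ∣ Nat.card G) (hqG : q ∣ Nat.card G)
    (hmix : ∀ H : Subgroup G, H ≠ ⊤ → ¬ IsPGroup q H → q ∣ Nat.card H → p ∣ Nat.card H)
    (hlarge : q ^ (Nat.card G).factorization q - 1 < p ∨
      (p = q ^ (Nat.card G).factorization q - 1 ∧ ∀ P : Sylow p G, IsMulCommutative P)) :
    ∀ r : ℕ, r.Prime → r ∣ Nat.card G → r = p ∨ r = q := by
  exact main (Nat.card G) G p q rfl hp hq hpq hp2 hpG hqG hmix hlarge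

end Cfsg.Agent.S4017
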