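import Cfsg.Statements.S4018
import Cfsg.Agent.S0992
import Cfsg.Agent.Lib.Invol.Basic
import Cfsg.Agent.Lib.Invol.SylowTools
import Cfsg.Agent.Lib.Char.Formulas
import Cfsg.Agent.Lib.Char.Induced
import Cfsg.Agent.Lib.Char.Linear
import Mathlib.GroupTheory.FiniteAbelian.Duality

set_option autoImplicit false
open Cfsg

namespace Cfsg.Agent.S4018

open Subgroup
open scoped ComplexConjugate

/-- The configuration: `C` an abelian TI subgroup with a unique involution `t`, inverted by every
element of `N \ C`, where `N` is the centralizer of `t`. -/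
structure Conf (G : Type*) [Group G] [Finite G] (q : ℕ) where
  N : Subgroup G
  C : Subgroup G
  t : G
  le : C ≤ N
  cardC : Nat.card C = 2 * q
  cardN : Nat.card N = 4 * q
  tmem : t ∈ C
  tord : orderOf t = 2
  comm : ∀ a ∈ C, ∀ b ∈ C, a * b = b * a
  pow_q : ∀ c ∈ C, c ^ q = 1 ∨ c ^ q = t
  ti : ∀ x : G, x ∉ N → ∀ c ∈ C, c ≠ 1 → x * c * x⁻¹ ∉ C
  inverts : ∀ s ∈ N, s ∉ C → orderOf s = 2 ∧ ∀ c ∈ C, s * c * s⁻¹ = c⁻¹
  conjT : ∀ s : G, orderOf s = 2 → IsConj t s
  cent : centralizer ({t} : Set G) = N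
  real : ∀ x s : G, x ≠ 1 → orderOf s = 2 → s * x * s⁻¹ = x⁻¹ → ∃ g : G, g⁻¹ * x * g ∈ C

section

variable {G : Type*} [Group G] [Fintype G] {q : ℕ} (D : Conf G q)

theorem Conf.mem_N_conj {n c : G} (hn : n ∈ D.N) (hc : c ∈ D.C) : n * c * n⁻¹ ∈ D.C := by
  by_cases h : n ∈ D.C
  · exact mul_mem (mul_mem h hc) (inv_mem h)
  · rw [(D.inverts n hn h).2 c hc]; exact inv_mem hc

theorem Conf.invol_eq (hq : Odd q) {c : G} (hc : c ∈ D.C) (h : orderOf c = 2) : c = D.t := by
  obtain ⟨k, hk⟩ := hq
  have h1 : c ^ q = c := by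
    rw [hk, pow_succ, pow_mul, ← h, pow_orderOf_eq_one, one_pow, one_mul]
  rcases D.pow_q c hc with h2 | h2 <;> rw [h1] at h2
  · rw [h2, orderOf_one] at h; omega
  · exact h2

open Classical in
/-- The involutions. -/
noncomputable def invols : Finset G := Finset.univ.filter fun s => orderOf s = 2

theorem mem_invols {s : G} : s ∈ invols (G := G) ↔ orderOf s = 2 := by
  classical
  simp [invols]

open Classical in
theorem Conf.fiber (hq : Odd q) {c : G} (hc : c ∈ D.C) (hc1 : c ≠ 1) :
    ((invols (G := G)).filter fun s => s * c ∈ invols (G := G)) =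
      Finset.univ.filter fun s => s ∈ D.N ∧ s ∉ D.C := by
  ext s
  simp only [Finset.mem_filter, Finset.mem_univ, true_and, mem_invols]
  constructor
  · rintro ⟨hs, hsc⟩
    have hinv : s * c * s⁻¹ = c⁻¹ := by
      rw [Lib.Invol.inv_eq_self hs]
      exact eq_inv_of_mul_eq_one_left (by rw [mul_assoc]; exact Lib.Invol.inv_mul_self hsc)
    refine ⟨by_contra fun h => D.ti s h c hc hc1 (hinv ▸ inv_mem hc), fun hsC => ?_⟩
    have := D.invol_eq hq (mul_mem hsC hc) hsc
    have hst := D.invol_eq hq hsC hs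
    rw [hst] at this
    exact hc1 (mul_eq_left.mp this)
  · rintro ⟨h1, h2⟩
    refine ⟨(D.inverts s h1 h2).1, (D.inverts _ (mul_mem h1 (D.le hc)) fun h => h2 ?_).1⟩
    simpa using mul_mem h (inv_mem hc)

open Classical in
theorem Conf.card_diff : (Finset.univ.filter fun s => s ∈ D.N ∧ s ∉ D.C).card = 2 * q := by
  have h1 : (Finset.univ.filter fun s => s ∈ D.N).card = 4 * q := by
    rw [← D.cardN, Nat.card_eq_fintype_card]
    exact (Fintype.card_subtype _).symm
  have h2 : (Finset.univ.filter fun s => s ∈ D.C).card = 2 * q := by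
    rw [← D.cardC, Nat.card_eq_fintype_card]
    exact (Fintype.card_subtype _).symm
  have h3 := Finset.card_sdiff_add_card_eq_card
    (show (Finset.univ.filter fun s => s ∈ D.C) ⊆ Finset.univ.filter fun s => s ∈ D.N from
      fun s hs => by simp only [Finset.mem_filter, Finset.mem_univ, true_and] at hs ⊢; exact D.le hs)
  have h4 : (Finset.univ.filter fun s => s ∈ D.N ∧ s ∉ D.C) =
      (Finset.univ.filter fun s => s ∈ D.N) \ Finset.univ.filter fun s => s ∈ D.C := by
    ext s; simp
  rw [h4]; omega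

theorem Conf.card_invols : (invols (G := G)).card = D.N.index := by
  rw [← D.cent, ← Lib.Char.card_classFinset]
  congr 1
  ext s
  rw [mem_invols, Lib.Char.mem_classFinset]
  refine ⟨D.conjT s, fun h => ?_⟩
  obtain ⟨g, rfl⟩ := isConj_iff.mp h
  rw [Lib.Invol.orderOf_conj_eq, D.tord]

theorem Conf.count (hq : Odd q) : D.N.index + 2 * q = 4 * q * q + 1 := by
  classical
  set S := invols (G := G) with hS
  let f : G → ℕ := fun x => (S.filter fun s => s * x ∈ S).card
  have htot : ∑ x, f x = S.card * S.card := by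
    rw [← Finset.card_product,
      Finset.card_eq_sum_card_fiberwise (f := fun p : G × G => p.1⁻¹ * p.2) (t := Finset.univ)
        (fun _ _ => Finset.mem_coe.mpr (Finset.mem_univ _))]
    refine Finset.sum_congr rfl fun x _ => ?_
    refine Finset.card_bij (fun s _ => (s, s * x)) ?_ ?_ ?_
    · intro s hs
      simp only [Finset.mem_filter, Finset.mem_product] at hs ⊢
      exact ⟨hs, by simp⟩
    · intro a _ b _ h; exact congrArg Prod.fst h
    · rintro ⟨a, b⟩ hab
      simp only [Finset.mem_filter, Finset.mem_product] at hab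
      obtain ⟨⟨ha, hb⟩, rfl⟩ := hab
      exact ⟨a, Finset.mem_filter.mpr ⟨ha, by simpa using hb⟩, by simp⟩
  have hconj : ∀ x g : G, f (g * x * g⁻¹) = f x := by
    intro x g
    refine (Finset.card_bij (fun s _ => g * s * g⁻¹) ?_ ?_ ?_).symm
    · intro s hs
      simp only [Finset.mem_filter, hS, mem_invols] at hs ⊢
      rw [show g * s * g⁻¹ * (g * x * g⁻¹) = g * (s * x) * g⁻¹ by group,
        Lib.Invol.orderOf_conj_eq, Lib.Invol.orderOf_conj_eq]
      exact hs
    · intro a _ b _ h; exact mul_left_cancel (mul_right_cancel h)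
    · intro s hs
      refine ⟨g⁻¹ * s * g, ?_, by group⟩
      simp only [Finset.mem_filter, hS, mem_invols] at hs ⊢
      rw [show g⁻¹ * s * g * x = g⁻¹ * (s * (g * x * g⁻¹)) * g⁻¹⁻¹ by group,
        show g⁻¹ * s * g = g⁻¹ * s * g⁻¹⁻¹ by group,
        Lib.Invol.orderOf_conj_eq, Lib.Invol.orderOf_conj_eq]
      exact hs
  have hval : ∀ c ∈ D.C, c ≠ 1 → f c = 2 * q := fun c hc hc1 => by
    show (S.filter fun s => s * c ∈ S).card = _
    rw [D.fiber hq hc hc1, D.card_diff]
  let U : Finset G := (Finset.univ ×ˢ Finset.univ.filter fun c => c ∈ D.C ∧ c ≠ 1).image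
    fun p : (G ⧸ D.N) × G => p.1.out * p.2 * p.1.out⁻¹
  have hU : U.card = D.N.index * (2 * q - 1) := by
    rw [Finset.card_image_of_injOn, Finset.card_product, Finset.card_univ,
      ← Nat.card_eq_fintype_card]
    · congr 1
      have : (Finset.univ.filter fun c => c ∈ D.C ∧ c ≠ 1) =
          (Finset.univ.filter fun c => c ∈ D.C).erase 1 := by
        ext c; simp [and_comm]
      rw [this, Finset.card_erase_of_mem (by simp), ← D.cardC, Nat.card_eq_fintype_card,
        Fintype.card_subtype]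
    · rintro ⟨y, c⟩ hp ⟨y', c'⟩ hp' h
      simp only [Finset.coe_product, Finset.coe_univ, Set.mem_prod, Set.mem_univ, true_and,
        Finset.coe_filter, Set.mem_setOf_eq, Finset.mem_univ] at hp hp' h
      have hy : y = y' := by
        by_contra hne
        refine D.ti (y'.out⁻¹ * y.out) (fun hh => hne ?_) c hp.1 hp.2 ?_
        · rw [← QuotientGroup.out_eq' y, ← QuotientGroup.out_eq' y']
          exact (QuotientGroup.eq.mpr hh).symm
        · rw [show y'.out⁻¹ * y.out * c * (y'.out⁻¹ * y.out)⁻¹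
            = y'.out⁻¹ * (y.out * c * y.out⁻¹) * y'.out by group, h]
          simpa [mul_assoc] using hp'.1
      subst hy
      exact Prod.ext rfl (mul_left_cancel (mul_right_cancel h))
  have h1U : (1 : G) ∉ U := by
    simp only [U, Finset.mem_image, Finset.mem_product, Finset.mem_univ, true_and,
      Finset.mem_filter]
    rintro ⟨⟨y, c⟩, ⟨-, hc1⟩, h⟩
    exact hc1 (conj_eq_one_iff.mp h)
  have hUval : ∀ x ∈ U, f x = 2 * q := by
    intro x hx
    simp only [U, Finset.mem_image, Finset.mem_product, Finset.mem_univ, true_and,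
      Finset.mem_filter] at hx
    obtain ⟨⟨y, c⟩, ⟨hc, hc1⟩, rfl⟩ := hx
    rw [hconj, hval c hc hc1]
  have hzero : ∀ x, x ≠ 1 → x ∉ U → f x = 0 := by
    intro x hx1 hxU
    refine Finset.card_eq_zero.mpr (Finset.eq_empty_of_forall_notMem fun s hs => hxU ?_)
    simp only [Finset.mem_filter, hS, mem_invols] at hs
    have hinv : s * x * s⁻¹ = x⁻¹ := by
      rw [Lib.Invol.inv_eq_self hs.1]
      exact eq_inv_of_mul_eq_one_left (by rw [mul_assoc]; exact Lib.Invol.inv_mul_self hs.2)
    obtain ⟨g, hg⟩ := D.real x s hx1 hs.1 hinv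
    simp only [U, Finset.mem_image, Finset.mem_product, Finset.mem_univ, true_and,
      Finset.mem_filter]
    obtain ⟨n, hn⟩ := QuotientGroup.mk_out_eq_mul D.N g
    refine ⟨((g : G ⧸ D.N), (n : G)⁻¹ * (g⁻¹ * x * g) * n), ⟨?_, fun h => hx1 ?_⟩, ?_⟩
    · simpa using D.mem_N_conj (inv_mem n.2) hg
    · have := congrArg (fun w => g * ((n : G) * w * (n : G)⁻¹) * g⁻¹) h
      simpa [mul_assoc] using this
    · simp only [hn]; group
  have hsum : ∑ x, f x = S.card + U.card * (2 * q) := by
    rw [← Finset.sum_subset (Finset.subset_univ (insert 1 U))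
      (fun x _ hx => hzero x (fun h => hx (by simp [h])) (fun h => hx (Finset.mem_insert_of_mem h))),
      Finset.sum_insert h1U, Finset.sum_congr rfl hUval, Finset.sum_const, smul_eq_mul]
    congr 1
    refine congrArg Finset.card (Finset.filter_true_of_mem fun s hs => by simpa using hs)
  rw [htot, hU, hS, D.card_invols] at hsum
  have hI : 0 < D.N.index := Nat.pos_of_ne_zero index_ne_zero_of_finite
  have : D.N.index = 1 + (2 * q - 1) * (2 * q) := Nat.eq_of_mul_eq_mul_left hI (by rw [hsum]; ring)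
  have hq0 : 1 ≤ q := hq.pos
  obtain ⟨r, hr⟩ : ∃ r, 2 * q = r + 1 := ⟨2 * q - 1, by omega⟩
  rw [this, show (2 * q - 1) = r by omega]
  nlinarith

/-- A linear character as a function. -/
def linFn {H : Type*} [Group H] (φ : H →* ℂˣ) : H → ℂ := fun h => (φ h : ℂ)

theorem classInner_linFn {H : Type*} [Group H] [Fintype H] [DecidableEq (H →* ℂˣ)]
    (φ ψ : H →* ℂˣ) : classInner (linFn φ) (linFn ψ) = if φ = ψ then 1 else 0 := by
  split_ifs with h
  · subst h; exact Lib.Char.classInner_irr_self (Lib.Char.isIrrCharacter_linear φ)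
  · refine Lib.Char.classInner_irr_ne (Lib.Char.isIrrCharacter_linear φ)
      (Lib.Char.isIrrCharacter_linear ψ) fun h' => h ?_
    ext g
    exact congrFun h' g

theorem sq_sum_one {ι : Type*} {s : Finset ι} {n : ι → ℤ} (h : ∑ i ∈ s, n i * n i = 1) :
    ∃ a ∈ s, (n a = 1 ∨ n a = -1) ∧ ∀ y ∈ s, y ≠ a → n y = 0 := by
  classical
  obtain ⟨a, ha, hne⟩ := Finset.exists_ne_zero_of_sum_ne_zero (h.trans_ne one_ne_zero)
  have hsplit := Finset.sum_erase_add s (fun y => n y * n y) ha
  have hnn : 0 ≤ ∑ y ∈ s.erase a, n y * n y := Finset.sum_nonneg fun y _ => mul_self_nonneg _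
  have h1 : n a * n a = 1 := by
    have := mul_self_nonneg (n a)
    omega
  refine ⟨a, ha, mul_self_eq_one_iff.mp h1, fun y hy hya => ?_⟩
  have h2 : n y * n y ≤ ∑ z ∈ s.erase a, n z * n z :=
    Finset.single_le_sum (f := fun z => n z * n z) (fun z _ => mul_self_nonneg _)
      (Finset.mem_erase.mpr ⟨hya, hy⟩)
  have := mul_self_nonneg (n y)
  exact mul_self_eq_zero.mp (by omega)

theorem sq_sum_two {ι : Type*} [Fintype ι] [DecidableEq ι] {n : ι → ℤ}
    (h : ∑ i, n i * n i = 2) :
    ∃ a b, a ≠ b ∧ (n a = 1 ∨ n a = -1) ∧ (n b = 1 ∨ n b = -1) ∧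
      ∀ y, y ≠ a → y ≠ b → n y = 0 := by
  obtain ⟨a, ha, hne⟩ := Finset.exists_ne_zero_of_sum_ne_zero (h.trans_ne two_ne_zero)
  have hsplit := Finset.sum_erase_add Finset.univ (fun y => n y * n y) ha
  have hnn : 0 ≤ ∑ y ∈ Finset.univ.erase a, n y * n y := Finset.sum_nonneg fun y _ => mul_self_nonneg _
  have hna : n a ≠ 0 := fun h0 => hne (by simp [h0])
  have h1 : n a * n a = 1 := by
    have h0 : n a * n a ≤ 2 := by omega
    have : n a ≤ 1 := by nlinarith
    have : -1 ≤ n a := by nlinarith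
    rcases (show n a = 1 ∨ n a = -1 by omega) with h' | h' <;> rw [h'] <;> norm_num
  obtain ⟨b, hb, hb1, hb0⟩ := sq_sum_one (s := Finset.univ.erase a) (n := n) (by omega)
  exact ⟨a, b, (Finset.ne_of_mem_erase hb).symm, mul_self_eq_one_iff.mp h1, hb1,
    fun y hya hyb => hb0 y (Finset.mem_erase.mpr ⟨hya, Finset.mem_univ y⟩) hyb⟩

theorem Conf.indFun_apply {b : D.C → ℂ} (c : D.C) (hc : c ≠ 1) :
    indFun D.C b c = b c + b c⁻¹ := by
  classical
  have hc' : (c : G) ≠ 1 := fun h => hc (Subtype.ext h)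
  have key : ∀ x : G, extendByZero D.C b (x⁻¹ * c * x) =
      (if x ∈ D.C then b c else 0) + (if x ∈ D.N ∧ x ∉ D.C then b c⁻¹ else 0) := by
    intro x
    by_cases hxC : x ∈ D.C
    · have h1 : x⁻¹ * c * x = c := by
        rw [mul_assoc, D.comm c c.2 x hxC, inv_mul_cancel_left]
      rw [h1, if_pos hxC, if_neg (fun h => h.2 hxC), add_zero, Lib.Char.extendByZero_coe]
    · rw [if_neg hxC, zero_add]
      by_cases hxN : x ∈ D.N
      · have h1 : x⁻¹ * c * x = ((c⁻¹ : D.C) : G) := by
          have := (D.inverts _ (inv_mem hxN) (fun h => hxC (inv_mem_iff.mp h))).2 c c.2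
          rwa [inv_inv] at this
        rw [h1, if_pos ⟨hxN, hxC⟩, Lib.Char.extendByZero_coe]
      · rw [if_neg (fun h => hxN h.1), Lib.Char.extendByZero_of_notMem]
        have := D.ti x⁻¹ (fun h => hxN (inv_mem_iff.mp h)) c c.2 hc'
        rwa [inv_inv] at this
  have hq : (q : ℂ) ≠ 0 := by
    have := D.cardC
    have := Nat.card_pos (α := D.C)
    exact Nat.cast_ne_zero.mpr (by omega)
  simp only [indFun, key, Finset.sum_add_distrib, ← Finset.sum_filter, Finset.sum_const,
    nsmul_eq_mul]
  have hcC : (Finset.univ.filter fun s => s ∈ D.C).card = 2 * q := by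
    rw [← D.cardC, Nat.card_eq_fintype_card]
    exact (Fintype.card_subtype _).symm
  rw [hcC, D.card_diff, D.cardC]
  push_cast
  field_simp

/-- The exceptional character relation. -/
theorem Conf.char_relation (hq : Odd q) {v : G} (hv : v ∈ D.C) (hv3 : orderOf v = 3) :
    ∃ d : ℤ, (d - 2) ^ 2 * D.N.index = 8 * (q : ℤ) ^ 2 * (d * (d - 1)) ∧ d ≠ 0 ∧ d ≠ 1 := by
  classical
  let C := D.C
  letI : CommGroup C := { (inferInstance : Group C) with
    mul_comm := fun a b => Subtype.ext (D.comm a a.2 b b.2) }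
  have := Fintype.ofFinite C
  obtain ⟨μ, hμ⟩ := CommGroup.exists_apply_ne_one_of_hasEnoughRootsOfUnity C ℂ
    (a := (⟨v, hv⟩ : C)) (fun h => by
      have := congrArg Subtype.val h
      simp only [OneMemClass.coe_one] at this
      rw [this, orderOf_one] at hv3; omega)
  let tC : C := ⟨D.t, D.tmem⟩
  have ht2 : tC * tC = 1 := Subtype.ext (Lib.Invol.inv_mul_self D.tord)
  have ht1 : tC ≠ 1 := fun h => Lib.Invol.ne_one D.tord (congrArg Subtype.val h)
  let lam : C →* ℂˣ := μ.comp (powMonoidHom 2)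
  let sig : C →* ℂˣ :=
    { toFun := fun c => if c ^ q = 1 then 1 else -1
      map_one' := by simp
      map_mul' := fun a b => by
        have hp : ∀ c : C, c ^ q = 1 ∨ c ^ q = tC := fun c => by
          rcases D.pow_q c c.2 with h | h
          · exact Or.inl (Subtype.ext (by simpa using h))
          · exact Or.inr (Subtype.ext (by simpa using h))
        rcases hp a with ha | ha <;> rcases hp b with hb | hb <;>
          simp [mul_pow, ha, hb, ht1, ht2] }
  have hlt : lam tC = 1 := by simp [lam, pow_two, ht2]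
  have hst : sig tC = -1 := by
    obtain ⟨k, hk⟩ := hq
    have : tC ^ q = tC := by rw [hk, pow_succ, pow_mul, pow_two, ht2, one_pow, one_mul]
    simp [sig, this, ht1]
  have hv3' : (⟨v, hv⟩ : C) ^ 3 = 1 := Subtype.ext (by simpa [hv3] using pow_orderOf_eq_one v)
  have hne4 : μ (⟨v, hv⟩ ^ 4) ≠ 1 := by
    rw [pow_succ, hv3', one_mul]; exact hμ
  have hll : lam * lam ≠ 1 := fun h => hne4 (by
    have := DFunLike.congr_fun h (⟨v, hv⟩ : C)
    simpa [lam, ← map_mul, ← pow_add] using this)
  have hsig : sig * sig = 1 := by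
    ext c
    show (((if c ^ q = 1 then (1 : ℂˣ) else -1) * (if c ^ q = 1 then (1 : ℂˣ) else -1) : ℂˣ) : ℂ) = _
    split_ifs <;> simp
  have hs1 : sig ≠ 1 := fun h => by
    have := congrArg Units.val (DFunLike.congr_fun h tC)
    rw [hst] at this
    norm_num at this
  have hl1 : lam ≠ 1 := fun h => hll (MonoidHom.ext fun z => by
    rw [MonoidHom.mul_apply, h, MonoidHom.one_apply, one_mul])
  have hls : lam ≠ lam * sig := fun h => hs1 (MonoidHom.ext fun z => by
    have := DFunLike.congr_fun h z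
    rw [MonoidHom.mul_apply, left_eq_mul] at this
    rw [MonoidHom.one_apply, this])
  have hli : lam ≠ lam⁻¹ := fun h => hll (MonoidHom.ext fun z => by
    have := DFunLike.congr_fun h z
    rw [MonoidHom.inv_apply] at this
    rw [MonoidHom.mul_apply, MonoidHom.one_apply]
    exact mul_eq_one_iff_eq_inv.mpr this)
  have hlis : lam ≠ lam⁻¹ * sig := fun h => by
    have := congrArg Units.val (DFunLike.congr_fun h tC)
    rw [MonoidHom.mul_apply, MonoidHom.inv_apply, hlt, hst] at this
    norm_num at this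
  have hlsi : lam * sig ≠ lam⁻¹ := fun h => by
    have := congrArg Units.val (DFunLike.congr_fun h tC)
    rw [MonoidHom.mul_apply, MonoidHom.inv_apply, hlt, hst] at this
    norm_num at this
  have hlsis : lam * sig ≠ lam⁻¹ * sig := fun h => hli (mul_right_cancel h)
  have hl1s : (1 : C →* ℂˣ) ≠ lam * sig := fun h => by
    have := congrArg Units.val (DFunLike.congr_fun h tC)
    rw [MonoidHom.mul_apply, hlt, hst] at this
    norm_num at this
  have hl1is : (1 : C →* ℂˣ) ≠ lam⁻¹ * sig := fun h => by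
    have := congrArg Units.val (DFunLike.congr_fun h tC)
    rw [MonoidHom.mul_apply, MonoidHom.inv_apply, hlt, hst] at this
    norm_num at this
  have hl1i : (1 : C →* ℂˣ) ≠ lam⁻¹ := fun h => hl1 (MonoidHom.ext fun z => by
    have := DFunLike.congr_fun h z
    rw [MonoidHom.inv_apply, MonoidHom.one_apply] at this
    rw [MonoidHom.one_apply]
    exact inv_eq_one.mp this.symm)
  let b3 : C → ℂ := linFn lam - linFn (lam * sig)
  let b4 : C → ℂ := linFn 1 - linFn lam
  have hflip : ∀ φ : C →* ℂˣ, (fun c : C => linFn φ c⁻¹) = linFn φ⁻¹ := fun φ => funext fun c => by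
    simp [linFn, map_inv, MonoidHom.inv_apply]
  -- inner products of the induced functions
  have hinner : ∀ b b' : C → ℂ, b 1 = 0 →
      classInner (indFun C b) (indFun C b') = classInner b (b' + fun c => b' c⁻¹) := by
    intro b b' hb
    rw [Lib.Char.classInner_indFun C b (Lib.Char.isClassFunction_indFun C b')]
    simp only [classInner]
    congr 1
    refine Finset.sum_congr rfl fun c _ => ?_
    by_cases hc : c = 1
    · subst hc; rw [hb, zero_mul, zero_mul]
    · rw [D.indFun_apply c hc]; rfl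
  have hb31 : b3 1 = 0 := by simp [b3, linFn]
  have hb41 : b4 1 = 0 := by simp [b4, linFn]
  have hb3f : (b3 + fun c => b3 c⁻¹) =
      linFn lam - linFn (lam * sig) + (linFn lam⁻¹ - linFn (lam⁻¹ * sig)) := by
    rw [show lam⁻¹ * sig = (lam * sig)⁻¹ from MonoidHom.ext fun z => by
      have hz := DFunLike.congr_fun hsig z
      rw [MonoidHom.mul_apply, MonoidHom.one_apply] at hz
      rw [MonoidHom.mul_apply, MonoidHom.inv_apply, MonoidHom.inv_apply, MonoidHom.mul_apply,
        mul_inv, inv_eq_of_mul_eq_one_right hz], ← hflip, ← hflip]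
    rfl
  have hb4f : (b4 + fun c => b4 c⁻¹) = linFn 1 - linFn lam + (linFn 1 - linFn lam⁻¹) := by
    rw [← hflip lam]
    conv_rhs => arg 2; arg 1; rw [show linFn (1 : C →* ℂˣ) = fun c : C => linFn (1 : C →* ℂˣ) c⁻¹ from
      funext fun c => by simp [linFn]]
    rfl
  have n33 : classInner (indFun C b3) (indFun C b3) = 2 := by
    rw [hinner b3 b3 hb31, hb3f]
    simp only [b3, Lib.Char.classInner_sub_left, Lib.Char.classInner_sub_right,
      Lib.Char.classInner_add_right, classInner_linFn, hls, hls.symm, hli, hlis, hlsi, hlsis,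
      if_false, if_true]
    norm_num
  have n44 : classInner (indFun C b4) (indFun C b4) = 3 := by
    rw [hinner b4 b4 hb41, hb4f]
    simp only [b4, Lib.Char.classInner_sub_left, Lib.Char.classInner_sub_right,
      Lib.Char.classInner_add_right, classInner_linFn, hl1, hl1.symm, hl1i, hli,
      if_false, if_true]
    norm_num
  have n43 : classInner (indFun C b4) (indFun C b3) = -1 := by
    rw [hinner b4 b3 hb41, hb3f]
    simp only [b4, Lib.Char.classInner_sub_left, Lib.Char.classInner_sub_right,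
      Lib.Char.classInner_add_right, classInner_linFn, hl1, hl1.symm, hl1i, hl1s, hl1is, hls, hli,
      hlis, if_false, if_true]
    norm_num
  have hlin : ∀ φ : C →* ℂˣ, IsGeneralizedCharacter C (linFn φ) := fun φ =>
    (Lib.Char.isIrrCharacter_linear φ).isGeneralized
  have hgen : ∀ b : C → ℂ, IsGeneralizedCharacter C b →
      ∀ χ : IrrCharacter G, ∃ n : ℤ, classInner (indFun C b) (χ : G → ℂ) = n := fun b hb χ =>
    (Lib.Char.isGeneralizedCharacter_iff.mp
      (Lib.Char.isGeneralizedCharacter_indFun C hb)).2 χ χ.2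
  choose n hn using hgen b3 ((hlin _).sub (hlin _))
  choose m hm using hgen b4 ((hlin _).sub (hlin _))
  have hpars : ∀ (b b' : C → ℂ) (k k' : IrrCharacter G → ℤ),
      (∀ χ : IrrCharacter G, classInner (indFun C b) (χ : G → ℂ) = k χ) →
      (∀ χ : IrrCharacter G, classInner (indFun C b') (χ : G → ℂ) = k' χ) →
      classInner (indFun C b) (indFun C b') = ((∑ χ, k χ * k' χ : ℤ) : ℂ) := by
    intro b b' k k' hk hk'
    rw [Lib.Char.classInner_eq_sum (Lib.Char.isClassFunction_indFun C b)]
    push_cast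
    refine Finset.sum_congr rfl fun χ _ => ?_
    rw [hk, hk', map_intCast]
  have s33 : ∑ χ, n χ * n χ = 2 := by
    exact_mod_cast (hpars b3 b3 n n hn hn).symm.trans n33
  have s44 : ∑ χ, m χ * m χ = 3 := by
    exact_mod_cast (hpars b4 b4 m m hm hm).symm.trans n44
  have s43 : ∑ χ, m χ * n χ = -1 := by
    exact_mod_cast (hpars b4 b3 m n hm hn).symm.trans n43
  -- the trivial character
  let e : IrrCharacter G := ⟨fun _ => 1, Lib.Char.isIrrCharacter_one⟩
  have hone : ∀ b : C → ℂ, classInner (indFun C b) (e : G → ℂ) = classInner b (linFn 1) := by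
    intro b
    rw [Lib.Char.classInner_indFun C b e.2.isClassFunction]
    congr 1
  have hne : n e = 0 := by
    have : (n e : ℂ) = 0 := by
      rw [← hn, hone]
      simp only [b3, Lib.Char.classInner_sub_left, classInner_linFn, hl1, hl1s.symm, if_false]
      norm_num
    exact_mod_cast this
  have hme : m e = 1 := by
    have : (m e : ℂ) = 1 := by
      rw [← hm, hone]
      simp only [b4, Lib.Char.classInner_sub_left, classInner_linFn, hl1, if_false, if_true]
      norm_num
    exact_mod_cast this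
  obtain ⟨a, b, hab, hna, hnb, hn0⟩ :
      ∃ a b, a ≠ b ∧ (n a = 1 ∨ n a = -1) ∧ (n b = 1 ∨ n b = -1) ∧
        ∀ y, y ≠ a → y ≠ b → n y = 0 := sq_sum_two s33
  have he_a : e ≠ a := fun h => by rw [← h, hne] at hna; omega
  have he_b : e ≠ b := fun h => by rw [← h, hne] at hnb; omega
  have hm2 : ∑ y ∈ Finset.univ.erase e, m y * m y = 2 := by
    have := Finset.sum_erase_add Finset.univ (fun y => m y * m y) (Finset.mem_univ e)
    rw [s44, hme] at this
    omega
  have hmb : ∀ y, y ≠ e → m y * m y ≤ 2 := fun y hy => hm2 ▸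
    Finset.single_le_sum (f := fun z => m z * m z) (fun z _ => mul_self_nonneg _) (by simp [hy])
  have hprod : m a * n a + m b * n b = -1 := by
    rw [← s43]
    exact (Finset.sum_eq_add (f := fun y => m y * n y) a b hab
      (fun y _ hy => by simp [hn0 y hy.1 hy.2]) (fun h => absurd (Finset.mem_univ _) h)
      (fun h => absurd (Finset.mem_univ _) h)).symm
  -- choose the shared constituent
  obtain ⟨a, b, hab, hna, hnb, hn0, hma, he_a, he_b⟩ :
      ∃ a b, a ≠ b ∧ (n a = 1 ∨ n a = -1) ∧ (n b = 1 ∨ n b = -1) ∧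
        (∀ y, y ≠ a → y ≠ b → n y = 0) ∧ (m a = -n a) ∧ e ≠ a ∧ e ≠ b := by
    have hsq : ∀ y, y ≠ e → m y = -1 ∨ m y = 0 ∨ m y = 1 := fun y hy => by
      have := hmb y hy
      have : m y ≤ 1 := by nlinarith
      have : -1 ≤ m y := by nlinarith
      omega
    have h := hsq a he_a.symm
    have h' := hsq b he_b.symm
    by_cases hx : m a = -n a
    · exact ⟨a, b, hab, hna, hnb, hn0, hx, he_a, he_b⟩
    · refine ⟨b, a, hab.symm, hnb, hna, fun y h1 h2 => hn0 y h2 h1, ?_, he_b, he_a⟩
      rcases hna with ha | ha <;> rcases hnb with hb | hb <;> rw [ha, hb] at hprod <;>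
        rw [ha] at hx <;> rw [hb] <;> omega
  obtain ⟨x, hx, hmx, hm0⟩ :
      ∃ x ∈ (Finset.univ.erase e).erase a, (m x = 1 ∨ m x = -1) ∧
        ∀ y ∈ (Finset.univ.erase e).erase a, y ≠ x → m y = 0 := by
    refine sq_sum_one ?_
    have := Finset.sum_erase_add (Finset.univ.erase e) (fun y => m y * m y)
      (show a ∈ Finset.univ.erase e by simp [he_a.symm])
    rw [hm2, hma] at this
    rcases hna with ha | ha <;> rw [ha] at this <;> omega
  have hxa : x ≠ a := Finset.ne_of_mem_erase hx
  have hxe : x ≠ e := Finset.ne_of_mem_erase (Finset.mem_of_mem_erase hx)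
  -- the expansions
  have exp3 : ∀ F : IrrCharacter G → ℂ, ∑ χ, (n χ : ℂ) * F χ = n a * F a + n b * F b := fun F =>
    Finset.sum_eq_add a b hab (fun y _ hy => by simp [hn0 y hy.1 hy.2])
      (fun h => absurd (Finset.mem_univ _) h) (fun h => absurd (Finset.mem_univ _) h)
  have exp4 : ∀ F : IrrCharacter G → ℂ,
      ∑ χ, (m χ : ℂ) * F χ = F e - n a * F a + m x * F x := fun F => by
    rw [← Finset.sum_erase_add _ _ (Finset.mem_univ e),
      ← Finset.sum_erase_add _ _ (show a ∈ Finset.univ.erase e by simp [he_a.symm]),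
      Finset.sum_eq_single_of_mem x hx (fun y hy hyx => by simp [hm0 y hy hyx]), hme, hma]
    push_cast
    ring
  have hexp : ∀ (b : C → ℂ) (k : IrrCharacter G → ℤ),
      (∀ χ : IrrCharacter G, classInner (indFun C b) (χ : G → ℂ) = k χ) →
      ∀ g, indFun C b g = ∑ χ, (k χ : ℂ) * (χ : G → ℂ) g := by
    intro b k hk g
    conv_lhs => rw [Lib.Char.eq_sum_classInner (Lib.Char.isClassFunction_indFun C b)]
    simp only [Finset.sum_apply, Pi.smul_apply, smul_eq_mul, hk]
  -- the class multiplication relation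
  have hI : (D.N.index : ℂ) ≠ 0 := Nat.cast_ne_zero.mpr index_ne_zero_of_finite
  have hcardG : (Nat.card G : ℂ) = 4 * q * D.N.index := by
    rw [← card_mul_index D.N, D.cardN]; push_cast; ring
  let F : G → ℂ := fun g => ∑ χ : IrrCharacter G,
    (χ : G → ℂ) D.t * (χ : G → ℂ) D.t * conj ((χ : G → ℂ) g) / (χ : G → ℂ) 1
  have hclass : Lib.Char.classFinset D.t = invols (G := G) := by
    ext s
    rw [mem_invols, Lib.Char.mem_classFinset]
    refine ⟨fun h => ?_, D.conjT s⟩
    obtain ⟨g, rfl⟩ := isConj_iff.mp h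
    rw [Lib.Invol.orderOf_conj_eq, D.tord]
  have hF : ∀ c : C, c ≠ 1 → F c = 8 * (q : ℂ) ^ 2 / D.N.index := by
    intro c hc
    have hc' : (c : G) ≠ 1 := fun h => hc (Subtype.ext h)
    have h1 := Lib.Char.card_class_product D.t D.t (c : G)
    rw [hclass] at h1
    have h2 : ((invols (G := G) ×ˢ invols (G := G)).filter fun p => p.1 * p.2 = (c : G)).card
        = 2 * q := by
      rw [← D.card_diff, ← D.fiber hq c.2 hc']
      refine (Finset.card_bij (fun s _ => (s, s * (c : G))) ?_ ?_ ?_).symm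
      · intro s hs
        simp only [Finset.mem_filter, Finset.mem_product] at hs ⊢
        refine ⟨hs, ?_⟩
        rw [← mul_assoc, Lib.Invol.inv_mul_self (mem_invols.mp hs.1), one_mul]
      · intro a _ b _ h; exact congrArg Prod.fst h
      · rintro ⟨u, w⟩ hp
        simp only [Finset.mem_filter, Finset.mem_product] at hp
        have hw : u * (c : G) = w := by
          rw [← hp.2, ← mul_assoc, Lib.Invol.inv_mul_self (mem_invols.mp hp.1.1), one_mul]
        exact ⟨u, Finset.mem_filter.mpr ⟨hp.1.1, hw ▸ hp.1.2⟩, by rw [hw]⟩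
    rw [h2, D.card_invols] at h1
    show F c = _
    have hq' : (q : ℂ) ≠ 0 := Nat.cast_ne_zero.mpr hq.pos.ne'
    push_cast at h1
    change (2 * (q : ℂ)) = (D.N.index : ℂ) * D.N.index / (Nat.card G : ℂ) * F c at h1
    rw [hcardG] at h1
    field_simp at h1 ⊢
    linear_combination -h1
  have hrel : ∀ (b : C → ℂ) (k : IrrCharacter G → ℤ), b 1 = 0 →
      (∀ χ : IrrCharacter G, classInner (indFun C b) (χ : G → ℂ) = k χ) →
      ∑ χ, (k χ : ℂ) * ((χ : G → ℂ) D.t * (χ : G → ℂ) D.t / (χ : G → ℂ) 1) =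
        8 * (q : ℂ) ^ 2 / D.N.index * classInner b (linFn 1) := by
    intro b k hb hk
    have : ∀ χ : IrrCharacter G, (k χ : ℂ) = classInner b (fun c : C => (χ : G → ℂ) c) := fun χ => by
      rw [← hk, Lib.Char.classInner_indFun C b χ.2.isClassFunction]
    simp only [this, classInner, mul_assoc, Finset.sum_mul, ← Finset.mul_sum]
    rw [Finset.sum_comm, mul_left_comm, Finset.mul_sum (a := 8 * (q : ℂ) ^ 2 / D.N.index)]
    congr 1
    refine Finset.sum_congr rfl fun c _ => ?_
    by_cases hc : c = 1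
    · subst hc; simp [hb]
    · rw [← hF c hc]
      simp only [F, Finset.mul_sum, Finset.sum_mul, linFn, MonoidHom.one_apply, Units.val_one,
        map_one, mul_one]
      exact Finset.sum_congr rfl fun χ _ => by ring
  have ht : ∀ b : C → ℂ, indFun C b D.t = 2 * b tC := fun b => by
    rw [show D.t = ((tC : C) : G) from rfl, D.indFun_apply tC ht1,
      inv_eq_of_mul_eq_one_right ht2]
    ring
  -- evaluate
  have e31 : (n a : ℂ) * (a : G → ℂ) 1 + n b * (b : G → ℂ) 1 = 0 := by
    rw [← exp3 fun χ => (χ : G → ℂ) 1, ← hexp b3 n hn 1, Lib.Char.indFun_apply_one, hb31, mul_zero]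
  have e3t : (n a : ℂ) * (a : G → ℂ) D.t + n b * (b : G → ℂ) D.t = 4 := by
    rw [← exp3 fun χ => (χ : G → ℂ) D.t, ← hexp b3 n hn, ht]
    simp [b3, linFn, MonoidHom.mul_apply, hlt, hst]
    norm_num
  have e3r : (n a : ℂ) * ((a : G → ℂ) D.t * (a : G → ℂ) D.t / (a : G → ℂ) 1) +
      n b * ((b : G → ℂ) D.t * (b : G → ℂ) D.t / (b : G → ℂ) 1) = 0 := by
    rw [← exp3 fun χ => (χ : G → ℂ) D.t * (χ : G → ℂ) D.t / (χ : G → ℂ) 1, hrel b3 n hb31 hn]
    simp only [b3, Lib.Char.classInner_sub_left, classInner_linFn, hl1, hl1s.symm, if_false]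
    ring
  have e41 : 1 - (n a : ℂ) * (a : G → ℂ) 1 + m x * (x : G → ℂ) 1 = 0 := by
    rw [← exp4 fun χ => (χ : G → ℂ) 1, ← hexp b4 m hm 1, Lib.Char.indFun_apply_one, hb41, mul_zero]
  have e4t : 1 - (n a : ℂ) * (a : G → ℂ) D.t + m x * (x : G → ℂ) D.t = 0 := by
    rw [← exp4 fun χ => (χ : G → ℂ) D.t, ← hexp b4 m hm, ht]
    simp [b4, linFn, hlt]
  have e4r : 1 - (n a : ℂ) * ((a : G → ℂ) D.t * (a : G → ℂ) D.t / (a : G → ℂ) 1) +
      m x * ((x : G → ℂ) D.t * (x : G → ℂ) D.t / (x : G → ℂ) 1) =
      8 * (q : ℂ) ^ 2 / D.N.index := by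
    have h := exp4 fun χ => (χ : G → ℂ) D.t * (χ : G → ℂ) D.t / (χ : G → ℂ) 1
    rw [hrel b4 m hb41 hm] at h
    simp only [b4, Lib.Char.classInner_sub_left, classInner_linFn, hl1, if_false, if_true,
      sub_zero, mul_one] at h
    rw [h]
    simp [e]
  have hA := a.2.apply_one_ne_zero
  have hB := b.2.apply_one_ne_zero
  have hX := x.2.apply_one_ne_zero
  obtain ⟨da, -, hda⟩ := a.2.exists_degree
  have hna2 : (n a : ℂ) * n a = 1 := by rcases hna with h | h <;> rw [h] <;> norm_num
  have hnb2 : (n b : ℂ) * n b = 1 := by rcases hnb with h | h <;> rw [h] <;> norm_num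
  have hmx2 : (m x : ℂ) * m x = 1 := by rcases hmx with h | h <;> rw [h] <;> norm_num
  -- normalize signs: all three values are recovered from `u = n a * a(t)`
  set u := (n a : ℂ) * (a : G → ℂ) D.t with hu
  set d := (n a : ℂ) * (a : G → ℂ) 1 with hd
  have hd0 : d ≠ 0 := by
    intro h
    rcases mul_eq_zero.mp h with h' | h'
    · rw [h', zero_mul] at hna2; exact zero_ne_one hna2
    · exact hA h'
  have ra : (n a : ℂ) * ((a : G → ℂ) D.t * (a : G → ℂ) D.t / (a : G → ℂ) 1) = u * u / d := by
    rw [hu, hd]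
    field_simp
  have hu2 : u = 2 := by
    have rb : (n b : ℂ) * ((b : G → ℂ) D.t * (b : G → ℂ) D.t / (b : G → ℂ) 1) =
        (4 - u) * (4 - u) / (-d) := by
      rw [show (4 : ℂ) - u = n b * (b : G → ℂ) D.t by rw [← e3t]; ring,
        show -d = (n b : ℂ) * (b : G → ℂ) 1 by linear_combination -e31]
      have : (n b : ℂ) ≠ 0 := fun h => by rw [h, zero_mul] at hnb2; exact zero_ne_one hnb2
      field_simp
    rw [ra, rb] at e3r
    field_simp at e3r
    linear_combination (1 / 8 : ℂ) * e3r
  have hxt : (m x : ℂ) * (x : G → ℂ) D.t = 1 := by rw [hu2] at e4t; linear_combination e4t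
  have hx1 : (m x : ℂ) * (x : G → ℂ) 1 = d - 1 := by linear_combination e41
  have hmx0 : (m x : ℂ) ≠ 0 := fun h => by rw [h, zero_mul] at hmx2; exact zero_ne_one hmx2
  have hd1 : d - 1 ≠ 0 := hx1 ▸ mul_ne_zero hmx0 hX
  have rx : (m x : ℂ) * ((x : G → ℂ) D.t * (x : G → ℂ) D.t / (x : G → ℂ) 1) = 1 / (d - 1) := by
    rw [← hx1]
    field_simp
    linear_combination ((m x : ℂ) * (x : G → ℂ) D.t + 1) * hxt
  rw [ra, rx, hu2] at e4r
  refine ⟨n a * da, ?_, ?_, ?_⟩
  · have hdd : ((n a * da : ℤ) : ℂ) = d := by rw [hd, hda]; push_cast; ring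
    apply Int.cast_injective (α := ℂ)
    push_cast at hdd ⊢
    rw [hdd]
    field_simp at e4r
    linear_combination e4r
  · intro h
    refine hd0 ?_
    rw [hd, hda]; exact_mod_cast h
  · intro h
    refine hd1 ?_
    rw [sub_eq_zero, hd, hda]; exact_mod_cast h

theorem arith {q : ℕ} (hq : Odd q) (hq1 : 1 < q) {I d : ℤ} (hI : I + 2 * q = 4 * q * q + 1)
    (h : (d - 2) ^ 2 * I = 8 * (q : ℤ) ^ 2 * (d * (d - 1))) : False := by
  obtain ⟨r, hr⟩ := hq
  have hIodd : Odd I := ⟨2 * (q : ℤ) * q - q, by linear_combination hI⟩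
  rcases Int.even_or_odd d with ⟨e, rfl⟩ | hd
  · have h1 : (e - 1) ^ 2 * I = 4 * (q : ℤ) ^ 2 * (e * (2 * e - 1)) :=
      mul_left_cancel₀ (show (4 : ℤ) ≠ 0 by norm_num) (by linear_combination h)
    rcases Int.even_or_odd (e - 1) with ⟨k, hk⟩ | hodd
    · have he : e = 2 * k + 1 := by omega
      subst he
      have h2 : k ^ 2 * I = (q : ℤ) ^ 2 * ((2 * k + 1) * (4 * k + 1)) :=
        mul_left_cancel₀ (show (4 : ℤ) ≠ 0 by norm_num) (by linear_combination h1)
      have hc1 : IsCoprime (k ^ 2) ((2 * k + 1) * (4 * k + 1)) :=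
        IsCoprime.pow_left (IsCoprime.mul_right ⟨-2, 1, by ring⟩ ⟨-4, 1, by ring⟩)
      have hd1 : k ^ 2 ∣ (q : ℤ) ^ 2 := hc1.dvd_of_dvd_mul_right ⟨I, h2.symm⟩
      have hc2 : IsCoprime ((q : ℤ) ^ 2) I :=
        IsCoprime.pow_left ⟨2 - 4 * (q : ℤ), 1, by linear_combination hI⟩
      have hd2 : (q : ℤ) ^ 2 ∣ k ^ 2 :=
        hc2.dvd_of_dvd_mul_right ⟨(2 * k + 1) * (4 * k + 1), h2⟩
      have hkq : k ^ 2 = (q : ℤ) ^ 2 := Int.dvd_antisymm (sq_nonneg _) (sq_nonneg _) hd1 hd2
      have hI2 : I = (2 * k + 1) * (4 * k + 1) := by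
        rw [hkq] at h2
        exact mul_left_cancel₀ (by positivity) h2
      have hqz : (1 : ℤ) < q := by exact_mod_cast hq1
      rcases sq_eq_sq_iff_eq_or_eq_neg.mp hkq with rfl | rfl <;> nlinarith
    · exact Int.not_even_iff_odd.mpr ((hodd.pow (n := 2)).mul hIodd)
        ⟨2 * (q : ℤ) ^ 2 * (e * (2 * e - 1)), by rw [h1]; ring⟩
  · obtain ⟨j, hj⟩ := hd
    exact Int.not_even_iff_odd.mpr (((show Odd (d - 2) from ⟨j - 1, by omega⟩).pow (n := 2)).mul hIodd)
      ⟨4 * (q : ℤ) ^ 2 * (d * (d - 1)), by rw [h]; ring⟩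

end

section

variable {G : Type*} [Group G] [Finite G] [IsSimpleGroup G]

theorem relIndex_mul_card' {H K : Subgroup G} (h : H ≤ K) :
    H.relIndex K * Nat.card H = Nat.card K := by
  rw [← Nat.card_congr (subgroupOfEquivOfLe h).toEquiv]
  exact index_mul_card _

theorem exists_conf (P : Sylow 3 G) (hab : IsMulCommutative P)
    (hN : Nat.card (normalizer ((P : Subgroup G) : Set G)) = 4 * Nat.card P)
    (hC : Nat.card (centralizer (P : Set G)) = 2 * Nat.card P)
    (hTI : Cfsg.IsTISubset (centralizer (P : Set G) : Set G))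
    (heven : ∀ H : Subgroup G, H ≠ ⊤ → 2 ∣ Nat.card H → Nat.card H ∣ 4 * Nat.card P) :
    ∃ q, Odd q ∧ 1 < q ∧ ∃ D : Conf G q, ∃ v ∈ D.C, orderOf v = 3 := by
  classical
  have : Fact (Nat.Prime 3) := ⟨Nat.prime_three⟩
  have : Fact (Nat.Prime 2) := ⟨Nat.prime_two⟩
  obtain ⟨a, ha⟩ := IsPGroup.iff_card.mp P.2
  have hodd : Odd (Nat.card P) := by rw [ha]; exact (show Odd 3 by decide).pow
  set q := Nat.card P with hq
  set N := normalizer ((P : Subgroup G) : Set G) with hNdef
  set C := centralizer (P : Set G) with hCdef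
  have hq0 : 0 < q := Nat.card_pos
  have h4dvd : 4 ∣ Nat.card G := (Dvd.intro q hN.symm).trans (card_subgroup_dvd_card N)
  have hnc : ¬ IsMulCommutative G := fun h => by
    letI : CommGroup G := { (inferInstance : Group G) with mul_comm := h.is_comm.comm }
    have := IsSimpleGroup.prime_card (α := G)
    obtain ⟨k, hk⟩ := h4dvd
    exact Nat.not_prime_of_dvd_of_lt (show 2 ∣ Nat.card G by omega) le_rfl
      (by have := Nat.card_pos (α := G); omega) this
  have hncy : ¬ IsCyclic G := fun h => hnc IsCyclic.isMulCommutative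
  have hbot : ∀ K : Subgroup G, K.Normal → K = ⊥ ∨ K = ⊤ := fun K hK => hK.eq_bot_or_eq_top
  have hPC : (P : Subgroup G) ≤ C := le_centralizer _
  have hCN : C ≤ N := by
    intro c hc
    rw [hNdef, mem_normalizer_iff]
    intro y
    have hc' := mem_centralizer_iff.mp hc
    constructor
    · intro hy; rw [← hc' y hy, mul_inv_cancel_right]; exact hy
    · intro hy
      have := hc' _ hy
      have h1 : c * y * c⁻¹ = y := by
        have h2 : c⁻¹ * (c * y * c⁻¹ * c) = c⁻¹ * (c * (c * y * c⁻¹)) := by rw [this]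
        simpa [mul_assoc] using h2.symm
      rwa [h1] at hy
  have hqP : 1 < q := by
    by_contra hle
    have h1 : q = 1 := by omega
    have hPbot : (P : Subgroup G) = ⊥ := card_eq_one.mp (by rw [← h1])
    have hNtop : N = ⊤ := by rw [hNdef, hPbot, normalizer_eq_top_iff]; infer_instance
    rw [hNtop, h1, card_top] at hN
    have hG : IsPGroup 2 G := IsPGroup.of_card (n := 2) (by rw [hN]; rfl)
    have := hG.isNilpotent
    exact hnc ((IsSimpleGroup.comm_iff_isSolvable (G := G)).mpr inferInstance |> fun h => ⟨⟨h⟩⟩)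
  have hNtop : N ≠ ⊤ := fun h => by
    have := normalizer_eq_top_iff.mp (hNdef ▸ h)
    rcases hbot _ this with h' | h'
    · have : q = 1 := by rw [hq, h', card_bot]
      omega
    · have h3 : Nat.card G = q := by rw [hq, h', card_top]
      rw [h, card_top, h3] at hN
      omega
  -- the involution of C
  obtain ⟨tC, htC⟩ := exists_prime_orderOf_dvd_card' (G := C) 2 (by rw [hC]; exact dvd_mul_right 2 q)
  have htord : orderOf (tC : G) = 2 := by rwa [orderOf_coe]
  set t : G := (tC : G) with htdef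
  have hcomm : ∀ a ∈ C, ∀ b ∈ C, a * b = b * a := by
    have hcen : ((P : Subgroup G).subgroupOf C) ≤ center C := fun x hx => mem_center_iff.mpr fun y =>
      Subtype.ext (mem_centralizer_iff.mp y.2 _ hx).symm
    have hidx : ((P : Subgroup G).subgroupOf C).index = 2 := by
      have := relIndex_mul_card' hPC
      rw [hC, ← hq] at this
      exact Nat.eq_of_mul_eq_mul_right hq0 this
    have hcy : IsCyclic (C ⧸ center C) := by
      have hdvd : (center C).index ∣ 2 := hidx ▸ index_dvd_of_le hcen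
      rcases (Nat.dvd_prime Nat.prime_two).mp hdvd with h | h
      · have := (Nat.card_eq_one_iff_unique.mp (show Nat.card (C ⧸ center C) = 1 from h)).1
        infer_instance
      · exact isCyclic_of_prime_card (show Nat.card (C ⧸ center C) = 2 from h)
    intro a ha b hb
    have := commutative_of_cyclic_center_quotient (QuotientGroup.mk' (center C))
      (by rw [QuotientGroup.ker_mk']) (⟨a, ha⟩ : C) ⟨b, hb⟩
    exact congrArg Subtype.val this
  have hpowq : ∀ c ∈ C, c ^ q = 1 ∨ c ^ q = t := by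
    intro c hc
    letI : CommGroup C := { (inferInstance : Group C) with
      mul_comm := fun a b => Subtype.ext (hcomm a a.2 b b.2) }
    have := Fintype.ofFinite C
    set f : C →* C := powMonoidHom q with hf
    have hker : (P : Subgroup G).subgroupOf C ≤ f.ker := fun x hx => by
      rw [MonoidHom.mem_ker]
      apply Subtype.ext
      simp only [hf, powMonoidHom_apply, SubmonoidClass.coe_pow, OneMemClass.coe_one]
      exact orderOf_dvd_iff_pow_eq_one.mp
        ((orderOf_mk (x : G) hx ▸ orderOf_dvd_natCard _ : orderOf (x : G) ∣ q))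
    have hrange : Nat.card f.range ∣ 2 := by
      rw [← index_ker]
      refine (index_dvd_of_le hker).trans (dvd_of_eq ?_)
      have := relIndex_mul_card' hPC
      rw [hC, ← hq] at this
      exact Nat.eq_of_mul_eq_mul_right hq0 this
    have ht_range : tC ∈ f.range := ⟨tC, by
      obtain ⟨k, hk⟩ := hodd
      rw [hf, powMonoidHom_apply, hk, pow_succ, pow_mul, ← htC, pow_orderOf_eq_one, one_pow,
        one_mul]⟩
    by_cases h1 : c ^ q = 1
    · exact Or.inl h1
    · refine Or.inr ?_
      have hmem : f ⟨c, hc⟩ ∈ f.range := ⟨_, rfl⟩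
      by_contra hne
      have hsub : ({1, tC, f ⟨c, hc⟩} : Finset C) ⊆ Finset.univ.filter (· ∈ f.range) := by
        intro y hy
        simp only [Finset.mem_insert, Finset.mem_singleton] at hy
        rcases hy with rfl | rfl | rfl <;>
          simp only [Finset.mem_filter, Finset.mem_univ, true_and] <;>
          first | exact one_mem _ | exact ht_range | exact hmem
      have hle := Finset.card_le_card hsub
      rw [← Fintype.card_subtype, ← Nat.card_eq_fintype_card] at hle
      have ht1 : tC ≠ 1 := fun h => by rw [h, orderOf_one] at htC; omega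
      have hf1 : f ⟨c, hc⟩ ≠ 1 := fun h => h1 (by simpa [hf] using congrArg Subtype.val h)
      have hft : f ⟨c, hc⟩ ≠ tC := fun h => hne (by simpa [hf] using congrArg Subtype.val h)
      rw [Finset.card_insert_of_notMem (by simp [ht1.symm, hf1.symm]),
        Finset.card_insert_of_notMem (by simpa using hft.symm), Finset.card_singleton] at hle
      have := Nat.le_of_dvd (by norm_num) hrange
      change _ ≤ Nat.card f.range at hle
      omega
  have huniq : ∀ c ∈ C, orderOf c = 2 → c = t := by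
    intro c hc h
    obtain ⟨k, hk⟩ := hodd
    have h1 : c ^ q = c := by rw [hk, pow_succ, pow_mul, ← h, pow_orderOf_eq_one, one_pow, one_mul]
    rcases hpowq c hc with h2 | h2 <;> rw [h1] at h2
    · rw [h2, orderOf_one] at h; omega
    · exact h2
  have hnorm : ∀ n ∈ N, ∀ c ∈ C, n * c * n⁻¹ ∈ C := by
    intro n hn c hc
    rw [hCdef, mem_centralizer_iff]
    intro y hy
    have hy' : n⁻¹ * y * n ∈ (P : Subgroup G) := by
      have := (mem_normalizer_iff.mp (inv_mem hn) y).mp hy
      rwa [inv_inv] at this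
    have h := mem_centralizer_iff.mp hc _ hy'
    have := congrArg (fun w => n * w * n⁻¹) h
    simpa [mul_assoc] using this
  -- normalizer of C and centralizer of t
  have hbig : ∀ K : Subgroup G, N ≤ K → K ≠ ⊤ → K = N := by
    intro K hNK hK
    have h2 : 2 ∣ Nat.card K := (Dvd.intro (2 * q) (by rw [hN]; ring)).trans (card_dvd_of_le hNK)
    exact (eq_of_le_of_card_ge hNK (Nat.le_of_dvd (by omega) (hN ▸ heven K hK h2))).symm
  have hNC : normalizer (C : Set G) = N := by
    refine hbig _ (fun n hn => ?_) fun h => ?_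
    · rw [mem_normalizer_iff]
      refine fun y => ⟨hnorm n hn y, fun hy => ?_⟩
      have := hnorm n⁻¹ (inv_mem hn) _ hy
      simpa [mul_assoc] using this
    · rcases hbot _ (normalizer_eq_top_iff.mp h) with h' | h'
      · rw [h', card_bot] at hC; omega
      · rw [h', top_le_iff] at hCN; exact hNtop hCN
  have hti : ∀ x : G, x ∉ N → ∀ c ∈ C, c ≠ 1 → x * c * x⁻¹ ∉ C := fun x hx c hc hc1 h =>
    hc1 (hTI x (hNC ▸ hx) c hc h)
  have hNt : centralizer ({t} : Set G) = N := by
    refine hbig _ (fun n hn => mem_centralizer_singleton_iff.mpr ?_) fun h => ?_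
    · have h1 := huniq _ (hnorm n hn t tC.2) (by rw [Lib.Invol.orderOf_conj_eq]; exact htord)
      exact mul_inv_eq_iff_eq_mul.mp h1
    · have hcen : t ∈ center G := mem_center_iff.mpr fun g =>
        mem_centralizer_singleton_iff.mp (h ▸ mem_top g)
      rcases hbot (center G) inferInstance with h' | h'
      · rw [h', mem_bot] at hcen; exact Lib.Invol.ne_one htord hcen
      · exact hnc ⟨⟨fun x y => (mem_center_iff.mp (h' ▸ mem_top y : y ∈ center G)) x⟩⟩
  -- Sylow 2-subgroup
  have heven' : Even (Nat.card G) := even_iff_two_dvd.mpr (by omega)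
  have h8 : ¬ 8 ∣ Nat.card G := by
    intro h8
    obtain ⟨K, hK⟩ := Sylow.exists_subgroup_card_pow_prime (G := G) 2 (n := 3) h8
    by_cases hKtop : K = ⊤
    · rw [hKtop, card_top] at hK
      have hG : IsPGroup 2 G := IsPGroup.of_card hK
      have := hG.isNilpotent
      exact hnc ((IsSimpleGroup.comm_iff_isSolvable (G := G)).mpr inferInstance |> fun h => ⟨⟨h⟩⟩)
    · have := heven K hKtop (by rw [hK]; norm_num)
      rw [hK] at this
      obtain ⟨k, hk⟩ := hodd
      obtain ⟨l, hl⟩ := this
      omega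
  obtain ⟨T', hT'⟩ := Sylow.exists_subgroup_card_pow_prime (G := N) 2 (n := 2)
    (by rw [hN]; exact dvd_mul_right 4 q)
  set T0 : Subgroup G := T'.map N.subtype with hT0
  have hT0card : Nat.card T0 = 4 := by
    rw [hT0, ← Nat.card_congr (equivMapOfInjective T' N.subtype N.subtype_injective).toEquiv, hT']
    rfl
  obtain ⟨S, hS⟩ := (IsPGroup.of_card (n := 2) (by rw [hT0card]; rfl) : IsPGroup 2 T0).exists_le_sylow
  have hScard : Nat.card S = 4 := by
    obtain ⟨b, hb⟩ := IsPGroup.iff_card.mp S.2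
    have h1 : 4 ≤ 2 ^ b := hb ▸ hT0card ▸ card_le_of_le hS
    have h2 : b ≤ 2 := by
      by_contra h
      exact h8 ((pow_dvd_pow 2 (by omega : 3 ≤ b)).trans (hb ▸ card_subgroup_dvd_card _))
    have h3 : 2 ^ b ≤ 4 := (Nat.pow_le_pow_right (by norm_num) h2).trans_eq (by norm_num)
    change Nat.card S = 4
    omega
  have hST : (S : Subgroup G) = T0 := (eq_of_le_of_card_ge hS (by rw [hT0card]; exact hScard.le)).symm
  have hSN : (S : Subgroup G) ≤ N := by rw [hST, hT0]; exact map_subtype_le T'
  obtain ⟨hK4, hidx⟩ := S0992.result hnc heven' h8 S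
  have hSinv : ∀ s ∈ (S : Subgroup G), s ≠ 1 → orderOf s = 2 := fun s hs hs1 => by
    refine orderOf_eq_prime ?_ hs1
    have := pow_two (⟨s, hs⟩ : (S : Subgroup G))
    rw [IsKleinFour.mul_self] at this
    exact congrArg Subtype.val this
  have htS : t ∈ (S : Subgroup G) := by
    have ht' : zpowers t ≤ normalizer ((S : Subgroup G) : Set G) := by
      rw [zpowers_le, mem_normalizer_iff]
      intro y
      have hc : ∀ z ∈ N, t * z * t⁻¹ = z := fun z hz =>
        mul_inv_eq_iff_eq_mul.mpr (mem_centralizer_singleton_iff.mp (hNt ▸ hz)).symm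
      constructor
      · intro hy; rw [hc y (hSN hy)]; exact hy
      · intro hy
        have h1 := hc _ (hSN hy)
        have h2 : t * y * t⁻¹ = y := by
          have h3 := congrArg (fun w => t⁻¹ * w * t) h1
          simpa [mul_assoc] using h3
        rwa [h2] at hy
    have h2 : IsPGroup 2 (zpowers t) := IsPGroup.of_card (n := 1) (by rw [Nat.card_zpowers, htord]; rfl)
    have h3 : IsPGroup 2 ↥((S : Subgroup G) ⊔ zpowers t) := by
      rw [sup_comm]; exact h2.to_sup_of_normal_right' S.2 ht'
    exact (le_sup_right.trans (S.is_maximal' h3 le_sup_left).le) (mem_zpowers t)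
  have hconjS : ∀ u ∈ (S : Subgroup G), u ≠ 1 → IsConj t u := by
    intro u hu hu1
    by_cases hut : u = t
    · subst hut; exact IsConj.refl _
    obtain ⟨g, hgN, hgC⟩ : ∃ g ∈ normalizer ((S : Subgroup G) : Set G),
        g ∉ centralizer ((S : Subgroup G) : Set G) := by
      by_contra h
      push Not at h
      rw [relIndex_eq_one.mpr h] at hidx
      omega
    set w := t * u with hw
    have hwS : w ∈ (S : Subgroup G) := mul_mem htS hu
    have hw1 : w ≠ 1 := fun h => hut (by
      rw [hw, mul_eq_one_iff_inv_eq, Lib.Invol.inv_eq_self htord] at h; exact h.symm)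
    have ht1 := Lib.Invol.ne_one htord
    have hall : ∀ y ∈ (S : Subgroup G), y = 1 ∨ y = t ∨ y = u ∨ y = w := by
      intro y hy
      by_contra hne
      push Not at hne
      have hsub : ({1, t, u, w, y} : Finset G) ⊆ (Set.toFinite ((S : Subgroup G) : Set G)).toFinset := by
        intro z hz
        simp only [Finset.mem_insert, Finset.mem_singleton] at hz
        rw [Set.Finite.mem_toFinset, SetLike.mem_coe]
        rcases hz with rfl | rfl | rfl | rfl | rfl
        exacts [one_mem _, htS, hu, hwS, hy]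
      have hle := Finset.card_le_card hsub
      have e1 : u ≠ w := fun h => ht1 (right_eq_mul.mp h)
      have e2 : t ≠ w := fun h => hu1 (left_eq_mul.mp h)
      rw [Finset.card_insert_of_notMem (by simp [ht1.symm, hu1.symm, hw1.symm, hne.1.symm]),
        Finset.card_insert_of_notMem (by simp [Ne.symm hut, e2, hne.2.1.symm]),
        Finset.card_insert_of_notMem (by simp [e1, hne.2.2.1.symm]),
        Finset.card_insert_of_notMem (by simp [hne.2.2.2.symm]), Finset.card_singleton] at hle
      rw [← Nat.card_eq_card_finite_toFinset] at hle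
      change _ ≤ Nat.card S at hle
      omega
    have hmem : ∀ g ∈ normalizer ((S : Subgroup G) : Set G), g ∉ centralizer ((S : Subgroup G) : Set G) →
        g * g * g ∈ centralizer ((S : Subgroup G) : Set G) → g * t * g⁻¹ ≠ t := by
      intro g hgN hgC h3 hfix
      have hgu := (mem_normalizer_iff.mp hgN u).mp hu
      rcases hall _ hgu with h | h | h | h
      · exact hu1 (conj_eq_one_iff.mp h)
      · rw [← hfix] at h; exact hut (mul_left_cancel (mul_right_cancel h))
      · refine hgC (mem_centralizer_iff.mpr fun y hy => ?_)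
        have ct : t * g = g * t := (mul_inv_eq_iff_eq_mul.mp hfix).symm
        have cu : u * g = g * u := (mul_inv_eq_iff_eq_mul.mp h).symm
        rcases hall y hy with rfl | rfl | rfl | rfl
        · simp
        · exact ct
        · exact cu
        · rw [hw, mul_assoc, cu, ← mul_assoc, ct, mul_assoc]
      · have hgw : g * w * g⁻¹ = u := by
          rw [show g * w * g⁻¹ = g * t * g⁻¹ * (g * u * g⁻¹) by rw [hw]; group, hfix, h, hw,
            ← mul_assoc, Lib.Invol.inv_mul_self htord, one_mul]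
        have h33 : g * g * g * u * (g * g * g)⁻¹ = u :=
          mul_inv_eq_iff_eq_mul.mpr (mem_centralizer_iff.mp h3 u hu).symm
        have : g * g * g * u * (g * g * g)⁻¹ = g * (g * (g * u * g⁻¹) * g⁻¹) * g⁻¹ := by group
        rw [h33, h, hgw, h] at this
        exact ht1 (right_eq_mul.mp this)
    have hcube : g * g * g ∈ centralizer ((S : Subgroup G) : Set G) := by
      have hn : ((centralizer ((S : Subgroup G) : Set G)).subgroupOf
          (normalizer ((S : Subgroup G) : Set G))).Normal := by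
        rw [← normalizerMonoidHom_ker (H := (S : Subgroup G))]
        exact MonoidHom.normal_ker _
      have := pow_index_mem ((centralizer ((S : Subgroup G) : Set G)).subgroupOf
          (normalizer ((S : Subgroup G) : Set G))) ⟨g, hgN⟩
      rw [show ((centralizer ((S : Subgroup G) : Set G)).subgroupOf
          (normalizer ((S : Subgroup G) : Set G))).index = 3 from hidx, mem_subgroupOf] at this
      simpa [pow_succ] using this
    rcases hall _ ((mem_normalizer_iff.mp hgN t).mp htS) with h | h | h | h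
    · exact absurd (conj_eq_one_iff.mp h) ht1
    · exact absurd h (hmem g hgN hgC hcube)
    · exact isConj_iff.mpr ⟨g, h⟩
    · refine isConj_iff.mpr ⟨g⁻¹, ?_⟩
      rcases hall _ ((mem_normalizer_iff.mp (inv_mem hgN) t).mp htS) with h' | h' | h' | h'
      · exact absurd (conj_eq_one_iff.mp h') ht1
      · have : g * t * g⁻¹ = t := by
          have := congrArg (fun z => g * z * g⁻¹) h'
          simpa [mul_assoc] using this.symm
        exact absurd this (hmem g hgN hgC hcube)
      · exact h'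
      · exfalso
        have h2 : g⁻¹ * (g * t * g⁻¹) * g⁻¹⁻¹ = t := by group
        have hgg : g * g * t * (g * g)⁻¹ = t := by
          have e : g⁻¹ * t * g⁻¹⁻¹ = g * t * g⁻¹ := by rw [h, h']
          have := congrArg (fun z => g * z * g⁻¹) e
          simpa [mul_assoc] using this.symm
        have h33 : g * g * g * t * (g * g * g)⁻¹ = t :=
          mul_inv_eq_iff_eq_mul.mpr (mem_centralizer_iff.mp hcube t htS).symm
        refine hmem g hgN hgC hcube ?_
        have : g * g * g * t * (g * g * g)⁻¹ = g * (g * g * t * (g * g)⁻¹) * g⁻¹ := by group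
        rw [h33, hgg] at this
        exact this.symm
  have hconj : ∀ s : G, orderOf s = 2 → IsConj t s := by
    intro s hs
    obtain ⟨h, hh⟩ := Lib.Invol.exists_conj_mem_sylow S
      (K := zpowers s) (IsPGroup.of_card (n := 1) (by rw [Nat.card_zpowers, hs]; rfl))
    have h1 := hconjS _ (hh s (mem_zpowers s)) (fun e => Lib.Invol.ne_one hs (conj_eq_one_iff.mp e))
    exact h1.trans (isConj_iff.mpr ⟨h⁻¹, by group⟩)
  obtain ⟨u, huS, huC⟩ : ∃ u ∈ (S : Subgroup G), u ∉ C := by
    by_contra h
    push Not at h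
    have := card_dvd_of_le (show (S : Subgroup G) ≤ C from h)
    change Nat.card S ∣ _ at this
    rw [hScard, hC] at this
    obtain ⟨l, hl⟩ := this
    obtain ⟨k, hk⟩ := hodd
    omega
  have hu1 : u ≠ 1 := fun h => huC (h ▸ one_mem C)
  have huord := hSinv u huS hu1
  have huN : u ∈ N := hSN huS
  have hfix : ∀ v ∈ (P : Subgroup G), u * v * u⁻¹ = v → v = 1 := by
    intro v hv hcom
    by_contra hv1
    obtain ⟨g, hg⟩ := isConj_iff.mp (hconjS u huS hu1)
    have hgN : g ∉ N := fun h => huC (by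
      rw [← hg]; exact hnorm g h t tC.2)
    have hv' : g⁻¹ * v * g ∈ N := by
      rw [← hNt, mem_centralizer_singleton_iff]
      have h1 : v * u = u * v := (mul_inv_eq_iff_eq_mul.mp hcom).symm
      rw [← hg] at h1
      have := congrArg (fun z => g⁻¹ * z * g) h1
      simpa [mul_assoc] using this
    -- a 3-element of N lies in P
    have h3 : IsPGroup 3 (zpowers (g⁻¹ * v * g)) := by
      obtain ⟨k, -, hk⟩ := (Nat.dvd_prime_pow Nat.prime_three).mp
        ((orderOf_mk v hv ▸ orderOf_dvd_natCard _ : orderOf v ∣ q).trans ha.dvd)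
      refine IsPGroup.of_card (n := k) ?_
      rw [Nat.card_zpowers, show g⁻¹ * v * g = g⁻¹ * v * g⁻¹⁻¹ by group, Lib.Invol.orderOf_conj_eq, hk]
    have h4 : IsPGroup 3 ↥((P : Subgroup G) ⊔ zpowers (g⁻¹ * v * g)) := by
      rw [sup_comm]; exact h3.to_sup_of_normal_right' P.2 (zpowers_le.mpr hv')
    have hvP : g⁻¹ * v * g ∈ (P : Subgroup G) :=
      (le_sup_right.trans (P.is_maximal' h4 le_sup_left).le) (mem_zpowers _)
    refine hti g hgN _ (hPC hvP) ?_ ?_
    · intro e
      rw [show g⁻¹ * v * g = g⁻¹ * v * g⁻¹⁻¹ by group] at e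
      exact hv1 (conj_eq_one_iff.mp e)
    · rw [show g * (g⁻¹ * v * g) * g⁻¹ = v by group]; exact hPC hv
  have huinv : ∀ v ∈ (P : Subgroup G), u * v * u⁻¹ = v⁻¹ := by
    intro v hv
    set w := u * v * u⁻¹ with hw
    have hwP : w ∈ (P : Subgroup G) := (mem_normalizer_iff.mp huN v).mp hv
    have hcom : v * w = w * v := congrArg Subtype.val (hab.is_comm.comm (⟨v, hv⟩ : P) ⟨w, hwP⟩)
    have huu : u * u = 1 := Lib.Invol.inv_mul_self huord
    have hui : u⁻¹ = u := Lib.Invol.inv_eq_self huord
    have h1 : u * (v * w) * u⁻¹ = w * v := by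
      rw [hw, hui]
      calc u * (v * (u * v * u)) * u = u * v * u * v * (u * u) := by group
        _ = _ := by rw [huu, mul_one]
    have h2 := hfix (v * w) (mul_mem hv hwP) (by rw [h1, hcom])
    exact eq_inv_of_mul_eq_one_right h2
  have huC' : ∀ c ∈ C, u * c * u⁻¹ = c⁻¹ := by
    intro c hc
    have hcu : u * t * u⁻¹ = t :=
      mul_inv_eq_iff_eq_mul.mpr (mem_centralizer_singleton_iff.mp (hNt ▸ huN))
    obtain ⟨k, hk⟩ := hodd
    -- c = c^(q+1) * c^q with c^(q+1) in P
    have hsq : c ^ (q + 1) ∈ (P : Subgroup G) := by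
      have hidx2 : ((P : Subgroup G).subgroupOf C).index = 2 := by
        have := relIndex_mul_card' hPC
        rw [hC, ← hq] at this
        exact Nat.eq_of_mul_eq_mul_right hq0 this
      have := sq_mem_of_index_two hidx2 (⟨c, hc⟩ ^ (k + 1) : C)
      rw [mem_subgroupOf] at this
      simpa [← pow_mul, hk, add_mul, mul_comm, two_mul, add_assoc, show (k + 1) * 2 = 2 * k + 1 + 1 by ring] using this
    have hq1 : u * c ^ q * u⁻¹ = (c ^ q)⁻¹ := by
      rcases hpowq c hc with h | h <;> rw [h]
      · simp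
      · rw [hcu, Lib.Invol.inv_eq_self htord]
    have hc_eq : c = c ^ (q + 1) * (c ^ q)⁻¹ := by rw [pow_succ', mul_inv_cancel_right]
    calc u * c * u⁻¹ = u * (c ^ (q + 1) * (c ^ q)⁻¹) * u⁻¹ := by rw [← hc_eq]
      _ = u * c ^ (q + 1) * u⁻¹ * (u * c ^ q * u⁻¹)⁻¹ := by group
      _ = (c ^ (q + 1))⁻¹ * c ^ q := by rw [huinv _ hsq, hq1, inv_inv]
      _ = c⁻¹ := by rw [pow_succ]; group
  have hinverts : ∀ s ∈ N, s ∉ C → orderOf s = 2 ∧ ∀ c ∈ C, s * c * s⁻¹ = c⁻¹ := by
    intro s hs hsC
    have hidxC : C.relIndex N = 2 := by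
      have := relIndex_mul_card' hCN
      rw [hN, hC] at this
      exact Nat.eq_of_mul_eq_mul_right (show 0 < 2 * q by omega) (this.trans (by ring))
    have hd : u * s ∈ C := by
      have := (mul_mem_iff_of_index_two hidxC (a := (⟨u, huN⟩ : N)) (b := ⟨s, hs⟩)).mpr
        (iff_of_false huC hsC)
      simpa [mem_subgroupOf] using this
    set d := u * s with hd'
    have hsd : s = u * d := by rw [hd', ← mul_assoc, Lib.Invol.inv_mul_self huord, one_mul]
    have hact : ∀ c ∈ C, s * c * s⁻¹ = c⁻¹ := by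
      intro c hc
      rw [hsd, show u * d * c * (u * d)⁻¹ = u * (d * c * d⁻¹) * u⁻¹ by group,
        hcomm d hd c hc, mul_inv_cancel_right, huC' c hc]
    refine ⟨?_, hact⟩
    refine orderOf_eq_prime ?_ fun h => hsC (h ▸ one_mem C)
    have hud := huC' d hd
    rw [Lib.Invol.inv_eq_self huord] at hud
    rw [pow_two, hsd, show u * d * (u * d) = u * d * u * d by group, hud, inv_mul_cancel]
  have hreal : ∀ x s : G, x ≠ 1 → orderOf s = 2 → s * x * s⁻¹ = x⁻¹ → ∃ g : G, g⁻¹ * x * g ∈ C := by
    intro x s hx hs hinv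
    have hK : normalizer (zpowers x : Set G) ≠ ⊤ := fun h => by
      rcases hbot _ (normalizer_eq_top_iff.mp h) with h' | h'
      · exact hx (zpowers_eq_bot.mp h')
      · exact hncy (isCyclic_iff_exists_zpowers_eq_top.mpr ⟨x, h'⟩)
    have hsK : s ∈ normalizer (zpowers x : Set G) := by
      rw [mem_normalizer_iff]
      intro y
      have key : ∀ z ∈ zpowers x, s * z * s⁻¹ ∈ zpowers x := by
        rintro z ⟨k, rfl⟩
        rw [Lib.Invol.conj_zpow_of_inverts hinv]
        exact zpow_mem (mem_zpowers x) _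
      refine ⟨key y, fun hy => ?_⟩
      have := key _ hy
      rw [Lib.Invol.inv_eq_self hs] at this
      have e : s * (s * y * s) * s = y := by
        calc s * (s * y * s) * s = (s * s) * y * (s * s) := by group
          _ = y := by rw [Lib.Invol.inv_mul_self hs, one_mul, mul_one]
      rwa [e] at this
    have hdvd : orderOf x ∣ 4 * q := by
      refine dvd_trans ?_ (heven _ hK (hs ▸ orderOf_mk s hsK ▸ orderOf_dvd_natCard _))
      exact orderOf_mk x (le_normalizer (mem_zpowers x)) ▸ orderOf_dvd_natCard _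
    by_cases he : 2 ∣ orderOf x
    · obtain ⟨k, hk⟩ := he
      have hk0 : k ≠ 0 := fun h => by
        have := orderOf_pos x
        rw [hk, h] at this; omega
      have hz : orderOf (x ^ k) = 2 := by
        rw [orderOf_pow_of_dvd hk0 (Dvd.intro_left 2 hk.symm), hk, Nat.mul_div_cancel _ (by omega)]
      obtain ⟨g, hg⟩ := isConj_iff.mp (hconj _ hz)
      have hy : g⁻¹ * x * g ∈ N := by
        rw [← hNt, mem_centralizer_singleton_iff]
        have h1 : x * x ^ k = x ^ k * x := (Commute.self_pow x k).eq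
        rw [← hg] at h1
        have := congrArg (fun z => g⁻¹ * z * g) h1
        simpa [mul_assoc] using this
      by_cases hyC : g⁻¹ * x * g ∈ C
      · exact ⟨g, hyC⟩
      · obtain ⟨g', hg'⟩ := isConj_iff.mp (hconj _ (hinverts _ hy hyC).1)
        refine ⟨g * g', ?_⟩
        have e : g'⁻¹ * (g' * t * g'⁻¹) * g' = t := by group
        rw [show (g * g')⁻¹ * x * (g * g') = g'⁻¹ * (g⁻¹ * x * g) * g' by group, ← hg', e]
        exact tC.2
    · have hdq : orderOf x ∣ 3 ^ a := by
        rw [← ha]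
        refine Nat.Coprime.dvd_of_dvd_mul_left ?_ hdvd
        exact ((Nat.prime_two.coprime_iff_not_dvd.mpr he).pow_left 2).symm
      obtain ⟨k, -, hk⟩ := (Nat.dvd_prime_pow Nat.prime_three).mp hdq
      obtain ⟨h, hh⟩ := Lib.Invol.exists_conj_mem_sylow P
        (K := zpowers x) (IsPGroup.of_card (n := k) (by rw [Nat.card_zpowers, hk]))
      exact ⟨h⁻¹, by simpa using hPC (hh x (mem_zpowers x))⟩
  obtain ⟨v, hv⟩ := exists_prime_orderOf_dvd_card' (G := P) 3 (by
    change 3 ∣ q
    have : a ≠ 0 := fun h => by rw [h] at ha; omega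
    rw [ha]; exact dvd_pow_self 3 this)
  refine ⟨q, hodd, hqP, ⟨N, C, t, hCN, hC, hN, tC.2, htord, hcomm, hpowq, hti, hinverts, hconj, hNt,
    hreal⟩, v, hPC v.2, ?_⟩
  rw [orderOf_coe]; exact hv

end

/-- Let G be a finite group with an abelian Sylow 3-subgroup P such that the normalizer of P has order 4·#P, the centralizer C of P has order 2·#P, C meets each of its conjugates by elements outside its normalizer trivially, and every proper subgroup of G of even order has order dividing 4·#P. Then G is not simple. -/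
theorem result {G : Type*} [Group G] [Finite G]
    (P : Sylow 3 G) (hab : IsMulCommutative P)
    (hN : Nat.card (Subgroup.normalizer ((P : Subgroup G) : Set G)) = 4 * Nat.card P)
    (hC : Nat.card (Subgroup.centralizer (P : Set G)) = 2 * Nat.card P)
    (hTI : Cfsg.IsTISubset (Subgroup.centralizer (P : Set G) : Set G))
    (heven : ∀ H : Subgroup G, H ≠ ⊤ → 2 ∣ Nat.card H → Nat.card H ∣ 4 * Nat.card P) :
    ¬ IsSimpleGroup G := by
  intro hs
  have := Fintype.ofFinite G
  obtain ⟨q, hq, hq1, D, v, hv, hv3⟩ := exists_conf P hab hN hC hTI heven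
  obtain ⟨d, hd, -, -⟩ := D.char_relation hq hv hv3
  refine arith hq hq1 (I := (D.N.index : ℤ)) (d := d) ?_ hd
  exact_mod_cast D.count hq

end Cfsg.Agent.S4018
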