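import Cfsg.Statements.S4023
import Cfsg.Agent.Lib.PGroup.SameOrderIso
-- import your own Cfsg.Agent.* helpers here

set_option autoImplicit false
open Cfsg

namespace Cfsg.Agent.S4023

theorem conjIso {G : Type*} [Group G] [Finite G] {p : ℕ}
    (hC : ∀ H K : Subgroup G, IsPGroup p H → IsPGroup p K → Nat.card H = Nat.card K →
      ∃ g : G, K = H.map (MulAut.conj g).toMonoidHom) (P : Sylow p G) (A B : Subgroup ↥(P : Subgroup G))
    (hcard : Nat.card ↥A = Nat.card ↥B) : Nonempty (↥A ≃* ↥B) := by
  let ι := (P : Subgroup G).subtype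
  obtain ⟨g, hg⟩ := hC (A.map ι) (B.map ι) ((P.isPGroup'.to_subgroup A).map ι) ((P.isPGroup'.to_subgroup B).map ι)
    (by rw [Subgroup.card_subtype, Subgroup.card_subtype, hcard])
  exact ⟨(A.equivMapOfInjective ι (P : Subgroup G).subtype_injective).trans
      (((A.map ι).equivMapOfInjective _ (MulAut.conj g).injective).trans
        ((MulEquiv.subgroupCongr hg.symm).trans (B.equivMapOfInjective ι (P : Subgroup G).subtype_injective).symm))⟩

theorem comm_of_equiv {A B : Type*} [Group A] [Group B] (e : A ≃* B) (hA : IsMulCommutative A) :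
    IsMulCommutative B :=
  ⟨⟨fun a b => e.symm.injective (by rw [map_mul, map_mul]; exact hA.is_comm.comm _ _)⟩⟩

theorem main {G : Type*} [Group G] [Finite G]
    {p : ℕ} [Fact p.Prime] (hC : ∀ H K : Subgroup G, IsPGroup p H → IsPGroup p K → Nat.card H = Nat.card K →
      ∃ g : G, K = H.map (MulAut.conj g).toMonoidHom) (P : Sylow p G) :
    IsCyclic P ∨ Cfsg.IsElementaryAbelian p (P : Subgroup G) ∨
      (p = 2 ∧ Nonempty ((P : Subgroup G) ≃* QuaternionGroup 2)) ∨
      (p ≠ 2 ∧ ¬ IsMulCommutative P ∧ Nat.card P = p ^ 3 ∧ Monoid.exponent P = p) := by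
  have hp : p.Prime := Fact.out
  have hiso : ∀ A B : Subgroup ↥(P : Subgroup G), Nat.card ↥A = Nat.card ↥B →
      IsMulCommutative ↥A → IsMulCommutative ↥B := fun A B h hA => comm_of_equiv (conjIso hC P A B h).some hA
  rcases Cfsg.Lib.PGroup.SameOrder.cyclic_or_quaternion_or_exponent P.isPGroup'
    (fun A B _ _ h hA => by
      let e := (conjIso hC P A B h).some
      exact isCyclic_of_surjective e.toMonoidHom e.surjective) with h | ⟨hp2, k, ⟨e⟩⟩ | h
  · exact Or.inl h
  · rcases k with _ | _ | k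
    · have := Cfsg.Lib.PGroup.SameOrder.quaternion_card_four_cyclic
      exact Or.inl (isCyclic_of_surjective e.symm.toMonoidHom e.symm.surjective)
    · exact Or.inr (Or.inr (Or.inl ⟨hp2, ⟨e⟩⟩))
    · exfalso
      obtain ⟨A, B, hAB, hA, hB⟩ := Cfsg.Lib.PGroup.SameOrder.quaternion_subgroups k
      refine hB (comm_of_equiv (B.equivMapOfInjective e.symm.toMonoidHom e.symm.injective).symm ?_)
      refine hiso (A.map e.symm.toMonoidHom) _ ?_ (comm_of_equiv (A.equivMapOfInjective _ e.symm.injective) hA)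
      rw [← Nat.card_congr (A.equivMapOfInjective _ e.symm.injective).toEquiv,
        ← Nat.card_congr (B.equivMapOfInjective _ e.symm.injective).toEquiv, hAB]
  · by_cases hc : IsMulCommutative ↥(P : Subgroup G)
    · exact Or.inr (Or.inl ⟨hc, fun a ha => congrArg Subtype.val (h ⟨a, ha⟩)⟩)
    have hp2 : p ≠ 2 := by
      rintro rfl
      refine hc ⟨⟨fun a b => ?_⟩⟩
      have hinv : ∀ z : ↥(P : Subgroup G), z⁻¹ = z := fun z => inv_eq_of_mul_eq_one_right (by rw [← sq]; exact h z)
      calc a * b = (a * b)⁻¹ := (hinv _).symm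
        _ = b * a := by rw [mul_inv_rev, hinv, hinv]
    refine Or.inr (Or.inr (Or.inr ⟨hp2, hc, Cfsg.Lib.PGroup.SameOrder.card_eq_cube P.isPGroup' h hc hiso, ?_⟩))
    refine ((Nat.dvd_prime hp).1 (Monoid.exponent_dvd_of_forall_pow_eq_one h)).resolve_left fun h1 => hc ?_
    have := Monoid.exp_eq_one_iff.1 h1
    exact ⟨⟨fun a b => Subsingleton.elim _ _⟩⟩


/-- Let p be a prime and G a finite group in which any two p-subgroups of the same order are conjugate, with Sylow p-subgroup P. Then P is cyclic, or elementary abelian, or p = 2 and P is a quaternion group of order 8, or p is odd and P is non-abelian of order p³ and exponent p. -/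
theorem result {G : Type*} [Group G] [Finite G]
    {p : ℕ} [Fact p.Prime] (hC : ∀ H K : Subgroup G, IsPGroup p H → IsPGroup p K → Nat.card H = Nat.card K →
      ∃ g : G, K = H.map (MulAut.conj g).toMonoidHom) (P : Sylow p G) :
    IsCyclic P ∨ Cfsg.IsElementaryAbelian p (P : Subgroup G) ∨
      (p = 2 ∧ Nonempty ((P : Subgroup G) ≃* QuaternionGroup 2)) ∨
      (p ≠ 2 ∧ ¬ IsMulCommutative P ∧ Nat.card P = p ^ 3 ∧ Monoid.exponent P = p) := by
  exact main hC P

end Cfsg.Agent.S4023
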