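import Cfsg.Statements.S4020
import Cfsg.Agent.S4023
import Cfsg.Agent.Lib.ZStar.Main
import Cfsg.Agent.Lib.Invol.Quaternion
-- import your own Cfsg.Agent.* helpers here

set_option autoImplicit false
open Cfsg

namespace Cfsg.Agent.S4020

open Subgroup

variable {G : Type*} [Group G] [Finite G] {p : ℕ} [Fact p.Prime]

/-- In a non-abelian subgroup of order `p ^ 3` a nontrivial central element generates the centre
and contains all commutators. -/
theorem cube_center {R : Subgroup G} (hc : Nat.card R = p ^ 3) (hna : ¬ IsMulCommutative R) {z : G}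
    (hzR : z ∈ R) (hz1 : z ≠ 1) (hzc : ∀ r ∈ R, r * z = z * r) :
    (∀ r ∈ R, ∀ s ∈ R, r * s * r⁻¹ * s⁻¹ ∈ zpowers z) ∧
      ∀ w ∈ R, (∀ r ∈ R, r * w = w * r) → w ∈ zpowers z := by
  have hp : p.Prime := Fact.out
  have hq : ¬ IsCyclic (↥R ⧸ center ↥R) := fun h =>
    hna ((QuotientGroup.mk' (center ↥R)).isMulCommutative_of_isCyclic_of_ker_le_center
      (QuotientGroup.ker_mk' _).le)
  obtain ⟨k, hk0, hk⟩ := IsPGroup.card_center_eq_prime_pow hc (by norm_num : 0 < 3)
  have hmul := card_eq_card_quotient_mul_card_subgroup (center ↥R)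
  rw [hc, hk] at hmul
  have hk1 : k = 1 := by
    by_contra hne
    refine hq (isCyclic_of_card_dvd_prime (p := p) ?_)
    have h3 : p ^ 3 ∣ p * p ^ k := by
      rw [← pow_succ']
      exact pow_dvd_pow p (by omega)
    rw [hmul] at h3
    exact Nat.dvd_of_mul_dvd_mul_right (pow_pos hp.pos k) h3
  subst hk1
  rw [pow_one] at hk hmul
  let z' : ↥R := ⟨z, hzR⟩
  have hzmem : z' ∈ center ↥R := mem_center_iff.2 fun r => Subtype.ext (hzc r r.2)
  have hle : zpowers z' ≤ center ↥R := zpowers_le.2 hzmem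
  have heq : center ↥R = zpowers z' := by
    refine (eq_of_le_of_card_ge hle ?_).symm
    rcases (Nat.dvd_prime hp).1 (hk ▸ card_dvd_of_le hle) with h | h
    · exact absurd (congrArg Subtype.val (zpowers_eq_bot.1 (card_eq_one.1 h))) hz1
    · rw [h, hk]
  have hmem : ∀ w : ↥R, w ∈ center ↥R → (w : G) ∈ zpowers z := by
    intro w hw
    rw [heq] at hw
    obtain ⟨i, hi⟩ := mem_zpowers_iff.1 hw
    exact mem_zpowers_iff.2 ⟨i, by rw [← hi, coe_zpow]⟩
  have hcard : Nat.card (↥R ⧸ center ↥R) = p ^ 2 := by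
    apply Nat.eq_of_mul_eq_mul_right hp.pos
    rw [← hmul]; ring
  haveI := IsPGroup.isMulCommutative_of_card_eq_prime_sq hcard
  refine ⟨fun r hr s hs => hmem (⟨r, hr⟩ * ⟨s, hs⟩ * ⟨r, hr⟩⁻¹ * ⟨s, hs⟩⁻¹) ?_,
    fun w hw hwc => hmem ⟨w, hw⟩ (mem_center_iff.2 fun r => Subtype.ext (hwc r r.2))⟩
  rw [← QuotientGroup.eq_one_iff, QuotientGroup.mk_mul, QuotientGroup.mk_mul, QuotientGroup.mk_mul,
    QuotientGroup.mk_inv, QuotientGroup.mk_inv, mul_comm' (QuotientGroup.mk (⟨r, hr⟩ : ↥R)),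
    mul_inv_cancel_right, mul_inv_cancel]

/-- Conjugation by `R` moves a noncentral element `x` to every `x * z ^ k`. -/
theorem exists_conj {R : Subgroup G} (hc : Nat.card R = p ^ 3) (hna : ¬ IsMulCommutative R) {z x : G}
    (hzR : z ∈ R) (hz : orderOf z = p) (hzc : ∀ r ∈ R, r * z = z * r) (hxR : x ∈ R)
    (hxnc : ¬ ∀ r ∈ R, r * x = x * r) (k : ℤ) : ∃ a ∈ R, a * x * a⁻¹ = x * z ^ k := by
  have hp : p.Prime := Fact.out
  push Not at hxnc
  obtain ⟨r, hr, hne⟩ := hxnc
  have hz1 : z ≠ 1 := fun h => hp.ne_one (by rw [← hz, h, orderOf_one])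
  obtain ⟨j, hj⟩ := mem_zpowers_iff.1 ((cube_center hc hna hzR hz1 hzc).1 r hr x hxR)
  set c := z ^ j with hcdef
  have hcx : x * c = c * x := (show Commute x z from hzc x hxR).zpow_right j
  have hrc : r * c = c * r := (show Commute r z from hzc r hr).zpow_right j
  have hconj : r * x * r⁻¹ = x * c := by rw [hcx, hj]; group
  have hc1 : c ≠ 1 := fun h => hne (by
    rw [h] at hj
    calc r * x = (r * x * r⁻¹ * x⁻¹) * (x * r) := by group
      _ = x * r := by rw [← hj, one_mul])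
  have hcz : orderOf c = p := by
    refine orderOf_eq_prime ?_ hc1
    rw [hcdef, ← zpow_natCast, ← zpow_mul, mul_comm, zpow_mul, zpow_natCast, ← hz,
      pow_orderOf_eq_one, one_zpow]
  have hzz : zpowers c = zpowers z :=
    eq_of_le_of_card_ge (zpowers_le.2 (zpow_mem (mem_zpowers z) j))
      (by rw [Nat.card_zpowers, Nat.card_zpowers, hz, hcz])
  obtain ⟨n, hn⟩ : ∃ n : ℕ, c ^ n = z ^ k :=
    Submonoid.mem_powers_iff _ _ |>.1
      (mem_powers_iff_mem_zpowers.2 (hzz ▸ zpow_mem (mem_zpowers z) k))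
  refine ⟨r ^ n, pow_mem hr n, hn ▸ ?_⟩
  clear hn
  induction n with
  | zero => simp
  | succ n ih =>
    calc r ^ (n + 1) * x * (r ^ (n + 1))⁻¹ = r * (r ^ n * x * (r ^ n)⁻¹) * r⁻¹ := by
          rw [pow_succ']; group
      _ = r * (x * c ^ n) * r⁻¹ := by rw [ih]
      _ = (r * x * r⁻¹) * (r * c ^ n * r⁻¹) := by group
      _ = x * c ^ (n + 1) := by
          rw [hconj, ((show Commute r c from hrc).pow_right n).eq, mul_inv_cancel_right, mul_assoc,
            ← pow_succ']

/-- A power of an element inverting `z` acts as a sign. -/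
theorem conj_pow_inv {w z : G} (h : w * z * w⁻¹ = z⁻¹) (k : ℕ) :
    w ^ k * z * (w ^ k)⁻¹ = z ∧ Even k ∨ w ^ k * z * (w ^ k)⁻¹ = z⁻¹ ∧ Odd k := by
  induction k with
  | zero => left; simp
  | succ k ih =>
    have e : w ^ (k + 1) * z * (w ^ (k + 1))⁻¹ = w * (w ^ k * z * (w ^ k)⁻¹) * w⁻¹ := by
      rw [pow_succ']; group
    rcases ih with ⟨h1, h2⟩ | ⟨h1, h2⟩
    · exact Or.inr ⟨by rw [e, h1, h], h2.add_one⟩
    · refine Or.inl ⟨?_, h2.add_one⟩
      rw [e, h1]
      calc w * z⁻¹ * w⁻¹ = (w * z * w⁻¹)⁻¹ := by group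
        _ = z := by rw [h, inv_inv]

omit [Finite G] in
theorem mem_of_pow_mem {H : Subgroup G} {z : G} {m : ℕ} (hcop : (orderOf z).Coprime m)
    (h : z ^ m ∈ H) : z ∈ H := by
  have h1 : z ^ ((orderOf z : ℕ) : ℤ) ∈ H := by
    rw [zpow_natCast, pow_orderOf_eq_one]; exact one_mem H
  have h2 : z ^ ((m : ℕ) : ℤ) ∈ H := by rw [zpow_natCast]; exact h
  have hbez := Nat.gcd_eq_gcd_ab (orderOf z) m
  rw [Nat.Coprime.gcd_eq_one hcop, Nat.cast_one] at hbez
  rw [← zpow_one z, hbez, zpow_add, zpow_mul, zpow_mul]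
  exact mul_mem (zpow_mem h1 _) (zpow_mem h2 _)

/-- The exceptional shape of a Sylow subgroup does not occur. -/
theorem no_extraspecial (hp2 : p ≠ 2)
    (hD : ∀ q : ℕ, q.Prime → ∀ H K : Subgroup G, IsPGroup q H → IsPGroup q K → Nat.card H = Nat.card K →
      ∃ g : G, K = H.map (MulAut.conj g).toMonoidHom)
    (P : Sylow p G) (hna : ¬ IsMulCommutative P) (hcard : Nat.card P = p ^ 3)
    (hexp : Monoid.exponent P = p) : False := by
  have hp : p.Prime := Fact.out
  haveI : Fact (Nat.Prime 2) := ⟨Nat.prime_two⟩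
  have hord : ∀ y ∈ (P : Subgroup G), y ≠ 1 → orderOf y = p := fun y hy hy1 => by
    refine orderOf_eq_prime ?_ hy1
    have h := Monoid.pow_exponent_eq_one (⟨y, hy⟩ : ↥(P : Subgroup G))
    rw [hexp] at h
    exact congrArg Subtype.val h
  haveI : Nontrivial ↥(P : Subgroup G) :=
    Finite.one_lt_card_iff_nontrivial.1 (hcard ▸ one_lt_pow₀ hp.one_lt (by norm_num))
  haveI := P.isPGroup'.center_nontrivial
  obtain ⟨⟨z', hz'⟩, hz'1⟩ := exists_ne (1 : center ↥(P : Subgroup G))
  have hzP := z'.2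
  set z : G := (z' : G) with hzdef
  have hz1 : z ≠ 1 := fun h => hz'1 (Subtype.ext (Subtype.ext h))
  have hzc : ∀ r ∈ (P : Subgroup G), r * z = z * r := fun r hr =>
    congrArg Subtype.val (mem_center_iff.1 hz' ⟨r, hr⟩)
  have hoz := hord z hzP hz1
  obtain ⟨x, hxP, hxnc⟩ : ∃ x ∈ (P : Subgroup G), ¬ ∀ r ∈ (P : Subgroup G), r * x = x * r := by
    by_contra! hall
    exact hna ⟨⟨fun a b => Subtype.ext (hall b b.2 a a.2)⟩⟩
  have hx1 : x ≠ 1 := fun h => hxnc fun r _ => by rw [h, mul_one, one_mul]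
  have hox := hord x hxP hx1
  obtain ⟨g, hg⟩ := hD p hp (zpowers z) (zpowers x)
    (P.isPGroup'.to_le (zpowers_le.2 hzP)) (P.isPGroup'.to_le (zpowers_le.2 hxP))
    (by rw [Nat.card_zpowers, Nat.card_zpowers, hoz, hox])
  rw [MonoidHom.map_zpowers] at hg
  set C : Subgroup G := centralizer {x} with hC
  have hconjC : (P : Subgroup G).map (MulAut.conj g).toMonoidHom ≤ C := by
    rintro _ ⟨r, hr, rfl⟩
    rw [hC, mem_centralizer_singleton_iff]
    obtain ⟨i, hi⟩ := mem_zpowers_iff.1 (hg ▸ mem_zpowers x)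
    have hcom : Commute (g * r * g⁻¹) (g * z * g⁻¹) := by
      calc (g * r * g⁻¹) * (g * z * g⁻¹) = g * (r * z) * g⁻¹ := by group
        _ = g * (z * r) * g⁻¹ := by rw [hzc r hr]
        _ = (g * z * g⁻¹) * (g * r * g⁻¹) := by group
    have := hcom.zpow_right i
    rw [← hi]
    simpa using this.eq
  have hpC : p ^ 3 ∣ Nat.card C := by
    have h := card_dvd_of_le hconjC
    rwa [Nat.card_congr ((P : Subgroup G).equivMapOfInjective _ (MulAut.conj g).injective).toEquiv.symm,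
      hcard] at h
  set E : Subgroup G := closure {z, x} with hE
  have hEP : E ≤ (P : Subgroup G) := (closure_le _).2 (by
    rintro y (rfl | rfl) <;> assumption)
  have hEC : E ≤ C := (closure_le _).2 (by
    rintro y (rfl | rfl)
    · exact mem_centralizer_singleton_iff.2 (hzc x hxP).symm
    · exact mem_centralizer_singleton_iff.2 rfl)
  obtain ⟨Q0, hQ0⟩ := ((P.isPGroup'.to_le hEP).comap_subtype (K := C)).exists_le_sylow
  set Q : Subgroup G := (Q0 : Subgroup ↥C).map C.subtype with hQ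
  have hQC : Q ≤ C := map_subtype_le _
  have hQp : IsPGroup p Q := Q0.isPGroup'.map _
  have hQcard : Nat.card Q = p ^ 3 := by
    obtain ⟨n, hn⟩ := IsPGroup.iff_card.1 hQp
    have h3 : n ≤ 3 := by
      obtain ⟨R, hR⟩ := hQp.exists_le_sylow
      have := card_dvd_of_le hR
      rw [hn, R.card_eq_multiplicity, ← P.card_eq_multiplicity, hcard] at this
      exact (Nat.pow_dvd_pow_iff_le_right hp.one_lt).1 this
    have h3' : 3 ≤ n := by
      rw [hQ, card_subtype] at hn
      exact (Nat.pow_dvd_pow_iff_le_right hp.one_lt).1 (hn ▸ Q0.pow_dvd_card_of_pow_dvd_card hpC)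
    rw [hn, le_antisymm h3 h3']
  obtain ⟨R, hR⟩ := hQp.exists_le_sylow
  have hRQ : Q = (R : Subgroup G) := eq_of_le_of_card_ge hR (by
    rw [hQcard, R.card_eq_multiplicity, ← P.card_eq_multiplicity, hcard])
  have hQna : ¬ IsMulCommutative Q := fun h => hna (by
    rw [hRQ] at h
    exact S4023.comm_of_equiv (R.equiv P) h)
  have hEQ : E ≤ Q := fun y hy => ⟨⟨y, hEC hy⟩, hQ0 (by exact hy), rfl⟩
  have hzQ : z ∈ Q := hEQ (subset_closure (by simp))
  have hxQ : x ∈ Q := hEQ (subset_closure (by simp))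
  have hxc : ∀ r ∈ Q, r * x = x * r := fun r hr => mem_centralizer_singleton_iff.1 (hQC hr)
  have hzx : z ∉ zpowers x := fun h => hxnc fun r hr => by
    have heq : zpowers z = zpowers x :=
      eq_of_le_of_card_ge (zpowers_le.2 h) (by rw [Nat.card_zpowers, Nat.card_zpowers, hoz, hox])
    obtain ⟨i, hi⟩ := mem_zpowers_iff.1 (heq.symm ▸ mem_zpowers x)
    rw [← hi]
    exact ((show Commute r z from hzc r hr).zpow_right i).eq
  have hznc : ¬ ∀ r ∈ Q, r * z = z * r := fun h =>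
    hzx ((cube_center hQcard hQna hxQ hx1 hxc).2 z hzQ h)
  obtain ⟨a, ha, hax⟩ := exists_conj hcard hna hzP hoz hzc hxP hxnc 1
  obtain ⟨b, hb, hbz⟩ := exists_conj hQcard hQna hxQ hox hxc hzQ hznc (-1)
  rw [zpow_one] at hax
  rw [zpow_neg, zpow_one] at hbz
  have haz : a * z * a⁻¹ = z := by rw [hzc a ha, mul_inv_cancel_right]
  have hbx : b * x * b⁻¹ = x := by rw [hxc b hb, mul_inv_cancel_right]
  have hxz : x * z = z * x := hzc x hxP
  set w := a * b * a with hw
  have hwz : w * z * w⁻¹ = x⁻¹ := by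
    calc w * z * w⁻¹ = a * (b * (a * z * a⁻¹) * b⁻¹) * a⁻¹ := by rw [hw]; group
      _ = a * (z * x⁻¹) * a⁻¹ := by rw [haz, hbz]
      _ = (a * z * a⁻¹) * (a * x * a⁻¹)⁻¹ := by group
      _ = x⁻¹ := by rw [haz, hax]; group
  have hwx : w * x * w⁻¹ = z := by
    calc w * x * w⁻¹ = a * (b * (a * x * a⁻¹) * b⁻¹) * a⁻¹ := by rw [hw]; group
      _ = a * ((b * x * b⁻¹) * (b * z * b⁻¹)) * a⁻¹ := by rw [hax]; group
      _ = a * z * a⁻¹ := by
          rw [hbx, hbz, show x * (z * x⁻¹) = z by rw [← mul_assoc, hxz, mul_inv_cancel_right]]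
      _ = z := haz
  have hw2 : w ^ 2 * z * (w ^ 2)⁻¹ = z⁻¹ := by
    calc w ^ 2 * z * (w ^ 2)⁻¹ = w * (w * z * w⁻¹) * w⁻¹ := by rw [pow_two]; group
      _ = (w * x * w⁻¹)⁻¹ := by rw [hwz]; group
      _ = z⁻¹ := by rw [hwx]
  have hzne : z ≠ z⁻¹ := fun h => hp2 (by
    have h2 : z ^ 2 = 1 := by
      rw [pow_two]; nth_rewrite 1 [h]; exact inv_mul_cancel z
    exact (Nat.prime_dvd_prime_iff_eq hp Nat.prime_two).1 (hoz ▸ orderOf_dvd_of_pow_eq_one h2))
  -- a conjugate of `x` by an odd power of `w` is not `z`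
  have hodd : ∀ m : ℕ, Odd m → w ^ m * z * (w ^ m)⁻¹ ∈ zpowers x := by
    rintro m ⟨i, rfl⟩
    have e : w ^ (2 * i + 1) * z * (w ^ (2 * i + 1))⁻¹ =
        w * ((w ^ 2) ^ i * z * ((w ^ 2) ^ i)⁻¹) * w⁻¹ := by
      rw [pow_succ', pow_mul]; group
    rcases conj_pow_inv hw2 i with ⟨h, -⟩ | ⟨h, -⟩
    · rw [e, h, hwz]; exact inv_mem (mem_zpowers x)
    · rw [e, h]
      have : w * z⁻¹ * w⁻¹ = x := by
        calc w * z⁻¹ * w⁻¹ = (w * z * w⁻¹)⁻¹ := by group
          _ = x := by rw [hwz, inv_inv]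
      rw [this]; exact mem_zpowers x
  have hPodd : Odd p := hp.odd_of_ne_two hp2
  -- if `z` lies in the odd core then so do both Sylow subgroups, hence `w` has odd order
  have hzO : z ∉ oddCore G := by
    intro hzO
    haveI : (oddCore G).Normal := inferInstanceAs (pPrimeCore 2 G).Normal
    have hall : ∀ y ∈ (P : Subgroup G), y ∈ oddCore G := by
      intro y hy
      rcases eq_or_ne y 1 with rfl | hy1
      · exact one_mem _
      obtain ⟨h, hh⟩ := hD p hp (zpowers z) (zpowers y)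
        (P.isPGroup'.to_le (zpowers_le.2 hzP)) (P.isPGroup'.to_le (zpowers_le.2 hy))
        (by rw [Nat.card_zpowers, Nat.card_zpowers, hoz, hord y hy hy1])
      rw [MonoidHom.map_zpowers] at hh
      obtain ⟨i, hi⟩ := mem_zpowers_iff.1 (hh ▸ mem_zpowers y)
      rw [← hi]
      exact zpow_mem (Subgroup.Normal.conj_mem inferInstance z hzO h) i
    have haO := hall a ha
    have hbO : b ∈ oddCore G := by
      obtain ⟨h, hh⟩ := MulAction.exists_smul_eq G P R
      have hb' : b ∈ (P : Subgroup G).map (MulAut.conj h).toMonoidHom := by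
        have hb'' : b ∈ (R : Subgroup G) := hRQ ▸ hb
        rw [← hh, Sylow.coe_subgroup_smul, Subgroup.pointwise_smul_def] at hb''
        exact hb''
      obtain ⟨y, hy, rfl⟩ := hb'
      exact Subgroup.Normal.conj_mem inferInstance y (hall y hy) h
    have hwO : w ∈ oddCore G := mul_mem (mul_mem haO hbO) haO
    have hwodd : Odd (orderOf w) :=
      Odd.of_dvd_nat (Lib.ZStar.odd_card_oddCore) (Subgroup.orderOf_dvd_natCard _ hwO)
    have := hodd _ hwodd
    rw [pow_orderOf_eq_one, one_mul, inv_one, mul_one] at this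
    exact hzx this
  -- the 2-part of `w`
  obtain ⟨k, m, hm, hkm⟩ := Nat.exists_eq_two_pow_mul_odd (orderOf_pos w).ne'
  set u := w ^ m with hu
  have hu2 : u ^ 2 * z * (u ^ 2)⁻¹ = z⁻¹ := by
    rw [hu, ← pow_mul, mul_comm m 2, pow_mul]
    rcases conj_pow_inv hw2 m with ⟨-, h⟩ | ⟨h, -⟩
    · exact absurd h (Nat.not_even_iff_odd.2 hm)
    · exact h
  have hou : IsPGroup 2 (zpowers u) := IsPGroup.of_card (n := k) (by
    rw [Nat.card_zpowers, hu, orderOf_pow_of_dvd hm.pos.ne' ⟨2 ^ k, by rw [hkm, mul_comm]⟩, hkm,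
      Nat.mul_div_cancel _ hm.pos])
  obtain ⟨T, hT⟩ := hou.exists_le_sylow
  have huT : u ∈ (T : Subgroup G) := hT (mem_zpowers u)
  rcases S4023.main (hD 2 Nat.prime_two) T with hc | hel | ⟨-, ⟨e⟩⟩ | ⟨h2, -⟩
  · haveI : Nontrivial G := ⟨z, 1, hz1⟩
    have h2G : 2 ∣ Nat.card G := by
      refine dvd_trans ?_ (orderOf_dvd_natCard u)
      obtain ⟨n, hn⟩ := IsPGroup.iff_card.1 hou
      rw [Nat.card_zpowers] at hn
      rw [hn]
      refine dvd_pow_self 2 fun h0 => hzne ?_
      rw [h0, pow_zero, orderOf_eq_one_iff] at hn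
      simpa [hn] using hu2
    have hmin : (Nat.card G).minFac = 2 := (Nat.minFac_eq_two_iff _).2 h2G
    have hcompl := IsCyclic.isComplement' (P := T) hmin hc
    set N := (MonoidHom.transferSylow T (hc.normalizer_le_centralizer hmin)).ker
    have hidx : N.index = Nat.card T := hcompl.symm.index_eq_card
    have hNodd : Odd (Nat.card N) := by
      rw [← hcompl.index_eq_card, ← Nat.not_even_iff_odd, even_iff_two_dvd]
      exact T.not_dvd_index
    refine hzO (Lib.ZStar.le_oddCore (MonoidHom.normal_ker _) hNodd ?_)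
    refine mem_of_pow_mem (m := N.index) ?_ (N.pow_index_mem z)
    obtain ⟨n, hn⟩ := IsPGroup.iff_card.1 T.isPGroup'
    rw [hoz, hidx, hn]
    exact ((Nat.coprime_primes hp Nat.prime_two).2 hp2).pow_right n
  · have h := hel.2 u huT
    rw [h, inv_one, one_mul, mul_one] at hu2
    exact hzne hu2
  · set t := u ^ 2 with ht
    have ht1 : t ≠ 1 := fun h => hzne (by simpa [h] using hu2)
    have hu4 : u ^ 4 = 1 := by
      have h : e ⟨u, huT⟩ ^ Monoid.exponent (QuaternionGroup 2) = 1 := Monoid.pow_exponent_eq_one _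
      rw [QuaternionGroup.exponent, ← map_pow, MulEquiv.map_eq_one_iff] at h
      exact congrArg Subtype.val h
    have hot : orderOf t = 2 := orderOf_eq_prime (by rw [ht, ← pow_mul]; exact hu4) ht1
    have htT : t ∈ (T : Subgroup G) := pow_mem huT 2
    have hiso : IsIsolatedInvolution t := Lib.ZStar.isolated_of_unique_involution T hot fun y hy hy2 => by
      have h1 : e ⟨y, hy⟩ = e ⟨t, htT⟩ := by
        rw [Lib.Invol.quaternion_eq_of_orderOf_two (x := e ⟨y, hy⟩)
            (by rw [MulEquiv.orderOf_eq, Subgroup.orderOf_mk, hy2]),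
          Lib.Invol.quaternion_eq_of_orderOf_two (x := e ⟨t, htT⟩)
            (by rw [MulEquiv.orderOf_eq, Subgroup.orderOf_mk, hot])]
      exact congrArg Subtype.val (e.injective h1)
    have h := Lib.ZStar.zStarHolds G t hiso z
    rw [hu2, ← mul_inv_rev, ← pow_two] at h
    refine hzO (mem_of_pow_mem (m := 2) ?_ ((inv_mem_iff (x := z ^ 2)).1 h))
    rw [hoz]
    exact (Nat.coprime_primes hp Nat.prime_two).2 hp2
  · exact h2 rfl


/-- Let G be a finite group in which, for every prime p, any two p-subgroups of the same order are conjugate. Then every Sylow subgroup of G is cyclic, elementary abelian, or a quaternion group of order 8. -/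
theorem result {G : Type*} [Group G] [Finite G]
    (hD : ∀ p : ℕ, p.Prime → ∀ H K : Subgroup G, IsPGroup p H → IsPGroup p K → Nat.card H = Nat.card K →
      ∃ g : G, K = H.map (MulAut.conj g).toMonoidHom) {p : ℕ} [Fact p.Prime] (P : Sylow p G) :
    IsCyclic P ∨ Cfsg.IsElementaryAbelian p (P : Subgroup G) ∨ Nonempty ((P : Subgroup G) ≃* QuaternionGroup 2) := by
  rcases S4023.main (hD p Fact.out) P with h | h | ⟨-, h⟩ | ⟨hp2, hna, hcard, hexp⟩
  · exact Or.inl h
  · exact Or.inr (Or.inl h)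
  · exact Or.inr (Or.inr h)
  · exact (no_extraspecial hp2 hD P hna hcard hexp).elim

end Cfsg.Agent.S4020
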