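import Cfsg.Statements.S4024
import Cfsg.Agent.Lib.Local.QdRankTwo
import Cfsg.Agent.Lib.Core.PSolvable
-- import your own Cfsg.Agent.* helpers here

set_option autoImplicit false
open Cfsg

namespace Cfsg.Agent.S4024

open Subgroup

variable {p : ℕ} [Fact p.Prime]

theorem mul_pow_class {D : Type*} [Group D] {a b c : D} (h : b * a = a * b * c) (ha : Commute c a)
    (hb : Commute c b) : ∀ n : ℕ, (a * b) ^ n = a ^ n * b ^ n * c ^ Nat.choose n 2 := by
  have key : ∀ n : ℕ, b ^ n * a = a * b ^ n * c ^ n := by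
    intro n
    induction n with
    | zero => simp
    | succ n ih =>
      calc b ^ (n + 1) * a = b * (b ^ n * a) := by rw [pow_succ', mul_assoc]
        _ = (b * a) * b ^ n * c ^ n := by rw [ih]; group
        _ = a * (b * (c * b ^ n)) * c ^ n := by rw [h]; group
        _ = a * (b * (b ^ n * c)) * c ^ n := by rw [(hb.pow_right n).eq]
        _ = a * b ^ (n + 1) * c ^ (n + 1) := by rw [pow_succ' b, pow_succ' c]; group
  intro n
  induction n with
  | zero => simp
  | succ n ih =>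
    calc (a * b) ^ (n + 1) = a ^ n * b ^ n * (c ^ Nat.choose n 2 * a) * b := by rw [pow_succ, ih]; group
      _ = a ^ n * (b ^ n * a) * c ^ Nat.choose n 2 * b := by rw [(ha.pow_left _).eq]; group
      _ = a ^ (n + 1) * b ^ n * (c ^ (n + Nat.choose n 2) * b) := by rw [key, pow_succ, pow_add]; group
      _ = a ^ (n + 1) * b ^ (n + 1) * c ^ Nat.choose (n + 1) 2 := by
        rw [(hb.pow_left _).eq, Nat.choose_succ_succ, Nat.choose_one_right, pow_succ b]; group

/-- A `p`-group, `p` odd, all of whose cyclic subgroups are normal is abelian. -/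
theorem comm_of_dedekind {D : Type*} [Group D] [Finite D] (hD : IsPGroup p D) (hp : p ≠ 2)
    (h : ∀ x g : D, g * x * g⁻¹ ∈ zpowers x) : ∀ x y : D, x * y = y * x := by
  have hp' : p.Prime := Fact.out
  suffices key : ∀ x y : D, orderOf y ≤ orderOf x → x * y = y * x by
    intro x y
    rcases le_total (orderOf y) (orderOf x) with hle | hle
    · exact key x y hle
    · exact (key y x hle).symm
  intro x y hle
  by_contra hne
  obtain ⟨e, he⟩ := IsPGroup.iff_orderOf.1 hD x
  obtain ⟨c', hc'⟩ := IsPGroup.iff_orderOf.1 hD y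
  have hce : c' ≤ e := (Nat.pow_le_pow_iff_right hp'.one_lt).1 (by rw [← he, ← hc']; exact hle)
  have hex : ∃ b, y ^ p ^ b ∈ zpowers x := ⟨c', by rw [← hc', pow_orderOf_eq_one]; exact one_mem _⟩
  set b := Nat.find hex
  have hb := Nat.find_spec hex
  have hbc : b ≤ c' := Nat.find_min' hex (by rw [← hc', pow_orderOf_eq_one]; exact one_mem _)
  have hbmin : ∀ i : ℕ, y ^ i ∈ zpowers x → p ^ b ∣ i := by
    intro i hi
    rcases eq_or_ne i 0 with rfl | hi0
    · exact dvd_zero _
    obtain ⟨a, j, hj, rfl⟩ := Nat.exists_eq_pow_mul_and_not_dvd hi0 p hp'.ne_one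
    refine dvd_mul_of_dvd_left (pow_dvd_pow p (Nat.find_min' hex ?_)) j
    have hcop : j.Coprime (orderOf (y ^ p ^ a)) := by
      obtain ⟨l, hl⟩ := IsPGroup.iff_orderOf.1 hD (y ^ p ^ a)
      rw [hl]; exact Nat.Coprime.pow_right _ ((hp'.coprime_iff_not_dvd.2 hj).symm)
    obtain ⟨m, hm⟩ := exists_pow_eq_self_of_coprime hcop
    have := pow_mem hi m
    rwa [pow_mul, hm] at this
  have hc : ∀ u v : D, u * v * u⁻¹ * v⁻¹ ∈ zpowers u ∧ u * v * u⁻¹ * v⁻¹ ∈ zpowers v := fun u v =>
    ⟨by rw [show u * v * u⁻¹ * v⁻¹ = u * (v * u⁻¹ * v⁻¹) by group]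
        exact mul_mem (mem_zpowers u) (by simpa [mul_assoc] using inv_mem (h u v)),
      mul_mem (h v u) (inv_mem (mem_zpowers v))⟩
  set c := (y⁻¹ * x * y * x⁻¹) with hcdef
  have hcx : c ∈ zpowers x := by
    have h' := h x y⁻¹
    rw [inv_inv] at h'
    exact mul_mem h' (inv_mem (mem_zpowers x))
  have hcy : c ∈ zpowers y := by
    have h' := h y x
    rw [hcdef, show y⁻¹ * x * y * x⁻¹ = y⁻¹ * (x * y * x⁻¹) by group]
    exact mul_mem (inv_mem (mem_zpowers y)) h'
  have hcxc : Commute c x := by obtain ⟨i, hi⟩ := hcx; rw [← hi]; exact (Commute.refl x).zpow_left i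
  have hcyc : Commute c y := by obtain ⟨i, hi⟩ := hcy; rw [← hi]; exact (Commute.refl y).zpow_left i
  have hxy : x * y = y * x * c := by
    rw [mul_assoc y x c, ← hcxc.eq, hcdef]; group
  -- `y ^ (p ^ b) = x ^ j` with `p ^ b ∣ j`
  obtain ⟨j, hj⟩ := mem_powers_iff_mem_zpowers.2 hb
  simp only at hj
  have hjd : p ^ b ∣ j := by
    have h1 : x ^ (j * p ^ (c' - b)) = 1 := by
      rw [pow_mul, hj, ← pow_mul, ← pow_add, Nat.add_sub_cancel' hbc, ← hc', pow_orderOf_eq_one]
    have h2 := orderOf_dvd_of_pow_eq_one h1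
    rw [he, show e = (e - (c' - b)) + (c' - b) by omega, pow_add] at h2
    exact (pow_dvd_pow p (by omega)).trans (Nat.dvd_of_mul_dvd_mul_right (pow_pos hp'.pos _) h2)
  obtain ⟨k, rfl⟩ := hjd
  have hkc : x ^ k * y = y * x ^ k * c ^ k := by
    clear hj
    induction k with
    | zero => simp
    | succ k ih =>
      calc x ^ (k + 1) * y = x ^ k * (x * y) := by rw [pow_succ, mul_assoc]
        _ = (x ^ k * y) * x * c := by rw [hxy]; group
        _ = y * x ^ k * (c ^ k * x) * c := by rw [ih]; group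
        _ = y * x ^ (k + 1) * c ^ (k + 1) := by rw [(hcxc.pow_left k).eq, pow_succ, pow_succ]; group
  set y' := y * (x ^ k)⁻¹ with hy'
  have hcomm : (x ^ k)⁻¹ * y = y * (x ^ k)⁻¹ * (c ^ k)⁻¹ := by
    have hck : Commute (c ^ k) (x ^ k) := (hcxc.pow_left k).pow_right k
    have hck' : Commute (c ^ k) y := hcyc.pow_left k
    calc (x ^ k)⁻¹ * y = (x ^ k)⁻¹ * ((x ^ k * y) * ((c ^ k)⁻¹ * (x ^ k)⁻¹)) := by rw [hkc]; group
      _ = y * ((c ^ k)⁻¹ * (x ^ k)⁻¹) := by group
      _ = y * (x ^ k)⁻¹ * (c ^ k)⁻¹ := by rw [hck.inv_inv.eq, ← mul_assoc]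
  have hpow : y' ^ p ^ b = 1 := by
    have hb1 : b ≠ 0 := fun e0 => by
      have h0 : y ∈ zpowers x := by simpa [b, e0] using (show y ^ p ^ b ∈ zpowers x from hb)
      obtain ⟨i, rfl⟩ := h0
      exact hne ((Commute.refl x).zpow_right i).eq
    rw [hy', mul_pow_class hcomm ((hcyc.pow_left k).inv_left) (((hcxc.pow_left k).pow_right k).inv_inv) _,
      inv_pow, ← pow_mul, mul_comm k, hj, mul_inv_cancel, one_mul]
    have h2 : p ^ b ∣ Nat.choose (p ^ b) 2 := by
      have hev : 2 ∣ p ^ b - 1 := (Nat.Odd.sub_odd (hp'.odd_of_ne_two hp).pow odd_one).two_dvd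
      rw [Nat.choose_two_right, Nat.mul_div_assoc _ hev]
      exact dvd_mul_right _ _
    have hcb : c ^ p ^ b = 1 := by
      have h1 : Commute x (y ^ p ^ b) := by rw [← hj]; exact (Commute.refl x).pow_right _
      have key : ∀ n : ℕ, x * y ^ n = y ^ n * x * c ^ n := by
        intro n
        induction n with
        | zero => simp
        | succ n ih =>
          calc x * y ^ (n + 1) = y ^ n * x * (c ^ n * y) := by rw [pow_succ, ← mul_assoc, ih]; group
            _ = y ^ n * (x * y) * c ^ n := by rw [(hcyc.pow_left n).eq]; group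
            _ = y ^ (n + 1) * x * c ^ (n + 1) := by rw [hxy, pow_succ, pow_succ']; group
      have h3 := key (p ^ b)
      rw [h1.eq] at h3
      exact mul_eq_left.1 h3.symm
    obtain ⟨m, hm⟩ := h2
    rw [hm, pow_mul, inv_pow, ← pow_mul, mul_comm k, pow_mul, hcb, one_pow, inv_one, one_pow]
  have hcomm' : x * y' = y' * x := by
    refine commutatorElement_eq_one_iff_mul_comm.1 ?_
    obtain ⟨h1, h2⟩ := hc x y'
    rw [← commutatorElement_def] at h1 h2
    obtain ⟨i, hi⟩ := mem_powers_iff_mem_zpowers.2 h2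
    simp only at hi
    have hyi : y ^ i ∈ zpowers x := by
      have hmem : ∀ n : ℕ, y' ^ n * (y ^ n)⁻¹ ∈ zpowers x := by
        intro n
        induction n with
        | zero => simp
        | succ n ih =>
          have h4 : y * (y' ^ n * (y ^ n)⁻¹) * y⁻¹ ∈ zpowers x := by
            obtain ⟨l, hl⟩ := ih
            rw [← hl, ← conj_zpow]
            exact zpow_mem (h x y) l
          have h5 : y * (x ^ k)⁻¹ * y⁻¹ ∈ zpowers x := by
            rw [← inv_pow, ← conj_pow]
            exact pow_mem (by simpa [mul_assoc] using inv_mem (h x y)) k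
          rw [pow_succ' y', pow_succ' y, show y' * y' ^ n * (y * y ^ n)⁻¹ =
            (y * (x ^ k)⁻¹ * y⁻¹) * (y * (y' ^ n * (y ^ n)⁻¹) * y⁻¹) by rw [hy']; group]
          exact mul_mem h5 h4
      have h6 := mul_mem (inv_mem (hmem i)) (hi.symm ▸ h1 : y' ^ i ∈ zpowers x)
      simpa using h6
    obtain ⟨m, rfl⟩ := hbmin i hyi
    rw [← hi, pow_mul, hpow, one_pow]
  apply hne
  have : y = y' * x ^ k := by rw [hy', inv_mul_cancel_right]
  rw [this]
  exact (Commute.mul_right hcomm' ((Commute.refl x).pow_right k)).eq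

theorem eq_of_card_eq_zpowers {G : Type*} [Group G] [Finite G] {g : G} {Y Y' : Subgroup G}
    (hY : Y ≤ zpowers g) (hY' : Y' ≤ zpowers g) (hc : Nat.card Y = p) (hc' : Nat.card Y' = p) : Y = Y' := by
  classical
  haveI := Fintype.ofFinite G
  set W := zpowers g
  set S : Finset W := Finset.univ.filter fun w => w ^ p = 1 with hS
  have hle : S.card ≤ p := IsCyclic.card_pow_eq_one_le (Fact.out : p.Prime).pos
  have hsub : ∀ Y : Subgroup G, Y ≤ W → Nat.card Y = p →
      (Finset.univ.filter fun w : W => (w : G) ∈ Y) = S := by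
    intro Y hY hc
    refine Finset.eq_of_subset_of_card_le (fun w hw => ?_) ?_
    · rw [Finset.mem_filter] at hw
      rw [hS, Finset.mem_filter]
      refine ⟨Finset.mem_univ _, Subtype.ext ?_⟩
      have := congrArg Subtype.val (pow_card_eq_one' (x := (⟨(w : G), hw.2⟩ : Y)))
      rwa [hc] at this
    · refine hle.trans (le_of_eq ?_)
      rw [← Fintype.card_subtype, ← Nat.card_eq_fintype_card, ← hc]
      exact Nat.card_congr ⟨fun y => ⟨⟨y.1, hY y.2⟩, y.2⟩, fun w => ⟨w.1.1, w.2⟩,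
        fun _ => rfl, fun _ => rfl⟩
  ext x
  have h := Finset.ext_iff.1 ((hsub Y hY hc).trans (hsub Y' hY' hc').symm)
  constructor
  · intro hx
    simpa using (h ⟨x, hY hx⟩).1 (by simpa using hx)
  · intro hx
    simpa using (h ⟨x, hY' hx⟩).2 (by simpa using hx)

/-- If a normal subgroup meets a transitive `p`-group properly and nontrivially, the group is cyclic. -/
theorem cyclic_of_lt {G : Type*} [Group G] [Finite G] (hp : p ≠ 2) {P : Subgroup G} (hP : IsPGroup p P)
    (K : Subgroup G) [K.Normal]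
    (hC : ∀ H H' : Subgroup G, H ≤ P → H' ≤ P → Nat.card H = Nat.card H' →
      ∃ g : G, H' = H.map (MulAut.conj g).toMonoidHom)
    (hne : P ⊓ K ≠ ⊥) (hlt : ¬ P ≤ K) : IsCyclic P := by
  have hp' : p.Prime := Fact.out
  obtain ⟨r, hr⟩ := IsPGroup.iff_card.1 (hP.to_le (inf_le_left : P ⊓ K ≤ P))
  have hsmall : ∀ U : Subgroup G, U ≤ P → ∀ j, Nat.card U = p ^ j → j ≤ r → U ≤ K := by
    intro U hU j hj hjr
    obtain ⟨U', hU'⟩ := Sylow.exists_subgroup_card_pow_prime (G := ↥(P ⊓ K : Subgroup G)) p (n := j)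
      (hr ▸ pow_dvd_pow p hjr)
    obtain ⟨g, rfl⟩ := hC (U'.map (P ⊓ K).subtype) U ((map_subtype_le _).trans inf_le_left) hU (by
      rw [card_map_of_injective (P ⊓ K).subtype_injective, hU', hj])
    refine (map_mono ((map_subtype_le _).trans inf_le_right)).trans (le_of_eq ?_)
    exact Cfsg.Lib.Core.normal_iff_map_conj.1 inferInstance g
  obtain ⟨g, hgP, hgK⟩ := SetLike.not_le_iff_exists.1 hlt
  obtain ⟨e, he⟩ := IsPGroup.iff_orderOf.1 hP ⟨g, hgP⟩
  rw [orderOf_mk] at he
  have hre : r < e := by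
    by_contra hle
    exact hgK (hsmall (zpowers g) (zpowers_le.2 hgP) e (by rw [Nat.card_zpowers, he]) (by omega) (mem_zpowers g))
  set S := zpowers (g ^ p ^ (e - r)) with hSdef
  have hScard : Nat.card S = p ^ r := by
    rw [hSdef, Nat.card_zpowers, orderOf_pow_of_dvd (pow_pos hp'.pos _).ne' (he ▸ pow_dvd_pow p (Nat.sub_le e r)),
      he, Nat.pow_div (Nat.sub_le e r) hp'.pos, show e - (e - r) = r by omega]
  have hSeq : S = P ⊓ K := by
    refine eq_of_le_of_card_ge (le_inf (zpowers_le.2 (pow_mem hgP _))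
      (hsmall S (zpowers_le.2 (pow_mem hgP _)) r hScard le_rfl)) ?_
    rw [hScard, hr]
  have hr0 : r ≠ 0 := fun e0 => hne (card_eq_one.1 (by rw [hr, e0, pow_zero]))
  set z := g ^ p ^ (e - 1)
  have hz : orderOf z = p := by
    rw [orderOf_pow_of_dvd (pow_pos hp'.pos _).ne' (he ▸ pow_dvd_pow p (Nat.sub_le e 1)),
      he, Nat.pow_div (Nat.sub_le e 1) hp'.pos, show e - (e - 1) = 1 by omega, pow_one]
  refine Cfsg.Lib.Local.QdRankTwo.isCyclic_of_unique hp P hP (z := z) (by rw [← hz, pow_orderOf_eq_one]) ?_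
  intro x hx hxp
  rcases eq_or_ne x 1 with rfl | hx1
  · exact one_mem _
  have hxo : orderOf x = p := orderOf_eq_prime hxp hx1
  have hxS : x ∈ S := by
    rw [hSeq]
    exact ⟨hx, hsmall (zpowers x) (zpowers_le.2 hx) 1 (by rw [Nat.card_zpowers, hxo, pow_one])
      (Nat.one_le_iff_ne_zero.2 hr0) (mem_zpowers x)⟩
  have := eq_of_card_eq_zpowers (p := p) (g := g)
    (zpowers_le.2 (zpowers_le.2 (pow_mem (mem_zpowers g) _) hxS))
    (zpowers_le.2 (pow_mem (mem_zpowers g) _)) (by rw [Nat.card_zpowers, hxo]) (by rw [Nat.card_zpowers, hz])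
  exact this.le (mem_zpowers x)

theorem exists_normal_card {D : Type*} [Group D] [Finite D] (hD : IsPGroup p D) {n : ℕ} (hn : Nat.card D = p ^ n) :
    ∀ j ≤ n, ∃ N : Subgroup D, N.Normal ∧ Nat.card N = p ^ j := by
  intro j
  induction j with
  | zero => exact fun _ => ⟨⊥, inferInstance, by rw [card_bot, pow_zero]⟩
  | succ j ih =>
    intro hj
    obtain ⟨N, hN, hNc⟩ := ih (by omega)
    haveI : Nontrivial (D ⧸ N) := QuotientGroup.nontrivial_iff.2 fun h => by
      rw [h, card_top, hn] at hNc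
      have := Nat.pow_right_injective (Fact.out : p.Prime).two_le hNc
      omega
    obtain ⟨z, -, hzc, hz⟩ := Cfsg.Lib.PGroup.exists_mem_center_orderOf_eq (p := p) (hD.to_quotient N)
      (N := (⊤ : Subgroup (D ⧸ N))) top_ne_bot
    haveI : (zpowers z).Normal := ⟨fun a ha g => by
      rw [mem_center_iff.1 (zpowers_le.2 hzc ha) g, mul_inv_cancel_right]; exact ha⟩
    refine ⟨(zpowers z).comap (QuotientGroup.mk' N), inferInstance, ?_⟩
    rw [Cfsg.Lib.Core.card_comap_eq _ (QuotientGroup.mk'_surjective N), QuotientGroup.ker_mk', hNc,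
      Nat.card_zpowers, hz, pow_succ]

theorem main {G : Type*} [Group G] [Finite G] (hp : p ≠ 2)
    (hC : ∀ H K : Subgroup G, IsPGroup p H → IsPGroup p K → Nat.card H = Nat.card K →
      ∃ g : G, K = H.map (MulAut.conj g).toMonoidHom) (P : Sylow p G)
    (H : Subgroup G) [H.Normal] (hsolv : Cfsg.IsPSolvable p H) (hdiv : p ∣ Nat.card H) :
    IsMulCommutative P ∧ ((P : Subgroup G) ≤ H ∨ IsCyclic P) := by
  have hp' : p.Prime := Fact.out
  have hcomm : IsCyclic P → IsMulCommutative P := fun h => by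
    haveI : IsCyclic (P : Subgroup G) := h
    exact IsCyclic.isMulCommutative
  have hCP : ∀ U U' : Subgroup G, U ≤ P → U' ≤ P → Nat.card U = Nat.card U' →
      ∃ g : G, U' = U.map (MulAut.conj g).toMonoidHom :=
    fun U U' hU hU' => hC U U' (P.2.to_le hU) (P.2.to_le hU')
  by_cases hPH : (P : Subgroup G) ≤ H
  swap
  · have hne : (P : Subgroup G) ⊓ H ≠ ⊥ := by
      obtain ⟨y, hy⟩ := exists_prime_orderOf_dvd_card' p hdiv
      obtain ⟨Q, hQ⟩ := (IsPGroup.of_card (n := 1) (G := zpowers (y : G))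
        (by rw [Nat.card_zpowers, orderOf_coe, hy, pow_one])).exists_le_sylow
      obtain ⟨g, rfl⟩ := MulAction.exists_smul_eq G P Q
      intro hbot
      have h := hQ (mem_zpowers (y : G))
      rw [Sylow.coe_subgroup_smul, Subgroup.pointwise_smul_def] at h
      obtain ⟨s, hs, he⟩ := h
      have he' : g * s * g⁻¹ = (y : G) := he
      have hsH : s ∈ H := by
        rw [show s = g⁻¹ * (g * s * g⁻¹) * g by group, he']
        simpa using ‹H.Normal›.conj_mem _ y.2 g⁻¹
      rw [mem_bot.1 (hbot.le ⟨hs, hsH⟩)] at he'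
      rw [show y = 1 from Subtype.ext (by simpa using he'.symm), orderOf_one] at hy
      exact hp'.one_lt.ne hy
    have hcy := cyclic_of_lt hp P.2 H hCP hne hPH
    exact ⟨hcomm hcy, Or.inr hcy⟩
  refine ⟨?_, Or.inl hPH⟩
  set M := (Cfsg.pPrimeCore p H).map H.subtype with hM
  haveI : M.Normal := Cfsg.Lib.Core.normal_map_char_of_normal _
  have hMcop : (Nat.card M).Coprime p := by
    rw [hM, card_map_of_injective H.subtype_injective]; exact Cfsg.Lib.Core.pPrimeCore_coprime p H
  set f := QuotientGroup.mk' M with hf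
  have hfs : Function.Surjective f := QuotientGroup.mk'_surjective M
  have hinj : ∀ x ∈ (P : Subgroup G), f x = 1 → x = 1 := by
    intro x hx h
    have hxM : x ∈ M := (QuotientGroup.eq_one_iff x).1 h
    obtain ⟨k, hk⟩ := IsPGroup.iff_orderOf.1 P.2 ⟨x, hx⟩
    rw [orderOf_mk] at hk
    exact orderOf_eq_one_iff.1 (Nat.eq_one_of_dvd_coprimes (hMcop.pow_right k)
      (Subgroup.orderOf_dvd_natCard M hxM) (dvd_of_eq hk))
  set Pb := (P : Subgroup G).map f with hPb
  have hcard : ∀ U : Subgroup G, U ≤ P → Nat.card ↥(U.map f) = Nat.card U := fun U hU =>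
    (Nat.card_congr (Equiv.ofBijective (f.subgroupMap U) ⟨fun a b hab => Subtype.ext (mul_inv_eq_one.1
      (hinj _ (mul_mem (hU a.2) (inv_mem (hU b.2))) (by
        rw [map_mul, map_inv, mul_inv_eq_one]; exact congrArg Subtype.val hab))),
      f.subgroupMap_surjective U⟩)).symm
  have hCb : ∀ U U' : Subgroup (G ⧸ M), U ≤ Pb → U' ≤ Pb → Nat.card U = Nat.card U' →
      ∃ g : G ⧸ M, U' = U.map (MulAut.conj g).toMonoidHom := by
    intro U U' hU hU' hc
    have hpre : ∀ U : Subgroup (G ⧸ M), U ≤ Pb → ((P : Subgroup G) ⊓ U.comap f).map f = U := fun U hU =>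
      le_antisymm (map_le_iff_le_comap.2 inf_le_right) fun u hu => by
        obtain ⟨x, hx, rfl⟩ := hU hu
        exact ⟨x, ⟨hx, hu⟩, rfl⟩
    obtain ⟨g, hg⟩ := hCP ((P : Subgroup G) ⊓ U.comap f) ((P : Subgroup G) ⊓ U'.comap f) inf_le_left inf_le_left
      (by rw [← hcard _ inf_le_left, ← hcard _ inf_le_left, hpre U hU, hpre U' hU', hc])
    refine ⟨f g, ?_⟩
    rw [← hpre U' hU', hg, Subgroup.map_map]
    conv_rhs => rw [← hpre U hU, Subgroup.map_map]
    congr 1
  set Hb := H.map f with hHb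
  haveI : Hb.Normal := (inferInstance : H.Normal).map f hfs
  have hHsolv : Cfsg.IsPSolvable p Hb :=
    Cfsg.Lib.Core.isPSolvable_of_surjective (f.subgroupMap H) (f.subgroupMap_surjective H) hsolv
  have hcore : Cfsg.pPrimeCore p Hb = ⊥ := by
    set N := ((Cfsg.pPrimeCore p Hb).map Hb.subtype) with hN
    haveI : N.Normal := Cfsg.Lib.Core.normal_map_char_of_normal _
    have hle : N.comap f ≤ H := (comap_mono (map_subtype_le _)).trans (le_of_eq (by
      rw [hHb, comap_map_eq, hf, QuotientGroup.ker_mk', sup_eq_left]; exact map_subtype_le _))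
    have hc : (Nat.card ↥(N.comap f)).Coprime p := by
      rw [Cfsg.Lib.Core.card_comap_eq f hfs, hf, QuotientGroup.ker_mk', hN, card_map_of_injective Hb.subtype_injective]
      exact hMcop.mul_left (Cfsg.Lib.Core.pPrimeCore_coprime p Hb)
    have h1 : N.comap f ≤ M := fun x hx => ⟨⟨x, hle hx⟩, Cfsg.Lib.Core.le_pPrimeCore (N := (N.comap f).subgroupOf H)
      (by rwa [Nat.card_congr (subgroupOfEquivOfLe hle).toEquiv]) hx, rfl⟩
    have h2 : N = ⊥ := by
      rw [← map_comap_eq_self_of_surjective hfs N, eq_bot_iff]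
      refine (map_mono h1).trans (le_of_eq ?_)
      exact QuotientGroup.map_mk'_self M
    rwa [hN, map_eq_bot_iff_of_injective _ Hb.subtype_injective] at h2
  obtain ⟨y, hy⟩ := exists_prime_orderOf_dvd_card' p hdiv
  haveI : Nontrivial Hb := by
    refine (nontrivial_iff_ne_bot _).2 fun h => ?_
    have hyM : (y : G) ∈ M := (QuotientGroup.eq_one_iff _).1 (mem_bot.1 (h.le ⟨y, y.2, rfl⟩))
    refine hp'.one_lt.ne' (Nat.eq_one_of_dvd_coprimes hMcop ?_ dvd_rfl)
    rw [← hy, ← orderOf_coe]; exact Subgroup.orderOf_dvd_natCard M hyM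
  set V := (Cfsg.pCore p Hb).map Hb.subtype with hV
  haveI : V.Normal := Cfsg.Lib.Core.normal_map_char_of_normal _
  have hVne : V ≠ ⊥ := by
    rw [hV, Ne, map_eq_bot_iff_of_injective _ Hb.subtype_injective]
    exact Cfsg.Lib.Core.pCore_ne_bot_of_isPSolvable hHsolv hcore
  have hVP : V ≤ Pb := ((Cfsg.Lib.Core.pCore_isPGroup p Hb).map _).le_sylow_of_normal
    (P.mapSurjective (f := f) hfs)
  suffices hcomm' : ∀ a b : Pb, a * b = b * a by
    refine ⟨⟨fun a b => Subtype.ext (mul_inv_eq_one.1 (hinj _ (mul_mem (mul_mem a.2 b.2) (inv_mem (mul_mem b.2 a.2))) ?_))⟩⟩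
    rw [map_mul, map_inv, mul_inv_eq_one]
    simp only [coe_mul, map_mul]
    exact congrArg Subtype.val (hcomm' ⟨f a, _, a.2, rfl⟩ ⟨f b, _, b.2, rfl⟩)
  by_cases hPV : Pb ≤ V
  swap
  · haveI := cyclic_of_lt hp (P.2.map f) V hCb (by rwa [inf_eq_right.2 hVP]) hPV
    haveI : IsMulCommutative Pb := IsCyclic.isMulCommutative
    exact fun a b => mul_comm' a b
  haveI hPn : Pb.Normal := le_antisymm hVP hPV ▸ (inferInstance : V.Normal)
  obtain ⟨n, hn⟩ := IsPGroup.iff_card.1 (P.2.map f : IsPGroup p Pb)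
  refine comm_of_dedekind (P.2.map f) hp fun x w => ?_
  obtain ⟨j, hj, hxj⟩ := (Nat.dvd_prime_pow hp').1 (hn ▸ orderOf_dvd_natCard x)
  obtain ⟨N, hN, hNc⟩ := exists_normal_card (P.2.map f) hn j hj
  obtain ⟨g, hg⟩ := hCb (N.map Pb.subtype) ((zpowers x).map Pb.subtype) (map_subtype_le _) (map_subtype_le _)
    (by rw [card_map_of_injective Pb.subtype_injective, card_map_of_injective Pb.subtype_injective, hNc,
      Nat.card_zpowers, hxj])
  obtain ⟨_, ⟨u, hu, rfl⟩, hux⟩ := hg.le ⟨x, mem_zpowers x, rfl⟩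
  have hgw : g⁻¹ * (w : G ⧸ M) * g ∈ Pb := by simpa using hPn.conj_mem _ w.2 g⁻¹
  have hmem := hg.ge ⟨_, ⟨_, hN.conj_mem u hu ⟨_, hgw⟩, rfl⟩, rfl⟩
  obtain ⟨v, hv, hve⟩ := hmem
  have : v = w * x * w⁻¹ := Subtype.ext (by
    simp only [MulAut.conj_apply, MulEquiv.coe_toMonoidHom, subtype_apply] at hux hve
    rw [hve]
    simp only [coe_mul, InvMemClass.coe_inv]
    rw [← hux]
    group)
  exact this ▸ hv

/-- Let p be an odd prime and G a finite group in which any two p-subgroups of the same order are conjugate, with Sylow p-subgroup P. If H is a normal p-solvable subgroup of G whose order is divisible by p, then P is abelian, and either P ≤ H or P is cyclic. -/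
theorem result {G : Type*} [Group G] [Finite G]
    {p : ℕ} [Fact p.Prime] (hp : p ≠ 2) (hC : ∀ H K : Subgroup G, IsPGroup p H → IsPGroup p K → Nat.card H = Nat.card K →
      ∃ g : G, K = H.map (MulAut.conj g).toMonoidHom) (P : Sylow p G)
    (H : Subgroup G) [H.Normal] (hsolv : Cfsg.IsPSolvable p H) (hdiv : p ∣ Nat.card H) :
    IsMulCommutative P ∧ ((P : Subgroup G) ≤ H ∨ IsCyclic P) := by
  exact main hp hC P H hsolv hdiv

end Cfsg.Agent.S4024
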