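import Cfsg.Statements.S4027
import Cfsg.Agent.S3861

set_option autoImplicit false
open Cfsg

namespace Cfsg.Agent.S4027

/-- Let G be a finite group in which every element x of odd order satisfies N_G(⟨x⟩) = C_G(x). Then the Sylow 2-subgroups of G are normal. -/
theorem result {G : Type*} [Group G] [Finite G]
    (hirr : ∀ x : G, (∀ r : ℕ, r.Prime → r ∣ orderOf x → r ≠ 2) →
      Subgroup.normalizer ((Subgroup.zpowers x : Subgroup G) : Set G) ≤ Subgroup.centralizer {x}) (P : Sylow 2 G) :
    (P : Subgroup G).Normal := by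
  by_contra hP
  obtain ⟨x, hx1, hx, hc⟩ := S3861.exists_real_odd P hP
  obtain ⟨g, hg⟩ := isConj_iff.mp hc
  have hN : g ∈ Subgroup.normalizer ((Subgroup.zpowers x : Subgroup G) : Set G) := by
    rw [Subgroup.mem_normalizer_iff_map_conj_eq, MonoidHom.map_zpowers]
    show Subgroup.zpowers (g * x * g⁻¹) = _
    rw [hg, Subgroup.zpowers_inv]
  have hC := Subgroup.mem_centralizer_singleton_iff.mp (hirr x (fun r hr hd hr2 => by
    subst hr2
    exact (Nat.not_even_iff_odd.mpr hx) (even_iff_two_dvd.mpr hd)) hN)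
  rw [hC, mul_inv_cancel_right] at hg
  have h2 : x ^ 2 = 1 := by
    rw [sq]; nth_rewrite 1 [hg]; exact inv_mul_cancel x
  have h3 := Nat.dvd_gcd (dvd_refl (orderOf x)) (orderOf_dvd_of_pow_eq_one h2)
  rw [(Nat.coprime_two_right.mpr hx).gcd_eq_one, Nat.dvd_one, orderOf_eq_one_iff] at h3
  exact hx1 h3

end Cfsg.Agent.S4027
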