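import Cfsg.Statements.S4028
import Mathlib.Tactic.Group
import Mathlib.NumberTheory.Basic
import Mathlib.GroupTheory.Sylow
import Mathlib.Data.Nat.Prime.Int
import Mathlib.GroupTheory.SpecificGroups.Cyclic
import Mathlib.FieldTheory.Finite.Basic
-- import your own Cfsg.Agent.* helpers here

set_option autoImplicit false
open Cfsg

namespace Cfsg.Agent.S4028

open Subgroup

/-- Let G be a finite group with Sylow 2-subgroup P. Then N_G(⟨x⟩) = C_G(x) holds for every 2-element x of G if and only if N_P(⟨y⟩) = C_P(y) holds for every y ∈ P (computed inside P). -/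
theorem result {G : Type*} [Group G] [Finite G] (P : Sylow 2 G) :
    (∀ x : G, (∀ r : ℕ, r.Prime → r ∣ orderOf x → r = 2) →
      Subgroup.normalizer ((Subgroup.zpowers x : Subgroup G) : Set G) ≤ Subgroup.centralizer {x}) ↔
    (∀ y : ↥(P : Subgroup G), Subgroup.normalizer ((Subgroup.zpowers y : Subgroup ↥(P : Subgroup G)) : Set ↥(P : Subgroup G)) ≤
        Subgroup.centralizer {y}) := by
  constructor
  · intro h y g hg
    have hy : ∀ r : ℕ, r.Prime → r ∣ orderOf (y : G) → r = 2 := fun r hr hd => by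
      obtain ⟨k, hk⟩ := IsPGroup.iff_orderOf.mp P.isPGroup' y
      rw [orderOf_coe, hk] at hd
      exact (Nat.prime_dvd_prime_iff_eq hr Nat.prime_two).mp (hr.dvd_of_dvd_pow hd)
    rw [mem_centralizer_singleton_iff]
    refine Subtype.ext (mem_centralizer_singleton_iff.mp (h (y : G) hy ?_))
    rw [mem_normalizer_iff]
    intro z
    constructor
    · intro hz
      obtain ⟨i, rfl⟩ := mem_zpowers_iff.mp hz
      obtain ⟨j, hj⟩ := mem_zpowers_iff.mp ((mem_normalizer_iff.mp hg (y ^ i)).mp (zpow_mem (mem_zpowers y) i))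
      exact mem_zpowers_iff.mpr ⟨j, by simpa using congrArg Subtype.val hj⟩
    · intro hz
      obtain ⟨i, hi⟩ := mem_zpowers_iff.mp hz
      obtain ⟨j, hj⟩ := mem_zpowers_iff.mp ((mem_normalizer_iff.mp (inv_mem hg) (y ^ i)).mp (zpow_mem (mem_zpowers y) i))
      refine mem_zpowers_iff.mpr ⟨j, ?_⟩
      have h1 : ((y ^ j : (P : Subgroup G)) : G) = (g : G)⁻¹ * ((y : G) ^ i) * (g : G)⁻¹⁻¹ := by rw [hj]; simp
      rw [← Subgroup.coe_zpow, h1, hi]
      group
  · intro h x hx g hg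
    rw [mem_centralizer_singleton_iff]
    have hxp : ∃ k, orderOf x = 2 ^ k := by
      refine ⟨(orderOf x).primeFactorsList.length, ?_⟩
      exact Nat.eq_prime_pow_of_unique_prime_dvd (orderOf_pos x).ne' fun {r} hr hd => hx r hr hd
    obtain ⟨k, hk⟩ := hxp
    -- the conjugation action on `⟨x⟩`
    have hgx : g * x * g⁻¹ ∈ zpowers x := (mem_normalizer_iff.mp hg x).mp (mem_zpowers x)
    obtain ⟨a, ha⟩ := mem_zpowers_iff.mp hgx
    have hiter : ∀ n : ℕ, g ^ n * x * (g ^ n)⁻¹ = x ^ (a ^ n) := fun n => by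
      induction n with
      | zero => simp
      | succ n ih =>
        rw [pow_succ', pow_succ' a, zpow_mul, ha, conj_zpow]
        calc g * g ^ n * x * (g * g ^ n)⁻¹ = g * (g ^ n * x * (g ^ n)⁻¹) * g⁻¹ := by group
          _ = g * x ^ (a ^ n) * g⁻¹ := by rw [ih]
    rcases Nat.eq_zero_or_pos k with hk0 | hk0
    · have hx1 : x = 1 := orderOf_eq_one_iff.mp (by rw [hk, hk0, pow_zero])
      rw [hx1, mul_one, one_mul]
    have hodd : ((2 : ℕ) : ℤ) ∣ a - 1 := by
      have ho : orderOf (x ^ a) = 2 ^ k := by rw [ha, ← hk]; exact MulEquiv.orderOf_eq (MulAut.conj g) x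
      by_contra hdiv
      obtain ⟨b, rfl⟩ : (2 : ℤ) ∣ a := by omega
      obtain ⟨m, rfl⟩ : ∃ m, k = m + 1 := ⟨k - 1, by omega⟩
      have h2 : (x ^ ((2 : ℤ) * b)) ^ (2 ^ m : ℕ) = 1 := by
        rw [← zpow_natCast, ← zpow_mul, mul_assoc, mul_comm b, ← mul_assoc,
          show (2 : ℤ) * ((2 ^ m : ℕ) : ℤ) = ((2 ^ (m + 1) : ℕ) : ℤ) by push_cast; ring, zpow_mul, zpow_natCast, ← hk,
          pow_orderOf_eq_one, one_zpow]
      have h3 := orderOf_dvd_of_pow_eq_one h2
      rw [ho] at h3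
      have := (Nat.pow_dvd_pow_iff_le_right (by norm_num)).mp h3
      omega
    have hg2 : g ^ 2 ^ k * x * (g ^ 2 ^ k)⁻¹ = x := by
      rw [hiter]
      conv_rhs => rw [← zpow_one x]
      rw [zpow_eq_zpow_iff_modEq, hk, Int.modEq_comm, Int.modEq_iff_dvd]
      have h1 := dvd_sub_pow_of_dvd_sub hodd k
      rw [one_pow] at h1
      exact_mod_cast (pow_dvd_pow _ (Nat.le_succ k)).trans h1
    -- the `2`-part of `g` centralizes `x`
    set o := orderOf g
    set m := o / 2 ^ o.factorization 2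
    have hm : ¬ 2 ∣ m := Nat.not_dvd_ordCompl Nat.prime_two (orderOf_pos g).ne'
    have hm0 : 0 < m := Nat.pos_of_ne_zero fun h => hm (h ▸ dvd_zero 2)
    have hgm : g ^ m ∈ normalizer ((zpowers x : Subgroup G) : Set G) := pow_mem hg m
    have hpg : IsPGroup 2 ↥(zpowers x ⊔ zpowers (g ^ m)) := by
      refine IsPGroup.to_sup_of_normal_left' (IsPGroup.of_card (n := k) (by rw [Nat.card_zpowers, hk]))
        (IsPGroup.of_card (n := o.factorization 2) ?_) (zpowers_le.mpr hgm)
      have h3 : o / m = 2 ^ o.factorization 2 :=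
        Nat.div_eq_of_eq_mul_left hm0 (Nat.ordProj_mul_ordCompl_eq_self _ _).symm
      rw [Nat.card_zpowers, orderOf_pow' g hm0.ne', Nat.gcd_eq_right (Nat.ordCompl_dvd _ _), h3]
    obtain ⟨T, hT⟩ := hpg.exists_le_sylow
    obtain ⟨s, hs⟩ := MulAction.exists_smul_eq G T P
    have hmem : ∀ z ∈ zpowers x ⊔ zpowers (g ^ m), s * z * s⁻¹ ∈ (P : Subgroup G) := fun z hz => by
      rw [← hs]
      exact ⟨z, hT hz, rfl⟩
    have h5 : Commute (⟨_, hmem _ (mem_sup_right (mem_zpowers (g ^ m)))⟩ : (P : Subgroup G))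
        ⟨_, hmem x (mem_sup_left (mem_zpowers x))⟩ := by
      refine mem_centralizer_singleton_iff.mp (h _ ?_)
      have hfin : ∀ (z : (P : Subgroup G)) (w : G), (z : G) = s * w * s⁻¹ →
          (z ∈ zpowers (⟨_, hmem x (mem_sup_left (mem_zpowers x))⟩ : (P : Subgroup G)) ↔ w ∈ zpowers x) := by
        intro z w hzw
        simp only [mem_zpowers_iff, Subtype.ext_iff, Subgroup.coe_zpow, conj_zpow, hzw, mul_left_inj, mul_right_inj]
      rw [mem_normalizer_iff]
      intro z
      rw [hfin z (s⁻¹ * z * s) (by group),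
        hfin _ (g ^ m * (s⁻¹ * z * s) * (g ^ m)⁻¹) (by simp only [Subgroup.coe_mul, Subgroup.coe_inv]; group)]
      exact mem_normalizer_iff.mp hgm _
    have h6 : Commute (g ^ m) x := by
      have := congrArg Subtype.val h5.eq
      simp only [Subgroup.coe_mul] at this
      calc g ^ m * x = s⁻¹ * ((s * g ^ m * s⁻¹) * (s * x * s⁻¹)) * s := by group
        _ = s⁻¹ * ((s * x * s⁻¹) * (s * g ^ m * s⁻¹)) * s := by rw [this]
        _ = x * g ^ m := by group
    have h7 : Commute (g ^ 2 ^ k) x := mul_inv_eq_iff_eq_mul.mp hg2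
    obtain ⟨u, v, huv⟩ := Nat.isCoprime_iff_coprime.mpr
      (Nat.Coprime.pow_left k (Nat.prime_two.coprime_iff_not_dvd.mpr hm))
    have h8 := ((h7.zpow_left u).mul_left (h6.zpow_left v))
    rwa [← zpow_natCast g (2 ^ k), ← zpow_natCast g m, ← zpow_mul, ← zpow_mul, ← zpow_add, mul_comm _ u, mul_comm _ v,
      huv, zpow_one] at h8

end Cfsg.Agent.S4028
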