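import Cfsg.Statements.S4029
import Cfsg.Agent.Lib.Char.PermLemma
import Cfsg.Agent.Lib.Char.Linear
import Cfsg.Agent.Lib.PGroup.Basic
-- import your own Cfsg.Agent.* helpers here

set_option autoImplicit false
open Cfsg

namespace Cfsg.Agent.S4029

/-- Real classes of a group in which only involutions are inverted. -/
theorem card_real_le {P : Type*} [Group P] [Finite P]
    (hirr : ∀ y : P, Subgroup.normalizer ((Subgroup.zpowers y : Subgroup P) : Set P) ≤ Subgroup.centralizer {y}) :
    Nat.card {C : ConjClasses P // ∀ g : P, ConjClasses.mk g = C → IsConj g g⁻¹} ≤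
      Nat.card {c : ConjClasses P // ∃ y : P, ConjClasses.mk y = c ∧ orderOf y = 2} + 1 := by
  classical
  haveI : Finite (ConjClasses P) := Quotient.finite _
  have key : ∀ g : P, IsConj g g⁻¹ → g = 1 ∨ orderOf g = 2 := by
    intro g hg
    obtain ⟨c, hc⟩ := isConj_iff.1 hg
    have hcN : c ∈ Subgroup.normalizer ((Subgroup.zpowers g : Subgroup P) : Set P) := by
      refine Subgroup.mem_normalizer_iff.2 fun h => ?_
      constructor
      · intro hh
        obtain ⟨i, rfl⟩ := Subgroup.mem_zpowers_iff.1 hh
        rw [← conj_zpow, hc]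
        exact zpow_mem (inv_mem (Subgroup.mem_zpowers g)) i
      · intro hh
        obtain ⟨i, hi⟩ := Subgroup.mem_zpowers_iff.1 hh
        refine Subgroup.mem_zpowers_iff.2 ⟨-i, ?_⟩
        have : c * g ^ (-i) * c⁻¹ = c * h * c⁻¹ := by
          rw [← conj_zpow, hc, inv_zpow, zpow_neg, inv_inv, hi]
        exact mul_left_cancel (mul_right_cancel this)
    have hcg := Subgroup.mem_centralizer_singleton_iff.1 (hirr g hcN)
    have hinv : g⁻¹ = g := by rw [← hc, hcg]; group
    by_cases h1 : g = 1
    · exact Or.inl h1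
    · refine Or.inr (orderOf_eq_prime ?_ h1)
      rw [sq]
      nth_rewrite 1 [← hinv]
      exact inv_mul_cancel g
  refine le_trans (Nat.card_le_card_of_injective (β := Option {c : ConjClasses P // ∃ y : P, ConjClasses.mk y = c ∧ orderOf y = 2})
    (fun C => if h : ∃ y : P, ConjClasses.mk y = C.1 ∧ orderOf y = 2 then some ⟨C.1, h⟩ else none) ?_)
    (by rw [Finite.card_option])
  intro C D h
  dsimp only at h
  split_ifs at h with hC hD
  · simp only [Option.some.injEq, Subtype.mk.injEq] at h; exact Subtype.ext h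
  · have h1 : ∀ (C : {C : ConjClasses P // ∀ g : P, ConjClasses.mk g = C → IsConj g g⁻¹}),
        (¬ ∃ y : P, ConjClasses.mk y = C.1 ∧ orderOf y = 2) → C.1 = ConjClasses.mk 1 := by
      intro C hC
      obtain ⟨g, hg⟩ := ConjClasses.exists_rep C.1
      rcases key g (C.2 g hg) with rfl | h2
      · exact hg.symm
      · exact absurd ⟨g, hg, h2⟩ hC
    exact Subtype.ext ((h1 C hC).trans (h1 D (by assumption)).symm)

/-- Let P be a finite 2-group in which N_P(⟨y⟩) = C_P(y) for every y ∈ P. If s is the number of conjugacy classes of involutions of P, then #(P/Φ(P)) ≤ s + 1; in particular the subgroup generated by the involutions of P has order at least #(P/Φ(P)). -/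
theorem result {P : Type*} [Group P] [Finite P] (hP : IsPGroup 2 P)
    (hirr : ∀ y : P, Subgroup.normalizer ((Subgroup.zpowers y : Subgroup P) : Set P) ≤ Subgroup.centralizer {y}) :
    Nat.card (P ⧸ frattini P) ≤ Nat.card {c : ConjClasses P // ∃ y : P, ConjClasses.mk y = c ∧ orderOf y = 2} + 1 ∧
    Nat.card (P ⧸ frattini P) ≤ Nat.card (Subgroup.closure {y : P | orderOf y = 2}) := by
  classical
  haveI : Fact (Nat.Prime 2) := ⟨Nat.prime_two⟩
  haveI : Finite (ConjClasses P) := Quotient.finite _
  haveI := Fintype.ofFinite P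
  have hreal := card_real_le hirr
  rw [← Cfsg.Lib.Char.card_real_irr] at hreal
  have hcomm : commutator (P ⧸ frattini P) = ⊥ := by
    rw [_root_.commutator_def, eq_bot_iff, Subgroup.commutator_le]
    intro a _ b _
    have h := (Cfsg.Lib.PGroup.isElementaryAbelian_quotient_frattini (p := 2) hP).1
    rw [Subgroup.mem_bot, commutatorElement_eq_one_iff_mul_comm]
    exact congrArg Subtype.val (h.is_comm.comm ⟨a, Subgroup.mem_top a⟩ ⟨b, Subgroup.mem_top b⟩)
  have hlin : Nat.card ((P ⧸ frattini P) →* ℂˣ) = Nat.card (P ⧸ frattini P) := by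
    rw [Cfsg.Lib.Char.card_linear_eq_index, hcomm, Subgroup.index_bot]
  have h1 : Nat.card (P ⧸ frattini P) ≤
      Nat.card {c : ConjClasses P // ∃ y : P, ConjClasses.mk y = c ∧ orderOf y = 2} + 1 := by
    rw [← hlin]
    refine le_trans (Nat.card_le_card_of_injective (fun f => (⟨⟨fun g => ((f.comp (QuotientGroup.mk' (frattini P)) g : ℂˣ) : ℂ),
      Cfsg.Lib.Char.isIrrCharacter_linear _⟩, ?_⟩ : {χ : IrrCharacter P // ∀ g : P, ((χ : P → ℂ) g).im = 0})) ?_) hreal
    · intro g
      have h2 : ((f.comp (QuotientGroup.mk' (frattini P)) g : ℂˣ) : ℂ) ^ 2 = 1 := by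
        rw [← Units.val_pow_eq_pow_val, ← map_pow, MonoidHom.comp_apply,
          show QuotientGroup.mk' (frattini P) (g ^ 2) = 1 from
            (QuotientGroup.eq_one_iff _).2 (Cfsg.Lib.PGroup.pow_mem_frattini (p := 2) hP g),
          map_one, Units.val_one]
      rcases sq_eq_one_iff.1 h2 with e | e <;> simp only at e ⊢ <;> rw [e] <;> simp
    · intro f f' e
      have e' := congrArg Subtype.val (congrArg Subtype.val e)
      refine MonoidHom.ext fun x => ?_
      obtain ⟨g, rfl⟩ := QuotientGroup.mk_surjective x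
      exact Units.ext (congrFun e' g)
  refine ⟨h1, h1.trans ?_⟩
  rw [← Finite.card_option]
  refine Nat.card_le_card_of_injective (fun o => (match o with
    | none => ⟨1, one_mem _⟩
    | some c => ⟨c.2.choose, Subgroup.subset_closure c.2.choose_spec.2⟩ : Subgroup.closure {y : P | orderOf y = 2})) ?_
  rintro (_ | c) (_ | d) h <;> dsimp only at h
  · rfl
  · have h2 := d.2.choose_spec.2
    have h' : (1 : P) = d.2.choose := congrArg Subtype.val h
    rw [← h', orderOf_one] at h2
    exact absurd h2 (by norm_num)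
  · have h2 := c.2.choose_spec.2
    have h' : c.2.choose = (1 : P) := congrArg Subtype.val h
    rw [h', orderOf_one] at h2
    exact absurd h2 (by norm_num)
  · refine congrArg some (Subtype.ext ?_)
    rw [← c.2.choose_spec.1, ← d.2.choose_spec.1]
    exact congrArg ConjClasses.mk (congrArg Subtype.val h)

end Cfsg.Agent.S4029
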