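import Cfsg.Statements.S4032
import Cfsg.Agent.Lib.Coprime.Conjugacy
-- import your own Cfsg.Agent.* helpers here

set_option autoImplicit false
open Cfsg

namespace Cfsg.Agent.S4032


/-- Let π be a set of primes and G a finite group in which N_G(⟨x⟩) = C_G(x) for every π-element x. If N is a normal subgroup of G whose order is divisible by no prime of π, then G/N has the same property: N_{G/N}(⟨y⟩) = C_{G/N}(y) for every π-element y of G/N. -/
theorem result {G : Type*} [Group G] [Finite G] (π : Set ℕ)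
    (hirr : ∀ x : G, (∀ r : ℕ, r.Prime → r ∣ orderOf x → r ∈ π) →
      Subgroup.normalizer ((Subgroup.zpowers x : Subgroup G) : Set G) ≤ Subgroup.centralizer {x})
    (N : Subgroup G) [N.Normal] (hN : ∀ r : ℕ, r.Prime → r ∣ Nat.card N → r ∉ π) :
    ∀ y : G ⧸ N, (∀ r : ℕ, r.Prime → r ∣ orderOf y → r ∈ π) →
      Subgroup.normalizer ((Subgroup.zpowers y : Subgroup (G ⧸ N)) : Set (G ⧸ N)) ≤ Subgroup.centralizer {y} := by
  classical
  intro y hy g hg
  obtain ⟨x0, rfl⟩ := QuotientGroup.mk'_surjective N y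
  obtain ⟨g0, rfl⟩ := QuotientGroup.mk'_surjective N g
  have hcop : (Nat.card N).Coprime (orderOf (QuotientGroup.mk' N x0)) :=
    Nat.coprime_of_dvd fun r hr h1 h2 => hN r hr h1 (hy r hr h2)
  obtain ⟨m, hm⟩ := exists_pow_eq_self_of_coprime hcop
  obtain ⟨x, hx⟩ : ∃ x : G, x = (x0 ^ Nat.card N) ^ m := ⟨_, rfl⟩
  have hfx : QuotientGroup.mk' N x = QuotientGroup.mk' N x0 := by
    rw [hx, map_pow, map_pow, hm]
  have hord : orderOf x = orderOf (QuotientGroup.mk' N x0) := by
    refine Nat.dvd_antisymm (orderOf_dvd_of_pow_eq_one ?_) (hfx ▸ orderOf_map_dvd _ x)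
    have h1 : x0 ^ orderOf (QuotientGroup.mk' N x0) ∈ N := by
      rw [← QuotientGroup.eq_one_iff, QuotientGroup.mk_pow]
      exact pow_orderOf_eq_one _
    have h2 : (x0 ^ orderOf (QuotientGroup.mk' N x0)) ^ Nat.card N = 1 :=
      congrArg Subtype.val (pow_card_eq_one' (x := (⟨_, h1⟩ : N)))
    rw [hx, pow_right_comm, pow_right_comm _ (Nat.card N), h2, one_pow]
  rw [← hfx] at hg ⊢
  let A := Subgroup.zpowers x
  let B := A.map (MulAut.conj g0).toMonoidHom
  have hB : B ≤ N ⊔ A := by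
    rintro _ ⟨a, ha, rfl⟩
    have h1 : QuotientGroup.mk' N (g0 * a * g0⁻¹) ∈ Subgroup.zpowers (QuotientGroup.mk' N x) := by
      obtain ⟨i, rfl⟩ := Subgroup.mem_zpowers_iff.mp ha
      rw [map_mul, map_mul, map_inv, map_zpow]
      exact (Subgroup.mem_normalizer_iff.mp hg _).mp (Subgroup.zpow_mem_zpowers _ i)
    rw [← MonoidHom.map_zpowers] at h1
    obtain ⟨b, hb, hbe⟩ := h1
    rw [QuotientGroup.mk'_eq_mk'] at hbe
    obtain ⟨z, hz, hze⟩ := hbe
    simp only [MulEquiv.coe_toMonoidHom, MulAut.conj_apply]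
    rw [← hze]
    exact mul_mem (Subgroup.mem_sup_right hb) (Subgroup.mem_sup_left hz)
  obtain ⟨n, hn, hBn⟩ := Cfsg.Lib.Coprime.exists_conj_of_coprime N A B
    Subgroup.le_normalizer_of_normal
    (by rw [Nat.card_zpowers, hord]; exact hcop.symm) (Or.inl inferInstance) hB
    (Cfsg.Lib.Coprime.card_map_conj _ _)
  have hxπ : ∀ r : ℕ, r.Prime → r ∣ orderOf x → r ∈ π := hord ▸ hy
  have hc : n⁻¹ * g0 ∈ Subgroup.centralizer ({x} : Set G) := by
    apply hirr x hxπ
    rw [Subgroup.mem_normalizer_iff_map_conj_eq]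
    change A.map (MulAut.conj (n⁻¹ * g0)).toMonoidHom = A
    rw [← Cfsg.Lib.Coprime.map_conj_conj]
    change B.map _ = A
    rw [hBn, Cfsg.Lib.Coprime.map_conj_conj, inv_mul_cancel, Cfsg.Lib.Coprime.map_conj_one]
  rw [Subgroup.mem_centralizer_iff] at hc ⊢
  intro z hz
  rw [Set.mem_singleton_iff] at hz
  subst hz
  have h := congrArg (QuotientGroup.mk' N) (hc x rfl)
  have hn1 : QuotientGroup.mk' N (n⁻¹ * g0) = QuotientGroup.mk' N g0 := by
    rw [map_mul, map_inv, show QuotientGroup.mk' N n = 1 from (QuotientGroup.eq_one_iff n).mpr hn,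
      inv_one, one_mul]
  rwa [map_mul, map_mul _ _ x, hn1] at h

end Cfsg.Agent.S4032
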