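import Cfsg.Statements.S4036
import Mathlib.Tactic.Group
import Mathlib.GroupTheory.Nilpotent
import Mathlib.GroupTheory.SchurZassenhaus
-- import your own Cfsg.Agent.* helpers here

set_option autoImplicit false
open Cfsg

namespace Cfsg.Agent.S4036

open Subgroup

/-- Let P be a finite abelian p-group and K a group of automorphisms of P (a subgroup of Aut P) whose order is divisible by p. If all non-identity elements of K have the same fixed-point subgroup on P, then K has no non-trivial normal subgroup of order prime to p. -/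
theorem result {P : Type*} [CommGroup P] [Finite P] {p : ℕ}
    [Fact p.Prime] (hP : IsPGroup p P) (K : Subgroup (MulAut P)) (hK : p ∣ Nat.card K)
    (hfix : ∀ x y : MulAut P, x ∈ K → y ∈ K → x ≠ 1 → y ≠ 1 → ∀ v : P, x v = v ↔ y v = v) :
    ∀ N : Subgroup ↥K, N.Normal → ¬ p ∣ Nat.card N → N = ⊥ := by
  classical
  intro N hN hpN
  by_contra hne
  obtain ⟨n₀, hn₀, hn₁⟩ := N.bot_or_exists_ne_one.resolve_left hne
  obtain ⟨u, hu⟩ := exists_prime_orderOf_dvd_card' p hK
  have hu1 : u ≠ 1 := fun h => by rw [h, orderOf_one] at hu; exact (Fact.out : p.Prime).one_lt.ne hu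
  let _ : Fintype N := Fintype.ofFinite N
  let θ : P →* P := ∏ n : N, ((n : K) : MulAut P).toMonoidHom
  have hθ : ∀ v, θ v = ∏ n : N, ((n : K) : MulAut P) v := fun v => MonoidHom.finsetProd_apply _ _ _
  have hθN : ∀ (m : N) v, θ (((m : K) : MulAut P) v) = θ v := fun m v => by
    rw [hθ, hθ]
    exact Fintype.prod_equiv (Equiv.mulRight m) _ _ fun n => rfl
  have hθu : ∀ v, θ ((u : MulAut P) v) = (u : MulAut P) (θ v) := fun v => by
    rw [hθ, hθ, map_prod]
    refine Fintype.prod_equiv
      { toFun := fun n : N => ⟨u⁻¹ * n * u, by simpa using hN.conj_mem n n.2 u⁻¹⟩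
        invFun := fun n : N => ⟨u * n * u⁻¹, hN.conj_mem n n.2 u⟩
        left_inv := fun n => Subtype.ext (by simp [mul_assoc])
        right_inv := fun n => Subtype.ext (by simp [mul_assoc]) } _ _ fun n => ?_
    show ((n : K) : MulAut P) ((u : MulAut P) v) = (u : MulAut P) (((u⁻¹ * n * u : K) : MulAut P) v)
    simp [MulAut.mul_apply]
  obtain ⟨v₀, hv₀⟩ : ∃ v, ((n₀ : K) : MulAut P) v ≠ v := by
    by_contra h
    push Not at h
    exact hn₁ (Subtype.ext (MulEquiv.ext h))
  have hW : ((n₀ : K) : MulAut P) v₀ * v₀⁻¹ ∈ θ.ker := by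
    rw [MonoidHom.mem_ker, map_mul, map_inv, hθN ⟨n₀, hn₀⟩, mul_inv_cancel]
  have hcom : ∀ k ∈ zpowers u, ∀ v, θ ((k : MulAut P) v) = (k : MulAut P) (θ v) := by
    intro k hk
    obtain ⟨i, hi⟩ := (isOfFinOrder_of_finite u).mem_powers_iff_mem_zpowers.mpr hk
    simp only at hi
    subst hi
    clear hk
    induction i with
    | zero => intro v; simp
    | succ j ih =>
      intro v
      rw [pow_succ', Subgroup.coe_mul, MulAut.mul_apply, MulAut.mul_apply, hθu, ih]
  let _ : MulAction (zpowers u) θ.ker :=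
    { smul := fun k w => ⟨((k : K) : MulAut P) w, by
        rw [MonoidHom.mem_ker, hcom k k.2, show θ w = 1 from w.2, map_one]⟩
      one_smul := fun w => rfl
      mul_smul := fun a b w => rfl }
  have hzu : IsPGroup p (zpowers u) := IsPGroup.of_card (n := 1) (by rw [Nat.card_zpowers, hu, pow_one])
  have hpW : p ∣ Nat.card θ.ker := by
    have : Nontrivial θ.ker := ⟨⟨_, hW⟩, 1, fun h => hv₀ (mul_inv_eq_one.mp (congrArg Subtype.val h))⟩
    obtain ⟨k, hk⟩ := IsPGroup.iff_card.mp (hP.to_subgroup θ.ker)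
    have := Finite.one_lt_card (α := θ.ker)
    rcases Nat.eq_zero_or_pos k with h0 | h0
    · rw [h0, pow_zero] at hk; omega
    · exact hk ▸ dvd_pow_self p h0.ne'
  obtain ⟨w, hw, hw1⟩ := hzu.exists_fixed_point_of_prime_dvd_card_of_fixed_point θ.ker hpW (a := 1)
    (fun k => Subtype.ext (map_one ((k : K) : MulAut P)))
  have hfw : (u : MulAut P) w = (w : P) := congrArg Subtype.val (hw ⟨u, mem_zpowers u⟩)
  have hNw : ∀ n : N, ((n : K) : MulAut P) w = (w : P) := fun n => by
    rcases eq_or_ne n 1 with rfl | hn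
    · rfl
    · exact (hfix (u : MulAut P) ((n : K) : MulAut P) u.2 (n : K).2 (fun h => hu1 (Subtype.ext h))
        (fun h => hn (Subtype.ext (Subtype.ext h))) w).mp hfw
  have h1 : (w : P) ^ Nat.card N = 1 := by
    have h2 : θ w = 1 := w.2
    rw [hθ, Finset.prod_congr rfl (fun n _ => hNw n), Finset.prod_const, Finset.card_univ,
      ← Nat.card_eq_fintype_card] at h2
    exact h2
  refine hw1 (Subtype.ext ?_)
  symm
  obtain ⟨k, hk⟩ := IsPGroup.iff_orderOf.mp hP (w : P)
  refine orderOf_eq_one_iff.mp (Nat.eq_one_of_dvd_coprimes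
    (Nat.Coprime.pow_left k ((Fact.out : p.Prime).coprime_iff_not_dvd.mpr hpN)) hk.dvd (orderOf_dvd_of_pow_eq_one h1))

end Cfsg.Agent.S4036
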