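import Cfsg.Statements.S4039
import Cfsg.Agent.Lib.Thompson.NormalComplement
import Cfsg.Agent.Lib.Thompson.FixedPointFree
import Cfsg.Agent.Lib.Coprime.Action
import Cfsg.Agent.Lib.PGroup.ClassTwo
import Cfsg.Agent.Lib.PGroup.Elements
import Cfsg.Agent.Lib.Fusion.Alperin
import Cfsg.Agent.Lib.Core.Smul
-- import your own Cfsg.Agent.* helpers here

set_option autoImplicit false
open Cfsg

namespace Cfsg.Agent.S4039

open Subgroup Cfsg.Lib.Thompson Cfsg.Lib.Fusion
open scoped Pointwise commutatorElement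

universe u

variable {G : Type u} [Group G] [Finite G]

/-- The normalizer of a nontrivial subgroup of a core-free maximal subgroup. -/
theorem normalizer_eq {M : Subgroup G} (hmax : IsCoatom M) (hcore : M.normalCore = ⊥) {U : Subgroup G}
    (hUM : U ≤ M) (hU : U ≠ ⊥) (hM : M ≤ normalizer (U : Set G)) : normalizer (U : Set G) = M := by
  rcases eq_or_lt_of_le hM with h | h
  · exact h.symm
  exfalso
  have hn : U.Normal := normalizer_eq_top_iff.1 (hmax.2 _ h)
  exact hU (le_bot_iff.1 (((normal_le_normalCore (N := U)).2 hUM).trans hcore.le))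

/-- The Sylow subgroup of the maximal subgroup, as a Sylow subgroup of the group. -/
theorem exists_sylow {M : Subgroup G} (hmax : IsCoatom M) (hcore : M.normalCore = ⊥)
    (hnil : Group.IsNilpotent M) {q : ℕ} [hq : Fact q.Prime] (hqM : q ∣ Nat.card M) :
    ∃ P : Sylow q G, (P : Subgroup G) ≤ M ∧ M ≤ normalizer ((P : Subgroup G) : Set G) ∧
      (P : Subgroup G) ≠ ⊥ := by
  haveI := hnil
  obtain ⟨S⟩ : Nonempty (Sylow q M) := inferInstance
  have hSn : (S : Subgroup M).Normal :=
    Sylow.normal_of_normalizerCondition Group.normalizerCondition_of_isNilpotent S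
  set P := (S : Subgroup M).map M.subtype with hP
  have hPM : P ≤ M := map_subtype_le _
  have hMN : M ≤ normalizer (P : Set G) := by
    have h : (P.subgroupOf M).Normal := by
      rw [hP, subgroupOf, comap_map_eq_self_of_injective M.subtype_injective]; exact hSn
    exact (normal_subgroupOf_iff_le_normalizer hPM).1 h
  have hPne : P ≠ ⊥ := by
    rw [hP, Ne, map_eq_bot_iff_of_injective _ M.subtype_injective]
    exact S.ne_bot_of_dvd_card hqM
  have hN := normalizer_eq hmax hcore hPM hPne hMN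
  obtain ⟨Q, hQ⟩ := (S.2.map M.subtype : IsPGroup q P).exists_le_sylow
  have hQP : (Q : Subgroup G) = P := by
    rcases eq_or_lt_of_le hQ with h | h
    · exact h.symm
    exfalso
    have h1 := lt_inf_normalizer (Q.2 : IsPGroup q (Q : Subgroup G)) h
    rw [hN] at h1
    have h2 : ((Q : Subgroup G) ⊓ M).subgroupOf M = (S : Subgroup M) := by
      refine S.is_maximal' (Q.2.to_inf_left.comap_subtype) fun y hy => ?_
      exact ⟨hQ ⟨y, hy, rfl⟩, y.2⟩
    refine h1.not_ge ?_
    intro y hy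
    exact ⟨⟨y, hy.2⟩, h2 ▸ (hy : (⟨y, hy.2⟩ : M) ∈ ((Q : Subgroup G) ⊓ M).subgroupOf M), rfl⟩
  exact ⟨Q, hQP ▸ hPM, hQP ▸ hMN, hQP ▸ hPne⟩

theorem npc_odd {M : Subgroup G} (hmax : IsCoatom M) (hcore : M.normalCore = ⊥)
    (hnil : Group.IsNilpotent M) {q : ℕ} [hq : Fact q.Prime] (hq2 : q ≠ 2) (hqM : q ∣ Nat.card M) :
    HasNormalPComplement q G := by
  haveI := hnil
  obtain ⟨P, hPM, hMN, hPne⟩ := exists_sylow hmax hcore hnil hqM
  have hMnpc : HasNormalPComplement q M := hasNormalPComplement_of_isNilpotent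
  have hqP : q ∣ Nat.card (P : Subgroup G) := by
    obtain ⟨k, hk⟩ := P.2.exists_card_eq
    rcases k with _ | k
    · exact absurd (Subgroup.eq_bot_of_card_eq _ (by rw [hk, pow_zero])) hPne
    · rw [hk]; exact dvd_pow_self q (Nat.succ_ne_zero k)
  refine thompson_normal_p_complement hq2 P ⟨?_, ?_⟩
  · have h := normalizer_eq hmax hcore ((thompsonSubgroupOf_le (p := q) (P : Subgroup G)).trans hPM)
      (fun e => thompson_ne_bot (G := (P : Subgroup G)) hqP
        ((map_eq_bot_iff_of_injective _ (P : Subgroup G).subtype_injective).1 e))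
      (hMN.trans (normalizer_le_normalizer_thompsonSubgroupOf _))
    exact hasNormalPComplement_of_le h.le hMnpc
  · have hz : zenter (P : Subgroup G) ≠ ⊥ := by
      show (P : Subgroup G) ⊓ centralizer ((P : Subgroup G) : Set G) ≠ ⊥
      rw [← Cfsg.Lib.Core.center_map_eq_inf_centralizer, Ne,
        map_eq_bot_iff_of_injective _ (P : Subgroup G).subtype_injective]
      have : Nontrivial (P : Subgroup G) := (Subgroup.nontrivial_iff_ne_bot _).2 hPne
      intro hb
      have h2 := P.2.bot_lt_center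
      rw [hb] at h2
      exact lt_irrefl _ h2
    have h := normalizer_eq hmax hcore (inf_le_left.trans hPM) hz
      (hMN.trans (normalizer_le_normalizer_zenter _))
    exact hasNormalPComplement_of_le ((centralizer_le_normalizer _).trans h.le) hMnpc

theorem npc_two {M : Subgroup G} (hmax : IsCoatom M) (hcore : M.normalCore = ⊥)
    [Group.IsNilpotent M] (hcl : Group.nilpotencyClass ↥M ≤ 2) [Fact (Nat.Prime 2)]
    (h2M : 2 ∣ Nat.card M) : HasNormalPComplement 2 G := by
  obtain ⟨P, hPM, hMN, hPne⟩ := exists_sylow hmax hcore inferInstance h2M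
  refine (frobenius P).2 fun U hU g hg hgodd => ?_
  set C := centralizer (U : Set G) with hC
  obtain ⟨S⟩ : Nonempty (Sylow 2 C) := inferInstance
  set S' := (S : Subgroup C).map C.subtype with hS'
  have hS'C : S' ≤ C := map_subtype_le _
  have hUS : U ≤ normalizer (S' : Set G) :=
    (le_centralizer_iff.1 hS'C).trans (centralizer_le_normalizer _)
  obtain ⟨R, hR⟩ := ((isPGroup_le_sylow hU).to_sup_of_normal_right' (S.2.map C.subtype) hUS :
    IsPGroup 2 ↥(U ⊔ S')).exists_le_sylow
  obtain ⟨c, rfl⟩ := MulAction.exists_smul_eq G P R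
  have hmem : ∀ x : G, x ∈ ((c • P : Sylow 2 G) : Subgroup G) ↔ c⁻¹ * x * c ∈ (P : Subgroup G) := by
    intro x
    rw [Sylow.coe_subgroup_smul]
    exact Cfsg.Lib.Core.mem_conj_smul
  -- the centre of the overlying Sylow subgroup lies in `S`
  have hZ : ∀ z ∈ (P : Subgroup G), (∀ y ∈ (P : Subgroup G), y * z = z * y) → c * z * c⁻¹ ∈ S' := by
    intro z hz hzc
    have hzR : ∀ y ∈ ((c • P : Sylow 2 G) : Subgroup G), y * (c * z * c⁻¹) = c * z * c⁻¹ * y := by
      intro y hy
      have h1 := hzc _ ((hmem y).1 hy)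
      calc y * (c * z * c⁻¹) = c * (c⁻¹ * y * c * z) * c⁻¹ := by group
        _ = c * (z * (c⁻¹ * y * c)) * c⁻¹ := by rw [h1]
        _ = c * z * c⁻¹ * y := by group
    have hzC : c * z * c⁻¹ ∈ C := mem_centralizer_iff.2 fun y hy =>
      hzR y (hR ((le_sup_left : U ≤ U ⊔ S') hy))
    have hle : (S : Subgroup C) ≤ (((c • P : Sylow 2 G) : Subgroup G) ⊓ C).subgroupOf C := fun y hy =>
      ⟨hR ((le_sup_right : S' ≤ U ⊔ S') ⟨y, hy, rfl⟩), y.2⟩
    have heq := S.is_maximal' ((c • P).2.to_inf_left.comap_subtype) hle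
    have hin : (⟨c * z * c⁻¹, hzC⟩ : C) ∈ (((c • P : Sylow 2 G) : Subgroup G) ⊓ C).subgroupOf C :=
      ⟨(hmem _).2 (by simpa [mul_assoc] using hz), hzC⟩
    exact ⟨_, heq.le hin, rfl⟩
  set T := S'.map (MulAut.conj c⁻¹).toMonoidHom with hT
  have hmemT : ∀ x, x ∈ T ↔ c * x * c⁻¹ ∈ S' := by
    intro x
    constructor
    · rintro ⟨y, hy, rfl⟩
      simpa [mul_assoc] using hy
    · exact fun h => ⟨_, h, by simp [mul_assoc]⟩
  have hTP : T ≤ (P : Subgroup G) := by
    intro x hx
    have h1 := (hmem _).1 (hR ((le_sup_right : S' ≤ U ⊔ S') ((hmemT x).1 hx)))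
    simpa [mul_assoc] using h1
  have hMT : M ≤ normalizer (T : Set G) := by
    have hc2 := Cfsg.Lib.PGroup.commutator_le_center_of_nilpotencyClass_le hcl
    refine (normal_subgroupOf_iff_le_normalizer (hTP.trans hPM)).1 ⟨fun t ht m => ?_⟩
    have hcomm : ⁅m, t⁆ ∈ T.subgroupOf M := by
      have hP' : (⁅m, t⁆ : M).1 ∈ (P : Subgroup G) := by
        show (m : G) * t * (m : G)⁻¹ * (t : G)⁻¹ ∈ (P : Subgroup G)
        exact mul_mem ((mem_normalizer_iff.1 (hMN m.2) _).1 (hTP ht)) (inv_mem (hTP ht))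
      refine (hmemT _).2 (hZ _ hP' fun y hy => ?_)
      exact congrArg Subtype.val (mem_center_iff.1 (hc2 (commutator_mem_commutator (mem_top m) (mem_top t)))
        ⟨y, hPM hy⟩)
    rw [show m * t * m⁻¹ = ⁅m, t⁆ * t by simp [commutatorElement_def, mul_assoc]]
    exact mul_mem hcomm ht
  have hTne : T ≠ ⊥ := by
    have : Nontrivial (P : Subgroup G) := (Subgroup.nontrivial_iff_ne_bot _).2 hPne
    obtain ⟨z, hz, hz1⟩ := (Subgroup.center (P : Subgroup G)).bot_or_exists_ne_one.resolve_left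
      (fun hb => by
        have h2 := P.2.bot_lt_center
        rw [hb] at h2
        exact lt_irrefl _ h2)
    intro hT0
    refine hz1 (Subtype.ext (mem_bot.1 (hT0 ▸ (hmemT (z : G)).2 ?_)))
    exact hZ _ z.2 fun y hy => congrArg Subtype.val (mem_center_iff.1 hz ⟨y, hy⟩)
  have hNT := normalizer_eq hmax hcore (hTP.trans hPM) hTne hMT
  -- Frattini
  have hgC : ∀ x, x ∈ C ↔ g * x * g⁻¹ ∈ C := by
    have h1 : ∀ w ∈ normalizer (U : Set G), ∀ x ∈ C, w * x * w⁻¹ ∈ C := by
      intro w hw x hx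
      refine mem_centralizer_iff.2 fun y hy => ?_
      have hy' : w⁻¹ * y * w ∈ U := by
        have := (mem_normalizer_iff.1 (inv_mem hw) y).1 hy
        rwa [inv_inv] at this
      have h1 := mem_centralizer_iff.1 hx _ hy'
      calc y * (w * x * w⁻¹) = w * (w⁻¹ * y * w * x) * w⁻¹ := by group
        _ = w * (x * (w⁻¹ * y * w)) * w⁻¹ := by rw [h1]
        _ = w * x * w⁻¹ * y := by group
    refine fun x => ⟨h1 g hg x, fun h => ?_⟩
    have := h1 _ (inv_mem hg) _ h
    simpa [mul_assoc] using this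
  let α : C ≃* C :=
    { toFun := fun x => ⟨g * x * g⁻¹, (hgC x).1 x.2⟩
      invFun := fun x => ⟨g⁻¹ * x * g, (hgC _).2 (by simpa [mul_assoc] using x.2)⟩
      left_inv := fun x => Subtype.ext (by simp [mul_assoc])
      right_inv := fun x => Subtype.ext (by simp [mul_assoc])
      map_mul' := fun x y => Subtype.ext (by simp [mul_assoc]) }
  have hαs : Function.Surjective α.toMonoidHom := α.surjective
  obtain ⟨a, ha⟩ := MulAction.exists_smul_eq C (S.mapSurjective hαs) S
  have hS2 : ∀ x ∈ S', (a : G) * g * x * ((a : G) * g)⁻¹ ∈ S' := by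
    rintro _ ⟨y, hy, rfl⟩
    refine ⟨a * α y * a⁻¹, ?_, ?_⟩
    · have h1 : a * α y * a⁻¹ ∈ ((a • S.mapSurjective hαs : Sylow 2 C) : Subgroup C) := by
        rw [Sylow.coe_subgroup_smul]
        refine Cfsg.Lib.Core.mem_conj_smul.2 ?_
        rw [show a⁻¹ * (a * α y * a⁻¹) * a = α y by group, Sylow.coe_mapSurjective]
        exact ⟨y, hy, rfl⟩
      rw [ha] at h1
      exact h1
    · show (a : G) * (g * (y : G) * g⁻¹) * (a : G)⁻¹ = (a : G) * g * (y : G) * ((a : G) * g)⁻¹
      group
  have hm : c⁻¹ * ((a : G) * g) * c ∈ M := by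
    rw [← hNT]
    refine le_normalizer_of_conj_mem fun x hx => (hmemT _).2 ?_
    have h1 := hS2 _ ((hmemT x).1 hx)
    convert h1 using 1
    group
  set m : M := ⟨c⁻¹ * ((a : G) * g) * c, hm⟩ with hmdef
  set k := (orderOf m).factorization 2 with hk
  set φ := U.normalizerMonoidHom with hφ
  have hag : (a : G) * g ∈ normalizer (U : Set G) := mul_mem (centralizer_le_normalizer _ a.2) hg
  have hker : ∀ w : normalizer (U : Set G), (w : G) ∈ C → φ w = 1 := fun w hw => by
    rw [← MonoidHom.mem_ker, hφ, Subgroup.normalizerMonoidHom_ker]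
    exact hw
  have h1 : φ ⟨g, hg⟩ = φ ⟨(a : G) * g, hag⟩ := by
    rw [show (⟨(a : G) * g, hag⟩ : normalizer (U : Set G)) =
      ⟨a, centralizer_le_normalizer _ a.2⟩ * ⟨g, hg⟩ from rfl, map_mul, hker ⟨(a : G), centralizer_le_normalizer _ a.2⟩ a.2, one_mul]
  have h2 : φ ⟨g, hg⟩ ^ 2 ^ k = 1 := by
    rw [h1, ← map_pow]
    refine hker _ (mem_centralizer_iff.2 fun u hu => ?_)
    have huM : c⁻¹ * u * c ∈ (P : Subgroup G) :=
      (hmem u).1 (hR ((le_sup_left : U ≤ U ⊔ S') hu))
    set v : M := ⟨c⁻¹ * u * c, hPM huM⟩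
    have hcop : (orderOf v).Coprime (orderOf (m ^ 2 ^ k)) := by
      obtain ⟨j, hj⟩ := (IsPGroup.iff_orderOf.1 P.2) ⟨c⁻¹ * u * c, huM⟩
      have hv : orderOf v = 2 ^ j := by
        rw [← hj, ← Subgroup.orderOf_coe v, ← Subgroup.orderOf_coe]
      rw [hv, orderOf_pow, Nat.gcd_eq_right (Nat.ordProj_dvd _ 2)]
      exact Nat.Coprime.pow_left _ (Nat.coprime_ordCompl Nat.prime_two (orderOf_pos m).ne')
    have h3 := congrArg Subtype.val (Cfsg.Lib.PGroup.commute_of_coprime_orderOf v (m ^ 2 ^ k) hcop).eq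
    have h3' : c⁻¹ * u * c * (c⁻¹ * ((a : G) * g) * c) ^ 2 ^ k =
        (c⁻¹ * ((a : G) * g) * c) ^ 2 ^ k * (c⁻¹ * u * c) := h3
    have h4 : (c⁻¹ * ((a : G) * g) * c) ^ 2 ^ k = c⁻¹ * ((a : G) * g) ^ 2 ^ k * c := by
      simpa using conj_pow (i := 2 ^ k) (a := c⁻¹) (b := (a : G) * g)
    rw [h4] at h3'
    show u * ((a : G) * g) ^ 2 ^ k = ((a : G) * g) ^ 2 ^ k * u
    calc u * ((a : G) * g) ^ 2 ^ k
        = c * (c⁻¹ * u * c * (c⁻¹ * ((a : G) * g) ^ 2 ^ k * c)) * c⁻¹ := by group
      _ = c * (c⁻¹ * ((a : G) * g) ^ 2 ^ k * c * (c⁻¹ * u * c)) * c⁻¹ := by rw [h3']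
      _ = ((a : G) * g) ^ 2 ^ k * u := by group
  have h5 : orderOf (φ ⟨g, hg⟩) = 1 := by
    refine Nat.eq_one_of_dvd_coprimes (hgodd.pow_right k) ?_ (orderOf_dvd_of_pow_eq_one h2)
    exact (orderOf_map_dvd φ _).trans (Subgroup.orderOf_mk g hg).dvd
  rw [orderOf_eq_one_iff, ← MonoidHom.mem_ker, hφ, Subgroup.normalizerMonoidHom_ker] at h5
  exact h5

theorem solvable_of_corefree {M : Subgroup G} (hmax : IsCoatom M) (hcore : M.normalCore = ⊥)
    [Group.IsNilpotent M] (hcl : Group.nilpotencyClass ↥M ≤ 2) : Group.IsSolvable G := by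
  classical
  have hall : ∀ q : ℕ, q.Prime → q ∣ Nat.card M → HasNormalPComplement q G := fun q hq hd => by
    have := Fact.mk hq
    by_cases h2 : q = 2
    · subst h2; exact npc_two hmax hcore hcl hd
    · exact npc_odd hmax hcore inferInstance h2 hd
  let ι := {q : ℕ // q ∈ (Nat.card M).primeFactors}
  have hι : ∀ i : ι, Fact i.1.Prime := fun i => ⟨Nat.prime_of_mem_primeFactors i.2⟩
  let f : G →* ∀ i : ι, G ⧸ pResidual i.1 G :=
    MonoidHom.pi fun i => QuotientGroup.mk' (pResidual i.1 G)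
  have hnilQ : ∀ i : ι, Group.IsNilpotent (G ⧸ pResidual i.1 G) := fun i => by
    have := hι i
    exact (isPGroup_quotient_pResidual (G := G) (p := i.1)).isNilpotent
  have hrng : Group.IsSolvable (∀ i : ι, G ⧸ pResidual i.1 G) := inferInstance
  set L := f.ker with hL
  have hLmem : ∀ i : ι, L ≤ pResidual i.1 G := fun i x hx =>
    (QuotientGroup.eq_one_iff x).1 (congrFun (MonoidHom.mem_ker.1 hx) i)
  have hLcop : (Nat.card M).Coprime (Nat.card L) := by
    refine Nat.coprime_of_dvd fun q hq h1 h2 => ?_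
    have := Fact.mk hq
    have h3 := (hasNormalPComplement_iff_coprime (p := q)).1 (hall q hq h1)
    have h4 : q ∣ Nat.card (pResidual q G) :=
      h2.trans (card_dvd_of_le (hLmem ⟨q, Nat.mem_primeFactors.2 ⟨hq, h1, Nat.card_pos.ne'⟩⟩))
    exact hq.one_lt.ne' (Nat.eq_one_of_dvd_coprimes h3 h4 dvd_rfl)
  have hLsol : Group.IsSolvable L := by
    by_cases hL1 : L = ⊥
    · rw [hL1]
      infer_instance
    obtain ⟨r, hr, hrd⟩ := Nat.exists_prime_and_dvd (fun h => hL1 (Subgroup.eq_bot_of_card_eq L h))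
    have := Fact.mk hr
    have hLn : L.Normal := f.normal_ker
    have hML : M ≤ normalizer (L : Set G) := le_top.trans (normalizer_eq_top_iff.2 hLn).ge
    obtain ⟨R0, hR0⟩ := Cfsg.Lib.Coprime.exists_invariant_sylow hML hLcop (Or.inl inferInstance) r
    set R := (R0 : Subgroup L).map L.subtype with hR
    have hRL : R ≤ L := map_subtype_le _
    have hdisj : Disjoint L M := Cfsg.Lib.Coprime.disjoint_of_coprime_card hLcop.symm
    have htop : ∀ X : Subgroup G, X ≤ L → X ≠ ⊥ → X ⊔ M = ⊤ := fun X hX hX0 => by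
      rcases eq_or_lt_of_le (le_sup_right : M ≤ X ⊔ M) with h | h
      · exact absurd (le_bot_iff.1 ((le_inf hX (le_sup_left.trans h.ge)).trans hdisj.le_bot)) hX0
      · exact hmax.2 _ h
    have hRne : R ≠ ⊥ := by
      rw [hR, Ne, map_eq_bot_iff_of_injective _ L.subtype_injective]
      exact R0.ne_bot_of_dvd_card hrd
    have h1 := Cfsg.Lib.Coprime.card_sup_of_disjoint hML hdisj
    have h2 := Cfsg.Lib.Coprime.card_sup_of_disjoint hR0 (hdisj.mono_left hRL)
    rw [htop L le_rfl hL1] at h1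
    rw [htop R hRL hRne] at h2
    have hRL' : R = L := eq_of_le_of_card_ge hRL
      (le_of_eq (Nat.eq_of_mul_eq_mul_right Nat.card_pos (h1.symm.trans h2)))
    have hp : IsPGroup r L := hRL' ▸ R0.2.map L.subtype
    haveI := hp.isNilpotent
    infer_instance
  exact Group.isSolvable_of_ker_le_range L.subtype f (by rw [range_subtype])

theorem aux : ∀ (n : ℕ) (G : Type u) [Group G] [Finite G], Nat.card G = n → ∀ (M : Subgroup G),
    IsCoatom M → ∀ (_ : Group.IsNilpotent M), Group.nilpotencyClass ↥M ≤ 2 → Group.IsSolvable G := by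
  intro n
  induction n using Nat.strong_induction_on with
  | _ n ih =>
  intro G _ _ hn M hmax hnil hcl
  have := hnil
  by_cases hcore : M.normalCore = ⊥
  · exact solvable_of_corefree hmax hcore hcl
  set N := M.normalCore with hN
  have hNM : N ≤ M := normalCore_le M
  set f := QuotientGroup.mk' N with hf
  have hfs := QuotientGroup.mk'_surjective N
  have hker : f.ker = N := QuotientGroup.ker_mk' N
  have hmax' : IsCoatom (M.map f) := by
    refine ⟨fun h => hmax.1 ?_, fun Y hY => ?_⟩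
    · have := congrArg (comap f) h
      rwa [comap_map_eq, hker, sup_of_le_left hNM, comap_top] at this
    · have h1 : M < Y.comap f := by
        have := comap_lt_comap_of_surjective hfs |>.2 hY
        rwa [comap_map_eq, hker, sup_of_le_left hNM] at this
      have := congrArg (map f) (hmax.2 _ h1)
      rwa [map_comap_eq_self_of_surjective hfs, map_top_of_surjective f hfs] at this
  have hnil' : Group.IsNilpotent (M.map f) :=
    Group.nilpotent_of_surjective (h := hnil) (f.subgroupMap M) (f.subgroupMap_surjective M)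
  have hcl' : Group.nilpotencyClass ↥(M.map f) ≤ 2 :=
    (Group.nilpotencyClass_le_of_surjective (f.subgroupMap M) (f.subgroupMap_surjective M)).trans hcl
  have hq : Group.IsSolvable (G ⧸ N) :=
    ih _ (hn ▸ Cfsg.Lib.Core.card_quotient_lt hcore) (G ⧸ N) rfl _ hmax' hnil' hcl'
  have hNs : Group.IsSolvable N := by
    haveI : Group.IsNilpotent N := Cfsg.Lib.Core.isNilpotent_of_le hNM hnil
    infer_instance
  exact Group.isSolvable_of_ker_le_range N.subtype f (by rw [hker, range_subtype])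

/-- A finite group possessing a maximal subgroup that is nilpotent of class at most 2 is solvable. -/
theorem result {G : Type*} [Group G] [Finite G]
    (M : Subgroup G) (hmax : IsCoatom M) (hnil : Group.IsNilpotent M) (hcl : Group.nilpotencyClass ↥M ≤ 2) :
    Group.IsSolvable G := by
  exact aux _ G rfl M hmax hnil hcl

end Cfsg.Agent.S4039
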