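import Cfsg.Statements.S4040
import Cfsg.Agent.Lib.Thompson.FixedPointFree
import Cfsg.Agent.Lib.Coprime.Action
import Cfsg.Agent.Lib.Coprime.Conjugacy
import Cfsg.Agent.Lib.Core.Cores
-- import your own Cfsg.Agent.* helpers here

set_option autoImplicit false
set_option maxHeartbeats 400000
open Cfsg

namespace Cfsg.Agent.S4040

open Subgroup Cfsg.Lib.Thompson Cfsg.Lib.Core

universe u

theorem normalizer_eq_of_le {G : Type u} [Group G] {M U : Subgroup G} (hmax : IsCoatom M)
    (hcore : ∀ N : Subgroup G, N.Normal → N ≤ M → N = ⊥) (hU : U ≤ M) (hU1 : U ≠ ⊥)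
    (hn : M ≤ normalizer (U : Set G)) : normalizer (U : Set G) = M := by
  rcases eq_or_lt_of_le hn with h | h
  · exact h.symm
  · exact absurd (hcore U (normalizer_eq_top_iff.mp (hmax.2 _ h)) hU) hU1

/-- Core-free case. -/
theorem core_free {G : Type u} [Group G] [Finite G] {M : Subgroup G} (hmax : IsCoatom M) (hnil : Group.IsNilpotent M)
    (hodd : Odd (Nat.card M)) (hcore : ∀ N : Subgroup G, N.Normal → N ≤ M → N = ⊥) : Group.IsSolvable G := by
  classical
  by_cases hM : M = ⊥
  · subst hM
    by_cases htriv : Subsingleton G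
    · infer_instance
    have := not_subsingleton_iff_nontrivial.mp htriv
    obtain ⟨x, hx⟩ := exists_ne (1 : G)
    have htop : zpowers x = ⊤ := hmax.2 _ (bot_lt_iff_ne_bot.mpr (zpowers_ne_bot.mpr hx))
    have : IsCyclic G := isCyclic_iff_exists_zpowers_eq_top.mpr ⟨x, htop⟩
    have : IsMulCommutative G := IsCyclic.isMulCommutative
    letI : CommGroup G := open scoped IsMulCommutative in inferInstance
    infer_instance
  -- Sylow subgroups of `M` and normal complements
  have hloc : ∀ p : ℕ, p.Prime → p ∣ Nat.card M →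
      Cfsg.HasNormalPComplement p G ∧ (Nat.card M).factorization p = (Nat.card G).factorization p := by
    intro p hp hpM
    have := Fact.mk hp
    have hp2 : p ≠ 2 := by
      rintro rfl
      exact (Nat.not_even_iff_odd.mpr hodd) (even_iff_two_dvd.mpr hpM)
    obtain ⟨S⟩ : Nonempty (Sylow p M) := inferInstance
    have hSn : (S : Subgroup M).Normal :=
      Sylow.normal_of_normalizerCondition Group.normalizerCondition_of_isNilpotent S
    set P₀ := (S : Subgroup M).map M.subtype with hP₀
    have hP₀M : P₀ ≤ M := map_subtype_le _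
    have hP₀1 : P₀ ≠ ⊥ := by
      rw [hP₀, Ne, map_eq_bot_iff_of_injective _ M.subtype_injective]
      exact S.ne_bot_of_dvd_card hpM
    have hP₀n : M ≤ normalizer (P₀ : Set G) := by
      intro a ha
      refine mem_normalizer_iff.mpr fun x => ⟨?_, ?_⟩
      · rintro ⟨x, hx, rfl⟩
        exact ⟨⟨a, ha⟩ * x * ⟨a, ha⟩⁻¹, hSn.conj_mem x hx ⟨a, ha⟩, by simp⟩
      · rintro ⟨y, hy, hy'⟩
        exact ⟨⟨a, ha⟩⁻¹ * y * (⟨a, ha⟩⁻¹ : M)⁻¹, hSn.conj_mem y hy (⟨a, ha⟩⁻¹ : M), by
          simp only [coe_subtype] at hy'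
          simp [hy', mul_assoc]⟩
    have hN := normalizer_eq_of_le hmax hcore hP₀M hP₀1 hP₀n
    obtain ⟨Q, hQ⟩ := (S.isPGroup'.map M.subtype).exists_le_sylow
    have hQeq : (Q : Subgroup G) = P₀ := by
      by_contra hne
      have hlt : P₀ < (Q : Subgroup G) := lt_of_le_of_ne hQ (Ne.symm hne)
      have := Q.isPGroup'.isNilpotent
      have h1 : P₀.subgroupOf Q < normalizer ((P₀.subgroupOf (Q : Subgroup G) : Subgroup (Q : Subgroup G)) : Set (Q : Subgroup G)) :=
        Group.normalizerCondition_of_isNilpotent _ (lt_top_iff_ne_top.mpr fun e =>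
          hlt.not_ge (subgroupOf_eq_top.mp e))
      obtain ⟨w, hw, hwn⟩ := SetLike.exists_of_lt h1
      refine hwn (mem_subgroupOf.mpr ?_)
      have hwM : (w : G) ∈ M := by
        rw [← hN]
        refine mem_normalizer_iff.mpr fun x => ⟨fun hx => ?_, fun hx => ?_⟩
        · exact (mem_normalizer_iff.mp hw ⟨x, hQ hx⟩).mp hx
        · have hxQ : x ∈ (Q : Subgroup G) := by
            have := (Q : Subgroup G).mul_mem ((Q : Subgroup G).mul_mem (inv_mem w.2) (hQ hx)) w.2
            simpa [mul_assoc] using this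
          exact (mem_normalizer_iff.mp hw ⟨x, hxQ⟩).mpr hx
      have h2 : ((Q : Subgroup G).subgroupOf M) = (S : Subgroup M) := S.is_maximal'
        (Q.isPGroup'.comap_of_injective M.subtype M.subtype_injective)
        (fun s hs => hQ ⟨s, hs, rfl⟩)
      exact ⟨⟨w, hwM⟩, h2 ▸ (show (⟨(w : G), hwM⟩ : M) ∈ (Q : Subgroup G).subgroupOf M from w.2), rfl⟩
    refine ⟨thompson_normal_p_complement hp2 Q ⟨?_, ?_⟩, ?_⟩
    · have hJn : normalizer (Cfsg.thompsonSubgroupOf p (Q : Subgroup G) : Set G) = M := by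
        refine normalizer_eq_of_le hmax hcore ((map_subtype_le _).trans (hQeq ▸ hP₀M)) ?_ ?_
        · unfold Cfsg.thompsonSubgroupOf
          rw [Ne, map_eq_bot_iff_of_injective _ (Q : Subgroup G).subtype_injective]
          refine thompson_ne_bot ?_
          rw [hQeq, hP₀, card_map_of_injective M.subtype_injective, S.card_eq_multiplicity]
          exact dvd_pow_self p (hp.factorization_pos_of_dvd Nat.card_pos.ne' hpM).ne'
        · refine (le_of_eq hN.symm).trans ?_
          rw [← hQeq]
          haveI : (Cfsg.thompsonSubgroup p (Q : Subgroup G)).Characteristic :=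
            characteristic_iff_map_eq.mpr fun φ => map_thompson_eq φ
          exact normalizer_le_normalizer_map_char _
      rw [hJn]
      exact (have := hnil; hasNormalPComplement_of_isNilpotent)
    · set Z := zenter (Q : Subgroup G) with hZ
      have hZ1 : Z ≠ ⊥ := zenter_ne_bot Q.isPGroup' (hQeq ▸ hP₀1)
      have hZn : normalizer (Z : Set G) = M := by
        refine normalizer_eq_of_le hmax hcore (inf_le_left.trans (hQeq ▸ hP₀M)) hZ1 ?_
        refine (le_of_eq hN.symm).trans ?_
        rw [← hQeq]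
        exact normalizer_le_normalizer_zenter _
      refine Cfsg.Lib.Fusion.hasNormalPComplement_of_le ((centralizer_le_normalizer _).trans hZn.le) ?_
      exact (have := hnil; hasNormalPComplement_of_isNilpotent)
    · have h1 : Nat.card (Q : Subgroup G) = Nat.card P₀ := by rw [hQeq]
      rw [hP₀, card_map_of_injective M.subtype_injective, Q.card_eq_multiplicity, S.card_eq_multiplicity] at h1
      exact (Nat.pow_right_injective hp.two_le h1).symm
  -- the normal complement of `M`
  let K : Subgroup G := ⨅ p : {p : ℕ // p.Prime ∧ p ∣ Nat.card M}, Cfsg.pResidual p.1 G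
  have hKn : K.Normal := normal_iInf_normal fun p => (inferInstance : (Cfsg.pResidual p.1 G).Normal)
  have hcop : (Nat.card M).Coprime (Nat.card K) := Nat.coprime_of_dvd fun r hr h1 h2 => by
    have := Fact.mk hr
    refine hr.coprime_iff_not_dvd.mp (Cfsg.Lib.Fusion.hasNormalPComplement_iff_coprime.mp (hloc r hr h1).1).symm ?_
    exact h2.trans (card_dvd_of_le (iInf_le (fun p : {p : ℕ // p.Prime ∧ p ∣ Nat.card M} =>
      Cfsg.pResidual p.1 G) ⟨r, hr, h1⟩))
  have hKM : K ⊓ M = ⊥ := (Cfsg.Lib.Coprime.disjoint_of_coprime_card hcop.symm).eq_bot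
  have hK1 : K ≠ ⊥ := by
    intro hK
    refine hmax.1 (eq_top_of_card_eq M (Nat.eq_of_factorization_eq Nat.card_pos.ne' Nat.card_pos.ne' fun r => ?_))
    by_cases hr : r.Prime
    swap
    · rw [Nat.factorization_eq_zero_of_not_prime _ hr, Nat.factorization_eq_zero_of_not_prime _ hr]
    by_cases hrM : r ∣ Nat.card M
    · exact (hloc r hr hrM).2
    rw [Nat.factorization_eq_zero_of_not_dvd hrM]
    symm
    refine Nat.factorization_eq_zero_of_not_dvd fun hrG => ?_
    have := Fact.mk hr
    obtain ⟨x, hx⟩ := exists_prime_orderOf_dvd_card' r hrG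
    have hxK : x ∈ K := mem_iInf.mpr fun ⟨p, hp, hpM⟩ => by
      have := Fact.mk hp
      have hpr : p ≠ r := fun e => hrM (e ▸ hpM)
      exact Cfsg.Lib.Fusion.mem_pResidual_of_coprime
        (by rw [hx]; exact (Nat.coprime_primes hr hp).mpr hpr.symm)
    rw [hK, mem_bot] at hxK
    rw [hxK, orderOf_one] at hx
    exact hr.ne_one hx.symm
  obtain ⟨q, hq, hqK⟩ := Nat.exists_prime_and_dvd (fun h => hK1 (eq_bot_of_card_eq K h))
  have := Fact.mk hq
  have hMsol : Group.IsSolvable M := inferInstance
  obtain ⟨Q, hQ⟩ := Cfsg.Lib.Coprime.exists_invariant_sylow (A := M) (G := K)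
    (by rw [normalizer_eq_top]; exact le_top) hcop (Or.inl hMsol) q
  set Q' := (Q : Subgroup K).map K.subtype with hQ'
  have hQK : Q' ≤ K := map_subtype_le _
  have htop : Q' ⊔ M = ⊤ := by
    refine hmax.2 _ (lt_of_le_of_ne le_sup_right fun e => ?_)
    have h1 : Q' ≤ K ⊓ M := le_inf hQK (le_sup_left.trans e.ge)
    rw [hKM, le_bot_iff, hQ', map_eq_bot_iff_of_injective _ K.subtype_injective] at h1
    exact Q.ne_bot_of_dvd_card hqK h1
  have hKQ : K = Q' := by
    refine le_antisymm (fun k hk => ?_) hQK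
    have hk' : k ∈ M ⊔ Q' := sup_comm M Q' ▸ htop ▸ mem_top k
    obtain ⟨m, hm, y, hy, rfl⟩ := (mem_sup_of_le_normalizer hQ).1 hk'
    have : m ∈ K ⊓ M := ⟨by simpa using K.mul_mem hk (inv_mem (hQK hy)), hm⟩
    rw [hKM, mem_bot] at this
    rwa [this, one_mul]
  have hKsol : Group.IsSolvable K := by
    have h : IsPGroup q K := by rw [hKQ]; exact Q.isPGroup'.map _
    have := h.isNilpotent
    infer_instance
  have hGK : Group.IsSolvable (G ⧸ K) := by
    refine Group.isSolvable_of_surjective (f := (QuotientGroup.mk' K).comp M.subtype) fun x => ?_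
    obtain ⟨g, rfl⟩ := QuotientGroup.mk'_surjective K x
    have hg : g ∈ M ⊔ Q' := sup_comm M Q' ▸ htop ▸ mem_top g
    obtain ⟨m, hm, y, hy, rfl⟩ := (mem_sup_of_le_normalizer hQ).1 hg
    refine ⟨⟨m, hm⟩, ?_⟩
    show (m : G ⧸ K) = ((m * y : G) : G ⧸ K)
    rw [QuotientGroup.mk_mul, (QuotientGroup.eq_one_iff y).mpr (hQK hy), mul_one]
  exact (Group.isSolvable_iff_subgroup_quotient K).2 ⟨hKsol, hGK⟩

theorem main : ∀ (n : ℕ) (G : Type u) [Group G] [Finite G], Nat.card G = n → ∀ M : Subgroup G, IsCoatom M →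
    Group.IsNilpotent M → Odd (Nat.card M) → Group.IsSolvable G := by
  intro n
  induction n using Nat.strong_induction_on with
  | _ n ih =>
  intro G _ _ hn M hmax hnil hodd
  by_cases hcore : ∀ N : Subgroup G, N.Normal → N ≤ M → N = ⊥
  · exact core_free hmax hnil hodd hcore
  push Not at hcore
  obtain ⟨N, hNn, hNM, hN1⟩ := hcore
  have hsol : Group.IsSolvable N := by
    have : Group.IsSolvable M := inferInstance
    exact Group.isSolvable_of_isSolvable_injective (f := Subgroup.inclusion hNM) (Subgroup.inclusion_injective hNM)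
  have hker : (QuotientGroup.mk' N).ker ≤ M := by rwa [QuotientGroup.ker_mk']
  have hcomap : (M.map (QuotientGroup.mk' N)).comap (QuotientGroup.mk' N) = M := by
    rw [comap_map_eq, sup_eq_left.mpr hker]
  have hQ : Group.IsSolvable (G ⧸ N) := by
    refine ih _ (hn ▸ card_quotient_lt hN1) (G ⧸ N) rfl (M.map (QuotientGroup.mk' N)) ⟨fun e => hmax.1 ?_, fun B hB => ?_⟩ ?_ ?_
    · rw [← hcomap, e, comap_top]
    · have h1 : M < B.comap (QuotientGroup.mk' N) := by
        rw [← hcomap]
        exact (comap_lt_comap_of_surjective (QuotientGroup.mk'_surjective N)).mpr hB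
      rw [← map_comap_eq_self_of_surjective (QuotientGroup.mk'_surjective N) B, hmax.2 _ h1,
        map_top_of_surjective _ (QuotientGroup.mk'_surjective N)]
    · exact Group.nilpotent_of_surjective (h := hnil) ((QuotientGroup.mk' N).subgroupMap M) ((QuotientGroup.mk' N).subgroupMap_surjective M)
    · exact Odd.of_dvd_nat hodd (Cfsg.Lib.Core.card_map_dvd (QuotientGroup.mk' N) M)
  exact (Group.isSolvable_iff_subgroup_quotient N).2 ⟨hsol, hQ⟩


/-- A finite group possessing a maximal subgroup that is nilpotent of odd order is solvable. -/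
theorem result {G : Type*} [Group G] [Finite G]
    (M : Subgroup G) (hmax : IsCoatom M) (hnil : Group.IsNilpotent M) (hodd : Odd (Nat.card M)) :
    Group.IsSolvable G := by
  exact main _ G rfl M hmax hnil hodd

end Cfsg.Agent.S4040
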