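import Cfsg.Statements.S4043
import Cfsg.Agent.Lib.Coprime.Conjugacy
import Mathlib.GroupTheory.PGroup
-- import your own Cfsg.Agent.* helpers here

set_option autoImplicit false
open Cfsg

namespace Cfsg.Agent.S4043

open Subgroup Cfsg.Lib.Coprime

variable {G : Type*} [Group G] [Finite G] {p : ℕ} [hp : Fact p.Prime]

theorem comp_data {N A : Subgroup G} [hNn : N.Normal] (hN : IsPGroup p N) (hA : A.IsComplement' N)
    (hAp : Cfsg.HasNormalPComplement p A)
    (hC : ∀ n : G, n ∈ N → (∀ a : G, a ∈ A → a * n * a⁻¹ = n) → n = 1) :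
    ∃ Q : Subgroup G, Q ≤ A ∧ A ≤ normalizer (Q : Set G) ∧ (Nat.card Q).Coprime p ∧
      (∃ k, Nat.card A = Nat.card Q * p ^ k) ∧ N ⊓ centralizer (Q : Set G) = ⊥ ∧
      ∀ x : G, (orderOf x).Coprime p → x ∈ N ⊔ Q := by
  classical
  obtain ⟨P, Q0, hQn, hc⟩ := hAp
  have hQcard : Nat.card Q0 = (P : Subgroup A).index := hc.index_eq_card.symm
  have hQp : (Nat.card Q0).Coprime p := by
    rw [hQcard]; exact (hp.out.coprime_iff_not_dvd.mpr P.not_dvd_index).symm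
  obtain ⟨k, hk⟩ := IsPGroup.iff_card.mp P.isPGroup'
  have hidx : Q0.index = p ^ k := hc.symm.index_eq_card.trans hk
  refine ⟨Q0.map A.subtype, map_subtype_le Q0, ?_, ?_, ⟨k, ?_⟩, ?_, ?_⟩
  · intro a ha
    refine mem_normalizer_iff.mpr fun x => ⟨?_, ?_⟩
    · rintro ⟨x, hx, rfl⟩
      exact ⟨⟨a, ha⟩ * x * ⟨a, ha⟩⁻¹, hQn.conj_mem x hx ⟨a, ha⟩, by simp⟩
    · rintro ⟨y, hy, hy'⟩
      exact ⟨⟨a, ha⟩⁻¹ * y * ⟨a, ha⟩, by simpa using hQn.conj_mem y hy ⟨a, ha⟩⁻¹, by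
        simp only [coe_subtype] at hy'
        simp [hy', mul_assoc]⟩
  · rwa [card_map_of_injective A.subtype_injective]
  · rw [card_map_of_injective A.subtype_injective, ← hidx, card_mul_index]
  · set V := N ⊓ centralizer ((Q0.map A.subtype : Subgroup G) : Set G) with hV
    have hnorm : ∀ a : A, ∀ v ∈ V, (a : G) * v * (a : G)⁻¹ ∈ V := by
      rintro a v ⟨hvN, hvC⟩
      refine ⟨hNn.conj_mem v hvN a, ?_⟩
      rintro _ ⟨x, hx, rfl⟩
      have h1 : ((a⁻¹ * x * a : A) : G) * v = v * ((a⁻¹ * x * a : A) : G) :=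
        hvC _ ⟨_, by simpa using hQn.conj_mem x hx a⁻¹, rfl⟩
      simpa [mul_assoc] using congrArg (fun z => (a : G) * z * (a : G)⁻¹) h1
    let _ : MulAction (P : Subgroup A) V :=
      { smul := fun a v => ⟨((a : A) : G) * v * ((a : A) : G)⁻¹, hnorm a v v.2⟩
        one_smul := fun v => Subtype.ext (by show ((1 : A) : G) * v * ((1 : A) : G)⁻¹ = v; simp)
        mul_smul := fun a b v => Subtype.ext (by
          show (((a * b : (P : Subgroup A)) : A) : G) * v * (((a * b : (P : Subgroup A)) : A) : G)⁻¹ =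
            ((a : A) : G) * (((b : A) : G) * v * ((b : A) : G)⁻¹) * ((a : A) : G)⁻¹
          simp [mul_assoc]) }
    by_contra hne
    obtain ⟨j, hj⟩ := IsPGroup.iff_card.mp (hN.to_le (inf_le_left : V ≤ N))
    have hj0 : j ≠ 0 := fun h => hne (eq_bot_of_card_eq _ (by rw [hj, h, pow_zero]))
    obtain ⟨v, hv, hv1⟩ := P.isPGroup'.exists_fixed_point_of_prime_dvd_card_of_fixed_point V
      (by rw [hj]; exact dvd_pow_self p hj0) (a := (1 : V)) (fun a => Subtype.ext (by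
        show ((a : A) : G) * (1 : G) * ((a : A) : G)⁻¹ = 1
        simp))
    refine hv1 (Subtype.ext (hC v v.2.1 fun a ha => ?_).symm)
    obtain ⟨⟨⟨q, hq⟩, ⟨r, hr⟩⟩, hqr⟩ := hc.2 ⟨a, ha⟩
    have h1 : (q : G) * v = v * q := v.2.2 _ ⟨q, hq, rfl⟩
    have h2 : (r : G) * v * (r : G)⁻¹ = v := congrArg Subtype.val (hv ⟨r, hr⟩)
    have h3 : a = (q : G) * r := (congrArg Subtype.val hqr).symm
    rw [h3, mul_inv_rev]
    calc (q : G) * r * v * ((r : G)⁻¹ * (q : G)⁻¹) = (q : G) * ((r : G) * v * (r : G)⁻¹) * (q : G)⁻¹ := by group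
      _ = (v : G) := by rw [h2, h1, mul_inv_cancel_right]
  · intro x hx
    obtain ⟨⟨⟨a, ha⟩, ⟨n, hn⟩⟩, rfl⟩ := hA.2 x
    have h1 : a ^ orderOf (a * n) ∈ N := by
      rw [← QuotientGroup.eq_one_iff, QuotientGroup.mk_pow]
      have : ((a * n : G) : G ⧸ N) = (a : G ⧸ N) := by
        rw [QuotientGroup.mk_mul, (QuotientGroup.eq_one_iff n).mpr hn, mul_one]
      rw [← this, ← QuotientGroup.mk_pow, pow_orderOf_eq_one, QuotientGroup.mk_one]
    have h2 : a ^ orderOf (a * n) = 1 := mem_bot.mp (hA.disjoint.le_bot ⟨pow_mem ha _, h1⟩)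
    have h3 : (orderOf (⟨a, ha⟩ : A)).Coprime (p ^ k) := by
      refine (Nat.Coprime.coprime_dvd_left ?_ hx).pow_right k
      rw [← Subgroup.orderOf_coe]
      exact orderOf_dvd_of_pow_eq_one h2
    have h4 : (⟨a, ha⟩ : A) ∈ Q0 := by
      rw [← QuotientGroup.eq_one_iff, ← orderOf_eq_one_iff]
      exact Nat.eq_one_of_dvd_coprimes h3 (orderOf_map_dvd (QuotientGroup.mk' Q0) _)
        (hidx ▸ Q0.index_eq_card ▸ orderOf_dvd_natCard _)
    exact mul_mem (le_sup_right (α := Subgroup G) ⟨_, h4, rfl⟩) (le_sup_left (α := Subgroup G) hn)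


/-- Let G be a finite group that is the semidirect product of a normal p-subgroup N by a subgroup A, and also of N by a subgroup A₁, where p is a prime and A and A₁ both have normal p-complements. If C_N(A) = C_N(A₁) = 1, then A₁ is conjugate to A by an element of N. -/
theorem result {G : Type*} [Group G] [Finite G] {p : ℕ}
    [Fact p.Prime] (N : Subgroup G) [N.Normal] (hN : IsPGroup p N) (A A₁ : Subgroup G)
    (hA : A.IsComplement' N) (hA₁ : A₁.IsComplement' N)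
    (hAp : Cfsg.HasNormalPComplement p A) (hA₁p : Cfsg.HasNormalPComplement p A₁)
    (hC : ∀ n : G, n ∈ N → (∀ a : G, a ∈ A → a * n * a⁻¹ = n) → n = 1)
    (hC₁ : ∀ n : G, n ∈ N → (∀ a : G, a ∈ A₁ → a * n * a⁻¹ = n) → n = 1) :
    ∃ n : G, n ∈ N ∧ A₁ = A.map (MulAut.conj n).toMonoidHom := by
  obtain ⟨Q, hQA, hAQ, hQp, ⟨k, hk⟩, hCQ, hall⟩ := comp_data hN hA hAp hC
  obtain ⟨Q₁, hQ₁A, hAQ₁, hQ₁p, ⟨k₁, hk₁⟩, -, -⟩ := comp_data hN hA₁ hA₁p hC₁
  have hAA : Nat.card A₁ = Nat.card A := by rw [← hA₁.index_eq_card, ← hA.index_eq_card]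
  have hQQ : Nat.card Q₁ = Nat.card Q := by
    have h1 : Nat.card Q₁ * p ^ k₁ = Nat.card Q * p ^ k := by rw [← hk, ← hk₁, hAA]
    exact Nat.dvd_antisymm ((hQ₁p.pow_right k).dvd_of_dvd_mul_right (h1 ▸ dvd_mul_right _ _))
      ((hQp.pow_right k₁).dvd_of_dvd_mul_right (h1.symm ▸ dvd_mul_right _ _))
  have hQ₁le : Q₁ ≤ N ⊔ Q := fun x hx =>
    hall x (hQ₁p.coprime_dvd_left (orderOf_dvd_natCard Q₁ hx))
  obtain ⟨j, hj⟩ := IsPGroup.iff_card.mp hN
  obtain ⟨n, hn, hnQ⟩ := exists_conj_of_coprime_of_isSolvable_left N Q Q₁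
    (by rw [Subgroup.normalizer_eq_top]; exact le_top) (hj ▸ hQp.pow_right j)
    (by have := hN.isNilpotent; exact inferInstance) hQ₁le hQQ
  refine ⟨n, hn, Subgroup.eq_of_le_of_card_ge (fun x hx => ?_) ?_⟩
  · rw [Subgroup.mem_map]
    refine ⟨n⁻¹ * x * n, ?_, by simp [mul_assoc]⟩
    have hy : n⁻¹ * x * n ∈ Subgroup.normalizer (Q : Set G) := by
      have h1 := map_conj_eq_self (hAQ₁ hx)
      rw [hnQ, map_conj_conj] at h1
      rw [Subgroup.mem_normalizer_iff_map_conj_eq]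
      show Q.map (MulAut.conj (n⁻¹ * x * n)).toMonoidHom = Q
      rw [show (Q.map (MulAut.conj (n⁻¹ * x * n)).toMonoidHom) = (Q.map (MulAut.conj (x * n)).toMonoidHom).map (MulAut.conj n⁻¹).toMonoidHom by
        rw [map_conj_conj, mul_assoc], h1, map_conj_conj, inv_mul_cancel, map_conj_one]
    obtain ⟨⟨⟨a, ha⟩, ⟨m, hm⟩⟩, ham⟩ := hA.2 (n⁻¹ * x * n)
    have ham' : a * m = n⁻¹ * x * n := ham
    have hmQ : m ∈ Subgroup.normalizer (Q : Set G) := by
      have := (Subgroup.normalizer (Q : Set G)).mul_mem (inv_mem (hAQ ha)) hy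
      rwa [← ham', inv_mul_cancel_left] at this
    have hm1 : m = 1 := by
      have : m ∈ N ⊓ Subgroup.centralizer (Q : Set G) := by
        refine ⟨hm, fun q hq => ?_⟩
        have h1 : m * q * m⁻¹ * q⁻¹ ∈ N := by
          simpa [mul_assoc] using N.mul_mem hm ((inferInstance : N.Normal).conj_mem _ (N.inv_mem hm) q)
        have h2 : m * q * m⁻¹ * q⁻¹ ∈ Q := Q.mul_mem ((Subgroup.mem_normalizer_iff.mp hmQ q).mp hq) (Q.inv_mem hq)
        have h3 := Subgroup.mem_bot.mp (hA.disjoint.le_bot ⟨hQA h2, h1⟩)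
        exact (mul_inv_eq_iff_eq_mul.mp (mul_inv_eq_one.mp h3)).symm
      rwa [hCQ, Subgroup.mem_bot] at this
    rw [← ham', hm1, mul_one]; exact ha
  · rw [card_map_conj, hAA]

end Cfsg.Agent.S4043
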