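import Cfsg.Statements.S4047
import Cfsg.Agent.Lib.PiOdd.Reduce
-- import your own Cfsg.Agent.* helpers here

set_option autoImplicit false
open Cfsg

namespace Cfsg.Agent.S4047

/-- Let π be a set of odd primes and G a finite group whose Sylow 2-subgroups are dihedral or abelian. If N_G(H)/C_G(H) is a π-group for every nontrivial π-subgroup H of G, then the π'-elements of G form a subgroup. -/
theorem result {G : Type*} [Group G] [Finite G] (π : Set ℕ)
    (hodd : ∀ p ∈ π, p.Prime ∧ p ≠ 2) (h2 : ∀ S : Sylow 2 G, IsMulCommutative S ∨ ∃ n : ℕ, Nonempty ((S : Subgroup G) ≃* DihedralGroup n))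
    (hhom : (∀ H : Subgroup G, H ≠ ⊥ → (∀ p : ℕ, p.Prime → p ∣ Nat.card ↥H → p ∈ π) →
        ∀ p : ℕ, p.Prime → p ∣ (Subgroup.centralizer (H : Set G)).relIndex (Subgroup.normalizer (H : Set G)) → p ∈ π)) :
    (∃ K : Subgroup G, ∀ x : G, x ∈ K ↔ ∀ p : ℕ, p.Prime → p ∣ orderOf x → p ∉ π) := by
  haveI : Fact (Nat.Prime 2) := ⟨Nat.prime_two⟩
  refine Cfsg.Lib.PiOdd.closed_of_homPi (fun p hp => (hodd p hp).2) ?_ hhom
  obtain ⟨S⟩ : Nonempty (Sylow 2 G) := inferInstance
  have hab : IsMulCommutative ↥(S : Subgroup G) → Cfsg.Lib.PiOdd.SylHyp G := fun hc =>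
    Or.inl fun T => ⟨⟨fun a b => (T.equiv S).injective (by
      rw [map_mul, map_mul]; exact hc.is_comm.comm _ _)⟩⟩
  rcases h2 S with hc | ⟨n, ⟨e⟩⟩
  · exact hab hc
  rcases Nat.lt_or_ge n 2 with hn | hn
  · interval_cases n
    · haveI := Finite.of_equiv _ e.toEquiv
      exact (not_finite (DihedralGroup 0)).elim
    · exact hab ⟨⟨fun a b => e.injective (by
        rw [map_mul, map_mul]
        generalize e a = x
        generalize e b = y
        revert x y
        decide)⟩⟩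
  · exact Or.inr (Cfsg.Lib.GW.TwoCycDih.of_dihedral_sylow S hn ⟨e⟩)

end Cfsg.Agent.S4047
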