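import Cfsg.Statements.S4049
import Cfsg.Agent.S3861

set_option autoImplicit false
open Cfsg

namespace Cfsg.Agent.S4049

/-- Let G be a finite group such that N_G(H)/C_G(H) has odd order for every nontrivial subgroup H of odd order. Then the Sylow 2-subgroups of G are normal. -/
theorem result {G : Type*} [Group G] [Finite G]
    (hhom : ∀ H : Subgroup G, H ≠ ⊥ → ¬ 2 ∣ Nat.card ↥H →
        ¬ 2 ∣ (Subgroup.centralizer (H : Set G)).relIndex (Subgroup.normalizer (H : Set G))) (P : Sylow 2 G) :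
    (P : Subgroup G).Normal := by
  by_contra hP
  obtain ⟨x, hx1, hx, hc⟩ := S3861.exists_real_odd P hP
  obtain ⟨g, hg⟩ := isConj_iff.mp hc
  set H := Subgroup.zpowers x
  have hne : H ≠ ⊥ := fun h => hx1 (Subgroup.zpowers_eq_bot.mp h)
  have hodd : ¬ 2 ∣ Nat.card ↥H := by
    rw [Nat.card_zpowers]; exact fun h => Nat.not_even_iff_odd.mpr hx (even_iff_two_dvd.mpr h)
  have hN : g ∈ Subgroup.normalizer (H : Set G) := by
    rw [Subgroup.mem_normalizer_iff_map_conj_eq, MonoidHom.map_zpowers]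
    show Subgroup.zpowers (g * x * g⁻¹) = _
    rw [hg, Subgroup.zpowers_inv]
  have h2 : g ^ 2 * x * (g ^ 2)⁻¹ = x := by
    have : g * (g * x * g⁻¹) * g⁻¹ = x := by rw [hg, ← conj_inv, hg, inv_inv]
    simpa [sq, mul_assoc] using this
  set C := Subgroup.centralizer (H : Set G)
  set N := Subgroup.normalizer (H : Set G)
  have hsq : g ^ 2 ∈ C := by
    rw [Subgroup.mem_centralizer_iff]
    rintro _ ⟨j, rfl⟩
    have : Commute x (g ^ 2) := (mul_inv_eq_iff_eq_mul.mp h2).symm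
    exact this.zpow_left j
  have hne2 : ¬ 2 ∣ C.relIndex N := hhom H hne hodd
  obtain ⟨j, hj⟩ : ∃ j, C.relIndex N = 2 * j + 1 := ⟨C.relIndex N / 2, by omega⟩
  have hpow : (⟨g, hN⟩ : N) ^ (C.relIndex N) ∈ C.subgroupOf N := (C.subgroupOf N).pow_index_mem _
  rw [Subgroup.mem_subgroupOf, SubmonoidClass.coe_pow, hj, pow_succ, pow_mul] at hpow
  have hgC : g ∈ C := (C.mul_mem_cancel_left (pow_mem hsq j)).mp hpow
  have hgx := Subgroup.mem_centralizer_iff.mp hgC x (Subgroup.mem_zpowers x)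
  rw [← hgx, mul_inv_cancel_right] at hg
  have h3 : x ^ 2 = 1 := by
    rw [sq]; nth_rewrite 1 [hg]; exact inv_mul_cancel x
  have h4 := Nat.dvd_gcd (dvd_refl (orderOf x)) (orderOf_dvd_of_pow_eq_one h3)
  rw [(Nat.coprime_two_right.mpr hx).gcd_eq_one, Nat.dvd_one, orderOf_eq_one_iff] at h4
  exact hx1 h4

end Cfsg.Agent.S4049
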