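import Cfsg.Statements.S4050
import Cfsg.Agent.Lib.Core.PSolvable
import Cfsg.Agent.Lib.Core.Cores
import Cfsg.Agent.Lib.Coprime.Action
-- import your own Cfsg.Agent.* helpers here

set_option autoImplicit false
open Cfsg

namespace Cfsg.Agent.S4050

open Subgroup Cfsg.Lib.Core

universe u

/-- The factor condition of a `π`-separable group. -/
def PiFactor (π : Set ℕ) (d : ℕ) : Prop :=
  (∀ q : ℕ, q.Prime → q ∣ d → q ∈ π) ∨ (∀ q : ℕ, q.Prime → q ∣ d → q ∉ π)

theorem piFactor_dvdClosed (π : Set ℕ) : DvdClosed (PiFactor π) := fun _ _ hab h =>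
  h.imp (fun h q hq hd => h q hq (hd.trans hab)) (fun h q hq hd => h q hq (hd.trans hab))

/-- Hall–Higman: if `O_π(G) = 1` in a `π`-separable group, `O_π'(G)` contains its centralizer. -/
theorem centralizer_le {G : Type u} [Group G] [Finite G] (π : Set ℕ) (hsep : HasFactorChain (PiFactor π) G)
    (h1 : Cfsg.piCore π G = ⊥) :
    centralizer ((Cfsg.piCore πᶜ G : Subgroup G) : Set G) ≤ Cfsg.piCore πᶜ G := by
  classical
  set O := Cfsg.piCore πᶜ G with hO
  set C := centralizer ((O : Subgroup G) : Set G) with hC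
  haveI : C.Normal := by rw [hC]; infer_instance
  by_contra hle
  have hmap : C.map (QuotientGroup.mk' O) ≠ ⊥ := fun h => hle (by
    rw [Subgroup.map_eq_bot_iff, QuotientGroup.ker_mk'] at h; exact h)
  obtain ⟨Mb, hMb, hMC⟩ : ∃ Mb : Subgroup (G ⧸ O), IsMinNormal Mb ∧ Mb ≤ C.map (QuotientGroup.mk' O) :=
    exists_isMinNormal (Subgroup.Normal.map inferInstance _ (QuotientGroup.mk'_surjective O)) hmap
  have hcard := HasFactorChain.minimal_normal (piFactor_dvdClosed π) (hsep.quotient (piFactor_dvdClosed π) O) hMb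
  haveI : Mb.Normal := hMb.1
  set K := Mb.comap (QuotientGroup.mk' O) with hK
  haveI : K.Normal := by rw [hK]; infer_instance
  have hOK : O ≤ K := fun x hx => by
    show QuotientGroup.mk' O x ∈ Mb
    rw [show QuotientGroup.mk' O x = 1 from (QuotientGroup.eq_one_iff _).2 hx]; exact one_mem _
  have hKO : ¬ K ≤ O := fun h => hMb.2.1 (eq_bot_iff.2 fun y hy => by
    obtain ⟨x, rfl⟩ := QuotientGroup.mk'_surjective O y
    exact (QuotientGroup.eq_one_iff _).2 (h hy))
  have hcardK : Nat.card K = Nat.card O * Nat.card Mb := by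
    have h := Cfsg.Lib.Core.card_mul_relIndex hOK
    rw [← h]
    congr 1
    rw [show O.relIndex K = ((⊥ : Subgroup (G ⧸ O)).comap (QuotientGroup.mk' O)).relIndex K by
        rw [MonoidHom.comap_bot, QuotientGroup.ker_mk'], relIndex_comap, relIndex_bot_left,
      hK, map_comap_eq_self_of_surjective (QuotientGroup.mk'_surjective O)]
  have hOpi : IsPiSub πᶜ O := piCore_isPiSub _ G
  rcases hcard with hpi | hpi'
  swap
  · exact hKO (le_piCore (π := πᶜ) fun q hq hd => by
      rw [hcardK] at hd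
      exact (hq.dvd_mul.1 hd).elim (hOpi q hq) (hpi' q hq))
  -- `X = K ∩ C` is a central extension of a `π'`-group by a `π`-group
  set Z := O ⊓ C with hZ
  set X := K ⊓ C with hX
  have hZX : Z ≤ X := inf_le_inf_right C hOK
  have hXZ : ¬ X ≤ Z := by
    intro h
    refine hKO fun x hx => ?_
    obtain ⟨c, hc, hcx⟩ := hMC (hx : QuotientGroup.mk' O x ∈ Mb)
    have h1 : x⁻¹ * c ∈ O := QuotientGroup.eq.1 hcx.symm
    have hcK : c ∈ K := by
      have := mul_mem hx (hOK h1)
      rwa [mul_inv_cancel_left] at this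
    have hcO : c ∈ O := (h (mem_inf.2 ⟨hcK, hc⟩)).1
    have := mul_mem hcO (inv_mem h1)
    rwa [show c * (x⁻¹ * c)⁻¹ = x by group] at this
  have hidx : ∀ q : ℕ, q.Prime → q ∣ Z.relIndex X → q ∈ π := by
    intro q hq hd
    refine hpi q hq (hd.trans ?_)
    have h1 : Z.relIndex X = O.relIndex X := by
      rw [← inf_relIndex_right O X, hZ, hX]
      congr 1
      ext x
      simp only [mem_inf]
      exact ⟨fun h => ⟨h.1, hOK h.1, h.2⟩, fun h => ⟨h.1, h.2.2⟩⟩
    rw [h1]
    refine (relIndex_dvd_of_le_right_of_normal hOK inf_le_left).trans ?_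
    have h := Cfsg.Lib.Core.card_mul_relIndex hOK
    rw [hcardK] at h
    rw [Nat.eq_of_mul_eq_mul_left Nat.card_pos h]
  have hcop : (Nat.card Z).Coprime (Z.relIndex X) := Nat.coprime_of_dvd fun q hq hd1 hd2 =>
    hOpi q hq (hd1.trans (card_dvd_of_le inf_le_left)) (hidx q hq hd2)
  haveI : Z.Normal := by rw [hZ]; infer_instance
  obtain ⟨L, hLX, hLc, hsup⟩ := Cfsg.Lib.Coprime.exists_complement_of_coprime hZX
    (fun x _ => by rw [normalizer_eq_top_iff.mpr (inferInstance : Z.Normal)]; trivial) hcop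
  have hLpi : IsPiSub π L := fun q hq hd => hidx q hq (hLc ▸ hd)
  have hmemL : ∀ x ∈ X, (∀ q : ℕ, q.Prime → q ∣ orderOf x → q ∈ π) → x ∈ L := by
    intro x hx hord
    have hx' : x ∈ Z ⊔ L := by rw [hsup]; exact hx
    obtain ⟨z, hz, l, hl, rfl⟩ := mem_sup_of_normal_left.1 hx'
    have hzl : Commute z l := mem_centralizer_iff.1 (hLX hl).2 z hz.1
    have hcopo : (orderOf z).Coprime (orderOf l) := Nat.coprime_of_dvd fun q hq h1 h2 =>
      hOpi q hq (h1.trans (Subgroup.orderOf_dvd_natCard _ hz.1)) (hLpi q hq (h2.trans (Subgroup.orderOf_dvd_natCard _ hl)))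
    have ho := hzl.orderOf_mul_eq_mul_orderOf_of_coprime hcopo
    have hz1 : z = 1 := by
      rw [← orderOf_eq_one_iff]
      by_contra hne
      obtain ⟨q, hq, hd⟩ := Nat.exists_prime_and_dvd hne
      exact hOpi q hq (hd.trans (Subgroup.orderOf_dvd_natCard _ hz.1)) (hord q hq (ho ▸ Dvd.dvd.mul_right hd _))
    rw [hz1, one_mul]
    exact hl
  have hLn : L.Normal := ⟨fun l hl g => hmemL _ ((inferInstance : X.Normal).conj_mem _ (hLX hl) g) fun q hq hd => by
    have e : orderOf (g * l * g⁻¹) = orderOf l :=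
      orderOf_injective (MulAut.conj g).toMonoidHom (MulAut.conj g).injective l
    exact hLpi q hq ((e ▸ hd).trans (Subgroup.orderOf_dvd_natCard _ hl))⟩
  have hLbot : L = ⊥ := eq_bot_iff.2 (h1 ▸ le_piCore' hLn hLpi)
  exact hXZ (by rw [← hsup, hLbot, sup_bot_eq])

theorem mem_piCore {G : Type u} [Group G] [Finite G] (π : Set ℕ) (hsep : HasFactorChain (PiFactor π) G)
    (hhom : ∀ H : Subgroup G, H ≠ ⊥ → (∀ p : ℕ, p.Prime → p ∣ Nat.card ↥H → p ∉ π) →
        ∀ p : ℕ, p.Prime → p ∣ (centralizer (H : Set G)).relIndex (normalizer (H : Set G)) → p ∉ π)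
    {q : ℕ} [Fact q.Prime] (hqπ : q ∈ π) {x : G} {a : ℕ} (hx : orderOf x = q ^ a) :
    x ∈ Cfsg.piCore π G := by
  classical
  have hq := (Fact.out : q.Prime)
  set K := Cfsg.piCore π G with hKdef
  have hKpi : IsPiSub π K := piCore_isPiSub _ G
  have h1 : Cfsg.piCore π (G ⧸ K) = ⊥ := by
    set P1 := Cfsg.piCore π (G ⧸ K) with hP1
    set W := P1.comap (QuotientGroup.mk' K) with hW
    have hKW : K ≤ W := fun y hy => by
      show QuotientGroup.mk' K y ∈ P1
      rw [show QuotientGroup.mk' K y = 1 from (QuotientGroup.eq_one_iff _).2 hy]; exact one_mem _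
    have hcardW : Nat.card W ∣ Nat.card K * Nat.card P1 := by
      have h := Cfsg.Lib.Core.card_mul_relIndex hKW
      rw [← h]
      refine mul_dvd_mul_left _ ?_
      rw [show K.relIndex W = ((⊥ : Subgroup (G ⧸ K)).comap (QuotientGroup.mk' K)).relIndex W by
        rw [MonoidHom.comap_bot, QuotientGroup.ker_mk'], relIndex_comap, relIndex_bot_left]
      exact card_dvd_of_le (map_comap_le _ _)
    have hWK : W ≤ K := le_piCore' (by rw [hW]; infer_instance) fun r hr hd =>
      (hr.dvd_mul.1 (hd.trans hcardW)).elim (hKpi r hr) (piCore_isPiSub π (G ⧸ K) r hr)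
    refine eq_bot_iff.2 fun y hy => ?_
    obtain ⟨z, rfl⟩ := QuotientGroup.mk'_surjective K y
    exact (QuotientGroup.eq_one_iff _).2 (hWK hy)
  have hHH := centralizer_le π (hsep.quotient (piFactor_dvdClosed π) K) h1
  set Ob := Cfsg.piCore πᶜ (G ⧸ K) with hOb
  have hObpi : IsPiSub πᶜ Ob := piCore_isPiSub _ _
  set xb := QuotientGroup.mk' K x with hxb
  obtain ⟨b, -, hxbo⟩ := (Nat.dvd_prime_pow hq).1 (hx ▸ orderOf_map_dvd (QuotientGroup.mk' K) x)
  have hnq : ¬ q ∣ Nat.card Ob := fun hd => hObpi q hq hd hqπ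
  suffices hcent : xb ∈ centralizer (Ob : Set (G ⧸ K)) by
    refine (QuotientGroup.eq_one_iff x).1 ?_
    show xb = 1
    rcases b with _ | b
    · exact orderOf_eq_one_iff.1 (by rw [hxbo, pow_zero])
    · exact absurd ((hxbo ▸ dvd_pow_self q (by omega) : q ∣ orderOf xb).trans
        (Subgroup.orderOf_dvd_natCard _ (hHH hcent))) hnq
  -- `x` centralizes a Sylow subgroup of `Ob` for each prime
  refine mem_centralizer_iff.2 fun o ho => ?_
  suffices hle : Ob ≤ centralizer ({xb} : Set (G ⧸ K)) from mem_centralizer_singleton_iff.1 (hle ho)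
  have hdvd : Nat.card Ob ∣ Nat.card ↥(centralizer ({xb} : Set (G ⧸ K)) ⊓ Ob) := by
    refine (Nat.dvd_iff_prime_pow_dvd_dvd _ _).2 fun r k hr hrk => ?_
    rcases Nat.eq_zero_or_pos k with rfl | hk
    · rw [pow_zero]; exact one_dvd _
    have hrd : r ∣ Nat.card Ob := (dvd_pow_self r hk.ne').trans hrk
    have hrπ : r ∉ π := hObpi r hr hrd
    haveI : Fact r.Prime := ⟨hr⟩
    haveI : Ob.Normal := by rw [hOb]; infer_instance
    obtain ⟨Rb, hRb⟩ := Cfsg.Lib.Coprime.exists_invariant_sylow (A := zpowers xb) (G := Ob)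
      (fun y _ => by rw [normalizer_eq_top_iff.mpr (inferInstance : Ob.Normal)]; trivial)
      (by rw [Nat.card_zpowers, hxbo]; exact ((Nat.Prime.coprime_iff_not_dvd hq).2 hnq).pow_left b)
      (Or.inl inferInstance) r
    set RB := ((Rb : Subgroup Ob).map Ob.subtype) with hRB
    have hRBle : RB ≤ Ob := map_subtype_le _
    have hRBcard : r ^ k ∣ Nat.card RB := by
      rw [hRB, card_map_of_injective (subtype_injective _), Rb.card_eq_multiplicity]
      exact pow_dvd_pow r ((hr.pow_dvd_iff_le_factorization Nat.card_pos.ne').1 hrk)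
    refine hRBcard.trans (card_dvd_of_le (le_inf ?_ hRBle))
    -- lift to `G`
    set W := RB.comap (QuotientGroup.mk' K) with hW
    have hKW : K ≤ W := fun y hy => by
      show QuotientGroup.mk' K y ∈ RB
      rw [show QuotientGroup.mk' K y = 1 from (QuotientGroup.eq_one_iff _).2 hy]; exact one_mem _
    have hcardW : Nat.card W = Nat.card K * Nat.card RB := by
      rw [← Cfsg.Lib.Core.card_mul_relIndex hKW]
      congr 1
      rw [show K.relIndex W = ((⊥ : Subgroup (G ⧸ K)).comap (QuotientGroup.mk' K)).relIndex W by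
          rw [MonoidHom.comap_bot, QuotientGroup.ker_mk'], relIndex_comap, relIndex_bot_left,
        hW, map_comap_eq_self_of_surjective (QuotientGroup.mk'_surjective K)]
    obtain ⟨e, he⟩ := IsPGroup.iff_card.1 (Rb.isPGroup'.map Ob.subtype : IsPGroup r RB)
    have hrK : ¬ r ∣ Nat.card K := fun hd => hrπ (hKpi r hr hd)
    obtain ⟨R0⟩ : Nonempty (Sylow r W) := inferInstance
    set R := (R0 : Subgroup W).map W.subtype with hR
    have hRW : R ≤ W := map_subtype_le _
    have hRcard : Nat.card R = r ^ e := by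
      rw [hR, card_map_of_injective (subtype_injective _), R0.card_eq_multiplicity, hcardW, he,
        Nat.factorization_mul Nat.card_pos.ne' (pow_ne_zero e hr.ne_zero), Finsupp.add_apply,
        Nat.factorization_eq_zero_of_not_dvd hrK, hr.factorization_pow, Finsupp.single_eq_same, zero_add]
    have hKR : W ≤ K ⊔ R := by
      refine (eq_of_le_of_card_ge (sup_le hKW hRW) (Nat.le_of_dvd Nat.card_pos ?_)).ge
      rw [hcardW, he, ← hRcard]
      exact Nat.Coprime.mul_dvd_of_dvd_of_dvd (by rw [hRcard]; exact (((Nat.Prime.coprime_iff_not_dvd hr).2 hrK).pow_left e).symm)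
        (card_dvd_of_le le_sup_left) (card_dvd_of_le le_sup_right)
    have hxW : x ∈ normalizer (W : Set G) := by
      refine mem_normalizer_iff.2 fun y => ?_
      show QuotientGroup.mk' K y ∈ RB ↔ QuotientGroup.mk' K (x * y * x⁻¹) ∈ RB
      rw [map_mul, map_mul, map_inv]
      exact mem_normalizer_iff.1 (hRb (mem_zpowers xb)) _
    obtain ⟨Q, hQ⟩ := Cfsg.Lib.Coprime.exists_sylow_eq_conj R0 hxW
    obtain ⟨g, hg, hgQ⟩ := Cfsg.Lib.Coprime.exists_sylow_conj R0 Q
    rw [hQ] at hgQ
    have hn : g⁻¹ * x ∈ normalizer (R : Set G) := by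
      rw [Cfsg.Lib.Core.mem_normalizer_iff_map_conj, show (MulAut.conj (g⁻¹ * x)).toMonoidHom =
          (MulAut.conj g⁻¹).toMonoidHom.comp (MulAut.conj x).toMonoidHom by
        ext y; simp [mul_assoc], ← Subgroup.map_map, hgQ, Subgroup.map_map,
        show (MulAut.conj g⁻¹).toMonoidHom.comp (MulAut.conj g).toMonoidHom = MonoidHom.id G by
          ext y; simp [mul_assoc], Subgroup.map_id]
    obtain ⟨k1, hk1, r1, hr1, hkr⟩ := mem_sup_of_normal_left.1 (hKR hg)
    set n := r1 * (g⁻¹ * x) with hndef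
    have hnR : n ∈ normalizer (R : Set G) := mul_mem (le_normalizer hr1) hn
    have hnx : QuotientGroup.mk' K n = xb := by
      have hx' : x = k1 * n := by rw [hndef, ← hkr]; group
      have h2 := congrArg (QuotientGroup.mk' K) hx'
      rw [map_mul, show QuotientGroup.mk' K k1 = 1 from (QuotientGroup.eq_one_iff _).2 hk1, one_mul] at h2
      exact h2.symm
    obtain ⟨c, m, hm, hnord⟩ := Nat.exists_eq_pow_mul_and_not_dvd (orderOf_pos n).ne' q hq.ne_one
    have hnm : orderOf (n ^ m) = q ^ c := by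
      rw [orderOf_pow_of_dvd (by rintro rfl; exact hm (dvd_zero q)) (hnord ▸ dvd_mul_left _ _), hnord,
        Nat.mul_div_cancel _ (Nat.pos_of_ne_zero (by rintro rfl; exact hm (dvd_zero q)))]
    have hnC : n ^ m ∈ centralizer (R : Set G) := by
      have hRne : R ≠ ⊥ := by
        intro h0
        rw [h0, card_bot] at hRcard
        rw [he, ← hRcard] at hRBcard
        exact hr.not_dvd_one ((dvd_pow_self r hk.ne').trans hRBcard)
      have hRpi : ∀ p : ℕ, p.Prime → p ∣ Nat.card ↥R → p ∉ π := fun p hp hd => by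
        rw [hRcard] at hd
        rwa [(Nat.prime_dvd_prime_iff_eq hp hr).1 (hp.dvd_of_dvd_pow hd)]
      have hni := hhom R hRne hRpi q hq
      by_contra hnotC
      set Nn := normalizer (R : Set G) with hNn
      haveI : ((centralizer (R : Set G)).subgroupOf Nn).Normal := by
        rw [hNn, ← normalizerMonoidHom_ker R]; infer_instance
      let nm : Nn := ⟨n ^ m, pow_mem hnR m⟩
      have h1 : orderOf (QuotientGroup.mk' ((centralizer (R : Set G)).subgroupOf Nn) nm) ∣ q ^ c :=
        hnm ▸ (orderOf_map_dvd _ nm).trans (by rw [← Subgroup.orderOf_coe])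
      obtain ⟨c', -, hc'⟩ := (Nat.dvd_prime_pow hq).1 h1
      rcases c' with _ | c'
      · rw [pow_zero, orderOf_eq_one_iff] at hc'
        exact hnotC (mem_subgroupOf.1 ((QuotientGroup.eq_one_iff _).1 hc') : (nm : G) ∈ centralizer (R : Set G))
      · refine (hni ?_) hqπ
        rw [relIndex, index_eq_card]
        exact (hc' ▸ dvd_pow_self q (by omega)).trans (orderOf_dvd_natCard _)
    -- back to the quotient
    intro y hy
    have hRmap : RB ≤ R.map (QuotientGroup.mk' K) := by
      intro y hy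
      obtain ⟨z, rfl⟩ := QuotientGroup.mk'_surjective K y
      obtain ⟨k2, hk2, r2, hr2, rfl⟩ := mem_sup_of_normal_left.1 (hKR (show z ∈ W from hy))
      exact ⟨r2, hr2, by rw [map_mul, show QuotientGroup.mk' K k2 = 1 from (QuotientGroup.eq_one_iff _).2 hk2, one_mul]⟩
    obtain ⟨r2, hr2, rfl⟩ := hRmap hy
    refine mem_centralizer_singleton_iff.2 ?_
    have hcm : Commute (QuotientGroup.mk' K r2) (xb ^ m) := by
      rw [← hnx, ← map_pow]
      exact (show Commute r2 (n ^ m) from mem_centralizer_iff.1 hnC r2 hr2).map _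
    obtain ⟨j, hj⟩ := exists_pow_eq_self_of_coprime (x := xb) (n := m)
      (by rw [hxbo]; exact (((Nat.Prime.coprime_iff_not_dvd hq).2 hm).pow_left b).symm)
    exact (hj ▸ hcm.pow_right j).eq
  exact (inf_eq_right.1 (eq_of_le_of_card_ge inf_le_right (Nat.le_of_dvd Nat.card_pos hdvd)))


/-- Let π be a set of primes and G a finite group. The π-elements of G (elements whose order is divisible only by primes of π) form a subgroup if and only if G is π-separable (it has a chain of normal subgroups from 1 to G with each successive index divisible only by primes in π or only by primes outside π) and N_G(H)/C_G(H) is a π'-group for every nontrivial π'-subgroup H of G. -/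
theorem result {G : Type*} [Group G] [Finite G] (π : Set ℕ)
    (hπ : ∀ p ∈ π, p.Prime) :
    (∃ K : Subgroup G, ∀ x : G, x ∈ K ↔ ∀ p : ℕ, p.Prime → p ∣ orderOf x → p ∈ π) ↔
    ((∃ (n : ℕ) (H : Fin (n + 1) → Subgroup G), H 0 = ⊥ ∧ H (Fin.last n) = ⊤ ∧ Monotone H ∧ (∀ i, (H i).Normal) ∧
      ∀ i : Fin n, (∀ q : ℕ, q.Prime → q ∣ (H i.castSucc).relIndex (H i.succ) → q ∈ π) ∨
        (∀ q : ℕ, q.Prime → q ∣ (H i.castSucc).relIndex (H i.succ) → q ∉ π)) ∧
     (∀ H : Subgroup G, H ≠ ⊥ → (∀ p : ℕ, p.Prime → p ∣ Nat.card ↥H → p ∉ π) →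
        ∀ p : ℕ, p.Prime → p ∣ (Subgroup.centralizer (H : Set G)).relIndex (Subgroup.normalizer (H : Set G)) → p ∉ π)) := by
  classical
  constructor
  · rintro ⟨K, hK⟩
    have hKn : K.Normal := ⟨fun k hk g => (hK _).2 fun p hp hd => (hK k).1 hk p hp (by
      rwa [show g * k * g⁻¹ = (MulAut.conj g).toMonoidHom k from rfl,
        orderOf_injective _ (MulAut.conj g).injective] at hd)⟩
    have hKpi : ∀ p : ℕ, p.Prime → p ∣ Nat.card K → p ∈ π := by
      intro p hp hd
      haveI : Fact p.Prime := ⟨hp⟩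
      obtain ⟨⟨z, hz⟩, hzo⟩ := exists_prime_orderOf_dvd_card' (G := K) p hd
      rw [Subgroup.orderOf_mk] at hzo
      exact (hK z).1 hz p hp (dvd_of_eq hzo.symm)
    have hsyl : ∀ (p : ℕ), p.Prime → p ∈ π → ∀ x : G, (∃ a, orderOf x = p ^ a) → x ∈ K := by
      rintro p hp hpπ x ⟨a, ha⟩
      exact (hK x).2 fun r hr hd => by
        rwa [(Nat.prime_dvd_prime_iff_eq hr hp).1 (hr.dvd_of_dvd_pow (ha ▸ hd))]
    have hidx : ∀ p : ℕ, p.Prime → p ∣ K.index → p ∉ π := by
      intro p hp hd hpπ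
      haveI : Fact p.Prime := ⟨hp⟩
      obtain ⟨P⟩ : Nonempty (Sylow p G) := inferInstance
      exact P.not_dvd_index (hd.trans (Subgroup.index_dvd_of_le fun x hx => hsyl p hp hpπ x
        (by
          obtain ⟨a, ha⟩ := IsPGroup.iff_orderOf.1 P.isPGroup' ⟨x, hx⟩
          exact ⟨a, by rwa [Subgroup.orderOf_mk] at ha⟩)))
    refine ⟨⟨2, ![⊥, K, ⊤], rfl, rfl, Fin.monotone_iff_le_succ.2 (fun i => ?_), fun i => ?_, fun i => ?_⟩, ?_⟩
    · fin_cases i <;> simp
    · fin_cases i <;> simp <;> first | infer_instance | exact hKn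
    · fin_cases i
      · left
        intro p hp hd
        simp [Subgroup.relIndex_bot_left] at hd
        exact hKpi p hp hd
      · right
        intro p hp hd
        simp [Subgroup.relIndex_top_right] at hd
        exact hidx p hp hd
    · intro H _ hH p hp hd hpπ
      haveI : Fact p.Prime := ⟨hp⟩
      obtain ⟨P⟩ : Nonempty (Sylow p ↥(Subgroup.normalizer (H : Set G))) := inferInstance
      refine P.not_dvd_index (hd.trans (Subgroup.index_dvd_of_le ?_))
      intro x hx
      refine Subgroup.mem_subgroupOf.2 (Subgroup.mem_centralizer_iff.2 fun h hh => ?_)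
      have hxK : (x : G) ∈ K := by
        obtain ⟨a, ha⟩ := IsPGroup.iff_orderOf.1 P.isPGroup' ⟨x, hx⟩
        rw [Subgroup.orderOf_mk] at ha
        exact hsyl p hp hpπ x ⟨a, by rw [Subgroup.orderOf_coe, ha]⟩
      have h1 : h * x * h⁻¹ * (x : G)⁻¹ ∈ K ⊓ H := by
        refine Subgroup.mem_inf.2 ⟨mul_mem (hKn.conj_mem _ hxK h) (inv_mem hxK), ?_⟩
        rw [show h * (x : G) * h⁻¹ * (x : G)⁻¹ = h * ((x : G) * h⁻¹ * (x : G)⁻¹) by group]
        exact mul_mem hh ((Subgroup.mem_normalizer_iff.1 x.2 _).1 (inv_mem hh))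
      have h2 : K ⊓ H = ⊥ := Subgroup.inf_eq_bot_of_coprime
        (Nat.coprime_of_dvd fun r hr hr1 hr2 => hH r hr hr2 (hKpi r hr hr1))
      rw [h2, Subgroup.mem_bot] at h1
      calc h * x = h * x * h⁻¹ * (x : G)⁻¹ * ((x : G) * h) := by group
        _ = x * h := by rw [h1, one_mul]
  · rintro ⟨hsep, hhom⟩
    refine ⟨Cfsg.piCore π G, fun x => ⟨fun hx p hp hd => ?_, fun hx => ?_⟩⟩
    · exact Cfsg.Lib.Core.piCore_isPiSub π G p hp (hd.trans (Subgroup.orderOf_dvd_natCard _ hx))
    · have key : ∀ p : ℕ, p.Prime → p ∣ (Cfsg.piCore π G).index → p ∉ π := by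
        intro p hp hd hpπ
        haveI : Fact p.Prime := ⟨hp⟩
        obtain ⟨P⟩ : Nonempty (Sylow p G) := inferInstance
        exact P.not_dvd_index (hd.trans (Subgroup.index_dvd_of_le fun z hz => by
          obtain ⟨a, ha⟩ := IsPGroup.iff_orderOf.1 P.isPGroup' ⟨z, hz⟩
          rw [Subgroup.orderOf_mk] at ha
          exact mem_piCore π hsep hhom hpπ ha))
      refine (QuotientGroup.eq_one_iff x).1 (orderOf_eq_one_iff.1 ?_)
      by_contra hne
      obtain ⟨p, hp, hd⟩ := Nat.exists_prime_and_dvd hne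
      exact key p hp (hd.trans (orderOf_dvd_natCard _))
        (hx p hp (hd.trans (orderOf_map_dvd (QuotientGroup.mk' (Cfsg.piCore π G)) x)))

end Cfsg.Agent.S4050
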