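import Cfsg.Statements.S4051
import Cfsg.Agent.Lib.Coprime.Action
import Cfsg.Agent.Lib.Coprime.Conjugacy
import Mathlib.GroupTheory.SchurZassenhaus
-- import your own Cfsg.Agent.* helpers here

set_option autoImplicit false
open Cfsg

namespace Cfsg.Agent.S4051

open Subgroup

theorem map_parts {G H : Type*} [Group G] [Finite G] [Group H] (f : G →* H) (x : G) {p : ℕ} (hp : p.Prime)
    (h : ∀ y : G, (∃ k, orderOf y = p ^ k) → f y = 1) : ¬ p ∣ orderOf (f x) := by
  obtain ⟨a, m, hm, hx⟩ := Nat.exists_eq_pow_mul_and_not_dvd (orderOf_pos x).ne' p hp.ne_one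
  obtain ⟨k, -, hk⟩ := (Nat.dvd_prime_pow hp).mp (orderOf_dvd_of_pow_eq_one
    (x := x ^ m) (n := p ^ a) (by rw [← pow_mul, mul_comm, ← hx, pow_orderOf_eq_one]))
  have h1 := h (x ^ m) ⟨k, hk⟩
  rw [map_pow] at h1
  exact fun hd => hm (hd.trans (orderOf_dvd_of_pow_eq_one h1))

theorem centralizes {G : Type*} [Group G] [Finite G] {π : Set ℕ} (hπ : ∀ p ∈ π, p.Prime)
    (hhom : ∀ H : Subgroup G, H ≠ ⊥ → (∀ p : ℕ, p.Prime → p ∣ Nat.card ↥H → p ∉ π) →
      ∀ p : ℕ, p.Prime → p ∣ (centralizer (H : Set G)).relIndex (normalizer (H : Set G)) → p ∉ π)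
    (L K : Subgroup G) [L.Normal] [K.Normal]
    (hL : ∀ p : ℕ, p.Prime → p ∣ Nat.card L → p ∈ π)
    (hKL : ∀ p ∈ π, ¬ p ∣ Nat.card (K.map (QuotientGroup.mk' L)))
    {p : ℕ} (hpπ : p ∈ π) {x : G} {a : ℕ} (hx : orderOf x = p ^ a) :
    ∀ u ∈ K.map (QuotientGroup.mk' L), u * QuotientGroup.mk' L x = QuotientGroup.mk' L x * u := by
  classical
  have hp := hπ p hpπ
  set f := QuotientGroup.mk' L with hf
  have hKn : (K.map f).Normal := Normal.map inferInstance _ (QuotientGroup.mk'_surjective L)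
  obtain ⟨b, -, hxb⟩ := (Nat.dvd_prime_pow hp).mp (hx ▸ orderOf_map_dvd f x)
  have hcop : (Nat.card (zpowers (f x))).Coprime (Nat.card (K.map f)) := by
    rw [Nat.card_zpowers, hxb]
    exact (hp.coprime_iff_not_dvd.mpr (hKL p hpπ)).pow_left b
  suffices h : K.map f ≤ centralizer {f x} from fun u hu => mem_centralizer_singleton_iff.mp (h hu)
  refine inf_eq_left.mp (eq_of_le_of_card_ge inf_le_left (Nat.le_of_dvd Nat.card_pos ?_))
  rw [Nat.dvd_iff_prime_pow_dvd_dvd]
  intro q k hq hqk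
  by_cases hk0 : k = 0
  · simp [hk0]
  have := Fact.mk hq
  have hqK : q ∣ Nat.card (K.map f) := (dvd_pow_self q hk0).trans hqk
  have hqπ : q ∉ π := fun h => hKL q h hqK
  obtain ⟨P, hP⟩ := Cfsg.Lib.Coprime.exists_invariant_sylow (X := G ⧸ L) (A := zpowers (f x)) (G := K.map f)
    (by rw [normalizer_eq_top]; exact le_top) hcop (Or.inl inferInstance) q
  set H := (P : Subgroup (K.map f)).map (K.map f).subtype with hH
  have hHcard : Nat.card H = q ^ (Nat.card (K.map f)).factorization q := by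
    rw [hH, card_map_of_injective (subtype_injective _), P.card_eq_multiplicity]
  suffices hc : H ≤ centralizer {f x} by
    refine ((pow_dvd_pow q ((hq.pow_dvd_iff_le_factorization Nat.card_pos.ne').mp hqk)).trans ?_)
    exact hHcard ▸ card_dvd_of_le (le_inf (map_subtype_le _) hc)
  -- lift the invariant Sylow subgroup
  set R := H.comap f with hR
  have hxR : x ∈ normalizer (R : Set G) := by
    refine mem_normalizer_iff.mpr fun u => ?_
    simp only [hR, mem_comap, map_mul, map_inv]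
    exact mem_normalizer_iff.mp (hP (mem_zpowers (f x))) (f u)
  obtain ⟨Q⟩ : Nonempty (Sylow q R) := inferInstance
  set Q' := (Q : Subgroup R).map R.subtype with hQ'
  have hLR : L ≤ R := fun l hl => by
    show f l ∈ H
    rw [show f l = 1 from (QuotientGroup.eq_one_iff l).mpr hl]; exact one_mem _
  have hQL : Disjoint Q' L := by
    refine Cfsg.Lib.Coprime.disjoint_of_coprime_card ?_
    rw [hQ', card_map_of_injective R.subtype_injective, Q.card_eq_multiplicity]
    exact (hq.coprime_iff_not_dvd.mpr fun h => hqπ (hL q hq h)).pow_left _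
  have hQR : Q' ≤ R := map_subtype_le _
  have himg : Q'.map f = H := by
    refine eq_of_le_of_card_ge (map_le_iff_le_comap.mpr hQR) (le_of_eq ?_)
    have hinj : Function.Injective (f.comp Q'.subtype) := (injective_iff_map_eq_one _).mpr fun u hu =>
      Subtype.ext (mem_bot.mp (hQL.le_bot ⟨u.2, (QuotientGroup.eq_one_iff (u : G)).mp hu⟩))
    have h1 : Nat.card (Q'.map f) = Nat.card Q' := by
      rw [show Q'.map f = (f.comp Q'.subtype).range by rw [MonoidHom.range_comp, range_subtype]]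
      exact (Nat.card_congr (MonoidHom.ofInjective hinj).toEquiv).symm
    rw [h1, hQ', card_map_of_injective R.subtype_injective, Q.card_eq_multiplicity, hHcard]
    congr 1
    have hRc : Nat.card R = Nat.card L * Nat.card H := by
      rw [← card_mul_index (L.subgroupOf R), Nat.card_congr (subgroupOfEquivOfLe hLR).toEquiv]
      congr 1
      have : L = (⊥ : Subgroup (G ⧸ L)).comap f := by
        rw [MonoidHom.comap_bot, hf, QuotientGroup.ker_mk']
      show L.relIndex R = _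
      conv_lhs => rw [this]
      rw [relIndex_comap, map_comap_eq_self_of_surjective (QuotientGroup.mk'_surjective L), relIndex_bot_left]
    rw [hRc, Nat.factorization_mul Nat.card_pos.ne' Nat.card_pos.ne', Finsupp.add_apply,
      Nat.factorization_eq_zero_of_not_dvd (fun h => hqπ (hL q hq h)), zero_add, hHcard,
      hq.factorization_pow, Finsupp.single_eq_same]
  obtain ⟨Q₂, hQ₂⟩ := Cfsg.Lib.Coprime.exists_sylow_eq_conj Q hxR
  obtain ⟨l, hl, hlQ⟩ := Cfsg.Lib.Coprime.exists_sylow_conj Q Q₂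
  rw [hQ₂] at hlQ
  obtain ⟨q', hq', hfq⟩ : f l ∈ Q'.map f := himg ▸ hl
  set y := q' * (l⁻¹ * x) with hy
  have hyN : y ∈ normalizer (Q' : Set G) := by
    refine mul_mem (le_normalizer hq') ?_
    rw [mem_normalizer_iff_map_conj_eq]
    show Q'.map (MulAut.conj (l⁻¹ * x)).toMonoidHom = Q'
    rw [← Cfsg.Lib.Coprime.map_conj_conj, hlQ, Cfsg.Lib.Coprime.map_conj_conj, inv_mul_cancel,
      Cfsg.Lib.Coprime.map_conj_one]
  have hfy : f y = f x := by
    rw [hy, map_mul, map_mul, hfq, map_inv, mul_inv_cancel_left]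
  by_cases hQb : Q' = ⊥
  · rw [← himg, hQb, Subgroup.map_bot]; exact bot_le
  set C := centralizer (Q' : Set G) with hC
  set r := C.relIndex (normalizer (Q' : Set G)) with hr
  have hpr : ¬ p ∣ r := fun h => hhom Q' hQb (fun s hs hsd hsπ => by
    rw [hQ', card_map_of_injective R.subtype_injective, Q.card_eq_multiplicity] at hsd
    exact hqπ ((Nat.prime_dvd_prime_iff_eq hs hq).mp (hs.dvd_of_dvd_pow hsd) ▸ hsπ)) p hp h hpπ
  have hCn : (C.subgroupOf (normalizer (Q' : Set G))).Normal := by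
    rw [hC, ← normalizerMonoidHom_ker]; infer_instance
  have hyC : y ^ r ∈ C := by
    have := pow_index_mem (C.subgroupOf (normalizer (Q' : Set G))) ⟨y, hyN⟩
    rwa [mem_subgroupOf, coe_pow] at this
  intro u hu
  rw [← himg] at hu
  obtain ⟨v, hv, rfl⟩ := hu
  have h1 : Commute (f v) (f x ^ r) := by
    rw [← hfy, ← map_pow]
    exact (show Commute v (y ^ r) from hyC v hv).map f
  rw [mem_centralizer_singleton_iff]
  obtain ⟨s, hs⟩ := exists_pow_eq_self_of_coprime (x := f x) (n := r)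
    (by rw [hxb]; exact ((hp.coprime_iff_not_dvd.mpr hpr).pow_left b).symm)
  rw [← hs]
  exact (h1.pow_right s).eq


/-- Let π be a set of primes and G a finite group such that N_G(H)/C_G(H) is a π'-group for every nontrivial π'-subgroup H of G. If K is a normal subgroup of G such that the π-elements of K form a subgroup and the π-elements of G/K form a subgroup, then the π-elements of G form a subgroup. -/
theorem result {G : Type*} [Group G] [Finite G] (π : Set ℕ)
    (hπ : ∀ p ∈ π, p.Prime) (hhom : (∀ H : Subgroup G, H ≠ ⊥ → (∀ p : ℕ, p.Prime → p ∣ Nat.card ↥H → p ∉ π) →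
        ∀ p : ℕ, p.Prime → p ∣ (Subgroup.centralizer (H : Set G)).relIndex (Subgroup.normalizer (H : Set G)) → p ∉ π))
    (K : Subgroup G) [K.Normal]
    (hK : ∃ L : Subgroup ↥K, ∀ x : ↥K, x ∈ L ↔ ∀ p : ℕ, p.Prime → p ∣ orderOf x → p ∈ π)
    (hQ : ∃ L : Subgroup (G ⧸ K), ∀ x : G ⧸ K, x ∈ L ↔ ∀ p : ℕ, p.Prime → p ∣ orderOf x → p ∈ π) :
    (∃ K : Subgroup G, ∀ x : G, x ∈ K ↔ ∀ p : ℕ, p.Prime → p ∣ orderOf x → p ∈ π) := by
  classical
  obtain ⟨L0, hL0⟩ := hK
  set L := L0.map K.subtype with hLdef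
  have hmem : ∀ x : G, x ∈ L ↔ x ∈ K ∧ ∀ p : ℕ, p.Prime → p ∣ orderOf x → p ∈ π := by
    intro x
    constructor
    · rintro ⟨y, hy, rfl⟩
      exact ⟨y.2, by simpa [Subgroup.orderOf_coe] using (hL0 y).mp hy⟩
    · rintro ⟨hx, h⟩
      exact ⟨⟨x, hx⟩, (hL0 _).mpr (by simpa [← Subgroup.orderOf_coe] using h), rfl⟩
  have hLn : L.Normal := ⟨fun x hx g => by
    rw [hmem] at hx ⊢
    refine ⟨(inferInstance : K.Normal).conj_mem x hx.1 g, ?_⟩
    rw [show g * x * g⁻¹ = MulAut.conj g x from rfl, MulEquiv.orderOf_eq]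
    exact hx.2⟩
  have hLπ : ∀ p : ℕ, p.Prime → p ∣ Nat.card L → p ∈ π := fun p hp hd => by
    have := Fact.mk hp
    obtain ⟨x, hx⟩ := exists_prime_orderOf_dvd_card' p hd
    rw [← Subgroup.orderOf_coe] at hx
    exact ((hmem x).mp x.2).2 p hp (hx ▸ dvd_rfl)
  set f := QuotientGroup.mk' L with hf
  have hKL : ∀ p ∈ π, ¬ p ∣ Nat.card (K.map f) := fun p hpπ hd => by
    have := Fact.mk (hπ p hpπ)
    obtain ⟨⟨_, z, hz, rfl⟩, hu⟩ := exists_prime_orderOf_dvd_card' p hd
    rw [← Subgroup.orderOf_coe] at hu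
    refine map_parts (f.comp K.subtype) ⟨z, hz⟩ (hπ p hpπ) (fun y ⟨k, hk⟩ => ?_) (hu ▸ dvd_rfl)
    refine (QuotientGroup.eq_one_iff (y : G)).mpr ((hmem y).mpr ⟨y.2, fun s hs hsd => ?_⟩)
    rw [Subgroup.orderOf_coe, hk] at hsd
    exact (Nat.prime_dvd_prime_iff_eq hs (hπ p hpπ)).mp (hs.dvd_of_dvd_pow hsd) ▸ hpπ
  have hKn : (K.map f).Normal := Subgroup.Normal.map inferInstance _ (QuotientGroup.mk'_surjective L)
  -- `π`-elements centralise `K / L`
  have hcent : ∀ x : G, (∀ p : ℕ, p.Prime → p ∣ orderOf x → p ∈ π) →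
      ∀ u ∈ K.map f, u * f x = f x * u := by
    intro x hx
    let φ : G →* MulAut (K.map f) := MulAut.conjNormal.comp f
    have h1 : φ x = 1 := by
      rw [← orderOf_eq_one_iff]
      by_contra hne
      obtain ⟨p, hp, hpd⟩ := Nat.exists_prime_and_dvd hne
      have hpπ := hx p hp (hpd.trans (orderOf_map_dvd φ x))
      refine map_parts φ x hp (fun y ⟨k, hk⟩ => ?_) hpd
      refine MulEquiv.ext fun u => Subtype.ext ?_
      show f y * (u : G ⧸ L) * (f y)⁻¹ = u
      rw [← centralizes hπ hhom L K hLπ hKL hpπ hk u u.2, mul_inv_cancel_right]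
    intro u hu
    have h2 : f x * u * (f x)⁻¹ = u := congrArg (fun e : MulAut (K.map f) => (e ⟨u, hu⟩ : G ⧸ L)) h1
    exact (mul_inv_eq_iff_eq_mul.mp h2).symm
  -- the subgroup generated by the `π`-elements
  obtain ⟨LQ, hLQ⟩ := hQ
  set S := Subgroup.closure {x : G | ∀ p : ℕ, p.Prime → p ∣ orderOf x → p ∈ π} with hS
  set M := S.map f with hM
  set Z := (K.map f).subgroupOf M with hZ
  have hZc : Z ≤ Subgroup.center M := by
    intro z hz
    rw [Subgroup.mem_center_iff]
    rintro ⟨m, hm⟩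
    refine Subtype.ext ?_
    have : M ≤ Subgroup.centralizer ((K.map f : Subgroup (G ⧸ L)) : Set (G ⧸ L)) := by
      rw [hM, hS, MonoidHom.map_closure, Subgroup.closure_le]
      rintro _ ⟨x, hx, rfl⟩ u hu
      exact hcent x hx u hu
    exact (this hm _ hz).symm
  have hZπ : ∀ p ∈ π, ¬ p ∣ Nat.card Z := fun p hp h => by
    refine hKL p hp (h.trans ?_)
    rw [hZ, ← Subgroup.inf_subgroupOf_right, Nat.card_congr (Subgroup.subgroupOfEquivOfLe inf_le_right).toEquiv]
    exact Subgroup.card_dvd_of_le inf_le_left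
  have hZi : ∀ p : ℕ, p.Prime → p ∣ Z.index → p ∈ π := fun p hp hd => by
    have := Fact.mk hp
    rw [Subgroup.index_eq_card] at hd
    obtain ⟨w, hw⟩ := exists_prime_orderOf_dvd_card' p hd
    obtain ⟨⟨_, x, hx, rfl⟩, rfl⟩ := QuotientGroup.mk'_surjective Z w
    let τ : G →* G ⧸ K := QuotientGroup.mk' K
    have h1 : τ x ∈ LQ := by
      have : S ≤ LQ.comap τ := by
        rw [hS, Subgroup.closure_le]
        exact fun y hy => (hLQ _).mpr fun s hs hsd => hy s hs (hsd.trans (orderOf_map_dvd τ y))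
      exact this hx
    refine (hLQ _).mp h1 p hp ?_
    rw [← hw]
    refine orderOf_dvd_of_pow_eq_one ?_
    rw [← map_pow]
    refine (QuotientGroup.eq_one_iff _).mpr ?_
    refine Subgroup.mem_subgroupOf.mpr ?_
    rw [Subgroup.coe_pow]
    show f x ^ orderOf (τ x) ∈ K.map f
    rw [← map_pow]
    refine Subgroup.mem_map_of_mem f ((QuotientGroup.eq_one_iff _).mp ?_)
    rw [QuotientGroup.mk_pow]
    exact pow_orderOf_eq_one (τ x)
  have hZn : Z.Normal := hKn.subgroupOf M
  have hcop : (Nat.card Z).Coprime Z.index := Nat.coprime_of_dvd fun p hp h1 h2 => hZπ p (hZi p hp h2) h1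
  obtain ⟨B, hB⟩ := Subgroup.exists_right_complement'_of_coprime hcop
  have hBn : B.Normal := ⟨fun b hb g => by
    obtain ⟨⟨⟨z, hz⟩, ⟨c, hc⟩⟩, rfl⟩ := hB.2 g
    have h1 : z * (c * b * c⁻¹) = (c * b * c⁻¹) * z := ((Subgroup.mem_center_iff.mp (hZc hz)) _).symm
    show z * c * b * (z * c)⁻¹ ∈ B
    rw [show z * c * b * (z * c)⁻¹ = z * (c * b * c⁻¹) * z⁻¹ by group, h1, mul_inv_cancel_right]
    exact mul_mem (mul_mem hc hb) (inv_mem hc)⟩
  have hSB : ∀ m : M, (∀ p : ℕ, p.Prime → p ∣ orderOf m → p ∈ π) → m ∈ B := fun m hm => by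
    have h2 : orderOf (QuotientGroup.mk' B m) ∣ Nat.card Z := by
      rw [← hB.index_eq_card, Subgroup.index_eq_card]; exact orderOf_dvd_natCard _
    refine (QuotientGroup.eq_one_iff m).mp (orderOf_eq_one_iff.mp ?_)
    by_contra hne
    obtain ⟨p, hp, hpd⟩ := Nat.exists_prime_and_dvd hne
    exact hZπ p (hm p hp (hpd.trans (orderOf_map_dvd (QuotientGroup.mk' B) m))) (hpd.trans h2)
  have hSB' : ∀ x (hx : x ∈ S), (⟨f x, Subgroup.mem_map_of_mem f hx⟩ : M) ∈ B := fun x hx => by
    induction hx using Subgroup.closure_induction with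
    | mem y hy => exact hSB _ fun p hp hd => hy p hp (by
        rw [← Subgroup.orderOf_coe] at hd
        exact hd.trans (orderOf_map_dvd f y))
    | one => convert B.one_mem using 1; exact Subtype.ext (map_one f)
    | mul y z _ _ hy hz => convert B.mul_mem hy hz using 1; exact Subtype.ext (map_mul f y z)
    | inv y _ hy => convert B.inv_mem hy using 1; exact Subtype.ext (map_inv f y)
  have hBtop : B = ⊤ := eq_top_iff.mpr fun m _ => by
    obtain ⟨m, x, hx, rfl⟩ := m
    exact hSB' x hx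
  refine ⟨S, fun x => ⟨fun hx p hp hd => ?_, fun hx => Subgroup.subset_closure hx⟩⟩
  by_cases hpL : p ∣ orderOf (f x)
  · refine hZi p hp ?_
    rw [hB.symm.index_eq_card, hBtop, Subgroup.card_top]
    exact hpL.trans (Subgroup.orderOf_dvd_natCard M (Subgroup.mem_map_of_mem f hx))
  · refine hLπ p hp ?_
    have h1 : x ^ orderOf (f x) ∈ L := by
      rw [← QuotientGroup.eq_one_iff, QuotientGroup.mk_pow]; exact pow_orderOf_eq_one (f x)
    refine dvd_trans ?_ (Subgroup.orderOf_dvd_natCard L h1)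
    rw [orderOf_pow]
    obtain ⟨c, hc⟩ := Nat.gcd_dvd_left (orderOf x) (orderOf (f x))
    nth_rewrite 1 [hc]
    rw [Nat.mul_div_cancel_left _ (Nat.gcd_pos_of_pos_left _ (orderOf_pos x))]
    exact ((hp.dvd_mul.mp (hc ▸ hd)).resolve_left fun h => hpL (h.trans (Nat.gcd_dvd_right _ _)))

end Cfsg.Agent.S4051
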