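import Cfsg.Statements.S4052
import Cfsg.Agent.Lib.Char.SectionExtension
import Cfsg.Agent.Lib.Fusion.Alperin

set_option autoImplicit false
open Cfsg

namespace Cfsg.Agent.S4052

universe u

set_option linter.style.haveILetI false
open Subgroup
open Cfsg.Lib.Fusion (lt_inf_normalizer card_lt_card_of_lt)
open scoped Pointwise

section

variable {G : Type u} [Group G]

/-- All prime divisors of the natural number lie in the set. -/
def PiNum (π : Set ℕ) (n : ℕ) : Prop := ∀ p : ℕ, p.Prime → p ∣ n → p ∈ π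

theorem PiNum.of_dvd {π : Set ℕ} {a b : ℕ} (h : PiNum π b) (hd : a ∣ b) : PiNum π a :=
  fun p hp hpa => h p hp (hpa.trans hd)

/-- `c⁻¹ Q c ≤ H` for some `c`, for every π-subgroup `Q`. -/
structure Dom (π : Set ℕ) (H : Subgroup G) : Prop where
  isPi : PiNum π (Nat.card H)
  dom : ∀ Q : Subgroup G, PiNum π (Nat.card Q) → ∃ c : G, ∀ x ∈ Q, c⁻¹ * x * c ∈ H
  hom : ∀ R : Subgroup G, R ≠ ⊥ → PiNum π (Nat.card R) →
    PiNum π ((centralizer (R : Set G)).relIndex (normalizer (R : Set G)))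

theorem conj_map {g : G} {R : Subgroup G} {x : G} :
    x ∈ R.map (MulAut.conj g).toMonoidHom ↔ g⁻¹ * x * g ∈ R := by
  constructor
  · rintro ⟨y, hy, rfl⟩
    simpa [mul_assoc] using hy
  · intro h
    exact ⟨_, h, by simp [mul_assoc]⟩

theorem mem_map_conj {g : G} {R : Subgroup G} {x : G} (hx : x ∈ R) :
    g * x * g⁻¹ ∈ R.map (MulAut.conj g).toMonoidHom := conj_map.2 (by simpa [mul_assoc] using hx)

theorem card_map_conj (g : G) (R : Subgroup G) :
    Nat.card (R.map (MulAut.conj g).toMonoidHom) = Nat.card R :=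
  card_map_of_injective (MulAut.conj g).injective

variable [Finite G] {π : Set ℕ} {H : Subgroup G}

theorem piNum_of_isPGroup {p : ℕ} [hp : Fact p.Prime] (hpπ : p ∈ π) {R : Subgroup G} (hR : IsPGroup p R) :
    PiNum π (Nat.card R) := by
  obtain ⟨k, hk⟩ := IsPGroup.iff_card.1 hR
  intro q hq hqd
  rw [hk] at hqd
  rwa [(Nat.prime_dvd_prime_iff_eq hq hp.out).1 (hq.dvd_of_dvd_pow hqd)]

/-- A dominating π-subgroup has index prime to π. -/
theorem Dom.index_not_dvd (hH : Dom π H) {p : ℕ} [hp : Fact p.Prime] (hpπ : p ∈ π) : ¬ p ∣ H.index := by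
  obtain ⟨S⟩ : Nonempty (Sylow p G) := inferInstance
  obtain ⟨c, hc⟩ := hH.dom S (piNum_of_isPGroup hpπ S.2)
  have hd : Nat.card S ∣ Nat.card H := by
    rw [← card_map_conj c⁻¹ (S : Subgroup G)]
    refine card_dvd_of_le ?_
    rintro _ ⟨y, hy, rfl⟩
    simpa using hc y hy
  intro hpi
  refine S.not_dvd_index ?_
  have h1 := H.card_mul_index
  rw [← (S : Subgroup G).card_mul_index] at h1
  obtain ⟨a, ha⟩ := hd
  rw [ha, mul_assoc] at h1
  exact (hpi.trans (Dvd.intro_left a rfl)).trans (Nat.eq_of_mul_eq_mul_left Nat.card_pos h1).dvd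

/-- If π-subgroups of the normalizer of `R` can be moved into `H` there, `H` covers the automiser of `R`. -/
theorem Dom.cover (hH : Dom π H) {R : Subgroup G} (hR : PiNum π (Nat.card R))
    (hNdom : ∀ Q : Subgroup G, PiNum π (Nat.card Q) → Q ≤ normalizer (R : Set G) →
      ∃ d ∈ normalizer (R : Set G), ∀ x ∈ Q, d⁻¹ * x * d ∈ H) :
    ∀ n ∈ normalizer (R : Set G), ∃ a ∈ H ⊓ normalizer (R : Set G), ∃ z ∈ centralizer (R : Set G), n = a * z := by
  set N := normalizer (R : Set G) with hN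
  set C := centralizer (R : Set G) with hC
  have hCN : C ≤ N := centralizer_le_normalizer _
  have hHNC : H ⊓ N ≤ normalizer (C : Set G) := by
    refine fun a ha => Cfsg.Lib.Fusion.le_normalizer_of_conj_mem fun z hz => ?_
    intro r hr
    have h6 : a⁻¹ * r * a ∈ R := by
      simpa using (mem_normalizer_iff.1 (N.inv_mem ha.2) r).1 hr
    have h7 : a⁻¹ * r * a * z = z * (a⁻¹ * r * a) := hz _ h6
    calc r * (a * z * a⁻¹) = a * (a⁻¹ * r * a * z) * a⁻¹ := by group
      _ = a * z * a⁻¹ * r := by rw [h7]; group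
  have hidx : ((H ⊓ N) ⊔ C).relIndex N = 1 := by
    by_contra hne
    obtain ⟨q, hq, hqd⟩ := Nat.exists_prime_and_dvd hne
    haveI := Fact.mk hq
    have hqπ : q ∈ π := by
      rcases eq_or_ne R ⊥ with h0 | h0
      · have hCt : C = ⊤ := top_le_iff.1 fun x _ r hr => by
          rw [h0] at hr; rw [(mem_bot.1 hr : r = 1), one_mul, mul_one]
        rw [hCt, sup_top_eq, relIndex_top_left] at hqd
        exact absurd hqd hq.not_dvd_one
      · exact (hH.hom R h0 hR) q hq
          (hqd.trans (relIndex_dvd_of_le_left _ le_sup_right))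
    obtain ⟨Q⟩ : Nonempty (Sylow q N) := inferInstance
    obtain ⟨d, hd, hdQ⟩ := hNdom _ (piNum_of_isPGroup hqπ (Q.2.map N.subtype)) (map_subtype_le _)
    refine Q.not_dvd_index (hqd.trans ?_)
    have hQ' : (Q : Subgroup N).map (MulAut.conj (⟨d, hd⟩ : N)⁻¹).toMonoidHom ≤
        ((H ⊓ N) ⊔ C).subgroupOf N := by
      rintro _ ⟨y, hy, rfl⟩
      refine mem_subgroupOf.2 (mem_sup_left ⟨?_, SetLike.coe_mem _⟩)
      simpa using hdQ _ ⟨y, hy, rfl⟩
    have hi := index_dvd_of_le hQ'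
    rw [Subgroup.index_map_of_bijective (MulEquiv.bijective (MulAut.conj (⟨d, hd⟩ : N)⁻¹))] at hi
    exact hi
  intro n hn
  have h8 : n ∈ (H ⊓ N) ⊔ C := relIndex_eq_one.1 hidx hn
  rw [← SetLike.mem_coe, coe_mul_of_left_le_normalizer_right _ _ hHNC] at h8
  obtain ⟨a, ha, z, hz, rfl⟩ := h8
  exact ⟨a, ha, z, hz, rfl⟩

/-- A dominating π-subgroup controls the fusion of its p-subgroups. -/
theorem Dom.control (hH : Dom π H) {p : ℕ} [hp : Fact p.Prime] (hpπ : p ∈ π) :
    ∀ R : Subgroup G, R ≤ H → IsPGroup p R →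
      (∀ g : G, (∀ x ∈ R, g * x * g⁻¹ ∈ H) → ∃ h ∈ H, ∀ x ∈ R, g * x * g⁻¹ = h * x * h⁻¹) ∧
      (∀ Q : Subgroup G, PiNum π (Nat.card Q) → Q ≤ centralizer (R : Set G) →
        ∃ c ∈ centralizer (R : Set G), ∀ x ∈ Q, c⁻¹ * x * c ∈ H) := by
  intro R
  induction hn : Nat.card G - Nat.card R using Nat.strong_induction_on generalizing R with
  | _ m ih =>
  subst hn
  intro hRH hR
  have big : ∀ (T : Subgroup G), Nat.card R < Nat.card T → T ≤ H → IsPGroup p T →
      ∀ g : G, (∀ x ∈ T, g * x * g⁻¹ ∈ H) → ∃ h ∈ H, ∀ x ∈ T, g * x * g⁻¹ = h * x * h⁻¹ :=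
    fun T hlt h1 h2 => (ih _ (by have := card_le_card_group T; omega) T rfl h1 h2).1
  set N := normalizer (R : Set G) with hN
  have hRN : R ≤ N := le_normalizer
  -- a Sylow subgroup of the normalizer, moved into `H`
  obtain ⟨S⟩ : Nonempty (Sylow p N) := inferInstance
  set S₁ := (S : Subgroup N).map N.subtype with hS₁
  have hS₁p : IsPGroup p S₁ := S.2.map _
  obtain ⟨c, hc⟩ := hH.dom S₁ (piNum_of_isPGroup hpπ hS₁p)
  have hRS : R ≤ S₁ := fun x hx => by
    have h1 : (R.subgroupOf N).Normal := normal_in_normalizer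
    exact ⟨⟨x, hRN hx⟩, (hR.of_equiv (subgroupOfEquivOfLe hRN).symm).le_sylow_of_normal S
      (mem_subgroupOf.2 hx), rfl⟩
  -- every conjugate of `R` inside `H` is conjugate to `c⁻¹ R c` inside `H`
  have hset : ∀ g : G, (∀ x ∈ R, g * x * g⁻¹ ∈ H) →
      ∃ h ∈ H, ∀ x ∈ R, h⁻¹ * (g * x * g⁻¹) * h ∈ R.map (MulAut.conj c⁻¹).toMonoidHom := by
    intro g hg
    set R' := R.map (MulAut.conj g).toMonoidHom with hR'
    have hR'H : R' ≤ H := by
      rintro _ ⟨x, hx, rfl⟩
      exact hg x hx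
    obtain ⟨T₀, hT₀⟩ := ((hR.map _ : IsPGroup p R').of_equiv (subgroupOfEquivOfLe hR'H).symm).exists_le_sylow
    set P := (T₀ : Subgroup H).map H.subtype with hP
    have hPH : P ≤ H := map_subtype_le _
    have hR'P : R' ≤ P := fun x hx => ⟨⟨x, hR'H hx⟩, hT₀ (mem_subgroupOf.2 hx), rfl⟩
    have hPp : IsPGroup p P := T₀.2.map _
    rcases eq_or_lt_of_le hR'P with he | hlt
    · -- `R'` is a Sylow subgroup of `H`, so is the other conjugate
      have hR₀H : R.map (MulAut.conj c⁻¹).toMonoidHom ≤ H := by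
        rintro _ ⟨x, hx, rfl⟩
        simpa using hc x (hRS hx)
      obtain ⟨U, hU⟩ := ((hR.map _ : IsPGroup p (R.map (MulAut.conj c⁻¹).toMonoidHom)).of_equiv
        (subgroupOfEquivOfLe hR₀H).symm).exists_le_sylow
      obtain ⟨h, hh⟩ := MulAction.exists_smul_eq H T₀ U
      have hUeq : (U : Subgroup H) = (R.map (MulAut.conj c⁻¹).toMonoidHom).subgroupOf H := by
        refine (eq_of_le_of_card_ge hU (le_of_eq ?_)).symm
        rw [Nat.card_congr (subgroupOfEquivOfLe hR₀H).toEquiv, card_map_conj, ← card_map_conj g R, ← hR', he, hP,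
          card_map_of_injective H.subtype_injective, ← hh]
        exact Nat.card_congr (Sylow.equiv _ _).toEquiv
      refine ⟨(h : G)⁻¹, inv_mem h.2, fun x hx => ?_⟩
      obtain ⟨y, hy, hyx⟩ : g * x * g⁻¹ ∈ P := hR'P (mem_map_conj hx)
      have hy' : (y : G) = g * x * g⁻¹ := hyx
      have h1 : h * y * h⁻¹ ∈ (U : Subgroup H) := by
        rw [← hh]
        exact ⟨y, hy, rfl⟩
      rw [hUeq, mem_subgroupOf] at h1
      rw [← hy', inv_inv]
      simpa using h1
    · -- the normalizer of `R'` in `P` is larger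
      set T := P ⊓ normalizer (R' : Set G) with hT
      have hTlt : R' < T := lt_inf_normalizer hPp hlt
      have hTp : IsPGroup p T := hPp.to_le inf_le_left
      have hgN : ∀ x ∈ normalizer (R' : Set G), g⁻¹ * x * g ∈ N := by
        intro x hx
        rw [hR', ← map_equiv_normalizer_eq R (MulAut.conj g)] at hx
        exact conj_map.1 hx
      have hTN : T.map (MulAut.conj g⁻¹).toMonoidHom ≤ N := by
        rintro _ ⟨x, hx, rfl⟩
        simpa using hgN x hx.2
      obtain ⟨S', hS'⟩ := ((hTp.map _ : IsPGroup p (T.map (MulAut.conj g⁻¹).toMonoidHom)).of_equiv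
        (subgroupOfEquivOfLe hTN).symm).exists_le_sylow
      obtain ⟨n, hn⟩ := MulAction.exists_smul_eq N S' S
      have hg' : ∀ x ∈ T, c⁻¹ * n * g⁻¹ * x * (c⁻¹ * n * g⁻¹)⁻¹ ∈ H := by
        intro x hx
        have h0 : g⁻¹ * x * g ∈ N := hgN x hx.2
        have h1 : n * ⟨_, h0⟩ * n⁻¹ ∈ (S : Subgroup N) := by
          rw [← hn]
          exact ⟨⟨_, h0⟩, hS' (mem_subgroupOf.2 (conj_map.2 (by simpa [mul_assoc] using hx))), rfl⟩
        have h2 := hc _ ⟨_, h1, rfl⟩
        convert h2 using 1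
        simp only [Subgroup.coe_subtype, Subgroup.coe_mul, Subgroup.coe_inv]
        group
      obtain ⟨h, hh, heq⟩ := big T (by rw [← card_map_conj g R]; exact card_lt_card_of_lt hTlt)
        (inf_le_left.trans hPH) hTp _ hg'
      refine ⟨h⁻¹, inv_mem hh, fun x hx => ?_⟩
      have h3 := heq _ (hTlt.le (mem_map_conj hx))
      rw [inv_inv, ← h3, conj_map]
      have h4 : (n : G) * x * (n : G)⁻¹ ∈ R := (mem_normalizer_iff.1 n.2 x).1 hx
      convert h4 using 1
      group
  obtain ⟨h₁, hh₁, hh₁R⟩ := hset 1 (fun x hx => by simpa using hRH hx)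
  -- π-subgroups of the normalizer
  have hNdom : ∀ Q : Subgroup G, PiNum π (Nat.card Q) → Q ≤ N → ∃ d ∈ N, ∀ x ∈ Q, d⁻¹ * x * d ∈ H := by
    intro Q hQ hQN
    have hQR : PiNum π (Nat.card ↥(Q ⊔ R)) := by
      intro q hq hqd
      haveI := Fact.mk hq
      obtain ⟨x, hx⟩ := exists_prime_orderOf_dvd_card' (G := ↥(Q ⊔ R)) q hqd
      rcases em (q ∣ Nat.card R) with hqR | hqR
      · exact piNum_of_isPGroup hpπ hR q hq hqR
      · have hd : Nat.card ↥(Q ⊔ R) ∣ Nat.card Q * Nat.card R := by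
          rw [card_eq_card_quotient_mul_card_subgroup (R.subgroupOf (Q ⊔ R)),
            Nat.card_congr (subgroupOfEquivOfLe (le_sup_right : R ≤ Q ⊔ R)).toEquiv]
          haveI : (R.subgroupOf (Q ⊔ R)).Normal := normal_subgroupOf_of_le_normalizer (sup_le hQN hRN)
          have hsurj : Function.Surjective ((QuotientGroup.mk' (R.subgroupOf (Q ⊔ R))).comp
              (Subgroup.inclusion (le_sup_left : Q ≤ Q ⊔ R))) := by
            intro a
            obtain ⟨⟨b, hb⟩, rfl⟩ := QuotientGroup.mk'_surjective _ a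
            rw [← SetLike.mem_coe, coe_mul_of_left_le_normalizer_right _ _ hQN] at hb
            obtain ⟨u, hu, v, hv, rfl⟩ := hb
            refine ⟨⟨u, hu⟩, QuotientGroup.eq.2 (mem_subgroupOf.2 ?_)⟩
            simpa using hv
          exact Nat.mul_dvd_mul_right (card_dvd_of_surjective _ hsurj) _
        exact hQ q hq ((hq.dvd_mul.1 (hqd.trans hd)).resolve_right hqR)
    obtain ⟨d, hd⟩ := hH.dom _ hQR
    obtain ⟨h, hh, hhR⟩ := hset d⁻¹ fun x hx => by simpa using hd x (mem_sup_right hx)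
    have hk : ∀ x ∈ R, (d * h * h₁⁻¹)⁻¹ * x * (d * h * h₁⁻¹) ∈ R := by
      intro x hx
      obtain ⟨y, hy, hyx⟩ := hhR x hx
      have hy' : c⁻¹ * y * c = h⁻¹ * (d⁻¹ * x * d) * h := by simpa using hyx
      have hmap : ∀ z ∈ R.map (MulAut.conj c⁻¹).toMonoidHom, h₁ * z * h₁⁻¹ ∈ R := by
        intro z hz
        have hinj : (R.map (MulAut.conj h₁⁻¹).toMonoidHom) = R.map (MulAut.conj c⁻¹).toMonoidHom := by
          refine eq_of_le_of_card_ge ?_ (by rw [card_map_conj, card_map_conj])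
          rintro _ ⟨w, hw, rfl⟩
          simpa using hh₁R w hw
        rw [← hinj] at hz
        simpa [mul_assoc] using conj_map.1 hz
      have h5 := hmap _ ⟨y, hy, hyx⟩
      convert h5 using 1
      group
    refine ⟨d * h * h₁⁻¹, ?_, fun x hx => ?_⟩
    · have hmem : (d * h * h₁⁻¹)⁻¹ ∈ N := by
        refine Cfsg.Lib.Fusion.le_normalizer_of_conj_mem fun x hx => ?_
        simpa using hk x hx
      simpa using N.inv_mem hmem
    · have := H.mul_mem (H.mul_mem (H.mul_mem hh₁ (H.inv_mem hh)) (hd x (mem_sup_left hx)))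
        (H.mul_mem hh (H.inv_mem hh₁))
      convert this using 1
      group
  have hsup := hH.cover (piNum_of_isPGroup hpπ hR) hNdom
  refine ⟨fun g hg => ?_, fun Q hQ hQC => ?_⟩
  · obtain ⟨h, hh, hhR⟩ := hset g hg
    have hmem : h₁ * h⁻¹ * g ∈ N := by
      refine Cfsg.Lib.Fusion.le_normalizer_of_conj_mem fun x hx => ?_
      have hinj : (R.map (MulAut.conj h₁⁻¹).toMonoidHom) = R.map (MulAut.conj c⁻¹).toMonoidHom := by
        refine eq_of_le_of_card_ge ?_ (by rw [card_map_conj, card_map_conj])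
        rintro _ ⟨w, hw, rfl⟩
        simpa using hh₁R w hw
      have h5 := hhR x hx
      rw [← hinj] at h5
      have h6 := conj_map.1 h5
      convert h6 using 1
      group
    obtain ⟨a, ha, z, hz, he⟩ := hsup _ hmem
    refine ⟨h * h₁⁻¹ * a, mul_mem (mul_mem hh (inv_mem hh₁)) ha.1, fun x hx => ?_⟩
    have hzx : x * z = z * x := hz x hx
    rw [show g = h * h₁⁻¹ * (h₁ * h⁻¹ * g) by group, he]
    calc h * h₁⁻¹ * (a * z) * x * (h * h₁⁻¹ * (a * z))⁻¹
        = h * h₁⁻¹ * a * (z * x) * z⁻¹ * (h * h₁⁻¹ * a)⁻¹ := by group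
      _ = h * h₁⁻¹ * a * x * (h * h₁⁻¹ * a)⁻¹ := by rw [← hzx]; group
  · obtain ⟨d, hd, hdQ⟩ := hNdom Q hQ (hQC.trans (centralizer_le_normalizer _))
    obtain ⟨a, ha, z, hz, he⟩ := hsup d⁻¹ (inv_mem hd)
    refine ⟨z⁻¹, inv_mem hz, fun x hx => ?_⟩
    have h9 := H.mul_mem (H.mul_mem (H.inv_mem ha.1) (hdQ x hx)) ha.1
    convert h9 using 1
    rw [show d = (a * z)⁻¹ by rw [← he, inv_inv]]
    group

end

/-- A dominating π-subgroup controls the fusion of its elements. -/
theorem Dom.fusion {π : Set ℕ} : ∀ (n : ℕ) {G : Type u} [Group G] [Finite G] {H : Subgroup G}, Dom π H →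
    ∀ x ∈ H, ∀ y ∈ H, orderOf x = n → ∀ g : G, g * x * g⁻¹ = y → ∃ h ∈ H, h * x * h⁻¹ = y := by
  intro n
  induction n using Nat.strong_induction_on with
  | _ n ih =>
  intro G _ _ H hH x hx y hy hn g hg
  rcases eq_or_ne x 1 with rfl | hx1
  · exact ⟨1, H.one_mem, by rw [← hg]; group⟩
  have hn0 : orderOf x ≠ 0 := (orderOf_pos x).ne'
  obtain ⟨p, hp, hpd⟩ := Nat.exists_prime_and_dvd (n := orderOf x) (fun e => hx1 (orderOf_eq_one_iff.1 e))
  haveI := Fact.mk hp
  have hpπ : p ∈ π := hH.isPi p hp (hpd.trans (orderOf_dvd_natCard _ hx))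
  obtain ⟨e, r, hr, her⟩ := Nat.exists_eq_pow_mul_and_not_dvd hn0 p hp.ne_one
  have he0 : e ≠ 0 := by rintro rfl; rw [pow_zero, one_mul] at her; exact hr (her ▸ hpd)
  obtain ⟨k, k', hk, hk', hkk⟩ := Cfsg.Lib.Char.exists_part_exponents
    (((Nat.Prime.coprime_iff_not_dvd hp).2 hr).pow_left e)
  set z := x ^ k with hz
  have hzp : IsPGroup p (zpowers z) := by
    obtain ⟨j, -, hj⟩ := (Nat.dvd_prime_pow hp).1 (show orderOf z ∣ p ^ e from orderOf_dvd_of_pow_eq_one (by
      rw [hz, ← pow_mul]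
      exact orderOf_dvd_iff_pow_eq_one.1 (by rw [her, mul_comm]; exact mul_dvd_mul_right (Nat.modEq_zero_iff_dvd.1 hk.2) _)))
    exact IsPGroup.of_card (n := j) (by rw [Nat.card_zpowers, hj])
  have hzH : z ∈ H := H.pow_mem hx k
  have hyk : g * z * g⁻¹ = y ^ k := by rw [← hg, conj_pow]
  obtain ⟨h, hh, hhz⟩ := (hH.control hpπ (zpowers z) (zpowers_le.2 hzH) hzp).1 g fun w hw => by
    obtain ⟨i, rfl⟩ := mem_zpowers_iff.1 hw
    rw [← conj_zpow, hyk]
    exact H.zpow_mem (H.pow_mem hy k) i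
  set g' := h⁻¹ * g with hg'
  set C := centralizer ((zpowers z : Subgroup G) : Set G) with hC
  have hg'C : g' ∈ C := by
    intro w hw
    have := hhz w hw
    calc w * g' = h⁻¹ * (h * w * h⁻¹) * g := by rw [hg']; group
      _ = g' * w := by rw [← this, hg']; group
  have hxC : x ∈ C := by
    intro w hw
    obtain ⟨i, rfl⟩ := mem_zpowers_iff.1 hw
    exact (((Commute.refl x).pow_left k).zpow_left i).eq
  have hDC : Dom π (H.subgroupOf C) := by
    refine ⟨(hH.isPi : PiNum π (Nat.card H)).of_dvd ?_, fun Q hQ => ?_, fun R hR hRπ => ?_⟩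
    · rw [← card_map_of_injective C.subtype_injective]
      exact card_dvd_of_le (by rw [subgroupOf_map_subtype]; exact inf_le_left)
    · obtain ⟨c, hc, hcQ⟩ := (hH.control hpπ (zpowers z) (zpowers_le.2 hzH) hzp).2 (Q.map C.subtype)
        (by rw [card_map_of_injective C.subtype_injective]; exact hQ) (map_subtype_le _)
      exact ⟨⟨c, hc⟩, fun w hw => mem_subgroupOf.2 (by simpa using hcQ _ ⟨w, hw, rfl⟩)⟩
    · have h1 := hH.hom (R.map C.subtype) ((Subgroup.map_eq_bot_iff_of_injective R C.subtype_injective).not.2 hR)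
        (by rw [card_map_of_injective C.subtype_injective]; exact hRπ)
      refine h1.of_dvd ?_
      have hcm : centralizer (R : Set C) = (centralizer ((R.map C.subtype : Subgroup G) : Set G)).comap C.subtype := by
        ext a
        simp only [mem_centralizer_iff, mem_comap, SetLike.mem_coe, Subgroup.mem_map, Subgroup.coe_subtype]
        constructor
        · rintro ha _ ⟨b, hb, rfl⟩
          exact congrArg Subtype.val (ha b hb)
        · intro ha b hb
          exact Subtype.ext (ha b ⟨b, hb, rfl⟩)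
      have hnm : (normalizer (R : Set C)).map C.subtype ≤ normalizer ((R.map C.subtype : Subgroup G) : Set G) :=
        le_normalizer_map _
      rw [hcm, relIndex_comap]
      haveI : ((centralizer ((R.map C.subtype : Subgroup G) : Set G)).subgroupOf
          (normalizer ((R.map C.subtype : Subgroup G) : Set G))).Normal := inferInstance
      set N' := normalizer ((R.map C.subtype : Subgroup G) : Set G) with hN'
      set Z' := centralizer ((R.map C.subtype : Subgroup G) : Set G) with hZ'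
      rw [← relIndex_subgroupOf hnm]
      exact relIndex_dvd_index_of_normal (Z'.subgroupOf N') _
  set w := x ^ k' with hw
  have hwlt : orderOf w < n := by
    have h1 : orderOf w ∣ r := orderOf_dvd_of_pow_eq_one (by
      rw [hw, ← pow_mul]
      exact orderOf_dvd_iff_pow_eq_one.1 (by rw [her]; exact mul_dvd_mul_right (Nat.modEq_zero_iff_dvd.1 hk'.1) _))
    have hr0 : r ≠ 0 := by rintro rfl; exact hr (dvd_zero p)
    refine lt_of_le_of_lt (Nat.le_of_dvd (Nat.pos_of_ne_zero hr0) h1) ?_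
    rw [← hn, her]
    exact lt_mul_left (Nat.pos_of_ne_zero hr0) (Nat.one_lt_pow he0 hp.one_lt)
  set y' := h⁻¹ * y * h with hy'
  have hgy : g' * x * g'⁻¹ = y' := by rw [hg', hy', ← hg]; group
  have hy'H : y' ∈ H := H.mul_mem (H.mul_mem (H.inv_mem hh) hy) hh
  have hy'C : y' ∈ C := hgy ▸ C.mul_mem (C.mul_mem hg'C hxC) (C.inv_mem hg'C)
  obtain ⟨⟨a, haC⟩, haH, ha⟩ := ih (orderOf w) hwlt hDC (⟨w, C.pow_mem hxC k'⟩ : C)
    (mem_subgroupOf.2 (H.pow_mem hx k')) (⟨y' ^ k', C.pow_mem hy'C k'⟩ : C)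
    (mem_subgroupOf.2 (H.pow_mem hy'H k')) (Subgroup.orderOf_mk _ _) ⟨g', hg'C⟩
    (Subtype.ext (by push_cast; rw [hw, ← hgy, conj_pow]))
  have ha' : a * w * a⁻¹ = y' ^ k' := congrArg Subtype.val ha
  have hsplit : ∀ {b : G}, orderOf b ∣ p ^ e * r → b ^ k * b ^ k' = b := by
    intro b hb
    rw [← pow_add, pow_eq_pow_iff_modEq.2 (hkk.of_dvd hb), pow_one]
  have haz : a * z * a⁻¹ = z := mul_inv_eq_iff_eq_mul.2 (haC z (mem_zpowers z)).symm
  have hgz : g' * z * g'⁻¹ = z := mul_inv_eq_iff_eq_mul.2 (hg'C z (mem_zpowers z)).symm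
  have hyz : y' ^ k = z := by rw [← hgy, conj_pow, ← hz]; exact hgz
  have hax : a * x * a⁻¹ = y' := by
    have hxy : orderOf y' ∣ p ^ e * r := by
      rw [← hgy, ← her]
      exact (MulEquiv.orderOf_eq (MulAut.conj g') x).dvd
    calc a * x * a⁻¹ = a * (z * w) * a⁻¹ := by rw [hz, hw, hsplit (her ▸ dvd_rfl)]
      _ = (a * z * a⁻¹) * (a * w * a⁻¹) := by group
      _ = y' ^ k * y' ^ k' := by rw [haz, ha', hyz]
      _ = y' := hsplit hxy
  refine ⟨h * a, H.mul_mem hh (mem_subgroupOf.1 haH), ?_⟩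
  calc h * a * x * (h * a)⁻¹ = h * (a * x * a⁻¹) * h⁻¹ := by group
    _ = y := by rw [hax, hy']; group


/-- Let π be a set of primes and G a finite group whose maximal π-subgroups are pairwise conjugate (so Hall π-subgroups exist, any two are conjugate, and every π-subgroup lies in one of them), and suppose N_G(H)/C_G(H) is a π-group for every nontrivial π-subgroup H. If either 3 does not divide the order of G, or the π'-elements of every proper subgroup of G form a subgroup, then the π'-elements of G form a subgroup. -/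
theorem result {G : Type*} [Group G] [Finite G] (π : Set ℕ)
    (hπ : ∀ p ∈ π, p.Prime) (hD : Cfsg.IsDPiGroup π G) (hhom : (∀ H : Subgroup G, H ≠ ⊥ → (∀ p : ℕ, p.Prime → p ∣ Nat.card ↥H → p ∈ π) →
        ∀ p : ℕ, p.Prime → p ∣ (Subgroup.centralizer (H : Set G)).relIndex (Subgroup.normalizer (H : Set G)) → p ∈ π))
    (hcase : ¬ 3 ∣ Nat.card G ∨ ∀ M : Subgroup G, M ≠ ⊤ →
      ∃ L : Subgroup ↥M, ∀ x : ↥M, x ∈ L ↔ ∀ p : ℕ, p.Prime → p ∣ orderOf x → p ∉ π) :
    (∃ K : Subgroup G, ∀ x : G, x ∈ K ↔ ∀ p : ℕ, p.Prime → p ∣ orderOf x → p ∉ π) := by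
  classical
  obtain ⟨H, -, hHmax⟩ := Finite.exists_le_maximal (p := Cfsg.IsPiSubgroup π) (a := (⊥ : Subgroup G))
    (fun p hp hd => by rw [Subgroup.card_bot] at hd; exact absurd hd hp.not_dvd_one)
  have hDom : Dom π H := by
    refine ⟨hHmax.prop, fun Q hQ => ?_, hhom⟩
    obtain ⟨M, hQM, hM⟩ := Finite.exists_le_maximal (p := Cfsg.IsPiSubgroup π) (a := Q) hQ
    obtain ⟨g, rfl⟩ := hD H M hHmax hM
    exact ⟨g, fun x hx => conj_map.1 (hQM hx)⟩
  have hHall : ∀ q : ℕ, q.Prime → q ∈ π → ¬ q ∣ H.index := fun q hq hqπ =>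
    haveI := Fact.mk hq
    hDom.index_not_dvd hqπ
  have hcop : (Nat.card H).Coprime H.index :=
    Nat.coprime_of_dvd fun q hq h1 h2 => hHall q hq (hDom.isPi q hq h1) h2
  obtain ⟨K, hKn, hKH, hKI⟩ := Cfsg.Lib.Char.exists_normal_complement_of_elementary H hcop
    (fun x hx y hy hxy => by
      obtain ⟨g, hg⟩ := isConj_iff.1 hxy
      exact Dom.fusion (orderOf x) hDom x hx y hy rfl g hg)
    (fun E p hp _ hE => by
      obtain ⟨c, hc⟩ := hDom.dom E (PiNum.of_dvd (π := π) hDom.isPi hE)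
      exact ⟨c⁻¹, by rintro _ ⟨y, hy, rfl⟩; simpa using hc y hy⟩)
  have hcompl : K.IsComplement' H := isComplement'_of_disjoint_and_mul_eq_univ (disjoint_iff.2 hKI) (by
    rw [← coe_mul_of_right_le_normalizer_left K H (by rw [normalizer_eq_top_iff.2 hKn]; exact le_top), hKH, coe_top])
  have hKi : K.index = Nat.card H := hcompl.symm.index_eq_card
  have hHi : H.index = Nat.card K := hcompl.index_eq_card
  refine ⟨K, fun x => ⟨fun hx p hp hd hpπ => ?_, fun hx => ?_⟩⟩
  · exact hHall p hp hpπ (hHi ▸ hd.trans (Subgroup.orderOf_dvd_natCard _ hx))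
  · rw [← QuotientGroup.eq_one_iff, ← orderOf_eq_one_iff]
    refine Nat.eq_one_of_dvd_coprimes (Nat.coprime_of_dvd fun q hq h1 h2 => hx q hq h1 (hDom.isPi q hq h2))
      (orderOf_map_dvd (QuotientGroup.mk' K) x) ?_
    rw [← hKi, K.index_eq_card]
    exact orderOf_dvd_natCard (x : G ⧸ K)

end Cfsg.Agent.S4052
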