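import Cfsg.Statements.S4056
import Cfsg.Agent.Lib.PGroup.ClassTwo
import Cfsg.Agent.Lib.PGroup.Basic

set_option autoImplicit false
open Cfsg

namespace Cfsg.Agent.S4056

open scoped commutatorElement

/-- In a finite 2-group of nilpotency class at most 2 and exponent dividing 4, the Frattini subgroup lies in the centre and is elementary abelian. -/
theorem result {P : Type*} [Group P] [Finite P] (hP : IsPGroup 2 P)
    (hcl : Group.nilpotencyClass P ≤ 2) (hexp : Monoid.exponent P ∣ 4) :
    frattini P ≤ Subgroup.center P ∧ Cfsg.IsElementaryAbelian 2 (frattini P) := by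
  have := hP.isNilpotent
  have hG := Cfsg.Lib.PGroup.commutator_le_center_of_nilpotencyClass_le hcl
  have h4 : ∀ x : P, x ^ 4 = 1 := fun x => orderOf_dvd_iff_pow_eq_one.mp
    ((Monoid.order_dvd_exponent x).trans hexp)
  have hc2 : ∀ x y : P, ⁅x, y⁆ ^ 2 = 1 := by
    intro x y
    have h := Cfsg.Lib.PGroup.mul_pow_of_class_two hG y x 4
    rw [h4, h4, h4, one_mul, one_mul, show Nat.choose 4 2 = 4 + 2 from rfl, pow_add, h4,
      one_mul] at h
    exact h.symm
  have hsq : ∀ x : P, x ^ 2 ∈ Subgroup.center P := fun x => by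
    rw [Subgroup.mem_center_iff]
    intro g
    refine (commutatorElement_eq_one_iff_mul_comm.mp ?_).symm
    rw [Cfsg.Lib.PGroup.commutatorElement_pow_left hG, hc2]
  let T : Subgroup P :=
    { carrier := {z | z ∈ Subgroup.center P ∧ z ^ 2 = 1}
      one_mem' := ⟨one_mem _, one_pow 2⟩
      mul_mem' := fun {a b} ha hb => ⟨mul_mem ha.1 hb.1, by
        rw [(show Commute a b from (Subgroup.mem_center_iff.mp ha.1 b).symm).mul_pow, ha.2, hb.2,
          one_mul]⟩
      inv_mem' := fun {a} ha => ⟨inv_mem ha.1, by rw [inv_pow, ha.2, inv_one]⟩ }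
  have hcT : commutator P ≤ T := by
    rw [commutator_def, Subgroup.commutator_le]
    intro a _ b _
    exact ⟨hG (Subgroup.commutator_mem_commutator (Subgroup.mem_top a) (Subgroup.mem_top b)), hc2 a b⟩
  have hΦ : frattini P ≤ T := by
    refine Cfsg.Lib.PGroup.frattini_le_of_commutator_le_of_pow_mem (p := 2) hcT fun x => ⟨hsq x, ?_⟩
    rw [← pow_mul]; exact h4 x
  refine ⟨fun z hz => (hΦ hz).1, ⟨⟨fun a b => Subtype.ext ?_⟩⟩, fun a ha => (hΦ ha).2⟩
  exact (Subgroup.mem_center_iff.mp (hΦ a.2).1 b).symm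

end Cfsg.Agent.S4056
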