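import Cfsg.Statements.S4057
import Cfsg.Agent.Lib.PGroup.CentralOmega
import Cfsg.Agent.Lib.PGroup.LinearGenerators
import Cfsg.Agent.S3780
import Cfsg.Agent.S0130
-- import your own Cfsg.Agent.* helpers here

set_option autoImplicit false
open Cfsg

namespace Cfsg.Agent.S4057

open Subgroup
open scoped Pointwise

theorem card_closure_le {P : Type*} [Group P] [Finite P] {p : ℕ} [Fact p.Prime] (A : Subgroup P)
    [IsMulCommutative A] (hA : ∀ a ∈ A, a ^ p = 1) (S : Finset P) :
    (∀ a ∈ S, a ∈ A) → Nat.card (closure (S : Set P)) ≤ p ^ S.card := by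
  classical
  induction S using Finset.induction with
  | empty => intro _; simp
  | insert a S ha ih =>
    intro hmem
    have h1 : Nat.card (zpowers a) ≤ p := by
      rw [Nat.card_zpowers]
      exact Nat.le_of_dvd (Fact.out : p.Prime).pos (orderOf_dvd_of_pow_eq_one (hA a (hmem a (Finset.mem_insert_self a S))))
    have h2 := ih fun b hb => hmem b (Finset.mem_insert_of_mem hb)
    have hsA : closure (S : Set P) ≤ A := (closure_le _).2 fun b hb => hmem b (Finset.mem_insert_of_mem hb)
    have hle : zpowers a ≤ centralizer ((closure (S : Set P) : Subgroup P) : Set P) := by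
      rw [zpowers_le, mem_centralizer_iff]
      intro b hb
      exact congrArg Subtype.val (IsMulCommutative.is_comm.comm (⟨b, hsA hb⟩ : A) ⟨a, hmem a (Finset.mem_insert_self a S)⟩)
    rw [Finset.coe_insert, Set.insert_eq, Subgroup.closure_union, ← zpowers_eq_closure, Finset.card_insert_of_notMem ha,
      pow_succ']
    rw [show Nat.card ↥(zpowers a ⊔ closure (S : Set P)) =
      Nat.card ((zpowers a : Set P) * (closure (S : Set P) : Set P) : Set P) by
        rw [← coe_mul_of_left_le_normalizer_right _ _ (hle.trans (centralizer_le_normalizer _))]; rfl]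
    exact Set.natCard_mul_le.trans (Nat.mul_le_mul h1 h2)

theorem main {P : Type*} [Group P] [Finite P] {p : ℕ} [Fact p.Prime]
    (hp : p ≠ 2) (hP : IsPGroup p P) (k : ℕ)
    (hab : ∀ A : Subgroup P, A.Normal → IsMulCommutative A → ∃ S : Finset P, S.card ≤ k ∧ Subgroup.closure (S : Set P) = A)
    (H : Subgroup P) : ∃ S : Finset P, S.card ≤ k * (k + 4) / 4 ∧ Subgroup.closure (S : Set P) = H := by
  classical
  have hpp : p.Prime := Fact.out
  obtain ⟨A, -, ⟨hAn, hAc, hAe⟩, hmax⟩ :=
    (Set.toFinite {A : Subgroup P | A.Normal ∧ IsMulCommutative A ∧ ∀ a ∈ A, a ^ p ^ 1 = 1}).exists_le_maximal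
      (a := ⊥) ⟨inferInstance, inferInstance, fun a ha => by rw [mem_bot.1 ha, one_pow]⟩
  haveI := hAn
  haveI := hAc
  have hAp : ∀ a ∈ A, a ^ p = 1 := fun a ha => by simpa using hAe a ha
  have hcrit : ∀ x ∈ centralizer (A : Set P), x ^ p = 1 → x ∈ A := fun x hx hxp =>
    S0130.result hP 1 (by simpa using hp) A hAc hAe
      (fun B hBn hBc hBe hAB => le_antisymm (hmax ⟨hBn, hBc, hBe⟩ hAB) hAB) x hx (by simpa using hxp)
  obtain ⟨S, hS, hSA⟩ := hab A hAn hAc
  have hcardA : Nat.card A ≤ p ^ k := by
    refine le_trans ?_ (Nat.pow_le_pow_right hpp.pos hS)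
    have := card_closure_le A hAp S fun a ha => hSA ▸ subset_closure ha
    rwa [hSA] at this
  letI : CommGroup A := { (inferInstance : Group A) with mul_comm := fun a b => IsMulCommutative.is_comm.comm a b }
  haveI : Module (ZMod p) (Additive A) := AddCommGroup.zmodModule fun v => by
    apply Additive.toMul.injective
    rw [toMul_nsmul, toMul_zero]
    exact Subtype.ext (by simpa using hAp _ (Additive.toMul v).2)
  haveI : Module.Finite (ZMod p) (Additive A) := Module.Finite.of_finite
  set k' := Module.finrank (ZMod p) (Additive A)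
  have hk' : k' ≤ k := by
    have h1 : Nat.card A = p ^ k' := by
      rw [show Nat.card A = Nat.card (Additive A) from rfl,
        Module.natCard_eq_pow_finrank (K := ZMod p) (V := Additive A), Nat.card_zmod]
    rw [h1] at hcardA
    exact (Nat.pow_le_pow_iff_right hpp.one_lt).1 hcardA
  let φ : P →* MulAut A := MulAut.conjNormal
  let ρ : H →* (Module.End (ZMod p) (Additive A))ˣ := MonoidHom.toHomUnits
    { toFun := fun h => ((φ (h : P)).toMonoidHom.toAdditive).toZModLinearMap p
      map_one' := by
        ext v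
        simp [φ]
      map_mul' := fun g h => by
        ext v
        simp [φ] }
  have hρ : ∀ h : H, ρ h = 1 ↔ (h : P) ∈ centralizer (A : Set P) := by
    intro h
    rw [mem_centralizer_iff, Units.ext_iff, LinearMap.ext_iff]
    constructor
    · intro e a ha
      have := congrArg (fun v : Additive A => ((Additive.toMul v : A) : P)) (e (Additive.ofMul ⟨a, ha⟩))
      simp [ρ, φ] at this
      exact (mul_inv_eq_iff_eq_mul.1 this).symm
    · intro e v
      apply Additive.toMul.injective
      apply Subtype.ext
      simp [ρ, φ, mul_inv_eq_iff_eq_mul, (e _ (Additive.toMul v).2)]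
  have hHp := hP.to_subgroup H
  obtain ⟨σ, hσker, hσ⟩ := Cfsg.Lib.PGroup.Lead.exists_unitriangular (k := k') hHp ρ rfl
  set K := σ.ker with hK
  have hKC : ∀ x : H, x ∈ K ↔ (x : P) ∈ centralizer (A : Set P) := fun x => by
    rw [hσker, MonoidHom.mem_ker, hρ]
  have hcent : ∀ x : K, x ^ p = 1 → x ∈ center K := fun x hx => by
    rw [mem_center_iff]
    intro g
    apply Subtype.ext
    apply Subtype.ext
    have hxA : ((x : H) : P) ∈ A := hcrit _ ((hKC x).1 x.2) (by
      have := congrArg (fun y : K => ((y : H) : P)) hx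
      simpa using this)
    exact (mem_centralizer_iff.1 ((hKC g).1 g.2) _ hxA).symm
  have hK1 : (frattini K).index ≤ p ^ k := by
    refine le_trans (Cfsg.Lib.PGroup.index_frattini_le_of_omega_central _ le_rfl hp (hHp.to_subgroup K) hcent)
      (le_trans ?_ hcardA)
    refine Nat.card_le_card_of_injective (fun x => (⟨(((x : K) : H) : P), hcrit _ ((hKC _).1 x.1.2) (by
      have := congrArg (fun y : K => ((y : H) : P)) (x.2 : (x : K) ^ p = 1)
      simpa using this)⟩ : A)) fun x y e => ?_
    exact Subtype.ext (Subtype.ext (Subtype.ext (congrArg (fun a : A => (a : P)) e :)))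
  have hR : IsPGroup p σ.range := hHp.of_surjective σ.rangeRestrict σ.rangeRestrict_surjective
  have hR1 := Cfsg.Lib.PGroup.Lead.index_frattini_le hσ
  have h3 : frattini σ.range ≤ (frattini H).map σ.rangeRestrict := by
    refine Cfsg.Lib.PGroup.frattini_le_of_commutator_le_of_pow_mem (p := p) ?_ fun g => ?_
    · rw [_root_.commutator_def, commutator_le]
      intro a _ b _
      obtain ⟨a, rfl⟩ := σ.rangeRestrict_surjective a
      obtain ⟨b, rfl⟩ := σ.rangeRestrict_surjective b
      rw [← map_commutatorElement]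
      exact mem_map_of_mem _ (Cfsg.Lib.PGroup.commutator_le_frattini hHp (commutator_mem_commutator (mem_top a) (mem_top b)))
    · obtain ⟨g, rfl⟩ := σ.rangeRestrict_surjective g
      rw [← map_pow]
      exact mem_map_of_mem _ (Cfsg.Lib.PGroup.pow_mem_frattini hHp g)
  have h4 : (frattini H ⊔ K).index ≤ p ^ (k' * k' / 4) := by
    have := index_map (frattini H) σ.rangeRestrict
    rw [MonoidHom.range_eq_top.2 σ.rangeRestrict_surjective, index_top, mul_one, MonoidHom.ker_rangeRestrict] at this
    rw [← this]
    exact le_trans (Nat.le_of_dvd (Nat.pos_of_ne_zero index_ne_zero_of_finite) (index_dvd_of_le h3)) hR1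
  have h5 : (frattini H).relIndex K ≤ p ^ k := by
    refine le_trans (Nat.le_of_dvd (Nat.pos_of_ne_zero index_ne_zero_of_finite) ?_) hK1
    refine index_dvd_of_le (fun x hx => ?_)
    exact Cfsg.Lib.PGroup.map_frattini_le (hHp.to_subgroup K) hHp K.subtype (mem_map_of_mem _ hx)
  have hidx : (frattini H).index ≤ p ^ (k * (k + 4) / 4) := by
    rw [← relIndex_mul_index (le_sup_left : frattini H ≤ frattini H ⊔ K),
      show (frattini H).relIndex (frattini H ⊔ K) = (frattini H).relIndex K by rw [sup_comm, relIndex_sup_right]]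
    refine le_trans (Nat.mul_le_mul h5 h4) ?_
    rw [← pow_add]
    refine Nat.pow_le_pow_right hpp.pos ?_
    have h6 : k' * k' ≤ k * k := Nat.mul_le_mul hk' hk'
    have h7 : k * (k + 4) / 4 = k + k * k / 4 := by
      rw [mul_add, Nat.add_mul_div_right _ _ (by norm_num : 0 < 4), add_comm]
    rw [h7]
    exact Nat.add_le_add_left (Nat.div_le_div_right h6) k
  obtain ⟨i, hi⟩ := hHp.index (frattini H)
  rw [hi] at hidx
  obtain ⟨T, hT, hTt⟩ := S3780.exists_generators (p := p) (k * (k + 4) / 4) (frattini H)
    (hi ▸ pow_dvd_pow p ((Nat.pow_le_pow_iff_right hpp.one_lt).1 hidx))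
  rw [sup_comm] at hTt
  have hT2 := frattini_nongenerating hTt
  refine ⟨T.map ⟨H.subtype, H.subtype_injective⟩, by rw [Finset.card_map]; exact hT, ?_⟩
  rw [Finset.coe_map]
  show closure (H.subtype '' (T : Set H)) = H
  rw [← MonoidHom.map_closure, hT2, ← MonoidHom.range_eq_map, range_subtype]

/-- Let p be an odd prime and P a finite p-group in which every normal abelian subgroup can be generated by k elements. Then every subgroup of P can be generated by at most ⌊k(k+4)/4⌋ elements. -/
theorem result {P : Type*} [Group P] [Finite P] {p : ℕ} [Fact p.Prime]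
    (hp : p ≠ 2) (hP : IsPGroup p P) (k : ℕ)
    (hab : ∀ A : Subgroup P, A.Normal → IsMulCommutative A → ∃ S : Finset P, S.card ≤ k ∧ Subgroup.closure (S : Set P) = A) :
    ∀ H : Subgroup P, ∃ S : Finset P, S.card ≤ k * (k + 4) / 4 ∧ Subgroup.closure (S : Set P) = H := by
  intro H
  exact main hp hP k hab H

end Cfsg.Agent.S4057
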