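import Cfsg.Statements.S4058
import Cfsg.Agent.Lib.Char.Indicator
import Cfsg.Agent.Lib.Char.Linear
import Cfsg.Agent.Lib.Char.Constituents
import Cfsg.Agent.Lib.PGroup.Basic

set_option autoImplicit false
open Cfsg

namespace Cfsg.Agent.S4058

open Cfsg.Lib.Char
open scoped ComplexConjugate

universe u

variable {G : Type u} [Group G]

/-- The linear character of `G` given by a character of the Frattini quotient. -/
noncomputable def liftLin [(frattini G).Normal] (l : (G ⧸ frattini G) →* ℂˣ) : G →* ℂˣ :=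
  l.comp (QuotientGroup.mk' (frattini G))

/-- The degree times the Frobenius–Schur indicator, as an integer. -/
noncomputable def weight [Fintype G] (χ : IrrCharacter G) : ℤ :=
  if ∑ s, (χ : G → ℂ) (s * s) = 0 then 0
  else if ∑ s, (χ : G → ℂ) (s * s) = (Nat.card G : ℂ) then (χ.2.exists_degree.choose : ℤ)
  else -(χ.2.exists_degree.choose : ℤ)

theorem weight_cast [Fintype G] (χ : IrrCharacter G) :
    (Nat.card G : ℂ) * (weight χ : ℂ) = (χ : G → ℂ) 1 * ∑ s, (χ : G → ℂ) (s * s) := by
  have hd : (χ : G → ℂ) 1 = (χ.2.exists_degree.choose : ℂ) := χ.2.exists_degree.choose_spec.2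
  rw [hd, weight]
  rcases indicator_cases χ.2 with ⟨-, h⟩ | ⟨-, h | ⟨h, -⟩⟩
  · rw [if_pos h, h]; simp
  · rw [if_neg (by rw [h]; exact card_cast_ne_zero), if_pos h, h]; push_cast; ring
  · have hne : (-(Nat.card G : ℂ)) ≠ (Nat.card G : ℂ) := by
      intro hh
      exact card_cast_ne_zero (G := G) (by linear_combination (-1/2 : ℂ) * hh)
    rw [if_neg (by rw [h]; exact neg_ne_zero.mpr card_cast_ne_zero), if_neg (by rw [h]; exact hne), h]
    push_cast; ring

theorem sum_weight [Fintype G] :
    ∑ χ : IrrCharacter G, weight χ = (Nat.card {x : G // x ^ 2 = 1} : ℤ) := by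
  classical
  have key : (Nat.card G : ℂ) * ((∑ χ : IrrCharacter G, weight χ : ℤ) : ℂ) =
      (Nat.card G : ℂ) * ((Nat.card {x : G // x ^ 2 = 1} : ℤ) : ℂ) := by
    push_cast
    rw [Finset.mul_sum]
    calc ∑ χ : IrrCharacter G, (Nat.card G : ℂ) * (weight χ : ℂ)
        = ∑ χ : IrrCharacter G, ∑ s, (χ : G → ℂ) 1 * (χ : G → ℂ) (s * s) :=
          Finset.sum_congr rfl fun χ _ => by rw [weight_cast, Finset.mul_sum]
      _ = ∑ s : G, if s * s = 1 then (Nat.card G : ℂ) else 0 := by
          rw [Finset.sum_comm]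
          exact Finset.sum_congr rfl fun s _ => sum_degree_mul (s * s)
      _ = _ := by
          rw [← Finset.sum_filter, Finset.sum_const, nsmul_eq_mul, mul_comm]
          congr 2
          rw [Nat.card_eq_fintype_card, Fintype.card_subtype]
          simp only [sq]
  exact Int.cast_injective (mul_left_cancel₀ card_cast_ne_zero key)

theorem card_stabilizing_le [Fintype G] {χ : G → ℂ} (hχ : IsIrrCharacter G χ) {d : ℕ} (hd : χ 1 = d)
    (S : Finset (G →* ℂˣ)) (hS : ∀ φ ∈ S, ∀ g, χ g * (φ g : ℂ) = χ g) : S.card ≤ d ^ 2 := by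
  classical
  let K : Subgroup G := ⨅ φ ∈ S, φ.ker
  have hKn : K.Normal := Subgroup.normal_iInf_normal fun φ => Subgroup.normal_iInf_normal fun _ => inferInstance
  have hzero : ∀ g, g ∉ K → χ g = 0 := by
    intro g hg
    simp only [K, Subgroup.mem_iInf, MonoidHom.mem_ker] at hg
    push Not at hg
    obtain ⟨φ, hφ, hφg⟩ := hg
    by_contra h0
    have h1 := hS φ hφ g
    exact hφg (Units.ext (mul_left_cancel₀ h0 (by rw [h1, Units.val_one, mul_one])))
  have hnorm : ∑ g, ‖χ g‖ ^ 2 = (Nat.card G : ℝ) := by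
    have h := classInner_self χ
    rw [classInner_irr_self hχ, ← Complex.ofReal_one, Complex.ofReal_inj] at h
    field_simp at h
    linarith
  have hle : (Nat.card G : ℝ) ≤ Nat.card K * (d : ℝ) ^ 2 := by
    rw [← hnorm]
    calc ∑ g, ‖χ g‖ ^ 2 = ∑ g ∈ Finset.univ.filter (· ∈ K), ‖χ g‖ ^ 2 :=
          (Finset.sum_filter_of_ne fun g _ h => by
            by_contra hg; exact h (by rw [hzero g hg]; simp)).symm
      _ ≤ ∑ g ∈ Finset.univ.filter (· ∈ K), (d : ℝ) ^ 2 := by
          refine Finset.sum_le_sum fun g _ => ?_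
          have h := hχ.isCharacter.norm_le g
          rw [hd] at h
          simp only [Complex.natCast_re, Complex.norm_natCast] at h
          exact pow_le_pow_left₀ (norm_nonneg _) h 2
      _ = _ := by
          rw [Finset.sum_const, nsmul_eq_mul]
          congr 2
          rw [Nat.card_eq_fintype_card, Fintype.card_subtype]
  have hle' : Nat.card G ≤ Nat.card K * d ^ 2 := by exact_mod_cast hle
  have hidx : K.index ≤ d ^ 2 := by
    rw [← K.card_mul_index] at hle'
    exact Nat.le_of_mul_le_mul_left hle' Nat.card_pos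
  refine le_trans ?_ hidx
  let f : S → ((G ⧸ K) →* ℂˣ) := fun φ => QuotientGroup.lift K (φ : G →* ℂˣ)
    (iInf₂_le (φ : G →* ℂˣ) φ.2)
  have hf : Function.Injective f := fun a b hab => Subtype.ext (MonoidHom.ext fun g =>
    DFunLike.congr_fun hab (g : G ⧸ K))
  have hfin : Finite ((G ⧸ K) →* ℂˣ) := Nat.finite_of_card_ne_zero (by
    rw [card_linear_eq_index]; exact Subgroup.index_ne_zero_of_finite)
  have h1 := Nat.card_le_card_of_injective f hf
  rw [card_linear_eq_index, Nat.card_eq_fintype_card (α := S), Fintype.card_coe] at h1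
  exact h1.trans (Nat.le_of_dvd Nat.card_pos (Subgroup.index_dvd_card _))


/-- Let G be a finite 2-group with #(G/Φ(G)) ≥ 2^(2k+1). Then the number of elements x of G with x² = 1 is divisible by 2^(k+1). -/
theorem result {G : Type*} [Group G] [Finite G] (hG : IsPGroup 2 G) (k : ℕ)
    (hgen : 2 ^ (2 * k + 1) ≤ Nat.card (G ⧸ frattini G)) :
    2 ^ (k + 1) ∣ Nat.card {x : G // x ^ 2 = 1} := by
  classical
  have := Fintype.ofFinite G
  have hcomm : ∀ a b : G ⧸ frattini G, a * b = b * a :=
    (Subgroup.Normal.quotient_commutative_iff_commutator_le.mpr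
      (Cfsg.Lib.PGroup.commutator_le_frattini hG)).1.comm
  letI : CommGroup (G ⧸ frattini G) := { (inferInstance : Group (G ⧸ frattini G)) with mul_comm := hcomm }
  set L := (G ⧸ frattini G) →* ℂˣ
  have hLcard : Nat.card L = Nat.card (G ⧸ frattini G) := card_monoidHom_units _
  have hsq : ∀ (l : L) (s : G), liftLin l (s * s) = 1 := fun l s => by
    have h : ((s * s : G) : G ⧸ frattini G) = 1 :=
      (QuotientGroup.eq_one_iff _).mpr (sq s ▸ Cfsg.Lib.PGroup.pow_mem_frattini hG s)
    exact (congrArg l h).trans (map_one l)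
  letI : MulAction L (IrrCharacter G) :=
    { smul := fun l χ => ⟨(χ : G → ℂ) * fun g => (liftLin l g : ℂ), isIrrCharacter_mul_linear χ.2 _⟩
      one_smul := fun χ => Subtype.ext (funext fun g => by
        show (χ : G → ℂ) g * (liftLin (1 : L) g : ℂ) = _
        simp [liftLin])
      mul_smul := fun a b χ => Subtype.ext (funext fun g => by
        show (χ : G → ℂ) g * (((a (g : G ⧸ frattini G)) * (b (g : G ⧸ frattini G)) : ℂˣ) : ℂ) =
          (χ : G → ℂ) g * (liftLin b g : ℂ) * (liftLin a g : ℂ)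
        simp [liftLin, mul_comm, mul_left_comm]) }
  have hsmul : ∀ (l : L) (χ : IrrCharacter G) (g : G),
      ((l • χ : IrrCharacter G) : G → ℂ) g = (χ : G → ℂ) g * (liftLin l g : ℂ) := fun _ _ _ => rfl
  have hw : ∀ (l : L) (χ : IrrCharacter G), weight (l • χ) = weight χ := by
    intro l χ
    apply Int.cast_injective (α := ℂ)
    apply mul_left_cancel₀ (card_cast_ne_zero (G := G))
    rw [weight_cast, weight_cast]
    simp only [hsmul, hsq, Units.val_one, mul_one, map_one]
  have horbit : ∀ χ : IrrCharacter G,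
      (2 ^ (k + 1) : ℤ) ∣ (Nat.card (MulAction.orbit L χ) : ℤ) * weight χ := by
    intro χ
    obtain ⟨a, ha⟩ := IsPGroup.iff_card.mp hG
    set d := χ.2.exists_degree.choose with hd
    have hd1 : (χ : G → ℂ) 1 = (d : ℂ) := χ.2.exists_degree.choose_spec.2
    obtain ⟨e, -, he⟩ := (Nat.dvd_prime_pow Nat.prime_two).mp (ha ▸ degree_dvd_card χ.2 hd1)
    have hwd : (d : ℤ) ∣ weight χ := by
      unfold weight
      split_ifs
      · exact dvd_zero _
      · exact dvd_refl _
      · exact (dvd_refl _).neg_right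
    have hLfin : Finite L := Nat.finite_of_card_ne_zero (hLcard ▸ Nat.card_pos.ne')
    have := Fintype.ofFinite L
    let T := MulAction.stabilizer L χ
    have hinj : Function.Injective fun l : T => liftLin (l : L) := fun a b hab =>
      Subtype.ext (MonoidHom.cancel_right (QuotientGroup.mk'_surjective (frattini G)) |>.mp hab)
    have hT : Nat.card T ≤ d ^ 2 := by
      have h1 := card_stabilizing_le χ.2 hd1 (Finset.univ.image fun l : T => liftLin (l : L)) (by
        intro φ hφ g
        obtain ⟨l, -, rfl⟩ := Finset.mem_image.mp hφ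
        rw [← hsmul, l.2])
      rwa [Finset.card_image_of_injective _ hinj, Finset.card_univ, ← Nat.card_eq_fintype_card] at h1
    have hmul : Nat.card (MulAction.orbit L χ) * Nat.card T = Nat.card L := by
      rw [Nat.card_coe_set_eq, ← MulAction.index_stabilizer]
      exact Subgroup.index_mul_card _
    obtain ⟨f, hf⟩ := IsPGroup.iff_card.mp (hG.to_quotient (frattini G))
    obtain ⟨j, -, hj⟩ := (Nat.dvd_prime_pow Nat.prime_two).mp
      (hf ▸ hLcard ▸ Dvd.intro _ hmul : Nat.card (MulAction.orbit L χ) ∣ 2 ^ f)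
    have hexp : k + 1 ≤ j + e := by
      have h1 : 2 ^ (2 * k + 1) ≤ 2 ^ (j + 2 * e) := by
        calc 2 ^ (2 * k + 1) ≤ Nat.card L := hLcard ▸ hgen
          _ ≤ 2 ^ j * d ^ 2 := by rw [← hmul, hj]; exact Nat.mul_le_mul_left _ hT
          _ = 2 ^ (j + 2 * e) := by rw [he, ← pow_mul, pow_add, mul_comm e 2]
      have := (Nat.pow_le_pow_iff_right (le_refl 2)).mp h1
      omega
    rw [hj]
    refine dvd_trans ?_ (mul_dvd_mul_left _ hwd)
    rw [he]
    exact_mod_cast (pow_add 2 j e ▸ pow_dvd_pow 2 hexp : 2 ^ (k + 1) ∣ 2 ^ j * 2 ^ e)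
  have hdvd : (2 ^ (k + 1) : ℤ) ∣ ∑ χ : IrrCharacter G, weight χ := by
    have := Fintype.ofFinite (MulAction.orbitRel.Quotient L (IrrCharacter G))
    rw [← Finset.sum_fiberwise Finset.univ
      (fun χ => (Quotient.mk'' χ : MulAction.orbitRel.Quotient L (IrrCharacter G))) weight]
    refine Finset.dvd_sum fun q _ => ?_
    induction q using Quotient.inductionOn' with
    | h χ =>
      have hfil : (Finset.univ.filter fun ψ : IrrCharacter G =>
          (Quotient.mk'' ψ : MulAction.orbitRel.Quotient L (IrrCharacter G)) = Quotient.mk'' χ) =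
          (MulAction.orbit L χ).toFinset := by
        ext ψ
        simp [Quotient.eq'', MulAction.orbitRel_apply]
      rw [hfil, Finset.sum_congr rfl (g := fun _ => weight χ) (fun ψ hψ => ?_), Finset.sum_const,
        nsmul_eq_mul, Set.toFinset_card, ← Nat.card_eq_fintype_card]
      · exact horbit χ
      · obtain ⟨l, rfl⟩ := Set.mem_toFinset.mp hψ
        exact hw l χ
  rw [sum_weight] at hdvd
  exact_mod_cast hdvd

end Cfsg.Agent.S4058
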