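import Cfsg.Statements.S4059
import Mathlib.Tactic.Group
import Mathlib.Data.Nat.Factorization.Basic
import Mathlib.GroupTheory.Sylow
import Cfsg.Agent.S3863
-- import your own Cfsg.Agent.* helpers here

set_option autoImplicit false
open Cfsg

namespace Cfsg.Agent.S4059

open Subgroup

/-- Let G be a finite group in which every element is conjugate to its inverse. Then: every non-identity element commuting with all elements of some Sylow 2-subgroup is an involution; the centre of G is an elementary abelian 2-group; the commutator quotient G/G' is an elementary abelian 2-group; and G is generated by its 2-elements. -/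
theorem result {G : Type*} [Group G] [Finite G] (hamb : ∀ x : G, IsConj x x⁻¹) :
    (∀ (S : Sylow 2 G) (x : G), x ∈ Subgroup.centralizer ((S : Subgroup G) : Set G) → x ≠ 1 → orderOf x = 2) ∧
    (∀ z : G, z ∈ Subgroup.center G → z ^ 2 = 1) ∧
    (∀ x : G, x ^ 2 ∈ commutator G) ∧
    Subgroup.closure {x : G | ∃ k : ℕ, orderOf x = 2 ^ k} = ⊤ := by
  refine ⟨fun S x hx hx1 => ?_, fun z hz => ?_, fun x => ?_, ?_⟩
  · have hle : (S : Subgroup G) ≤ centralizer {x} := fun s hs =>
      mem_centralizer_singleton_iff.mpr (mem_centralizer_iff.mp hx s hs)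
    have hodd : Odd (centralizer ({x} : Set G)).index := by
      rw [Nat.odd_iff]
      have h1 := S.not_dvd_index
      have h2 := index_dvd_of_le hle
      by_contra h
      exact h1 ((Nat.dvd_of_mod_eq_zero (by omega)).trans h2)
    exact orderOf_eq_prime (S3863.sq_eq_one_of_odd_class (hamb x) hodd) hx1
  · obtain ⟨g, hg⟩ := isConj_iff.mp (hamb z)
    rw [mem_center_iff.mp hz g, mul_inv_cancel_right] at hg
    rw [sq]
    nth_rewrite 2 [hg]
    exact mul_inv_cancel z
  · obtain ⟨g, hg⟩ := isConj_iff.mp (hamb x)
    have h1 : Abelianization.of x = (Abelianization.of x)⁻¹ := by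
      rw [← map_inv, ← hg, map_mul, map_mul, mul_comm (Abelianization.of g), mul_assoc, map_inv, mul_inv_cancel,
        mul_one]
    refine (QuotientGroup.eq_one_iff _).mp ?_
    show Abelianization.of (x ^ 2) = 1
    rw [map_pow, sq]
    nth_rewrite 2 [h1]
    exact mul_inv_cancel _
  · set N := closure {x : G | ∃ k : ℕ, orderOf x = 2 ^ k}
    have hn : N.Normal := by
      refine ⟨fun n hn g => ?_⟩
      induction hn using closure_induction with
      | mem y hy =>
        obtain ⟨k, hk⟩ := hy
        refine subset_closure ⟨k, ?_⟩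
        rw [← hk]
        exact MulEquiv.orderOf_eq (MulAut.conj g) y
      | one => simp [one_mem]
      | mul a b _ _ ha hb => rw [conj_mul.symm]; exact mul_mem ha hb
      | inv a _ ha => rw [← conj_inv]; exact inv_mem ha
    have hodd : Odd N.index := by
      obtain ⟨S⟩ : Nonempty (Sylow 2 G) := inferInstance
      have hS : (S : Subgroup G) ≤ N := fun s hs => by
        obtain ⟨k, hk⟩ := (IsPGroup.iff_orderOf.mp S.isPGroup') ⟨s, hs⟩
        exact subset_closure ⟨k, by rw [← hk, orderOf_mk]⟩
      rw [Nat.odd_iff]
      by_contra h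
      exact S.not_dvd_index ((Nat.dvd_of_mod_eq_zero (by omega)).trans (index_dvd_of_le hS))
    exact eq_top_iff.mpr fun x _ => (S3863.mem_of_odd_index (hamb x) N hodd).fst

end Cfsg.Agent.S4059
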