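import Cfsg.Statements.S4060
import Mathlib.GroupTheory.Sylow
import Mathlib.GroupTheory.Solvable
-- import your own Cfsg.Agent.* helpers here

set_option autoImplicit false
open Cfsg

namespace Cfsg.Agent.S4060

open scoped commutatorElement

theorem centralizes {Q : Type*} [Group Q] [Finite Q] {A : Subgroup Q} [A.Normal]
    [IsMulCommutative A] (S : Sylow 2 Q) {y : Q} (hyA : y ∈ A) (hodd : Odd (orderOf y))
    (hnorm : y ∈ Subgroup.normalizer ((S : Subgroup Q) : Set Q)) {s : Q} (hs : s ∈ (S : Subgroup Q)) :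
    s * y * s⁻¹ = y := by
  set a := s * y * s⁻¹ * y⁻¹ with ha
  have haA : a ∈ A := mul_mem (Subgroup.Normal.conj_mem ‹_› y hyA s) (inv_mem hyA)
  have haS : a ∈ (S : Subgroup Q) := by
    have := (Subgroup.mem_normalizer_iff.mp hnorm s⁻¹).mp (inv_mem hs)
    have := mul_mem hs this
    simpa [ha, mul_assoc] using this
  have hc : Commute a y := setLike_mul_comm haA hyA
  have h1 : a ^ orderOf y = 1 := by
    have h : (a * y) ^ orderOf y = 1 := by
      rw [show a * y = s * y * s⁻¹ by simp [ha], conj_pow, pow_orderOf_eq_one, mul_one,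
        mul_inv_cancel]
    rwa [hc.mul_pow, pow_orderOf_eq_one, mul_one] at h
  obtain ⟨k, hk⟩ := S.isPGroup' ⟨a, haS⟩
  have h2 : a ^ 2 ^ k = 1 := congrArg Subtype.val hk
  have hcop : (orderOf y).Coprime (2 ^ k) :=
    Nat.Coprime.pow_right k (Nat.coprime_two_right.mpr hodd)
  have : a = 1 := by
    have := pow_gcd_eq_one.mpr ⟨h1, h2⟩
    rwa [hcop.gcd_eq_one, pow_one] at this
  exact mul_inv_eq_one.mp this

theorem not_real {Q : Type*} [Group Q] [Finite Q] {y : Q} (hy : y ≠ 1) (hodd : Odd (orderOf y))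
    (S : Sylow 2 Q) (hS : ∀ s ∈ (S : Subgroup Q), s * y * s⁻¹ = y) : ¬ IsConj y y⁻¹ := by
  intro hc
  obtain ⟨g, hg⟩ := isConj_iff.mp hc
  let C : Subgroup Q := Subgroup.centralizer {y}
  have hmem : ∀ z, z ∈ C ↔ z * y = y * z := fun z => by
    simp only [C, Subgroup.mem_centralizer_iff, Set.mem_singleton_iff, forall_eq]
    exact eq_comm
  have hSC : (S : Subgroup Q) ≤ C := fun s hs =>
    (hmem s).mpr (mul_inv_eq_iff_eq_mul.mp (hS s hs))
  have hgy : g⁻¹ * y * g = y⁻¹ := by
    calc g⁻¹ * y * g = g⁻¹ * (g * y * g⁻¹)⁻¹ * g := by rw [hg, inv_inv]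
      _ = y⁻¹ := by simp [mul_assoc]
  have hgN : g ∈ Subgroup.normalizer (C : Set Q) := by
    rw [Subgroup.mem_normalizer_iff]
    intro z
    simp only [SetLike.mem_coe, hmem]
    have e1 : g * z * g⁻¹ * y = g * (z * y⁻¹) * g⁻¹ := by rw [← hgy]; simp [mul_assoc]
    have e2 : y * (g * z * g⁻¹) = g * (y⁻¹ * z) * g⁻¹ := by rw [← hgy]; simp [mul_assoc]
    rw [e1, e2, mul_left_inj, mul_right_inj]
    constructor
    · intro h
      exact Commute.inv_right (h : Commute z y)
    · intro h
      exact (by simpa using Commute.inv_right (h : Commute z y⁻¹) : Commute z y).eq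
  have hgC : g ∉ C := by
    intro h
    rw [(hmem g).mp h, mul_inv_cancel_right] at hg
    apply hy
    have h2 : y ^ 2 = 1 := by rw [pow_two]; nth_rw 2 [hg]; rw [mul_inv_cancel]
    have := pow_gcd_eq_one.mpr ⟨h2, pow_orderOf_eq_one y⟩
    rwa [(Nat.coprime_two_left.mpr hodd).gcd_eq_one, pow_one] at this
  have hg2 : g * g ∈ C := by
    rw [hmem]
    have h3 : g * y⁻¹ * g⁻¹ = y := by rw [← hgy]; simp [mul_assoc]
    calc g * g * y = g * (g * y * g⁻¹) * g⁻¹ * (g * g) := by simp [mul_assoc]
      _ = y * (g * g) := by rw [hg, h3]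
  let N := Subgroup.normalizer (C : Set Q)
  have hsq : (QuotientGroup.mk' (C.subgroupOf N) ⟨g, hgN⟩) ^ 2 = 1 := by
    rw [← map_pow, QuotientGroup.mk'_apply, QuotientGroup.eq_one_iff, Subgroup.mem_subgroupOf]
    simpa [pow_two] using hg2
  have hne : QuotientGroup.mk' (C.subgroupOf N) ⟨g, hgN⟩ ≠ 1 := by
    rw [QuotientGroup.mk'_apply, Ne, QuotientGroup.eq_one_iff, Subgroup.mem_subgroupOf]
    exact hgC
  have h2 : 2 ∣ C.relIndex N := by
    rw [Subgroup.relIndex, Subgroup.index_eq_card, ← orderOf_eq_prime hsq hne]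
    exact orderOf_dvd_natCard _
  have h3 : ¬ 2 ∣ C.index := fun h =>
    S.not_dvd_index (h.trans (Subgroup.index_dvd_of_le hSC))
  exact h3 (h2.trans (Dvd.intro _ (Subgroup.relIndex_mul_index Subgroup.le_normalizer)))


/-- Let G be a finite solvable group with Sylow 2-subgroup S, and let x ≠ 1 be an element of odd order normalizing S. Then x is not conjugate to its inverse in G. -/
theorem result {G : Type*} [Group G] [Finite G] [Group.IsSolvable G]
    (S : Sylow 2 G) (x : G) (hx : x ≠ 1) (hodd : Odd (orderOf x))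
    (hnorm : x ∈ Subgroup.normalizer ((S : Subgroup G) : Set G)) : ¬ IsConj x x⁻¹ := by
  classical
  obtain ⟨n, hn⟩ := (inferInstance : Group.IsSolvable G).solvable
  have hex : ∃ k, x ∉ derivedSeries G k := ⟨n, by rw [hn]; simpa using hx⟩
  have h0 : Nat.find hex ≠ 0 := fun h => by
    have := Nat.find_spec hex
    rw [h] at this
    simp at this
  obtain ⟨i, hi⟩ := Nat.exists_eq_succ_of_ne_zero h0
  have hxi : x ∈ derivedSeries G i := by
    have := Nat.find_min hex (show i < Nat.find hex by omega)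
    simpa using this
  have hxj : x ∉ derivedSeries G (i + 1) := by
    have := Nat.find_spec hex
    rwa [hi] at this
  have hf := QuotientGroup.mk'_surjective (derivedSeries G (i + 1))
  let A : Subgroup (G ⧸ derivedSeries G (i + 1)) :=
    (derivedSeries G i).map (QuotientGroup.mk' _)
  have : A.Normal := (derivedSeries_normal G i).map _ hf
  have : IsMulCommutative A := by
    rw [← Subgroup.le_centralizer_iff_isMulCommutative, ← Subgroup.commutator_eq_bot_iff_le_centralizer,
      ← Subgroup.map_commutator, ← derivedSeries_succ, QuotientGroup.map_mk'_self]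
  intro hc
  have hy : QuotientGroup.mk' (derivedSeries G (i + 1)) x ≠ 1 := by
    rwa [QuotientGroup.mk'_apply, Ne, QuotientGroup.eq_one_iff]
  have hyodd : Odd (orderOf (QuotientGroup.mk' (derivedSeries G (i + 1)) x)) :=
    Odd.of_dvd_nat hodd (orderOf_map_dvd _ x)
  have hyN : QuotientGroup.mk' (derivedSeries G (i + 1)) x ∈
      Subgroup.normalizer (((S.mapSurjective hf : Sylow 2 (G ⧸ derivedSeries G (i + 1))) : Subgroup (G ⧸ derivedSeries G (i + 1))) : Set (G ⧸ derivedSeries G (i + 1))) := by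
    rw [Sylow.coe_mapSurjective]
    exact Subgroup.le_normalizer_map _ ⟨x, hnorm, rfl⟩
  refine not_real hy hyodd (S.mapSurjective hf)
    (fun s hs => centralizes (A := A) _ ⟨x, hxi, rfl⟩ hyodd hyN hs) ?_
  rw [← map_inv]
  exact (QuotientGroup.mk' _).map_isConj hc

end Cfsg.Agent.S4060
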