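import Cfsg.Statements.S4061
import Cfsg.Agent.Lib.Core.Cores
import Cfsg.Agent.Lib.Core.PSolvable
import Cfsg.Agent.Lib.PGroup.Basic
import Cfsg.Agent.Lib.Coprime.Generation
import Cfsg.Agent.Lib.Local.FixedOrderClosed
import Cfsg.Agent.Lib.Solv.ComplementStructure
import Cfsg.Agent.S0016
-- import your own Cfsg.Agent.* helpers here

set_option autoImplicit false
open Cfsg

namespace Cfsg.Agent.S4061

open Subgroup
open scoped commutatorElement

universe u
variable {H : Type u} [Group H] [Finite H]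

theorem exists_two_power (x : H) : ∃ k m : ℕ, Odd m ∧ orderOf (x ^ m) = 2 ^ k := by
  haveI : Fact (Nat.Prime 2) := ⟨Nat.prime_two⟩
  refine ⟨(orderOf x).factorization 2, orderOf x / 2 ^ (orderOf x).factorization 2, ?_,
    Cfsg.Lib.PGroup.orderOf_ordCompl_pow Nat.prime_two⟩
  rw [← Nat.not_even_iff_odd, even_iff_two_dvd]
  exact Nat.not_dvd_ordCompl Nat.prime_two (orderOf_pos x).ne'

/-- In the quotient by the odd core the involution is central. -/
theorem unique_inv [Group.IsSolvable H] (hamb : ∀ x : H, IsConj x x⁻¹)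
    (hone : ∀ s t : H, orderOf s = 2 → orderOf t = 2 → IsConj s t)
    (hcore : ∀ M : Subgroup H, M.Normal → Odd (Nat.card ↥M) → M = ⊥) :
    ∀ s t : H, orderOf s = 2 → orderOf t = 2 → s = t := by
  classical
  haveI h2f : Fact (Nat.Prime 2) := ⟨Nat.prime_two⟩
  intro s t hs ht
  haveI : Nontrivial H := ⟨⟨s, 1, fun e => by rw [e, orderOf_one] at hs; omega⟩⟩
  obtain ⟨M, hM⟩ := Cfsg.Lib.Core.exists_isMinNormal_univ (G := H)
  haveI := hM.1
  obtain ⟨hMab, r, hr, hMr, hMP⟩ := Cfsg.Lib.Core.minimal_solvable_elementary hM inferInstance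
  obtain ⟨v₀, hv₀, hv₀1⟩ := M.bot_or_exists_ne_one.resolve_left hM.2.1
  obtain rfl : r = 2 := by
    by_contra hr2
    haveI : Fact r.Prime := ⟨hr⟩
    obtain ⟨k, hk⟩ := IsPGroup.iff_card.1 hMP
    exact hM.2.1 (hcore M hM.1 (hk ▸ (hr.odd_of_ne_two hr2).pow))
  have hMord : ∀ v ∈ M, v ≠ 1 → orderOf v = 2 := fun v hv hv1 => orderOf_eq_prime (hMr v hv) hv1
  have hinM : ∀ w : H, orderOf w = 2 → w ∈ M := by
    intro w hw
    obtain ⟨g, hg⟩ := isConj_iff.1 (hone v₀ w (hMord v₀ hv₀ hv₀1) hw)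
    exact hg ▸ hM.1.conj_mem v₀ hv₀ g
  suffices hC : ∀ h : H, ∀ v ∈ M, h * v * h⁻¹ = v by
    obtain ⟨g, hg⟩ := isConj_iff.1 (hone s t hs ht)
    rw [← hg, hC g s (hinM s hs)]
  -- the action
  let φ₀ : H →* Monoid.End M :=
    { toFun := fun h => (MulAut.conjNormal h : M ≃* M).toMonoidHom
      map_one' := by rw [map_one]; rfl
      map_mul' := fun a b => by rw [map_mul]; rfl }
  have hφ₀ : ∀ (h : H) (v : M), ((φ₀ h v : M) : H) = h * v * h⁻¹ := fun h v => rfl
  set C := φ₀.ker with hC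
  have hCmem : ∀ h : H, h ∈ C ↔ ∀ v ∈ M, h * v * h⁻¹ = v := by
    intro h
    rw [hC, MonoidHom.mem_ker]
    constructor
    · intro he v hv
      have := congrArg Subtype.val (DFunLike.congr_fun he (⟨v, hv⟩ : M))
      exact (hφ₀ h ⟨v, hv⟩).symm.trans this
    · intro he
      ext v
      exact (hφ₀ h v).trans (he v v.2)
  intro h v hv
  refine (hCmem h).1 ?_ v hv
  by_contra hne
  haveI : Nontrivial (H ⧸ C) :=
    ⟨⟨QuotientGroup.mk' C h, 1, fun e => hne ((QuotientGroup.eq_one_iff h).1 e)⟩⟩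
  haveI : Group.IsSolvable (H ⧸ C) := Group.isSolvable_of_surjective (QuotientGroup.mk'_surjective C)
  obtain ⟨B, hB⟩ := Cfsg.Lib.Core.exists_isMinNormal_univ (G := H ⧸ C)
  haveI := hB.1
  obtain ⟨hBab, q, hq, hBq, hBP⟩ := Cfsg.Lib.Core.minimal_solvable_elementary hB inferInstance
  haveI : Fact q.Prime := ⟨hq⟩
  set π := QuotientGroup.mk' C
  have hMC : M ≤ C := fun w hw => (hCmem w).2 fun v hv => by
    rw [show w * v = v * w from congrArg Subtype.val (hMab.is_comm.comm ⟨w, hw⟩ ⟨v, hv⟩),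
      mul_inv_cancel_right]
  -- no non-trivial element of `M` is fixed by the whole of `B`
  set K := B.comap π
  have hfix : ∀ v ∈ M, (∀ k ∈ K, k * v * k⁻¹ = v) → v = 1 := by
    intro v hv hvK
    have hD : (M ⊓ centralizer (K : Set H)).Normal := inferInstance
    rcases hM.2.2 _ hD inf_le_left with hbot | htop
    · rw [← mem_bot, ← hbot]
      exact ⟨hv, mem_centralizer_iff.2 fun k hk => mul_inv_eq_iff_eq_mul.1 (hvK k hk)⟩
    · exfalso
      refine hB.2.1 (eq_bot_iff.2 fun b hb => ?_)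
      obtain ⟨k, rfl⟩ := QuotientGroup.mk'_surjective C b
      refine mem_bot.2 ((QuotientGroup.eq_one_iff k).2 ((hCmem k).2 fun w hw => ?_))
      rw [mem_centralizer_iff.1 (htop.ge hw).2 k hb, mul_inv_cancel_right]
  -- the prime `q` is odd
  have hq2 : q ≠ 2 := by
    rintro rfl
    obtain ⟨S⟩ : Nonempty (Sylow 2 ↥K) := inferInstance
    have hMK : M ≤ K := hMC.trans (fun c hc => by
      show π c ∈ B
      rw [show π c = 1 from (QuotientGroup.eq_one_iff c).2 hc]
      exact one_mem _)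
    have hMS : M.subgroupOf K ≤ (S : Subgroup ↥K) :=
      (Cfsg.Lib.Core.le_pCore (hMP.comap_subtype)).trans (Cfsg.Lib.Core.pCore_le_sylow S)
    have hne : (M.subgroupOf K).subgroupOf (S : Subgroup ↥K) ≠ ⊥ := by
      rw [Ne, subgroupOf_eq_bot, disjoint_iff, inf_eq_left.2 hMS, subgroupOf_eq_bot, disjoint_iff,
        inf_eq_left.2 hMK]
      exact hM.2.1
    obtain ⟨w, hw, hw1⟩ := (_ : Subgroup ↥(S : Subgroup ↥K)).bot_or_exists_ne_one.resolve_left
      (Cfsg.Lib.PGroup.inf_center_ne_bot S.2 hne)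
    have hwM : ((w : ↥K) : H) ∈ M := hw.1
    have hKC : (S : Subgroup ↥K) ⊔ C.subgroupOf K = ⊤ := by
      have h1 : ¬ 2 ∣ ((S : Subgroup ↥K) ⊔ C.subgroupOf K).index := fun hd =>
        S.not_dvd_index (hd.trans (index_dvd_of_le le_sup_left))
      have hCK : IsPGroup 2 (↥K ⧸ C.subgroupOf K) := by
        intro a
        obtain ⟨a, rfl⟩ := QuotientGroup.mk'_surjective _ a
        refine ⟨1, ?_⟩
        rw [← map_pow]
        refine (QuotientGroup.eq_one_iff _).2 (mem_subgroupOf.2 ?_)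
        rw [pow_one, SubgroupClass.coe_pow, ← QuotientGroup.eq_one_iff]
        exact (map_pow π (a : H) 2).trans (hBq _ a.2)
      obtain ⟨j, hj⟩ := IsPGroup.iff_card.1 hCK
      have h2 : ((S : Subgroup ↥K) ⊔ C.subgroupOf K).index ∣ 2 ^ j := by
        rw [← hj, ← index_eq_card]
        exact index_dvd_of_le le_sup_right
      obtain ⟨i, -, hi⟩ := (Nat.dvd_prime_pow Nat.prime_two).1 h2
      rcases i with - | i
      · exact index_eq_one.1 hi
      · exact absurd (hi ▸ dvd_pow_self 2 (Nat.succ_ne_zero i)) h1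
    refine hw1 (Subtype.ext (Subtype.ext (hfix _ hwM fun k hk => ?_)))
    have hle : (S : Subgroup ↥K) ⊔ C.subgroupOf K ≤ centralizer ({(w : ↥K)} : Set ↥K) := by
      refine sup_le (fun a ha => mem_centralizer_singleton_iff.2 ?_)
        (fun a ha => mem_centralizer_singleton_iff.2 ?_)
      · exact congrArg Subtype.val (mem_center_iff.1 hw.2 ⟨a, ha⟩)
      · exact Subtype.ext (mul_inv_eq_iff_eq_mul.1 ((hCmem _).1 (mem_subgroupOf.1 ha) _ hwM))
    rw [hKC] at hle
    have := congrArg Subtype.val (mem_centralizer_singleton_iff.1 (hle (mem_top ⟨k, hk⟩)))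
    exact mul_inv_eq_iff_eq_mul.2 this
  -- coprime action of `B` on `M`
  let ψ : H ⧸ C →* Monoid.End M := QuotientGroup.lift C φ₀ le_rfl
  letI : CommGroup ↥B := { (inferInstance : Group ↥B) with mul_comm := hBab.is_comm.comm }
  letI : CommGroup ↥M := { (inferInstance : Group ↥M) with mul_comm := hMab.is_comm.comm }
  let φ : ↥B →* Monoid.End M := ψ.comp B.subtype
  let St : ↥M → Subgroup ↥B := fun v =>
    { carrier := {b | φ b v = v}
      one_mem' := by show φ 1 v = v; rw [map_one]; rfl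
      mul_mem' := fun {a b} ha hb => by
        show φ (a * b) v = v
        rw [map_mul]
        show φ a (φ b v) = v
        rw [hb, ha]
      inv_mem' := fun {a} ha => by
        show φ a⁻¹ v = v
        have h1 : φ (a⁻¹ * a) v = φ a⁻¹ (φ a v) := by rw [map_mul]; rfl
        rw [ha, inv_mul_cancel, map_one] at h1
        exact h1.symm }
  have hSt : ∀ (v : ↥M) (b : ↥B), b ∈ St v ↔ φ b v = v := fun v b => Iff.rfl
  have hfix' : ∀ v : ↥M, (∀ b, φ b v = v) → v = 1 := by
    intro v hv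
    exact Subtype.ext (hfix v v.2 fun k hk => congrArg Subtype.val (hv ⟨π k, hk⟩))
  -- stabilizers are conjugate
  have hStc : ∀ v w : ↥M, v ≠ 1 → w ≠ 1 → Nat.card ↥(St v) ≤ Nat.card ↥(St w) := by
    intro v w hv hw
    obtain ⟨g, hg⟩ := isConj_iff.1 (hone (v : H) w (hMord _ v.2 fun e => hv (Subtype.ext e))
      (hMord _ w.2 fun e => hw (Subtype.ext e)))
    refine Nat.card_le_card_of_injective (fun b => ⟨⟨π g * (b : ↥B) * (π g)⁻¹,
      hB.1.conj_mem _ b.1.2 _⟩, ?_⟩) ?_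
    · obtain ⟨⟨b, hb⟩, hbv⟩ := b
      obtain ⟨k, rfl⟩ := QuotientGroup.mk'_surjective C b
      have hkv : k * (v : H) * k⁻¹ = v := congrArg Subtype.val ((hSt _ _).1 hbv)
      rw [hSt]
      refine Subtype.ext ?_
      show ((ψ (π g * π k * (π g)⁻¹) w : M) : H) = w
      rw [← map_inv, ← map_mul, ← map_mul]
      show ((φ₀ (g * k * g⁻¹) w : M) : H) = w
      rw [hφ₀, ← hg]
      have h1 := congrArg (fun z => g * z * g⁻¹) hkv
      simpa [mul_assoc] using h1
    · intro a b hab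
      exact Subtype.ext (Subtype.ext (mul_left_cancel (mul_right_cancel
        (congrArg (fun z : ↥(St w) => (((z : ↥B)) : H ⧸ C)) hab))))
  -- a stabilizer of a non-trivial vector is trivial
  obtain ⟨b₀, hb₀, hb₀1⟩ := B.bot_or_exists_ne_one.resolve_left hB.2.1
  have htriv : ∀ v : ↥M, v ≠ 1 → St v = ⊥ := by
    by_contra! hex
    obtain ⟨v₁, hv₁, hSt₁⟩ := hex
    -- a vector with a maximal stabilizer
    obtain ⟨j, hj⟩ := IsPGroup.iff_card.1 hBP
    obtain ⟨i, hi⟩ := IsPGroup.iff_card.1 hMP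
    have hcop : (Nat.card ↥B).Coprime (Nat.card ↥M) := by
      rw [hj, hi]
      exact Nat.Coprime.pow _ _ ((Nat.coprime_primes hq Nat.prime_two).2 hq2)
    obtain ⟨B₀, ⟨c, hc⟩, u, hu, hu1⟩ : ∃ B₀ : Subgroup ↥B, (∃ c, B₀ ⊔ zpowers c = ⊤) ∧
        ∃ u ∈ Cfsg.Lib.Coprime.fixedBy φ B₀, u ≠ 1 := by
      by_contra! hall
      have h1 := Cfsg.Lib.Coprime.mem_iSup_fixedBy φ hcop ⊥ (v := (⟨v₀, hv₀⟩ : M))
        (fun b hb => by rw [mem_bot.1 hb, map_one]; rfl)
      have h2 : (⟨v₀, hv₀⟩ : M) ∈ (⊥ : Subgroup ↥M) := by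
        have hle : (⨆ B₁ ∈ {B₁ : Subgroup ↥B | ∃ a : ↥B, B₁ ⊔ zpowers a = ⊤},
            Cfsg.Lib.Coprime.fixedBy φ B₁) ≤ (⊥ : Subgroup ↥M) :=
          iSup₂_le fun B₁ hB₁ u hu => mem_bot.2 (hall B₁ hB₁ u hu)
        exact hle h1
      exact hv₀1 (congrArg Subtype.val (mem_bot.1 h2))
    have hB₀ : B₀ ≤ St u := fun b hb => hu b hb
    have hmax : ∀ v : ↥M, v ≠ 1 → ∀ a, a ∉ St v → St v ⊔ zpowers a = ⊤ := by
      intro v hv a ha
      have hidx : (B₀ ⊔ zpowers c).index ≤ 1 := by rw [hc, index_top]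
      refine eq_top_of_le_card _ ?_
      have h1 : Nat.card ↥B ≤ q * Nat.card ↥B₀ := by
        rw [← Subgroup.card_top (G := ↥B), ← hc, ← Nat.card_fin q, ← Nat.card_prod]
        refine Nat.card_le_card_of_surjective (fun t : Fin q × B₀ =>
          (⟨c ^ (t.1 : ℕ) * t.2, mul_mem (mem_sup_right (npow_mem_zpowers c _))
            (mem_sup_left t.2.2)⟩ : ↥(B₀ ⊔ zpowers c))) ?_
        rintro ⟨w, hw⟩
        obtain ⟨y, hy, _, ⟨k, rfl⟩, rfl⟩ := Subgroup.mem_sup.1 hw
        obtain ⟨k', hk'⟩ : ∃ k' : Fin q, c ^ (k' : ℕ) = c ^ k := by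
          have hnn := Int.emod_nonneg k (Int.natCast_ne_zero.2 hq.ne_zero)
          have hlt := Int.emod_lt_of_pos k (show (0 : ℤ) < q by exact_mod_cast hq.pos)
          refine ⟨⟨(k % q).toNat, by omega⟩, ?_⟩
          show c ^ (k % (q : ℤ)).toNat = c ^ k
          rw [← zpow_natCast, Int.toNat_of_nonneg hnn]
          nth_rw 2 [← Int.emod_add_ediv_mul k q]
          rw [zpow_add, mul_comm (k / (q : ℤ)), zpow_mul, zpow_natCast,
            show c ^ q = 1 from Subtype.ext (hBq _ c.2), one_zpow, mul_one]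
        exact ⟨(k', ⟨y, hy⟩), Subtype.ext ((congrArg (· * y) hk').trans (mul_comm _ _))⟩
      have h2 : Nat.card ↥B₀ ≤ Nat.card ↥(St v) := (card_le_of_le hB₀).trans (hStc u v hu1 hv)
      have hlt : St v < St v ⊔ zpowers a :=
        lt_of_le_of_ne le_sup_left fun e => ha (e.ge (mem_sup_right (mem_zpowers a)))
      have hBg : IsPGroup q ↥B := hBP
      obtain ⟨x, hx⟩ := IsPGroup.iff_card.1 (hBg.to_subgroup (St v))
      obtain ⟨y, hy⟩ := IsPGroup.iff_card.1 (hBg.to_subgroup (St v ⊔ zpowers a))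
      have h3 : Nat.card ↥(St v) < Nat.card ↥(St v ⊔ zpowers a) :=
        lt_of_le_of_ne (card_le_of_le hlt.le) fun he => hlt.ne (eq_of_le_of_card_ge hlt.le he.ge)
      rw [hx, hy] at h3
      refine h1.trans ((Nat.mul_le_mul_left q h2).trans ?_)
      rw [hx, hy, ← pow_succ']
      exact Nat.pow_le_pow_right hq.pos ((Nat.pow_lt_pow_iff_right hq.one_lt).1 h3)
    -- all stabilizers coincide
    have hsame : ∀ w : ↥M, w ≠ 1 → St v₁ ≤ St w := by
      intro w hw
      by_contra hne'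
      obtain ⟨a, ha, ha'⟩ := SetLike.not_le_iff_exists.1 hne'
      have htop := hmax w hw a ha'
      have hwv : v₁ * w ≠ 1 := fun e => by
        have : φ a (v₁ * w) = v₁ * w := by rw [e, map_one]
        rw [map_mul, (hSt _ _).1 ha] at this
        exact ha' ((hSt _ _).2 (mul_left_cancel this))
      have hsub : St (v₁ * w) ≤ St v₁ ⊓ St w := by
        intro b hb
        have hb' : φ b v₁ * φ b w = v₁ * w := (map_mul _ _ _).symm.trans ((hSt _ _).1 hb)
        set d := φ b v₁ * v₁⁻¹ with hd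
        have hd' : d = w * (φ b w)⁻¹ := by
          rw [hd, eq_mul_inv_iff_mul_eq, mul_right_comm, hb', mul_comm v₁ w, mul_inv_cancel_right]
        have hcomm : ∀ (e : ↥B) (x : ↥M), φ e x = x → φ e (φ b x) = φ b x := by
          intro e x hex
          have h1 : φ (e * b) x = φ (b * e) x := by rw [mul_comm e b]
          rw [map_mul, map_mul] at h1
          show φ e (φ b x) = φ b x
          rw [show φ e (φ b x) = φ b (φ e x) from h1, hex]
        have h1 : St v₁ ≤ St d := fun e he => by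
          rw [hSt, hd, map_mul, map_inv, hcomm e v₁ he, (hSt _ _).1 he]
        have h2 : St w ≤ St d := fun e he => by
          rw [hSt, hd', map_mul, map_inv, hcomm e w he, (hSt _ _).1 he]
        have hd1 : d = 1 := by
          refine hfix' d fun e => ?_
          have hle : St w ⊔ zpowers a ≤ St d := sup_le h2 (zpowers_le.2 (h1 ha))
          exact (hSt _ _).1 (hle (htop.ge (mem_top e)))
        refine mem_inf.2 ⟨(hSt _ _).2 (mul_inv_eq_one.1 hd1), (hSt _ _).2 ?_⟩
        rw [hd'] at hd1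
        exact (mul_inv_eq_one.1 hd1).symm
      exact ha' ((eq_of_le_of_card_ge (hsub.trans inf_le_left) (hStc v₁ _ hv₁ hwv)).ge ha |>
        fun hm => (mem_inf.1 (hsub hm)).2)
    obtain ⟨e, he, he1⟩ := (St v₁).bot_or_exists_ne_one.resolve_left hSt₁
    refine he1 ?_
    obtain ⟨⟨eb, heb⟩, rfl⟩ : ∃ b : ↥B, b = e := ⟨e, rfl⟩
    obtain ⟨k, rfl⟩ := QuotientGroup.mk'_surjective C eb
    refine Subtype.ext ((QuotientGroup.eq_one_iff k).2 ((hCmem k).2 fun w hw => ?_))
    by_cases hw1 : w = 1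
    · rw [hw1, mul_one, mul_inv_cancel]
    · exact congrArg Subtype.val
        ((hSt _ _).1 (hsame ⟨w, hw⟩ (fun e => hw1 (congrArg Subtype.val e)) he))
  -- reality of an element of odd order
  obtain ⟨y₀, rfl⟩ := QuotientGroup.mk'_surjective C b₀
  set a := (orderOf y₀).factorization 2
  set y := y₀ ^ 2 ^ a with hy
  have hyo : Odd (orderOf y) := by
    rw [hy, orderOf_pow' y₀ (pow_ne_zero _ two_ne_zero), Nat.gcd_eq_right (Nat.ordProj_dvd _ _),
      ← Nat.not_even_iff_odd, even_iff_two_dvd]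
    exact Nat.not_dvd_ordCompl Nat.prime_two (orderOf_pos y₀).ne'
  have hyB : π y ∈ B := by rw [hy, map_pow]; exact pow_mem hb₀ _
  have hy1 : π y ≠ 1 := by
    intro e
    rw [hy, map_pow, ← orderOf_dvd_iff_pow_eq_one] at e
    rw [orderOf_eq_prime (hBq _ hb₀) hb₀1] at e
    exact hq2 ((Nat.prime_dvd_prime_iff_eq hq Nat.prime_two).1 (hq.dvd_of_dvd_pow e))
  obtain ⟨g, hg⟩ := isConj_iff.1 (hamb y)
  obtain ⟨k, m, hm, hxo⟩ := exists_two_power g
  set x := g ^ m
  have hodd : ∀ j : ℕ, g ^ (2 * j) * y * (g ^ (2 * j))⁻¹ = y := by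
    intro j
    induction j with
    | zero => simp
    | succ j ih =>
      rw [show 2 * (j + 1) = 1 + (1 + 2 * j) by ring, pow_add, pow_add, pow_one,
        show g * (g * g ^ (2 * j)) * y * (g * (g * g ^ (2 * j)))⁻¹ =
          g * (g * (g ^ (2 * j) * y * (g ^ (2 * j))⁻¹) * g⁻¹) * g⁻¹ by simp [mul_assoc],
        ih, hg, ← conj_inv, hg, inv_inv]
  have hx : x * y * x⁻¹ = y⁻¹ := by
    obtain ⟨j, rfl⟩ := hm
    show g ^ (2 * j + 1) * y * (g ^ (2 * j + 1))⁻¹ = y⁻¹
    rw [pow_succ', show g * g ^ (2 * j) * y * (g * g ^ (2 * j))⁻¹ =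
      g * (g ^ (2 * j) * y * (g ^ (2 * j))⁻¹) * g⁻¹ by simp [mul_assoc], hodd, hg]
  have hne2 : π y ≠ (π y)⁻¹ := by
    intro e
    have h1 : orderOf (π y) ∣ 2 := orderOf_dvd_of_pow_eq_one (by
      rw [pow_two]; exact eq_inv_iff_mul_eq_one.1 e)
    rcases (Nat.dvd_prime Nat.prime_two).1 h1 with h2 | h2
    · exact hy1 (orderOf_eq_one_iff.1 h2)
    · exact (Nat.not_even_iff_odd.2 hyo) (even_iff_two_dvd.2 (h2 ▸ orderOf_map_dvd π y))
  rcases k with - | - | k
  · apply hne2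
    rw [pow_zero, orderOf_eq_one_iff] at hxo
    rw [← map_inv, ← hx, hxo]
    simp
  · apply hne2
    have hxC : π x = 1 := (QuotientGroup.eq_one_iff x).2 (hMC (hinM x (by simpa using hxo)))
    rw [← map_inv, ← hx, map_mul, map_mul, map_inv, hxC, one_mul, inv_one, mul_one]
  · set w := x ^ 2 ^ (k + 1) with hw
    have hwo : orderOf w = 2 := by
      rw [hw, orderOf_pow' x (pow_ne_zero _ two_ne_zero), hxo,
        Nat.gcd_eq_right (pow_dvd_pow 2 (by omega)), show k + 1 + 1 = (k + 1).succ from rfl,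
        pow_succ, Nat.mul_div_cancel_left _ (Nat.two_pow_pos _)]
    have hwy : w * y * w⁻¹ = y := by
      rw [hw, pow_succ' 2 k, ← pow_mul, show m * (2 * 2 ^ k) = 2 * (m * 2 ^ k) by ring]
      exact hodd _
    have hwm := hinM w hwo
    have hfixed : (⟨π y, hyB⟩ : ↥B) ∈ St ⟨w, hwm⟩ := by
      rw [hSt]
      refine Subtype.ext ?_
      show y * w * y⁻¹ = w
      rw [← mul_inv_eq_iff_eq_mul.1 hwy, mul_inv_cancel_right]
    rw [htriv ⟨w, hwm⟩ (fun e => by
      have h1 : w = 1 := congrArg Subtype.val e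
      rw [h1, orderOf_one] at hwo; omega), mem_bot] at hfixed
    exact hy1 (congrArg Subtype.val hfixed)

/-- The structure for Sylow subgroups of order two. -/
theorem cyclic_case {G : Type u} [Group G] [Finite G] (hamb : ∀ x : G, IsConj x x⁻¹)
    (heven : 2 ∣ Nat.card G) (S : Sylow 2 G) (hS : IsCyclic ↥(S : Subgroup G)) :
    Nat.card S = 2 ∧ ((S : Subgroup G).IsComplement' (Cfsg.oddCore G) ∧
      Cfsg.oddCore G = commutator G ∧
      ∀ t : G, t ∈ S → t ≠ 1 → ∀ x : G, x ∈ Cfsg.oddCore G → t * x * t⁻¹ = x⁻¹) := by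
  haveI : Fact (Nat.Prime 2) := ⟨Nat.prime_two⟩
  obtain ⟨P, N, hN, hc⟩ := Cfsg.Lib.Local.FixedOrder.hasNormalPComplement_of_cyclic
    (fun q hq _ => hq.two_le) S hS
  haveI := hN
  have hNcop : (Nat.card ↥N).Coprime 2 := by
    rw [Nat.coprime_comm, Nat.prime_two.coprime_iff_not_dvd]
    intro hd
    exact P.not_dvd_index (by rw [hc.index_eq_card]; exact hd)
  have hNO : N ≤ Cfsg.oddCore G := Cfsg.Lib.Core.le_pPrimeCore hNcop
  have hOcop := Cfsg.Lib.Core.pPrimeCore_coprime 2 G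
  obtain ⟨i, hi⟩ := IsPGroup.iff_card.1 S.2
  have hSN : Nat.card ↥(S : Subgroup G) * Nat.card ↥N = Nat.card G := by
    rw [Nat.card_congr (S.equiv P).toEquiv, mul_comm]; exact hc.card_mul
  have hOeq : Cfsg.oddCore G = N := by
    refine (eq_of_le_of_card_ge hNO (Nat.le_of_dvd Nat.card_pos ?_)).symm
    have h1 : Nat.card ↥(Cfsg.oddCore G) ∣ Nat.card G := card_subgroup_dvd_card _
    rw [← hSN, hi] at h1
    exact (Nat.Coprime.pow_right i hOcop).dvd_of_dvd_mul_left h1
  rw [hOeq]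
  have hcompl : (S : Subgroup G).IsComplement' N :=
    isComplement'_of_coprime hSN (by rw [hi]; exact (hNcop.pow_right i).symm)
  have hdis : ∀ a : G, a ∈ S → a ∈ N → a = 1 := fun a ha hb =>
    mem_bot.1 (hcompl.disjoint.eq_bot.le ⟨ha, hb⟩)
  have hdec : ∀ g : G, ∃ s ∈ (S : Subgroup G), ∃ o ∈ N, g = o * s := by
    intro g
    obtain ⟨⟨⟨o, ho⟩, ⟨s, hs⟩⟩, he, -⟩ :=
      isComplement_iff_existsUnique.1 hcompl.symm g
    exact ⟨s, hs, o, ho, he.symm⟩
  have hScomm : ∀ a ∈ (S : Subgroup G), ∀ b ∈ (S : Subgroup G), a * b = b * a := by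
    intro a ha b hb
    haveI := hS
    exact congrArg Subtype.val (IsCyclic.commGroup.mul_comm (⟨a, ha⟩ : (S : Subgroup G)) ⟨b, hb⟩)
  have hsq : ∀ s ∈ (S : Subgroup G), s ^ 2 = 1 := by
    intro s hs
    obtain ⟨g, hg⟩ := isConj_iff.1 (hamb s)
    obtain ⟨a, ha, o, ho, rfl⟩ := hdec g
    rw [mul_inv_rev, show o * a * s * (a⁻¹ * o⁻¹) = o * (a * s * a⁻¹) * o⁻¹ by simp [mul_assoc],
      hScomm a ha s hs, mul_inv_cancel_right] at hg
    refine hdis _ (pow_mem hs 2) ?_
    have h1 : s * (o * s⁻¹ * o⁻¹ * s) * s⁻¹ ∈ N := hN.conj_mem _ (by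
      rw [show o * s⁻¹ * o⁻¹ * s = o * (s⁻¹ * o⁻¹ * s⁻¹⁻¹) by simp [mul_assoc]]
      exact mul_mem ho (hN.conj_mem _ (inv_mem ho) _)) s
    have h3 : o * s⁻¹ * o⁻¹ = s := by rw [← conj_inv, hg, inv_inv]
    rw [h3] at h1
    simpa [pow_two, mul_assoc] using h1
  have hcard : Nat.card S = 2 := by
    refine le_antisymm ?_ ?_
    · obtain ⟨c, hc⟩ := IsCyclic.exists_generator (α := ↥(S : Subgroup G))
      rw [← orderOf_eq_card_of_forall_mem_zpowers hc, ← orderOf_coe]
      exact Nat.le_of_dvd two_pos (orderOf_dvd_of_pow_eq_one (hsq c c.2))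
    · exact Nat.le_of_dvd Nat.card_pos (S.dvd_card_of_dvd_card heven)
  refine ⟨hcard, hcompl, ?_⟩
  -- the involution acts without fixed points
  obtain ⟨t, ht, ht1⟩ := (S : Subgroup G).bot_or_exists_ne_one.resolve_left (fun e => by
    change Nat.card ↥(S : Subgroup G) = 2 at hcard
    rw [e, card_bot] at hcard; omega)
  have ht2 : orderOf t = 2 := orderOf_eq_prime (hsq t ht) ht1
  have honly : ∀ s ∈ (S : Subgroup G), s ≠ 1 → s = t := by
    intro s hs hs1
    have hz : zpowers t = (S : Subgroup G) := by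
      refine eq_of_le_of_card_ge (zpowers_le.2 ht) ?_
      rw [Nat.card_zpowers, ht2]; exact hcard.le
    rw [← hz] at hs
    obtain ⟨j, rfl⟩ := hs
    change t ^ j = t
    rcases Int.even_or_odd j with ⟨l, rfl⟩ | ⟨l, rfl⟩
    · exfalso
      apply hs1
      change t ^ (l + l) = 1
      rw [← two_mul, zpow_mul, zpow_ofNat, ← ht2, pow_orderOf_eq_one, one_zpow]
    · rw [zpow_add_one, zpow_mul, zpow_ofNat, ← ht2, pow_orderOf_eq_one, one_zpow, one_mul]
  have hNodd : ∀ o ∈ N, Odd (orderOf o) := fun o ho => by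
    rw [← Nat.not_even_iff_odd, even_iff_two_dvd]
    intro hd
    exact (Nat.prime_two.coprime_iff_not_dvd.1 hNcop.symm) (hd.trans (Subgroup.orderOf_dvd_natCard N ho))
  have hfpf : ∀ x ∈ N, t * x = x * t → x = 1 := by
    intro x hx htx
    obtain ⟨g, hg⟩ := isConj_iff.1 (hamb x)
    obtain ⟨s, hs, o, ho, rfl⟩ := hdec g
    have hsx : s * x = x * s := by
      by_cases hs1 : s = 1
      · rw [hs1, one_mul, mul_one]
      · rw [honly s hs hs1, htx]
    rw [mul_inv_rev, show o * s * x * (s⁻¹ * o⁻¹) = o * (s * x * s⁻¹) * o⁻¹ by simp [mul_assoc],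
      hsx, mul_inv_cancel_right] at hg
    have h2 : o ^ 2 * x * (o ^ 2)⁻¹ = x := by
      rw [pow_two, mul_inv_rev, show o * o * x * (o⁻¹ * o⁻¹) = o * (o * x * o⁻¹) * o⁻¹ by
        simp [mul_assoc], hg, ← conj_inv, hg, inv_inv]
    obtain ⟨l, hl⟩ := hNodd o ho
    have hcx : Commute o x := by
      have h3 : Commute (o ^ 2) x := mul_inv_eq_iff_eq_mul.1 h2
      have h4 := h3.pow_left (l + 1)
      rwa [← pow_mul, show 2 * (l + 1) = orderOf o + 1 by omega, pow_succ, pow_orderOf_eq_one,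
        one_mul] at h4
    rw [hcx.eq, mul_inv_cancel_right] at hg
    obtain ⟨l', hl'⟩ := hNodd x hx
    have h5 : orderOf x ∣ 2 := orderOf_dvd_of_pow_eq_one (by
      rw [pow_two]; exact eq_inv_iff_mul_eq_one.1 hg)
    have := Nat.le_of_dvd two_pos h5
    exact orderOf_eq_one_iff.1 (by omega)
  have hinv : ∀ x ∈ N, t * x * t⁻¹ = x⁻¹ := by
    refine Cfsg.Lib.ComplementStructure.involution_inverts (H := (S : Subgroup G)) ?_ ht ht2
    intro s hs hs1
    rw [honly s hs hs1, eq_bot_iff]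
    rintro x ⟨hx, hxc⟩
    exact mem_bot.2 (hfpf x hx (mem_centralizer_singleton_iff.1 hxc).symm)
  refine ⟨?_, fun t' ht' ht'1 x hx => honly t' ht' ht'1 ▸ hinv x hx⟩
  refine le_antisymm (fun x hx => ?_) ?_
  · obtain ⟨l, hl⟩ := hNodd x hx
    have h1 : x = ⁅x ^ (l + 1), t⁆ := by
      rw [commutatorElement_def, show x ^ (l + 1) * t * (x ^ (l + 1))⁻¹ * t⁻¹ =
        x ^ (l + 1) * (t * (x ^ (l + 1))⁻¹ * t⁻¹) by simp [mul_assoc],
        hinv _ (inv_mem (pow_mem hx _)), inv_inv, ← pow_add,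
        show l + 1 + (l + 1) = orderOf x + 1 by omega, pow_succ, pow_orderOf_eq_one, one_mul]
    rw [h1, _root_.commutator_def]
    exact commutator_mem_commutator (mem_top _) (mem_top _)
  · refine Subgroup.Normal.quotient_commutative_iff_commutator_le.mp ⟨⟨fun a b => ?_⟩⟩
    have hq : Nat.card (G ⧸ N) = 2 := by
      rw [← index_eq_card, hcompl.index_eq_card]; exact hcard
    haveI : IsCyclic (G ⧸ N) := isCyclic_of_prime_card hq
    exact IsCyclic.commGroup.mul_comm a b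


/-- Let G be a finite solvable group of even order in which every element is conjugate to its inverse and all involutions are conjugate. Then a Sylow 2-subgroup S of G has order 2 or is a generalized quaternion group (of order at least 8). Moreover, if S has order 2, then G is the semidirect product of its largest normal subgroup of odd order O(G) by S, O(G) equals the derived subgroup of G, and the involution of S inverts every element of O(G). -/
theorem result {G : Type*} [Group G] [Finite G] [Group.IsSolvable G]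
    (hamb : ∀ x : G, IsConj x x⁻¹) (heven : 2 ∣ Nat.card G) (hone : ∀ s t : G, orderOf s = 2 → orderOf t = 2 → IsConj s t) (S : Sylow 2 G) :
    (Nat.card S = 2 ∨ ∃ n : ℕ, Nonempty ((S : Subgroup G) ≃* QuaternionGroup (2 ^ (n + 1)))) ∧
    (Nat.card S = 2 → (S : Subgroup G).IsComplement' (Cfsg.oddCore G) ∧ Cfsg.oddCore G = commutator G ∧
        ∀ t : G, t ∈ S → t ≠ 1 → ∀ x : G, x ∈ Cfsg.oddCore G → t * x * t⁻¹ = x⁻¹) := by
  haveI : Fact (Nat.Prime 2) := ⟨Nat.prime_two⟩
  set O := Cfsg.oddCore G with hO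
  have hOn : O.Normal := by rw [hO]; exact inferInstance
  have hOcop : (Nat.card ↥O).Coprime 2 := Cfsg.Lib.Core.pPrimeCore_coprime 2 G
  let π := QuotientGroup.mk' O
  have hlift : ∀ q : G ⧸ O, orderOf q = 2 → ∃ s : G, orderOf s = 2 ∧ π s = q := by
    intro q hq
    obtain ⟨x, rfl⟩ := QuotientGroup.mk'_surjective O q
    obtain ⟨k, m, hm, hmo⟩ := exists_two_power x
    have hπ : π (x ^ m) = π x := by
      obtain ⟨j, rfl⟩ := hm
      rw [map_pow, pow_succ, pow_mul, ← hq, pow_orderOf_eq_one, one_pow, one_mul]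
    refine ⟨x ^ m, orderOf_eq_prime ?_ (fun e => ?_), hπ⟩
    · have h1 : (x ^ m) ^ 2 ∈ O := by
        rw [← QuotientGroup.eq_one_iff]
        show π ((x ^ m) ^ 2) = 1
        rw [map_pow, hπ, ← hq, pow_orderOf_eq_one]
      have h2 : orderOf ((x ^ m) ^ 2) ∣ 2 ^ k := hmo ▸ orderOf_pow_dvd 2
      have h3 := Nat.dvd_gcd (Subgroup.orderOf_dvd_natCard O h1) h2
      rw [(hOcop.pow_right k).gcd_eq_one, Nat.dvd_one] at h3
      exact orderOf_eq_one_iff.1 h3
    · rw [e, map_one] at hπ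
      change orderOf (π x) = 2 at hq
      rw [← hπ, orderOf_one] at hq
      omega
  have hcore : ∀ M : Subgroup (G ⧸ O), M.Normal → Odd (Nat.card ↥M) → M = ⊥ := by
    intro M hMn hM
    haveI := hMn
    have h1 : M ≤ Cfsg.pPrimeCore 2 (G ⧸ O) :=
      Cfsg.Lib.Core.le_pPrimeCore hM.coprime_two_right
    rw [Cfsg.Lib.Core.pPrimeCore_quotient_eq_bot] at h1
    exact le_bot_iff.1 h1
  have hsolq : Group.IsSolvable (G ⧸ O) := Group.isSolvable_of_surjective (QuotientGroup.mk'_surjective O)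
  have huniq := unique_inv (H := G ⧸ O)
    (fun q => by
      obtain ⟨x, rfl⟩ := QuotientGroup.mk'_surjective O q
      obtain ⟨g, hg⟩ := isConj_iff.1 (hamb x)
      exact isConj_iff.2 ⟨π g, by rw [← map_inv, ← map_mul, ← map_mul, hg, map_inv]⟩)
    (fun a b ha hb => by
      obtain ⟨s, hs, rfl⟩ := hlift a ha
      obtain ⟨t, ht, rfl⟩ := hlift b hb
      obtain ⟨g, hg⟩ := isConj_iff.1 (hone s t hs ht)
      exact isConj_iff.2 ⟨π g, by rw [← map_inv, ← map_mul, ← map_mul, hg]⟩)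
    hcore
  have hinj : ∀ a ∈ (S : Subgroup G), a ∈ O → a = 1 := by
    intro a ha haO
    obtain ⟨i, hi⟩ := IsPGroup.iff_card.1 S.2
    have h3 := Nat.dvd_gcd (Subgroup.orderOf_dvd_natCard O haO)
      (hi ▸ Subgroup.orderOf_dvd_natCard (S : Subgroup G) ha)
    rw [(hOcop.pow_right i).gcd_eq_one, Nat.dvd_one] at h3
    exact orderOf_eq_one_iff.1 h3
  have huS : ∀ A B : Subgroup ↥(S : Subgroup G), Nat.card A = 2 → Nat.card B = 2 → A = B := by
    intro A B hA hB
    obtain ⟨a, ha⟩ := exists_prime_orderOf_dvd_card' 2 (G := ↥A) (by rw [hA])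
    obtain ⟨b, hb⟩ := exists_prime_orderOf_dvd_card' 2 (G := ↥B) (by rw [hB])
    rw [← Subgroup.orderOf_coe] at ha hb
    have hgen : ∀ (C : Subgroup ↥(S : Subgroup G)) (c : ↥C), Nat.card C = 2 →
        orderOf (c : ↥(S : Subgroup G)) = 2 → Subgroup.zpowers (c : ↥(S : Subgroup G)) = C := by
      intro C c hC hc
      exact Subgroup.eq_of_le_of_card_ge (Subgroup.zpowers_le.2 c.2)
        (by rw [Nat.card_zpowers, hc, hC])
    have hne : ∀ c : ↥(S : Subgroup G), orderOf c = 2 → orderOf (π (c : G)) = 2 := by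
      intro c hc
      refine orderOf_eq_prime ?_ (fun e => ?_)
      · rw [← map_pow, ← SubgroupClass.coe_pow, orderOf_dvd_iff_pow_eq_one.1 (dvd_of_eq hc), OneMemClass.coe_one, map_one]
      · have h1 : c = 1 := Subtype.ext (hinj c c.2 ((QuotientGroup.eq_one_iff _).1 e))
        rw [h1, orderOf_one] at hc
        omega
    have heq := huniq _ _ (hne _ ha) (hne _ hb)
    have hab : (a : ↥(S : Subgroup G)) = b := Subtype.ext (mul_inv_eq_one.1 (hinj _
      (mul_mem (a : ↥(S : Subgroup G)).2 (inv_mem (b : ↥(S : Subgroup G)).2))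
      ((QuotientGroup.eq_one_iff _).1 (by
        show π _ = 1
        rw [map_mul, map_inv, heq, mul_inv_cancel]))))
    rw [← hgen A a hA ha, ← hgen B b hB hb, hab]
  refine ⟨?_, fun hc2 => (cyclic_case hamb heven S ?_).2⟩
  · rcases Cfsg.Agent.S0016.result 2 S.2 huS with hc | ⟨-, n, ⟨e⟩⟩
    · exact Or.inl (cyclic_case hamb heven S hc).1
    · rcases n with - | n
      · refine Or.inl (cyclic_case hamb heven S ?_).1
        rw [pow_zero] at e
        haveI : IsCyclic (QuaternionGroup 1) :=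
          isCyclic_of_orderOf_eq_card (QuaternionGroup.xa 0) (by
            rw [QuaternionGroup.orderOf_xa, Nat.card_eq_fintype_card, QuaternionGroup.card])
        exact e.isCyclic.2 inferInstance
      · exact Or.inr ⟨n, ⟨e⟩⟩
  · exact isCyclic_of_prime_card hc2

end Cfsg.Agent.S4061
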