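import Cfsg.Statements.S4062
import Cfsg.Agent.S4035
import Mathlib.GroupTheory.Solvable
import Mathlib.GroupTheory.PGroup
import Mathlib.GroupTheory.GroupAction.Quotient
-- import your own Cfsg.Agent.* helpers here

set_option autoImplicit false
open Cfsg

namespace Cfsg.Agent.S4062

open Subgroup

universe u

/-- Elements of equal order are conjugate. -/
def OrderConj (G : Type u) [Group G] : Prop := ∀ x y : G, orderOf x = orderOf y → IsConj x y

theorem perm_three {G : Type u} [Group G] [Finite G] (hc : Nat.card G = 6) (hnc : ∃ a b : G, a * b ≠ b * a) :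
    Nonempty (G ≃* Equiv.Perm (Fin 3)) := by
  have := Fact.mk Nat.prime_two
  have := Fact.mk Nat.prime_three
  obtain ⟨y, hy⟩ := exists_prime_orderOf_dvd_card' (G := G) 2 (by rw [hc]; norm_num)
  obtain ⟨z, hz⟩ := exists_prime_orderOf_dvd_card' (G := G) 3 (by rw [hc]; norm_num)
  set H := zpowers y with hH
  have hidx : H.index = 3 := by
    have := H.card_mul_index
    rw [show Nat.card H = 2 by rw [hH, Nat.card_zpowers, hy], hc] at this
    omega
  have hcore : H.normalCore = ⊥ := by
    by_contra hne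
    have heq : H.normalCore = H := by
      refine eq_of_le_of_card_ge (normalCore_le H) ?_
      have h1 := (one_lt_card_iff_ne_bot _).mpr hne
      rw [show Nat.card H = 2 by rw [hH, Nat.card_zpowers, hy]]
      omega
    have hn : H.Normal := heq ▸ normalCore_normal H
    have hyc : z * y = y * z := by
      have h1 : z * y * z⁻¹ ∈ H := hn.conj_mem y (mem_zpowers y) z
      obtain ⟨i, hi⟩ := mem_zpowers_iff.mp h1
      rw [← zpow_mod_orderOf, hy] at hi
      rcases Int.emod_two_eq i with h | h
      · rw [Nat.cast_ofNat, h, zpow_zero] at hi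
        have : y = 1 := conj_eq_one_iff.mp hi.symm
        rw [this, orderOf_one] at hy
        omega
      · rw [Nat.cast_ofNat, h, zpow_one] at hi
        exact mul_inv_eq_iff_eq_mul.mp hi.symm
    have hzy : orderOf (z * y) = 6 := by
      rw [(show Commute z y from hyc).orderOf_mul_eq_mul_orderOf_of_coprime (by rw [hy, hz]; norm_num), hy, hz]
    have : IsCyclic G := isCyclic_of_orderOf_eq_card (z * y) (by rw [hzy, hc])
    obtain ⟨a, b, hab⟩ := hnc
    exact hab (IsCyclic.isMulCommutative.is_comm.comm a b)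
  have hf : Function.Injective (MulAction.toPermHom G (G ⧸ H)) := by
    rw [← MonoidHom.ker_eq_bot_iff, ← normalCore_eq_ker, hcore]
  let e : G ⧸ H ≃ Fin 3 := (Finite.equivFinOfCardEq (by rw [← index_eq_card, hidx]))
  refine ⟨MulEquiv.ofBijective (e.permCongrHom.toMonoidHom.comp (MulAction.toPermHom G (G ⧸ H))) ?_⟩
  rw [Nat.bijective_iff_injective_and_card]
  refine ⟨e.permCongrHom.injective.comp hf, ?_⟩
  rw [hc, Nat.card_eq_fintype_card, Fintype.card_perm, Fintype.card_fin]
  rfl

theorem comm_small {G : Type u} [Group G] [Finite G] (h : OrderConj G) (hcomm : ∀ a b : G, a * b = b * a) :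
    Nat.card G ≤ 2 := by
  have h1 : ∀ x : G, x ^ 2 = 1 := fun x => by
    obtain ⟨c, hc⟩ := isConj_iff.mp (h x x⁻¹ (orderOf_inv x).symm)
    rw [hcomm c x, mul_inv_cancel_right] at hc
    rw [pow_two]; exact mul_eq_one_iff_eq_inv.mpr hc
  by_contra hc
  push Not at hc
  classical
  have := Fintype.ofFinite G
  rw [Nat.card_eq_fintype_card] at hc
  obtain ⟨x, hx⟩ := Fintype.exists_ne_of_one_lt_card (show 1 < Fintype.card G by omega) 1
  obtain ⟨y, hy⟩ : ∃ y : G, y ∉ ({1, x} : Finset G) := by
    by_contra hne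
    push Not at hne
    have := Finset.card_le_card (show Finset.univ ⊆ ({1, x} : Finset G) from fun y _ => hne y)
    rw [Finset.card_univ] at this
    have := Finset.card_le_two (a := (1 : G)) (b := x)
    omega
  simp only [Finset.mem_insert, Finset.mem_singleton, not_or] at hy
  obtain ⟨c, hc'⟩ := isConj_iff.mp (h x y ((orderOf_eq_prime (h1 x) hx).trans (orderOf_eq_prime (h1 y) hy.1).symm))
  rw [hcomm c x, mul_inv_cancel_right] at hc'
  exact hy.2 hc'.symm

theorem main : ∀ (n : ℕ) (G : Type u) [Group G] [Finite G] [Group.IsSolvable G], Nat.card G = n → OrderConj G →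
    Nat.card G = 1 ∨ Nat.card G = 2 ∨ Nonempty (G ≃* Equiv.Perm (Fin 3)) := by
  classical
  intro n
  induction n using Nat.strong_induction_on with
  | _ n ih =>
  intro G _ _ _ hn h
  by_cases hone : Nat.card G = 1
  · exact Or.inl hone
  by_cases habG : ∀ a b : G, a * b = b * a
  · have := comm_small h habG
    have := Nat.card_pos (α := G)
    exact Or.inr (Or.inl (by omega))
  -- an elementary abelian normal subgroup
  obtain ⟨A, hAn, hAab, hAne⟩ : ∃ A : Subgroup G, A.Normal ∧ (∀ a ∈ A, ∀ b ∈ A, a * b = b * a) ∧ A ≠ ⊥ := by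
    obtain ⟨k, hk⟩ := Group.IsSolvable.solvable (G := G)
    have hex : ∃ k, derivedSeries G k = ⊥ := ⟨k, hk⟩
    have hk0 : Nat.find hex ≠ 0 := fun h0 => by
      have := Nat.find_spec hex
      rw [h0, derivedSeries_zero] at this
      exact hone ((card_top (G := G)).symm.trans (by rw [this, card_bot]))
    obtain ⟨j, hj⟩ := Nat.exists_eq_succ_of_ne_zero hk0
    refine ⟨derivedSeries G j, derivedSeries_normal G j, fun a ha b hb => ?_, Nat.find_min hex (by omega)⟩
    have h2 := Nat.find_spec hex
    rw [hj, derivedSeries_succ, commutator_eq_bot_iff_le_centralizer] at h2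
    exact (h2 ha b hb).symm
  obtain ⟨p, hp, hpA⟩ := Nat.exists_prime_and_dvd (fun h1 => hAne (eq_bot_of_card_eq A h1))
  have := Fact.mk hp
  let N : Subgroup G :=
    { carrier := {x | x ∈ A ∧ x ^ p = 1}
      one_mem' := ⟨A.one_mem, one_pow p⟩
      mul_mem' := fun {x y} hx hy => ⟨A.mul_mem hx.1 hy.1, by
        rw [(show Commute x y from hAab x hx.1 y hy.1).mul_pow, hx.2, hy.2, one_mul]⟩
      inv_mem' := fun {x} hx => ⟨A.inv_mem hx.1, by rw [inv_pow, hx.2, inv_one]⟩ }
  have hNn : N.Normal := ⟨fun x hx g => ⟨hAn.conj_mem x hx.1 g, by rw [conj_pow, hx.2]; group⟩⟩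
  obtain ⟨a, ha⟩ := exists_prime_orderOf_dvd_card' (G := A) p hpA
  rw [← Subgroup.orderOf_coe] at ha
  have haN : (a : G) ∈ N := ⟨a.2, ha ▸ pow_orderOf_eq_one _⟩
  have hall : ∀ x : G, orderOf x = p → x ∈ N := fun x hx => by
    obtain ⟨c, hc⟩ := isConj_iff.mp (h a x (ha.trans hx.symm))
    exact hc ▸ hNn.conj_mem _ haN c
  have hNne : N ≠ ⊥ := fun h1 => by
    rw [show (a : G) = 1 from mem_bot.mp (h1 ▸ haN), orderOf_one] at ha
    exact hp.ne_one ha.symm
  -- orders of lifts
  have horder : ∀ x : G, orderOf x = orderOf (x : G ⧸ N) ∨ orderOf x = orderOf (x : G ⧸ N) * p := by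
    intro x
    obtain ⟨c, hc⟩ := orderOf_map_dvd (QuotientGroup.mk' N) x
    have h1 : x ^ orderOf (x : G ⧸ N) ∈ N := by
      rw [← QuotientGroup.eq_one_iff, QuotientGroup.mk_pow]; exact pow_orderOf_eq_one _
    have h2 : orderOf x ∣ orderOf (x : G ⧸ N) * p := orderOf_dvd_of_pow_eq_one (by rw [pow_mul]; exact h1.2)
    change orderOf x = orderOf (x : G ⧸ N) * c at hc
    rw [hc] at h2
    rcases (Nat.dvd_prime hp).mp (Nat.dvd_of_mul_dvd_mul_left (orderOf_pos _) h2) with rfl | rfl
    · exact Or.inl (by rw [hc, mul_one])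
    · exact Or.inr hc
  have hdiv : ∀ x : G, p ∣ orderOf (x : G ⧸ N) → orderOf x = orderOf (x : G ⧸ N) * p := by
    intro x hd
    refine (horder x).resolve_left fun he => ?_
    obtain ⟨c, hc⟩ := hd
    have hc0 : c ≠ 0 := fun h0 => (orderOf_pos (x : G ⧸ N)).ne' (by rw [hc, h0, mul_zero])
    have h1 : orderOf (x ^ c) = p := by
      rw [orderOf_pow, he, hc, Nat.gcd_mul_left_left, Nat.mul_div_cancel _ (Nat.pos_of_ne_zero hc0)]
    have h2 := orderOf_dvd_of_pow_eq_one (show (x : G ⧸ N) ^ c = 1 by
      rw [← QuotientGroup.mk_pow]; exact (QuotientGroup.eq_one_iff _).mpr (hall _ h1))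
    have := Nat.le_of_dvd (Nat.pos_of_ne_zero hc0) h2
    rw [hc] at this
    nlinarith [hp.two_le, Nat.pos_of_ne_zero hc0]
  have hlift : ∀ u : G ⧸ N, ∃ x : G, (x : G ⧸ N) = u ∧
      orderOf x = if p ∣ orderOf u then orderOf u * p else orderOf u := by
    intro u
    obtain ⟨x, rfl⟩ := QuotientGroup.mk_surjective u
    split_ifs with hd
    · exact ⟨x, rfl, hdiv x hd⟩
    rcases horder x with he | he
    · exact ⟨x, rfl, he⟩
    obtain ⟨j, hj1, hj2⟩ := Nat.chineseRemainder ((hp.coprime_iff_not_dvd.mpr hd).symm) 1 0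
    have himg : ((x ^ j : G) : G ⧸ N) = (x : G ⧸ N) := by
      rw [QuotientGroup.mk_pow]
      exact (pow_eq_pow_iff_modEq.mpr hj1).trans (pow_one _)
    refine ⟨x ^ j, himg, Nat.dvd_antisymm (orderOf_dvd_of_pow_eq_one ?_) ?_⟩
    · rw [← pow_mul, ← orderOf_dvd_iff_pow_eq_one, he, mul_comm]
      exact mul_dvd_mul_right (Nat.modEq_zero_iff_dvd.mp hj2) _
    · have := orderOf_map_dvd (QuotientGroup.mk' N) (x ^ j)
      rwa [show QuotientGroup.mk' N (x ^ j) = (x : G ⧸ N) from himg] at this
  have hQ : OrderConj (G ⧸ N) := by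
    intro u v huv
    obtain ⟨x, rfl, hx⟩ := hlift u
    obtain ⟨y, rfl, hy⟩ := hlift v
    exact (QuotientGroup.mk' N).map_isConj (h x y (by rw [hx, hy, huv]))
  have hlt : Nat.card (G ⧸ N) < n := by
    have h1 := N.card_mul_index
    rw [index_eq_card, hn] at h1
    have h2 := (one_lt_card_iff_ne_bot N).mpr hNne
    rw [← h1]
    exact lt_mul_of_one_lt_left Nat.card_pos h2
  have hQcase := ih _ hlt (G ⧸ N) rfl hQ
  -- the orbit of `N \ {1}`
  obtain ⟨k, hk⟩ := IsPGroup.iff_card.mp (show IsPGroup p N from fun x => ⟨1, Subtype.ext (by simpa using x.2.2)⟩)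
  have hk0 : k ≠ 0 := fun h0 => hNne (eq_bot_of_card_eq _ (by rw [hk, h0, pow_zero]))
  have hclass : ∀ x : G, Nat.card {y : G // orderOf y = orderOf x} = (centralizer ({x} : Set G)).index := by
    intro x
    rw [← S4035.carrier_ncard_eq_index x, ← Nat.card_coe_set_eq]
    refine Nat.card_congr (Equiv.subtypeEquivRight fun y => ?_)
    rw [ConjClasses.mem_carrier_iff_mk_eq, ConjClasses.mk_eq_mk_iff_isConj]
    refine ⟨fun hy => h y x hy, fun hy => ?_⟩
    obtain ⟨c, rfl⟩ := isConj_iff.mp hy
    exact (MulEquiv.orderOf_eq (MulAut.conj c) y).symm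
  set C := centralizer ({(a : G)} : Set G) with hC
  have hNC : N ≤ C := fun x hx => mem_centralizer_singleton_iff.mpr (hAab x hx.1 a a.2)
  have horbit : Nat.card N = C.index + 1 := by
    rw [← hclass, ha]
    have e : {y : G // orderOf y = p} ≃ {y : N // y ≠ 1} :=
      { toFun := fun y => ⟨⟨y.1, hall y y.2⟩, fun h1 => by
          have := y.2
          rw [show y.1 = 1 from congrArg Subtype.val h1, orderOf_one] at this
          exact hp.ne_one this.symm⟩
        invFun := fun y => ⟨(y.1 : G), orderOf_eq_prime y.1.2.2 fun h1 => y.2 (Subtype.ext h1)⟩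
        left_inv := fun y => rfl
        right_inv := fun y => rfl }
    have := Fintype.ofFinite N
    rw [Nat.card_congr e, Nat.card_eq_fintype_card, Nat.card_eq_fintype_card, Fintype.card_subtype_compl,
      Fintype.card_subtype_eq]
    have := Fintype.card_pos (α := N)
    omega
  have hCq : C.index ∣ Nat.card (G ⧸ N) := by
    rw [← index_eq_card]; exact index_dvd_of_le hNC
  have hcardG : Nat.card G = Nat.card N * Nat.card (G ⧸ N) := by rw [← index_eq_card, card_mul_index]
  rcases hQcase with hq | hq | ⟨⟨e⟩⟩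
  · -- `G = N`
    refine absurd (fun x y => ?_) habG
    have htop : N = ⊤ := index_eq_one.mp (by rw [index_eq_card, hq])
    have hx : x ∈ N := htop ▸ mem_top x
    have hy : y ∈ N := htop ▸ mem_top y
    exact hAab x hx.1 y hy.1
  · rw [hq] at hCq hcardG
    have hN2 : Nat.card N = 2 ∨ Nat.card N = 3 := by
      have := Nat.le_of_dvd two_pos hCq
      have := (one_lt_card_iff_ne_bot N).mpr hNne
      omega
    rcases hN2 with h2 | h2 <;> rw [h2] at hcardG
    · exfalso
      refine habG (IsPGroup.isMulCommutative_of_card_eq_prime_sq (G := G) (p := 2) ?_).is_comm.comm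
      rw [hcardG]; norm_num
    · push Not at habG
      exact Or.inr (Or.inr (perm_three hcardG habG))
  · exfalso
    have hcard6 : Nat.card (G ⧸ N) = 6 := by
      rw [Nat.card_congr e.toEquiv, Nat.card_eq_fintype_card, Fintype.card_perm, Fintype.card_fin]; rfl
    rw [hcard6] at hCq
    have hle := Nat.le_of_dvd (by norm_num) hCq
    have hpN : p ∣ Nat.card N := hk ▸ dvd_pow_self p hk0
    have hp7 : p ≤ 7 := (Nat.le_of_dvd Nat.card_pos hpN).trans (by omega)
    by_cases hp23 : p ∣ 6
    · -- lifts of the elements of order `p` of the quotient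
      have hcnt : ∀ u : Equiv.Perm (Fin 3), orderOf u = p →
          Nat.card {v : Equiv.Perm (Fin 3) // v ^ p = 1 ∧ v ≠ 1} * (p * p) ≤ 6 := by
        intro u hu
        obtain ⟨x, hx⟩ := QuotientGroup.mk_surjective (e.symm u)
        have hxo : orderOf x = p * p := by
          have hq' : orderOf (x : G ⧸ N) = p := by rw [hx, MulEquiv.orderOf_eq, hu]
          rw [hdiv x (hq' ▸ dvd_rfl), hq']
        have h1 : Nat.card N * Nat.card {v : Equiv.Perm (Fin 3) // v ^ p = 1 ∧ v ≠ 1} ≤
            Nat.card {y : G // orderOf y = orderOf x} := by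
          rw [← Nat.card_prod]
          choose r hr using fun v : Equiv.Perm (Fin 3) => QuotientGroup.mk_surjective (e.symm v)
          refine Nat.card_le_card_of_injective (fun w => ⟨r w.2.1 * w.1.1, ?_⟩) ?_
          · have h2 : orderOf ((r w.2.1 * w.1.1 : G) : G ⧸ N) = p := by
              rw [QuotientGroup.mk_mul, (QuotientGroup.eq_one_iff _).mpr w.1.2, mul_one, hr, MulEquiv.orderOf_eq]
              exact orderOf_eq_prime w.2.2.1 w.2.2.2
            rw [hdiv _ (by rw [h2]), h2, hxo]
          · rintro ⟨⟨n1, hn1⟩, v1⟩ ⟨⟨n2, hn2⟩, v2⟩ heq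
            have heq' : r v1.1 * n1 = r v2.1 * n2 := congrArg Subtype.val heq
            have h3 : v1 = v2 := by
              have := congrArg (fun z : G => (z : G ⧸ N)) heq'
              simp only [QuotientGroup.mk_mul, (QuotientGroup.eq_one_iff _).mpr hn1,
                (QuotientGroup.eq_one_iff _).mpr hn2, mul_one, hr, EmbeddingLike.apply_eq_iff_eq] at this
              exact Subtype.ext this
            subst h3
            cases mul_left_cancel heq'
            rfl
        rw [hclass] at h1
        set K := centralizer ({x} : Set G)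
        have h2 : p * p ≤ Nat.card K :=
          hxo ▸ Nat.le_of_dvd Nat.card_pos (orderOf_dvd_natCard K (mem_centralizer_singleton_iff.mpr rfl))
        have h3 : Nat.card K * K.index = Nat.card N * 6 := by rw [card_mul_index, hcardG, hcard6]
        have h4 := (Nat.mul_le_mul_right (p * p) h1).trans ((Nat.mul_le_mul_left K.index h2).trans_eq
          ((mul_comm _ _).trans h3))
        rw [mul_assoc] at h4
        exact Nat.le_of_mul_le_mul_left h4 Nat.card_pos
      have hp' : p = 2 ∨ p = 3 := by
        rcases (Nat.Prime.dvd_mul hp).mp (show p ∣ 2 * 3 from hp23) with h1 | h1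
        · exact Or.inl ((Nat.prime_dvd_prime_iff_eq hp Nat.prime_two).mp h1)
        · exact Or.inr ((Nat.prime_dvd_prime_iff_eq hp Nat.prime_three).mp h1)
      rcases hp' with rfl | rfl
      · have h1 := hcnt (Equiv.swap 0 1) (orderOf_eq_prime (by decide) (by decide))
        rw [Nat.card_eq_fintype_card, show Fintype.card {v : Equiv.Perm (Fin 3) // v ^ 2 = 1 ∧ v ≠ 1} = 3 by decide] at h1
        omega
      · have h1 := hcnt (finRotate 3) (orderOf_eq_prime (by decide) (by decide))
        rw [Nat.card_eq_fintype_card, show Fintype.card {v : Equiv.Perm (Fin 3) // v ^ 3 = 1 ∧ v ≠ 1} = 2 by decide] at h1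
        omega
    · -- `p = 7`
      have hN7 : Nat.card N = 7 ∧ C.index = 6 := by
        have h1 : C.index = 1 ∨ C.index = 2 ∨ C.index = 3 ∨ C.index = 6 := by
          have := Nat.pos_of_dvd_of_pos hCq (by norm_num)
          interval_cases h : C.index <;> simp_all
        rcases h1 with h1 | h1 | h1 | h1 <;> rw [h1] at horbit <;> rw [horbit] at hpN
        · exact absurd (((Nat.prime_dvd_prime_iff_eq hp Nat.prime_two).mp hpN) ▸ (by norm_num : 2 ∣ 6)) hp23
        · exact absurd (((Nat.prime_dvd_prime_iff_eq hp Nat.prime_three).mp hpN) ▸ (by norm_num : 3 ∣ 6)) hp23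
        · exact absurd (((Nat.prime_dvd_prime_iff_eq hp Nat.prime_two).mp
            (hp.dvd_of_dvd_pow (show p ∣ 2 ^ 2 from hpN))) ▸ (by norm_num : 2 ∣ 6)) hp23
        · exact ⟨horbit, h1⟩
      have hCN : C = N := (eq_of_le_of_card_ge hNC (by
        have := C.card_mul_index
        rw [hN7.2, hcardG, hcard6] at this
        omega)).symm
      have hgen : ∀ x ∈ N, x ∈ zpowers (a : G) := by
        intro x hx
        have : zpowers (a : G) = N := eq_of_le_of_card_ge (zpowers_le.mpr haN) (by
          rw [Nat.card_zpowers, ha, hN7.1]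
          exact ((Nat.prime_dvd_prime_iff_eq hp (by norm_num : Nat.Prime 7)).mp (hN7.1 ▸ hpN)).ge)
        rwa [this]
      have hcomm : ∀ x y : G, (x : G ⧸ N) * y = y * x := by
        intro x y
        obtain ⟨i, hi⟩ := mem_zpowers_iff.mp (hgen _ (hNn.conj_mem _ haN x))
        obtain ⟨j, hj⟩ := mem_zpowers_iff.mp (hgen _ (hNn.conj_mem _ haN y))
        have h1 : x * y * (a : G) * (x * y)⁻¹ = y * x * (a : G) * (y * x)⁻¹ := by
          rw [show x * y * (a : G) * (x * y)⁻¹ = x * (y * a * y⁻¹) * x⁻¹ by group,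
            show y * x * (a : G) * (y * x)⁻¹ = y * (x * a * x⁻¹) * y⁻¹ by group, ← hi, ← hj,
            ← conj_zpow, ← conj_zpow, ← hi, ← hj, ← zpow_mul, ← zpow_mul, mul_comm]
        rw [← QuotientGroup.mk_mul, ← QuotientGroup.mk_mul, QuotientGroup.eq, ← hCN, hC, mem_centralizer_singleton_iff]
        calc (x * y)⁻¹ * (y * x) * (a : G) = (x * y)⁻¹ * (y * x * (a : G) * (y * x)⁻¹) * (y * x) := by group
          _ = (x * y)⁻¹ * (x * y * (a : G) * (x * y)⁻¹) * (y * x) := by rw [h1]
          _ = (a : G) * ((x * y)⁻¹ * (y * x)) := by group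
      obtain ⟨x, hx⟩ := QuotientGroup.mk_surjective (e.symm (Equiv.swap 0 1))
      obtain ⟨y, hy⟩ := QuotientGroup.mk_surjective (e.symm (Equiv.swap 1 2))
      have := congrArg e (hcomm x y)
      rw [hx, hy, map_mul, map_mul, e.apply_symm_apply, e.apply_symm_apply] at this
      exact absurd this (by decide)


/-- A finite solvable group in which any two elements of the same order are conjugate has order 1 or 2 or is isomorphic to the symmetric group of degree 3. -/
theorem result {G : Type*} [Group G] [Finite G] [Group.IsSolvable G]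
    (h : ∀ x y : G, orderOf x = orderOf y → IsConj x y) :
    Nat.card G = 1 ∨ Nat.card G = 2 ∨ Nonempty (G ≃* Equiv.Perm (Fin 3)) := by
  exact main _ G rfl h

end Cfsg.Agent.S4062
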