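import Cfsg.Statements.S4064
import Cfsg.Agent.Lib.Local.TICentZassenhaus

set_option autoImplicit false
open Cfsg

namespace Cfsg.Agent.S4064

/-- Let G be a finite group in which the centralizer of every element meets each of its conjugates by elements outside its normalizer trivially. Then G is nilpotent; or G is a Frobenius group with a complement that is cyclic or isomorphic to the direct product of a cyclic group of odd order and the quaternion group of order 8; or G is isomorphic to PSL₂(2ⁿ) for some n ≥ 2. -/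
theorem result {G : Type*} [Group G] [Finite G] (hTI : ∀ x : G, Cfsg.IsTISubset (Subgroup.centralizer ({x} : Set G) : Set G)) :
    Group.IsNilpotent G ∨
    (∃ H : Subgroup G, Cfsg.IsFrobeniusComplement H ∧
      (IsCyclic H ∨ ∃ m : ℕ, Odd m ∧ Nonempty (H ≃* Multiplicative (ZMod m) × QuaternionGroup 2))) ∨
    (∃ n : ℕ, 2 ≤ n ∧ Nonempty (G ≃* Matrix.ProjectiveSpecialLinearGroup (Fin 2) (GaloisField 2 n))) := by
  haveI : Fact (Nat.Prime 2) := ⟨Nat.prime_two⟩
  by_cases hF : fittingSubgroup G = ⊥
  swap
  · rcases Cfsg.Lib.Local.TICent.of_fitting_ne_bot (G := G) hTI hF with h | h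
    · exact Or.inl h
    · exact Or.inr (Or.inl h)
  rcases subsingleton_or_nontrivial G with hs | hnt
  · exact Or.inl inferInstance
  refine Or.inr (Or.inr ?_)
  obtain ⟨S⟩ : Nonempty (Sylow 2 G) := inferInstance
  have hS : Cfsg.Lib.Local.TICent.Setup S := ⟨hTI, hF, hnt⟩
  obtain ⟨F, _, _, hchar, h4, ⟨ψ⟩⟩ := Cfsg.Lib.Local.TICent.iso_sl hS
  haveI := hchar
  obtain ⟨⟨n, hn0⟩, -, hn⟩ := FiniteField.card F 2
  have hn' : Fintype.card F = 2 ^ n := by simpa using hn
  have hn2 : 2 ≤ n := by
    by_contra hlt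
    interval_cases n <;> simp_all
  refine ⟨n, hn2, ?_⟩
  haveI := Fintype.ofFinite (GaloisField 2 n)
  have hc : Fintype.card (GaloisField 2 n) = 2 ^ n := by
    rw [← Nat.card_eq_fintype_card, GaloisField.card 2 n (by omega)]
  let ε : F ≃+* GaloisField 2 n := FiniteField.ringEquivOfCardEq (hn'.trans hc.symm)
  have hcen : Subgroup.center (Matrix.SpecialLinearGroup (Fin 2) (GaloisField 2 n)) = ⊥ := by
    refine eq_bot_iff.2 fun Q hQ => ?_
    obtain ⟨r, hr, hQ'⟩ := Matrix.SpecialLinearGroup.mem_center_iff.1 hQ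
    have hr1 : r = 1 := by
      rw [Fintype.card_fin] at hr
      exact CharTwo.sq_inj.mp (hr.trans (one_pow 2).symm)
    rw [Subgroup.mem_bot]
    ext i j
    rw [← hQ', hr1]
    simp
  let e : Matrix.SpecialLinearGroup (Fin 2) F ≃* Matrix.SpecialLinearGroup (Fin 2) (GaloisField 2 n) :=
    { toFun := Matrix.SpecialLinearGroup.map ε.toRingHom
      invFun := Matrix.SpecialLinearGroup.map ε.symm.toRingHom
      left_inv := fun A => by ext i j; exact ε.symm_apply_apply _
      right_inv := fun A => by ext i j; exact ε.apply_symm_apply _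
      map_mul' := map_mul _ }
  exact ⟨(ψ.trans e).trans ((QuotientGroup.quotientBot.symm).trans (QuotientGroup.quotientMulEquivOfEq hcen.symm))⟩

end Cfsg.Agent.S4064
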