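import Cfsg.Statements.S4065
import Cfsg.Agent.Lib.Spec.SLTwo
import Mathlib.LinearAlgebra.Matrix.FixedDetMatrices
-- import your own Cfsg.Agent.* helpers here

set_option autoImplicit false
open Cfsg

namespace Cfsg.Agent.S4065

open Matrix

theorem commute_two {R : Type*} [Field R] (A B B' : Matrix (Fin 2) (Fin 2) R)
    (hA : A 0 1 ≠ 0 ∨ A 1 0 ≠ 0 ∨ A 0 0 ≠ A 1 1) (hB : A * B = B * A) (hB' : A * B' = B' * A) :
    B * B' = B' * B := by
  have e : ∀ C : Matrix (Fin 2) (Fin 2) R, A * C = C * A →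
      A 0 1 * C 1 0 = A 1 0 * C 0 1 ∧ A 0 1 * (C 1 1 - C 0 0) = C 0 1 * (A 1 1 - A 0 0) ∧
        A 1 0 * (C 1 1 - C 0 0) = C 1 0 * (A 1 1 - A 0 0) := by
    intro C hC
    have h0 := congrFun (congrFun hC 0) 0
    have h1 := congrFun (congrFun hC 0) 1
    have h2 := congrFun (congrFun hC 1) 0
    simp only [Matrix.mul_apply, Fin.sum_univ_two] at h0 h1 h2
    exact ⟨by linear_combination h0, by linear_combination h1, by linear_combination -h2⟩
  obtain ⟨a1, a2, a3⟩ := e B hB
  obtain ⟨b1, b2, b3⟩ := e B' hB'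
  have key : B 0 1 * B' 1 0 = B 1 0 * B' 0 1 ∧ B 0 1 * (B' 1 1 - B' 0 0) = B' 0 1 * (B 1 1 - B 0 0) ∧
      B 1 0 * (B' 1 1 - B' 0 0) = B' 1 0 * (B 1 1 - B 0 0) := by
    rcases hA with h | h | h
    · have k1 : B 0 1 * B' 1 0 = B 1 0 * B' 0 1 :=
        mul_left_cancel₀ h (by linear_combination B 0 1 * b1 - B' 0 1 * a1)
      exact ⟨k1, mul_left_cancel₀ h (by linear_combination B 0 1 * b2 - B' 0 1 * a2),
        mul_left_cancel₀ h (by linear_combination B 1 0 * b2 - B' 1 0 * a2 - (A 1 1 - A 0 0) * k1)⟩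
    · have k1 : B 0 1 * B' 1 0 = B 1 0 * B' 0 1 :=
        mul_left_cancel₀ h (by linear_combination B 1 0 * b1 - B' 1 0 * a1)
      exact ⟨k1, mul_left_cancel₀ h (by linear_combination B 0 1 * b3 - B' 0 1 * a3 + (A 1 1 - A 0 0) * k1),
        mul_left_cancel₀ h (by linear_combination B 1 0 * b3 - B' 1 0 * a3)⟩
    · have h' : A 1 1 - A 0 0 ≠ 0 := sub_ne_zero.2 fun e => h e.symm
      exact ⟨mul_left_cancel₀ h' (by linear_combination B' 0 1 * a3 - B' 1 0 * a2 + (B 1 1 - B 0 0) * b1),
        mul_left_cancel₀ h' (by linear_combination (B 1 1 - B 0 0) * b2 - (B' 1 1 - B' 0 0) * a2),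
        mul_left_cancel₀ h' (by linear_combination (B 1 1 - B 0 0) * b3 - (B' 1 1 - B' 0 0) * a3)⟩
  obtain ⟨k1, k2, k3⟩ := key
  ext i j
  fin_cases i <;> fin_cases j <;> simp [Matrix.mul_apply, Fin.sum_univ_two] <;>
    first | linear_combination k1 | linear_combination k2 | linear_combination -k3 |
      linear_combination -k1 | linear_combination -k2 | linear_combination k3

theorem commute_sl {F : Type*} [Field F] [CharP F 2] (a b c : SpecialLinearGroup (Fin 2) F) (ha : a ≠ 1)
    (hb : Commute a b) (hc : Commute a c) : Commute b c := by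
  refine Subtype.ext (commute_two a.1 b.1 c.1 ?_ (congrArg Subtype.val hb.eq) (congrArg Subtype.val hc.eq))
  by_contra hcon
  push Not at hcon
  obtain ⟨h01, h10, h00⟩ := hcon
  refine ha (Subtype.ext ?_)
  have hd : a.1 0 0 = 1 := by
    have h := a.2
    rw [Matrix.det_fin_two, h01, h10, ← h00, mul_zero, sub_zero] at h
    rcases mul_self_eq_one_iff.1 h with h1 | h1
    · exact h1
    · rw [h1, CharTwo.neg_eq]
  ext i j
  fin_cases i <;> fin_cases j <;> simp [h01, h10, ← h00, hd]

theorem ti_of_commute {G : Type*} [Group G] (hG : ∀ a b c : G, a ≠ 1 → Commute a b → Commute a c → Commute b c)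
    (x : G) : Cfsg.IsTISubset (Subgroup.centralizer ({x} : Set G) : Set G) := by
  intro g hg y hy hgy
  by_contra hy1
  by_cases hx : x = 1
  · subst hx
    exact hg (by simp [Subgroup.mem_normalizer_iff, Subgroup.mem_centralizer_singleton_iff])
  have hyx : Commute y x := Subgroup.mem_centralizer_singleton_iff.1 hy
  have hgx : Commute (g * y * g⁻¹) x := Subgroup.mem_centralizer_singleton_iff.1 hgy
  have hCy : ∀ w : G, Commute w x ↔ Commute w y := fun w =>
    ⟨fun h => hG x w y hx h.symm hyx.symm, fun h => hG y w x hy1 h.symm hyx⟩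
  have hgy1 : g * y * g⁻¹ ≠ 1 := by simpa using hy1
  have hCgy : ∀ w : G, Commute w x ↔ Commute w (g * y * g⁻¹) := fun w =>
    ⟨fun h => hG x w _ hx h.symm hgx.symm, fun h => hG _ w x hgy1 h.symm hgx⟩
  refine hg (Subgroup.mem_normalizer_iff.2 fun w => ?_)
  rw [Subgroup.mem_centralizer_singleton_iff,
    Subgroup.mem_centralizer_singleton_iff]
  exact (hCy w).trans ((Commute.conj_iff g).symm.trans (hCgy _).symm)

/-- Let F be a finite field with 2ⁿ elements, n ≥ 2. In PSL₂(F) the centralizer of every element meets each of its conjugates by elements outside its normalizer trivially. -/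
theorem result (n : ℕ) (hn : 2 ≤ n)
    (x : Matrix.ProjectiveSpecialLinearGroup (Fin 2) (GaloisField 2 n)) :
    Cfsg.IsTISubset (Subgroup.centralizer ({x} : Set (Matrix.ProjectiveSpecialLinearGroup (Fin 2) (GaloisField 2 n))) :
      Set (Matrix.ProjectiveSpecialLinearGroup (Fin 2) (GaloisField 2 n))) := by
  classical
  haveI : CharP (GaloisField 2 n) 2 := inferInstance
  refine ti_of_commute (fun a b c ha hb hc => ?_) x
  let e := (Cfsg.Lib.Spec.pslEquivOfCharTwo (F := GaloisField 2 n)).symm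
  obtain ⟨A, rfl⟩ := e.surjective a
  obtain ⟨B, rfl⟩ := e.surjective b
  obtain ⟨C, rfl⟩ := e.surjective c
  exact (commute_sl A B C (fun h => ha (by rw [h, map_one])) (hb.of_map e.injective) (hc.of_map e.injective)).map e

end Cfsg.Agent.S4065
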