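import Cfsg.Statements.S4067
import Cfsg.Agent.Lib.PGroup.ClassTwo
import Cfsg.Agent.Lib.Local.QdRankTwo
-- import your own Cfsg.Agent.* helpers here

set_option autoImplicit false
open Cfsg

namespace Cfsg.Agent.S4067

open scoped commutatorElement
open Subgroup

variable {G : Type*} [Group G]

/-- The homomorphism `g ↦ ⁅x, g⁆` of a group of class two. -/
noncomputable def cm (hG : commutator G ≤ center G) (x : G) : G →* G where
  toFun g := ⁅x, g⁆
  map_one' := commutatorElement_one_right x
  map_mul' a b := Cfsg.Lib.PGroup.commutatorElement_mul_right hG x a b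

theorem cm_apply (hG : commutator G ≤ center G) (x g : G) : cm hG x g = ⁅x, g⁆ := rfl

theorem cm_ker (hG : commutator G ≤ center G) (x : G) : (cm hG x).ker = centralizer {x} := by
  ext g
  rw [MonoidHom.mem_ker, cm_apply, commutatorElement_eq_one_iff_mul_comm, mem_centralizer_singleton_iff]
  exact eq_comm

theorem cm_range_card (hG : commutator G ≤ center G) (x : G) :
    Nat.card (cm hG x).range = (centralizer ({x} : Set G)).index := by
  rw [← cm_ker hG x, Subgroup.index_ker]

theorem symm_mem (hG : commutator G ≤ center G) (x y : G) :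
    ⁅x, y⁆ ∈ (cm hG y).range := by
  refine ⟨x⁻¹, ?_⟩
  rw [cm_apply]
  have h := Cfsg.Lib.PGroup.commutatorElement_mul_right hG y x x⁻¹
  rw [mul_inv_cancel, commutatorElement_one_right] at h
  rw [← commutatorElement_inv y x]
  exact eq_inv_of_mul_eq_one_right h.symm

theorem class_sub_orbit (g h : G) : h * g * h⁻¹ ∈ MulAction.orbit (MulAut G) g :=
  ⟨MulAut.conj h, rfl⟩

theorem ncard_class [Finite G] (g : G) :
    {z : G | ∃ h, z = h * g * h⁻¹}.ncard = (centralizer ({g} : Set G)).index := by
  have h1 : {z : G | ∃ h, z = h * g * h⁻¹} = MulAction.orbit (ConjAct G) g := by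
    ext z
    constructor
    · rintro ⟨h, rfl⟩
      exact ⟨ConjAct.toConjAct h, by simp [ConjAct.smul_def]⟩
    · rintro ⟨c, rfl⟩
      exact ⟨ConjAct.ofConjAct c, by simp [ConjAct.smul_def]⟩
  rw [h1, ← MulAction.index_stabilizer, Subgroup.centralizer_eq_comap_stabilizer]
  exact (Subgroup.index_comap_of_surjective _ ConjAct.toConjAct.surjective).symm

theorem index_le_orbit [Finite G] (g : G) :
    (centralizer ({g} : Set G)).index ≤ (MulAction.orbit (MulAut G) g).ncard := by
  rw [← ncard_class]
  exact Set.ncard_le_ncard (by rintro z ⟨h, rfl⟩; exact class_sub_orbit g h) (Set.toFinite _)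

/-- An automorphism moving `g` off its class doubles the orbit. -/
theorem two_class_le_orbit [Finite G] (g : G) (φ : MulAut G) (h : ∀ k : G, φ g ≠ k * g * k⁻¹) :
    2 * (centralizer ({g} : Set G)).index ≤ (MulAction.orbit (MulAut G) g).ncard := by
  set C := {z : G | ∃ k, z = k * g * k⁻¹}
  have hd : Disjoint C (φ '' C) := by
    rw [Set.disjoint_right]
    rintro _ ⟨z, ⟨a, rfl⟩, rfl⟩ ⟨b, hb⟩
    refine h ((φ a)⁻¹ * b) ?_
    rw [map_mul, map_mul, map_inv] at hb
    calc φ g = (φ a)⁻¹ * (φ a * φ g * (φ a)⁻¹) * φ a := by group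
      _ = _ := by rw [hb]; group
  have hsub : C ∪ φ '' C ⊆ MulAction.orbit (MulAut G) g := by
    rintro z (⟨k, rfl⟩ | ⟨_, ⟨k, rfl⟩, rfl⟩)
    · exact class_sub_orbit g k
    · exact ⟨φ * MulAut.conj k, rfl⟩
  have := Set.ncard_le_ncard hsub (Set.toFinite _)
  rw [Set.ncard_union_eq hd (Set.toFinite _) (Set.toFinite _), Set.ncard_image_of_injective _ φ.injective,
    show C.ncard = (centralizer ({g} : Set G)).index from ncard_class g] at this
  omega

/-- The counting criterion. -/
theorem orbit_bound [Finite G] {p m : ℕ} (hp : 0 < p) (hm : p ≤ m)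
    (hcl : ∀ g : G, g ∉ center G → p ≤ (MulAction.orbit (MulAut G) g).ncard)
    (T : Set G) (hTc : ∀ g ∈ T, g ∉ center G)
    (hT : ∀ g ∈ T, m ≤ (MulAction.orbit (MulAut G) g).ncard)
    (h : m * (p - 1) * Nat.card (center G) ≤ (m - p) * T.ncard) :
    Nat.card (MulAction.orbitRel.Quotient (MulAut G) G) ≤ Nat.card G / p := by
  classical
  haveI := Fintype.ofFinite G
  haveI := Fintype.ofFinite (MulAction.orbitRel.Quotient (MulAut G) G)
  set o : G → ℕ := fun g => (MulAction.orbit (MulAut G) g).ncard with ho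
  have hopos : ∀ g, 1 ≤ o g := fun g =>
    (Set.ncard_pos (Set.toFinite _)).mpr ⟨g, MulAction.mem_orbit_self g⟩
  have hsum : (Nat.card (MulAction.orbitRel.Quotient (MulAut G) G) : ℚ) = ∑ g : G, (1 : ℚ) / o g := by
    rw [← Finset.sum_fiberwise (Finset.univ) (fun g => (⟦g⟧ : MulAction.orbitRel.Quotient (MulAut G) G)) (fun g => (1 : ℚ) / o g),
      Nat.card_eq_fintype_card, ← Finset.card_univ, Finset.cast_card]
    refine Finset.sum_congr rfl fun w _ => ?_
    obtain ⟨x, rfl⟩ := Quotient.exists_rep w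
    have hmem : ∀ g ∈ Finset.univ.filter (fun g => (⟦g⟧ : MulAction.orbitRel.Quotient (MulAut G) G) = ⟦x⟧),
        MulAction.orbit (MulAut G) g = MulAction.orbit (MulAut G) x := by
      intro g hg
      exact MulAction.orbit_eq_iff.mpr (MulAction.orbitRel_apply.mp (Quotient.exact (Finset.mem_filter.mp hg).2))
    rw [Finset.sum_congr rfl (fun g hg => show (1 : ℚ) / o g = 1 / o x by simp only [ho, hmem g hg]), Finset.sum_const,
      nsmul_eq_mul]
    have hc : (Finset.univ.filter (fun g => (⟦g⟧ : MulAction.orbitRel.Quotient (MulAut G) G) = ⟦x⟧)).card = o x := by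
      rw [ho, ← Set.ncard_coe_finset]
      congr 1
      ext g
      simp only [Finset.coe_filter, Finset.mem_univ, true_and, Set.mem_ofPred_eq]
      exact ⟨fun hg => MulAction.orbitRel_apply.mp (Quotient.exact hg),
        fun hg => Quotient.sound (MulAction.orbitRel_apply.mpr hg)⟩
    rw [hc]
    have : (o x : ℚ) ≠ 0 := by have := hopos x; positivity
    field_simp
  have hkey : ∀ g : G, ((p : ℚ) * m) * (1 / o g) ≤
      m + (if g ∈ center G then (m : ℚ) * ((p : ℚ) - 1) else 0) - (if g ∈ T then (m : ℚ) - p else 0) := by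
    intro g
    have h1 : (1 : ℚ) ≤ o g := by exact_mod_cast hopos g
    have hpm : (p : ℚ) ≤ m := by exact_mod_cast hm
    have hp0 : (0 : ℚ) < p := by exact_mod_cast hp
    rw [mul_one_div, div_le_iff₀ (by linarith)]
    by_cases hgc : g ∈ center G
    · rw [if_pos hgc, if_neg (fun ht => hTc g ht hgc), sub_zero]
      nlinarith [mul_le_mul_of_nonneg_left h1 (mul_nonneg hp0.le (hp0.le.trans hpm))]
    · rw [if_neg hgc]
      have h2 : (p : ℚ) ≤ o g := by exact_mod_cast hcl g hgc
      by_cases hgT : g ∈ T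
      · rw [if_pos hgT]
        have h3 : (m : ℚ) ≤ o g := by exact_mod_cast hT g hgT
        nlinarith
      · rw [if_neg hgT]
        nlinarith
  have htot := Finset.sum_le_sum (fun g (_ : g ∈ Finset.univ) => hkey g)
  rw [← Finset.mul_sum, ← hsum, Finset.sum_sub_distrib, Finset.sum_add_distrib, Finset.sum_const,
    Finset.card_univ, nsmul_eq_mul, ← Finset.sum_filter, ← Finset.sum_filter, Finset.sum_const,
    Finset.sum_const, nsmul_eq_mul, nsmul_eq_mul] at htot
  have hZ : (Finset.univ.filter (fun g => g ∈ center G)).card = Nat.card (center G) := by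
    rw [← Set.ncard_coe_finset, ← Nat.card_coe_set_eq]
    refine Nat.card_congr (Equiv.subtypeEquivRight fun g => ?_)
    simp
  have hTn : (Finset.univ.filter (fun g => g ∈ T)).card = T.ncard := by
    rw [← Set.ncard_coe_finset]; congr 1; ext; simp
  rw [hZ, hTn, ← Nat.card_eq_fintype_card] at htot
  rw [Nat.le_div_iff_mul_le hp]
  have h' : ((m * (p - 1) * Nat.card (center G) : ℕ) : ℚ) ≤ (((m - p) * T.ncard : ℕ) : ℚ) := by exact_mod_cast h
  push_cast [Nat.cast_sub hm, Nat.cast_sub (show 1 ≤ p from hp)] at h'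
  have hm0 : (0 : ℚ) < m := by exact_mod_cast (lt_of_lt_of_le hp hm)
  have hfin : ((Nat.card (MulAction.orbitRel.Quotient (MulAut G) G) * p : ℕ) : ℚ) ≤ (Nat.card G : ℕ) := by
    push_cast
    refine le_of_mul_le_mul_left ?_ hm0
    nlinarith
  exact_mod_cast hfin

/-- The automorphisms `g ↦ g v(a(g))`. -/
theorem exists_aut [Finite G] {p : ℕ} (L : G →* Multiplicative (ZMod p)) (v : ZMod p → G)
    (hv0 : v 0 = 1) (hvL : ∀ a, L (v a) = 1)
    (hv : ∀ (a : ZMod p) (h : G), v a * h * v (L h).toAdd = h * v (a + (L h).toAdd)) :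
    ∃ φ : MulAut G, ∀ g, φ g = g * v (L g).toAdd := by
  let f : G →* G :=
    { toFun := fun g => g * v (L g).toAdd
      map_one' := by simp [hv0]
      map_mul' := fun g h => by
        rw [map_mul, toAdd_mul]
        calc g * h * v ((L g).toAdd + (L h).toAdd) = g * (h * v ((L g).toAdd + (L h).toAdd)) := by group
          _ = g * (v (L g).toAdd * h * v (L h).toAdd) := by rw [hv]
          _ = _ := by group }
  have hinj : Function.Injective f := by
    rw [injective_iff_map_eq_one]
    intro g hg
    have h1 : g = (v (L g).toAdd)⁻¹ := eq_inv_of_mul_eq_one_left hg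
    have h2 : L g = 1 := by rw [h1, map_inv, hvL, inv_one]
    have h3 : g * v (L g).toAdd = 1 := hg
    rwa [h2, toAdd_one, hv0, mul_one] at h3
  exact ⟨MulEquiv.ofBijective f (Finite.injective_iff_bijective.mp hinj), fun g => rfl⟩

theorem index_centralizer_ne_one {g : G} (hg : g ∉ center G) :
    (centralizer ({g} : Set G)).index ≠ 1 := by
  rw [Ne, Subgroup.index_eq_one, centralizer_eq_top_iff_subset, Set.singleton_subset_iff]
  exact hg

theorem center_index [Finite G] (hna : ¬ IsMulCommutative G) :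
    (center G).index ≠ 1 ∧ ¬ (center G).index.Prime ∧
      ((center G).index = (Nat.card G).minFac ^ 2 ∨
        (Nat.card G).minFac * ((Nat.card G).minFac + 1) ≤ (center G).index) := by
  set p := (Nat.card G).minFac with hp
  set n := (center G).index with hn
  have h1 : n ≠ 1 := fun h => hna ⟨⟨fun a b => (Subgroup.mem_center_iff.mp (Subgroup.index_eq_one.mp h ▸ mem_top b) a)⟩⟩
  have h2 : ¬ n.Prime := by
    intro h
    haveI := Fact.mk h
    haveI : IsCyclic (G ⧸ center G) := isCyclic_of_prime_card (p := n) rfl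
    exact hna ⟨⟨commutative_of_cyclic_center_quotient (QuotientGroup.mk' (center G)) (QuotientGroup.ker_mk' _).le⟩⟩
  refine ⟨h1, h2, ?_⟩
  have hn0 : n ≠ 0 := FiniteIndex.index_ne_zero
  have hd : n ∣ Nat.card G := Subgroup.index_dvd_card _
  obtain ⟨hr, hrs⟩ := And.intro (Nat.minFac_prime h1) (Nat.minFac_dvd n)
  obtain ⟨s, hs⟩ := hrs
  set r := n.minFac with hrdef
  have hpr : p ≤ r := Nat.minFac_le_of_dvd hr.two_le ((Dvd.intro s hs.symm).trans hd)
  have hs1 : s ≠ 1 := fun h => h2 (by rw [hs, h, mul_one]; exact hr)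
  have hs0 : s ≠ 0 := fun h => hn0 (by rw [hs, h, mul_zero])
  have hps : p ≤ s := Nat.minFac_le_of_dvd (by omega) ((Dvd.intro_left r hs.symm).trans hd)
  by_cases hboth : r = p ∧ s = p
  · left; rw [hs, hboth.1, hboth.2, sq]
  · right
    rw [hs]
    rcases (show p + 1 ≤ r ∨ p + 1 ≤ s by omega) with h | h
    · calc p * (p + 1) ≤ s * r := Nat.mul_le_mul hps h
        _ = r * s := mul_comm _ _
    · exact Nat.mul_le_mul hpr h

theorem class_p_of_index_sq [Finite G] {p : ℕ} (hp : p.Prime) (h : (center G).index = p ^ 2)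
    {g : G} (hg : g ∉ center G) : (centralizer ({g} : Set G)).index = p := by
  have hd : (centralizer ({g} : Set G)).index ∣ p ^ 2 := h ▸ Subgroup.index_dvd_of_le (Subgroup.center_le_centralizer ({g} : Set G))
  obtain ⟨i, hi, hieq⟩ := (Nat.dvd_prime_pow hp).mp hd
  interval_cases i
  · exact absurd (by simpa using hieq) (index_centralizer_ne_one hg)
  · simpa using hieq
  · exfalso
    have hrel := Subgroup.relIndex_mul_index (Subgroup.center_le_centralizer ({g} : Set G))
    rw [hieq, h] at hrel
    have h1 : (center G).relIndex (centralizer ({g} : Set G)) = 1 := by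
      have := hp.pos
      exact (mul_eq_right₀ (show p ^ 2 ≠ 0 by positivity)).mp hrel
    exact hg (Subgroup.relIndex_eq_one.mp h1 (Subgroup.mem_centralizer_singleton_iff.mpr rfl))

theorem diff_bound {p Gc K Z : ℕ} (hp : 2 ≤ p) (hK : p * K ≤ Gc) (hZ : p * (p + 1) * Z ≤ Gc) :
    (p + 1) * (p - 1) * Z ≤ Gc - K := by
  obtain ⟨q, rfl⟩ : ∃ q, p = q + 1 := ⟨p - 1, by omega⟩
  simp only [Nat.add_sub_cancel]
  have h1 : (q + 1) * ((q + 1 + 1) * q * Z + K) ≤ (q + 1) * Gc := by nlinarith
  have := Nat.le_of_mul_le_mul_left h1 (by omega)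
  omega

theorem proper_card [Finite G] {H : Subgroup G} (hH : H ≠ ⊤) :
    (Nat.card G).minFac * Nat.card H ≤ Nat.card G := by
  rw [← H.index_mul_card]
  refine Nat.mul_le_mul_right _ (Nat.minFac_le_of_dvd ?_ ⟨Nat.card H, rfl⟩ |>.trans le_rfl)
  have h0 : H.index ≠ 0 := FiniteIndex.index_ne_zero
  have h1 : H.index ≠ 1 := fun h => hH (Subgroup.index_eq_one.mp h)
  omega

/-- Existence of the element used for the twisting automorphism, `p` odd. -/
theorem exists_u_odd [Finite G] {p : ℕ} [Fact p.Prime] (hp2 : p ≠ 2) (hna : ¬ IsMulCommutative G)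
    (hexp : ∀ g : G, g ^ p ∈ center G) (c : G) (hc : c ^ p = 1) :
    ∃ u : G, u ^ p = 1 ∧ u ∉ zpowers c := by
  by_contra hno
  simp only [not_exists, not_and, not_not] at hno
  obtain ⟨P⟩ : Nonempty (Sylow p G) := inferInstance
  haveI : IsCyclic (P : Subgroup G) :=
    Cfsg.Lib.Local.QdRankTwo.isCyclic_of_unique hp2 _ P.isPGroup' hc fun x _ hx => hno x hx
  have hq : IsPGroup p (G ⧸ center G) := by
    intro g
    obtain ⟨g, rfl⟩ := QuotientGroup.mk_surjective g
    exact ⟨1, by rw [pow_one, ← QuotientGroup.mk_pow, QuotientGroup.eq_one_iff]; exact hexp g⟩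
  have hsup : (P : Subgroup G) ⊔ center G = ⊤ := by
    rw [← Subgroup.index_eq_one]
    obtain ⟨i, hi⟩ := IsPGroup.iff_card.mp hq
    have hd1 : ((P : Subgroup G) ⊔ center G).index ∣ p ^ i := hi ▸ Subgroup.index_dvd_of_le le_sup_right
    have hd2 : ((P : Subgroup G) ⊔ center G).index ∣ (P : Subgroup G).index := Subgroup.index_dvd_of_le le_sup_left
    have hco : (p ^ i).Coprime (P : Subgroup G).index :=
      Nat.Coprime.pow_left _ ((Fact.out : p.Prime).coprime_iff_not_dvd.mpr P.not_dvd_index)
    exact Nat.eq_one_of_dvd_coprimes hco hd1 hd2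
  have key : ∀ a b : G, a * b = b * a := by
    have hcomm : ∀ a ∈ (P : Subgroup G), ∀ b ∈ (P : Subgroup G), a * b = b * a := fun a ha b hb => by
      have := (IsCyclic.commutative (α := (P : Subgroup G))).is_comm.comm ⟨a, ha⟩ ⟨b, hb⟩
      exact congrArg Subtype.val this
    have h1 : (⊤ : Subgroup G) ≤ centralizer ((P : Subgroup G) : Set G) := hsup ▸ sup_le
      (fun a ha => Subgroup.mem_centralizer_iff.mpr fun b hb => hcomm b hb a ha) (Subgroup.center_le_centralizer _)
    intro a b
    have h2 : (⊤ : Subgroup G) ≤ centralizer ({a} : Set G) := hsup ▸ sup_le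
      (fun x hx => Subgroup.mem_centralizer_singleton_iff.mpr
        (Subgroup.mem_centralizer_iff.mp (h1 (mem_top a)) x hx)) (Subgroup.center_le_centralizer _)
    exact (Subgroup.mem_centralizer_singleton_iff.mp (h2 (mem_top b))).symm
  exact hna ⟨⟨key⟩⟩

theorem zmod_two : ∀ t : ZMod 2, t = 0 ∨ t = 1 := by decide

/-- Existence of the element used for the twisting automorphism, `p = 2`. -/
theorem exists_u_two [Finite G] (hG : commutator G ≤ center G) (hna : ¬ IsMulCommutative G)
    (c : G) (hc : c ^ 2 = 1) (hc1 : c ≠ 1) (hcm : ∀ g h : G, ⁅g, h⁆ ∈ zpowers c) :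
    (∃ u ∈ center G, u ^ 2 = 1 ∧ u ∉ zpowers c) ∨ (∃ u : G, u ∉ center G ∧ u ^ 2 = c) := by
  by_contra hno
  simp only [not_or, not_exists, not_and, not_not] at hno
  obtain ⟨h1, h2⟩ := hno
  have hpw : ∀ z ∈ zpowers c, z = 1 ∨ z = c := by
    rintro z ⟨k, rfl⟩
    rcases Int.even_or_odd' k with ⟨j, rfl | rfl⟩
    · left; simp [zpow_mul, zpow_ofNat, hc]
    · right; simp [zpow_add, zpow_mul, zpow_ofNat, hc]
  have hsqc : ∀ g : G, g ^ 2 ∈ center G := by
    intro g
    rw [Subgroup.mem_center_iff]
    intro h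
    have h3 := Cfsg.Lib.PGroup.commutatorElement_pow_left hG g h 2
    have h4 : ⁅g, h⁆ ^ 2 = 1 := by rcases hpw _ (hcm g h) with e | e <;> simp [e, hc]
    rw [h4] at h3
    exact (commutatorElement_eq_one_iff_mul_comm.mp h3).symm
  -- squares of central elements
  let sq : center G →* center G :=
    { toFun := fun z => z ^ 2
      map_one' := one_pow 2
      map_mul' := fun a b => (show Commute a b from
        Subtype.ext (Subgroup.mem_center_iff.mp b.2 (a : G))).mul_pow 2 }
  have hsq : ∀ z, sq z = z ^ 2 := fun z => rfl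
  set S := sq.range with hS
  obtain ⟨x, y, hxy⟩ : ∃ x y : G, x * y ≠ y * x := by
    by_contra hh; push Not at hh; exact hna ⟨⟨hh⟩⟩
  have hx : x ∉ center G := fun h => hxy (Subgroup.mem_center_iff.mp h y).symm
  have hy : y ∉ center G := fun h => hxy (Subgroup.mem_center_iff.mp h x)
  have hxyc : x * y ∉ center G := fun h => hxy (by
    have := Subgroup.mem_center_iff.mp h x
    exact mul_left_cancel (this.trans (mul_assoc x y x)))
  have hcc : c ∈ center G := by
    rcases hpw _ (hcm x y) with e | e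
    · exact absurd (commutatorElement_eq_one_iff_mul_comm.mp e) hxy
    · exact e ▸ hG (Subgroup.commutator_mem_commutator (mem_top x) (mem_top y))
  have hker : Nat.card sq.ker = 2 := by
    rw [Nat.card_eq_two_iff' (1 : sq.ker)]
    refine ⟨⟨⟨c, hcc⟩, Subtype.ext hc⟩, fun h => hc1 (congrArg (fun t : sq.ker => ((t : center G) : G)) h), ?_⟩
    rintro ⟨⟨z, hz⟩, hz2⟩ hne
    have hz2' : z ^ 2 = 1 := congrArg Subtype.val hz2
    rcases hpw z (h1 z hz hz2') with e | e
    · exact absurd (Subtype.ext (Subtype.ext e)) hne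
    · exact Subtype.ext (Subtype.ext e)
  have hidx : S.index = 2 := by
    have e1 : Nat.card S = sq.ker.index := (Subgroup.index_ker sq).symm
    have e2 := sq.ker.index_mul_card
    have e3 := S.index_mul_card
    rw [hker] at e2
    rw [e1, ← e2] at e3
    have : sq.ker.index ≠ 0 := FiniteIndex.index_ne_zero
    rw [mul_comm, mul_right_inj' this] at e3
    exact e3
  -- `g²/c` is never the square of a central element
  have hno2 : ∀ g : G, g ∉ center G → (⟨g ^ 2, hsqc g⟩ : center G) * (⟨c, hcc⟩ : center G)⁻¹ ∉ S := by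
    rintro g hg ⟨s, hs⟩
    have hs' : ((s : G)) ^ 2 = g ^ 2 * c⁻¹ := congrArg Subtype.val hs
    refine hg ?_
    have hu : g * (s : G)⁻¹ ∈ center G := by
      by_contra hnc
      refine h2 _ hnc ?_
      rw [(show Commute g (s : G)⁻¹ from Subgroup.mem_center_iff.mp (inv_mem s.2) g).mul_pow, inv_pow, hs', mul_inv_rev,
        inv_inv, ← mul_assoc, Subgroup.mem_center_iff.mp hcc (g ^ 2), mul_inv_cancel_right]
    simpa using mul_mem hu s.2
  refine hno2 (x * y) hxyc ?_
  have hprod : (⟨(x * y) ^ 2, hsqc _⟩ : center G) * (⟨c, hcc⟩ : center G)⁻¹ =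
      ((⟨x ^ 2, hsqc x⟩ : center G) * (⟨c, hcc⟩ : center G)⁻¹) * ((⟨y ^ 2, hsqc y⟩ : center G) * (⟨c, hcc⟩ : center G)⁻¹) := by
    apply Subtype.ext
    show (x * y) ^ 2 * c⁻¹ = (x ^ 2 * c⁻¹) * (y ^ 2 * c⁻¹)
    have hyx : ⁅y, x⁆ = c := (hpw _ (hcm y x)).resolve_left
      (fun e => hxy (commutatorElement_eq_one_iff_mul_comm.mp e).symm)
    rw [Cfsg.Lib.PGroup.mul_pow_of_class_two hG x y 2, hyx, show Nat.choose 2 2 = 1 from rfl, pow_one]
    have cc : c * c = 1 := by rw [← pow_two]; exact hc
    rw [inv_eq_of_mul_eq_one_right cc]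
    have e : y ^ 2 * c = c * y ^ 2 := Subgroup.mem_center_iff.mp hcc (y ^ 2)
    calc _ = x ^ 2 * (y ^ 2 * c) * c := by simp only [mul_assoc]
      _ = x ^ 2 * (c * y ^ 2) * c := by rw [e]
      _ = _ := by simp only [mul_assoc]
  rw [hprod, Subgroup.mul_mem_iff_of_index_two hidx]
  exact iff_of_false (hno2 x hx) (hno2 y hy)

/-- The case of a derived group of order `p`. -/
theorem small_derived [Finite G] {p : ℕ} [Fact p.Prime] (hna : ¬ IsMulCommutative G)
    (hG : commutator G ≤ center G) (D : Subgroup G) (hD : Nat.card D = p) (hDm : ∀ g h : G, ⁅g, h⁆ ∈ D) :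
    ∃ (φ : MulAut G) (A : G →* Multiplicative (ZMod p)), A ≠ 1 ∧ center G ≤ A.ker ∧
      ∀ g : G, A g ≠ 1 → ∀ k : G, φ g ≠ k * g * k⁻¹ := by
  classical
  have hp : p.Prime := Fact.out
  obtain ⟨x, y, hxy⟩ : ∃ x y : G, x * y ≠ y * x := by
    by_contra hh; push Not at hh; exact hna ⟨⟨hh⟩⟩
  have hc0 : ⁅x, y⁆ ≠ 1 := fun h => hxy (commutatorElement_eq_one_iff_mul_comm.mp h)
  set c : G := ⁅x, y⁆ with hc
  have hDc : D = zpowers c := by
    refine (Subgroup.eq_of_le_of_card_ge (zpowers_le.mpr (hDm x y)) ?_).symm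
    rw [Nat.card_zpowers, hD]
    have hd : orderOf c ∣ p := hD ▸ Subgroup.orderOf_dvd_natCard D (hDm x y)
    rcases (Nat.dvd_prime hp).mp hd with h | h
    · exact absurd (orderOf_eq_one_iff.mp h) hc0
    · rw [h]
  have hcp : c ^ p = 1 := orderOf_dvd_iff_pow_eq_one.mp (hD ▸ Subgroup.orderOf_dvd_natCard D (hDm x y))
  have hcc : c ∈ center G := hG (Subgroup.commutator_mem_commutator (mem_top x) (mem_top y))
  have hoc : orderOf c = p := orderOf_eq_prime hcp hc0
  -- logarithm to base `c`
  let l : D ≃* Multiplicative (ZMod p) :=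
    ((zmodCyclicMulEquiv (hDc ▸ (inferInstance : IsCyclic (zpowers c)))).symm.trans
      (AddEquiv.toMultiplicative (ZMod.ringEquivCongr hD).toAddEquiv))
  let E : ZMod p → G := fun r => (l.symm (Multiplicative.ofAdd r) : G)
  have hEadd : ∀ r s, E (r + s) = E r * E s := fun r s => by simp [E, ofAdd_add]
  have hE0 : E 0 = 1 := by simp [E]
  have hEc : ∀ r g, g * E r = E r * g := fun r g => by
    have : E r ∈ zpowers c := hDc ▸ (l.symm (Multiplicative.ofAdd r)).2
    exact Subgroup.mem_center_iff.mp ((zpowers_le.mpr hcc) this) g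
  have hEmem : ∀ r, E r ∈ D := fun r => (l.symm (Multiplicative.ofAdd r)).2
  let Lg : G → (G →* Multiplicative (ZMod p)) := fun u =>
    l.toMonoidHom.comp ((cm hG u).codRestrict D fun h => hDm u h)
  have hL : ∀ u h : G, E (Lg u h).toAdd = ⁅u, h⁆ := fun u h => by
    show ((l.symm (Multiplicative.ofAdd (Multiplicative.toAdd (l ⟨⁅u, h⁆, hDm u h⟩)))) : G) = _
    rw [ofAdd_toAdd, l.symm_apply_apply]
  have hL1 : ∀ u h : G, Lg u h = 1 ↔ ⁅u, h⁆ = 1 := fun u h => by
    show l ⟨⁅u, h⁆, hDm u h⟩ = 1 ↔ _
    rw [l.map_eq_one_iff, Subgroup.mk_eq_one]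
  have hLne : ∀ u, u ∉ center G → Lg u ≠ 1 := fun u hu h => hu (Subgroup.mem_center_iff.mpr fun g =>
    (commutatorElement_eq_one_iff_mul_comm.mp ((hL1 u g).mp (by rw [h]; rfl))).symm)
  have hLZ : ∀ u, center G ≤ (Lg u).ker := fun u z hz => (hL1 u z).mpr
    (commutatorElement_eq_one_iff_mul_comm.mpr (Subgroup.mem_center_iff.mp hz u))
  have hexp : ∀ g : G, g ^ p ∈ center G := fun g => Subgroup.mem_center_iff.mpr fun h => by
    have h4 : ⁅g, h⁆ ^ p = 1 := orderOf_dvd_iff_pow_eq_one.mp (hD ▸ Subgroup.orderOf_dvd_natCard D (hDm g h))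
    exact (commutatorElement_eq_one_iff_mul_comm.mp
      ((Cfsg.Lib.PGroup.commutatorElement_pow_left hG g h p).trans h4)).symm
  -- the class of `g` lies in `g D`
  have hcoset : ∀ (g : G) (w : G), (∃ k : G, g * w = k * g * k⁻¹) → w ∈ D := by
    rintro g w ⟨k, hk⟩
    have h1 : w = g⁻¹ * ⁅k, g⁆ * g := by
      rw [eq_inv_mul_of_mul_eq hk, commutatorElement_def]; group
    have h2 := Cfsg.Lib.PGroup.commutatorElement_comm_of_central hG k g g⁻¹
    rw [h1, h2, inv_mul_cancel_right]
    exact hDm k g
  have hpow : ∀ (u : G), u ^ p ∈ D → u ∉ D → ∀ a : ZMod p, a ≠ 0 → u ^ a.val ∉ D := by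
    intro u hup hu a ha hm
    refine hu ?_
    haveI : NeZero p := ⟨hp.ne_zero⟩
    have hco : Nat.Coprime a.val p :=
      ((hp.coprime_iff_not_dvd).mpr (Nat.not_dvd_of_pos_of_lt
        (Nat.pos_of_ne_zero ((ZMod.val_ne_zero a).mpr ha)) (ZMod.val_lt a))).symm
    have h1 : u ^ (Nat.gcd a.val p) ∈ D := by
      rw [← zpow_natCast, Nat.gcd_eq_gcd_ab, zpow_add, zpow_mul, zpow_mul, zpow_natCast, zpow_natCast]
      exact mul_mem (D.zpow_mem hm _) (D.zpow_mem hup _)
    rwa [hco, pow_one] at h1
  haveI : NeZero p := ⟨hp.ne_zero⟩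
  -- central twist
  have central_case : ∀ u ∈ center G, u ^ p = 1 → u ∉ D →
      ∃ (φ : MulAut G) (A : G →* Multiplicative (ZMod p)), A ≠ 1 ∧ center G ≤ A.ker ∧
        ∀ g : G, A g ≠ 1 → ∀ k : G, φ g ≠ k * g * k⁻¹ := by
    intro u huc hup huD
    obtain ⟨φ, hφ⟩ := exists_aut (Lg x) (fun a => u ^ a.val) (by simp)
      (fun a => hLZ x (pow_mem huc _))
      (fun a h => by
        show u ^ a.val * h * u ^ ((Lg x) h).toAdd.val = h * u ^ (a + ((Lg x) h).toAdd).val
        rw [← Subgroup.mem_center_iff.mp (pow_mem huc _) h, mul_assoc, ← pow_add, ZMod.val_add,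
          ← pow_eq_pow_mod _ hup])
    refine ⟨φ, Lg x, hLne x (fun h => hxy (Subgroup.mem_center_iff.mp h y).symm), hLZ x, fun g hg k hk => ?_⟩
    exact hpow u (hup ▸ one_mem D) huD _ (fun h => hg (toAdd_eq_zero.mp h)) (hcoset g _ ⟨k, (hφ g).symm.trans hk⟩)
  -- noncentral twist
  have twist_case : ∀ (u : G) (ε k : ZMod p), u ∉ center G → u ∉ D → u ^ p ∈ D →
      (∀ a b : ZMod p, u ^ a.val * u ^ b.val = u ^ (a + b).val * E (ε * a * b)) → ε + 1 = 2 * k →
      ∃ (φ : MulAut G) (A : G →* Multiplicative (ZMod p)), A ≠ 1 ∧ center G ≤ A.ker ∧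
        ∀ g : G, A g ≠ 1 → ∀ k : G, φ g ≠ k * g * k⁻¹ := by
    intro u ε k hu huD hup hU hk
    have hcom : ∀ (a : ZMod p) (h : G), u ^ a.val * h = h * u ^ a.val * E (a * (Lg u h).toAdd) := by
      intro a h
      have h1 : ⁅u ^ a.val, h⁆ = E (a * (Lg u h).toAdd) := by
        rw [Cfsg.Lib.PGroup.commutatorElement_pow_left hG, ← hL u h]
        have : ∀ n : ℕ, E (Lg u h).toAdd ^ n = E ((n : ZMod p) * (Lg u h).toAdd) := by
          intro n
          induction n with
          | zero => simp [hE0]
          | succ n ih => rw [pow_succ, ih, ← hEadd]; congr 1; push_cast; ring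
        rw [this, ZMod.natCast_zmod_val]
      calc u ^ a.val * h = ⁅u ^ a.val, h⁆ * (h * u ^ a.val) := by rw [commutatorElement_def]; group
        _ = _ := by rw [h1, ← hEc]
    obtain ⟨φ, hφ⟩ := exists_aut (Lg u) (fun a => u ^ a.val * E (k * a * a)) (by simp [hE0])
      (fun a => by
        rw [map_mul, map_pow, (hL1 u u).mpr (commutatorElement_self u), one_pow, one_mul]
        exact hLZ u ((zpowers_le.mpr hcc) (hDc ▸ hEmem _)))
      (fun a h => by
        set b := (Lg u h).toAdd
        show u ^ a.val * E (k * a * a) * h * (u ^ b.val * E (k * b * b)) =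
          h * (u ^ (a + b).val * E (k * (a + b) * (a + b)))
        calc u ^ a.val * E (k * a * a) * h * (u ^ b.val * E (k * b * b))
            = u ^ a.val * (E (k * a * a) * h) * (u ^ b.val * E (k * b * b)) := by simp only [mul_assoc]
          _ = u ^ a.val * h * E (k * a * a) * (u ^ b.val * E (k * b * b)) := by rw [← hEc]; simp only [mul_assoc]
          _ = h * u ^ a.val * (E (a * b) * E (k * a * a) * u ^ b.val) * E (k * b * b) := by rw [hcom a h, show (Lg u h).toAdd = b from rfl]; simp only [mul_assoc]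
          _ = h * u ^ a.val * (u ^ b.val * E (a * b + k * a * a)) * E (k * b * b) := by
            rw [← hEadd, ← hEc]
          _ = h * (u ^ a.val * u ^ b.val) * (E (a * b + k * a * a) * E (k * b * b)) := by simp only [mul_assoc]
          _ = h * u ^ (a + b).val * (E (ε * a * b) * (E (a * b + k * a * a) * E (k * b * b))) := by
            rw [hU]; simp only [mul_assoc]
          _ = _ := by
            rw [← hEadd, ← hEadd, mul_assoc]
            congr 3
            linear_combination a * b * hk)
    refine ⟨φ, Lg u, hLne u hu, hLZ u, fun g hg j hj => ?_⟩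
    have h2 := hcoset g _ ⟨j, (hφ g).symm.trans hj⟩
    exact hpow u hup huD _ (fun h => hg (toAdd_eq_zero.mp h)) ((D.mul_mem_cancel_right (hEmem _)).mp h2)
  by_cases hp2 : p = 2
  · subst hp2
    rcases exists_u_two hG hna c hcp hc0 (fun g h => hDc ▸ hDm g h) with ⟨u, huc, hu2, hu⟩ | ⟨u, hu, hu2⟩
    · exact central_case u huc hu2 (hDc ▸ hu)
    · have hE1 : E 1 = c := by
        have hne : E 1 ≠ 1 := fun h => by
          have h' : l.symm (Multiplicative.ofAdd (1 : ZMod 2)) = 1 := Subtype.ext h
          rw [l.symm.map_eq_one_iff] at h'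
          exact one_ne_zero (congrArg Multiplicative.toAdd h')
        obtain ⟨j, hj⟩ := (hDc ▸ hEmem 1 : E 1 ∈ zpowers c)
        rcases Int.even_or_odd' j with ⟨i, rfl | rfl⟩
        · exact absurd (by rw [← hj]; simp [zpow_mul, zpow_ofNat, hcp]) hne
        · rw [← hj]; simp [zpow_add, zpow_mul, zpow_ofNat, hcp]
      refine twist_case u 1 1 hu (fun h => hu ((zpowers_le.mpr hcc) (hDc ▸ h))) (hu2 ▸ hDm x y) ?_ (by rw [one_add_one_eq_two, mul_one])
      intro a b
      rcases zmod_two a with rfl | rfl <;>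
        rcases zmod_two b with rfl | rfl
      all_goals simp [hE0, hE1, ZMod.val_one, show (1 : ZMod 2) + 1 = 0 from rfl]
      rw [← pow_two, hu2]
  · obtain ⟨u, hup, hu⟩ := exists_u_odd hp2 hna hexp c hcp
    by_cases huc : u ∈ center G
    · exact central_case u huc hup (hDc ▸ hu)
    · have h2 : (2 : ZMod p) ≠ 0 := by
        intro h
        have : ((2 : ℕ) : ZMod p) = 0 := by exact_mod_cast h
        rw [ZMod.natCast_eq_zero_iff] at this
        exact hp2 ((Nat.prime_dvd_prime_iff_eq hp Nat.prime_two).mp this)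
      refine twist_case u 0 (2⁻¹) huc (hDc ▸ hu) (hup ▸ one_mem D) ?_ (by rw [zero_add, mul_inv_cancel₀ h2])
      intro a b
      rw [zero_mul, zero_mul, hE0, mul_one, ← pow_add, ZMod.val_add, ← pow_eq_pow_mod _ hup]

/-- Let G be a finite non-abelian group and p the least prime dividing its order. Then the automorphism group of G has at most #G/p orbits on G. -/
theorem result {G : Type*} [Group G] [Finite G] (hna : ¬ IsMulCommutative G) :
    Nat.card (MulAction.orbitRel.Quotient (MulAut G) G) ≤ Nat.card G / (Nat.card G).minFac := by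
  classical
  set p := (Nat.card G).minFac with hpdef
  haveI : Nontrivial G := not_subsingleton_iff_nontrivial.mp fun h => hna ⟨⟨fun a b => Subsingleton.elim _ _⟩⟩
  have hG1 : Nat.card G ≠ 1 := Finite.one_lt_card.ne'
  have hp : p.Prime := Nat.minFac_prime hG1
  haveI := Fact.mk hp
  have hge : ∀ g : G, g ∉ Subgroup.center G → p ≤ (Subgroup.centralizer ({g} : Set G)).index := fun g hg =>
    Nat.minFac_le_of_dvd (by
      have := index_centralizer_ne_one hg
      have : (Subgroup.centralizer ({g} : Set G)).index ≠ 0 := Subgroup.FiniteIndex.index_ne_zero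
      omega) (Subgroup.index_dvd_card _)
  have hcl : ∀ g : G, g ∉ Subgroup.center G → p ≤ (MulAction.orbit (MulAut G) g).ncard := fun g hg =>
    (hge g hg).trans (index_le_orbit g)
  obtain ⟨hi1, hi2, hi3⟩ := center_index hna
  rw [← hpdef] at hi3
  have hZc := (Subgroup.center G).index_mul_card
  have hZpos : 0 < Nat.card (Subgroup.center G) := Nat.card_pos
  have hp1 := hp.two_le
  set Z := Nat.card (Subgroup.center G) with hZdef
  -- a set avoiding all classes of size p inside the complement of a proper subgroup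
  have large : ∀ K : Subgroup G, K ≠ ⊤ → Subgroup.center G ≤ K →
      (∀ g : G, (Subgroup.centralizer ({g} : Set G)).index = p → g ∈ K) → ¬ (Subgroup.center G).index = p ^ 2 →
      Nat.card (MulAction.orbitRel.Quotient (MulAut G) G) ≤ Nat.card G / p := by
    intro K hK hZK hS hne
    refine orbit_bound (m := p + 1) hp.pos (by omega) hcl (((K : Set G))ᶜ) (fun g hg h => hg (hZK h))
      (fun g hg => ?_) ?_
    · have h1 := hge g (fun h => hg (hZK h))
      have h2 : (Subgroup.centralizer ({g} : Set G)).index ≠ p := fun h => hg (hS g h)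
      have h3 := index_le_orbit g
      omega
    · rw [Set.ncard_compl, ← Nat.card_coe_set_eq, Nat.add_sub_cancel_left, one_mul]
      refine diff_bound hp1 (proper_card hK) ?_
      rw [← hZc]
      exact Nat.mul_le_mul_right _ (hi3.resolve_left hne)
  by_cases hex : ∃ x : G, (Subgroup.centralizer ({x} : Set G)).index = p
  swap
  · refine orbit_bound (m := p + 1) hp.pos (by omega) hcl ((Subgroup.center G : Set G)ᶜ) (fun g hg => hg)
      (fun g hg => ?_) ?_
    · have h1 := hge g hg
      have h2 : (Subgroup.centralizer ({g} : Set G)).index ≠ p := fun h => hex ⟨g, h⟩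
      have h3 := index_le_orbit g
      omega
    · rw [Set.ncard_compl, ← Nat.card_coe_set_eq, Nat.add_sub_cancel_left, one_mul, ← hZc]
      change (p + 1) * (p - 1) * Z ≤ (Subgroup.center G).index * Z - Z
      have hsq : p ^ 2 ≤ (Subgroup.center G).index := by
        rcases hi3 with h | h
        · rw [h]
        · nlinarith
      obtain ⟨q, hq⟩ : ∃ q, p = q + 1 := ⟨p - 1, by omega⟩
      rw [hq] at hsq ⊢
      simp only [Nat.add_sub_cancel]
      have h1 : ((q + 1 + 1) * q + 1) * Z ≤ (Subgroup.center G).index * Z := Nat.mul_le_mul_right _ (by nlinarith)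
      rw [add_mul, one_mul] at h1
      omega
  -- elements of class size p centralize the derived group
  have hnorm : ∀ x : G, (Subgroup.centralizer ({x} : Set G)).index = p →
      commutator G ≤ Subgroup.centralizer ({x} : Set G) := by
    intro x hx
    haveI := Subgroup.normal_of_index_eq_minFac_card (hx.trans hpdef)
    haveI : IsCyclic (G ⧸ Subgroup.centralizer ({x} : Set G)) := isCyclic_of_prime_card (p := p) hx
    rw [commutator_def, Subgroup.commutator_le]
    intro a _ b _
    rw [← QuotientGroup.eq_one_iff]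
    show (QuotientGroup.mk' (Subgroup.centralizer ({x} : Set G))) ⁅a, b⁆ = 1
    rw [map_commutatorElement, commutatorElement_eq_one_iff_mul_comm]
    exact (IsCyclic.commutative (α := G ⧸ Subgroup.centralizer ({x} : Set G))).is_comm.comm _ _
  set K := Subgroup.centralizer ((commutator G : Subgroup G) : Set G) with hKdef
  have hSK : ∀ g : G, (Subgroup.centralizer ({g} : Set G)).index = p → g ∈ K := fun g hg =>
    Subgroup.mem_centralizer_iff.mpr fun w hw => Subgroup.mem_centralizer_singleton_iff.mp (hnorm g hg hw)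
  by_cases hK : K = ⊤
  swap
  · refine large K hK (Subgroup.center_le_centralizer _) hSK fun hsq => hK ?_
    rw [eq_top_iff]
    intro g _
    by_cases hg : g ∈ Subgroup.center G
    · exact Subgroup.center_le_centralizer _ hg
    · exact hSK g (class_p_of_index_sq hp hsq hg)
  have hG2 : commutator G ≤ Subgroup.center G := by
    exact Subgroup.centralizer_eq_top_iff_subset.mp hK
  set L := Subgroup.closure ({g : G | (Subgroup.centralizer ({g} : Set G)).index = p} ∪ (Subgroup.center G : Set G))
    with hLdef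
  by_cases hL : L = ⊤
  swap
  · refine large L hL (fun z hz => Subgroup.subset_closure (Or.inr hz))
      (fun g hg => Subgroup.subset_closure (Or.inl hg)) fun hsq => hL ?_
    rw [eq_top_iff]
    intro g _
    by_cases hg : g ∈ Subgroup.center G
    · exact Subgroup.subset_closure (Or.inr hg)
    · exact Subgroup.subset_closure (Or.inl (class_p_of_index_sq hp hsq hg))
  -- a generator with noncommuting partner
  have partner : ∀ x : G, x ∉ Subgroup.center G →
      ∃ z : G, (Subgroup.centralizer ({z} : Set G)).index = p ∧ ⁅x, z⁆ ≠ 1 := by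
    intro x hx
    by_contra hh
    simp only [not_exists, not_and, not_not] at hh
    refine hx (Subgroup.mem_center_iff.mpr fun g => ?_)
    have : L ≤ Subgroup.centralizer ({x} : Set G) := by
      rw [hLdef, Subgroup.closure_le]
      rintro z (hz | hz)
      · exact Subgroup.mem_centralizer_singleton_iff.mpr (commutatorElement_eq_one_iff_mul_comm.mp (hh z hz)).symm
      · exact Subgroup.center_le_centralizer _ hz
    exact Subgroup.mem_centralizer_singleton_iff.mp (this (hL ▸ Subgroup.mem_top g))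
  by_cases hD2 : ∃ x y : G, (Subgroup.centralizer ({x} : Set G)).index = p ∧
      (Subgroup.centralizer ({y} : Set G)).index = p ∧ (cm hG2 x).range ≠ (cm hG2 y).range
  · obtain ⟨x, y, hx, hy, hxyD⟩ := hD2
    have ncen : ∀ g : G, (Subgroup.centralizer ({g} : Set G)).index = p → g ∉ Subgroup.center G := fun g hg h => by
      rw [Subgroup.centralizer_eq_top_iff_subset.mpr (Set.singleton_subset_iff.mpr h), Subgroup.index_top] at hg
      omega
    have hr : ∀ g : G, (Subgroup.centralizer ({g} : Set G)).index = p → Nat.card (cm hG2 g).range = p :=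
      fun g hg => (cm_range_card hG2 g).trans hg
    -- noncommuting elements of class size p have the same image
    have hsame : ∀ a b : G, (Subgroup.centralizer ({a} : Set G)).index = p →
        (Subgroup.centralizer ({b} : Set G)).index = p → ⁅a, b⁆ ≠ 1 → (cm hG2 a).range = (cm hG2 b).range := by
      intro a b ha hb hab
      have key : ∀ H : Subgroup G, Nat.card H = p → ⁅a, b⁆ ∈ H → Subgroup.zpowers ⁅a, b⁆ = H := by
        intro H hH hm
        refine Subgroup.eq_of_le_of_card_ge (Subgroup.zpowers_le.mpr hm) ?_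
        rw [Nat.card_zpowers, hH]
        have hd : orderOf ⁅a, b⁆ ∣ p := hH ▸ Subgroup.orderOf_dvd_natCard H hm
        rcases (Nat.dvd_prime hp).mp hd with h | h
        · exact absurd (orderOf_eq_one_iff.mp h) hab
        · rw [h]
      rw [← key _ (hr a ha) ⟨b, rfl⟩, ← key _ (hr b hb) (symm_mem hG2 a b)]
    obtain ⟨z, hz, hxz⟩ := partner x (ncen x hx)
    obtain ⟨w, hw, hyw⟩ := partner y (ncen y hy)
    have hxz' := hsame x z hx hz hxz
    have hyw' := hsame y w hy hw hyw
    have hzw : ⁅z, w⁆ = 1 := by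
      by_contra h
      exact hxyD (hxz'.trans ((hsame z w hz hw h).trans hyw'.symm))
    have hxw : ⁅x, w⁆ = 1 := by
      by_contra h
      exact hxyD ((hsame x w hx hw h).trans hyw'.symm)
    set A := Subgroup.centralizer ({z} : Set G) with hA
    set B := Subgroup.centralizer ({w} : Set G) with hB
    have hTgood : ∀ g ∈ ((A : Set G) ∪ B)ᶜ, 2 * p ≤ (Subgroup.centralizer ({g} : Set G)).index := by
      intro g hg
      simp only [Set.mem_compl_iff, Set.mem_union, SetLike.mem_coe, not_or] at hg
      rw [← cm_range_card hG2 g]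
      have m1 : ⁅g, z⁆ ∈ (cm hG2 g).range := ⟨z, rfl⟩
      have m2 : ⁅g, w⁆ ∈ (cm hG2 g).range := ⟨w, rfl⟩
      have n1 : ⁅g, z⁆ ≠ 1 := fun h => hg.1 (Subgroup.mem_centralizer_singleton_iff.mpr (commutatorElement_eq_one_iff_mul_comm.mp h))
      have n2 : ⁅g, w⁆ ≠ 1 := fun h => hg.2 (Subgroup.mem_centralizer_singleton_iff.mpr (commutatorElement_eq_one_iff_mul_comm.mp h))
      have gen : ∀ (H : Subgroup G) (e : G), Nat.card H = p → e ∈ H → e ≠ 1 → Subgroup.zpowers e = H := by
        intro H e hH hm he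
        refine Subgroup.eq_of_le_of_card_ge (Subgroup.zpowers_le.mpr hm) ?_
        rw [Nat.card_zpowers, hH]
        have hd : orderOf e ∣ p := hH ▸ Subgroup.orderOf_dvd_natCard H hm
        rcases (Nat.dvd_prime hp).mp hd with h | h
        · exact absurd (orderOf_eq_one_iff.mp h) he
        · rw [h]
      have e1 := gen _ _ (hr z hz) (symm_mem hG2 g z) n1
      have e2 := gen _ _ (hr w hw) (symm_mem hG2 g w) n2
      have le1 : (cm hG2 z).range ≤ (cm hG2 g).range := e1 ▸ Subgroup.zpowers_le.mpr m1
      have le2 : (cm hG2 w).range ≤ (cm hG2 g).range := e2 ▸ Subgroup.zpowers_le.mpr m2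
      obtain ⟨t, ht⟩ := Subgroup.card_dvd_of_le le1
      rw [hr z hz] at ht
      rw [ht, mul_comm 2 p]
      refine Nat.mul_le_mul_left _ ?_
      by_contra hlt
      have hpos : 0 < Nat.card (cm hG2 g).range := Nat.card_pos
      have ht1 : t = 1 := by
        rcases Nat.eq_zero_or_pos t with h | h
        · rw [h, mul_zero] at ht; omega
        · omega
      rw [ht1, mul_one] at ht
      have eq1 := Subgroup.eq_of_le_of_card_ge le1 (by rw [ht, hr z hz])
      have eq2 := Subgroup.eq_of_le_of_card_ge le2 (by rw [ht, hr w hw])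
      exact hxyD (hxz'.trans (eq1.trans (eq2.symm.trans hyw'.symm)))
    refine orbit_bound (m := 2 * p) hp.pos (by omega) hcl ((A : Set G) ∪ B)ᶜ
      (fun g hg h => hg (Or.inl (Subgroup.center_le_centralizer _ h)))
      (fun g hg => (hTgood g hg).trans (index_le_orbit g)) ?_
    have hAB : ¬ A ≤ B := fun h => by
      have hAB' : A = B := Subgroup.eq_of_le_of_card_ge h (by
        have e1 := A.index_mul_card
        have e2 := B.index_mul_card
        rw [show A.index = p from hz] at e1
        rw [show B.index = p from hw, ← e1] at e2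
        exact (Nat.eq_of_mul_eq_mul_left hp.pos e2).le)
      have hxB : x ∈ B := Subgroup.mem_centralizer_singleton_iff.mpr (commutatorElement_eq_one_iff_mul_comm.mp hxw)
      rw [← hAB'] at hxB
      exact hxz (commutatorElement_eq_one_iff_mul_comm.mpr (Subgroup.mem_centralizer_singleton_iff.mp hxB))
    have eA : p * Nat.card A = Nat.card G := by rw [← show A.index = p from hz]; exact A.index_mul_card
    have eB : p * Nat.card B = Nat.card G := by rw [← show B.index = p from hw]; exact B.index_mul_card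
    have hI1 : p * Nat.card ↥(A ⊓ B) ≤ Nat.card A := by
      obtain ⟨t, ht⟩ := Subgroup.card_dvd_of_le (inf_le_left : A ⊓ B ≤ A)
      rw [ht, mul_comm]
      refine Nat.mul_le_mul_left _ (Nat.minFac_le_of_dvd ?_ ((Dvd.intro_left _ ht.symm).trans (Subgroup.card_subgroup_dvd_card A)))
      rcases Nat.eq_zero_or_pos t with h | h
      · rw [h, mul_zero] at ht; exact absurd ht Nat.card_pos.ne'
      · by_contra hlt
        have : t = 1 := by omega
        rw [this, mul_one] at ht
        exact hAB (inf_eq_left.mp (Subgroup.eq_of_le_of_card_ge inf_le_left ht.le))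
    have hI2 : p * Z ≤ Nat.card ↥(A ⊓ B) := by
      have hzm : z ∈ A ⊓ B := ⟨Subgroup.mem_centralizer_singleton_iff.mpr rfl,
        Subgroup.mem_centralizer_singleton_iff.mpr (commutatorElement_eq_one_iff_mul_comm.mp hzw)⟩
      have hle : Subgroup.center G ≤ A ⊓ B := le_inf (Subgroup.center_le_centralizer _) (Subgroup.center_le_centralizer _)
      obtain ⟨t, ht⟩ := Subgroup.card_dvd_of_le hle
      rw [ht, mul_comm]
      refine Nat.mul_le_mul_left _ (Nat.minFac_le_of_dvd ?_ ((Dvd.intro_left _ ht.symm).trans (Subgroup.card_subgroup_dvd_card _)))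
      rcases Nat.eq_zero_or_pos t with h | h
      · rw [h, mul_zero] at ht; exact absurd ht Nat.card_pos.ne'
      · by_contra hlt
        have : t = 1 := by omega
        rw [this, mul_one] at ht
        exact ncen z hz ((Subgroup.eq_of_le_of_card_ge hle ht.le) ▸ hzm)
    have hI3 : Nat.card A ≤ p * Nat.card ↥(A ⊓ B) := by
      have h := Subgroup.relIndex_mul_relIndex (⊥ : Subgroup G) (A ⊓ B) A bot_le inf_le_left
      rw [Subgroup.relIndex_bot_left, Subgroup.relIndex_bot_left] at h
      rw [← h, mul_comm p]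
      refine Nat.mul_le_mul_left _ ?_
      rw [Subgroup.inf_relIndex_left, ← show B.index = p from hw, ← Subgroup.relIndex_top_right B]
      exact Subgroup.relIndex_le_of_le_right le_top (Subgroup.relIndex_top_right B ▸ Subgroup.FiniteIndex.index_ne_zero)
    have hun : ((A : Set G) ∪ B).ncard + Nat.card ↥(A ⊓ B) = Nat.card A + Nat.card B := by
      have := Set.ncard_union_add_ncard_inter (A : Set G) B
      rw [← Nat.card_coe_set_eq (A : Set G), ← Nat.card_coe_set_eq (B : Set G), ← Nat.card_coe_set_eq ((A : Set G) ∩ B)] at this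
      exact this
    rw [Set.ncard_compl, show 2 * p - p = p by omega]
    have hBA : Nat.card B = Nat.card A := Nat.eq_of_mul_eq_mul_left hp.pos (eB.trans eA.symm)
    obtain ⟨q, hq⟩ : ∃ q, p = q + 1 := ⟨p - 1, by omega⟩
    set N := ((A : Set G) ∪ B).ncard
    set I := Nat.card ↥(A ⊓ B)
    have hI : Nat.card A = p * I := le_antisymm hI3 hI1
    rw [hBA, hI] at hun
    rw [hI] at eA
    rw [← eA]
    have key : 2 * (p - 1) * Z + N ≤ p * (p * I) := by
      rw [show p - 1 = q by omega]
      have hq1 : 1 ≤ q := by omega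
      have a1 : q * q * (p * Z) ≤ q * q * I := Nat.mul_le_mul_left _ hI2
      have a2 : 2 * q * Z ≤ q * q * (p * Z) := by
        have : 2 * q ≤ q * q * p := by nlinarith
        calc 2 * q * Z ≤ q * q * p * Z := Nat.mul_le_mul_right _ this
          _ = _ := by ring
      have a3 : q * q * I + 2 * (p * I) = p * (p * I) + I := by rw [hq]; ring
      omega
    calc 2 * p * (p - 1) * Z = p * (2 * (p - 1) * Z) := by ring
      _ ≤ p * (p * (p * I) - N) := Nat.mul_le_mul_left _ (by omega)
  · push Not at hD2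
    obtain ⟨x0, hx0⟩ := hex
    set D := (cm hG2 x0).range with hDdef
    have hDcard : Nat.card D = p := (cm_range_card hG2 x0).trans hx0
    have hDm : ∀ g h : G, ⁅g, h⁆ ∈ D := by
      let M : Subgroup G :=
        { carrier := {g | ∀ h, ⁅g, h⁆ ∈ D}
          one_mem' := fun h => by rw [commutatorElement_one_left]; exact one_mem D
          mul_mem' := fun {a b} ha hb h => by
            rw [Cfsg.Lib.PGroup.commutatorElement_mul_left hG2]; exact mul_mem (ha h) (hb h)
          inv_mem' := fun {a} ha h => by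
            have e := Cfsg.Lib.PGroup.commutatorElement_mul_left hG2 a a⁻¹ h
            rw [mul_inv_cancel, commutatorElement_one_left] at e
            rw [eq_inv_of_mul_eq_one_right e.symm]
            exact inv_mem (ha h) }
      have hLM : L ≤ M := by
        rw [hLdef, Subgroup.closure_le]
        rintro g (hg | hg) h
        · rw [hDdef, hD2 x0 g hx0 hg]; exact ⟨h, rfl⟩
        · rw [commutatorElement_eq_one_iff_mul_comm.mpr (Subgroup.mem_center_iff.mp hg h).symm]; exact one_mem D
      intro g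
      exact hLM (hL ▸ Subgroup.mem_top g)
    obtain ⟨φ, A, hA1, hAZ, hφ⟩ := small_derived hna hG2 D hDcard hDm
    refine orbit_bound (m := 2 * p) hp.pos (by omega) hcl ((A.ker : Set G)ᶜ)
      (fun g hg h => hg (hAZ h)) (fun g hg => ?_) ?_
    · calc 2 * p ≤ 2 * (Subgroup.centralizer ({g} : Set G)).index := Nat.mul_le_mul_left _ (hge g (fun h => hg (hAZ h)))
        _ ≤ _ := two_class_le_orbit g φ (hφ g hg)
    · rw [Set.ncard_compl, ← Nat.card_coe_set_eq, show 2 * p - p = p by omega]
      have hne : A.ker ≠ ⊤ := fun h => hA1 (MonoidHom.ker_eq_top_iff.mp h)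
      have h1 : p * Nat.card A.ker ≤ Nat.card G := proper_card hne
      have h2 : p ^ 2 * Z ≤ Nat.card G := by
        rw [← hZc]
        refine Nat.mul_le_mul_right _ ?_
        rcases hi3 with h | h
        · rw [h]
        · nlinarith
      change 2 * p * (p - 1) * Z ≤ p * (Nat.card G - Nat.card A.ker)
      obtain ⟨q, hq⟩ : ∃ q, p = q + 1 := ⟨p - 1, by omega⟩
      have key : p * (2 * (p - 1) * Z + Nat.card A.ker) ≤ p * Nat.card G := by
        rw [show p - 1 = q by omega]
        have a1 : q * (p ^ 2 * Z) ≤ q * Nat.card G := Nat.mul_le_mul_left _ h2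
        have a2 : 2 * (p * (q * Z)) ≤ p * (p * (q * Z)) := Nat.mul_le_mul_right _ hp1
        have a3 : p * Nat.card G = q * Nat.card G + Nat.card G := by rw [hq, add_mul, one_mul]
        have a4 : q * (p ^ 2 * Z) = p * (p * (q * Z)) := by ring
        have a5 : p * (2 * q * Z + Nat.card A.ker) = 2 * (p * (q * Z)) + p * Nat.card A.ker := by ring
        omega
      have := Nat.le_of_mul_le_mul_left key hp.pos
      calc 2 * p * (p - 1) * Z = p * (2 * (p - 1) * Z) := by ring
        _ ≤ _ := Nat.mul_le_mul_left _ (by omega)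

end Cfsg.Agent.S4067
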