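import Cfsg.Statements.S4068
import Cfsg.Agent.S0144
import Cfsg.Agent.S3901
import Cfsg.Agent.S3903
import Cfsg.Agent.Lib.OrderLeHundred
import Cfsg.Agent.Lib.Invol.Basic
import Cfsg.Agent.Lib.Invol.Counting
import Cfsg.Agent.Lib.Invol.BrauerFowler
import Cfsg.Agent.Lib.Local.CNTheorem
import Mathlib.GroupTheory.FixedPointFree
import Mathlib.Data.Fintype.CardEmbedding
-- import your own Cfsg.Agent.* helpers here

set_option autoImplicit false
open Cfsg

namespace Cfsg.Agent.S4068

open Cfsg.Lib.Invol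

theorem pow_three_add_one {a n : ℕ} (h : 2 ^ n = 3 ^ a + 1) : n ≤ 2 := by
  by_contra hn
  have h8 : (8 : ℕ) ∣ 2 ^ n := by
    rw [show (8 : ℕ) = 2 ^ 3 by norm_num]; exact pow_dvd_pow 2 (by omega)
  have h3 : 3 ^ a % 8 = 1 ∨ 3 ^ a % 8 = 3 := by
    clear h
    induction a with
    | zero => simp
    | succ a ih => rw [pow_succ, Nat.mul_mod]; rcases ih with e | e <;> simp [e]
  omega

theorem pow_three_eq {b n : ℕ} (h : 3 ^ b = 2 ^ n + 1) : n = 1 ∨ n = 3 := by
  rcases Nat.even_or_odd b with ⟨c, hc⟩ | ⟨c, hc⟩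
  · -- `(3^c - 1)(3^c + 1) = 2^n`
    have hc1 : 1 ≤ 3 ^ c := Nat.one_le_pow _ _ (by norm_num)
    have hd : 3 ^ c + 1 ∣ 2 ^ n := by
      refine ⟨3 ^ c - 1, ?_⟩
      have e : 3 ^ b = 3 ^ c * 3 ^ c := by rw [hc, pow_add]
      obtain ⟨d, hd⟩ := Nat.exists_eq_add_of_le hc1
      rw [hd] at e ⊢
      rw [Nat.add_sub_cancel_left]
      nlinarith
    obtain ⟨j, -, hj⟩ := (Nat.dvd_prime_pow Nat.prime_two).1 hd
    have hj2 := pow_three_add_one hj.symm
    have hc2 : c ≤ 1 := by
      by_contra h2
      have : 3 ^ 2 ≤ 3 ^ c := Nat.pow_le_pow_right (by norm_num) (by omega)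
      have : 2 ^ j ≤ 2 ^ 2 := Nat.pow_le_pow_right (by norm_num) hj2
      omega
    rcases Nat.le_one_iff_eq_zero_or_eq_one.1 hc2 with rfl | rfl
    · subst hc; simp at h
    · subst hc
      right
      have : 2 ^ n = 2 ^ 3 := by norm_num at h ⊢; omega
      exact Nat.pow_right_injective le_rfl this
  · left
    by_contra hn1
    have h3 : ∀ m : ℕ, 9 ^ m % 4 = 1 := fun m => by simp [Nat.pow_mod]
    have e : 3 ^ b = 9 ^ c * 3 := by rw [hc, pow_succ, pow_mul]; norm_num
    have := h3 c
    rcases n with _ | _ | n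
    · rw [e] at h; omega
    · exact hn1 rfl
    · rw [e, show n + 1 + 1 = n + 2 from rfl, pow_add] at h; omega

theorem factorization_eq_of_mul {n p k m : ℕ} (hp : p.Prime) (hn : n = p ^ k * m) (hm : ¬ p ∣ m) :
    n.factorization p = k := by
  have hm0 : m ≠ 0 := fun h => hm (h ▸ dvd_zero p)
  subst hn
  rw [Nat.factorization_mul (pow_ne_zero k hp.ne_zero) hm0, hp.factorization_pow]
  simp [Nat.factorization_eq_zero_of_not_dvd hm]

theorem one_real_false {T Q R h : ℕ} (hT : T = h + 1) (h2 : 2 ≤ h) (hho : Odd h) (hQ : 1 ≤ Q) (hR : 2 ≤ R)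
    (e : 2 * (Q * R) = 2 * h + T * (R - 1)) (hdvd : h ∣ Q * R) : False := by
  subst hT
  have h1 : h ∣ (h + 1) * (R - 1) := by
    have h3 : h ∣ 2 * (Q * R) := hdvd.mul_left 2
    rw [e] at h3
    exact (Nat.dvd_add_right (dvd_mul_left h 2)).1 h3
  have hco : Nat.Coprime h (h + 1) := by simp
  have h3 : h ∣ R - 1 := hco.dvd_of_dvd_mul_left h1
  have hcR : Nat.Coprime h R := by
    have h4 : Nat.Coprime (R - 1) R := by
      rw [show R = R - 1 + 1 by omega]; simp
    exact h4.coprime_dvd_left h3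
  have h5 : h ∣ Q := hcR.dvd_of_dvd_mul_right hdvd
  have h6 : h ≤ Q := Nat.le_of_dvd hQ h5
  obtain ⟨S, rfl⟩ : ∃ S, R = S + 1 := ⟨R - 1, by omega⟩
  simp only [Nat.add_sub_cancel] at e
  nlinarith [Nat.mul_le_mul_right (S + 1) h6]

theorem both_real {T Q R h : ℕ} (hT : T = h + 1) (hho : Odd h) (hQo : Odd Q) (hRo : Odd R)
    (hQ : 3 ≤ Q) (hR : 3 ≤ R) (e : 2 * (Q * R) = 2 * h + T * ((Q - 1) + (R - 1))) (hd : h ∣ Q) :
    Q = h ∧ R = h + 2 := by
  subst hT
  have hq : h ≤ Q := Nat.le_of_dvd (by omega) hd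
  have h1 : h ∣ (h + 1) * ((Q - 1) + (R - 1)) := by
    have h3 : h ∣ 2 * (Q * R) := (hd.mul_right R).mul_left 2
    rw [e] at h3
    exact (Nat.dvd_add_right (dvd_mul_left h 2)).1 h3
  have h3 : h ∣ Q + (R - 2) := by
    rw [show Q + (R - 2) = (Q - 1) + (R - 1) by omega]
    exact (show Nat.Coprime h (h + 1) by simp).dvd_of_dvd_mul_left h1
  have h4 : h ≤ R - 2 := Nat.le_of_dvd (by omega) ((Nat.dvd_add_right hd).1 h3)
  obtain ⟨a, rfl⟩ : ∃ a, Q = a + 3 := ⟨Q - 3, by omega⟩
  obtain ⟨b, rfl⟩ : ∃ b, R = b + 3 := ⟨R - 3, by omega⟩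
  simp only [show a + 3 - 1 = a + 2 by omega, show b + 3 - 1 = b + 2 by omega] at e
  have hlt : a < b := by
    by_contra hle
    nlinarith [Nat.mul_le_mul_right (a + b + 4) (show h + 1 ≤ b + 2 by omega)]
  have hle : b ≤ a + 2 := by
    by_contra hle
    nlinarith [Nat.mul_le_mul_right (a + b + 4) (show h + 1 ≤ a + 4 by omega)]
  obtain ⟨i, hi⟩ := hQo
  obtain ⟨j, hj⟩ := hRo
  have hb : b = a + 2 := by omega
  subst hb
  have : a + 3 = h := by nlinarith
  omega

section Structure

variable {G : Type*} [Group G] [Finite G]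

/-- a prime `s` such that some element of order `s` is inverted by an involution -/
def RealPrime (G : Type*) [Group G] (s : ℕ) : Prop :=
  ∃ t u : G, orderOf t = 2 ∧ orderOf u = s ∧ t * u * t⁻¹ = u⁻¹

theorem orderOf_eq_of_commute (hprime : ∀ x : G, x ≠ 1 → (orderOf x).Prime) {x y : G} (hx : x ≠ 1) (hy : y ≠ 1)
    (hc : Commute x y) : orderOf y = orderOf x := by
  by_contra hne
  have hco := (Nat.coprime_primes (hprime x hx) (hprime y hy)).2 (Ne.symm hne)
  have h := hc.orderOf_mul_eq_mul_orderOf_of_coprime hco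
  have h1 := (hprime x hx).two_le
  have h2 := (hprime y hy).two_le
  by_cases hxy : x * y = 1
  · rw [hxy, orderOf_one] at h
    nlinarith
  · exact Nat.not_prime_mul (a := orderOf x) (b := orderOf y) (by omega) (by omega) (h ▸ hprime _ hxy)

theorem isPGroup_centralizer (hprime : ∀ x : G, x ≠ 1 → (orderOf x).Prime) {s : ℕ} (hs : s.Prime) {x : G}
    (hx : orderOf x = s) : IsPGroup s ↥(Subgroup.centralizer ({x} : Set G)) := by
  intro y
  refine ⟨1, Subtype.ext ?_⟩
  show (y : G) ^ s ^ 1 = 1
  rw [pow_one]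
  by_cases hy : (y : G) = 1
  · rw [hy, one_pow]
  · have hc : Commute x (y : G) := (Subgroup.mem_centralizer_iff.1 y.2) x rfl
    have hx1 : x ≠ 1 := fun h => hs.one_lt.ne' (by rw [← hx, h, orderOf_one])
    rw [← hx, ← orderOf_eq_of_commute hprime hx1 hy hc]
    exact pow_orderOf_eq_one _

theorem exists_sylow_two_eq_centralizer (hprime : ∀ x : G, x ≠ 1 → (orderOf x).Prime) {t : G}
    (ht : orderOf t = 2) (T : Sylow 2 G) (htT : t ∈ (T : Subgroup G)) :
    (T : Subgroup G) = Subgroup.centralizer ({t} : Set G) := by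
  have := Fact.mk Nat.prime_two
  have hsq : ∀ a ∈ (T : Subgroup G), a * a = 1 := by
    intro a ha
    by_cases ha1 : a = 1
    · rw [ha1, one_mul]
    obtain ⟨j, hj⟩ := IsPGroup.iff_orderOf.1 T.isPGroup' ⟨a, ha⟩
    rw [Subgroup.orderOf_mk] at hj
    have hp := hprime a ha1
    rw [hj] at hp
    have h1 : j = 1 := Nat.Prime.eq_one_of_pow hp
    rw [h1, pow_one] at hj
    rw [← sq, ← hj, pow_orderOf_eq_one]
  refine (T.3 (isPGroup_centralizer hprime Nat.prime_two ht) fun a ha => ?_).symm
  rw [Subgroup.mem_centralizer_singleton_iff]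
  have h1 := hsq _ ((T : Subgroup G).mul_mem htT ha)
  have h2 := hsq a ha
  have h3 := hsq t htT
  calc a * t = (t * t) * (a * t) * (a * a) := by rw [h2, h3, one_mul, mul_one]
    _ = t * (t * a * (t * a)) * a := by group
    _ = t * a := by rw [h1, mul_one]

theorem real_transfer (horb : ∀ x y : G, orderOf x = orderOf y → ∃ φ : MulAut G, φ x = y) {s : ℕ}
    (hR : RealPrime G s) {u : G} (hu : orderOf u = s) :
    ∃ t : G, orderOf t = 2 ∧ t * u * t⁻¹ = u⁻¹ := by
  obtain ⟨t, v, ht, hv, he⟩ := hR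
  obtain ⟨φ, rfl⟩ := horb v u (hv.trans hu.symm)
  refine ⟨φ t, ?_, ?_⟩
  · rw [MulEquiv.orderOf_eq]; exact ht
  · rw [← map_inv, ← map_inv, ← map_mul, ← map_mul, he]

theorem fixed_eq_one (hprime : ∀ x : G, x ≠ 1 → (orderOf x).Prime) {s : ℕ} (hs2 : s ≠ 2) {t w : G}
    (ht : orderOf t = 2) (hw : w ≠ 1 → orderOf w = s) (hc : Commute t w) : w = 1 := by
  by_contra hw1
  exact hs2 (((hw hw1).symm.trans (orderOf_eq_of_commute hprime (Cfsg.Lib.Invol.ne_one ht) hw1 hc)).trans ht)

theorem mem_centralizer_order (hprime : ∀ x : G, x ≠ 1 → (orderOf x).Prime) {s : ℕ} (hs : s.Prime) {u w : G}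
    (hu : orderOf u = s) (hw : w ∈ Subgroup.centralizer ({u} : Set G)) (hw1 : w ≠ 1) : orderOf w = s := by
  have hu1 : u ≠ 1 := fun h => hs.one_lt.ne' (by rw [← hu, h, orderOf_one])
  rw [← hu]
  exact orderOf_eq_of_commute hprime hu1 hw1 ((Subgroup.mem_centralizer_iff.1 hw) u rfl)

theorem inverts_centralizer (hprime : ∀ x : G, x ≠ 1 → (orderOf x).Prime) {s : ℕ} (hs : s.Prime) (hs2 : s ≠ 2)
    {t u : G} (ht : orderOf t = 2) (hu : orderOf u = s) (htu : t * u * t⁻¹ = u⁻¹) :
    ∀ w ∈ Subgroup.centralizer ({u} : Set G), t * w * t⁻¹ = w⁻¹ := by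
  set C := Subgroup.centralizer ({u} : Set G) with hC
  have htC : ∀ w ∈ C, t * w * t⁻¹ ∈ C := by
    intro w hw
    rw [hC, Subgroup.mem_centralizer_singleton_iff] at hw ⊢
    have h1 : Commute (t * w * t⁻¹) (t * u * t⁻¹) := by
      have := (show Commute w u from hw).map (MulAut.conj t).toMonoidHom
      simpa using this
    rw [htu] at h1
    simpa using h1.inv_right.eq
  let φ : ↥C →* ↥C :=
    { toFun := fun w => ⟨t * (w : G) * t⁻¹, htC w w.2⟩
      map_one' := Subtype.ext (by simp)
      map_mul' := fun a b => Subtype.ext (by simp [mul_assoc]) }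
  have h2 : Function.Involutive φ := fun w => Subtype.ext (by
    show t * (t * (w : G) * t⁻¹) * t⁻¹ = w
    rw [inv_eq_self ht, show t * (t * (w : G) * t) * t = (t * t) * (w : G) * (t * t) by group,
      Cfsg.Lib.Invol.inv_mul_self ht, one_mul, mul_one])
  have hfpf : MonoidHom.FixedPointFree φ := by
    intro w hw
    have h3 : t * (w : G) * t⁻¹ = w := congrArg Subtype.val hw
    exact Subtype.ext (fixed_eq_one hprime hs2 ht (mem_centralizer_order hprime hs hu w.2)
      (mul_inv_eq_iff_eq_mul.1 h3))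
  intro w hw
  exact congrArg Subtype.val (congrFun (MonoidHom.FixedPointFree.coe_eq_inv_of_involutive hfpf h2) ⟨w, hw⟩)

theorem comm_centralizer (hprime : ∀ x : G, x ≠ 1 → (orderOf x).Prime)
    (horb : ∀ x y : G, orderOf x = orderOf y → ∃ φ : MulAut G, φ x = y) {s : ℕ} (hs : s.Prime) (hs2 : s ≠ 2)
    (hR : RealPrime G s) {u : G} (hu : orderOf u = s) {a b : G}
    (ha : a ∈ Subgroup.centralizer ({u} : Set G)) (hb : b ∈ Subgroup.centralizer ({u} : Set G)) :
    a * b = b * a := by
  obtain ⟨t, ht, htu⟩ := real_transfer horb hR hu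
  have hinv := inverts_centralizer hprime hs hs2 ht hu htu
  have h1 := hinv _ (Subgroup.mul_mem _ ha hb)
  rw [show t * (a * b) * t⁻¹ = (t * a * t⁻¹) * (t * b * t⁻¹) by group, hinv a ha, hinv b hb, mul_inv_rev] at h1
  have := congrArg (·⁻¹) h1
  simpa using this.symm

theorem sylow_eq_centralizer (hprime : ∀ x : G, x ≠ 1 → (orderOf x).Prime)
    (horb : ∀ x y : G, orderOf x = orderOf y → ∃ φ : MulAut G, φ x = y) {s : ℕ} [Fact s.Prime] (hs2 : s ≠ 2)
    (hR : RealPrime G s) {u : G} (hu : orderOf u = s) (P : Sylow s G) (huP : u ∈ (P : Subgroup G)) :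
    (P : Subgroup G) = Subgroup.centralizer ({u} : Set G) := by
  have hs : s.Prime := Fact.out
  have hu1 : u ≠ 1 := fun h => hs.one_lt.ne' (by rw [← hu, h, orderOf_one])
  have : Nontrivial ↥(P : Subgroup G) := ⟨⟨⟨u, huP⟩, 1, fun h => hu1 (congrArg Subtype.val h)⟩⟩
  have := P.isPGroup'.center_nontrivial
  obtain ⟨z, hz1⟩ := exists_ne (1 : Subgroup.center ↥(P : Subgroup G))
  have hzG : ((z : ↥(P : Subgroup G)) : G) ≠ 1 := fun h => hz1 (Subtype.ext (Subtype.ext h))
  have hzo : orderOf ((z : ↥(P : Subgroup G)) : G) = s := by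
    refine mem_centralizer_order hprime hs hu ?_ hzG
    rw [Subgroup.mem_centralizer_singleton_iff]
    exact (congrArg Subtype.val (Subgroup.mem_center_iff.1 z.2 ⟨u, huP⟩)).symm
  have hle : (P : Subgroup G) ≤ Subgroup.centralizer ({((z : ↥(P : Subgroup G)) : G)} : Set G) := by
    intro a ha
    rw [Subgroup.mem_centralizer_singleton_iff]
    exact congrArg Subtype.val (Subgroup.mem_center_iff.1 z.2 ⟨a, ha⟩)
  refine (P.3 (isPGroup_centralizer hprime hs hu) fun a ha => ?_).symm
  rw [Subgroup.mem_centralizer_singleton_iff]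
  exact comm_centralizer hprime horb hs hs2 hR hzo (hle ha) (hle huP)

theorem relIndex_normalizer_eq_two (hprime : ∀ x : G, x ≠ 1 → (orderOf x).Prime)
    (horb : ∀ x y : G, orderOf x = orderOf y → ∃ φ : MulAut G, φ x = y) {s : ℕ} [Fact s.Prime] (hs2 : s ≠ 2)
    (hR : RealPrime G s) (P : Sylow s G) {u : G} (hu : orderOf u = s) (huP : u ∈ (P : Subgroup G)) :
    (P : Subgroup G).relIndex (Subgroup.normalizer ((P : Subgroup G) : Set G)) = 2 := by
  have hs : s.Prime := Fact.out
  have hu1 : u ≠ 1 := fun h => hs.one_lt.ne' (by rw [← hu, h, orderOf_one])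
  have hPC := sylow_eq_centralizer hprime horb hs2 hR hu P huP
  obtain ⟨t, ht, htu⟩ := real_transfer horb hR hu
  have hinv := inverts_centralizer hprime hs hs2 ht hu htu
  rw [← hPC] at hinv
  have htt := Cfsg.Lib.Invol.inv_mul_self ht
  have htM : t ∈ Subgroup.normalizer ((P : Subgroup G) : Set G) := by
    rw [Subgroup.mem_normalizer_iff]
    intro a
    constructor
    · intro ha; rw [hinv a ha]; exact Subgroup.inv_mem _ ha
    · intro ha
      have h1 := hinv _ ha
      rw [inv_eq_self ht, show t * (t * a * t) * t = (t * t) * a * (t * t) by group, htt, one_mul, mul_one] at h1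
      rw [h1]
      exact Subgroup.inv_mem _ (by rwa [inv_eq_self ht] at ha)
  have htP : t ∉ (P : Subgroup G) := fun h => by
    have h2 := mem_centralizer_order hprime hs hu (hPC ▸ h) (Cfsg.Lib.Invol.ne_one ht)
    exact hs2 (h2.symm.trans ht)
  refine Subgroup.relIndex_eq_two_iff.2 ⟨t, htM, fun b hb => ?_⟩
  by_cases hbP : b ∈ (P : Subgroup G)
  · exact Or.inr ⟨hbP, fun h => htP (((P : Subgroup G).mul_mem_cancel_left hbP).1 h)⟩
  refine Or.inl ⟨?_, hbP⟩
  have hb1 : b ≠ 1 := fun h => hbP (h ▸ Subgroup.one_mem _)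
  have hw := hprime b hb1
  have hbc : ∀ a ∈ (P : Subgroup G), b * a * b⁻¹ ∈ (P : Subgroup G) := fun a ha =>
    (Subgroup.mem_normalizer_iff.1 hb a).1 ha
  by_cases hbs : orderOf b = s
  · refine absurd ?_ hbP
    have hp : IsPGroup s ↥(Subgroup.zpowers b) :=
      IsPGroup.of_card (n := 1) (by rw [Nat.card_zpowers, pow_one, hbs])
    have h := hp.inf_normalizer_sylow P
    have hmem : b ∈ Subgroup.zpowers b ⊓ Subgroup.normalizer ((P : Subgroup G) : Set G) :=
      ⟨Subgroup.mem_zpowers b, hb⟩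
    rw [Sylow.coe_coe] at hmem
    rw [h] at hmem
    exact hmem.2
  by_cases hb2 : orderOf b = 2
  · -- two involutions inverting `P`
    have h1 : b * u * b⁻¹ = u⁻¹ := by
      let φ : ↥(P : Subgroup G) →* ↥(P : Subgroup G) :=
        { toFun := fun w => ⟨b * (w : G) * b⁻¹, hbc w w.2⟩
          map_one' := Subtype.ext (by simp)
          map_mul' := fun a c => Subtype.ext (by simp [mul_assoc]) }
      have h2 : Function.Involutive φ := fun w => Subtype.ext (by
        show b * (b * (w : G) * b⁻¹) * b⁻¹ = w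
        rw [inv_eq_self hb2, show b * (b * (w : G) * b) * b = (b * b) * (w : G) * (b * b) by group,
          Cfsg.Lib.Invol.inv_mul_self hb2, one_mul, mul_one])
      have hfpf : MonoidHom.FixedPointFree φ := by
        intro w hw'
        have h3 : b * (w : G) * b⁻¹ = w := congrArg Subtype.val hw'
        exact Subtype.ext (fixed_eq_one hprime hs2 hb2 (mem_centralizer_order hprime hs hu (hPC ▸ w.2))
          (mul_inv_eq_iff_eq_mul.1 h3))
      exact congrArg Subtype.val (congrFun (MonoidHom.FixedPointFree.coe_eq_inv_of_involutive hfpf h2) ⟨u, huP⟩)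
    rw [hPC, Subgroup.mem_centralizer_singleton_iff]
    refine mul_inv_eq_iff_eq_mul.1 ?_
    rw [show b * t * u * (b * t)⁻¹ = b * (t * u * t⁻¹) * b⁻¹ by group, htu,
      show b * u⁻¹ * b⁻¹ = (b * u * b⁻¹)⁻¹ by group, h1, inv_inv]
  · exfalso
    set M := Subgroup.normalizer ((P : Subgroup G) : Set G) with hM
    have hc : t⁻¹ * b⁻¹ * t * b ∈ (P : Subgroup G) := by
      rw [hPC, Subgroup.mem_centralizer_singleton_iff]
      refine mul_inv_eq_iff_eq_mul.1 ?_
      have e1 : t * (b * u * b⁻¹) * t⁻¹ = (b * u * b⁻¹)⁻¹ := hinv _ (hbc u huP)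
      rw [show t⁻¹ * b⁻¹ * t * b * u * (t⁻¹ * b⁻¹ * t * b)⁻¹ =
        t⁻¹ * b⁻¹ * (t * (b * u * b⁻¹) * t⁻¹) * b * t by group, e1,
        show t⁻¹ * b⁻¹ * (b * u * b⁻¹)⁻¹ * b * t = t⁻¹ * u⁻¹ * t by group, ← htu]
      group
    let f := QuotientGroup.mk' ((P : Subgroup G).subgroupOf M)
    have hPn : ((P : Subgroup G).subgroupOf M).Normal := Subgroup.normal_in_normalizer
    have hf1 : ∀ a : ↥M, f a = 1 ↔ (a : G) ∈ (P : Subgroup G) := fun a => by
      rw [QuotientGroup.mk'_apply, QuotientGroup.eq_one_iff, Subgroup.mem_subgroupOf]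
    let tt : ↥M := ⟨t, htM⟩
    let bb : ↥M := ⟨b, hb⟩
    have hto : orderOf (f tt) = 2 := by
      have h1 : orderOf (f tt) ∣ 2 := by
        have := orderOf_map_dvd f tt
        rwa [Subgroup.orderOf_mk, ht] at this
      rcases (Nat.dvd_prime Nat.prime_two).1 h1 with h | h
      · exact absurd ((hf1 tt).1 (orderOf_eq_one_iff.1 h)) htP
      · exact h
    have hbo : orderOf (f bb) = orderOf b := by
      have h1 : orderOf (f bb) ∣ orderOf b := by
        have := orderOf_map_dvd f bb
        rwa [Subgroup.orderOf_mk] at this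
      rcases (Nat.dvd_prime hw).1 h1 with h | h
      · exact absurd ((hf1 bb).1 (orderOf_eq_one_iff.1 h)) hbP
      · exact h
    have hcomm : Commute (f tt) (f bb) := by
      have h := (hf1 (tt⁻¹ * bb⁻¹ * tt * bb)).2 hc
      rw [map_mul, map_mul, map_mul, map_inv, map_inv] at h
      show f tt * f bb = f bb * f tt
      rw [show f tt * f bb = f bb * f tt * ((f tt)⁻¹ * (f bb)⁻¹ * f tt * f bb) by group, h, mul_one]
    have hmul := hcomm.orderOf_mul_eq_mul_orderOf_of_coprime
      (by rw [hto, hbo]; exact (Nat.coprime_primes Nat.prime_two hw).2 (Ne.symm hb2))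
    have hd : 2 * orderOf b ∣ orderOf (t * b) := by
      have h := orderOf_map_dvd f (tt * bb)
      rw [map_mul, hmul, hto, hbo] at h
      have e : orderOf (tt * bb) = orderOf (t * b) := by
        rw [← Subgroup.orderOf_coe]; rfl
      rwa [e] at h
    by_cases htb : t * b = 1
    · rw [htb, orderOf_one] at hd
      have := Nat.le_of_dvd one_pos hd
      have := hw.two_le
      omega
    · have hp := hprime _ htb
      rcases (Nat.dvd_prime hp).1 hd with h | h
      · have := hw.two_le; omega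
      · exact Nat.not_prime_mul (by norm_num) hw.one_lt.ne' (h ▸ hp)

theorem card_order_mul (hprime : ∀ x : G, x ≠ 1 → (orderOf x).Prime)
    (horb : ∀ x y : G, orderOf x = orderOf y → ∃ φ : MulAut G, φ x = y) {s : ℕ} [Fact s.Prime] (hs2 : s ≠ 2)
    (hR : RealPrime G s) :
    Nat.card {u : G // orderOf u = s} * (2 * s ^ (Nat.card G).factorization s) =
      Nat.card G * (s ^ (Nat.card G).factorization s - 1) := by
  classical
  have hs : s.Prime := Fact.out
  have _ := Fintype.ofFinite G
  have mem_order : ∀ (P : Sylow s G) (x : ↥(P : Subgroup G)), x ≠ 1 → orderOf (x : G) = s := by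
    intro P x hx
    obtain ⟨j, hj⟩ := IsPGroup.iff_orderOf.1 P.isPGroup' x
    rw [← Subgroup.orderOf_coe] at hj
    have hp := hprime (x : G) (fun h => hx (Subtype.ext h))
    rw [hj] at hp ⊢
    rw [Nat.Prime.eq_one_of_pow hp, pow_one]
  let f : (Σ P : Sylow s G, {x : ↥(P : Subgroup G) // x ≠ 1}) → {u : G // orderOf u = s} :=
    fun p => ⟨(p.2.1 : G), mem_order p.1 p.2.1 p.2.2⟩
  have hf : Function.Bijective f := by
    constructor
    · rintro ⟨P, x⟩ ⟨P', x'⟩ h
      have h1 : (x.1 : G) = (x'.1 : G) := congrArg Subtype.val h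
      have hP : P = P' := Sylow.ext (by
        rw [sylow_eq_centralizer hprime horb hs2 hR (mem_order P x.1 x.2) P x.1.2,
          sylow_eq_centralizer hprime horb hs2 hR (mem_order P' x'.1 x'.2) P' x'.1.2, h1])
      subst hP
      exact Sigma.ext rfl (heq_of_eq (Subtype.ext (Subtype.ext h1)))
    · rintro ⟨u, hu⟩
      obtain ⟨P, hP⟩ := (IsPGroup.of_card (n := 1) (by rw [Nat.card_zpowers, pow_one, hu]) :
        IsPGroup s ↥(Subgroup.zpowers u)).exists_le_sylow
      exact ⟨⟨P, ⟨⟨u, hP (Subgroup.mem_zpowers u)⟩, fun h => hs.one_lt.ne' (by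
        have h2 : u = 1 := congrArg Subtype.val h
        rw [← hu, h2, orderOf_one])⟩⟩, rfl⟩
  have hcard : ∀ P : Sylow s G, Nat.card {x : ↥(P : Subgroup G) // x ≠ 1} =
      s ^ (Nat.card G).factorization s - 1 := by
    intro P
    rw [← P.card_eq_multiplicity, ← Nat.card_congr (Equiv.optionSubtypeNe (1 : ↥(P : Subgroup G))),
      Finite.card_option, Nat.add_sub_cancel]
  rw [← Nat.card_eq_of_bijective f hf, Nat.card_sigma, Finset.sum_congr rfl (fun P _ => hcard P),
    Finset.sum_const, smul_eq_mul, Finset.card_univ, ← Nat.card_eq_fintype_card]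
  let P : Sylow s G := default
  obtain ⟨t, v, ht, hv, he⟩ := hR
  obtain ⟨P, hP⟩ := (IsPGroup.of_card (n := 1) (by rw [Nat.card_zpowers, pow_one, hv]) :
    IsPGroup s ↥(Subgroup.zpowers v)).exists_le_sylow
  have h2 := relIndex_normalizer_eq_two hprime horb hs2 ⟨t, v, ht, hv, he⟩ P hv (hP (Subgroup.mem_zpowers v))
  have h3 : Nat.card ↥(Subgroup.normalizer ((P : Subgroup G) : Set G)) = 2 * s ^ (Nat.card G).factorization s := by
    have h4 : Nat.card ↥((P : Subgroup G).subgroupOf (Subgroup.normalizer ((P : Subgroup G) : Set G))) *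
        (P : Subgroup G).relIndex (Subgroup.normalizer ((P : Subgroup G) : Set G)) =
        Nat.card ↥(Subgroup.normalizer ((P : Subgroup G) : Set G)) := Subgroup.card_mul_index _
    rw [h2, Nat.card_congr (Subgroup.subgroupOfEquivOfLe Subgroup.le_normalizer).toEquiv,
      P.card_eq_multiplicity] at h4
    rw [← h4, mul_comm]
  have h5 : Nat.card (Sylow s G) * Nat.card ↥(Subgroup.normalizer ((P : Subgroup G) : Set G)) = Nat.card G := by
    rw [P.card_eq_index_normalizer, Sylow.coe_coe]; exact Subgroup.index_mul_card _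
  rw [h3] at h5
  generalize s ^ (Nat.card G).factorization s = F at h5 ⊢
  rw [← h5]; ring

theorem card_pairs_real (hprime : ∀ x : G, x ≠ 1 → (orderOf x).Prime)
    (horb : ∀ x y : G, orderOf x = orderOf y → ∃ φ : MulAut G, φ x = y) {s : ℕ} [Fact s.Prime] (hs2 : s ≠ 2)
    (hR : RealPrime G s) {u : G} (hu : orderOf u = s) :
    Nat.card {p : G × G // orderOf p.1 = 2 ∧ orderOf p.2 = 2 ∧ p.1 * p.2 = u} =
      s ^ (Nat.card G).factorization s := by
  have hs : s.Prime := Fact.out
  obtain ⟨t, ht, htu⟩ := real_transfer horb hR hu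
  obtain ⟨P, hP⟩ := (IsPGroup.of_card (n := 1) (by rw [Nat.card_zpowers, pow_one, hu]) :
    IsPGroup s ↥(Subgroup.zpowers u)).exists_le_sylow
  rw [← P.card_eq_multiplicity, sylow_eq_centralizer hprime horb hs2 hR hu P (hP (Subgroup.mem_zpowers u)),
    ← card_inverting_of_conj u t htu]
  have hu1 : u ≠ 1 := fun h => hs.one_lt.ne' (by rw [← hu, h, orderOf_one])
  have hu2 : ¬ u * u = 1 := fun h => hs2 (hu.symm.trans (orderOf_eq_two_of hu1 h))
  have key : ∀ g : G, g * u * g⁻¹ = u⁻¹ → orderOf g = 2 := by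
    intro g hg
    have hg1 : g ≠ 1 := fun h => hu2 (by
      rw [h, inv_one, one_mul, mul_one] at hg
      exact mul_eq_one_iff_eq_inv.2 hg)
    have hc : Commute u (g * g) := by
      show u * (g * g) = g * g * u
      have h1 : g * g * u * (g * g)⁻¹ = u := by
        rw [show g * g * u * (g * g)⁻¹ = g * (g * u * g⁻¹) * g⁻¹ by group, hg,
          show g * u⁻¹ * g⁻¹ = (g * u * g⁻¹)⁻¹ by group, hg, inv_inv]
      exact (mul_inv_eq_iff_eq_mul.1 h1).symm
    by_contra h2
    have hgo := hprime g hg1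
    have hodd : Odd (orderOf g) := hgo.odd_of_ne_two h2
    have hgg : Commute u g := by
      obtain ⟨m, hm⟩ := hodd
      have h3 : (g * g) ^ (m + 1) = g := by
        rw [← sq, ← pow_mul, show 2 * (m + 1) = orderOf g + 1 by omega, pow_succ, pow_orderOf_eq_one, one_mul]
      exact h3 ▸ hc.pow_right (m + 1)
    rw [show g * u * g⁻¹ = u by rw [← hgg.eq, mul_inv_cancel_right]] at hg
    exact hu2 (mul_eq_one_iff_eq_inv.2 hg)
  refine Nat.card_congr ⟨fun p => ⟨p.1.1, conj_product_eq_inv p.2.1 p.2.2.1 p.2.2.2⟩,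
    fun g => ⟨(g.1, g.1 * u), key g.1 g.2, ?_, by
      show g.1 * (g.1 * u) = u
      rw [← mul_assoc, Cfsg.Lib.Invol.inv_mul_self (key g.1 g.2), one_mul]⟩, ?_, fun g => rfl⟩
  · have h1 := key g.1 g.2
    refine orderOf_eq_two_of (fun h => ?_) ?_
    · have h3 := eq_inv_of_mul_eq_one_right h
      rw [inv_eq_self h1] at h3
      exact hs2 (hu.symm.trans (h3 ▸ h1))
    · show g.1 * u * (g.1 * u) = 1
      rw [show g.1 * u * (g.1 * u) = (g.1 * u * g.1⁻¹) * ((g.1 * g.1) * u) by group,
        g.2, Cfsg.Lib.Invol.inv_mul_self h1, one_mul, inv_mul_cancel]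
  · rintro ⟨⟨a, b⟩, ha, hb, hab⟩
    simp only [Subtype.mk.injEq, Prod.mk.injEq, true_and]
    rw [← hab, ← mul_assoc, Cfsg.Lib.Invol.inv_mul_self ha, one_mul]

theorem card_pairs_not_real {s : ℕ} (hR : ¬ RealPrime G s) {u : G} (hu : orderOf u = s) :
    Nat.card {p : G × G // orderOf p.1 = 2 ∧ orderOf p.2 = 2 ∧ p.1 * p.2 = u} = 0 := by
  have : IsEmpty {p : G × G // orderOf p.1 = 2 ∧ orderOf p.2 = 2 ∧ p.1 * p.2 = u} :=
    ⟨fun p => hR ⟨p.1.1, u, p.2.1, hu, conj_product_eq_inv p.2.1 p.2.2.1 p.2.2.2⟩⟩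
  exact Nat.card_of_isEmpty

theorem exists_not_commute (hns : ¬ Group.IsSolvable G)
    (hchar : ∀ K : Subgroup G, (∀ φ : MulAut G, ∀ x ∈ K, φ x ∈ K) → K = ⊥ ∨ K = ⊤) {t : G} (ht : orderOf t = 2) :
    ∃ v : G, orderOf v = 2 ∧ ¬ Commute v t := by
  by_contra hall
  push Not at hall
  set K := Subgroup.closure {v : G | orderOf v = 2} with hK
  have h1 : ∀ φ : MulAut G, ∀ x ∈ K, φ x ∈ K := by
    intro φ
    have : K ≤ K.comap φ.toMonoidHom := by
      rw [hK, Subgroup.closure_le]
      exact fun v hv => Subgroup.subset_closure (show orderOf (φ v) = 2 by rw [MulEquiv.orderOf_eq]; exact hv)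
    exact fun x hx => this hx
  rcases hchar K h1 with h | h
  · exact Cfsg.Lib.Invol.ne_one ht (Subgroup.mem_bot.1 (h ▸ Subgroup.subset_closure (show orderOf t = 2 from ht)))
  have htc : t ∈ Subgroup.center G := by
    rw [Subgroup.mem_center_iff]
    intro g
    have hle : K ≤ Subgroup.centralizer ({t} : Set G) := by
      rw [hK, Subgroup.closure_le]
      exact fun v hv => Subgroup.mem_centralizer_singleton_iff.2 (hall v hv).eq
    exact Subgroup.mem_centralizer_singleton_iff.1 (hle (h.symm ▸ Subgroup.mem_top g))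
  have h2 : ∀ φ : MulAut G, ∀ x ∈ Subgroup.center G, φ x ∈ Subgroup.center G := by
    intro φ x hx
    rw [Subgroup.mem_center_iff] at hx ⊢
    intro g
    obtain ⟨g', rfl⟩ := φ.surjective g
    rw [← map_mul, ← map_mul, hx g']
  rcases hchar _ h2 with h3 | h3
  · exact Cfsg.Lib.Invol.ne_one ht (Subgroup.mem_bot.1 (h3 ▸ htc))
  · refine hns (Group.isSolvable_of_comm fun a b => ?_)
    exact (Subgroup.mem_center_iff.1 (h3.symm ▸ Subgroup.mem_top b)) a

theorem isConj_involutions (hns : ¬ Group.IsSolvable G)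
    (hprime : ∀ x : G, x ≠ 1 → (orderOf x).Prime)
    (hchar : ∀ K : Subgroup G, (∀ φ : MulAut G, ∀ x ∈ K, φ x ∈ K) → K = ⊥ ∨ K = ⊤)
    {s t : G} (hs : orderOf s = 2) (ht : orderOf t = 2) : IsConj s t := by
  have key : ∀ {a b : G}, orderOf a = 2 → orderOf b = 2 → ¬ Commute a b → IsConj a b := by
    intro a b ha hb hab
    refine isConj_of_odd ha hb ?_
    have h1 : a * b ≠ 1 := fun h => hab (by
      rw [eq_inv_of_mul_eq_one_left h]
      exact (Commute.refl b).inv_left)
    refine (hprime _ h1).odd_of_ne_two fun h2 => hab ?_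
    have h3 : a * b * (a * b) = 1 := by rw [← sq, ← h2, pow_orderOf_eq_one]
    show a * b = b * a
    rw [eq_inv_of_mul_eq_one_left h3, mul_inv_rev, inv_eq_self ha, inv_eq_self hb]
  by_cases hst : Commute s t
  · obtain ⟨v, hv, hvt⟩ := exists_not_commute hns hchar ht
    refine (key hs hv fun hsv => hvt ?_).trans (key hv ht hvt)
    have := Fact.mk Nat.prime_two
    obtain ⟨T, hT⟩ := (isPGroup_centralizer hprime Nat.prime_two hs).exists_le_sylow
    have hvT : v ∈ (T : Subgroup G) := hT (Subgroup.mem_centralizer_singleton_iff.2 hsv.symm.eq)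
    have htT : t ∈ (T : Subgroup G) := hT (Subgroup.mem_centralizer_singleton_iff.2 hst.symm.eq)
    have h := exists_sylow_two_eq_centralizer hprime ht T htT
    exact Subgroup.mem_centralizer_singleton_iff.1 (h ▸ hvT)
  · exact key hs ht hst

theorem card_involutions_mul (hns : ¬ Group.IsSolvable G)
    (hprime : ∀ x : G, x ≠ 1 → (orderOf x).Prime)
    (hchar : ∀ K : Subgroup G, (∀ φ : MulAut G, ∀ x ∈ K, φ x ∈ K) → K = ⊥ ∨ K = ⊤)
    {t : G} (ht : orderOf t = 2) :
    Nat.card {x : G // orderOf x = 2} * Nat.card ↥(Subgroup.centralizer ({t} : Set G)) = Nat.card G := by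
  rw [← card_conj_mul_centralizer t]
  congr 1
  refine Nat.card_congr (Equiv.subtypeEquivRight fun x => ⟨fun hx => isConj_involutions hns hprime hchar ht hx, ?_⟩)
  intro hx
  obtain ⟨g, rfl⟩ := isConj_iff.1 hx
  rw [Cfsg.Lib.Invol.orderOf_conj_eq, ht]

theorem card_normalizer_two (hns : ¬ Group.IsSolvable G)
    (hprime : ∀ x : G, x ≠ 1 → (orderOf x).Prime)
    (hchar : ∀ K : Subgroup G, (∀ φ : MulAut G, ∀ x ∈ K, φ x ∈ K) → K = ⊥ ∨ K = ⊤)
    {t : G} (ht : orderOf t = 2) (T : Sylow 2 G) (htT : t ∈ (T : Subgroup G)) :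
    Nat.card ↥(Subgroup.normalizer ((T : Subgroup G) : Set G)) =
      Nat.card ↥(T : Subgroup G) * (Nat.card ↥(T : Subgroup G) - 1) := by
  classical
  have := Fact.mk Nat.prime_two
  set N := Subgroup.normalizer ((T : Subgroup G) : Set G) with hN
  have hTC := exists_sylow_two_eq_centralizer hprime ht T htT
  have hTN : (T : Subgroup G) ≤ N := Subgroup.le_normalizer
  let tN : ↥N := ⟨t, hTN htT⟩
  rw [← card_conj_mul_centralizer tN]
  have h1 : Nat.card ↥(Subgroup.centralizer ({tN} : Set ↥N)) = Nat.card ↥(T : Subgroup G) := by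
    rw [← Nat.card_congr (Subgroup.subgroupOfEquivOfLe hTN).toEquiv]
    have : Subgroup.centralizer ({tN} : Set ↥N) = (T : Subgroup G).subgroupOf N := by
      ext a
      rw [Subgroup.mem_centralizer_singleton_iff, Subgroup.mem_subgroupOf, hTC,
        Subgroup.mem_centralizer_singleton_iff, Subtype.ext_iff]
      rfl
    rw [this]
  have h2 : Nat.card {y : ↥N // IsConj tN y} = Nat.card ↥(T : Subgroup G) - 1 := by
    have e : Nat.card {y : ↥N // IsConj tN y} = Nat.card {y : ↥(T : Subgroup G) // y ≠ 1} := by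
      refine Nat.card_congr ⟨fun y => ⟨⟨(y.1 : G), ?_⟩, ?_⟩, fun y => ⟨⟨(y.1 : G), hTN y.1.2⟩, ?_⟩,
        fun y => rfl, fun y => rfl⟩
      · obtain ⟨g, hg⟩ := isConj_iff.1 y.2
        rw [← hg]
        exact (Subgroup.mem_normalizer_iff.1 g.2 t).1 htT
      · intro h
        have h3 : (y.1 : G) = 1 := congrArg Subtype.val h
        have h4 : tN = 1 := by
          have := y.2
          rw [show y.1 = 1 from Subtype.ext h3] at this
          exact isConj_one_left.1 this
        exact Cfsg.Lib.Invol.ne_one ht (congrArg Subtype.val h4)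
      · have hyG : (y.1 : G) ≠ 1 := fun h => y.2 (Subtype.ext h)
        have hy2 : orderOf (y.1 : G) = 2 := by
          have hh := mem_centralizer_order hprime Nat.prime_two ht (hTC ▸ y.1.2) hyG
          exact hh
        obtain ⟨g, hg⟩ := isConj_iff.1 (isConj_involutions hns hprime hchar ht hy2)
        have hgN : g ∈ N := by
          rw [hN, Subgroup.mem_normalizer_iff]
          have hTy := exists_sylow_two_eq_centralizer hprime hy2 T y.1.2
          intro a
          rw [show (a ∈ (T : Subgroup G)) ↔ a ∈ Subgroup.centralizer ({t} : Set G) from hTC ▸ Iff.rfl,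
            show (g * a * g⁻¹ ∈ (T : Subgroup G)) ↔ g * a * g⁻¹ ∈ Subgroup.centralizer ({(y.1 : G)} : Set G)
              from hTy ▸ Iff.rfl,
            Subgroup.mem_centralizer_singleton_iff, Subgroup.mem_centralizer_singleton_iff, ← hg]
          constructor
          · intro h
            rw [show g * a * g⁻¹ * (g * t * g⁻¹) = g * (a * t) * g⁻¹ by group, h]
            group
          · intro h
            have h' := congrArg (fun z => g⁻¹ * z * g) h
            simpa [mul_assoc] using h'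
        exact isConj_iff.2 ⟨⟨g, hgN⟩, Subtype.ext hg⟩
    rw [e, ← Nat.card_congr (Equiv.optionSubtypeNe (1 : ↥(T : Subgroup G))), Finite.card_option,
      Nat.add_sub_cancel]
  rw [h1, h2, mul_comm]

/-- the order of `N(T) / T` has at most one prime divisor -/
theorem not_two_primes (hprime : ∀ x : G, x ≠ 1 → (orderOf x).Prime) (T : Sylow 2 G)
    (hT1 : 1 < Nat.card ↥(T : Subgroup G)) {a b : ℕ} (ha : a.Prime) (hb : b.Prime) (hab : a ≠ b) (ha2 : a ≠ 2)
    (hb2 : b ≠ 2) (had : a ∣ Nat.card ↥(Subgroup.normalizer ((T : Subgroup G) : Set G)))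
    (hbd : b ∣ Nat.card ↥(Subgroup.normalizer ((T : Subgroup G) : Set G))) : False := by
  classical
  have := Fact.mk Nat.prime_two
  set N := Subgroup.normalizer ((T : Subgroup G) : Set G) with hN
  set TN := (T : Subgroup G).subgroupOf N with hTN
  have hTn : TN.Normal := Subgroup.normal_in_normalizer
  have := Fact.mk ha
  have := Fact.mk hb
  have hTcard : Nat.card ↥TN = 2 ^ (Nat.card G).factorization 2 := by
    rw [hTN, Nat.card_congr (Subgroup.subgroupOfEquivOfLe Subgroup.le_normalizer).toEquiv, T.card_eq_multiplicity]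
  have hdvdQ : ∀ c : ℕ, c.Prime → c ≠ 2 → c ∣ Nat.card ↥N → c ∣ Nat.card (↥N ⧸ TN) := by
    intro c hc hc2 hcd
    rw [← TN.card_mul_index] at hcd
    rcases hc.dvd_mul.1 hcd with h | h
    · rw [hTcard] at h
      exact absurd ((Nat.prime_dvd_prime_iff_eq hc Nat.prime_two).1 (hc.dvd_of_dvd_pow h)) hc2
    · exact h
  by_contra
  have hex : ¬ ∀ p q : ℕ, p.Prime → q.Prime → p ≠ q → ∀ A : Subgroup (↥N ⧸ TN), IsPGroup q ↥A → A ≠ ⊥ →
      ∀ c ∈ Subgroup.normalizer (A : Set (↥N ⧸ TN)), (∃ k, orderOf c = p ^ k) → c = 1 := fun hF =>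
    Cfsg.Agent.S3901.two_isolated_primes_false hF hab (hdvdQ a ha ha2 had) (hdvdQ b hb hb2 hbd)
  push Not at hex
  obtain ⟨p, q, hp, hq, hpq, A, hA, hA1, c, hcA, ⟨k, hck⟩, hc1⟩ := hex
  have := Fact.mk hp
  have := Fact.mk hq
  have hodd : ∀ w : ℕ, w.Prime → w ∣ Nat.card (↥N ⧸ TN) → w ≠ 2 := by
    rintro w hw hwd rfl
    exact T.not_dvd_index' Subgroup.index_ne_zero_of_finite (hwd.trans (by
      show TN.index ∣ _
      exact Subgroup.relIndex_dvd_index_of_le Subgroup.le_normalizer))
  have hq2 : q ≠ 2 := by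
    obtain ⟨j, hj⟩ := IsPGroup.iff_card.1 hA
    rcases j with _ | j
    · exact absurd (Subgroup.card_eq_one.1 (by simpa using hj)) hA1
    · exact hodd q hq ((dvd_pow_self q (by omega)).trans (hj ▸ A.card_subgroup_dvd_card))
  have hk : k ≠ 0 := by
    rintro rfl
    exact hc1 (orderOf_eq_one_iff.1 (by simpa using hck))
  have hp2 : p ≠ 2 := hodd p hp ((dvd_pow_self p hk).trans (hck ▸ orderOf_dvd_natCard c))
  let f := QuotientGroup.mk' TN
  have hf : Function.Surjective f := QuotientGroup.mk'_surjective TN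
  let X := (Subgroup.normalizer (A : Set (↥N ⧸ TN))).comap f
  let fX : ↥X →* ↥N ⧸ TN := f.comp X.subtype
  let MA : Subgroup ↥X := A.comap fX
  have : MA.Normal := ⟨fun m hm x => by
    show fX (x * m * x⁻¹) ∈ A
    rw [map_mul, map_mul, map_inv]
    exact (Subgroup.mem_normalizer_iff.1 x.2 (fX m)).1 hm⟩
  let S₀ : Sylow q ↥MA := default
  let g : ↥MA →* ↥A := (fX.comp MA.subtype).codRestrict A fun m => m.2
  have hg : Function.Surjective g := by
    rintro ⟨d, hd⟩
    obtain ⟨e, rfl⟩ := hf d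
    exact ⟨⟨⟨e, Subgroup.le_normalizer hd⟩, hd⟩, rfl⟩
  have hST : ((S₀.mapSurjective hg : Sylow q ↥A) : Subgroup ↥A) = ⊤ := by
    refine Subgroup.eq_top_of_card_eq _ ?_
    obtain ⟨n, hn⟩ := IsPGroup.iff_card.1 hA
    rw [Sylow.card_eq_multiplicity, hn, hq.factorization_pow]
    simp
  set S₁ := (S₀ : Subgroup ↥MA).map MA.subtype with hS₁
  obtain ⟨e, he⟩ := hf c
  have heX : e ∈ X := show f e ∈ _ from he ▸ hcA
  have hmem : (⟨e, heX⟩ : ↥X) ∈ ((Subgroup.normalizer (S₁ : Set ↥X) ⊔ MA : Subgroup ↥X) : Set ↥X) := by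
    rw [Sylow.normalizer_sup_eq_top S₀]; trivial
  rw [Subgroup.mul_normal _ MA, Set.mem_mul] at hmem
  obtain ⟨y, hy, m, hm, hym⟩ := hmem
  have hfy : fX y ∉ A := by
    intro hyA
    have hcmem : c ∈ A := by
      rw [← he, show f e = fX ⟨e, heX⟩ from rfl, ← hym, map_mul]
      exact A.mul_mem hyA hm
    obtain ⟨j, hj⟩ := IsPGroup.iff_orderOf.1 hA ⟨c, hcmem⟩
    rw [Subgroup.orderOf_mk, hck] at hj
    exact hpq ((Nat.prime_dvd_prime_iff_eq hp hq).1 (hp.dvd_of_dvd_pow (hj ▸ dvd_pow_self p hk)))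
  have hyG : ((y : ↥N) : G) ≠ 1 := fun h => hfy (by
    rw [show y = 1 from Subtype.ext (Subtype.ext h), map_one]; exact A.one_mem)
  have hy1 := hprime _ hyG
  have hyp : orderOf ((y : ↥N) : G) = p := by
    set w := orderOf ((y : ↥N) : G) with hw
    set B := Subgroup.normalizer (A : Set (↥N ⧸ TN))
    let bb : ↥B := ⟨c, hcA⟩
    let yy : ↥B := ⟨fX y, y.2⟩
    let π := QuotientGroup.mk' (A.subgroupOf B)
    have hπ : π yy = π bb := by
      rw [QuotientGroup.mk'_apply, QuotientGroup.mk'_apply, QuotientGroup.eq, Subgroup.mem_subgroupOf]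
      show (fX y)⁻¹ * c ∈ A
      rw [← he, show f e = fX ⟨e, heX⟩ from rfl, ← hym, map_mul, inv_mul_cancel_left]
      exact hm
    have hne : π yy ≠ 1 := by
      rw [Ne, QuotientGroup.mk'_apply, QuotientGroup.eq_one_iff, Subgroup.mem_subgroupOf]
      exact hfy
    have h1 : orderOf (π yy) ∣ w := by
      refine (orderOf_map_dvd π yy).trans ?_
      rw [show orderOf yy = orderOf (fX y) from Subgroup.orderOf_mk _ _]
      refine (orderOf_map_dvd fX y).trans ?_
      rw [← Subgroup.orderOf_coe, ← Subgroup.orderOf_coe]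
    have h2 : orderOf (π yy) ∣ p ^ k := by
      rw [hπ]
      refine (orderOf_map_dvd π bb).trans ?_
      rw [Subgroup.orderOf_mk, hck]
    rcases (Nat.dvd_prime hy1).1 h1 with h3 | h3
    · exact absurd (orderOf_eq_one_iff.1 h3) hne
    · rw [h3] at h2
      exact (Nat.prime_dvd_prime_iff_eq hy1 hp).1 (hy1.dvd_of_dvd_pow h2)
  set S : Subgroup ↥N := S₁.map X.subtype with hS
  have hSq : IsPGroup q ↥S := (S₀.isPGroup'.map _).map _
  have hSord : ∀ w ∈ S, (w : G) ≠ 1 → orderOf (w : G) = q := by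
    intro w hw hw1
    obtain ⟨j, hj⟩ := IsPGroup.iff_orderOf.1 hSq ⟨w, hw⟩
    rw [Subgroup.orderOf_mk, ← Subgroup.orderOf_coe] at hj
    have := hprime _ hw1
    rw [hj] at this ⊢
    rw [Nat.Prime.eq_one_of_pow this, pow_one]
  have hyS : ∀ w ∈ S, (y : ↥N) * w * (y : ↥N)⁻¹ ∈ S := by
    intro w hw
    have h := Subgroup.le_normalizer_map X.subtype (Subgroup.mem_map_of_mem X.subtype hy)
    exact (Subgroup.mem_normalizer_iff.1 h w).1 hw
  obtain ⟨d, hd, hd1⟩ : ∃ d, d ∈ A ∧ d ≠ 1 := by
    by_contra hh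
    push Not at hh
    exact hA1 (le_bot_iff.1 fun x hx => Subgroup.mem_bot.2 (hh x hx))
  obtain ⟨s, hs, hs1⟩ : ∃ s ∈ S, (s : G) ≠ 1 := by
    have : (⟨d, hd⟩ : ↥A) ∈ ((S₀.mapSurjective hg : Sylow q ↥A) : Subgroup ↥A) := by rw [hST]; trivial
    rw [Sylow.coe_mapSurjective, Subgroup.mem_map] at this
    obtain ⟨w, hw, hwd⟩ := this
    refine ⟨((w : ↥X) : ↥N), Subgroup.mem_map_of_mem _ (Subgroup.mem_map_of_mem _ hw), fun h1 => hd1 ?_⟩
    have e1 : fX (w : ↥X) = d := congrArg Subtype.val hwd
    rw [← e1, show (w : ↥X) = 1 from Subtype.ext (Subtype.ext h1), map_one]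
  have hfix : ∀ (w : ↥N) (v : ↥TN), (w : G) ≠ 1 → orderOf (w : G) ≠ 2 →
      MulAut.conjNormal w v = v → v = 1 := by
    intro w v hw1 hw2 hv
    have h1 : w * (v : ↥N) * w⁻¹ = v := by rw [← MulAut.conjNormal_apply, hv]
    by_contra hv1
    have hvG : ((v : ↥N) : G) ≠ 1 := fun h => hv1 (Subtype.ext (Subtype.ext h))
    refine hw2 ((orderOf_eq_of_commute hprime hw1 hvG ?_).symm.trans ?_)
    · exact congrArg Subtype.val (mul_inv_eq_iff_eq_mul.1 h1)
    · obtain ⟨j, hj⟩ := IsPGroup.iff_orderOf.1 T.isPGroup' ⟨((v : ↥N) : G), v.2⟩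
      rw [← Subgroup.orderOf_coe] at hj
      have := hprime _ hvG
      rw [hj] at this ⊢
      rw [Nat.Prime.eq_one_of_pow this, pow_one]
  have hTsq : ∀ v : ↥TN, v * v = 1 := by
    intro v
    by_cases hv1 : ((v : ↥N) : G) = 1
    · rw [show v = 1 from Subtype.ext (Subtype.ext hv1), one_mul]
    obtain ⟨j, hj⟩ := IsPGroup.iff_orderOf.1 T.isPGroup' ⟨((v : ↥N) : G), v.2⟩
    rw [← Subgroup.orderOf_coe] at hj
    have := hprime _ hv1
    rw [hj] at this
    rw [Nat.Prime.eq_one_of_pow this, pow_one] at hj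
    refine Subtype.ext (Subtype.ext ?_)
    show ((v : ↥N) : G) * ((v : ↥N) : G) = 1
    rw [← sq, ← hj, pow_orderOf_eq_one]
  let _ : CommGroup ↥TN := { (inferInstance : Group ↥TN) with
    mul_comm := fun u v => by
      have hinv : ∀ z : ↥TN, z⁻¹ = z := fun z => inv_eq_of_mul_eq_one_right (hTsq z)
      calc u * v = (u * v)⁻¹ := (hinv _).symm
        _ = v * u := by rw [mul_inv_rev, hinv, hinv] }
  have hall : ∀ v : ↥TN, v = 1 := by
    refine Cfsg.Agent.S3901.eq_one_of_frobenius (MulAut.conjNormal (H := TN)) (p := p) S (y : ↥N)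
      (by rw [← Subgroup.orderOf_coe]; exact hyp) hyS ?_ ⟨s, hs, fun v => hfix s v hs1 ?_⟩
      (fun v => hfix (y : ↥N) v hyG (by rw [hyp]; exact hp2)) ?_
    · intro w hw hc
      by_contra hw1
      have hwG : (w : G) ≠ 1 := fun h => hw1 (Subtype.ext h)
      exact hpq (hyp.symm.trans ((orderOf_eq_of_commute hprime hwG hyG (congrArg Subtype.val hc.eq)).trans
        (hSord w hw hwG)))
    · rw [hSord s hs hs1]; exact hq2
    · obtain ⟨j, hj⟩ := IsPGroup.iff_card.1 hSq
      rw [hTcard, hj]
      exact (((Nat.coprime_primes Nat.prime_two hq).2 (Ne.symm hq2)).pow_left _).pow_right j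
  have : Subsingleton ↥TN := ⟨fun u v => (hall u).trans (hall v).symm⟩
  rw [← Nat.card_congr (Subgroup.subgroupOfEquivOfLe
    (Subgroup.le_normalizer (H := (T : Subgroup G)))).toEquiv, ← hTN, Nat.card_of_subsingleton (1 : ↥TN)] at hT1
  omega

theorem counting (hns : ¬ Group.IsSolvable G)
    (hprime : ∀ x : G, x ≠ 1 → (orderOf x).Prime)
    (horb : ∀ x y : G, orderOf x = orderOf y → ∃ φ : MulAut G, φ x = y)
    (hchar : ∀ K : Subgroup G, (∀ φ : MulAut G, ∀ x ∈ K, φ x ∈ K) → K = ⊥ ∨ K = ⊤)
    {q r : ℕ} [Fact q.Prime] [Fact r.Prime] (hq2 : q ≠ 2) (hr2 : r ≠ 2) (hqr : q ≠ r)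
    (hord : ∀ x : G, x ≠ 1 → orderOf x = 2 ∨ orderOf x = q ∨ orderOf x = r)
    {t : G} (ht : orderOf t = 2) (cq cr : ℕ)
    (hcq : (RealPrime G q → cq = q ^ (Nat.card G).factorization q - 1) ∧ (¬ RealPrime G q → cq = 0))
    (hcr : (RealPrime G r → cr = r ^ (Nat.card G).factorization r - 1) ∧ (¬ RealPrime G r → cr = 0)) :
    2 * Nat.card G = 2 * (Nat.card ↥(Subgroup.centralizer ({t} : Set G)) *
        (Nat.card ↥(Subgroup.centralizer ({t} : Set G)) - 1)) +
      Nat.card ↥(Subgroup.centralizer ({t} : Set G)) * Nat.card ↥(Subgroup.centralizer ({t} : Set G)) * (cq + cr) := by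
  classical
  have _ := Fintype.ofFinite G
  have := Fact.mk Nat.prime_two
  set τ := Nat.card ↥(Subgroup.centralizer ({t} : Set G)) with hτ
  set I := Nat.card {x : G // orderOf x = 2} with hI
  have hIτ : I * τ = Nat.card G := card_involutions_mul hns hprime hchar ht
  let N : G → ℕ := fun x => Nat.card {p : G × G // orderOf p.1 = 2 ∧ orderOf p.2 = 2 ∧ p.1 * p.2 = x}
  have hsum : I * I = ∑ x : G, N x := by
    rw [hI, ← Nat.card_prod]
    rw [← Nat.card_sigma]
    exact Nat.card_congr
      { toFun := fun p => ⟨p.1.1 * p.2.1, ⟨(p.1.1, p.2.1), p.1.2, p.2.2, rfl⟩⟩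
        invFun := fun p => (⟨p.2.1.1, p.2.2.1⟩, ⟨p.2.1.2, p.2.2.2.1⟩)
        left_inv := fun p => rfl
        right_inv := by
          rintro ⟨x, ⟨a, b⟩, ha, hb, hab⟩
          subst hab
          rfl }
  have hτ2 : ∀ x : G, orderOf x = 2 → N x = τ - 2 := by
    intro x hx
    have h1 := card_pairs_involution hx
    have h2 : Nat.card ↥(Subgroup.centralizer ({x} : Set G)) = τ := by
      have h3 := card_involutions_mul hns hprime hchar hx
      rw [← hI, ← hIτ] at h3
      exact Nat.eq_of_mul_eq_mul_left (by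
        rw [hI]; exact Nat.card_pos_iff.2 ⟨⟨⟨x, hx⟩⟩, inferInstance⟩) h3
    obtain ⟨T, hT⟩ := (isPGroup_centralizer hprime Nat.prime_two hx).exists_le_sylow
    have hTC := exists_sylow_two_eq_centralizer hprime hx T (hT (Subgroup.mem_centralizer_singleton_iff.2 rfl))
    have h3 : Nat.card {y : G // orderOf y = 2 ∧ Commute y x} =
        Nat.card {y : ↥(Subgroup.centralizer ({x} : Set G)) // y ≠ 1} := by
      refine Nat.card_congr ⟨fun y => ⟨⟨y.1, Subgroup.mem_centralizer_singleton_iff.2 y.2.2.eq⟩,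
          fun h => Cfsg.Lib.Invol.ne_one y.2.1 (congrArg Subtype.val h)⟩,
        fun y => ⟨(y.1 : G), mem_centralizer_order hprime Nat.prime_two hx y.1.2 (fun h => y.2 (Subtype.ext h)),
          Subgroup.mem_centralizer_singleton_iff.1 y.1.2⟩, fun y => rfl, fun y => rfl⟩
    have h4 : Nat.card {y : ↥(Subgroup.centralizer ({x} : Set G)) // y ≠ 1} + 1 = τ := by
      rw [← h2, ← Nat.card_congr (Equiv.optionSubtypeNe (1 : ↥(Subgroup.centralizer ({x} : Set G)))),
        Finite.card_option]
    show Nat.card {p : G × G // orderOf p.1 = 2 ∧ orderOf p.2 = 2 ∧ p.1 * p.2 = x} = τ - 2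
    omega
  have h1N : N 1 = I := Nat.card_congr
    { toFun := fun p => ⟨p.1.1, p.2.1⟩
      invFun := fun x => ⟨(x.1, x.1), x.2, x.2, Cfsg.Lib.Invol.inv_mul_self x.2⟩
      left_inv := by
        rintro ⟨⟨a, b⟩, ha, hb, hab⟩
        simp only [Subtype.mk.injEq, Prod.mk.injEq, true_and]
        have hab' : a * b = 1 := hab
        have ha' : orderOf a = 2 := ha
        rw [eq_inv_of_mul_eq_one_right hab', inv_eq_self ha']
      right_inv := fun x => rfl }
  have key : ∀ (s : ℕ) [Fact s.Prime], s ≠ 2 → ∀ c : ℕ,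
      (RealPrime G s → c = s ^ (Nat.card G).factorization s - 1) ∧ (¬ RealPrime G s → c = 0) →
      2 * ∑ x ∈ Finset.univ.filter (fun x : G => orderOf x = s), N x = Nat.card G * c := by
    intro s _ hs2 c hc
    by_cases hR : RealPrime G s
    · rw [Finset.sum_congr rfl (fun x hx => card_pairs_real hprime horb hs2 hR (Finset.mem_filter.1 hx).2),
        Finset.sum_const, smul_eq_mul, hc.1 hR, ← card_order_mul hprime horb hs2 hR,
        show (Finset.univ.filter fun x : G => orderOf x = s).card = Nat.card {u : G // orderOf u = s} by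
          rw [Nat.card_eq_fintype_card, Fintype.card_subtype]]
      ring
    · rw [Finset.sum_eq_zero (fun x hx => card_pairs_not_real hR (Finset.mem_filter.1 hx).2), hc.2 hR]
      simp
  have hmaps : ∀ x ∈ (Finset.univ : Finset G), orderOf x ∈ ({1, 2, q, r} : Finset ℕ) := by
    intro x _
    by_cases hx : x = 1
    · simp [hx]
    · rcases hord x hx with h | h | h <;> simp [h]
  have hq : q.Prime := Fact.out
  have hr : r.Prime := Fact.out
  have hsplit := Finset.sum_fiberwise_of_maps_to hmaps N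
  rw [Finset.sum_insert (by simp [hq.one_lt.ne, hr.one_lt.ne]), Finset.sum_insert (by simp [hq2.symm, hr2.symm]),
    Finset.sum_pair hqr] at hsplit
  have e1 : ∑ x ∈ Finset.univ.filter (fun x : G => orderOf x = 1), N x = I := by
    rw [show Finset.univ.filter (fun x : G => orderOf x = 1) = {1} by ext x; simp [orderOf_eq_one_iff]]
    simpa using h1N
  have e2 : ∑ x ∈ Finset.univ.filter (fun x : G => orderOf x = 2), N x = I * (τ - 2) := by
    rw [Finset.sum_congr rfl (fun x hx => hτ2 x (Finset.mem_filter.1 hx).2), Finset.sum_const, smul_eq_mul, hI,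
      Nat.card_eq_fintype_card, Fintype.card_subtype]
  have eq' := key q hq2 cq hcq
  have er' := key r hr2 cr hcr
  rw [e1, e2, ← hsum] at hsplit
  have hτpos : 2 ≤ τ := by
    have h3 : 1 < τ := Finite.one_lt_card_iff_nontrivial.2
      ⟨⟨⟨t, Subgroup.mem_centralizer_singleton_iff.2 rfl⟩, 1,
        fun h => Cfsg.Lib.Invol.ne_one ht (congrArg Subtype.val h)⟩⟩
    omega
  have hIpos : 0 < I := by rw [hI]; exact Nat.card_pos_iff.2 ⟨⟨⟨t, ht⟩⟩, inferInstance⟩
  obtain ⟨w, hw⟩ : ∃ w, τ = w + 2 := ⟨τ - 2, by omega⟩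
  have hmain : I * (2 * I) = I * (2 * (τ - 1) + τ * (cq + cr)) := by
    rw [← hIτ] at eq' er'
    simp only [hw, show w + 2 - 1 = w + 1 by omega, show w + 2 - 2 = w by omega] at hsplit eq' er' ⊢
    linear_combination (-2 : ℤ) * 0 + (2 : ℕ) * hsplit.symm + eq' + er'
  have h5 := Nat.eq_of_mul_eq_mul_left hIpos hmain
  calc 2 * Nat.card G = (2 * I) * τ := by rw [← hIτ]; ring
    _ = _ := by rw [h5]; ring

theorem card_504_false (hprime : ∀ x : G, x ≠ 1 → (orderOf x).Prime)
    (horb : ∀ x y : G, orderOf x = orderOf y → ∃ φ : MulAut G, φ x = y)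
    [Fact (Nat.Prime 7)] [Fact (Nat.Prime 3)] (hR7 : RealPrime G 7) (hR3 : RealPrime G 3)
    (hG : Nat.card G = 504) (T : Sylow 2 G) (hT : Nat.card ↥(T : Subgroup G) = 8)
    (hN : Nat.card ↥(Subgroup.normalizer ((T : Subgroup G) : Set G)) = 56) : False := by
  classical
  have := Fact.mk Nat.prime_two
  have _ := Fintype.ofFinite G
  let _ := Fintype.ofFinite (Sylow 2 G)
  have hf3 : (504 : ℕ).factorization 3 = 2 :=
    factorization_eq_of_mul (m := 56) (by norm_num) (by norm_num) (by norm_num)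
  have hf7 : (504 : ℕ).factorization 7 = 1 :=
    factorization_eq_of_mul (m := 72) (by norm_num) (by norm_num) (by norm_num)
  have hA3 : Nat.card {u : G // orderOf u = 3} = 224 := by
    have := card_order_mul hprime horb (s := 3) (by norm_num) hR3
    rw [hG, hf3] at this
    omega
  have hA7 : Nat.card {u : G // orderOf u = 7} = 216 := by
    have := card_order_mul hprime horb (s := 7) (by norm_num) hR7
    rw [hG, hf7] at this
    omega
  have hNall : ∀ P : Sylow 2 G, Nat.card ↥(Subgroup.normalizer ((P : Subgroup G) : Set G)) = 56 := by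
    intro P
    have h1 : Nat.card (Sylow 2 G) * Nat.card ↥(Subgroup.normalizer ((T : Subgroup G) : Set G)) = Nat.card G := by
      rw [T.card_eq_index_normalizer, Sylow.coe_coe]; exact Subgroup.index_mul_card _
    have h2 : Nat.card (Sylow 2 G) * Nat.card ↥(Subgroup.normalizer ((P : Subgroup G) : Set G)) = Nat.card G := by
      rw [P.card_eq_index_normalizer, Sylow.coe_coe]; exact Subgroup.index_mul_card _
    rw [hN, hG] at h1
    rw [hG] at h2
    have h3 : Nat.card (Sylow 2 G) = 9 := by omega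
    rw [h3] at h2
    omega
  have hX : Fintype.card (Sylow 2 G) = 9 := by
    have h1 : Nat.card (Sylow 2 G) * Nat.card ↥(Subgroup.normalizer ((T : Subgroup G) : Set G)) = Nat.card G := by
      rw [T.card_eq_index_normalizer, Sylow.coe_coe]; exact Subgroup.index_mul_card _
    rw [hN, hG] at h1
    rw [← Nat.card_eq_fintype_card]
    omega
  have hord56 : ∀ (P : Sylow 2 G) (x : G), x • P = P → x ≠ 1 →
      orderOf x = 7 ∨ (x ∈ (P : Subgroup G) ∧ orderOf x = 2) := by
    intro P x hx hx1
    have hmem : x ∈ Subgroup.normalizer ((P : Subgroup G) : Set G) := Sylow.smul_eq_iff_mem_normalizer.1 hx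
    have hd : orderOf x ∣ 56 := by
      rw [← hNall P, ← Subgroup.orderOf_mk x hmem]; exact orderOf_dvd_natCard _
    have hp := hprime x hx1
    have hle : orderOf x ≤ 56 := Nat.le_of_dvd (by norm_num) hd
    by_cases h2 : orderOf x = 2
    · refine Or.inr ⟨?_, h2⟩
      have hp2 : IsPGroup 2 ↥(Subgroup.zpowers x) :=
        IsPGroup.of_card (n := 1) (by rw [Nat.card_zpowers, pow_one, h2])
      have h := hp2.inf_normalizer_sylow P
      have hm : x ∈ Subgroup.zpowers x ⊓ Subgroup.normalizer ((P : Subgroup G) : Set G) :=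
        ⟨Subgroup.mem_zpowers x, hmem⟩
      rw [Sylow.coe_coe] at hm
      rw [h] at hm
      exact hm.2
    · left
      rw [show (56 : ℕ) = 2 ^ 3 * 7 by norm_num] at hd
      rcases hp.dvd_mul.1 hd with h | h
      · exact absurd ((Nat.prime_dvd_prime_iff_eq hp Nat.prime_two).1 (hp.dvd_of_dvd_pow h)) h2
      · exact (Nat.prime_dvd_prime_iff_eq hp Fact.out).1 h
  have hu3 : ∀ u : G, orderOf u = 3 → ∀ P : Sylow 2 G, u • P ≠ P := by
    intro u hu P h
    rcases hord56 P u h (fun h1 => by rw [h1, orderOf_one] at hu; omega) with h' | ⟨-, h'⟩ <;> omega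
  -- an element of order 7 fixes at most two Sylow 2-subgroups
  have h7 : ∀ x : G, orderOf x = 7 → (Finset.univ.filter fun P : Sylow 2 G => x • P = P).card ≤ 2 := by
    intro x hx
    by_contra hgt
    push Not at hgt
    have hconst : ∀ y : G, orderOf y = 7 → 3 ≤ (Finset.univ.filter fun P : Sylow 2 G => y • P = P).card := by
      intro y hy
      obtain ⟨φ, rfl⟩ := horb x y (hx.trans hy.symm)
      refine le_trans (show 3 ≤ _ from hgt) ?_
      refine Finset.card_le_card_of_injOn (fun P => P.mapSurjective (f := φ.toMonoidHom) φ.surjective) ?_ ?_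
      · intro P hP
        simp only [Finset.coe_filter, Finset.mem_univ, true_and, Set.mem_setOf_eq] at hP ⊢
        rw [Sylow.smul_eq_iff_mem_normalizer] at hP ⊢
        exact Subgroup.le_normalizer_map (H := (P : Subgroup G)) φ.toMonoidHom
          (Subgroup.mem_map_of_mem φ.toMonoidHom hP)
      · intro P _ P' _ h
        have h2 := congrArg (fun Q : Sylow 2 G => (Q : Subgroup G)) h
        simp only [Sylow.coe_mapSurjective] at h2
        exact Sylow.ext (Subgroup.map_injective φ.injective h2)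
    have hsum := Finset.sum_card_bipartiteAbove_eq_sum_card_bipartiteBelow
      (s := Finset.univ.filter fun y : G => orderOf y = 7) (t := (Finset.univ : Finset (Sylow 2 G)))
      (fun (y : G) (P : Sylow 2 G) => y • P = P)
    have hl : 216 * 3 ≤ ∑ y ∈ Finset.univ.filter (fun y : G => orderOf y = 7),
        (Finset.univ.filter fun P : Sylow 2 G => y • P = P).card := by
      refine le_trans (le_of_eq ?_) (Finset.card_nsmul_le_sum _ _ 3 fun y hy => hconst y (Finset.mem_filter.1 hy).2)
      rw [smul_eq_mul, ← Fintype.card_subtype, ← Nat.card_eq_fintype_card, hA7]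
    have hr : ∀ P : Sylow 2 G,
        ((Finset.univ.filter fun y : G => orderOf y = 7).filter fun y => y • P = P).card ≤ 48 := by
      intro P
      have h1 : (Finset.univ.filter fun y : G => y • P = P).card = 56 := by
        rw [← hNall P, Nat.card_eq_fintype_card, ← Fintype.card_subtype]
        exact Fintype.card_congr (Equiv.subtypeEquivRight fun y => Sylow.smul_eq_iff_mem_normalizer)
      have h2 : (Finset.univ.filter fun y : G => y ∈ (P : Subgroup G)).card = 8 := by
        rw [← Fintype.card_subtype, ← Nat.card_eq_fintype_card, P.card_eq_multiplicity, ← T.card_eq_multiplicity, hT]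
      have hsub : ((Finset.univ.filter fun y : G => orderOf y = 7).filter fun y => y • P = P) ⊆
          (Finset.univ.filter fun y : G => y • P = P) \ (Finset.univ.filter fun y : G => y ∈ (P : Subgroup G)) := by
        intro y hy
        simp only [Finset.mem_filter, Finset.mem_univ, true_and, Finset.mem_sdiff] at hy ⊢
        refine ⟨hy.2, fun hyP => ?_⟩
        obtain ⟨j, hj⟩ := IsPGroup.iff_orderOf.1 P.isPGroup' ⟨y, hyP⟩
        rw [Subgroup.orderOf_mk, hy.1] at hj
        have := (Nat.prime_dvd_prime_iff_eq (Fact.out : Nat.Prime 7) Nat.prime_two).1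
          ((Fact.out : Nat.Prime 7).dvd_of_dvd_pow (dvd_of_eq hj))
        omega
      refine (Finset.card_le_card hsub).trans ?_
      rw [Finset.card_sdiff_of_subset ?_, h1, h2]
      intro y hy
      simp only [Finset.mem_filter, Finset.mem_univ, true_and] at hy ⊢
      exact Sylow.smul_eq_iff_mem_normalizer.2 (Subgroup.le_normalizer hy)
    simp only [Finset.bipartiteAbove, Finset.bipartiteBelow] at hsum
    rw [hsum] at hl
    have := hl.trans (Finset.sum_le_sum fun P _ => hr P)
    rw [Finset.sum_const, Finset.card_univ, hX] at this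
    simp at this
  -- elements of order 3 give injective triples
  let g : {u : G // orderOf u = 3} × Sylow 2 G → (Fin 3 ↪ Sylow 2 G) := fun p =>
    ⟨![p.2, p.1.1 • p.2, p.1.1 • p.1.1 • p.2], by
      have h1 : p.1.1 • p.2 ≠ p.2 := hu3 _ p.1.2 _
      have h2 : p.1.1 • p.1.1 • p.2 ≠ p.1.1 • p.2 := hu3 _ p.1.2 _
      have h3 : p.1.1 • p.1.1 • p.2 ≠ p.2 := fun h => by
        apply h1
        have h4 : p.1.1 • p.1.1 • p.1.1 • p.2 = p.1.1 • p.2 := by rw [h]
        rw [smul_smul, smul_smul,
          show p.1.1 * p.1.1 * p.1.1 = p.1.1 ^ orderOf p.1.1 by rw [p.1.2]; simp [pow_succ],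
          pow_orderOf_eq_one, one_smul] at h4
        exact h4.symm
      intro i j hij
      fin_cases i <;> fin_cases j <;>
        first
        | rfl
        | (simp at hij; first | exact absurd hij h1 | exact absurd hij.symm h1 | exact absurd hij h2 |
            exact absurd hij.symm h2 | exact absurd hij h3 | exact absurd hij.symm h3)⟩
  have hg : Function.Injective g := by
    rintro ⟨⟨u, hu⟩, a⟩ ⟨⟨v, hv⟩, b⟩ h
    have e0 : a = b := congrFun (congrArg DFunLike.coe h) 0
    subst e0
    have e1 : u • a = v • a := congrFun (congrArg DFunLike.coe h) 1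
    have e2 : u • u • a = v • v • a := congrFun (congrArg DFunLike.coe h) 2
    have e3 : ∀ w : G, orderOf w = 3 → w • w • w • a = a := by
      intro w hw
      rw [smul_smul, smul_smul, show w * w * w = w ^ orderOf w by rw [hw]; simp [pow_succ],
        pow_orderOf_eq_one, one_smul]
    by_contra hne
    set x := u⁻¹ * v with hx
    have hx1 : x ≠ 1 := fun h1 => hne (by
      have : u = v := inv_mul_eq_one.1 h1
      subst this
      rfl)
    have ha : x • a = a := by rw [hx, mul_smul, ← e1, inv_smul_smul]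
    have hb : x • (u • a) = u • a := by
      rw [hx, mul_smul, e1, ← e2, inv_smul_smul]
      exact e1
    have hc : x • (u • u • a) = u • u • a := by
      rw [hx, mul_smul, e2, e3 v hv, eq_comm, eq_inv_smul_iff, ← e2, e3 u hu]
    have hxo : orderOf x = 7 := by
      rcases hord56 a x ha hx1 with h' | ⟨hxa, h'⟩
      · exact h'
      · rcases hord56 (u • a) x hb hx1 with h'' | ⟨hxb, -⟩
        · exact h''
        · exfalso
          apply hu3 u hu a
          exact Sylow.ext ((exists_sylow_two_eq_centralizer hprime h' (u • a) hxb).trans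
            (exists_sylow_two_eq_centralizer hprime h' a hxa).symm)
    have h1 : u • a ≠ a := hu3 u hu a
    have h2 : u • u • a ≠ u • a := hu3 u hu _
    have h3 : u • u • a ≠ a := fun h' => h1 (by
      have := e3 u hu
      rwa [h'] at this)
    have hsub : ({a, u • a, u • u • a} : Finset (Sylow 2 G)) ⊆
        Finset.univ.filter fun P : Sylow 2 G => x • P = P := by
      intro P hP
      simp only [Finset.mem_insert, Finset.mem_singleton] at hP
      rcases hP with rfl | rfl | rfl <;> simp [ha, hb, hc]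
    have h4 := (Finset.card_le_card hsub).trans (h7 x hxo)
    rw [Finset.card_eq_three.2 ⟨a, u • a, u • u • a, h1.symm, h3.symm, h2.symm, rfl⟩] at h4
    omega
  have hle := Fintype.card_le_of_injective g hg
  rw [Fintype.card_prod, Fintype.card_embedding_eq, hX, Fintype.card_fin, ← Nat.card_eq_fintype_card, hA3] at hle
  norm_num [Nat.descFactorial] at hle

theorem exists_realPrime (hns : ¬ Group.IsSolvable G)
    (hprime : ∀ x : G, x ≠ 1 → (orderOf x).Prime)
    (hchar : ∀ K : Subgroup G, (∀ φ : MulAut G, ∀ x ∈ K, φ x ∈ K) → K = ⊥ ∨ K = ⊤)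
    {q r : ℕ} (hord : ∀ x : G, x ≠ 1 → orderOf x = 2 ∨ orderOf x = q ∨ orderOf x = r)
    {t : G} (ht : orderOf t = 2) : RealPrime G q ∨ RealPrime G r := by
  obtain ⟨v, hv, hvt⟩ := exists_not_commute hns hchar ht
  have h1 : v * t ≠ 1 := fun h => hvt (by
    rw [eq_inv_of_mul_eq_one_left h]
    exact (Commute.refl t).inv_left)
  have hinv := conj_product_eq_inv hv ht (x := v * t) rfl
  rcases hord _ h1 with h | h | h
  · exfalso
    apply hvt
    have h3 : v * t * (v * t) = 1 := by rw [← sq, ← h, pow_orderOf_eq_one]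
    show v * t = t * v
    rw [eq_inv_of_mul_eq_one_left h3, mul_inv_rev, inv_eq_self hv, inv_eq_self ht]
  · exact Or.inl ⟨v, v * t, hv, h, hinv⟩
  · exact Or.inr ⟨v, v * t, hv, h, hinv⟩

theorem isSimple_of_sixty (hns : ¬ Group.IsSolvable G)
    (hprime : ∀ x : G, x ≠ 1 → (orderOf x).Prime)
    (horb : ∀ x y : G, orderOf x = orderOf y → ∃ φ : MulAut G, φ x = y)
    (hchar : ∀ K : Subgroup G, (∀ φ : MulAut G, ∀ x ∈ K, φ x ∈ K) → K = ⊥ ∨ K = ⊤)
    (hG : Nat.card G = 60) : IsSimpleGroup G := by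
  have hnt : Nontrivial G := Finite.one_lt_card_iff_nontrivial.1 (by omega)
  refine ⟨fun K hK => or_iff_not_imp_left.2 fun hK1 => ?_⟩
  obtain ⟨u, huK, hu1⟩ := (Subgroup.ne_bot_iff_exists_ne_one.1 hK1).elim
    fun x hx => (⟨x.1, x.2, fun e => hx (Subtype.ext e)⟩ : ∃ u, u ∈ K ∧ u ≠ 1)
  have hs := hprime u hu1
  -- all elements of the order of `u` lie in `K`
  suffices hall : ∀ w : G, orderOf w = orderOf u → w ∈ K by
    set L := Subgroup.closure {w : G | orderOf w = orderOf u} with hL
    have h1 : ∀ φ : MulAut G, ∀ x ∈ L, φ x ∈ L := by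
      intro φ
      have : L ≤ L.comap φ.toMonoidHom := by
        rw [hL, Subgroup.closure_le]
        exact fun v hv => Subgroup.subset_closure
          (show orderOf (φ v) = orderOf u by rw [MulEquiv.orderOf_eq]; exact hv)
      exact fun x hx => this hx
    rcases hchar L h1 with h | h
    · exact absurd (Subgroup.mem_bot.1 (h ▸ Subgroup.subset_closure (show orderOf u = orderOf u from rfl))) hu1
    · refine top_le_iff.1 (h ▸ ?_)
      rw [hL, Subgroup.closure_le]
      exact hall
  intro w hw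
  by_cases h2 : orderOf u = 2
  · obtain ⟨g, rfl⟩ := isConj_iff.1 (isConj_involutions hns hprime hchar h2 (hw.trans h2))
    exact hK.conj_mem u huK g
  have := Fact.mk hs
  have hsd : orderOf u ∣ 60 := hG ▸ orderOf_dvd_natCard u
  have hmult : (Nat.card G).factorization (orderOf u) = 1 := by
    rw [hG]
    rw [show (60 : ℕ) = 2 ^ 2 * (3 * 5) by norm_num] at hsd
    rcases hs.dvd_mul.1 hsd with hd | hd
    · exact absurd ((Nat.prime_dvd_prime_iff_eq hs Nat.prime_two).1 (hs.dvd_of_dvd_pow hd)) h2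
    · rcases hs.dvd_mul.1 hd with hd | hd
      · rw [(Nat.prime_dvd_prime_iff_eq hs Nat.prime_three).1 hd]
        exact factorization_eq_of_mul (m := 20) (by norm_num) (by norm_num) (by norm_num)
      · rw [(Nat.prime_dvd_prime_iff_eq hs (by norm_num : Nat.Prime 5)).1 hd]
        exact factorization_eq_of_mul (m := 12) (by norm_num) (by norm_num) (by norm_num)
  obtain ⟨P, hP⟩ := (IsPGroup.of_card (n := 1) (by rw [Nat.card_zpowers, pow_one]) :
    IsPGroup (orderOf u) ↥(Subgroup.zpowers u)).exists_le_sylow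
  obtain ⟨P', hP'⟩ := (IsPGroup.of_card (n := 1) (by rw [Nat.card_zpowers, pow_one, hw]) :
    IsPGroup (orderOf u) ↥(Subgroup.zpowers w)).exists_le_sylow
  have heq : Subgroup.zpowers u = (P : Subgroup G) :=
    Subgroup.eq_of_le_of_card_ge hP (by rw [P.card_eq_multiplicity, hmult, Nat.card_zpowers, pow_one])
  have hPK : (P : Subgroup G) ≤ K := heq ▸ Subgroup.zpowers_le.2 huK
  obtain ⟨g, rfl⟩ := MulAction.exists_smul_eq G P P'
  have h1 := hP' (Subgroup.mem_zpowers w)
  rw [Sylow.coe_subgroup_smul, Subgroup.mem_pointwise_smul_iff_inv_smul_mem] at h1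
  have h3 := hK.conj_mem _ (hPK h1) g
  simpa [mul_assoc] using h3

theorem main_even (hns : ¬ Group.IsSolvable G)
    (hprime : ∀ x : G, x ≠ 1 → (orderOf x).Prime)
    (horb : ∀ x y : G, orderOf x = orderOf y → ∃ φ : MulAut G, φ x = y)
    (hchar : ∀ K : Subgroup G, (∀ φ : MulAut G, ∀ x ∈ K, φ x ∈ K) → K = ⊥ ∨ K = ⊤)
    {q r : ℕ} [Fact q.Prime] [Fact r.Prime] (hq2 : q ≠ 2) (hr2 : r ≠ 2) (hqr : q ≠ r)
    (hord : ∀ x : G, x ≠ 1 → orderOf x = 2 ∨ orderOf x = q ∨ orderOf x = r)
    (h2d : 2 ∣ Nat.card G) (hqd : q ∣ Nat.card G) (hrd : r ∣ Nat.card G)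
    (hpf : (Nat.card G).primeFactors = {2, q, r}) : Nonempty (G ≃* alternatingGroup (Fin 5)) := by
  classical
  have := Fact.mk Nat.prime_two
  have hq : q.Prime := Fact.out
  have hr : r.Prime := Fact.out
  obtain ⟨t, ht⟩ := exists_prime_orderOf_dvd_card' 2 h2d
  obtain ⟨T, hT⟩ := (IsPGroup.of_card (n := 1) (by rw [Nat.card_zpowers, pow_one, ht]) :
    IsPGroup 2 ↥(Subgroup.zpowers t)).exists_le_sylow
  have hTC := exists_sylow_two_eq_centralizer hprime ht T (hT (Subgroup.mem_zpowers t))
  set τ := Nat.card ↥(T : Subgroup G) with hτ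
  set Q := q ^ (Nat.card G).factorization q with hQ
  set R := r ^ (Nat.card G).factorization r with hR
  have hτe : τ = 2 ^ (Nat.card G).factorization 2 := T.card_eq_multiplicity
  have hcard : Nat.card G = τ * (Q * R) := by
    conv_lhs => rw [← Nat.prod_factorization_pow_eq_self (Nat.card_pos (α := G)).ne']
    rw [Finsupp.prod, Nat.support_factorization, hpf, hτe, hQ, hR, Finset.prod_insert, Finset.prod_pair hqr]
    simp [hq2.symm, hr2.symm]
  have hfq := hq.factorization_pos_of_dvd Nat.card_pos.ne' hqd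
  have hfr := hr.factorization_pos_of_dvd Nat.card_pos.ne' hrd
  have hQ3 : 3 ≤ Q := le_trans (show 3 ≤ q by have := hq.two_le; omega) (Nat.le_self_pow hfq.ne' q)
  have hR3 : 3 ≤ R := le_trans (show 3 ≤ r by have := hr.two_le; omega) (Nat.le_self_pow hfr.ne' r)
  have hQo : Odd Q := (hq.odd_of_ne_two hq2).pow
  have hRo : Odd R := (hr.odd_of_ne_two hr2).pow
  have hf2 := Nat.prime_two.factorization_pos_of_dvd Nat.card_pos.ne' h2d
  have hτ2 : 2 ≤ τ := hτe ▸ Nat.le_self_pow hf2.ne' 2
  set h := τ - 1 with hh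
  have hho : Odd h := by
    have : Even τ := hτe ▸ (Nat.even_pow.2 ⟨even_two, hf2.ne'⟩)
    rw [hh]; exact Nat.Even.sub_odd (by omega) this odd_one
  have hN := card_normalizer_two hns hprime hchar ht T (hT (Subgroup.mem_zpowers t))
  rw [← hτ, ← hh] at hN
  have hdvd : h ∣ Q * R := by
    have h1 := Subgroup.card_subgroup_dvd_card (Subgroup.normalizer ((T : Subgroup G) : Set G))
    rw [hN, hcard] at h1
    exact Nat.dvd_of_mul_dvd_mul_left (by omega) h1
  have count : ∀ cq cr : ℕ,
      (RealPrime G q → cq = Q - 1) ∧ (¬ RealPrime G q → cq = 0) →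
      (RealPrime G r → cr = R - 1) ∧ (¬ RealPrime G r → cr = 0) →
      2 * (Q * R) = 2 * h + τ * (cq + cr) := by
    intro cq cr h1 h2
    have h3 := counting hns hprime horb hchar hq2 hr2 hqr hord ht cq cr h1 h2
    rw [← hTC, ← hτ, ← hh, hcard] at h3
    refine Nat.eq_of_mul_eq_mul_left (show 0 < τ by omega) ?_
    linear_combination h3
  have hτ4 : h ≠ 1 := by
    intro h1
    rw [h1, mul_one] at hN
    -- an involution centralising its own normaliser: Burnside transfer
    have hNT : Subgroup.normalizer ((T : Subgroup G) : Set G) ≤ Subgroup.centralizer ((T : Subgroup G) : Set G) := by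
      have hTN : Subgroup.normalizer ((T : Subgroup G) : Set G) = (T : Subgroup G) :=
        (Subgroup.eq_of_le_of_card_ge Subgroup.le_normalizer (by rw [hN])).symm
      rw [hTN]
      intro a ha
      rw [Subgroup.mem_centralizer_iff]
      intro b hb
      by_cases hb1 : b = 1
      · simp [hb1]
      have hb2 := mem_centralizer_order hprime Nat.prime_two ht (hTC ▸ hb) hb1
      exact (Subgroup.mem_centralizer_singleton_iff.1
        ((exists_sylow_two_eq_centralizer hprime hb2 T hb) ▸ ha)).symm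
    have hc := MonoidHom.ker_transferSylow_isComplement' T hNT
    have hK := hc.index_eq_card
    have hKc : Nat.card ↥(MonoidHom.transferSylow T hNT).ker = Q * R := by
      have h5 := (T : Subgroup G).card_mul_index
      rw [hK, ← hτ, hcard] at h5
      exact Nat.eq_of_mul_eq_mul_left (by omega) h5
    have hmap : ∀ φ : MulAut G, ∀ x ∈ (MonoidHom.transferSylow T hNT).ker,
        φ x ∈ (MonoidHom.transferSylow T hNT).ker := by
      intro φ x hx
      -- `K` consists of the elements of odd order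
      set K := (MonoidHom.transferSylow T hNT).ker with hKdef
      have hodd : Odd (orderOf (φ x)) := by
        rw [MulEquiv.orderOf_eq]
        exact (hQo.mul hRo).of_dvd_nat (hKc ▸ (Subgroup.orderOf_mk x hx ▸ orderOf_dvd_natCard (⟨x, hx⟩ : ↥K)))
      obtain ⟨m, hm⟩ := hodd
      let π := MonoidHom.transferSylow T hNT
      have h6 : π (φ x) ^ 2 = 1 := by
        have h7 : ∀ a : ↥(T : Subgroup G), a ^ 2 = 1 := by
          intro a
          by_cases ha : (a : G) = 1
          · rw [show a = 1 from Subtype.ext ha, one_pow]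
          · refine Subtype.ext ?_
            show (a : G) ^ 2 = 1
            exact orderOf_dvd_iff_pow_eq_one.1
              (dvd_of_eq (mem_centralizer_order hprime Nat.prime_two ht (hTC ▸ a.2) ha))
        exact h7 _
      have h8 : π (φ x) ^ (2 * m + 1) = 1 := by rw [← map_pow, ← hm, pow_orderOf_eq_one, map_one]
      rw [pow_succ, pow_mul, h6, one_pow, one_mul] at h8
      exact h8
    rcases hchar _ hmap with h5 | h5
    · rw [h5, Subgroup.card_bot] at hKc
      nlinarith
    · rw [h5, Subgroup.card_top, hcard] at hKc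
      nlinarith
  have hh2 : 2 ≤ h := by
    have : 1 ≤ h := by omega
    omega
  have hτh : τ = h + 1 := by omega
  by_cases hRq : RealPrime G q <;> by_cases hRr : RealPrime G r
  · have e := count (Q - 1) (R - 1) ⟨fun _ => rfl, fun h' => absurd hRq h'⟩ ⟨fun _ => rfl, fun h' => absurd hRr h'⟩
    -- `h` is a prime power
    have hcases : h ∣ Q ∨ h ∣ R := by
      by_contra hb
      push Not at hb
      have h1 : ∀ s : ℕ, s.Prime → s ∣ h →
          s ∣ Nat.card ↥(Subgroup.normalizer ((T : Subgroup G) : Set G)) := fun s _ hs => hN ▸ hs.mul_left τ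
      have hq' : q ∣ h := by
        by_contra hn
        exact hb.2 ((Nat.Coprime.pow_right _ (hq.coprime_iff_not_dvd.2 hn).symm).dvd_of_dvd_mul_left hdvd)
      have hr' : r ∣ h := by
        by_contra hn
        exact hb.1 ((Nat.Coprime.pow_right _ (hr.coprime_iff_not_dvd.2 hn).symm).dvd_of_dvd_mul_right hdvd)
      exact not_two_primes hprime T (by omega) hq hr hqr hq2 hr2 (h1 q hq hq') (h1 r hr hr')
    -- finish
    have fin : ∀ (a b : ℕ) [Fact a.Prime] [Fact b.Prime], a ≠ b → RealPrime G a → RealPrime G b →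
        a ^ (Nat.card G).factorization a = h → b ^ (Nat.card G).factorization b = h + 2 →
        Nat.card G = τ * (h * (h + 2)) → Nonempty (G ≃* alternatingGroup (Fin 5)) := by
      intro a b _ _ hab hRa hRb haQ hbR hG
      obtain ⟨n, hn⟩ : ∃ n, τ = 2 ^ n := ⟨_, hτe⟩
      have hn' : n = 2 ∨ (n = 3 ∧ a = 7 ∧ b = 3) := by
        have hn2 : 2 ≤ n := by
          rcases n with _ | _ | n
          · simp at hn; omega
          · simp at hn; omega
          · omega
        by_cases ha3 : a = 3
        · subst ha3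
          left
          have := pow_three_add_one (a := (Nat.card G).factorization 3) (n := n) (by rw [haQ, ← hn]; omega)
          omega
        by_cases hb3 : b = 3
        · subst hb3
          right
          rcases pow_three_eq (b := (Nat.card G).factorization 3) (n := n) (by rw [hbR, ← hn]; omega) with h' | h'
          · omega
          · subst h'
            refine ⟨rfl, ?_, rfl⟩
            have h7 : a ^ (Nat.card G).factorization a = 7 := by rw [haQ]; norm_num at hn; omega
            have hp7 : Nat.Prime 7 := by norm_num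
            have hd : a ∣ 7 := by
              rw [← h7]
              refine dvd_pow_self a fun h0 => ?_
              rw [h0, pow_zero] at h7; omega
            exact (Nat.prime_dvd_prime_iff_eq Fact.out hp7).1 hd
        exfalso
        have h3 : ∀ c : ℕ, c.Prime → c ≠ 3 → ∀ k, ¬ 3 ∣ c ^ k := fun c hc hc3 k hd =>
          hc3 ((Nat.prime_dvd_prime_iff_eq Nat.prime_three hc).1 (Nat.prime_three.dvd_of_dvd_pow hd)).symm
        have h31 := h3 a Fact.out ha3 ((Nat.card G).factorization a)
        have h32 := h3 b Fact.out hb3 ((Nat.card G).factorization b)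
        rw [haQ] at h31
        rw [hbR] at h32
        have h33 : ¬ 3 ∣ h + 1 := by
          rw [← hτh, hn]
          exact fun hd => by
            have := (Nat.prime_dvd_prime_iff_eq Nat.prime_three Nat.prime_two).1 (Nat.prime_three.dvd_of_dvd_pow hd)
            omega
        omega
      rcases hn' with rfl | ⟨rfl, rfl, rfl⟩
      · have hG60 : Nat.card G = 60 := by
          rw [hG]
          norm_num at hn
          rw [hn, show h = 3 by omega]
        have := isSimple_of_sixty hns hprime horb hchar hG60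
        exact Cfsg.Lib.OrderLeHundred.iso_alternating_five hG60
      · norm_num at hn
        have h7 : h = 7 := by omega
        exfalso
        refine card_504_false hprime horb hRa hRb (by rw [hG, h7, hn]) T (by omega) (by rw [hN, h7, hn])
    rcases hcases with hd | hd
    · obtain ⟨e1, e2⟩ := both_real hτh hho hQo hRo hQ3 hR3 e hd
      exact fin q r hqr hRq hRr (hQ ▸ e1) (hR ▸ e2) (by rw [hcard, e1, e2])
    · obtain ⟨e1, e2⟩ := both_real hτh hho hRo hQo hR3 hQ3
        (by rw [mul_comm R Q, e, add_comm (Q - 1)]) hd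
      exact fin r q hqr.symm hRr hRq (hR ▸ e1) (hQ ▸ e2) (by rw [hcard, e1, e2, mul_comm (h + 2)])
  · have e := count (Q - 1) 0 ⟨fun _ => rfl, fun h' => absurd hRq h'⟩ ⟨fun h' => absurd h' hRr, fun _ => rfl⟩
    exact (one_real_false hτh hh2 hho (Q := R) (R := Q) (by omega) (by omega)
      (by rw [mul_comm R Q, e, add_zero]) (by rwa [mul_comm R Q])).elim
  · have e := count 0 (R - 1) ⟨fun h' => absurd h' hRq, fun _ => rfl⟩ ⟨fun _ => rfl, fun h' => absurd hRr h'⟩
    exact (one_real_false hτh hh2 hho (Q := Q) (R := R) (by omega) (by omega)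
      (by rw [e, zero_add]) hdvd).elim
  · rcases exists_realPrime hns hprime hchar hord ht with h' | h'
    · exact absurd h' hRq
    · exact absurd h' hRr

theorem main (hns : ¬ Group.IsSolvable G)
    (h4 : Nat.card (MulAction.orbitRel.Quotient (MulAut G) G) = 4) : Nonempty (G ≃* alternatingGroup (Fin 5)) := by
  classical
  have _ := Fintype.ofFinite G
  let f : MulAction.orbitRel.Quotient (MulAut G) G → ℕ :=
    Quotient.lift (fun x : G => orderOf x) (by
      rintro a b ⟨φ, rfl⟩
      exact MulEquiv.orderOf_eq φ b)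
  let S := (Finset.univ : Finset G).image orderOf
  have hS4 : S.card ≤ 4 := by
    rw [← h4, ← Nat.card_eq_finsetCard]
    refine Nat.card_le_card_of_surjective
      (fun c => (⟨f c, by
        obtain ⟨x, rfl⟩ := Quotient.mk_surjective c
        exact Finset.mem_image_of_mem _ (Finset.mem_univ x)⟩ : ↥S)) ?_
    rintro ⟨n, hn⟩
    obtain ⟨x, -, rfl⟩ := Finset.mem_image.1 hn
    exact ⟨Quotient.mk'' x, rfl⟩
  have hsub : insert 1 (Nat.card G).primeFactors ⊆ S := by
    intro n hn
    rcases Finset.mem_insert.1 hn with rfl | hn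
    · exact Finset.mem_image.2 ⟨1, Finset.mem_univ _, orderOf_one⟩
    · have := Fact.mk (Nat.prime_of_mem_primeFactors hn)
      obtain ⟨x, hx⟩ := exists_prime_orderOf_dvd_card' n (Nat.dvd_of_mem_primeFactors hn)
      exact Finset.mem_image.2 ⟨x, Finset.mem_univ _, hx⟩
  have hcard3 : ∀ (K : Type _) [Group K] [Finite K], (Nat.card K).primeFactors.card ≤ 2 → Group.IsSolvable K := by
    intro K _ _ hK
    by_cases h0 : (Nat.card K).primeFactors.card = 0
    · rcases Nat.primeFactors_eq_empty.1 (Finset.card_eq_zero.1 h0) with h | h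
      · exact absurd h Nat.card_pos.ne'
      · have := (Nat.card_eq_one_iff_unique.1 h).1
        infer_instance
    by_cases h1 : (Nat.card K).primeFactors.card = 1
    · obtain ⟨a, ha⟩ := Finset.card_eq_one.1 h1
      have hap := Nat.prime_of_mem_primeFactors (ha ▸ Finset.mem_singleton_self a)
      refine Cfsg.Agent.S0144.result a a ((Nat.card K).factorization a) 0 hap hap ?_
      conv_lhs => rw [← Nat.prod_factorization_pow_eq_self (Nat.card_pos (α := K)).ne']
      rw [Finsupp.prod, Nat.support_factorization, ha, Finset.prod_singleton]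
      simp
    · obtain ⟨a, b, hab, he⟩ := Finset.card_eq_two.1 (show (Nat.card K).primeFactors.card = 2 by omega)
      refine Cfsg.Agent.S0144.result a b ((Nat.card K).factorization a) ((Nat.card K).factorization b)
        (Nat.prime_of_mem_primeFactors (by rw [he]; simp : a ∈ (Nat.card K).primeFactors))
        (Nat.prime_of_mem_primeFactors (by rw [he]; simp : b ∈ (Nat.card K).primeFactors)) ?_
      conv_lhs => rw [← Nat.prod_factorization_pow_eq_self (Nat.card_pos (α := K)).ne']
      rw [Finsupp.prod, Nat.support_factorization, he, Finset.prod_pair hab]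
  have hpf3 : 3 ≤ (Nat.card G).primeFactors.card := by
    by_contra hlt
    exact hns (hcard3 G (by omega))
  have h1n : 1 ∉ (Nat.card G).primeFactors := fun h => Nat.not_prime_one (Nat.prime_of_mem_primeFactors h)
  have hcards := Finset.card_le_card hsub
  rw [Finset.card_insert_of_notMem h1n] at hcards
  have hSeq : insert 1 (Nat.card G).primeFactors = S :=
    Finset.eq_of_subset_of_card_le hsub (by rw [Finset.card_insert_of_notMem h1n]; omega)
  have hmem : ∀ x : G, x ≠ 1 → orderOf x ∈ (Nat.card G).primeFactors := by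
    intro x hx
    have : orderOf x ∈ S := Finset.mem_image_of_mem _ (Finset.mem_univ x)
    rw [← hSeq, Finset.mem_insert] at this
    exact this.resolve_left fun h => hx (orderOf_eq_one_iff.1 h)
  have hprime : ∀ x : G, x ≠ 1 → (orderOf x).Prime := fun x hx => Nat.prime_of_mem_primeFactors (hmem x hx)
  have horb : ∀ x y : G, orderOf x = orderOf y → ∃ φ : MulAut G, φ x = y := by
    intro x y hxy
    let F : MulAction.orbitRel.Quotient (MulAut G) G → ↥S := fun c => ⟨f c, by
      obtain ⟨z, rfl⟩ := Quotient.mk_surjective c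
      exact Finset.mem_image_of_mem _ (Finset.mem_univ z)⟩
    have hsurj : Function.Surjective F := by
      rintro ⟨n, hn⟩
      obtain ⟨z, -, rfl⟩ := Finset.mem_image.1 hn
      exact ⟨Quotient.mk'' z, rfl⟩
    have hbij : Function.Bijective F := by
      refine hsurj.bijective_of_nat_card_le ?_
      rw [h4, Nat.card_eq_finsetCard, ← hSeq, Finset.card_insert_of_notMem h1n]
      omega
    have h := hbij.1 (a₁ := Quotient.mk'' y) (a₂ := Quotient.mk'' x) (Subtype.ext hxy.symm)
    exact Quotient.exact' h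
  have hchar : ∀ K : Subgroup G, (∀ φ : MulAut G, ∀ x ∈ K, φ x ∈ K) → K = ⊥ ∨ K = ⊤ := by
    intro K hK
    by_contra hb
    push Not at hb
    have hKn : K.Normal := ⟨fun x hx g => hK (MulAut.conj g) x hx⟩
    have hKG : ∀ s, s ∈ (Nat.card ↥K).primeFactors → ∀ x : G, orderOf x = s → x ∈ K := by
      intro s hs x hx
      have := Fact.mk (Nat.prime_of_mem_primeFactors hs)
      obtain ⟨k, hk⟩ := exists_prime_orderOf_dvd_card' s (Nat.dvd_of_mem_primeFactors hs)
      obtain ⟨φ, hφ⟩ := horb (k : G) x (by rw [Subgroup.orderOf_coe, hk, hx])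
      exact hφ ▸ hK φ k k.2
    have hdisj : Disjoint (Nat.card ↥K).primeFactors (Nat.card (G ⧸ K)).primeFactors := by
      rw [Finset.disjoint_left]
      intro s hs hs'
      have := Fact.mk (Nat.prime_of_mem_primeFactors hs)
      obtain ⟨c, hc⟩ := exists_prime_orderOf_dvd_card' s (Nat.dvd_of_mem_primeFactors hs')
      obtain ⟨y, rfl⟩ := QuotientGroup.mk'_surjective K c
      have hy1 : y ≠ 1 := fun h => by
        rw [h, map_one, orderOf_one] at hc
        exact (Nat.prime_of_mem_primeFactors hs).one_lt.ne hc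
      have hd := orderOf_map_dvd (QuotientGroup.mk' K) y
      rw [hc] at hd
      have he := (Nat.prime_dvd_prime_iff_eq (Nat.prime_of_mem_primeFactors hs) (hprime y hy1)).1 hd
      have := hKG s hs y he.symm
      rw [show (QuotientGroup.mk' K) y = 1 from (QuotientGroup.eq_one_iff y).2 this, orderOf_one] at hc
      exact (Nat.prime_of_mem_primeFactors hs).one_lt.ne hc
    have hle : (Nat.card ↥K).primeFactors ∪ (Nat.card (G ⧸ K)).primeFactors ⊆ (Nat.card G).primeFactors :=
      Finset.union_subset (Nat.primeFactors_mono (Subgroup.card_subgroup_dvd_card K) Nat.card_pos.ne')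
        (Nat.primeFactors_mono (Subgroup.card_quotient_dvd_card K) Nat.card_pos.ne')
    have hsum := Finset.card_le_card hle
    rw [Finset.card_union_of_disjoint hdisj] at hsum
    have hK1 : 1 ≤ (Nat.card ↥K).primeFactors.card :=
      Finset.card_pos.2 (Nat.nonempty_primeFactors.2
        (Finite.one_lt_card_iff_nontrivial.2 ((Subgroup.nontrivial_iff_ne_bot K).2 hb.1)))
    have hK2 : 1 ≤ (Nat.card (G ⧸ K)).primeFactors.card :=
      Finset.card_pos.2 (Nat.nonempty_primeFactors.2 (Subgroup.one_lt_index_of_ne_top hb.2))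
    have h1 : Group.IsSolvable ↥K := hcard3 _ (by omega)
    have h2 : Group.IsSolvable (G ⧸ K) := hcard3 _ (by omega)
    exact hns (Group.isSolvable_of_ker_le_range K.subtype (QuotientGroup.mk' K)
      (by rw [QuotientGroup.ker_mk', Subgroup.range_subtype]))
  by_cases h2 : 2 ∈ (Nat.card G).primeFactors
  · have he : ((Nat.card G).primeFactors.erase 2).card = 2 := by
      rw [Finset.card_erase_of_mem h2]; omega
    obtain ⟨q, r, hqr, hqrE⟩ := Finset.card_eq_two.1 he
    have hq : q ∈ (Nat.card G).primeFactors.erase 2 := by rw [hqrE]; simp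
    have hr : r ∈ (Nat.card G).primeFactors.erase 2 := by rw [hqrE]; simp
    have hpf : (Nat.card G).primeFactors = {2, q, r} := by rw [← hqrE, Finset.insert_erase h2]
    have := Fact.mk (Nat.prime_of_mem_primeFactors (Finset.mem_of_mem_erase hq))
    have := Fact.mk (Nat.prime_of_mem_primeFactors (Finset.mem_of_mem_erase hr))
    refine main_even hns hprime horb hchar (Finset.ne_of_mem_erase hq) (Finset.ne_of_mem_erase hr) hqr
      (fun x hx => by have := hmem x hx; rw [hpf] at this; simpa using this)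
      (Nat.dvd_of_mem_primeFactors h2) (Nat.dvd_of_mem_primeFactors (Finset.mem_of_mem_erase hq))
      (Nat.dvd_of_mem_primeFactors (Finset.mem_of_mem_erase hr)) hpf
  · exfalso
    apply hns
    refine Cfsg.Lib.Local.CN.isSolvable_of_odd ?_ ?_
    · refine Nat.not_even_iff_odd.1 fun he => h2 (Nat.mem_primeFactors.2
        ⟨Nat.prime_two, even_iff_two_dvd.1 he, Nat.card_pos.ne'⟩)
    · intro g hg
      have := Fact.mk (hprime g hg)
      exact (isPGroup_centralizer hprime (hprime g hg) rfl).isNilpotent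

end Structure


/-- A finite non-solvable group on which its automorphism group has exactly four orbits is isomorphic to the alternating group of degree 5. -/
theorem result {G : Type*} [Group G] [Finite G] (hns : ¬ Group.IsSolvable G)
    (h4 : Nat.card (MulAction.orbitRel.Quotient (MulAut G) G) = 4) : Nonempty (G ≃* alternatingGroup (Fin 5)) := by
  exact main hns h4

end Cfsg.Agent.S4068
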