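import Cfsg.Statements.S4069
import Cfsg.Agent.Lib.AlmostCyc.SD
import Cfsg.Agent.Lib.AlmostCyc.Main
import Cfsg.Agent.Lib.OrderSDW.Main
-- import your own Cfsg.Agent.* helpers here

set_option autoImplicit false
open Cfsg

namespace Cfsg.Agent.S4069

universe u

theorem not_wreathed_of_sd {S : Type u} [Group S] [Finite S] (hS : Cfsg.IsQuasiDihedral S)
    (hW : Cfsg.IsWreathed S) : False := by
  obtain ⟨n, ⟨d⟩⟩ := Cfsg.Lib.TwoGroup.exists_sd hS
  obtain ⟨m, ⟨d'⟩⟩ := Cfsg.Lib.TwoGroup.exists_w hW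
  have h := d'.card_center.symm.trans d.card_center
  have := Nat.pow_le_pow_right two_pos d'.two_le
  omega

theorem brauerData : Cfsg.Lib.AlmostCyc.BrauerData.{u} := by
  intro G _ _ _ hna S hS z hz hzS hzc U hUS hU p _ hp hL
  have hUn : Cfsg.IsWreathed ↥(S : Subgroup G) → ∀ s ∈ (S : Subgroup G), ∀ t ∈ U, s * t * s⁻¹ ∈ U :=
    fun hW => (not_wreathed_of_sd hS hW).elim
  obtain ⟨ε, X, Y, hε, hsd, -, hX0, hX1, hY, -, h4, hmain⟩ :=
    Cfsg.Lib.OrderSDW.brauer_equations hna S (Or.inl hS) z hz hzS hzc U hUS hU hUn (p := p) (by omega) 1 le_rfl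
      (F := ZMod p) (by rw [ZMod.card, pow_one]) hL
  simp only [pow_one] at hsd hY h4 hmain
  exact ⟨ε, X, Y, hε, hsd hS, hX0, hX1, hY, h4, hmain⟩


/-- Let G be a finite non-solvable group whose Sylow subgroups of odd order are cyclic and whose Sylow 2-subgroups contain a cyclic subgroup of index at most 2. Then G has a normal subgroup G₀ of index at most 2 that is an internal direct product X × L of normal subgroups, where X has odd order and is an extension of a cyclic group by a cyclic group, L is isomorphic to PSL₂(p) or SL₂(p) for some prime p ≥ 5, and the orders of X and L are coprime. -/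
theorem result {G : Type*} [Group G] [Finite G] (hns : ¬ Group.IsSolvable G)
    (hodd : ∀ p : ℕ, p.Prime → p ≠ 2 → ∀ P : Sylow p G, IsCyclic P)
    (h2 : ∀ S : Sylow 2 G, ∃ C : Subgroup ↥(S : Subgroup G), IsCyclic C ∧ C.index ∣ 2) :
    ∃ G₀ : Subgroup G, G₀.Normal ∧ G₀.index ∣ 2 ∧
      ∃ X L : Subgroup ↥G₀, X.Normal ∧ L.Normal ∧ X ⊓ L = ⊥ ∧ X ⊔ L = ⊤ ∧ (Nat.card X).Coprime (Nat.card L) ∧
        Odd (Nat.card X) ∧ (∃ (C : Subgroup ↥X) (_ : C.Normal), IsCyclic C ∧ IsCyclic (↥X ⧸ C)) ∧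
        ∃ (p : ℕ) (_ : Fact p.Prime), 5 ≤ p ∧
          (Nonempty (↥L ≃* Matrix.ProjectiveSpecialLinearGroup (Fin 2) (ZMod p)) ∨
           Nonempty (↥L ≃* Matrix.SpecialLinearGroup (Fin 2) (ZMod p))) := by
  exact Cfsg.Lib.AlmostCyc.main hns (Cfsg.Lib.AlmostCyc.oddCyc_of_sylow hodd)
    (Cfsg.Lib.AlmostCyc.twoHalf_of_sylow h2)
    (Cfsg.Lib.AlmostCyc.noSDUpTo_all brauerData _)

end Cfsg.Agent.S4069
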