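import Cfsg.Statements.S4071
import Cfsg.Agent.Lib.Coprime.Action
import Cfsg.Agent.Lib.Core.Fitting
import Cfsg.Agent.Lib.PGroup.Basic
-- import your own Cfsg.Agent.* helpers here

set_option autoImplicit false
open Cfsg

namespace Cfsg.Agent.S4071

open Subgroup
open scoped commutatorElement

variable {G : Type*} [Group G] [Finite G]

theorem exists_normal_coatom [Group.IsSolvable G] (N : Subgroup G) [N.Normal] (hN : N ≠ ⊤) :
    ∃ M : Subgroup G, N ≤ M ∧ IsCoatom M ∧ M.Normal ∧ commutator G ≤ M := by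
  haveI : Nontrivial (G ⧸ N) := QuotientGroup.nontrivial_iff.2 hN
  have hlt := Group.IsSolvable.commutator_lt_top_of_nontrivial (G ⧸ N)
  obtain ⟨Mb, hMb, hle⟩ := (eq_top_or_exists_le_coatom (commutator (G ⧸ N))).resolve_left hlt.ne
  set M := Mb.comap (QuotientGroup.mk' N)
  have hC : commutator G ≤ M := by
    intro g hg
    refine hle ?_
    rw [_root_.commutator_def, ← MonoidHom.range_eq_top.2 (QuotientGroup.mk'_surjective N), MonoidHom.range_eq_map,
      ← Subgroup.map_commutator]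
    exact ⟨g, hg, rfl⟩
  refine ⟨M, fun n hn => ?_, ?_, Subgroup.Normal.of_commutator_le _ hC, hC⟩
  · show (n : G ⧸ N) ∈ Mb
    rw [(QuotientGroup.eq_one_iff n).2 hn]; exact one_mem _
  · refine ⟨fun h => hMb.1 ?_, fun K hK => ?_⟩
    · rw [← map_comap_eq_self_of_surjective (QuotientGroup.mk'_surjective N) Mb, show Mb.comap (QuotientGroup.mk' N) = ⊤ from h]
      exact Subgroup.map_top_of_surjective _ (QuotientGroup.mk'_surjective N)
    · have hker : N ≤ K := by
        refine le_trans ?_ hK.le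
        exact fun n hn => show (n : G ⧸ N) ∈ Mb by rw [(QuotientGroup.eq_one_iff n).2 hn]; exact one_mem _
      have h1 : Mb < K.map (QuotientGroup.mk' N) := by
        refine lt_of_le_of_ne ?_ fun e => hK.not_ge ?_
        · rw [← map_comap_eq_self_of_surjective (QuotientGroup.mk'_surjective N) Mb]
          exact map_mono hK.le
        · intro k hk
          show (k : G ⧸ N) ∈ Mb
          rw [e]; exact ⟨k, hk, rfl⟩
      have h2 := congrArg (Subgroup.comap (QuotientGroup.mk' N)) (hMb.2 _ h1)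
      rwa [comap_map_eq, QuotientGroup.ker_mk', comap_top, sup_eq_left.2 hker] at h2

theorem forward [Group.IsSolvable G] (hnn : ¬ Group.IsNilpotent G)
    (h : ∀ H : Subgroup G, ¬ IsMulCommutative H → normalizer (H : Set G) = H) :
    ∃ (x : G) (A : Subgroup G) (p : ℕ), p.Prime ∧ A.Normal ∧ IsMulCommutative A ∧ (∃ k : ℕ, orderOf x = p ^ k) ∧
      ¬ p ∣ Nat.card A ∧ (zpowers x).IsComplement' A ∧ x ^ p ∈ center G ∧
      ∀ a : G, a ∈ A → a ≠ 1 → x * a * x⁻¹ ≠ a := by
  classical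
  have hab : ∀ N : Subgroup G, N.Normal → N ≠ ⊤ → IsMulCommutative N := fun N hN hne => by
    by_contra hc
    exact hne ((h N hc).symm.trans (normalizer_eq_top_iff.2 hN))
  have htriv : (⊥ : Subgroup G) ≠ ⊤ := fun e => hnn (by
    haveI : Subsingleton G := Subgroup.subsingleton_iff.1 (subsingleton_iff_bot_eq_top.1 e) ; infer_instance)
  obtain ⟨M, -, hM, hMn, hMc⟩ := exists_normal_coatom (⊥ : Subgroup G) htriv
  haveI := hMn
  haveI hMab := hab M hMn hM.1
  have huniq : ∀ K : Subgroup G, K.Normal → K ≠ ⊤ → K ≤ M := by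
    intro K hK hKne
    by_contra hle
    haveI := hK
    haveI := hab K hK hKne
    have htop : K ⊔ M = ⊤ := hM.2 _ (lt_of_le_of_ne le_sup_right fun e => hle (e ▸ le_sup_left))
    have hF : (⊤ : Subgroup G) ≤ Cfsg.fittingSubgroup G := htop ▸ sup_le
      (Cfsg.Lib.Core.le_fittingSubgroup (Cfsg.Lib.Core.isNilpotent_of_isMulCommutative K))
      (Cfsg.Lib.Core.le_fittingSubgroup (Cfsg.Lib.Core.isNilpotent_of_isMulCommutative M))
    haveI : Group.IsNilpotent (⊤ : Subgroup G) := Cfsg.Lib.Core.isNilpotent_of_le hF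
      (Cfsg.Lib.Core.fittingSubgroup_isNilpotent G)
    exact hnn (Group.nilpotent_of_mulEquiv Subgroup.topEquiv)
  -- the index of `M`
  obtain ⟨p, hp, hpd⟩ := Nat.exists_prime_and_dvd (fun e => hM.1 (index_eq_one.1 e) : M.index ≠ 1)
  haveI := Fact.mk hp
  haveI : IsMulCommutative (G ⧸ M) := Subgroup.Normal.quotient_commutative_iff_commutator_le.2 hMc
  obtain ⟨yb, hyb⟩ := exists_prime_orderOf_dvd_card' (G := G ⧸ M) p (by rwa [← index_eq_card])
  have hidx : M.index = p := by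
    haveI : (zpowers yb).Normal := ⟨fun a ha g => by rw [mul_comm' g a, mul_inv_cancel_right]; exact ha⟩
    have hgt : M < (zpowers yb).comap (QuotientGroup.mk' M) := by
      refine lt_of_le_of_ne (fun m hm => show QuotientGroup.mk (s := M) m ∈ zpowers yb by rw [(QuotientGroup.eq_one_iff m).2 hm]; exact one_mem _)
        fun e => ?_
      obtain ⟨y, rfl⟩ := QuotientGroup.mk_surjective yb
      have : y ∈ M := by rw [e]; exact mem_zpowers _
      rw [(QuotientGroup.eq_one_iff y).2 this, orderOf_one] at hyb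
      exact hp.one_lt.ne hyb
    have htop := congrArg (Subgroup.map (QuotientGroup.mk' M)) (hM.2 _ hgt)
    rw [map_comap_eq_self_of_surjective (QuotientGroup.mk'_surjective M),
      Subgroup.map_top_of_surjective _ (QuotientGroup.mk'_surjective M)] at htop
    rw [index_eq_card, ← card_top, ← htop, Nat.card_zpowers, hyb]
  set m := Nat.card M / p ^ (Nat.card M).factorization p
  have hmp : ¬ p ∣ m := Nat.not_dvd_ordCompl hp Nat.card_pos.ne'
  let A : Subgroup G :=
    { carrier := {a | a ∈ M ∧ a ^ m = 1}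
      one_mem' := ⟨one_mem _, one_pow _⟩
      mul_mem' := fun {a b} ha hb => ⟨mul_mem ha.1 hb.1, by
        rw [(show Commute a b from congrArg Subtype.val (mul_comm' (⟨a, ha.1⟩ : M) ⟨b, hb.1⟩)).mul_pow, ha.2, hb.2, one_mul]⟩
      inv_mem' := fun {a} ha => ⟨inv_mem ha.1, by rw [inv_pow, ha.2, inv_one]⟩ }
  have hAM : A ≤ M := fun a ha => ha.1
  haveI hAn : A.Normal := ⟨fun a ha g => ⟨hMn.conj_mem a ha.1 g, by rw [conj_pow, ha.2, mul_one, mul_inv_cancel]⟩⟩
  haveI hAc : IsMulCommutative A := ⟨⟨fun a b => Subtype.ext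
    (show (a : G) * b = b * a from congrArg Subtype.val (mul_comm' (⟨(a : G), hAM a.2⟩ : M) ⟨(b : G), hAM b.2⟩))⟩⟩
  have hpA : ¬ p ∣ Nat.card A := by
    intro hd
    obtain ⟨a, ha⟩ := exists_prime_orderOf_dvd_card' p hd
    exact hmp (ha ▸ orderOf_dvd_of_pow_eq_one (Subtype.ext (by simpa using a.2.2)))
  have hPq : IsPGroup p (G ⧸ A) := by
    intro y
    obtain ⟨g, rfl⟩ := QuotientGroup.mk_surjective y
    refine ⟨(Nat.card M).factorization p + 1, ?_⟩
    rw [← QuotientGroup.mk_pow, QuotientGroup.eq_one_iff]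
    have hgp : g ^ p ∈ M := hidx ▸ Subgroup.pow_index_mem M g
    refine ⟨?_, ?_⟩
    · rw [pow_succ', pow_mul]; exact pow_mem hgp _
    · rw [pow_succ', pow_mul, ← pow_mul (g ^ p), Nat.mul_div_cancel' (Nat.ordProj_dvd _ p)]
      exact congrArg Subtype.val (pow_card_eq_one' (x := (⟨_, hgp⟩ : M)))
  obtain ⟨g, hg⟩ : ∃ g, g ∉ M := by
    by_contra hall
    push Not at hall
    exact hM.1 (eq_top_iff.2 fun g _ => hall g)
  have hgen : zpowers (g : G ⧸ A) = ⊤ := by
    by_contra hne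
    obtain ⟨K, hK, hle⟩ := (eq_top_or_exists_le_coatom (zpowers (g : G ⧸ A))).resolve_left hne
    haveI := Cfsg.Lib.PGroup.normal_of_isCoatom hPq hK
    refine hg (huniq (K.comap (QuotientGroup.mk' A)) inferInstance (fun e => hK.1 ?_) (hle (mem_zpowers _)))
    rw [← map_comap_eq_self_of_surjective (QuotientGroup.mk'_surjective A) K, e]
    exact Subgroup.map_top_of_surjective _ (QuotientGroup.mk'_surjective A)
  obtain ⟨k, hk⟩ := IsPGroup.iff_card.1 hPq
  set x := g ^ Nat.card A with hx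
  have hcop : (Nat.card A).Coprime (p ^ k) := (Nat.Coprime.pow_left k (hp.coprime_iff_not_dvd.2 hpA)).symm
  have hgk : g ^ p ^ k ∈ A := by
    rw [← QuotientGroup.eq_one_iff, QuotientGroup.mk_pow, ← hk]; exact pow_card_eq_one'
  have hxord : x ^ p ^ k = 1 := by
    rw [hx, ← pow_mul, mul_comm, pow_mul]
    exact congrArg Subtype.val (pow_card_eq_one' (x := (⟨_, hgk⟩ : A)))
  have hgo : orderOf (g : G ⧸ A) = p ^ k := by rw [← Nat.card_zpowers, hgen, card_top, hk]
  have hxbo : orderOf (x : G ⧸ A) = p ^ k := by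
    rw [hx, QuotientGroup.mk_pow, Nat.Coprime.orderOf_pow (hgo ▸ hcop.symm), hgo]
  have hxo : orderOf x = p ^ k :=
    Nat.dvd_antisymm (orderOf_dvd_of_pow_eq_one hxord) (hxbo ▸ orderOf_map_dvd (QuotientGroup.mk' A) x)
  have hcard : Nat.card (zpowers x) * Nat.card A = Nat.card G := by
    rw [Nat.card_zpowers, hxo, ← hk, ← card_eq_card_quotient_mul_card_subgroup]
  have hcomp : (zpowers x).IsComplement' A := isComplement'_of_coprime hcard
    (by rw [Nat.card_zpowers, hxo]; exact hcop.symm)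
  have hsup : zpowers x ⊔ A = ⊤ := hcomp.sup_eq_top
  have hxM : x ∉ M := fun hxM => hM.1 (eq_top_iff.2 (hsup ▸ sup_le (zpowers_le.2 hxM) hAM))
  refine ⟨x, A, p, hp, hAn, hAc, ⟨k, hxo⟩, hpA, hcomp, ?_, ?_⟩
  · have hxp : x ^ p ∈ M := hidx ▸ Subgroup.pow_index_mem M x
    refine mem_center_iff.2 fun w => ?_
    have hle : (⊤ : Subgroup G) ≤ centralizer ({x ^ p} : Set G) := by
      rw [← hsup]
      exact sup_le (zpowers_le.2 (mem_centralizer_singleton_iff.2 (Commute.self_pow x p).eq))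
        fun a ha => mem_centralizer_singleton_iff.2 (congrArg Subtype.val (mul_comm' (⟨a, hAM ha⟩ : M) ⟨_, hxp⟩))
    exact mem_centralizer_singleton_iff.1 (hle (mem_top w))
  · intro a ha ha1 he
    have hAnorm : zpowers x ≤ normalizer (A : Set G) := le_normalizer_of_normal
    have hcp : (Nat.card (zpowers x)).Coprime (Nat.card A) := by rw [Nat.card_zpowers, hxo]; exact hcop.symm
    set K := ⁅A, zpowers x⁆ ⊔ zpowers x with hK
    have hKn : K.Normal := by
      rw [← normalizer_eq_top_iff, eq_top_iff, ← hsup]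
      refine sup_le (le_sup_right.trans le_normalizer) ?_
      refine le_trans (fun b hb => ?_) le_rfl
      obtain ⟨n, hn, c, hc, rfl⟩ := Cfsg.Lib.Coprime.le_commutator_sup_centralizer hAnorm hcp
        (Or.inl inferInstance) hb
      refine mul_mem (le_normalizer (mem_sup_left hn)) ?_
      rw [Cfsg.Lib.Core.mem_normalizer_iff_map_conj, hK, Subgroup.map_sup, Subgroup.map_commutator,
        Cfsg.Lib.Core.map_conj_eq_of_mem_normalizer (le_normalizer hc.1 : c ∈ normalizer (A : Set G)),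
        MonoidHom.map_zpowers, show (MulAut.conj c).toMonoidHom x = x from by
          show c * x * c⁻¹ = x
          rw [← mem_centralizer_iff.1 hc.2 x (mem_zpowers x), mul_inv_cancel_right]]
    have hKtop : K = ⊤ := by
      by_contra hne
      exact hxM (huniq K hKn hne (mem_sup_right (mem_zpowers x)))
    have hAle : A ≤ ⁅A, zpowers x⁆ := by
      intro b hb
      have hn : zpowers x ≤ normalizer ((⁅A, zpowers x⁆ : Subgroup G) : Set G) := Subgroup.normalizer_commutator_ge_right A _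
      obtain ⟨n, hn', z, hz, rfl⟩ := Cfsg.Lib.Coprime.exists_mul_of_mem_sup hn (hKtop ▸ mem_top b : b ∈ K)
      have hnA := Cfsg.Lib.Coprime.commutator_le_of_le_normalizer hAnorm hn'
      have hzA : z ∈ A := by simpa using mul_mem (inv_mem hnA) hb
      rw [show z = 1 from mem_bot.1 (hcomp.disjoint.le_bot ⟨hz, hzA⟩), mul_one]
      exact hn'
    refine ha1 (mem_bot.1 ((Cfsg.Lib.Coprime.disjoint_commutator_centralizer hAnorm hcp).le_bot ⟨hAle ha, ?_⟩))
    refine mem_centralizer_iff.2 fun y hy => ?_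
    obtain ⟨i, rfl⟩ := mem_zpowers_iff.1 hy
    exact (Commute.zpow_left (show Commute x a from mul_inv_eq_iff_eq_mul.1 he) i).eq

theorem backward {x : G} {A : Subgroup G} {p : ℕ} (hp : p.Prime) [A.Normal] [IsMulCommutative A]
    (hk : ∃ k : ℕ, orderOf x = p ^ k) (hcomp : (zpowers x).IsComplement' A) (hxp : x ^ p ∈ center G)
    (hfpf : ∀ a : G, a ∈ A → a ≠ 1 → x * a * x⁻¹ ≠ a)
    {H : Subgroup G} (hH : ¬ IsMulCommutative H) : normalizer (H : Set G) = H := by
  classical
  have hdec : ∀ w : G, ∃ (i : ℕ), ∃ a ∈ A, w = x ^ i * a := by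
    intro w
    obtain ⟨⟨⟨z, hz⟩, ⟨a, ha⟩⟩, rfl⟩ := hcomp.2 w
    obtain ⟨i, rfl⟩ := mem_powers_iff_mem_zpowers.2 hz
    exact ⟨i, a, ha, rfl⟩
  have hAc : ∀ a ∈ A, ∀ b ∈ A, Commute a b := fun a ha b hb => congrArg Subtype.val (mul_comm' (⟨a, ha⟩ : A) ⟨b, hb⟩)
  -- an element `y = x * a` of `H`
  obtain ⟨a, ha, hyH⟩ : ∃ a ∈ A, x * a ∈ H := by
    by_contra hall
    push Not at hall
    apply hH
    have hdiv : ∀ w ∈ H, ∀ i, ∀ a ∈ A, w = x ^ i * a → p ∣ i := by
      intro w hw i a ha he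
      by_contra hd
      obtain ⟨k, hk⟩ := hk
      obtain ⟨j, hj⟩ := exists_pow_eq_self_of_coprime (x := x) (n := i)
        (hk ▸ ((hp.coprime_iff_not_dvd.2 hd).symm.pow_right k))
      refine hall (x⁻¹ * w ^ j) ?_ (by rw [mul_inv_cancel_left]; exact pow_mem hw j)
      have hmod : ((w ^ j : G) : G ⧸ A) = (x : G ⧸ A) := by
        rw [QuotientGroup.mk_pow, he, QuotientGroup.mk_mul, (QuotientGroup.eq_one_iff a).2 ha, mul_one,
          ← QuotientGroup.mk_pow, hj]
      exact QuotientGroup.eq.1 hmod.symm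
    refine ⟨⟨fun u v => Subtype.ext ?_⟩⟩
    obtain ⟨i, a, ha, hu⟩ := hdec u
    obtain ⟨j, b, hb, hv⟩ := hdec v
    obtain ⟨i', rfl⟩ := hdiv u u.2 i a ha hu
    obtain ⟨j', rfl⟩ := hdiv v v.2 j b hb hv
    show (u : G) * v = v * u
    rw [hu, hv, pow_mul, pow_mul]
    have hzc : ∀ n : ℕ, ∀ w : G, Commute ((x ^ p) ^ n) w := fun n w =>
      (show Commute (x ^ p) w from (mem_center_iff.1 hxp w).symm).pow_left n
    exact (((hzc i' _).mul_left ((hzc j' a).symm.mul_right (hAc a ha b hb)))).eq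
  set y := x * a with hy
  set B := H ⊓ A
  -- the commutator map with `y`
  let φ : A →* A :=
    { toFun := fun b => ⟨(b : G) * y * (b : G)⁻¹ * y⁻¹, by
        rw [show (b : G) * y * (b : G)⁻¹ * y⁻¹ = (b : G) * (y * (b : G)⁻¹ * y⁻¹) by group]
        exact mul_mem b.2 ((inferInstance : A.Normal).conj_mem _ (inv_mem b.2) y)⟩
      map_one' := Subtype.ext (by simp)
      map_mul' := fun b c => Subtype.ext (by
        show (b : G) * c * y * ((b : G) * c)⁻¹ * y⁻¹ = _ * ((c : G) * y * (c : G)⁻¹ * y⁻¹)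
        have h1 : Commute (y * (b : G)⁻¹ * y⁻¹) ((c : G) * y * (c : G)⁻¹ * y⁻¹) := hAc _
          ((inferInstance : A.Normal).conj_mem _ (inv_mem b.2) y) _ (by
            rw [show (c : G) * y * (c : G)⁻¹ * y⁻¹ = (c : G) * (y * (c : G)⁻¹ * y⁻¹) by group]
            exact mul_mem c.2 ((inferInstance : A.Normal).conj_mem _ (inv_mem c.2) y))
        calc (b : G) * c * y * ((b : G) * c)⁻¹ * y⁻¹
            = (b : G) * (((c : G) * y * (c : G)⁻¹ * y⁻¹) * (y * (b : G)⁻¹ * y⁻¹)) := by group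
          _ = (b : G) * ((y * (b : G)⁻¹ * y⁻¹) * ((c : G) * y * (c : G)⁻¹ * y⁻¹)) := by rw [h1.eq]
          _ = _ := by group) }
  have hφinj : Function.Injective φ := by
    rw [injective_iff_map_eq_one]
    intro b hb
    have h1 : (b : G) * y * (b : G)⁻¹ * y⁻¹ = 1 := congrArg Subtype.val hb
    by_contra hne
    refine hfpf b b.2 (fun e => hne (Subtype.ext e)) ?_
    have h2 : y * (b : G) * y⁻¹ = b := by
      have e1 : (b : G) * y * (b : G)⁻¹ = y := mul_inv_eq_one.1 h1
      calc y * (b : G) * y⁻¹ = ((b : G) * y * (b : G)⁻¹) * b * y⁻¹ := by rw [e1]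
        _ = b := by group
    calc x * (b : G) * x⁻¹ = x * (a * b * a⁻¹) * x⁻¹ := by rw [(hAc a ha b b.2).eq, mul_inv_cancel_right]
      _ = y * (b : G) * y⁻¹ := by rw [hy]; group
      _ = b := h2
  refine le_antisymm (fun n hn => ?_) le_normalizer
  obtain ⟨i, c, hc, hnc⟩ := hdec n
  -- reduce to an element of `A`
  have hcA : (y ^ i)⁻¹ * n ∈ A := by
    rw [← QuotientGroup.eq, hnc, QuotientGroup.mk_mul, (QuotientGroup.eq_one_iff c).2 hc, mul_one,
      QuotientGroup.mk_pow, QuotientGroup.mk_pow, hy, QuotientGroup.mk_mul, (QuotientGroup.eq_one_iff a).2 ha, mul_one]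
  have hcN : (y ^ i)⁻¹ * n ∈ normalizer (H : Set G) := mul_mem (le_normalizer (inv_mem (pow_mem hyH i))) hn
  suffices hmem : (y ^ i)⁻¹ * n ∈ H by simpa using mul_mem (pow_mem hyH i) hmem
  set d := (y ^ i)⁻¹ * n
  have hφd : (φ ⟨d, hcA⟩ : G) ∈ H := mul_mem ((mem_normalizer_iff.1 hcN y).1 hyH) (inv_mem hyH)
  have hmap : (B.subgroupOf A).map φ = B.subgroupOf A := by
    refine eq_of_le_of_card_ge ?_ (card_map_of_injective hφinj).ge
    rintro _ ⟨b, hb, rfl⟩
    exact ⟨H.mul_mem (H.mul_mem (H.mul_mem hb.1 hyH) (H.inv_mem hb.1)) (H.inv_mem hyH), (φ b).2⟩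
  obtain ⟨b, hb, hbe⟩ := hmap.ge (show φ ⟨d, hcA⟩ ∈ B.subgroupOf A from ⟨hφd, (φ _).2⟩)
  rw [hφinj hbe] at hb
  exact hb.1

/-- Let G be a finite solvable non-nilpotent group. Every non-abelian subgroup of G is self-normalizing if and only if G is a semidirect product ⟨x⟩ ⋉ A in which ⟨x⟩ is a p-group for some prime p, A is a normal abelian subgroup of order prime to p, x^p is central in G, and x acts fixed-point-freely on A (no non-identity element of A commutes with x). -/
theorem result {G : Type*} [Group G] [Finite G]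
    [Group.IsSolvable G] (hnn : ¬ Group.IsNilpotent G) :
    (∀ H : Subgroup G, ¬ IsMulCommutative H → Subgroup.normalizer (H : Set G) = H) ↔
    ∃ (x : G) (A : Subgroup G) (p : ℕ), p.Prime ∧ A.Normal ∧ IsMulCommutative A ∧ (∃ k : ℕ, orderOf x = p ^ k) ∧
      ¬ p ∣ Nat.card A ∧ (Subgroup.zpowers x).IsComplement' A ∧ x ^ p ∈ Subgroup.center G ∧
      ∀ a : G, a ∈ A → a ≠ 1 → x * a * x⁻¹ ≠ a := by
  refine ⟨forward hnn, ?_⟩
  rintro ⟨x, A, p, hp, hAn, hAc, hk, -, hcomp, hxp, hfpf⟩ H hH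
  haveI := hAn
  haveI := hAc
  exact backward hp hk hcomp hxp hfpf hH

end Cfsg.Agent.S4071
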