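import Cfsg.Statements.S4072
import Cfsg.Agent.Lib.Fusion.Alperin
import Cfsg.Agent.Lib.Fusion.Abelian
import Cfsg.Agent.S3903
import Mathlib.GroupTheory.SpecificGroups.ZGroup
-- import your own Cfsg.Agent.* helpers here

set_option autoImplicit false
open Cfsg

namespace Cfsg.Agent.S4072

open scoped commutatorElement

theorem prime_card_of_cyclic_selfnormalizing {L : Type*} [Group L] [Finite L] [Nontrivial L]
    (h : ∀ x : L, x ≠ 1 → Subgroup.normalizer ((Subgroup.zpowers x : Subgroup L) : Set L) = Subgroup.zpowers x) :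
    (Nat.card L).Prime := by
  classical
  have hpc : ∀ p : ℕ, p.Prime → p ∣ Nat.card L →
      ∃ K : Subgroup L, K.Normal ∧ ¬ p ∣ Nat.card ↥K ∧ commutator L ≤ K := by
    intro p hp hpd
    have := Fact.mk hp
    let P : Sylow p L := default
    have : Nontrivial ↥(P : Subgroup L) :=
      (Subgroup.nontrivial_iff_ne_bot _).2 (Sylow.ne_bot_of_dvd_card P hpd)
    have := P.isPGroup'.center_nontrivial
    obtain ⟨z, hz⟩ := exists_ne (1 : Subgroup.center ↥(P : Subgroup L))
    have hzL : ((z : ↥(P : Subgroup L)) : L) ≠ 1 := fun e => hz (Subtype.ext (Subtype.ext e))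
    set x := ((z : ↥(P : Subgroup L)) : L) with hx
    have hPx : (P : Subgroup L) ≤ Subgroup.zpowers x := by
      rw [← h x hzL]
      intro a ha
      rw [Subgroup.mem_normalizer_iff]
      have hc : Commute a x := congrArg Subtype.val (Subgroup.mem_center_iff.1 z.2 ⟨a, ha⟩)
      intro b
      constructor
      · intro hb
        obtain ⟨k, rfl⟩ := Subgroup.mem_zpowers_iff.1 hb
        rw [(hc.zpow_right k).eq, mul_inv_cancel_right]
        exact Subgroup.zpow_mem _ (Subgroup.mem_zpowers x) k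
      · intro hb
        obtain ⟨k, hk⟩ := Subgroup.mem_zpowers_iff.1 hb
        have e : b = a⁻¹ * x ^ k * a := by rw [hk]; group
        rw [e, mul_assoc, ← (hc.zpow_right k).eq, inv_mul_cancel_left]
        exact Subgroup.zpow_mem _ (Subgroup.mem_zpowers x) k
    have heq : Subgroup.zpowers x = (P : Subgroup L) :=
      le_antisymm (Subgroup.zpowers_le.2 (z : ↥(P : Subgroup L)).2) hPx
    have hN : Subgroup.normalizer ((P : Subgroup L) : Set L) ≤ Subgroup.centralizer ((P : Subgroup L) : Set L) := by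
      rw [← heq, h x hzL]
      exact Subgroup.le_centralizer (Subgroup.zpowers x)
    refine ⟨(MonoidHom.transferSylow P hN).ker, inferInstance, ?_, ?_⟩
    · have hc := (MonoidHom.ker_transferSylow_isComplement' P hN).index_eq_card
      exact fun hd => P.not_dvd_index (hc.symm ▸ hd)
    · rw [commutator_def, Subgroup.commutator_le]
      intro a _ b _
      rw [MonoidHom.mem_ker, map_commutatorElement, commutatorElement_eq_one_iff_mul_comm]
      have : IsCyclic ↥(P : Subgroup L) := heq ▸ inferInstance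
      let _ := IsCyclic.commGroup (α := ↥(P : Subgroup L))
      exact mul_comm _ _
  have hcomm : ∀ a b : L, a * b = b * a := by
    intro a b
    rw [← commutatorElement_eq_one_iff_mul_comm]
    by_contra hne
    obtain ⟨p, hp, hpd⟩ := Nat.exists_prime_and_dvd (fun h1 => hne (orderOf_eq_one_iff.1 h1))
    obtain ⟨K, -, hpK, hK⟩ := hpc p hp (hpd.trans (orderOf_dvd_natCard _))
    have hmem : ⁅a, b⁆ ∈ K := hK (Subgroup.commutator_mem_commutator (Subgroup.mem_top a) (Subgroup.mem_top b))
    exact hpK (hpd.trans (Subgroup.orderOf_mk ⁅a, b⁆ hmem ▸ orderOf_dvd_natCard (⟨_, hmem⟩ : ↥K)))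
  obtain ⟨p, hp, hpd⟩ := Nat.exists_prime_and_dvd (Finite.one_lt_card (α := L)).ne'
  have := Fact.mk hp
  obtain ⟨x, hx⟩ := exists_prime_orderOf_dvd_card' p hpd
  have hx1 : x ≠ 1 := fun e => hp.one_lt.ne' (by rw [← hx, e, orderOf_one])
  have htop : Subgroup.zpowers x = ⊤ := by
    rw [← h x hx1]
    have hn : (Subgroup.zpowers x).Normal := ⟨fun n hn g => by rw [hcomm g n, mul_inv_cancel_right]; exact hn⟩
    exact Subgroup.normalizer_eq_top_iff.2 hn
  rw [← Subgroup.card_top (G := L), ← htop, Nat.card_zpowers, hx]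
  exact hp

/-- subgroups between an abelian normal centraliser and `G` -/
theorem selfnormalizing_mod {G : Type*} [Group G] [Finite G]
    (hS : ∀ H : Subgroup G, ¬ IsMulCommutative H → Subgroup.normalizer (H : Set G) = H)
    (L : Subgroup G) (Q : Subgroup G)
    (C : Subgroup ↥L) [C.Normal] (hC : C = (Subgroup.centralizer (Q : Set G)).subgroupOf L)
    (hQC : Q ≤ L) (hQab : Q ≤ Subgroup.centralizer (Q : Set G)) :
    ∀ c : ↥L ⧸ C, c ≠ 1 →
      Subgroup.normalizer ((Subgroup.zpowers c : Subgroup (↥L ⧸ C)) : Set (↥L ⧸ C)) = Subgroup.zpowers c := by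
  intro c hc
  obtain ⟨x, rfl⟩ := QuotientGroup.mk'_surjective C c
  set f := QuotientGroup.mk' C with hf
  set H := (Subgroup.zpowers (f x)).comap f with hH
  have hCH : C ≤ H := by
    intro a ha
    rw [hH, Subgroup.mem_comap, show f a = 1 from (QuotientGroup.eq_one_iff a).2 ha]
    exact one_mem _
  have hxH : x ∈ H := Subgroup.mem_zpowers (f x)
  have hna : ¬ IsMulCommutative ↥(H.map L.subtype) := by
    intro hcm
    apply hc
    rw [hf, QuotientGroup.mk'_apply, QuotientGroup.eq_one_iff, hC, Subgroup.mem_subgroupOf,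
      Subgroup.mem_centralizer_iff]
    intro q hq
    have hqH : q ∈ H.map L.subtype :=
      ⟨⟨q, hQC hq⟩, hCH (by rw [hC, Subgroup.mem_subgroupOf]; exact hQab hq), rfl⟩
    exact congrArg Subtype.val (hcm.is_comm.comm (⟨q, hqH⟩ : ↥(H.map L.subtype)) ⟨x, x, hxH, rfl⟩)
  have h1 := hS _ hna
  have h2 : Subgroup.normalizer (H : Set ↥L) = H := by
    refine le_antisymm (fun a ha => ?_) Subgroup.le_normalizer
    have h3 : (a : G) ∈ Subgroup.normalizer ((H.map L.subtype : Subgroup G) : Set G) :=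
      Subgroup.le_normalizer_map L.subtype (Subgroup.mem_map_of_mem L.subtype ha)
    rw [h1] at h3
    obtain ⟨b, hb, hba⟩ := h3
    rwa [← show b = a from Subtype.ext hba]
  rw [hH, ← Subgroup.comap_normalizer_eq_of_surjective _ (QuotientGroup.mk'_surjective C)] at h2
  exact Subgroup.comap_injective (QuotientGroup.mk'_surjective C) h2

theorem main {G : Type*} [Group G] [Finite G]
    (hS : ∀ H : Subgroup G, ¬ IsMulCommutative H → Subgroup.normalizer (H : Set G) = H) :
    Group.IsSolvable G ∨ IsSimpleGroup G := by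
  classical
  by_contra hcon
  push Not at hcon
  obtain ⟨hns, hnsimp⟩ := hcon
  have hab : ∀ N : Subgroup G, N.Normal → N ≠ ⊤ → IsMulCommutative ↥N := by
    intro N hN hNt
    by_contra hna
    exact hNt ((hS N hna).symm.trans (Subgroup.normalizer_eq_top_iff.2 hN))
  have hsolv : ∀ N : Subgroup G, ∀ _ : N.Normal, N ≠ ⊤ → ¬ Group.IsSolvable (G ⧸ N) := by
    intro N _ hNt hq
    have hN : Group.IsSolvable ↥N := Group.isSolvable_of_comm (hab N inferInstance hNt).is_comm.comm
    exact hns (Group.isSolvable_of_ker_le_range N.subtype (QuotientGroup.mk' N)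
      (by rw [QuotientGroup.ker_mk', Subgroup.range_subtype]))
  have hperf : commutator G = ⊤ := by
    by_contra h
    exact hsolv (commutator G) inferInstance h
      (Group.isSolvable_of_comm (fun a b => (inferInstance : CommGroup (Abelianization G)).mul_comm a b))
  have hnt : Nontrivial G := by
    by_contra h
    rw [not_nontrivial_iff_subsingleton] at h
    exact hns inferInstance
  obtain ⟨N, hNn, hN1, hNt⟩ : ∃ N : Subgroup G, N.Normal ∧ N ≠ ⊥ ∧ N ≠ ⊤ := by
    by_contra hall
    push Not at hall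
    exact hnsimp ⟨fun H hH => or_iff_not_imp_left.2 (hall H hH)⟩
  have hNab := hab N hNn hNt
  have hNC : N ≤ Subgroup.centralizer (N : Set G) := fun a ha =>
    Subgroup.mem_centralizer_iff.2 fun b hb => congrArg Subtype.val (hNab.is_comm.comm (⟨b, hb⟩ : ↥N) ⟨a, ha⟩)
  have hCn : (Subgroup.centralizer (N : Set G)).Normal := by infer_instance
  -- `N` is central
  have hNZ : N ≤ Subgroup.center G := by
    by_contra hNZ
    have hCt : Subgroup.centralizer (N : Set G) ≠ ⊤ := by
      intro ht
      exact hNZ (Subgroup.centralizer_eq_top_iff_subset.1 ht)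
    let C : Subgroup ↥(⊤ : Subgroup G) := (Subgroup.centralizer (N : Set G)).subgroupOf ⊤
    have : C.Normal := Subgroup.normal_subgroupOf
    have h := selfnormalizing_mod hS ⊤ N C rfl le_top hNC
    have hnt' : Nontrivial (↥(⊤ : Subgroup G) ⧸ C) := by
      rw [QuotientGroup.nontrivial_iff, Ne, Subgroup.subgroupOf_eq_top]
      exact fun hle => hCt (top_le_iff.1 hle)
    have hp := prime_card_of_cyclic_selfnormalizing h
    apply hns
    have hCs : Group.IsSolvable ↥C := by
      have hc := hab _ hCn hCt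
      refine Group.isSolvable_of_comm fun a b => ?_
      have h1 := congrArg Subtype.val
        (hc.is_comm.comm (⟨((a : ↥(⊤ : Subgroup G)) : G), a.2⟩ : ↥(Subgroup.centralizer (N : Set G)))
          ⟨((b : ↥(⊤ : Subgroup G)) : G), b.2⟩)
      simp only [Subtype.ext_iff, Subgroup.coe_mul] at h1 ⊢
      exact h1
    have : Fact (Nat.card (↥(⊤ : Subgroup G) ⧸ C)).Prime := ⟨hp⟩
    have hqs : Group.IsSolvable (↥(⊤ : Subgroup G) ⧸ C) :=
      Cfsg.Agent.S3903.pgroup_solvable (IsPGroup.of_card (n := 1) (pow_one _).symm)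
    have htop : Group.IsSolvable ↥(⊤ : Subgroup G) :=
      Group.isSolvable_of_ker_le_range C.subtype (QuotientGroup.mk' C)
        (by rw [QuotientGroup.ker_mk', Subgroup.range_subtype])
    exact Group.isSolvable_of_surjective (f := (⊤ : Subgroup G).subtype) (fun g => ⟨⟨g, trivial⟩, rfl⟩)
  -- some Sylow subgroup is nonabelian
  obtain ⟨p, hp, P, hPna⟩ : ∃ (p : ℕ) (_ : Fact p.Prime) (P : Sylow p G), ¬ IsMulCommutative ↥(P : Subgroup G) := by
    by_contra hall
    push Not at hall
    obtain ⟨z, hzN, hz1⟩ := (Subgroup.ne_bot_iff_exists_ne_one.1 hN1).elim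
      fun x hx => (⟨x.1, x.2, fun e => hx (Subtype.ext e)⟩ : ∃ z, z ∈ N ∧ z ≠ 1)
    obtain ⟨p, hp, hpd⟩ := Nat.exists_prime_and_dvd (fun h1 => hz1 (orderOf_eq_one_iff.1 h1))
    have := Fact.mk hp
    set w := z ^ (orderOf z / p) with hw
    have hwo : orderOf w = p := orderOf_pow_orderOf_div (orderOf_pos z).ne' hpd
    obtain ⟨P, hP⟩ := (IsPGroup.of_card (n := 1) (by rw [Nat.card_zpowers, pow_one, hwo]) :
      IsPGroup p ↥(Subgroup.zpowers w)).exists_le_sylow
    have := hall p this P
    have h1 := Cfsg.Lib.Fusion.inf_commutator_inf_center_eq_bot_sylow P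
    rw [hperf, inf_top_eq] at h1
    have hmem : w ∈ (P : Subgroup G) ⊓ Subgroup.center G :=
      ⟨hP (Subgroup.mem_zpowers w), Subgroup.pow_mem _ (hNZ hzN) _⟩
    rw [h1, Subgroup.mem_bot] at hmem
    rw [hmem, orderOf_one] at hwo
    exact hp.one_lt.ne hwo
  have hfr : Cfsg.HasNormalPComplement p G := by
    refine (Cfsg.Lib.Fusion.frobenius P).2 fun Q hQP g hg hco => ?_
    by_cases hQab : IsMulCommutative ↥Q
    swap
    · have h1 : g ∈ Q := hS Q hQab ▸ hg
      obtain ⟨j, hj⟩ := IsPGroup.iff_orderOf.1 (P.isPGroup'.to_le hQP) ⟨g, h1⟩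
      rw [Subgroup.orderOf_mk] at hj
      rcases j with _ | j
      · rw [pow_zero, orderOf_eq_one_iff] at hj
        rw [hj]; exact one_mem _
      · rw [hj] at hco
        exact absurd ((Nat.coprime_pow_left_iff (by omega) p p).1 hco) fun h' =>
          (Fact.out : p.Prime).one_lt.ne' ((Nat.coprime_self p).1 h')
    have hQC : Q ≤ Subgroup.centralizer (Q : Set G) := fun a ha =>
      Subgroup.mem_centralizer_iff.2 fun b hb => congrArg Subtype.val (hQab.is_comm.comm (⟨b, hb⟩ : ↥Q) ⟨a, ha⟩)
    set C := Subgroup.centralizer (Q : Set G) with hC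
    by_cases hCab : IsMulCommutative ↥C
    swap
    · have h1 : g ∈ Subgroup.normalizer (C : Set G) := by
        rw [Subgroup.mem_normalizer_iff]
        intro a
        rw [hC, Subgroup.mem_centralizer_iff, Subgroup.mem_centralizer_iff]
        constructor
        · intro ha q hq
          have h2 := ha (g⁻¹ * q * g) (by
            have := (Subgroup.mem_normalizer_iff.1 (Subgroup.inv_mem _ hg) q).1 hq
            simpa using this)
          have h3 := congrArg (fun t => g * t * g⁻¹) h2
          simpa [mul_assoc] using h3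
        · intro ha q hq
          have h2 := ha (g * q * g⁻¹) ((Subgroup.mem_normalizer_iff.1 hg q).1 hq)
          have h3 := congrArg (fun t => g⁻¹ * t * g) h2
          simpa [mul_assoc] using h3
      rwa [hS C hCab] at h1
    by_contra hgC
    -- the Sylow subgroup of the abelian group `C`
    let S₀ : Sylow p ↥C := default
    set A := (S₀ : Subgroup ↥C).map C.subtype with hA
    have hAC : A ≤ C := Subgroup.map_subtype_le _
    have hQA : Q ≤ A := by
      have hn : (S₀ : Subgroup ↥C).Normal := ⟨fun a ha b => by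
        rw [hCab.is_comm.comm b a, mul_inv_cancel_right]; exact ha⟩
      obtain ⟨S₁, hS₁⟩ := ((P.isPGroup'.to_le hQP).comap_subtype : IsPGroup p ↥(Q.subgroupOf C)).exists_le_sylow
      have := Sylow.unique_of_normal S₀ hn
      intro a ha
      exact ⟨⟨a, hQC ha⟩, by rw [Subsingleton.elim S₀ S₁]; exact hS₁ (show (⟨a, hQC ha⟩ : ↥C) ∈ Q.subgroupOf C from ha), rfl⟩
    have hAp : IsPGroup p ↥A := S₀.isPGroup'.map _
    have hAab : A ≤ Subgroup.centralizer (A : Set G) := fun a ha =>
      Subgroup.mem_centralizer_iff.2 fun b hb =>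
        congrArg Subtype.val (hCab.is_comm.comm (⟨b, hAC hb⟩ : ↥C) ⟨a, hAC ha⟩)
    have hCA : Subgroup.centralizer (A : Set G) ≤ C := Subgroup.centralizer_le hQA
    set M := Subgroup.normalizer (A : Set G) with hM
    have hgM : g ∈ M := by
      rw [hM, Subgroup.mem_normalizer_iff_map_conj_eq]
      have hn : (S₀ : Subgroup ↥C).Normal := ⟨fun a ha b => by
        rw [hCab.is_comm.comm b a, mul_inv_cancel_right]; exact ha⟩
      have hgC' : ∀ a ∈ C, g * a * g⁻¹ ∈ C := by
        intro a ha
        rw [hC, Subgroup.mem_centralizer_iff] at ha ⊢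
        intro q hq
        have h2 := ha (g⁻¹ * q * g) (by
          have := (Subgroup.mem_normalizer_iff.1 (Subgroup.inv_mem _ hg) q).1 hq
          simpa using this)
        have h3 := congrArg (fun t => g * t * g⁻¹) h2
        simpa [mul_assoc] using h3
      refine Subgroup.eq_of_le_of_card_ge ?_ ?_
      · rintro _ ⟨a, ⟨a', ha', rfl⟩, rfl⟩
        have hmem : g * (a' : G) * g⁻¹ ∈ C := hgC' a' a'.2
        obtain ⟨S₁, hS₁⟩ := (IsPGroup.of_card (n := (orderOf (⟨_, hmem⟩ : ↥C)).factorization p) (by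
          obtain ⟨j, hj⟩ := IsPGroup.iff_orderOf.1 S₀.isPGroup' ⟨a', ha'⟩
          rw [Subgroup.orderOf_mk, ← Subgroup.orderOf_coe] at hj
          rw [Nat.card_zpowers, Subgroup.orderOf_mk,
            show g * (a' : G) * g⁻¹ = MulAut.conj g (a' : G) from rfl, MulEquiv.orderOf_eq, hj,
            (Fact.out : p.Prime).factorization_pow]
          simp) : IsPGroup p ↥(Subgroup.zpowers (⟨_, hmem⟩ : ↥C))).exists_le_sylow
        have := Sylow.unique_of_normal S₀ hn
        exact ⟨⟨_, hmem⟩, by rw [Subsingleton.elim S₀ S₁]; exact hS₁ (Subgroup.mem_zpowers _), rfl⟩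
      · exact le_of_eq (Nat.card_congr (A.equivMapOfInjective _ (MulAut.conj g).injective).toEquiv)
    obtain ⟨P₁, hP₁⟩ := hAp.exists_le_sylow
    have hlt : A < (P₁ : Subgroup G) := by
      refine lt_of_le_of_ne hP₁ fun e => hPna ?_
      obtain ⟨d, rfl⟩ := MulAction.exists_smul_eq G P₁ P
      refine ⟨⟨fun u v => Subtype.ext ?_⟩⟩
      obtain ⟨u, hu⟩ := u
      obtain ⟨v, hv⟩ := v
      rw [Sylow.coe_subgroup_smul, Subgroup.mem_pointwise_smul_iff_inv_smul_mem] at hu hv
      have h1 := Subgroup.mem_centralizer_iff.1 (hAab (e.ge hv)) _ (e.ge hu)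
      have h2 := congrArg (fun t => d * t * d⁻¹) h1
      simpa [mul_assoc] using h2
    obtain ⟨y, hy, hyA⟩ := SetLike.exists_of_lt (Cfsg.Lib.Fusion.lt_inf_normalizer P₁.isPGroup' hlt)
    let C' : Subgroup ↥M := (Subgroup.centralizer (A : Set G)).subgroupOf M
    have : C'.Normal := ⟨fun a ha b => by
      rw [Subgroup.mem_subgroupOf, Subgroup.mem_centralizer_iff] at ha ⊢
      intro q hq
      have h2 := ha ((b : G)⁻¹ * q * b) (by
        have := (Subgroup.mem_normalizer_iff.1 (Subgroup.inv_mem _ b.2) q).1 hq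
        simpa using this)
      have h3 := congrArg (fun t => (b : G) * t * (b : G)⁻¹) h2
      simpa [mul_assoc] using h3⟩
    have hsn := selfnormalizing_mod hS M A C' rfl Subgroup.le_normalizer hAab
    let f := QuotientGroup.mk' C'
    have hf1 : ∀ a : ↥M, f a = 1 → (a : G) ∈ C := fun a ha => hCA ((QuotientGroup.eq_one_iff a).1 ha)
    have hfg : f ⟨g, hgM⟩ ≠ 1 := fun h1 => hgC (hf1 _ h1)
    have : Nontrivial (↥M ⧸ C') := ⟨⟨_, _, hfg⟩⟩
    have hpr := prime_card_of_cyclic_selfnormalizing hsn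
    obtain ⟨j, hj⟩ := IsPGroup.iff_orderOf.1 P₁.isPGroup' ⟨y, hy.1⟩
    rw [Subgroup.orderOf_mk] at hj
    have hfy : f ⟨y, hy.2⟩ ≠ 1 := by
      intro h1
      have hyC : y ∈ C := hf1 _ h1
      refine hyA ?_
      have hn : (S₀ : Subgroup ↥C).Normal := ⟨fun a ha b => by
        rw [hCab.is_comm.comm b a, mul_inv_cancel_right]; exact ha⟩
      obtain ⟨S₁, hS₁⟩ := (IsPGroup.of_card (n := j) (by rw [Nat.card_zpowers, Subgroup.orderOf_mk, hj]) :
        IsPGroup p ↥(Subgroup.zpowers (⟨y, hyC⟩ : ↥C))).exists_le_sylow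
      have := Sylow.unique_of_normal S₀ hn
      exact ⟨⟨y, hyC⟩, by rw [Subsingleton.elim S₀ S₁]; exact hS₁ (Subgroup.mem_zpowers _), rfl⟩
    have hog : orderOf (f ⟨g, hgM⟩) = Nat.card (↥M ⧸ C') :=
      ((Nat.dvd_prime hpr).1 (orderOf_dvd_natCard _)).resolve_left fun h1 => hfg (orderOf_eq_one_iff.1 h1)
    have hoy : orderOf (f ⟨y, hy.2⟩) = Nat.card (↥M ⧸ C') :=
      ((Nat.dvd_prime hpr).1 (orderOf_dvd_natCard _)).resolve_left fun h1 => hfy (orderOf_eq_one_iff.1 h1)
    have h1 : Nat.card (↥M ⧸ C') ∣ orderOf g := hog ▸ (orderOf_map_dvd f _).trans (by rw [Subgroup.orderOf_mk])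
    have h2 : Nat.card (↥M ⧸ C') ∣ p ^ j := hoy ▸ (orderOf_map_dvd f _).trans (by rw [Subgroup.orderOf_mk, hj])
    exact hpr.one_lt.ne' (Nat.eq_one_of_dvd_coprimes (hco.pow_right j) h1 h2)
  obtain ⟨P', K, hK, hc⟩ := hfr
  have hK1 : K ≠ ⊤ := by
    intro h
    obtain ⟨d, rfl⟩ := MulAction.exists_smul_eq G P' P
    have h0 : Nat.card ↥(P' : Subgroup G) = 1 := by rw [← hc.symm.index_eq_card, h, Subgroup.index_top]
    have h1 : Nat.card ↥((d • P' : Sylow p G) : Subgroup G) = 1 := by
      rw [(d • P' : Sylow p G).card_eq_multiplicity, ← P'.card_eq_multiplicity, h0]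
    exact hPna ⟨⟨fun u v => (Nat.card_eq_one_iff_unique.1 h1).1.elim _ _⟩⟩
  exact hsolv K hK hK1 (Cfsg.Agent.S3903.pgroup_solvable
    (IsPGroup.of_card (n := (Nat.card G).factorization p)
      (show K.index = _ by rw [hc.symm.index_eq_card, P'.card_eq_multiplicity])))


/-- A finite group in which every non-abelian subgroup is self-normalizing is solvable or simple. -/
theorem result {G : Type*} [Group G] [Finite G] (hS : ∀ H : Subgroup G, ¬ IsMulCommutative H → Subgroup.normalizer (H : Set G) = H) :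
    Group.IsSolvable G ∨ IsSimpleGroup G := by
  exact main hS

end Cfsg.Agent.S4072
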