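import Cfsg.Statements.S4073
import Cfsg.Agent.Lib.SelfNormNA.Forward
import Cfsg.Agent.Lib.SelfNormNA.Converse

set_option autoImplicit false
open Cfsg

namespace Cfsg.Agent.S4073

/-- Let G be a finite non-abelian simple group. Every non-abelian subgroup of G is self-normalizing if and only if G is isomorphic to PSL₂(2ⁿ) for some n ≥ 2 with 2ⁿ − 1 prime (this includes the alternating group of degree 5 as PSL₂(4)). -/
theorem result {G : Type*} [Group G] [Finite G] [IsSimpleGroup G]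
    (hna : ¬ IsMulCommutative G) :
    (∀ H : Subgroup G, ¬ IsMulCommutative H → Subgroup.normalizer (H : Set G) = H) ↔
    ∃ n : ℕ, 2 ≤ n ∧ (2 ^ n - 1).Prime ∧ Nonempty (G ≃* Matrix.ProjectiveSpecialLinearGroup (Fin 2) (GaloisField 2 n)) := by
  refine ⟨fun h => Cfsg.Lib.SelfNormNA.forward hna (Cfsg.Lib.SelfNormNA.sn_of_normalizer h), ?_⟩
  rintro ⟨n, hn2, hp, ⟨e⟩⟩ H hH
  haveI : Fact (Nat.Prime 2) := ⟨Nat.prime_two⟩
  letI : Fintype (GaloisField 2 n) := Fintype.ofFinite _
  have hsn : Cfsg.Lib.SelfNormNA.SN G :=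
    (Cfsg.Lib.SelfNormNA.sn_psl (F := GaloisField 2 n) n
      (by rw [← Nat.card_eq_fintype_card, GaloisField.card 2 n (by omega)]) hn2 hp).congr e.symm
  refine le_antisymm (fun g hg => hsn H (fun hc => hH (Cfsg.Lib.SelfNormNA.comm_iff.mp hc)) g fun x hx => ?_)
    Subgroup.le_normalizer
  exact (Subgroup.mem_normalizer_iff.mp hg x).mp hx

end Cfsg.Agent.S4073
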