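import Cfsg.Statements.S4074
import Mathlib.GroupTheory.SpecificGroups.Dihedral
import Mathlib.Tactic.LinearCombination
-- import your own Cfsg.Agent.* helpers here

set_option autoImplicit false
open Cfsg

namespace Cfsg.Agent.S4074

open DihedralGroup

theorem exists_sr {n : ℕ} (H : Subgroup (DihedralGroup n)) (h : ¬ IsCyclic H) :
    ∃ i, (sr i : DihedralGroup n) ∈ H := by
  by_contra hn
  push Not at hn
  apply h
  have hle : H ≤ Subgroup.zpowers (r 1 : DihedralGroup n) := by
    intro x hx
    rcases x with a | a
    · exact ⟨(a.cast : ℤ), by simp⟩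
    · exact absurd hx (hn a)
  exact isCyclic_of_injective (Subgroup.inclusion hle) (Subgroup.inclusion_injective hle)

theorem exists_r {n : ℕ} (H : Subgroup (DihedralGroup n)) (h : ¬ IsCyclic H) :
    ∃ d, d ≠ 0 ∧ (r d : DihedralGroup n) ∈ H := by
  by_contra hn
  push Not at hn
  obtain ⟨i, hi⟩ := exists_sr H h
  apply h
  have hle : H ≤ Subgroup.zpowers (sr i : DihedralGroup n) := by
    intro x hx
    rcases x with a | a
    · by_cases ha : a = 0
      · subst ha; exact one_mem _
      · exact absurd hx (hn a ha)
    · have := mul_mem hi hx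
      rw [sr_mul_sr] at this
      have ha : a - i = 0 := by
        by_contra ha
        exact hn _ ha this
      rw [sub_eq_zero.mp ha]
      exact Subgroup.mem_zpowers _
  exact isCyclic_of_injective (Subgroup.inclusion hle) (Subgroup.inclusion_injective hle)

/-- Rotations and reflections with parameter divisible by `m`. -/
def levelSub (n m : ℕ) (h : m ∣ n) : Subgroup (DihedralGroup n) where
  carrier := {x | match x with
    | r i => ZMod.castHom h (ZMod m) i = 0
    | sr i => ZMod.castHom h (ZMod m) i = 0}
  one_mem' := map_zero (ZMod.castHom h (ZMod m))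
  mul_mem' := by
    rintro (a | a) (b | b) ha hb <;>
      simp only [Set.mem_setOf_eq, r_mul_r, r_mul_sr, sr_mul_r, sr_mul_sr] at ha hb ⊢ <;>
      simp only [map_add, map_sub, ha, hb, add_zero, sub_zero]
  inv_mem' := by
    rintro (a | a) ha <;> simp only [Set.mem_setOf_eq, inv_r, inv_sr] at ha ⊢
    · rw [map_neg, ha, neg_zero]
    · exact ha

theorem mem_levelSub_r {n m : ℕ} (h : m ∣ n) (i : ZMod n) :
    (r i : DihedralGroup n) ∈ levelSub n m h ↔ ZMod.castHom h (ZMod m) i = 0 := Iff.rfl

theorem mem_levelSub_sr {n m : ℕ} (h : m ∣ n) (i : ZMod n) :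
    (sr i : DihedralGroup n) ∈ levelSub n m h ↔ ZMod.castHom h (ZMod m) i = 0 := Iff.rfl

theorem not_comm {n m : ℕ} (h : m ∣ n) (hm : ¬ n ∣ 2 * m) :
    ¬ IsMulCommutative (levelSub n m h) := by
  intro hc
  have hr : (r (m : ZMod n) : DihedralGroup n) ∈ levelSub n m h := by
    rw [mem_levelSub_r, map_natCast, ZMod.natCast_self]
  have hs : (sr 0 : DihedralGroup n) ∈ levelSub n m h := by rw [mem_levelSub_sr, map_zero]
  have := setLike_mul_comm hr hs
  simp only [r_mul_sr, sr_mul_r, sr.injEq, zero_sub, zero_add] at this
  apply hm
  rw [← ZMod.natCast_eq_zero_iff, Nat.cast_mul, Nat.cast_ofNat, two_mul]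
  exact neg_eq_iff_add_eq_zero.mp this


/-- For n > 2, every non-abelian subgroup of the dihedral group of order 2n is self-normalizing if and only if n = 4 or n is odd. -/
theorem result (n : ℕ) (hn : 2 < n) :
    (∀ H : Subgroup (DihedralGroup n), ¬ IsMulCommutative H → Subgroup.normalizer (H : Set (DihedralGroup n)) = H) ↔
    (n = 4 ∨ Odd n) := by
  classical
  have : NeZero n := ⟨by omega⟩
  constructor
  · intro h
    by_contra hn'
    push Not at hn'
    obtain ⟨hn4, hne⟩ := hn'
    obtain ⟨c, hc⟩ := Nat.not_odd_iff_even.mp hne
    have h2 : 2 ∣ n := ⟨c, by omega⟩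
    have hnc := not_comm h2 (by
      intro h'
      have := Nat.le_of_dvd (by norm_num) h'
      omega)
    have hself := h _ hnc
    have hmem : (r 1 : DihedralGroup n) ∈ Subgroup.normalizer (levelSub n 2 h2 : Set (DihedralGroup n)) := by
      rw [Subgroup.mem_normalizer_iff]
      rintro (a | a)
      · simp only [inv_r, r_mul_r, mem_levelSub_r, map_add, map_neg]
        rw [add_neg_cancel_comm]
      · simp only [inv_r, r_mul_sr, sr_mul_r, mem_levelSub_sr, map_add, map_sub, map_neg, map_one]
        generalize ZMod.castHom h2 (ZMod 2) a = b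
        revert b; decide
    rw [hself, mem_levelSub_r, map_one] at hmem
    exact one_ne_zero hmem
  · intro hn' H hH
    refine le_antisymm ?_ Subgroup.le_normalizer
    have hnc : ¬ IsCyclic H := fun _ => hH inferInstance
    obtain ⟨i, hi⟩ := exists_sr H hnc
    rcases hn' with rfl | hodd
    · -- the only non-abelian subgroup is the whole group
      have hd : ∃ d : ZMod 4, (r d : DihedralGroup 4) ∈ H ∧ d + d ≠ 0 := by
        by_contra hd
        push Not at hd
        apply hH
        refine ⟨⟨fun a b => Subtype.ext ?_⟩⟩
        obtain ⟨a, ha⟩ := a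
        obtain ⟨b, hb⟩ := b
        change a * b = b * a
        rcases a with a | a <;> rcases b with b | b <;>
          simp only [r_mul_r, r_mul_sr, sr_mul_r, sr_mul_sr, r.injEq, sr.injEq]
        · rw [add_comm]
        · have := hd a ha
          linear_combination -this
        · have := hd b hb
          linear_combination this
        · have h' := mul_mem ha hb
          rw [sr_mul_sr] at h'
          have := hd _ h'
          linear_combination this
      obtain ⟨d, hd, hd2⟩ := hd
      intro x _
      have hr : ∀ a : ZMod 4, (r a : DihedralGroup 4) ∈ H := by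
        intro a
        have h1 : a = d * (d * a).val := by
          rw [ZMod.natCast_zmod_val, ← mul_assoc,
            (by decide : ∀ d : ZMod 4, d + d ≠ 0 → d * d = 1) d hd2, one_mul]
        rw [h1, ← r_pow]
        exact pow_mem hd _
      rcases x with a | a
      · exact hr a
      · have := mul_mem hi (hr (a - i))
        rwa [sr_mul_r, add_sub_cancel] at this
    · have hr : ∀ k : ZMod n, (r k : DihedralGroup n) ∈ Subgroup.normalizer (H : Set (DihedralGroup n)) →
          (r k : DihedralGroup n) ∈ H := by
        intro k hk
        have h1 := mul_mem ((Subgroup.mem_normalizer_iff.mp hk _).mp hi) hi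
        simp only [inv_r, r_mul_sr, sr_mul_r, sr_mul_sr] at h1
        obtain ⟨c, hc⟩ := hodd
        have h2 := pow_mem h1 (c + 1)
        rw [r_pow] at h2
        convert h2 using 2
        have hn0 : ((2 * c + 1 : ℕ) : ZMod n) = 0 := by rw [← hc]; exact ZMod.natCast_self n
        push_cast at hn0 ⊢
        linear_combination -k * hn0
      intro x hx
      rcases x with a | a
      · exact hr a hx
      · have h1 := hr (i - a) (by
          have := mul_mem hx (Subgroup.le_normalizer hi)
          rwa [sr_mul_sr] at this)
        have := mul_mem hi (inv_mem h1)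
        simpa [inv_r, sr_mul_r] using this

end Cfsg.Agent.S4074
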