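import Cfsg.Statements.S4075
import Mathlib.Tactic.Group
import Mathlib.GroupTheory.Sylow
import Mathlib.GroupTheory.Nilpotent
-- import your own Cfsg.Agent.* helpers here

set_option autoImplicit false
open Cfsg

namespace Cfsg.Agent.S4075

open Subgroup

/-- Let G be a finite nilpotent group. Every non-abelian subgroup of G is self-normalizing if and only if G is abelian or G is a minimal non-abelian p-group for some prime p (non-abelian of prime-power order with every proper subgroup abelian). -/
theorem result {G : Type*} [Group G] [Finite G]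
    [Group.IsNilpotent G] :
    (∀ H : Subgroup G, ¬ IsMulCommutative H → Subgroup.normalizer (H : Set G) = H) ↔
    (IsMulCommutative G ∨ (IsPrimePow (Nat.card G) ∧ ¬ IsMulCommutative G ∧ ∀ H : Subgroup G, H ≠ ⊤ → IsMulCommutative H)) := by
  constructor
  · intro h
    by_cases hab : IsMulCommutative G
    · exact Or.inl hab
    refine Or.inr ⟨?_, hab, fun H hH => ?_⟩
    swap
    · by_contra hna
      exact (normalizerCondition_iff_only_full_group_self_normalizing.mp Group.normalizerCondition_of_isNilpotent H (h H hna) |> hH)
    · have hall : ∀ H : Subgroup G, H ≠ ⊤ → IsMulCommutative H := fun H hH => by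
        by_contra hna
        exact hH (normalizerCondition_iff_only_full_group_self_normalizing.mp Group.normalizerCondition_of_isNilpotent H (h H hna))
      have h1 : Nat.card G ≠ 1 := fun h1 => hab
        ⟨⟨fun a b => by rw [(Nat.card_eq_one_iff_unique.mp h1).1.elim a b]⟩⟩
      rw [isPrimePow_iff_unique_prime_dvd]
      obtain ⟨p, hp, hpd⟩ := Nat.exists_prime_and_dvd h1
      refine ⟨p, ⟨hp, hpd⟩, fun q ⟨hq, hqd⟩ => ?_⟩
      by_contra hqp
      apply hab
      -- every Sylow subgroup is proper, so abelian
      have hS : ∀ (r : ℕ) [Fact r.Prime] (S : Sylow r G), IsMulCommutative (S : Subgroup G) := fun r hr S => by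
        refine hall _ fun htop => ?_
        obtain ⟨k, hk⟩ := IsPGroup.iff_card.mp S.isPGroup'
        rw [htop, card_top] at hk
        have e1 := (Nat.prime_dvd_prime_iff_eq hp hr.out).mp (hp.dvd_of_dvd_pow (hk ▸ hpd))
        have e2 := (Nat.prime_dvd_prime_iff_eq hq hr.out).mp (hq.dvd_of_dvd_pow (hk ▸ hqd))
        exact hqp (e2.trans e1.symm)
      obtain ⟨e⟩ := ((Group.isNilpotent_of_finite_tfae (G := G)).out 0 4 rfl rfl).mp inferInstance
      refine ⟨⟨fun a b => e.symm.injective ?_⟩⟩
      rw [map_mul, map_mul]
      funext r S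
      have := Fact.mk (Nat.prime_of_mem_primeFactors r.2)
      exact (hS r S).is_comm.comm _ _
  · rintro (hab | ⟨-, -, hmin⟩) H hna
    · exact absurd ⟨⟨fun a b => Subtype.ext (hab.is_comm.comm (a : G) b)⟩⟩ hna
    · have htop : H = ⊤ := by_contra fun h => hna (hmin H h)
      rw [htop]; exact normalizer_eq_top_iff.mpr inferInstance

end Cfsg.Agent.S4075
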