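import Cfsg.Statements.S4079
import Cfsg.Agent.Lib.PGroup.Huppert
import Cfsg.Agent.Lib.PGroup.Noncyclic
import Cfsg.Agent.Lib.PGroup.DerivedLength
-- import your own Cfsg.Agent.* helpers here

set_option autoImplicit false
open Cfsg

namespace Cfsg.Agent.S4079

open Subgroup Cfsg.Lib.PGroup.Regular Cfsg.Lib.PGroup.DerivedLength
open Cfsg.Lib.Lie (lcs)
open scoped commutatorElement

universe u

section Class

variable {X : Type u} [Group X] [Finite X] {p : ℕ} [hp : Fact p.Prime]

/-- The lower central series of a finite `p`-group strictly decreases. -/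
theorem lg_lcs_succ_lt (hX : IsPGroup p X) {k : ℕ} (hk : lcs X k ≠ ⊥) :
    lg p (lcs X (k + 1)) < lg p (lcs X k) := by
  refine lg_lt hX (lt_of_le_of_ne (Cfsg.Lib.Lie.lcs_anti (by omega)) fun h => hk ?_)
  exact eq_bot_of_le_commutator hX h.ge

theorem lg_bot_eq : lg p (⊥ : Subgroup X) = 0 := by rw [lg, Subgroup.card_bot, Nat.log_one_right]

theorem lg_lcs_le (hX : IsPGroup p X) {b : ℕ} (h1 : lg p (lcs X 1) ≤ b) :
    ∀ j, lg p (lcs X (1 + j)) ≤ b - j
  | 0 => by simpa using h1
  | j + 1 => by
    have ih := lg_lcs_le hX h1 j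
    by_cases hb : lcs X (1 + j) = ⊥
    · have h : lcs X (1 + (j + 1)) = ⊥ := le_bot_iff.1 (hb ▸ Cfsg.Lib.Lie.lcs_anti (by omega))
      rw [h, lg_bot_eq]
      exact Nat.zero_le _
    · have := lg_lcs_succ_lt hX hb
      rw [show 1 + (j + 1) = 1 + j + 1 by omega]
      omega

theorem lcs_eq_bot (hX : IsPGroup p X) {b : ℕ} (h1 : lg p (lcs X 1) ≤ b) :
    lcs X (1 + b) = ⊥ := by
  by_contra h
  have := one_le_lg hX h
  have := lg_lcs_le hX h1 b
  omega

/-- A group of order `p^n`, `n ≥ 3`, with an element with centraliser of order `p^2` has class `n - 1`. -/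
theorem class_of_card_centralizer {n : ℕ} (hn : 3 ≤ n) (hX : Nat.card X = p ^ n) {x : X}
    (hx : Nat.card (centralizer ({x} : Set X)) = p ^ 2) : Group.nilpotencyClass X = n - 1 := by
  have hP : IsPGroup p X := IsPGroup.of_card hX
  haveI := hP.isNilpotent
  set C := centralizer ({x} : Set X) with hC
  have hClg : lg p C = 2 := by rw [lg, hx, Nat.log_pow hp.out.one_lt]
  have htop : lg p (⊤ : Subgroup X) = n := by rw [lg, Subgroup.card_top, hX, Nat.log_pow hp.out.one_lt]
  have key : ∀ (N D : Subgroup X), (∀ g ∈ D, ⁅g, x⁆ ∈ N) → lg p D ≤ lg p N + 2 := by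
    intro N D hD
    let f : D → N := fun g => ⟨⁅(g : X), x⁆, hD g g.2⟩
    have hf : ∀ g h : D, f g = f h → ((g : X)⁻¹ * h) ∈ C := by
      intro g h he
      have he' : (g : X) * x * (g : X)⁻¹ * x⁻¹ = (h : X) * x * (h : X)⁻¹ * x⁻¹ := congrArg Subtype.val he
      have he'' := mul_right_cancel he'
      rw [hC, mem_centralizer_singleton_iff]
      calc (g : X)⁻¹ * h * x = (g : X)⁻¹ * ((h : X) * x * (h : X)⁻¹) * h := by group
        _ = (g : X)⁻¹ * ((g : X) * x * (g : X)⁻¹) * h := by rw [← he'']
        _ = x * ((g : X)⁻¹ * h) := by group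
    classical
    let r : N → D := fun b => if h : ∃ g, f g = b then h.choose else 1
    let F : D → N × C := fun g => (f g, ⟨((r (f g) : D) : X)⁻¹ * g, hf _ _ (by
      have h : ∃ g', f g' = f g := ⟨g, rfl⟩
      simp only [r, dif_pos h]
      exact h.choose_spec)⟩)
    have hF : Function.Injective F := by
      intro g h he
      have h1 := congrArg Prod.fst he
      have h2 : ((r (f g) : D) : X)⁻¹ * g = ((r (f h) : D) : X)⁻¹ * h := congrArg (fun z => (Prod.snd z).1) he
      rw [show f g = f h from h1] at h2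
      exact Subtype.ext (mul_left_cancel h2)
    have hle := Nat.card_le_card_of_injective F hF
    rw [Nat.card_prod, card_eq hP D, card_eq hP N, card_eq hP C, hClg, ← pow_add] at hle
    exact (Nat.pow_le_pow_iff_right hp.out.one_lt).1 hle
  have hmem : ∀ {k : ℕ} {g h : X}, g ∈ lcs X k → ⁅g, h⁆ ∈ lcs X (k + 1) := fun hg =>
    commutator_mem_commutator hg (mem_top _)
  have h1low : n ≤ lg p (lcs X 1) + 2 := by
    have := key (lcs X 1) ⊤ fun g _ => hmem (k := 0) (mem_top _)
    omega
  have h1up : lg p (lcs X 1) + 2 ≤ n := by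
    have hne : ⁅(⊤ : Subgroup X), (⊤ : Subgroup X)⁆ ≠ ⊥ := fun h => by
      have h0 : lcs X 1 = ⊥ := h
      rw [h0, lg_bot_eq] at h1low
      omega
    have := lg_derived_add_le hP (N := ⊤) (s := 0) le_rfl hne
    rw [htop] at this
    exact this
  have hx1 : x ∉ lcs X 1 := by
    intro hx1
    have := key (lcs X 2) ⊤ fun g _ => by
      rw [← commutatorElement_inv]; exact inv_mem (hmem (k := 1) hx1)
    have hne : lcs X 1 ≠ ⊥ := fun h => by rw [h, lg_bot_eq] at h1low; omega
    have h2 : lg p (lcs X 2) < lg p (lcs X 1) := lg_lcs_succ_lt hP hne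
    omega
  have hstep : ∀ k, lg p (lcs X (1 + k)) ≤ lg p (lcs X (1 + k + 1)) + 1 := by
    intro k
    set D := lcs X (1 + k) ⊔ zpowers x with hD
    have hlt : lcs X (1 + k) < D := by
      refine lt_of_le_of_ne le_sup_left fun h => hx1 ?_
      have : x ∈ lcs X (1 + k) := by rw [h]; exact mem_sup_right (mem_zpowers x)
      exact Cfsg.Lib.Lie.lcs_anti (by omega) this
    have h' := key (lcs X (1 + k + 1)) D fun g hg => by
      rw [hD, ← SetLike.mem_coe, Subgroup.normal_mul] at hg
      obtain ⟨b, hb, a, ha, rfl⟩ := hg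
      obtain ⟨i, rfl⟩ := mem_zpowers_iff.1 ha
      have e : ⁅b * x ^ i, x⁆ = ⁅b, x⁆ := by
        simp only [commutatorElement_def]
        group
      rw [e]
      exact hmem hb
    have := lg_lt hP hlt
    omega
  have hlow : ∀ k, n ≤ lg p (lcs X (1 + k)) + 2 + k := by
    intro k
    induction k with
    | zero => simpa using h1low
    | succ k ih =>
      have := hstep k
      rw [show 1 + (k + 1) = 1 + k + 1 by omega]
      omega
  refine le_antisymm ?_ ?_
  · rw [← Subgroup.lowerCentralSeries_eq_bot_iff_nilpotencyClass_le]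
    have := lcs_eq_bot hP (b := n - 2) (by omega)
    rwa [show 1 + (n - 2) = n - 1 by omega] at this
  · by_contra hc
    have h0 : lcs X (1 + (n - 3)) = ⊥ :=
      Subgroup.lowerCentralSeries_eq_bot_iff_nilpotencyClass_le.2 (by omega)
    have := hlow (n - 3)
    rw [h0, lg_bot_eq] at this
    omega

end Class

theorem chain {G : Type u} [Group G] (a : MulAut G) {y u v z : G} (hy : a y = u * y) (hu : a u = v * u)
    (hv : a v = z * v) (hz : a z = z) (huv : Commute u v) (huz : Commute u z) (hvz : Commute v z) :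
    ∀ k : ℕ, (a ^ k) y = z ^ k.choose 3 * v ^ k.choose 2 * u ^ k * y := by
  intro k
  induction k with
  | zero => simp
  | succ k ih =>
    rw [pow_succ', MulAut.mul_apply, ih, map_mul, map_mul, map_mul, map_pow, map_pow, map_pow, hy, hu, hv, hz,
      hvz.symm.mul_pow, huv.symm.mul_pow, Nat.choose_succ_succ' k 2, Nat.choose_succ_succ' k 1,
      Nat.choose_one_right, pow_add, pow_add, pow_succ]
    calc z ^ k.choose 3 * (z ^ k.choose 2 * v ^ k.choose 2) * (v ^ k * u ^ k) * (u * y)
        = z ^ k.choose 3 * z ^ k.choose 2 * (v ^ k.choose 2 * v ^ k) * (u ^ k * u) * y := by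
          simp only [mul_assoc]
      _ = _ := by
          rw [(Commute.pow_pow_self z (k.choose 3) (k.choose 2)).eq,
            (Commute.pow_pow_self v (k.choose 2) k).eq]

section Meta

variable {L : Type u} [Group L] [Finite L] {p : ℕ} [hp : Fact p.Prime]
variable (hp2 : p ≠ 2) (hL : IsPGroup p L) (hmc : Cfsg.IsMetacyclic L)

include hp2 hL hmc

theorem good_of : Good p L :=
  good hL (Cfsg.Lib.PGroup.Huppert.powLaw_of_isCyclic_commutator hp2 hL
    (Cfsg.Lib.PGroup.Huppert.isCyclic_commutator_of_metacyclic hL hmc))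

theorem commute_omega {x y : L} (hx : x ^ p = 1) (hy : y ^ p = 1) : Commute x y := by
  obtain ⟨E, hE, hc, -⟩ := Cfsg.Lib.PGroup.exists_omega_of_metacyclic hp2 hL hmc
  exact hc x ((hE x).2 hx) y ((hE y).2 hy)

variable (hnc : ∀ C : Subgroup L, IsCyclic C → C.index ≠ p) [Nontrivial L]

include hnc

theorem not_isCyclic : ¬ IsCyclic L := by
  intro h
  obtain ⟨n, hn⟩ := IsPGroup.iff_card.1 hL
  have hn0 : n ≠ 0 := fun h0 => by
    have h1 : 1 < Nat.card L := Finite.one_lt_card
    rw [hn, h0, pow_zero] at h1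
    omega
  obtain ⟨C, hC⟩ := Sylow.exists_subgroup_card_pow_prime (G := L) p (n := n - 1)
    (hn ▸ pow_dvd_pow p (Nat.sub_le n 1))
  refine hnc C (Subgroup.isCyclic C) ?_
  have h1 := C.card_mul_index
  rw [hC, hn] at h1
  refine Nat.eq_of_mul_eq_mul_left (pow_pos hp.out.pos (n - 1)) (h1.trans ?_)
  rw [← pow_succ]
  congr 1
  omega

theorem card_omega : Nat.card (omegaSubgroup (good_of hp2 hL hmc)) = p ^ 2 := by
  obtain ⟨E, hE, -, hcard⟩ := Cfsg.Lib.PGroup.exists_omega_of_metacyclic hp2 hL hmc
  have hEq : omegaSubgroup (good_of hp2 hL hmc) = E := Subgroup.ext fun x => (hE x).symm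
  rw [hEq]
  obtain ⟨A, -, hA, hA2⟩ := Cfsg.Lib.PGroup.Noncyclic.exists_elemAb_sq hp2 hL (⊤ : Subgroup L)
    fun hc => not_isCyclic hp2 hL hmc hnc (Subgroup.topEquiv.isCyclic.1 hc)
  refine le_antisymm hcard (hA2 ▸ Nat.le_of_dvd Nat.card_pos (Subgroup.card_dvd_of_le fun x hx => ?_))
  rw [hE]
  exact hA.2 x hx

theorem omega_le_pow {x : L} (hx : x ^ p = 1) : ∃ y : L, x = y ^ p := by
  set h := good_of hp2 hL hmc
  set E := omegaSubgroup h with hE
  let f : L ⧸ E → powSubgroup h := Quotient.lift (fun g => ⟨g ^ p, g, rfl⟩) (fun g g' hgg => by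
    apply Subtype.ext
    have h1 : (g⁻¹ * g') ^ p = 1 := QuotientGroup.leftRel_apply.1 hgg
    refine ((good_E h g' g).2 ?_).symm
    rw [show g' * g⁻¹ = g * (g⁻¹ * g') * g⁻¹ by group, conj_pow, h1, mul_one, mul_inv_cancel])
  have hf : Function.Bijective f := by
    constructor
    · intro a b hab
      obtain ⟨g, rfl⟩ := QuotientGroup.mk_surjective a
      obtain ⟨g', rfl⟩ := QuotientGroup.mk_surjective b
      refine QuotientGroup.eq.2 ?_
      have h1 : g' ^ p = g ^ p := (congrArg Subtype.val hab).symm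
      show (g⁻¹ * g') ^ p = 1
      rw [show g⁻¹ * g' = g⁻¹ * (g' * g⁻¹) * (g⁻¹)⁻¹ by group, conj_pow, (good_E h g' g).1 h1, mul_one,
        mul_inv_cancel]
    · rintro ⟨_, g, rfl⟩
      exact ⟨(g : L ⧸ E), rfl⟩
  have hc : Nat.card (powSubgroup h) * p ^ 2 = Nat.card L := by
    rw [← Nat.card_congr (Equiv.ofBijective f hf), ← card_omega hp2 hL hmc hnc]
    exact (Subgroup.card_eq_card_quotient_mul_card_subgroup E).symm
  by_cases hcyc : IsCyclic (powSubgroup h)
  · exfalso
    obtain ⟨⟨b, c, rfl⟩, hgen⟩ := hcyc.exists_generator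
    have hb : orderOf (c ^ p) = Nat.card (powSubgroup h) := by
      rw [← orderOf_eq_card_of_forall_mem_zpowers hgen]
      exact orderOf_injective (powSubgroup h).subtype Subtype.val_injective ⟨c ^ p, c, rfl⟩
    by_cases hc1 : c ^ p = 1
    · rw [hc1, orderOf_one] at hb
      rw [← hb, one_mul] at hc
      obtain ⟨g, hg⟩ := exists_prime_orderOf_dvd_card' (G := L) p (hc ▸ dvd_pow_self p two_ne_zero)
      refine hnc (zpowers g) inferInstance ?_
      have := (zpowers g).card_mul_index
      rw [Nat.card_zpowers, hg, ← hc, sq] at this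
      exact Nat.eq_of_mul_eq_mul_left hp.out.pos this
    have hdvd : p ∣ orderOf c := by
      obtain ⟨k, hk⟩ := IsPGroup.iff_orderOf.1 hL c
      rcases k with _ | k
      · exact absurd (show c ^ p = 1 by rw [(orderOf_eq_one_iff (x := c)).1 (by simpa using hk), one_pow]) hc1
      · exact hk ▸ dvd_pow_self p (Nat.succ_ne_zero k)
    rw [orderOf_pow' _ hp.out.ne_zero, Nat.gcd_eq_right hdvd] at hb
    refine hnc (zpowers c) inferInstance ?_
    have := (zpowers c).card_mul_index
    rw [Nat.card_zpowers, ← hc, ← Nat.div_mul_cancel hdvd, hb, sq, mul_assoc] at this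
    have h2 := Nat.eq_of_mul_eq_mul_left (Nat.card_pos (α := powSubgroup h)) this
    exact Nat.eq_of_mul_eq_mul_left hp.out.pos h2
  obtain ⟨A, hAP, hA, hA2⟩ := Cfsg.Lib.PGroup.Noncyclic.exists_elemAb_sq hp2 hL _ hcyc
  have heq : A = E := by
    refine Subgroup.eq_of_le_of_card_ge (fun b hb => hA.2 b hb) ?_
    rw [card_omega hp2 hL hmc hnc, hA2]
  exact hAP (show x ∈ A by rw [heq]; exact hx)

omit hnc [Nontrivial L] in
theorem pow_pow_eq_one_of_pow_eq {a b : L} (he : (a ^ p) ^ p = (b ^ p) ^ p) :
    ((a * b⁻¹) ^ p) ^ p = 1 := by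
  set h := good_of hp2 hL hmc
  haveI : (omegaSubgroup h).Normal := omegaSubgroup_normal h
  set Q := L ⧸ omegaSubgroup h
  have hQ : Good p Q := good (hL.to_quotient _) (powLaw_quotient (Cfsg.Lib.PGroup.Huppert.powLaw_of_isCyclic_commutator
    hp2 hL (Cfsg.Lib.PGroup.Huppert.isCyclic_commutator_of_metacyclic hL hmc)) _)
  have h1 : (a ^ p * (b ^ p)⁻¹) ^ p = 1 := (good_E h _ _).1 he
  have h2 : ((a : Q)) ^ p = (b : Q) ^ p := by
    rw [← QuotientGroup.mk_pow, ← QuotientGroup.mk_pow, ← mul_inv_eq_one, ← QuotientGroup.mk_inv,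
      ← QuotientGroup.mk_mul, QuotientGroup.eq_one_iff]
    exact h1
  have h3 := (good_E hQ _ _).1 h2
  rw [← QuotientGroup.mk_inv, ← QuotientGroup.mk_mul, ← QuotientGroup.mk_pow, QuotientGroup.eq_one_iff] at h3
  exact h3

/-- Elements of order dividing `p` commute with elements of order dividing `p^2`. -/
theorem commute_two {u e : L} (hu : (u ^ p) ^ p = 1) (he : e ^ p = 1) : Commute u e := by
  set h := good_of hp2 hL hmc
  obtain ⟨y, rfl⟩ := omega_le_pow hp2 hL hmc hnc he
  haveI : (omegaSubgroup h).Normal := omegaSubgroup_normal h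
  have hcom : Commute (u : L ⧸ omegaSubgroup h) (y : L ⧸ omegaSubgroup h) := by
    refine commute_omega hp2 (hL.to_quotient _)
      (Cfsg.Lib.PGroup.Huppert.isMetacyclic_map (QuotientGroup.mk' _) (QuotientGroup.mk'_surjective _) hmc) ?_ ?_
    · rw [← QuotientGroup.mk_pow, QuotientGroup.eq_one_iff]; exact hu
    · rw [← QuotientGroup.mk_pow, QuotientGroup.eq_one_iff]; exact he
  have h1 : (u * y * u⁻¹ * y⁻¹) ^ p = 1 := by
    have : ((u * y * u⁻¹ * y⁻¹ : L) : L ⧸ omegaSubgroup h) = 1 := by
      simp only [QuotientGroup.mk_mul, QuotientGroup.mk_inv]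
      rw [hcom.eq]
      group
    exact (QuotientGroup.eq_one_iff _).1 this
  have h2 := (good_E h _ _).2 h1
  rw [conj_pow] at h2
  exact mul_inv_eq_iff_eq_mul.1 h2

variable (a : MulAut L) (ha : orderOf a = p)

include ha

theorem card_gamma : Nat.card (SemidirectProduct L ↥(Subgroup.zpowers a) (Subgroup.zpowers a).subtype) =
    Nat.card L * p := by
  rw [SemidirectProduct.card, Nat.card_zpowers, ha]

theorem fixed_commutator {e : L} (he : e ^ p = 1) : a (a e * e⁻¹) = a e * e⁻¹ := by
  set h := good_of hp2 hL hmc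
  haveI : Finite (MulAut L) := Finite.of_injective (fun f : MulAut L => (f : L → L)) DFunLike.coe_injective
  haveI : Finite (SemidirectProduct L ↥(Subgroup.zpowers a) (Subgroup.zpowers a).subtype) := Finite.of_equiv _ SemidirectProduct.equivProd.symm
  have hΓ : IsPGroup p (SemidirectProduct L ↥(Subgroup.zpowers a) (Subgroup.zpowers a).subtype) := by
    obtain ⟨n, hn⟩ := IsPGroup.iff_card.1 hL
    exact IsPGroup.of_card (n := n + 1) (by rw [card_gamma hp2 hL hmc hnc a ha, hn, pow_succ])
  set E' : Subgroup (SemidirectProduct L ↥(Subgroup.zpowers a) (Subgroup.zpowers a).subtype) := (omegaSubgroup h).map SemidirectProduct.inl with hE'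
  haveI : E'.Normal := by
    refine ⟨?_⟩
    rintro _ ⟨b, hb, rfl⟩ g
    refine ⟨g.left * (g.right : MulAut L) b * g.left⁻¹, ?_, ?_⟩
    · show (g.left * (g.right : MulAut L) b * g.left⁻¹) ^ p = 1
      rw [conj_pow, ← map_pow, show b ^ p = 1 from hb, map_one, mul_one, mul_inv_cancel]
    · ext <;> simp [mul_assoc]
  set C := ⁅E', (⊤ : Subgroup (SemidirectProduct L ↥(Subgroup.zpowers a) (Subgroup.zpowers a).subtype))⁆ with hC
  have hEne : E' ≠ ⊥ := by
    rw [hE', Ne, Subgroup.map_eq_bot_iff_of_injective _ SemidirectProduct.inl_injective]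
    intro h0
    have := card_omega hp2 hL hmc hnc
    rw [show omegaSubgroup (good_of hp2 hL hmc) = ⊥ from h0, Subgroup.card_bot] at this
    exact (Nat.one_lt_pow two_ne_zero hp.out.one_lt).ne this
  have hlg : lg p E' = 2 := by
    rw [lg, hE', Nat.card_congr (Subgroup.equivMapOfInjective _ _ SemidirectProduct.inl_injective).toEquiv.symm,
      card_omega hp2 hL hmc hnc, Nat.log_pow hp.out.one_lt]
  have hlt : lg p C < lg p E' :=
    lg_lt hΓ (lt_of_le_of_ne (Subgroup.commutator_le_left _ _) fun h' => hEne (eq_bot_of_le_commutator hΓ h'.ge))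
  have hC1 : ⁅C, (⊤ : Subgroup (SemidirectProduct L ↥(Subgroup.zpowers a) (Subgroup.zpowers a).subtype))⁆ = ⊥ := by
    by_contra hne
    have h1 := one_le_lg hΓ hne
    have hCne : C ≠ ⊥ := fun h' => hne (by rw [h', Subgroup.commutator_bot_left])
    have h2 := lg_lt hΓ (lt_of_le_of_ne (Subgroup.commutator_le_left C ⊤)
      fun h' => hCne (eq_bot_of_le_commutator hΓ h'.ge))
    omega
  let t : (SemidirectProduct L ↥(Subgroup.zpowers a) (Subgroup.zpowers a).subtype) := SemidirectProduct.inr ⟨a, Subgroup.mem_zpowers a⟩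
  have ht : ∀ l : L, t * SemidirectProduct.inl l * t⁻¹ = SemidirectProduct.inl (a l) := fun l => by
    ext <;> simp [t]
  have hmem : SemidirectProduct.inl (a e * e⁻¹) ∈ C := by
    rw [map_mul, map_inv, ← ht e, show t * SemidirectProduct.inl e * t⁻¹ * (SemidirectProduct.inl e)⁻¹ =
      ⁅t, (SemidirectProduct.inl e : (SemidirectProduct L ↥(Subgroup.zpowers a) (Subgroup.zpowers a).subtype))⁆ from rfl, ← commutatorElement_inv]
    exact inv_mem (Subgroup.commutator_mem_commutator ⟨e, he, rfl⟩ (Subgroup.mem_top _))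
  rw [Subgroup.commutator_top_right_eq_bot_iff_le_center] at hC1
  have hcen := Subgroup.mem_center_iff.1 (hC1 hmem) t
  have := ht (a e * e⁻¹)
  rw [hcen, mul_inv_cancel_right] at this
  exact (SemidirectProduct.inl_injective this).symm

omit hnc [Nontrivial L] in
theorem pow_p_apply (y : L) : (a ^ p) y = y := by
  rw [← ha, pow_orderOf_eq_one, MulAut.one_apply]

/-- If `a` fixes every element of order `p`, it moves every element by an element of order `p`. -/
theorem stabilizes (hfix : ∀ x : L, x ^ p = 1 → a x = x) :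
    ∀ (j : ℕ) (x : L), x ^ p ^ j = 1 → (a x * x⁻¹) ^ p = 1 := by
  intro j
  induction j with
  | zero =>
    intro x hx
    rw [pow_zero, pow_one] at hx
    simp [hx]
  | succ j ih =>
    intro x hx
    set h := good_of hp2 hL hmc
    set u := a x * x⁻¹ with hu
    have h1 : (a (x ^ p) * (x ^ p)⁻¹) ^ p = 1 := ih (x ^ p) (by rw [← pow_mul, ← pow_succ']; exact hx)
    have h2 : ((a x) ^ p) ^ p = (x ^ p) ^ p := by
      rw [← map_pow]
      exact (good_E h _ _).2 h1
    have hu2 : (u ^ p) ^ p = 1 := pow_pow_eq_one_of_pow_eq hp2 hL hmc h2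
    have hv : (a u * u⁻¹) ^ p = 1 := (good_E h _ _).1 (by rw [← map_pow]; exact hfix _ hu2)
    have hch := chain a (y := x) (u := u) (v := a u * u⁻¹) (z := 1) (by rw [hu, inv_mul_cancel_right])
      (by rw [inv_mul_cancel_right]) (by rw [hfix _ hv, one_mul]) (map_one a) (commute_two hp2 hL hmc hnc hu2 hv)
      (Commute.one_right _) (Commute.one_right _) p
    rw [pow_p_apply hp2 hL hmc a ha, one_pow, one_mul] at hch
    obtain ⟨c, hc⟩ := hp.out.dvd_choose_self (k := 2) (by norm_num)
      (lt_of_le_of_ne hp.out.two_le (Ne.symm hp2))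
    rw [hc, pow_mul, hv, one_pow, one_mul] at hch
    exact mul_right_cancel (a := u ^ p) (b := x) (c := 1) (by rw [one_mul]; exact hch.symm)

/-- If `a` moves an element of order `p`, then `p = 3` and the fixed points of `a` have exponent `p`. -/
theorem moved {x : L} (hx : x ^ p = 1) (hmov : a x ≠ x) :
    p = 3 ∧ ∀ c : L, a c = c → (c ^ p) ^ p = 1 → c ^ p = 1 := by
  set h := good_of hp2 hL hmc
  obtain ⟨y, rfl⟩ := omega_le_pow hp2 hL hmc hnc hx
  set u := a y * y⁻¹ with hu
  have hax : (a (y ^ p)) ^ p = 1 := by rw [← map_pow, hx, map_one]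
  have hu2 : (u ^ p) ^ p = 1 := pow_pow_eq_one_of_pow_eq hp2 hL hmc (by rw [← map_pow, hax, hx])
  have hmul : a (y ^ p) = u ^ p * y ^ p := by
    rw [← h.1 u y (commute_two hp2 hL hmc hnc hx hu2).symm, hu, inv_mul_cancel_right, map_pow]
  have hwfix : a (u ^ p) = u ^ p := by
    have := fixed_commutator hp2 hL hmc hnc a ha hx
    rwa [hmul, mul_inv_cancel_right] at this
  have hw1 : u ^ p ≠ 1 := fun h0 => hmov (by rw [hmul, h0, one_mul])
  set v := a u * u⁻¹ with hv
  have hvE : v ^ p = 1 := (good_E h _ _).1 (by rw [← map_pow]; exact hwfix)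
  set z := a v * v⁻¹ with hz
  have hzE : z ^ p = 1 := good_O h (by rw [← map_pow, hvE, map_one]) (by rw [inv_pow, hvE, inv_one])
  have hch := chain a (y := y) (u := u) (v := v) (z := z) (by rw [hu, inv_mul_cancel_right])
    (by rw [hv, inv_mul_cancel_right]) (by rw [hz, inv_mul_cancel_right])
    (fixed_commutator hp2 hL hmc hnc a ha hvE)
    (commute_two hp2 hL hmc hnc hu2 hvE) (commute_two hp2 hL hmc hnc hu2 hzE)
    (commute_omega hp2 hL hmc hvE hzE) p
  rw [pow_p_apply hp2 hL hmc a ha] at hch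
  have h3 : 2 < p := lt_of_le_of_ne hp.out.two_le (Ne.symm hp2)
  obtain ⟨d, hd⟩ := hp.out.dvd_choose_self (k := 2) (by norm_num) h3
  rw [hd, pow_mul, hvE, one_pow, mul_one] at hch
  have hrel : z ^ p.choose 3 * u ^ p = 1 := mul_right_cancel (b := y) (by rw [one_mul]; exact hch.symm)
  have hp3 : p = 3 := by
    by_contra h'
    obtain ⟨e, he⟩ := hp.out.dvd_choose_self (k := 3) (by norm_num) (lt_of_le_of_ne h3 (Ne.symm h'))
    rw [he, pow_mul, hzE, one_pow, one_mul] at hrel
    exact hw1 hrel
  refine ⟨hp3, fun c hc hc2 => ?_⟩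
  by_contra hc1
  -- the fixed points of `a` among the elements of order `p` have order `p`
  set E := omegaSubgroup h
  let F : Subgroup L := E ⊓ MonoidHom.eqLocus (a : L →* L) (MonoidHom.id L)
  have hFE : F < E := by
    refine lt_of_le_of_ne inf_le_left fun he => hmov ?_
    have : y ^ p ∈ F := by rw [he]; exact hx
    exact this.2
  have hz' : c ^ p ∈ F := ⟨hc2, by show a (c ^ p) = c ^ p; rw [map_pow, hc]⟩
  have hw' : u ^ p ∈ F := ⟨hu2, hwfix⟩
  have hzF : zpowers (c ^ p) = F := by
    refine eq_of_le_of_lg_le hL (zpowers_le.2 hz') ?_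
    have h1 := lg_lt hL hFE
    have h2 : lg p E = 2 := by rw [lg, card_omega hp2 hL hmc hnc, Nat.log_pow hp.out.one_lt]
    have h3' : 1 ≤ lg p (zpowers (c ^ p)) := one_le_lg hL (by rwa [Ne, zpowers_eq_bot])
    omega
  rw [← hzF, mem_zpowers_iff] at hw'
  obtain ⟨i, hi⟩ := hw'
  have hcp : u ^ p = (c ^ i) ^ p := by
    rw [← hi, ← zpow_natCast, ← zpow_natCast, ← zpow_mul, ← zpow_mul, mul_comm]
  have he : (u * (c ^ i)⁻¹) ^ p = 1 := (good_E h _ _).1 hcp
  set e := u * (c ^ i)⁻¹ with he'
  have hci : a (c ^ i) = c ^ i := by rw [map_zpow, hc]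
  have hve : v = a e * e⁻¹ := by
    have h1 : a e = a u * (c ^ i)⁻¹ := by rw [he', map_mul, map_inv, hci]
    rw [h1, he', mul_inv_rev, inv_inv, hv]
    group
  have hz1 : z = 1 := by
    rw [hz, hve, fixed_commutator hp2 hL hmc hnc a ha he, mul_inv_cancel]
  rw [hz1, one_pow, one_mul] at hrel
  exact hw1 hrel

end Meta

/-- Let p be an odd prime and L a finite metacyclic p-group with no cyclic subgroup of index p, and let a be an automorphism of L of order p. Then a moves some element of order p of L if and only if p = 3 and the semidirect product L ⋊ ⟨a⟩ (of order 3·#L) has maximal class, i.e. nilpotency class m where #L = 3^m. -/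
theorem result {L : Type*} [Group L] [Finite L] {p : ℕ} [Fact p.Prime]
    (hp : p ≠ 2) (hL : IsPGroup p L) (hmc : Cfsg.IsMetacyclic L) (hnc : ∀ C : Subgroup L, IsCyclic C → C.index ≠ p)
    (a : MulAut L) (ha : orderOf a = p) (m : ℕ) (hm : Nat.card L = p ^ m) :
    (∃ x : L, orderOf x = p ∧ a x ≠ x) ↔
    (p = 3 ∧ Group.nilpotencyClass (SemidirectProduct L ↥(Subgroup.zpowers a) (Subgroup.zpowers a).subtype) = m) := by
  haveI : Finite (MulAut L) := Finite.of_injective (fun f : MulAut L => (f : L → L)) DFunLike.coe_injective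
  haveI : Nontrivial L := by
    by_contra h
    rw [not_nontrivial_iff_subsingleton] at h
    have : a = 1 := MulEquiv.ext fun x => Subsingleton.elim _ _
    rw [this, orderOf_one] at ha
    exact (Fact.out : p.Prime).one_lt.ne ha
  have hpp := (Fact.out : p.Prime)
  haveI : Finite (SemidirectProduct L ↥(Subgroup.zpowers a) (Subgroup.zpowers a).subtype) := Finite.of_equiv _ SemidirectProduct.equivProd.symm
  have hcard : Nat.card (SemidirectProduct L ↥(Subgroup.zpowers a) (Subgroup.zpowers a).subtype) = p ^ (m + 1) := by rw [card_gamma hp hL hmc hnc a ha, hm, pow_succ]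
  have hΓ : IsPGroup p (SemidirectProduct L ↥(Subgroup.zpowers a) (Subgroup.zpowers a).subtype) := IsPGroup.of_card hcard
  haveI := hΓ.isNilpotent
  have hm2 : 2 ≤ m := by
    have h := Subgroup.card_subgroup_dvd_card (omegaSubgroup (good_of hp hL hmc))
    rw [card_omega hp hL hmc hnc, hm] at h
    exact (Nat.pow_dvd_pow_iff_le_right hpp.one_lt).1 h
  let t : (SemidirectProduct L ↥(Subgroup.zpowers a) (Subgroup.zpowers a).subtype) := SemidirectProduct.inr ⟨a, Subgroup.mem_zpowers a⟩
  have ht : ∀ l : L, t * SemidirectProduct.inl l * t⁻¹ = SemidirectProduct.inl (a l) := fun l => by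
    ext <;> simp [t]
  constructor
  · rintro ⟨x, hx, hmov⟩
    have hxp : x ^ p = 1 := by rw [← hx]; exact pow_orderOf_eq_one x
    obtain ⟨hp3, hfix⟩ := moved hp hL hmc hnc a ha hxp hmov
    refine ⟨hp3, ?_⟩
    have hfix' : ∀ (j : ℕ) (c : L), a c = c → c ^ p ^ j = 1 → c ^ p = 1 := by
      intro j
      induction j with
      | zero => intro c _ hc; rw [pow_zero, pow_one] at hc; simp [hc]
      | succ j ih =>
        intro c hca hc
        exact hfix c hca (ih (c ^ p) (by rw [map_pow, hca]) (by rw [← pow_mul, ← pow_succ']; exact hc))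
    set h := good_of hp hL hmc
    let F : Subgroup L := MonoidHom.eqLocus (a : L →* L) (MonoidHom.id L)
    have hFE : F < omegaSubgroup h := by
      refine lt_of_le_of_ne (fun c hc => ?_) fun he => hmov ?_
      · obtain ⟨k, hk⟩ := hL c
        exact hfix' k c hc hk
      · have : x ∈ F := by rw [he]; exact hxp
        exact this
    have hw : a x * x⁻¹ ∈ F := fixed_commutator hp hL hmc hnc a ha hxp
    have hF0 : F ≠ ⊥ := fun h0 => hmov (mul_inv_eq_one.1 (by rw [h0] at hw; exact hw))
    have hFc : Nat.card F = p := by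
      have h1 := lg_lt hL hFE
      have h2 : lg p (omegaSubgroup h) = 2 := by rw [lg, card_omega hp hL hmc hnc, Nat.log_pow hpp.one_lt]
      have h3 := one_le_lg hL hF0
      rw [card_eq hL F, show lg p F = 1 by omega, pow_one]
    have hC : Nat.card (Subgroup.centralizer ({t} : Set (SemidirectProduct L ↥(Subgroup.zpowers a) (Subgroup.zpowers a).subtype))) = p ^ 2 := by
      let f : F × ↥(Subgroup.zpowers a) ≃ Subgroup.centralizer ({t} : Set (SemidirectProduct L ↥(Subgroup.zpowers a) (Subgroup.zpowers a).subtype)) :=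
        { toFun := fun q => ⟨⟨q.1.1, q.2⟩, by
            rw [Subgroup.mem_centralizer_singleton_iff]
            ext
            · have h1 : a q.1.1 = q.1.1 := q.1.2
              simp [t, h1]
            · obtain ⟨b, hb⟩ := q.2
              obtain ⟨i, rfl⟩ := Subgroup.mem_zpowers_iff.1 hb
              simp only [SemidirectProduct.mul_right, t, SemidirectProduct.right_inr, Subgroup.coe_mul]
              exact congrArg (fun b : MulAut L => b _) (Commute.zpow_self a i).eq⟩
          invFun := fun g => (⟨g.1.left, by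
            have h1 := congrArg SemidirectProduct.left (Subgroup.mem_centralizer_singleton_iff.1 g.2)
            show a g.1.left = g.1.left
            simpa [t] using h1.symm⟩, g.1.right)
          left_inv := fun q => rfl
          right_inv := fun g => rfl }
      rw [← Nat.card_congr f, Nat.card_prod, hFc, Nat.card_zpowers, ha, sq]
    have := class_of_card_centralizer (by omega) hcard hC
    simpa using this
  · rintro ⟨-, hcls⟩
    by_contra hcon
    push_neg at hcon
    have hfix : ∀ x : L, x ^ p = 1 → a x = x := by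
      intro x hx
      by_cases h1 : x = 1
      · rw [h1, map_one]
      · exact hcon x (orderOf_eq_prime hx h1)
    have hE : ∀ x : L, (a x * x⁻¹) ^ p = 1 := fun x => by
      obtain ⟨k, hk⟩ := hL x
      exact stabilizes hp hL hmc hnc a ha hfix k x hk
    have hΦ : ∀ x : L, x ^ p = 1 → x ∈ frattini L := fun x hx => by
      obtain ⟨y, rfl⟩ := omega_le_pow hp hL hmc hnc hx
      exact Cfsg.Lib.PGroup.pow_mem_frattini hL y
    haveI : ((frattini L).map (SemidirectProduct.inl : L →* (SemidirectProduct L ↥(Subgroup.zpowers a) (Subgroup.zpowers a).subtype))).Normal := by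
      refine ⟨?_⟩
      rintro _ ⟨b, hb, rfl⟩ g
      refine ⟨g.left * (g.right : MulAut L) b * g.left⁻¹, ?_, ?_⟩
      · refine Subgroup.Normal.conj_mem inferInstance _ ?_ _
        exact (Subgroup.characteristic_iff_comap_eq.1 inferInstance (g.right : MulAut L)).ge hb
      · ext <;> simp [mul_assoc]
    set T := (frattini L).map (SemidirectProduct.inl : L →* (SemidirectProduct L ↥(Subgroup.zpowers a) (Subgroup.zpowers a).subtype)) with hT
    have hinl : ∀ l : L, l ∈ frattini L → SemidirectProduct.inl l ∈ T := fun l hl => ⟨l, hl, rfl⟩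
    have h1 : ⁅(⊤ : Subgroup (SemidirectProduct L ↥(Subgroup.zpowers a) (Subgroup.zpowers a).subtype)), (⊤ : Subgroup (SemidirectProduct L ↥(Subgroup.zpowers a) (Subgroup.zpowers a).subtype))⁆ ≤ T := by
      set U := (SemidirectProduct.inl : L →* (SemidirectProduct L ↥(Subgroup.zpowers a) (Subgroup.zpowers a).subtype)).range with hU
      have hb : ∀ b ∈ Subgroup.zpowers a, ∀ l : L, b l * l⁻¹ ∈ frattini L := by
        intro b hb
        obtain ⟨k, rfl⟩ := mem_powers_iff_mem_zpowers.2 hb
        clear hb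
        intro l
        induction k with
        | zero => simp
        | succ k ih =>
          have : (fun n => a ^ n) (k + 1) l * l⁻¹ = (a ((a ^ k) l) * ((a ^ k) l)⁻¹) * ((a ^ k) l * l⁻¹) := by
            simp [pow_succ', mul_assoc]
          rw [this]
          exact mul_mem (hΦ _ (hE _)) ih
      refine commutator_le_of_generators (U := U) (x := t) (y := 1) (Subgroup.mem_top _) (Subgroup.mem_top _)
        le_top ?_ ?_ (by rw [commutatorElement_one_right]; exact one_mem _)
      · intro g _
        rw [← SemidirectProduct.inl_left_mul_inr_right g]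
        refine mul_mem (Subgroup.mem_sup_right ⟨_, rfl⟩) (Subgroup.mem_sup_left ?_)
        obtain ⟨c, hc⟩ := g.right
        obtain ⟨i, rfl⟩ := Subgroup.mem_zpowers_iff.1 hc
        have : (⟨a ^ i, hc⟩ : ↥(Subgroup.zpowers a)) = ⟨a, Subgroup.mem_zpowers a⟩ ^ i := Subtype.ext (by simp)
        rw [this, map_zpow]
        exact zpow_mem (Subgroup.subset_closure (Set.mem_insert t _)) i
      · rw [Subgroup.commutator_le]
        rintro _ ⟨l, rfl⟩ g _
        have e : ⁅(SemidirectProduct.inl l : (SemidirectProduct L ↥(Subgroup.zpowers a) (Subgroup.zpowers a).subtype)), g⁆ =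
            (SemidirectProduct.inl ((l * g.left * ((g.right : MulAut L) l⁻¹ * l) * l⁻¹ * g.left⁻¹)) : (SemidirectProduct L ↥(Subgroup.zpowers a) (Subgroup.zpowers a).subtype)) := by
          rw [commutatorElement_def]
          ext <;> simp [mul_assoc]
        rw [e]
        apply hinl
        have h2 : (g.right : MulAut L) l⁻¹ * l ∈ frattini L := by
          simpa using hb _ g.right.2 l⁻¹
        have h3 : l * g.left * l⁻¹ * g.left⁻¹ ∈ frattini L :=
          Cfsg.Lib.PGroup.commutator_le_frattini hL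
            (Subgroup.commutator_mem_commutator (Subgroup.mem_top l) (Subgroup.mem_top g.left))
        rw [show l * g.left * ((g.right : MulAut L) l⁻¹ * l) * l⁻¹ * g.left⁻¹ =
          (l * g.left) * ((g.right : MulAut L) l⁻¹ * l) * (l * g.left)⁻¹ * (l * g.left * l⁻¹ * g.left⁻¹) by group]
        exact mul_mem (Subgroup.Normal.conj_mem inferInstance _ h2 _) h3
    have hlg : lg p (lcs (SemidirectProduct L ↥(Subgroup.zpowers a) (Subgroup.zpowers a).subtype) 1) ≤ m - 2 := by
      have hidx : p ^ 2 ≤ (frattini L).index := by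
        obtain ⟨k, hk⟩ := hL.index (frattini L)
        rw [hk]
        refine Nat.pow_le_pow_right hpp.pos ?_
        by_contra hk2
        refine not_isCyclic hp hL hmc hnc ?_
        haveI : IsCyclic (L ⧸ frattini L) := by
          rcases (show k = 0 ∨ k = 1 by omega) with rfl | rfl
          · exact absurd (Subgroup.index_eq_one.1 (by simpa using hk)) Cfsg.Lib.PGroup.frattini_ne_top
          · exact isCyclic_of_prime_card (p := p) (by rw [← Subgroup.index_eq_card, hk, pow_one])
        obtain ⟨g, hg⟩ := IsCyclic.exists_generator (α := L ⧸ frattini L)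
        obtain ⟨g, rfl⟩ := QuotientGroup.mk_surjective g
        refine isCyclic_iff_exists_zpowers_eq_top.2 ⟨g, frattini_nongenerating ?_⟩
        rw [eq_top_iff]
        intro l _
        obtain ⟨i, hi⟩ := Subgroup.mem_zpowers_iff.1 (hg (l : L ⧸ frattini L))
        rw [← QuotientGroup.mk_zpow, QuotientGroup.eq] at hi
        rw [show l = g ^ i * ((g ^ i)⁻¹ * l) by group]
        exact mul_mem (Subgroup.mem_sup_left (Subgroup.zpow_mem_zpowers g i)) (Subgroup.mem_sup_right hi)
      have hTc : Nat.card T = Nat.card (frattini L) :=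
        Nat.card_congr (Subgroup.equivMapOfInjective _ _ SemidirectProduct.inl_injective).toEquiv.symm
      have h2 : p ^ lg p T * p ^ 2 ≤ p ^ m := by
        rw [← card_eq hΓ T, hTc, ← hm, ← (frattini L).card_mul_index]
        exact Nat.mul_le_mul_left _ hidx
      rw [← pow_add, Nat.pow_le_pow_iff_right hpp.one_lt] at h2
      have h3 : lg p (lcs (SemidirectProduct L ↥(Subgroup.zpowers a) (Subgroup.zpowers a).subtype) 1) ≤ lg p T := lg_mono hΓ h1
      omega
    have hb := lcs_eq_bot hΓ hlg
    have := Subgroup.lowerCentralSeries_eq_bot_iff_nilpotencyClass_le.1 hb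
    omega

end Cfsg.Agent.S4079
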