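import Cfsg.Statements.S4080
import Cfsg.Agent.Lib.PGroup.Basic

set_option autoImplicit false
set_option linter.style.haveILetI false
open Cfsg

namespace Cfsg.Agent.S4080

open Finset in
theorem key {V : Type*} [AddCommGroup V] [Finite V] {p : ℕ} [hp : Fact p.Prime] (hp3 : 3 < p)
    (P2 : AddSubgroup V) (hmem : ∀ v, v ∈ P2 ↔ ∃ w, p • w = v) (hsq : ∀ v : V, p • p • v = 0)
    (hV : Nat.card V = p ^ 4) (hP2 : p ^ 2 ≤ Nat.card P2)
    (α : AddMonoid.End V) (hα : α ^ p = 1) (w : V) : α (p • w) = p • w := by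
  classical
  set b : AddMonoid.End V := α - 1 with hb
  have hab : α = b + 1 := by rw [hb, sub_add_cancel]
  obtain ⟨r, hr⟩ := (Commute.one_right b).exists_add_pow_prime_eq hp.out
  rw [← hab, hα, one_pow] at hr
  have hnat : ∀ (n : ℕ) (f : AddMonoid.End V) (v : V), ((n : AddMonoid.End V) * f) v = n • f v := by
    intro n f v
    rw [← nsmul_eq_mul]
    rfl
  have hbp : ∀ v, (b ^ p) v ∈ P2 := by
    intro v
    have h1 : (b ^ p) v + p • (b * r) v = 0 := by
      have h0 : b ^ p + (p : AddMonoid.End V) * (b * r) = 0 := by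
        have := hr
        rw [eq_comm, add_assoc, add_comm (1 : AddMonoid.End V), ← add_assoc, add_eq_right, mul_one,
          mul_assoc] at this
        exact this
      rw [← hnat]
      exact DFunLike.congr_fun h0 v
    rw [eq_neg_of_add_eq_zero_left h1]
    exact neg_mem ((hmem _).mpr ⟨(b * r) v, rfl⟩)
  have hbP : ∀ (f : AddMonoid.End V), ∀ v ∈ P2, f v ∈ P2 := by
    intro f v hv
    obtain ⟨u, rfl⟩ := (hmem v).mp hv
    exact (hmem _).mpr ⟨f u, (map_nsmul f p u).symm⟩
  let W : ℕ → AddSubgroup V := fun k => AddMonoidHom.range (b ^ k : AddMonoid.End V) ⊔ P2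
  have hW : ∀ k v, v ∈ W k → b v ∈ W (k + 1) := by
    intro k v hv
    obtain ⟨y, ⟨u, hu⟩, z, hz, rfl⟩ := AddSubgroup.mem_sup.mp hv
    rw [map_add]
    refine AddSubgroup.add_mem _ (AddSubgroup.mem_sup_left ⟨u, ?_⟩) (AddSubgroup.mem_sup_right (hbP b z hz))
    rw [← hu, pow_succ']
    rfl
  have hanti : ∀ k, W (k + 1) ≤ W k := by
    intro k
    refine sup_le ?_ le_sup_right
    rintro _ ⟨u, rfl⟩
    refine AddSubgroup.mem_sup_left ⟨b u, ?_⟩
    rw [pow_succ]
    rfl
  have hstep : ∀ k v, v ∈ W k → ∀ j, (b ^ j) v ∈ W (k + j) := by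
    intro k v hv j
    induction j with
    | zero => simpa using hv
    | succ j ih => rw [pow_succ']; exact hW _ _ ih
  have hconst : ∀ k, W (k + 1) = W k → W k = P2 := by
    intro k hk
    refine le_antisymm (fun v hv => ?_) le_sup_right
    have hall : ∀ j, W (k + j) = W k := by
      intro j
      induction j with
      | zero => rfl
      | succ j ih =>
        refine le_antisymm ((hanti _).trans ih.le) ?_
        rw [← hk]
        refine sup_le ?_ le_sup_right
        rintro _ ⟨u, rfl⟩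
        have h1 : (b ^ k) u ∈ W (k + j) := ih.ge (AddSubgroup.mem_sup_left ⟨u, rfl⟩)
        have h2 := hW _ _ h1
        rw [pow_succ']
        exact h2
    rw [← hall p] at hv
    obtain ⟨y, ⟨u, hu⟩, z, hz, rfl⟩ := AddSubgroup.mem_sup.mp hv
    refine add_mem ?_ hz
    rw [← hu, add_comm k p, pow_add]
    exact hbp _
  have hW2 : W 2 = P2 := by
    by_cases h0 : W 1 = W 0
    · exact le_antisymm (((hanti 1).trans (hanti 0)).trans (hconst 0 h0).le) le_sup_right
    by_cases h1 : W 2 = W 1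
    · rw [h1]; exact hconst 1 h1
    have hpg : ∀ H : AddSubgroup V, ∃ a ≤ 4, Nat.card H = p ^ a := fun H =>
      (Nat.dvd_prime_pow hp.out).mp (hV ▸ AddSubgroup.card_addSubgroup_dvd_card H)
    obtain ⟨a0, ha0, he0⟩ := hpg (W 0)
    obtain ⟨a1, -, he1⟩ := hpg (W 1)
    obtain ⟨a2, -, he2⟩ := hpg (W 2)
    have hlt : ∀ H K : AddSubgroup V, H ≤ K → H ≠ K → Nat.card H < Nat.card K := fun H K hle hne =>
      lt_of_le_of_ne (Nat.card_mono (Set.toFinite _) hle) fun h =>
        hne (SetLike.coe_injective (Set.eq_of_subset_of_ncard_le hle h.ge (Set.toFinite _)))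
    have l1 := hlt _ _ (hanti 0) h0
    have l2 := hlt _ _ (hanti 1) h1
    rw [he0, he1] at l1
    rw [he1, he2] at l2
    have e1 := (Nat.pow_lt_pow_iff_right hp.out.one_lt).mp l1
    have e2 := (Nat.pow_lt_pow_iff_right hp.out.one_lt).mp l2
    symm
    apply SetLike.coe_injective
    refine Set.eq_of_subset_of_ncard_le (show P2 ≤ W 2 from le_sup_right) ?_ (Set.toFinite _)
    show Nat.card (W 2) ≤ Nat.card P2
    rw [he2]
    exact (Nat.pow_le_pow_right hp.out.pos (by omega)).trans hP2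
  have hk2 : ∀ k, 2 ≤ k → ∀ v, (b ^ k) v ∈ P2 := by
    intro k hk v
    obtain ⟨j, rfl⟩ := Nat.exists_eq_add_of_le hk
    rw [pow_add]
    exact hW2 ▸ AddSubgroup.mem_sup_left ⟨_, rfl⟩
  have hpk : ∀ k, 2 ≤ k → ∀ v, p • (b ^ k) v = 0 := by
    intro k hk v
    obtain ⟨u, hu⟩ := (hmem _).mp (hk2 k hk v)
    rw [← hu, hsq]
  have hbpz : ∀ v, (b ^ p) v = 0 := by
    intro v
    obtain ⟨u, hu⟩ := (hmem _).mp (hk2 2 le_rfl v)
    obtain ⟨t, ht⟩ := (hmem _).mp (hk2 (p - 2) (by omega) u)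
    rw [show p = (p - 2) + 2 by omega, pow_add]
    show (b ^ (p - 2)) ((b ^ 2) v) = 0
    rw [← hu, map_nsmul, ← ht, hsq]
  have hexp : ∀ v, ∑ k ∈ range (p + 1), p.choose k • (b ^ k) v = v := by
    intro v
    have h := (Commute.one_right b).add_pow p
    rw [← hab, hα] at h
    have h2 := DFunLike.congr_fun h v
    refine (Eq.trans ?_ h2.symm)
    rw [show ∀ (s : Finset ℕ) (f : ℕ → AddMonoid.End V), (∑ k ∈ s, f k) v = ∑ k ∈ s, f k v from
      fun s f => AddMonoidHom.finsetSum_apply f s v]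
    refine sum_congr rfl fun k _ => ?_
    rw [one_pow, mul_one, ← hnat, Nat.cast_comm]
  have hpb : p • b w = 0 := by
    have h := hexp w
    obtain ⟨m, hm⟩ : ∃ m, p = m + 1 := ⟨p - 1, by omega⟩
    rw [sum_range_succ' _ p, Nat.choose_zero_right, pow_zero, one_smul,
      show (1 : AddMonoid.End V) w = w from rfl, add_eq_right] at h
    rw [sum_eq_single 0 (fun k hk hk0 => ?_) (fun h => absurd (mem_range.mpr hp.out.pos) h)] at h
    · simpa using h
    · rw [mem_range] at hk
      rcases Nat.lt_or_ge (k + 1) p with hlt | hge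
      · obtain ⟨c, hc⟩ := hp.out.dvd_choose_self (k := k + 1) (by omega) hlt
        rw [hc, mul_comm, mul_nsmul', hpk _ (by omega), smul_zero]
      · rw [show k + 1 = p by omega, hbpz, smul_zero]
  rw [hab]
  show b (p • w) + p • w = p • w
  rw [map_nsmul, hpb, zero_add]

/-- Let p > 3 be a prime and L the direct product of two cyclic groups of order p². Every automorphism of L of order p fixes every element of order p of L. -/
theorem result {p : ℕ} [Fact p.Prime] (hp : 3 < p)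
    (a : MulAut (Multiplicative (ZMod (p ^ 2) × ZMod (p ^ 2)))) (ha : orderOf a = p)
    (x : Multiplicative (ZMod (p ^ 2) × ZMod (p ^ 2))) (hx : orderOf x = p) : a x = x := by
  haveI : NeZero (p ^ 2) := ⟨pow_ne_zero _ (Fact.out : p.Prime).ne_zero⟩
  have hp0 := (Fact.out : p.Prime).pos
  let α : AddMonoid.End (ZMod (p ^ 2) × ZMod (p ^ 2)) :=
    AddMonoidHom.mk' (fun v => Multiplicative.toAdd (a (Multiplicative.ofAdd v)))
      (fun u v => by simp [ofAdd_add, map_mul, toAdd_mul])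
  have hpow : ∀ n : ℕ, ∀ v, (α ^ n) v = Multiplicative.toAdd ((a ^ n) (Multiplicative.ofAdd v)) := by
    intro n
    induction n with
    | zero => intro v; rfl
    | succ n ih =>
      intro v
      rw [pow_succ' α, pow_succ' a]
      show α ((α ^ n) v) = Multiplicative.toAdd (a ((a ^ n) (Multiplicative.ofAdd v)))
      rw [ih]
      rfl
  have hap : a ^ p = 1 := by have h := pow_orderOf_eq_one a; rw [ha] at h; exact h
  have hα : α ^ p = 1 := AddMonoidHom.ext fun v => (hpow p v).trans (by rw [hap]; rfl)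
  let P2 : AddSubgroup (ZMod (p ^ 2) × ZMod (p ^ 2)) := (nsmulAddMonoidHom (α := ZMod (p ^ 2) × ZMod (p ^ 2)) p).range
  have hzero : ∀ c : ZMod (p ^ 2), p • p • c = 0 := fun c => by
    rw [← mul_nsmul', ← pow_two, nsmul_eq_mul, ZMod.natCast_self, zero_mul]
  have hsq : ∀ v : ZMod (p ^ 2) × ZMod (p ^ 2), p • p • v = 0 := fun v => Prod.ext (hzero v.1) (hzero v.2)
  have hP2 : p ^ 2 ≤ Nat.card P2 := by
    have hord : addOrderOf (p : ZMod (p ^ 2)) = p := by
      rw [ZMod.addOrderOf_coe _ (pow_ne_zero _ hp0.ne')]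
      rw [Nat.gcd_eq_right (dvd_pow_self p two_ne_zero), pow_two, Nat.mul_div_cancel _ hp0]
    have h1 : (AddSubgroup.zmultiples (p : ZMod (p ^ 2))).prod (AddSubgroup.zmultiples (p : ZMod (p ^ 2))) ≤ P2 := by
      rintro ⟨u, v⟩ ⟨⟨i, rfl⟩, ⟨j, rfl⟩⟩
      exact ⟨((i : ZMod (p ^ 2)), (j : ZMod (p ^ 2))), Prod.ext (by simp [mul_comm]) (by simp [mul_comm])⟩
    refine le_trans (le_of_eq ?_) (Nat.card_mono (Set.toFinite _) h1)
    show p ^ 2 = Nat.card ((AddSubgroup.zmultiples (p : ZMod (p ^ 2))).prod (AddSubgroup.zmultiples (p : ZMod (p ^ 2))))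
    rw [Nat.card_congr (AddSubgroup.prodEquiv _ _).toEquiv, Nat.card_prod, Nat.card_zmultiples, hord, pow_two]
  have hfix := key hp P2 (fun v => Iff.rfl) hsq (by rw [Nat.card_prod, Nat.card_zmod]; ring) hP2 α hα
  have hx0 : p • Multiplicative.toAdd x = 0 := by
    have h := pow_orderOf_eq_one x
    rw [hx] at h
    rw [← toAdd_pow, h, toAdd_one]
  have hdiv : ∀ c : ZMod (p ^ 2), p • c = 0 → ∃ d, p • d = c := by
    intro c hc
    rw [nsmul_eq_mul, ← ZMod.natCast_zmod_val c, ← Nat.cast_mul, ZMod.natCast_eq_zero_iff] at hc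
    obtain ⟨d, hd⟩ := Nat.dvd_of_mul_dvd_mul_left hp0 ((dvd_of_eq (pow_two p).symm).trans hc)
    exact ⟨d, by rw [nsmul_eq_mul, ← Nat.cast_mul, ← hd, ZMod.natCast_zmod_val]⟩
  obtain ⟨d1, hd1⟩ := hdiv _ (congrArg Prod.fst hx0)
  obtain ⟨d2, hd2⟩ := hdiv _ (congrArg Prod.snd hx0)
  have hd : p • (d1, d2) = Multiplicative.toAdd x := Prod.ext hd1 hd2
  have h := hfix (d1, d2)
  rw [hd] at h
  exact Multiplicative.toAdd.injective h

end Cfsg.Agent.S4080
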