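import Cfsg.Statements.S4081
import Cfsg.Agent.S0144
import Cfsg.Agent.Lib.Core.PSolvable
import Cfsg.Agent.Lib.Core.Cores
import Cfsg.Agent.Lib.Coprime.Generation
import Mathlib.RingTheory.Polynomial.Cyclotomic.Factorization
import Mathlib.RingTheory.AdjoinRoot
import Mathlib.LinearAlgebra.Basis.VectorSpace
import Mathlib.GroupTheory.Sylow
import Mathlib.GroupTheory.SpecificGroups.Cyclic

set_option autoImplicit false
set_option linter.style.haveILetI false
open Cfsg

namespace Cfsg.Agent.S4081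

open Polynomial

/-! ### Modules over the group of order `q` -/

section Linear

variable {V : Type*} [CommGroup V] [Finite V] {p q : ℕ} [Fact p.Prime] [Fact q.Prime]

/-- An elementary abelian group is a `ZMod p`-module. -/
@[reducible] noncomputable def zmodMod (hV : ∀ v : V, v ^ p = 1) : Module (ZMod p) (Additive V) :=
  AddCommGroup.zmodModule (n := p) (fun v : Additive V => show Additive.ofMul (Additive.toMul v ^ p) = 0 by
    rw [hV]; rfl)

/-- An automorphism seen as a `ZMod p`-linear map. -/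
noncomputable def toEnd [Module (ZMod p) (Additive V)] (τ : MulAut V) :
    Module.End (ZMod p) (Additive V) :=
  (MonoidHom.toAdditive τ.toMonoidHom).toZModLinearMap p

theorem toEnd_pow [Module (ZMod p) (Additive V)] (τ : MulAut V) (n : ℕ) (v : V) :
    (toEnd (p := p) τ ^ n) (Additive.ofMul v) = Additive.ofMul ((τ ^ n) v) := by
  induction n generalizing v with
  | zero => rfl
  | succ n ih =>
    rw [pow_succ, pow_succ, Module.End.mul_apply]
    exact ih (τ v)

theorem aeval_cyclotomic_eq_zero [Module (ZMod p) (Additive V)] {τ : MulAut V} (hq : τ ^ q = 1)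
    (hfpf : ∀ v, τ v = v → v = 1) :
    aeval (toEnd (p := p) τ) (cyclotomic q (ZMod p)) = 0 := by
  have hTq : toEnd (p := p) τ ^ q = 1 := LinearMap.ext fun v => by
    have h := toEnd_pow (p := p) τ q (Additive.toMul v)
    rw [hq] at h
    exact h
  have h0 : (toEnd (p := p) τ - 1) * aeval (toEnd (p := p) τ) (cyclotomic q (ZMod p)) = 0 := by
    have h := congrArg (aeval (toEnd (p := p) τ)) (cyclotomic_prime_mul_X_sub_one (ZMod p) q)
    rw [mul_comm, map_mul] at h
    simpa [hTq] using h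
  refine LinearMap.ext fun v => ?_
  set w := aeval (toEnd (p := p) τ) (cyclotomic q (ZMod p)) v with hw
  have h1 : toEnd (p := p) τ w = w := by
    have := LinearMap.congr_fun h0 v
    rw [Module.End.mul_apply, LinearMap.sub_apply, LinearMap.zero_apply, sub_eq_zero] at this
    exact this
  exact congrArg Additive.ofMul (hfpf (Additive.toMul w) (congrArg Additive.toMul h1))

theorem exists_functional {F W : Type*} [Field F] [AddCommGroup W] [Module F W] {v w : W}
    (hv : v ≠ 0) (hw : w ≠ 0) : ∃ φ : W →ₗ[F] F, φ v = 1 ∧ φ w ≠ 0 := by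
  have key : ∀ x : W, x ≠ 0 → ∃ f : W →ₗ[F] F, f x ≠ 0 := by
    intro x hx
    let b := Module.Basis.ofVectorSpace F W
    by_contra hcon
    push Not at hcon
    exact hx (b.ext_elem fun i => by simpa using hcon (b.coord i))
  obtain ⟨f, hf⟩ := key v hv
  obtain ⟨g, hg⟩ := key w hw
  obtain ⟨h, hhv, hhw⟩ : ∃ h : W →ₗ[F] F, h v ≠ 0 ∧ h w ≠ 0 := by
    by_cases hfw : f w = 0
    · by_cases hgv : g v = 0
      · exact ⟨f + g, by simp [hgv, hf], by simp [hfw, hg]⟩
      · exact ⟨g, hgv, hg⟩
    · exact ⟨f, hf, hfw⟩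
  exact ⟨(h v)⁻¹ • h, by simp [hhv], by simp [hhv, hhw]⟩

theorem exists_equivariant [Module (ZMod p) (Additive V)] (τ : MulAut V) (hq : τ ^ q = 1)
    (hfpf : ∀ v, τ v = v → v = 1) (hne : p ≠ q) (hord : orderOf (p : ZMod q) = q - 1) :
    (∀ v w : V, v ≠ 1 → w ≠ 1 → ∃ e : MulAut V, e v = w ∧ ∀ u, e (τ u) = τ (e u)) ∧
    ∀ i : ℕ, i.Coprime q → ∃ e : MulAut V, ∀ u, e (τ u) = (τ ^ i) (e u) := by
  classical
  have hp : p.Prime := Fact.out
  have hqp : q.Prime := Fact.out
  set T := toEnd (p := p) τ with hT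
  have hpq : ¬ p ∣ q := fun h => hne ((Nat.prime_dvd_prime_iff_eq hp hqp).mp h)
  set Φ := cyclotomic q (ZMod p) with hΦ
  have hirr : Irreducible Φ := by
    refine ZMod.irreducible_of_dvd_cyclotomic_of_natDegree hpq dvd_rfl ?_
    rw [natDegree_cyclotomic, Nat.totient_prime hqp, ← hord, ← orderOf_units, ZMod.coe_unitOfCoprime]
  haveI := Fact.mk hirr
  let K := AdjoinRoot Φ
  haveI : Module.Finite (ZMod p) K := (cyclotomic.monic q (ZMod p)).finite_adjoinRoot
  haveI : Finite K := Module.finite_of_finite (ZMod p)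
  let ψ : K →+* Module.End (ZMod p) (Additive V) :=
    Ideal.Quotient.lift (Ideal.span {Φ}) (aeval (R := ZMod p) T).toRingHom (fun a ha => by
      obtain ⟨c, rfl⟩ := Ideal.mem_span_singleton.mp ha
      show aeval T (Φ * c) = 0
      rw [map_mul, aeval_cyclotomic_eq_zero hq hfpf, zero_mul])
  letI : Module K (Additive V) := Module.compHom (Additive V) ψ
  have hψroot : ψ (AdjoinRoot.root Φ) = T := by
    show (aeval T).toRingHom X = T
    simp
  have hroot : ∀ u : Additive V, AdjoinRoot.root Φ • u = T u := fun u => by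
    show ψ (AdjoinRoot.root Φ) u = T u
    rw [hψroot]
  constructor
  · intro v w hv hw
    obtain ⟨φ, hφv, hφw⟩ := exists_functional (F := K) (v := Additive.ofMul v) (w := Additive.ofMul w)
      (fun h => hv (Additive.ofMul.injective h)) (fun h => hw (Additive.ofMul.injective h))
    let L : Additive V →ₗ[K] Additive V :=
      LinearMap.id + φ.smulRight (Additive.ofMul w - Additive.ofMul v)
    have hL : ∀ u, L u = u + φ u • (Additive.ofMul w - Additive.ofMul v) := fun u => rfl
    have hinj : Function.Injective L := by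
      rw [injective_iff_map_eq_zero]
      intro u hu
      rw [hL] at hu
      have h1 := congrArg φ hu
      rw [map_add, map_smul, map_sub, map_zero, hφv, smul_eq_mul, mul_sub, mul_one,
        add_sub_cancel] at h1
      rcases mul_eq_zero.mp h1 with h | h
      · rw [h, zero_smul, add_zero] at hu; exact hu
      · exact absurd h hφw
    let eA : Additive V ≃+ Additive V :=
      AddEquiv.ofBijective L.toAddMonoidHom ⟨hinj, Finite.injective_iff_surjective.mp hinj⟩
    refine ⟨MulEquiv.toAdditive.symm eA, ?_, fun u => ?_⟩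
    · show Additive.toMul (L (Additive.ofMul v)) = w
      rw [hL, hφv, one_smul, add_sub_cancel, toMul_ofMul]
    · show Additive.toMul (L (T (Additive.ofMul u))) = Additive.toMul (T (L (Additive.ofMul u)))
      rw [← hroot, ← hroot, map_smul]
  · intro i hi
    haveI : NeZero (q : K) := ⟨fun h => by
      rw [← map_natCast (algebraMap (ZMod p) K), map_eq_zero,
        ZMod.natCast_eq_zero_iff] at h
      exact hpq h⟩
    have hprim : IsPrimitiveRoot (AdjoinRoot.root Φ) q := by
      have h := AdjoinRoot.isRoot_root Φ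
      rwa [hΦ, map_cyclotomic, isRoot_cyclotomic_iff] at h
    have heval : Φ.eval₂ (algebraMap (ZMod p) K) (AdjoinRoot.root Φ ^ i) = 0 := by
      have h := isRoot_cyclotomic_iff.mpr (hprim.pow_of_coprime i hi)
      rw [IsRoot.def, ← map_cyclotomic q (algebraMap (ZMod p) K), eval_map] at h
      exact h
    let σ : K →+* K := AdjoinRoot.lift (algebraMap (ZMod p) K) (AdjoinRoot.root Φ ^ i) heval
    let σe : K ≃+* K := RingEquiv.ofBijective σ
      ⟨σ.injective, Finite.injective_iff_surjective.mp σ.injective⟩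
    let b := Module.Basis.ofVectorSpace K (Additive V)
    let eA : Additive V ≃+ Additive V :=
      b.repr.toAddEquiv.trans ((Finsupp.mapRange.addEquiv σe.toAddEquiv).trans b.repr.symm.toAddEquiv)
    have heA : ∀ (c : K) (u : Additive V), eA (c • u) = σe c • eA u := fun c u => by
      apply b.repr.injective
      ext j
      simp [eA]
    refine ⟨MulEquiv.toAdditive.symm eA, fun u => ?_⟩
    show Additive.toMul (eA (T (Additive.ofMul u))) = _
    rw [← hroot, heA]
    have h1 : σe (AdjoinRoot.root Φ) = AdjoinRoot.root Φ ^ i := AdjoinRoot.lift_root heval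
    rw [h1]
    show Additive.toMul (ψ (AdjoinRoot.root Φ ^ i) (eA (Additive.ofMul u))) = _
    rw [map_pow, hψroot]
    exact congrArg Additive.toMul (toEnd_pow τ i (Additive.toMul (eA (Additive.ofMul u))))

theorem orderOf_eq_of_equivariant [Nontrivial V] [Module (ZMod p) (Additive V)] (τ : MulAut V)
    (hq : τ ^ q = 1) (hfpf : ∀ v, τ v = v → v = 1) (hne : p ≠ q)
    (htrans : ∀ v w : V, v ≠ 1 → w ≠ 1 → ∃ i : ℕ, i.Coprime q ∧
      ∃ e : MulAut V, e v = w ∧ ∀ u, e (τ u) = (τ ^ i) (e u))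
    (hall : ∀ i : ℕ, i.Coprime q → ∃ e : MulAut V, ∀ u, e (τ u) = (τ ^ i) (e u)) :
    orderOf (p : ZMod q) = q - 1 := by
  classical
  have hp : p.Prime := Fact.out
  have hqp : q.Prime := Fact.out
  set T := toEnd (p := p) τ with hT
  set Φ := cyclotomic q (ZMod p) with hΦ
  have hΦ0 : Φ ≠ 0 := cyclotomic_ne_zero q (ZMod p)
  have hΦT : aeval T Φ = 0 := aeval_cyclotomic_eq_zero hq hfpf
  have hTq : T ^ q = 1 := LinearMap.ext fun v => by
    have h := toEnd_pow (p := p) τ q (Additive.toMul v)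
    rw [hq] at h
    exact h
  have hmul : ∀ (g h : (ZMod p)[X]) (u : Additive V), aeval T (g * h) u = aeval T g (aeval T h u) :=
    fun g h u => by rw [map_mul, Module.End.mul_apply]
  have hcomm : ∀ (i : ℕ) (e : MulAut V), (∀ u, e (τ u) = (τ ^ i) (e u)) → ∀ (g : (ZMod p)[X]) u,
      MulEquiv.toAdditive e (aeval T g u) = aeval (T ^ i) g (MulEquiv.toAdditive e u) := by
    intro i e he g
    set E : Additive V →ₗ[ZMod p] Additive V :=
      (MulEquiv.toAdditive e).toAddMonoidHom.toZModLinearMap p with hE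
    have h1 : ∀ u, E (T u) = (T ^ i) (E u) := fun u => by
      rw [hT, hE]
      exact (congrArg Additive.ofMul (he (Additive.toMul u))).trans
        (toEnd_pow τ i (e (Additive.toMul u))).symm
    have h2 : ∀ n u, E ((T ^ n) u) = ((T ^ i) ^ n) (E u) := by
      intro n
      induction n with
      | zero => exact fun u => rfl
      | succ n ih =>
        intro u
        rw [pow_succ, Module.End.mul_apply, ih, h1, pow_succ (T ^ i), Module.End.mul_apply]
    show ∀ u, E (aeval T g u) = aeval (T ^ i) g (E u)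
    induction g using Polynomial.induction_on' with
    | add g h hg hh => intro u; simp [map_add, hg, hh]
    | monomial n a => intro u; simp [aeval_monomial, ← Algebra.smul_def, h2]
  obtain ⟨v₁, hv₁⟩ := exists_ne (0 : Additive V)
  -- an irreducible factor with nonzero kernel
  obtain ⟨f, hfirr, hfd, v₀, hv₀, hfv⟩ : ∃ f : (ZMod p)[X], Irreducible f ∧ f ∣ Φ ∧
      ∃ v₀ : Additive V, v₀ ≠ 0 ∧ aeval T f v₀ = 0 := by
    have : ∀ g : (ZMod p)[X], g ∣ Φ → aeval T g v₁ = 0 → ∃ f : (ZMod p)[X], Irreducible f ∧ f ∣ Φ ∧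
        ∃ v₀ : Additive V, v₀ ≠ 0 ∧ aeval T f v₀ = 0 := by
      intro g
      induction g using WfDvdMonoid.induction_on_irreducible with
      | zero => exact fun h _ => absurd (zero_dvd_iff.mp h) hΦ0
      | unit u hu =>
        intro _ h
        obtain ⟨c, hc⟩ := hu.exists_left_inv
        have := hmul c u v₁
        rw [hc, h, map_zero, map_one] at this
        exact absurd this hv₁
      | mul a f ha hf ih =>
        intro hd h
        by_cases h0 : aeval T a v₁ = 0
        · exact ih (dvd_of_mul_left_dvd hd) h0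
        · exact ⟨f, hf, dvd_of_mul_right_dvd hd, aeval T a v₁, h0, by rw [← hmul, h]⟩
    exact this Φ dvd_rfl (by rw [hΦT, LinearMap.zero_apply])
  -- annihilator of `v₀`
  have hann : ∀ g : (ZMod p)[X], aeval T g v₀ = 0 ↔ f ∣ g := by
    intro g
    constructor
    · intro h
      by_contra hnd
      obtain ⟨a, b, hab⟩ := (hfirr.coprime_iff_not_dvd.mpr hnd)
      apply hv₀
      have h1 : aeval T (a * f + b * g) v₀ = 0 := by
        rw [map_add, LinearMap.add_apply, hmul, hmul, hfv, h, map_zero, map_zero, add_zero]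
      rwa [hab, map_one] at h1
    · rintro ⟨c, rfl⟩
      rw [mul_comm, hmul, hfv, map_zero]
  -- annihilators of all nonzero vectors are prime
  have hprime : ∀ w : Additive V, w ≠ 0 → ∃ I : Ideal (ZMod p)[X], I.IsPrime ∧
      ∀ g, g ∈ I ↔ aeval T g w = 0 := by
    intro w hw
    obtain ⟨i, hi, e, hev, he⟩ := htrans (Additive.toMul v₀) (Additive.toMul w)
      (fun h => hv₀ (congrArg Additive.ofMul h)) (fun h => hw (congrArg Additive.ofMul h))
    set j := ((i : ZMod q)⁻¹).val with hj
    have hij : T = (T ^ i) ^ j := by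
      have h1 : ((i * j : ℕ) : ZMod q) = ((1 : ℕ) : ZMod q) := by
        rw [Nat.cast_mul, hj, ZMod.natCast_zmod_val, Nat.cast_one,
          mul_inv_cancel₀ (fun h => ?_)]
        rw [ZMod.natCast_eq_zero_iff] at h
        exact hqp.coprime_iff_not_dvd.mp hi.symm h
      have h2 : i * j % q = 1 := by
        rw [ZMod.natCast_eq_natCast_iff'] at h1
        rwa [Nat.one_mod_eq_one.mpr hqp.ne_one] at h1
      rw [← pow_mul, pow_eq_pow_mod _ hTq, h2, pow_one]
    haveI : (Ideal.span {f}).IsPrime := (Ideal.span_singleton_prime hfirr.ne_zero).mpr hfirr.prime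
    refine ⟨(Ideal.span {f}).comap (aeval (X ^ j : (ZMod p)[X])).toRingHom, inferInstance, fun g => ?_⟩
    rw [Ideal.mem_comap, Ideal.mem_span_singleton, ← hann]
    have hwv : MulEquiv.toAdditive e v₀ = w := congrArg Additive.ofMul hev
    have h3 : MulEquiv.toAdditive e (aeval T ((aeval (X ^ j : (ZMod p)[X])) g) v₀) = aeval T g w := by
      rw [hcomm i e he, hwv, ← aeval_algHom_apply, map_pow, aeval_X, ← hij]
    show aeval T ((aeval (X ^ j : (ZMod p)[X])) g) v₀ = 0 ↔ _
    rw [← h3, map_eq_zero_iff _ (MulEquiv.toAdditive e).injective]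
  -- `f` kills everything
  have hfT : ∀ w : Additive V, aeval T f w = 0 := by
    intro w
    by_contra hfw
    have hw : w ≠ 0 := fun h => hfw (by rw [h, map_zero])
    obtain ⟨I, hI, hmemI⟩ := hprime w hw
    have hI0 : I ≠ ⊥ := fun h => hΦ0 (by
      have : Φ ∈ I := (hmemI Φ).mpr (by rw [hΦT, LinearMap.zero_apply])
      rwa [h, Ideal.mem_bot] at this)
    obtain ⟨h, hh, hfh⟩ : ∃ h ∈ I, ¬ f ∣ h := by
      by_contra hcon
      push Not at hcon
      haveI := hI.isMaximal hI0
      have h1 : I = Ideal.span {f} := Ideal.IsMaximal.eq_of_le ‹_›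
        (fun h => hfirr.not_isUnit (Ideal.span_singleton_eq_top.mp h))
        (fun g hg => Ideal.mem_span_singleton.mpr (hcon g hg))
      exact hfw ((hmemI f).mp (h1 ▸ Ideal.mem_span_singleton_self f))
    have hu : v₀ + w ≠ 0 := fun h => hfw (by
      rw [eq_neg_of_add_eq_zero_right h, map_neg, hfv, neg_zero])
    obtain ⟨J, hJ, hmemJ⟩ := hprime _ hu
    have hfhJ : f * h ∈ J := (hmemJ _).mpr (by
      rw [map_add, hmul, hmul, (hmemI h).mp hh, map_zero, add_zero, ← hmul, mul_comm, hmul, hfv,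
        map_zero])
    rcases hJ.mem_or_mem hfhJ with h1 | h1
    · have := (hmemJ f).mp h1
      rw [map_add, hfv, zero_add] at this
      exact hfw this
    · have := (hmemJ h).mp h1
      rw [map_add, (hmemI h).mp hh, add_zero] at this
      exact hfh ((hann h).mp this)
  haveI := Fact.mk hfirr
  let K := AdjoinRoot f
  set r : K := AdjoinRoot.root f with hr
  have hroot : ∀ i : ℕ, i.Coprime q → aeval (r ^ i) f = 0 := by
    intro i hi
    obtain ⟨e, he⟩ := hall i hi
    obtain ⟨u, hu⟩ := (MulEquiv.toAdditive e).surjective v₀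
    have h1 : aeval T (aeval (X ^ i : (ZMod p)[X]) f) v₀ = 0 := by
      rw [← aeval_algHom_apply, map_pow, aeval_X, ← hu, ← hcomm i e he, hfT, map_zero]
    have h2 : AdjoinRoot.mk f (aeval (X ^ i : (ZMod p)[X]) f) = 0 :=
      AdjoinRoot.mk_eq_zero.mpr ((hann _).mp h1)
    rw [← AdjoinRoot.aeval_eq, ← aeval_algHom_apply, map_pow, aeval_X] at h2
    exact h2
  have hrq : orderOf r = q := by
    refine orderOf_eq_prime ?_ ?_
    · have h : f ∣ X ^ q - 1 := hfd.trans (cyclotomic.dvd_X_pow_sub_one q (ZMod p))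
      have := AdjoinRoot.mk_eq_zero.mpr h
      rw [map_sub, map_pow, map_one, AdjoinRoot.mk_X, sub_eq_zero] at this
      exact this
    · intro h
      have : aeval T (X - 1 : (ZMod p)[X]) v₀ = 0 := (hann _).mpr (AdjoinRoot.mk_eq_zero.mp (by
        rw [map_sub, map_one, AdjoinRoot.mk_X, ← hr, h, sub_self]))
      rw [map_sub, map_one, aeval_X, LinearMap.sub_apply, sub_eq_zero] at this
      exact hv₀ (congrArg Additive.ofMul (hfpf (Additive.toMul v₀) (congrArg Additive.toMul this)))
  have hdeg : q - 1 ≤ f.natDegree := by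
    have hsub : (Finset.Ico 1 q).image (r ^ ·) ⊆ (f.aroots K).toFinset := by
      intro x hx
      obtain ⟨i, hi, rfl⟩ := Finset.mem_image.mp hx
      rw [Finset.mem_Ico] at hi
      rw [Multiset.mem_toFinset, mem_aroots]
      exact ⟨hfirr.ne_zero, hroot i (Nat.Coprime.symm
        (hqp.coprime_iff_not_dvd.mpr fun h => by have := Nat.le_of_dvd (by omega) h; omega))⟩
    have h1 := Finset.card_le_card hsub
    rw [Finset.card_image_of_injOn, Nat.card_Ico] at h1
    · refine h1.trans ((Multiset.toFinset_card_le _).trans ?_)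
      exact (card_roots' _).trans natDegree_map_le
    · intro a ha b hb hab
      rw [Finset.coe_Ico, Set.mem_Ico] at ha hb
      exact pow_injOn_Iio_orderOf (by rw [hrq]; exact ha.2) (by rw [hrq]; exact hb.2) hab
  have hpq' : p.Coprime q := (Nat.coprime_primes hp hqp).mpr hne
  have hnd : f.natDegree = orderOf (p : ZMod q) := by
    rw [natDegree_of_dvd_cyclotomic_of_irreducible (p := p) (f := 1) (n := q) (by simp)
      hpq' hfd hfirr, ← orderOf_units, ZMod.coe_unitOfCoprime, pow_one]
  refine le_antisymm (Nat.le_of_dvd (by have := hqp.two_le; omega) (ZMod.orderOf_dvd_card_sub_one ?_))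
    (hnd ▸ hdeg)
  rw [Ne, ZMod.natCast_eq_zero_iff]
  exact fun h => hne ((Nat.prime_dvd_prime_iff_eq hqp hp).mp h).symm

end Linear

/-! ### The group -/

section Grp

variable {G : Type*} [Group G] [Finite G] {p q : ℕ}

theorem decomp {n : ℕ} (hqp : q.Prime) (hcop : (p ^ n).Coprime q)
    (hG : Nat.card G = p ^ n * q) {P : Subgroup G} (hP : Nat.card P = p ^ n) {x : G}
    (hx : orderOf x = q) :
    (∀ g : G, ∃ y : P, ∃ j : ℕ, g = y * x ^ j) ∧
    ∀ (y y' : P) (j k : ℕ), (y : G) * x ^ j = y' * x ^ k → y = y' ∧ x ^ j = x ^ k := by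
  have hQ : Nat.card (Subgroup.zpowers x) = q := by rw [Nat.card_zpowers, hx]
  have hc : Subgroup.IsComplement' P (Subgroup.zpowers x) :=
    Subgroup.isComplement'_of_coprime (by rw [hP, hQ, hG]) (by rw [hP, hQ]; exact hcop)
  refine ⟨fun g => ?_, fun y y' j k h => ?_⟩
  · obtain ⟨⟨⟨y, hy⟩, ⟨z, hz⟩⟩, hyz, -⟩ := hc.existsUnique g
    obtain ⟨j, rfl⟩ := (isOfFinOrder_of_finite x).mem_powers_iff_mem_zpowers.mpr hz
    exact ⟨⟨y, hy⟩, j, hyz.symm⟩
  · have hd := hc.disjoint
    have h1 : (y' : G)⁻¹ * y = x ^ k * (x ^ j)⁻¹ := by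
      rw [eq_mul_inv_iff_mul_eq, mul_assoc, h, inv_mul_cancel_left]
    have h2 : (y' : G)⁻¹ * y ∈ P ⊓ Subgroup.zpowers x 
        := Subgroup.mem_inf.mpr ⟨P.mul_mem (P.inv_mem y'.2) y.2, h1 ▸
      mul_mem (pow_mem (Subgroup.mem_zpowers x) k) (inv_mem (pow_mem (Subgroup.mem_zpowers x) j))⟩
    rw [hd.eq_bot, Subgroup.mem_bot, inv_mul_eq_one] at h2
    refine ⟨(Subtype.ext h2).symm, ?_⟩
    rw [h2, mul_right_inj] at h
    exact h

theorem eq_card_three_iff {a b : G} (hpq : p ≠ q) (hp1 : p ≠ 1) (hq1 : q ≠ 1)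
    (ha : orderOf a = p) (hb : orderOf b = q) :
    Nat.card (MulAction.orbitRel.Quotient (MulAut G) G) = 3 ↔
      ((∀ g : G, orderOf g = 1 ∨ orderOf g = p ∨ orderOf g = q) ∧
       ∀ g h : G, orderOf g = orderOf h → ∃ φ : MulAut G, φ g = h) := by
  haveI : Finite (MulAction.orbitRel.Quotient (MulAut G) G) := Quotient.finite _
  have hrel : ∀ g h : G, Quotient.mk (MulAction.orbitRel (MulAut G) G) g = Quotient.mk _ h ↔
      ∃ φ : MulAut G, φ h = g := fun g h => by
    rw [Quotient.eq, MulAction.orbitRel_apply, MulAction.mem_orbit_iff]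
    rfl
  let F : MulAction.orbitRel.Quotient (MulAut G) G → ℕ := Quotient.lift orderOf fun g h hgh => by
    obtain ⟨φ, rfl⟩ := hgh
    exact MulEquiv.orderOf_eq φ h
  let S : Finset ℕ := {1, p, q}
  have hS : S.card = 3 := by simp [S, hpq, hp1.symm, hq1.symm]
  constructor
  · intro h3
    let r : S → MulAction.orbitRel.Quotient (MulAut G) G := fun i =>
      Quotient.mk _ (if (i : ℕ) = p then a else if (i : ℕ) = q then b else 1)
    have hr : ∀ i : S, F (r i) = i := by
      rintro ⟨i, hi⟩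
      simp only [S, Finset.mem_insert, Finset.mem_singleton] at hi
      show orderOf _ = i
      rcases hi with rfl | rfl | rfl <;> simp [hp1.symm, hq1.symm, hpq.symm, ha, hb]
    have hsur : Function.Surjective r :=
      ((Nat.bijective_iff_injective_and_card r).mpr
        ⟨fun i j h => Subtype.ext (by rw [← hr i, ← hr j, h]), by
          rw [h3, Nat.card_eq_finsetCard, hS]⟩).2
    refine ⟨fun g => ?_, fun g h hgh => ?_⟩
    · obtain ⟨i, hi⟩ := hsur (Quotient.mk _ g)
      have h1 : (i : ℕ) = orderOf g := by rw [← hr i, hi]; rfl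
      have h2 : (i : ℕ) ∈ S := i.2
      simp only [S, Finset.mem_insert, Finset.mem_singleton, h1] at h2
      exact h2
    · obtain ⟨i, hi⟩ := hsur (Quotient.mk _ g)
      obtain ⟨j, hj⟩ := hsur (Quotient.mk _ h)
      have hij : i = j := Subtype.ext (by rw [← hr i, ← hr j, hi, hj]; exact hgh)
      exact (hrel h g).mp (hj.symm.trans ((congrArg r hij).symm.trans hi))
  · rintro ⟨hord, htrans⟩
    rw [← hS, ← Nat.card_eq_finsetCard]
    refine Nat.card_eq_of_bijective (fun c => (⟨F c, ?_⟩ : S)) ⟨?_, ?_⟩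
    · induction c using Quotient.inductionOn with | h g => ?_
      have h := hord g
      simpa [S, F] using h
    · intro c d h
      induction c using Quotient.inductionOn with | h g => ?_
      induction d using Quotient.inductionOn with | h g' => ?_
      exact (hrel g g').mpr (htrans g' g (congrArg Subtype.val h).symm)
    · rintro ⟨i, hi⟩
      simp only [S, Finset.mem_insert, Finset.mem_singleton] at hi
      rcases hi with rfl | rfl | rfl
      · exact ⟨Quotient.mk _ 1, Subtype.ext orderOf_one⟩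
      · exact ⟨Quotient.mk _ a, Subtype.ext ha⟩
      · exact ⟨Quotient.mk _ b, Subtype.ext hb⟩

theorem orderOf_mul_prime {a b : G} (hp : p.Prime) (hq : q.Prime) (hpq : p ≠ q)
    (ha : orderOf a = q) (hb : orderOf b = p) (h : a * b * a⁻¹ = b) : orderOf (a * b) = q * p := by
  rw [Commute.orderOf_mul_eq_mul_orderOf_of_coprime (mul_inv_eq_iff_eq_mul.mp h)
    (by rw [ha, hb]; exact (Nat.coprime_primes hq hp).mpr hpq.symm), ha, hb]

theorem conj_pow_apply {P : Subgroup G} [P.Normal] (x : G) (j : ℕ) (u : P) :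
    (((MulAut.conjNormal x : MulAut P) ^ j) u : G) = x ^ j * u * (x ^ j)⁻¹ := by
  rw [← map_pow, MulAut.conjNormal_apply]

theorem forward (hp : p.Prime) (hq : q.Prime) (hpq : p ≠ q) {α β : ℕ}
    (hG : Nat.card G = p ^ α * q ^ β) (hα : α ≠ 0) (hβ : β ≠ 0)
    (hne : Cfsg.pCore p G ≠ ⊥)
    (hord : ∀ g : G, orderOf g = 1 ∨ orderOf g = p ∨ orderOf g = q)
    (htrans : ∀ g h : G, orderOf g = orderOf h → ∃ φ : MulAut G, φ g = h) :
    ∃ (p q n : ℕ) (_ : Fact p.Prime) (_ : Fact q.Prime), p ≠ q ∧ 1 ≤ n ∧ Nat.card G = p ^ n * q ∧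
      (∀ P : Sylow p G, (P : Subgroup G).Normal ∧ Cfsg.IsElementaryAbelian p (P : Subgroup G)) ∧
      orderOf (p : ZMod q) = q - 1 ∧
      ∀ x y : G, orderOf x = q → orderOf y = p → x * y * x⁻¹ ≠ y := by
  classical
  haveI := Fact.mk hp
  haveI := Fact.mk hq
  set P₀ := Cfsg.pCore p G with hP₀
  have hP₀p : IsPGroup p P₀ := Cfsg.Lib.Core.pCore_isPGroup p G
  have hfac : (Nat.card G).factorization p = α ∧ (Nat.card G).factorization q = β := by
    rw [hG, Nat.factorization_mul (pow_ne_zero _ hp.ne_zero) (pow_ne_zero _ hq.ne_zero),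
      hp.factorization_pow, hq.factorization_pow]
    simp [Finsupp.single_apply, hpq, hpq.symm]
  -- `P₀` is exactly the set of `p`-elements
  have hsub : ∀ y ∈ P₀, y ≠ 1 → orderOf y = p := by
    intro y hy hy1
    obtain ⟨k, hk⟩ := IsPGroup.iff_orderOf.mp hP₀p ⟨y, hy⟩
    rw [Subgroup.orderOf_mk] at hk
    rcases hord y with h | h | h
    · exact absurd (orderOf_eq_one_iff.mp h) hy1
    · exact h
    · exfalso
      rw [h] at hk
      exact hpq ((Nat.prime_dvd_prime_iff_eq hq hp).mp
        (hq.dvd_of_dvd_pow (dvd_of_eq hk))).symm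
  obtain ⟨z, hz, hz1⟩ := P₀.bot_or_exists_ne_one.resolve_left hne
  haveI : P₀.Characteristic := Cfsg.Lib.Core.pCore_characteristic
  have hauto : ∀ (φ : MulAut G) (y : G), y ∈ P₀ → φ y ∈ P₀ := fun φ y hy =>
    (Subgroup.characteristic_iff_map_le.mp inferInstance φ) (Subgroup.mem_map_of_mem _ hy)
  have hmem : ∀ y : G, orderOf y = p → y ∈ P₀ := fun y hy => by
    obtain ⟨φ, hφ⟩ := htrans z y ((hsub z hz hz1).trans hy.symm)
    exact hφ ▸ hauto φ z hz
  have hsyl : ∀ P : Sylow p G, (P : Subgroup G) = P₀ := fun P => by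
    refine le_antisymm (fun y hy => ?_) (Cfsg.Lib.Core.pCore_le_sylow P)
    obtain ⟨k, hk⟩ := IsPGroup.iff_orderOf.mp P.2 ⟨y, hy⟩
    rw [Subgroup.orderOf_mk] at hk
    rcases hord y with h | h | h
    · rw [orderOf_eq_one_iff.mp h]; exact one_mem _
    · exact hmem y h
    · exfalso
      rw [h] at hk
      exact hpq ((Nat.prime_dvd_prime_iff_eq hq hp).mp
        (hq.dvd_of_dvd_pow (dvd_of_eq hk))).symm
  haveI : P₀.Normal := inferInstance
  have hP₀c : Nat.card P₀ = p ^ α := by
    rw [← hsyl (Classical.arbitrary _), Sylow.card_eq_multiplicity, hfac.1]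
  have hcomm : ∀ u ∈ P₀, ∀ v ∈ P₀, u * v = v * u := by
    intro u hu v hv
    by_cases hu1 : u = 1
    · rw [hu1, one_mul, mul_one]
    haveI : Nontrivial P₀ := (Subgroup.nontrivial_iff_ne_bot _).mpr hne
    haveI := hP₀p.center_nontrivial
    obtain ⟨c, hc⟩ := exists_ne (1 : Subgroup.center P₀)
    obtain ⟨φ, hφ⟩ := htrans ((c : P₀) : G) u ((hsub _ (c : P₀).2 (fun h =>
      hc (Subtype.ext (Subtype.ext h)))).trans (hsub u hu hu1).symm)
    have h2 : φ.symm v * ((c : P₀) : G) = ((c : P₀) : G) * φ.symm v :=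
      congrArg Subtype.val (Subgroup.mem_center_iff.mp c.2 ⟨φ.symm v, hauto φ.symm v hv⟩)
    have := congrArg φ h2
    simp only [map_mul, MulEquiv.apply_symm_apply, hφ] at this
    exact this.symm
  have hexp : ∀ u ∈ P₀, u ^ p = 1 := fun u hu => by
    by_cases hu1 : u = 1
    · rw [hu1, one_pow]
    · rw [← hsub u hu hu1, pow_orderOf_eq_one]
  have hfpf : ∀ x y : G, orderOf x = q → orderOf y = p → x * y * x⁻¹ ≠ y := by
    intro x y hx hy h
    have h1 := orderOf_mul_prime hp hq hpq hx hy h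
    have h2 := hp.two_le
    have h3 := hq.two_le
    have h4 : q * 1 < q * p := Nat.mul_lt_mul_of_pos_left (by omega) (by omega)
    have h5 : 1 * p < q * p := Nat.mul_lt_mul_of_pos_right (by omega) (by omega)
    rcases hord (x * y) with h' | h' | h' <;> omega
  -- the Sylow `q`-subgroups have order `q`
  have hβ1 : β = 1 := by
    by_contra hβ1
    obtain ⟨H, hH⟩ := Sylow.exists_subgroup_card_pow_prime q (n := 2)
      (hG ▸ dvd_mul_of_dvd_right (pow_dvd_pow q (by omega)) _ : q ^ 2 ∣ Nat.card G)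
    haveI : IsMulCommutative H := IsPGroup.isMulCommutative_of_card_eq_prime_sq hH
    have hnc : ¬ IsCyclic H := by
      intro hcyc
      obtain ⟨g, hg⟩ := IsCyclic.exists_ofOrder_eq_natCard (α := H)
      rw [hH, ← Subgroup.orderOf_coe] at hg
      have hq2 : q < q ^ 2 := by nlinarith [hq.two_le]
      rcases hord g with h | h | h
      · nlinarith [hq.two_le]
      · exact hpq ((Nat.prime_dvd_prime_iff_eq hq hp).mp
          (by rw [← h, hg]; exact dvd_pow_self q two_ne_zero)).symm
      · omega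
    have hH1 : ∀ a ∈ H, a ≠ 1 → orderOf a = q := by
      intro a ha ha1
      have hd : orderOf a ∣ q ^ 2 := hH ▸ Subgroup.orderOf_dvd_natCard H ha
      rcases hord a with h | h | h
      · exact absurd (orderOf_eq_one_iff.mp h) ha1
      · rw [h] at hd
        exact absurd ((Nat.prime_dvd_prime_iff_eq hp hq).mp (hp.dvd_of_dvd_pow hd)) hpq
      · exact h
    have hle := Cfsg.Lib.Coprime.le_iSup_centralizer_of_not_isCyclic (A := H) (G := P₀) hnc
      (le_of_le_of_eq le_top (Subgroup.normalizer_eq_top P₀).symm)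
      (by rw [hH, hP₀c]; exact ((Nat.coprime_primes hq hp).mpr hpq.symm).pow _ _)
    refine hne (le_bot_iff.mp (hle.trans (iSup_le fun a => ?_)))
    intro y hy
    rw [Subgroup.mem_bot]
    by_contra hy1
    refine hfpf a y (hH1 a a.2.1 a.2.2) (hsub y hy.1 hy1) ?_
    rw [Subgroup.mem_centralizer_iff.mp hy.2 a rfl, mul_inv_cancel_right]
  subst hβ1
  rw [pow_one] at hG
  refine ⟨p, q, α, ⟨hp⟩, ⟨hq⟩, hpq, Nat.pos_of_ne_zero hα, hG, fun P => ?_, ?_, hfpf⟩
  · rw [hsyl P]
    exact ⟨inferInstance, ⟨⟨fun u v => Subtype.ext (hcomm u u.2 v v.2)⟩⟩, hexp⟩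
  obtain ⟨x, hx⟩ := exists_prime_orderOf_dvd_card' q (hG ▸ dvd_mul_left q _ : q ∣ Nat.card G)
  have hcop : (p ^ α).Coprime q := ((Nat.coprime_primes hp hq).mpr hpq).pow_left _
  obtain ⟨hdec, huniq⟩ := decomp hq hcop hG hP₀c hx
  letI : CommGroup P₀ :=
    { (inferInstance : Group P₀) with mul_comm := fun u v => Subtype.ext (hcomm u u.2 v v.2) }
  haveI : Nontrivial P₀ := (Subgroup.nontrivial_iff_ne_bot _).mpr hne
  letI : Module (ZMod p) (Additive P₀) := zmodMod fun u => Subtype.ext (hexp u u.2)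
  set τ : MulAut P₀ := MulAut.conjNormal x with hτ
  have hτq : τ ^ q = 1 := by rw [hτ, ← map_pow, ← hx, pow_orderOf_eq_one, map_one]
  have hτfpf : ∀ u : P₀, τ u = u → u = 1 := by
    intro u hu
    by_contra hu1
    exact hfpf x u hx (hsub u u.2 fun h => hu1 (Subtype.ext h))
      ((MulAut.conjNormal_apply x u).symm.trans (congrArg Subtype.val hu))
  let res : MulAut G → MulAut P₀ := fun φ =>
    { toFun := fun u => ⟨φ u, hauto φ u u.2⟩
      invFun := fun u => ⟨φ.symm u, hauto φ.symm u u.2⟩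
      left_inv := fun u => Subtype.ext (φ.symm_apply_apply u)
      right_inv := fun u => Subtype.ext (φ.apply_symm_apply u)
      map_mul' := fun u v => Subtype.ext (map_mul φ (u : G) v) }
  have hres : ∀ (φ : MulAut G) (y : P₀) (i : ℕ), φ x = y * x ^ i →
      ∀ u, res φ (τ u) = (τ ^ i) (res φ u) := by
    intro φ y i hφ u
    apply Subtype.ext
    show φ (τ u : P₀) = _
    rw [hτ, MulAut.conjNormal_apply, map_mul, map_mul, map_inv, hφ, conj_pow_apply]
    set v : G := x ^ i * φ u * (x ^ i)⁻¹ with hv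
    have hvP : v ∈ P₀ := Subgroup.Normal.conj_mem inferInstance _ (hauto φ u u.2) _
    calc (y : G) * x ^ i * φ u * ((y : G) * x ^ i)⁻¹ = y * v * (y : G)⁻¹ := by
          rw [hv]; group
      _ = v := by rw [hcomm y y.2 v hvP, mul_inv_cancel_right]
  have hcoord : ∀ g : G, orderOf g = q → ∃ (y : P₀) (i : ℕ), i.Coprime q ∧ g = y * x ^ i := by
    intro g hg
    obtain ⟨y, i, rfl⟩ := hdec g
    refine ⟨y, i, (Nat.coprime_comm.mp (hq.coprime_iff_not_dvd.mpr fun hd => ?_)), rfl⟩
    have hxi : x ^ i = 1 := orderOf_dvd_iff_pow_eq_one.mp (hx ▸ hd)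
    rw [hxi, mul_one] at hg
    by_cases hy1 : (y : G) = 1
    · rw [hy1, orderOf_one] at hg; exact hq.ne_one hg.symm
    · exact hpq ((hsub _ y.2 hy1).symm.trans hg)
  refine orderOf_eq_of_equivariant (V := P₀) τ hτq hτfpf hpq ?_ ?_
  · intro v w hv hw
    obtain ⟨φ, hφ⟩ := htrans v w ((hsub _ v.2 fun h => hv (Subtype.ext h)).trans
      (hsub _ w.2 fun h => hw (Subtype.ext h)).symm)
    obtain ⟨y, i, hi, hy⟩ := hcoord (φ x) ((MulEquiv.orderOf_eq φ x).trans hx)
    exact ⟨i, hi, res φ, Subtype.ext hφ, hres φ y i hy⟩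
  · intro i hi
    have hxi : orderOf (x ^ i) = q := by
      rw [Nat.Coprime.orderOf_pow (hx.symm ▸ hi.symm), hx]
    obtain ⟨φ, hφ⟩ := htrans x (x ^ i) (hx.trans hxi.symm)
    exact ⟨res φ, hres φ 1 i (by rw [hφ, OneMemClass.coe_one, one_mul])⟩

theorem backward {n : ℕ} [Fact p.Prime] [Fact q.Prime] (hpq : p ≠ q)
    (hG : Nat.card G = p ^ n * q)
    (hPel : ∀ P : Sylow p G, (P : Subgroup G).Normal ∧ Cfsg.IsElementaryAbelian p (P : Subgroup G))
    (hn : 1 ≤ n) (hord : orderOf (p : ZMod q) = q - 1)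
    (hfpf : ∀ x y : G, orderOf x = q → orderOf y = p → x * y * x⁻¹ ≠ y) :
    Nat.card (MulAction.orbitRel.Quotient (MulAut G) G) = 3 := by
  classical
  have hp : p.Prime := Fact.out
  have hq : q.Prime := Fact.out
  let S : Sylow p G := Classical.arbitrary _
  obtain ⟨hnor, hab, hexp⟩ := hPel S
  set P : Subgroup G := (S : Subgroup G) with hPdef
  haveI := hnor
  haveI := Sylow.unique_of_normal S hnor
  have hPc : Nat.card P = p ^ n := by
    rw [hPdef, S.card_eq_multiplicity, hG,
      Nat.factorization_mul (pow_ne_zero _ hp.ne_zero) hq.ne_zero, hp.factorization_pow,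
      hq.factorization]
    simp [Finsupp.single_apply, hpq, hpq.symm]
  have hmem : ∀ g : G, orderOf g = p → g ∈ P := by
    intro g hg
    have hz : IsPGroup p (Subgroup.zpowers g) :=
      IsPGroup.of_card (n := 1) (by rw [Nat.card_zpowers, hg, pow_one])
    obtain ⟨S', hS'⟩ := hz.exists_le_sylow
    rw [Subsingleton.elim S' S] at hS'
    exact hS' (Subgroup.mem_zpowers g)
  have hP1 : ∀ u ∈ P, u ≠ 1 → orderOf u = p := fun u hu hu1 =>
    orderOf_eq_prime (hexp u hu) hu1
  obtain ⟨x, hx⟩ := exists_prime_orderOf_dvd_card' q (hG ▸ dvd_mul_left q _ : q ∣ Nat.card G)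
  obtain ⟨a, ha⟩ := exists_prime_orderOf_dvd_card' p
    (hG ▸ dvd_mul_of_dvd_left (dvd_pow_self p (by omega)) _ : p ∣ Nat.card G)
  have hcop : (p ^ n).Coprime q := ((Nat.coprime_primes hp hq).mpr hpq).pow_left _
  obtain ⟨hdec, huniq⟩ := decomp hq hcop hG hPc hx
  letI : CommGroup P :=
    { (inferInstance : Group P) with mul_comm := fun u v => hab.is_comm.comm u v }
  letI : Module (ZMod p) (Additive P) := zmodMod fun u => Subtype.ext (hexp u u.2)
  set τ : MulAut P := MulAut.conjNormal x with hτ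
  have hτq : τ ^ q = 1 := by rw [hτ, ← map_pow, ← hx, pow_orderOf_eq_one, map_one]
  have hτfpf : ∀ u : P, τ u = u → u = 1 := by
    intro u hu
    by_contra hu1
    exact hfpf x u hx (hP1 u u.2 fun h => hu1 (Subtype.ext h))
      ((MulAut.conjNormal_apply x u).symm.trans (congrArg Subtype.val hu))
  obtain ⟨htransP, hall⟩ := exists_equivariant (V := P) τ hτq hτfpf hpq hord
  have hextend : ∀ (e : MulAut P) (i : ℕ), i.Coprime q → (∀ u, e (τ u) = (τ ^ i) (e u)) →
      ∃ φ : MulAut G, φ x = x ^ i ∧ ∀ u : P, φ u = e u := by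
    intro e i hi he
    have he' : ∀ (j : ℕ) u, e ((τ ^ j) u) = ((τ ^ i) ^ j) (e u) := by
      intro j
      induction j with
      | zero => exact fun u => rfl
      | succ j ih =>
        intro u
        rw [pow_succ, MulAut.mul_apply, ih, he, pow_succ (τ ^ i), MulAut.mul_apply]
    choose Y J hYJ using hdec
    let F : G → G := fun g => (e (Y g) : G) * x ^ (i * J g)
    have hF : ∀ (y : P) (j : ℕ), F (y * x ^ j) = (e y : G) * x ^ (i * j) := by
      intro y j
      obtain ⟨h1, h2⟩ := huniq _ _ _ _ (hYJ ((y : G) * x ^ j))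
      show (e (Y _) : G) * x ^ (i * J _) = _
      rw [mul_comm i, mul_comm i, pow_mul, pow_mul, ← h1]
      exact congrArg (fun z => (e y : G) * z ^ i) h2.symm
    have hmul : ∀ g h, F (g * h) = F g * F h := by
      intro g h
      have h3 : ∀ (y y' : P) (j k : ℕ),
          F ((y : G) * x ^ j * ((y' : G) * x ^ k)) = F ((y : G) * x ^ j) * F ((y' : G) * x ^ k) := by
        intro y y' j k
        have hk : (y : G) * x ^ j * ((y' : G) * x ^ k) =
            ((y * (τ ^ j) y' : P) : G) * x ^ (j + k) := by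
          rw [Subgroup.coe_mul, hτ, conj_pow_apply, pow_add]
          group
        rw [hk, hF, hF, hF, map_mul, he', ← pow_mul, Subgroup.coe_mul, hτ, conj_pow_apply,
          mul_add, pow_add]
        group
      rw [hYJ g, hYJ h]
      exact h3 _ _ _ _
    let Fh : G →* G := MonoidHom.mk' F hmul
    have hinj : Function.Injective Fh := by
      rw [injective_iff_map_eq_one]
      intro g hg
      obtain ⟨y, j, rfl⟩ : ∃ (y : P) (j : ℕ), g = y * x ^ j := ⟨_, _, hYJ g⟩
      have hg' : ((e y : P) : G) * x ^ (i * j) = ((1 : P) : G) * x ^ 0 := by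
        rw [← hF, OneMemClass.coe_one, one_mul, pow_zero]; exact hg
      obtain ⟨h1, h2⟩ := huniq _ _ _ _ hg'
      rw [map_eq_one_iff _ e.injective] at h1
      rw [pow_zero, ← orderOf_dvd_iff_pow_eq_one, hx] at h2
      have h4 : q ∣ j := (Nat.Coprime.dvd_mul_left hi.symm).mp h2
      rw [h1, OneMemClass.coe_one, one_mul, ← orderOf_dvd_iff_pow_eq_one, hx]
      exact h4
    refine ⟨MulEquiv.ofBijective Fh ⟨hinj, Finite.injective_iff_surjective.mp hinj⟩, ?_, ?_⟩
    · show F x = x ^ i
      have h := hF 1 1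
      rw [pow_one, map_one, OneMemClass.coe_one, one_mul, one_mul, mul_one] at h
      exact h
    · intro u
      show F u = e u
      have h := hF u 0
      rwa [pow_zero, mul_one, mul_zero, pow_zero, mul_one] at h
  -- element orders
  have hordG : ∀ g : G, orderOf g = 1 ∨ orderOf g = p ∨ orderOf g = q := by
    intro g
    have hidx : P.index = q := by
      have := P.card_mul_index
      rw [hPc, hG] at this
      exact Nat.eq_of_mul_eq_mul_left (pow_pos hp.pos n) this
    have hgq : g ^ q ∈ P := by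
      rw [← QuotientGroup.eq_one_iff, QuotientGroup.mk_pow, ← hidx]
      exact pow_card_eq_one'
    have hd : orderOf g ∣ q * p :=
      orderOf_dvd_of_pow_eq_one (by rw [pow_mul]; exact hexp _ hgq)
    obtain ⟨a', b', ha', hb', hab'⟩ := exists_dvd_and_dvd_of_dvd_mul hd
    rcases (Nat.dvd_prime hq).mp ha' with rfl | rfl <;>
      rcases (Nat.dvd_prime hp).mp hb' with rfl | rfl
    · simp [hab']
    · simp [hab']
    · simp [hab']
    · exfalso
      have hgp : orderOf (g ^ b') = a' := by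
        rw [orderOf_pow' g hp.ne_zero, hab', Nat.gcd_mul_left_left, Nat.mul_div_cancel _ hp.pos]
      have hgq' : orderOf (g ^ a') = b' := by
        rw [orderOf_pow' g hq.ne_zero, hab', Nat.gcd_mul_right_left, Nat.mul_div_cancel_left _ hq.pos]
      exact hfpf _ _ hgp hgq' (by rw [(Commute.pow_pow_self g b' a').eq, mul_inv_cancel_right])
  refine (eq_card_three_iff hpq hp.ne_one hq.ne_one ha hx).mpr ⟨hordG, fun g h hgh => ?_⟩
  rcases hordG g with hg | hg | hg
  · exact ⟨1, by rw [orderOf_eq_one_iff.mp hg, orderOf_eq_one_iff.mp (hgh.symm.trans hg), map_one]⟩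
  · obtain ⟨e, he1, he2⟩ := htransP ⟨g, hmem g hg⟩ ⟨h, hmem h (hgh ▸ hg)⟩
      (fun hh => by rw [show g = 1 from congrArg Subtype.val hh, orderOf_one] at hg
                    exact hp.ne_one hg.symm)
      (fun hh => by rw [show h = 1 from congrArg Subtype.val hh, orderOf_one] at hgh
                    exact hp.ne_one (hg.symm.trans hgh))
    obtain ⟨φ, -, hφ⟩ := hextend e 1 (Nat.coprime_one_left q) (fun u => by rw [pow_one]; exact he2 u)
    exact ⟨φ, (hφ ⟨g, hmem g hg⟩).trans (congrArg Subtype.val he1)⟩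
  · -- every element of order `q` is an image of `x`
    have key : ∀ g : G, orderOf g = q → ∃ φ : MulAut G, φ x = g := by
      intro g hg
      obtain ⟨y, i, rfl⟩ := hdec g
      have hdi : ¬ q ∣ i := fun hd => by
        rw [orderOf_dvd_iff_pow_eq_one.mp (hx ▸ hd), mul_one] at hg
        by_cases hy1 : (y : G) = 1
        · rw [hy1, orderOf_one] at hg; exact hq.ne_one hg.symm
        · exact hpq ((hP1 _ y.2 hy1).symm.trans hg)
      have hi : i.Coprime q := Nat.coprime_comm.mp (hq.coprime_iff_not_dvd.mpr hdi)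
      have hxi : orderOf (x ^ i) = q := by rw [Nat.Coprime.orderOf_pow (hx.symm ▸ hi.symm), hx]
      let D : P → P := fun u => u * ((τ ^ i) u)⁻¹
      have hD : Function.Injective D := by
        intro u v huv
        by_contra hne
        have h1 : (τ ^ i) (v⁻¹ * u) = v⁻¹ * u := by
          rw [map_mul, map_inv]
          have : u * ((τ ^ i) u)⁻¹ = v * ((τ ^ i) v)⁻¹ := huv
          rw [mul_inv_eq_iff_eq_mul] at this
          conv_rhs => rw [this]
          rw [mul_assoc v, inv_mul_cancel_left]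
        refine hfpf (x ^ i) ((v⁻¹ * u : P) : G) hxi (hP1 _ (Subtype.prop _) fun hh => hne ?_) ?_
        · exact (inv_mul_eq_one.mp (Subtype.ext hh)).symm
        · rw [← conj_pow_apply, ← hτ, h1]
      obtain ⟨u, hu⟩ := Finite.injective_iff_surjective.mp hD y
      obtain ⟨e, he⟩ := hall i hi
      obtain ⟨φ, hφ, -⟩ := hextend e i hi he
      refine ⟨MulAut.conj (u : G) * φ, ?_⟩
      rw [MulAut.mul_apply, hφ, MulAut.conj_apply, ← hu]
      simp only [D, Subgroup.coe_mul, InvMemClass.coe_inv, hτ, conj_pow_apply]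
      group
    obtain ⟨φ, hφ⟩ := key g hg
    obtain ⟨ψ, hψ⟩ := key h (hgh ▸ hg)
    exact ⟨ψ * φ⁻¹, by rw [MulAut.mul_apply, ← hψ, ← hφ, MulAut.inv_apply_self]⟩

end Grp

theorem result {G : Type*} [Group G] [Finite G] (hnpp : ¬ IsPrimePow (Nat.card G))
    (hnt : Nat.card G ≠ 1) :
    Nat.card (MulAction.orbitRel.Quotient (MulAut G) G) = 3 ↔
    ∃ (p q n : ℕ) (_ : Fact p.Prime) (_ : Fact q.Prime), p ≠ q ∧ 1 ≤ n ∧ Nat.card G = p ^ n * q ∧
      (∀ P : Sylow p G, (P : Subgroup G).Normal ∧ Cfsg.IsElementaryAbelian p (P : Subgroup G)) ∧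
      orderOf (p : ZMod q) = q - 1 ∧
      ∀ x y : G, orderOf x = q → orderOf y = p → x * y * x⁻¹ ≠ y := by
  constructor
  · intro h3
    obtain ⟨p, hp, hpd⟩ := Nat.exists_prime_and_dvd hnt
    obtain ⟨q, hq, hqd, hqp⟩ : ∃ q, q.Prime ∧ q ∣ Nat.card G ∧ q ≠ p := by
      by_contra hcon
      push Not at hcon
      exact hnpp (isPrimePow_iff_unique_prime_dvd.mpr ⟨p, ⟨hp, hpd⟩, fun r hr => hcon r hr.1 hr.2⟩)
    haveI := Fact.mk hp
    haveI := Fact.mk hq
    obtain ⟨a, ha⟩ := exists_prime_orderOf_dvd_card' p hpd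
    obtain ⟨b, hb⟩ := exists_prime_orderOf_dvd_card' q hqd
    obtain ⟨hord, htrans⟩ := (eq_card_three_iff hqp.symm hp.ne_one hq.ne_one ha hb).mp h3
    have hprimes : ∀ r, r.Prime → r ∣ Nat.card G → r = p ∨ r = q := by
      intro r hr hrd
      haveI := Fact.mk hr
      obtain ⟨c, hc⟩ := exists_prime_orderOf_dvd_card' r hrd
      rcases hord c with h | h | h <;> rw [hc] at h
      · exact absurd h hr.ne_one
      · exact Or.inl h
      · exact Or.inr h
    obtain ⟨α, m, hpm, hGm⟩ := Nat.exists_eq_pow_mul_and_not_dvd (Nat.card_pos (α := G)).ne' p hp.ne_one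
    have hm : m = q ^ m.primeFactorsList.length := Nat.eq_prime_pow_of_unique_prime_dvd
      (fun h => hpm (h ▸ dvd_zero p)) fun {d} hd hdm => by
        rcases hprimes d hd (hGm ▸ dvd_mul_of_dvd_right hdm _) with rfl | rfl
        · exact absurd hdm hpm
        · rfl
    generalize m.primeFactorsList.length = β at hm
    subst hm
    have hα : α ≠ 0 := by
      rintro rfl
      rw [hGm, pow_zero, one_mul] at hpd
      exact hqp ((Nat.prime_dvd_prime_iff_eq hp hq).mp (hp.dvd_of_dvd_pow hpd)).symm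
    have hβ : β ≠ 0 := by
      rintro rfl
      rw [hGm, pow_zero, mul_one] at hqd
      exact hqp ((Nat.prime_dvd_prime_iff_eq hq hp).mp (hq.dvd_of_dvd_pow hqd))
    haveI := Cfsg.Agent.S0144.result p q α β hp hq hGm
    haveI : Nontrivial G := Finite.one_lt_card_iff_nontrivial.mp
      (lt_of_le_of_ne Nat.card_pos (Ne.symm hnt))
    obtain ⟨M, hM⟩ := Cfsg.Lib.Core.exists_isMinNormal_univ (G := G)
    obtain ⟨-, r, hr, -, hMr⟩ := Cfsg.Lib.Core.minimal_solvable_elementary hM inferInstance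
    haveI := Fact.mk hr
    have hcore : Cfsg.pCore r G ≠ ⊥ := fun h =>
      hM.2.1 (le_bot_iff.mp (h ▸ Cfsg.Lib.Core.le_pCore' hM.1 hMr))
    obtain ⟨z, hzM, hz1⟩ := M.bot_or_exists_ne_one.resolve_left hM.2.1
    obtain ⟨k, hk⟩ := IsPGroup.iff_orderOf.mp hMr ⟨z, hzM⟩
    rw [Subgroup.orderOf_mk] at hk
    have hk0 : k ≠ 0 := by rintro rfl; rw [pow_zero, orderOf_eq_one_iff] at hk; exact hz1 hk
    rcases hprimes r hr ((dvd_pow_self r hk0).trans (hk ▸ orderOf_dvd_natCard z)) with rfl | rfl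
    · exact forward hp hq hqp.symm hGm hα hβ hcore hord htrans
    · exact forward hq hp hqp (hGm.trans (mul_comm _ _)) hβ hα hcore
        (fun g => by rcases hord g with h | h | h <;> simp [h]) htrans
  · rintro ⟨p, q, n, hp, hq, hpq, hn, hG, hP, hord, hfpf⟩
    exact backward hpq hG hP hn hord hfpf

end Cfsg.Agent.S4081
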