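import Cfsg.Statements.S4082
import Cfsg.Agent.Lib.Fusion.PByCyclic
import Cfsg.Agent.Lib.TwoGroup.Models
import Mathlib.GroupTheory.Index

set_option linter.style.haveILetI false

set_option autoImplicit false
open Cfsg

namespace Cfsg.Agent.S4082


open Subgroup
open Cfsg.Lib.Fusion.PByCyclic

variable {G : Type*} [Group G] [Finite G] {p : ℕ} [hp : Fact p.Prime]

/-- The hypothesis on a subgroup. -/
def Restricted (p : ℕ) (G : Type*) [Group G] : Prop :=
  ∀ H : Subgroup G, (∀ S : Sylow p ↥H, (S : Subgroup ↥H).Normal) →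
    (∀ (S : Sylow p ↥H) [(S : Subgroup ↥H).Normal], IsCyclic (↥H ⧸ (S : Subgroup ↥H))) →
    IsCyclic H ∨ (∃ n : ℕ, Nonempty (H ≃* DihedralGroup (p ^ n)))

/-- An element normalizing a `p`-group and not centralizing it inverts it. -/
theorem inverts (hR : Restricted p G) (hp2 : p ≠ 2) {L : Subgroup G} (hL : IsPGroup p L) {x : G}
    (hx : x ∈ normalizer (L : Set G)) (hxc : x ∉ centralizer (L : Set G)) :
    orderOf x = 2 ∧ ∀ u ∈ L, x * u * x⁻¹ = u⁻¹ := by
  obtain ⟨h1, h2⟩ := sup_zpowers_data hL hx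
  have hxH : x ∈ L ⊔ zpowers x := mem_sup_right (mem_zpowers x)
  rcases hR _ h1 h2 with hc | ⟨n, ⟨e⟩⟩
  · exfalso
    refine hxc (mem_centralizer_iff.mpr fun u hu => ?_)
    haveI := hc
    haveI : IsMulCommutative ↥(L ⊔ zpowers x) := IsCyclic.isMulCommutative
    exact congrArg Subtype.val ((IsMulCommutative.is_comm (M := ↥(L ⊔ zpowers x))).comm
      ⟨u, mem_sup_left hu⟩ ⟨x, hxH⟩)
  have hodd : ∀ u ∈ L, Odd (orderOf u) := fun u hu => by
    obtain ⟨k, hk⟩ := hL ⟨u, hu⟩
    obtain ⟨j, -, hj⟩ := (Nat.dvd_prime_pow hp.out).mp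
      (orderOf_dvd_of_pow_eq_one (congrArg Subtype.val hk : u ^ p ^ k = 1))
    rw [hj]
    exact (hp.out.odd_of_ne_two hp2).pow
  have key : ∀ u (hu : u ∈ L), x * u ≠ u * x → orderOf x = 2 ∧ x * u * x⁻¹ = u⁻¹ := by
    intro u hu hne
    have hnc : ¬ Commute (e ⟨x, hxH⟩) (e ⟨u, mem_sup_left hu⟩) := fun hc => hne (by
      have h1 : e (⟨x, hxH⟩ * ⟨u, mem_sup_left hu⟩) = e (⟨u, mem_sup_left hu⟩ * ⟨x, hxH⟩) := by
        rw [map_mul, map_mul]; exact hc.eq
      exact congrArg Subtype.val (e.injective h1))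
    obtain ⟨ho, hi⟩ := dihedral_reflection hnc (by
      rw [MulEquiv.orderOf_eq, Subgroup.orderOf_mk]; exact hodd u hu)
    rw [MulEquiv.orderOf_eq, Subgroup.orderOf_mk] at ho
    rw [← map_mul, ← map_inv, ← map_mul, ← map_inv] at hi
    exact ⟨ho, congrArg Subtype.val (e.injective hi)⟩
  obtain ⟨u₀, hu₀, hne⟩ : ∃ u ∈ L, x * u ≠ u * x := by
    by_contra! hall
    exact hxc (mem_centralizer_iff.mpr fun u hu => (hall u hu).symm)
  refine ⟨(key u₀ hu₀ hne).1, fun u hu => ?_⟩
  by_cases hcu : x * u = u * x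
  · -- then `x` does not commute with `u₀ * u`
    have hne' : x * (u₀ * u) ≠ u₀ * u * x := fun h => hne (by
      rw [mul_assoc u₀ u x, ← hcu, ← mul_assoc, ← mul_assoc] at h
      exact mul_right_cancel h)
    have h1 := (key u₀ hu₀ hne).2
    have h2 := (key _ (mul_mem hu₀ hu) hne').2
    have h3 : x * u * x⁻¹ = u := by rw [hcu, mul_inv_cancel_right]
    have h4 : x * (u₀ * u) * x⁻¹ = u₀⁻¹ * u := by
      calc x * (u₀ * u) * x⁻¹ = (x * u₀ * x⁻¹) * (x * u * x⁻¹) := by group
        _ = _ := by rw [h1, h3]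
    rw [h4, mul_inv_rev] at h2
    -- `u₀⁻¹ * u = u⁻¹ * u₀⁻¹`
    have h5 : u₀ * u⁻¹ * u₀⁻¹ = u := by
      calc u₀ * u⁻¹ * u₀⁻¹ = u₀ * (u⁻¹ * u₀⁻¹) := by group
        _ = u₀ * (u₀⁻¹ * u) := by rw [h2]
        _ = u := by group
    -- the dihedral rotations commute
    have hcomm : u₀ * u = u * u₀ := by
      have hrot : ∀ v (hv : v ∈ L), ∃ j, e ⟨v, mem_sup_left hv⟩ = DihedralGroup.r j := fun v hv => by
        rcases hd : e ⟨v, mem_sup_left hv⟩ with j | j
        · exact ⟨j, rfl⟩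
        · exfalso
          have := MulEquiv.orderOf_eq e ⟨v, mem_sup_left hv⟩
          rw [hd, DihedralGroup.orderOf_sr, Subgroup.orderOf_mk] at this
          have h6 := hodd v hv
          rw [← this] at h6
          exact absurd h6 (by decide)
      obtain ⟨i, hi⟩ := hrot u₀ hu₀
      obtain ⟨j, hj⟩ := hrot u hu
      have h1 : e (⟨u₀, mem_sup_left hu₀⟩ * ⟨u, mem_sup_left hu⟩) =
          e (⟨u, mem_sup_left hu⟩ * ⟨u₀, mem_sup_left hu₀⟩) := by
        rw [map_mul, map_mul, hi, hj, DihedralGroup.r_mul_r, DihedralGroup.r_mul_r, add_comm]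
      exact congrArg Subtype.val (e.injective h1)
    have h6 : u⁻¹ = u := by
      have : Commute u₀ u⁻¹ := Commute.inv_right hcomm
      calc u⁻¹ = u₀ * u⁻¹ * u₀⁻¹ := by rw [this.eq, mul_inv_cancel_right]
        _ = u := h5
    rw [h3]; exact h6.symm
  · exact (key u hu hcu).2

theorem dir_mp (hR : Restricted p G) (hp2 : p ≠ 2) (P : Sylow p G) :
    IsCyclic P ∧
      (normalizer ((P : Subgroup G) : Set G) = centralizer ((P : Subgroup G) : Set G) ∨
       ((centralizer ((P : Subgroup G) : Set G)).relIndex (normalizer ((P : Subgroup G) : Set G)) = 2 ∧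
        ∀ Q : Subgroup G, Q ≤ P → Nat.card Q = p →
          IsMulCommutative ↥(centralizer (Q : Set G)) ∧
          ∀ x : G, x ∈ normalizer (Q : Set G) → x ∉ centralizer (Q : Set G) →
            orderOf x = 2 ∧ ∀ c : G, c ∈ centralizer (Q : Set G) → x * c * x⁻¹ = c⁻¹)) := by
  have hcyc : IsCyclic P := by
    obtain ⟨h1, h2⟩ := sup_zpowers_data P.2 (x := (1 : G)) (one_mem _)
    have heq : (P : Subgroup G) ⊔ zpowers (1 : G) = P := by rw [zpowers_one_eq_bot, sup_bot_eq]
    rcases hR _ h1 h2 with hc | ⟨n, ⟨e⟩⟩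
    · exact (MulEquiv.subgroupCongr heq).isCyclic.mp hc
    · exfalso
      let e' := ((MulEquiv.subgroupCongr heq).symm.trans e)
      obtain ⟨k, hk⟩ := IsPGroup.iff_card.mp P.2
      have h3 := orderOf_dvd_natCard (e'.symm (DihedralGroup.sr 0))
      rw [MulEquiv.orderOf_eq, DihedralGroup.orderOf_sr, hk] at h3
      exact hp2 ((Nat.prime_dvd_prime_iff_eq Nat.prime_two hp.out).mp (Nat.prime_two.dvd_of_dvd_pow h3)).symm
  refine ⟨hcyc, ?_⟩
  by_cases heq : normalizer ((P : Subgroup G) : Set G) = centralizer ((P : Subgroup G) : Set G)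
  · exact Or.inl heq
  obtain ⟨g, hg, hgc⟩ : ∃ g ∈ normalizer ((P : Subgroup G) : Set G),
      g ∉ centralizer ((P : Subgroup G) : Set G) := by
    by_contra! hall
    exact heq (le_antisymm hall (centralizer_le_normalizer _))
  obtain ⟨-, hginv⟩ := inverts hR hp2 P.2 hg hgc
  refine Or.inr ⟨relIndex_eq_two_iff.mpr ⟨g, hg, fun b hb => ?_⟩, ?_⟩
  · by_cases hbc : b ∈ centralizer ((P : Subgroup G) : Set G)
    · exact Or.inr ⟨hbc, fun h => hgc (by
        have := mul_mem (inv_mem hbc) h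
        rwa [inv_mul_cancel_left] at this)⟩
    · refine Or.inl ⟨mem_centralizer_iff.mpr fun u hu => ?_, hbc⟩
      obtain ⟨-, hbinv⟩ := inverts hR hp2 P.2 hb hbc
      have h1 : (b * g) * u * (b * g)⁻¹ = u := by
        calc (b * g) * u * (b * g)⁻¹ = b * (g * u * g⁻¹) * b⁻¹ := by group
          _ = u := by rw [hginv u hu, hbinv _ (inv_mem hu), inv_inv]
      exact (mul_inv_eq_iff_eq_mul.mp h1).symm
  intro Q hQP hQ
  have hQp : IsPGroup p Q := IsPGroup.of_card (n := 1) (by rw [hQ, pow_one])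
  have key : ∀ x : G, x ∈ normalizer (Q : Set G) → x ∉ centralizer (Q : Set G) →
      orderOf x = 2 ∧ ∀ c : G, c ∈ centralizer (Q : Set G) → x * c * x⁻¹ = c⁻¹ := by
    intro x hx hxc
    obtain ⟨hx2, -⟩ := inverts hR hp2 hQp hx hxc
    refine ⟨hx2, fun c hc => ?_⟩
    have hxcm : x * c ∈ normalizer (Q : Set G) := mul_mem hx (centralizer_le_normalizer _ hc)
    have hxcc : x * c ∉ centralizer (Q : Set G) := fun h => hxc (by
      have := mul_mem h (inv_mem hc)
      rwa [mul_inv_cancel_right] at this)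
    obtain ⟨ho, -⟩ := inverts hR hp2 hQp hxcm hxcc
    have hxx : x * x = 1 := by rw [← sq, ← hx2, pow_orderOf_eq_one]
    have hxcxc : (x * c) * (x * c) = 1 := by rw [← sq, ← ho, pow_orderOf_eq_one]
    have hxi : x⁻¹ = x := inv_eq_of_mul_eq_one_left hxx
    refine eq_inv_of_mul_eq_one_left ?_
    calc x * c * x⁻¹ * c = x * c * x * c := by rw [hxi]
      _ = (x * c) * (x * c) := by group
      _ = 1 := hxcxc
  refine ⟨?_, key⟩
  have hgQ : g ∈ normalizer (Q : Set G) := by
    refine mem_normalizer_iff_map_conj_eq.mpr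
      (eq_of_le_of_card_ge ?_ (card_map_of_injective (MulAut.conj g).injective).ge)
    rintro _ ⟨u, hu, rfl⟩
    show g * u * g⁻¹ ∈ Q
    rw [hginv u (hQP hu)]; exact inv_mem hu
  have hgQc : g ∉ centralizer (Q : Set G) := by
    intro h
    haveI : Nontrivial Q := Finite.one_lt_card_iff_nontrivial.mp (hQ ▸ hp.out.one_lt)
    obtain ⟨u, hu⟩ := exists_ne (1 : Q)
    have h1 : g * u * g⁻¹ = (u : G) := by
      rw [← mem_centralizer_iff.mp h u u.2, mul_inv_cancel_right]
    rw [hginv u (hQP u.2)] at h1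
    have h2 : (u : G) ^ 2 = 1 := by rw [sq]; conv_lhs => arg 1; rw [← h1]; 
                                    exact inv_mul_cancel _
    have h3 := orderOf_dvd_of_pow_eq_one h2
    have h4 : orderOf (u : G) ∣ p := hQ ▸ orderOf_dvd_natCard Q u.2
    have h5 := Nat.eq_one_of_dvd_coprimes ((Nat.coprime_primes Nat.prime_two hp.out).mpr hp2.symm) h3 h4
    exact hu (Subtype.ext (orderOf_eq_one_iff.mp h5))
  obtain ⟨-, hinvC⟩ := key g hgQ hgQc
  refine ⟨⟨fun a b => Subtype.ext ?_⟩⟩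
  have h1 := hinvC _ (mul_mem a.2 b.2)
  have h2 : g * ((a : G) * b) * g⁻¹ = (a : G)⁻¹ * (b : G)⁻¹ := by
    calc g * ((a : G) * b) * g⁻¹ = (g * a * g⁻¹) * (g * b * g⁻¹) := by group
      _ = _ := by rw [hinvC _ a.2, hinvC _ b.2]
  rw [h2] at h1
  have := congrArg (·⁻¹) h1
  simp only [mul_inv_rev, inv_inv] at this
  exact this.symm

theorem dir_mpr (hp2 : p ≠ 2) (P : Sylow p G) (hcyc : IsCyclic P)
    (hcases : normalizer ((P : Subgroup G) : Set G) = centralizer ((P : Subgroup G) : Set G) ∨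
       ((centralizer ((P : Subgroup G) : Set G)).relIndex (normalizer ((P : Subgroup G) : Set G)) = 2 ∧
        ∀ Q : Subgroup G, Q ≤ P → Nat.card Q = p →
          IsMulCommutative ↥(centralizer (Q : Set G)) ∧
          ∀ x : G, x ∈ normalizer (Q : Set G) → x ∉ centralizer (Q : Set G) →
            orderOf x = 2 ∧ ∀ c : G, c ∈ centralizer (Q : Set G) → x * c * x⁻¹ = c⁻¹)) :
    Restricted p G := by
  intro H hn hc
  obtain ⟨T, x, hTP, hxN, hxo, ⟨e⟩⟩ := exists_standard P H hn hc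
  suffices h : IsCyclic ↥(T ⊔ zpowers x) ∨ ∃ n : ℕ, Nonempty (↥(T ⊔ zpowers x) ≃* DihedralGroup (p ^ n)) from
    h.imp (fun h => e.isCyclic.mpr h) (fun ⟨n, ⟨f⟩⟩ => ⟨n, ⟨e.trans f⟩⟩)
  haveI : IsCyclic (P : Subgroup G) := hcyc
  haveI hTc : IsCyclic T := isCyclic_of_injective (Subgroup.inclusion hTP) (Subgroup.inclusion_injective _)
  obtain ⟨m, hm⟩ := IsPGroup.iff_card.mp (P.2.to_le hTP)
  have hco : (Nat.card T).Coprime (orderOf x) := by
    rw [hm]; exact ((Nat.Prime.coprime_iff_not_dvd hp.out).mpr hxo).pow_left m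
  by_cases hxc : x ∈ centralizer (T : Set G)
  · exact Or.inl (isCyclic_sup (fun u hu => (mem_centralizer_iff.mp hxc u hu).symm) hco)
  -- `x` does not centralize `T`
  obtain ⟨u, hu⟩ := IsCyclic.exists_generator (α := T)
  have hTe : zpowers (u : G) = T := le_antisymm (zpowers_le.mpr u.2) fun w hw => by
    obtain ⟨i, hi⟩ := mem_zpowers_iff.mp (hu ⟨w, hw⟩)
    exact mem_zpowers_iff.mpr ⟨i, by rw [← Subgroup.coe_zpow, hi]⟩
  have hPab : ∀ a ∈ (P : Subgroup G), ∀ b ∈ (P : Subgroup G), a * b = b * a := fun a ha b hb => by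
    haveI : IsMulCommutative (P : Subgroup G) := IsCyclic.isMulCommutative
    exact congrArg Subtype.val ((IsMulCommutative.is_comm (M := (P : Subgroup G))).comm ⟨a, ha⟩ ⟨b, hb⟩)
  have hm0 : m ≠ 0 := fun h0 => hxc (mem_centralizer_iff.mpr fun w hw => by
    rw [h0, pow_zero] at hm
    rw [eq_bot_of_card_eq T hm] at hw
    rw [mem_bot.mp hw, one_mul, mul_one])
  rcases hcases with hNC | ⟨-, hQprop⟩
  · exfalso
    -- Frattini inside the centralizer of `T`
    have hPC : (P : Subgroup G) ≤ centralizer (T : Set G) := fun a ha =>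
      mem_centralizer_iff.mpr fun b hb => hPab b (hTP hb) a ha
    have hxP : ((x • P : Sylow p G) : Subgroup G) ≤ centralizer (T : Set G) := by
      rw [Sylow.coe_subgroup_smul]
      rintro _ ⟨a, ha, rfl⟩
      refine mem_centralizer_iff.mpr fun b hb => ?_
      show b * (x * a * x⁻¹) = x * a * x⁻¹ * b
      have hb' : x⁻¹ * b * x ∈ T := (mem_normalizer_iff.mp hxN _).mpr (by
        rw [show x * (x⁻¹ * b * x) * x⁻¹ = b by group]
        exact hb)
      have := mem_centralizer_iff.mp (hPC ha) _ hb'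
      calc b * (x * a * x⁻¹) = x * ((x⁻¹ * b * x) * a) * x⁻¹ := by group
        _ = x * (a * (x⁻¹ * b * x)) * x⁻¹ := by rw [this]
        _ = _ := by group
    obtain ⟨c, hc⟩ := MulAction.exists_smul_eq (centralizer (T : Set G))
      ((x • P).subtype hxP) (P.subtype hPC)
    rw [Sylow.smul_subtype] at hc
    have hc' : (c : G) • (x • P) = P := Sylow.subtype_injective hc
    rw [smul_smul, Sylow.smul_eq_iff_mem_normalizer] at hc'
    have h1 : (c : G) * x ∈ centralizer (T : Set G) := centralizer_le hTP (hNC.le hc')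
    refine hxc ?_
    have := mul_mem (inv_mem c.2) h1
    rwa [inv_mul_cancel_left] at this
  -- the subgroup of order `p`
  set q := (u : G) ^ p ^ (m - 1) with hq
  have huo : orderOf (u : G) = p ^ m := by rw [← Nat.card_zpowers, hTe, hm]
  have hqo : orderOf q = p := by
    rw [hq, orderOf_pow_of_dvd (pow_ne_zero _ hp.out.ne_zero) (huo ▸ pow_dvd_pow p (by omega)), huo,
      Nat.pow_div (by omega) hp.out.pos, show m - (m - 1) = 1 by omega, pow_one]
  set Q := zpowers q with hQ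
  have hQT : Q ≤ T := zpowers_le.mpr (pow_mem u.2 _)
  obtain ⟨hCab, hinv⟩ := hQprop Q (hQT.trans hTP) (by rw [hQ, Nat.card_zpowers, hqo])
  have hTC : T ≤ centralizer (Q : Set G) := fun a ha => mem_centralizer_iff.mpr fun b hb =>
    hPab b (hTP (hQT hb)) a (hTP ha)
  have hxQ : x ∈ normalizer (Q : Set G) := by
    refine mem_normalizer_iff_map_conj_eq.mpr
      (eq_of_le_of_card_ge ?_ (card_map_of_injective (MulAut.conj x).injective).ge)
    rw [hQ, MonoidHom.map_zpowers, zpowers_le]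
    show x * q * x⁻¹ ∈ zpowers q
    have hxu : x * u * x⁻¹ ∈ T := (mem_normalizer_iff.mp hxN _).mp u.2
    obtain ⟨i, hi⟩ := mem_zpowers_iff.mp (hTe.ge hxu)
    refine mem_zpowers_iff.mpr ⟨i, ?_⟩
    rw [hq, ← conj_pow, ← hi, ← zpow_natCast, ← zpow_natCast, ← zpow_mul, ← zpow_mul, mul_comm]
  have hxQc : x ∉ centralizer (Q : Set G) := fun h => hxc (mem_centralizer_iff.mpr fun a ha =>
    congrArg Subtype.val ((IsMulCommutative.is_comm (M := centralizer (Q : Set G))).comm ⟨a, hTC ha⟩ ⟨x, h⟩))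
  obtain ⟨hx2, hxinv⟩ := hinv x hxQ hxQc
  have hxnot : x ∉ zpowers (u : G) := fun h => hxQc (hTC (hTe ▸ h))
  obtain ⟨f⟩ := Cfsg.Lib.TwoGroup.equiv_dihedral (r := (u : G)) (t := x)
    (by rw [← sq, ← hx2, pow_orderOf_eq_one]) (hxinv u (hTC u.2)) hxnot
  have hclos : closure ({(u : G), x} : Set G) = T ⊔ zpowers x := by
    rw [show ({(u : G), x} : Set G) = {(u : G)} ∪ {x} from Set.insert_eq _ _, Subgroup.closure_union,
      ← zpowers_eq_closure, ← zpowers_eq_closure, hTe]
  refine Or.inr ⟨m, ?_⟩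
  rw [← huo]
  exact ⟨(MulEquiv.subgroupCongr hclos.symm).trans f⟩
/-- Let p be an odd prime and G a finite group with Sylow p-subgroup P. Say that G has restricted p-by-cyclic subgroups when every subgroup H of G whose Sylow p-subgroup is normal in H with cyclic quotient is itself cyclic or dihedral of order 2pⁿ for some n. Then G has restricted p-by-cyclic subgroups if and only if P is cyclic and one of the following holds: (1) N_G(P) = C_G(P); or (2) N_G(P)/C_G(P) has order 2 and, for the subgroup Q of order p of P, the centralizer C_G(Q) is abelian and every element of N_G(Q) outside C_G(Q) is an involution inverting every element of C_G(Q). -/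
theorem result {G : Type*} [Group G] [Finite G] {p : ℕ}
    [Fact p.Prime] (hp : p ≠ 2) (P : Sylow p G) :
    (∀ H : Subgroup G, (∀ S : Sylow p ↥H, (S : Subgroup ↥H).Normal) →
        (∀ (S : Sylow p ↥H) [(S : Subgroup ↥H).Normal], IsCyclic (↥H ⧸ (S : Subgroup ↥H))) →
        IsCyclic H ∨ (∃ n : ℕ, Nonempty (H ≃* DihedralGroup (p ^ n)))) ↔
    (IsCyclic P ∧
      (Subgroup.normalizer ((P : Subgroup G) : Set G) = Subgroup.centralizer ((P : Subgroup G) : Set G) ∨
       ((Subgroup.centralizer ((P : Subgroup G) : Set G)).relIndex (Subgroup.normalizer ((P : Subgroup G) : Set G)) = 2 ∧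
        ∀ Q : Subgroup G, Q ≤ P → Nat.card Q = p →
          IsMulCommutative ↥(Subgroup.centralizer (Q : Set G)) ∧
          ∀ x : G, x ∈ Subgroup.normalizer (Q : Set G) → x ∉ Subgroup.centralizer (Q : Set G) →
            orderOf x = 2 ∧ ∀ c : G, c ∈ Subgroup.centralizer (Q : Set G) → x * c * x⁻¹ = c⁻¹))) := by

  exact ⟨fun h => dir_mp h hp P, fun h => dir_mpr hp P h.1 h.2⟩

end Cfsg.Agent.S4082
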