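import Cfsg.Statements.S4083
import Cfsg.Agent.Lib.Fusion.PByCyclic
import Cfsg.Agent.Lib.TwoGroup.Models
import Mathlib.GroupTheory.SpecificGroups.Alternating
import Mathlib.GroupTheory.Index

set_option linter.style.haveILetI false

set_option autoImplicit false
open Cfsg

namespace Cfsg.Agent.S4083


open Subgroup
open Cfsg.Lib.Fusion.PByCyclic

variable {G : Type*} [Group G] [Finite G]

/-- The hypothesis on a subgroup. -/
def Restricted (G : Type*) [Group G] : Prop :=
  ∀ H : Subgroup G, (∀ S : Sylow 2 ↥H, (S : Subgroup ↥H).Normal) →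
    (∀ (S : Sylow 2 ↥H) [(S : Subgroup ↥H).Normal], IsCyclic (↥H ⧸ (S : Subgroup ↥H))) →
    IsCyclic H ∨ (∃ n : ℕ, Nonempty (H ≃* DihedralGroup (2 ^ n))) ∨ Nonempty (H ≃* alternatingGroup (Fin 4))

theorem commute_of_mem {A : Subgroup G} [IsMulCommutative A] {a b : G} (ha : a ∈ A) (hb : b ∈ A) :
    a * b = b * a :=
  congrArg Subtype.val ((IsMulCommutative.is_comm (M := A)).comm ⟨a, ha⟩ ⟨b, hb⟩)

/-- Four-element subgroups of exponent two are not cyclic. -/
theorem not_cyclic_klein {K : Subgroup G} (hK : Nat.card K = 4) (hK2 : ∀ k ∈ K, k ^ 2 = 1) :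
    ¬ IsCyclic K := by
  intro hc
  obtain ⟨u, hu⟩ := hc.exists_ofOrder_eq_natCard
  have h1 : orderOf u ∣ 2 := orderOf_dvd_of_pow_eq_one (Subtype.ext (hK2 u u.2))
  rw [hu, hK] at h1
  exact absurd h1 (by norm_num)

theorem dihedral_comm_card {n : ℕ} (hcomm : ∀ a b : DihedralGroup (2 ^ n), a * b = b * a) :
    Nat.card (DihedralGroup (2 ^ n)) ≤ 4 := by
  have h : 2 ^ n ∣ 2 := (ZMod.natCast_eq_zero_iff 2 _).mp (dihedral_exponent_of_comm hcomm)
  have := Nat.le_of_dvd (by norm_num) h
  rw [DihedralGroup.nat_card]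
  omega

theorem dir_mp (hR : Restricted G) (P : Sylow 2 G) :
    IsCyclic P ∨
      ((∃ n : ℕ, 1 ≤ n ∧ Nonempty ((P : Subgroup G) ≃* DihedralGroup (2 ^ n))) ∧
        ∀ K : Subgroup G, K ≤ P → Nat.card K = 4 → (∀ k ∈ K, k ^ 2 = 1) →
          centralizer (K : Set G) = K) := by
  haveI : Fact (Nat.Prime 2) := ⟨Nat.prime_two⟩
  by_cases hcyc : IsCyclic P
  · exact Or.inl hcyc
  refine Or.inr ⟨?_, fun K hKP hK hK2 => ?_⟩
  · obtain ⟨h1, h2⟩ := sup_zpowers_data P.2 (x := (1 : G)) (one_mem _)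
    have heq : (P : Subgroup G) ⊔ zpowers (1 : G) = P := by rw [zpowers_one_eq_bot, sup_bot_eq]
    rcases hR _ h1 h2 with hc | ⟨n, ⟨e⟩⟩ | ⟨⟨e⟩⟩
    · exact absurd ((MulEquiv.subgroupCongr heq).isCyclic.mp hc) hcyc
    · refine ⟨n, ?_, ⟨(MulEquiv.subgroupCongr heq).symm.trans e⟩⟩
      by_contra hn
      apply hcyc
      refine isCyclic_of_prime_card (p := 2) ?_
      rw [Nat.card_congr ((MulEquiv.subgroupCongr heq).symm.trans e).toEquiv, DihedralGroup.nat_card,
        show n = 0 by omega, pow_zero, mul_one]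
    · exfalso
      obtain ⟨k, hk⟩ := IsPGroup.iff_card.mp P.2
      have h3 := Nat.card_congr ((MulEquiv.subgroupCongr heq).symm.trans e).toEquiv
      rw [hk] at h3
      haveI : Fact (Nat.Prime 3) := ⟨Nat.prime_three⟩
      have h4 : Nat.card (alternatingGroup (Fin 4)) = 12 := by
        rw [Nat.card_eq_fintype_card]
        decide
      rw [h4] at h3
      have h5 : 3 ∣ 2 ^ k := h3 ▸ (by norm_num)
      have := (Nat.prime_dvd_prime_iff_eq Nat.prime_three Nat.prime_two).mp
        (Nat.prime_three.dvd_of_dvd_pow h5)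
      omega
  have hKp : IsPGroup 2 K := IsPGroup.of_card (n := 2) (by rw [hK]; norm_num)
  haveI : IsMulCommutative K := IsPGroup.isMulCommutative_of_card_eq_prime_sq (p := 2) (by rw [hK]; norm_num)
  refine le_antisymm (fun c hc => ?_) (le_centralizer K)
  have hcN : c ∈ normalizer (K : Set G) := centralizer_le_normalizer _ hc
  obtain ⟨h1, h2⟩ := sup_zpowers_data hKp hcN
  set H := K ⊔ zpowers c with hH
  haveI : IsMulCommutative H := by
    have hHe : H = closure ((K : Set G) ∪ {c}) := by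
      rw [hH, Subgroup.closure_union, closure_eq, zpowers_eq_closure]
    suffices h : IsMulCommutative ↥(closure ((K : Set G) ∪ {c})) from hHe.symm ▸ h
    refine isMulCommutative_closure ?_
    rintro a (ha | ha) b (hb | hb)
    · exact commute_of_mem ha hb
    · rw [Set.mem_singleton_iff] at hb; subst hb
      exact mem_centralizer_iff.mp hc a ha
    · rw [Set.mem_singleton_iff] at ha; subst ha
      exact (mem_centralizer_iff.mp hc b hb).symm
    · rw [Set.mem_singleton_iff] at ha hb; subst ha; subst hb; rfl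
  have hKH : K ≤ H := le_sup_left
  have hcH : c ∈ H := mem_sup_right (mem_zpowers c)
  rcases hR _ h1 h2 with hcy | ⟨n, ⟨e⟩⟩ | ⟨⟨e⟩⟩
  · exfalso
    haveI := hcy
    exact not_cyclic_klein hK hK2
      (isCyclic_of_injective (Subgroup.inclusion hKH) (Subgroup.inclusion_injective _))
  · have hle : Nat.card H ≤ 4 := by
      rw [Nat.card_congr e.toEquiv]
      refine dihedral_comm_card fun a b => ?_
      have := congrArg e ((IsMulCommutative.is_comm (M := H)).comm (e.symm a) (e.symm b))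
      simpa using this
    have heq : K = H := eq_of_le_of_card_ge hKH (by rw [hK]; exact hle)
    exact heq ▸ hcH
  · exfalso
    have hA : ∀ a b : alternatingGroup (Fin 4), a * b = b * a := fun a b => by
      have := congrArg e ((IsMulCommutative.is_comm (M := H)).comm (e.symm a) (e.symm b))
      simpa using this
    exact absurd hA (by decide)

theorem dir_mpr (P : Sylow 2 G)
    (hcases : IsCyclic P ∨
      ((∃ n : ℕ, 1 ≤ n ∧ Nonempty ((P : Subgroup G) ≃* DihedralGroup (2 ^ n))) ∧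
        ∀ K : Subgroup G, K ≤ P → Nat.card K = 4 → (∀ k ∈ K, k ^ 2 = 1) →
          centralizer (K : Set G) = K)) :
    Restricted G := by
  haveI h2f : Fact (Nat.Prime 2) := ⟨Nat.prime_two⟩
  intro H hn hc
  obtain ⟨T, x, hTP, hxN, hxo, ⟨e⟩⟩ := exists_standard P H hn hc
  suffices h : IsCyclic ↥(T ⊔ zpowers x) ∨ (∃ n : ℕ, Nonempty (↥(T ⊔ zpowers x) ≃* DihedralGroup (2 ^ n)))
      ∨ Nonempty (↥(T ⊔ zpowers x) ≃* alternatingGroup (Fin 4)) from
    h.imp (fun h => e.isCyclic.mpr h)
      (Or.imp (fun ⟨n, ⟨f⟩⟩ => ⟨n, ⟨e.trans f⟩⟩) fun ⟨f⟩ => ⟨e.trans f⟩)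
  have hxodd : Odd (orderOf x) := Nat.odd_iff.mpr (by omega)
  obtain ⟨m, hm⟩ := IsPGroup.iff_card.mp (P.2.to_le hTP)
  have hco : (Nat.card T).Coprime (orderOf x) := by
    rw [hm]; exact ((Nat.Prime.coprime_iff_not_dvd Nat.prime_two).mpr hxo).pow_left m
  have hodd_fix : ∀ {u : G} {k : ℕ}, orderOf u = 2 ^ k → x * u * x⁻¹ ∈ zpowers u → Commute x u := by
    intro u k hu hmem
    have hxNu : x ∈ normalizer ((zpowers u : Subgroup G) : Set G) := by
      refine mem_normalizer_iff_map_conj_eq.mpr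
        (eq_of_le_of_card_ge ?_ (card_map_of_injective (MulAut.conj x).injective).ge)
      rw [MonoidHom.map_zpowers, zpowers_le]
      exact hmem
    have hcard : Nat.card (zpowers u) = 2 ^ k := by rw [Nat.card_zpowers, hu]
    set φ := (zpowers u).normalizerMonoidHom
    have h1 : orderOf (φ ⟨x, hxNu⟩) ∣ orderOf x := by
      have := orderOf_map_dvd φ (⟨x, hxNu⟩ : normalizer ((zpowers u : Subgroup G) : Set G))
      rwa [Subgroup.orderOf_mk] at this
    have h2 : orderOf (φ ⟨x, hxNu⟩) ∣ Nat.totient (2 ^ k) := by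
      rw [← hcard, ← IsCyclic.card_mulAut]; exact orderOf_dvd_natCard _
    have h3 : orderOf (φ ⟨x, hxNu⟩) = 1 := by
      rcases Nat.eq_zero_or_pos k with rfl | hk
      · simpa using h2
      · rw [Nat.totient_prime_pow Nat.prime_two hk, show (2 : ℕ) - 1 = 1 from rfl, mul_one] at h2
        exact Nat.eq_one_of_dvd_coprimes
          (((Nat.Prime.coprime_iff_not_dvd Nat.prime_two).mpr hxo).pow_left (k - 1)) h2 h1
    have h4 : (⟨x, hxNu⟩ : normalizer ((zpowers u : Subgroup G) : Set G)) ∈ φ.ker :=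
      MonoidHom.mem_ker.mpr (orderOf_eq_one_iff.mp h3)
    rw [(zpowers u).normalizerMonoidHom_ker] at h4
    exact (mem_centralizer_iff.mp (mem_subgroupOf.mp h4) u (mem_zpowers u)).symm
  by_cases hTc : IsCyclic T
  · -- cyclic `T` is centralized
    haveI := hTc
    obtain ⟨u, hu⟩ := IsCyclic.exists_generator (α := T)
    have hTe : zpowers (u : G) = T := le_antisymm (zpowers_le.mpr u.2) fun w hw => by
      obtain ⟨i, hi⟩ := mem_zpowers_iff.mp (hu ⟨w, hw⟩)
      exact mem_zpowers_iff.mpr ⟨i, by rw [← Subgroup.coe_zpow, hi]⟩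
    have hxu : x * u * x⁻¹ ∈ zpowers (u : G) := hTe.ge ((mem_normalizer_iff.mp hxN _).mp u.2)
    have hcu := hodd_fix (u := (u : G)) (k := m) (by rw [← Nat.card_zpowers, hTe, hm]) hxu
    refine Or.inl (isCyclic_sup (fun w hw => ?_) hco)
    obtain ⟨i, rfl⟩ := mem_zpowers_iff.mp (hTe.ge hw)
    exact (hcu.zpow_right i).eq
  rcases hcases with hcyc | ⟨⟨n, hn1, ⟨f⟩⟩, hK⟩
  · haveI := hcyc
    exact absurd (isCyclic_of_injective (Subgroup.inclusion hTP) (Subgroup.inclusion_injective _)) hTc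
  -- the rotations inside `T`
  set g := ((f.symm (DihedralGroup.r 1)) : G) with hg
  set C := T ⊓ zpowers g with hC
  have hrot : ∀ t (ht : t ∈ T), t ∈ zpowers g ∨ ∃ j, f ⟨t, hTP ht⟩ = DihedralGroup.sr j := by
    intro t ht
    rcases hd : f ⟨t, hTP ht⟩ with j | j
    · left
      refine mem_zpowers_iff.mpr ⟨(j.cast : ℤ), ?_⟩
      rw [hg, ← Subgroup.coe_zpow, ← map_zpow, DihedralGroup.r_one_zpow, ZMod.intCast_zmod_cast, ← hd,
        MulEquiv.symm_apply_apply]
    · exact Or.inr ⟨j, rfl⟩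
  have hgP : g ∈ (P : Subgroup G) := (f.symm (DihedralGroup.r 1)).2
  have hsr : ∀ (t : G) (ht : t ∈ T), t ∉ zpowers g → orderOf t = 2 ∧ t * g * t⁻¹ = g⁻¹ ∧
      ∀ s ∈ T, s ∉ zpowers g → t * s ∈ zpowers g := by
    intro t ht htC
    obtain ⟨j, hj⟩ := (hrot t ht).resolve_left htC
    refine ⟨?_, ?_, fun s hs hsC => ?_⟩
    · have := MulEquiv.orderOf_eq f ⟨t, hTP ht⟩
      rwa [hj, DihedralGroup.orderOf_sr, Subgroup.orderOf_mk, eq_comm] at this
    · have : (⟨t, hTP ht⟩ : (P : Subgroup G)) * f.symm (DihedralGroup.r 1) * (⟨t, hTP ht⟩)⁻¹ =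
          (f.symm (DihedralGroup.r 1))⁻¹ := by
        apply f.injective
        rw [map_mul, map_mul, map_inv, map_inv, MulEquiv.apply_symm_apply, hj]
        simp
      exact congrArg Subtype.val this
    · obtain ⟨i, hi⟩ := (hrot s hs).resolve_left hsC
      refine mem_zpowers_iff.mpr ⟨((i - j).cast : ℤ), ?_⟩
      rw [hg, ← Subgroup.coe_zpow, ← map_zpow, DihedralGroup.r_one_zpow, ZMod.intCast_zmod_cast]
      have : f (⟨t, hTP ht⟩ * ⟨s, hTP hs⟩) = DihedralGroup.r (i - j) := by
        rw [map_mul, hj, hi, DihedralGroup.sr_mul_sr]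
      rw [← this, MulEquiv.symm_apply_apply]; rfl
  haveI hgc : IsCyclic (zpowers g) := inferInstance
  haveI hCc : IsCyclic C :=
    isCyclic_of_injective (Subgroup.inclusion (inf_le_right : C ≤ zpowers g)) (Subgroup.inclusion_injective _)
  obtain ⟨t, ht, htC⟩ : ∃ t ∈ T, t ∉ zpowers g := by
    by_contra! hall
    exact hTc (isCyclic_of_injective (Subgroup.inclusion hall) (Subgroup.inclusion_injective _))
  obtain ⟨ht2, htg, -⟩ := hsr t ht htC
  have htt : t * t = 1 := by rw [← sq, ← ht2, pow_orderOf_eq_one]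
  obtain ⟨u', hu'⟩ := IsCyclic.exists_generator (α := C)
  set u := (u' : G) with hu
  have hCe : zpowers u = C := le_antisymm (zpowers_le.mpr u'.2) fun w hw => by
    obtain ⟨i, hi⟩ := mem_zpowers_iff.mp (hu' ⟨w, hw⟩)
    exact mem_zpowers_iff.mpr ⟨i, by rw [hu, ← Subgroup.coe_zpow, hi]⟩
  have hinv : t * u * t⁻¹ = u⁻¹ := by
    obtain ⟨i, hi⟩ := mem_zpowers_iff.mp (mem_inf.mp u'.2).2
    rw [hu, ← hi, ← conj_zpow, htg, inv_zpow]
  have htu : t ∉ zpowers u := fun h => htC (mem_inf.mp (hCe.le h)).2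
  have hTgen : T = closure ({u, t} : Set G) := by
    refine le_antisymm (fun s hs => ?_) ((closure_le _).mpr ?_)
    · have h1 : ∀ s ∈ T, s ∈ zpowers g → s ∈ closure ({u, t} : Set G) := fun s hs hsg => by
        obtain ⟨i, hi⟩ := mem_zpowers_iff.mp (hCe.ge (mem_inf.mpr ⟨hs, hsg⟩))
        rw [← hi]
        exact zpow_mem (subset_closure (by simp)) i
      by_cases hsg : s ∈ zpowers g
      · exact h1 s hs hsg
      · have h2 := h1 (t * s) (T.mul_mem ht hs) ((hsr t ht htC).2.2 s hs hsg)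
        have h3 := mul_mem (subset_closure (by simp : t ∈ ({u, t} : Set G))) h2
        rwa [← mul_assoc, htt, one_mul] at h3
    · rintro w (rfl | rfl)
      · exact (mem_inf.mp u'.2).1
      · exact ht
  obtain ⟨k, hk⟩ : ∃ k, orderOf u = 2 ^ k := by
    obtain ⟨j, hj⟩ := (P.2.to_le hTP) ⟨u, (mem_inf.mp u'.2).1⟩
    obtain ⟨i, -, hi⟩ := (Nat.dvd_prime_pow Nat.prime_two).mp
      (orderOf_dvd_of_pow_eq_one (congrArg Subtype.val hj : u ^ 2 ^ j = 1))
    exact ⟨i, hi⟩
  obtain ⟨fT⟩ := Cfsg.Lib.TwoGroup.equiv_dihedral htt hinv htu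
  rw [hk] at fT
  have hk0 : k ≠ 0 := fun h0 => by
    rw [h0, pow_zero, orderOf_eq_one_iff] at hk
    apply hTc
    have : T = zpowers t := by rw [hTgen, hk, zpowers_eq_closure, closure_insert_one]
    rw [this]; infer_instance
  set z := u ^ 2 ^ (k - 1) with hz
  have hzu : z ∈ zpowers u := pow_mem (mem_zpowers u) _
  have hzo : orderOf z = 2 := by
    rw [hz, orderOf_pow_of_dvd (pow_ne_zero _ two_ne_zero) (hk ▸ pow_dvd_pow 2 (by omega)), hk,
      Nat.pow_div (by omega) (by norm_num), show k - (k - 1) = 1 by omega, pow_one]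
  have hzz : z * z = 1 := by rw [← sq, ← hzo, pow_orderOf_eq_one]
  have htz : t * z = z * t := by
    have : t * z * t⁻¹ = z := by
      rw [hz, ← conj_pow, hinv, inv_pow, ← hz]
      exact inv_eq_of_mul_eq_one_left hzz
    exact mul_inv_eq_iff_eq_mul.mp this
  set K := closure ({z, t} : Set G) with hKdef
  have hKT : K ≤ T := (closure_le _).mpr (by
    rintro w (rfl | rfl)
    · exact pow_mem (mem_inf.mp u'.2).1 _
    · exact ht)
  have htzn : t ∉ zpowers z := fun h => htu ((zpowers_le.mpr hzu) h)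
  have htzi : t * z * t⁻¹ = z⁻¹ := by
    rw [htz, mul_inv_cancel_right, inv_eq_of_mul_eq_one_left hzz]
  obtain ⟨fK⟩ := Cfsg.Lib.TwoGroup.equiv_dihedral htt htzi htzn
  rw [hzo] at fK
  have hKcard : Nat.card K = 4 := by
    rw [Nat.card_congr fK.toEquiv, DihedralGroup.nat_card]
  haveI hKab : IsMulCommutative K := IsPGroup.isMulCommutative_of_card_eq_prime_sq (p := 2)
    (by rw [hKcard]; norm_num)
  have hKsq : ∀ w ∈ K, w ^ 2 = 1 := fun w hw => by
    induction hw using closure_induction with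
    | mem a ha =>
      rcases ha with rfl | rfl
      · rw [sq, hzz]
      · rw [sq, htt]
    | one => exact one_pow 2
    | mul a b ha hb iha ihb =>
      rw [(show Commute a b from commute_of_mem ha hb).mul_pow, iha, ihb, one_mul]
    | inv a ha iha => rw [inv_pow, iha, inv_one]
  have hCK : centralizer (K : Set G) = K := hK K (hKT.trans hTP) hKcard hKsq
  have hxK_one : x ∈ K → x = 1 := fun hx => orderOf_eq_one_iff.mp (Nat.eq_one_of_dvd_coprimes
    ((Nat.Prime.coprime_iff_not_dvd Nat.prime_two).mpr hxo)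
    (orderOf_dvd_of_pow_eq_one (hKsq x hx)) dvd_rfl)
  by_cases hx1 : x = 1
  · refine Or.inr (Or.inl ⟨k, ?_⟩)
    rw [hx1, zpowers_one_eq_bot, sup_bot_eq]
    exact ⟨(MulEquiv.subgroupCongr hTgen).trans fT⟩
  rcases Nat.lt_or_ge k 2 with hk1 | hk2
  swap
  · exfalso
    apply hx1
    apply hxK_one
    have hxuT : x * u * x⁻¹ ∈ T := (mem_normalizer_iff.mp hxN _).mp (mem_inf.mp u'.2).1
    have hxug : x * u * x⁻¹ ∈ zpowers g := by
      by_contra hno
      have h1 := (hsr _ hxuT hno).1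
      rw [← MulAut.conj_apply, MulEquiv.orderOf_eq, hk] at h1
      have : 2 ^ 2 ≤ 2 ^ k := Nat.pow_le_pow_right (by norm_num) hk2
      omega
    have hxu := hodd_fix hk (hCe.ge (mem_inf.mpr ⟨hxuT, hxug⟩))
    have hxt : x * t * x⁻¹ ∉ zpowers g := by
      intro hh
      obtain ⟨i, hi⟩ := mem_zpowers_iff.mp (hCe.ge (mem_inf.mpr ⟨(mem_normalizer_iff.mp hxN _).mp ht, hh⟩))
      refine htu (mem_zpowers_iff.mpr ⟨i, ?_⟩)
      have h2 : x⁻¹ * u ^ i * x = u ^ i := by rw [mul_assoc, ← (hxu.zpow_right i).eq, inv_mul_cancel_left]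
      rw [← h2, hi]; group
    obtain ⟨i, hi⟩ := mem_zpowers_iff.mp (hCe.ge (mem_inf.mpr
      ⟨T.mul_mem ht ((mem_normalizer_iff.mp hxN _).mp ht), (hsr t ht htC).2.2 _ ((mem_normalizer_iff.mp hxN _).mp ht) hxt⟩))
    have hxt' : x * t * x⁻¹ = t * u ^ i := by rw [hi, ← mul_assoc, htt, one_mul]
    have hiter : ∀ r : ℕ, x ^ r * t * (x ^ r)⁻¹ = t * (u ^ i) ^ r := by
      intro r
      induction r with
      | zero => simp
      | succ r ih =>
        have hc : x * (u ^ i) ^ r * x⁻¹ = (u ^ i) ^ r := by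
          rw [((hxu.zpow_right i).pow_right r).eq, mul_inv_cancel_right]
        calc x ^ (r + 1) * t * (x ^ (r + 1))⁻¹ = x * (x ^ r * t * (x ^ r)⁻¹) * x⁻¹ := by
              rw [pow_succ']; group
          _ = (x * t * x⁻¹) * (x * (u ^ i) ^ r * x⁻¹) := by rw [ih]; group
          _ = _ := by rw [hxt', hc, mul_assoc, ← pow_succ']
    have h3 := hiter (orderOf x)
    rw [pow_orderOf_eq_one, one_mul, inv_one, mul_one, left_eq_mul] at h3
    have h4 : orderOf (u ^ i) = 1 := by
      refine Nat.eq_one_of_dvd_coprimes (((Nat.Prime.coprime_iff_not_dvd Nat.prime_two).mpr hxo).pow_left k)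
        ?_ (orderOf_dvd_of_pow_eq_one h3)
      rw [← hk]
      exact orderOf_dvd_of_mem_zpowers (zpow_mem (mem_zpowers u) i)
    rw [orderOf_eq_one_iff.mp h4, mul_one] at hxt'
    rw [← hCK]
    refine mem_centralizer_iff.mpr fun w hw => ?_
    induction hw using closure_induction with
    | mem a ha =>
      rcases ha with rfl | rfl
      · exact (hxu.pow_right _).eq.symm
      · exact (mul_inv_eq_iff_eq_mul.mp hxt').symm
    | one => rw [one_mul, mul_one]
    | mul a b _ _ iha ihb => exact (Commute.mul_left (show Commute a x from iha) ihb).eq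
    | inv a _ iha => exact (show Commute a x from iha).inv_left.eq
  -- `T` is a four-group
  refine Or.inr (Or.inr ?_)
  have hk' : k = 1 := by omega
  have hTK : K = T := eq_of_le_of_card_ge hKT (by
    rw [hKcard, hTgen, Nat.card_congr fT.toEquiv, DihedralGroup.nat_card, hk']; norm_num)
  rw [← hTK] at hxN ⊢
  set L := K ⊔ zpowers x with hL
  have hKn : (K.subgroupOf L).Normal := by
    rw [normal_subgroupOf_iff_le_normalizer le_sup_left]
    exact sup_le le_normalizer (zpowers_le.mpr hxN)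
  have hxL : x ∈ L := mem_sup_right (mem_zpowers x)
  set X := zpowers (⟨x, hxL⟩ : L) with hX
  have hKc : Nat.card (K.subgroupOf L) = 4 := by
    rw [Nat.card_congr (subgroupOfEquivOfLe le_sup_left).toEquiv, hKcard]
  have hcomplement : IsComplement' (K.subgroupOf L) X := by
    refine isComplement'_of_disjoint_and_mul_eq_univ (disjoint_iff.mpr ((eq_bot_iff).mpr ?_))
      (Set.eq_univ_of_forall ?_)
    · rintro ⟨w, hwL⟩ ⟨hw1, hw2⟩
      rw [mem_bot, ← orderOf_eq_one_iff, Subgroup.orderOf_mk]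
      have h1 : orderOf w ∣ orderOf x := by
        have := orderOf_dvd_of_mem_zpowers hw2
        rwa [Subgroup.orderOf_mk, Subgroup.orderOf_mk] at this
      exact Nat.eq_one_of_dvd_coprimes ((Nat.Prime.coprime_iff_not_dvd Nat.prime_two).mpr hxo)
        (orderOf_dvd_of_pow_eq_one (hKsq w (mem_subgroupOf.mp hw1))) h1
    · intro w
      have hmem : (w : G) ∈ ((K ⊔ zpowers x : Subgroup G) : Set G) := w.2
      rw [Subgroup.coe_mul_of_right_le_normalizer_left K (zpowers x) (zpowers_le.mpr hxN)] at hmem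
      obtain ⟨a, ha, b, hb, he⟩ := hmem
      obtain ⟨i, rfl⟩ := mem_zpowers_iff.mp hb
      exact ⟨⟨a, mem_sup_left ha⟩, mem_subgroupOf.mpr ha, ⟨x, hxL⟩ ^ i, zpow_mem (mem_zpowers _) i,
        Subtype.ext (by simpa using he)⟩
  have hXidx : X.index = 4 := hcomplement.index_eq_card.trans hKc
  -- the action on the four cosets of `⟨x⟩`
  set ρ := MulAction.toPermHom L (L ⧸ X) with hρ
  have hker : ρ.ker = ⊥ := by
    rw [hρ, ← normalCore_eq_ker]
    haveI := hKn
    have hcent : X.normalCore ≤ (centralizer ((K.subgroupOf L : Subgroup L) : Set L)) := fun w hw =>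
      mem_centralizer_iff.mpr fun v hv => commute_of_normal_of_disjoint (K.subgroupOf L) X.normalCore
        inferInstance inferInstance (hcomplement.disjoint.mono_right (normalCore_le X)) v w hv hw
    refine eq_bot_iff.mpr fun w hw => ?_
    have h1 : (w : G) ∈ K := by
      rw [← hCK]
      refine mem_centralizer_iff.mpr fun a ha => ?_
      exact congrArg Subtype.val (mem_centralizer_iff.mp (hcent hw) ⟨a, mem_sup_left ha⟩ (mem_subgroupOf.mpr ha))
    exact hcomplement.disjoint.le_bot ⟨mem_subgroupOf.mpr h1, normalCore_le X hw⟩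
  have hinj : Function.Injective ρ := (MonoidHom.ker_eq_bot_iff ρ).mp hker
  haveI : Fintype (L ⧸ X) := Fintype.ofFinite _
  let e4 : L ⧸ X ≃ Fin 4 := Finite.equivFinOfCardEq (by rw [← index_eq_card, hXidx])
  let f4 : L →* Equiv.Perm (Fin 4) := e4.permCongrHom.toMonoidHom.comp ρ
  have hf4 : Function.Injective f4 := e4.permCongrHom.injective.comp hinj
  have hLcard : Nat.card L = 4 * orderOf x := by
    have := hcomplement.card_mul_card
    rw [hKc, hX, Nat.card_zpowers, Subgroup.orderOf_mk] at this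
    exact this.symm
  have h24 : orderOf x ∣ 6 := by
    have h1 : Nat.card L ∣ 24 := by
      have := Subgroup.card_dvd_of_injective f4 hf4
      rwa [Nat.card_perm, Nat.card_fin] at this
    rw [hLcard] at h1
    exact Nat.dvd_of_mul_dvd_mul_left (by norm_num : 0 < 4) (by simpa using h1)
  have hxne : orderOf x ≠ 1 := fun h => hx1 (orderOf_eq_one_iff.mp h)
  have hx3 : orderOf x = 3 := by
    have := Nat.le_of_dvd (by norm_num) h24
    interval_cases hq : orderOf x <;> omega
  have hr : f4.range = alternatingGroup (Fin 4) := by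
    refine Equiv.Perm.eq_alternatingGroup_of_index_eq_two ?_
    have h1 := Subgroup.card_mul_index f4.range
    rw [← Nat.card_congr (MonoidHom.ofInjective hf4).toEquiv, hLcard, hx3, Nat.card_perm, Nat.card_fin] at h1
    norm_num [Nat.factorial] at h1
    omega
  exact ⟨(MonoidHom.ofInjective hf4).trans (MulEquiv.subgroupCongr hr)⟩
/-- Let G be a finite group with Sylow 2-subgroup P. Every subgroup H of G whose Sylow 2-subgroup is normal in H with cyclic quotient is cyclic, dihedral of 2-power order, or isomorphic to the alternating group of degree 4, if and only if either P is cyclic, or P is dihedral (of order at least 4) and every elementary abelian subgroup K of order 4 of P satisfies C_G(K) = K. -/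
theorem result {G : Type*} [Group G] [Finite G] (P : Sylow 2 G) :
    (∀ H : Subgroup G, (∀ S : Sylow 2 ↥H, (S : Subgroup ↥H).Normal) →
        (∀ (S : Sylow 2 ↥H) [(S : Subgroup ↥H).Normal], IsCyclic (↥H ⧸ (S : Subgroup ↥H))) →
        IsCyclic H ∨ (∃ n : ℕ, Nonempty (H ≃* DihedralGroup (2 ^ n))) ∨ Nonempty (H ≃* alternatingGroup (Fin 4))) ↔
    (IsCyclic P ∨
      ((∃ n : ℕ, 1 ≤ n ∧ Nonempty ((P : Subgroup G) ≃* DihedralGroup (2 ^ n))) ∧
        ∀ K : Subgroup G, K ≤ P → Nat.card K = 4 → (∀ k ∈ K, k ^ 2 = 1) → Subgroup.centralizer (K : Set G) = K)) := by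

  exact ⟨fun h => dir_mp h P, fun h => dir_mpr P h⟩

end Cfsg.Agent.S4083
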