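import Cfsg.Statements.S4084
import Mathlib.GroupTheory.Perm.Cycle.Type
import Mathlib.GroupTheory.SpecificGroups.Cyclic
import Mathlib.Data.Set.Finite.Lattice
import Mathlib.Algebra.Group.Subgroup.Finite
import Mathlib.Data.Fintype.Sets

set_option autoImplicit false
set_option linter.style.haveILetI false
open Cfsg

namespace Cfsg.Agent.S4084

open Subgroup in
theorem hclos {M : Type*} [Group M] (s : Set M) (hs : ∀ x ∈ s, ∀ y ∈ s, Commute x y) :
    ∀ x ∈ closure s, ∀ y ∈ closure s, Commute x y := by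
  intro x hx y hy
  refine closure_induction₂ (p := fun a b _ _ => Commute a b) (fun a b ha hb => hs a ha b hb)
    (fun a _ => Commute.one_left a) (fun a _ => Commute.one_right a)
    (fun a b c _ _ _ h1 h2 => h1.mul_left h2) (fun a b c _ _ _ h1 h2 => h1.mul_right h2)
    (fun a b _ _ h => h.inv_left) (fun a b _ _ h => h.inv_right) hx hy

open Subgroup in
theorem exists_transport {G H : Type*} [Group G] [Finite G] [Group H] [Finite H] (e : G ≃ H)
    (he : ∀ x y : G, Commute x y ↔ Commute (e x) (e y)) (A : Subgroup G)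
    (hA : ∀ x ∈ A, ∀ y ∈ A, Commute x y) :
    ∃ K : Subgroup H, (∀ x ∈ K, ∀ y ∈ K, Commute x y) ∧ ∃ A' : Subgroup G, A ≤ A' ∧ Nat.card A' = Nat.card K := by
  haveI : Finite (Subgroup G) := Finite.of_injective ((↑) : Subgroup G → Set G) SetLike.coe_injective
  obtain ⟨A', ⟨hAA', hA'⟩, hmax⟩ := (Set.toFinite {K : Subgroup G | A ≤ K ∧ ∀ x ∈ K, ∀ y ∈ K, Commute x y}).exists_maximal
    ⟨A, le_rfl, hA⟩
  have hKcomm : ∀ x ∈ closure (e '' (A' : Set G)), ∀ y ∈ closure (e '' (A' : Set G)), Commute x y := by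
    refine fun x hx y hy => hclos _ ?_ x hx y hy
    rintro _ ⟨a, ha, rfl⟩ _ ⟨b, hb, rfl⟩
    exact (he a b).mp (hA' a ha b hb)
  set K := closure (e '' (A' : Set G)) with hK
  refine ⟨K, hKcomm, A', hAA', ?_⟩
  have himg : e '' (A' : Set G) = (K : Set H) := by
    refine Set.Subset.antisymm subset_closure fun k hk => ?_
    refine ⟨e.symm k, ?_, e.apply_symm_apply k⟩
    set s : Set G := e.symm '' (K : Set H)
    have hs : ∀ x ∈ s, ∀ y ∈ s, Commute x y := by
      rintro _ ⟨a, ha, rfl⟩ _ ⟨b, hb, rfl⟩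
      rw [he, e.apply_symm_apply, e.apply_symm_apply]
      exact hKcomm a ha b hb
    have hA's : A' ≤ closure s := fun a ha =>
      subset_closure ⟨e a, subset_closure ⟨a, ha, rfl⟩, e.symm_apply_apply a⟩
    have := hmax ⟨hAA'.trans hA's, fun x hx y hy => hclos s hs x hx y hy⟩ hA's
    exact this (subset_closure ⟨k, hk, rfl⟩)
  exact Nat.card_congr ((e.image (A' : Set G)).trans (Equiv.setCongr himg))

theorem one_dir {G H : Type*} [Group G] [Finite G] [Group H] [Finite H] (e : G ≃ H)
    (he : ∀ x y : G, Commute x y ↔ Commute (e x) (e y))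
    {p q : ℕ} (hp : p.Prime) (hq : q.Prime) (hpq : p ≠ q)
    (h : ∃ g : G, orderOf g = p * q) : ∃ h : H, orderOf h = p * q := by
  obtain ⟨g, hg⟩ := h
  obtain ⟨K, hK, A', hle, hc⟩ := exists_transport e he (Subgroup.zpowers g) (by
    rintro x hx y hy
    obtain ⟨i, rfl⟩ := Subgroup.mem_zpowers_iff.mp hx
    obtain ⟨j, rfl⟩ := Subgroup.mem_zpowers_iff.mp hy
    exact (Commute.refl g).zpow_zpow i j)
  have hd : p * q ∣ Nat.card K := by
    rw [← hc, ← hg, ← Nat.card_zpowers]
    exact Subgroup.card_dvd_of_le hle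
  haveI := Fact.mk hp
  haveI := Fact.mk hq
  obtain ⟨a, ha⟩ := exists_prime_orderOf_dvd_card' p ((dvd_mul_right p q).trans hd)
  obtain ⟨b, hb⟩ := exists_prime_orderOf_dvd_card' q ((dvd_mul_left q p).trans hd)
  refine ⟨((a * b : K) : H), ?_⟩
  rw [Subgroup.orderOf_coe, (show Commute a b from Subtype.ext (hK a a.2 b b.2).eq).orderOf_mul_eq_mul_orderOf_of_coprime
    (by rw [ha, hb]; exact (Nat.coprime_primes hp hq).mpr hpq), ha, hb]

/-- Let G and H be finite groups whose commuting graphs are isomorphic: there is a bijection e : G → H with x, y commuting exactly when e(x), e(y) commute. Then G and H have the same prime graph: for distinct primes p, q, G has an element of order pq if and only if H does (and #G = #H, so the prime divisors agree). -/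
theorem result {G H : Type*} [Group G] [Finite G] [Group H] [Finite H] (e : G ≃ H)
    (he : ∀ x y : G, Commute x y ↔ Commute (e x) (e y))
    {p q : ℕ} (hp : p.Prime) (hq : q.Prime) (hpq : p ≠ q) :
    (∃ g : G, orderOf g = p * q) ↔ (∃ h : H, orderOf h = p * q) := by
  refine ⟨one_dir e he hp hq hpq, one_dir e.symm (fun x y => ?_) hp hq hpq⟩
  rw [he (e.symm x) (e.symm y), e.apply_symm_apply, e.apply_symm_apply]

end Cfsg.Agent.S4084
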