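import Cfsg.Statements.S4085
import Mathlib

set_option linter.style.haveILetI false

set_option autoImplicit false
open Cfsg

namespace Cfsg.Agent.S4085

open Subgroup

variable {G : Type*} [Group G] [Finite G]

/-- Adjacency (with loops) in the power graph. -/
def Adj (x y : G) : Prop := x ∈ zpowers y ∨ y ∈ zpowers x

lemma adj_symm {x y : G} (h : Adj x y) : Adj y x := Or.symm h

lemma mem_zpowers_iff_dvd {g a b : G} (ha : a ∈ zpowers g) (hb : b ∈ zpowers g) :
    a ∈ zpowers b ↔ orderOf a ∣ orderOf b := by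
  refine ⟨orderOf_dvd_of_mem_zpowers, fun h => ?_⟩
  classical
  letI := Fintype.ofFinite G
  letI : Fintype (zpowers g) := Fintype.ofFinite _
  let b' : zpowers g := ⟨b, hb⟩
  let a' : zpowers g := ⟨a, ha⟩
  have hsub : (Finset.univ.filter fun x : zpowers g => x ∈ zpowers b') ⊆
      Finset.univ.filter fun x : zpowers g => x ^ orderOf b' = 1 := by
    intro x hx
    simp only [Finset.mem_filter, Finset.mem_univ, true_and] at hx ⊢
    exact orderOf_dvd_iff_pow_eq_one.1 (orderOf_dvd_of_mem_zpowers hx)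
  have h1 : (Finset.univ.filter fun x : zpowers g => x ∈ zpowers b').card = orderOf b' := by
    rw [← Nat.card_zpowers, Nat.card_eq_fintype_card, Fintype.card_subtype]
  have h2 := Finset.eq_of_subset_of_card_le hsub (by
    rw [h1]; exact IsCyclic.card_pow_eq_one_le (orderOf_pos b'))
  have h3 : a' ∈ Finset.univ.filter fun x : zpowers g => x ∈ zpowers b' := by
    rw [h2]
    simp only [Finset.mem_filter, Finset.mem_univ, true_and]
    apply orderOf_dvd_iff_pow_eq_one.1
    rwa [← orderOf_coe a', ← orderOf_coe b']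
  simp only [Finset.mem_filter, Finset.mem_univ, true_and] at h3
  obtain ⟨i, hi⟩ := h3
  exact ⟨i, by simpa [a', b'] using congrArg Subtype.val hi⟩

lemma adj_iff_dvd {g a b : G} (ha : a ∈ zpowers g) (hb : b ∈ zpowers g) :
    Adj a b ↔ (orderOf a ∣ orderOf b ∨ orderOf b ∣ orderOf a) := by
  rw [Adj, mem_zpowers_iff_dvd ha hb, mem_zpowers_iff_dvd hb ha]

lemma exists_orderOf_eq (g : G) {d : ℕ} (hd : d ∣ orderOf g) : ∃ x ∈ zpowers g, orderOf x = d := by
  refine ⟨g ^ (orderOf g / d), pow_mem (mem_zpowers g) _, ?_⟩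
  rw [orderOf_pow_orderOf_div (orderOf_pos g).ne' hd]

lemma gens_eq (g : G) : {w : G | zpowers w = zpowers g} = {w : G | w ∈ zpowers g ∧ orderOf w = orderOf g} := by
  ext w
  simp only [Set.mem_setOf_eq]
  refine ⟨fun h => ⟨h ▸ mem_zpowers w, by rw [← Nat.card_zpowers w, h, Nat.card_zpowers]⟩, fun h => ?_⟩
  exact eq_of_le_of_card_ge (zpowers_le.2 h.1) (by rw [Nat.card_zpowers, Nat.card_zpowers, h.2])

lemma ncard_orderOf_eq (g : G) {d : ℕ} (hd : d ∣ orderOf g) :
    {w : G | w ∈ zpowers g ∧ orderOf w = d}.ncard = d.totient := by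
  classical
  letI := Fintype.ofFinite G
  letI : Fintype (zpowers g) := Fintype.ofFinite _
  have h1 : {w : G | w ∈ zpowers g ∧ orderOf w = d} =
      Subtype.val '' (↑(Finset.univ.filter fun x : zpowers g => orderOf x = d) : Set (zpowers g)) := by
    ext w
    simp only [Set.mem_setOf_eq, Set.mem_image, Finset.coe_filter, Finset.mem_univ, true_and]
    refine ⟨fun h => ⟨⟨w, h.1⟩, by rw [← orderOf_coe]; exact h.2, rfl⟩, ?_⟩
    rintro ⟨x, hx, rfl⟩
    exact ⟨x.2, by rw [orderOf_coe]; exact hx⟩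
  rw [h1, Set.ncard_image_of_injective _ Subtype.val_injective, Set.ncard_coe_finset,
    IsCyclic.card_orderOf_eq_totient]
  rwa [← Nat.card_eq_fintype_card, Nat.card_zpowers]

lemma ncard_gens (z : G) : {w : G | zpowers w = zpowers z}.ncard = (orderOf z).totient := by
  rw [gens_eq, ncard_orderOf_eq z dvd_rfl]

lemma adj_congr {z z' : G} (h : zpowers z' = zpowers z) (w : G) : Adj z' w ↔ Adj z w := by
  have key : ∀ a b : G, a ∈ zpowers b ↔ zpowers a ≤ zpowers b := fun a b => zpowers_le.symm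
  unfold Adj
  rw [key z' w, h, ← key z w]

/-- Two proper divisors, one dividing the other, are told apart by comparability. -/
lemma exists_div_separating {n d e : ℕ} (hn : n ≠ 0) (hpp : ¬ IsPrimePow n) (hdn : d ∣ n) (hne : d ≠ n)
    (hed : e ∣ d) (hne' : e ≠ d) (he1 : e ≠ 1) :
    ∃ c, c ∣ n ∧ ¬ ((c ∣ e ∨ e ∣ c) ↔ (c ∣ d ∨ d ∣ c)) := by
  obtain ⟨k, rfl⟩ := hdn
  have hk : k ≠ 1 := fun h => hne (by rw [h, mul_one])
  obtain ⟨r, hr, hrk⟩ := Nat.exists_prime_and_dvd hk
  obtain ⟨l, rfl⟩ := hed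
  have hd0 : e * l ≠ 0 := fun h => hn (by rw [h, zero_mul])
  have hk0 : k ≠ 0 := fun h => hn (by rw [h, mul_zero])
  obtain ⟨he0, hl0⟩ := mul_ne_zero_iff.1 hd0
  have hl : l ≠ 1 := fun h => hne' (by rw [h, mul_one])
  by_cases hlr : l ∣ r ^ (l.factorization r + 1)
  swap
  · refine ⟨e * r ^ (l.factorization r + 1), ?_, fun hiff => ?_⟩
    · rw [mul_assoc]
      refine mul_dvd_mul_left e ?_
      rw [pow_succ]
      exact mul_dvd_mul (Nat.ordProj_dvd _ _) hrk
    · rcases hiff.1 (Or.inr (dvd_mul_right _ _)) with h | h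
      · exact Nat.pow_succ_factorization_not_dvd hl0 hr ((Nat.mul_dvd_mul_iff_left (Nat.pos_of_ne_zero he0)).1 h)
      · exact hlr ((Nat.mul_dvd_mul_iff_left (Nat.pos_of_ne_zero he0)).1 h)
  obtain ⟨b, -, hb⟩ := (Nat.dvd_prime_pow hr).1 hlr
  by_cases hkr : ∀ t, t.Prime → t ∣ k → t = r
  swap
  · push Not at hkr
    obtain ⟨t, ht, htk, htr⟩ := hkr
    refine ⟨e * t, by rw [mul_assoc]; exact mul_dvd_mul_left e (htk.trans (dvd_mul_left _ _)), fun hiff => ?_⟩
    rcases hiff.1 (Or.inr (dvd_mul_right _ _)) with h | h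
    · have h1 := (Nat.mul_dvd_mul_iff_left (Nat.pos_of_ne_zero he0)).1 h
      rw [hb] at h1
      exact htr ((Nat.prime_dvd_prime_iff_eq ht hr).1 (ht.dvd_of_dvd_pow h1))
    · rcases (Nat.dvd_prime ht).1 ((Nat.mul_dvd_mul_iff_left (Nat.pos_of_ne_zero he0)).1 h) with h1 | h1
      · exact hl h1
      · rw [h1] at hb
        exact htr ((Nat.prime_dvd_prime_iff_eq ht hr).1 (ht.dvd_of_dvd_pow (dvd_of_eq hb)))
  obtain ⟨u, hu, hue, hur⟩ : ∃ u, u.Prime ∧ u ∣ e ∧ u ≠ r := by
    by_contra h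
    push Not at h
    apply hpp
    rw [isPrimePow_iff_unique_prime_dvd]
    refine ⟨r, ⟨hr, hrk.trans (dvd_mul_left _ _)⟩, fun t ht => ?_⟩
    rcases ht.1.dvd_mul.1 ht.2 with h1 | h1
    · rcases ht.1.dvd_mul.1 h1 with h2 | h2
      · exact h t ht.1 h2
      · rw [hb] at h2
        exact (Nat.prime_dvd_prime_iff_eq ht.1 hr).1 (ht.1.dvd_of_dvd_pow h2)
    · exact hkr t ht.1 h1
  refine ⟨r ^ (e * l).factorization r, (Nat.ordProj_dvd _ _).trans (dvd_mul_right _ _), fun hiff => ?_⟩
  rcases hiff.2 (Or.inl (Nat.ordProj_dvd _ _)) with h | h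
  · have h1 := (hr.pow_dvd_iff_le_factorization he0).1 h
    rw [Nat.factorization_mul he0 hl0, Finsupp.add_apply] at h1
    have hb0 : b ≠ 0 := fun h => hl (by rw [hb, h, pow_zero])
    have h2 : l.factorization r = b := by rw [hb, hr.factorization_pow, Finsupp.single_eq_same]
    omega
  · exact hur ((Nat.prime_dvd_prime_iff_eq hu hr).1 (hu.dvd_of_dvd_pow (hue.trans h)))

/-- Elements of a cyclic group of non-prime-power order comparable with everything there are generators. -/
lemma gens_of_dominant {g x : G} (hpp : ¬ IsPrimePow (orderOf g)) (hx : x ∈ zpowers g) (hx1 : x ≠ 1)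
    (hdom : ∀ w ∈ zpowers g, Adj x w) : zpowers x = zpowers g := by
  by_contra hne
  have hne' : orderOf x ≠ orderOf g := fun h => hne (eq_of_le_of_card_ge (zpowers_le.2 hx)
    (by rw [Nat.card_zpowers, Nat.card_zpowers, h]))
  obtain ⟨k, hk⟩ := orderOf_dvd_of_mem_zpowers hx
  have hk1 : k ≠ 1 := fun h => hne' (by rw [hk, h, mul_one])
  obtain ⟨t, ht, htk⟩ := Nat.exists_prime_and_dvd hk1
  obtain ⟨w, hw, hwo⟩ := exists_orderOf_eq g (Nat.ordProj_dvd (orderOf g) t)
  rcases (adj_iff_dvd hx hw).1 (hdom w hw) with h | h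
  · rw [hwo] at h
    obtain ⟨u, hu, hug, hut⟩ : ∃ u, u.Prime ∧ u ∣ orderOf g ∧ u ≠ t := by
      by_contra hall
      push Not at hall
      apply hpp
      rw [isPrimePow_iff_unique_prime_dvd]
      exact ⟨t, ⟨ht, hk ▸ htk.trans (dvd_mul_left _ _)⟩, fun u hu => hall u hu.1 hu.2⟩
    obtain ⟨v, hv, hvo⟩ := exists_orderOf_eq g hug
    obtain ⟨j, -, hj⟩ := (Nat.dvd_prime_pow ht).1 h
    rcases (adj_iff_dvd hx hv).1 (hdom v hv) with h1 | h1
    · rw [hvo] at h1
      rcases (Nat.dvd_prime hu).1 h1 with h2 | h2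
      · exact hx1 (orderOf_eq_one_iff.1 h2)
      · exact hut ((Nat.prime_dvd_prime_iff_eq hu ht).1 (hu.dvd_of_dvd_pow (h2 ▸ dvd_of_eq hj)))
    · rw [hvo, hj] at h1
      exact hut ((Nat.prime_dvd_prime_iff_eq hu ht).1 (hu.dvd_of_dvd_pow h1))
  · rw [hwo] at h
    have h0 : orderOf x ≠ 0 := (orderOf_pos x).ne'
    have hk0 : k ≠ 0 := fun h1 => (orderOf_pos g).ne' (by rw [hk, h1, mul_zero])
    have h1 := (ht.pow_dvd_iff_le_factorization h0).1 h
    rw [hk, Nat.factorization_mul h0 hk0, Finsupp.add_apply] at h1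
    have := ht.factorization_pos_of_dvd hk0 htk
    omega

/-- The twin class of a vertex inside a set. -/
def Cls (S : Set G) (x : G) : Set G := {z | z ∈ S ∧ ∀ w ∈ S, (Adj z w ↔ Adj x w)}

/-- Twin classes of non-dominant vertices in a cyclic group consist of the elements of one order. -/
lemma cls_card {g x : G} (hpp : ¬ IsPrimePow (orderOf g)) (hx : x ∈ zpowers g) (hx1 : x ≠ 1)
    (hxg : orderOf x ≠ orderOf g) :
    (Cls (zpowers g : Set G) x).ncard = (orderOf x).totient := by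
  rw [← ncard_orderOf_eq g (orderOf_dvd_of_mem_zpowers hx)]
  congr 1
  ext z
  constructor
  · rintro ⟨hz, hzc⟩
    refine ⟨hz, ?_⟩
    by_contra hne
    have hzx : Adj z x := (hzc x hx).2 (Or.inl (mem_zpowers x))
    have hz1 : z ≠ 1 := by
      rintro rfl
      have hall : ∀ w ∈ zpowers g, Adj x w := fun w hw => (hzc w hw).1 (Or.inl (one_mem _))
      exact hxg (by rw [← Nat.card_zpowers x, gens_of_dominant hpp hx hx1 hall, Nat.card_zpowers])
    have hzg : orderOf z ≠ orderOf g := by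
      intro h
      have hzz : zpowers z = zpowers g := eq_of_le_of_card_ge (zpowers_le.2 hz)
        (by rw [Nat.card_zpowers, Nat.card_zpowers, h])
      have hall : ∀ w ∈ zpowers g, Adj x w := fun w hw => (hzc w hw).1 (Or.inr (hzz.symm ▸ hw))
      exact hxg (by rw [← Nat.card_zpowers x, gens_of_dominant hpp hx hx1 hall, Nat.card_zpowers])
    have hn : orderOf g ≠ 0 := (orderOf_pos g).ne'
    rcases (adj_iff_dvd hz hx).1 hzx with h | h
    · obtain ⟨c, hc, hc'⟩ := exists_div_separating hn hpp (orderOf_dvd_of_mem_zpowers hx) hxg h hne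
        (fun h1 => hz1 (orderOf_eq_one_iff.1 h1))
      obtain ⟨w, hw, hwo⟩ := exists_orderOf_eq g hc
      have := hzc w hw
      rw [adj_iff_dvd hz hw, adj_iff_dvd hx hw, hwo] at this
      exact hc' (by tauto)
    · obtain ⟨c, hc, hc'⟩ := exists_div_separating hn hpp (orderOf_dvd_of_mem_zpowers hz) hzg h (Ne.symm hne)
        (fun h1 => hx1 (orderOf_eq_one_iff.1 h1))
      obtain ⟨w, hw, hwo⟩ := exists_orderOf_eq g hc
      have := hzc w hw
      rw [adj_iff_dvd hz hw, adj_iff_dvd hx hw, hwo] at this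
      exact hc' (by tauto)
  · rintro ⟨hz, hzo⟩
    exact ⟨hz, fun w hw => by rw [adj_iff_dvd hz hw, adj_iff_dvd hx hw, hzo]⟩

/-- A nontrivial vertex adjacent to everything forces an element of order `p * q`. -/
lemma exists_of_dominant {p q : ℕ} (hp : p.Prime) (hq : q.Prime) (hpq : p ≠ q) (hpG : p ∣ Nat.card G)
    (hqG : q ∣ Nat.card G) {w : G} (hw1 : w ≠ 1) (hdom : ∀ z : G, Adj w z) :
    ∃ h : G, orderOf h = p * q := by
  haveI := Fact.mk hp
  haveI := Fact.mk hq
  obtain ⟨a, ha⟩ := exists_prime_orderOf_dvd_card' (G := G) p hpG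
  obtain ⟨b, hb⟩ := exists_prime_orderOf_dvd_card' (G := G) q hqG
  have key : ∀ r : ℕ, r.Prime → ∀ a : G, orderOf a = r → r ∣ orderOf w := by
    intro r hr a ha
    rcases hdom a with h | h
    · have := orderOf_dvd_of_mem_zpowers h
      rw [ha] at this
      rcases (Nat.dvd_prime hr).1 this with h1 | h1
      · exact absurd (orderOf_eq_one_iff.1 h1) hw1
      · exact dvd_of_eq h1.symm
    · exact ha ▸ orderOf_dvd_of_mem_zpowers h
  obtain ⟨x, -, hx⟩ := exists_orderOf_eq w (((Nat.coprime_primes hp hq).2 hpq).mul_dvd_of_dvd_of_dvd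
    (key p hp a ha) (key q hq b hb))
  exact ⟨x, hx⟩

theorem forward {H : Type*} [Group H] [Finite H] (e : G ≃ H) (he : ∀ x y : G, Adj x y ↔ Adj (e x) (e y))
    {p q : ℕ} (hp : p.Prime) (hq : q.Prime) (hpq : p ≠ q) (hG : ∃ g : G, orderOf g = p * q) :
    ∃ h : H, orderOf h = p * q := by
  classical
  obtain ⟨g₀, hg₀⟩ := hG
  obtain ⟨M, hgM, hmax⟩ := Finite.exists_le_maximal (p := fun M : Subgroup G => ∃ g, M = zpowers g)
    (show ∃ g, zpowers g₀ = zpowers g from ⟨g₀, rfl⟩)
  obtain ⟨g, rfl⟩ := hmax.1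
  have hpqn : p * q ∣ orderOf g := hg₀ ▸ orderOf_dvd_of_mem_zpowers (hgM (mem_zpowers g₀))
  have hcardH : Nat.card H = Nat.card G := (Nat.card_congr e).symm
  have hnG : orderOf g ∣ Nat.card H := hcardH ▸ orderOf_dvd_natCard g
  by_cases he1 : e 1 = 1
  swap
  · refine exists_of_dominant hp hq hpq ((dvd_mul_right p q).trans (hpqn.trans hnG))
      ((dvd_mul_left q p).trans (hpqn.trans hnG)) he1 fun z => ?_
    rw [← e.apply_symm_apply z, ← he]
    exact Or.inl (one_mem _)
  have hpp : ¬ IsPrimePow (orderOf g) := by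
    intro h
    obtain ⟨r, -, hr⟩ := isPrimePow_iff_unique_prime_dvd.1 h
    exact hpq ((hr p ⟨hp, (dvd_mul_right p q).trans hpqn⟩).trans (hr q ⟨hq, (dvd_mul_left q p).trans hpqn⟩).symm)
  set n := orderOf g with hn
  set S : Set G := (zpowers g : Set G) with hS
  set S' : Set H := e '' S with hS'
  have hnb : ∀ z, Adj g z → z ∈ zpowers g := by
    rintro z (h | h)
    · exact hmax.2 ⟨z, rfl⟩ (zpowers_le.2 h) (mem_zpowers z)
    · exact h
  set K : Set H := e '' {w : G | zpowers w = zpowers g} with hK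
  have hKcard : K.ncard = n.totient := by rw [hK, Set.ncard_image_of_injective _ e.injective, ncard_gens]
  have hK1 : ∀ k ∈ K, k ≠ 1 := by
    rintro _ ⟨w, hw, rfl⟩ h
    rw [← he1, e.injective.eq_iff] at h
    subst h
    simp only [Set.mem_setOf_eq, zpowers_one_eq_bot] at hw
    have h1 : n = 1 := by rw [hn, ← Nat.card_zpowers, ← hw, card_bot]
    have := Nat.le_of_dvd one_pos (h1 ▸ hpqn)
    nlinarith [hp.two_le, hq.two_le]
  have hKN : ∀ k ∈ K, ∀ z, (Adj k z ↔ z ∈ S') := by
    rintro _ ⟨w, hw, rfl⟩ z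
    obtain ⟨z, rfl⟩ := e.surjective z
    rw [← he, adj_congr hw, hS', e.injective.mem_set_image]
    exact ⟨hnb z, fun h => Or.inr h⟩
  have hKdom : ∀ z ∈ S', z ≠ 1 → (∀ w ∈ S', Adj z w) → z ∈ K := by
    rintro _ ⟨x, hx, rfl⟩ hne hdom
    refine ⟨x, gens_of_dominant hpp hx (fun h => hne (by rw [h, he1])) (fun w hw => ?_), rfl⟩
    exact (he x w).2 (hdom _ ⟨w, hw, rfl⟩)
  obtain ⟨h, hh, hhmax⟩ := Set.exists_max_image K orderOf (Set.toFinite K)
    ⟨e g, g, rfl, rfl⟩
  have hS'h : ∀ z, z ∈ S' ↔ Adj h z := fun z => (hKN h hh z).symm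
  have hS'card : S'.ncard = n := by
    rw [hS', Set.ncard_image_of_injective _ e.injective, ← Nat.card_coe_set_eq]
    exact Nat.card_zpowers g
  have hcls : ∀ x ∈ S, Cls S' (e x) = e '' Cls S x := by
    intro x hx
    ext z
    obtain ⟨z, rfl⟩ := e.surjective z
    simp only [Cls, hS', e.injective.mem_set_image, Set.mem_setOf_eq, Set.forall_mem_image, ← he]
  have hclsle : ∀ z ∈ S', (orderOf z).totient ≤ (Cls S' z).ncard := by
    intro z hz
    rw [← ncard_gens z]
    refine Set.ncard_le_ncard (fun w hw => ⟨?_, fun v _ => adj_congr hw v⟩) (Set.toFinite _)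
    rw [hS'h] at hz ⊢
    exact adj_symm ((adj_congr hw h).2 (adj_symm hz))
  have hclsn : ∀ z ∈ S', z ∉ K → z ≠ 1 → ∃ x ∈ zpowers g, orderOf x ∣ n ∧ orderOf x ≠ n ∧ z = e x ∧
      (Cls S' z).ncard = (orderOf x).totient := by
    rintro _ ⟨x, hx, rfl⟩ hzK hz1
    have hx1 : x ≠ 1 := fun h => hz1 (by rw [h, he1])
    have hxn : orderOf x ≠ n := fun h => hzK ⟨x, eq_of_le_of_card_ge (zpowers_le.2 hx)
      (by rw [Nat.card_zpowers, Nat.card_zpowers, h]), rfl⟩
    refine ⟨x, hx, orderOf_dvd_of_mem_zpowers hx, hxn, rfl, ?_⟩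
    rw [hcls x hx, Set.ncard_image_of_injective _ e.injective, cls_card hpp hx hx1 hxn]
  have hKle : ∀ k ∈ K, k ∈ zpowers h := by
    intro k hk
    rcases (hKN h hh k).2 ((hKN k hk k).1 (Or.inl (mem_zpowers k))) with h1 | h1
    · have h2 : zpowers h = zpowers k := eq_of_le_of_card_ge (zpowers_le.2 h1)
        (by rw [Nat.card_zpowers, Nat.card_zpowers]; exact hhmax k hk)
      exact h2 ▸ mem_zpowers k
    · exact h1
  obtain ⟨m, hm⟩ : ∃ m, m = orderOf h := ⟨_, rfl⟩
  by_cases hmpp : IsPrimePow m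
  · exfalso
    obtain ⟨r, s, hr, hs, hrs⟩ := hmpp
    have hr' : r.Prime := hr.nat_prime
    have hcomp : ∀ a ∈ zpowers h, ∀ b ∈ zpowers h, Adj a b := by
      intro a ha b hb
      rw [adj_iff_dvd ha hb]
      have ha' := orderOf_dvd_of_mem_zpowers ha
      have hb' := orderOf_dvd_of_mem_zpowers hb
      rw [← hm, ← hrs] at ha' hb'
      obtain ⟨i, -, hi⟩ := (Nat.dvd_prime_pow hr').1 ha'
      obtain ⟨j, -, hj⟩ := (Nat.dvd_prime_pow hr').1 hb'
      rw [hi, hj]
      exact (le_total i j).imp (pow_dvd_pow r) (pow_dvd_pow r)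
    have hsub : (zpowers h : Set H) ⊆ insert 1 K := by
      intro z hz
      by_cases hz1 : z = 1
      · exact Or.inl hz1
      refine Or.inr (hKdom z ((hS'h z).2 (Or.inr hz)) hz1 fun w hw => ?_)
      rcases (hS'h w).1 hw with h1 | h1
      · exact Or.inl ((zpowers_le.2 h1) hz)
      · exact hcomp z hz w h1
    have heq : (zpowers h : Set H) = insert 1 K :=
      Set.Subset.antisymm hsub (Set.insert_subset (one_mem _) fun k hk => hKle k hk)
    have hrn : r ^ s = n.totient + 1 := by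
      rw [hrs, hm, ← Nat.card_zpowers h, ← hKcard,
        ← Set.ncard_insert_of_notMem (fun h1 => hK1 1 h1 rfl) (Set.toFinite K), ← heq, ← Nat.card_coe_set_eq]
      rfl
    obtain ⟨t, ht, htn, ht2⟩ : ∃ t, t.Prime ∧ t ∣ n ∧ t ≠ 2 := by
      by_cases h2 : p = 2
      · exact ⟨q, hq, (dvd_mul_left q p).trans hpqn, fun h => hpq (h2.trans h.symm)⟩
      · exact ⟨p, hp, (dvd_mul_right p q).trans hpqn, h2⟩
    obtain ⟨k, hk⟩ := htn
    obtain ⟨x, hx, hxo⟩ := exists_orderOf_eq g (hk ▸ dvd_mul_left k t : k ∣ n)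
    have hk1 : k ≠ 1 := fun h1 => hpp (by rw [hk, h1, mul_one]; exact ht.isPrimePow)
    have hkn : k ≠ n := fun h1 => by
      have h0 : 0 < n := orderOf_pos g
      have := ht.two_le
      rw [h1] at hk
      nlinarith
    have hexS : e x ∈ S' := ⟨x, hx, rfl⟩
    have hexK : e x ∉ K := by
      rintro ⟨w, hw, hwx⟩
      rw [e.injective.eq_iff] at hwx
      subst hwx
      exact hkn (by rw [← hxo, ← Nat.card_zpowers w, hw, Nat.card_zpowers])
    have hex1 : e x ≠ 1 := fun h1 => hk1 (by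
      rw [← he1, e.injective.eq_iff] at h1
      rw [← hxo, h1, orderOf_one])
    obtain ⟨x', hx', -, -, hxx', hc⟩ := hclsn _ hexS hexK hex1
    rw [← e.injective hxx', hxo] at hc
    have hout : e x ∉ zpowers h := fun h1 => by
      rcases heq ▸ (show e x ∈ (zpowers h : Set H) from h1) with h2 | h2
      · exact hex1 h2
      · exact hexK h2
    have hup : m ∣ orderOf (e x) := by
      rcases (hS'h (e x)).1 hexS with h1 | h1
      · exact hm ▸ orderOf_dvd_of_mem_zpowers h1
      · exact absurd h1 hout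
    have h1 : m.totient ≤ k.totient := (Nat.le_of_dvd (Nat.totient_pos.2 (orderOf_pos _))
      (Nat.totient_dvd_of_dvd hup)).trans (hc ▸ hclsle _ hexS)
    have h2 : 2 * k.totient ≤ n.totient := by
      rw [hk]
      refine le_trans ?_ (Nat.totient_super_multiplicative t k)
      rw [Nat.totient_prime ht]
      exact Nat.mul_le_mul_right _ (by have := ht.two_le; omega)
    have h3 : r ^ s ≤ 2 * m.totient := by
      rw [← hrs, Nat.totient_prime_pow hr' hs]
      calc r ^ s = r ^ (s - 1) * r := by rw [← pow_succ, Nat.sub_add_cancel hs]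
        _ ≤ r ^ (s - 1) * (2 * (r - 1)) := Nat.mul_le_mul_left _ (by have := hr'.two_le; omega)
        _ = 2 * (r ^ (s - 1) * (r - 1)) := by ring
    omega
  · have hKgen : ∀ k ∈ K, zpowers k = zpowers h := fun k hk =>
      gens_of_dominant (hm ▸ hmpp) (hKle k hk) (hK1 k hk)
        fun w hw => (hKN k hk w).2 ((hS'h w).2 (Or.inr hw))
    have hphi : n.totient ≤ m.totient := by
      rw [← hKcard, hm, ← ncard_gens h]
      exact Set.ncard_le_ncard hKgen (Set.toFinite _)
    have hnone : ∀ y, h ∈ zpowers y → y ∈ zpowers h := by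
      intro y hy
      by_contra hy'
      have hyS : y ∈ S' := (hS'h y).2 (Or.inl hy)
      have hyK : y ∉ K := fun h1 => hy' (hKle y h1)
      have hy1 : y ≠ 1 := fun h1 => hy' (h1 ▸ one_mem _)
      obtain ⟨z, hzS, hzy⟩ : ∃ z ∈ S', ¬ Adj y z := by
        by_contra hall
        push Not at hall
        exact hyK (hKdom y hyS hy1 hall)
      have hz : h ∈ zpowers z := by
        rcases (hS'h z).1 hzS with h1 | h1
        · exact h1
        · exact absurd (Or.inr (zpowers_le.2 hy h1)) hzy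
      have hzK : z ∉ K := fun h1 => hzy (Or.inr (zpowers_le.2 hy (hKle z h1)))
      have hz1 : z ≠ 1 := fun h1 => hzy (Or.inr (h1 ▸ one_mem _))
      have key : ∀ v, v ∈ S' → v ∉ K → v ≠ 1 → h ∈ zpowers v → ∃ x ∈ zpowers g, v = e x ∧ orderOf x * 2 = n := by
        intro v hv hvK hv1 hhv
        obtain ⟨x, hx, hxd, hxn, hvx, hc⟩ := hclsn v hv hvK hv1
        refine ⟨x, hx, hvx, ?_⟩
        have h1 : n.totient ≤ (orderOf x).totient := hphi.trans ((Nat.le_of_dvd (Nat.totient_pos.2 (orderOf_pos _))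
          (Nat.totient_dvd_of_dvd (hm ▸ orderOf_dvd_of_mem_zpowers hhv))).trans (hc ▸ hclsle v hv))
        obtain ⟨k, hk⟩ := hxd
        rw [hk] at h1
        have h2 := Nat.totient_super_multiplicative (orderOf x) k
        have h0 : 0 < (orderOf x).totient := Nat.totient_pos.2 (orderOf_pos _)
        have hk0 : 0 < k := Nat.pos_of_ne_zero fun h => (orderOf_pos g).ne' (by rw [← hn, hk, h, mul_zero])
        have h3 : k.totient = 1 := by
          have := Nat.totient_pos.2 hk0
          nlinarith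
        rcases Nat.totient_eq_one_iff.1 h3 with h4 | h4
        · exact absurd (by rw [hk, h4, mul_one]) hxn
        · rw [hk, h4]
      obtain ⟨x, hx, rfl, hxo⟩ := key y hyS hyK hy1 hy
      obtain ⟨x', hx', rfl, hxo'⟩ := key z hzS hzK hz1 hz
      exact hzy ((he x x').1 ((adj_iff_dvd hx hx').2 (Or.inl (dvd_of_eq (by omega)))))
    have hS'eq : S' = (zpowers h : Set H) := by
      ext z
      rw [hS'h]
      exact ⟨fun h1 => h1.elim (hnone z) id, fun h1 => Or.inr h1⟩
    have hmn : orderOf h = n := by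
      rw [← hS'card, hS'eq, ← Nat.card_coe_set_eq]
      exact (Nat.card_zpowers h).symm
    obtain ⟨x, -, hx⟩ := exists_orderOf_eq h (hmn.symm ▸ hpqn)
    exact ⟨x, hx⟩

/-- Let G and H be finite groups whose power graphs are isomorphic: there is a bijection e : G → H such that, for all x, y, one of x, y is a power of the other exactly when one of e(x), e(y) is a power of the other. Then G and H have the same prime graph: for distinct primes p, q, G has an element of order pq if and only if H does. -/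
theorem result {G H : Type*} [Group G] [Finite G] [Group H] [Finite H] (e : G ≃ H)
    (he : ∀ x y : G, (x ∈ Subgroup.zpowers y ∨ y ∈ Subgroup.zpowers x) ↔
      (e x ∈ Subgroup.zpowers (e y) ∨ e y ∈ Subgroup.zpowers (e x)))
    {p q : ℕ} (hp : p.Prime) (hq : q.Prime) (hpq : p ≠ q) :
    (∃ g : G, orderOf g = p * q) ↔ (∃ h : H, orderOf h = p * q) := by
  refine ⟨forward e he hp hq hpq, forward e.symm (fun x y => ?_) hp hq hpq⟩
  have := (he (e.symm x) (e.symm y)).symm
  simpa [Adj] using this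

end Cfsg.Agent.S4085
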