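import Cfsg.Statements.S4086
import Cfsg.Agent.Lib.Fusion.Parts

set_option autoImplicit false
set_option linter.style.haveILetI false
open Cfsg

namespace Cfsg.Agent.S4086

open Subgroup in
theorem key {G : Type*} [Group G] [Finite G] (h : ∀ g : G, g ≠ 1 → IsPrimePow (orderOf g))
    (c : G) {x y : G} (hx : x ∈ zpowers c) (hy : y ∈ zpowers c) :
    x ∈ zpowers y ∨ y ∈ zpowers x := by
  rcases eq_or_ne c 1 with rfl | hc
  · rw [zpowers_one_eq_bot, mem_bot] at hx
    exact Or.inl (hx ▸ one_mem _)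
  obtain ⟨p, k, hp, -, hk⟩ := h c hc
  have hp' := Nat.prime_iff.mpr hp
  have hord : ∀ z ∈ zpowers c, ∃ j, orderOf z = p ^ j := fun z hz => by
    obtain ⟨j, -, hj⟩ := (Nat.dvd_prime_pow hp').mp
      (show orderOf z ∣ p ^ k by rw [hk]; exact orderOf_dvd_of_mem_zpowers hz)
    exact ⟨j, hj⟩
  obtain ⟨i, hi⟩ := hord x hx
  obtain ⟨j, hj⟩ := hord y hy
  have hsub : ∀ u v : G, u ∈ zpowers c → v ∈ zpowers c → orderOf u ∣ orderOf v → u ∈ zpowers v := by
    intro u v hu hv hd
    have hle : (zpowers (⟨u, hu⟩ : zpowers c)) ≤ zpowers (⟨v, hv⟩ : zpowers c) := by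
      haveI : IsCyclic (zpowers c) := Subgroup.isCyclic_zpowers c
      letI : CommGroup (zpowers c) := IsCyclic.commGroup
      have h1 : zpowers (⟨v, hv⟩ : zpowers c) = (powMonoidHom (orderOf v) : zpowers c →* zpowers c).ker := by
        refine eq_of_le_of_card_ge (zpowers_le.mpr ?_) ?_
        · exact Subtype.ext (pow_orderOf_eq_one v)
        · rw [IsCyclic.card_powMonoidHom_ker, Nat.card_zpowers]
          refine le_trans (Nat.gcd_le_right _ (orderOf_pos v)) (le_of_eq ?_)
          exact ((Nat.card_zpowers _).trans (Subgroup.orderOf_mk v hv)).symm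
      rw [h1, zpowers_le]
      exact Subtype.ext (orderOf_dvd_iff_pow_eq_one.mp hd)
    obtain ⟨n, hn⟩ := mem_zpowers_iff.mp (hle (mem_zpowers _))
    exact mem_zpowers_iff.mpr ⟨n, congrArg Subtype.val hn⟩
  rcases le_total i j with hij | hij
  · exact Or.inl (hsub x y hx hy (hi ▸ hj ▸ pow_dvd_pow p hij))
  · exact Or.inr (hsub y x hy hx (hi ▸ hj ▸ pow_dvd_pow p hij))

/-- For a finite group G the following are equivalent: every non-identity element has prime-power order; whenever two elements generate a cyclic subgroup, one of them is a power of the other (the enhanced power graph of G coincides with its power graph). -/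
theorem result {G : Type*} [Group G] [Finite G] :
    (∀ g : G, g ≠ 1 → IsPrimePow (orderOf g)) ↔
    (∀ x y : G, IsCyclic ↥(Subgroup.closure ({x, y} : Set G)) → (x ∈ Subgroup.zpowers y ∨ y ∈ Subgroup.zpowers x)) := by
  constructor
  · intro h x y hc
    obtain ⟨⟨c, hcm⟩, hgen⟩ := hc
    have hmem : ∀ z ∈ ({x, y} : Set G), z ∈ Subgroup.zpowers c := fun z hz => by
      obtain ⟨n, hn⟩ := Subgroup.mem_zpowers_iff.mp
        (hgen ⟨z, Subgroup.subset_closure hz⟩)
      exact Subgroup.mem_zpowers_iff.mpr ⟨n, congrArg Subtype.val hn⟩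
    exact key h c (hmem x (Or.inl rfl)) (hmem y (Or.inr rfl))
  · intro h g hg
    by_contra hnp
    have hn1 : orderOf g ≠ 1 := fun h1 => hg (orderOf_eq_one_iff.mp h1)
    obtain ⟨p, hp, hpd⟩ := Nat.exists_prime_and_dvd hn1
    obtain ⟨k, m, hm, he⟩ := Nat.exists_eq_pow_mul_and_not_dvd (orderOf_pos g).ne' p hp.ne_one
    have hk : 0 < k := Nat.pos_of_ne_zero fun h0 => hm (by simpa [he, h0] using hpd)
    have hm1 : m ≠ 1 := fun h1 => hnp ⟨p, k, hp.prime, hk, by rw [he, h1, mul_one]⟩
    set x := g ^ m with hx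
    set y := g ^ (p ^ k) with hy
    have hm0 : m ≠ 0 := fun h0 => (orderOf_pos g).ne' (by rw [he, h0, mul_zero])
    have hox : orderOf x = p ^ k := by
      rw [hx, orderOf_pow_of_dvd hm0 (he ▸ dvd_mul_left m _), he,
        Nat.mul_div_cancel _ (Nat.pos_of_ne_zero hm0)]
    have hoy : orderOf y = m := by
      rw [hy, orderOf_pow_of_dvd (pow_pos hp.pos k).ne' (he ▸ dvd_mul_right _ m), he,
        Nat.mul_div_cancel_left _ (pow_pos hp.pos k)]
    have hcyc : IsCyclic ↥(Subgroup.closure ({x, y} : Set G)) :=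
      Subgroup.isCyclic_of_le (H' := Subgroup.zpowers g) ((Subgroup.closure_le _).mpr (by
        rintro z (rfl | rfl)
        · exact pow_mem (Subgroup.mem_zpowers g) _
        · exact pow_mem (Subgroup.mem_zpowers g) _))
    rcases h x y hcyc with h1 | h1
    · have := hox ▸ hoy ▸ orderOf_dvd_of_mem_zpowers h1
      exact hm ((dvd_pow_self p hk.ne').trans this)
    · have := hox ▸ hoy ▸ orderOf_dvd_of_mem_zpowers h1
      obtain ⟨j, -, hj⟩ := (Nat.dvd_prime_pow hp).mp this
      rcases Nat.eq_zero_or_pos j with rfl | hj0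
      · exact hm1 (by simpa using hj)
      · exact hm (hj ▸ dvd_pow_self p hj0.ne')

end Cfsg.Agent.S4086
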