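import Cfsg.Statements.S4088
import Cfsg.Agent.Lib.Fusion.SubnormalizerCount
import Cfsg.Agent.Lib.Core.Cores
import Cfsg.Agent.Lib.Core.Fitting
import Cfsg.Agent.Lib.Solv.Nilpotent
import Mathlib.GroupTheory.GroupAction.ConjAct

set_option linter.style.haveILetI false

set_option autoImplicit false
open Cfsg

namespace Cfsg.Agent.S4088

open scoped Pointwise
open Subgroup Cfsg.Lib.SubnormalizerCount

theorem good_iff {G : Type*} [Group G] [Finite G] {p : ℕ} [Fact p.Prime] {H : Subgroup G} (hH : IsPGroup p H)
    (g : G) : ((H).subgroupOf (H ⊔ zpowers g)).IsSubnormal ↔ Good p ⊤ H g := by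
  set M := H ⊔ zpowers g with hM
  have hHM : H ≤ M := le_sup_left
  have hgM : g ∈ M := mem_sup_right (mem_zpowers g)
  constructor
  · intro hsn
    have h1 := Cfsg.Lib.Core.le_pCore_of_isSubnormal (p := p) hsn (hH.of_equiv (subgroupOfEquivOfLe hHM).symm)
    refine ⟨(Cfsg.pCore p M).map M.subtype, (Cfsg.Lib.Core.pCore_isPGroup p M).map _, ?_, le_top, ?_⟩
    · intro x hx
      exact ⟨⟨x, hHM hx⟩, h1 (mem_subgroupOf.mpr hx), rfl⟩
    · refine le_normalizer_map M.subtype ⟨⟨g, hgM⟩, ?_, rfl⟩
      show (⟨g, hgM⟩ : M) ∈ normalizer ((Cfsg.pCore p M : Subgroup M) : Set M)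
      rw [normalizer_eq_top]
      trivial
  · rintro ⟨K, hK, hHK, -, hgK⟩
    have hMn : M ≤ normalizer ((K ⊓ M : Subgroup G) : Set G) := by
      refine sup_le (le_trans (le_inf hHK hHM) le_normalizer) (zpowers_le.mpr (mem_normalizer_iff.mpr fun x => ?_))
      simp only [mem_inf]
      exact and_congr (mem_normalizer_iff.mp hgK x) (mem_normalizer_iff.mp (le_normalizer hgM) x)
    haveI : ((K ⊓ M).subgroupOf M).Normal := (normal_subgroupOf_iff_le_normalizer inf_le_right).mpr hMn
    set K' := (K ⊓ M).subgroupOf M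
    have hK' : IsPGroup p K' := (hK.to_le inf_le_left).of_equiv (subgroupOfEquivOfLe inf_le_right).symm
    have hle : H.subgroupOf M ≤ K' := comap_mono (le_inf hHK hHM)
    haveI := hK'.isNilpotent
    have h2 := Cfsg.Lib.Core.isSubnormal_map_subtype (H := K') (K := (H.subgroupOf M).subgroupOf K')
      (Cfsg.Lib.Solv.isNilpotent_iff_forall_isSubnormal.mp inferInstance _)
    rwa [map_subgroupOf_eq_of_le hle] at h2

/-- Let G be a finite group, p a prime dividing the order of G, H a p-subgroup of G and P a Sylow p-subgroup of G. Call the subnormalizer of H the set of elements g of G such that H is subnormal in the subgroup generated by H and g. Then the number of elements of the subnormalizer of H equals the number of Sylow p-subgroups of G containing H times the order of N_G(P), and also equals the number of conjugates of H contained in P times the order of N_G(H). -/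
theorem result {G : Type*} [Group G] [Finite G] (p : ℕ) [Fact p.Prime]
    (hp : p ∣ Nat.card G) (H : Subgroup G) (hH : IsPGroup p H) (P : Sylow p G) :
    Nat.card {g : G // ((H).subgroupOf (H ⊔ Subgroup.zpowers g)).IsSubnormal} =
        Nat.card {Q : Sylow p G // H ≤ (Q : Subgroup G)} * Nat.card (Subgroup.normalizer ((P : Subgroup G) : Set G)) ∧
    Nat.card {g : G // ((H).subgroupOf (H ⊔ Subgroup.zpowers g)).IsSubnormal} =
        Nat.card {K : Subgroup G // K ≤ (P : Subgroup G) ∧ ∃ g : G, K = H.map (MulAut.conj g).toMonoidHom} *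
          Nat.card (Subgroup.normalizer (H : Set G)) := by
  classical
  have h1 : Nat.card {g : G // ((H).subgroupOf (H ⊔ Subgroup.zpowers g)).IsSubnormal} =
      Nat.card {Q : Sylow p G // H ≤ (Q : Subgroup G)} * Nat.card (Subgroup.normalizer ((P : Subgroup G) : Set G)) := by
    rw [← card_good hH P]
    exact Nat.card_congr (Equiv.subtypeEquivRight (good_iff hH))
  refine ⟨h1, ?_⟩
  rw [h1]
  -- double counting the pairs (conjugate of `H`, Sylow subgroup above it)
  have hcl : ∀ K : Subgroup G, (∃ g : G, K = H.map (MulAut.conj g).toMonoidHom) ↔ K ∈ MulAction.orbit (ConjAct G) H :=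
    fun K => ⟨fun ⟨g, hg⟩ => ⟨ConjAct.toConjAct g, by
      rw [hg]; show ConjAct.toConjAct g • H = _
      rw [Subgroup.pointwise_smul_def]; rfl⟩,
      fun ⟨g, hg⟩ => ⟨ConjAct.ofConjAct g, by rw [← hg]; show g • H = _; rw [Subgroup.pointwise_smul_def]; rfl⟩⟩
  set C := {K : Subgroup G // ∃ g : G, K = H.map (MulAut.conj g).toMonoidHom}
  have hC : Nat.card C * Nat.card (Subgroup.normalizer (H : Set G)) = Nat.card G := by
    have e : Nat.card C = (Subgroup.normalizer (H : Set G)).index := by
      rw [show (Subgroup.normalizer (H : Set G)).index = (MulAction.stabilizer (ConjAct G) H).index from ?_,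
        MulAction.index_stabilizer]
      · exact Nat.card_congr (Equiv.subtypeEquivRight hcl)
      · rw [← index_comap_of_surjective _ (f := (ConjAct.toConjAct : G ≃* ConjAct G).toMonoidHom)
          (ConjAct.toConjAct : G ≃* ConjAct G).surjective]
        congr 1
        ext g
        rw [mem_comap, MulAction.mem_stabilizer_iff, mem_normalizer_iff_map_conj_eq, Subgroup.pointwise_smul_def]
        rfl
    rw [e]; exact index_mul_card _
  have hS : Nat.card (Sylow p G) * Nat.card (Subgroup.normalizer ((P : Subgroup G) : Set G)) = Nat.card G := by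
    rw [show Nat.card (Sylow p G) = (Subgroup.normalizer ((P : Subgroup G) : Set G)).index from
      Sylow.card_eq_index_normalizer P]
    exact index_mul_card _
  have hpair : Nat.card C * Nat.card {Q : Sylow p G // H ≤ (Q : Subgroup G)} =
      Nat.card (Sylow p G) * Nat.card {K : Subgroup G // K ≤ (P : Subgroup G) ∧ ∃ g : G, K = H.map (MulAut.conj g).toMonoidHom} := by
    have hA : ∀ K : C, Nat.card {Q : Sylow p G // K.1 ≤ (Q : Subgroup G)} = Nat.card {Q : Sylow p G // H ≤ (Q : Subgroup G)} := by
      rintro ⟨K, g, rfl⟩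
      refine (Nat.card_congr ((MulAction.toPerm g).subtypeEquiv fun Q => ?_)).symm
      show _ ↔ H.map (MulAut.conj g).toMonoidHom ≤ ((g • Q : Sylow p G) : Subgroup G)
      rw [Sylow.coe_subgroup_smul]
      exact (Subgroup.pointwise_smul_le_pointwise_smul_iff (a := MulAut.conj g)).symm
    have hB : ∀ Q : Sylow p G, Nat.card {K : C // K.1 ≤ (Q : Subgroup G)} =
        Nat.card {K : Subgroup G // K ≤ (P : Subgroup G) ∧ ∃ g : G, K = H.map (MulAut.conj g).toMonoidHom} := by
      intro Q
      obtain ⟨x, hx⟩ := MulAction.exists_smul_eq G P Q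
      rw [Nat.card_congr (Equiv.subtypeSubtypeEquivSubtypeInter
        (fun K : Subgroup G => ∃ g : G, K = H.map (MulAut.conj g).toMonoidHom) (fun K => K ≤ (Q : Subgroup G)))]
      refine (Nat.card_congr ((MulAction.toPerm (MulAut.conj x)).subtypeEquiv fun K => ?_)).symm
      show _ ↔ (∃ g : G, MulAut.conj x • K = _) ∧ MulAut.conj x • K ≤ (Q : Subgroup G)
      rw [← hx, Sylow.coe_subgroup_smul, Subgroup.pointwise_smul_le_pointwise_smul_iff, and_comm]
      refine and_congr_left fun _ => ⟨?_, ?_⟩
      · rintro ⟨g, rfl⟩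
        refine ⟨x * g, ?_⟩
        show MulAut.conj x • (MulAut.conj g • H) = MulAut.conj (x * g) • H
        rw [map_mul, mul_smul]
      · rintro ⟨g, hg⟩
        refine ⟨x⁻¹ * g, ?_⟩
        show K = MulAut.conj (x⁻¹ * g) • H
        rw [map_mul, mul_smul, map_inv, eq_inv_smul_iff]
        exact hg
    haveI := Fintype.ofFinite C
    haveI := Fintype.ofFinite (Sylow p G)
    have h := Nat.card_congr ((Equiv.subtypeProdEquivSigmaSubtype fun (K : C) (Q : Sylow p G) => K.1 ≤ (Q : Subgroup G)).symm.trans
      (((Equiv.prodComm C (Sylow p G)).subtypeEquiv (q := fun z : Sylow p G × C => z.2.1 ≤ (z.1 : Subgroup G))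
        fun z => Iff.rfl).trans
      (Equiv.subtypeProdEquivSigmaSubtype fun (Q : Sylow p G) (K : C) => K.1 ≤ (Q : Subgroup G))))
    rw [Nat.card_sigma, Nat.card_sigma] at h
    simp only [hA, hB, Finset.sum_const, Finset.card_univ, smul_eq_mul, ← Nat.card_eq_fintype_card] at h
    exact h
  have hCpos : 0 < Nat.card C := Nat.card_pos_iff.mpr ⟨⟨⟨H, 1, by ext x; simp⟩⟩, inferInstance⟩
  refine Nat.eq_of_mul_eq_mul_left hCpos ?_
  rw [← mul_assoc, hpair, mul_assoc (Nat.card (Sylow p G)), mul_comm (Nat.card {K : Subgroup G // _}) (Nat.card (Subgroup.normalizer ((P : Subgroup G) : Set G))),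
    ← mul_assoc, hS, mul_left_comm, hC, mul_comm]

end Cfsg.Agent.S4088
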