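import Cfsg.Statements.S4089
import Cfsg.Agent.Lib.Core.Cores
import Cfsg.Agent.Lib.Core.Basic
import Cfsg.Agent.Lib.Fusion.Alperin
import Cfsg.Agent.Lib.Solv.Nilpotent

set_option autoImplicit false
open Cfsg

namespace Cfsg.Agent.S4089

open Subgroup

/-- The radical subgroups containing `H` and normalized by `g`. -/
theorem exists_radical {G : Type*} [Group G] [Finite G] {p : ℕ} [Fact p.Prime] {H : Subgroup G}
    (hH : IsPGroup p H) {g : G} (hg : (H.subgroupOf (H ⊔ zpowers g)).IsSubnormal) :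
    ∃ R : Subgroup G, H ≤ R ∧
      (Cfsg.pCore p (normalizer (R : Set G))).map (normalizer (R : Set G)).subtype = R ∧
      g ∈ normalizer (R : Set G) := by
  set J := H ⊔ zpowers g
  set R₀ := (Cfsg.pCore p J).map J.subtype with hR₀
  have hHR : H ≤ R₀ := by
    have h := Cfsg.Lib.Core.le_pCore_of_isSubnormal hg (hH.comap_subtype (K := J))
    intro x hx
    exact ⟨⟨x, mem_sup_left hx⟩, h (mem_subgroupOf.2 hx), rfl⟩
  have hgR : g ∈ normalizer (R₀ : Set G) := by
    rw [hR₀]
    refine Cfsg.Lib.Core.normalizer_le_normalizer_map_char _ ?_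
    exact le_normalizer (mem_sup_right (mem_zpowers g))
  obtain ⟨R, -, ⟨hRH, hRp, hRg⟩, hmax⟩ :=
    (Set.toFinite {R : Subgroup G | H ≤ R ∧ IsPGroup p R ∧ g ∈ normalizer (R : Set G)}).exists_le_maximal
      (a := R₀) ⟨hHR, (Cfsg.Lib.Core.pCore_isPGroup p J).map _, hgR⟩
  refine ⟨R, hRH, ?_, hRg⟩
  set N := normalizer (R : Set G) with hN
  set R' := (Cfsg.pCore p N).map N.subtype with hR'
  have hle : R ≤ R' := by
    intro x hx
    haveI : (R.subgroupOf N).Normal := normal_in_normalizer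
    exact ⟨⟨x, le_normalizer hx⟩, Cfsg.Lib.Core.le_pCore (show IsPGroup p (R.subgroupOf N) from hRp.comap_subtype)
      (mem_subgroupOf.2 hx), rfl⟩
  refine le_antisymm (hmax ⟨hRH.trans hle, (Cfsg.Lib.Core.pCore_isPGroup p N).map _, ?_⟩ hle) hle
  rw [hR']
  exact Cfsg.Lib.Core.normalizer_le_normalizer_map_char _ (le_normalizer hRg)

/-- A radical subgroup is the intersection of the Sylow subgroups containing it. -/
theorem sylow_inf_eq {G : Type*} [Group G] [Finite G] {p : ℕ} [Fact p.Prime] {R : Subgroup G}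
    (hR : (Cfsg.pCore p (normalizer (R : Set G))).map (normalizer (R : Set G)).subtype = R) :
    sInf {K : Subgroup G | ∃ Q : Sylow p G, R ≤ (Q : Subgroup G) ∧ K = (Q : Subgroup G)} ≤ R := by
  set N := normalizer (R : Set G) with hN
  have hRp : IsPGroup p R := by
    rw [← hR]
    exact (Cfsg.Lib.Core.pCore_isPGroup p N).map _
  set E := sInf {K : Subgroup G | ∃ Q : Sylow p G, R ≤ (Q : Subgroup G) ∧ K = (Q : Subgroup G)} with hE
  have hRE : R ≤ E := le_sInf fun K ⟨Q, hQ, hK⟩ => hK ▸ hQ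
  obtain ⟨Q₀, hQ₀⟩ := hRp.exists_le_sylow
  have hEp : IsPGroup p E := Q₀.2.to_le (sInf_le ⟨Q₀, hQ₀, rfl⟩)
  have hconj : ∀ g ∈ N, ∀ x ∈ E, g * x * g⁻¹ ∈ E := by
    intro g hg x hx
    rw [hE, Subgroup.mem_sInf] at hx ⊢
    rintro K ⟨Q, hQ, rfl⟩
    have h1 := hx (g⁻¹ • Q : Sylow p G) ⟨g⁻¹ • Q, ?_, rfl⟩
    · rw [Sylow.coe_subgroup_smul, Subgroup.mem_smul_pointwise_iff_exists] at h1
      obtain ⟨s, hs, hsx⟩ := h1
      have : g * x * g⁻¹ = s := by rw [← hsx]; simp [mul_assoc]
      rw [this]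
      exact hs
    · intro r hr
      rw [Sylow.coe_subgroup_smul, Subgroup.mem_smul_pointwise_iff_exists]
      refine ⟨g * r * g⁻¹, hQ ((mem_normalizer_iff.1 hg r).1 hr), ?_⟩
      simp [mul_assoc]
  by_contra hne
  have hlt : R < E := lt_of_le_of_ne hRE fun h => hne h.ge
  have h2 := Cfsg.Lib.Fusion.lt_inf_normalizer hEp hlt
  have h3 : E ⊓ N ≤ R := by
    haveI : ((E ⊓ N).subgroupOf N).Normal := ⟨fun x hx y =>
      mem_subgroupOf.2 ⟨hconj y y.2 x hx.1, N.mul_mem (N.mul_mem y.2 x.2) (N.inv_mem y.2)⟩⟩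
    have h4 := Cfsg.Lib.Core.le_pCore (show IsPGroup p ((E ⊓ N).subgroupOf N) from
      (hEp.to_le (inf_le_left : E ⊓ N ≤ E)).comap_subtype)
    intro x hx
    rw [← hR]
    exact ⟨⟨x, hx.2⟩, h4 (mem_subgroupOf.2 hx), rfl⟩
  exact h2.not_ge h3

/-- Subnormality from a normalized `p`-subgroup containing `H`. -/
theorem isSubnormal_of_radical {G : Type*} [Group G] [Finite G] {p : ℕ} [Fact p.Prime] {H R : Subgroup G}
    (hR : IsPGroup p R) (hHR : H ≤ R) {g : G} (hg : g ∈ normalizer (R : Set G)) :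
    (H.subgroupOf (H ⊔ zpowers g)).IsSubnormal := by
  set J := H ⊔ zpowers g
  have hJ : J ≤ normalizer (R : Set G) := sup_le (hHR.trans le_normalizer) (zpowers_le.2 hg)
  haveI hn : (R.subgroupOf J).Normal := normal_subgroupOf_of_le_normalizer hJ
  haveI : Group.IsNilpotent (R.subgroupOf J) :=
    (show IsPGroup p (R.subgroupOf J) from hR.comap_subtype).isNilpotent
  have h2 : ((H.subgroupOf J).subgroupOf (R.subgroupOf J)).IsSubnormal :=
    Cfsg.Lib.Solv.isNilpotent_iff_forall_isSubnormal.1 inferInstance _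
  exact IsSubnormal.trans (fun x hx => hHR hx) h2 hn.isSubnormal


/-- Let G be a finite group, p a prime and H a p-subgroup of G. Then the set of elements g of G such that H is subnormal in the subgroup generated by H and g is the union of the normalizers N_G(R) over the subgroups R of G containing H with R = O_p(N_G(R)); and this set does not change when H is replaced by the intersection of all Sylow p-subgroups of G containing H. -/
theorem result {G : Type*} [Group G] [Finite G] (p : ℕ) [Fact p.Prime]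
    (H : Subgroup G) (hH : IsPGroup p H) :
    {g : G | ((H).subgroupOf (H ⊔ Subgroup.zpowers g)).IsSubnormal} =
      {g : G | ∃ R : Subgroup G, H ≤ R ∧ (Cfsg.pCore p (Subgroup.normalizer (R : Set G))).map (Subgroup.normalizer (R : Set G)).subtype = R ∧ g ∈ Subgroup.normalizer (R : Set G)} ∧
    ∀ g : G, (((H).subgroupOf (H ⊔ Subgroup.zpowers g)).IsSubnormal ↔
      (((sInf {K : Subgroup G | ∃ Q : Sylow p G, H ≤ (Q : Subgroup G) ∧ K = (Q : Subgroup G)})).subgroupOf ((sInf {K : Subgroup G | ∃ Q : Sylow p G, H ≤ (Q : Subgroup G) ∧ K = (Q : Subgroup G)}) ⊔ Subgroup.zpowers g)).IsSubnormal) := by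
  classical
  refine ⟨Set.ext fun g => ⟨fun hg => exists_radical hH hg, ?_⟩, fun g => ?_⟩
  · rintro ⟨R, hHR, hR, hg⟩
    refine isSubnormal_of_radical (p := p) ?_ hHR hg
    rw [← hR]
    exact (Cfsg.Lib.Core.pCore_isPGroup p _).map _
  · set D := sInf {K : Subgroup G | ∃ Q : Sylow p G, H ≤ (Q : Subgroup G) ∧ K = (Q : Subgroup G)} with hD
    have hHD : H ≤ D := le_sInf fun K ⟨Q, hQ, hK⟩ => hK ▸ hQ
    obtain ⟨Q₀, hQ₀⟩ := hH.exists_le_sylow
    have hDp : IsPGroup p D := Q₀.2.to_le (sInf_le ⟨Q₀, hQ₀, rfl⟩)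
    constructor
    · intro hg
      obtain ⟨R, hHR, hR, hgR⟩ := exists_radical hH hg
      have hRp : IsPGroup p R := by
        rw [← hR]
        exact (Cfsg.Lib.Core.pCore_isPGroup p _).map _
      refine isSubnormal_of_radical hRp ((sInf_le_sInf ?_).trans (sylow_inf_eq hR)) hgR
      rintro K ⟨Q, hQ, rfl⟩
      exact ⟨Q, hHR.trans hQ, rfl⟩
    · intro hg
      obtain ⟨R, hDR, hR, hgR⟩ := exists_radical hDp hg
      have hRp : IsPGroup p R := by
        rw [← hR]
        exact (Cfsg.Lib.Core.pCore_isPGroup p _).map _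
      exact isSubnormal_of_radical hRp (hHD.trans hDR) hgR

end Cfsg.Agent.S4089
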