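import Cfsg.Statements.S4090
import Cfsg.Agent.S4088
import Cfsg.Agent.Lib.Fusion.SubnormalizerStep

set_option linter.style.haveILetI false

set_option autoImplicit false
open scoped BigOperators
open Cfsg

namespace Cfsg.Agent.S4090

open Subgroup Cfsg.Lib.SubnormalizerCount

theorem good_iff {G : Type*} [Group G] [Finite G] {p : ℕ} [Fact p.Prime] {H : Subgroup G} (hH : IsPGroup p H)
    (g : G) : ((H).subgroupOf (H ⊔ zpowers g)).IsSubnormal ↔ Good p ⊤ H g :=
  Cfsg.Agent.S4088.good_iff hH g

theorem factorization_mul_pow {p a b m : ℕ} (hp : p.Prime) (ha : a ≠ 0) (hb : b ≠ 0) (h : a = p ^ m) :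
    p ^ (a * b).factorization p = a * p ^ b.factorization p := by
  subst h
  rw [Nat.factorization_mul ha hb, Finsupp.add_apply, hp.factorization_pow, Finsupp.single_eq_same, pow_add]

theorem factorization_mul_coprime {p a b : ℕ} (hp : p.Prime) (ha : a ≠ 0) (hb : b ≠ 0) (h : a.Coprime p) :
    p ^ (a * b).factorization p = p ^ b.factorization p := by
  rw [Nat.factorization_mul ha hb, Finsupp.add_apply,
    Nat.factorization_eq_zero_of_not_dvd ((hp.coprime_iff_not_dvd).mp h.symm), Nat.zero_add]

/-- Let G be a finite p-solvable group, H a p-subgroup of G and P a Sylow p-subgroup, and fix a chain of normal subgroups 1 = M₀ ≤ M₁ ≤ ⋯ ≤ Mₙ = G of G each of whose factors is a p-group or a p'-group. Then the number of elements g of G such that H is subnormal in the subgroup generated by H and g equals the order of P times the product, over the factors Mᵢ₊₁/Mᵢ of order prime to p, of the order of the centralizer of H in Mᵢ₊₁/Mᵢ (counted as the number of u ∈ Mᵢ₊₁ with [h, u] ∈ Mᵢ for all h ∈ H, divided by the order of Mᵢ). -/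
theorem result {G : Type*} [Group G] [Finite G] (p : ℕ) [Fact p.Prime]
    (hG : Cfsg.IsPSolvable p G) (H : Subgroup G) (hH : IsPGroup p H) (P : Sylow p G)
    (n : ℕ) (M : Fin (n + 1) → Subgroup G) (h0 : M 0 = ⊥) (hn : M (Fin.last n) = ⊤) (hmono : Monotone M)
    (hnormal : ∀ i, (M i).Normal)
    (hfac : ∀ i : Fin n, (∃ m : ℕ, (M i.castSucc).relIndex (M i.succ) = p ^ m) ∨ ((M i.castSucc).relIndex (M i.succ)).Coprime p) :
    Nat.card {g : G // ((H).subgroupOf (H ⊔ Subgroup.zpowers g)).IsSubnormal} =
      Nat.card (P : Subgroup G) *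
        ∏ i : Fin n, (if ((M i.castSucc).relIndex (M i.succ)).Coprime p then
          Nat.card {u : G // u ∈ M i.succ ∧ ∀ h ∈ H, h * u * h⁻¹ * u⁻¹ ∈ M i.castSucc} / Nat.card (M i.castSucc)
          else 1) := by
  classical
  haveI : ∀ i, (M i).Normal := hnormal
  let c : Fin n → ℕ := fun i => if ((M i.castSucc).relIndex (M i.succ)).Coprime p then
    Nat.card {u : G // u ∈ M i.succ ∧ ∀ h ∈ H, h * u * h⁻¹ * u⁻¹ ∈ M i.castSucc} / Nat.card (M i.castSucc) else 1
  have key : ∀ i : Fin (n + 1), Nat.card {y : G ⧸ M i // Good p ⊤ (H.map (QuotientGroup.mk' (M i))) y} =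
      p ^ (Nat.card (G ⧸ M i)).factorization p *
        ∏ j ∈ Finset.univ.filter (fun j : Fin n => i ≤ j.castSucc), c j := by
    intro i
    induction i using Fin.reverseInduction with
    | last =>
      have he : Finset.univ.filter (fun j : Fin n => Fin.last n ≤ j.castSucc) = ∅ :=
        Finset.filter_eq_empty_iff.mpr fun j _ h => (Fin.castSucc_lt_last j).not_ge h
      haveI : Subsingleton (G ⧸ M (Fin.last n)) := by
        rw [QuotientGroup.subsingleton_iff]; exact hn
      rw [he, Finset.prod_empty, mul_one, Nat.card_of_subsingleton (1 : G ⧸ M (Fin.last n)),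
        Nat.factorization_one, Finsupp.zero_apply, pow_zero,
        Nat.card_congr (Equiv.subtypeUnivEquiv fun y => ?_), Nat.card_of_subsingleton (1 : G ⧸ M (Fin.last n))]
      exact ⟨⊥, IsPGroup.of_bot, fun x _ => mem_bot.mpr (Subsingleton.elim _ _), le_top,
        by rw [normalizer_eq_top]; trivial⟩
    | cast i ih =>
      have hle : M i.castSucc ≤ M i.succ := hmono (Fin.castSucc_lt_succ (i := i)).le
      set π := QuotientGroup.mk' (M i.castSucc)
      let f : G ⧸ M i.castSucc →* G ⧸ M i.succ := QuotientGroup.map _ _ (MonoidHom.id G) hle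
      have hf : Function.Surjective f := fun y => by
        obtain ⟨g, rfl⟩ := QuotientGroup.mk'_surjective (M i.succ) y
        exact ⟨π g, rfl⟩
      have hker : ∀ g, π g ∈ f.ker ↔ g ∈ M i.succ := fun g => by
        rw [MonoidHom.mem_ker]; exact QuotientGroup.eq_one_iff g
      have hkerc : Nat.card f.ker = (M i.castSucc).relIndex (M i.succ) := by
        rw [show f.ker = (M i.succ).map π from ?_, ← relIndex_ker, QuotientGroup.ker_mk']
        refine le_antisymm (fun y hy => ?_) ?_
        · obtain ⟨g, rfl⟩ := QuotientGroup.mk'_surjective (M i.castSucc) y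
          exact mem_map_of_mem π ((hker g).mp hy)
        · rintro _ ⟨g, hg, rfl⟩
          exact (hker g).mpr hg
      have hmap : (H.map π).map f = H.map (QuotientGroup.mk' (M i.succ)) := by rw [map_map]; rfl
      have hset : Finset.univ.filter (fun j : Fin n => i.castSucc ≤ j.castSucc) =
          insert i (Finset.univ.filter fun j : Fin n => i.succ ≤ j.castSucc) := by
        ext j
        simp only [Finset.mem_insert, Finset.mem_filter, Finset.mem_univ, true_and]
        constructor
        · intro h
          rcases eq_or_ne j i with e | e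
          · exact Or.inl e
          · refine Or.inr ?_
            rw [Fin.le_def] at h ⊢
            have := Fin.val_ne_of_ne e
            simp only [Fin.val_castSucc, Fin.val_succ] at h ⊢
            omega
        · rintro (rfl | h)
          · exact le_rfl
          · exact (Fin.castSucc_lt_succ (i := i)).le.trans h
      have hni : i ∉ Finset.univ.filter (fun j : Fin n => i.succ ≤ j.castSucc) := fun h =>
        (Fin.castSucc_lt_succ (i := i)).not_ge (Finset.mem_filter.mp h).2
      have hcardq : Nat.card (G ⧸ M i.castSucc) = Nat.card f.ker * Nat.card (G ⧸ M i.succ) := by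
        rw [← card_mul_index f.ker, index_ker, MonoidHom.range_eq_top.mpr hf, card_top]
      rw [hset, Finset.prod_insert hni, hcardq]
      by_cases hc : ((M i.castSucc).relIndex (M i.succ)).Coprime p
      · rw [card_good_of_coprime_ker f hf (hkerc ▸ hc) (hH.map π), hmap, ih,
          factorization_mul_coprime Fact.out Nat.card_pos.ne' Nat.card_pos.ne' (hkerc ▸ hc), mul_left_comm]
        congr 2
        have h1 := card_fiber π (QuotientGroup.mk'_surjective _)
          (fun y => y ∈ f.ker ⊓ centralizer ((H.map π : Subgroup _) : Set (G ⧸ M i.castSucc)))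
        rw [QuotientGroup.ker_mk'] at h1
        have h2 : ∀ u : G, (π u ∈ f.ker ⊓ centralizer ((H.map π : Subgroup _) : Set (G ⧸ M i.castSucc))) ↔
            (u ∈ M i.succ ∧ ∀ h ∈ H, h * u * h⁻¹ * u⁻¹ ∈ M i.castSucc) := fun u => by
          rw [mem_inf, hker, mem_centralizer_iff]
          refine and_congr_right fun _ => ⟨fun h x hx => ?_, ?_⟩
          · refine (QuotientGroup.eq_one_iff _).mp ?_
            show π (x * u * x⁻¹ * u⁻¹) = 1
            rw [map_mul, map_mul, map_mul, h (π x) (mem_map_of_mem π hx), map_inv, map_inv, mul_inv_cancel_right,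
              mul_inv_cancel]
          · rintro h _ ⟨x, hx, rfl⟩
            have h3 : π (x * u * x⁻¹ * u⁻¹) = 1 := (QuotientGroup.eq_one_iff _).mpr (h x hx)
            rw [map_mul, map_mul, map_mul, map_inv, map_inv, mul_inv_eq_one, mul_inv_eq_iff_eq_mul] at h3
            exact h3
        show _ = c i
        rw [show c i = _ from if_pos hc, ← Nat.card_congr (Equiv.subtypeEquivRight h2), h1,
          Nat.mul_div_cancel_left _ Nat.card_pos]
      · obtain ⟨m, hm⟩ := (hfac i).resolve_right hc
        rw [card_good_of_pgroup_ker f hf (IsPGroup.of_card (hkerc.trans hm)), hmap, ih,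
          factorization_mul_pow Fact.out Nat.card_pos.ne' Nat.card_pos.ne' (hkerc.trans hm),
          show c i = 1 from if_neg hc, one_mul, mul_assoc]
  have h0c : Nat.card (M 0) = 1 := by rw [h0, card_bot]
  have hG0 : Nat.card (G ⧸ M 0) = Nat.card G := by
    rw [Subgroup.card_eq_card_quotient_mul_card_subgroup (M 0), h0c, mul_one]
  rw [Nat.card_congr (Equiv.subtypeEquivRight (good_iff hH)),
    card_good_of_pgroup_ker (QuotientGroup.mk' (M 0)) (QuotientGroup.mk'_surjective _)
      (by rw [QuotientGroup.ker_mk', h0]; exact IsPGroup.of_bot),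
    QuotientGroup.ker_mk', h0c, one_mul, key 0, hG0, P.card_eq_multiplicity]
  rw [show Finset.univ.filter (fun j : Fin n => (0 : Fin (n + 1)) ≤ j.castSucc) = Finset.univ from
    Finset.filter_true_of_mem fun j _ => Fin.zero_le _]

end Cfsg.Agent.S4090
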