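import Cfsg.Statements.S4091
import Cfsg.Agent.S4090
import Cfsg.Agent.Lib.Fusion.CoprimeFixProduct
import Mathlib.Analysis.MeanInequalities

set_option linter.style.haveILetI false

set_option autoImplicit false
open Cfsg

namespace Cfsg.Agent.S4091

open Subgroup Cfsg.Lib.SubnormalizerCount Cfsg.Lib.CoprimeFixProduct

theorem amgm {ι : Type*} [Fintype ι] [Nonempty ι] (z : ι → ℝ) (hz : ∀ i, 0 ≤ z i) :
    (Fintype.card ι : ℝ) ^ Fintype.card ι * ∏ i, z i ≤ (∑ i, z i) ^ Fintype.card ι := by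
  have hq : (0 : ℝ) < Fintype.card ι := by exact_mod_cast Fintype.card_pos
  have hP : 0 ≤ ∏ i, z i := Finset.prod_nonneg fun i _ => hz i
  have h := Real.geom_mean_le_arith_mean Finset.univ (fun _ => (1 : ℝ)) z (fun _ _ => zero_le_one)
    (by simpa using hq) (fun i _ => hz i)
  simp only [Real.rpow_one, one_mul, Finset.sum_const, Finset.card_univ, nsmul_eq_mul, mul_one] at h
  have h2 := pow_le_pow_left₀ (Real.rpow_nonneg hP _) h (Fintype.card ι)
  rw [Real.rpow_inv_natCast_pow hP Fintype.card_ne_zero, div_pow, le_div_iff₀ (pow_pos hq _)] at h2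
  linarith

/-- Let G be a finite p-solvable group, P a Sylow p-subgroup of G, u the number of p-elements of G (elements of p-power order, the identity included) and n the number of Sylow p-subgroups of G. Then u/#P ≥ n^((p−1)/p), stated as u^p ≥ #P^p · n^(p−1). -/
theorem result {G : Type*} [Group G] [Finite G] (p : ℕ) [Fact p.Prime]
    (hG : Cfsg.IsPSolvable p G) (P : Sylow p G) :
    Nat.card (P : Subgroup G) ^ p * Nat.card (Sylow p G) ^ (p - 1) ≤ Nat.card {g : G // ∃ k : ℕ, orderOf g = p ^ k} ^ p := by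
  classical
  have hG0 := hG
  obtain ⟨n, M, h0, hn, hmono, hnormal, hfac⟩ := hG
  haveI : ∀ i, (M i).Normal := hnormal
  haveI := Fintype.ofFinite G
  haveI := Fintype.ofFinite (Sylow p G)
  let c : Subgroup G → Fin n → ℕ := fun H i => if ((M i.castSucc).relIndex (M i.succ)).Coprime p then
    Nat.card {u : G // u ∈ M i.succ ∧ ∀ h ∈ H, h * u * h⁻¹ * u⁻¹ ∈ M i.castSucc} / Nat.card (M i.castSucc) else 1
  let N : Fin n → ℕ := fun i => if ((M i.castSucc).relIndex (M i.succ)).Coprime p then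
    (M i.castSucc).relIndex (M i.succ) else 1
  set q := Nat.card (P : Subgroup G) with hq
  set NP := Nat.card (normalizer ((P : Subgroup G) : Set G)) with hNP
  have hS : ∀ H : Subgroup G, IsPGroup p H →
      Nat.card {Q : Sylow p G // H ≤ (Q : Subgroup G)} * NP = q * ∏ i, c H i := fun H hH => by
    rw [hNP, ← card_good hH P, ← Nat.card_congr (Equiv.subtypeEquivRight (Cfsg.Agent.S4088.good_iff hH))]
    exact Cfsg.Agent.S4090.result p hG0 H hH P n M h0 hn hmono hnormal hfac
  have hquot : ∀ i : Fin n, ∀ X : Subgroup ↥((M i.succ).map (QuotientGroup.mk' (M i.castSucc))),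
      Nat.card {u : G // QuotientGroup.mk' (M i.castSucc) u ∈ X.map (Subgroup.subtype _)} / Nat.card (M i.castSucc) =
        Nat.card X := by
    intro i X
    rw [card_fiber (QuotientGroup.mk' (M i.castSucc)) (QuotientGroup.mk'_surjective _)
        (fun y => y ∈ X.map (Subgroup.subtype _)), QuotientGroup.ker_mk', Nat.mul_div_cancel_left _ Nat.card_pos]
    exact card_map_of_injective (Subgroup.subtype_injective _)
  have hmem' : ∀ (i : Fin n) (u : G), QuotientGroup.mk' (M i.castSucc) u ∈ (M i.succ).map (QuotientGroup.mk' (M i.castSucc)) ↔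
      u ∈ M i.succ := by
    intro i u
    rw [← mem_comap, comap_map_eq_self]
    rw [QuotientGroup.ker_mk']
    exact hmono (Fin.castSucc_lt_succ (i := i)).le
  have hcbot : ∀ i, c ⊥ i = N i := by
    intro i
    by_cases hc : ((M i.castSucc).relIndex (M i.succ)).Coprime p
    · have hle : M i.castSucc ≤ M i.succ := hmono (Fin.castSucc_lt_succ (i := i)).le
      simp only [c, N, if_pos hc]
      rw [Nat.card_congr (Equiv.subtypeEquivRight (q := fun u : G => u ∈ M i.succ) fun u => ⟨fun h => h.1, fun h =>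
        ⟨h, fun x hx => by rw [mem_bot.mp hx, one_mul, inv_one, mul_one, mul_inv_cancel]; exact one_mem _⟩⟩)]
      refine Nat.div_eq_of_eq_mul_right Nat.card_pos ?_
      rw [← relIndex_bot_left (M i.castSucc), relIndex_mul_relIndex ⊥ _ _ bot_le hle, relIndex_bot_left]
    · simp only [c, N, if_neg hc]
  have hcardG : Nat.card G = q * ∏ i, N i := by
    have hb : IsPGroup p (⊥ : Subgroup G) := IsPGroup.of_bot
    rw [← Finset.prod_congr rfl fun i _ => hcbot i, ← hS ⊥ hb,
      Nat.card_congr (Equiv.subtypeUnivEquiv fun Q => bot_le), hNP,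
      show Nat.card (Sylow p G) = (normalizer ((P : Subgroup G) : Set G)).index from Sylow.card_eq_index_normalizer P]
    exact (index_mul_card _).symm
  have hNc : ∀ Q : Sylow p G, Nat.card (normalizer ((Q : Subgroup G) : Set G)) = NP := by
    intro Q
    have h1 := index_mul_card (normalizer ((Q : Subgroup G) : Set G))
    have h2 := index_mul_card (normalizer ((P : Subgroup G) : Set G))
    rw [show (normalizer ((Q : Subgroup G) : Set G)).index = Nat.card (Sylow p G) from (Sylow.card_eq_index_normalizer Q).symm] at h1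
    rw [show (normalizer ((P : Subgroup G) : Set G)).index = Nat.card (Sylow p G) from (Sylow.card_eq_index_normalizer P).symm] at h2
    exact Nat.eq_of_mul_eq_mul_left Nat.card_pos (h1.trans h2.symm)
  have hone : ∀ Q : Sylow p G, Nat.card {R : Sylow p G // (Q : Subgroup G) ≤ (R : Subgroup G)} = 1 := fun Q => by
    rw [Nat.card_congr (Equiv.subtypeEquivRight (q := fun R : Sylow p G => R = Q) fun R =>
      ⟨fun h => Sylow.ext (Q.is_maximal' R.isPGroup' h), fun h => h ▸ le_rfl⟩)]
    exact Nat.card_unique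
  have hB : ∀ Q : Sylow p G, NP = q * ∏ i, c (Q : Subgroup G) i := fun Q => by
    rw [← hS _ Q.isPGroup', hone, one_mul]
  have hn' : Nat.card (Sylow p G) * NP = q * ∏ i, N i := by
    rw [← hcardG, hNP, show Nat.card (Sylow p G) = (normalizer ((P : Subgroup G) : Set G)).index from
      Sylow.card_eq_index_normalizer P]
    exact index_mul_card _
  have hqpos : 0 < q := Nat.card_pos
  -- the product over a Sylow subgroup
  have hprod : ∀ Q : Sylow p G, (∏ x : (Q : Subgroup G), ∏ i, c (zpowers (x : G)) i) ^ p ≤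
      (∏ i, N i) ^ q * (∏ i, c (Q : Subgroup G) i) ^ (q * (p - 1)) := by
    intro Q
    have hqQ : Fintype.card (Q : Subgroup G) = q := by
      rw [← Nat.card_eq_fintype_card, hq, Q.card_eq_multiplicity, P.card_eq_multiplicity]
    rw [Finset.prod_comm, ← Finset.prod_pow, ← Finset.prod_pow, ← Finset.prod_pow, ← Finset.prod_mul_distrib]
    refine Finset.prod_le_prod' fun i _ => ?_
    by_cases hc : ((M i.castSucc).relIndex (M i.succ)).Coprime p
    swap
    · simp only [c, N, if_neg hc, Finset.prod_const_one, one_pow, mul_one, le_refl]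
    simp only [c, N, if_pos hc]
    set π := QuotientGroup.mk' (M i.castSucc)
    haveI : ((M i.succ).map π).Normal := (hnormal _).map π (QuotientGroup.mk'_surjective _)
    let φ : (Q : Subgroup G) →* MulAut ↥((M i.succ).map π) :=
      (MulAut.conjNormal : G ⧸ M i.castSucc →* MulAut ↥((M i.succ).map π)).comp (π.comp (Q : Subgroup G).subtype)
    have hcardV : Nat.card ↥((M i.succ).map π) = (M i.castSucc).relIndex (M i.succ) := by
      rw [← relIndex_ker, QuotientGroup.ker_mk']
    have hcomm : ∀ (u : G) (hu : u ∈ M i.succ) (x : (Q : Subgroup G)),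
        φ x ⟨π u, mem_map_of_mem π hu⟩ = ⟨π u, mem_map_of_mem π hu⟩ ↔
          (x : G) * u * (x : G)⁻¹ * u⁻¹ ∈ M i.castSucc := by
      intro u hu x
      rw [Subtype.ext_iff, ← QuotientGroup.eq_one_iff ((x : G) * u * (x : G)⁻¹ * u⁻¹)]
      show π x * π u * (π x)⁻¹ = π u ↔ π ((x : G) * u * (x : G)⁻¹ * u⁻¹) = 1
      rw [map_mul, map_mul, map_mul, map_inv, map_inv, mul_inv_eq_one]
    have hfx : ∀ x : (Q : Subgroup G), Nat.card {u : G // u ∈ M i.succ ∧ ∀ h ∈ zpowers (x : G),
        h * u * h⁻¹ * u⁻¹ ∈ M i.castSucc} / Nat.card (M i.castSucc) ≤ Nat.card (fixSub φ x) := by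
      intro x
      rw [← hquot i (fixSub φ x)]
      refine Nat.div_le_div_right (Nat.card_le_card_of_injective (fun u => ⟨u.1, ?_⟩) fun a b h =>
        Subtype.ext (congrArg Subtype.val h :))
      exact ⟨⟨π u.1, mem_map_of_mem π u.2.1⟩, mem_fixSub.mpr ((hcomm _ u.2.1 x).mpr (u.2.2 _ (mem_zpowers _))), rfl⟩
    have hfall : Nat.card {u : G // u ∈ M i.succ ∧ ∀ h ∈ (Q : Subgroup G),
        h * u * h⁻¹ * u⁻¹ ∈ M i.castSucc} / Nat.card (M i.castSucc) = Nat.card (fixAll φ) := by
      rw [← hquot i (fixAll φ)]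
      refine congrArg (fun t => t / Nat.card (M i.castSucc)) (Nat.card_congr (Equiv.subtypeEquivRight fun u => ⟨?_, ?_⟩))
      · rintro ⟨hu, h⟩
        exact ⟨⟨π u, mem_map_of_mem π hu⟩, mem_fixAll.mpr fun x => (hcomm u hu x).mpr (h x x.2), rfl⟩
      · rintro ⟨⟨v, hv⟩, hfix, hvu⟩
        have hvu' : v = π u := hvu
        subst hvu'
        exact ⟨(hmem' i u).mp hv, fun x hx => (hcomm u ((hmem' i u).mp hv) ⟨x, hx⟩).mp (mem_fixAll.mp hfix ⟨x, hx⟩)⟩
    have h := Cfsg.Lib.CoprimeFixProduct.ineq (p := p) Q.isPGroup'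
      (V := ↥((M i.succ).map π)) (by rw [hcardV]; exact ((Fact.out : p.Prime).coprime_iff_not_dvd).mp hc.symm) φ
    rw [Ineq, hcardV, hqQ, ← hfall] at h
    exact (Nat.pow_le_pow_left (Finset.prod_le_prod' fun x _ => hfx x) p).trans h
  -- the weights
  let lam : G → ℕ := fun x => Nat.card {Q : Sylow p G // x ∈ (Q : Subgroup G)}
  have hlam : ∀ (Q : Sylow p G) (x : (Q : Subgroup G)),
      lam x * NP = q * ∏ i, c (zpowers (x : G)) i := fun Q x => by
    rw [← hS _ (Q.isPGroup'.to_le (zpowers_le.mpr x.2))]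
    exact congrArg (· * NP) (Nat.card_congr (Equiv.subtypeEquivRight fun R => zpowers_le.symm))
  let f : Sylow p G → ℝ := fun Q => ∑ x : (Q : Subgroup G), (lam x : ℝ)⁻¹
  have hf0 : ∀ Q, 0 ≤ f Q := fun Q => Finset.sum_nonneg fun x _ => by positivity
  have hf : ∀ Q, (q : ℝ) ^ p ≤ f Q ^ p * Nat.card (Sylow p G) := by
    intro Q
    have hqQ : Fintype.card (Q : Subgroup G) = q := by
      rw [← Nat.card_eq_fintype_card, hq, Q.card_eq_multiplicity, P.card_eq_multiplicity]
    have hlampos : ∀ x : (Q : Subgroup G), 0 < lam x := fun x => Nat.card_pos_iff.mpr ⟨⟨⟨Q, x.2⟩⟩, inferInstance⟩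
    have h1 := amgm (fun x : (Q : Subgroup G) => (lam x : ℝ)⁻¹) (fun x => by positivity)
    rw [hqQ, Finset.prod_inv_distrib] at h1
    set L : ℕ := ∏ x : (Q : Subgroup G), lam x with hL
    set B : ℕ := ∏ i, c (Q : Subgroup G) i with hBdef
    set T : ℕ := ∏ i, N i with hT
    set m : ℕ := Nat.card (Sylow p G) with hm
    have hBT : m * B = T := by
      have := hn'
      rw [hB Q, ← mul_assoc, mul_comm m q, mul_assoc] at this
      exact Nat.eq_of_mul_eq_mul_left hqpos this
    have hA : ∀ x : (Q : Subgroup G), lam x * B = ∏ i, c (zpowers (x : G)) i := fun x => by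
      have := hlam Q x
      rw [hB Q, ← mul_assoc, mul_comm (lam _) q, mul_assoc] at this
      exact Nat.eq_of_mul_eq_mul_left hqpos this
    have hBpos : 0 < B := Nat.pos_of_ne_zero fun h0 => by
      have := hB Q
      rw [← hBdef, h0, mul_zero] at this
      exact Nat.card_pos.ne' (hNP ▸ this : Nat.card (normalizer ((P : Subgroup G) : Set G)) = 0)
    -- `L ^ p ≤ m ^ q`
    have h2 : L ^ p ≤ m ^ q := by
      have h3 := hprod Q
      rw [← Finset.prod_congr rfl fun x _ => hA x, Finset.prod_mul_distrib, Finset.prod_const, Finset.card_univ, hqQ,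
        ← hL, ← hBT, mul_pow, mul_pow, ← pow_mul, mul_assoc, ← pow_add,
        show q + q * (p - 1) = q * p by rw [Nat.mul_sub, mul_one, Nat.add_sub_cancel' (Nat.le_mul_of_pos_right q (Fact.out : p.Prime).pos)]] at h3
      exact Nat.le_of_mul_le_mul_right h3 (pow_pos hBpos _)
    have hLpos : (0 : ℝ) < (L : ℝ) := by exact_mod_cast Finset.prod_pos fun x _ => hlampos x
    have h4 : (q : ℝ) ^ q ≤ f Q ^ q * L := by
      have e : ((L : ℕ) : ℝ) = ∏ x : (Q : Subgroup G), (lam x : ℝ) := by rw [hL, Nat.cast_prod]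
      rw [← e, ← le_div_iff₀ (inv_pos.mpr hLpos), div_inv_eq_mul] at h1
      exact h1
    have h5 : ((q : ℝ) ^ p) ^ q ≤ (f Q ^ p * m) ^ q := by
      have h6 : (L : ℝ) ^ p ≤ (m : ℝ) ^ q := by exact_mod_cast h2
      rw [mul_pow, ← pow_mul, ← pow_mul (f Q), mul_comm p q, pow_mul, pow_mul]
      calc ((q : ℝ) ^ q) ^ p ≤ (f Q ^ q * L) ^ p := pow_le_pow_left₀ (by positivity) h4 p
        _ = (f Q ^ q) ^ p * (L : ℝ) ^ p := mul_pow _ _ _
        _ ≤ _ := mul_le_mul_of_nonneg_left h6 (pow_nonneg (pow_nonneg (hf0 Q) _) _)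
    exact le_of_pow_le_pow_left₀ hqpos.ne' (by have := hf0 Q; positivity) h5
  have hU : (Nat.card {g : G // ∃ k : ℕ, orderOf g = p ^ k} : ℝ) = ∑ Q, f Q := by
    have e : ∀ Q : Sylow p G, f Q = ∑ x : G, if x ∈ (Q : Subgroup G) then (lam x : ℝ)⁻¹ else 0 := fun Q => by
      rw [← Finset.sum_filter]
      exact (Finset.sum_subtype (Finset.univ.filter (· ∈ (Q : Subgroup G))) (fun x => by simp) fun x => (lam x : ℝ)⁻¹).symm
    rw [Finset.sum_congr rfl fun Q _ => e Q, Finset.sum_comm, Nat.card_eq_fintype_card, Fintype.card_subtype,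
      Finset.card_filter, Nat.cast_sum]
    refine Finset.sum_congr rfl fun x _ => ?_
    rw [← Finset.sum_filter, Finset.sum_const, nsmul_eq_mul]
    have hc : lam x = (Finset.univ.filter fun Q : Sylow p G => x ∈ (Q : Subgroup G)).card := by
      simp only [lam, Nat.card_eq_fintype_card, Fintype.card_subtype]
    rw [← hc]
    by_cases hx : ∃ k : ℕ, orderOf x = p ^ k
    · obtain ⟨k, hk⟩ := hx
      obtain ⟨Q, hQ⟩ := (IsPGroup.of_card (p := p) (G := zpowers x) (by rw [Nat.card_zpowers, hk])).exists_le_sylow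
      have : 0 < lam x := Nat.card_pos_iff.mpr ⟨⟨⟨Q, hQ (mem_zpowers x)⟩⟩, inferInstance⟩
      rw [if_pos ⟨k, hk⟩, Nat.cast_one, mul_inv_cancel₀ (by exact_mod_cast this.ne')]
    · have : lam x = 0 := by
        refine Nat.card_eq_zero.mpr (Or.inl ⟨fun ⟨Q, hQ⟩ => hx ?_⟩)
        obtain ⟨k, hk⟩ := Q.isPGroup' ⟨x, hQ⟩
        obtain ⟨i, -, hi⟩ := (Nat.dvd_prime_pow (Fact.out : p.Prime)).mp
          (orderOf_dvd_of_pow_eq_one (show x ^ p ^ k = 1 from congrArg Subtype.val hk))
        exact ⟨i, hi⟩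
      rw [if_neg hx, this]
      simp
  haveI : Nonempty (Sylow p G) := ⟨P⟩
  obtain ⟨Q₀, -, hmin⟩ := Finset.exists_min_image Finset.univ f ⟨P, Finset.mem_univ _⟩
  have hge : (Nat.card (Sylow p G) : ℝ) * f Q₀ ≤ ∑ Q, f Q := by
    rw [Nat.card_eq_fintype_card, ← Finset.card_univ, ← nsmul_eq_mul, ← Finset.sum_const]
    exact Finset.sum_le_sum fun Q hQ => hmin Q hQ
  have hfinal : (q : ℝ) ^ p * (Nat.card (Sylow p G) : ℝ) ^ (p - 1) ≤
      (Nat.card {g : G // ∃ k : ℕ, orderOf g = p ^ k} : ℝ) ^ p := by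
    rw [hU]
    refine le_trans ?_ (pow_le_pow_left₀ (mul_nonneg (Nat.cast_nonneg _) (hf0 Q₀)) hge p)
    calc (q : ℝ) ^ p * (Nat.card (Sylow p G) : ℝ) ^ (p - 1)
        ≤ f Q₀ ^ p * Nat.card (Sylow p G) * (Nat.card (Sylow p G) : ℝ) ^ (p - 1) :=
          mul_le_mul_of_nonneg_right (hf Q₀) (by positivity)
      _ = _ := by
          rw [mul_assoc, ← pow_succ', Nat.sub_add_cancel (Fact.out : p.Prime).one_le, mul_pow, mul_comm]
  exact_mod_cast hfinal

end Cfsg.Agent.S4091
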