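import Cfsg.Statements.S4092
import Mathlib.GroupTheory.Sylow
import Mathlib.GroupTheory.Nilpotent
import Mathlib.Tactic.Ring
import Cfsg.Agent.Lib.Core.Basic

set_option autoImplicit false
open Cfsg

namespace Cfsg.Agent.S4092

open Subgroup

/-- Let G be a finite group, p a prime and P a Sylow p-subgroup of G that is not normal in G. Then G has at least p·#P elements of p-power order (the identity included). -/
theorem result {G : Type*} [Group G] [Finite G] (p : ℕ) [Fact p.Prime]
    (P : Sylow p G) (hP : ¬ (P : Subgroup G).Normal) :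
    p * Nat.card (P : Subgroup G) ≤ Nat.card {g : G // ∃ k : ℕ, orderOf g = p ^ k} := by
  classical
  have hne : ∃ R : Sylow p G, R ≠ P := by
    by_contra hcon
    push Not at hcon
    haveI : Subsingleton (Sylow p G) := ⟨fun a b => (hcon a).trans (hcon b).symm⟩
    exact hP (Sylow.normal_of_subsingleton P)
  obtain ⟨R₀, hR₀⟩ := hne
  obtain ⟨⟨⟨A, B⟩, hAB⟩, hmax⟩ : ∃ c : {c : Sylow p G × Sylow p G // c.1 ≠ c.2}, ∀ c' :
      {c : Sylow p G × Sylow p G // c.1 ≠ c.2},
      Nat.card ↥((c'.1.1 : Subgroup G) ⊓ (c'.1.2 : Subgroup G)) ≤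
        Nat.card ↥((c.1.1 : Subgroup G) ⊓ (c.1.2 : Subgroup G)) := by
    haveI : Nonempty {c : Sylow p G × Sylow p G // c.1 ≠ c.2} := ⟨⟨(R₀, P), hR₀⟩⟩
    exact Finite.exists_max _
  set D := (A : Subgroup G) ⊓ (B : Subgroup G) with hD
  set M := normalizer (D : Set G) with hM
  have hbig : ∀ C : Sylow p G, D ≤ (C : Subgroup G) → D ≠ (C : Subgroup G) →
      ∃ x, x ∈ (C : Subgroup G) ⊓ M ∧ x ∉ D := by
    intro C hle hne'
    haveI := (C.2 : IsPGroup p (C : Subgroup G)).isNilpotent
    have hlt : D.subgroupOf C < ⊤ := lt_top_iff_ne_top.2 fun h =>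
      hne' (le_antisymm hle (subgroupOf_eq_top.1 h))
    obtain ⟨x, hx, hxD⟩ := SetLike.exists_of_lt
      (Group.normalizerCondition_of_isNilpotent (G := ↥(C : Subgroup G)) _ hlt)
    refine ⟨x, ⟨x.2, ?_⟩, hxD⟩
    have hx' : x ∈ (normalizer (D : Set G)).subgroupOf C := by
      rw [subgroupOf_normalizer_eq hle]; exact hx
    exact hx'
  have hneq : ∀ C : Sylow p G, (C = A ∨ C = B) → D ≠ (C : Subgroup G) := by
    rintro C (rfl | rfl) h
    · exact hAB (Sylow.ext (C.is_maximal' B.2 (h ▸ inf_le_right)).symm)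
    · exact hAB (Sylow.ext (C.is_maximal' A.2 (h ▸ inf_le_left)))
  have hext : ∀ T : Sylow p M, ∃ R : Sylow p G, (T : Subgroup M).map M.subtype ≤ R :=
    fun T => (T.2.map _).exists_le_sylow
  choose ext hext using hext
  have hinj : Function.Injective ext := by
    intro T T' h
    have key : ∀ T : Sylow p M, ((ext T : Subgroup G)).subgroupOf M = T := fun T =>
      T.is_maximal' (ext T).2.comap_subtype fun x hx => hext T (mem_map_of_mem _ hx)
    exact Sylow.ext (by rw [← key T, ← key T', h])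
  have hDT : ∀ T : Sylow p M, D ≤ (ext T : Subgroup G) := fun T x hx => by
    haveI hn : (D.subgroupOf M).Normal := normal_in_normalizer
    have hp' : IsPGroup p (D.subgroupOf M) := (A.2.to_le inf_le_left).comap_subtype
    have hle := IsPGroup.le_sylow_of_normal (N := D.subgroupOf M) hp' T
    exact hext T (mem_map_of_mem M.subtype
      (hle (show (⟨x, le_normalizer hx⟩ : M) ∈ D.subgroupOf M from hx)))
  have hcardT : p + 1 ≤ Nat.card (Sylow p M) := by
    have h1 := card_sylow_modEq_one p M
    have h2 : Nat.card (Sylow p M) ≠ 1 := by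
      intro h
      obtain ⟨hs, ⟨T⟩⟩ := Nat.card_eq_one_iff_unique.1 h
      have hsub : ∀ C : Sylow p G, D ≤ (C : Subgroup G) → D ≠ (C : Subgroup G) → ext T = C := by
        intro C hle hne'
        obtain ⟨x, hx, hxD⟩ := hbig C hle hne'
        by_contra hTC
        have hpx : IsPGroup p (((C : Subgroup G) ⊓ M).subgroupOf M) :=
          (C.2.to_le inf_le_left).comap_subtype
        obtain ⟨T', hT'⟩ := hpx.exists_le_sylow
        have hxT : x ∈ (ext T : Subgroup G) := by
          have := hT' (show (⟨x, hx.2⟩ : M) ∈ ((C : Subgroup G) ⊓ M).subgroupOf M from hx)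
          rw [Subsingleton.elim T' T] at this
          exact hext T (mem_map_of_mem M.subtype this)
        have hlt : D < (ext T : Subgroup G) ⊓ (C : Subgroup G) :=
          lt_of_le_of_ne (le_inf (hDT T) hle) fun h => hxD (h ▸ ⟨hxT, hx.1⟩)
        have := hmax ⟨(ext T, C), hTC⟩
        exact hlt.ne (eq_of_le_of_card_ge hlt.le this)
      exact hAB ((hsub A inf_le_left (hneq A (Or.inl rfl))).symm.trans
        (hsub B inf_le_right (hneq B (Or.inr rfl))))
    have h3 : 1 ≤ Nat.card (Sylow p M) := Nat.card_pos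
    have h4 := ((Nat.modEq_iff_dvd' h3).1 h1.symm)
    have h5 := Nat.le_of_dvd (by omega) h4
    omega
  -- the disjoint pieces
  let F : D ⊕ (Σ T : Sylow p M, {x : (ext T : Subgroup G) // (x : G) ∉ D}) → {g : G // ∃ k : ℕ, orderOf g = p ^ k} :=
    Sum.elim
      (fun x => ⟨x, by
        obtain ⟨k, hk⟩ := IsPGroup.iff_orderOf.1 (A.2.to_le inf_le_left) x
        exact ⟨k, by rw [Subgroup.orderOf_coe, hk]⟩⟩)
      (fun s => ⟨s.2.1, by
        obtain ⟨k, hk⟩ := IsPGroup.iff_orderOf.1 (ext s.1).2 s.2.1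
        exact ⟨k, by rw [Subgroup.orderOf_coe, hk]⟩⟩)
  have hF : Function.Injective F := by
    rintro (x | ⟨T, x, hx⟩) (y | ⟨T', y, hy⟩) h <;> have h' : (_ : G) = _ := congrArg Subtype.val h
    · exact congrArg Sum.inl (Subtype.ext h')
    · exact absurd (h' ▸ x.2 : (y : G) ∈ D) hy
    · exact absurd (h'.symm ▸ y.2 : (x : G) ∈ D) hx
    · have hTT : T = T' := by
        by_contra hTT
        have hle := hmax ⟨(ext T, ext T'), fun h => hTT (hinj h)⟩
        have heq := eq_of_le_of_card_ge (le_inf (hDT T) (hDT T')) hle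
        exact hx (heq ▸ ⟨x.2, (show (x : G) = y from h') ▸ y.2⟩)
      subst hTT
      exact congrArg Sum.inr (by
        have : x = y := Subtype.ext h'
        subst this; rfl)
  have hfib : ∀ T : Sylow p M, Nat.card {x : (ext T : Subgroup G) // (x : G) ∉ D} =
      Nat.card (P : Subgroup G) - Nat.card D := fun T => by
    haveI := Fintype.ofFinite (ext T : Subgroup G)
    rw [Nat.card_eq_fintype_card, Fintype.card_subtype_compl, ← Nat.card_eq_fintype_card,
      ← Nat.card_eq_fintype_card, Sylow.card_eq_multiplicity (ext T), ← Sylow.card_eq_multiplicity P,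
      ← Nat.card_congr (subgroupOfEquivOfLe (hDT T)).toEquiv]
    rfl
  haveI := Fintype.ofFinite (Sylow p M)
  refine le_trans ?_ (Nat.card_le_card_of_injective F hF)
  rw [Nat.card_sum, Nat.card_sigma, Finset.sum_congr rfl (fun T _ => hfib T), Finset.sum_const,
    Finset.card_univ, ← Nat.card_eq_fintype_card, smul_eq_mul]
  have hDP : p * Nat.card D ≤ Nat.card (P : Subgroup G) := by
    obtain ⟨a, ha⟩ := IsPGroup.iff_card.1 (A.2.to_le (inf_le_left : D ≤ _))
    obtain ⟨b, hb⟩ := IsPGroup.iff_card.1 A.2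
    have hPA : Nat.card (P : Subgroup G) = Nat.card (A : Subgroup G) := by
      rw [Sylow.card_eq_multiplicity, Sylow.card_eq_multiplicity]
    have hlt : Nat.card D < Nat.card (A : Subgroup G) := by
      refine lt_of_le_of_ne (card_le_of_le inf_le_left) fun h => hneq A (Or.inl rfl) ?_
      exact eq_of_le_of_card_ge inf_le_left h.ge
    rw [ha, hb, Nat.pow_lt_pow_iff_right (Fact.out (p := p.Prime)).one_lt] at hlt
    rw [hPA, ha, hb, ← pow_succ']
    exact Nat.pow_le_pow_right (Fact.out (p := p.Prime)).pos hlt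
  have h1 := Nat.mul_le_mul_right (Nat.card (P : Subgroup G) - Nat.card D) hcardT
  have h2 : Nat.card D ≤ Nat.card (P : Subgroup G) :=
    le_trans (Nat.le_mul_of_pos_left _ (Fact.out (p := p.Prime)).pos) hDP
  have h3 : (p + 1) * (Nat.card (P : Subgroup G) - Nat.card D) + (p + 1) * Nat.card D =
      p * Nat.card (P : Subgroup G) + Nat.card (P : Subgroup G) := by
    rw [← Nat.mul_add, Nat.sub_add_cancel h2]; ring
  have h4 : (p + 1) * Nat.card D = p * Nat.card D + Nat.card D := by ring
  omega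

end Cfsg.Agent.S4092
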