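import Cfsg.Statements.S4093

set_option autoImplicit false
open scoped BigOperators
open Cfsg

namespace Cfsg.Agent.S4093

open Subgroup
open scoped Pointwise

/-- Let G be a finite group with a normal subgroup N complementing a Sylow p-subgroup P (a normal p-complement). Then the number of elements of G of p-power order equals the sum over x ∈ P of the index of C_N(x) in N. -/
theorem result {G : Type*} [Group G] [Finite G] (p : ℕ) [Fact p.Prime]
    (P : Sylow p G) (N : Subgroup G) [N.Normal] (hNP : N.IsComplement' (P : Subgroup G)) :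
    Nat.card {g : G // ∃ k : ℕ, orderOf g = p ^ k} =
      ∑ᶠ x : (P : Subgroup G), Nat.card N / Nat.card ↥(N ⊓ Subgroup.centralizer ({(x : G)} : Set G)) := by
  classical
  have hcop : (Nat.card N).Coprime (Nat.card (P : Subgroup G)) := by
    obtain ⟨k, hk⟩ := IsPGroup.iff_card.1 P.2
    rw [hk]
    refine Nat.Coprime.pow_right k ((Nat.Prime.coprime_iff_not_dvd Fact.out).2 ?_).symm
    rw [← hNP.index_eq_card]
    exact P.not_dvd_index
  have hdisj : N ⊓ (P : Subgroup G) = ⊥ := inf_eq_bot_of_coprime hcop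
  let f : (Σ x : (P : Subgroup G), N ⧸ ((N ⊓ centralizer ({(x : G)} : Set G)).subgroupOf N)) →
      {g : G // ∃ k : ℕ, orderOf g = p ^ k} := fun s =>
    Quotient.liftOn' s.2 (fun n => ⟨(n : G) * (s.1 : G) * (n : G)⁻¹, by
      obtain ⟨k, hk⟩ := IsPGroup.iff_orderOf.1 P.2 s.1
      exact ⟨k, by rw [← MulAut.conj_apply, MulEquiv.orderOf_eq, Subgroup.orderOf_coe, hk]⟩⟩)
      fun a b hab => by
        rw [QuotientGroup.leftRel_apply, mem_subgroupOf] at hab
        have hc : (s.1 : G) * (((a : G))⁻¹ * b) = ((a : G))⁻¹ * b * s.1 :=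
          mem_centralizer_singleton_iff.1 hab.2 |>.symm
        refine Subtype.ext ?_
        show (a : G) * s.1 * (a : G)⁻¹ = (b : G) * s.1 * (b : G)⁻¹
        calc (a : G) * s.1 * (a : G)⁻¹ = (a : G) * (s.1 * ((a : G)⁻¹ * b)) * (b : G)⁻¹ := by group
          _ = (a : G) * ((a : G)⁻¹ * b * s.1) * (b : G)⁻¹ := by rw [hc]
          _ = _ := by group
  have hf : Function.Bijective f := by
    constructor
    · rintro ⟨x, qa⟩ ⟨y, qb⟩ h
      induction qa using QuotientGroup.induction_on with | _ a => ?_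
      induction qb using QuotientGroup.induction_on with | _ b => ?_
      have h' : (a : G) * x * (a : G)⁻¹ = (b : G) * y * (b : G)⁻¹ := congrArg Subtype.val h
      have hxy : x = y := by
        have h1 : (QuotientGroup.mk' N) ((a : G) * x * (a : G)⁻¹) =
            (QuotientGroup.mk' N) ((b : G) * y * (b : G)⁻¹) := congrArg _ h'
        simp only [map_mul, map_inv, QuotientGroup.mk'_apply, (QuotientGroup.eq_one_iff (a : G)).2 a.2,
          (QuotientGroup.eq_one_iff (b : G)).2 b.2, one_mul, inv_one, mul_one] at h1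
        have h2 : (x : G)⁻¹ * y ∈ N ⊓ (P : Subgroup G) :=
          ⟨QuotientGroup.eq.1 h1, (P : Subgroup G).mul_mem ((P : Subgroup G).inv_mem x.2) y.2⟩
        rw [hdisj, mem_bot, inv_mul_eq_one] at h2
        exact Subtype.ext h2
      subst hxy
      refine congrArg (Sigma.mk x) (QuotientGroup.eq.2 (mem_subgroupOf.2 ⟨(a⁻¹ * b).2, ?_⟩))
      refine mem_centralizer_singleton_iff.2 ?_
      show (a : G)⁻¹ * b * x = x * ((a : G)⁻¹ * b)
      calc (a : G)⁻¹ * b * x = (a : G)⁻¹ * ((b : G) * x * (b : G)⁻¹) * b := by group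
        _ = (a : G)⁻¹ * ((a : G) * x * (a : G)⁻¹) * b := by rw [h']
        _ = _ := by group
    · rintro ⟨g, k, hk⟩
      have hg : IsPGroup p (zpowers g) := IsPGroup.of_card (n := k) (by rw [Nat.card_zpowers, hk])
      obtain ⟨Q, hQ⟩ := hg.exists_le_sylow
      obtain ⟨c, hc⟩ := MulAction.exists_smul_eq G P Q
      obtain ⟨⟨n, x0⟩, hnx⟩ := hNP.2 c
      have hgQ : g ∈ (MulAut.conj c • (P : Subgroup G)) := by
        rw [← Sylow.pointwise_smul_def, ← Sylow.smul_def, hc]; exact hQ (mem_zpowers g)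
      rw [mem_pointwise_smul_iff_inv_smul_mem] at hgQ
      have hcg : c⁻¹ * g * c ∈ (P : Subgroup G) := by simpa [MulAut.smul_def] using hgQ
      have hnx' : (n : G) * x0 = c := hnx
      refine ⟨⟨⟨x0 * (c⁻¹ * g * c) * (x0 : G)⁻¹,
        (P : Subgroup G).mul_mem ((P : Subgroup G).mul_mem x0.2 hcg) ((P : Subgroup G).inv_mem x0.2)⟩,
        QuotientGroup.mk n⟩, Subtype.ext ?_⟩
      show (n : G) * ((x0 : G) * (c⁻¹ * g * c) * (x0 : G)⁻¹) * (n : G)⁻¹ = g
      rw [← hnx']; group
  haveI : Fintype (P : Subgroup G) := Fintype.ofFinite _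
  rw [← Nat.card_congr (Equiv.ofBijective f hf), Nat.card_sigma, finsum_eq_sum_of_fintype]
  refine Finset.sum_congr rfl fun x _ => ?_
  show ((N ⊓ centralizer ({(x : G)} : Set G)).subgroupOf N).index = _
  rw [← Nat.card_congr (subgroupOfEquivOfLe (inf_le_left : N ⊓ centralizer ({(x : G)} : Set G) ≤ N)).toEquiv,
    ← ((N ⊓ centralizer ({(x : G)} : Set G)).subgroupOf N).index_mul_card,
    Nat.mul_div_cancel _ Nat.card_pos]

end Cfsg.Agent.S4093
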