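import Cfsg.Statements.S4097
import Cfsg.Agent.Lib.Solv.Frobenius
import Cfsg.Agent.Lib.Coprime.Action
import Mathlib.GroupTheory.Sylow
import Mathlib.GroupTheory.Solvable

set_option autoImplicit false
open Cfsg
open scoped Pointwise

namespace Cfsg.Agent.S4097

universe u

/-- `Central X`: solvable subgroups commuting with all their solvable overgroups are central. -/
def Hyp {G : Type u} [Group G] (A : Subgroup G) : Prop :=
  Group.IsSolvable A ∧
    ∀ S : Subgroup G, A ≤ S → Group.IsSolvable S → ∀ a ∈ A, ∀ s ∈ S, a * s = s * a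

theorem solvable_comap {G Q : Type u} [Group G] [Group Q] (π : G →* Q) (hk : Group.IsSolvable π.ker)
    (S : Subgroup Q) [Group.IsSolvable S] : Group.IsSolvable (S.comap π) := by
  haveI := hk
  let f : π.ker →* S.comap π := Subgroup.inclusion (Subgroup.ker_le_comap _ _)
  let g : S.comap π →* S :=
    { toFun := fun x => ⟨π x, x.2⟩
      map_one' := by ext; simp
      map_mul' := fun x y => by ext; simp }
  refine Group.isSolvable_of_ker_le_range f g fun x hx => ?_
  exact ⟨⟨x, by simpa [g, Subtype.ext_iff] using hx⟩, rfl⟩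

theorem main : ∀ (n : ℕ) (G : Type u) [Group G] [Finite G], Nat.card G = n →
    ∀ A : Subgroup G, Hyp A → A ≤ Subgroup.center G := by
  intro n
  induction n using Nat.strong_induction_on with
  | _ n ih =>
  intro G _ _ hn A ⟨hA, hc⟩
  classical
  haveI := hA
  -- Step 1: a nontrivial normal solvable subgroup finishes the proof
  by_cases hR : ∃ R : Subgroup G, R.Normal ∧ R ≠ ⊥ ∧ Group.IsSolvable R
  · obtain ⟨R, hRn, hR1, hRs⟩ := hR
    haveI := hRn
    haveI := hRs
    let π := QuotientGroup.mk' R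
    have hker : Group.IsSolvable π.ker := by rw [QuotientGroup.ker_mk']; exact hRs
    have hlt : Nat.card (G ⧸ R) < n := by
      rw [← hn, ← Subgroup.index_eq_card, ← Subgroup.index_mul_card R]
      exact lt_mul_of_one_lt_right (Nat.pos_of_ne_zero Subgroup.index_ne_zero_of_finite)
        (Subgroup.one_lt_card_iff_ne_bot R |>.2 hR1)
    haveI : Group.IsSolvable (A.map π) :=
      solvable_of_surjective (f := π.subgroupMap A) (π.subgroupMap_surjective A)
    have hq : A.map π ≤ Subgroup.center (G ⧸ R) := by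
      refine ih _ hlt (G ⧸ R) rfl _ ⟨inferInstance, fun S hS hSs a ha s hs => ?_⟩
      haveI := hSs
      obtain ⟨a', ha', rfl⟩ := Subgroup.mem_map.1 ha
      obtain ⟨s', rfl⟩ := QuotientGroup.mk'_surjective R s
      rw [← map_mul, ← map_mul, hc (S.comap π) (Subgroup.map_le_iff_le_comap.1 hS)
        (solvable_comap π hker S) a' ha' s' hs]
    intro a ha
    rw [Subgroup.mem_center_iff]
    intro g
    haveI : IsMulCommutative (Subgroup.zpowers (π g) ⊔ A.map π : Subgroup (G ⧸ R)) :=
      Subgroup.isMulCommutative_closure (k := {π g} ∪ (A.map π : Set (G ⧸ R))) (by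
        rintro x (rfl | hx) y (rfl | hy)
        · rfl
        · exact Subgroup.mem_center_iff.1 (hq hy) _
        · exact (Subgroup.mem_center_iff.1 (hq hx) _).symm
        · exact (Subgroup.mem_center_iff.1 (hq hy) _)) |> fun h => by
      rwa [Subgroup.closure_union, Subgroup.closure_eq, ← Subgroup.zpowers_eq_closure] at h
    haveI : Group.IsSolvable (Subgroup.zpowers (π g) ⊔ A.map π : Subgroup (G ⧸ R)) :=
      Group.isSolvable_of_comm fun x y => (IsMulCommutative.is_comm.comm x y)
    exact (hc _ (Subgroup.map_le_iff_le_comap.1 le_sup_right) (solvable_comap π hker _) a ha g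
      (show π g ∈ _ from Subgroup.mem_sup_left (Subgroup.mem_zpowers _))).symm
  push Not at hR
  -- Step 2: proper overgroups of `A` centralise `A`
  set M := Subgroup.centralizer (A : Set G) with hM
  by_contra hnc
  have hMtop : M ≠ ⊤ := fun h => hnc (Subgroup.centralizer_eq_top_iff_subset.1 h)
  have hlo : ∀ H : Subgroup G, A ≤ H → H ≠ ⊤ → H ≤ M := by
    intro H hAH hH
    have hlt : Nat.card H < n := by
      rw [← hn]
      exact lt_of_le_of_ne (Subgroup.card_le_card_group H) fun h => hH (Subgroup.eq_top_of_card_eq H h)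
    haveI : Group.IsSolvable (A.subgroupOf H) :=
      solvable_of_solvable_injective (f := (Subgroup.subgroupOfEquivOfLe hAH).toMonoidHom)
        (Subgroup.subgroupOfEquivOfLe hAH).injective
    have := ih _ hlt H rfl (A.subgroupOf H) ⟨inferInstance, fun S hS hSs a ha s hs => Subtype.ext ?_⟩
    · intro h hh
      rw [hM, Subgroup.mem_centralizer_iff]
      intro a ha
      exact (congrArg Subtype.val
        (Subgroup.mem_center_iff.1 (@this ⟨a, hAH ha⟩ ha) ⟨h, hh⟩)).symm
    · haveI := hSs
      haveI : Group.IsSolvable (S.map H.subtype) :=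
        solvable_of_surjective (f := H.subtype.subgroupMap S) (H.subtype.subgroupMap_surjective S)
      exact hc (S.map H.subtype) (fun x hx => ⟨⟨x, hAH hx⟩, hS hx, rfl⟩) inferInstance
        a ha s (Subgroup.mem_map_of_mem H.subtype hs)
  have hAM : A ≤ M := fun a ha => Subgroup.mem_centralizer_iff.2 fun b hb => hc A le_rfl hA b hb a ha
  have hMne : M ≠ ⊥ := fun h => by
    have hA1 : A = ⊥ := eq_bot_iff.2 (h ▸ hAM)
    exact hnc (hA1 ▸ bot_le)
  have hnorm : ∀ (r : ℕ) [Fact r.Prime] (R : Subgroup G), IsPGroup r R → R ≠ ⊥ → R ≤ M →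
      Subgroup.normalizer (R : Set G) ≤ M := by
    intro r _ R hRp hR1 hRM
    refine hlo _ ?_ ?_
    · refine le_trans ?_ (Subgroup.centralizer_le_normalizer _)
      intro a ha
      exact Subgroup.mem_centralizer_iff.2 fun x hx =>
        (Subgroup.mem_centralizer_iff.1 (hRM hx) a ha).symm
    · intro h
      haveI := hRp.isNilpotent
      exact hR R (Subgroup.normalizer_eq_top_iff.1 h) hR1 inferInstance
  have hFr : Cfsg.IsFrobeniusComplement M := by
    refine ⟨hMne, hMtop, fun g hg => ?_⟩
    by_contra hD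
    set D := M ⊓ MulAut.conj g • M with hDdef
    obtain ⟨r, hr, hrd⟩ := Nat.exists_prime_and_dvd (n := Nat.card D)
      (fun h => hD (Subgroup.card_eq_one.1 h))
    haveI : Fact r.Prime := ⟨hr⟩
    obtain ⟨R₀⟩ : Nonempty (Sylow r D) := inferInstance
    set R : Subgroup G := (R₀ : Subgroup D).map D.subtype with hRdef
    have hRp : IsPGroup r R := R₀.isPGroup'.map _
    have hRD : R ≤ D := Subgroup.map_subtype_le _
    have hR1 : R ≠ ⊥ := fun h => R₀.ne_bot_of_dvd_card hrd
      ((Subgroup.map_eq_bot_iff_of_injective _ D.subtype_injective).1 h)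
    have hg' : ∀ x : G, x ∈ MulAut.conj g • M ↔ g⁻¹ * x * g ∈ M := fun x => by
      rw [Subgroup.mem_pointwise_smul_iff_inv_smul_mem, MulAut.smul_def, MulAut.conj_inv_apply]
    set R' : Subgroup G := R.map (MulAut.conj g⁻¹).toMonoidHom with hR'
    have hR'M : R' ≤ M := by
      rintro _ ⟨x, hx, rfl⟩
      have h := (hg' x).1 (hRD hx).2
      change g⁻¹ * x * g⁻¹⁻¹ ∈ M
      rwa [inv_inv]
    have hN' := hnorm r R' (hRp.map _) (fun h => hR1
      ((Subgroup.map_eq_bot_iff_of_injective _ (MulAut.conj g⁻¹).injective).1 h)) hR'M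
    have hN := hnorm r R hRp hR1 (hRD.trans inf_le_left)
    have hND : Subgroup.normalizer (R : Set G) ≤ D := by
      refine le_inf hN fun x hx => (hg' x).2 ?_
      apply hN'
      have hmem : (MulAut.conj g⁻¹) x ∈
          (Subgroup.normalizer (R : Set G)).map (MulAut.conj g⁻¹).toMonoidHom :=
        Subgroup.mem_map_of_mem _ hx
      rw [Subgroup.map_equiv_normalizer_eq] at hmem
      simpa [hR'] using hmem
    -- R is a Sylow subgroup of G
    obtain ⟨P, hP⟩ := hRp.exists_le_sylow
    have hRP : R = P := by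
      by_contra hne
      haveI := P.isPGroup'.isNilpotent
      have hlt : R.subgroupOf P < ⊤ := lt_top_iff_ne_top.2 fun h =>
        hne (le_antisymm hP (Subgroup.subgroupOf_eq_top.1 h))
      have hnc' := normalizerCondition_of_isNilpotent (G := P) _ hlt
      obtain ⟨x, hx, hx'⟩ := SetLike.exists_of_lt hnc'
      rw [← Subgroup.subgroupOf_normalizer_eq hP] at hx
      -- the strictly larger `r`-subgroup inside `D` contradicts maximality
      set E : Subgroup G := Subgroup.normalizer (R : Set G) ⊓ P with hE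
      have hEp : IsPGroup r (E.subgroupOf D) :=
        (P.isPGroup'.to_le inf_le_right).comap_subtype
      have hle : (R₀ : Subgroup D) ≤ E.subgroupOf D := fun y hy => by
        rw [Subgroup.mem_subgroupOf]
        exact ⟨Subgroup.le_normalizer ⟨y, hy, rfl⟩, hP ⟨y, hy, rfl⟩⟩
      have heq := R₀.is_maximal' hEp hle
      have hxE : (⟨(x : G), hND hx⟩ : D) ∈ E.subgroupOf D := ⟨hx, x.2⟩
      rw [heq] at hxE
      exact hx' ⟨_, hxE, rfl⟩
    -- conjugacy inside M
    have hcard : Nat.card R' = Nat.card R := Subgroup.card_map_of_injective (MulAut.conj g⁻¹).injective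
    let P₁ : Sylow r M := P.subtype (hRP ▸ hRD.trans inf_le_left)
    let P' : Sylow r G := g⁻¹ • P
    have hP'R : (P' : Subgroup G) = R' := by
      rw [hR', hRP]; rfl
    let P₂ : Sylow r M := P'.subtype (hP'R ▸ hR'M)
    obtain ⟨m, hm⟩ := MulAction.exists_smul_eq M P₁ P₂
    have hm' : (m : G) • P = g⁻¹ • P := by
      apply Sylow.ext
      have h1 := congrArg (fun Q : Sylow r M => (Q : Subgroup M).map M.subtype) hm
      simp only [Sylow.smul_subtype, P₁, P₂] at h1
      rw [Sylow.coe_subtype, Sylow.coe_subtype, Subgroup.map_subgroupOf_eq_of_le,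
        Subgroup.map_subgroupOf_eq_of_le] at h1
      · exact h1
      · exact hP'R ▸ hR'M
      · rintro _ ⟨y, hy, rfl⟩
        exact M.mul_mem (M.mul_mem m.2 ((hRP ▸ hRD.trans inf_le_left : (P : Subgroup G) ≤ M) hy))
          (M.inv_mem m.2)
    have hgm : g * m ∈ Subgroup.normalizer (R : Set G) := by
      rw [hRP]; refine Sylow.smul_eq_iff_mem_normalizer.1 ?_; rw [mul_smul, hm', smul_inv_smul]
    exact hg ((M.mul_mem_cancel_right m.2).1 (hN hgm))
  -- Step 3: the Frobenius kernel has an `A`-invariant Sylow subgroup, centralised by `A`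
  obtain ⟨K, -, hKn, hKM⟩ := Cfsg.Lib.Solv.frobenius_theorem hFr
  haveI := hKn
  have hKi : Nat.card K = M.index := hKM.index_eq_card.symm
  have hcop : (Nat.card A).Coprime (Nat.card K) := by
    rw [hKi]
    exact (Cfsg.Lib.Solv.frob_coprime hFr).coprime_dvd_left (Subgroup.card_dvd_of_le hAM)
  have hK1 : Nat.card K ≠ 1 := by rw [hKi]; exact fun h => hMtop (Subgroup.index_eq_one.1 h)
  obtain ⟨r, hr, hrK⟩ := Nat.exists_prime_and_dvd hK1
  haveI : Fact r.Prime := ⟨hr⟩
  have hAK : A ≤ Subgroup.normalizer (K : Set G) := by rw [K.normalizer_eq_top]; exact le_top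
  obtain ⟨Q, hQ⟩ := Cfsg.Lib.Coprime.exists_invariant_sylow hAK hcop (Or.inl hA) r
  set Q' : Subgroup G := (Q : Subgroup K).map K.subtype with hQ'
  haveI := (Q.isPGroup'.map K.subtype).isNilpotent
  haveI : Group.IsSolvable Q' := inferInstance
  have hS : Group.IsSolvable (A ⊔ Q' : Subgroup G) := by
    haveI : (Q'.subgroupOf (A ⊔ Q')).Normal :=
      Subgroup.normal_subgroupOf_of_le_normalizer (sup_le hQ Subgroup.le_normalizer)
    let π := QuotientGroup.mk' (Q'.subgroupOf (A ⊔ Q'))
    haveI : Group.IsSolvable (Q'.subgroupOf (A ⊔ Q')) :=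
      solvable_of_surjective (f := (Subgroup.subgroupOfEquivOfLe (le_sup_right : Q' ≤ A ⊔ Q')).symm.toMonoidHom)
        (Subgroup.subgroupOfEquivOfLe (le_sup_right : Q' ≤ A ⊔ Q')).symm.surjective
    have hsurj : Function.Surjective (π.comp (Subgroup.inclusion (le_sup_left : A ≤ A ⊔ Q'))) := by
      intro y
      obtain ⟨⟨z, hz⟩, rfl⟩ := QuotientGroup.mk'_surjective _ y
      obtain ⟨a, ha, q, hq, rfl⟩ := (Cfsg.Lib.Core.mem_sup_of_le_normalizer hQ).1 hz
      refine ⟨⟨a, ha⟩, (QuotientGroup.mk'_eq_mk' _).2 ⟨⟨q, Subgroup.mem_sup_right hq⟩, hq, ?_⟩⟩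
      rfl
    haveI : Group.IsSolvable ((A ⊔ Q' : Subgroup G) ⧸ Q'.subgroupOf (A ⊔ Q')) :=
      solvable_of_surjective hsurj
    exact Group.isSolvable_of_ker_le_range (Q'.subgroupOf (A ⊔ Q')).subtype π (by simp [π])
  have hQM : Q' ≤ M := fun x hx => Subgroup.mem_centralizer_iff.2 fun a ha =>
    hc _ le_sup_left hS a ha x (Subgroup.mem_sup_right hx)
  have hbot : Q' = ⊥ := eq_bot_iff.2 (fun x hx =>
    hKM.disjoint.le_bot ⟨Subgroup.map_subtype_le _ hx, hQM hx⟩)
  exact Q.ne_bot_of_dvd_card hrK ((Subgroup.map_eq_bot_iff_of_injective _ K.subtype_injective).1 hbot)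


/-- Let A be a solvable subgroup of a finite group G such that A lies in the centre of every solvable subgroup of G containing A. Then A lies in the centre of G. -/
theorem result {G : Type*} [Group G] [Finite G]
    (A : Subgroup G) (hA : Group.IsSolvable A)
    (hc : ∀ S : Subgroup G, A ≤ S → Group.IsSolvable S → ∀ a ∈ A, ∀ s ∈ S, a * s = s * a) : A ≤ Subgroup.center G := by
  exact main _ G rfl A ⟨hA, hc⟩

end Cfsg.Agent.S4097
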