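import Cfsg.Statements.S4106
import Mathlib.GroupTheory.Sylow

set_option autoImplicit false
open Cfsg

namespace Cfsg.Agent.S4106

open Subgroup

universe u'

/-- The classes of elements all whose prime divisors lie in `s`. -/
abbrev PClasses (s : Finset ℕ) (G : Type u') [Group G] : Type u' :=
  {C : ConjClasses G // ∃ g : G, ConjClasses.mk g = C ∧ ∀ q : ℕ, q.Prime → q ∣ orderOf g → q ∈ s}

theorem bound_aux (s : Finset ℕ) (hs : ∀ p ∈ s, p.Prime) : ∀ (G : Type u') [Group G] [Finite G],
    Nat.card (PClasses s G) ≤ ∏ p ∈ s, p ^ (Nat.card G).factorization p := by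
  classical
  induction s using Finset.induction_on with
  | empty =>
    intro G _ _
    rw [Finset.prod_empty]
    haveI : Subsingleton (PClasses ∅ G) := ⟨by
      rintro ⟨C, g, rfl, hg⟩ ⟨D, k, rfl, hk⟩
      have h1 : g = 1 := by
        by_contra h
        obtain ⟨q, hq, hqd⟩ := Nat.exists_prime_and_dvd (mt orderOf_eq_one_iff.1 h)
        exact absurd (hg q hq hqd) (by simp)
      have h2 : k = 1 := by
        by_contra h
        obtain ⟨q, hq, hqd⟩ := Nat.exists_prime_and_dvd (mt orderOf_eq_one_iff.1 h)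
        exact absurd (hk q hq hqd) (by simp)
      exact Subtype.ext (by show ConjClasses.mk g = ConjClasses.mk k; rw [h1, h2])⟩
    exact Finite.card_le_one_iff_subsingleton.2 this
  | insert p s hps ih =>
    intro G _ _
    have hp : p.Prime := hs p (Finset.mem_insert_self _ _)
    haveI := Fact.mk hp
    obtain ⟨P⟩ := (inferInstance : Nonempty (Sylow p G))
    let D := Σ x : (P : Subgroup G), PClasses s (centralizer ({(x : G)} : Set G))
    haveI := Fintype.ofFinite (P : Subgroup G)
    have hD : Nat.card D ≤ p ^ (Nat.card G).factorization p * ∏ q ∈ s, q ^ (Nat.card G).factorization q := by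
      rw [Nat.card_sigma]
      refine le_trans (Finset.sum_le_card_nsmul _ _ (∏ q ∈ s, q ^ (Nat.card G).factorization q) fun x _ => ?_) ?_
      · refine le_trans (ih (fun q hq => hs q (Finset.mem_insert_of_mem hq)) _) ?_
        refine Finset.prod_le_prod' fun q hq => Nat.pow_le_pow_right (hs q (Finset.mem_insert_of_mem hq)).pos ?_
        exact (Nat.factorization_le_iff_dvd Nat.card_pos.ne' Nat.card_pos.ne').2
          (Subgroup.card_subgroup_dvd_card _) q
      · rw [Finset.card_univ, ← Nat.card_eq_fintype_card, P.card_eq_multiplicity, smul_eq_mul]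
    rw [Finset.prod_insert hps]
    refine le_trans ?_ hD
    refine Nat.card_le_card_of_surjective (fun d : D => (⟨ConjClasses.mk ((d.1 : G) * ((d.2.2.choose : centralizer ({(d.1 : G)} : Set G)) : G)), _, rfl, ?_⟩ : PClasses (insert p s) G)) ?_
    · intro q hq hqd
      have hcomm : Commute (d.1 : G) ((d.2.2.choose : centralizer ({(d.1 : G)} : Set G)) : G) :=
        mem_centralizer_iff.1 (d.2.2.choose : centralizer ({(d.1 : G)} : Set G)).2 _ rfl
      rcases hq.dvd_mul.1 (hqd.trans hcomm.orderOf_mul_dvd_mul_orderOf) with h | h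
      · obtain ⟨k, hk⟩ := IsPGroup.iff_orderOf.1 P.2 d.1
        rw [← orderOf_coe] at hk
        rw [hk] at h
        rw [(Nat.prime_dvd_prime_iff_eq hq hp).1 (hq.dvd_of_dvd_pow h)]
        exact Finset.mem_insert_self _ _
      · rw [orderOf_coe] at h
        exact Finset.mem_insert_of_mem (d.2.2.choose_spec.2 q hq h)
    · rintro ⟨C, g, rfl, hg⟩
      obtain ⟨k, c, hc, hgc⟩ := Nat.exists_eq_pow_mul_and_not_dvd (orderOf_pos g).ne' p hp.ne_one
      have hcop : (c : ℕ).Coprime (p ^ k) := ((hp.coprime_iff_not_dvd.2 hc).symm).pow_right k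
      set u := (g ^ c) ^ (Nat.gcdA c (p ^ k)) with hu
      set v := (g ^ (p ^ k)) ^ (Nat.gcdB c (p ^ k)) with hv
      have huv : u * v = g := by
        rw [hu, hv, ← zpow_natCast g c, ← zpow_natCast g (p ^ k), ← zpow_mul, ← zpow_mul, ← zpow_add,
          ← Nat.gcd_eq_gcd_ab, hcop, Nat.cast_one, zpow_one]
      have hup : u ^ p ^ k = 1 := by
        rw [hu, ← zpow_natCast, zpow_comm, zpow_natCast, ← pow_mul, mul_comm c, ← hgc, pow_orderOf_eq_one, one_zpow]
      have hvc : v ^ c = 1 := by
        rw [hv, ← zpow_natCast, zpow_comm, zpow_natCast, ← pow_mul, ← hgc, pow_orderOf_eq_one, one_zpow]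
      have hz : IsPGroup p (zpowers u) := by
        obtain ⟨i, -, hi⟩ := (Nat.dvd_prime_pow hp).1 (orderOf_dvd_of_pow_eq_one hup)
        exact IsPGroup.of_card (n := i) (by rw [Nat.card_zpowers, hi])
      obtain ⟨S, hS⟩ := hz.exists_le_sylow
      obtain ⟨a, ha⟩ := MulAction.exists_smul_eq G S P
      have hx : a * u * a⁻¹ ∈ (P : Subgroup G) := by
        rw [← ha, Sylow.coe_subgroup_smul, Subgroup.mem_smul_pointwise_iff_exists]
        exact ⟨u, hS (mem_zpowers u), rfl⟩
      have hcomm : a * v * a⁻¹ ∈ centralizer ({a * u * a⁻¹} : Set G) := by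
        rw [mem_centralizer_singleton_iff]
        have h1 : Commute u v := ((Commute.refl g).pow_pow c (p ^ k)).zpow_zpow _ _
        exact ((h1.map (MulAut.conj a).toMonoidHom).symm).eq
      have hord : ∀ q : ℕ, q.Prime → q ∣ orderOf (⟨_, hcomm⟩ : centralizer ({a * u * a⁻¹} : Set G)) → q ∈ s := by
        intro q hq hqd
        have hqd' : q ∣ orderOf v := by
          rw [← orderOf_coe] at hqd
          have h2 : orderOf (a * v * a⁻¹) = orderOf v := (MulAut.conj a).orderOf_eq v
          rwa [h2] at hqd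
        have hqc : q ∣ c := hqd'.trans (orderOf_dvd_of_pow_eq_one hvc)
        have hqne : q ≠ p := fun h => hc (h ▸ hqc)
        exact (Finset.mem_insert.1 (hg q hq (hgc ▸ hqc.mul_left _))).resolve_left hqne
      let dd : PClasses s (centralizer ({((⟨_, hx⟩ : (P : Subgroup G)) : G)} : Set G)) :=
        ⟨ConjClasses.mk ⟨_, hcomm⟩, _, rfl, hord⟩
      refine ⟨⟨⟨_, hx⟩, dd⟩, Subtype.ext ?_⟩
      show ConjClasses.mk (_ * _) = ConjClasses.mk g
      rw [ConjClasses.mk_eq_mk_iff_isConj]
      obtain ⟨b, hb⟩ := isConj_iff.1 (ConjClasses.mk_eq_mk_iff_isConj.1 dd.2.choose_spec.1)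
      refine isConj_iff.2 ⟨a⁻¹ * b, ?_⟩
      have hb' : (b : G) * (dd.2.choose : centralizer ({a * u * a⁻¹} : Set G)) * (b : G)⁻¹ = a * v * a⁻¹ :=
        congrArg Subtype.val hb
      have hbx : (b : G) * (a * u * a⁻¹) = a * u * a⁻¹ * b := mem_centralizer_singleton_iff.1 b.2
      conv_rhs => rw [← huv]
      calc a⁻¹ * (b : G) * (a * u * a⁻¹ * (dd.2.choose : centralizer ({a * u * a⁻¹} : Set G))) * (a⁻¹ * (b : G))⁻¹
          = a⁻¹ * ((b : G) * (a * u * a⁻¹) * (b : G)⁻¹) *
            ((b : G) * (dd.2.choose : centralizer ({a * u * a⁻¹} : Set G)) * (b : G)⁻¹) * a := by group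
        _ = a⁻¹ * (a * u * a⁻¹) * (a * v * a⁻¹) * a := by rw [hbx, mul_inv_cancel_right, hb']
        _ = u * v := by group


/-- Let G be a finite group, π a set of primes and m the π-part of the order of G. Then the number of conjugacy classes of G consisting of π-elements (elements whose order is divisible only by primes in π) is at most m. -/
theorem result {G : Type*} [Group G] [Finite G]
    (π : Set ℕ) (hπ : ∀ q ∈ π, q.Prime)
    (m : ℕ) (hm : m ∣ Nat.card G) (hmπ : ∀ q : ℕ, q.Prime → q ∣ m → q ∈ π)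
    (hm' : ∀ q ∈ π, ¬ q ∣ Nat.card G / m) :
    Nat.card {C : ConjClasses G // ∀ q : ℕ, q.Prime → (∃ g : G, ConjClasses.mk g = C ∧ q ∣ orderOf g) → q ∈ π} ≤ m := by
  classical
  have hmpos : m ≠ 0 := by rintro rfl; exact Nat.card_pos.ne' (zero_dvd_iff.1 hm)
  have hprod : ∏ q ∈ m.primeFactors, q ^ (Nat.card G).factorization q = m := by
    conv_rhs => rw [← Nat.factorization_prod_pow_eq_self hmpos]
    rw [Nat.prod_factorization_eq_prod_primeFactors]
    refine Finset.prod_congr rfl fun q hq => ?_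
    obtain ⟨hqp, hqm, -⟩ := Nat.mem_primeFactors.1 hq
    have h0 : (Nat.card G / m).factorization q = 0 :=
      Nat.factorization_eq_zero_of_not_dvd (hm' q (hmπ q hqp hqm))
    rw [Nat.factorization_div hm, Finsupp.tsub_apply] at h0
    have h1 := (Nat.factorization_le_iff_dvd hmpos Nat.card_pos.ne').2 hm q
    congr 1
    omega
  refine le_trans ?_ (hprod ▸ bound_aux m.primeFactors (fun p hp => (Nat.mem_primeFactors.1 hp).1) G)
  refine Nat.card_le_card_of_injective (fun C => ⟨C.1, ?_⟩) fun C D h => Subtype.ext (congrArg Subtype.val h :)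
  obtain ⟨g, hg⟩ := ConjClasses.mk_surjective C.1
  refine ⟨g, hg, fun q hq hqd => ?_⟩
  have hqπ : q ∈ π := C.2 q hq ⟨g, hg, hqd⟩
  have h1 : q ∣ m * (Nat.card G / m) := by
    rw [Nat.mul_div_cancel' hm]
    exact hqd.trans (orderOf_dvd_natCard g)
  exact Nat.mem_primeFactors.2 ⟨hq, (hq.dvd_mul.1 h1).resolve_right (hm' q hqπ), hmpos⟩

end Cfsg.Agent.S4106
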