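import Cfsg.Statements.S4107
import Cfsg.Agent.Lib.Core.Fitting
import Cfsg.Agent.Lib.Core.Cores

set_option autoImplicit false
open Cfsg

namespace Cfsg.Agent.S4107

open Subgroup

/-- If a `p`-element outside `N` lies in a normal `p`-subgroup then `N` is a `p`-group. -/
theorem isPGroup_of_equal_orders {G : Type*} [Group G] [Finite G] (N : Subgroup G) [N.Normal]
    (heq : ∀ x : G, x ∉ N → ∀ n ∈ N, orderOf (x * n) = orderOf x) {p : ℕ} [Fact p.Prime]
    (P : Subgroup G) [P.Normal] (hP : IsPGroup p P) (hPN : ¬ P ≤ N) : IsPGroup p N := by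
  obtain ⟨x, hxP, hxN⟩ := SetLike.not_le_iff_exists.1 hPN
  obtain ⟨k, hk⟩ := IsPGroup.iff_orderOf.1 hP ⟨x, hxP⟩
  rw [Subgroup.orderOf_mk] at hk
  rintro ⟨n, hn⟩
  have h1 : (x * n) ^ p ^ k = 1 := by
    rw [← hk, ← heq x hxN n hn]
    exact pow_orderOf_eq_one _
  have h2 : n ^ p ^ k ∈ P := by
    have h3 : QuotientGroup.mk' P (x * n) = QuotientGroup.mk' P n := by
      rw [map_mul, show QuotientGroup.mk' P x = 1 from (QuotientGroup.eq_one_iff x).2 hxP, one_mul]
    refine (QuotientGroup.eq_one_iff _).1 ?_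
    show QuotientGroup.mk' P (n ^ p ^ k) = 1
    rw [map_pow, ← h3, ← map_pow, h1, map_one]
  obtain ⟨j, hj⟩ := hP ⟨_, h2⟩
  refine ⟨k + j, Subtype.ext ?_⟩
  show n ^ p ^ (k + j) = 1
  rw [pow_add, pow_mul]
  exact congrArg Subtype.val hj


/-- Let G be a finite group and N a proper non-trivial normal subgroup such that for every x outside N all elements of the coset xN have the same order as x. Then N ≤ F(G) or F(G) ≤ N, where F(G) is the Fitting subgroup; and if N is properly contained in F(G) then F(G) has prime-power order. -/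
theorem result {G : Type*} [Group G] [Finite G] (N : Subgroup G) [N.Normal] (hN1 : N ≠ ⊥) (hN2 : N ≠ ⊤)
    (heq : ∀ x : G, x ∉ N → ∀ n ∈ N, orderOf (x * n) = orderOf x) :
    (N ≤ Cfsg.fittingSubgroup G ∨ Cfsg.fittingSubgroup G ≤ N) ∧
    (N < Cfsg.fittingSubgroup G → IsPrimePow (Nat.card (Cfsg.fittingSubgroup G))) := by
  classical
  have key : ¬ Cfsg.fittingSubgroup G ≤ N →
      ∃ p : ℕ, p.Prime ∧ IsPGroup p N ∧ ¬ Cfsg.pCore p G ≤ N := by
    intro h
    rw [Cfsg.Lib.Core.fittingSubgroup_eq_iSup_pCore, iSup_le_iff] at h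
    push Not at h
    obtain ⟨p, hp⟩ := h
    haveI := Fact.mk p.2
    exact ⟨p, p.2, isPGroup_of_equal_orders N heq _ (Cfsg.Lib.Core.pCore_isPGroup _ G) hp, hp⟩
  refine ⟨?_, fun hlt => ?_⟩
  · by_cases h : Cfsg.fittingSubgroup G ≤ N
    · exact Or.inr h
    · obtain ⟨p, hp, hN, -⟩ := key h
      haveI := Fact.mk hp
      exact Or.inl ((Cfsg.Lib.Core.le_pCore hN).trans (Cfsg.Lib.Core.pCore_le_fittingSubgroup p G))
  · obtain ⟨p, hp, hN, hpn⟩ := key hlt.not_ge
    haveI := Fact.mk hp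
    have hF : IsPGroup p (Cfsg.fittingSubgroup G) := by
      refine (Cfsg.Lib.Core.pCore_isPGroup p G).to_le ?_
      rw [Cfsg.Lib.Core.fittingSubgroup_eq_iSup_pCore]
      refine iSup_le fun q => ?_
      haveI := Fact.mk q.2
      by_cases hqp : (q : ℕ) = p
      · rw [hqp]
      · by_cases hq : Cfsg.pCore (q : ℕ) G ≤ N
        · exact (le_bot_iff.2 (disjoint_self.1 ((IsPGroup.disjoint_of_ne (q : ℕ) p hqp _ _
            (Cfsg.Lib.Core.pCore_isPGroup _ G) hN).mono_right hq))).trans bot_le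
        · exfalso
          exact hN1 (disjoint_self.1 (IsPGroup.disjoint_of_ne (q : ℕ) p hqp _ _
            (isPGroup_of_equal_orders N heq _ (Cfsg.Lib.Core.pCore_isPGroup _ G) hq) hN))
    obtain ⟨k, hk⟩ := IsPGroup.iff_card.1 hF
    have hne : k ≠ 0 := by
      rintro rfl
      rw [pow_zero] at hk
      exact hN1 (eq_bot_iff.2 (hlt.le.trans (card_eq_one.1 hk).le))
    exact ⟨p, k, hp.prime, Nat.pos_of_ne_zero hne, hk.symm⟩

end Cfsg.Agent.S4107
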