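import Cfsg.Statements.S4108
import Cfsg.Agent.Lib.Solv.FrobeniusBasic
import Cfsg.Agent.Lib.Solv.Frobenius

set_option autoImplicit false
open Cfsg

namespace Cfsg.Agent.S4108

open Subgroup


/-- Let G be a finite group, p a prime and N a proper non-trivial normal p-subgroup such that for every x outside N all elements of the coset xN have the same order as x. Then every non-trivial subgroup H of G of order prime to p acts fixed-point-freely on N: NH is a Frobenius group with complement H and kernel N. -/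
theorem result {G : Type*} [Group G] [Finite G] (N : Subgroup G) [N.Normal] (hN1 : N ≠ ⊥) (hN2 : N ≠ ⊤)
    (heq : ∀ x : G, x ∉ N → ∀ n ∈ N, orderOf (x * n) = orderOf x)
    (p : ℕ) [Fact p.Prime] (hNp : IsPGroup p N) :
    ∀ H : Subgroup G, H ≠ ⊥ → (Nat.card H).Coprime p →
      Cfsg.IsFrobeniusComplement (H.subgroupOf (N ⊔ H)) ∧ Cfsg.frobeniusKernel (H.subgroupOf (N ⊔ H)) = (N.subgroupOf (N ⊔ H) : Set ↥(N ⊔ H)) := by
  classical
  intro H hH1 hco
  have hcop : (Nat.card N).Coprime (Nat.card H) := by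
    obtain ⟨k, hk⟩ := IsPGroup.iff_card.1 hNp
    rw [hk]
    exact (hco.pow_right k).symm
  set L := N ⊔ H
  set N' := N.subgroupOf L
  set H' := H.subgroupOf L
  have hNc : Nat.card N' = Nat.card N := Nat.card_congr (subgroupOfEquivOfLe le_sup_left).toEquiv
  have hHc : Nat.card H' = Nat.card H := Nat.card_congr (subgroupOfEquivOfLe le_sup_right).toEquiv
  have hd : Disjoint N' H' := by
    rw [disjoint_iff]
    exact inf_eq_bot_of_coprime (by rw [hNc, hHc]; exact hcop)
  haveI : N'.Normal := inferInstance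
  have hsup : N' ⊔ H' = ⊤ := by
    rw [← subgroupOf_sup le_sup_left le_sup_right, subgroupOf_self]
  have hc : N'.IsComplement' H' := isComplement'_of_disjoint_and_mul_eq_univ hd
    (by rw [← normal_mul, hsup]; rfl)
  have hN'0 : N' ≠ ⊥ := fun h => hN1 (card_eq_one.1 (by rw [← hNc, h, card_bot]))
  have hH'0 : H' ≠ ⊥ := fun h => hH1 (card_eq_one.1 (by rw [← hHc, h, card_bot]))
  have hfc : Cfsg.IsFrobeniusComplement H' := by
    refine Cfsg.Lib.Solv.isFrobeniusComplement_of_fpf hc hN'0 hH'0 ?_
    intro h hh hh1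
    rw [eq_bot_iff]
    rintro n ⟨hn, hnc⟩
    have hcomm : Commute (h : G) (n : G) := (congrArg Subtype.val (mem_centralizer_singleton_iff.1 hnc)).symm
    have hhN : (h : G) ∉ N := fun h' => hh1 (Subgroup.disjoint_def.1 hd h' hh)
    have ho : (orderOf (h : G)).Coprime (orderOf (n : G)) :=
      (hcop.symm.coprime_dvd_left (Subgroup.orderOf_dvd_natCard H hh)).coprime_dvd_right
        (Subgroup.orderOf_dvd_natCard N hn)
    have h1 := heq h hhN n hn
    rw [hcomm.orderOf_mul_eq_mul_orderOf_of_coprime ho, Nat.mul_eq_left (orderOf_pos _).ne',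
      orderOf_eq_one_iff] at h1
    exact mem_bot.2 (Subtype.ext h1)
  refine ⟨hfc, ?_⟩
  obtain ⟨K, hK, hKn, hKc⟩ := Cfsg.Lib.Solv.frobenius_theorem hfc
  haveI := hKn
  have hKcard : Nat.card K = Nat.card N' := by
    refine Nat.eq_of_mul_eq_mul_right (Nat.card_pos (α := H')) ?_
    rw [hKc.card_mul, hc.card_mul]
  have hle : N' ≤ K := by
    intro n hn
    have h1 : n ^ K.index ∈ K := pow_index_mem K n
    have hidx : K.index = Nat.card H' := hKc.symm.index_eq_card
    have ho : (orderOf n).Coprime K.index := by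
      rw [hidx, hHc]
      exact hcop.coprime_dvd_left (hNc ▸ Subgroup.orderOf_dvd_natCard N' hn)
    obtain ⟨m, hm⟩ := exists_pow_eq_self_of_coprime ho.symm
    rw [← hm]
    exact pow_mem h1 m
  rw [← hK, eq_of_le_of_card_ge hle hKcard.le]

end Cfsg.Agent.S4108
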