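import Cfsg.Statements.S4112
import Cfsg.Agent.Lib.PGroup.Basic

set_option autoImplicit false
set_option linter.style.haveILetI false
open Cfsg

namespace Cfsg.Agent.S4112

/-- Let G be a finite group and M ≤ N non-trivial proper normal subgroups such that for every g outside N the conjugacy class of g is a union of cosets of M (equivalently gm is conjugate to g for every m ∈ M). Then (1) and (2) below are equivalent, and they imply (3): (1) every g outside N acts fixed-point-freely on M, that is C_G(x) ≤ N for every x ∈ M, x ≠ 1; (2) the index of N in G is coprime to the order of M; (3) there is a subgroup H of G with HN = G and H ∩ M = 1. -/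
theorem result {G : Type*} [Group G] [Finite G] (N M : Subgroup G) [N.Normal] [M.Normal] (hMN : M ≤ N) (hM1 : M ≠ ⊥) (hN2 : N ≠ ⊤)
    (hcam : ∀ g : G, g ∉ N → ∀ m ∈ M, ∃ x : G, x * g * x⁻¹ = g * m) :
    ((∀ x ∈ M, x ≠ 1 → Subgroup.centralizer ({x} : Set G) ≤ N) ↔ N.index.Coprime (Nat.card M)) ∧
    ((∀ x ∈ M, x ≠ 1 → Subgroup.centralizer ({x} : Set G) ≤ N) → ∃ H : Subgroup G, H ⊔ N = ⊤ ∧ H ⊓ M = ⊥) := by
  classical
  have h12 : (∀ x ∈ M, x ≠ 1 → Subgroup.centralizer ({x} : Set G) ≤ N) → N.index.Coprime (Nat.card M) := by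
    intro h1
    by_contra hc
    obtain ⟨r, hr, hri, hrm⟩ := Nat.Prime.not_coprime_iff_dvd.1 hc
    haveI : Fact r.Prime := ⟨hr⟩
    obtain ⟨R⟩ : Nonempty (Sylow r G) := inferInstance
    obtain ⟨x₀, hx₀⟩ := exists_prime_orderOf_dvd_card' (G := M) r hrm
    obtain ⟨R', hR'⟩ := (IsPGroup.of_card (p := r) (n := 1) (by
      rw [Nat.card_zpowers, Subgroup.orderOf_coe, hx₀, pow_one]) : IsPGroup r (Subgroup.zpowers (x₀ : G))).exists_le_sylow
    have hne : M.subgroupOf (R' : Subgroup G) ≠ ⊥ := fun hb => by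
      have : (⟨x₀, hR' (Subgroup.mem_zpowers _)⟩ : (R' : Subgroup G)) ∈ M.subgroupOf R' := x₀.2
      rw [hb, Subgroup.mem_bot] at this
      have h3 : (x₀ : G) = 1 := congrArg (Subtype.val : ↥(R' : Subgroup G) → G) this
      have h2 : x₀ = 1 := Subtype.ext h3
      rw [h2, orderOf_one] at hx₀
      exact hr.one_lt.ne hx₀
    obtain ⟨z, hzM, hzc, hzo⟩ := Cfsg.Lib.PGroup.exists_mem_center_orderOf_eq R'.2 hne
    have hle : (R' : Subgroup G) ≤ N := fun g hg => h1 z hzM
      (fun h => by
        have h2 : z = 1 := Subtype.ext h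
        rw [h2, orderOf_one] at hzo
        exact hr.one_lt.ne hzo)
      (Subgroup.mem_centralizer_singleton_iff.2 (congrArg Subtype.val (Subgroup.mem_center_iff.1 hzc ⟨g, hg⟩)))
    exact R'.not_dvd_index (hri.trans (Subgroup.index_dvd_of_le hle))
  have h21 : N.index.Coprime (Nat.card M) → ∀ x ∈ M, x ≠ 1 → Subgroup.centralizer ({x} : Set G) ≤ N := by
    intro h2 x hxM hx1 g hg
    by_contra hgN
    -- a power of `g` outside `N` of order prime to that of a power of `x`
    obtain ⟨s, hs, hsd⟩ := Nat.exists_prime_and_dvd (mt orderOf_eq_one_iff.1 hx1)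
    have hsM : s ∣ Nat.card M := hsd.trans (Subgroup.orderOf_dvd_natCard M hxM)
    set x' := x ^ (orderOf x / s) with hx'
    have hx'o : orderOf x' = s := orderOf_pow_orderOf_div (orderOf_pos x).ne' hsd
    set e := s ^ (orderOf g).factorization s with he
    set g' := g ^ e with hg'
    have hg'N : g' ∉ N := by
      intro h
      have h3 : (g : G ⧸ N) ^ e = 1 := (QuotientGroup.eq_one_iff _).2 h
      have h4 : orderOf (g : G ⧸ N) ∣ N.index := by rw [Subgroup.index_eq_card]; exact orderOf_dvd_natCard _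
      have h5 : orderOf (g : G ⧸ N) = 1 := Nat.eq_one_of_dvd_coprimes
        ((Nat.Coprime.coprime_dvd_right hsM h2).pow_right _) h4 (orderOf_dvd_of_pow_eq_one h3)
      exact hgN ((QuotientGroup.eq_one_iff g).1 (orderOf_eq_one_iff.1 h5))
    have hcop : (orderOf g').Coprime (orderOf x') := by
      rw [hx'o, hg', orderOf_pow_of_dvd (pow_ne_zero _ hs.ne_zero) (Nat.ordProj_dvd _ _)]
      exact (Nat.coprime_ordCompl hs (orderOf_pos g).ne').symm
    have hcomm : Commute g' x' := Commute.pow_pow (show Commute g x from Subgroup.mem_centralizer_singleton_iff.1 hg) _ _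
    obtain ⟨y, hy⟩ := hcam g' hg'N x' (pow_mem hxM _)
    have h6 : orderOf (g' * x') = orderOf g' := by rw [← hy, ← MulAut.conj_apply, MulEquiv.orderOf_eq]
    rw [hcomm.orderOf_mul_eq_mul_orderOf_of_coprime hcop, hx'o] at h6
    have := Nat.eq_of_mul_eq_mul_left (orderOf_pos g') (h6.trans (mul_one _).symm)
    exact hs.one_lt.ne' this
  refine ⟨⟨h12, h21⟩, fun h1 => ?_⟩
  have hcop := h12 h1
  haveI : Finite (Subgroup G) := Finite.of_injective ((↑) : Subgroup G → Set G) SetLike.coe_injective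
  obtain ⟨H, hH, hmin⟩ := (Set.toFinite {H : Subgroup G | H ⊔ N = ⊤}).exists_minimal ⟨⊤, top_sup_eq N⟩
  refine ⟨H, hH, ?_⟩
  -- `H ∩ N` lies in the Frattini subgroup of `H`
  have hΦ : N.subgroupOf H ≤ frattini H := by
    refine le_iInf₂ fun K hK => ?_
    by_contra hle
    have htop : K ⊔ N.subgroupOf H = ⊤ := hK.2 _ (left_lt_sup.2 hle)
    have h3 : K.map H.subtype ⊔ N = ⊤ := by
      refine top_le_iff.1 (hH.ge.trans (sup_le (fun h hh => ?_) le_sup_right))
      obtain ⟨k, hk, n, hn, hkn⟩ := Subgroup.mem_sup_of_normal_right.1 (htop ▸ Subgroup.mem_top (⟨h, hh⟩ : H))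
      rw [← show (k : G) * n = h from congrArg Subtype.val hkn]
      exact Subgroup.mul_mem_sup (Subgroup.mem_map_of_mem H.subtype hk) hn
    refine hK.1 ?_
    have h4 := hmin h3 (Subgroup.map_subtype_le K)
    rw [eq_top_iff]
    intro h _
    obtain ⟨k, hk, hkh⟩ := h4 h.2
    exact (Subtype.ext hkh : k = h) ▸ hk
  by_contra hne
  obtain ⟨r, hr, hrd⟩ := Nat.exists_prime_and_dvd (fun h => hne (Subgroup.card_eq_one.1 h))
  haveI : Fact r.Prime := ⟨hr⟩
  have hidx : (N.subgroupOf H).index = N.index := by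
    rw [← Subgroup.relIndex, ← Subgroup.relIndex_sup_right H N, hH, Subgroup.relIndex_top_right]
  have hri : ¬ r ∣ N.index := fun h => hr.ne_one
    (Nat.eq_one_of_dvd_coprimes hcop h (hrd.trans (Subgroup.card_dvd_of_le inf_le_right)))
  obtain ⟨T⟩ : Nonempty (Sylow r H) := inferInstance
  have hTN : (T : Subgroup H) ≤ N.subgroupOf H := by
    intro t ht
    have h5 : orderOf (t : H ⧸ N.subgroupOf H) ∣ N.index := hidx ▸
      (Subgroup.index_eq_card (N.subgroupOf H) ▸ orderOf_dvd_natCard _)
    obtain ⟨k, hk⟩ := T.2 ⟨t, ht⟩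
    have hk' : t ^ r ^ k = 1 := congrArg Subtype.val hk
    have h6 : orderOf (t : H ⧸ N.subgroupOf H) ∣ r ^ k :=
      (orderOf_map_dvd (QuotientGroup.mk' _) t).trans (orderOf_dvd_of_pow_eq_one hk')
    exact (QuotientGroup.eq_one_iff t).1 (orderOf_eq_one_iff.1
      (Nat.eq_one_of_dvd_coprimes ((hr.coprime_iff_not_dvd.2 hri).pow_left k) h6 h5))
  -- hence `T` is normal, and then trivial
  haveI := frattini_nilpotent (G := H)
  have hTΦ := hTN.trans hΦ
  let TΦ : Sylow r (frattini H) := T.subtype hTΦ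
  haveI := TΦ.characteristic_of_normal
    (TΦ.normal_of_normalizerCondition (Group.normalizerCondition_of_isNilpotent (G := frattini H)))
  have hTeq : (TΦ : Subgroup (frattini H)).map (frattini H).subtype = T := by
    show ((T : Subgroup H).subgroupOf (frattini H)).map (frattini H).subtype = T
    exact Subgroup.map_subgroupOf_eq_of_le hTΦ
  haveI : (T : Subgroup H).Normal := hTeq ▸ (inferInstance : ((TΦ : Subgroup (frattini H)).map (frattini H).subtype).Normal)
  obtain ⟨K, hK⟩ := Subgroup.exists_right_complement'_of_coprime T.card_coprime_index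
  have hKtop : K = ⊤ := frattini_nongenerating (eq_top_iff.2 (hK.sup_eq_top.ge.trans
    (sup_le (hTΦ.trans le_sup_right) le_sup_left)))
  have hT1 : (T : Subgroup H) = ⊥ := by
    have := hK.disjoint.eq_bot
    rwa [hKtop, inf_top_eq] at this
  have hnd : ¬ r ∣ Nat.card H := by
    intro h
    have := T.dvd_card_of_dvd_card h
    rw [hT1, Subgroup.card_bot] at this
    exact hr.one_lt.ne' (Nat.eq_one_of_dvd_one this)
  exact hnd (hrd.trans (Subgroup.card_dvd_of_le inf_le_left))

end Cfsg.Agent.S4112
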