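import Cfsg.Statements.S4113

set_option autoImplicit false
set_option linter.style.haveILetI false
open Cfsg

namespace Cfsg.Agent.S4113

open Subgroup in
theorem fwd {G : Type*} [Group G] (N M : Subgroup G) [hNn : N.Normal] [hMn : M.Normal]
    (H : Subgroup G) (hHM : H ⊔ M = ⊤) (hHM' : H ⊓ M = ⊥)
    (h : ∀ x ∈ M, x ≠ 1 → centralizer ({x} : Set G) ≤ N) (g : G) (hg : g ∉ H) :
    H ⊓ H.map (MulAut.conj g).toMonoidHom ≤ N := by
  rintro z ⟨hz, w, hw, hwz⟩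
  have hgm : g ∈ ((H ⊔ M : Subgroup G) : Set G) := by rw [hHM]; trivial
  rw [Subgroup.mul_normal H M] at hgm
  obtain ⟨a, ha, m, hm, rfl⟩ := hgm
  have hm1 : m ≠ 1 := fun h1 => hg (by simpa [h1] using ha)
  have e : a⁻¹ * z * a = m * w * m⁻¹ := by
    rw [← hwz, MulEquiv.coe_toMonoidHom, MulAut.conj_apply]
    group
  have h2 : (a⁻¹ * z * a) * w⁻¹ ∈ H ⊓ M := by
    refine ⟨H.mul_mem (H.mul_mem (H.mul_mem (H.inv_mem ha) hz) ha) (H.inv_mem hw), ?_⟩
    rw [e, mul_assoc, mul_assoc, ← mul_assoc w]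
    exact M.mul_mem hm (hMn.conj_mem _ (M.inv_mem hm) w)
  rw [hHM', mem_bot, mul_inv_eq_one] at h2
  have hwN : w ∈ N := by
    refine h m hm hm1 ?_
    rw [mem_centralizer_singleton_iff]
    have h3 : w * m = m * w := by
      conv_lhs => rw [← h2, e]
      group
    first | exact h3 | exact h3.symm
  have := hNn.conj_mem _ (h2.symm ▸ hwN : a⁻¹ * z * a ∈ N) a
  simpa [mul_assoc] using this

open Subgroup in
theorem bwd {G : Type*} [Group G] [Finite G] (N M : Subgroup G) [hNn : N.Normal] [hMn : M.Normal] (hMN : M ≤ N)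
    (H : Subgroup G) (hHM : H ⊔ M = ⊤) (hHM' : H ⊓ M = ⊥)
    (hTI : ∀ g : G, g ∉ H → H ⊓ H.map (MulAut.conj g).toMonoidHom ≤ N) :
    ∀ x ∈ M, x ≠ 1 → centralizer ({x} : Set G) ≤ N := by
  classical
  have hdec : ∀ g : G, ∃ a ∈ H, ∃ m ∈ M, g = m * a := by
    intro g
    have hgm : g ∈ ((M ⊔ H : Subgroup G) : Set G) := by rw [sup_comm, hHM]; trivial
    rw [Subgroup.normal_mul M H] at hgm
    obtain ⟨m, hm, a, ha, rfl⟩ := hgm
    exact ⟨a, ha, m, hm, rfl⟩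
  have hMH : ∀ m ∈ M, m ∈ H → m = 1 := fun m hm hmH =>
    mem_bot.mp (hHM' ▸ ⟨hmH, hm⟩ : m ∈ (⊥ : Subgroup G))
  have hTI' : ∀ m ∈ M, ∀ h₁ ∈ H, h₁ ∉ N → m * h₁ * m⁻¹ ∈ H → m = 1 := by
    intro m hm h₁ h₁H h₁N hc
    by_contra hm1
    have := hTI m (fun h => hm1 (hMH m hm h)) ⟨hc, h₁, h₁H, rfl⟩
    have h2 := hNn.conj_mem _ this m⁻¹
    exact h₁N (by simpa [mul_assoc] using h2)
  -- every element outside `N` is conjugate under `M` into `H`
  let f : M × {a : H // (a : G) ∉ N} → {y : G // y ∉ N} := fun z =>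
    ⟨(z.1 : G) * z.2.1 * (z.1 : G)⁻¹, fun h => z.2.2 (by simpa [mul_assoc] using hNn.conj_mem _ h (z.1 : G)⁻¹)⟩
  have hinj : Function.Injective f := by
    rintro ⟨⟨m, hm⟩, ⟨⟨a, ha⟩, haN⟩⟩ ⟨⟨m', hm'⟩, ⟨⟨b, hb⟩, hbN⟩⟩ he
    have he' : m * a * m⁻¹ = m' * b * m'⁻¹ := congrArg Subtype.val he
    have h2 : (m'⁻¹ * m) * a * (m'⁻¹ * m)⁻¹ = b := by
      rw [show (m'⁻¹ * m) * a * (m'⁻¹ * m)⁻¹ = m'⁻¹ * (m * a * m⁻¹) * m' by group, he']
      group
    have h3 := hTI' _ (M.mul_mem (M.inv_mem hm') hm) a ha haN (h2.symm ▸ hb)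
    rw [inv_mul_eq_one] at h3
    subst h3
    have : a = b := by simpa using h2
    subst this
    rfl
  have hsurj : Function.Surjective f := by
    refine ((Nat.bijective_iff_injective_and_card f).mpr ⟨hinj, ?_⟩).2
    rw [Nat.card_prod]
    let e : M × {a : H // (a : G) ∉ N} → {y : G // y ∉ N} := fun z =>
      ⟨(z.1 : G) * z.2.1, fun h => z.2.2 (by
        simpa using N.mul_mem (N.inv_mem (hMN z.1.2)) h)⟩
    have he : Function.Bijective e := by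
      constructor
      · rintro ⟨⟨m, hm⟩, ⟨⟨a, ha⟩, haN⟩⟩ ⟨⟨m', hm'⟩, ⟨⟨b, hb⟩, hbN⟩⟩ hh
        have he' : m * a = m' * b := congrArg Subtype.val hh
        have h2 : m'⁻¹ * m = b * a⁻¹ := by
          rw [inv_mul_eq_iff_eq_mul, ← mul_assoc, ← he', mul_inv_cancel_right]
        have h3 := hMH _ (M.mul_mem (M.inv_mem hm') hm) (h2 ▸ H.mul_mem hb (H.inv_mem ha))
        rw [inv_mul_eq_one] at h3
        subst h3
        have : a = b := mul_left_cancel he'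
        subst this
        rfl
      · rintro ⟨y, hy⟩
        obtain ⟨a, ha, m, hm, rfl⟩ := hdec y
        exact ⟨(⟨m, hm⟩, ⟨⟨a, ha⟩, fun h => hy (N.mul_mem (hMN hm) h)⟩), rfl⟩
    rw [← Nat.card_prod]
    exact Nat.card_eq_of_bijective e he
  intro x hx hx1 c hc
  by_contra hcN
  obtain ⟨⟨⟨m, hm⟩, ⟨⟨a, ha⟩, haN⟩⟩, he⟩ := hsurj ⟨c, hcN⟩
  have he' : m * a * m⁻¹ = c := congrArg Subtype.val he
  have hcx : c * x = x * c := by
    have := mem_centralizer_singleton_iff.mp hc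
    first | exact this | exact this.symm
  have h1 : (m⁻¹ * x * m) * a * (m⁻¹ * x * m)⁻¹ = a := by
    calc _ = m⁻¹ * (x * (m * a * m⁻¹) * x⁻¹) * m := by group
      _ = m⁻¹ * c * m := by rw [he', ← hcx, mul_inv_cancel_right]
      _ = a := by rw [← he']; group
  have h2 := hTI' _ (by simpa [mul_assoc] using hMn.conj_mem _ hx m⁻¹) a ha haN (h1.symm ▸ ha)
  apply hx1
  calc x = m * (m⁻¹ * x * m) * m⁻¹ := by group
    _ = 1 := by rw [h2]; group

/-- Let G be a finite group, M ≤ N non-trivial proper normal subgroups, and H a subgroup with HM = G and H ∩ M = 1. Then every element of G outside N acts fixed-point-freely on M (C_G(x) ≤ N for every x ∈ M, x ≠ 1) if and only if H ∩ gHg⁻¹ ≤ H ∩ N for every g outside H, with H proper and non-trivial and H ∩ N proper in H. -/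
theorem result {G : Type*} [Group G] [Finite G] (N M : Subgroup G) [N.Normal] [M.Normal] (hMN : M ≤ N) (hM1 : M ≠ ⊥) (hN2 : N ≠ ⊤)
    (H : Subgroup G) (hHM : H ⊔ M = ⊤) (hHM' : H ⊓ M = ⊥) :
    (∀ x ∈ M, x ≠ 1 → Subgroup.centralizer ({x} : Set G) ≤ N) ↔
      (H ≠ ⊥ ∧ H ≠ ⊤ ∧ H ⊓ N < H ∧ ∀ g : G, g ∉ H → H ⊓ H.map (MulAut.conj g).toMonoidHom ≤ N) := by
  constructor
  · intro h
    refine ⟨?_, ?_, ?_, fwd N M H hHM hHM' h⟩
    · intro hH
      rw [hH, bot_sup_eq] at hHM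
      exact hN2 (top_le_iff.mp (hHM ▸ hMN))
    · intro hH
      rw [hH, top_inf_eq] at hHM'
      exact hM1 hHM'
    · refine lt_of_le_of_ne inf_le_left fun he => hN2 (top_le_iff.mp ?_)
      rw [← hHM]
      exact sup_le (he ▸ inf_le_right) hMN
  · rintro ⟨-, -, -, h⟩
    exact bwd N M hMN H hHM hHM' h

end Cfsg.Agent.S4113
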