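import Cfsg.Statements.S4116
import Cfsg.Agent.Lib.Local.GLTwoOdd

set_option autoImplicit false
open Cfsg

namespace Cfsg.Agent.S4116

open Subgroup

theorem conj_mem_of_ti {G : Type*} [Group G] {H : Subgroup G} (hTI : Cfsg.IsTISubset (H : Set G))
    {w h : G} (hh : h ∈ H) (h1 : h ≠ 1) (hwh : w * h * w⁻¹ ∈ H) : w ∈ normalizer (H : Set G) := by
  by_contra hw
  exact h1 (hTI w hw h hh hwh)

/-- An element of order dividing into `π(|H|)` normalizing the Hall subgroup `H` lies in it. -/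
theorem mem_of_normalizes {G : Type*} [Group G] [Finite G] {H : Subgroup G}
    (hHall : (Nat.card H).Coprime H.index) {z : G} (hz : z ∈ normalizer (H : Set G))
    (hpi : ∀ q : ℕ, q.Prime → q ∣ orderOf z → q ∣ Nat.card H) : z ∈ H := by
  set N := normalizer (H : Set G)
  have hcop : (orderOf z).Coprime (H.relIndex N) := by
    refine Nat.coprime_of_dvd fun q hq h1 h2 => ?_
    have h3 : q ∣ H.index := h2.trans (relIndex_dvd_index_of_le le_normalizer)
    exact hq.ne_one (Nat.eq_one_of_dvd_coprimes hHall (hpi q hq h1) h3)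
  have h1 : (⟨z, hz⟩ : N) ^ H.relIndex N ∈ H.subgroupOf N := by
    haveI : (H.subgroupOf N).Normal := normal_in_normalizer
    exact pow_index_mem (H.subgroupOf N) _
  obtain ⟨m, hm⟩ := exists_pow_eq_self_of_coprime hcop.symm
  rw [← hm]
  exact pow_mem h1 m

/-- Every nontrivial `π(|H|)`-element is conjugate into `H`. -/
theorem exists_conj_mem {G : Type*} [Group G] [Finite G] {H : Subgroup G}
    (hHall : (Nat.card H).Coprime H.index) (hTI : Cfsg.IsTISubset (H : Set G))
    {k : G} (hk : k ≠ 1) (hpi : ∀ q : ℕ, q.Prime → q ∣ orderOf k → q ∣ Nat.card H) :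
    ∃ g : G, g⁻¹ * k * g ∈ H := by
  obtain ⟨r, hr, hrk⟩ := Nat.exists_prime_and_dvd (mt orderOf_eq_one_iff.1 hk)
  haveI := Fact.mk hr
  set y := k ^ (orderOf k / r)
  have hy : orderOf y = r := orderOf_pow_orderOf_div (orderOf_pos k).ne' hrk
  obtain ⟨P⟩ := (inferInstance : Nonempty (Sylow r H))
  have hP : Nat.card ((P : Subgroup H).map H.subtype) = r ^ (Nat.card G).factorization r := by
    rw [card_map_of_injective H.subtype_injective, P.card_eq_multiplicity, ← H.card_mul_index,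
      Nat.factorization_mul Nat.card_pos.ne' H.index_ne_zero_of_finite, Finsupp.add_apply,
      Nat.factorization_eq_zero_of_not_dvd
        (fun h => hr.ne_one (Nat.eq_one_of_dvd_coprimes hHall (hpi r hr hrk) h)), add_zero]
  let S : Sylow r G := Sylow.ofCard _ hP
  have hyp : IsPGroup r (zpowers y) := IsPGroup.of_card (n := 1) (by rw [Nat.card_zpowers, hy, pow_one])
  obtain ⟨Q, hQ⟩ := hyp.exists_le_sylow
  obtain ⟨g, hg⟩ := MulAction.exists_smul_eq G S Q
  refine ⟨g, ?_⟩
  have hyS : g⁻¹ * y * g ∈ H := by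
    have h1 : y ∈ ((g • S : Sylow r G) : Subgroup G) := hg ▸ hQ (mem_zpowers y)
    rw [Sylow.coe_subgroup_smul, Subgroup.mem_smul_pointwise_iff_exists] at h1
    obtain ⟨s, hs, hsy⟩ := h1
    have hs' : s ∈ (P : Subgroup H).map H.subtype := hs
    have : g⁻¹ * y * g = s := by rw [← hsy]; simp [MulAut.conj_apply, mul_assoc]
    rw [this]
    obtain ⟨u, -, rfl⟩ := hs'
    exact u.2
  have hne : g⁻¹ * y * g ≠ 1 := by
    intro h
    have h2 : y = 1 := by
      have := congrArg (fun t => g * t * g⁻¹) h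
      simpa [mul_assoc] using this
    rw [h2, orderOf_one] at hy
    exact hr.ne_one hy.symm
  have hord : orderOf (g⁻¹ * k * g) = orderOf k := by
    simpa using ((MulAut.conj g⁻¹).orderOf_eq k)
  refine mem_of_normalizes hHall (conj_mem_of_ti hTI hyS hne ?_) (fun q hq h => hpi q hq (hord ▸ h))
  have : g⁻¹ * k * g * (g⁻¹ * y * g) * (g⁻¹ * k * g)⁻¹ = g⁻¹ * y * g := by
    have hc : k * y * k⁻¹ = y := by
      rw [((Commute.refl k).pow_right _).eq, mul_inv_cancel_right]
    calc g⁻¹ * k * g * (g⁻¹ * y * g) * (g⁻¹ * k * g)⁻¹ = g⁻¹ * (k * y * k⁻¹) * g := by group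
      _ = _ := by rw [hc]
  rw [this]
  exact hyS


/-- Let G be a finite group with a subgroup H whose order is coprime to its index (a Hall subgroup) and which meets each of its conjugates by elements outside N_G(H) trivially. Then every subgroup of G whose order is divisible only by primes dividing the order of H lies in a conjugate of H. -/
theorem result {G : Type*} [Group G] [Finite G] (H : Subgroup G)
    (hHall : (Nat.card H).Coprime H.index) (hTI : Cfsg.IsTISubset (H : Set G))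
    (K : Subgroup G) (hK : ∀ q : ℕ, q.Prime → q ∣ Nat.card K → q ∣ Nat.card H) :
    ∃ g : G, K ≤ H.map (MulAut.conj g).toMonoidHom := by
  classical
  by_cases hK1 : K = ⊥
  · exact ⟨1, hK1 ▸ bot_le⟩
  by_contra hcon
  push Not at hcon
  have hpiK : ∀ k ∈ K, ∀ q : ℕ, q.Prime → q ∣ orderOf k → q ∣ Nat.card H := fun k hk q hq h =>
    hK q hq (h.trans (Subgroup.orderOf_dvd_natCard _ hk))
  -- the fragments of K
  let L : G → Subgroup G := fun g => K ⊓ H.map (MulAut.conj g).toMonoidHom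
  have hL : ∀ g k, k ∈ L g ↔ k ∈ K ∧ g⁻¹ * k * g ∈ H := by
    intro g k
    simp only [L, mem_inf, mem_map_equiv, MulAut.conj_symm_apply]
  let U : G → Set G := fun g => {y | ∃ x ∈ K, ∃ t ∈ {t | t ∈ L g ∧ t ≠ 1}, x * t * x⁻¹ = y}
  have hcount : ∀ g, (U g).ncard * Nat.card (L g) = Nat.card K * (Nat.card (L g) - 1) := by
    intro g
    have hT : {t | t ∈ L g ∧ t ≠ 1}.ncard = Nat.card (L g) - 1 := by
      have e : {t | t ∈ L g ∧ t ≠ 1} = (L g : Set G) \ {1} := by ext t; simp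
      rw [e, Set.ncard_sdiff_singleton_of_mem (one_mem _)]
      rfl
    rw [← hT]
    refine Cfsg.Lib.Local.GLTwoOdd.ti_count (K := K) (L := L g) inf_le_left
      (fun l hl t ht => ⟨mul_mem (mul_mem hl ht.1) (inv_mem hl), fun h => ht.2 (by simpa using h)⟩)
      (fun x hx t ht hxt => ?_)
    obtain ⟨-, htH⟩ := (hL g t).1 ht.1
    obtain ⟨-, hxH⟩ := (hL g _).1 hxt.1
    have hz : g⁻¹ * x * g ∈ normalizer (H : Set G) := by
      refine conj_mem_of_ti hTI htH (fun h => ht.2 ?_) ?_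
      · have := congrArg (fun t => g * t * g⁻¹) h
        simpa [mul_assoc] using this
      · simpa [mul_assoc] using hxH
    exact (hL g x).2 ⟨hx, mem_of_normalizes hHall hz fun q hq h => hpiK x hx q hq (by
      have hord : orderOf (g⁻¹ * x * g) = orderOf x := by simpa using ((MulAut.conj g⁻¹).orderOf_eq x)
      rwa [hord] at h)⟩
  have hsub : ∀ g, U g ⊆ (K : Set G) \ {1} := by
    rintro g y ⟨x, hx, t, ⟨ht, ht1⟩, rfl⟩
    exact ⟨mul_mem (mul_mem hx ((hL g t).1 ht).1) (inv_mem hx), fun h => ht1 (by simpa using h)⟩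
  have hex : ∀ k ∈ K, k ≠ 1 → ∃ g, k ∈ U g ∧ k ∈ L g := by
    intro k hk h1
    obtain ⟨g, hg⟩ := exists_conj_mem hHall hTI h1 (hpiK k hk)
    have := (hL g k).2 ⟨hk, hg⟩
    exact ⟨g, ⟨1, K.one_mem, k, ⟨this, h1⟩, by simp⟩, this⟩
  have hbig : ∀ g, (∃ k ∈ L g, k ≠ 1) → Nat.card K ≤ 2 * (U g).ncard := by
    rintro g ⟨k, hk, hk1⟩
    haveI : Nontrivial (L g) := ⟨⟨k, hk⟩, 1, fun h => hk1 (congrArg Subtype.val h)⟩
    have h2 : 1 < Nat.card (L g) := Finite.one_lt_card
    have h3 := hcount g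
    obtain ⟨m, hm⟩ : ∃ m, Nat.card (L g) = m + 1 := ⟨_, (Nat.succ_pred_eq_of_pos (by omega)).symm⟩
    rw [hm, Nat.add_sub_cancel] at h3
    nlinarith
  have hKn : ((K : Set G) \ {1}).ncard + 1 = Nat.card K := by
    have h := Set.ncard_sdiff_singleton_add_one (K.one_mem : (1 : G) ∈ (K : Set G)) (Set.toFinite _)
    exact h
  obtain ⟨k, hk, hk1⟩ := K.bot_or_exists_ne_one.resolve_left hK1
  obtain ⟨g, hgU, hgL⟩ := hex k hk hk1
  by_cases hall : (K : Set G) \ {1} ⊆ U g
  · have he : (U g).ncard + 1 = Nat.card K := by rw [Set.Subset.antisymm (hsub g) hall, hKn]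
    have h3 := hcount g
    have hle : Nat.card (L g) < Nat.card K := by
      refine lt_of_le_of_ne (card_le_of_le inf_le_left) fun h => hcon g ?_
      have : L g = K := eq_of_le_of_card_ge inf_le_left h.ge
      exact this ▸ inf_le_right
    have hpos : 0 < Nat.card (L g) := Nat.card_pos
    obtain ⟨m, hm⟩ : ∃ m, Nat.card (L g) = m + 1 := ⟨_, (Nat.succ_pred_eq_of_pos hpos).symm⟩
    rw [hm, Nat.add_sub_cancel] at h3
    nlinarith
  · obtain ⟨k', hk', hk'U⟩ := Set.not_subset.1 hall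
    obtain ⟨g', hgU', hgL'⟩ := hex k' hk'.1 hk'.2
    have hdisj : Disjoint (U g) (U g') := by
      rw [Set.disjoint_left]
      rintro _ ⟨x, hx, t, ⟨ht, ht1⟩, rfl⟩ ⟨x', hx', t', ⟨ht', -⟩, he⟩
      obtain ⟨-, htH⟩ := (hL g t).1 ht
      obtain ⟨-, htH'⟩ := (hL g' t').1 ht'
      have hw : g'⁻¹ * x'⁻¹ * x * g ∈ normalizer (H : Set G) := by
        refine conj_mem_of_ti hTI htH (fun h => ht1 ?_) ?_
        · have := congrArg (fun t => g * t * g⁻¹) h
          simpa [mul_assoc] using this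
        · have e : g'⁻¹ * x'⁻¹ * x * g * (g⁻¹ * t * g) * (g'⁻¹ * x'⁻¹ * x * g)⁻¹ =
              g'⁻¹ * (x'⁻¹ * (x * t * x⁻¹) * x') * g' := by group
          rw [e, ← he]
          simpa [mul_assoc] using htH'
      have h4 := (mem_normalizer_iff.1 (inv_mem hw) _).1 ((hL g' k').1 hgL').2
      have hy : x'⁻¹ * x ∈ K := mul_mem (inv_mem hx') hx
      refine hk'U ⟨x'⁻¹ * x, hy, (x'⁻¹ * x)⁻¹ * k' * (x'⁻¹ * x),
        ⟨(hL g _).2 ⟨mul_mem (mul_mem (inv_mem hy) hk'.1) hy, ?_⟩, fun h => hk'.2 ?_⟩, ?_⟩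
      · simpa [mul_assoc] using h4
      · have := congrArg (fun t => (x'⁻¹ * x) * t * (x'⁻¹ * x)⁻¹) h
        simpa [mul_assoc] using this
      · group
    have h5 := Set.ncard_le_ncard (Set.union_subset (hsub g) (hsub g')) (Set.toFinite _)
    rw [Set.ncard_union_eq hdisj (Set.toFinite _) (Set.toFinite _)] at h5
    have := hbig g ⟨k, hgL, hk1⟩
    have := hbig g' ⟨k', hgL', hk'.2⟩
    omega

end Cfsg.Agent.S4116
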