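import Cfsg.Statements.S4115
import Cfsg.Agent.S4116
import Cfsg.Agent.Lib.Char.SectionExtension
import Cfsg.Agent.Lib.Fusion.Alperin
import Cfsg.Agent.Lib.Solv.FrobeniusBasic
import Cfsg.Agent.Lib.Coprime.Action
import Cfsg.Agent.Lib.Core.Basic
import Cfsg.Agent.Lib.PGroup.Basic

set_option autoImplicit false
universe u
open Cfsg

namespace Cfsg.Agent.S4115

open Subgroup
open scoped Pointwise commutatorElement

universe u'

variable {G : Type u'} [Group G] [Finite G]

theorem ti_mem_normalizer {H : Subgroup G} (hTI : Cfsg.IsTISubset (H : Set G))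
    {w h : G} (hh : h ∈ H) (h1 : h ≠ 1) (hwh : w * h * w⁻¹ ∈ H) : w ∈ normalizer (H : Set G) := by
  by_contra hw
  exact h1 (hTI w hw h hh hwh)

theorem mem_of_coprime_relIndex {H : Subgroup G} {z : G} (hz : z ∈ normalizer (H : Set G))
    (hco : (orderOf z).Coprime (H.relIndex (normalizer (H : Set G)))) : z ∈ H := by
  set N := normalizer (H : Set G)
  haveI : (H.subgroupOf N).Normal := normal_in_normalizer
  have h1 : (⟨z, hz⟩ : N) ^ H.relIndex N ∈ H.subgroupOf N := pow_index_mem (H.subgroupOf N) _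
  obtain ⟨m, hm⟩ := exists_pow_eq_self_of_coprime hco.symm
  rw [← hm]
  exact pow_mem h1 m

/-- A TI subgroup which is a Hall subgroup of its normalizer is a Hall subgroup. -/
theorem hall_of_ti {H : Subgroup G} (hTI : Cfsg.IsTISubset (H : Set G))
    (hHall : (Nat.card H).Coprime (H.relIndex (normalizer (H : Set G)))) :
    (Nat.card H).Coprime H.index := by
  refine Nat.coprime_of_dvd fun r hr h1 h2 => ?_
  haveI := Fact.mk hr
  obtain ⟨P⟩ := (inferInstance : Nonempty (Sylow r H))
  set P0 := (P : Subgroup H).map H.subtype with hP0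
  obtain ⟨S, hS⟩ := (P.2.map H.subtype).exists_le_sylow
  have hne : P0 ≠ ⊥ := by
    rw [hP0, Ne, map_eq_bot_iff_of_injective _ H.subtype_injective]
    exact P.ne_bot_of_dvd_card h1
  obtain ⟨a, ha, ha1⟩ := (P0.bot_or_exists_ne_one).resolve_left hne
  have haH : a ∈ H := by obtain ⟨u, -, rfl⟩ := ha; exact u.2
  by_cases heq : P0 = (S : Subgroup G)
  · have hc : H.index ∣ P0.index := index_dvd_of_le (map_subtype_le (P : Subgroup H))
    rw [heq] at hc
    exact S.not_dvd_index (h2.trans hc)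
  · have hlt := Cfsg.Lib.Fusion.lt_inf_normalizer S.2 (lt_of_le_of_ne hS heq)
    have hle : (S : Subgroup G) ⊓ normalizer (P0 : Set G) ≤ H := by
      rintro z ⟨hzS, hzN⟩
      have hzH : z ∈ normalizer (H : Set G) := by
        refine ti_mem_normalizer hTI haH ha1 ?_
        exact map_subtype_le (P : Subgroup H) ((mem_normalizer_iff.1 hzN a).1 ha)
      refine mem_of_coprime_relIndex hzH ?_
      obtain ⟨k, hk⟩ := IsPGroup.iff_orderOf.1 S.2 ⟨z, hzS⟩
      rw [Subgroup.orderOf_mk] at hk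
      rw [hk]
      exact Nat.Coprime.pow_left k (Nat.Coprime.coprime_dvd_left h1 hHall)
    set R := ((S : Subgroup G) ⊓ normalizer (P0 : Set G)).subgroupOf H
    have hR : IsPGroup r R :=
      (S.2.to_le inf_le_left).of_equiv (subgroupOfEquivOfLe hle).symm
    have hPR : (P : Subgroup H) ≤ R := fun u hu => mem_subgroupOf.2 (hlt.le ⟨u, hu, rfl⟩)
    have := P.3 hR hPR
    have h3 : (S : Subgroup G) ⊓ normalizer (P0 : Set G) ≤ P0 := fun z hz =>
      ⟨⟨z, hle hz⟩, this ▸ (mem_subgroupOf.2 hz : (⟨z, hle hz⟩ : H) ∈ R), rfl⟩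
    exact hlt.not_ge h3

/-- A fixed-point-free action gives a Frobenius complement in the semidirect product. -/
theorem complement_of_fpf {B V : Type u'} [Group B] [Finite B] [Nontrivial B] [Group V] [Finite V]
    [Nontrivial V] (φ : B →* MulAut V) (hfpf : ∀ b : B, b ≠ 1 → ∀ v : V, φ b v = v → v = 1) :
    ∃ (F : Type u') (_ : Group F) (_ : Finite F) (C : Subgroup F),
      Cfsg.IsFrobeniusComplement C ∧ Nonempty (B ≃* C) := by
  classical
  let X := SemidirectProduct V B φ
  haveI : Finite X := Finite.of_equiv _ SemidirectProduct.equivProd.symm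
  set K : Subgroup X := (SemidirectProduct.inl : V →* X).range with hK
  set C : Subgroup X := (SemidirectProduct.inr : B →* X).range with hC
  haveI : K.Normal := by rw [hK, SemidirectProduct.range_inl_eq_ker_rightHom]; infer_instance
  have hcompl : K.IsComplement' C := by
    refine isComplement'_of_disjoint_and_mul_eq_univ ?_ (Set.eq_univ_of_forall fun x =>
      ⟨_, ⟨x.left, rfl⟩, _, ⟨x.right, rfl⟩, SemidirectProduct.inl_left_mul_inr_right x⟩)
    rw [disjoint_iff, eq_bot_iff]
    rintro x ⟨⟨v, hv⟩, ⟨b, hb⟩⟩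
    have h := congrArg SemidirectProduct.left (hv.trans hb.symm)
    simp only [SemidirectProduct.left_inl, SemidirectProduct.left_inr] at h
    rw [mem_bot, ← hv, h, map_one]
  have hKb : K ≠ ⊥ := fun h => by
    obtain ⟨v, hv⟩ := exists_ne (1 : V)
    have : SemidirectProduct.inl v ∈ K := ⟨v, rfl⟩
    rw [h, mem_bot] at this
    exact hv (SemidirectProduct.inl_injective (this.trans (map_one _).symm))
  have hCb : C ≠ ⊥ := fun h => by
    obtain ⟨b, hb⟩ := exists_ne (1 : B)
    have : SemidirectProduct.inr b ∈ C := ⟨b, rfl⟩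
    rw [h, mem_bot] at this
    exact hb (SemidirectProduct.inr_injective (this.trans (map_one _).symm))
  refine ⟨X, inferInstance, inferInstance, C, ?_, ⟨MonoidHom.ofInjective SemidirectProduct.inr_injective⟩⟩
  refine Cfsg.Lib.Solv.isFrobeniusComplement_of_fpf hcompl hKb hCb ?_
  rintro _ ⟨b, rfl⟩ hb1
  rw [eq_bot_iff]
  rintro _ ⟨⟨v, rfl⟩, hvc⟩
  have hb : b ≠ 1 := fun h => hb1 (by rw [h, map_one])
  have hcomm := mem_centralizer_singleton_iff.1 hvc
  have : φ b v = v := by
    apply SemidirectProduct.inl_injective (φ := φ)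
    rw [SemidirectProduct.inl_aut, map_inv, ← hcomm]
    group
  rw [mem_bot, hfpf b hb v this, map_one]


/-- Let G be a finite group and H a subgroup that meets each of its conjugates by elements outside N_G(H) trivially and whose order is coprime to its index in N_G(H). Then H has a normal complement in N_G(H) if and only if H has a normal complement in G. Moreover, if H is not normal in G and has a normal complement in N_G(H), then H is isomorphic to a Frobenius complement of some finite Frobenius group. -/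
theorem result {G : Type u} [Group G] [Finite G] (H : Subgroup G)
    (hTI : Cfsg.IsTISubset (H : Set G)) (hHall : (Nat.card H).Coprime (H.subgroupOf (Subgroup.normalizer (H : Set G))).index) :
    ((∃ K : Subgroup (Subgroup.normalizer (H : Set G)), K.Normal ∧ K.IsComplement' (H.subgroupOf (Subgroup.normalizer (H : Set G)))) ↔
      (∃ N : Subgroup G, N.Normal ∧ N.IsComplement' H)) ∧
    (¬ H.Normal → (∃ K : Subgroup (Subgroup.normalizer (H : Set G)), K.Normal ∧ K.IsComplement' (H.subgroupOf (Subgroup.normalizer (H : Set G)))) →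
      ∃ (F : Type u) (_ : Group F) (_ : Finite F) (C : Subgroup F), Cfsg.IsFrobeniusComplement C ∧ Nonempty (H ≃* C)) := by
  classical
  set NH := Subgroup.normalizer (H : Set G) with hNH
  have hHN : H ≤ NH := le_normalizer
  haveI hHn : (H.subgroupOf NH).Normal := normal_in_normalizer
  have hG : (Nat.card H).Coprime H.index := hall_of_ti hTI hHall
  -- the normalizer's complement centralizes H
  have hKc : ∀ K : Subgroup NH, K.Normal → K.IsComplement' (H.subgroupOf NH) →
      ∀ k ∈ K, ∀ h ∈ H, (k : G) * h = h * k := by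
    intro K hK hc k hk h hh
    haveI := hK
    have h1 : k * ⟨h, hHN hh⟩ = ⟨h, hHN hh⟩ * k := Subgroup.commute_of_normal_of_disjoint K _ inferInstance hHn
      hc.disjoint k ⟨h, hHN hh⟩ hk hh
    exact congrArg Subtype.val h1
  have hfwd : (∃ K : Subgroup NH, K.Normal ∧ K.IsComplement' (H.subgroupOf NH)) →
      ∃ N : Subgroup G, N.Normal ∧ N.IsComplement' H := by
    rintro ⟨K, hK, hc⟩
    obtain ⟨N, hN, hsup, hinf⟩ := Cfsg.Lib.Char.exists_normal_complement_of_elementary H hG (by
      intro x hx y hy hxy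
      by_cases hx1 : x = 1
      · subst hx1
        exact ⟨1, one_mem H, by rw [(isConj_one_right.1 hxy)]; simp⟩
      obtain ⟨g, hg⟩ := isConj_iff.1 hxy
      have hgN : g ∈ NH := ti_mem_normalizer hTI hx hx1 (hg ▸ hy)
      obtain ⟨⟨⟨k, hk⟩, ⟨h, hh⟩⟩, hkh⟩ := hc.2 ⟨g, hgN⟩
      refine ⟨h, hh, ?_⟩
      have hmem : (h : G) * x * (h : G)⁻¹ ∈ H := mul_mem (mul_mem hh hx) (inv_mem hh)
      have h2 := hKc K hK hc k hk _ hmem
      have hg' : (k : G) * h = g := congrArg Subtype.val hkh
      rw [← hg, ← hg']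
      calc (h : G) * x * (h : G)⁻¹ = ((k : G) * (h * x * (h : G)⁻¹)) * (k : G)⁻¹ := by rw [h2]; group
        _ = _ := by group)
      (by
        intro E p hp _ hE
        obtain ⟨g, hg⟩ := Cfsg.Agent.S4116.result H hG hTI E fun q hq h => h.trans hE
        refine ⟨g⁻¹, ?_⟩
        rintro _ ⟨e, he, rfl⟩
        obtain ⟨h, hh, rfl⟩ := hg he
        simpa [mul_assoc] using hh)
    haveI := hN
    exact ⟨N, hN, isComplement'_of_disjoint_and_mul_eq_univ (disjoint_iff.2 hinf)
      (by rw [← normal_mul, hsup]; rfl)⟩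
  have hbwd : (∃ N : Subgroup G, N.Normal ∧ N.IsComplement' H) →
      ∃ K : Subgroup NH, K.Normal ∧ K.IsComplement' (H.subgroupOf NH) := by
    rintro ⟨N, hN, hc⟩
    haveI := hN
    refine ⟨N.subgroupOf NH, inferInstance, isComplement'_of_disjoint_and_mul_eq_univ ?_ ?_⟩
    · rw [disjoint_iff, eq_bot_iff]
      rintro x ⟨hx1, hx2⟩
      exact mem_bot.2 (Subtype.ext (Subgroup.disjoint_def.1 hc.disjoint hx1 hx2))
    · refine Set.eq_univ_of_forall fun x => ?_
      obtain ⟨⟨⟨a, ha⟩, ⟨h, hh⟩⟩, hah⟩ := hc.2 (x : G)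
      have haN : a ∈ NH := by
        have : a = (x : G) * h⁻¹ := eq_mul_inv_of_mul_eq hah
        rw [this]; exact mul_mem x.2 (inv_mem (hHN hh))
      exact ⟨⟨a, haN⟩, ha, ⟨h, hHN hh⟩, hh, Subtype.ext hah⟩
  refine ⟨⟨hfwd, hbwd⟩, fun hnn hex => ?_⟩
  obtain ⟨N, hN, hc⟩ := hfwd hex
  haveI := hN
  haveI : Nontrivial H := by
    rw [nontrivial_iff_ne_bot]
    rintro rfl
    exact hnn inferInstance
  have hNc : Nat.card N * Nat.card H = Nat.card G := hc.card_mul
  have hcard : Nat.card N = H.index := by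
    refine Nat.eq_of_mul_eq_mul_left (Nat.card_pos (α := H)) ?_
    rw [card_mul_index, mul_comm, hNc]
  -- a prime at which the complement sticks out of the normalizer
  have hne : ¬ N ≤ NH := fun h => hnn (normalizer_eq_top_iff.1 (top_le_iff.1
    (hc.sup_eq_top ▸ sup_le h hHN)))
  obtain ⟨q, hq, hqd⟩ : ∃ q : ℕ, q.Prime ∧ q ∣ NH.relIndex N :=
    Nat.exists_prime_and_dvd fun h => hne (relIndex_eq_one.1 h)
  haveI := Fact.mk hq
  obtain ⟨S⟩ := (inferInstance : Nonempty (Sylow q N))
  set S' := (S : Subgroup N).map N.subtype with hS'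
  -- H normalizes a conjugate of S'
  obtain ⟨g, hg⟩ : ∃ g : G, H.map (MulAut.conj g).toMonoidHom ≤ normalizer (S' : Set G) := by
    set NS := normalizer (S' : Set G) with hNS
    have hfr : NS ⊔ N = ⊤ := Sylow.normalizer_sup_eq_top S
    haveI : (N.subgroupOf NS).Normal := inferInstance
    have hidx : (N.subgroupOf NS).index = Nat.card H := by
      refine Nat.eq_of_mul_eq_mul_left (Nat.card_pos (α := N)) ?_
      rw [hNc, ← card_mul_index N]
      congr 1
      show N.relIndex NS = N.index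
      rw [← relIndex_sup_right, hfr, relIndex_top_right]
    have hco : (Nat.card (N.subgroupOf NS)).Coprime (N.subgroupOf NS).index := by
      rw [hidx]
      refine Nat.Coprime.coprime_dvd_left (card_comap_dvd_of_injective N NS.subtype NS.subtype_injective) ?_
      rw [hcard]
      exact hG.symm
    obtain ⟨B, hB⟩ := exists_right_complement'_of_coprime hco
    have hBc : Nat.card B = Nat.card H := by
      refine Nat.eq_of_mul_eq_mul_left (Nat.card_pos (α := (N.subgroupOf NS))) ?_
      rw [hB.card_mul, ← hidx, card_mul_index]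
    obtain ⟨g, hg⟩ := Cfsg.Agent.S4116.result H hG hTI (B.map NS.subtype) (fun r hr h => by
      rwa [card_map_of_injective NS.subtype_injective, hBc] at h)
    refine ⟨g, ?_⟩
    have heq : B.map NS.subtype = H.map (MulAut.conj g).toMonoidHom := eq_of_le_of_card_ge hg (by
      rw [card_map_of_injective NS.subtype_injective, hBc, card_map_of_injective (MulAut.conj g).injective])
    exact heq ▸ map_subtype_le B
  set Q := S'.map (MulAut.conj g⁻¹).toMonoidHom with hQ
  have hQp : IsPGroup q Q := (S.2.map _).map _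
  have hQN : Q ≤ N := by
    rintro _ ⟨_, ⟨s, -, rfl⟩, rfl⟩
    exact hN.conj_mem _ s.2 _
  have hHQ : H ≤ normalizer (Q : Set G) := by
    intro h hh
    have h1 := hg (mem_map_of_mem (MulAut.conj g).toMonoidHom hh)
    have h2 := mem_map_of_mem (MulAut.conj g⁻¹).toMonoidHom h1
    rw [hQ]
    refine le_normalizer_map _ ?_
    simpa [mul_assoc] using h2
  have hQnot : ¬ Q ≤ NH := by
    intro hle
    have h1 : NH.relIndex N ∣ Q.relIndex N := relIndex_dvd_of_le_left N hle
    have h2 := card_mul_index (Q.subgroupOf N)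
    have hQc : Nat.card (Q.subgroupOf N) = q ^ (Nat.card N).factorization q := by
      rw [Nat.card_congr (subgroupOfEquivOfLe hQN).toEquiv, hQ, card_map_of_injective (MulAut.conj g⁻¹).injective,
        hS', card_map_of_injective N.subtype_injective, S.card_eq_multiplicity]
    let S2 : Sylow q N := Sylow.ofCard _ hQc
    exact S2.not_dvd_index (hqd.trans h1)
  -- work in the normalizer of Q modulo the Frattini subgroup
  set X := normalizer (Q : Set G) with hX
  set Q₀ := Q.subgroupOf X with hQ₀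
  set H₀ := H.subgroupOf X with hH₀
  haveI : Q₀.Normal := normal_in_normalizer
  have hQ₀p : IsPGroup q Q₀ := hQp.of_equiv (subgroupOfEquivOfLe le_normalizer).symm
  haveI := hQ₀p.isNilpotent
  set Φ := (frattini Q₀).map Q₀.subtype with hΦ
  haveI : Φ.Normal := Cfsg.Lib.Core.normal_map_char_of_normal (frattini Q₀)
  set f := QuotientGroup.mk' Φ with hf
  set W := Q₀.map f with hW
  set H₁ := H₀.map f with hH₁
  haveI hWn : W.Normal := Normal.map inferInstance f (QuotientGroup.mk'_surjective Φ)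
  haveI : IsMulCommutative W := ⟨⟨by
    rintro ⟨_, a, ha, rfl⟩ ⟨_, b, hb, rfl⟩
    refine Subtype.ext ?_
    show f a * f b = f b * f a
    rw [← map_mul, ← map_mul, hf, QuotientGroup.mk'_apply, QuotientGroup.mk'_apply, QuotientGroup.eq, hΦ]
    refine ⟨(⟨a, ha⟩ * ⟨b, hb⟩)⁻¹ * (⟨b, hb⟩ * ⟨a, ha⟩), Cfsg.Lib.PGroup.commutator_le_frattini hQ₀p ?_, rfl⟩
    have : ((⟨a, ha⟩ : Q₀) * ⟨b, hb⟩)⁻¹ * (⟨b, hb⟩ * ⟨a, ha⟩) = ⁅(⟨b, hb⟩ : Q₀)⁻¹, (⟨a, ha⟩ : Q₀)⁻¹⁆ := by
      rw [commutatorElement_def]; group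
    rw [this]
    exact commutator_mem_commutator (mem_top _) (mem_top _)⟩⟩
  have hcop0 : ∀ A : Subgroup X, A ≤ H₀ → (Nat.card A).Coprime (Nat.card Q₀) := by
    intro A hA
    rw [hQ₀, Nat.card_congr (subgroupOfEquivOfLe (le_normalizer (H := Q))).toEquiv]
    refine Nat.Coprime.coprime_dvd_left ((card_dvd_of_le hA).trans (dvd_of_eq (Nat.card_congr (subgroupOfEquivOfLe hHQ).toEquiv))) ?_
    refine Nat.Coprime.coprime_dvd_right (card_dvd_of_le hQN) ?_
    rw [hcard]
    exact hG
  have hsolQ : Group.IsSolvable Q₀ := inferInstance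
  -- fixed points of one element are fixed by everything
  have hfix : ∀ h : X, h ∈ H₀ → h ≠ 1 → Q₀ ⊓ centralizer (zpowers h : Set X) ≤ centralizer (H₀ : Set X) := by
    rintro h hh hne1 x ⟨hxQ, hxc⟩
    have hxh := mem_centralizer_iff.1 hxc h (mem_zpowers h)
    have hxN : (x : G) ∈ NH := by
      refine ti_mem_normalizer hTI hh (fun e => hne1 (Subtype.ext e)) ?_
      have : (x : G) * h * (x : G)⁻¹ = h := by
        rw [mul_inv_eq_iff_eq_mul]; exact (congrArg Subtype.val hxh).symm
      show (x : G) * (h : G) * (x : G)⁻¹ ∈ H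
      rw [this]; exact hh
    rw [mem_centralizer_iff]
    intro k hk
    refine Subtype.ext ?_
    show (k : G) * x = x * k
    have hmem : (x : G) * k * (x : G)⁻¹ * (k : G)⁻¹ ∈ N ⊓ H := by
      refine ⟨?_, H.mul_mem ((mem_normalizer_iff.1 hxN _).1 hk) (H.inv_mem hk)⟩
      have := N.mul_mem (hQN hxQ) (hN.conj_mem _ (N.inv_mem (hQN hxQ)) (k : G))
      simpa [mul_assoc] using this
    rw [hc.disjoint.eq_bot, mem_bot, mul_inv_eq_one, mul_inv_eq_iff_eq_mul] at hmem
    exact hmem.symm
  have hH₁le : H₁ ≤ normalizer (W : Set (X ⧸ Φ)) := le_top.trans_eq (normalizer_eq_top_iff.2 hWn).symm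
  have hcopW : (Nat.card H₁).Coprime (Nat.card W) :=
    ((hcop0 H₀ le_rfl).coprime_dvd_left (card_map_dvd _ _)).coprime_dvd_right (card_map_dvd _ _)
  have hdis := Cfsg.Lib.Coprime.disjoint_commutator_centralizer hH₁le hcopW
  set V := ⁅W, H₁⁆ with hV
  have hVW : V ≤ W := Cfsg.Lib.Coprime.commutator_le_of_le_normalizer hH₁le
  have hVne : V ≠ ⊥ := by
    intro hbot
    have hWc : W ≤ centralizer (H₁ : Set (X ⧸ Φ)) := commutator_eq_bot_iff_le_centralizer.1 hbot
    have heq := Cfsg.Lib.Coprime.map_inf_centralizer_eq (A := H₀) (G := Q₀) f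
      (le_top.trans_eq (normalizer_eq_top_iff.2 inferInstance).symm) (hcop0 H₀ le_rfl) (Or.inr hsolQ)
    rw [← hW, ← hH₁, inf_eq_left.2 hWc] at heq
    have htop : (Q₀ ⊓ centralizer (H₀ : Set X)).subgroupOf Q₀ ⊔ frattini Q₀ = ⊤ := by
      rw [eq_top_iff]
      rintro y -
      obtain ⟨c, hc', hcy⟩ := heq.ge (mem_map_of_mem f y.2)
      have hd : c⁻¹ * (y : X) ∈ Φ := QuotientGroup.eq.1 hcy
      obtain ⟨w, hw, hwy⟩ := hd
      have : y = ⟨c, hc'.1⟩ * w := Subtype.ext (by
        show (y : X) = c * w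
        rw [show (w : X) = c⁻¹ * y from hwy, mul_inv_cancel_left])
      rw [this]
      exact mul_mem (mem_sup_left hc') (mem_sup_right hw)
    have hall := frattini_nongenerating htop
    apply hQnot
    intro x hx
    have hxc : (⟨x, le_normalizer hx⟩ : X) ∈ Q₀ ⊓ centralizer (H₀ : Set X) :=
      (hall ▸ mem_top _ : (⟨⟨x, le_normalizer hx⟩, hx⟩ : Q₀) ∈ (Q₀ ⊓ centralizer (H₀ : Set X)).subgroupOf Q₀)
    refine Subgroup.centralizer_le_normalizer _ (mem_centralizer_iff.2 fun k hk => ?_)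
    exact congrArg Subtype.val (mem_centralizer_iff.1 hxc.2 ⟨k, hHQ hk⟩ hk)
  -- the action of H on V
  haveI : Nontrivial V := by rwa [nontrivial_iff_ne_bot]
  have hHV : H₁ ≤ normalizer (V : Set (X ⧸ Φ)) := Subgroup.normalizer_commutator_ge_right W H₁
  let ι : H →* normalizer (V : Set (X ⧸ Φ)) :=
    { toFun := fun h => ⟨f ⟨h, hHQ h.2⟩, hHV (mem_map_of_mem f (show (⟨h, hHQ h.2⟩ : X) ∈ H₀ from h.2))⟩
      map_one' := Subtype.ext (map_one f)
      map_mul' := fun a b => Subtype.ext (map_mul f ⟨a, hHQ a.2⟩ ⟨b, hHQ b.2⟩) }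
  refine complement_of_fpf ((Subgroup.normalizerMonoidHom V).comp ι) fun b hb v hv => ?_
  have hv' : f ⟨b, hHQ b.2⟩ * (v : X ⧸ Φ) * (f ⟨b, hHQ b.2⟩)⁻¹ = v := congrArg Subtype.val hv
  set bx : X := ⟨b, hHQ b.2⟩
  have hbx : bx ≠ 1 := fun e => hb (Subtype.ext (by simpa [bx] using congrArg (fun z : X => (z : G)) e))
  have heq := Cfsg.Lib.Coprime.map_inf_centralizer_eq (A := zpowers bx) (G := Q₀) f
    (le_top.trans_eq (normalizer_eq_top_iff.2 inferInstance).symm)
    (hcop0 _ (zpowers_le.2 b.2)) (Or.inr hsolQ)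
  have hvc : (v : X ⧸ Φ) ∈ (Q₀ ⊓ centralizer (zpowers bx : Set X)).map f := by
    rw [heq]
    refine ⟨hVW v.2, mem_centralizer_iff.2 ?_⟩
    rintro _ ⟨_, ⟨i, rfl⟩, rfl⟩
    show f (bx ^ i) * v = v * f (bx ^ i)
    rw [map_zpow]
    exact (Commute.zpow_left (mul_inv_eq_iff_eq_mul.1 hv') i).eq
  obtain ⟨x, hx, hxv⟩ := hvc
  have hvH : (v : X ⧸ Φ) ∈ centralizer (H₁ : Set (X ⧸ Φ)) := by
    rw [← hxv]
    exact map_centralizer_le_centralizer_image _ _ (mem_map_of_mem f (hfix bx b.2 hbx hx))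
  exact Subtype.ext (Subgroup.disjoint_def.1 hdis v.2 hvH)

end Cfsg.Agent.S4115
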