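import Cfsg.Statements.S4117
import Cfsg.Agent.Lib.Coprime.Action
import Mathlib.GroupTheory.SemidirectProduct
import Mathlib.GroupTheory.SpecificGroups.ZGroup
import Mathlib.GroupTheory.SchurZassenhaus

set_option linter.style.haveILetI false

set_option autoImplicit false
open Cfsg

namespace Cfsg.Agent.S4117

open Subgroup
open scoped commutatorElement

variable {A G : Type*} [Group A] [Group G] [MulDistribMulAction A G]

/-- Invariance under the acting group. -/
def InvA (A : Type*) {G : Type*} [Group A] [Group G] [MulDistribMulAction A G] (H : Subgroup G) : Prop :=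
  ∀ a : A, ∀ x ∈ H, a • x ∈ H

/-- The fixed point subgroup. -/
def fixS (A G : Type*) [Group A] [Group G] [MulDistribMulAction A G] : Subgroup G where
  carrier := MulAction.fixedPoints A G
  one_mem' := fun a => smul_one a
  mul_mem' := fun hx hy a => by rw [smul_mul', hx a, hy a]
  inv_mem' := fun hx a => by rw [smul_inv', hx a]

/-- `[H, A]`. -/
def bra (A : Type*) {G : Type*} [Group A] [Group G] [MulDistribMulAction A G] (H : Subgroup G) : Subgroup G :=
  closure {y | ∃ (a : A) (h : G), h ∈ H ∧ y = h⁻¹ * a • h}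

theorem bra_le {H : Subgroup G} (hH : InvA A H) : bra A H ≤ H :=
  (closure_le _).mpr (by rintro _ ⟨a, h, hh, rfl⟩; exact H.mul_mem (H.inv_mem hh) (hH a h hh))

/-- Coprime action on an invariant abelian subgroup. -/
theorem abelian_decomp [Finite A] [Finite G] (hcop : (Nat.card A).Coprime (Nat.card G))
    {H : Subgroup G} (hH : InvA A H) [hc : IsMulCommutative H] :
    H ≤ bra A H ⊔ fixS A G ∧ bra A H ⊓ fixS A G = ⊥ := by
  classical
  haveI := Fintype.ofFinite A
  letI : CommGroup H := { (inferInstance : Group H) with mul_comm := hc.is_comm.comm }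
  let σ : A → H → H := fun a h => ⟨a • (h : G), hH a _ h.2⟩
  let θ : H →* H := MonoidHom.mk' (fun h => ∏ a : A, σ a h) fun x y => by
    rw [← Finset.prod_mul_distrib]
    exact Finset.prod_congr rfl fun a _ => Subtype.ext (smul_mul' a (x : G) (y : G))
  have hn : (Nat.card H).Coprime (Nat.card A) :=
    (hcop.coprime_dvd_right (card_subgroup_dvd_card H)).symm
  have hθσ : ∀ (b : A) (h : H), θ (σ b h) = θ h := fun b h =>
    Fintype.prod_equiv (Equiv.mulRight b) _ _ fun a => Subtype.ext (mul_smul a b (h : G)).symm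
  have hθfix : ∀ h : H, ((θ h : H) : G) ∈ fixS A G := fun h b => by
    have e : σ b (θ h) = θ h := by
      show σ b (∏ a : A, σ a h) = ∏ a : A, σ a h
      let τ : H →* H := MonoidHom.mk' (σ b) fun x y => Subtype.ext (smul_mul' b (x : G) (y : G))
      show τ (∏ a : A, σ a h) = _
      rw [map_prod]
      exact Fintype.prod_equiv (Equiv.mulLeft b) _ _ fun a => Subtype.ext (mul_smul b a (h : G)).symm
    exact congrArg Subtype.val e
  refine ⟨fun x hx => ?_, ?_⟩
  · obtain ⟨y, hy⟩ := (powCoprime hn).surjective ⟨x, hx⟩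
    have hsplit : y ^ Nat.card A = θ y * ∏ a : A, (y⁻¹ * σ a y)⁻¹ := by
      show _ = (∏ a : A, σ a y) * _
      rw [← Finset.prod_mul_distrib, Nat.card_eq_fintype_card, ← Finset.card_univ, ← Finset.prod_const]
      exact Finset.prod_congr rfl fun a _ => by rw [mul_inv_rev, inv_inv, mul_inv_cancel_left]
    have hx' : x = ((y ^ Nat.card A : H) : G) := congrArg Subtype.val hy.symm
    rw [hx', hsplit, Subgroup.coe_mul]
    exact mul_mem (mem_sup_right (hθfix y)) (mem_sup_left (mem_subgroupOf.mp
      (prod_mem fun a _ => inv_mem (mem_subgroupOf.mpr (subset_closure ⟨a, y, y.2, rfl⟩)))))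
  · refine eq_bot_iff.mpr fun x hx => ?_
    have hle : bra A H ≤ θ.ker.map H.subtype := (closure_le _).mpr (by
      rintro _ ⟨a, h, hh, rfl⟩
      refine ⟨(⟨h, hh⟩ : H)⁻¹ * σ a ⟨h, hh⟩, ?_, rfl⟩
      rw [SetLike.mem_coe, MonoidHom.mem_ker, map_mul, map_inv, hθσ, inv_mul_cancel])
    obtain ⟨y, hy, rfl⟩ := hle hx.1
    have h1 : y ^ Nat.card A = 1 := by
      have h2 : θ y = y ^ Nat.card A := by
        show ∏ a : A, σ a y = _
        rw [Finset.prod_congr rfl fun a _ => (Subtype.ext (hx.2 a) : σ a y = y), Finset.prod_const,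
          Finset.card_univ, Nat.card_eq_fintype_card]
      rw [← h2]; exact hy
    have : y = 1 := (powCoprime hn).injective (h1.trans (one_pow _).symm)
    simp [this]

/-- An invariant complement of an invariant normal solvable Hall subgroup. -/
theorem exists_invA_complement [Finite A] [Finite G] (hcop : (Nat.card A).Coprime (Nat.card G))
    (hsolG : Group.IsSolvable G) (D : Subgroup G) [D.Normal] (hD : InvA A D)
    (hDc : (Nat.card D).Coprime D.index) :
    ∃ K : Subgroup G, InvA A K ∧ IsComplement' D K := by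
  let φ := MulDistribMulAction.toMulAut A G
  let il : G →* G ⋊[φ] A := SemidirectProduct.inl
  let ir : A →* G ⋊[φ] A := SemidirectProduct.inr
  have hil : Function.Injective il := SemidirectProduct.inl_injective
  haveI : Finite (G ⋊[φ] A) := Finite.of_equiv _ SemidirectProduct.equivProd.symm
  have hA : Nat.card ir.range = Nat.card A :=
    Nat.card_congr (MonoidHom.ofInjective SemidirectProduct.inr_injective).symm.toEquiv
  have hG : Nat.card il.range = Nat.card G :=
    Nat.card_congr (MonoidHom.ofInjective hil).symm.toEquiv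
  have hn : ir.range ≤ normalizer (il.range : Set (G ⋊[φ] A)) := by
    haveI : il.range.Normal := by
      rw [show il.range = SemidirectProduct.rightHom.ker from SemidirectProduct.range_inl_eq_ker_rightHom]
      infer_instance
    rw [normalizer_eq_top]; exact le_top
  have hs : Group.IsSolvable ir.range ∨ Group.IsSolvable il.range :=
    Or.inr (Group.isSolvable_of_surjective il.rangeRestrict_surjective)
  obtain ⟨K₀, hK₀⟩ := exists_right_complement'_of_coprime hDc
  have hact : ∀ (a : A) (x : G), il (a • x) = ir a * il x * (ir a)⁻¹ := fun a x => by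
    rw [← map_inv]; exact SemidirectProduct.inl_aut (φ := φ) a x
  obtain ⟨g, hg, hinv⟩ := Cfsg.Lib.Coprime.exists_conj_invariant hn (by rw [hA, hG]; exact hcop) hs
    (K₀.map il) (by
      rintro _ ⟨a, rfl⟩
      have hB : (K₀.map (MulDistribMulAction.toMonoidHom G a)) ≤ D ⊔ K₀ := hK₀.sup_eq_top ▸ le_top
      have hcard : Nat.card (K₀.map (MulDistribMulAction.toMonoidHom G a)) = Nat.card K₀ :=
        card_map_of_injective (MulAction.injective a)
      obtain ⟨n, -, hn'⟩ := Cfsg.Lib.Coprime.exists_conj_of_coprime D K₀ _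
        (by rw [normalizer_eq_top]; exact le_top)
        (by rw [← hK₀.symm.index_eq_card]; exact hDc.symm) (Or.inr inferInstance) hB hcard
      refine ⟨il n, ⟨n, rfl⟩, ?_⟩
      rw [Subgroup.map_map, Subgroup.map_map,
        show (MulAut.conj (ir a)).toMonoidHom.comp il = il.comp (MulDistribMulAction.toMonoidHom G a)
          from MonoidHom.ext fun x => (hact a x).symm,
        ← Subgroup.map_map, hn', Subgroup.map_map]
      congr 1
      refine MonoidHom.ext fun x => ?_
      show il (n * x * n⁻¹) = il n * il x * (il n)⁻¹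
      simp)
  obtain ⟨g₀, rfl⟩ := hg
  refine ⟨K₀.map (MulAut.conj g₀).toMonoidHom, fun a x hx => ?_, ?_⟩
  · have h2 : il (a • x) ∈ (K₀.map il).map (MulAut.conj (il g₀)).toMonoidHom := by
      rw [hact]
      refine (mem_normalizer_iff.mp (hinv ⟨a, rfl⟩) (il x)).mp ?_
      obtain ⟨k, hk, rfl⟩ := hx
      exact ⟨il k, ⟨k, hk, rfl⟩, by simp⟩
    obtain ⟨_, ⟨k, hk, rfl⟩, he⟩ := h2
    exact ⟨k, hk, hil (by rw [← he]; simp)⟩
  · refine isComplement'_of_coprime ?_ ?_
    · rw [show Nat.card (K₀.map (MulAut.conj g₀).toMonoidHom) = Nat.card K₀ from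
        card_map_of_injective (MulAut.conj g₀).injective, hK₀.card_mul]
    · rw [show Nat.card (K₀.map (MulAut.conj g₀).toMonoidHom) = Nat.card K₀ from
        card_map_of_injective (MulAut.conj g₀).injective, ← hK₀.symm.index_eq_card]
      exact hDc

/-- In a group with cyclic Sylow subgroups a normal subgroup and a disjoint subgroup have coprime orders. -/
theorem coprime_of_disjoint [Finite G]
    (hcyc : ∀ (p : ℕ) [Fact p.Prime] (P : Sylow p G), IsCyclic (P : Subgroup G))
    (R C : Subgroup G) [hR : R.Normal] (hRC : R ⊓ C = ⊥) :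
    (Nat.card C).Coprime (Nat.card R) := by
  classical
  refine Nat.coprime_of_dvd fun q hq hqC hqR => ?_
  haveI : Fact q.Prime := ⟨hq⟩
  obtain ⟨c, hc⟩ := exists_prime_orderOf_dvd_card' q hqC
  obtain ⟨r, hr⟩ := exists_prime_orderOf_dvd_card' q hqR
  have hpg : ∀ x : G, orderOf x = q → IsPGroup q (zpowers x) := fun x hx =>
    IsPGroup.of_card (n := 1) (by rw [Nat.card_zpowers, hx, pow_one])
  obtain ⟨P, hP⟩ := (hpg c (by rw [orderOf_coe, hc])).exists_le_sylow
  obtain ⟨P', hP'⟩ := (hpg r (by rw [orderOf_coe, hr])).exists_le_sylow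
  obtain ⟨g, hg⟩ := MulAction.exists_smul_eq G P' P
  have hr' : g * r * g⁻¹ ∈ (P : Subgroup G) := by
    rw [← hg, Sylow.coe_subgroup_smul]
    exact Subgroup.smul_mem_pointwise_smul _ (MulAut.conj g) _ (hP' (mem_zpowers _))
  haveI := Fintype.ofFinite (P : Subgroup G)
  haveI := hcyc q P
  set y : (P : Subgroup G) := ⟨g * r * g⁻¹, hr'⟩ with hy
  have hyq : orderOf y = q := by
    rw [hy, orderOf_mk]
    exact ((MulAut.conj g).orderOf_eq (r : G)).trans (by rw [orderOf_coe, hr])
  set x : (P : Subgroup G) := ⟨c, hP (mem_zpowers _)⟩ with hx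
  have hxq : orderOf x = q := by rw [hx, orderOf_mk, orderOf_coe, hc]
  have hy1 : y ^ q = 1 := by simpa [hyq] using pow_orderOf_eq_one y
  have hx1 : x ^ q = 1 := by simpa [hxq] using pow_orderOf_eq_one x
  have hsub : (zpowers y : Set _).toFinset ⊆ Finset.univ.filter (fun z : (P : Subgroup G) => z ^ q = 1) := by
    intro z hz
    rw [Set.mem_toFinset] at hz
    obtain ⟨k, rfl⟩ := mem_zpowers_iff.mp hz
    rw [Finset.mem_filter]
    exact ⟨Finset.mem_univ _, by rw [← zpow_natCast, ← zpow_mul, mul_comm, zpow_mul, zpow_natCast, hy1, one_zpow]⟩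
  have heq := Finset.eq_of_subset_of_card_le hsub (by
    rw [Set.toFinset_card, ← Nat.card_eq_fintype_card]
    exact (IsCyclic.card_pow_eq_one_le hq.pos).trans ((Nat.card_zpowers y).trans hyq).ge)
  have hmem : x ∈ zpowers y := by
    have : x ∈ (zpowers y : Set _).toFinset := by
      rw [heq, Finset.mem_filter]; exact ⟨Finset.mem_univ _, hx1⟩
    exact Set.mem_toFinset.mp this
  obtain ⟨k, hk⟩ := mem_zpowers_iff.mp hmem
  have hcR : (c : G) ∈ R := by
    rw [show (c : G) = ((y ^ k : (P : Subgroup G)) : G) by rw [hk, hx], coe_zpow]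
    exact zpow_mem (hR.conj_mem _ r.2 g) k
  have hc1 : (c : G) = 1 := mem_bot.mp (hRC ▸ mem_inf.mpr ⟨hcR, c.2⟩)
  rw [← orderOf_coe, hc1, orderOf_one] at hc
  exact hq.one_lt.ne hc

/-- Let A be a finite group acting on the finite group G by automorphisms with the orders of A and G coprime, and suppose every Sylow subgroup of G is cyclic. Then the fixed-point subgroup C_G(A) is a Hall subgroup of G (its order is coprime to its index), the subgroup [G, A] generated by the elements g⁻¹·a(g) is cyclic and normal with [G, A] ∩ C_G(A) = 1 and [G, A]·C_G(A) = G. -/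
theorem result {G A : Type*} [Group G] [Finite G] [Group A] [Finite A]
    [MulDistribMulAction A G] (hcop : (Nat.card A).Coprime (Nat.card G))
    (hcyc : ∀ (p : ℕ) [Fact p.Prime] (P : Sylow p G), IsCyclic (P : Subgroup G)) :
    (Nat.card (MulAction.fixedPoints A G : Set G)).Coprime (Nat.card G / Nat.card (MulAction.fixedPoints A G : Set G)) ∧
    IsCyclic (Subgroup.closure {y : G | ∃ (a : A) (g : G), y = g⁻¹ * a • g}) ∧
    (Subgroup.closure {y : G | ∃ (a : A) (g : G), y = g⁻¹ * a • g}).Normal ∧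
    (Subgroup.closure {y : G | ∃ (a : A) (g : G), y = g⁻¹ * a • g} : Set G) ∩ MulAction.fixedPoints A G = {1} ∧
    Subgroup.closure {y : G | ∃ (a : A) (g : G), y = g⁻¹ * a • g} ⊔ Subgroup.closure (MulAction.fixedPoints A G) = ⊤ := by
  haveI hZ : IsZGroup G := ⟨fun p hp P => haveI := Fact.mk hp; hcyc p P⟩
  set D := commutator G with hDdef
  haveI : IsCyclic D := IsZGroup.isCyclic_commutator G
  have hDinv : InvA A D := fun a x hx => by
    have h : D.map (MulDistribMulAction.toMulEquiv G a).toMonoidHom = D :=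
      characteristic_iff_map_eq.mp inferInstance _
    exact h.le ⟨x, hx, rfl⟩
  obtain ⟨K, hKinv, hK⟩ := exists_invA_complement hcop inferInstance D hDinv
    (IsZGroup.coprime_commutator_index G)
  have hDK : (Nat.card D).Coprime (Nat.card K) := by
    rw [← hK.symm.index_eq_card]; exact (IsZGroup.coprime_commutator_index G)
  have hKcomm : ∀ k₁ ∈ K, ∀ k₂ ∈ K, k₁ * k₂ = k₂ * k₁ := fun k₁ h₁ k₂ h₂ => by
    have h3 : ⁅k₁, k₂⁆ ∈ D ⊓ K := ⟨commutator_mem_commutator (mem_top _) (mem_top _), by
      rw [commutatorElement_def]; exact K.mul_mem (K.mul_mem (K.mul_mem h₁ h₂) (K.inv_mem h₁)) (K.inv_mem h₂)⟩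
    rw [hK.disjoint.eq_bot, mem_bot] at h3
    exact commutatorElement_eq_one_iff_mul_comm.mp h3
  haveI : IsMulCommutative K := ⟨⟨fun a b => Subtype.ext (hKcomm a a.2 b b.2)⟩⟩
  haveI : IsMulCommutative D := IsCyclic.isMulCommutative
  -- `[K, A]` is central
  have hcentD : ∀ (a : A) (k : G), k ∈ K → ∀ d ∈ D, d * (k⁻¹ * a • k) = (k⁻¹ * a • k) * d := by
    intro a k hk d hd
    -- conjugation by `k` is a power map on `D`
    obtain ⟨m, hm⟩ := MonoidHom.map_cyclic ((MulAut.conjNormal (H := D) k).toMonoidHom)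
    have hk' : ∀ e ∈ D, k * e * k⁻¹ = e ^ m := fun e he => by
      simpa using congrArg Subtype.val (hm ⟨e, he⟩)
    have hak : ∀ e ∈ D, (a • k) * e * (a • k)⁻¹ = e ^ m := fun e he => by
      have h := congrArg (fun z => a • z) (hk' (a⁻¹ • e) (hDinv a⁻¹ e he))
      have hz : a • ((a⁻¹ • e) ^ m) = (a • (a⁻¹ • e)) ^ m :=
        map_zpow (MulDistribMulAction.toMonoidHom G a) _ m
      simp only [smul_mul', smul_inv', smul_inv_smul, hz] at h
      exact h
    have h1 := hk' d hd
    have h2 := hak d hd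
    calc d * (k⁻¹ * a • k) = k⁻¹ * (k * d * k⁻¹) * a • k := by group
      _ = k⁻¹ * ((a • k) * d * (a • k)⁻¹) * a • k := by rw [h1, h2]
      _ = (k⁻¹ * a • k) * d := by group
  have hKcent : bra A K ≤ center G := (closure_le _).mpr (by
    rintro _ ⟨a, k, hk, rfl⟩
    rw [SetLike.mem_coe, mem_center_iff]
    intro g
    obtain ⟨⟨d, k'⟩, he⟩ := hK.2 g
    simp only at he
    have hkk := K.mul_mem (K.inv_mem hk) (hKinv a k hk)
    rw [← he, mul_assoc, hKcomm _ k'.2 _ hkk, ← mul_assoc, hcentD a k hk _ d.2, mul_assoc])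
  haveI hKn : (bra A K).Normal := ⟨fun x hx g => by
    rw [mem_center_iff.mp (hKcent hx) g, mul_inv_cancel_right]; exact hx⟩
  -- `[D, A]` is normal
  haveI hDn : (bra A D).Normal := ⟨fun x hx g => by
    obtain ⟨m, hm⟩ := MonoidHom.map_cyclic ((MulAut.conjNormal (H := D) g).toMonoidHom)
    have h : g * x * g⁻¹ = x ^ m := by simpa using congrArg Subtype.val (hm ⟨x, bra_le hDinv hx⟩)
    rw [h]; exact zpow_mem hx m⟩
  obtain ⟨hD1, hD2⟩ := abelian_decomp hcop hDinv
  obtain ⟨hK1, hK2⟩ := abelian_decomp hcop hKinv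
  set R := closure {y : G | ∃ (a : A) (g : G), y = g⁻¹ * a • g} with hRdef
  have hR : R = bra A D ⊔ bra A K := by
    refine le_antisymm ((closure_le _).mpr ?_) (sup_le ?_ ?_)
    · rintro _ ⟨a, g, rfl⟩
      obtain ⟨⟨d, k⟩, rfl⟩ := hK.2 g
      simp only
      rw [show ((d : G) * k)⁻¹ * a • ((d : G) * k) =
          (k : G)⁻¹ * ((d : G)⁻¹ * a • (d : G)) * (k : G)⁻¹⁻¹ * ((k : G)⁻¹ * a • (k : G)) by
        rw [smul_mul']; group]
      exact mul_mem (mem_sup_left (hDn.conj_mem _ (subset_closure ⟨a, _, d.2, rfl⟩) _))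
        (mem_sup_right (subset_closure ⟨a, _, k.2, rfl⟩))
    · exact closure_mono fun y ⟨a, h, _, e⟩ => ⟨a, h, e⟩
    · exact closure_mono fun y ⟨a, h, _, e⟩ => ⟨a, h, e⟩
  haveI hRn : R.Normal := hR ▸ inferInstance
  have hdisj : R ⊓ fixS A G = ⊥ := by
    refine eq_bot_iff.mpr fun x hx => ?_
    obtain ⟨hxR, hxC⟩ := hx
    rw [hR] at hxR
    obtain ⟨u, hu, v, hv, rfl⟩ := mem_sup_of_normal_left.mp hxR
    have hfix : ∀ a : A, a • u = u ∧ a • v = v := fun a => by
      have h := hxC a
      rw [smul_mul'] at h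
      have := @hK.1 (⟨a • u, hDinv a u (bra_le hDinv hu)⟩, ⟨a • v, hKinv a v (bra_le hKinv hv)⟩)
        (⟨u, bra_le hDinv hu⟩, ⟨v, bra_le hKinv hv⟩) h
      simpa [Prod.ext_iff, Subtype.ext_iff] using this
    have hu1 : u = 1 := mem_bot.mp (hD2 ▸ mem_inf.mpr ⟨hu, fun a => (hfix a).1⟩)
    have hv1 : v = 1 := mem_bot.mp (hK2 ▸ mem_inf.mpr ⟨hv, fun a => (hfix a).2⟩)
    rw [hu1, hv1, one_mul]; exact one_mem _
  have hsup : R ⊔ fixS A G = ⊤ := by
    rw [eq_top_iff, ← hK.sup_eq_top, hR]
    exact sup_le (hD1.trans (sup_le_sup_right le_sup_left _)) (hK1.trans (sup_le_sup_right le_sup_right _))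
  have hcompl : IsComplement' R (fixS A G) := isComplement'_of_disjoint_and_mul_eq_univ
    (disjoint_iff.mpr hdisj) (by rw [← normal_mul, hsup]; rfl)
  have hcop' := coprime_of_disjoint hcyc R (fixS A G) hdisj
  refine ⟨?_, ?_, hRn, ?_, ?_⟩
  · show (Nat.card (fixS A G)).Coprime (Nat.card G / Nat.card (fixS A G))
    rw [← hcompl.card_mul, Nat.mul_div_cancel _ Nat.card_pos]
    exact hcop'
  · haveI : IsCyclic K := by
      haveI : IsZGroup K := inferInstance
      letI : CommGroup K := { (inferInstance : Group K) with mul_comm := fun a b => Subtype.ext (hKcomm a a.2 b b.2) }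
      haveI : Group.IsNilpotent K := inferInstance
      infer_instance
    haveI : IsCyclic (bra A D) := isCyclic_of_injective (inclusion (bra_le hDinv)) (inclusion_injective _)
    haveI : IsCyclic (bra A K) := isCyclic_of_injective (inclusion (bra_le hKinv)) (inclusion_injective _)
    obtain ⟨x, hx⟩ := (Subgroup.isCyclic_iff_exists_zpowers_eq_top (bra A D)).mp inferInstance
    obtain ⟨y, hy⟩ := (Subgroup.isCyclic_iff_exists_zpowers_eq_top (bra A K)).mp inferInstance
    refine (Subgroup.isCyclic_iff_exists_zpowers_eq_top R).mpr ⟨x * y, ?_⟩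
    rw [hR, ← hx, ← hy]
    have hcomm : Commute x y := by
      have hyc : y ∈ center G := hKcent (hy ▸ mem_zpowers y)
      exact mem_center_iff.mp hyc x
    have hox : (orderOf x).Coprime (orderOf y) := by
      rw [← Nat.card_zpowers, ← Nat.card_zpowers, hx, hy]
      exact (hDK.coprime_dvd_left (card_dvd_of_le (bra_le hDinv))).coprime_dvd_right
        (card_dvd_of_le (bra_le hKinv))
    refine le_antisymm (zpowers_le.mpr (mul_mem_sup (mem_zpowers x) (mem_zpowers y))) (sup_le ?_ ?_)
    · obtain ⟨m, hm⟩ := exists_pow_eq_self_of_coprime (x := x) (n := orderOf y) hox.symm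
      rw [zpowers_le]
      have hmem : x ^ orderOf y ∈ zpowers (x * y) := by
        have := pow_mem (mem_zpowers (x * y)) (orderOf y)
        rwa [hcomm.mul_pow, pow_orderOf_eq_one, mul_one] at this
      have := pow_mem hmem m
      rwa [hm] at this
    · obtain ⟨m, hm⟩ := exists_pow_eq_self_of_coprime (x := y) (n := orderOf x) hox
      rw [zpowers_le]
      have hmem : y ^ orderOf x ∈ zpowers (x * y) := by
        have := pow_mem (mem_zpowers (x * y)) (orderOf x)
        rwa [hcomm.mul_pow, pow_orderOf_eq_one, one_mul] at this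
      have := pow_mem hmem m
      rwa [hm] at this
  · ext x
    refine ⟨fun hx => mem_bot.mp (hdisj ▸ (mem_inf.mpr ⟨hx.1, hx.2⟩ : x ∈ R ⊓ fixS A G)), ?_⟩
    rintro rfl
    exact ⟨one_mem R, fun a => smul_one a⟩
  · rw [show closure (MulAction.fixedPoints A G) = fixS A G from closure_eq (fixS A G), hsup]

end Cfsg.Agent.S4117
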