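import Cfsg.Statements.S4118
import Cfsg.Agent.Lib.Core.Cores
import Cfsg.Agent.Lib.Core.Basic
import Cfsg.Agent.Lib.Core.Fitting
import Cfsg.Agent.Lib.Core.Layer
import Cfsg.Agent.Lib.Fusion.Basic
import Cfsg.Agent.Lib.Fusion.Alperin
import Cfsg.Agent.Lib.Coprime.Action
import Cfsg.Agent.Lib.Perm.Zas25.Complement
import Cfsg.Agent.Lib.Dickson.Solvable
import Cfsg.Agent.S3742
-- import your own Cfsg.Agent.* helpers here

set_option autoImplicit false
open Cfsg

namespace Cfsg.Agent.S4118

universe u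

open Subgroup
open scoped commutatorElement

section Aut

variable {X : Type*} [Group X] [Finite X]

/-- Automorphisms fixing a self-centralizing normal subgroup pointwise commute. -/
theorem commute_of_fix (M : Subgroup X) [hMn : M.Normal] (hC : centralizer (M : Set X) ≤ M)
    (a b : MulAut X) (ha : ∀ m ∈ M, a m = m) (hb : ∀ m ∈ M, b m = m) : a * b = b * a := by
  have hz : ∀ a : MulAut X, (∀ m ∈ M, a m = m) → ∀ h, h⁻¹ * a h ∈ centralizer (M : Set X) := by
    intro a ha h
    refine mem_centralizer_iff.2 fun m hm => ?_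
    have e : a h * m * (a h)⁻¹ = h * m * h⁻¹ := by
      have := ha _ (hMn.conj_mem m hm h)
      rwa [map_mul, map_mul, map_inv, ha m hm] at this
    calc m * (h⁻¹ * a h) = h⁻¹ * (h * m * h⁻¹) * a h := by group
      _ = h⁻¹ * (a h * m * (a h)⁻¹) * a h := by rw [e]
      _ = h⁻¹ * a h * m := by group
  refine MulEquiv.ext fun h => ?_
  have h1 : h⁻¹ * a h ∈ centralizer (M : Set X) := hz a ha h
  have h2 : h⁻¹ * b h ∈ centralizer (M : Set X) := hz b hb h
  have e1 : a (b h) = a h * (h⁻¹ * b h) := by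
    conv_lhs => rw [show b h = h * (h⁻¹ * b h) by group, map_mul, ha _ (hC h2)]
  have e2 : b (a h) = b h * (h⁻¹ * a h) := by
    conv_lhs => rw [show a h = h * (h⁻¹ * a h) by group, map_mul, hb _ (hC h1)]
  rw [MulAut.mul_apply, MulAut.mul_apply, e1, e2]
  have h3 := mem_centralizer_iff.1 h1 _ (hC h2)
  calc a h * (h⁻¹ * b h) = h * ((h⁻¹ * a h) * (h⁻¹ * b h)) := by group
    _ = h * ((h⁻¹ * b h) * (h⁻¹ * a h)) := by rw [h3]
    _ = b h * (h⁻¹ * a h) := by group

/-- Restriction of automorphisms to an invariant subgroup. -/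
noncomputable def restr (M : Subgroup X) (hM : ∀ (a : MulAut X), ∀ m ∈ M, a m ∈ M) :
    MulAut X →* MulAut M :=
  MonoidHom.mk'
    (fun a =>
      { toFun := fun m => ⟨a m, hM a m m.2⟩
        invFun := fun m => ⟨a.symm m, hM a⁻¹ m m.2⟩
        left_inv := fun m => Subtype.ext (a.symm_apply_apply m)
        right_inv := fun m => Subtype.ext (a.apply_symm_apply m)
        map_mul' := fun x y => Subtype.ext (map_mul a (x : X) y) })
    fun a b => MulEquiv.ext fun m => rfl

theorem solvable_of_commutative {K : Type*} [Group K] (h : ∀ a b : K, a * b = b * a) :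
    Group.IsSolvable K := Group.isSolvable_of_comm h

theorem solvable_mulAut_cyclic (P : Type*) [Group P] [Finite P] [IsCyclic P] :
    Group.IsSolvable (MulAut P) := by
  have e := IsCyclic.mulAutMulEquiv P
  refine solvable_of_commutative fun a b => e.injective ?_
  rw [map_mul, map_mul, mul_comm]

theorem solvable_mulAut_quaternion {n : ℕ} (hn : 1 ≤ n) :
    Group.IsSolvable (MulAut (QuaternionGroup (2 ^ n))) := by
  rcases eq_or_lt_of_le hn with h | h
  · subst h
    obtain ⟨e4⟩ := Cfsg.Agent.S3742.result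
    exact Cfsg.Lib.Dickson.isSolvable_congr e4 Cfsg.Lib.Dickson.isSolvable_perm_four
  haveI : NeZero (2 ^ n) := ⟨pow_ne_zero _ two_ne_zero⟩
  have h4 : 2 ^ 2 ≤ 2 ^ n := Nat.pow_le_pow_right (by norm_num) h
  generalize 2 ^ n = m at *
  set M : Subgroup (QuaternionGroup m) := zpowers (QuaternionGroup.a 1) with hM
  have hmem : ∀ i, QuaternionGroup.a i ∈ M := fun i => ⟨(i.val : ℤ), by
    simp only [zpow_natCast, QuaternionGroup.a_one_pow, ZMod.natCast_zmod_val]⟩
  have hxa : ∀ i, QuaternionGroup.xa i ∉ M := by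
    rintro i ⟨k, hk⟩
    obtain ⟨l, hl⟩ : ∃ l : ℕ, (QuaternionGroup.a 1 : QuaternionGroup m) ^ l = QuaternionGroup.xa i :=
      (mem_powers_iff_mem_zpowers.2 ⟨k, hk⟩)
    rw [QuaternionGroup.a_one_pow] at hl
    exact absurd hl (by simp)
  have ho : orderOf (QuaternionGroup.a 1 : QuaternionGroup m) = 2 * m := QuaternionGroup.orderOf_a_one
  have hinv : ∀ (a : MulAut (QuaternionGroup m)), ∀ x ∈ M, a x ∈ M := by
    intro a x hx
    obtain ⟨k, rfl⟩ := hx
    simp only [map_zpow]
    refine M.zpow_mem ?_ k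
    rcases he : a (QuaternionGroup.a 1) with i | i
    · exact hmem i
    · exfalso
      have h1 := MulEquiv.orderOf_eq a (QuaternionGroup.a 1)
      rw [he, QuaternionGroup.orderOf_xa, ho] at h1
      norm_num at h4
      omega
  haveI : IsCyclic M := Subgroup.isCyclic_zpowers _
  haveI := solvable_mulAut_cyclic M
  haveI : M.Normal := ⟨fun x hx g => hinv (MulAut.conj g) x hx⟩
  have hC : centralizer (M : Set (QuaternionGroup m)) ≤ M := by
    intro x hx
    rcases x with i | i
    · exact hmem i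
    · exfalso
      have h1 := mem_centralizer_iff.1 hx _ (mem_zpowers (QuaternionGroup.a 1))
      simp only [QuaternionGroup.a_mul_xa, QuaternionGroup.xa_mul_a, QuaternionGroup.xa.injEq] at h1
      have h2 : ((2 : ℕ) : ZMod (2 * m)) = 0 := by push_cast; linear_combination -h1
      rw [CharP.cast_eq_zero_iff (ZMod (2 * m)) (2 * m) 2] at h2
      have := Nat.le_of_dvd (by norm_num) h2
      norm_num at h4
      omega
  haveI : Group.IsSolvable (restr M hinv).ker := solvable_of_commutative fun a b => Subtype.ext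
    (commute_of_fix M hC a b
      (fun m hm => congrArg Subtype.val (MulEquiv.congr_fun (MonoidHom.mem_ker.1 a.2) ⟨m, hm⟩))
      (fun m hm => congrArg Subtype.val (MulEquiv.congr_fun (MonoidHom.mem_ker.1 b.2) ⟨m, hm⟩)))
  exact Group.isSolvable_of_ker_le_range (restr M hinv).ker.subtype (restr M hinv) (by rw [Subgroup.range_subtype])

theorem solvable_pi {ι : Type*} [Finite ι] {K : ι → Type*} [∀ i, Group (K i)]
    (h : ∀ i, Group.IsSolvable (K i)) : Group.IsSolvable (∀ i, K i) := by
  classical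
  haveI := Fintype.ofFinite ι
  choose n hn using fun i => (h i).solvable
  refine ⟨⟨Finset.univ.sup n, ?_⟩⟩
  refine (Subgroup.eq_bot_iff_forall _).2 fun x hx => funext fun i => ?_
  have h1 := map_derivedSeries_le_derivedSeries (Pi.evalMonoidHom K i) (Finset.univ.sup n) ⟨x, hx, rfl⟩
  have h2 := derivedSeries_antitone (G := K i) (Finset.le_sup (Finset.mem_univ i) : n i ≤ _) h1
  rw [hn i] at h2
  exact Subgroup.mem_bot.1 h2

variable {l : ℕ} [Fact l.Prime] {V : Type*} [AddCommGroup V] [Module (ZMod l) V] [Finite V] [Nontrivial V]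

theorem solvable_mulAut (ρ : X →* Module.End (ZMod l) V)
    (hfpf : ∀ g : X, g ≠ 1 → ∀ v : V, ρ g v = v → v = 0) [Group.IsSolvable X] :
    Group.IsSolvable (MulAut X) := by
  classical
  let ι := {p : ℕ // p ∈ (Nat.card X).primeFactors}
  have hinv : ∀ (p : ι) (a : MulAut X), ∀ m ∈ Cfsg.pCore p.1 X, a m ∈ Cfsg.pCore p.1 X := by
    intro p a m hm
    rw [← Cfsg.Lib.Core.map_pCore_equiv (p := p.1) a]
    exact ⟨m, hm, rfl⟩
  haveI : Group.IsSolvable (∀ p : ι, MulAut (Cfsg.pCore p.1 X)) := by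
    refine solvable_pi fun p => ?_
    haveI : Fact p.1.Prime := ⟨Nat.prime_of_mem_primeFactors p.2⟩
    rcases Cfsg.Lib.Perm.Zas25.pgroup_cases ρ hfpf _ (Cfsg.Lib.Core.pCore_isPGroup p.1 X) with h | ⟨-, n, hn, ⟨e⟩⟩
    · haveI := h
      exact solvable_mulAut_cyclic _
    · exact Cfsg.Lib.Dickson.isSolvable_congr (MulAut.congr e) (solvable_mulAut_quaternion hn)
  let f : MulAut X →* ∀ p : ι, MulAut (Cfsg.pCore p.1 X) := Pi.monoidHom fun p => restr _ (hinv p)
  haveI : (Cfsg.fittingSubgroup X).Normal := Cfsg.Lib.Core.fittingSubgroup_normal' X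
  have hfix : ∀ a ∈ f.ker, ∀ m ∈ Cfsg.fittingSubgroup X, a m = m := by
    intro a ha
    have hle : Cfsg.fittingSubgroup X ≤ MonoidHom.eqLocus a.toMonoidHom (MonoidHom.id X) := by
      rw [Cfsg.Lib.Core.fittingSubgroup_eq_iSup_pCore]
      refine iSup_le fun p => ?_
      by_cases hp : (p : ℕ) ∈ (Nat.card X).primeFactors
      · intro m hm
        exact congrArg Subtype.val (MulEquiv.congr_fun (congrFun (MonoidHom.mem_ker.1 ha) ⟨p, hp⟩) ⟨m, hm⟩)
      · haveI : Fact (p : ℕ).Prime := ⟨p.2⟩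
        have hbot : Cfsg.pCore (p : ℕ) X = ⊥ := by
          by_contra hne
          haveI := (Subgroup.nontrivial_iff_ne_bot _).2 hne
          obtain ⟨k, hk, hcard⟩ := (Cfsg.Lib.Core.pCore_isPGroup (p : ℕ) X).nontrivial_iff_card.1 ‹_›
          exact hp (Nat.mem_primeFactors.2 ⟨p.2,
            (hcard ▸ dvd_pow_self (p : ℕ) hk.ne').trans (Subgroup.card_subgroup_dvd_card _), Nat.card_pos.ne'⟩)
        rw [hbot]
        exact bot_le
    exact fun m hm => hle hm
  haveI : Group.IsSolvable f.ker := solvable_of_commutative fun a b => Subtype.ext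
    (commute_of_fix _ Cfsg.Lib.Core.centralizer_fitting_le_of_isSolvable _ _ (hfix a a.2) (hfix b b.2))
  exact Group.isSolvable_of_ker_le_range f.ker.subtype f (by rw [Subgroup.range_subtype])

end Aut

section Rep

/-- A `ZMod n`-linear representation from an additive one. -/
noncomputable def zmodRep {K : Type*} [Group K] {A : Type*} [AddCommGroup A] (n : ℕ) [Module (ZMod n) A]
    (f : K → A →+ A) (h1 : ∀ v, f 1 v = v) (h2 : ∀ a b v, f (a * b) v = f a (f b v)) :
    K →* Module.End (ZMod n) A :=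
  { toFun := fun k => (f k).toZModLinearMap n
    map_one' := LinearMap.ext fun v => h1 v
    map_mul' := fun a b => LinearMap.ext fun v => h2 a b v }

variable {G : Type u} [Group G] [Finite G]

/-- A fixed-point-free representation of `H` from a coprime action with uniform centralizers. -/
theorem exists_rep (H O : Subgroup G) [hOn : O.Normal] (hcop : (Nat.card O).Coprime (Nat.card H))
    (hsol : Group.IsSolvable O)
    (hcent : ∀ h ∈ H, h ≠ 1 → O ⊓ centralizer ({h} : Set G) ≤ centralizer (H : Set G))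
    (hnot : ¬ O ≤ centralizer (H : Set G)) :
    ∃ (l : ℕ) (_ : Fact l.Prime) (V : Type u) (_ : AddCommGroup V) (_ : Module (ZMod l) V) (_ : Finite V)
      (_ : Nontrivial V) (ρ : H →* Module.End (ZMod l) V), ∀ g : H, g ≠ 1 → ∀ v : V, ρ g v = v → v = 0 := by
  classical
  have hHO : H ≤ normalizer (O : Set G) := by rw [normalizer_eq_top_iff.2 hOn]; exact le_top
  have hcH : (Nat.card H).Coprime (Nat.card O) := hcop.symm
  obtain ⟨q, hq, hqO⟩ : ∃ q : ℕ, ∃ hq : q.Prime, ∃ Q : Subgroup G, Q ≤ O ∧ IsPGroup q Q ∧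
      H ≤ normalizer (Q : Set G) ∧ ¬ Q ≤ centralizer (H : Set G) := by
    by_contra hno
    push Not at hno
    refine hnot ?_
    set D := (centralizer (H : Set G)).subgroupOf O with hD
    suffices hDtop : D = ⊤ by
      intro x hx
      exact mem_subgroupOf.1 (hDtop ▸ Subgroup.mem_top (⟨x, hx⟩ : O))
    rw [← Subgroup.index_eq_one]
    by_contra hne
    obtain ⟨q, hq, hqd⟩ := Nat.exists_prime_and_dvd hne
    haveI := Fact.mk hq
    obtain ⟨P, hP⟩ := Cfsg.Lib.Coprime.exists_invariant_sylow hHO hcH (Or.inr hsol) q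
    have h1 := hno q hq _ (map_subtype_le _) (P.2.map _) hP
    have h2 : (P : Subgroup O) ≤ D := fun x hx => mem_subgroupOf.2 (h1 ⟨x, hx, rfl⟩)
    exact P.not_dvd_index (hqd.trans (Subgroup.index_dvd_of_le h2))
  haveI : Fact q.Prime := ⟨hq⟩
  obtain ⟨Q0, hQ0⟩ := hqO
  obtain ⟨Q, hQmin⟩ := (Set.toFinite {Q : Subgroup G | Q ≤ O ∧ IsPGroup q Q ∧
      H ≤ normalizer (Q : Set G) ∧ ¬ Q ≤ centralizer (H : Set G)}).exists_minimal ⟨Q0, hQ0⟩
  obtain ⟨hQO, hQp, hHQ, hQnc⟩ := hQmin.1
  have hprop : ∀ K : Subgroup G, K ≤ Q → K ≠ Q → H ≤ normalizer (K : Set G) →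
      K ≤ centralizer (H : Set G) := by
    intro K hK hne hn
    by_contra hc
    exact hne (le_antisymm hK (hQmin.2 (⟨hK.trans hQO, hQp.to_le hK, hn, hc⟩ :
      K ∈ {Q : Subgroup G | Q ≤ O ∧ IsPGroup q Q ∧ H ≤ normalizer (Q : Set G) ∧ ¬ Q ≤ centralizer (H : Set G)}) hK))
  let C : Subgroup Q := (centralizer (H : Set G)).subgroupOf Q
  let φ : H →* MulAut Q := (Subgroup.normalizerMonoidHom Q).comp (Subgroup.inclusion hHQ)
  have hφ : ∀ (h : H) (x : Q), ((φ h x : Q) : G) = (h : G) * x * (h : G)⁻¹ := fun h x => rfl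
  have hKinv : ∀ K : Subgroup Q, (∀ h : H, ∀ x ∈ K, φ h x ∈ K) → H ≤ normalizer ((K.map Q.subtype : Subgroup G) : Set G) := by
    intro K hK g hg
    refine mem_normalizer_fintype ?_
    rintro _ ⟨x, hx, rfl⟩
    exact ⟨φ ⟨g, hg⟩ x, hK _ x hx, hφ _ x⟩
  have hle : ∀ K : Subgroup Q, K ≠ ⊤ → (∀ h : H, ∀ x ∈ K, φ h x ∈ K) → K ≤ C := by
    intro K hne hK x hx
    refine mem_subgroupOf.2 (hprop _ (map_subtype_le _) (fun e => hne ?_) (hKinv K hK) ⟨x, hx, rfl⟩)
    refine Subgroup.map_injective Q.subtype_injective ?_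
    rw [e, ← MonoidHom.range_eq_map, Subgroup.range_subtype]
  haveI : Nontrivial Q := (Subgroup.nontrivial_iff_ne_bot Q).2 fun h => hQnc (h ▸ bot_le)
  haveI : Group.IsNilpotent Q := hQp.isNilpotent
  have hQ' : commutator Q ≤ C := by
    refine hle _ (IsSolvable.commutator_lt_top_of_nontrivial Q).ne fun h x hx => ?_
    rw [← Subgroup.map_top_of_surjective (φ h).toMonoidHom (φ h).surjective] at *
    exact (Subgroup.characteristic_iff_map_eq.1 (inferInstance : (commutator Q).Characteristic) (φ h)) ▸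
      (⟨x, hx, rfl⟩ : φ h x ∈ (commutator Q).map (φ h).toMonoidHom)
  haveI hCn : C.Normal := ⟨fun x hx g => by
    have := mul_mem (hQ' (Subgroup.commutator_mem_commutator (mem_top g) (mem_top x))) hx
    simpa [commutatorElement_def, mul_assoc] using this⟩
  letI : CommGroup (Q ⧸ C) :=
    { (inferInstance : Group (Q ⧸ C)) with
      mul_comm := by
        rintro ⟨a⟩ ⟨b⟩
        refine QuotientGroup.eq.2 (hQ' ?_)
        have := Subgroup.commutator_mem_commutator (mem_top b⁻¹) (mem_top a⁻¹)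
        simpa [commutatorElement_def, mul_assoc, commutator_def] using this }
  have hCne : C ≠ ⊤ := fun h => hQnc fun x hx => mem_subgroupOf.1 (h ▸ Subgroup.mem_top (⟨x, hx⟩ : Q))
  haveI : Nontrivial (Q ⧸ C) := QuotientGroup.nontrivial_iff.2 hCne
  have hCinv : ∀ (h : H), ∀ x ∈ C, φ h x ∈ C := by
    intro h x hx
    refine mem_subgroupOf.2 (mem_centralizer_iff.2 fun k hk => ?_)
    have hc : (h : G) * x * (h : G)⁻¹ = x := by
      rw [mem_centralizer_iff.1 (mem_subgroupOf.1 hx) h h.2, mul_inv_cancel_right]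
    rw [hφ, hc]
    exact mem_centralizer_iff.1 (mem_subgroupOf.1 hx) k hk
  -- exponent `q`
  have hexp : ∀ v : Q ⧸ C, v ^ q = 1 := by
    let pw : Q ⧸ C →* Q ⧸ C := powMonoidHom q
    have hne : pw.range ≠ ⊤ := by
      intro h
      have hs : Function.Surjective pw := MonoidHom.range_eq_top.1 h
      have hi := (Finite.injective_iff_surjective).2 hs
      obtain ⟨k, hk, hcard⟩ := (hQp.to_quotient C).nontrivial_iff_card.1 ‹_›
      obtain ⟨v, hv⟩ := exists_prime_orderOf_dvd_card' (G := Q ⧸ C) q (hcard ▸ dvd_pow_self q hk.ne')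
      have hv1 : pw v = pw 1 := by
        show v ^ q = 1 ^ q
        rw [one_pow, ← hv, pow_orderOf_eq_one]
      rw [hi hv1, orderOf_one] at hv
      exact hq.one_lt.ne hv
    have h1 : pw.range.comap (QuotientGroup.mk' C) ≤ C := by
      refine hle _ (fun h => hne ?_) fun h x hx => ?_
      · rw [eq_top_iff]
        intro v _
        obtain ⟨x, rfl⟩ := QuotientGroup.mk'_surjective C v
        exact (h ▸ Subgroup.mem_top x : x ∈ pw.range.comap (QuotientGroup.mk' C))
      · obtain ⟨w, hw⟩ := hx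
        obtain ⟨y, rfl⟩ := QuotientGroup.mk'_surjective C w
        refine ⟨QuotientGroup.mk' C (φ h y), ?_⟩
        have hw' : (QuotientGroup.mk' C y) ^ q = QuotientGroup.mk' C x := hw
        rw [← map_pow] at hw'
        show (QuotientGroup.mk' C (φ h y)) ^ q = QuotientGroup.mk' C (φ h x)
        rw [← map_pow, ← map_pow]
        refine QuotientGroup.eq.2 ?_
        rw [← map_inv, ← map_mul]
        exact hCinv h _ (QuotientGroup.eq.1 hw')
    intro v
    obtain ⟨x, rfl⟩ := QuotientGroup.mk'_surjective C v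
    rw [← map_pow]
    exact (QuotientGroup.eq_one_iff _).2 (h1 ⟨QuotientGroup.mk' C x, (map_pow (QuotientGroup.mk' C) x q).symm⟩)
  have hmap : ∀ h : H, C.map (φ h).toMonoidHom = C := by
    intro h
    refine Subgroup.eq_of_le_of_card_ge (Subgroup.map_le_iff_le_comap.2 fun x hx => hCinv h x hx) (le_of_eq ?_)
    exact (Subgroup.card_map_of_injective (φ h).injective).symm
  let ψ : H → (Q ⧸ C ≃* Q ⧸ C) := fun h => QuotientGroup.congr C C (φ h) (hmap h)
  have hψ : ∀ h x, ψ h (QuotientGroup.mk' C x) = QuotientGroup.mk' C (φ h x) := fun h x => rfl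
  letI : Module (ZMod q) (Additive (Q ⧸ C)) := AddCommGroup.zmodModule fun v => by
    show Additive.ofMul (v.toMul ^ q) = 0
    rw [hexp]; rfl
  have key1 : ∀ w, ψ 1 w = w := fun w => by
    obtain ⟨x, rfl⟩ := QuotientGroup.mk'_surjective C w
    rw [hψ, map_one]; rfl
  have key2 : ∀ a b w, ψ (a * b) w = ψ a (ψ b w) := fun a b w => by
    obtain ⟨x, rfl⟩ := QuotientGroup.mk'_surjective C w
    rw [hψ, hψ, hψ, map_mul]; rfl
  let ρ :=
    zmodRep (K := H) (A := Additive (Q ⧸ C)) q (fun h => (ψ h).toMonoidHom.toAdditive)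
      (fun v => congrArg Additive.ofMul (key1 v.toMul))
      (fun a b v => congrArg Additive.ofMul (key2 a b v.toMul))
  refine ⟨q, ⟨hq⟩, Additive (Q ⧸ C), inferInstance, inferInstance, inferInstance, inferInstance, ρ,
    fun g hg v hv => ?_⟩
  obtain ⟨x, hx⟩ := QuotientGroup.mk'_surjective C v.toMul
  have hfix : QuotientGroup.mk' C (φ g x) = QuotientGroup.mk' C x := by
    rw [← hψ, hx]
    exact hv
  -- lift the fixed point
  set A := zpowers (g : G) with hA
  have hgH : A ≤ H := zpowers_le.2 g.2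
  set CC : Subgroup G := C.map Q.subtype with hCC
  have hAC : A ≤ normalizer (CC : Set G) := hgH.trans (hKinv C hCinv)
  have hcomm : ∀ a ∈ A, ⁅(x : G), a⁆ ∈ CC := by
    intro a ha
    obtain ⟨k, hk⟩ := mem_powers_iff_mem_zpowers.2 ha
    simp only at hk
    have hk' : ∀ k : ℕ, QuotientGroup.mk' C (φ (g ^ k) x) = QuotientGroup.mk' C x := by
      intro k
      induction k with
      | zero => rw [pow_zero, map_one]; rfl
      | succ k ih =>
        rw [pow_succ', map_mul, MulAut.mul_apply, ← hψ, ih, hψ, hfix]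
    refine ⟨x * (φ (g ^ k) x)⁻¹, ?_, ?_⟩
    · refine (QuotientGroup.eq_one_iff _).1 ?_
      show QuotientGroup.mk' C (x * (φ (g ^ k) x)⁻¹) = 1
      rw [map_mul, map_inv, hk', mul_inv_cancel]
    · show ((x * (φ (g ^ k) x)⁻¹ : Q) : G) = _
      rw [Subgroup.coe_mul, Subgroup.coe_inv, hφ, SubmonoidClass.coe_pow, hk, commutatorElement_def]
      group
  obtain ⟨c, hc, d, hd, hxe⟩ := Cfsg.Lib.Coprime.exists_mul_centralizer_of_commutator_mem
    (hgH.trans hHQ) (Nat.Coprime.coprime_dvd_left (Subgroup.card_dvd_of_le hgH)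
      (hcH.coprime_dvd_right (Subgroup.card_dvd_of_le hQO)))
    (Or.inr (inferInstance : Group.IsSolvable Q)) (map_subtype_le C) hAC x.2 hcomm
  have hdH : d ∈ centralizer (H : Set G) := hcent g g.2 (fun h => hg (Subtype.ext h))
    ⟨hQO hd.1, mem_centralizer_singleton_iff.2 (mem_centralizer_iff.1 hd.2 _ (mem_zpowers _)).symm⟩
  obtain ⟨c', hc', rfl⟩ := hc
  have hxC : x ∈ C := by
    refine mem_subgroupOf.2 ?_
    rw [hxe]
    exact mul_mem (mem_subgroupOf.1 hc') hdH
  show v = Additive.ofMul (1 : Q ⧸ C)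
  rw [← (QuotientGroup.eq_one_iff x).2 hxC]
  exact congrArg Additive.ofMul hx.symm

end Rep

theorem not_isSolvable_sl : ¬ Group.IsSolvable (Matrix.SpecialLinearGroup (Fin 2) (ZMod 5)) := by
  intro h
  haveI := h
  exact Cfsg.Lib.Dickson.not_isSolvable_psl (K := ZMod 5) (by simp)
    (Group.isSolvable_of_surjective (f := QuotientGroup.mk' (Subgroup.center _)) (QuotientGroup.mk'_surjective _))


/-- Let G be a finite group and H a non-normal subgroup meeting each of its conjugates by elements outside N_G(H) trivially, with the order of H coprime to its index in N_G(H); let π be the set of primes dividing the order of H and suppose G is π-separable (it has a chain of normal subgroups from 1 to G each of whose factors has order divisible only by primes in π or coprime to the order of H). Let O be the largest normal subgroup of G of order coprime to the order of H. Then G = O·N_G(H), O·H is normal in G, and G is solvable if and only if O is solvable and H has no subgroup isomorphic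 to SL₂(5). -/
theorem result {G : Type*} [Group G] [Finite G] (H : Subgroup G)
    (hTI : Cfsg.IsTISubset (H : Set G)) (hnn : ¬ H.Normal)
    (hHall : (Nat.card H).Coprime (H.subgroupOf (Subgroup.normalizer (H : Set G))).index)
    (hsep : ∃ (n : ℕ) (M : Fin (n + 1) → Subgroup G), M 0 = ⊥ ∧ M (Fin.last n) = ⊤ ∧ Monotone M ∧ (∀ i, (M i).Normal) ∧
      ∀ i : Fin n, (∀ q : ℕ, q.Prime → q ∣ (M i.castSucc).relIndex (M i.succ) → q ∣ Nat.card H) ∨
        ((M i.castSucc).relIndex (M i.succ)).Coprime (Nat.card H))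
    (O : Subgroup G) (hO : O = sSup {K : Subgroup G | K.Normal ∧ (Nat.card K).Coprime (Nat.card H)}) :
    O ⊔ Subgroup.normalizer (H : Set G) = ⊤ ∧ (O ⊔ H).Normal ∧
    (Group.IsSolvable G ↔ Group.IsSolvable O ∧
      ∀ K : Subgroup G, K ≤ H → ¬ Nonempty (K ≃* Matrix.SpecialLinearGroup (Fin 2) (ZMod 5))) := by
  revert hO
  revert O
  intro Og hOg
  classical
  set N := normalizer (H : Set G) with hNdef
  have hHN : H ≤ N := le_normalizer
  -- trivial-intersection property
  have hTI' : ∀ g x : G, x ∈ H → g * x * g⁻¹ ∈ H → x ≠ 1 → g ∈ N := fun g x hx hgx hx1 => by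
    by_contra hg
    exact hx1 (hTI g hg x hx hgx)
  have hHne : H ≠ ⊥ := fun h => hnn (h ▸ inferInstance)
  -- `H` is a Hall subgroup
  have hHallG : (Nat.card H).Coprime H.index := by
    by_contra hnc
    obtain ⟨p, hp, hpH, hpi⟩ := Nat.Prime.not_coprime_iff_dvd.1 hnc
    haveI := Fact.mk hp
    obtain ⟨P0⟩ : Nonempty (Sylow p H) := inferInstance
    set P := (P0 : Subgroup H).map H.subtype with hP
    have hPp : IsPGroup p P := P0.2.map _
    have hPH : P ≤ H := map_subtype_le _
    obtain ⟨T, hT⟩ := hPp.exists_le_sylow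
    have hlt : P < (T : Subgroup G) := by
      refine lt_of_le_of_ne hT fun h => T.not_dvd_index ?_
      rw [← h, hP, index_map_subtype]
      exact hpi.mul_left _
    have hPne : P ≠ ⊥ := by
      rw [hP, ne_eq, Subgroup.map_eq_bot_iff_of_injective _ H.subtype_injective]
      exact P0.ne_bot_of_dvd_card hpH
    obtain ⟨x0, hx0, hx0ne⟩ := P.bot_or_exists_ne_one.resolve_left hPne
    set P1 := (T : Subgroup G) ⊓ normalizer (P : Set G)
    have h1 : P < P1 := Cfsg.Lib.Fusion.lt_inf_normalizer T.2 hlt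
    have h2 : P1 ≤ N := fun g hg =>
      hTI' g x0 (hPH hx0) (hPH ((mem_normalizer_iff.1 hg.2 x0).1 hx0)) hx0ne
    have h3 : ¬ p ∣ P.relIndex N := by
      rw [← relIndex_mul_relIndex P H N hPH hHN]
      refine hp.not_dvd_mul ?_ ?_
      · rw [hP, relIndex, subgroupOf, comap_map_eq_self_of_injective H.subtype_injective]
        exact P0.not_dvd_index
      · exact fun hd => (Nat.Prime.coprime_iff_not_dvd hp).1
          (Nat.Coprime.coprime_dvd_left hpH hHall) hd
    obtain ⟨k, hk⟩ := IsPGroup.iff_card.1 (T.2.to_le (inf_le_left : P1 ≤ T))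
    obtain ⟨j, hj⟩ := IsPGroup.iff_card.1 hPp
    have h4 := Cfsg.Lib.Core.card_mul_relIndex h1.le
    have h5 : P.relIndex P1 ∣ P.relIndex N := by
      rw [← relIndex_mul_relIndex P P1 N h1.le h2]
      exact dvd_mul_right _ _
    have h6 : P.relIndex P1 ∣ p ^ k := by rw [← hk]; exact relIndex_dvd_card _ _
    obtain ⟨i, -, hi⟩ := (Nat.dvd_prime_pow hp).1 h6
    rcases Nat.eq_zero_or_pos i with hi0 | hi0
    · rw [hi0, pow_zero, relIndex_eq_one] at hi
      exact h1.not_ge hi
    · exact h3 (((dvd_pow_self p hi0.ne').trans (dvd_of_eq hi.symm)).trans h5)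
  -- the largest normal subgroup of order prime to `|H|`
  set O := Cfsg.piCore {q : ℕ | ¬ q ∣ Nat.card H} G with hOdef
  have hOcop : (Nat.card O).Coprime (Nat.card H) := by
    by_contra hnc
    obtain ⟨q, hq, hqO, hqH⟩ := Nat.Prime.not_coprime_iff_dvd.1 hnc
    exact Cfsg.Lib.Core.piCore_isPiSub _ G q hq hqO hqH
  have hOH : O ⊓ H = ⊥ := inf_eq_bot_of_coprime hOcop
  have hNO : ∀ K : Subgroup G, K ≤ normalizer (O : Set G) := fun K => by
    rw [normalizer_eq_top_iff.2 inferInstance]; exact le_top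
  -- `G = O N`
  obtain ⟨n, M, hM0, hMn, hMmono, hMnormal, hMfac⟩ := hsep
  have hON : O ⊔ N = ⊤ := by
    have hex : ∃ i : Fin n, M i.castSucc ≤ O ∧ ¬ M i.succ ≤ O := by
      by_contra hcon
      push Not at hcon
      have hall : ∀ i : Fin (n + 1), M i ≤ O := by
        intro i
        induction i using Fin.induction with
        | zero => rw [hM0]; exact bot_le
        | succ i ih => exact hcon i ih
      have := hall (Fin.last n)
      rw [hMn, top_le_iff] at this
      rw [this, top_inf_eq] at hOH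
      exact hHne hOH
    obtain ⟨i, hlow, hhigh⟩ := hex
    set L := M i.castSucc
    set T := M i.succ with hTdef
    haveI := hMnormal i.succ
    have hLT : L ≤ T := hMmono (Fin.castSucc_le_succ i)
    have hcardT := Cfsg.Lib.Core.card_mul_relIndex hLT
    have hLcop : (Nat.card L).Coprime (Nat.card H) := hOcop.coprime_dvd_left (card_dvd_of_le hlow)
    rcases hMfac i with hpi | hco
    swap
    · refine absurd (Cfsg.Lib.Core.le_piCore (π := {q : ℕ | ¬ q ∣ Nat.card H}) (N := T) fun q hq hd => ?_) hhigh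
      intro hqH
      rw [← hcardT] at hd
      rcases hq.dvd_mul.1 hd with h | h
      · exact Nat.Prime.not_coprime_iff_dvd.2 ⟨q, hq, h, hqH⟩ hLcop
      · exact Nat.Prime.not_coprime_iff_dvd.2 ⟨q, hq, h, hqH⟩ hco
    set R := L.relIndex T
    have hidx : (H ⊓ T).relIndex T ∣ H.index := by
      have a1 := Cfsg.Lib.Core.card_mul_relIndex (le_sup_left : H ≤ H ⊔ T)
      have a2 := Cfsg.Lib.Core.card_mul_relIndex (le_sup_right : T ≤ H ⊔ T)
      have a3 := Cfsg.Lib.Core.card_mul_relIndex (inf_le_left : H ⊓ T ≤ H)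
      have a4 := Cfsg.Lib.Core.card_mul_relIndex (inf_le_right : H ⊓ T ≤ T)
      rw [inf_relIndex_left] at a3
      rw [inf_relIndex_right] at a4 ⊢
      rw [relIndex_sup_right H T] at a2
      have e : H.relIndex (H ⊔ T) = H.relIndex T := by
        refine Nat.eq_of_mul_eq_mul_left (Nat.card_pos (α := H)) ?_
        calc Nat.card H * H.relIndex (H ⊔ T) = Nat.card T * T.relIndex H := by rw [a1, a2]
          _ = Nat.card (H ⊓ T : Subgroup G) * T.relIndex H * H.relIndex T := by rw [← a4]; ring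
          _ = Nat.card H * H.relIndex T := by rw [a3]
      exact e ▸ relIndex_dvd_index_of_le le_sup_left
    have hcardW := Cfsg.Lib.Core.card_mul_relIndex (inf_le_right : H ⊓ T ≤ T)
    have hRdvd : R ∣ Nat.card (H ⊓ T : Subgroup G) := by
      refine Nat.Coprime.dvd_of_dvd_mul_right (n := (H ⊓ T).relIndex T) ?_
        (by rw [hcardW, ← hcardT]; exact dvd_mul_left _ _)
      by_contra hnc
      obtain ⟨q, hq, hqR, hqi⟩ := Nat.Prime.not_coprime_iff_dvd.1 hnc
      exact Nat.Prime.not_coprime_iff_dvd.2 ⟨q, hq, hpi q hq hqR, hqi.trans hidx⟩ hHallG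
    have hTle : T ≤ L ⊔ (H ⊓ T) := by
      refine (eq_of_le_of_card_ge (sup_le hLT inf_le_right) ?_).ge
      have hd : Nat.card L * Nat.card (H ⊓ T : Subgroup G) ∣ Nat.card (L ⊔ H ⊓ T : Subgroup G) :=
        Nat.Coprime.mul_dvd_of_dvd_of_dvd (hLcop.coprime_dvd_right (card_dvd_of_le inf_le_left))
          (card_dvd_of_le le_sup_left) (card_dvd_of_le le_sup_right)
      rw [← hcardT]
      exact Nat.le_of_dvd Nat.card_pos ((mul_dvd_mul_left _ hRdvd).trans hd)
    have hWne : H ⊓ T ≠ ⊥ := fun h => hhigh (hTle.trans (by rw [h, sup_bot_eq]; exact hlow))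
    have hW1 : Nat.card (H ⊓ T : Subgroup G) ≠ 1 := fun h => hWne (Subgroup.eq_bot_of_card_eq _ h)
    obtain ⟨p, hp, hpW⟩ := Nat.exists_prime_and_dvd hW1
    haveI := Fact.mk hp
    obtain ⟨P0⟩ : Nonempty (Sylow p (H ⊓ T : Subgroup G)) := inferInstance
    set P := (P0 : Subgroup (H ⊓ T : Subgroup G)).map (H ⊓ T : Subgroup G).subtype with hP
    have hPT : P ≤ T := (map_subtype_le _).trans inf_le_right
    have hPp : IsPGroup p (P.subgroupOf T) := (P0.2.map _).of_equiv (subgroupOfEquivOfLe hPT).symm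
    have hPi : ¬ p ∣ (P.subgroupOf T).index := by
      show ¬ p ∣ P.relIndex T
      rw [← relIndex_mul_relIndex P (H ⊓ T) T (map_subtype_le _) inf_le_right]
      refine hp.not_dvd_mul ?_ fun hd => ?_
      · rw [hP, relIndex, subgroupOf, comap_map_eq_self_of_injective (H ⊓ T : Subgroup G).subtype_injective]
        exact P0.not_dvd_index
      · exact Nat.Prime.not_coprime_iff_dvd.2
          ⟨p, hp, hpW.trans (card_dvd_of_le inf_le_left), hd.trans hidx⟩ hHallG
    have hfr : normalizer (((P.subgroupOf T).map T.subtype : Subgroup G) : Set G) ⊔ T = ⊤ :=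
      Sylow.normalizer_sup_eq_top (hPp.toSylow hPi)
    rw [map_subgroupOf_eq_of_le hPT] at hfr
    have hPne : P ≠ ⊥ := by
      rw [hP, ne_eq, Subgroup.map_eq_bot_iff_of_injective _ (H ⊓ T : Subgroup G).subtype_injective]
      exact P0.ne_bot_of_dvd_card hpW
    obtain ⟨x0, hx0, hx0ne⟩ := P.bot_or_exists_ne_one.resolve_left hPne
    have hPH : P ≤ H := (map_subtype_le _).trans inf_le_left
    have hNP : normalizer (P : Set G) ≤ N := fun g hg =>
      hTI' g x0 (hPH hx0) (hPH ((mem_normalizer_iff.1 hg x0).1 hx0)) hx0ne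
    rw [eq_top_iff, ← hfr]
    exact sup_le (hNP.trans le_sup_right)
      (hTle.trans (sup_le (hlow.trans le_sup_left) (inf_le_left.trans (hHN.trans le_sup_right))))
  -- centralisers in `O` of nontrivial elements of `H`
  have hcentO : ∀ h ∈ H, h ≠ 1 → O ⊓ centralizer ({h} : Set G) ≤ centralizer (H : Set G) := by
    intro h hh h1 x hx
    have hxN : x ∈ N := hTI' x h hh (by
      rw [mem_centralizer_singleton_iff.1 hx.2, mul_inv_cancel_right]; exact hh) h1
    refine mem_centralizer_iff.2 fun y hy => ?_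
    have h2 : x * y * x⁻¹ * y⁻¹ ∈ O ⊓ H := mem_inf.2 ⟨by
        rw [mul_assoc, mul_assoc, ← mul_assoc y]
        exact mul_mem hx.1 ((inferInstance : O.Normal).conj_mem _ (inv_mem hx.1) y),
      mul_mem ((mem_normalizer_iff.1 hxN y).1 hy) (inv_mem hy)⟩
    rw [hOH, mem_bot, mul_inv_eq_one, mul_inv_eq_iff_eq_mul] at h2
    exact h2.symm
  have hnotcent : ¬ O ≤ centralizer (H : Set G) := fun h => hnn (by
    have : N = ⊤ := top_le_iff.1 (hON ▸ sup_le (h.trans (centralizer_le_normalizer _)) le_rfl)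
    exact normalizer_eq_top_iff.1 this)
  -- the given `O` is `piCore`
  subst hOg
  have hOeq : sSup {K : Subgroup G | K.Normal ∧ (Nat.card K).Coprime (Nat.card H)} = O := by
    refine le_antisymm (sSup_le fun K hK => ?_) (le_sSup ⟨inferInstance, hOcop⟩)
    haveI := hK.1
    exact Cfsg.Lib.Core.le_piCore fun q hq hd hqH => Nat.Prime.not_coprime_iff_dvd.2 ⟨q, hq, hd, hqH⟩ hK.2
  rw [hOeq]
  have hOHn : (O ⊔ H).Normal := by
    rw [← normalizer_eq_top_iff, eq_top_iff, ← hON, sup_le_iff]
    refine ⟨le_sup_left.trans le_normalizer, fun g hg => mem_normalizer_fintype fun x hx => ?_⟩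
    have hm : (O ⊔ H).map (MulAut.conj g).toMonoidHom ≤ O ⊔ H := by
      rw [Subgroup.map_sup]
      refine sup_le_sup ?_ ?_
      · rintro _ ⟨o, ho, rfl⟩; exact (inferInstance : O.Normal).conj_mem o ho g
      · rintro _ ⟨y, hy, rfl⟩; exact (mem_normalizer_iff.1 hg y).1 hy
    exact hm ⟨x, hx, rfl⟩
  refine ⟨hON, hOHn, fun hG => ?_, fun ⟨hsolO, hno⟩ => ?_⟩
  · haveI := hG
    exact ⟨inferInstance, fun K _ ⟨e⟩ => not_isSolvable_sl
      (Group.isSolvable_of_surjective (f := e.toMonoidHom) e.surjective)⟩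
  haveI := hsolO
  obtain ⟨l, hl, V, _, _, _, _, ρ, hfpf⟩ := exists_rep H O hOcop hsolO hcentO hnotcent
  haveI := hl
  haveI hsolH : Group.IsSolvable H := by
    by_contra hns
    obtain ⟨G₀, -, -, S, M', -, -, -, -, ⟨e⟩, -⟩ :=
      Cfsg.Lib.Perm.Zas25.nonsolvable_structure ρ hfpf hns
    exact hno (S.map H.subtype) (map_subtype_le S)
      ⟨((S.equivMapOfInjective H.subtype H.subtype_injective).symm).trans e⟩
  haveI := solvable_mulAut ρ hfpf
  haveI hOHs : Group.IsSolvable (O ⊔ H : Subgroup G) := by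
    haveI : (O.subgroupOf (O ⊔ H)).Normal := inferInstance
    let f : H →* (O ⊔ H : Subgroup G) ⧸ O.subgroupOf (O ⊔ H) :=
      (QuotientGroup.mk' _).comp (Subgroup.inclusion le_sup_right)
    have hf : Function.Surjective f := by
      intro y
      obtain ⟨⟨x, hx⟩, rfl⟩ := QuotientGroup.mk'_surjective _ y
      have hx' : x ∈ ((O ⊔ H : Subgroup G) : Set G) := hx
      rw [Subgroup.normal_mul] at hx'
      obtain ⟨o, ho, h, hh, rfl⟩ := hx'
      refine ⟨⟨h, hh⟩, QuotientGroup.eq.2 (mem_subgroupOf.2 ?_)⟩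
      simp only [Subgroup.coe_mul, Subgroup.coe_inv, Subgroup.coe_inclusion]
      rw [← mul_assoc]
      exact (inferInstance : O.Normal).conj_mem' o ho h
    haveI : Group.IsSolvable ((O ⊔ H : Subgroup G) ⧸ O.subgroupOf (O ⊔ H)) :=
      Group.isSolvable_of_surjective (f := f) hf
    let e0 : O.subgroupOf (O ⊔ H) ≃* O := subgroupOfEquivOfLe le_sup_left
    haveI : Group.IsSolvable (O.subgroupOf (O ⊔ H)) :=
      Group.isSolvable_of_isSolvable_injective (f := e0.toMonoidHom) e0.injective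
    exact Group.isSolvable_of_ker_le_range (O.subgroupOf (O ⊔ H)).subtype (QuotientGroup.mk' (O.subgroupOf (O ⊔ H)))
      (by rw [QuotientGroup.ker_mk', Subgroup.range_subtype])
  -- the centraliser of `H`
  set D := centralizer (H : Set G) with hD
  have hDN : D ≤ N := centralizer_le_normalizer _
  have hDOH : D ≤ O ⊔ H := by
    set Z := H.subgroupOf D with hZ
    have hZc : Z ≤ Subgroup.center D := fun z hz => Subgroup.mem_center_iff.2 fun y =>
      Subtype.ext (mem_centralizer_iff.1 y.2 _ (mem_subgroupOf.1 hz)).symm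
    haveI : Z.Normal := ⟨fun z hz g => by
      rw [(Subgroup.mem_center_iff.1 (hZc hz) g), mul_inv_cancel_right]; exact hz⟩
    have hZidx : Z.index ∣ (H.subgroupOf N).index := by
      haveI : (H.subgroupOf N).Normal := (normal_subgroupOf_iff_le_normalizer hHN).2 le_rfl
      let f := (QuotientGroup.mk' (H.subgroupOf N)).comp (Subgroup.inclusion hDN)
      have hk : f.ker = Z := by
        ext x
        rw [MonoidHom.mem_ker, MonoidHom.comp_apply, QuotientGroup.mk'_apply, QuotientGroup.eq_one_iff,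
          hZ, mem_subgroupOf, mem_subgroupOf, Subgroup.coe_inclusion]
      rw [← hk, Subgroup.index_ker]
      exact Subgroup.card_subgroup_dvd_card f.range
    have hcopZ : (Nat.card Z).Coprime Z.index := by
      exact Nat.Coprime.coprime_dvd_left (Subgroup.card_comap_dvd_of_injective H D.subtype D.subtype_injective)
        (hHall.coprime_dvd_right hZidx)
    obtain ⟨Y, hY⟩ := Subgroup.exists_right_complement'_of_coprime hcopZ
    haveI : Y.Normal := ⟨fun y hy g => by
      obtain ⟨⟨⟨z, hz⟩, ⟨y', hy'⟩⟩, he⟩ := hY.2 g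
      simp only at he
      rw [← he]
      have hzc := Subgroup.mem_center_iff.1 (hZc hz)
      rw [show z * y' * y * (z * y')⁻¹ = z * (y' * y * y'⁻¹) * z⁻¹ by group,
        ← hzc, mul_inv_cancel_right]
      exact mul_mem (mul_mem hy' hy) (inv_mem hy')⟩
    have hYcop : (Nat.card Y).Coprime (Nat.card Z) := by
      rw [← hY.symm.index_eq_card]; exact hcopZ.symm
    set Y' := Y.map D.subtype with hY'
    have hY'n : ∀ g ∈ N, ∀ y ∈ Y', g * y * g⁻¹ ∈ Y' := by
      rintro g hg _ ⟨y, hy, rfl⟩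
      have hgD : g * (y : G) * g⁻¹ ∈ D := mem_centralizer_iff.2 fun k hk => by
        have hk' := (mem_normalizer_iff.1 (inv_mem hg) k).1 hk
        rw [inv_inv] at hk'
        have hcm := mem_centralizer_iff.1 y.2 _ hk'
        calc k * (g * y * g⁻¹) = g * (g⁻¹ * k * g * y) * g⁻¹ := by group
          _ = g * ((y : G) * (g⁻¹ * k * g)) * g⁻¹ := by rw [hcm]
          _ = g * y * g⁻¹ * k := by group
      refine ⟨⟨_, hgD⟩, ?_, rfl⟩
      obtain ⟨⟨⟨z, hz⟩, ⟨y', hy'⟩⟩, he⟩ := hY.2 ⟨_, hgD⟩
      simp only at he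
      have ho : (⟨_, hgD⟩ : D) ^ Nat.card Y = 1 := Subtype.ext (by
        rw [SubmonoidClass.coe_pow, OneMemClass.coe_one]
        show (g * (y : G) * g⁻¹) ^ Nat.card Y = 1
        rw [conj_pow, ← SubmonoidClass.coe_pow,
          show y ^ Nat.card Y = 1 from congrArg Subtype.val (pow_card_eq_one' (x := (⟨y, hy⟩ : Y))),
          OneMemClass.coe_one, mul_one, mul_inv_cancel])
      rw [← he, Commute.mul_pow (show Commute z y' from (Subgroup.mem_center_iff.1 (hZc hz) y').symm),
        show y' ^ Nat.card Y = 1 from congrArg Subtype.val (pow_card_eq_one' (x := (⟨y', hy'⟩ : Y))),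
        mul_one] at ho
      have hz1 : z = 1 := orderOf_eq_one_iff.1 (Nat.eq_one_of_dvd_coprimes hYcop
        (orderOf_dvd_of_pow_eq_one ho) (Subgroup.orderOf_dvd_natCard Z hz))
      rw [← he, hz1, one_mul]; exact hy'
    haveI : (O ⊔ Y').Normal := by
      rw [← normalizer_eq_top_iff, eq_top_iff, ← hON, sup_le_iff]
      refine ⟨le_sup_left.trans le_normalizer, fun g hg => mem_normalizer_fintype fun x hx => ?_⟩
      have hm : (O ⊔ Y').map (MulAut.conj g).toMonoidHom ≤ O ⊔ Y' := by
        rw [Subgroup.map_sup]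
        refine sup_le_sup ?_ ?_
        · rintro _ ⟨o, ho, rfl⟩; exact (inferInstance : O.Normal).conj_mem o ho g
        · rintro _ ⟨y, hy, rfl⟩; exact hY'n g hg y hy
      exact hm ⟨x, hx, rfl⟩
    have hYO : Y' ≤ O := by
      refine le_sup_right.trans (Cfsg.Lib.Core.le_piCore (N := O ⊔ Y') fun q hq hd hqH => ?_)
      have h1 := Cfsg.Lib.Core.card_mul_relIndex (le_sup_left : O ≤ O ⊔ Y')
      rw [Subgroup.relIndex_sup_left] at h1
      rcases (hq.dvd_mul).1 ((h1 ▸ hd : q ∣ Nat.card O * O.relIndex Y').trans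
        (mul_dvd_mul_left _ (Subgroup.relIndex_dvd_card O Y'))) with h | h
      · exact Nat.Prime.not_coprime_iff_dvd.2 ⟨q, hq, h, hqH⟩ hOcop
      · rw [hY', Subgroup.card_map_of_injective D.subtype_injective, ← hY.symm.index_eq_card] at h
        exact Nat.Prime.not_coprime_iff_dvd.2 ⟨q, hq, hqH, h.trans hZidx⟩ hHall
    intro d hd
    obtain ⟨⟨⟨z, hz⟩, ⟨y', hy'⟩⟩, he⟩ := hY.2 ⟨d, hd⟩
    rw [show d = (z : G) * (y' : G) from congrArg Subtype.val he.symm]
    exact mul_mem ((le_sup_right : H ≤ O ⊔ H) (mem_subgroupOf.1 hz)) ((le_sup_left : O ≤ O ⊔ H) (hYO ⟨y', hy', rfl⟩))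
  haveI hDs : Group.IsSolvable D :=
    Group.isSolvable_of_isSolvable_injective (f := Subgroup.inclusion hDOH) (Subgroup.inclusion_injective hDOH)
  haveI hNs : Group.IsSolvable N := by
    exact Group.isSolvable_of_ker_le_range (Subgroup.inclusion hDN) (normalizerMonoidHom H)
      (by rw [normalizerMonoidHom_ker, Subgroup.inclusion_range])
  haveI : Group.IsSolvable (G ⧸ O) := Group.isSolvable_of_surjective
    (f := (QuotientGroup.mk' O).comp N.subtype) fun x => by
      obtain ⟨g, rfl⟩ := QuotientGroup.mk'_surjective O x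
      have hg : g ∈ ((O ⊔ N : Subgroup G) : Set G) := by rw [hON]; trivial
      rw [Subgroup.normal_mul] at hg
      obtain ⟨o, ho, m, hm, rfl⟩ := hg
      exact ⟨⟨m, hm⟩, by simp [(QuotientGroup.eq_one_iff o).mpr ho]⟩
  exact Group.isSolvable_of_ker_le_range O.subtype (QuotientGroup.mk' O) (by rw [QuotientGroup.ker_mk', Subgroup.range_subtype])

end Cfsg.Agent.S4118
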