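import Cfsg.Statements.S4120
import Cfsg.Agent.Lib.FrobKernel.Main
import Cfsg.Agent.Lib.Solv.FrobeniusBasic
import Cfsg.Agent.S0042

set_option autoImplicit false
open Cfsg

namespace Cfsg.Agent.S4120

/-- Let the finite group A act faithfully on the finite group G by automorphisms, and suppose A is a Frobenius group with kernel F and complement H such that F fixes only the identity of G. If the fixed-point subgroup C_G(H) is nilpotent, then G is nilpotent. -/
theorem result {G A : Type*} [Group G] [Finite G] [Group A] [Finite A] [MulDistribMulAction A G] [FaithfulSMul A G]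
    (Fk Hc : Subgroup A) [Fk.Normal] (hHc : Cfsg.IsFrobeniusComplement Hc) (hker : Cfsg.frobeniusKernel Hc = (Fk : Set A))
    (hCF : ∀ g : G, (∀ f ∈ Fk, f • g = g) → g = 1) (hnil : Group.IsNilpotent (Subgroup.closure {g : G | ∀ h ∈ Hc, h • g = g})) : Group.IsNilpotent G := by
  obtain ⟨K, hK, hKn, hc⟩ := Cfsg.Lib.Solv.frobenius_theorem hHc
  have hKF : K = Fk := SetLike.coe_injective (hK.trans hker)
  subst hKF
  obtain ⟨N, hN, _, hNnil⟩ := Cfsg.Agent.S0042.result Hc hHc
  have hNF : N = K := SetLike.coe_injective (hN.trans hker)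
  subst hNF
  have hgen : N ⊔ Hc = ⊤ := hc.sup_eq_top
  have hFH : Cfsg.Lib.FrobKernel.Frob N Hc := by
    refine ⟨fun h _ f hf => Subgroup.Normal.conj_mem inferInstance f hf h, ?_,
      fun h hh h1 f hf e => ?_, hNnil⟩
    · have h1 := Cfsg.Lib.Solv.frob_coprime hHc
      rw [Subgroup.IsComplement'.index_eq_card hc] at h1
      exact h1.symm
    · by_contra hf1
      exact h1 (Cfsg.Lib.Solv.frob_eq_one hHc
        (fun hfH => hf1 (Subgroup.disjoint_def.1 hc.disjoint hf hfH)) hh
        (by rw [← e, mul_inv_cancel_right]; exact hh))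
  refine Cfsg.Lib.FrobKernel.isNilpotent (A := A) (F := N) (H := Hc) hgen hFH (Nat.card G) G rfl hCF ?_
  have e : Subgroup.closure {g : G | ∀ h ∈ Hc, h • g = g} = Cfsg.Lib.FrobKernel.fix G Hc :=
    le_antisymm ((Subgroup.closure_le _).2 fun x hx => hx) fun x hx => Subgroup.subset_closure hx
  exact e ▸ hnil

end Cfsg.Agent.S4120
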