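import Cfsg.Statements.S4125
import Cfsg.Agent.S4364
import Cfsg.Agent.Lib.Core.PSolvable
import Cfsg.Agent.Lib.Coprime.Action
import Cfsg.Agent.Lib.Coprime.ClassBound
import Cfsg.Agent.Lib.PGroup.Basic
import Cfsg.Agent.Lib.Solv.PowerOrbits

set_option autoImplicit false
set_option linter.style.haveILetI false
open Cfsg

namespace Cfsg.Agent.S4125

open Subgroup
open scoped commutatorElement

variable {G : Type*} [Group G] [Finite G] {q : ℕ} [hq : Fact q.Prime]

/-- An element of `q`-power order with a class of `r`-power size lies in `O_q` modulo `O_r`. -/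
theorem mem_comap_pCore {r a : ℕ} [Fact r.Prime] {x : G} (hxq : ∃ k, orderOf x = q ^ k)
    (ha : (centralizer ({x} : Set G)).index = r ^ a) :
    x ∈ (Cfsg.pCore q (G ⧸ Cfsg.pCore r G)).comap (QuotientGroup.mk' (Cfsg.pCore r G)) := by
  obtain ⟨k, hk⟩ := hxq
  set π := QuotientGroup.mk' (Cfsg.pCore r G) with hπ
  have hcomm : ∀ g h : G, π (g * x * g⁻¹) * π (h * x * h⁻¹) = π (h * x * h⁻¹) * π (g * x * g⁻¹) := by
    intro g h
    have h1 : π ((g * x * g⁻¹) * (h * x * h⁻¹) * (g * x * g⁻¹)⁻¹ * (h * x * h⁻¹)⁻¹) = 1 :=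
      (QuotientGroup.eq_one_iff _).2 (Cfsg.Agent.S4364.result r x ⟨a, ha⟩ g h)
    rw [map_mul, map_mul, map_mul, map_inv, map_inv, ← commutatorElement_def,
      commutatorElement_eq_one_iff_mul_comm] at h1
    exact h1
  have hconj : ∀ y ∈ Group.conjugatesOfSet ({π x} : Set (G ⧸ Cfsg.pCore r G)), ∃ g : G, π (g * x * g⁻¹) = y := by
    intro y hy
    obtain ⟨_, rfl, hc⟩ := Group.mem_conjugatesOfSet_iff.1 hy
    obtain ⟨c, hc'⟩ := isConj_iff.1 hc
    obtain ⟨g, rfl⟩ := QuotientGroup.mk'_surjective _ c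
    exact ⟨g, by rw [← hc', map_mul, map_mul, map_inv]⟩
  haveI : IsMulCommutative ↥(normalClosure ({π x} : Set (G ⧸ Cfsg.pCore r G))) :=
    isMulCommutative_closure fun y hy z hz => by
      obtain ⟨g, rfl⟩ := hconj y hy
      obtain ⟨h, rfl⟩ := hconj z hz
      exact hcomm g h
  have hcl : IsPGroup q ↥(normalClosure ({π x} : Set (G ⧸ Cfsg.pCore r G))) := by
    rintro ⟨t, ht⟩
    refine ⟨k, Subtype.ext ?_⟩
    show t ^ q ^ k = 1
    refine closure_induction (p := fun t _ => t ^ q ^ k = 1) ?_ (one_pow _) ?_ ?_ ht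
    · intro y hy
      obtain ⟨g, rfl⟩ := hconj y hy
      rw [← map_pow, conj_pow, ← hk, pow_orderOf_eq_one, mul_one, mul_inv_cancel, map_one]
    · intro y z hy hz hy' hz'
      have hc : Commute y z := congrArg Subtype.val
        ((inferInstance : IsMulCommutative ↥(normalClosure ({π x} : Set (G ⧸ Cfsg.pCore r G)))).is_comm.comm
          ⟨y, hy⟩ ⟨z, hz⟩)
      rw [hc.mul_pow, hy', hz', one_mul]
    · intro y _ hy'
      rw [inv_pow, hy', inv_one]
  exact Cfsg.Lib.Core.le_pCore hcl (subset_normalClosure rfl)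

omit [Finite G] in
theorem index_centralizer_conj (g x : G) :
    (centralizer ({g * x * g⁻¹} : Set G)).index = (centralizer ({x} : Set G)).index :=
  Cfsg.Lib.Coprime.ClassBound.cls_map_mulEquiv (MulAut.conj g) x

omit [Finite G] in
theorem relIndex_of_ker {G' : Type*} [Group G'] (f : G →* G') {K : Subgroup G} (h : f.ker = K) (L : Subgroup G) :
    K.relIndex L = Nat.card (L.map f) := by
  subst h
  exact relIndex_ker L f

/-- Two commuting elements whose classes have coprime sizes. -/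
theorem index_ne_coprime_aux {r s a b : ℕ} [Fact r.Prime] [Fact s.Prime] (hrs : r ≠ s) (hrq : r ≠ q) {x y : G}
    (hxy : Commute x y) (hyq : ∃ k, orderOf y = q ^ k)
    (ha : (centralizer ({x} : Set G)).index = r ^ a) (hb : (centralizer ({y} : Set G)).index = s ^ b)
    (hb0 : b ≠ 0) (hz : (centralizer ({x * y} : Set G)).index ∣ r ^ a) : False := by
  classical
  set Cx := centralizer ({x} : Set G) with hCx
  set Cy := centralizer ({y} : Set G) with hCy
  set z := x * y with hzdef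
  -- the centralisers cover the group
  have hcov : ∀ g : G, ∃ d ∈ Cy, ∃ c ∈ Cx, g = d * c := by
    intro g
    have h1 : r ^ a ∣ Cx.relIndex Cy := by
      have h2 := relIndex_mul_index (inf_le_right : Cx ⊓ Cy ≤ Cy)
      rw [inf_relIndex_right, hb] at h2
      have h3 : Cx.index ∣ (Cx ⊓ Cy).index := index_dvd_of_le inf_le_left
      rw [ha, ← h2] at h3
      exact (((Nat.coprime_primes (Fact.out) (Fact.out)).2 hrs).pow a b).dvd_of_dvd_mul_right h3
    have h4 : MulAction.orbit Cy ((1 : G) : G ⧸ Cx) = Set.univ := by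
      refine Set.eq_of_subset_of_ncard_le (Set.subset_univ _) ?_ (Set.toFinite _)
      rw [Set.ncard_univ, ← index_eq_card, ha, ← MulAction.index_stabilizer]
      have e : MulAction.stabilizer Cy ((1 : G) : G ⧸ Cx) = Cx.subgroupOf Cy := by
        ext d
        show ((((d : G) * 1 : G)) : G ⧸ Cx) = ((1 : G) : G ⧸ Cx) ↔ _
        rw [mul_one, eq_comm, QuotientGroup.eq, inv_one, one_mul, mem_subgroupOf]
      rw [e]
      exact Nat.le_of_dvd (Nat.pos_of_ne_zero index_ne_zero_of_finite) h1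
    obtain ⟨d, hd⟩ : (g : G ⧸ Cx) ∈ MulAction.orbit Cy ((1 : G) : G ⧸ Cx) := h4 ▸ Set.mem_univ _
    refine ⟨d, d.2, (d : G)⁻¹ * g, ?_, (mul_inv_cancel_left _ _).symm⟩
    have h5 : ((((d : G) * 1 : G)) : G ⧸ Cx) = (g : G ⧸ Cx) := hd
    rwa [mul_one, QuotientGroup.eq] at h5
  let X := Cfsg.Lib.Coprime.ClassBound.conjSet x
  let Z := Cfsg.Lib.Coprime.ClassBound.conjSet z
  have hXc : X.ncard = r ^ a := by
    rw [← Nat.card_coe_set_eq, Cfsg.Lib.Coprime.ClassBound.card_conjSet, Cfsg.Lib.Coprime.ClassBound.cls, ha]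
  have hZc : Z.ncard ≤ r ^ a := by
    rw [← Nat.card_coe_set_eq, Cfsg.Lib.Coprime.ClassBound.card_conjSet]
    exact Nat.le_of_dvd (Nat.pow_pos (Fact.out : r.Prime).pos) hz
  -- every product of a conjugate of `x` and one of `y` is a conjugate of `x * y`
  have hprod : ∀ g h : G, (fun u => u * (h * y * h⁻¹)) (g * x * g⁻¹) ∈ Z := by
    intro g h
    obtain ⟨d, hd, c, hc, he⟩ := hcov (h⁻¹ * g)
    have hk : h * d = g * c⁻¹ := by rw [show d = h⁻¹ * g * c⁻¹ by rw [he, mul_inv_cancel_right]]; group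
    refine ⟨h * d, ?_⟩
    have e1 : (h * d) * x * (h * d)⁻¹ = g * x * g⁻¹ := by
      rw [hk, mul_inv_rev, inv_inv, show g * c⁻¹ * x * (c * g⁻¹) = g * (c⁻¹ * (x * c)) * g⁻¹ by group,
        ← mem_centralizer_singleton_iff.1 hc, inv_mul_cancel_left]
    have e2 : (h * d) * y * (h * d)⁻¹ = h * y * h⁻¹ := by
      rw [mul_inv_rev, show h * d * y * (d⁻¹ * h⁻¹) = h * (d * y * d⁻¹) * h⁻¹ by group,
        mem_centralizer_singleton_iff.1 hd, mul_inv_cancel_right]
    show h * d * (x * y) * (h * d)⁻¹ = g * x * g⁻¹ * (h * y * h⁻¹)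
    rw [← e1, ← e2]
    group
  have himg : ∀ h : G, (fun u => u * (h * y * h⁻¹)) '' X = Z := fun h =>
    Set.eq_of_subset_of_ncard_le (by rintro _ ⟨_, ⟨g, rfl⟩, rfl⟩; exact hprod g h)
      (by rw [Set.ncard_image_of_injective _ (mul_left_injective _), hXc]; exact hZc) (Set.toFinite _)
  have hcent : ∀ g : G, g * y * g⁻¹ * y⁻¹ = 1 := by
    intro g
    set d := g * y * g⁻¹ * y⁻¹ with hd
    have hX : ∀ u ∈ X, u * d ∈ X := by
      intro u hu
      obtain ⟨u', hu', he⟩ : u * (g * y * g⁻¹) ∈ (fun u => u * ((1 : G) * y * 1⁻¹)) '' X :=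
        (himg 1).symm ▸ himg g ▸ ⟨u, hu, rfl⟩
      simp only [one_mul, inv_one, mul_one] at he
      rw [hd, ← mul_assoc, ← he, mul_inv_cancel_right]
      exact hu'
    have hXd : ∀ m : ℕ, ∀ u ∈ X, u * d ^ m ∈ X := by
      intro m
      induction m with
      | zero => intro u hu; simpa using hu
      | succ m ih => intro u hu; rw [pow_succ, ← mul_assoc]; exact hX _ (ih u hu)
    have hsat : ((↑) : G → G ⧸ zpowers d) ⁻¹' (((↑) : G → G ⧸ zpowers d) '' X) = X := by
      refine Set.Subset.antisymm ?_ (Set.subset_preimage_image _ _)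
      rintro v ⟨u, hu, he⟩
      obtain ⟨m, hm⟩ := mem_powers_iff_mem_zpowers.2 (QuotientGroup.eq.1 he)
      have := hXd m u hu
      rwa [show d ^ m = u⁻¹ * v from hm, mul_inv_cancel_left] at this
    have hdr : orderOf d ∣ r ^ a := by
      rw [← hXc, ← Nat.card_coe_set_eq, ← hsat,
        Nat.card_congr (QuotientGroup.preimageMkEquivSubgroupProdSet _ _), Nat.card_prod, Nat.card_zpowers]
      exact dvd_mul_right _ _
    have hdN : d ∈ (Cfsg.pCore q (G ⧸ Cfsg.pCore s G)).comap (QuotientGroup.mk' (Cfsg.pCore s G)) := by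
      have h1 := mem_comap_pCore (q := q) hyq hb
      exact mul_mem ((Normal.comap inferInstance _).conj_mem y h1 g) (inv_mem h1)
    set π := QuotientGroup.mk' (Cfsg.pCore s G)
    have hπd : π d = 1 := by
      obtain ⟨j, hj⟩ := Cfsg.Lib.Core.pCore_isPGroup q _ ⟨π d, hdN⟩
      rw [← orderOf_eq_one_iff]
      exact Nat.eq_one_of_dvd_coprimes (((Nat.coprime_primes (Fact.out) hq.out).2 hrq).pow a j)
        ((orderOf_map_dvd π d).trans hdr) (orderOf_dvd_of_pow_eq_one (congrArg Subtype.val hj))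
    obtain ⟨i, hi⟩ := Cfsg.Lib.Core.pCore_isPGroup s G ⟨d, (QuotientGroup.eq_one_iff _).1 hπd⟩
    rw [← orderOf_eq_one_iff]
    exact Nat.eq_one_of_dvd_coprimes (((Nat.coprime_primes (Fact.out) (Fact.out)).2 hrs).pow a i) hdr
      (orderOf_dvd_of_pow_eq_one (congrArg Subtype.val hi))
  have htop : Cy = ⊤ := eq_top_iff.2 fun g _ => mem_centralizer_singleton_iff.2 (by
    have := mul_inv_eq_one.1 (hcent g)
    rwa [mul_inv_eq_iff_eq_mul] at this)
  rw [htop, index_top] at hb
  exact absurd hb.symm (Nat.one_lt_pow hb0 (Fact.out : s.Prime).one_lt).ne'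

/-- Two commuting `q`-elements with nontrivial classes of prime power size involve the same prime. -/
theorem prime_eq {r s t a b c : ℕ} [Fact r.Prime] [Fact s.Prime] (ht : t.Prime) (hrq : r ≠ q) (hsq : s ≠ q)
    {x y : G} (hxy : Commute x y) (hxq : ∃ k, orderOf x = q ^ k) (hyq : ∃ k, orderOf y = q ^ k)
    (ha : (centralizer ({x} : Set G)).index = r ^ a) (hb : (centralizer ({y} : Set G)).index = s ^ b)
    (ha0 : a ≠ 0) (hb0 : b ≠ 0) (hc : (centralizer ({x * y} : Set G)).index = t ^ c) : r = s := by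
  by_contra hrs
  have hle : centralizer ({x} : Set G) ⊓ centralizer ({y} : Set G) ≤ centralizer ({x * y} : Set G) := by
    rintro g ⟨h1', h2'⟩
    have h1 := mem_centralizer_singleton_iff.1 h1'
    have h2 := mem_centralizer_singleton_iff.1 h2'
    rw [mem_centralizer_singleton_iff, ← mul_assoc, h1, mul_assoc, h2, ← mul_assoc]
  have h1 : t ^ c ∣ r ^ a * s ^ b := by
    refine hc ▸ (index_dvd_of_le hle).trans ?_
    have h2 := relIndex_mul_index (inf_le_right : centralizer ({x} : Set G) ⊓ centralizer ({y} : Set G) ≤ _)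
    have h3 := index_dvd_of_le (inf_le_left : centralizer ({x} : Set G) ⊓ centralizer ({y} : Set G) ≤ _)
    rw [inf_relIndex_right, hb] at h2
    rw [ha, ← h2] at h3
    have h4 := (((Nat.coprime_primes (Fact.out) (Fact.out)).2 hrs).pow a b).dvd_of_dvd_mul_right h3
    rw [← h2]
    refine Nat.mul_dvd_mul_right ?_ _
    have h5 : (centralizer ({x} : Set G)).relIndex (centralizer ({y} : Set G)) ≤ r ^ a := by
      rw [← ha, ← relIndex_top_right]
      exact relIndex_le_of_le_right le_top (by rw [relIndex_top_right]; exact index_ne_zero_of_finite)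
    exact dvd_of_eq (le_antisymm h5 (Nat.le_of_dvd (Nat.pos_of_ne_zero index_ne_zero_of_finite) h4))
  by_cases hts : t = s
  · subst hts
    refine index_ne_coprime_aux (Ne.symm hrs) hsq hxy.symm hxq hb ha ha0 ?_
    rw [← hxy.eq, hc]
    exact (Nat.Coprime.pow c a ((Nat.coprime_primes ht Fact.out).2 (Ne.symm hrs))).dvd_of_dvd_mul_left h1
  · refine index_ne_coprime_aux hrs hrq hxy hyq ha hb hb0 ?_
    rw [hc]
    exact (Nat.Coprime.pow c b ((Nat.coprime_primes ht Fact.out).2 hts)).dvd_of_dvd_mul_right h1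

/-- Let G be a finite group and q a prime dividing its order such that every element of q-power order has a conjugacy class of prime-power size. Then G is q-solvable of q-length 1: there are normal subgroups K ≤ L of G with K of order prime to q, L/K a q-group and L of index prime to q. Moreover there is a prime p such that every element of q-power order has a class of p-power size (one prime serving for all of them), and for a Sylow q-subgroup Q: if p = q then Q is normal with a normal complement (a direct factor), while if p ≠ q then Q is abelian, the product of Q with the largest normal p-subgroup O_p(G) is normal in G, and G/O_{q'}(G) is solvable, where O_{q'}(G) is the largest normal subgroup of order prime to q. -/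
theorem result {G : Type*} [Group G] [Finite G] (q : ℕ) [Fact q.Prime] (hq : q ∣ Nat.card G)
    (hBaer : ∀ x : G, (∃ k : ℕ, orderOf x = q ^ k) → ∃ (r : ℕ) (a : ℕ), r.Prime ∧ (Subgroup.centralizer ({x} : Set G)).index = r ^ a) (Q : Sylow q G) :
    (∃ K L : Subgroup G, K.Normal ∧ L.Normal ∧ K ≤ L ∧ (Nat.card K).Coprime q ∧ (∃ m : ℕ, K.relIndex L = q ^ m) ∧ L.index.Coprime q) ∧
    ∃ p : ℕ, p.Prime ∧ (∀ x : G, (∃ k : ℕ, orderOf x = q ^ k) → ∃ a : ℕ, (Subgroup.centralizer ({x} : Set G)).index = p ^ a) ∧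
      (p = q → (Q : Subgroup G).Normal ∧ ∃ N : Subgroup G, N.Normal ∧ N.IsComplement' (Q : Subgroup G)) ∧
      (p ≠ q → IsMulCommutative (Q : Subgroup G) ∧ (Cfsg.pCore p G ⊔ (Q : Subgroup G)).Normal ∧
        ∀ _h : (Cfsg.pPrimeCore q G).Normal, Group.IsSolvable (G ⧸ Cfsg.pPrimeCore q G)) := by
  set K := Cfsg.pPrimeCore q G with hK
  haveI : K.Normal := inferInstance
  set π := QuotientGroup.mk' K with hπ
  set M := Cfsg.pCore q (G ⧸ K) with hM
  have hKcop : (Nat.card K).Coprime q := Cfsg.Lib.Core.pPrimeCore_coprime q G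
  have hcard_r : ∀ {r : ℕ} [Fact r.Prime] {N : Subgroup G}, IsPGroup r N → r ≠ q → (Nat.card N).Coprime q := by
    intro r hr N hN hrq
    obtain ⟨n, hn⟩ := IsPGroup.iff_card.1 hN
    rw [hn]
    exact Nat.Coprime.pow_left n ((Nat.coprime_primes hr.out (Fact.out)).2 hrq)
  have hqel : ∀ {R : Subgroup G}, IsPGroup q R → ∀ {x : G}, x ∈ R → ∃ k, orderOf x = q ^ k := by
    intro R hR x hx
    obtain ⟨k, hk⟩ := IsPGroup.iff_orderOf.1 hR ⟨x, hx⟩
    exact ⟨k, by rwa [Subgroup.orderOf_mk] at hk⟩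
  -- elements of `q`-power order lie in `O_{q',q}(G)`
  have hcore : ∀ {x : G} {a : ℕ}, (∃ k, orderOf x = q ^ k) → (centralizer ({x} : Set G)).index = q ^ a →
      x ∈ Cfsg.pCore q G := by
    intro x a hx ha
    have h1 := mem_comap_pCore (q := q) hx ha
    rw [Cfsg.Lib.Core.pCore_quotient_pCore_eq_bot, MonoidHom.comap_bot, QuotientGroup.ker_mk'] at h1
    exact h1
  have hmemL : ∀ x : G, (∃ k, orderOf x = q ^ k) → π x ∈ M := by
    intro x hx
    obtain ⟨r, a, hr, ha⟩ := hBaer x hx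
    haveI : Fact r.Prime := ⟨hr⟩
    by_cases hrq : r = q
    · subst hrq
      exact Cfsg.Lib.Core.map_pCore_le π (QuotientGroup.mk'_surjective K) (mem_map_of_mem π (hcore hx ha))
    · have hle : Cfsg.pCore r G ≤ K :=
        Cfsg.Lib.Core.le_pPrimeCore (hcard_r (Cfsg.Lib.Core.pCore_isPGroup r G) hrq)
      let f : G ⧸ Cfsg.pCore r G →* G ⧸ K := QuotientGroup.map _ K (MonoidHom.id G) hle
      have hf : Function.Surjective f := fun u => by
        obtain ⟨g, rfl⟩ := QuotientGroup.mk'_surjective K u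
        exact ⟨QuotientGroup.mk' _ g, rfl⟩
      exact Cfsg.Lib.Core.map_pCore_le f hf ⟨_, mem_comap_pCore (q := q) hx ha, rfl⟩
  have hMp : IsPGroup q M := Cfsg.Lib.Core.pCore_isPGroup q _
  have himage : ∀ R : Sylow q G, (R : Subgroup G).map π = M := fun R =>
    ((R.mapSurjective (QuotientGroup.mk'_surjective K)).is_maximal' hMp (by
      rintro _ ⟨u, hu, rfl⟩; exact hmemL u (hqel R.2 hu))).symm
  have hQL : (Q : Subgroup G) ≤ M.comap π := fun x hx => hmemL x (hqel Q.2 hx)
  refine ⟨⟨K, M.comap π, inferInstance, Normal.comap inferInstance π, ?_, hKcop, ?_, ?_⟩, ?_⟩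
  · exact (QuotientGroup.ker_mk' K).ge.trans (ker_le_comap π M)
  · obtain ⟨m, hm⟩ := IsPGroup.iff_card.1 hMp
    refine ⟨m, ?_⟩
    rw [relIndex_of_ker π (QuotientGroup.ker_mk' K) (M.comap π),
      map_comap_eq_self_of_surjective (QuotientGroup.mk'_surjective K), hm]
  · exact Nat.Coprime.coprime_dvd_left (index_dvd_of_le hQL)
      ((Nat.Prime.coprime_iff_not_dvd Fact.out).2 Q.not_dvd_index).symm
  -- class of size prime to `q`
  have keyA : ∀ u ∈ (Q : Subgroup G), ¬ q ∣ (centralizer ({u} : Set G)).index →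
      ∀ y ∈ (Q : Subgroup G), y * u = u * y := by
    intro u hu hndvd y hy
    obtain ⟨S⟩ : Nonempty (Sylow q ↥(centralizer ({u} : Set G))) := inferInstance
    have hS : ¬ q ∣ ((S : Subgroup ↥(centralizer ({u} : Set G))).map (centralizer ({u} : Set G)).subtype).index := by
      rw [index_map_subtype, (Fact.out : q.Prime).dvd_mul, not_or]
      exact ⟨S.not_dvd_index, hndvd⟩
    set R := (S.2.map (centralizer ({u} : Set G)).subtype).toSylow hS with hR
    obtain ⟨y', hy', he⟩ : π y ∈ (R : Subgroup G).map π := by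
      rw [himage R, ← himage Q]; exact mem_map_of_mem π hy
    have hy'u : y' * u = u * y' :=
      mem_centralizer_singleton_iff.1 (map_subtype_le (S : Subgroup ↥(centralizer ({u} : Set G))) hy')
    have h1 : π ⁅y, u⁆ = 1 := by
      rw [map_commutatorElement, ← he, ← map_commutatorElement, commutatorElement_eq_one_iff_mul_comm.2 hy'u, map_one]
    have h2 : ⁅y, u⁆ ∈ (Q : Subgroup G) :=
      mul_mem (mul_mem (mul_mem hy hu) (inv_mem hy)) (inv_mem hu)
    obtain ⟨n, hn⟩ := IsPGroup.iff_orderOf.1 Q.2 ⟨_, h2⟩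
    rw [Subgroup.orderOf_mk] at hn
    have h3 : orderOf ⁅y, u⁆ ∣ Nat.card K := Subgroup.orderOf_dvd_natCard K ((QuotientGroup.eq_one_iff _).1 h1)
    exact commutatorElement_eq_one_iff_mul_comm.1 (orderOf_eq_one_iff.1
      (Nat.eq_one_of_dvd_coprimes (hKcop.pow_right n) h3 (dvd_of_eq hn)))
  have hQconj : ∀ x : G, (∃ k, orderOf x = q ^ k) → ∃ g : G, g * x * g⁻¹ ∈ (Q : Subgroup G) := by
    rintro x ⟨k, hk⟩
    obtain ⟨R, hR⟩ := (IsPGroup.of_card (p := q) (n := k) (by rw [Nat.card_zpowers, hk]) :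
      IsPGroup q (zpowers x)).exists_le_sylow
    obtain ⟨g, hg⟩ := MulAction.exists_smul_eq G R Q
    refine ⟨g, ?_⟩
    rw [← hg, Sylow.coe_subgroup_smul]
    exact smul_mem_pointwise_smul x (MulAut.conj g) _ (hR (mem_zpowers x))
  have hall : ∀ {p : ℕ}, (∀ x ∈ (Q : Subgroup G), ∃ a : ℕ, (centralizer ({x} : Set G)).index = p ^ a) →
      ∀ x : G, (∃ k, orderOf x = q ^ k) → ∃ a : ℕ, (centralizer ({x} : Set G)).index = p ^ a := by
    intro p h x hx
    obtain ⟨g, hg⟩ := hQconj x hx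
    rw [← index_centralizer_conj g x]
    exact h _ hg
  obtain ⟨n, hn⟩ := IsPGroup.iff_card.1 Q.2
  have hcopQ : (Nat.card (Q : Subgroup G)).Coprime (Q : Subgroup G).index := Q.card_coprime_index
  by_cases hab : IsMulCommutative (Q : Subgroup G)
  swap
  · -- nonabelian Sylow subgroup
    have hnc : ∀ u ∈ (Q : Subgroup G), ¬ (∀ y ∈ (Q : Subgroup G), y * u = u * y) →
        ∃ a, (centralizer ({u} : Set G)).index = q ^ a := by
      intro u hu hne
      obtain ⟨r, a, hr, ha⟩ := hBaer u (hqel Q.2 hu)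
      by_contra hcon
      refine hne (keyA u hu (ha ▸ fun hd => ?_))
      have := (Nat.prime_dvd_prime_iff_eq Fact.out hr).1 ((Fact.out : q.Prime).dvd_of_dvd_pow hd)
      exact hcon ⟨a, this ▸ ha⟩
    obtain ⟨u₀, hu₀, hu₀nc⟩ : ∃ u₀ ∈ (Q : Subgroup G), ¬ (∀ y ∈ (Q : Subgroup G), y * u₀ = u₀ * y) := by
      by_contra hcon
      push Not at hcon
      exact hab ⟨⟨fun u v => Subtype.ext (hcon v v.2 u u.2)⟩⟩
    have hsplit : ∀ z ∈ (Q : Subgroup G), (∀ y ∈ (Q : Subgroup G), y * z = z * y) →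
        ¬ (∀ y ∈ (Q : Subgroup G), y * (u₀⁻¹ * z) = u₀⁻¹ * z * y) := by
      intro z hz hzc h
      refine hu₀nc fun y hy => ?_
      have h1 := h y hy
      rw [mul_assoc u₀⁻¹, ← hzc y hy, ← mul_assoc, ← mul_assoc, mul_right_cancel_iff,
        eq_inv_mul_iff_mul_eq, ← mul_assoc, mul_inv_eq_iff_eq_mul] at h1
      exact h1.symm
    have hQle : (Q : Subgroup G) ≤ Cfsg.pCore q G := by
      intro z hz
      have hA : ∀ u ∈ (Q : Subgroup G), ¬ (∀ y ∈ (Q : Subgroup G), y * u = u * y) → u ∈ Cfsg.pCore q G :=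
        fun u hu hne => (hnc u hu hne).elim fun a ha => hcore (hqel Q.2 hu) ha
      by_cases hzc : ∀ y ∈ (Q : Subgroup G), y * z = z * y
      · have := mul_mem (hA _ hu₀ hu₀nc) (hA _ (mul_mem (inv_mem hu₀) hz) (hsplit z hz hzc))
        rwa [mul_inv_cancel_left] at this
      · exact hA z hz hzc
    have hQeq : (Q : Subgroup G) = Cfsg.pCore q G := le_antisymm hQle (Cfsg.Lib.Core.pCore_le_sylow Q)
    haveI hQn : (Q : Subgroup G).Normal := hQeq ▸ inferInstance
    obtain ⟨H, hH⟩ := exists_right_complement'_of_coprime hcopQ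
    have hHc : (Nat.card H).Coprime (Nat.card (Q : Subgroup G)) := by
      rw [← hH.symm.index_eq_card]; exact hcopQ.symm
    have hcov : ∀ g : G, ∃ y ∈ (Q : Subgroup G), ∃ h ∈ H, y * h = g := fun g =>
      mem_sup_of_normal_left.1 (hH.sup_eq_top ▸ mem_top g)
    have hcomm : ∀ u ∈ (Q : Subgroup G), ∀ h ∈ H, ⁅u, h⁆ ∈ ⁅(Q : Subgroup G), (Q : Subgroup G)⁆ := by
      have hA : ∀ u ∈ (Q : Subgroup G), ¬ (∀ y ∈ (Q : Subgroup G), y * u = u * y) → ∀ h ∈ H,
          ⁅u, h⁆ ∈ ⁅(Q : Subgroup G), (Q : Subgroup G)⁆ := by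
        intro u hu hne h hh
        obtain ⟨a, ha⟩ := hnc u hu hne
        have htop : (Q : Subgroup G) ⊔ centralizer ({u} : Set G) = ⊤ := index_eq_one.1
          (Nat.eq_one_of_dvd_coprimes (((Nat.Prime.coprime_iff_not_dvd Fact.out).2 Q.not_dvd_index).pow_left a)
            (ha ▸ index_dvd_of_le le_sup_right) (index_dvd_of_le le_sup_left))
        obtain ⟨y, hy, c, hc, rfl⟩ := mem_sup_of_normal_left.1 (htop ▸ mem_top h)
        have : ⁅u, y * c⁆ = ⁅u, y⁆ := by
          rw [commutatorElement_def, commutatorElement_def, mul_inv_rev,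
            show u * (y * c) * u⁻¹ * (c⁻¹ * y⁻¹) = u * y * (c * u⁻¹ * c⁻¹) * y⁻¹ by group,
            ((show Commute c u from mem_centralizer_singleton_iff.1 hc).inv_right).eq, mul_inv_cancel_right]
        rw [this]
        exact commutator_mem_commutator hu hy
      intro z hz h hh
      by_cases hzc : ∀ y ∈ (Q : Subgroup G), y * z = z * y
      · have e : ⁅u₀ * (u₀⁻¹ * z), h⁆ = u₀ * ⁅u₀⁻¹ * z, h⁆ * u₀⁻¹ * ⁅u₀, h⁆ := by
          simp only [commutatorElement_def]; group
        rw [← mul_inv_cancel_left u₀ z, e]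
        exact mul_mem ((commutator_normal (Q : Subgroup G) (Q : Subgroup G)).conj_mem _
          (hA _ (mul_mem (inv_mem hu₀) hz) (hsplit z hz hzc) h hh) u₀) (hA _ hu₀ hu₀nc h hh)
      · exact hA z hz hzc h hh
    have hHN : H ≤ normalizer ((Q : Subgroup G) : Set G) := normalizer_eq_top (Q : Subgroup G) ▸ le_top
    haveI := Q.2.isNilpotent
    have hHQ : H ≤ centralizer ((Q : Subgroup G) : Set G) := by
      refine Cfsg.Lib.Coprime.le_centralizer_of_commutator_le_frattini hHN hHc (Or.inr inferInstance) ?_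
      rw [commutator_le]
      intro u hu h hh
      refine Subgroup.map_mono (Cfsg.Lib.PGroup.commutator_le_frattini Q.2) ?_
      rw [map_subtype_commutator]
      exact hcomm u hu h hh
    have hHn : H.Normal := ⟨fun h hh g => by
      obtain ⟨y, hy, h', hh', rfl⟩ := hcov g
      have h1 : h' * h * h'⁻¹ ∈ H := mul_mem (mul_mem hh' hh) (inv_mem hh')
      rwa [mul_inv_rev, show y * h' * h * (h'⁻¹ * y⁻¹) = y * (h' * h * h'⁻¹) * y⁻¹ by group,
        mem_centralizer_iff.1 (hHQ h1) y hy, mul_inv_cancel_right]⟩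
    refine ⟨q, Fact.out, hall fun x hx => ?_, fun _ => ⟨hQn, H, hHn, hH.symm⟩, fun h => absurd rfl h⟩
    have h1 : (centralizer ({x} : Set G)).index ∣ H.index := index_dvd_of_le fun h hh =>
      mem_centralizer_singleton_iff.2 ((mem_centralizer_iff.1 (hHQ hh) x hx).symm)
    rw [hH.index_eq_card, hn] at h1
    obtain ⟨a, -, ha⟩ := (Nat.dvd_prime_pow (Fact.out : q.Prime)).1 h1
    exact ⟨a, ha⟩
  -- abelian Sylow subgroup
  have hQcomm : ∀ u ∈ (Q : Subgroup G), ∀ v ∈ (Q : Subgroup G), u * v = v * u := fun u hu v hv =>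
    congrArg Subtype.val (hab.is_comm.comm ⟨u, hu⟩ ⟨v, hv⟩)
  by_cases hcen : ∀ x ∈ (Q : Subgroup G), centralizer ({x} : Set G) = ⊤
  · have hc : ∀ x ∈ (Q : Subgroup G), ∀ g : G, g * x = x * g := fun x hx g =>
      mem_centralizer_singleton_iff.1 (hcen x hx ▸ mem_top g)
    haveI hQn : (Q : Subgroup G).Normal := ⟨fun x hx g => by rwa [hc x hx g, mul_inv_cancel_right]⟩
    obtain ⟨H, hH⟩ := exists_right_complement'_of_coprime hcopQ
    have hHn : H.Normal := ⟨fun h hh g => by
      obtain ⟨y, hy, h', hh', rfl⟩ := mem_sup_of_normal_left.1 (hH.sup_eq_top ▸ mem_top g)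
      have h1 : h' * h * h'⁻¹ ∈ H := mul_mem (mul_mem hh' hh) (inv_mem hh')
      rwa [mul_inv_rev, show y * h' * h * (h'⁻¹ * y⁻¹) = y * (h' * h * h'⁻¹) * y⁻¹ by group,
        ← hc y hy, mul_inv_cancel_right]⟩
    exact ⟨q, Fact.out, hall fun x hx => ⟨0, by rw [hcen x hx, index_top, pow_zero]⟩,
      fun _ => ⟨hQn, H, hHn, hH.symm⟩, fun h => absurd rfl h⟩
  push Not at hcen
  obtain ⟨x₀, hx₀, hx₀c⟩ := hcen
  obtain ⟨p, a₀, hp, ha₀⟩ := hBaer x₀ (hqel Q.2 hx₀)
  have hne_q : ∀ {x : G}, x ∈ (Q : Subgroup G) → ∀ {r a : ℕ}, r.Prime →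
      (centralizer ({x} : Set G)).index = r ^ a → a ≠ 0 → r ≠ q := by
    rintro x hx r a hr ha ha0 rfl
    refine Q.not_dvd_index ((dvd_pow_self r ha0).trans (ha ▸ index_dvd_of_le fun y hy => ?_))
    exact mem_centralizer_singleton_iff.2 (hQcomm y hy x hx)
  have ha₀0 : a₀ ≠ 0 := fun h => hx₀c (index_eq_one.1 (by rw [ha₀, h, pow_zero]))
  have hpq := hne_q hx₀ hp ha₀ ha₀0
  haveI : Fact p.Prime := ⟨hp⟩
  have hQp : ∀ x ∈ (Q : Subgroup G), ∃ a : ℕ, (centralizer ({x} : Set G)).index = p ^ a := by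
    intro x hx
    obtain ⟨s, b, hs, hb⟩ := hBaer x (hqel Q.2 hx)
    by_cases hb0 : b = 0
    · exact ⟨0, by rw [hb, hb0, pow_zero, pow_zero]⟩
    haveI : Fact s.Prime := ⟨hs⟩
    obtain ⟨t, c, ht, hc⟩ := hBaer (x₀ * x) (hqel Q.2 (mul_mem hx₀ hx))
    have : p = s := prime_eq ht hpq (hne_q hx hs hb hb0) (hQcomm x₀ hx₀ x hx) (hqel Q.2 hx₀) (hqel Q.2 hx)
      ha₀ hb ha₀0 hb0 hc
    exact ⟨b, this ▸ hb⟩
  refine ⟨p, hp, hall hQp, fun h => absurd h hpq, fun _ => ⟨hab, ?_, fun _ => ?_⟩⟩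
  · set σ := QuotientGroup.mk' (Cfsg.pCore p G) with hσ
    have hle : (Q : Subgroup G).map σ ≤ Cfsg.pCore q (G ⧸ Cfsg.pCore p G) := by
      rintro _ ⟨x, hx, rfl⟩
      obtain ⟨a, ha⟩ := hQp x hx
      exact mem_comap_pCore (hqel Q.2 hx) ha
    have heq := (Q.mapSurjective (QuotientGroup.mk'_surjective (Cfsg.pCore p G))).is_maximal'
      (Cfsg.Lib.Core.pCore_isPGroup q _) hle
    have h2 : Cfsg.pCore p G ⊔ (Q : Subgroup G) = (Cfsg.pCore q (G ⧸ Cfsg.pCore p G)).comap σ := by
      rw [heq, show ((Q.mapSurjective (QuotientGroup.mk'_surjective (Cfsg.pCore p G)) : Sylow q _) :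
        Subgroup _) = (Q : Subgroup G).map σ from rfl, comap_map_eq, QuotientGroup.ker_mk', sup_comm]
    rw [h2]
    exact Normal.comap inferInstance σ
  · have hMQ := himage Q
    haveI : IsMulCommutative ↥M := ⟨⟨fun u v => Subtype.ext (by
      obtain ⟨x, hx, hxe⟩ : (u : G ⧸ K) ∈ (Q : Subgroup G).map π := hMQ.symm ▸ u.2
      obtain ⟨y, hy, hye⟩ : (v : G ⧸ K) ∈ (Q : Subgroup G).map π := hMQ.symm ▸ v.2
      show (u : G ⧸ K) * v = v * u
      rw [← hxe, ← hye, ← map_mul, ← map_mul, hQcomm x hx y hy])⟩⟩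
    have hMidx : ¬ q ∣ M.index := fun h =>
      (Q.mapSurjective (QuotientGroup.mk'_surjective K)).not_dvd_index (by
        show q ∣ ((Q : Subgroup G).map π).index
        rwa [hMQ])
    obtain ⟨m, hm⟩ := IsPGroup.iff_card.1 hMp
    have hcopM : (Nat.card M).Coprime M.index :=
      hm ▸ Nat.Coprime.pow_left m ((Nat.Prime.coprime_iff_not_dvd Fact.out).2 hMidx)
    haveI : Subsingleton (((G ⧸ K) ⧸ M) ⧸ (⊤ : Subgroup ((G ⧸ K) ⧸ M))) := QuotientGroup.subsingleton_quotient_top
    have hps : Cfsg.IsPSolvable q (G ⧸ K) :=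
      Cfsg.Lib.Core.HasFactorChain.extension (P := Cfsg.Lib.Core.PFactor q) M (Or.inl ⟨m, hm⟩)
        (Cfsg.Lib.Core.HasFactorChain.extension ⊤ (Or.inr (by
          rw [card_top, ← index_eq_card]
          exact ((Nat.Prime.coprime_iff_not_dvd Fact.out).2 hMidx).symm))
          (Cfsg.Lib.Core.HasFactorChain.of_subsingleton _))
    have hCM : centralizer (M : Set (G ⧸ K)) ≤ M :=
      Cfsg.Lib.Core.centralizer_pCore_le_of_isPSolvable hps Cfsg.Lib.Core.pPrimeCore_quotient_eq_bot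
    obtain ⟨H, hH⟩ := exists_right_complement'_of_coprime hcopM
    have hcov : ∀ g : G ⧸ K, ∃ y ∈ M, ∃ h ∈ H, y * h = g := fun g =>
      mem_sup_of_normal_left.1 (hH.sup_eq_top ▸ mem_top g)
    haveI hHsol : Group.IsSolvable H := by
      refine Cfsg.Lib.Solv.PowerOrbits.isSolvable_of_ambient (p := p) (q := q) hpq M H
        (normalizer_eq_top M ▸ le_top) hMp ?_ (by rw [← hH.symm.index_eq_card]; exact hMidx) ?_
      · exact eq_bot_iff.2 fun h hh => hH.disjoint.le_bot ⟨hCM hh.2, hh.1⟩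
      · intro v hv
        obtain ⟨x, hx, rfl⟩ : v ∈ (Q : Subgroup G).map π := hMQ.symm ▸ hv
        obtain ⟨a, ha⟩ := hQp x hx
        have hdvd : (centralizer ({π x} : Set (G ⧸ K))).index ∣ p ^ a := by
          refine ha ▸ (index_dvd_of_le ?_).trans (index_map_dvd _ (QuotientGroup.mk'_surjective K))
          rintro _ ⟨b, hb, rfl⟩
          rw [SetLike.mem_coe, mem_centralizer_singleton_iff] at hb
          rw [mem_centralizer_singleton_iff, ← map_mul, ← map_mul, hb]
        obtain ⟨b, -, hb⟩ := (Nat.dvd_prime_pow hp).1 hdvd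
        refine ⟨b, ?_⟩
        set C := centralizer ({π x} : Set (G ⧸ K)) with hC
        rw [← hb, relIndex, index_eq_card C]
        have e : MulAction.stabilizer H ((1 : G ⧸ K) : (G ⧸ K) ⧸ C) = C.subgroupOf H := by
          ext d
          show ((((d : G ⧸ K) * 1 : G ⧸ K)) : (G ⧸ K) ⧸ C) = ((1 : G ⧸ K) : (G ⧸ K) ⧸ C) ↔ _
          rw [mul_one, eq_comm, QuotientGroup.eq, inv_one, one_mul, mem_subgroupOf]
        have horb : MulAction.orbit H ((1 : G ⧸ K) : (G ⧸ K) ⧸ C) = Set.univ := by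
          refine Set.eq_univ_of_forall fun w => ?_
          obtain ⟨g, rfl⟩ := QuotientGroup.mk_surjective w
          obtain ⟨y, hy, h, hh, he⟩ := hcov g⁻¹
          refine ⟨⟨h⁻¹, inv_mem hh⟩, ?_⟩
          show (((h⁻¹ * 1 : G ⧸ K)) : (G ⧸ K) ⧸ C) = (g : (G ⧸ K) ⧸ C)
          rw [mul_one, QuotientGroup.eq, inv_inv, hC, mem_centralizer_singleton_iff]
          have hhg : h * g = y⁻¹ := by rw [← inv_inv g, ← he, mul_inv_rev, mul_inv_cancel_left]
          rw [hhg]
          obtain ⟨x', hx', hxe⟩ : y⁻¹ ∈ (Q : Subgroup G).map π := hMQ.symm ▸ inv_mem hy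
          rw [← hxe, ← map_mul, ← map_mul, hQcomm x' hx' x hx]
        rw [← e, MulAction.index_stabilizer, horb, Set.ncard_univ]
    haveI : Group.IsSolvable M := Group.isSolvable_of_comm (inferInstance : IsMulCommutative ↥M).is_comm.comm
    haveI : Group.IsSolvable ((G ⧸ K) ⧸ M) :=
      Group.isSolvable_of_surjective (f := (QuotientGroup.mk' M).comp H.subtype) fun w => by
        obtain ⟨g, rfl⟩ := QuotientGroup.mk'_surjective M w
        obtain ⟨y, hy, h, hh, rfl⟩ := hcov g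
        refine ⟨⟨h, hh⟩, ?_⟩
        rw [map_mul, show QuotientGroup.mk' M y = 1 from (QuotientGroup.eq_one_iff y).2 hy, one_mul]
        rfl
    exact (Group.isSolvable_iff_subgroup_quotient M).2 ⟨inferInstance, inferInstance⟩

end Cfsg.Agent.S4125
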