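import Cfsg.Statements.S4126
import Cfsg.Agent.Lib.Thompson.Omega
import Cfsg.Agent.Lib.Fusion.Alperin
import Cfsg.Agent.Lib.Core.Basic

set_option autoImplicit false
set_option linter.style.haveILetI false
open Cfsg

namespace Cfsg.Agent.S4126

open Subgroup
open scoped Pointwise commutatorElement

variable {G : Type*} [Group G] [Finite G] {p : ℕ} [hp : Fact p.Prime]

theorem exists_mul_of_pow_index {C : Subgroup G} {a : ℕ} (hC : C.index = p ^ a) (P : Sylow p G)
    (g : G) : ∃ s ∈ (P : Subgroup G), ∃ c ∈ C, g = s * c := by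
  classical
  let f : (P : Subgroup G) ⧸ C.subgroupOf (P : Subgroup G) → G ⧸ C :=
    fun q => Quotient.map' (fun s : (P : Subgroup G) => (s : G)) (fun s t h => by
      rw [QuotientGroup.leftRel_apply] at h ⊢
      exact h) q
  have hinj : Function.Injective f := by
    intro q r h
    obtain ⟨s, rfl⟩ := QuotientGroup.mk_surjective q
    obtain ⟨t, rfl⟩ := QuotientGroup.mk_surjective r
    exact QuotientGroup.eq.mpr (QuotientGroup.eq.mp h : (s : G)⁻¹ * t ∈ C)
  have hcard : C.index ≤ (C.subgroupOf (P : Subgroup G)).index := by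
    obtain ⟨i, hi⟩ := IsPGroup.iff_card.mp ((P.2.to_le (inf_le_right : C ⊓ (P : Subgroup G) ≤ _)))
    have h1 : Nat.card (C ⊓ (P : Subgroup G) : Subgroup G) ∣ Nat.card C := card_dvd_of_le inf_le_left
    have h2 := Cfsg.Lib.Core.card_mul_relIndex (inf_le_right : C ⊓ (P : Subgroup G) ≤ _)
    rw [inf_relIndex_right] at h2
    change Nat.card (C ⊓ (P : Subgroup G) : Subgroup G) * (C.subgroupOf (P : Subgroup G)).index = _ at h2
    have hfac : i + a ≤ (Nat.card G).factorization p := by
      rw [← hp.out.pow_dvd_iff_le_factorization Nat.card_pos.ne', pow_add, ← C.card_mul_index, hC]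
      exact mul_dvd_mul_right (hi ▸ h1) _
    rw [hi, P.card_eq_multiplicity] at h2
    rw [hC]
    refine Nat.le_of_mul_le_mul_left ?_ (pow_pos hp.out.pos i)
    rw [h2, ← pow_add]
    exact Nat.pow_le_pow_right hp.out.pos hfac
  have : Function.Surjective f :=
    (hinj.bijective_of_nat_card_le hcard).2
  obtain ⟨q, hq⟩ := this (g : G ⧸ C)
  obtain ⟨s, rfl⟩ := QuotientGroup.mk_surjective q
  refine ⟨s, s.2, (s : G)⁻¹ * g, QuotientGroup.eq.mp hq, by group⟩

/-- Let G be a finite group and p a prime. Suppose every element of order p, and when p = 2 also every element of order 4, has a conjugacy class of p-power size. Then G has a normal p-complement. -/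
theorem result {G : Type*} [Group G] [Finite G] (p : ℕ) [Fact p.Prime]
    (h : ∀ x : G, (orderOf x = p ∨ (p = 2 ∧ orderOf x = 4)) → ∃ a : ℕ, (Subgroup.centralizer ({x} : Set G)).index = p ^ a) :
    Cfsg.HasNormalPComplement p G := by
  have hgood : ∀ x : G, (x ^ p = 1 ∨ (p = 2 ∧ x ^ 4 = 1)) →
      ∀ g : G, (orderOf g).Coprime p → g * x = x * g := by
    intro x
    induction hn : Nat.card (Subgroup.normalClosure ({x} : Set G)) using Nat.strong_induction_on
      generalizing x with
    | _ n ih =>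
    intro hx g hg
    by_cases hx1 : x = 1
    · simp [hx1]
    obtain ⟨a, ha⟩ : ∃ a : ℕ, (Subgroup.centralizer ({x} : Set G)).index = p ^ a := by
      by_cases hp2 : p = 2 ∧ ¬ x ^ p = 1
      · obtain ⟨hp2, hxp⟩ := hp2
        refine h x (Or.inr ⟨hp2, ?_⟩)
        subst hp2
        have h4 : x ^ 2 ^ (1 + 1) = 1 := (hx.resolve_left hxp).2
        exact orderOf_eq_prime_pow (by simpa using hxp) h4
      · refine h x (Or.inl (orderOf_eq_prime ?_ hx1))
        rcases hx with h1 | h1
        · exact h1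
        · exact by_contra fun h2 => hp2 ⟨h1.1, h2⟩
    -- `x` lies in a Sylow subgroup; the conjugates of `x` are its conjugates under it
    have hxpg : IsPGroup p (Subgroup.zpowers x) := by
      obtain ⟨k, hk⟩ : ∃ k, x ^ p ^ k = 1 := by
        rcases hx with h1 | ⟨h1, h2⟩
        · exact ⟨1, by rwa [pow_one]⟩
        · exact ⟨2, by subst h1; exact h2⟩
      intro z
      obtain ⟨i, hi⟩ := Subgroup.mem_zpowers_iff.mp z.2
      refine ⟨k, Subtype.ext ?_⟩
      show (z : G) ^ p ^ k = 1
      rw [← hi, ← zpow_natCast, ← zpow_mul, mul_comm, zpow_mul, zpow_natCast, hk, one_zpow]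
    obtain ⟨P, hP⟩ := hxpg.exists_le_sylow
    have hxP : x ∈ (P : Subgroup G) := hP (Subgroup.mem_zpowers x)
    set N := Subgroup.normalClosure ({x} : Set G) with hNdef
    have hconj : ∀ g : G, ∃ s ∈ (P : Subgroup G), g * x * g⁻¹ = s * x * s⁻¹ := by
      intro g
      obtain ⟨s, hs, c, hc, rfl⟩ := exists_mul_of_pow_index ha P g
      refine ⟨s, hs, ?_⟩
      have hcx : c * x = x * c := Subgroup.mem_centralizer_singleton_iff.mp hc
      calc s * c * x * (s * c)⁻¹ = s * (c * x) * c⁻¹ * s⁻¹ := by group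
        _ = s * x * s⁻¹ := by rw [hcx]; group
    have hNP : N ≤ (P : Subgroup G) := by
      rw [hNdef, Subgroup.normalClosure, Subgroup.closure_le]
      intro y hy
      obtain ⟨b, hb, hby⟩ := Group.mem_conjugatesOfSet_iff.mp hy
      rw [Set.mem_singleton_iff] at hb
      subst hb
      obtain ⟨g, rfl⟩ := isConj_iff.mp hby
      obtain ⟨s, hs, he⟩ := hconj g
      rw [he]
      exact mul_mem (mul_mem hs hxP) (inv_mem hs)
    have hNn : N.Normal := Subgroup.normalClosure_normal
    have hxN : x ∈ N := Subgroup.subset_normalClosure rfl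
    have hNp : IsPGroup p N := P.2.to_le hNP
    have hN0 : N ≠ ⊥ := fun h0 => hx1 (by rwa [h0, Subgroup.mem_bot] at hxN)
    have hPN : (P : Subgroup G) ≤ Subgroup.normalizer (N : Set G) := by
      rw [Subgroup.normalizer_eq_top_iff.mpr hNn]; exact le_top
    set L := ⁅N, (P : Subgroup G)⁆ with hL
    have hLlt : L < N := Cfsg.Lib.PGroup.commutator_lt_of_isPGroup hNp P.2 hPN hN0
    have hLn : N ≤ Subgroup.normalizer (L : Set G) :=
      Subgroup.normalizer_commutator_ge_left N (P : Subgroup G)
    set M := ⁅N, (⊤ : Subgroup G)⁆ with hM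
    have hML : M ≤ L := by
      rw [hM, Subgroup.commutator_le]
      intro y hy g _
      let T : Subgroup G :=
        { carrier := {y | y ∈ N ∧ ∀ g : G, y * g * y⁻¹ * g⁻¹ ∈ L}
          one_mem' := ⟨one_mem N, fun g => by simp⟩
          mul_mem' := by
            rintro y z ⟨hy, hy'⟩ ⟨hz, hz'⟩
            refine ⟨mul_mem hy hz, fun g => ?_⟩
            have h1 : y * z * g * (y * z)⁻¹ * g⁻¹ =
                y * (z * g * z⁻¹ * g⁻¹) * y⁻¹ * (y * g * y⁻¹ * g⁻¹) := by group
            rw [h1]
            exact L.mul_mem ((Subgroup.mem_normalizer_iff.mp (hLn hy) _).mp (hz' g)) (hy' g)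
          inv_mem' := by
            rintro y ⟨hy, hy'⟩
            refine ⟨inv_mem hy, fun g => ?_⟩
            have h1 : y⁻¹ * g * y⁻¹⁻¹ * g⁻¹ = y⁻¹ * (y * g * y⁻¹ * g⁻¹)⁻¹ * y := by group
            rw [h1]
            have h2 := (Subgroup.mem_normalizer_iff.mp (hLn (inv_mem hy)) _).mp (L.inv_mem (hy' g))
            rwa [inv_inv] at h2 }
      have hxconj : ∀ s : G, s ∈ (P : Subgroup G) → x * (s * x * s⁻¹)⁻¹ ∈ L := fun s hs => by
        rw [show x * (s * x * s⁻¹)⁻¹ = ⁅x, s⁆ by rw [commutatorElement_def]; group]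
        exact Subgroup.commutator_mem_commutator hxN hs
      have hall : ∀ u v : G, u * x * u⁻¹ * (v * x * v⁻¹)⁻¹ ∈ L := by
        intro u v
        obtain ⟨s, hs, hse⟩ := hconj u
        obtain ⟨t, ht, hte⟩ := hconj v
        rw [hse, hte, show s * x * s⁻¹ * (t * x * t⁻¹)⁻¹ =
          (x * (s * x * s⁻¹)⁻¹)⁻¹ * (x * (t * x * t⁻¹)⁻¹) by group]
        exact L.mul_mem (L.inv_mem (hxconj s hs)) (hxconj t ht)
      have hT : N ≤ T := by
        rw [hNdef, Subgroup.normalClosure, Subgroup.closure_le]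
        intro y hy
        obtain ⟨b, hb, hby⟩ := Group.mem_conjugatesOfSet_iff.mp hy
        rw [Set.mem_singleton_iff] at hb
        subst hb
        obtain ⟨u, rfl⟩ := isConj_iff.mp hby
        refine ⟨hNn.conj_mem _ hxN u, fun g => ?_⟩
        have h1 : u * b * u⁻¹ * g * (u * b * u⁻¹)⁻¹ * g⁻¹ =
            u * b * u⁻¹ * (g * u * b * (g * u)⁻¹)⁻¹ := by group
        rw [h1]
        exact hall u (g * u)
      exact (hT hy).2 g
    have hMn : M.Normal := inferInstance
    have hMN : M < N := lt_of_le_of_lt hML hLlt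
    have hgN : Subgroup.zpowers g ≤ Subgroup.normalizer (N : Set G) := by
      rw [Subgroup.normalizer_eq_top_iff.mpr hNn]; exact le_top
    have hco : ∀ K : Subgroup G, IsPGroup p K →
        (Nat.card (Subgroup.zpowers g)).Coprime (Nat.card K) := fun K hK => by
      obtain ⟨j, hj⟩ := IsPGroup.iff_card.mp hK
      rw [Nat.card_zpowers, hj]; exact hg.pow_right j
    have hgM : Subgroup.zpowers g ≤ Subgroup.centralizer (M : Set G) :=
      Cfsg.Lib.Thompson.le_centralizer_of_centralizes_small (Subgroup.zpowers g) M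
        (hNp.to_le hMN.le) (by rw [Subgroup.normalizer_eq_top_iff.mpr hMn]; exact le_top)
        (hco M (hNp.to_le hMN.le)) fun y hy hys b hb => by
          obtain ⟨i, rfl⟩ := Subgroup.mem_zpowers_iff.mp hb
          have hlt : Nat.card (Subgroup.normalClosure ({y} : Set G)) < n :=
            hn ▸ lt_of_le_of_lt (Subgroup.card_le_of_le
              (Subgroup.normalClosure_le_normal (Set.singleton_subset_iff.mpr hy)))
              (Cfsg.Lib.Fusion.card_lt_card_of_lt hMN)
          exact (Commute.zpow_left (ih _ hlt y rfl hys g hg) i).eq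
    have hnil : Group.IsNilpotent N := hNp.isNilpotent
    have h2 : ⁅⁅N, Subgroup.zpowers g⁆, Subgroup.zpowers g⁆ = ⊥ := by
      rw [Subgroup.commutator_eq_bot_iff_le_centralizer]
      exact (Subgroup.commutator_mono le_rfl le_top).trans (Subgroup.le_centralizer_iff.mp hgM)
    have h3 := Cfsg.Lib.Coprime.commutator_eq_bot_of_commutator_commutator_eq_bot hgN (hco N hNp)
      (Or.inr inferInstance) h2
    rw [Subgroup.commutator_eq_bot_iff_le_centralizer] at h3
    exact Subgroup.mem_centralizer_iff.mp (h3 hxN) g (Subgroup.mem_zpowers g)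
  obtain ⟨P⟩ : Nonempty (Sylow p G) := inferInstance
  refine (Cfsg.Lib.Fusion.frobenius P).mpr fun Q hQ g hg hco => ?_
  obtain ⟨j, hj⟩ := IsPGroup.iff_card.mp (P.2.to_le hQ)
  exact Cfsg.Lib.Thompson.le_centralizer_of_centralizes_small (Subgroup.zpowers g) Q (P.2.to_le hQ)
    (Subgroup.zpowers_le.mpr hg) (by rw [Nat.card_zpowers, hj]; exact hco.pow_right j)
    (fun z _ hz b hb => by
      obtain ⟨i, rfl⟩ := Subgroup.mem_zpowers_iff.mp hb
      exact (Commute.zpow_left (hgood z hz g hco) i).eq) (Subgroup.mem_zpowers g)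

end Cfsg.Agent.S4126
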