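import Cfsg.Statements.S4127
import Cfsg.Agent.S4126
import Cfsg.Agent.Lib.Coprime.PGroupAction
import Cfsg.Agent.Lib.PGroup.Elements
import Cfsg.Agent.Lib.Core.Basic
import Cfsg.Agent.Lib.Fusion.Alperin

set_option autoImplicit false
set_option linter.style.haveILetI false
open Cfsg

namespace Cfsg.Agent.S4127

open Subgroup
open scoped Pointwise commutatorElement

variable {G : Type*} [Group G] [Finite G] {p : ℕ} [hp : Fact p.Prime]

theorem mem_zpowers_mul {a b : G} (hab : Commute a b) (hco : (orderOf a).Coprime (orderOf b)) :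
    a ∈ zpowers (a * b) := by
  obtain ⟨m, hm⟩ := exists_pow_eq_self_of_coprime (x := a) (n := orderOf b) hco.symm
  have he : ((a * b) ^ orderOf b) ^ m = a := by
    rw [hab.mul_pow, pow_orderOf_eq_one b, mul_one]; exact hm
  have hh := (zpowers (a * b)).pow_mem
    ((zpowers (a * b)).pow_mem (mem_zpowers (a * b)) (orderOf b)) m
  rwa [he] at hh

theorem centralizer_mul_eq {a b : G} (hab : Commute a b) (hco : (orderOf a).Coprime (orderOf b)) :
    centralizer ({a * b} : Set G) = centralizer ({a} : Set G) ⊓ centralizer ({b} : Set G) := by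
  refine le_antisymm (fun c hc => ?_) fun c hc => ?_
  · rw [mem_centralizer_singleton_iff] at hc
    have key : ∀ z ∈ zpowers (a * b), c * z = z * c := fun z hz => by
      obtain ⟨i, rfl⟩ := mem_zpowers_iff.mp hz
      exact (Commute.zpow_right (hc : Commute c (a * b)) i).eq
    refine ⟨mem_centralizer_singleton_iff.mpr (key a (mem_zpowers_mul hab hco)),
      mem_centralizer_singleton_iff.mpr (key b ?_)⟩
    rw [hab.eq]
    exact mem_zpowers_mul hab.symm hco.symm
  · rw [mem_centralizer_singleton_iff]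
    have h1 : Commute c a := mem_centralizer_singleton_iff.mp hc.1
    have h2 : Commute c b := mem_centralizer_singleton_iff.mp hc.2
    exact (h1.mul_right h2).eq

/-- Let G be a finite group, p a prime and p^a the largest power of p dividing the size of any conjugacy class of G. If some element of p-power order has a conjugacy class of size exactly p^a, then G has a normal p-complement. -/
theorem result {G : Type*} [Group G] [Finite G] (p : ℕ) [Fact p.Prime]
    (a : ℕ) (hmax : ∀ y : G, ¬ p ^ (a + 1) ∣ (Subgroup.centralizer ({y} : Set G)).index)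
    (hx : ∃ x : G, (∃ k : ℕ, orderOf x = p ^ k) ∧ (Subgroup.centralizer ({x} : Set G)).index = p ^ a) :
    Cfsg.HasNormalPComplement p G := by
  obtain ⟨x, ⟨k, hk⟩, ha⟩ := hx
  set C := Subgroup.centralizer ({x} : Set G) with hC
  obtain ⟨P, hP⟩ : ∃ P : Sylow p G, x ∈ (P : Subgroup G) := by
    have : IsPGroup p (Subgroup.zpowers x) := IsPGroup.of_card (n := k) (by rw [Nat.card_zpowers, hk])
    obtain ⟨P, hP⟩ := this.exists_le_sylow
    exact ⟨P, hP (Subgroup.mem_zpowers x)⟩
  have hfac := Cfsg.Agent.S4126.exists_mul_of_pow_index ha P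
  have hconj : ∀ g : G, ∃ s ∈ (P : Subgroup G), g * x * g⁻¹ = s * x * s⁻¹ := fun g => by
    obtain ⟨s, hs, c, hc, rfl⟩ := hfac g
    refine ⟨s, hs, ?_⟩
    have hcx : c * x = x * c := Subgroup.mem_centralizer_singleton_iff.mp hc
    calc s * c * x * (s * c)⁻¹ = s * (c * x) * c⁻¹ * s⁻¹ := by group
      _ = s * x * s⁻¹ := by rw [hcx]; group
  set D := Subgroup.normalClosure ({x} : Set G) with hDdef
  have hDP : D ≤ (P : Subgroup G) := by
    rw [hDdef, Subgroup.normalClosure, Subgroup.closure_le]
    intro y hy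
    obtain ⟨b, hb, hby⟩ := Group.mem_conjugatesOfSet_iff.mp hy
    rw [Set.mem_singleton_iff] at hb
    subst hb
    obtain ⟨g, rfl⟩ := isConj_iff.mp hby
    obtain ⟨s, hs, he⟩ := hconj g
    rw [he]
    exact mul_mem (mul_mem hs hP) (inv_mem hs)
  have hxD : x ∈ D := Subgroup.subset_normalClosure rfl
  have hDn : D.Normal := Subgroup.normalClosure_normal
  have hpel : ∀ d ∈ (P : Subgroup G), ∃ j, orderOf d = p ^ j := fun d hd => by
    obtain ⟨i, hi⟩ := IsPGroup.iff_card.mp P.2
    obtain ⟨j, -, hj⟩ := (Nat.dvd_prime_pow (Fact.out : p.Prime)).mp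
      (hi ▸ Subgroup.orderOf_dvd_natCard _ hd)
    exact ⟨j, hj⟩
  -- the centralizer of a `p'`-element of `C` contains a Sylow subgroup of `C`
  have hnd : ∀ y : C, (orderOf y).Coprime p →
      ¬ p ∣ (Subgroup.centralizer ({y} : Set C)).index := by
    intro y hy hd
    have hcomm : Commute x (y : G) := (Subgroup.mem_centralizer_singleton_iff.mp y.2).symm
    have hco : (orderOf x).Coprime (orderOf (y : G)) := by
      rw [hk, Subgroup.orderOf_coe]; exact (hy.pow_right k).symm
    have hle : Subgroup.centralizer ({x * (y : G)} : Set G) ≤ C := by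
      rw [centralizer_mul_eq hcomm hco]; exact inf_le_left
    have hsub : (Subgroup.centralizer ({x * (y : G)} : Set G)).subgroupOf C =
        Subgroup.centralizer ({y} : Set C) := by
      ext c
      rw [Subgroup.mem_subgroupOf, centralizer_mul_eq hcomm hco, Subgroup.mem_inf]
      refine ⟨fun h => Subgroup.mem_centralizer_singleton_iff.mpr
        (Subtype.ext (Subgroup.mem_centralizer_singleton_iff.mp h.2)),
        fun h => ⟨c.2, Subgroup.mem_centralizer_singleton_iff.mpr
          (congrArg Subtype.val (Subgroup.mem_centralizer_singleton_iff.mp h))⟩⟩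
    refine hmax (x * (y : G)) ?_
    rw [← Subgroup.relIndex_mul_index hle, ha, pow_succ, mul_comm]
    refine mul_dvd_mul_right ?_ _
    show p ∣ ((Subgroup.centralizer ({x * (y : G)} : Set G)).subgroupOf C).index
    rw [hsub]; exact hd
  obtain ⟨S⟩ : Nonempty (Sylow p C) := inferInstance
  have hpart : ∀ y : C, (orderOf y).Coprime p → ∀ u : C, Commute u y → (∃ j, orderOf u = p ^ j) →
      ∃ T : Sylow p C, u ∈ (T : Subgroup C) ∧ ∀ t ∈ (T : Subgroup C), Commute t y := by
    intro y hy u hu hj
    obtain ⟨j, hj⟩ := hj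
    set Cy := Subgroup.centralizer ({y} : Set C)
    have huC : u ∈ Cy := Subgroup.mem_centralizer_singleton_iff.mpr hu.eq
    have hup : IsPGroup p (Subgroup.zpowers (⟨u, huC⟩ : Cy)) :=
      IsPGroup.of_card (n := j) (by rw [Nat.card_zpowers, Subgroup.orderOf_mk, hj])
    obtain ⟨R, hR⟩ := hup.exists_le_sylow
    have hcard : Nat.card ((R : Subgroup Cy).map Cy.subtype) =
        p ^ (Nat.card C).factorization p := by
      rw [Subgroup.card_map_of_injective Cy.subtype_injective, R.card_eq_multiplicity,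
        ← Cy.card_mul_index, Nat.factorization_mul Nat.card_pos.ne'
          Subgroup.index_ne_zero_of_finite, Finsupp.add_apply,
        Nat.factorization_eq_zero_of_not_dvd (hnd y hy), add_zero]
    refine ⟨Sylow.ofCard _ hcard, ?_, ?_⟩
    · exact ⟨⟨u, huC⟩, hR (Subgroup.mem_zpowers _), rfl⟩
    · rintro t ⟨t', -, rfl⟩
      exact Subgroup.mem_centralizer_singleton_iff.mp t'.2
  have hS : (S : Subgroup C).Normal := by
    rw [← Subgroup.normalizer_eq_top_iff]
    refine Cfsg.Lib.PGroup.eq_top_of_forall_exists_conj_mem fun c => ?_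
    set n := orderOf c
    set i := n.factorization p
    have hn0 : n ≠ 0 := (orderOf_pos c).ne'
    have hoy : orderOf (c ^ p ^ i) = n / p ^ i :=
      orderOf_pow_of_dvd (pow_ne_zero _ (Fact.out : p.Prime).ne_zero) (Nat.ordProj_dvd n p)
    have hy : (orderOf (c ^ p ^ i)).Coprime p := by
      rw [hoy]
      exact ((Fact.out : p.Prime).coprime_iff_not_dvd.mpr
        (Nat.not_dvd_ordCompl (Fact.out : p.Prime) hn0)).symm
    obtain ⟨T, huT, hTy⟩ := hpart (c ^ p ^ i) hy (c ^ (n / p ^ i))
      ((Commute.refl c).pow_pow _ _)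
      ⟨i, Cfsg.Lib.PGroup.orderOf_ordCompl_pow (Fact.out : p.Prime)⟩
    have hcT : c ∈ Subgroup.normalizer ((T : Subgroup C) : Set C) := by
      refine Cfsg.Lib.PGroup.mem_of_ordCompl_pow_mem fun r hr hrd => ?_
      by_cases hrp : r = p
      · subst hrp; exact Subgroup.le_normalizer huT
      obtain ⟨m, hm⟩ : p ^ i ∣ orderOf c / r ^ (orderOf c).factorization r :=
        (((Nat.coprime_primes (Fact.out : p.Prime) hr).mpr (Ne.symm hrp)).pow i _).dvd_of_dvd_mul_left
          (by rw [Nat.ordProj_mul_ordCompl_eq_self]; exact Nat.ordProj_dvd n p)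
      rw [hm, pow_mul]
      refine Subgroup.pow_mem _ (Subgroup.centralizer_le_normalizer _ ?_) m
      exact Subgroup.mem_centralizer_iff.mpr fun t ht => (hTy t ht).eq
    obtain ⟨g, hg⟩ := MulAction.exists_smul_eq C T S
    refine ⟨g, ?_⟩
    have h1 := Subgroup.le_normalizer_map (MulAut.conj g).toMonoidHom ⟨c, hcT, rfl⟩
    have h2 : (S : Subgroup C) = (T : Subgroup C).map (MulAut.conj g).toMonoidHom := by
      rw [← hg]; rfl
    rw [h2]
    exact h1
  have := Sylow.unique_of_normal S hS
  have hSy : ∀ y : C, (orderOf y).Coprime p → ∀ t ∈ (S : Subgroup C), Commute t y := fun y hy => by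
    obtain ⟨T, -, hT⟩ := hpart y hy 1 (Commute.one_left y) ⟨0, by simp⟩
    exact Subsingleton.elim T S ▸ hT
  have hCn : Cfsg.HasNormalPComplement p C := (Cfsg.Lib.Fusion.frobenius S).mpr
    fun Q hQ g _ hg => Subgroup.mem_centralizer_iff.mpr fun z hz => (hSy g hg z (hQ hz)).eq
  set K := (Cfsg.pResidual p C).map C.subtype with hK
  have hKcomm : ∀ y ∈ K, ∀ d ∈ D, d * y = y * d := by
    rintro _ ⟨y, hy, rfl⟩
    have hyco : (orderOf y).Coprime p :=
      (Cfsg.Lib.Fusion.mem_pResidual_iff_coprime hCn y).mp hy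
    have hD : IsPGroup p D := P.2.to_le hDP
    have hnorm : ∀ H : Subgroup G, H ≤ Subgroup.normalizer (D : Set G) := fun H => by
      rw [Subgroup.normalizer_eq_top_iff.mpr hDn]; exact le_top
    have h := Cfsg.Lib.Coprime.commutator_eq_bot_of_AxB (p := p) D (Subgroup.zpowers x)
      (Subgroup.zpowers (C.subtype y)) hD
      (IsPGroup.of_card (n := k) (by rw [Nat.card_zpowers, hk]))
      (by rw [Nat.card_zpowers, Subgroup.coe_subtype, Subgroup.orderOf_coe]; exact hyco)
      (hnorm _) (hnorm _)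
      (Subgroup.zpowers_le.mpr (Subgroup.mem_centralizer_iff.mpr fun z hz => by
        obtain ⟨i, rfl⟩ := Subgroup.mem_zpowers_iff.mp hz
        exact (Commute.zpow_left (Subgroup.mem_centralizer_singleton_iff.mp y.2).symm i).eq))
      (by
        rintro d ⟨hdD, hdx⟩
        rw [Subgroup.mem_centralizer_iff]
        intro z hz
        obtain ⟨i, rfl⟩ := Subgroup.mem_zpowers_iff.mp hz
        have hdC : d ∈ C := Subgroup.mem_centralizer_singleton_iff.mpr
          (Subgroup.mem_centralizer_iff.mp hdx x (Subgroup.mem_zpowers x)).symm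
        have hdS : (⟨d, hdC⟩ : C) ∈ (S : Subgroup C) := by
          obtain ⟨j, hj⟩ := hpel d (hDP hdD)
          have hdp : IsPGroup p (Subgroup.zpowers (⟨d, hdC⟩ : C)) :=
            IsPGroup.of_card (n := j) (by rw [Nat.card_zpowers, Subgroup.orderOf_mk, hj])
          obtain ⟨T, hT⟩ := hdp.exists_le_sylow
          rw [Subsingleton.elim T S] at hT
          exact hT (Subgroup.mem_zpowers _)
        have h1 : Commute d (y : G) := congrArg Subtype.val (hSy y hyco _ hdS).eq
        exact (h1.zpow_right i).eq.symm)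
    intro d hd
    rw [Subgroup.commutator_eq_bot_iff_le_centralizer] at h
    exact (Subgroup.mem_centralizer_iff.mp (h hd) _ (Subgroup.mem_zpowers _)).symm
  have hKchar : ∀ c ∈ C, ∀ y ∈ K, c * y * c⁻¹ ∈ K := by
    rintro c hc _ ⟨y, hy, rfl⟩
    exact ⟨⟨c, hc⟩ * y * ⟨c, hc⟩⁻¹, (Cfsg.Lib.Fusion.pResidual_normal p C).conj_mem y hy _, rfl⟩
  have hKP : ∀ s : G, ∀ y ∈ K, s * y * s⁻¹ ∈ K := by
    intro s y hy
    have hcC : s * y * s⁻¹ ∈ C := by
      rw [hC, Subgroup.mem_centralizer_singleton_iff]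
      have h1 : Commute (s⁻¹ * x * s) y := by
        refine hKcomm y hy _ ?_
        simpa using hDn.conj_mem x hxD s⁻¹
      have h2 : Commute (s * (s⁻¹ * x * s) * s⁻¹) (s * y * s⁻¹) := h1.map (MulAut.conj s)
      rw [show s * (s⁻¹ * x * s) * s⁻¹ = x by group] at h2
      exact h2.eq.symm
    refine ⟨⟨_, hcC⟩, Cfsg.Lib.Fusion.mem_pResidual_of_coprime ?_, rfl⟩
    obtain ⟨y', hy', rfl⟩ := hy
    rw [Subgroup.orderOf_mk]
    show (orderOf (MulAut.conj s (C.subtype y'))).Coprime p
    rw [MulEquiv.orderOf_eq, Subgroup.coe_subtype, Subgroup.orderOf_coe]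
    exact (Cfsg.Lib.Fusion.mem_pResidual_iff_coprime hCn y').mp hy'
  have hKn : K.Normal := ⟨fun y hy g => hKP g y hy⟩
  refine Cfsg.Lib.Fusion.hasNormalPComplement_of_normal K ?_ ?_
  · rw [hK, Subgroup.card_map_of_injective C.subtype_injective]
    exact Cfsg.Lib.Fusion.hasNormalPComplement_iff_coprime.mp hCn
  · obtain ⟨j, hj⟩ := Cfsg.Lib.Fusion.index_pResidual_eq_pow (p := p) (G := C)
    refine IsPGroup.of_card (n := j + a) ?_
    rw [← Subgroup.index_eq_card, hK, Subgroup.index_map_subtype, hj, ha, pow_add]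

end Cfsg.Agent.S4127
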