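import Cfsg.Statements.S4130
import Cfsg.Agent.Lib.Fusion.SmallIndices
import Cfsg.Agent.Lib.Core.Layer
import Cfsg.Agent.Lib.Core.Fitting
import Cfsg.Agent.Lib.PGroup.Elements
import Cfsg.Agent.Lib.Solv.Supersolvable
import Cfsg.Agent.Lib.Block.PPart

set_option autoImplicit false
open Cfsg

namespace Cfsg.Agent.S4130

open Subgroup Cfsg.Lib.Fusion
open scoped commutatorElement

variable {G : Type*} [Group G] [Finite G]

theorem relIndex_dvd_index_normal (K C : Subgroup G) [K.Normal] : C.relIndex K ∣ C.index := by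
  have h1 := Cfsg.Lib.Core.card_mul_relIndex (inf_le_right : C ⊓ K ≤ K)
  have h2 := Cfsg.Lib.Core.card_mul_relIndex (inf_le_left : C ⊓ K ≤ C)
  have h3 := Cfsg.Lib.Core.card_mul_relIndex (le_sup_right : K ≤ C ⊔ K)
  have h4 := Cfsg.Lib.Core.card_mul_relIndex (le_sup_left : C ≤ C ⊔ K)
  rw [Subgroup.inf_relIndex_right] at h1
  rw [Subgroup.inf_relIndex_left] at h2
  rw [Subgroup.relIndex_sup_right] at h3
  have h5 : C.relIndex (C ⊔ K) = C.relIndex K := by
    refine Nat.eq_of_mul_eq_mul_left (Nat.card_pos (α := C)) ?_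
    rw [h4, ← h3, ← h1, ← h2]
    ring
  exact h5 ▸ Subgroup.relIndex_dvd_index_of_le le_sup_left

/-- All class sizes square-free. -/
def SFClasses (G : Type*) [Group G] : Prop :=
  ∀ x : G, Squarefree (Subgroup.centralizer ({x} : Set G)).index

/-- No class size is divisible by `p ^ 2`. -/
def PSmall (p : ℕ) (G : Type*) [Group G] : Prop :=
  ∀ x : G, ((Subgroup.centralizer ({x} : Set G)).index).factorization p ≤ 1

theorem SFClasses.pSmall (h : SFClasses G) (p : ℕ) : PSmall p G := fun x =>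
  (h x).natFactorization_le_one p

theorem index_centralizer_dvd_of_normal (K : Subgroup G) [K.Normal] (x : K) :
    (Subgroup.centralizer ({x} : Set K)).index ∣ (Subgroup.centralizer ({(x : G)} : Set G)).index := by
  have h1 : (Subgroup.centralizer ({(x : G)} : Set G)).subgroupOf K =
      Subgroup.centralizer ({x} : Set K) := by
    ext z
    simp only [Subgroup.mem_subgroupOf, Subgroup.mem_centralizer_iff, Set.mem_singleton_iff,
      forall_eq]
    exact ⟨fun h => Subtype.ext h, fun h => congrArg Subtype.val h⟩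
  rw [← h1]
  exact relIndex_dvd_index_normal _ _

theorem isSolvable_of_sfClasses : ∀ (n : ℕ) (H : Type*) [Group H] [Finite H], Nat.card H = n →
    SFClasses H → Group.IsSolvable H := by
  intro n
  induction n using Nat.strong_induction_on with
  | h n ih =>
    intro H _ _ hn hH
    by_cases h1 : n = 1
    · haveI : Subsingleton H := (Nat.card_eq_one_iff_unique.mp (hn.trans h1)).1
      exact Group.isSolvable_of_comm fun a b => Subsingleton.elim _ _
    haveI : Fact (Nat.card H).minFac.Prime := ⟨Nat.minFac_prime (hn ▸ h1)⟩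
    set p := (Nat.card H).minFac
    have hpn := SmallIndices.hasNormalPComplement_of_forall (p := p)
      (fun r hr hrd => Nat.minFac_le_of_dvd hr.two_le hrd) (SFClasses.pSmall hH p)
    obtain ⟨P⟩ : Nonempty (Sylow p H) := inferInstance
    obtain ⟨K, hKn, hK⟩ := (hasNormalPComplement_iff_exists P).mp hpn
    haveI := hKn
    have hlt : Nat.card K < n := by
      rw [← hn, ← K.card_mul_index, hK.symm.index_eq_card]
      refine lt_mul_of_one_lt_right Nat.card_pos ?_
      obtain ⟨k, hk⟩ := IsPGroup.iff_card.mp P.2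
      rw [hk]
      refine Nat.one_lt_pow ?_ (Fact.out : p.Prime).one_lt
      rintro rfl
      exact P.not_dvd_index (by
        have := (P : Subgroup H).card_mul_index
        rw [hk, pow_zero, one_mul] at this
        rw [this]; exact Nat.minFac_dvd _)
    have hKsol : Group.IsSolvable K := ih _ hlt K rfl fun x =>
      Squarefree.squarefree_of_dvd (index_centralizer_dvd_of_normal K x) (hH x)
    have hQ : IsPGroup p (H ⧸ K) := by
      obtain ⟨k, hk⟩ := IsPGroup.iff_card.mp P.2
      exact IsPGroup.of_card (n := k) (hK.symm.index_eq_card.trans hk)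
    haveI := hKsol
    haveI : Group.IsNilpotent (H ⧸ K) := hQ.isNilpotent
    exact Group.isSolvable_of_ker_le_range K.subtype (QuotientGroup.mk' K)
      (by rw [QuotientGroup.ker_mk', Subgroup.range_subtype])

section Act

variable {V : Type*} [CommGroup V] [Finite V]

/-- The fixed points. -/
def fixSub (σ : MulAut V) : Subgroup V where
  carrier := {x | σ x = x}
  mul_mem' {x y} hx hy := by show σ (x * y) = x * y; rw [map_mul, hx, hy]
  one_mem' := map_one σ
  inv_mem' {x} hx := by show σ x⁻¹ = x⁻¹; rw [map_inv, hx]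

/-- `v ↦ v⁻¹ σ(v)`. -/
def diffHom (σ : MulAut V) : V →* V where
  toFun v := v⁻¹ * σ v
  map_one' := by simp
  map_mul' a b := by rw [map_mul, mul_inv]; exact mul_mul_mul_comm _ _ _ _

theorem diffHom_apply (σ : MulAut V) (v : V) : σ v = v * diffHom σ v :=
  (mul_inv_cancel_left v (σ v)).symm

theorem fixSub_eq_ker (σ : MulAut V) : (diffHom σ).ker = fixSub σ := by
  ext v
  show v⁻¹ * σ v = 1 ↔ σ v = v
  rw [inv_mul_eq_one, eq_comm]

variable {p : ℕ} (hp : p.Prime) (hV : IsPGroup p V)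

/-- `σ` moves at most one dimension and has order prime to `p`. -/
def Small (p : ℕ) (σ : MulAut V) : Prop := (fixSub σ).index ≤ p ∧ (orderOf σ).Coprime p

include hp hV in
theorem card_range_diffHom {σ : MulAut V} (hσ : Small p σ) (hne : σ ≠ 1) :
    Nat.card (diffHom σ).range = p := by
  haveI : Fact p.Prime := ⟨hp⟩
  rw [← Subgroup.index_ker, fixSub_eq_ker]
  obtain ⟨n, hn⟩ := IsPGroup.iff_card.mp hV
  obtain ⟨j, -, hj⟩ := (Nat.dvd_prime_pow hp).mp (hn ▸ (fixSub σ).index_dvd_card)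
  rcases (by omega : j = 0 ∨ j = 1 ∨ 2 ≤ j) with rfl | rfl | h2
  · exfalso
    refine hne (MulEquiv.ext fun v => ?_)
    exact (Subgroup.index_eq_one.mp (hj.trans (pow_zero p))).ge (Subgroup.mem_top v)
  · rw [hj, pow_one]
  · exfalso
    have h3 := hj ▸ hσ.1
    have : p ^ 1 < p ^ j := Nat.pow_lt_pow_right hp.one_lt h2
    rw [pow_one] at this
    omega

include hp hV in
theorem eq_one_of_diff_fixed {σ : MulAut V} (hσ : Small p σ)
    (h : ∀ v, σ (diffHom σ v) = diffHom σ v) : σ = 1 := by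
  by_contra hne
  have hL := card_range_diffHom hp hV hσ hne
  have hpow : σ ^ p = 1 := by
    have h1 : ∀ (k : ℕ) (v : V), (σ ^ k) v = v * (diffHom σ v) ^ k := by
      intro k
      induction k with
      | zero => intro v; simp
      | succ k ih =>
        intro v
        rw [pow_succ', MulAut.mul_apply, ih, map_mul, map_pow, h, diffHom_apply σ v, mul_assoc,
          ← pow_succ']
    refine MulEquiv.ext fun v => ?_
    rw [h1, MulAut.one_apply]
    have : (⟨diffHom σ v, v, rfl⟩ : (diffHom σ).range) ^ p = 1 := by rw [← hL, pow_card_eq_one']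
    rw [show diffHom σ v ^ p = 1 from congrArg Subtype.val this, mul_one]
  exact hne (orderOf_eq_one_iff.mp
    (Nat.eq_one_of_dvd_coprimes hσ.2 dvd_rfl (orderOf_dvd_of_pow_eq_one hpow)))

include hp hV in
theorem disjoint_fix_range {σ : MulAut V} (hσ : Small p σ) (hne : σ ≠ 1) :
    fixSub σ ⊓ (diffHom σ).range = ⊥ := by
  haveI : Fact p.Prime := ⟨hp⟩
  have hL := card_range_diffHom hp hV hσ hne
  have hd : Nat.card (fixSub σ ⊓ (diffHom σ).range : Subgroup V) ∣ p :=
    hL ▸ Subgroup.card_dvd_of_le inf_le_right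
  rcases (Nat.dvd_prime hp).mp hd with h | h
  · exact Subgroup.card_eq_one.mp h
  · exfalso
    refine hne (eq_one_of_diff_fixed hp hV hσ fun v => ?_)
    have he : fixSub σ ⊓ (diffHom σ).range = (diffHom σ).range :=
      Subgroup.eq_of_le_of_card_ge inf_le_right (by rw [hL, h])
    exact (he.ge ⟨v, rfl⟩).1

include hp hV in
theorem eq_range_of_mem {σ : MulAut V} (hσ : Small p σ) (hne : σ ≠ 1) {w : V}
    (hw : w ∈ (diffHom σ).range) (hw1 : w ≠ 1) : (diffHom σ).range = Subgroup.zpowers w := by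
  have hL := card_range_diffHom hp hV hσ hne
  refine (Subgroup.eq_of_le_of_card_ge (Subgroup.zpowers_le.mpr hw) ?_).symm
  rw [hL, Nat.card_zpowers]
  have hd : orderOf w ∣ p := by
    rw [← hL, ← Subgroup.orderOf_mk w hw]
    exact orderOf_dvd_natCard _
  rcases (Nat.dvd_prime hp).mp hd with h | h
  · exact absurd (orderOf_eq_one_iff.mp h) hw1
  · exact h.ge

include hp hV in
theorem range_or_fix {σ τ : MulAut V} (hσ : Small p σ) (hτ : Small p τ) (hστ : Small p (σ * τ))
    (hσ1 : σ ≠ 1) (hτ1 : τ ≠ 1) :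
    (diffHom σ).range = (diffHom τ).range ∨ fixSub σ = fixSub τ := by
  refine or_iff_not_imp_right.mpr fun hne => ?_
  have hcard : Nat.card (fixSub σ) = Nat.card (fixSub τ) := by
    have h1 := card_range_diffHom hp hV hσ hσ1
    have h2 := card_range_diffHom hp hV hτ hτ1
    rw [← Subgroup.index_ker, fixSub_eq_ker] at h1 h2
    have h3 := (fixSub σ).card_mul_index
    have h4 := (fixSub τ).card_mul_index
    rw [h1] at h3; rw [h2] at h4
    exact Nat.eq_of_mul_eq_mul_right hp.pos (h3.trans h4.symm)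
  obtain ⟨w, hwτ, hwσ⟩ := Set.not_subset.mp fun h : (fixSub τ : Set V) ⊆ fixSub σ =>
    hne (Subgroup.eq_of_le_of_card_ge h hcard.le).symm
  obtain ⟨v, hvσ, hvτ⟩ := Set.not_subset.mp fun h : (fixSub σ : Set V) ⊆ fixSub τ =>
    hne (Subgroup.eq_of_le_of_card_ge h hcard.ge)
  have hmul : ∀ x, diffHom (σ * τ) x = diffHom σ x * (diffHom τ x * diffHom σ (diffHom τ x)) := by
    intro x
    show x⁻¹ * σ (τ x) = _
    rw [diffHom_apply τ x, map_mul, diffHom_apply σ x, diffHom_apply σ (diffHom τ x), mul_assoc,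
      inv_mul_cancel_left]
  have hw : diffHom (σ * τ) w = diffHom σ w := by
    rw [hmul, show diffHom τ w = 1 from inv_mul_eq_one.mpr (Eq.symm hwτ), map_one, mul_one, mul_one]
  have hw1 : diffHom σ w ≠ 1 := fun h => hwσ ((inv_mul_eq_one.mp h).symm)
  have hne' : σ * τ ≠ 1 := fun h => hw1 (by rw [← hw, h]; simp [diffHom])
  have hrange : (diffHom (σ * τ)).range = (diffHom σ).range := by
    rw [eq_range_of_mem hp hV hστ hne' (w := diffHom σ w) ⟨w, hw⟩ hw1,
      eq_range_of_mem hp hV hσ hσ1 (w := diffHom σ w) ⟨w, rfl⟩ hw1]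
  have hmem : diffHom τ v ∈ (diffHom σ).range := by
    have h1 : diffHom (σ * τ) v ∈ (diffHom σ).range := hrange.le ⟨v, rfl⟩
    rw [hmul, show diffHom σ v = 1 from inv_mul_eq_one.mpr (Eq.symm hvσ), one_mul] at h1
    exact (Subgroup.mul_mem_cancel_right _ (⟨_, rfl⟩ : diffHom σ (diffHom τ v) ∈ (diffHom σ).range)).mp h1
  have hv1 : diffHom τ v ≠ 1 := fun h => hvτ ((inv_mul_eq_one.mp h).symm)
  rw [eq_range_of_mem hp hV hσ hσ1 hmem hv1,
    eq_range_of_mem hp hV hτ hτ1 (w := diffHom τ v) ⟨v, rfl⟩ hv1]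

include hp hV in
theorem fix_eq_of_commute {σ τ : MulAut V} (hσ : Small p σ) (hτ : Small p τ) (hστ : Small p (σ * τ))
    (hσ1 : σ ≠ 1) (hτ1 : τ ≠ 1) (hc : Commute σ τ) :
    fixSub σ = fixSub τ ∧ (diffHom σ).range = (diffHom τ).range := by
  have hst : ∀ x, σ (τ x) = τ (σ x) := fun x => DFunLike.congr_fun hc.eq x
  rcases range_or_fix hp hV hσ hτ hστ hσ1 hτ1 with hL | hC
  · refine ⟨?_, hL⟩
    refine Subgroup.eq_of_le_of_card_ge (fun v hv => ?_) ?_
    · have hfix : σ (diffHom τ v) = diffHom τ v := by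
        show σ (v⁻¹ * τ v) = v⁻¹ * τ v
        rw [map_mul, map_inv, hst, show σ v = v from hv]
      have h1 : diffHom τ v ∈ fixSub σ ⊓ (diffHom σ).range := ⟨hfix, hL ▸ ⟨v, rfl⟩⟩
      rw [disjoint_fix_range hp hV hσ hσ1, Subgroup.mem_bot] at h1
      exact (inv_mul_eq_one.mp h1).symm
    · have h1 := card_range_diffHom hp hV hσ hσ1
      have h2 := card_range_diffHom hp hV hτ hτ1
      rw [← Subgroup.index_ker, fixSub_eq_ker] at h1 h2
      have h3 := (fixSub σ).card_mul_index
      have h4 := (fixSub τ).card_mul_index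
      rw [h1] at h3; rw [h2] at h4
      exact (Nat.eq_of_mul_eq_mul_right hp.pos (h4.trans h3.symm)).le
  · refine ⟨hC, ?_⟩
    obtain ⟨v, hv⟩ : ∃ v, v ∉ fixSub τ := by
      by_contra h
      push Not at h
      exact hτ1 (MulEquiv.ext fun v => h v)
    have hw1 : diffHom τ v ≠ 1 := fun h => hv ((inv_mul_eq_one.mp h).symm)
    -- `σ` maps the line of `τ` into itself and moves it
    have h1 : σ (diffHom τ v) = diffHom τ (σ v) := by
      show σ (v⁻¹ * τ v) = (σ v)⁻¹ * τ (σ v)
      rw [map_mul, map_inv, hst]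
    have h2 : diffHom σ (diffHom τ v) ∈ (diffHom τ).range := by
      show (diffHom τ v)⁻¹ * σ (diffHom τ v) ∈ _
      rw [h1]
      exact mul_mem (inv_mem ⟨v, rfl⟩) ⟨σ v, rfl⟩
    have h3 : diffHom σ (diffHom τ v) ≠ 1 := by
      intro h
      have h4 : diffHom τ v ∈ fixSub τ ⊓ (diffHom τ).range :=
        ⟨hC ▸ (inv_mul_eq_one.mp h).symm, ⟨v, rfl⟩⟩
      rw [disjoint_fix_range hp hV hτ hτ1, Subgroup.mem_bot] at h4
      exact hw1 h4
    rw [eq_range_of_mem hp hV hσ hσ1 (w := diffHom σ (diffHom τ v)) ⟨_, rfl⟩ h3,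
      eq_range_of_mem hp hV hτ hτ1 h2 h3]

include hp hV in
theorem small_commute {A : Subgroup (MulAut V)} (hA : ∀ σ ∈ A, Small p σ) {σ τ : MulAut V}
    (hσA : σ ∈ A) (hτA : τ ∈ A) : Commute σ τ := by
  by_cases hσ1 : σ = 1
  · subst hσ1; exact Commute.one_left τ
  by_cases hτ1 : τ = 1
  · subst hτ1; exact Commute.one_right σ
  have hσ := hA σ hσA
  have hτ := hA τ hτA
  set c := ⁅σ, τ⁆ with hc
  have hcA : c ∈ A := mul_mem (mul_mem (mul_mem hσA hτA) (inv_mem hσA)) (inv_mem hτA)
  have hcx : ∀ x, c (τ (σ x)) = σ (τ x) := by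
    intro x
    rw [hc, commutatorElement_def]
    simp
  refine commutatorElement_eq_one_iff_commute.mp ?_
  refine eq_one_of_diff_fixed hp hV (hA c hcA) fun v => ?_
  rcases range_or_fix hp hV hσ hτ (hA _ (mul_mem hσA hτA)) hσ1 hτ1 with hL | hC
  · -- both act as scalars on the common line
    set L := (diffHom σ).range
    have hcyc : IsCyclic L := by
      haveI : Fact p.Prime := ⟨hp⟩
      exact isCyclic_of_prime_card (card_range_diffHom hp hV hσ hσ1)
    have hLσ : ∀ x ∈ L, σ x ∈ L := fun x hx => by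
      rw [diffHom_apply σ x]; exact mul_mem hx ⟨x, rfl⟩
    have hLτ : ∀ x ∈ L, τ x ∈ L := fun x hx => by
      rw [diffHom_apply τ x]; exact mul_mem hx (hL ▸ ⟨x, rfl⟩)
    obtain ⟨⟨g, hg⟩, hgen⟩ := IsCyclic.exists_generator (α := L)
    have hscal : ∀ (f : MulAut V), f g ∈ L → ∀ x ∈ L, ∃ i : ℤ, f g = g ^ i ∧ f x = x ^ i := by
      intro f hf x hx
      obtain ⟨i, hi⟩ := Subgroup.mem_zpowers_iff.mp (hgen ⟨f g, hf⟩)
      obtain ⟨j, hj⟩ := Subgroup.mem_zpowers_iff.mp (hgen ⟨x, hx⟩)
      have hi' : g ^ i = f g := congrArg Subtype.val hi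
      have hj' : g ^ j = x := congrArg Subtype.val hj
      exact ⟨i, hi'.symm, by rw [← hj', map_zpow, ← hi', ← zpow_mul, ← zpow_mul, mul_comm]⟩
    have hcL : ∀ x ∈ L, σ (τ x) = τ (σ x) := by
      intro x hx
      obtain ⟨i, -, hi⟩ := hscal σ (hLσ g hg) x hx
      obtain ⟨j, hj0, hj⟩ := hscal τ (hLτ g hg) x hx
      obtain ⟨i', -, hi'⟩ := hscal σ (hLσ g hg) (x ^ j) (zpow_mem hx j)
      rw [hj, hi, map_zpow, map_zpow, hi, hj, ← zpow_mul, ← zpow_mul, mul_comm]
    obtain ⟨x, rfl⟩ : ∃ x, τ (σ x) = v := ⟨σ.symm (τ.symm v), by simp⟩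
    have hmem : diffHom c (τ (σ x)) ∈ L := by
      show (τ (σ x))⁻¹ * c (τ (σ x)) ∈ L
      rw [hcx, diffHom_apply σ (τ x), diffHom_apply τ x, diffHom_apply τ (σ x), diffHom_apply σ x]
      have e : ∀ a b c d e : V, (a * b * c)⁻¹ * (a * d * e) = b⁻¹ * c⁻¹ * (d * e) := fun a b c d e => by
        rw [mul_inv, mul_inv]
        calc a⁻¹ * b⁻¹ * c⁻¹ * (a * d * e) = (a⁻¹ * a) * (b⁻¹ * c⁻¹ * (d * e)) := by
              ac_rfl
          _ = _ := by simp
      rw [e]
      exact mul_mem (mul_mem (inv_mem ⟨x, rfl⟩) (inv_mem (hL ▸ ⟨_, rfl⟩)))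
        (mul_mem (hL ▸ ⟨_, rfl⟩) ⟨_, rfl⟩)
    obtain ⟨y, hy, hyx⟩ : ∃ y ∈ L, τ (σ y) = diffHom c (τ (σ x)) := by
      have hinj : Function.Injective (fun y : L => (⟨τ (σ y), hLτ _ (hLσ _ y.2)⟩ : L)) :=
        fun a b h => Subtype.ext (σ.injective (τ.injective (congrArg Subtype.val h)))
      obtain ⟨y, hy⟩ := (Finite.injective_iff_surjective.mp hinj) ⟨_, hmem⟩
      exact ⟨y, y.2, congrArg Subtype.val hy⟩
    rw [← hyx, hcx, hcL y hy]
  · -- both act as scalars modulo the common fixed subgroup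
    have hfix : ∀ x ∈ fixSub σ, c x = x := by
      intro x hx
      have h1 : σ x = x := hx
      have h2 : τ x = x := (hC ▸ hx : x ∈ fixSub τ)
      have h3 : τ (σ x) = x := by rw [h1, h2]
      calc c x = c (τ (σ x)) := by rw [h3]
        _ = σ (τ x) := hcx x
        _ = x := by rw [h2, h1]
    apply hfix
    haveI : IsCyclic (V ⧸ fixSub σ) := by
      haveI : Fact p.Prime := ⟨hp⟩
      refine isCyclic_of_prime_card (p := p) ?_
      have := card_range_diffHom hp hV hσ hσ1
      rwa [← Subgroup.index_ker, fixSub_eq_ker] at this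
    obtain ⟨gq, hgq⟩ := IsCyclic.exists_generator (α := V ⧸ fixSub σ)
    obtain ⟨g, rfl⟩ := QuotientGroup.mk_surjective gq
    have hscal : ∀ (f : MulAut V), (∀ x ∈ fixSub σ, f x = x) → ∀ x : V, ∃ i : ℤ,
        (f g : V ⧸ fixSub σ) = (g : V ⧸ fixSub σ) ^ i ∧ (f x : V ⧸ fixSub σ) = (x : V ⧸ fixSub σ) ^ i := by
      intro f hf x
      obtain ⟨i, hi⟩ := Subgroup.mem_zpowers_iff.mp (hgq (f g : V ⧸ fixSub σ))
      obtain ⟨j, hj⟩ := Subgroup.mem_zpowers_iff.mp (hgq (x : V ⧸ fixSub σ))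
      refine ⟨i, hi.symm, ?_⟩
      obtain ⟨z, hz, hzx⟩ : ∃ z ∈ fixSub σ, x = g ^ j * z :=
        ⟨(g ^ j)⁻¹ * x, QuotientGroup.eq.mp (by rw [QuotientGroup.mk_zpow]; exact hj),
          (mul_inv_cancel_left _ _).symm⟩
      rw [hzx, map_mul, map_zpow, hf z hz, QuotientGroup.mk_mul, QuotientGroup.mk_mul,
        (QuotientGroup.eq_one_iff z).mpr hz, mul_one, mul_one, QuotientGroup.mk_zpow,
        QuotientGroup.mk_zpow, ← hi, ← zpow_mul, ← zpow_mul, mul_comm]
    obtain ⟨x, rfl⟩ : ∃ x, τ (σ x) = v := ⟨σ.symm (τ.symm v), by simp⟩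
    have hτf : ∀ y ∈ fixSub σ, τ y = y := fun y hy => (hC ▸ hy : y ∈ fixSub τ)
    obtain ⟨i, hi0, hi⟩ := hscal σ (fun y hy => hy) x
    obtain ⟨i', hi'0, hi'⟩ := hscal σ (fun y hy => hy) (τ x)
    obtain ⟨j, hj0, hj⟩ := hscal τ hτf x
    obtain ⟨j', hj'0, hj'⟩ := hscal τ hτf (σ x)
    show diffHom c (τ (σ x)) ∈ fixSub σ
    show (τ (σ x))⁻¹ * c (τ (σ x)) ∈ _
    rw [hcx, ← QuotientGroup.eq, hj', hi', hi, hj]
    -- compare the exponents
    have hord : ∀ a b : ℤ, (g : V ⧸ fixSub σ) ^ a = (g : V ⧸ fixSub σ) ^ b →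
        ∀ z : V ⧸ fixSub σ, z ^ a = z ^ b := by
      intro a b hab z
      obtain ⟨k, rfl⟩ := Subgroup.mem_zpowers_iff.mp (hgq z)
      rw [← zpow_mul, ← zpow_mul, mul_comm k, mul_comm k, zpow_mul, zpow_mul, hab]
    rw [hord _ _ (hi'0.symm.trans hi0), hord _ _ (hj'0.symm.trans hj0), ← zpow_mul, ← zpow_mul,
      mul_comm]

end Act

section Line

variable {V : Type*} [CommGroup V] [Finite V] {H : Type*} [Group H] {p : ℕ}

theorem smalls_structure (hp : p.Prime) (hV : IsPGroup p V) (φ : H →* MulAut V)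
    (hsm : ∀ h, Small p (φ h)) {g h : H} (hg : φ g ≠ 1) (hh : φ h ≠ 1) :
    fixSub (φ g) = fixSub (φ h) ∧ (diffHom (φ g)).range = (diffHom (φ h)).range := by
  refine fix_eq_of_commute hp hV (hsm g) (hsm h) (by rw [← map_mul]; exact hsm _) hg hh ?_
  refine small_commute hp hV (A := φ.range) ?_ ⟨g, rfl⟩ ⟨h, rfl⟩
  rintro _ ⟨x, rfl⟩
  exact hsm x

theorem smalls_comm (hp : p.Prime) (hV : IsPGroup p V) (φ : H →* MulAut V)
    (hsm : ∀ h, Small p (φ h)) (g h : H) : φ ⁅g, h⁆ = 1 := by
  rw [map_commutatorElement, commutatorElement_eq_one_iff_commute]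
  refine small_commute hp hV (A := φ.range) ?_ ⟨g, rfl⟩ ⟨h, rfl⟩
  rintro _ ⟨x, rfl⟩
  exact hsm x

end Line

/-- A `p`-element acting has trivial image: reduce to the `p'`-part. -/
theorem coprime_map {A : Type*} [Group A] {H : Type*} [Group H] [Finite H] {p : ℕ} [Fact p.Prime]
    (φ : H →* A) (hp : ∀ u : H, (∃ k, orderOf u = p ^ k) → φ u = 1) (g : H) :
    (orderOf (φ g)).Coprime p := by
  obtain ⟨u, k, huk, -, hu, hk, -, -⟩ := Cfsg.Lib.Block.exists_pPart_pair p g
  rw [← huk, map_mul, hp u hu, one_mul]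
  exact Nat.Coprime.coprime_dvd_left (orderOf_map_dvd φ k)
    ((Nat.Prime.coprime_iff_not_dvd Fact.out).mpr hk).symm

theorem relIndex_le_of_pSmall {p : ℕ} [hp : Fact p.Prime] (h : PSmall p G) (P : Subgroup G)
    [P.Normal] (hP : IsPGroup p P) (x : G) :
    (Subgroup.centralizer ({x} : Set G)).relIndex P ≤ p := by
  obtain ⟨n, hn⟩ := IsPGroup.iff_card.mp hP
  obtain ⟨j, -, hj⟩ := (Nat.dvd_prime_pow hp.out).mp
    (hn ▸ Subgroup.relIndex_dvd_card (Subgroup.centralizer ({x} : Set G)) P)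
  have h1 := relIndex_dvd_index_normal P (Subgroup.centralizer ({x} : Set G))
  rw [hj] at h1 ⊢
  have h2 := ((hp.out.pow_dvd_iff_le_factorization Subgroup.index_ne_zero_of_finite).mp h1).trans (h x)
  exact (Nat.pow_le_pow_right hp.out.pos h2).trans (pow_one p).le

theorem pCore_comm {p : ℕ} [hp : Fact p.Prime] (h : PSmall p G) {u x : G}
    (hu : ∃ k, orderOf u = p ^ k) (hx : x ∈ Cfsg.pCore p G) : ⁅u, x⁆ ∈ Subgroup.center G := by
  obtain ⟨k, hk⟩ := hu
  have hup : IsPGroup p (Subgroup.zpowers u) := IsPGroup.of_card (n := k) (by rw [Nat.card_zpowers, hk])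
  obtain ⟨P, hP⟩ := hup.exists_le_sylow
  obtain ⟨Q, hQ⟩ := (Cfsg.Lib.Core.pCore_isPGroup p G).exists_le_sylow
  obtain ⟨g, rfl⟩ := MulAction.exists_smul_eq G Q P
  have hxP : x ∈ ((g • Q : Sylow p G) : Subgroup G) := by
    rw [Sylow.coe_subgroup_smul, Subgroup.mem_pointwise_smul_iff_inv_smul_mem, MulAut.inv_def,
      MulAut.smul_def, MulAut.conj_symm_apply]
    have := (inferInstance : (Cfsg.pCore p G).Normal).conj_mem x hx g⁻¹
    rw [inv_inv] at this
    exact hQ this
  exact (SmallIndices.pow_mem_center_and_comm h (g • Q) ⟨u, hP (Subgroup.mem_zpowers u)⟩ ⟨x, hxP⟩).2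

/-- The kernel of the action on `O_p(G)` modulo the centre. -/
def coreKer (p : ℕ) (G : Type*) [Group G] : Subgroup G :=
  (Subgroup.centralizer (((Cfsg.pCore p G).map (QuotientGroup.mk' (Subgroup.center G)) :
    Subgroup (G ⧸ Subgroup.center G)) : Set (G ⧸ Subgroup.center G))).comap
      (QuotientGroup.mk' (Subgroup.center G))

theorem mem_coreKer {p : ℕ} {g : G} :
    g ∈ coreKer p G ↔ ∀ x ∈ Cfsg.pCore p G, ⁅g, x⁆ ∈ Subgroup.center G := by
  rw [coreKer, Subgroup.mem_comap, Subgroup.mem_centralizer_iff]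
  constructor
  · intro h x hx
    have h1 := h _ ⟨x, hx, rfl⟩
    rw [← QuotientGroup.eq_one_iff]
    show QuotientGroup.mk' _ ⁅g, x⁆ = 1
    rw [map_commutatorElement, commutatorElement_eq_one_iff_mul_comm]
    exact h1.symm
  · rintro h _ ⟨x, hx, rfl⟩
    have h1 : QuotientGroup.mk' (Subgroup.center G) ⁅g, x⁆ = 1 := (QuotientGroup.eq_one_iff _).mpr (h x hx)
    rw [map_commutatorElement, commutatorElement_eq_one_iff_mul_comm] at h1
    exact h1.symm

theorem exists_moved {p : ℕ} [hp : Fact p.Prime] (h : PSmall p G) :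
    commutator G ≤ coreKer p G ∧ (coreKer p G = ⊤ ∨ ∃ x ∈ Cfsg.pCore p G,
      Subgroup.centralizer ({x} : Set G) ≤ coreKer p G) := by
  set q := QuotientGroup.mk' (Subgroup.center G)
  set Vp := (Cfsg.pCore p G).map q
  haveI : Vp.Normal := Subgroup.Normal.map inferInstance q (QuotientGroup.mk'_surjective _)
  haveI : IsMulCommutative Vp := by
    refine ⟨⟨fun a b => ?_⟩⟩
    obtain ⟨a', ha', hae⟩ := a.2
    obtain ⟨b', hb', hbe⟩ := b.2
    apply Subtype.ext
    rw [Subgroup.coe_mul, Subgroup.coe_mul, ← hae, ← hbe, ← commutatorElement_eq_one_iff_mul_comm,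
      ← map_commutatorElement]
    obtain ⟨k, hk⟩ := IsPGroup.iff_orderOf.mp (Cfsg.Lib.Core.pCore_isPGroup p G) ⟨a', ha'⟩
    rw [Subgroup.orderOf_mk] at hk
    exact (QuotientGroup.eq_one_iff _).mpr (pCore_comm h ⟨k, hk⟩ hb')
  have hVp : IsPGroup p Vp := (Cfsg.Lib.Core.pCore_isPGroup p G).map q
  open scoped IsMulCommutative in
  let φ : G →* MulAut Vp := MulAut.conjNormal.comp q
  have hφ : ∀ (g : G) (x : G) (hx : x ∈ Cfsg.pCore p G),
      (φ g ⟨q x, x, hx, rfl⟩ : G ⧸ Subgroup.center G) = q g * q x * (q g)⁻¹ := fun g x hx => rfl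
  have hker : ∀ g, φ g = 1 ↔ g ∈ coreKer p G := by
    intro g
    rw [coreKer, Subgroup.mem_comap, Subgroup.mem_centralizer_iff]
    constructor
    · intro hg z hz
      have h1 : φ g ⟨z, hz⟩ = ⟨z, hz⟩ := by rw [hg]; rfl
      have h2 : q g * z * (q g)⁻¹ = z := congrArg Subtype.val h1
      exact (mul_inv_eq_iff_eq_mul.mp h2).symm
    · intro hg
      refine MulEquiv.ext fun z => Subtype.ext ?_
      show q g * (z : G ⧸ Subgroup.center G) * (q g)⁻¹ = z
      rw [← hg z z.2, mul_inv_cancel_right]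
  have hsm : ∀ g, Small p (φ g) := by
    intro g
    refine ⟨?_, coprime_map φ (fun u hu => (hker u).mpr (mem_coreKer.mpr fun x hx => pCore_comm h hu hx)) g⟩
    refine le_trans ?_ (relIndex_le_of_pSmall h (Cfsg.pCore p G) (Cfsg.Lib.Core.pCore_isPGroup p G) g)
    refine Nat.le_of_dvd (Nat.pos_of_ne_zero Subgroup.index_ne_zero_of_finite) ?_
    let r : Cfsg.pCore p G →* Vp := q.subgroupMap (Cfsg.pCore p G)
    refine dvd_trans (Subgroup.index_dvd_of_le (?_ :
      ((Subgroup.centralizer ({g} : Set G)).subgroupOf (Cfsg.pCore p G)).map r ≤ fixSub (φ g)))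
      (Subgroup.index_map_dvd _ (MonoidHom.subgroupMap_surjective q _))
    rintro _ ⟨x, hx, rfl⟩
    have hx' := Subgroup.mem_centralizer_iff.mp hx g rfl
    apply Subtype.ext
    show q g * q (x : G) * (q g)⁻¹ = q (x : G)
    rw [← map_mul, mul_inv_eq_iff_eq_mul, ← map_mul]
    exact congrArg q hx'
  refine ⟨?_, ?_⟩
  · rw [_root_.commutator_def, Subgroup.commutator_le]
    intro a _ b _
    rw [← hker]
    exact smalls_comm hp.out hVp φ hsm a b
  by_cases htop : coreKer p G = ⊤
  · exact Or.inl htop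
  obtain ⟨b, hb⟩ : ∃ b, φ b ≠ 1 := by
    by_contra hno
    push Not at hno
    exact htop (eq_top_iff.mpr fun g _ => (hker g).mp (hno g))
  obtain ⟨⟨_, x, hx, rfl⟩, hv⟩ : ∃ v : Vp, v ∉ fixSub (φ b) := by
    by_contra hno
    push Not at hno
    exact hb (MulEquiv.ext fun v => hno v)
  refine Or.inr ⟨x, hx, fun a ha => ?_⟩
  rw [← hker]
  by_contra ha1
  refine hv ((smalls_structure hp.out hVp φ hsm ha1 hb).1 ▸ ?_)
  apply Subtype.ext
  show q a * q x * (q a)⁻¹ = q x
  rw [← map_mul, mul_inv_eq_iff_eq_mul, ← map_mul]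
  exact congrArg q (Subgroup.mem_centralizer_iff.mp ha x rfl).symm

/-- Main structural step: `G' ≤ F(G)` and some class size is a multiple of `[G : F(G)]`. -/
theorem structure_fitting (h : SFClasses G) :
    commutator G ≤ Cfsg.fittingSubgroup G ∧
    (∃ x : G, Subgroup.centralizer ({x} : Set G) ≤ Cfsg.fittingSubgroup G) ∧
    ∀ x ∈ Cfsg.fittingSubgroup G, ∀ y ∈ Cfsg.fittingSubgroup G, ⁅x, y⁆ ∈ Subgroup.center G := by
  haveI := isSolvable_of_sfClasses _ G rfl h
  set F := Cfsg.fittingSubgroup G with hF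
  haveI hFn : F.Normal := Cfsg.Lib.Core.fittingSubgroup_normal' G
  have hFnil : Group.IsNilpotent F := Cfsg.Lib.Core.fittingSubgroup_isNilpotent G
  have hFe := Cfsg.Lib.Core.fittingSubgroup_eq_iSup_pCore (G := G)
  set q := QuotientGroup.mk' (Subgroup.center G)
  set K : Subgroup G := ⨅ r : Nat.Primes, coreKer (r : ℕ) G
  have hK : ∀ g, g ∈ K ↔ ∀ x ∈ F, ⁅g, x⁆ ∈ Subgroup.center G := by
    intro g
    constructor
    · intro hg
      have hle : F ≤ (Subgroup.centralizer ({q g} : Set (G ⧸ Subgroup.center G))).comap q := by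
        rw [hF, hFe]
        refine iSup_le fun r x hx => ?_
        rw [Subgroup.mem_comap, Subgroup.mem_centralizer_iff]
        rintro z rfl
        have h1 : q ⁅g, x⁆ = 1 :=
          (QuotientGroup.eq_one_iff _).mpr (mem_coreKer.mp (Subgroup.mem_iInf.mp hg r) x hx)
        rwa [map_commutatorElement, commutatorElement_eq_one_iff_mul_comm] at h1
      intro x hx
      rw [← QuotientGroup.eq_one_iff]
      show q ⁅g, x⁆ = 1
      rw [map_commutatorElement, commutatorElement_eq_one_iff_mul_comm]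
      exact Subgroup.mem_centralizer_iff.mp (hle hx) _ rfl
    · intro hg
      refine Subgroup.mem_iInf.mpr fun r => mem_coreKer.mpr fun x hx => hg x ?_
      haveI : Fact (r : ℕ).Prime := ⟨r.2⟩
      exact Cfsg.Lib.Core.pCore_le_fittingSubgroup (r : ℕ) G hx
  have hG'K : commutator G ≤ K := le_iInf fun r => by
    haveI : Fact (r : ℕ).Prime := ⟨r.2⟩
    exact (exists_moved (h.pSmall r)).1
  haveI hKn : K.Normal := ⟨fun k hk g => by
    have h1 : ⁅g, k⁆ ∈ K := hG'K (Subgroup.commutator_mem_commutator (Subgroup.mem_top g) (Subgroup.mem_top k))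
    have := mul_mem h1 hk
    simpa [commutatorElement_def, mul_assoc] using this⟩
  have hFK : ⁅K, F⁆ ≤ Subgroup.center G := Subgroup.commutator_le.mpr fun k hk x hx => (hK k).mp hk x hx
  have hcent : ∀ A B : Subgroup G, A ≤ Subgroup.center G → ⁅A, B⁆ = ⊥ := by
    intro A B hA
    rw [Subgroup.commutator_eq_bot_iff_le_centralizer]
    intro a ha
    rw [Subgroup.mem_centralizer_iff]
    intro b _
    exact Subgroup.mem_center_iff.mp (hA ha) b
  have hKKF : ⁅⁅K, K⁆, F⁆ = ⊥ :=
    Subgroup.commutator_commutator_eq_bot_of_rotate (hcent _ _ hFK)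
      (hcent _ _ (by rw [Subgroup.commutator_comm]; exact hFK))
  have hKK : ⁅K, K⁆ ≤ F := by
    refine le_trans ?_ (Cfsg.Lib.Core.centralizer_fitting_le_of_isSolvable (G := G))
    exact (Subgroup.commutator_eq_bot_iff_le_centralizer.mp hKKF)
  have h3 : ⁅⁅K, K⁆, K⁆ ≤ Subgroup.center G := by
    refine le_trans (Subgroup.commutator_mono hKK le_rfl) ?_
    rw [Subgroup.commutator_comm]; exact hFK
  have hKnil : Group.IsNilpotent K := by
    rw [Subgroup.isNilpotent_iff_lowerCentralSeries]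
    refine ⟨3, ?_⟩
    simp only [Subgroup.lowerCentralSeries_succ, Subgroup.lowerCentralSeries_zero]
    exact hcent _ _ h3
  have hKF : K ≤ F := Cfsg.Lib.Core.le_fittingSubgroup hKnil
  -- `F` acts trivially
  have hFin : ∀ x ∈ F, x ∈ K := by
    intro x hx
    refine (iSup_le fun r => ?_ : ⨆ r : Nat.Primes, Cfsg.pCore (r : ℕ) G ≤ K) (hFe ▸ hx)
    intro u hu
    refine Subgroup.mem_iInf.mpr fun s => mem_coreKer.mpr fun y hy => ?_
    haveI : Fact (r : ℕ).Prime := ⟨r.2⟩
    haveI : Fact (s : ℕ).Prime := ⟨s.2⟩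
    obtain ⟨i, hi⟩ := IsPGroup.iff_orderOf.mp (Cfsg.Lib.Core.pCore_isPGroup (r : ℕ) G) ⟨u, hu⟩
    rw [Subgroup.orderOf_mk] at hi
    by_cases hrs : (r : ℕ) = s
    · exact pCore_comm (h.pSmall s) ⟨i, by rw [hi, hrs]⟩ hy
    · obtain ⟨j, hj⟩ := IsPGroup.iff_orderOf.mp (Cfsg.Lib.Core.pCore_isPGroup (s : ℕ) G) ⟨y, hy⟩
      rw [Subgroup.orderOf_mk] at hj
      have hcop : (orderOf u).Coprime (orderOf y) := by
        rw [hi, hj]
        exact Nat.Coprime.pow _ _ ((Nat.coprime_primes r.2 s.2).mpr hrs)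
      have hc := Cfsg.Lib.PGroup.commute_of_coprime_orderOf
        (⟨u, Cfsg.Lib.Core.pCore_le_fittingSubgroup (r : ℕ) G hu⟩ : F)
        ⟨y, Cfsg.Lib.Core.pCore_le_fittingSubgroup (s : ℕ) G hy⟩
        (by rwa [Subgroup.orderOf_mk, Subgroup.orderOf_mk])
      have hc' : Commute u y := hc.map F.subtype
      rw [commutatorElement_eq_one_iff_commute.mpr hc']
      exact one_mem _
  refine ⟨hG'K.trans hKF, ?_, fun x hx y hy => (hK x).mp (hFin x hx) y hy⟩
  -- one element moved by all the actions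
  suffices hS : ∀ S : Finset ℕ, (∀ r ∈ S, r.Prime) → ∃ x ∈ F, (∀ r : ℕ, r.Prime → r ∣ orderOf x → r ∈ S) ∧
      ∀ r ∈ S, Subgroup.centralizer ({x} : Set G) ≤ coreKer r G by
    obtain ⟨x, -, -, hx⟩ := hS (Nat.card G).primeFactors fun r hr => Nat.prime_of_mem_primeFactors hr
    refine ⟨x, fun g hg => hKF (Subgroup.mem_iInf.mpr fun r => ?_)⟩
    by_cases hr : (r : ℕ) ∈ (Nat.card G).primeFactors
    · exact hx r hr hg
    · haveI : Fact (r : ℕ).Prime := ⟨r.2⟩
      refine mem_coreKer.mpr fun y hy => ?_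
      obtain ⟨j, hj⟩ := IsPGroup.iff_orderOf.mp (Cfsg.Lib.Core.pCore_isPGroup (r : ℕ) G) ⟨y, hy⟩
      rw [Subgroup.orderOf_mk] at hj
      rcases Nat.eq_zero_or_pos j with rfl | hj0
      · rw [pow_zero, orderOf_eq_one_iff] at hj
        rw [hj, commutatorElement_one_right]
        exact one_mem _
      · exact absurd (Nat.mem_primeFactors.mpr ⟨r.2, ((dvd_pow_self _ hj0.ne').trans hj.symm.dvd).trans
          (orderOf_dvd_natCard y), Nat.card_pos.ne'⟩) hr
  intro S
  induction S using Finset.induction with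
  | empty => exact fun _ => ⟨1, one_mem _, fun r hr hrd => absurd (Nat.dvd_one.mp (by simpa using hrd)) hr.ne_one, by simp⟩
  | @insert p S hpS ih =>
    intro hS
    obtain ⟨x, hxF, hxS, hxC⟩ := ih fun r hr => hS r (Finset.mem_insert_of_mem hr)
    haveI : Fact p.Prime := ⟨hS p (Finset.mem_insert_self p S)⟩
    rcases (exists_moved (h.pSmall p)).2 with htop | ⟨y, hy, hyC⟩
    · refine ⟨x, hxF, fun r hr hrd => Finset.mem_insert_of_mem (hxS r hr hrd), fun r hr => ?_⟩
      rcases Finset.mem_insert.mp hr with rfl | hr'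
      · rw [htop]; exact le_top
      · exact hxC r hr'
    · obtain ⟨j, hj⟩ := IsPGroup.iff_orderOf.mp (Cfsg.Lib.Core.pCore_isPGroup p G) ⟨y, hy⟩
      rw [Subgroup.orderOf_mk] at hj
      have hyF := Cfsg.Lib.Core.pCore_le_fittingSubgroup p G hy
      have hcop : (orderOf x).Coprime (orderOf y) := by
        rw [hj]
        refine Nat.Coprime.pow_right j ((Nat.Prime.coprime_iff_not_dvd Fact.out).mpr fun hd => ?_).symm
        exact hpS (hxS p Fact.out hd)
      have hc : Commute x y := (Cfsg.Lib.PGroup.commute_of_coprime_orderOf (⟨x, hxF⟩ : F) ⟨y, hyF⟩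
        (by rwa [Subgroup.orderOf_mk, Subgroup.orderOf_mk])).map F.subtype
      refine ⟨x * y, mul_mem hxF hyF, fun r hr hrd => ?_, ?_⟩
      · rw [hc.orderOf_mul_eq_mul_orderOf_of_coprime hcop] at hrd
        rcases hr.dvd_mul.mp hrd with h1 | h1
        · exact Finset.mem_insert_of_mem (hxS r hr h1)
        · rw [hj] at h1
          rw [(Nat.prime_dvd_prime_iff_eq hr Fact.out).mp (hr.dvd_of_dvd_pow h1)]
          exact Finset.mem_insert_self p S
      · have hle : ∀ a b : G, Commute a b → (orderOf a).Coprime (orderOf b) →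
            Subgroup.centralizer ({a * b} : Set G) ≤ Subgroup.centralizer ({a} : Set G) := by
          intro a b hab hco g hg
          rw [Subgroup.mem_centralizer_iff] at hg ⊢
          rintro z rfl
          have h1 : Commute (z * b) g := hg _ rfl
          have h2 : ∃ m : ℕ, (z * b) ^ m = z := by
            obtain ⟨m, hm1, hm0⟩ := Nat.chineseRemainder hco 1 0
            refine ⟨m, ?_⟩
            rw [hab.mul_pow, (orderOf_dvd_iff_pow_eq_one.mp (Nat.modEq_zero_iff_dvd.mp hm0)), mul_one]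
            conv_rhs => rw [← pow_one z]
            exact pow_eq_pow_iff_modEq.mpr hm1
          obtain ⟨m, hm⟩ := h2
          have := h1.pow_left m
          rw [hm] at this
          exact this
        intro r hr
        rcases Finset.mem_insert.mp hr with rfl | hr'
        · refine le_trans ?_ hyC
          rw [hc.eq]
          exact hle y x hc.symm hcop.symm
        · exact (hle x y hc hcop).trans (hxC r hr')

/-- In a `p`-group with classes of size at most `p` the derived subgroup has order at most `p`. -/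
theorem knoche {p : ℕ} [hp : Fact p.Prime] {P : Type*} [Group P] [Finite P] (hP : IsPGroup p P)
    (hcen : ∀ a b : P, ⁅a, b⁆ ∈ Subgroup.center P)
    (h : ∀ a : P, (Subgroup.centralizer ({a} : Set P)).index ≤ p) :
    Nat.card (commutator P) ≤ p := by
  have hlin : ∀ a b c : P, ⁅a, b * c⁆ = ⁅a, b⁆ * ⁅a, c⁆ := fun a b c => by
    rw [show ⁅a, b * c⁆ = ⁅a, b⁆ * (b * ⁅a, c⁆ * b⁻¹) by simp [commutatorElement_def, mul_assoc],
      Subgroup.mem_center_iff.mp (hcen a c) b, mul_inv_cancel_right]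
  let d : P → P →* P := fun a =>
    { toFun := fun b => ⁅a, b⁆
      map_one' := commutatorElement_one_right a
      map_mul' := hlin a }
  have hker : ∀ a, (d a).ker = Subgroup.centralizer ({a} : Set P) := by
    intro a
    ext b
    rw [MonoidHom.mem_ker, Subgroup.mem_centralizer_iff]
    show ⁅a, b⁆ = 1 ↔ _
    rw [commutatorElement_eq_one_iff_mul_comm]
    exact ⟨fun h z hz => by rw [Set.mem_singleton_iff.mp hz]; exact h, fun h => h a rfl⟩
  have hrange : ∀ a, Nat.card (d a).range ≤ p := fun a => by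
    rw [← Subgroup.index_ker, hker]; exact h a
  have hgen : ∀ a (w : P), w ∈ (d a).range → w ≠ 1 → (d a).range = Subgroup.zpowers w := by
    intro a w hw hw1
    refine (Subgroup.eq_of_le_of_card_ge (Subgroup.zpowers_le.mpr hw) ((hrange a).trans ?_)).symm
    rw [Nat.card_zpowers]
    obtain ⟨k, hk⟩ := IsPGroup.iff_orderOf.mp hP w
    rw [hk]
    rcases Nat.eq_zero_or_pos k with rfl | hk0
    · exact absurd (orderOf_eq_one_iff.mp (by simpa using hk)) hw1
    · exact Nat.le_self_pow hk0.ne' p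
  have hkey : ∀ a b, (d a).range ≠ ⊥ → (d b).range ≠ ⊥ → (d a).range = (d b).range := by
    intro a b ha hb
    obtain ⟨z, hza, hzb⟩ : ∃ z : P, ⁅a, z⁆ ≠ (1 : P) ∧ ⁅b, z⁆ ≠ (1 : P) := by
      obtain ⟨w, ⟨u, rfl⟩, hu⟩ := (d a).range.bot_or_exists_ne_one.resolve_left ha
      obtain ⟨w, ⟨v, rfl⟩, hv⟩ := (d b).range.bot_or_exists_ne_one.resolve_left hb
      by_cases h1 : ⁅b, u⁆ = 1
      · by_cases h2 : ⁅a, v⁆ = 1
        · refine ⟨u * v, ?_, ?_⟩
          · rw [hlin, h2, mul_one]; exact hu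
          · rw [hlin, h1, one_mul]; exact hv
        · exact ⟨v, h2, hv⟩
      · exact ⟨u, hu, h1⟩
    rw [hgen a ⁅a, z⁆ ⟨z, rfl⟩ hza, hgen b ⁅b, z⁆ ⟨z, rfl⟩ hzb, ← Subgroup.zpowers_inv,
      commutatorElement_inv, ← hgen z ⁅z, a⁆ ⟨a, rfl⟩ (fun h1 => hza (by rw [← commutatorElement_inv, h1, inv_one])),
      ← Subgroup.zpowers_inv (g := ⁅b, z⁆), commutatorElement_inv,
      hgen z ⁅z, b⁆ ⟨b, rfl⟩ (fun h1 => hzb (by rw [← commutatorElement_inv, h1, inv_one]))]
  by_cases hall : ∀ a, (d a).range = ⊥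
  · have : commutator P = ⊥ := by
      rw [eq_bot_iff, _root_.commutator_def, Subgroup.commutator_le]
      intro a _ b _
      exact (hall a).le ⟨b, rfl⟩
    rw [this, Subgroup.card_bot]
    exact hp.out.one_le
  push Not at hall
  obtain ⟨a, ha⟩ := hall
  refine (Subgroup.card_le_of_le (K := (d a).range) ?_).trans (hrange a)
  rw [_root_.commutator_def, Subgroup.commutator_le]
  intro x _ y _
  by_cases hx : (d x).range = ⊥
  · have : ⁅x, y⁆ = 1 := (Subgroup.mem_bot).mp (hx.le ⟨y, rfl⟩)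
    rw [this]; exact one_mem _
  · exact (hkey x a hx ha).le ⟨y, rfl⟩

theorem derived_card_le {p : ℕ} [hp : Fact p.Prime] (h : PSmall p G) (P : Sylow p G)
    [(P : Subgroup G).Normal] (hab : ∀ a b : G, ⁅a, b⁆ ∈ (P : Subgroup G)) :
    Nat.card (commutator G) ≤ p := by
  have hPc : ∀ a ∈ (P : Subgroup G), ∀ b ∈ (P : Subgroup G), ⁅a, b⁆ ∈ Subgroup.center G :=
    fun a ha b hb => (SmallIndices.pow_mem_center_and_comm h P ⟨a, ha⟩ ⟨b, hb⟩).2
  have hcls : ∀ x : G, (Subgroup.centralizer ({x} : Set G)).relIndex (P : Subgroup G) ≤ p :=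
    fun x => relIndex_le_of_pSmall h _ P.2 x
  obtain ⟨Y, hY⟩ := Subgroup.exists_right_complement'_of_coprime (N := (P : Subgroup G)) P.card_coprime_index
  have hYab : ∀ a ∈ Y, ∀ b ∈ Y, a * b = b * a := by
    intro a ha b hb
    rw [← commutatorElement_eq_one_iff_mul_comm, ← Subgroup.mem_bot,
      ← disjoint_iff.mp hY.disjoint]
    exact ⟨hab a b, Y.mul_mem (Y.mul_mem (Y.mul_mem ha hb) (Y.inv_mem ha)) (Y.inv_mem hb)⟩
  have hdec : ∀ g : G, ∃ u ∈ (P : Subgroup G), ∃ y ∈ Y, g = u * y := fun g => by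
    obtain ⟨⟨u, y⟩, h⟩ := hY.2 g
    exact ⟨u, u.2, y, y.2, h.symm⟩
  have hYcop : ∀ y ∈ Y, (orderOf y).Coprime p := by
    intro y hy
    refine Nat.Coprime.coprime_dvd_left ?_ ((Nat.Prime.coprime_iff_not_dvd hp.out).mpr P.not_dvd_index).symm
    rw [← Subgroup.orderOf_mk y hy, hY.symm.index_eq_card]
    exact orderOf_dvd_natCard _
  by_cases hcase : ∀ y ∈ Y, ∀ u ∈ (P : Subgroup G), y * u = u * y
  · -- `G' = P'`
    have hle : commutator G ≤ (commutator (P : Subgroup G)).map (P : Subgroup G).subtype := by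
      rw [_root_.commutator_def, Subgroup.commutator_le]
      intro a _ b _
      obtain ⟨u, hu, y, hy, rfl⟩ := hdec a
      obtain ⟨v, hv, z, hz, rfl⟩ := hdec b
      refine ⟨⁅(⟨u, hu⟩ : (P : Subgroup G)), ⟨v, hv⟩⁆,
        Subgroup.commutator_mem_commutator (Subgroup.mem_top _) (Subgroup.mem_top _), ?_⟩
      have e1 : ⁅u * y, v * z⁆ = u * (y * (v * z) * y⁻¹) * u⁻¹ * (v * z)⁻¹ := by
        simp [commutatorElement_def, mul_assoc]
      rw [map_commutatorElement, Subgroup.coe_subtype, e1, ← mul_assoc y v z, hcase y hy v hv,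
        mul_assoc v y z, hYab y hy z hz, ← mul_assoc v z y, mul_inv_cancel_right]
      rw [commutatorElement_def, mul_inv_rev, mul_assoc u (v * z) u⁻¹,
        mul_assoc v z u⁻¹, hcase z hz u⁻¹ (inv_mem hu)]
      simp [mul_assoc]
    refine (Subgroup.card_le_of_le hle).trans ?_
    rw [Subgroup.card_map_of_injective (P : Subgroup G).subtype_injective]
    refine knoche P.2 (fun a b => ?_) (fun a => ?_)
    · rw [Subgroup.mem_center_iff]
      intro c
      exact Subtype.ext (by
        have := Subgroup.mem_center_iff.mp (hPc a a.2 b b.2) (c : G)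
        simpa [commutatorElement_def] using this)
    · refine le_trans (le_of_eq ?_) (hcls (a : G))
      rw [Subgroup.relIndex]
      congr 1
      ext z
      simp only [Subgroup.mem_subgroupOf, Subgroup.mem_centralizer_iff, Set.mem_singleton_iff,
        forall_eq]
      exact ⟨fun h => congrArg Subtype.val h, fun h => Subtype.ext h⟩
  push Not at hcase
  obtain ⟨y, hyY, u, hu, hyu⟩ := hcase
  -- the fixed subgroup of `y`
  set C := (P : Subgroup G) ⊓ Subgroup.centralizer ({y} : Set G)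
  have hCidx : C.relIndex (P : Subgroup G) = p := by
    obtain ⟨n, hn⟩ := IsPGroup.iff_card.mp P.2
    obtain ⟨j, -, hj⟩ := (Nat.dvd_prime_pow hp.out).mp
      (hn ▸ Subgroup.relIndex_dvd_card C (P : Subgroup G))
    have h1 : C.relIndex (P : Subgroup G) ≤ p := by
      rw [Subgroup.inf_relIndex_left]; exact hcls y
    rcases Nat.eq_zero_or_pos j with rfl | hj0
    · exfalso
      rw [pow_zero, Subgroup.relIndex_eq_one] at hj
      exact hyu (Subgroup.mem_centralizer_iff.mp (hj hu).2 y rfl)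
    · exact le_antisymm h1 (hj ▸ Nat.le_self_pow hj0.ne' p)
  obtain ⟨n, hn⟩ := IsPGroup.iff_card.mp P.2
  haveI hMn : (C.subgroupOf (P : Subgroup G)).Normal := by
    refine Subgroup.normal_of_index_eq_minFac_card ?_
    rw [show (C.subgroupOf (P : Subgroup G)).index = p from hCidx, hn, Nat.pow_minFac,
      Nat.Prime.minFac_eq hp.out]
    rintro rfl
    have := (C.subgroupOf (P : Subgroup G)).index_dvd_card
    rw [show (C.subgroupOf (P : Subgroup G)).index = p from hCidx, hn, pow_zero] at this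
    exact hp.out.ne_one (Nat.dvd_one.mp this)
  set M := C.subgroupOf (P : Subgroup G) with hMdef
  haveI : IsCyclic ((P : Subgroup G) ⧸ M) := isCyclic_of_prime_card hCidx
  have hy' : ∀ w ∈ (P : Subgroup G), y * w * y⁻¹ ∈ (P : Subgroup G) := fun w hw =>
    (inferInstance : (P : Subgroup G).Normal).conj_mem w hw y
  -- `u` generates modulo `C` and `y` acts on it as a nontrivial power
  have huM : (⟨u, hu⟩ : (P : Subgroup G)) ∉ M := fun hm =>
    hyu (Subgroup.mem_centralizer_iff.mp (Subgroup.mem_subgroupOf.mp hm).2 y rfl)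
  have hgenM : ∀ w : (P : Subgroup G), ∃ i : ℕ, ((⟨u, hu⟩ : (P : Subgroup G)) ^ i)⁻¹ * w ∈ M := by
    intro w
    have h1 : (w : (P : Subgroup G) ⧸ M) ∈
        Subgroup.zpowers ((⟨u, hu⟩ : (P : Subgroup G)) : (P : Subgroup G) ⧸ M) := by
      rw [zpowers_eq_top_of_prime_card (p := p) hCidx (by rwa [Ne, QuotientGroup.eq_one_iff])]
      exact Subgroup.mem_top _
    obtain ⟨i, hi⟩ := (isOfFinOrder_of_finite _).mem_powers_iff_mem_zpowers.mpr h1
    exact ⟨i, QuotientGroup.eq.mp hi⟩
  obtain ⟨i, hi⟩ := hgenM ⟨y * u * y⁻¹, hy' u hu⟩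
  -- the elements of `C` are central in `P`
  have hPcomm : ∀ a ∈ C, ∀ w ∈ (P : Subgroup G), a * w = w * a := by
    intro a ha
    set E := (P : Subgroup G) ⊓ Subgroup.centralizer ({a} : Set G)
    have hle : C ≤ E := by
      set g := a * y
      have hay : Commute a y := (Subgroup.mem_centralizer_iff.mp ha.2 y rfl).symm
      have hcop : (orderOf a).Coprime (orderOf y) := by
        obtain ⟨k, hk⟩ := IsPGroup.iff_orderOf.mp P.2 ⟨a, ha.1⟩
        rw [Subgroup.orderOf_mk] at hk
        rw [hk]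
        exact ((hYcop y hyY).pow_right k).symm
      have hD : (P : Subgroup G) ⊓ Subgroup.centralizer ({g} : Set G) ≤ E ⊓ C := by
        intro w hw
        have h1 : Commute g w := Subgroup.mem_centralizer_iff.mp hw.2 g rfl
        obtain ⟨m, hm1, hm0⟩ := Nat.chineseRemainder hcop 1 0
        have hm : g ^ m = a := by
          rw [hay.mul_pow, orderOf_dvd_iff_pow_eq_one.mp (Nat.modEq_zero_iff_dvd.mp hm0), mul_one]
          conv_rhs => rw [← pow_one a]
          exact pow_eq_pow_iff_modEq.mpr hm1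
        have h2 : Commute a w := hm ▸ h1.pow_left m
        have h3 : Commute y w := by
          have : Commute (a⁻¹ * g) w := h2.inv_left.mul_left h1
          simpa [g] using this
        exact ⟨⟨hw.1, Subgroup.mem_centralizer_iff.mpr fun z hz => (Set.mem_singleton_iff.mp hz).symm ▸ h2⟩,
          ⟨hw.1, Subgroup.mem_centralizer_iff.mpr fun z hz => (Set.mem_singleton_iff.mp hz).symm ▸ h3⟩⟩
      have heq : E ⊓ C = C := by
        refine Subgroup.eq_of_le_of_card_ge inf_le_right ?_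
        have h1 := hcls g
        rw [← Subgroup.inf_relIndex_left] at h1
        have h2 := Cfsg.Lib.Core.card_mul_relIndex
          (inf_le_left : (P : Subgroup G) ⊓ Subgroup.centralizer ({g} : Set G) ≤ (P : Subgroup G))
        have h3 := Cfsg.Lib.Core.card_mul_relIndex (inf_le_left : C ≤ (P : Subgroup G))
        rw [hCidx] at h3
        have h4 := Nat.mul_le_mul (Subgroup.card_le_of_le hD) h1
        rw [h2, ← h3] at h4
        exact Nat.le_of_mul_le_mul_right h4 hp.out.pos
      exact heq ▸ inf_le_left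
    have haC : ∀ w ∈ C, a * w = w * a := fun w hw => Subgroup.mem_centralizer_iff.mp (hle hw).2 a rfl
    set c := ⁅a, u⁆ with hc
    have hcz : c ∈ Subgroup.center G := hPc a ha.1 u hu
    have hlin : ∀ v w : G, v ∈ (P : Subgroup G) → w ∈ (P : Subgroup G) →
        ⁅a, v * w⁆ = ⁅a, v⁆ * ⁅a, w⁆ := fun v w hv hw => by
      rw [show ⁅a, v * w⁆ = ⁅a, v⁆ * (v * ⁅a, w⁆ * v⁻¹) by simp [commutatorElement_def, mul_assoc],
        Subgroup.mem_center_iff.mp (hPc a ha.1 w hw) v, mul_inv_cancel_right]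
    have hpow : ∀ k : ℕ, ⁅a, u ^ k⁆ = c ^ k := by
      intro k
      induction k with
      | zero => simp
      | succ k ih => rw [pow_succ, hlin _ _ (pow_mem hu k) hu, ih, pow_succ]
    have hcp : c ^ p = 1 := by
      rw [← hpow, commutatorElement_eq_one_iff_mul_comm]
      exact ((Subgroup.mem_center_iff.mp
        (SmallIndices.pow_mem_center_and_comm h P ⟨u, hu⟩ ⟨u, hu⟩).1) a)
    have h5 : ⁅a, y * u * y⁻¹⁆ = c := by
      have hay : y * a * y⁻¹ = a :=
        mul_inv_eq_iff_eq_mul.mpr (Subgroup.mem_centralizer_iff.mp ha.2 y rfl)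
      have h6 := map_commutatorElement (MulAut.conj y).toMonoidHom a u
      simp only [MulEquiv.coe_toMonoidHom, MulAut.conj_apply, hay] at h6
      rw [← h6, ← hc, Subgroup.mem_center_iff.mp hcz y, mul_inv_cancel_right]
    set c0 : G := (u ^ i)⁻¹ * (y * u * y⁻¹)
    have hc0 : c0 ∈ C := Subgroup.mem_subgroupOf.mp hi
    have h6 : c ^ i = c := by
      conv_rhs => rw [← h5, show y * u * y⁻¹ = u ^ i * c0 from (mul_inv_cancel_left _ _).symm]
      rw [hlin _ _ (pow_mem hu i) hc0.1, hpow, commutatorElement_eq_one_iff_mul_comm.mpr (haC c0 hc0),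
        mul_one]
    have hc1 : c = 1 := by
      by_contra hne
      have hord : orderOf c = p := orderOf_eq_prime hcp hne
      have h7 : i ≡ 1 [MOD p] := by
        have h8 : c ^ i = c ^ 1 := by rw [h6, pow_one]
        rw [pow_eq_pow_iff_modEq, hord] at h8
        exact h8
      -- then `y` fixes `u` modulo `C`, hence fixes it
      set w : G := u⁻¹ * (y * u * y⁻¹)
      have hwM : (⟨w, mul_mem (inv_mem hu) (hy' u hu)⟩ : (P : Subgroup G)) ∈ M := by
        have h9 : ((⟨u, hu⟩ : (P : Subgroup G)) : (P : Subgroup G) ⧸ M) ^ i =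
            ((⟨u, hu⟩ : (P : Subgroup G)) : (P : Subgroup G) ⧸ M) ^ 1 := by
          rw [pow_eq_pow_iff_modEq]
          refine h7.of_dvd ?_
          exact (_root_.orderOf_dvd_natCard _).trans hCidx.dvd
        rw [← QuotientGroup.eq_one_iff] at hi ⊢
        rw [QuotientGroup.mk_mul, QuotientGroup.mk_inv, QuotientGroup.mk_pow, h9, pow_one,
          ← QuotientGroup.mk_inv, ← QuotientGroup.mk_mul] at hi
        exact hi
      have hwy : Commute y w := Subgroup.mem_centralizer_iff.mp (Subgroup.mem_subgroupOf.mp hwM).2 y rfl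
      have hit : ∀ k : ℕ, y ^ k * u * (y ^ k)⁻¹ = u * w ^ k := by
        intro k
        induction k with
        | zero => simp
        | succ k ih =>
          have hyw : y * u * y⁻¹ = u * w := (mul_inv_cancel_left u _).symm
          have : y ^ (k + 1) * u * (y ^ (k + 1))⁻¹ = y * (y ^ k * u * (y ^ k)⁻¹) * y⁻¹ := by
            simp [pow_succ', mul_assoc]
          rw [this, ih, show y * (u * w ^ k) * y⁻¹ = (y * u * y⁻¹) * (y * w ^ k * y⁻¹) by simp [mul_assoc],
            hyw, (hwy.pow_right k).eq, mul_inv_cancel_right, mul_assoc, ← pow_succ']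
      have h10 : w ^ orderOf y = 1 := by
        have := hit (orderOf y)
        rw [pow_orderOf_eq_one, one_mul, inv_one, mul_one] at this
        exact left_eq_mul.mp this
      have h11 : w = 1 := by
        obtain ⟨k, hk⟩ := IsPGroup.iff_orderOf.mp P.2 ⟨w, mul_mem (inv_mem hu) (hy' u hu)⟩
        rw [Subgroup.orderOf_mk] at hk
        exact orderOf_eq_one_iff.mp (Nat.eq_one_of_dvd_coprimes ((hYcop y hyY).pow_right k)
          (orderOf_dvd_of_pow_eq_one h10) hk.dvd)
      exact hyu (mul_inv_eq_iff_eq_mul.mp (inv_mul_eq_one.mp h11).symm)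
    intro w hw
    obtain ⟨k, hk⟩ := hgenM ⟨w, hw⟩
    have hk' : (u ^ k)⁻¹ * w ∈ C := Subgroup.mem_subgroupOf.mp hk
    rw [← commutatorElement_eq_one_iff_mul_comm, ← mul_inv_cancel_left (u ^ k) w,
      hlin _ _ (pow_mem hu k) hk'.1, hpow, hc1, one_pow, one_mul,
      commutatorElement_eq_one_iff_mul_comm]
    exact haC _ hk'
  have hPab : ∀ a ∈ (P : Subgroup G), ∀ b ∈ (P : Subgroup G), a * b = b * a := by
    intro a ha b hb
    obtain ⟨k, hk⟩ := hgenM ⟨a, ha⟩
    obtain ⟨l, hl⟩ := hgenM ⟨b, hb⟩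
    have hk' : (u ^ k)⁻¹ * a ∈ C := Subgroup.mem_subgroupOf.mp hk
    have hl' : (u ^ l)⁻¹ * b ∈ C := Subgroup.mem_subgroupOf.mp hl
    set c1 := (u ^ k)⁻¹ * a with hc1
    set c2 := (u ^ l)⁻¹ * b with hc2
    have e1 : Commute c1 (u ^ l) := hPcomm c1 hk' _ (pow_mem hu l)
    have e2 : Commute c2 (u ^ k) := hPcomm c2 hl' _ (pow_mem hu k)
    have e3 : Commute c1 c2 := hPcomm c1 hk' _ hl'.1
    have e4 : Commute (u ^ k * c1) (u ^ l * c2) :=
      (((Commute.refl u).pow_pow k l).mul_right e2.symm).mul_left (e1.mul_right e3)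
    rw [hc1, hc2, mul_inv_cancel_left, mul_inv_cancel_left] at e4
    exact e4
  haveI : IsMulCommutative (P : Subgroup G) := ⟨⟨fun a b => Subtype.ext (hPab a a.2 b b.2)⟩⟩
  open scoped IsMulCommutative in
  let φ : G →* MulAut (P : Subgroup G) := MulAut.conjNormal
  have hφ : ∀ (g : G) (v : (P : Subgroup G)), (φ g v : G) = g * (v : G) * g⁻¹ := fun g v => rfl
  have htriv : ∀ w ∈ (P : Subgroup G), φ w = 1 := by
    intro w hw
    refine MulEquiv.ext fun v => Subtype.ext ?_
    show w * (v : G) * w⁻¹ = v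
    rw [hPab w hw v v.2, mul_inv_cancel_right]
  have hsm : ∀ g, Small p (φ g) := by
    intro g
    refine ⟨?_, ?_⟩
    · refine le_trans (le_of_eq ?_) (hcls g)
      rw [Subgroup.relIndex]
      congr 1
      ext v
      rw [Subgroup.mem_subgroupOf, Subgroup.mem_centralizer_iff]
      show φ g v = v ↔ _
      constructor
      · intro h z hz
        rw [Set.mem_singleton_iff.mp hz]
        exact mul_inv_eq_iff_eq_mul.mp (congrArg Subtype.val h)
      · intro h
        exact Subtype.ext (mul_inv_eq_iff_eq_mul.mpr (h g rfl))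
    · obtain ⟨w, hw, z, hz, rfl⟩ := hdec g
      rw [map_mul, htriv w hw, one_mul]
      exact Nat.Coprime.coprime_dvd_left (orderOf_map_dvd φ z) (hYcop z hz)
  have hy1 : φ y ≠ 1 := by
    intro h1
    have h2 : φ y ⟨u, hu⟩ = ⟨u, hu⟩ := by rw [h1]; rfl
    exact hyu (mul_inv_eq_iff_eq_mul.mp (congrArg Subtype.val h2))
  set L := (diffHom (φ y)).range
  have hL : Nat.card L = p := card_range_diffHom hp.out P.2 (hsm y) hy1
  refine (Subgroup.card_le_of_le (K := L.map (P : Subgroup G).subtype) ?_).trans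
    (by rw [Subgroup.card_map_of_injective (P : Subgroup G).subtype_injective, hL])
  have hmoves : ∀ z : G, ∀ w (hw : w ∈ (P : Subgroup G)),
      w⁻¹ * (z * w * z⁻¹) ∈ L.map (P : Subgroup G).subtype := by
    intro z w hw
    refine ⟨diffHom (φ z) ⟨w, hw⟩, ?_, rfl⟩
    by_cases hz1 : φ z = 1
    · rw [hz1]; simp [diffHom, Subgroup.one_mem]
    · rw [show L = (diffHom (φ z)).range from (smalls_structure hp.out P.2 φ hsm hz1 hy1).2.symm]
      exact ⟨_, rfl⟩
  rw [_root_.commutator_def, Subgroup.commutator_le]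
  intro a _ b _
  obtain ⟨v, hv, s, hs, rfl⟩ := hdec a
  obtain ⟨w, hw, t, ht, rfl⟩ := hdec b
  have hw2 : s * w * s⁻¹ ∈ (P : Subgroup G) := (inferInstance : (P : Subgroup G).Normal).conj_mem w hw s
  have hv2 : t * v⁻¹ * t⁻¹ ∈ (P : Subgroup G) :=
    (inferInstance : (P : Subgroup G).Normal).conj_mem _ (inv_mem hv) t
  have key : ⁅v * s, w * t⁆ = (w⁻¹ * (s * w * s⁻¹)) * ((v⁻¹)⁻¹ * (t * v⁻¹ * t⁻¹)) := by
    have e1 : ⁅v * s, w * t⁆ = v * (s * w * s⁻¹) * (t * v⁻¹ * t⁻¹) * w⁻¹ := by
      rw [commutatorElement_def]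
      have hst : s * t * s⁻¹ = t := by rw [hYab s hs t ht, mul_inv_cancel_right]
      calc v * s * (w * t) * (v * s)⁻¹ * (w * t)⁻¹
          = v * (s * w * s⁻¹) * ((s * t * s⁻¹) * v⁻¹ * t⁻¹) * w⁻¹ := by simp [mul_assoc]
        _ = _ := by rw [hst]
    rw [e1, inv_inv]
    rw [hPab v hv _ hw2, mul_assoc (s * w * s⁻¹) v,
      hPab _ (mul_mem hw2 (mul_mem hv hv2)) _ (inv_mem hw)]
    simp [mul_assoc]
  rw [key]
  exact mul_mem (hmoves s w hw) (hmoves t v⁻¹ (inv_mem hv))

theorem squarefree_derived (h : SFClasses G) : Squarefree (Nat.card (commutator G)) := by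
  obtain ⟨hG'F, -, -⟩ := structure_fitting h
  haveI hFnil : Group.IsNilpotent (Cfsg.fittingSubgroup G) := Cfsg.Lib.Core.fittingSubgroup_isNilpotent G
  rw [Nat.squarefree_iff_factorization_le_one Nat.card_pos.ne']
  intro p
  by_cases hp : p.Prime
  swap
  · simp [Nat.factorization_eq_zero_of_not_prime _ hp]
  haveI : Fact p.Prime := ⟨hp⟩
  set F := Cfsg.fittingSubgroup G with hF
  obtain ⟨S⟩ : Nonempty (Sylow p F) := inferInstance
  -- the `p'`-elements of `F`
  have hmulc : ∀ a b : F, (orderOf a).Coprime p → (orderOf b).Coprime p → (orderOf (a * b)).Coprime p := by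
    intro a b ha hb
    obtain ⟨k, hk⟩ : ∃ k, orderOf (a * b) = k := ⟨_, rfl⟩
    have hnp : Cfsg.HasNormalPComplement p F := by
      haveI hSn : (S : Subgroup F).Normal :=
        Sylow.normal_of_normalizerCondition Group.normalizerCondition_of_isNilpotent S
      obtain ⟨Y, hY⟩ := Subgroup.exists_right_complement'_of_coprime (N := (S : Subgroup F)) S.card_coprime_index
      refine (hasNormalPComplement_iff_exists S).mpr ⟨Y, ?_, hY.symm⟩
      have hYc : ∀ y ∈ Y, ∀ s ∈ (S : Subgroup F), Commute y s := by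
        intro y hy s hs
        refine Cfsg.Lib.PGroup.commute_of_coprime_orderOf y s ?_
        obtain ⟨j, hj⟩ := IsPGroup.iff_orderOf.mp S.2 ⟨s, hs⟩
        rw [Subgroup.orderOf_mk] at hj
        rw [hj]
        refine Nat.Coprime.pow_right j (Nat.Coprime.coprime_dvd_left ?_
          ((Nat.Prime.coprime_iff_not_dvd hp).mpr S.not_dvd_index).symm)
        rw [← Subgroup.orderOf_mk y hy, hY.symm.index_eq_card]
        exact orderOf_dvd_natCard _
      refine ⟨fun y hy g => ?_⟩
      obtain ⟨⟨s, z⟩, rfl⟩ := hY.2 g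
      simp only [mul_inv_rev]
      have h1 : (z : F) * y * (z : F)⁻¹ ∈ Y := mul_mem (mul_mem z.2 hy) (inv_mem z.2)
      have h2 : (s : F) * (z : F) * y * ((z : F)⁻¹ * (s : F)⁻¹) = (z : F) * y * (z : F)⁻¹ := by
        calc (s : F) * (z : F) * y * ((z : F)⁻¹ * (s : F)⁻¹)
            = (s : F) * ((z : F) * y * (z : F)⁻¹) * (s : F)⁻¹ := by simp [mul_assoc]
          _ = _ := by rw [← (hYc _ h1 _ s.2).eq, mul_inv_cancel_right]
      rw [h2]
      exact h1
    rw [← mem_pResidual_iff_coprime hnp] at ha hb ⊢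
    exact mul_mem ha hb
  set M : Subgroup G :=
    { carrier := {g | g ∈ F ∧ (orderOf g).Coprime p}
      one_mem' := ⟨one_mem _, by simp⟩
      mul_mem' := fun {a b} ha hb => ⟨mul_mem ha.1 hb.1, by
        have := hmulc ⟨a, ha.1⟩ ⟨b, hb.1⟩ (by rw [Subgroup.orderOf_mk]; exact ha.2)
          (by rw [Subgroup.orderOf_mk]; exact hb.2)
        rwa [← Subgroup.orderOf_coe] at this⟩
      inv_mem' := fun {a} ha => ⟨inv_mem ha.1, by rw [orderOf_inv]; exact ha.2⟩ }
  haveI hMn : M.Normal := ⟨fun x hx g =>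
    ⟨(Cfsg.Lib.Core.fittingSubgroup_normal' G).conj_mem x hx.1 g, by
      rw [show g * x * g⁻¹ = MulAut.conj g x from rfl, MulEquiv.orderOf_eq]; exact hx.2⟩⟩
  set q := QuotientGroup.mk' M
  obtain ⟨P⟩ : Nonempty (Sylow p G) := inferInstance
  set Pb := P.mapSurjective (QuotientGroup.mk'_surjective M)
  have hsmall : PSmall p (G ⧸ M) := by
    intro xb
    obtain ⟨x, rfl⟩ := QuotientGroup.mk'_surjective M xb
    refine le_trans ((Nat.factorization_le_iff_dvd Subgroup.index_ne_zero_of_finite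
      Subgroup.index_ne_zero_of_finite).mpr (dvd_trans (Subgroup.index_dvd_of_le (?_ :
        (Subgroup.centralizer ({x} : Set G)).map q ≤ _))
        (Subgroup.index_map_dvd _ (QuotientGroup.mk'_surjective M))) p) (h.pSmall p x)
    rintro _ ⟨g, hg, rfl⟩
    rw [Subgroup.mem_centralizer_iff]
    rintro z rfl
    rw [← map_mul, ← map_mul]
    exact congrArg _ (Subgroup.mem_centralizer_iff.mp hg x rfl)
  -- commutators lie in the image of `P`, which is normal
  have hFP : ∀ g ∈ F, q g ∈ (Pb : Subgroup (G ⧸ M)) := by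
    intro g hg
    obtain ⟨u, k, huk, -, hu, hk, humem, hkmem⟩ := Cfsg.Lib.Block.exists_pPart_pair p g
    have hkM : q k = 1 := (QuotientGroup.eq_one_iff k).mpr
      ⟨Subgroup.zpowers_le.mpr hg hkmem, ((Nat.Prime.coprime_iff_not_dvd hp).mpr hk).symm⟩
    have huP : u ∈ Cfsg.pCore p G := by
      obtain ⟨Sf⟩ : Nonempty (Sylow p F) := inferInstance
      haveI hSn : (Sf : Subgroup F).Normal :=
        Sylow.normal_of_normalizerCondition Group.normalizerCondition_of_isNilpotent Sf
      haveI hSc : (Sf : Subgroup F).Characteristic := Sf.characteristic_of_normal hSn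
      haveI : F.Normal := Cfsg.Lib.Core.fittingSubgroup_normal' G
      haveI : ((Sf : Subgroup F).map F.subtype).Normal := inferInstance
      refine Cfsg.Lib.Core.le_pCore (Sf.2.map F.subtype) ?_
      obtain ⟨j, hj⟩ := hu
      have hup : IsPGroup p (Subgroup.zpowers (⟨u, Subgroup.zpowers_le.mpr hg humem⟩ : F)) :=
        IsPGroup.of_card (n := j) (by rw [Nat.card_zpowers, Subgroup.orderOf_mk, hj])
      obtain ⟨T, hT⟩ := hup.exists_le_sylow
      haveI := Sylow.unique_of_normal Sf hSn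
      rw [Subsingleton.elim T Sf] at hT
      exact ⟨_, hT (Subgroup.mem_zpowers _), rfl⟩
    rw [← huk, map_mul, hkM, mul_one]
    obtain ⟨Q, hQ⟩ := (Cfsg.Lib.Core.pCore_isPGroup p G).exists_le_sylow
    obtain ⟨g', rfl⟩ := MulAction.exists_smul_eq G P Q
    refine ⟨u, ?_, rfl⟩
    have h1 := hQ ((inferInstance : (Cfsg.pCore p G).Normal).conj_mem u huP g')
    rw [Sylow.coe_subgroup_smul, Subgroup.mem_pointwise_smul_iff_inv_smul_mem, MulAut.inv_def,
      MulAut.smul_def, MulAut.conj_symm_apply] at h1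
    rw [show g'⁻¹ * (g' * u * g'⁻¹) * g' = u by simp [mul_assoc]] at h1
    exact h1
  have hab : ∀ a b : G ⧸ M, ⁅a, b⁆ ∈ (Pb : Subgroup (G ⧸ M)) := by
    intro a b
    obtain ⟨a, rfl⟩ := QuotientGroup.mk'_surjective M a
    obtain ⟨b, rfl⟩ := QuotientGroup.mk'_surjective M b
    rw [← map_commutatorElement]
    exact hFP _ (hG'F (Subgroup.commutator_mem_commutator (Subgroup.mem_top a) (Subgroup.mem_top b)))
  haveI : (Pb : Subgroup (G ⧸ M)).Normal := ⟨fun x hx g => by
    have := mul_mem (hab g x) hx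
    simpa [commutatorElement_def, mul_assoc] using this⟩
  have hle := derived_card_le hsmall Pb hab
  obtain ⟨T⟩ : Nonempty (Sylow p (commutator G)) := inferInstance
  have hinj : Function.Injective (((q.comp (commutator G).subtype).comp (T : Subgroup (commutator G)).subtype)) := by
    rw [← MonoidHom.ker_eq_bot_iff, eq_bot_iff]
    intro t ht
    rw [MonoidHom.mem_ker] at ht
    have hm : ((t : commutator G) : G) ∈ M := (QuotientGroup.eq_one_iff _).mp ht
    obtain ⟨j, hj⟩ := IsPGroup.iff_orderOf.mp T.2 t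
    rw [Subgroup.mem_bot]
    refine orderOf_eq_one_iff.mp (Nat.eq_one_of_dvd_coprimes (hm.2.pow_right j) ?_ hj.dvd)
    rw [Subgroup.orderOf_coe, Subgroup.orderOf_coe]
  have h2 : Nat.card (T : Subgroup (commutator G)) ≤ p := by
    refine le_trans ?_ hle
    refine Nat.card_le_card_of_injective (fun t => (⟨q ((t : commutator G) : G), ?_⟩ : commutator (G ⧸ M))) ?_
    · have h4 : (commutator G).map q ≤ commutator (G ⧸ M) := by
        rw [_root_.commutator_def, _root_.commutator_def, Subgroup.map_commutator]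
        exact Subgroup.commutator_mono le_top le_top
      exact h4 (Subgroup.mem_map_of_mem q (t : commutator G).2)
    · intro a b hab
      exact hinj (congrArg Subtype.val hab)
  rw [T.card_eq_multiplicity] at h2
  by_contra hlt
  have h5 := Nat.pow_le_pow_right hp.pos (show 2 ≤ (Nat.card (commutator G)).factorization p by omega)
  have h6 : p < p ^ 2 := by
    calc p = p ^ 1 := (pow_one p).symm
      _ < p ^ 2 := Nat.pow_lt_pow_right hp.one_lt (by norm_num)
  omega

theorem isSupersolvable_of_comm : ∀ (n : ℕ) (A : Type*) [Group A] [Finite A], Nat.card A = n →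
    (∀ a b : A, a * b = b * a) → Cfsg.IsSupersolvable A := by
  intro n
  induction n using Nat.strong_induction_on with
  | h n ih =>
    intro A _ _ hn hA
    rcases subsingleton_or_nontrivial A with hs | hs
    · exact Cfsg.Lib.Supersolvable.of_subsingleton
    obtain ⟨a, ha⟩ := exists_ne (1 : A)
    haveI : (Subgroup.zpowers a).Normal := ⟨fun x hx g => by rw [hA g x, mul_inv_cancel_right]; exact hx⟩
    refine Cfsg.Lib.Supersolvable.of_quotient (Subgroup.zpowers a) (ih _ ?_ _ rfl ?_)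
    · rw [← hn, (Subgroup.zpowers a).card_eq_card_quotient_mul_card_subgroup]
      refine lt_mul_of_one_lt_right Nat.card_pos ?_
      rw [Nat.card_zpowers]
      exact Nat.lt_of_le_of_ne (orderOf_pos a) fun h => ha (orderOf_eq_one_iff.mp h.symm)
    · intro x y
      obtain ⟨x, rfl⟩ := QuotientGroup.mk_surjective x
      obtain ⟨y, rfl⟩ := QuotientGroup.mk_surjective y
      rw [← QuotientGroup.mk_mul, hA, QuotientGroup.mk_mul]

/-- Let G be a finite group all of whose conjugacy class sizes are square-free. Then G is supersolvable, G/F(G) and the derived subgroup G′ are cyclic of square-free order (F(G) the Fitting subgroup, which is normal), F(G) has nilpotency class at most 2, and G is metabelian. -/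
theorem result {G : Type*} [Group G] [Finite G]
    (h : ∀ x : G, Squarefree (Subgroup.centralizer ({x} : Set G)).index) :
    Cfsg.IsSupersolvable G ∧ (Cfsg.fittingSubgroup G).Normal ∧
    (∀ _h : (Cfsg.fittingSubgroup G).Normal, IsCyclic (G ⧸ Cfsg.fittingSubgroup G) ∧ Squarefree (Cfsg.fittingSubgroup G).index) ∧
    IsCyclic (commutator G) ∧ Squarefree (Nat.card (commutator G)) ∧
    Subgroup.upperCentralSeries ↥(Cfsg.fittingSubgroup G) 2 = ⊤ ∧ commutator ↥(commutator G) = ⊥ := by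
  obtain ⟨hG'F, ⟨x, hx⟩, hF2⟩ := structure_fitting h
  have hFn : (Cfsg.fittingSubgroup G).Normal := Cfsg.Lib.Core.fittingSubgroup_normal' G
  have hsf := squarefree_derived h
  haveI hnil : Group.IsNilpotent (commutator G) := Cfsg.Lib.Core.isNilpotent_of_le hG'F
    (Cfsg.Lib.Core.fittingSubgroup_isNilpotent G)
  haveI : IsZGroup (commutator G) := IsZGroup.of_squarefree hsf
  haveI hcyc : IsCyclic (commutator G) := inferInstance
  refine ⟨?_, hFn, ?_, hcyc, hsf, ?_, ?_⟩
  · refine Cfsg.Lib.Supersolvable.of_quotient (commutator G)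
      (isSupersolvable_of_comm _ _ rfl fun a b => ?_)
    obtain ⟨a, rfl⟩ := QuotientGroup.mk_surjective a
    obtain ⟨b, rfl⟩ := QuotientGroup.mk_surjective b
    rw [← QuotientGroup.mk_mul, ← QuotientGroup.mk_mul, QuotientGroup.eq]
    have := Subgroup.commutator_mem_commutator (Subgroup.mem_top b⁻¹) (Subgroup.mem_top a⁻¹)
      (H₁ := (⊤ : Subgroup G)) (H₂ := (⊤ : Subgroup G))
    rw [← _root_.commutator_def] at this
    simpa [commutatorElement_def, mul_assoc] using this
  · intro _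
    have hdvd : (Cfsg.fittingSubgroup G).index ∣ (Subgroup.centralizer ({x} : Set G)).index :=
      Subgroup.index_dvd_of_le hx
    have hs : Squarefree (Cfsg.fittingSubgroup G).index := Squarefree.squarefree_of_dvd hdvd (h x)
    refine ⟨?_, hs⟩
    haveI : IsZGroup (G ⧸ Cfsg.fittingSubgroup G) := IsZGroup.of_squarefree hs
    haveI : IsMulCommutative (G ⧸ Cfsg.fittingSubgroup G) :=
      (Subgroup.Normal.quotient_commutative_iff_commutator_le).mpr hG'F
    haveI : Group.IsNilpotent (G ⧸ Cfsg.fittingSubgroup G) :=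
      Cfsg.Lib.Core.isNilpotent_of_isMulCommutative _
    infer_instance
  · rw [eq_top_iff]
    intro a _
    rw [Subgroup.mem_upperCentralSeries_succ_iff]
    intro b
    rw [Subgroup.upperCentralSeries_one, Subgroup.mem_center_iff]
    intro c
    have hc := Subgroup.mem_center_iff.mp (hF2 a a.2 b b.2) (c : G)
    exact Subtype.ext hc
  · rw [commutator_eq_bot_iff_center_eq_top]
    haveI := hcyc
    exact (Subgroup.eq_top_iff' _).mpr fun a =>
      Subgroup.mem_center_iff.mpr fun b => IsMulCommutative.is_comm.comm b a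

end Cfsg.Agent.S4130
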