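import Cfsg.Statements.S4135
import Cfsg.Agent.Lib.Fusion.TwoIndicesCore
import Cfsg.Agent.Lib.PGroup.Basic

set_option linter.style.haveILetI false

set_option autoImplicit false
open Cfsg

namespace Cfsg.Agent.S4135


open Subgroup
open scoped commutatorElement IsMulCommutative
open Cfsg.Agent.S4314 (cen mem_cen center_le_cen sylow_le_center cen_mul_le)

theorem relIndex_dvd_index_normal {G : Type*} [Group G] [Finite G] (C N : Subgroup G) [N.Normal] :
    C.relIndex N ∣ C.index := by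
  have h1 := relIndex_mul_relIndex (C ⊓ N) C (C ⊔ N) inf_le_left le_sup_left
  have h2 := relIndex_mul_relIndex (C ⊓ N) N (C ⊔ N) inf_le_right le_sup_right
  rw [inf_relIndex_left] at h1
  rw [inf_relIndex_right, relIndex_sup_right, ← h1, mul_comm] at h2
  have hpos : 0 < N.relIndex C := Nat.pos_of_ne_zero index_ne_zero_of_finite
  have h3 : C.relIndex (C ⊔ N) = C.relIndex N := (Nat.eq_of_mul_eq_mul_left hpos h2).symm
  rw [← h3]
  exact relIndex_dvd_index_of_le le_sup_left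

/-- Every `p`-element lies in a normal subgroup containing a Sylow `p`-subgroup. -/
theorem mem_of_sylow_le {G : Type*} [Group G] [Finite G] {p : ℕ} [Fact p.Prime] {N : Subgroup G}
    [hN : N.Normal] {R : Sylow p G} (hR : (R : Subgroup G) ≤ N) {w : G} {i : ℕ} (hw : w ^ p ^ i = 1) :
    w ∈ N := by
  obtain ⟨Q, hQ⟩ := (IsPGroup.of_card_dvd_pow (p := p) (n := i) (G := zpowers w) (by
    rw [Nat.card_zpowers]; exact orderOf_dvd_of_pow_eq_one hw)).exists_le_sylow
  obtain ⟨g, hg⟩ := MulAction.exists_smul_eq G R Q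
  have hwQ := hQ (mem_zpowers w)
  rw [← hg, Sylow.coe_subgroup_smul] at hwQ
  obtain ⟨u, hu, rfl⟩ := hwQ
  exact hN.conj_mem u (hR hu) g

section
variable {G : Type*} [Group G] [Finite G] {N : Subgroup G} [N.Normal] {m : ℕ}
  (hn : ∀ x ∈ N, x ∉ center G → (cen x).index = m)
include hn

omit [N.Normal] in
theorem cen_eq {x y : G} (hxN : x ∈ N) (hx : x ∉ center G) (hyN : y ∈ N) (hy : y ∉ center G)
    (hle : cen x ≤ cen y) : cen x = cen y := by
  refine le_antisymm hle ?_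
  have h1 : (cen x).relIndex (cen y) * (cen y).index = (cen x).index := relIndex_mul_index hle
  rw [hn x hxN hx, hn y hyN hy] at h1
  have hpos : 0 < m := hn x hxN hx ▸ Nat.pos_of_ne_zero index_ne_zero_of_finite
  exact relIndex_eq_one.mp ((Nat.mul_eq_right hpos.ne').mp h1)

omit [N.Normal] in
theorem cen_le_of_coprime {x y : G} (hxN : x ∈ N) (hx : x ∉ center G) (hyN : y ∈ N)
    (hc : Commute x y) {p q i j : ℕ} (hp : p.Prime) (hq : q.Prime) (hpq : p ≠ q)
    (hxp : x ^ p ^ i = 1) (hyq : y ^ q ^ j = 1) : cen x ≤ cen y := by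
  have hco : (orderOf x).Coprime (orderOf y) :=
    ((((Nat.coprime_primes hp hq).mpr hpq).pow i j).coprime_dvd_left
      (orderOf_dvd_of_pow_eq_one hxp)).coprime_dvd_right (orderOf_dvd_of_pow_eq_one hyq)
  have hle := cen_mul_le hc hco
  have hxy : x * y ∉ center G := fun h => hx (mem_center_iff.mpr fun g =>
    (mem_cen.mp (hle (mem_cen.mpr (mem_center_iff.mp h g).symm)).1).symm)
  rw [← cen_eq hn (N.mul_mem hxN hyN) hxy hxN hx (hle.trans inf_le_left)]
  exact hle.trans inf_le_right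

/-- A prime not dividing the class size, with a non-central element in `N`. -/
theorem nilpotent_of_not_dvd {l : ℕ} [hl : Fact l.Prime] (hlm : ¬ l ∣ m) {v : G} (hvN : v ∈ N)
    (hvZ : v ∉ center G) {k : ℕ} (hvk : v ^ l ^ k = 1) : Group.IsNilpotent N := by
  classical
  have hidx : ∀ x : N, ¬ l ∣ (cen x).index := by
    intro x hd
    have hsub : cen x = (cen (x : G)).subgroupOf N := by
      ext u
      show u ∈ cen x ↔ (u : G) ∈ cen (x : G)
      rw [mem_cen, mem_cen]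
      exact ⟨fun h' => congrArg Subtype.val h', fun h' => Subtype.ext h'⟩
    rw [hsub] at hd
    have hd' := hd.trans (relIndex_dvd_index_normal (cen (x : G)) N)
    by_cases hxZ : (x : G) ∈ center G
    · rw [index_eq_one.mpr (eq_top_iff.mpr fun g _ => mem_cen.mpr (mem_center_iff.mp hxZ g).symm)] at hd'
      exact hl.out.one_lt.ne' (Nat.dvd_one.mp hd')
    · exact hlm (hn x x.2 hxZ ▸ hd')
  have hlc : ∀ (w : N) (i : ℕ), w ^ l ^ i = 1 → w ∈ center N := fun w i hw => by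
    obtain ⟨S, hS⟩ := (IsPGroup.of_card_dvd_pow (p := l) (n := i) (G := zpowers w) (by
      rw [Nat.card_zpowers]; exact orderOf_dvd_of_pow_eq_one hw)).exists_le_sylow
    exact sylow_le_center S hidx (hS (mem_zpowers w))
  have hv' : (⟨v, hvN⟩ : N) ∈ center N := hlc _ k (Subtype.ext hvk)
  have hall : ∀ g : N, g ∈ center N := by
    intro g
    refine Cfsg.Lib.Fusion.induction_parts g (Q := fun w => w ∈ center N) ?_ fun a _ b _ => mul_mem
    intro w _ e i he hw
    have hwe : w ^ e ^ i = 1 := hw ▸ pow_orderOf_eq_one w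
    by_cases hel : e = l
    · exact hlc w i (hel ▸ hwe)
    refine mem_center_iff.mpr fun u => Subtype.ext ?_
    have hle := cen_le_of_coprime hn hvN hvZ w.2
      (congrArg Subtype.val (mem_center_iff.mp hv' w)).symm hl.out he (Ne.symm hel) hvk
      (congrArg Subtype.val hwe)
    have hu : (u : G) ∈ cen v :=
      mem_cen.mpr (congrArg Subtype.val (mem_center_iff.mp hv' u)).symm
    exact (mem_cen.mp (hle hu)).symm
  letI : CommGroup N := { (inferInstance : Group N) with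
    mul_comm := fun a b => mem_center_iff.mp (hall b) a }
  infer_instance

/-- Two primes with non-central elements in `N` cannot both divide the class size. -/
theorem two_primes_false {r p : ℕ} [hr : Fact r.Prime] [hp : Fact p.Prime] (hrp : r ≠ p)
    (R : Sylow r G) (hRN : (R : Subgroup G) ≤ N) (hR : ¬ (R : Subgroup G) ≤ center G)
    (hrm : r ∣ m) (hpm : p ∣ m) {w : G} (hwN : w ∈ N) (hwZ : w ∉ center G) {iw : ℕ}
    (hwk : w ^ p ^ iw = 1) : False := by
  classical
  obtain ⟨P₀, hP₀⟩ := (IsPGroup.of_card_dvd_pow (p := p) (n := iw) (G := zpowers w) (by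
    rw [Nat.card_zpowers]; exact orderOf_dvd_of_pow_eq_one hwk)).exists_le_sylow
  set Z₀ := (center G).subgroupOf (P₀ : Subgroup G) with hZ₀
  set N₀ := N.subgroupOf (P₀ : Subgroup G) with hN₀
  set π₀ := QuotientGroup.mk' Z₀ with hπ₀
  have hq0 : IsPGroup p ((P₀ : Subgroup G) ⧸ Z₀) := P₀.2.to_quotient Z₀
  haveI : N₀.Normal := inferInstance
  haveI : (N₀.map π₀).Normal :=
    (inferInstance : N₀.Normal).map _ (QuotientGroup.mk'_surjective Z₀)
  have hne : N₀.map π₀ ≠ ⊥ := by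
    intro h
    have hmem : (⟨w, hP₀ (mem_zpowers w)⟩ : (P₀ : Subgroup G)) ∈ N₀ := mem_subgroupOf.mpr hwN
    have h1 := h ▸ mem_map_of_mem π₀ hmem
    exact hwZ (mem_subgroupOf.mp ((QuotientGroup.eq_one_iff _).mp (mem_bot.mp h1)))
  set T := N₀.map π₀ ⊓ center ((P₀ : Subgroup G) ⧸ Z₀) with hT
  have hTne : T ≠ ⊥ := Cfsg.Lib.PGroup.inf_center_ne_bot hq0 hne
  haveI : Nontrivial T := (Subgroup.nontrivial_iff_ne_bot T).mpr hTne
  obtain ⟨⟨ξ, hξT⟩, hξ⟩ : ∃ ξ : T, orderOf ξ = p := by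
    refine exists_prime_orderOf_dvd_card' p ?_
    obtain ⟨a, ha⟩ := IsPGroup.iff_card.mp (hq0.to_subgroup T)
    rw [ha]
    refine dvd_pow_self p fun h => ?_
    rw [h, pow_zero] at ha
    exact (Finite.one_lt_card (α := T)).ne' ha
  rw [Subgroup.orderOf_mk] at hξ
  obtain ⟨⟨x', hx'N, hx'ξ⟩, hξc⟩ := hξT
  set x := (x' : G) with hxdef
  have hxN : x ∈ N := mem_subgroupOf.mp hx'N
  rw [← hx'ξ] at hξ hξc
  have hxZ : x ∉ center G := fun h => by
    rw [hπ₀, QuotientGroup.mk'_apply, (QuotientGroup.eq_one_iff x').mpr h, orderOf_one] at hξ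
    exact hp.out.ne_one hξ.symm
  have hxp : x ^ p ∈ center G := by
    have h1 := pow_orderOf_eq_one (π₀ x')
    rw [hξ, ← map_pow, hπ₀, QuotientGroup.mk'_apply, QuotientGroup.eq_one_iff] at h1
    exact h1
  have hxg : ∀ g ∈ (P₀ : Subgroup G), ⁅g, x⁆ ∈ center G := by
    intro g hg
    have h1 := mem_center_iff.mp hξc (π₀ ⟨g, hg⟩)
    rw [← commutatorElement_eq_one_iff_mul_comm, ← map_commutatorElement, hπ₀,
      QuotientGroup.mk'_apply, QuotientGroup.eq_one_iff, hZ₀, mem_subgroupOf] at h1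
    exact h1
  obtain ⟨k, hxk⟩ := P₀.2 x'
  replace hxk : x ^ p ^ k = 1 := congrArg Subtype.val hxk
  set C := cen x with hC
  -- a non-central `r`-element in `C`
  obtain ⟨y₀, hy₀R, hy₀Z⟩ := SetLike.not_le_iff_exists.mp hR
  obtain ⟨y, hyC, hyZ, l, hyl⟩ : ∃ y ∈ C, y ∉ center G ∧ ∃ l, y ^ r ^ l = 1 := by
    by_contra! hall
    obtain ⟨Q⟩ : Nonempty (Sylow r C) := inferInstance
    set Qx := (Q : Subgroup C).map C.subtype with hQx
    have hQxp : IsPGroup r Qx := Q.2.map _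
    have hQxZ : Qx ≤ center G := by
      intro u hu
      by_contra huZ
      obtain ⟨i, hi⟩ := hQxp ⟨u, hu⟩
      exact hall u (map_subtype_le _ hu) huZ i (congrArg Subtype.val hi)
    haveI : Qx.Normal := ⟨fun u hu g => by
      rw [mem_center_iff.mp (hQxZ hu) g, mul_inv_cancel_right]; exact hu⟩
    have hTp : IsPGroup r (Qx ⊔ zpowers y₀ : Subgroup G) :=
      hQxp.to_sup_of_normal_left (R.2.to_le (zpowers_le.mpr hy₀R))
    have hTle : (Qx ⊔ zpowers y₀ : Subgroup G) ≤ cen y₀ :=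
      sup_le (hQxZ.trans (center_le_cen y₀)) (zpowers_le.mpr (mem_cen.mpr rfl))
    obtain ⟨j, hj⟩ := IsPGroup.iff_card.mp hTp
    have hcards : Nat.card (cen y₀) = Nat.card C := by
      have h1 := C.card_mul_index
      have h2 := (cen y₀).card_mul_index
      rw [hn x hxN hxZ] at h1
      rw [hn y₀ (hRN hy₀R) hy₀Z, ← h1] at h2
      exact Nat.eq_of_mul_eq_mul_right (hn x hxN hxZ ▸ Nat.pos_of_ne_zero index_ne_zero_of_finite) h2
    have hdvd : r ^ j ∣ Nat.card (Q : Subgroup C) := by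
      refine Q.pow_dvd_card_of_pow_dvd_card ?_
      rw [← hj, ← hcards]
      exact card_dvd_of_le hTle
    have hQcard : Nat.card Qx = Nat.card (Q : Subgroup C) :=
      card_map_of_injective C.subtype_injective
    have heq : Qx = Qx ⊔ zpowers y₀ := eq_of_le_of_card_ge le_sup_left (by
      rw [hj, hQcard]; exact Nat.le_of_dvd Nat.card_pos hdvd)
    exact hy₀Z (hQxZ (heq ▸ mem_sup_right (mem_zpowers y₀)))
  have hyN : y ∈ N := mem_of_sylow_le hRN hyl
  have hCy : C = cen y := cen_eq hn hxN hxZ hyN hyZ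
    (cen_le_of_coprime hn hxN hxZ hyN (mem_cen.mp hyC) hp.out hr.out hrp.symm hxk hyl)
  -- `C` centralizes `N ⊓ C`
  have hCD : ∀ c ∈ C, ∀ d ∈ N ⊓ C, c * d = d * c := by
    intro c hc d hd
    refine Cfsg.Lib.Fusion.induction_parts d (Q := fun u => c * u = u * c) ?_ ?_
    · intro u hu e i he hue
      have hu' : u ^ e ^ i = 1 := hue ▸ pow_orderOf_eq_one u
      have huD : u ∈ N ⊓ C := zpowers_le.mpr hd hu
      have hle : C ≤ cen u := by
        by_cases hep : e = p
        · rw [hCy]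
          exact cen_le_of_coprime hn hyN hyZ huD.1 (mem_cen.mp (hCy ▸ huD.2)) hr.out he
            (hep ▸ hrp) hyl hu'
        · exact cen_le_of_coprime hn hxN hxZ huD.1 (mem_cen.mp huD.2) hp.out he (Ne.symm hep) hxk hu'
      exact (mem_cen.mp (hle hc)).symm
    · intro a _ b _ iha ihb
      exact Commute.mul_right (show Commute c a from iha) ihb
  have hcenD : ∀ d ∈ N ⊓ C, d ∉ center G → cen d = C := fun d hd hdZ =>
    (cen_eq hn hxN hxZ hd.1 hdZ fun c hc => mem_cen.mpr (hCD c hc d hd).symm).symm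
  have hconj : ∀ g : G, ∀ d ∈ N ⊓ C, d ∉ center G → g * d * g⁻¹ ∈ C → ∀ u ∈ C, g * u * g⁻¹ ∈ C := by
    intro g d hd hdZ hgd u hu
    have hne : g * d * g⁻¹ ∉ center G := fun h => hdZ (by
      have := (inferInstance : (center G).Normal).conj_mem _ h g⁻¹
      simpa [mul_assoc] using this)
    have hgN : g * d * g⁻¹ ∈ N := (inferInstance : N.Normal).conj_mem d hd.1 g
    rw [← hcenD _ ⟨hgN, hgd⟩ hne, mem_cen]
    have hud : d * u = u * d := (hCD u hu d hd).symm
    calc (g * d * g⁻¹) * (g * u * g⁻¹) = g * (d * u) * g⁻¹ := by group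
      _ = _ := by rw [hud]; group
  have hxD : x ∈ N ⊓ C := ⟨hxN, mem_cen.mpr rfl⟩
  have hyD : y ∈ N ⊓ C := ⟨hyN, hyC⟩
  set K := normalizer (C : Set G) with hK
  have hPK : (P₀ : Subgroup G) ≤ K := by
    have hmv : ∀ g ∈ (P₀ : Subgroup G), ∀ u ∈ C, g * u * g⁻¹ ∈ C := by
      intro g hg u hu
      refine hconj g x hxD hxZ ?_ u hu
      rw [show g * x * g⁻¹ = ⁅g, x⁆ * x by rw [commutatorElement_def]; group]
      exact C.mul_mem (center_le_cen x (hxg g hg)) hxD.2
    intro g hg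
    refine mem_normalizer_iff.mpr fun u => ⟨hmv g hg u, fun h => ?_⟩
    have := hmv g⁻¹ (inv_mem hg) _ h
    simpa [mul_assoc] using this
  -- an `r`-element in the normalizer of `C` but not in `C`
  obtain ⟨QC⟩ : Nonempty (Sylow r C) := inferInstance
  set Q₀ := (QC : Subgroup C).map C.subtype with hQ₀
  have hQ₀C : Q₀ ≤ C := map_subtype_le _
  have hmemQ₀ : ∀ c ∈ C, ∀ i : ℕ, c ^ r ^ i = 1 → c ∈ Q₀ := by
    intro c hc i hci
    have hz : IsPGroup r (zpowers (⟨c, hc⟩ : C)) := IsPGroup.of_card_dvd_pow (by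
      rw [Nat.card_zpowers]
      exact orderOf_dvd_of_pow_eq_one (Subtype.ext hci))
    have hcD : c ∈ N ⊓ C := ⟨mem_of_sylow_le hRN hci, hc⟩
    haveI : (zpowers (⟨c, hc⟩ : C)).Normal := ⟨fun u hu g => by
      obtain ⟨j, rfl⟩ := mem_zpowers_iff.mp hu
      have hgc : Commute g (⟨c, hc⟩ : C) := Subtype.ext (hCD g g.2 c hcD)
      rw [(hgc.zpow_right j).eq, mul_inv_cancel_right]
      exact zpow_mem (mem_zpowers _) j⟩
    have heq := QC.is_maximal' (QC.2.to_sup_of_normal_right hz) le_sup_left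
    exact mem_map.mpr ⟨⟨c, hc⟩, heq ▸ mem_sup_right (mem_zpowers _), rfl⟩
  have hQ₀q : IsPGroup r Q₀ := QC.2.map _
  obtain ⟨Q, hQ⟩ := hQ₀q.exists_le_sylow
  have hlt : Q₀.subgroupOf (Q : Subgroup G) < ⊤ := by
    rw [lt_top_iff_ne_top, Ne, subgroupOf_eq_top]
    exact fun h => Q.not_dvd_index
      ((hn x hxN hxZ ▸ hrm : r ∣ C.index).trans (index_dvd_of_le (h.trans hQ₀C)))
  have hnc := Group.normalizerCondition_of_isNilpotent (h := Q.2.isNilpotent) _ hlt
  obtain ⟨t, htN, htQ⟩ := SetLike.exists_of_lt hnc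
  rw [mem_subgroupOf] at htQ
  obtain ⟨i, hti⟩ := Q.2 t
  replace hti : (t : G) ^ r ^ i = 1 := congrArg Subtype.val hti
  have htC : (t : G) ∉ C := fun h => htQ (hmemQ₀ _ h i hti)
  have hyQ : y ∈ Q₀ := hmemQ₀ y hyC l hyl
  have htK : (t : G) ∈ K := by
    refine mem_normalizer_iff.mpr fun u => ⟨fun hu => ?_, fun hu => ?_⟩
    · exact hconj t y hyD hyZ
        (hQ₀C (mem_subgroupOf.mp ((mem_normalizer_iff.mp htN ⟨y, hQ hyQ⟩).mp (mem_subgroupOf.mpr hyQ)))) u hu
    · have := hconj (t : G)⁻¹ y hyD hyZ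
        (hQ₀C (mem_subgroupOf.mp ((mem_normalizer_iff.mp (inv_mem htN) ⟨y, hQ hyQ⟩).mp
          (mem_subgroupOf.mpr hyQ)))) _ hu
      simpa [mul_assoc] using this
  have hCK : C ≤ K := le_normalizer
  haveI : (C.subgroupOf K).Normal := normal_in_normalizer
  haveI : ((N ⊓ C).subgroupOf K).Normal := ⟨fun u hu g => mem_subgroupOf.mpr
    ⟨(inferInstance : N.Normal).conj_mem _ (mem_subgroupOf.mp hu).1 g,
      (mem_normalizer_iff.mp g.2 _).mp (mem_subgroupOf.mp hu).2⟩⟩
  haveI : IsMulCommutative ((N ⊓ C).subgroupOf K) := ⟨⟨fun a b => Subtype.ext (Subtype.ext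
    (hCD _ (mem_subgroupOf.mp a.2).2 _ (mem_subgroupOf.mp b.2)))⟩⟩
  have hdvd : ∀ (e : ℕ), e.Prime → ∀ g : G, g ∈ K → g ∉ C → ∀ i : ℕ, g ^ e ^ i = 1 →
      e ∣ (C.subgroupOf K).index := by
    intro e he g hgK hgC i hgi
    set u := QuotientGroup.mk' (C.subgroupOf K) ⟨g, hgK⟩ with hu
    have hu1 : u ≠ 1 := fun h => hgC (mem_subgroupOf.mp ((QuotientGroup.eq_one_iff _).mp h))
    have hud : orderOf u ∣ e ^ i := by
      refine orderOf_dvd_of_pow_eq_one ?_
      rw [hu, ← map_pow, show (⟨g, hgK⟩ : K) ^ e ^ i = 1 from Subtype.ext hgi, map_one]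
    obtain ⟨a, -, ha⟩ := (Nat.dvd_prime_pow he).mp hud
    rw [index_eq_card]
    refine dvd_trans ?_ (orderOf_dvd_natCard u)
    rw [ha]
    exact dvd_pow_self e fun h0 => hu1 (orderOf_eq_one_iff.mp (by rw [ha, h0, pow_zero]))
  obtain ⟨g₁, hg₁P, hg₁C⟩ : ∃ g ∈ (P₀ : Subgroup G), g ∉ C := by
    by_contra! hall
    exact P₀.not_dvd_index ((hn x hxN hxZ ▸ hpm : p ∣ C.index).trans (index_dvd_of_le hall))
  obtain ⟨i₁, hi₁⟩ := P₀.2 ⟨g₁, hg₁P⟩
  exact Cfsg.Lib.Fusion.TwoIndices.no_configuration ((center G).subgroupOf K) (C.subgroupOf K)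
    ((N ⊓ C).subgroupOf K)
    (fun c hc d hd => Subtype.ext (hCD _ (mem_subgroupOf.mp hc) _ (mem_subgroupOf.mp hd)))
    (fun z hz => mem_center_iff.mpr fun g => Subtype.ext (mem_center_iff.mp (mem_subgroupOf.mp hz) g))
    (fun u hu d hd hud => by
      rw [mem_subgroupOf] at hu hd ⊢
      by_contra hdZ
      exact hu (by
        rw [← hcenD _ hd hdZ]
        exact mem_cen.mpr (congrArg Subtype.val hud).symm))
    hrp (P₀.subtype hPK) (x := ⟨x, hPK x'.2⟩) (y := ⟨y, hCK hyC⟩)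
    (mem_subgroupOf.mpr hxD) (fun h => hxZ (mem_subgroupOf.mp h))
    (k := k) (Subtype.ext hxk) (mem_subgroupOf.mpr hxp)
    (fun g hg => mem_subgroupOf.mpr (hxg g (by rw [Sylow.coe_subtype, mem_subgroupOf] at hg; exact hg)))
    (mem_subgroupOf.mpr hyD) (fun h => hyZ (mem_subgroupOf.mp h)) (l := l) (Subtype.ext hyl)
    (hdvd p hp.out g₁ (hPK hg₁P) hg₁C i₁ (congrArg Subtype.val hi₁))
    (hdvd r hr.out t htK htC i hti)

end
/-- Let G be a finite group, r a prime and R a Sylow r-subgroup of G that is not central, N a normal subgroup of G containing R, and m a natural number such that every element of N has a conjugacy class in G of size 1 or m. Then N is nilpotent. -/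
theorem result {G : Type*} [Group G] [Finite G] (r : ℕ) [Fact r.Prime]
    (R : Sylow r G) (hR : ¬ (R : Subgroup G) ≤ Subgroup.center G) (N : Subgroup G) [N.Normal] (hRN : (R : Subgroup G) ≤ N)
    (m : ℕ) (h : ∀ x ∈ N, (Subgroup.centralizer ({x} : Set G)).index = 1 ∨ (Subgroup.centralizer ({x} : Set G)).index = m) : Group.IsNilpotent N := by

  classical
  have hn : ∀ x ∈ N, x ∉ center G → (cen x).index = m := fun x hx hxZ =>
    (h x hx).resolve_left fun h1 => hxZ (Cfsg.Agent.S4314.mem_center_of_index h1)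
  obtain ⟨y₀, hy₀R, hy₀Z⟩ := SetLike.not_le_iff_exists.mp hR
  obtain ⟨i₀, hi₀⟩ := R.2 ⟨y₀, hy₀R⟩
  by_cases hrm : r ∣ m
  swap
  · exact nilpotent_of_not_dvd hn hrm (hRN hy₀R) hy₀Z (congrArg Subtype.val hi₀)
  by_cases hex : ∃ (l : ℕ) (w : G) (i : ℕ), l.Prime ∧ l ≠ r ∧ w ∈ N ∧ w ∉ center G ∧ w ^ l ^ i = 1
  · obtain ⟨l, w, i, hl, hlr, hwN, hwZ, hw⟩ := hex
    haveI : Fact l.Prime := ⟨hl⟩
    by_cases hlm : l ∣ m
    · exact (two_primes_false hn hlr.symm R hRN hR hrm hlm hwN hwZ hw).elim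
    · exact nilpotent_of_not_dvd hn hlm hwN hwZ hw
  push Not at hex
  refine Group.of_quotient_center_nilpotent (IsPGroup.isNilpotent (p := r) fun q => ?_)
  obtain ⟨g, rfl⟩ := QuotientGroup.mk_surjective q
  have hP : ∃ k, g ^ r ^ k ∈ center N := by
    refine Cfsg.Lib.Fusion.induction_parts g (Q := fun w => ∃ k, w ^ r ^ k ∈ center N) ?_ ?_
    · intro w _ e i he hw
      have hwe : w ^ e ^ i = 1 := hw ▸ pow_orderOf_eq_one w
      by_cases her : e = r
      · exact ⟨i, by rw [← her, hwe]; exact one_mem _⟩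
      refine ⟨0, ?_⟩
      rw [pow_zero, pow_one]
      have hwZ : (w : G) ∈ center G := by
        by_contra hwZ
        exact hex e (w : G) i he her w.2 hwZ (congrArg Subtype.val hwe)
      exact mem_center_iff.mpr fun u => Subtype.ext (mem_center_iff.mp hwZ u)
    · rintro a ha b hb ⟨k, hk⟩ ⟨k', hk'⟩
      obtain ⟨ja, rfl⟩ := mem_zpowers_iff.mp ha
      obtain ⟨jb, rfl⟩ := mem_zpowers_iff.mp hb
      refine ⟨k + k', ?_⟩
      rw [((Commute.refl g).zpow_zpow ja jb).mul_pow]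
      refine mul_mem ?_ ?_
      · rw [pow_add, pow_mul]; exact pow_mem hk _
      · rw [pow_add, mul_comm, pow_mul]; exact pow_mem hk' _
  obtain ⟨k, hk⟩ := hP
  exact ⟨k, by rw [← QuotientGroup.mk_pow]; exact (QuotientGroup.eq_one_iff _).mpr hk⟩

end Cfsg.Agent.S4135
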