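import Cfsg.Statements.S4138
import Mathlib
import Cfsg.Agent.Lib.Solv.Frobenius

set_option linter.style.haveILetI false

set_option autoImplicit false
open Cfsg

namespace Cfsg.Agent.S4138

open scoped Pointwise
open Cfsg.Lib.Solv

section
variable {G : Type*} [Group G]

noncomputable abbrev idx (x : G) : ℕ := (Subgroup.centralizer ({x} : Set G)).index

theorem mem_cent {x g : G} : g ∈ Subgroup.centralizer ({x} : Set G) ↔ Commute x g := by
  simp [Subgroup.mem_centralizer_iff, Commute, SemiconjBy]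

theorem idx_eq_one {x : G} : idx x = 1 ↔ x ∈ Subgroup.center G := by
  rw [idx, Subgroup.index_eq_one, Subgroup.centralizer_eq_top_iff_subset, Set.singleton_subset_iff]
  rfl

theorem center_commute {z : G} (hz : z ∈ Subgroup.center G) (g : G) : Commute z g :=
  (Subgroup.mem_center_iff.1 hz g).symm

theorem center_le_cent (x : G) : Subgroup.center G ≤ Subgroup.centralizer ({x} : Set G) :=
  fun _ hz => mem_cent.2 (center_commute hz x).symm

theorem cent_le_pow (x : G) (k : ℕ) :
    Subgroup.centralizer ({x} : Set G) ≤ Subgroup.centralizer ({x ^ k} : Set G) :=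
  fun g hg => mem_cent.2 ((mem_cent.1 hg).pow_left k)

/-- The subgroup generated by the commutators `[a, g]`. -/
def nSub (a : G) : Subgroup G := Subgroup.closure (Set.range fun g : G => a⁻¹ * (g * a * g⁻¹))

theorem mem_nSub (a g : G) : a⁻¹ * (g * a * g⁻¹) ∈ nSub a := Subgroup.subset_closure ⟨g, rfl⟩

instance nSub_normal (a : G) : (nSub a).Normal := by
  refine ⟨fun x hx g => ?_⟩
  induction hx using Subgroup.closure_induction with
  | mem x hx =>
    obtain ⟨h, rfl⟩ := hx
    have : g * (a⁻¹ * (h * a * h⁻¹)) * g⁻¹ =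
        (a⁻¹ * (g * a * g⁻¹))⁻¹ * (a⁻¹ * (g * h * a * (g * h)⁻¹)) := by group
    rw [this]
    exact mul_mem (inv_mem (mem_nSub a g)) (mem_nSub a (g * h))
  | one => simp [one_mem]
  | mul x y _ _ hx hy =>
    have : g * (x * y) * g⁻¹ = g * x * g⁻¹ * (g * y * g⁻¹) := by group
    rw [this]; exact mul_mem hx hy
  | inv x _ hx =>
    have : g * x⁻¹ * g⁻¹ = (g * x * g⁻¹)⁻¹ := by group
    rw [this]; exact inv_mem hx

theorem mem_nSub' (a h : G) : a * (h * a⁻¹ * h⁻¹) ∈ nSub a := by
  have : a * (h * a⁻¹ * h⁻¹) = a * (a⁻¹ * (h * a * h⁻¹))⁻¹ * a⁻¹ := by group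
  rw [this]
  exact (nSub_normal a).conj_mem _ (inv_mem (mem_nSub a h)) a

variable [Finite G]

theorem idx_pos (x : G) : 0 < idx x := Nat.pos_of_ne_zero Subgroup.index_ne_zero_of_finite

theorem exists_sylow_cent (p : ℕ) [Fact p.Prime] {x : G} (hx : ¬ p ∣ idx x) :
    ∃ P : Sylow p G, (P : Subgroup G) ≤ Subgroup.centralizer ({x} : Set G) := by
  set C := Subgroup.centralizer ({x} : Set G)
  obtain ⟨Q⟩ : Nonempty (Sylow p C) := inferInstance
  have hcard : Nat.card ((Q : Subgroup C).map C.subtype) = p ^ (Nat.card G).factorization p := by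
    rw [Subgroup.card_map_of_injective C.subtype_injective, Sylow.card_eq_multiplicity,
      ← C.card_mul_index, Nat.factorization_mul Nat.card_pos.ne' C.index_ne_zero_of_finite,
      Finsupp.add_apply, Nat.factorization_eq_zero_of_not_dvd hx, add_zero]
  exact ⟨Sylow.ofCard _ hcard, Subgroup.map_subtype_le _⟩

/-- Two subgroups of coprime index cover the group. -/
theorem exists_mul_eq {A B : Subgroup G} (h : A.index.Coprime B.index) (g : G) :
    ∃ a ∈ A, ∃ b ∈ B, g = a * b := by
  have hrel : B.index ≤ B.relIndex A := by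
    have h1 : (A ⊓ B).index = (A ⊓ B).relIndex A * A.index :=
      (Subgroup.relIndex_mul_index inf_le_left).symm
    rw [Subgroup.inf_relIndex_left] at h1
    have h2 : A.index * B.index ∣ (A ⊓ B).index :=
      h.mul_dvd_of_dvd_of_dvd (Subgroup.index_dvd_of_le inf_le_left) (Subgroup.index_dvd_of_le inf_le_right)
    have h3 := Nat.le_of_dvd (Nat.pos_of_ne_zero Subgroup.index_ne_zero_of_finite) h2
    rw [h1, mul_comm A.index] at h3
    exact Nat.le_of_mul_le_mul_right h3 (Nat.pos_of_ne_zero Subgroup.index_ne_zero_of_finite)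
  have hsurj : Function.Surjective
      (Subgroup.quotientSubgroupOfEmbeddingOfLE B (le_top : A ≤ ⊤)) := by
    have hinj := (Subgroup.quotientSubgroupOfEmbeddingOfLE B (le_top : A ≤ ⊤)).injective
    refine ((Nat.bijective_iff_injective_and_card _).2
      ⟨hinj, le_antisymm (Nat.card_le_card_of_injective _ hinj) ?_⟩).2
    calc Nat.card (↥(⊤ : Subgroup G) ⧸ B.subgroupOf ⊤) = B.index := Subgroup.relIndex_top_right B
      _ ≤ _ := hrel
  obtain ⟨q, hq⟩ := hsurj (QuotientGroup.mk ⟨g, Subgroup.mem_top g⟩)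
  obtain ⟨⟨a, ha⟩, rfl⟩ := QuotientGroup.mk_surjective q
  rw [Subgroup.quotientSubgroupOfEmbeddingOfLE_apply_mk, QuotientGroup.eq, Subgroup.mem_subgroupOf] at hq
  exact ⟨a, ha, a⁻¹ * g, hq, by group⟩

theorem idx_mul_coprime {a b : G} (h : (idx a).Coprime (idx b)) :
    (Subgroup.centralizer ({a} : Set G) ⊓ Subgroup.centralizer ({b} : Set G)).index =
      idx a * idx b :=
  le_antisymm Subgroup.index_inf_le (Nat.le_of_dvd (Nat.pos_of_ne_zero Subgroup.index_ne_zero_of_finite)
    (h.mul_dvd_of_dvd_of_dvd (Subgroup.index_dvd_of_le inf_le_left) (Subgroup.index_dvd_of_le inf_le_right)))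

theorem cent_inf_le_mul (a b : G) :
    Subgroup.centralizer ({a} : Set G) ⊓ Subgroup.centralizer ({b} : Set G) ≤
      Subgroup.centralizer ({a * b} : Set G) :=
  fun _ hg => mem_cent.2 ((mem_cent.1 hg.1).mul_left (mem_cent.1 hg.2))

theorem card_class (b : G) : Nat.card {c : G | ∃ g : G, g * b * g⁻¹ = c} = idx b := by
  have h1 := MulAction.index_stabilizer (ConjAct G) b
  rw [← Nat.card_coe_set_eq] at h1
  rw [idx, Subgroup.centralizer_eq_comap_stabilizer]
  refine Eq.trans ?_ ((Subgroup.index_comap_of_surjective _ (f := ConjAct.toConjAct.toMonoidHom)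
    (ConjAct.toConjAct (G := G)).surjective).trans h1).symm
  refine Nat.card_congr (Equiv.setCongr ?_)
  ext c
  constructor
  · rintro ⟨g, rfl⟩; exact ⟨ConjAct.toConjAct g, rfl⟩
  · rintro ⟨g, rfl⟩; exact ⟨ConjAct.ofConjAct g, rfl⟩

/-- The product of two classes with coprime sizes is a class; hence the stabiliser. -/
theorem nSub_dvd {a b : G} (hcop : (idx a).Coprime (idx b)) (hle : idx (a * b) ≤ idx b) :
    Nat.card (nSub a) ∣ idx b := by
  set K : Set G := {c : G | ∃ g : G, g * b * g⁻¹ = c}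
  set L : Set G := {c : G | ∃ g : G, g * (a * b) * g⁻¹ = c}
  have pair : ∀ g h : G, g * a * g⁻¹ * (h * b * h⁻¹) ∈ L := by
    intro g h
    obtain ⟨c, hc, d, hd, he⟩ := exists_mul_eq hcop (g⁻¹ * h)
    refine ⟨g * c, ?_⟩
    have h1 : c * a * c⁻¹ = a := by rw [← (mem_cent.1 hc).eq, mul_inv_cancel_right]
    have h2 : d⁻¹ * b * d = b := by rw [mul_assoc, (mem_cent.1 hd).eq, inv_mul_cancel_left]
    have h3 : h = g * c * d := by rw [mul_assoc, ← he]; group
    rw [h3]
    calc g * c * (a * b) * (g * c)⁻¹ = g * (c * a * c⁻¹) * g⁻¹ * (g * c * b * c⁻¹ * g⁻¹) := by group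
      _ = g * a * g⁻¹ * (g * c * d * (d⁻¹ * b * d) * (g * c * d)⁻¹) := by rw [h1]; group
      _ = g * a * g⁻¹ * (g * c * d * b * (g * c * d)⁻¹) := by rw [h2]
  have hstab : ∀ g : G, ∀ k ∈ K, a⁻¹ * (g * a * g⁻¹) * k ∈ K := by
    intro g k hk
    have hf : Set.MapsTo (fun c => a * c) K L := by
      rintro c ⟨h, rfl⟩
      simpa using pair 1 h
    have hsurj : Function.Surjective hf.restrict := by
      refine ((Nat.bijective_iff_injective_and_card _).2 ⟨?_, le_antisymm ?_ ?_⟩).2
      · intro u v huv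
        exact Subtype.ext (mul_left_cancel (congrArg Subtype.val huv))
      · exact Nat.card_le_card_of_injective hf.restrict
          (fun u v huv => Subtype.ext (mul_left_cancel (congrArg Subtype.val huv)))
      · rw [card_class, card_class]; exact hle
    obtain ⟨h, rfl⟩ := hk
    obtain ⟨⟨c, hc⟩, hce⟩ := hsurj ⟨_, pair g h⟩
    have hce' : a * c = g * a * g⁻¹ * (h * b * h⁻¹) := congrArg Subtype.val hce
    rw [show a⁻¹ * (g * a * g⁻¹) * (h * b * h⁻¹) = c by
      rw [mul_assoc, ← hce', inv_mul_cancel_left]]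
    exact hc
  have hN : ∀ u ∈ nSub a, ∀ k ∈ K, u * k ∈ K := by
    intro u hu
    induction hu using Subgroup.closure_induction with
    | mem u hu => obtain ⟨g, rfl⟩ := hu; exact hstab g
    | one => intro k hk; rwa [one_mul]
    | mul u v _ _ hu hv => intro k hk; rw [mul_assoc]; exact hu _ (hv _ hk)
    | inv u _ hu =>
      intro k hk
      have hinj : Function.Injective (fun c : K => (⟨u * c.1, hu _ c.2⟩ : K)) := fun p q hpq =>
        Subtype.ext (mul_left_cancel (congrArg Subtype.val hpq))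
      obtain ⟨⟨c, hc⟩, hce⟩ := Finite.surjective_of_injective hinj ⟨k, hk⟩
      have : u * c = k := congrArg Subtype.val hce
      rwa [← this, inv_mul_cancel_left]
  have hpre : K = QuotientGroup.mk ⁻¹' ((QuotientGroup.mk : G → G ⧸ nSub a) '' K) := by
    ext c
    constructor
    · exact fun hc => ⟨c, hc, rfl⟩
    · rintro ⟨k, hk, hkc⟩
      have hu := (nSub_normal a).conj_mem _ (QuotientGroup.eq.1 hkc) k
      have := hN _ hu k hk
      simpa [mul_assoc] using this
  rw [← card_class b]
  show Nat.card (nSub a) ∣ Nat.card K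
  conv_rhs => rw [hpre]
  rw [Nat.card_congr (QuotientGroup.preimageMkEquivSubgroupProdSet _ _), Nat.card_prod]
  exact dvd_mul_right _ _

theorem card_mul_rel {H K : Subgroup G} (h : H ≤ K) :
    Nat.card H * H.relIndex K = Nat.card K := by
  rw [← Subgroup.relIndex_bot_left, ← Subgroup.relIndex_bot_left]
  exact Subgroup.relIndex_mul_relIndex _ _ _ bot_le h

theorem relIndex_eq_sup (C N : Subgroup G) [N.Normal] : C.relIndex N = C.relIndex (C ⊔ N) := by
  have h1 := card_mul_rel (le_sup_right : N ≤ C ⊔ N)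
  have h2 := card_mul_rel (le_sup_left : C ≤ C ⊔ N)
  have h3 := card_mul_rel (inf_le_left : C ⊓ N ≤ C)
  have h4 := card_mul_rel (inf_le_right : C ⊓ N ≤ N)
  rw [Subgroup.relIndex_sup_right] at h1
  rw [Subgroup.inf_relIndex_left] at h3
  rw [Subgroup.inf_relIndex_right] at h4
  refine Nat.eq_of_mul_eq_mul_left (Nat.card_pos (α := C)) ?_
  rw [h2, ← h1, ← h3, ← h4]
  ring

theorem nSub_le_cent {a : G} (h : (Nat.card (nSub a)).Coprime (idx a)) :
    nSub a ≤ Subgroup.centralizer ({a} : Set G) := by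
  have h1 : (Subgroup.centralizer ({a} : Set G)).relIndex (nSub a) ∣ Nat.card (nSub a) :=
    Subgroup.relIndex_dvd_card _ _
  have h2 : (Subgroup.centralizer ({a} : Set G)).relIndex (nSub a) ∣ idx a := by
    rw [relIndex_eq_sup]
    exact Subgroup.relIndex_dvd_index_of_le le_sup_left
  exact Subgroup.relIndex_eq_one.1 (Nat.eq_one_of_dvd_coprimes h h1 h2)

/-- Commuting elements of coprime orders. -/
theorem cent_mul_le {a b : G} (hab : Commute a b) (h : (orderOf a).Coprime (orderOf b)) :
    Subgroup.centralizer ({a * b} : Set G) ≤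
      Subgroup.centralizer ({a} : Set G) ⊓ Subgroup.centralizer ({b} : Set G) := by
  intro g hg
  have ha : (a * b) ^ orderOf b = a ^ orderOf b := by rw [hab.mul_pow, pow_orderOf_eq_one, mul_one]
  have hb : (a * b) ^ orderOf a = b ^ orderOf a := by rw [hab.mul_pow, pow_orderOf_eq_one, one_mul]
  obtain ⟨i, hi⟩ := exists_pow_eq_self_of_coprime (x := a) h.symm
  obtain ⟨j, hj⟩ := exists_pow_eq_self_of_coprime (x := b) h
  refine ⟨mem_cent.2 ?_, mem_cent.2 ?_⟩
  · rw [← hi, ← ha, ← pow_mul]; exact (mem_cent.1 hg).pow_left _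
  · rw [← hj, ← hb, ← pow_mul]; exact (mem_cent.1 hg).pow_left _

/-- A non-central element has a non-central primary part. -/
theorem exists_prime_part {g : G} (hg : g ∉ Subgroup.center G) :
    ∃ t : ℕ, t.Prime ∧ g ^ (ordCompl[t] (orderOf g)) ∉ Subgroup.center G := by
  by_contra hall
  push Not at hall
  apply hg
  set c := orderOf (QuotientGroup.mk' (Subgroup.center G) g)
  suffices c = 1 from (QuotientGroup.eq_one_iff g).1 (orderOf_eq_one_iff.1 this)
  by_contra hc
  obtain ⟨q, hq, hqc⟩ := Nat.exists_prime_and_dvd hc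
  have : c ∣ ordCompl[q] (orderOf g) := by
    refine orderOf_dvd_of_pow_eq_one ?_
    rw [← map_pow]
    exact (QuotientGroup.eq_one_iff (g ^ _)).2 (hall q hq)
  exact Nat.not_dvd_ordCompl hq (orderOf_pos g).ne' (hqc.trans this)

/-- If `h` conjugates `a` to `a * c` with central `c` of order prime to the index of `a`. -/
theorem cent_of_central_comm {a h c : G} (hc : c ∈ Subgroup.center G) (he : h * a * h⁻¹ = a * c)
    (hco : (orderOf c).Coprime (idx a)) : h ∈ Subgroup.centralizer ({a} : Set G) := by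
  set C := Subgroup.centralizer ({a} : Set G)
  have hCc : Subgroup.centralizer ({a * c} : Set G) = C := by
    ext g
    rw [mem_cent, mem_cent]
    exact ⟨fun hg => by simpa using hg.mul_left ((center_commute hc g).inv_left),
      fun hg => hg.mul_left (center_commute hc g)⟩
  have hnorm : h ∈ Subgroup.normalizer (C : Set G) := by
    rw [Subgroup.mem_normalizer_iff]
    intro k
    conv_rhs => rw [← hCc]
    rw [mem_cent, mem_cent, ← he]
    exact (Commute.conj_iff h).symm
  have hpow : ∀ i : ℕ, h ^ i * a * (h ^ i)⁻¹ = a * c ^ i := by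
    intro i
    induction i with
    | zero => simp
    | succ i ih =>
      calc h ^ (i + 1) * a * (h ^ (i + 1))⁻¹ = h * (h ^ i * a * (h ^ i)⁻¹) * h⁻¹ := by
            rw [pow_succ']; group
        _ = h * a * h⁻¹ * (h * c ^ i * h⁻¹) := by rw [ih]; group
        _ = a * c * c ^ i := by
            rw [he, (center_commute (pow_mem hc i) h).symm.eq, mul_inv_cancel_right]
        _ = a * c ^ (i + 1) := by rw [mul_assoc, pow_succ']
  have hmem : h ^ orderOf c ∈ C := by
    have := hpow (orderOf c)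
    rw [pow_orderOf_eq_one, mul_one, mul_inv_eq_iff_eq_mul] at this
    exact mem_cent.2 this.symm
  set M := Subgroup.normalizer (C : Set G)
  haveI : (C.subgroupOf M).Normal := Subgroup.normal_in_normalizer
  have h1 : orderOf (QuotientGroup.mk' (C.subgroupOf M) ⟨h, hnorm⟩) = 1 := by
    refine Nat.eq_one_of_dvd_coprimes hco (orderOf_dvd_of_pow_eq_one ?_) ((orderOf_dvd_natCard _).trans
      (Subgroup.relIndex_dvd_index_of_le Subgroup.le_normalizer))
    rw [← map_pow]
    exact (QuotientGroup.eq_one_iff ((⟨h, hnorm⟩ : M) ^ orderOf c)).2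
      (Subgroup.mem_subgroupOf.2 (by simpa using hmem))
  exact Subgroup.mem_subgroupOf.1 ((QuotientGroup.eq_one_iff _).1 (orderOf_eq_one_iff.1 h1))

theorem eq_one_of_pow_coprime {c : G} {t : ℕ} {N : Subgroup G} (hc : c ∈ N)
    (hco : t.Coprime (Nat.card N)) (h : c ^ t = 1) : c = 1 :=
  orderOf_eq_one_iff.1 (Nat.eq_one_of_dvd_coprimes hco (orderOf_dvd_of_pow_eq_one h)
    (Subgroup.orderOf_dvd_natCard _ hc))

theorem mem_of_pow_coprime {c : G} {t : ℕ} {N Z : Subgroup G} (hc : c ∈ N)
    (hco : t.Coprime (Nat.card N)) (h : c ^ t ∈ Z) : c ∈ Z := by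
  obtain ⟨i, hi⟩ := exists_pow_eq_self_of_coprime (x := c)
    (hco.coprime_dvd_right (Subgroup.orderOf_dvd_natCard _ hc))
  rw [← hi]; exact pow_mem h i

theorem exists_central_pow_eq {c : G} {N : Subgroup G} (hc : c ∈ N) {t : ℕ}
    (hco : t.Coprime (Nat.card N)) (h : c ^ t ∈ Subgroup.center G) : c ∈ Subgroup.center G :=
  mem_of_pow_coprime hc hco h

theorem card_map_center (C : Subgroup G) (hC : Subgroup.center G ≤ C) :
    Nat.card (C.map (QuotientGroup.mk' (Subgroup.center G))) * Nat.card (Subgroup.center G) =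
      Nat.card C := by
  rw [← Subgroup.relIndex_ker, QuotientGroup.ker_mk', ← Subgroup.relIndex_bot_left,
    ← Subgroup.relIndex_bot_left, mul_comm]
  exact Subgroup.relIndex_mul_relIndex _ _ _ bot_le hC

end

section core
variable {G : Type*} [Group G] [Finite G] {m n : ℕ} {x y : G}

structure Setup (G : Type*) [Group G] (m n : ℕ) (x y : G) : Prop where
  hmn : n < m
  hn : 1 < n
  hcop : m.Coprime n
  htop : ∀ z : G, idx z ≤ m
  hsec : ∀ z : G, idx z ≠ m → idx z ≤ n
  hx : idx x = n
  hy : idx y = m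

theorem Setup.cent_eq (S : Setup G m n x y) {g : G} (hg : idx g = m) {w : G}
    (h : Subgroup.centralizer ({w} : Set G) ≤ Subgroup.centralizer ({g} : Set G)) :
    Subgroup.centralizer ({w} : Set G) = Subgroup.centralizer ({g} : Set G) := by
  refine Subgroup.eq_of_le_of_card_ge h ?_
  have h1 := (Subgroup.centralizer ({w} : Set G)).card_mul_index
  have h2 := (Subgroup.centralizer ({g} : Set G)).card_mul_index
  change _ * idx w = _ at h1
  change _ * idx g = _ at h2
  rw [hg] at h2
  have h3 : Nat.card (Subgroup.centralizer ({g} : Set G)) * m ≤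
      Nat.card (Subgroup.centralizer ({w} : Set G)) * m := by
    rw [h2, ← h1]
    exact Nat.mul_le_mul_left _ (S.htop w)
  exact Nat.le_of_mul_le_mul_right h3 (by have := S.hmn; omega)

theorem Setup.nx_dvd (S : Setup G m n x y) : Nat.card (nSub x) ∣ m := by
  rw [← S.hy]
  exact nSub_dvd (by rw [S.hx, S.hy]; exact S.hcop.symm) (S.hy.symm ▸ S.htop _)

theorem Setup.nx_cent (S : Setup G m n x y) : nSub x ≤ Subgroup.centralizer ({x} : Set G) :=
  nSub_le_cent (S.hx.symm ▸ S.hcop.coprime_dvd_left S.nx_dvd)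

theorem Setup.nx_comm (S : Setup G m n x y) : ∀ a ∈ nSub x, ∀ b ∈ nSub x, Commute a b := by
  intro a ha b hb
  induction hb using Subgroup.closure_induction with
  | mem b hb =>
    obtain ⟨g, rfl⟩ := hb
    have h1 : Commute x a := mem_cent.1 (S.nx_cent ha)
    have h2 : Commute x (g⁻¹ * a * g) :=
      mem_cent.1 (S.nx_cent (by simpa using (nSub_normal x).conj_mem a ha g⁻¹))
    have h3 : Commute (g * x * g⁻¹) a := by
      have := (Commute.conj_iff g).2 h2
      simpa [mul_assoc] using this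
    exact (h1.inv_left.mul_left h3).symm
  | one => exact Commute.one_right _
  | mul b c _ _ hb hc => exact hb.mul_right hc
  | inv b _ hb => exact hb.inv_right

theorem Setup.eq_m_of_coprime (S : Setup G m n x y) {b : G} (hb : (idx b).Coprime n) :
    idx b = m ∨ b ∈ Subgroup.center G := by
  by_cases hbm : idx b = m
  · exact Or.inl hbm
  right
  have hk : idx b ≤ n := S.hsec b hbm
  have hcop' : (idx b).Coprime (idx x) := S.hx.symm ▸ hb
  have hle : idx (b * x) ≤ idx x := by
    rw [S.hx]
    refine S.hsec _ fun he => ?_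
    have hd : idx (b * x) ∣ idx b * idx x :=
      idx_mul_coprime hcop' ▸ Subgroup.index_dvd_of_le (cent_inf_le_mul b x)
    rw [he, S.hx] at hd
    have := Nat.le_of_dvd (idx_pos b) (S.hcop.dvd_of_dvd_mul_right hd)
    have := S.hmn; omega
  have hNb : Nat.card (nSub b) ∣ n := S.hx ▸ nSub_dvd hcop' hle
  have hinf : nSub x ⊓ nSub b = ⊥ := Subgroup.inf_eq_bot_of_coprime
    ((S.hcop.coprime_dvd_left S.nx_dvd).coprime_dvd_right hNb)
  have key : ∀ c, c ∈ nSub x → c ∈ nSub b → c = 1 := fun c h1 h2 =>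
    Subgroup.mem_bot.1 (hinf ▸ Subgroup.mem_inf.2 ⟨h1, h2⟩)
  have hxb : Commute x b := by
    have h1 : x⁻¹ * (b * x * b⁻¹) = 1 := by
      refine key _ (mem_nSub x b) ?_
      have := (nSub_normal b).conj_mem _ (mem_nSub b x⁻¹) b
      simpa [mul_assoc] using this
    rw [inv_mul_eq_one, eq_mul_inv_iff_mul_eq] at h1
    exact h1
  have hC : Subgroup.centralizer ({x * b} : Set G) ≤
      Subgroup.centralizer ({x} : Set G) ⊓ Subgroup.centralizer ({b} : Set G) := by
    intro h hh
    have he : h * (x * b) * h⁻¹ = x * b := by rw [← (mem_cent.1 hh).eq, mul_inv_cancel_right]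
    have h1 : x⁻¹ * (h * x * h⁻¹) = b * (h * b⁻¹ * h⁻¹) := by
      rw [inv_mul_eq_iff_eq_mul, ← mul_assoc, ← he]; group
    have h2 : x⁻¹ * (h * x * h⁻¹) = 1 := key _ (mem_nSub x h) (h1 ▸ mem_nSub' b h)
    rw [inv_mul_eq_one, eq_mul_inv_iff_mul_eq] at h2
    have hhx : Commute x h := h2
    refine ⟨mem_cent.2 hhx, mem_cent.2 ?_⟩
    simpa using hhx.inv_left.mul_left (mem_cent.1 hh)
  have hd : idx x * idx b ∣ idx (x * b) :=
    idx_mul_coprime hcop'.symm ▸ Subgroup.index_dvd_of_le hC
  rw [S.hx] at hd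
  have hle2 : idx (x * b) ≤ n := S.hx ▸ (hxb.eq ▸ hle)
  rw [← idx_eq_one]
  have h3 := Nat.le_of_dvd (idx_pos _) hd
  have h4 := idx_pos b
  have hnpos : 0 < n := by have := S.hn; omega
  have := Nat.le_of_mul_le_mul_left (show n * idx b ≤ n * 1 by rw [mul_one]; exact h3.trans hle2) hnpos
  omega

theorem Setup.cent_eq_of_le (S : Setup G m n x y) {g : G} (hg : idx g = m) {w : G}
    (hw : w ∉ Subgroup.center G)
    (h : Subgroup.centralizer ({g} : Set G) ≤ Subgroup.centralizer ({w} : Set G)) :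
    Subgroup.centralizer ({w} : Set G) = Subgroup.centralizer ({g} : Set G) := by
  have hd : idx w ∣ m := hg ▸ Subgroup.index_dvd_of_le h
  rcases S.eq_m_of_coprime (S.hcop.coprime_dvd_left hd) with hm | hc
  · exact (S.cent_eq hm h).symm
  · exact absurd hc hw

/-- An abelian normal subgroup averaged along conjugation. -/
noncomputable abbrev conjN (N : Subgroup G) [N.Normal] : G →* MulAut N := MulAut.conjNormal

theorem Setup.comm_y (S : Setup G m n x y) :
    ∀ u ∈ Subgroup.centralizer ({y} : Set G), ∀ v ∈ Subgroup.centralizer ({y} : Set G),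
      Commute u v := by
  classical
  have hyZ : y ∉ Subgroup.center G := by
    rw [← idx_eq_one, S.hy]; have := S.hmn; have := S.hn; omega
  obtain ⟨t, ht, hyt⟩ := exists_prime_part hyZ
  haveI := Fact.mk ht
  set y0 := y ^ ordCompl[t] (orderOf y) with hy0
  have hC0 : Subgroup.centralizer ({y0} : Set G) = Subgroup.centralizer ({y} : Set G) :=
    S.cent_eq_of_le S.hy hyt (cent_le_pow y _)
  have hy0m : idx y0 = m := by rw [idx, hC0]; exact S.hy
  have hy0pow : y0 ^ t ^ (orderOf y).factorization t = 1 := by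
    rw [hy0, ← pow_mul, mul_comm, Nat.ordProj_mul_ordCompl_eq_self, pow_orderOf_eq_one]
  set T := Subgroup.centralizer ({y} : Set G) with hT
  -- coprime elements of `T` have larger centralisers
  have habs : ∀ w ∈ T, ¬ t ∣ orderOf w → T ≤ Subgroup.centralizer ({w} : Set G) := by
    intro w hw htw
    rw [← hC0] at hw
    have hco : (orderOf y0).Coprime (orderOf w) := by
      obtain ⟨k, _, hk⟩ := (Nat.dvd_prime_pow ht).1 (orderOf_dvd_of_pow_eq_one hy0pow)
      rw [hk]; exact Nat.Coprime.pow_left k (ht.coprime_iff_not_dvd.2 htw)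
    have hle := cent_mul_le (mem_cent.1 hw) hco
    have := S.cent_eq hy0m (hle.trans inf_le_left)
    rw [← hC0, ← this]
    exact hle.trans inf_le_right
  have hpart : ∀ u : G, ∃ u' ut : G, u' ∈ Subgroup.zpowers u ∧ ut ∈ Subgroup.zpowers u ∧
      ¬ t ∣ orderOf u' ∧ (∃ k, ut ^ t ^ k = 1) ∧ u = u' * ut := by
    intro u
    set a := orderOf u with ha0
    have ha : a ≠ 0 := (orderOf_pos u).ne'
    set mm := t ^ a.factorization t
    set k := ordCompl[t] a
    have hmk : mm * k = a := Nat.ordProj_mul_ordCompl_eq_self a t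
    have hcop : mm.Coprime k := Nat.Coprime.pow_left _ (Nat.coprime_ordCompl ht ha)
    have hb := Nat.gcd_eq_gcd_ab mm k
    rw [hcop.gcd_eq_one] at hb
    refine ⟨(u ^ mm) ^ Nat.gcdA mm k, (u ^ k) ^ Nat.gcdB mm k,
      zpow_mem (pow_mem (Subgroup.mem_zpowers u) _) _, zpow_mem (pow_mem (Subgroup.mem_zpowers u) _) _,
      ?_, ⟨a.factorization t, ?_⟩, ?_⟩
    · intro hd
      refine Nat.not_dvd_ordCompl ht ha (hd.trans (orderOf_dvd_of_pow_eq_one ?_))
      rw [← zpow_natCast, ← zpow_mul, mul_comm, zpow_mul, zpow_natCast, ← pow_mul, hmk,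
        pow_orderOf_eq_one, one_zpow]
    · rw [← zpow_natCast, ← zpow_mul, mul_comm, zpow_mul, zpow_natCast, ← pow_mul, mul_comm k,
        hmk, pow_orderOf_eq_one, one_zpow]
    · rw [← zpow_natCast, ← zpow_natCast, ← zpow_mul, ← zpow_mul, ← zpow_add, ← hb, Nat.cast_one,
        zpow_one]
  by_cases hw : ∃ w ∈ T, ¬ t ∣ orderOf w ∧ w ∉ Subgroup.center G
  · obtain ⟨w, hwT, hwt, hwZ⟩ := hw
    have hCw : Subgroup.centralizer ({w} : Set G) = T := S.cent_eq_of_le S.hy hwZ (habs w hwT hwt)
    have hwm : idx w = m := by rw [idx, hCw]; exact S.hy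
    intro u hu v hv
    obtain ⟨u', ut, hu', hut, hu't, ⟨k, hk⟩, rfl⟩ := hpart u
    have hu'T : u' ∈ T := (Subgroup.zpowers_le.2 hu) hu'
    have hutT : ut ∈ T := (Subgroup.zpowers_le.2 hu) hut
    have hco : (orderOf w).Coprime (orderOf ut) := by
      obtain ⟨j, _, hj⟩ := (Nat.dvd_prime_pow ht).1 (orderOf_dvd_of_pow_eq_one hk)
      rw [hj]; exact (Nat.Coprime.pow_left j (ht.coprime_iff_not_dvd.2 hwt)).symm
    have hle := cent_mul_le (mem_cent.1 (hCw ▸ hutT)) hco
    have heq := S.cent_eq hwm (hle.trans inf_le_left)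
    have hutc : T ≤ Subgroup.centralizer ({ut} : Set G) := by
      rw [← hCw, ← heq]; exact hle.trans inf_le_right
    exact (mem_cent.1 (habs u' hu'T hu't hv)).mul_left (mem_cent.1 (hutc hv))
  push Not at hw
  have hTZ : ∀ u ∈ T, ∃ k, u ^ t ^ k ∈ Subgroup.center G := by
    intro u hu
    obtain ⟨u', ut, hu', hut, hu't, ⟨k, hk⟩, rfl⟩ := hpart u
    refine ⟨k, ?_⟩
    have hu'Z := hw u' ((Subgroup.zpowers_le.2 hu) hu') hu't
    rw [(center_commute hu'Z ut).mul_pow, hk, mul_one]
    exact pow_mem hu'Z _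
  -- `n` is a power of `t`
  have hZT : Subgroup.center G ≤ T := center_le_cent y
  have hTp : IsPGroup t (T.map (QuotientGroup.mk' (Subgroup.center G))) := by
    rintro ⟨q, hq⟩
    obtain ⟨u, hu, rfl⟩ := Subgroup.mem_map.1 hq
    obtain ⟨k, hk⟩ := hTZ u hu
    refine ⟨k, Subtype.ext ?_⟩
    show (QuotientGroup.mk' (Subgroup.center G) u) ^ t ^ k = 1
    rw [← map_pow]
    exact (QuotientGroup.eq_one_iff (u ^ t ^ k)).2 hk
  obtain ⟨e, he⟩ := IsPGroup.iff_card.1 hTp
  set D := Subgroup.centralizer ({x} : Set G) ⊓ T with hD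
  have hcopxy : (idx x).Coprime (idx y) := by rw [S.hx, S.hy]; exact S.hcop.symm
  have hDi : D.index = n * m := by rw [hD, hT, idx_mul_coprime hcopxy, S.hx, S.hy]
  have hnd : n ∣ t ^ e := by
    have h1 := Subgroup.relIndex_mul_index (inf_le_right : D ≤ T)
    rw [hDi] at h1
    have h2 : D.relIndex T = n := Nat.eq_of_mul_eq_mul_right (by have := S.hmn; omega : 0 < m)
      (by rw [← h1]; congr 1; exact S.hy.symm)
    rw [← he, ← Subgroup.relIndex_ker, QuotientGroup.ker_mk', ← h2]
    exact Subgroup.relIndex_dvd_of_le_left T (le_inf (center_le_cent x) hZT)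
  have hnco : ∀ k : ℕ, ¬ t ∣ k → k.Coprime n := fun k hk =>
    (Nat.Coprime.pow_left e (ht.coprime_iff_not_dvd.2 hk)).symm.coprime_dvd_right hnd
  have htn : t ∣ n := by
    obtain ⟨j, _, hj⟩ := (Nat.dvd_prime_pow ht).1 hnd
    rcases j with _ | j
    · have := S.hn; simp at hj; omega
    · exact hj ▸ dvd_pow_self t (Nat.succ_ne_zero j)
  have htm : ¬ t ∣ m := fun h => Nat.Prime.ne_one ht (Nat.eq_one_of_dvd_coprimes S.hcop h htn)
  set N := nSub x with hN
  have htN : t.Coprime (Nat.card N) :=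
    (ht.coprime_iff_not_dvd.2 htm).coprime_dvd_right S.nx_dvd
  -- elements of index `m` have no fixed points
  have hfix : ∀ g : G, idx g = m → ∀ w ∈ N, Commute g w → w ∈ Subgroup.center G := by
    intro g hg w hwN hgw
    have hcardC : Nat.card ((Subgroup.centralizer ({g} : Set G)).map
        (QuotientGroup.mk' (Subgroup.center G))) = t ^ e := by
      rw [← he]
      apply Nat.eq_of_mul_eq_mul_right (Nat.card_pos (α := Subgroup.center G))
      rw [card_map_center _ (center_le_cent g), card_map_center _ hZT]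
      have h1 := (Subgroup.centralizer ({g} : Set G)).card_mul_index
      have h2 := T.card_mul_index
      change _ * idx g = _ at h1
      change _ * idx y = _ at h2
      rw [hg] at h1; rw [S.hy, ← h1] at h2
      exact (Nat.eq_of_mul_eq_mul_right (by have := S.hmn; omega) h2).symm
    refine exists_central_pow_eq hwN (Nat.Coprime.pow_left e htN) ?_
    have : (⟨_, Subgroup.mem_map_of_mem (QuotientGroup.mk' (Subgroup.center G)) (mem_cent.2 hgw)⟩ :
        (Subgroup.centralizer ({g} : Set G)).map (QuotientGroup.mk' (Subgroup.center G))) ^ t ^ e = 1 := by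
      rw [← hcardC]; exact pow_card_eq_one'
    have := congrArg Subtype.val this
    exact (QuotientGroup.eq_one_iff (w ^ t ^ e)).1 (by simpa using this)
  -- the derived automorphisms
  letI : CommGroup N :=
    { (inferInstance : Group N) with mul_comm := fun a b => Subtype.ext (S.nx_comm _ a.2 _ b.2).eq }
  let α : G →* MulAut N := MulAut.conjNormal
  have hαv : ∀ (g : G) (w : N), (α g w : G) = g * w * g⁻¹ := fun g w => MulAut.conjNormal_apply g w
  have hαZ : ∀ g : G, g ∈ Subgroup.center G → ∀ w : N, α g w = w := fun g hg w => Subtype.ext (by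
    rw [hαv, (center_commute hg (w : G)).eq, mul_inv_cancel_right])
  have hαfix : ∀ g : G, ∀ w : N, α g w = w → Commute g (w : G) := fun g w h => by
    have := congrArg Subtype.val h
    rw [hαv, mul_inv_eq_iff_eq_mul] at this
    exact this
  let Q : G → N → N := fun g w => ∏ k ∈ Finset.range t, α (g ^ k) w
  have hQfix : ∀ g : G, g ^ t ∈ Subgroup.center G → ∀ w, α g (Q g w) = Q g w := by
    intro g hg w
    have h1 : α g (Q g w) = ∏ k ∈ Finset.range t, α (g ^ (k + 1)) w := by
      rw [map_prod]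
      refine Finset.prod_congr rfl fun k _ => ?_
      rw [← MulAut.mul_apply, ← map_mul, ← pow_succ']
    rw [h1]
    have h2 := Finset.prod_range_succ' (fun k => α (g ^ k) w) t
    rw [Finset.prod_range_succ, hαZ _ hg, pow_zero, map_one, MulAut.one_apply] at h2
    exact (mul_right_cancel h2).symm
  let Z0 : Subgroup N := (Subgroup.center G).subgroupOf N
  have hQZ : ∀ g : G, g ^ t ∈ Subgroup.center G → idx g = m → ∀ w, Q g w ∈ Z0 := fun g hg hm w =>
    Subgroup.mem_subgroupOf.2 (hfix g hm _ (Q g w).2 (hαfix g _ (hQfix g hg w)))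
  -- the elements of index `m` of shape `x * g`
  have hcore : ∀ g ∈ T, g ^ t ∈ Subgroup.center G → g ∉ Subgroup.center G → idx g ≠ m →
      idx (x * g) ≠ m := by
    intro g _ hgt hgZ hgm hxg
    have htg : t ∣ idx g := by
      by_contra hh
      rcases S.eq_m_of_coprime (hnco _ hh) with h | h
      · exact hgm h
      · exact hgZ h
    obtain ⟨P, hP⟩ := exists_sylow_cent t (x := x * g) (hxg.symm ▸ htm)
    let actN : MulAction N G := MulAction.compHom G (ConjAct.toConjAct.toMonoidHom.comp N.subtype)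
    set Ω := MulAction.orbit N g with hΩ
    have hΩdvd : Nat.card Ω ∣ Nat.card N := by
      rw [hΩ, Nat.card_coe_set_eq, ← MulAction.index_stabilizer]
      exact Subgroup.index_dvd_card _
    have hsmul : ∀ (k : N) (z : G), k • z = (k : G) * z * (k : G)⁻¹ := fun k z => rfl
    -- the coset of `N` containing `g`
    have hcoset : ∀ c : N, ((c : G) * g) ^ t = g ^ t → ∃ k : N, k • g = (c : G) * g := by
      intro c hct
      have hpow : ∀ i : ℕ, ((c : G) * g) ^ i =
          ((∏ k ∈ Finset.range i, α (g ^ k) c : N) : G) * g ^ i := by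
        intro i
        induction i with
        | zero => simp
        | succ i ih =>
          rw [pow_succ, ih, Finset.prod_range_succ, Subgroup.coe_mul, hαv, pow_succ g i]
          group
      have hS : Q g c = 1 := by
        have := hpow t
        rw [hct, eq_comm, mul_eq_right] at this
        exact Subtype.ext this
      let W : N := ∏ k ∈ Finset.range t, (α (g ^ k) c) ^ k
      have h1 := Finset.prod_range_succ' (fun k => (α (g ^ k) c) ^ k) t
      rw [Finset.prod_range_succ, hαZ _ hgt, pow_zero (α (g ^ 0) c), mul_one] at h1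
      have h2 : α g W * α g (Q g c) = ∏ k ∈ Finset.range t, (α (g ^ (k + 1)) c) ^ (k + 1) := by
        rw [← map_mul, ← Finset.prod_mul_distrib, map_prod]
        refine Finset.prod_congr rfl fun k _ => ?_
        rw [← pow_succ, map_pow, ← MulAut.mul_apply, ← map_mul, ← pow_succ']
      rw [← h1, hS, map_one, mul_one] at h2
      obtain ⟨s, hs⟩ := exists_pow_eq_self_of_coprime (x := c)
        (htN.coprime_dvd_right (orderOf_dvd_natCard c))
      refine ⟨(W⁻¹) ^ s, ?_⟩
      have h3 : (W⁻¹) ^ s * (α g ((W⁻¹) ^ s))⁻¹ = c := by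
        rw [map_pow, map_inv, inv_pow (α g W), inv_inv, h2, ← mul_pow, inv_mul_cancel_left]
        exact hs
      rw [hsmul]
      conv_rhs => rw [← h3]
      rw [Subgroup.coe_mul, Subgroup.coe_inv, hαv]
      group
    have hPΩ : ∀ h : (P : Subgroup G), ∀ z ∈ Ω, (h : G) * z * (h : G)⁻¹ ∈ Ω := by
      rintro ⟨h, hh⟩ z ⟨k, rfl⟩
      have hcx : Commute (x * g) h := mem_cent.1 (hP hh)
      have he : h * (x * g) * h⁻¹ = x * g := by rw [← hcx.eq, mul_inv_cancel_right]
      have hc : h * g * h⁻¹ * g⁻¹ ∈ N := by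
        have : h * g * h⁻¹ * g⁻¹ = (x⁻¹ * (h * x * h⁻¹))⁻¹ := by
          calc h * g * h⁻¹ * g⁻¹ = (h * x * h⁻¹)⁻¹ * (h * (x * g) * h⁻¹) * g⁻¹ := by group
            _ = (h * x * h⁻¹)⁻¹ * (x * g) * g⁻¹ := by rw [he]
            _ = (x⁻¹ * (h * x * h⁻¹))⁻¹ := by group
        rw [this]
        exact inv_mem (mem_nSub x h)
      obtain ⟨k', hk'⟩ := hcoset ⟨_, hc⟩ (by
        show (h * g * h⁻¹ * g⁻¹ * g) ^ t = g ^ t
        rw [inv_mul_cancel_right, conj_pow, (center_commute hgt h).symm.eq, mul_inv_cancel_right])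
      refine ⟨⟨h * k * h⁻¹, (nSub_normal x).conj_mem _ k.2 h⟩ * k', ?_⟩
      show (_ * k') • g = h * (k • g) * h⁻¹
      rw [mul_smul, hk', hsmul, hsmul]
      show h * (k : G) * h⁻¹ * (h * g * h⁻¹ * g⁻¹ * g) * (h * (k : G) * h⁻¹)⁻¹ =
        h * ((k : G) * g * (k : G)⁻¹) * h⁻¹
      group
    let act : MulAction (P : Subgroup G) Ω :=
      { smul := fun h z => ⟨(h : G) * z.1 * (h : G)⁻¹, hPΩ h z.1 z.2⟩
        one_smul := fun z => Subtype.ext (by
          show ((1 : (P : Subgroup G)) : G) * z.1 * ((1 : (P : Subgroup G)) : G)⁻¹ = z.1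
          simp)
        mul_smul := fun a b z => Subtype.ext (by
          show ((a * b : (P : Subgroup G)) : G) * z.1 * ((a * b : (P : Subgroup G)) : G)⁻¹ =
            (a : G) * ((b : G) * z.1 * (b : G)⁻¹) * (a : G)⁻¹
          simp [mul_assoc]) }
    obtain ⟨⟨ω, hω⟩, hfixω⟩ := P.2.nonempty_fixed_point_of_prime_not_dvd_card Ω
      (fun hd => ht.ne_one (Nat.eq_one_of_dvd_coprimes htN dvd_rfl (hd.trans hΩdvd)))
    obtain ⟨k, rfl⟩ := hω
    refine P.not_dvd_index (htg.trans ?_)
    have hle : ∀ h ∈ (P : Subgroup G), (k : G)⁻¹ * h * (k : G) ∈ Subgroup.centralizer ({g} : Set G) := by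
      intro h hh
      have := congrArg Subtype.val (hfixω ⟨h, hh⟩)
      change h * ((k : G) * g * (k : G)⁻¹) * h⁻¹ = (k : G) * g * (k : G)⁻¹ at this
      rw [mem_cent, Commute, SemiconjBy]
      rw [mul_inv_eq_iff_eq_mul] at this
      calc g * ((k : G)⁻¹ * h * k) = (k : G)⁻¹ * ((k : G) * g * (k : G)⁻¹ * h) * k := by group
        _ = (k : G)⁻¹ * (h * ((k : G) * g * (k : G)⁻¹)) * k := by rw [this]
        _ = (k : G)⁻¹ * h * k * g := by group
    have := Subgroup.index_dvd_of_le
      (show (P : Subgroup G).map ((MulAut.conj ((k : G)⁻¹) : G ≃* G) : G →* G) ≤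
          Subgroup.centralizer ({g} : Set G) by
        rintro _ ⟨h, hh, rfl⟩
        simpa [MulAut.conj_apply] using hle h hh)
    rwa [Subgroup.index_map_equiv] at this
  -- `x * g` and `x * g * y'` cannot both have small index
  have hxgT : ∀ g ∈ T, Subgroup.centralizer ({x * g} : Set G) ⊓ T ≤ D := by
    rintro g hg h ⟨h1, h2⟩
    refine ⟨?_, h2⟩
    have he : h * (x * g) * h⁻¹ = x * g := by rw [← (mem_cent.1 h1).eq, mul_inv_cancel_right]
    set c := x⁻¹ * (h * x * h⁻¹) with hc
    have hce : c = g * (h * g⁻¹ * h⁻¹) := by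
      rw [hc, inv_mul_eq_iff_eq_mul, ← mul_assoc, ← he]; group
    have hcT : c ∈ T := hce ▸ mul_mem hg (mul_mem (mul_mem h2 (inv_mem hg)) (inv_mem h2))
    have hcN : c ∈ N := mem_nSub x h
    obtain ⟨k, hk⟩ := hTZ c hcT
    have hcZ := exists_central_pow_eq hcN (Nat.Coprime.pow_left k htN) hk
    refine cent_of_central_comm hcZ (by rw [hc]; group) ?_
    rw [S.hx]
    exact (S.hcop.coprime_dvd_left S.nx_dvd).coprime_dvd_left (Subgroup.orderOf_dvd_natCard _ hcN)
  intro u0 hu0 v0 hv0
  by_contra hne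
  let P : G → Prop := fun g => ∀ v ∈ T, Commute g v
  have hex : ∃ k, P (u0 ^ t ^ k) := by
    obtain ⟨k, hk⟩ := hTZ u0 hu0
    exact ⟨k, fun v _ => center_commute hk v⟩
  have hk0 : Nat.find hex ≠ 0 := fun h0 => by
    have := Nat.find_spec hex
    rw [h0, pow_zero, pow_one] at this
    exact hne (this v0 hv0)
  obtain ⟨k, hk⟩ := Nat.exists_eq_succ_of_ne_zero hk0
  set u := u0 ^ t ^ k with hu
  have huT : u ∈ T := pow_mem hu0 _
  have huP : ¬ P u := Nat.find_min hex (by omega)
  have hutP : P (u ^ t) := by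
    rw [hu, ← pow_mul, ← pow_succ, ← Nat.succ_eq_add_one, ← hk]
    exact Nat.find_spec hex
  have hPy0 : P y0 := fun v hv => mem_cent.1 (hC0.symm ▸ hv)
  have hy0T : y0 ∈ T := pow_mem (mem_cent.2 (Commute.refl y)) _
  have hPcent : ∀ g ∈ T, g ∉ Subgroup.center G → P g → Subgroup.centralizer ({g} : Set G) = T :=
    fun g _ hgZ hgP => S.cent_eq_of_le S.hy hgZ fun v hv => mem_cent.2 (hgP v hv)
  have hpc : ∀ g ∈ T, ¬ P g → P (g ^ t) → g ^ t ∈ Subgroup.center G := by
    intro g hgT hgP hgt
    by_contra hgtZ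
    have h1 := hPcent _ (pow_mem hgT t) hgtZ hgt
    have h2 : Subgroup.centralizer ({g} : Set G) ≤ T := h1 ▸ cent_le_pow g t
    have h3 := S.cent_eq S.hy h2
    exact hgP fun v hv => mem_cent.1 (h3.symm ▸ hv)
  have huy : ∀ i : ℕ, u * y0 ^ i ∈ T ∧ ¬ P (u * y0 ^ i) ∧
      (u * y0 ^ i) ^ t ∈ Subgroup.center G := by
    intro i
    have h1 : u * y0 ^ i ∈ T := mul_mem huT (pow_mem hy0T i)
    have h2 : ¬ P (u * y0 ^ i) := fun h => huP fun v hv => by
      simpa using (h v hv).mul_left ((hPy0 v hv).pow_left i).inv_left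
    refine ⟨h1, h2, hpc _ h1 h2 fun v hv => ?_⟩
    have hc : Commute u (y0 ^ i) := ((hPy0 u huT).pow_left i).symm
    rw [hc.mul_pow]
    exact (hutP v hv).mul_left (((hPy0 v hv).pow_left i).pow_left t)
  have huZ : u ∉ Subgroup.center G := fun h => huP fun v _ => center_commute h v
  have hy0t : y0 ^ t ∈ Subgroup.center G := by
    have h0 := (huy 0).2.2
    have h1 := (huy 1).2.2
    rw [pow_zero, mul_one] at h0
    rw [pow_one, ((hPy0 u huT).symm).mul_pow] at h1
    have := mul_mem (inv_mem h0) h1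
    rwa [inv_mul_cancel_left] at this
  have hyd : ∀ d : ℕ, ¬ t ∣ d → Subgroup.centralizer ({y0 ^ d} : Set G) = T := by
    intro d hd
    refine S.cent_eq_of_le S.hy (fun hZ => hyt ?_) (hC0.symm.trans_le (cent_le_pow y0 d))
    have h1 : orderOf (QuotientGroup.mk' (Subgroup.center G) y0) = 1 := by
      refine Nat.eq_one_of_dvd_coprimes (ht.coprime_iff_not_dvd.2 hd)
        (orderOf_dvd_of_pow_eq_one ?_) (orderOf_dvd_of_pow_eq_one ?_)
      · rw [← map_pow]; exact (QuotientGroup.eq_one_iff (y0 ^ t)).2 hy0t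
      · rw [← map_pow]; exact (QuotientGroup.eq_one_iff (y0 ^ d)).2 hZ
    exact (QuotientGroup.eq_one_iff y0).1 (orderOf_eq_one_iff.1 h1)
  -- pick the exceptional element
  obtain ⟨i0, hi0⟩ : ∃ i0 : ℕ, ∀ d : ℕ, d < t → d ≠ 0 → idx (u * y0 ^ i0 * y0 ^ d) = m := by
    by_cases hall : ∀ i : ℕ, idx (u * y0 ^ i) = m
    · exact ⟨0, fun d _ _ => by rw [mul_assoc, ← pow_add]; exact hall _⟩
    push Not at hall
    obtain ⟨i0, hi0⟩ := hall
    refine ⟨i0, fun d hdt hd0 => ?_⟩
    by_contra hne'
    set g := u * y0 ^ i0 with hg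
    have hgy : g * y0 ^ d = u * y0 ^ (i0 + d) := by rw [hg, mul_assoc, ← pow_add]
    have hnZ : ∀ i, u * y0 ^ i ∉ Subgroup.center G :=
      fun i h => (huy i).2.1 fun v _ => center_commute h v
    have h1 : idx (x * g) ≠ m := hcore g (huy i0).1 (huy i0).2.2 (hnZ i0) hi0
    have h2 : idx (x * (g * y0 ^ d)) ≠ m := by
      rw [hgy] at hne' ⊢
      exact hcore _ (huy _).1 (huy _).2.2 (hnZ _) hne'
    have hdn : ¬ t ∣ d := fun h => hd0 (Nat.eq_zero_of_dvd_of_lt h hdt)
    set A := Subgroup.centralizer ({x * g} : Set G)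
    set B := Subgroup.centralizer ({x * (g * y0 ^ d)} : Set G)
    have hle : A ⊓ B ≤ D := by
      rintro h ⟨ha, hb⟩
      refine hxgT g (huy i0).1 ⟨ha, ?_⟩
      rw [← hyd d hdn]
      refine mem_cent.2 ?_
      have hxd : y0 ^ d = (x * g)⁻¹ * (x * (g * y0 ^ d)) := by group
      rw [hxd]
      exact (mem_cent.1 ha).inv_left.mul_left (mem_cent.1 hb)
    have h3 : n * m ≤ (A ⊓ B).index :=
      hDi ▸ Nat.le_of_dvd (Nat.pos_of_ne_zero Subgroup.index_ne_zero_of_finite)
        (Subgroup.index_dvd_of_le hle)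
    have h4 : (A ⊓ B).index ≤ n * n :=
      Subgroup.index_inf_le.trans (Nat.mul_le_mul (S.hsec _ h1) (S.hsec _ h2))
    have hnpos : 0 < n := by have := S.hn; omega
    have := Nat.le_of_mul_le_mul_left (h3.trans h4) hnpos
    have := S.hmn; omega
  set v := u * y0 ^ i0 with hv
  obtain ⟨hvT, hvP, hvt⟩ := huy i0
  have hcvy : Commute v y0 := (hPy0 v hvT).symm
  -- `v` centralises `N`
  have hvN : ∀ w : N, α v w = w := by
    intro w
    have hsum : (∏ i ∈ Finset.range t, Q (v * y0 ^ i) w) =
        ∏ k ∈ Finset.range t, α (v ^ k) (∏ i ∈ Finset.range t, α ((y0 ^ k) ^ i) w) := by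
      rw [Finset.prod_comm]
      refine Finset.prod_congr rfl fun k _ => ?_
      rw [map_prod]
      refine Finset.prod_congr rfl fun i _ => ?_
      rw [← MulAut.mul_apply, ← map_mul, (hcvy.pow_right i).mul_pow, ← pow_mul y0, ← pow_mul y0, mul_comm i k]
    obtain ⟨r, hr⟩ := Nat.exists_eq_succ_of_ne_zero ht.ne_zero
    have hlhs : ∃ z ∈ Z0, (∏ i ∈ Finset.range t, Q (v * y0 ^ i) w) = z * Q v w := by
      refine ⟨∏ i ∈ Finset.range r, Q (v * y0 ^ (i + 1)) w, ?_, ?_⟩
      · refine Subgroup.prod_mem _ fun i hi => ?_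
        refine hQZ _ ?_ (hi0 (i + 1) (by rw [hr]; have := Finset.mem_range.1 hi; omega) (Nat.succ_ne_zero i)) w
        have := (huy (i0 + (i + 1))).2.2
        rwa [pow_add, ← mul_assoc] at this
      · conv_lhs => rw [hr, Finset.prod_range_succ', pow_zero, mul_one]
    have hrhs : ∃ z ∈ Z0,
        (∏ k ∈ Finset.range t, α (v ^ k) (∏ i ∈ Finset.range t, α ((y0 ^ k) ^ i) w)) = z * w ^ t := by
      refine ⟨∏ k ∈ Finset.range r, α (v ^ (k + 1)) (Q (y0 ^ (k + 1)) w), ?_, ?_⟩
      · refine Subgroup.prod_mem _ fun k hk => ?_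
        have hkd : ¬ t ∣ (k + 1) := fun h => Nat.succ_ne_zero k
          (Nat.eq_zero_of_dvd_of_lt h (by rw [hr]; have := Finset.mem_range.1 hk; omega))
        have h1 : (y0 ^ (k + 1)) ^ t ∈ Subgroup.center G := by
          rw [← pow_mul, mul_comm, pow_mul]; exact pow_mem hy0t _
        have h2 : idx (y0 ^ (k + 1)) = m := by rw [idx, hyd _ hkd]; exact S.hy
        have h3 := Subgroup.mem_subgroupOf.1 (hQZ _ h1 h2 w)
        refine Subgroup.mem_subgroupOf.2 ?_
        rw [hαv, (center_commute h3 (v ^ (k + 1))).symm.eq, mul_inv_cancel_right]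
        exact h3
      · conv_lhs => rw [hr, Finset.prod_range_succ']
        simp only [pow_zero, map_one, MulAut.one_apply, one_pow, Finset.prod_const, Finset.card_range,
          ← hr]
        rfl
    obtain ⟨z1, hz1, he1⟩ := hlhs
    obtain ⟨z2, hz2, he2⟩ := hrhs
    rw [he1, he2] at hsum
    have hz12 : z2⁻¹ * z1 ∈ Z0 := mul_mem (inv_mem hz2) hz1
    have hwt : w ^ t = z2⁻¹ * z1 * Q v w := by rw [mul_assoc, hsum, inv_mul_cancel_left]
    have hfixw : α v (w ^ t) = w ^ t := by
      rw [hwt, map_mul, hQfix v hvt]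
      congr 1
      apply Subtype.ext
      rw [hαv, (center_commute (Subgroup.mem_subgroupOf.1 hz12) v).symm.eq, mul_inv_cancel_right]
    rw [map_pow] at hfixw
    have : (α v w * w⁻¹) ^ t = 1 := by rw [mul_pow, hfixw, inv_pow, mul_inv_cancel]
    have h1 := eq_one_of_pow_coprime (G := G) (α v w * w⁻¹).2 htN
      (by rw [← Subgroup.coe_pow, this, Subgroup.coe_one])
    rw [OneMemClass.coe_eq_one, mul_inv_eq_one] at h1
    exact h1
  have hvNc : ∀ c ∈ N, Commute v c := fun c hc => hαfix v ⟨c, hc⟩ (hvN _)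
  have hvx : Commute x v := by
    set c := x⁻¹ * (v * x * v⁻¹) with hc
    have hcN : c ∈ N := mem_nSub x v
    have hp : ∀ i : ℕ, v ^ i * x * (v ^ i)⁻¹ = x * c ^ i := by
      intro i
      induction i with
      | zero => simp
      | succ i ih =>
        calc v ^ (i + 1) * x * (v ^ (i + 1))⁻¹ = v * (v ^ i * x * (v ^ i)⁻¹) * v⁻¹ := by
              rw [pow_succ']; group
          _ = v * x * v⁻¹ * (v * c ^ i * v⁻¹) := by rw [ih]; group
          _ = x * c * c ^ i := by
              rw [((hvNc c hcN).pow_right i).eq, mul_inv_cancel_right, hc]; group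
          _ = x * c ^ (i + 1) := by rw [mul_assoc, pow_succ']
    have h1 := hp t
    rw [(center_commute hvt x).eq, mul_inv_cancel_right, left_eq_mul] at h1
    have h2 := eq_one_of_pow_coprime hcN htN h1
    rw [hc, inv_mul_eq_one, eq_mul_inv_iff_mul_eq] at h2
    exact h2
  have hCxv : Subgroup.centralizer ({x * v} : Set G) ≤
      Subgroup.centralizer ({x} : Set G) ⊓ Subgroup.centralizer ({v} : Set G) := by
    intro h hh
    have hxt : Commute (x ^ t) h := by
      have h1 := (mem_cent.1 hh).pow_left t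
      rw [hvx.mul_pow] at h1
      have h2 := h1.mul_left (center_commute hvt h).inv_left
      rwa [mul_inv_cancel_right] at h2
    set c := x⁻¹ * (h * x * h⁻¹) with hc
    have hcN : c ∈ N := mem_nSub x h
    have hxc : Commute x c := mem_cent.1 (S.nx_cent hcN)
    have h1 : h * x * h⁻¹ = x * c := by rw [hc]; group
    have h2 : x ^ t * c ^ t = x ^ t := by
      rw [← hxc.mul_pow, ← h1, conj_pow, hxt.symm.eq, mul_inv_cancel_right]
    rw [mul_eq_left] at h2
    have h3 := eq_one_of_pow_coprime hcN htN h2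
    rw [hc, inv_mul_eq_one, eq_mul_inv_iff_mul_eq] at h3
    have hhx : Commute x h := h3
    refine ⟨mem_cent.2 hhx, mem_cent.2 ?_⟩
    simpa using hhx.inv_left.mul_left (mem_cent.1 hh)
  have hnd' : n ∣ idx (x * v) := S.hx ▸ Subgroup.index_dvd_of_le (hCxv.trans inf_le_left)
  have hne' : idx (x * v) ≠ m := fun h => by
    rw [h] at hnd'
    have := Nat.eq_one_of_dvd_coprimes S.hcop hnd' dvd_rfl
    have := S.hn; omega
  have hxvn : idx (x * v) = n := le_antisymm (S.hsec _ hne') (Nat.le_of_dvd (idx_pos _) hnd')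
  have hvn : idx v ∣ n := hxvn ▸ Subgroup.index_dvd_of_le (hCxv.trans inf_le_right)
  have hvcop : (idx v).Coprime (idx y) := S.hy.symm ▸ (S.hcop.coprime_dvd_right hvn).symm
  have hNv : Nat.card (nSub v) ∣ m := S.hy ▸ nSub_dvd hvcop (S.hy.symm ▸ S.htop _)
  have hNvc : nSub v ≤ Subgroup.centralizer ({v} : Set G) :=
    nSub_le_cent ((S.hcop.coprime_dvd_left hNv).coprime_dvd_right hvn)
  apply hvP
  intro w _
  have hcw := mem_cent.1 (hNvc (mem_nSub v w))
  have h1 : w * v * w⁻¹ = v * (v⁻¹ * (w * v * w⁻¹)) := by group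
  have h2 : v ^ t * (v⁻¹ * (w * v * w⁻¹)) ^ t = v ^ t := by
    rw [← hcw.mul_pow, ← h1, conj_pow, (center_commute hvt w).symm.eq, mul_inv_cancel_right]
  rw [mul_eq_left] at h2
  have h3 := eq_one_of_pow_coprime (mem_nSub v w)
    ((ht.coprime_iff_not_dvd.2 htm).coprime_dvd_right hNv) h2
  rw [inv_mul_eq_one, eq_mul_inv_iff_mul_eq] at h3
  exact h3

theorem map_inter {A B : Subgroup G} (hA : Subgroup.center G ≤ A)
    (h : A ⊓ B ≤ Subgroup.center G) :
    A.map (QuotientGroup.mk' (Subgroup.center G)) ⊓ B.map (QuotientGroup.mk' (Subgroup.center G)) = ⊥ := by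
  rw [eq_bot_iff]
  rintro q ⟨⟨a, ha, rfl⟩, ⟨b, hb, hba⟩⟩
  have hz := (QuotientGroup.eq (s := Subgroup.center G)).1 hba
  have hbA : b ∈ A := by
    have := mul_mem ha (inv_mem (hA hz))
    simpa using this
  rw [← hba]
  exact Subgroup.mem_bot.2 ((QuotientGroup.eq_one_iff b).2 (h ⟨hbA, hb⟩))

theorem Setup.main (S : Setup G m n x y) :
    IsMulCommutative (Subgroup.centralizer ({x} : Set G)) ∧
    IsMulCommutative (Subgroup.centralizer ({y} : Set G)) ∧
    Cfsg.IsFrobeniusComplement
      ((Subgroup.centralizer ({y} : Set G)).map (QuotientGroup.mk' (Subgroup.center G))) ∧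
    Cfsg.frobeniusKernel
        ((Subgroup.centralizer ({y} : Set G)).map (QuotientGroup.mk' (Subgroup.center G))) =
      ((Subgroup.centralizer ({x} : Set G)).map (QuotientGroup.mk' (Subgroup.center G)) :
        Set (G ⧸ Subgroup.center G)) := by
  classical
  set T := Subgroup.centralizer ({y} : Set G) with hT
  have hm0 : 0 < m := by have := S.hmn; omega
  have hn0 : 0 < n := by have := S.hn; omega
  have hTle : ∀ w ∈ T, T ≤ Subgroup.centralizer ({w} : Set G) :=
    fun w hw v hv => mem_cent.2 (S.comm_y w hw v hv)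
  have hCT : ∀ w ∈ T, w ∉ Subgroup.center G → Subgroup.centralizer ({w} : Set G) = T :=
    fun w hw hwZ => S.cent_eq_of_le S.hy hwZ (hTle w hw)
  -- any element of index `n` has centraliser meeting `T` centrally
  have hnT : ∀ u : G, idx u = n → Subgroup.centralizer ({u} : Set G) ⊓ T ≤ Subgroup.center G := by
    rintro u hu w ⟨hwu, hwT⟩
    by_contra hwZ
    have huT : u ∈ T := by
      rw [← hCT w hwT hwZ]; exact mem_cent.2 (mem_cent.1 hwu).symm
    have huZ : u ∉ Subgroup.center G := by rw [← idx_eq_one, hu]; have := S.hn; omega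
    have := hCT u huT huZ
    rw [idx, this] at hu
    have h2 := S.hy
    rw [idx] at h2
    have := S.hmn
    simp only [hT] at hu
    omega
  -- orders
  have hcopxy : (idx x).Coprime (idx y) := by rw [S.hx, S.hy]; exact S.hcop.symm
  have hD : (Subgroup.centralizer ({x} : Set G) ⊓ T).index = n * m := by
    rw [hT, idx_mul_coprime hcopxy, S.hx, S.hy]
  have hZi : (Subgroup.center G).index = n * m := by
    rw [← hD]
    congr 1
    exact le_antisymm (le_inf (center_le_cent x) (center_le_cent y)) (hnT x S.hx)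
  set mk := QuotientGroup.mk' (Subgroup.center G)
  have hcard : ∀ u : G, Nat.card ((Subgroup.centralizer ({u} : Set G)).map mk) * idx u = n * m := by
    intro u
    rw [← hZi, ← Subgroup.relIndex_ker, QuotientGroup.ker_mk']
    exact Subgroup.relIndex_mul_index (center_le_cent u)
  set H := T.map mk with hH
  have hHcard : Nat.card H = n := by
    have := hcard y
    rw [S.hy] at this
    exact Nat.eq_of_mul_eq_mul_right hm0 this
  have hGbar : Nat.card (G ⧸ Subgroup.center G) = n * m := hZi
  have hHidx : H.index = m := by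
    have := H.card_mul_index
    rw [hHcard, hGbar] at this
    exact Nat.eq_of_mul_eq_mul_left hn0 this
  -- a conjugate meeting `T` normalises it
  have hconj : ∀ g w : G, w ∈ T → g⁻¹ * w * g ∈ T → w ∉ Subgroup.center G → g ∈ T := by
    intro g w hw hw' hwZ
    have hw'Z : g⁻¹ * w * g ∉ Subgroup.center G := fun hz => hwZ (by
      have := (Subgroup.center G).mul_mem hz (one_mem _)
      rw [mul_one] at this
      have h1 := center_commute this g
      have h2 : w = g⁻¹ * w * g := by
        calc w = g * (g⁻¹ * w * g) * g⁻¹ := by group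
          _ = g⁻¹ * w * g := by rw [← h1.eq, mul_inv_cancel_right]
      rw [h2]; exact this)
    have hC1 := hCT w hw hwZ
    have hC2 := hCT _ hw' hw'Z
    have hgN : g ∈ Subgroup.normalizer (T : Set G) := by
      rw [Subgroup.mem_normalizer_iff]
      intro k
      conv_lhs => rw [← hC2]
      conv_rhs => rw [← hC1]
      rw [mem_cent, mem_cent]
      rw [← Commute.conj_iff g]
      have : g * (g⁻¹ * w * g) * g⁻¹ = w := by group
      rw [this]
    -- `g` is a product of an element of `C(x)` and one of `T`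
    obtain ⟨h, hh, s, hs, rfl⟩ := exists_mul_eq hcopxy g
    have hhN : h ∈ Subgroup.normalizer (T : Set G) := by
      have := mul_mem hgN (inv_mem (Subgroup.le_normalizer hs))
      rwa [mul_inv_cancel_right] at this
    suffices h ∈ Subgroup.center G from mul_mem (center_le_cent y this) hs
    by_contra hhZ
    -- the index of `h`
    have hint : Subgroup.centralizer ({h} : Set G) ⊓ T ≤ Subgroup.center G := by
      rintro v ⟨hvh, hvT⟩
      by_contra hvZ
      have hhT : h ∈ T := by
        rw [← hCT v hvT hvZ]; exact mem_cent.2 (mem_cent.1 hvh).symm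
      exact hhZ (hnT x S.hx ⟨hh, hhT⟩)
    have hle : n * m ≤ idx h * m := by
      rw [← hZi]
      calc (Subgroup.center G).index ≤ (Subgroup.centralizer ({h} : Set G) ⊓ T).index :=
            Nat.le_of_dvd (Nat.pos_of_ne_zero Subgroup.index_ne_zero_of_finite)
              (Subgroup.index_dvd_of_le hint)
        _ ≤ idx h * T.index := Subgroup.index_inf_le
        _ = idx h * m := by rw [show T.index = m from S.hy]
    have hhn : n ≤ idx h := Nat.le_of_mul_le_mul_right hle hm0
    have hhm : idx h ≠ m := by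
      intro he
      have h1 := hcard h
      rw [he] at h1
      have h2 : Nat.card ((Subgroup.centralizer ({h} : Set G)).map mk) = n :=
        Nat.eq_of_mul_eq_mul_right hm0 h1
      have h3 : Nat.card ((Subgroup.centralizer ({x} : Set G)).map mk) = m := by
        have := hcard x
        rw [S.hx, mul_comm n m] at this
        exact Nat.eq_of_mul_eq_mul_right hn0 this
      have h4 : mk h ∈ (Subgroup.centralizer ({h} : Set G)).map mk ⊓
          (Subgroup.centralizer ({x} : Set G)).map mk :=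
        ⟨Subgroup.mem_map_of_mem _ (mem_cent.2 (Commute.refl h)), Subgroup.mem_map_of_mem _ hh⟩
      rw [Subgroup.inf_eq_bot_of_coprime (by rw [h2, h3]; exact S.hcop.symm), Subgroup.mem_bot] at h4
      exact hhZ ((QuotientGroup.eq_one_iff h).1 h4)
    have hhidx : idx h = n := le_antisymm (S.hsec h hhm) hhn
    have hNh : Nat.card (nSub h) ∣ m :=
      S.hy ▸ nSub_dvd (by rw [hhidx, S.hy]; exact S.hcop.symm) (S.hy.symm ▸ S.htop _)
    set c := h⁻¹ * (w * h * w⁻¹) with hc
    have hcT : c ∈ T := by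
      have h1 : h⁻¹ * w * h ∈ T := by
        have := (Subgroup.mem_normalizer_iff.1 (inv_mem hhN) w).1 hw
        simpa using this
      have := mul_mem h1 (inv_mem hw)
      rwa [show h⁻¹ * w * h * w⁻¹ = c by rw [hc]; group] at this
    have hcN : c ∈ nSub h := mem_nSub h w
    have hcZ : c ∈ Subgroup.center G := by
      have hp : mk c ^ n = 1 := by
        have := pow_card_eq_one' (G := H) (x := ⟨mk c, Subgroup.mem_map_of_mem _ hcT⟩)
        rw [hHcard] at this
        simpa using congrArg Subtype.val this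
      rw [← map_pow] at hp
      exact exists_central_pow_eq hcN ((S.hcop.coprime_dvd_left hNh).symm)
        ((QuotientGroup.eq_one_iff (c ^ n)).1 hp)
    have hco : (orderOf c).Coprime (idx h) := by
      rw [hhidx]
      exact (S.hcop.coprime_dvd_left hNh).coprime_dvd_left (Subgroup.orderOf_dvd_natCard _ hcN)
    have hwh := cent_of_central_comm (h := w) (a := h) hcZ (by rw [hc]; group) hco
    exact hwZ (hint ⟨hwh, hw⟩)
  have hFC : Cfsg.IsFrobeniusComplement H := by
    refine ⟨?_, ?_, ?_⟩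
    · intro hb
      rw [hb, Subgroup.card_bot] at hHcard
      have := S.hn; omega
    · intro htop
      rw [htop, Subgroup.index_top] at hHidx
      have := S.hmn; have := S.hn; omega
    · intro q hq
      obtain ⟨g, rfl⟩ := QuotientGroup.mk'_surjective (Subgroup.center G) q
      rw [eq_bot_iff]
      rintro z ⟨hz1, hz2⟩
      replace hz2 : z ∈ MulAut.conj (QuotientGroup.mk' (Subgroup.center G) g) • H := hz2
      rw [Subgroup.mem_pointwise_smul_iff_inv_smul_mem] at hz2
      obtain ⟨w, hw, rfl⟩ := Subgroup.mem_map.1 hz1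
      obtain ⟨w', hw', hw'e⟩ := Subgroup.mem_map.1 hz2
      rw [Subgroup.mem_bot]
      by_contra hne
      have hwZ : w ∉ Subgroup.center G := fun h => hne ((QuotientGroup.eq_one_iff w).2 h)
      have hmem : g⁻¹ * w * g ∈ T := by
        have h1 : mk (g⁻¹ * w * g) = mk w' := by
          rw [hw'e]
          simp [MulAut.smul_def, MulAut.conj_inv_apply, mk, map_mul, map_inv]
        have h2 := (QuotientGroup.eq (s := Subgroup.center G)).1 h1.symm
        have := mul_mem hw' (center_le_cent y h2)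
        simpa using this
      exact hq (Subgroup.mem_map_of_mem _ (hconj g w hw hmem hwZ))
  have hker : ∀ u : G, idx u = n → Cfsg.frobeniusKernel H =
      ((Subgroup.centralizer ({u} : Set G)).map mk : Set (G ⧸ Subgroup.center G)) := by
    intro u hu
    symm
    apply Set.eq_of_subset_of_ncard_le ?_ ?_ (Set.toFinite _)
    · intro q hq
      by_cases h1 : q = 1
      · exact Or.inl h1
      refine Or.inr fun r hr => h1 ?_
      obtain ⟨v, hv, rfl⟩ := Subgroup.mem_map.1 hq
      obtain ⟨g, rfl⟩ := QuotientGroup.mk'_surjective (Subgroup.center G) r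
      rw [Subgroup.mem_pointwise_smul_iff_inv_smul_mem] at hr
      obtain ⟨w', hw', hw'e⟩ := Subgroup.mem_map.1 hr
      have hgv : g⁻¹ * v * g ∈ T := by
        have h1 : mk (g⁻¹ * v * g) = mk w' := by
          rw [hw'e]
          simp [MulAut.smul_def, MulAut.conj_inv_apply, mk, map_mul, map_inv]
        have h2 := (QuotientGroup.eq (s := Subgroup.center G)).1 h1.symm
        have := mul_mem hw' (center_le_cent y h2)
        simpa using this
      have hu' : idx (g⁻¹ * u * g) = n := by
        rw [← hu]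
        rw [← card_class, ← card_class]
        refine Nat.card_congr (Equiv.setCongr ?_)
        ext c
        exact ⟨fun ⟨k, hk⟩ => ⟨k * g⁻¹, by rw [← hk]; group⟩, fun ⟨k, hk⟩ => ⟨k * g, by rw [← hk]; group⟩⟩
      have hcv : g⁻¹ * v * g ∈ Subgroup.centralizer ({g⁻¹ * u * g} : Set G) := by
        rw [mem_cent]
        have := (Commute.conj_iff g⁻¹).2 (mem_cent.1 hv)
        simpa using this
      have hz := hnT _ hu' ⟨hcv, hgv⟩
      refine (QuotientGroup.eq_one_iff v).2 ?_
      have := (Subgroup.center G).mul_mem hz (one_mem _)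
      have h3 := center_commute hz g
      have h4 : v = g⁻¹ * v * g := by
        calc v = g * (g⁻¹ * v * g) * g⁻¹ := by group
          _ = g⁻¹ * v * g := by rw [← h3.eq, mul_inv_cancel_right]
      rw [h4]; exact hz
    · rw [← Nat.card_coe_set_eq, ← Nat.card_coe_set_eq, card_frobeniusKernel hFC, hHidx]
      have := hcard u
      rw [hu, mul_comm n m] at this
      exact (Nat.eq_of_mul_eq_mul_right hn0 this).ge
  refine ⟨⟨⟨fun a b => Subtype.ext ?_⟩⟩, ⟨⟨fun a b => Subtype.ext (S.comm_y _ a.2 _ b.2).eq⟩⟩,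
    hFC, hker x S.hx⟩
  show (a : G) * b = b * a
  by_cases hbZ : (b : G) ∈ Subgroup.center G
  · exact ((center_commute hbZ (a : G)).eq).symm
  have hbT : Subgroup.centralizer ({(b : G)} : Set G) ⊓ T ≤ Subgroup.center G := by
    rintro v ⟨hvb, hvT⟩
    by_contra hvZ
    have : (b : G) ∈ T := by
      rw [← hCT v hvT hvZ]; exact mem_cent.2 (mem_cent.1 hvb).symm
    exact hbZ (hnT x S.hx ⟨b.2, this⟩)
  have hle : n * m ≤ idx (b : G) * m := by
    rw [← hZi]
    calc (Subgroup.center G).index ≤ (Subgroup.centralizer ({(b : G)} : Set G) ⊓ T).index :=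
          Nat.le_of_dvd (Nat.pos_of_ne_zero Subgroup.index_ne_zero_of_finite)
            (Subgroup.index_dvd_of_le hbT)
      _ ≤ idx (b : G) * T.index := Subgroup.index_inf_le
      _ = idx (b : G) * m := by rw [show T.index = m from S.hy]
  have hbn : n ≤ idx (b : G) := Nat.le_of_mul_le_mul_right hle hm0
  have hbm : idx (b : G) ≠ m := by
    intro he
    have h2 : Nat.card ((Subgroup.centralizer ({(b : G)} : Set G)).map mk) = n := by
      have h1 := hcard b
      rw [he] at h1
      exact Nat.eq_of_mul_eq_mul_right hm0 h1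
    have h3 : Nat.card ((Subgroup.centralizer ({x} : Set G)).map mk) = m := by
      have := hcard x
      rw [S.hx, mul_comm n m] at this
      exact Nat.eq_of_mul_eq_mul_right hn0 this
    have h4 : mk (b : G) ∈ (Subgroup.centralizer ({(b : G)} : Set G)).map mk ⊓
        (Subgroup.centralizer ({x} : Set G)).map mk :=
      ⟨Subgroup.mem_map_of_mem _ (mem_cent.2 (Commute.refl _)), Subgroup.mem_map_of_mem _ b.2⟩
    rw [Subgroup.inf_eq_bot_of_coprime (by rw [h2, h3]; exact S.hcop.symm), Subgroup.mem_bot] at h4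
    exact hbZ ((QuotientGroup.eq_one_iff _).1 h4)
  have hbeq := hker b (le_antisymm (S.hsec _ hbm) hbn)
  rw [hker x S.hx] at hbeq
  have ha : mk (a : G) ∈ (Subgroup.centralizer ({(b : G)} : Set G)).map mk := by
    have h0 : mk (a : G) ∈ (((Subgroup.centralizer ({x} : Set G)).map mk :
        Subgroup (G ⧸ Subgroup.center G)) : Set (G ⧸ Subgroup.center G)) :=
      Subgroup.mem_map_of_mem _ a.2
    rw [hbeq] at h0
    exact h0
  obtain ⟨v, hv, hve⟩ := Subgroup.mem_map.1 ha
  have hz := (QuotientGroup.eq (s := Subgroup.center G)).1 hve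
  have := mem_cent.1 (mul_mem hv (center_le_cent _ hz))
  rw [mul_inv_cancel_left] at this
  exact this.symm.eq

end core

/-- Let G be a finite group whose two largest conjugacy class sizes m > n > 1 are coprime, and let x, y ∈ G have classes of sizes n and m respectively. Then C_G(x) and C_G(y) are abelian, and G/Z(G) is a Frobenius group with kernel C_G(x)/Z(G) and complement C_G(y)/Z(G). -/
theorem result {G : Type*} [Group G] [Finite G] (m n : ℕ) (hmn : n < m) (hn : 1 < n)
    (hcop : m.Coprime n) (htop : ∀ z : G, (Subgroup.centralizer ({z} : Set G)).index ≤ m) (hsecond : ∀ z : G, (Subgroup.centralizer ({z} : Set G)).index < m → (Subgroup.centralizer ({z} : Set G)).index ≤ n)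
    (x y : G) (hx : (Subgroup.centralizer ({x} : Set G)).index = n) (hy : (Subgroup.centralizer ({y} : Set G)).index = m) :
    IsMulCommutative (Subgroup.centralizer ({x} : Set G)) ∧ IsMulCommutative (Subgroup.centralizer ({y} : Set G)) ∧
    Cfsg.IsFrobeniusComplement ((Subgroup.centralizer ({y} : Set G)).map (QuotientGroup.mk' (Subgroup.center G))) ∧
    Cfsg.frobeniusKernel ((Subgroup.centralizer ({y} : Set G)).map (QuotientGroup.mk' (Subgroup.center G))) =
      ((Subgroup.centralizer ({x} : Set G)).map (QuotientGroup.mk' (Subgroup.center G)) : Set (G ⧸ Subgroup.center G)) := by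
  exact Setup.main ⟨hmn, hn, hcop, htop, fun z hz => hsecond z (lt_of_le_of_ne (htop z) hz), hx, hy⟩

end Cfsg.Agent.S4138
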