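import Cfsg.Statements.S4139
import Mathlib

set_option linter.style.haveILetI false

set_option autoImplicit false
open Cfsg

namespace Cfsg.Agent.S4139

open scoped Pointwise

section
variable {G : Type*} [Group G] [Finite G]

noncomputable abbrev idx (x : G) : ℕ := (Subgroup.centralizer ({x} : Set G)).index

omit [Finite G] in
theorem mem_cent {x g : G} : g ∈ Subgroup.centralizer ({x} : Set G) ↔ x * g = g * x := by
  simp [Subgroup.mem_centralizer_iff]

omit [Finite G] in
theorem idx_eq_one {x : G} : idx x = 1 ↔ x ∈ Subgroup.center G := by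
  rw [idx, Subgroup.index_eq_one, Subgroup.centralizer_eq_top_iff_subset, Set.singleton_subset_iff]
  rfl

theorem idx_eq_card_carrier (x : G) : idx x = Nat.card (ConjClasses.mk x).carrier := by
  have h1 := MulAction.index_stabilizer (ConjAct G) x
  rw [ConjAct.orbit_eq_carrier_conjClasses] at h1
  rw [idx, Subgroup.centralizer_eq_comap_stabilizer]
  exact (Subgroup.index_comap_of_surjective _ (f := ConjAct.toConjAct.toMonoidHom)
    (ConjAct.toConjAct (G := G)).surjective).trans (h1.trans (Nat.card_coe_set_eq _).symm)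

omit [Finite G] in
theorem card_mul_rel {H K : Subgroup G} (h : H ≤ K) :
    Nat.card H * H.relIndex K = Nat.card K := by
  rw [← Subgroup.relIndex_bot_left, ← Subgroup.relIndex_bot_left]
  exact Subgroup.relIndex_mul_relIndex _ _ _ bot_le h

theorem dvd_idx_of_cent_le {x y : G}
    (h : Subgroup.centralizer ({x} : Set G) ≤ Subgroup.centralizer ({y} : Set G)) : idx y ∣ idx x :=
  Subgroup.index_dvd_of_le h

omit [Finite G] in
theorem cent_le_pow (x : G) (k : ℕ) :
    Subgroup.centralizer ({x} : Set G) ≤ Subgroup.centralizer ({x ^ k} : Set G) := by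
  intro g hg
  rw [mem_cent] at hg ⊢
  exact (Commute.pow_left hg k).eq

omit [Finite G] in
theorem cent_mul_center (x : G) {z : G} (hz : z ∈ Subgroup.center G) :
    Subgroup.centralizer ({x * z} : Set G) = Subgroup.centralizer ({x} : Set G) := by
  ext g
  rw [mem_cent, mem_cent]
  have := Subgroup.mem_center_iff.1 hz g
  constructor
  · intro h
    apply mul_right_cancel (b := z)
    calc x * g * z = x * z * g := by rw [mul_assoc, this, ← mul_assoc]
      _ = g * (x * z) := h
      _ = g * x * z := by rw [mul_assoc]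
  · intro h
    rw [mul_assoc, ← this, ← mul_assoc, h, mul_assoc]

/-- A prime to the index means some Sylow subgroup centralises. -/
theorem exists_sylow_cent (p : ℕ) [Fact p.Prime] {x : G} (hx : ¬ p ∣ idx x) :
    ∃ P : Sylow p G, (P : Subgroup G) ≤ Subgroup.centralizer ({x} : Set G) := by
  set C := Subgroup.centralizer ({x} : Set G)
  obtain ⟨Q⟩ : Nonempty (Sylow p C) := inferInstance
  have hcard : Nat.card ((Q : Subgroup C).map C.subtype) = p ^ (Nat.card G).factorization p := by
    rw [Subgroup.card_map_of_injective C.subtype_injective, Sylow.card_eq_multiplicity,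
      ← C.card_mul_index, Nat.factorization_mul Nat.card_pos.ne' C.index_ne_zero_of_finite,
      Finsupp.add_apply, Nat.factorization_eq_zero_of_not_dvd hx, add_zero]
  exact ⟨Sylow.ofCard _ hcard, Subgroup.map_subtype_le _⟩

theorem not_dvd_idx_of_sylow (p : ℕ) [Fact p.Prime] {x : G} (P : Sylow p G)
    (h : (P : Subgroup G) ≤ Subgroup.centralizer ({x} : Set G)) : ¬ p ∣ idx x := fun hd =>
  P.not_dvd_index (hd.trans (Subgroup.index_dvd_of_le h))

/-- If all `p`-elements of `p'`-index are central, the fixed points count is prime to `p`. -/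
theorem not_dvd_of_pelt_central (p : ℕ) [Fact p.Prime] (K : Subgroup G)
    (h : ∀ u ∈ K, (∃ n : ℕ, u ^ p ^ n = 1) → u ∈ Subgroup.center G) :
    ¬ p ∣ Nat.card (K.map (QuotientGroup.mk' (Subgroup.center G))) := by
  intro hd
  obtain ⟨⟨c, hcK⟩, hc⟩ := exists_prime_orderOf_dvd_card' p hd
  obtain ⟨g, hgK, rfl⟩ := Subgroup.mem_map.1 hcK
  set a := orderOf g
  have ha : a ≠ 0 := (orderOf_pos g).ne'
  have hu : g ^ (ordCompl[p] a) ∈ Subgroup.center G := by
    refine h _ (pow_mem hgK _) ⟨a.factorization p, ?_⟩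
    rw [← pow_mul, mul_comm, Nat.ordProj_mul_ordCompl_eq_self]
    exact pow_orderOf_eq_one g
  have h1 : orderOf (QuotientGroup.mk' (Subgroup.center G) g) = p := by
    rw [← hc]; exact (Subgroup.orderOf_mk _ _).symm
  have h2 : p ∣ ordCompl[p] a := by
    refine (dvd_of_eq h1.symm).trans (orderOf_dvd_of_pow_eq_one ?_)
    rw [← map_pow]
    exact (QuotientGroup.eq_one_iff (g ^ (ordCompl[p] a))).2 hu
  exact Nat.not_dvd_ordCompl Fact.out ha h2

theorem _root_.Cfsg.Agent.S4139.nonempty_equiv_of_card {α β : Type*} [Finite α] [Finite β]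
    (h : Nat.card α = Nat.card β) : Nonempty (α ≃ β) := by
  haveI := Fintype.ofFinite α; haveI := Fintype.ofFinite β
  exact ⟨Fintype.equivOfCardEq (by simpa [Nat.card_eq_fintype_card] using h)⟩

def sSet (G : Type*) [Group G] (p : ℕ) : Set G := {x | ¬ p ∣ idx x}

def tSet (G : Type*) [Group G] (p : ℕ) : Set G := {x | ∀ q : ℕ, q.Prime → q ≠ p → ¬ q ∣ idx x}

def sBar (G : Type*) [Group G] (p : ℕ) : Set (G ⧸ Subgroup.center G) :=
  QuotientGroup.mk '' sSet G p

omit [Finite G] in
theorem mem_sSet_mul (p : ℕ) {x z : G} (hz : z ∈ Subgroup.center G) :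
    x * z ∈ sSet G p ↔ x ∈ sSet G p := by
  unfold sSet
  simp only [Set.mem_setOf_eq, idx, cent_mul_center x hz]

theorem card_sSet (p : ℕ) :
    Nat.card (sSet G p) = Nat.card (Subgroup.center G) * Nat.card (sBar G p) := by
  have : sSet G p = QuotientGroup.mk ⁻¹' sBar G p := by
    ext x
    constructor
    · exact fun hx => ⟨x, hx, rfl⟩
    · rintro ⟨y, hy, hxy⟩
      have hz := QuotientGroup.eq.1 hxy
      rw [← mem_sSet_mul p hz] at hy
      simpa using hy
  conv_lhs => rw [this]
  rw [Nat.card_congr (QuotientGroup.preimageMkEquivSubgroupProdSet _ _), Nat.card_prod]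

theorem mem_sSet_conj (p : ℕ) (g : G) {x : G} (hx : x ∈ sSet G p) : g * x * g⁻¹ ∈ sSet G p := by
  have : idx (g * x * g⁻¹) = idx x := by
    rw [idx_eq_card_carrier, idx_eq_card_carrier]
    have : ConjClasses.mk (g * x * g⁻¹) = ConjClasses.mk x :=
      (ConjClasses.mk_eq_mk_iff_isConj.2 (isConj_iff.2 ⟨g, rfl⟩)).symm
    rw [this]
  unfold sSet
  simp only [Set.mem_setOf_eq, this]
  exact hx

theorem sBar_conj (p : ℕ) (g : G) {c : G ⧸ Subgroup.center G} (hc : c ∈ sBar G p) :
    (g : G ⧸ Subgroup.center G) * c * (g : G ⧸ Subgroup.center G)⁻¹ ∈ sBar G p := by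
  obtain ⟨x, hx, rfl⟩ := hc
  exact ⟨g * x * g⁻¹, mem_sSet_conj p g hx, by simp⟩

/-- Counting modulo `p` the set of elements of `p'`-index modulo the centre. -/
theorem sBar_modEq (p : ℕ) [Fact p.Prime] (P : Sylow p G) :
    Nat.card (sBar G p) ≡
      Nat.card ((Subgroup.centralizer ((P : Subgroup G) : Set G)).map
        (QuotientGroup.mk' (Subgroup.center G))) [MOD p] := by
  let act : MulAction (P : Subgroup G) (sBar G p) :=
    { smul := fun h c => ⟨((h : G) : G ⧸ Subgroup.center G) * c.1 * ((h : G) : G ⧸ Subgroup.center G)⁻¹,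
        sBar_conj (G := G) p (h : G) c.2⟩
      one_smul := fun c => Subtype.ext (by
        show ((((1 : (P : Subgroup G)) : G)) : G ⧸ Subgroup.center G) * c.1 *
          ((((1 : (P : Subgroup G)) : G)) : G ⧸ Subgroup.center G)⁻¹ = c.1
        simp)
      mul_smul := fun g h c => Subtype.ext (by
        show (((g * h : (P : Subgroup G)) : G) : G ⧸ Subgroup.center G) * c.1 *
          (((g * h : (P : Subgroup G)) : G) : G ⧸ Subgroup.center G)⁻¹ =
          ((g : G) : G ⧸ Subgroup.center G) * (((h : G) : G ⧸ Subgroup.center G) * c.1 *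
            ((h : G) : G ⧸ Subgroup.center G)⁻¹) * ((g : G) : G ⧸ Subgroup.center G)⁻¹
        simp [mul_assoc]) }
  refine (P.2.card_modEq_card_fixedPoints (sBar G p)).trans ?_
  refine congrArg (· % p) ?_
  refine Nat.card_eq_of_bijective
    (fun c : MulAction.fixedPoints (P : Subgroup G) (sBar G p) =>
      (⟨c.1.1, ?_⟩ : ((Subgroup.centralizer ((P : Subgroup G) : Set G)).map
        (QuotientGroup.mk' (Subgroup.center G))))) ⟨?_, ?_⟩
  · obtain ⟨⟨c, x, hx, hxc⟩, hfix⟩ := c
    subst hxc
    refine Subgroup.mem_map.2 ⟨x, ?_, rfl⟩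
    rw [Subgroup.mem_centralizer_iff]
    intro g hg
    set C := Subgroup.centralizer ({x} : Set G) with hC
    have h1 : ((g * x * g⁻¹ : G) : G ⧸ Subgroup.center G) = (x : G ⧸ Subgroup.center G) := by
      have := congrArg Subtype.val (hfix ⟨g, hg⟩)
      change ((g : G) : G ⧸ Subgroup.center G) * (x : G ⧸ Subgroup.center G) *
        ((g : G) : G ⧸ Subgroup.center G)⁻¹ = (x : G ⧸ Subgroup.center G) at this
      simpa using this
    have hz := QuotientGroup.eq.1 h1.symm
    have hcz : Subgroup.centralizer ({g * x * g⁻¹} : Set G) = C := by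
      conv_lhs => rw [show g * x * g⁻¹ = x * (x⁻¹ * (g * x * g⁻¹)) by group]
      exact cent_mul_center x hz
    have hnorm : g ∈ Subgroup.normalizer (C : Set G) := by
      rw [Subgroup.mem_normalizer_iff]
      intro k
      conv_rhs => rw [← hcz]
      rw [hC, mem_cent, mem_cent]
      constructor
      · intro hk
        calc g * x * g⁻¹ * (g * k * g⁻¹) = g * (x * k) * g⁻¹ := by group
          _ = g * (k * x) * g⁻¹ := by rw [hk]
          _ = g * k * g⁻¹ * (g * x * g⁻¹) := by group
      · intro hk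
        calc x * k = g⁻¹ * (g * x * g⁻¹ * (g * k * g⁻¹)) * g := by group
          _ = g⁻¹ * (g * k * g⁻¹ * (g * x * g⁻¹)) * g := by rw [hk]
          _ = k * x := by group
    set M := Subgroup.normalizer (C : Set G)
    obtain ⟨n, hn⟩ := P.2 ⟨g, hg⟩
    have hpow : g ^ p ^ n = 1 := by simpa using congrArg Subtype.val hn
    have hCM : C ≤ M := Subgroup.le_normalizer
    haveI : (C.subgroupOf M).Normal := Subgroup.normal_in_normalizer
    have hrel : ¬ p ∣ Nat.card (M ⧸ C.subgroupOf M) := by
      intro hd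
      exact hx (hd.trans (Subgroup.relIndex_dvd_index_of_le hCM))
    have hq : orderOf (QuotientGroup.mk' (C.subgroupOf M) ⟨g, hnorm⟩) ∣ p ^ n := by
      refine orderOf_dvd_of_pow_eq_one ?_
      rw [← map_pow]
      have : (⟨g, hnorm⟩ : M) ^ p ^ n = 1 := Subtype.ext (by simpa using hpow)
      rw [this, map_one]
    have hq1 : orderOf (QuotientGroup.mk' (C.subgroupOf M) ⟨g, hnorm⟩) = 1 :=
      Nat.eq_one_of_dvd_coprimes
        (Nat.Coprime.pow_left n ((Fact.out : p.Prime).coprime_iff_not_dvd.2 hrel)) hq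
        (orderOf_dvd_natCard _)
    rw [orderOf_eq_one_iff] at hq1
    have := (QuotientGroup.eq_one_iff _).1 hq1
    rw [Subgroup.mem_subgroupOf, hC, mem_cent] at this
    exact this.symm
  · intro c d hcd
    exact Subtype.ext (Subtype.ext (congrArg (fun t : ((Subgroup.centralizer ((P : Subgroup G) : Set G)).map
        (QuotientGroup.mk' (Subgroup.center G))) => (t : G ⧸ Subgroup.center G)) hcd))
  · rintro ⟨c, hc⟩
    obtain ⟨x, hx, rfl⟩ := Subgroup.mem_map.1 hc
    have hPx : (P : Subgroup G) ≤ Subgroup.centralizer ({x} : Set G) := fun g hg =>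
      mem_cent.2 (Subgroup.mem_centralizer_iff.1 hx g hg).symm
    refine ⟨⟨⟨_, x, not_dvd_idx_of_sylow p P hPx, rfl⟩, fun g => Subtype.ext ?_⟩, rfl⟩
    show ((g : G) : G ⧸ Subgroup.center G) * (x : G ⧸ Subgroup.center G) *
      ((g : G) : G ⧸ Subgroup.center G)⁻¹ = (x : G ⧸ Subgroup.center G)
    rw [← QuotientGroup.mk_mul, ← QuotientGroup.mk_inv, ← QuotientGroup.mk_mul,
      Subgroup.mem_centralizer_iff.1 hx g g.2]
    simp

theorem card_sup_center (O : Subgroup G) :
    Nat.card (O ⊔ Subgroup.center G : Subgroup G) * Nat.card (O ⊓ Subgroup.center G : Subgroup G) =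
      Nat.card O * Nat.card (Subgroup.center G) := by
  have h1 := card_mul_rel (H := Subgroup.center G) (K := O ⊔ Subgroup.center G) le_sup_right
  have h2 := card_mul_rel (H := O ⊓ Subgroup.center G) (K := O) inf_le_left
  rw [Subgroup.relIndex_sup_right] at h1
  rw [Subgroup.inf_relIndex_left] at h2
  rw [← h1, ← h2]; ring

theorem pow_ordCompl_mem_sylow_core (p : ℕ) [Fact p.Prime] {u : G}
    (hu : ∃ n : ℕ, u ^ p ^ n = 1) (ht : u ∈ tSet G p) :
    ∃ P : Sylow p G, u ∈ (P : Subgroup G).normalCore := by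
  obtain ⟨n, hn⟩ := hu
  have hup : IsPGroup p (Subgroup.zpowers u) := by
    rintro ⟨y, hy⟩
    obtain ⟨k, rfl⟩ := Subgroup.mem_zpowers_iff.1 hy
    refine ⟨n, Subtype.ext ?_⟩
    show (u ^ k) ^ p ^ n = 1
    rw [← zpow_natCast, ← zpow_mul, mul_comm, zpow_mul, zpow_natCast, hn, one_zpow]
  obtain ⟨P, hP⟩ := hup.exists_le_sylow
  have huP : u ∈ (P : Subgroup G) := hP (Subgroup.mem_zpowers u)
  set C := Subgroup.centralizer ({u} : Set G)
  have hidx : C.index = p ^ (C.index.factorization p) := by
    have := Nat.eq_prime_pow_of_unique_prime_dvd (p := p) C.index_ne_zero_of_finite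
      (fun {d} hd hdd => by
        by_contra hne
        exact ht d hd hne hdd)
    conv_lhs => rw [this]
    conv_rhs => rw [this, Nat.Prime.factorization_pow Fact.out, Finsupp.single_eq_same]
  have hrel : C.index ≤ C.relIndex P := by
    have h1 := card_mul_rel (H := C ⊓ (P : Subgroup G)) (K := (P : Subgroup G)) inf_le_right
    rw [Subgroup.inf_relIndex_right] at h1
    have h2 : Nat.card (C ⊓ (P : Subgroup G) : Subgroup G) ≤ p ^ (Nat.card C).factorization p := by
      obtain ⟨k, hk⟩ := IsPGroup.iff_card.1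
        (P.2.to_le (inf_le_right : C ⊓ (P : Subgroup G) ≤ P))
      have hd : p ^ k ∣ Nat.card C := hk ▸ Subgroup.card_dvd_of_le inf_le_left
      rw [hk]
      exact Nat.pow_le_pow_right (Fact.out : p.Prime).pos
        ((Nat.Prime.pow_dvd_iff_le_factorization Fact.out Nat.card_pos.ne').1 hd)
    have h3 : Nat.card (P : Subgroup G) = p ^ (Nat.card C).factorization p * C.index := by
      rw [P.card_eq_multiplicity, ← C.card_mul_index,
        Nat.factorization_mul Nat.card_pos.ne' C.index_ne_zero_of_finite, Finsupp.add_apply,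
        pow_add, ← hidx]
    by_contra hlt
    push Not at hlt
    have h4 : C.relIndex P * Nat.card (C ⊓ (P : Subgroup G) : Subgroup G) <
        C.index * p ^ (Nat.card C).factorization p :=
      Nat.mul_lt_mul_of_lt_of_le hlt h2 (pow_pos (Fact.out : p.Prime).pos _)
    rw [mul_comm, h1, h3, mul_comm] at h4
    exact lt_irrefl _ h4
  have hsurj : Function.Surjective (Subgroup.quotientSubgroupOfEmbeddingOfLE C (le_top : (P : Subgroup G) ≤ ⊤)) := by
    have hinj := (Subgroup.quotientSubgroupOfEmbeddingOfLE C (le_top : (P : Subgroup G) ≤ ⊤)).injective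
    refine ((Nat.bijective_iff_injective_and_card _).2 ⟨hinj, le_antisymm (Nat.card_le_card_of_injective _ hinj) ?_⟩).2
    calc Nat.card (↥(⊤ : Subgroup G) ⧸ C.subgroupOf ⊤) = C.index := Subgroup.relIndex_top_right C
      _ ≤ _ := hrel
  refine ⟨P, fun g => ?_⟩
  obtain ⟨q, hq⟩ := hsurj (QuotientGroup.mk ⟨g, Subgroup.mem_top g⟩)
  obtain ⟨⟨h, hh⟩, rfl⟩ := QuotientGroup.mk_surjective q
  rw [Subgroup.quotientSubgroupOfEmbeddingOfLE_apply_mk, QuotientGroup.eq] at hq
  rw [Subgroup.mem_subgroupOf, mem_cent] at hq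
  have hq' : u * (h⁻¹ * g) = h⁻¹ * g * u := hq
  have : g * u * g⁻¹ = h * u * h⁻¹ := by
    calc g * u * g⁻¹ = h * (h⁻¹ * g * u) * g⁻¹ := by group
      _ = h * (u * (h⁻¹ * g)) * g⁻¹ := by rw [hq']
      _ = h * u * h⁻¹ := by group
  rw [this]
  exact mul_mem (mul_mem hh huP) (inv_mem hh)

theorem sylow_normal_of_card (p : ℕ) [Fact p.Prime]
    (hs : ¬ p ∣ Nat.card (sBar G p))
    (hS : ∀ q : ℕ, q.Prime → ¬ q ∣ Nat.card (sBar G q))
    (hT : p ^ (Nat.card G).factorization p * Nat.card (Subgroup.center G) ≤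
      Nat.card (tSet G p) * p ^ (Nat.card (Subgroup.center G)).factorization p)
    (P : Sylow p G) : (P : Subgroup G).Normal := by
  -- `q`-elements of `q'`-index are central
  have hcent : ∀ q : ℕ, q.Prime → ∀ u : G, (∃ n : ℕ, u ^ q ^ n = 1) → ¬ q ∣ idx u →
      u ∈ Subgroup.center G := by
    intro q hq u ⟨n, hn⟩ hu
    haveI := Fact.mk hq
    obtain ⟨Q, hQ⟩ := exists_sylow_cent q hu
    have hmem : u ∈ Subgroup.centralizer ((Q : Subgroup G) : Set G) :=
      Subgroup.mem_centralizer_iff.2 fun g hg => (mem_cent.1 (hQ hg)).symm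
    set K := (Subgroup.centralizer ((Q : Subgroup G) : Set G)).map
      (QuotientGroup.mk' (Subgroup.center G))
    have hK : ¬ q ∣ Nat.card K := by
      intro hd
      exact hS q hq ((Nat.ModEq.dvd_iff (sBar_modEq q Q) dvd_rfl).2 hd)
    have h1 : orderOf (⟨QuotientGroup.mk' _ u, Subgroup.mem_map_of_mem _ hmem⟩ : K) = 1 := by
      refine Nat.eq_one_of_dvd_coprimes (Nat.Coprime.pow_left n (hq.coprime_iff_not_dvd.2 hK))
        (orderOf_dvd_of_pow_eq_one ?_) (orderOf_dvd_natCard _)
      apply Subtype.ext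
      show (QuotientGroup.mk' (Subgroup.center G) u) ^ q ^ n = 1
      rw [← map_pow, hn, map_one]
    rw [orderOf_eq_one_iff] at h1
    exact (QuotientGroup.eq_one_iff u).1 (congrArg Subtype.val h1)
  -- the core of a Sylow subgroup
  set O := (P : Subgroup G).normalCore
  have hcore : ∀ Q : Sylow p G, (Q : Subgroup G).normalCore = O := by
    intro Q
    have key : ∀ A B : Sylow p G, (A : Subgroup G).normalCore ≤ (B : Subgroup G).normalCore := by
      intro A B
      obtain ⟨g, hg⟩ := MulAction.exists_smul_eq G A B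
      haveI := Subgroup.normalCore_normal (A : Subgroup G)
      refine Subgroup.normal_le_normalCore.2 ?_
      intro x hx
      rw [← hg, Sylow.coe_subgroup_smul, Subgroup.mem_pointwise_smul_iff_inv_smul_mem]
      refine Subgroup.normalCore_le _ ?_
      have := (Subgroup.normalCore_normal (A : Subgroup G)).conj_mem x hx g⁻¹
      simpa using this
    exact le_antisymm (key Q P) (key P Q)
  have hsub : tSet G p ⊆ ((O ⊔ Subgroup.center G : Subgroup G) : Set G) := by
    intro x hx
    set a := orderOf x with ha0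
    have ha : a ≠ 0 := (orderOf_pos x).ne'
    set m := p ^ a.factorization p
    set k := ordCompl[p] a
    have hmk : m * k = a := Nat.ordProj_mul_ordCompl_eq_self a p
    have hu : x ^ k ∈ O := by
      obtain ⟨Q, hQ⟩ := pow_ordCompl_mem_sylow_core p
        (u := x ^ k) ⟨a.factorization p, by rw [← pow_mul, mul_comm, hmk]; exact pow_orderOf_eq_one x⟩
        (fun q hq hne hd => hx q hq hne (hd.trans (dvd_idx_of_cent_le (cent_le_pow x k))))
      exact hcore Q ▸ hQ
    have hy : x ^ m ∈ Subgroup.center G := by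
      set c := orderOf (QuotientGroup.mk' (Subgroup.center G) (x ^ m))
      suffices c = 1 from (QuotientGroup.eq_one_iff _).1 (orderOf_eq_one_iff.1 this)
      have hck : c ∣ k := by
        refine orderOf_dvd_of_pow_eq_one ?_
        rw [← map_pow, ← pow_mul, hmk, pow_orderOf_eq_one, map_one]
      by_contra hc1
      obtain ⟨q, hq, hqc⟩ := Nat.exists_prime_and_dvd hc1
      have hqp : q ≠ p := fun he => Nat.not_dvd_ordCompl Fact.out ha (he ▸ hqc.trans hck)
      set b := orderOf (x ^ m)
      have hb : b ≠ 0 := (orderOf_pos _).ne'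
      have hv : (x ^ m) ^ ordCompl[q] b ∈ Subgroup.center G := by
        refine hcent q hq _ ⟨b.factorization q, ?_⟩ ?_
        · rw [← pow_mul, mul_comm, Nat.ordProj_mul_ordCompl_eq_self]
          exact pow_orderOf_eq_one _
        · intro hd
          exact hx q hq hqp (hd.trans ((dvd_idx_of_cent_le (cent_le_pow (x ^ m) _)).trans
            (dvd_idx_of_cent_le (cent_le_pow x m))))
      have : c ∣ ordCompl[q] b := by
        refine orderOf_dvd_of_pow_eq_one ?_
        rw [← map_pow]
        exact (QuotientGroup.eq_one_iff _).2 hv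
      exact Nat.not_dvd_ordCompl hq hb (hqc.trans this)
    have hcop : m.Coprime k := Nat.Coprime.pow_left _ (Nat.coprime_ordCompl Fact.out ha)
    have hb := Nat.gcd_eq_gcd_ab m k
    rw [hcop.gcd_eq_one] at hb
    have hx' : x = (x ^ m) ^ Nat.gcdA m k * (x ^ k) ^ Nat.gcdB m k := by
      rw [← zpow_natCast, ← zpow_natCast, ← zpow_mul, ← zpow_mul, ← zpow_add, ← hb, Nat.cast_one,
        zpow_one]
    rw [hx']
    exact mul_mem (Subgroup.mem_sup_right (Subgroup.zpow_mem _ hy _))
      (Subgroup.mem_sup_left (Subgroup.zpow_mem _ hu _))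
  have hle : Nat.card (tSet G p) ≤ Nat.card (O ⊔ Subgroup.center G : Subgroup G) :=
    Nat.card_mono (Set.toFinite _) hsub
  -- the `p`-part of the centre lies in the core
  have hz : p ^ (Nat.card (Subgroup.center G)).factorization p ≤
      Nat.card (O ⊓ Subgroup.center G : Subgroup G) := by
    obtain ⟨R⟩ : Nonempty (Sylow p (Subgroup.center G)) := inferInstance
    rw [← R.card_eq_multiplicity,
      ← Subgroup.card_map_of_injective (Subgroup.center G).subtype_injective]
    refine Subgroup.card_le_of_le (le_inf ?_ (Subgroup.map_subtype_le _))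
    haveI hn : ((R : Subgroup _).map (Subgroup.center G).subtype).Normal :=
      ⟨fun x hx g => by
        have := Subgroup.mem_center_iff.1 (Subgroup.map_subtype_le _ hx) g
        rw [this, mul_inv_cancel_right]; exact hx⟩
    rw [Subgroup.normal_le_normalCore]
    obtain ⟨Q, hQ⟩ := (R.2.map (Subgroup.center G).subtype).exists_le_sylow
    obtain ⟨g, hg⟩ := MulAction.exists_smul_eq G Q P
    intro x hx
    rw [← hg, Sylow.coe_subgroup_smul, Subgroup.mem_pointwise_smul_iff_inv_smul_mem]
    apply hQ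
    have := hn.conj_mem x hx g⁻¹
    simpa using this
  have hO : p ^ (Nat.card G).factorization p ≤ Nat.card O := by
    refine Nat.le_of_mul_le_mul_right ?_ (Nat.card_pos (α := Subgroup.center G))
    calc _ ≤ _ := hT
      _ ≤ Nat.card (O ⊔ Subgroup.center G : Subgroup G) *
          Nat.card (O ⊓ Subgroup.center G : Subgroup G) := Nat.mul_le_mul hle hz
      _ = _ := card_sup_center O
  have hOP : O = (P : Subgroup G) :=
    Subgroup.eq_of_le_of_card_ge (Subgroup.normalCore_le _) (P.card_eq_multiplicity ▸ hO)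
  rw [← hOP]
  exact Subgroup.normalCore_normal _

theorem nilpotent_facts (hG : Group.IsNilpotent G) (p : ℕ) [Fact p.Prime] :
    ¬ p ∣ Nat.card (sBar G p) ∧
    p ^ (Nat.card G).factorization p * Nat.card (Subgroup.center G) ≤
      Nat.card (tSet G p) * p ^ (Nat.card (Subgroup.center G)).factorization p := by
  have hnorm : ∀ (q : ℕ), Fact q.Prime → ∀ Q : Sylow q G, (Q : Subgroup G).Normal :=
    fun q hq Q => ((Group.isNilpotent_of_finite_tfae (G := G)).out 0 3 rfl rfl).1 hG q hq Q
  have hcomm : ∀ (q : ℕ), q.Prime → q ≠ p → ∀ (P : Sylow p G) (u : G), u ∈ (P : Subgroup G) →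
      ¬ q ∣ idx u := by
    intro q hq hne P u hu
    haveI := Fact.mk hq
    obtain ⟨Q⟩ : Nonempty (Sylow q G) := inferInstance
    refine not_dvd_idx_of_sylow q Q fun g hg => mem_cent.2 ?_
    exact (Subgroup.commute_of_normal_of_disjoint _ _ (hnorm p inferInstance P) (hnorm q inferInstance Q)
      (IsPGroup.disjoint_of_ne _ _ hne.symm _ _ P.2 Q.2) u g hu hg).eq
  refine ⟨?_, ?_⟩
  · obtain ⟨P⟩ : Nonempty (Sylow p G) := inferInstance
    intro hd
    refine not_dvd_of_pelt_central p (Subgroup.centralizer ((P : Subgroup G) : Set G)) ?_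
      ((Nat.ModEq.dvd_iff (sBar_modEq p P) dvd_rfl).1 hd)
    intro u hu ⟨n, hn⟩
    rw [← idx_eq_one]
    by_contra h1
    obtain ⟨q, hq, hqd⟩ := Nat.exists_prime_and_dvd h1
    by_cases hqp : q = p
    · subst hqp
      exact not_dvd_idx_of_sylow q P
        (fun g hg => mem_cent.2 (Subgroup.mem_centralizer_iff.1 hu g hg).symm) hqd
    · haveI := hnorm p inferInstance P
      have huP : u ∈ (P : Subgroup G) := by
        have : orderOf (QuotientGroup.mk' (P : Subgroup G) u) = 1 := by
          refine Nat.eq_one_of_dvd_coprimes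
            (Nat.Coprime.pow_left n ((Fact.out : p.Prime).coprime_iff_not_dvd.2 P.not_dvd_index))
            (orderOf_dvd_of_pow_eq_one (by rw [← map_pow, hn, map_one])) (orderOf_dvd_natCard _)
        exact (QuotientGroup.eq_one_iff u).1 (orderOf_eq_one_iff.1 this)
      exact hcomm q hq hqp P u huP hqd
  · obtain ⟨P⟩ : Nonempty (Sylow p G) := inferInstance
    have hsub : ((((P : Subgroup G) ⊔ Subgroup.center G : Subgroup G)) : Set G) ⊆ tSet G p := by
      intro x hx
      obtain ⟨u, hu, z, hz, rfl⟩ := (Subgroup.mem_sup_of_normal_right).1 hx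
      intro q hq hne
      rw [idx, cent_mul_center u hz]
      exact hcomm q hq hne P u hu
    have h1 := card_sup_center (P : Subgroup G)
    rw [P.card_eq_multiplicity] at h1
    rw [← h1]
    refine Nat.mul_le_mul (Nat.card_mono (Set.toFinite _) hsub) ?_
    obtain ⟨k, hk⟩ := IsPGroup.iff_card.1
      (P.2.to_le (inf_le_left : (P : Subgroup G) ⊓ Subgroup.center G ≤ P))
    have hd : p ^ k ∣ Nat.card (Subgroup.center G) := hk ▸ Subgroup.card_dvd_of_le inf_le_right
    rw [hk]
    exact Nat.pow_le_pow_right (Fact.out : p.Prime).pos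
      ((Nat.Prime.pow_dvd_iff_le_factorization Fact.out Nat.card_pos.ne').1 hd)

end

/-- Let G and H be finite groups such that for every natural number k, G and H have the same number of conjugacy classes of size k. If H is nilpotent then G is nilpotent. -/
theorem result {G H : Type*} [Group G] [Finite G] [Group H] [Finite H]
    (hH : Group.IsNilpotent H)
    (h : ∀ k : ℕ, Nat.card {C : ConjClasses G // Nat.card C.carrier = k} = Nat.card {C : ConjClasses H // Nat.card C.carrier = k}) :
    Group.IsNilpotent G := by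
  classical
  have fib : ∀ k : ℕ, Nonempty ({C : ConjClasses G // Nat.card C.carrier = k} ≃
      {C : ConjClasses H // Nat.card C.carrier = k}) := fun k => nonempty_equiv_of_card (h k)
  let eC : ConjClasses G ≃ ConjClasses H := Equiv.ofFiberEquiv fun k => (fib k).some
  have heC : ∀ C, Nat.card (eC C).carrier = Nat.card C.carrier :=
    fun C => Equiv.ofFiberEquiv_map (fun k => (fib k).some) C
  have fib2 : ∀ C : ConjClasses G, Nonempty ({x : G // ConjClasses.mk x = C} ≃
      {y : H // ConjClasses.mk y = eC C}) := by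
    intro C
    refine nonempty_equiv_of_card ?_
    have e1 : Nat.card {x : G // ConjClasses.mk x = C} = Nat.card C.carrier :=
      Nat.card_congr (Equiv.subtypeEquivRight fun x => ConjClasses.mem_carrier_iff_mk_eq.symm)
    have e2 : Nat.card {y : H // ConjClasses.mk y = eC C} = Nat.card (eC C).carrier :=
      Nat.card_congr (Equiv.subtypeEquivRight fun x => ConjClasses.mem_carrier_iff_mk_eq.symm)
    rw [e1, e2, heC]
  let e : G ≃ H := (Equiv.sigmaFiberEquiv ConjClasses.mk).symm.trans
    ((Equiv.sigmaCongr eC fun C => (fib2 C).some).trans (Equiv.sigmaFiberEquiv ConjClasses.mk))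
  have he : ∀ x : G, idx (e x) = idx x := by
    intro x
    have : ConjClasses.mk (e x) = eC (ConjClasses.mk x) := ((fib2 (ConjClasses.mk x)).some ⟨x, rfl⟩).2
    rw [idx_eq_card_carrier, idx_eq_card_carrier, this, heC]
  have hcardG : Nat.card G = Nat.card H := Nat.card_congr e
  have hcardZ : Nat.card (Subgroup.center G) = Nat.card (Subgroup.center H) :=
    Nat.card_congr (e.subtypeEquiv fun x => by rw [← idx_eq_one, ← idx_eq_one, he])
  have hsB : ∀ q, Nat.card (sBar G q) = Nat.card (sBar H q) := by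
    intro q
    have h1 : Nat.card (sSet G q) = Nat.card (sSet H q) :=
      Nat.card_congr (e.subtypeEquiv fun x => by
        show ¬ q ∣ idx x ↔ ¬ q ∣ idx (e x)
        rw [he])
    rw [card_sSet, card_sSet, hcardZ] at h1
    exact Nat.eq_of_mul_eq_mul_left Nat.card_pos h1
  have hS : ∀ q : ℕ, q.Prime → ¬ q ∣ Nat.card (sBar G q) := fun q hq => by
    haveI := Fact.mk hq
    rw [hsB]
    exact (nilpotent_facts hH q).1
  refine ((Group.isNilpotent_of_finite_tfae (G := G)).out 0 3 rfl rfl).2 fun p hp P => ?_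
  have ht : Nat.card (tSet G p) = Nat.card (tSet H p) :=
    Nat.card_congr (e.subtypeEquiv fun x => by
      show (∀ q : ℕ, q.Prime → q ≠ p → ¬ q ∣ idx x) ↔ ∀ q : ℕ, q.Prime → q ≠ p → ¬ q ∣ idx (e x)
      rw [he])
  refine sylow_normal_of_card p (hS p Fact.out) hS ?_ P
  rw [ht, hcardG, hcardZ]
  exact (nilpotent_facts hH p).2

end Cfsg.Agent.S4139
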