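import Cfsg.Statements.S4142

set_option autoImplicit false
set_option linter.style.haveILetI false
open Cfsg

namespace Cfsg.Agent.S4142

open Subgroup in
theorem fibre_count {G : Type*} [Group G] [Finite G] (N : Subgroup G) [N.Normal] (g : G) :
    (∀ n ∈ N, ∃ x : G, x * g * x⁻¹ = g * n) ↔
      Nat.card (centralizer ({g} : Set G)) =
        Nat.card (centralizer ({(QuotientGroup.mk g : G ⧸ N)} : Set (G ⧸ N))) := by
  classical
  set C := centralizer ({g} : Set G)
  set Cb := centralizer ({(QuotientGroup.mk g : G ⧸ N)} : Set (G ⧸ N))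
  set C' := Cb.comap (QuotientGroup.mk' N) with hC'
  have hmem : ∀ x : G, x ∈ C' ↔ g⁻¹ * (x * g * x⁻¹) ∈ N := by
    intro x
    rw [hC', mem_comap, mem_centralizer_singleton_iff, QuotientGroup.mk'_apply, ← QuotientGroup.mk_mul,
      ← QuotientGroup.mk_mul]
    constructor
    · intro h
      have h' := QuotientGroup.eq.mp (show ((g * x : G) : G ⧸ N) = ((x * g : G) : G ⧸ N) from
        by first | exact h | exact h.symm)
      have := Subgroup.Normal.conj_mem ‹N.Normal› _ h' x
      rwa [show x * ((g * x)⁻¹ * (x * g)) * x⁻¹ = g⁻¹ * (x * g * x⁻¹) by group] at this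
    · intro h
      have := Subgroup.Normal.conj_mem ‹N.Normal› _ h x⁻¹
      rw [show x⁻¹ * (g⁻¹ * (x * g * x⁻¹)) * x⁻¹⁻¹ = (g * x)⁻¹ * (x * g) by group] at this
      have h2 := (QuotientGroup.eq (s := N)).mpr this
      first | exact h2 | exact h2.symm
  have hCC : C ≤ C' := by
    intro x hx
    rw [hmem]
    rw [mem_centralizer_singleton_iff] at hx
    rw [show x * g * x⁻¹ = g by rw [mul_inv_eq_iff_eq_mul]; first | exact hx | exact hx.symm]
    simp
  have hcard : Nat.card C' = Nat.card N * Nat.card Cb := by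
    have h1 := C'.card_mul_index
    rw [index_comap_of_surjective _ (QuotientGroup.mk'_surjective N)] at h1
    have h2 := Cb.card_mul_index
    rw [← index_eq_card] at h2
    have h3 := N.card_mul_index
    rw [← h2, ← h1] at h3
    apply Nat.eq_of_mul_eq_mul_right (Nat.pos_of_ne_zero Cb.index_ne_zero_of_finite)
    rw [← h3]
    ring
  let f : C' ⧸ C.subgroupOf C' → N := Quotient.lift (fun x : C' => (⟨_, (hmem x).mp x.2⟩ : N)) (by
    intro x y hxy
    have h := mem_subgroupOf.mp (QuotientGroup.leftRel_apply.mp hxy)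
    rw [mem_centralizer_singleton_iff] at h
    apply Subtype.ext
    show g⁻¹ * ((x : G) * g * (x : G)⁻¹) = g⁻¹ * ((y : G) * g * (y : G)⁻¹)
    have h' : ((x : G)⁻¹ * y) * g = g * ((x : G)⁻¹ * y) := by
      simpa using (by first | exact h | exact h.symm)
    have e : (y : G) * g * (y : G)⁻¹ = x * ((x : G)⁻¹ * y * g) * ((x : G)⁻¹ * y)⁻¹ * (x : G)⁻¹ := by group
    rw [e, h']
    group)
  have hinj : Function.Injective f := by
    rintro ⟨x⟩ ⟨y⟩ h
    apply QuotientGroup.eq.mpr
    rw [mem_subgroupOf, mem_centralizer_singleton_iff]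
    have h2 := mul_left_cancel (congrArg Subtype.val h)
    have h3 : ((x : G)⁻¹ * y) * g = g * ((x : G)⁻¹ * y) := by
      calc ((x : G)⁻¹ * y) * g = (x : G)⁻¹ * ((y : G) * g * (y : G)⁻¹) * y := by group
        _ = (x : G)⁻¹ * ((x : G) * g * (x : G)⁻¹) * y := by rw [h2]
        _ = _ := by group
    simpa using (by first | exact h3 | exact h3.symm)
  have hidx : Nat.card C * Nat.card (C' ⧸ C.subgroupOf C') = Nat.card C' := by
    rw [← index_eq_card, ← card_mul_index (C.subgroupOf C'),
      Nat.card_congr (subgroupOfEquivOfLe hCC).toEquiv]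
  constructor
  · intro h
    have hsurj : Function.Surjective f := by
      rintro ⟨n, hn⟩
      obtain ⟨x, hx⟩ := h n hn
      refine ⟨QuotientGroup.mk ⟨x, (hmem x).mpr (by rw [hx, inv_mul_cancel_left]; exact hn)⟩, Subtype.ext ?_⟩
      show g⁻¹ * (x * g * x⁻¹) = n
      rw [hx, inv_mul_cancel_left]
    rw [Nat.card_eq_of_bijective f ⟨hinj, hsurj⟩, hcard, mul_comm (Nat.card C)] at hidx
    exact Nat.eq_of_mul_eq_mul_left Nat.card_pos hidx
  · intro h n hn
    have hc : Nat.card (C' ⧸ C.subgroupOf C') = Nat.card N := by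
      rw [hcard, ← h, mul_comm (Nat.card N)] at hidx
      exact Nat.eq_of_mul_eq_mul_left Nat.card_pos hidx
    obtain ⟨⟨x⟩, hx⟩ := ((Nat.bijective_iff_injective_and_card f).mpr ⟨hinj, hc⟩).2 ⟨n, hn⟩
    refine ⟨x, ?_⟩
    have : g⁻¹ * ((x : G) * g * (x : G)⁻¹) = n := congrArg Subtype.val hx
    rw [← this, mul_inv_cancel_left]

/-- Let G be a finite group and N a normal subgroup. Then the conjugacy class of every element g outside N is a union of cosets of N (gn is conjugate to g for all n ∈ N) if and only if for every g outside N the centralizer of g in G has the same order as the centralizer of gN in G/N. -/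
theorem result {G : Type*} [Group G] [Finite G] (N : Subgroup G) [N.Normal] :
    (∀ g : G, g ∉ N → ∀ n ∈ N, ∃ x : G, x * g * x⁻¹ = g * n) ↔
      ∀ g : G, g ∉ N → Nat.card (Subgroup.centralizer ({g} : Set G)) =
        Nat.card (Subgroup.centralizer ({(QuotientGroup.mk g : G ⧸ N)} : Set (G ⧸ N))) := by
  exact forall₂_congr fun g _ => fibre_count N g

end Cfsg.Agent.S4142
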