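import Cfsg.Statements.S4143
import Cfsg.Agent.S0112
import Cfsg.Agent.Lib.Fusion.Alperin
import Cfsg.Agent.Lib.Core.Basic

set_option autoImplicit false
open Cfsg

namespace Cfsg.Agent.S4143

open Subgroup


/-- Let X be a finite p-group of order p^n containing a non-abelian subgroup B of order p³ with C_X(B) ≤ B. Then X has nilpotency class n − 1 (maximal class). -/
theorem result {X : Type*} [Group X] [Finite X] {p : ℕ} [Fact p.Prime] (n : ℕ) (hX : Nat.card X = p ^ n)
    (B : Subgroup X) (hB : Nat.card B = p ^ 3) (hBna : ¬ IsMulCommutative B) (hC : Subgroup.centralizer (B : Set X) ≤ B) :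
    Group.nilpotencyClass X = n - 1 := by
  classical
  have hp := (Fact.out : p.Prime)
  have hXp : IsPGroup p X := IsPGroup.of_card hX
  haveI := hXp.isNilpotent
  haveI : Nontrivial X := by
    refine Finite.one_lt_card_iff_nontrivial.1 (lt_of_lt_of_le ?_ (Nat.le_of_dvd Nat.card_pos B.card_subgroup_dvd_card))
    rw [hB]; exact Nat.one_lt_pow three_ne_zero hp.one_lt
  set Z := center X with hZ
  set C := centralizer (B : Set X) with hCdef
  have hZC : Z ≤ C := center_le_centralizer _
  have hZbot : Z ≠ ⊥ := (nontrivial_iff_ne_bot _).1 hXp.center_nontrivial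
  -- C ⊔ ⟨a⟩ never covers B
  have hcov : ∀ a ∈ B, a ∉ C → ¬ B ≤ C ⊔ zpowers a := by
    intro a haB haC hle
    refine haC (mem_centralizer_iff.2 fun w hw => ?_)
    have : C ⊔ zpowers a ≤ centralizer ({a} : Set X) := sup_le
      (fun d hd => mem_centralizer_singleton_iff.2 (mem_centralizer_iff.1 hd a haB).symm)
      (zpowers_le.2 (mem_centralizer_singleton_iff.2 rfl))
    exact mem_centralizer_singleton_iff.1 (this (hle hw))
  have hCne : C ≠ B := fun h => hBna ⟨⟨fun x y => Subtype.ext
    (mem_centralizer_iff.1 (show (y : X) ∈ C by rw [h]; exact y.2) x x.2)⟩⟩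
  obtain ⟨a, haB, haC⟩ := SetLike.not_le_iff_exists.1 fun h => hCne (le_antisymm hC h)
  obtain ⟨b, hbB, hbS⟩ := SetLike.not_le_iff_exists.1 (hcov a haB haC)
  have hS1 : C < C ⊔ zpowers a := lt_of_le_of_ne le_sup_left fun h =>
    haC (h.symm ▸ mem_sup_right (mem_zpowers a))
  have hS2 : C ⊔ zpowers a < C ⊔ zpowers a ⊔ zpowers b := lt_of_le_of_ne le_sup_left fun h =>
    hbS (h.symm ▸ mem_sup_right (mem_zpowers b))
  have hSB : C ⊔ zpowers a ⊔ zpowers b ≤ B := sup_le (sup_le hC (zpowers_le.2 haB)) (zpowers_le.2 hbB)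
  obtain ⟨i, -, hi⟩ := (Nat.dvd_prime_pow hp).1 (hB ▸ card_dvd_of_le hC)
  obtain ⟨j, -, hj⟩ := (Nat.dvd_prime_pow hp).1 (hB ▸ card_dvd_of_le (le_sup_left.trans hSB))
  obtain ⟨k, hk3, hk⟩ := (Nat.dvd_prime_pow hp).1 (hB ▸ card_dvd_of_le hSB)
  have hij : i < j := (Nat.pow_lt_pow_iff_right hp.one_lt).1 (hi ▸ hj ▸ Cfsg.Lib.Fusion.card_lt_card_of_lt hS1)
  have hjk : j < k := (Nat.pow_lt_pow_iff_right hp.one_lt).1 (hj ▸ hk ▸ Cfsg.Lib.Fusion.card_lt_card_of_lt hS2)
  have hi1 : 1 ≤ i := by
    by_contra h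
    rw [show i = 0 by omega, pow_zero] at hi
    exact hZbot (le_bot_iff.1 (hZC.trans (card_eq_one.1 hi).le))
  have hie : i = 1 := by omega
  rw [hie, pow_one] at hi
  have hgen : C ⊔ zpowers a ⊔ zpowers b = B := eq_of_le_of_card_ge hSB (by rw [hk, hB, show k = 3 by omega])
  have hZeq : Z = C := eq_of_le_of_card_ge hZC (by
    obtain ⟨l, -, hl⟩ := (Nat.dvd_prime_pow hp).1 (hX ▸ Z.card_subgroup_dvd_card)
    rcases (Nat.dvd_prime hp).1 (hi ▸ card_dvd_of_le hZC) with h | h
    · exact absurd (card_eq_one.1 h) hZbot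
    · rw [h, hi])
  have hZc : Nat.card Z = p := by rw [hZeq, hi]
  have hn3 : 3 ≤ n := (Nat.pow_dvd_pow_iff_le_right hp.one_lt).1 (hB ▸ hX ▸ B.card_subgroup_dvd_card)
  set π := QuotientGroup.mk' Z with hπ
  have hquot : Nat.card (X ⧸ Z) = p ^ (n - 1) := by
    refine Nat.eq_of_mul_eq_mul_right (Nat.card_pos (α := Z)) ?_
    rw [← card_eq_card_quotient_mul_card_subgroup, hX, hZc, ← pow_succ]
    congr 1
    omega
  have hBbar : Nat.card (B.map π) = p ^ 2 := by
    refine Nat.eq_of_mul_eq_mul_right (Nat.card_pos (α := Z)) ?_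
    have h := card_mul_index (Z.subgroupOf B)
    rw [Nat.card_congr (subgroupOfEquivOfLe (hZC.trans hC)).toEquiv, hB] at h
    have h2 : (Z.subgroupOf B).index = Nat.card (B.map π) := by
      show Z.relIndex B = _
      rw [← relIndex_ker, hπ, QuotientGroup.ker_mk']
    rw [← h2, mul_comm, h, hZc]
    ring
  -- automorphisms of B trivial modulo Z are inner
  have hcent : centralizer (B.map π : Set (X ⧸ Z)) = B.map π := by
    refine le_antisymm ?_ ?_
    · set W := (centralizer (B.map π : Set (X ⧸ Z))).comap π with hW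
      have hBW : B ≤ W := fun x hx => by
        rw [hW, mem_comap, mem_centralizer_iff]
        intro z hz
        exact congrArg Subtype.val (IsPGroup.commutative_of_card_eq_prime_sq hBbar ⟨z, hz⟩
          ⟨π x, mem_map_of_mem π hx⟩)
      have hWmem : ∀ w ∈ W, ∀ y ∈ B, w * y * w⁻¹ * y⁻¹ ∈ Z := by
        intro w hw y hy
        refine (QuotientGroup.eq_one_iff _).1 ?_
        show π (w * y * w⁻¹ * y⁻¹) = 1
        have h := mem_centralizer_iff.1 hw (π y) (mem_map_of_mem π hy)
        rw [map_mul, map_mul, map_mul, map_inv, map_inv, ← h]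
        group
      have hWB : W = B := by
        refine (eq_of_le_of_card_ge hBW ?_).symm
        let f : W ⧸ C.subgroupOf W → Z × Z := Quotient.lift
          (fun w : W => ((⟨_, hWmem w w.2 a haB⟩ : Z), (⟨_, hWmem w w.2 b hbB⟩ : Z)))
          (fun u v huv => by
            have h0 : u⁻¹ * v ∈ C.subgroupOf W := QuotientGroup.leftRel_apply.1 huv
            have hv : (v : X) = u * ((u : X)⁻¹ * v) := (mul_inv_cancel_left _ _).symm
            have key : ∀ y ∈ B, (v : X) * y * (v : X)⁻¹ = u * y * (u : X)⁻¹ := by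
              intro y hy
              have h1 : y * ((u : X)⁻¹ * v) = (u : X)⁻¹ * v * y := mem_centralizer_iff.1 (h0 : (u : X)⁻¹ * v ∈ C) y hy
              calc (v : X) * y * (v : X)⁻¹ = u * ((u : X)⁻¹ * v * y) * (v : X)⁻¹ := by group
                _ = u * (y * ((u : X)⁻¹ * v)) * (v : X)⁻¹ := by rw [h1]
                _ = _ := by group
            refine Prod.ext (Subtype.ext ?_) (Subtype.ext ?_) <;> simp [key a haB, key b hbB])
        have hinj : Function.Injective f := by
          refine Quotient.ind₂ fun u v h => Quotient.sound (QuotientGroup.leftRel_apply.2 ?_)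
          have key : ∀ y, (u : X) * y * (u : X)⁻¹ * y⁻¹ = v * y * (v : X)⁻¹ * y⁻¹ →
              y * ((u : X)⁻¹ * v) = (u : X)⁻¹ * v * y := by
            intro y hy
            have h2 := mul_right_cancel hy
            calc y * ((u : X)⁻¹ * v) = (u : X)⁻¹ * ((u : X) * y * (u : X)⁻¹) * v := by group
              _ = _ := by rw [h2]; group
          show (u : X)⁻¹ * v ∈ C
          have h1 := key a (congrArg (fun t : Z × Z => (t.1 : X)) h)
          have h2 := key b (congrArg (fun t : Z × Z => (t.2 : X)) h)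
          rw [hCdef, mem_centralizer_iff]
          intro y hy
          have : B ≤ centralizer ({(u : X)⁻¹ * v} : Set X) := by
            rw [← hgen]
            refine sup_le (sup_le ?_ (zpowers_le.2 (mem_centralizer_singleton_iff.2 h1)))
              (zpowers_le.2 (mem_centralizer_singleton_iff.2 h2))
            rw [← hZeq]
            exact center_le_centralizer _
          exact mem_centralizer_singleton_iff.1 (this hy)
        have hidx : C.relIndex W ≤ p * p := by
          refine (Nat.card_le_card_of_injective f hinj).trans ?_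
          rw [Nat.card_prod, hZc]
        have h := Cfsg.Lib.Core.card_mul_relIndex (hC.trans hBW : C ≤ W)
        rw [← h, hi, hB]
        calc p * C.relIndex W ≤ p * (p * p) := Nat.mul_le_mul_left p hidx
          _ = p ^ 3 := by ring
      intro x hx
      obtain ⟨x, rfl⟩ := QuotientGroup.mk'_surjective Z x
      exact mem_map_of_mem π (hWB ▸ (hx : x ∈ W))
    · intro y hy
      rw [mem_centralizer_iff]
      intro z hz
      exact congrArg Subtype.val (IsPGroup.commutative_of_card_eq_prime_sq hBbar ⟨z, hz⟩ ⟨y, hy⟩)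
  rw [Group.nilpotencyClass_eq_quotient_center_plus_one,
    Cfsg.Agent.S0112.result (n - 1) hquot _ hBbar hcent]
  omega

end Cfsg.Agent.S4143
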