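import Cfsg.Statements.S4144
import Cfsg.Agent.Lib.PGroup.MaximalClass
import Cfsg.Agent.Lib.TwoGroup.MaximalClass
-- import your own Cfsg.Agent.* helpers here

set_option autoImplicit false
open Cfsg

namespace Cfsg.Agent.S4144


open Subgroup

/-- The case `p = 2`: a cyclic subgroup of index two. -/
theorem two_case {X : Type*} [Group X] [Finite X] {C : Subgroup X} (hC : IsCyclic C) (hCi : C.index = 2)
    (H : Subgroup X) : (closure {y : X | ∃ h ∈ H, y = h ^ 2}).relIndex H ≤ 2 ^ 2 := by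
  set K := closure {y : X | ∃ h ∈ H, y = h ^ 2}
  have hKH : K ≤ H := (closure_le _).2 (by rintro _ ⟨a, ha, rfl⟩; exact pow_mem ha 2)
  obtain ⟨c, hc⟩ : ∃ c, zpowers c = H ⊓ C := by
    haveI : IsCyclic ↥(H ⊓ C) :=
      isCyclic_of_injective (inclusion (inf_le_right : H ⊓ C ≤ C)) (inclusion_injective _)
    obtain ⟨g, hg⟩ := IsCyclic.exists_generator (α := ↥(H ⊓ C))
    refine ⟨g, le_antisymm (zpowers_le.2 g.2) fun x hx => ?_⟩
    obtain ⟨i, hi⟩ := hg ⟨x, hx⟩
    exact ⟨i, congrArg Subtype.val hi⟩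
  have hcH : c ∈ H := (hc.le (mem_zpowers c)).1
  have hK2 : zpowers (c ^ 2) ≤ K := zpowers_le.2 (subset_closure ⟨c, hcH, rfl⟩)
  have h1 : (zpowers (c ^ 2)).relIndex (H ⊓ C) ≤ 2 := by
    have hle : zpowers (c ^ 2) ≤ H ⊓ C := by rw [← hc]; exact zpowers_le.2 (pow_mem (mem_zpowers c) 2)
    have h2 := Cfsg.Lib.Core.card_mul_relIndex hle
    rw [show Nat.card ↥(H ⊓ C) = orderOf c by rw [← hc, Nat.card_zpowers], Nat.card_zpowers] at h2
    have h3 : orderOf c ≤ 2 * orderOf (c ^ 2) := by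
      refine Nat.le_of_dvd (Nat.mul_pos two_pos (orderOf_pos _)) (orderOf_dvd_of_pow_eq_one ?_)
      rw [pow_mul, pow_orderOf_eq_one]
    refine Nat.le_of_mul_le_mul_left ?_ (orderOf_pos (c ^ 2))
    rw [h2, mul_comm]
    exact h3
  calc K.relIndex H ≤ (zpowers (c ^ 2)).relIndex H := relIndex_le_of_le_left hK2 index_ne_zero_of_finite
    _ = (zpowers (c ^ 2)).relIndex (H ⊓ C) * (H ⊓ C).relIndex H :=
        (relIndex_mul_relIndex _ _ _ (by rw [← hc]; exact zpowers_le.2 (pow_mem (mem_zpowers c) 2)) inf_le_left).symm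
    _ ≤ 2 * 2 := by
        refine Nat.mul_le_mul h1 ?_
        rw [inf_relIndex_left]
        refine (relIndex_le_of_le_right le_top ?_).trans ?_
        · rw [relIndex_top_right, hCi]; norm_num
        · rw [relIndex_top_right, hCi]
    _ = 2 ^ 2 := by norm_num

/-- Let X be a finite p-group of order p^n, n ≥ 2, of nilpotency class n − 1 (maximal class), and H any subgroup of X. Then the index in H of the subgroup generated by the p-th powers of elements of H is at most p^p. -/
theorem result {X : Type*} [Group X] [Finite X] {p : ℕ} [Fact p.Prime] (n : ℕ) (hn : 2 ≤ n) (hX : Nat.card X = p ^ n)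
    (hmax : Group.nilpotencyClass X = n - 1) (H : Subgroup X) :
    (Subgroup.closure {y : X | ∃ h ∈ H, y = h ^ p}).relIndex H ≤ p ^ p := by
  have hp := (Fact.out : p.Prime)
  rcases Nat.lt_or_ge n 3 with hsmall | h3
  · refine (Nat.le_of_dvd Nat.card_pos (index_dvd_card _)).trans ?_
    refine (Nat.le_of_dvd Nat.card_pos H.card_subgroup_dvd_card).trans ?_
    rw [hX]
    exact Nat.pow_le_pow_right hp.pos (by have := hp.two_le; omega)
  rcases eq_or_ne p 2 with rfl | hp2
  · obtain ⟨C, hC, hCi⟩ := Cfsg.Lib.TwoGroup.MaximalClass.exists_cyclic_index_two n h3 X hX hmax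
    exact two_case hC hCi H
  · exact Cfsg.Lib.PGroup.MaxClass.relIndex_pow_le (Cfsg.Lib.PGroup.MaxClass.isMax_of_class h3 hX hmax) hp2 H

end Cfsg.Agent.S4144
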