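import Cfsg.Statements.S4145
import Cfsg.Agent.Lib.Fusion.Basic
import Cfsg.Agent.Lib.Fusion.Abelian
import Cfsg.Agent.Lib.Fusion.Parts
import Cfsg.Agent.Lib.Core.PSolvable

set_option autoImplicit false
set_option linter.style.haveILetI false
open Cfsg

namespace Cfsg.Agent.S4145

open Subgroup in
theorem commute_of_pow_one_mod {G : Type*} [Group G] [Finite G] {p : ℕ} [hp : Fact p.Prime] {x u : G} {i : ℤ} {k : ℕ}
    (hconj : x * u * x⁻¹ = u ^ i) (hi : (p : ℤ) ∣ i - 1) (hu : orderOf u = p ^ k)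
    (hx : (orderOf x).Coprime p) : Commute x u := by
  have hiter : ∀ n : ℕ, x ^ n * u * (x ^ n)⁻¹ = u ^ (i ^ n) := by
    intro n
    induction n with
    | zero => simp
    | succ n ih =>
      calc x ^ (n + 1) * u * (x ^ (n + 1))⁻¹ = x * (x ^ n * u * (x ^ n)⁻¹) * x⁻¹ := by rw [pow_succ']; group
        _ = (x * u * x⁻¹) ^ (i ^ n) := by rw [ih, conj_zpow]
        _ = _ := by rw [hconj, ← zpow_mul, ← pow_succ']
  have h1 : u ^ (i ^ p ^ k) = u := by
    have hd : ((p ^ k : ℕ) : ℤ) ∣ i ^ p ^ k - 1 := by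
      have := dvd_sub_pow_of_dvd_sub (R := ℤ) (p := p) (a := i) (b := 1) hi k
      rw [one_pow] at this
      refine dvd_trans ?_ this
      push_cast
      exact pow_dvd_pow _ (Nat.le_succ k)
    obtain ⟨t, ht⟩ := hd
    rw [show i ^ p ^ k = (p ^ k : ℕ) * t + 1 by linear_combination ht, zpow_add, zpow_mul, zpow_natCast,
      ← hu, pow_orderOf_eq_one, one_zpow, one_mul, zpow_one]
  have h2 : Commute (x ^ p ^ k) u := by
    have h3 := hiter (p ^ k)
    rw [h1, mul_inv_eq_iff_eq_mul] at h3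
    exact h3
  obtain ⟨m, hm⟩ := exists_pow_eq_self_of_coprime (n := p ^ k) (x := x) ((hx.pow_right k).symm)
  rw [← hm]
  exact h2.pow_left m

open Subgroup in
theorem dvd_of_zpow_sub_one_mem {G : Type*} [Group G] [Finite G] {p : ℕ} [hp : Fact p.Prime] (K : Subgroup G)
    {u : G} {i : ℤ} {k : ℕ} (hu : orderOf u = p ^ k) (hne : u ∉ K) (h : u ^ (i - 1) ∈ K) :
    (p : ℤ) ∣ i - 1 := by
  by_contra hd
  apply hne
  have hc : IsCoprime ((p ^ k : ℕ) : ℤ) (i - 1) := by
    push_cast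
    exact ((Int.prime_iff_natAbs_prime.mpr (by simpa using hp.out)).coprime_iff_not_dvd.mpr hd).pow_left
  obtain ⟨a, b, hab⟩ := hc
  have he : u = (u ^ (i - 1)) ^ b := by
    conv_lhs => rw [← zpow_one u, ← hab, zpow_add, mul_comm a, zpow_mul, zpow_natCast, ← hu, pow_orderOf_eq_one,
      one_zpow, one_mul, mul_comm b, zpow_mul]
  rw [he]
  exact zpow_mem h b

open Subgroup Cfsg.Lib.Fusion in
theorem hasNormalPComplement_of_central {G : Type*} [Group G] [Finite G] {p : ℕ} [hp : Fact p.Prime]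
    (P : Sylow p G) (hP : IsCyclic (P : Subgroup G)) (Q : Subgroup G) (hQ : Q ≤ (P : Subgroup G))
    (hQ1 : Q ≠ ⊥) (hQc : Q ≤ center G) : Cfsg.HasNormalPComplement p G := by
  apply hasNormalPComplement_of_normalizer_le_centralizer P
  obtain ⟨⟨u, hu⟩, hgen⟩ := hP.exists_generator
  have hPu : ∀ y ∈ (P : Subgroup G), ∃ j : ℤ, y = u ^ j := fun y hy => by
    obtain ⟨j, hj⟩ := mem_zpowers_iff.mp (hgen ⟨y, hy⟩)
    exact ⟨j, (congrArg Subtype.val hj).symm⟩
  obtain ⟨k, hk⟩ := IsPGroup.iff_orderOf.mp P.2 ⟨u, hu⟩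
  rw [Subgroup.orderOf_mk] at hk
  intro x hx
  refine induction_parts x (Q := fun y => y ∈ centralizer ((P : Subgroup G) : Set G)) ?_
    (fun a _ b _ ha hb => mul_mem ha hb)
  intro y hy q m hq ho
  have hyN : y ∈ normalizer ((P : Subgroup G) : Set G) := zpowers_le.mpr hx hy
  rw [mem_centralizer_iff]
  by_cases hqp : q = p
  · subst hqp
    have hyp : IsPGroup q ((P : Subgroup G) ⊔ zpowers y : Subgroup G) := by
      rw [sup_comm]
      exact (IsPGroup.of_card (n := m) (by rw [Nat.card_zpowers, ho])).to_sup_of_normal_right' P.2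
        (zpowers_le.mpr hyN)
    have hyP : y ∈ (P : Subgroup G) := (P.3 hyp le_sup_left).le (mem_sup_right (mem_zpowers y))
    intro z hz
    obtain ⟨j, rfl⟩ := hPu z hz
    obtain ⟨j', rfl⟩ := hPu y hyP
    rw [← zpow_add, ← zpow_add, add_comm]
  · have hyco : (orderOf y).Coprime p := by
      rw [ho]; exact ((Nat.coprime_primes hq hp.out).mpr hqp).pow_left m
    obtain ⟨i, hi⟩ := hPu _ ((mem_normalizer_iff.mp hyN u).mp hu)
    have hdiv : (p : ℤ) ∣ i - 1 := by
      obtain ⟨z, hz, hz1⟩ := Q.bot_or_exists_ne_one.resolve_left hQ1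
      obtain ⟨j, rfl⟩ := hPu z (hQ hz)
      obtain ⟨l, hl⟩ := IsPGroup.iff_orderOf.mp P.2 ⟨_, hQ hz⟩
      rw [Subgroup.orderOf_mk] at hl
      refine dvd_of_zpow_sub_one_mem ⊥ hl (fun h => hz1 (mem_bot.mp h)) ?_
      have h1 : y * u ^ j * y⁻¹ = u ^ j := by
        rw [mem_center_iff.mp (hQc hz) y, mul_inv_cancel_right]
      rw [← conj_zpow, hi, ← zpow_mul, mul_comm, zpow_mul] at h1
      rw [mem_bot, zpow_sub, zpow_one, h1, mul_inv_cancel]
    have hcom := commute_of_pow_one_mod hi hdiv hk hyco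
    intro z hz
    obtain ⟨j, rfl⟩ := hPu z hz
    exact (hcom.zpow_right j).eq.symm

open Subgroup Cfsg.Lib.Fusion in
theorem centralizer_complement {G : Type*} [Group G] [Finite G] {p : ℕ} [hp : Fact p.Prime]
    (P : Sylow p G) (hP : IsCyclic (P : Subgroup G)) (Q : Subgroup G) (hQ : Q ≤ (P : Subgroup G))
    (hQ1 : Q ≠ ⊥) :
    (P : Subgroup G) ≤ centralizer (Q : Set G) ∧
      (Nat.card (Cfsg.pResidual p (centralizer (Q : Set G)))).Coprime p := by
  have hPC : (P : Subgroup G) ≤ centralizer (Q : Set G) := fun y hy => mem_centralizer_iff.mpr fun z hz => by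
    letI := hP.commGroup
    exact congrArg Subtype.val (mul_comm (⟨z, hQ hz⟩ : (P : Subgroup G)) ⟨y, hy⟩)
  refine ⟨hPC, hasNormalPComplement_iff_coprime.mp (hasNormalPComplement_of_central (P.subtype hPC) ?_
    (Q.subgroupOf (centralizer (Q : Set G))) (fun y hy => hQ (mem_subgroupOf.mp hy)) ?_ ?_)⟩
  · haveI := hP
    exact (subgroupOfEquivOfLe hPC).isCyclic.mpr hP
  · intro h
    apply hQ1
    rw [eq_bot_iff]
    intro z hz
    have : (⟨z, hPC (hQ hz)⟩ : centralizer (Q : Set G)) ∈ Q.subgroupOf (centralizer (Q : Set G)) := mem_subgroupOf.mpr hz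
    rw [h, mem_bot] at this
    exact congrArg Subtype.val this
  · intro z hz
    rw [mem_center_iff]
    exact fun w => Subtype.ext ((mem_centralizer_iff.mp w.2 _ (mem_subgroupOf.mp hz)).symm)

open Subgroup Cfsg.Lib.Core in
theorem pSolvable_of_normal_pgroup {G : Type*} [Group G] [Finite G] {p : ℕ} [hp : Fact p.Prime]
    (P : Sylow p G) (hP : IsCyclic (P : Subgroup G)) (Q : Subgroup G) [hQn : Q.Normal] (hQp : IsPGroup p Q)
    (hQ1 : Q ≠ ⊥) : HasFactorChain (PFactor p) G := by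
  have hQP : Q ≤ (P : Subgroup G) := by
    have h := P.3 (IsPGroup.to_sup_of_normal_right P.2 hQp) le_sup_left
    exact le_sup_right.trans h.le
  obtain ⟨hPC, hR⟩ := centralizer_complement P hP Q hQP hQ1
  set C := centralizer (Q : Set G)
  have hCn : C.Normal := inferInstance
  set R := (Cfsg.pResidual p C).map C.subtype with hRd
  haveI hRn : R.Normal := by
    refine ⟨?_⟩
    rintro _ ⟨r, hr, rfl⟩ g
    have h := Cfsg.Lib.Fusion.map_pResidual_le (p := p) (MulAut.conjNormal g : MulAut C).toMonoidHom ⟨r, hr, rfl⟩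
    exact ⟨_, h, rfl⟩
  refine HasFactorChain.extension R (Or.inr ?_) ?_
  · rw [hRd, card_map_of_injective C.subtype_injective]; exact hR
  set f := QuotientGroup.mk' R
  haveI : (C.map f).Normal := hCn.map f (QuotientGroup.mk'_surjective R)
  refine HasFactorChain.extension (C.map f) (Or.inl ?_) ?_
  · have hpg : IsPGroup p (C.map f) := by
      rintro ⟨_, c, hc, rfl⟩
      obtain ⟨k, hk⟩ := Cfsg.Lib.Fusion.exists_pow_mem_pResidual (p := p) (⟨c, hc⟩ : C)
      refine ⟨k, Subtype.ext ?_⟩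
      show f c ^ p ^ k = 1
      rw [← map_pow]
      exact (QuotientGroup.eq_one_iff _).mpr ⟨_, hk, rfl⟩
    exact IsPGroup.iff_card.mp hpg
  · haveI : Subsingleton (((G ⧸ R) ⧸ C.map f) ⧸ (⊤ : Subgroup ((G ⧸ R) ⧸ C.map f))) := QuotientGroup.subsingleton_quotient_top
    refine HasFactorChain.extension ⊤ (Or.inr ?_) (HasFactorChain.of_subsingleton _)
    rw [card_top, ← index_eq_card, index_map_eq C (QuotientGroup.mk'_surjective R)
      (by rw [QuotientGroup.ker_mk']; exact map_subtype_le _)]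
    exact ((hp.out.coprime_iff_not_dvd).mpr fun hd => P.not_dvd_index (hd.trans (index_dvd_of_le hPC))).symm

open Subgroup Cfsg.Lib.Fusion in
theorem main_H {G : Type*} [Group G] [Finite G] (p : ℕ) [hp : Fact p.Prime]
    (P : Sylow p G) (hP : IsCyclic (P : Subgroup G)) (H : Subgroup G) [hHn : H.Normal] (h1 : p ∣ Nat.card H) (h2 : p ∣ H.index) :
    Cfsg.HasNormalPComplement p H := by
  set Q := H ⊓ (P : Subgroup G) with hQd
  have hQP : Q ≤ (P : Subgroup G) := inf_le_right
  have hQH : Q ≤ H := inf_le_left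
  let SH : Sylow p H :=
    { toSubgroup := Q.subgroupOf H
      isPGroup' := (P.2.to_le hQP).comap_subtype
      is_maximal' := by
        intro T hT hle
        refine (Subgroup.eq_of_le_of_card_ge hle ?_).symm
        obtain ⟨R', hR'⟩ := (hT.map H.subtype).exists_le_sylow
        obtain ⟨g, hg⟩ := MulAction.exists_smul_eq G P R'
        rw [← hg] at hR'
        have hsub : T.map H.subtype ≤ Q.map (MulAut.conj g).toMonoidHom := by
          intro y hy
          have h3 : g⁻¹ * y * g ∈ (P : Subgroup G) := by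
            have := hR' hy
            rw [Sylow.coe_subgroup_smul, Subgroup.mem_pointwise_smul_iff_inv_smul_mem, MulAut.smul_def,
              MulAut.conj_inv_apply] at this
            exact this
          refine ⟨g⁻¹ * y * g, ⟨?_, h3⟩, by simp [mul_assoc]⟩
          simpa using hHn.conj_mem y (map_subtype_le T hy) g⁻¹
        have h4 := Nat.le_of_dvd Nat.card_pos (card_dvd_of_le hsub)
        rwa [card_map_of_injective H.subtype_injective, card_map_of_injective (MulAut.conj g).injective,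
          ← Nat.card_congr (subgroupOfEquivOfLe hQH).toEquiv] at h4 }
  have hQ1 : Q ≠ ⊥ := by
    intro h
    have h3 := SH.not_dvd_index
    rw [show (SH : Subgroup H) = Q.subgroupOf H from rfl, h, bot_subgroupOf, index_bot] at h3
    exact h3 h1
  obtain ⟨hPC, hRco⟩ := centralizer_complement P hP Q hQP hQ1
  set C := centralizer (Q : Set G) with hCd
  obtain ⟨⟨u, hu⟩, hgen⟩ := hP.exists_generator
  have hPu : ∀ y ∈ (P : Subgroup G), ∃ j : ℤ, y = u ^ j := fun y hy => by
    obtain ⟨j, hj⟩ := mem_zpowers_iff.mp (hgen ⟨y, hy⟩)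
    exact ⟨j, (congrArg Subtype.val hj).symm⟩
  obtain ⟨k, hk⟩ := IsPGroup.iff_orderOf.mp P.2 ⟨u, hu⟩
  rw [Subgroup.orderOf_mk] at hk
  have huQ : u ∉ Q := fun h => P.not_dvd_index (h2.trans (index_dvd_of_le fun y hy => by
    obtain ⟨j, rfl⟩ := hPu y hy
    exact zpow_mem (hQH h) j))
  haveI hSc : IsMulCommutative (SH : Subgroup H) := ⟨⟨fun a b => Subtype.ext (Subtype.ext (by
    obtain ⟨i, hi⟩ := hPu _ (hQP (mem_subgroupOf.mp a.2))
    obtain ⟨j, hj⟩ := hPu _ (hQP (mem_subgroupOf.mp b.2))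
    show ((a : H) : G) * ((b : H) : G) = ((b : H) : G) * ((a : H) : G)
    rw [hi, hj, ← zpow_add, ← zpow_add, add_comm]))⟩⟩
  apply hasNormalPComplement_of_normalizer_le_centralizer SH
  intro x hx
  refine induction_parts x (Q := fun y => y ∈ centralizer ((SH : Subgroup H) : Set H)) ?_
    (fun a _ b _ ha hb => mul_mem ha hb)
  intro y hy q m hq ho
  have hyN : y ∈ normalizer ((SH : Subgroup H) : Set H) := zpowers_le.mpr hx hy
  rw [mem_centralizer_iff]
  by_cases hqp : q = p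
  · subst hqp
    have hyp : IsPGroup q ((SH : Subgroup H) ⊔ zpowers y : Subgroup H) := by
      rw [sup_comm]
      exact (IsPGroup.of_card (n := m) (by rw [Nat.card_zpowers, ho])).to_sup_of_normal_right' SH.2
        (zpowers_le.mpr hyN)
    have hyS : y ∈ (SH : Subgroup H) := (SH.3 hyp le_sup_left).le (mem_sup_right (mem_zpowers y))
    exact fun z hz => congrArg Subtype.val (hSc.is_comm.comm ⟨z, hz⟩ ⟨y, hyS⟩)
  have hyco : (orderOf (y : G)).Coprime p := by
    rw [Subgroup.orderOf_coe, ho]; exact ((Nat.coprime_primes hq hp.out).mpr hqp).pow_left m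
  -- `y` normalizes `Q`, hence `C`
  have hyQ : ∀ z ∈ Q, (y : G) * z * (y : G)⁻¹ ∈ Q := fun z hz =>
    mem_subgroupOf.mp ((mem_normalizer_iff.mp hyN ⟨z, hQH hz⟩).mp (mem_subgroupOf.mpr hz))
  have hyC : ∀ c ∈ C, (y : G) * c * (y : G)⁻¹ ∈ C := by
    intro c hc
    have hyQ' : ∀ z ∈ Q, (y : G)⁻¹ * z * y ∈ Q := by
      intro z hz
      have hz' : y⁻¹ * ⟨z, hQH hz⟩ * y⁻¹⁻¹ ∈ (SH : Subgroup H) :=
        (mem_normalizer_iff.mp ((normalizer ((SH : Subgroup H) : Set H)).inv_mem hyN) _).mp (mem_subgroupOf.mpr hz)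
      simpa using mem_subgroupOf.mp hz'
    rw [hCd, mem_centralizer_iff]
    intro z hz
    calc z * ((y : G) * c * (y : G)⁻¹) = y * (((y : G)⁻¹ * z * y) * c) * (y : G)⁻¹ := by group
      _ = y * (c * ((y : G)⁻¹ * z * y)) * (y : G)⁻¹ := by rw [mem_centralizer_iff.mp hc _ (hyQ' z hz)]
      _ = _ := by group
  have hle : (((y : G) • P : Sylow p G) : Subgroup G) ≤ C := by
    intro w hw
    rw [Sylow.coe_subgroup_smul, Subgroup.mem_pointwise_smul_iff_inv_smul_mem, MulAut.smul_def,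
      MulAut.conj_inv_apply] at hw
    have := hyC _ (hPC hw)
    simpa [mul_assoc] using this
  obtain ⟨c, hc⟩ := MulAction.exists_smul_eq C (((y : G) • P).subtype hle) (P.subtype hPC)
  have hcy : (c : G) • (y : G) • P = P := by
    apply Sylow.subtype_injective (N := C) (hP := ?_) (hQ := hPC)
    · rw [← hc]
      exact (Sylow.smul_subtype (h := c) hle).symm
  obtain ⟨t, ht, r, hr, hce⟩ := exists_mul_of_sylow (P.subtype hPC) c
  have hnorm : (r : G) * y ∈ normalizer ((P : Subgroup G) : Set G) := by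
    rw [← mul_smul] at hcy
    have h3 := Sylow.smul_eq_iff_mem_normalizer.mp hcy
    have h4 := (normalizer ((P : Subgroup G) : Set G)).mul_mem
      ((normalizer ((P : Subgroup G) : Set G)).inv_mem (le_normalizer (mem_subgroupOf.mp ht))) h3
    rw [hce, Subgroup.coe_mul] at h4
    simpa [mul_assoc] using h4
  set n := (r : G) * y with hnd
  set R := (Cfsg.pResidual p C).map C.subtype with hRd
  have hRu : ∀ w ∈ R, u * w * u⁻¹ ∈ R := by
    rintro _ ⟨w, hw, rfl⟩
    exact ⟨⟨u, hPC hu⟩ * w * ⟨u, hPC hu⟩⁻¹, (pResidual_normal p C).conj_mem w hw _, rfl⟩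
  have hun : n * u * n⁻¹ ∈ (P : Subgroup G) := (mem_normalizer_iff.mp hnorm u).mp hu
  obtain ⟨i, hi⟩ := hPu _ hun
  set f := QuotientGroup.mk' H with hfd
  have hrR : (r : G) ∈ R := ⟨r, hr, rfl⟩
  have hd : n * u * n⁻¹ * u⁻¹ ∈ Q := by
    refine ⟨?_, (P : Subgroup G).mul_mem hun ((P : Subgroup G).inv_mem hu)⟩
    show n * u * n⁻¹ * u⁻¹ ∈ H
    rw [← QuotientGroup.eq_one_iff]
    show f (n * u * n⁻¹ * u⁻¹) = 1
    have hfy : f (y : G) = 1 := (QuotientGroup.eq_one_iff _).mpr y.2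
    have e : f (n * u * n⁻¹ * u⁻¹) = f ((r : G) * (u * (r : G)⁻¹ * u⁻¹)) := by
      simp [hnd, hfy, mul_assoc]
    refine Subgroup.disjoint_def.mp (Subgroup.disjoint_of_coprime_natCard
      (H := (P : Subgroup G).map f) (K := R.map f) ?_) ⟨_, (P : Subgroup G).mul_mem hun ((P : Subgroup G).inv_mem hu), rfl⟩ ?_
    · obtain ⟨a, ha⟩ := IsPGroup.iff_card.mp (P.2.map f)
      rw [ha]
      refine (((hRco.coprime_dvd_left ?_)).pow_right a).symm
      rw [← card_map_of_injective C.subtype_injective, ← hRd]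
      exact card_map_dvd _ _
    · rw [e]
      exact mem_map_of_mem f (R.mul_mem hrR (hRu _ (R.inv_mem hrR)))
  have hdiv : (p : ℤ) ∣ i - 1 := by
    refine dvd_of_zpow_sub_one_mem Q hk huQ ?_
    rw [zpow_sub, zpow_one, ← hi]
    exact hd
  intro z hz
  have hzQ : (z : G) ∈ Q := mem_subgroupOf.mp hz
  obtain ⟨j, hj⟩ := hPu _ (hQP hzQ)
  obtain ⟨l, hl⟩ := IsPGroup.iff_orderOf.mp P.2 ⟨_, hQP hzQ⟩
  rw [Subgroup.orderOf_mk] at hl
  have hconjy : (y : G) * z * (y : G)⁻¹ = (z : G) ^ i := by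
    have h3 : n * z * n⁻¹ = (z : G) ^ i := by
      rw [hj, ← conj_zpow, hi, ← zpow_mul, mul_comm, zpow_mul]
    rw [← h3]
    have h4 := mem_centralizer_iff.mp (show (r : G) ∈ C from r.2) _ (hyQ _ hzQ)
    calc (y : G) * z * (y : G)⁻¹ = ((y : G) * z * (y : G)⁻¹) * r * (r : G)⁻¹ := by group
      _ = (r : G) * ((y : G) * z * (y : G)⁻¹) * (r : G)⁻¹ := by rw [h4]
      _ = _ := by rw [hnd]; group
  exact Subtype.ext (commute_of_pow_one_mod hconjy hdiv hl hyco).eq.symm

/-- Let G be a finite group with a cyclic Sylow p-subgroup and H a normal subgroup such that p divides both the order of H and the index of H. Then H has a normal p-complement and G is p-solvable. -/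
theorem result {G : Type*} [Group G] [Finite G] (p : ℕ) [Fact p.Prime]
    (P : Sylow p G) (hP : IsCyclic (P : Subgroup G)) (H : Subgroup G) [H.Normal] (h1 : p ∣ Nat.card H) (h2 : p ∣ H.index) :
    Cfsg.HasNormalPComplement p H ∧ Cfsg.IsPSolvable p G := by
  have hH := main_H p P hP H h1 h2
  refine ⟨hH, ?_⟩
  open Cfsg.Lib.Core Cfsg.Lib.Fusion in
  have hK := hasNormalPComplement_iff_coprime.mp hH
  set K := (Cfsg.pResidual p H).map H.subtype with hKd
  haveI hKn : K.Normal := by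
    refine ⟨?_⟩
    rintro _ ⟨r, hr, rfl⟩ g
    have h := Cfsg.Lib.Fusion.map_pResidual_le (p := p) (MulAut.conjNormal g : MulAut H).toMonoidHom ⟨r, hr, rfl⟩
    exact ⟨_, h, rfl⟩
  refine Cfsg.Lib.Core.HasFactorChain.extension (P := Cfsg.Lib.Core.PFactor p) K (Or.inr ?_) ?_
  · rw [hKd, Subgroup.card_map_of_injective H.subtype_injective]; exact hK
  set f := QuotientGroup.mk' K
  haveI : (H.map f).Normal := (inferInstance : H.Normal).map f (QuotientGroup.mk'_surjective K)
  refine pSolvable_of_normal_pgroup (P.mapSurjective (QuotientGroup.mk'_surjective K)) ?_ (H.map f) ?_ ?_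
  · haveI := hP
    exact isCyclic_of_surjective ((f.subgroupMap (P : Subgroup G))) (f.subgroupMap_surjective _)
  · rintro ⟨_, c, hc, rfl⟩
    obtain ⟨k, hk⟩ := Cfsg.Lib.Fusion.exists_pow_mem_pResidual (p := p) (⟨c, hc⟩ : H)
    refine ⟨k, Subtype.ext ?_⟩
    show f c ^ p ^ k = 1
    rw [← map_pow]
    exact (QuotientGroup.eq_one_iff _).mpr ⟨_, hk, rfl⟩
  · rw [ne_eq, Subgroup.map_eq_bot_iff, QuotientGroup.ker_mk']
    intro hle
    have h3 : p ∣ Nat.card K := h1.trans (Subgroup.card_dvd_of_le hle)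
    rw [hKd, Subgroup.card_map_of_injective H.subtype_injective] at h3
    exact (Fact.out : p.Prime).one_lt.ne' (Nat.eq_one_of_dvd_coprimes hK h3 (dvd_refl p))

end Cfsg.Agent.S4145
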