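import Cfsg.Statements.S4149
import Cfsg.Agent.Lib.Fusion.Abelian

set_option autoImplicit false
open Cfsg

namespace Cfsg.Agent.S4149

theorem two_mul_card_le {G : Type*} [Group G] [Finite G] (p : ℕ) [hp : Fact p.Prime]
    (hn : ¬ Cfsg.HasNormalPComplement p G) :
    2 * Nat.card {x : G | ¬ p ∣ (Subgroup.centralizer ({x} : Set G)).index} ≤ Nat.card G := by
  classical
  haveI : Fintype (Sylow p G) := Fintype.ofFinite _
  have hsub : {x : G | ¬ p ∣ (Subgroup.centralizer ({x} : Set G)).index} ⊆
      ⋃ P : Sylow p G, ((Subgroup.centralizer ((P : Subgroup G) : Set G) : Subgroup G) : Set G) := by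
    intro x hx
    set C := Subgroup.centralizer ({x} : Set G)
    obtain ⟨Q⟩ : Nonempty (Sylow p C) := inferInstance
    have hc : Nat.card ((Q : Subgroup C).map C.subtype) = p ^ (Nat.card G).factorization p := by
      rw [Subgroup.card_map_of_injective C.subtype_injective, Q.card_eq_multiplicity]
      congr 1
      rw [← C.card_mul_index,
        Nat.factorization_mul Nat.card_pos.ne' Subgroup.index_ne_zero_of_finite]
      have h0 : C.index.factorization p = 0 := Nat.factorization_eq_zero_of_not_dvd hx
      simp [h0]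
    refine Set.mem_iUnion.mpr ⟨Sylow.ofCard _ hc, ?_⟩
    rw [SetLike.mem_coe, Subgroup.mem_centralizer_iff]
    intro h hh
    rw [SetLike.mem_coe, Sylow.coe_ofCard] at hh
    obtain ⟨c, -, rfl⟩ := Subgroup.mem_map.mp hh
    exact (Subgroup.mem_centralizer_iff.mp c.2 x rfl).symm
  have hle : ∀ P : Sylow p G, 2 * Nat.card (Subgroup.centralizer ((P : Subgroup G) : Set G)) ≤
      Nat.card (Subgroup.normalizer ((P : Subgroup G) : Set G)) := by
    intro P
    set C := Subgroup.centralizer ((P : Subgroup G) : Set G)
    set N := Subgroup.normalizer ((P : Subgroup G) : Set G)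
    have hCN : C ≤ N := Subgroup.centralizer_le_normalizer _
    have hne : C ≠ N := fun h =>
      hn (Cfsg.Lib.Fusion.hasNormalPComplement_of_normalizer_le_centralizer P h.ge)
    obtain ⟨k, hk⟩ := Subgroup.card_dvd_of_le hCN
    rcases Nat.lt_or_ge k 2 with h2 | h2
    · rcases (by omega : k = 0 ∨ k = 1) with rfl | rfl
      · exact absurd (hk.trans (mul_zero _)) Nat.card_pos.ne'
      · exact absurd (Subgroup.eq_of_le_of_card_ge hCN (by rw [hk, mul_one])) hne
    · rw [hk, mul_comm 2]
      exact Nat.mul_le_mul_left _ h2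
  have hN : ∀ P : Sylow p G, Fintype.card (Sylow p G) *
      Nat.card (Subgroup.normalizer ((P : Subgroup G) : Set G)) = Nat.card G := by
    intro P
    rw [← Nat.card_eq_fintype_card, Sylow.card_eq_index_normalizer P]
    exact Subgroup.index_mul_card _
  calc 2 * Nat.card {x : G | ¬ p ∣ (Subgroup.centralizer ({x} : Set G)).index}
      ≤ 2 * ∑ P : Sylow p G, Nat.card (Subgroup.centralizer ((P : Subgroup G) : Set G)) := by
        refine Nat.mul_le_mul_left 2 ?_
        rw [Nat.card_coe_set_eq]
        refine (Set.ncard_le_ncard hsub (Set.toFinite _)).trans ?_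
        refine (Set.ncard_iUnion_le_of_fintype _).trans (le_of_eq ?_)
        exact Finset.sum_congr rfl fun P _ => (Nat.card_coe_set_eq _).symm
    _ = ∑ P : Sylow p G, 2 * Nat.card (Subgroup.centralizer ((P : Subgroup G) : Set G)) :=
        Finset.mul_sum _ _ _
    _ ≤ ∑ P : Sylow p G, Nat.card (Subgroup.normalizer ((P : Subgroup G) : Set G)) :=
        Finset.sum_le_sum fun P _ => hle P
    _ = Nat.card G := by
        obtain ⟨P₀⟩ : Nonempty (Sylow p G) := inferInstance
        have : ∀ P : Sylow p G, Nat.card (Subgroup.normalizer ((P : Subgroup G) : Set G)) =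
            Nat.card (Subgroup.normalizer ((P₀ : Subgroup G) : Set G)) := fun P =>
          Nat.eq_of_mul_eq_mul_left (Fintype.card_pos (α := Sylow p G)) ((hN P).trans (hN P₀).symm)
        rw [Finset.sum_congr rfl fun P _ => this P, Finset.sum_const, Finset.card_univ,
          smul_eq_mul, hN]

theorem card_not_complement_lt {G : Type*} [Group G] [Finite G] (σ : ℕ) (hs : 0 < σ)
    (hσ : ∀ x : G, ((Subgroup.centralizer ({x} : Set G)).index).primeFactors.card ≤ σ)
    (T : Finset ℕ) (hT : ∀ p ∈ T, p.Prime ∧ ¬ Cfsg.HasNormalPComplement p G) :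
    T.card < 2 * σ := by
  classical
  haveI : Fintype G := Fintype.ofFinite G
  let f : G → ℕ := fun x => (T.filter (· ∣ (Subgroup.centralizer ({x} : Set G)).index)).card
  have hup : ∑ x : G, f x ≤ σ * (Fintype.card G - 1) := by
    rw [← Finset.sum_erase (s := Finset.univ) (f := f) (a := (1 : G))]
    · refine (Finset.sum_le_card_nsmul _ _ σ fun x _ => ?_).trans (le_of_eq ?_)
      · refine le_trans (Finset.card_le_card fun p hp => ?_) (hσ x)
        rw [Finset.mem_filter] at hp
        exact Nat.mem_primeFactors.mpr ⟨(hT p hp.1).1, hp.2, Subgroup.index_ne_zero_of_finite⟩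
      · rw [Finset.card_erase_of_mem (Finset.mem_univ _), Finset.card_univ, smul_eq_mul, mul_comm]
    · have h1 : Subgroup.centralizer ({(1 : G)} : Set G) = ⊤ := by
        ext g
        simp [Subgroup.mem_centralizer_iff]
      simp only [f, h1, Subgroup.index_top]
      rw [Finset.card_eq_zero, Finset.filter_eq_empty_iff]
      intro p hp h
      exact (hT p hp).1.ne_one (Nat.dvd_one.mp h)
  have hlow : T.card * Fintype.card G ≤ 2 * ∑ x : G, f x := by
    simp only [f, Finset.card_filter]
    rw [Finset.sum_comm, Finset.mul_sum]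
    refine le_trans (le_of_eq ?_) (Finset.card_nsmul_le_sum T _ (Fintype.card G) fun p hp => ?_)
    · rw [smul_eq_mul]
    · haveI : Fact p.Prime := ⟨(hT p hp).1⟩
      have h := two_mul_card_le p (hT p hp).2
      rw [Nat.card_eq_fintype_card (α := G), Nat.card_eq_fintype_card, Fintype.card_subtype] at h
      rw [← Finset.card_filter]
      have h3 := Finset.card_filter_add_card_filter_not
        (fun x : G => p ∣ (Subgroup.centralizer ({x} : Set G)).index) (s := Finset.univ)
      simp only [Set.mem_setOf_eq] at h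
      rw [Finset.card_univ] at h3
      omega
  by_contra hcon
  have hG : 0 < Fintype.card G := Fintype.card_pos
  have h1 : 2 * σ * Fintype.card G ≤ T.card * Fintype.card G :=
    Nat.mul_le_mul_right _ (not_lt.mp hcon)
  obtain ⟨m, hm⟩ : ∃ m, Fintype.card G = m + 1 := ⟨Fintype.card G - 1, by omega⟩
  rw [hm] at h1 hlow hup
  simp only [Nat.add_sub_cancel] at hup
  nlinarith

/-- Let G be a finite group that has a normal p-complement for at most one prime p dividing its order, and let σ be a natural number such that every conjugacy class size of G has at most σ distinct prime divisors. Then the number of primes dividing at least one conjugacy class size of G is at most 2σ. -/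
theorem result {G : Type*} [Group G] [Finite G] (σ : ℕ)
    (hσ : ∀ x : G, ((Subgroup.centralizer ({x} : Set G)).index).primeFactors.card ≤ σ)
    (hnil : ∀ p q : ℕ, p.Prime → q.Prime → p ∣ Nat.card G → q ∣ Nat.card G →
      Cfsg.HasNormalPComplement p G → Cfsg.HasNormalPComplement q G → p = q) :
    Nat.card {p : ℕ | p.Prime ∧ ∃ x : G, p ∣ (Subgroup.centralizer ({x} : Set G)).index} ≤ 2 * σ := by
  classical
  set S := {p : ℕ | p.Prime ∧ ∃ x : G, p ∣ (Subgroup.centralizer ({x} : Set G)).index} with hS
  have hSdvd : ∀ p ∈ S, p ∣ Nat.card G := by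
    rintro p ⟨-, x, hx⟩
    exact hx.trans (Subgroup.index_dvd_card _)
  have hfin : S.Finite := Set.Finite.subset (Nat.card G).primeFactors.finite_toSet fun p hp =>
    Nat.mem_primeFactors.mpr ⟨hp.1, hSdvd p hp, Nat.card_pos.ne'⟩
  rw [Nat.card_coe_set_eq, Set.ncard_eq_toFinset_card S hfin]
  rcases Nat.eq_zero_or_pos σ with hs | hs
  · subst hs
    have : hfin.toFinset = ∅ := by
      refine Finset.eq_empty_of_forall_notMem fun p hp => ?_
      obtain ⟨hp1, x, hx⟩ := hfin.mem_toFinset.mp hp
      have hm : p ∈ ((Subgroup.centralizer ({x} : Set G)).index).primeFactors :=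
        Nat.mem_primeFactors.mpr ⟨hp1, hx, Subgroup.index_ne_zero_of_finite⟩
      have := Finset.card_pos.mpr ⟨p, hm⟩
      have := hσ x
      omega
    simp [this]
  · have h1 := card_not_complement_lt σ hs hσ
      (hfin.toFinset.filter fun p => ¬ Cfsg.HasNormalPComplement p G) (fun p hp => by
        obtain ⟨hp1, hp2⟩ := Finset.mem_filter.mp hp
        exact ⟨(hfin.mem_toFinset.mp hp1).1, hp2⟩)
    have h2 : (hfin.toFinset.filter fun p => Cfsg.HasNormalPComplement p G).card ≤ 1 := by
      refine Finset.card_le_one.mpr fun p hp q hq => ?_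
      obtain ⟨hp1, hp2⟩ := Finset.mem_filter.mp hp
      obtain ⟨hq1, hq2⟩ := Finset.mem_filter.mp hq
      have hp1 := hfin.mem_toFinset.mp hp1
      have hq1 := hfin.mem_toFinset.mp hq1
      exact hnil p q hp1.1 hq1.1 (hSdvd p hp1) (hSdvd q hq1) hp2 hq2
    have h3 := Finset.card_filter_add_card_filter_not (s := hfin.toFinset)
      (fun p => Cfsg.HasNormalPComplement p G)
    omega

end Cfsg.Agent.S4149
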