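import Cfsg.Statements.S4150
import Cfsg.Agent.S4304
import Cfsg.Agent.Lib.Fusion.Jordan
import Cfsg.Agent.Lib.Fusion.Primes
import Cfsg.Agent.Lib.Fusion.DegreeThirteen
import Mathlib.GroupTheory.SpecificGroups.Alternating.Simple
import Mathlib.GroupTheory.GroupAction.Primitive
import Mathlib.GroupTheory.Perm.Centralizer
import Mathlib.GroupTheory.Transfer

set_option autoImplicit false
set_option linter.style.haveILetI false
open Cfsg

namespace Cfsg.Agent.S4150

open Equiv Equiv.Perm MulAction
open scoped Pointwise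

section Omega

variable {Ω : Type*} [Fintype Ω] [DecidableEq Ω]

theorem isPreprimitive_closure {p q : ℕ} (hp : p.Prime) (hq : q.Prime) {x y : Perm Ω}
    (hxo : orderOf x = p) (hyc : y.IsCycle) (hys : y.support.card = q)
    (hcov : ∀ z, x z ≠ z ∨ y z ≠ z) (hdp : Fintype.card Ω < p + q)
    (hdq : Fintype.card Ω < 2 * q) :
    IsPreprimitive (Subgroup.closure ({x, y} : Set (Perm Ω))) Ω := by
  classical
  set G := Subgroup.closure ({x, y} : Set (Perm Ω)) with hG
  have hxG : x ∈ G := Subgroup.subset_closure (Or.inl rfl)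
  have hyG : y ∈ G := Subgroup.subset_closure (Or.inr rfl)
  obtain ⟨a, ha⟩ := Finset.card_pos.mp (show 0 < y.support.card by rw [hys]; exact hq.pos)
  have htoY : ∀ z, ∃ g : G, g • z ∈ y.support := by
    intro z
    by_contra hcon
    push Not at hcon
    have hxz : x z ≠ z := (hcov z).resolve_right fun h => hcon 1 (by
      rw [one_smul]; exact mem_support.mpr h)
    have hinj : Set.InjOn (fun i : ℕ => (x ^ i) z) (Finset.range p : Set ℕ) := by
      have key : ∀ i j : ℕ, i ≤ j → j < p → (x ^ i) z = (x ^ j) z → i = j := by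
        intro i j hij hj h
        by_contra hne
        have h1 : (x ^ (j - i)) z = z := by
          apply (x ^ i).injective
          rw [← Perm.mul_apply, ← pow_add, Nat.add_sub_cancel' hij, h]
        obtain ⟨e, -, he⟩ := Nat.exists_mul_mod_eq_one_of_coprime
          ((hp.coprime_iff_not_dvd).mpr fun hd => by
            have := Nat.le_of_dvd (by omega) hd; omega).symm hp.one_lt (n := j - i) (k := p)
        apply hxz
        have h2 : (x ^ ((j - i) * e)) z = z := by
          rw [pow_mul]
          exact pow_apply_eq_self_of_apply_eq_self h1 e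
        rwa [pow_eq_pow_mod _ (show x ^ p = 1 by rw [← hxo, pow_orderOf_eq_one]), he, pow_one] at h2
      intro i hi j hj h
      rw [Finset.coe_range, Set.mem_Iio] at hi hj
      rcases le_total i j with hij | hij
      · exact key i j hij hj h
      · exact (key j i hij hi h.symm).symm
    have hsub : (Finset.range p).image (fun i => (x ^ i) z) ⊆ y.supportᶜ := by
      intro w hw
      obtain ⟨i, -, rfl⟩ := Finset.mem_image.mp hw
      exact Finset.mem_compl.mpr (hcon ⟨x ^ i, G.pow_mem hxG i⟩)
    have := Finset.card_le_card hsub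
    rw [Finset.card_image_of_injOn hinj, Finset.card_range, Finset.card_compl, hys] at this
    have := y.support.card_le_univ
    omega
  haveI : IsPretransitive G Ω := by
    refine ⟨fun z w => ?_⟩
    obtain ⟨g, hg⟩ := htoY z
    obtain ⟨h, hh⟩ := htoY w
    obtain ⟨i, hi⟩ := hyc.exists_pow_eq (mem_support.mp hg) (mem_support.mp hh)
    refine ⟨h⁻¹ * ⟨y ^ i, G.pow_mem hyG i⟩ * g, ?_⟩
    rw [mul_smul, mul_smul, show (⟨y ^ i, G.pow_mem hyG i⟩ : G) • (g • z) = h • w from hi,
      inv_smul_smul]
  refine { isTrivialBlock_of_isBlock := fun {B} hB => ?_ }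
  by_contra hnt
  rw [IsTrivialBlock, not_or, Set.not_subsingleton_iff] at hnt
  obtain ⟨hBnt, hBu⟩ := hnt
  obtain ⟨b, hb⟩ := hBnt.nonempty
  obtain ⟨g, hg⟩ := exists_smul_eq G b a
  set B' := g • B with hB'def
  have haB : a ∈ B' := ⟨b, hb, hg⟩
  have hB' : IsBlock G B' := hB.translate g
  have hcard' : B'.ncard = B.ncard := Set.ncard_smul_set g B
  have h2 : 2 ≤ B'.ncard := by rw [hcard']; exact Set.one_lt_ncard_iff_nontrivial.mpr hBnt
  have hmul := hB'.ncard_block_mul_ncard_orbit_eq ⟨a, haB⟩
  rw [Nat.card_eq_fintype_card] at hmul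
  set Y : G := ⟨y, hyG⟩ with hY
  have hYq : orderOf Y = q := by rw [hY, Subgroup.orderOf_mk, hyc.orderOf, hys]
  have horb : (orbit G B').ncard < q := by
    have := Nat.mul_le_mul_right (orbit G B').ncard h2
    omega
  have hfix : Y • B' = B' := by
    by_contra hne
    have hinj : Set.InjOn (fun i : ℕ => Y ^ i • B') (Finset.range q : Set ℕ) := by
      have key : ∀ i j : ℕ, i ≤ j → j < q → Y ^ i • B' = Y ^ j • B' → i = j := by
        intro i j hij hj h
        by_contra hne'
        have h1 : Y ^ (j - i) • B' = B' := by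
          apply smul_left_cancel (Y ^ i)
          rw [smul_smul, ← pow_add, Nat.add_sub_cancel' hij, h]
        obtain ⟨e, -, he⟩ := Nat.exists_mul_mod_eq_one_of_coprime
          ((hq.coprime_iff_not_dvd).mpr fun hd => by
            have := Nat.le_of_dvd (by omega) hd; omega).symm hq.one_lt (n := j - i) (k := q)
        apply hne
        have h2 : Y ^ ((j - i) * e) ∈ stabilizer G B' := by
          rw [pow_mul]; exact Subgroup.pow_mem _ (mem_stabilizer_iff.mpr h1) e
        rw [pow_eq_pow_mod _ (show Y ^ q = 1 by rw [← hYq, pow_orderOf_eq_one]), he, pow_one] at h2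
        exact mem_stabilizer_iff.mp h2
      intro i hi j hj h
      rw [Finset.coe_range, Set.mem_Iio] at hi hj
      rcases le_total i j with hij | hij
      · exact key i j hij hj h
      · exact (key j i hij hi h.symm).symm
    have := Set.ncard_le_ncard (show (fun i : ℕ => Y ^ i • B') '' (Finset.range q : Set ℕ) ⊆
      orbit G B' from fun _ ⟨i, _, hi⟩ => ⟨Y ^ i, hi⟩) (Set.toFinite _)
    rw [Set.ncard_image_of_injOn hinj, Set.ncard_coe_finset, Finset.card_range] at this
    omega
  have hsub : (y.support : Set Ω) ⊆ B' := fun z hz => by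
    obtain ⟨i, rfl⟩ := hyc.exists_pow_eq (mem_support.mp ha) (mem_support.mp hz)
    clear hz
    induction i with
    | zero => exact haB
    | succ i ih =>
      rw [pow_succ', Perm.mul_apply]
      exact hfix ▸ Set.smul_mem_smul_set (a := Y) ih
  have h3 : q ≤ B'.ncard := by
    rw [← hys, ← Set.ncard_coe_finset]; exact Set.ncard_le_ncard hsub
  rw [hcard'] at h3 hmul
  rcases Nat.lt_or_ge (orbit G B').ncard 2 with h | h
  · have hpos : 0 < (orbit G B').ncard := (Set.ncard_pos (Set.toFinite _)).mpr ⟨B', mem_orbit_self B'⟩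
    rw [show (orbit G B').ncard = 1 by omega, mul_one] at hmul
    exact hBu (Set.eq_of_subset_of_ncard_le (Set.subset_univ B)
      (by rw [Set.ncard_univ, Nat.card_eq_fintype_card, hmul]))
  · have := Nat.mul_le_mul h3 h
    omega

/-- A subgroup of index `i > 1` in a simple group of order `N` gives `N ∣ i!`. -/
theorem card_dvd_factorial_index {A : Type*} [Group A] [Finite A] [IsSimpleGroup A] (H : Subgroup A)
    (hH : H ≠ ⊤) : Nat.card A ∣ H.index.factorial := by
  have hinj : Function.Injective (MulAction.toPermHom A (A ⧸ H)) := by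
    rw [← MonoidHom.ker_eq_bot_iff]
    refine (IsSimpleGroup.eq_bot_or_eq_top_of_normal _ inferInstance).resolve_right fun h => hH ?_
    rw [Subgroup.eq_top_iff']
    intro a
    have := Equiv.ext_iff.mp (MonoidHom.mem_ker.mp (show a ∈ (MulAction.toPermHom A (A ⧸ H)).ker from
      h ▸ Subgroup.mem_top a)) (QuotientGroup.mk 1)
    simpa [QuotientGroup.eq] using this
  have := Subgroup.card_dvd_of_injective _ hinj
  rwa [Nat.card_perm] at this

/-- The centralizer of a cycle with `r` fixed points has order `r! * q`. -/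
theorem card_centralizer_cycle {q : ℕ} {y : Perm Ω} (hyc : y.IsCycle) (hys : y.support.card = q)
    (hr : Fintype.card Ω - q ≤ 1) : Nat.card (Subgroup.centralizer ({y} : Set (Perm Ω))) = q := by
  rw [nat_card_centralizer, hyc.cycleType, hys]
  simp [Nat.factorial_eq_one.mpr hr]

/-- Normalizers of such Sylow subgroups in groups of permutations have order dividing `q (q - 1)`. -/
theorem card_normalizer_dvd {q : ℕ} (hq : q.Prime) (hd : Fintype.card Ω - q ≤ 1)
    (hdq : Fintype.card Ω < 2 * q) {A : Subgroup (Perm Ω)} {H : Subgroup A} (P : Subgroup H)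
    (hP : Nat.card P = q) : Nat.card (Subgroup.normalizer (P : Set H)) ∣ q * (q - 1) := by
  haveI := Fact.mk hq
  haveI : IsCyclic P := isCyclic_of_prime_card hP
  obtain ⟨g, hg⟩ := IsCyclic.exists_ofOrder_eq_natCard (α := P)
  rw [hP] at hg
  set y : Perm Ω := (((g : H) : A) : Perm Ω) with hy
  have hyo : orderOf y = q := by
    rw [hy, Subgroup.orderOf_coe, Subgroup.orderOf_coe, Subgroup.orderOf_coe, hg]
  obtain ⟨n, hn⟩ := cycleType_prime_order (σ := y) (by rw [hyo]; exact hq)
  rw [hyo] at hn
  have hs : y.support.card = (n + 1) * q := by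
    rw [← sum_cycleType, hn, Multiset.sum_replicate, smul_eq_mul]
  have hle := y.support.card_le_univ
  have hn0 : n = 0 := by
    by_contra hne
    have := Nat.mul_le_mul_right q (show 2 ≤ n + 1 by omega)
    omega
  subst hn0
  have hyc : y.IsCycle := card_cycleType_eq_one.mp (by rw [hn]; simp)
  have hC := card_centralizer_cycle hyc (by omega) hd
  have hker : Nat.card (P.normalizerMonoidHom.ker) ∣ q := by
    rw [Subgroup.normalizerMonoidHom_ker,
      Nat.card_congr (Subgroup.subgroupOfEquivOfLe (Subgroup.centralizer_le_normalizer _)).toEquiv,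
      ← hC]
    let f : Subgroup.centralizer (P : Set H) →* Subgroup.centralizer ({y} : Set (Perm Ω)) :=
      { toFun := fun z => ⟨(((z : H) : A) : Perm Ω), Subgroup.mem_centralizer_singleton_iff.mpr
          (congrArg (fun t : H => ((t : A) : Perm Ω)) (z.2 (g : H) g.2)).symm⟩
        map_one' := rfl
        map_mul' := fun _ _ => rfl }
    exact Subgroup.card_dvd_of_injective f fun z w h =>
      Subtype.ext (Subtype.ext (Subtype.ext
      (congrArg (fun t : Subgroup.centralizer ({y} : Set (Perm Ω)) => (t : Perm Ω)) h)))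
  have hidx : (P.normalizerMonoidHom.ker).index ∣ q - 1 := by
    rw [Subgroup.index_ker]
    have h := Subgroup.card_subgroup_dvd_card P.normalizerMonoidHom.range
    rwa [IsCyclic.card_mulAut, hP, Nat.totient_prime hq] at h
  rw [← Subgroup.card_mul_index (P.normalizerMonoidHom.ker)]
  exact Nat.mul_dvd_mul hker hidx

theorem sylow_facts {q : ℕ} [hq : Fact q.Prime] {H : Type*} [Group H] [Finite H]
    (hd : q ∣ Nat.card H) (hd2 : ¬ q ^ 2 ∣ Nat.card H) (P : Sylow q H) :
    Nat.card (P : Subgroup H) = q ∧
      Nat.card H = Nat.card (Sylow q H) * Nat.card (Subgroup.normalizer ((P : Subgroup H) : Set H)) ∧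
      Nat.card (Sylow q H) % q = 1 ∧ q ∣ Nat.card (Subgroup.normalizer ((P : Subgroup H) : Set H)) := by
  have hP : Nat.card (P : Subgroup H) = q := by
    obtain ⟨i, hi⟩ := IsPGroup.iff_card.mp P.2
    have h1 : q ^ i ∣ Nat.card H := hi ▸ Subgroup.card_subgroup_dvd_card _
    have h2 := P.dvd_card_of_dvd_card hd
    rw [hi] at h2 ⊢
    rcases Nat.lt_or_ge i 2 with h | h
    · interval_cases i
      · exact absurd h2 (by simpa using hq.out.one_lt.ne')
      · exact pow_one q
    · exact absurd ((pow_dvd_pow q h).trans h1) hd2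
  refine ⟨hP, ?_, ?_, ?_⟩
  · rw [P.card_eq_index_normalizer, mul_comm]
    exact (Subgroup.card_mul_index _).symm
  · have := card_sylow_modEq_one q H
    rwa [Nat.ModEq, Nat.one_mod_eq_one.mpr hq.out.ne_one] at this
  · have := Subgroup.card_dvd_of_le (Subgroup.le_normalizer (H := (P : Subgroup H)))
    rwa [hP] at this

/-- In degree `7`, a `5`-element and a `7`-element generate `A_7`. -/
theorem degree_seven (h7 : Fintype.card Ω = 7) {G : Subgroup (Perm Ω)} (hGA : G ≤ alternatingGroup Ω)
    (hd5 : 5 ∣ Nat.card G) (hd7 : 7 ∣ Nat.card G) : alternatingGroup Ω ≤ G := by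
  haveI : Nontrivial Ω := Fintype.one_lt_card_iff_nontrivial.mp (by omega)
  haveI : IsSimpleGroup (alternatingGroup Ω) :=
    alternatingGroup.isSimpleGroup (by rw [Nat.card_eq_fintype_card]; omega)
  haveI : Fact (Nat.Prime 7) := ⟨by norm_num⟩
  have hA : Nat.card (alternatingGroup Ω) = 2520 := by
    rw [nat_card_alternatingGroup, Nat.card_eq_fintype_card, h7]; rfl
  set H := G.subgroupOf (alternatingGroup Ω) with hH
  have hHc : Nat.card H = Nat.card G := Nat.card_congr (Subgroup.subgroupOfEquivOfLe hGA).toEquiv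
  by_contra hnle
  have hne : H ≠ ⊤ := fun h => hnle (Subgroup.subgroupOf_eq_top.mp h)
  have hdvd := card_dvd_factorial_index H hne
  rw [hA] at hdvd
  have hidx := H.card_mul_index
  rw [hA] at hidx
  let P : Sylow 7 H := Classical.arbitrary _
  have hHd : Nat.card H ∣ 2520 := hA ▸ Subgroup.card_subgroup_dvd_card H
  obtain ⟨hPc, hprod, hmod, h7N⟩ := sylow_facts (q := 7) (hHc.symm ▸ hd7)
    (fun h => absurd (h.trans hHd) (by norm_num)) P
  have hN := card_normalizer_dvd (Ω := Ω) (q := 7) (by norm_num) (by omega) (by omega)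
    (P : Subgroup H) hPc
  set n := Nat.card (Sylow 7 H) with hn
  set N := Nat.card (Subgroup.normalizer ((P : Subgroup H) : Set H)) with hNdef
  have h5n : 5 ∣ n := by
    rcases (Nat.Prime.dvd_mul (by norm_num)).mp (hprod ▸ hHc.symm ▸ hd5) with h | h
    · exact h
    · exact absurd (h.trans hN) (by norm_num)
  have hn360 : n ∣ 360 := by
    have h1 : n * 7 ∣ 360 * 7 := ((Nat.mul_dvd_mul_left n h7N).trans (dvd_of_eq hprod.symm)).trans hHd
    exact Nat.dvd_of_mul_dvd_mul_right (by norm_num) h1
  have hn' : n = 15 ∨ n = 120 := by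
    obtain ⟨j, hj⟩ := h5n
    have hj72 : j ∣ 72 := Nat.dvd_of_mul_dvd_mul_left (show 0 < 5 by norm_num)
      (by rw [← hj]; exact hn360)
    have := Nat.le_of_dvd (by norm_num) hj72
    have hj3 : j % 7 = 3 := by omega
    have : j ∈ Nat.divisors 72 := Nat.mem_divisors.mpr ⟨hj72, by norm_num⟩
    have hdiv : ∀ j ∈ Nat.divisors 72, j % 7 = 3 → j = 3 ∨ j = 24 := by decide
    rcases hdiv j this hj3 with rfl | rfl <;> omega
  rcases hn' with h | h
  · exact Cfsg.Agent.S4304.result (hn.symm.trans h)
  · have hN7 : 7 ≤ N := Nat.le_of_dvd Nat.card_pos h7N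
    have h840 : 840 ≤ Nat.card H := by rw [hprod, h]; omega
    have hi3 : H.index ≤ 3 := by
      by_contra h4
      have := Nat.mul_le_mul h840 (show 4 ≤ H.index by omega)
      omega
    have := Nat.le_of_dvd (Nat.factorial_pos _) hdvd
    have := Nat.factorial_le hi3
    rw [show Nat.factorial 3 = 6 from rfl] at this
    omega

/-- No subgroup of order `15` in permutations of degree 6. -/
theorem no_order_fifteen (h6 : Fintype.card Ω = 6) {A : Subgroup (Perm Ω)} (K : Subgroup A)
    (hK : Nat.card K = 15 ∨ Nat.card K = 45) : False := by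
  haveI : Fact (Nat.Prime 5) := ⟨by norm_num⟩
  let P : Sylow 5 K := Classical.arbitrary _
  obtain ⟨hPc, hprod, hmod, h5N⟩ := sylow_facts (q := 5) (H := K)
    (by rcases hK with h | h <;> rw [h] <;> norm_num)
    (by rcases hK with h | h <;> rw [h] <;> norm_num) P
  have hN := card_normalizer_dvd (Ω := Ω) (q := 5) (by norm_num) (by omega) (by omega)
    (P : Subgroup K) hPc
  set n := Nat.card (Sylow 5 K) with hn
  set N := Nat.card (Subgroup.normalizer ((P : Subgroup K) : Set K)) with hNdef
  have hNle : N ≤ 20 := Nat.le_of_dvd (by norm_num) hN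
  have hN5 : 5 ≤ N := Nat.le_of_dvd Nat.card_pos h5N
  have hnle : n * 5 ≤ Nat.card K := by rw [hprod]; exact Nat.mul_le_mul_left n hN5
  have hn9 : n ≤ 9 := by rcases hK with h | h <;> omega
  have hn16 : n = 1 ∨ n = 6 := by omega
  obtain ⟨j, hj⟩ := h5N
  have : N ∈ Nat.divisors 20 := Nat.mem_divisors.mpr ⟨hN, by norm_num⟩
  have hdiv : ∀ j ∈ Nat.divisors 20, j * 1 ≠ 15 ∧ j * 1 ≠ 45 ∧ j * 6 ≠ 15 ∧ j * 6 ≠ 45 := by decide
  have := hdiv N this
  rcases hK with h | h <;> rcases hn16 with h' | h' <;> rw [h, h'] at hprod <;> omega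

/-- In degree `6`, a `3`-element and a `5`-element generate `A_6` or a copy of `A_5`. -/
theorem degree_six (h6 : Fintype.card Ω = 6) {G : Subgroup (Perm Ω)} (hGA : G ≤ alternatingGroup Ω)
    (hd3 : 3 ∣ Nat.card G) (hd5 : 5 ∣ Nat.card G) :
    alternatingGroup Ω ≤ G ∨ Nonempty (G ≃* alternatingGroup (Fin 5)) := by
  classical
  haveI : Nontrivial Ω := Fintype.one_lt_card_iff_nontrivial.mp (by omega)
  haveI : IsSimpleGroup (alternatingGroup Ω) :=
    alternatingGroup.isSimpleGroup (by rw [Nat.card_eq_fintype_card]; omega)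
  have hA : Nat.card (alternatingGroup Ω) = 360 := by
    rw [nat_card_alternatingGroup, Nat.card_eq_fintype_card, h6]; rfl
  set H := G.subgroupOf (alternatingGroup Ω) with hH
  have hHc : Nat.card H = Nat.card G := Nat.card_congr (Subgroup.subgroupOfEquivOfLe hGA).toEquiv
  by_cases htop : H = ⊤
  · exact Or.inl (Subgroup.subgroupOf_eq_top.mp htop)
  right
  have hdvd := card_dvd_factorial_index H htop
  rw [hA] at hdvd
  have hidx := H.card_mul_index
  rw [hA] at hidx
  obtain ⟨j, hj⟩ : 15 ∣ Nat.card H := by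
    rw [hHc]; exact (show Nat.Coprime 3 5 by norm_num).mul_dvd_of_dvd_of_dvd hd3 hd5
  have hji : j * H.index = 24 := by rw [hj, mul_assoc] at hidx; omega
  have hi6 : 6 ≤ H.index := by
    by_contra h5
    have := Nat.le_of_dvd (Nat.factorial_pos _) hdvd
    have := Nat.factorial_le (show H.index ≤ 5 by omega)
    rw [show Nat.factorial 5 = 120 from rfl] at this
    omega
  have hj4 : j ≤ 4 := by
    by_contra h5
    have := Nat.mul_le_mul (show 5 ≤ j by omega) hi6
    omega
  have hj' : j = 1 ∨ j = 2 ∨ j = 3 ∨ j = 4 := by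
    have : j ≠ 0 := by rintro rfl; omega
    omega
  rcases hj' with rfl | rfl | rfl | rfl
  · exact (no_order_fifteen h6 H (Or.inl hj)).elim
  · exfalso
    haveI : Fact (Nat.Prime 2) := ⟨Nat.prime_two⟩
    let T : Sylow 2 H := Classical.arbitrary _
    have hTc : Nat.card (T : Subgroup H) = 2 :=
      (sylow_facts (q := 2) (H := H) (by rw [hj]; norm_num) (by rw [hj]; norm_num) T).1
    haveI : IsCyclic (T : Subgroup H) := isCyclic_of_prime_card (p := 2) hTc
    have hmin : (Nat.card H).minFac = 2 := (Nat.minFac_eq_two_iff _).mpr (by rw [hj]; norm_num)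
    have hK := IsCyclic.isComplement' hmin (P := T) inferInstance
    set K := (MonoidHom.transferSylow T
      ((inferInstance : IsCyclic (T : Subgroup H)).normalizer_le_centralizer hmin)).ker with hKdef
    have hKc : Nat.card K = 15 := by
      have h := hK.card_mul
      rw [hTc, hj] at h; omega
    exact no_order_fifteen h6 (K.map H.subtype)
      (Or.inl ((Subgroup.card_map_of_injective H.subtype_injective).trans hKc))
  · exact (no_order_fifteen h6 H (Or.inr hj)).elim
  -- index `6`
  have hindex : H.index = 6 := by omega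
  let f := MulAction.toPermHom (alternatingGroup Ω) (alternatingGroup Ω ⧸ H)
  have hinj : Function.Injective f := by
    rw [← MonoidHom.ker_eq_bot_iff]
    refine (IsSimpleGroup.eq_bot_or_eq_top_of_normal _ inferInstance).resolve_right fun h => htop ?_
    rw [Subgroup.eq_top_iff']
    intro a
    have := Equiv.ext_iff.mp (MonoidHom.mem_ker.mp (show a ∈ f.ker from h ▸ Subgroup.mem_top a))
      (QuotientGroup.mk 1)
    simpa [f, QuotientGroup.eq] using this
  haveI := Fintype.ofFinite (alternatingGroup Ω ⧸ H)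
  have hQ : Fintype.card (alternatingGroup Ω ⧸ H) = 6 := by
    rw [← Nat.card_eq_fintype_card]; exact hindex
  have hrange : f.range = alternatingGroup (alternatingGroup Ω ⧸ H) := by
    apply eq_alternatingGroup_of_index_eq_two
    have h := f.range.card_mul_index
    rw [Nat.card_perm, Nat.card_eq_fintype_card (α := alternatingGroup Ω ⧸ H), hQ,
      ← Nat.card_congr (MonoidHom.ofInjective hinj).toEquiv, hA,
      show Nat.factorial 6 = 720 from rfl] at h
    omega
  set b : alternatingGroup Ω ⧸ H := QuotientGroup.mk 1 with hb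
  let S := {z : alternatingGroup Ω ⧸ H // z ≠ b}
  have hS : Fintype.card S = 5 := by
    rw [Fintype.card_subtype_compl, Fintype.card_subtype_eq, hQ]
  haveI : Nontrivial S := Fintype.one_lt_card_iff_nontrivial.mp (by omega)
  let ψ : alternatingGroup S →* Perm (alternatingGroup Ω ⧸ H) :=
    (ofSubtype (p := fun z => z ≠ b)).comp (alternatingGroup S).subtype
  have hψ : Function.Injective ψ := ofSubtype_injective.comp Subtype.val_injective
  have hle : H.map f ≤ ψ.range := by
    rintro σ ⟨h, hh, rfl⟩
    have hfix : f h b = b := by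
      show (QuotientGroup.mk (h * 1) : alternatingGroup Ω ⧸ H) = QuotientGroup.mk 1
      rw [mul_one]
      exact QuotientGroup.eq.mpr (by rw [mul_one]; exact H.inv_mem hh)
    obtain ⟨τ, hτ⟩ : f h ∈ (ofSubtype (p := fun z => z ≠ b)).range :=
      mem_range_ofSubtype_iff.mpr fun z hz => fun he => by
        subst he
        exact mem_support.mp (Finset.mem_coe.mp hz) hfix
    have hsgn : sign (f h) = 1 := mem_alternatingGroup.mp (hrange ▸ ⟨h, rfl⟩)
    refine ⟨⟨τ, mem_alternatingGroup.mpr ?_⟩, hτ⟩
    rw [← sign_ofSubtype (p := fun z => z ≠ b), hτ, hsgn]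
  have heq : H.map f = ψ.range := by
    refine Subgroup.eq_of_le_of_card_ge hle (le_of_eq ?_)
    rw [Subgroup.card_map_of_injective hinj, hj, ← Nat.card_congr (MonoidHom.ofInjective hψ).toEquiv,
      nat_card_alternatingGroup, Nat.card_eq_fintype_card, hS]
    rfl
  exact ⟨(((Subgroup.subgroupOfEquivOfLe hGA).symm.trans
    (Subgroup.equivMapOfInjective H f hinj)).trans ((MulEquiv.subgroupCongr heq).trans
      (MonoidHom.ofInjective hψ).symm)).trans
    (Equiv.altCongrHom (Fintype.equivFinOfCardEq hS))⟩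

end Omega

/-- Reduction to the union of the two supports. -/
theorem reduce {m p q : ℕ} (hp : p.Prime) (hq : q.Prime) (hpq : p < q) (hmp : m ≤ 2 * p)
    (h : ∀ (Ω : Type) [Fintype Ω] [DecidableEq Ω] (x y : Perm Ω), q ≤ Fintype.card Ω →
      Fintype.card Ω ≤ m → sign x = 1 → sign y = 1 → orderOf x = p → y.IsCycle →
      y.support.card = q → (∀ z, x z ≠ z ∨ y z ≠ z) →
      IsPreprimitive (Subgroup.closure ({x, y} : Set (Perm Ω))) Ω →
      ∃ d, 5 ≤ d ∧ Nonempty (Subgroup.closure ({x, y} : Set (Perm Ω)) ≃* alternatingGroup (Fin d)))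
    (x y : alternatingGroup (Fin m)) (hx : orderOf x = p) (hy : orderOf y = q) :
    ∃ d : ℕ, 5 ≤ d ∧
      Nonempty (Subgroup.closure ({x, y} : Set (alternatingGroup (Fin m))) ≃* alternatingGroup (Fin d)) := by
  classical
  set x₀ : Perm (Fin m) := (x : Perm (Fin m)) with hx₀
  set y₀ : Perm (Fin m) := (y : Perm (Fin m)) with hy₀
  let P : Fin m → Prop := fun z => x₀ z ≠ z ∨ y₀ z ≠ z
  have hpres : ∀ (s : Perm (Fin m)), (s = x₀ ∨ s = y₀) → ∀ z, P (s z) ↔ P z := by
    intro s hs z
    by_cases hfix : s z = z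
    · rw [hfix]
    · have hmv : s (s z) ≠ s z := fun h => hfix (s.injective h)
      rcases hs with rfl | rfl
      · exact iff_of_true (Or.inl hmv) (Or.inl hfix)
      · exact iff_of_true (Or.inr hmv) (Or.inr hfix)
  set x' : Perm (Subtype P) := x₀.subtypePerm (hpres x₀ (Or.inl rfl)) with hx'
  set y' : Perm (Subtype P) := y₀.subtypePerm (hpres y₀ (Or.inr rfl)) with hy'
  have hox : ofSubtype x' = x₀ := ofSubtype_subtypePerm _ fun z hz => Or.inl hz
  have hoy : ofSubtype y' = y₀ := ofSubtype_subtypePerm _ fun z hz => Or.inr hz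
  have hx'o : orderOf x' = p := by
    rw [← orderOf_injective (ofSubtype (p := P)) ofSubtype_injective, hox, hx₀, Subgroup.orderOf_coe, hx]
  have hy'o : orderOf y' = q := by
    rw [← orderOf_injective (ofSubtype (p := P)) ofSubtype_injective, hoy, hy₀, Subgroup.orderOf_coe, hy]
  have hdm : Fintype.card (Subtype P) ≤ m := by
    simpa using Fintype.card_subtype_le P
  obtain ⟨n, hn⟩ := cycleType_prime_order (σ := y') (by rw [hy'o]; exact hq)
  rw [hy'o] at hn
  have hs : y'.support.card = (n + 1) * q := by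
    rw [← sum_cycleType, hn, Multiset.sum_replicate, smul_eq_mul]
  have hle := y'.support.card_le_univ
  have hn0 : n = 0 := by
    by_contra hne
    have := Nat.mul_le_mul_right q (show 2 ≤ n + 1 by omega)
    omega
  subst hn0
  have hyc : y'.IsCycle := card_cycleType_eq_one.mp (by rw [hn]; simp)
  have hys : y'.support.card = q := by omega
  have hcov : ∀ z, x' z ≠ z ∨ y' z ≠ z := fun z => z.2.imp
    (fun h h' => h (congrArg Subtype.val h')) (fun h h' => h (congrArg Subtype.val h'))
  have hprim := isPreprimitive_closure hp hq hx'o hyc hys hcov (by omega) (by omega)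
  obtain ⟨d, hd, ⟨e⟩⟩ := h (Subtype P) x' y' (by omega) hdm
    (by rw [← sign_ofSubtype (p := P), hox]; exact mem_alternatingGroup.mp x.2)
    (by rw [← sign_ofSubtype (p := P), hoy]; exact mem_alternatingGroup.mp y.2)
    hx'o hyc hys hcov hprim
  have heq : (Subgroup.closure ({x, y} : Set (alternatingGroup (Fin m)))).map
      (alternatingGroup (Fin m)).subtype =
      (Subgroup.closure ({x', y'} : Set (Perm (Subtype P)))).map (ofSubtype (p := P)) := by
    rw [MonoidHom.map_closure, MonoidHom.map_closure, Set.image_pair, Set.image_pair, hox, hoy]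
    rfl
  exact ⟨d, hd, ⟨(Subgroup.equivMapOfInjective _ _ (alternatingGroup (Fin m)).subtype_injective).trans
    ((MulEquiv.subgroupCongr heq).trans
      ((Subgroup.equivMapOfInjective _ _ ofSubtype_injective).symm.trans e))⟩⟩

/-- The closure is alternating once it contains the alternating group. -/
theorem iso_of_le {Ω : Type*} [Fintype Ω] [DecidableEq Ω] {x y : Perm Ω} (hx : sign x = 1)
    (hy : sign y = 1) (h5 : 5 ≤ Fintype.card Ω)
    (h : alternatingGroup Ω ≤ Subgroup.closure ({x, y} : Set (Perm Ω))) :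
    ∃ d, 5 ≤ d ∧ Nonempty (Subgroup.closure ({x, y} : Set (Perm Ω)) ≃* alternatingGroup (Fin d)) := by
  have hle : Subgroup.closure ({x, y} : Set (Perm Ω)) ≤ alternatingGroup Ω := by
    rw [Subgroup.closure_le]
    rintro z (rfl | rfl)
    · exact mem_alternatingGroup.mpr hx
    · exact mem_alternatingGroup.mpr hy
  exact ⟨Fintype.card Ω, h5, ⟨(MulEquiv.subgroupCongr (le_antisymm hle h)).trans
    (Equiv.altCongrHom (Fintype.equivFin Ω))⟩⟩

/-- Either `x` is a cycle, or it has two cycles covering everything. -/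
theorem shape {Ω : Type*} [Fintype Ω] [DecidableEq Ω] {x : Perm Ω} {p m : ℕ} (hp : p.Prime)
    (hx : orderOf x = p) (hd : Fintype.card Ω ≤ m) (hm : m ≤ 2 * p) :
    (x.IsCycle ∧ x.support.card = p) ∨ (m = 2 * p ∧ Fintype.card Ω = m) := by
  obtain ⟨n, hn⟩ := cycleType_prime_order (σ := x) (by rw [hx]; exact hp)
  rw [hx] at hn
  have hs : x.support.card = (n + 1) * p := by
    rw [← sum_cycleType, hn, Multiset.sum_replicate, smul_eq_mul]
  have hle := x.support.card_le_univ
  rcases Nat.eq_zero_or_pos n with rfl | hpos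
  · exact Or.inl ⟨card_cycleType_eq_one.mp (by rw [hn]; simp), by omega⟩
  · have := Nat.mul_le_mul_right p (show 2 ≤ n + 1 by omega)
    exact Or.inr ⟨by omega, by omega⟩

theorem result (m : ℕ) (hm : 5 ≤ m) :
    ∃ p q : ℕ, p.Prime ∧ q.Prime ∧ m ≤ 2 * p ∧ p < q ∧ q ≤ m ∧
      ∀ x y : alternatingGroup (Fin m), orderOf x = p → orderOf y = q →
        ∃ d : ℕ, 5 ≤ d ∧ Nonempty (Subgroup.closure ({x, y} : Set (alternatingGroup (Fin m))) ≃* alternatingGroup (Fin d)) := by
  by_cases h6 : m ≤ 6
  · refine ⟨3, 5, Nat.prime_three, Nat.prime_five, by omega, by omega, by omega, ?_⟩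
    refine reduce Nat.prime_three Nat.prime_five (by omega) (by omega) ?_
    intro Ω _ _ x y hqd hdm hsx hsy hxo hyc hys hcov hprim
    rcases shape Nat.prime_three hxo hdm (by omega) with ⟨hxc, hxs⟩ | ⟨hm6, hd⟩
    · exact iso_of_le hsx hsy (by omega) (alternatingGroup_le_of_isPreprimitive_of_isThreeCycle_mem
        hprim (card_support_eq_three_iff.mp hxs) (Subgroup.subset_closure (Or.inl rfl)))
    · set G := Subgroup.closure ({x, y} : Set (Perm Ω)) with hG
      have hGA : G ≤ alternatingGroup Ω := by
        rw [hG, Subgroup.closure_le]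
        rintro z (rfl | rfl)
        · exact mem_alternatingGroup.mpr hsx
        · exact mem_alternatingGroup.mpr hsy
      have h3 : 3 ∣ Nat.card G := hxo ▸ Subgroup.orderOf_dvd_natCard G (Subgroup.subset_closure (Or.inl rfl))
      have h5 : 5 ∣ Nat.card G := by
        have : orderOf y = 5 := by rw [hyc.orderOf, hys]
        exact this ▸ Subgroup.orderOf_dvd_natCard G (Subgroup.subset_closure (Or.inr rfl))
      rcases degree_six (by omega) hGA h3 h5 with h | he
      · exact iso_of_le hsx hsy (by omega) h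
      · exact ⟨5, le_refl 5, he⟩
  by_cases h10 : m ≤ 10
  · refine ⟨5, 7, Nat.prime_five, by norm_num, by omega, by omega, by omega, ?_⟩
    refine reduce Nat.prime_five (by norm_num) (by omega) (by omega) ?_
    intro Ω _ _ x y hqd hdm hsx hsy hxo hyc hys hcov hprim
    refine iso_of_le hsx hsy (by omega) ?_
    by_cases h7 : Fintype.card Ω = 7
    · refine degree_seven h7 ?_ ?_ ?_
      · rw [Subgroup.closure_le]
        rintro z (rfl | rfl)
        · exact mem_alternatingGroup.mpr hsx
        · exact mem_alternatingGroup.mpr hsy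
      · exact hxo ▸ Subgroup.orderOf_dvd_natCard _ (Subgroup.subset_closure (Or.inl rfl))
      · have : orderOf y = 7 := by rw [hyc.orderOf, hys]
        exact this ▸ Subgroup.orderOf_dvd_natCard _ (Subgroup.subset_closure (Or.inr rfl))
    · rcases shape Nat.prime_five hxo hdm (by omega) with ⟨hxc, hxs⟩ | ⟨hm10, hd⟩
      · exact Cfsg.Lib.Fusion.alternatingGroup_le_of_prime_cycle hprim Nat.prime_five (by omega) hxc
          hxs (Subgroup.subset_closure (Or.inl rfl))
      · exact Cfsg.Lib.Fusion.alternatingGroup_le_of_prime_cycle hprim (p := 7) (by norm_num)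
          (by omega) hyc hys (Subgroup.subset_closure (Or.inr rfl))
  by_cases h1516 : m = 15 ∨ m = 16
  · refine ⟨11, 13, by norm_num, by norm_num, by omega, by omega, by omega, ?_⟩
    refine reduce (by norm_num) (by norm_num) (by omega) (by omega) ?_
    intro Ω _ _ x y hqd hdm hsx hsy hxo hyc hys hcov hprim
    refine iso_of_le hsx hsy (by omega) ?_
    rcases shape (by norm_num) hxo hdm (by omega) with ⟨hxc, hxs⟩ | ⟨hm22, hd⟩
    · by_cases h13 : Fintype.card Ω = 13
      · refine Cfsg.Lib.Fusion.alternatingGroup_le_of_degree_thirteen h13 hprim ?_ hxc hxs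
          (Subgroup.subset_closure (Or.inl rfl))
        rw [Subgroup.closure_le]
        rintro z (rfl | rfl)
        · exact mem_alternatingGroup.mpr hsx
        · exact mem_alternatingGroup.mpr hsy
      · exact Cfsg.Lib.Fusion.alternatingGroup_le_of_prime_cycle hprim (p := 11) (by norm_num)
          (by omega) hxc hxs (Subgroup.subset_closure (Or.inl rfl))
    · omega
  by_cases h14 : m = 14
  · refine ⟨7, 11, by norm_num, by norm_num, by omega, by omega, by omega, ?_⟩
    refine reduce (by norm_num) (by norm_num) (by omega) (by omega) ?_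
    intro Ω _ _ x y hqd hdm hsx hsy hxo hyc hys hcov hprim
    refine iso_of_le hsx hsy (by omega) ?_
    rcases shape (by norm_num) hxo hdm (by omega) with ⟨hxc, hxs⟩ | ⟨-, hd⟩
    · exact Cfsg.Lib.Fusion.alternatingGroup_le_of_prime_cycle hprim (p := 7) (by norm_num)
        (by omega) hxc hxs (Subgroup.subset_closure (Or.inl rfl))
    · exact Cfsg.Lib.Fusion.alternatingGroup_le_of_prime_cycle hprim (p := 11) (by norm_num)
        (by omega) hyc hys (Subgroup.subset_closure (Or.inr rfl))
  obtain ⟨p, q, hp, hq, hmp, hpq, hqm⟩ :=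
    Cfsg.Lib.Fusion.exists_two_primes (m := m) (by omega) h14 (by omega) (by omega)
  refine ⟨p, q, hp, hq, by omega, by omega, hqm, reduce hp hq (by omega) (by omega) ?_⟩
  intro Ω _ _ x y hqd hdm hsx hsy hxo hyc hys hcov hprim
  refine iso_of_le hsx hsy (by omega) ?_
  rcases shape hp hxo hdm (by omega) with ⟨hxc, hxs⟩ | ⟨hm2, hd⟩
  · exact Cfsg.Lib.Fusion.alternatingGroup_le_of_prime_cycle hprim hp (by omega) hxc hxs
      (Subgroup.subset_closure (Or.inl rfl))
  · omega

end Cfsg.Agent.S4150
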