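import Cfsg.Statements.S4151
import Mathlib.GroupTheory.SpecificGroups.ZGroup
import Cfsg.Agent.Lib.Core.Cores
import Cfsg.Agent.Lib.Core.Basic
import Cfsg.Agent.Lib.Fusion.Basic
import Cfsg.Agent.Lib.Fusion.Alperin
import Cfsg.Agent.Lib.Coprime.Action
import Cfsg.Agent.Lib.Coprime.Generation
import Cfsg.Agent.Lib.PGroup.Noncyclic
import Cfsg.Agent.Lib.Invol.Quaternion

set_option autoImplicit false
open Cfsg

namespace Cfsg.Agent.S4151

open Subgroup
open scoped commutatorElement

variable {X : Type*} [Group X] [Finite X]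

/-- In a cyclic subgroup, elements of equal order generate each other. -/
theorem mem_zpowers_of_orderOf_eq {P : Subgroup X} (hP : IsCyclic P) {x y : X} (hx : x ∈ P)
    (hy : y ∈ P) (h : orderOf x = orderOf y) : x ∈ zpowers y := by
  have h1 := Cfsg.Lib.Invol.zpowers_eq_of_cyclic (T := P) (x := ⟨x, hx⟩) (y := ⟨y, hy⟩)
    (by rw [Subgroup.orderOf_mk, Subgroup.orderOf_mk, h])
  have h2 : (⟨x, hx⟩ : P) ∈ zpowers (⟨y, hy⟩ : P) := h1 ▸ mem_zpowers _
  obtain ⟨i, hi⟩ := h2
  exact ⟨i, congrArg Subtype.val hi⟩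

/-- A group `Q` centralising a cyclic Sylow subgroup `P` of `U` which is central in its normalizer
produces a commutator group of order prime to `p`. -/
theorem not_dvd_card_commutator {p : ℕ} [hp : Fact p.Prime] (U Q P : Subgroup X) (hPU : P ≤ U)
    (hP : IsPGroup p P) (hidx : ¬ p ∣ P.relIndex U) (hQU : Q ≤ normalizer (U : Set X))
    (hQP : Q ≤ centralizer (P : Set X))
    (hN : U ⊓ normalizer (P : Set X) ≤ centralizer (P : Set X)) : ¬ p ∣ Nat.card ↥⁅U, Q⁆ := by
  have hS' : IsPGroup p (P.subgroupOf U) := hP.of_equiv (subgroupOfEquivOfLe hPU).symm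
  let S : Sylow p U := hS'.toSylow hidx
  have hSc : (S : Subgroup U) = P.subgroupOf U := rfl
  have hnc : normalizer ((S : Subgroup U) : Set U) ≤ centralizer ((S : Subgroup U) : Set U) := by
    intro u hu
    have h1 : (u : X) ∈ normalizer (P : Set X) := by
      rw [← map_subgroupOf_eq_of_le hPU, ← hSc]
      exact le_normalizer_map U.subtype ⟨u, hu, rfl⟩
    refine mem_centralizer_iff.2 fun s hs => Subtype.ext ?_
    exact mem_centralizer_iff.1 (hN ⟨u.2, h1⟩) s (mem_subgroupOf.1 hs)
  have hcomp : Cfsg.HasNormalPComplement p U :=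
    ⟨S, (MonoidHom.transferSylow S hnc).ker, inferInstance,
      MonoidHom.ker_transferSylow_isComplement' S hnc⟩
  set M := (Cfsg.pResidual p U).map U.subtype with hM
  have hMc : ¬ p ∣ Nat.card M := by
    rw [hM, card_map_of_injective U.subtype_injective]
    exact (Nat.Prime.coprime_iff_not_dvd hp.out).1
      (Cfsg.Lib.Fusion.hasNormalPComplement_iff_coprime.1 hcomp).symm
  have hle : ⁅U, Q⁆ ≤ M := by
    refine commutator_le.2 fun u hu q hq => ?_
    obtain ⟨x, hx, m, hm, he⟩ := Cfsg.Lib.Fusion.exists_mul_of_sylow S ⟨u, hu⟩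
    have hxP : (x : X) ∈ P := mem_subgroupOf.1 hx
    have hqx : q * (x : X)⁻¹ = (x : X)⁻¹ * q :=
      (mem_centralizer_iff.1 (hQP hq) _ (inv_mem hxP)).symm
    have hu' : u = (x : X) * (m : X) := congrArg Subtype.val he
    have hqm : q * (m : X)⁻¹ * q⁻¹ ∈ M := by
      have hU : q * (m : X)⁻¹ * q⁻¹ ∈ U := (mem_normalizer_iff.1 (hQU hq) _).1 (inv_mem m.2)
      refine ⟨⟨_, hU⟩, Cfsg.Lib.Fusion.mem_pResidual_of_coprime ?_, rfl⟩
      rw [Subgroup.orderOf_mk,
        show orderOf (q * (m : X)⁻¹ * q⁻¹) = orderOf (m : X)⁻¹ from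
          orderOf_injective (MulAut.conj q).toMonoidHom (MulAut.conj q).injective _, orderOf_inv,
        Subgroup.orderOf_coe]
      exact (Cfsg.Lib.Fusion.mem_pResidual_iff_coprime hcomp m).1 hm
    have h1 : (m : X) * (q * (m : X)⁻¹ * q⁻¹) ∈ M := M.mul_mem ⟨m, hm, rfl⟩ hqm
    obtain ⟨m', hm', hm'e⟩ := h1
    have h2 : (x : X) * ((m : X) * (q * (m : X)⁻¹ * q⁻¹)) * (x : X)⁻¹ ∈ M := by
      rw [← hm'e]
      exact ⟨x * m' * x⁻¹, (Cfsg.Lib.Fusion.pResidual_normal p U).conj_mem m' hm' x, rfl⟩
    have h3 : ⁅u, q⁆ = (x : X) * ((m : X) * (q * (m : X)⁻¹ * q⁻¹)) * (x : X)⁻¹ := by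
      rw [hu', commutatorElement_def]
      calc (x : X) * m * q * ((x : X) * m)⁻¹ * q⁻¹
          = (x : X) * m * q * (m : X)⁻¹ * ((x : X)⁻¹ * q⁻¹) := by group
        _ = _ := by
          rw [show (x : X)⁻¹ * q⁻¹ = q⁻¹ * (x : X)⁻¹ from by
            rw [← mul_inv_rev, ← mul_inv_rev]
            exact congrArg Inv.inv (by
              have := mem_centralizer_iff.1 (hQP hq) _ hxP
              exact this.symm)]
          group
    rw [h3]
    exact h2
  exact fun h => hMc (h.trans (card_dvd_of_le hle))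

/-- A coprime operator group centralising a nontrivial subgroup of a cyclic `p`-group centralises
it. -/
theorem le_centralizer_of_cyclic {p : ℕ} [hp : Fact p.Prime] {P Q W : Subgroup X} (hP : IsPGroup p P)
    (hPc : IsCyclic P) (hQP : Q ≤ normalizer (P : Set X))
    (hcop : (Nat.card Q).Coprime (Nat.card P)) (hW : W ≤ P) (hWne : W ≠ ⊥)
    (hQW : W ≤ centralizer (Q : Set X)) : Q ≤ centralizer (P : Set X) := by
  haveI : IsMulCommutative P := inferInstance
  have hd := Cfsg.Lib.Coprime.disjoint_commutator_centralizer hQP hcop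
  have hle : ⁅P, Q⁆ ≤ P := Cfsg.Lib.Coprime.commutator_le_of_le_normalizer hQP
  by_cases hb : ⁅P, Q⁆ = ⊥
  · exact le_centralizer_iff.1 (commutator_eq_bot_iff_le_centralizer.1 hb)
  exfalso
  have hex : ∀ Y : Subgroup X, Y ≤ P → Y ≠ ⊥ → ∃ y ∈ Y, orderOf y = p := by
    intro Y hY hne
    haveI := (nontrivial_iff_ne_bot Y).2 hne
    obtain ⟨k, hk, hcard⟩ := (hP.to_le hY).nontrivial_iff_card.1 ‹_›
    obtain ⟨y, hy⟩ := exists_prime_orderOf_dvd_card' (G := Y) p (hcard ▸ dvd_pow_self p hk.ne')
    exact ⟨y, y.2, by rw [Subgroup.orderOf_coe, hy]⟩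
  obtain ⟨a, ha, hao⟩ := hex _ hle hb
  obtain ⟨b, hb', hbo⟩ := hex W hW hWne
  have h1 : a ∈ zpowers b := mem_zpowers_of_orderOf_eq hPc (hle ha) (hW hb') (hao.trans hbo.symm)
  have h2 : a = 1 := Subgroup.disjoint_def.1 hd ha (hQW (zpowers_le.2 hb' h1))
  rw [h2, orderOf_one] at hao
  exact hp.out.one_lt.ne hao

/-- Let G be a finite group and H a non-normal subgroup meeting each of its conjugates by elements outside N_G(H) trivially, with the order of H coprime to its index in N_G(H), such that G is π-separable for π the set of primes dividing the order of H (G has a chain of normal subgroups from 1 to G each of whose factors has order divisible only by primes dividing the order of H or coprime to it). Suppose a Sylow 2-subgroup of H is abelian and Q is a complement of H in N_G(H). Then C_H(Q), the subgroup of elements of H commuting with Q, has order coprime to its index in G and has a normal complement in G. -/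
theorem result {G : Type*} [Group G] [Finite G] (H : Subgroup G)
    (hTI : Cfsg.IsTISubset (H : Set G)) (hnn : ¬ H.Normal)
    (hHall : (Nat.card H).Coprime (H.subgroupOf (Subgroup.normalizer (H : Set G))).index)
    (hsep : ∃ (n : ℕ) (M : Fin (n + 1) → Subgroup G), M 0 = ⊥ ∧ M (Fin.last n) = ⊤ ∧ Monotone M ∧ (∀ i, (M i).Normal) ∧
      ∀ i : Fin n, (∀ q : ℕ, q.Prime → q ∣ (M i.castSucc).relIndex (M i.succ) → q ∣ Nat.card H) ∨
        ((M i.castSucc).relIndex (M i.succ)).Coprime (Nat.card H))
    (h2 : ∀ P : Sylow 2 H, IsMulCommutative (P : Subgroup H))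
    (Q : Subgroup G) (hQ : Q ≤ Subgroup.normalizer (H : Set G)) (hQH : Q ⊓ H = ⊥) (hQH' : Q ⊔ H = Subgroup.normalizer (H : Set G)) :
    (Nat.card ↥(H ⊓ Subgroup.centralizer (Q : Set G))).Coprime (H ⊓ Subgroup.centralizer (Q : Set G)).index ∧
    ∃ N : Subgroup G, N.Normal ∧ N.IsComplement' (H ⊓ Subgroup.centralizer (Q : Set G)) := by
  classical
  set N := normalizer (H : Set G) with hNdef
  have hHN : H ≤ N := le_normalizer
  -- trivial-intersection property
  have hTI' : ∀ g x : G, x ∈ H → g * x * g⁻¹ ∈ H → x ≠ 1 → g ∈ N := fun g x hx hgx hx1 => by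
    by_contra hg
    exact hx1 (hTI g hg x hx hgx)
  have hHne : H ≠ ⊥ := fun h => hnn (h ▸ inferInstance)
  -- `H` is a Hall subgroup
  have hHallG : (Nat.card H).Coprime H.index := by
    by_contra hnc
    obtain ⟨p, hp, hpH, hpi⟩ := Nat.Prime.not_coprime_iff_dvd.1 hnc
    haveI := Fact.mk hp
    obtain ⟨P0⟩ : Nonempty (Sylow p H) := inferInstance
    set P := (P0 : Subgroup H).map H.subtype with hP
    have hPp : IsPGroup p P := P0.2.map _
    have hPH : P ≤ H := map_subtype_le _
    obtain ⟨T, hT⟩ := hPp.exists_le_sylow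
    have hlt : P < (T : Subgroup G) := by
      refine lt_of_le_of_ne hT fun h => T.not_dvd_index ?_
      rw [← h, hP, index_map_subtype]
      exact hpi.mul_left _
    have hPne : P ≠ ⊥ := by
      rw [hP, ne_eq, Subgroup.map_eq_bot_iff_of_injective _ H.subtype_injective]
      exact P0.ne_bot_of_dvd_card hpH
    obtain ⟨x0, hx0, hx0ne⟩ := P.bot_or_exists_ne_one.resolve_left hPne
    set P1 := (T : Subgroup G) ⊓ normalizer (P : Set G)
    have h1 : P < P1 := Cfsg.Lib.Fusion.lt_inf_normalizer T.2 hlt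
    have h2 : P1 ≤ N := fun g hg =>
      hTI' g x0 (hPH hx0) (hPH ((mem_normalizer_iff.1 hg.2 x0).1 hx0)) hx0ne
    have h3 : ¬ p ∣ P.relIndex N := by
      rw [← relIndex_mul_relIndex P H N hPH hHN]
      refine hp.not_dvd_mul ?_ ?_
      · rw [hP, relIndex, subgroupOf, comap_map_eq_self_of_injective H.subtype_injective]
        exact P0.not_dvd_index
      · exact fun hd => (Nat.Prime.coprime_iff_not_dvd hp).1
          (Nat.Coprime.coprime_dvd_left hpH hHall) hd
    obtain ⟨k, hk⟩ := IsPGroup.iff_card.1 (T.2.to_le (inf_le_left : P1 ≤ T))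
    obtain ⟨j, hj⟩ := IsPGroup.iff_card.1 hPp
    have h4 := Cfsg.Lib.Core.card_mul_relIndex h1.le
    have h5 : P.relIndex P1 ∣ P.relIndex N := by
      rw [← relIndex_mul_relIndex P P1 N h1.le h2]
      exact dvd_mul_right _ _
    have h6 : P.relIndex P1 ∣ p ^ k := by rw [← hk]; exact relIndex_dvd_card _ _
    obtain ⟨i, -, hi⟩ := (Nat.dvd_prime_pow hp).1 h6
    rcases Nat.eq_zero_or_pos i with hi0 | hi0
    · rw [hi0, pow_zero, relIndex_eq_one] at hi
      exact h1.not_ge hi
    · exact h3 (((dvd_pow_self p hi0.ne').trans (dvd_of_eq hi.symm)).trans h5)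
  -- the largest normal subgroup of order prime to `|H|`
  set O := Cfsg.piCore {q : ℕ | ¬ q ∣ Nat.card H} G with hOdef
  have hOcop : (Nat.card O).Coprime (Nat.card H) := by
    by_contra hnc
    obtain ⟨q, hq, hqO, hqH⟩ := Nat.Prime.not_coprime_iff_dvd.1 hnc
    exact Cfsg.Lib.Core.piCore_isPiSub _ G q hq hqO hqH
  have hOH : O ⊓ H = ⊥ := inf_eq_bot_of_coprime hOcop
  have hNO : ∀ K : Subgroup G, K ≤ normalizer (O : Set G) := fun K => by
    rw [normalizer_eq_top_iff.2 inferInstance]; exact le_top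
  -- `G = O N`
  obtain ⟨n, M, hM0, hMn, hMmono, hMnormal, hMfac⟩ := hsep
  have hON : O ⊔ N = ⊤ := by
    have hex : ∃ i : Fin n, M i.castSucc ≤ O ∧ ¬ M i.succ ≤ O := by
      by_contra hcon
      push Not at hcon
      have hall : ∀ i : Fin (n + 1), M i ≤ O := by
        intro i
        induction i using Fin.induction with
        | zero => rw [hM0]; exact bot_le
        | succ i ih => exact hcon i ih
      have := hall (Fin.last n)
      rw [hMn, top_le_iff] at this
      rw [this, top_inf_eq] at hOH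
      exact hHne hOH
    obtain ⟨i, hlow, hhigh⟩ := hex
    set L := M i.castSucc
    set T := M i.succ with hTdef
    haveI := hMnormal i.succ
    have hLT : L ≤ T := hMmono (Fin.castSucc_le_succ i)
    have hcardT := Cfsg.Lib.Core.card_mul_relIndex hLT
    have hLcop : (Nat.card L).Coprime (Nat.card H) := hOcop.coprime_dvd_left (card_dvd_of_le hlow)
    rcases hMfac i with hpi | hco
    swap
    · refine absurd (Cfsg.Lib.Core.le_piCore (π := {q : ℕ | ¬ q ∣ Nat.card H}) (N := T) fun q hq hd => ?_) hhigh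
      intro hqH
      rw [← hcardT] at hd
      rcases hq.dvd_mul.1 hd with h | h
      · exact Nat.Prime.not_coprime_iff_dvd.2 ⟨q, hq, h, hqH⟩ hLcop
      · exact Nat.Prime.not_coprime_iff_dvd.2 ⟨q, hq, h, hqH⟩ hco
    set R := L.relIndex T
    have hidx : (H ⊓ T).relIndex T ∣ H.index := by
      have a1 := Cfsg.Lib.Core.card_mul_relIndex (le_sup_left : H ≤ H ⊔ T)
      have a2 := Cfsg.Lib.Core.card_mul_relIndex (le_sup_right : T ≤ H ⊔ T)
      have a3 := Cfsg.Lib.Core.card_mul_relIndex (inf_le_left : H ⊓ T ≤ H)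
      have a4 := Cfsg.Lib.Core.card_mul_relIndex (inf_le_right : H ⊓ T ≤ T)
      rw [inf_relIndex_left] at a3
      rw [inf_relIndex_right] at a4 ⊢
      rw [relIndex_sup_right H T] at a2
      have e : H.relIndex (H ⊔ T) = H.relIndex T := by
        refine Nat.eq_of_mul_eq_mul_left (Nat.card_pos (α := H)) ?_
        calc Nat.card H * H.relIndex (H ⊔ T) = Nat.card T * T.relIndex H := by rw [a1, a2]
          _ = Nat.card (H ⊓ T : Subgroup G) * T.relIndex H * H.relIndex T := by rw [← a4]; ring
          _ = Nat.card H * H.relIndex T := by rw [a3]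
      exact e ▸ relIndex_dvd_index_of_le le_sup_left
    have hcardW := Cfsg.Lib.Core.card_mul_relIndex (inf_le_right : H ⊓ T ≤ T)
    have hRdvd : R ∣ Nat.card (H ⊓ T : Subgroup G) := by
      refine Nat.Coprime.dvd_of_dvd_mul_right (n := (H ⊓ T).relIndex T) ?_
        (by rw [hcardW, ← hcardT]; exact dvd_mul_left _ _)
      by_contra hnc
      obtain ⟨q, hq, hqR, hqi⟩ := Nat.Prime.not_coprime_iff_dvd.1 hnc
      exact Nat.Prime.not_coprime_iff_dvd.2 ⟨q, hq, hpi q hq hqR, hqi.trans hidx⟩ hHallG
    have hTle : T ≤ L ⊔ (H ⊓ T) := by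
      refine (eq_of_le_of_card_ge (sup_le hLT inf_le_right) ?_).ge
      have hd : Nat.card L * Nat.card (H ⊓ T : Subgroup G) ∣ Nat.card (L ⊔ H ⊓ T : Subgroup G) :=
        Nat.Coprime.mul_dvd_of_dvd_of_dvd (hLcop.coprime_dvd_right (card_dvd_of_le inf_le_left))
          (card_dvd_of_le le_sup_left) (card_dvd_of_le le_sup_right)
      rw [← hcardT]
      exact Nat.le_of_dvd Nat.card_pos ((mul_dvd_mul_left _ hRdvd).trans hd)
    have hWne : H ⊓ T ≠ ⊥ := fun h => hhigh (hTle.trans (by rw [h, sup_bot_eq]; exact hlow))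
    have hW1 : Nat.card (H ⊓ T : Subgroup G) ≠ 1 := fun h => hWne (Subgroup.eq_bot_of_card_eq _ h)
    obtain ⟨p, hp, hpW⟩ := Nat.exists_prime_and_dvd hW1
    haveI := Fact.mk hp
    obtain ⟨P0⟩ : Nonempty (Sylow p (H ⊓ T : Subgroup G)) := inferInstance
    set P := (P0 : Subgroup (H ⊓ T : Subgroup G)).map (H ⊓ T : Subgroup G).subtype with hP
    have hPT : P ≤ T := (map_subtype_le _).trans inf_le_right
    have hPp : IsPGroup p (P.subgroupOf T) := (P0.2.map _).of_equiv (subgroupOfEquivOfLe hPT).symm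
    have hPi : ¬ p ∣ (P.subgroupOf T).index := by
      show ¬ p ∣ P.relIndex T
      rw [← relIndex_mul_relIndex P (H ⊓ T) T (map_subtype_le _) inf_le_right]
      refine hp.not_dvd_mul ?_ fun hd => ?_
      · rw [hP, relIndex, subgroupOf, comap_map_eq_self_of_injective (H ⊓ T : Subgroup G).subtype_injective]
        exact P0.not_dvd_index
      · exact Nat.Prime.not_coprime_iff_dvd.2
          ⟨p, hp, hpW.trans (card_dvd_of_le inf_le_left), hd.trans hidx⟩ hHallG
    have hfr : normalizer (((P.subgroupOf T).map T.subtype : Subgroup G) : Set G) ⊔ T = ⊤ :=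
      Sylow.normalizer_sup_eq_top (hPp.toSylow hPi)
    rw [map_subgroupOf_eq_of_le hPT] at hfr
    have hPne : P ≠ ⊥ := by
      rw [hP, ne_eq, Subgroup.map_eq_bot_iff_of_injective _ (H ⊓ T : Subgroup G).subtype_injective]
      exact P0.ne_bot_of_dvd_card hpW
    obtain ⟨x0, hx0, hx0ne⟩ := P.bot_or_exists_ne_one.resolve_left hPne
    have hPH : P ≤ H := (map_subtype_le _).trans inf_le_left
    have hNP : normalizer (P : Set G) ≤ N := fun g hg =>
      hTI' g x0 (hPH hx0) (hPH ((mem_normalizer_iff.1 hg x0).1 hx0)) hx0ne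
    rw [eq_top_iff, ← hfr]
    exact sup_le (hNP.trans le_sup_right)
      (hTle.trans (sup_le (hlow.trans le_sup_left) (inf_le_left.trans (hHN.trans le_sup_right))))
  -- centralisers in `O` of nontrivial elements of `H`
  have hcentO : ∀ h ∈ H, h ≠ 1 → O ⊓ centralizer ({h} : Set G) ≤ centralizer (H : Set G) := by
    intro h hh h1 x hx
    have hxN : x ∈ N := hTI' x h hh (by
      rw [mem_centralizer_singleton_iff.1 hx.2, mul_inv_cancel_right]; exact hh) h1
    refine mem_centralizer_iff.2 fun y hy => ?_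
    have h2 : x * y * x⁻¹ * y⁻¹ ∈ O ⊓ H := mem_inf.2 ⟨by
        rw [mul_assoc, mul_assoc, ← mul_assoc y]
        exact mul_mem hx.1 ((inferInstance : O.Normal).conj_mem _ (inv_mem hx.1) y),
      mul_mem ((mem_normalizer_iff.1 hxN y).1 hy) (inv_mem hy)⟩
    rw [hOH, mem_bot, mul_inv_eq_one, mul_inv_eq_iff_eq_mul] at h2
    exact h2.symm
  have hnotcent : ¬ O ≤ centralizer (H : Set G) := fun h => hnn (by
    have : N = ⊤ := top_le_iff.1 (hON ▸ sup_le (h.trans (centralizer_le_normalizer _)) le_rfl)
    exact normalizer_eq_top_iff.1 this)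
  -- every Sylow subgroup of `H` is cyclic
  haveI hZ : IsZGroup H := ⟨fun p hp P => by
    haveI := Fact.mk hp
    by_contra hnc
    obtain ⟨A, hAH, hAc, hAnc⟩ : ∃ A ≤ H, IsMulCommutative A ∧ ¬ IsCyclic A := by
      set P' := (P : Subgroup H).map H.subtype with hP'
      have hnc' : ¬ IsCyclic P' := fun h =>
        hnc (((P : Subgroup H).equivMapOfInjective H.subtype H.subtype_injective).isCyclic.2 h)
      by_cases hp2 : p = 2
      · subst hp2
        haveI := h2 P
        exact ⟨P', map_subtype_le _, inferInstance, hnc'⟩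
      · obtain ⟨E, hE, hEe, hEc⟩ :=
          Cfsg.Lib.PGroup.Noncyclic.exists_elemAb_sq hp2 P.2 ⊤ fun h => hnc (topEquiv.isCyclic.1 h)
        haveI := hEe.1
        haveI : IsMulCommutative ((E.map (P : Subgroup H).subtype).map H.subtype : Subgroup G) :=
          inferInstance
        refine ⟨_, map_subtype_le _, this, fun hc => ?_⟩
        exact Cfsg.Lib.PGroup.Noncyclic.not_isCyclic_of_elemAb hEe hEc
          (((E.equivMapOfInjective _ (P : Subgroup H).subtype_injective).trans
            ((E.map (P : Subgroup H).subtype).equivMapOfInjective _ H.subtype_injective)).isCyclic.2 hc)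
    haveI := hAc
    have hgen := Cfsg.Lib.Coprime.le_iSup_centralizer_of_not_isCyclic (G := O) hAnc (hNO A)
      ((hOcop.coprime_dvd_right (card_dvd_of_le hAH)).symm)
    exact hnotcent (hgen.trans (iSup_le fun a => hcentO a (hAH a.2.1) a.2.2))⟩
  have hsolH : Group.IsSolvable H := inferInstance
  -- the complement `Q`
  have hHnorm : (H.subgroupOf N).Normal := (normal_subgroupOf_iff_le_normalizer hHN).2 le_rfl
  have hQcard : Nat.card Q = (H.subgroupOf N).index := by
    have h1 : H.relIndex Q = H.relIndex N := by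
      have h : (H.subgroupOf N).relIndex (Q.subgroupOf N) = H.relIndex Q :=
        by
        rw [relIndex_subgroupOf hQ]
      rw [← h]
      have htopQ : Q.subgroupOf N ⊔ H.subgroupOf N = ⊤ := by
        rw [← subgroupOf_sup hQ hHN, hQH', subgroupOf_self]
      rw [← relIndex_sup_right (Q.subgroupOf N) (H.subgroupOf N), htopQ, relIndex_top_right]
      rfl
    rw [show (H.subgroupOf N).index = H.relIndex N from rfl, ← h1, ← inf_relIndex_right,
      inf_comm, hQH, relIndex_bot_left]
  have hQcop : (Nat.card Q).Coprime (Nat.card H) := by rw [hQcard]; exact hHall.symm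
  set C := H ⊓ centralizer (Q : Set G) with hC
  set K := ⁅H, Q⁆ with hK
  have hKH : K ≤ H := Cfsg.Lib.Coprime.commutator_le_of_le_normalizer hQ
  have hsol : Group.IsSolvable Q ∨ Group.IsSolvable H := Or.inr hsolH
  have hKK : ⁅K, Q⁆ = K := Cfsg.Lib.Coprime.commutator_commutator_eq hQ hQcop hsol
  have hKC : K ⊔ C = H := Cfsg.Lib.Coprime.commutator_sup_centralizer_eq hQ hQcop hsol
  -- the orders of `K` and `C` are coprime
  have hcopKC : (Nat.card K).Coprime (Nat.card C) := by
    by_contra hnc
    obtain ⟨p, hp, hpK, hpC⟩ := Nat.Prime.not_coprime_iff_dvd.1 hnc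
    haveI := Fact.mk hp
    obtain ⟨W0⟩ : Nonempty (Sylow p C) := inferInstance
    set W := (W0 : Subgroup C).map C.subtype with hW
    have hWC : W ≤ C := map_subtype_le _
    have hWne : W ≠ ⊥ := by
      rw [hW, ne_eq, Subgroup.map_eq_bot_iff_of_injective _ C.subtype_injective]
      exact W0.ne_bot_of_dvd_card hpC
    have hWQ : W ≤ centralizer (Q : Set G) := hWC.trans inf_le_right
    have hQW : Q ≤ normalizer (W : Set G) :=
      (le_centralizer_iff.1 hWQ).trans (centralizer_le_normalizer _)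
    obtain ⟨S, hWS, hQS⟩ := Cfsg.Lib.Coprime.exists_invariant_sylow_ge hQ hQcop hsol
      (hWC.trans inf_le_left) (W0.2.map _ : IsPGroup p W) hQW
    set P := (S : Subgroup H).map H.subtype with hP
    have hPH : P ≤ H := map_subtype_le _
    have hPp : IsPGroup p P := S.2.map _
    have hPc : IsCyclic P :=
      ((S : Subgroup H).equivMapOfInjective H.subtype H.subtype_injective).isCyclic.1 inferInstance
    have hQP : Q ≤ centralizer (P : Set G) :=
      le_centralizer_of_cyclic hPp hPc hQS (hQcop.coprime_dvd_right (card_dvd_of_le hPH)) hWS hWne hWQ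
    have hidxP : ∀ U : Subgroup G, P ≤ U → U ≤ H → ¬ p ∣ P.relIndex U := by
      intro U h1 h2 hd
      refine S.not_dvd_index ?_
      have h3 : P.relIndex U ∣ P.relIndex H := by
        rw [← relIndex_mul_relIndex P U H h1 h2]
        exact dvd_mul_right _ _
      have h4 : P.relIndex H = (S : Subgroup H).index := by
        rw [hP, relIndex, subgroupOf, comap_map_eq_self_of_injective H.subtype_injective]
      exact h4 ▸ hd.trans h3
    rcases Sylow.normalizer_le_centralizer_or_le_commutator S with hcase | hcase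
    · refine not_dvd_card_commutator H Q P hPH hPp (hidxP H hPH le_rfl) hQ hQP ?_ hpK
      intro u hu
      refine mem_centralizer_iff.2 ?_
      rintro _ ⟨s, hs, rfl⟩
      have hu' : (⟨u, hu.1⟩ : H) ∈ normalizer ((S : Subgroup H) : Set H) := by
        refine Subgroup.mem_normalizer_iff.2 fun y => ?_
        have := mem_normalizer_iff.1 hu.2 (y : G)
        rw [hP] at this
        simp only [Subgroup.mem_map, Subgroup.coe_subtype] at this
        constructor
        · intro hy
          obtain ⟨z, hz, hze⟩ := this.1 ⟨y, hy, rfl⟩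
          rwa [show (⟨u, hu.1⟩ * y * ⟨u, hu.1⟩⁻¹ : H) = z from Subtype.ext hze.symm]
        · intro hy
          obtain ⟨z, hz, hze⟩ := this.2 ⟨_, hy, rfl⟩
          rwa [show y = z from Subtype.ext hze.symm]
      exact congrArg Subtype.val (mem_centralizer_iff.1 (hcase hu') s hs)
    · -- `P` lies in the cyclic derived subgroup, so it is normal in `H`
      have hPn : H ≤ normalizer (P : Set G) := by
        intro h hh
        refine mem_normalizer_fintype ?_
        rintro _ ⟨s, hs, rfl⟩
        have hs' : s ∈ commutator H := hcase hs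
        have hconj : (⟨h, hh⟩ : H) * s * ⟨h, hh⟩⁻¹ ∈ commutator H :=
          (inferInstance : (commutator H).Normal).conj_mem s hs' _
        have hmem := mem_zpowers_of_orderOf_eq (P := commutator H) (IsZGroup.isCyclic_commutator H) hconj hs'
          (orderOf_injective (MulAut.conj (⟨h, hh⟩ : H)).toMonoidHom
            (MulAut.conj (⟨h, hh⟩ : H)).injective s)
        exact ⟨_, zpowers_le.2 hs hmem, rfl⟩
      have hKP : K ≤ centralizer (P : Set G) := by
        refine commutator_le.2 fun h hh q hq => mem_centralizer_iff.2 fun x hx => ?_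
        have hfix : ∀ y ∈ P, y * q = q * y := fun y hy => mem_centralizer_iff.1 (hQP hq) y hy
        have hx1 : h⁻¹ * x * h ∈ P := by
          simpa using (mem_normalizer_iff.1 (hPn (inv_mem hh)) x).1 hx
        rw [commutatorElement_def]
        calc x * (h * q * h⁻¹ * q⁻¹) = h * (h⁻¹ * x * h * q) * h⁻¹ * q⁻¹ := by group
          _ = h * q * h⁻¹ * (x * q⁻¹) := by rw [hfix _ hx1]; group
          _ = h * q * h⁻¹ * q⁻¹ * x := by
            rw [show x * q⁻¹ = q⁻¹ * x from (Commute.inv_right (hfix x hx)).eq]; group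
      set U := H ⊓ centralizer (P : Set G) with hU
      have hPU : P ≤ U := by
        refine le_inf hPH fun x hx => mem_centralizer_iff.2 fun y hy => ?_
        exact congrArg Subtype.val (IsCyclic.commGroup.mul_comm (⟨y, hy⟩ : P) ⟨x, hx⟩)
      have hQU : Q ≤ normalizer (U : Set G) :=
        (le_inf hQ (hQP.trans le_normalizer)).trans inf_normalizer_le_normalizer_inf
      refine not_dvd_card_commutator U Q P hPU hPp (hidxP U hPU inf_le_left) hQU hQP
        (inf_le_left.trans inf_le_right) (hpK.trans (card_dvd_of_le ?_))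
      conv_lhs => rw [← hKK]
      exact commutator_mono (le_inf hKH hKP) le_rfl
  have hdisjKC : K ⊓ C = ⊥ := inf_eq_bot_of_coprime hcopKC
  have hcardH : Nat.card H = Nat.card K * Nat.card C := by
    refine Nat.dvd_antisymm ?_
      (Nat.Coprime.mul_dvd_of_dvd_of_dvd hcopKC (card_dvd_of_le hKH) (card_dvd_of_le inf_le_left))
    have hCK : C ≤ normalizer (K : Set G) := inf_le_left.trans (normalizer_commutator_ge_left H Q)
    rw [← hKC, ← Cfsg.Lib.Coprime.card_sup_of_disjoint hCK (disjoint_iff.2 hdisjKC)]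
  refine ⟨?_, ?_⟩
  · rw [← relIndex_mul_index (inf_le_left : C ≤ H)]
    refine Nat.Coprime.mul_right ?_ (hHallG.coprime_dvd_left (card_dvd_of_le inf_le_left))
    have h4 := Cfsg.Lib.Core.card_mul_relIndex (inf_le_left : C ≤ H)
    rw [hcardH, mul_comm (Nat.card K)] at h4
    rw [Nat.eq_of_mul_eq_mul_left Nat.card_pos h4]
    exact hcopKC.symm
  -- the normal complement
  have hQK : Q ≤ normalizer (K : Set G) := normalizer_commutator_ge_right H Q
  have hHK : H ≤ normalizer (K : Set G) := normalizer_commutator_ge_left H Q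
  set L := O ⊔ (K ⊔ Q) with hL
  have hHL : ∀ h ∈ H, ∀ y ∈ L, h * y * h⁻¹ ∈ L := by
    intro h hh
    have hle : L ≤ L.comap (MulAut.conj h).toMonoidHom := by
      refine sup_le (fun y hy => mem_sup_left ((inferInstance : O.Normal).conj_mem y hy h))
        (sup_le (fun y hy => mem_sup_right (mem_sup_left ((mem_normalizer_iff.1 (hHK hh) y).1 hy)))
          fun y hy => ?_)
      show h * y * h⁻¹ ∈ L
      rw [show h * y * h⁻¹ = ⁅h, y⁆ * y by simp [commutatorElement_def]]
      exact mul_mem (mem_sup_right (mem_sup_left (commutator_mem_commutator hh hy)))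
        (mem_sup_right (mem_sup_right hy))
    exact fun y hy => hle hy
  have htop : L ⊔ C = ⊤ := by
    rw [eq_top_iff, ← hON]
    refine sup_le (le_sup_left.trans le_sup_left) ?_
    rw [← hQH', ← hKC]
    exact sup_le ((le_sup_right.trans le_sup_right).trans le_sup_left)
      (sup_le ((le_sup_left.trans le_sup_right).trans le_sup_left) le_sup_right)
  have hLn : L.Normal := by
    refine normalizer_eq_top_iff.1 (top_le_iff.1 (htop ▸ sup_le le_normalizer fun h hh => ?_))
    exact mem_normalizer_fintype fun y hy => hHL h hh.1 y hy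
  refine ⟨L, hLn, ?_⟩
  have hKQ : Nat.card (K ⊔ Q : Subgroup G) ∣ Nat.card K * Nat.card Q := by
    rw [Cfsg.Lib.Coprime.card_sup_of_disjoint hQK (disjoint_iff.2 (le_bot_iff.1
      (hQH ▸ le_inf inf_le_right (inf_le_left.trans hKH))))]
  have hLcard : (Nat.card L).Coprime (Nat.card C) := by
    have h1 : Nat.card L ∣ Nat.card (K ⊔ Q : Subgroup G) * Nat.card O := by
      rw [hL, sup_comm]; exact Cfsg.Lib.Core.card_sup_dvd_mul _ _
    refine Nat.Coprime.coprime_dvd_left (h1.trans (mul_dvd_mul_right hKQ _)) ?_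
    refine Nat.Coprime.mul_left (Nat.Coprime.mul_left hcopKC ?_) ?_
    · exact hQcop.coprime_dvd_right (card_dvd_of_le inf_le_left)
    · exact hOcop.coprime_dvd_right (card_dvd_of_le inf_le_left)
  exact isComplement'_of_disjoint_and_mul_eq_univ (disjoint_iff.2 (inf_eq_bot_of_coprime hLcard))
    (by rw [← normal_mul, htop, coe_top])

end Cfsg.Agent.S4151
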