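import Cfsg.Statements.S4152
import Mathlib
import Cfsg.Agent.Lib.Fusion.Parts

set_option autoImplicit false
open Cfsg

namespace Cfsg.Agent.S4152

open Subgroup

variable {G : Type*} [Group G]

/-- Every prime divisor of the order lies in `π`. -/
def IsPiEl (π : Set ℕ) (g : G) : Prop := ∀ q : ℕ, q.Prime → q ∣ orderOf g → q ∈ π

theorem isPiEl_one (π : Set ℕ) : IsPiEl π (1 : G) := fun q hq h => by
  rw [orderOf_one] at h; exact absurd h hq.not_dvd_one

theorem IsPiEl.mul {π : Set ℕ} {a b : G} (h : Commute a b) (ha : IsPiEl π a) (hb : IsPiEl π b) :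
    IsPiEl π (a * b) := fun q hq hd =>
  (hq.dvd_mul.1 (hd.trans h.orderOf_mul_dvd_mul_orderOf)).elim (ha q hq) (hb q hq)

theorem IsPiEl.inv {π : Set ℕ} {a : G} (ha : IsPiEl π a) : IsPiEl π a⁻¹ := fun q hq hd =>
  ha q hq (by rwa [orderOf_inv] at hd)

theorem eq_one_of_isPiEl {π : Set ℕ} {a : G} (h1 : IsPiEl π a) (h2 : IsPiEl πᶜ a) : a = 1 := by
  by_contra h
  obtain ⟨q, hq, hd⟩ := Nat.exists_prime_and_dvd (fun e => h (orderOf_eq_one_iff.1 e))
  exact h2 q hq hd (h1 q hq hd)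

theorem IsPiEl.map {π : Set ℕ} {H : Type*} [Group H] (f : G →* H) {a : G} (ha : IsPiEl π a) :
    IsPiEl π (f a) := fun q hq hd => ha q hq (hd.trans (orderOf_map_dvd f a))

theorem isPiEl_conj {π : Set ℕ} (g a : G) (ha : IsPiEl π a) : IsPiEl π (g * a * g⁻¹) := by
  simpa using ha.map (MulAut.conj g).toMonoidHom

theorem exists_split [Finite G] (π : Set ℕ) (g : G) :
    ∃ s z : G, IsPiEl π s ∧ IsPiEl πᶜ z ∧ s ∈ zpowers g ∧ z ∈ zpowers g ∧ g = s * z := by
  have hc : ∀ {u v : G}, u ∈ zpowers g → v ∈ zpowers g → Commute u v := by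
    rintro u v ⟨i, rfl⟩ ⟨j, rfl⟩
    exact Commute.zpow_zpow_self g i j
  refine Cfsg.Lib.Fusion.induction_parts g
    (Q := fun y => ∃ s z : G, IsPiEl π s ∧ IsPiEl πᶜ z ∧ s ∈ zpowers g ∧ z ∈ zpowers g ∧ y = s * z)
    (fun y hy p k hp hk => ?_) ?_
  · by_cases hpπ : p ∈ π
    · refine ⟨y, 1, fun q hq hd => ?_, isPiEl_one _, hy, one_mem _, (mul_one y).symm⟩
      rw [hk] at hd
      rwa [(Nat.prime_dvd_prime_iff_eq hq hp).1 (hq.dvd_of_dvd_pow hd)]
    · refine ⟨1, y, isPiEl_one _, fun q hq hd => ?_, one_mem _, hy, (one_mul y).symm⟩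
      rw [hk] at hd
      rwa [(Nat.prime_dvd_prime_iff_eq hq hp).1 (hq.dvd_of_dvd_pow hd)]
  · rintro a - b - ⟨s, z, hs, hz, hsm, hzm, rfl⟩ ⟨s', z', hs', hz', hsm', hzm', rfl⟩
    exact ⟨s * s', z * z', hs.mul (hc hsm hsm') hs', hz.mul (hc hzm hzm') hz', mul_mem hsm hsm',
      mul_mem hzm hzm', (hc hzm hsm').mul_mul_mul_comm _ _⟩

theorem eq_of_split {π : Set ℕ} {g s z s' z' : G} (hs : IsPiEl π s) (hz : IsPiEl πᶜ z)
    (hsm : s ∈ zpowers g) (hzm : z ∈ zpowers g) (he : g = s * z) (hs' : IsPiEl π s')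
    (hz' : IsPiEl πᶜ z') (hc : Commute s' z') (he' : g = s' * z') : s = s' ∧ z = z' := by
  have hsg : Commute s' g := he' ▸ (Commute.refl s').mul_right hc
  have hzg : Commute z' g := he' ▸ hc.symm.mul_right (Commute.refl z')
  have h1 : Commute s' s := by obtain ⟨i, rfl⟩ := hsm; exact hsg.zpow_right i
  have h2 : Commute z' z := by obtain ⟨i, rfl⟩ := hzm; exact hzg.zpow_right i
  have h3 : s'⁻¹ * s = z' * z⁻¹ := by
    rw [eq_mul_inv_iff_mul_eq, mul_assoc, ← he, he', inv_mul_cancel_left]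
  have h4 : s'⁻¹ * s = 1 :=
    eq_one_of_isPiEl (hs'.inv.mul h1.inv_left hs) (h3 ▸ hz'.mul h2.inv_right hz.inv)
  have h5 : s = s' := (inv_mul_eq_one.1 h4).symm
  refine ⟨h5, ?_⟩
  rw [h5] at he
  exact mul_left_cancel (he.symm.trans he')

variable (N : Subgroup G) [N.Normal] (π : Set ℕ)

/-- The `π`-elements of a coset. -/
def Layer (t : G ⧸ N) : Type _ := {g : G // (g : G ⧸ N) = t ∧ IsPiEl π g}

/-- Conjugation of `N` on the `π`-elements of a coset fixed by `N`. -/
instance instMulActionLayer (t : G ⧸ N) : MulAction N (Layer N π t) where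
  smul n a := ⟨n * a.1 * (n : G)⁻¹, by
    refine ⟨?_, isPiEl_conj _ _ a.2.2⟩
    rw [QuotientGroup.mk_mul, QuotientGroup.mk_mul, (QuotientGroup.eq_one_iff (n : G)).2 n.2,
      QuotientGroup.mk_inv, (QuotientGroup.eq_one_iff (n : G)).2 n.2, one_mul, inv_one, mul_one, a.2.1]⟩
  one_smul a := Subtype.ext (show ((1 : N) : G) * a.1 * ((1 : N) : G)⁻¹ = a.1 by simp)
  mul_smul m n a := Subtype.ext
    (show ((m * n : N) : G) * a.1 * ((m * n : N) : G)⁻¹ = m * ((n : G) * a.1 * (n : G)⁻¹) * (m : G)⁻¹ by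
      simp [mul_assoc])

theorem smul_val (t : G ⧸ N) (n : N) (a : Layer N π t) : (n • a).1 = n * a.1 * (n : G)⁻¹ := rfl

theorem smul_eq_iff (t : G ⧸ N) (n : N) (a : Layer N π t) : n • a = a ↔ Commute (n : G) a.1 := by
  constructor
  · intro h
    exact mul_inv_eq_iff_eq_mul.1 ((smul_val N π t n a).symm.trans (congrArg Subtype.val h))
  · intro h
    exact Subtype.ext ((smul_val N π t n a).trans (mul_inv_eq_iff_eq_mul.2 h.eq))

theorem card_orbits_le [Finite G] (t : G ⧸ N) :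
    Nat.card (Quotient (MulAction.orbitRel N (Layer N π t))) ≤
      Nat.card (Quotient (MulAction.orbitRel N (Layer N π (1 : G ⧸ N)))) := by
  classical
  haveI : Finite (Layer N π t) := inferInstanceAs (Finite (Subtype _))
  haveI : Finite (Layer N π (1 : G ⧸ N)) := inferInstanceAs (Finite (Subtype _))
  refine Nat.le_of_mul_le_mul_right ?_ (Nat.card_pos (α := N))
  rw [← Nat.card_prod, ← Nat.card_prod,
    ← Nat.card_congr (MulAction.sigmaFixedByEquivOrbitsProdGroup N (Layer N π t)),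
    ← Nat.card_congr (MulAction.sigmaFixedByEquivOrbitsProdGroup N (Layer N π (1 : G ⧸ N)))]
  -- pairs `(π-element of N, element of the coset)` that commute
  let Y := Σ y : Layer N π (1 : G ⧸ N), {g : G // (g : G ⧸ N) = t ∧ Commute y.1 g}
  have hY : Nat.card Y ≤
      Nat.card (Σ n : N, MulAction.fixedBy (Layer N π (1 : G ⧸ N)) n) := by
    let base : ∀ y : Layer N π (1 : G ⧸ N), G := fun y =>
      if h : ∃ g : G, (g : G ⧸ N) = t ∧ Commute y.1 g then h.choose else 1
    have hbase : ∀ (y : Layer N π (1 : G ⧸ N)) (g : G), (g : G ⧸ N) = t → Commute y.1 g →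
        (base y : G ⧸ N) = t ∧ Commute y.1 (base y) := by
      intro y g h1 h2
      have h : ∃ g : G, (g : G ⧸ N) = t ∧ Commute y.1 g := ⟨g, h1, h2⟩
      simp only [base, dif_pos h]
      exact h.choose_spec
    refine Nat.card_le_card_of_injective
      (fun a => ⟨⟨(base a.1)⁻¹ * a.2.1, QuotientGroup.eq.1
        ((hbase a.1 a.2.1 a.2.2.1 a.2.2.2).1.trans a.2.2.1.symm)⟩, ⟨a.1, ?_⟩⟩) ?_
    · rw [MulAction.mem_fixedBy, smul_eq_iff]
      exact ((hbase a.1 a.2.1 a.2.2.1 a.2.2.2).2.inv_right.mul_right a.2.2.2).symm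
    · rintro ⟨y, g⟩ ⟨y', g'⟩ h
      have h1 : y = y' :=
        congrArg (fun z : (Σ n : N, MulAction.fixedBy (Layer N π (1 : G ⧸ N)) n) => z.2.1) h
      subst h1
      have h2 := congrArg
        (fun z : (Σ n : N, MulAction.fixedBy (Layer N π (1 : G ⧸ N)) n) => (z.1 : G)) h
      exact Sigma.ext rfl (heq_of_eq (Subtype.ext (mul_left_cancel h2)))
  refine le_trans (Nat.card_le_card_of_injective ?_ ?_) hY
  · intro a
    let d := exists_split π (a.1 : G)
    have hs := d.choose_spec.choose_spec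
    have hsN : d.choose ∈ N := zpowers_le.2 a.1.2 hs.2.2.1
    have hzN : d.choose_spec.choose ∈ N := zpowers_le.2 a.1.2 hs.2.2.2.1
    have hcom : Commute (a.1 : G) a.2.1.1 := (smul_eq_iff N π t a.1 a.2.1).1 a.2.2
    refine ⟨⟨d.choose, (QuotientGroup.eq_one_iff _).2 hsN, hs.1⟩,
      ⟨a.2.1.1 * d.choose_spec.choose, ?_, ?_⟩⟩
    · rw [QuotientGroup.mk_mul, (QuotientGroup.eq_one_iff _).2 hzN, mul_one]
      exact a.2.1.2.1
    · obtain ⟨i, hi⟩ := hs.2.2.1
      obtain ⟨j, hj⟩ := hs.2.2.2.1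
      show Commute d.choose _
      refine Commute.mul_right ?_ ?_
      · exact hi ▸ hcom.zpow_left i
      · exact (congrArg₂ Commute hi hj).mp (Commute.zpow_zpow_self _ i j)
  · rintro ⟨n, a⟩ ⟨n', a'⟩ h
    let d := exists_split π (n : G)
    let d' := exists_split π (n' : G)
    have hs := d.choose_spec.choose_spec
    have hs' := d'.choose_spec.choose_spec
    have h1 : d.choose = d'.choose := congrArg (fun z : Y => z.1.1) h
    have h2 : a.1.1 * d.choose_spec.choose = a'.1.1 * d'.choose_spec.choose :=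
      congrArg (fun z : Y => z.2.1) h
    obtain ⟨s0, z0, k1, k2, k3, k4, k5⟩ := exists_split π (a.1.1 * d.choose_spec.choose)
    have hc : Commute a.1.1 d.choose_spec.choose := by
      obtain ⟨j, hj⟩ := hs.2.2.2.1
      exact hj ▸ ((smul_eq_iff N π t n a.1).1 a.2).symm.zpow_right j
    have hc' : Commute a'.1.1 d'.choose_spec.choose := by
      obtain ⟨j, hj⟩ := hs'.2.2.2.1
      exact hj ▸ ((smul_eq_iff N π t n' a'.1).1 a'.2).symm.zpow_right j
    obtain ⟨e1, e2⟩ := eq_of_split k1 k2 k3 k4 k5 a.1.2.2 hs.2.1 hc rfl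
    obtain ⟨e3, e4⟩ := eq_of_split k1 k2 k3 k4 k5 a'.1.2.2 hs'.2.1 hc' h2
    have hn : n = n' := by
      apply Subtype.ext
      rw [hs.2.2.2.2, hs'.2.2.2.2]
      exact congrArg₂ (· * ·) h1 (e2.symm.trans e4)
    subst hn
    exact Sigma.ext rfl (heq_of_eq (Subtype.ext (Subtype.ext (e1.symm.trans e3))))

/-- Let G be a finite group, N a normal subgroup and π a set of primes. Then the number of conjugacy classes of π-elements of G (elements whose order is divisible only by primes in π) is at most the number of conjugacy classes of π-elements of N (under conjugation by N) times the number of conjugacy classes of π-elements of G/N. -/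
theorem result {G : Type*} [Group G] [Finite G] (N : Subgroup G) [N.Normal] (π : Set ℕ) :
    Nat.card {C : ConjClasses G // ∀ q : ℕ, q.Prime → (∃ g : G, ConjClasses.mk g = C ∧ q ∣ orderOf g) → q ∈ π} ≤ Nat.card {C : ConjClasses N // ∀ q : ℕ, q.Prime → (∃ g : N, ConjClasses.mk g = C ∧ q ∣ orderOf g) → q ∈ π} * Nat.card {C : ConjClasses (G ⧸ N) // ∀ q : ℕ, q.Prime → (∃ g : (G ⧸ N), ConjClasses.mk g = C ∧ q ∣ orderOf g) → q ∈ π} := by
  classical
  let P : ∀ (H : Type _) [Group H], ConjClasses H → Prop := fun H _ C =>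
    ∀ q : ℕ, q.Prime → (∃ g : H, ConjClasses.mk g = C ∧ q ∣ orderOf g) → q ∈ π
  let f : {C : ConjClasses G // P G C} → {C : ConjClasses (G ⧸ N) // P (G ⧸ N) C} := fun C =>
    ⟨ConjClasses.map (QuotientGroup.mk' N) C.1, by
      rintro q hq ⟨g, hg, hd⟩
      obtain ⟨x, hx⟩ := ConjClasses.mk_surjective C.1
      rw [← hx] at hg
      change ConjClasses.mk g = ConjClasses.mk (QuotientGroup.mk' N x) at hg
      obtain ⟨c, hc⟩ := isConj_iff.1 (ConjClasses.mk_eq_mk_iff_isConj.1 hg)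
      refine C.2 q hq ⟨x, hx, ?_⟩
      have : orderOf g = orderOf (QuotientGroup.mk' N x) := by
        rw [← hc]; exact (orderOf_injective (MulAut.conj c).toMonoidHom (MulAut.conj c).injective g).symm
      exact (this ▸ hd).trans (orderOf_map_dvd _ x)⟩
  haveI : Fintype {C : ConjClasses (G ⧸ N) // P (G ⧸ N) C} := Fintype.ofFinite _
  rw [mul_comm, ← Nat.card_congr (Equiv.sigmaFiberEquiv f), Nat.card_sigma]
  refine (Finset.sum_le_card_nsmul _ _
    (Nat.card {C : ConjClasses N // P N C}) fun D _ => ?_).trans (le_of_eq ?_)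
  swap
  · rw [Finset.card_univ, smul_eq_mul, ← Nat.card_eq_fintype_card]
  obtain ⟨t, ht⟩ := ConjClasses.mk_surjective D.1
  haveI : Finite (Layer N π t) := inferInstanceAs (Finite (Subtype _))
  haveI : Finite (Layer N π (1 : G ⧸ N)) := inferInstanceAs (Finite (Subtype _))
  refine le_trans ?_ ((card_orbits_le N π t).trans ?_)
  · refine Nat.card_le_card_of_surjective
      (Quotient.lift (fun a : Layer N π t =>
        (⟨⟨ConjClasses.mk a.1, ?_⟩, Subtype.ext ?_⟩ : {C // f C = D})) ?_) ?_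
    · rintro q hq ⟨g, hg, hd⟩
      obtain ⟨c, hc⟩ := isConj_iff.1 (ConjClasses.mk_eq_mk_iff_isConj.1 hg)
      refine a.2.2 q hq ?_
      rw [← hc]
      exact hd.trans (orderOf_injective (MulAut.conj c).toMonoidHom (MulAut.conj c).injective g).symm.dvd
    · show ConjClasses.mk (QuotientGroup.mk' N a.1) = D.1
      rw [← ht]
      exact congrArg _ a.2.1
    · intro a b hab
      obtain ⟨n, hn⟩ := hab
      refine Subtype.ext (Subtype.ext (ConjClasses.mk_eq_mk_iff_isConj.2 (isConj_iff.2 ⟨(n : G)⁻¹, ?_⟩)))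
      rw [← hn]
      show (n : G)⁻¹ * ((n : G) * b.1 * (n : G)⁻¹) * (n : G)⁻¹⁻¹ = b.1
      group
    · rintro ⟨⟨C, hC⟩, hCD⟩
      obtain ⟨x, rfl⟩ := ConjClasses.mk_surjective C
      have h1 : ConjClasses.mk (QuotientGroup.mk' N x) = ConjClasses.mk t :=
        (congrArg Subtype.val hCD).trans ht.symm
      obtain ⟨c, hc⟩ := isConj_iff.1 (ConjClasses.mk_eq_mk_iff_isConj.1 h1)
      obtain ⟨g, rfl⟩ := QuotientGroup.mk_surjective c
      refine ⟨Quotient.mk'' ⟨g * x * g⁻¹, hc, isPiEl_conj g x fun q hq hd => hC q hq ⟨x, rfl, hd⟩⟩, ?_⟩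
      exact Subtype.ext (Subtype.ext (ConjClasses.mk_eq_mk_iff_isConj.2 (isConj_iff.2 ⟨g⁻¹, by group⟩)))
  · refine Nat.card_le_card_of_injective
      (Quotient.lift (fun a : Layer N π (1 : G ⧸ N) =>
        (⟨ConjClasses.mk ⟨a.1, (QuotientGroup.eq_one_iff _).1 a.2.1⟩, ?_⟩ :
          {C : ConjClasses N // P N C})) ?_) ?_
    · rintro q hq ⟨g, hg, hd⟩
      obtain ⟨c, hc⟩ := isConj_iff.1 (ConjClasses.mk_eq_mk_iff_isConj.1 hg)
      have he : (c : G) * (g : G) * (c : G)⁻¹ = a.1 := congrArg Subtype.val hc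
      refine a.2.2 q hq ?_
      rw [← he]
      refine hd.trans (dvd_of_eq ?_)
      rw [← Subgroup.orderOf_coe g]
      exact (orderOf_injective (MulAut.conj (c : G)).toMonoidHom (MulAut.conj (c : G)).injective _).symm
    · intro a b hab
      obtain ⟨n, hn⟩ := hab
      refine Subtype.ext (ConjClasses.mk_eq_mk_iff_isConj.2 (isConj_iff.2 ⟨n⁻¹, Subtype.ext ?_⟩))
      show (n : G)⁻¹ * a.1 * (n : G)⁻¹⁻¹ = b.1
      rw [← hn]
      show (n : G)⁻¹ * ((n : G) * b.1 * (n : G)⁻¹) * (n : G)⁻¹⁻¹ = b.1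
      group
    · intro A B
      induction A using Quotient.inductionOn with
      | h a =>
        induction B using Quotient.inductionOn with
        | h b =>
          intro h
          obtain ⟨c, hc⟩ := isConj_iff.1
            (ConjClasses.mk_eq_mk_iff_isConj.1 (congrArg Subtype.val h))
          refine Quotient.sound ⟨c⁻¹, Subtype.ext ?_⟩
          show ((c⁻¹ : N) : G) * b.1 * ((c⁻¹ : N) : G)⁻¹ = a.1
          have hb : (c : G) * a.1 * (c : G)⁻¹ = b.1 := congrArg Subtype.val hc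
          rw [← hb, InvMemClass.coe_inv]
          group

end Cfsg.Agent.S4152
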