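import Cfsg.Statements.S4153
import Cfsg.Agent.Lib.Local.Sylow
import Mathlib.Tactic.Ring

set_option autoImplicit false
open Cfsg

namespace Cfsg.Agent.S4153

open Subgroup

/-- Let G be a finite group, p a prime, N a normal subgroup, P a Sylow p-subgroup of G and P̄ a Sylow p-subgroup of G/N. Count the elements of p-power order, the identity included. Then (number of such elements of G/N)/#P̄ ≤ (number of such elements of G)/#P, stated as a cross-multiplied inequality, with equality when N is central. -/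
theorem result {G : Type*} [Group G] [Finite G] (p : ℕ) [Fact p.Prime] (N : Subgroup G) [N.Normal]
    (P : Sylow p G) (Pbar : Sylow p (G ⧸ N)) :
    Nat.card {g : (G ⧸ N) // ∃ k : ℕ, orderOf g = p ^ k} * Nat.card (P : Subgroup G) ≤ Nat.card {g : G // ∃ k : ℕ, orderOf g = p ^ k} * Nat.card (Pbar : Subgroup (G ⧸ N)) ∧
    (N ≤ Subgroup.center G → Nat.card {g : (G ⧸ N) // ∃ k : ℕ, orderOf g = p ^ k} * Nat.card (P : Subgroup G) = Nat.card {g : G // ∃ k : ℕ, orderOf g = p ^ k} * Nat.card (Pbar : Subgroup (G ⧸ N))) := by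
  classical
  set f := QuotientGroup.mk' N with hf
  have hfs : Function.Surjective f := QuotientGroup.mk'_surjective N
  have hPb : Nat.card (Pbar : Subgroup (G ⧸ N)) = Nat.card ((P : Subgroup G).map f) := by
    rw [Pbar.card_eq_multiplicity, ← (P.mapSurjective hfs).card_eq_multiplicity]; rfl
  have hPm : Nat.card ((P : Subgroup G).map f) * Nat.card ↥((P : Subgroup G) ⊓ N) =
      Nat.card (P : Subgroup G) := by
    have h := (MonoidHom.ker (f.comp (P : Subgroup G).subtype)).index_mul_card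
    rw [Subgroup.index_ker, MonoidHom.range_comp, range_subtype] at h
    refine Eq.trans ?_ h
    congr 1
    refine Nat.card_congr
      { toFun := fun x => ⟨⟨x, x.2.1⟩, (QuotientGroup.eq_one_iff _).2 x.2.2⟩
        invFun := fun x => ⟨x.1, x.1.2, (QuotientGroup.eq_one_iff _).1 x.2⟩
        left_inv := fun x => rfl
        right_inv := fun x => rfl }
  -- lifts
  have key : ∀ g : G ⧸ N, (∃ k : ℕ, orderOf g = p ^ k) →
      Nat.card ↥((P : Subgroup G) ⊓ N) ≤
        Nat.card {x : {x : G // ∃ k : ℕ, orderOf x = p ^ k} // f x.1 = g} ∧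
      (N ≤ center G → Nat.card {x : {x : G // ∃ k : ℕ, orderOf x = p ^ k} // f x.1 = g} ≤
        Nat.card ↥((P : Subgroup G) ⊓ N)) := by
    rintro g ⟨k, hk⟩
    set K := (zpowers g).comap f with hK
    obtain ⟨S⟩ : Nonempty (Sylow p K) := inferInstance
    let fK : K →* zpowers g := (f.comp K.subtype).codRestrict _ fun x => x.2
    have hfK : Function.Surjective fK := fun ⟨y, hy⟩ => by
      obtain ⟨x, rfl⟩ := hfs y
      exact ⟨⟨x, hy⟩, rfl⟩
    have hgp : IsPGroup p (zpowers g) := IsPGroup.of_card (n := k) (by rw [Nat.card_zpowers, hk])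
    have htop : ((S.mapSurjective hfK : Sylow p (zpowers g)) : Subgroup (zpowers g)) = ⊤ :=
      ((S.mapSurjective hfK).is_maximal' (hgp.to_subgroup ⊤) le_top).symm
    obtain ⟨s, hsS, hsg⟩ : (⟨g, mem_zpowers g⟩ : zpowers g) ∈ (S : Subgroup K).map fK := by
      rw [← Sylow.coe_mapSurjective hfK S, htop]; exact mem_top _
    have hsg' : f (s : G) = g := congrArg Subtype.val hsg
    set S0 := (S : Subgroup K).map K.subtype with hS0
    obtain ⟨R, hR⟩ := (S.2.map K.subtype).exists_le_sylow
    have hNK : N ≤ K := fun n hn => by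
      show f n ∈ zpowers g
      rw [show f n = 1 from (QuotientGroup.eq_one_iff n).2 hn]; exact one_mem _
    have hRS : (R : Subgroup G) ⊓ N ≤ S0 := by
      intro x hx
      have h := S.is_maximal' (Q := (R : Subgroup G).subgroupOf K) R.2.comap_subtype
        fun y hy => hR (mem_map_of_mem _ hy)
      exact ⟨⟨x, hNK hx.2⟩, h ▸ (show (⟨x, hNK hx.2⟩ : K) ∈ (R : Subgroup G).subgroupOf K from hx.1), rfl⟩
    have hRP : Nat.card ↥((R : Subgroup G) ⊓ N) = Nat.card ↥((P : Subgroup G) ⊓ N) := by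
      obtain ⟨R', hR'⟩ := Cfsg.Lib.Local.exists_sylow_inf R N
      obtain ⟨P', hP'⟩ := Cfsg.Lib.Local.exists_sylow_inf P N
      rw [← inf_subgroupOf_right] at hR' hP'
      have h1 := R'.card_eq_multiplicity
      have h2 := P'.card_eq_multiplicity
      rw [hR', Nat.card_congr (subgroupOfEquivOfLe inf_le_right).toEquiv] at h1
      rw [hP', Nat.card_congr (subgroupOfEquivOfLe inf_le_right).toEquiv] at h2
      rw [h1, h2]
    have hpow : ∀ z ∈ S0, ∃ j : ℕ, orderOf z = p ^ j := fun z hz => by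
      obtain ⟨j, hj⟩ := IsPGroup.iff_orderOf.1 R.2 ⟨z, hR hz⟩
      exact ⟨j, by rw [← hj, Subgroup.orderOf_mk]⟩
    refine ⟨?_, fun hc => ?_⟩
    · rw [← hRP]
      refine Nat.card_le_card_of_injective (fun m => ⟨⟨(s : G) * m, hpow _ (S0.mul_mem
        (mem_map_of_mem _ hsS) (hRS m.2))⟩, ?_⟩) fun m m' h => ?_
      · show f ((s : G) * m) = g
        rw [map_mul, hsg', show f (m : G) = 1 from (QuotientGroup.eq_one_iff _).2 m.2.2, mul_one]
      · exact Subtype.ext (mul_left_cancel (congrArg (fun x => x.1.1) h :))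
    · obtain ⟨j, hj⟩ := hpow _ (mem_map_of_mem _ hsS)
      refine Nat.card_le_card_of_injective (fun x => ⟨(s : G)⁻¹ * x.1.1, ?_, ?_⟩) fun x x' h => ?_
      · obtain ⟨i, hi⟩ := x.1.2
        have hn : (s : G)⁻¹ * x.1.1 ∈ N := QuotientGroup.eq.1 (hsg'.trans x.2.symm)
        have hcom : Commute (s : G) x.1.1 := by
          have h1 := mem_center_iff.1 (hc hn) (s : G)
          show (s : G) * x.1.1 = x.1.1 * s
          calc (s : G) * x.1.1 = (s : G) * ((s : G) * ((s : G)⁻¹ * x.1.1)) := by group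
            _ = (s : G) * ((s : G)⁻¹ * x.1.1 * s) := by rw [h1]
            _ = x.1.1 * s := by group
        have hd := (Commute.inv_left hcom).orderOf_mul_dvd_lcm
        rw [orderOf_inv, show (↑s : G) = (K.subtype s) from rfl] at hd
        rw [hj, hi] at hd
        obtain ⟨m, -, hm⟩ := (Nat.dvd_prime_pow (Fact.out (p := p.Prime))).1
          (hd.trans (Nat.lcm_dvd (pow_dvd_pow p (le_max_left j i)) (pow_dvd_pow p (le_max_right j i))))
        haveI hzn : (zpowers ((s : G)⁻¹ * x.1.1)).Normal := ⟨fun y hy z => by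
          have hyc : y ∈ center G := zpowers_le.2 (hc hn) hy
          rwa [mem_center_iff.1 hyc z, mul_inv_cancel_right]⟩
        exact IsPGroup.le_sylow_of_normal (IsPGroup.of_card (n := m) (by rw [Nat.card_zpowers]; exact hm))
          P (mem_zpowers _)
      · exact QuotientGroup.eq.1 (hsg'.trans x.2.symm)
      · exact Subtype.ext (Subtype.ext (mul_left_cancel (congrArg (fun y => y.1) h :)))
  -- sum over the fibres
  let π : {x : G // ∃ k : ℕ, orderOf x = p ^ k} → {g : G ⧸ N // ∃ k : ℕ, orderOf g = p ^ k} := fun x =>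
    ⟨f x.1, by
      obtain ⟨k, hk⟩ := x.2
      obtain ⟨m, -, hm⟩ := (Nat.dvd_prime_pow (Fact.out (p := p.Prime))).1 (hk ▸ orderOf_map_dvd f x.1)
      exact ⟨m, hm⟩⟩
  haveI := Fintype.ofFinite {g : G ⧸ N // ∃ k : ℕ, orderOf g = p ^ k}
  have hsum : Nat.card {x : G // ∃ k : ℕ, orderOf x = p ^ k} =
      ∑ g : {g : G ⧸ N // ∃ k : ℕ, orderOf g = p ^ k}, Nat.card {x // π x = g} := by
    rw [← Nat.card_sigma]; exact Nat.card_congr (Equiv.sigmaFiberEquiv π).symm
  have hfe : ∀ g, Nat.card {x // π x = g} =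
      Nat.card {x : {x : G // ∃ k : ℕ, orderOf x = p ^ k} // f x.1 = g.1} := fun g =>
    Nat.card_congr (Equiv.subtypeEquivRight fun x => Subtype.ext_iff)
  rw [hPb, ← hPm]
  refine ⟨?_, fun hc => ?_⟩
  · calc _ = (Nat.card {g : G ⧸ N // ∃ k : ℕ, orderOf g = p ^ k} * Nat.card ↥((P : Subgroup G) ⊓ N)) *
          Nat.card ((P : Subgroup G).map f) := by ring
      _ ≤ _ := by
        refine Nat.mul_le_mul_right _ ?_
        rw [hsum, Nat.card_eq_fintype_card (α := {g : G ⧸ N // _}), ← Finset.card_univ, ← smul_eq_mul]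
        exact Finset.card_nsmul_le_sum _ _ _ fun g _ => by rw [hfe]; exact (key g.1 g.2).1
  · rw [hsum, Finset.sum_congr rfl fun g _ => (hfe g).trans
      (le_antisymm ((key g.1 g.2).2 hc) (key g.1 g.2).1), Finset.sum_const, Finset.card_univ,
      ← Nat.card_eq_fintype_card, smul_eq_mul]
    ring

end Cfsg.Agent.S4153
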