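import Cfsg.Statements.S4154
import Mathlib.GroupTheory.Index
import Mathlib.Data.Set.Card
import Mathlib.Data.Fintype.Card

set_option autoImplicit false
open Cfsg

namespace Cfsg.Agent.S4154

/-- Let G be a finite group and α an automorphism of G such that every element of G is the product of an element fixed by α and an element of the form g⁻¹α(g). If N is a normal α-invariant subgroup, then the automorphism ᾱ induced on G/N has the same property, and every coset fixed by ᾱ contains an element fixed by α (so the fixed points of ᾱ are the images of the fixed points of α). -/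
theorem result {G : Type*} [Group G] [Finite G] (α : MulAut G)
    (hccp : ∀ x : G, ∃ c g : G, α c = c ∧ x = c * (g⁻¹ * α g))
    (N : Subgroup G) [N.Normal] (hN : ∀ n ∈ N, α n ∈ N) :
    (∀ x : G, ∃ c g : G, c⁻¹ * α c ∈ N ∧ x⁻¹ * (c * (g⁻¹ * α g)) ∈ N) ∧
    (∀ x : G, x⁻¹ * α x ∈ N → ∃ c : G, α c = c ∧ c⁻¹ * x ∈ N) := by
  classical
  haveI : Fintype G := Fintype.ofFinite G
  refine ⟨fun x => ?_, fun x hx => ?_⟩
  · obtain ⟨c, g, hc, hx⟩ := hccp x
    exact ⟨c, g, by rw [hc, inv_mul_cancel]; exact one_mem N, by rw [← hx, inv_mul_cancel]; exact one_mem N⟩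
  let I : Set G := Set.range fun g : G => g⁻¹ * α g
  let IN : Set G := (fun g : G => g⁻¹ * α g) '' (N : Set G)
  let C : Subgroup G :=
    { carrier := {c | α c = c}
      one_mem' := map_one α
      mul_mem' := fun {a b} (ha : α a = a) (hb : α b = b) => show α (a * b) = a * b by rw [map_mul, ha, hb]
      inv_mem' := fun {a} (ha : α a = a) => show α a⁻¹ = a⁻¹ by rw [map_inv, ha] }
  -- a fibre of `g ↦ g⁻¹ α g` is a coset of `C`
  have hfib : ∀ g h : G, g⁻¹ * α g = h⁻¹ * α h → h * g⁻¹ ∈ C := fun g h e => by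
    show α (h * g⁻¹) = h * g⁻¹
    calc α (h * g⁻¹) = h * (h⁻¹ * α h) * (α g)⁻¹ := by rw [map_mul, map_inv]; group
      _ = h * (g⁻¹ * α g) * (α g)⁻¹ := by rw [e]
      _ = h * g⁻¹ := by group
  have hcount : ∀ S : Subgroup G, Nat.card ((fun g : G => g⁻¹ * α g) '' (S : Set G)) *
      Nat.card ↥(C ⊓ S) = Nat.card S := by
    intro S
    let f : S → ((fun g : G => g⁻¹ * α g) '' (S : Set G)) := fun s => ⟨_, s, s.2, rfl⟩
    rw [Nat.card_congr (Equiv.sigmaFiberEquiv f).symm, Nat.card_sigma,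
      Nat.card_eq_fintype_card, ← Finset.card_univ, ← smul_eq_mul, ← Finset.sum_const]
    refine Finset.sum_congr rfl fun y _ => ?_
    obtain ⟨s, hs, hy⟩ := y.2
    refine Nat.card_congr
      { toFun := fun c => ⟨⟨(c : G) * s, S.mul_mem c.2.2 hs⟩, Subtype.ext ?_⟩
        invFun := fun t => ⟨(t.1 : G) * s⁻¹, hfib s t.1 (hy.trans (congrArg Subtype.val t.2).symm),
          S.mul_mem t.1.2 (S.inv_mem hs)⟩
        left_inv := fun c => Subtype.ext (mul_inv_cancel_right _ _)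
        right_inv := fun t => Subtype.ext (Subtype.ext (inv_mul_cancel_right _ _)) }
    show ((c : G) * s)⁻¹ * α ((c : G) * s) = y
    rw [map_mul, show α (c : G) = c from c.2.1, ← hy]
    group
  let Φ : C × I → G := fun q => (q.1 : G) * q.2
  have hΦ : Function.Injective Φ := by
    refine ((Fintype.bijective_iff_surjective_and_card Φ).2 ⟨fun x => ?_, ?_⟩).1
    · obtain ⟨c, g, hc, rfl⟩ := hccp x
      exact ⟨(⟨c, hc⟩, ⟨_, g, rfl⟩), rfl⟩
    · rw [← Nat.card_eq_fintype_card, ← Nat.card_eq_fintype_card, Nat.card_prod]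
      have h := hcount ⊤
      rw [inf_top_eq, Subgroup.coe_top, Set.image_univ, Subgroup.card_top, mul_comm] at h
      exact h
  have hNeq : Nat.card IN * Nat.card ↥(C ⊓ N) = Nat.card N := hcount N
  have hsub : IN ⊆ I ∩ (N : Set G) := fun y ⟨g, hg, hy⟩ =>
    ⟨⟨g, hy⟩, hy ▸ N.mul_mem (N.inv_mem hg) (hN g hg)⟩
  have hle : Nat.card ↥(C ⊓ N) * Nat.card ↥(I ∩ (N : Set G)) ≤ Nat.card N := by
    rw [← Nat.card_prod]
    refine Nat.card_le_card_of_injective (fun q => ⟨(q.1 : G) * q.2, N.mul_mem q.1.2.2 q.2.2.2⟩)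
      fun q r h => ?_
    have h' := @hΦ (⟨q.1, q.1.2.1⟩, ⟨q.2, q.2.2.1⟩) (⟨r.1, r.1.2.1⟩, ⟨r.2, r.2.2.1⟩)
      (congrArg Subtype.val h)
    simp only [Prod.mk.injEq, Subtype.mk.injEq] at h'
    exact Prod.ext (Subtype.ext h'.1) (Subtype.ext h'.2)
  have heq : I ∩ (N : Set G) = IN := by
    refine (Set.eq_of_subset_of_ncard_le hsub ?_ (Set.toFinite _)).symm
    rw [← Nat.card_coe_set_eq, ← Nat.card_coe_set_eq]
    refine Nat.le_of_mul_le_mul_left (hle.trans_eq ?_) (Nat.card_pos (α := ↥(C ⊓ N)))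
    rw [mul_comm, hNeq]
  obtain ⟨g, hg, hgx⟩ : x⁻¹ * α x ∈ IN := heq ▸ ⟨⟨x, rfl⟩, hx⟩
  refine ⟨x * g⁻¹, ?_, ?_⟩
  · calc α (x * g⁻¹) = x * (x⁻¹ * α x) * (α g)⁻¹ := by rw [map_mul, map_inv]; group
      _ = x * (g⁻¹ * α g) * (α g)⁻¹ := by rw [← hgx]
      _ = x * g⁻¹ := by group
  · rw [mul_inv_rev, inv_inv, inv_mul_cancel_right]
    exact hg

end Cfsg.Agent.S4154
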