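import Cfsg.Statements.S4155
import Cfsg.Agent.S4134
import Cfsg.Agent.S0016
import Cfsg.Agent.Lib.Fusion.Parts

set_option linter.style.haveILetI false

set_option autoImplicit false
open Cfsg

namespace Cfsg.Agent.S4155


open Subgroup
open scoped IsMulCommutative
open Cfsg.Lib.Fusion (induction_parts pCore_isPGroup mem_pCore_of_mem_fitting)

variable {G : Type*} [Group G] [Finite G] {N : Subgroup G}

/-- Elements outside `N` commute with no element of `N` of coprime order other than `1`. -/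
theorem eq_one_of_commute (heq : ∀ x : G, x ∉ N → ∀ n ∈ N, orderOf (x * n) = orderOf x) {x n : G}
    (hx : x ∉ N) (hn : n ∈ N) (hc : Commute x n) (hco : (orderOf x).Coprime (orderOf n)) : n = 1 := by
  have h := heq x hx n hn
  rw [hc.orderOf_mul_eq_mul_orderOf_of_coprime hco] at h
  exact orderOf_eq_one_iff.mp ((Nat.mul_eq_left (orderOf_pos x).ne').mp h)

theorem pCore_commute {q r : ℕ} [Fact q.Prime] [Fact r.Prime] (hne : q ≠ r) {x y : G}
    (hx : x ∈ Cfsg.pCore q G) (hy : y ∈ Cfsg.pCore r G) : Commute x y :=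
  commute_of_normal_of_disjoint _ _ (sSup_normal _ fun _ h => h.1) (sSup_normal _ fun _ h => h.1)
    (IsPGroup.disjoint_of_ne q r hne _ _ (pCore_isPGroup q) (pCore_isPGroup r)) x y hx hy

theorem coprime_orders {q r : ℕ} (hq : q.Prime) (hr : r.Prime) (hne : q ≠ r) {x y : G} {i j : ℕ}
    (hx : x ^ q ^ i = 1) (hy : y ^ r ^ j = 1) : (orderOf x).Coprime (orderOf y) :=
  ((((Nat.coprime_primes hq hr).mpr hne).pow i j).coprime_dvd_left
    (orderOf_dvd_of_pow_eq_one hx)).coprime_dvd_right (orderOf_dvd_of_pow_eq_one hy)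

/-- There is a prime other than `q` dividing the order of `N`. -/
theorem exists_other (hN1 : N ≠ ⊥) (hnpp : ¬ IsPrimePow (Nat.card N)) (q : ℕ) (hq : q.Prime) :
    ∃ r : ℕ, r.Prime ∧ r ≠ q ∧ ∃ n ∈ N, orderOf n = r := by
  have : ∃ r : ℕ, r.Prime ∧ r ≠ q ∧ r ∣ Nat.card N := by
    by_contra! hall
    have h1 := Nat.eq_prime_pow_of_unique_prime_dvd (n := Nat.card N) (p := q) Nat.card_pos.ne'
      fun {d} hd hdd => by by_contra hne; exact hall d hd hne hdd
    have h0 : (Nat.card N).primeFactorsList.length ≠ 0 := fun h0 => hN1 (by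
      rw [h0, pow_zero] at h1
      exact eq_bot_of_card_eq N h1)
    exact hnpp ⟨q, _, hq.prime, Nat.pos_of_ne_zero h0, h1.symm⟩
  obtain ⟨r, hr, hne, hd⟩ := this
  haveI : Fact r.Prime := ⟨hr⟩
  obtain ⟨n, hn⟩ := exists_prime_orderOf_dvd_card' (G := N) r hd
  exact ⟨r, hr, hne, n, n.2, by rw [Subgroup.orderOf_coe, hn]⟩

theorem eq_fitting [hN : N.Normal] (hN1 : N ≠ ⊥)
    (heq : ∀ x : G, x ∉ N → ∀ n ∈ N, orderOf (x * n) = orderOf x)
    (hnil : Group.IsNilpotent N) (hnpp : ¬ IsPrimePow (Nat.card N)) : N = Cfsg.fittingSubgroup G := by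
  have hle : N ≤ Cfsg.fittingSubgroup G := le_sSup ⟨hN, hnil⟩
  refine le_antisymm hle fun x hx => ?_
  refine induction_parts x (Q := fun w => w ∈ N) ?_ fun a _ b _ => mul_mem
  intro w hw q i hq hwo
  haveI : Fact q.Prime := ⟨hq⟩
  obtain ⟨r, hr, hne, n, hn, hno⟩ := exists_other hN1 hnpp q hq
  haveI : Fact r.Prime := ⟨hr⟩
  have hwF : w ∈ Cfsg.fittingSubgroup G := zpowers_le.mpr hx hw
  have hc := pCore_commute hne.symm (mem_pCore_of_mem_fitting hwF ⟨i, hwo⟩)
    (mem_pCore_of_mem_fitting (hle hn) ⟨1, by rw [hno, pow_one]⟩)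
  by_contra hwN
  have h1 := eq_one_of_commute heq hwN hn hc (coprime_orders hq hr hne.symm (i := i) (j := 1)
    (hwo ▸ pow_orderOf_eq_one w) (by rw [pow_one, ← hno, pow_orderOf_eq_one]))
  rw [h1, orderOf_one] at hno
  exact hr.one_lt.ne hno

theorem sylow_quotient [hN : N.Normal] (hN1 : N ≠ ⊥)
    (heq : ∀ x : G, x ∉ N → ∀ n ∈ N, orderOf (x * n) = orderOf x)
    (hnil : Group.IsNilpotent N) (hnpp : ¬ IsPrimePow (Nat.card N))
    (q : ℕ) [hq : Fact q.Prime] (Q : Sylow q (G ⧸ N)) :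
    IsCyclic (Q : Subgroup (G ⧸ N)) ∨
      ∃ n : ℕ, Nonempty ((Q : Subgroup (G ⧸ N)) ≃* QuaternionGroup (2 ^ n)) := by
  classical
  have hF := eq_fitting hN1 heq hnil hnpp
  obtain ⟨r, hr, hne, n₀, hn₀, hn₀o⟩ := exists_other hN1 hnpp q hq.out
  haveI : Fact r.Prime := ⟨hr⟩
  set R := Cfsg.pCore r G with hR
  haveI hRn : R.Normal := sSup_normal _ fun _ h => h.1
  set V := (center R).map R.subtype with hV
  haveI : IsMulCommutative V := ⟨⟨by
    rintro ⟨_, a, ha, rfl⟩ ⟨_, b, _, rfl⟩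
    exact Subtype.ext (congrArg Subtype.val (mem_center_iff.mp ha b)).symm⟩⟩
  haveI : V.Normal := inferInstance
  have hVR : V ≤ R := map_subtype_le _
  obtain ⟨v₀, hv₀V, hv₀⟩ : ∃ v ∈ V, v ≠ 1 := by
    have hn₀R : n₀ ∈ R := mem_pCore_of_mem_fitting (hF ▸ hn₀) ⟨1, by rw [hn₀o, pow_one]⟩
    haveI : Nontrivial R := ⟨⟨n₀, hn₀R⟩, 1, fun h => by
      rw [show n₀ = 1 from congrArg Subtype.val h, orderOf_one] at hn₀o
      exact hr.one_lt.ne hn₀o⟩
    haveI := (pCore_isPGroup (G := G) r).center_nontrivial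
    obtain ⟨⟨v, hv⟩, hv1⟩ := exists_ne (1 : center R)
    exact ⟨v, mem_map_of_mem _ hv, fun h => hv1 (Subtype.ext (Subtype.ext h))⟩
  -- `N` centralizes `V`
  have hNV : ∀ n ∈ N, ∀ v ∈ V, n * v = v * n := by
    intro n hn v hv
    refine induction_parts n (Q := fun w => w * v = v * w) ?_ fun a _ b _ ha hb =>
      (Commute.mul_left (show Commute a v from ha) hb)
    intro w hw e i he hwo
    haveI : Fact e.Prime := ⟨he⟩
    have hwC := mem_pCore_of_mem_fitting (hF ▸ zpowers_le.mpr hn hw) ⟨i, hwo⟩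
    rcases eq_or_ne e r with rfl | her
    · obtain ⟨v', hv', rfl⟩ := hv
      exact congrArg Subtype.val (mem_center_iff.mp hv' ⟨w, hwC⟩)
    · exact pCore_commute her hwC (hVR hv)
  let φ : G ⧸ N →* MulAut V := QuotientGroup.lift N MulAut.conjNormal fun n hn => by
    rw [MonoidHom.mem_ker]
    refine MulEquiv.ext fun v => Subtype.ext ?_
    rw [MulAut.conjNormal_apply]
    show n * v * n⁻¹ = v
    rw [hNV n hn v v.2, mul_inv_cancel_right]
  have hrpow : ∀ v ∈ V, ∃ j, v ^ r ^ j = 1 := fun v hv =>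
    (pCore_isPGroup r ⟨v, hVR hv⟩).imp fun _ h => congrArg Subtype.val h
  have hfix : ∀ h : (Q : Subgroup (G ⧸ N)), h ≠ 1 →
      ∀ v, (φ.comp (Q : Subgroup (G ⧸ N)).subtype) h v = v → v ∈ (⊥ : Subgroup V) := by
    intro h h1 v hv
    obtain ⟨t, ht⟩ := QuotientGroup.mk_surjective (h : G ⧸ N)
    obtain ⟨a, m, hm, htm⟩ := Nat.exists_eq_pow_mul_and_not_dvd (orderOf_pos t).ne' q hq.out.ne_one
    obtain ⟨k, hk⟩ := Q.2 h
    have ht' : t ^ m ∉ N := fun hmem => by
      have h2 : h ^ m = 1 := Subtype.ext (by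
        rw [Subgroup.coe_pow, ← ht, ← QuotientGroup.mk_pow]
        exact (QuotientGroup.eq_one_iff _).mpr hmem)
      exact h1 (orderOf_eq_one_iff.mp (Nat.eq_one_of_dvd_coprimes
        (((Nat.Prime.coprime_iff_not_dvd hq.out).mpr hm).pow_left k)
        (orderOf_dvd_of_pow_eq_one hk) (orderOf_dvd_of_pow_eq_one h2)))
    have hv' : t * (v : G) * t⁻¹ = v := by
      have := congrArg Subtype.val hv
      simp only [MonoidHom.comp_apply, coe_subtype, ← ht] at this
      simpa [φ, MulAut.conjNormal_apply] using this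
    have hc : Commute (t ^ m) (v : G) :=
      (show Commute t (v : G) from mul_inv_eq_iff_eq_mul.mp hv').pow_left m
    obtain ⟨j, hj⟩ := hrpow v v.2
    rw [mem_bot]
    exact Subtype.ext (eq_one_of_commute heq ht'
      (hF.ge (Cfsg.Lib.Fusion.pCore_le_fitting (hVR v.2))) hc
      (coprime_orders hq.out hr hne.symm (i := a)
        (by rw [← pow_mul, mul_comm, ← htm, pow_orderOf_eq_one]) hj))
  have huniq : ∀ A B : Subgroup (Q : Subgroup (G ⧸ N)),
      Nat.card A = q → Nat.card B = q → A = B := by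
    have hcent : ∀ z a : (Q : Subgroup (G ⧸ N)), orderOf z = q → orderOf a = q →
        Commute z a → a ∈ zpowers z := by
      intro z a hz ha hc
      by_contra hn
      have h1 := Cfsg.Agent.S4134.pow_prime_mem hfix hz ha hc hn ⟨v₀, hv₀V⟩
      rw [mem_bot] at h1
      obtain ⟨j, hj⟩ := hrpow v₀ hv₀V
      exact hv₀ (mem_bot.mp (Cfsg.Agent.S4134.mem_of_pow_mem (W := (⊥ : Subgroup G)) hj
        (mem_bot.mpr (congrArg Subtype.val h1))
        (((Nat.coprime_primes hq.out hr).mpr hne.symm).pow_right j)))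
    intro A B hA hB
    haveI : Nontrivial (Q : Subgroup (G ⧸ N)) := by
      rw [← Finite.one_lt_card_iff_nontrivial]
      have h1 := A.card_le_card_group
      have h2 := hq.out.one_lt
      omega
    haveI := Q.2.center_nontrivial
    obtain ⟨z, hz⟩ := exists_prime_orderOf_dvd_card' (G := center (Q : Subgroup (G ⧸ N))) q (by
      obtain ⟨i, hi, hc⟩ := (Q.2.to_subgroup (center (Q : Subgroup (G ⧸ N)))).nontrivial_iff_card.mp inferInstance
      rw [hc]; exact dvd_pow_self q hi.ne')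
    have hzo : orderOf (z : (Q : Subgroup (G ⧸ N))) = q := by rw [Subgroup.orderOf_coe, hz]
    have key : ∀ A : Subgroup (Q : Subgroup (G ⧸ N)), Nat.card A = q →
        A = zpowers (z : (Q : Subgroup (G ⧸ N))) := by
      intro A hA
      refine eq_of_le_of_card_ge (fun a ha => ?_) (by rw [Nat.card_zpowers, hzo, hA])
      by_cases ha1 : a = 1
      · rw [ha1]; exact one_mem _
      have hao : orderOf a = q := by
        have h1 := orderOf_dvd_natCard A ha
        rw [hA] at h1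
        exact ((Nat.dvd_prime hq.out).mp h1).resolve_left fun h => ha1 (orderOf_eq_one_iff.mp h)
      exact hcent _ a hzo hao (mem_center_iff.mp z.2 a).symm
    rw [key A hA, key B hB]
  rcases Cfsg.Agent.S0016.result q Q.2 huniq with h | ⟨-, h⟩
  · exact Or.inl h
  · exact Or.inr h
/-- Let G be a finite group and N a proper non-trivial normal nilpotent subgroup whose order is not a prime power, such that for every x outside N all elements of the coset xN have the same order as x. Then N is the Fitting subgroup of G, and for every prime q every Sylow q-subgroup of G/N is cyclic or generalized quaternion. -/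
theorem result {G : Type*} [Group G] [Finite G] (N : Subgroup G) [N.Normal] (hN1 : N ≠ ⊥) (hN2 : N ≠ ⊤)
    (heq : ∀ x : G, x ∉ N → ∀ n ∈ N, orderOf (x * n) = orderOf x)
    (hnil : Group.IsNilpotent N) (hnpp : ¬ IsPrimePow (Nat.card N)) :
    N = Cfsg.fittingSubgroup G ∧
    ∀ (q : ℕ) [Fact q.Prime] (Q : Sylow q (G ⧸ N)), IsCyclic (Q : Subgroup (G ⧸ N)) ∨ ∃ n : ℕ, Nonempty ((Q : Subgroup (G ⧸ N)) ≃* QuaternionGroup (2 ^ n)) := by

  exact ⟨eq_fitting hN1 heq hnil hnpp, fun q _ Q => sylow_quotient hN1 heq hnil hnpp q Q⟩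

end Cfsg.Agent.S4155
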