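import Cfsg.Statements.S4156
import Mathlib.GroupTheory.SpecificGroups.Alternating.Simple

set_option autoImplicit false
open Cfsg

namespace Cfsg.Agent.S4156

variable {F : Type*} [Field F] {m : ℕ}

/-- The coordinate sum. -/
def total (F : Type*) [Field F] (m : ℕ) : (Fin m → F) →ₗ[F] F := ∑ i, LinearMap.proj i

theorem total_apply (v : Fin m → F) : total F m v = ∑ i, v i := by
  simp [total]

/-- Permutation of coordinates. -/
def permMap (F : Type*) [Field F] (σ : Equiv.Perm (Fin m)) :
    ↥(LinearMap.ker (total F m)) →ₗ[F] ↥(LinearMap.ker (total F m)) :=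
  (LinearMap.funLeft F F ⇑σ.symm).restrict fun v hv => by
    rw [LinearMap.mem_ker, total_apply] at hv ⊢
    rw [← hv]
    exact Equiv.sum_comp σ.symm v

theorem permMap_apply (σ : Equiv.Perm (Fin m)) (v : ↥(LinearMap.ker (total F m))) (i : Fin m) :
    (permMap F σ v).1 i = v.1 (σ.symm i) := rfl

theorem finrank_ker (n : ℕ) : Module.finrank F ↥(LinearMap.ker (total F (n + 1))) = n := by
  have h := LinearMap.finrank_range_add_finrank_ker (total F (n + 1))
  have hsurj : Function.Surjective (total F (n + 1)) := fun c =>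
    ⟨Pi.single 0 c, by rw [total_apply, Finset.sum_pi_single']; simp⟩
  rw [LinearMap.range_eq_top.mpr hsurj, finrank_top, Module.finrank_self,
    Module.finrank_fin_fun] at h
  omega

/-- The alternating group of degree n + 1 (n ≥ 5) embeds into PSL(n, F) for every finite field F. -/
theorem result (n : ℕ) (hn : 5 ≤ n) (F : Type*) [Field F] [Finite F] :
    ∃ f : alternatingGroup (Fin (n + 1)) →* Matrix.ProjectiveSpecialLinearGroup (Fin n) F, Function.Injective f := by
  classical
  let b := Module.finBasisOfFinrankEq F ↥(LinearMap.ker (total F (n + 1))) (finrank_ker n)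
  let ψ : Equiv.Perm (Fin (n + 1)) →* Matrix (Fin n) (Fin n) F :=
    { toFun := fun σ => LinearMap.toMatrix b b (permMap F σ)
      map_one' := by
        rw [show permMap F (1 : Equiv.Perm (Fin (n + 1))) = LinearMap.id from
          LinearMap.ext fun v => Subtype.ext (funext fun i => rfl), LinearMap.toMatrix_id]
      map_mul' := fun σ τ => by
        rw [← LinearMap.toMatrix_comp]
        exact congrArg _ (LinearMap.ext fun v => Subtype.ext (funext fun i => rfl)) }
  let A := alternatingGroup (Fin (n + 1))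
  let δ : A →* Fˣ := (Matrix.detMonoidHom.comp (ψ.comp A.subtype)).toHomUnits
  haveI : IsSimpleGroup A := alternatingGroup.isSimpleGroup (by simp; omega)
  let c3 : A := ⟨Equiv.swap (0 : Fin (n + 1)) 1 * Equiv.swap 1 2, by
    rw [Equiv.Perm.mem_alternatingGroup, Equiv.Perm.sign_mul, Equiv.Perm.sign_swap, Equiv.Perm.sign_swap]
    · rfl
    all_goals simp [Fin.ext_iff, Nat.mod_eq_of_lt (show 2 < n + 1 by omega), Nat.mod_eq_of_lt (show 1 < n + 1 by omega)]
    all_goals omega⟩
  have hdet : ∀ a : A, (ψ a.1).det = 1 := by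
    have hne : δ.ker ≠ ⊥ := by
      intro hker
      have hcomm : ∀ x y : A, x * y = y * x := fun x y =>
        (MonoidHom.ker_eq_bot_iff δ).mp hker (by rw [map_mul, map_mul, mul_comm])
      have hp := commutator_alternatingGroup_eq_top (α := Fin (n + 1)) (by simp; omega)
      have hb : _root_.commutator A = ⊥ := by
        rw [_root_.commutator_def, Subgroup.commutator_eq_bot_iff_le_centralizer]
        exact fun x _ => Subgroup.mem_centralizer_iff.mpr fun y _ => hcomm y x
      have : (⊥ : Subgroup A) = ⊤ := hb ▸ hp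
      exact bot_ne_top this
    have htop := ((inferInstance : δ.ker.Normal).eq_bot_or_eq_top).resolve_left hne
    intro a
    have : δ a = 1 := MonoidHom.mem_ker.mp (htop ▸ Subgroup.mem_top a)
    exact congrArg Units.val this
  let φ : A →* Matrix.SpecialLinearGroup (Fin n) F :=
    { toFun := fun a => ⟨ψ a.1, hdet a⟩
      map_one' := Subtype.ext (map_one ψ)
      map_mul' := fun x y => Subtype.ext (map_mul ψ x.1 y.1) }
  let f : A →* Matrix.ProjectiveSpecialLinearGroup (Fin n) F :=
    (QuotientGroup.mk' (Subgroup.center (Matrix.SpecialLinearGroup (Fin n) F))).comp φ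
  refine ⟨f, (MonoidHom.ker_eq_bot_iff f).mp ?_⟩
  rcases (inferInstance : f.ker.Normal).eq_bot_or_eq_top with h | h
  · exact h
  exfalso
  have hc : φ c3 ∈ Subgroup.center (Matrix.SpecialLinearGroup (Fin n) F) :=
    (QuotientGroup.eq_one_iff _).mp (MonoidHom.mem_ker.mp (h ▸ Subgroup.mem_top c3 : c3 ∈ f.ker))
  rw [Matrix.SpecialLinearGroup.mem_center_iff] at hc
  obtain ⟨r, -, hr⟩ := hc
  have hlin : permMap F c3.1 = r • LinearMap.id := by
    apply (LinearMap.toMatrix b b).injective
    rw [map_smul, LinearMap.toMatrix_id]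
    calc LinearMap.toMatrix b b (permMap F c3.1) = Matrix.scalar (Fin n) r := hr.symm
      _ = r • 1 := by rw [Matrix.smul_one_eq_diagonal]; rfl
  let e : Fin (n + 1) → F := Pi.single 0 1 - Pi.single 1 1
  have he : e ∈ LinearMap.ker (total F (n + 1)) := by
    rw [LinearMap.mem_ker, total_apply]
    simp [e, Finset.sum_sub_distrib]
  have h0 : ((2 : Fin (n + 1)) : ℕ) = 2 := Nat.mod_eq_of_lt (show 2 < n + 1 by omega)
  have h1 : ((1 : Fin (n + 1)) : ℕ) = 1 := by
    rw [Fin.val_one', Nat.mod_eq_of_lt]; omega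
  have key := congrArg (fun L => (L ⟨e, he⟩).1 (2 : Fin (n + 1))) hlin
  simp only [permMap_apply, LinearMap.smul_apply, LinearMap.id_apply, SetLike.val_smul,
    Pi.smul_apply] at key
  have hs : c3.1.symm (2 : Fin (n + 1)) = 1 := by
    rw [Equiv.symm_apply_eq]
    show (2 : Fin (n + 1)) = Equiv.swap (0 : Fin (n + 1)) 1 (Equiv.swap 1 2 1)
    rw [Equiv.swap_apply_left, Equiv.swap_apply_of_ne_of_ne]
    · intro hh; have := congrArg Fin.val hh; rw [h0, Fin.val_zero] at this; omega
    · intro hh; have := congrArg Fin.val hh; omega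
  rw [hs] at key
  have h20 : (2 : Fin (n + 1)) ≠ 0 := fun hh => by have := congrArg Fin.val hh; rw [h0, Fin.val_zero] at this; omega
  have h21 : (2 : Fin (n + 1)) ≠ 1 := fun hh => by have := congrArg Fin.val hh; omega
  have h10 : (1 : Fin (n + 1)) ≠ 0 := fun hh => by have := congrArg Fin.val hh; rw [h1, Fin.val_zero] at this; omega
  simp [e, Pi.single_eq_of_ne h20, Pi.single_eq_of_ne h21, Pi.single_eq_of_ne h10] at key

end Cfsg.Agent.S4156
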