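import Cfsg.Statements.S4157
import Cfsg.Agent.Lib.PGroup.Kulakoff

set_option linter.style.haveILetI false

set_option autoImplicit false
open Cfsg

namespace Cfsg.Agent.S4157

/-- Let G be a finite p-group of order p^m that is not cyclic and, when p = 2, not of maximal class (nilpotency class m − 1). Then for every 1 ≤ k < m the number of subgroups of G of order p^k is congruent to 1 + p modulo p². -/
theorem result {G : Type*} [Group G] [Finite G] {p : ℕ} [Fact p.Prime] (m : ℕ)
    (hG : Nat.card G = p ^ m) (hnc : ¬ IsCyclic G) (h2 : p = 2 → Group.nilpotencyClass G ≠ m - 1)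
    (k : ℕ) (hk1 : 1 ≤ k) (hk2 : k < m) :
    Nat.card {H : Subgroup G // Nat.card H = p ^ k} ≡ 1 + p [MOD p ^ 2] := by
  classical
  have hcnt : Nat.card {H : Subgroup G // Nat.card H = p ^ k} = Cfsg.Lib.PGroup.Kulakoff.cnt p k (⊤ : Subgroup G) :=
    Nat.card_congr (Equiv.subtypeEquivRight fun H => ⟨fun h => ⟨le_top, h⟩, fun h => h.2⟩)
  rw [hcnt]
  have hx : ¬ Cfsg.Lib.PGroup.Kulakoff.Exc p k G := by
    rintro (h | ⟨hp2, h4, hk⟩)
    · exact hnc h
    · refine h2 hp2 ?_
      subst hp2
      rw [hG] at hk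
      have hkm : k + 1 < m := (Nat.pow_lt_pow_iff_right one_lt_two).1 hk
      exact Cfsg.Lib.TwoGroup.MaximalClass.class_of_index_four m (by omega) G hG h4
  have h := Cfsg.Lib.PGroup.Kulakoff.cnt_mod_sq' hG hk1 hk2
  rwa [if_neg hx] at h

end Cfsg.Agent.S4157
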