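import Cfsg.Statements.S4160
import Mathlib.GroupTheory.Transfer
import Mathlib.GroupTheory.Sylow

set_option autoImplicit false
open Cfsg

namespace Cfsg.Agent.S4160

open Subgroup
open scoped Classical

theorem mem_centralizer_sylow {G : Type*} [Group G] [Finite G] {p : ℕ} [Fact p.Prime] {x : G}
    (h : ¬ p ∣ (centralizer ({x} : Set G)).index) :
    ∃ P : Sylow p G, x ∈ centralizer ((P : Subgroup G) : Set G) := by
  let S : Sylow p (centralizer ({x} : Set G)) := Classical.arbitrary _
  have h1 : IsPGroup p ((S : Subgroup (centralizer ({x} : Set G))).map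
      (centralizer ({x} : Set G)).subtype) := S.2.map _
  have h2 : ¬ p ∣ ((S : Subgroup (centralizer ({x} : Set G))).map
      (centralizer ({x} : Set G)).subtype).index := by
    rw [index_map_subtype]
    exact Nat.Prime.not_dvd_mul Fact.out S.not_dvd_index h
  refine ⟨h1.toSylow h2, fun y hy => ?_⟩
  obtain ⟨z, _, rfl⟩ := hy
  exact (z.2 x rfl).symm

/-- If no Sylow `p`-subgroup has `N(P) = C(P)`, the centralisers cover at most half the group. -/
theorem two_mul_sum_card_le {G : Type*} [Group G] [Fintype G] {p : ℕ} [Fact p.Prime]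
    (h : ¬ ∃ P : Sylow p G,
      normalizer ((P : Subgroup G) : Set G) ≤ centralizer ((P : Subgroup G) : Set G)) :
    2 * ∑ P : Sylow p G, Nat.card (centralizer ((P : Subgroup G) : Set G)) ≤ Nat.card G := by
  have key : ∀ P : Sylow p G, Nat.card (Sylow p G) *
      (2 * Nat.card (centralizer ((P : Subgroup G) : Set G))) ≤ Nat.card G := by
    intro P
    set C := centralizer ((P : Subgroup G) : Set G)
    set N := normalizer ((P : Subgroup G) : Set G)
    have hCN : C ≤ N := centralizer_le_normalizer _
    have hne : ¬ N ≤ C := fun hle => h ⟨P, hle⟩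
    have h2 : 2 * Nat.card C ≤ Nat.card N := by
      rw [← relIndex_bot_left N, ← relIndex_mul_relIndex ⊥ C N bot_le hCN, relIndex_bot_left,
        mul_comm 2]
      refine Nat.mul_le_mul_left _ ?_
      have h1 : C.relIndex N ≠ 1 := fun e => hne (relIndex_eq_one.mp e)
      have h0 : C.relIndex N ≠ 0 := index_ne_zero_of_finite
      omega
    rw [P.card_eq_index_normalizer, ← N.index_mul_card]
    exact Nat.mul_le_mul_left _ h2
  have hpos : 0 < Nat.card (Sylow p G) := Nat.card_pos
  refine Nat.le_of_mul_le_mul_left ?_ hpos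
  rw [Finset.mul_sum, Finset.mul_sum]
  refine (Finset.sum_le_card_nsmul _ _ _ fun P _ => key P).trans ?_
  rw [Finset.card_univ, ← Nat.card_eq_fintype_card, smul_eq_mul]


/-- Let G be a finite group and p ≠ q primes each dividing the size of some conjugacy class of G, such that no conjugacy class size is divisible by pq. Then G has a normal p-complement or a normal q-complement. -/
theorem result {G : Type*} [Group G] [Finite G] (p q : ℕ) (hp : p.Prime) (hq : q.Prime) (hpq : p ≠ q)
    (hp' : ∃ x : G, p ∣ (Subgroup.centralizer ({x} : Set G)).index) (hq' : ∃ x : G, q ∣ (Subgroup.centralizer ({x} : Set G)).index) (h : ∀ x : G, ¬ p * q ∣ (Subgroup.centralizer ({x} : Set G)).index) :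
    Cfsg.HasNormalPComplement p G ∨ Cfsg.HasNormalPComplement q G := by
  classical
  haveI := Fact.mk hp
  haveI := Fact.mk hq
  haveI := Fintype.ofFinite G
  by_cases hP : ∃ P : Sylow p G,
      normalizer ((P : Subgroup G) : Set G) ≤ centralizer ((P : Subgroup G) : Set G)
  · obtain ⟨P, hP⟩ := hP
    exact Or.inl ⟨P, (MonoidHom.transferSylow P hP).ker, inferInstance,
      MonoidHom.ker_transferSylow_isComplement' P hP⟩
  by_cases hQ : ∃ Q : Sylow q G,
      normalizer ((Q : Subgroup G) : Set G) ≤ centralizer ((Q : Subgroup G) : Set G)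
  · obtain ⟨Q, hQ⟩ := hQ
    exact Or.inr ⟨Q, (MonoidHom.transferSylow Q hQ).ker, inferInstance,
      MonoidHom.ker_transferSylow_isComplement' Q hQ⟩
  exfalso
  have hp2 := two_mul_sum_card_le hP
  have hq2 := two_mul_sum_card_le hQ
  let fP : Sylow p G → Finset G := fun P =>
    ((centralizer ((P : Subgroup G) : Set G) : Set G).toFinset).erase 1
  let fQ : Sylow q G → Finset G := fun P =>
    ((centralizer ((P : Subgroup G) : Set G) : Set G).toFinset).erase 1
  have hsub : (Finset.univ : Finset G).erase 1 ⊆
      Finset.univ.biUnion fP ∪ Finset.univ.biUnion fQ := by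
    intro x hx
    have hx1 := Finset.ne_of_mem_erase hx
    by_cases hd : p ∣ (centralizer ({x} : Set G)).index
    · have hd' : ¬ q ∣ (centralizer ({x} : Set G)).index := fun e =>
        h x (Nat.Coprime.mul_dvd_of_dvd_of_dvd ((Nat.coprime_primes hp hq).2 hpq) hd e)
      obtain ⟨Q, hQ⟩ := mem_centralizer_sylow hd'
      exact Finset.mem_union_right _ (Finset.mem_biUnion.2 ⟨Q, Finset.mem_univ _,
        Finset.mem_erase.2 ⟨hx1, Set.mem_toFinset.2 hQ⟩⟩)
    · obtain ⟨P, hP⟩ := mem_centralizer_sylow hd
      exact Finset.mem_union_left _ (Finset.mem_biUnion.2 ⟨P, Finset.mem_univ _,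
        Finset.mem_erase.2 ⟨hx1, Set.mem_toFinset.2 hP⟩⟩)
  have hcard : ∀ H : Subgroup G, ((H : Set G).toFinset.erase 1).card + 1 = Nat.card H := by
    intro H
    rw [Finset.card_erase_add_one (Set.mem_toFinset.2 H.one_mem), Set.toFinset_card,
      Nat.card_eq_fintype_card]
    congr
  have h1 := (Finset.card_le_card hsub).trans ((Finset.card_union_le _ _).trans
    (Nat.add_le_add Finset.card_biUnion_le Finset.card_biUnion_le))
  rw [Finset.card_erase_of_mem (Finset.mem_univ _), Finset.card_univ,
    ← Nat.card_eq_fintype_card] at h1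
  have e1 : ∑ P, (fP P).card + Nat.card (Sylow p G) =
      ∑ P : Sylow p G, Nat.card (centralizer ((P : Subgroup G) : Set G)) := by
    rw [Finset.sum_congr rfl fun P _ => (hcard _).symm, Finset.sum_add_distrib]
    simp [fP, Nat.card_eq_fintype_card]
  have e2 : ∑ P, (fQ P).card + Nat.card (Sylow q G) =
      ∑ P : Sylow q G, Nat.card (centralizer ((P : Subgroup G) : Set G)) := by
    rw [Finset.sum_congr rfl fun P _ => (hcard _).symm, Finset.sum_add_distrib]
    simp [fQ, Nat.card_eq_fintype_card]
  have hnp : 0 < Nat.card (Sylow p G) := Nat.card_pos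
  have hnq : 0 < Nat.card (Sylow q G) := Nat.card_pos
  omega

end Cfsg.Agent.S4160
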