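import Cfsg.Statements.S4168
import Cfsg.Agent.Lib.Fusion.Abelian

set_option autoImplicit false
set_option linter.style.haveILetI false
open Cfsg

namespace Cfsg.Agent.S4168

/-- Let L be a finite quasisimple group (perfect with L/Z(L) simple). Then every prime dividing the order of the centre Z(L) also divides the order of L/Z(L). -/
theorem result {L : Type*} [Group L] [Finite L] (hL : Cfsg.IsQuasisimple L)
    (p : ℕ) (hp : p.Prime) (hdiv : p ∣ Nat.card (Subgroup.center L)) : p ∣ (Subgroup.center L).index := by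
  by_contra hnd
  haveI := Fact.mk hp
  let P : Sylow p L := Classical.arbitrary _
  have hPZ : (P : Subgroup L) ≤ Subgroup.center L := fun x hx => by
    have h1 : orderOf (x : L ⧸ Subgroup.center L) ∣ (Subgroup.center L).index :=
      orderOf_dvd_natCard _
    have h2 : orderOf (x : L ⧸ Subgroup.center L) ∣ Nat.card (P : Subgroup L) :=
      (orderOf_map_dvd (QuotientGroup.mk' _) x).trans (Subgroup.orderOf_mk x hx ▸ orderOf_dvd_natCard _)
    obtain ⟨k, hk⟩ := IsPGroup.iff_card.mp P.2
    rw [hk] at h2
    exact (QuotientGroup.eq_one_iff x).mp (orderOf_eq_one_iff.mp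
      (Nat.eq_one_of_dvd_coprimes ((hp.coprime_iff_not_dvd.mpr hnd).pow_left k) h2 h1))
  haveI : IsMulCommutative (P : Subgroup L) :=
    ⟨⟨fun a b => Subtype.ext ((Subgroup.mem_center_iff.mp (hPZ b.2) a))⟩⟩
  have := Cfsg.Lib.Fusion.inf_commutator_inf_center_eq_bot_sylow P
  rw [(Group.isPerfect_def.mp hL.1), inf_top_eq, inf_of_le_left hPZ] at this
  refine P.ne_bot_of_dvd_card ?_ this
  exact hdiv.trans (Subgroup.card_subgroup_dvd_card _)

end Cfsg.Agent.S4168
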