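import Cfsg.Statements.S4169
import Cfsg.Agent.Lib.Fusion.SmallClassSubgroup
import Cfsg.Agent.S0015

set_option linter.style.haveILetI false

set_option autoImplicit false
open Cfsg

namespace Cfsg.Agent.S4169

/-- Let P be a finite p-group whose conjugacy classes have exactly two sizes (1 and one other value). Then P has nilpotency class at most 3. -/
theorem result {P : Type*} [Group P] [Finite P] {p : ℕ} [Fact p.Prime] (hP : IsPGroup p P)
    (m : ℕ) (hm : 1 < m) (h : ∀ x : P, (Subgroup.centralizer ({x} : Set P)).index = 1 ∨ (Subgroup.centralizer ({x} : Set P)).index = m) :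
    upperCentralSeries P 3 = ⊤ := by
  classical
  haveI := hP.isNilpotent
  obtain ⟨A, ⟨hAn, hAc⟩, hmax⟩ := Set.Finite.exists_maximal (s := {A : Subgroup P | A.Normal ∧ IsMulCommutative A})
    (Set.toFinite _) ⟨⊥, inferInstance, inferInstance⟩
  haveI := hAn
  haveI := hAc
  have hCA := Cfsg.Agent.S0015.result A fun M hMn hMc hle => le_antisymm (hmax ⟨hMn, hMc⟩ hle) hle
  have h3 := Cfsg.Lib.SmallClassSubgroup.lowerCentralSeries_three hCA m fun x hx => by
    rcases h x with h | h <;> omega
  have htop : Subgroup.closure {x : P | (Subgroup.centralizer ({x} : Set P)).index = 1 ∨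
      (Subgroup.centralizer ({x} : Set P)).index = m} = ⊤ := eq_top_iff.mpr fun x _ => Subgroup.subset_closure (h x)
  rw [htop] at h3
  show Subgroup.upperCentralSeries P 3 = ⊤
  rw [← Subgroup.lowerCentralSeries_eq_bot_iff_upperCentralSeries_eq_top,
    Subgroup.lowerCentralSeries_eq_bot_iff_nilpotencyClass_le] at h3 ⊢
  exact (Group.nilpotencyClass_le_of_surjective (Subgroup.topEquiv (G := P)).toMonoidHom (MulEquiv.surjective _)).trans h3

end Cfsg.Agent.S4169
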