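import Cfsg.Statements.S4170
import Cfsg.Agent.Lib.Local.SylowFixedPoints
-- import your own Cfsg.Agent.* helpers here

set_option autoImplicit false
open scoped Pointwise
open Cfsg

namespace Cfsg.Agent.S4170

open Cfsg.Lib.Local.SylowFix
open scoped Pointwise

/-- A `p`-group fixing setwise a set of fewer than `p` points fixes it pointwise. -/
theorem fix_of_small {G Ω : Type*} [Group G] [MulAction G Ω] [Finite G] [Finite Ω] {p : ℕ}
    [Fact p.Prime] {Q : Subgroup G} (hQ : IsPGroup p Q) {D : Set Ω} (hD : Nat.card D < p)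
    (hfix : ∀ x ∈ Q, x • D = D) : ∀ x ∈ Q, ∀ a ∈ D, x • a = a := by
  intro x hx a ha
  have hsub : ∀ b ∈ MulAction.orbit (↥Q) a, b ∈ D := by
    rintro _ ⟨z, rfl⟩
    rw [← hfix z z.2]
    exact Set.smul_mem_smul_set ha
  obtain ⟨k, hk⟩ := hQ.card_orbit a
  have hle : Nat.card (MulAction.orbit (↥Q) a) ≤ Nat.card D :=
    Nat.card_le_card_of_injective (fun b => ⟨b.1, hsub b.1 b.2⟩)
      fun _ _ h => Subtype.ext (congrArg (fun z : D => z.1) h)
  rcases Nat.eq_zero_or_pos k with rfl | hk0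
  · rw [pow_zero, Nat.card_eq_one_iff_unique] at hk
    have e := @Subsingleton.elim _ hk.1
      (⟨x • a, ⟨⟨x, hx⟩, rfl⟩⟩ : MulAction.orbit (↥Q) a) ⟨a, MulAction.mem_orbit_self a⟩
    exact congrArg Subtype.val e
  · have := Nat.le_self_pow hk0.ne' p
    omega


/-- Let p be an odd prime and G a nontrivial group of permutations of a finite set Ω that is generated by its elements of p-power order. Then Ω has two disjoint nonempty subsets Δ₁ and Δ₂ such that the index in G of the subgroup of elements mapping Δ₁ onto Δ₁ and Δ₂ onto Δ₂ (and hence also the complement of their union onto itself) is divisible by p. -/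
theorem result {Ω : Type*} [Fintype Ω] (p : ℕ) [Fact p.Prime] (hp : p ≠ 2) (G : Subgroup (Equiv.Perm Ω)) (hG : G ≠ ⊥) (hgen : Subgroup.closure {g : G | ∃ k : ℕ, orderOf g = p ^ k} = ⊤) :
    ∃ Δ₁ Δ₂ : Set Ω, Δ₁.Nonempty ∧ Δ₂.Nonempty ∧ Disjoint Δ₁ Δ₂ ∧ p ∣ (MulAction.stabilizer G Δ₁ ⊓ MulAction.stabilizer G Δ₂).index := by
  classical
  have hp' : p.Prime := Fact.out
  obtain ⟨x, ⟨k, hk⟩, hx1⟩ : ∃ x : G, (∃ k : ℕ, orderOf x = p ^ k) ∧ x ≠ 1 := by
    by_contra hno
    push Not at hno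
    refine hG ?_
    rw [Subgroup.eq_bot_iff_forall]
    intro g hg
    have h0 : Subgroup.closure {g : G | ∃ k : ℕ, orderOf g = p ^ k} ≤ ⊥ :=
      (Subgroup.closure_le _).mpr fun z hz => hno z hz
    rw [hgen] at h0
    exact congrArg Subtype.val (Subgroup.mem_bot.mp (h0 (Subgroup.mem_top (⟨g, hg⟩ : G))))
  obtain ⟨a, hxa⟩ : ∃ a : Ω, x • a ≠ a := by
    by_contra hno
    push Not at hno
    exact hx1 (Subtype.ext (Equiv.ext hno))
  -- a power of `x` with a cycle of length at most `p`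
  obtain ⟨y, hy, hy1, hy2⟩ : ∃ y : G, IsPel p y ∧ y • a ≠ a ∧ (y ^ p) • a = a := by
    have hex : ∃ i, (x ^ p ^ i) • a = a := ⟨k, by rw [← hk, pow_orderOf_eq_one, one_smul]⟩
    have h0 : Nat.find hex ≠ 0 := by
      intro h
      have := Nat.find_spec hex
      rw [h, pow_zero, pow_one] at this
      exact hxa this
    obtain ⟨j, hj⟩ := Nat.exists_eq_succ_of_ne_zero h0
    refine ⟨x ^ p ^ j, isPel_pow ⟨k, hk⟩ _, Nat.find_min hex (by omega), ?_⟩
    have h2 := Nat.find_spec hex
    rw [hj] at h2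
    rw [← pow_mul, ← pow_succ]
    exact h2
  set B : Finset Ω := (Finset.range p).image fun i => (y ^ i) • a with hB
  have haB : a ∈ B := Finset.mem_image.mpr ⟨0, Finset.mem_range.mpr hp'.pos, by simp⟩
  have hyaB : y • a ∈ B := Finset.mem_image.mpr ⟨1, Finset.mem_range.mpr hp'.one_lt, by simp⟩
  have hBcard : B.card ≤ p := Finset.card_image_le.trans (Finset.card_range p).le
  refine ⟨{a}, ↑(B.erase a), Set.singleton_nonempty a,
    ⟨y • a, Finset.mem_coe.mpr (Finset.mem_erase.mpr ⟨hy1, hyaB⟩)⟩,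
    Set.disjoint_singleton_left.mpr (by simp), ?_⟩
  by_contra hnd
  set K := MulAction.stabilizer G ({a} : Set Ω) ⊓ MulAction.stabilizer G (↑(B.erase a) : Set Ω)
  -- the stabiliser contains a Sylow subgroup
  obtain ⟨S⟩ : Nonempty (Sylow p ↥K) := inferInstance
  have hpg : IsPGroup p ((S : Subgroup ↥K).map K.subtype) := S.2.map _
  have hsyl : ¬ p ∣ ((S : Subgroup ↥K).map K.subtype).index := by
    rw [Subgroup.index_map_subtype]
    exact fun h => ((Nat.Prime.dvd_mul hp').mp h).elim S.not_dvd_index hnd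
  set Q : Sylow p G := hpg.toSylow hsyl
  have hQK : (Q : Subgroup G) ≤ K := Subgroup.map_subtype_le _
  have hQfix : ∀ z ∈ (Q : Subgroup G), ∀ b ∈ B, z • b = b := by
    intro z hz b hb
    by_cases hba : b = a
    · subst hba
      have h1 : z • ({b} : Set Ω) = {b} := (hQK hz).1
      simpa [Set.smul_set_singleton] using h1
    · refine fix_of_small Q.2 (D := (↑(B.erase a) : Set Ω)) ?_ (fun w hw => (hQK hw).2) z hz b
        (Finset.mem_coe.mpr (Finset.mem_erase.mpr ⟨hba, hb⟩))
      rw [Nat.card_eq_card_finite_toFinset (Finset.finite_toSet _), Finset.finite_toSet_toFinset,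
        Finset.card_erase_of_mem haB]
      have := hp'.pos
      omega
  have hyB : ∀ b ∈ B, y • b ∈ B := by
    intro b hb
    obtain ⟨i, hi, rfl⟩ := Finset.mem_image.mp hb
    rw [Finset.mem_range] at hi
    refine Finset.mem_image.mpr ?_
    by_cases h : i + 1 = p
    · refine ⟨0, Finset.mem_range.mpr hp'.pos, ?_⟩
      rw [smul_smul, ← pow_succ', h, hy2, pow_zero, one_smul]
    · exact ⟨i + 1, Finset.mem_range.mpr (by omega), by rw [smul_smul, ← pow_succ']⟩
  have hyn : y ∈ Subgroup.normalizer ((R p B : Subgroup G) : Set G) := by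
    rw [Cfsg.Lib.Core.mem_normalizer_iff_map_conj]
    refine Subgroup.eq_of_le_of_card_ge ?_
      (Subgroup.card_map_of_injective (MulAut.conj y).injective).ge
    rw [R, MonoidHom.map_closure]
    refine Subgroup.closure_mono ?_
    rintro _ ⟨z, ⟨hz, hzB⟩, rfl⟩
    refine ⟨isPel_conj y hz, fun b hb => ?_⟩
    have hinj : Set.SurjOn (fun b => y • b) (B : Set Ω) (B : Set Ω) :=
      Finset.surjOn_of_injOn_of_card_le _ (fun b hb => hyB b hb)
        (fun b _ c _ h => MulAction.injective y h) le_rfl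
    obtain ⟨c, hc, rfl⟩ := hinj hb
    show (y * z * y⁻¹) • y • c = y • c
    rw [mul_smul, mul_smul, inv_smul_smul, hzB c hc]
  exact hy1 (R_fix (mem_of_normalizes Q (sylow_le_R Q hQfix) hy hyn) haB)

end Cfsg.Agent.S4170
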