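import Cfsg.Statements.S4172
import Cfsg.Agent.Lib.Fusion.Tate
import Cfsg.Agent.Lib.Local.SubnormalSylow
import Cfsg.Agent.Lib.Local.Gaschutz
import Cfsg.Agent.Lib.Core.Layer
import Cfsg.Agent.Lib.Local.Sylow
import Cfsg.Agent.Lib.Core.Cores

set_option linter.style.haveILetI false

set_option autoImplicit false
open Cfsg

namespace Cfsg.Agent.S4172

open Subgroup Cfsg.Lib
open scoped commutatorElement

variable {G : Type*} [Group G] [Finite G] {p : ℕ} [hp : Fact p.Prime] (P : Sylow p G)

/-- The Frattini subgroup of `P`, seen inside `G`. -/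
def phi : Subgroup G := (frattini ↥(P : Subgroup G)).map (P : Subgroup G).subtype

theorem phi_le : phi P ≤ (P : Subgroup G) := Subgroup.map_subtype_le _

theorem commutator_mem_phi {a b : G} (ha : a ∈ (P : Subgroup G)) (hb : b ∈ (P : Subgroup G)) :
    a * b * a⁻¹ * b⁻¹ ∈ phi P := by
  refine ⟨⁅(⟨a, ha⟩ : (P : Subgroup G)), ⟨b, hb⟩⁆, ?_, ?_⟩
  · exact Cfsg.Lib.Fusion.commutator_le_frattini_of_isPGroup P.2
      (Subgroup.commutator_mem_commutator (Subgroup.mem_top _) (Subgroup.mem_top _))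
  · simp [commutatorElement_def]

theorem pow_mem_phi {a : G} (ha : a ∈ (P : Subgroup G)) : a ^ p ∈ phi P := by
  refine ⟨(⟨a, ha⟩ : (P : Subgroup G)) ^ p, ?_, rfl⟩
  simp only [SetLike.mem_coe]
  unfold frattini
  simp only [Order.radical, Subgroup.mem_iInf]
  intro M hM
  haveI := P.2.isNilpotent
  haveI : M.Normal := NormalizerCondition.normal_of_coatom M Group.normalizerCondition_of_isNilpotent hM
  obtain ⟨e, he⟩ := P.2.exists_card_eq
  obtain ⟨k, hk⟩ := P.2.index M
  have hidx : M.index ∣ p := by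
    haveI : IsSimpleGroup ((P : Subgroup G) ⧸ M) := by
      haveI : Nontrivial ((P : Subgroup G) ⧸ M) := by
        rw [← Finite.one_lt_card_iff_nontrivial, ← Subgroup.index_eq_card]
        exact Subgroup.one_lt_index_of_ne_top hM.1
      refine ⟨fun H _ => ?_⟩
      have hle : M ≤ H.comap (QuotientGroup.mk' M) := by
        intro x hx
        rw [Subgroup.mem_comap, QuotientGroup.mk'_apply, (QuotientGroup.eq_one_iff x).2 hx]
        exact H.one_mem
      rcases hM.le_iff.1 hle with h | h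
      · right
        rw [← Subgroup.map_comap_eq_self_of_surjective (QuotientGroup.mk'_surjective M) H, h]
        exact Subgroup.map_top_of_surjective _ (QuotientGroup.mk'_surjective M)
      · left
        rw [← Subgroup.map_comap_eq_self_of_surjective (QuotientGroup.mk'_surjective M) H, h,
          QuotientGroup.map_mk'_self]
    haveI := (P.2.to_quotient M).isNilpotent
    letI := IsSimpleGroup.comm_iff_isSolvable.2 (inferInstance : Group.IsSolvable ((P : Subgroup G) ⧸ M))
    rcases Nat.lt_or_ge k 2 with h | h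
    · exact hk ▸ (pow_dvd_pow p (show k ≤ 1 by omega)).trans (by rw [pow_one])
    · exfalso
      letI : CommGroup ((P : Subgroup G) ⧸ M) := { (inferInstance : Group ((P : Subgroup G) ⧸ M)) with mul_comm := this }
      have hpr := IsSimpleGroup.prime_card (α := (P : Subgroup G) ⧸ M)
      rw [← Subgroup.index_eq_card, hk] at hpr
      exact Nat.Prime.not_prime_pow h hpr
  obtain ⟨c, hc⟩ := hidx
  have := M.pow_mem (M.pow_index_mem (⟨a, ha⟩ : (P : Subgroup G))) c
  rwa [← pow_mul, ← hc] at this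

/-- A subgroup of `P` together with the Frattini subgroup generates `P` only if it is `P`. -/
theorem nongen {A : Subgroup G} (hA : A ≤ (P : Subgroup G)) (h : (P : Subgroup G) ≤ A ⊔ phi P) :
    A = (P : Subgroup G) := by
  have h1 : A.subgroupOf (P : Subgroup G) ⊔ frattini ↥(P : Subgroup G) = ⊤ := by
    apply Subgroup.map_injective (P : Subgroup G).subtype_injective
    rw [Subgroup.map_sup, Subgroup.map_subgroupOf_eq_of_le hA, ← MonoidHom.range_eq_map, Subgroup.range_subtype]
    exact le_antisymm (sup_le hA (phi_le P)) h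
  exact le_antisymm hA (Subgroup.subgroupOf_eq_top.1 (frattini_nongenerating h1))

theorem exists_gen (hgen : (frattini ↥(P : Subgroup G)).index = p ^ 2) {A : Subgroup G}
    (hA : A ≤ (P : Subgroup G)) (hAn : ¬ A ≤ phi P) :
    ∃ c ∈ (P : Subgroup G), A ⊔ zpowers c = (P : Subgroup G) := by
  set B := A ⊔ phi P
  have hBP : B ≤ (P : Subgroup G) := sup_le hA (phi_le P)
  have hΦ : (phi P).relIndex (P : Subgroup G) = p ^ 2 := by
    rw [← hgen, Subgroup.relIndex, phi, Subgroup.subgroupOf, Subgroup.comap_map_eq_self_of_injective (P : Subgroup G).subtype_injective]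
  have hmul : (phi P).relIndex B * B.relIndex (P : Subgroup G) = p ^ 2 :=
    hΦ ▸ relIndex_mul_relIndex (phi P) B (P : Subgroup G) le_sup_right hBP
  have hdvd : B.relIndex (P : Subgroup G) ∣ p ^ 2 := hmul ▸ dvd_mul_left _ _
  obtain ⟨k, hk2, hk⟩ := (Nat.dvd_prime_pow hp.out).1 hdvd
  have hne : (phi P).relIndex B ≠ 1 := fun h => hAn (le_sup_left.trans (Subgroup.relIndex_eq_one.1 h))
  by_cases h0 : k = 0
  · refine ⟨1, (P : Subgroup G).one_mem, ?_⟩
    subst h0
    rw [pow_zero, Subgroup.relIndex_eq_one] at hk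
    rw [Subgroup.zpowers_one_eq_bot, sup_bot_eq]
    exact nongen P hA hk
  have hk1 : k = 1 := by
    by_contra h1
    have hk22 : k = 2 := by omega
    subst hk22
    rw [hk] at hmul
    exact hne ((mul_eq_right₀ (pow_ne_zero _ hp.out.ne_zero)).1 hmul)
  subst hk1
  obtain ⟨c, hcP, hcB⟩ : ∃ c ∈ (P : Subgroup G), c ∉ B := by
    by_contra h
    push Not at h
    rw [Subgroup.relIndex_eq_one.2 h, pow_one] at hk
    exact hp.out.ne_one hk.symm
  refine ⟨c, hcP, nongen P (sup_le hA (zpowers_le.2 hcP)) ?_⟩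
  have hB' : B ⊔ zpowers c ≤ (P : Subgroup G) := sup_le hBP (zpowers_le.2 hcP)
  have h2 : B.relIndex (B ⊔ zpowers c) * (B ⊔ zpowers c).relIndex (P : Subgroup G) = p := by
    rw [relIndex_mul_relIndex _ _ _ le_sup_left hB', hk, pow_one]
  rcases (Nat.dvd_prime hp.out).1 (Dvd.intro_left _ h2) with h | h
  · calc (P : Subgroup G) ≤ B ⊔ zpowers c := Subgroup.relIndex_eq_one.1 h
      _ = A ⊔ zpowers c ⊔ phi P := by rw [sup_right_comm]
  · exfalso
    have h3 : B.relIndex (B ⊔ zpowers c) = 1 := by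
      rw [h] at h2
      exact (mul_eq_right₀ hp.out.ne_zero).1 h2
    exact hcB ((Subgroup.relIndex_eq_one.1 h3) (mem_sup_right (mem_zpowers c)))

/-- A commutative normal part with a cyclic complement makes commutators fall into it. -/
theorem commutator_mem {A : Subgroup G} (hA : A ≤ (P : Subgroup G))
    (hAn : (P : Subgroup G) ≤ normalizer (A : Set G)) {c : G} (hAc : A ⊔ zpowers c = (P : Subgroup G))
    {a b : G} (ha : a ∈ (P : Subgroup G)) (hb : b ∈ (P : Subgroup G)) : a * b * a⁻¹ * b⁻¹ ∈ A := by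
  have hcP : c ∈ (P : Subgroup G) := hAc ▸ mem_sup_right (mem_zpowers c)
  haveI : (A.subgroupOf (P : Subgroup G)).Normal := (normal_subgroupOf_iff_le_normalizer hA).2 hAn
  have hrep : ∀ z : (P : Subgroup G), ∃ i : ℤ,
      (QuotientGroup.mk z : (P : Subgroup G) ⧸ A.subgroupOf (P : Subgroup G)) = (QuotientGroup.mk ⟨c, hcP⟩) ^ i := by
    rintro ⟨z, hz⟩
    have hz' : z ∈ zpowers c ⊔ A := by rw [sup_comm, hAc]; exact hz
    obtain ⟨u, hu, v, hv, rfl⟩ := (Core.mem_sup_of_le_normalizer ((zpowers_le.2 hcP).trans hAn)).1 hz'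
    obtain ⟨i, rfl⟩ := hu
    refine ⟨i, ?_⟩
    rw [← QuotientGroup.mk_zpow, QuotientGroup.eq, Subgroup.mem_subgroupOf]
    simpa using A.inv_mem hv
  obtain ⟨i, hi⟩ := hrep ⟨a, ha⟩
  obtain ⟨j, hj⟩ := hrep ⟨b, hb⟩
  have h : (⟨a, ha⟩ * ⟨b, hb⟩ * (⟨a, ha⟩ : (P : Subgroup G))⁻¹ * (⟨b, hb⟩ : (P : Subgroup G))⁻¹) ∈
      A.subgroupOf (P : Subgroup G) := by
    rw [← QuotientGroup.eq_one_iff, QuotientGroup.mk_mul, QuotientGroup.mk_mul, QuotientGroup.mk_mul,
      QuotientGroup.mk_inv, QuotientGroup.mk_inv, hi, hj, ← zpow_neg, ← zpow_neg, ← zpow_add, ← zpow_add,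
      ← zpow_add]
    simp
  exact h

/-- If the centre of `P` supplements a cyclic subgroup then `P` is commutative. -/
theorem comm_of_central {B : Subgroup G} {c : G} (hBc : B ⊔ zpowers c = (P : Subgroup G))
    (hB : ∀ x ∈ B, ∀ y ∈ (P : Subgroup G), x * y = y * x) : IsMulCommutative (P : Subgroup G) := by
  have hcP : c ∈ (P : Subgroup G) := hBc ▸ mem_sup_right (mem_zpowers c)
  have hBP : B ≤ (P : Subgroup G) := hBc ▸ le_sup_left
  have hc : ∀ y ∈ (P : Subgroup G), c * y = y * c := by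
    have hle : (P : Subgroup G) ≤ centralizer ({c} : Set G) := by
      rw [← hBc, sup_le_iff]
      refine ⟨fun x hx => mem_centralizer_singleton_iff.2 (hB x hx c hcP), zpowers_le.2 ?_⟩
      exact mem_centralizer_singleton_iff.2 rfl
    intro y hy
    exact (mem_centralizer_singleton_iff.1 (hle hy)).symm
  have hle : (P : Subgroup G) ≤ centralizer ((P : Subgroup G) : Set G) := by
    conv_lhs => rw [← hBc]
    rw [sup_le_iff]
    exact ⟨fun x hx => mem_centralizer_iff.2 fun y hy => (hB x hx y hy).symm,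
      zpowers_le.2 (mem_centralizer_iff.2 fun y hy => (hc y hy).symm)⟩
  exact ⟨⟨fun a b => Subtype.ext ((mem_centralizer_iff.1 (hle b.2)) a a.2)⟩⟩

/-- A nontrivial normal subgroup has Sylow part outside the Frattini subgroup of `P`. -/
theorem not_le_phi (hcore : Cfsg.pPrimeCore p G = ⊥) (hfrat : (phi P).normalCore = ⊥)
    (N : Subgroup G) [N.Normal] (hN : N ≠ ⊥) : ¬ (P : Subgroup G) ⊓ N ≤ phi P := by
  intro hle
  set H := (P : Subgroup G) ⊔ N with hH
  set P' : Sylow p H := P.subtype le_sup_left with hP'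
  have hP'c : (P' : Subgroup H) = (P : Subgroup G).subgroupOf H := rfl
  haveI : (N.subgroupOf H).Normal := inferInstance
  have hquot : pResidual p H ≤ N.subgroupOf H := by
    refine Cfsg.Lib.Fusion.pResidual_le_of_isPGroup_quotient _ ?_
    refine (P'.2.of_surjective (((QuotientGroup.mk' (N.subgroupOf H))).comp (P' : Subgroup H).subtype) ?_)
    intro z
    obtain ⟨⟨w, hw⟩, rfl⟩ := QuotientGroup.mk'_surjective _ z
    obtain ⟨u, hu, v, hv, rfl⟩ := (Core.mem_sup_of_le_normalizer le_normalizer_of_normal).1 hw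
    refine ⟨⟨⟨u, mem_sup_left hu⟩, hu⟩, ?_⟩
    show (QuotientGroup.mk _ : H ⧸ N.subgroupOf H) = QuotientGroup.mk _
    rw [QuotientGroup.eq, Subgroup.mem_subgroupOf]
    simpa using hv
  have key := Cfsg.Lib.Fusion.tate P' (P' : Subgroup H) le_rfl (by
    rintro x ⟨hx1, hx2⟩
    refine mem_sup_left ?_
    obtain ⟨⟨y, hy⟩, hyΦ, hye⟩ := hle ⟨hx2, hquot hx1⟩
    refine ⟨⟨⟨y, mem_sup_left hy⟩, hy⟩, ?_, Subtype.ext hye⟩
    let e : (P : Subgroup G) ≃* ↥(P' : Subgroup H) := (Subgroup.subgroupOfEquivOfLe le_sup_left).symm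
    have hee : (⟨⟨y, mem_sup_left hy⟩, hy⟩ : ↥(P' : Subgroup H)) = e ⟨y, hy⟩ := rfl
    rw [hee]
    have := Cfsg.Lib.Local.map_frattini_le_of_surjective e.toMonoidHom e.surjective ⟨⟨y, hy⟩, hyΦ, rfl⟩
    exact this)
  have hbotP : pResidual p ↥(P' : Subgroup H) = ⊥ :=
    le_bot_iff.1 ((Cfsg.Lib.Fusion.pResidual_le_ker P'.2 (MonoidHom.id _)).trans (MonoidHom.ker_id).le)
  rw [hbotP, Subgroup.map_bot, bot_inf_eq] at key
  have hcop : Nat.card ↥(pResidual p H) |>.Coprime p := by
    have h1 : Cfsg.HasNormalPComplement p H := (Cfsg.Lib.Fusion.hasNormalPComplement_iff_inf P').2 key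
    exact Cfsg.Lib.Fusion.hasNormalPComplement_iff_coprime.1 h1
  have hsn : ((pResidual p H).map H.subtype).IsSubnormal := by
    refine Core.isSubnormal_of_normal_subgroupOf (K := N) ?_ (Subgroup.Normal.isSubnormal inferInstance) ?_
    · rintro _ ⟨x, hx, rfl⟩; exact hquot hx
    · refine (normal_subgroupOf_iff_le_normalizer (by rintro _ ⟨x, hx, rfl⟩; exact hquot hx)).2 ?_
      refine (le_sup_right : N ≤ H).trans ?_
      intro h hh
      rw [Core.mem_normalizer_iff_map_conj, Subgroup.map_map]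
      have := Core.normal_iff_map_conj.1 (inferInstance : (pResidual p H).Normal) ⟨h, hh⟩
      conv_rhs => rw [← this, Subgroup.map_map]
      rfl
  have hR : pResidual p H = ⊥ := by
    have h1 := Core.le_pPrimeCore_of_isSubnormal (p := p) hsn
      (by rwa [Subgroup.card_map_of_injective H.subtype_injective])
    rw [hcore, le_bot_iff, Subgroup.map_eq_bot_iff_of_injective _ H.subtype_injective] at h1
    exact h1
  have hHp : IsPGroup p H := by
    have := Cfsg.Lib.Fusion.isPGroup_quotient_pResidual (G := H) (p := p)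
    intro x
    obtain ⟨k, hk⟩ := this (QuotientGroup.mk x)
    refine ⟨k, ?_⟩
    rwa [← QuotientGroup.mk_pow, QuotientGroup.eq_one_iff, hR, Subgroup.mem_bot] at hk
  have hNP : N ≤ (P : Subgroup G) := by
    have := P.3 hHp le_sup_left
    rw [← this]; exact le_sup_right
  refine hN (le_bot_iff.1 ?_)
  rw [← hfrat]
  intro x hx g
  exact hle ⟨hNP (Subgroup.Normal.conj_mem ‹_› x hx g), Subgroup.Normal.conj_mem ‹_› x hx g⟩

/-- A component-stable, Sylow-normalised family and its complement. -/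
theorem no_split (hna : ¬ IsMulCommutative (P : Subgroup G)) (hgen : (frattini ↥(P : Subgroup G)).index = p ^ 2)
    (X Y : Subgroup G) (hc : ⁅X, Y⁆ = ⊥) (hXY : X ⊓ Y = ⊥)
    (hPX : (P : Subgroup G) ≤ normalizer (X : Set G)) (hPY : (P : Subgroup G) ≤ normalizer (Y : Set G))
    (hY0 : (P : Subgroup G) ⊓ Y ≠ ⊥) (hAn : ¬ (P : Subgroup G) ⊓ X ≤ phi P)
    (hcent : ∀ y ∈ Y, (∀ z ∈ Y, y * z = z * y) → y = 1)
    (hperf : ∀ y ∈ Y, y ∈ ⁅Y, Y⁆) : False := by
  have hcomm := Core.commutator_eq_bot_iff_forall.1 hc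
  have hnA : ∀ {Z : Subgroup G}, (P : Subgroup G) ≤ normalizer (Z : Set G) →
      (P : Subgroup G) ≤ normalizer (((P : Subgroup G) ⊓ Z : Subgroup G) : Set G) := by
    intro Z hZ x hx
    rw [Core.mem_normalizer_iff_map_conj]
    refine eq_of_le_of_card_ge ?_ (card_map_of_injective (MulAut.conj x).injective).ge
    rintro _ ⟨y, hy, rfl⟩
    exact ⟨(P : Subgroup G).mul_mem ((P : Subgroup G).mul_mem hx hy.1) ((P : Subgroup G).inv_mem hx),
      (mem_normalizer_iff.1 (hZ hx) y).1 hy.2⟩
  obtain ⟨c, hcP, hAc⟩ := exists_gen P hgen inf_le_left hAn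
  -- conjugation action of `P` on `Y` factors through `⟨c⟩`
  set K := Y ⊔ zpowers c with hK
  have hcY : zpowers c ≤ normalizer (Y : Set G) := (zpowers_le.2 hcP).trans hPY
  haveI : (Y.subgroupOf K).Normal := (normal_subgroupOf_iff_le_normalizer le_sup_left).2 (sup_le le_normalizer hcY)
  let θ : K →* MulAut Y :=
    (Subgroup.normalizerMonoidHom Y).comp (Subgroup.inclusion (sup_le le_normalizer hcY))
  have hθ : ∀ (x : K) (y : Y), ((θ x y : Y) : G) = (x : G) * y * (x : G)⁻¹ := fun x y => rfl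
  set γ : MulAut Y := θ ⟨c, mem_sup_right (mem_zpowers c)⟩ with hγ
  -- every element of `P ⊓ Y` acts as a power of `γ`
  have hB : ∀ b (hb : b ∈ (P : Subgroup G) ⊓ Y), ∃ i : ℤ, θ ⟨b, mem_sup_left hb.2⟩ = γ ^ i := by
    intro b hb
    have hb' : b ∈ zpowers c ⊔ ((P : Subgroup G) ⊓ X) := by rw [sup_comm, hAc]; exact hb.1
    obtain ⟨u, ⟨i, rfl⟩, v, hv, he⟩ := (Core.mem_sup_of_le_normalizer
      ((zpowers_le.2 hcP).trans (hnA hPX))).1 hb'
    refine ⟨i, MulEquiv.ext fun y => Subtype.ext ?_⟩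
    rw [hγ, ← map_zpow, hθ, hθ]
    have hvy : v * (y : G) = y * v := hcomm v hv.2 y y.2
    show b * (y : G) * b⁻¹ = (((⟨c, mem_sup_right (mem_zpowers c)⟩ : K) ^ i : K) : G) * y * _
    rw [← he, mul_inv_rev]
    push_cast
    calc c ^ i * v * (y : G) * (v⁻¹ * (c ^ i)⁻¹) = c ^ i * (v * y) * v⁻¹ * (c ^ i)⁻¹ := by group
      _ = _ := by rw [hvy]; group
  obtain ⟨m, hm⟩ := P.2 ⟨c, hcP⟩
  have hcpow : c ^ p ^ m = 1 := congrArg Subtype.val hm
  have hγp : γ ^ p ^ m = 1 := by
    rw [hγ, ← map_pow]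
    have : (⟨c, mem_sup_right (mem_zpowers c)⟩ : K) ^ p ^ m = 1 := Subtype.ext hcpow
    rw [this, map_one]
  have hθinj : ∀ y (hy : y ∈ Y), θ ⟨y, mem_sup_left hy⟩ = 1 → y = 1 := by
    intro y hy h
    refine hcent y hy fun z hz => ?_
    have := congrArg (fun f : MulAut Y => ((f ⟨z, hz⟩ : Y) : G)) h
    simp only [hθ, MulAut.one_apply] at this
    exact mul_inv_eq_iff_eq_mul.1 this
  -- `Inn Y` lies in the derived group of `Inn Y ⟨γ⟩`, whose Sylow subgroup is `⟨γ⟩`
  let R := θ.range
  by_cases hin : ∃ y ∈ Y, ∃ h : y ∈ K, θ ⟨c, mem_sup_right (mem_zpowers c)⟩ = θ ⟨y, h⟩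
  · -- `c` acts as an inner automorphism
    obtain ⟨y, hy, hyK, hye⟩ := hin
    -- the centralizer part of `c`
    set z := y⁻¹ * c with hz
    have hzY : ∀ u ∈ Y, z * u = u * z := by
      intro u hu
      have := congrArg (fun f : MulAut Y => ((f ⟨u, hu⟩ : Y) : G)) hye
      simp only [hθ] at this
      have e1 : c * u * c⁻¹ = y * u * y⁻¹ := this
      calc z * u = y⁻¹ * (c * u * c⁻¹) * c := by rw [hz]; group
        _ = u * z := by rw [e1, hz]; group
    -- all of `P ⊓ Y` commutes with `γ`, so with `y` inside the image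
    have hBc : ∀ b ∈ (P : Subgroup G) ⊓ Y, c * b = b * c := by
      intro b hb
      obtain ⟨i, hi⟩ := hB b hb
      have hcb : c * b * c⁻¹ ∈ Y := (mem_normalizer_iff.1 (hPY hcP) b).1 hb.2
      have e : θ ⟨c * b * c⁻¹, mem_sup_left hcb⟩ = θ ⟨b, mem_sup_left hb.2⟩ := by
        have : (⟨c * b * c⁻¹, mem_sup_left hcb⟩ : K) = ⟨c, mem_sup_right (mem_zpowers c)⟩ * ⟨b, mem_sup_left hb.2⟩ * ⟨c, mem_sup_right (mem_zpowers c)⟩⁻¹ := rfl
        rw [this, map_mul, map_mul, map_inv, ← hγ, hi, (Commute.zpow_right (Commute.refl γ) i).eq, mul_inv_cancel_right]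
      have h1 : c * b * c⁻¹ * b⁻¹ = 1 := by
        refine hθinj _ (Y.mul_mem hcb (Y.inv_mem hb.2)) ?_
        have : (⟨c * b * c⁻¹ * b⁻¹, mem_sup_left (Y.mul_mem hcb (Y.inv_mem hb.2))⟩ : K) = ⟨c * b * c⁻¹, mem_sup_left hcb⟩ * (⟨b, mem_sup_left hb.2⟩ : K)⁻¹ := rfl
        rw [this, map_mul, map_inv, e, mul_inv_cancel]
      rwa [mul_inv_eq_one, mul_inv_eq_iff_eq_mul] at h1
    have hcentral : ∀ b ∈ (P : Subgroup G) ⊓ Y, ∀ w ∈ (P : Subgroup G), b * w = w * b := by
      intro b hb w hw
      have hle : (P : Subgroup G) ≤ centralizer ({b} : Set G) := by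
        conv_lhs => rw [← hAc]
        rw [sup_le_iff]
        exact ⟨fun a ha => mem_centralizer_singleton_iff.2 (hcomm a ha.2 b hb.2),
          zpowers_le.2 (mem_centralizer_singleton_iff.2 (hBc b hb))⟩
      exact (mem_centralizer_singleton_iff.1 (hle hw)).symm
    by_cases hBΦ : (P : Subgroup G) ⊓ Y ≤ phi P
    · -- then `P` is generated by `P ⊓ X` and an element centralising `Y`
      obtain ⟨a, m', hm', hyo⟩ := Nat.exists_eq_pow_mul_and_not_dvd (orderOf_pos y).ne' p hp.out.ne_one
      have hyz : Commute y z := (hzY y hy).symm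
      obtain ⟨r, hr⟩ := exists_pow_eq_self_of_coprime (x := c) (n := m')
        (by
          obtain ⟨i, -, hi⟩ := (Nat.dvd_prime_pow hp.out).1 (orderOf_dvd_of_pow_eq_one hcpow)
          rw [hi]
          exact ((hp.out.coprime_iff_not_dvd.2 hm').pow_left i).symm)
      set y₁ := (y ^ m') ^ r with hy₁
      have hy₁Y : y₁ ∈ Y := Y.pow_mem (Y.pow_mem hy m') r
      have hy₁p : IsPGroup p (zpowers y₁) := by
        have h1 : y₁ ^ p ^ a = 1 := by
          rw [hy₁, ← pow_mul, ← pow_mul, ← orderOf_dvd_iff_pow_eq_one, hyo]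
          exact ⟨r, by ring⟩
        obtain ⟨i, -, hi⟩ := (Nat.dvd_prime_pow hp.out).1 (orderOf_dvd_of_pow_eq_one h1)
        exact IsPGroup.of_card (n := i) (by rw [Nat.card_zpowers, hi])
      have hy₁P : y₁ ∈ (P : Subgroup G) := by
        have hcent' : zpowers y₁ ≤ normalizer ((P : Subgroup G) : Set G) := by
          rw [zpowers_le, Core.mem_normalizer_iff_map_conj]
          refine eq_of_le_of_card_ge ?_ (card_map_of_injective (MulAut.conj y₁).injective).ge
          rintro _ ⟨w, hw, rfl⟩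
          -- `y₁` centralises `P`
          have hle : (P : Subgroup G) ≤ centralizer ({y₁} : Set G) := by
            conv_lhs => rw [← hAc]
            rw [sup_le_iff]
            refine ⟨fun a ha => mem_centralizer_singleton_iff.2 (hcomm a ha.2 y₁ hy₁Y), zpowers_le.2 ?_⟩
            refine mem_centralizer_singleton_iff.2 ?_
            have : c = y * z := by rw [hz]; group
            have h2 : Commute c y₁ := by
              rw [this, hy₁]
              exact ((Commute.refl y).mul_left hyz.symm).pow_right m' |>.pow_right r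
            exact h2.eq
          have h3 := mem_centralizer_singleton_iff.1 (hle hw)
          show y₁ * w * y₁⁻¹ ∈ (P : Subgroup G)
          rw [← h3, mul_inv_cancel_right]
          exact hw
        have hle2 := P.3 (P.2.to_sup_of_normal_left' hy₁p hcent') le_sup_left
        rw [← hle2]; exact mem_sup_right (mem_zpowers y₁)
      set z₁ := (z ^ m') ^ r with hz₁
      have hcz : c = y₁ * z₁ := by
        conv_lhs => rw [← hr, show c = y * z by rw [hz]; group]
        rw [hyz.mul_pow, (hyz.pow_pow m' m').mul_pow]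
      have hz₁P : z₁ ∈ (P : Subgroup G) := by
        have : z₁ = y₁⁻¹ * c := by rw [hcz]; group
        rw [this]
        exact (P : Subgroup G).mul_mem ((P : Subgroup G).inv_mem hy₁P) hcP
      have hP2 : ((P : Subgroup G) ⊓ X) ⊔ zpowers z₁ = (P : Subgroup G) := by
        refine nongen P (sup_le inf_le_left (zpowers_le.2 hz₁P)) ?_
        conv_lhs => rw [← hAc]
        refine sup_le (le_sup_left.trans le_sup_left) (zpowers_le.2 ?_)
        rw [hcz]
        exact mul_mem (mem_sup_right (hBΦ ⟨hy₁P, hy₁Y⟩)) (mem_sup_left (mem_sup_right (mem_zpowers z₁)))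
      apply hY0
      rw [eq_bot_iff]
      intro b hb
      refine hcent b hb.2 fun u hu => ?_
      have hle : (P : Subgroup G) ≤ centralizer ({u} : Set G) := by
        conv_lhs => rw [← hP2]
        rw [sup_le_iff]
        refine ⟨fun a ha => mem_centralizer_singleton_iff.2 (hcomm a ha.2 u hu), zpowers_le.2 ?_⟩
        refine mem_centralizer_singleton_iff.2 ?_
        exact (((show Commute z u from hzY u hu).pow_left m').pow_left r).eq
      exact mem_centralizer_singleton_iff.1 (hle hb.1)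
    · obtain ⟨d, hdP, hBd⟩ := exists_gen P hgen inf_le_left hBΦ
      exact hna (comm_of_central P hBd hcentral)
  · -- `c` induces an outer automorphism; the image has a cyclic Sylow subgroup
    push Not at hin
    let M := R
    let J : Subgroup M := (Y.subgroupOf K).map θ.rangeRestrict
    haveI hJn : J.Normal := Subgroup.Normal.map inferInstance _ θ.rangeRestrict_surjective
    let C : Subgroup M := zpowers (θ.rangeRestrict ⟨c, mem_sup_right (mem_zpowers c)⟩)
    have hgenK : ∀ x : K, ∃ (y : G) (hy : y ∈ Y) (i : ℤ), (x : G) = c ^ i * y := by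
      intro x
      have hx : (x : G) ∈ zpowers c ⊔ Y := by rw [sup_comm]; exact x.2
      obtain ⟨u, ⟨i, rfl⟩, v, hv, he⟩ := (Core.mem_sup_of_le_normalizer hcY).1 hx
      exact ⟨v, hv, i, he.symm⟩
    -- derived group
    have hJcomm : commutator M ≤ J := by
      rw [_root_.commutator_def, Subgroup.commutator_le]
      rintro ⟨_, x₁, rfl⟩ - ⟨_, x₂, rfl⟩ -
      obtain ⟨y₁, hy₁, i₁, e₁⟩ := hgenK x₁
      obtain ⟨y₂, hy₂, i₂, e₂⟩ := hgenK x₂
      have hmem : ⁅x₁, x₂⁆ ∈ Y.subgroupOf K := by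
        rw [← QuotientGroup.eq_one_iff]
        let c' : K := ⟨c, mem_sup_right (mem_zpowers c)⟩
        have q1 : (QuotientGroup.mk x₁ : K ⧸ Y.subgroupOf K) = (QuotientGroup.mk c') ^ i₁ := by
          rw [← QuotientGroup.mk_zpow, QuotientGroup.eq, Subgroup.mem_subgroupOf]
          simpa [e₁, c'] using Y.inv_mem hy₁
        have q2 : (QuotientGroup.mk x₂ : K ⧸ Y.subgroupOf K) = (QuotientGroup.mk c') ^ i₂ := by
          rw [← QuotientGroup.mk_zpow, QuotientGroup.eq, Subgroup.mem_subgroupOf]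
          simpa [e₂, c'] using Y.inv_mem hy₂
        rw [← QuotientGroup.mk'_apply, map_commutatorElement, QuotientGroup.mk'_apply, QuotientGroup.mk'_apply, q1, q2]
        exact commutatorElement_eq_one_iff_commute.2 (Commute.zpow_zpow_self _ _ _)
      exact ⟨_, hmem, by rw [map_commutatorElement]; rfl⟩
    have hJperf : J ≤ commutator M := by
      have hYK : (Y.subgroupOf K) ≤ commutator K := by
        intro x hx
        have h1 : (x : G) ∈ ⁅Y, Y⁆ := hperf _ hx
        have h2 : ⁅Y, Y⁆ ≤ (⁅Y.subgroupOf K, Y.subgroupOf K⁆).map K.subtype := by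
          rw [Subgroup.map_commutator, Subgroup.map_subgroupOf_eq_of_le le_sup_left]
        obtain ⟨x', hx', he⟩ := h2 h1
        rw [← Subtype.ext (a1 := x') (a2 := x) he]
        exact Subgroup.commutator_mono le_top le_top hx'
      refine (Subgroup.map_mono hYK).trans ?_
      rw [_root_.commutator_def, Subgroup.map_commutator, _root_.commutator_def]
      exact Subgroup.commutator_mono le_top le_top
    -- `C` is a Sylow subgroup of `M`
    have hKP : K ≤ normalizer (Y : Set G) := sup_le le_normalizer hcY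
    set B := ((P : Subgroup G) ⊓ Y).subgroupOf Y
    have hBidx : ¬ p ∣ (((P : Subgroup G) ⊓ Y)).relIndex Y := by
      rw [inf_relIndex_right]
      set T := (P : Subgroup G) ⊔ Y with hT
      haveI : (Y.subgroupOf T).Normal := (normal_subgroupOf_iff_le_normalizer le_sup_right).2 (sup_le hPY le_normalizer)
      have := Cfsg.Lib.Local.not_dvd_relIndex_of_normal (P.subtype (le_sup_left : (P : Subgroup G) ≤ T)) (Y.subgroupOf T)
      rwa [Sylow.coe_subtype, Subgroup.relIndex_subgroupOf le_sup_right] at this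
    have hJC : ¬ p ∣ C.index := by
      let Cs : Subgroup K := zpowers (⟨c, mem_sup_right (mem_zpowers c)⟩ : K) ⊔ ((P : Subgroup G) ⊓ Y).subgroupOf K
      have hCs : Cs.map θ.rangeRestrict ≤ C := by
        rw [Subgroup.map_sup, MonoidHom.map_zpowers]
        refine sup_le le_rfl ?_
        rintro _ ⟨⟨b, hbK⟩, hb, rfl⟩
        obtain ⟨i, hi⟩ := hB b hb
        exact ⟨i, Subtype.ext (by
          show ((θ.rangeRestrict _ ^ i : M) : MulAut Y) = θ _
          rw [SubgroupClass.coe_zpow]
          exact hi.symm)⟩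
      intro hd
      have h1 : C.index ∣ Cs.index :=
        (Subgroup.index_dvd_of_le hCs).trans (Subgroup.index_map_dvd Cs θ.rangeRestrict_surjective)
      have hd2 : p ∣ Cs.index := hd.trans h1
      have h2 : Cs.index ∣ ((P : Subgroup G) ⊓ Y).relIndex Y := by
        have hY : Y.subgroupOf K ⊔ Cs = ⊤ := by
          rw [eq_top_iff]
          intro x _
          obtain ⟨y, hy, i, e⟩ := hgenK x
          have : x = (⟨c, mem_sup_right (mem_zpowers c)⟩ : K) ^ i * ⟨y, mem_sup_left hy⟩ := Subtype.ext (by simpa using e)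
          rw [this]
          exact mul_mem (mem_sup_right (mem_sup_left (zpow_mem (mem_zpowers _) i))) (mem_sup_left hy)
        have h3 : Cs.index = Cs.relIndex (Y.subgroupOf K) := by
          set YK := Y.subgroupOf K
          have e1 : YK.index = YK.relIndex Cs := by
            rw [← Subgroup.relIndex_top_right, ← hY, Subgroup.relIndex_sup_left]
          have e2 := Core.card_mul_relIndex (H := Cs ⊓ YK) (K := Cs) inf_le_left
          have e3 := Core.card_mul_relIndex (H := Cs ⊓ YK) (K := YK) inf_le_right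
          rw [inf_relIndex_right] at e3
          rw [inf_relIndex_left] at e2
          have e4 := Cs.card_mul_index
          have e5 := YK.card_mul_index
          rw [← e2] at e4
          rw [← e3, e1, ← e4] at e5
          have hpos : 0 < Nat.card ↥(Cs ⊓ YK) := Nat.card_pos
          have hpos2 : 0 < YK.relIndex Cs := by
            haveI : Subgroup.IsFiniteRelIndex YK Cs := ⟨by rw [Subgroup.relIndex]; exact Subgroup.index_ne_zero_of_finite⟩
            rw [Nat.pos_iff_ne_zero]; exact Subgroup.relIndex_ne_zero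
          have : Nat.card ↥(Cs ⊓ YK) * YK.relIndex Cs * Cs.relIndex YK =
              Nat.card ↥(Cs ⊓ YK) * YK.relIndex Cs * Cs.index := by rw [← e5]; ring
          exact (Nat.eq_of_mul_eq_mul_left (Nat.mul_pos hpos hpos2) this).symm
        rw [h3, ← Subgroup.relIndex_subgroupOf (le_sup_left : Y ≤ K)]
        exact Subgroup.relIndex_dvd_of_le_left _ le_sup_right
      exact hBidx (hd2.trans h2)
    have hCp : IsPGroup p C := by
      intro x
      obtain ⟨i, hi⟩ := x.2
      refine ⟨m, Subtype.ext (Subtype.ext ?_)⟩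
      show ((x : M) : MulAut Y) ^ p ^ m = 1
      rw [← hi]
      show ((θ.rangeRestrict _ ^ i : M) : MulAut Y) ^ p ^ m = 1
      rw [SubgroupClass.coe_zpow]
      show (γ ^ i) ^ p ^ m = 1
      rw [← zpow_natCast, ← zpow_mul, mul_comm, zpow_mul, zpow_natCast, hγp, one_zpow]
    let CS : Sylow p M := hCp.toSylow hJC
    haveI : IsCyclic ↥(CS : Subgroup M) := by
      show IsCyclic ↥(zpowers _)
      infer_instance
    haveI : Fact p.Prime := hp
    rcases Sylow.not_dvd_card_commutator_or_not_dvd_index_commutator CS with h | h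
    · apply hY0
      rw [eq_bot_iff]
      intro b hb
      have hbJ : θ.rangeRestrict ⟨b, mem_sup_left hb.2⟩ ∈ commutator M := hJperf ⟨_, hb.2, rfl⟩
      have hcop : (Nat.card ↥(commutator M)).Coprime p := ((hp.out.coprime_iff_not_dvd).2 h).symm
      obtain ⟨k, hk⟩ := P.2 ⟨b, hb.1⟩
      have hk' : b ^ p ^ k = 1 := congrArg Subtype.val hk
      have h1 : orderOf (θ.rangeRestrict ⟨b, mem_sup_left hb.2⟩) ∣ p ^ k := by
        apply orderOf_dvd_of_pow_eq_one
        rw [← map_pow]
        have : (⟨b, mem_sup_left hb.2⟩ : K) ^ p ^ k = 1 := Subtype.ext hk'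
        rw [this, map_one]
      have h2 : orderOf (θ.rangeRestrict ⟨b, mem_sup_left hb.2⟩) ∣ Nat.card ↥(commutator M) := by
        rw [← Subgroup.orderOf_mk _ hbJ]; exact orderOf_dvd_natCard _
      have h3 := Nat.eq_one_of_dvd_coprimes (hcop.pow_right k) h2 h1
      rw [orderOf_eq_one_iff] at h3
      exact hθinj b hb.2 (congrArg Subtype.val h3)
    · have hcM : θ.rangeRestrict ⟨c, mem_sup_right (mem_zpowers c)⟩ ∈ commutator M := by
        rw [← QuotientGroup.eq_one_iff, ← orderOf_eq_one_iff]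
        have h1 : orderOf (QuotientGroup.mk (θ.rangeRestrict ⟨c, mem_sup_right (mem_zpowers c)⟩) : M ⧸ commutator M) ∣ p ^ m := by
          apply orderOf_dvd_of_pow_eq_one
          rw [← QuotientGroup.mk_pow, ← map_pow]
          have : (⟨c, mem_sup_right (mem_zpowers c)⟩ : K) ^ p ^ m = 1 := Subtype.ext hcpow
          rw [this, map_one]; rfl
        have h2 := orderOf_dvd_natCard (G := M ⧸ commutator M) (QuotientGroup.mk (θ.rangeRestrict ⟨c, mem_sup_right (mem_zpowers c)⟩))
        rw [← Subgroup.index_eq_card] at h2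
        exact Nat.eq_one_of_dvd_coprimes (((hp.out.coprime_iff_not_dvd).2 h).symm.pow_right m) h2 h1
      obtain ⟨⟨y, hyK⟩, hy, he⟩ := hJcomm hcM
      exact hin y hy hyK (congrArg Subtype.val he).symm

/-- Let p be a prime and G a finite group with a non-commutative Sylow p-subgroup P whose Frattini subgroup has index p² in P (P is generated by two elements). Suppose G has no nontrivial normal subgroup of order prime to p and the Frattini subgroup of P contains no nontrivial normal subgroup of G. Then the generalized Fitting subgroup F*(G) is the unique minimal normal subgroup of G, the image of P in G/F*(G) is cyclic, and if F*(G) is not commutative then P permutes the components of G transitively by conjugation. -/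
theorem result {G : Type*} [Group G] [Finite G] (p : ℕ) [Fact p.Prime] (P : Sylow p G) (hna : ¬ IsMulCommutative (P : Subgroup G)) (hgen : (frattini ↥(P : Subgroup G)).index = p ^ 2) (hcore : Cfsg.pPrimeCore p G = ⊥) (hfrat : ((frattini ↥(P : Subgroup G)).map (P : Subgroup G).subtype).normalCore = ⊥) [hFn : (Cfsg.generalizedFittingSubgroup G).Normal] :
    (Cfsg.generalizedFittingSubgroup G ≠ ⊥ ∧ ∀ K : Subgroup G, K.Normal → K ≠ ⊥ → Cfsg.generalizedFittingSubgroup G ≤ K) ∧
      IsCyclic ↥((P : Subgroup G).map (QuotientGroup.mk' (Cfsg.generalizedFittingSubgroup G))) ∧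
      (¬ IsMulCommutative (Cfsg.generalizedFittingSubgroup G) → ∀ K L : Subgroup G, Cfsg.IsComponent K → Cfsg.IsComponent L → ∃ x ∈ (P : Subgroup G), L = K.map (MulAut.conj x).toMonoidHom) := by
  classical
  have hfrat' : (phi P).normalCore = ⊥ := hfrat
  have hgen' := hgen
  have hnot := fun (N : Subgroup G) (hN : N.Normal) (h0 : N ≠ ⊥) =>
    haveI := hN; not_le_phi P hcore hfrat' N h0
  have hnP : ∀ N : Subgroup G, N.Normal → (P : Subgroup G) ≤
      Subgroup.normalizer (((P : Subgroup G) ⊓ N : Subgroup G) : Set G) := by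
    intro N hN x hx
    rw [Cfsg.Lib.Core.mem_normalizer_iff_map_conj]
    refine Subgroup.eq_of_le_of_card_ge ?_ (Subgroup.card_map_of_injective (MulAut.conj x).injective).ge
    rintro _ ⟨y, hy, rfl⟩
    exact ⟨(P : Subgroup G).mul_mem ((P : Subgroup G).mul_mem hx hy.1) ((P : Subgroup G).inv_mem hx),
      hN.conj_mem y hy.2 x⟩
  obtain ⟨a, ha, b, hb, hab⟩ : ∃ a ∈ (P : Subgroup G), ∃ b ∈ (P : Subgroup G), a * b * a⁻¹ * b⁻¹ ≠ 1 := by
    by_contra h
    push Not at h
    refine hna ⟨⟨fun a b => Subtype.ext ?_⟩⟩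
    have := h a a.2 b b.2
    rw [mul_inv_eq_one, mul_inv_eq_iff_eq_mul] at this
    exact this
  set N := Subgroup.normalClosure ({a * b * a⁻¹ * b⁻¹} : Set G) with hNdef
  have hN0 : N ≠ ⊥ := fun h => hab (by
    rw [← Subgroup.mem_bot, ← h]; exact Subgroup.subset_normalClosure rfl)
  have hNmin : ∀ K : Subgroup G, K.Normal → K ≠ ⊥ → N ≤ K := by
    intro K hK hK0
    haveI := hK
    obtain ⟨c, hcP, hAc⟩ := exists_gen P hgen' inf_le_left (hnot K hK hK0)
    refine Subgroup.normalClosure_le_normal ?_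
    rintro x rfl
    exact (commutator_mem P inf_le_left (hnP K hK) hAc ha hb).2
  haveI : Nontrivial G := by
    refine ⟨⟨a * b * a⁻¹ * b⁻¹, 1, hab⟩⟩
  set Fs := Cfsg.generalizedFittingSubgroup G with hFs
  have hFs0 : Fs ≠ ⊥ := Cfsg.Lib.Core.generalizedFitting_ne_bot
  have hNFs : N ≤ Fs := hNmin _ hFn hFs0
  haveI hFit : (Cfsg.fittingSubgroup G).Normal := Cfsg.Lib.Core.fittingSubgroup_normal' G
  have hNF : Cfsg.fittingSubgroup G ≠ ⊥ → N ≤ Cfsg.fittingSubgroup G := hNmin _ hFit
  have hlayer : (Cfsg.layer G).Normal := by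
    rw [Cfsg.Lib.Core.normal_iff_map_conj]
    intro g
    exact Cfsg.Lib.Core.map_layer_equiv (MulAut.conj g)
  have hmain : Fs ≤ N ∧ ((∃ K : Subgroup G, Cfsg.IsComponent K) → Cfsg.fittingSubgroup G = ⊥) := by
    by_cases hcomp : ∃ K : Subgroup G, Cfsg.IsComponent K
    · have hE0 : Cfsg.layer G ≠ ⊥ := fun h => Cfsg.Lib.Core.layer_eq_bot_iff.1 h _ hcomp.choose_spec
      have hNE := hNmin _ hlayer hE0
      have hF : Cfsg.fittingSubgroup G = ⊥ := by
        by_contra hF
        have hNF' := hNF hF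
        apply hnot N inferInstance hN0
        rintro x ⟨hxP, hxN⟩
        set E := Cfsg.layer G with hEdef
        haveI := hlayer
        set T := (P : Subgroup G) ⊔ E with hT
        have hcE : ∀ e ∈ E, e * x = x * e := by
          intro e he
          exact Cfsg.Lib.Core.commutator_eq_bot_iff_forall.1 Cfsg.Lib.Core.commutator_layer_fitting e he x (hNF' hxN)
        set R := ((P : Subgroup G) ⊓ E).subgroupOf E with hR
        have hnd : ¬ p ∣ R.index := by
          have := Cfsg.Lib.Local.not_dvd_relIndex_inf P hlayer.isSubnormal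
          exact this
        letI : CommGroup (↥R ⧸ commutator ↥R) := inferInstanceAs (CommGroup (Abelianization ↥R))
        let φ : ↥R →* ↥R ⧸ commutator ↥R := QuotientGroup.mk' _
        let xE : E := ⟨x, hNE hxN⟩
        have hxR : xE ∈ R := Subgroup.mem_subgroupOf.2 ⟨hxP, hNE hxN⟩
        have hxc : ∀ g : E, g * xE = xE * g := fun g => Subtype.ext (hcE g g.2)
        have key : ∀ (k : ℕ) (g₀ : E), g₀⁻¹ * xE ^ k * g₀ ∈ R → g₀⁻¹ * xE ^ k * g₀ = xE ^ k := by
          intro k g₀ _
          rw [mul_assoc, ← ((show Commute g₀ xE from hxc g₀).pow_right k).eq, inv_mul_cancel_left]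
        have htr := MonoidHom.transfer_eq_pow φ xE key
        have h1 : MonoidHom.transfer φ xE = 1 := by
          have hcE' : xE ∈ commutator E := by
            have : x ∈ ⁅E, E⁆ := by rw [Cfsg.Lib.Core.layer_perfect]; exact hNE hxN
            rw [← Subgroup.map_subtype_commutator] at this
            obtain ⟨z, hz, hze⟩ := this
            rwa [← Subtype.ext (a1 := z) (a2 := xE) hze]
          exact (MonoidHom.mem_ker).1 (Abelianization.commutator_subset_ker (MonoidHom.transfer φ) hcE')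
        rw [h1] at htr
        have h2 : (⟨xE ^ R.index, MonoidHom.transfer_eq_pow_aux xE key⟩ : R) ∈ commutator ↥R :=
          (QuotientGroup.eq_one_iff _).1 htr.symm
        have h3 : x ^ R.index ∈ phi P := by
          have hle : commutator ↥R ≤ (phi P).comap (E.subtype.comp R.subtype) := by
            rw [_root_.commutator_def, Subgroup.commutator_le]
            intro u _ v _
            rw [Subgroup.mem_comap, map_commutatorElement, commutatorElement_def]
            exact commutator_mem_phi P (Subgroup.mem_subgroupOf.1 u.2).1 (Subgroup.mem_subgroupOf.1 v.2).1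
          exact hle h2
        obtain ⟨k, hk⟩ := P.2 ⟨x, hxP⟩
        obtain ⟨r, hr⟩ := exists_pow_eq_self_of_coprime (x := x) (n := R.index) (by
          obtain ⟨i, -, hi⟩ := (Nat.dvd_prime_pow Fact.out).1 (orderOf_dvd_of_pow_eq_one (congrArg Subtype.val hk : x ^ p ^ k = 1))
          rw [hi]
          exact ((Fact.out : p.Prime).coprime_iff_not_dvd.2 hnd |>.pow_left i).symm)
        rw [← hr]
        exact (phi P).pow_mem h3 r
      refine ⟨?_, fun _ => hF⟩
      show Cfsg.layer G ⊔ Cfsg.fittingSubgroup G ≤ N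
      rw [hF, sup_bot_eq]
      refine sSup_le fun K hK => ?_
      rcases Cfsg.Lib.Core.component_le_or_commute hK (Subgroup.Normal.isSubnormal (inferInstance : N.Normal)) with h | h
      · exact h
      · exfalso
        have hKC : K ≤ Subgroup.centralizer (N : Set G) := Subgroup.commutator_eq_bot_iff_le_centralizer.1 h
        have hC0 : Subgroup.centralizer (N : Set G) ≠ ⊥ := fun h' =>
          Cfsg.Lib.Core.IsComponent.ne_bot hK (le_bot_iff.1 (h' ▸ hKC))
        have hNC := hNmin _ inferInstance hC0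
        haveI : IsMulCommutative N := ⟨⟨fun u v => Subtype.ext ((Subgroup.mem_centralizer_iff.1 (hNC v.2)) u u.2)⟩⟩
        have := Cfsg.Lib.Core.le_fittingSubgroup (N := N) (Cfsg.Lib.Core.isNilpotent_of_isMulCommutative N)
        rw [hF, le_bot_iff] at this
        exact hN0 this
    · refine ⟨?_, fun h => absurd h hcomp⟩
      push Not at hcomp
      have hE : Cfsg.layer G = ⊥ := Cfsg.Lib.Core.layer_eq_bot_iff.2 hcomp
      have hFsF : Fs = Cfsg.fittingSubgroup G := Cfsg.Lib.Core.generalizedFitting_eq_fitting_of_layer_eq_bot hE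
      set F := Cfsg.fittingSubgroup G with hFdef
      have hFP : F ≤ (P : Subgroup G) := by
        rw [hFdef, Cfsg.Lib.Core.fittingSubgroup_eq_iSup_pCore]
        refine iSup_le fun q => ?_
        haveI : Fact (q : ℕ).Prime := ⟨q.2⟩
        by_cases hq : (q : ℕ) = p
        · rw [hq]
          exact Cfsg.Lib.Core.pCore_le_sylow P
        · have hcop : (Nat.card ↥(Cfsg.pCore (q : ℕ) G)).Coprime p := by
            obtain ⟨e, he⟩ := (Cfsg.Lib.Core.pCore_isPGroup (q : ℕ) G).exists_card_eq
            rw [he]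
            exact ((Nat.coprime_primes q.2 Fact.out).2 hq).pow_left e
          have := Cfsg.Lib.Core.le_pPrimeCore' (p := p) inferInstance hcop
          rw [hcore, le_bot_iff] at this
          rw [this]; exact bot_le
      have hFel : ∀ x ∈ F, x ^ p = 1 := by
        intro x hx
        rw [← Subgroup.mem_bot, ← hfrat']
        intro g
        rw [← conj_pow]
        exact pow_mem_phi P (hFP (hFit.conj_mem x hx g))
      have hFcomm : ∀ x ∈ F, ∀ y ∈ F, x * y = y * x := by
        intro x hx y hy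
        have : x * y * x⁻¹ * y⁻¹ ∈ (phi P).normalCore := by
          intro g
          rw [show g * (x * y * x⁻¹ * y⁻¹) * g⁻¹ = (g * x * g⁻¹) * (g * y * g⁻¹) * (g * x * g⁻¹)⁻¹ * (g * y * g⁻¹)⁻¹ by group]
          exact commutator_mem_phi P (hFP (hFit.conj_mem x hx g)) (hFP (hFit.conj_mem y hy g))
        rw [hfrat', Subgroup.mem_bot, mul_inv_eq_one, mul_inv_eq_iff_eq_mul] at this
        exact this
      rw [hFsF]
      by_contra hFN
      obtain ⟨w₀, hw₀, hw₀N⟩ := SetLike.not_le_iff_exists.1 hFN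
      have hNF' : N ≤ F := hFsF ▸ hNFs
      obtain ⟨c, hcP, hAc⟩ := exists_gen P hgen' inf_le_left (hnot N inferInstance hN0)
      rw [inf_eq_right.2 (hNF'.trans hFP)] at hAc
      have hrep : ∀ x ∈ (P : Subgroup G), ∃ i : ℤ, ∃ n ∈ N, x = n * c ^ i := by
        intro x hx
        have hx' : x ∈ N ⊔ Subgroup.zpowers c := hAc.symm ▸ hx
        rw [Subgroup.mem_sup_of_normal_left] at hx'
        obtain ⟨n, hn, _, ⟨i, rfl⟩, rfl⟩ := hx'
        exact ⟨i, n, hn, rfl⟩
      have hFc : ∀ x ∈ F, ∀ y ∈ F, x ∈ Subgroup.zpowers c → x ∉ N → y ∈ Subgroup.zpowers c → y ∈ Subgroup.zpowers x := by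
        intro x hx y hy hxc hxN hyc
        have hord : orderOf x = p := orderOf_eq_prime (hFel x hx) (fun h => hxN (h ▸ N.one_mem))
        let C := Subgroup.zpowers c
        letI : Fintype C := Fintype.ofFinite _
        have h1 := IsCyclic.card_pow_eq_one_le (α := C) (Fact.out : p.Prime).pos
        by_contra hne
        let f : Option (Fin p) → C := fun o => o.elim ⟨y, hyc⟩ (fun i => ⟨x, hxc⟩ ^ (i : ℕ))
        have hf : Function.Injective f := by
          rintro (_ | i) (_ | j) h
          · rfl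
          · exact absurd ⟨((j : ℕ) : ℤ), by simpa [f] using (congrArg Subtype.val h).symm⟩ hne
          · exact absurd ⟨((i : ℕ) : ℤ), by simpa [f] using congrArg Subtype.val h⟩ hne
          · have := congrArg Subtype.val h
            simp only [f, Option.elim, SubmonoidClass.coe_pow] at this
            exact congrArg some (Fin.ext (pow_injOn_Iio_orderOf (by simp [hord]) (by simp [hord]) this))
        have h2 : Fintype.card (Option (Fin p)) ≤ (Finset.univ.filter fun z : C => z ^ p = 1).card := by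
          rw [← Finset.card_univ]
          refine Finset.card_le_card_of_injOn f (fun o _ => ?_) hf.injOn
          simp only [Finset.coe_filter, Finset.mem_univ, true_and, Set.mem_setOf_eq]
          rcases o with _ | i
          · exact Subtype.ext (hFel y hy)
          · refine Subtype.ext ?_
            show (x ^ (i : ℕ)) ^ p = 1
            rw [← pow_mul, mul_comm, pow_mul, hFel x hx, one_pow]
        rw [Fintype.card_option, Fintype.card_fin] at h2
        omega
      obtain ⟨i, n₀, hn₀, hw₀e⟩ := hrep w₀ (hFP hw₀)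
      set w := c ^ i with hwdef
      have hwF : w ∈ F := by
        have : w = n₀⁻¹ * w₀ := by rw [hw₀e, inv_mul_cancel_left]
        rw [this]
        exact F.mul_mem (F.inv_mem (hNF' hn₀)) hw₀
      have hwN : w ∉ N := fun h => hw₀N (hw₀e ▸ N.mul_mem hn₀ h)
      have hwp : orderOf w = p := orderOf_eq_prime (hFel w hwF) (fun h => hwN (h ▸ N.one_mem))
      have hwP : ∀ g ∈ (P : Subgroup G), g * w = w * g := by
        intro g hg
        obtain ⟨j, n, hn, rfl⟩ := hrep g hg
        have e1 : c ^ j * w = w * c ^ j := (Commute.zpow_zpow_self c j i).eq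
        rw [mul_assoc, e1, ← mul_assoc, hFcomm n (hNF' hn) w hwF, mul_assoc]
      -- projection on `⟨w⟩`
      have hex : ∀ y ∈ F, ∃ u ∈ Subgroup.zpowers w, u⁻¹ * y ∈ N := by
        intro y hy
        obtain ⟨j, n, hn, rfl⟩ := hrep y (hFP hy)
        have hcj : c ^ j ∈ F := by
          have := F.mul_mem (F.inv_mem (hNF' hn)) hy
          rwa [inv_mul_cancel_left] at this
        refine ⟨c ^ j, hFc w hwF _ hcj ⟨i, rfl⟩ hwN ⟨j, rfl⟩, ?_⟩
        rw [hFcomm n (hNF' hn) _ hcj, inv_mul_cancel_left]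
        exact hn
      have hWN : ∀ u ∈ Subgroup.zpowers w, u ∈ N → u = 1 := by
        intro u hu hun
        by_contra hu1
        obtain ⟨j, rfl⟩ := hu
        apply hwN
        haveI : Finite G := ‹_›
        have hord : orderOf (w ^ j) = p := by
          refine orderOf_eq_prime ?_ hu1
          rw [← zpow_natCast, ← zpow_mul, mul_comm, zpow_mul, zpow_natCast, hFel w hwF, one_zpow]
        have hle : Subgroup.zpowers (w ^ j) ≤ Subgroup.zpowers w := Subgroup.zpowers_le.2 ⟨j, rfl⟩
        have heq := Subgroup.eq_of_le_of_card_ge hle (by rw [Nat.card_zpowers, Nat.card_zpowers, hord, hwp])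
        have : w ∈ Subgroup.zpowers (w ^ j) := heq.symm ▸ Subgroup.mem_zpowers w
        exact (Subgroup.zpowers_le.2 hun) this
      have hWF : Subgroup.zpowers w ≤ F := Subgroup.zpowers_le.2 hwF
      choose ρ hρW hρN using hex
      have huniq : ∀ y (hy : y ∈ F), ∀ u ∈ Subgroup.zpowers w, u⁻¹ * y ∈ N → ρ y hy = u := by
        intro y hy u hu hun
        have h := N.mul_mem hun (N.inv_mem (hρN y hy))
        rw [mul_inv_rev, inv_inv, ← mul_assoc, mul_assoc u⁻¹, mul_inv_cancel, mul_one] at h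
        have := hWN _ ((Subgroup.zpowers w).mul_mem ((Subgroup.zpowers w).inv_mem hu) (hρW y hy)) h
        exact (inv_mul_eq_one.1 this).symm
      letI hFcg : CommGroup F := { (inferInstance : Group F) with mul_comm := fun u v => Subtype.ext (hFcomm u u.2 v v.2) }
      let ρH : F →* F := MonoidHom.mk' (fun y => ⟨ρ y y.2, hWF (hρW y y.2)⟩) (fun u v => Subtype.ext (by
        refine huniq _ _ _ ((Subgroup.zpowers w).mul_mem (hρW u u.2) (hρW v v.2)) ?_
        have e : (ρ u u.2 * ρ v v.2)⁻¹ * ((u : G) * v) = (ρ u u.2)⁻¹ * (u : G) * ((ρ v v.2)⁻¹ * v) := by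
          rw [mul_inv_rev]
          calc (ρ v v.2)⁻¹ * (ρ u u.2)⁻¹ * ((u : G) * v) = (ρ v v.2)⁻¹ * ((ρ u u.2)⁻¹ * u) * v := by group
            _ = ((ρ u u.2)⁻¹ * u) * (ρ v v.2)⁻¹ * v := by
              rw [hFcomm _ (F.inv_mem (hWF (hρW v v.2))) _ (F.mul_mem (F.inv_mem (hWF (hρW u u.2))) u.2)]
            _ = _ := by group
        show (ρ u u.2 * ρ v v.2)⁻¹ * ((u : G) * v) ∈ N
        rw [e]
        exact N.mul_mem (hρN u u.2) (hρN v v.2)))
      let cj : G → F →* F := fun g => MonoidHom.mk' (fun y => ⟨g * y * g⁻¹, hFit.conj_mem y y.2 g⟩)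
        (fun u v => Subtype.ext (by show g * ((u : G) * v) * g⁻¹ = g * u * g⁻¹ * (g * v * g⁻¹); group))
      have hcj : ∀ (g h : G) (y : F), cj (g * h) y = cj g (cj h y) := fun g h y => Subtype.ext (by
        show g * h * (y : G) * (g * h)⁻¹ = g * (h * y * h⁻¹) * g⁻¹; group)
      have hρeq : ∀ h ∈ (P : Subgroup G), ∀ y : F, cj h (ρH (cj h⁻¹ y)) = ρH y := by
        intro h hh y
        refine Subtype.ext ?_
        have hh' : h⁻¹ * (y : G) * (h⁻¹)⁻¹ ∈ F := hFit.conj_mem y y.2 h⁻¹
        show h * ρ (h⁻¹ * (y : G) * (h⁻¹)⁻¹) hh' * h⁻¹ = ρ y y.2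
        have e1 : ∀ u ∈ Subgroup.zpowers w, ∀ g ∈ (P : Subgroup G), g * u = u * g := by
          rintro u ⟨j, rfl⟩ g hg
          exact ((show Commute g w from hwP g hg).zpow_right j).eq
        rw [e1 _ (hρW _ hh') h hh, mul_inv_cancel_right]
        refine huniq _ _ _ (hρW y y.2) ?_
        have h3 := (inferInstance : N.Normal).conj_mem _ (hρN y y.2) h⁻¹
        rw [inv_inv] at h3 ⊢
        rw [show (ρ y y.2)⁻¹ * (h⁻¹ * (y : G) * h) = h⁻¹ * ((ρ y y.2)⁻¹ * y) * h from ?_]
        · exact h3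
        · have := e1 _ ((Subgroup.zpowers w).inv_mem (hρW y y.2)) h⁻¹ ((P : Subgroup G).inv_mem hh)
          rw [← mul_assoc, ← mul_assoc, ← this]; group
      letI : Fintype (G ⧸ (P : Subgroup G)) := Fintype.ofFinite _
      let S : F →* F :=
        { toFun := fun y => ∏ q : G ⧸ (P : Subgroup G), cj q.out (ρH (cj q.out⁻¹ y))
          map_one' := by simp
          map_mul' := fun u v => by simp [Finset.prod_mul_distrib] }
      have hrepind : ∀ (g : G) (q : G ⧸ (P : Subgroup G)), (QuotientGroup.mk g) = q → ∀ y : F,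
          cj g (ρH (cj g⁻¹ y)) = cj q.out (ρH (cj q.out⁻¹ y)) := by
        intro g q hq y
        have hmem : q.out⁻¹ * g ∈ (P : Subgroup G) := by
          rw [← QuotientGroup.eq, QuotientGroup.out_eq', hq]
        have eg : g = q.out * (q.out⁻¹ * g) := by group
        calc cj g (ρH (cj g⁻¹ y)) = cj q.out (cj (q.out⁻¹ * g) (ρH (cj (q.out⁻¹ * g)⁻¹ (cj q.out⁻¹ y)))) := by
              rw [← hcj, ← hcj, ← mul_inv_rev, ← eg]
          _ = _ := by rw [hρeq _ hmem]
      have hSeq : ∀ (h : G) (y : F), cj h (S y) = S (cj h y) := by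
        intro h y
        show cj h (∏ q : G ⧸ (P : Subgroup G), _) = ∏ q : G ⧸ (P : Subgroup G), _
        rw [map_prod]
        refine Fintype.prod_equiv (MulAction.toPerm h) _ _ (fun q => ?_)
        have hmk : (QuotientGroup.mk (h * q.out) : G ⧸ (P : Subgroup G)) = MulAction.toPerm h q := by
          conv_rhs => rw [← QuotientGroup.out_eq' q]
          rfl
        rw [← hrepind (h * q.out) _ hmk]
        rw [hcj h q.out]
        congr 2
        rw [← hcj, show (h * q.out)⁻¹ * h = q.out⁻¹ by group]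
      -- `S` is multiplication by the index modulo `N`
      let π : F →* F ⧸ N.subgroupOf F := QuotientGroup.mk' _
      have hπρ : ∀ y : F, π (ρH y) = π y := by
        intro y
        refine (QuotientGroup.eq).2 ?_
        exact Subgroup.mem_subgroupOf.2 (hρN y y.2)
      have hπcj : ∀ (g : G) (u v : F), π u = π v → π (cj g u) = π (cj g v) := by
        intro g u v h
        have h' : (QuotientGroup.mk u : F ⧸ N.subgroupOf F) = QuotientGroup.mk v := h
        have h1 : (u : G)⁻¹ * v ∈ N := Subgroup.mem_subgroupOf.1 ((QuotientGroup.eq).1 h')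
        refine (QuotientGroup.eq).2 ?_
        rw [Subgroup.mem_subgroupOf]
        show (g * (u : G) * g⁻¹)⁻¹ * (g * v * g⁻¹) ∈ N
        rw [show (g * (u : G) * g⁻¹)⁻¹ * (g * v * g⁻¹) = g * ((u : G)⁻¹ * v) * g⁻¹ by group]
        exact (inferInstance : N.Normal).conj_mem _ h1 g
      have hπS : ∀ y : F, π (S y) = π y ^ (P : Subgroup G).index := by
        intro y
        show π (∏ q : G ⧸ (P : Subgroup G), _) = _
        rw [map_prod, Finset.prod_congr rfl (g := fun _ => π y), Finset.prod_const, Finset.card_univ,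
          ← Nat.card_eq_fintype_card, Subgroup.index_eq_card]
        intro q _
        rw [hπcj _ _ _ (hπρ _), ← hcj, mul_inv_cancel]
        exact congrArg π (Subtype.ext (by show 1 * (y : G) * 1⁻¹ = y; group))
      have hSN : ∀ y : F, (y : G) ∈ N → S y = 1 := by
        intro y hy
        refine Finset.prod_eq_one fun q _ => ?_
        have : ρH (cj q.out⁻¹ y) = 1 := by
          refine Subtype.ext (huniq _ _ 1 (Subgroup.one_mem _) ?_)
          rw [inv_one, one_mul]
          exact (inferInstance : N.Normal).conj_mem _ hy _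
        rw [this, map_one]
      let L : Subgroup G := (S.range).map F.subtype
      haveI : L.Normal := by
        refine ⟨fun x hx g => ?_⟩
        obtain ⟨_, ⟨y, rfl⟩, rfl⟩ := hx
        exact ⟨_, ⟨cj g y, rfl⟩, congrArg Subtype.val (hSeq g y).symm⟩
      have hsmall : ∀ y : F, (S y : G) ∈ N → S y = 1 := by
        intro y hy
        refine hSN y ?_
        have h1 : π y ^ (P : Subgroup G).index = 1 := by
          rw [← hπS]; exact (QuotientGroup.eq_one_iff _).2 hy
        have h2 : π y ^ p = 1 := by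
          rw [← map_pow, show y ^ p = 1 from Subtype.ext (hFel y y.2), map_one]
        have h3 : π y = 1 := by
          rw [← pow_one (π y), ← (((Fact.out : p.Prime).coprime_iff_not_dvd.2 P.not_dvd_index) : Nat.gcd p _ = 1)]
          exact pow_gcd_eq_one.2 ⟨h2, h1⟩
        exact Subgroup.mem_subgroupOf.1 ((QuotientGroup.eq_one_iff y).1 h3)
      have hL0 : L ≠ ⊥ := by
        intro hL
        have hS1 : S ⟨w, hwF⟩ = 1 := by
          have : (S ⟨w, hwF⟩ : G) ∈ L := ⟨_, ⟨_, rfl⟩, rfl⟩
          rw [hL, Subgroup.mem_bot] at this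
          exact Subtype.ext this
        apply hwN
        have h1 : π ⟨w, hwF⟩ ^ (P : Subgroup G).index = 1 := by rw [← hπS, hS1, map_one]
        have h2 : π ⟨w, hwF⟩ ^ p = 1 := by
          rw [← map_pow, show (⟨w, hwF⟩ : F) ^ p = 1 from Subtype.ext (hFel w hwF), map_one]
        have h3 : π ⟨w, hwF⟩ = 1 := by
          rw [← pow_one (π _), ← (((Fact.out : p.Prime).coprime_iff_not_dvd.2 P.not_dvd_index) : Nat.gcd p _ = 1)]
          exact pow_gcd_eq_one.2 ⟨h2, h1⟩
        exact Subgroup.mem_subgroupOf.1 ((QuotientGroup.eq_one_iff (⟨w, hwF⟩ : F)).1 h3)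
      apply hN0
      rw [eq_bot_iff]
      intro x hx
      obtain ⟨_, ⟨y, rfl⟩, rfl⟩ := hNmin L inferInstance hL0 hx
      rw [hsmall y hx]
      exact Subgroup.one_mem _
  have hFsN : Fs = N := le_antisymm hmain.1 hNFs
  refine ⟨⟨hFs0, fun K hK hK0 => (le_of_eq hFsN).trans (hNmin K hK hK0)⟩, ?_, ?_⟩
  · obtain ⟨c, hcP, hAc⟩ := exists_gen P hgen' inf_le_left (hnot Fs hFn hFs0)
    have : (P : Subgroup G).map (QuotientGroup.mk' Fs) = Subgroup.zpowers (QuotientGroup.mk' Fs c) := by
      conv_lhs => rw [← hAc, Subgroup.map_sup, MonoidHom.map_zpowers]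
      rw [show ((P : Subgroup G) ⊓ Fs).map (QuotientGroup.mk' Fs) = ⊥ from
        (Subgroup.map_eq_bot_iff _).2 (by rw [QuotientGroup.ker_mk']; exact inf_le_right), bot_sup_eq]
    rw [this]
    infer_instance
  · intro hncomm K L hK hL
    have hcomp : ∃ K : Subgroup G, Cfsg.IsComponent K := ⟨K, hK⟩
    have hF := hmain.2 hcomp
    by_contra hnot'
    push Not at hnot'
    let 𝒳 : Set (Subgroup G) := {J | ∃ x ∈ (P : Subgroup G), J = K.map (MulAut.conj x).toMonoidHom}
    let 𝒴 : Set (Subgroup G) := {J | Cfsg.IsComponent J ∧ J ∉ 𝒳}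
    have h𝒳 : ∀ J ∈ 𝒳, Cfsg.IsComponent J := by
      rintro J ⟨x, -, rfl⟩; exact Cfsg.Lib.Core.IsComponent.map_conj hK x
    have hLY : L ∈ 𝒴 := ⟨hL, fun ⟨x, hx, he⟩ => hnot' x hx he⟩
    have h𝒳P : ∀ x ∈ (P : Subgroup G), ∀ J ∈ 𝒳, J.map (MulAut.conj x).toMonoidHom ∈ 𝒳 := by
      rintro x hx J ⟨y, hy, rfl⟩
      exact ⟨x * y, (P : Subgroup G).mul_mem hx hy, (Cfsg.Lib.Core.map_conj_mul K x y).symm⟩
    have h𝒴P : ∀ x ∈ (P : Subgroup G), ∀ J ∈ 𝒴, J.map (MulAut.conj x).toMonoidHom ∈ 𝒴 := by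
      rintro x hx J ⟨hJ, hJn⟩
      refine ⟨Cfsg.Lib.Core.IsComponent.map_conj hJ x, fun h => hJn ?_⟩
      have := h𝒳P x⁻¹ ((P : Subgroup G).inv_mem hx) _ h
      rw [← Cfsg.Lib.Core.map_conj_mul, inv_mul_cancel] at this
      convert this using 1
      ext; simp
    have hnormS : ∀ 𝒵 : Set (Subgroup G), (∀ x ∈ (P : Subgroup G), ∀ J ∈ 𝒵, J.map (MulAut.conj x).toMonoidHom ∈ 𝒵) →
        (P : Subgroup G) ≤ Subgroup.normalizer ((sSup 𝒵 : Subgroup G) : Set G) := by
      intro 𝒵 h x hx
      rw [Cfsg.Lib.Core.mem_normalizer_iff_map_conj]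
      refine Subgroup.eq_of_le_of_card_ge ?_ (Subgroup.card_map_of_injective (MulAut.conj x).injective).ge
      rw [Subgroup.map_le_iff_le_comap]
      refine sSup_le fun J hJ => ?_
      rw [← Subgroup.map_le_iff_le_comap]
      exact le_sSup (h x hx J hJ)
    set X := sSup 𝒳 with hX
    set Y := sSup 𝒴 with hY
    have hc : ⁅X, Y⁆ = ⊥ := by
      refine Cfsg.Lib.Core.commutator_sSup_left_eq_bot fun J hJ => ?_
      rw [Subgroup.commutator_comm]
      refine Cfsg.Lib.Core.commutator_sSup_left_eq_bot fun J' hJ' => ?_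
      exact Cfsg.Lib.Core.component_commute hJ'.1 (h𝒳 J hJ) (fun h => hJ'.2 (h ▸ hJ))
    have hsnX : X.IsSubnormal := Cfsg.Lib.Core.isSubnormal_sSup_components h𝒳
    have hsnY : Y.IsSubnormal := Cfsg.Lib.Core.isSubnormal_sSup_components (fun J hJ => hJ.1)
    have hE : Cfsg.layer G = X ⊔ Y := by
      refine le_antisymm (sSup_le fun J hJ => ?_) (sup_le (sSup_le fun J hJ => Cfsg.Lib.Core.le_layer (h𝒳 J hJ))
        (sSup_le fun J hJ => Cfsg.Lib.Core.le_layer hJ.1))
      by_cases h : J ∈ 𝒳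
      · exact le_sup_of_le_left (le_sSup h)
      · exact le_sup_of_le_right (le_sSup ⟨hJ, h⟩)
    have hFsE : Fs = X ⊔ Y := by
      show Cfsg.layer G ⊔ Cfsg.fittingSubgroup G = _
      rw [hF, sup_bot_eq, hE]
    have hcF : ∀ z ∈ Cfsg.layer G, (∀ e ∈ Cfsg.layer G, e * z = z * e) → z = 1 := by
      intro z hz hze
      rw [← Subgroup.mem_bot, ← hF]
      refine Cfsg.Lib.Core.center_map_le_fittingSubgroup (H := Cfsg.layer G) hlayer.isSubnormal ?_
      exact ⟨⟨z, hz⟩, Subgroup.mem_center_iff.2 (fun e => Subtype.ext (hze e e.2)), rfl⟩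
    have hcm := Cfsg.Lib.Core.commutator_eq_bot_iff_forall.1 hc
    have hXY : X ⊓ Y = ⊥ := by
      rw [eq_bot_iff]
      rintro z ⟨hzX, hzY⟩
      refine hcF z (hE ▸ Subgroup.mem_sup_left hzX) fun e he => ?_
      have hle : X ⊔ Y ≤ Subgroup.centralizer ({z} : Set G) := sup_le
        (fun u hu => Subgroup.mem_centralizer_singleton_iff.2 (hcm u hu z hzY))
        (fun u hu => Subgroup.mem_centralizer_singleton_iff.2 (hcm z hzX u hu).symm)
      exact Subgroup.mem_centralizer_singleton_iff.1 (hle (hE ▸ he))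
    have hK0 : ∀ Z : Subgroup G, Z.IsSubnormal → Z ≠ ⊥ → (P : Subgroup G) ⊓ Z ≠ ⊥ := by
      intro Z hZ hZ0 h
      have h1 := Cfsg.Lib.Local.not_dvd_relIndex_inf P hZ
      rw [h, Subgroup.relIndex_bot_left] at h1
      have := Cfsg.Lib.Core.le_pPrimeCore_of_isSubnormal (p := p) hZ ((Fact.out : p.Prime).coprime_iff_not_dvd.2 h1).symm
      rw [hcore, le_bot_iff] at this
      exact hZ0 this
    have hX0 : X ≠ ⊥ := fun h => Cfsg.Lib.Core.IsComponent.ne_bot hK (by
      have hKX : K ∈ 𝒳 := ⟨1, (P : Subgroup G).one_mem, by ext; simp⟩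
      exact le_bot_iff.1 (h ▸ le_sSup hKX))
    have hY0 : Y ≠ ⊥ := fun h => Cfsg.Lib.Core.IsComponent.ne_bot hL (le_bot_iff.1 (h ▸ le_sSup hLY))
    have hcent : ∀ (A B : Subgroup G), A ⊔ B = X ⊔ Y → (∀ u ∈ B, ∀ v ∈ A, u * v = v * u) →
        ∀ z ∈ A, (∀ v ∈ A, z * v = v * z) → z = 1 := by
      intro A B hAB hBA z hz hzA
      refine hcF z (hE ▸ hAB ▸ Subgroup.mem_sup_left hz) fun e he => ?_
      have hle : A ⊔ B ≤ Subgroup.centralizer ({z} : Set G) := sup_le
        (fun u hu => Subgroup.mem_centralizer_singleton_iff.2 (hzA u hu).symm)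
        (fun u hu => Subgroup.mem_centralizer_singleton_iff.2 (hBA u hu z hz))
      exact Subgroup.mem_centralizer_singleton_iff.1 (hle (hAB.symm ▸ hE ▸ he))
    have hperf : ∀ 𝒵 : Set (Subgroup G), (∀ J ∈ 𝒵, Cfsg.IsComponent J) → ∀ z ∈ sSup 𝒵, z ∈ ⁅sSup 𝒵, sSup 𝒵⁆ := by
      intro 𝒵 h𝒵 z hz
      refine (sSup_le fun J hJ => ?_ : sSup 𝒵 ≤ ⁅sSup 𝒵, sSup 𝒵⁆) hz
      rw [← Cfsg.Lib.Core.IsComponent.commutator_eq (h𝒵 J hJ)]
      exact Subgroup.commutator_mono (le_sSup hJ) (le_sSup hJ)
    have hPE : (P : Subgroup G) ⊓ Fs ≤ ((P : Subgroup G) ⊓ X) ⊔ ((P : Subgroup G) ⊓ Y) := by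
      rw [hFsE]
      exact Cfsg.Lib.Local.inf_sup_le_of_commute P hsnX hsnY hc
    have hPX := hnormS 𝒳 h𝒳P
    have hPY := hnormS 𝒴 h𝒴P
    by_cases hA : (P : Subgroup G) ⊓ X ≤ phi P
    · have hB : ¬ (P : Subgroup G) ⊓ Y ≤ phi P := fun hB => hnot Fs hFn hFs0 (hPE.trans (sup_le hA hB))
      exact no_split P hna hgen' Y X (by rw [Subgroup.commutator_comm]; exact hc) (by rw [inf_comm]; exact hXY)
        hPY hPX (hK0 X hsnX hX0) hB (hcent X Y rfl (fun u hu v hv => (hcm v hv u hu).symm)) (hperf 𝒳 h𝒳)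
    · exact no_split P hna hgen' X Y hc hXY hPX hPY (hK0 Y hsnY hY0) hA
        (hcent Y X (sup_comm Y X) hcm) (hperf 𝒴 fun J hJ => hJ.1)

end Cfsg.Agent.S4172
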