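import Cfsg.Statements.S4176
import Cfsg.Agent.Lib.Fusion.PComplementSolvable
import Mathlib.RepresentationTheory.Invariants
import Mathlib.GroupTheory.GroupAction.Quotient
import Mathlib.GroupTheory.Sylow

set_option linter.style.haveILetI false

set_option autoImplicit false
open Cfsg

namespace Cfsg.Agent.S4176

open Subgroup

variable {k V H : Type*} [Field k] [AddCommGroup V] [Module k V] [Group H] [Finite H]

/-- The sum of the translates of `a` over the cosets of a subgroup fixing `a` is the only source of fixed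
vectors, seen from a complementary subgroup of invertible order. -/
theorem mem_span_sum (ρ : Representation k H V) {a : V} (A : Subgroup H) (hA : ∀ h ∈ A, ρ h a = a)
    (hspan : Submodule.span k {u : V | ∃ h : H, ρ h a = u} = ⊤) (K : Subgroup H)
    (htr : ∀ q : H ⧸ A, ∃ x : K, ((x : H) : H ⧸ A) = q) (hK : (Nat.card K : k) ≠ 0) :
    ∃ S : V, (∀ h : H, ρ h S = S) ∧
      ∀ w : V, (∀ x ∈ K, ρ x w = w) → ∃ c : k, w = c • S := by
  classical
  haveI := Fintype.ofFinite (H ⧸ A)
  haveI := Fintype.ofFinite K
  have hval : ∀ g g' : H, (g : H ⧸ A) = g' → ρ g a = ρ g' a := fun g g' h => by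
    have h1 : g' = g * (g⁻¹ * g') := by group
    rw [h1, map_mul, Module.End.mul_apply, hA _ (QuotientGroup.eq.mp h)]
  let φ : H ⧸ A → V := fun q => ρ q.out a
  have hφ : ∀ g : H, φ (g : H ⧸ A) = ρ g a := fun g => hval _ _ (QuotientGroup.out_eq' _)
  have hequiv : ∀ (h : H) (q : H ⧸ A), ρ h (φ q) = φ (h • q) := fun h q => by
    obtain ⟨g, rfl⟩ := QuotientGroup.mk_surjective q
    rw [hφ, MulAction.Quotient.smul_mk, hφ, smul_eq_mul, map_mul, Module.End.mul_apply]
  set S := ∑ q, φ q with hS
  have hSfix : ∀ h : H, ρ h S = S := fun h => by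
    rw [hS, map_sum]
    simp_rw [hequiv h]
    exact Equiv.sum_comp (MulAction.toPerm h) φ
  set S' := ∑ x : K, φ ((x : H) : H ⧸ A) with hS'
  have hcount : (Nat.card K : k) • S = (Fintype.card (H ⧸ A) : k) • S' := by
    have h1 : ∀ q : H ⧸ A, ∑ x : K, φ ((x : H) • q) = S' := fun q => by
      obtain ⟨y, rfl⟩ := htr q
      rw [hS']
      exact Fintype.sum_equiv (Equiv.mulRight y) _ _ fun x => by
        rw [MulAction.Quotient.smul_mk]; rfl
    calc (Nat.card K : k) • S = ∑ x : K, S := by
          rw [Finset.sum_const, Finset.card_univ, Nat.cast_smul_eq_nsmul, Nat.card_eq_fintype_card]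
      _ = ∑ x : K, ∑ q, φ ((x : H) • q) := Finset.sum_congr rfl fun x _ =>
          (Equiv.sum_comp (MulAction.toPerm (x : H)) φ).symm
      _ = ∑ q, ∑ x : K, φ ((x : H) • q) := Finset.sum_comm
      _ = _ := by rw [Finset.sum_congr rfl fun q _ => h1 q, Finset.sum_const, Finset.card_univ, Nat.cast_smul_eq_nsmul]
  -- the averaging map
  let T : V →ₗ[k] V := ∑ x : K, ρ (x : H)
  have hT : ∀ w, T w ∈ Submodule.span k {S'} := by
    intro w
    have hw : w ∈ Submodule.span k {u : V | ∃ h : H, ρ h a = u} := hspan ▸ Submodule.mem_top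
    induction hw using Submodule.span_induction with
    | mem u hu =>
      obtain ⟨h, rfl⟩ := hu
      obtain ⟨y, hy⟩ := htr (h : H ⧸ A)
      have : T (ρ h a) = S' := by
        rw [LinearMap.sum_apply, hS']
        refine Fintype.sum_equiv (Equiv.mulRight y) _ _ fun x => ?_
        rw [← hφ h, hequiv, ← hy, MulAction.Quotient.smul_mk]
        rfl
      rw [this]
      exact Submodule.mem_span_singleton_self S'
    | zero => rw [map_zero]; exact zero_mem _
    | add u v _ _ hu hv => rw [map_add]; exact add_mem hu hv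
    | smul c u _ hu => rw [map_smul]; exact Submodule.smul_mem _ c hu
  have hq : (Fintype.card (H ⧸ A) : k) ≠ 0 := by
    intro h0
    have hle : A.index ∣ Nat.card K := by
      obtain ⟨j, hj⟩ : ∃ j, Nat.card K = j * A.index := by
        let ψ : K → H ⧸ A := fun x => ((x : H) : H ⧸ A)
        refine ⟨Nat.card (A.subgroupOf K), ?_⟩
        have h1 : (A.subgroupOf K).index = A.index := by
          refine Nat.card_congr (Equiv.ofBijective (Quotient.map' (fun x : K => (x : H)) ?_) ⟨?_, ?_⟩)
          · intro x y hxy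
            rw [QuotientGroup.leftRel_apply] at hxy ⊢
            exact hxy
          · rintro ⟨x⟩ ⟨y⟩ hxy
            exact Quotient.sound' (QuotientGroup.leftRel_apply.mpr (mem_subgroupOf.mpr (by
              simpa using QuotientGroup.leftRel_apply.mp (Quotient.exact' hxy))))
          · intro q
            obtain ⟨x, hx⟩ := htr q
            exact ⟨(x : K ⧸ A.subgroupOf K), hx⟩
        rw [← h1, card_mul_index]
      exact Dvd.intro_left j hj.symm
    obtain ⟨d, hd⟩ := hle
    refine hK ?_
    rw [hd, Nat.cast_mul, index, Nat.card_eq_fintype_card, h0, zero_mul]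
  refine ⟨S, hSfix, fun w hw => ?_⟩
  obtain ⟨c, hc⟩ := Submodule.mem_span_singleton.mp (hT w)
  have hTw : T w = (Nat.card K : k) • w := by
    rw [LinearMap.sum_apply, Finset.sum_congr rfl fun (x : K) _ => hw (x : H) x.2, Finset.sum_const, Finset.card_univ,
      Nat.cast_smul_eq_nsmul, Nat.card_eq_fintype_card]
  refine ⟨c * (Fintype.card (H ⧸ A) : k)⁻¹, ?_⟩
  refine smul_right_injective V hK ?_
  show (Nat.card K : k) • w = (Nat.card K : k) • ((c * (Fintype.card (H ⧸ A) : k)⁻¹) • S)
  rw [← hTw, ← hc, smul_comm, hcount, smul_smul, mul_assoc, inv_mul_cancel₀ hq, mul_one]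

/-- A subgroup of order prime to `p` and index a power of `p` in a subgroup of coprime index is transitive. -/
theorem transitive_of_index {p : ℕ} [hp : Fact p.Prime] {A B K : Subgroup H} (hAp : ¬ p ∣ A.index)
    (hcop : A.index.Coprime B.index) (hKB : K ≤ B) {j : ℕ} (hKj : K.relIndex B = p ^ j) :
    ∀ q : H ⧸ A, ∃ x : K, ((x : H) : H ⧸ A) = q := by
  have h1 : A.index ∣ A.relIndex K := by
    have h2 : A.index ∣ (A ⊓ K).index := index_dvd_of_le inf_le_left
    have h3 : (A ⊓ K).index = A.relIndex K * (p ^ j * B.index) := by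
      rw [← hKj, relIndex_mul_index hKB, ← inf_relIndex_right, relIndex_mul_index inf_le_right]
    rw [h3] at h2
    refine (Nat.Coprime.dvd_of_dvd_mul_right ?_ h2)
    exact Nat.Coprime.mul_right ((hp.out.coprime_iff_not_dvd.mpr hAp).symm.pow_right j) hcop
  let ψ : K ⧸ A.subgroupOf K → H ⧸ A := Quotient.map' (fun x : K => (x : H)) fun x y hxy => by
    rw [QuotientGroup.leftRel_apply] at hxy ⊢
    exact hxy
  have hψi : Function.Injective ψ := by
    rintro ⟨x⟩ ⟨y⟩ hxy
    exact Quotient.sound' (QuotientGroup.leftRel_apply.mpr (mem_subgroupOf.mpr (by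
      simpa using QuotientGroup.leftRel_apply.mp (Quotient.exact' hxy))))
  have hψ : Function.Bijective ψ := hψi.bijective_of_nat_card_le
    (Nat.le_of_dvd (Nat.pos_of_ne_zero index_ne_zero_of_finite) h1)
  intro q
  obtain ⟨⟨x⟩, hx⟩ := hψ.2 q
  exact ⟨x, hx⟩

/-- Let k be a field of prime characteristic p, H a finite p-soluble group and ρ a k-linear representation of H on V. Let a be a vector that is fixed by some Sylow p-subgroup of H and whose H-orbit spans V. Then the space of H-fixed vectors has dimension at most 1, and every vector b whose H-orbit has size coprime to the size of the orbit of a is fixed by H. -/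
theorem result {k V H : Type*} [Field k] (p : ℕ) [Fact p.Prime] [CharP k p] [AddCommGroup V] [Module k V]
    [Group H] [Finite H] (hsol : Cfsg.IsPSolvable p H) (ρ : Representation k H V) (a : V)
    (hfix : ∃ P : Sylow p H, ∀ x : H, x ∈ (P : Subgroup H) → ρ x a = a)
    (hspan : Submodule.span k {u : V | ∃ h : H, ρ h a = u} = ⊤) :
    Module.finrank k ρ.invariants ≤ 1 ∧
    ∀ b : V, (Nat.card {u : V | ∃ h : H, ρ h a = u}).Coprime (Nat.card {u : V | ∃ h : H, ρ h b = u}) → ∀ h : H, ρ h b = b := by
  classical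
  obtain ⟨P, hP⟩ := hfix
  have horb : ∀ v : V, ∃ A : Subgroup H, (∀ h : H, h ∈ A ↔ ρ h v = v) ∧
      A.index = Nat.card {u : V | ∃ h : H, ρ h v = u} := by
    intro v
    letI : MulAction H V :=
      { smul := fun h u => ρ h u
        one_smul := fun u => by show ρ 1 u = u; rw [map_one, Module.End.one_apply]
        mul_smul := fun g h u => by show ρ (g * h) u = ρ g (ρ h u); rw [map_mul, Module.End.mul_apply] }
    exact ⟨MulAction.stabilizer H v, fun h => Iff.rfl, MulAction.index_stabilizer H v⟩
  have hcast : ∀ {K : Subgroup H}, ¬ p ∣ Nat.card K → (Nat.card K : k) ≠ 0 := fun hK h =>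
    hK ((CharP.cast_eq_zero_iff k p _).mp h)
  obtain ⟨A, hA, hAidx⟩ := horb a
  have hPA : (P : Subgroup H) ≤ A := fun x hx => (hA x).mpr (hP x hx)
  have hAp : ¬ p ∣ A.index := fun h => P.not_dvd_index (h.trans (index_dvd_of_le hPA))
  -- vectors fixed by a subgroup of index coprime to that of the stabiliser
  have key : ∀ B : Subgroup H, A.index.Coprime B.index → ∃ S : V, (∀ h : H, ρ h S = S) ∧
      ∀ w : V, (∀ x ∈ B, ρ x w = w) → ∃ c : k, w = c • S := by
    intro B hcop
    obtain ⟨K0, j, hK0, hj⟩ := Cfsg.Lib.PComplementSolvable.exists_complement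
      (Cfsg.Lib.Core.isPSolvable_subgroup hsol B)
    have hKB : K0.map B.subtype ≤ B := map_subtype_le K0
    have hrel : (K0.map B.subtype).relIndex B = p ^ j := by
      rw [← hj]
      show ((K0.map B.subtype).subgroupOf B).index = K0.index
      rw [show (K0.map B.subtype).subgroupOf B = K0 from comap_map_eq_self_of_injective B.subtype_injective K0]
    obtain ⟨S, hS, h⟩ := mem_span_sum ρ A (fun x hx => (hA x).mp hx) hspan (K0.map B.subtype)
      (transitive_of_index hAp hcop hKB hrel) (hcast (by rwa [card_map_of_injective B.subtype_injective]))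
    exact ⟨S, hS, fun w hw => h w fun x hx => hw x (hKB hx)⟩
  refine ⟨?_, fun b hb h => ?_⟩
  · obtain ⟨S, hS, hw⟩ := key ⊤ (by rw [index_top]; exact Nat.coprime_one_right _)
    refine finrank_le_one (⟨S, fun g => hS g⟩ : ρ.invariants) fun w => ?_
    obtain ⟨c, hc⟩ := hw w (fun x _ => w.2 x)
    exact ⟨c, Subtype.ext hc.symm⟩
  · obtain ⟨B, hB, hBidx⟩ := horb b
    obtain ⟨S, hS, hw⟩ := key B (by rw [hAidx, hBidx]; exact hb)
    obtain ⟨c, hc⟩ := hw b fun x hx => (hB x).mp hx
    rw [hc, map_smul, hS]

end Cfsg.Agent.S4176
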