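import Cfsg.Statements.S4177
import Mathlib.LinearAlgebra.Dimension.Constructions

set_option autoImplicit false
open Cfsg

namespace Cfsg.Agent.S4177

open Subgroup

variable {k V H : Type*} [Field k] [AddCommGroup V] [Module k V] [Group H]

theorem rep_mul_apply (ρ : Representation k H V) (g h : H) (v : V) : ρ (g * h) v = ρ g (ρ h v) := by
  rw [map_mul]; rfl

/-- The stabilizer of a vector. -/
def vecStab (ρ : Representation k H V) (a : V) : Subgroup H where
  carrier := {h | ρ h a = a}
  mul_mem' {g h} hg hh := by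
    show ρ (g * h) a = a
    rw [rep_mul_apply, (hh : ρ h a = a), (hg : ρ g a = a)]
  one_mem' := by
    show ρ 1 a = a
    rw [map_one]; rfl
  inv_mem' {g} hg := by
    show ρ g⁻¹ a = a
    conv_lhs => rw [← (hg : ρ g a = a)]
    rw [← rep_mul_apply, inv_mul_cancel, map_one]; rfl

theorem mem_vecStab {ρ : Representation k H V} {a : V} {h : H} : h ∈ vecStab ρ a ↔ ρ h a = a := Iff.rfl

theorem card_orbit_eq (ρ : Representation k H V) (a : V) :
    Nat.card {u : V | ∃ h : H, ρ h a = u} = (vecStab ρ a).index := by
  symm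
  refine Nat.card_congr (Equiv.ofBijective
    (Quotient.lift (fun h : H => (⟨ρ h a, h, rfl⟩ : {u : V | ∃ h : H, ρ h a = u})) ?_) ⟨?_, ?_⟩)
  · intro g h hgh
    have h1 : ρ (g⁻¹ * h) a = a := QuotientGroup.leftRel_apply.1 hgh
    refine Subtype.ext ?_
    show ρ g a = ρ h a
    conv_lhs => rw [← h1]
    rw [← rep_mul_apply, mul_inv_cancel_left]
  · refine Quotient.ind₂ fun g h hgh => Quotient.sound (QuotientGroup.leftRel_apply.2 ?_)
    show ρ (g⁻¹ * h) a = a
    have e : ρ g a = ρ h a := congrArg Subtype.val hgh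
    rw [rep_mul_apply, ← e, ← rep_mul_apply, inv_mul_cancel, map_one]
    rfl
  · rintro ⟨_, h, rfl⟩
    exact ⟨Quotient.mk'' h, rfl⟩


/-- Let k be a field whose characteristic does not divide the order of the finite group H (for instance a field of characteristic zero), and ρ a k-linear representation of H on V. Let a be a vector whose H-orbit spans V. Then the space of H-fixed vectors has dimension at most 1, and every vector b whose H-orbit has size coprime to the size of the orbit of a is fixed by H. -/
theorem result {k V H : Type*} [Field k] [AddCommGroup V] [Module k V] [Group H] [Finite H]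
    (hchar : ¬ ringChar k ∣ Nat.card H) (ρ : Representation k H V) (a : V)
    (hspan : Submodule.span k {u : V | ∃ h : H, ρ h a = u} = ⊤) :
    Module.finrank k ρ.invariants ≤ 1 ∧
    ∀ b : V, (Nat.card {u : V | ∃ h : H, ρ h a = u}).Coprime (Nat.card {u : V | ∃ h : H, ρ h b = u}) → ∀ h : H, ρ h b = b := by
  classical
  haveI := Fintype.ofFinite H
  have hne : ((Nat.card H : ℕ) : k) ≠ 0 := fun h => hchar (ringChar.dvd h)
  have hinv : ∀ {v : V}, v ∈ ρ.invariants → ∀ h, ρ h v = v := fun hv h => hv h
  let A : V →ₗ[k] V := ∑ h : H, ρ h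
  have hA : ∀ v, A v = ∑ h : H, ρ h v := fun v => LinearMap.sum_apply _ _ _
  have hAh : ∀ g v, A (ρ g v) = A v := fun g v => by
    rw [hA, hA]
    exact Fintype.sum_equiv (Equiv.mulRight g) _ _ fun h => (rep_mul_apply ρ h g v).symm
  have hgA : ∀ g v, ρ g (A v) = A v := fun g v => by
    rw [hA, map_sum]
    exact Fintype.sum_equiv (Equiv.mulLeft g) _ _ fun h => (rep_mul_apply ρ g h v).symm
  have hfix : ∀ v, (∀ h, ρ h v = v) → v ∈ Submodule.span k ({A a} : Set V) := by
    intro v hv
    have h1 : A v = (Nat.card H : k) • v := by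
      rw [hA, Finset.sum_congr rfl (fun h _ => hv h), Finset.sum_const, Finset.card_univ,
        Nat.card_eq_fintype_card, Nat.cast_smul_eq_nsmul]
    have h2 : A v ∈ Submodule.span k ({A a} : Set V) := by
      have h3 : v ∈ Submodule.span k {u : V | ∃ h : H, ρ h a = u} := by rw [hspan]; trivial
      refine Submodule.span_induction (p := fun w _ => A w ∈ Submodule.span k ({A a} : Set V))
        ?_ ?_ ?_ ?_ h3
      · rintro _ ⟨h, rfl⟩
        rw [hAh]
        exact Submodule.subset_span rfl
      · rw [map_zero]; exact zero_mem _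
      · intro x y _ _ hx hy
        rw [map_add]; exact add_mem hx hy
      · intro c x _ hx
        rw [map_smul]; exact Submodule.smul_mem _ c hx
    rw [h1] at h2
    have h4 := Submodule.smul_mem _ (Nat.card H : k)⁻¹ h2
    rwa [smul_smul, inv_mul_cancel₀ hne, one_smul] at h4
  refine ⟨?_, fun b hb => ?_⟩
  · refine le_trans (Submodule.finrank_mono (fun v hv => hfix v (hinv hv))) ?_
    refine le_trans (finrank_span_le_card _) ?_
    simp
  · rw [card_orbit_eq, card_orbit_eq] at hb
    set Ha := vecStab ρ a
    set Hb := vecStab ρ b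
    have htr : ∀ h : H, ∃ x ∈ Hb, ρ h a = ρ x a := by
      let f : Hb ⧸ Ha.subgroupOf Hb → H ⧸ Ha := Quotient.map' (fun x => (x : H)) fun x y hxy => by
        rw [QuotientGroup.leftRel_apply] at hxy ⊢
        exact hxy
      have hinj : Function.Injective f := by
        refine Quotient.ind₂' fun x y hxy => Quotient.sound' ?_
        rw [QuotientGroup.leftRel_apply]
        exact (QuotientGroup.leftRel_apply.1 (Quotient.exact' hxy) : (x : H)⁻¹ * y ∈ Ha)
      have hcard : Nat.card (H ⧸ Ha) ≤ Nat.card (Hb ⧸ Ha.subgroupOf Hb) := by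
        show Ha.index ≤ Ha.relIndex Hb
        have h1 : Ha.index * Hb.index ∣ Ha.relIndex Hb * Hb.index := by
          have h2 := relIndex_mul_index (inf_le_right : Ha ⊓ Hb ≤ Hb)
          rw [inf_relIndex_right] at h2
          rw [h2]
          exact Nat.Coprime.mul_dvd_of_dvd_of_dvd hb (index_dvd_of_le inf_le_left) (index_dvd_of_le inf_le_right)
        exact Nat.le_of_dvd (Nat.pos_of_ne_zero (Ha.subgroupOf Hb).index_ne_zero_of_finite)
          (Nat.dvd_of_mul_dvd_mul_right (Nat.pos_of_ne_zero Hb.index_ne_zero_of_finite) h1)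
      have hbij := Nat.bijective_iff_injective_and_card f |>.2
        ⟨hinj, le_antisymm (Nat.card_le_card_of_injective f hinj) hcard⟩
      intro h
      obtain ⟨q, hq⟩ := hbij.2 (QuotientGroup.mk h)
      induction q using Quotient.inductionOn' with
      | h x =>
        refine ⟨x, x.2, ?_⟩
        have : (x : H)⁻¹ * h ∈ Ha := QuotientGroup.eq.1 hq
        calc ρ h a = ρ ((x : H) * ((x : H)⁻¹ * h)) a := by rw [mul_inv_cancel_left]
          _ = ρ x a := by rw [rep_mul_apply, mem_vecStab.1 this]
    haveI := Fintype.ofFinite Hb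
    let B : V →ₗ[k] V := ∑ x : Hb, ρ (x : H)
    have hB : ∀ v, B v = ∑ x : Hb, ρ (x : H) v := fun v => LinearMap.sum_apply _ _ _
    have hBx : ∀ x ∈ Hb, ∀ v, B (ρ x v) = B v := fun x hx v => by
      rw [hB, hB]
      exact Fintype.sum_equiv (Equiv.mulRight (⟨x, hx⟩ : Hb)) _ _ fun y => by
        simp only [Equiv.coe_mulRight, Subgroup.coe_mul]
        exact (rep_mul_apply ρ _ x v).symm
    have hneb : ((Nat.card Hb : ℕ) : k) ≠ 0 := fun h =>
      hchar ((ringChar.dvd h).trans (Subgroup.card_subgroup_dvd_card Hb))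
    -- `B a` is a multiple of the invariant vector `A a`
    have hBa : B a = (Nat.card H : k)⁻¹ • (Nat.card Hb : k) • A a := by
      have h1 : B (A a) = (Nat.card H : k) • B a := by
        rw [hA, map_sum, Finset.sum_congr rfl (fun h _ => ?_), Finset.sum_const, Finset.card_univ,
          Nat.card_eq_fintype_card, Nat.cast_smul_eq_nsmul]
        obtain ⟨x, hx, hxa⟩ := htr h
        rw [hxa, hBx x hx]
      have h2 : B (A a) = (Nat.card Hb : k) • A a := by
        rw [hB, Finset.sum_congr rfl (fun (x : Hb) _ => hgA (x : H) a), Finset.sum_const, Finset.card_univ,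
          Nat.card_eq_fintype_card, Nat.cast_smul_eq_nsmul]
      rw [← h2, h1, smul_smul, inv_mul_cancel₀ hne, one_smul]
    have hBb : B b = (Nat.card Hb : k) • b := by
      rw [hB, Finset.sum_congr rfl (fun (x : Hb) _ => mem_vecStab.1 x.2), Finset.sum_const, Finset.card_univ,
        Nat.card_eq_fintype_card, Nat.cast_smul_eq_nsmul]
    have hspanb : B b ∈ Submodule.span k ({A a} : Set V) := by
      have h3 : b ∈ Submodule.span k {u : V | ∃ h : H, ρ h a = u} := by rw [hspan]; trivial
      refine Submodule.span_induction (p := fun w _ => B w ∈ Submodule.span k ({A a} : Set V))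
        ?_ ?_ ?_ ?_ h3
      · rintro _ ⟨h, rfl⟩
        obtain ⟨x, hx, hxa⟩ := htr h
        rw [hxa, hBx x hx, hBa]
        exact Submodule.smul_mem _ _ (Submodule.smul_mem _ _ (Submodule.subset_span rfl))
      · rw [map_zero]; exact zero_mem _
      · intro x y _ _ hx hy
        rw [map_add]; exact add_mem hx hy
      · intro c x _ hx
        rw [map_smul]; exact Submodule.smul_mem _ c hx
    obtain ⟨c, hc⟩ := Submodule.mem_span_singleton.1 hspanb
    intro h
    have h1 : ρ h (B b) = B b := by rw [← hc, map_smul, hgA]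
    rw [hBb, map_smul] at h1
    exact smul_right_injective V hneb h1

end Cfsg.Agent.S4177
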