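import Cfsg.Statements.S4178
import Mathlib.GroupTheory.GroupAction.Quotient
import Mathlib.LinearAlgebra.Dimension.RankNullity
import Mathlib.FieldTheory.Finiteness
import Mathlib.Analysis.SpecialFunctions.Pow.Real

set_option linter.style.haveILetI false

set_option autoImplicit false
open Cfsg

namespace Cfsg.Agent.S4178


variable {F V : Type*} [Field F] [Fintype F] [AddCommGroup V] [Module F V] [FiniteDimensional F V]

/-- The subgroup generated by the elements fixing a non-zero vector. -/
abbrev fixGen (H : Subgroup (V ≃ₗ[F] V)) : Subgroup H :=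
  Subgroup.closure {h : ↥H | ∃ v : V, v ≠ 0 ∧ (h : V ≃ₗ[F] V) v = v}

/-- An orbit of non-zero vectors of a quotient space bounds the index. -/
theorem index_le_orbit (H : Subgroup (V ≃ₗ[F] V)) {Y : Type*} [Finite Y] (f : H → Y) (y₀ : Y)
    (hne : ∀ h, f h ≠ y₀) (hf : ∀ a b : H, f a = f b → a⁻¹ * b ∈ fixGen H) :
    (fixGen H).index ≤ Nat.card Y - 1 := by
  classical
  haveI : Finite V := Module.finite_of_finite F
  haveI : Finite (V ≃ₗ[F] V) := Finite.of_injective (fun e => (e : V → V)) DFunLike.coe_injective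
  haveI := Fintype.ofFinite Y
  rw [Subgroup.index_eq_card]
  let g : H ⧸ fixGen H → {y : Y // y ≠ y₀} := fun q => ⟨f q.out, hne _⟩
  refine (Nat.card_le_card_of_injective g fun q q' he => ?_).trans ?_
  · have := hf _ _ (congrArg Subtype.val he)
    rw [← QuotientGroup.eq] at this
    rwa [QuotientGroup.out_eq', QuotientGroup.out_eq'] at this
  · rw [Nat.card_eq_fintype_card, Fintype.card_subtype_compl, Fintype.card_subtype_eq,
      Nat.card_eq_fintype_card]

theorem index_le_submodule (H : Subgroup (V ≃ₗ[F] V)) (W : Submodule F V) (hW : W ≠ ⊥)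
    (hinv : ∀ h ∈ H, ∀ w ∈ W, h w ∈ W) :
    (fixGen H).index ≤ Fintype.card F ^ Module.finrank F W - 1 := by
  haveI : Finite V := Module.finite_of_finite F
  obtain ⟨w, hw, hw0⟩ := Submodule.exists_mem_ne_zero_of_ne_bot hW
  refine (index_le_orbit H (fun h => (⟨(h : V ≃ₗ[F] V) w, hinv h h.2 w hw⟩ : W)) 0 ?_ ?_).trans_eq ?_
  · intro h he
    exact hw0 ((LinearEquiv.map_eq_zero_iff _).mp (congrArg Subtype.val he))
  · intro a b he
    have he' : (a : V ≃ₗ[F] V) w = (b : V ≃ₗ[F] V) w := congrArg Subtype.val he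
    refine Subgroup.subset_closure ⟨w, hw0, ?_⟩
    simp only [Subgroup.coe_mul, Subgroup.coe_inv, LinearEquiv.mul_apply, ← he']
    exact (a : V ≃ₗ[F] V).symm_apply_apply w
  · rw [← Nat.card_eq_fintype_card (α := F)]
    congr 1
    exact Module.natCard_eq_pow_finrank

theorem index_le_quotient (H : Subgroup (V ≃ₗ[F] V)) (W : Submodule F V) (hW : W ≠ ⊤)
    (hinv : ∀ h ∈ H, ∀ w ∈ W, h w ∈ W) :
    (fixGen H).index ≤ Fintype.card F ^ Module.finrank F (V ⧸ W) - 1 := by
  haveI : Finite V := Module.finite_of_finite F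
  haveI : Finite (V ⧸ W) := Finite.of_surjective _ (Submodule.Quotient.mk_surjective W)
  obtain ⟨v, hv⟩ := SetLike.exists_not_mem_of_ne_top W hW
  refine (index_le_orbit H (fun h => (Submodule.Quotient.mk ((h : V ≃ₗ[F] V) v) : V ⧸ W)) 0 ?_ ?_).trans_eq ?_
  · intro h he
    rw [Submodule.Quotient.mk_eq_zero] at he
    have := hinv _ (H.inv_mem h.2) _ he
    exact hv (by simpa using this)
  · intro a b he
    rw [Submodule.Quotient.eq] at he
    set c := a⁻¹ * b with hc
    have hcv : v - (c : V ≃ₗ[F] V) v ∈ W := by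
      have h1 := hinv _ (H.inv_mem a.2) _ he
      rw [map_sub] at h1
      have h2 : ((a : V ≃ₗ[F] V))⁻¹ ((a : V ≃ₗ[F] V) v) = v := (a : V ≃ₗ[F] V).symm_apply_apply v
      rw [h2] at h1
      simpa [hc] using h1
    refine Subgroup.subset_closure ?_
    by_contra hno'
    have hno : ∀ u, u ≠ 0 → (c : V ≃ₗ[F] V) u ≠ u := fun u h1 h2 => hno' ⟨u, h1, h2⟩
    -- `v ↦ c v - v` would be a bijection of `V` preserving `W`
    let d : V →ₗ[F] V := (c : V ≃ₗ[F] V).toLinearMap - LinearMap.id
    have hd : Function.Injective d := by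
      rw [← LinearMap.ker_eq_bot, Submodule.eq_bot_iff]
      intro u hu
      by_contra hu0
      refine hno u hu0 ?_
      rw [LinearMap.mem_ker] at hu
      exact sub_eq_zero.mp hu
    have hdW : ∀ u ∈ W, d u ∈ W := fun u hu => W.sub_mem (hinv _ c.2 u hu) hu
    have hsurj : Function.Surjective (d.restrict hdW) :=
      LinearMap.injective_iff_surjective.mp fun x y h => Subtype.ext (hd (congrArg Subtype.val h))
    obtain ⟨u, hu⟩ := hsurj ⟨d v, by
      have : d v = -(v - (c : V ≃ₗ[F] V) v) := by simp [d]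
      rw [this]; exact W.neg_mem hcv⟩
    exact hv (hd (congrArg Subtype.val hu) ▸ u.2)
  · rw [← Nat.card_eq_fintype_card (α := F)]
    congr 1
    exact Module.natCard_eq_pow_finrank
/-- Let F be a finite field with q elements, V a non-zero finite-dimensional F-space of dimension d, H a group of invertible linear maps of V, and R the subgroup of H generated by the elements of H that fix some non-zero vector (have eigenvalue 1). Then the index of R in H is at most q^d − 1; and if H leaves invariant some proper non-zero subspace, the index is at most q^(d/2) − 1. -/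
theorem result {F V : Type*} [Field F] [Fintype F] [AddCommGroup V] [Module F V] [FiniteDimensional F V] [Nontrivial V]
    (H : Subgroup (V ≃ₗ[F] V)) :
    (Subgroup.closure {h : ↥H | ∃ v : V, v ≠ 0 ∧ (h : V ≃ₗ[F] V) v = v}).index ≤ Fintype.card F ^ Module.finrank F V - 1 ∧
    ((∃ W : Submodule F V, W ≠ ⊥ ∧ W ≠ ⊤ ∧ ∀ h ∈ H, ∀ w ∈ W, h w ∈ W) →
      ((Subgroup.closure {h : ↥H | ∃ v : V, v ≠ 0 ∧ (h : V ≃ₗ[F] V) v = v}).index : ℝ) ≤ Real.sqrt ((Fintype.card F : ℝ) ^ Module.finrank F V) - 1) := by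

  classical
  refine ⟨?_, ?_⟩
  · have := index_le_submodule H ⊤ top_ne_bot fun _ _ _ _ => Submodule.mem_top
    rwa [finrank_top] at this
  rintro ⟨W, hW0, hW1, hinv⟩
  set q := Fintype.card F
  set d := Module.finrank F V
  have hq : 1 < q := Fintype.one_lt_card
  have hbound : ∃ e, 2 * e ≤ d ∧ (fixGen H).index ≤ q ^ e - 1 := by
    by_cases hle : 2 * Module.finrank F W ≤ d
    · exact ⟨_, hle, index_le_submodule H W hW0 hinv⟩
    · refine ⟨_, ?_, index_le_quotient H W hW1 hinv⟩
      have := Submodule.finrank_quotient_add_finrank W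
      omega
  obtain ⟨e, he, hi⟩ := hbound
  have hpos : 1 ≤ q ^ e := Nat.one_le_pow _ _ (by omega)
  calc ((fixGen H).index : ℝ) ≤ ((q ^ e - 1 : ℕ) : ℝ) := by exact_mod_cast hi
    _ = (q : ℝ) ^ e - 1 := by rw [Nat.cast_sub hpos]; norm_num
    _ ≤ Real.sqrt ((q : ℝ) ^ d) - 1 := by
      refine sub_le_sub_right (Real.le_sqrt_of_sq_le ?_) 1
      rw [← pow_mul, mul_comm]
      exact pow_le_pow_right₀ (by exact_mod_cast hq.le) he

end Cfsg.Agent.S4178
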