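import Cfsg.Statements.S4182
import Mathlib.GroupTheory.Sylow
import Mathlib.Dynamics.PeriodicPts.Defs
import Mathlib.GroupTheory.PGroup

set_option linter.style.haveILetI false

set_option autoImplicit false
open Cfsg

namespace Cfsg.Agent.S4182


open Subgroup
open scoped Pointwise

variable {G : Type*} [Group G] [Finite G] {p : ℕ} [hp : Fact p.Prime]

/-- A `p`-group is not the union of at most `p` proper subgroups. -/
theorem pgroup_le_of_cover {S : Subgroup G} (hS : IsPGroup p S) (s : Finset (Subgroup G)) (hs : s.card ≤ p)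
    (hcov : ∀ x ∈ S, ∃ K ∈ s, x ∈ K) : ∃ K ∈ s, S ≤ K := by
  classical
  haveI := Fintype.ofFinite G
  by_contra! hno
  set F : Finset G := Finset.univ.filter fun x => x ∈ S ∧ x ≠ 1 with hF
  have hsub : F ⊆ s.biUnion fun K => Finset.univ.filter fun x => x ∈ K ⊓ S ∧ x ≠ 1 := by
    intro x hx
    rw [hF, Finset.mem_filter] at hx
    obtain ⟨K, hK, hxK⟩ := hcov x hx.2.1
    exact Finset.mem_biUnion.mpr ⟨K, hK, Finset.mem_filter.mpr ⟨Finset.mem_univ x, ⟨hxK, hx.2.1⟩, hx.2.2⟩⟩
  have hcard : ∀ T : Subgroup G, (Finset.univ.filter fun x => x ∈ T ∧ x ≠ 1).card + 1 = Nat.card T := by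
    intro T
    have h1 : (Finset.univ.filter fun x => x ∈ T ∧ x ≠ 1) = (Finset.univ.filter (· ∈ T)).erase 1 := by
      ext x; simp [and_comm]
    rw [h1, Finset.card_erase_add_one (by simp [one_mem]), Nat.card_eq_fintype_card,
      Fintype.card_subtype]
  obtain ⟨a, ha⟩ := IsPGroup.iff_card.mp hS
  have hle : ∀ K ∈ s, (Finset.univ.filter fun x => x ∈ K ⊓ S ∧ x ≠ 1).card + 1 ≤ p ^ (a - 1) ∧ 1 ≤ a := by
    intro K hK
    rw [hcard]
    obtain ⟨b, hb⟩ := IsPGroup.iff_card.mp (hS.to_le (inf_le_right : K ⊓ S ≤ S))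
    have hlt : Nat.card (K ⊓ S : Subgroup G) < Nat.card S :=
      lt_of_le_of_ne (card_le_of_le inf_le_right) fun he =>
        hno K hK (inf_eq_right.mp (eq_of_le_of_card_ge inf_le_right he.ge))
    rw [hb, ha] at hlt
    have hba : b < a := (Nat.pow_lt_pow_iff_right hp.out.one_lt).mp hlt
    rw [hb]
    exact ⟨Nat.pow_le_pow_right hp.out.pos (by omega), by omega⟩
  obtain ⟨K, hK, -⟩ := hcov 1 (one_mem _)
  have ha1 := (hle K hK).2
  have h2 := (Finset.card_le_card hsub).trans
    (Finset.card_biUnion_le_card_mul s _ (p ^ (a - 1) - 1) fun K hK => by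
      have := (hle K hK).1; omega)
  have h3 := hcard S
  rw [ha] at h3
  have h4 : p ^ a = p * p ^ (a - 1) := by rw [← pow_succ', Nat.sub_add_cancel ha1]
  have h5 : s.card * (p ^ (a - 1) - 1) ≤ p * (p ^ (a - 1) - 1) := Nat.mul_le_mul_right _ hs
  have h6 : p * (p ^ (a - 1) - 1) + p = p * p ^ (a - 1) := by
    rw [← Nat.mul_succ, Nat.succ_eq_add_one, Nat.sub_add_cancel (Nat.one_le_pow _ _ hp.out.pos)]
  have := hp.out.two_le
  rw [hF] at h2
  omega

/-- Being generated by elements of `p`-power order. -/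
def PGen (p : ℕ) (H : Subgroup G) : Prop := H ≤ closure {g : G | g ∈ H ∧ ∃ k : ℕ, g ^ p ^ k = 1}

omit [Finite G] hp in
theorem pgen_sup {H L : Subgroup G} (hH : PGen p H) (hL : PGen p L) : PGen p (H ⊔ L) :=
  sup_le (hH.trans (closure_mono fun _ h => ⟨mem_sup_left h.1, h.2⟩))
    (hL.trans (closure_mono fun _ h => ⟨mem_sup_right h.1, h.2⟩))

omit [Finite G] hp in
theorem pgen_of_pgroup {S : Subgroup G} (hS : IsPGroup p S) : PGen p S := fun x hx =>
  subset_closure ⟨hx, (hS ⟨x, hx⟩).imp fun _ h => congrArg Subtype.val h⟩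

omit [Finite G] hp in
theorem pgen_conj {T : Subgroup G} (hT : PGen p T) (x : G) : PGen p (MulAut.conj x • T) := by
  rintro _ ⟨t, ht, rfl⟩
  refine closure_induction (p := fun t _ => (MulAut.conj x • t) ∈ closure
    {g : G | g ∈ MulAut.conj x • T ∧ ∃ k : ℕ, g ^ p ^ k = 1}) ?_ ?_ ?_ ?_ (hT ht)
  · rintro u ⟨hu, k, hk⟩
    refine subset_closure ⟨smul_mem_pointwise_smul u _ T hu, k, ?_⟩
    rw [← smul_pow', hk, smul_one]
  · rw [smul_one]; exact one_mem _
  · intro a b _ _ ha hb; rw [smul_mul']; exact mul_mem ha hb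
  · intro a _ ha; rw [smul_inv']; exact inv_mem ha

theorem main (s : Finset (Subgroup G)) (hs : s.card ≤ p) : ∀ (N : ℕ) (H : Subgroup G), Nat.card H = N →
    PGen p H → (∀ g ∈ H, ∀ k : ℕ, g ^ p ^ k = 1 → ∃ K ∈ s, g ∈ K) → ∃ K ∈ s, H ≤ K := by
  classical
  intro N
  induction N using Nat.strong_induction_on with
  | _ N ih =>
  intro H hN hgen hcov
  by_contra! hno
  have hsmall : ∀ T : Subgroup G, T < H → PGen p T → ∃ K ∈ s, T ≤ K := fun T hT hTg =>
    ih _ (hN ▸ lt_of_le_of_ne (card_le_of_le hT.le) fun e => hT.ne (eq_of_le_of_card_ge hT.le e.ge)) T rfl hTg fun g hg => hcov g (hT.le hg)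
  -- the maximal ones
  let Mem : Subgroup G → Prop := fun T => Maximal (fun T => T < H ∧ PGen p T) T
  have hexMem : ∀ T, T < H → PGen p T → ∃ M, T ≤ M ∧ Mem M := fun T hT hTg => by
    obtain ⟨M, hTM, hM⟩ := Set.Finite.exists_le_maximal (s := {T | T < H ∧ PGen p T})
      (Set.toFinite _) ⟨hT, hTg⟩
    exact ⟨M, hTM, hM⟩
  haveI : Finite {T // Mem T} := inferInstance
  have hMcard : Nat.card {T // Mem T} ≤ p := by
    have hK : ∀ M : {T // Mem T}, ∃ K ∈ s, M.1 ≤ K := fun M => hsmall _ M.2.1.1 M.2.1.2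
    choose f hfs hf using hK
    refine le_trans ?_ hs
    rw [← Nat.card_eq_finsetCard]
    refine Nat.card_le_card_of_injective (fun M => (⟨f M, hfs M⟩ : {x // x ∈ s})) fun M M' he => ?_
    have he' : f M = f M' := congrArg Subtype.val he
    have hlt : M.1 ⊔ M'.1 < H := lt_of_le_of_ne (sup_le M.2.1.1.le M'.2.1.1.le) fun e =>
      hno (f M) (hfs M) (e ▸ sup_le (hf M) (he' ▸ hf M'))
    have h1 := le_antisymm (M.2.2 ⟨hlt, pgen_sup M.2.1.2 M'.2.1.2⟩ le_sup_left) le_sup_left
    have h2 := le_antisymm (M'.2.2 ⟨hlt, pgen_sup M.2.1.2 M'.2.1.2⟩ le_sup_right) le_sup_right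
    exact Subtype.ext (h1.symm.trans h2)
  -- every `p`-element of `H` normalizes every member
  have hnormal : ∀ x ∈ H, ∀ k : ℕ, x ^ p ^ k = 1 → ∀ M, Mem M → MulAut.conj x • M = M := by
    intro x hx k hk M hM
    have hxp : IsPGroup p (zpowers x) := IsPGroup.of_card_dvd_pow (n := k) (by
      rw [Nat.card_zpowers]; exact orderOf_dvd_of_pow_eq_one hk)
    obtain ⟨K₀, hK₀, hxK₀⟩ := hcov x hx k hk
    have hlt : zpowers x < H := lt_of_le_of_ne (zpowers_le.mpr hx) fun e =>
      hno K₀ hK₀ (e ▸ zpowers_le.mpr hxK₀)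
    obtain ⟨M₀, hxM₀, hM₀⟩ := hexMem _ hlt (pgen_of_pgroup hxp)
    by_contra hne
    have hHx : MulAut.conj x • H = H := conj_smul_eq_self_of_mem hx
    have hmem : ∀ M, Mem M → Mem (MulAut.conj x • M) := by
      intro M hM
      refine ⟨⟨?_, pgen_conj hM.1.2 x⟩, fun T hT hle => ?_⟩
      · rw [← hHx]
        exact lt_of_le_of_ne (pointwise_smul_le_pointwise_smul_iff.mpr hM.1.1.le)
          fun e => hM.1.1.ne (smul_left_cancel _ e)
      · have h1 : (MulAut.conj x)⁻¹ • T < H ∧ PGen p ((MulAut.conj x)⁻¹ • T) := by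
          rw [← map_inv]
          refine ⟨?_, pgen_conj hT.2 _⟩
          rw [← conj_smul_eq_self_of_mem (inv_mem hx) (H := H)]
          exact lt_of_le_of_ne (pointwise_smul_le_pointwise_smul_iff.mpr hT.1.le)
            fun e => hT.1.ne (smul_left_cancel _ e)
        have h2 := hM.2 h1 (pointwise_smul_subset_iff.mp hle)
        exact subset_pointwise_smul_iff.mpr h2
    set F : Subgroup G → Subgroup G := fun T => MulAut.conj x • T with hFdef
    have hiter : ∀ i, F^[i] M = MulAut.conj (x ^ i) • M := by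
      intro i
      induction i with
      | zero => simp
      | succ i ih => rw [Function.iterate_succ_apply', ih, hFdef]; simp [pow_succ', mul_smul, map_mul]
    have hiM : ∀ i, Mem (F^[i] M) := by
      intro i
      induction i with
      | zero => exact hM
      | succ i ih => rw [Function.iterate_succ_apply']; exact hmem _ ih
    have hper : Function.IsPeriodicPt F (p ^ k) M := by
      show F^[p ^ k] M = M
      rw [hiter, hk, map_one, one_smul]
    obtain ⟨j, -, hj⟩ := (Nat.dvd_prime_pow hp.out).mp hper.minimalPeriod_dvd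
    have hj1 : p ≤ Function.minimalPeriod F M := by
      rw [hj]
      refine Nat.le_self_pow (fun h0 => hne ?_) p
      rw [h0, pow_zero] at hj
      exact Function.minimalPeriod_eq_one_iff_isFixedPt.mp hj
    have hM₀fix : F M₀ = M₀ := conj_smul_eq_self_of_mem (hxM₀ (mem_zpowers x))
    have hne0 : ∀ i, i < Function.minimalPeriod F M → F^[i] M ≠ M₀ := by
      intro i hi he
      apply hne
      have h1 : F^[Function.minimalPeriod F M] M = M := Function.iterate_minimalPeriod
      have h2 : ∀ j, F^[j] M₀ = M₀ := fun j => Function.iterate_fixed hM₀fix j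
      rw [← Nat.sub_add_cancel hi.le, Function.iterate_add_apply, he, h2] at h1
      show F M = M
      rw [← h1, hM₀fix]
    let g : Option (Fin p) → {T // Mem T} := fun o =>
      o.elim ⟨M₀, hM₀⟩ fun i => ⟨F^[i.1] M, hiM i.1⟩
    have hg : Function.Injective g := by
      rintro (_ | i) (_ | i') he
      · rfl
      · exact absurd (congrArg Subtype.val he).symm (hne0 _ (i'.2.trans_le hj1))
      · exact absurd (congrArg Subtype.val he) (hne0 _ (i.2.trans_le hj1))
      · exact congrArg some (Fin.ext (Function.iterate_injOn_Iio_minimalPeriod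
          (i.2.trans_le hj1) (i'.2.trans_le hj1) (congrArg Subtype.val he)))
    have := Nat.card_le_card_of_injective g hg
    rw [Finite.card_option, Nat.card_fin] at this
    omega
  -- a Sylow subgroup of `H` lies in a member
  obtain ⟨S⟩ : Nonempty (Sylow p H) := inferInstance
  set S' := (S : Subgroup H).map H.subtype with hS'
  have hS'p : IsPGroup p S' := S.2.map _
  obtain ⟨K, hK, hS'K⟩ := pgroup_le_of_cover hS'p s hs fun x hx => by
    obtain ⟨i, hi⟩ := hS'p ⟨x, hx⟩
    exact hcov x (map_subtype_le _ hx) i (congrArg Subtype.val hi)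
  have hlt : S' < H := lt_of_le_of_ne (map_subtype_le _) fun e => hno K hK (e ▸ hS'K)
  obtain ⟨M, hS'M, hM⟩ := hexMem _ hlt (pgen_of_pgroup hS'p)
  -- it is normal in `H`
  have hMn : ∀ h ∈ H, MulAut.conj h • M = M := fun h hh => by
    refine closure_induction (p := fun h _ => MulAut.conj h • M = M) ?_ ?_ ?_ ?_ (hgen hh)
    · rintro u ⟨hu, k, hk⟩; exact hnormal u hu k hk M hM
    · rw [map_one, one_smul]
    · intro a b _ _ ha hb; rw [map_mul, mul_smul, hb, ha]
    · intro a _ ha; rw [map_inv, inv_smul_eq_iff, ha]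
  -- so it contains all the `p`-elements
  refine hM.1.1.not_ge (hgen.trans ((closure_le _).mpr ?_))
  rintro u ⟨hu, k, hk⟩
  obtain ⟨T, hT⟩ := (IsPGroup.of_card_dvd_pow (p := p) (n := k) (G := zpowers (⟨u, hu⟩ : H)) (by
    rw [Nat.card_zpowers]; exact orderOf_dvd_of_pow_eq_one (Subtype.ext hk))).exists_le_sylow
  obtain ⟨c, hc⟩ := MulAction.exists_smul_eq H S T
  have huT := hT (mem_zpowers _)
  rw [← hc, Sylow.coe_subgroup_smul] at huT
  obtain ⟨v, hv, hvu⟩ := huT
  have h1 : (c : G) * v * (c : G)⁻¹ ∈ MulAut.conj (c : G) • M :=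
    smul_mem_pointwise_smul _ _ M (hS'M ⟨v, hv, rfl⟩)
  rw [hMn c c.2] at h1
  have e : (c : G) * v * (c : G)⁻¹ = u := congrArg Subtype.val hvu
  rwa [e] at h1
/-- Let p be a prime and G a finite group generated by its p-elements. If a finite family of proper subgroups of G covers the set of p-elements of G (every element of p-power order lies in one of them), then the family has at least p + 1 members. -/
theorem result {G : Type*} [Group G] [Finite G] (p : ℕ) [Fact p.Prime] (hgen : Subgroup.closure {g : G | ∃ k : ℕ, orderOf g = p ^ k} = ⊤)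
    {ι : Type*} [Fintype ι] (K : ι → Subgroup G) (hK : ∀ i, K i ≠ ⊤)
    (hcov : ∀ g : G, (∃ k : ℕ, orderOf g = p ^ k) → ∃ i, g ∈ K i) :
    p + 1 ≤ Fintype.card ι := by

  classical
  by_contra! hlt
  obtain ⟨T, hT, hle⟩ := main (p := p) (Finset.univ.image K)
    (Finset.card_image_le.trans (by rw [Finset.card_univ]; omega)) (Nat.card (⊤ : Subgroup G)) ⊤ rfl
    (by
      unfold PGen
      refine le_trans hgen.ge (Subgroup.closure_mono ?_)
      rintro g ⟨k, hk⟩
      exact ⟨Subgroup.mem_top g, k, hk ▸ pow_orderOf_eq_one g⟩)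
    (fun g _ k hk => by
      obtain ⟨j, -, hj⟩ := (Nat.dvd_prime_pow Fact.out).mp (orderOf_dvd_of_pow_eq_one hk)
      obtain ⟨i, hi⟩ := hcov g ⟨j, hj⟩
      exact ⟨K i, Finset.mem_image_of_mem K (Finset.mem_univ i), hi⟩)
  obtain ⟨i, -, rfl⟩ := Finset.mem_image.mp hT
  exact hK i (top_le_iff.mp hle)

end Cfsg.Agent.S4182
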