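import Cfsg.Statements.S4184
import Cfsg.Agent.Lib.PGroup.Elements

set_option autoImplicit false
open Cfsg

namespace Cfsg.Agent.S4184

/-!
Elementary proof of Chen's lemma: every nontrivial class size of `M` is divisible by the full part
of `#M` for one side of the prime graph partition, never for both. If `G_r > M_r` with `r` on the
side `Q`, a central element `w` of a Sylow `a`-subgroup (`a` on the other side) has an `r`-group in
its centralizer, and comparing the types of the elements commuting there gives a contradiction.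
-/

variable {G M : Type*} [Group G] [Finite G] [Group M] [Finite M]

/-- The class size of an element. -/
noncomputable def cs {X : Type*} [Group X] (x : X) : ℕ := (Subgroup.centralizer ({x} : Set X)).index

theorem mem_cent {X : Type*} [Group X] {x y : X} :
    y ∈ Subgroup.centralizer ({x} : Set X) ↔ x * y = y * x := by
  simp [Subgroup.mem_centralizer_iff]

theorem cs_mul_card (x : G) :
    Nat.card (Subgroup.centralizer ({x} : Set G)) * cs x = Nat.card G :=
  Subgroup.card_mul_index _

theorem cs_ne_zero (x : G) : cs x ≠ 0 := Subgroup.index_ne_zero_of_finite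

theorem fac_cs (x : G) (r : ℕ) :
    (Nat.card G).factorization r =
      (Nat.card (Subgroup.centralizer ({x} : Set G))).factorization r + (cs x).factorization r := by
  rw [← cs_mul_card x, Nat.factorization_mul Nat.card_pos.ne' (cs_ne_zero x), Finsupp.add_apply]

theorem fac_mono {a b r : ℕ} (hb : b ≠ 0) (h : a ∣ b) : a.factorization r ≤ b.factorization r := by
  rcases eq_or_ne a 0 with rfl | ha
  · simp
  · exact (Nat.factorization_le_iff_dvd ha hb).mpr h r

/-- A product of commuting elements of coprime order centralizes only what both centralize. -/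
theorem cs_dvd_cs_mul {x y : G} (hc : Commute x y) (ho : (orderOf x).Coprime (orderOf y)) :
    cs x ∣ cs (x * y) ∧ cs y ∣ cs (x * y) := by
  have key : ∀ a b : G, Commute a b → (orderOf a).Coprime (orderOf b) → ∀ g : G,
      Commute (a * b) g → Commute a g := by
    intro a b hab hco g hg
    obtain ⟨k, hk⟩ : ∃ k : ℕ, a = (a * b) ^ k := by
      obtain ⟨k, hk1, hk2⟩ := Nat.chineseRemainder hco 1 0
      refine ⟨k, ?_⟩
      rw [hab.mul_pow, pow_eq_pow_iff_modEq.mpr hk1, pow_eq_pow_iff_modEq.mpr hk2]
      simp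
    rw [hk]
    exact hg.pow_left k
  constructor
  · refine Subgroup.index_dvd_of_le fun g hg => mem_cent.mpr ?_
    exact key x y hc ho g (mem_cent.mp hg)
  · refine Subgroup.index_dvd_of_le fun g hg => mem_cent.mpr ?_
    exact key y x hc.symm ho.symm g (by rw [← hc.eq]; exact mem_cent.mp hg)

/-- `n` is divisible by the full part of `N` for the primes in `P`. -/
def FullPart (P : Set ℕ) (N n : ℕ) : Prop :=
  ∀ q ∈ P, q.Prime → N.factorization q ≤ n.factorization q

theorem FullPart.of_dvd {P : Set ℕ} {N n n' : ℕ} (h : FullPart P N n) (hd : n ∣ n') (hn : n' ≠ 0) :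
    FullPart P N n' := fun q hq hqp => (h q hq hqp).trans (fac_mono hn hd)

theorem fac_card_cent_eq_zero (A : Set ℕ)
    (hdisc : ∀ a ∈ A, ∀ b ∉ A, a.Prime → b.Prime → a ∣ Nat.card M → b ∣ Nat.card M →
      ¬ ∃ x : M, orderOf x = a * b)
    {x : M} (hx : x ≠ 1) :
    (∀ q ∈ A, q.Prime → (Nat.card (Subgroup.centralizer ({x} : Set M))).factorization q = 0) ∨
    (∀ q ∈ Aᶜ, q.Prime → (Nat.card (Subgroup.centralizer ({x} : Set M))).factorization q = 0) := by
  obtain ⟨c, hc, hcd⟩ := Nat.exists_prime_and_dvd (mt orderOf_eq_one_iff.mp hx)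
  set y := x ^ (orderOf x / c) with hy
  have hyo : orderOf y = c := orderOf_pow_orderOf_div (orderOf_pos x).ne' hcd
  have hcM : c ∣ Nat.card M := hcd.trans (orderOf_dvd_natCard x)
  have main : ∀ q : ℕ, q.Prime → ¬ (q ∈ A ↔ c ∈ A) →
      (Nat.card (Subgroup.centralizer ({x} : Set M))).factorization q = 0 := by
    intro q hq hne
    by_contra h0
    have hd := Nat.dvd_of_factorization_pos h0
    haveI := Fact.mk hq
    obtain ⟨v, hv⟩ := exists_prime_orderOf_dvd_card' q hd
    have hxv : Commute x (v : M) := mem_cent.mp v.2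
    have hvo : orderOf (v : M) = q := by rw [Subgroup.orderOf_coe, hv]
    have hqM : q ∣ Nat.card M := hd.trans (Subgroup.card_subgroup_dvd_card _)
    have hqc : q ≠ c := by rintro rfl; exact hne Iff.rfl
    have ho : orderOf (y * v) = c * q := by
      have hyv : Commute y (v : M) := hxv.pow_left _
      rw [hyv.orderOf_mul_eq_mul_orderOf_of_coprime, hyo, hvo]
      rw [hyo, hvo]
      exact (Nat.coprime_primes hc hq).mpr (Ne.symm hqc)
    by_cases hcA : c ∈ A
    · exact hdisc c hcA q (fun h => hne (iff_of_true h hcA)) hc hq hcM hqM ⟨_, ho⟩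
    · exact hdisc q (by by_contra h; exact hne (iff_of_false h hcA)) c hcA hq hc hqM hcM
        ⟨y * v, by rw [ho, mul_comm]⟩
  by_cases hcA : c ∈ A
  · exact Or.inr fun q hq hqp => main q hqp fun h => hq (h.mpr hcA)
  · exact Or.inl fun q hq hqp => main q hqp fun h => hcA (h.mp hq)

/-- If the centre is trivial, every prime divisor of the order divides some class size. -/
theorem exists_cs_dvd {X : Type*} [Group X] [Finite X] (hZ : Subgroup.center X = ⊥) {q : ℕ}
    [hq : Fact q.Prime] (hd : q ∣ Nat.card X) : ∃ g : X, 0 < (cs g).factorization q := by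
  by_contra! hall
  obtain ⟨Q⟩ : Nonempty (Sylow q X) := inferInstance
  have hQ : Subgroup.centralizer ((Q : Subgroup X) : Set X) = ⊤ := by
    refine Cfsg.Lib.PGroup.eq_top_of_forall_exists_conj_mem fun g => ?_
    obtain ⟨S⟩ : Nonempty (Sylow q (Subgroup.centralizer ({g} : Set X))) := inferInstance
    set S' := (S : Subgroup _).map (Subgroup.centralizer ({g} : Set X)).subtype with hS'
    have hS'p : IsPGroup q S' := IsPGroup.map S.isPGroup' _
    obtain ⟨R, hR⟩ := hS'p.exists_le_sylow
    have hcard : Nat.card S' = Nat.card (R : Subgroup X) := by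
      rw [R.card_eq_multiplicity, Subgroup.card_map_of_injective Subtype.val_injective,
        S.card_eq_multiplicity, fac_cs g q, Nat.le_zero.mp (hall g), add_zero]
    have hRe : S' = (R : Subgroup X) := Subgroup.eq_of_le_of_card_ge hR hcard.ge
    obtain ⟨c, hc⟩ := MulAction.exists_smul_eq X R Q
    refine ⟨c, Subgroup.mem_centralizer_iff.mpr fun v hv => ?_⟩
    obtain ⟨w, hw, rfl⟩ : ∃ w ∈ (R : Subgroup X), c * w * c⁻¹ = v := by
      rw [← hc] at hv
      change v ∈ (↑(c • R) : Subgroup X) at hv
      rw [Sylow.coe_subgroup_smul, Subgroup.mem_smul_pointwise_iff_exists] at hv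
      obtain ⟨w, hw, rfl⟩ := hv
      exact ⟨w, hw, by simp [MulAut.smul_def]⟩
    obtain ⟨u, -, rfl⟩ := hRe ▸ hw
    have hu : g * (u : X) = (u : X) * g := mem_cent.mp u.2
    simp only [Subgroup.coe_subtype]
    calc c * (u : X) * c⁻¹ * (c * g * c⁻¹) = c * ((u : X) * g) * c⁻¹ := by group
      _ = c * (g * (u : X)) * c⁻¹ := by rw [hu]
      _ = c * g * c⁻¹ * (c * (u : X) * c⁻¹) := by group
  have hle : (Q : Subgroup X) ≤ Subgroup.center X := fun v hv =>
    Subgroup.mem_center_iff.mpr fun y => ((Subgroup.mem_centralizer_iff.mp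
      (hQ ▸ Subgroup.mem_top y)) v hv).symm
  rw [hZ, le_bot_iff] at hle
  exact Q.ne_bot_of_dvd_card hd hle

/-- The properties of the common set of class sizes that the proof uses. -/
theorem card_part_eq (hZG : Subgroup.center G = ⊥) (hZM : Subgroup.center M = ⊥)
    (hset : Set.range (fun g : G => cs g) = Set.range (fun g : M => cs g))
    (A : Set ℕ) (hdisc : ∀ a ∈ A, ∀ b ∉ A, a.Prime → b.Prime → a ∣ Nat.card M → b ∣ Nat.card M →
      ¬ ∃ x : M, orderOf x = a * b)
    {a : ℕ} (ha : a ∈ A) (hap : a.Prime) (had : a ∣ Nat.card M) {r : ℕ} (hr : r ∉ A)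
    (hrp : r.Prime) : (Nat.card G).factorization r = (Nat.card M).factorization r := by
  classical
  haveI := Fact.mk hap
  haveI := Fact.mk hrp
  set N := Nat.card M with hN
  have hone : ∀ g : G, cs g = 1 → g = 1 := by
    intro g hg
    have h : g ∈ Subgroup.center G := by
      rw [Subgroup.mem_center_iff]
      intro y
      have := Subgroup.index_eq_one.mp hg
      exact (mem_cent.mp (this ▸ Subgroup.mem_top y)).symm
    rwa [hZG, Subgroup.mem_bot] at h
  have honeM : cs (1 : M) = 1 := Subgroup.index_eq_one.mpr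
    (eq_top_iff.mpr fun y _ => mem_cent.mpr (by simp))
  have hG2M : ∀ g : G, ∃ y : M, cs y = cs g := fun g => hset.le ⟨g, rfl⟩
  have hM2G : ∀ x : M, ∃ g : G, cs g = cs x := fun x => hset.ge ⟨x, rfl⟩
  have hle : ∀ (g : G) (q : ℕ), (cs g).factorization q ≤ N.factorization q := by
    intro g q
    obtain ⟨y, hy⟩ := hG2M g
    rw [← hy]
    exact fac_mono Nat.card_pos.ne' (Subgroup.index_dvd_card _)
  have htype : ∀ g : G, g ≠ 1 → FullPart A N (cs g) ∨ FullPart Aᶜ N (cs g) := by
    intro g hg
    obtain ⟨y, hy⟩ := hG2M g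
    have hy1 : y ≠ 1 := by
      rintro rfl
      exact hg (hone g (hy.symm.trans honeM))
    rw [← hy]
    rcases fac_card_cent_eq_zero A hdisc hy1 with h | h
    · refine Or.inl fun q hq hqp => ?_
      rw [hN, fac_cs y, h q hq hqp, zero_add]
    · refine Or.inr fun q hq hqp => ?_
      rw [hN, fac_cs y, h q hq hqp, zero_add]
  have hnot : ∀ g : G, FullPart A N (cs g) → FullPart Aᶜ N (cs g) → False := by
    intro g hA hB
    obtain ⟨y, hy⟩ := hG2M g
    rw [← hy] at hA hB
    have hd : N ∣ cs y := by
      rw [← Nat.factorization_le_iff_dvd Nat.card_pos.ne' (cs_ne_zero y)]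
      intro q
      by_cases hq : q.Prime
      · by_cases hqA : q ∈ A
        exacts [hA q hqA hq, hB q hqA hq]
      · simp [Nat.factorization_eq_zero_of_not_prime _ hq]
    have hC : Nat.card (Subgroup.centralizer ({y} : Set M)) = 1 := by
      have h1 := cs_mul_card y
      have h2 := Nat.le_of_dvd (Nat.pos_of_ne_zero (cs_ne_zero y)) hd
      have h3 : 0 < cs y := Nat.pos_of_ne_zero (cs_ne_zero y)
      have h4 : 0 < Nat.card (Subgroup.centralizer ({y} : Set M)) := Nat.card_pos
      nlinarith
    have hy1 : y = 1 := by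
      have := Subgroup.card_eq_one.mp hC ▸ (mem_cent.mpr rfl :
        y ∈ Subgroup.centralizer ({y} : Set M))
      simpa using this
    subst hy1
    have hN1 : N = 1 := Nat.dvd_one.mp (honeM ▸ hd)
    exact hap.one_lt.ne' (Nat.dvd_one.mp (hN1 ▸ had))
  -- an element of order `a` in `M` shows that class sizes reach the full `r`-part
  have hMG : ∀ q : ℕ, q.Prime → q ∉ A → N.factorization q ≤ (Nat.card G).factorization q := by
    intro q hq hqA
    obtain ⟨x, hx⟩ := exists_prime_orderOf_dvd_card' a had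
    have hx1 : x ≠ 1 := by rintro rfl; exact hap.ne_one (by simpa using hx.symm)
    obtain ⟨g, hg⟩ := hM2G x
    have hCa : (Nat.card (Subgroup.centralizer ({x} : Set M))).factorization a ≠ 0 := by
      refine (hap.factorization_pos_of_dvd Nat.card_pos.ne' ?_).ne'
      rw [← hx]
      exact (Subgroup.orderOf_coe (⟨x, mem_cent.mpr rfl⟩ :
        Subgroup.centralizer ({x} : Set M))) ▸ orderOf_dvd_natCard _
    have h0 := (fac_card_cent_eq_zero A hdisc hx1).resolve_left (fun h => hCa (h a ha hap)) q hqA hq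
    rw [hN, fac_cs x q, h0, zero_add, ← hg]
    exact fac_mono Nat.card_pos.ne' (Subgroup.index_dvd_card _)
  by_contra hne
  have hgt : N.factorization r < (Nat.card G).factorization r :=
    lt_of_le_of_ne (hMG r hrp hr) (Ne.symm hne)
  -- `a` divides `#G`
  have haG : a ∣ Nat.card G := by
    obtain ⟨z, hz⟩ := exists_prime_orderOf_dvd_card' (G := G) r (Nat.dvd_of_factorization_pos
      (by omega))
    have hz1 : z ≠ 1 := by rintro rfl; exact hrp.ne_one (by simpa using hz.symm)
    by_contra hnd
    obtain ⟨x, hx⟩ := exists_cs_dvd hZM (q := a) had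
    obtain ⟨g, hg⟩ := hM2G x
    rw [← hg] at hx
    exact hnd ((Nat.dvd_of_factorization_pos hx.ne').trans (Subgroup.index_dvd_card _))
  -- central elements of Sylow subgroups
  have central : ∀ (q : ℕ) [Fact q.Prime] (R : Sylow q G), q ∣ Nat.card G →
      ∃ z ∈ (R : Subgroup G), z ≠ 1 ∧ (∀ x ∈ (R : Subgroup G), Commute z x) ∧
        (∃ k, orderOf z = q ^ k) ∧ (cs z).factorization q = 0 := by
    intro q _ R hq
    haveI : Nontrivial (R : Subgroup G) :=
      (Subgroup.nontrivial_iff_ne_bot _).mpr (R.ne_bot_of_dvd_card hq)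
    haveI := R.isPGroup'.center_nontrivial
    obtain ⟨⟨z, hz⟩, hz1⟩ := exists_ne (1 : Subgroup.center (R : Subgroup G))
    have hc : ∀ x ∈ (R : Subgroup G), Commute (z : G) x := fun x hx =>
      (congrArg Subtype.val (Subgroup.mem_center_iff.mp hz ⟨x, hx⟩)).symm
    refine ⟨z, z.2, fun h => hz1 (Subtype.ext (Subtype.ext h)), hc, ?_, ?_⟩
    · obtain ⟨k, hk⟩ := IsPGroup.iff_orderOf.mp R.isPGroup' z
      exact ⟨k, by rw [Subgroup.orderOf_coe, hk]⟩
    · refine Nat.factorization_eq_zero_of_not_dvd fun hd => R.not_dvd_index (hd.trans ?_)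
      exact Subgroup.index_dvd_of_le fun x hx => mem_cent.mpr (hc x hx)
  have hra : r ≠ a := by rintro rfl; exact hr ha
  -- `w` central in a Sylow `a`-subgroup
  obtain ⟨S⟩ : Nonempty (Sylow a G) := inferInstance
  obtain ⟨w, -, hw1, -, ⟨kw, hwo⟩, hwa⟩ := central a S haG
  have hwB : FullPart Aᶜ N (cs w) := (htype w hw1).resolve_left fun h => by
    have := h a ha hap
    have h0 : 0 < N.factorization a := hap.factorization_pos_of_dvd Nat.card_pos.ne' had
    omega
  have hwr : (cs w).factorization r = N.factorization r :=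
    le_antisymm (hle w r) (hwB r hr hrp)
  -- `U` a Sylow `r`-subgroup of the centralizer of `w`
  obtain ⟨U₀⟩ : Nonempty (Sylow r (Subgroup.centralizer ({w} : Set G))) := inferInstance
  set U := (U₀ : Subgroup _).map (Subgroup.centralizer ({w} : Set G)).subtype with hU
  have hUp : IsPGroup r U := IsPGroup.map U₀.isPGroup' _
  have hUc : Nat.card U = r ^ ((Nat.card G).factorization r - N.factorization r) := by
    rw [hU, Subgroup.card_map_of_injective Subtype.val_injective, U₀.card_eq_multiplicity]
    congr 1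
    have := fac_cs w r
    omega
  have hUw : ∀ x ∈ U, Commute w x := by
    rintro x ⟨x', -, rfl⟩
    exact mem_cent.mp x'.2
  haveI : Nontrivial U := Finite.one_lt_card_iff_nontrivial.mp
    (hUc ▸ Nat.one_lt_pow (by omega) hrp.one_lt)
  haveI := hUp.center_nontrivial
  obtain ⟨⟨u, hu⟩, hu1⟩ := exists_ne (1 : Subgroup.center U)
  have huU : ∀ x ∈ U, Commute (u : G) x := fun x hx =>
    (congrArg Subtype.val (Subgroup.mem_center_iff.mp hu ⟨x, hx⟩)).symm
  have hu1' : (u : G) ≠ 1 := fun h => hu1 (Subtype.ext (Subtype.ext h))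
  have hco : ∀ {x : G}, (∃ k, orderOf x = r ^ k) → (orderOf w).Coprime (orderOf x) := by
    rintro x ⟨k, hk⟩
    rw [hk, hwo]
    exact Nat.Coprime.pow _ _ ((Nat.coprime_primes hap hrp).mpr (Ne.symm hra))
  have huo : ∃ k, orderOf (u : G) = r ^ k := by
    obtain ⟨k, hk⟩ := IsPGroup.iff_orderOf.mp hUp u
    exact ⟨k, by rw [Subgroup.orderOf_coe, hk]⟩
  obtain ⟨hd1, hd2⟩ := cs_dvd_cs_mul (hUw u u.2) (hco huo)
  have huB : FullPart Aᶜ N (cs (u : G)) := (htype _ hu1').resolve_left fun h =>
    hnot _ (h.of_dvd hd2 (cs_ne_zero _)) (hwB.of_dvd hd1 (cs_ne_zero _))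
  have hur : (cs (u : G)).factorization r = N.factorization r :=
    le_antisymm (hle _ r) (huB r hr hrp)
  -- a central element of a Sylow `r`-subgroup containing `U`
  obtain ⟨R, hR⟩ := hUp.exists_le_sylow
  obtain ⟨z, hzR, hz1, hzc, hzo, hzr⟩ := central r R (Nat.dvd_of_factorization_pos (by omega))
  have hzU : z ∈ U := by
    set V := (R : Subgroup G) ⊓ Subgroup.centralizer ({(u : G)} : Set G) with hV
    have hUV : U ≤ V := le_inf hR fun x hx => mem_cent.mpr (huU x hx)
    have hzV : z ∈ V := ⟨hzR, mem_cent.mpr (hzc _ (hR u.2)).symm⟩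
    have hVp : IsPGroup r V := R.isPGroup'.to_le inf_le_left
    obtain ⟨k, hk⟩ := IsPGroup.iff_card.mp hVp
    have hVd : k ≤ (Nat.card G).factorization r - N.factorization r := by
      have h1 : r ^ k ∣ Nat.card (Subgroup.centralizer ({(u : G)} : Set G)) :=
        hk ▸ Subgroup.card_dvd_of_le inf_le_right
      have h2 := (hrp.pow_dvd_iff_le_factorization Nat.card_pos.ne').mp h1
      have := fac_cs (u : G) r
      omega
    have : U = V := Subgroup.eq_of_le_of_card_ge hUV (by
      rw [hk, hUc]; exact Nat.pow_le_pow_right hrp.pos hVd)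
    rwa [this]
  obtain ⟨hd3, hd4⟩ := cs_dvd_cs_mul (hUw z hzU) (hco hzo)
  rcases htype z hz1 with h | h
  · exact hnot _ (h.of_dvd hd4 (cs_ne_zero _)) (hwB.of_dvd hd3 (cs_ne_zero _))
  · have := h r hr hrp
    have hrM : 0 < N.factorization r := by
      by_contra h0
      obtain ⟨g, hg⟩ := exists_cs_dvd hZG (q := r) (Nat.dvd_of_factorization_pos (by omega))
      have := hle g r
      omega
    omega

end Cfsg.Agent.S4184


namespace Cfsg.Agent.S4184

/-- Let G and M be finite groups with trivial centres and the same set of conjugacy class sizes, and suppose the prime graph of M is disconnected: the prime divisors of #M split into two non-empty parts such that M has no element of order pq with p in one part and q in the other. Then #G = #M. -/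
theorem result {G M : Type*}
    [Group G] [Finite G] [Group M] [Finite M] (hZG : Subgroup.center G = ⊥) (hZM : Subgroup.center M = ⊥)
    (h : Set.range (fun g : G => (Subgroup.centralizer ({g} : Set G)).index) = Set.range (fun g : M => (Subgroup.centralizer ({g} : Set M)).index))
    (hdisc : ∃ A : Set ℕ, (∃ a ∈ A, a.Prime ∧ a ∣ Nat.card M) ∧ (∃ b ∉ A, b.Prime ∧ b ∣ Nat.card M) ∧
      ∀ a ∈ A, ∀ b ∉ A, a.Prime → b.Prime → a ∣ Nat.card M → b ∣ Nat.card M → ¬ ∃ x : M, orderOf x = a * b) :
    Nat.card G = Nat.card M := by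
  obtain ⟨A, ⟨a, ha, hap, had⟩, ⟨b, hb, hbp, hbd⟩, hA⟩ := hdisc
  have hset : Set.range (fun g : G => cs g) = Set.range (fun g : M => cs g) := h
  refine Nat.eq_of_factorization_eq Nat.card_pos.ne' Nat.card_pos.ne' fun q => ?_
  by_cases hq : q.Prime
  · by_cases hqA : q ∈ A
    · refine card_part_eq hZG hZM hset Aᶜ ?_ (a := b) hb hbp hbd (r := q) (fun h => h hqA) hq
      intro a' ha' b' hb' hp1 hp2 hd1 hd2 ⟨x, hx⟩
      exact hA b' (by simpa using hb') a' ha' hp2 hp1 hd2 hd1 ⟨x, by rw [hx, mul_comm]⟩
    · exact card_part_eq hZG hZM hset A hA ha hap had hqA hq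
  · simp [Nat.factorization_eq_zero_of_not_prime _ hq]

end Cfsg.Agent.S4184
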