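import Cfsg.Statements.S4186

set_option autoImplicit false
open Cfsg

namespace Cfsg.Agent.S4186

/-- Let T and X be subgroups of a group with T a finite 2-group normalizing X but not centralizing it. Then some element of T inverts some non-identity element of X under conjugation. -/
theorem result {G : Type*} [Group G] (T X : Subgroup G) [Finite ↥T] (hT : IsPGroup 2 ↥T) (hTN : T ≤ Subgroup.normalizer (X : Set G)) (hTC : ¬ T ≤ Subgroup.centralizer (X : Set G)) : ∃ t ∈ T, ∃ x ∈ X, x ≠ 1 ∧ t * x * t⁻¹ = x⁻¹ := by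
  classical
  obtain ⟨t, htT, htC⟩ : ∃ t ∈ T, t ∉ Subgroup.centralizer (X : Set G) := by
    by_contra hcon
    exact hTC fun t ht => by_contra fun h => hcon ⟨t, ht, h⟩
  obtain ⟨k, hk⟩ := hT ⟨t, htT⟩
  have hk' : t ^ 2 ^ k = 1 := congrArg Subtype.val hk
  have hex : ∃ j, t ^ 2 ^ j ∈ Subgroup.centralizer (X : Set G) := ⟨k, hk' ▸ one_mem _⟩
  have hj0 : Nat.find hex ≠ 0 := fun h => htC (by simpa [h] using Nat.find_spec hex)
  obtain ⟨j, hj⟩ := Nat.exists_eq_succ_of_ne_zero hj0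
  set s := t ^ 2 ^ j with hs
  have hsT : s ∈ T := pow_mem htT _
  have hsC : s ∉ Subgroup.centralizer (X : Set G) := Nat.find_min hex (by omega)
  have hs2 : s * s ∈ Subgroup.centralizer (X : Set G) := by
    rw [hs, ← pow_add, ← two_mul, ← pow_succ', ← Nat.succ_eq_add_one, ← hj]
    exact Nat.find_spec hex
  obtain ⟨x, hx, hxs⟩ : ∃ x ∈ X, x * s ≠ s * x := by
    by_contra hcon
    exact hsC (Subgroup.mem_centralizer_iff.2 fun x hx => by_contra fun h => hcon ⟨x, hx, h⟩)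
  have hconj : s * x * s⁻¹ ∈ X := (Subgroup.mem_normalizer_iff.1 (hTN hsT) x).1 hx
  refine ⟨s, hsT, x⁻¹ * (s * x * s⁻¹), X.mul_mem (X.inv_mem hx) hconj, fun h => hxs ?_, ?_⟩
  · rw [inv_mul_eq_one] at h
    calc x * s = s * x * s⁻¹ * s := by rw [← h]
      _ = s * x := by group
  · have h2 : x * (s * s) = s * s * x := Subgroup.mem_centralizer_iff.1 hs2 x hx
    calc s * (x⁻¹ * (s * x * s⁻¹)) * s⁻¹ = s * x⁻¹ * s⁻¹ * ((s * s * x) * (s * s)⁻¹) := by group
      _ = s * x⁻¹ * s⁻¹ * x := by rw [← h2]; group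
      _ = (x⁻¹ * (s * x * s⁻¹))⁻¹ := by group

end Cfsg.Agent.S4186
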