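import Cfsg.Statements.S4187
import Cfsg.Agent.Lib.RealClass.Reduce

set_option autoImplicit false
open Cfsg

namespace Cfsg.Agent.S4187

/-- Let G be a finite group. Call an element real when it is conjugate to its inverse, and consider the graph whose vertices are the primes dividing the size of some conjugacy class of real elements, two distinct primes being adjacent when their product divides such a class size. If this graph is disconnected — its vertex set splits into two non-empty parts such that no real class size is divisible by a prime from each part — then G is solvable. -/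
theorem result {G : Type*} [Group G] [Finite G] (π₁ π₂ : Set ℕ) (h₁ : π₁.Nonempty) (h₂ : π₂.Nonempty) (hcover : ∀ q : ℕ, q.Prime → (∃ n ∈ {n : ℕ | ∃ x : G, IsConj x x⁻¹ ∧ (Subgroup.centralizer ({x} : Set G)).index = n}, q ∣ n) → q ∈ π₁ ∨ q ∈ π₂) (hsub : ∀ q ∈ π₁ ∪ π₂, q.Prime ∧ ∃ n ∈ {n : ℕ | ∃ x : G, IsConj x x⁻¹ ∧ (Subgroup.centralizer ({x} : Set G)).index = n}, q ∣ n) (hdisj : Disjoint π₁ π₂) (hnoedge : ∀ a ∈ π₁, ∀ b ∈ π₂, ∀ n ∈ {n : ℕ | ∃ x : G, IsConj x x⁻¹ ∧ (Subgroup.centralizer ({x} : Set G)).index = n}, ¬ (a ∣ n ∧ b ∣ n)) : Group.IsSolvable G := by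
  classical
  have hside : ∀ x : G, IsConj x x⁻¹ →
      ∀ p q : ℕ, p.Prime → q.Prime → p ∣ Cfsg.Lib.RealClass.ncl x → q ∣ Cfsg.Lib.RealClass.ncl x →
        p ∈ π₁ → q ∉ π₁ → False := by
    intro x hx p q hp hq hpd hqd hp1 hq1
    have hn : Cfsg.Lib.RealClass.ncl x ∈
        {n : ℕ | ∃ x : G, IsConj x x⁻¹ ∧ (Subgroup.centralizer ({x} : Set G)).index = n} := ⟨x, hx, rfl⟩
    exact hnoedge p hp1 q ((hcover q hq ⟨_, hn, hqd⟩).resolve_left hq1) _ hn ⟨hpd, hqd⟩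
  have hsep₁ : Cfsg.Lib.RealClass.Sep π₁ G := fun x hx => by
    by_contra h
    push Not at h
    obtain ⟨⟨q, hq, hqd, hq1⟩, ⟨p, hp, hpd, hp1⟩⟩ := h
    exact hside x hx p q hp hq hpd hqd hp1 hq1
  have hex : ∀ σ : Set ℕ, σ.Nonempty → σ ⊆ π₁ ∪ π₂ →
      ∃ x : G, IsConj x x⁻¹ ∧ ∃ p : ℕ, p.Prime ∧ p ∈ σ ∧ p ∣ Cfsg.Lib.RealClass.ncl x := by
    rintro σ ⟨q, hq⟩ hσ
    obtain ⟨hqp, n, ⟨x, hx, rfl⟩, hqd⟩ := hsub q (hσ hq)
    exact ⟨x, hx, q, hqp, hq, hqd⟩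
  by_cases h2 : 2 ∈ π₁
  · refine Cfsg.Lib.RealClass.isSolvable_of_sep (π := π₂) (Set.disjoint_left.mp hdisj h2) (fun x hx => ?_)
      (hex π₂ h₂ Set.subset_union_right)
    rcases hsep₁ x hx with h | h
    · exact Or.inr fun p hp hpd hp2 => Set.disjoint_left.mp hdisj (h p hp hpd) hp2
    · exact Or.inl fun p hp hpd => (hcover p hp ⟨_, ⟨x, hx, rfl⟩, hpd⟩).resolve_left (h p hp hpd)
  · exact Cfsg.Lib.RealClass.isSolvable_of_sep h2 hsep₁ (hex π₁ h₁ Set.subset_union_left)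

end Cfsg.Agent.S4187
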