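import Cfsg.Statements.S4188
import Cfsg.Agent.Lib.PGroup.Basic
import Cfsg.Agent.Lib.PGroup.NormalSq
import Cfsg.Agent.Lib.CyclicNormalAbelian

set_option linter.style.haveILetI false

set_option autoImplicit false
open Cfsg

namespace Cfsg.Agent.S4188

open Subgroup
open scoped commutatorElement

universe u

/-- The shape of the bound on `[P : Φ(P)]` in terms of the order of the module. -/
def Bd (a f : ℕ) : Prop := (a = 1 ∧ f = 1) ∨ (a = 3 ∧ f ≤ 2) ∨ (5 ≤ a ∧ 2 * f ≤ a)

lemma bd_mul {a b f g h : ℕ} (hf : Bd a f) (hg : Bd b g) (hh : h ≤ f * g) (h1 : 1 ≤ h) : Bd (a * b) h := by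
  rcases hf with ⟨ha, hf⟩ | ⟨ha, hf⟩ | ⟨ha, hf⟩
  · subst ha hf
    rw [one_mul] at hh ⊢
    rcases hg with ⟨hb, hg⟩ | ⟨hb, hg⟩ | ⟨hb, hg⟩
    · exact Or.inl ⟨hb, by omega⟩
    · exact Or.inr (Or.inl ⟨hb, by omega⟩)
    · exact Or.inr (Or.inr ⟨hb, by omega⟩)
  · rcases hg with ⟨hb, hg⟩ | ⟨hb, hg⟩ | ⟨hb, hg⟩
    · subst hb hg
      exact Or.inr (Or.inl ⟨by omega, by omega⟩)
    · subst ha hb
      exact Or.inr (Or.inr ⟨by norm_num, by nlinarith⟩)
    · subst ha
      exact Or.inr (Or.inr ⟨by omega, by nlinarith⟩)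
  · rcases hg with ⟨hb, hg⟩ | ⟨hb, hg⟩ | ⟨hb, hg⟩
    · subst hb hg
      exact Or.inr (Or.inr ⟨by omega, by omega⟩)
    · subst hb
      exact Or.inr (Or.inr ⟨by omega, by nlinarith⟩)
    · exact Or.inr (Or.inr ⟨by nlinarith, by nlinarith⟩)

section groups

variable {P Q : Type*} [Group P] [Finite P] [Group Q] [Finite Q]

lemma frattini_index_le_mul (hP : IsPGroup 2 P) (φ : P →* Q) :
    (frattini P).index ≤ (frattini φ.range).index * (frattini φ.ker).index := by
  set ψ := φ.rangeRestrict with hψ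
  have hsurj : Function.Surjective ψ := φ.rangeRestrict_surjective
  have hmap : frattini φ.range ≤ (frattini P).map ψ := by
    refine Cfsg.Lib.PGroup.frattini_le_of_commutator_le_of_pow_mem (p := 2) ?_ ?_
    · have h1 := Subgroup.map_mono (f := ψ) (Cfsg.Lib.PGroup.commutator_le_frattini hP)
      rw [_root_.commutator_def, Subgroup.map_commutator, map_top_of_surjective ψ hsurj, ← _root_.commutator_def] at h1
      exact h1
    · intro y
      obtain ⟨x, rfl⟩ := hsurj y
      exact ⟨x ^ 2, Cfsg.Lib.PGroup.pow_mem_frattini hP x, map_pow _ _ _⟩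
  have h2 : (frattini P ⊔ φ.ker).index ≤ (frattini φ.range).index := by
    have h3 := index_antitone hmap
    rwa [index_map, hψ, MonoidHom.ker_rangeRestrict, MonoidHom.range_eq_top.2 hsurj, index_top, mul_one] at h3
  have h4 : (frattini P).relIndex (frattini P ⊔ φ.ker) ≤ (frattini φ.ker).index := by
    rw [relIndex_sup_left]
    have h5 : (frattini φ.ker).map φ.ker.subtype ≤ frattini P :=
      Cfsg.Lib.PGroup.map_frattini_le (p := 2) (hP.to_subgroup _) hP _
    refine Nat.le_of_dvd (Nat.pos_of_ne_zero index_ne_zero_of_finite) ?_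
    exact index_dvd_of_le fun x hx => (h5 (mem_map_of_mem _ hx) : φ.ker.subtype x ∈ frattini P)
  rw [← relIndex_mul_index (show frattini P ≤ frattini P ⊔ φ.ker from le_sup_left), mul_comm]
  exact Nat.mul_le_mul h2 h4

lemma frattini_index_le_two_mul (hP : IsPGroup 2 P) (M : Subgroup P) :
    (frattini P).index ≤ (frattini M).index * M.index := by
  rw [← index_map_subtype]
  exact index_antitone (Cfsg.Lib.PGroup.map_frattini_le (p := 2) (hP.to_subgroup _) hP _)

lemma frattini_index_le_two_of_cyclic (hP : IsPGroup 2 P) [IsCyclic P] : (frattini P).index ≤ 2 := by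
  obtain ⟨g, hg⟩ := IsCyclic.exists_generator (α := P)
  refine le_trans (index_antitone (zpowers_le.2 (Cfsg.Lib.PGroup.pow_mem_frattini (p := 2) hP g))) ?_
  have htop : zpowers g = (⊤ : Subgroup P) := eq_top_iff.2 fun x _ => hg x
  have h1 := (zpowers (g ^ 2)).card_mul_index
  rw [Nat.card_zpowers, orderOf_pow] at h1
  have h2 : orderOf g = Nat.card P := by rw [← Nat.card_zpowers, htop, card_top]
  rw [← h2] at h1
  have h3 : Nat.gcd (orderOf g) 2 ∣ 2 := Nat.gcd_dvd_right _ _
  have h4 : 0 < orderOf g / Nat.gcd (orderOf g) 2 := by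
    refine Nat.div_pos (Nat.le_of_dvd (orderOf_pos g) (Nat.gcd_dvd_left _ _)) ?_
    exact Nat.gcd_pos_of_pos_right _ two_pos
  have h5 : orderOf g ≤ orderOf g / Nat.gcd (orderOf g) 2 * 2 := by
    conv_lhs => rw [← Nat.div_mul_cancel (Nat.gcd_dvd_left (orderOf g) 2)]
    exact Nat.mul_le_mul_left _ (Nat.le_of_dvd two_pos h3)
  exact Nat.le_of_mul_le_mul_left (h1.le.trans h5) h4

lemma frattini_index_le_four (hP : IsPGroup 2 P) (hnc : ¬ IsMulCommutative P) (h8 : Nat.card P ≤ 8) :
    (frattini P).index ≤ 4 := by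
  have hne : frattini P ≠ ⊥ := by
    intro h
    apply hnc
    refine ⟨⟨fun x y => ?_⟩⟩
    have h2 : ⁅x, y⁆ ∈ commutator P := by
      rw [_root_.commutator_def]; exact commutator_mem_commutator (mem_top x) (mem_top y)
    exact commutatorElement_eq_one_iff_mul_comm.1 (mem_bot.1 (h ▸ Cfsg.Lib.PGroup.commutator_le_frattini (p := 2) hP h2))
  have h1 : 2 ≤ Nat.card (frattini P) := by
    haveI := (nontrivial_iff_ne_bot _).2 hne
    exact Finite.one_lt_card
  have h2 := (frattini P).card_mul_index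
  nlinarith

end groups

section action

variable {N : Type u} [CommGroup N] [Finite N] {P : Type u} [Group P]

lemma sq_inj (hN : Odd (Nat.card N)) : Function.Bijective fun n : N => n ^ 2 :=
  (powCoprime (Nat.coprime_two_right.2 hN)).bijective

/-- Restriction of an action to an invariant subgroup. -/
def restr (φ : P →* MulAut N) (W : Subgroup N) (hW : ∀ g, ∀ w ∈ W, φ g w ∈ W) : P →* MulAut W where
  toFun g :=
    { toFun := fun w => ⟨φ g w, hW g w w.2⟩
      invFun := fun w => ⟨φ g⁻¹ w, hW g⁻¹ w w.2⟩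
      left_inv := fun w => Subtype.ext (by simp)
      right_inv := fun w => Subtype.ext (by simp)
      map_mul' := fun x y => Subtype.ext (map_mul _ _ _) }
  map_one' := MulEquiv.ext fun w => Subtype.ext (by simp)
  map_mul' g h := MulEquiv.ext fun w => Subtype.ext (by simp)

lemma restr_apply (φ : P →* MulAut N) (W : Subgroup N) (hW : ∀ g, ∀ w ∈ W, φ g w ∈ W) (g : P) (w : W) :
    ((restr φ W hW g w : W) : N) = φ g w := rfl

lemma apply_eq_of_mem_ker {φ : P →* MulAut N} {W : Subgroup N} {hW : ∀ g, ∀ w ∈ W, φ g w ∈ W} {g : P}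
    (hg : g ∈ (restr φ W hW).ker) {w : N} (hw : w ∈ W) : φ g w = w := by
  have := congrArg (fun e : MulAut W => ((e ⟨w, hw⟩ : W) : N)) (MonoidHom.mem_ker.1 hg)
  exact this

/-- The action induced on the quotient by an invariant subgroup. -/
def quot (φ : P →* MulAut N) (W : Subgroup N) (hW : ∀ g, ∀ w ∈ W, φ g w ∈ W) : P →* MulAut (N ⧸ W) where
  toFun g := QuotientGroup.congr W W (φ g) (le_antisymm (map_le_iff_le_comap.2 fun w hw => hW g w hw)
    fun w hw => ⟨φ g⁻¹ w, hW g⁻¹ w hw, by simp⟩)
  map_one' := MulEquiv.ext fun x => by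
    induction x using QuotientGroup.induction_on with | _ x => simp
  map_mul' g h := MulEquiv.ext fun x => by
    induction x using QuotientGroup.induction_on with | _ x => simp

lemma bd_reducible [Finite P] (hP : IsPGroup 2 P) (hN : Odd (Nat.card N)) (φ : P →* MulAut N) (hφ : Function.Injective φ)
    (W : Subgroup N) (hW : ∀ g, ∀ w ∈ W, φ g w ∈ W) (hWb : W ≠ ⊥) (hWt : W ≠ ⊤)
    (ih : ∀ {M : Type u} [CommGroup M] [Finite M] {Q : Type u} [Group Q] [Finite Q], Nat.card M < Nat.card N →
      IsPGroup 2 Q → Odd (Nat.card M) → ∀ ψ : Q →* MulAut M, Function.Injective ψ → Bd (Nat.card M) (frattini Q).index) :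
    Bd (Nat.card N) (frattini P).index := by
  set r := restr φ W hW
  set q := (quot φ W hW).comp r.ker.subtype with hq
  have hc : Nat.card N = Nat.card W * Nat.card (N ⧸ W) := by rw [← index_eq_card, W.card_mul_index]
  have hqinj : Function.Injective q := by
    rw [injective_iff_map_eq_one]
    intro k hk
    apply Subtype.ext
    apply hφ
    rw [OneMemClass.coe_one, map_one]
    refine MulEquiv.ext fun n => ?_
    have h1 : ((φ k n : N) : N ⧸ W) = (n : N ⧸ W) := by
      have := congrArg (fun e : MulAut (N ⧸ W) => e (n : N ⧸ W)) hk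
      simpa [hq, quot] using this
    obtain ⟨w, hw, hkn⟩ : ∃ w ∈ W, φ k n = n * w :=
      ⟨n⁻¹ * φ k n, (QuotientGroup.eq.1 h1.symm), by group⟩
    have hj : ∀ j : ℕ, φ ((k : P) ^ j) n = n * w ^ j := by
      intro j
      induction j with
      | zero => simp
      | succ j ihj =>
        have hwk : φ ((k : P) ^ j) w = w := apply_eq_of_mem_ker (pow_mem k.2 j) hw
        rw [pow_succ, map_mul, MulAut.mul_apply, hkn, map_mul, ihj, hwk, mul_assoc, ← pow_succ]
    obtain ⟨i, hi⟩ := hP (k : P)
    have h2 := hj (2 ^ i)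
    rw [hi, map_one, MulAut.one_apply, left_eq_mul] at h2
    have h3 : w = 1 := by
      have hco : (Nat.card N).Coprime (2 ^ i) := (Nat.coprime_two_right.2 hN).pow_right i
      exact (powCoprime hco).injective (by simpa using h2)
    simp [hkn, h3]
  have hW1 : 1 < Nat.card W := by
    haveI := (nontrivial_iff_ne_bot _).2 hWb
    exact Finite.one_lt_card
  have hW2 : 1 < Nat.card (N ⧸ W) := by
    rw [← index_eq_card]
    exact one_lt_index_of_ne_top hWt
  rw [hc] at hN ⊢
  refine bd_mul (ih ?_ (hP.of_surjective _ r.rangeRestrict_surjective) (Nat.odd_mul.1 hN).1 r.range.subtype r.range.subtype_injective)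
    (ih ?_ (hP.to_subgroup r.ker) (Nat.odd_mul.1 hN).2 q hqinj) (frattini_index_le_mul hP r)
    (Nat.one_le_iff_ne_zero.2 index_ne_zero_of_finite)
  · rw [hc]; exact lt_mul_right (by omega) hW2
  · rw [hc]; exact lt_mul_left (by omega) hW1

lemma bd_irreducible [Finite P] (hP : IsPGroup 2 P) (hN : Odd (Nat.card N)) (φ : P →* MulAut N) (hφ : Function.Injective φ)
    (hirr : ∀ W : Subgroup N, (∀ g, ∀ w ∈ W, φ g w ∈ W) → W = ⊥ ∨ W = ⊤)
    (ih : ∀ {M : Type u} [CommGroup M] [Finite M] {Q : Type u} [Group Q] [Finite Q], Nat.card M < Nat.card N →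
      IsPGroup 2 Q → Odd (Nat.card M) → ∀ ψ : Q →* MulAut M, Function.Injective ψ → Bd (Nat.card M) (frattini Q).index) :
    Bd (Nat.card N) (frattini P).index := by
  classical
  haveI : Fact (Nat.Prime 2) := ⟨Nat.prime_two⟩
  rcases subsingleton_or_nontrivial P with hPs | hPnt
  · have h1 : (frattini P).index = 1 := index_eq_one.2 (Subsingleton.elim _ _)
    obtain ⟨c, hc⟩ := hN
    rw [h1, hc]
    unfold Bd; omega
  -- the action of a central involution is inversion
  have hinv : ∀ c : P, c ∈ center P → orderOf c = 2 → ∀ n : N, φ c n = n⁻¹ := by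
    intro c hc ho
    have hc2 : ∀ n, φ c (φ c n) = n := fun n => by
      rw [← MulAut.mul_apply, ← map_mul, ← sq, ← ho, pow_orderOf_eq_one, map_one, MulAut.one_apply]
    rcases hirr (MonoidHom.eqLocus (φ c).toMonoidHom (MonoidHom.id N)) (fun g w hw => by
      show φ c (φ g w) = φ g w
      rw [← MulAut.mul_apply, ← map_mul, ← Subgroup.mem_center_iff.1 hc g, map_mul, MulAut.mul_apply,
        show φ c w = w from hw]) with h | h
    · intro n
      have h1 : n * φ c n ∈ MonoidHom.eqLocus (φ c).toMonoidHom (MonoidHom.id N) := by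
        show φ c (n * φ c n) = n * φ c n
        rw [map_mul, hc2, mul_comm]
      rw [h, mem_bot] at h1
      exact eq_inv_of_mul_eq_one_right h1
    · exfalso
      have h1 : c = 1 := hφ (by
        rw [map_one]
        exact MulEquiv.ext fun n => (h ▸ mem_top n : n ∈ MonoidHom.eqLocus (φ c).toMonoidHom (MonoidHom.id N)))
      rw [h1, orderOf_one] at ho
      omega
  obtain ⟨z, -, hzc, hzo⟩ := Cfsg.Lib.PGroup.exists_mem_center_orderOf_eq hP (N := (⊤ : Subgroup P)) top_ne_bot
  have hzu : ∀ c : P, c ∈ center P → orderOf c = 2 → c = z := fun c hc ho =>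
    hφ (MulEquiv.ext fun n => by rw [hinv c hc ho, hinv z hzc hzo])
  by_cases hcyc : ∀ A : Subgroup P, A.Normal → IsMulCommutative A → IsCyclic A
  · -- every abelian normal subgroup is cyclic
    have hN3 : 3 ≤ Nat.card N := by
      by_contra h
      obtain ⟨c, hc⟩ := hN
      haveI : Subsingleton N := (Nat.card_eq_one_iff_unique.1 (by omega : Nat.card N = 1)).1
      exact not_subsingleton P ⟨fun a b => hφ (MulEquiv.ext fun n => Subsingleton.elim _ _)⟩
    by_cases hPc : IsCyclic P
    · have h2 := frattini_index_le_two_of_cyclic hP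
      obtain ⟨c, hc⟩ := hN
      unfold Bd; omega
    · obtain ⟨-, a, M, -, hai, -⟩ := Cfsg.Lib.CyclicNormalAbelian.two_group_data 2 hP hcyc hPc
      have h4 : (frattini P).index ≤ 4 := by
        have h5 := frattini_index_le_two_mul hP (zpowers a)
        rw [hai] at h5
        haveI : IsCyclic (zpowers a) := inferInstance
        have := frattini_index_le_two_of_cyclic (hP.to_subgroup (zpowers a))
        omega
      by_cases h7 : 7 < Nat.card N
      · unfold Bd; omega
      -- a group of prime order has commutative automorphism group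
      exfalso
      haveI : IsCyclic N := by
        obtain ⟨c, hc⟩ := hN
        haveI : Fact (Nat.card N).Prime := ⟨by
          rcases (by omega : Nat.card N = 3 ∨ Nat.card N = 5 ∨ Nat.card N = 7) with h | h | h <;> rw [h] <;> norm_num⟩
        exact isCyclic_of_prime_card rfl
      obtain ⟨n₀, hn₀⟩ := IsCyclic.exists_generator (α := N)
      have hcomm : ∀ g h : P, g * h = h * g := by
        intro g h
        obtain ⟨i, hi⟩ := hn₀ (φ g n₀)
        obtain ⟨j, hj⟩ := hn₀ (φ h n₀)
        apply hφ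
        refine MulEquiv.ext fun n => ?_
        obtain ⟨l, rfl⟩ := hn₀ n
        simp only [map_mul, MulAut.mul_apply, map_zpow, ← hi, ← hj]
        simp only [map_zpow, ← hi, ← hj, ← zpow_mul, mul_comm, mul_left_comm, mul_assoc]
      haveI : IsMulCommutative (⊤ : Subgroup P) := ⟨⟨fun a b => Subtype.ext (hcomm a b)⟩⟩
      haveI := hcyc ⊤ inferInstance inferInstance
      exact hPc (isCyclic_of_surjective (⊤ : Subgroup P).subtype fun x => ⟨⟨x, mem_top x⟩, rfl⟩)
  push Not at hcyc
  obtain ⟨A, hAn, hAc, hA⟩ := hcyc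
  obtain ⟨E, hEn, ⟨hEc, hE2⟩, hE4⟩ := Cfsg.Lib.PGroup.NormalSq.exists_of_noncyclic hP A hA
  have hEne : E ≠ ⊥ := by rintro rfl; rw [card_bot] at hE4; norm_num at hE4
  obtain ⟨c, hcE, hcc, hco⟩ := Cfsg.Lib.PGroup.exists_mem_center_orderOf_eq hP hEne
  have hzE : z ∈ E := hzu c hcc hco ▸ hcE
  obtain ⟨e, heE, he1⟩ : ∃ e ∈ E, e ∉ zpowers z := by
    by_contra h
    push Not at h
    have := card_le_of_le (fun x hx => h x hx : E ≤ zpowers z)
    rw [hE4, Nat.card_zpowers, hzo] at this
    norm_num at this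
  have he1' : e ≠ 1 := fun h => he1 (h ▸ one_mem _)
  have hez : e ≠ z := fun h => he1 (h ▸ mem_zpowers z)
  have hee : e * e = 1 := by rw [← sq]; exact hE2 e heE
  have heo : orderOf e = 2 := orderOf_eq_prime (hE2 e heE) he1'
  -- the conjugates of `e`
  have hconj : ∀ g : P, g * e * g⁻¹ = e ∨ g * e * g⁻¹ = e * z := by
    intro g
    have h1 : g * e * g⁻¹ ∈ E := hEn.conj_mem e heE g
    have h2 : g * e * g⁻¹ ≠ 1 := fun h => he1' (conj_eq_one_iff.1 h)
    have h3 : g * e * g⁻¹ ≠ z := fun h => hez (by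
      have := congrArg (fun x => g⁻¹ * x * g) h
      simp only [mul_assoc, inv_mul_cancel, mul_one, inv_mul_cancel_left] at this
      rw [this, ← Subgroup.mem_center_iff.1 hzc g, inv_mul_cancel_left])
    haveI : Fintype E := Fintype.ofFinite _
    by_contra h
    push Not at h
    let S : Finset E := {1, ⟨z, hzE⟩, ⟨e, heE⟩, ⟨e * z, mul_mem heE hzE⟩, ⟨g * e * g⁻¹, h1⟩}
    have hS : S.card = 5 := by
      have hz1 : z ≠ 1 := fun h => by rw [h, orderOf_one] at hzo; omega
      have hez1 : e * z ≠ 1 := fun h => hez (by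
        have := congrArg (fun x => e * x) h
        simpa [← mul_assoc, hee] using this.symm)
      have hezz : e * z ≠ z := fun h => he1' (by simpa using h)
      have heze : e * z ≠ e := fun h => hz1 (by simpa using h)
      simp [S, Subtype.ext_iff, Ne.symm hz1, Ne.symm he1', Ne.symm hez1, Ne.symm h2, Ne.symm hez, Ne.symm hezz,
        Ne.symm h3, Ne.symm heze, Ne.symm h.1, Ne.symm h.2]
    have := S.card_le_univ
    rw [hS, ← Nat.card_eq_fintype_card, hE4] at this
    norm_num at this
  set M : Subgroup P := centralizer ({e} : Set P) with hM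
  have hMmem : ∀ g : P, g ∈ M ↔ g * e * g⁻¹ = e := fun g => by
    rw [hM, mem_centralizer_singleton_iff, mul_inv_eq_iff_eq_mul]
  obtain ⟨x, hx⟩ : ∃ x : P, x ∉ M := by
    by_contra h
    push Not at h
    exact hez (hzu e (Subgroup.mem_center_iff.2 fun g => mul_inv_eq_iff_eq_mul.1 ((hMmem g).1 (h g))) heo)
  have hxe : x * e * x⁻¹ = e * z := (hconj x).resolve_left fun h => hx ((hMmem x).2 h)
  have hM2 : M.index = 2 := by
    refine index_eq_two_iff.2 ⟨x, fun b => ?_⟩
    have hzb : b * z * b⁻¹ = z := by rw [Subgroup.mem_center_iff.1 hzc b, mul_inv_cancel_right]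
    have h1 : b * x * e * (b * x)⁻¹ = (b * e * b⁻¹) * (b * z * b⁻¹) := by
      rw [show b * x * e * (b * x)⁻¹ = b * (x * e * x⁻¹) * b⁻¹ by group, hxe]; group
    rw [hzb] at h1
    rcases hconj b with h | h
    · refine Or.inr ⟨(hMmem b).2 h, fun hbx => ?_⟩
      rw [hMmem, h1, h] at hbx
      have : z = 1 := by simpa using hbx
      rw [this, orderOf_one] at hzo
      omega
    · refine Or.inl ⟨(hMmem _).2 ?_, fun hb => ?_⟩
      · rw [h1, h, mul_assoc, ← sq, ← hzo, pow_orderOf_eq_one, mul_one]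
      · rw [hMmem, h] at hb
        have : z = 1 := by simpa using hb
        rw [this, orderOf_one] at hzo
        omega
  -- the two eigenspaces of `e`
  let W₁ : Subgroup N := MonoidHom.eqLocus (φ e).toMonoidHom (MonoidHom.id N)
  let W₂ : Subgroup N := MonoidHom.eqLocus (φ e).toMonoidHom invMonoidHom
  have hW₁ : ∀ n, n ∈ W₁ ↔ φ e n = n := fun n => Iff.rfl
  have hW₂ : ∀ n, n ∈ W₂ ↔ φ e n = n⁻¹ := fun n => Iff.rfl
  have he2 : ∀ n, φ e (φ e n) = n := fun n => by rw [← MulAut.mul_apply, ← map_mul, hee, map_one, MulAut.one_apply]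
  have hsw : ∀ g : P, g * e * g⁻¹ = e * z → ∀ n, φ e (φ g n) = (φ g (φ e n))⁻¹ := by
    intro g hg n
    have h1 : g * e = e * z * g := mul_inv_eq_iff_eq_mul.1 hg
    calc φ e (φ g n) = (φ e (φ z (φ g n)))⁻¹ := by rw [hinv z hzc hzo, map_inv, inv_inv]
      _ = (φ (e * z * g) n)⁻¹ := by simp only [map_mul, MulAut.mul_apply]
      _ = (φ g (φ e n))⁻¹ := by rw [← h1, map_mul, MulAut.mul_apply]
  have hb : Function.Bijective fun p : W₁ × W₂ => (p.1 : N) * p.2 := by
    constructor
    · rintro ⟨a, b⟩ ⟨a', b'⟩ h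
      simp only at h
      have h' := congrArg (φ e) h
      simp only [map_mul, (hW₁ _).1 a.2, (hW₁ _).1 a'.2, (hW₂ _).1 b.2, (hW₂ _).1 b'.2] at h'
      have h'' : (a : N) ^ 2 = (a' : N) ^ 2 := by
        calc (a : N) ^ 2 = (a * b) * (a * (b : N)⁻¹) := by rw [sq, mul_mul_mul_comm, mul_inv_cancel, mul_one]
          _ = (a' * b') * (a' * (b' : N)⁻¹) := by rw [h, h']
          _ = (a' : N) ^ 2 := by rw [sq, mul_mul_mul_comm, mul_inv_cancel, mul_one]
      have ha := (sq_inj hN).1 h''
      rw [ha] at h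
      exact Prod.ext (Subtype.ext ha) (Subtype.ext (mul_left_cancel h))
    · intro n
      obtain ⟨u, hu⟩ := (sq_inj hN).2 n
      simp only at hu
      refine ⟨⟨⟨u * φ e u, (hW₁ _).2 ?_⟩, ⟨u / φ e u, (hW₂ _).2 ?_⟩⟩, ?_⟩
      · rw [map_mul, he2, mul_comm]
      · rw [map_div, he2, inv_div]
      · show u * φ e u * (u / φ e u) = n
        rw [← hu, sq, div_eq_mul_inv, mul_mul_mul_comm, mul_inv_cancel, mul_one]
  have hcard : Nat.card N = Nat.card W₁ * Nat.card W₂ := by rw [← Nat.card_prod, Nat.card_eq_of_bijective _ hb]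
  have hcard12 : Nat.card W₁ = Nat.card W₂ := by
    refine Nat.card_congr ((φ x).toEquiv.subtypeEquiv fun n => ?_)
    show φ e n = n ↔ φ e (φ x n) = (φ x n)⁻¹
    rw [hsw x hxe, inv_inj, (φ x).injective.eq_iff]
  have hinv₁ : ∀ g : M, ∀ w ∈ W₁, (φ.comp M.subtype) g w ∈ W₁ := by
    intro g w hw
    rw [hW₁] at hw ⊢
    have h1 : (g : P) * e = e * g := mul_inv_eq_iff_eq_mul.1 ((hMmem g).1 g.2)
    show φ e (φ g w) = φ g w
    rw [← MulAut.mul_apply, ← map_mul, ← h1, map_mul, MulAut.mul_apply, hw]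
  have hinv₂ : ∀ g : M, ∀ w ∈ W₂, (φ.comp M.subtype) g w ∈ W₂ := by
    intro g w hw
    rw [hW₂] at hw ⊢
    have h1 : (g : P) * e = e * g := mul_inv_eq_iff_eq_mul.1 ((hMmem g).1 g.2)
    show φ e (φ g w) = (φ g w)⁻¹
    rw [← MulAut.mul_apply, ← map_mul, ← h1, map_mul, MulAut.mul_apply, hw, map_inv]
  set r := restr (φ.comp M.subtype) W₁ hinv₁
  set s := (restr (φ.comp M.subtype) W₂ hinv₂).comp r.ker.subtype
  have hs : Function.Injective s := by
    rw [injective_iff_map_eq_one]
    intro k hk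
    apply Subtype.ext
    apply Subtype.ext
    apply hφ
    simp only [OneMemClass.coe_one, map_one]
    refine MulEquiv.ext fun n => ?_
    obtain ⟨⟨a, b⟩, rfl⟩ := hb.2 n
    have h2 : φ ((k : M) : P) b = b := apply_eq_of_mem_ker (hW := hinv₂) (MonoidHom.mem_ker.2 hk) b.2
    have h1 : φ ((k : M) : P) a = a := apply_eq_of_mem_ker k.2 a.2
    simp only [map_mul, h1, h2, MulAut.one_apply]
  have hodd : Odd (Nat.card W₁) := (Nat.odd_mul.1 (hcard ▸ hN)).1
  set b := Nat.card W₁ with hbdef
  rw [← hcard12] at hcard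
  have hb1 : 1 < b := by
    have : 1 < Nat.card N := by
      haveI : Nontrivial N := by
        by_contra h
        rw [not_nontrivial_iff_subsingleton] at h
        exact not_subsingleton P ⟨fun a b => hφ (MulEquiv.ext fun n => Subsingleton.elim _ _)⟩
      exact Finite.one_lt_card
    rw [hcard] at this
    by_contra h
    interval_cases b <;> omega
  have hlt : b < Nat.card N := by rw [hcard]; exact lt_mul_right (by omega) hb1
  have hMP : IsPGroup 2 M := hP.to_subgroup M
  have hr : Bd b (frattini r.range).index :=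
    ih hlt (hMP.of_surjective _ r.rangeRestrict_surjective) hodd r.range.subtype r.range.subtype_injective
  have hk : Bd b (frattini r.ker).index := by
    rw [hcard12] at hlt hodd ⊢
    exact ih hlt (hMP.to_subgroup r.ker) hodd s hs
  have hfP : (frattini P).index ≤ (frattini r.range).index * (frattini r.ker).index * 2 := by
    have h1 := frattini_index_le_two_mul hP M
    rw [hM2] at h1
    have h2 := frattini_index_le_mul hMP r
    omega
  rw [hcard]
  obtain ⟨j, hj⟩ := hodd
  by_cases hb5 : 5 ≤ b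
  · refine Or.inr (Or.inr ⟨by nlinarith, ?_⟩)
    have h1 : 2 * (frattini r.range).index ≤ b := by unfold Bd at hr; omega
    have h2 : 2 * (frattini r.ker).index ≤ b := by unfold Bd at hk; omega
    nlinarith
  · have hb3 : b = 3 := by omega
    have hb3' : Nat.card W₂ = 3 := hcard12 ▸ hb3
    -- groups of automorphisms of a group of order three
    have haut : ∀ (W : Subgroup N), Nat.card W = 3 → Nat.card (MulAut W) ≤ 2 := by
      intro W hW
      haveI : Fact (Nat.card W).Prime := ⟨by rw [hW]; exact Nat.prime_three⟩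
      haveI : IsCyclic W := isCyclic_of_prime_card rfl
      rw [IsCyclic.card_mulAut, hW]
      decide
    have h1 : Nat.card r.range ≤ 2 :=
      (card_le_card_group _).trans (haut W₁ hb3)
    have h2 : Nat.card r.ker ≤ 2 := (Nat.card_le_card_of_injective s hs).trans (haut W₂ hb3')
    have h8 : Nat.card P ≤ 8 := by
      rw [← M.card_mul_index, hM2]
      have h3 := r.ker.card_mul_index
      rw [index_ker] at h3
      nlinarith
    have hnc : ¬ IsMulCommutative P := fun h => hx ((hMmem x).2 (by rw [h.is_comm.comm x e, mul_inv_cancel_right]))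
    have := frattini_index_le_four hP hnc h8
    refine Or.inr (Or.inr ⟨by rw [hb3]; norm_num, by rw [hb3]; omega⟩)

end action

lemma bd_main : ∀ (n : ℕ) {N : Type u} [CommGroup N] [Finite N] {P : Type u} [Group P] [Finite P],
    Nat.card N = n → IsPGroup 2 P → Odd (Nat.card N) → ∀ φ : P →* MulAut N, Function.Injective φ →
    Bd (Nat.card N) (frattini P).index := by
  intro n
  induction n using Nat.strong_induction_on with
  | _ n IH =>
    intro N _ _ P _ _ hn hP hN φ hφ
    have ih : ∀ {M : Type u} [CommGroup M] [Finite M] {Q : Type u} [Group Q] [Finite Q], Nat.card M < Nat.card N →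
        IsPGroup 2 Q → Odd (Nat.card M) → ∀ ψ : Q →* MulAut M, Function.Injective ψ → Bd (Nat.card M) (frattini Q).index :=
      fun hM hQ hMo ψ hψ => IH _ (hn ▸ hM) rfl hQ hMo ψ hψ
    by_cases h : ∃ W : Subgroup N, (∀ g, ∀ w ∈ W, φ g w ∈ W) ∧ W ≠ ⊥ ∧ W ≠ ⊤
    · obtain ⟨W, h1, h2, h3⟩ := h
      exact bd_reducible hP hN φ hφ W h1 h2 h3 ih
    · push Not at h
      exact bd_irreducible hP hN φ hφ (fun W hW => or_iff_not_imp_left.2 (h W hW)) ih

/-- Let G be a finite group that is the semidirect product of a normal abelian subgroup N of odd order by a 2-subgroup P, and suppose N is the unique minimal normal subgroup of G. Then the index of the Frattini subgroup of P in P is at most #N − 1. -/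
theorem result {G : Type*} [Group G] [Finite G] (N P : Subgroup G) (hN : N.Normal) (hNab : IsMulCommutative ↥N) (hNodd : Odd (Nat.card ↥N)) (hP : IsPGroup 2 ↥P) (hdisj : N ⊓ P = ⊥) (hprod : N ⊔ P = ⊤) (hmin : N ≠ ⊥ ∧ ∀ M : Subgroup G, M.Normal → M ≠ ⊥ → N ≤ M) : (frattini ↥P).index ≤ Nat.card ↥N - 1 := by
  obtain ⟨hN1, hN2⟩ := hmin
  letI : CommGroup N := { (inferInstance : Group N) with mul_comm := hNab.is_comm.comm }
  let φ : P →* MulAut N := (MulAut.conjNormal (H := N)).comp P.subtype
  have hφ : ∀ (g : P) (n : N), ((φ g n : N) : G) = g * n * (g : G)⁻¹ := fun g n => MulAut.conjNormal_apply _ _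
  have hinj : Function.Injective φ := by
    by_contra h
    set C := P ⊓ Subgroup.centralizer (N : Set G) with hC
    have hCne : C ≠ ⊥ := by
      intro hCb
      apply h
      rw [injective_iff_map_eq_one]
      intro g hg
      have hgC : (g : G) ∈ C := ⟨g.2, Subgroup.mem_centralizer_iff.2 fun n hn => by
        have := hφ g ⟨n, hn⟩
        rw [hg] at this
        exact (mul_inv_eq_iff_eq_mul.1 this.symm).symm⟩
      exact Subtype.ext (Subgroup.mem_bot.1 (hCb ▸ hgC))
    have hCn : C.Normal := by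
      rw [← Subgroup.normalizer_eq_top_iff, eq_top_iff, ← hprod, sup_le_iff]
      haveI := hN
      refine ⟨?_, ?_⟩
      · refine le_trans (fun n hn => ?_) (show Subgroup.centralizer (C : Set G) ≤ Subgroup.normalizer (C : Set G) from Subgroup.centralizer_le_normalizer _)
        exact Subgroup.mem_centralizer_iff.2 fun c hc => (Subgroup.mem_centralizer_iff.1 hc.2 n hn).symm
      · refine fun g hg => Subgroup.mem_normalizer_iff.2 fun c => ?_
        have hnn : ∀ y ∈ P, ∀ d ∈ C, y * d * y⁻¹ ∈ C := fun y hy d hd =>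
          Subgroup.mem_inf.2 ⟨P.mul_mem (P.mul_mem hy hd.1) (P.inv_mem hy),
            (inferInstance : (Subgroup.centralizer (N : Set G)).Normal).conj_mem d hd.2 y⟩
        refine ⟨hnn g hg c, fun hc => ?_⟩
        have := hnn g⁻¹ (inv_mem hg) _ hc
        simpa [mul_assoc] using this
    exact hN1 (by rw [← hdisj, inf_eq_left.2 ((hN2 C hCn hCne).trans inf_le_left)])
  have h := bd_main _ rfl hP hNodd φ hinj
  have h1 : 1 ≤ (frattini ↥P).index := Nat.one_le_iff_ne_zero.2 Subgroup.index_ne_zero_of_finite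
  have h2 : Nat.card N ≠ 1 := fun h => hN1 (Subgroup.card_eq_one.1 h)
  unfold Bd at h
  omega

end Cfsg.Agent.S4188
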