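import Cfsg.Statements.S4189
import Cfsg.Agent.Lib.TwoGroup.MaximalClass

set_option autoImplicit false
open Cfsg

namespace Cfsg.Agent.S4189

open Subgroup


/-- Let P be a finite non-abelian 2-group whose commutator subgroup has index 4 and whose automorphism group is not a 2-group (some automorphism has order that is not a power of 2). Then P is isomorphic to the quaternion group of order 8. -/
theorem result {P : Type*} [Group P] [Finite P] (hP : IsPGroup 2 P) (hna : ¬ IsMulCommutative P) (h4 : (commutator P).index = 4) (haut : ¬ IsPGroup 2 (MulAut P)) : Nonempty (P ≃* QuaternionGroup 2) := by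
  classical
  haveI : Fact (Nat.Prime 2) := ⟨Nat.prime_two⟩
  obtain ⟨n, hn⟩ := IsPGroup.iff_card.1 hP
  have hn3 : 3 ≤ n := by
    by_contra hlt
    apply hna
    have h2 : n ≤ 2 := by omega
    rcases Nat.eq_or_lt_of_le h2 with h | h
    · exact ⟨⟨IsPGroup.commutative_of_card_eq_prime_sq (p := 2) (by rw [hn, h])⟩⟩
    · have hcyc : IsCyclic P := by
        interval_cases n
        · haveI : Subsingleton P := (Nat.card_eq_one_iff_unique.1 (by rw [hn, pow_zero])).1
          exact isCyclic_of_subsingleton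
        · exact isCyclic_of_prime_card (p := 2) (by rw [hn, pow_one])
      exact ⟨⟨fun a b => IsCyclic.commGroup.mul_comm a b⟩⟩
  have hc := Cfsg.Lib.TwoGroup.MaximalClass.class_of_index_four n hn3 P hn h4
  obtain ⟨a, b, ha, hb, htop, hrel⟩ := Cfsg.Lib.TwoGroup.MaximalClass.exists_generators_of_class hn3 hn hc
  obtain ⟨w, rfl⟩ : ∃ w, n = w + 3 := ⟨n - 3, by omega⟩
  rw [show w + 3 - 1 = w + 2 from rfl] at ha
  rw [show w + 3 - 2 = w + 1 from rfl] at hrel
  by_contra hnot
  apply haut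
  set A := zpowers a with hA
  have hAi : A.index = 2 := by
    refine Nat.eq_of_mul_eq_mul_left (Nat.card_pos (α := A)) ?_
    rw [card_mul_index, hn, hA, Nat.card_zpowers, ha, ← pow_succ]
  -- elements outside A have small order
  have hout : ∀ x : P, x ∉ A → x ^ 4 = 1 ∧ ((w = 0 ∧ b ^ 2 = 1) → x ^ 2 = 1) := by
    intro x hx
    have hxA : b⁻¹ * x ∈ A := by
      have := Subgroup.mul_mem_iff_of_index_two hAi (a := b⁻¹) (b := x)
      rw [this]
      exact iff_of_false (fun h => hb (by simpa using inv_mem h)) hx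
    obtain ⟨i, hi⟩ := mem_zpowers_iff.1 hxA
    have hxe : x = b * a ^ i := by rw [hi, mul_inv_cancel_left]
    have hsq : x ^ 2 = (b * a * b⁻¹) ^ i * b ^ 2 * a ^ i := by rw [hxe, conj_zpow, sq, sq]; group
    set z := a ^ 2 ^ (w + 1) with hz
    have hz2 : z ^ 2 = 1 := by rw [hz, ← pow_mul, ← pow_succ, ← ha, pow_orderOf_eq_one]
    rcases hrel with ⟨hb2, h⟩ | ⟨hb2, h⟩ | ⟨h4', hb2, h⟩
    · rw [h, hb2, mul_one, inv_zpow, inv_mul_cancel] at hsq
      exact ⟨by rw [show 4 = 2 * 2 from rfl, pow_mul, hsq, one_pow], fun _ => hsq⟩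
    · have hbc : a ^ i * z = z * a ^ i := ((Commute.refl a).pow_left (2 ^ (w + 1))).zpow_right i |>.symm.eq
      rw [h, hb2, inv_zpow, mul_assoc, ← hbc, inv_mul_cancel_left] at hsq
      exact ⟨by rw [show 4 = 2 * 2 from rfl, pow_mul, hsq, hz2], fun ⟨_, hb1⟩ => by rw [hsq, ← hb2, hb1]⟩
    · have e : (b * a * b⁻¹) ^ i * a ^ i = z ^ i := by
        rw [h, ← ((Commute.refl a).pow_left _).mul_zpow, ← pow_succ, Nat.sub_add_cancel Nat.one_le_two_pow]
      rw [hb2, mul_one, e] at hsq
      refine ⟨?_, fun ⟨hw, _⟩ => absurd hw (by omega)⟩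
      rw [show 4 = 2 * 2 from rfl, pow_mul, hsq, ← zpow_natCast, zpow_comm, zpow_natCast, hz2, one_zpow]
  -- A is invariant
  have hinvar : ∀ φ : MulAut P, φ a ∈ A := by
    intro φ
    by_contra h
    obtain ⟨h4', h2'⟩ := hout _ h
    have hord : orderOf (φ a) = 2 ^ (w + 2) := by rw [φ.orderOf_eq, ha]
    rcases Nat.eq_zero_or_pos w with hw | hw
    · subst hw
      rcases hrel with ⟨hb2, -⟩ | ⟨hb2, hinv⟩ | ⟨h, -, -⟩
      · have := Nat.le_of_dvd two_pos (orderOf_dvd_of_pow_eq_one (h2' ⟨rfl, hb2⟩))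
        rw [hord] at this
        norm_num at this
      · apply hnot
        obtain ⟨e⟩ := Cfsg.Lib.TwoGroup.equiv_quaternion (a := a) (b := b) (m := 2)
          (by rw [ha]; norm_num) (by rw [← sq]; exact hb2) hinv hb
        exact ⟨(Subgroup.topEquiv.symm.trans (MulEquiv.subgroupCongr htop.symm)).trans e⟩
      · omega
    · have := Nat.le_of_dvd (by norm_num) (orderOf_dvd_of_pow_eq_one h4')
      rw [hord] at this
      have : 2 ^ 3 ≤ 2 ^ (w + 2) := Nat.pow_le_pow_right two_pos (by omega)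
      omega
  -- every odd order automorphism is trivial
  suffices hall : ∀ q : ℕ, q.Prime → q ∣ Nat.card (MulAut P) → q = 2 from
    IsPGroup.of_card (Nat.eq_prime_pow_of_unique_prime_dvd Nat.card_pos.ne' (fun {q} hq hqd => hall q hq hqd))
  intro q hq hqd
  by_contra hq2
  haveI := Fact.mk hq
  obtain ⟨φ, hφ⟩ := exists_prime_orderOf_dvd_card' q hqd
  have hqodd : Odd q := hq.odd_of_ne_two hq2
  obtain ⟨r, hr⟩ := mem_zpowers_iff.1 (hinvar φ)
  have hφq : ∀ x, ((fun y => φ y)^[q]) x = x := fun x => by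
    have h1 : ∀ k : ℕ, ((fun y => φ y)^[k]) x = (φ ^ k) x := fun k => by
      induction k with
      | zero => rfl
      | succ k ih => rw [Function.iterate_succ_apply', ih, pow_succ']; rfl
    rw [h1, ← hφ, pow_orderOf_eq_one]; rfl
  have hita : ∀ k : ℕ, ((fun y => φ y)^[k]) a = a ^ (r ^ k) := fun k => by
    induction k with
    | zero => simp
    | succ k ih => rw [Function.iterate_succ_apply', ih, map_zpow, ← hr, ← zpow_mul, pow_succ']
  have hrodd : Odd r := by
    rcases Int.even_or_odd r with ⟨j, rfl⟩ | h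
    · exfalso
      have h1 : (φ a) ^ 2 ^ (w + 1) = 1 := by
        rw [← hr, ← zpow_natCast, ← zpow_mul, show (j + j) * ((2 ^ (w + 1) : ℕ) : ℤ) = ((2 ^ (w + 2) : ℕ) : ℤ) * j by
          push_cast; ring, zpow_mul, zpow_natCast, ← ha, pow_orderOf_eq_one, one_zpow]
      have h2 := Nat.le_of_dvd (Nat.two_pow_pos _) (orderOf_dvd_of_pow_eq_one h1)
      rw [φ.orderOf_eq, ha] at h2
      have : 2 ^ (w + 1) < 2 ^ (w + 2) := Nat.pow_lt_pow_right Nat.one_lt_two (by omega)
      omega
    · exact h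
  -- the automorphism fixes a
  have hfixa : φ a = a := by
    have h1 : (2 : ℤ) ^ (w + 2) ∣ r ^ q - 1 := by
      have := hita q
      rw [hφq] at this
      have h2 : (orderOf a : ℤ) ∣ r ^ q - 1 := Cfsg.Lib.TwoGroup.zpow_eq_iff_dvd.1 (this.symm.trans (zpow_one a).symm)
      rw [ha] at h2
      exact_mod_cast h2
    have h3 : IsCoprime ((2 : ℤ) ^ (w + 2)) (∑ i ∈ Finset.range q, r ^ i) := by
      refine IsCoprime.pow_left ((Int.prime_two.coprime_iff_not_dvd).2 fun h => ?_)
      have h5 : ((∑ i ∈ Finset.range q, r ^ i : ℤ) : ZMod 2) = 0 :=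
        (ZMod.intCast_zmod_eq_zero_iff_dvd _ _).2 (by simpa using h)
      have hr1 : (r : ZMod 2) = 1 := by
        obtain ⟨j, rfl⟩ := hrodd
        push_cast
        rw [show (2 : ZMod 2) = 0 from rfl, zero_mul, zero_add]
      push_cast at h5
      rw [hr1] at h5
      simp only [one_pow, Finset.sum_const, Finset.card_range, nsmul_eq_mul, mul_one] at h5
      rw [ZMod.natCast_eq_zero_iff] at h5
      exact hqodd.not_two_dvd_nat h5
    rw [← geom_sum_mul r q] at h1
    rw [← hr]
    conv_rhs => rw [← zpow_one a]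
    exact Cfsg.Lib.TwoGroup.zpow_eq_iff_dvd.2 (by rw [ha]; exact_mod_cast h3.dvd_of_dvd_mul_left h1)
  -- the automorphism fixes b
  have hbA : φ b ∉ A := by
    intro h
    obtain ⟨i, hi⟩ := mem_zpowers_iff.1 h
    refine hb (mem_zpowers_iff.2 ⟨i, φ.injective ?_⟩)
    rw [map_zpow, hfixa, hi]
  obtain ⟨i, hi⟩ := mem_zpowers_iff.1 (show b⁻¹ * φ b ∈ A from
    (Subgroup.mul_mem_iff_of_index_two hAi).2 (iff_of_false (fun h => hb (by simpa using inv_mem h)) hbA))
  have hitb : ∀ k : ℕ, ((fun y => φ y)^[k]) b = b * a ^ (i * k) := fun k => by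
    induction k with
    | zero => simp
    | succ k ih =>
      rw [Function.iterate_succ_apply', ih, map_mul, map_zpow, hfixa, show φ b = b * a ^ i by rw [hi, mul_inv_cancel_left],
        mul_assoc, ← zpow_add]
      congr 2
      push_cast; ring
  have hfixb : φ b = b := by
    have h1 := hitb q
    rw [hφq] at h1
    have h2 : a ^ (i * q) = 1 := mul_eq_left.1 h1.symm
    rw [← orderOf_dvd_iff_zpow_eq_one, ha] at h2
    have h3 : IsCoprime (((2 ^ (w + 2) : ℕ) : ℤ)) (q : ℤ) :=
      (Int.isCoprime_iff_gcd_eq_one).2 (by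
        rw [Int.gcd_natCast_natCast]
        exact Nat.Coprime.pow_left _ ((Nat.coprime_primes Nat.prime_two hq).2 (Ne.symm hq2)))
    have h4 : a ^ i = 1 := by
      rw [← orderOf_dvd_iff_zpow_eq_one, ha]
      exact h3.dvd_of_dvd_mul_right h2
    rw [h4] at hi
    exact (inv_mul_eq_one.1 hi.symm).symm
  have h1 : φ = 1 := by
    refine MulEquiv.toMonoidHom_injective (MonoidHom.eq_of_eqOn_dense htop ?_)
    rintro x (rfl | rfl)
    · exact hfixa
    · exact hfixb
  rw [h1, orderOf_one] at hφ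
  exact hq.ne_one hφ.symm

end Cfsg.Agent.S4189
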