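import Cfsg.Statements.S4190
import Cfsg.Agent.Lib.Solv.ClassLower.FittingBound

set_option autoImplicit false
open Cfsg

namespace Cfsg.Agent.S4190

/-- Let G be a finite solvable group and p a prime dividing the index of the Fitting subgroup of G. Then the number of conjugacy classes of G is at least p/(3·log₂ p). -/
theorem result {G : Type*} [Group G] [Finite G] (hG : Group.IsSolvable G) (p : ℕ) [Fact p.Prime] (hp : p ∣ (Cfsg.fittingSubgroup G).index) : (p : ℝ) / (3 * Real.logb 2 p) ≤ Nat.card (ConjClasses G) := by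
  haveI := hG
  let e : {_i : Fin (Nat.card G) // True} ≃ G :=
    (Equiv.subtypeUnivEquiv fun _ => trivial).trans (Finite.equivFin G).symm
  letI : Group {_i : Fin (Nat.card G) // True} := e.group
  have hidx : p ∣ (Cfsg.fittingSubgroup {_i : Fin (Nat.card G) // True}).index := by
    rw [← Cfsg.Lib.Core.map_fittingSubgroup_equiv e.mulEquiv.symm,
      Subgroup.index_map_of_bijective (f := e.mulEquiv.symm.toMonoidHom) e.mulEquiv.symm.bijective]
    exact hp
  have h := Cfsg.Lib.Solv.ClassLower.fitting_bound (p := p) (Nat.card G) {_i : Fin (Nat.card G) // True}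
    (Group.isSolvable_of_surjective (G := G) (f := e.mulEquiv.symm.toMonoidHom) e.mulEquiv.symm.surjective)
    (Nat.card_congr e) hidx
  rw [Cfsg.Lib.Solv.ClassCount.card_classes_congr e.mulEquiv] at h
  have hp2 : (2 : ℝ) ≤ p := by exact_mod_cast (Fact.out : p.Prime).two_le
  have hlog : 0 < Real.logb 2 p := Real.logb_pos (by norm_num) (by linarith)
  have hL : (Nat.log 2 (p ^ 3) : ℝ) ≤ 3 * Real.logb 2 p := by
    refine (Real.natLog_le_logb _ _).trans_eq ?_
    push_cast
    rw [Real.logb_pow]
    norm_num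
  rw [div_le_iff₀ (by positivity)]
  calc (p : ℝ) ≤ (Nat.card (ConjClasses G) * Nat.log 2 (p ^ 3) : ℕ) := by exact_mod_cast h
    _ = (Nat.card (ConjClasses G) : ℝ) * (Nat.log 2 (p ^ 3) : ℝ) := by push_cast; rfl
    _ ≤ _ := mul_le_mul_of_nonneg_left hL (Nat.cast_nonneg _)

end Cfsg.Agent.S4190
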