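import Cfsg.Statements.S4192
import Cfsg.Agent.Lib.RealClass.Structure

set_option autoImplicit false
open Cfsg

namespace Cfsg.Agent.S4192

/-- Let G be a finite group; call an element real when it is conjugate to its inverse, and say that the real-class-size graph of a group is disconnected when the primes dividing its real class sizes split into two non-empty disjoint parts with no real class size divisible by a prime from each part. If the real-class-size graph of G is disconnected, then some real class size of G is even, and either the Sylow 2-subgroups of G are normal, or the subgroup K generated by the 2-elements of G (the smallest normal subgroup of odd index) again has a disconnected real-class-size graph and every real class size of K is odd or a power of 2. -/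
theorem result {G : Type*} [Group G] [Finite G] (h : (∃ π₁ π₂ : Set ℕ, π₁.Nonempty ∧ π₂.Nonempty ∧ Disjoint π₁ π₂ ∧ (∀ q ∈ π₁ ∪ π₂, q.Prime ∧ ∃ n ∈ {n : ℕ | ∃ x : G, IsConj x x⁻¹ ∧ (Subgroup.centralizer ({x} : Set G)).index = n}, q ∣ n) ∧ (∀ q : ℕ, q.Prime → (∃ n ∈ {n : ℕ | ∃ x : G, IsConj x x⁻¹ ∧ (Subgroup.centralizer ({x} : Set G)).index = n}, q ∣ n) → q ∈ π₁ ∨ q ∈ π₂) ∧ ∀ a ∈ π₁, ∀ b ∈ π₂, ∀ n ∈ {n : ℕ | ∃ x : G, IsConj x x⁻¹ ∧ (Subgroup.centralizer ({x} : Set G)).index = n}, ¬ (a ∣ n ∧ b ∣ n))) : (∃ n ∈ {n : ℕ | ∃ x : G, IsConj x x⁻¹ ∧ (Subgroup.centralizer ({x} : Set G)).index = n}, 2 ∣ n) ∧ ((∀ P : Sylow 2 G, (P : Subgroup G).Normal) ∨ ((∃ π₁ π₂ : Set ℕ, π₁.Nonempty ∧ π₂.Nonempty ∧ Disjoint π₁ π₂ ∧ (∀ q ∈ π₁ ∪ π₂, q.Prime ∧ ∃ n ∈ {n : ℕ | ∃ x : ↥(Subgroup.closure {g : G | ∃ k : ℕ, orderOf g = 2 ^ k}), IsConj x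 x⁻¹ ∧ (Subgroup.centralizer ({x} : Set ↥(Subgroup.closure {g : G | ∃ k : ℕ, orderOf g = 2 ^ k}))).index = n}, q ∣ n) ∧ (∀ q : ℕ, q.Prime → (∃ n ∈ {n : ℕ | ∃ x : ↥(Subgroup.closure {g : G | ∃ k : ℕ, orderOf g = 2 ^ k}), IsConj x x⁻¹ ∧ (Subgroup.centralizer ({x} : Set ↥(Subgroup.closure {g : G | ∃ k : ℕ, orderOf g = 2 ^ k}))).index = n}, q ∣ n) → q ∈ π₁ ∨ q ∈ π₂) ∧ ∀ a ∈ π₁, ∀ b ∈ π₂, ∀ n ∈ {n : ℕ | ∃ x : ↥(Subgroup.closure {g : G | ∃ k : ℕ, orderOf g = 2 ^ k}), IsConj x x⁻¹ ∧ (Subgroup.centralizer ({x} : Set ↥(Subgroup.closure {g : G | ∃ k : ℕ, orderOf g = 2 ^ k}))).index = n}, ¬ (a ∣ n ∧ b ∣ n)) ∧ ∀ n ∈ {n : ℕ | ∃ x : ↥(Subgroup.closure {g : G | ∃ k : ℕ, orderOf g = 2 ^ k}), IsConj x x⁻¹ ∧ (Subgroup.centralizer ({x} : Set ↥(Subgroup.closure {g : G | ∃ k : ℕ, orderOf g = 2 ^ k}))).index = n}, Odd n ∨ ∃ j : ℕ, n = 2 ^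 j)) := by
  classical
  obtain ⟨π₁, π₂, h₁, h₂, hdisj, hsub, hcover, hnoedge⟩ := h
  obtain ⟨π, h2, hsep, hin, hout⟩ : ∃ π : Set ℕ, 2 ∉ π ∧ Cfsg.Lib.RealClass.Sep π G ∧
      (∃ x : G, IsConj x x⁻¹ ∧ ∃ p : ℕ, p.Prime ∧ p ∈ π ∧ p ∣ Cfsg.Lib.RealClass.ncl x) ∧
      (∃ x : G, IsConj x x⁻¹ ∧ ∃ p : ℕ, p.Prime ∧ p ∉ π ∧ p ∣ Cfsg.Lib.RealClass.ncl x) := by
    have hex : ∀ q ∈ π₁ ∪ π₂,
        ∃ x : G, IsConj x x⁻¹ ∧ q.Prime ∧ q ∣ Cfsg.Lib.RealClass.ncl x := by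
      intro q hq
      obtain ⟨hqp, n, ⟨x, hx, rfl⟩, hqd⟩ := hsub q hq
      exact ⟨x, hx, hqp, hqd⟩
    have hsep₁ : ∀ x : G, IsConj x x⁻¹ → ∀ p q : ℕ, p.Prime → q.Prime →
        p ∣ Cfsg.Lib.RealClass.ncl x → q ∣ Cfsg.Lib.RealClass.ncl x → p ∈ π₁ → q ∈ π₂ → False :=
      fun x hx p q _ _ hp hq h1 h2 => hnoedge p h1 q h2 _ ⟨x, hx, rfl⟩ ⟨hp, hq⟩
    have hsep : ∀ σ τ : Set ℕ, (∀ q : ℕ, q.Prime → (∃ x : G, IsConj x x⁻¹ ∧ q ∣ Cfsg.Lib.RealClass.ncl x) →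
        q ∈ σ ∨ q ∈ τ) → (∀ x : G, IsConj x x⁻¹ → ∀ p q : ℕ, p.Prime → q.Prime →
        p ∣ Cfsg.Lib.RealClass.ncl x → q ∣ Cfsg.Lib.RealClass.ncl x → p ∈ σ → q ∈ τ → False) →
        Cfsg.Lib.RealClass.Sep σ G := by
      intro σ τ hc he x hx
      by_contra hno
      push Not at hno
      obtain ⟨⟨q, hq, hqd, hq1⟩, ⟨p, hp, hpd, hp1⟩⟩ := hno
      exact he x hx p q hp hq hpd hqd hp1 ((hc q hq ⟨x, hx, hqd⟩).resolve_left hq1)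
    have hc : ∀ q : ℕ, q.Prime → (∃ x : G, IsConj x x⁻¹ ∧ q ∣ Cfsg.Lib.RealClass.ncl x) →
        q ∈ π₁ ∨ q ∈ π₂ := fun q hq ⟨x, hx, hd⟩ => hcover q hq ⟨_, ⟨x, hx, rfl⟩, hd⟩
    obtain ⟨a, ha⟩ := h₁
    obtain ⟨b, hb⟩ := h₂
    obtain ⟨x, hx, hap, hax⟩ := hex a (Or.inl ha)
    obtain ⟨y, hy, hbp, hby⟩ := hex b (Or.inr hb)
    by_cases h21 : 2 ∈ π₁
    · exact ⟨π₂, Set.disjoint_left.mp hdisj h21,
        hsep π₂ π₁ (fun q hq h => (hc q hq h).symm) (fun x hx p q hp hq h1 h2 h3 h4 =>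
          hsep₁ x hx q p hq hp h2 h1 h4 h3),
        ⟨y, hy, b, hbp, hb, hby⟩, ⟨x, hx, a, hap, Set.disjoint_left.mp hdisj ha, hax⟩⟩
    · exact ⟨π₁, h21, hsep π₁ π₂ hc hsep₁, ⟨x, hx, a, hap, ha, hax⟩,
        ⟨y, hy, b, hbp, Set.disjoint_right.mp hdisj hb, hby⟩⟩
  obtain ⟨z, hz, hz2⟩ := Cfsg.Lib.RealClass.exists_even h2 hsep hin hout
  refine ⟨⟨_, ⟨z, hz, rfl⟩, hz2⟩, ?_⟩
  by_cases hns : ∀ P : Sylow 2 G, (P : Subgroup G).Normal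
  · exact Or.inl hns
  obtain ⟨hval, ⟨y, hy, hy2⟩, ⟨t, ht, hto, ht1⟩⟩ := Cfsg.Lib.RealClass.closure_twoElts_structure h2 hsep
    (Cfsg.Lib.RealClass.isSolvable_of_sep h2 hsep hin) hin hns
  refine Or.inr ⟨?_, ?_⟩
  · refine ⟨{p : ℕ | p.Prime ∧ p ≠ 2 ∧ ∃ x : ↥(Subgroup.closure (Cfsg.Lib.RealClass.twoElts G)),
      IsConj x x⁻¹ ∧ p ∣ Cfsg.Lib.RealClass.ncl x}, {2}, ?_, Set.singleton_nonempty 2,
      Set.disjoint_singleton_right.mpr fun h => h.2.1 rfl, ?_, ?_, ?_⟩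
    · obtain ⟨p, hp, hpd⟩ := Nat.exists_prime_and_dvd (n := Cfsg.Lib.RealClass.ncl t) (by omega)
      refine ⟨p, hp, ?_, t, ht, hpd⟩
      rintro rfl
      exact Nat.not_even_iff_odd.mpr hto (even_iff_two_dvd.mpr hpd)
    · rintro q (⟨hq, -, x, hx, hd⟩ | rfl)
      · exact ⟨hq, _, ⟨x, hx, rfl⟩, hd⟩
      · exact ⟨Nat.prime_two, _, ⟨y, hy, rfl⟩, hy2⟩
    · rintro q hq ⟨n, ⟨x, hx, rfl⟩, hd⟩
      by_cases hq2 : q = 2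
      · exact Or.inr hq2
      · exact Or.inl ⟨hq, hq2, x, hx, hd⟩
    · rintro a ⟨ha, ha2, -⟩ b rfl n ⟨x, hx, rfl⟩ ⟨had, hbd⟩
      rcases hval x hx with h | ⟨j, hj⟩
      · exact Nat.not_even_iff_odd.mpr h (even_iff_two_dvd.mpr hbd)
      · exact ha2 ((Nat.prime_dvd_prime_iff_eq ha Nat.prime_two).mp (ha.dvd_of_dvd_pow (dvd_trans had (dvd_of_eq hj))))
  · rintro n ⟨x, hx, rfl⟩
    exact hval x hx

end Cfsg.Agent.S4192
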