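import Cfsg.Statements.S4194
import Cfsg.Agent.Lib.Local.TwoCentralAbelian

set_option autoImplicit false
open Cfsg

namespace Cfsg.Agent.S4194

/-- A finite group G has commutative Sylow 2-subgroups if and only if every 2-element of G (element of order a power of 2) is 2-central, that is, its centralizer contains a Sylow 2-subgroup of G. -/
theorem result {G : Type*} [Group G] [Finite G] (P : Sylow 2 G) :
    IsMulCommutative (P : Subgroup G) ↔ ∀ x : G, (∃ k : ℕ, orderOf x = 2 ^ k) → (∃ Q : Sylow 2 G, (Q : Subgroup G) ≤ Subgroup.centralizer ({x} : Set G)) := by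
  haveI : Fact (Nat.Prime 2) := ⟨Nat.prime_two⟩
  constructor
  · intro hP x hx
    obtain ⟨k, hk⟩ := hx
    obtain ⟨Q, hQ⟩ := (IsPGroup.of_card ((Nat.card_zpowers x).trans hk)).exists_le_sylow
    refine ⟨Q, fun q hq => Subgroup.mem_centralizer_singleton_iff.2 ?_⟩
    haveI := hP
    obtain ⟨g, hg⟩ := MulAction.exists_smul_eq G Q P
    have hconj : ∀ r ∈ (Q : Subgroup G), g * r * g⁻¹ ∈ (P : Subgroup G) := fun r hr => by
      rw [← hg]; exact Subgroup.smul_mem_pointwise_smul r (MulAut.conj g) _ hr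
    have h := setLike_mul_comm (hconj q hq) (hconj x (hQ (Subgroup.mem_zpowers x)))
    calc q * x = g⁻¹ * ((g * q * g⁻¹) * (g * x * g⁻¹)) * g := by group
      _ = g⁻¹ * ((g * x * g⁻¹) * (g * q * g⁻¹)) * g := by rw [h]
      _ = x * q := by group
  · intro h
    refine ⟨⟨fun a b => Subtype.ext (Lib.Local.TwoCentral.sylow_comm (fun x hx hd => ?_) P a a.2 b b.2)⟩⟩
    obtain ⟨Q, hQ⟩ := h x hx
    exact Q.not_dvd_index (hd.trans (Subgroup.index_dvd_of_le hQ))

end Cfsg.Agent.S4194
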