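import Cfsg.Statements.S4195

set_option autoImplicit false
set_option linter.style.haveILetI false
open Cfsg

namespace Cfsg.Agent.S4195

theorem mem_cent {G : Type*} [Group G] {x y : G} :
    y ∈ Subgroup.centralizer ({x} : Set G) ↔ y * x * y⁻¹ = x := by
  rw [Subgroup.mem_centralizer_singleton_iff, mul_inv_eq_iff_eq_mul]
  <;> constructor <;> intro e <;> exact e.symm

theorem real_odd_index {G : Type*} [Group G] [Finite G] (x : G) (P : Sylow 2 G)
    (hP : (P : Subgroup G) ≤ Subgroup.centralizer ({x} : Set G)) (hreal : IsConj x x⁻¹) :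
    x⁻¹ = x := by
  obtain ⟨g, hg⟩ := isConj_iff.mp hreal
  by_contra hne
  have hinv : ∀ a : G, a * x⁻¹ * a⁻¹ = (a * x * a⁻¹)⁻¹ := fun a => by group
  let K : Subgroup G :=
    { carrier := {y | y * x * y⁻¹ = x ∨ y * x * y⁻¹ = x⁻¹}
      mul_mem' := by
        intro a b ha hb
        have e : a * b * x * (a * b)⁻¹ = a * (b * x * b⁻¹) * a⁻¹ := by group
        show _ ∨ _
        rw [e]
        rcases hb with hb | hb <;> rw [hb]
        · exact ha
        · rw [hinv]
          rcases ha with ha | ha <;> rw [ha] <;> simp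
      one_mem' := Or.inl (by simp)
      inv_mem' := by
        intro a ha
        show _ ∨ _
        rcases ha with ha | ha
        · left
          calc a⁻¹ * x * a⁻¹⁻¹ = a⁻¹ * (a * x * a⁻¹) * a⁻¹⁻¹ := by rw [ha]
            _ = x := by group
        · right
          have e : a⁻¹ * x⁻¹ * a⁻¹⁻¹ = x := by
            calc a⁻¹ * x⁻¹ * a⁻¹⁻¹ = a⁻¹ * (a * x * a⁻¹) * a⁻¹⁻¹ := by rw [ha]
              _ = x := by group
          rw [hinv] at e
          exact inv_inj.mp (e.trans (inv_inv x).symm) }
  set C := Subgroup.centralizer ({x} : Set G) with hC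
  have hCK : C ≤ K := fun y hy => Or.inl (mem_cent.mp hy)
  have h2 : (C.subgroupOf K).index = 2 := by
    rw [Subgroup.index_eq_two_iff]
    refine ⟨⟨g, Or.inr hg⟩, fun b => ?_⟩
    have e : (b : G) * g * x * ((b : G) * g)⁻¹ = ((b : G) * x * (b : G)⁻¹)⁻¹ := by
      calc (b : G) * g * x * ((b : G) * g)⁻¹ = b * (g * x * g⁻¹) * (b : G)⁻¹ := by group
        _ = _ := by rw [hg, hinv]
    rw [xor_def, Subgroup.mem_subgroupOf, Subgroup.mem_subgroupOf, Subgroup.coe_mul, hC, mem_cent, mem_cent, e]
    rcases b.2 with hb | hb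
    · right; exact ⟨hb, by rw [hb]; exact hne⟩
    · left; exact ⟨by rw [hb, inv_inv], by rw [hb]; exact hne⟩
  apply P.not_dvd_index
  have h3 : C.relIndex K ∣ C.index := Dvd.intro _ (Subgroup.relIndex_mul_index hCK)
  rw [Subgroup.relIndex, h2] at h3
  exact h3.trans (Subgroup.index_dvd_of_le hP)

/-- Let x be a non-identity element of a finite group G whose centralizer contains a Sylow 2-subgroup of G. If x is conjugate to its inverse, then x has order 2. -/
theorem result {G : Type*} [Group G] [Finite G] (x : G) (hx : x ≠ 1) (P : Sylow 2 G) (hP : (P : Subgroup G) ≤ Subgroup.centralizer ({x} : Set G)) (hreal : IsConj x x⁻¹) : orderOf x = 2 := by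
  exact orderOf_eq_prime (by rw [pow_two, mul_eq_one_iff_eq_inv]; exact (real_odd_index x P hP hreal).symm) hx

end Cfsg.Agent.S4195
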