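import Cfsg.Statements.S4196
import Cfsg.Agent.S4195

set_option autoImplicit false
set_option linter.style.haveILetI false
open Cfsg

namespace Cfsg.Agent.S4196

/-- A finite group G has elementary abelian Sylow 2-subgroups (commutative with every element squaring to the identity) if and only if every 2-element of G has a Sylow 2-subgroup in its centralizer and is conjugate to its inverse. -/
theorem result {G : Type*} [Group G] [Finite G] (P : Sylow 2 G) :
    (IsMulCommutative (P : Subgroup G) ∧ ∀ x ∈ (P : Subgroup G), x ^ 2 = 1) ↔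
      ∀ x : G, (∃ k : ℕ, orderOf x = 2 ^ k) → (∃ Q : Sylow 2 G, (Q : Subgroup G) ≤ Subgroup.centralizer ({x} : Set G)) ∧ IsConj x x⁻¹ := by
  constructor
  · rintro ⟨hc, he⟩ x ⟨k, hk⟩
    have hp : IsPGroup 2 (Subgroup.zpowers x) :=
      IsPGroup.of_card (n := k) (by rw [Nat.card_zpowers, hk])
    obtain ⟨Q, hQ⟩ := hp.exists_le_sylow
    have hxQ : x ∈ (Q : Subgroup G) := hQ (Subgroup.mem_zpowers x)
    let e := P.equiv Q
    constructor
    · refine ⟨Q, fun y hy => ?_⟩
      rw [Subgroup.mem_centralizer_singleton_iff]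
      have h1 : (⟨y, hy⟩ : (Q : Subgroup G)) * ⟨x, hxQ⟩ = ⟨x, hxQ⟩ * ⟨y, hy⟩ := by
        apply e.symm.injective
        rw [map_mul, map_mul]
        exact hc.is_comm.comm _ _
      first
        | exact congrArg Subtype.val h1
        | exact (congrArg Subtype.val h1).symm
    · have h1 : (⟨x, hxQ⟩ : (Q : Subgroup G)) ^ 2 = 1 := by
        apply e.symm.injective
        rw [map_pow, map_one]
        exact Subtype.ext (he _ (e.symm ⟨x, hxQ⟩).2)
      have h2 : x⁻¹ = x := by
        rw [inv_eq_iff_mul_eq_one, ← pow_two]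
        exact congrArg Subtype.val h1
      rw [h2]
  · intro h
    have he : ∀ x ∈ (P : Subgroup G), x ^ 2 = 1 := by
      intro x hx
      obtain ⟨k, hk⟩ := IsPGroup.iff_orderOf.mp P.isPGroup' ⟨x, hx⟩
      rw [Subgroup.orderOf_mk] at hk
      obtain ⟨⟨Q, hQ⟩, hr⟩ := h x ⟨k, hk⟩
      have := Cfsg.Agent.S4195.real_odd_index x Q hQ hr
      rw [pow_two, mul_eq_one_iff_eq_inv, this]
    refine ⟨⟨⟨fun a b => ?_⟩⟩, he⟩
    have hinv : ∀ c : (P : Subgroup G), c⁻¹ = c := fun c => by
      rw [inv_eq_iff_mul_eq_one, ← pow_two]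
      exact Subtype.ext (he c c.2)
    calc a * b = (a * b)⁻¹ := (hinv _).symm
      _ = b * a := by rw [mul_inv_rev, hinv, hinv]

end Cfsg.Agent.S4196
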