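import Cfsg.Statements.S4198
import Mathlib.GroupTheory.SpecificGroups.Alternating.Centralizer
import Mathlib.Combinatorics.Enumerative.Partition.Basic

set_option autoImplicit false
open Cfsg

namespace Cfsg.Agent.S4198

open Equiv

/-- The candidate tuples of multiplicities. -/
def tuples : Finset (Fin 6 × Fin 3 × Fin 2 × Fin 2 × Fin 2) :=
  Finset.univ.filter fun t => t.1.1 + 2 * t.2.1.1 + 3 * t.2.2.1.1 + 4 * t.2.2.2.1.1 + 5 * t.2.2.2.2.1 = 5

theorem card_tuples : tuples.card = 7 := by decide +kernel

theorem card_partition_five : Fintype.card (Nat.Partition 5) ≤ 8 := by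
  classical
  have key : ∀ m : Nat.Partition 5,
      m.parts.count 1 + 2 * m.parts.count 2 + 3 * m.parts.count 3 + 4 * m.parts.count 4 +
        5 * m.parts.count 5 = 5 ∧
      ∀ i, i ∈ m.parts → i = 1 ∨ i = 2 ∨ i = 3 ∨ i = 4 ∨ i = 5 := by
    intro m
    have hsub : m.parts.toFinset ⊆ ({1, 2, 3, 4, 5} : Finset ℕ) := by
      intro i hi
      rw [Multiset.mem_toFinset] at hi
      have h1 := m.parts_pos hi
      have h2 : i ≤ 5 := (Multiset.le_sum_of_mem hi).trans m.parts_sum.le
      simp only [Finset.mem_insert, Finset.mem_singleton]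
      omega
    refine ⟨?_, fun i hi => by simpa using hsub (Multiset.mem_toFinset.mpr hi)⟩
    have h := m.parts_sum
    rw [Finset.sum_multiset_count_of_subset _ _ hsub] at h
    simp [Finset.sum_insert] at h
    omega
  let f : Nat.Partition 5 → Fin 6 × Fin 3 × Fin 2 × Fin 2 × Fin 2 := fun m =>
    (⟨m.parts.count 1, by have := (key m).1; omega⟩, ⟨m.parts.count 2, by have := (key m).1; omega⟩,
      ⟨m.parts.count 3, by have := (key m).1; omega⟩, ⟨m.parts.count 4, by have := (key m).1; omega⟩,
      ⟨m.parts.count 5, by have := (key m).1; omega⟩)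
  have hinj : Function.Injective f := by
    intro a b hab
    simp only [f, Prod.mk.injEq, Fin.mk.injEq] at hab
    refine Nat.Partition.ext (Multiset.ext.mpr fun i => ?_)
    by_cases hi : i = 1 ∨ i = 2 ∨ i = 3 ∨ i = 4 ∨ i = 5
    · rcases hi with rfl | rfl | rfl | rfl | rfl
      exacts [hab.1, hab.2.1, hab.2.2.1, hab.2.2.2.1, hab.2.2.2.2]
    · rw [Multiset.count_eq_zero_of_notMem (fun h => hi ((key a).2 i h)),
        Multiset.count_eq_zero_of_notMem (fun h => hi ((key b).2 i h))]
  have hle : Fintype.card (Nat.Partition 5) ≤ tuples.card := by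
    rw [← Finset.card_univ]
    refine Finset.card_le_card_of_injOn f (fun m _ => ?_) hinj.injOn
    have := (key m).1
    simpa [tuples, f] using this
  rw [card_tuples] at hle
  omega

open Classical in
theorem partition_succ (n : ℕ) (hn : 1 ≤ n) :
    Fintype.card (Nat.Partition (n + 1)) ≤ 2 * Fintype.card (Nat.Partition n) := by
  let f : Nat.Partition (n + 1) → Bool × Multiset ℕ := fun m =>
    if h : 1 ∈ m.parts then (true, m.parts.erase 1) else
      (false, if hne : m.parts.toFinset.Nonempty then
        (m.parts.toFinset.min' hne - 1) ::ₘ m.parts.erase (m.parts.toFinset.min' hne) else 0)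
  have hne : ∀ m : Nat.Partition (n + 1), m.parts.toFinset.Nonempty := by
    intro m
    obtain ⟨a, ha⟩ := Multiset.exists_mem_of_ne_zero (s := m.parts) (fun h => by
      have := m.parts_sum; rw [h] at this; simp at this)
    exact ⟨a, Multiset.mem_toFinset.mpr ha⟩
  have hmin : ∀ m : Nat.Partition (n + 1), 1 ∉ m.parts →
      2 ≤ m.parts.toFinset.min' (hne m) := by
    intro m h
    have hm := Multiset.mem_toFinset.mp (m.parts.toFinset.min'_mem (hne m))
    have h1 := m.parts_pos hm
    have h2 : m.parts.toFinset.min' (hne m) ≠ 1 := fun he => h (by rwa [he] at hm)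
    omega
  let good : Finset (Bool × Multiset ℕ) :=
    (Finset.univ : Finset Bool) ×ˢ (Finset.univ.image fun m : Nat.Partition n => m.parts)
  have hmem : ∀ m ∈ (Finset.univ : Finset (Nat.Partition (n + 1))), f m ∈ good := by
    intro m _
    refine Finset.mem_product.mpr ⟨Finset.mem_univ _, Finset.mem_image.mpr ?_⟩
    by_cases h : 1 ∈ m.parts
    · refine ⟨⟨m.parts.erase 1, fun {i} hi => m.parts_pos (Multiset.mem_of_mem_erase hi), ?_⟩,
        Finset.mem_univ _, by simp [f, h]⟩
      have := Multiset.sum_erase h
      have := m.parts_sum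
      omega
    · have hm := Multiset.mem_toFinset.mp (m.parts.toFinset.min'_mem (hne m))
      refine ⟨⟨(m.parts.toFinset.min' (hne m) - 1) ::ₘ m.parts.erase (m.parts.toFinset.min' (hne m)),
        fun {i} hi => ?_, ?_⟩, Finset.mem_univ _, by simp only [f, dif_neg h, dif_pos (hne m)]⟩
      · rcases Multiset.mem_cons.mp hi with rfl | hi
        · have := hmin m h; omega
        · exact m.parts_pos (Multiset.mem_of_mem_erase hi)
      · rw [Multiset.sum_cons]
        have := Multiset.sum_erase hm
        have := m.parts_sum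
        have := hmin m h
        omega
  have hinj : Function.Injective f := by
    intro a b hab
    by_cases ha : 1 ∈ a.parts
    · by_cases hb : 1 ∈ b.parts
      · simp [f, ha, hb] at hab
        exact Nat.Partition.ext (by rw [← Multiset.cons_erase ha, hab, Multiset.cons_erase hb])
      · simp [f, ha, hb] at hab
    · by_cases hb : 1 ∈ b.parts
      · simp [f, ha, hb] at hab
      · simp only [f, dif_neg ha, dif_neg hb, dif_pos (hne a), dif_pos (hne b), Prod.mk.injEq,
          true_and] at hab
        have hma := Multiset.mem_toFinset.mp (a.parts.toFinset.min'_mem (hne a))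
        have hmb := Multiset.mem_toFinset.mp (b.parts.toFinset.min'_mem (hne b))
        have h2a := hmin a ha
        have h2b := hmin b hb
        have key : a.parts.toFinset.min' (hne a) = b.parts.toFinset.min' (hne b) := by
          have h1 : a.parts.toFinset.min' (hne a) - 1 ∈ (b.parts.toFinset.min' (hne b) - 1) ::ₘ
              b.parts.erase (b.parts.toFinset.min' (hne b)) := hab ▸ Multiset.mem_cons_self _ _
          have h2 : b.parts.toFinset.min' (hne b) - 1 ∈ (a.parts.toFinset.min' (hne a) - 1) ::ₘ
              a.parts.erase (a.parts.toFinset.min' (hne a)) := hab.symm ▸ Multiset.mem_cons_self _ _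
          have e1 : b.parts.toFinset.min' (hne b) - 1 ≤ a.parts.toFinset.min' (hne a) - 1 := by
            rcases Multiset.mem_cons.mp h1 with h | h
            · omega
            · have := Finset.min'_le b.parts.toFinset _
                (Multiset.mem_toFinset.mpr (Multiset.mem_of_mem_erase h))
              omega
          have e2 : a.parts.toFinset.min' (hne a) - 1 ≤ b.parts.toFinset.min' (hne b) - 1 := by
            rcases Multiset.mem_cons.mp h2 with h | h
            · omega
            · have := Finset.min'_le a.parts.toFinset _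
                (Multiset.mem_toFinset.mpr (Multiset.mem_of_mem_erase h))
              omega
          omega
        rw [key, Multiset.cons_inj_right] at hab
        exact Nat.Partition.ext (by
          rw [← Multiset.cons_erase hma, ← Multiset.cons_erase hmb, key, hab])
  have := Finset.card_le_card_of_injOn f hmem hinj.injOn
  rw [Finset.card_univ] at this
  refine this.trans ?_
  rw [Finset.card_product, Finset.card_univ, Fintype.card_bool]
  exact Nat.mul_le_mul_left _ Finset.card_image_le

theorem card_partition_le : ∀ m, Fintype.card (Nat.Partition (m + 5)) ≤ 2 ^ (m + 3)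
  | 0 => card_partition_five
  | m + 1 => by
    have h1 := partition_succ (m + 5) (by omega)
    have h2 := card_partition_le m
    have h3 : 2 ^ (m + 1 + 3) = 2 * 2 ^ (m + 3) := by rw [← pow_succ']
    rw [show m + 1 + 5 = m + 5 + 1 by omega, h3]
    omega

variable {n : ℕ}

/-- The cycle type of the odd class attached to a split class. -/
def flipType (m : Multiset ℕ) : Multiset ℕ :=
  if h : m.toFinset.Nonempty then (m.toFinset.max' h - 1) ::ₘ m.erase (m.toFinset.max' h) else 0

/-- Split classes: the centralizer consists of even permutations. -/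
def IsSplit (m : Multiset ℕ) (n : ℕ) : Prop :=
  (∀ c ∈ m, Odd c) ∧ n ≤ m.sum + 1 ∧ (∀ i, m.count i ≤ 1) ∧ m.sum ≤ n ∧ ∀ a ∈ m, 2 ≤ a

theorem flip_facts (hn : 5 ≤ n) {m : Multiset ℕ} (h : IsSplit m n) :
    (flipType m).sum ≤ n ∧ (∀ a ∈ flipType m, 2 ≤ a) ∧
      (flipType m).sum + (flipType m).card + 1 = m.sum + m.card ∧ flipType m ≠ {2} ∧
      ∃ a ∈ m, 3 ≤ a ∧ flipType m = (a - 1) ::ₘ m.erase a ∧ Even (a - 1) ∧
        ∀ b ∈ m.erase a, Odd b := by
  obtain ⟨hodd, hlow, hcount, hsum, h2⟩ := h
  have hne : m.toFinset.Nonempty := by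
    obtain ⟨a, ha⟩ := Multiset.exists_mem_of_ne_zero (s := m) (fun h => by simp [h] at hlow; omega)
    exact ⟨a, Multiset.mem_toFinset.mpr ha⟩
  set a := m.toFinset.max' hne with ha
  have ham : a ∈ m := Multiset.mem_toFinset.mp (m.toFinset.max'_mem hne)
  obtain ⟨k, hk⟩ := hodd a ham
  have ha3 : 3 ≤ a := by have := h2 a ham; omega
  have hflip : flipType m = (a - 1) ::ₘ m.erase a := by simp [flipType, hne, ← ha]
  have hs := Multiset.sum_erase ham
  have hc := Multiset.card_erase_add_one ham
  refine ⟨?_, ?_, ?_, ?_, a, ham, ha3, hflip, ⟨k, by omega⟩,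
    fun b hb => hodd b (Multiset.mem_of_mem_erase hb)⟩
  · rw [hflip, Multiset.sum_cons]; omega
  · intro b hb
    rw [hflip] at hb
    rcases Multiset.mem_cons.mp hb with rfl | hb
    · omega
    · exact h2 b (Multiset.mem_of_mem_erase hb)
  · rw [hflip, Multiset.sum_cons, Multiset.card_cons]; omega
  · intro he
    rw [hflip] at he
    have h1 := congrArg Multiset.sum he
    rw [Multiset.sum_cons, Multiset.sum_singleton] at h1
    omega

theorem flip_inj (hn : 5 ≤ n) {m m' : Multiset ℕ} (h : IsSplit m n) (h' : IsSplit m' n)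
    (he : flipType m = flipType m') : m = m' := by
  obtain ⟨-, -, -, -, a, ham, ha3, hf, hev, hodd⟩ := flip_facts hn h
  obtain ⟨-, -, -, -, b, hbm, hb3, hf', hev', hodd'⟩ := flip_facts hn h'
  rw [hf, hf'] at he
  have hab : a - 1 = b - 1 := by
    have : a - 1 ∈ (b - 1) ::ₘ m'.erase b := he ▸ Multiset.mem_cons_self _ _
    rcases Multiset.mem_cons.mp this with h1 | h1
    · exact h1
    · exact absurd hev (Nat.not_even_iff_odd.mpr (hodd' _ h1))
  have hab' : a = b := by omega
  subst hab'
  rw [Multiset.cons_inj_right] at he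
  rw [← Multiset.cons_erase ham, ← Multiset.cons_erase hbm, he]

/-- The class of permutations of a given cycle type. -/
theorem exists_class (hn : 5 ≤ n) {m : Multiset ℕ} (h : IsSplit m n) :
    ∃ g : Perm (Fin n), g.cycleType = flipType m :=
  (Equiv.Perm.exists_with_cycleType_iff (Fin n)).mpr
    ⟨by simpa using (flip_facts hn h).1, (flip_facts hn h).2.1⟩

theorem isSplit_of (g : Perm (Fin n)) (h : Subgroup.centralizer {g} ≤ alternatingGroup (Fin n)) :
    IsSplit g.cycleType n := by
  obtain ⟨h1, h2, h3⟩ := Equiv.Perm.centralizer_le_alternating_iff.mp h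
  refine ⟨h1, by simpa using h2, h3, ?_, fun a ha => Equiv.Perm.two_le_of_mem_cycleType ha⟩
  rw [Equiv.Perm.sum_cycleType]
  simpa using g.support.card_le_univ

/-- Two elements of `A n` conjugate in `S n` and not in `A n` form a split class. -/
theorem split_of_not_isConj {a b : alternatingGroup (Fin n)} (hab : IsConj (a : Perm (Fin n)) b)
    (hne : ¬ IsConj a b) : Subgroup.centralizer {(a : Perm (Fin n))} ≤ alternatingGroup (Fin n) := by
  by_contra hle
  obtain ⟨z, hz, hzA⟩ := SetLike.not_le_iff_exists.mp hle
  obtain ⟨c, hc⟩ := isConj_iff.mp hab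
  apply hne
  by_cases hcA : c ∈ alternatingGroup (Fin n)
  · exact isConj_iff.mpr ⟨⟨c, hcA⟩, Subtype.ext hc⟩
  · have hcz : c * z ∈ alternatingGroup (Fin n) := by
      rw [Equiv.Perm.mem_alternatingGroup] at hcA hzA ⊢
      rw [map_mul, (Int.units_eq_one_or _).resolve_left hcA,
        (Int.units_eq_one_or _).resolve_left hzA]
      decide
    refine isConj_iff.mpr ⟨⟨c * z, hcz⟩, Subtype.ext ?_⟩
    show c * z * (a : Perm (Fin n)) * (c * z)⁻¹ = b
    have hza : (a : Perm (Fin n)) * z = z * a := Subgroup.mem_centralizer_singleton_iff.mp hz |>.symm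
    rw [mul_assoc c z, ← hza, ← hc]
    group

theorem isConj_of_two {a b c : alternatingGroup (Fin n)} (hab : IsConj (a : Perm (Fin n)) b)
    (hac : IsConj (a : Perm (Fin n)) c) (h1 : ¬ IsConj a b) (h2 : ¬ IsConj a c) : IsConj b c := by
  obtain ⟨x, hx⟩ := isConj_iff.mp hab
  obtain ⟨y, hy⟩ := isConj_iff.mp hac
  have hxo : x ∉ alternatingGroup (Fin n) := fun h =>
    h1 (isConj_iff.mpr ⟨⟨x, h⟩, Subtype.ext hx⟩)
  have hyo : y ∉ alternatingGroup (Fin n) := fun h =>
    h2 (isConj_iff.mpr ⟨⟨y, h⟩, Subtype.ext hy⟩)
  have hmem : y * x⁻¹ ∈ alternatingGroup (Fin n) := by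
    rw [Equiv.Perm.mem_alternatingGroup] at hxo hyo ⊢
    rw [map_mul, map_inv, (Int.units_eq_one_or _).resolve_left hxo,
      (Int.units_eq_one_or _).resolve_left hyo]
    decide
  refine isConj_iff.mpr ⟨⟨_, hmem⟩, Subtype.ext ?_⟩
  show y * x⁻¹ * (b : Perm (Fin n)) * (y * x⁻¹)⁻¹ = c
  rw [← hx, ← hy]
  group

theorem mk_out {G : Type*} [Monoid G] (C : ConjClasses G) :
    ConjClasses.mk (Quotient.out C) = C := Quotient.out_eq C

theorem card_lt (hn : 5 ≤ n) :
    Nat.card (ConjClasses (alternatingGroup (Fin n))) < Nat.card (ConjClasses (Perm (Fin n))) := by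
  classical
  let F : ConjClasses (alternatingGroup (Fin n)) → ConjClasses (Perm (Fin n)) :=
    ConjClasses.map (alternatingGroup (Fin n)).subtype
  let main : ConjClasses (Perm (Fin n)) → ConjClasses (alternatingGroup (Fin n)) := fun C =>
    if h : ∃ D, F D = C then h.choose else ConjClasses.mk 1
  have hmain : ∀ D, F (main (F D)) = F D := fun D => by
    have h : ∃ D', F D' = F D := ⟨D, rfl⟩
    simp only [main, dif_pos h]
    exact h.choose_spec
  have hFmk : ∀ D, F D = ConjClasses.mk ((Quotient.out D).1 : Perm (Fin n)) := fun D => by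
    conv_lhs => rw [← mk_out D]
    rfl
  have hsplit : ∀ D, main (F D) ≠ D → IsSplit (Quotient.out D).1.cycleType n := by
    intro D hne
    refine isSplit_of _ (split_of_not_isConj (b := Quotient.out (main (F D))) ?_ ?_)
    · exact ConjClasses.mk_eq_mk_iff_isConj.mp
        ((hFmk D).symm.trans ((hmain D).symm.trans (hFmk (main (F D)))))
    · intro hc
      exact hne ((mk_out _).symm.trans ((ConjClasses.mk_eq_mk_iff_isConj.mpr hc).symm.trans (mk_out D)))
  let Φ : ConjClasses (alternatingGroup (Fin n)) → ConjClasses (Perm (Fin n)) := fun D =>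
    if h : main (F D) = D then F D else ConjClasses.mk (exists_class hn (hsplit D h)).choose
  have hsignF : ∀ D, ∀ g : Perm (Fin n), F D = ConjClasses.mk g → Perm.sign g = 1 := by
    intro D g h
    obtain ⟨a, rfl⟩ := ConjClasses.mk_surjective D
    obtain ⟨c, hc⟩ := isConj_iff.mp (ConjClasses.mk_eq_mk_iff_isConj.mp h)
    rw [← hc]
    simp [Equiv.Perm.mem_alternatingGroup.mp a.2]
  have hodd : ∀ D (h : main (F D) ≠ D), Perm.sign (exists_class hn (hsplit D h)).choose = -1 := by
    intro D h
    have hs := (flip_facts hn (hsplit D h)).2.2.1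
    have hev := Equiv.Perm.mem_alternatingGroup.mp (Quotient.out D).2
    rw [Equiv.Perm.sign_of_cycleType, ← hs, pow_succ] at hev
    rw [Equiv.Perm.sign_of_cycleType, (exists_class hn (hsplit D h)).choose_spec]
    rcases Int.units_eq_one_or ((-1 : ℤˣ) ^ ((flipType (Quotient.out D).1.cycleType).sum +
      (flipType (Quotient.out D).1.cycleType).card)) with h1 | h1
    · rw [h1] at hev; exact absurd hev (by decide)
    · exact h1
  haveI : Fintype (ConjClasses (alternatingGroup (Fin n))) := Fintype.ofFinite _
  haveI : Fintype (ConjClasses (Perm (Fin n))) := Fintype.ofFinite _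
  rw [Nat.card_eq_fintype_card, Nat.card_eq_fintype_card]
  refine Fintype.card_lt_of_injective_of_notMem Φ
    (b := ConjClasses.mk (Equiv.swap (⟨0, by omega⟩ : Fin n) ⟨1, by omega⟩)) ?_ ?_
  · intro D E h
    by_cases hD : main (F D) = D
    · by_cases hE : main (F E) = E
      · simp only [Φ, dif_pos hD, dif_pos hE] at h
        rw [← hD, h, hE]
      · simp only [Φ, dif_pos hD, dif_neg hE] at h
        have := hsignF D _ h
        rw [hodd E hE] at this
        exact absurd this (by decide)
    · by_cases hE : main (F E) = E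
      · simp only [Φ, dif_neg hD, dif_pos hE] at h
        have := hsignF E _ h.symm
        rw [hodd D hD] at this
        exact absurd this (by decide)
      · simp only [Φ, dif_neg hD, dif_neg hE] at h
        have ht := Equiv.Perm.isConj_iff_cycleType_eq.mp (ConjClasses.mk_eq_mk_iff_isConj.mp h)
        rw [(exists_class hn (hsplit D hD)).choose_spec,
          (exists_class hn (hsplit E hE)).choose_spec] at ht
        have hteq := flip_inj hn (hsplit D hD) (hsplit E hE) ht
        have hF : F D = F E := (hFmk D).trans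
          ((ConjClasses.mk_eq_mk_iff_isConj.mpr (Equiv.Perm.isConj_iff_cycleType_eq.mpr hteq)).trans
            (hFmk E).symm)
        by_contra hne
        set M := main (F D) with hM
        have hME : main (F E) = M := by rw [hM, hF]
        rw [hME] at hE
        have k1 := ConjClasses.mk_eq_mk_iff_isConj.mp
          ((hFmk M).symm.trans ((hmain D).trans (hFmk D)))
        have k2 := ConjClasses.mk_eq_mk_iff_isConj.mp
          ((hFmk M).symm.trans (((hmain D).trans hF).trans (hFmk E)))
        have l1 : ¬ IsConj (Quotient.out M) (Quotient.out D) := fun hc => hD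
          ((mk_out M).symm.trans ((ConjClasses.mk_eq_mk_iff_isConj.mpr hc).trans (mk_out D)))
        have l2 : ¬ IsConj (Quotient.out M) (Quotient.out E) := fun hc => hE
          ((mk_out M).symm.trans ((ConjClasses.mk_eq_mk_iff_isConj.mpr hc).trans (mk_out E)))
        exact hne ((mk_out D).symm.trans ((ConjClasses.mk_eq_mk_iff_isConj.mpr
          (isConj_of_two k1 k2 l1 l2)).trans (mk_out E)))
  · rintro ⟨D, hD⟩
    by_cases h : main (F D) = D
    · simp only [Φ, dif_pos h] at hD
      have := hsignF D _ hD
      rw [Equiv.Perm.sign_swap (by simp)] at this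
      exact absurd this (by decide)
    · simp only [Φ, dif_neg h] at hD
      have ht := Equiv.Perm.isConj_iff_cycleType_eq.mp (ConjClasses.mk_eq_mk_iff_isConj.mp hD)
      rw [(exists_class hn (hsplit D h)).choose_spec,
        (Equiv.Perm.swap_isSwap_iff.mpr (by simp)).isCycle.cycleType,
        Equiv.Perm.support_swap (by simp), Finset.card_pair (by simp)] at ht
      exact (flip_facts hn (hsplit D h)).2.2.2.1 ht

theorem card_perm_le : Nat.card (ConjClasses (Perm (Fin n))) ≤ Fintype.card (Nat.Partition n) := by
  classical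
  rw [← Nat.card_eq_fintype_card]
  refine Nat.card_le_card_of_injective (fun C =>
    (⟨(Quotient.out C : Perm (Fin n)).partition.parts,
      (Quotient.out C : Perm (Fin n)).partition.parts_pos,
      (Quotient.out C : Perm (Fin n)).partition.parts_sum.trans (Fintype.card_fin n)⟩ :
      Nat.Partition n)) ?_
  intro C D h
  exact (mk_out C).symm.trans ((ConjClasses.mk_eq_mk_iff_isConj.mpr
    (Equiv.Perm.partition_eq_of_isConj.mpr (Nat.Partition.ext (congrArg Nat.Partition.parts h :)))).trans (mk_out D))

/-- For n ≥ 5 the number of conjugacy classes of the alternating group is less than that of the symmetric group, which is at most 2^(n-2). -/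
theorem result (n : ℕ) (hn : 5 ≤ n) : Nat.card (ConjClasses (alternatingGroup (Fin n))) < Nat.card (ConjClasses (Equiv.Perm (Fin n))) ∧ Nat.card (ConjClasses (Equiv.Perm (Fin n))) ≤ 2 ^ (n - 2) := by
  refine ⟨card_lt hn, card_perm_le.trans ?_⟩
  obtain ⟨m, rfl⟩ : ∃ m, n = m + 5 := ⟨n - 5, by omega⟩
  exact (card_partition_le m).trans (le_of_eq (by rw [show m + 5 - 2 = m + 3 by omega]))

end Cfsg.Agent.S4198
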