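import Cfsg.Statements.S4200
import Cfsg.Agent.Lib.Core.Basic
import Mathlib.GroupTheory.GroupAction.CardCommute
import Mathlib.Tactic.Ring

set_option autoImplicit false
open Cfsg

namespace Cfsg.Agent.S4200

open Subgroup

/-- Commuting pairs. -/
def pairs (X : Type*) [Group X] : Type _ := {p : X × X // Commute p.1 p.2}

theorem card_centralizer_le {X : Type*} [Group X] [Finite X] (Y : Subgroup X) (a : X) :
    Nat.card (centralizer ({a} : Set X)) ≤
      Y.index * Nat.card ↥(centralizer ({a} : Set X) ⊓ Y) := by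
  have h : Nat.card ↥(centralizer ({a} : Set X) ⊓ Y) * Y.relIndex (centralizer ({a} : Set X)) =
      Nat.card (centralizer ({a} : Set X)) := by
    rw [← inf_relIndex_left (centralizer ({a} : Set X)) Y]
    exact Cfsg.Lib.Core.card_mul_relIndex inf_le_left
  rw [← h, mul_comm]
  exact Nat.mul_le_mul_right _ ((relIndex_top_right Y) ▸ relIndex_le_of_le_right (H := Y) le_top (by rw [relIndex_top_right]; exact index_ne_zero_of_finite))

/-- Let Y be a subgroup of the finite group X, of index m. Then the numbers of conjugacy classes satisfy k(Y) ≤ m·k(X) and k(X) ≤ m·k(Y), and the second inequality is strict unless Y is normal in X. -/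
theorem result {X : Type*} [Group X] [Finite X] (Y : Subgroup X) : Nat.card (ConjClasses Y) ≤ Y.index * Nat.card (ConjClasses X) ∧ Nat.card (ConjClasses X) ≤ Y.index * Nat.card (ConjClasses Y) ∧ (¬ Y.Normal → Nat.card (ConjClasses X) < Y.index * Nat.card (ConjClasses Y)) := by
  classical
  haveI := Fintype.ofFinite X
  set P := fun (A B : Subgroup X) => {c : X × X // c.1 ∈ A ∧ c.2 ∈ B ∧ Commute c.1 c.2} with hP
  have hk : ∀ A : Subgroup X, Nat.card (ConjClasses A) * Nat.card A = Nat.card (P A A) := fun A => by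
    rw [← card_comm_eq_card_conjClasses_mul_card]
    exact Nat.card_congr
      { toFun := fun c => ⟨((c.1.1 : X), (c.1.2 : X)), c.1.1.2, c.1.2.2, congrArg Subtype.val c.2⟩
        invFun := fun c => ⟨(⟨c.1.1, c.2.1⟩, ⟨c.1.2, c.2.2.1⟩), Subtype.ext c.2.2.2⟩
        left_inv := fun c => rfl
        right_inv := fun c => rfl }
  have hk' : Nat.card (ConjClasses X) * Nat.card X = Nat.card (P ⊤ ⊤) := by
    rw [← card_comm_eq_card_conjClasses_mul_card]
    exact Nat.card_congr
      { toFun := fun c => ⟨c.1, mem_top _, mem_top _, c.2⟩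
        invFun := fun c => ⟨c.1, c.2.2.2⟩
        left_inv := fun c => rfl
        right_inv := fun c => rfl }
  have hsum : ∀ A B : Subgroup X,
      Nat.card (P A B) = ∑ a : A, Nat.card ↥(centralizer ({(a : X)} : Set X) ⊓ B) := fun A B => by
    rw [← Nat.card_sigma]
    exact Nat.card_congr
      { toFun := fun c => ⟨⟨c.1.1, c.2.1⟩, ⟨c.1.2, mem_centralizer_singleton_iff.2 c.2.2.2.symm, c.2.2.1⟩⟩
        invFun := fun s => ⟨((s.1 : X), (s.2 : X)), s.1.2, s.2.2.2,
          (mem_centralizer_singleton_iff.1 s.2.2.1).symm⟩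
        left_inv := fun c => rfl
        right_inv := fun s => rfl }
  have hswap : ∀ A B : Subgroup X, Nat.card (P A B) = Nat.card (P B A) := fun A B =>
    Nat.card_congr
      { toFun := fun c => ⟨(c.1.2, c.1.1), c.2.2.1, c.2.1, c.2.2.2.symm⟩
        invFun := fun c => ⟨(c.1.2, c.1.1), c.2.2.1, c.2.1, c.2.2.2.symm⟩
        left_inv := fun c => rfl
        right_inv := fun c => rfl }
  have hstep : ∀ A : Subgroup X, Nat.card (P A ⊤) ≤ Y.index * Nat.card (P A Y) := fun A => by
    rw [hsum, hsum, Finset.mul_sum]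
    refine Finset.sum_le_sum fun a _ => ?_
    rw [inf_top_eq]
    exact card_centralizer_le Y a
  have hcY := Y.index_mul_card
  refine ⟨?_, ?_, fun hn => ?_⟩
  · refine Nat.le_of_mul_le_mul_right (c := Nat.card Y) ?_ Nat.card_pos
    calc Nat.card (ConjClasses Y) * Nat.card Y = Nat.card (P Y Y) := hk Y
      _ ≤ Nat.card (P ⊤ ⊤) := Nat.card_le_card_of_injective
          (fun c => ⟨c.1, mem_top _, mem_top _, c.2.2.2⟩)
          fun c d h => Subtype.ext (congrArg (·.1) h :)
      _ = _ := by rw [← hk', ← hcY]; ring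
  · refine Nat.le_of_mul_le_mul_right (c := Nat.card X) ?_ Nat.card_pos
    calc Nat.card (ConjClasses X) * Nat.card X = Nat.card (P ⊤ ⊤) := hk'
      _ ≤ Y.index * Nat.card (P ⊤ Y) := hstep ⊤
      _ ≤ Y.index * (Y.index * Nat.card (P Y Y)) := by
          rw [hswap]; exact Nat.mul_le_mul_left _ (hstep Y)
      _ = _ := by rw [← hk, ← hcY]; ring
  · refine Nat.lt_of_mul_lt_mul_right (a := Nat.card X) ?_
    have hlt : Nat.card (P Y ⊤) < Y.index * Nat.card (P Y Y) := by
      by_contra hcon
      refine hn ⟨fun y hy g => ?_⟩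
      rw [hsum, hsum, Finset.mul_sum] at hcon
      have heq := (Finset.sum_eq_sum_iff_of_le (fun a _ => by
        rw [inf_top_eq]; exact card_centralizer_le Y a)).1 (le_antisymm
        (Finset.sum_le_sum fun a _ => by rw [inf_top_eq]; exact card_centralizer_le Y a)
        (not_lt.1 hcon)) ⟨y, hy⟩ (Finset.mem_univ _)
      rw [inf_top_eq] at heq
      set C := centralizer ({y} : Set X) with hC
      let φ : C ⧸ Y.subgroupOf C → X ⧸ Y := Quotient.map' Subtype.val fun a b h => by
        rw [QuotientGroup.leftRel_apply] at h ⊢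
        exact h
      have hφi : Function.Injective φ := fun a b h => by
        induction a using QuotientGroup.induction_on with | _ a => ?_
        induction b using QuotientGroup.induction_on with | _ b => ?_
        have h' : ((a : X) : X ⧸ Y) = ((b : X) : X ⧸ Y) := h
        exact QuotientGroup.eq.2 (mem_subgroupOf.2 (QuotientGroup.eq.1 h'))
      have hidx : Nat.card (C ⧸ Y.subgroupOf C) = Nat.card (X ⧸ Y) := by
        show Y.relIndex C = Y.index
        refine Nat.eq_of_mul_eq_mul_left (Nat.card_pos (α := ↥(C ⊓ Y))) ?_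
        rw [← inf_relIndex_left C Y, Cfsg.Lib.Core.card_mul_relIndex inf_le_left, mul_comm, heq]
      obtain ⟨q, hq⟩ := (hφi.bijective_of_nat_card_le hidx.ge).2 (QuotientGroup.mk g⁻¹)
      induction q using QuotientGroup.induction_on with | _ c => ?_
      have hcy : (c : X)⁻¹ * g⁻¹ ∈ Y := QuotientGroup.eq.1 hq
      have hc : (c : X) * y = y * c := mem_centralizer_singleton_iff.1 c.2
      have h := Y.mul_mem (Y.mul_mem (Y.inv_mem hcy) hy) hcy
      have e : ((c : X)⁻¹ * g⁻¹)⁻¹ * y * ((c : X)⁻¹ * g⁻¹) = g * y * g⁻¹ := by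
        calc _ = g * ((c : X) * y) * (c : X)⁻¹ * g⁻¹ := by group
          _ = g * (y * c) * (c : X)⁻¹ * g⁻¹ := by rw [hc]
          _ = _ := by group
      rwa [e] at h
    calc Nat.card (ConjClasses X) * Nat.card X = Nat.card (P ⊤ ⊤) := hk'
      _ ≤ Y.index * Nat.card (P ⊤ Y) := hstep ⊤
      _ < Y.index * (Y.index * Nat.card (P Y Y)) := by
          rw [hswap]
          exact Nat.mul_lt_mul_of_pos_left hlt (Nat.pos_of_ne_zero index_ne_zero_of_finite)
      _ = _ := by rw [← hk, ← hcY]; ring

end Cfsg.Agent.S4200
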