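import Cfsg.Statements.S4201
import Cfsg.Agent.Lib.Core.Basic
import Mathlib.Tactic.Ring
import Mathlib.GroupTheory.GroupAction.CardCommute

set_option autoImplicit false
open Cfsg

namespace Cfsg.Agent.S4201

open Subgroup

/-- Translate the second coordinate of commuting pairs into a normal-coset representative. -/
theorem card_shift {X : Type*} [Group X] [Finite X] (N : Subgroup X) (R : X → Prop) (c : X ⧸ N) :
    Nat.card {p : X × X // R p.1 ∧ (p.2 : X ⧸ N) = c ∧ Commute p.1 p.2} ≤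
      Nat.card {p : X × X // R p.1 ∧ p.2 ∈ N ∧ Commute p.1 p.2} := by
  classical
  let b : X → X := fun a =>
    if h : ∃ y : X, (y : X ⧸ N) = c ∧ Commute a y then h.choose else 1
  have hb : ∀ p : {p : X × X // R p.1 ∧ (p.2 : X ⧸ N) = c ∧ Commute p.1 p.2},
      (b p.1.1)⁻¹ * p.1.2 ∈ N ∧ Commute p.1.1 ((b p.1.1)⁻¹ * p.1.2) := fun p => by
    have h : ∃ y : X, (y : X ⧸ N) = c ∧ Commute p.1.1 y := ⟨p.1.2, p.2.2.1, p.2.2.2⟩
    simp only [b, dif_pos h]
    exact ⟨QuotientGroup.eq.1 (h.choose_spec.1.trans p.2.2.1.symm),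
      Commute.mul_right (Commute.inv_right_iff.2 h.choose_spec.2) p.2.2.2⟩
  refine Nat.card_le_card_of_injective
    (fun p => ⟨(p.1.1, (b p.1.1)⁻¹ * p.1.2), p.2.1, hb p⟩) fun p q hpq => ?_
  have h := congrArg Subtype.val hpq
  simp only [Prod.mk.injEq] at h
  exact Subtype.ext (Prod.ext h.1 (mul_left_cancel ((h.1 ▸ h.2 :))))

/-- If N is a normal subgroup of the finite group X then k(X) ≤ k(N)·k(X ⧸ N), where k denotes the number of conjugacy classes. -/
theorem result {X : Type*} [Group X] [Finite X] (N : Subgroup X) [N.Normal] : Nat.card (ConjClasses X) ≤ Nat.card (ConjClasses N) * Nat.card (ConjClasses (X ⧸ N)) := by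
  classical
  refine Nat.le_of_mul_le_mul_right (c := Nat.card X) ?_ Nat.card_pos
  rw [← card_comm_eq_card_conjClasses_mul_card]
  haveI : Fintype ((X ⧸ N) × (X ⧸ N)) := Fintype.ofFinite _
  let π : X × X → (X ⧸ N) × (X ⧸ N) := fun p => ((p.1 : X ⧸ N), (p.2 : X ⧸ N))
  let f : {p : X × X // Commute p.1 p.2} →
      {p : (X ⧸ N) × (X ⧸ N) // Commute p.1 p.2} := fun p =>
    ⟨π p.1, Commute.map p.2 (QuotientGroup.mk' N)⟩
  have hfib : ∀ c, Nat.card {p // f p = c} ≤ Nat.card {p : N × N // Commute p.1 p.2} := fun c => by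
    have h1 : Nat.card {p // f p = c} ≤ Nat.card {p : X × X //
        (fun a : X => (a : X ⧸ N) = c.1.1) p.1 ∧ (p.2 : X ⧸ N) = c.1.2 ∧ Commute p.1 p.2} :=
      Nat.card_le_card_of_injective (fun p => ⟨p.1.1,
        congrArg (fun q => q.1.1) p.2, congrArg (fun q => q.1.2) p.2, p.1.2⟩)
        fun p q h => Subtype.ext (Subtype.ext (congrArg (·.1) h :))
    refine h1.trans (le_trans (card_shift N (fun a : X => (a : X ⧸ N) = c.1.1) c.1.2) ?_)
    refine le_trans (Nat.card_le_card_of_injective (β := {p : X × X //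
        (fun a : X => a ∈ N) p.1 ∧ (p.2 : X ⧸ N) = c.1.1 ∧ Commute p.1 p.2})
      (fun p => ⟨(p.1.2, p.1.1), p.2.2.1, p.2.1, p.2.2.2.symm⟩)
      fun p q h => Subtype.ext (Prod.swap_injective (congrArg (·.1) h :))) ?_
    refine (card_shift N _ c.1.1).trans (le_of_eq ?_)
    exact Nat.card_congr
      { toFun := fun p => ⟨(⟨p.1.1, p.2.1⟩, ⟨p.1.2, p.2.2.1⟩), Subtype.ext p.2.2.2.eq⟩
        invFun := fun p => ⟨((p.1.1 : X), (p.1.2 : X)), p.1.1.2, p.1.2.2, congrArg Subtype.val p.2.eq⟩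
        left_inv := fun p => rfl
        right_inv := fun p => rfl }
  haveI : Fintype {p : (X ⧸ N) × (X ⧸ N) // Commute p.1 p.2} := Fintype.ofFinite _
  calc Nat.card {p : X × X // Commute p.1 p.2}
      = finsum (fun c => Nat.card {p // f p = c}) := by
        rw [finsum_eq_sum_of_fintype, ← Nat.card_sigma]
        exact Nat.card_congr (Equiv.sigmaFiberEquiv f).symm
    _ ≤ Nat.card {p : (X ⧸ N) × (X ⧸ N) // Commute p.1 p.2} *
          Nat.card {p : N × N // Commute p.1 p.2} := by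
        rw [finsum_eq_sum_of_fintype, Nat.card_eq_fintype_card (α := {p : (X ⧸ N) × (X ⧸ N) // _})]
        exact (Finset.sum_le_card_nsmul _ _ _ fun c _ => hfib c).trans (le_of_eq (by simp))
    _ = Nat.card (ConjClasses N) * Nat.card (ConjClasses (X ⧸ N)) * Nat.card X := by
        rw [card_comm_eq_card_conjClasses_mul_card, card_comm_eq_card_conjClasses_mul_card,
          N.card_eq_card_quotient_mul_card_subgroup]
        ring

end Cfsg.Agent.S4201
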