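import Cfsg.Statements.S4203
import Cfsg.Agent.S0144
import Cfsg.Agent.Lib.Solv.Huppert

set_option autoImplicit false
open Cfsg

namespace Cfsg.Agent.S4203

open Subgroup

universe u'

/-- All maximal subgroups have index a prime or the square of a prime. -/
def MaxPrimeSq (G : Type u') [Group G] : Prop :=
  ∀ M : Subgroup G, IsCoatom M → ∃ p : ℕ, p.Prime ∧ (M.index = p ∨ M.index = p ^ 2)

theorem isSolvable_aux : ∀ n : ℕ, ∀ (G : Type u') [Group G] [Finite G],
    Nat.card G = n → MaxPrimeSq G → Group.IsSolvable G := by
  intro n
  induction n using Nat.strong_induction_on with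
  | _ n ih =>
    intro G _ _ hn h
    by_cases h1 : Nat.card G = 1
    · haveI : Subsingleton G := (Nat.card_eq_one_iff_unique.1 h1).1
      exact Group.isSolvable_of_comm fun _ _ => Subsingleton.elim _ _
    obtain ⟨q, hq, hmax⟩ : ∃ q ∈ (Nat.card G).primeFactors, ∀ r ∈ (Nat.card G).primeFactors, r ≤ q := by
      have hne : (Nat.card G).primeFactors.Nonempty := by
        obtain ⟨r, hr, hrd⟩ := Nat.exists_prime_and_dvd h1
        exact ⟨r, Nat.mem_primeFactors.2 ⟨hr, hrd, Nat.card_pos.ne'⟩⟩
      exact ⟨_, Finset.max'_mem _ hne, fun r hr => Finset.le_max' _ r hr⟩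
    obtain ⟨hqp, hqd, -⟩ := Nat.mem_primeFactors.1 hq
    haveI := Fact.mk hqp
    obtain ⟨P⟩ := (inferInstance : Nonempty (Sylow q G))
    by_cases hPn : (P : Subgroup G).Normal
    · have hlt : Nat.card (G ⧸ (P : Subgroup G)) < n := by
        have hc := card_eq_card_quotient_mul_card_subgroup (P : Subgroup G)
        have h2 : 1 < Nat.card (P : Subgroup G) := hqp.one_lt.trans_le
          (Nat.le_of_dvd Nat.card_pos (P.dvd_card_of_dvd_card hqd))
        have h3 : 0 < Nat.card (G ⧸ (P : Subgroup G)) := Nat.card_pos
        rw [← hn, hc]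
        exact lt_mul_of_one_lt_right h3 h2
      haveI : Group.IsSolvable (G ⧸ (P : Subgroup G)) := ih _ hlt _ rfl fun M hM => by
        obtain ⟨r, hr, hi⟩ := h _ (isCoatom_comap_of_surjective (QuotientGroup.mk'_surjective _) hM)
        rw [index_comap_of_surjective M (QuotientGroup.mk'_surjective _)] at hi
        exact ⟨r, hr, hi⟩
      haveI : Group.IsSolvable (P : Subgroup G) := by
        haveI := P.2.isNilpotent
        infer_instance
      exact solvable_of_ker_le_range (P : Subgroup G).subtype (QuotientGroup.mk' (P : Subgroup G))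
        (by simp)
    · obtain ⟨M, hM, hle⟩ := (eq_top_or_exists_le_coatom (normalizer ((P : Subgroup G) : Set G))).resolve_left
        (fun ht => hPn (normalizer_eq_top_iff.1 ht))
      have hmod := Cfsg.Lib.Huppert.index_modEq_one P hle
      obtain ⟨r, hr, hi⟩ := h M hM
      have hrd : r ∣ M.index := by rcases hi with hi | hi <;> rw [hi] <;> simp [pow_two]
      have hrle : r ≤ q := hmax r (Nat.mem_primeFactors.2 ⟨hr, hrd.trans M.index_dvd_card, Nat.card_pos.ne'⟩)
      have hrne : r ≠ q := by
        rintro rfl
        have h0 : M.index % r = 0 := Nat.mod_eq_zero_of_dvd hrd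
        have h2 : M.index % r = 1 % r := hmod
        rw [h0, Nat.mod_eq_of_lt hr.one_lt] at h2
        omega
      have hrq : r < q := lt_of_le_of_ne hrle hrne
      have hsq : q ∣ r + 1 := by
        rcases hi with hi | hi <;> rw [hi] at hmod
        · exact absurd (Nat.ModEq.eq_of_lt_of_lt hmod hrq hqp.one_lt) hr.ne_one
        · have h2 : q ∣ r ^ 2 - 1 := (Nat.modEq_iff_dvd' (Nat.one_le_pow _ _ hr.pos)).1 hmod.symm
          have e : r ^ 2 - 1 = (r + 1) * (r - 1) := by
            have := Nat.sq_sub_sq r 1
            simpa using this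
          rw [e] at h2
          rcases hqp.dvd_mul.1 h2 with h3 | h3
          · exact h3
          · have := Nat.le_of_dvd (by have := hr.two_le; omega) h3
            omega
      have hqr : q = r + 1 := le_antisymm (Nat.le_of_dvd (by omega) hsq) hrq
      have hr2 : r = 2 := by
        rcases hr.eq_two_or_odd with h2 | h2
        · exact h2
        · rcases hqp.eq_two_or_odd with h3 | h3
          · have := hr.two_le; omega
          · omega
      obtain ⟨a, b, hab⟩ : ∃ a b : ℕ, Nat.card G = 2 ^ a * 3 ^ b := by
        refine ⟨(Nat.card G).factorization 2, (Nat.card G).factorization 3, ?_⟩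
        conv_lhs => rw [← Nat.factorization_prod_pow_eq_self (Nat.card_pos (α := G)).ne']
        rw [Nat.prod_factorization_eq_prod_primeFactors]
        have hsub : (Nat.card G).primeFactors ⊆ {2, 3} := fun s hs => by
          have h2 := hmax s hs
          have h3 := (Nat.mem_primeFactors.1 hs).1.two_le
          simp only [Finset.mem_insert, Finset.mem_singleton]
          omega
        rw [Finset.prod_subset hsub (fun x _ hx => by
          rw [Finsupp.notMem_support_iff.1 (by rwa [Nat.support_factorization]), pow_zero])]
        rw [Finset.prod_pair (by norm_num)]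
      exact Cfsg.Agent.S0144.result 2 3 a b Nat.prime_two Nat.prime_three hab

/-- A finite group in which every maximal subgroup has index a prime or the square of a prime is solvable. -/
theorem result {G : Type*} [Group G] [Finite G] (h : ∀ M : Subgroup G, IsCoatom M → ∃ p : ℕ, p.Prime ∧ (M.index = p ∨ M.index = p ^ 2)) : Group.IsSolvable G := by
  exact isSolvable_aux _ G rfl h

end Cfsg.Agent.S4203
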