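import Cfsg.Statements.S4204

set_option autoImplicit false
set_option linter.style.haveILetI false
open Cfsg

namespace Cfsg.Agent.S4204

open Subgroup in
theorem step {G : Type*} [Group G] (H K : Subgroup G) [H.Normal] [K.Normal]
    (A : ℕ → ℕ → Subgroup G) (hA : ∀ i j, (A i j).Normal)
    (hH : ∀ i j, ⁅A i j, H⁆ ≤ A (i + 1) j) (hK : ∀ i j, ⁅A i j, K⁆ ≤ A i (j + 1)) (n : ℕ) :
    ⁅(⨆ x : {x : ℕ × ℕ // x.1 + x.2 = n}, A x.1.1 x.1.2), H ⊔ K⁆ ≤
      ⨆ x : {x : ℕ × ℕ // x.1 + x.2 = n + 1}, A x.1.1 x.1.2 := by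
  set T := ⨆ x : {x : ℕ × ℕ // x.1 + x.2 = n + 1}, A x.1.1 x.1.2
  haveI : T.Normal := by
    refine ⟨fun y hy g => ?_⟩
    have h : T.map (MulAut.conj g).toMonoidHom ≤ T := by
      rw [Subgroup.map_iSup]
      refine iSup_mono fun x => ?_
      rintro _ ⟨z, hz, rfl⟩
      exact (hA _ _).conj_mem z hz g
    exact h ⟨y, hy, rfl⟩
  rw [← QuotientGroup.ker_mk' T, ← Subgroup.map_eq_bot_iff, map_commutator, commutator_eq_bot_iff_le_centralizer,
    map_le_iff_le_comap, iSup_le_iff]
  rintro ⟨⟨i, j⟩, hij⟩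
  rw [← map_le_iff_le_comap, Subgroup.map_sup, ← commutator_eq_bot_iff_le_centralizer, ← Subgroup.map_sup,
    ← map_commutator, Subgroup.map_eq_bot_iff, QuotientGroup.ker_mk']
  haveI := hA i j
  haveI : (⁅A i j, H ⊔ K⁆).Normal := inferInstance
  have hsup : ⁅A i j, H ⊔ K⁆ ≤ T := by
    rw [← QuotientGroup.ker_mk' T, ← Subgroup.map_eq_bot_iff, map_commutator, Subgroup.map_sup, commutator_comm,
      commutator_eq_bot_iff_le_centralizer, sup_le_iff, ← commutator_eq_bot_iff_le_centralizer,
      ← commutator_eq_bot_iff_le_centralizer, ← map_commutator, ← map_commutator, Subgroup.map_eq_bot_iff,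
      Subgroup.map_eq_bot_iff, QuotientGroup.ker_mk', commutator_comm H, commutator_comm K]
    exact ⟨(hH i j).trans (le_iSup_of_le ⟨(i + 1, j), by simp at hij ⊢; omega⟩ le_rfl),
      (hK i j).trans (le_iSup_of_le ⟨(i, j + 1), by simp at hij ⊢; omega⟩ le_rfl)⟩
  exact hsup

/-- If `H` and `K` are normal subgroups of a finite group with `H` nilpotent of class at most `c` and `K` nilpotent of class at most `d` (the terms with index `c`, respectively `d`, of their lower central series are trivial, indices starting at `0`), then `HK` is nilpotent of class at most `c + d`. -/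
theorem result {G : Type*} [Group G] [Finite G] (H K : Subgroup G) [H.Normal] [K.Normal] (c d : ℕ) (hH : H.lowerCentralSeries c = ⊥) (hK : K.lowerCentralSeries d = ⊥) : (H ⊔ K).lowerCentralSeries (c + d) = ⊥ := by
  let γ : Subgroup G → ℕ → Subgroup G := fun L i => if i = 0 then ⊤ else L.lowerCentralSeries (i - 1)
  have hn : ∀ (L : Subgroup G) [L.Normal] (i : ℕ), (γ L i).Normal := by
    intro L _ i
    dsimp only [γ]
    split_ifs with h
    · infer_instance
    · induction (i - 1) with
      | zero => simpa using ‹L.Normal›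
      | succ k ih => rw [Subgroup.lowerCentralSeries_succ]; infer_instance
  haveI := hn H
  haveI := hn K
  have hstep : ∀ (L : Subgroup G) [L.Normal] (i : ℕ), ⁅γ L i, L⁆ ≤ γ L (i + 1) := by
    intro L _ i
    dsimp only [γ]
    rcases i with _ | i
    · simpa using Subgroup.commutator_le_right ⊤ L
    · simp [Subgroup.lowerCentralSeries_succ]
  let A : ℕ → ℕ → Subgroup G := fun i j => γ H i ⊓ γ K j
  have hA : ∀ i j, (A i j).Normal := fun i j => Subgroup.normal_inf_normal _ _
  have hAH : ∀ i j, ⁅A i j, H⁆ ≤ A (i + 1) j := fun i j =>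
    le_inf ((Subgroup.commutator_mono inf_le_left le_rfl).trans (hstep H i))
      ((Subgroup.commutator_mono inf_le_right le_rfl).trans (Subgroup.commutator_le_left (γ K j) H))
  have hAK : ∀ i j, ⁅A i j, K⁆ ≤ A i (j + 1) := fun i j =>
    le_inf ((Subgroup.commutator_mono inf_le_left le_rfl).trans (Subgroup.commutator_le_left (γ H i) K))
      ((Subgroup.commutator_mono inf_le_right le_rfl).trans (hstep K j))
  have key : ∀ n, (H ⊔ K).lowerCentralSeries n ≤
      ⨆ x : {x : ℕ × ℕ // x.1 + x.2 = n + 1}, A x.1.1 x.1.2 := by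
    intro n
    induction n with
    | zero =>
      rw [Subgroup.lowerCentralSeries_zero]
      refine sup_le (le_iSup_of_le ⟨(1, 0), rfl⟩ ?_) (le_iSup_of_le ⟨(0, 1), rfl⟩ ?_) <;> simp [A, γ]
    | succ n ih =>
      rw [Subgroup.lowerCentralSeries_succ]
      exact (Subgroup.commutator_mono ih le_rfl).trans (step H K A hA hAH hAK (n + 1))
  rw [eq_bot_iff]
  refine (key (c + d)).trans (iSup_le ?_)
  rintro ⟨⟨i, j⟩, hij⟩
  have hbot : ∀ (L : Subgroup G) (m : ℕ), L.lowerCentralSeries m = ⊥ → ∀ k, L.lowerCentralSeries (m + k) = ⊥ := by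
    intro L m hm k
    induction k with
    | zero => exact hm
    | succ k ih => rw [← Nat.add_assoc, Subgroup.lowerCentralSeries_succ, ih, Subgroup.commutator_bot_left]
  simp only at hij ⊢
  by_cases hi : c + 1 ≤ i
  · refine inf_le_left.trans ?_
    dsimp only [γ]
    rw [if_neg (by omega), show i - 1 = c + (i - 1 - c) by omega, hbot H c hH]
  · refine inf_le_right.trans ?_
    dsimp only [γ]
    rw [if_neg (by omega), show j - 1 = d + (j - 1 - d) by omega, hbot K d hK]

end Cfsg.Agent.S4204
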