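import Cfsg.Statements.S4206

set_option autoImplicit false
set_option linter.style.haveILetI false
open Cfsg

namespace Cfsg.Agent.S4206

/-- Let `H 0 ≥ H 1 ≥ H 2 ≥ ⋯` be normal subgroups of a finite group and `L` a subgroup with `⁅H i, L⁆ ≤ H (i+1)` for all `i`. Then `⁅H i, γ⁆ ≤ H (i + j + 1)` where `γ` is the `j`-th term of the lower central series of `L` (indexed from `0`, so the term with index `j` is the `(j+1)`-fold commutator). -/
theorem result {G : Type*} [Group G] [Finite G] (H : ℕ → Subgroup G) (hN : ∀ i, (H i).Normal) (hdesc : ∀ i, H (i + 1) ≤ H i) (L : Subgroup G) (hL : ∀ i, ⁅H i, L⁆ ≤ H (i + 1)) (i j : ℕ) : ⁅H i, L.lowerCentralSeries j⁆ ≤ H (i + j + 1) := by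
  induction j generalizing i with
  | zero => simpa using hL i
  | succ j ih =>
    rw [Subgroup.lowerCentralSeries_succ]
    set γ := L.lowerCentralSeries j
    haveI := hN (i + (j + 1) + 1)
    let q := QuotientGroup.mk' (H (i + (j + 1) + 1))
    have hbot : ∀ K : Subgroup G, K ≤ H (i + (j + 1) + 1) → K.map q = ⊥ := fun K hK =>
      (Subgroup.map_eq_bot_iff K).mpr (hK.trans (QuotientGroup.ker_mk' _).ge)
    have h1 : ⁅⁅L.map q, (H i).map q⁆, γ.map q⁆ = ⊥ := by
      rw [← Subgroup.map_commutator, ← Subgroup.map_commutator]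
      refine hbot _ (le_trans (Subgroup.commutator_mono ?_ le_rfl) ((ih (i + 1)).trans (le_of_eq (congrArg H (by omega)))))
      rw [Subgroup.commutator_comm]
      exact hL i
    have h2 : ⁅⁅(H i).map q, γ.map q⁆, L.map q⁆ = ⊥ := by
      rw [← Subgroup.map_commutator, ← Subgroup.map_commutator]
      exact hbot _ ((Subgroup.commutator_mono (ih i) le_rfl).trans ((hL _).trans (le_of_eq (congrArg H (by omega)))))
    have h3 := Subgroup.commutator_commutator_eq_bot_of_rotate h1 h2
    rw [Subgroup.commutator_comm, ← Subgroup.map_commutator, ← Subgroup.map_commutator,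
      Subgroup.map_eq_bot_iff, QuotientGroup.ker_mk'] at h3
    exact h3

end Cfsg.Agent.S4206
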