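import Cfsg.Statements.S4207
import Cfsg.Agent.Lib.PGroup.Basic
import Mathlib.Algebra.Module.ZMod
import Mathlib.Algebra.Field.ZMod
import Mathlib.LinearAlgebra.FreeModule.Basic
import Mathlib.LinearAlgebra.FiniteDimensional.Basic
import Mathlib.FieldTheory.Finiteness
import Mathlib.FieldTheory.Finite.Basic
import Mathlib.LinearAlgebra.Matrix.GeneralLinearGroup.Card
import Mathlib.LinearAlgebra.GeneralLinearGroup.Basic

set_option autoImplicit false
set_option linter.style.haveILetI false
open Cfsg

namespace Cfsg.Agent.S4207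

open Subgroup in
theorem ea_basis {W : Type*} [CommGroup W] [Finite W] {p r : ℕ} [hp : Fact p.Prime]
    (hpw : ∀ a : W, a ^ p = 1) (hr : Nat.card W = p ^ r) :
    (∃ b : Fin r → W, closure (Set.range b) = ⊤) ∧
      Nat.card (MulAut W) = ∏ i ∈ Finset.range r, (p ^ r - p ^ i) := by
  classical
  haveI : NeZero p := ⟨hp.out.ne_zero⟩
  have hnz : ∀ w : Additive W, p • w = 0 := fun w => Additive.toMul.injective (by simpa using hpw _)
  obtain ⟨hmod⟩ : Nonempty (Module (ZMod p) (Additive W)) := ⟨AddCommGroup.zmodModule hnz⟩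
  haveI := Fintype.ofFinite (Additive W)
  have hfin : Module.finrank (ZMod p) (Additive W) = r := by
    apply Nat.pow_right_injective hp.out.two_le
    show p ^ _ = p ^ r
    have h := Module.card_eq_pow_finrank (K := ZMod p) (V := Additive W)
    rw [ZMod.card, ← Nat.card_eq_fintype_card] at h
    exact h.symm.trans ((Nat.card_congr Additive.toMul).trans hr)
  haveI : Module.Finite (ZMod p) (Additive W) := Module.Finite.of_finite
  let b : Module.Basis (Fin r) (ZMod p) (Additive W) := Module.finBasisOfFinrankEq (ZMod p) (Additive W) hfin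
  constructor
  · refine ⟨fun i => Additive.toMul (b i), eq_top_iff.mpr fun w _ => ?_⟩
    have hall : ∀ v ∈ Submodule.span (ZMod p) (Set.range b),
        Additive.toMul v ∈ closure (Set.range fun i => Additive.toMul (b i)) := by
      intro v hv
      induction hv using Submodule.span_induction with
      | mem v hv => obtain ⟨i, rfl⟩ := hv; exact subset_closure ⟨i, rfl⟩
      | zero => exact one_mem _
      | add u v _ _ hu hv => exact mul_mem hu hv
      | smul c v _ hv =>
        rw [show c • v = c.val • v from by rw [← Nat.cast_smul_eq_nsmul (ZMod p), ZMod.natCast_zmod_val],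
          toMul_nsmul]
        exact pow_mem hv _
    exact hall (Additive.ofMul w) (by rw [b.span_eq]; trivial)
  · let e : MulAut W ≃ (Additive W ≃ₗ[ZMod p] Additive W) :=
      { toFun := fun f => { (MulEquiv.toAdditive f) with map_smul' := ZMod.map_smul (MulEquiv.toAdditive f).toAddMonoidHom }
        invFun := fun l => MulEquiv.toAdditive.symm l.toAddEquiv
        left_inv := fun f => MulEquiv.ext fun x => rfl
        right_inv := fun l => LinearEquiv.ext fun x => rfl }
    rw [Nat.card_congr e, ← Nat.card_congr (LinearMap.GeneralLinearGroup.generalLinearEquiv (ZMod p) (Additive W)).toEquiv,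
      ← Nat.card_congr (Matrix.GeneralLinearGroup.toLin' b).toEquiv,
      Matrix.card_GL_field, ZMod.card, Fin.prod_univ_eq_prod_range (fun i => p ^ r - p ^ i)]

open Subgroup in
theorem quot_comm {P : Type*} [Group P] [Finite P] {p : ℕ} [Fact p.Prime] (hP : IsPGroup p P) :
    (∀ a b : P ⧸ frattini P, a * b = b * a) ∧ ∀ a : P ⧸ frattini P, a ^ p = 1 := by
  refine ⟨fun a b => ?_, fun a => ?_⟩
  · obtain ⟨a, rfl⟩ := QuotientGroup.mk_surjective a
    obtain ⟨b, rfl⟩ := QuotientGroup.mk_surjective b
    rw [← QuotientGroup.mk_mul, ← QuotientGroup.mk_mul, QuotientGroup.eq]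
    apply Cfsg.Lib.PGroup.commutator_le_frattini hP
    rw [show (a * b)⁻¹ * (b * a) = b⁻¹ * a⁻¹ * b⁻¹⁻¹ * a⁻¹⁻¹ by group, ← commutatorElement_def]
    exact commutator_mem_commutator (mem_top _) (mem_top _)
  · obtain ⟨a, rfl⟩ := QuotientGroup.mk_surjective a
    rw [← QuotientGroup.mk_pow, QuotientGroup.eq_one_iff]
    exact Cfsg.Lib.PGroup.pow_mem_frattini hP a

open Subgroup in
theorem exists_generators {P : Type*} [Group P] [Finite P] {p r : ℕ} [Fact p.Prime] (hP : IsPGroup p P)
    (hr : (frattini P).index = p ^ r) : ∃ x : Fin r → P, closure (Set.range x) ⊔ frattini P = ⊤ := by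
  letI : CommGroup (P ⧸ frattini P) :=
    { (inferInstance : Group (P ⧸ frattini P)) with mul_comm := (quot_comm hP).1 }
  obtain ⟨b, hb⟩ := (ea_basis (W := P ⧸ frattini P) (quot_comm hP).2 (by rw [← index_eq_card]; exact hr)).1
  choose x hx using fun i => QuotientGroup.mk_surjective (b i)
  refine ⟨x, ?_⟩
  have htop : (closure (Set.range x)).map (QuotientGroup.mk' (frattini P)) = ⊤ := by
    rw [MonoidHom.map_closure, ← hb, ← Set.range_comp]
    congr 1
    exact congrArg Set.range (funext hx)
  have := congrArg (comap (QuotientGroup.mk' (frattini P))) htop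
  rwa [comap_map_eq, QuotientGroup.ker_mk', comap_top] at this

open Subgroup in
theorem card_free_action {A Ω : Type*} [Group A] [MulAction A Ω] [Finite A] [Finite Ω]
    (h : ∀ (a : A) (w : Ω), a • w = w → a = 1) : Nat.card A ∣ Nat.card Ω := by
  classical
  haveI := Fintype.ofFinite (Quotient (MulAction.orbitRel A Ω))
  rw [Nat.card_congr (MulAction.selfEquivSigmaOrbitsQuotientStabilizer A Ω), Nat.card_sigma]
  refine Finset.dvd_sum fun w _ => ?_
  have : MulAction.stabilizer A w.out = ⊥ := (eq_bot_iff_forall _).mpr fun a ha => h a _ ha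
  rw [← index_eq_card, this, index_bot]

open Subgroup in
theorem kernel_dvd {P : Type*} [Group P] [Finite P] {p n r : ℕ} [Fact p.Prime] (hP : Nat.card P = p ^ n)
    (hr : (frattini P).index = p ^ r) (A : Subgroup (MulAut P))
    (hA : ∀ α ∈ A, ∀ x : P, α x * x⁻¹ ∈ frattini P) : Nat.card A ∣ p ^ (r * (n - r)) := by
  obtain ⟨x, hx⟩ := exists_generators (IsPGroup.of_card hP) hr
  let Ω := {y : Fin r → P // ∀ i, y i * (x i)⁻¹ ∈ frattini P}
  letI : MulAction A Ω :=
    { smul := fun a y => ⟨fun i => (a : MulAut P) (y.1 i), fun i => by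
        rw [show (a : MulAut P) (y.1 i) * (x i)⁻¹ = ((a : MulAut P) (y.1 i) * (y.1 i)⁻¹) * (y.1 i * (x i)⁻¹) by group]
        exact mul_mem (hA a a.2 _) (y.2 i)⟩
      one_smul := fun y => rfl
      mul_smul := fun a b y => rfl }
  haveI : Finite (MulAut P) := Finite.of_injective (fun a => (a : P → P)) DFunLike.coe_injective
  have hcard : Nat.card Ω = p ^ (r * (n - r)) := by
    rw [Nat.card_congr (Equiv.subtypePiEquivPi (p := fun i y => y * (x i)⁻¹ ∈ frattini P)), Nat.card_pi]
    have h1 : ∀ i : Fin r, Nat.card {y : P // y * (x i)⁻¹ ∈ frattini P} = p ^ (n - r) := by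
      intro i
      rw [show Nat.card {y : P // y * (x i)⁻¹ ∈ frattini P} = Nat.card (frattini P) from
        Nat.card_congr ((Equiv.mulRight (x i)⁻¹).subtypeEquiv fun y => Iff.rfl)]
      have h2 := (frattini P).card_mul_index
      rw [hP, hr] at h2
      obtain ⟨a, -, ha⟩ := (Nat.dvd_prime_pow Fact.out).mp (Dvd.intro _ h2 : Nat.card (frattini P) ∣ p ^ n)
      rw [ha, ← pow_add] at h2
      have := Nat.pow_right_injective (Fact.out : p.Prime).two_le h2
      rw [ha]
      congr 1
      omega
    rw [Finset.prod_congr rfl fun i _ => h1 i, Finset.prod_const, Finset.card_univ, Fintype.card_fin, ← pow_mul,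
      mul_comm]
  rw [← hcard]
  refine card_free_action fun a w hw => ?_
  have hfix : ∀ i, (a : MulAut P) (w.1 i) = w.1 i := fun i => congrFun (congrArg Subtype.val hw) i
  have hgen : closure (Set.range w.1) = ⊤ := by
    refine frattini_nongenerating (top_le_iff.mp ?_)
    rw [← hx]
    refine sup_le ((closure_le _).mpr ?_) le_sup_right
    rintro _ ⟨i, rfl⟩
    rw [SetLike.mem_coe, show x i = (w.1 i * (x i)⁻¹)⁻¹ * w.1 i by group]
    exact Subgroup.mul_mem _ (mem_sup_right (inv_mem (w.2 i))) (mem_sup_left (subset_closure ⟨i, rfl⟩))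
  apply Subtype.ext
  apply MulEquiv.ext
  intro y
  have hle : closure (Set.range w.1) ≤ MonoidHom.eqLocus (a : MulAut P).toMonoidHom (MonoidHom.id P) :=
    (closure_le _).mpr (by rintro _ ⟨i, rfl⟩; exact hfix i)
  exact hle (hgen ▸ mem_top y)

/-- Let `P` be a group of order `p^n` whose Frattini subgroup has index `p^r`. Then any group of automorphisms of `P` each of which induces the identity on the Frattini quotient has order dividing `p^(r(n-r))`; in particular it is a `p`-group. -/
theorem result {P : Type*} [Group P] [Finite P] {p n r : ℕ} [Fact p.Prime] (hP : Nat.card P = p ^ n) (hr : (frattini P).index = p ^ r) (A : Subgroup (MulAut P)) (hA : ∀ α ∈ A, ∀ x : P, α x * x⁻¹ ∈ frattini P) : Nat.card A ∣ p ^ (r * (n - r)) := by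
  exact kernel_dvd hP hr A hA

end Cfsg.Agent.S4207
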