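import Cfsg.Statements.S4208
import Cfsg.Agent.S4207

set_option autoImplicit false
set_option linter.style.haveILetI false
open Cfsg

namespace Cfsg.Agent.S4208

/-- Let `P` be a group of order `p^n` whose Frattini subgroup has index `p^r`. Then the order of the automorphism group of `P` divides `p^(r(n-r)) · (p^r - 1)(p^r - p) ⋯ (p^r - p^(r-1))`. -/
theorem result {P : Type*} [Group P] [Finite P] {p n r : ℕ} [Fact p.Prime] (hP : Nat.card P = p ^ n) (hr : (frattini P).index = p ^ r) : Nat.card (MulAut P) ∣ p ^ (r * (n - r)) * ∏ i ∈ Finset.range r, (p ^ r - p ^ i) := by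
  haveI : Finite (MulAut P) := Finite.of_injective (fun a => (a : P → P)) DFunLike.coe_injective
  set F := frattini P
  have hPp : IsPGroup p P := IsPGroup.of_card hP
  have hinv : ∀ α : MulAut P, F.map α.toMonoidHom = F := fun α => Subgroup.characteristic_iff_map_eq.mp inferInstance α
  let φ : MulAut P →* MulAut (P ⧸ F) := MonoidHom.mk' (fun α => QuotientGroup.congr F F α (hinv α)) (fun α β => by
    apply MulEquiv.ext
    intro w
    obtain ⟨w, rfl⟩ := QuotientGroup.mk_surjective w
    rfl)
  have hk : Nat.card φ.ker ∣ p ^ (r * (n - r)) := by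
    refine Cfsg.Agent.S4207.kernel_dvd hP hr _ fun α hα x => ?_
    have h : (QuotientGroup.mk (α x) : P ⧸ F) = QuotientGroup.mk x :=
      DFunLike.congr_fun (MonoidHom.mem_ker.mp hα) (QuotientGroup.mk x)
    rw [← QuotientGroup.eq_one_iff, QuotientGroup.mk_mul, QuotientGroup.mk_inv, h, mul_inv_cancel]
  letI : CommGroup (P ⧸ F) := { (inferInstance : Group (P ⧸ F)) with mul_comm := (Cfsg.Agent.S4207.quot_comm hPp).1 }
  have hcard := (Cfsg.Agent.S4207.ea_basis (W := P ⧸ F) (Cfsg.Agent.S4207.quot_comm hPp).2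
    (by rw [← Subgroup.index_eq_card]; exact hr)).2
  rw [← φ.ker.card_mul_index, Subgroup.index_ker, ← hcard]
  exact Nat.mul_dvd_mul hk (Subgroup.card_subgroup_dvd_card _)

end Cfsg.Agent.S4208
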