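import Cfsg.Statements.S4211
import Cfsg.Agent.Lib.TwoGroup.Models
import Cfsg.Agent.Lib.PGroup.OddNormalElementary

set_option autoImplicit false
set_option linter.style.haveILetI false
open Cfsg
open scoped commutatorElement

namespace Cfsg.Agent.S4211

open Subgroup

variable {G : Type*} [Group G] [Finite G]

omit [Finite G] in
theorem conj_mem_zpowers (hn : ∀ H : Subgroup G, H.Normal) (g x : G) : g * x * g⁻¹ ∈ zpowers x :=
  (hn _).conj_mem x (mem_zpowers x) g

omit [Finite G] in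
/-- A commutator lies in both cyclic subgroups, so it commutes with both elements. -/
theorem commute_commutator (hn : ∀ H : Subgroup G, H.Normal) (x y : G) :
    ⁅x, y⁆ ∈ zpowers x ∧ ⁅x, y⁆ ∈ zpowers y ∧ Commute ⁅x, y⁆ x ∧ Commute ⁅x, y⁆ y := by
  have h1 : ⁅x, y⁆ ∈ zpowers x := by
    rw [commutatorElement_def, show x * y * x⁻¹ * y⁻¹ = x * (y * x⁻¹ * y⁻¹) by group]
    exact mul_mem (mem_zpowers x) ((hn _).conj_mem _ (inv_mem (mem_zpowers x)) y)
  have h2 : ⁅x, y⁆ ∈ zpowers y := by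
    rw [commutatorElement_def]
    exact mul_mem (conj_mem_zpowers hn x y) (inv_mem (mem_zpowers y))
  exact ⟨h1, h2, (mem_zpowers_iff.1 h1).elim fun i hi => hi ▸ (Commute.refl x).zpow_left i,
    (mem_zpowers_iff.1 h2).elim fun i hi => hi ▸ (Commute.refl y).zpow_left i⟩

/-- A nonabelian Hamiltonian group contains two elements of order four generating a quaternion group. -/
theorem exists_pair (hn : ∀ H : Subgroup G, H.Normal) (hna : ¬ IsMulCommutative G) :
    ∃ a b : G, orderOf a = 4 ∧ orderOf b = 4 ∧ b * b = a ^ 2 ∧ b * a * b⁻¹ = a⁻¹ ∧ b ∉ zpowers a := by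
  classical
  have hex : ∃ m : ℕ, ∃ a b : G, ¬ Commute a b ∧ orderOf b ≤ orderOf a ∧ orderOf a + orderOf b = m := by
    by_contra hcon
    push Not at hcon
    refine hna ⟨⟨fun a b => ?_⟩⟩
    by_contra hab
    rcases le_total (orderOf b) (orderOf a) with h | h
    · exact hcon _ a b (fun hc => hab hc.eq) h rfl
    · exact hcon _ b a (fun hc => hab hc.symm.eq) h rfl
  obtain ⟨a, b, hab, hle, hsum⟩ := Nat.find_spec hex
  have hmin : ∀ x y : G, orderOf x + orderOf y < orderOf a + orderOf b → Commute x y := by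
    intro x y hlt
    by_contra hxy
    rcases le_total (orderOf y) (orderOf x) with h | h
    · exact Nat.find_min hex (hsum ▸ hlt) ⟨x, y, hxy, h, rfl⟩
    · exact Nat.find_min hex (hsum ▸ (by omega : orderOf y + orderOf x < orderOf a + orderOf b))
        ⟨y, x, fun hc => hxy hc.symm, h, rfl⟩
  set c := ⁅a, b⁆ with hc
  obtain ⟨hca, hcb, hcca, hccb⟩ := commute_commutator hn a b
  have hc1 : c ≠ 1 := fun h => hab (commutatorElement_eq_one_iff_commute.1 h)
  have hlow : ∀ (r : ℕ), r.Prime → r ∣ orderOf a → Commute (a ^ r) b ∧ c ^ r = 1 := by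
    intro r hr hrd
    have h1 : Commute (a ^ r) b := hmin _ _ (by
      rw [orderOf_pow_of_dvd hr.ne_zero hrd]
      have := Nat.div_lt_self (orderOf_pos a) hr.one_lt
      omega)
    refine ⟨h1, ?_⟩
    have e : b * a * b⁻¹ = c⁻¹ * a := by rw [hc, commutatorElement_def]; group
    have h2 : (b * a * b⁻¹) ^ r = a ^ r := by rw [conj_pow, ← h1.eq, mul_inv_cancel_right]
    rw [e, hcca.inv_left.mul_pow, mul_eq_right, inv_pow, inv_eq_one] at h2
    exact h2
  have hlow' : ∀ (r : ℕ), r.Prime → r ∣ orderOf b → Commute a (b ^ r) ∧ c ^ r = 1 := by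
    intro r hr hrd
    have h1 : Commute a (b ^ r) := hmin _ _ (by
      rw [orderOf_pow_of_dvd hr.ne_zero hrd]
      have := Nat.div_lt_self (orderOf_pos b) hr.one_lt
      omega)
    refine ⟨h1, ?_⟩
    have e : a * b * a⁻¹ = c * b := by rw [hc, commutatorElement_def]; group
    have h2 : (a * b * a⁻¹) ^ r = b ^ r := by rw [conj_pow, h1.eq, mul_inv_cancel_right]
    rw [e, hccb.mul_pow, mul_eq_right] at h2
    exact h2
  set p := (orderOf c).minFac with hpdef
  have hoc : orderOf c ≠ 1 := fun h => hc1 (orderOf_eq_one_iff.1 h)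
  have hp : p.Prime := Nat.minFac_prime hoc
  have huniq : ∀ (r : ℕ), r.Prime → c ^ r = 1 → r = p ∧ orderOf c = r := fun r hr h => by
    have h1 : orderOf c = r := ((Nat.dvd_prime hr).1 (orderOf_dvd_of_pow_eq_one h)).resolve_left hoc
    exact ⟨by rw [hpdef, h1, hr.minFac_eq], h1⟩
  obtain ⟨α, hα⟩ : ∃ α, orderOf a = p ^ α := ⟨_, Nat.eq_prime_pow_of_unique_prime_dvd (orderOf_pos a).ne'
    fun {d} hd hdd => (huniq d hd (hlow d hd hdd).2).1⟩
  obtain ⟨β, hβ⟩ : ∃ β, orderOf b = p ^ β := ⟨_, Nat.eq_prime_pow_of_unique_prime_dvd (orderOf_pos b).ne'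
    fun {d} hd hdd => (huniq d hd (hlow' d hd hdd).2).1⟩
  have hpc : orderOf c = p := by
    obtain ⟨r, hr, hrd⟩ := Nat.exists_prime_and_dvd (show orderOf a ≠ 1 from fun h =>
      hab (by rw [orderOf_eq_one_iff.1 h]; exact Commute.one_left b))
    obtain ⟨h1, h2⟩ := huniq r hr (hlow r hr hrd).2
    rw [h2, h1]
  have hβ2 : 2 ≤ β := by
    by_contra hlt
    have h1 : zpowers c = zpowers b := eq_of_le_of_card_ge (zpowers_le.2 hcb) (by
      rw [Nat.card_zpowers, Nat.card_zpowers, hβ, hpc]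
      calc p ^ β ≤ p ^ 1 := Nat.pow_le_pow_right hp.pos (by omega)
        _ = p := pow_one p)
    obtain ⟨i, hi⟩ := mem_zpowers_iff.1 (h1 ▸ mem_zpowers b : b ∈ zpowers c)
    exact hab (hi ▸ (hcca.zpow_left i).symm)
  have hαβ : β ≤ α := (Nat.pow_le_pow_iff_right hp.one_lt).1 (hα ▸ hβ ▸ hle)
  have hsub : ∀ (x : G) (e : ℕ), orderOf x = p ^ e → 1 ≤ e → c ∈ zpowers x → zpowers (x ^ p ^ (e - 1)) = zpowers c := by
    intro x e hx he hcx
    obtain ⟨i, hi⟩ := mem_zpowers_iff.1 hcx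
    have hord : orderOf (x ^ p ^ (e - 1)) = p := by
      rw [orderOf_pow_of_dvd (pow_ne_zero _ hp.ne_zero) (hx ▸ pow_dvd_pow p (Nat.sub_le e 1)), hx,
        Nat.pow_div (Nat.sub_le e 1) hp.pos, show e - (e - 1) = 1 by omega, pow_one]
    refine (eq_of_le_of_card_ge (zpowers_le.2 ?_) (by rw [Nat.card_zpowers, Nat.card_zpowers, hord, hpc])).symm
    have h1 : x ^ (i * p) = 1 := by rw [zpow_mul, hi, zpow_natCast, ← hpc, pow_orderOf_eq_one]
    have h2 : ((p ^ e : ℕ) : ℤ) ∣ i * p := hx ▸ orderOf_dvd_iff_zpow_eq_one.2 h1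
    rw [show e = e - 1 + 1 by omega, pow_succ, Nat.cast_mul] at h2
    obtain ⟨j, hj⟩ := Int.dvd_of_mul_dvd_mul_right (by exact_mod_cast hp.ne_zero) h2
    exact ⟨j, by
      show (x ^ p ^ (e - 1)) ^ j = c
      rw [← zpow_natCast x, ← zpow_mul, ← hj, hi]⟩
  obtain ⟨j, hj⟩ := mem_zpowers_iff.1 (show b ^ p ^ (β - 1) ∈ zpowers (a ^ p ^ (α - 1)) by
    rw [hsub a α hα (by omega) hca, ← hsub b β hβ (by omega) hcb]; exact mem_zpowers _)
  set d := (a ^ p ^ (α - β)) ^ (-j) with hd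
  have hda : Commute a d := ((Commute.refl a).pow_right _).zpow_right _
  set N := p ^ (β - 1) with hN
  have hdN : d ^ N * b ^ N = 1 := by
    rw [← hj, hd, ← zpow_natCast ((a ^ p ^ (α - β)) ^ (-j)) N, ← zpow_mul, mul_comm (-j) (N : ℤ), zpow_mul,
      zpow_natCast, ← pow_mul, hN, ← pow_add, show α - β + (β - 1) = α - 1 by omega, ← zpow_add,
      neg_add_cancel, zpow_zero]
  have hnc : ¬ Commute a (d * b) := fun h => hab (by
    have := hda.inv_right.mul_right h
    rwa [inv_mul_cancel_left] at this)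
  set e := (d * b)⁻¹ * (b * d) with he
  have he' : e = ⁅b⁻¹, d⁻¹⁆ := by rw [he, commutatorElement_def]; group
  obtain ⟨-, -, heb, hed⟩ := commute_commutator hn b⁻¹ d⁻¹
  rw [← he', Commute.inv_right_iff] at heb hed
  have hbd : b * d = d * b * e := by rw [he, mul_inv_cancel_left]
  have hformula := Cfsg.Lib.PGroup.OddNormalElementary.mul_pow_of_commutator hed heb hbd N
  rw [hdN, one_mul] at hformula
  have hbp := hlow' p hp (hβ ▸ dvd_pow_self p (by omega))
  have hep : e ^ p = 1 := by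
    have h1 : Commute d (b ^ p) := (hbp.1.pow_left _).zpow_left _
    have e1 : d⁻¹ * b * d = b * e := by rw [mul_assoc, hbd, mul_assoc, inv_mul_cancel_left]
    have h2 : (d⁻¹ * b * d) ^ p = b ^ p := by
      rw [show d⁻¹ * b * d = d⁻¹ * b * (d⁻¹)⁻¹ by rw [inv_inv], conj_pow, h1.inv_left.eq, inv_inv,
        inv_mul_cancel_right]
    rwa [e1, heb.symm.mul_pow, mul_eq_left] at h2
  have hne : e ^ N.choose 2 ≠ 1 := by
    intro h
    rw [h] at hformula
    refine hnc (hmin a (d * b) ?_)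
    have hNpos : 0 < N := Nat.pow_pos hp.pos
    have h1 : orderOf (d * b) ≤ N := Nat.le_of_dvd hNpos (orderOf_dvd_of_pow_eq_one hformula)
    have h2 : N < orderOf b := by rw [hβ, hN]; exact Nat.pow_lt_pow_right hp.one_lt (by omega)
    omega
  have hpNdvd : ¬ p ∣ N.choose 2 := fun ⟨k, hk⟩ => hne (by rw [hk, pow_mul, hep, one_pow])
  have hαeq : α = β := by
    by_contra h
    have h1 : Commute d b := by
      have h2 := (hlow p hp (hα ▸ dvd_pow_self p (by omega))).1.pow_left (p ^ (α - β - 1))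
      rw [← pow_mul, ← pow_succ', show α - β - 1 + 1 = α - β by omega] at h2
      exact h2.zpow_left _
    refine hne ?_
    rw [show e = 1 by rw [he', commutatorElement_eq_one_iff_commute]; exact h1.symm.inv_inv, one_pow]
  have hp2 : p = 2 := by
    by_contra hp2
    refine hpNdvd ?_
    rw [hN, Nat.choose_two_right]
    have h3 : p ∣ p ^ (β - 1) * (p ^ (β - 1) - 1) / 2 * 2 := by
      rw [Nat.div_mul_cancel (Nat.two_dvd_mul_sub_one _)]
      exact Dvd.dvd.mul_right (dvd_pow_self p (by omega)) _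
    exact ((Nat.coprime_primes hp Nat.prime_two).2 hp2).dvd_of_dvd_mul_right h3
  have hβ' : β = 2 := by
    by_contra h
    refine hpNdvd ?_
    rw [hN, hp2, Nat.choose_two_right, show β - 1 = β - 3 + 1 + 1 by omega, pow_succ,
      mul_comm _ 2, mul_assoc, Nat.mul_div_cancel_left _ two_pos, pow_succ]
    exact Dvd.dvd.mul_right (dvd_mul_left 2 _) _
  rw [hαeq, hβ', hp2, show (2 : ℕ) ^ 2 = 4 by norm_num] at hα
  rw [hβ', hp2, show (2 : ℕ) ^ 2 = 4 by norm_num] at hβ
  have hc2 : ∀ x : G, orderOf x = 4 → c ∈ zpowers x → x ^ 2 = c := by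
    intro x hx hcx
    obtain ⟨i, hi⟩ := mem_zpowers_iff.1 hcx
    have hmod : x ^ i = x ^ (i % 4) := by
      have := (zpow_mod_orderOf x i).symm
      rwa [hx] at this
    have h1 : x ^ (2 * i) = 1 := by
      rw [mul_comm, zpow_mul, hi, zpow_ofNat, ← hp2, ← hpc, pow_orderOf_eq_one]
    have h2 : (4 : ℤ) ∣ 2 * i := by
      have := orderOf_dvd_iff_zpow_eq_one.2 h1
      rwa [hx] at this
    rcases (show i % 4 = 0 ∨ i % 4 = 2 by omega) with h | h
    · rw [h, zpow_zero, hi] at hmod; exact absurd hmod hc1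
    · rw [h, hi] at hmod; rw [hmod, zpow_ofNat]
  have hbn : b ∉ zpowers a := fun h => hab ((mem_zpowers_iff.1 h).elim fun i hi => hi ▸ (Commute.refl a).zpow_right i)
  refine ⟨a, b, hα, hβ, by rw [← sq, hc2 a hα hca, hc2 b hβ hcb], ?_, hbn⟩
  have h1 := hc2 a hα hca
  rw [hc, commutatorElement_def, sq, mul_assoc a, mul_assoc a, mul_left_cancel_iff] at h1
  calc b * a * b⁻¹ = (b * a⁻¹ * b⁻¹)⁻¹ := by group
    _ = a⁻¹ := by rw [← h1]

/-- A finite non-abelian group in which every subgroup is normal is the internal direct product of a subgroup isomorphic to the quaternion group of order `8`, an elementary abelian `2`-subgroup and an abelian subgroup of odd order. -/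
theorem result {G : Type*} [Group G] [Finite G] (hna : ¬ IsMulCommutative G) (hn : ∀ H : Subgroup G, H.Normal) : ∃ Q E A : Subgroup G, Nonempty (Q ≃* QuaternionGroup 2) ∧ Cfsg.IsElementaryAbelian 2 E ∧ IsMulCommutative A ∧ Odd (Nat.card A) ∧ E ⊓ A = ⊥ ∧ Q ⊓ (E ⊔ A) = ⊥ ∧ Q ⊔ (E ⊔ A) = ⊤ := by
  classical
  obtain ⟨a, b, ha, hb, hbb, hinv, hbn⟩ := exists_pair hn hna
  set Q := Subgroup.closure ({a, b} : Set G) with hQdef
  have hQ : Nonempty (Q ≃* QuaternionGroup 2) := Cfsg.Lib.TwoGroup.equiv_quaternion (by rw [ha]) hbb hinv hbn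
  set c := a ^ 2 with hc
  have hco : orderOf c = 2 := by rw [hc, orderOf_pow_of_dvd two_ne_zero (by rw [ha]; norm_num), ha]
  have haQ : a ∈ Q := Subgroup.subset_closure (Set.mem_insert _ _)
  have hbQ : b ∈ Q := Subgroup.subset_closure (Set.mem_insert_of_mem _ rfl)
  set C := Subgroup.centralizer ({a, b} : Set G) with hC
  have hmemC : ∀ g, g ∈ C ↔ a * g = g * a ∧ b * g = g * b := fun g => by
    rw [hC, Subgroup.mem_centralizer_iff]
    simp
  have hc4 : ∀ x : G, orderOf x = 4 → ∀ g : G, g * x * g⁻¹ = x ∨ g * x * g⁻¹ = x⁻¹ := by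
    intro x hx g
    obtain ⟨i, hi⟩ := Subgroup.mem_zpowers_iff.1 (conj_mem_zpowers hn g x)
    have hord : orderOf (x ^ i) = 4 := by
      rw [hi, ← MulAut.conj_apply, MulEquiv.orderOf_eq, hx]
    have h2 : ¬ (2 : ℤ) ∣ i := by
      rintro ⟨j, rfl⟩
      have h1 : (x ^ (2 * j)) ^ 2 = 1 := by
        rw [← zpow_natCast, ← zpow_mul, ← orderOf_dvd_iff_zpow_eq_one, hx]
        exact ⟨j, by push_cast; ring⟩
      have := Nat.le_of_dvd two_pos (orderOf_dvd_of_pow_eq_one h1)
      omega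
    have hmod : x ^ i = x ^ (i % 4) := by
      have := (zpow_mod_orderOf x i).symm
      rwa [hx] at this
    rcases (show i % 4 = 1 ∨ i % 4 = 3 by omega) with h | h
    · exact Or.inl (by rw [← hi, hmod, h, zpow_one])
    · refine Or.inr ?_
      rw [← hi, hmod, h, ← zpow_neg_one, ← mul_inv_eq_one, ← zpow_neg, ← zpow_add,
        ← orderOf_dvd_iff_zpow_eq_one, hx]
      norm_num
  have hab : a * b * a⁻¹ = b⁻¹ := by
    refine (hc4 b hb a).resolve_left fun h => ?_
    have hcomm : a * b = b * a := mul_inv_eq_iff_eq_mul.1 h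
    rw [← hcomm, mul_inv_cancel_right] at hinv
    have : a ^ 2 = 1 := by rw [sq]; nth_rw 1 [hinv]; rw [inv_mul_cancel]
    have := Nat.le_of_dvd two_pos (orderOf_dvd_of_pow_eq_one this)
    omega
  have hQC : ∀ g : G, g ∈ Q ⊔ C := by
    intro g
    have key : ∀ q ∈ Q, q * a * q⁻¹ = g * a * g⁻¹ → q * b * q⁻¹ = g * b * g⁻¹ → g ∈ Q ⊔ C := by
      intro q hq h1 h2
      rw [← mul_inv_cancel_left q g]
      refine Subgroup.mul_mem_sup hq ((hmemC _).2 ⟨?_, ?_⟩)
      · calc a * (q⁻¹ * g) = q⁻¹ * (q * a * q⁻¹) * g := by group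
          _ = q⁻¹ * g * a := by rw [h1]; group
      · calc b * (q⁻¹ * g) = q⁻¹ * (q * b * q⁻¹) * g := by group
          _ = q⁻¹ * g * b := by rw [h2]; group
    rcases hc4 a ha g with h1 | h1 <;> rcases hc4 b hb g with h2 | h2
    · exact key 1 (one_mem _) (by rw [h1]; group) (by rw [h2]; group)
    · exact key a haQ (by rw [h1, mul_inv_cancel_right]) (by rw [h2, hab])
    · exact key b hbQ (by rw [h1, hinv]) (by rw [h2, mul_inv_cancel_right])
    · refine key (a * b) (mul_mem haQ hbQ) ?_ ?_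
      · rw [h1, show a * b * a * (a * b)⁻¹ = a * (b * a * b⁻¹) * a⁻¹ by group, hinv, mul_inv_cancel, one_mul]
      · rw [h2, show a * b * b * (a * b)⁻¹ = a * b * a⁻¹ by group, hab]
  have ho4 : ∀ x ∈ C, orderOf x ≠ 4 := by
    intro x hx hx4
    obtain ⟨hxa, hxb⟩ := (hmemC x).1 hx
    set y := a * x with hy
    have hy2 : y ^ 2 = c * x ^ 2 := by rw [hy, (show Commute a x from hxa).mul_pow]
    obtain ⟨-, -, -, -⟩ := commute_commutator hn y b
    have hyb : y * b * y⁻¹ = b⁻¹ := by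
      rw [hy, mul_inv_rev, show a * x * b * (x⁻¹ * a⁻¹) = a * (x * b * x⁻¹) * a⁻¹ by group, ← hxb,
        mul_inv_cancel_right, hab]
    have hb2 : b ^ 2 = c := by rw [sq, hbb]
    have hcomm : ⁅y, b⁆ = c := by
      rw [commutatorElement_def, hyb, ← hb2, sq, ← mul_inv_rev]
      exact inv_eq_of_mul_eq_one_right (by rw [← sq, ← sq, ← pow_mul, show 2 * 2 = 4 from rfl, ← hb]; exact pow_orderOf_eq_one b)
    by_cases hx2 : x ^ 2 = c
    · have hy21 : y ^ 2 = 1 := by rw [hy2, hx2, ← sq, ← hco, pow_orderOf_eq_one]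
      have hmem : ⁅y, b⁆ ∈ Subgroup.zpowers y := (commute_commutator hn y b).1
      rw [hcomm] at hmem
      obtain ⟨i, hi⟩ := Subgroup.mem_zpowers_iff.1 hmem
      rcases Int.even_or_odd i with ⟨l, rfl⟩ | ⟨l, rfl⟩
      · rw [← two_mul, zpow_mul, zpow_ofNat, hy21, one_zpow] at hi
        rw [← hi, orderOf_one] at hco
        exact absurd hco (by norm_num)
      · rw [zpow_add_one, zpow_mul, zpow_ofNat, hy21, one_zpow, one_mul] at hi
        have h1 : y * b * y⁻¹ = b := by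
          rw [hi, ← hb2, sq, mul_inv_rev]
          group
        rw [hyb] at h1
        have : b ^ 2 = 1 := by rw [sq]; nth_rw 1 [← h1]; rw [inv_mul_cancel]
        rw [hb2] at this
        rw [this, orderOf_one] at hco
        exact absurd hco (by norm_num)
    · have hy4 : y ^ 4 = 1 := by
        rw [hy, (show Commute a x from hxa).mul_pow]
        conv_lhs => arg 1; rw [show a ^ 4 = 1 from ha ▸ pow_orderOf_eq_one a]
        rw [one_mul, ← hx4, pow_orderOf_eq_one]
      have hmem : ⁅y, b⁆ ∈ Subgroup.zpowers y := (commute_commutator hn y b).1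
      rw [hcomm] at hmem
      obtain ⟨i, hi⟩ := Subgroup.mem_zpowers_iff.1 hmem
      have hc21 : c ^ 2 = 1 := by rw [← hco, pow_orderOf_eq_one]
      have hxne : x ^ 2 ≠ 1 := fun h => by
        have := Nat.le_of_dvd two_pos (orderOf_dvd_of_pow_eq_one h); omega
      rcases Int.even_or_odd i with ⟨l, rfl⟩ | ⟨l, rfl⟩
      · rw [← two_mul, zpow_mul, zpow_ofNat] at hi
        rcases Int.even_or_odd l with ⟨k, rfl⟩ | ⟨k, rfl⟩
        · rw [← two_mul, zpow_mul, zpow_ofNat, ← pow_mul, show 2 * 2 = 4 by rfl, hy4, one_zpow] at hi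
          rw [← hi, orderOf_one] at hco
          exact absurd hco (by norm_num)
        · rw [zpow_add_one, zpow_mul, zpow_ofNat, ← pow_mul, show 2 * 2 = 4 by rfl, hy4, one_zpow, one_mul, hy2,
            mul_eq_left] at hi
          exact hxne hi
      · have h1 : (y ^ (2 * l + 1)) ^ 2 = y ^ 2 := by
          rw [← zpow_natCast (y ^ (2 * l + 1)), ← zpow_mul, show (2 * l + 1) * ((2 : ℕ) : ℤ) = (4 : ℕ) * l + (2 : ℕ) by push_cast; ring,
            zpow_add, zpow_mul, zpow_natCast, zpow_natCast, hy4, one_zpow, one_mul]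
        rw [hi, hc21, hy2] at h1
        exact hx2 (eq_inv_of_mul_eq_one_right h1.symm |>.trans (inv_eq_of_mul_eq_one_right (by rw [← sq]; exact hc21)))
  haveI hCab : IsMulCommutative C := by
    by_contra hna'
    have hn' : ∀ H : Subgroup C, H.Normal := fun H => by
      have h1 := (hn (H.map C.subtype)).comap C.subtype
      rwa [Subgroup.comap_map_eq_self_of_injective C.subtype_injective] at h1
    obtain ⟨x, -, hx4, -⟩ := exists_pair hn' hna'
    exact ho4 x x.2 (by rw [Subgroup.orderOf_coe, hx4])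
  have cC : ∀ {x y : G}, x ∈ C → y ∈ C → Commute x y := fun hx hy =>
    congrArg Subtype.val (hCab.is_comm.comm ⟨_, hx⟩ ⟨_, hy⟩)
  let E₀ : Subgroup G :=
    { carrier := {x | x ∈ C ∧ x ^ 2 = 1}
      one_mem' := ⟨one_mem _, one_pow _⟩
      mul_mem' := fun hx hy => ⟨mul_mem hx.1 hy.1, by rw [(cC hx.1 hy.1).mul_pow, hx.2, hy.2, one_mul]⟩
      inv_mem' := fun hx => ⟨inv_mem hx.1, by rw [inv_pow, hx.2, inv_one]⟩ }
  let A : Subgroup G :=
    { carrier := {x | x ∈ C ∧ Odd (orderOf x)}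
      one_mem' := ⟨one_mem _, by rw [orderOf_one]; exact odd_one⟩
      mul_mem' := fun hx hy => ⟨mul_mem hx.1 hy.1,
        (hx.2.mul hy.2).of_dvd_nat (cC hx.1 hy.1).orderOf_mul_dvd_mul_orderOf⟩
      inv_mem' := fun hx => ⟨inv_mem hx.1, by rw [orderOf_inv]; exact hx.2⟩ }
  have hcC : c ∈ C := (hmemC c).2 ⟨by rw [hc, ← pow_succ, ← pow_succ'], by
    have : c = b ^ 2 := by rw [sq, hbb]
    rw [this, ← pow_succ, ← pow_succ']⟩
  haveI : Finite (Subgroup G) := Finite.of_injective ((↑) : Subgroup G → Set G) SetLike.coe_injective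
  have hc1 : c ≠ 1 := fun h => by rw [h, orderOf_one] at hco; exact absurd hco (by norm_num)
  have hc2 : c ^ 2 = 1 := by rw [← hco, pow_orderOf_eq_one]
  obtain ⟨E, ⟨hEle, hcE⟩, hmax⟩ := (Set.toFinite {E : Subgroup G | E ≤ E₀ ∧ c ∉ E}).exists_maximal
    ⟨⊥, bot_le, fun h => hc1 (Subgroup.mem_bot.1 h)⟩
  have hE₀ : ∀ x ∈ E₀, x ∈ E ⊔ Subgroup.zpowers c := by
    intro x hx
    by_cases hxE : x ∈ E
    · exact Subgroup.mem_sup_left hxE
    have hle : E ⊔ Subgroup.zpowers x ≤ E₀ := sup_le hEle (Subgroup.zpowers_le.2 hx)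
    have hcm : c ∈ E ⊔ Subgroup.zpowers x := by
      by_contra hcm
      exact hxE (hmax ⟨hle, hcm⟩ le_sup_left (Subgroup.mem_sup_right (Subgroup.mem_zpowers x)))
    haveI := hn E
    obtain ⟨e, he, w, hw, hew⟩ := Subgroup.mem_sup_of_normal_left.1 hcm
    obtain ⟨i, rfl⟩ := Subgroup.mem_zpowers_iff.1 hw
    rcases Int.even_or_odd i with ⟨l, rfl⟩ | ⟨l, rfl⟩
    · rw [← two_mul, zpow_mul, zpow_ofNat, hx.2, one_zpow, mul_one] at hew
      exact absurd (hew ▸ he) hcE
    · rw [zpow_add_one, zpow_mul, zpow_ofNat, hx.2, one_zpow, one_mul] at hew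
      rw [show x = e⁻¹ * c by rw [← hew, inv_mul_cancel_left]]
      exact Subgroup.mul_mem_sup (inv_mem he) (Subgroup.mem_zpowers c)
  have hEA : E ⊓ A = ⊥ := eq_bot_iff.2 fun x hx => Subgroup.mem_bot.2 (orderOf_eq_one_iff.1
    (Nat.eq_one_of_dvd_coprimes (Nat.coprime_two_left.2 hx.2.2)
      (orderOf_dvd_of_pow_eq_one (hEle hx.1).2) dvd_rfl))
  have hC_le : C ≤ (E ⊔ Subgroup.zpowers c) ⊔ A := by
    intro x hx
    obtain ⟨i, m, hm, hxm⟩ := Nat.exists_eq_two_pow_mul_odd (orderOf_pos x).ne'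
    have hmpos : 0 < m := hm.pos
    have hi : i ≤ 1 := by
      by_contra hi
      refine ho4 (x ^ (2 ^ (i - 2) * m)) (pow_mem hx _) ?_
      rw [orderOf_pow_of_dvd (by positivity) ⟨4, by rw [hxm, show i = i - 2 + 2 by omega, pow_add]; simp; ring⟩, hxm,
        Nat.mul_div_mul_right _ _ hmpos, Nat.pow_div (by omega) two_pos, show i - (i - 2) = 2 by omega]
      norm_num
    have h2m : orderOf x ∣ 2 * m := by
      rw [hxm]
      exact Nat.mul_dvd_mul_right (by simpa using pow_dvd_pow 2 hi) m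
    obtain ⟨l, hl⟩ := hm
    have hsplit : x = x ^ m * ((x ^ 2) ^ l)⁻¹ := by
      rw [← pow_mul, eq_mul_inv_iff_mul_eq, ← pow_succ', hl]
    rw [hsplit]
    refine Subgroup.mul_mem_sup (hE₀ _ ⟨pow_mem hx _, ?_⟩) (inv_mem ⟨pow_mem (pow_mem hx _) _, ?_⟩)
    · rw [← pow_mul, mul_comm, ← orderOf_dvd_iff_pow_eq_one]
      exact h2m
    · refine (show Odd m from ⟨l, hl⟩).of_dvd_nat (orderOf_dvd_of_pow_eq_one ?_)
      rw [← pow_mul, ← pow_mul, show 2 * (l * m) = 2 * m * l by ring, pow_mul,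
        orderOf_dvd_iff_pow_eq_one.1 h2m, one_pow]
  haveI := hn (Subgroup.zpowers a)
  have hQle : Q ≤ Subgroup.zpowers a ⊔ Subgroup.zpowers b := by
    rw [hQdef, Subgroup.closure_le]
    rintro z (rfl | rfl)
    · exact Subgroup.mem_sup_left (Subgroup.mem_zpowers _)
    · exact Subgroup.mem_sup_right (Subgroup.mem_zpowers _)
  have hQCc : ∀ q ∈ Q, q ∈ C → q ∈ Subgroup.zpowers c := by
    intro q hq hqC
    obtain ⟨u, hu, w, hw, rfl⟩ := Subgroup.mem_sup_of_normal_left.1 (hQle hq)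
    obtain ⟨i, rfl⟩ := Subgroup.mem_zpowers_iff.1 hu
    obtain ⟨j, rfl⟩ := Subgroup.mem_zpowers_iff.1 hw
    obtain ⟨hqa, hqb⟩ := (hmemC _).1 hqC
    have hbc : b * b = c := hbb
    rcases Int.even_or_odd j with ⟨l, rfl⟩ | ⟨l, rfl⟩
    · have hbl : b ^ (l + l) = c ^ l := by rw [← two_mul, zpow_mul, zpow_ofNat, sq, hbc]
      rw [hbl] at hqb ⊢
      rcases Int.even_or_odd i with ⟨k, rfl⟩ | ⟨k, rfl⟩
      · rw [show a ^ (k + k) = c ^ k by rw [← two_mul, zpow_mul, zpow_ofNat]]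
        exact mul_mem (zpow_mem (Subgroup.mem_zpowers c) _) (zpow_mem (Subgroup.mem_zpowers c) _)
      · exfalso
        have h1 : a ^ (2 * k + 1) * c ^ l = a * (c ^ k * c ^ l) := by
          rw [zpow_add_one, zpow_mul, zpow_ofNat, ← hc, ← mul_assoc]
          congr 1
          exact ((Commute.refl a).pow_left 2).zpow_left k
        rw [h1] at hqb
        have hcb : Commute (c ^ k * c ^ l) b :=
          (((hmemC c).1 hcC).2 |> fun h => (show Commute c b from h.symm)).zpow_left k |>.mul_left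
            ((((hmemC c).1 hcC).2 |> fun h => (show Commute c b from h.symm)).zpow_left l)
        have h2 : b * a = a * b := mul_right_cancel (b := c ^ k * c ^ l) (by
          rw [mul_assoc, hqb, mul_assoc, hcb.eq, ← mul_assoc])
        rw [h2, mul_inv_cancel_right] at hinv
        have : a ^ 2 = 1 := by rw [sq]; nth_rw 1 [hinv]; rw [inv_mul_cancel]
        exact hc1 this
    · exfalso
      have hai : Commute a (a ^ i) := (Commute.refl a).zpow_right i
      have hcl : Commute a (c ^ l) := ((Commute.refl a).pow_right 2).zpow_right l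
      have hbl : b ^ (2 * l + 1) = c ^ l * b := by rw [zpow_add_one, zpow_mul, zpow_ofNat, sq, hbc]
      rw [hbl] at hqa
      have h2 : Commute a b := by
        have h3 := (hai.mul_right hcl).inv_right.mul_right (show Commute a (a ^ i * (c ^ l * b)) from hqa)
        rwa [← mul_assoc (a ^ i), inv_mul_cancel_left] at h3
      rw [← h2.eq, mul_inv_cancel_right] at hinv
      have : a ^ 2 = 1 := by rw [sq]; nth_rw 1 [hinv]; rw [inv_mul_cancel]
      exact hc1 this
  refine ⟨Q, E, A, hQ, ⟨⟨⟨fun x y => Subtype.ext (cC (hEle x.2).1 (hEle y.2).1).eq⟩⟩, fun x hx => (hEle hx).2⟩,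
    ⟨⟨fun x y => Subtype.ext (cC x.2.1 y.2.1).eq⟩⟩, ?_, hEA, ?_, ?_⟩
  · rw [← Nat.not_even_iff_odd, even_iff_two_dvd]
    intro h2
    haveI : Fact (Nat.Prime 2) := ⟨Nat.prime_two⟩
    obtain ⟨x, hx⟩ := exists_prime_orderOf_dvd_card' (G := A) 2 h2
    have := x.2.2
    rw [Subgroup.orderOf_coe, hx] at this
    exact absurd this (by decide)
  · refine eq_bot_iff.2 fun q hq => Subgroup.mem_bot.2 ?_
    obtain ⟨i, rfl⟩ := Subgroup.mem_zpowers_iff.1 (hQCc q hq.1
      ((sup_le (fun x hx => (hEle hx).1) (fun x hx => hx.1) : E ⊔ A ≤ C) hq.2))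
    rcases Int.even_or_odd i with ⟨k, rfl⟩ | ⟨k, rfl⟩
    · rw [← two_mul, zpow_mul, zpow_ofNat, hc2, one_zpow]
    · exfalso
      have h1 : c ∈ E ⊔ A := by
        have h := hq.2
        rwa [zpow_add_one, zpow_mul, zpow_ofNat, hc2, one_zpow, one_mul] at h
      haveI := hn E
      obtain ⟨e, he, w, hw, hew⟩ := Subgroup.mem_sup_of_normal_left.1 h1
      have hw2 : w ^ 2 = 1 := by
        rw [show w = e⁻¹ * c by rw [← hew, inv_mul_cancel_left], (cC (inv_mem (hEle he).1) hcC).mul_pow, hc2,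
          inv_pow, (hEle he).2, inv_one, one_mul]
      have hw1 : w = 1 := orderOf_eq_one_iff.1 (Nat.eq_one_of_dvd_coprimes (Nat.coprime_two_left.2 hw.2)
        (orderOf_dvd_of_pow_eq_one hw2) dvd_rfl)
      rw [hw1, mul_one] at hew
      exact hcE (hew ▸ he)
  · refine top_le_iff.1 fun g _ => (sup_le le_sup_left ?_ : Q ⊔ C ≤ Q ⊔ (E ⊔ A)) (hQC g)
    exact hC_le.trans (sup_le (sup_le (le_sup_of_le_right le_sup_left)
      (Subgroup.zpowers_le.2 (Subgroup.mem_sup_left (pow_mem haQ 2)))) (le_sup_of_le_right le_sup_right))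

end Cfsg.Agent.S4211
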