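import Cfsg.Statements.S4212
import Cfsg.Agent.S3993

set_option autoImplicit false
open Cfsg

namespace Cfsg.Agent.S4212

open Subgroup

/-- The `q`-elements with a prescribed central `q ^ j`-th power. -/
theorem dvd_count_q {H : Type*} [Group H] [Finite H] (q : ℕ) [hq : Fact q.Prime] (A j : ℕ) (z : H)
    (hA : ∀ u : H, ∀ i, orderOf u = q ^ i → i ≤ A) :
    Nat.gcd (q ^ j) (Nat.card H) ∣ Nat.card {u : H // u ^ q ^ A = 1 ∧ u ^ q ^ j = z} := by
  classical
  haveI := Fintype.ofFinite H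
  by_cases hz : z = 1
  · subst hz
    have heq : Nat.card {u : H // u ^ q ^ A = 1 ∧ u ^ q ^ j = 1} =
        S3993.rootCount H (Nat.gcd (q ^ j) (Nat.card H)) := by
      refine Nat.card_congr (Equiv.subtypeEquivRight fun u => ?_)
      rw [← orderOf_dvd_iff_pow_eq_one, ← orderOf_dvd_iff_pow_eq_one, ← orderOf_dvd_iff_pow_eq_one,
        Nat.dvd_gcd_iff]
      refine ⟨fun h => ⟨h.2, orderOf_dvd_natCard u⟩, fun h => ⟨?_, h.1⟩⟩
      obtain ⟨i, -, hi⟩ := (Nat.dvd_prime_pow hq.out).1 h.1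
      exact hi ▸ pow_dvd_pow q (hA u i hi)
    rw [heq]
    exact S3993.frobenius_count _ (Nat.gcd_dvd_right _ _)
  refine (Nat.gcd_dvd_left _ _).trans ?_
  haveI : Fintype (Subgroup H) := Fintype.ofFinite _
  rw [Nat.card_eq_fintype_card, Fintype.card_subtype,
    Finset.card_eq_sum_card_fiberwise (f := Subgroup.zpowers) (t := Finset.univ)
      (fun g _ => Finset.mem_coe.mpr (Finset.mem_univ _))]
  refine Finset.dvd_sum fun K _ => ?_
  by_cases hK : ∃ u : H, (u ^ q ^ A = 1 ∧ u ^ q ^ j = z) ∧ zpowers u = K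
  swap
  · rw [Finset.card_eq_zero.mpr (Finset.filter_eq_empty_iff.mpr fun g hg hgK =>
      hK ⟨g, (Finset.mem_filter.mp hg).2, hgK⟩)]
    exact dvd_zero _
  obtain ⟨u, ⟨huA, huj⟩, rfl⟩ := hK
  obtain ⟨i, hiA, hi⟩ := (Nat.dvd_prime_pow hq.out).1 (orderOf_dvd_of_pow_eq_one huA)
  have hji : j < i := by
    by_contra h
    refine hz ?_
    rw [← huj, ← orderOf_dvd_iff_pow_eq_one, hi]
    exact pow_dvd_pow q (not_lt.1 h)
  refine dvd_of_eq ?_
  have hker : Nat.card {w : zpowers u // w ^ q ^ j = 1} = q ^ j := by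
    letI : CommGroup (zpowers u) := IsCyclic.commGroup
    have h := IsCyclic.card_powMonoidHom_ker (G := zpowers u) (q ^ j)
    rw [Nat.card_zpowers, hi, Nat.gcd_eq_right (pow_dvd_pow q hji.le)] at h
    refine (Nat.card_congr (Equiv.subtypeEquivRight fun w => ?_)).trans h
    rw [MonoidHom.mem_ker, powMonoidHom_apply]
  have hgen : ∀ w ∈ zpowers u, w ^ q ^ j = 1 → zpowers (u * w) = zpowers u := by
    intro w hw hwj
    refine eq_of_le_of_card_ge (zpowers_le.2 (mul_mem (mem_zpowers u) hw)) ?_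
    obtain ⟨k, rfl⟩ := mem_zpowers_iff.1 hw
    have hc : Commute u (u ^ k) := (Commute.refl u).zpow_right k
    rw [Nat.card_zpowers, Nat.card_zpowers, hi]
    have hd : orderOf (u * u ^ k) ∣ q ^ A := orderOf_dvd_of_pow_eq_one (by
      rw [hc.mul_pow, huA, one_mul, ← zpow_natCast, zpow_comm, zpow_natCast, huA, one_zpow])
    obtain ⟨i', -, hi'⟩ := (Nat.dvd_prime_pow hq.out).1 hd
    rw [hi']
    refine Nat.pow_le_pow_right hq.out.pos (not_lt.1 fun hlt => ?_)
    have hu : u ^ q ^ (i - 1) = 1 := by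
      have h1 : (u * u ^ k) ^ q ^ (i - 1) = 1 := by
        rw [← orderOf_dvd_iff_pow_eq_one, hi']
        exact pow_dvd_pow q (by omega)
      have h2 : (u ^ k) ^ q ^ (i - 1) = 1 := by
        rw [← orderOf_dvd_iff_pow_eq_one]
        exact (orderOf_dvd_of_pow_eq_one hwj).trans (pow_dvd_pow q (by omega))
      rwa [hc.mul_pow, h2, mul_one] at h1
    rw [← orderOf_dvd_iff_pow_eq_one, hi, Nat.pow_dvd_pow_iff_le_right hq.out.one_lt] at hu
    omega
  rw [Finset.filter_filter, ← Fintype.card_subtype, ← Nat.card_eq_fintype_card]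
  refine Eq.trans hker.symm ?_
  refine (Nat.card_congr
    { toFun := fun w => ⟨u * (w.1 : H), ⟨?_, ?_⟩, hgen _ w.1.2 (congrArg Subtype.val w.2)⟩
      invFun := fun g => ⟨⟨u⁻¹ * g.1, mul_mem (inv_mem (mem_zpowers u)) (g.2.2.le (mem_zpowers g.1))⟩, ?_⟩
      left_inv := fun w => by exact Subtype.ext (Subtype.ext (inv_mul_cancel_left u (w.1 : H)))
      right_inv := fun g => by exact Subtype.ext (mul_inv_cancel_left u g.1) })
  · obtain ⟨k, hk⟩ := mem_zpowers_iff.1 w.1.2
    rw [← hk, ((Commute.refl u).zpow_right k).mul_pow, huA, one_mul, ← zpow_natCast, zpow_comm,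
      zpow_natCast, huA, one_zpow]
  · obtain ⟨k, hk⟩ := mem_zpowers_iff.1 w.1.2
    have hw : (u ^ k) ^ q ^ j = 1 := by rw [hk]; exact congrArg Subtype.val w.2
    rw [← hk, ((Commute.refl u).zpow_right k).mul_pow, huj, hw, mul_one]
  · refine Subtype.ext ?_
    show (u⁻¹ * g.1) ^ q ^ j = 1
    obtain ⟨k, hk⟩ := mem_zpowers_iff.1 (g.2.2.le (mem_zpowers g.1) : g.1 ∈ zpowers u)
    rw [← hk]
    have e := (Commute.inv_left ((Commute.refl u).zpow_right k) : Commute u⁻¹ (u ^ k)).mul_pow (q ^ j)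
    rw [e, inv_pow, huj, hk, g.2.1.2, inv_mul_cancel]

/-- The count of `n`-th roots of a central element. -/
theorem dvd_count_central {C : Type*} [Group C] [Finite C] (c : C) (hc : c ∈ center C) (n : ℕ) :
    Nat.gcd n (Nat.card C) ∣ Nat.card {x : C // x ^ n = c} := by
  classical
  haveI := Fintype.ofFinite C
  have hd0 : Nat.gcd n (Nat.card C) ≠ 0 := (Nat.gcd_pos_of_pos_right _ Nat.card_pos).ne'
  rw [Nat.dvd_iff_prime_pow_dvd_dvd]
  intro q t hq ht
  haveI : Fact q.Prime := ⟨hq⟩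
  set A := (Nat.card C).factorization q
  set M := Nat.card C / q ^ A
  have hAM : q ^ A * M = Nat.card C := Nat.ordProj_mul_ordCompl_eq_self _ _
  have hcop : (q ^ A).Coprime M := (Nat.coprime_ordCompl hq Nat.card_pos.ne').pow_left A
  obtain ⟨e₁, he1a, he1b⟩ := Nat.chineseRemainder hcop 1 0
  obtain ⟨e₂, he2a, he2b⟩ := Nat.chineseRemainder hcop 0 1
  have hid : ∀ x : C, x ^ (e₁ + e₂) = x := fun x => by
    have h : e₁ + e₂ ≡ 1 [MOD Nat.card C] := hAM ▸
      (Nat.modEq_and_modEq_iff_modEq_mul hcop).1 ⟨he1a.add he2a, he1b.add he2b⟩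
    exact (pow_eq_pow_iff_modEq.2 (h.of_dvd (orderOf_dvd_natCard x))).trans (pow_one x)
  have hpA : ∀ x : C, (x ^ e₁) ^ q ^ A = 1 := fun x => by
    obtain ⟨k, hk⟩ := Nat.modEq_zero_iff_dvd.1 he1b
    rw [← pow_mul, hk, mul_comm M k, mul_assoc, mul_comm M, hAM, mul_comm, pow_mul, pow_card_eq_one',
      one_pow]
  have hpM : ∀ x : C, (x ^ e₂) ^ M = 1 := fun x => by
    obtain ⟨k, hk⟩ := Nat.modEq_zero_iff_dvd.1 he2a
    rw [← pow_mul, hk, mul_comm (q ^ A) k, mul_assoc, hAM, mul_comm, pow_mul, pow_card_eq_one',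
      one_pow]
  -- choose the `q`-th power data
  have hn0 : q ^ t ∣ n := ht.trans (Nat.gcd_dvd_left _ _)
  have htA : t ≤ A := (hq.pow_dvd_iff_le_factorization Nat.card_pos.ne').1 (ht.trans (Nat.gcd_dvd_right _ _))
  obtain ⟨j, m, htj, hnm, hm⟩ : ∃ j m, t ≤ j ∧ n = q ^ j * m ∧ (n = 0 ∨ ¬ q ∣ m) := by
    by_cases hn : n = 0
    · exact ⟨t, 0, le_rfl, by rw [hn, mul_zero], Or.inl hn⟩
    · exact ⟨n.factorization q, n / q ^ n.factorization q,
        (hq.pow_dvd_iff_le_factorization hn).1 hn0, (Nat.ordProj_mul_ordCompl_eq_self _ _).symm,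
        Or.inr (Nat.not_dvd_ordCompl hq hn)⟩
  by_cases hn : n = 0
  · subst hn
    by_cases hc1 : c = 1
    · have : Nat.card {x : C // x ^ 0 = c} = Nat.card C :=
        Nat.card_congr (Equiv.subtypeUnivEquiv fun x => by rw [pow_zero, hc1])
      rw [this]; exact ht.trans (Nat.gcd_dvd_right _ _)
    · have : Nat.card {x : C // x ^ 0 = c} = 0 := by
        haveI : IsEmpty {x : C // x ^ 0 = c} := ⟨fun x => hc1 (by rw [← x.2, pow_zero])⟩
        exact Nat.card_of_isEmpty
      rw [this]; exact dvd_zero _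
  have hqm : ¬ q ∣ m := hm.resolve_left hn
  obtain ⟨k, -, hk⟩ := Nat.exists_mul_mod_eq_one_of_coprime
    (((Nat.Prime.coprime_iff_not_dvd hq).2 hqm).pow_left (A + 1)).symm
    (Nat.one_lt_pow (Nat.succ_ne_zero A) hq.one_lt)
  set w := c ^ e₁
  set S := Finset.univ.filter fun v : C => v ^ M = 1 ∧ v ^ n = c ^ e₂
  rw [Nat.card_eq_fintype_card, Fintype.card_subtype,
    Finset.card_eq_sum_card_fiberwise (f := fun x => x ^ e₂) (t := S)]
  swap
  · intro x hx
    simp only [Finset.coe_filter, Finset.mem_univ, true_and, Set.mem_setOf_eq, S] at hx ⊢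
    exact ⟨hpM x, by rw [← pow_mul, mul_comm, pow_mul, hx]⟩
  set f := fun v : C =>
    Nat.card {u : centralizer ({v} : Set C) // u ^ q ^ A = 1 ∧ (u : C) ^ n = w}
  have hfib : ∀ v ∈ S, ((Finset.univ.filter fun x : C => x ^ n = c).filter fun x => x ^ e₂ = v).card =
      f v := by
    intro v hv
    simp only [S, Finset.mem_filter, Finset.mem_univ, true_and] at hv
    rw [Finset.filter_filter, ← Fintype.card_subtype, ← Nat.card_eq_fintype_card]
    refine Nat.card_congr
      { toFun := fun x => ⟨⟨x.1 ^ e₁, ?_⟩, ?_, ?_⟩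
        invFun := fun u => ⟨(u.1 : C) * v, ?_, ?_⟩
        left_inv := fun x => Subtype.ext ?_
        right_inv := fun u => Subtype.ext (Subtype.ext ?_) }
    · have h2 := Commute.pow_pow_self x.1 e₁ e₂
      rw [show x.1 ^ e₂ = v from x.2.2] at h2
      exact mem_centralizer_singleton_iff.2 h2.eq
    · exact Subtype.ext (hpA x.1)
    · show (x.1 ^ e₁) ^ n = w
      rw [← pow_mul, mul_comm, pow_mul, x.2.1]
    · have hcm : Commute (u.1 : C) v := mem_centralizer_singleton_iff.1 u.1.2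
      rw [hcm.mul_pow, u.2.2, hv.2, ← pow_add, hid]
    · have hcm : Commute (u.1 : C) v := mem_centralizer_singleton_iff.1 u.1.2
      have h1 : (u.1 : C) ^ e₂ = 1 := by
        obtain ⟨k', hk'⟩ := Nat.modEq_zero_iff_dvd.1 he2a
        rw [hk', pow_mul, show (u.1 : C) ^ q ^ A = 1 from congrArg Subtype.val u.2.1, one_pow]
      have h2 : v ^ e₂ = v :=
        (pow_eq_pow_iff_modEq.2 (he2b.of_dvd (orderOf_dvd_of_pow_eq_one hv.1))).trans (pow_one v)
      rw [hcm.mul_pow, h1, h2, one_mul]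
    · show x.1 ^ e₁ * v = x.1
      have h2 := hid x.1
      rw [pow_add, show x.1 ^ e₂ = v from x.2.2] at h2
      exact h2
    · have hcm : Commute (u.1 : C) v := mem_centralizer_singleton_iff.1 u.1.2
      show ((u.1 : C) * v) ^ e₁ = u.1
      have h1 : (u.1 : C) ^ e₁ = u.1 :=
        (pow_eq_pow_iff_modEq.2 (he1a.of_dvd (orderOf_dvd_of_pow_eq_one
          (show (u.1 : C) ^ q ^ A = 1 from congrArg Subtype.val u.2.1)))).trans (pow_one _)
      have h2 : v ^ e₁ = 1 := by
        obtain ⟨k', hk'⟩ := Nat.modEq_zero_iff_dvd.1 he1b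
        rw [hk', pow_mul, hv.1, one_pow]
      rw [hcm.mul_pow, h1, h2, mul_one]
  rw [Finset.sum_congr rfl hfib]
  have hcent : ∀ d : C, ∀ i : ℕ, d * c ^ i * d⁻¹ = c ^ i := fun d i => by
    rw [mem_center_iff.1 (pow_mem hc i) d, mul_inv_cancel_right]
  refine S3993.dvd_sum_of_conj_invariant _ _ _ ?_ ?_ ?_
  · intro x v h hx
    obtain ⟨d, rfl⟩ := isConj_iff.mp h
    simp only [S, Finset.mem_filter, Finset.mem_univ, true_and] at hx ⊢
    exact ⟨by rw [conj_pow, hx.1]; simp, by rw [conj_pow, hx.2, hcent]⟩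
  · intro x v h
    obtain ⟨d, rfl⟩ := isConj_iff.mp h
    have hmem : ∀ u, u ∈ centralizer ({x} : Set C) ↔
        MulAut.conj d u ∈ centralizer ({d * x * d⁻¹} : Set C) := fun u => by
      rw [mem_centralizer_singleton_iff, mem_centralizer_singleton_iff,
        ← MulAut.conj_apply (g := d) (h := x), ← map_mul, ← map_mul, (MulAut.conj d).injective.eq_iff]
    refine Nat.card_congr (Equiv.subtypeEquiv
      (Equiv.subtypeEquiv (MulAut.conj d).toEquiv hmem) fun u => ?_)
    rw [Subtype.ext_iff, Subtype.ext_iff]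
    show ((u : C) ^ q ^ A = 1 ∧ (u : C) ^ n = w) ↔
      ((MulAut.conj d (u : C)) ^ q ^ A = 1 ∧ (MulAut.conj d (u : C)) ^ n = w)
    have hw : MulAut.conj d w = w := hcent d e₁
    rw [← map_pow, ← map_pow, map_eq_one_iff _ (MulAut.conj d).injective]
    conv_rhs => rw [← hw, (MulAut.conj d).injective.eq_iff]
  · intro v _
    set H := centralizer ({v} : Set C)
    set w' : H := ⟨w, mem_centralizer_singleton_iff.2 (mem_center_iff.1 (pow_mem hc e₁) v).symm⟩
    have hwA : w' ^ q ^ A = 1 := Subtype.ext (hpA c)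
    have hkey : ∀ u : H, u ^ q ^ A = 1 → ((u : C) ^ n = w ↔ u ^ q ^ j = w' ^ k) := by
      intro u hu
      have hmk : ∀ y : H, y ^ q ^ A = 1 → (y ^ m) ^ k = y := fun y hy => by
        rw [← pow_mul]
        refine (pow_eq_pow_iff_modEq.2 (Nat.ModEq.of_dvd
          ((orderOf_dvd_of_pow_eq_one hy).trans (pow_dvd_pow q (Nat.le_succ A))) ?_)).trans (pow_one y)
        show m * k % _ = 1 % _
        rw [hk, Nat.one_mod_eq_one.2 (Nat.one_lt_pow (Nat.succ_ne_zero A) hq.one_lt).ne']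
      constructor
      · intro h
        have h' : w' = (u ^ q ^ j) ^ m := Subtype.ext (by
          show w = _
          rw [← h, hnm, pow_mul]; rfl)
        rw [h', hmk _ (by rw [← pow_mul, mul_comm, pow_mul, hu, one_pow])]
      · intro h
        have h' : u ^ n = w' := by
          rw [hnm, pow_mul, h, ← pow_mul, mul_comm, pow_mul, hmk _ hwA]
        exact congrArg Subtype.val h'
    have hf : f v = Nat.card {u : H // u ^ q ^ A = 1 ∧ u ^ q ^ j = w' ^ k} :=
      Nat.card_congr (Equiv.subtypeEquivRight fun u => ⟨fun h => ⟨h.1, (hkey u h.1).1 h.2⟩,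
        fun h => ⟨h.1, (hkey u h.1).2 h.2⟩⟩)
    have h1 : q ^ t ∣ H.index * Nat.card H := by
      rw [H.index_mul_card, ← hAM]; exact dvd_mul_of_dvd_left (pow_dvd_pow q htA) M
    have h2 : q ^ t ∣ H.index * Nat.gcd (q ^ j) (Nat.card H) := by
      rw [← Nat.gcd_mul_left]
      exact Nat.dvd_gcd (dvd_mul_of_dvd_right (pow_dvd_pow q htj) _) h1
    show q ^ t ∣ H.index * f v
    rw [hf]
    refine h2.trans (mul_dvd_mul_left _ (dvd_count_q q A j (w' ^ k) fun u i hi => ?_))
    refine (hq.pow_dvd_iff_le_factorization Nat.card_pos.ne').1 ?_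
    rw [← hi]; exact Subgroup.orderOf_coe u ▸ orderOf_dvd_natCard (u : C)

/-- Let `G` be a finite group of order `g`, `c` an element whose conjugacy class has `h` elements, and `n` a natural number. Then the number of elements `x` of `G` with `x^n` conjugate to `c` is a multiple of `gcd(hn, g)`. -/
theorem result {G : Type*} [Group G] [Finite G] (c : G) (n : ℕ) : Nat.gcd (Nat.card {y : G // IsConj c y} * n) (Nat.card G) ∣ Nat.card {x : G // IsConj c (x ^ n)} := by
  classical
  set C := centralizer ({c} : Set G) with hC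
  have hfib : ∀ y : {y : G // IsConj c y}, Nat.card {x : G // x ^ n = y} =
      Nat.card {x : C // x ^ n = ⟨c, mem_centralizer_singleton_iff.2 rfl⟩} := by
    rintro ⟨y, hy⟩
    obtain ⟨d, rfl⟩ := isConj_iff.1 hy
    have hx1 : ∀ x : {x : C // x ^ n = ⟨c, mem_centralizer_singleton_iff.2 rfl⟩},
        (d * (x.1 : G) * d⁻¹) ^ n = d * c * d⁻¹ := fun x => by
      rw [conj_pow, show (x.1 : G) ^ n = c from congrArg Subtype.val x.2]
    have hx2 : ∀ x : {x : G // x ^ n = d * c * d⁻¹}, (d⁻¹ * x.1 * d) ^ n = c := fun x => by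
      have := conj_pow (i := n) (a := d⁻¹) (b := x.1)
      rw [inv_inv] at this
      rw [this, x.2]
      group
    have hx3 : ∀ x : {x : G // x ^ n = d * c * d⁻¹}, d⁻¹ * x.1 * d ∈ C := fun x => by
      have h3 := Commute.self_pow (d⁻¹ * x.1 * d) n
      rw [hx2 x] at h3
      exact mem_centralizer_singleton_iff.2 h3.eq
    exact (Nat.card_congr
      { toFun := fun x => ⟨d * (x.1 : G) * d⁻¹, hx1 x⟩
        invFun := fun x => ⟨⟨d⁻¹ * x.1 * d, hx3 x⟩, Subtype.ext (hx2 x)⟩
        left_inv := fun x => Subtype.ext (Subtype.ext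
          (show d⁻¹ * (d * (x.1 : G) * d⁻¹) * d = x.1 by group))
        right_inv := fun x => Subtype.ext (show d * (d⁻¹ * x.1 * d) * d⁻¹ = x.1 by group) }).symm
  haveI : Fintype {y : G // IsConj c y} := Fintype.ofFinite _
  let π : {x : G // IsConj c (x ^ n)} → {y : G // IsConj c y} := fun x => ⟨x.1 ^ n, x.2⟩
  have hsum : Nat.card {x : G // IsConj c (x ^ n)} =
      Nat.card {y : G // IsConj c y} *
        Nat.card {x : C // x ^ n = ⟨c, mem_centralizer_singleton_iff.2 rfl⟩} := by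
    rw [Nat.card_congr (Equiv.sigmaFiberEquiv π).symm, Nat.card_sigma]
    rw [Nat.card_eq_fintype_card (α := {y : G // IsConj c y}), ← Finset.card_univ, ← smul_eq_mul,
      ← Finset.sum_const]
    refine Finset.sum_congr rfl fun y _ => ?_
    rw [← hfib y]
    exact Nat.card_congr
      { toFun := fun x => ⟨x.1.1, congrArg Subtype.val x.2⟩
        invFun := fun x => ⟨⟨x.1, by rw [x.2]; exact y.2⟩, Subtype.ext x.2⟩
        left_inv := fun x => rfl
        right_inv := fun x => rfl }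
  have hh : Nat.card {y : G // IsConj c y} * Nat.card C = Nat.card G := by
    have h1 : Nat.card {y : G // IsConj c y} = (ConjClasses.mk c).carrier.ncard := by
      rw [← Nat.card_coe_set_eq]
      exact Nat.card_congr (Equiv.subtypeEquivRight fun y => by
        rw [ConjClasses.mem_carrier_iff_mk_eq, ConjClasses.mk_eq_mk_iff_isConj]
        exact ⟨IsConj.symm, IsConj.symm⟩)
    rw [h1, S4035.carrier_ncard_eq_index, hC, index_mul_card]
  rw [hsum, ← hh, Nat.gcd_mul_left]
  refine mul_dvd_mul_left _ (dvd_count_central _ (mem_center_iff.2 fun g => ?_) n)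
  exact Subtype.ext (mem_centralizer_singleton_iff.1 g.2)

end Cfsg.Agent.S4212
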