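import Cfsg.Statements.S4213
import Cfsg.Agent.S3993
import Cfsg.Agent.Lib.Core.PSolvable
import Cfsg.Agent.Lib.Coprime.Action

set_option autoImplicit false
set_option linter.style.haveILetI false
open Cfsg

namespace Cfsg.Agent.S4213

open Subgroup

universe u

theorem aux : ∀ (N : ℕ) (G : Type u) [Group G] [Finite G] [Group.IsSolvable G] (n : ℕ), Nat.card G ≤ N →
    n ∣ Nat.card G → Nat.card {x : G // x ^ n = 1} = n →
    ∃ H : Subgroup G, H.Normal ∧ (H : Set G) = {x : G | x ^ n = 1} := by
  intro N
  induction N with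
  | zero => intro G _ _ _ n h; have := Nat.card_pos (α := G); omega
  | succ N ih =>
    intro G _ _ _ n hN hn hcount
    classical
    rcases subsingleton_or_nontrivial G with hG | hG
    · exact ⟨⊤, inferInstance, Set.ext fun x => by simp [Subsingleton.elim x 1]⟩
    -- a set of solutions as large as `S` is `S`
    have hclose : ∀ H : Subgroup G, (∀ x ∈ H, x ^ n = 1) → Nat.card H = n →
        ∃ H : Subgroup G, H.Normal ∧ (H : Set G) = {x : G | x ^ n = 1} := by
      intro H hH hc
      have heq : (H : Set G) = {x : G | x ^ n = 1} := by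
        refine Set.eq_of_subset_of_ncard_le hH ?_ (Set.toFinite _)
        rw [← Nat.card_coe_set_eq, ← Nat.card_coe_set_eq]
        exact (hcount.trans hc.symm).le
      refine ⟨H, ⟨fun x hx g => ?_⟩, heq⟩
      have h1 : g * x * g⁻¹ ∈ {x : G | x ^ n = 1} := by
        show (g * x * g⁻¹) ^ n = 1
        rw [conj_pow, hH x hx, mul_one, mul_inv_cancel]
      rwa [← heq] at h1
    obtain ⟨M, hM⟩ := Cfsg.Lib.Core.exists_isMinNormal_univ (G := G)
    haveI := hM.1
    obtain ⟨-, p, hp, hpow, hMp⟩ := Cfsg.Lib.Core.minimal_solvable_elementary hM inferInstance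
    haveI : Fact p.Prime := ⟨hp⟩
    obtain ⟨a, ha⟩ := IsPGroup.iff_card.1 hMp
    have ha0 : a ≠ 0 := fun h => hM.2.1 (eq_bot_of_card_eq M (by rw [ha, h, pow_zero]))
    set π := QuotientGroup.mk' M with hπ
    have hmul : Nat.card M * Nat.card (G ⧸ M) = Nat.card G := by
      rw [← index_eq_card]; exact card_mul_index M
    have hlt : Nat.card (G ⧸ M) ≤ N := by
      have := Cfsg.Lib.Core.card_quotient_lt hM.2.1
      omega
    have hker : ∀ x : G, π x = 1 → x ^ p = 1 := fun x hx => hpow x ((QuotientGroup.eq_one_iff x).1 hx)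
    have hpos : ∀ m : ℕ, 0 < Nat.card {x : G ⧸ M // x ^ m = 1} := fun m => by
      haveI : Nonempty {x : G ⧸ M // x ^ m = 1} := ⟨⟨1, one_pow m⟩⟩
      exact Nat.card_pos
    have hn0 : 0 < n := Nat.pos_of_dvd_of_pos hn Nat.card_pos
    by_cases hpn : p ∣ n
    · -- the solutions are a union of cosets of `M`
      set g := Nat.gcd n (Nat.card M) with hg
      set m := n / g with hm
      have hgm : m * g = n := Nat.div_mul_cancel (Nat.gcd_dvd_left n _)
      have hpg : p ∣ g := Nat.dvd_gcd hpn (ha ▸ dvd_pow_self p ha0)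
      have hmd : m ∣ Nat.card (G ⧸ M) := by
        have hgpos : 0 < g := Nat.gcd_pos_of_pos_left _ hn0
        have h1 : g * m ∣ g * (Nat.card M / g * Nat.card (G ⧸ M)) := by
          rw [mul_comm g m, hgm, ← mul_assoc, Nat.mul_div_cancel' (Nat.gcd_dvd_right n _), hmul]
          exact hn
        exact (Nat.coprime_div_gcd_div_gcd hgpos).dvd_of_dvd_mul_left (Nat.dvd_of_mul_dvd_mul_left hgpos h1)
      have hlift : ∀ x : G, π x ^ m = 1 → x ^ n = 1 := by
        intro x hx
        obtain ⟨c, hc⟩ := hpg
        rw [← hgm, hc, ← mul_assoc, pow_mul, pow_mul, hker (x ^ m) (by rw [map_pow, hx]), one_pow]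
      set T : Set (G ⧸ M) := {x | x ^ m = 1} with hT
      have hTm : m ≤ Nat.card T := Nat.le_of_dvd (hpos m) (Cfsg.Agent.S3993.result m hmd)
      have hpre : Nat.card M * Nat.card T ≤ n := by
        rw [← Nat.card_prod, ← Nat.card_congr (QuotientGroup.preimageMkEquivSubgroupProdSet M T)]
        exact (Nat.card_le_card_of_injective
          (fun x : ↥(((↑) : G → G ⧸ M) ⁻¹' T) => (⟨x.1, hlift x.1 x.2⟩ : {x : G // x ^ n = 1}))
          fun x y h => Subtype.ext (congrArg (Subtype.val : {x : G // x ^ n = 1} → G) h)).trans hcount.le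
      have hgM : g ≤ Nat.card M := Nat.gcd_le_right _ Nat.card_pos
      have hMm : Nat.card M * m = n := by
        refine le_antisymm ((Nat.mul_le_mul_left _ hTm).trans hpre) ?_
        rw [← hgm, mul_comm]
        exact Nat.mul_le_mul_right m hgM
      have hTc : Nat.card T = m := le_antisymm (Nat.le_of_mul_le_mul_left (hpre.trans hMm.ge) Nat.card_pos) hTm
      obtain ⟨H, hHn, hH⟩ := ih (G ⧸ M) m hlt hmd hTc
      refine hclose (H.comap π) (fun x hx => hlift x ?_) ?_
      · have h1 : π x ∈ (H : Set (G ⧸ M)) := hx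
        rwa [hH] at h1
      · have hc : Nat.card H = m := by
          rw [← hTc]; exact Nat.card_congr (Equiv.setCongr hH)
        rw [Cfsg.Lib.Core.card_comap_eq π (QuotientGroup.mk'_surjective M), QuotientGroup.ker_mk', hc, hMm]
    · -- the solutions form a complement of `M`
      have hcop : n.Coprime (Nat.card M) := by
        rw [ha]
        exact Nat.Coprime.pow_right a ((hp.coprime_iff_not_dvd.2 hpn).symm)
      have hnd : n ∣ Nat.card (G ⧸ M) := hcop.dvd_of_dvd_mul_left (hmul.symm ▸ hn)
      obtain ⟨e, he1, he0⟩ := Nat.chineseRemainder ((hp.coprime_iff_not_dvd.2 hpn).symm) 1 0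
      have hlift : ∀ x : {x : G ⧸ M // x ^ n = 1}, ∃ y : {y : G // y ^ n = 1}, π y = x := by
        rintro ⟨x, hx⟩
        obtain ⟨y, rfl⟩ := QuotientGroup.mk'_surjective M x
        refine ⟨⟨y ^ e, ?_⟩, ?_⟩
        · obtain ⟨c, hc⟩ := (Nat.modEq_zero_iff_dvd.1 he0)
          rw [← pow_mul, hc, mul_comm, ← mul_assoc, pow_mul, pow_mul, hker (y ^ n) (by rw [map_pow]; exact hx), one_pow]
        · show π (y ^ e) = π y
          rw [map_pow]
          exact (pow_eq_pow_of_modEq (he1.of_dvd dvd_rfl) hx).trans (pow_one _)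
      choose F hF using hlift
      have hTc : Nat.card {x : G ⧸ M // x ^ n = 1} = n := by
        refine le_antisymm ((Nat.card_le_card_of_injective F fun x y h => Subtype.ext ?_).trans hcount.le)
          (Nat.le_of_dvd (hpos n) (Cfsg.Agent.S3993.result n hnd))
        rw [← hF x, ← hF y, h]
      obtain ⟨H, hHn, hH⟩ := ih (G ⧸ M) n hlt hnd hTc
      have hc : Nat.card H = n := by
        conv_rhs => rw [← hTc]
        exact Nat.card_congr (Equiv.setCongr hH)
      have hMK : M ≤ H.comap π := (QuotientGroup.ker_mk' M).ge.trans (ker_le_comap π H)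
      have hidx : M.relIndex (H.comap π) = n := by
        have h1 := Cfsg.Lib.Core.card_mul_relIndex hMK
        rw [Cfsg.Lib.Core.card_comap_eq π (QuotientGroup.mk'_surjective M), QuotientGroup.ker_mk', hc] at h1
        exact Nat.eq_of_mul_eq_mul_left Nat.card_pos h1
      obtain ⟨C, -, hCc, -⟩ := Cfsg.Lib.Coprime.exists_complement_of_coprime hMK
        (normalizer_eq_top M ▸ le_top) (hidx ▸ hcop.symm)
      refine hclose C (fun x hx => ?_) (hCc.trans hidx)
      exact orderOf_dvd_iff_pow_eq_one.1 (hidx ▸ hCc ▸ Subgroup.orderOf_dvd_natCard C hx)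

/-- If `G` is a finite solvable group and `n` divides the order of `G` and exactly `n` elements `x` of `G` satisfy `x^n = 1`, then these elements form a normal subgroup. -/
theorem result {G : Type*} [Group G] [Finite G] [Group.IsSolvable G] (n : ℕ) (hn : n ∣ Nat.card G) (hcount : Nat.card {x : G // x ^ n = 1} = n) : ∃ H : Subgroup G, H.Normal ∧ (H : Set G) = {x : G | x ^ n = 1} := by
  exact aux _ G n le_rfl hn hcount

end Cfsg.Agent.S4213
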