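import Cfsg.Statements.S4214
import Cfsg.Agent.Lib.Solv.Hall
import Cfsg.Agent.Lib.Fusion.CoprimeFixProduct
import Cfsg.Agent.Lib.Fusion.MaxPNilpotent
import Mathlib.GroupTheory.GroupAction.Quotient

set_option linter.style.haveILetI false

set_option autoImplicit false
open Cfsg

namespace Cfsg.Agent.S4214

open Subgroup Cfsg.Lib.CoprimeFixProduct Cfsg.Lib.Solv
open scoped Pointwise

universe u v

/-- `|N : C_N(H)|` factors into prime powers congruent to one modulo primes dividing `|H|`. -/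
theorem exists_factors {H : Type u} [Group H] [Finite H] [Group.IsSolvable H] {q : ℕ} [Fact q.Prime] :
    ∀ (n : ℕ) {N : Type v} [CommGroup N] [Finite N], Nat.card N ≤ n → IsPGroup q N → ¬ q ∣ Nat.card H →
    ∀ φ : H →* MulAut N, ∃ l : List ℕ, l.prod * Nat.card (fixAll φ) = Nat.card N ∧
      ∀ y ∈ l, (∃ e, y = q ^ e) ∧ ∃ r : ℕ, r.Prime ∧ r ∣ Nat.card H ∧ y ≡ 1 [MOD r] := by
  intro n
  induction n with
  | zero => intro N _ _ h _ _ _; exact absurd h (not_le.mpr Nat.card_pos)
  | succ n ih =>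
  intro N _ _ hn hN hq φ
  classical
  by_cases htriv : fixAll φ = ⊤
  · exact ⟨[], by rw [List.prod_nil, one_mul, htriv, card_top], fun y hy => absurd hy List.not_mem_nil⟩
  have hex : φ.ker ≠ ⊤ := fun h => htriv (eq_top_iff.mpr fun v _ => mem_fixAll.mpr fun x => by
    rw [MonoidHom.mem_ker.mp (show x ∈ φ.ker from h ▸ mem_top x)]; rfl)
  obtain ⟨T, ⟨hTn, hTk⟩, hTmin⟩ := Set.Finite.exists_minimal (s := {T : Subgroup H | T.Normal ∧ ¬ T ≤ φ.ker})
    (Set.toFinite _) ⟨⊤, inferInstance, fun h => hex (top_le_iff.mp h)⟩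
  haveI := hTn
  set X := T.map φ with hX
  haveI : Nontrivial X := (nontrivial_iff_ne_bot X).mpr fun h => hTk (by rwa [hX, Subgroup.map_eq_bot_iff] at h)
  have hTlt : ⁅T, T⁆ < T := by
    haveI : Nontrivial T := (nontrivial_iff_ne_bot T).mpr fun h => hTk (h ▸ bot_le)
    exact Group.IsSolvable.commutator_lt_of_ne_bot ((nontrivial_iff_ne_bot T).mp inferInstance)
  have hT' : ⁅T, T⁆ ≤ φ.ker := by
    by_contra h
    exact hTlt.not_ge (hTmin ⟨inferInstance, h⟩ hTlt.le)
  have hcomm : ∀ a ∈ T, ∀ b ∈ T, Commute (φ a) (φ b) := fun a ha b hb => by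
    have h1 := hT' (commutator_mem_commutator ha hb)
    rw [MonoidHom.mem_ker, map_commutatorElement] at h1
    exact commutatorElement_eq_one_iff_mul_comm.mp h1
  obtain ⟨r, hr, hrX⟩ := Nat.exists_prime_and_dvd (Finite.one_lt_card (α := X)).ne'
  haveI := Fact.mk hr
  obtain ⟨⟨_, t, ht, rfl⟩, hx⟩ := exists_prime_orderOf_dvd_card' r hrX
  have hx : orderOf (φ t) = r := by rw [← hx]; exact orderOf_injective X.subtype X.subtype_injective ⟨φ t, _⟩
  -- the elements of `T` with image of `r`-power order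
  let U : Subgroup H :=
    { carrier := {y | y ∈ T ∧ ∃ k : ℕ, φ y ^ r ^ k = 1}
      one_mem' := ⟨one_mem T, 0, by rw [map_one, one_pow]⟩
      mul_mem' := fun {a b} ⟨ha, i, hi⟩ ⟨hb, j, hj⟩ => ⟨mul_mem ha hb, i + j, by
        rw [map_mul, (hcomm a ha b hb).mul_pow]
        conv_lhs => rw [pow_add, pow_mul, hi, one_pow, one_mul, mul_comm (r ^ i), pow_mul, hj, one_pow]⟩
      inv_mem' := fun {a} ⟨ha, i, hi⟩ => ⟨inv_mem ha, i, by rw [map_inv, inv_pow, hi, inv_one]⟩ }
  haveI hUn : U.Normal := ⟨fun y ⟨hy, i, hi⟩ g => ⟨hTn.conj_mem y hy g, i, by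
    rw [map_mul, map_mul, map_inv, conj_pow, hi, mul_one, mul_inv_cancel]⟩⟩
  have hTU : T ≤ U := hTmin ⟨hUn, fun h => by
    have h1 : φ t = 1 := h ⟨ht, 1, by rw [pow_one, ← hx]; exact pow_orderOf_eq_one _⟩
    rw [h1, orderOf_one] at hx
    exact hr.one_lt.ne hx⟩ (fun y hy => hy.1)
  have hXr : IsPGroup r X := by
    rintro ⟨_, y, hy, rfl⟩
    obtain ⟨-, k, hk⟩ := hTU hy
    exact ⟨k, Subtype.ext hk⟩
  -- the fixed points of `T`
  set M : Subgroup N := fixAll (φ.comp T.subtype) with hM
  have hMinv : ∀ x : H, ∀ v ∈ M, φ x v ∈ M := fun x v hv => mem_fixAll.mpr fun ⟨y, hy⟩ => by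
    show φ y (φ x v) = φ x v
    have h1 : φ (x⁻¹ * y * x) v = v := by
      simpa using mem_fixAll.mp hv ⟨x⁻¹ * y * x, by simpa using hTn.conj_mem y hy x⁻¹⟩
    conv_rhs => rw [← h1]
    rw [← map_mul_apply', ← map_mul_apply']
    congr 2
    group
  have hMtop : M ≠ ⊤ := fun h => hTk fun y hy => MonoidHom.mem_ker.mpr (MulEquiv.ext fun v =>
    mem_fixAll.mp (show v ∈ M from h ▸ mem_top v) ⟨y, hy⟩)
  have hall : Nat.card (fixAll (restrictHom φ M hMinv)) = Nat.card (fixAll φ) := by
    rw [fixAll_restrict, inf_eq_left.mpr (show fixAll φ ≤ M from fun v hv =>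
      mem_fixAll.mpr fun y => mem_fixAll.mp hv y)]
  have hlt : Nat.card M ≤ n := by
    have h1 := M.card_mul_index
    have h2 : 1 < M.index := one_lt_index_of_ne_top hMtop
    have h3 : 0 < Nat.card M := Nat.card_pos
    nlinarith
  obtain ⟨l, hl, hlmem⟩ := ih (N := M) hlt (hN.to_subgroup M) hq (restrictHom φ M hMinv)
  rw [hall] at hl
  refine ⟨M.index :: l, by rw [List.prod_cons, mul_assoc, hl, mul_comm, card_mul_index], fun y hy => ?_⟩
  rcases List.mem_cons.mp hy with rfl | hy
  · obtain ⟨j, hj⟩ := IsPGroup.iff_card.mp hN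
    obtain ⟨e, -, he⟩ := (Nat.dvd_prime_pow (Fact.out : q.Prime)).mp (hj ▸ index_dvd_card M)
    have hrH : r ∣ Nat.card H := (hrX.trans (card_map_dvd T φ)).trans (card_subgroup_dvd_card T)
    refine ⟨⟨e, he⟩, r, hr, hrH, ?_⟩
    letI : MulAction X N := MulAction.compHom N X.subtype
    have hfix : Nat.card (MulAction.fixedPoints X N) = Nat.card M := Nat.card_congr (Equiv.subtypeEquivRight fun v =>
      ⟨fun h => mem_fixAll.mpr fun y => h ⟨φ y, mem_map_of_mem φ y.2⟩, fun h ⟨_, y, hy, hye⟩ => by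
        subst hye; exact mem_fixAll.mp h ⟨y, hy⟩⟩)
    have hmod := hXr.card_modEq_card_fixedPoints N
    rw [hfix, ← M.card_mul_index] at hmod
    obtain ⟨i, hi⟩ := IsPGroup.iff_card.mp (hN.to_subgroup M)
    refine Nat.ModEq.cancel_left_of_coprime ?_ (hmod.trans (by rw [mul_one]))
    rw [hi]
    exact ((Nat.coprime_primes hr (Fact.out : q.Prime)).mpr fun h => hq (h ▸ hrH)).pow_right i
  · exact hlmem y hy

/-- The conditions on a factor. -/
def Cond (G : Type u) [Group G] (m y : ℕ) : Prop :=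
  (∃ q e : ℕ, q.Prime ∧ y = q ^ e) ∧ (∃ K L : Subgroup G, K.Normal ∧ L.Normal ∧ K < L ∧
    (∀ M : Subgroup G, M.Normal → K ≤ M → M ≤ L → M = K ∨ M = L) ∧ y ∣ K.relIndex L) ∧
    (∃ q : ℕ, q.Prime ∧ q ∣ m ∧ y ≡ 1 [MOD q])

theorem Cond.lift {G : Type u} [Group G] (N : Subgroup G) [N.Normal] {m m' y : ℕ} (hd : m' ∣ m)
    (h : Cond (G ⧸ N) m' y) : Cond G m y := by
  obtain ⟨h1, ⟨K, L, hK, hL, hlt, hmin, hdvd⟩, q, hq, hqm, hy⟩ := h
  set π := QuotientGroup.mk' N
  have hπ : Function.Surjective π := QuotientGroup.mk'_surjective N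
  refine ⟨h1, ⟨K.comap π, L.comap π, hK.comap π, hL.comap π,
    (comap_lt_comap_of_surjective hπ).mpr hlt, fun M hM hKM hML => ?_, ?_⟩, q, hq, hqm.trans hd, hy⟩
  · have hNM : π.ker ≤ M := (ker_le_comap π K).trans hKM
    rcases hmin (M.map π) (hM.map π hπ) ((map_comap_eq_self_of_surjective hπ K).symm.trans_le (map_mono hKM))
      ((map_mono hML).trans_eq (map_comap_eq_self_of_surjective hπ L)) with h | h
    · exact Or.inl (by rw [← h, comap_map_eq_self hNM])
    · exact Or.inr (by rw [← h, comap_map_eq_self hNM])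
  · rwa [relIndex_comap, map_comap_eq_self_of_surjective hπ]

theorem count_hall : ∀ (b : ℕ) {G : Type u} [Group G] [Finite G] [Group.IsSolvable G], Nat.card G ≤ b →
    ∀ m n : ℕ, Nat.card G = m * n → m.Coprime n →
    ∃ l : List ℕ, Nat.card {H : Subgroup G // Nat.card H = m} = l.prod ∧ ∀ y ∈ l, Cond G m y := by
  intro b
  induction b with
  | zero => intro G _ _ _ h _ _ _ _; exact absurd h (not_le.mpr Nat.card_pos)
  | succ b ih =>
  intro G _ _ _ hb m n hG hmn
  classical
  rcases subsingleton_or_nontrivial G with hs | hs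
  · rw [Nat.card_of_subsingleton (1 : G)] at hG
    obtain rfl : m = 1 := Nat.eq_one_of_mul_eq_one_right hG.symm
    refine ⟨[], ?_, fun y hy => absurd hy List.not_mem_nil⟩
    rw [List.prod_nil, Nat.card_eq_one_iff_unique]
    exact ⟨⟨fun a b => Subtype.ext (Subsingleton.elim _ _)⟩, ⟨⟨⊥, card_bot⟩⟩⟩
  obtain ⟨N, hNmin⟩ := Cfsg.Lib.Core.exists_isMinNormal_univ (G := G)
  haveI := hNmin.1
  obtain ⟨hNab, q, hq, -, hNq⟩ := Cfsg.Lib.Core.minimal_solvable_elementary hNmin inferInstance
  haveI := Fact.mk hq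
  obtain ⟨j, hj⟩ := IsPGroup.iff_card.mp hNq
  have hj0 : j ≠ 0 := fun h => hNmin.2.1 (card_eq_one.mp (by rw [hj, h, pow_zero]))
  set π := QuotientGroup.mk' N
  have hπ : Function.Surjective π := QuotientGroup.mk'_surjective N
  have hcardq : Nat.card G = Nat.card (G ⧸ N) * Nat.card N := card_eq_card_quotient_mul_card_subgroup N
  have hlt : Nat.card (G ⧸ N) ≤ b := by
    have h1 : 2 ≤ Nat.card N := hj ▸ hq.two_le.trans (Nat.le_self_pow hj0 q)
    have h3 : 0 < Nat.card (G ⧸ N) := Nat.card_pos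
    nlinarith
  have hNdvd : q ^ j ∣ m * n := by rw [← hj, ← hG]; exact card_subgroup_dvd_card N
  by_cases hqm : q ∣ m
  · -- every Hall subgroup contains `N`
    have hNn : (Nat.card N).Coprime n := by
      rw [hj]; exact (hmn.coprime_dvd_left hqm).pow_left j
    have hNm : Nat.card N ∣ m := hNn.dvd_of_dvd_mul_right (by rw [← hG]; exact card_subgroup_dvd_card N)
    obtain ⟨m', rfl⟩ := hNm
    have hG' : Nat.card (G ⧸ N) = m' * n := Nat.eq_of_mul_eq_mul_right Nat.card_pos
      (hcardq.symm.trans (by rw [hG, mul_comm (Nat.card N) m', mul_right_comm]))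
    obtain ⟨l, hl, hmem⟩ := ih hlt m' n hG' (hmn.coprime_dvd_left (Dvd.intro_left _ rfl))
    refine ⟨l, ?_, fun y hy => (hmem y hy).lift N (Dvd.intro_left _ rfl)⟩
    rw [← hl]
    have hle : ∀ H : Subgroup G, Nat.card H = Nat.card N * m' → N ≤ H := fun H hH => by
      have h1 : Nat.card ↥(H ⊔ N) ∣ Nat.card H * Nat.card N := by
        rw [← relIndex_bot_left (H ⊔ N), ← relIndex_mul_relIndex ⊥ N (H ⊔ N) bot_le le_sup_right,
          relIndex_bot_left, relIndex_sup_right, mul_comm]
        exact mul_dvd_mul (relIndex_dvd_card N H) dvd_rfl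
      have h2 : (Nat.card ↥(H ⊔ N)).Coprime n :=
        Nat.Coprime.coprime_dvd_left h1 (Nat.Coprime.mul_left (hH ▸ hmn) hNn)
      have h3 : Nat.card ↥(H ⊔ N) ∣ Nat.card H :=
        hH.symm ▸ h2.dvd_of_dvd_mul_right (hG ▸ card_subgroup_dvd_card _)
      exact (le_sup_right : N ≤ H ⊔ N).trans_eq
        (eq_of_le_of_card_ge le_sup_left (Nat.le_of_dvd Nat.card_pos h3)).symm
    have hc : ∀ K : Subgroup (G ⧸ N), Nat.card (K.comap π) = Nat.card N * Nat.card K := fun K => by
      have e : N = (⊥ : Subgroup (G ⧸ N)).comap π := by rw [MonoidHom.comap_bot, QuotientGroup.ker_mk']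
      rw [← relIndex_bot_left, ← relIndex_mul_relIndex ⊥ N (K.comap π) bot_le
        ((QuotientGroup.ker_mk' N).symm.trans_le (ker_le_comap π K)), relIndex_bot_left,
        congrArg (fun X : Subgroup G => X.relIndex (K.comap π)) e, relIndex_comap,
        map_comap_eq_self_of_surjective hπ, relIndex_bot_left]
    have hcomap : ∀ H : Subgroup G, Nat.card H = Nat.card N * m' → (H.map π).comap π = H := fun H hH =>
      comap_map_eq_self ((QuotientGroup.ker_mk' N).trans_le (hle H hH))
    exact Nat.card_congr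
      { toFun := fun H => ⟨H.1.map π, Nat.eq_of_mul_eq_mul_left Nat.card_pos (n := Nat.card N)
          (by rw [← hc, hcomap H.1 H.2, H.2])⟩
        invFun := fun K => ⟨K.1.comap π, by rw [hc, K.2]⟩
        left_inv := fun H => Subtype.ext (hcomap H.1 H.2)
        right_inv := fun K => Subtype.ext (map_comap_eq_self_of_surjective hπ K.1) }
  · -- Hall subgroups are complements above their images
    have hmN : (Nat.card N).Coprime m := by rw [hj]; exact ((hq.coprime_iff_not_dvd).mpr hqm).pow_left j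
    have hNn : Nat.card N ∣ n := hmN.dvd_of_dvd_mul_left (by rw [← hG]; exact card_subgroup_dvd_card N)
    obtain ⟨n', rfl⟩ := hNn
    have hG' : Nat.card (G ⧸ N) = m * n' := Nat.eq_of_mul_eq_mul_right Nat.card_pos
      (hcardq.symm.trans (by rw [hG, mul_comm (Nat.card N) n', mul_assoc]))
    have hmn' : m.Coprime n' := hmn.coprime_dvd_right (Dvd.intro_left _ rfl)
    obtain ⟨l, hl, hmem⟩ := ih hlt m n' hG' hmn'
    have hdisj : ∀ H : Subgroup G, Nat.card H = m → N ⊓ H = ⊥ := fun H hH =>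
      disjoint_iff.mp (disjoint_of_coprime_natCard (hH.symm ▸ hmN))
    have himg : ∀ H : Subgroup G, Nat.card H = m → Nat.card (H.map π) = m := fun H hH => by
      rw [← relIndex_ker, QuotientGroup.ker_mk', ← inf_relIndex_right, hdisj H hH, relIndex_bot_left, hH]
    let F : {H : Subgroup G // Nat.card H = m} → {K : Subgroup (G ⧸ N) // Nat.card K = m} :=
      fun H => ⟨H.1.map π, himg H.1 H.2⟩
    obtain ⟨H₀, hH₀⟩ := hall_exists (G := G) hG hmn
    -- all fibers have the same size
    have hsame : ∀ K, Nat.card {H // F H = K} = Nat.card {H // F H = F ⟨H₀, hH₀⟩} := by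
      rintro ⟨K, hK⟩
      obtain ⟨gb, hgb⟩ := hall_conj (G := G ⧸ N) hG' hmn' (himg H₀ hH₀) hK
      obtain ⟨g, rfl⟩ := hπ gb
      have hcj : ∀ H : Subgroup G, (MulAut.conj g • H).map π = MulAut.conj (π g) • H.map π := fun H => by
        show (H.map (MulAut.conj g).toMonoidHom).map π = (H.map π).map (MulAut.conj (π g)).toMonoidHom
        rw [map_map, map_map]; congr 1
      refine (Nat.card_congr (Equiv.subtypeEquiv ((MulAction.toPerm (MulAut.conj g)).subtypeEquiv fun H => ?_) fun H => ?_)).symm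
      · show _ ↔ Nat.card ↥(H.map (MulAut.conj g).toMonoidHom) = m
        rw [card_map_of_injective (f := (MulAut.conj g).toMonoidHom) (MulAut.conj g).injective]
      · constructor
        · intro h
          refine Subtype.ext ?_
          show (MulAut.conj g • H.1).map π = K
          rw [hcj, show H.1.map π = H₀.map π from congrArg Subtype.val h, hgb]
        · intro h
          refine Subtype.ext ?_
          have h2 : (MulAut.conj g • H.1).map π = K := congrArg Subtype.val h
          rw [hcj, ← hgb] at h2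
          exact smul_left_cancel _ h2
    -- the fiber is an orbit of `N`
    let φ : H₀ →* MulAut N := MulAut.conjNormal.comp H₀.subtype
    letI : CommGroup N := { (inferInstance : Group N) with mul_comm := mul_comm' }
    obtain ⟨l', hl', hmem'⟩ := exists_factors (q := q) (Nat.card N) le_rfl hNq (hH₀ ▸ hqm : ¬ q ∣ Nat.card H₀) φ
    have hfib : Nat.card {H // F H = F ⟨H₀, hH₀⟩} * Nat.card (fixAll φ) = Nat.card N := by
      letI : MulAction N (Subgroup G) := MulAction.compHom _ ((MulAut.conj : G →* MulAut G).comp N.subtype)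
      have e1 : Nat.card {H // F H = F ⟨H₀, hH₀⟩} =
          Nat.card {H : Subgroup G // Nat.card H = m ∧ H.map π = H₀.map π} :=
        Nat.card_congr
          { toFun := fun H => ⟨H.1.1, H.1.2, congrArg Subtype.val H.2⟩
            invFun := fun H => ⟨⟨H.1, H.2.1⟩, Subtype.ext H.2.2⟩
            left_inv := fun _ => rfl
            right_inv := fun _ => rfl }
      have horb : MulAction.orbit N H₀ = {H : Subgroup G | Nat.card H = m ∧ H.map π = H₀.map π} := by
        ext H
        constructor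
        · rintro ⟨x, rfl⟩
          show Nat.card ↥(H₀.map (MulAut.conj (x : G)).toMonoidHom) = m ∧
            (H₀.map (MulAut.conj (x : G)).toMonoidHom).map π = H₀.map π
          refine ⟨(card_map_of_injective (MulAut.conj (x : G)).injective).trans hH₀, ?_⟩
          rw [map_map]
          congr 1
          ext y
          simp [show π (x : G) = 1 from (QuotientGroup.eq_one_iff _).mpr x.2]
        · rintro ⟨hH, hmap⟩
          have hle : H₀ ≤ N ⊔ H := by
            rw [sup_comm, ← QuotientGroup.ker_mk' N, ← comap_map_eq, ← map_le_iff_le_comap]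
            exact hmap.ge
          obtain ⟨x, hx, hxe⟩ := Cfsg.Lib.MaxPNilpotent.exists_conj_complement (hdisj H₀ hH₀) (hdisj H hH) hle
            (hH₀.trans hH.symm).ge (hH₀.symm ▸ hmN)
          exact ⟨⟨x, hx⟩, hxe⟩
      have hstab : Nat.card (MulAction.stabilizer N H₀) = Nat.card (fixAll φ) := by
        refine Nat.card_congr (Equiv.subtypeEquivRight fun x => ?_)
        rw [MulAction.mem_stabilizer_iff, mem_fixAll]
        show H₀.map (MulAut.conj (x : G)).toMonoidHom = H₀ ↔ _
        constructor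
        · intro h y
          refine Subtype.ext ?_
          show (y : G) * x * (y : G)⁻¹ = x
          have h1 : (x : G) * y * (x : G)⁻¹ ∈ H₀ := by
            have := mem_map_of_mem (MulAut.conj (x : G)).toMonoidHom y.2
            rw [h] at this; exact this
          have h2 : (x : G) * y * (x : G)⁻¹ * (y : G)⁻¹ = 1 := mem_bot.mp (hdisj H₀ hH₀ ▸ mem_inf.mpr ⟨by
            rw [show (x : G) * y * (x : G)⁻¹ * (y : G)⁻¹ = x * ((y : G) * (x : G)⁻¹ * (y : G)⁻¹) by group]
            exact mul_mem x.2 (hNmin.1.conj_mem _ (inv_mem x.2) y), mul_mem h1 (inv_mem y.2)⟩)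
          rw [mul_inv_eq_one, mul_inv_eq_iff_eq_mul] at h2
          rw [← h2, mul_inv_cancel_right]
        · intro h
          refine eq_of_le_of_card_ge ?_ (card_map_of_injective (MulAut.conj (x : G)).injective).ge
          rintro _ ⟨y, hy, rfl⟩
          have h1 : y * x * y⁻¹ = (x : G) := congrArg Subtype.val (h ⟨y, hy⟩)
          show (x : G) * y * (x : G)⁻¹ ∈ H₀
          rwa [← mul_inv_eq_iff_eq_mul.mp h1, mul_inv_cancel_right]
      rw [e1, show Nat.card {H : Subgroup G // Nat.card H = m ∧ H.map π = H₀.map π} =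
        (MulAction.orbit N H₀).ncard by rw [horb]; exact Nat.card_coe_set_eq _, ← MulAction.index_stabilizer,
        ← hstab]
      exact index_mul_card _
    have hfib' : Nat.card {H // F H = F ⟨H₀, hH₀⟩} = l'.prod :=
      Nat.eq_of_mul_eq_mul_right Nat.card_pos (hfib.trans hl'.symm)
    haveI := Fintype.ofFinite {K : Subgroup (G ⧸ N) // Nat.card K = m}
    refine ⟨l ++ l', ?_, fun y hy => (List.mem_append.mp hy).elim (fun h => (hmem y h).lift N dvd_rfl) fun h => ?_⟩
    · rw [List.prod_append, ← hl, ← hfib', Nat.card_congr (Equiv.sigmaFiberEquiv F).symm, Nat.card_sigma,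
        Finset.sum_congr rfl (fun K _ => hsame K), Finset.sum_const, Finset.card_univ, smul_eq_mul,
        ← Nat.card_eq_fintype_card]
    · obtain ⟨⟨e, he⟩, r, hr, hrm, hy⟩ := hmem' y h
      refine ⟨⟨q, e, hq, he⟩, ⟨⊥, N, inferInstance, inferInstance, bot_lt_iff_ne_bot.mpr hNmin.2.1,
        fun M hM _ hMN => hNmin.2.2 M hM hMN, ?_⟩, r, hr, hH₀ ▸ hrm, hy⟩
      rw [relIndex_bot_left, ← hl']
      exact dvd_mul_of_dvd_left (List.dvd_prod h) _

/-- Let `G` be a finite solvable group of order `mn` with `gcd(m, n) = 1`. Then the number of subgroups of order `m` is a product of natural numbers each of which is a power of a prime, divides the order of some chief factor of `G` (a quotient `L/K` of normal subgroups `K < L` of `G` with no normal subgroup of `G` strictly between them), and is congruent to `1` modulo some prime divisor of `m`. -/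
theorem result {G : Type*} [Group G] [Finite G] [Group.IsSolvable G] (m n : ℕ) (hG : Nat.card G = m * n) (hmn : Nat.Coprime m n) : ∃ (k : ℕ) (f : Fin k → ℕ), Nat.card {H : Subgroup G // Nat.card H = m} = ∏ i, f i ∧ ∀ i, (∃ q e : ℕ, q.Prime ∧ f i = q ^ e) ∧ (∃ K L : Subgroup G, K.Normal ∧ L.Normal ∧ K < L ∧ (∀ M : Subgroup G, M.Normal → K ≤ M → M ≤ L → M = K ∨ M = L) ∧ f i ∣ K.relIndex L) ∧ (∃ q : ℕ, q.Prime ∧ q ∣ m ∧ f i ≡ 1 [MOD q]) := by
  obtain ⟨l, hl, hmem⟩ := count_hall (Nat.card G) le_rfl m n hG hmn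
  refine ⟨l.length, fun i => l.get i, ?_, fun i => hmem _ (List.get_mem l i)⟩
  rw [hl, ← List.prod_ofFn, List.ofFn_get]

end Cfsg.Agent.S4214
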