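import Cfsg.Statements.S4217
import Cfsg.Agent.S0051
import Cfsg.Agent.Lib.Core.Basic

set_option autoImplicit false
open Cfsg

namespace Cfsg.Agent.S4217

open Subgroup

/-- A complement modulo the `p'`-part of `A`. -/
theorem exists_partial {G : Type*} [Group G] [Finite G] (A : Subgroup G) [A.Normal]
    (hA : IsMulCommutative A) (p : ℕ) [hp : Fact p.Prime]
    (h : ∃ (S : Sylow p (G ⧸ A)) (K : Subgroup G), K ⊓ A = ⊥ ∧
      K ⊔ A = (S : Subgroup (G ⧸ A)).comap (QuotientGroup.mk' A)) :
    ∃ H : Subgroup G, H.index = p ^ (Nat.card A).factorization p ∧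
      ∀ x ∈ H, x ∈ A → ¬ p ∣ orderOf x := by
  classical
  obtain ⟨S, K, hKA, hKS⟩ := h
  haveI := hA
  let B : Subgroup G :=
    { carrier := {a | a ∈ A ∧ ¬ p ∣ orderOf a}
      one_mem' := ⟨one_mem A, by rw [orderOf_one]; exact hp.out.not_dvd_one⟩
      mul_mem' := fun {a b} ha hb => ⟨mul_mem ha.1 hb.1, fun hd => by
        have hc : Commute a b := setLike_mul_comm ha.1 hb.1
        exact (hp.out.dvd_mul.1 (hd.trans hc.orderOf_mul_dvd_mul_orderOf)).elim ha.2 hb.2⟩
      inv_mem' := fun {a} ha => ⟨inv_mem ha.1, by rw [orderOf_inv]; exact ha.2⟩ }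
  haveI hBn : B.Normal := ⟨fun a ha g => ⟨‹A.Normal›.conj_mem a ha.1 g, by
    rw [← MulAut.conj_apply, MulEquiv.orderOf_eq]; exact ha.2⟩⟩
  have hBA : B ≤ A := fun a ha => ha.1
  set f := QuotientGroup.mk' B with hf
  have hfs : Function.Surjective f := QuotientGroup.mk'_surjective B
  have hfk : f.ker = B := QuotientGroup.ker_mk' B
  haveI hKn : (A.map f).Normal := Subgroup.Normal.map ‹A.Normal› f hfs
  haveI hKc : IsMulCommutative (A.map f) := ⟨⟨by
    rintro ⟨_, a, ha, rfl⟩ ⟨_, b, hb, rfl⟩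
    refine Subtype.ext ?_
    show f a * f b = f b * f a
    rw [← map_mul, ← map_mul, setLike_mul_comm ha hb]⟩⟩
  have hKp : IsPGroup p (A.map f) := by
    rintro ⟨_, a, ha, rfl⟩
    refine ⟨(Nat.card A).factorization p, Subtype.ext ?_⟩
    show f a ^ _ = 1
    rw [← map_pow]
    refine (QuotientGroup.eq_one_iff _).2 ⟨pow_mem ha _, fun hd => ?_⟩
    have h1 : (a ^ p ^ (Nat.card A).factorization p) ^ (Nat.card A / p ^ (Nat.card A).factorization p) = 1 := by
      rw [← pow_mul, Nat.ordProj_mul_ordCompl_eq_self,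
        show a ^ Nat.card A = ((⟨a, ha⟩ ^ Nat.card A : A) : G) from rfl, pow_card_eq_one']; rfl
    exact Nat.not_dvd_ordCompl hp.out Nat.card_pos.ne' (hd.trans (orderOf_dvd_of_pow_eq_one h1))
  obtain ⟨j, hj⟩ := IsPGroup.iff_card.1 hKp
  set U := (S : Subgroup (G ⧸ A)).comap (QuotientGroup.mk' A)
  have hAU : A ≤ U := hKS ▸ le_sup_right
  have hidx : (Nat.card (A.map f)).Coprime (U.map f).index := by
    rw [hj]
    refine Nat.Coprime.pow_left j ((Nat.Prime.coprime_iff_not_dvd hp.out).2 fun hd => ?_)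
    have h1 : (U.map f).index = U.index :=
      index_map_eq _ hfs (hfk.le.trans (hBA.trans hAU))
    rw [h1, index_comap_of_surjective _ (QuotientGroup.mk'_surjective A)] at hd
    exact S.not_dvd_index hd
  obtain ⟨H0, hH0⟩ := Cfsg.Agent.S0051.result (A.map f) (U.map f) (map_mono hAU) hidx (K.map f)
    (map_mono (hKS ▸ le_sup_left)) (by
      rw [eq_bot_iff]
      rintro _ ⟨⟨x, hx, rfl⟩, a, ha, hxa⟩
      have hxA : x ∈ A := by
        have : x⁻¹ * a ∈ B := QuotientGroup.eq.1 hxa.symm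
        simpa using A.mul_mem ha (A.inv_mem (hBA this))
      have h2 : x ∈ K ⊓ A := ⟨hx, hxA⟩
      rw [hKA, mem_bot] at h2
      rw [mem_bot, h2, map_one])
    (by rw [← Subgroup.map_sup, sup_comm, hKS])
  refine ⟨H0.comap f, ?_, fun x hx hxA => ?_⟩
  · rw [index_comap_of_surjective _ hfs, hH0.index_eq_card, hj]
    congr 1
    have h1 : Nat.card (A.map f) * Nat.card B = Nat.card A := by
      have h := (MonoidHom.ker (f.comp A.subtype)).index_mul_card
      rw [Subgroup.index_ker, MonoidHom.range_comp, range_subtype] at h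
      refine Eq.trans ?_ h
      congr 1
      refine Nat.card_congr
        { toFun := fun x => ⟨⟨x, hBA x.2⟩, (QuotientGroup.eq_one_iff _).2 x.2⟩
          invFun := fun x => ⟨x.1, (QuotientGroup.eq_one_iff (x.1 : G)).1 x.2⟩
          left_inv := fun x => rfl
          right_inv := fun x => rfl }
    have hB : ¬ p ∣ Nat.card B := fun hd => by
      obtain ⟨b, hb⟩ := exists_prime_orderOf_dvd_card' p hd
      exact b.2.2 (by rw [Subgroup.orderOf_coe, hb])
    rw [← h1, hj, Nat.factorization_mul (pow_ne_zero _ hp.out.ne_zero) Nat.card_pos.ne',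
      Finsupp.add_apply, hp.out.factorization_pow, Finsupp.single_eq_same,
      Nat.factorization_eq_zero_of_not_dvd hB, add_zero]
  · have h2 : f x ∈ A.map f ⊓ H0 := ⟨mem_map_of_mem f hxA, hx⟩
    rw [hH0.disjoint.eq_bot, mem_bot] at h2
    exact ((QuotientGroup.eq_one_iff x).1 h2).2

/-- Let `A` be an abelian normal subgroup of the finite group `G`. Then `A` has a complement in `G` if and only if, for every prime `p` dividing the index of `A`, there are a Sylow `p`-subgroup `S` of `G/A` and a subgroup `K` of `G` with `K ∩ A = 1` and `KA` equal to the preimage of `S` (that is, `A` has a complement in the preimage of a Sylow `p`-subgroup of `G/A`). -/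
theorem result {G : Type*} [Group G] [Finite G] (A : Subgroup G) [A.Normal] (hA : IsMulCommutative A) : (∃ K : Subgroup G, K.IsComplement' A) ↔ ∀ p : ℕ, p.Prime → p ∣ A.index → ∃ (S : Sylow p (G ⧸ A)) (K : Subgroup G), K ⊓ A = ⊥ ∧ K ⊔ A = (S : Subgroup (G ⧸ A)).comap (QuotientGroup.mk' A) := by
  classical
  constructor
  · rintro ⟨K, hK⟩ p hp -
    haveI : Fact p.Prime := ⟨hp⟩
    obtain ⟨S⟩ : Nonempty (Sylow p (G ⧸ A)) := inferInstance
    set U := (S : Subgroup (G ⧸ A)).comap (QuotientGroup.mk' A)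
    refine ⟨S, K ⊓ U, eq_bot_iff.2 (le_trans (inf_le_inf_right A inf_le_left) hK.disjoint.le_bot), ?_⟩
    have hAU : A ≤ U := fun a ha => by
      show (QuotientGroup.mk a : G ⧸ A) ∈ (S : Subgroup (G ⧸ A))
      rw [(QuotientGroup.eq_one_iff a).2 ha]; exact one_mem _
    refine le_antisymm (sup_le inf_le_right hAU) fun x hx => ?_
    obtain ⟨k, hk, a, ha, rfl⟩ := mem_sup_of_normal_right.1 (hK.sup_eq_top.symm ▸ mem_top x)
    exact mul_mem_sup ⟨hk, by simpa using U.mul_mem hx (U.inv_mem (hAU ha))⟩ ha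
  · intro h
    have h' : ∀ p : ℕ, p.Prime → ∃ (S : Sylow p (G ⧸ A)) (K : Subgroup G), K ⊓ A = ⊥ ∧
        K ⊔ A = (S : Subgroup (G ⧸ A)).comap (QuotientGroup.mk' A) := by
      intro p hp
      by_cases hd : p ∣ A.index
      · exact h p hp hd
      haveI : Fact p.Prime := ⟨hp⟩
      obtain ⟨S⟩ : Nonempty (Sylow p (G ⧸ A)) := inferInstance
      refine ⟨S, ⊥, bot_inf_eq _, ?_⟩
      have hS : (S : Subgroup (G ⧸ A)) = ⊥ := by
        obtain ⟨j, hj⟩ := IsPGroup.iff_card.1 S.2
        rcases j with _ | j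
        · exact card_eq_one.1 (by rw [hj, pow_zero])
        · exact absurd ((dvd_pow_self p (Nat.succ_ne_zero j)).trans
            (hj ▸ card_subgroup_dvd_card _)) hd
      rw [bot_sup_eq, hS, MonoidHom.comap_bot, QuotientGroup.ker_mk']
    suffices hind : ∀ s : Finset ℕ, (∀ p ∈ s, p.Prime) → ∃ H : Subgroup G,
        H.index = ∏ p ∈ s, p ^ (Nat.card A).factorization p ∧
        ∀ x ∈ H, x ∈ A → ∀ p ∈ s, ¬ p ∣ orderOf x by
      obtain ⟨H, hidx, hH⟩ := hind (Nat.card A).primeFactors fun p hp => Nat.prime_of_mem_primeFactors hp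
      refine ⟨H, isComplement'_of_card_mul_and_disjoint ?_ (disjoint_iff_inf_le.2 fun x hx => ?_)⟩
      · conv_rhs => rw [← H.index_mul_card, hidx]
        rw [mul_comm]
        congr 1
        exact (Nat.prod_factorization_pow_eq_self Nat.card_pos.ne').symm
      · rw [mem_bot, ← orderOf_eq_one_iff]
        by_contra hne
        obtain ⟨p, hp, hd⟩ := Nat.exists_prime_and_dvd hne
        refine hH x hx.1 hx.2 p ?_ hd
        rw [Nat.mem_primeFactors]
        refine ⟨hp, hd.trans ?_, Nat.card_pos.ne'⟩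
        rw [← Subgroup.orderOf_mk x hx.2]
        exact orderOf_dvd_natCard _
    intro s hs
    induction s using Finset.induction_on with
    | empty => exact ⟨⊤, by simp, fun x _ _ p hp => absurd hp (Finset.notMem_empty p)⟩
    | insert p s hps ih =>
      obtain ⟨H, hidx, hH⟩ := ih fun q hq => hs q (Finset.mem_insert_of_mem hq)
      haveI : Fact p.Prime := ⟨hs p (Finset.mem_insert_self p s)⟩
      obtain ⟨H1, hidx1, hH1⟩ := exists_partial A hA p (h' p Fact.out)
      refine ⟨H1 ⊓ H, ?_, fun x hx hxA q hq => ?_⟩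
      · rw [Finset.prod_insert hps, ← hidx1, ← hidx]
        refine le_antisymm index_inf_le ?_
        refine Nat.le_of_dvd (Nat.pos_of_ne_zero index_ne_zero_of_finite)
          (Nat.Coprime.mul_dvd_of_dvd_of_dvd ?_ (index_dvd_of_le inf_le_left) (index_dvd_of_le inf_le_right))
        rw [hidx1, hidx]
        exact Nat.Coprime.prod_right fun q hq => Nat.Coprime.pow _ _
          ((Nat.coprime_primes Fact.out (hs q (Finset.mem_insert_of_mem hq))).2 fun e => hps (e ▸ hq))
      · rcases Finset.mem_insert.1 hq with rfl | hq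
        · exact hH1 x hx.1 hxA
        · exact hH x hx.2 hxA q hq

end Cfsg.Agent.S4217
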