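import Cfsg.Statements.S4218
import Cfsg.Agent.Lib.Core.PSolvable
import Cfsg.Agent.Lib.Coprime.Action
import Cfsg.Agent.Lib.PGroup.Basic
import Cfsg.Agent.Lib.Local.Gaschutz
import Cfsg.Prelude.Def_PLocal

set_option linter.style.haveILetI false

set_option autoImplicit false
open Cfsg

namespace Cfsg.Agent.S4218

open Subgroup
open scoped commutatorElement

/-- In `Q` with `C(O_p) ≤ O_p`, only `O_p` centralizes `O_p / Φ(O_p)`. -/
theorem mem_pCore_of_trivial_mod_frattini {Q : Type*} [Group Q] [Finite Q] {p : ℕ} [Fact p.Prime]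
    (hc : centralizer (Cfsg.pCore p Q : Set Q) ≤ Cfsg.pCore p Q) (g : Q)
    (hg : ∀ x ∈ Cfsg.pCore p Q,
      g * x * g⁻¹ * x⁻¹ ∈ (frattini ↥(Cfsg.pCore p Q)).map (Cfsg.pCore p Q).subtype) :
    g ∈ Cfsg.pCore p Q := by
  set P := Cfsg.pCore p Q with hP
  set F := (frattini ↥P).map P.subtype with hF
  have hPp : IsPGroup p P := Cfsg.Lib.Core.pCore_isPGroup p Q
  haveI hPn : P.Normal := inferInstance
  haveI hFn : F.Normal := normalizer_eq_top_iff.mp (top_le_iff.mp
    ((normalizer_eq_top_iff.mpr hPn).ge.trans (Cfsg.Lib.Core.normalizer_le_normalizer_map_char _)))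
  set C := sectionKernel P F with hC
  haveI hCn : C.Normal := by
    haveI : (P.map (QuotientGroup.mk' F)).Normal := hPn.map _ (QuotientGroup.mk'_surjective F)
    exact Subgroup.Normal.comap inferInstance _
  have hmem : ∀ c : Q, c ∈ C ↔ ∀ x ∈ P, c * x * c⁻¹ * x⁻¹ ∈ F := by
    intro c
    rw [hC, sectionKernel, mem_comap, mem_centralizer_iff]
    constructor
    · intro h x hx
      have := h _ ⟨x, hx, rfl⟩
      rw [← map_mul, ← map_mul, QuotientGroup.mk'_apply, QuotientGroup.mk'_apply, QuotientGroup.eq] at this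
      have h2 := hFn.conj_mem _ this (c * x)
      rw [show c * x * ((x * c)⁻¹ * (c * x)) * (c * x)⁻¹ = c * x * c⁻¹ * x⁻¹ by group] at h2
      exact h2
    · rintro h _ ⟨x, hx, rfl⟩
      rw [← map_mul, ← map_mul, QuotientGroup.mk'_apply, QuotientGroup.mk'_apply, QuotientGroup.eq]
      have h2 := hFn.conj_mem _ (h x hx) (c * x)⁻¹
      rwa [show (c * x)⁻¹ * (c * x * c⁻¹ * x⁻¹) * (c * x)⁻¹⁻¹ = (x * c)⁻¹ * (c * x) by group] at h2
  suffices hp : IsPGroup p C from (Cfsg.Lib.Core.le_pCore' hCn hp) ((hmem g).mpr hg)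
  -- `p'`-elements of `C` centralize `P`, hence are trivial
  rw [IsPGroup.iff_orderOf]
  rintro ⟨c, hc'⟩
  rw [Subgroup.orderOf_mk]
  obtain ⟨k, m, hm, hcm⟩ : ∃ k m : ℕ, ¬ p ∣ m ∧ orderOf c = p ^ k * m :=
    Nat.exists_eq_pow_mul_and_not_dvd (orderOf_pos c).ne' p (Fact.out : p.Prime).ne_one
  refine ⟨k, ?_⟩
  set d := c ^ p ^ k with hd
  have hdo : orderOf d = m := by
    rw [hd, orderOf_pow_of_dvd (pow_ne_zero _ (Fact.out : p.Prime).ne_zero) (hcm ▸ dvd_mul_right _ _), hcm,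
      Nat.mul_div_cancel_left _ (pow_pos (Fact.out : p.Prime).pos k)]
  have hdC : d ∈ C := pow_mem hc' _
  have hcop : (Nat.card (zpowers d)).Coprime (Nat.card P) := by
    obtain ⟨j, hj⟩ := IsPGroup.iff_card.mp hPp
    rw [Nat.card_zpowers, hdo, hj]
    exact ((Fact.out : p.Prime).coprime_iff_not_dvd.mpr hm).symm.pow_right j
  have hPsol : Group.IsSolvable P := by haveI := hPp.isNilpotent; infer_instance
  have hcen := Cfsg.Lib.Coprime.le_centralizer_of_commutator_le_frattini (A := zpowers d) (G := P)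
    (by rw [normalizer_eq_top]; exact le_top) hcop (Or.inr hPsol) (commutator_le.mpr fun x hx a ha => by
      have h := (hmem a).mp (zpowers_le.mpr hdC ha) x hx
      have h2 := inv_mem h
      rwa [show (a * x * a⁻¹ * x⁻¹)⁻¹ = ⁅x, a⁆ by rw [commutatorElement_def]; group] at h2)
  have hd1 : d = 1 := by
    have hdP : d ∈ P := hc (hcen (mem_zpowers d))
    have h := Cfsg.Lib.Coprime.disjoint_of_coprime_card hcop
    exact mem_bot.mp (h.eq_bot ▸ mem_inf.mpr ⟨mem_zpowers d, hdP⟩)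
  rw [hd1, orderOf_one] at hdo
  rw [hcm, ← hdo, mul_one]

/-- Let `G` be a finite `p`-solvable group, `N₀ = O_{p'}(G)`, `P₁ = O_{p',p}(G)`, and let `F ≤ P₁` be the preimage of the Frattini subgroup of `P₁/N₀`. Then an element `g` of `G` induces the identity on `P₁/F` by conjugation (that is, `g x g⁻¹ x⁻¹ ∈ F` for all `x ∈ P₁`) if and only if `g ∈ P₁`: the group `G/P₁` acts faithfully on `P₁/F`. -/
theorem result {G : Type*} [Group G] [Finite G] {p : ℕ} [Fact p.Prime] (hG : Cfsg.IsPSolvable p G) (g : G) : (∀ x ∈ Cfsg.pPrimePCore p G, g * x * g⁻¹ * x⁻¹ ∈ ((frattini (↥(Cfsg.pPrimePCore p G) ⧸ (Cfsg.pPrimeCore p G).subgroupOf (Cfsg.pPrimePCore p G))).comap (QuotientGroup.mk' ((Cfsg.pPrimeCore p G).subgroupOf (Cfsg.pPrimePCore p G)))).map (Cfsg.pPrimePCore p G).subtype) ↔ g ∈ Cfsg.pPrimePCore p G := by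
  set N := Cfsg.pPrimeCore p G with hN
  set P₁ := Cfsg.pPrimePCore p G with hP₁
  set q := QuotientGroup.mk' N with hq
  have hqs : Function.Surjective q := QuotientGroup.mk'_surjective _
  set P := Cfsg.pCore p (G ⧸ N) with hP
  let φ : ↥P₁ →* ↥P := (q.comp P₁.subtype).codRestrict P fun x => x.2
  have hφ : Function.Surjective φ := fun y => by
    obtain ⟨x, hx⟩ := hqs y
    exact ⟨⟨x, show q x ∈ P by rw [hx]; exact y.2⟩, Subtype.ext hx⟩
  have hk : N.subgroupOf P₁ = φ.ker := by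
    ext x
    rw [mem_subgroupOf, MonoidHom.mem_ker, Subtype.ext_iff]
    exact (QuotientGroup.eq_one_iff _).symm
  let e : ↥P₁ ⧸ N.subgroupOf P₁ ≃* ↥P :=
    (QuotientGroup.quotientMulEquivOfEq hk).trans (QuotientGroup.quotientKerEquivOfSurjective φ hφ)
  have hF : ∀ x : ↥P₁, QuotientGroup.mk' (N.subgroupOf P₁) x ∈ frattini (↥P₁ ⧸ N.subgroupOf P₁) ↔
      φ x ∈ frattini ↥P := by
    intro x
    have he : (frattini (↥P₁ ⧸ N.subgroupOf P₁)).map e.toMonoidHom = frattini ↥P :=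
      Cfsg.Lib.Local.map_frattini_eq e.toMonoidHom e.surjective
        (by rw [(MonoidHom.ker_eq_bot_iff e.toMonoidHom).mpr e.injective]; exact bot_le)
    have hex : e (QuotientGroup.mk' (N.subgroupOf P₁) x) = φ x := rfl
    rw [← he, ← hex]
    exact ⟨fun h => mem_map_of_mem _ h, fun ⟨y, hy, hye⟩ => by rwa [← e.injective hye]⟩
  haveI hP₁n : P₁.Normal := Subgroup.Normal.comap inferInstance _
  have hc := Cfsg.Lib.Core.centralizer_pCore_le_of_isPSolvable (Cfsg.Lib.Core.isPSolvable_quotient hG N)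
    Cfsg.Lib.Core.pPrimeCore_quotient_eq_bot
  constructor
  · intro h
    refine mem_pCore_of_trivial_mod_frattini hc (q g) ?_
    intro y hy
    obtain ⟨x, rfl⟩ := hqs y
    obtain ⟨z, hz, hze⟩ := h x hy
    refine ⟨φ z, (hF z).mp hz, ?_⟩
    show q (z : G) = _
    rw [show (z : G) = g * x * g⁻¹ * x⁻¹ from hze]
    simp only [map_mul, map_inv]
  · intro hg x hx
    refine ⟨⟨g, hg⟩ * ⟨x, hx⟩ * ⟨g, hg⟩⁻¹ * ⟨x, hx⟩⁻¹, ?_, rfl⟩
    rw [SetLike.mem_coe, mem_comap]
    refine (hF _).mpr ?_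
    refine Cfsg.Lib.PGroup.commutator_le_frattini (Cfsg.Lib.Core.pCore_isPGroup p (G ⧸ N)) ?_
    simp only [map_mul, map_inv]
    rw [_root_.commutator_def]
    exact commutator_mem_commutator (mem_top _) (mem_top _)

end Cfsg.Agent.S4218
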