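import Cfsg.Statements.S4219
import Cfsg.Agent.Lib.Fusion.Abelian
import Mathlib.GroupTheory.GroupAction.MultipleTransitivity

set_option autoImplicit false
open Cfsg

namespace Cfsg.Agent.S4219

open Subgroup

/-- Let a finite group `G` act `t`-fold transitively on a finite set, let `H` be the stabilizer of `t` distinct points and `P` a Sylow `p`-subgroup of `H`. Then the normalizer of `P` in `G` is `t`-fold transitive on the fixed points of `P`: any `t` distinct fixed points of `P` can be carried to any other `t` distinct fixed points of `P` by an element normalizing `P`. -/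
theorem result {G : Type*} [Group G] [Finite G] {α : Type*} [Fintype α] [MulAction G α] {t : ℕ} (hG : MulAction.IsMultiplyPretransitive G α t) (x : Fin t ↪ α) {p : ℕ} [Fact p.Prime] (P : Sylow p (MulAction.stabilizer G x)) (a b : Fin t ↪ α) (ha : ∀ i, a i ∈ MulAction.fixedPoints ((P : Subgroup (MulAction.stabilizer G x)).map (MulAction.stabilizer G x).subtype) α) (hb : ∀ i, b i ∈ MulAction.fixedPoints ((P : Subgroup (MulAction.stabilizer G x)).map (MulAction.stabilizer G x).subtype) α) : ∃ g ∈ Subgroup.normalizer ((((P : Subgroup (MulAction.stabilizer G x)).map (MulAction.stabilizer G x).subtype) : Subgroup G) : Set G), g • a = b := by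
  classical
  set P' := (P : Subgroup (MulAction.stabilizer G x)).map (MulAction.stabilizer G x).subtype with hP'
  haveI := hG
  obtain ⟨g, hg⟩ := MulAction.exists_smul_eq G a b
  have hfix : ∀ c : Fin t ↪ α, (∀ i, c i ∈ MulAction.fixedPoints P' α) → ∀ y ∈ P', y • c = c := by
    intro c hc y hy
    ext i
    rw [Function.Embedding.smul_apply]
    exact hc i ⟨y, hy⟩
  set Hb := MulAction.stabilizer G b
  have h1 : P' ≤ Hb := fun y hy => hfix b hb y hy
  set P2 := P'.map (MulAut.conj g).toMonoidHom with hP2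
  have h2 : P2 ≤ Hb := by
    rintro _ ⟨y, hy, rfl⟩
    show (g * y * g⁻¹) • b = b
    rw [← hg, ← mul_smul, inv_mul_cancel_right, mul_smul, hfix a ha y hy]
  obtain ⟨g1, hg1⟩ := MulAction.exists_smul_eq G x b
  have hcardH : Nat.card Hb = Nat.card (MulAction.stabilizer G x) := by
    rw [show Hb = (MulAction.stabilizer G x).map (MulAut.conj g1).toMonoidHom from
      (congrArg (MulAction.stabilizer G) hg1.symm).trans
        (MulAction.stabilizer_smul_eq_stabilizer_map_conj g1 x)]
    exact Nat.card_congr ((MulAction.stabilizer G x).equivMapOfInjective _ (MulAut.conj g1).injective).symm.toEquiv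
  have hmk : ∀ R : Subgroup G, R ≤ Hb → Nat.card R = Nat.card P' →
      ∃ S : Sylow p Hb, (S : Subgroup Hb) = R.subgroupOf Hb := by
    intro R hR hc
    refine ⟨Sylow.ofCard (R.subgroupOf Hb) ?_, rfl⟩
    rw [Nat.card_congr (subgroupOfEquivOfLe hR).toEquiv, hc, hP',
      ← Nat.card_congr ((P : Subgroup (MulAction.stabilizer G x)).equivMapOfInjective _ (MulAction.stabilizer G x).subtype_injective).toEquiv,
      P.card_eq_multiplicity, hcardH]
  obtain ⟨S1, hS1⟩ := hmk P' h1 rfl
  obtain ⟨S2, hS2⟩ := hmk P2 h2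
    (Nat.card_congr (P'.equivMapOfInjective _ (MulAut.conj g).injective).symm.toEquiv)
  obtain ⟨h, hh⟩ := MulAction.exists_smul_eq Hb S2 S1
  refine ⟨(h : G) * g, ?_, by rw [mul_smul, hg]; exact h.2⟩
  have key : ∀ y ∈ P', ((h : G) * g) * y * ((h : G) * g)⁻¹ ∈ P' := by
    intro y hy
    have hy2 : (⟨g * y * g⁻¹, h2 ⟨y, hy, rfl⟩⟩ : Hb) ∈ (S2 : Subgroup Hb) := by
      rw [hS2]; exact ⟨y, hy, rfl⟩
    have := smul_mem_pointwise_smul _ (MulAut.conj h) _ hy2
    rw [← Sylow.pointwise_smul_def, ← Sylow.smul_def, hh, hS1] at this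
    have h3 : (h : G) * (g * y * g⁻¹) * (h : G)⁻¹ ∈ P' := this
    rwa [show (h : G) * (g * y * g⁻¹) * (h : G)⁻¹ = ((h : G) * g) * y * ((h : G) * g)⁻¹ by group] at h3
  exact Cfsg.Lib.Fusion.le_normalizer_of_conj_mem key

end Cfsg.Agent.S4219
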