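import Cfsg.Statements.S4220
import Cfsg.Agent.S0711
import Cfsg.Agent.Lib.Fusion.Jordan

set_option linter.style.haveILetI false

set_option autoImplicit false
open Cfsg

namespace Cfsg.Agent.S4220

open Equiv

section Nine

def s9 : Perm (Fin 9) := swap 0 1 * swap 1 2 * (swap 3 4 * swap 4 5)

def t9 (x y : Fin 9) : Perm (Fin 9) := swap 0 1 * swap 1 x * (swap 3 5 * swap 5 y)

theorem nine_check : ∀ x y : Fin 9, x ≠ 0 → x ≠ 1 → x ≠ 3 → x ≠ 5 → y ≠ 0 → y ≠ 1 → y ≠ 3 → y ≠ 5 → x ≠ y →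
    (s9 * t9 x y ≠ 1 ∧ (s9 * t9 x y).support.card < 6) ∨
    (s9 * (t9 x y)⁻¹ ≠ 1 ∧ (s9 * (t9 x y)⁻¹).support.card < 6) ∨
    ((s9 * t9 x y) * (s9 * t9 x y) ≠ 1 ∧ ((s9 * t9 x y) * (s9 * t9 x y)).support.card < 6) := by
  decide +kernel

theorem nine_small (G : Subgroup (Perm (Fin 9))) (h4 : MulAction.IsMultiplyPretransitive G (Fin 9) 4)
    (hs : s9 ∈ G) : ∃ h ∈ G, h ≠ 1 ∧ h.support.card < 6 := by
  let v : Fin 4 ↪ Fin 9 := ⟨![0, 1, 3, 4], by decide⟩
  let w : Fin 4 ↪ Fin 9 := ⟨![0, 1, 3, 5], by decide⟩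
  obtain ⟨g, hg⟩ := (MulAction.isMultiplyPretransitive_iff.1 h4) v w
  have e0 : (g : Perm (Fin 9)) 0 = 0 := DFunLike.congr_fun hg (0 : Fin 4)
  have e1 : (g : Perm (Fin 9)) 1 = 1 := DFunLike.congr_fun hg (1 : Fin 4)
  have e3 : (g : Perm (Fin 9)) 3 = 3 := DFunLike.congr_fun hg (2 : Fin 4)
  have e4 : (g : Perm (Fin 9)) 4 = 5 := DFunLike.congr_fun hg (3 : Fin 4)
  have hne : ∀ a b c : Fin 9, (g : Perm (Fin 9)) b = c → a ≠ b → (g : Perm (Fin 9)) a ≠ c :=
    fun a b c hb hab h => hab ((g : Perm (Fin 9)).injective (h.trans hb.symm))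
  have ht : (g : Perm (Fin 9)) * s9 * (g : Perm (Fin 9))⁻¹ =
      t9 ((g : Perm (Fin 9)) 2) ((g : Perm (Fin 9)) 5) := by
    have hsw : ∀ a b : Fin 9, (g : Perm (Fin 9)) * swap a b * (g : Perm (Fin 9))⁻¹ =
        swap ((g : Perm (Fin 9)) a) ((g : Perm (Fin 9)) b) := fun a b => (swap_apply_apply _ a b).symm
    rw [t9, s9]
    calc _ = ((g : Perm (Fin 9)) * swap 0 1 * (g : Perm (Fin 9))⁻¹) *
          ((g : Perm (Fin 9)) * swap 1 2 * (g : Perm (Fin 9))⁻¹) *
          (((g : Perm (Fin 9)) * swap 3 4 * (g : Perm (Fin 9))⁻¹) *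
          ((g : Perm (Fin 9)) * swap 4 5 * (g : Perm (Fin 9))⁻¹)) := by group
      _ = _ := by rw [hsw, hsw, hsw, hsw, e0, e1, e3, e4]
  have htG : t9 ((g : Perm (Fin 9)) 2) ((g : Perm (Fin 9)) 5) ∈ G :=
    ht ▸ G.mul_mem (G.mul_mem g.2 hs) (G.inv_mem g.2)
  rcases nine_check _ _ (hne 2 0 0 e0 (by decide)) (hne 2 1 1 e1 (by decide)) (hne 2 3 3 e3 (by decide))
    (hne 2 4 5 e4 (by decide)) (hne 5 0 0 e0 (by decide)) (hne 5 1 1 e1 (by decide))
    (hne 5 3 3 e3 (by decide)) (hne 5 4 5 e4 (by decide))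
    (fun h => absurd ((g : Perm (Fin 9)).injective h) (by decide)) with ⟨a, b⟩ | ⟨a, b⟩ | ⟨a, b⟩
  · exact ⟨_, G.mul_mem hs htG, a, b⟩
  · exact ⟨_, G.mul_mem hs (G.inv_mem htG), a, b⟩
  · exact ⟨_, G.mul_mem (G.mul_mem hs htG) (G.mul_mem hs htG), a, b⟩

end Nine

/-- A normal non-trivial subgroup of a symmetric group of degree at least five contains the alternating group. -/
theorem alt_le_of_normal {ι : Type*} [Fintype ι] [DecidableEq ι] (hι : 5 ≤ Fintype.card ι)
    (S : Subgroup (Perm ι)) [S.Normal] (hS : S ≠ ⊥) : alternatingGroup ι ≤ S := by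
  obtain ⟨w, hwS, hw⟩ := S.bot_or_exists_ne_one.resolve_left hS
  obtain ⟨π, hπ⟩ : ∃ π : Perm ι, π * w * π⁻¹ * w⁻¹ ≠ 1 := by
    by_contra hh
    push Not at hh
    obtain ⟨a, ha⟩ : ∃ a, w a ≠ a := by
      by_contra h
      push Not at h
      exact hw (Equiv.ext h)
    obtain ⟨c, hc⟩ : ∃ c, c ∉ ({a, w a} : Finset ι) := by
      by_contra h
      push Not at h
      have h1 := Finset.card_le_card (fun c _ => h c : (Finset.univ : Finset ι) ⊆ {a, w a})
      rw [Finset.card_univ] at h1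
      have := Finset.card_le_two (a := a) (b := w a)
      omega
    simp only [Finset.mem_insert, Finset.mem_singleton, not_or] at hc
    have := hh (swap (w a) c)
    rw [mul_inv_eq_one, mul_inv_eq_iff_eq_mul] at this
    have h2 := DFunLike.congr_fun this a
    rw [Perm.mul_apply, Perm.mul_apply, swap_apply_left,
      swap_apply_of_ne_of_ne (Ne.symm ha) (Ne.symm hc.1)] at h2
    exact hc.2 h2
  haveI : IsSimpleGroup ↥(alternatingGroup ι) := alternatingGroup.isSimpleGroup (by rwa [Nat.card_eq_fintype_card])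
  have hmem : π * w * π⁻¹ * w⁻¹ ∈ alternatingGroup ι := by
    rw [Equiv.Perm.mem_alternatingGroup]
    rw [map_mul, map_mul, map_mul, map_inv, map_inv]
    rcases Int.units_eq_one_or (Perm.sign w) with h | h <;> rcases Int.units_eq_one_or (Perm.sign π) with h' | h' <;>
      rw [h, h'] <;> rfl
  rcases ((inferInstance : (S.subgroupOf (alternatingGroup ι)).Normal)).eq_bot_or_eq_top with h | h
  · exfalso
    have : (⟨_, hmem⟩ : ↥(alternatingGroup ι)) ∈ S.subgroupOf (alternatingGroup ι) :=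
      Subgroup.mem_subgroupOf.2 (S.mul_mem (Subgroup.Normal.conj_mem ‹_› w hwS π) (S.inv_mem hwS))
    rw [h, Subgroup.mem_bot] at this
    exact hπ (congrArg Subtype.val this)
  · exact Subgroup.subgroupOf_eq_top.1 h

theorem three_check : ∀ w : Perm (Fin 3), w ≠ 1 → ∃ π : Perm (Fin 3), π * w * π⁻¹ * w⁻¹ ≠ 1 := by decide +kernel

theorem four_check : ∀ w : Perm (Fin 4), w ≠ 1 → ∃ π : Perm (Fin 4), π * w * π⁻¹ * w⁻¹ ≠ 1 := by decide +kernel

theorem three_four_pow : (∀ w : Perm (Fin 3), w ^ 6 = 1) ∧ ∀ w : Perm (Fin 4), w ^ 12 = 1 := by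
  constructor <;> decide +kernel

theorem comm_four {r : ℕ} (hr : 4 ≤ r) : ∃ u v : Perm (Fin r), u ∈ alternatingGroup (Fin r) ∧
    v ∈ alternatingGroup (Fin r) ∧ u * v * u⁻¹ * v⁻¹ ≠ 1 ∧ (u * v * u⁻¹ * v⁻¹) ^ 2 = 1 := by
  have key : ∃ u v : Perm (Fin 4), u ∈ alternatingGroup (Fin 4) ∧
      v ∈ alternatingGroup (Fin 4) ∧ u * v * u⁻¹ * v⁻¹ ≠ 1 ∧ (u * v * u⁻¹ * v⁻¹) ^ 2 = 1 := by
    refine ⟨swap 0 1 * swap 1 2, swap 1 2 * swap 2 3, ?_, ?_, ?_, ?_⟩
    · rw [Equiv.Perm.mem_alternatingGroup]; decide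
    · rw [Equiv.Perm.mem_alternatingGroup]; decide
    · decide
    · decide
  obtain ⟨u, v, hu, hv, h1, h2⟩ := key
  let f : Perm (Fin 4) →* Perm (Fin r) := Equiv.Perm.viaEmbeddingHom (Fin.castLEEmb hr)
  have hf : Function.Injective f := Equiv.Perm.viaEmbeddingHom_injective _
  have hs : ∀ x : Perm (Fin 4), x ∈ alternatingGroup (Fin 4) → f x ∈ alternatingGroup (Fin r) := by
    intro x hx
    rw [Equiv.Perm.mem_alternatingGroup] at hx ⊢
    rw [← hx]
    have e : f x = Equiv.Perm.viaEmbedding x (Fin.castLEEmb hr) := rfl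
    rw [e]
    unfold Equiv.Perm.viaEmbedding
    convert Perm.sign_extendDomain x (Equiv.ofInjective _ (Fin.castLEEmb hr).injective) using 3 <;> rfl
  refine ⟨f u, f v, hs u hu, hs v hv, ?_, ?_⟩
  · rw [← map_inv, ← map_inv, ← map_mul, ← map_mul, ← map_mul]
    exact fun h => h1 (hf (h.trans (map_one f).symm))
  · rw [← map_inv, ← map_inv, ← map_mul, ← map_mul, ← map_mul, ← map_pow, h2, map_one]

variable {α : Type*} [Fintype α] [DecidableEq α]

theorem stab_normal {P : Subgroup (Perm α)} {p : ℕ} [Fact p.Prime] (hPp : IsPGroup p P) {a : α}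
    (hc : Nat.card (MulAction.orbit P a) = p) :
    (MulAction.stabilizer P a).Normal ∧ (MulAction.stabilizer P a).index = p := by
  have hp : p.Prime := Fact.out
  have hidx : (MulAction.stabilizer P a).index = p := by
    rw [MulAction.index_stabilizer, ← Nat.card_coe_set_eq, hc]
  obtain ⟨e, he⟩ := hPp.exists_card_eq
  refine ⟨Subgroup.normal_of_index_eq_minFac_card ?_, hidx⟩
  rw [hidx, he, Nat.pow_minFac]
  · exact hp.minFac_eq.symm
  · intro h0; subst h0
    have := (MulAction.stabilizer P a).index_dvd_card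
    rw [hidx, he, pow_zero, Nat.dvd_one] at this
    exact hp.ne_one this

theorem pow_fix {P : Subgroup (Perm α)} {p : ℕ} [Fact p.Prime] (hPp : IsPGroup p P) {a : α}
    (hc : Nat.card (MulAction.orbit P a) = p) {σ : Perm α} (hσ : σ ∈ P) : (σ ^ p) a = a := by
  obtain ⟨hn, hidx⟩ := stab_normal hPp hc
  have h1 : (⟨σ, hσ⟩ : P) ^ p ∈ MulAction.stabilizer P a :=
    hidx ▸ (MulAction.stabilizer P a).pow_index_mem _
  exact h1

theorem fix_orbit {P : Subgroup (Perm α)} {p : ℕ} [Fact p.Prime] (hPp : IsPGroup p P) {a : α}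
    (hc : Nat.card (MulAction.orbit P a) = p) {σ : Perm α} (hσ : σ ∈ P) (ha : σ a = a)
    {τ : Perm α} (hτ : τ ∈ P) : σ (τ a) = τ a := by
  obtain ⟨hn, -⟩ := stab_normal hPp hc
  have h1 : (⟨σ, hσ⟩ : P) ∈ MulAction.stabilizer P a := ha
  have h2 : τ⁻¹ (σ ((τ⁻¹)⁻¹ a)) = a := hn.conj_mem _ h1 (⟨τ, hτ⟩ : P)⁻¹
  rw [inv_inv, Perm.coe_inv, Equiv.symm_apply_eq] at h2
  exact h2


/-- The core of the argument: `P` has `k` orbits of length `p` outside the range of `x`, and its
normalizer in `G` induces everything on that range. -/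
theorem core (G : Subgroup (Perm α)) {k p r : ℕ} (hp : p.Prime) (hn : Fintype.card α = k * p + r)
    (hk : 2 ≤ k) (hpk : k < p) (hrk : k < r) (hG : MulAction.IsMultiplyPretransitive G α (r + 1))
    (x : Fin r ↪ α) (P : Subgroup (Perm α)) (hPG : P ≤ G) (hPp : IsPGroup p P)
    (hPfix : ∀ σ ∈ P, ∀ i, σ (x i) = x i)
    (horb : ∀ a ∉ Set.range x, Nat.card (MulAction.orbit P a) = p)
    (hwitt : ∀ π : Perm (Fin r), ∃ n ∈ G, n ∈ Subgroup.normalizer (P : Set (Perm α)) ∧ ∀ i, n (x i) = x (π i))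
    (hcyc : ∀ σ ∈ P, σ.support.card ≠ p) :
    ∃ h ∈ G, h ≠ 1 ∧ h.support.card < 2 * r := by
  classical
  haveI := Fact.mk hp
  -- orbits
  let orb : α → Finset α := fun a => (MulAction.orbit P a).toFinset
  have horbm : ∀ a b, b ∈ orb a ↔ ∃ σ ∈ P, σ a = b := by
    intro a b
    simp only [orb, Set.mem_toFinset]
    constructor
    · rintro ⟨⟨σ, hσ⟩, rfl⟩; exact ⟨σ, hσ, rfl⟩
    · rintro ⟨σ, hσ, rfl⟩; exact ⟨⟨σ, hσ⟩, rfl⟩
  have hself : ∀ a, a ∈ orb a := fun a => (horbm a a).2 ⟨1, P.one_mem, rfl⟩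
  have horbeq : ∀ a b, b ∈ orb a → orb b = orb a := by
    intro a b hb
    simp only [orb, Set.mem_toFinset] at hb ⊢
    rw [MulAction.orbit_eq_iff.2 hb]
  have horbc : ∀ a ∉ Set.range x, (orb a).card = p := by
    intro a ha
    rw [← horb a ha]
    simp only [orb, Nat.card_eq_fintype_card, Set.toFinset_card]
  have hout : ∀ a ∉ Set.range x, ∀ b ∈ orb a, b ∉ Set.range x := by
    rintro a ha b hb ⟨i, rfl⟩
    obtain ⟨σ, hσ, h⟩ := (horbm a _).1 hb
    exact ha ⟨i, σ.injective ((hPfix σ hσ i).trans h.symm)⟩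
  let Ω : Finset (Finset α) := (Finset.univ.filter fun a => a ∉ Set.range x).image orb
  have hΩ : ∀ o ∈ Ω, ∃ a, a ∉ Set.range x ∧ orb a = o := by
    intro o ho
    obtain ⟨a, ha, rfl⟩ := Finset.mem_image.1 ho
    exact ⟨a, (Finset.mem_filter.1 ha).2, rfl⟩
  have hΩmem : ∀ a ∉ Set.range x, orb a ∈ Ω := fun a ha =>
    Finset.mem_image.2 ⟨a, Finset.mem_filter.2 ⟨Finset.mem_univ _, ha⟩, rfl⟩
  have hΩk : Ω.card = k := by
    have hU : Ω.biUnion id = Finset.univ.filter fun a => a ∉ Set.range x := by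
      ext b
      simp only [Finset.mem_biUnion, id, Finset.mem_filter, Finset.mem_univ, true_and]
      constructor
      · rintro ⟨o, ho, hb⟩
        obtain ⟨a, ha, rfl⟩ := hΩ o ho
        exact hout a ha b hb
      · exact fun hb => ⟨orb b, hΩmem b hb, hself b⟩
    have hc := congrArg Finset.card hU
    rw [Finset.card_biUnion, Finset.sum_congr rfl (g := fun _ => p), Finset.sum_const, smul_eq_mul] at hc
    · have h2 : (Finset.univ.filter fun a => a ∉ Set.range x).card = k * p := by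
        rw [Finset.filter_not, Finset.card_sdiff, Finset.inter_univ, Finset.card_univ, hn]
        have : (Finset.univ.filter fun a => a ∈ Set.range x) = Finset.univ.map x := by ext; simp
        rw [this, Finset.card_map, Finset.card_univ, Fintype.card_fin]
        omega
      rw [h2] at hc
      exact Nat.eq_of_mul_eq_mul_right hp.pos hc
    · intro o ho
      obtain ⟨a, ha, rfl⟩ := hΩ o ho
      exact horbc a ha
    · intro o ho o' ho' hne
      obtain ⟨a, ha, rfl⟩ := hΩ o ho
      obtain ⟨a', ha', rfl⟩ := hΩ o' ho'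
      rw [Function.onFun, Finset.disjoint_left]
      intro b hb hb'
      exact hne ((horbeq a b hb).symm.trans (horbeq a' b hb'))
  -- the normalizer
  let N : Subgroup (Perm α) :=
    { carrier := {n | n ∈ G ∧ n ∈ Subgroup.normalizer (P : Set (Perm α)) ∧
        ∀ a, n a ∈ Set.range x ↔ a ∈ Set.range x}
      one_mem' := ⟨G.one_mem, Subgroup.one_mem _, fun a => by simp⟩
      mul_mem' := fun {a b} ha hb => ⟨G.mul_mem ha.1 hb.1, Subgroup.mul_mem _ ha.2.1 hb.2.1,
        fun c => by rw [Perm.mul_apply, ha.2.2, hb.2.2]⟩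
      inv_mem' := fun {a} ha => ⟨G.inv_mem ha.1, Subgroup.inv_mem _ ha.2.1,
        fun c => by rw [← ha.2.2, Perm.coe_inv, Equiv.apply_symm_apply]⟩ }
  have horbmap : ∀ n ∈ N, ∀ a, (orb a).image n = orb (n a) := by
    intro n hn' a
    ext b
    rw [Finset.mem_image]
    constructor
    · rintro ⟨c, hc, rfl⟩
      obtain ⟨σ, hσ, rfl⟩ := (horbm a c).1 hc
      exact (horbm _ _).2 ⟨n * σ * n⁻¹, (Subgroup.mem_normalizer_iff.1 hn'.2.1 σ).1 hσ, by simp⟩
    · intro hb
      obtain ⟨σ, hσ, rfl⟩ := (horbm _ _).1 hb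
      refine ⟨(n⁻¹ * σ * n) a, (horbm _ _).2 ⟨_, ?_, rfl⟩, by simp⟩
      have := (Subgroup.mem_normalizer_iff.1 (Subgroup.inv_mem _ hn'.2.1) σ).1 hσ
      simpa using this
  have hΩmap : ∀ n ∈ N, ∀ o ∈ Ω, o.image n ∈ Ω := by
    intro n hn' o ho
    obtain ⟨a, ha, rfl⟩ := hΩ o ho
    rw [horbmap n hn' a]
    exact hΩmem _ (fun h => ha ((hn'.2.2 a).1 h))
  letI : MulAction N Ω :=
    { smul := fun n o => ⟨o.1.image (n : Perm α), hΩmap n n.2 o o.2⟩
      one_smul := fun o => Subtype.ext (show o.1.image ((1 : N) : Perm α) = o.1 by simp)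
      mul_smul := fun m n o => Subtype.ext (show o.1.image ((m * n : N) : Perm α) =
        (o.1.image (n : Perm α)).image (m : Perm α) by
          rw [Finset.image_image]; rfl) }
  let lam : N →* Perm Ω := MulAction.toPermHom N Ω
  have hxe : ∀ (n : N) (i : Fin r), (n : Perm α) (x i) ∈ Set.range x := fun n i => (n.2.2.2 _).2 ⟨i, rfl⟩
  choose f hf using hxe
  letI : MulAction N (Fin r) :=
    { smul := fun n i => f n i
      one_smul := fun i => x.injective (by show x (f 1 i) = x i; rw [hf]; rfl)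
      mul_smul := fun m n i => x.injective (by
        show x (f (m * n) i) = x (f m (f n i))
        rw [hf, hf, hf]; rfl) }
  let θ : N →* Perm (Fin r) := MulAction.toPermHom N (Fin r)
  have hθ : ∀ (n : N) (i : Fin r), x (θ n i) = (n : Perm α) (x i) := fun n i => hf n i
  have hθsurj : Function.Surjective θ := by
    intro π
    obtain ⟨n, hnG, hnN, hnx⟩ := hwitt π
    have hmem : n ∈ N := by
      refine ⟨hnG, hnN, fun a => ⟨?_, ?_⟩⟩
      · rintro ⟨i, hi⟩
        refine ⟨π⁻¹ i, n.injective ?_⟩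
        rw [hnx, Perm.coe_inv, Equiv.apply_symm_apply, hi]
      · rintro ⟨i, rfl⟩; exact ⟨π i, (hnx i).symm⟩
    refine ⟨⟨n, hmem⟩, Equiv.ext fun i => x.injective ?_⟩
    rw [hθ]; exact hnx i
  -- label preserving elements
  set K := lam.ker with hK
  have hKorb : ∀ y : N, y ∈ K → ∀ a ∉ Set.range x, (y : Perm α) a ∈ orb a := by
    intro y hy a ha
    have h1 : (⟨orb a, hΩmem a ha⟩ : Ω) = y • (⟨orb a, hΩmem a ha⟩ : Ω) :=
      (DFunLike.congr_fun (show lam y = 1 from hy) ⟨orb a, hΩmem a ha⟩).symm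
    have h2 : orb a = (orb a).image (y : Perm α) := congrArg Subtype.val h1
    rw [h2]
    exact Finset.mem_image_of_mem _ (hself a)
  have hpowinv : ∀ (σ : Perm α) (a : α) (j : ℕ), σ a = a → (σ ^ j) a = a := by
    intro σ a j h
    induction j with
    | zero => rfl
    | succ j ih => rw [pow_succ, Perm.mul_apply, h, ih]
  -- every orbit carries a cyclic regular action
  have hcycl : ∀ a ∉ Set.range x, ∀ σ ∈ P, σ a ≠ a → ∀ τ ∈ P, ∃ j : ℕ, ∀ b ∈ orb a, τ b = (σ ^ j) b := by
    intro a ha σ hσ hσa τ hτ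
    obtain ⟨hn', hidx⟩ := stab_normal hPp (horb a ha)
    set St := MulAction.stabilizer P a
    haveI := hn'
    have hcard : Nat.card (P ⧸ St) = p := by rw [← Subgroup.index_eq_card, hidx]
    have hσ' : (QuotientGroup.mk (⟨σ, hσ⟩ : P) : P ⧸ St) ≠ 1 := by
      rw [Ne, QuotientGroup.eq_one_iff]; exact hσa
    have := mem_powers_of_prime_card hcard hσ' (g' := (QuotientGroup.mk (⟨τ, hτ⟩ : P) : P ⧸ St))
    obtain ⟨j, hj⟩ := this
    refine ⟨j, fun b hb => ?_⟩
    obtain ⟨ρ, hρ, rfl⟩ := (horbm a b).1 hb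
    have hj' : (QuotientGroup.mk ((⟨σ, hσ⟩ : P) ^ j) : P ⧸ St) = QuotientGroup.mk (⟨τ, hτ⟩ : P) := hj
    have hd : ((σ ^ j)⁻¹ * τ) a = a := (QuotientGroup.eq).1 hj'
    have h3 := fix_orbit hPp (horb a ha) (P.mul_mem (P.inv_mem (P.pow_mem hσ j)) hτ) hd hρ
    rw [Perm.mul_apply, Perm.coe_inv, Equiv.symm_apply_eq] at h3
    exact h3
  -- scalars
  have hscal : ∀ y : N, y ∈ K → ∀ a ∉ Set.range x, ∃ m : ℕ, ∀ τ ∈ P, ∀ b ∈ orb a,
      ((y : Perm α) * τ * (y : Perm α)⁻¹) b = (τ ^ m) b := by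
    intro y hy a ha
    have hyb : ∀ b ∈ orb a, (y : Perm α)⁻¹ b ∈ orb a := by
      intro b hb
      have hb' : (y : Perm α)⁻¹ b ∉ Set.range x := fun h => hout a ha b hb (by
        have := (y.2.2.2 ((y : Perm α)⁻¹ b)).2 h
        rwa [Perm.coe_inv, Equiv.apply_symm_apply] at this)
      have h1 := hKorb y hy _ hb'
      rw [Perm.coe_inv, Equiv.apply_symm_apply] at h1
      rw [← horbeq a b hb, horbeq _ _ h1]
      exact hself _
    obtain ⟨σ, hσ, hσa⟩ : ∃ σ ∈ P, σ a ≠ a := by
      by_contra hh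
      push Not at hh
      have : orb a = {a} := by
        ext b
        rw [Finset.mem_singleton, horbm]
        exact ⟨fun ⟨σ, hσ, h⟩ => h ▸ hh σ hσ, fun h => h ▸ ⟨1, P.one_mem, rfl⟩⟩
      have h2 := horbc a ha
      rw [this, Finset.card_singleton] at h2
      exact hp.ne_one h2.symm
    obtain ⟨m, hm⟩ := hcycl a ha σ hσ hσa _ ((Subgroup.mem_normalizer_iff.1 y.2.2.1 σ).1 hσ)
    refine ⟨m, fun τ hτ b hb => ?_⟩
    obtain ⟨j, hj⟩ := hcycl a ha σ hσ hσa τ hτ
    have hst : ∀ (ρ : Perm α), ρ ∈ P → ∀ c ∈ orb a, ρ c ∈ orb a := by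
      intro ρ hρ c hc
      obtain ⟨ρ', hρ', rfl⟩ := (horbm a c).1 hc
      exact (horbm a _).2 ⟨ρ * ρ', P.mul_mem hρ hρ', rfl⟩
    have hpe : ∀ (ρ ρ' : Perm α), ρ' ∈ P → (∀ c ∈ orb a, ρ c = ρ' c) → ∀ (i : ℕ), ∀ c ∈ orb a, (ρ ^ i) c = (ρ' ^ i) c := by
      intro ρ ρ' hρ' h i
      induction i with
      | zero => intro c _; rfl
      | succ i ih => intro c hc; rw [pow_succ, pow_succ, Perm.mul_apply, Perm.mul_apply, h c hc, ih _ (hst ρ' hρ' c hc)]
    have h1 : ((y : Perm α) * τ * (y : Perm α)⁻¹) b = ((y : Perm α) * σ ^ j * (y : Perm α)⁻¹) b := by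
      simp only [Perm.mul_apply]
      rw [hj _ (hyb b hb)]
    rw [h1, ← conj_pow, hpe _ _ (P.pow_mem hσ m) hm j b hb, hpe τ _ (P.pow_mem hσ j) hj m b hb,
      ← pow_mul, ← pow_mul, mul_comm]
  -- elements centralising `P` and preserving the orbits
  have hfinish : ∀ y : N, (∀ a ∉ Set.range x, (y : Perm α) a ∈ orb a) →
      (∀ τ ∈ P, Commute (y : Perm α) τ) → θ y ^ p ≠ 1 → ∃ h ∈ G, h ≠ 1 ∧ h.support.card < 2 * r := by
    intro y hyorb hycom hy
    refine ⟨((y ^ p : N) : Perm α), ((y ^ p : N).2).1, fun h => hy ?_, ?_⟩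
    · rw [← map_pow]
      refine Equiv.ext fun i => x.injective ?_
      rw [hθ, h]; rfl
    · have hsub : ((y ^ p : N) : Perm α).support ⊆ Finset.univ.map x := by
        intro a ha
        rw [Perm.mem_support] at ha
        by_contra hax
        have hax' : a ∉ Set.range x := by
          rintro ⟨i, rfl⟩; exact hax (Finset.mem_map_of_mem _ (Finset.mem_univ i))
        obtain ⟨σ, hσ, hσa⟩ := (horbm a _).1 (hyorb a hax')
        apply ha
        have hit : ∀ i : ℕ, ((y : Perm α) ^ i) a = (σ ^ i) a := by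
          intro i
          induction i with
          | zero => rfl
          | succ i ih =>
            rw [pow_succ', Perm.mul_apply, ih, ← Perm.mul_apply, (hycom _ (P.pow_mem hσ i)).eq,
              Perm.mul_apply, ← hσa, pow_succ, Perm.mul_apply]
        rw [Subgroup.coe_pow, hit]
        exact pow_fix hPp (horb a hax') hσ
      have := Finset.card_le_card hsub
      rw [Finset.card_map, Finset.card_univ, Fintype.card_fin] at this
      omega
  -- commutators
  have hrestP : ∀ (z : N) (τ : Perm α), τ ∈ P → ∀ i, ((z : Perm α) * τ * (z : Perm α)⁻¹) (x i) = x i :=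
    fun z τ hτ i => hPfix _ ((Subgroup.mem_normalizer_iff.1 z.2.2.1 τ).1 hτ) i
  have hcentral : ∀ u v : N, u ∈ K → v ∈ K → ∀ τ ∈ P,
      Commute ((u * v * u⁻¹ * v⁻¹ : N) : Perm α) τ := by
    intro u v hu hv
    have key : ∀ τ ∈ P, ((u * v : N) : Perm α) * τ * ((u * v : N) : Perm α)⁻¹ =
        ((v * u : N) : Perm α) * τ * ((v * u : N) : Perm α)⁻¹ := by
      intro τ hτ
      ext a
      by_cases ha : a ∈ Set.range x
      · obtain ⟨i, rfl⟩ := ha
        rw [hrestP _ τ hτ, hrestP _ τ hτ]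
      obtain ⟨m, hm⟩ := hscal u hu a ha
      obtain ⟨m', hm'⟩ := hscal v hv a ha
      have two : ∀ (u v : N) (m m' : ℕ), (∀ τ ∈ P, ∀ b ∈ orb a, ((u : Perm α) * τ * (u : Perm α)⁻¹) b = (τ ^ m) b) →
          (∀ τ ∈ P, ∀ b ∈ orb a, ((v : Perm α) * τ * (v : Perm α)⁻¹) b = (τ ^ m') b) →
          (((u * v : N) : Perm α) * τ * ((u * v : N) : Perm α)⁻¹) a = (τ ^ (m * m')) a := by
        intro u v m m' hm hm'
        have hρ : (v : Perm α) * τ * (v : Perm α)⁻¹ ∈ P := (Subgroup.mem_normalizer_iff.1 v.2.2.1 τ).1 hτ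
        have e : ((u * v : N) : Perm α) * τ * ((u * v : N) : Perm α)⁻¹ =
            (u : Perm α) * ((v : Perm α) * τ * (v : Perm α)⁻¹) * (u : Perm α)⁻¹ := by
          rw [Subgroup.coe_mul]; group
        rw [e, hm _ hρ a (hself a), conj_pow, hm' _ (P.pow_mem hτ m) a (hself a), ← pow_mul]
      rw [two u v m m' hm hm', two v u m' m hm' hm, mul_comm]
    intro τ hτ
    set A : Perm α := ((u * v : N) : Perm α) with hA
    set B : Perm α := ((v * u : N) : Perm α) with hB
    have hτ' : B⁻¹ * τ * B ∈ P := by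
      have := (Subgroup.mem_normalizer_iff.1 (Subgroup.inv_mem _ (v * u : N).2.2.1) τ).1 hτ
      simpa [hB] using this
    have h1 : A * B⁻¹ * τ * (A * B⁻¹)⁻¹ = τ := by
      calc A * B⁻¹ * τ * (A * B⁻¹)⁻¹ = A * (B⁻¹ * τ * B) * A⁻¹ := by group
        _ = B * (B⁻¹ * τ * B) * B⁻¹ := key _ hτ'
        _ = τ := by group
    have h2 : ((u * v * u⁻¹ * v⁻¹ : N) : Perm α) = A * B⁻¹ := by
      rw [hA, hB]; push_cast; group
    rw [h2]
    exact mul_inv_eq_iff_eq_mul.1 h1
  -- the image of the label-preserving elements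
  set S := K.map θ with hS
  haveI hSn : S.Normal := Subgroup.Normal.map inferInstance θ hθsurj
  have hlamle : Nat.card lam.range ≤ k.factorial := by
    refine (Subgroup.card_le_card_group _).trans (le_of_eq ?_)
    rw [Nat.card_perm, Nat.card_eq_finsetCard, hΩk]
  have hSidx : S.index ≤ k.factorial := by
    have h1 : S.index ∣ K.index := Subgroup.index_map_dvd K hθsurj
    rw [hK, Subgroup.index_ker] at h1
    exact (Nat.le_of_dvd Nat.card_pos h1).trans hlamle
  have hS1 : S ≠ ⊥ := by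
    intro h
    rw [h, Subgroup.index_bot, Nat.card_perm, Nat.card_fin] at hSidx
    have := (Nat.factorial_lt (show 0 < k by omega)).2 hrk
    omega
  have hpkeep : ∀ (n w : N), w ∈ K → ∀ a ∉ Set.range x, ((n * w * n⁻¹ * w⁻¹ : N) : Perm α) a ∈ orb a := by
    intro n w hw
    exact hKorb _ (K.mul_mem ((MonoidHom.normal_ker lam).conj_mem w hw n) (K.inv_mem hw))
  by_cases hA : 4 ≤ r ∧ alternatingGroup (Fin r) ≤ S
  · obtain ⟨hr4, hAS⟩ := hA
    obtain ⟨u, v, hu, hv, hne, hsq⟩ := comm_four hr4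
    obtain ⟨u', hu', hue⟩ := hAS hu
    obtain ⟨v', hv', hve⟩ := hAS hv
    refine hfinish (u' * v' * u'⁻¹ * v'⁻¹) (hpkeep u' v' hv') (hcentral u' v' hu' hv') ?_
    rw [map_mul, map_mul, map_mul, map_inv, map_inv, hue, hve]
    intro h
    obtain ⟨j, hj⟩ := hp.odd_of_ne_two (by omega)
    rw [hj, pow_succ, pow_mul, hsq, one_pow, one_mul] at h
    exact hne h
  have hsmall : (r = 3 ∧ k = 2) ∨ (r = 4 ∧ k = 3) := by
    by_cases h5 : 5 ≤ r
    · exact absurd ⟨by omega, alt_le_of_normal (by simpa using h5) S hS1⟩ hA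
    by_cases h42 : r = 4 ∧ k = 2
    · obtain ⟨rfl, rfl⟩ := h42
      exact absurd ⟨le_rfl, Equiv.Perm.alternatingGroup_le_of_index_le_two (by simpa using hSidx)⟩ hA
    omega
  by_cases h33 : r = 3 ∧ p = 3
  · -- degree nine
    obtain ⟨rfl, rfl⟩ := h33
    obtain rfl : k = 2 := by omega
    obtain ⟨o₁, o₂, ho12, hΩe⟩ := Finset.card_eq_two.1 hΩk
    obtain ⟨a, ha, hao⟩ := hΩ o₁ (by rw [hΩe]; simp)
    obtain ⟨b, hb, hbo⟩ := hΩ o₂ (by rw [hΩe]; simp)
    obtain ⟨σ, hσ, hσa⟩ : ∃ σ ∈ P, σ a ≠ a := by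
      by_contra hh
      push Not at hh
      have : orb a = {a} := by
        ext c
        rw [Finset.mem_singleton, horbm]
        exact ⟨fun ⟨σ, hσ, h⟩ => h ▸ hh σ hσ, fun h => h ▸ ⟨1, P.one_mem, rfl⟩⟩
      have h2 := horbc a ha
      rw [this, Finset.card_singleton] at h2
      omega
    have hst : ∀ (c : α), ∀ j : ℕ, (σ ^ j) c ∈ orb c := fun c j => (horbm c _).2 ⟨_, P.pow_mem hσ j, rfl⟩
    have hcase : ∀ c, c ∈ Set.range x ∨ c ∈ orb a ∨ c ∈ orb b := by
      intro c
      by_cases hc : c ∈ Set.range x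
      · exact Or.inl hc
      have := hΩmem c hc
      rw [hΩe, Finset.mem_insert, Finset.mem_singleton] at this
      rcases this with h | h
      · exact Or.inr (Or.inl (by rw [hao, ← h]; exact hself c))
      · exact Or.inr (Or.inr (by rw [hbo, ← h]; exact hself c))
    have hσb : σ b ≠ b := by
      intro hσb
      apply hcyc σ hσ
      have hsupp : σ.support = orb a := by
        apply Finset.Subset.antisymm
        · intro c hc
          rw [Perm.mem_support] at hc
          rcases hcase c with ⟨i, rfl⟩ | h | h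
          · exact absurd (hPfix σ hσ i) hc
          · exact h
          · obtain ⟨τ, hτ, rfl⟩ := (horbm b c).1 h
            exfalso
            by_cases hτb : τ b = b
            · rw [hτb] at hc; exact hc hσb
            · obtain ⟨j, hj⟩ := hcycl b hb τ hτ hτb σ hσ
              apply hc
              have h0 := hj b (hself b)
              rw [hσb] at h0
              rw [hj _ ((horbm b _).2 ⟨τ, hτ, rfl⟩), ← Perm.mul_apply, ← pow_succ, pow_succ',
                Perm.mul_apply, ← h0]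
        · intro c hc
          obtain ⟨τ, hτ, rfl⟩ := (horbm a c).1 hc
          rw [Perm.mem_support]
          intro hfix
          obtain ⟨j, hj⟩ := hcycl a ha σ hσ hσa τ hτ
          rw [hj a (hself a)] at hfix
          apply hσa
          apply (σ ^ j).injective
          rw [← Perm.mul_apply, ← pow_succ, pow_succ', Perm.mul_apply, hfix]
      rw [hsupp]; exact horbc a ha
    have h3 : ∀ c ∉ Set.range x, σ c ≠ c → (σ ^ 3) c = c ∧ (σ ^ 2) c ≠ c ∧ (σ ^ 2) c ≠ σ c := by
      intro c hc hσc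
      have hcube : (σ ^ 3) c = c := pow_fix hPp (horb c hc) hσ
      refine ⟨hcube, fun h => hσc ?_, fun h => hσc (σ.injective ?_)⟩
      · have := hcube
        rw [pow_succ', Perm.mul_apply, h] at this
        exact this
      · rwa [pow_two, Perm.mul_apply] at h
    let v : Fin 9 → α := ![a, σ a, (σ ^ 2) a, b, σ b, (σ ^ 2) b, x 0, x 1, x 2]
    have hv : Function.Bijective v := by
      rw [Fintype.bijective_iff_surjective_and_card]
      refine ⟨fun c => ?_, by simp [hn]⟩
      have horb3 : ∀ d ∉ Set.range x, σ d ≠ d → ∀ c ∈ orb d, c = d ∨ c = σ d ∨ c = (σ ^ 2) d := by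
        intro d hd hσd c hc
        obtain ⟨-, e2, e3⟩ := h3 d hd hσd
        have hsub : ({d, σ d, (σ ^ 2) d} : Finset α) = orb d := by
          refine Finset.eq_of_subset_of_card_le ?_ ?_
          · intro z hz
            simp only [Finset.mem_insert, Finset.mem_singleton] at hz
            rcases hz with rfl | rfl | rfl
            · exact hself _
            · exact (horbm d _).2 ⟨σ, hσ, rfl⟩
            · exact hst d 2
          · rw [horbc d hd]
            rw [Finset.card_eq_three.2 ⟨d, σ d, (σ ^ 2) d, hσd.symm, e2.symm, e3.symm, rfl⟩]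
        rw [← hsub] at hc
        simpa using hc
      rcases hcase c with ⟨i, rfl⟩ | h | h
      · fin_cases i
        · exact ⟨6, rfl⟩
        · exact ⟨7, rfl⟩
        · exact ⟨8, rfl⟩
      · rcases horb3 a ha hσa c h with rfl | rfl | rfl
        · exact ⟨0, rfl⟩
        · exact ⟨1, rfl⟩
        · exact ⟨2, rfl⟩
      · rcases horb3 b hb hσb c h with rfl | rfl | rfl
        · exact ⟨3, rfl⟩
        · exact ⟨4, rfl⟩
        · exact ⟨5, rfl⟩
    let e : Fin 9 ≃ α := Equiv.ofBijective v hv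
    let φ : Perm (Fin 9) ≃* Perm α := e.permCongrHom
    let G' : Subgroup (Perm (Fin 9)) := G.comap φ.toMonoidHom
    have h4 : MulAction.IsMultiplyPretransitive G' (Fin 9) 4 := by
      rw [MulAction.isMultiplyPretransitive_iff]
      intro u w
      obtain ⟨g, hg⟩ := (MulAction.isMultiplyPretransitive_iff.1 hG) (u.trans e.toEmbedding)
        (w.trans e.toEmbedding)
      refine ⟨⟨φ.symm (g : Perm α), by simp [G']⟩, ?_⟩
      ext i
      have := DFunLike.congr_fun hg i
      have h' : (g : Perm α) (e (u i)) = e (w i) := this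
      show ((φ.symm (g : Perm α)) (u i) : ℕ) = _
      rw [show (φ.symm (g : Perm α)) (u i) = e.symm ((g : Perm α) (e (u i))) from rfl, h', Equiv.symm_apply_apply]
    have hs9 : s9 ∈ G' := by
      show φ s9 ∈ G
      have : φ s9 = σ := by
        refine Equiv.ext fun c => ?_
        obtain ⟨i, rfl⟩ := hv.2 c
        have : (φ s9) (e i) = e (s9 i) := by simp [φ]
        show (φ s9) (e i) = σ (e i)
        rw [this]
        show v (s9 i) = σ (v i)
        have q1 : σ ((σ ^ 2) a) = a := by rw [← Perm.mul_apply, ← pow_succ']; exact (h3 a ha hσa).1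
        have q2 : σ ((σ ^ 2) b) = b := by rw [← Perm.mul_apply, ← pow_succ']; exact (h3 b hb hσb).1
        have q3 : ∀ c, σ (σ c) = (σ ^ 2) c := fun c => by rw [pow_two, Perm.mul_apply]
        fin_cases i
        all_goals first
          | exact rfl
          | exact (q3 _).symm
          | exact q1.symm
          | exact q2.symm
          | exact (hPfix σ hσ _).symm
      rw [this]; exact hPG hσ
    obtain ⟨h, hhG, hh1, hhs⟩ := nine_small G' h4 hs9
    refine ⟨φ h, hhG, fun hh => hh1 (φ.injective (hh.trans (map_one φ).symm)), ?_⟩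
    have : (φ h).support.card = h.support.card := by
      have hset : (φ h).support = h.support.map e.toEmbedding := by
        ext c
        obtain ⟨i, rfl⟩ := e.surjective c
        simp [φ, Perm.mem_support]
      rw [hset, Finset.card_map]
    omega
  -- `p ≥ 5`, so the elements of `K` act on `P` as scalars
  have hscalar : ∀ w : N, w ∈ K → ∃ m : ℕ, ∀ τ ∈ P, (w : Perm α) * τ * (w : Perm α)⁻¹ = τ ^ m := by
    intro w hw
    obtain ⟨a₀, ha₀⟩ : ∃ a, a ∉ Set.range x := by
      by_contra h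
      push Not at h
      have h1 := Fintype.card_le_of_surjective x h
      rw [Fintype.card_fin, hn] at h1
      have : 0 < k * p := Nat.mul_pos (by omega) hp.pos
      omega
    obtain ⟨m₀, hm₀⟩ := hscal w hw a₀ ha₀
    refine ⟨m₀, fun τ hτ => Equiv.ext fun c => ?_⟩
    by_cases hc : c ∈ Set.range x
    · obtain ⟨i, rfl⟩ := hc
      rw [hrestP _ τ hτ, hPfix _ (P.pow_mem hτ m₀)]
    by_cases hca : c ∈ orb a₀
    · exact hm₀ τ hτ c hca
    obtain ⟨m, hm⟩ := hscal w hw c hc
    set ν : Perm α → ℕ → Perm α := fun ρ i => (w : Perm α) * ρ * (w : Perm α)⁻¹ * (ρ ^ i)⁻¹ with hν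
    have hνP : ∀ ρ ∈ P, ∀ i, ν ρ i ∈ P := fun ρ hρ i =>
      P.mul_mem ((Subgroup.mem_normalizer_iff.1 w.2.2.1 ρ).1 hρ) (P.inv_mem (P.pow_mem hρ i))
    have hνfix : ∀ ρ ∈ P, ∀ (d : α) (i : ℕ), (∀ b ∈ orb d, ((w : Perm α) * ρ * (w : Perm α)⁻¹) b = (ρ ^ i) b) →
        ∀ b ∈ orb d, ν ρ i b = b := by
      intro ρ hρ d i hi b hb
      obtain ⟨b', rfl⟩ : ∃ b', (ρ ^ i) b' = b := ⟨(ρ ^ i)⁻¹ b, by simp⟩
      have hb' : b' ∈ orb d := by
        obtain ⟨π, hπ, he⟩ := (horbm d _).1 hb
        exact (horbm d _).2 ⟨(ρ ^ i)⁻¹ * π, P.mul_mem (P.inv_mem (P.pow_mem hρ i)) hπ, by simp [he]⟩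
      show ((w : Perm α) * ρ * (w : Perm α)⁻¹) ((ρ ^ i)⁻¹ ((ρ ^ i) b')) = _
      rw [Perm.coe_inv (ρ ^ i), Equiv.symm_apply_apply]
      exact hi b' hb'
    -- an element of `P` trivial outside one orbit is trivial
    have hone : ∀ ρ ∈ P, ∀ d ∉ Set.range x, (∀ b, b ∉ orb d → ρ b = b) → ρ = 1 := by
      intro ρ hρ d hd hfix
      by_contra hne
      apply hcyc ρ hρ
      obtain ⟨b, hb⟩ : ∃ b, ρ b ≠ b := by
        by_contra h
        push Not at h
        exact hne (Equiv.ext h)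
      have hbo : b ∈ orb d := by
        by_contra h
        exact hb (hfix b h)
      have hbx : b ∉ Set.range x := hout d hd b hbo
      have hsupp : ρ.support = orb d := by
        apply Finset.Subset.antisymm
        · intro z hz
          by_contra h
          exact Perm.mem_support.1 hz (hfix z h)
        · intro z hz
          rw [Perm.mem_support]
          intro hzfix
          rw [← horbeq d b hbo] at hz
          obtain ⟨π, hπ, rfl⟩ := (horbm b z).1 hz
          obtain ⟨j, hj⟩ := hcycl b hbx ρ hρ hb π hπ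
          rw [hj b (hself b)] at hzfix
          apply hb
          apply (ρ ^ j).injective
          rw [← Perm.mul_apply, ← pow_succ, pow_succ', Perm.mul_apply, hzfix]
      rw [hsupp]; exact horbc d hd
    by_cases hex : ∃ ρ ∈ P, ρ a₀ ≠ a₀ ∧ ρ c ≠ c ∧ ∀ b, b ∉ orb a₀ → b ∉ orb c → ρ b = b
    · obtain ⟨ρ, hρ, hρa, hρc, hρo⟩ := hex
      have hwo : ∀ b, b ∉ orb a₀ → b ∉ orb c → ν ρ m₀ b = b := by
        intro b h1 h2
        have h1' : ∀ j, (ρ ^ j) b = b := fun j => hpowinv ρ b j (hρo b h1 h2)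
        have hw2 : ρ ((w : Perm α)⁻¹ b) = (w : Perm α)⁻¹ b := by
          by_cases hbx : b ∈ Set.range x
          · obtain ⟨i, hi⟩ : (w : Perm α)⁻¹ b ∈ Set.range x :=
              (w.2.2.2 _).1 (by rwa [Perm.coe_inv, Equiv.apply_symm_apply])
            rw [← hi, hPfix ρ hρ]
          · have hb' : (w : Perm α)⁻¹ b ∉ Set.range x := fun h => hbx (by
              have := (w.2.2.2 _).2 h
              rwa [Perm.coe_inv, Equiv.apply_symm_apply] at this)
            have h3 := hKorb w hw _ hb'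
            rw [Perm.coe_inv, Equiv.apply_symm_apply] at h3
            refine hρo _ (fun h => h1 ?_) (fun h => h2 ?_)
            · rw [← horbeq _ _ h]; exact h3
            · rw [← horbeq _ _ h]; exact h3
        show ((w : Perm α) * ρ * (w : Perm α)⁻¹) ((ρ ^ m₀)⁻¹ b) = b
        rw [show (ρ ^ m₀)⁻¹ b = b from by rw [Perm.coe_inv, Equiv.symm_apply_eq, h1'], Perm.mul_apply,
          Perm.mul_apply, hw2, Perm.coe_inv, Equiv.apply_symm_apply]
      have hν1 : ν ρ m₀ = 1 := hone _ (hνP ρ hρ m₀) c hc (fun b hb => by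
        by_cases hb0 : b ∈ orb a₀
        · exact hνfix ρ hρ a₀ m₀ (hm₀ ρ hρ) b hb0
        · exact hwo b hb0 hb)
      obtain ⟨j, hj⟩ := hcycl c hc ρ hρ hρc τ hτ
      rw [hm τ hτ c (hself c)]
      have e1 : (ρ ^ m₀) c = (ρ ^ m) c := by
        rw [← hm ρ hρ c (hself c)]
        exact DFunLike.congr_fun (mul_inv_eq_one.1 hν1).symm c
      have hpe : ∀ i : ℕ, (τ ^ i) c = ((ρ ^ i) ^ j) c := by
        intro i
        rw [← pow_mul, mul_comm, pow_mul]
        induction i with
        | zero => rfl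
        | succ i ih =>
          rw [pow_succ', pow_succ', Perm.mul_apply, Perm.mul_apply, ih,
            hj _ ((horbm c _).2 ⟨_, P.pow_mem (P.pow_mem hρ j) i, rfl⟩)]
      rw [hpe, hpe]
      have hit : ∀ s : ℕ, ((ρ ^ m) ^ s) c = ((ρ ^ m₀) ^ s) c := by
        intro s
        induction s with
        | zero => rfl
        | succ s ih =>
          rw [pow_succ, pow_succ, Perm.mul_apply, Perm.mul_apply, ← e1, ← Perm.mul_apply, ← Perm.mul_apply,
            ← pow_mul, ← pow_mul, ← pow_add, ← pow_add, show m * s + m₀ = m₀ + m * s by ring, pow_add,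
            Perm.mul_apply, show m₀ * s + m₀ = m₀ + m₀ * s by ring, pow_add, Perm.mul_apply,
            pow_mul, pow_mul, ih]
      exact hit j
    · push Not at hex
      have hΩsub : ∀ d₁ d₂ d₃ : α, d₁ ∉ Set.range x → d₂ ∉ Set.range x → d₃ ∉ Set.range x →
          orb d₁ ≠ orb a₀ → orb d₁ ≠ orb c → orb d₂ ≠ orb a₀ → orb d₂ ≠ orb c → orb d₁ = orb d₂ := by
        intro d₁ d₂ d₃ h1 h2 _ q1 q2 q3 q4
        by_contra hne
        have hnc : orb a₀ ≠ orb c := fun h => hca (h ▸ hself c)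
        have hsub : ({orb d₁, orb d₂, orb a₀, orb c} : Finset (Finset α)) ⊆ Ω := by
          intro o ho
          simp only [Finset.mem_insert, Finset.mem_singleton] at ho
          rcases ho with rfl | rfl | rfl | rfl
          exacts [hΩmem _ h1, hΩmem _ h2, hΩmem _ ha₀, hΩmem _ hc]
        have := Finset.card_le_card hsub
        rw [hΩk] at this
        simp [Finset.card_insert_of_notMem, hne, q1, q2, q3, q4, hnc] at this
        omega
      have hfree : ∀ ρ ∈ P, ∀ d, (∀ b, b ∉ orb a₀ → b ∉ orb c → b = d ∨ b ≠ d) →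
          (∀ b, b ∉ orb a₀ → b ∉ orb c → ρ b = b) → ρ = 1 := by
        intro ρ hρ d _ hfix
        by_cases ha : ρ a₀ = a₀
        · refine hone ρ hρ c hc fun b hb => ?_
          by_cases hb0 : b ∈ orb a₀
          · obtain ⟨π, hπ, rfl⟩ := (horbm a₀ b).1 hb0
            exact fix_orbit hPp (horb a₀ ha₀) hρ ha hπ
          · exact hfix b hb0 hb
        · refine hone ρ hρ a₀ ha₀ fun b hb => ?_
          by_cases hbc : b ∈ orb c
          · have hρc : ρ c = c := by
              by_contra hh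
              obtain ⟨z, z1, z2, z3⟩ := hex ρ hρ ha hh
              exact z3 (hfix z z1 z2)
            obtain ⟨π, hπ, rfl⟩ := (horbm c b).1 hbc
            exact fix_orbit hPp (horb c hc) hρ hρc hπ
          · exact hfix b hb hbc
      have hext : ∀ b₁, b₁ ∉ Set.range x → b₁ ∉ orb a₀ → b₁ ∉ orb c → ∀ ρ ∈ P,
          (∀ b ∈ orb b₁, ρ b = b) → ρ = 1 := by
        intro b₁ h1 h2 h3 ρ hρ hfix
        refine hfree ρ hρ b₁ (fun b _ _ => em _) fun b hb hb' => ?_
        by_cases hbx : b ∈ Set.range x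
        · obtain ⟨i, rfl⟩ := hbx; exact hPfix ρ hρ i
        apply hfix
        rw [← hΩsub b b₁ b hbx h1 hbx (fun h => hb (h ▸ hself b)) (fun h => hb' (h ▸ hself b))
          (fun h => h2 (h ▸ hself b₁)) (fun h => h3 (h ▸ hself b₁))]
        exact hself b
      by_cases hd : ∃ d, d ∉ Set.range x ∧ d ∉ orb a₀ ∧ d ∉ orb c
      · obtain ⟨d, hdx, hda, hdc⟩ := hd
        obtain ⟨md, hmd⟩ := hscal w hw d hdx
        have e : (w : Perm α) * τ * (w : Perm α)⁻¹ = τ ^ md :=
          mul_inv_eq_one.1 (hext d hdx hda hdc _ (hνP τ hτ md) (hνfix τ hτ d md (hmd τ hτ)))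
        rw [e]
        -- some element moves `a₀`; all exponents agree there
        obtain ⟨σ, hσ, hσa⟩ : ∃ σ ∈ P, σ a₀ ≠ a₀ := by
          by_contra hh
          push Not at hh
          have : orb a₀ = {a₀} := by
            ext z
            rw [Finset.mem_singleton, horbm]
            exact ⟨fun ⟨σ, hσ, h⟩ => h ▸ hh σ hσ, fun h => h ▸ ⟨1, P.one_mem, rfl⟩⟩
          have h2 := horbc a₀ ha₀
          rw [this, Finset.card_singleton] at h2
          exact hp.ne_one h2.symm
        have eσ : (w : Perm α) * σ * (w : Perm α)⁻¹ = σ ^ md :=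
          mul_inv_eq_one.1 (hext d hdx hda hdc _ (hνP σ hσ md) (hνfix σ hσ d md (hmd σ hσ)))
        have h4 : (σ ^ md) a₀ = (σ ^ m₀) a₀ := by rw [← eσ]; exact hm₀ σ hσ a₀ (hself a₀)
        have h5 : σ ^ p = 1 := by
          exact hext d hdx hda hdc _ (P.pow_mem hσ p) fun b hb => pow_fix hPp (horb b (hout d hdx b hb)) hσ
        have hord : orderOf σ = p := orderOf_eq_prime h5 (fun h => hσa (by rw [h]; rfl))
        have hstab : ∀ i : ℕ, (σ ^ i) a₀ = a₀ → σ ^ i = 1 := by
          intro i hi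
          rw [← orderOf_dvd_iff_pow_eq_one, hord]
          by_contra hndvd
          apply hσa
          obtain ⟨l, hl⟩ := exists_pow_eq_self_of_coprime (n := i) (x := σ)
            (by rw [hord]; exact (hp.coprime_iff_not_dvd.2 hndvd).symm)
          rw [← hl]
          exact hpowinv _ a₀ l hi
        have hmm : ∀ i j : ℕ, i ≤ j → (σ ^ i) a₀ = (σ ^ j) a₀ → i ≡ j [MOD p] := by
          intro i j hij h
          rw [Nat.modEq_iff_dvd' hij, ← hord, orderOf_dvd_iff_pow_eq_one]
          apply hstab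
          apply (σ ^ i).injective
          rw [← Perm.mul_apply, ← pow_add, Nat.add_sub_cancel' hij, h]
        have hmod : md ≡ m₀ [MOD p] := by
          rcases le_total md m₀ with h | h
          · exact hmm _ _ h h4
          · exact (hmm _ _ h h4.symm).symm
        have hτp : τ ^ p = 1 := by
          exact hext d hdx hda hdc _ (P.pow_mem hτ p) fun b hb => pow_fix hPp (horb b (hout d hdx b hb)) hτ
        rw [pow_eq_pow_mod md hτp, pow_eq_pow_mod m₀ hτp, hmod]
      · -- only two orbits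
        push Not at hd
        exfalso
        obtain ⟨σ, hσ, hσa⟩ : ∃ σ ∈ P, σ a₀ ≠ a₀ := by
          by_contra hh
          push Not at hh
          have : orb a₀ = {a₀} := by
            ext z
            rw [Finset.mem_singleton, horbm]
            exact ⟨fun ⟨σ, hσ, h⟩ => h ▸ hh σ hσ, fun h => h ▸ ⟨1, P.one_mem, rfl⟩⟩
          have h2 := horbc a₀ ha₀
          rw [this, Finset.card_singleton] at h2
          exact hp.ne_one h2.symm
        have : σ = 1 := hfree σ hσ a₀ (fun b _ _ => em _) fun b hb hb' => by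
          by_cases hbx : b ∈ Set.range x
          · obtain ⟨i, rfl⟩ := hbx; exact hPfix σ hσ i
          · exact absurd (hd b hbx hb) hb'
        exact hσa (by rw [this]; rfl)
  -- commutator of an element of `N` with an element of `K`
  obtain ⟨w₀, hw₀S, hw₀⟩ := S.bot_or_exists_ne_one.resolve_left hS1
  obtain ⟨w, hwK, rfl⟩ := hw₀S
  obtain ⟨π, hπ⟩ : ∃ π, π * θ w * π⁻¹ * (θ w)⁻¹ ≠ 1 := by
    rcases hsmall with ⟨rfl, -⟩ | ⟨rfl, -⟩
    · exact three_check _ hw₀
    · exact four_check _ hw₀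
  obtain ⟨n, rfl⟩ := hθsurj π
  refine hfinish (n * w * n⁻¹ * w⁻¹) (hpkeep n w hwK) (fun τ hτ => ?_) ?_
  · obtain ⟨m, hm⟩ := hscalar w hwK
    have hτ' : (n : Perm α)⁻¹ * τ * n ∈ P := by
      have := (Subgroup.mem_normalizer_iff.1 (Subgroup.inv_mem _ n.2.2.1) τ).1 hτ
      simpa using this
    have h1 : ((n * w * n⁻¹ : N) : Perm α) * τ * ((n * w * n⁻¹ : N) : Perm α)⁻¹ = τ ^ m := by
      push_cast
      calc _ = (n : Perm α) * ((w : Perm α) * ((n : Perm α)⁻¹ * τ * n) * (w : Perm α)⁻¹) * (n : Perm α)⁻¹ := by group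
        _ = (n : Perm α) * ((n : Perm α)⁻¹ * τ * n) ^ m * (n : Perm α)⁻¹ := by rw [hm _ hτ']
        _ = τ ^ m := by rw [← conj_pow]; congr 1; group
    have hw' : (w : Perm α)⁻¹ * τ * w ∈ P := by
      have := (Subgroup.mem_normalizer_iff.1 (Subgroup.inv_mem _ w.2.2.1) τ).1 hτ
      simpa using this
    have h2 : ((w : Perm α)⁻¹ * τ * w) ^ m = τ := by rw [← hm _ hw']; group
    have hu' : ((n * w * n⁻¹ * w⁻¹ : N) : Perm α) * τ * ((n * w * n⁻¹ * w⁻¹ : N) : Perm α)⁻¹ = τ := by
      have hmem : (w : Perm α)⁻¹ * τ * w ∈ P := hw'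
      have hh : ((n * w * n⁻¹ : N) : Perm α) * ((w : Perm α)⁻¹ * τ * w) * ((n * w * n⁻¹ : N) : Perm α)⁻¹ =
          ((w : Perm α)⁻¹ * τ * w) ^ m := by
        push_cast
        have hτ'' : (n : Perm α)⁻¹ * ((w : Perm α)⁻¹ * τ * w) * n ∈ P := by
          have := (Subgroup.mem_normalizer_iff.1 (Subgroup.inv_mem _ n.2.2.1) _).1 hw'
          simpa using this
        calc _ = (n : Perm α) * ((w : Perm α) * ((n : Perm α)⁻¹ * ((w : Perm α)⁻¹ * τ * w) * n) * (w : Perm α)⁻¹) * (n : Perm α)⁻¹ := by group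
          _ = (n : Perm α) * ((n : Perm α)⁻¹ * ((w : Perm α)⁻¹ * τ * w) * n) ^ m * (n : Perm α)⁻¹ := by rw [hm _ hτ'']
          _ = _ := by rw [← conj_pow]; congr 1; group
      rw [h2] at hh
      refine Eq.trans ?_ hh
      push_cast
      group
    exact mul_inv_eq_iff_eq_mul.1 hu'
  · rw [map_mul, map_mul, map_mul, map_inv, map_inv]
    intro h
    apply hπ
    set c := θ n * θ w * (θ n)⁻¹ * (θ w)⁻¹
    have hc12 : c ^ 12 = 1 := by
      rcases hsmall with ⟨rfl, -⟩ | ⟨rfl, -⟩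
      · rw [show 12 = 6 * 2 from rfl, pow_mul, three_four_pow.1, one_pow]
      · exact three_four_pow.2 c
    have hp5 : 5 ≤ p := by
      have := hp.two_le
      rcases hsmall with ⟨rfl, rfl⟩ | ⟨rfl, rfl⟩
      · have h4 : p ≠ 4 := fun e => by rw [e] at hp; norm_num at hp
        have h3 : p ≠ 3 := fun e => h33 ⟨rfl, e⟩
        omega
      · have h4 : p ≠ 4 := fun e => by rw [e] at hp; norm_num at hp
        omega
    have hcop : Nat.gcd p 12 = 1 := by
      refine (hp.coprime_iff_not_dvd).2 fun hd => ?_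
      have := Nat.le_of_dvd (by norm_num) hd
      interval_cases p
      all_goals revert hd hp
      all_goals norm_num
    rw [← pow_one c, ← hcop]
    exact pow_gcd_eq_one.2 ⟨h, hc12⟩

/-- Let `n = kp + r` with `p` prime, `1 ≤ k < p` and `r > k`, excluding the case `k = 1, r = 2`. Then a permutation group of degree `n` that is `(r + 1)`-fold transitive contains the alternating group. -/
theorem result {α : Type*} [Fintype α] [DecidableEq α] (G : Subgroup (Equiv.Perm α)) {k p r : ℕ} (hp : p.Prime) (hn : Fintype.card α = k * p + r) (hk : 1 ≤ k) (hpk : k < p) (hrk : k < r) (hex : ¬ (k = 1 ∧ r = 2)) (hG : MulAction.IsMultiplyPretransitive G α (r + 1)) : alternatingGroup α ≤ G := by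
  classical
  haveI := Fact.mk hp
  have hp2 := hp.two_le
  have hkp : 0 < k * p := Nat.mul_pos hk hp.pos
  have hG1 := MulAction.isMultiplyPretransitive_iff.1 hG
  obtain ⟨emb⟩ : Nonempty (Fin r ↪ α) := Function.Embedding.nonempty_of_card_le (by simp [hn])
  have hr2 : 3 ≤ r := by omega
  have hprim : MulAction.IsPreprimitive G α := by
    have : MulAction.IsMultiplyPretransitive G α 2 := MulAction.isMultiplyPretransitive_of_le (n := r + 1) (by omega) (by rw [Nat.card_eq_fintype_card, hn]; omega)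
    exact MulAction.isPreprimitive_of_is_two_pretransitive this
  -- stabiliser of the chosen points
  let H : Subgroup (Equiv.Perm α) :=
    { carrier := {g | g ∈ G ∧ ∀ i, g (emb i) = emb i}
      one_mem' := ⟨G.one_mem, fun _ => rfl⟩
      mul_mem' := fun {a b} ha hb => ⟨G.mul_mem ha.1 hb.1, fun i => by rw [Equiv.Perm.mul_apply, hb.2, ha.2]⟩
      inv_mem' := fun {a} ha => ⟨G.inv_mem ha.1, fun i => by
        rw [Equiv.Perm.coe_inv, Equiv.symm_apply_eq, ha.2]⟩ }
  have hext : ∀ a ∉ Set.range emb, ∀ b ∉ Set.range emb, ∀ π : Equiv.Perm (Fin r),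
      ∃ g ∈ G, g a = b ∧ ∀ i, g (emb i) = emb (π i) := by
    intro a ha b hb π
    let u : Fin (r + 1) ↪ α := ⟨Fin.snoc emb a, Fin.snoc_injective_iff.2 ⟨emb.injective, ha⟩⟩
    let v : Fin (r + 1) ↪ α := ⟨Fin.snoc (fun i => emb (π i)) b,
      Fin.snoc_injective_iff.2 ⟨emb.injective.comp π.injective, fun ⟨i, hi⟩ => hb ⟨π i, hi⟩⟩⟩
    obtain ⟨g, hg⟩ := hG1 u v
    refine ⟨g, g.2, ?_, fun i => ?_⟩
    · have := DFunLike.congr_fun hg (Fin.last r)
      simpa [u, v, Subgroup.smul_def] using this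
    · have := DFunLike.congr_fun hg i.castSucc
      simpa [u, v, Subgroup.smul_def] using this
  obtain ⟨a₀, ha₀⟩ : ∃ a, a ∉ Set.range emb := by
    by_contra h
    push Not at h
    have := Fintype.card_le_of_surjective emb h
    rw [Fintype.card_fin, hn] at this
    omega
  let Q : Sylow p H := Classical.arbitrary _
  let P : Subgroup (Equiv.Perm α) := (Q : Subgroup H).map H.subtype
  have hPH : P ≤ H := Subgroup.map_subtype_le _
  have hPp : IsPGroup p P := Q.2.map _
  have horbH : ∀ a ∉ Set.range emb, MulAction.orbit H a = (Set.range emb)ᶜ := by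
    intro a ha
    ext b
    constructor
    · rintro ⟨h, rfl⟩ ⟨i, hi⟩
      exact ha ⟨i, (h : Equiv.Perm α).injective ((h.2.2 i).trans hi)⟩
    · intro hb
      obtain ⟨g, hgG, hga, hgi⟩ := hext a ha b hb 1
      exact ⟨⟨g, hgG, hgi⟩, hga⟩
  have hcompl : Set.ncard (Set.range emb)ᶜ = k * p := by
    rw [Set.ncard_compl, Set.ncard_range_of_injective emb.injective, Nat.card_fin,
      Nat.card_eq_fintype_card, hn]
    omega
  have horb : ∀ a ∉ Set.range emb, Nat.card (MulAction.orbit P a) = p := by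
    intro a ha
    obtain ⟨j, hj⟩ := hPp.card_orbit a
    have hle : MulAction.orbit P a ⊆ MulAction.orbit H a := by
      rintro _ ⟨g, rfl⟩
      exact ⟨⟨g, hPH g.2⟩, rfl⟩
    have hsmall : p ^ j ≤ k * p := by
      rw [← hj, ← hcompl, ← horbH a ha, Nat.card_coe_set_eq]
      exact Set.ncard_le_ncard hle
    have hj2 : j < 2 := by
      by_contra hc
      push Not at hc
      have h2 : p ^ 2 ≤ p ^ j := Nat.pow_le_pow_right hp.pos hc
      have : k * p < p * p := Nat.mul_lt_mul_of_pos_right hpk hp.pos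
      rw [pow_two] at h2
      omega
    rcases j with _ | j
    · exfalso
      rw [pow_zero] at hj
      -- `P` fixes `a`, against transitivity
      have hfixa : ∀ σ ∈ P, σ a = a := by
        intro σ hσ
        have hone : Set.ncard (MulAction.orbit P a) = 1 := by rw [← Nat.card_coe_set_eq, hj]
        obtain ⟨b, hb⟩ := Set.ncard_eq_one.1 hone
        have h1 : σ a ∈ MulAction.orbit P a := ⟨⟨σ, hσ⟩, rfl⟩
        have h2 : a ∈ MulAction.orbit P a := MulAction.mem_orbit_self a
        rw [hb, Set.mem_singleton_iff] at h1 h2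
        rw [h1, ← h2]
      have hQle : (Q : Subgroup H) ≤ MulAction.stabilizer H a := fun σ hσ => hfixa σ ⟨σ, hσ, rfl⟩
      have hidx : (MulAction.stabilizer H a).index = k * p := by
        rw [MulAction.index_stabilizer, horbH a ha, hcompl]
      have := Q.not_dvd_index
      exact this ((Dvd.intro_left k hidx.symm).trans (Subgroup.index_dvd_of_le hQle))
    · rw [hj, show j = 0 by omega, zero_add, pow_one]
  have hPfix : ∀ σ ∈ P, ∀ i, σ (emb i) = emb i := fun σ hσ i => (hPH hσ).2 i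
  have hPG : P ≤ G := fun σ hσ => (hPH hσ).1
  have hwitt : ∀ π : Equiv.Perm (Fin r), ∃ n ∈ G, n ∈ Subgroup.normalizer (P : Set (Equiv.Perm α)) ∧
      ∀ i, n (emb i) = emb (π i) := by
    intro π
    obtain ⟨g, hgG, -, hgi⟩ := hext a₀ ha₀ a₀ ha₀ π
    have hconjH : ∀ h ∈ H, g * h * g⁻¹ ∈ H := by
      intro h hh
      refine ⟨G.mul_mem (G.mul_mem hgG hh.1) (G.inv_mem hgG), fun i => ?_⟩
      have : g⁻¹ (emb i) = emb (π⁻¹ i) := by
        rw [Equiv.Perm.coe_inv, Equiv.symm_apply_eq, hgi, Equiv.Perm.coe_inv, Equiv.apply_symm_apply]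
      rw [Equiv.Perm.mul_apply, Equiv.Perm.mul_apply, this, hh.2, hgi, Equiv.Perm.coe_inv, Equiv.apply_symm_apply]
    let P' : Subgroup (Equiv.Perm α) := P.map (MulAut.conj g).toMonoidHom
    have hP'H : P' ≤ H := by
      rintro _ ⟨σ, hσ, rfl⟩
      exact hconjH σ (hPH hσ)
    have hcardP' : Nat.card (P'.subgroupOf H) = p ^ (Nat.card H).factorization p := by
      rw [Nat.card_congr (Subgroup.subgroupOfEquivOfLe hP'H).toEquiv,
        Subgroup.card_map_of_injective (MulAut.conj g).injective, Subgroup.card_map_of_injective H.subtype_injective]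
      exact Q.card_eq_multiplicity
    obtain ⟨h, hh⟩ := MulAction.exists_smul_eq H (Sylow.ofCard (P'.subgroupOf H) hcardP') Q
    refine ⟨(h : Equiv.Perm α) * g, G.mul_mem h.2.1 hgG, ?_, fun i => ?_⟩
    · rw [Subgroup.mem_normalizer_iff_map_conj_eq]
      have h1 : (P'.subgroupOf H).map (MulAut.conj h).toMonoidHom = (Q : Subgroup H) :=
        congrArg (fun S : Sylow p H => (S : Subgroup H)) hh
      show P.map (MulAut.conj ((h : Equiv.Perm α) * g)).toMonoidHom = P
      conv_rhs => rw [show P = (Q : Subgroup H).map H.subtype from rfl, ← h1]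
      rw [Subgroup.map_map (K := P'.subgroupOf H), show H.subtype.comp (MulAut.conj h).toMonoidHom =
        (MulAut.conj (h : Equiv.Perm α)).toMonoidHom.comp H.subtype by ext x; simp,
        ← Subgroup.map_map, Subgroup.subgroupOf_map_subtype, inf_of_le_left hP'H, Subgroup.map_map]
      rw [show P' = ((Q : Subgroup H).map H.subtype).map (MulAut.conj g).toMonoidHom from rfl,
        Subgroup.map_map, Subgroup.map_map]
      refine congrArg (fun f => Subgroup.map f (Q : Subgroup H)) ?_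
      ext x
      simp [mul_assoc]
    · rw [Equiv.Perm.mul_apply, hgi, h.2.2]
  by_cases hcyc : ∃ σ ∈ P, σ.support.card = p
  · obtain ⟨σ, hσ, hsc⟩ := hcyc
    obtain ⟨e, he⟩ := hPp ⟨σ, hσ⟩
    have he' : σ ^ p ^ e = 1 := congrArg Subtype.val he
    have hord : orderOf σ = p := by
      obtain ⟨i, -, hi⟩ := (Nat.dvd_prime_pow hp).1 (orderOf_dvd_of_pow_eq_one he')
      have hne : σ ≠ 1 := fun h => by rw [h, Equiv.Perm.support_one, Finset.card_empty] at hsc; omega
      rcases i with _ | _ | i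
      · rw [pow_zero, orderOf_eq_one_iff] at hi; exact absurd hi hne
      · rw [hi, zero_add, pow_one]
      · exfalso
        obtain ⟨c, hc⟩ : ∃ c, (σ ^ p) c ≠ c := by
          by_contra h
          push Not at h
          have : σ ^ p = 1 := Equiv.ext h
          have := Nat.le_of_dvd hp.pos (orderOf_dvd_of_pow_eq_one this)
          rw [hi] at this
          have : p ^ 2 ≤ p ^ (i + 2) := Nat.pow_le_pow_right hp.pos (by omega)
          nlinarith
        apply hc
        have hcx : c ∉ Set.range emb := by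
          rintro ⟨l, rfl⟩
          exact hc (hPfix _ (P.pow_mem hσ p) l)
        exact pow_fix hPp (horb c hcx) hσ
    have hp' : (orderOf σ).Prime := hord.symm ▸ hp
    have hcy : σ.IsCycle := Equiv.Perm.isCycle_of_prime_order hp' (by rw [hsc, hord]; omega)
    have h3 : p + 3 ≤ Fintype.card α := by
      have : 1 * p ≤ k * p := Nat.mul_le_mul_right p hk
      omega
    exact Cfsg.Lib.Fusion.alternatingGroup_le_of_prime_cycle hprim hp h3 hcy hsc (hPG hσ)
  push Not at hcyc
  have hk2 : 2 ≤ k := by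
    by_contra hk2
    obtain rfl : k = 1 := by omega
    obtain ⟨σ, hσ, hσa⟩ : ∃ σ ∈ P, σ a₀ ≠ a₀ := by
      by_contra hh
      push Not at hh
      have hsub : MulAction.orbit P a₀ ⊆ {a₀} := by
        rintro _ ⟨g, rfl⟩; exact hh g g.2
      have h1 := Set.ncard_le_ncard hsub
      rw [← Nat.card_coe_set_eq, horb a₀ ha₀, Set.ncard_singleton] at h1
      omega
    apply hcyc σ hσ
    have hsub : σ.support ⊆ (Finset.univ.map emb)ᶜ := by
      intro c hc
      rw [Finset.mem_compl, Finset.mem_map]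
      rintro ⟨i, -, rfl⟩
      exact Equiv.Perm.mem_support.1 hc (hPfix σ hσ i)
    have hle := Finset.card_le_card hsub
    rw [Finset.card_compl, Finset.card_map, Finset.card_univ, Fintype.card_fin, hn, one_mul,
      Nat.add_sub_cancel] at hle
    obtain ⟨e, he⟩ := hPp ⟨σ, hσ⟩
    have hd : p ∣ σ.support.card := by
      have hone : σ ≠ 1 := fun h => hσa (by rw [h]; rfl)
      rw [← σ.sum_cycleType]
      refine Multiset.dvd_sum fun z hz => ?_
      have h2 : z ∣ p ^ e := (Equiv.Perm.dvd_of_mem_cycleType hz).trans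
        (orderOf_dvd_of_pow_eq_one (congrArg Subtype.val he))
      obtain ⟨i, -, rfl⟩ := (Nat.dvd_prime_pow hp).1 h2
      rcases i with _ | i
      · exact absurd (Equiv.Perm.one_lt_of_mem_cycleType hz) (by simp)
      · exact dvd_pow_self p i.succ_ne_zero
    have hpos : 0 < σ.support.card := Finset.card_pos.2 ⟨a₀, Equiv.Perm.mem_support.2 hσa⟩
    exact le_antisymm hle (Nat.le_of_dvd hpos hd)
  obtain ⟨h, hhG, hh1, hhs⟩ := core G hp hn hk2 hpk hrk hG emb P hPG hPp hPfix horb hwitt hcyc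
  exact (Cfsg.Agent.S0711.result G (k := r + 1) (by omega) (by omega) hG h hhG hh1 (by omega)).2

end Cfsg.Agent.S4220
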