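import Cfsg.Statements.S4221
import Cfsg.Agent.Lib.Perm.LW.Hall
import Cfsg.Agent.Lib.Perm.LW.Hom

set_option autoImplicit false
open Cfsg

namespace Cfsg.Agent.S4221

/-- Let `G` be a `4`-fold transitive permutation group on a finite set of `n` points in which the pointwise stabilizer of some four distinct points has odd order. Then `n = 4` or `n = 5` with `G` the full symmetric group, or `n = 6` or `n = 7` with `G` the alternating group, or `n = 11` and `G` has order `7920`. -/
theorem result {α : Type*} [Fintype α] [DecidableEq α] (G : Subgroup (Equiv.Perm α)) (hG : MulAction.IsMultiplyPretransitive G α 4) (x : Fin 4 ↪ α) (hodd : Odd (Nat.card (MulAction.stabilizer G x))) : ((Fintype.card α = 4 ∨ Fintype.card α = 5) ∧ G = ⊤) ∨ ((Fintype.card α = 6 ∨ Fintype.card α = 7) ∧ G = alternatingGroup α) ∨ (Fintype.card α = 11 ∧ Nat.card G = 7920) := by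
  classical
  have h4 := Cfsg.Lib.Perm.LW.tr_iff.2 hG
  have hn : 4 ≤ Fintype.card α := by simpa using Fintype.card_le_of_embedding x
  refine Cfsg.Lib.Perm.LW.hall_four ⟨h4, fun A hA => ?_⟩ hn
  rw [h4.hom.card_pstab hA (B := Finset.univ.image x)
    (by rw [Finset.card_image_of_injective _ x.injective, Finset.card_univ, Fintype.card_fin])]
  have e : MulAction.stabilizer G x ≃ Cfsg.Lib.Perm.LW.pstab G (Finset.univ.image x) :=
    { toFun := fun g => ⟨((g : G) : Equiv.Perm α), (g : G).2, fun z hz => by
        obtain ⟨i, -, rfl⟩ := Finset.mem_image.1 hz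
        exact congrFun (congrArg (⇑) (g.2 : (g : G) • x = x)) i⟩
      invFun := fun r => ⟨⟨r, r.2.1⟩, Function.Embedding.ext fun i =>
        r.2.2 _ (Finset.mem_image_of_mem _ (Finset.mem_univ i))⟩
      left_inv := fun g => rfl
      right_inv := fun r => rfl }
  rwa [← Nat.card_congr e]

end Cfsg.Agent.S4221
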