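import Cfsg.Statements.S4223
import Mathlib.Algebra.Group.Subgroup.Basic
import Mathlib.Data.Fin.Tuple.Basic
import Mathlib.Logic.Equiv.Fin.Basic
import Mathlib.Algebra.Group.Pi.Lemmas
import Mathlib.GroupTheory.GroupAction.Hom

set_option linter.style.haveILetI false

set_option autoImplicit false
open Cfsg

namespace Cfsg.Agent.S4223

open Subgroup

universe u v

/-- Directly indecomposable. -/
def Indec (A : Type u) [Group A] : Prop :=
  Nontrivial A ∧ ∀ H K : Subgroup A, H.Normal → K.Normal → H ⊓ K = ⊥ → H ⊔ K = ⊤ → H = ⊥ ∨ K = ⊥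

/-- An endomorphism commuting with inner automorphisms. -/
def IsNrm {A : Type u} [Group A] (f : A →* A) : Prop := ∀ a x : A, f (a * x * a⁻¹) = a * f x * a⁻¹

/-- Fitting's lemma. -/
theorem bij_or_nilpotent {A : Type u} [Group A] [Finite A] (hA : Indec A) {f : A →* A} (hf : IsNrm f) :
    Function.Bijective f ∨ ∃ n : ℕ, ∀ x, f^[n] x = 1 := by
  -- an idempotent power
  obtain ⟨n, hn, hidem⟩ : ∃ n : ℕ, 0 < n ∧ ∀ x, f^[n] (f^[n] x) = f^[n] x := by
    obtain ⟨a, b, hne, hab⟩ := Finite.exists_ne_map_eq_of_infinite (fun k : ℕ => (f^[k] : A → A))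
    wlog hlt : a < b generalizing a b
    · exact this b a hne.symm hab.symm (by omega)
    set d := b - a with hd
    have hper : ∀ k, a ≤ k → f^[k + d] = f^[k] := by
      intro k hk
      rw [show k + d = (k - a) + b by omega, Function.iterate_add, ← hab, ← Function.iterate_add,
        Nat.sub_add_cancel hk]
    have hper' : ∀ m k, a ≤ k → f^[k + m * d] = f^[k] := by
      intro m
      induction m with
      | zero => intro k _; rw [Nat.zero_mul, Nat.add_zero]
      | succ m ih => intro k hk; rw [Nat.succ_mul, ← Nat.add_assoc, hper _ (by omega), ih k hk]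
    refine ⟨(a + 1) * d, Nat.mul_pos (Nat.succ_pos a) (by omega), fun x => ?_⟩
    rw [← Function.iterate_add_apply, hper' (a + 1) ((a + 1) * d)
      (le_trans (Nat.le_succ a) (Nat.le_mul_of_pos_right _ (by omega)))]
  -- as a homomorphism
  have hhom : ∀ (k : ℕ), ∃ g : A →* A, IsNrm g ∧ ∀ x, g x = f^[k] x := by
    intro k
    induction k with
    | zero => exact ⟨MonoidHom.id A, fun a x => rfl, fun x => rfl⟩
    | succ k ih =>
      obtain ⟨g, hg, hgk⟩ := ih
      exact ⟨f.comp g, fun a x => by
          show f (g (a * x * a⁻¹)) = a * f (g x) * a⁻¹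
          rw [hg a x]; exact hf _ _,
        fun x => by rw [MonoidHom.comp_apply, hgk, Function.iterate_succ_apply']⟩
  obtain ⟨ε, hε, hεn⟩ := hhom n
  have hεε : ∀ x, ε (ε x) = ε x := fun x => by rw [hεn, hεn, hidem]
  have hrn : ε.range.Normal := ⟨fun y hy a => by
    obtain ⟨x, rfl⟩ := hy
    exact ⟨a * x * a⁻¹, hε a x⟩⟩
  rcases hA.2 ε.ker ε.range inferInstance hrn
    (eq_bot_iff.mpr fun y hy => by
      obtain ⟨x, hx⟩ := hy.2
      have h1 : ε y = 1 := hy.1
      rw [← hx, hεε, hx] at h1
      exact mem_bot.mpr h1)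
    (eq_top_iff.mpr fun y _ => by
      rw [show y = (y * (ε y)⁻¹) * ε y by group]
      refine mul_mem_sup ?_ ⟨y, rfl⟩
      rw [MonoidHom.mem_ker, map_mul, map_inv, hεε, mul_inv_cancel]) with h | h
  · left
    refine Finite.injective_iff_bijective.mp fun x y hxy => (MonoidHom.ker_eq_bot_iff ε).mp h ?_
    obtain ⟨k, rfl⟩ : ∃ k, n = k + 1 := ⟨n - 1, by omega⟩
    rw [hεn, hεn, Function.iterate_succ_apply, Function.iterate_succ_apply, hxy]
  · right
    refine ⟨n, fun x => ?_⟩
    rw [← hεn]
    exact mem_bot.mp (h ▸ ⟨x, rfl⟩)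

/-- If a sum of two normal endomorphisms is bijective, one of them is. -/
theorem bij_of_sum {A : Type u} [Group A] [Finite A] (hA : Indec A) {f g φ : A →* A} (hf : IsNrm f)
    (hφ : IsNrm φ) (hb : Function.Bijective φ) (hsum : ∀ x, f x * g x = φ x) :
    Function.Bijective f ∨ Function.Bijective g := by
  let ψ := MulEquiv.ofBijective φ hb
  have hψ : IsNrm ψ.symm.toMonoidHom := fun a x => by
    refine hb.1 ?_
    show φ (ψ.symm (a * x * a⁻¹)) = φ (a * ψ.symm x * a⁻¹)
    rw [hφ]
    show ψ (ψ.symm _) = a * ψ (ψ.symm x) * a⁻¹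
    rw [ψ.apply_symm_apply, ψ.apply_symm_apply]
  have hf' : IsNrm (f.comp ψ.symm.toMonoidHom) := fun a x => by
    show f (ψ.symm.toMonoidHom (a * x * a⁻¹)) = a * f (ψ.symm.toMonoidHom x) * a⁻¹
    rw [hψ a x]; exact hf _ _
  rcases bij_or_nilpotent hA hf' with h | ⟨n, hn⟩
  · left
    have : (f : A → A) = (f.comp ψ.symm.toMonoidHom) ∘ ψ := funext fun x => by simp
    rw [this]
    exact h.comp ψ.bijective
  · right
    refine Finite.injective_iff_bijective.mp ((injective_iff_map_eq_one g).mpr fun x hx => ?_)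
    have h1 : (f.comp ψ.symm.toMonoidHom) (φ x) = φ x := by
      show f (ψ.symm (ψ x)) = φ x
      rw [ψ.symm_apply_apply, ← hsum, hx, mul_one]
    have h2 := hn (φ x)
    rw [Function.iterate_fixed h1] at h2
    exact (injective_iff_map_eq_one φ).mp hb.1 x h2

/-- Keep the coordinates in `S`. -/
def mask {n : ℕ} {B : Fin n → Type v} [∀ j, Group (B j)] (S : Finset (Fin n)) :
    ((j : Fin n) → B j) →* ((j : Fin n) → B j) where
  toFun y l := if l ∈ S then y l else 1
  map_one' := funext fun l => by simp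
  map_mul' y z := funext fun l => by
    by_cases h : l ∈ S <;> simp [h]

theorem main : ∀ (m n : ℕ) (A : Fin m → Type u) (B : Fin n → Type v) [∀ i, Group (A i)] [∀ j, Group (B j)]
    [∀ i, Finite (A i)] [∀ j, Finite (B j)], (∀ i, Indec (A i)) → (∀ j, Indec (B j)) →
    ((i : Fin m) → A i) ≃* ((j : Fin n) → B j) → ∃ σ : Fin m ≃ Fin n, ∀ i, Nonempty (A i ≃* B (σ i)) := by
  intro m
  induction m with
  | zero =>
    intro n A B _ _ _ _ _ hB e
    rcases Nat.eq_zero_or_pos n with rfl | hn
    · exact ⟨Equiv.refl _, fun i => i.elim0⟩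
    · exfalso
      haveI := (hB ⟨0, hn⟩).1
      obtain ⟨b, hb⟩ := exists_ne (1 : B ⟨0, hn⟩)
      have h1 : e.symm (Pi.mulSingle ⟨0, hn⟩ b) = e.symm 1 := Subsingleton.elim _ _
      exact hb (Pi.mulSingle_eq_one_iff.mp (e.symm.injective h1))
  | succ m ih =>
    intro n A B _ _ _ _ hA hB e
    classical
    let ι₀ : A 0 →* ((i : Fin (m + 1)) → A i) := MonoidHom.mulSingle A 0
    let π₀ : ((i : Fin (m + 1)) → A i) →* A 0 := Pi.evalMonoidHom A 0
    have hπι : ∀ a, π₀ (ι₀ a) = a := fun a => Pi.mulSingle_eq_same 0 a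
    let F : Finset (Fin n) → (A 0 →* A 0) := fun S =>
      π₀.comp (e.symm.toMonoidHom.comp ((mask S).comp (e.toMonoidHom.comp ι₀)))
    have hFn : ∀ S, IsNrm (F S) := by
      intro S a x
      have h1 : mask S (e (ι₀ a) * e (ι₀ x) * (e (ι₀ a))⁻¹) =
          e (ι₀ a) * mask S (e (ι₀ x)) * (e (ι₀ a))⁻¹ := funext fun l => by
        simp only [mask, MonoidHom.coe_mk, OneHom.coe_mk, Pi.mul_apply, Pi.inv_apply]
        split_ifs with h
        · rfl
        · simp
      show π₀ (e.symm (mask S (e (ι₀ (a * x * a⁻¹))))) = _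
      have h2 : e (ι₀ (a * x * a⁻¹)) = e (ι₀ a) * e (ι₀ x) * (e (ι₀ a))⁻¹ := by simp only [map_mul, map_inv]
      rw [h2, h1]
      simp only [map_mul, map_inv, MulEquiv.symm_apply_apply, hπι]
      rfl
    have hsel : ∀ S : Finset (Fin n), Function.Bijective (F S) → ∃ j ∈ S, Function.Bijective (F {j}) := by
      intro S
      induction S using Finset.induction with
      | empty =>
        intro h
        exfalso
        haveI := (hA 0).1
        obtain ⟨a, ha⟩ := exists_ne (1 : A 0)
        refine ha (h.1 ?_)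
        show π₀ (e.symm (mask ∅ (e (ι₀ a)))) = π₀ (e.symm (mask ∅ (e (ι₀ 1))))
        congr 2
      | insert j S hj ihS =>
        intro h
        rcases bij_of_sum (hA 0) (hFn {j}) (hFn (insert j S)) h (g := F S) (fun x => by
          show π₀ (e.symm (mask {j} (e (ι₀ x)))) * π₀ (e.symm (mask S (e (ι₀ x)))) = _
          rw [← map_mul, ← map_mul]
          show π₀ (e.symm _) = π₀ (e.symm (mask (insert j S) (e (ι₀ x))))
          congr 2
          funext l
          show (if l ∈ ({j} : Finset (Fin n)) then e (ι₀ x) l else 1) * (if l ∈ S then e (ι₀ x) l else 1) =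
            if l ∈ insert j S then e (ι₀ x) l else 1
          by_cases hl : l = j
          · subst hl; simp [hj]
          · simp [hl]) with h' | h'
        · exact ⟨j, Finset.mem_insert_self j S, h'⟩
        · obtain ⟨k, hk, hk'⟩ := ihS h'
          exact ⟨k, Finset.mem_insert_of_mem hk, hk'⟩
    obtain ⟨j, -, hj⟩ := hsel Finset.univ (by
      have : (F Finset.univ : A 0 → A 0) = id := funext fun a => by
        show π₀ (e.symm (mask Finset.univ (e (ι₀ a)))) = a
        have h1 : mask Finset.univ (e (ι₀ a)) = e (ι₀ a) := funext fun l => if_pos (Finset.mem_univ l)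
        rw [h1, MulEquiv.symm_apply_apply, hπι]
      rw [this]; exact Function.bijective_id)
    let ρ : A 0 →* B j := (Pi.evalMonoidHom B j).comp (e.toMonoidHom.comp ι₀)
    let σj : B j →* A 0 := π₀.comp (e.symm.toMonoidHom.comp (MonoidHom.mulSingle B j))
    have hσρ : ∀ a, σj (ρ a) = F {j} a := fun a => by
      show π₀ (e.symm (Pi.mulSingle j (e (ι₀ a) j))) = π₀ (e.symm (mask {j} (e (ι₀ a))))
      congr 2
      funext l
      show _ = if l ∈ ({j} : Finset (Fin n)) then _ else 1
      by_cases hl : l = j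
      · subst hl; simp
      · simp [hl]
    have hρn : ρ.range.Normal := ⟨fun y hy g => by
      obtain ⟨a, rfl⟩ := hy
      refine ⟨(e.symm (Pi.mulSingle j g)) 0 * a * ((e.symm (Pi.mulSingle j g)) 0)⁻¹, ?_⟩
      have hc : ι₀ ((e.symm (Pi.mulSingle j g)) 0 * a * ((e.symm (Pi.mulSingle j g)) 0)⁻¹) =
          e.symm (Pi.mulSingle j g) * ι₀ a * (e.symm (Pi.mulSingle j g))⁻¹ := funext fun l => by
        show Pi.mulSingle (M := A) 0 _ l = _ * Pi.mulSingle (M := A) 0 a l * _
        by_cases hl : l = 0
        · subst hl; simp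
        · simp [hl]
      show e (ι₀ _) j = g * e (ι₀ a) j * g⁻¹
      rw [hc, map_mul, map_mul, map_inv, MulEquiv.apply_symm_apply]
      simp⟩
    have hinf : σj.ker ⊓ ρ.range = ⊥ := eq_bot_iff.mpr fun y hy => by
      obtain ⟨a, rfl⟩ := hy.2
      have h1 : σj (ρ a) = 1 := hy.1
      rw [hσρ] at h1
      rw [(injective_iff_map_eq_one (F {j})).mp hj.1 a h1, map_one]
      exact one_mem _
    have hsup : σj.ker ⊔ ρ.range = ⊤ := eq_top_iff.mpr fun y _ => by
      obtain ⟨a, ha⟩ := hj.2 (σj y)
      rw [show y = (y * (ρ a)⁻¹) * ρ a by group]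
      exact mul_mem_sup (by rw [MonoidHom.mem_ker, map_mul, map_inv, hσρ, ha, mul_inv_cancel]) ⟨a, rfl⟩
    have hσinj : Function.Injective σj := by
      rcases (hB j).2 σj.ker ρ.range inferInstance hρn hinf hsup with h | h
      · exact (MonoidHom.ker_eq_bot_iff σj).mp h
      · exfalso
        haveI := (hA 0).1
        obtain ⟨a, ha⟩ := exists_ne (1 : A 0)
        refine ha (hj.1 ?_)
        have h1 : ρ a = 1 := mem_bot.mp (h ▸ ⟨a, rfl⟩)
        rw [← hσρ, h1, map_one, map_one]
    have hσsurj : Function.Surjective σj := fun y => by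
      obtain ⟨a, ha⟩ := hj.2 y
      exact ⟨ρ a, by rw [hσρ, ha]⟩
    obtain ⟨n, rfl⟩ : ∃ n', n = n' + 1 := ⟨n - 1, by have := j.2; omega⟩
    -- the remaining factors
    let c : ((i : Fin m) → A i.succ) →* ((i : Fin (m + 1)) → A i) :=
      { toFun := fun z => Fin.cons 1 z
        map_one' := funext fun i => by
          cases i using Fin.cases with
          | zero => simp
          | succ i => simp
        map_mul' := fun z w => funext fun i => by
          cases i using Fin.cases with
          | zero => simp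
          | succ i => simp }
    let ψ : ((i : Fin m) → A i.succ) →* ((l : Fin n) → B (j.succAbove l)) :=
      { toFun := fun z l => e (c z) (j.succAbove l)
        map_one' := funext fun l => by simp
        map_mul' := fun z w => funext fun l => by simp }
    have hψi : Function.Injective ψ := (injective_iff_map_eq_one ψ).mpr fun z hz => by
      have h1 : e (c z) = Pi.mulSingle j (e (c z) j) := funext fun l => by
        rcases Fin.eq_self_or_eq_succAbove j l with rfl | ⟨l, rfl⟩
        · simp
        · rw [Pi.mulSingle_eq_of_ne (Fin.succAbove_ne j l)]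
          exact congrFun hz l
      have h2 : σj (e (c z) j) = 1 := by
        show π₀ (e.symm (Pi.mulSingle j (e (c z) j))) = 1
        rw [← h1, MulEquiv.symm_apply_apply]
        rfl
      rw [(injective_iff_map_eq_one σj).mp hσinj _ h2, Pi.mulSingle_one] at h1
      have h3 : c z = 1 := e.injective (h1.trans (map_one e).symm)
      funext i
      have := congrFun h3 i.succ
      simpa [c] using this
    have hψs : Function.Surjective ψ := fun z => by
      let y : (l : Fin (n + 1)) → B l := Fin.insertNth j 1 z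
      obtain ⟨b, hb⟩ := hσsurj (π₀ (e.symm y))⁻¹
      refine ⟨fun i => e.symm (y * Pi.mulSingle j b) i.succ, funext fun l => ?_⟩
      have h1 : c (fun i => e.symm (y * Pi.mulSingle j b) i.succ) = e.symm (y * Pi.mulSingle j b) := funext fun i => by
        cases i using Fin.cases with
        | zero =>
          show (1 : A 0) = π₀ (e.symm (y * Pi.mulSingle j b))
          rw [map_mul, map_mul]
          show (1 : A 0) = π₀ (e.symm y) * σj b
          rw [hb, mul_inv_cancel]
        | succ i => simp [c]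
      show e (c _) (j.succAbove l) = z l
      rw [h1, MulEquiv.apply_symm_apply]
      simp [y, Fin.succAbove_ne]
    obtain ⟨τ, hτ⟩ := ih n (fun i => A i.succ) (fun l => B (j.succAbove l)) (fun i => hA i.succ)
      (fun l => hB _) (MulEquiv.ofBijective ψ ⟨hψi, hψs⟩)
    refine ⟨(finSuccEquiv m).trans ((Equiv.optionCongr τ).trans (finSuccEquiv' j).symm), fun i => ?_⟩
    cases i using Fin.cases with
    | zero =>
      refine ⟨(MulEquiv.ofBijective σj ⟨hσinj, hσsurj⟩).symm.trans ?_⟩
      exact MulEquiv.cast (M := B) (by simp)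
    | succ i =>
      obtain ⟨g⟩ := hτ i
      exact ⟨g.trans (MulEquiv.cast (M := B) (by simp))⟩

/-- If a finite group is isomorphic both to a direct product of `m` directly indecomposable nontrivial groups and to a direct product of `n` such groups (a group is directly indecomposable when it is not the internal direct product of two nontrivial normal subgroups), then `m = n` and the factors are isomorphic in pairs after a suitable matching. -/
theorem result {m n : ℕ} {A : Fin m → Type*} {B : Fin n → Type*} [∀ i, Group (A i)] [∀ j, Group (B j)] [∀ i, Finite (A i)] [∀ j, Finite (B j)] (hA : ∀ i, Nontrivial (A i) ∧ ∀ H K : Subgroup (A i), H.Normal → K.Normal → H ⊓ K = ⊥ → H ⊔ K = ⊤ → H = ⊥ ∨ K = ⊥) (hB : ∀ j, Nontrivial (B j) ∧ ∀ H K : Subgroup (B j), H.Normal → K.Normal → H ⊓ K = ⊥ → H ⊔ K = ⊤ → H = ⊥ ∨ K = ⊥) (e : ((i : Fin m) → A i) ≃* ((j : Fin n) → B j)) : ∃ σ : Fin m ≃ Fin n, ∀ i, Nonempty (A i ≃* B (σ i)) := by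
  exact main m n A B hA hB e

end Cfsg.Agent.S4223
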