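import Cfsg.Statements.S4227
import Cfsg.Agent.S0144
import Cfsg.Agent.Lib.Core.Layer
import Cfsg.Agent.Lib.Core.Fitting
import Cfsg.Agent.Lib.Core.Cores
import Cfsg.Agent.Lib.Coprime.Action
import Cfsg.Agent.Lib.PGroup.Basic
import Cfsg.Agent.Lib.Local.PLengthOne

set_option autoImplicit false
open Cfsg

namespace Cfsg.Agent.S4227

open Subgroup
open scoped IsMulCommutative commutatorElement

/-- The key identity in the endomorphism ring. -/
theorem ring_key {R : Type*} [Ring R] (h3 : (3 : R) = 0) {a e f g : R} (ha : a * a * a = 1)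
    (hE : e * e = 1) (hef : e * f = g) (heg : e * g = f)
    (r1 : a * e = f * a) (r2 : a * f = g * a) (r3 : a * g = e * a)
    (n1 : 1 + a + a * a = 0) (n2 : 1 + a * e + a * e * (a * e) = 0) (hge : g * e = f) : e = 1 := by
  have hcancel : ∀ {s t : R}, s * a = t * a → s = t := fun {s t} h => by
    calc s = s * (a * a * a) := by rw [ha, mul_one]
      _ = (s * a) * (a * a) := by noncomm_ring
      _ = (t * a) * (a * a) := by rw [h]
      _ = t * (a * a * a) := by noncomm_ring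
      _ = t := by rw [ha, mul_one]
  have hb : a * e * (a * e) = -(f + a * f) := by
    have h1 : a * e * (a * e) = a * (e * a) * e := by noncomm_ring
    have h2 : a * a = -(1 + a) := eq_neg_of_add_eq_zero_right n1
    rw [h1, ← r3, show a * (a * g) * e = (a * a) * (g * e) by noncomm_ring, hge, h2]
    noncomm_ring
  rw [hb] at n2
  have q1 : 1 - f = a * (f - e) := by
    rw [mul_sub]
    linear_combination (norm := noncomm_ring) n2
  have q2 : 1 - g = a * (g - f) := by
    refine hcancel ?_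
    calc (1 - g) * a = a * (1 - f) := by rw [sub_mul, one_mul, mul_sub, mul_one, r2]
      _ = a * (a * (f - e)) := by rw [← q1]
      _ = a * ((g - f) * a) := by rw [mul_sub a f e, sub_mul g f a, r1, r2]
      _ = a * (g - f) * a := by noncomm_ring
  have q3 : 1 - e = a * (e - g) := by
    refine hcancel ?_
    calc (1 - e) * a = a * (1 - g) := by rw [sub_mul, one_mul, mul_sub, mul_one, r3]
      _ = a * (a * (g - f)) := by rw [← q2]
      _ = a * ((e - g) * a) := by rw [mul_sub a g f, sub_mul e g a, r2, r3]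
      _ = a * (e - g) * a := by noncomm_ring
  have hsum : e + f + g = 0 := by
    have h3' : (1 : R) + 1 + 1 = 0 := by rw [← h3]; norm_num
    linear_combination (norm := noncomm_ring) h3' - q1 - q2 - q3
  have h4 : 1 + g + f = 0 := by
    calc 1 + g + f = e * e + e * f + e * g := by rw [hE, hef, heg]
      _ = e * (e + f + g) := by noncomm_ring
      _ = 0 := by rw [hsum, mul_zero]
  linear_combination (norm := noncomm_ring) hsum - h4

theorem exp_six_primes {X : Type*} [Group X] [Finite X] (h6 : ∀ x : X, x ^ 6 = 1) {q : ℕ}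
    (hq : q.Prime) (hd : q ∣ Nat.card X) : q = 2 ∨ q = 3 := by
  haveI := Fact.mk hq
  obtain ⟨x, hx⟩ := exists_prime_orderOf_dvd_card' q hd
  have : q ∣ 6 := hx ▸ orderOf_dvd_of_pow_eq_one (h6 x)
  have h := Nat.le_of_dvd (by norm_num) this
  interval_cases q <;> simp_all (config := {decide := true})

theorem exp_six_solvable {X : Type*} [Group X] [Finite X] (h6 : ∀ x : X, x ^ 6 = 1) : Group.IsSolvable X := by
  refine Cfsg.Agent.S0144.result 2 3 ((Nat.card X).factorization 2) ((Nat.card X).factorization 3)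
    Nat.prime_two Nat.prime_three ?_
  conv_lhs => rw [← Nat.factorization_prod_pow_eq_self (Nat.card_pos (α := X)).ne']
  rw [Nat.prod_factorization_eq_prod_primeFactors]
  have hsub : (Nat.card X).primeFactors ⊆ {2, 3} := fun s hs => by
    simpa using exp_six_primes h6 (Nat.mem_primeFactors.1 hs).1 (Nat.mem_primeFactors.1 hs).2.1
  rw [Finset.prod_subset hsub (fun x _ hx => by
    rw [Finsupp.notMem_support_iff.1 (by rwa [Nat.support_factorization]), pow_zero])]
  rw [Finset.prod_pair (by norm_num)]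

/-- A p-element has order dividing p in exponent six. -/
theorem pow_three_of_pgroup {X : Type*} [Group X] (h6 : ∀ x : X, x ^ 6 = 1) {x : X} {k : ℕ}
    (hk : x ^ 3 ^ k = 1) : x ^ 3 = 1 := by
  have h : orderOf x ∣ Nat.gcd 6 (3 ^ k) :=
    Nat.dvd_gcd (orderOf_dvd_of_pow_eq_one (h6 x)) (orderOf_dvd_of_pow_eq_one hk)
  refine orderOf_dvd_iff_pow_eq_one.1 (h.trans ?_)
  have h1 : Nat.gcd 6 (3 ^ k) ∣ 2 * 3 := Nat.gcd_dvd_left 6 _
  have h2 : (Nat.gcd 6 (3 ^ k)).Coprime 2 :=
    Nat.Coprime.coprime_dvd_left (Nat.gcd_dvd_right _ _) (Nat.Coprime.pow_left k (by norm_num))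
  exact h2.dvd_of_dvd_mul_left h1

theorem pow_two_of_pgroup {X : Type*} [Group X] (h6 : ∀ x : X, x ^ 6 = 1) {x : X} {k : ℕ}
    (hk : x ^ 2 ^ k = 1) : x ^ 2 = 1 := by
  have h : orderOf x ∣ Nat.gcd 6 (2 ^ k) :=
    Nat.dvd_gcd (orderOf_dvd_of_pow_eq_one (h6 x)) (orderOf_dvd_of_pow_eq_one hk)
  refine orderOf_dvd_iff_pow_eq_one.1 (h.trans ?_)
  have h1 : Nat.gcd 6 (2 ^ k) ∣ 3 * 2 := Nat.gcd_dvd_left 6 _
  have h2 : (Nat.gcd 6 (2 ^ k)).Coprime 3 :=
    Nat.Coprime.coprime_dvd_left (Nat.gcd_dvd_right _ _) (Nat.Coprime.pow_left k (by norm_num))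
  exact h2.dvd_of_dvd_mul_left h1

/-- In exponent six with trivial p'-core, the centralizer of the p-core lies in it. -/
theorem centralizer_pCore {X : Type*} [Group X] [Finite X] (h6 : ∀ x : X, x ^ 6 = 1) {p : ℕ}
    (hp : p.Prime) (hO : Cfsg.pPrimeCore p X = ⊥) :
    centralizer (Cfsg.pCore p X : Set X) ≤ Cfsg.pCore p X := by
  haveI := exp_six_solvable h6
  have hF : Cfsg.fittingSubgroup X = Cfsg.pCore p X := by
    refine le_antisymm ?_ ?_ <;> rw [Cfsg.Lib.Core.fittingSubgroup_eq_iSup_pCore]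
    · refine iSup_le fun q => ?_
      by_cases hqp : (q : ℕ) = p
      · rw [hqp]
      · haveI := Fact.mk q.2
        obtain ⟨k, hk⟩ := IsPGroup.iff_card.1 (Cfsg.Lib.Core.pCore_isPGroup (q : ℕ) X)
        have : Cfsg.pCore (q : ℕ) X ≤ Cfsg.pPrimeCore p X := Cfsg.Lib.Core.le_pPrimeCore
          (by rw [hk]; exact ((Nat.coprime_primes q.2 hp).2 hqp).pow_left k)
        rw [hO] at this
        exact this.trans bot_le
    · exact le_iSup (fun q : Nat.Primes => Cfsg.pCore (q : ℕ) X) ⟨p, hp⟩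
  simpa [hF] using Cfsg.Lib.Core.centralizer_fitting_le_of_isSolvable (G := X)

theorem sylow_le_two {X : Type*} [Group X] [Finite X] (h6 : ∀ x : X, x ^ 6 = 1)
    (hO : Cfsg.pPrimeCore 2 X = ⊥) (x : X) {k : ℕ} (hx : x ^ 2 ^ k = 1) : x ∈ Cfsg.pCore 2 X := by
  haveI : Fact (Nat.Prime 2) := ⟨Nat.prime_two⟩
  refine centralizer_pCore h6 Nat.prime_two hO (mem_centralizer_iff.2 fun y hy => ?_)
  have hp := Cfsg.Lib.Core.pCore_isPGroup 2 X
  have hz : IsPGroup 2 (zpowers x) := fun z => ⟨k, by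
    obtain ⟨z, hz⟩ := z
    obtain ⟨i, rfl⟩ := mem_zpowers_iff.1 hz
    refine Subtype.ext ?_
    show (x ^ i) ^ 2 ^ k = 1
    rw [← zpow_natCast, zpow_comm, zpow_natCast, hx, one_zpow]⟩
  have hJ := hp.to_sup_of_normal_left hz
  have hsq : ∀ z ∈ Cfsg.pCore 2 X ⊔ zpowers x, z * z = 1 := fun z hz' => by
    obtain ⟨i, hi⟩ := hJ ⟨z, hz'⟩
    have := pow_two_of_pgroup h6 (congrArg Subtype.val hi)
    rwa [sq] at this
  have hinv : ∀ z ∈ Cfsg.pCore 2 X ⊔ zpowers x, z⁻¹ = z := fun z hz' => inv_eq_of_mul_eq_one_left (hsq z hz')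
  have hxJ : x ∈ Cfsg.pCore 2 X ⊔ zpowers x := mem_sup_right (mem_zpowers x)
  have hyJ : y ∈ Cfsg.pCore 2 X ⊔ zpowers x := mem_sup_left hy
  calc y * x = (y * x)⁻¹ := (hinv _ (mul_mem hyJ hxJ)).symm
    _ = x * y := by rw [mul_inv_rev, hinv x hxJ, hinv y hyJ]

theorem sylow_le_three {X : Type*} [Group X] [Finite X] (h6 : ∀ x : X, x ^ 6 = 1)
    (hO : Cfsg.pPrimeCore 3 X = ⊥) (x : X) {k : ℕ} (hx : x ^ 3 ^ k = 1) : x ∈ Cfsg.pCore 3 X := by
  classical
  haveI : Fact (Nat.Prime 3) := ⟨Nat.prime_three⟩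
  set W := Cfsg.pCore 3 X with hW
  have hWp : IsPGroup 3 W := Cfsg.Lib.Core.pCore_isPGroup 3 X
  have hCW := centralizer_pCore h6 Nat.prime_three hO
  haveI : W.Normal := inferInstance
  set Φ := (frattini W).map W.subtype with hΦ
  haveI hΦn : Φ.Normal := Cfsg.Lib.Core.normal_map_char_of_normal (frattini W)
  set π := QuotientGroup.mk' Φ with hπ
  set V := W.map π with hV
  haveI hVn : V.Normal := Normal.map inferInstance π (QuotientGroup.mk'_surjective Φ)
  have hVcomm : IsMulCommutative V := ⟨⟨by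
    rintro ⟨_, a, ha, rfl⟩ ⟨_, b, hb, rfl⟩
    refine Subtype.ext ?_
    show π a * π b = π b * π a
    rw [← map_mul, ← map_mul, hπ, QuotientGroup.mk'_apply, QuotientGroup.mk'_apply, QuotientGroup.eq, hΦ]
    refine ⟨(⟨a, ha⟩ * ⟨b, hb⟩)⁻¹ * (⟨b, hb⟩ * ⟨a, ha⟩), Cfsg.Lib.PGroup.commutator_le_frattini hWp ?_, rfl⟩
    have : ((⟨a, ha⟩ : W) * ⟨b, hb⟩)⁻¹ * (⟨b, hb⟩ * ⟨a, ha⟩) = ⁅(⟨b, hb⟩ : W)⁻¹, (⟨a, ha⟩ : W)⁻¹⁆ := by
      rw [commutatorElement_def]; group
    rw [this]
    exact commutator_mem_commutator (mem_top _) (mem_top _)⟩⟩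
  haveI := hVcomm
  let ρ : X →* AddMonoid.End (Additive V) :=
    { toFun := fun y => MonoidHom.toAdditive ((MulAut.conjNormal (π y) : MulAut V).toMonoidHom)
      map_one' := by rw [map_one, map_one]; rfl
      map_mul' := fun y z => by rw [map_mul, map_mul]; rfl }
  have hρ : ∀ (y : X) (v : V), ((ρ y (Additive.ofMul v)).toMul : X ⧸ Φ) = π y * (v : X ⧸ Φ) * (π y)⁻¹ :=
    fun y v => MulAut.conjNormal_apply _ _
  have hρW : ∀ w ∈ W, ρ w = 1 := by
    intro w hw
    refine AddMonoidHom.ext fun v => ?_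
    refine Additive.toMul.injective (Subtype.ext ?_)
    show (π w) * ((v.toMul : V) : X ⧸ Φ) * (π w)⁻¹ = _
    have := congrArg Subtype.val (IsMulCommutative.is_comm.comm (⟨π w, mem_map_of_mem π hw⟩ : V) v.toMul)
    simp only [Subgroup.coe_mul] at this
    rw [this]
    simp
    rfl
  have hV3 : ∀ v : Additive V, v + v + v = 0 := by
    intro v
    refine Additive.toMul.injective (Subtype.ext ?_)
    obtain ⟨w, hw, hwv⟩ := (v.toMul).2
    obtain ⟨i, hi⟩ := hWp ⟨w, hw⟩
    have h3 : w ^ 3 = 1 := pow_three_of_pgroup h6 (congrArg Subtype.val hi)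
    show ((v.toMul : V) : X ⧸ Φ) * (v.toMul : V) * (v.toMul : V) = 1
    rw [← hwv, ← map_mul, ← map_mul, ← map_one π, ← h3]
    congr 1
    simp [pow_succ]
  have h30 : (3 : AddMonoid.End (Additive V)) = 0 := by
    refine AddMonoidHom.ext fun v => ?_
    have : (3 : AddMonoid.End (Additive V)) = 1 + 1 + 1 := by norm_num
    rw [this]
    exact hV3 v
  -- the norm of a 3-element vanishes
  have hnorm : ∀ b : X, (∃ j, b ^ 3 ^ j = 1) → 1 + ρ b + ρ b * ρ b = 0 := by
    rintro b ⟨j, hj⟩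
    refine AddMonoidHom.ext fun v => ?_
    refine Additive.toMul.injective (Subtype.ext ?_)
    obtain ⟨w, hw, hwv⟩ := (v.toMul).2
    show ((v.toMul : V) : X ⧸ Φ) * ((ρ b v).toMul : V) * ((ρ b (ρ b v)).toMul : V) = 1
    have e1 : (((ρ b v).toMul : V) : X ⧸ Φ) = π (b * w * b⁻¹) := by
      rw [map_mul, map_mul, map_inv, hwv]
      exact hρ b v.toMul
    have e2 : (((ρ b (ρ b v)).toMul : V) : X ⧸ Φ) = π (b * (b * w * b⁻¹) * b⁻¹) := by
      refine (hρ b (ρ b v).toMul).trans ?_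
      rw [e1, ← map_inv, ← map_mul, ← map_mul]
    rw [e1, e2, ← hwv, ← map_mul, ← map_mul]
    have hb3 := pow_three_of_pgroup h6 hj
    have hbz : IsPGroup 3 (zpowers b) := fun z => ⟨j, by
      obtain ⟨z, hz⟩ := z
      obtain ⟨i, rfl⟩ := mem_zpowers_iff.1 hz
      refine Subtype.ext ?_
      show (b ^ i) ^ 3 ^ j = 1
      rw [← zpow_natCast, zpow_comm, zpow_natCast, hj, one_zpow]⟩
    obtain ⟨i, hi⟩ := (hWp.to_sup_of_normal_left hbz) ⟨w * b, mul_mem (mem_sup_left hw) (mem_sup_right (mem_zpowers b))⟩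
    have hwb : (w * b) ^ 3 = 1 := pow_three_of_pgroup h6 (congrArg Subtype.val hi)
    have : w * (b * w * b⁻¹) * (b * (b * w * b⁻¹) * b⁻¹) = 1 := by
      have hb' : (b ^ 3)⁻¹ = 1 := by rw [hb3, inv_one]
      calc w * (b * w * b⁻¹) * (b * (b * w * b⁻¹) * b⁻¹) = (w * b) ^ 3 * (b ^ 3)⁻¹ := by
            simp only [pow_succ, pow_zero, one_mul]; group
        _ = 1 := by rw [hwb, hb', one_mul]
    rw [this, map_one]
  -- the kernel of the action is W
  have hker : ∀ y : X, ρ y = 1 → y ∈ W := by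
    let σ : X →* (AddMonoid.End (Additive V))ˣ := ρ.toHomUnits
    have hσ : ∀ y, y ∈ σ.ker ↔ ρ y = 1 := fun y => by
      rw [MonoidHom.mem_ker, ← Units.val_eq_one]
      rfl
    intro y hy
    have hkp : IsPGroup 3 σ.ker := by
      intro z
      obtain ⟨z, hz⟩ := z
      refine ⟨1, Subtype.ext ?_⟩
      show z ^ 3 ^ 1 = 1
      set t := z ^ 3 with ht
      have ht2 : t ^ 2 = 1 := by rw [ht, ← pow_mul]; exact h6 z
      have hρt : ρ t = 1 := (hσ t).1 (pow_mem hz 3)
      have htW : t ∈ W := by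
        refine hCW ?_
        have hA : zpowers t ≤ centralizer (W : Set X) := by
          refine Cfsg.Lib.Coprime.le_centralizer_of_commutator_le_frattini
            (le_top.trans_eq (normalizer_eq_top_iff.2 inferInstance).symm) ?_ (Or.inl inferInstance) ?_
          · rw [Nat.card_zpowers]
            obtain ⟨i, hi⟩ := IsPGroup.iff_card.1 hWp
            rw [hi]
            exact Nat.Coprime.coprime_dvd_left (orderOf_dvd_of_pow_eq_one ht2) (Nat.Coprime.pow_right i (by norm_num))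
          · refine commutator_le.2 fun w hw u hu => ?_
            obtain ⟨i, rfl⟩ := mem_zpowers_iff.1 hu
            have hρu : ρ (t ^ i) = 1 := (hσ _).1 (zpow_mem ((hσ t).2 hρt) i)
            have h1 := hρ (t ^ i) ⟨π w, mem_map_of_mem π hw⟩
            rw [hρu] at h1
            have h2 : π ⁅w, t ^ i⁆ = 1 := by
              rw [map_commutatorElement, commutatorElement_eq_one_iff_commute]
              refine (Commute.symm ?_)
              show π (t ^ i) * π w = π w * π (t ^ i)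
              exact mul_inv_eq_iff_eq_mul.1 h1.symm
            exact (QuotientGroup.eq_one_iff _).1 h2
        exact hA (mem_zpowers t)
      obtain ⟨i, hi⟩ := hWp ⟨t, htW⟩
      have ht3 : t ^ 3 = 1 := pow_three_of_pgroup h6 (congrArg Subtype.val hi)
      rw [pow_one, ← ht]
      calc t = t ^ 3 * (t ^ 2)⁻¹ := by group
        _ = 1 := by rw [ht2, ht3]; simp
    exact Cfsg.Lib.Core.le_pCore hkp ((hσ y).2 hy)
  -- the 2-core of X/W is self-centralizing
  set q := QuotientGroup.mk' W with hq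
  haveI : Finite (X ⧸ W) := inferInstance
  have h6' : ∀ z : X ⧸ W, z ^ 6 = 1 := fun z => by
    obtain ⟨z, rfl⟩ := QuotientGroup.mk'_surjective W z
    rw [← map_pow, h6, map_one]
  have hO2 : Cfsg.pPrimeCore 2 (X ⧸ W) = ⊥ := by
    have h3 : IsPGroup 3 (Cfsg.pPrimeCore 2 (X ⧸ W)) := by
      refine IsPGroup.iff_orderOf.2 fun z => ?_
      have hc : (orderOf (z : X ⧸ W)).Coprime 2 := Nat.Coprime.coprime_dvd_left
        (Subgroup.orderOf_dvd_natCard _ z.2) (Cfsg.Lib.Core.pPrimeCore_coprime 2 _)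
      have hd : orderOf (z : X ⧸ W) ∣ 2 * 3 := orderOf_dvd_of_pow_eq_one (h6' _)
      rcases (Nat.dvd_prime Nat.prime_three).1 (hc.dvd_of_dvd_mul_left hd) with h | h
      · exact ⟨0, by rw [← orderOf_coe, h, pow_zero]⟩
      · exact ⟨1, by rw [← orderOf_coe, h, pow_one]⟩
    have := Cfsg.Lib.Core.le_pCore h3
    rw [Cfsg.Lib.Core.pCore_quotient_pCore_eq_bot] at this
    exact le_bot_iff.1 this
  have hxW : q x ∈ centralizer (Cfsg.pCore 2 (X ⧸ W) : Set (X ⧸ W)) := by
    rw [mem_centralizer_iff]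
    intro E hE
    obtain ⟨e0, rfl⟩ := QuotientGroup.mk'_surjective W E
    have hEsq : ∀ z ∈ Cfsg.pCore 2 (X ⧸ W), z * z = 1 := fun z hz => by
      obtain ⟨i, hi⟩ := Cfsg.Lib.Core.pCore_isPGroup 2 (X ⧸ W) ⟨z, hz⟩
      have := pow_two_of_pgroup h6' (congrArg Subtype.val hi)
      rwa [sq] at this
    have hEc : ∀ a b : X, q a ∈ Cfsg.pCore 2 (X ⧸ W) → q b ∈ Cfsg.pCore 2 (X ⧸ W) → q a * q b = q b * q a := by
      intro a b ha hb
      calc q a * q b = (q a * q b)⁻¹ := (inv_eq_of_mul_eq_one_left (hEsq _ (mul_mem ha hb))).symm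
        _ = q b * q a := by
          rw [mul_inv_rev, inv_eq_of_mul_eq_one_left (hEsq _ ha), inv_eq_of_mul_eq_one_left (hEsq _ hb)]
    set f0 := x * e0 * x⁻¹ with hf0
    set g0 := x * f0 * x⁻¹ with hg0
    have hx3 : x ^ 3 = 1 := pow_three_of_pgroup h6 hx
    have hxg : x * g0 * x⁻¹ = e0 := by
      have : x * g0 * x⁻¹ = x ^ 3 * e0 * (x ^ 3)⁻¹ := by
        rw [hg0, hf0]; simp only [pow_succ, pow_zero, one_mul]; group
      rw [this, hx3]; simp
    have hn : (Cfsg.pCore 2 (X ⧸ W)).Normal := inferInstance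
    have hf : q f0 ∈ Cfsg.pCore 2 (X ⧸ W) := by
      rw [hf0, map_mul, map_mul, map_inv]; exact hn.conj_mem _ hE _
    have hg : q g0 ∈ Cfsg.pCore 2 (X ⧸ W) := by
      rw [hg0, map_mul, map_mul, map_inv]; exact hn.conj_mem _ hf _
    set e := e0 * f0
    set f := f0 * g0
    set g := g0 * e0
    have hrho : ∀ a b : X, q a = q b → ρ a = ρ b := by
      intro a b hab
      have : a⁻¹ * b ∈ W := QuotientGroup.eq.1 hab
      calc ρ a = ρ a * ρ (a⁻¹ * b) := by rw [hρW _ this, mul_one]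
        _ = ρ b := by rw [← map_mul, mul_inv_cancel_left]
    have he : q e ∈ Cfsg.pCore 2 (X ⧸ W) := by rw [map_mul]; exact mul_mem hE hf
    have hef : q (e * f) = q g := by
      simp only [e, f, g, map_mul]
      calc q e0 * q f0 * (q f0 * q g0) = q e0 * (q f0 * q f0) * q g0 := by group
        _ = _ := by rw [hEsq _ hf, mul_one, hEc e0 g0 hE hg]
    have heg : q (e * g) = q f := by
      simp only [e, f, g, map_mul]
      calc q e0 * q f0 * (q g0 * q e0) = (q e0 * q f0) * (q e0 * q g0) := by rw [hEc e0 g0 hE hg]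
        _ = (q f0 * q e0) * (q e0 * q g0) := by rw [hEc e0 f0 hE hf]
        _ = q f0 * (q e0 * q e0) * q g0 := by group
        _ = _ := by rw [hEsq _ hE, mul_one]
    have hge : q (g * e) = q f := by
      simp only [e, f, g, map_mul]
      calc q g0 * q e0 * (q e0 * q f0) = q g0 * (q e0 * q e0) * q f0 := by group
        _ = _ := by rw [hEsq _ hE, mul_one, hEc g0 f0 hg hf]
    have hxe : ∃ j, (x * e) ^ 3 ^ j = 1 := by
      have hmem : (x * e) ^ 3 ∈ W := by
        refine (QuotientGroup.eq_one_iff _).1 ?_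
        show q ((x * e) ^ 3) = 1
        have h1 : (x * e) ^ 3 = (x * e * x⁻¹) * (x * (x * e * x⁻¹) * x⁻¹) * (x ^ 3 * e) := by
          simp only [pow_succ, pow_zero, one_mul]; group
        have h2 : x * e * x⁻¹ = f := by simp only [e, f, hf0, hg0]; group
        have h3 : x * f * x⁻¹ = g := by
          calc x * f * x⁻¹ = g0 * (x * g0 * x⁻¹) := by simp only [f, hg0]; group
            _ = g := by rw [hxg]
        rw [h1, h2, h3, hx3, one_mul, map_mul, map_mul, mul_assoc, ← map_mul q g, hge, hEsq]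
        rw [map_mul]
        exact mul_mem hf hg
      obtain ⟨i, hi⟩ := hWp ⟨_, hmem⟩
      exact ⟨i + 1, by rw [pow_succ', pow_mul]; exact congrArg Subtype.val hi⟩
    have r1 : ρ x * ρ e = ρ f * ρ x := by
      rw [← map_mul, ← map_mul]; congr 1; simp only [e, f, hf0, hg0]; group
    have r2 : ρ x * ρ f = ρ g * ρ x := by
      rw [← map_mul, ← map_mul]; congr 1
      calc x * f = g0 * (x * g0 * x⁻¹) * x := by simp only [f, hg0]; group
        _ = g * x := by rw [hxg]
    have r3 : ρ x * ρ g = ρ e * ρ x := by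
      rw [← map_mul, ← map_mul]; congr 1
      calc x * g = (x * g0 * x⁻¹) * f0 * x := by simp only [g, hf0]; group
        _ = e * x := by rw [hxg]
    have h1 : ρ e = 1 := ring_key h30 (a := ρ x) (e := ρ e) (f := ρ f) (g := ρ g)
      (by rw [← map_mul, ← map_mul, ← map_one ρ]; congr 1; rw [← hx3]; simp [pow_succ])
      (by rw [← map_mul, ← map_one ρ]; exact hrho _ _ (by rw [map_mul, hEsq _ he, map_one]))
      (by rw [← map_mul]; exact hrho _ _ hef) (by rw [← map_mul]; exact hrho _ _ heg)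
      r1 r2 r3 (hnorm x ⟨k, hx⟩) (by rw [← map_mul]; exact hnorm _ hxe) (by rw [← map_mul]; exact hrho _ _ hge)
    have h2 : q e0 * q f0 = 1 := by
      rw [← map_mul]
      exact (QuotientGroup.eq_one_iff _).2 (hker e h1)
    have h3 : q f0 = q e0 := by
      calc q f0 = q e0 * q e0 * q f0 := by rw [hEsq _ hE, one_mul]
        _ = q e0 := by rw [mul_assoc, h2, mul_one]
    rw [hf0, map_mul, map_mul, map_inv, mul_inv_eq_iff_eq_mul] at h3
    exact h3.symm
  have h1 : q x ∈ Cfsg.pCore 2 (X ⧸ W) := centralizer_pCore h6' Nat.prime_two hO2 hxW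
  obtain ⟨i, hi⟩ := Cfsg.Lib.Core.pCore_isPGroup 2 (X ⧸ W) ⟨_, h1⟩
  have h2 := pow_two_of_pgroup h6' (congrArg Subtype.val hi)
  have h3 : (q x) ^ 3 = 1 := by rw [← map_pow, pow_three_of_pgroup h6 hx, map_one]
  refine (QuotientGroup.eq_one_iff x).1 ?_
  show q x = 1
  calc q x = (q x) ^ 3 * ((q x) ^ 2)⁻¹ := by group
    _ = 1 := by rw [h2, h3]; simp

theorem pLengthLE_one_of {G : Type*} [Group G] [Finite G] {p : ℕ} [Fact p.Prime]
    (h : ∀ (N : Subgroup G) [N.Normal], N = Cfsg.pPrimeCore p G →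
      ∀ (x : G ⧸ N) (k : ℕ), x ^ p ^ k = 1 → x ∈ Cfsg.pCore p (G ⧸ N)) : Cfsg.PLengthLE p 1 G := by
  show (upperPSeries p G 3).1 = ⊤
  set N₁ := (upperPSeries p G 1).1
  set N₂ := (upperPSeries p G 2).1
  have h2 : N₂ = (pCore p (G ⧸ N₁)).comap (QuotientGroup.mk' N₁) := rfl
  have h3 : (upperPSeries p G 3).1 = (pPrimeCore p (G ⧸ N₂)).comap (QuotientGroup.mk' N₂) := rfl
  rw [h3, Cfsg.Lib.Core.pPrimeCore_eq_top, comap_top]
  refine ((Fact.out : p.Prime).coprime_iff_not_dvd.2 fun hd => ?_).symm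
  obtain ⟨z, hz⟩ := exists_prime_orderOf_dvd_card' p hd
  obtain ⟨g, rfl⟩ := QuotientGroup.mk'_surjective N₂ z
  obtain ⟨c, k, hc, hg⟩ : ∃ c k : ℕ, c.Coprime p ∧ orderOf g = p ^ k * c := by
    obtain ⟨k, c, hc, he⟩ := Nat.exists_eq_pow_mul_and_not_dvd (orderOf_pos g).ne' p (Fact.out : p.Prime).ne_one
    exact ⟨c, k, ((Fact.out : p.Prime).coprime_iff_not_dvd.2 hc).symm, he⟩
  have h1 : g ^ c ∈ N₂ := by
    rw [h2, mem_comap]
    refine h N₁ Cfsg.Lib.Local.upperPSeries_one _ k ?_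
    rw [← map_pow, ← pow_mul, mul_comm c, ← hg, pow_orderOf_eq_one, map_one]
  have h4 : (QuotientGroup.mk' N₂ g) ^ c = 1 := by
    rw [← map_pow]
    exact (QuotientGroup.eq_one_iff _).2 h1
  have := orderOf_dvd_of_pow_eq_one h4
  rw [hz] at this
  exact (Fact.out : p.Prime).ne_one (Nat.eq_one_of_dvd_coprimes hc this dvd_rfl)


/-- A finite group in which every element has order dividing `6` has `2`-length at most `1` and `3`-length at most `1`. -/
theorem result {G : Type*} [Group G] [Finite G] (h : ∀ x : G, x ^ 6 = 1) : Cfsg.PLengthLE 2 1 G ∧ Cfsg.PLengthLE 3 1 G := by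
  haveI : Fact (Nat.Prime 2) := ⟨Nat.prime_two⟩
  haveI : Fact (Nat.Prime 3) := ⟨Nat.prime_three⟩
  have h6 : ∀ (N : Subgroup G) [N.Normal] (z : G ⧸ N), z ^ 6 = 1 := fun N _ z => by
    obtain ⟨z, rfl⟩ := QuotientGroup.mk'_surjective N z
    rw [← map_pow, h, map_one]
  constructor
  · refine pLengthLE_one_of fun N _ hN x k hx => ?_
    subst hN
    exact sylow_le_two (h6 _) Cfsg.Lib.Core.pPrimeCore_quotient_eq_bot x hx
  · refine pLengthLE_one_of fun N _ hN x k hx => ?_
    subst hN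
    exact sylow_le_three (h6 _) Cfsg.Lib.Core.pPrimeCore_quotient_eq_bot x hx

end Cfsg.Agent.S4227
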