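import Cfsg.Statements.S4234
import Cfsg.Agent.Lib.Fusion.Order1092
import Cfsg.Agent.Lib.Linear.SLBasic
import Cfsg.Agent.Lib.Linear.PSLSmall

set_option linter.style.haveILetI false

set_option autoImplicit false
open Cfsg

namespace Cfsg.Agent.S4234


open Subgroup

theorem zero_ne_four : (0 : ZMod 13) ≠ 4 := by decide

/-- A cover of a simple group of order 1092 with at most one involution in the kernel. -/
theorem coatom_of_cover {K Q : Type*} [Group K] [Finite K] [Group Q] [Finite Q] [IsSimpleGroup Q]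
    (hQ : Nat.card Q = 1092) (π : K →* Q) (hπ : Function.Surjective π)
    (hker : Nat.card π.ker = 1 ∨ (Nat.card π.ker = 2 ∧ ∀ x : K, x ^ 2 = 1 → x ∈ π.ker))
    (H : Subgroup K) (hH : ¬ H.Normal) : IsCoatom (normalizer (H : Set K)) := by
  classical
  have hkc : ∀ z ∈ π.ker, ∀ g : K, g * z = z * g := by
    intro z hz g
    have hmem := (MonoidHom.normal_ker π).conj_mem z hz g
    suffices g * z * g⁻¹ = z from mul_inv_eq_iff_eq_mul.mp this
    by_contra hne
    have hz1 : z ≠ 1 := fun h => hne (by rw [h]; group)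
    let f : Option Bool → π.ker := fun o => o.elim 1 fun b => if b then ⟨z, hz⟩ else ⟨_, hmem⟩
    have hf : Function.Injective f := by
      rintro (_ | _ | _) (_ | _ | _) he <;> simp only [f, Option.elim, Subtype.ext_iff] at he <;>
        first
          | rfl
          | (exfalso; simp at he; first
              | exact hne he
              | exact hne he.symm
              | exact hz1 he
              | exact hz1 he.symm
              | exact hz1 (conj_eq_one_iff.mp he)
              | exact hz1 (conj_eq_one_iff.mp he.symm))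
    have := Nat.card_le_card_of_injective f hf
    rw [Finite.card_option, Nat.card_eq_fintype_card, Fintype.card_bool] at this
    rcases hker with h | ⟨h, -⟩ <;> omega
  have hkH : π.ker ≤ H ∨ (¬ 2 ∣ Nat.card H ∧ ∀ z ∈ π.ker, z ^ 2 = 1) := by
    by_cases h : π.ker ≤ H
    · exact Or.inl h
    rcases hker with h1 | ⟨h2, huniq⟩
    · exact absurd (eq_bot_of_card_eq _ h1 ▸ bot_le) h
    refine Or.inr ⟨fun hd => h ?_, fun z hz => ?_⟩
    · haveI : Fact (Nat.Prime 2) := ⟨Nat.prime_two⟩
      obtain ⟨s, hs⟩ := exists_prime_orderOf_dvd_card' (G := H) 2 hd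
      have hs' : orderOf (s : K) = 2 := by rw [Subgroup.orderOf_coe, hs]
      have hmem : (s : K) ∈ π.ker := huniq _ (hs' ▸ pow_orderOf_eq_one (s : K))
      have heq : zpowers (s : K) = π.ker :=
        eq_of_le_of_card_ge (zpowers_le.mpr hmem) (by rw [Nat.card_zpowers, hs', h2])
      exact heq ▸ zpowers_le.mpr s.2
    · rw [← h2]
      exact congrArg Subtype.val (pow_card_eq_one' (x := (⟨z, hz⟩ : π.ker)))
  have hN : normalizer (H : Set K) = (normalizer ((H.map π : Subgroup Q) : Set Q)).comap π := by
    refine le_antisymm (map_le_iff_le_comap.mp (le_normalizer_map π)) fun g hg => ?_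
    refine mem_normalizer_iff_map_conj_eq.mpr
      (eq_of_le_of_card_ge ?_ (card_map_of_injective (MulAut.conj g).injective).ge)
    rintro _ ⟨h, hh, rfl⟩
    show g * h * g⁻¹ ∈ H
    have h1 : π (g * h * g⁻¹) ∈ H.map π := by
      rw [map_mul, map_mul, map_inv]
      exact (mem_normalizer_iff.mp (mem_comap.mp hg) _).mp (mem_map_of_mem π hh)
    obtain ⟨h', hh', he⟩ := mem_map.mp h1
    set z := h'⁻¹ * (g * h * g⁻¹) with hz
    have hzk : z ∈ π.ker := by rw [MonoidHom.mem_ker, hz, map_mul, map_inv, he, inv_mul_cancel]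
    have heq : g * h * g⁻¹ = h' * z := by rw [hz]; group
    rcases hkH with hle | ⟨hodd, hsq⟩
    · rw [heq]; exact H.mul_mem hh' (hle hzk)
    have hpow : ∀ u ∈ H, u ^ Nat.card H = 1 := fun u hu =>
      congrArg Subtype.val (pow_card_eq_one' (x := (⟨u, hu⟩ : H)))
    have h2 : (h' * z) ^ Nat.card H = 1 := by
      rw [← heq, conj_pow, hpow h hh, mul_one, mul_inv_cancel]
    rw [(show Commute h' z from hkc z hzk h').mul_pow, hpow h' hh', one_mul] at h2
    have hz1 : z = 1 := orderOf_eq_one_iff.mp (Nat.eq_one_of_dvd_coprimes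
      ((Nat.Prime.coprime_iff_not_dvd Nat.prime_two).mpr hodd)
      (orderOf_dvd_of_pow_eq_one (hsq z hzk)) (orderOf_dvd_of_pow_eq_one h2))
    rw [heq, hz1, mul_one]; exact hh'
  have hntop : normalizer ((H.map π : Subgroup Q) : Set Q) ≠ ⊤ := fun h =>
    hH (normalizer_eq_top_iff.mp (by rw [hN, h, comap_top]))
  rw [hN]
  refine isCoatom_comap_of_surjective hπ (Cfsg.Lib.Fusion.Order1092.isCoatom_normalizer hQ ?_ ?_)
  · intro h; exact hntop (normalizer_eq_top_iff.mpr (h ▸ inferInstance))
  · intro h; exact hntop (normalizer_eq_top_iff.mpr (h ▸ inferInstance))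

theorem cover_exists {K : Type*} [Group K] [Finite K]
    (hK : Nonempty (K ≃* Matrix.ProjectiveSpecialLinearGroup (Fin 2) (ZMod 13)) ∨
      Nonempty (K ≃* Matrix.SpecialLinearGroup (Fin 2) (ZMod 13)))
    (H : Subgroup K) (hH : ¬ H.Normal) : IsCoatom (normalizer (H : Set K)) := by
  haveI : Fact (Nat.Prime 13) := Cfsg.Lib.Fusion.Order1092.fact13
  haveI : IsSimpleGroup (Matrix.ProjectiveSpecialLinearGroup (Fin 2) (ZMod 13)) :=
    Cfsg.Lib.Linear.PSL_simple 2 le_rfl fun _ => by rw [Nat.card_zmod]; norm_num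
  have hcard : Nat.card (Matrix.ProjectiveSpecialLinearGroup (Fin 2) (ZMod 13)) = 1092 := by
    have h := Cfsg.Lib.Linear.Two.card_PSL_two (F := ZMod 13)
    rw [ZMod.card] at h
    have hg : Nat.gcd 2 (13 - 1) = 2 := by decide
    have hv : (13 : ℕ) * (13 ^ 2 - 1) = 2184 := by decide
    rw [hg, hv] at h
    omega
  rcases hK with ⟨⟨e⟩⟩ | ⟨⟨e⟩⟩
  · refine coatom_of_cover hcard e.toMonoidHom e.surjective (Or.inl ?_) H hH
    rw [(MonoidHom.ker_eq_bot_iff _).mpr e.injective, card_bot]
  · let q : Matrix.SpecialLinearGroup (Fin 2) (ZMod 13) →*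
        Matrix.ProjectiveSpecialLinearGroup (Fin 2) (ZMod 13) := QuotientGroup.mk' _
    have hq : Function.Surjective q := QuotientGroup.mk'_surjective _
    refine coatom_of_cover hcard (q.comp e.toMonoidHom) (hq.comp e.surjective) (Or.inr ⟨?_, ?_⟩) H hH
    · have h1 : Nat.card K = 2184 := by
        rw [Nat.card_congr e.toEquiv, Cfsg.Lib.Linear.Two.card_SL_two]
        simp only [ZMod.card]
        decide
      have h2 := (q.comp e.toMonoidHom).ker.card_mul_index
      rw [index_ker, (MonoidHom.range_eq_top.mpr (hq.comp e.surjective) :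
        (q.comp e.toMonoidHom).range = ⊤), card_top, hcard, h1] at h2
      omega
    · intro x hx
      rw [MonoidHom.mem_ker, MonoidHom.comp_apply]
      refine (QuotientGroup.eq_one_iff _).mpr ?_
      have hA : e x * e x = 1 := by rw [← map_mul, ← sq, hx, map_one]
      set A := e x with hAdef
      have hM : (A : Matrix (Fin 2) (Fin 2) (ZMod 13)) * A = 1 := by
        rw [← Matrix.SpecialLinearGroup.coe_mul, hA, Matrix.SpecialLinearGroup.coe_one]
      have hd : (A : Matrix (Fin 2) (Fin 2) (ZMod 13)).det = 1 := A.2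
      rw [Matrix.det_fin_two] at hd
      have e00 := congrFun (congrFun hM 0) 0
      have e01 := congrFun (congrFun hM 0) 1
      have e10 := congrFun (congrFun hM 1) 0
      have e11 := congrFun (congrFun hM 1) 1
      simp [Matrix.mul_apply, Fin.sum_univ_two] at e00 e01 e10 e11
      set a := (A : Matrix (Fin 2) (Fin 2) (ZMod 13)) 0 0 with ha
      set b := (A : Matrix (Fin 2) (Fin 2) (ZMod 13)) 0 1 with hb
      set c := (A : Matrix (Fin 2) (Fin 2) (ZMod 13)) 1 0 with hc
      set d := (A : Matrix (Fin 2) (Fin 2) (ZMod 13)) 1 1 with hd'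
      have hs : (a + d) * (a + d) = 4 := by linear_combination e00 + e11 + 2 * hd
      have hs0 : a + d ≠ 0 := by
        intro h0
        rw [h0, mul_zero] at hs
        exact zero_ne_four hs
      have hb0 : b = 0 := (mul_eq_zero.mp (by linear_combination e01 : (a + d) * b = 0)).resolve_left hs0
      have hc0 : c = 0 := (mul_eq_zero.mp (by linear_combination e10 : (a + d) * c = 0)).resolve_left hs0
      have had : a = d := by
        rw [hb0, hc0] at e00 hd
        simp at e00 hd
        have : (a - d) * (a + d) = 0 := by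
          rw [hb0] at e11
          simp at e11
          linear_combination e00 - e11
        exact sub_eq_zero.mp ((mul_eq_zero.mp this).resolve_right hs0)
      rw [Subgroup.mem_center_iff]
      intro B
      apply Subtype.ext
      show (B : Matrix (Fin 2) (Fin 2) (ZMod 13)) * A = A * (B : Matrix (Fin 2) (Fin 2) (ZMod 13))
      ext i j
      fin_cases i <;> fin_cases j <;>
        simp [Matrix.mul_apply, Fin.sum_univ_two, ← ha, ← hb, ← hc, ← hd', hb0, hc0, had, mul_comm]
/-- Let K be isomorphic to PSL(2, 13) or to SL(2, 13) and let S be a finite abelian group of order coprime to the order of K. Then in the direct product K × S every subgroup that is not normal has a normalizer that is a maximal subgroup. -/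
theorem result {K S : Type*} [Group K] [CommGroup S] [Finite K] [Finite S]
    (hK : Nonempty (K ≃* Matrix.ProjectiveSpecialLinearGroup (Fin 2) (ZMod 13)) ∨
      Nonempty (K ≃* Matrix.SpecialLinearGroup (Fin 2) (ZMod 13)))
    (hKS : (Nat.card K).Coprime (Nat.card S)) (H : Subgroup (K × S)) (hH : ¬ H.Normal) :
    IsCoatom (Subgroup.normalizer (H : Set (K × S))) := by

  classical
  haveI : Finite (K × S) := inferInstance
  have hsplit : ∀ k : K, ∀ s : S, (k, s) ∈ H → (k, 1) ∈ H ∧ (1, s) ∈ H := by
    intro k s h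
    obtain ⟨i, hi⟩ := exists_pow_eq_self_of_coprime (x := k) (n := Nat.card S)
      (hKS.symm.coprime_dvd_right (orderOf_dvd_natCard k))
    have h1 : (k, (1 : S)) ∈ H := by
      have := H.pow_mem (H.pow_mem h (Nat.card S)) i
      rwa [Prod.pow_mk, Prod.pow_mk, hi, pow_card_eq_one', one_pow] at this
    refine ⟨h1, ?_⟩
    have := H.mul_mem (H.inv_mem h1) h
    simpa using this
  set H₁ := H.map (MonoidHom.fst K S) with hH₁
  have hN : Subgroup.normalizer (H : Set (K × S)) =
      (Subgroup.normalizer (H₁ : Set K)).comap (MonoidHom.fst K S) := by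
    refine le_antisymm (Subgroup.map_le_iff_le_comap.mp (Subgroup.le_normalizer_map _)) ?_
    rintro ⟨g, t⟩ hg
    refine Subgroup.mem_normalizer_iff_map_conj_eq.mpr (Subgroup.eq_of_le_of_card_ge ?_
      (Subgroup.card_map_of_injective (MulAut.conj ((g, t) : K × S)).injective).ge)
    rintro _ ⟨⟨k, s⟩, hks, rfl⟩
    have h1 : g * k * g⁻¹ ∈ H₁ := (Subgroup.mem_normalizer_iff.mp hg k).mp ⟨(k, s), hks, rfl⟩
    obtain ⟨⟨k', s'⟩, hk's', he⟩ := h1
    have he' : k' = g * k * g⁻¹ := he
    subst he'
    have := H.mul_mem (hsplit _ _ hk's').1 (hsplit _ _ hks).2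
    simpa [Prod.ext_iff, mul_comm t s] using this
  rw [hN]
  refine Subgroup.isCoatom_comap_of_surjective (fun k => ⟨(k, 1), rfl⟩) (cover_exists hK H₁ fun hn => hH ?_)
  rw [← Subgroup.normalizer_eq_top_iff, hN, Subgroup.normalizer_eq_top_iff.mpr hn, Subgroup.comap_top]

end Cfsg.Agent.S4234
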