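import Cfsg.Statements.S4236
import Cfsg.Agent.Lib.Fusion.SylowCount
import Cfsg.Agent.Lib.Fusion.Abelian
import Cfsg.Agent.Lib.Invol.Cyclic
import Mathlib.GroupTheory.Perm.Cycle.Type
import Mathlib.RingTheory.ZMod.UnitsCyclic
import Mathlib.GroupTheory.GroupAction.Quotient

set_option autoImplicit false
set_option linter.style.haveILetI false
open Cfsg

namespace Cfsg.Agent.S4236

open Subgroup

theorem orbit_mul_stab (G : Type*) [Group G] [Finite G] {Z : Type*} [MulAction G Z] (z : Z) :
    Nat.card (MulAction.orbit G z) * Nat.card (MulAction.stabilizer G z) = Nat.card G := by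
  rw [Nat.card_congr (MulAction.orbitEquivQuotientStabilizer G z), mul_comm]
  exact (MulAction.stabilizer G z).card_mul_index

theorem card_fixed_mod {G : Type*} [Group G] [Finite G] [Fact (Nat.Prime 17)] {P : Subgroup G}
    (hP : IsPGroup 17 P) {Z : Type*} [Finite Z] [MulAction P Z] :
    Nat.card Z ≡ Nat.card (MulAction.fixedPoints P Z) [MOD 17] :=
  hP.card_modEq_card_fixedPoints Z

/-- No simple group has 35 Sylow 17-subgroups. -/
theorem simple_case {G : Type*} [Group G] [Finite G] [IsSimpleGroup G] [Fact (Nat.Prime 17)]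
    (h35 : Nat.card (Sylow 17 G) = 35) : False := by
  classical
  haveI : Fintype G := Fintype.ofFinite G
  haveI : Fintype (Sylow 17 G) := Fintype.ofFinite _
  haveI : Fact (Nat.Prime 2) := ⟨Nat.prime_two⟩
  set X := Sylow 17 G
  have hX : Fintype.card X = 35 := by rw [← Nat.card_eq_fintype_card]; exact h35
  let φ : G →* Equiv.Perm X := MulAction.toPermHom G X
  have hφ : Function.Injective φ := by
    rcases IsSimpleGroup.eq_bot_or_eq_top_of_normal φ.ker inferInstance with h | h
    · exact (MonoidHom.ker_eq_bot_iff φ).1 h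
    · exfalso
      obtain ⟨P⟩ : Nonempty X := inferInstance
      have hsub : Subsingleton X := ⟨fun a b => by
        obtain ⟨g, hg⟩ := MulAction.exists_smul_eq G a b
        rw [← hg]
        have : φ g = 1 := MonoidHom.mem_ker.1 (h ▸ mem_top g)
        exact (DFunLike.congr_fun this a).symm⟩
      haveI := hsub
      rw [Nat.card_of_subsingleton P] at h35
      omega
  -- a Sylow subgroup fixes only itself
  have honly : ∀ (P Q : X), (∀ p ∈ (P : Subgroup G), p • Q = Q) → Q = P := by
    intro P Q h
    have hle : (P : Subgroup G) ≤ normalizer ((Q : Subgroup G) : Set G) := fun p hp =>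
      Sylow.smul_eq_iff_mem_normalizer.1 (h p hp)
    have hsup : IsPGroup 17 ↥((P : Subgroup G) ⊔ (Q : Subgroup G)) :=
      P.2.to_sup_of_normal_right' Q.2 hle
    exact Sylow.ext ((Q.is_maximal' hsup le_sup_right).symm.trans (P.is_maximal' hsup le_sup_left))
  have hfix1 : ∀ P : X, Nat.card (MulAction.fixedPoints (P : Subgroup G) X) = 1 := by
    intro P
    refine Nat.card_eq_one_iff_unique.2 ⟨⟨fun a b => Subtype.ext ?_⟩, ⟨⟨P, fun p => ?_⟩⟩⟩
    · exact (honly P a.1 fun p hp => a.2 ⟨p, hp⟩).trans (honly P b.1 fun p hp => b.2 ⟨p, hp⟩).symm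
    · exact Sylow.smul_eq_iff_mem_normalizer.2 (le_normalizer p.2)
  let F : G → ℕ := fun g => Nat.card {Q : X // g • Q = Q}
  have hFval : ∀ P : X, ∀ g ∈ (P : Subgroup G), g ≠ 1 → F g = 1 ∨ F g = 18 := by
    intro P g hg hg1
    haveI hz : IsPGroup 17 (zpowers g) := P.2.to_le (zpowers_le.2 hg)
    have h1 := card_fixed_mod hz (Z := X)
    have h2 : Nat.card (MulAction.fixedPoints (zpowers g) X) = F g := by
      refine Nat.card_congr (Equiv.subtypeEquivRight fun Q => ⟨fun h => h ⟨g, mem_zpowers g⟩, fun h x => ?_⟩)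
      obtain ⟨i, hi⟩ := mem_zpowers_iff.1 x.2
      show (x : G) • Q = Q
      rw [← hi]
      exact MulAction.mem_stabilizer_iff.1 (zpow_mem (show g ∈ MulAction.stabilizer G Q from h) i)
    have h3 : F g ≤ 35 := h35 ▸ Finite.card_subtype_le _
    have h4 : F g ≠ 35 := fun h => hg1 (hφ (by
      rw [map_one]
      ext Q
      haveI : Fintype {Q : X // g • Q = Q} := Fintype.ofFinite _
      have hall : ∀ Q : X, g • Q = Q := by
        intro Q
        have hs : Finset.univ.filter (fun Q : X => g • Q = Q) = Finset.univ := by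
          refine Finset.eq_univ_of_card _ ?_
          rw [← Fintype.card_subtype, ← Nat.card_eq_fintype_card, hX]
          exact h
        exact (Finset.mem_filter.1 (Finset.eq_univ_iff_forall.1 hs Q)).2
      simp [φ, MulAction.toPermHom_apply, hall]))
    rw [h2, h35] at h1
    have h5 : F g % 17 = 1 := h1.symm.trans rfl
    omega
  -- the stabilisers in a Sylow subgroup
  have hstab : ∀ P Q : X, Q ≠ P → Nat.card (MulAction.stabilizer (P : Subgroup G) Q) * 17 =
      Nat.card (P : Subgroup G) := by
    intro P Q hQ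
    obtain ⟨n, hn⟩ := P.2.card_orbit Q
    have hle : Nat.card (MulAction.orbit (P : Subgroup G) Q) < 35 := by
      rw [← h35, Nat.card_eq_fintype_card, Nat.card_eq_fintype_card]
      refine Fintype.card_lt_of_injective_of_notMem (fun x => (x : X)) Subtype.val_injective (b := P) ?_
      rintro ⟨⟨_, p, rfl⟩, hp⟩
      refine hQ ?_
      have h' : (p : G) • Q = P := hp
      rw [← inv_smul_smul (p : G) Q, h', Sylow.smul_eq_iff_mem_normalizer]
      exact le_normalizer ((P : Subgroup G).inv_mem p.2)
    have hn1 : n = 1 := by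
      rcases n with _ | _ | n
      · exfalso
        rw [pow_zero, Nat.card_eq_one_iff_unique] at hn
        haveI := hn.1
        refine hQ (honly P Q fun p hp => ?_)
        exact congrArg Subtype.val (Subsingleton.elim
          (⟨(⟨p, hp⟩ : (P : Subgroup G)) • Q, MulAction.mem_orbit _ _⟩ : MulAction.orbit (P : Subgroup G) Q)
          ⟨Q, MulAction.mem_orbit_self Q⟩)
      · rfl
      · exfalso
        have : 17 ^ 2 ≤ 17 ^ (n + 1 + 1) := Nat.pow_le_pow_right (by norm_num) (by omega)
        omega
    rw [← orbit_mul_stab (P : Subgroup G) Q, hn, hn1, pow_one, mul_comm]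
  -- sum of the fixed point numbers
  have hsum : ∀ P : X, ∑ g : (P : Subgroup G), F g = 3 * Nat.card (P : Subgroup G) := by
    intro P
    have h1 : ∑ g : (P : Subgroup G), F g =
        ∑ Q : X, Nat.card (MulAction.stabilizer (P : Subgroup G) Q) := by
      rw [← Nat.card_sigma, ← Nat.card_sigma]
      exact Nat.card_congr
        { toFun := fun s => ⟨s.2.1, ⟨s.1, s.2.2⟩⟩
          invFun := fun s => ⟨s.2.1, ⟨s.1, s.2.2⟩⟩
          left_inv := fun s => rfl
          right_inv := fun s => rfl }
    rw [h1, ← Finset.add_sum_erase _ _ (Finset.mem_univ P)]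
    have hP : Nat.card (MulAction.stabilizer (P : Subgroup G) P) = Nat.card (P : Subgroup G) :=
      Nat.card_congr (Equiv.subtypeUnivEquiv fun p => Sylow.smul_eq_iff_mem_normalizer.2 (le_normalizer p.2))
    obtain ⟨k, hk⟩ : ∃ k, Nat.card (P : Subgroup G) = 17 * k := by
      obtain ⟨Q, hQ⟩ : ∃ Q : X, Q ≠ P := Fintype.exists_ne_of_one_lt_card (by omega) P
      exact ⟨_, by rw [← hstab P Q hQ, mul_comm]⟩
    rw [hP, Finset.sum_congr rfl (g := fun _ => k) fun Q hQ => ?_, Finset.sum_const,
      Finset.card_erase_of_mem (Finset.mem_univ P), Finset.card_univ, hX, smul_eq_mul, hk]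
    · ring
    · have := hstab P Q (Finset.ne_of_mem_erase hQ)
      omega
  let k : X → ℕ := fun P => Nat.card {g : (P : Subgroup G) // (g : G) ≠ 1 ∧ F g = 18}
  have hk : ∀ P : X, 17 * k P + 34 = 2 * Nat.card (P : Subgroup G) := by
    intro P
    have h := hsum P
    have hF1 : F 1 = 35 := by
      rw [← h35]; exact Nat.card_congr (Equiv.subtypeUnivEquiv fun Q => one_smul G Q)
    have e : ∀ g : (P : Subgroup G), F g = 1 + ((if (g : G) = 1 then 34 else 0) +
        17 * (if (g : G) ≠ 1 ∧ F g = 18 then 1 else 0)) := by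
      intro g
      by_cases hg : (g : G) = 1
      · rw [if_pos hg, if_neg (fun h => h.1 hg), hg, hF1]
      · rcases hFval P g g.2 hg with h | h
        · rw [if_neg hg, if_neg (fun h' => by omega), h]
        · rw [if_neg hg, if_pos ⟨hg, h⟩, h]
    rw [Finset.sum_congr rfl (fun g _ => e g), Finset.sum_add_distrib, Finset.sum_add_distrib,
      ← Finset.mul_sum, Finset.sum_boole, Finset.sum_const, Finset.card_univ, smul_eq_mul, mul_one] at h
    have h1 : ∑ g : (P : Subgroup G), (if (g : G) = 1 then 34 else 0) = 34 := by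
      rw [Finset.sum_ite, Finset.sum_const_zero, add_zero, Finset.sum_const, smul_eq_mul]
      have : Finset.univ.filter (fun g : (P : Subgroup G) => (g : G) = 1) = {1} :=
        Finset.eq_singleton_iff_unique_mem.2 ⟨Finset.mem_filter.2 ⟨Finset.mem_univ _, rfl⟩,
          fun g hg => Subtype.ext (Finset.mem_filter.1 hg).2⟩
      rw [this, Finset.card_singleton, one_mul]
    have h2 : k P = (Finset.univ.filter fun g : (P : Subgroup G) => (g : G) ≠ 1 ∧ F g = 18).card := by
      show Nat.card _ = _
      rw [Nat.card_eq_fintype_card, Fintype.card_subtype]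
    rw [h1, ← Nat.card_eq_fintype_card, Nat.cast_id, ← h2] at h
    omega
  obtain ⟨P⟩ : Nonempty X := inferInstance
  obtain ⟨a, ha⟩ := IsPGroup.iff_card.1 P.2
  have hcards : ∀ Q : X, Nat.card (Q : Subgroup G) = 17 ^ a := fun Q => by
    rw [← ha, Q.card_eq_multiplicity, P.card_eq_multiplicity]
  -- at most 17 squared
  obtain ⟨Q₁, hQ₁⟩ : ∃ Q : X, Q ≠ P := Fintype.exists_ne_of_one_lt_card (by omega) P
  obtain ⟨Q₂, hQ₂P, hQ₂⟩ : ∃ Q : X, Q ≠ P ∧ Q ∉ MulAction.orbit (P : Subgroup G) Q₁ := by
    by_contra hcon
    push Not at hcon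
    have hle : 34 ≤ Nat.card (MulAction.orbit (P : Subgroup G) Q₁) := by
      have : Nat.card {Q : X // Q ≠ P} = 34 := by
        rw [Nat.card_eq_fintype_card, Fintype.card_subtype_compl, Fintype.card_subtype_eq, hX]
      rw [← this]
      exact Nat.card_le_card_of_injective (fun Q => ⟨Q.1, hcon Q.1 Q.2⟩)
        fun a b h => Subtype.ext (congrArg (·.1) h :)
    have h1 := orbit_mul_stab (P : Subgroup G) Q₁
    have h2 := hstab P Q₁ hQ₁
    have h3 : 0 < Nat.card (MulAction.stabilizer (P : Subgroup G) Q₁) := Nat.card_pos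
    rw [← h1, mul_comm] at h2
    rw [mul_comm 17] at h2
    have := Nat.eq_of_mul_eq_mul_left h3 (h2.trans (mul_comm _ _))
    omega
  set P1 := MulAction.stabilizer (P : Subgroup G) Q₁
  set P2 := MulAction.stabilizer (P : Subgroup G) Q₂
  have hind : ∀ Q : X, Q ≠ P → (MulAction.stabilizer (P : Subgroup G) Q).index = 17 := fun Q hQ => by
    have h1 := hstab P Q hQ
    have h2 := (MulAction.stabilizer (P : Subgroup G) Q).card_mul_index
    rw [← h1] at h2
    exact Nat.eq_of_mul_eq_mul_left Nat.card_pos h2
  have hcap : P1 ⊓ P2 = ⊥ := by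
    rw [eq_bot_iff]
    intro g hg
    rw [mem_bot]
    refine Subtype.ext (hφ ?_)
    rw [OneMemClass.coe_one, map_one]
    ext Q
    -- `g` fixes everything
    haveI : (P1).Normal := by
      refine Subgroup.normal_of_index_eq_minFac_card ?_
      rw [hind Q₁ hQ₁, ha]
      rcases a with _ | a
      · have h := hstab P Q₁ hQ₁
        rw [ha, pow_zero] at h
        omega
      · rw [Nat.pow_minFac (Nat.succ_ne_zero a), (Fact.out : Nat.Prime 17).minFac_eq]
    haveI : (P2).Normal := by
      refine Subgroup.normal_of_index_eq_minFac_card ?_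
      rw [hind Q₂ hQ₂P, ha]
      rcases a with _ | a
      · have h := hstab P Q₁ hQ₁
        rw [ha, pow_zero] at h
        omega
      · rw [Nat.pow_minFac (Nat.succ_ne_zero a), (Fact.out : Nat.Prime 17).minFac_eq]
    have horb : ∀ R : X, MulAction.stabilizer (P : Subgroup G) R = MulAction.stabilizer (P : Subgroup G) R := fun R => rfl
    have hfixo : ∀ (R : X) (N : Subgroup (P : Subgroup G)), N.Normal → g ∈ N →
        N = MulAction.stabilizer (P : Subgroup G) R → ∀ R' ∈ MulAction.orbit (P : Subgroup G) R, (g : G) • R' = R' := by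
      rintro R N hN hgN rfl _ ⟨p, rfl⟩
      have h := hN.conj_mem g hgN p⁻¹
      rw [inv_inv, MulAction.mem_stabilizer_iff, mul_smul, mul_smul, inv_smul_eq_iff] at h
      exact h
    have h2orb : Q = P ∨ Q ∈ MulAction.orbit (P : Subgroup G) Q₁ ∨ Q ∈ MulAction.orbit (P : Subgroup G) Q₂ := by
      by_contra hcon
      push Not at hcon
      obtain ⟨hc0, hc1, hc2⟩ := hcon
      have ho : ∀ R : X, R ≠ P → Nat.card (MulAction.orbit (P : Subgroup G) R) = 17 := fun R hR => by
        exact (Nat.card_congr (MulAction.orbitEquivQuotientStabilizer _ R)).trans (hind R hR)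
      have hP0 : ∀ R : X, R ≠ P → P ∉ MulAction.orbit (P : Subgroup G) R := by
        rintro R hR ⟨p, hp⟩
        refine hR ?_
        have h' : (p : G) • R = P := hp
        rw [← inv_smul_smul (p : G) R, h', Sylow.smul_eq_iff_mem_normalizer]
        exact le_normalizer ((P : Subgroup G).inv_mem p.2)
      have hd : ∀ R R' : X, R' ∉ MulAction.orbit (P : Subgroup G) R →
          ∀ S ∈ MulAction.orbit (P : Subgroup G) R', S ∉ MulAction.orbit (P : Subgroup G) R := by
        intro R R' h S hS hS'
        refine h ?_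
        rw [← MulAction.orbit_eq_iff.2 hS', MulAction.orbit_eq_iff.2 hS]
        exact MulAction.mem_orbit_self R'
      have hinj : Function.Injective (Sum.elim (Sum.elim Subtype.val Subtype.val) Subtype.val :
          ((MulAction.orbit (P : Subgroup G) Q₁) ⊕ (MulAction.orbit (P : Subgroup G) Q₂)) ⊕
            (MulAction.orbit (P : Subgroup G) Q) → X) := by
        refine (Subtype.val_injective.sumElim Subtype.val_injective fun a b h => ?_).sumElim
          Subtype.val_injective ?_
        · exact hd Q₁ Q₂ hQ₂ b b.2 (h ▸ a.2)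
        · rintro (a | a) b h
          · exact hd Q₁ Q hc1 b b.2 (h ▸ a.2)
          · exact hd Q₂ Q hc2 b b.2 (h ▸ a.2)
      have := Nat.card_le_card_of_injective _ hinj
      rw [Nat.card_sum, Nat.card_sum, ho Q₁ hQ₁, ho Q₂ hQ₂P, ho Q hc0, h35] at this
      omega
    have hgQ : (g : G) • Q = Q := by
      rcases h2orb with h | h | h
      · rw [h]; exact Sylow.smul_eq_iff_mem_normalizer.2 (le_normalizer g.2)
      · exact hfixo Q₁ P1 inferInstance hg.1 rfl Q h
      · exact hfixo Q₂ P2 inferInstance hg.2 rfl Q h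
    simp [φ, MulAction.toPermHom_apply, hgQ]
  have ha2 : a ≤ 2 := by
    have h1 := Subgroup.index_inf_le (H := P1) (K := P2)
    rw [hcap, index_bot, ha, hind Q₁ hQ₁, hind Q₂ hQ₂P] at h1
    by_contra h
    have : 17 ^ 3 ≤ 17 ^ a := Nat.pow_le_pow_right (by norm_num) (by omega)
    omega
  -- double counting
  have hcount : 35 * k P = 18 * Nat.card {g : G // g ≠ 1 ∧ F g = 18 ∧ ∃ Q : X, g ∈ (Q : Subgroup G)} := by
    set T := {g : G // g ≠ 1 ∧ F g = 18 ∧ ∃ Q : X, g ∈ (Q : Subgroup G)}
    haveI : Fintype T := Fintype.ofFinite _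
    have h1 : ∀ Q : X, k Q = k P := fun Q => by
      have e1 := hk Q
      have e2 := hk P
      rw [hcards] at e1 e2
      omega
    have h2 : Nat.card (Σ Q : X, {g : (Q : Subgroup G) // (g : G) ≠ 1 ∧ F g = 18}) =
        Nat.card (Σ g : T, {Q : X // g.1 • Q = Q}) := by
      refine Nat.card_congr
        { toFun := fun s => ⟨⟨s.2.1, s.2.2.1, s.2.2.2, s.1, s.2.1.2⟩, ⟨s.1,
            Sylow.smul_eq_iff_mem_normalizer.2 (le_normalizer s.2.1.2)⟩⟩
          invFun := fun s => ⟨s.2.1, ⟨⟨s.1.1, ?_⟩, s.1.2.1, s.1.2.2.1⟩⟩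
          left_inv := fun s => rfl
          right_inv := fun s => rfl }
      obtain ⟨Q, hgQ⟩ := s.1.2.2.2
      have hz : IsPGroup 17 (zpowers s.1.1) := Q.2.to_le (zpowers_le.2 hgQ)
      have hle : zpowers s.1.1 ≤ normalizer ((s.2.1 : Subgroup G) : Set G) :=
        zpowers_le.2 (Sylow.smul_eq_iff_mem_normalizer.1 s.2.2)
      exact ((s.2.1).is_maximal' (hz.to_sup_of_normal_right' s.2.1.2 hle) le_sup_right) ▸
        mem_sup_left (mem_zpowers s.1.1)
    rw [Nat.card_sigma, Nat.card_sigma, Finset.sum_congr rfl (g := fun _ => k P) (fun Q _ => h1 Q),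
      Finset.sum_congr rfl (g := fun _ => 18) (fun (g : T) _ => g.2.2.1), Finset.sum_const, Finset.sum_const,
      Finset.card_univ, Finset.card_univ, smul_eq_mul, smul_eq_mul, hX,
      ← Nat.card_eq_fintype_card (α := T)] at h2
    rw [h2, mul_comm]
  have hkP := hk P
  rw [ha] at hkP
  have ha1 : a = 1 := by
    interval_cases a
    · omega
    · rfl
    · have hk32 : k P = 32 := by omega
      rw [hk32] at hcount
      omega
  subst ha1
  -- `P` has order 17
  haveI : Fact (Nat.card (P : Subgroup G)).Prime := ⟨by rw [ha, pow_one]; decide⟩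
  haveI hPc : IsCyclic (P : Subgroup G) := isCyclic_of_prime_card (p := 17) (by rw [ha, pow_one])
  haveI hPcomm : IsMulCommutative (P : Subgroup G) := inferInstance
  set N := normalizer ((P : Subgroup G) : Set G) with hN
  set C := centralizer ((P : Subgroup G) : Set G) with hC
  -- no involution centralizes `P`
  have hno : ∀ t ∈ C, orderOf t = 2 → False := by
    intro t ht ht2
    have htt : t * t = 1 := by rw [← sq, ← ht2, pow_orderOf_eq_one]
    have hcomm : ∀ p ∈ (P : Subgroup G), p * t = t * p := fun p hp => mem_centralizer_iff.1 ht p hp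
    letI act : MulAction (P : Subgroup G) {Q : X // t • Q = Q} :=
      { smul := fun p Q => ⟨(p : G) • Q.1, by rw [← mul_smul, ← hcomm p p.2, mul_smul, Q.2]⟩
        one_smul := fun Q => Subtype.ext (one_smul G Q.1)
        mul_smul := fun p q Q => Subtype.ext (mul_smul (p : G) q Q.1) }
    have htP : t • P = P := Sylow.smul_eq_iff_mem_normalizer.2 (centralizer_le_normalizer _ ht)
    have hmod := card_fixed_mod P.2 (Z := {Q : X // t • Q = Q})
    have hone : Nat.card (MulAction.fixedPoints (P : Subgroup G) {Q : X // t • Q = Q}) = 1 := by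
      refine Nat.card_eq_one_iff_unique.2 ⟨⟨fun a b => Subtype.ext (Subtype.ext ?_)⟩,
        ⟨⟨⟨P, htP⟩, fun p => Subtype.ext (Sylow.smul_eq_iff_mem_normalizer.2 (le_normalizer p.2))⟩⟩⟩
      exact (honly P a.1.1 fun p hp => congrArg Subtype.val (a.2 ⟨p, hp⟩)).trans
        (honly P b.1.1 fun p hp => congrArg Subtype.val (b.2 ⟨p, hp⟩)).symm
    rw [hone] at hmod
    have hne35 : F t ≠ 35 := fun h => by
      have hall : ∀ Q : X, t • Q = Q := by
        intro Q
        by_contra hQ
        have := Fintype.card_subtype_lt (p := fun Q : X => t • Q = Q) hQ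
        rw [← Nat.card_eq_fintype_card, hX] at this
        change F t < 35 at this
        omega
      have : t = 1 := hφ (by rw [map_one]; ext Q; simp [φ, MulAction.toPermHom_apply, hall])
      rw [this, orderOf_one] at ht2
      omega
    have hFle : F t ≤ 35 := h35 ▸ Finite.card_subtype_le _
    -- a moved point
    have hF18 : F t ≠ 18 := by
      intro h18
      -- a fixed point `x ≠ P`
      obtain ⟨x, hxt, hxP⟩ : ∃ x : X, t • x = x ∧ x ≠ P := by
        by_contra hcon
        push Not at hcon
        have : F t ≤ Nat.card ({P} : Set X) :=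
          Nat.card_le_card_of_injective (fun Q => ⟨Q.1, hcon Q.1 Q.2⟩)
            fun a b h => Subtype.ext (congrArg (·.1) h :)
        rw [h18, Nat.card_coe_set_eq, Set.ncard_singleton] at this
        omega
      -- the moved points form one orbit
      obtain ⟨y, hy⟩ : ∃ y : X, t • y ≠ y := by
        by_contra hcon
        push Not at hcon
        exact hne35 (h35 ▸ Nat.card_congr (Equiv.subtypeUnivEquiv hcon))
      have hyP : y ≠ P := fun h => hy (h ▸ htP)
      have horb : Nat.card (MulAction.orbit (P : Subgroup G) y) = 17 := by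
        have h1 := hstab P y hyP
        have h2 := orbit_mul_stab (P : Subgroup G) y
        rw [ha, pow_one] at h1 h2
        have h3 : Nat.card (MulAction.stabilizer (P : Subgroup G) y) = 1 := by omega
        rw [h3, mul_one] at h2
        exact h2
      have hmov : ∀ z ∈ MulAction.orbit (P : Subgroup G) y, t • z ≠ z := by
        rintro _ ⟨p, rfl⟩ h
        refine hy ?_
        have h' : t • ((p : G) • y) = (p : G) • y := h
        rw [← mul_smul, ← hcomm p p.2, mul_smul] at h'
        exact smul_left_cancel _ h'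
      have hcompl : Nat.card {Q : X // ¬ t • Q = Q} = 17 := by
        rw [Nat.card_eq_fintype_card, Fintype.card_subtype_compl, ← Nat.card_eq_fintype_card
          (α := {Q : X // t • Q = Q}), hX]
        show 35 - F t = 17
        omega
      have hty : t • y ∈ MulAction.orbit (P : Subgroup G) y := by
        let f : MulAction.orbit (P : Subgroup G) y → {Q : X // ¬ t • Q = Q} := fun z => ⟨z, hmov z z.2⟩
        have hf : Function.Injective f := fun a b h => Subtype.ext (congrArg (·.1) h :)
        obtain ⟨z, hz⟩ := (hf.bijective_of_nat_card_le (le_of_eq (hcompl.trans horb.symm))).2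
          ⟨t • y, fun h => hy (smul_left_cancel t h)⟩
        have e : (z : X) = t • y := congrArg Subtype.val hz
        rw [← e]
        exact z.2
      obtain ⟨p, hp⟩ := hty
      have hp' : (p : G) • y = t • y := hp
      have hpp : (p * p) • y = y := by
        show ((p : G) * p) • y = y
        rw [mul_smul, hp', ← mul_smul, hcomm p p.2, mul_smul, hp', ← mul_smul, htt, one_smul]
      have hst : MulAction.stabilizer (P : Subgroup G) y = ⊥ := by
        have h1 := hstab P y hyP
        rw [ha, pow_one] at h1
        exact card_eq_one.1 (by omega)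
      have hp2 : p * p = 1 := by
        have : p * p ∈ MulAction.stabilizer (P : Subgroup G) y := hpp
        rwa [hst, mem_bot] at this
      have hp1 : p = 1 := by
        have h1 : orderOf p ∣ 2 := orderOf_dvd_of_pow_eq_one (by rw [sq]; exact hp2)
        have h2 : orderOf p ∣ 17 := by
          have h := orderOf_dvd_natCard p
          rwa [ha, pow_one] at h
        exact orderOf_eq_one_iff.1 (Nat.eq_one_of_dvd_coprimes (by norm_num : Nat.Coprime 2 17) h1 h2)
      exact hy (by rw [← hp', hp1]; exact one_smul G y)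
    have hF : F t = 1 := by
      have h5 : F t % 17 = 1 := hmod.trans rfl
      omega
    have hsq : φ t ^ 2 = 1 := by rw [sq, ← map_mul, htt, map_one]
    have hrep := Equiv.Perm.cycleType_of_pow_prime_eq_one hsq
    have hsupp : (φ t).support.card = 34 := by
      have : (φ t).support = Finset.univ.filter fun Q : X => ¬ t • Q = Q := by
        ext Q; simp [φ, MulAction.toPermHom_apply]
      rw [this, ← Fintype.card_subtype, Fintype.card_subtype_compl, hX,
        ← Nat.card_eq_fintype_card]
      show 35 - F t = 34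
      omega
    have hsign : Equiv.Perm.sign (φ t) = -1 := by
      have h17 : Multiset.card (φ t).cycleType = 17 := by
        have h := Equiv.Perm.sum_cycleType (φ t)
        rw [hrep, Multiset.sum_replicate, hsupp, smul_eq_mul] at h
        omega
      rw [Equiv.Perm.sign_of_cycleType, Equiv.Perm.sum_cycleType, hsupp, h17]
      decide
    rcases IsSimpleGroup.eq_bot_or_eq_top_of_normal (Equiv.Perm.sign.comp φ).ker inferInstance with h | h
    · have hinj := (MonoidHom.ker_eq_bot_iff _).1 h
      have h2 := Nat.card_le_card_of_injective _ hinj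
      rw [Nat.card_eq_fintype_card (α := ℤˣ), Fintype.card_units_int] at h2
      have h3 : 35 ∣ Nat.card G := by
        rw [← h35, P.card_eq_index_normalizer]; exact index_dvd_card _
      have := Nat.le_of_dvd Nat.card_pos h3
      omega
    · have : Equiv.Perm.sign (φ t) = 1 := MonoidHom.mem_ker.1 (h ▸ mem_top t : t ∈ (Equiv.Perm.sign.comp φ).ker)
      rw [hsign] at this
      exact absurd this (by decide)
  -- the action of the normalizer on `P`
  let ψ : N →* MulAut (P : Subgroup G) := (P : Subgroup G).normalizerMonoidHom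
  have hψ : ψ.ker = C.subgroupOf N := Subgroup.normalizerMonoidHom_ker _
  haveI : IsCyclic (MulAut (P : Subgroup G)) := by
    haveI : IsCyclic (ZMod (Nat.card (P : Subgroup G)))ˣ := ZMod.isCyclic_units_prime Fact.out
    exact isCyclic_of_surjective _ (IsCyclic.mulAutMulEquiv (P : Subgroup G)).symm.surjective
  have hNidx : N.index = 35 := P.card_eq_index_normalizer.symm.trans h35
  obtain ⟨T⟩ : Nonempty (Sylow 2 N) := inferInstance
  have hTc : IsCyclic (T : Subgroup N) := by
    have hinj : Function.Injective (ψ.comp (T : Subgroup N).subtype) := by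
      rw [injective_iff_map_eq_one]
      intro x hx
      have hxC : ((x : N) : G) ∈ C := by
        have : (x : N) ∈ ψ.ker := hx
        rwa [hψ] at this
      by_contra hne
      obtain ⟨j, hj⟩ := IsPGroup.iff_orderOf.1 T.2 x
      rcases j with _ | j
      · exact hne (orderOf_eq_one_iff.1 (by rw [hj, pow_zero]))
      · refine hno (((x : N) : G) ^ 2 ^ j) (pow_mem hxC _) ?_
        rw [orderOf_pow' _ (pow_ne_zero _ two_ne_zero), Subgroup.orderOf_coe, Subgroup.orderOf_coe, hj,
          Nat.gcd_eq_right (pow_dvd_pow 2 (Nat.le_succ j)), pow_succ, Nat.mul_div_cancel_left _ (pow_pos two_pos _)]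
    exact isCyclic_of_injective _ hinj
  by_cases heven : Even (Nat.card G)
  · have hT2 : ¬ 2 ∣ ((T : Subgroup N).map N.subtype).index := by
      rw [index_map_subtype, hNidx]
      exact Nat.prime_two.not_dvd_mul T.not_dvd_index (by norm_num)
    let T' : Sylow 2 G := (T.2.map N.subtype).toSylow hT2
    have hT'c : IsCyclic (T' : Subgroup G) := by
      show IsCyclic ↥((T : Subgroup N).map N.subtype)
      exact isCyclic_of_surjective _ (equivMapOfInjective (T : Subgroup N) _ N.subtype_injective).surjective
    obtain ⟨H, hH⟩ := Cfsg.Lib.Invol.exists_index_two_of_isCyclic heven T' hT'c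
    rcases IsSimpleGroup.eq_bot_or_eq_top_of_normal H (normal_of_index_eq_two hH) with h | h
    · rw [h, index_bot] at hH
      have h3 : 35 ∣ Nat.card G := by rw [← hNidx]; exact index_dvd_card _
      omega
    · rw [h, index_top] at hH; omega
  · have hle : N ≤ C := by
      intro n hn
      have h1 : orderOf (ψ ⟨n, hn⟩) ∣ 16 := by
        have h := _root_.orderOf_dvd_natCard (ψ ⟨n, hn⟩)
        rw [IsCyclic.card_mulAut, ha, pow_one, Nat.totient_prime (by decide)] at h
        exact h
      have h2 : orderOf (ψ ⟨n, hn⟩) ∣ Nat.card G :=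
        (orderOf_map_dvd ψ _).trans ((_root_.orderOf_dvd_natCard _).trans (card_subgroup_dvd_card N))
      have hodd : Nat.Coprime 16 (Nat.card G) := by
        rw [show (16 : ℕ) = 2 ^ 4 by norm_num]
        exact Nat.Coprime.pow_left 4 ((Nat.Prime.coprime_iff_not_dvd Nat.prime_two).2
          (fun h => heven (even_iff_two_dvd.2 h)))
      have : ψ ⟨n, hn⟩ = 1 := orderOf_eq_one_iff.1 (Nat.eq_one_of_dvd_coprimes hodd h1 h2)
      have h4 : (⟨n, hn⟩ : N) ∈ ψ.ker := this
      rwa [hψ] at h4
    obtain ⟨R, K, hK, hKR⟩ := Cfsg.Lib.Fusion.hasNormalPComplement_of_normalizer_le_centralizer P hle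
    have h17 : Nat.card (R : Subgroup G) = 17 := by rw [hcards R, pow_one]
    rcases IsSimpleGroup.eq_bot_or_eq_top_of_normal K hK with h | h
    · have h1 := hKR.card_mul
      rw [h, card_bot, one_mul, h17] at h1
      have h3 : 35 ∣ Nat.card G := by rw [← hNidx]; exact index_dvd_card _
      omega
    · have h1 := hKR.card_mul
      rw [h, card_top, h17] at h1
      have : 0 < Nat.card G := Nat.card_pos
      omega

/-- No finite group has exactly 35 Sylow 17-subgroups. -/
theorem result {G : Type*} [Group G] [Finite G] : Nat.card (Sylow 17 G) ≠ 35 := by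
  haveI : Fact (Nat.Prime 17) := ⟨by norm_num⟩
  refine (Cfsg.Lib.Fusion.SylowCount.sylow_number_induction_self (p := 17)
    (Q := fun n => n ≠ 35 ∧ n % 17 = 1) ⟨by norm_num, rfl⟩ (fun a b ha hb => ⟨fun h => ?_, ?_⟩)
    (fun n hn h => ⟨?_, ?_⟩) (fun H N _ hs => ⟨fun h => ?_, card_sylow_modEq_one 17 (H ⧸ N)⟩)).1
  · have had : a ∣ 35 := h ▸ dvd_mul_right a b
    have ha35 : a ≤ 35 := Nat.le_of_dvd (by norm_num) had
    have : a = 1 := by
      have := ha.2
      have := ha.1
      interval_cases a <;> omega
    subst this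
    exact hb.1 (by simpa using h)
  · rw [Nat.mul_mod, ha.2, hb.2]
  · rintro rfl
    have h5 := h 5 (by norm_num)
    have : (35 : ℕ).factorization 5 = 1 := by
      rw [show (35 : ℕ) = 5 ^ 1 * 7 by norm_num, Nat.factorization_mul (by norm_num) (by norm_num),
        Finsupp.add_apply, Nat.Prime.factorization_pow (by norm_num), Finsupp.single_eq_same,
        Nat.factorization_eq_zero_of_not_dvd (by norm_num)]
    rw [this] at h5
    exact absurd h5 (by decide)
  · classical
    have key : ∀ s : Finset ℕ, (∀ q ∈ s, q.Prime) →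
        (∏ q ∈ s, q ^ n.factorization q) % 17 = 1 := by
      intro s hs
      induction s using Finset.induction_on with
      | empty => simp
      | insert q s hq ih =>
        rw [Finset.prod_insert hq, Nat.mul_mod, ih (fun r hr => hs r (Finset.mem_insert_of_mem hr)),
          show q ^ n.factorization q % 17 = 1 from h q (hs q (Finset.mem_insert_self q s))]
    have hk := key n.primeFactors fun q hq => Nat.prime_of_mem_primeFactors hq
    rwa [show ∏ q ∈ n.primeFactors, q ^ n.factorization q = n from Nat.prod_factorization_pow_eq_self hn] at hk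
  · haveI := hs
    exact simple_case h

end Cfsg.Agent.S4236
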