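import Cfsg.Statements.S4237
import Cfsg.Agent.Lib.PGroup.Kulakoff

set_option linter.style.haveILetI false

set_option autoImplicit false
open Cfsg

namespace Cfsg.Agent.S4237

open Subgroup
open Cfsg.Lib.PGroup.Kulakoff

universe u

variable {p : ℕ} [hp : Fact p.Prime]

/-- In a `p`-group, the normal subgroups of order `p ^ a` inside a normal subgroup `N`, counted modulo `p`. -/
lemma card_normal_mod {R : Type u} [Group R] [Finite R] (hR : IsPGroup p R) (N : Subgroup R) [N.Normal] (a : ℕ) :
    Nat.card {H : Subgroup R // (H ≤ N ∧ Nat.card H = p ^ a) ∧ H.Normal} ≡ cnt p a N [MOD p] := by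
  have hmem : ∀ (g : R) (H : Subgroup R), H ≤ N ∧ Nat.card H = p ^ a →
      H.map (MulAut.conj g).toMonoidHom ≤ N ∧ Nat.card (H.map (MulAut.conj g).toMonoidHom) = p ^ a := by
    intro g H h
    refine ⟨?_, by rw [card_map_of_injective (MulEquiv.injective _)]; exact h.2⟩
    rintro _ ⟨x, hx, rfl⟩
    exact (inferInstance : N.Normal).conj_mem x (h.1 hx) g
  letI act : MulAction R {H : Subgroup R // H ≤ N ∧ Nat.card H = p ^ a} :=
    { smul := fun g H => ⟨H.1.map (MulAut.conj g).toMonoidHom, hmem g H.1 H.2⟩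
      one_smul := fun H => Subtype.ext (by
        show H.1.map (MulAut.conj (1 : R)).toMonoidHom = H.1
        ext x; simp)
      mul_smul := fun g h H => Subtype.ext (by
        show H.1.map (MulAut.conj (g * h)).toMonoidHom =
          (H.1.map (MulAut.conj h).toMonoidHom).map (MulAut.conj g).toMonoidHom
        rw [Subgroup.map_map]
        congr 1
        ext x; simp [mul_assoc]) }
  refine Nat.ModEq.trans ?_ (hR.card_modEq_card_fixedPoints {H : Subgroup R // H ≤ N ∧ Nat.card H = p ^ a}).symm
  refine congrArg (· % p) ?_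
  refine Nat.card_congr
    { toFun := fun H => ⟨⟨H.1, H.2.1⟩, fun g => Subtype.ext ?_⟩
      invFun := fun H => ⟨H.1.1, H.1.2, ?_⟩
      left_inv := fun H => rfl
      right_inv := fun H => rfl }
  · show H.1.map (MulAut.conj g).toMonoidHom = H.1
    haveI := H.2.2
    refine eq_of_le_of_card_ge ?_ (by rw [card_map_of_injective (MulEquiv.injective _)])
    rintro _ ⟨x, hx, rfl⟩
    exact H.2.2.conj_mem x hx g
  · refine ⟨fun x hx g => ?_⟩
    have h := congrArg Subtype.val (H.2 g)
    exact h.le ⟨x, hx, rfl⟩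

variable {G : Type u} [Group G] [Finite G]

/-- Subgroups of order `p ^ a` outside `Q`, normal in `R`. -/
def Out (p a : ℕ) (Q R : Subgroup G) : Set (Subgroup G) :=
  {H | H ≤ R ∧ Nat.card H = p ^ a ∧ ¬ H ≤ Q ∧ R ≤ normalizer (H : Set G)}

lemma out_dvd {R Q : Subgroup G} (hR : IsPGroup p R) (hQR : Q ≤ R) (hQn : R ≤ normalizer (Q : Set G)) (a : ℕ)
    (ha : p ^ a ≤ Nat.card Q) : p ∣ (Out p a Q R).ncard := by
  classical
  haveI : (Q.subgroupOf R).Normal := normal_subgroupOf_iff_le_normalizer hQR |>.2 hQn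
  have key : ∀ H : Subgroup G, H ≤ R → ((H.subgroupOf R).Normal ↔ R ≤ normalizer (H : Set G)) := fun H h =>
    normal_subgroupOf_iff_le_normalizer h
  have hQc : Nat.card (Q.subgroupOf R) = Nat.card Q := Nat.card_congr (subgroupOfEquivOfLe hQR).toEquiv
  have h1 := card_normal_mod hR (⊤ : Subgroup R) a
  have h2 := card_normal_mod hR (Q.subgroupOf R) a
  have h3 : cnt p a (⊤ : Subgroup R) ≡ 1 [MOD p] :=
    cnt_mod_sub hR (by rw [card_top]; exact ha.trans (card_le_of_le hQR))
  have h4 : cnt p a (Q.subgroupOf R) ≡ 1 [MOD p] := cnt_mod_sub hR (by rw [hQc]; exact ha)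
  have e : Nat.card {H : Subgroup R // (H ≤ ⊤ ∧ Nat.card H = p ^ a) ∧ H.Normal} =
      Nat.card {H : Subgroup R // (H ≤ Q.subgroupOf R ∧ Nat.card H = p ^ a) ∧ H.Normal} + (Out p a Q R).ncard := by
    rw [← Nat.card_coe_set_eq, ← Nat.card_sum]
    refine Nat.card_congr
      { toFun := fun H => if h : H.1 ≤ Q.subgroupOf R then Sum.inl ⟨H.1, ⟨h, H.2.1.2⟩, H.2.2⟩ else
          Sum.inr ⟨H.1.map R.subtype, map_subtype_le _, by
            rw [card_map_of_injective R.subtype_injective]; exact H.2.1.2, fun h' => h fun x hx => h' ⟨x, hx, rfl⟩, by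
            rw [← key _ (map_subtype_le _), subgroupOf, comap_map_eq_self_of_injective R.subtype_injective]
            exact H.2.2⟩
        invFun := Sum.elim (fun H => ⟨H.1, ⟨le_top, H.2.1.2⟩, H.2.2⟩) fun H => ⟨H.1.subgroupOf R, ⟨le_top, by
          rw [Nat.card_congr (subgroupOfEquivOfLe H.2.1).toEquiv]; exact H.2.2.1⟩, (key _ H.2.1).2 H.2.2.2.2⟩
        left_inv := fun H => ?_
        right_inv := fun H => ?_ }
    · dsimp only
      split_ifs with h
      · rfl
      · exact Subtype.ext (comap_map_eq_self_of_injective R.subtype_injective _)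
    · rcases H with H | H
      · dsimp only [Sum.elim_inl]
        rw [dif_pos H.2.1.1]
      · dsimp only [Sum.elim_inr]
        rw [dif_neg fun h => H.2.2.2.1 fun x hx => h (show (⟨x, H.2.1 hx⟩ : R) ∈ H.1.subgroupOf R from hx)]
        exact congrArg Sum.inr (Subtype.ext (map_subgroupOf_eq_of_le H.2.1))
  rw [e] at h1
  have h5 : (Out p a Q R).ncard ≡ 0 [MOD p] :=
    Nat.ModEq.add_left_cancel (h2.trans h4) (by rw [add_zero]; exact h1.trans h3)
  exact Nat.modEq_zero_iff_dvd.1 h5

lemma card_subgroup_mul {H : Subgroup G} {m : ℕ} (hm : ∀ S : Sylow p G, Nat.card S = p ^ m) (hH : IsPGroup p H) :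
    Nat.card H ≤ p ^ m := by
  obtain ⟨S, hS⟩ := hH.exists_le_sylow
  rw [← hm S]
  exact card_le_of_le hS

theorem count_eq (P : Sylow p G) {m a : ℕ} (hP : Nat.card P = p ^ m) (ha : a < m) :
    Nat.card {H : Subgroup G // Nat.card H = p ^ a} ≡ cnt p a (P : Subgroup G) [MOD p ^ 2] := by
  classical
  letI := Fintype.ofFinite (Subgroup G)
  set X : Set (Subgroup G) := {H | Nat.card H = p ^ a ∧ ¬ H ≤ (P : Subgroup G)} with hX
  have hsplit : Nat.card {H : Subgroup G // Nat.card H = p ^ a} = cnt p a (P : Subgroup G) + X.ncard := by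
    rw [cnt, ← Nat.card_coe_set_eq, ← Nat.card_sum]
    refine Nat.card_congr
      { toFun := fun H => if h : H.1 ≤ (P : Subgroup G) then Sum.inl ⟨H.1, h, H.2⟩ else Sum.inr ⟨H.1, H.2, h⟩
        invFun := Sum.elim (fun H => ⟨H.1, H.2.2⟩) fun H => ⟨H.1, H.2.1⟩
        left_inv := fun H => ?_
        right_inv := fun H => ?_ }
    · dsimp only
      split_ifs <;> rfl
    · rcases H with H | H
      · dsimp only [Sum.elim_inl]; rw [dif_pos H.2.1]
      · dsimp only [Sum.elim_inr]; rw [dif_neg H.2.2]
  rw [hsplit]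
  suffices hd : p ^ 2 ∣ X.ncard by
    have := (Nat.modEq_zero_iff_dvd.2 hd).add_left (cnt p a (P : Subgroup G))
    rwa [add_zero] at this
  have hcardS : ∀ S : Sylow p G, Nat.card S = p ^ m := fun S => by
    rw [← hP]
    exact Sylow.card_eq_multiplicity S |>.trans (Sylow.card_eq_multiplicity P).symm
  have hP' := P.2
  -- `P` acts on `X`
  have hmem : ∀ (g : (P : Subgroup G)) (H : Subgroup G), H ∈ X → H.map (MulAut.conj (g : G)).toMonoidHom ∈ X := by
    rintro g H ⟨h1, h2⟩
    refine ⟨by rw [card_map_of_injective (MulEquiv.injective _)]; exact h1, fun h => h2 fun x hx => ?_⟩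
    have hm := h ⟨x, hx, rfl⟩
    have := mul_mem (mul_mem (inv_mem g.2) hm) g.2
    simpa [mul_assoc] using this
  letI act : MulAction (P : Subgroup G) X :=
    { smul := fun g H => ⟨H.1.map (MulAut.conj (g : G)).toMonoidHom, hmem g H.1 H.2⟩
      one_smul := fun H => Subtype.ext (by
        show H.1.map (MulAut.conj ((1 : (P : Subgroup G)) : G)).toMonoidHom = H.1
        ext x; simp)
      mul_smul := fun g h H => Subtype.ext (by
        show H.1.map (MulAut.conj ((g * h : (P : Subgroup G)) : G)).toMonoidHom =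
          (H.1.map (MulAut.conj (h : G)).toMonoidHom).map (MulAut.conj (g : G)).toMonoidHom
        rw [Subgroup.map_map]
        congr 1
        ext x; simp [mul_assoc]) }
  -- the stabiliser of `H`
  have hstab : ∀ (H : X) (g : (P : Subgroup G)), g ∈ MulAction.stabilizer (P : Subgroup G) H ↔
      (g : G) ∈ normalizer (H.1 : Set G) := by
    intro H g
    rw [MulAction.mem_stabilizer_iff, Subtype.ext_iff, Cfsg.Lib.Core.mem_normalizer_iff_map_conj]
    rfl
  -- for `H` with stabiliser of index `p`
  have hdata : ∀ H : X, (MulAction.stabilizer (P : Subgroup G) H).index = p →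
      ∃ R : Subgroup G, IsPGroup p R ∧ Nat.card R = p ^ m ∧ R ≠ (P : Subgroup G) ∧
        H.1 ⊔ (MulAction.stabilizer (P : Subgroup G) H).map (P : Subgroup G).subtype = R := by
    intro H hi
    set Q := (MulAction.stabilizer (P : Subgroup G) H).map (P : Subgroup G).subtype
    have hQN : Q ≤ normalizer (H.1 : Set G) := by
      rintro _ ⟨g, hg, rfl⟩
      exact (hstab H g).1 hg
    have hHp : IsPGroup p H.1 := IsPGroup.of_card H.2.1
    have hQp : IsPGroup p Q := hP'.to_le (map_subtype_le _)
    have hR : IsPGroup p (H.1 ⊔ Q : Subgroup G) := by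
      rw [sup_comm]
      exact hQp.to_sup_of_normal_right' hHp hQN
    refine ⟨_, hR, le_antisymm (card_subgroup_mul hcardS hR) ?_, fun h => H.2.2 (h ▸ le_sup_left), rfl⟩
    have hQc : Nat.card Q * p = p ^ m := by
      have h1 := (MulAction.stabilizer (P : Subgroup G) H).card_mul_index
      rw [hi] at h1
      rw [card_map_of_injective (P : Subgroup G).subtype_injective]
      exact h1.trans hP
    have hlt : Q < H.1 ⊔ Q := right_lt_sup.2 fun h => H.2.2 (h.trans (map_subtype_le _))
    obtain ⟨t, ht⟩ := card_dvd_of_le hlt.le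
    obtain ⟨j, hj⟩ := IsPGroup.iff_card.1 hR
    have h1 := Cfsg.Lib.Fusion.card_lt_card_of_lt hlt
    rw [ht]
    rw [← hQc]
    refine Nat.mul_le_mul_left _ ?_
    have htd : t ∣ p ^ j := ⟨Nat.card Q, by rw [← hj, ht, mul_comm]⟩
    obtain ⟨i, -, hti⟩ := (Nat.dvd_prime_pow hp.out).1 htd
    rcases i with _ | i
    · rw [hti, pow_zero, mul_one] at ht; omega
    · rw [hti]; exact Nat.le_self_pow (Nat.succ_ne_zero i) p
  -- partition `X` according to the stabiliser
  letI : Fintype X := Fintype.ofFinite _
  have hidx : ∀ H : X, (MulAction.stabilizer (P : Subgroup G) H).index ≠ 1 := by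
    intro H h
    have hle : (P : Subgroup G) ≤ normalizer (H.1 : Set G) := fun g hg =>
      (hstab H ⟨g, hg⟩).1 (index_eq_one.1 h ▸ mem_top _)
    have hR := hP'.to_sup_of_normal_right' (IsPGroup.of_card H.2.1) hle
    exact H.2.2 ((le_sup_right).trans (P.3 hR le_sup_left).le)
  set X₁ : Set X := {H | (MulAction.stabilizer (P : Subgroup G) H).index = p} with hX₁
  have hbig : p ^ 2 ∣ (X₁ᶜ : Set X).ncard := by
    have hinv : ∀ (g : (P : Subgroup G)) (H : X), g • H ∈ (X₁ᶜ : Set X) ↔ H ∈ (X₁ᶜ : Set X) := by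
      intro g H
      simp only [hX₁, Set.mem_compl_iff, Set.mem_setOf_eq, MulAction.stabilizer_smul_eq_stabilizer_map_conj]
      rw [index_map_of_bijective (MulEquiv.bijective _)]
    let Y : SubMulAction (P : Subgroup G) X :=
      { carrier := X₁ᶜ
        smul_mem' := fun g H h => (hinv g H).2 h }
    rw [← Nat.card_coe_set_eq]
    show p ^ 2 ∣ Nat.card Y
    rw [Nat.card_congr (MulAction.selfEquivSigmaOrbits (P : Subgroup G) Y)]
    letI := Fintype.ofFinite (MulAction.orbitRel.Quotient (P : Subgroup G) Y)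
    rw [Nat.card_sigma]
    refine Finset.dvd_sum fun ω _ => ?_
    obtain ⟨y, hy⟩ : ∃ y : Y, y = ω.out := ⟨_, rfl⟩
    · rw [← hy, Nat.card_congr (MulAction.orbitEquivQuotientStabilizer _ y), ← index_eq_card]
      have e : MulAction.stabilizer (P : Subgroup G) y = MulAction.stabilizer (P : Subgroup G) (y : X) :=
        SubMulAction.stabilizer_of_subMul y
      rw [e]
      obtain ⟨j, hj⟩ := hP'.index (MulAction.stabilizer (P : Subgroup G) (y : X))
      rcases j with _ | _ | j
      · exact absurd (hj.trans (pow_zero p)) (hidx _)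
      · exact absurd (hj.trans (pow_one p)) y.2
      · rw [hj]; exact pow_dvd_pow p (by omega)
  have hsmall : p ^ 2 ∣ X₁.ncard := by
    rw [Set.ncard_eq_toFinset_card', Finset.card_eq_sum_card_fiberwise
      (f := fun H : X => (MulAction.stabilizer (P : Subgroup G) H).map (P : Subgroup G).subtype)
      (t := (Finset.univ : Finset (Subgroup G)).filter fun Q => Q ≤ (P : Subgroup G) ∧ Q.relIndex (P : Subgroup G) = p)
      (fun H hH => by
        simp only [Set.coe_toFinset] at hH
        simp only [Finset.coe_filter, Finset.mem_univ, true_and, Set.mem_setOf_eq]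
        refine ⟨map_subtype_le _, ?_⟩
        rw [relIndex, subgroupOf, comap_map_eq_self_of_injective (P : Subgroup G).subtype_injective]
        exact hH)]
    refine Finset.dvd_sum fun Q hQ => ?_
    simp only [Finset.mem_filter, Finset.mem_univ, true_and] at hQ
    obtain ⟨hQP, hQi⟩ := hQ
    have hQc : Nat.card Q * p = p ^ m := by
      have h1 := (Q.subgroupOf (P : Subgroup G)).card_mul_index
      rw [show (Q.subgroupOf (P : Subgroup G)).index = p from hQi] at h1
      rw [← Nat.card_congr (subgroupOfEquivOfLe hQP).toEquiv]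
      exact h1.trans hP
    have haQ : p ^ a ≤ Nat.card Q := by
      refine Nat.le_of_mul_le_mul_right ?_ hp.out.pos
      rw [hQc, ← pow_succ]
      exact Nat.pow_le_pow_right hp.out.pos ha
    set N := normalizer (Q : Set G) with hN
    have hnormQ : ∀ S : Subgroup G, IsPGroup p S → Q ≤ S → Nat.card S = p ^ m → S ≤ N := by
      intro S hS hQS hc
      have hi : (Q.subgroupOf S).index = p := by
        have h1 := (Q.subgroupOf S).card_mul_index
        rw [Nat.card_congr (subgroupOfEquivOfLe hQS).toEquiv, hc, ← hQc] at h1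
        exact Nat.eq_of_mul_eq_mul_left Nat.card_pos h1
      exact (normal_subgroupOf_iff_le_normalizer hQS).1
        (Cfsg.Lib.PGroup.normal_of_isCoatom hS (isCoatom_of_index (p := p) _ hi))
    set Rs := (Finset.univ : Finset (Subgroup G)).filter
      fun R : Subgroup G => IsPGroup p R ∧ Q ≤ R ∧ Nat.card R = p ^ m ∧ R ≠ (P : Subgroup G) with hRs
    -- the fibre
    rw [Finset.card_eq_sum_card_fiberwise (f := fun H : X => H.1 ⊔ Q) (t := Rs) (fun H hH => by
      simp only [Finset.coe_filter, Set.mem_toFinset, Set.mem_setOf_eq] at hH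
      obtain ⟨R, h1, h2, h3, h4⟩ := hdata H hH.1
      rw [hH.2] at h4
      simp only [hRs, Finset.coe_filter, Finset.mem_univ, true_and, Set.mem_setOf_eq]
      rw [h4]
      exact ⟨h1, h4 ▸ le_sup_right, h2, h3⟩)]
    have hfib : ∀ R ∈ Rs, ((X₁.toFinset.filter fun H : X =>
        (MulAction.stabilizer (P : Subgroup G) H).map (P : Subgroup G).subtype = Q).filter
          fun H : X => H.1 ⊔ Q = R).card = (Out p a Q R).ncard := by
      intro R hR
      simp only [hRs, Finset.mem_filter, Finset.mem_univ, true_and] at hR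
      obtain ⟨hRp, hQR, hRc, hRne⟩ := hR
      rw [← Set.ncard_coe_finset]
      refine Set.ncard_congr (fun H _ => H.1) ?_ (fun H H' _ _ h => Subtype.ext h) ?_
      · intro H hH
        simp only [Finset.coe_filter, Set.mem_setOf_eq, Finset.mem_filter, Set.mem_toFinset] at hH
        obtain ⟨⟨hH1, hH2⟩, hH3⟩ := hH
        refine ⟨hH3 ▸ le_sup_left, H.2.1, fun h => H.2.2 (h.trans hQP), ?_⟩
        rw [← hH3, sup_le_iff]
        refine ⟨le_normalizer, ?_⟩
        rw [← hH2]
        rintro _ ⟨g, hg, rfl⟩
        exact (hstab H g).1 hg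
      · rintro H ⟨hHR, hHc, hHQ, hHn⟩
        have hRP : R ⊓ (P : Subgroup G) = Q := by
          refine (eq_of_le_of_card_ge (le_inf hQR hQP) ?_).symm
          have hlt : R ⊓ (P : Subgroup G) < P := lt_of_le_of_ne inf_le_right fun h =>
            hRne (eq_of_le_of_card_ge (h.ge.trans inf_le_left) (by rw [hRc, hP])).symm
          obtain ⟨t, ht⟩ := card_dvd_of_le hlt.le
          have h1 := Cfsg.Lib.Fusion.card_lt_card_of_lt hlt
          obtain ⟨i, -, hi⟩ := (Nat.dvd_prime_pow hp.out).1 (⟨Nat.card ↥(R ⊓ (P : Subgroup G)), by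
            rw [mul_comm, ← ht]; exact hP.symm⟩ : t ∣ p ^ m)
          rcases i with _ | i
          · rw [hi, pow_zero, mul_one] at ht; omega
          · refine Nat.le_of_mul_le_mul_right ?_ hp.out.pos
            rw [hQc, ← hP, ht, hi]
            exact Nat.mul_le_mul_left _ (Nat.le_self_pow (Nat.succ_ne_zero i) p)
        have hHP : ¬ H ≤ (P : Subgroup G) := fun h => hHQ (hRP ▸ le_inf hHR h)
        let H' : X := ⟨H, hHc, hHP⟩
        have hle : Q.subgroupOf (P : Subgroup G) ≤ MulAction.stabilizer (P : Subgroup G) H' := fun g hg =>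
          (hstab H' g).2 (hHn (hQR hg))
        have hi : (MulAction.stabilizer (P : Subgroup G) H').index = p := by
          have hd := index_dvd_of_le hle
          rw [show (Q.subgroupOf (P : Subgroup G)).index = p from hQi] at hd
          rcases (Nat.dvd_prime hp.out).1 hd with h | h
          · exact absurd h (hidx H')
          · exact h
        have heq : (MulAction.stabilizer (P : Subgroup G) H').map (P : Subgroup G).subtype = Q := by
          conv_rhs => rw [← map_subgroupOf_eq_of_le hQP]
          congr 1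
          refine (eq_of_le_of_card_ge hle ?_).symm
          have h1 := (MulAction.stabilizer (P : Subgroup G) H').card_mul_index
          have h2 := (Q.subgroupOf (P : Subgroup G)).card_mul_index
          rw [hi] at h1
          rw [show (Q.subgroupOf (P : Subgroup G)).index = p from hQi] at h2
          exact le_of_eq (Nat.eq_of_mul_eq_mul_right hp.out.pos (h1.trans h2.symm))
        have hsup : H ⊔ Q = R := by
          obtain ⟨R', h1, h2, -, h4⟩ := hdata H' hi
          rw [heq] at h4
          exact eq_of_le_of_card_ge (sup_le hHR hQR) (le_of_eq (by rw [hRc, ← h2, ← h4]))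
        refine ⟨H', ?_, rfl⟩
        simp only [Finset.coe_filter, Set.mem_setOf_eq, Finset.mem_filter, Set.mem_toFinset]
        exact ⟨⟨hi, heq⟩, hsup⟩
    rw [Finset.sum_congr rfl hfib]
    -- all the values agree, and the number of terms is divisible by `p`
    have hPN : (P : Subgroup G) ≤ N := hnormQ P hP' hQP hP
    rcases Rs.eq_empty_or_nonempty with h | ⟨R₀, hR₀⟩
    · simp [h]
    have hconst : ∀ R ∈ Rs, (Out p a Q R).ncard = (Out p a Q R₀).ncard := by
      intro R hR
      simp only [hRs, Finset.mem_filter, Finset.mem_univ, true_and] at hR hR₀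
      obtain ⟨hRp, hQR, hRc, -⟩ := hR
      obtain ⟨hR₀p, hQR₀, hR₀c, -⟩ := hR₀
      let S : Sylow p G := Sylow.ofCard R (hRc.trans ((hcardS P).symm.trans (Sylow.card_eq_multiplicity P)))
      let S₀ : Sylow p G := Sylow.ofCard R₀ (hR₀c.trans ((hcardS P).symm.trans (Sylow.card_eq_multiplicity P)))
      have hSN : (S : Subgroup G) ≤ N := hnormQ R hRp hQR hRc
      have hS₀N : (S₀ : Subgroup G) ≤ N := hnormQ R₀ hR₀p hQR₀ hR₀c
      obtain ⟨n, hn⟩ := MulAction.exists_smul_eq N (S₀.subtype hS₀N) (S.subtype hSN)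
      have hn' : R₀.map (MulAut.conj (n : G)).toMonoidHom = R := by
        have h1 := congrArg (fun T : Sylow p N => (T : Subgroup N).map N.subtype) hn
        simp only [Sylow.coe_subgroup_smul, Sylow.coe_subtype] at h1
        rw [map_subgroupOf_eq_of_le hSN] at h1
        rw [show R = (S : Subgroup G) from rfl, ← h1]
        ext x
        constructor
        · rintro ⟨y, hy, rfl⟩
          exact ⟨MulAut.conj n ⟨y, hS₀N hy⟩, ⟨⟨y, hS₀N hy⟩, hy, rfl⟩, rfl⟩
        · rintro ⟨_, ⟨y, hy, rfl⟩, rfl⟩
          exact ⟨y, hy, rfl⟩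
      have key : ∀ (k : G), k ∈ N → ∀ R R' : Subgroup G, R.map (MulAut.conj k).toMonoidHom = R' →
          (Out p a Q R).ncard ≤ (Out p a Q R').ncard := by
        intro k hk R R' hRR'
        refine Set.ncard_le_ncard_of_injOn (fun H => H.map (MulAut.conj k).toMonoidHom) ?_
          (fun H _ H' _ h => map_injective (MulEquiv.injective _) h) (Set.toFinite _)
        rintro H ⟨h1, h2, h3, h4⟩
        refine ⟨hRR' ▸ map_mono h1, by rw [card_map_of_injective (MulEquiv.injective _)]; exact h2, fun h => h3 ?_, ?_⟩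
        · intro x hx
          exact (mem_normalizer_iff.1 hk x).2 (h ⟨x, hx, rfl⟩)
        · rw [← hRR']
          rintro _ ⟨r, hr, rfl⟩
          rw [Cfsg.Lib.Core.mem_normalizer_iff_map_conj, Subgroup.map_map]
          conv_rhs => rw [← (Cfsg.Lib.Core.mem_normalizer_iff_map_conj.1 (h4 hr)), Subgroup.map_map]
          congr 1
          ext x; simp [mul_assoc]
      refine le_antisymm (key (n : G)⁻¹ (inv_mem n.2) R R₀ ?_) (key n n.2 R₀ R hn')
      rw [← hn', Subgroup.map_map]
      conv_rhs => rw [← Subgroup.map_id R₀]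
      congr 1
      ext x; simp [mul_assoc]
    rw [Finset.sum_congr rfl hconst, Finset.sum_const, smul_eq_mul, sq]
    refine mul_dvd_mul ?_ (out_dvd (Finset.mem_filter.1 hR₀).2.1 (Finset.mem_filter.1 hR₀).2.2.1
      (hnormQ R₀ (Finset.mem_filter.1 hR₀).2.1 (Finset.mem_filter.1 hR₀).2.2.1 (Finset.mem_filter.1 hR₀).2.2.2.1) a haQ)
    -- `Rs` together with `P` are the Sylow subgroups of `N`
    have hmemP : (P : Subgroup G) ∉ Rs := fun h => (Finset.mem_filter.1 h).2.2.2.2 rfl
    have hcard : (insert (P : Subgroup G) Rs).card = Nat.card (Sylow p N) := by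
      rw [← Set.ncard_coe_finset, ← Nat.card_coe_set_eq]
      refine (Nat.card_congr (Equiv.ofBijective (fun T : Sylow p N => (⟨(T : Subgroup N).map N.subtype, ?_⟩ :
        ((insert (P : Subgroup G) Rs : Finset (Subgroup G)) : Set (Subgroup G)))) ⟨fun T T' h => ?_, fun R => ?_⟩)).symm
      · have hTc : Nat.card ((T : Subgroup N).map N.subtype) = p ^ m := by
          rw [card_map_of_injective N.subtype_injective, Sylow.card_eq_multiplicity T,
            ← Sylow.card_eq_multiplicity (P.subtype hPN), Sylow.coe_subtype,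
            Nat.card_congr (subgroupOfEquivOfLe hPN).toEquiv]
          exact hP
        have hQT : Q ≤ (T : Subgroup N).map N.subtype := by
          have hQp : IsPGroup p (Q.subgroupOf N) :=
            (hP'.to_le hQP).comap_of_injective _ N.subtype_injective
          haveI : (Q.subgroupOf N).Normal := (normal_subgroupOf_iff_le_normalizer le_normalizer).2 le_rfl
          have hle : Q.subgroupOf N ≤ (T : Subgroup N) :=
            (Cfsg.Lib.Core.le_pCore' inferInstance hQp).trans (Cfsg.Lib.Core.pCore_le_sylow T)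
          intro x hx
          exact ⟨⟨x, le_normalizer hx⟩, hle hx, rfl⟩
        simp only [Finset.coe_insert, Set.mem_insert_iff, Finset.mem_coe]
        by_cases h : (T : Subgroup N).map N.subtype = (P : Subgroup G)
        · exact Or.inl h
        · exact Or.inr (Finset.mem_filter.2 ⟨Finset.mem_univ _, T.2.map _, hQT, hTc, h⟩)
      · exact Sylow.ext (map_injective N.subtype_injective (congrArg Subtype.val h))
      · obtain ⟨R, hR⟩ := R
        simp only [Finset.coe_insert, Set.mem_insert_iff, Finset.mem_coe] at hR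
        rcases hR with hR | hR
        · refine ⟨P.subtype hPN, Subtype.ext ?_⟩
          show ((P : Subgroup G).subgroupOf N).map N.subtype = R
          exact (map_subgroupOf_eq_of_le hPN).trans hR.symm
        · obtain ⟨-, hRp, hQR, hRc, -⟩ := Finset.mem_filter.1 hR
          have hRN := hnormQ R hRp hQR hRc
          let S : Sylow p G := Sylow.ofCard R (hRc.trans ((hcardS P).symm.trans (Sylow.card_eq_multiplicity P)))
          refine ⟨S.subtype hRN, Subtype.ext ?_⟩
          show (R.subgroupOf N).map N.subtype = R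
          exact map_subgroupOf_eq_of_le hRN
    rw [Finset.card_insert_of_notMem hmemP] at hcard
    have h1 := card_sylow_modEq_one p N
    rw [← hcard] at h1
    exact Nat.modEq_zero_iff_dvd.1 (Nat.ModEq.add_right_cancel' 1 (by rw [zero_add]; exact h1))
  have hXc : X.ncard = X₁.ncard + (X₁ᶜ : Set X).ncard := by
    rw [Set.ncard_add_ncard_compl, Nat.card_coe_set_eq]
  rw [hXc]
  exact dvd_add hsmall hbig

/-- Let G be a finite group, p a prime and a a natural number such that p^(a+1) divides the order of G. Then the number of subgroups of G of order p^a is congruent to 1 or to 1 + p modulo p². -/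
theorem result {G : Type*} [Group G] [Finite G] (p a : ℕ) (hp : p.Prime) (hdvd : p ^ (a + 1) ∣ Nat.card G) :
    Nat.card {H : Subgroup G // Nat.card H = p ^ a} ≡ 1 [MOD p ^ 2] ∨
      Nat.card {H : Subgroup G // Nat.card H = p ^ a} ≡ 1 + p [MOD p ^ 2] := by
  classical
  haveI := Fact.mk hp
  obtain ⟨P⟩ : Nonempty (Sylow p G) := inferInstance
  set m := (Nat.card G).factorization p with hm
  have hP : Nat.card P = p ^ m := Sylow.card_eq_multiplicity P
  have ham : a < m := (Nat.Prime.pow_dvd_iff_le_factorization hp Nat.card_pos.ne').1 hdvd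
  rcases Nat.eq_zero_or_pos a with rfl | ha
  · left
    have : Nat.card {H : Subgroup G // Nat.card H = p ^ 0} = 1 := by
      rw [Nat.card_eq_one_iff_unique]
      refine ⟨⟨fun A B => Subtype.ext ?_⟩, ⟨⟨⊥, by simp⟩⟩⟩
      rw [Subgroup.eq_bot_of_card_eq _ (A.2.trans (pow_zero p)), Subgroup.eq_bot_of_card_eq _ (B.2.trans (pow_zero p))]
    rw [this]
  have h1 := count_eq P hP ham
  rw [Cfsg.Lib.PGroup.Kulakoff.cnt_eq_top] at h1
  have h2 := Cfsg.Lib.PGroup.Kulakoff.cnt_mod_sq' (G := (P : Subgroup G)) hP ha ham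
  by_cases hx : Cfsg.Lib.PGroup.Kulakoff.Exc p a (P : Subgroup G)
  · rw [if_pos hx] at h2
    exact Or.inl (h1.trans h2)
  · rw [if_neg hx] at h2
    exact Or.inr (h1.trans h2)

end Cfsg.Agent.S4237
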