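import Cfsg.Statements.S4238
import Cfsg.Agent.Lib.Fusion.Alperin
import Cfsg.Agent.Lib.Coprime.Action
import Cfsg.Agent.Lib.PGroup.Basic
import Cfsg.Agent.Lib.Core.Cores

set_option linter.style.haveILetI false

set_option autoImplicit false
open Cfsg

namespace Cfsg.Agent.S4238

open Subgroup
open scoped commutatorElement

/-- Let G be a finite group and p a prime. Then G has a normal p-complement if and only if every section K = H/N of G (N a normal subgroup of a subgroup H) whose largest normal subgroup of order prime to p is trivial contains an element whose order equals the exponent of K. -/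
theorem result {G : Type*} [Group G] [Finite G] (p : ℕ) [Fact p.Prime] :
    Cfsg.HasNormalPComplement p G ↔
      ∀ (H : Subgroup G) (N : Subgroup H) [N.Normal], Cfsg.pPrimeCore p (H ⧸ N) = ⊥ →
        ∃ k : H ⧸ N, orderOf k = Monoid.exponent (H ⧸ N) := by
  classical
  have hp : p.Prime := Fact.out
  constructor
  · intro hG H N _ hO
    have hK : Cfsg.HasNormalPComplement p (H ⧸ N) :=
      Cfsg.Lib.Fusion.hasNormalPComplement_of_surjective (QuotientGroup.mk' N) (QuotientGroup.mk'_surjective N)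
        (Cfsg.Lib.Fusion.hasNormalPComplement_subgroup hG H)
    have hres : Cfsg.pResidual p (H ⧸ N) = ⊥ := le_bot_iff.mp (hO ▸ Cfsg.Lib.Core.le_pPrimeCore'
      inferInstance (Cfsg.Lib.Fusion.hasNormalPComplement_iff_coprime.mp hK))
    have hpg : IsPGroup p (H ⧸ N) := by
      obtain ⟨k, hk⟩ := Cfsg.Lib.Fusion.index_pResidual_eq_pow (p := p) (G := H ⧸ N)
      rw [hres, index_bot] at hk
      exact IsPGroup.of_card hk
    haveI : Fintype (H ⧸ N) := Fintype.ofFinite _
    obtain ⟨k, -, hmax⟩ := Finset.exists_max_image (Finset.univ : Finset (H ⧸ N)) orderOf ⟨1, Finset.mem_univ _⟩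
    refine ⟨k, Nat.dvd_antisymm (Monoid.order_dvd_exponent k) (Monoid.exponent_dvd_of_forall_pow_eq_one fun g => ?_)⟩
    obtain ⟨a, ha⟩ := IsPGroup.iff_orderOf.mp hpg g
    obtain ⟨b, hb⟩ := IsPGroup.iff_orderOf.mp hpg k
    have hle := hmax g (Finset.mem_univ _)
    rw [ha, hb] at hle
    refine orderOf_dvd_iff_pow_eq_one.mp ?_
    rw [ha, hb]
    exact pow_dvd_pow p ((Nat.pow_le_pow_iff_right hp.one_lt).mp hle)
  · intro hsec
    obtain ⟨P⟩ : Nonempty (Sylow p G) := inferInstance
    by_contra hG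
    refine hG (Cfsg.Lib.Fusion.hasNormalPComplement_of_tame P fun S _ x₀ hx₀ hx₀o => ?_)
    set D₀ := (P : Subgroup G) ⊓ (S : Subgroup G) with hD₀
    by_contra hx₀c
    have hD₀p : IsPGroup p D₀ := P.2.to_le inf_le_left
    -- a witness of least order
    have hex : ∃ n : ℕ, ∃ x : G, orderOf x = n ∧ x ∈ normalizer (D₀ : Set G) ∧ (orderOf x).Coprime p ∧
        x ∉ centralizer (D₀ : Set G) := ⟨_, x₀, rfl, hx₀, hx₀o, hx₀c⟩
    obtain ⟨x, hxn, hxN, hxo, hxc⟩ := Nat.find_spec hex
    have hsmall : ∀ j : ℕ, orderOf (x ^ j) < orderOf x → x ^ j ∈ centralizer (D₀ : Set G) := by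
      intro j hj
      by_contra hc
      refine Nat.find_min hex (hxn ▸ hj) ⟨_, rfl, pow_mem hxN j, ?_, hc⟩
      exact hxo.coprime_dvd_left (orderOf_pow_dvd j)
    obtain ⟨q, hq, hqd, hxq⟩ : ∃ q, q.Prime ∧ q ∣ orderOf x ∧ x ^ q ∈ centralizer (D₀ : Set G) := by
      have h1 : orderOf x ≠ 1 := fun h => hxc (by rw [orderOf_eq_one_iff.mp h]; exact one_mem _)
      obtain ⟨q, hq, hqd⟩ := Nat.exists_prime_and_dvd h1
      refine ⟨q, hq, hqd, hsmall q ?_⟩
      rw [orderOf_pow_of_dvd hq.ne_zero hqd]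
      exact Nat.div_lt_self (orderOf_pos x) hq.one_lt
    haveI : Fact q.Prime := ⟨hq⟩
    have hqp : q ≠ p := fun e => hp.coprime_iff_not_dvd.mp hxo.symm (e ▸ hqd)
    set A := zpowers x with hA
    have hAN : A ≤ normalizer (D₀ : Set G) := zpowers_le.mpr hxN
    obtain ⟨j₀, hj₀⟩ := IsPGroup.iff_card.mp hD₀p
    have hcop₀ : (Nat.card A).Coprime (Nat.card D₀) := by
      rw [Nat.card_zpowers, hj₀]; exact hxo.pow_right j₀
    have hsol₀ : Group.IsSolvable A ∨ Group.IsSolvable D₀ := by
      right; haveI := hD₀p.isNilpotent; infer_instance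
    set D := ⁅D₀, A⁆ with hDdef
    have hDD : ⁅D, A⁆ = D := Cfsg.Lib.Coprime.commutator_commutator_eq hAN hcop₀ hsol₀
    have hDle : D ≤ D₀ := Cfsg.Lib.Coprime.commutator_le_of_le_normalizer hAN
    have hDne : D ≠ ⊥ := fun h => hxc (le_centralizer_iff.mp (commutator_eq_bot_iff_le_centralizer.mp h)
      (mem_zpowers x))
    have hDp : IsPGroup p D := hD₀p.to_le hDle
    have hAD : A ≤ normalizer (D : Set G) := normalizer_commutator_ge_right D₀ A
    -- the section
    set H := D ⊔ A with hH
    set Φ := (frattini ↥D).map D.subtype with hΦ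
    set N₀ := Φ ⊔ zpowers (x ^ q) with hN₀
    have hΦD : Φ ≤ D := map_subtype_le _
    have hxH : x ∈ H := mem_sup_right (mem_zpowers x)
    have hDH : D ≤ H := le_sup_left
    have hHΦ : H ≤ normalizer (Φ : Set G) :=
      (sup_le le_normalizer hAD).trans (Cfsg.Lib.Core.normalizer_le_normalizer_map_char _)
    have hxqc : H ≤ centralizer (zpowers (x ^ q) : Set G) := by
      refine le_centralizer_iff.mp (zpowers_le.mpr (mem_centralizer_iff.mpr ?_))
      intro h hh
      have hmem : h ∈ centralizer ({x ^ q} : Set G) := by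
        refine (sup_le (fun d hd => ?_) (zpowers_le.mpr ?_) : H ≤ centralizer ({x ^ q} : Set G)) hh
        · rw [mem_centralizer_iff]
          rintro _ rfl
          exact (mem_centralizer_iff.mp hxq d (hDle hd)).symm
        · rw [mem_centralizer_iff]
          rintro _ rfl
          exact (Commute.self_pow x q).symm.eq
      exact (mem_centralizer_iff.mp hmem (x ^ q) rfl).symm
    have hHN : H ≤ normalizer (N₀ : Set G) := fun g hg => by
      have h1 := mem_normalizer_iff_map_conj_eq.mp (hHΦ hg)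
      have h2 := mem_normalizer_iff_map_conj_eq.mp (centralizer_le_normalizer _ (hxqc hg))
      rw [mem_normalizer_iff_map_conj_eq, hN₀, Subgroup.map_sup, h1, h2]
    have hN₀H : N₀ ≤ H := sup_le (hΦD.trans hDH) (zpowers_le.mpr (pow_mem hxH q))
    haveI hNn : (N₀.subgroupOf H).Normal := (normal_subgroupOf_iff_le_normalizer hN₀H).mpr hHN
    set f := QuotientGroup.mk' (N₀.subgroupOf H) with hf
    have hf1 : ∀ u : H, f u = 1 ↔ (u : G) ∈ N₀ := fun u =>
      (QuotientGroup.eq_one_iff u).trans mem_subgroupOf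
    have hfs : Function.Surjective f := QuotientGroup.mk'_surjective _
    set V := (D.subgroupOf H).map f with hV
    set X := zpowers (f ⟨x, hxH⟩) with hX
    have hDsub : (D.subgroupOf H).map H.subtype = D := map_subgroupOf_eq_of_le hDH
    haveI hVn : V.Normal := ((normal_subgroupOf_iff_le_normalizer hDH).mpr (sup_le le_normalizer hAD)).map f hfs
    have hVp : IsPGroup p V := (hDp.of_equiv (subgroupOfEquivOfLe hDH).symm).map f
    have hVpow : ∀ v ∈ V, v ^ p = 1 := by
      rintro _ ⟨u, hu, rfl⟩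
      rw [← map_pow, hf1, SubmonoidClass.coe_pow]
      exact mem_sup_left ⟨⟨_, hu⟩ ^ p, Cfsg.Lib.PGroup.pow_mem_frattini hDp _, rfl⟩
    haveI hVc : IsMulCommutative V := by
      refine ⟨⟨fun ⟨a, ha⟩ ⟨b, hb⟩ => Subtype.ext ?_⟩⟩
      obtain ⟨u, hu, rfl⟩ := ha
      obtain ⟨w, hw, rfl⟩ := hb
      show f u * f w = f w * f u
      rw [← commutatorElement_eq_one_iff_mul_comm, ← map_commutatorElement, hf1]
      refine mem_sup_left ⟨⁅(⟨(u : G), hu⟩ : D), ⟨(w : G), hw⟩⁆,
        Cfsg.Lib.PGroup.commutator_le_frattini hDp (commutator_mem_commutator (mem_top _) (mem_top _)), ?_⟩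
      rfl
    have hXq : f ⟨x, hxH⟩ ^ q = 1 := by
      rw [← map_pow, hf1, SubmonoidClass.coe_pow]
      exact mem_sup_right (mem_zpowers _)
    have hVX : V ⊔ X = ⊤ := by
      have : D.subgroupOf H ⊔ A.subgroupOf H = ⊤ := by
        apply map_injective H.subtype_injective
        rw [Subgroup.map_sup, hDsub, map_subgroupOf_eq_of_le (le_sup_right : A ≤ H), ← MonoidHom.range_eq_map, range_subtype]
      have h2 : (A.subgroupOf H).map f = X := by
        have e : A.subgroupOf H = zpowers (⟨x, hxH⟩ : H) := by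
          apply map_injective H.subtype_injective
          rw [map_subgroupOf_eq_of_le (le_sup_right : A ≤ H), MonoidHom.map_zpowers]
          rfl
        rw [e, MonoidHom.map_zpowers]
      rw [hV, ← h2, ← Subgroup.map_sup, this, map_top_of_surjective f hfs]
    have hVne : V ≠ ⊥ := by
      intro h
      have hDN : D ≤ N₀ := fun d hd => (hf1 ⟨d, hDH hd⟩).mp
        (mem_bot.mp (h ▸ mem_map_of_mem f (show (⟨d, hDH hd⟩ : H) ∈ D.subgroupOf H from hd)))
      have hDΦ : D ≤ Φ := by
        intro d hd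
        obtain ⟨a, ha, b, hb, he⟩ := Cfsg.Lib.Coprime.exists_mul_of_mem_sup (N := Φ) (A := zpowers (x ^ q))
          ((zpowers_le.mpr (pow_mem hxH q)).trans hHΦ) (hDN hd)
        have hbD : b ∈ D := by
          rw [he] at hd
          have := D.mul_mem (D.inv_mem (hΦD ha)) hd
          rwa [inv_mul_cancel_left] at this
        obtain ⟨jD, hjD⟩ := IsPGroup.iff_card.mp hDp
        have hb1 : b = 1 := orderOf_eq_one_iff.mp (Nat.eq_one_of_dvd_coprimes (hxo.pow_right jD)
          ((orderOf_dvd_natCard _ (zpowers_le.mpr (pow_mem (mem_zpowers x) q) hb)).trans (Nat.card_zpowers x).dvd)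
          (hjD ▸ orderOf_dvd_natCard D hbD))
        rw [he, hb1, mul_one]; exact ha
      haveI : Nontrivial D := (nontrivial_iff_ne_bot D).mpr hDne
      refine Cfsg.Lib.PGroup.frattini_ne_top (G := D) (map_injective D.subtype_injective ?_)
      rw [← hΦ, ← MonoidHom.range_eq_map, range_subtype]
      exact le_antisymm hΦD hDΦ
    obtain ⟨jV, hjV⟩ := IsPGroup.iff_card.mp hVp
    have hXdvd : Nat.card X ∣ q := by
      rw [hX, Nat.card_zpowers]; exact orderOf_dvd_of_pow_eq_one hXq
    have hcop : (Nat.card X).Coprime (Nat.card V) := by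
      rw [hjV]
      exact (((Nat.coprime_primes hq hp).mpr hqp).pow_right jV).coprime_dvd_left hXdvd
    have hXN : X ≤ normalizer (V : Set _) := by rw [normalizer_eq_top]; exact le_top
    have hfpf : V ⊓ centralizer (X : Set _) = ⊥ := by
      have hVV : V ≤ ⁅V, X⁆ := by
        have e : (⁅D.subgroupOf H, A.subgroupOf H⁆).map H.subtype = D := by
          rw [map_commutator, hDsub, map_subgroupOf_eq_of_le (le_sup_right : A ≤ H), hDD]
        rw [hV]
        conv_lhs => rw [← map_injective H.subtype_injective (e.trans hDsub.symm)]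
        rw [map_commutator]
        refine commutator_mono le_rfl ?_
        rintro _ ⟨a, ha, rfl⟩
        obtain ⟨i, hi⟩ := mem_zpowers_iff.mp (mem_subgroupOf.mp ha)
        exact ⟨i, (map_zpow f _ i).symm.trans (congrArg f (Subtype.ext ((coe_zpow _ _ _).trans hi)))⟩
      exact le_bot_iff.mp ((inf_le_inf_right _ hVV).trans
        (Cfsg.Lib.Coprime.disjoint_commutator_centralizer hXN hcop).le_bot)
    have hX1 : f ⟨x, hxH⟩ ≠ 1 := by
      intro h
      refine hVne (le_bot_iff.mp (hfpf ▸ le_inf le_rfl (le_centralizer_iff.mp (zpowers_le.mpr ?_))))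
      rw [h]; exact one_mem _
    have hO : Cfsg.pPrimeCore p (↥H ⧸ N₀.subgroupOf H) = ⊥ := by
      set M := Cfsg.pPrimeCore p (↥H ⧸ N₀.subgroupOf H) with hM
      have hMc := Cfsg.Lib.Core.pPrimeCore_coprime p (↥H ⧸ N₀.subgroupOf H)
      have hMV : M ⊓ V = ⊥ := disjoint_iff.mp (Cfsg.Lib.Coprime.disjoint_of_coprime_card
        (by rw [hjV]; exact hMc.pow_right jV))
      refine eq_bot_iff.mpr fun m hm => ?_
      obtain ⟨v, hv, s, hs, he⟩ := Cfsg.Lib.Coprime.exists_mul_of_mem_sup hXN (hVX ▸ mem_top m)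
      -- `m` centralizes `V`, hence so does `s`
      have hmV : ∀ w ∈ V, w * s = s * w := by
        intro w hw
        have h1 : Commute m w := commute_of_normal_of_disjoint M V inferInstance hVn (disjoint_iff.mpr hMV) m w hm hw
        have h2 : v * w = w * v := congrArg Subtype.val (hVc.is_comm.comm (⟨v, hv⟩ : V) ⟨w, hw⟩)
        have h3 : v * (s * w) = v * (w * s) := by
          rw [← mul_assoc, ← he, h1.eq, ← mul_assoc, h2, mul_assoc, ← he]
        exact (mul_left_cancel h3).symm
      by_cases hs1 : s = 1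
      · rw [hs1, mul_one] at he
        exact mem_bot.mpr (mem_bot.mp (hMV ▸ mem_inf.mpr ⟨hm, he ▸ hv⟩))
      exfalso
      have hgen : X = zpowers s := by
        refine (eq_of_le_of_card_ge (zpowers_le.mpr hs) ?_).symm
        have h1 := Nat.card_zpowers s
        rcases (Nat.dvd_prime hq).mp ((orderOf_dvd_natCard X hs).trans hXdvd) with ho | ho
        · exact absurd (orderOf_eq_one_iff.mp ho) hs1
        · rw [h1, ho]; exact Nat.le_of_dvd hq.pos hXdvd
      refine hVne (le_bot_iff.mp (hfpf ▸ le_inf le_rfl ?_))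
      rw [hgen, le_centralizer_iff, zpowers_le]
      exact mem_centralizer_iff.mpr hmV
    obtain ⟨k, hk⟩ := hsec H (N₀.subgroupOf H) hO
    -- the exponent is divisible by `p * q`
    have hdvdp : p ∣ orderOf k := by
      obtain ⟨v, hv, hv1⟩ := (bot_or_exists_ne_one V).resolve_left hVne
      rw [hk]
      refine dvd_trans ?_ (Monoid.order_dvd_exponent v)
      rw [orderOf_eq_prime (hVpow v hv) hv1]
    have hdvdq : q ∣ orderOf k := by
      rw [hk]
      refine dvd_trans ?_ (Monoid.order_dvd_exponent (f ⟨x, hxH⟩))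
      rw [orderOf_eq_prime hXq hX1]
    set a := k ^ (orderOf k / p) with ha
    set b := k ^ (orderOf k / q) with hb
    have hao : orderOf a = p := by
      rw [ha, orderOf_pow_of_dvd (Nat.div_ne_zero_iff_of_dvd hdvdp |>.mpr ⟨(orderOf_pos k).ne', hp.ne_zero⟩) (Nat.div_dvd_of_dvd hdvdp), Nat.div_div_self hdvdp (orderOf_pos k).ne']
    have hbo : orderOf b = q := by
      rw [hb, orderOf_pow_of_dvd (Nat.div_ne_zero_iff_of_dvd hdvdq |>.mpr ⟨(orderOf_pos k).ne', hq.ne_zero⟩) (Nat.div_dvd_of_dvd hdvdq), Nat.div_div_self hdvdq (orderOf_pos k).ne']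
    have hab : Commute a b := (Commute.refl k).pow_pow _ _
    have haV : a ∈ V := by
      obtain ⟨v, hv, s, hs, he⟩ := Cfsg.Lib.Coprime.exists_mul_of_mem_sup hXN (hVX ▸ mem_top a)
      let π := QuotientGroup.mk' V
      have h1 : orderOf (π a) ∣ p := hao ▸ orderOf_map_dvd π a
      have h2 : π a = π s := by
        rw [he, map_mul, show π v = 1 from (QuotientGroup.eq_one_iff v).mpr hv, one_mul]
      have h3 : orderOf (π a) ∣ q :=
        h2 ▸ (orderOf_map_dvd π s).trans ((orderOf_dvd_natCard X hs).trans hXdvd)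
      exact (QuotientGroup.eq_one_iff a).mp (orderOf_eq_one_iff.mp
        (Nat.eq_one_of_dvd_coprimes ((Nat.coprime_primes hp hq).mpr hqp.symm) h1 h3))
    obtain ⟨v, hv, s, hs, he⟩ := Cfsg.Lib.Coprime.exists_mul_of_mem_sup hXN (hVX ▸ mem_top b)
    have hs1 : s ≠ 1 := fun h => by
      rw [h, mul_one] at he
      have h1 : orderOf b ∣ p := orderOf_dvd_of_pow_eq_one (he ▸ hVpow v hv)
      rw [hbo] at h1
      exact hqp ((Nat.prime_dvd_prime_iff_eq hq hp).mp h1)
    have has : a * s = s * a := by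
      have h2 : v * a = a * v := congrArg Subtype.val (hVc.is_comm.comm (⟨v, hv⟩ : V) ⟨a, haV⟩)
      have h3 : v * (a * s) = v * (s * a) := by
        rw [← mul_assoc, h2, mul_assoc, ← he, hab.eq, he, mul_assoc]
      exact mul_left_cancel h3
    have hgen : X = zpowers s := by
      refine (eq_of_le_of_card_ge (zpowers_le.mpr hs) ?_).symm
      rcases (Nat.dvd_prime hq).mp ((orderOf_dvd_natCard X hs).trans hXdvd) with ho | ho
      · exact absurd (orderOf_eq_one_iff.mp ho) hs1
      · exact le_trans (Nat.le_of_dvd hq.pos hXdvd) ((Nat.card_zpowers s).trans ho).ge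
    have ha1 : a = 1 := mem_bot.mp (hfpf ▸ mem_inf.mpr ⟨haV, by
      rw [hgen]
      exact mem_centralizer_iff.mpr fun y hy => by
        obtain ⟨i, rfl⟩ := mem_zpowers_iff.mp hy
        exact ((show Commute a s from has).zpow_right i).symm⟩)
    rw [ha1, orderOf_one] at hao
    exact hp.one_lt.ne hao

end Cfsg.Agent.S4238
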