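import Cfsg.Statements.S4242
import Cfsg.Agent.Lib.Fusion.Alperin
import Cfsg.Agent.Lib.Thompson.FixedPointFree
import Cfsg.Agent.Lib.Coprime.Action
import Cfsg.Agent.Lib.Core.Cores

set_option linter.style.haveILetI false

set_option autoImplicit false
open Cfsg

namespace Cfsg.Agent.S4242

open Subgroup

theorem isNilpotent_inj {A B : Type*} [Group A] [Group B] [Group.IsNilpotent B] (f : A →* B)
    (hf : Function.Injective f) : Group.IsNilpotent A :=
  Subgroup.isNilpotent_of_ker_le_center f (by rw [(MonoidHom.ker_eq_bot_iff f).mpr hf]; exact bot_le)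

/-- In a subgroup with a normal `p`-complement, `p'`-elements normalizing a `p`-subgroup centralize it. -/
theorem centralizes {G : Type*} [Group G] [Finite G] {p : ℕ} [Fact p.Prime] {M Q : Subgroup G}
    [Group.IsNilpotent M] (hQM : Q ≤ M) (hQ : IsPGroup p Q) {g : G} (hgM : g ∈ M)
    (hg : g ∈ normalizer (Q : Set G)) (hco : (orderOf g).Coprime p) : g ∈ centralizer (Q : Set G) := by
  have h := Cfsg.Lib.Fusion.mem_centralizer_of_hasNormalPComplement
    (G := M) (Cfsg.Lib.Thompson.hasNormalPComplement_of_isNilpotent (p := p))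
    (hQ.of_equiv (subgroupOfEquivOfLe hQM).symm) (g := ⟨g, hgM⟩)
    (mem_normalizer_iff.mpr fun x => by
      rw [mem_subgroupOf, mem_subgroupOf]; exact mem_normalizer_iff.mp hg x)
    (by rwa [Subgroup.orderOf_mk])
  exact fun q hq => congrArg Subtype.val (h ⟨q, hQM hq⟩ (mem_subgroupOf.mpr hq))

theorem isNilpotent_le {G : Type*} [Group G] {H M : Subgroup G} (h : H ≤ M) [Group.IsNilpotent M] :
    Group.IsNilpotent H :=
  isNilpotent_inj (inclusion h) (inclusion_injective h)

theorem exists_coatom_ge {G : Type*} [Group G] [Finite G] {H : Subgroup G} (h : H ≠ ⊤) :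
    ∃ M, IsCoatom M ∧ H ≤ M := (eq_top_or_exists_le_coatom H).resolve_left h

/-- Let G be a finite group and p a prime dividing its order. Every maximal subgroup of G of order divisible by p is nilpotent if and only if G is nilpotent, or G is a minimal non-nilpotent group, or G is the internal direct product of a normal subgroup of order p and a normal minimal non-nilpotent subgroup of order prime to p. -/
theorem result {G : Type*} [Group G] [Finite G] (p : ℕ) (hp : p.Prime) (hpG : p ∣ Nat.card G) :
    (∀ M : Subgroup G, IsCoatom M → p ∣ Nat.card M → Group.IsNilpotent M) ↔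
      (Group.IsNilpotent G ∨ Cfsg.IsMinimalNonNilpotent G ∨
        ∃ Z K : Subgroup G, Z.Normal ∧ K.Normal ∧ Z ⊓ K = ⊥ ∧ Z ⊔ K = ⊤ ∧ Nat.card Z = p ∧
          Cfsg.IsMinimalNonNilpotent K ∧ ¬ p ∣ Nat.card K) := by
  classical
  haveI : Fact p.Prime := ⟨hp⟩
  constructor
  · intro hall
    by_cases hnil : Group.IsNilpotent G
    · exact Or.inl hnil
    by_cases hmnn : Cfsg.IsMinimalNonNilpotent G
    · exact Or.inr (Or.inl hmnn)
    refine Or.inr (Or.inr ?_)
    obtain ⟨H, hHt, hH⟩ : ∃ H : Subgroup G, H ≠ ⊤ ∧ ¬ Group.IsNilpotent H := by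
      by_contra! hh; exact hmnn ⟨hnil, hh⟩
    obtain ⟨M, hMc, hHM⟩ := exists_coatom_ge hHt
    have hMnil : ¬ Group.IsNilpotent M := fun h => hH (haveI := h; isNilpotent_le hHM)
    have hpM : ¬ p ∣ Nat.card M := fun h => hMnil (hall M hMc h)
    have hMco : ∀ m ∈ M, (orderOf m).Coprime p := fun m hm =>
      (hp.coprime_iff_not_dvd.mpr fun hd => hpM (hd.trans (orderOf_dvd_natCard M hm))).symm
    -- proper subgroups of order divisible by `p` are nilpotent
    have hloc : ∀ X : Subgroup G, X ≠ ⊤ → p ∣ Nat.card X → Group.IsNilpotent X := by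
      intro X hX hpX
      obtain ⟨M', hM', hle⟩ := exists_coatom_ge hX
      haveI := hall M' hM' (hpX.trans (card_dvd_of_le hle))
      exact isNilpotent_le hle
    have hdvd : ∀ X : Subgroup G, X ≠ ⊥ → IsPGroup p X → p ∣ Nat.card X := by
      intro X hX hXp
      obtain ⟨k, hk⟩ := IsPGroup.iff_card.mp hXp
      rw [hk]
      refine dvd_pow_self p fun h0 => hX (card_eq_one.mp ?_)
      rw [hk, h0, pow_zero]
    set N := Cfsg.pCore p G with hNdef
    have hNp : IsPGroup p N := Cfsg.Lib.Core.pCore_isPGroup p G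
    have hN : N ≠ ⊥ := by
      intro hbot
      obtain ⟨P⟩ : Nonempty (Sylow p G) := inferInstance
      have hcompl : Cfsg.HasNormalPComplement p G := by
        refine Cfsg.Lib.Fusion.hasNormalPComplement_of_tame P fun Q _ g hg hgo => ?_
        set D := (P : Subgroup G) ⊓ (Q : Subgroup G)
        by_cases hD : D = ⊥
        · rw [hD, mem_centralizer_iff]
          intro x hx
          rw [mem_bot.mp hx, one_mul, mul_one]
        have hDp : IsPGroup p D := P.2.to_le inf_le_left
        have hNt : normalizer (D : Set G) ≠ ⊤ := fun h => hD (le_bot_iff.mp (by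
          have := Cfsg.Lib.Core.le_pCore' (normalizer_eq_top_iff.mp h) hDp
          rwa [← hNdef, hbot] at this))
        haveI := hloc _ hNt ((hdvd D hD hDp).trans (card_dvd_of_le le_normalizer))
        exact centralizes le_normalizer hDp hg hg hgo
      set K := Cfsg.pResidual p G with hKdef
      have hKcop : (Nat.card K).Coprime p := Cfsg.Lib.Fusion.hasNormalPComplement_iff_coprime.mp hcompl
      have hKt : K ≠ ⊤ := fun h => by
        rw [h, card_top] at hKcop
        exact hp.coprime_iff_not_dvd.mp hKcop.symm hpG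
      have hMK : M = K := ((hMc.le_iff).mp
        (fun m hm => Cfsg.Lib.Fusion.mem_pResidual_of_coprime (hMco m hm) : M ≤ K)).resolve_left hKt |>.symm
      obtain ⟨z, hz⟩ := exists_prime_orderOf_dvd_card' p hpG
      set P₁ := zpowers z with hP₁
      have hP₁c : Nat.card P₁ = p := by rw [hP₁, Nat.card_zpowers, hz]
      have hzK : z ∉ K := fun h => hp.coprime_iff_not_dvd.mp hKcop.symm
        (hz ▸ orderOf_dvd_natCard K h)
      have hKc : IsCoatom K := hMK ▸ hMc
      have hsup : K ⊔ P₁ = ⊤ := hKc.2 _ (lt_of_le_of_ne le_sup_left fun e => hzK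
        (e ▸ mem_sup_right (mem_zpowers z)))
      have hcc : (Nat.card P₁).Coprime (Nat.card K) := by rw [hP₁c]; exact hKcop.symm
      have hPK : P₁ ≤ normalizer (K : Set G) := by rw [normalizer_eq_top]; exact le_top
      have hsolP : Group.IsSolvable P₁ ∨ Group.IsSolvable K := by
        have : (IsPGroup p P₁) := IsPGroup.of_card (n := 1) (by rw [hP₁c, pow_one])
        haveI := this.isNilpotent
        exact Or.inl inferInstance
      have hKC : K ≤ centralizer (P₁ : Set G) := by
        have hcard : Nat.card K ∣ Nat.card ↥(K ⊓ centralizer (P₁ : Set G)) := by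
          rw [Nat.dvd_iff_prime_pow_dvd_dvd]
          intro q k hq hk
          rcases Nat.eq_zero_or_pos k with hk0 | hk0
          · rw [hk0, pow_zero]; exact one_dvd _
          have hqp : q ≠ p := fun e =>
            hp.coprime_iff_not_dvd.mp hKcop.symm (e ▸ (dvd_pow_self q hk0.ne').trans hk)
          haveI : Fact q.Prime := ⟨hq⟩
          obtain ⟨Q, hQ⟩ := Cfsg.Lib.Coprime.exists_invariant_sylow hPK hcc hsolP q
          set Q' := (Q : Subgroup K).map K.subtype with hQ'
          have hQK : Q' ≤ K := map_subtype_le _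
          have hne : Q' ⊔ P₁ ≠ ⊤ := fun h => by
            refine hMnil (hMK ▸ ?_)
            have hKQ : K ≤ Q' := fun x hx => by
              obtain ⟨a, ha, b, hb, he⟩ := Cfsg.Lib.Coprime.exists_mul_of_mem_sup (N := Q') (A := P₁) hQ
                (h ▸ mem_top x)
              have hbK : b ∈ K := by
                rw [he] at hx
                have := mul_mem (inv_mem (hQK ha)) hx
                rwa [inv_mul_cancel_left] at this
              have hb1 : b = 1 := mem_bot.mp
                ((Cfsg.Lib.Coprime.disjoint_of_coprime_card hcc).eq_bot ▸ mem_inf.mpr ⟨hb, hbK⟩)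
              rw [he, hb1, mul_one]; exact ha
            haveI := (Q.2.map K.subtype).isNilpotent
            exact isNilpotent_le hKQ
          haveI := hloc _ hne (hP₁c ▸ card_dvd_of_le le_sup_right)
          have hzC : z ∈ centralizer (Q' : Set G) := centralizes (p := q) le_sup_left (Q.2.map _)
            (mem_sup_right (mem_zpowers z)) (hQ (mem_zpowers z)) (by
              rw [hz]
              exact (Nat.coprime_primes hp hq).mpr hqp.symm)
          have hQC : Q' ≤ K ⊓ centralizer (P₁ : Set G) := le_inf hQK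
            (le_centralizer_iff.mp (zpowers_le.mpr hzC))
          refine (pow_dvd_pow q ((hq.pow_dvd_iff_le_factorization Nat.card_pos.ne').mp hk)).trans ?_
          rw [← Q.card_eq_multiplicity, ← card_map_of_injective K.subtype_injective]
          exact card_dvd_of_le hQC
        exact inf_eq_left.mp (eq_of_le_of_card_ge inf_le_left (Nat.le_of_dvd Nat.card_pos hcard))
      have hnorm : normalizer (P₁ : Set G) = ⊤ := top_le_iff.mp
        (hsup ▸ sup_le (hKC.trans (centralizer_le_normalizer _)) le_normalizer)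
      have := Cfsg.Lib.Core.le_pCore' (normalizer_eq_top_iff.mp hnorm)
        (IsPGroup.of_card (n := 1) (by rw [hP₁c, pow_one]) : IsPGroup p P₁)
      rw [← hNdef, hbot, le_bot_iff] at this
      rw [this, card_bot] at hP₁c
      exact hp.one_lt.ne hP₁c
    have hNM : N ⊓ M = ⊥ := by
      obtain ⟨k, hk⟩ := IsPGroup.iff_card.mp hNp
      exact disjoint_iff.mp (Cfsg.Lib.Coprime.disjoint_of_coprime_card
        (by rw [hk]; exact Nat.Coprime.pow_left k (hp.coprime_iff_not_dvd.mpr hpM)))
    have hsupNM : ∀ X : Subgroup G, X ≤ N → X ≠ ⊥ → X ⊔ M = ⊤ := by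
      intro X hX hne
      refine hMc.2 _ (lt_of_le_of_ne le_sup_right fun e => hne (le_bot_iff.mp (hNM ▸ le_inf hX ?_)))
      rw [e]; exact le_sup_left
    have hYC : ∀ Y : Subgroup G, Y < M → Y ≤ centralizer (N : Set G) ∧ Group.IsNilpotent Y := by
      intro Y hY
      have hne : N ⊔ Y ≠ ⊤ := fun h => hY.not_ge fun m hm => by
        obtain ⟨n, hn, y, hy, he⟩ := mem_sup_of_normal_left.mp (h ▸ mem_top m : m ∈ N ⊔ Y)
        have hnM : n ∈ M := by
          rw [← he] at hm
          have := mul_mem hm (inv_mem (hY.le hy))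
          rwa [mul_inv_cancel_right] at this
        rw [← he, show n = 1 from mem_bot.mp (hNM ▸ mem_inf.mpr ⟨hn, hnM⟩), one_mul]; exact hy
      haveI := hloc _ hne ((hdvd N hN hNp).trans (card_dvd_of_le le_sup_left))
      refine ⟨fun y hy => centralizes le_sup_left hNp (mem_sup_right hy) ?_ (hMco y (hY.le hy)),
        isNilpotent_le (M := N ⊔ Y) le_sup_right⟩
      rw [normalizer_eq_top]; exact mem_top y
    have hMC : M ≤ centralizer (N : Set G) := fun m hm => by
      refine (hYC (zpowers m) (lt_of_le_of_ne (zpowers_le.mpr hm) fun e => hMnil (e ▸ ?_))).1 (mem_zpowers m)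
      letI : CommGroup (zpowers m) :=
        { (inferInstance : Group (zpowers m)) with mul_comm := mul_comm' }
      infer_instance
    obtain ⟨z, hz⟩ := exists_prime_orderOf_dvd_card' p (hdvd N hN hNp)
    have hzp : Nat.card (zpowers (z : G)) = p := by rw [Nat.card_zpowers, orderOf_coe, hz]
    have hNz : N = zpowers (z : G) := by
      refine le_antisymm (fun n hn => ?_) (zpowers_le.mpr z.2)
      have htop := hsupNM (zpowers (z : G)) (zpowers_le.mpr z.2) fun e => by
        rw [e, card_bot] at hzp; exact hp.one_lt.ne hzp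
      have hzM : zpowers (z : G) ≤ normalizer (M : Set G) := fun a ha => by
        refine centralizer_le_normalizer _ ?_
        exact le_centralizer_iff.mp hMC (zpowers_le.mpr z.2 ha)
      obtain ⟨m, hm, a, ha, he⟩ := Cfsg.Lib.Coprime.exists_mul_of_mem_sup hzM
        (sup_comm (zpowers (z : G)) M ▸ htop.symm ▸ mem_top n : n ∈ M ⊔ zpowers (z : G))
      have hmN : m ∈ N := by
        rw [he] at hn
        have := mul_mem hn (inv_mem (zpowers_le.mpr z.2 ha))
        rwa [mul_inv_cancel_right] at this
      rw [he, show m = 1 from mem_bot.mp (hNM ▸ mem_inf.mpr ⟨hmN, hm⟩), one_mul]; exact ha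
    have hMn : M.Normal := normalizer_eq_top_iff.mp (top_le_iff.mp
      (hsupNM N le_rfl hN ▸ sup_le ((le_centralizer_iff.mp hMC).trans (centralizer_le_normalizer _)) le_normalizer))
    refine ⟨N, M, inferInstance, hMn, hNM, hsupNM N le_rfl hN, hNz ▸ hzp, ⟨hMnil, fun H hH => ?_⟩, hpM⟩
    have hlt : H.map M.subtype < M := lt_of_le_of_ne (map_subtype_le _) fun e => hH
      (map_injective M.subtype_injective (e.trans (by rw [← MonoidHom.range_eq_map, range_subtype])))
    haveI := (hYC _ hlt).2
    exact isNilpotent_inj (equivMapOfInjective H M.subtype M.subtype_injective).toMonoidHom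
      (MulEquiv.injective _)
  · rintro (hnil | ⟨-, hmnn⟩ | ⟨Z, K, hZn, hKn, hdisj, hsup, hZc, hK, hpK⟩) M hM hpM
    · haveI := hnil; infer_instance
    · exact hmnn M hM.1
    obtain ⟨z, hz⟩ := exists_prime_orderOf_dvd_card' p hpM
    have hZK : ∀ a ∈ Z, ∀ b ∈ K, Commute a b := fun a ha b hb =>
      commute_of_normal_of_disjoint Z K hZn hKn (disjoint_iff.mpr hdisj) a b ha hb
    have hzZ : (z : G) ∈ Z := by
      obtain ⟨a, ha, b, hb, he⟩ := mem_sup_of_normal_left.mp (hsup ▸ mem_top (z : G) : (z : G) ∈ Z ⊔ K)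
      have h1 : (z : G) ^ p = 1 := by
        have := pow_orderOf_eq_one (z : G)
        rwa [orderOf_coe, hz] at this
      have ha1 : a ^ p = 1 := by
        have := pow_card_eq_one' (x := (⟨a, ha⟩ : Z))
        rw [hZc] at this
        exact congrArg Subtype.val this
      rw [← he, (hZK a ha b hb).mul_pow, ha1, one_mul] at h1
      have hob : orderOf b = 1 := Nat.eq_one_of_dvd_coprimes
        ((hp.coprime_iff_not_dvd.mpr hpK)) (orderOf_dvd_of_pow_eq_one h1) (orderOf_dvd_natCard K hb)
      rw [← he, orderOf_eq_one_iff.mp hob, mul_one]; exact ha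
    have hZM : Z ≤ M := by
      have h : zpowers (z : G) = Z := eq_of_le_of_card_ge (zpowers_le.mpr hzZ)
        (by rw [hZc, Nat.card_zpowers, orderOf_coe, hz])
      rw [← h]; exact zpowers_le.mpr z.2
    have hne : (M ⊓ K).subgroupOf K ≠ ⊤ := fun h => hM.1 (top_le_iff.mp
      (hsup ▸ sup_le hZM ((subgroupOf_eq_top.mp h).trans inf_le_left)))
    haveI h1 : Group.IsNilpotent ↥(M ⊓ K) :=
      haveI := hK.2 _ hne
      isNilpotent_inj (subgroupOfEquivOfLe inf_le_right).symm.toMonoidHom
        (MulEquiv.injective _)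
    haveI h2 : Group.IsNilpotent Z := (IsPGroup.of_card (n := 1) (by rw [hZc, pow_one]) : IsPGroup p Z).isNilpotent
    let f : ↥Z × ↥(M ⊓ K) →* M := MonoidHom.noncommCoprod (inclusion hZM) (inclusion inf_le_left)
      fun a b => Subtype.ext (hZK a a.2 b b.2.2)
    refine Group.nilpotent_of_surjective f fun m => ?_
    obtain ⟨a, ha, b, hb, he⟩ := mem_sup_of_normal_left.mp (hsup ▸ mem_top (m : G) : (m : G) ∈ Z ⊔ K)
    have hbM : b ∈ M := by
      have := mul_mem (inv_mem (hZM ha)) m.2
      rwa [← he, inv_mul_cancel_left] at this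
    exact ⟨(⟨a, ha⟩, ⟨b, hbM, hb⟩), Subtype.ext he⟩

end Cfsg.Agent.S4242
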