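import Cfsg.Statements.S4244

set_option autoImplicit false
open Cfsg

namespace Cfsg.Agent.S4244

open Subgroup

theorem relIndex_dvd_index {X : Type*} [Group X] [Finite X] (H K : Subgroup X) [H.Normal] :
    K.relIndex H ∣ K.index := by
  obtain ⟨b, hb⟩ := H.relIndex_dvd_index_of_normal (K := K)
  have h1 : (H ⊓ K).relIndex H * H.index = (H ⊓ K).index := relIndex_mul_index inf_le_left
  have h2 : (H ⊓ K).relIndex K * K.index = (H ⊓ K).index := relIndex_mul_index inf_le_right
  rw [inf_relIndex_left] at h1
  rw [inf_relIndex_right] at h2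
  have ha : H.relIndex K ≠ 0 := Subgroup.index_ne_zero_of_finite
  refine ⟨b, Nat.eq_of_mul_eq_mul_left (Nat.pos_of_ne_zero ha) ?_⟩
  calc H.relIndex K * K.index = K.relIndex H * (H.relIndex K * b) := by rw [← hb, h1, h2]
    _ = H.relIndex K * (K.relIndex H * b) := by ring

/-- Let H be a subnormal subgroup of a finite group G. Then for every subgroup K of G the index of H ∩ K in H divides the index of K in G. -/
theorem result {G : Type*} [Group G] [Finite G] (H : Subgroup G) (hH : H.IsSubnormal) (K : Subgroup G) :
    (H ⊓ K).relIndex H ∣ K.index := by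
  rw [inf_relIndex_left]
  induction hH with
  | top => rw [relIndex_top_right]
  | step H L hle _ hN ih =>
    haveI := hN
    refine dvd_trans ?_ ih
    have := relIndex_dvd_index (H.subgroupOf L) (K.subgroupOf L)
    rwa [relIndex_subgroupOf hle] at this

end Cfsg.Agent.S4244
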