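import Cfsg.Statements.S4245
import Cfsg.Agent.Lib.Kazarin.Basic
import Cfsg.Agent.Lib.Invol.Cyclic

set_option autoImplicit false
open Cfsg

namespace Cfsg.Agent.S4245

open Subgroup

universe u

/-- Cyclic by cyclic `2`-group. -/
def CycByTwo (A : Type u) [Group A] : Prop :=
  ∃ B : Subgroup A, ∃ _ : B.Normal, IsCyclic B ∧ IsCyclic (A ⧸ B) ∧ IsPGroup 2 (A ⧸ B)

theorem CycByTwo.of_injective {A A' : Type u} [Group A] [Group A'] (h : CycByTwo A) (f : A' →* A)
    (hf : Function.Injective f) : CycByTwo A' := by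
  obtain ⟨B, hBn, hB, hQ, hp⟩ := h
  let g := (QuotientGroup.mk' B).comp f
  have hmem : ∀ x : g.ker, f x ∈ B := fun x => (QuotientGroup.eq_one_iff _).mp x.2
  refine ⟨g.ker, inferInstance, isCyclic_of_injective ((f.comp g.ker.subtype).codRestrict B hmem)
    (fun a b hab => Subtype.ext (hf (congrArg Subtype.val hab))),
    isCyclic_of_injective (QuotientGroup.kerLift g) (QuotientGroup.kerLift_injective g),
    hp.of_injective (QuotientGroup.kerLift g) (QuotientGroup.kerLift_injective g)⟩

theorem CycByTwo.of_surjective {A A' : Type u} [Group A] [Group A'] (h : CycByTwo A) (f : A →* A')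
    (hf : Function.Surjective f) : CycByTwo A' := by
  obtain ⟨B, hBn, hB, hQ, hp⟩ := h
  have hn := hBn.map f hf
  let g : A ⧸ B →* A' ⧸ B.map f := QuotientGroup.map B (B.map f) f (le_comap_map f B)
  have hg : Function.Surjective g := fun y => by
    obtain ⟨y, rfl⟩ := QuotientGroup.mk_surjective y
    obtain ⟨x, rfl⟩ := hf y
    exact ⟨(x : A ⧸ B), rfl⟩
  exact ⟨B.map f, hn, isCyclic_of_surjective _ (f.subgroupMap_surjective B),
    isCyclic_of_surjective g hg, hp.of_surjective g hg⟩

theorem main : ∀ (n : ℕ) (G : Type u) [Group G] [Finite G], Nat.card G = n →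
    ∀ (A : Subgroup G) (p s : ℕ), p.Prime → A.index ∣ p ^ s → CycByTwo A → Group.IsSolvable G := by
  intro n
  induction n using Nat.strong_induction_on with
  | _ n ih =>
  intro G _ _ hn A p s hp hA hcyc
  subst hn
  have : Fact p.Prime := ⟨hp⟩
  have hp2 : Fact (Nat.Prime 2) := ⟨Nat.prime_two⟩
  cases subsingleton_or_nontrivial G
  · infer_instance
  -- reduction from a normal subgroup
  have hquo : ∀ N : Subgroup G, N.Normal → N ≠ ⊥ → Group.IsSolvable N → Group.IsSolvable G := by
    intro N hN hNne hNs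
    have hlt : Nat.card (G ⧸ N) < Nat.card G := by
      rw [← index_eq_card, ← N.card_mul_index]
      exact lt_mul_of_one_lt_left (Nat.pos_of_ne_zero index_ne_zero_of_finite)
        (N.one_lt_card_iff_ne_bot.mpr hNne)
    have := ih _ hlt (G ⧸ N) rfl (A.map (QuotientGroup.mk' N)) p s hp
      ((index_map_dvd _ (QuotientGroup.mk'_surjective N)).trans hA)
      (hcyc.of_surjective _ ((QuotientGroup.mk' N).subgroupMap_surjective A))
    refine Group.isSolvable_of_ker_le_range N.subtype (QuotientGroup.mk' N) ?_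
    rw [QuotientGroup.ker_mk', range_subtype]
  have hprime : ∀ x : G, x ≠ 1 → ∀ q k, q.Prime → (centralizer ({x} : Set G)).index ∣ q ^ k →
      Group.IsSolvable G := by
    intro x hx q k hq hdvd
    obtain ⟨j, -, hj⟩ := (Nat.dvd_prime_pow hq).mp hdvd
    obtain ⟨N, hN, hNs, hxN⟩ := Lib.Kazarin.exists_solvable_normal_mem _ G rfl x hq hj
    exact hquo N hN (fun h => hx (mem_bot.mp (h ▸ hxN))) hNs
  by_cases hAbot : A = ⊥
  · have hG : IsPGroup p G := by
      obtain ⟨j, -, hj⟩ := (Nat.dvd_prime_pow hp).mp hA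
      exact IsPGroup.of_card (n := j) (by rw [← hj, hAbot, index_bot])
    have := hG.isNilpotent
    infer_instance
  obtain ⟨B, hBn, hB, hQ, hQ2⟩ := hcyc
  obtain ⟨r, hr⟩ := hQ2.exists_card_eq
  -- a central element
  have hcentral : ∀ x : A, x ≠ 1 → x ∈ Subgroup.center A → Group.IsSolvable G := fun x hx hxc => by
    refine hprime (x : G) (fun h => hx (Subtype.ext h)) p s hp ((index_dvd_of_le fun a ha => ?_).trans hA)
    rw [mem_centralizer_singleton_iff]
    exact congrArg Subtype.val (mem_center_iff.mp hxc ⟨a, ha⟩)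
  by_cases hBbot : B = ⊥
  · -- `A` is a cyclic `2`-group
    have hcycA : IsCyclic A := isCyclic_of_injective (QuotientGroup.mk' B)
      (by rw [← MonoidHom.ker_eq_bot_iff, QuotientGroup.ker_mk', hBbot])
    obtain ⟨x, hx⟩ : ∃ x : A, x ≠ 1 := by
      have := (nontrivial_iff_ne_bot A).mpr hAbot
      exact exists_ne 1
    exact hcentral x hx (mem_center_iff.mpr fun y => IsMulCommutative.is_comm.comm y x)
  obtain ⟨b, hbB, hb1⟩ : ∃ b ∈ B, b ≠ 1 := by
    by_contra h
    push Not at h
    exact hBbot ((eq_bot_iff_forall B).mpr h)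
  by_cases hptwo : p = 2
  · subst hptwo
    refine hprime (b : G) (fun h => hb1 (Subtype.ext h)) 2 (r + s) Nat.prime_two ?_
    have hle : B.map A.subtype ≤ centralizer ({(b : G)} : Set G) := by
      rintro _ ⟨c, hc, rfl⟩
      rw [mem_centralizer_singleton_iff]
      exact congrArg (fun z : B => ((z : A) : G))
        (IsMulCommutative.is_comm.comm (⟨c, hc⟩ : B) ⟨b, hbB⟩)
    refine (index_dvd_of_le hle).trans ?_
    rw [index_map_subtype, pow_add, index_eq_card, hr]
    exact mul_dvd_mul dvd_rfl hA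
  by_cases hBeven : 2 ∣ Nat.card B
  · -- the involution of `B` is central
    obtain ⟨z, hz⟩ := exists_prime_orderOf_dvd_card' (G := B) 2 hBeven
    rw [← orderOf_coe] at hz
    refine hcentral (z : A) (fun h => by rw [h, orderOf_one] at hz; omega) (mem_center_iff.mpr fun y => ?_)
    have hconj : y * (z : A) * y⁻¹ ∈ B := hBn.conj_mem _ z.2 y
    have hord : orderOf (y * (z : A) * y⁻¹) = 2 := by
      rw [← hz]
      exact orderOf_injective (MulAut.conj y).toMonoidHom (MulAut.conj y).injective (z : A)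
    exact mul_inv_eq_iff_eq_mul.mp
      (Lib.Invol.eq_of_pow_two_group_cyclic hB hconj z.2 hord hz)
  by_cases hr0 : r = 0
  · -- `A` is cyclic
    have hBtop : B = ⊤ := index_eq_one.mp (by rw [index_eq_card, hr, hr0, pow_zero])
    refine hcentral b hb1 (mem_center_iff.mpr fun y => ?_)
    exact congrArg Subtype.val
      (IsMulCommutative.is_comm.comm (⟨y, hBtop.ge (mem_top y)⟩ : B) ⟨b, hbB⟩)
  -- cyclic Sylow 2-subgroup
  have hAcard : Nat.card A = Nat.card B * 2 ^ r := by
    rw [← hr, ← index_eq_card, card_mul_index]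
  obtain ⟨S⟩ : Nonempty (Sylow 2 A) := inferInstance
  have hScyc : IsCyclic (S : Subgroup A) := by
    refine isCyclic_of_injective ((QuotientGroup.mk' B).comp (S : Subgroup A).subtype) ?_
    rw [← MonoidHom.ker_eq_bot_iff, eq_bot_iff]
    intro x hx
    have hxB : (x : A) ∈ B := (QuotientGroup.eq_one_iff _).mp hx
    obtain ⟨k, hk⟩ := S.2 x
    rw [← orderOf_dvd_iff_pow_eq_one] at hk
    have h1 : orderOf (x : A) ∣ Nat.card B := by
      rw [← orderOf_mk (x : A) hxB]; exact orderOf_dvd_natCard _
    rw [← orderOf_coe] at hk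
    obtain ⟨j, -, hj⟩ := (Nat.dvd_prime_pow Nat.prime_two).mp hk
    rcases Nat.eq_zero_or_pos j with rfl | hj0
    · rw [mem_bot]
      exact Subtype.ext (orderOf_eq_one_iff.mp (by rw [hj, pow_zero]))
    · exact absurd ((dvd_pow_self 2 hj0.ne').trans (hj ▸ h1)) hBeven
  have hGcard : A.index * Nat.card A = Nat.card G := A.index_mul_card
  have hAodd : ¬ 2 ∣ A.index := fun h => hptwo
    ((Nat.prime_dvd_prime_iff_eq Nat.prime_two hp).mp (Nat.prime_two.dvd_of_dvd_pow (h.trans hA))).symm
  let T : Sylow 2 G := Sylow.ofCard ((S : Subgroup A).map A.subtype) (by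
    rw [card_map_of_injective A.subtype_injective, S.card_eq_multiplicity, ← hGcard,
      Nat.factorization_mul index_ne_zero_of_finite Nat.card_pos.ne', Finsupp.add_apply,
      Nat.factorization_eq_zero_of_not_dvd hAodd, zero_add])
  have hTcyc : IsCyclic (T : Subgroup G) :=
    isCyclic_of_surjective _ (A.subtype.subgroupMap_surjective (S : Subgroup A))
  have heven : Even (Nat.card G) := by
    rw [even_iff_two_dvd, ← hGcard, hAcard]
    exact dvd_mul_of_dvd_right (dvd_mul_of_dvd_right (dvd_pow_self 2 hr0) _) _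
  obtain ⟨M, hM⟩ := Lib.Invol.exists_index_two_of_isCyclic heven T hTcyc
  have hMn : M.Normal := normal_of_index_eq_two hM
  have hMlt : Nat.card M < Nat.card G := by
    have h := M.card_mul_index
    rw [hM] at h
    have : 0 < Nat.card M := Nat.card_pos
    omega
  have hMs : Group.IsSolvable M := ih _ hMlt M rfl (A.subgroupOf M) p s hp
    (dvd_trans (Lib.Kazarin.relIndex_dvd_index' A M) hA)
    ((show CycByTwo A from ⟨B, hBn, hB, hQ, hQ2⟩).of_injective
      ((M.subtype.comp (A.subgroupOf M).subtype).codRestrict A fun x => x.2)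
      fun a b hab => Subtype.ext (Subtype.ext (congrArg (fun z : A => (z : G)) hab)))
  by_cases hMbot : M = ⊥
  · have hG : IsPGroup 2 G := IsPGroup.of_card (n := 1) (by rw [pow_one, ← hM, hMbot, index_bot])
    have := hG.isNilpotent
    infer_instance
  exact hquo M hMn hMbot hMs

/-- Let G be a finite group with a subgroup A of prime-power index. Suppose A has a normal cyclic subgroup B such that A/B is cyclic of order a power of 2. Then G is solvable. -/
theorem result {G : Type*} [Group G] [Finite G] (A : Subgroup G) (p s : ℕ) (hp : p.Prime) (hA : A.index = p ^ s)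
    (B : Subgroup A) [B.Normal] (hB : IsCyclic B) (hAB : IsCyclic (A ⧸ B)) (r : ℕ) (hr : Nat.card (A ⧸ B) = 2 ^ r) :
    Group.IsSolvable G :=
  main _ G rfl A p s hp hA.dvd ⟨B, inferInstance, hB, hAB, IsPGroup.of_card hr⟩

end Cfsg.Agent.S4245
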