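import Cfsg.Statements.S4250
import Cfsg.Agent.Lib.Fusion.Alperin

set_option autoImplicit false
set_option linter.style.haveILetI false
open Cfsg

namespace Cfsg.Agent.S4250

open scoped commutatorElement

open Subgroup Cfsg.Lib.Fusion in
theorem focal_chain {G : Type*} [Group G] [Finite G] {p : ℕ} [Fact p.Prime] (P : Sylow p G)
    (R : Subgroup G)
    (hN : ∀ a ∈ (P : Subgroup G), ∀ n ∈ normalizer ((P : Subgroup G) : Set G),
      a⁻¹ * (n⁻¹ * a * n) ∈ R)
    (hQ : ∀ Q : Sylow p G, IsTame P Q → ∀ a ∈ (P : Subgroup G) ⊓ (Q : Subgroup G),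
      ∀ y ∈ normalizer (((P : Subgroup G) ⊓ (Q : Subgroup G) : Subgroup G) : Set G),
      (∃ k : ℕ, orderOf y = p ^ k) → a⁻¹ * (y⁻¹ * a * y) ∈ R) :
    ∀ (D : Subgroup G) (g : G), D ≤ (P : Subgroup G) → conjR g D ≤ (P : Subgroup G) →
      ∀ a ∈ D, a⁻¹ * (g⁻¹ * a * g) ∈ R := by
  intro D g hD hDg
  induction hm : Nat.card G - Nat.card D using Nat.strong_induction_on generalizing D g with
  | _ m ih =>
  subst hm
  obtain ⟨l, hl, hlp⟩ := alperin P D g hD hDg
  clear hD hDg
  subst hlp
  induction l generalizing D with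
  | nil =>
    intro a _
    simp [chainProd]
  | cons b l ihl =>
    obtain ⟨ht, hx, hle, hc⟩ := hl
    intro a ha
    set Q := b.1
    set H := (P : Subgroup G) ⊓ (Q : Subgroup G) with hH
    set N := normalizer (H : Set G) with hNdef
    -- one step
    have hstep : a⁻¹ * (b.2⁻¹ * a * b.2) ∈ R := by
      let K : Subgroup N := closure {y : N | ∃ k : ℕ, orderOf y = p ^ k}
      haveI hKn : K.Normal := by
        refine ⟨fun n hn g => ?_⟩
        have hle' : K ≤ K.comap (MulAut.conj g).toMonoidHom := by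
          rw [closure_le]
          rintro y ⟨k, hk⟩
          exact subset_closure ⟨k, by rw [MulEquiv.coe_toMonoidHom, MulEquiv.orderOf_eq, hk]⟩
        exact hle' hn
      have hKgood : ∀ y ∈ K, ∀ a ∈ H, a⁻¹ * ((y : G)⁻¹ * a * (y : G)) ∈ R := by
        intro y hy
        induction hy using closure_induction with
        | mem y hy =>
          obtain ⟨k, hk⟩ := hy
          exact fun a ha => hQ Q ht a ha y y.2 ⟨k, by rw [Subgroup.orderOf_coe, hk]⟩
        | one => intro a _; simp
        | mul y z _ _ hy' hz' =>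
          intro a ha
          have h2 := hz' _ ((mem_normalizer_iff''.mp y.2 a).mp ha)
          have h3 := mul_mem (hy' a ha) h2
          convert h3 using 1
          simp [mul_assoc]
        | inv y _ hy' =>
          intro a ha
          have h2 := hy' _ ((mem_normalizer_iff.mp y.2 a).mp ha)
          have h3 := inv_mem h2
          convert h3 using 1
          simp [mul_assoc]
      have hTp : IsPGroup p (((P : Subgroup G) ⊓ N).subgroupOf N) :=
        ((P.2 : IsPGroup p (P : Subgroup G)).to_inf_left).of_equiv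
          (subgroupOfEquivOfLe inf_le_right).symm
      let T : Sylow p N := hTp.toSylow ht.1
      have hTK : (T : Subgroup N) ≤ K := fun y hy => subset_closure (IsPGroup.iff_orderOf.mp T.2 ⟨y, hy⟩ |>
        fun ⟨k, hk⟩ => ⟨k, (Subgroup.orderOf_mk _ _).symm.trans hk⟩)
      have hfr := Sylow.normalizer_sup_eq_top' T hTK
      obtain ⟨n, hn, k, hk, he⟩ := (mem_sup_of_normal_right).mp (hfr.symm ▸ mem_top (⟨b.2, hx⟩ : N))
      have hb : b.2 = (n : G) * k := (congrArg Subtype.val he).symm
      have hn1 : a⁻¹ * ((n : G)⁻¹ * a * n) ∈ R := by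
        rcases eq_or_lt_of_le (inf_le_left : H ≤ (P : Subgroup G)) with hHP | hHP
        · refine hN a (hHP ▸ hle ha) n ?_
          rw [← hHP]; exact n.2
        · have hlt := lt_inf_normalizer (P.2 : IsPGroup p (P : Subgroup G)) hHP
          have hcard : Nat.card D < Nat.card ((P : Subgroup G) ⊓ N : Subgroup G) :=
            lt_of_le_of_lt (Nat.le_of_dvd Nat.card_pos (card_dvd_of_le hle)) (card_lt_card_of_lt hlt)
          refine ih _ (Nat.sub_lt_sub_left (lt_of_lt_of_le hcard (card_le_card_group _)) hcard)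
            _ _ inf_le_left (conjR_le_iff.mpr fun t ht' => ?_) rfl a (hlt.le (hle ha))
          have h2 := (mem_normalizer_iff''.mp hn (⟨t, ht'.2⟩ : N)).mp (mem_subgroupOf.mpr ht')
          exact (mem_subgroupOf.mp h2).1
      have h2 := hKgood k hk _ ((mem_normalizer_iff''.mp n.2 a).mp (hle ha))
      have h3 := mul_mem hn1 h2
      rw [hb]
      convert h3 using 1
      group
    have hrest := ihl (conjR b.2 D) (fun m hlt D' g' h1 h2 h3 => ih m (by rw [card_conjR] at hlt; exact hlt) D' g' h1 h2 h3)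
      hc _ (conj_mem_conjR ha)
    have h4 : chainProd (b :: l) = b.2 * chainProd l := by simp [chainProd]
    rw [h4]
    have h5 := mul_mem hstep hrest
    convert h5 using 1
    group

/-- Let P be a Sylow p-subgroup of a finite group G. Call an intersection H = P ∩ Q with a Sylow p-subgroup Q tame when N_P(H) and N_Q(H) are Sylow p-subgroups of N_G(H). Then P ∩ G′ is generated by [P, N_G(P)] together with the commutator subgroups [P ∩ Q, ⟨x⟩] for all tame intersections P ∩ Q and all p-elements x of N_G(P ∩ Q). -/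
theorem result {G : Type*} [Group G] [Finite G] (p : ℕ) [Fact p.Prime] (P : Sylow p G) :
    (P : Subgroup G) ⊓ commutator G =
      ⁅(P : Subgroup G), Subgroup.normalizer ((P : Subgroup G) : Set G)⁆ ⊔
        ⨆ (Q : Sylow p G) (_ : (¬ p ∣ ((P : Subgroup G) ⊓ Subgroup.normalizer (((P : Subgroup G) ⊓ (Q : Subgroup G) : Subgroup G) : Set G)).relIndex (Subgroup.normalizer (((P : Subgroup G) ⊓ (Q : Subgroup G) : Subgroup G) : Set G)) ∧ ¬ p ∣ ((Q : Subgroup G) ⊓ Subgroup.normalizer (((P : Subgroup G) ⊓ (Q : Subgroup G) : Subgroup G) : Set G)).relIndex (Subgroup.normalizer (((P : Subgroup G) ⊓ (Q : Subgroup G) : Subgroup G) : Set G))))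
          (x : G) (_ : x ∈ Subgroup.normalizer (((P : Subgroup G) ⊓ (Q : Subgroup G) : Subgroup G) : Set G) ∧ ∃ k : ℕ, orderOf x = p ^ k),
          ⁅(P : Subgroup G) ⊓ (Q : Subgroup G), Subgroup.zpowers x⁆ := by
  have hc1 : ∀ (H : Subgroup G) (n a : G), n ∈ Subgroup.normalizer (H : Set G) → a ∈ H →
      ∀ K : Subgroup G, n ∈ K → a⁻¹ * (n⁻¹ * a * n) ∈ ⁅H, K⁆ := by
    intro H n a _ ha K hK
    have : a⁻¹ * (n⁻¹ * a * n) = ⁅a⁻¹, n⁻¹⁆ := by rw [commutatorElement_def]; group
    rw [this]
    exact Subgroup.commutator_mem_commutator (inv_mem ha) (inv_mem hK)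
  refine le_antisymm ?_ (sup_le ?_ ?_)
  · rw [inf_comm, Subgroup.commutator_inf_eq_focalSubgroup P, Subgroup.focalSubgroup_def, Subgroup.closure_le]
    rintro z ⟨hz, x, hx, u, rfl⟩
    have hm : u * x⁻¹ * u⁻¹ ∈ (P : Subgroup G) := by
      have : u * x⁻¹ * u⁻¹ = x⁻¹ * ⁅x, u⁆ := by rw [commutatorElement_def]; group
      rw [this]; exact mul_mem (inv_mem hx) hz
    have : ⁅x, u⁆ = (x⁻¹)⁻¹ * (u⁻¹⁻¹ * x⁻¹ * u⁻¹) := by rw [commutatorElement_def]; group
    rw [this]
    refine focal_chain P _ ?_ ?_ (Subgroup.zpowers x⁻¹) u⁻¹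
      (Subgroup.zpowers_le.mpr (inv_mem hx))
      (Cfsg.Lib.Fusion.conjR_le_iff.mpr fun y hy => by
        obtain ⟨i, rfl⟩ := Subgroup.mem_zpowers_iff.mp hy
        rw [inv_inv, ← conj_zpow]
        exact zpow_mem hm i)
      x⁻¹ (Subgroup.mem_zpowers _)
    · exact fun a ha n hn => Subgroup.mem_sup_left (hc1 _ n a hn ha _ hn)
    · exact fun Q ht a ha y hy hk => Subgroup.mem_sup_right (Subgroup.mem_iSup_of_mem Q
        (Subgroup.mem_iSup_of_mem ht (Subgroup.mem_iSup_of_mem y (Subgroup.mem_iSup_of_mem (And.intro hy hk)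
          (hc1 _ y a hy ha _ (Subgroup.mem_zpowers y))))))
  · refine le_inf (Subgroup.commutator_le.mpr fun a ha n hn => ?_) (Subgroup.commutator_mono le_top le_top)
    rw [commutatorElement_def, mul_assoc, mul_assoc, ← mul_assoc n]
    exact mul_mem ha ((Subgroup.mem_normalizer_iff.mp hn _).mp (inv_mem ha))
  · refine iSup_le fun Q => iSup_le fun _ => iSup_le fun x => iSup_le fun hx => ?_
    refine le_inf (Subgroup.commutator_le.mpr fun a ha n hn => ?_) (Subgroup.commutator_mono le_top le_top)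
    rw [commutatorElement_def, mul_assoc, mul_assoc, ← mul_assoc n]
    have h1 : n * a⁻¹ * n⁻¹ ∈ ((P : Subgroup G) ⊓ (Q : Subgroup G) : Subgroup G) :=
      (Subgroup.mem_normalizer_iff.mp (Subgroup.zpowers_le.mpr hx.1 hn) _).mp (inv_mem ha)
    exact mul_mem ha.1 h1.1

end Cfsg.Agent.S4250
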