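import Cfsg.Statements.S4251
import Cfsg.Agent.Lib.Fusion.Alperin

set_option autoImplicit false
set_option linter.style.haveILetI false
open Cfsg

namespace Cfsg.Agent.S4251

/-- Let P be a Sylow p-subgroup of a finite group G. Call an intersection H = P ∩ Q with a Sylow p-subgroup Q tame when N_P(H) and N_Q(H) are Sylow p-subgroups of N_G(H). If N_G(H)/C_G(H) is a p-group for every nontrivial tame intersection H = P ∩ Q, then G has a normal p-complement. -/
theorem result {G : Type*} [Group G] [Finite G] (p : ℕ) [Fact p.Prime] (P : Sylow p G)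
    (h : ∀ Q : Sylow p G, (P : Subgroup G) ⊓ (Q : Subgroup G) ≠ ⊥ → (¬ p ∣ ((P : Subgroup G) ⊓ Subgroup.normalizer (((P : Subgroup G) ⊓ (Q : Subgroup G) : Subgroup G) : Set G)).relIndex (Subgroup.normalizer (((P : Subgroup G) ⊓ (Q : Subgroup G) : Subgroup G) : Set G)) ∧ ¬ p ∣ ((Q : Subgroup G) ⊓ Subgroup.normalizer (((P : Subgroup G) ⊓ (Q : Subgroup G) : Subgroup G) : Set G)).relIndex (Subgroup.normalizer (((P : Subgroup G) ⊓ (Q : Subgroup G) : Subgroup G) : Set G))) →
      IsPGroup p (Subgroup.normalizer (((P : Subgroup G) ⊓ (Q : Subgroup G) : Subgroup G) : Set G) ⧸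
        (Subgroup.centralizer (((P : Subgroup G) ⊓ (Q : Subgroup G) : Subgroup G) : Set G)).subgroupOf
          (Subgroup.normalizer (((P : Subgroup G) ⊓ (Q : Subgroup G) : Subgroup G) : Set G)))) :
    Cfsg.HasNormalPComplement p G := by
  refine Cfsg.Lib.Fusion.hasNormalPComplement_of_tame P fun Q hQ x hx hco => ?_
  by_cases hbot : (P : Subgroup G) ⊓ (Q : Subgroup G) = ⊥
  · intro y hy
    rw [hbot] at hy
    rw [Subgroup.mem_bot.mp hy, one_mul, mul_one]
  haveI hn : ((Subgroup.centralizer (((P : Subgroup G) ⊓ (Q : Subgroup G) : Subgroup G) : Set G)).subgroupOf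
      (Subgroup.normalizer (((P : Subgroup G) ⊓ (Q : Subgroup G) : Subgroup G) : Set G))).Normal := by
    rw [← Subgroup.normalizerMonoidHom_ker]; infer_instance
  obtain ⟨k, hk⟩ := IsPGroup.iff_orderOf.mp (h Q hbot hQ) (QuotientGroup.mk ⟨x, hx⟩)
  have h1 : orderOf (QuotientGroup.mk ⟨x, hx⟩ : _ ⧸ (Subgroup.centralizer (((P : Subgroup G) ⊓ (Q : Subgroup G) : Subgroup G) : Set G)).subgroupOf
      (Subgroup.normalizer (((P : Subgroup G) ⊓ (Q : Subgroup G) : Subgroup G) : Set G))) ∣ orderOf x :=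
    (orderOf_map_dvd (QuotientGroup.mk' _) _).trans (by rw [Subgroup.orderOf_mk])
  have h2 := Nat.eq_one_of_dvd_coprimes (hco.pow_right k) h1 (dvd_of_eq hk)
  exact Subgroup.mem_subgroupOf.mp ((QuotientGroup.eq_one_iff _).mp (orderOf_eq_one_iff.mp h2))

end Cfsg.Agent.S4251
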