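import Cfsg.Statements.S4253

set_option autoImplicit false
set_option linter.style.haveILetI false
open Cfsg

namespace Cfsg.Agent.S4253

open scoped Pointwise

/-- Let H be a Frobenius complement in a finite group G (a nontrivial proper subgroup meeting each conjugate gHg⁻¹ with g outside H trivially). Then in the action of G on the left cosets of H by left multiplication, no non-identity element of G fixes two distinct cosets. -/
theorem result {G : Type*} [Group G] [Finite G] (H : Subgroup G) (hH : Cfsg.IsFrobeniusComplement H)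
    (g : G) (hg : g ≠ 1) (a b : G ⧸ H) (ha : g • a = a) (hb : g • b = b) : a = b := by
  obtain ⟨x, rfl⟩ := QuotientGroup.mk_surjective a
  obtain ⟨y, rfl⟩ := QuotientGroup.mk_surjective b
  rw [MulAction.Quotient.smul_mk, QuotientGroup.eq, smul_eq_mul] at ha hb
  by_contra hne
  rw [QuotientGroup.eq] at hne
  have h1 := hH.2.2 _ hne
  have hx : x⁻¹ * g * x ∈ H := by
    have := H.inv_mem ha
    rwa [show ((g * x)⁻¹ * x)⁻¹ = x⁻¹ * g * x by group] at this
  have hy : y⁻¹ * g * y ∈ H := by
    have := H.inv_mem hb
    rwa [show ((g * y)⁻¹ * y)⁻¹ = y⁻¹ * g * y by group] at this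
  have hx' : x⁻¹ * g * x ∈ MulAut.conj (x⁻¹ * y) • H := by
    rw [Subgroup.mem_pointwise_smul_iff_inv_smul_mem, MulAut.smul_def, MulAut.conj_inv_apply]
    convert hy using 1
    group
  have : x⁻¹ * g * x ∈ (⊥ : Subgroup G) := h1 ▸ ⟨hx, hx'⟩
  rw [Subgroup.mem_bot] at this
  apply hg
  calc g = x * (x⁻¹ * g * x) * x⁻¹ := by group
    _ = 1 := by rw [this]; group

end Cfsg.Agent.S4253
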