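import Cfsg.Statements.S4255
import Mathlib
import Cfsg.Agent.S4138
import Cfsg.Agent.Lib.PGroup.Elements

set_option linter.style.haveILetI false

set_option autoImplicit false
open Cfsg

namespace Cfsg.Agent.S4255

open Cfsg.Agent.S4138 hiding result
open scoped Pointwise

section
variable {G : Type*} [Group G]

def Sn (P : ℕ → Prop) (k : ℕ) : Prop := ∀ p : ℕ, p.Prime → p ∣ k → P p
def Tn (P : ℕ → Prop) (k : ℕ) : Prop := ∀ p : ℕ, p.Prime → p ∣ k → ¬ P p

theorem coprime_sn_tn {P : ℕ → Prop} {a b : ℕ} (ha : Sn P a) (hb : Tn P b) : a.Coprime b :=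
  Nat.coprime_of_dvd fun p hp hpa hpb => hb p hp hpb (ha p hp hpa)

theorem Sn.of_dvd {P : ℕ → Prop} {a b : ℕ} (ha : Sn P a) (h : b ∣ a) : Sn P b :=
  fun p hp hd => ha p hp (hd.trans h)

theorem Tn.of_dvd {P : ℕ → Prop} {a b : ℕ} (ha : Tn P a) (h : b ∣ a) : Tn P b :=
  fun p hp hd => ha p hp (hd.trans h)

theorem sn_tn_eq_one {P : ℕ → Prop} {a : ℕ} (ha : Sn P a) (hb : Tn P a) : a = 1 :=
  Nat.eq_one_of_dvd_coprimes (coprime_sn_tn ha hb) dvd_rfl dvd_rfl

structure Disc (G : Type*) [Group G] (P : ℕ → Prop) (y : G) : Prop where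
  pure : ∀ g : G, Sn P (idx g) ∨ Tn P (idx g)
  hy : Tn P (idx y)
  htop : ∀ z : G, idx z ≤ idx y
  hex : ∃ g : G, Sn P (idx g) ∧ g ∉ Subgroup.center G

variable [Finite G] {P : ℕ → Prop} {y : G}

theorem Disc.nsub_tn (D : Disc G P y) {a : G} (ha : Sn P (idx a)) :
    Tn P (Nat.card (nSub a)) :=
  D.hy.of_dvd (nSub_dvd (coprime_sn_tn ha D.hy) (D.htop _))

theorem normal_le_cent {N : Subgroup G} [N.Normal] (hN : Tn P (Nat.card N)) {a : G}
    (ha : Sn P (idx a)) : N ≤ Subgroup.centralizer ({a} : Set G) := by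
  refine Subgroup.relIndex_eq_one.1 (sn_tn_eq_one (P := P) (ha.of_dvd ?_)
    (hN.of_dvd (Subgroup.relIndex_dvd_card _ _)))
  rw [relIndex_eq_sup]
  exact Subgroup.relIndex_dvd_index_of_le le_sup_left

theorem Disc.mixed (D : Disc G P y) {a b : G} (hab : Commute a b)
    (ho : (orderOf a).Coprime (orderOf b)) (ha : Sn P (idx a)) (ha' : a ∉ Subgroup.center G)
    (hb : Tn P (idx b)) (hb' : b ∉ Subgroup.center G) : False := by
  have h1 : idx a ∣ idx (a * b) := Subgroup.index_dvd_of_le ((cent_mul_le hab ho).trans inf_le_left)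
  have h2 : idx b ∣ idx (a * b) := Subgroup.index_dvd_of_le ((cent_mul_le hab ho).trans inf_le_right)
  rcases D.pure (a * b) with h | h
  · exact hb' (idx_eq_one.1 (sn_tn_eq_one (h.of_dvd h2) hb))
  · exact ha' (idx_eq_one.1 (sn_tn_eq_one ha (h.of_dvd h1)))

theorem isPrimePart {g : G} {p : ℕ} :
    (g ^ ordCompl[p] (orderOf g)) ^ p ^ (orderOf g).factorization p = 1 := by
  rw [← pow_mul, mul_comm, Nat.ordProj_mul_ordCompl_eq_self, pow_orderOf_eq_one]

theorem coprime_orders {a b : G} {p q : ℕ} (hp : p.Prime) (hq : q.Prime) (hne : p ≠ q) {i j : ℕ}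
    (ha : a ^ p ^ i = 1) (hb : b ^ q ^ j = 1) : (orderOf a).Coprime (orderOf b) :=
  ((Nat.coprime_primes hp hq).2 hne |>.pow i j).coprime_dvd_left (orderOf_dvd_of_pow_eq_one ha)
    |>.coprime_dvd_right (orderOf_dvd_of_pow_eq_one hb)

/-- A non-central prime power element whose index is an `S`-number has its prime outside `S`. -/
theorem Disc.prime_not (D : Disc G P y) {a : G} {p i : ℕ} (hp : p.Prime) (ha : a ^ p ^ i = 1)
    (haS : Sn P (idx a)) (haZ : a ∉ Subgroup.center G) : ¬ P p := by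
  obtain ⟨g, hg⟩ : ∃ g : G, a⁻¹ * (g * a * g⁻¹) ≠ 1 := by
    by_contra hall
    push Not at hall
    exact haZ (Subgroup.mem_center_iff.2 fun g => by
      have := hall g
      rw [inv_mul_eq_one, eq_mul_inv_iff_mul_eq] at this
      exact this.symm)
  set c := a⁻¹ * (g * a * g⁻¹)
  have hcN : c ∈ nSub a := mem_nSub a g
  have hcc : Commute a c := mem_cent.1 (normal_le_cent (D.nsub_tn haS) haS hcN)
  have hc1 : c ^ p ^ i = 1 := by
    have h1 : (a * c) ^ p ^ i = 1 := by
      rw [show a * c = g * a * g⁻¹ by simp [c], conj_pow, ha, mul_one, mul_inv_cancel]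
    rwa [hcc.mul_pow, ha, one_mul] at h1
  obtain ⟨j, _, hj⟩ := (Nat.dvd_prime_pow hp).1 (orderOf_dvd_of_pow_eq_one hc1)
  have hj0 : j ≠ 0 := fun h0 => hg (orderOf_eq_one_iff.1 (by rw [hj, h0, pow_zero]))
  exact D.nsub_tn haS p hp ((dvd_pow_self p hj0).trans (hj ▸ Subgroup.orderOf_dvd_natCard _ hcN))

theorem Disc.part_sn (D : Disc G P y) {g : G} (hg : g ∉ Subgroup.center G) (hS : Sn P (idx g)) :
    ∃ r : ℕ, r.Prime ∧ ¬ P r ∧ ∃ a : G, (∃ i, a ^ r ^ i = 1) ∧ a ∉ Subgroup.center G ∧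
      Sn P (idx a) ∧ Subgroup.centralizer ({g} : Set G) ≤ Subgroup.centralizer ({a} : Set G) := by
  obtain ⟨r, hr, hrZ⟩ := exists_prime_part hg
  have hS' := hS.of_dvd (Subgroup.index_dvd_of_le (cent_le_pow g (ordCompl[r] (orderOf g))))
  exact ⟨r, hr, D.prime_not hr isPrimePart hS' hrZ, _, ⟨_, isPrimePart⟩, hrZ, hS', cent_le_pow g _⟩

/-- Centralisers of `S`-elements are `S'`-groups modulo the centre. -/
theorem Disc.card_tn (D : Disc G P y) {g : G} (hg : g ∉ Subgroup.center G) (hS : Sn P (idx g)) :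
    Tn P (Nat.card ((Subgroup.centralizer ({g} : Set G)).map
      (QuotientGroup.mk' (Subgroup.center G)))) := by
  intro q hq hd hPq
  obtain ⟨r, hr, hPr, a, ⟨i, hai⟩, haZ, haS, hle⟩ := D.part_sn hg hS
  haveI := Fact.mk hq
  obtain ⟨⟨c, hcK⟩, hc⟩ := exists_prime_orderOf_dvd_card' q hd
  obtain ⟨w, hw, rfl⟩ := Subgroup.mem_map.1 hcK
  set o := orderOf w
  have hwq : w ^ ordCompl[q] o ∈ Subgroup.center G := by
    by_contra hZ
    have hcomm : Commute a (w ^ ordCompl[q] o) :=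
      (mem_cent.1 (hle hw)).pow_right _
    rcases D.pure (w ^ ordCompl[q] o) with h | h
    · exact D.prime_not hq isPrimePart h hZ hPq
    · exact D.mixed hcomm (coprime_orders hr hq (fun he => hPr (he ▸ hPq)) hai isPrimePart)
        haS haZ h hZ
  have h1 : orderOf (QuotientGroup.mk' (Subgroup.center G) w) = q := by
    rw [← hc]; exact (Subgroup.orderOf_mk _ _).symm
  have h2 : q ∣ ordCompl[q] o := by
    refine (dvd_of_eq h1.symm).trans (orderOf_dvd_of_pow_eq_one ?_)
    rw [← map_pow]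
    exact (QuotientGroup.eq_one_iff (w ^ ordCompl[q] o)).2 hwq
  exact Nat.not_dvd_ordCompl hq (orderOf_pos w).ne' h2

theorem card_quot (g : G) :
    Nat.card ((Subgroup.centralizer ({g} : Set G)).map (QuotientGroup.mk' (Subgroup.center G))) *
      idx g = (Subgroup.center G).index := by
  rw [← Subgroup.relIndex_ker, QuotientGroup.ker_mk']
  exact Subgroup.relIndex_mul_index (center_le_cent g)

theorem Disc.idx_eq (D : Disc G P y) {g h : G} (hg : g ∉ Subgroup.center G) (hgS : Sn P (idx g))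
    (hh : h ∉ Subgroup.center G) (hhS : Sn P (idx h)) : idx g = idx h := by
  have h1 := card_quot g
  have h2 := card_quot h
  apply Nat.dvd_antisymm
  · exact (coprime_sn_tn hgS (D.card_tn hh hhS)).dvd_of_dvd_mul_left
      (by rw [h2, ← h1]; exact dvd_mul_left _ _)
  · exact (coprime_sn_tn hhS (D.card_tn hg hgS)).dvd_of_dvd_mul_left
      (by rw [h1, ← h2]; exact dvd_mul_left _ _)

theorem Disc.normal (D : Disc G P y) {x : G} (hxZ : x ∉ Subgroup.center G) (hxS : Sn P (idx x)) :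
    (Subgroup.centralizer ({x} : Set G)).Normal := by
  refine ⟨fun h hh g => ?_⟩
  rcases D.pure h with hS | hT
  · have h1 : Commute h (g⁻¹ * x * g) := by
      have hc : x⁻¹ * (g⁻¹ * x * g⁻¹⁻¹) ∈ Subgroup.centralizer ({h} : Set G) :=
        normal_le_cent (D.nsub_tn hxS) hS (mem_nSub x g⁻¹)
      have h2 : Commute h (x * (x⁻¹ * (g⁻¹ * x * g⁻¹⁻¹))) :=
        (mem_cent.1 hh).symm.mul_right (mem_cent.1 hc)
      simpa using h2
    rw [mem_cent]
    have := (Commute.conj_iff g).2 h1.symm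
    simpa [mul_assoc] using this
  · obtain ⟨c, hc, d, hd, he⟩ := exists_mul_eq (coprime_sn_tn hxS hT) g
    have : g * h * g⁻¹ = c * h * c⁻¹ := by
      rw [he]
      calc c * d * h * (c * d)⁻¹ = c * (d * h) * d⁻¹ * c⁻¹ := by group
        _ = c * h * c⁻¹ := by rw [← (mem_cent.1 hd).eq]; group
    rw [this]
    exact mul_mem (mul_mem hc hh) (inv_mem hc)

theorem Disc.main (D : Disc G P y) :
    ∃ (x : G) (n : ℕ), 1 < n ∧ n < idx y ∧ idx x = n ∧ (idx y).Coprime n ∧
      ∀ z : G, idx z ≠ idx y → idx z ≤ n := by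
  classical
  obtain ⟨g0, hg0, hg0Z⟩ := D.hex
  obtain ⟨r, hr, hPr, x, ⟨i, hxi⟩, hxZ, hxS, -⟩ := D.part_sn hg0Z hg0
  set n := idx x with hn
  have hn1 : 1 < n := by
    have h1 := idx_pos x
    have h2 : idx x ≠ 1 := fun h => hxZ (idx_eq_one.1 h)
    omega
  set C := Subgroup.centralizer ({x} : Set G) with hC
  haveI := D.normal hxZ hxS
  have hCT := D.card_tn hxZ hxS
  -- `S`-elements of `C` are central in it
  have hcenS : ∀ a ∈ C, Sn P (idx a) → C ≤ Subgroup.centralizer ({a} : Set G) := by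
    intro a _ haS
    refine Subgroup.relIndex_eq_one.1 (sn_tn_eq_one (P := P) (haS.of_dvd ?_) (hCT.of_dvd ?_))
    · rw [relIndex_eq_sup]
      exact Subgroup.relIndex_dvd_index_of_le le_sup_left
    · rw [← Subgroup.relIndex_ker, QuotientGroup.ker_mk']
      exact Subgroup.relIndex_dvd_of_le_left C (center_le_cent a)
  obtain ⟨q, hq, hqn⟩ := Nat.exists_prime_and_dvd hn1.ne'
  haveI := Fact.mk hq
  have hPq : P q := hxS q hq hqn
  obtain ⟨Q⟩ : Nonempty (Sylow q G) := inferInstance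
  set H0 : Subgroup C := (Subgroup.centralizer ((Q : Subgroup G) : Set G)).subgroupOf C
  -- every element of `C` is central there or fixed by a Sylow subgroup
  have hcover : ∀ w : C, w ∈ Subgroup.center C ∨ ∃ c : C, c * w * c⁻¹ ∈ H0 := by
    intro w
    rcases D.pure (w : G) with hS | hT
    · refine Or.inl (Subgroup.mem_center_iff.2 fun v => Subtype.ext ?_)
      exact (mem_cent.1 (hcenS _ w.2 hS v.2)).symm.eq
    right
    obtain ⟨Q', hQ'⟩ := exists_sylow_cent q (x := (w : G)) (fun h => hT q hq h hPq)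
    obtain ⟨g, hg⟩ := MulAction.exists_smul_eq G Q Q'
    obtain ⟨c, hc, d, hd, he⟩ := exists_mul_eq (coprime_sn_tn hxS hT) g⁻¹
    refine ⟨⟨c, hc⟩, Subgroup.mem_subgroupOf.2 (Subgroup.mem_centralizer_iff.2 fun u hu => ?_)⟩
    have hgu : g * u * g⁻¹ ∈ (Q' : Subgroup G) := by
      rw [← hg, Sylow.coe_subgroup_smul, Subgroup.mem_pointwise_smul_iff_inv_smul_mem]
      simp [MulAut.smul_def, MulAut.conj_inv_apply, mul_assoc]
      exact hu
    have h1 : Commute (w : G) (g * u * g⁻¹) := mem_cent.1 (hQ' hgu)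
    have h2 : Commute (g⁻¹ * w * g) u := by
      have := (Commute.conj_iff g⁻¹).2 h1
      simpa [mul_assoc] using this
    have h3 : g⁻¹ * (w : G) * g = c * w * c⁻¹ := by
      have : g⁻¹ * (w : G) * g = g⁻¹ * w * g⁻¹⁻¹ := by rw [inv_inv]
      rw [this, he]
      calc c * d * (w : G) * (c * d)⁻¹ = c * (d * w) * d⁻¹ * c⁻¹ := by group
        _ = c * w * c⁻¹ := by rw [← (mem_cent.1 hd).eq]; group
    rw [h3] at h2
    exact h2.eq.symm
  set ZC := Subgroup.center C
  have hH : ZC ⊔ H0 = ⊤ := by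
    refine Cfsg.Lib.PGroup.eq_top_of_forall_exists_conj_mem fun w => ?_
    rcases hcover w with h | ⟨c, hc⟩
    · exact ⟨1, by simpa using Subgroup.mem_sup_left h⟩
    · exact ⟨c, Subgroup.mem_sup_right hc⟩
  have hcomm : ∀ w : C, w ∈ ZC := by
    intro w
    obtain ⟨z, hz, h, hh, rfl⟩ := Subgroup.mem_sup_of_normal_left.1 (hH.symm ▸ Subgroup.mem_top w)
    refine mul_mem hz ?_
    by_contra hhZ
    set x' : C := ⟨x, mem_cent.2 (Commute.refl x)⟩ with hx'
    have hx'Z : x' ∈ ZC := Subgroup.mem_center_iff.2 fun v => Subtype.ext (mem_cent.1 v.2).symm.eq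
    rcases hcover (x' * h) with hc | ⟨c, hc⟩
    · have := mul_mem (inv_mem hx'Z) hc
      rw [inv_mul_cancel_left] at this
      exact hhZ this
    obtain ⟨z', hz', d, hd, rfl⟩ := Subgroup.mem_sup_of_normal_left.1 (hH.symm ▸ Subgroup.mem_top c)
    have h1 : z' * d * (x' * h) * (z' * d)⁻¹ = x' * (d * h * d⁻¹) := by
      have hzc : ∀ v : C, z' * v = v * z' := fun v => (Subgroup.mem_center_iff.1 hz' v).symm
      have hxc : ∀ v : C, x' * v = v * x' := fun v => (Subgroup.mem_center_iff.1 hx'Z v).symm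
      calc z' * d * (x' * h) * (z' * d)⁻¹ = z' * (d * (x' * h) * d⁻¹) * z'⁻¹ := by group
        _ = d * (x' * h) * d⁻¹ := by rw [hzc]; group
        _ = x' * (d * h * d⁻¹) := by rw [← mul_assoc d, ← hxc d]; group
    rw [h1] at hc
    have hx0 : x' ∈ H0 := by
      have := mul_mem hc (inv_mem (mul_mem (mul_mem hd hh) (inv_mem hd)))
      rwa [mul_inv_cancel_right] at this
    refine Q.not_dvd_index (hqn.trans (Subgroup.index_dvd_of_le fun u hu => mem_cent.2 ?_))
    exact (Subgroup.mem_centralizer_iff.1 (Subgroup.mem_subgroupOf.1 hx0) u hu).symm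
  -- elements outside `S` have the full index
  have hTfull : ∀ g : G, g ∉ Subgroup.center G → Tn P (idx g) →
      Sn P (Nat.card ((Subgroup.centralizer ({g} : Set G)).map
        (QuotientGroup.mk' (Subgroup.center G)))) := by
    intro g hgZ hgT s hs hd
    by_contra hPs
    haveI := Fact.mk hs
    obtain ⟨⟨c, hcK⟩, hc⟩ := exists_prime_orderOf_dvd_card' s hd
    obtain ⟨w, hw, rfl⟩ := Subgroup.mem_map.1 hcK
    -- a non-central `s`-element of `G` has index an `S`-number
    have hsS : ∀ u : G, (∃ j, u ^ s ^ j = 1) → u ∉ Subgroup.center G → Sn P (idx u) := by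
      intro u ⟨j, hj⟩ huZ
      have huC : u ∈ C := by
        have h1 : orderOf (QuotientGroup.mk' C u) = 1 := by
          refine Nat.eq_one_of_dvd_coprimes (Nat.Coprime.pow_left j
            (hs.coprime_iff_not_dvd.2 fun h => hPs (hxS s hs h)))
            (orderOf_dvd_of_pow_eq_one (by rw [← map_pow, hj, map_one])) (orderOf_dvd_natCard _)
        exact (QuotientGroup.eq_one_iff u).1 (orderOf_eq_one_iff.1 h1)
      refine hxS.of_dvd (Subgroup.index_dvd_of_le fun v hv => mem_cent.2 ?_)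
      exact (congrArg Subtype.val (Subgroup.mem_center_iff.1 (hcomm ⟨u, huC⟩) ⟨v, hv⟩)).symm
    set o := orderOf w
    have hwq : w ^ ordCompl[s] o ∈ Subgroup.center G := by
      by_contra hZ
      obtain ⟨t, ht, htZ⟩ := exists_prime_part hgZ
      have hgT' := hgT.of_dvd (Subgroup.index_dvd_of_le (cent_le_pow g (ordCompl[t] (orderOf g))))
      have hts : s ≠ t := fun he => by
        subst he
        exact htZ (idx_eq_one.1 (sn_tn_eq_one (hsS _ ⟨_, isPrimePart⟩ htZ) hgT'))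
      exact D.mixed (((mem_cent.1 hw).symm.pow_left _).pow_right _)
        (coprime_orders hs ht hts isPrimePart isPrimePart)
        (hsS _ ⟨_, isPrimePart⟩ hZ) hZ hgT' htZ
    have h1 : orderOf (QuotientGroup.mk' (Subgroup.center G) w) = s := by
      rw [← hc]; exact (Subgroup.orderOf_mk _ _).symm
    have h2 : s ∣ ordCompl[s] o := by
      refine (dvd_of_eq h1.symm).trans (orderOf_dvd_of_pow_eq_one ?_)
      rw [← map_pow]
      exact (QuotientGroup.eq_one_iff (w ^ ordCompl[s] o)).2 hwq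
    exact Nat.not_dvd_ordCompl hs (orderOf_pos w).ne' h2
  have hyZ : y ∉ Subgroup.center G := by
    intro h
    have h1 := D.htop x
    rw [idx_eq_one.2 h] at h1
    omega
  refine ⟨x, n, hn1, ?_, rfl, (coprime_sn_tn hxS D.hy).symm, fun z hz => ?_⟩
  · refine lt_of_le_of_ne (D.htop x) fun he => ?_
    have h1 : n = 1 := sn_tn_eq_one hxS (he ▸ D.hy)
    omega
  · by_cases hzZ : z ∈ Subgroup.center G
    · rw [idx_eq_one.2 hzZ]; omega
    rcases D.pure z with hS | hT
    · exact (D.idx_eq hzZ hS hxZ hxS).le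
    · refine absurd ?_ hz
      have h1 := card_quot z
      have h2 := card_quot y
      apply Nat.dvd_antisymm
      · exact ((coprime_sn_tn (hTfull y hyZ D.hy) hT).symm).dvd_of_dvd_mul_left
          (by rw [h2, ← h1]; exact dvd_mul_left _ _)
      · exact ((coprime_sn_tn (hTfull z hzZ hT) D.hy).symm).dvd_of_dvd_mul_left
          (by rw [h1, ← h2]; exact dvd_mul_left _ _)

end

/-- Let G be a finite group. Call a prime a vertex if it divides some conjugacy class size of G, and two distinct vertices adjacent if their product divides some class size. Suppose this graph is disconnected: the vertices split into two nonempty parts with no vertex of one part adjacent to a vertex of the other. Then G/Z(G) is a Frobenius group with abelian Frobenius complement and with a Frobenius kernel all of whose elements commute. -/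
theorem result {G : Type*} [Group G] [Finite G] (S : Set ℕ) (hS : ∃ p ∈ S, (p.Prime ∧ ∃ g : G, p ∣ (Subgroup.centralizer ({g} : Set G)).index)) (hS' : ∃ q ∉ S, (q.Prime ∧ ∃ g : G, q ∣ (Subgroup.centralizer ({g} : Set G)).index))
    (hdisc : ∀ p q : ℕ, (p.Prime ∧ ∃ g : G, p ∣ (Subgroup.centralizer ({g} : Set G)).index) → (q.Prime ∧ ∃ g : G, q ∣ (Subgroup.centralizer ({g} : Set G)).index) → p ∈ S → q ∉ S → ¬ (∃ g : G, p * q ∣ (Subgroup.centralizer ({g} : Set G)).index)) :
    ∃ H : Subgroup (G ⧸ Subgroup.center G), Cfsg.IsFrobeniusComplement H ∧ IsMulCommutative H ∧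
      ∀ x ∈ Cfsg.frobeniusKernel H, ∀ y ∈ Cfsg.frobeniusKernel H, x * y = y * x := by
  classical
  obtain ⟨p, hpS, hp, gp, hgp⟩ := hS
  obtain ⟨q, hqS, hq, gq, hgq⟩ := hS'
  have hpure : ∀ g : G, Sn (· ∈ S) (idx g) ∨ Sn (fun r => r ∉ S) (idx g) := by
    intro g
    by_contra hcon
    push Not at hcon
    obtain ⟨h1, h2⟩ := hcon
    simp only [Sn, not_forall, not_not] at h1 h2
    obtain ⟨b, hb, hbd, hbS⟩ := h1
    obtain ⟨a, ha, had, haS⟩ := h2
    exact hdisc a b ⟨ha, g, had⟩ ⟨hb, g, hbd⟩ haS hbS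
      ⟨g, ((Nat.coprime_primes ha hb).2 (fun he => hbS (he ▸ haS))).mul_dvd_of_dvd_of_dvd had hbd⟩
  haveI : Nonempty G := ⟨1⟩
  obtain ⟨y, hy⟩ := Finite.exists_max (fun g : G => idx g)
  have hnc : ∀ (g : G) (r : ℕ), r.Prime → r ∣ idx g → g ∉ Subgroup.center G := fun g r hr hd hg =>
    hr.ne_one (Nat.dvd_one.1 (idx_eq_one.2 hg ▸ hd))
  have key : ∀ P : ℕ → Prop, (∀ g : G, Sn P (idx g) ∨ Tn P (idx g)) → Tn P (idx y) →
      (∃ g : G, ∃ r : ℕ, r.Prime ∧ P r ∧ r ∣ idx g) →
      ∃ H : Subgroup (G ⧸ Subgroup.center G), Cfsg.IsFrobeniusComplement H ∧ IsMulCommutative H ∧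
        ∀ a ∈ Cfsg.frobeniusKernel H, ∀ b ∈ Cfsg.frobeniusKernel H, a * b = b * a := by
    intro P hP hPy ⟨g, r, hr, hPr, hd⟩
    have hgS : Sn P (idx g) := (hP g).resolve_right fun h => h r hr hd hPr
    obtain ⟨x, n, hn, hnm, hx, hcop, hsec⟩ :=
      Disc.main (⟨hP, hPy, hy, g, hgS, hnc g r hr hd⟩ : Disc G P y)
    obtain ⟨hXc, hYc, hF, hK⟩ := Cfsg.Agent.S4138.result (idx y) n hnm hn hcop hy
      (fun z hz => hsec z hz.ne) x y hx rfl
    refine ⟨_, hF, ?_, ?_⟩
    · refine ⟨⟨fun a b => Subtype.ext ?_⟩⟩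
      obtain ⟨u, hu, hua⟩ := Subgroup.mem_map.1 a.2
      obtain ⟨v, hv, hvb⟩ := Subgroup.mem_map.1 b.2
      show (a : G ⧸ Subgroup.center G) * b = b * a
      rw [← hua, ← hvb, ← map_mul, ← map_mul]
      exact congrArg _ (congrArg Subtype.val (hYc.1.comm ⟨u, hu⟩ ⟨v, hv⟩))
    · rw [hK]
      intro a ha b hb
      obtain ⟨u, hu, rfl⟩ := Subgroup.mem_map.1 ha
      obtain ⟨v, hv, rfl⟩ := Subgroup.mem_map.1 hb
      rw [← map_mul, ← map_mul]
      exact congrArg _ (congrArg Subtype.val (hXc.1.comm ⟨u, hu⟩ ⟨v, hv⟩))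
  rcases hpure y with hyS | hyS
  · exact key (fun r => r ∉ S)
      (fun g => (hpure g).elim (fun h => Or.inr fun r hr hd hc => hc (h r hr hd)) Or.inl)
      (fun r hr hd hc => hc (hyS r hr hd)) ⟨gq, q, hq, hqS, hgq⟩
  · exact key (· ∈ S)
      (fun g => (hpure g).elim Or.inl (fun h => Or.inr fun r hr hd hc => h r hr hd hc))
      (fun r hr hd hc => hyS r hr hd hc) ⟨gp, p, hp, hpS, hgp⟩

end Cfsg.Agent.S4255
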