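import Cfsg.Statements.S4257
import Mathlib
import Cfsg.Agent.S4138

set_option linter.style.haveILetI false

set_option autoImplicit false
open Cfsg

namespace Cfsg.Agent.S4257

open Cfsg.Agent.S4138 hiding result

section
variable {G : Type*} [Group G] [Finite G]

/-- A prime sharing a class size with `p`. -/
def Near (G : Type*) [Group G] (p r : ℕ) : Prop := r.Prime ∧ ∃ g : G, p ∣ idx g ∧ r ∣ idx g

theorem dvd_of_split {d a b : ℕ} (hab : d ∣ a * b) (h : ∀ r : ℕ, r.Prime → r ∣ d → ¬ r ∣ b) : d ∣ a :=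
  (Nat.coprime_of_dvd fun r hr hd hb => h r hr hd hb).dvd_of_dvd_mul_right hab

/-- If `p` and `q` are far apart and `x` has the largest class size divisible by `p` or `q`,
then every prime outside the neighbourhood of `p` is a neighbour of `q`. -/
theorem far_prime {p q : ℕ} (hp : p.Prime) (hq : q.Prime) {x y : G} (hx : p ∣ idx x) (hy : q ∣ idx y)
    (hno : ∀ g : G, ∀ r s : ℕ, Near G p r → Near G q s → r ∣ idx g → ¬ s ∣ idx g)
    (hmax : ∀ g : G, q ∣ idx g → idx g ≤ idx x) {s : ℕ} (hs : s.Prime) (hsZ : ∃ g : G, s ∣ idx g)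
    (hsA : ¬ Near G p s) : Near G q s := by
  -- elements whose class size divides one divisible by `q`
  have hN : ∀ u v : G, q ∣ idx v → idx u ∣ idx v →
      Nat.card (nSub u) ∣ idx x ∧ (Nat.card (nSub u)).Coprime (idx u) := by
    intro u v hv huv
    have hco : (idx u).Coprime (idx x) := Nat.coprime_of_dvd fun r hr h1 h2 =>
      hno v r r ⟨hr, x, hx, h2⟩ ⟨hr, v, hv, h1.trans huv⟩ (h1.trans huv) (h1.trans huv)
    have hd : idx (u * x) ∣ idx u * idx x :=
      idx_mul_coprime hco ▸ Subgroup.index_dvd_of_le (cent_inf_le_mul u x)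
    have hle : idx (u * x) ≤ idx x := by
      by_cases hA : ∃ r, Near G p r ∧ r ∣ idx (u * x)
      · obtain ⟨r, hrA, hrd⟩ := hA
        refine Nat.le_of_dvd (idx_pos x) (dvd_of_split (by rwa [mul_comm] at hd) fun t ht htd htu => ?_)
        exact hno (u * x) r t hrA ⟨ht, v, hv, htu.trans huv⟩ hrd htd
      · push Not at hA
        refine (Nat.le_of_dvd (idx_pos u) (dvd_of_split hd fun t ht htd htx => ?_)).trans
          ((Nat.le_of_dvd (idx_pos v) huv).trans (hmax v hv))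
        exact hA t ⟨ht, x, hx, htx⟩ htd
    have h1 := nSub_dvd hco hle
    exact ⟨h1, (hco.coprime_dvd_right h1).symm⟩
  -- primary elements with such a class size
  have hprime : ∀ u v : G, q ∣ idx v → idx u ∣ idx v → ∀ e i : ℕ, e.Prime → u ^ e ^ i = 1 →
      u ∉ Subgroup.center G → Near G p e := by
    intro u v hv huv e i he hu huZ
    obtain ⟨h1, h2⟩ := hN u v hv huv
    obtain ⟨g, hg⟩ : ∃ g : G, u⁻¹ * (g * u * g⁻¹) ≠ 1 := by
      by_contra hall
      push Not at hall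
      exact huZ (Subgroup.mem_center_iff.2 fun g => by
        have := hall g
        rw [inv_mul_eq_one, eq_mul_inv_iff_mul_eq] at this
        exact this.symm)
    set c := u⁻¹ * (g * u * g⁻¹)
    have hcN : c ∈ nSub u := mem_nSub u g
    have hcc : Commute u c := mem_cent.1 (nSub_le_cent h2 hcN)
    have hc1 : c ^ e ^ i = 1 := by
      have h3 : (u * c) ^ e ^ i = 1 := by
        rw [show u * c = g * u * g⁻¹ by simp [c], conj_pow, hu, mul_one, mul_inv_cancel]
      rwa [hcc.mul_pow, hu, one_mul] at h3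
    obtain ⟨j, _, hj⟩ := (Nat.dvd_prime_pow he).1 (orderOf_dvd_of_pow_eq_one hc1)
    have hj0 : j ≠ 0 := fun h0 => hg (orderOf_eq_one_iff.1 (by rw [hj, h0, pow_zero]))
    exact ⟨he, x, hx,
      (dvd_pow_self e hj0).trans ((hj ▸ Subgroup.orderOf_dvd_natCard _ hcN).trans h1)⟩
  haveI := Fact.mk hs
  refine ⟨hs, y, hy, ?_⟩
  -- the centraliser of `y` modulo the centre has order prime to `s`
  set C := Subgroup.centralizer ({y} : Set G)
  have hC : ¬ s ∣ Nat.card (C.map (QuotientGroup.mk' (Subgroup.center G))) := by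
    intro hd
    obtain ⟨⟨c, hcK⟩, hc⟩ := exists_prime_orderOf_dvd_card' s hd
    obtain ⟨w, hw, rfl⟩ := Subgroup.mem_map.1 hcK
    set o := orderOf w
    have hwq : w ^ ordCompl[s] o ∈ Subgroup.center G := by
      by_contra hZ
      set u := w ^ ordCompl[s] o
      have hu : u ^ s ^ o.factorization s = 1 := by
        rw [← pow_mul, mul_comm, Nat.ordProj_mul_ordCompl_eq_self, pow_orderOf_eq_one]
      -- the `s`-part of `y` is central
      set a := orderOf y
      set ys := y ^ ordCompl[s] a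
      set y' := y ^ (s ^ a.factorization s)
      have hys : ys ∈ Subgroup.center G := by
        by_contra hh
        refine hsA (hprime ys y hy (Subgroup.index_dvd_of_le (cent_le_pow y _)) s (a.factorization s)
          hs ?_ hh)
        rw [← pow_mul, mul_comm, Nat.ordProj_mul_ordCompl_eq_self, pow_orderOf_eq_one]
      have hCy : Subgroup.centralizer ({y'} : Set G) ≤ C := by
        intro g hg
        refine mem_cent.2 ?_
        have hcop : (ordCompl[s] a).Coprime (s ^ a.factorization s) :=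
          (Nat.Coprime.pow_left _ (Nat.coprime_ordCompl hs (orderOf_pos y).ne')).symm
        have hb := Nat.gcd_eq_gcd_ab (ordCompl[s] a) (s ^ a.factorization s)
        rw [hcop.gcd_eq_one] at hb
        have hy' : y = ys ^ Nat.gcdA (ordCompl[s] a) (s ^ a.factorization s) *
            y' ^ Nat.gcdB (ordCompl[s] a) (s ^ a.factorization s) := by
          show y = (y ^ ordCompl[s] a) ^ Nat.gcdA (ordCompl[s] a) (s ^ a.factorization s) *
            (y ^ (s ^ a.factorization s)) ^ Nat.gcdB (ordCompl[s] a) (s ^ a.factorization s)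
          rw [← zpow_natCast, ← zpow_natCast, ← zpow_mul, ← zpow_mul, ← zpow_add, ← hb,
            Nat.cast_one, zpow_one]
        rw [hy']
        exact ((center_commute hys g).zpow_left _).mul_left ((mem_cent.1 hg).zpow_left _)
      have hcomm : Commute u y' := ((mem_cent.1 hw).symm.pow_right _).pow_left _
      have hco : (orderOf u).Coprime (orderOf y') := by
        obtain ⟨j, _, hj⟩ := (Nat.dvd_prime_pow hs).1 (orderOf_dvd_of_pow_eq_one hu)
        rw [hj]
        refine Nat.Coprime.pow_left j (hs.coprime_iff_not_dvd.2 fun hh => ?_)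
        refine Nat.not_dvd_ordCompl hs (orderOf_pos y).ne' (hh.trans (orderOf_dvd_of_pow_eq_one ?_))
        rw [← pow_mul, Nat.ordProj_mul_ordCompl_eq_self, pow_orderOf_eq_one]
      have hle := cent_mul_le hcomm hco
      have h1 : q ∣ idx (u * y') :=
        hy.trans (Subgroup.index_dvd_of_le ((hle.trans inf_le_right).trans hCy))
      exact hsA (hprime u _ h1 (Subgroup.index_dvd_of_le (hle.trans inf_le_left)) s _ hs hu hZ)
    have h1 : orderOf (QuotientGroup.mk' (Subgroup.center G) w) = s := by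
      rw [← hc]; exact (Subgroup.orderOf_mk _ _).symm
    have h2 : s ∣ ordCompl[s] o := by
      refine (dvd_of_eq h1.symm).trans (orderOf_dvd_of_pow_eq_one ?_)
      rw [← map_pow]
      exact (QuotientGroup.eq_one_iff (w ^ ordCompl[s] o)).2 hwq
    exact Nat.not_dvd_ordCompl hs (orderOf_pos w).ne' h2
  obtain ⟨g, hg⟩ := hsZ
  have hdvd : s ∣ Nat.card (C.map (QuotientGroup.mk' (Subgroup.center G))) * idx y := by
    rw [← Subgroup.relIndex_ker, QuotientGroup.ker_mk']
    refine hg.trans ?_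
    show idx g ∣ _ * C.index
    rw [Subgroup.relIndex_mul_index (center_le_cent y)]
    exact Subgroup.index_dvd_of_le (center_le_cent g)
  exact (hs.dvd_mul.1 hdvd).resolve_left hC

end

/-- Let G be a finite group. Call a prime a vertex if it divides some conjugacy class size of G, and two distinct vertices adjacent if their product divides some class size. If this graph is connected, then its diameter is at most 3: any two distinct vertices p and q are adjacent, or joined through one or two intermediate vertices. -/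
theorem result {G : Type*} [Group G] [Finite G]
    (hconn : ∀ S : Set ℕ, (∃ p ∈ S, (p.Prime ∧ ∃ g : G, p ∣ (Subgroup.centralizer ({g} : Set G)).index)) → (∃ q ∉ S, (q.Prime ∧ ∃ g : G, q ∣ (Subgroup.centralizer ({g} : Set G)).index)) →
      ∃ p q : ℕ, (p.Prime ∧ ∃ g : G, p ∣ (Subgroup.centralizer ({g} : Set G)).index) ∧ (q.Prime ∧ ∃ g : G, q ∣ (Subgroup.centralizer ({g} : Set G)).index) ∧ p ∈ S ∧ q ∉ S ∧ (∃ g : G, p * q ∣ (Subgroup.centralizer ({g} : Set G)).index))
    (p q : ℕ) (hp : (p.Prime ∧ ∃ g : G, p ∣ (Subgroup.centralizer ({g} : Set G)).index)) (hq : (q.Prime ∧ ∃ g : G, q ∣ (Subgroup.centralizer ({g} : Set G)).index)) (hpq : p ≠ q) :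
    (∃ g : G, p * q ∣ (Subgroup.centralizer ({g} : Set G)).index) ∨ (∃ r : ℕ, (r.Prime ∧ ∃ g : G, r ∣ (Subgroup.centralizer ({g} : Set G)).index) ∧ r ≠ p ∧ r ≠ q ∧ (∃ g : G, p * r ∣ (Subgroup.centralizer ({g} : Set G)).index) ∧ (∃ g : G, r * q ∣ (Subgroup.centralizer ({g} : Set G)).index)) ∨
      (∃ r s : ℕ, (r.Prime ∧ ∃ g : G, r ∣ (Subgroup.centralizer ({g} : Set G)).index) ∧ (s.Prime ∧ ∃ g : G, s ∣ (Subgroup.centralizer ({g} : Set G)).index) ∧ r ≠ p ∧ s ≠ q ∧ r ≠ s ∧ r ≠ q ∧ s ≠ p ∧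
        (∃ g : G, p * r ∣ (Subgroup.centralizer ({g} : Set G)).index) ∧ (∃ g : G, r * s ∣ (Subgroup.centralizer ({g} : Set G)).index) ∧ (∃ g : G, s * q ∣ (Subgroup.centralizer ({g} : Set G)).index)) := by
  classical
  by_contra hfail
  simp only [not_or] at hfail
  obtain ⟨hadj, h2, h3⟩ := hfail
  have mk2 : ∀ {r s : ℕ} {g : G}, r.Prime → s.Prime → r ≠ s → r ∣ idx g → s ∣ idx g → r * s ∣ idx g :=
    fun hr hs hne h1 h2 => ((Nat.coprime_primes hr hs).2 hne).mul_dvd_of_dvd_of_dvd h1 h2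
  have hdisj : ∀ r, Near G p r → ¬ Near G q r := by
    rintro r ⟨hr, g, hpg, hrg⟩ ⟨-, g', hqg', hrg'⟩
    by_cases hrp : r = p
    · subst hrp; exact hadj ⟨g', mk2 hp.1 hq.1 hpq hrg' hqg'⟩
    by_cases hrq : r = q
    · subst hrq; exact hadj ⟨g, mk2 hp.1 hq.1 hpq hpg hrg⟩
    exact h2 ⟨r, ⟨hr, g, hrg⟩, hrp, hrq, ⟨g, mk2 hp.1 hr (Ne.symm hrp) hpg hrg⟩,
      ⟨g', mk2 hr hq.1 hrq hrg' hqg'⟩⟩
  have hno : ∀ g : G, ∀ r s : ℕ, Near G p r → Near G q s → r ∣ idx g → ¬ s ∣ idx g := by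
    intro g r s hr hs hrg hsg
    have hrs : r ≠ s := fun he => hdisj r hr (he ▸ hs)
    obtain ⟨hrp', g1, hpg1, hrg1⟩ := hr
    obtain ⟨hsp', g2, hqg2, hsg2⟩ := hs
    by_cases hrp : r = p
    · subst hrp
      exact hdisj s ⟨hsp', g, hrg, hsg⟩ ⟨hsp', g2, hqg2, hsg2⟩
    by_cases hsq : s = q
    · subst hsq
      exact hdisj r ⟨hrp', g1, hpg1, hrg1⟩ ⟨hrp', g, hsg, hrg⟩
    refine h3 ⟨r, s, ⟨hrp', g1, hrg1⟩, ⟨hsp', g2, hsg2⟩, hrp, hsq, hrs, ?_, ?_,
      ⟨g1, mk2 hp.1 hrp' (Ne.symm hrp) hpg1 hrg1⟩, ⟨g, mk2 hrp' hsp' hrs hrg hsg⟩,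
      ⟨g2, mk2 hsp' hq.1 hsq hsg2 hqg2⟩⟩
    · rintro rfl; exact hadj ⟨g1, mk2 hp.1 hq.1 hpq hpg1 hrg1⟩
    · rintro rfl; exact hadj ⟨g2, mk2 hp.1 hq.1 hpq hsg2 hqg2⟩
  obtain ⟨gp, hgp⟩ := hp.2
  obtain ⟨gq, hgq⟩ := hq.2
  haveI : Nonempty {g : G // p ∣ idx g ∨ q ∣ idx g} := ⟨⟨gp, Or.inl hgp⟩⟩
  obtain ⟨⟨x, hx⟩, hmax⟩ := Finite.exists_max (fun g : {g : G // p ∣ idx g ∨ q ∣ idx g} => idx g.1)
  rcases hx with hx | hx
  · obtain ⟨a, b, ha, hb, haA, hbA, g, hab⟩ := hconn {r | Near G p r}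
      ⟨p, ⟨hp.1, gp, hgp, hgp⟩, hp⟩
      ⟨q, fun h => hdisj q h ⟨hq.1, gq, hgq, hgq⟩, hq⟩
    exact hno g a b haA
      (far_prime hp.1 hq.1 hx hgq hno (fun g hg => hmax ⟨g, Or.inr hg⟩) hb.1 hb.2 hbA)
      (dvd_trans (dvd_mul_right a b) hab) (dvd_trans (dvd_mul_left b a) hab)
  · obtain ⟨a, b, ha, hb, haA, hbA, g, hab⟩ := hconn {r | Near G q r}
      ⟨q, ⟨hq.1, gq, hgq, hgq⟩, hq⟩
      ⟨p, fun h => hdisj p ⟨hp.1, gp, hgp, hgp⟩ h, hp⟩
    exact hno g b a
      (far_prime hq.1 hp.1 hx hgp (fun g r s hr hs h1 h2 => hno g s r hs hr h2 h1)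
        (fun g hg => hmax ⟨g, Or.inl hg⟩) hb.1 hb.2 hbA)
      haA (dvd_trans (dvd_mul_left b a) hab) (dvd_trans (dvd_mul_right a b) hab)

end Cfsg.Agent.S4257
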