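import Cfsg.Statements.S4260

set_option autoImplicit false
set_option linter.style.haveILetI false
open Cfsg

namespace Cfsg.Agent.S4260

/-- Let H be a Hall subgroup of a finite group G (the order of H is coprime to its index) such that x^[G : H] lies in H for every x in G. Then H is normal in G. -/
theorem result {G : Type*} [Group G] [Finite G] (H : Subgroup G) (hHall : (Nat.card H).Coprime H.index)
    (hexp : ∀ x : G, x ^ H.index ∈ H) : H.Normal := by
  constructor
  intro n hn g
  set y := g * n * g⁻¹ with hy
  have ho : orderOf y ∣ Nat.card H := by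
    rw [hy, ← MulAut.conj_apply, MulEquiv.orderOf_eq]
    exact orderOf_submonoid (⟨n, hn⟩ : H) ▸ orderOf_dvd_natCard _
  obtain ⟨m, hm⟩ := exists_pow_eq_self_of_coprime (n := H.index) (x := y) (hHall.symm.coprime_dvd_right ho)
  rw [← hm]
  exact pow_mem (hexp y) m

end Cfsg.Agent.S4260
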