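import Cfsg.Statements.S4261
import Cfsg.Agent.S0048
import Cfsg.Agent.Lib.Fusion.Basic
import Cfsg.Agent.Lib.PGroup.Basic

set_option autoImplicit false
set_option linter.style.haveILetI false
open Cfsg

namespace Cfsg.Agent.S4261

/-- Let M be a maximal subgroup of a finite solvable group G such that x^[G : M] lies in M for every x in G. Then M is normal in G. -/
theorem result {G : Type*} [Group G] [Finite G] (hG : Group.IsSolvable G) (M : Subgroup G) (hM : IsCoatom M)
    (hexp : ∀ x : G, x ^ M.index ∈ M) : M.Normal := by
  haveI := hG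
  obtain ⟨p, k, hp, -, hk⟩ := Cfsg.Agent.S0048.result M hM
  haveI := Fact.mk hp.nat_prime
  have hR : Cfsg.pResidual p G ≤ M := by
    rw [Cfsg.pResidual, Subgroup.closure_le]
    intro g hg
    obtain ⟨m, hm⟩ := exists_pow_eq_self_of_coprime (n := M.index) (x := g)
      (hk ▸ ((Nat.Coprime.symm hg).pow_left k))
    rw [← hm]
    exact pow_mem (hexp g) m
  set q := QuotientGroup.mk' (Cfsg.pResidual p G) with hq
  have hsurj : Function.Surjective q := QuotientGroup.mk'_surjective _
  have hback : (M.map q).comap q = M :=
    Subgroup.comap_map_eq_self ((QuotientGroup.ker_mk' _).le.trans hR)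
  have hM' : IsCoatom (M.map q) := by
    refine ⟨fun h => hM.1 (by rw [← hback, h, Subgroup.comap_top]), fun K hK => ?_⟩
    have h2 : M < K.comap q := by
      rw [← hback]
      exact (Subgroup.comap_lt_comap_of_surjective hsurj).mpr hK
    have := congrArg (Subgroup.map q) (hM.2 _ h2)
    rwa [Subgroup.map_comap_eq_self_of_surjective hsurj,
      Subgroup.map_top_of_surjective _ hsurj] at this
  haveI := Cfsg.Lib.PGroup.normal_of_isCoatom (Cfsg.Lib.Fusion.isPGroup_quotient_pResidual (p := p) (G := G)) hM'
  rw [← hback]
  infer_instance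

end Cfsg.Agent.S4261
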