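import Cfsg.Statements.S4262
import Cfsg.Agent.Lib.Thompson.FixedPointFree
import Cfsg.Agent.Lib.Solv.FrobeniusBasic
import Cfsg.Agent.Lib.Fusion.Parts

set_option autoImplicit false
set_option linter.style.haveILetI false
open Cfsg

namespace Cfsg.Agent.S4262

open Subgroup

universe u

variable {G : Type u} [Group G] [Finite G]

/-- The hypothesis. -/
def Hyp (G : Type u) [Group G] : Prop :=
  ∀ g : G, g ∉ Subgroup.center G → IsCoatom (Subgroup.centralizer ({g} : Set G))

theorem centralizer_eq_of_le (h : Hyp G) {x y : G} (hx : x ∉ center G) (hy : y ∉ center G)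
    (hle : centralizer ({x} : Set G) ≤ centralizer ({y} : Set G)) :
    centralizer ({x} : Set G) = centralizer ({y} : Set G) := by
  rcases (h x hx).le_iff.mp hle with h1 | h1
  · exact absurd h1 (h y hy).1
  · exact h1.symm

theorem centralizer_le_of_mem_zpowers {x y : G} (hy : y ∈ zpowers x) :
    centralizer ({x} : Set G) ≤ centralizer ({y} : Set G) := by
  intro c hc
  rw [mem_centralizer_singleton_iff] at hc ⊢
  obtain ⟨k, rfl⟩ := mem_zpowers_iff.mp hy
  exact (Commute.zpow_right (hc : Commute c x) k).eq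

theorem not_center_of_mem_zpowers {x y : G} (hy : y ∈ zpowers x) (h : y ∉ center G) :
    x ∉ center G := fun hx => h (zpowers_le.mpr hx hy)

theorem centralizer_eq_of_coprime (h : Hyp G) {x y : G} (hx : x ∉ center G) (hy : y ∉ center G)
    (hc : Commute x y) (hcop : (orderOf x).Coprime (orderOf y)) :
    centralizer ({x} : Set G) = centralizer ({y} : Set G) := by
  have key : ∀ a b : G, Commute a b → (orderOf a).Coprime (orderOf b) → a ∈ zpowers (a * b) := by
    intro a b hab hco
    obtain ⟨m, hm⟩ := exists_pow_eq_self_of_coprime (x := a) (n := orderOf b) hco.symm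
    have he : ((a * b) ^ orderOf b) ^ m = a := by
      rw [hab.mul_pow, pow_orderOf_eq_one b, mul_one]; exact hm
    have hh := (zpowers (a * b)).pow_mem
      ((zpowers (a * b)).pow_mem (mem_zpowers (a * b)) (orderOf b)) m
    rwa [he] at hh
  have hxm := key x y hc hcop
  have hym : y ∈ zpowers (x * y) := hc.eq ▸ key y x hc.symm hcop.symm
  have hxy := not_center_of_mem_zpowers hxm hx
  rw [← centralizer_eq_of_le h hxy hx (centralizer_le_of_mem_zpowers hxm),
    centralizer_eq_of_le h hxy hy (centralizer_le_of_mem_zpowers hym)]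

/-- A noncentral element has the centralizer of one of its parts of prime power order. -/
theorem exists_primary (h : Hyp G) {g : G} (hg : g ∉ center G) :
    ∃ (y : G) (p k : ℕ), p.Prime ∧ orderOf y = p ^ k ∧ y ∉ center G ∧
      centralizer ({g} : Set G) = centralizer ({y} : Set G) := by
  obtain ⟨y, hy, p, k, hp, ho, hyZ⟩ : ∃ y ∈ zpowers g, ∃ p k : ℕ, p.Prime ∧ orderOf y = p ^ k ∧
      y ∉ center G := by
    by_contra hne
    push Not at hne
    exact hg (Cfsg.Lib.Fusion.induction_parts g (Q := (· ∈ center G))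
      (fun y hy p k hp ho => hne y hy p k hp ho) (fun a _ b _ => mul_mem))
  exact ⟨y, p, k, hp, ho, hyZ, centralizer_eq_of_le h hg hyZ (centralizer_le_of_mem_zpowers hy)⟩

/-- Elements of order prime to `p` of the centralizer of a noncentral `p`-element are central in it. -/
theorem commute_of_coprime (h : Hyp G) {g : G} {p k : ℕ} (ho : orderOf g = p ^ k)
    (hg : g ∉ center G) {y m : G} (hy : y ∈ centralizer ({g} : Set G))
    (hm : m ∈ centralizer ({g} : Set G)) (hco : (orderOf y).Coprime p) : Commute y m := by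
  by_cases hyZ : y ∈ center G
  · exact (mem_center_iff.mp hyZ m).symm
  have heq := centralizer_eq_of_coprime h hyZ hg (mem_centralizer_singleton_iff.mp hy)
    (by rw [ho]; exact hco.pow_right k)
  rw [← heq] at hm
  exact ((mem_centralizer_singleton_iff.mp hm) : Commute m y).symm

theorem isNilpotent_centralizer (h : Hyp G) {g : G} (hg : g ∉ center G) :
    Group.IsNilpotent (centralizer ({g} : Set G)) := by
  obtain ⟨y, p, k, hp, ho, hyZ, heq⟩ := exists_primary h hg
  rw [heq]
  have : Fact p.Prime := ⟨hp⟩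
  refine Group.of_quotient_center_nilpotent (IsPGroup.isNilpotent (p := p) fun x => ?_)
  obtain ⟨m, rfl⟩ := QuotientGroup.mk_surjective x
  obtain ⟨a, c, hc, hac⟩ := Nat.exists_eq_pow_mul_and_not_dvd (orderOf_pos m).ne' p hp.ne_one
  refine ⟨a, ?_⟩
  rw [← QuotientGroup.mk_pow, QuotientGroup.eq_one_iff, mem_center_iff]
  intro z
  refine Subtype.ext ((commute_of_coprime h ho hyZ (m ^ p ^ a).2 z.2 ?_).eq.symm)
  rw [Subgroup.orderOf_coe, orderOf_pow_of_dvd (pow_ne_zero _ hp.ne_zero) (hac ▸ dvd_mul_right _ _),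
    hac, Nat.mul_div_cancel_left _ (pow_pos hp.pos _)]
  exact (hp.coprime_iff_not_dvd.mpr hc).symm

theorem isSolvable_of_normal_solvable (h : Hyp G) {R : Subgroup G} (hR : R.Normal)
    (hsol : Group.IsSolvable R) (hne : ¬ R ≤ center G) : Group.IsSolvable G := by
  obtain ⟨x, hxR, hxZ⟩ := SetLike.not_le_iff_exists.mp hne
  obtain ⟨g, hg⟩ : ∃ g : G, x ∉ centralizer ({g} : Set G) := by
    by_contra hne'
    push Not at hne'
    exact hxZ (mem_center_iff.mpr fun g => (mem_centralizer_singleton_iff.mp (hne' g)).symm)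
  have hgZ : g ∉ center G := fun hgc =>
    hg (mem_centralizer_singleton_iff.mpr (mem_center_iff.mp hgc x))
  have htop : centralizer ({g} : Set G) ⊔ R = ⊤ :=
    (h g hgZ).2 _ (lt_of_le_of_ne le_sup_left fun he => hg (he ▸ mem_sup_right hxR))
  have := isNilpotent_centralizer h hgZ
  have hsurj : Function.Surjective
      ((QuotientGroup.mk' R).comp (centralizer ({g} : Set G)).subtype) := by
    intro y
    obtain ⟨z, rfl⟩ := QuotientGroup.mk_surjective y
    obtain ⟨a, ha, b, hb, rfl⟩ := mem_sup_of_normal_right.mp (htop ▸ mem_top z)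
    refine ⟨⟨a, ha⟩, ?_⟩
    show (a : G ⧸ R) = ((a * b : G) : G ⧸ R)
    rw [QuotientGroup.mk_mul, (QuotientGroup.eq_one_iff b).mpr hb, mul_one]
  have : Group.IsSolvable (G ⧸ R) := Group.isSolvable_of_surjective hsurj
  exact Group.isSolvable_of_ker_le_range R.subtype (QuotientGroup.mk' R)
    (by rw [QuotientGroup.ker_mk', range_subtype])

open scoped Pointwise in
theorem isSolvable_of_abelian_centralizer (h : Hyp G) {g : G} (hg : g ∉ center G)
    (hab : ∀ a ∈ centralizer ({g} : Set G), ∀ b ∈ centralizer ({g} : Set G), Commute a b) :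
    Group.IsSolvable G := by
  set M := centralizer ({g} : Set G) with hM
  have hMnil := isNilpotent_centralizer h hg
  have hgM : g ∈ M := mem_centralizer_singleton_iff.mpr rfl
  by_cases hMn : M.Normal
  · exact isSolvable_of_normal_solvable h hMn inferInstance fun hle => hg (hle hgM)
  have hNM : normalizer (M : Set G) = M := by
    rcases (h g hg).le_iff.mp (le_normalizer (H := M)) with h1 | h1
    · exact absurd (normalizer_eq_top_iff.mp h1) hMn
    · exact h1
  have hZM : center G ≤ M := fun z hz =>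
    mem_centralizer_singleton_iff.mpr (mem_center_iff.mp hz g).symm
  have hCm : ∀ m ∈ M, m ∉ center G → centralizer ({m} : Set G) = M := fun m hm hmZ => by
    refine (centralizer_eq_of_le h hg hmZ fun c hc => ?_).symm
    exact mem_centralizer_singleton_iff.mpr (hab c hc m hm).eq
  set q := QuotientGroup.mk' (center G) with hq
  have hqs : Function.Surjective q := QuotientGroup.mk'_surjective _
  have hker : q.ker = center G := QuotientGroup.ker_mk' _
  set H := M.map q with hH
  have hcomap : H.comap q = M := comap_map_eq_self (hker.trans_le hZM)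
  have hmemH : ∀ c : G, q c ∈ H → c ∈ M := fun c hc => hcomap.le hc
  have hqone : ∀ c : G, q c = 1 → c ∈ center G := fun c hc => hker.le (q.mem_ker.mpr hc)
  have hF : Cfsg.IsFrobeniusComplement H := by
    refine ⟨fun h1 => hg ?_, fun h1 => (h g hg).1 ?_, fun y hy => ?_⟩
    · refine hqone g ?_
      have : q g ∈ H := ⟨g, hgM, rfl⟩
      rwa [h1, mem_bot] at this
    · rw [← hM, ← hcomap, h1, comap_top]
    obtain ⟨x, rfl⟩ := hqs y
    rw [eq_bot_iff]
    rintro _ ⟨⟨m, hm, rfl⟩, hm'⟩
    rw [mem_bot]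
    by_contra hne
    have hmZ : m ∉ center G := fun hz => hne (q.mem_ker.mp (hker.ge hz))
    have hm2 : x⁻¹ * m * x ∈ M := hmemH _ (by
      simpa [map_mul, map_inv] using Cfsg.Lib.Core.mem_conj_smul.1 hm')
    have hm2Z : x⁻¹ * m * x ∉ center G := fun hz => hmZ (by
      have := (inferInstance : (center G).Normal).conj_mem _ hz x
      simpa [mul_assoc] using this)
    have hle : M.map (MulAut.conj x).toMonoidHom ≤ M := by
      rintro _ ⟨n, hn, rfl⟩
      have h1 : Commute n (x⁻¹ * m * x) := hab n hn _ hm2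
      have h2 : Commute (x * n * x⁻¹) (x * (x⁻¹ * m * x) * x⁻¹) := h1.map (MulAut.conj x)
      rw [show x * (x⁻¹ * m * x) * x⁻¹ = m by group] at h2
      exact (hCm m hm hmZ).le (mem_centralizer_singleton_iff.mpr h2.eq)
    have hxN : x ∈ normalizer (M : Set G) := mem_normalizer_iff_map_conj_eq.mpr
      (eq_of_le_of_card_ge hle (card_map_of_injective (MulAut.conj x).injective).ge)
    rw [hNM] at hxN
    exact hy ⟨x, hxN, rfl⟩
  obtain ⟨K, hK, hKn, hc⟩ := Cfsg.Lib.Solv.frobenius_theorem hF
  obtain ⟨y, hy, hy1⟩ := Cfsg.Lib.Solv.exists_mem_frobeniusKernel_ne_one hF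
  rw [← hK, SetLike.mem_coe] at hy
  obtain ⟨x, rfl⟩ := hqs y
  have hxZ : x ∉ center G := fun hz => hy1 (q.mem_ker.mp (hker.ge hz))
  have hle : centralizer ({x} : Set G) ≤ K.comap q := by
    intro c hcx
    rw [mem_comap, ← SetLike.mem_coe, hK, Cfsg.Lib.Solv.mem_frobeniusKernel_iff]
    by_cases hcZ : c ∈ center G
    · exact Or.inl (q.mem_ker.mp (hker.ge hcZ))
    refine Or.inr fun y hy' => ?_
    obtain ⟨z, rfl⟩ := hqs y
    rw [← map_inv, ← map_mul, ← map_mul] at hy'
    have hcM : z⁻¹ * c * z ∈ M := hmemH _ hy'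
    have hcZ' : z⁻¹ * c * z ∉ center G := fun hz => hcZ (by
      have := (inferInstance : (center G).Normal).conj_mem _ hz z
      simpa [mul_assoc] using this)
    have hxM : z⁻¹ * x * z ∈ M := by
      rw [← hCm _ hcM hcZ', mem_centralizer_singleton_iff]
      have h1 : Commute c x := mem_centralizer_singleton_iff.mp hcx
      have h2 := (h1.map (MulAut.conj z⁻¹)).symm.eq
      simpa [mul_assoc] using h2
    have h3 : q (z⁻¹ * x * z) ∈ K ⊓ H := by
      refine ⟨?_, ⟨_, hxM, rfl⟩⟩
      rw [map_mul, map_mul, map_inv]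
      have := hKn.conj_mem _ hy (q z)⁻¹
      rwa [inv_inv] at this
    rw [hc.disjoint.eq_bot, mem_bot, map_mul, map_mul, map_inv] at h3
    refine hy1 ?_
    calc q x = q z * ((q z)⁻¹ * q x * q z) * (q z)⁻¹ := by group
      _ = 1 := by rw [h3]; group
  have hKtop : K.comap q ≠ ⊤ := fun h1 => hF.1 (by
    have hKt : K = ⊤ := by
      rw [← map_comap_eq_self_of_surjective hqs K, h1, map_top_of_surjective q hqs]
    have := hc.disjoint.eq_bot
    rwa [hKt, top_inf_eq] at this)
  have heq : K.comap q = centralizer ({x} : Set G) :=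
    ((h x hxZ).le_iff.mp hle).resolve_left hKtop
  refine isSolvable_of_normal_solvable h (R := centralizer ({x} : Set G)) (heq ▸ hKn.comap q)
    (by have := isNilpotent_centralizer h hxZ; infer_instance) fun hle' => hxZ (hle' ?_)
  exact mem_centralizer_singleton_iff.mpr rfl

theorem hasNormalPComplement_of_odd (h : Hyp G) (hns : ¬ Group.IsSolvable G) {p : ℕ}
    [hp : Fact p.Prime] (hp2 : p ≠ 2) : Cfsg.HasNormalPComplement p G := by
  obtain ⟨P⟩ : Nonempty (Sylow p G) := inferInstance
  have homega : (∀ x ∈ (P : Subgroup G), x ^ p = 1 → x ∈ center G) →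
      Cfsg.HasNormalPComplement p G := by
    intro hc
    refine (Cfsg.Lib.Fusion.frobenius P).mpr fun Q hQ g hg hco => ?_
    obtain ⟨j, hj⟩ := IsPGroup.iff_card.mp (P.2.to_le hQ)
    exact Cfsg.Lib.PGroup.le_centralizer_of_centralizes_omega hp2 (zpowers g) Q (P.2.to_le hQ)
      (zpowers_le.mpr hg) (by rw [Nat.card_zpowers, hj]; exact hco.pow_right j)
      (fun z hz hzp a _ => mem_center_iff.mp (hc z (hQ hz) hzp) a) (mem_zpowers g)
  by_cases hall : ∀ x ∈ (P : Subgroup G), x ∈ center G
  · exact homega fun x hx _ => hall x hx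
  push Not at hall
  obtain ⟨g, hgP, hgZ⟩ := hall
  obtain ⟨k, hk⟩ : ∃ k, orderOf g = p ^ k := by
    obtain ⟨i, hi⟩ := IsPGroup.iff_card.mp P.2
    obtain ⟨j, -, hj⟩ := (Nat.dvd_prime_pow hp.out).mp (hi ▸ orderOf_dvd_natCard _ hgP)
    exact ⟨j, hj⟩
  set M := centralizer ({g} : Set G) with hM
  have hMnil := isNilpotent_centralizer h hgZ
  obtain ⟨S⟩ : Nonempty (Sylow p M) := inferInstance
  have hSn : (S : Subgroup M).Normal :=
    (Group.isNilpotent_of_finite_tfae.out 0 3 rfl rfl).mp hMnil p hp S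
  set S₁ := (S : Subgroup M).map M.subtype with hS₁
  have hpart : ∀ m ∈ M, ∀ q j : ℕ, q.Prime → orderOf m = q ^ j → q ≠ p →
      ∀ z ∈ M, Commute m z := fun m hm q j hq hj hne z hz =>
    commute_of_coprime h hk hgZ hm hz (by
      rw [hj]; exact ((Nat.coprime_primes hq hp.out).mpr hne).pow_left j)
  have hpS : ∀ m ∈ M, ∀ j : ℕ, orderOf m = p ^ j → m ∈ S₁ := by
    intro m hm j hj
    have hmp : IsPGroup p (zpowers (⟨m, hm⟩ : M)) :=
      IsPGroup.of_card (n := j) (by rw [Nat.card_zpowers, Subgroup.orderOf_mk, hj])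
    have : zpowers (⟨m, hm⟩ : M) ≤ (S : Subgroup M) := by
      obtain ⟨T, hT⟩ := hmp.exists_le_sylow
      obtain ⟨y, hy⟩ := MulAction.exists_smul_eq M S T
      rw [Sylow.smul_eq_iff_mem_normalizer.mpr ((normalizer_eq_top_iff.mpr hSn).ge (mem_top y))] at hy
      exact hy ▸ hT
    exact ⟨⟨m, hm⟩, this (mem_zpowers _), rfl⟩
  have hSnZ : ¬ S₁ ≤ center G := by
    intro hle
    refine hns (isSolvable_of_abelian_centralizer h hgZ fun a ha b hb => ?_)
    refine Cfsg.Lib.Fusion.induction_parts a (Q := fun a => Commute a b) (fun y hy q j hq hj => ?_)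
      (fun _ _ _ _ h1 h2 => h1.mul_left h2)
    have hyM : y ∈ M := zpowers_le.mpr ha hy
    by_cases hqp : q = p
    · exact (mem_center_iff.mp (hle (hpS y hyM j (hqp ▸ hj))) b).symm
    · exact hpart y hyM q j hq hj hqp b hb
  have hS₁p : IsPGroup p S₁ := S.2.map _
  have hNtop : normalizer (S₁ : Set G) ≠ ⊤ := fun h1 =>
    hns (isSolvable_of_normal_solvable h (normalizer_eq_top_iff.mp h1)
      (by have := hS₁p.isNilpotent; infer_instance) hSnZ)
  have hMN : M ≤ normalizer (S₁ : Set G) := by
    intro m hm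
    rw [mem_normalizer_iff_map_conj_eq]
    refine eq_of_le_of_card_ge ?_ (card_map_of_injective (MulAut.conj m).injective).ge
    rintro _ ⟨_, ⟨s, hs, rfl⟩, rfl⟩
    exact ⟨⟨m, hm⟩ * s * ⟨m, hm⟩⁻¹, hSn.conj_mem s hs _, rfl⟩
  have hNeq : normalizer (S₁ : Set G) = M := ((h g hgZ).le_iff.mp hMN).resolve_left hNtop
  obtain ⟨T, hT⟩ := hS₁p.exists_le_sylow
  have hTS : (T : Subgroup G) = S₁ := by
    rcases eq_or_lt_of_le hT with h1 | h1
    · exact h1.symm
    exfalso
    have h2 := Cfsg.Lib.Fusion.lt_inf_normalizer T.2 h1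
    rw [hNeq] at h2
    have h3 : (S : Subgroup M) = ((T : Subgroup G) ⊓ M).subgroupOf M :=
      (S.3 ((T.2.to_le inf_le_left).of_equiv (subgroupOfEquivOfLe inf_le_right).symm)
        (fun s hs => h2.le ⟨s, hs, rfl⟩)).symm
    exact h2.ne (by rw [hS₁, h3, map_subgroupOf_eq_of_le inf_le_right])
  have hTM : (T : Subgroup G) ≤ M := hTS.trans_le (map_subtype_le _)
  have hgT : g ∈ (T : Subgroup G) :=
    hTS ▸ hpS g (mem_centralizer_singleton_iff.mpr rfl) k hk
  have hgz : g ∈ Cfsg.Lib.Thompson.zenter (T : Subgroup G) :=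
    ⟨hgT, mem_centralizer_iff.mpr fun t ht => mem_centralizer_singleton_iff.mp (hTM ht)⟩
  by_cases hJ : normalizer (Cfsg.thompsonSubgroupOf p (T : Subgroup G) : Set G) = ⊤
  · by_cases hJZ : Cfsg.thompsonSubgroupOf p (T : Subgroup G) ≤ center G
    · obtain ⟨A, hA, hAT⟩ := Cfsg.Lib.Thompson.exists_maxEA_le_sylow T
      have hAJ : A ≤ Cfsg.thompsonSubgroupOf p (T : Subgroup G) := by
        rw [Cfsg.Lib.Thompson.thompsonSubgroupOf_eq _ ⟨A, hA, hAT⟩]
        exact le_sSup ⟨hA, hAT⟩
      refine homega fun x _ hxp => hJZ (hAJ (Cfsg.Lib.Thompson.mem_of_commute hA hxp ?_))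
      exact fun a ha => mem_center_iff.mp (hJZ (hAJ ha)) x
    · refine absurd (isSolvable_of_normal_solvable h (normalizer_eq_top_iff.mp hJ) ?_ hJZ) hns
      have := (T.2.to_le (Cfsg.Lib.Thompson.thompsonSubgroupOf_le (p := p) (T : Subgroup G))).isNilpotent
      infer_instance
  have hnpcM : Cfsg.HasNormalPComplement p M := Cfsg.Lib.Thompson.hasNormalPComplement_of_isNilpotent
  refine Cfsg.Lib.Thompson.thompson_normal_p_complement hp2 T ⟨?_, ?_⟩
  · have hle : M ≤ normalizer (Cfsg.thompsonSubgroupOf p (T : Subgroup G) : Set G) := by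
      rw [← hNeq, ← hTS]
      exact Cfsg.Lib.Thompson.normalizer_le_normalizer_thompsonSubgroupOf _
    rw [((h g hgZ).le_iff.mp hle).resolve_left hJ]
    exact hnpcM
  · exact Cfsg.Lib.Fusion.hasNormalPComplement_of_le
      (fun c hc => mem_centralizer_singleton_iff.mpr (mem_centralizer_iff.mp hc g hgz).symm) hnpcM

/-- Let G be a finite group in which the centralizer of every non-central element is a maximal subgroup of G. Then G is solvable. -/
theorem result {G : Type*} [Group G] [Finite G]
    (h : ∀ g : G, g ∉ Subgroup.center G → IsCoatom (Subgroup.centralizer ({g} : Set G))) :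
    Group.IsSolvable G := by
  by_contra hns
  have hk : ∀ s : Finset ℕ, (∀ p ∈ s, p.Prime ∧ p ≠ 2) →
      ∃ k, ∀ p ∈ s, derivedSeries G k ≤ Cfsg.pResidual p G := by
    intro s
    induction s using Finset.induction with
    | empty => exact fun _ => ⟨0, by simp⟩
    | @insert a s _ ih =>
      intro hs
      obtain ⟨k, hk⟩ := ih fun p hp => hs p (Finset.mem_insert_of_mem hp)
      have : Fact a.Prime := ⟨(hs a (Finset.mem_insert_self a s)).1⟩
      have hnil := (Cfsg.Lib.Fusion.isPGroup_quotient_pResidual (p := a) (G := G)).isNilpotent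
      have hsolv : Group.IsSolvable (G ⧸ Cfsg.pResidual a G) := inferInstance
      obtain ⟨j, hj⟩ := hsolv.solvable
      have hjle : derivedSeries G j ≤ Cfsg.pResidual a G := by
        have h1 := map_derivedSeries_le_derivedSeries (QuotientGroup.mk' (Cfsg.pResidual a G)) j
        rw [hj, le_bot_iff, Subgroup.map_eq_bot_iff, QuotientGroup.ker_mk'] at h1
        exact h1
      refine ⟨max j k, fun p hp => ?_⟩
      rcases Finset.mem_insert.mp hp with rfl | hp'
      · exact (derivedSeries_antitone G (le_max_left j k)).trans hjle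
      · exact (derivedSeries_antitone G (le_max_right j k)).trans (hk p hp')
  obtain ⟨k, hk⟩ := hk ((Nat.card G).primeFactors.erase 2) fun p hp =>
    ⟨Nat.prime_of_mem_primeFactors (Finset.mem_of_mem_erase hp), Finset.ne_of_mem_erase hp⟩
  refine hns ?_
  have hD : IsPGroup 2 (derivedSeries G k) := IsPGroup.of_card
    (Nat.eq_prime_pow_of_unique_prime_dvd (p := 2) Nat.card_pos.ne' fun {d} hd hdvd => by
      by_contra hne
      have : Fact d.Prime := ⟨hd⟩
      have hmem : d ∈ (Nat.card G).primeFactors.erase 2 := Finset.mem_erase.mpr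
        ⟨hne, Nat.mem_primeFactors.mpr ⟨hd, hdvd.trans (card_subgroup_dvd_card _), Nat.card_pos.ne'⟩⟩
      have hc := Cfsg.Lib.Fusion.hasNormalPComplement_iff_coprime.mp
        (hasNormalPComplement_of_odd h hns (p := d) hne)
      exact (hd.coprime_iff_not_dvd.mp hc.symm) (hdvd.trans (card_dvd_of_le (hk d hmem))))
  have := Fact.mk Nat.prime_two
  have := hD.isNilpotent
  obtain ⟨j, hj⟩ : ∃ j, derivedSeries (derivedSeries G k) j = ⊥ :=
    (inferInstance : Group.IsSolvable (derivedSeries G k)).solvable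
  refine ⟨⟨k + j, ?_⟩⟩
  have haux : ∀ i, derivedSeries G (k + i) =
      (derivedSeries (derivedSeries G k) i).map (derivedSeries G k).subtype := by
    intro i
    induction i with
    | zero => rw [derivedSeries_zero, ← MonoidHom.range_eq_map, range_subtype]; rfl
    | succ i ih => rw [← add_assoc, derivedSeries_succ, ih, derivedSeries_succ, map_commutator]
  rw [haux, hj, Subgroup.map_bot]

end Cfsg.Agent.S4262
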