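import Cfsg.Statements.S4263
import Cfsg.Agent.Lib.Fusion.Parts

set_option autoImplicit false
set_option linter.style.haveILetI false
open Cfsg

namespace Cfsg.Agent.S4263

open Subgroup in
theorem forward {G : Type*} [Group G] [Finite G] {x : G} (hx : x ∈ Cfsg.fittingSubgroup G)
    (H : Subgroup G) : x ^ H.index ∈ H := by
  refine Cfsg.Lib.Fusion.induction_parts x (Q := fun y => y ∈ Cfsg.fittingSubgroup G → y ^ H.index ∈ H)
    ?_ ?_ hx
  · intro y _ p k hp hy hyF
    haveI := Fact.mk hp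
    haveI hn : (Cfsg.pCore p G).Normal := Subgroup.sSup_normal _ fun _ h => h.1
    have hyp := Cfsg.Lib.Fusion.mem_pCore_of_mem_fitting hyF ⟨k, hy⟩
    obtain ⟨j, hj⟩ : ∃ j, H.relIndex (Cfsg.pCore p G) = p ^ j := by
      obtain ⟨n, hn⟩ := IsPGroup.iff_card.mp (Cfsg.Lib.Fusion.pCore_isPGroup (G := G) p)
      obtain ⟨j, -, hj⟩ := (Nat.dvd_prime_pow hp).mp (hn ▸ relIndex_dvd_card H (Cfsg.pCore p G))
      exact ⟨j, hj⟩
    have h1 := Cfsg.Lib.Fusion.pow_mem_of_relIndex hp hyp ⟨k, hy⟩ hj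
    have h2 : p ^ j ∣ H.index := by
      rw [← hj]
      have e1 := relIndex_mul_relIndex ⊥ (H ⊓ Cfsg.pCore p G) H bot_le inf_le_left
      have e2 := relIndex_mul_relIndex ⊥ (H ⊓ Cfsg.pCore p G) (Cfsg.pCore p G) bot_le inf_le_right
      have e3 := relIndex_mul_relIndex ⊥ (Cfsg.pCore p G) (H ⊔ Cfsg.pCore p G) bot_le le_sup_right
      have e4 := relIndex_mul_relIndex ⊥ H (H ⊔ Cfsg.pCore p G) bot_le le_sup_left
      simp only [relIndex_bot_left, inf_relIndex_left, inf_relIndex_right, relIndex_sup_right] at e1 e2 e3 e4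
      have e5 : H.relIndex (Cfsg.pCore p G) = H.relIndex (H ⊔ Cfsg.pCore p G) := by
        refine Nat.eq_of_mul_eq_mul_left (Nat.card_pos (α := H)) ?_
        rw [e4, ← e3, ← e1, ← e2]
        ring
      rw [e5]
      exact relIndex_dvd_index_of_le le_sup_left
    obtain ⟨t, ht⟩ := h2
    rw [ht, pow_mul]
    exact pow_mem h1 t
  · intro a ha b hb iha ihb hab
    have hF : ∀ c ∈ zpowers x, c ∈ Cfsg.fittingSubgroup G := fun c hc => zpowers_le.mpr hx hc
    obtain ⟨i, rfl⟩ := mem_zpowers_iff.mp ha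
    obtain ⟨j, rfl⟩ := mem_zpowers_iff.mp hb
    rw [(Commute.zpow_zpow (Commute.refl x) i j).mul_pow]
    exact mul_mem (iha (hF _ ha)) (ihb (hF _ hb))

/-- Let G be a finite group. An element x lies in the Fitting subgroup F(G) if and only if, for every subgroup H of G, the power x^[G : H] lies in H. -/
theorem result {G : Type*} [Group G] [Finite G] (x : G) :
    x ∈ Cfsg.fittingSubgroup G ↔ ∀ H : Subgroup G, x ^ H.index ∈ H := by
  refine ⟨fun hx H => forward hx H, fun h => ?_⟩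
  refine Cfsg.Lib.Fusion.induction_parts x (Q := fun y => y ∈ Cfsg.fittingSubgroup G)
    (fun y hy p k hp hyo => ?_) (fun a _ b _ ha hb => mul_mem ha hb)
  haveI := Fact.mk hp
  obtain ⟨i, rfl⟩ := Subgroup.mem_zpowers_iff.mp hy
  have hP : ∀ P : Sylow p G, x ^ i ∈ (P : Subgroup G) := by
    intro P
    have h1 : (x ^ i) ^ (P : Subgroup G).index ∈ (P : Subgroup G) := by
      rw [← zpow_natCast, ← zpow_mul, mul_comm, zpow_mul, zpow_natCast]
      exact zpow_mem (h P) i
    have hco : ((P : Subgroup G).index).Coprime (orderOf (x ^ i)) := by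
      rw [hyo]
      exact ((hp.coprime_iff_not_dvd.mpr P.not_dvd_index).symm).pow_right k
    obtain ⟨m, hm⟩ := exists_pow_eq_self_of_coprime hco
    rw [← hm]
    exact pow_mem h1 m
  let P : Sylow p G := Classical.arbitrary _
  refine Cfsg.Lib.Fusion.pCore_le_fitting (p := p) (Cfsg.Lib.Fusion.le_pCore
    (N := (P : Subgroup G).normalCore) inferInstance (P.2.to_le (Subgroup.normalCore_le _)) ?_)
  intro g
  obtain ⟨z, hz, he⟩ := hP (g⁻¹ • P)
  have he' : g⁻¹ * z * g⁻¹⁻¹ = x ^ i := he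
  rw [← he']
  have : g * (g⁻¹ * z * g⁻¹⁻¹) * g⁻¹ = z := by group
  rw [this]
  exact hz

end Cfsg.Agent.S4263
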