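import Cfsg.Statements.S4264
import Cfsg.Agent.Lib.PermClass.Cover
-- import your own Cfsg.Agent.* helpers here

set_option autoImplicit false
open Cfsg

namespace Cfsg.Agent.S4264

/-- Let G be a subgroup of the symmetric group of degree d ≥ 1. Then G has at most 5^{d−1} conjugacy classes. -/
theorem result (d : ℕ) (hd : 1 ≤ d) (G : Subgroup (Equiv.Perm (Fin d))) : Nat.card (ConjClasses ↥G) ≤ 5 ^ (d - 1) := by
  by_cases h : d ≤ 9
  · calc Nat.card (ConjClasses ↥G) ≤ Nat.card G :=
          Nat.card_le_card_of_surjective ConjClasses.mk ConjClasses.mk_surjective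
      _ ≤ Nat.card (Equiv.Perm (Fin d)) := Subgroup.card_le_card_group G
      _ = d.factorial := by rw [Nat.card_perm, Nat.card_fin]
      _ ≤ 5 ^ (d - 1) := by interval_cases d <;> decide
  · have h1 := Cfsg.Agent.PermClass.card_conjClasses_le G
    rw [Nat.card_fin] at h1
    have h2 : Nat.card (ConjClasses ↥G) ≤ 4 ^ d := by exact_mod_cast h1
    refine h2.trans ?_
    have : ∀ n, 10 ≤ n → 4 ^ n ≤ 5 ^ (n - 1) := by
      intro n hn
      induction n, hn using Nat.le_induction with
      | base => norm_num
      | succ m hm ih =>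
        obtain ⟨k, rfl⟩ : ∃ k, m = k + 1 := ⟨m - 1, by omega⟩
        simp only [Nat.add_sub_cancel] at ih ⊢
        rw [pow_succ, pow_succ 5]
        exact Nat.mul_le_mul ih (by norm_num)
    exact this d (by omega)

end Cfsg.Agent.S4264
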