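import Cfsg.Statements.S4265
import Cfsg.Agent.Lib.Solv.ClassCount.Linear

set_option autoImplicit false
open Cfsg

namespace Cfsg.Agent.S4265

/-- Let G be a finite solvable subgroup of GL_r(ℂ), r ≥ 1, with Fitting subgroup F(G) normal in G. Then for every subgroup H of G the quotient H/(H ∩ F(G)) has at most 3^{r−1} conjugacy classes. -/
theorem result (r : ℕ) (hr : 1 ≤ r) (G : Subgroup (GL (Fin r) ℂ)) [Finite ↥G] (hsolv : Group.IsSolvable ↥G) [hF : (Cfsg.fittingSubgroup ↥G).Normal] (H : Subgroup ↥G) : Nat.card (ConjClasses (↥H ⧸ (Cfsg.fittingSubgroup ↥G).subgroupOf H)) ≤ 3 ^ (r - 1) := by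
  haveI := hsolv
  let F := Cfsg.fittingSubgroup ↥G
  let ρ : Representation ℂ ↥G (Fin r → ℂ) :=
    Matrix.toLinAlgEquiv'.toMonoidHom.comp ((Units.coeHom (Matrix (Fin r) (Fin r) ℂ)).comp G.subtype)
  have hρ : Function.Injective ρ := fun a b h =>
    Subtype.ext (Units.ext (Matrix.toLinAlgEquiv'.injective h))
  have h := Cfsg.Lib.Solv.ClassCount.linBound r ↥G (Fin r → ℂ) ρ hρ (Module.finrank_fin_fun ℂ)
  set f := (QuotientGroup.mk' (Cfsg.fittingSubgroup ↥G)).comp H.subtype with hf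
  have hker : f.ker = (Cfsg.fittingSubgroup ↥G).subgroupOf H := by
    rw [hf, ← MonoidHom.comap_ker, QuotientGroup.ker_mk']
    rfl
  refine le_trans (le_of_eq ?_) (h f.range)
  exact Cfsg.Lib.Solv.ClassCount.card_classes_congr
    ((QuotientGroup.quotientMulEquivOfEq hker.symm).trans (QuotientGroup.quotientKerEquivRange f))

end Cfsg.Agent.S4265
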