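import Cfsg.Statements.S4266
import Cfsg.Agent.Lib.Solv.ClassLower.Top

set_option autoImplicit false
open Cfsg

namespace Cfsg.Agent.S4266

/-- Let p be a prime and G a finite solvable group whose order is divisible by p². Then G has at least 49p/60 conjugacy classes. -/
theorem result {G : Type*} [Group G] [Finite G] (hsolv : Group.IsSolvable G) (p : ℕ) [Fact p.Prime] (hp : p ^ 2 ∣ Nat.card G) : 49 * p ≤ 60 * Nat.card (ConjClasses G) := by
  haveI := hsolv
  let e : {_i : Fin (Nat.card G) // True} ≃ G :=
    (Equiv.subtypeUnivEquiv fun _ => trivial).trans (Finite.equivFin G).symm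
  letI : Group {_i : Fin (Nat.card G) // True} := e.group
  have h := Cfsg.Lib.Solv.ClassLower.class_bound (p := p) (Nat.card G) {_i : Fin (Nat.card G) // True}
    (Group.isSolvable_of_surjective (G := G) (f := e.mulEquiv.symm.toMonoidHom) e.mulEquiv.symm.surjective)
    (Nat.card_congr e) hp
  rwa [Cfsg.Lib.Solv.ClassCount.card_classes_congr e.mulEquiv] at h

end Cfsg.Agent.S4266
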