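import Cfsg.Statements.S4269
import Cfsg.Agent.Lib.Coprime.Conjugacy

set_option linter.style.haveILetI false
set_option maxHeartbeats 400000

set_option autoImplicit false
open Cfsg

namespace Cfsg.Agent.S4269

open Subgroup
open scoped commutatorElement

theorem map_conj_mul {G : Type*} [Group G] (H : Subgroup G) (a b : G) :
    (H.map (MulAut.conj b).toMonoidHom).map (MulAut.conj a).toMonoidHom =
      H.map (MulAut.conj (a * b)).toMonoidHom := Cfsg.Lib.Coprime.map_conj_conj H a b

/-- Let G be a finite group, V an abelian normal subgroup and H a subgroup with HV = G. Then H is pronormal in G (H and gHg⁻¹ are conjugate inside the subgroup they generate, for every g) if and only if every H-invariant subgroup U of V satisfies U = N_U(H)·[H, U], that is, U is the join of U ∩ N_G(H) and the commutator subgroup [H, U]. -/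
theorem result {G : Type*} [Group G] [Finite G]
    (V : Subgroup G) [V.Normal] (hV : IsMulCommutative ↥V) (H : Subgroup G) (hHV : H ⊔ V = ⊤) :
    Cfsg.IsPronormal H ↔
      ∀ U : Subgroup G, U ≤ V → (∀ h ∈ H, U.map (MulAut.conj h).toMonoidHom = U) →
        U = (U ⊓ Subgroup.normalizer (H : Set G)) ⊔ ⁅H, U⁆ := by
  have hVc : ∀ a ∈ V, ∀ b ∈ V, a * b = b * a := fun a ha b hb =>
    congrArg Subtype.val (hV.is_comm.comm (⟨a, ha⟩ : V) ⟨b, hb⟩)
  have hself : ∀ h ∈ H, H.map (MulAut.conj h).toMonoidHom = H := fun h hh =>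
    Cfsg.Lib.Coprime.map_conj_eq_self (le_normalizer hh)
  constructor
  · intro hpro U hUV hU
    have hUinv : ∀ h ∈ H, ∀ u ∈ U, h * u * h⁻¹ ∈ U := fun h hh u hu => (hU h hh).le ⟨u, hu, rfl⟩
    have hcU : ⁅H, U⁆ ≤ U := commutator_le.mpr fun h hh u hu => by
      rw [commutatorElement_def]; exact mul_mem (hUinv h hh u hu) (inv_mem hu)
    refine le_antisymm (fun u hu => ?_) (sup_le inf_le_left hcU)
    obtain ⟨x, hx, he⟩ := hpro u
    have hle : H ⊔ H.map (MulAut.conj u).toMonoidHom ≤ ⁅H, U⁆ ⊔ H := by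
      refine sup_le le_sup_right ?_
      rintro _ ⟨h, hh, rfl⟩
      show u * h * u⁻¹ ∈ _
      have h1 : ⁅h⁻¹, u⁆ ∈ ⁅H, U⁆ := commutator_mem_commutator (inv_mem hh) hu
      have := mul_mem (mem_sup_right (S := ⁅H, U⁆) hh) (mem_sup_left (T := H) h1)
      rwa [commutatorElement_def, show h * (h⁻¹ * u * h⁻¹⁻¹ * u⁻¹) = u * h * u⁻¹ by group] at this
    obtain ⟨c, hc, h, hh, rfl⟩ := Cfsg.Lib.Coprime.exists_mul_of_mem_sup
      (normalizer_commutator_ge_left H U) (hle hx)
    have hn : c⁻¹ * u ∈ U ⊓ normalizer (H : Set G) := by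
      refine ⟨U.mul_mem (U.inv_mem (hcU hc)) hu, ?_⟩
      show c⁻¹ * u ∈ normalizer (H : Set G)
      rw [mem_normalizer_iff_map_conj_eq]
      show H.map (MulAut.conj (c⁻¹ * u)).toMonoidHom = H
      rw [← map_conj_mul, he, map_conj_mul, inv_mul_cancel_left, hself h hh]
    have := mul_mem (mem_sup_right (S := U ⊓ normalizer (H : Set G)) hc) (mem_sup_left (T := ⁅H, U⁆) hn)
    rwa [mul_inv_cancel_left] at this
  · intro hcrit g
    obtain ⟨h, hh, v₀, hv₀, rfl⟩ := mem_sup_of_normal_right.mp (hHV ▸ mem_top g : g ∈ H ⊔ V)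
    set v := h * v₀ * h⁻¹ with hvdef
    have hv : v ∈ V := (inferInstance : V.Normal).conj_mem _ hv₀ h
    have hg : H.map (MulAut.conj (h * v₀)).toMonoidHom = H.map (MulAut.conj v).toMonoidHom := by
      rw [show h * v₀ = v * h by rw [hvdef]; group, ← map_conj_mul, hself h hh]
    rw [hg]
    set J := H ⊔ H.map (MulAut.conj v).toMonoidHom with hJ
    set T := {u : G | ∃ k ∈ H, u = k * v * k⁻¹} with hT
    set U := closure T with hU
    have hUV : U ≤ V := (closure_le V).mpr (by
      rintro _ ⟨k, _, rfl⟩; exact (inferInstance : V.Normal).conj_mem _ hv k)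
    have hUle : ∀ k ∈ H, U.map (MulAut.conj k).toMonoidHom ≤ U := by
      intro k hk
      rw [map_le_iff_le_comap, hU, closure_le]
      rintro _ ⟨k', hk', rfl⟩
      exact subset_closure ⟨k * k', mul_mem hk hk', by
        show k * (k' * v * k'⁻¹) * k⁻¹ = _
        group⟩
    have hUinv : ∀ k ∈ H, U.map (MulAut.conj k).toMonoidHom = U := fun k hk => by
      refine le_antisymm (hUle k hk) ?_
      calc U = (U.map (MulAut.conj k⁻¹).toMonoidHom).map (MulAut.conj k).toMonoidHom := by
            rw [map_conj_mul, mul_inv_cancel, Cfsg.Lib.Coprime.map_conj_one]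
        _ ≤ _ := map_mono (hUle _ (inv_mem hk))
    have hJc : ⁅H, U⁆ ≤ J := by
      refine commutator_le.mpr fun k hk u hu => ?_
      have hkey : ∀ k ∈ H, ⁅k, v⁆ ∈ J := fun k hk => by
        rw [commutatorElement_def, show k * v * k⁻¹ * v⁻¹ = k * (v * k⁻¹ * v⁻¹) by group]
        exact mul_mem (mem_sup_left hk) (mem_sup_right ⟨k⁻¹, inv_mem hk, rfl⟩)
      induction hu using closure_induction generalizing k with
      | mem u hu =>
        obtain ⟨k', hk', rfl⟩ := hu
        rw [show ⁅k, k' * v * k'⁻¹⁆ = k' * ⁅k'⁻¹ * k * k', v⁆ * k'⁻¹ by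
          simp only [commutatorElement_def]; group]
        exact mul_mem (mul_mem (mem_sup_left hk') (hkey _ (mul_mem (mul_mem (inv_mem hk') hk) hk')))
          (mem_sup_left (inv_mem hk'))
      | one => rw [commutatorElement_one_right]; exact one_mem _
      | mul a b ha hb iha ihb =>
        have hb' : k * b * k⁻¹ * b⁻¹ ∈ V :=
          mul_mem ((inferInstance : V.Normal).conj_mem _ (hUV hb) k) (inv_mem (hUV hb))
        have h3 : a * (k * b * k⁻¹ * b⁻¹) * a⁻¹ = k * b * k⁻¹ * b⁻¹ := by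
          rw [hVc a (hUV ha) _ hb', mul_inv_cancel_right]
        rw [show ⁅k, a * b⁆ = ⁅k, a⁆ * (a * (k * b * k⁻¹ * b⁻¹) * a⁻¹) by
          simp only [commutatorElement_def]; group, h3]
        have := ihb k hk
        rw [commutatorElement_def] at this
        exact mul_mem (iha k hk) this
      | inv a ha iha =>
        have h3 : a⁻¹ * ⁅k, a⁆⁻¹ * a = ⁅k, a⁆⁻¹ := by
          have hm : ⁅k, a⁆⁻¹ ∈ V := inv_mem (by
            rw [commutatorElement_def]
            exact mul_mem ((inferInstance : V.Normal).conj_mem _ (hUV ha) k) (inv_mem (hUV ha)))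
          rw [hVc a⁻¹ (inv_mem (hUV ha)) _ hm, inv_mul_cancel_right]
        rw [show ⁅k, a⁻¹⁆ = a⁻¹ * ⁅k, a⁆⁻¹ * a by simp only [commutatorElement_def]; group, h3]
        exact inv_mem (iha k hk)
    have hvU : v ∈ U := subset_closure ⟨1, one_mem _, by group⟩
    have hsplit := hcrit U hUV hUinv
    have hcU : ⁅H, U⁆ ≤ U := le_sup_right.trans hsplit.ge
    have hnorm : U ⊓ normalizer (H : Set G) ≤ normalizer ((⁅H, U⁆ : Subgroup G) : Set G) :=
      inf_le_left.trans (normalizer_commutator_ge_right H U)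
    have h4 : v ∈ ⁅H, U⁆ ⊔ (U ⊓ normalizer (H : Set G)) := by rw [sup_comm]; exact hsplit.le hvU
    obtain ⟨c, hc, n, hn, hve⟩ := Cfsg.Lib.Coprime.exists_mul_of_mem_sup hnorm h4
    refine ⟨c, hJc hc, ?_⟩
    rw [hve, ← map_conj_mul, Cfsg.Lib.Coprime.map_conj_eq_self hn.2]

end Cfsg.Agent.S4269
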