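import Cfsg.Statements.S4274
import Mathlib
import Cfsg.Agent.Lib.Order175560.Table
import Cfsg.Agent.Lib.Order175560.Local
import Cfsg.Agent.Lib.Order175560.Twenty


set_option autoImplicit false
open Cfsg

namespace Cfsg.Agent.S4274


open Subgroup Cfsg.Lib.Order175560

theorem mem_psOf {n p : ℕ} (h : p ∈ psOf n) : p.Prime ∧ p ∣ n ∧ ¬ p * p ∣ n := by
  simp only [psOf, List.mem_filter, Bool.and_eq_true, beq_iff_eq, bne_iff_ne, ne_eq] at h
  obtain ⟨h1, h2, h3⟩ := h
  refine ⟨?_, Nat.dvd_of_mod_eq_zero h2, fun hd => h3 (Nat.mod_eq_zero_of_dvd hd)⟩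
  simp at h1
  rcases h1 with rfl | rfl | rfl | rfl | rfl | rfl <;> norm_num

/-- The data at one prime. -/
def Data (G : Type*) [Group G] (p : ℕ) (t : LocalRec) : Prop :=
  t.p = p ∧ ∃ (_ : Fact p.Prime) (P : Sylow p G),
    Nat.card (Sylow p G) = t.s ∧
    Nat.card ↥(centralizer ((P : Subgroup G) : Set G)) = p * t.c

theorem exists_data {G : Type*} [Group G] [Finite G] [IsSimpleGroup G] (hd : Nat.card G ∣ 175560)
    {p : ℕ} (hp : p ∈ psOf (Nat.card G)) (hne : Nat.card G ≠ p) :
    ∃ t, t ∈ cands (Nat.card G) p ∧ Data G p t := by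
  obtain ⟨hpp, h1, h2⟩ := mem_psOf hp
  haveI : Fact p.Prime := ⟨hpp⟩
  obtain ⟨P⟩ : Nonempty (Sylow p G) := inferInstance
  obtain ⟨he1, he2, hs1⟩ := relIndex_centralizer h1 h2 hne P
  have hP := sylow_card_eq h1 h2 P
  have hPC : (P : Subgroup G) ≤ centralizer ((P : Subgroup G) : Set G) := sylow_le_centralizer h1 h2 P
  have hdc := Subgroup.card_dvd_of_le hPC
  have hCN : Nat.card ↥(centralizer ((P : Subgroup G) : Set G)) *
      (centralizer ((P : Subgroup G) : Set G)).relIndex (normalizer ((P : Subgroup G) : Set G)) =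
      Nat.card ↥(normalizer ((P : Subgroup G) : Set G)) := by
    rw [relIndex, ← (Subgroup.subgroupOf _ _).card_mul_index (G := ↥(normalizer ((P : Subgroup G) : Set G))),
      Nat.card_congr (subgroupOfEquivOfLe (centralizer_le_normalizer _)).toEquiv]
  rw [hP] at hdc
  obtain ⟨c, hc⟩ := hdc
  have hn : Nat.card G = p * c * (centralizer ((P : Subgroup G) : Set G)).relIndex
      (normalizer ((P : Subgroup G) : Set G)) * Nat.card (Sylow p G) := by
    rw [← hc, hCN, P.card_eq_index_normalizer]
    exact (Subgroup.card_mul_index _).symm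
  have hmod : Nat.card (Sylow p G) % p = 1 := by
    have := card_sylow_modEq_one p G
    rw [Nat.ModEq, Nat.one_mod_eq_one.2 hpp.ne_one] at this
    exact this
  have hs0 : 0 < Nat.card (Sylow p G) := Nat.card_pos
  set s := Nat.card (Sylow p G) with hs
  set e := (centralizer ((P : Subgroup G) : Set G)).relIndex (normalizer ((P : Subgroup G) : Set G)) with he
  have hd1 : Nat.card G / p = c * e * s := by
    rw [hn, mul_assoc p c e, mul_assoc p, Nat.mul_div_cancel_left _ hpp.pos]
  have hd2 : Nat.card G / p / s = c * e := by rw [hd1, Nat.mul_div_cancel _ hs0]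
  have hd3 : Nat.card G / p / s / e = c := by rw [hd2, Nat.mul_div_cancel _ (by omega : 0 < e)]
  refine ⟨⟨p, s, e, c⟩, ?_, rfl, ‹Fact p.Prime›, P, rfl, hc⟩
  refine List.mem_flatMap.2 ⟨s, mem_divList (dvd_trans ⟨p * c * e, by rw [hn]; ring⟩ hd), ?_⟩
  rw [if_pos (by
    simp only [Bool.and_eq_true, decide_eq_true_eq, beq_iff_eq]
    exact ⟨⟨by omega, hmod⟩, by rw [hd1, Nat.mul_mod_left]⟩)]
  refine List.mem_map.2 ⟨e, List.mem_filter.2 ⟨mem_divList (dvd_trans ⟨p * c * s, by rw [hn]; ring⟩ hd), ?_⟩,
    by rw [hd3]⟩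
  simp only [Bool.and_eq_true, decide_eq_true_eq, beq_iff_eq]
  refine ⟨⟨⟨he2, Nat.mod_eq_zero_of_dvd he1⟩, by rw [hd2, Nat.mul_mod_left]⟩, ?_⟩
  by_cases h : p = 19 ∧ s = 20
  · obtain ⟨rfl, hs20⟩ := h
    obtain ⟨hC, hodd⟩ := twenty h1 h2 (by rw [← hs20]) P
    rw [hC] at hc
    have hc1 : c = 1 := by omega
    have h2e : e % 2 = 1 := by omega
    simp [hd3, hc1, h2e]
  · have hb : (p == 19 && s == 20) = false := by
      rw [Bool.eq_false_iff]
      simpa [Bool.and_eq_true] using h
    rw [hb]
    rfl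

theorem pair_ok {G : Type*} [Group G] [Finite G] {p q : ℕ}
    (hp : p ∈ psOf (Nat.card G)) (hq : q ∈ psOf (Nat.card G)) (hd : Nat.card G ∣ 175560)
    {t u : LocalRec} (ht : Data G p t) (hu : Data G q u) : pairOK t u = true := by
  obtain ⟨rfl, _, P, hPs, hPc⟩ := ht
  obtain ⟨rfl, _, Q, hQs, hQc⟩ := hu
  obtain ⟨hpp, hp1, hp2⟩ := mem_psOf hp
  obtain ⟨hqp, hq1, hq2⟩ := mem_psOf hq
  by_cases hqc : u.p ∣ t.c
  swap
  · simp [pairOK, Nat.dvd_iff_mod_eq_zero] at hqc ⊢
    exact Or.inl hqc
  have hdC : u.p ∣ Nat.card ↥(centralizer ((P : Subgroup G) : Set G)) :=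
    hPc ▸ dvd_mul_of_dvd_right hqc _
  obtain ⟨ha1, ha2⟩ := innerCount_mod hq1 hq2 P hdC
  have hab := innerCount_mul P Q
  rw [hPs, hQs] at hab
  have hs : t.s ≠ 0 := hPs ▸ Nat.card_pos.ne'
  have hb0 : innerCount Q t.p ≠ 0 := fun h => by
    rw [h, mul_zero] at hab
    rcases Nat.mul_eq_zero.1 hab with h | h
    · exact hs h
    · rw [h, Nat.zero_mod] at ha1; exact Nat.zero_ne_one ha1
  have hdC' : t.p ∣ Nat.card ↥(centralizer ((Q : Subgroup G) : Set G)) := by
    obtain ⟨⟨A, hA⟩⟩ := (Nat.card_pos_iff.1 (Nat.pos_of_ne_zero hb0)).1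
    have h' := Subgroup.card_dvd_of_le hA
    rwa [sylow_card_eq hp1 hp2 A] at h'
  obtain ⟨hb1, hb2⟩ := innerCount_mod hp1 hp2 Q hdC'
  have hpc : t.p ∣ u.c := by
    rw [hQc] at hdC'
    rcases (hpp.dvd_mul).1 hdC' with h | h
    · -- the two primes are equal
      have h' : t.p = u.p := (Nat.prime_dvd_prime_iff_eq hpp hqp).1 h
      exfalso
      have hPG := (centralizer ((P : Subgroup G) : Set G)).card_subgroup_dvd_card
      rw [hPc] at hPG
      obtain ⟨k, hk⟩ := hqc
      exact hp2 (dvd_trans ⟨k, by rw [hk, ← h']; ring⟩ hPG)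
    · exact h
  have mdiv : ∀ a, a ∣ Nat.card G → a ∈ divList := fun a ha => mem_divList (ha.trans hd)
  have hda : innerCount P u.p ∣ Nat.card G :=
    ha2.trans ((Nat.div_dvd_of_dvd hdC).trans (Subgroup.card_subgroup_dvd_card _))
  have hdb : innerCount Q t.p ∣ Nat.card G :=
    hb2.trans ((Nat.div_dvd_of_dvd hdC').trans (Subgroup.card_subgroup_dvd_card _))
  rw [hPc] at ha2
  rw [hQc] at hb2
  simp only [pairOK, Bool.or_eq_true, Bool.and_eq_true, beq_iff_eq, List.any_eq_true]
  exact Or.inr ⟨Nat.mod_eq_zero_of_dvd hpc, _, mdiv _ hda,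
    ⟨Nat.mod_eq_zero_of_dvd ha2, ha1⟩, _, mdiv _ hdb,
    ⟨Nat.mod_eq_zero_of_dvd hb2, hb1⟩, hab⟩

theorem not_simple {G : Type*} [Group G] [Finite G] (hd : Nat.card G ∣ 175560)
    (h19 : 19 ∣ Nat.card G) (hne : Nat.card G ≠ 19) (hne' : Nat.card G ≠ 175560) :
    ¬ IsSimpleGroup G := by
  intro hS
  classical
  haveI := Fintype.ofFinite G
  set n := Nat.card G with hn
  have hgo : go n (psOf n) [] = true := by
    have h := List.all_eq_true.1 table n (mem_divList hd)
    simp only [Bool.or_eq_true, bne_iff_ne, ne_eq, beq_iff_eq] at h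
    rcases h with ((h | h) | h) | h
    · exact absurd (Nat.mod_eq_zero_of_dvd h19) h
    · exact absurd h hne
    · exact absurd h hne'
    · exact h
  have hnp : ∀ p ∈ psOf n, n ≠ p := fun p hp h => by
    obtain ⟨hpp, -, -⟩ := mem_psOf hp
    exact hne (h.trans ((Nat.prime_dvd_prime_iff_eq (by norm_num) hpp).1 (h ▸ h19)).symm)
  haveI : Nonempty LocalRec := ⟨⟨0, 0, 0, 0⟩⟩
  choose! f hf1 hf2 using fun p (hp : p ∈ psOf n) => exists_data hd hp (hnp p hp)
  have hfp : ∀ p ∈ psOf n, (f p).p = p := fun p hp => (hf2 p hp).1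
  have hlt := go_sound (psOf n) [] f hgo hf1 (fun t ht u hu => by
    simp only [List.append_nil, List.mem_map] at ht hu
    obtain ⟨p, hp, rfl⟩ := ht
    obtain ⟨q, hq, rfl⟩ := hu
    exact pair_ok hp hq hd (hf2 p hp) (hf2 q hq))
  rw [List.append_nil, List.map_map] at hlt
  set l := (psOf n).reverse.map f with hl
  let S : ℕ → Finset G := fun p => Finset.univ.filter fun x =>
    p ∣ orderOf x ∧ ∀ q ∈ psOf n, p < q → ¬ q ∣ orderOf x
  have hbound : ∀ p ∈ psOf n, weight l (f p) ≤ (S p).card := by
    intro p hp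
    obtain ⟨htp, _, P0, hs, hc⟩ := hf2 p hp
    obtain ⟨hpp, h1, h2⟩ := mem_psOf hp
    have hS' : (S p).card =
        Nat.card {x : G | p ∣ orderOf x ∧ ∀ q ∈ psOf n, p < q → ¬ q ∣ orderOf x} := by
      rw [Nat.card_eq_fintype_card]
      exact (Fintype.card_subtype _).symm
    rw [hS']
    simp only [weight, htp]
    rw [← hs, mul_assoc]
    split_ifs with hcop
    · rw [List.all_eq_true] at hcop
      have hcop' : ∀ q ∈ psOf n, p < q → ¬ q ∣ (f p).c := fun q hq hlt' hd' => by
        have := hcop (f q) (by rw [hl, List.mem_map]; exact ⟨q, List.mem_reverse.2 hq, rfl⟩)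
        simp only [hfp q hq, Bool.or_eq_true, decide_eq_true_eq, bne_iff_ne, ne_eq] at this
        rcases this with h | h
        · omega
        · exact h (Nat.mod_eq_zero_of_dvd hd')
      have hcard : ∀ P : Sylow p G,
          Nat.card ↥(centralizer ((P : Subgroup G) : Set G)) = p * (f p).c := by
        intro P
        rw [← hc]
        obtain ⟨g, rfl⟩ := MulAction.exists_smul_eq G P0 P
        refine (Nat.card_congr ?_).symm
        exact
          { toFun := fun x => ⟨g * x.1 * g⁻¹, by
              refine mem_centralizer_iff.2 fun y hy => ?_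
              rw [SetLike.mem_coe, Sylow.coe_subgroup_smul,
                Subgroup.mem_pointwise_smul_iff_inv_smul_mem] at hy
              simp only [MulAut.smul_def, map_inv, MulAut.conj_inv_apply] at hy
              have := mem_centralizer_iff.1 x.2 _ hy
              have e := congrArg (fun t => g * t * g⁻¹) this
              simpa [mul_assoc] using e⟩
            invFun := fun x => ⟨g⁻¹ * x.1 * g, by
              refine mem_centralizer_iff.2 fun y hy => ?_
              have hy' : g * y * g⁻¹ ∈ ((g • P0 : Sylow p G) : Subgroup G) := by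
                rw [Sylow.coe_subgroup_smul, Subgroup.mem_pointwise_smul_iff_inv_smul_mem]
                have e : (MulAut.conj g)⁻¹ • (g * y * g⁻¹) = y := by
                  simp [MulAut.smul_def, mul_assoc]
                rw [e]
                exact hy
              have := mem_centralizer_iff.1 x.2 _ hy'
              have e := congrArg (fun t => g⁻¹ * t * g) this
              simpa [mul_assoc] using e⟩
            left_inv := fun x => Subtype.ext (by group)
            right_inv := fun x => Subtype.ext (by group) }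
      refine card_sylow_mul_le h1 h2 _ _
        (fun P => {x : G | x ∈ centralizer ((P : Subgroup G) : Set G) ∧ p ∣ orderOf x})
        (fun P => le_card_singular h1 h2 P (hcard P)) ?_ (fun P x hx => hx)
      intro P x hx
      refine ⟨hx.2, fun q hq hlt' hd' => ?_⟩
      have h' : q ∣ p * (f p).c := by
        rw [← hcard P]
        have := orderOf_dvd_natCard (⟨x, hx.1⟩ : ↥(centralizer ((P : Subgroup G) : Set G)))
        rw [orderOf_mk] at this
        exact hd'.trans this
      rcases (mem_psOf hq).1.dvd_mul.1 h' with h | h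
      · exact absurd ((Nat.prime_dvd_prime_iff_eq (mem_psOf hq).1 hpp).1 h) (by omega)
      · exact hcop' q hq hlt' h
    · rw [mul_one]
      have hord : ∀ (P : Sylow p G) (x : G), x ∈ (P : Subgroup G) → x ≠ 1 → orderOf x = p := by
        intro P x hx hx1
        have h := orderOf_dvd_natCard (⟨x, hx⟩ : ↥(P : Subgroup G))
        rw [orderOf_mk, sylow_card_eq h1 h2 P] at h
        rcases hpp.eq_one_or_self_of_dvd _ h with h' | h'
        · exact absurd (orderOf_eq_one_iff.1 h') hx1
        · exact h'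
      refine card_sylow_mul_le h1 h2 _ _ (fun P => {x : G | x ∈ (P : Subgroup G) ∧ x ≠ 1})
        (fun P => le_of_eq ?_) ?_ ?_
      · have e : {x : G | x ∈ (P : Subgroup G) ∧ x ≠ 1} = ((P : Subgroup G) : Set G) \ {1} := rfl
        rw [Nat.card_coe_set_eq, e, Set.ncard_diff_singleton_of_mem (one_mem _)]
        · rw [← Nat.card_coe_set_eq, SetLike.coe_sort_coe, sylow_card_eq h1 h2 P]
      · intro P x hx
        refine ⟨(hord P x hx.1 hx.2).symm ▸ dvd_rfl, fun q hq hlt' hd' => ?_⟩
        rw [hord P x hx.1 hx.2] at hd'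
        exact absurd ((Nat.prime_dvd_prime_iff_eq (mem_psOf hq).1 hpp).1 hd') (by omega)
      · intro P x hx
        exact ⟨sylow_le_centralizer h1 h2 P hx.1, (hord P x hx.1 hx.2).symm ▸ dvd_rfl⟩
  have hdisj : ∀ p ∈ (psOf n).toFinset, ∀ q ∈ (psOf n).toFinset, p ≠ q → Disjoint (S p) (S q) := by
    intro p hp q hq hpq
    rw [List.mem_toFinset] at hp hq
    refine Finset.disjoint_left.2 fun x hx hx' => ?_
    simp only [S, Finset.mem_filter, Finset.mem_univ, true_and] at hx hx'
    rcases lt_or_gt_of_ne hpq with h | h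
    · exact hx.2 q hq h hx'.1
    · exact hx'.2 p hp h hx.1
  have hnd : (psOf n).Nodup := List.Nodup.filter _ (by decide)
  have h1S : (1 : G) ∉ (psOf n).toFinset.biUnion S := by
    simp only [Finset.mem_biUnion, List.mem_toFinset, not_exists, not_and]
    intro p hp hx
    simp only [S, Finset.mem_filter, orderOf_one, Nat.dvd_one] at hx
    exact (mem_psOf hp).1.ne_one hx.2.1
  have htot := Finset.card_le_univ (insert (1 : G) ((psOf n).toFinset.biUnion S))
  rw [Finset.card_insert_of_notMem h1S, Finset.card_biUnion hdisj, ← Nat.card_eq_fintype_card, ← hn]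
    at htot
  have hsum : ((psOf n).reverse.map (weight l ∘ f)).sum ≤ ∑ p ∈ (psOf n).toFinset, (S p).card := by
    rw [List.map_reverse, List.sum_reverse, ← List.sum_toFinset _ hnd]
    exact Finset.sum_le_sum fun p hp => hbound p (List.mem_toFinset.1 hp)
  omega

universe u in
theorem normal_or_simple (n : ℕ) : ∀ (G : Type u) [Group G] [Finite G], Nat.card G = n → n ∣ 175560 →
    (n = 175560 ∧ IsSimpleGroup G) ∨ ∀ P : Sylow 19 G, (P : Subgroup G).Normal := by
  induction n using Nat.strong_induction_on with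
  | _ n ih =>
    intro G _ _ hn hd
    haveI : Fact (Nat.Prime 19) := ⟨by norm_num⟩
    by_cases h19 : 19 ∣ n
    swap
    · refine Or.inr fun P => ?_
      have : (P : Subgroup G) = ⊥ := by
        rw [← Subgroup.card_eq_one, P.card_eq_multiplicity, hn,
          Nat.factorization_eq_zero_of_not_dvd h19, pow_zero]
      rw [this]; infer_instance
    have h1 : 19 ∣ Nat.card G := hn.symm ▸ h19
    have h2 : ¬ 19 * 19 ∣ Nat.card G := fun h => by
      have h' := h.trans (hn.symm ▸ hd)
      norm_num at h'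
    obtain ⟨P⟩ : Nonempty (Sylow 19 G) := inferInstance
    have hP := sylow_card_eq h1 h2 P
    suffices hh : (n = 175560 ∧ IsSimpleGroup G) ∨ (P : Subgroup G).Normal by
      refine hh.imp_right fun hN Q => ?_
      haveI := Sylow.unique_of_normal P hN
      rwa [Subsingleton.elim Q P]
    by_cases hn19 : n = 19
    · refine Or.inr ?_
      have : (P : Subgroup G) = ⊤ := Subgroup.eq_top_of_card_eq _ (by rw [hP, hn, hn19])
      rw [this]; infer_instance
    by_cases hS : IsSimpleGroup G
    · left
      refine ⟨?_, hS⟩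
      by_contra hne
      exact not_simple (hn.symm ▸ hd) h1 (by omega) (by omega) hS
    right
    haveI : Nontrivial G := Finite.one_lt_card_iff_nontrivial.1 (by
      have := Nat.le_of_dvd Nat.card_pos h1; omega)
    obtain ⟨N, hN, hN1, hN2⟩ : ∃ N : Subgroup G, N.Normal ∧ N ≠ ⊥ ∧ N ≠ ⊤ := by
      by_contra hcon
      push Not at hcon
      exact hS ⟨fun H hH => or_iff_not_imp_left.2 (hcon H hH)⟩
    haveI := hN
    have hNlt : Nat.card ↥N < n := by
      rw [← hn]
      exact lt_of_le_of_ne (Subgroup.card_le_card_group N) fun h => hN2 (Subgroup.eq_top_of_card_eq N h)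
    have hnle : n ≤ 175560 := Nat.le_of_dvd (by norm_num) hd
    -- a normal subgroup containing `P` in which `P` is normal
    have finish : ∀ M : Subgroup G, M.Normal → ∀ hle : (P : Subgroup G) ≤ M,
        ((P.subtype hle : Sylow 19 ↥M) : Subgroup ↥M).Normal → (P : Subgroup G).Normal := by
      intro M hM hle hnor
      haveI := Sylow.characteristic_of_normal _ hnor
      haveI := hM
      have h' : (((P.subtype hle : Sylow 19 ↥M) : Subgroup ↥M).map M.subtype).Normal :=
        inferInstance
      rwa [Sylow.coe_subtype, subgroupOf_map_subtype, inf_eq_left.2 hle] at h'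
    have hNd : Nat.card ↥N ∣ n := hn ▸ N.card_subgroup_dvd_card
    by_cases h19N : 19 ∣ Nat.card ↥N
    · obtain ⟨R⟩ : Nonempty (Sylow 19 ↥N) := inferInstance
      rcases ih _ hNlt ↥N rfl (hNd.trans hd) with ⟨h, -⟩ | hR
      · omega
      haveI := Sylow.characteristic_of_normal R (hR R)
      have hRn : ((R : Subgroup ↥N).map N.subtype).Normal := inferInstance
      have hRc : Nat.card ↥((R : Subgroup ↥N).map N.subtype) = 19 := by
        rw [card_map_of_injective N.subtype_injective,
          sylow_card_eq h19N (fun h => h2 (h.trans N.card_subgroup_dvd_card)) R]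
      have hs : IsPGroup 19 ↥((R : Subgroup ↥N).map N.subtype ⊔ (P : Subgroup G)) :=
        IsPGroup.to_sup_of_normal_left (IsPGroup.of_card (n := 1) (by rw [hRc, pow_one])) P.2
      have hle : (R : Subgroup ↥N).map N.subtype ≤ (P : Subgroup G) := by
        rw [← P.3 hs le_sup_right]; exact le_sup_left
      rwa [← eq_of_le_of_card_ge hle (by rw [hP, hRc])]
    -- the quotient
    have hQc : Nat.card (G ⧸ N) * Nat.card ↥N = n := by
      rw [← hn, Subgroup.card_eq_card_quotient_mul_card_subgroup N]
    have hN1' : 1 < Nat.card ↥N := Finite.one_lt_card_iff_nontrivial.2 ((nontrivial_iff_ne_bot N).2 hN1)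
    have hQlt : Nat.card (G ⧸ N) < n := by
      rw [← hQc]
      exact lt_mul_of_one_lt_right Nat.card_pos hN1'
    rcases ih _ hQlt (G ⧸ N) rfl ((Dvd.intro _ hQc).trans hd) with ⟨h, -⟩ | hR
    · omega
    let π := QuotientGroup.mk' N
    let P' : Sylow 19 (G ⧸ N) := P.mapSurjective (QuotientGroup.mk'_surjective N)
    have hPN : ((P : Subgroup G) ⊔ N).Normal := by
      have h' : ((P' : Subgroup (G ⧸ N)).comap π).Normal := (hR P').comap π
      rwa [Sylow.coe_mapSurjective, comap_map_eq, QuotientGroup.ker_mk'] at h'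
    refine finish _ hPN le_sup_left ?_
    set M := (P : Subgroup G) ⊔ N with hM
    have hle : (P : Subgroup G) ≤ M := le_sup_left
    rw [Sylow.coe_subtype]
    have hMc : Nat.card ↥M = 19 * Nat.card ↥N := by
      have hinf : (P : Subgroup G) ⊓ N = ⊥ := by
        rw [← Subgroup.card_eq_one]
        exact Nat.eq_one_of_dvd_coprimes ((Nat.Prime.coprime_iff_not_dvd (by norm_num)).2 h19N)
          ((Subgroup.card_dvd_of_le inf_le_left).trans hP.dvd) (Subgroup.card_dvd_of_le inf_le_right)
      have hr := Subgroup.relIndex_sup_right (P : Subgroup G) N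
      rw [relIndex, ← hM] at hr
      rw [← (N.subgroupOf M).card_mul_index, hr,
        Nat.card_congr (subgroupOfEquivOfLe (le_sup_right : N ≤ M)).toEquiv, ← inf_relIndex_right,
        inf_comm, hinf, relIndex_bot_left, hP, mul_comm]
    have hnorm : ∀ r : ℕ, r.Prime → ∀ k, r ^ k ∣ Nat.card ↥N →
        r ^ k ∣ Nat.card ↥(normalizer ((P : Subgroup G) : Set G) ⊓ M : Subgroup G) := by
      intro r hr k hk
      haveI : Fact r.Prime := ⟨hr⟩
      rcases Nat.eq_zero_or_pos k with rfl | hk0
      · simp
      -- a `P`-invariant Sylow subgroup of `N`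
      obtain ⟨R0⟩ : Nonempty (Sylow r ↥N) := inferInstance
      have hcnt : ¬ 19 ∣ Nat.card (Sylow r ↥N) := fun h =>
        h19N (h.trans ((R0.card_dvd_index).trans (Subgroup.index_dvd_card _)))
      let θ : G →* MulAut ↥N := MulAut.conjNormal
      letI : MulDistribMulAction ↥(P : Subgroup G) ↥N :=
        MulDistribMulAction.compHom _ (θ.comp (P : Subgroup G).subtype)
      obtain ⟨R, hR'⟩ := P.2.nonempty_fixed_point_of_prime_not_dvd_card (Sylow r ↥N) hcnt
      set R' := (R : Subgroup ↥N).map N.subtype with hR'def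
      have hRle : (P : Subgroup G) ≤ normalizer (R' : Set G) := by
        intro u hu
        have hfix : (⟨u, hu⟩ : ↥(P : Subgroup G)) • R = R := hR' ⟨u, hu⟩
        rw [mem_normalizer_iff]
        intro x
        have key : ∀ w : ↥(P : Subgroup G), w • R = R → ∀ y ∈ R', (w : G) * y * (w : G)⁻¹ ∈ R' := by
          rintro w hw _ ⟨y, hy, rfl⟩
          refine ⟨w • y, ?_, ?_⟩
          · have : w • y ∈ ((w • R : Sylow r ↥N) : Subgroup ↥N) :=
              Subgroup.smul_mem_pointwise_smul y w _ hy
            rwa [hw] at this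
          · rfl
        refine ⟨key ⟨u, hu⟩ hfix x, fun hx => ?_⟩
        have := key (⟨u, hu⟩⁻¹) (inv_smul_eq_iff.2 hfix.symm) _ hx
        simpa [mul_assoc] using this
      set H := R' ⊔ (P : Subgroup G) with hH
      have hRN : R' ≤ N := map_subtype_le _
      have hRc : Nat.card ↥R' = r ^ (Nat.card ↥N).factorization r := by
        rw [hR'def, card_map_of_injective N.subtype_injective, R.card_eq_multiplicity]
      have hsmall : Nat.card ↥R' ≤ 11 := by
        have hdv : Nat.card ↥R' ∣ 9240 := by
          have hh : Nat.card ↥R' * 19 ∣ 175560 := by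
            refine dvd_trans ?_ ((hn.symm ▸ hd : Nat.card G ∣ 175560))
            refine Nat.Coprime.mul_dvd_of_dvd_of_dvd ?_ R'.card_subgroup_dvd_card h1
            exact ((Nat.Prime.coprime_iff_not_dvd (by norm_num)).2
              fun h => h19N (h.trans (Subgroup.card_dvd_of_le hRN))).symm
          exact (Nat.mul_dvd_mul_iff_right (by norm_num : 0 < 19)).1 hh
        rw [hRc] at hdv ⊢
        set j := (Nat.card ↥N).factorization r
        have hmem := mem_divList (hdv.trans (by norm_num : 9240 ∣ 175560))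
        have hall : ∀ d ∈ divList, d ∣ 9240 → d ≤ 11 ∨ ∃ a ∈ [2, 3, 5, 7, 11], ∃ b ∈ [2, 3, 5, 7, 11],
            a ≠ b ∧ a ∣ d ∧ b ∣ d := by decide +kernel
        rcases hall _ hmem hdv with h | ⟨a, ha, b, hb, hab, had, hbd⟩
        · exact h
        · have pa : a.Prime := by simp at ha; rcases ha with rfl | rfl | rfl | rfl | rfl <;> norm_num
          have pb : b.Prime := by simp at hb; rcases hb with rfl | rfl | rfl | rfl | rfl <;> norm_num
          exact absurd (((Nat.prime_dvd_prime_iff_eq pa hr).1 (pa.dvd_of_dvd_pow had)).trans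
            ((Nat.prime_dvd_prime_iff_eq pb hr).1 (pb.dvd_of_dvd_pow hbd)).symm) hab
      -- `P` is normal in `H`
      have hPH : (P : Subgroup G) ≤ H := le_sup_right
      have hHc : Nat.card ↥H ∣ Nat.card ↥R' * 19 := by
        have hr' : R'.relIndex H = R'.relIndex (P : Subgroup G) := by
          rw [hH, sup_comm]
          haveI : (R'.subgroupOf (P : Subgroup G)).Normal := normal_subgroupOf_of_le_normalizer hRle
          haveI : (R'.subgroupOf ((P : Subgroup G) ⊔ R')).Normal :=
            normal_subgroupOf_sup_of_le_normalizer hRle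
          exact Nat.card_congr
            (QuotientGroup.quotientInfEquivProdNormalizerQuotient (P : Subgroup G) R' hRle).toEquiv.symm
        rw [← (R'.subgroupOf H).card_mul_index,
          Nat.card_congr (subgroupOfEquivOfLe (le_sup_left : R' ≤ H)).toEquiv]
        refine mul_dvd_mul_left _ ?_
        show R'.relIndex H ∣ 19
        rw [hr']
        exact (relIndex_dvd_card _ _).trans hP.dvd
      have hcnt1 : Nat.card (Sylow 19 ↥H) = 1 := by
        have hm := card_sylow_modEq_one 19 ↥H
        have hdi := (P.subtype hPH).card_dvd_index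
        have hPH' : Nat.card ↥((P.subtype hPH : Sylow 19 ↥H) : Subgroup ↥H) = 19 := by
          rw [Sylow.coe_subtype, Nat.card_congr (subgroupOfEquivOfLe hPH).toEquiv, hP]
        have hmi := ((P.subtype hPH : Sylow 19 ↥H) : Subgroup ↥H).card_mul_index
        rw [hPH'] at hmi
        have hle' : ((P.subtype hPH : Sylow 19 ↥H) : Subgroup ↥H).index ≤ 11 := by
          have := Nat.le_of_dvd (Nat.mul_pos Nat.card_pos (by norm_num)) hHc
          omega
        have hc' := Nat.le_of_dvd (Nat.pos_of_ne_zero Subgroup.index_ne_zero_of_finite) hdi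
        have hc0 : 0 < Nat.card (Sylow 19 ↥H) := Nat.card_pos
        rw [Nat.ModEq] at hm
        omega
      have hHN : H ≤ normalizer ((P : Subgroup G) : Set G) := by
        haveI : Subsingleton (Sylow 19 ↥H) := (Nat.card_eq_one_iff_unique.1 hcnt1).1
        have hn' : ((P.subtype hPH : Sylow 19 ↥H) : Subgroup ↥H).Normal := Sylow.normal_of_subsingleton _
        rw [Sylow.coe_subtype] at hn'
        exact (normal_subgroupOf_iff_le_normalizer hPH).1 hn'
      have hle' : R' ≤ normalizer ((P : Subgroup G) : Set G) ⊓ M :=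
        le_inf (le_sup_left.trans hHN) (hRN.trans le_sup_right)
      refine dvd_trans ?_ (Subgroup.card_dvd_of_le hle')
      rw [hRc]
      exact pow_dvd_pow r ((hr.pow_dvd_iff_le_factorization Nat.card_pos.ne').1 hk)
    have hfull : M ≤ normalizer ((P : Subgroup G) : Set G) := by
      have hdvd : Nat.card ↥M ∣ Nat.card ↥(normalizer ((P : Subgroup G) : Set G) ⊓ M : Subgroup G) := by
        rw [hMc]
        refine Nat.Coprime.mul_dvd_of_dvd_of_dvd ((Nat.Prime.coprime_iff_not_dvd (by norm_num)).2 h19N) ?_ ?_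
        · exact hP.symm.dvd.trans (Subgroup.card_dvd_of_le (le_inf le_normalizer hle))
        · exact (Nat.dvd_iff_prime_pow_dvd_dvd _ _).2 fun r k hr => hnorm r hr k
      have := eq_of_le_of_card_ge (inf_le_right : normalizer ((P : Subgroup G) : Set G) ⊓ M ≤ M)
        (Nat.le_of_dvd Nat.card_pos hdvd)
      exact inf_eq_right.1 this
    exact (normal_subgroupOf_iff_le_normalizer hle).2 hfull


/-- A finite group of order 175560 = 2³·3·5·7·11·19 is either simple or has a normal Sylow 19-subgroup. -/
theorem result {G : Type*} [Group G] [Finite G] (hG : Nat.card G = 175560) : IsSimpleGroup G ∨ ∀ P : Sylow 19 G, (P : Subgroup G).Normal := by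
  rcases normal_or_simple _ G hG dvd_rfl with ⟨-, h⟩ | h
  · exact Or.inl h
  · exact Or.inr h

end Cfsg.Agent.S4274
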