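import Cfsg.Statements.S4275
import Mathlib.GroupTheory.GroupAction.Defs
import Mathlib.Algebra.Group.Subgroup.Map
import Mathlib.Data.Fintype.Card

set_option autoImplicit false
open Cfsg

namespace Cfsg.Agent.S4275

open Subgroup

/-- Let G be a transitive group of permutations of a finite set Ω, let o ∈ Ω, and let α be an automorphism of G. Then α is induced by conjugation by a permutation of Ω normalizing G if and only if the image under α of the stabilizer of o fixes some point of Ω. -/
theorem result {Ω : Type*} [Fintype Ω] (G : Subgroup (Equiv.Perm Ω)) (htr : MulAction.IsPretransitive G Ω) (o : Ω) (α : G ≃* G) : (∃ σ : Equiv.Perm Ω, σ ∈ Subgroup.normalizer (G : Set (Equiv.Perm Ω)) ∧ ∀ g : G, ((α g : G) : Equiv.Perm Ω) = σ * (g : Equiv.Perm Ω) * σ⁻¹) ↔ ∃ ω : Ω, ∀ g ∈ (MulAction.stabilizer G o).map α.toMonoidHom, g • ω = ω := by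
  classical
  haveI := htr
  constructor
  · rintro ⟨σ, -, hσ⟩
    refine ⟨σ o, ?_⟩
    rintro _ ⟨g, hg, rfl⟩
    show ((α g : G) : Equiv.Perm Ω) (σ o) = σ o
    rw [hσ, Equiv.Perm.mul_apply, Equiv.Perm.mul_apply, Equiv.Perm.inv_def, Equiv.symm_apply_apply]
    exact congrArg σ hg
  · rintro ⟨ω, hω⟩
    choose r hr using fun y : Ω => MulAction.exists_smul_eq G o y
    let f : Ω → Ω := fun y => α (r y) • ω
    have hwd : ∀ (g : G) (y : Ω), g • o = y → f y = α g • ω := fun g y hgy => by
      have hmem : (r y)⁻¹ * g ∈ MulAction.stabilizer G o := by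
        rw [MulAction.mem_stabilizer_iff, mul_smul, hgy, inv_smul_eq_iff, hr y]
      have := hω _ (mem_map_of_mem α.toMonoidHom hmem)
      have h2 : α g = α (r y) * α ((r y)⁻¹ * g) := by rw [← map_mul, mul_inv_cancel_left]
      show α (r y) • ω = _
      rw [h2, mul_smul]
      exact congrArg (α (r y) • ·) this.symm
    have hsur : Function.Surjective f := fun z => by
      obtain ⟨g, hg⟩ := MulAction.exists_smul_eq G ω z
      obtain ⟨g', rfl⟩ := α.surjective g
      exact ⟨g' • o, (hwd g' _ rfl).trans hg⟩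
    let σ : Equiv.Perm Ω := Equiv.ofBijective f (Finite.surjective_iff_bijective.1 hsur)
    have hσ : ∀ g : G, ((α g : G) : Equiv.Perm Ω) = σ * (g : Equiv.Perm Ω) * σ⁻¹ := fun g => by
      rw [eq_mul_inv_iff_mul_eq]
      ext y
      rw [Equiv.Perm.mul_apply, Equiv.Perm.mul_apply]
      show α g • f y = f (g • y)
      rw [hwd (g * r y) (g • y) (by rw [mul_smul, hr]), map_mul, mul_smul]
    refine ⟨σ, mem_normalizer_iff.2 fun z => ⟨fun hz => ?_, fun hz => ?_⟩, hσ⟩
    · rw [← hσ ⟨z, hz⟩]; exact (α ⟨z, hz⟩).2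
    · obtain ⟨w, hw⟩ := α.surjective ⟨_, hz⟩
      have h := (hσ w).symm.trans (congrArg Subtype.val hw)
      have : (w : Equiv.Perm Ω) = z := mul_left_cancel (mul_right_cancel h)
      exact this ▸ w.2

end Cfsg.Agent.S4275
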