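import Cfsg.Statements.S4277
import Cfsg.Agent.S0675
import Cfsg.Prelude.Def_Perm
import Cfsg.Agent.Lib.Char.Orthogonality

set_option autoImplicit false
open Cfsg

namespace Cfsg.Agent.S4277

universe u v

open scoped commutatorElement

/-- Number of fixed points of a permutation. -/
noncomputable def fx {X : Type v} [Fintype X] (e : Equiv.Perm X) : ℤ := (Nat.card {x : X // e x = x} : ℤ)

variable {G : Type u} [Group G] [Fintype G] {X : Type v} [Fintype X]

/-- Burnside's lemma for a pair of actions. -/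
theorem sum_fx (a b : G →* Equiv.Perm X) :
    ∃ k : ℕ, ∑ g, fx (a g) * fx (b g) = (k : ℤ) * Nat.card G ∧
      ((∀ x y x' y' : X, (x = y ↔ x' = y') → ∃ g, a g x = x' ∧ b g y = y') → k ≤ 2) ∧
      (k ≤ 1 → 0 < Fintype.card X → Fintype.card X * Fintype.card X ∣ Nat.card G) := by
  classical
  let ψ : G →* Equiv.Perm (X × X) :=
    { toFun := fun g => Equiv.prodCongr (a g) (b g)
      map_one' := by ext p <;> simp
      map_mul' := fun g h => by ext p <;> simp }
  letI : MulAction G (X × X) := MulAction.compHom (X × X) ψ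
  have hs : ∀ (g : G) (p : X × X), g • p = (a g p.1, b g p.2) := fun _ _ => rfl
  refine ⟨Fintype.card (Quotient (MulAction.orbitRel G (X × X))), ?_, fun h2 => ?_, fun hk hX => ?_⟩
  · have h := MulAction.sum_card_fixedBy_eq_card_orbits_mul_card_group G (X × X)
    rw [Nat.card_eq_fintype_card, ← Nat.cast_mul, ← h, Nat.cast_sum]
    refine Finset.sum_congr rfl fun g _ => ?_
    rw [fx, fx, ← Nat.cast_mul, ← Nat.card_prod, ← Nat.card_eq_fintype_card]
    congr 1
    refine Nat.card_congr
      { toFun := fun p => ⟨(p.1.1, p.2.1), ?_⟩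
        invFun := fun p => (⟨p.1.1, ?_⟩, ⟨p.1.2, ?_⟩)
        left_inv := fun p => rfl
        right_inv := fun p => rfl }
    · show g • (p.1.1, p.2.1) = _
      rw [hs, p.1.2, p.2.2]
    · exact congrArg Prod.fst ((hs g p.1).symm.trans p.2)
    · exact congrArg Prod.snd ((hs g p.1).symm.trans p.2)
  · refine (Fintype.card_le_of_injective (fun q => decide (q.out.1 = q.out.2)) fun q q' h => ?_).trans
      (le_of_eq Fintype.card_bool)
    obtain ⟨g, hg1, hg2⟩ := h2 q'.out.1 q'.out.2 q.out.1 q.out.2 (decide_eq_decide.1 h).symm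
    rw [← Quotient.out_eq q, ← Quotient.out_eq q']
    exact Quotient.sound ⟨g, by show g • q'.out = q.out; rw [hs, hg1, hg2]⟩
  · obtain ⟨x⟩ := Fintype.card_pos_iff.1 hX
    have horb : MulAction.orbit G ((x, x) : X × X) = Set.univ := by
      haveI := Fintype.card_le_one_iff_subsingleton.1 hk
      refine Set.eq_univ_of_forall fun p => ?_
      exact Quotient.exact (Subsingleton.elim (Quotient.mk (MulAction.orbitRel G (X × X)) p)
        (Quotient.mk (MulAction.orbitRel G (X × X)) (x, x)))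
    have h := (MulAction.stabilizer G ((x, x) : X × X)).index_dvd_card
    rwa [MulAction.index_stabilizer, horb, Set.ncard_univ, Nat.card_eq_fintype_card, Fintype.card_prod] at h

/-- All twists of a doubly transitive action of prime degree have the same fixed point counts. -/
theorem fx_twist (a : G →* Equiv.Perm X) {p : ℕ} (hp : p.Prime) (hX : Fintype.card X = p)
    (h2 : ∀ x y x' y' : X, (x = y ↔ x' = y') → ∃ g, a g x = x' ∧ a g y = y')
    (hp2 : ¬ p * p ∣ Nat.card G) (φ : MulAut G) (g : G) : fx (a (φ g)) = fx (a g) := by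
  obtain ⟨k, hk, hk2, -⟩ := sum_fx a a
  obtain ⟨l, hl, -, hl1⟩ := sum_fx a (a.comp φ.toMonoidHom)
  have hl2 : 2 ≤ l := by
    by_contra hh
    have := hl1 (by omega) (hX ▸ hp.pos)
    rw [hX] at this
    exact hp2 this
  have hφ : ∑ g, fx (a (φ g)) * fx (a (φ g)) = ∑ g, fx (a g) * fx (a g) :=
    Fintype.sum_equiv φ.toEquiv _ _ fun g => rfl
  have hsum : ∑ g, (fx (a (φ g)) - fx (a g)) * (fx (a (φ g)) - fx (a g)) ≤ 0 := by
    have e : ∀ g, (fx (a (φ g)) - fx (a g)) * (fx (a (φ g)) - fx (a g)) =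
        fx (a (φ g)) * fx (a (φ g)) + fx (a g) * fx (a g) - 2 * (fx (a g) * fx (a.comp φ.toMonoidHom g)) :=
      fun g => by show _ = _ - 2 * (fx (a g) * fx (a (φ g))); ring
    rw [Finset.sum_congr rfl fun g _ => e g, Finset.sum_sub_distrib, Finset.sum_add_distrib, hφ,
      ← Finset.mul_sum, hk, hl]
    have h1 : (k : ℤ) ≤ 2 := by exact_mod_cast hk2 h2
    have h2' : (2 : ℤ) ≤ l := by exact_mod_cast hl2
    nlinarith [Nat.cast_nonneg (α := ℤ) (Nat.card G)]
  have h0 := (Finset.sum_eq_zero_iff_of_nonneg fun g _ => mul_self_nonneg _).1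
    (le_antisymm hsum (Finset.sum_nonneg fun g _ => mul_self_nonneg _)) g (Finset.mem_univ g)
  exact sub_eq_zero.1 (mul_self_eq_zero.1 h0)

/-- The character of the permutation representation. -/
theorem permRep_character [MulAction G X] (g : G) :
    (permRep ℂ G X).character g = ((fx (MulAction.toPermHom G X g) : ℤ) : ℂ) := by
  classical
  show LinearMap.trace ℂ (X → ℂ) _ = _
  rw [LinearMap.trace_eq_matrix_trace ℂ (Pi.basisFun ℂ X), Matrix.trace]
  simp only [Matrix.diag_apply, LinearMap.toMatrix_apply, Pi.basisFun_apply, Pi.basisFun_repr]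
  show ∑ x : X, (Pi.single x (1 : ℂ) : X → ℂ) (g⁻¹ • x) = _
  simp only [Pi.single_apply, Finset.sum_boole, fx, Int.cast_natCast, Nat.card_eq_fintype_card,
    Fintype.card_subtype]
  congr 2
  ext x
  simp [eq_inv_smul_iff, eq_comm]

/-- Automorphisms fixing an element with one orbit commute. -/
theorem aut_commute [MulAction G X] [FaithfulSMul G X] {p : ℕ} (hp : p.Prime) (hX : Fintype.card X = p)
    (h2 : ∀ x y x' y' : X, (x = y ↔ x' = y') → ∃ g : G, g • x = x' ∧ g • y = y')
    (hp2 : ¬ p * p ∣ Nat.card G) {u : G} {x₀ : X}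
    (htr : ∀ y : X, ∃ k ∈ Subgroup.zpowers u, k • x₀ = y)
    {φ ψ : MulAut G} (hφ : φ u = u) (hψ : ψ u = u) : φ * ψ = ψ * φ := by
  classical
  set ρ := permRep ℂ G X with hρ
  have hchar : ∀ θ : MulAut G, ρ.character = Representation.character (ρ.comp θ.toMonoidHom) := by
    intro θ
    funext g
    show ρ.character g = ρ.character (θ g)
    rw [hρ, permRep_character, permRep_character, fx_twist _ hp hX h2 hp2]
  obtain ⟨T⟩ := Cfsg.Lib.Char.nonempty_equiv_of_character_eq ρ (ρ.comp φ.toMonoidHom) (hchar φ)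
  obtain ⟨U⟩ := Cfsg.Lib.Char.nonempty_equiv_of_character_eq ρ (ρ.comp ψ.toMonoidHom) (hchar ψ)
  have hT : ∀ g v, T.toLinearEquiv (ρ g v) = ρ (φ g) (T.toLinearEquiv v) := fun g v =>
    LinearMap.congr_fun (T.toIntertwiningMap.isIntertwining' g) v
  have hU : ∀ g v, U.toLinearEquiv (ρ g v) = ρ (ψ g) (U.toLinearEquiv v) := fun g v =>
    LinearMap.congr_fun (U.toIntertwiningMap.isIntertwining' g) v
  have hfix : ∀ (θ : MulAut G), θ u = u → ∀ k ∈ Subgroup.zpowers u, θ k = k := by
    rintro θ hθ _ ⟨i, rfl⟩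
    show θ (u ^ i) = u ^ i
    rw [map_zpow, hθ]
  choose k hk hkx using htr
  set δ : X → ℂ := Pi.single x₀ 1 with hδ
  have hgen : ∀ v : X → ℂ, v = ∑ y, v y • ρ (k y) δ := by
    intro v
    funext z
    rw [Finset.sum_apply, Finset.sum_eq_single z]
    · show v z = v z * (Pi.single x₀ (1 : ℂ) : X → ℂ) ((k z)⁻¹ • z)
      rw [inv_smul_eq_iff.2 (hkx z).symm, Pi.single_eq_same, mul_one]
    · intro y _ hy
      show v y * (Pi.single x₀ (1 : ℂ) : X → ℂ) ((k y)⁻¹ • z) = 0
      rw [Pi.single_eq_of_ne, mul_zero]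
      intro e
      exact hy ((hkx y).symm.trans (inv_smul_eq_iff.1 e).symm)
    · simp
  have hcomm : ∀ y z, ρ (k y) ∘ₗ ρ (k z) = ρ (k z) ∘ₗ ρ (k y) := by
    intro y z
    rw [← Module.End.mul_eq_comp, ← Module.End.mul_eq_comp, ← map_mul, ← map_mul]
    obtain ⟨i, hi⟩ := hk y
    obtain ⟨j, hj⟩ := hk z
    rw [← hi, ← hj, ((Commute.refl u).zpow_zpow i j).eq]
  have hlin : ∀ (S : (X → ℂ) ≃ₗ[ℂ] (X → ℂ)), (∀ y v, S (ρ (k y) v) = ρ (k y) (S v)) →
      ∀ v, S v = ∑ y, v y • ρ (k y) (S δ) := by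
    intro S hS v
    conv_lhs => rw [hgen v, map_sum]
    exact Finset.sum_congr rfl fun y _ => by rw [map_smul, hS]
  have hTk : ∀ y v, T.toLinearEquiv (ρ (k y) v) = ρ (k y) (T.toLinearEquiv v) := fun y v => by
    rw [hT, hfix φ hφ _ (hk y)]
  have hUk : ∀ y v, U.toLinearEquiv (ρ (k y) v) = ρ (k y) (U.toLinearEquiv v) := fun y v => by
    rw [hU, hfix ψ hψ _ (hk y)]
  have hTU : ∀ v, T.toLinearEquiv (U.toLinearEquiv v) = U.toLinearEquiv (T.toLinearEquiv v) := by
    have h0 : T.toLinearEquiv (U.toLinearEquiv δ) = U.toLinearEquiv (T.toLinearEquiv δ) := by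
      set t := T.toLinearEquiv δ with ht
      set s := U.toLinearEquiv δ with hs
      rw [hlin _ hTk s, hlin _ hUk t, ← ht, ← hs]
      conv_lhs => arg 2; ext y; rw [hgen t, map_sum, Finset.smul_sum]
      conv_rhs => arg 2; ext y; rw [hgen s, map_sum, Finset.smul_sum]
      rw [Finset.sum_comm]
      refine Finset.sum_congr rfl fun y _ => Finset.sum_congr rfl fun z _ => ?_
      rw [map_smul, map_smul, smul_comm, show ρ (k z) (ρ (k y) δ) = ρ (k y) (ρ (k z) δ) from
        LinearMap.congr_fun (hcomm z y) δ]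
    intro v
    rw [hgen v, map_sum, map_sum, map_sum, map_sum]
    exact Finset.sum_congr rfl fun y _ => by
      rw [map_smul, map_smul, map_smul, map_smul, hUk, hTk, hTk, hUk, h0]
  refine MulEquiv.ext fun g => ?_
  have key : ρ (φ (ψ g)) = ρ (ψ (φ g)) := by
    refine LinearMap.ext fun w => ?_
    obtain ⟨v, rfl⟩ := (U.toLinearEquiv.trans T.toLinearEquiv).surjective w
    rw [LinearEquiv.trans_apply, ← hT, ← hU, hTU, hT, hU, hTU]
  show φ (ψ g) = ψ (φ g)
  refine eq_of_smul_eq_smul (α := X) fun x => ?_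
  have h := congrFun (LinearMap.congr_fun key (Pi.single x 1)) (φ (ψ g) • x)
  change (Pi.single x (1 : ℂ) : X → ℂ) ((φ (ψ g))⁻¹ • φ (ψ g) • x) =
    (Pi.single x (1 : ℂ) : X → ℂ) ((ψ (φ g))⁻¹ • φ (ψ g) • x) at h
  rw [inv_smul_smul, Pi.single_eq_same] at h
  by_contra hne
  rw [Pi.single_eq_of_ne (fun e => hne (inv_smul_eq_iff.1 e))] at h
  exact one_ne_zero h

/-- A case of the Schreier conjecture: if a finite simple group G has a subgroup of prime index, then the outer automorphism group of G is solvable. -/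
theorem result {G : Type*} [Group G] [Finite G] [IsSimpleGroup G] (H : Subgroup G) (hH : H.index.Prime) : Group.IsSolvable (Cfsg.Out G) := by
  classical
  haveI := Fintype.ofFinite G
  by_cases hcom : ∀ x y : G, x * y = y * x
  · -- cyclic of prime order
    letI : CommGroup G := { (inferInstance : Group G) with mul_comm := hcom }
    haveI : IsCyclic G := IsSimpleGroup.isCyclic
    have hAut : ∀ a b : MulAut G, a * b = b * a := by
      intro a b
      obtain ⟨g, hg⟩ := IsCyclic.exists_generator (α := G)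
      refine MulEquiv.ext fun x => ?_
      obtain ⟨i, rfl⟩ := Subgroup.mem_zpowers_iff.1 (hg x)
      obtain ⟨j, hj⟩ := Subgroup.mem_zpowers_iff.1 (hg (a g))
      obtain ⟨k, hk⟩ := Subgroup.mem_zpowers_iff.1 (hg (b g))
      show a (b (g ^ i)) = b (a (g ^ i))
      rw [map_zpow, map_zpow, map_zpow, map_zpow, ← hk, map_zpow, ← hj, map_zpow, ← hk]
      simp only [← zpow_mul]
      congr 1; ring
    refine isSolvable_of_comm fun a b => ?_
    induction a using QuotientGroup.induction_on with | H a => ?_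
    induction b using QuotientGroup.induction_on with | H b => ?_
    rw [← QuotientGroup.mk_mul, ← QuotientGroup.mk_mul, hAut]
  set p := H.index with hp
  haveI := Fact.mk hH
  haveI : Finite (G ⧸ H) := Quotient.finite _
  haveI := Fintype.ofFinite (G ⧸ H)
  have hX : Fintype.card (G ⧸ H) = p := by rw [← Nat.card_eq_fintype_card, hp]; rfl
  have hfaith : FaithfulSMul G (G ⧸ H) := by
    have hker : (MulAction.toPermHom G (G ⧸ H)).ker = ⊥ := by
      refine (Subgroup.Normal.eq_bot_or_eq_top inferInstance).resolve_right fun htop => ?_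
      have : H = ⊤ := by
        rw [eq_top_iff]
        intro g _
        have h1 : MulAction.toPermHom G (G ⧸ H) g = 1 := MonoidHom.mem_ker.1 (htop ▸ Subgroup.mem_top g)
        have h2 : g • ((1 : G) : G ⧸ H) = ((1 : G) : G ⧸ H) := Equiv.congr_fun h1 ((1 : G) : G ⧸ H)
        rw [MulAction.Quotient.smul_coe, smul_eq_mul, mul_one, QuotientGroup.eq] at h2
        simpa using h2
      exact hH.ne_one (by rw [hp, this, Subgroup.index_top])
    exact ⟨fun {g h} e => (MonoidHom.ker_eq_bot_iff _).1 hker (Equiv.ext e)⟩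
  haveI := hfaith
  set a := MulAction.toPermHom G (G ⧸ H) with ha
  have hainj : Function.Injective a := MulAction.toPerm_injective
  have hp2 : ¬ p * p ∣ Nat.card G := by
    intro hd
    have h1 : Nat.card G ∣ Nat.card (Equiv.Perm (G ⧸ H)) := Subgroup.card_dvd_of_injective a hainj
    rw [Nat.card_perm, Nat.card_eq_fintype_card (α := G ⧸ H), hX] at h1
    have h2 := hd.trans h1
    obtain ⟨r, hr⟩ : ∃ r, p = r + 1 := ⟨p - 1, by have := hH.pos; omega⟩
    have h3 : p ∣ r.factorial := by
      refine (Nat.mul_dvd_mul_iff_left hH.pos).1 ?_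
      rwa [show p.factorial = p * r.factorial by rw [hr, Nat.factorial_succ]] at h2
    have := (Nat.Prime.dvd_factorial hH).1 h3
    omega
  have h2 : ∀ x y x' y' : G ⧸ H, (x = y ↔ x' = y') → ∃ g : G, g • x = x' ∧ g • y = y' := by
    haveI : MulAction.IsPretransitive a.range (G ⧸ H) := ⟨fun x y => by
      obtain ⟨g, hg⟩ := MulAction.exists_smul_eq G x y
      exact ⟨⟨a g, g, rfl⟩, hg⟩⟩
    rcases Cfsg.Agent.S0675.result (hX ▸ hH) a.range with hs | h2t
    · exfalso
      haveI := hs
      haveI : Group.IsSolvable G := solvable_of_solvable_injective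
        (f := a.rangeRestrict) (fun x y e => hainj (congrArg Subtype.val e))
      exact hcom (IsSimpleGroup.comm_iff_isSolvable.2 inferInstance)
    intro x y x' y' hiff
    by_cases hxy : x = y
    · obtain ⟨g, hg⟩ := MulAction.exists_smul_eq G x x'
      exact ⟨g, hg, by rw [← hxy, hg, hiff.1 hxy]⟩
    · obtain ⟨⟨_, g, rfl⟩, hg1, hg2⟩ := MulAction.is_two_pretransitive_iff.1 h2t hxy (fun e => hxy (hiff.2 e))
      exact ⟨g, hg1, hg2⟩
  obtain ⟨u, hu⟩ := exists_prime_orderOf_dvd_card' p (H.index_dvd_card)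
  set P := Subgroup.zpowers u with hP
  have hPc : Nat.card P = p := by rw [hP, Nat.card_zpowers, hu]
  obtain ⟨x₀, hx₀⟩ : ∃ x : G ⧸ H, u • x ≠ x := by
    by_contra hall
    push Not at hall
    have : u = 1 := eq_of_smul_eq_smul (α := G ⧸ H) fun x => by rw [hall, one_smul]
    rw [this, orderOf_one] at hu
    exact hH.ne_one hu.symm
  have htr : ∀ y : G ⧸ H, ∃ k ∈ P, k • x₀ = y := by
    have hinj : Function.Injective fun k : P => (k : G) • x₀ := by
      intro k l e
      by_contra hne
      have hfix : ((l⁻¹ * k : P) : G) • x₀ = x₀ := by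
        rw [Subgroup.coe_mul, Subgroup.coe_inv, mul_smul, inv_smul_eq_iff]; exact e
      have htop : Subgroup.zpowers (l⁻¹ * k : P) = ⊤ :=
        zpowers_eq_top_of_prime_card hPc fun e' => hne (inv_mul_eq_one.1 e').symm
      have hle : (⊤ : Subgroup P) ≤ (MulAction.stabilizer G x₀).comap P.subtype := by
        rw [← htop, Subgroup.zpowers_le]; exact hfix
      exact hx₀ (hle (Subgroup.mem_top (⟨u, Subgroup.mem_zpowers u⟩ : P)))
    haveI := Fintype.ofFinite P
    have hb := (Fintype.bijective_iff_injective_and_card _).2 ⟨hinj, by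
      rw [← Nat.card_eq_fintype_card, hPc, hX]⟩
    intro y
    obtain ⟨k, hk⟩ := hb.2 y
    exact ⟨k, k.2, hk⟩
  let N : Subgroup (MulAut G) :=
    { carrier := {φ | P.map φ.toMonoidHom = P}
      one_mem' := Subgroup.map_id P
      mul_mem' := fun {φ ψ} hφ hψ => by
        show P.map (φ * ψ).toMonoidHom = P
        rw [show (φ * ψ).toMonoidHom = φ.toMonoidHom.comp ψ.toMonoidHom from rfl, ← Subgroup.map_map, hψ, hφ]
      inv_mem' := fun {φ} hφ => by
        show P.map (φ⁻¹).toMonoidHom = P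
        conv_lhs => rw [← hφ]
        rw [Subgroup.map_map, show (φ⁻¹).toMonoidHom.comp φ.toMonoidHom = MonoidHom.id G from
          MonoidHom.ext fun x => MulAut.inv_apply_self G φ x, Subgroup.map_id] }
  have hagree : ∀ φ ∈ N, ∀ ψ ∈ N, ∀ w ∈ P, φ (ψ w) = ψ (φ w) := by
    intro φ hφ ψ hψ w hw
    have hmem : ∀ θ ∈ N, θ u ∈ P := fun θ hθ => by
      have h : P.map θ.toMonoidHom = P := hθ
      rw [← h]; exact Subgroup.mem_map_of_mem _ (Subgroup.mem_zpowers u)
    obtain ⟨i, rfl⟩ := Subgroup.mem_zpowers_iff.1 hw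
    obtain ⟨j, hj⟩ := Subgroup.mem_zpowers_iff.1 (hmem φ hφ)
    obtain ⟨k, hk⟩ := Subgroup.mem_zpowers_iff.1 (hmem ψ hψ)
    rw [map_zpow, map_zpow, map_zpow, map_zpow, ← hk, map_zpow, ← hj, map_zpow, ← hk]
    simp only [← zpow_mul]
    congr 1; ring
  have hNs : Group.IsSolvable N := by
    let C : Subgroup N :=
      { carrier := {φ | (φ : MulAut G) u = u}
        one_mem' := rfl
        mul_mem' := fun {φ ψ} (hφ : (φ : MulAut G) u = u) (hψ : (ψ : MulAut G) u = u) => by
          show (φ : MulAut G) ((ψ : MulAut G) u) = u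
          rw [hψ, hφ]
        inv_mem' := fun {φ} (hφ : (φ : MulAut G) u = u) => by
          show (φ : MulAut G)⁻¹ u = u
          conv_lhs => rw [← hφ]
          exact MulAut.inv_apply_self G _ _ }
    haveI hCn : C.Normal := ⟨fun c (hc : (c : MulAut G) u = u) g => by
      have hw : ((g⁻¹ : N) : MulAut G) u ∈ P := by
        have h : P.map ((g⁻¹ : N) : MulAut G).toMonoidHom = P := (g⁻¹).2
        rw [← h]; exact Subgroup.mem_map_of_mem _ (Subgroup.mem_zpowers u)
      show (g : MulAut G) ((c : MulAut G) (((g⁻¹ : N) : MulAut G) u)) = u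
      rw [hagree c c.2 _ (g⁻¹).2 u (Subgroup.mem_zpowers u), hc, Subgroup.coe_inv,
        MulAut.apply_inv_self]⟩
    haveI : Group.IsSolvable C := isSolvable_of_comm fun c d => Subtype.ext (Subtype.ext
      (aut_commute hH hX h2 hp2 htr c.2 d.2))
    haveI : Group.IsSolvable (N ⧸ C) := isSolvable_of_comm fun x y => by
      induction x using QuotientGroup.induction_on with | H x => ?_
      induction y using QuotientGroup.induction_on with | H y => ?_
      rw [← QuotientGroup.mk_mul, ← QuotientGroup.mk_mul, QuotientGroup.eq]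
      show (((x : MulAut G) * (y : MulAut G))⁻¹ : MulAut G) ((y : MulAut G) ((x : MulAut G) u)) = u
      rw [← hagree x x.2 y y.2 u (Subgroup.mem_zpowers u)]
      exact MulAut.inv_apply_self G ((x : MulAut G) * (y : MulAut G)) u
    exact solvable_of_ker_le_range C.subtype (QuotientGroup.mk' C)
      (by rw [QuotientGroup.ker_mk', Subgroup.range_subtype])
  haveI := hNs
  refine solvable_of_surjective (f := (QuotientGroup.mk' (Cfsg.Inn G)).comp N.subtype) fun o => ?_
  obtain ⟨α, rfl⟩ := QuotientGroup.mk'_surjective _ o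
  have hfac : (Nat.card G).factorization p = 1 := by
    have h1 : p ∣ Nat.card G := H.index_dvd_card
    have hne : Nat.card G ≠ 0 := Nat.card_pos.ne'
    have h3 := (hH.dvd_iff_one_le_factorization hne).1 h1
    have h4 : ¬ p ^ 2 ∣ Nat.card G := by rwa [pow_two]
    rw [hH.pow_dvd_iff_le_factorization hne] at h4
    omega
  have hQc : Nat.card (P.map α.toMonoidHom) = p := by
    rw [← hPc]
    exact Nat.card_congr (P.equivMapOfInjective α.toMonoidHom α.injective).toEquiv.symm
  let S : Sylow p G := Sylow.ofCard P (by rw [hPc, hfac, pow_one])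
  let R : Sylow p G := Sylow.ofCard (P.map α.toMonoidHom) (by rw [hQc, hfac, pow_one])
  obtain ⟨g, hg⟩ := MulAction.exists_smul_eq G R S
  have hg' : (P.map α.toMonoidHom).map (MulAut.conj g).toMonoidHom = P := congrArg Sylow.toSubgroup hg
  refine ⟨⟨MulAut.conj g * α, ?_⟩, ?_⟩
  · show P.map (MulAut.conj g * α).toMonoidHom = P
    rw [show (MulAut.conj g * α).toMonoidHom = (MulAut.conj g).toMonoidHom.comp α.toMonoidHom from rfl,
      ← Subgroup.map_map, hg']
  · show QuotientGroup.mk' (Cfsg.Inn G) (MulAut.conj g * α) = _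
    rw [map_mul, show QuotientGroup.mk' (Cfsg.Inn G) (MulAut.conj g) = 1 from
      (QuotientGroup.eq_one_iff _).2 ⟨g, rfl⟩, one_mul]

end Cfsg.Agent.S4277
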