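import Cfsg.Statements.S4282
import Mathlib

set_option linter.style.haveILetI false

set_option autoImplicit false
open Cfsg

namespace Cfsg.Agent.S4282

open Module

universe v

variable {K : Type*} [Field K]

/-- In a finite group a submonoid is a subgroup. -/
def subgroupOfSubmonoid {G : Type*} [Group G] [Finite G] (S : Submonoid G) : Subgroup G :=
  { S with
    inv_mem' := fun {a} ha => by
      have h : a⁻¹ = a ^ (orderOf a - 1) := by
        refine inv_eq_of_mul_eq_one_right ?_
        rw [← pow_succ', Nat.sub_add_cancel (orderOf_pos a), pow_orderOf_eq_one]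
      rw [h]
      exact S.pow_mem ha _ }

section Schur

variable {M : Type*} [Group M] {A : Type*} [AddCommGroup A] [Module K A] [FiniteDimensional K A]
  {B : Type*} [AddCommGroup B] [Module K B] [FiniteDimensional K B]

/-- Irreducibility of an action. -/
def Irr (σ : M →* End K A) : Prop :=
  Nontrivial A ∧ ∀ U : Submodule K A, (∀ m, ∀ u ∈ U, σ m u ∈ U) → U = ⊥ ∨ U = ⊤

theorem app_mul (σ : M →* End K A) (m m' : M) (a : A) : σ (m * m') a = σ m (σ m' a) := by rw [map_mul]; rfl

theorem app_inv_self (σ : M →* End K A) (m : M) (a : A) : σ m⁻¹ (σ m a) = a := by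
  rw [← app_mul, inv_mul_cancel, map_one]; rfl

theorem bij_of_intertwine {σ : M →* End K A} (hσ : Irr σ) {σ' : M →* End K B} (hσ' : Irr σ') (f : A →ₗ[K] B)
    (h : ∀ m a, f (σ m a) = σ' m (f a)) (hf : f ≠ 0) : Function.Bijective f := by
  constructor
  · rw [← LinearMap.ker_eq_bot]
    refine (hσ.2 (LinearMap.ker f) fun m u hu => ?_).resolve_right fun e => hf (LinearMap.ker_eq_top.1 e)
    rw [LinearMap.mem_ker] at hu ⊢
    rw [h, hu, map_zero]
  · rw [← LinearMap.range_eq_top]
    refine (hσ'.2 (LinearMap.range f) ?_).resolve_left fun e => hf (LinearMap.range_eq_bot.1 e)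
    rintro m _ ⟨a, rfl⟩
    exact ⟨σ m a, h m a⟩

theorem scalar [IsAlgClosed K] {σ : M →* End K A} (hσ : Irr σ) (f : End K A)
    (h : ∀ m a, f (σ m a) = σ m (f a)) : ∃ c : K, ∀ a, f a = c • a := by
  haveI := hσ.1
  obtain ⟨c, hc⟩ := Module.End.exists_eigenvalue f
  refine ⟨c, fun a => ?_⟩
  have htop : Module.End.eigenspace f c = ⊤ := by
    refine (hσ.2 _ fun m u hu => ?_).resolve_left hc
    rw [Module.End.mem_eigenspace_iff] at hu ⊢
    rw [h, hu, map_smul]
  exact Module.End.mem_eigenspace_iff.1 (htop ▸ Submodule.mem_top)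

variable [Fintype M]

/-- Averaging. -/
def avg (σ : M →* End K A) (σ' : M →* End K B) (g : A →ₗ[K] B) : A →ₗ[K] B :=
  ∑ m : M, (σ' m).comp (g.comp (σ m⁻¹))

theorem avg_comm (σ : M →* End K A) (σ' : M →* End K B) (g : A →ₗ[K] B) (k : M) (a : A) :
    avg σ σ' g (σ k a) = σ' k (avg σ σ' g a) := by
  simp only [avg, LinearMap.sum_apply, LinearMap.comp_apply, map_sum]
  refine Fintype.sum_equiv (Equiv.mulLeft k⁻¹) _ _ fun m => ?_
  show σ' m (g (σ m⁻¹ (σ k a))) = σ' k (σ' (k⁻¹ * m) (g (σ (k⁻¹ * m)⁻¹ a)))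
  rw [← app_mul, ← app_mul, mul_inv_cancel_left, mul_inv_rev, inv_inv]

theorem trace_basis {ι : Type*} [Fintype ι] (b : Basis ι K A) (f : End K A) :
    LinearMap.trace K A f = ∑ i, b.repr (f (b i)) i := by
  classical
  rw [LinearMap.trace_eq_matrix_trace K b, Matrix.trace]
  simp [Matrix.diag, LinearMap.toMatrix_apply]

theorem orth_ne {σ : M →* End K A} {σ' : M →* End K B}
    (h0 : ∀ g : A →ₗ[K] B, (∀ m a, g (σ m a) = σ' m (g a)) → g = 0) (f : End K A) (w : B) :
    ∑ m : M, LinearMap.trace K A (f * σ m⁻¹) • σ' m w = 0 := by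
  let b := Module.finBasis K A
  have key : ∀ i, avg σ σ' ((((b.coord i).comp f)).smulRight w) (b i) = 0 := fun i => by
    rw [h0 _ (avg_comm σ σ' _)]; rfl
  have : ∑ m : M, LinearMap.trace K A (f * σ m⁻¹) • σ' m w =
      ∑ i, avg σ σ' ((((b.coord i).comp f)).smulRight w) (b i) := by
    simp only [avg, LinearMap.sum_apply, LinearMap.comp_apply, LinearMap.smulRight_apply, map_smul]
    rw [Finset.sum_comm]
    refine Finset.sum_congr rfl fun m _ => ?_
    rw [trace_basis b, Finset.sum_smul]
    rfl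
  rw [this]
  exact Finset.sum_eq_zero fun i _ => key i

theorem orth_self [IsAlgClosed K] {σ : M →* End K A} (hσ : Irr σ) (f : End K A) (w : A) :
    (Module.finrank K A : K) • ∑ m : M, LinearMap.trace K A (f * σ m⁻¹) • σ m w =
      (Fintype.card M : K) • f w := by
  let b := Module.finBasis K A
  have key : ∀ g : End K A, ∀ a, (Module.finrank K A : K) • avg σ σ g a =
      ((Fintype.card M : K) * LinearMap.trace K A g) • a := by
    intro g a
    obtain ⟨c, hc⟩ := scalar hσ (avg σ σ g) (avg_comm σ σ g)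
    have h1 : LinearMap.trace K A (avg σ σ g) = (Fintype.card M : K) * LinearMap.trace K A g := by
      rw [avg, map_sum, Finset.sum_congr rfl (g := fun _ => LinearMap.trace K A g), Finset.sum_const,
        Finset.card_univ, nsmul_eq_mul]
      intro m _
      show LinearMap.trace K A (σ m * (g * σ m⁻¹)) = _
      rw [LinearMap.trace_mul_comm, mul_assoc, ← map_mul, inv_mul_cancel, map_one, mul_one]
    have h2 : LinearMap.trace K A (avg σ σ g) = c * (Module.finrank K A : K) := by
      rw [show avg σ σ g = c • (1 : End K A) from LinearMap.ext hc, map_smul, LinearMap.trace_one, smul_eq_mul]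
    rw [hc, smul_smul, ← h1, h2, mul_comm]
  have : ∑ m : M, LinearMap.trace K A (f * σ m⁻¹) • σ m w =
      ∑ i, avg σ σ ((((b.coord i).comp f)).smulRight w) (b i) := by
    simp only [avg, LinearMap.sum_apply, LinearMap.comp_apply, LinearMap.smulRight_apply, map_smul]
    rw [Finset.sum_comm]
    refine Finset.sum_congr rfl fun m _ => ?_
    rw [trace_basis b, Finset.sum_smul]
    rfl
  rw [this, Finset.smul_sum, Finset.sum_congr rfl fun i _ => key _ (b i)]
  have htr : ∀ i, LinearMap.trace K A ((((b.coord i).comp f)).smulRight w) = b.repr (f w) i := fun i => by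
    rw [LinearMap.trace_smulRight]; rfl
  simp only [htr, mul_smul]
  rw [← Finset.smul_sum, b.sum_repr]

theorem finrank_ne_zero [IsAlgClosed K] {σ : M →* End K A} (hσ : Irr σ) (hM : (Fintype.card M : K) ≠ 0) :
    (Module.finrank K A : K) ≠ 0 := by
  haveI := hσ.1
  intro h
  obtain ⟨w, hw⟩ := exists_ne (0 : A)
  have := orth_self hσ 1 w
  rw [h, zero_smul] at this
  exact hw ((smul_eq_zero.1 this.symm).resolve_left hM)

end Schur

section Degree

variable {G : Type*} [Group G] {V : Type*} [AddCommGroup V] [Module K V] [FiniteDimensional K V]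

/-- Invariance under a subgroup. -/
def Inv (ρ : G →* End K V) (H : Subgroup G) (W : Submodule K V) : Prop := ∀ h ∈ H, ∀ w ∈ W, ρ h w ∈ W

/-- The restricted action. -/
def resRep (ρ : G →* End K V) (H : Subgroup G) (W : Submodule K V) (hW : Inv ρ H W) : H →* End K W where
  toFun h := (ρ h).restrict (fun w hw => hW h h.2 w hw)
  map_one' := by ext w; simp
  map_mul' a b := by ext w; simp

theorem irr_resRep {ρ : G →* End K V} {H : Subgroup G} {W : Submodule K V} (hW : Inv ρ H W) (h0 : W ≠ ⊥)
    (hmin : ∀ U ≤ W, Inv ρ H U → U = ⊥ ∨ U = W) : Irr (resRep ρ H W hW) := by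
  refine ⟨Submodule.nontrivial_iff_ne_bot.2 h0, fun U hU => ?_⟩
  rcases hmin (U.map W.subtype) (Submodule.map_subtype_le _ _) (by
    rintro h hh _ ⟨u, hu, rfl⟩
    exact ⟨_, hU ⟨h, hh⟩ u hu, rfl⟩) with e | e
  · left
    exact Submodule.map_injective_of_injective W.injective_subtype (e.trans (Submodule.map_bot _).symm)
  · right
    exact Submodule.map_injective_of_injective W.injective_subtype (e.trans (Submodule.map_subtype_top W).symm)

theorem degree_pow [IsAlgClosed K] [Finite G] (q : ℕ) [Fact q.Prime] (hqK : (q : K) ≠ 0) (ρ : G →* End K V) :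
    ∀ H : Subgroup G, IsPGroup q H → ∀ W : Submodule K V, W ≠ ⊥ → Inv ρ H W →
      (∀ U ≤ W, Inv ρ H U → U = ⊥ ∨ U = W) → ∃ e, Module.finrank K W = q ^ e := by
  classical
  intro H
  induction H using WellFoundedLT.induction with
  | _ H ih =>
  intro hH W hW0 hW hWmin
  by_cases hbot : H = ⊥
  · refine ⟨0, ?_⟩
    obtain ⟨w, hw, hw0⟩ := (Submodule.ne_bot_iff W).1 hW0
    have hsp : K ∙ w = W := by
      refine (hWmin _ ((Submodule.span_singleton_le_iff_mem _ _).2 hw) ?_).resolve_left
        (by rwa [Submodule.span_singleton_eq_bot])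
      intro h hh u hu
      rw [hbot, Subgroup.mem_bot] at hh
      rw [hh, map_one]; exact hu
    rw [← hsp, finrank_span_singleton hw0, pow_zero]
  haveI : Nontrivial H := (Subgroup.nontrivial_iff_ne_bot H).2 hbot
  obtain ⟨C, hC, -⟩ := (eq_top_or_exists_le_coatom (⊥ : Subgroup H)).resolve_left bot_ne_top
  haveI := hH.isNilpotent
  haveI hCn : C.Normal := Subgroup.NormalizerCondition.normal_of_coatom C Group.normalizerCondition_of_isNilpotent hC
  set M := C.map H.subtype with hM
  have hMH : M < H := lt_of_le_of_ne (Subgroup.map_subtype_le _) fun e => hC.1 (by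
    apply Subgroup.map_injective H.subtype_injective
    rw [← hM, e, ← MonoidHom.range_eq_map, Subgroup.range_subtype])
  obtain ⟨g, hgH, hgM⟩ := SetLike.exists_of_lt hMH
  have hMn : ∀ h ∈ H, ∀ m ∈ M, h * m * h⁻¹ ∈ M := by
    rintro h hh _ ⟨m, hm, rfl⟩
    exact ⟨_, hCn.conj_mem m hm ⟨h, hh⟩, rfl⟩
  have hgen : ∀ S : Subgroup G, M ≤ S → ∀ s ∈ S, s ∈ H → s ∉ M → H ≤ S := by
    intro S hMS s hs hsH hsM
    have hlt : C < S.subgroupOf H := lt_of_le_of_ne (fun c hc => hMS ⟨c, hc, rfl⟩) (fun e => hsM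
      ⟨⟨s, hsH⟩, e ▸ hs, rfl⟩)
    exact Subgroup.subgroupOf_eq_top.1 (hC.2 _ hlt)
  have hqg : g ^ q ∈ M := by
    haveI : IsSimpleGroup (H ⧸ C) := by
      haveI : Nontrivial (H ⧸ C) := by
        rw [← Finite.one_lt_card_iff_nontrivial, ← Subgroup.index_eq_card]
        exact Subgroup.one_lt_index_of_ne_top hC.1
      refine ⟨fun S _ => ?_⟩
      have hle : C ≤ S.comap (QuotientGroup.mk' C) := fun x hx => by
        rw [Subgroup.mem_comap, QuotientGroup.mk'_apply, (QuotientGroup.eq_one_iff x).2 hx]; exact S.one_mem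
      rcases hC.le_iff.1 hle with h | h
      · right
        rw [← Subgroup.map_comap_eq_self_of_surjective (QuotientGroup.mk'_surjective C) S, h]
        exact Subgroup.map_top_of_surjective _ (QuotientGroup.mk'_surjective C)
      · left
        rw [← Subgroup.map_comap_eq_self_of_surjective (QuotientGroup.mk'_surjective C) S, h,
          QuotientGroup.map_mk'_self]
    obtain ⟨k, hk⟩ := (hH.to_quotient C).exists_card_eq
    haveI := (hH.to_quotient C).isNilpotent
    have hcomm := IsSimpleGroup.comm_iff_isSolvable.2 (inferInstance : Group.IsSolvable (H ⧸ C))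
    letI : CommGroup (H ⧸ C) := { (inferInstance : Group (H ⧸ C)) with mul_comm := hcomm }
    have hpr := IsSimpleGroup.prime_card (α := H ⧸ C)
    rw [hk] at hpr
    have hk1 : k = 1 := by
      by_contra hne
      rcases Nat.eq_zero_or_pos k with h0 | h0
      · rw [h0, pow_zero] at hpr; exact Nat.not_prime_one hpr
      · exact Nat.Prime.not_prime_pow (by omega) hpr
    refine ⟨⟨g, hgH⟩ ^ q, ?_, rfl⟩
    rw [SetLike.mem_coe, ← QuotientGroup.eq_one_iff, QuotientGroup.mk_pow,
      show q = Nat.card (H ⧸ C) by rw [hk, hk1, pow_one]]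
    exact pow_card_eq_one'
  -- an irreducible constituent
  haveI : IsArtinian K V := inferInstance
  obtain ⟨U, ⟨hUW, hU0, hU⟩, hUmin⟩ := (wellFounded_lt (α := Submodule K V)).has_min
    {U : Submodule K V | U ≤ W ∧ U ≠ ⊥ ∧ Inv ρ M U} ⟨W, le_rfl, hW0, fun m hm => hW m (hMH.le hm)⟩
  have hUmin' : ∀ X ≤ U, Inv ρ M X → X = ⊥ ∨ X = U := by
    intro X hX hXi
    by_contra h
    push Not at h
    exact hUmin X ⟨hX.trans hUW, h.1, hXi⟩ (lt_of_le_of_ne hX h.2)
  obtain ⟨e, he⟩ := ih M hMH (hH.to_le hMH.le) U hU0 hU hUmin'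
  set σ := resRep ρ M U hU
  have hσ : Irr σ := irr_resRep hU hU0 hUmin'
  haveI := hσ.1
  have hcoe : ∀ (m : M) (u : U), ((σ m u : U) : V) = ρ m u := fun m u => rfl
  have hgrp : ∀ (a b : G) (v : V), ρ (a * b) v = ρ a (ρ b v) := fun a b v => app_mul ρ a b v
  -- twisted self-equivalences
  let cM : (h : G) → h ∈ H → M → M := fun h hh m =>
    ⟨h⁻¹ * m * h, by simpa using hMn h⁻¹ (H.inv_mem hh) m m.2⟩
  let Tw : G → Prop := fun h => ∃ (hh : h ∈ H) (B : End K U), B ≠ 0 ∧ ∀ (m : M) (u : U), B (σ m u) = σ (cM h hh m) (B u)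
  let S : Subgroup G := Cfsg.Agent.S4282.subgroupOfSubmonoid
    { carrier := {h | Tw h}
      one_mem' := ⟨H.one_mem, 1, one_ne_zero, fun m u => by
        have : cM 1 H.one_mem m = m := Subtype.ext (by simp [cM])
        rw [this]; rfl⟩
      mul_mem' := by
        rintro a b ⟨ha, A, hA, hA'⟩ ⟨hb, B, hB, hB'⟩
        refine ⟨H.mul_mem ha hb, B * A, ?_, fun m u => ?_⟩
        · intro h0
          have hAb := bij_of_intertwine (σ' := σ.comp
            (MonoidHom.mk' (cM a ha) (fun m m' => Subtype.ext (by simp [cM, mul_assoc])))) hσ ?_ A hA' hA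
          · apply hB
            refine LinearMap.ext fun v => ?_
            obtain ⟨v', rfl⟩ := hAb.2 v
            exact LinearMap.congr_fun h0 v'
          · refine ⟨hσ.1, fun X hX => hσ.2 X fun m v hv => ?_⟩
            have hm' : a * (m : G) * a⁻¹ ∈ M := hMn a ha m m.2
            have := hX ⟨_, hm'⟩ v hv
            have e : cM a ha ⟨_, hm'⟩ = m := Subtype.ext (by simp [cM, mul_assoc])
            simpa [e] using this
        · show B (A (σ m u)) = _
          rw [hA', hB']
          have : cM b hb (cM a ha m) = cM (a * b) (H.mul_mem ha hb) m := Subtype.ext (by simp [cM, mul_assoc])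
          rw [this]; rfl }
  have hSmem : ∀ h, h ∈ S ↔ Tw h := fun h => Iff.rfl
  have hMS : M ≤ S := by
    intro m₀ hm₀
    refine (hSmem _).2 ⟨hMH.le hm₀, σ (⟨m₀, hm₀⟩ : M)⁻¹, ?_, fun m u => ?_⟩
    · intro h0
      obtain ⟨u, hu⟩ := exists_ne (0 : U)
      apply hu
      have := app_inv_self σ (⟨m₀, hm₀⟩ : M) u
      rw [h0] at this; exact this.symm
    · rw [← app_mul, ← app_mul]
      congr 1
      exact congrArg σ (Subtype.ext (by simp [cM, mul_assoc]))
  by_cases hgS : g ∈ S
  · -- the constituent is invariant: it extends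
    obtain ⟨hgH', B, hB, hB'⟩ := (hSmem g).1 hgS
    let HomS : Submodule K (U →ₗ[K] V) :=
      { carrier := {φ | (∀ u, φ u ∈ W) ∧ ∀ (m : M) (u : U), φ (σ m u) = ρ m (φ u)}
        add_mem' := fun {a b} ha hb => ⟨fun u => W.add_mem (ha.1 u) (hb.1 u), fun m u => by
          simp [ha.2, hb.2]⟩
        zero_mem' := ⟨fun u => W.zero_mem, fun m u => by simp⟩
        smul_mem' := fun c a ha => ⟨fun u => W.smul_mem c (ha.1 u), fun m u => by simp [ha.2]⟩ }
    let Φ : End K HomS :=
      { toFun := fun φ => ⟨(ρ g).comp ((φ : U →ₗ[K] V).comp B), fun u => hW g hgH _ (φ.2.1 _), fun m u => by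
          show ρ g ((φ : U →ₗ[K] V) (B (σ m u))) = ρ m (ρ g ((φ : U →ₗ[K] V) (B u)))
          rw [hB', φ.2.2, ← hgrp, ← hgrp]
          simp [cM, mul_assoc]⟩
        map_add' := fun a b => Subtype.ext (LinearMap.ext fun u => by simp)
        map_smul' := fun c a => Subtype.ext (LinearMap.ext fun u => by simp) }
    haveI : Nontrivial HomS := by
      refine ⟨⟨⟨U.subtype, fun u => hUW u.2, hcoe⟩, 0, fun h => hU0 ?_⟩⟩
      rw [eq_bot_iff]
      intro u hu
      have := LinearMap.congr_fun (congrArg Subtype.val h) ⟨u, hu⟩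
      simpa using this
    obtain ⟨μ, hμ⟩ := Module.End.exists_eigenvalue Φ
    obtain ⟨φ, hφ⟩ := hμ.exists_hasEigenvector
    have hφ1 : ∀ u, ρ g ((φ : U →ₗ[K] V) (B u)) = μ • (φ : U →ₗ[K] V) u := fun u =>
      LinearMap.congr_fun (congrArg Subtype.val hφ.apply_eq_smul) u
    have hBb := bij_of_intertwine (σ' := σ.comp
      (MonoidHom.mk' (cM g hgH') (fun m m' => Subtype.ext (by simp [cM, mul_assoc])))) hσ ⟨hσ.1, fun X hX =>
        hσ.2 X fun m v hv => by
          have hm' : g * (m : G) * g⁻¹ ∈ M := hMn g hgH m m.2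
          have := hX ⟨_, hm'⟩ v hv
          have e : cM g hgH' ⟨_, hm'⟩ = m := Subtype.ext (by simp [cM, mul_assoc])
          simpa [e] using this⟩ B hB' hB
    have hφne : (φ : U →ₗ[K] V) ≠ 0 := fun h => hφ.2 (Subtype.ext h)
    have hφinj : Function.Injective (φ : U →ₗ[K] V) := by
      rw [← LinearMap.ker_eq_bot]
      refine (hσ.2 _ fun m u hu => ?_).resolve_right fun e => hφne (LinearMap.ker_eq_top.1 e)
      rw [LinearMap.mem_ker] at hu ⊢
      rw [φ.2.2, hu, map_zero]
    have hrange : LinearMap.range (φ : U →ₗ[K] V) = W := by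
      refine (hWmin _ (by rintro _ ⟨u, rfl⟩; exact φ.2.1 u) ?_).resolve_left (fun e => hφne (LinearMap.range_eq_bot.1 e))
      let St : Subgroup G := Cfsg.Agent.S4282.subgroupOfSubmonoid
        { carrier := {h | ∀ v ∈ LinearMap.range (φ : U →ₗ[K] V), ρ h v ∈ LinearMap.range (φ : U →ₗ[K] V)}
          one_mem' := fun v hv => by rw [map_one]; exact hv
          mul_mem' := fun {a b} ha hb v hv => by rw [hgrp]; exact ha _ (hb v hv) }
      have hMSt : M ≤ St := by
        rintro m hm v ⟨u, rfl⟩
        exact ⟨σ ⟨m, hm⟩ u, φ.2.2 ⟨m, hm⟩ u⟩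
      have hgSt : g ∈ St := by
        rintro v ⟨u, rfl⟩
        obtain ⟨u', rfl⟩ := hBb.2 u
        exact ⟨μ • u', by rw [map_smul, hφ1]⟩
      exact fun h hh => hgen St hMSt g hgSt hgH hgM hh
    exact ⟨e, by rw [← hrange, LinearMap.finrank_range_of_inj hφinj, he]⟩
  · -- `q` inequivalent conjugates
    refine ⟨e + 1, ?_⟩
    have hgpow : ∀ i, g ^ i ∈ H := fun i => H.pow_mem hgH i
    have hpowS : ∀ i : ℕ, ¬ q ∣ i → g ^ i ∉ S := by
      intro i hi hiS
      refine hgS (hgen S hMS _ hiS (hgpow i) (fun hiM => hgM ?_) hgH)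
      have hc : Nat.Coprime q i := (Fact.out : q.Prime).coprime_iff_not_dvd.2 hi
      have h1 : g ^ Nat.gcd q i ∈ M := by
        have := Nat.gcd_eq_gcd_ab q i
        rw [← zpow_natCast, this, zpow_add, zpow_mul, zpow_mul, zpow_natCast, zpow_natCast]
        exact M.mul_mem (M.zpow_mem hqg _) (M.zpow_mem hiM _)
      rwa [hc.gcd_eq_one, pow_one] at h1
    let σi : ℕ → (M →* End K U) := fun i =>
      σ.comp (MonoidHom.mk' (cM (g ^ i) (hgpow i)) (fun m m' => Subtype.ext (by simp [cM, mul_assoc])))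
    have hσi : ∀ i, Irr (σi i) := fun i => ⟨hσ.1, fun X hX => hσ.2 X fun m v hv => by
      have hm' : g ^ i * (m : G) * (g ^ i)⁻¹ ∈ M := hMn _ (hgpow i) m m.2
      have := hX ⟨_, hm'⟩ v hv
      have e : cM (g ^ i) (hgpow i) ⟨_, hm'⟩ = m := Subtype.ext (by simp [cM, mul_assoc])
      simpa [σi, e] using this⟩
    have hno : ∀ i j : Fin q, i ≠ j → ∀ f : U →ₗ[K] U, (∀ m u, f (σi i m u) = σi j m (f u)) → f = 0 := by
      intro i j hij f hf
      by_contra hf0
      -- `f` is a twist by a power of `g`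
      let d := (j : ℕ) + (q - (i : ℕ))
      apply hpowS d
      · intro hd
        apply hij
        apply Fin.ext
        obtain ⟨c, hc⟩ := hd
        have hi := i.2; have hj := j.2
        rcases c with _ | _ | c
        · simp [d] at hc; omega
        · simp [d] at hc; omega
        · have : q * (c + 1 + 1) = q * c + 2 * q := by ring
          simp [d] at hc; omega
      have hgi : g ^ d = (g ^ (i : ℕ))⁻¹ * g ^ (j : ℕ) * g ^ q := by
        have h1 : (i : ℕ) + d = (j : ℕ) + q := by simp only [d]; omega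
        rw [← inv_mul_cancel_left (g ^ (i : ℕ)) (g ^ d), ← pow_add, h1, pow_add, mul_assoc]
      rw [hgi]
      refine S.mul_mem ((hSmem _).2 ⟨H.mul_mem (H.inv_mem (hgpow i)) (hgpow j), f, hf0, fun m u => ?_⟩) (hMS hqg)
      have hm' : g ^ (i : ℕ) * (m : G) * (g ^ (i : ℕ))⁻¹ ∈ M := hMn _ (hgpow i) m m.2
      have h1 := hf ⟨_, hm'⟩ u
      have e1 : cM (g ^ (i : ℕ)) (hgpow i) ⟨_, hm'⟩ = m := Subtype.ext (by simp [cM, mul_assoc])
      have e2 : cM (g ^ (j : ℕ)) (hgpow j) ⟨_, hm'⟩ =
          cM ((g ^ (i : ℕ))⁻¹ * g ^ (j : ℕ)) (H.mul_mem (H.inv_mem (hgpow i)) (hgpow j)) m :=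
        Subtype.ext (by simp [cM, mul_assoc])
      simpa [σi, e1, e2] using h1
    let Ψ : (Fin q → U) →ₗ[K] V :=
      ∑ i : Fin q, ((ρ (g ^ (i : ℕ))).comp U.subtype).comp (LinearMap.proj i)
    have hΨ : ∀ x, Ψ x = ∑ i : Fin q, ρ (g ^ (i : ℕ)) (x i : V) := fun x => by simp [Ψ]
    have hint : ∀ (i : ℕ) (m : M) (u : U), ρ m (ρ (g ^ i) u) = ρ (g ^ i) (σi i m u : U) := by
      intro i m u
      show _ = ρ (g ^ i) (ρ _ _)
      rw [← hgrp, ← hgrp]
      congr 2
      simp [cM, mul_assoc]
    letI : Fintype M := Fintype.ofFinite _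
    have hMK : (Fintype.card M : K) ≠ 0 := by
      obtain ⟨k, hk⟩ := (hH.to_le hMH.le).exists_card_eq
      rw [← Nat.card_eq_fintype_card, hk, Nat.cast_pow]
      exact pow_ne_zero _ hqK
    have hinj : Function.Injective Ψ := by
      rw [← LinearMap.ker_eq_bot, eq_bot_iff]
      intro x hx
      rw [LinearMap.mem_ker, hΨ] at hx
      refine (Submodule.mem_bot K).2 (funext fun j => ?_)
      have hn0 := finrank_ne_zero (hσi j) hMK
      set E : End K V := ∑ m : M, LinearMap.trace K U (1 * σi j m⁻¹) • ρ m with hE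
      have h1 : ∀ (i : Fin q), E (ρ (g ^ (i : ℕ)) (x i : V)) =
          ρ (g ^ (i : ℕ)) ((∑ m : M, LinearMap.trace K U (1 * σi j m⁻¹) • σi i m (x i) : U) : V) := by
        intro i
        rw [hE, LinearMap.sum_apply, Submodule.coe_sum, map_sum]
        refine Finset.sum_congr rfl fun m _ => ?_
        rw [LinearMap.smul_apply, hint, Submodule.coe_smul, map_smul]
      have h2 := congrArg E hx
      rw [map_sum, map_zero, Finset.sum_congr rfl fun i _ => h1 i, Finset.sum_eq_single j] at h2
      · have h3 := orth_self (hσi j) 1 (x j)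
        have h4 : ((∑ m : M, LinearMap.trace K U (1 * σi j m⁻¹) • σi j m (x j) : U) : V) = 0 := by
          have := congrArg (ρ (g ^ (j : ℕ))⁻¹) h2
          rwa [app_inv_self, map_zero] at this
        rw [show (∑ m : M, LinearMap.trace K U (1 * σi j m⁻¹) • σi j m (x j) : U) = 0 from Subtype.ext h4,
          smul_zero] at h3
        exact (smul_eq_zero.1 h3.symm).resolve_left hMK
      · intro i _ hij
        rw [orth_ne (hno j i (Ne.symm hij)) 1 (x i)]
        simp
      · simp
    have hrange : LinearMap.range Ψ = W := by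
      refine (hWmin _ ?_ ?_).resolve_left ?_
      · rintro _ ⟨x, rfl⟩
        rw [hΨ]
        exact W.sum_mem fun i _ => hW _ (hgpow i) _ (hUW (x i).2)
      · let St : Subgroup G := Cfsg.Agent.S4282.subgroupOfSubmonoid
          { carrier := {h | ∀ v ∈ LinearMap.range Ψ, ρ h v ∈ LinearMap.range Ψ}
            one_mem' := fun v hv => by rw [map_one]; exact hv
            mul_mem' := fun {a b} ha hb v hv => by rw [hgrp]; exact ha _ (hb v hv) }
        have hMSt : M ≤ St := by
          rintro m hm v ⟨x, rfl⟩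
          refine ⟨fun i => σi i ⟨m, hm⟩ (x i), ?_⟩
          rw [hΨ, hΨ, map_sum]
          exact Finset.sum_congr rfl fun i _ => (hint i ⟨m, hm⟩ (x i)).symm
        have hgen1 : ∀ (i : Fin q) (u : U), ρ (g ^ (i : ℕ)) (u : V) ∈ LinearMap.range Ψ := by
          intro i u
          refine ⟨Pi.single i u, ?_⟩
          rw [hΨ, Finset.sum_eq_single i (fun l _ hl => by simp [hl]) (by simp)]
          simp
        have hgSt : g ∈ St := by
          rintro v ⟨x, rfl⟩
          rw [hΨ, map_sum]
          refine (LinearMap.range Ψ).sum_mem fun i _ => ?_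
          rw [← hgrp, ← pow_succ']
          by_cases hi : (i : ℕ) + 1 < q
          · exact hgen1 ⟨(i : ℕ) + 1, hi⟩ (x i)
          · rw [show (i : ℕ) + 1 = q by omega]
            have := hgen1 ⟨0, (Fact.out : q.Prime).pos⟩ (σ ⟨_, hqg⟩ (x i))
            rw [pow_zero, map_one] at this
            exact this
        exact fun h hh => hgen St hMSt g hgSt hgH hgM hh
      · intro h0
        obtain ⟨u, hu⟩ := exists_ne (0 : U)
        have h1 : Ψ (Pi.single ⟨0, (Fact.out : q.Prime).pos⟩ u) = 0 := by
          rw [← Submodule.mem_bot K, ← h0]; exact ⟨_, rfl⟩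
        have h2 := hinj (h1.trans (map_zero Ψ).symm)
        exact hu (by simpa using congrFun h2 ⟨0, (Fact.out : q.Prime).pos⟩)
    rw [← hrange, LinearMap.finrank_range_of_inj hinj, Module.finrank_pi_fintype, Finset.sum_const,
      Finset.card_univ, Fintype.card_fin, smul_eq_mul, he, pow_succ, mul_comm]

end Degree

/-- The commutant of an endomorphism. -/
def comm' {W : Type*} [AddCommGroup W] [Module K W] (N : End K W) : Submodule K (End K W) :=
  LinearMap.ker (LinearMap.mulLeft K N - LinearMap.mulRight K N)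

theorem mem_comm' {W : Type*} [AddCommGroup W] [Module K W] {N f : End K W} :
    f ∈ comm' N ↔ ∀ w, N (f w) = f (N w) := by
  rw [comm', LinearMap.mem_ker, LinearMap.sub_apply, sub_eq_zero]
  exact LinearMap.ext_iff

theorem sq_one {n : ℕ} (h : n ^ 2 = 1) : n = 1 := (pow_eq_one_iff.1 h).resolve_right two_ne_zero

theorem arith_a {n P r s t : ℕ} (hP : s + 2 ≤ P) (ht : n = t * s) (h : n ^ 2 ≤ (r + 1) * s)
    (hsq : n ^ 2 = P * r + 1) : n = 1 := by
  have h1 : (s + 2) * r ≤ P * r := Nat.mul_le_mul_right r hP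
  have e1 : (s + 2) * r = s * r + 2 * r := by ring
  have e2 : (r + 1) * s = s * r + s := by ring
  have ht1 : 1 ≤ t := by
    by_contra h0
    rw [show t = 0 by omega, zero_mul] at ht
    rw [ht] at hsq
    simp at hsq
  have h2 : s * s ≤ (r + 1) * s := by
    refine le_trans ?_ h
    rw [pow_two]
    exact Nat.mul_le_mul (by rw [ht]; exact Nat.le_mul_of_pos_left s ht1) (by rw [ht]; exact Nat.le_mul_of_pos_left s ht1)
  have h3 : s ≤ r + 1 := Nat.le_of_mul_le_mul_right h2 (by omega)
  have hr : r = 0 := by omega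
  rw [hr, mul_zero, zero_add] at hsq
  exact sq_one hsq

theorem arith_b {n P r s : ℕ} (hP : s + 1 ≤ P) (hs : 1 ≤ s) (h : n ^ 2 + (s - 1) ≤ (r + 1) * s)
    (hsq : n ^ 2 = P * r + 1) : n = 1 := by
  have h1 : (s + 1) * r ≤ P * r := Nat.mul_le_mul_right r hP
  have e1 : (s + 1) * r = s * r + r := by ring
  have e2 : (r + 1) * s = s * r + s := by ring
  have hr : r = 0 := by omega
  rw [hr, mul_zero, zero_add] at hsq
  exact sq_one hsq

theorem arith_c {n r s t : ℕ} (hs : 1 ≤ s) (ht : n = t * s) (h : n ^ 2 ≤ (r + 1) * s)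
    (hsq : n ^ 2 = (s + 1) * r + 1) : t = 1 := by
  have e1 : (s + 1) * r = s * r + r := by ring
  have e2 : (r + 1) * s = s * r + s := by ring
  have h2 : (r + 1) * s ≤ s * s := Nat.mul_le_mul_right s (by omega)
  rcases t with _ | _ | t
  · rw [ht] at hsq; simp at hsq
  · rfl
  · exfalso
    have e3 : n ^ 2 = (t * t + 4 * t + 3) * (s * s) + s * s := by rw [ht]; ring
    have h4 : 3 * (s * s) ≤ (t * t + 4 * t + 3) * (s * s) := Nat.mul_le_mul_right _ (by omega)
    have h5 : 1 ≤ s * s := Nat.one_le_iff_ne_zero.2 (mul_ne_zero (by omega) (by omega))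
    omega

theorem free_comm' {W : Type*} [AddCommGroup W] [Module K W] (N : End K W) : Module.Free K (comm' N) :=
  Module.Free.of_divisionRing _ _

theorem free_dual {W : Type*} [AddCommGroup W] [Module K W] : Module.Free K (W →ₗ[K] K) :=
  Module.Free.of_divisionRing _ _

theorem commutant_bound : ∀ (d : ℕ) (W : Type v) [AddCommGroup W] [Module K W] [FiniteDimensional K W],
    Module.finrank K W = d → ∀ (N : End K W) (k : ℕ), 1 ≤ k → N ^ k = 0 →
      ((∃ r, d = r * k) ∧ d ^ 2 ≤ Module.finrank K (comm' N) * k) ∨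
        d ^ 2 + (k - 1) ≤ Module.finrank K (comm' N) * k := by
  intro d
  induction d using Nat.strong_induction_on with
  | _ d ih =>
  intro W _ _ _ hd N k hk hN
  classical
  by_cases hd0 : d = 0
  · subst hd0; exact Or.inl ⟨⟨0, by simp⟩, by simp⟩
  haveI : Nontrivial W := Module.nontrivial_of_finrank_pos (R := K) (by omega)
  have hex : ∃ j, N ^ j = 0 := ⟨k, hN⟩
  set k' := Nat.find hex with hk'
  have hNk' : N ^ k' = 0 := Nat.find_spec hex
  have hk'k : k' ≤ k := Nat.find_min' hex hN
  obtain ⟨l, hl⟩ : ∃ l, k' = l + 1 := by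
    refine ⟨k' - 1, ?_⟩
    have : k' ≠ 0 := fun h => one_ne_zero (α := End K W) (by rw [← pow_zero N, ← h, hNk'])
    omega
  obtain ⟨v, hv⟩ : ∃ v, (N ^ l) v ≠ 0 := by
    by_contra h
    push Not at h
    exact Nat.find_min hex (show l < k' by omega) (LinearMap.ext h)
  obtain ⟨φ, hφ⟩ : ∃ φ : W →ₗ[K] K, φ ((N ^ l) v) = 1 := by
    obtain ⟨f, hf⟩ := (Module.Projective.exists_dual_ne_zero K hv)
    exact ⟨(f ((N ^ l) v))⁻¹ • f, by simp [hf]⟩
  have happ : ∀ (i j : ℕ) (w : W), (N ^ i) ((N ^ j) w) = (N ^ (i + j)) w := fun i j w => by rw [pow_add]; rfl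
  have hzero : ∀ (i : ℕ) (w : W), k' ≤ i → (N ^ i) w = 0 := fun i w hi => by
    rw [pow_eq_zero_of_le hi hNk']; rfl
  -- the cyclic summand and its complement
  let cyc : (Fin k' → K) →ₗ[K] W := Fintype.linearCombination K (fun i : Fin k' => (N ^ (i : ℕ)) v)
  let coe' : W →ₗ[K] (Fin k' → K) := LinearMap.pi fun i => φ.comp (N ^ (l - (i : ℕ)))
  have htri : Function.Injective (coe'.comp cyc) := by
    rw [← LinearMap.ker_eq_bot, eq_bot_iff]
    intro a ha
    rw [LinearMap.mem_ker] at ha
    refine (Submodule.mem_bot K).2 (funext fun i => ?_)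
    induction i using WellFoundedLT.induction with
    | _ i hi =>
      have h1 := congrFun ha i
      simp only [coe', cyc, LinearMap.comp_apply, LinearMap.pi_apply, Fintype.linearCombination_apply,
        map_sum, map_smul, Pi.zero_apply] at h1
      rw [Finset.sum_eq_single i] at h1
      · rw [happ, show l - (i : ℕ) + (i : ℕ) = l by omega, hφ, smul_eq_mul, mul_one] at h1
        exact h1
      · intro j _ hj
        rcases lt_or_gt_of_ne hj with h | h
        · rw [hi j h]; simp
        · rw [happ, hzero _ _ (by have := (Fin.lt_def.1 h); omega), map_zero, smul_zero]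
      · simp
  have htrib : Function.Bijective (coe'.comp cyc) :=
    ⟨htri, LinearMap.injective_iff_surjective.1 htri⟩
  set C := LinearMap.range cyc with hC
  set U := LinearMap.ker coe' with hU
  have hcompl : IsCompl C U := by
    constructor
    · rw [disjoint_iff, eq_bot_iff]
      rintro _ ⟨⟨a, rfl⟩, ha⟩
      have : a = 0 := htri (ha.trans (map_zero _).symm)
      simp [this]
    · rw [codisjoint_iff, eq_top_iff]
      intro w _
      obtain ⟨a, ha⟩ := htrib.2 (coe' w)
      rw [← add_sub_cancel (cyc a) w]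
      refine Submodule.add_mem_sup ⟨a, rfl⟩ ?_
      rw [hU, LinearMap.mem_ker, map_sub, ← LinearMap.comp_apply, ha, sub_self]
  have hvC : v ∈ C := ⟨Pi.single ⟨0, by omega⟩ 1, by simp [cyc]⟩
  have hCinv : ∀ w ∈ C, N w ∈ C := by
    rintro _ ⟨a, rfl⟩
    simp only [cyc, Fintype.linearCombination_apply, map_sum, map_smul]
    refine C.sum_mem fun i _ => C.smul_mem _ ?_
    rw [show N ((N ^ (i : ℕ)) v) = (N ^ ((i : ℕ) + 1)) v by rw [pow_succ']; rfl]
    by_cases hi : (i : ℕ) + 1 < k'
    · exact ⟨Pi.single ⟨_, hi⟩ 1, by simp [cyc]⟩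
    · rw [hzero _ _ (by omega)]; exact C.zero_mem
  have hUinv : ∀ w ∈ U, N w ∈ U := by
    intro w hw
    rw [hU, LinearMap.mem_ker] at hw ⊢
    funext i
    show φ ((N ^ (l - (i : ℕ))) (N w)) = 0
    rw [show N w = (N ^ 1) w by rw [pow_one], happ]
    by_cases hi : (i : ℕ) = 0
    · rw [hzero _ _ (by omega), map_zero]
    · have := congrFun hw ⟨(i : ℕ) - 1, by omega⟩
      simp only [coe', LinearMap.pi_apply, LinearMap.comp_apply, Pi.zero_apply] at this
      rwa [show l - (i : ℕ) + 1 = l - ((i : ℕ) - 1) by omega]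
  let NU : End K U := N.restrict hUinv
  have hdU : Module.finrank K U + k' = d := by
    have h1 := Submodule.finrank_add_eq_of_isCompl hcompl
    have h2 : Module.finrank K C = k' := by
      rw [hC, LinearMap.finrank_range_of_inj (fun a b h => htri (congrArg coe' h)), Module.finrank_fin_fun]
    omega
  have hNUk : NU ^ k' = 0 := by
    refine LinearMap.ext fun u => Subtype.ext ?_
    have : ∀ j, (((NU ^ j) u : U) : W) = (N ^ j) (u : W) := by
      intro j
      induction j with
      | zero => rfl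
      | succ j hj =>
        rw [pow_succ', pow_succ']
        show N (((NU ^ j) u : U) : W) = N ((N ^ j) (u : W))
        rw [hj]
    rw [this, hNk']; rfl
  have hrec := ih (Module.finrank K U) (by omega) U rfl NU k' (by omega) hNUk
  let pU : W →ₗ[K] U := Submodule.linearProjOfIsCompl U C hcompl.symm
  have hpUu : ∀ u : U, pU u = u := fun u => Submodule.linearProjOfIsCompl_apply_left hcompl.symm u
  have hpUC : ∀ w ∈ C, pU w = 0 := fun w hw => (Submodule.linearProjOfIsCompl_apply_eq_zero_iff hcompl.symm).2 hw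
  have hpUN : ∀ w, pU (N w) = NU (pU w) := by
    intro w
    obtain ⟨c, hc, u, hu, rfl⟩ := Submodule.mem_sup.1 ((codisjoint_iff.1 hcompl.codisjoint).ge (Submodule.mem_top : w ∈ ⊤))
    rw [map_add, map_add, map_add, hpUC _ (hCinv c hc), hpUC c hc, zero_add, zero_add, hpUu ⟨u, hu⟩]
    exact hpUu ⟨N u, hUinv u hu⟩
  -- twisting a functional into an intertwiner
  let Θ : (W →ₗ[K] K) → W → W → W := fun f y w => ∑ i : Fin k', f ((N ^ (l - (i : ℕ))) w) • (N ^ (i : ℕ)) y
  have hΘN : ∀ f y w, N (Θ f y w) = Θ f y (N w) := by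
    intro f y w
    simp only [Θ, map_sum, map_smul]
    have e1 : ∀ i : Fin k', f ((N ^ (l - (i : ℕ))) w) • N ((N ^ (i : ℕ)) y) =
        (fun i : ℕ => f ((N ^ (l - i)) w) • (N ^ (i + 1)) y) (i : ℕ) := fun i => by
      rw [show N ((N ^ (i : ℕ)) y) = (N ^ ((i : ℕ) + 1)) y by rw [pow_succ']; rfl]
    have e2 : ∀ i : Fin k', f ((N ^ (l - (i : ℕ))) (N w)) • (N ^ (i : ℕ)) y =
        (fun i : ℕ => f ((N ^ (l - i + 1)) w) • (N ^ i) y) (i : ℕ) := fun i => by
      rw [show (N ^ (l - (i : ℕ))) (N w) = (N ^ (l - (i : ℕ) + 1)) w by rw [pow_succ]; rfl]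
    rw [Finset.sum_congr rfl (fun i _ => e1 i), Finset.sum_congr rfl (fun i _ => e2 i),
      Fin.sum_univ_eq_sum_range (fun i : ℕ => f ((N ^ (l - i)) w) • (N ^ (i + 1)) y),
      Fin.sum_univ_eq_sum_range (fun i : ℕ => f ((N ^ (l - i + 1)) w) • (N ^ i) y), hl,
      Finset.sum_range_succ, Finset.sum_range_succ', hzero (l + 1) y (by omega), smul_zero, add_zero,
      Nat.sub_zero, hzero (l + 1) w (by omega), map_zero, zero_smul, add_zero]
    refine Finset.sum_congr rfl fun i hi => ?_
    rw [Finset.mem_range] at hi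
    rw [show l - (i + 1) + 1 = l - i by omega]
  let Emb : (W × (U →ₗ[K] K) × comm' NU) →ₗ[K] End K W :=
    { toFun := fun t =>
        { toFun := fun w => Θ φ t.1 w + Θ (t.2.1.comp pU) v w + (((t.2.2 : End K U) (pU w) : U) : W)
          map_add' := fun a b => by
            simp only [Θ, map_add, add_smul, Finset.sum_add_distrib, Submodule.coe_add]; abel
          map_smul' := fun c a => by
            simp only [Θ, map_smul, smul_eq_mul, mul_smul, ← Finset.smul_sum, smul_add, RingHom.id_apply,
              Submodule.coe_smul] }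
      map_add' := fun s t => LinearMap.ext fun w => by
        simp [Θ, smul_add, add_smul, Finset.sum_add_distrib, LinearMap.add_comp]; abel
      map_smul' := fun c t => LinearMap.ext fun w => by
        simp [Θ, smul_add, mul_smul, Finset.smul_sum, smul_comm _ c] }
  have hEmb : ∀ t, Emb t ∈ comm' N := by
    intro t
    rw [mem_comm']
    intro w
    show N (_ + _ + _) = _ + _ + _
    rw [map_add, map_add, hΘN, hΘN, hpUN]
    congr 1
    exact (congrArg Subtype.val (mem_comm'.1 t.2.2.2 (pU w)))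
  have hEinj : Function.Injective Emb := by
    suffices h0 : ∀ t, Emb t = 0 → t = 0 by
      intro t₁ t₂ he
      refine sub_eq_zero.1 (h0 _ (LinearMap.ext fun w => ?_))
      have := LinearMap.congr_fun he w
      show Θ φ (t₁.1 - t₂.1) w + Θ ((t₁.2.1 - t₂.2.1).comp pU) v w + ((((t₁.2.2 - t₂.2.2 : comm' NU) : End K U) (pU w) : U) : W) = 0
      change Θ φ t₁.1 w + Θ (t₁.2.1.comp pU) v w + (((t₁.2.2 : End K U) (pU w) : U) : W) = Θ φ t₂.1 w + Θ (t₂.2.1.comp pU) v w + (((t₂.2.2 : End K U) (pU w) : U) : W) at this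
      simp only [Θ, smul_sub, LinearMap.sub_comp, LinearMap.sub_apply, sub_smul, Finset.sum_sub_distrib, map_sub, AddSubgroupClass.coe_sub] at this ⊢
      rw [← sub_eq_zero] at this
      rw [← this]; abel
    rintro ⟨y, ψ, h, hh⟩ ht
    have hev : ∀ w, Θ φ y w + Θ (ψ.comp pU) v w + ((h (pU w) : U) : W) = 0 := fun w => LinearMap.congr_fun ht w
    have hU0 : ∀ u : U, Θ φ y u = 0 := by
      intro u
      refine Finset.sum_eq_zero fun i _ => ?_
      have := congrFun (LinearMap.mem_ker.1 u.2) i
      simp only [coe', LinearMap.pi_apply, LinearMap.comp_apply, Pi.zero_apply] at this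
      rw [this, zero_smul]
    have hCi : ∀ i : ℕ, pU ((N ^ i) v) = 0 := fun i => by
      refine hpUC _ ?_
      induction i with
      | zero => exact hvC
      | succ i hi => rw [pow_succ']; exact hCinv _ hi
    -- `y = 0`
    have hy : y = 0 := by
      have h1 : ∀ j, Θ φ y ((N ^ j) v) = 0 := by
        intro j
        have := hev ((N ^ j) v)
        have h2 : Θ (ψ.comp pU) v ((N ^ j) v) = 0 := Finset.sum_eq_zero fun i _ => by
          rw [happ, LinearMap.comp_apply, hCi, map_zero, zero_smul]
        rw [h2, hCi, map_zero, Submodule.coe_zero, add_zero, add_zero] at this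
        exact this
      have h3 : ∀ t, t ≤ k' → (N ^ (k' - t)) y = 0 := by
        intro t
        induction t using Nat.strong_induction_on with
        | _ t iht =>
          intro htk
          rcases Nat.eq_zero_or_pos t with h0 | h0
          · rw [h0, Nat.sub_zero]; exact hzero _ _ le_rfl
          have := h1 (k' - t)
          simp only [Θ] at this
          rw [Finset.sum_eq_single ⟨k' - t, by omega⟩] at this
          · rwa [happ, show l - (k' - t) + (k' - t) = l by omega, hφ, one_smul] at this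
          · intro i _ hi
            have hne : (i : ℕ) ≠ k' - t := fun e => hi (Fin.ext e)
            have hlt := i.2
            rcases Nat.lt_or_ge (i : ℕ) (k' - t) with h | h
            · rw [happ, hzero _ _ (by omega), map_zero, zero_smul]
            · have := iht (k' - (i : ℕ)) (by omega) (by omega)
              rw [show k' - (k' - (i : ℕ)) = (i : ℕ) by omega] at this
              rw [this, smul_zero]
          · simp
      simpa using h3 k' le_rfl
    have hu : ∀ u : U, Θ (ψ.comp pU) v u = 0 ∧ h u = 0 := by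
      intro u
      have := hev u
      rw [hU0, zero_add, hpUu] at this
      have hmem : Θ (ψ.comp pU) v u ∈ C := C.sum_mem fun i _ => C.smul_mem _ ⟨Pi.single i 1, by simp [cyc]⟩
      have h2 : ((h u : U) : W) ∈ C := by
        rw [add_eq_zero_iff_eq_neg] at this
        have h5 := C.neg_mem hmem
        rw [this, neg_neg] at h5
        exact h5
      have h3 : ((h u : U) : W) = 0 := Submodule.disjoint_def.1 hcompl.disjoint _ h2 (h u).2
      rw [h3, add_zero] at this
      exact ⟨this, Subtype.ext h3⟩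
    refine Prod.ext hy (Prod.ext (LinearMap.ext fun u => ?_) (Subtype.ext (LinearMap.ext fun u => (hu u).2)))
    have h4 := (hu u).1
    have h5 : cyc (fun i => (ψ.comp pU) ((N ^ (l - (i : ℕ))) (u : W))) = 0 := by
      simp only [cyc, Fintype.linearCombination_apply]; exact h4
    have h7 : (fun i : Fin k' => (ψ.comp pU) ((N ^ (l - (i : ℕ))) (u : W))) = 0 := htri (by
      show coe' (cyc _) = coe' (cyc 0)
      rw [h5, map_zero, map_zero, map_zero])
    have h6 := congrFun h7 ⟨l, by omega⟩
    simpa [hpUu] using h6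
  have hdim : d + Module.finrank K U + Module.finrank K (comm' NU) ≤ Module.finrank K (comm' N) := by
    have h1 := LinearMap.finrank_le_finrank_of_injective (f := LinearMap.codRestrict (comm' N) Emb hEmb)
      (fun a b h => hEinj (congrArg Subtype.val h))
    haveI : Module.Free K (comm' NU) := free_comm' (W := U) NU
    rw [Module.finrank_prod, Module.finrank_prod, hd, Subspace.dual_finrank_eq] at h1
    omega
  set c := Module.finrank K (comm' N)
  set cU := Module.finrank K (comm' NU)
  set n := Module.finrank K U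
  have hck : d ≤ c := by omega
  have hbase : ((∃ r, d = r * k') ∧ d ^ 2 ≤ c * k') ∨ d ^ 2 + (k' - 1) ≤ c * k' := by
    have h0 : (d + n + cU) * k' ≤ c * k' := Nat.mul_le_mul_right k' hdim
    rcases hrec with ⟨⟨r, hr⟩, h⟩ | h
    · refine Or.inl ⟨⟨r + 1, by rw [← hdU, hr]; ring⟩, ?_⟩
      subst hdU
      nlinarith
    · right
      subst hdU
      generalize k' - 1 = z at h ⊢
      nlinarith
  rcases eq_or_lt_of_le hk'k with h | h
  · rw [← h]; exact hbase
  · right
    have h1 : d ^ 2 ≤ c * k' := by rcases hbase with h | h <;> omega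
    obtain ⟨z, hz⟩ : ∃ z, k = k' + (z + 1) := ⟨k - k' - 1, by omega⟩
    have h2 : k' * (z + 1) ≤ c * (z + 1) := Nat.mul_le_mul_right _ (by omega)
    have h3 : k - 1 ≤ k' * (z + 1) := by
      obtain ⟨u, hu⟩ : ∃ u, k' = u + 1 := ⟨l, hl⟩
      rw [hz, hu, show u + 1 + (z + 1) - 1 = u + z + 1 by omega]
      nlinarith
    rw [hz] at h3 ⊢
    generalize k' + (z + 1) - 1 = y at h3 ⊢
    nlinarith

/-- A critical case behind the Hall–Higman theorem. Let p ≠ q be primes and G a finite group generated by a normal q-subgroup Q and a cyclic p-subgroup generated by x, such that the centralizer of every non-identity element of that cyclic subgroup is its product with the centre of G. Let K be an algebraically closed field of characteristic p and ρ a faithful representation of G on a nonzero finite-dimensional K-space whose restriction to Q is irreducible. If s is the least exponent with (ρ(x) − 1)^s = 0, then |⟨x⟩| − 1 ≤ s ≤ |⟨x⟩|; and if s = |⟨x⟩| − 1 then |⟨x⟩| − 1 is a power of q and Q is non-abelian.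 -/
theorem result {G : Type*} [Group G] [Finite G] (p q : ℕ) [Fact p.Prime] [Fact q.Prime] (hpq : p ≠ q) (Q : Subgroup G) [Q.Normal] (hQ : IsPGroup q Q) (x : G) (hx : IsPGroup p (Subgroup.zpowers x)) (hgen : Q ⊔ Subgroup.zpowers x = ⊤) (hC : ∀ y ∈ Subgroup.zpowers x, y ≠ 1 → Subgroup.centralizer ({y} : Set G) = Subgroup.zpowers x ⊔ Subgroup.center G) {K : Type*} [Field K] [IsAlgClosed K] [CharP K p] {V : Type*} [AddCommGroup V] [Module K V] [FiniteDimensional K V] [Nontrivial V] (ρ : Representation K G V) (hfaith : Function.Injective ρ) (hirr : ∀ W : Submodule K V, (∀ g ∈ Q, Submodule.map (ρ g) W ≤ W) → W = ⊥ ∨ W = ⊤) (s : ℕ) (hs : (ρ x - 1) ^ s = 0) (hmin : ∀ k < s, (ρ x - 1) ^ k ≠ 0) : Nat.card (Subgroup.zpowers x) - 1 ≤ s ∧ s ≤ Nat.card (Subgroup.zpowers x) ∧ (s = Nat.card (Subgroup.zpowers x) - 1 → (∃ b : ℕ, Nat.card (Subgroup.zpowers x) - 1 = q ^ b) ∧ ¬ IsMulCommutative Q) := by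
  classical
  have hp : p.Prime := Fact.out
  have hqp : q.Prime := Fact.out
  letI : Fintype Q := Fintype.ofFinite _
  let ρ' : G →* Module.End K V := ρ
  set n := Module.finrank K V with hn
  obtain ⟨a, ha⟩ := hx.exists_card_eq
  set P := Nat.card (Subgroup.zpowers x) with hP
  have hP0 : 0 < P := Nat.card_pos
  have hqK : (q : K) ≠ 0 := fun h => hpq ((Nat.prime_dvd_prime_iff_eq hp hqp).1 ((CharP.cast_eq_zero_iff K p q).1 h))
  let σ : Q →* Module.End K V := ρ'.comp Q.subtype
  have hσ : Irr σ := ⟨inferInstance, fun U hU => hirr U fun g hg => by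
    rw [Submodule.map_le_iff_le_comap]; exact fun u hu => hU ⟨g, hg⟩ u hu⟩
  have hQK : (Fintype.card Q : K) ≠ 0 := by
    obtain ⟨b, hb⟩ := hQ.exists_card_eq
    rw [← Nat.card_eq_fintype_card, hb, Nat.cast_pow]
    exact pow_ne_zero _ hqK
  have hnK : (n : K) ≠ 0 := finrank_ne_zero hσ hQK
  set X : Module.End K V := ρ' x with hX
  set X' : Module.End K V := ρ' x⁻¹ with hX'
  have hXX : X * X' = 1 := by rw [hX, hX', ← map_mul, mul_inv_cancel, map_one]
  have hX'X : X' * X = 1 := by rw [hX, hX', ← map_mul, inv_mul_cancel, map_one]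
  have hxP : x ^ P = 1 := by rw [hP, Nat.card_zpowers]; exact pow_orderOf_eq_one x
  have hXP : X ^ P = 1 := by rw [hX, ← map_pow, hxP, map_one]
  haveI : CharP (Module.End K V) p := charP_of_injective_algebraMap (algebraMap K (Module.End K V)).injective p
  haveI : ExpChar (Module.End K V) p := ExpChar.prime hp
  have hNP : (X - 1) ^ P = 0 := by
    rw [show P = p ^ a from ha, sub_pow_expChar_pow_of_commute p a (Commute.one_right X), one_pow, ← ha]
    rw [hXP, sub_self]
  have hsP : s ≤ P := not_lt.1 fun h => hmin P h hNP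
  have hs0 : 1 ≤ s := by
    by_contra h
    have h0 : s = 0 := by omega
    subst h0
    rw [pow_zero] at hs
    exact one_ne_zero hs
  by_cases hP1 : P = 1
  · refine ⟨by omega, hsP, fun h => ?_⟩
    omega
  have hP2 : 2 ≤ P := by omega
  -- conjugation on endomorphisms
  let Cx : Module.End K (Module.End K V) := (LinearMap.mulLeft K X).comp (LinearMap.mulRight K X')
  let T : Module.End K (Module.End K V) := Cx - 1
  have hCx : ∀ (i : ℕ) (f : Module.End K V), (Cx ^ i) f = X ^ i * f * X' ^ i := by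
    intro i
    induction i with
    | zero => intro f; simp
    | succ i ih =>
      intro f
      rw [pow_succ', pow_succ', pow_succ X']
      show X * ((Cx ^ i) f * X') = _
      rw [ih]; noncomm_ring
  have hTdef : ∀ f, T f = X * f * X' - f := fun f => by
    show X * (f * X') - f = _
    rw [mul_assoc]
  haveI : CharP (Module.End K (Module.End K V)) p :=
    charP_of_injective_algebraMap (algebraMap K (Module.End K (Module.End K V))).injective p
  haveI : ExpChar (Module.End K (Module.End K V)) p := ExpChar.prime hp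
  have hCxP : Cx ^ P = 1 := by
    refine LinearMap.ext fun f => ?_
    rw [hCx, hXP, show X' ^ P = 1 by rw [hX', ← map_pow, inv_pow, hxP, inv_one, map_one]]
    simp
  have hTP : T ^ P = 0 := by
    rw [show P = p ^ a from ha]
    show (Cx - 1) ^ p ^ a = 0
    rw [sub_pow_expChar_pow_of_commute p a (Commute.one_right Cx), one_pow, ← ha, hCxP, sub_self]
  have hgeom : ∑ i ∈ Finset.range P, Cx ^ i = T ^ (P - 1) := by
    have h : (∑ i ∈ Finset.range P, (Polynomial.X : Polynomial K) ^ i) = (Polynomial.X - 1) ^ (P - 1) := by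
      have h1 : (Polynomial.X - 1 : Polynomial K) ≠ 0 := Polynomial.X_sub_C_ne_zero (1 : K) |> fun h => by simpa using h
      apply mul_right_cancel₀ h1
      haveI : ExpChar (Polynomial K) p := ExpChar.prime hp
      rw [geom_sum_mul, ← pow_succ, Nat.sub_add_cancel hP0, show P = p ^ a from ha, sub_pow_expChar_pow, one_pow]
    have h2 := congrArg (Polynomial.aeval Cx) h
    simpa [map_sum, map_pow, map_sub] using h2
  -- trace zero part
  set SL : Submodule K (Module.End K V) := LinearMap.ker (LinearMap.trace K V) with hSL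
  have hT1 : T 1 = 0 := by rw [hTdef, mul_one, hXX, sub_self]
  have htrT : ∀ f, LinearMap.trace K V (T f) = 0 := by
    intro f
    rw [hTdef, map_sub, LinearMap.trace_mul_comm, ← mul_assoc, hX'X, one_mul, sub_self]
  have hcomm : ∀ f, T f = 0 → X * f = f * X := by
    intro f hf
    rw [hTdef, sub_eq_zero] at hf
    calc X * f = X * f * X' * X := by rw [mul_assoc (X * f), hX'X, mul_one]
      _ = f * X := by rw [hf]
  have hne : ∀ y ∈ Subgroup.zpowers x, y ≠ 1 → ∀ g ∈ Q, y * g = g * y → g ∈ Subgroup.center G := by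
    intro y hy hy1 g hg hc
    have hgC : g ∈ Subgroup.centralizer ({y} : Set G) := Subgroup.mem_centralizer_singleton_iff.2 hc.symm
    rw [hC y hy hy1, Subgroup.mem_sup_of_normal_right] at hgC
    obtain ⟨u, hu, z, hz, huz⟩ := hgC
    have huP : u ^ P = 1 := by
      obtain ⟨j, rfl⟩ := hu
      show (x ^ j) ^ P = 1
      rw [← zpow_natCast, ← zpow_mul, mul_comm, zpow_mul, zpow_natCast, hxP, one_zpow]
    have h1 : g ^ P ∈ Subgroup.center G := by
      rw [← huz, (show Commute u z from (Subgroup.mem_center_iff.1 hz u)).mul_pow, huP, one_mul]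
      exact (Subgroup.center G).pow_mem hz P
    obtain ⟨b, hb⟩ := hQ ⟨g, hg⟩
    have h2 : g ^ q ^ b = 1 := congrArg Subtype.val hb
    have hcop : Nat.Coprime P (q ^ b) := by rw [ha]; exact ((Nat.coprime_primes hp hqp).2 hpq).pow _ _
    obtain ⟨r, hr⟩ := exists_pow_eq_self_of_coprime (x := g) (n := P)
      (Nat.Coprime.coprime_dvd_right (orderOf_dvd_of_pow_eq_one h2) hcop)
    rw [← hr]; exact (Subgroup.center G).pow_mem h1 r
  have hcentscalar : ∀ g : Q, (g : G) ∈ Subgroup.center G → ∃ c : K, ∀ v, σ g v = c • v := by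
    intro g hg
    refine scalar hσ (σ g) fun m v => ?_
    rw [← app_mul, ← app_mul]
    congr 1
    exact congrArg σ (Subtype.ext ((Subgroup.mem_center_iff.1 hg (m : G)).symm))
  have hfix : ∀ f, T f = 0 → LinearMap.trace K V f = 0 → ∃ g, LinearMap.trace K V g = 0 ∧ (T ^ (P - 1)) g = f := by
    intro f hf htr
    let cf : Q → K := fun m => LinearMap.trace K V (f * σ m⁻¹)
    have horth : ∀ v, (n : K) • ∑ m : Q, cf m • σ m v = (Fintype.card Q : K) • f v := orth_self hσ f
    let α : Q → Q := fun m => ⟨x * (m : G) * x⁻¹, (inferInstance : Q.Normal).conj_mem m m.2 x⟩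
    have hcfα : ∀ m, cf (α m) = cf m := by
      intro m
      show LinearMap.trace K V (f * ρ' ((x * (m : G) * x⁻¹)⁻¹)) = LinearMap.trace K V (f * ρ' ((m : G)⁻¹))
      rw [mul_inv_rev, mul_inv_rev, inv_inv, ρ'.map_mul, ρ'.map_mul, ← hX, ← hX', ← mul_assoc f, ← hcomm f hf,
        mul_assoc X, LinearMap.trace_mul_comm, mul_assoc, mul_assoc, hX'X, mul_one]
    let Z : Finset Q := Finset.univ.filter fun m => (m : G) ∈ Subgroup.center G
    have hcz : ∀ m ∈ Z, cf m = 0 := by
      intro m hm
      have hz := (Finset.mem_filter.1 hm).2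
      obtain ⟨c, hc⟩ := hcentscalar m⁻¹ ((Subgroup.center G).inv_mem hz)
      show LinearMap.trace K V (f * σ m⁻¹) = 0
      rw [show f * σ m⁻¹ = c • f from LinearMap.ext fun v => by simp [hc], map_smul, htr, smul_zero]
    -- orbits
    letI : MulAction (Subgroup.zpowers x) Q :=
      { smul := fun y m => ⟨(y : G) * (m : G) * (y : G)⁻¹, (inferInstance : Q.Normal).conj_mem m m.2 y⟩
        one_smul := fun m => Subtype.ext (by show (1 : G) * m * (1 : G)⁻¹ = m; simp)
        mul_smul := fun y y' m => Subtype.ext (by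
          show (y : G) * y' * m * ((y : G) * y')⁻¹ = (y : G) * ((y' : G) * m * (y' : G)⁻¹) * (y : G)⁻¹
          group) }
    letI : Fintype (MulAction.orbitRel.Quotient (Subgroup.zpowers x) Q) := Fintype.ofFinite _
    let gen : Module.End K V :=
      ∑ o : MulAction.orbitRel.Quotient (Subgroup.zpowers x) Q,
        if ((Quotient.out o : Q) : G) ∈ Subgroup.center G then 0 else cf (Quotient.out o) • σ (Quotient.out o)
    have hgen : (T ^ (P - 1)) gen = ∑ m : Q, cf m • σ m := by
      rw [← hgeom, LinearMap.sum_apply]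
      have hconj : ∀ (i : ℕ) (m : Q), (Cx ^ i) (σ m) = σ ((⟨x, Subgroup.mem_zpowers x⟩ : Subgroup.zpowers x) ^ i • m) := by
        intro i m
        rw [hCx, hX, hX', ← map_pow, ← map_pow]
        show ρ' _ * ρ' _ * ρ' _ = ρ' _
        rw [← map_mul, ← map_mul]
        congr 1
        show _ = ((⟨x, Subgroup.mem_zpowers x⟩ : Subgroup.zpowers x) ^ i : Subgroup.zpowers x).1 * (m : G) * _
        push_cast
        rw [inv_pow]
        rfl
      rw [Finset.sum_congr rfl fun i _ => show (Cx ^ i) gen = _ from map_sum (Cx ^ i) _ _, Finset.sum_comm,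
        ← Finset.sum_fiberwise (Finset.univ : Finset Q) (fun m => (Quotient.mk'' m : MulAction.orbitRel.Quotient (Subgroup.zpowers x) Q))]
      refine Finset.sum_congr rfl fun o _ => ?_
      set m₀ : Q := Quotient.out o with hm₀
      have ho : (Quotient.mk'' m₀ : MulAction.orbitRel.Quotient (Subgroup.zpowers x) Q) = o := Quotient.out_eq' o
      have hfib : ∀ m : Q, (Quotient.mk'' m : MulAction.orbitRel.Quotient (Subgroup.zpowers x) Q) = o ↔
          ∃ y : Subgroup.zpowers x, y • m₀ = m := by
        intro m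
        rw [← ho, Quotient.eq'']
        exact Iff.rfl
      by_cases hcen : (m₀ : G) ∈ Subgroup.center G
      · simp only [if_pos hcen, map_zero, Finset.sum_const_zero]
        refine (Finset.sum_eq_zero fun m hm => ?_).symm
        obtain ⟨y, hy⟩ := (hfib m).1 (Finset.mem_filter.1 hm).2
        have hmz : (m : G) ∈ Subgroup.center G := by
          rw [← hy]
          show (y : G) * (m₀ : G) * (y : G)⁻¹ ∈ Subgroup.center G
          rwa [Subgroup.mem_center_iff.1 hcen (y : G), mul_inv_cancel_right]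
        rw [hcz m (Finset.mem_filter.2 ⟨Finset.mem_univ _, hmz⟩), zero_smul]
      · simp only [if_neg hcen, map_smul, hconj]
        have hxe : ∀ i : ℕ, ((((⟨x, Subgroup.mem_zpowers x⟩ : Subgroup.zpowers x) ^ i : Subgroup.zpowers x)) : G) = x ^ i :=
          fun i => SubmonoidClass.coe_pow _ i
        have hcf : ∀ i : ℕ, cf ((⟨x, Subgroup.mem_zpowers x⟩ : Subgroup.zpowers x) ^ i • m₀) = cf m₀ := by
          intro i
          induction i with
          | zero => rw [pow_zero, one_smul]
          | succ i ih => rw [pow_succ', mul_smul, ← ih]; exact hcfα _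
        refine Finset.sum_bij (fun i _ => (⟨x, Subgroup.mem_zpowers x⟩ : Subgroup.zpowers x) ^ i • m₀)
          (fun i _ => Finset.mem_filter.2 ⟨Finset.mem_univ _, (hfib _).2 ⟨_, rfl⟩⟩) ?_ ?_ ?_
        · intro i hi j hj hij
          rw [Finset.mem_range] at hi hj
          set xe : Subgroup.zpowers x := ⟨x, Subgroup.mem_zpowers x⟩ with hxe'
          have h1 : ((xe ^ j)⁻¹ * xe ^ i) • m₀ = m₀ := by rw [mul_smul, hij, inv_smul_smul]
          set y : Subgroup.zpowers x := (xe ^ j)⁻¹ * xe ^ i with hy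
          have h2 : (y : G) * (m₀ : G) * (y : G)⁻¹ = (m₀ : G) := congrArg Subtype.val h1
          have h3 : (y : G) = 1 := by
            by_contra hy1
            exact hcen (hne y y.2 hy1 m₀ m₀.2 (mul_inv_eq_iff_eq_mul.1 h2))
          have h4 : x ^ i = x ^ j := by
            have : (x ^ j)⁻¹ * x ^ i = 1 := by
              rw [← h3, hy, Subgroup.coe_mul, Subgroup.coe_inv, hxe, hxe]
            rw [inv_mul_eq_one] at this; exact this.symm
          have hPo : P = orderOf x := by rw [hP, Nat.card_zpowers]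
          exact pow_injOn_Iio_orderOf (show i ∈ Set.Iio (orderOf x) by simpa [← hPo] using hi)
            (show j ∈ Set.Iio (orderOf x) by simpa [← hPo] using hj) h4
        · intro m hm
          obtain ⟨y, hy⟩ := (hfib m).1 (Finset.mem_filter.1 hm).2
          obtain ⟨z, hz⟩ := Subgroup.mem_zpowers_iff.1 y.2
          obtain ⟨i, hi, hi'⟩ : ∃ i, i < P ∧ x ^ i = (y : G) := by
            have h5 := mem_zpowers_iff_mem_range_orderOf.1 y.2
            simpa [hP, Nat.card_zpowers] using h5
          refine ⟨i, Finset.mem_range.2 hi, ?_⟩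
          rw [← hy]
          congr 1
          exact Subtype.ext (by rw [hxe, hi'])
        · intro i _
          rw [hcf]
    obtain ⟨g', hg'⟩ : ∃ g', (T ^ (P - 1)) g' = f := by
      refine ⟨((Fintype.card Q : K)⁻¹ * (n : K)) • gen, ?_⟩
      rw [map_smul, hgen]
      refine LinearMap.ext fun v => ?_
      rw [LinearMap.smul_apply, LinearMap.sum_apply]
      simp only [LinearMap.smul_apply]
      rw [mul_smul, horth, smul_smul, inv_mul_cancel₀ hQK, one_smul]
    refine ⟨g' - ((n : K)⁻¹ * LinearMap.trace K V g') • 1, ?_, ?_⟩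
    · rw [map_sub, map_smul, LinearMap.trace_one, smul_eq_mul, ← hn, mul_comm ((n : K)⁻¹), inv_mul_cancel_right₀ hnK, sub_self]
    · rw [map_sub, map_smul, hg']
      have : (T ^ (P - 1)) (1 : Module.End K V) = 0 := by
        rw [show P - 1 = (P - 2) + 1 by omega, pow_succ]
        show (T ^ (P - 2)) (T 1) = 0
        rw [hT1, map_zero]
      rw [this, smul_zero, sub_zero]
  -- dimensions
  let D : ℕ → Submodule K (Module.End K V) := fun j => LinearMap.ker (T ^ j) ⊓ SL
  have hD : ∀ j f, f ∈ D j ↔ (T ^ j) f = 0 ∧ LinearMap.trace K V f = 0 := fun j f => Iff.rfl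
  have hpowtr : ∀ j f, LinearMap.trace K V f = 0 → LinearMap.trace K V ((T ^ j) f) = 0 := by
    intro j f h
    cases j with
    | zero => exact h
    | succ j => rw [pow_succ']; exact htrT _
  set r := Module.finrank K (D 1) with hr
  have hTadd : ∀ i j f, (T ^ i) ((T ^ j) f) = (T ^ (i + j)) f := fun i j f => by rw [pow_add]; rfl
  have hstep : ∀ j, j < P → Module.finrank K (D (j + 1)) = Module.finrank K (D j) + r := by
    intro j hj
    let F : D (j + 1) →ₗ[K] Module.End K V := (T ^ j).comp (D (j + 1)).subtype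
    have h1 := LinearMap.finrank_range_add_finrank_ker F
    have hrange : LinearMap.range F = D 1 := by
      apply le_antisymm
      · rintro _ ⟨f, rfl⟩
        refine (hD 1 _).2 ⟨?_, hpowtr j _ ((hD _ _).1 f.2).2⟩
        show (T ^ 1) ((T ^ j) (f : Module.End K V)) = 0
        rw [hTadd, Nat.add_comm]; exact ((hD _ _).1 f.2).1
      · intro f hf
        obtain ⟨hf1, hf2⟩ := (hD 1 f).1 hf
        rw [pow_one] at hf1
        obtain ⟨g, hg1, hg2⟩ := hfix f hf1 hf2
        refine ⟨⟨(T ^ (P - 1 - j)) g, (hD _ _).2 ⟨?_, hpowtr _ _ hg1⟩⟩, ?_⟩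
        · rw [hTadd, show j + 1 + (P - 1 - j) = 1 + (P - 1) by omega, ← hTadd, hg2, pow_one, hf1]
        · show (T ^ j) ((T ^ (P - 1 - j)) g) = f
          rw [hTadd, show j + (P - 1 - j) = P - 1 by omega, hg2]
    have hker : LinearMap.ker F = (D j).comap (D (j + 1)).subtype := by
      ext f
      refine ⟨fun h => (hD _ _).2 ⟨h, ((hD _ _).1 f.2).2⟩, fun h => ((hD _ _).1 h).1⟩
    have hle : D j ≤ D (j + 1) := fun f hf => (hD _ _).2 ⟨by
      rw [pow_succ']; show T ((T ^ j) f) = 0; rw [((hD _ _).1 hf).1, map_zero], ((hD _ _).1 hf).2⟩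
    rw [hrange, hker, (Submodule.comapSubtypeEquivOfLe hle).finrank_eq] at h1
    omega
  have hDj : ∀ j, j ≤ P → Module.finrank K (D j) = j * r := by
    intro j
    induction j with
    | zero =>
      intro _
      have : D 0 = ⊥ := by
        rw [eq_bot_iff]; intro f hf
        exact (Submodule.mem_bot K).2 ((hD 0 f).1 hf).1
      rw [this, finrank_bot, zero_mul]
    | succ j ih => intro hj; rw [hstep j (by omega), ih (by omega)]; ring
  have hsq : n ^ 2 = P * r + 1 := by
    have h1 : D P = SL := by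
      ext f; rw [hD, hTP]; exact ⟨fun h => h.2, fun h => ⟨rfl, h⟩⟩
    have h2 := LinearMap.finrank_range_add_finrank_ker (LinearMap.trace K V)
    have h3 : LinearMap.range (LinearMap.trace K V) = ⊤ := by
      rw [LinearMap.range_eq_top]
      intro c
      exact ⟨(c * (n : K)⁻¹) • 1, by rw [map_smul, LinearMap.trace_one, smul_eq_mul, ← hn, inv_mul_cancel_right₀ hnK]⟩
    rw [h3, finrank_top, Module.finrank_self, ← hSL, ← h1, hDj P le_rfl, Module.finrank_linearMap, ← hn] at h2
    rw [pow_two]
    omega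
  have hc : Module.finrank K (comm' (X - 1)) = r + 1 := by
    have he : comm' (X - 1) = (Submodule.span K {(1 : Module.End K V)}) ⊔ D 1 := by
      have hmem : ∀ f, f ∈ comm' (X - 1) ↔ X * f = f * X := by
        intro f
        rw [mem_comm']
        refine (Iff.intro (fun h => (LinearMap.ext h : (X - 1) * f = f * (X - 1))) (fun h w => LinearMap.congr_fun h w)).trans ?_
        rw [sub_mul, one_mul, mul_sub, mul_one, sub_left_inj]
      apply le_antisymm
      · intro f hf
        rw [hmem] at hf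
        have hTf : T f = 0 := by rw [hTdef, hf, mul_assoc, hXX, mul_one, sub_self]
        rw [← sub_add_cancel f (((n : K)⁻¹ * LinearMap.trace K V f) • (1 : Module.End K V)), add_comm]
        refine Submodule.add_mem_sup (Submodule.smul_mem _ _ (Submodule.mem_span_singleton_self _)) ((hD 1 _).2 ⟨?_, ?_⟩)
        · rw [pow_one, map_sub, map_smul, hTf, hT1, smul_zero, sub_zero]
        · rw [map_sub, map_smul, LinearMap.trace_one, smul_eq_mul, ← hn, mul_comm ((n : K)⁻¹), inv_mul_cancel_right₀ hnK, sub_self]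
      · rw [sup_le_iff, Submodule.span_singleton_le_iff_mem]
        refine ⟨(hmem 1).2 (by rw [mul_one, one_mul]), fun f hf => (hmem f).2 (hcomm f ?_)⟩
        have := ((hD 1 f).1 hf).1
        rwa [pow_one] at this
    have h2 := Submodule.finrank_sup_add_finrank_inf_eq (Submodule.span K {(1 : Module.End K V)}) (D 1)
    have hbot : Submodule.span K {(1 : Module.End K V)} ⊓ D 1 = ⊥ := by
      rw [eq_bot_iff]
      rintro f ⟨hf1, hf2⟩
      obtain ⟨c, rfl⟩ := Submodule.mem_span_singleton.1 hf1
      have := ((hD 1 _).1 hf2).2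
      rw [map_smul, LinearMap.trace_one, smul_eq_mul, ← hn] at this
      rw [(mul_eq_zero.1 this).resolve_right hnK, zero_smul]
      exact Submodule.zero_mem _
    rw [hbot, finrank_bot, finrank_span_singleton one_ne_zero, ← hr] at h2
    rw [he]; omega
  -- the dimension is bigger than one
  have hn1 : n ≠ 1 := by
    intro h1
    have hscal : ∀ g : G, ∃ c : K, ρ' g = c • 1 := by
      intro g
      obtain ⟨w, hw0, hw⟩ := finrank_eq_one_iff'.1 h1
      obtain ⟨c, hc⟩ := hw (ρ' g w)
      refine ⟨c, LinearMap.ext fun v => ?_⟩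
      obtain ⟨d, rfl⟩ := hw v
      rw [map_smul, ← hc, LinearMap.smul_apply, Module.End.one_apply, smul_comm]
    obtain ⟨c, hc⟩ := hscal x
    have h2 : c ^ P = 1 := by
      obtain ⟨w, hw0⟩ := exists_ne (0 : V)
      have := LinearMap.congr_fun hXP w
      rw [hX, hc, smul_pow, one_pow] at this
      simp only [LinearMap.smul_apply, Module.End.one_apply] at this
      exact smul_left_injective K hw0 (this.trans (one_smul K w).symm)
    have h3 : c = 1 := by
      rw [ha] at h2
      exact (frobenius_inj K p).iterate a (by simp only [iterate_frobenius, one_pow, h2])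
    have h4 : x = 1 := hfaith (show ρ' x = ρ' 1 by rw [map_one, hc, h3, one_smul])
    apply hP1
    rw [hP, Nat.card_zpowers, h4, orderOf_one]
  refine ⟨?_, hsP, fun hseq => ?_⟩
  · by_contra hlt
    push Not at hlt
    rcases commutant_bound n V rfl (X - 1) s hs0 hs with ⟨⟨t, ht⟩, h⟩ | h
    · rw [hc] at h
      exact hn1 (arith_a (by omega) ht h hsq)
    · rw [hc] at h
      exact hn1 (arith_b (by omega) hs0 h hsq)
  · have hPs : P = s + 1 := by omega
    rcases commutant_bound n V rfl (X - 1) s hs0 hs with ⟨⟨t, ht⟩, h⟩ | h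
    · rw [hc] at h
      rw [hPs] at hsq
      have ht1 : t = 1 := arith_c hs0 ht h hsq
      rw [ht1, one_mul] at ht
      constructor
      · have hirr' : ∀ U ≤ (⊤ : Submodule K V), Inv ρ' Q U → U = ⊥ ∨ U = ⊤ :=
          fun U _ hU => hσ.2 U fun m u hu => hU m m.2 u hu
        obtain ⟨b, hb⟩ := degree_pow q hqK ρ' Q hQ ⊤ top_ne_bot (fun _ _ _ _ => Submodule.mem_top) hirr'
        rw [finrank_top, ← hn] at hb
        exact ⟨b, by omega⟩
      · intro hQc
        apply hn1
        obtain ⟨w, hw⟩ := exists_ne (0 : V)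
        have hsp : Submodule.span K {w} = ⊤ := by
          refine (hσ.2 _ fun m u hu => ?_).resolve_left (by rwa [Submodule.span_singleton_eq_bot])
          obtain ⟨c, hc⟩ := scalar hσ (σ m) (fun k v => by rw [← app_mul, ← app_mul, hQc.1.comm m k])
          rw [hc]; exact Submodule.smul_mem _ _ hu
        rw [hn, ← finrank_top, ← hsp, finrank_span_singleton hw]
    · exfalso
      rw [hc] at h
      exact hn1 (arith_b (by omega) hs0 h hsq)

end Cfsg.Agent.S4282
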