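import Cfsg.Statements.S4283
import Mathlib
import Cfsg.Agent.Lib.Solv.FrobeniusBasic

set_option autoImplicit false
open Cfsg

namespace Cfsg.Agent.S4283

open Cfsg in
theorem frob {G : Type*} [Group G] [Finite G] {H : Subgroup G} (hH : IsFrobeniusComplement H) :
    ∃ K : Subgroup G, (K : Set G) = frobeniusKernel H ∧ K.Normal ∧ K.IsComplement' H :=
  Cfsg.Lib.Solv.frobenius_theorem hH

open Cfsg in
theorem mem_kernel {G : Type*} [Group G] {H : Subgroup G} {x : G} :
    x ∈ frobeniusKernel H ↔ x = 1 ∨ ∀ g : G, g⁻¹ * x * g ∉ H :=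
  Cfsg.Lib.Solv.mem_frobeniusKernel_iff

open Cfsg in
theorem fpf {G : Type*} [Group G] {H : Subgroup G} (hH : IsFrobeniusComplement H) {K : Subgroup G}
    (hd : Disjoint K H) {h k : G} (hh : h ∈ H) (hh1 : h ≠ 1) (hk : k ∈ K) (hc : k * h = h * k) : k = 1 :=
  Cfsg.Lib.Solv.fpf_of_frobenius hH hd hh hh1 hk hc

open Cfsg in
theorem cent {G : Type*} [Group G] {H : Subgroup G} (hH : IsFrobeniusComplement H) {h : G} (hh : h ∈ H)
    (hh1 : h ≠ 1) : Subgroup.centralizer {h} ≤ H :=
  Cfsg.Lib.Solv.centralizer_le_frobenius hH hh hh1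

open Cfsg in
theorem kernel_ne {G : Type*} [Group G] [Finite G] {H : Subgroup G} (hH : IsFrobeniusComplement H) :
    ∃ y ∈ frobeniusKernel H, y ≠ 1 :=
  Cfsg.Lib.Solv.exists_mem_frobeniusKernel_ne_one hH

open Cfsg in
theorem coprime {G : Type*} [Group G] [Finite G] {H : Subgroup G} (hH : IsFrobeniusComplement H) :
    (Nat.card H).Coprime H.index :=
  Cfsg.Lib.Solv.frob_coprime hH


/-- Let G be a finite group with centre Z and let K, H be abelian subgroups of G containing Z such that G/Z is a Frobenius group with complement H/Z and kernel K/Z. Then the conjugacy class sizes of G are exactly 1, [G : K] and [G : H], and these two indices are coprime. (This is the converse half of the characterization of finite groups whose conjugacy class sizes are exactly 1, m and n with m and n coprime.) -/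
theorem result {G : Type*} [Group G] [Finite G] (K H : Subgroup G) (hZK : Subgroup.center G ≤ K) (hZH : Subgroup.center G ≤ H) (hK : IsMulCommutative K) (hH : IsMulCommutative H) (hFrob : Cfsg.IsFrobeniusComplement (H.map (QuotientGroup.mk' (Subgroup.center G)))) (hker : Cfsg.frobeniusKernel (H.map (QuotientGroup.mk' (Subgroup.center G))) = (K.map (QuotientGroup.mk' (Subgroup.center G)) : Set (G ⧸ Subgroup.center G))) : Set.range (fun x : G => (Subgroup.centralizer ({x} : Set G)).index) = ({1, K.index, H.index} : Set ℕ) ∧ K.index.Coprime H.index := by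
  classical
  set Z := Subgroup.center G with hZ
  set π := QuotientGroup.mk' Z with hπ
  set Hb := H.map π with hHb
  set Kb := K.map π with hKb
  obtain ⟨N, hN, hNn, hNc⟩ := Cfsg.Agent.S4283.frob hFrob
  have hNK : N = Kb := SetLike.coe_injective (hN.trans hker)
  subst hNK
  have hsurj : Function.Surjective π := QuotientGroup.mk'_surjective Z
  have hkerπ : π.ker = Z := QuotientGroup.ker_mk' Z
  have hKmem : ∀ x : G, π x ∈ Kb → x ∈ K := fun x hx => by
    rw [hKb, ← Subgroup.mem_comap, Subgroup.comap_map_eq, hkerπ, sup_eq_left.2 hZK] at hx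
    exact hx
  have hHmem : ∀ x : G, π x ∈ Hb → x ∈ H := fun x hx => by
    rw [hHb, ← Subgroup.mem_comap, Subgroup.comap_map_eq, hkerπ, sup_eq_left.2 hZH] at hx
    exact hx
  have hidxK : K.index = Nat.card Hb := by
    rw [← hNc.symm.index_eq_card, hKb, Subgroup.index_map_eq K hsurj (hkerπ.le.trans hZK)]
  have hidxH : H.index = Nat.card Kb := by
    rw [← hNc.index_eq_card, hHb, Subgroup.index_map_eq H hsurj (hkerπ.le.trans hZH)]
  have hzero : ∀ z ∈ Z, (Subgroup.centralizer ({z} : Set G)).index = 1 := fun z hz => by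
    rw [Subgroup.index_eq_one, eq_top_iff]
    exact fun g _ => Subgroup.mem_centralizer_singleton_iff.2 (Subgroup.mem_center_iff.1 hz g)
  have hpi1 : ∀ x, π x = 1 ↔ x ∈ Z := fun x => QuotientGroup.eq_one_iff x
  have hK' : ∀ x ∈ K, x ∉ Z → (Subgroup.centralizer ({x} : Set G)).index = K.index := by
    intro x hx hxZ
    congr 1
    refine le_antisymm (fun g hg => hKmem g ?_) (fun g hg => Subgroup.mem_centralizer_singleton_iff.2
      (congrArg Subtype.val (hK.is_comm.comm ⟨g, hg⟩ ⟨x, hx⟩)))
    by_contra hgK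
    have hmem : π g ∉ frobeniusKernel Hb := by rw [hker]; exact hgK
    rw [Cfsg.Agent.S4283.mem_kernel] at hmem
    push Not at hmem
    obtain ⟨hg1, c, hc⟩ := hmem
    have hgne : c⁻¹ * π g * c ≠ 1 := fun h => hg1 (by
      calc π g = c * (c⁻¹ * π g * c) * c⁻¹ := by group
        _ = 1 := by rw [h]; group)
    have hk : c⁻¹ * π x * c ∈ Kb := by
      haveI := hNn
      have hcj := Subgroup.Normal.conj_mem inferInstance _ (Subgroup.mem_map_of_mem π hx) c⁻¹
      rwa [inv_inv] at hcj
    have hcomm : π x * π g = π g * π x := by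
      rw [← map_mul, ← map_mul, (Subgroup.mem_centralizer_singleton_iff.1 hg)]
    have h2 := Cfsg.Agent.S4283.fpf hFrob hNc.disjoint hc hgne hk (by
      calc c⁻¹ * π x * c * (c⁻¹ * π g * c) = c⁻¹ * (π x * π g) * c := by group
        _ = c⁻¹ * π g * c * (c⁻¹ * π x * c) := by rw [hcomm]; group)
    exact hxZ ((hpi1 x).1 (by
      calc π x = c * (c⁻¹ * π x * c) * c⁻¹ := by group
        _ = 1 := by rw [h2]; group))
  have hH' : ∀ x, x ∉ K → (Subgroup.centralizer ({x} : Set G)).index = H.index := by
    intro x hxK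
    have hmem : π x ∉ frobeniusKernel Hb := by rw [hker]; exact fun h => hxK (hKmem x h)
    rw [Cfsg.Agent.S4283.mem_kernel] at hmem
    push Not at hmem
    obtain ⟨hx1, c, hc⟩ := hmem
    obtain ⟨a, rfl⟩ := hsurj c
    set y := a⁻¹ * x * a with hy
    have hyH : y ∈ H := hHmem y (by rw [hy]; simpa using hc)
    have hy1 : π y ≠ 1 := fun h => hx1 (by
      calc π x = π a * π y * (π a)⁻¹ := by rw [hy]; simp [mul_assoc]
        _ = 1 := by rw [h]; group)
    have hcy : Subgroup.centralizer ({y} : Set G) = H := by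
      refine le_antisymm (fun g hg => hHmem g ?_) (fun g hg => Subgroup.mem_centralizer_singleton_iff.2
        (congrArg Subtype.val (hH.is_comm.comm ⟨g, hg⟩ ⟨y, hyH⟩)))
      exact Cfsg.Agent.S4283.cent hFrob (Subgroup.mem_map_of_mem π hyH) hy1
        (Subgroup.mem_centralizer_singleton_iff.2 (by
          rw [← map_mul, ← map_mul, Subgroup.mem_centralizer_singleton_iff.1 hg]))
    rw [← hcy]
    have : Subgroup.centralizer ({x} : Set G) = (Subgroup.centralizer ({y} : Set G)).map (MulAut.conj a).toMonoidHom := by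
      ext g
      constructor
      · intro hg
        refine ⟨a⁻¹ * g * a, Subgroup.mem_centralizer_singleton_iff.2 ?_, by simp [mul_assoc]⟩
        have h1 := Subgroup.mem_centralizer_singleton_iff.1 hg
        calc a⁻¹ * g * a * y = a⁻¹ * (g * x) * a := by rw [hy]; group
          _ = y * (a⁻¹ * g * a) := by rw [h1, hy]; group
      · rintro ⟨g', hg', rfl⟩
        have h1 := Subgroup.mem_centralizer_singleton_iff.1 hg'
        refine Subgroup.mem_centralizer_singleton_iff.2 ?_
        show a * g' * a⁻¹ * x = x * (a * g' * a⁻¹)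
        calc a * g' * a⁻¹ * x = a * (g' * y) * a⁻¹ := by rw [hy]; group
          _ = x * (a * g' * a⁻¹) := by rw [h1, hy]; group
    rw [this]
    exact Subgroup.index_map_equiv _ (MulAut.conj a)
  refine ⟨?_, ?_⟩
  · ext m
    simp only [Set.mem_range, Set.mem_insert_iff, Set.mem_singleton_iff]
    constructor
    · rintro ⟨x, rfl⟩
      by_cases hxZ : x ∈ Z
      · exact Or.inl (hzero x hxZ)
      by_cases hxK : x ∈ K
      · exact Or.inr (Or.inl (hK' x hxK hxZ))
      · exact Or.inr (Or.inr (hH' x hxK))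
    · rintro (rfl | rfl | rfl)
      · exact ⟨1, hzero 1 Z.one_mem⟩
      · obtain ⟨k, hk, hk1⟩ := Cfsg.Agent.S4283.kernel_ne hFrob
        rw [hker] at hk
        obtain ⟨x, hx, rfl⟩ := hk
        exact ⟨x, hK' x hx (fun h => hk1 ((hpi1 x).2 h))⟩
      · obtain ⟨k, hk, hk1⟩ := Hb.bot_or_exists_ne_one.resolve_left hFrob.1
        obtain ⟨x, hx, rfl⟩ := hk
        refine ⟨x, hH' x fun hxK => hk1 ?_⟩
        exact Subgroup.mem_bot.1 (hNc.disjoint.le_bot ⟨Subgroup.mem_map_of_mem π hxK, Subgroup.mem_map_of_mem π hx⟩)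
  · rw [hidxK, hidxH, ← hNc.index_eq_card]
    exact Cfsg.Agent.S4283.coprime hFrob

end Cfsg.Agent.S4283
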