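import Cfsg.Statements.S4284
import Cfsg.Agent.S4134
import Cfsg.Agent.S4314
import Cfsg.Agent.Lib.Fusion.Parts
import Mathlib.GroupTheory.Perm.Cycle.Type

set_option autoImplicit false
open Cfsg

namespace Cfsg.Agent.S4284

open Subgroup
open scoped commutatorElement IsMulCommutative
open Cfsg.Agent.S4314 (cen mem_cen mem_center_of_index center_le_cen sylow_le_center cen_mul_le)

/-! ### Groups acting on an abelian group with few fixed points -/

section Action

variable {H V : Type*} [Group H] [Finite H] [CommGroup V] [Finite V] {φ : H →* MulAut V}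
  {W : Subgroup V}

/-- An element of `p`-power order fixes, modulo `W`, some element of order `p` modulo `W`. -/
theorem exists_fix_mod (hW : ∀ h, ∀ w ∈ W, φ h w = w) {p : ℕ} [hp : Fact p.Prime] {g : H} {k : ℕ}
    (hg : g ^ p ^ k = 1) {u : V} (hu : u ∉ W) {j : ℕ} (huj : u ^ p ^ j = 1) :
    ∃ v : V, v ∉ W ∧ (∃ i : ℕ, v ^ p ^ i = 1) ∧ v ^ p ∈ W ∧ φ g v * v⁻¹ ∈ W := by
  classical
  -- an element of order `p` modulo `W`
  obtain ⟨v₀, hv₀, ⟨i₀, hi₀⟩, hv₀p⟩ : ∃ v, v ∉ W ∧ (∃ i, v ^ p ^ i = 1) ∧ v ^ p ∈ W := by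
    have hex : ∃ l, u ^ p ^ l ∈ W := ⟨j, huj ▸ one_mem _⟩
    obtain ⟨l, hl⟩ : ∃ l, Nat.find hex = l + 1 := by
      refine ⟨Nat.find hex - 1, ?_⟩
      have : Nat.find hex ≠ 0 := fun h => hu (by have := Nat.find_spec hex; rwa [h, pow_zero, pow_one] at this)
      omega
    refine ⟨u ^ p ^ l, Nat.find_min hex (by omega), ⟨j, by rw [← pow_mul, mul_comm, pow_mul, huj, one_pow]⟩, ?_⟩
    rw [← pow_mul, ← pow_succ]
    exact hl ▸ Nat.find_spec hex
  -- the elements whose order divides a power of `p`, and `p` modulo `W`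
  let S : Subgroup V :=
    { carrier := {v | (∃ i, v ^ p ^ i = 1) ∧ v ^ p ∈ W}
      one_mem' := ⟨⟨0, one_pow _⟩, by rw [one_pow]; exact one_mem _⟩
      mul_mem' := fun {a b} ha hb => ⟨by
        obtain ⟨i, hi⟩ := ha.1
        obtain ⟨i', hi'⟩ := hb.1
        refine ⟨i + i', ?_⟩
        rw [mul_pow, pow_add, pow_mul, hi, one_pow, one_mul, mul_comm (p ^ i), pow_mul, hi', one_pow],
        by rw [mul_pow]; exact mul_mem ha.2 hb.2⟩
      inv_mem' := fun {a} ha => ⟨by obtain ⟨i, hi⟩ := ha.1; exact ⟨i, by rw [inv_pow, hi, inv_one]⟩,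
        by rw [inv_pow]; exact inv_mem ha.2⟩ }
  set T := S.map (QuotientGroup.mk' W) with hT
  let f : V ⧸ W →* V ⧸ W := QuotientGroup.map W W (φ g).toMonoidHom (fun w hw => by
    show φ g w ∈ W
    rw [hW g w hw]; exact hw)
  have hf : ∀ v : V, f (QuotientGroup.mk v) = QuotientGroup.mk (φ g v) := fun v => rfl
  have hfT : ∀ c ∈ T, f c ∈ T := by
    rintro _ ⟨v, ⟨⟨i, hi⟩, hvp⟩, rfl⟩
    exact ⟨φ g v, ⟨⟨i, by rw [← map_pow, hi, map_one]⟩, by rw [← map_pow, hW g _ hvp]; exact hvp⟩, rfl⟩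
  let F : T → T := fun c => ⟨f c, hfT _ c.2⟩
  have hFit : ∀ (l : ℕ) (v : V) (hv : QuotientGroup.mk' W v ∈ T),
      ((F^[l]) ⟨_, hv⟩ : V ⧸ W) = QuotientGroup.mk (φ (g ^ l) v) := by
    intro l
    induction l with
    | zero => intro v hv; simp
    | succ l ih =>
      intro v hv
      rw [Function.iterate_succ_apply']
      show f _ = _
      rw [ih, hf, pow_succ', map_mul]
      rfl
  have hFid : F^[p ^ k] = id := by
    funext c
    obtain ⟨v, hv, hvc⟩ := c.2
    have hc : c = ⟨_, ⟨v, hv, rfl⟩⟩ := Subtype.ext hvc.symm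
    rw [hc, id_eq]
    exact Subtype.ext ((hFit _ v _).trans (by rw [hg, map_one]; rfl))
  have hbij : Function.Bijective F := by
    refine Finite.injective_iff_bijective.mp (Function.Injective.of_comp (f := F^[p ^ k - 1]) ?_)
    rw [← Function.iterate_succ, show (p ^ k - 1).succ = p ^ k from by
      have := Nat.pow_pos (n := k) hp.out.pos; omega, hFid]
    exact Function.injective_id
  let σ : Equiv.Perm T := Equiv.ofBijective F hbij
  have hσ : σ ^ p ^ k = 1 := by
    refine Equiv.ext fun c => ?_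
    rw [Equiv.Perm.coe_pow]
    exact congrFun hFid c
  haveI := Fintype.ofFinite T
  have hpT : p ∣ Fintype.card T := by
    rw [← Nat.card_eq_fintype_card]
    have hc : orderOf (QuotientGroup.mk' W v₀) = p :=
      orderOf_eq_prime (by rw [← map_pow]; exact (QuotientGroup.eq_one_iff _).mpr hv₀p)
        fun h => hv₀ ((QuotientGroup.eq_one_iff _).mp h)
    rw [← hc]
    exact orderOf_dvd_natCard T ⟨v₀, ⟨⟨i₀, hi₀⟩, hv₀p⟩, rfl⟩
  obtain ⟨⟨c, v, ⟨hvi, hvp⟩, rfl⟩, hfix, hne⟩ := Equiv.Perm.exists_fixed_point_of_prime' hpT hσ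
    (a := (1 : T)) (Subtype.ext (map_one f))
  refine ⟨v, fun h => hne (Subtype.ext ((QuotientGroup.eq_one_iff v).mpr h)), hvi, hvp, ?_⟩
  have h1 : f (QuotientGroup.mk v) = QuotientGroup.mk v := congrArg Subtype.val hfix
  rw [hf] at h1
  rw [mul_comm]
  exact QuotientGroup.eq.mp h1.symm

theorem iterate_shift (hW : ∀ h, ∀ w ∈ W, φ h w = w) (h : H) (v : V) (hv : φ h v * v⁻¹ ∈ W) :
    ∀ l : ℕ, φ (h ^ l) v = v * (φ h v * v⁻¹) ^ l
  | 0 => by simp
  | l + 1 => by
    rw [pow_succ', map_mul, MulAut.mul_apply, iterate_shift hW h v hv l, map_mul, map_pow,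
      hW h _ hv, pow_succ', ← mul_assoc, mul_comm v (φ h v * v⁻¹), inv_mul_cancel_right]

variable (hW : ∀ h, ∀ w ∈ W, φ h w = w) (hfix : ∀ h : H, h ≠ 1 → ∀ v, φ h v = v → v ∈ W)

include hW hfix in
/-- A `p`-element and a commuting element of order prime to `p` cannot both be nontrivial. -/
theorem no_commute {p : ℕ} [hp : Fact p.Prime] {u : V} (hu : u ∉ W) {j : ℕ} (huj : u ^ p ^ j = 1)
    {t s : H} {k d : ℕ} (ht : t ^ p ^ k = 1) (ht1 : t ≠ 1) (hs : s ^ d = 1) (hd : ¬ p ∣ d)
    (hts : Commute t s) : s = 1 := by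
  by_contra hs1
  obtain ⟨v, hv, ⟨i, hi⟩, -, hvt⟩ := exists_fix_mod hW ht hu huj
  set w' := φ s v * v⁻¹ with hw'
  have h1 : φ t w' = w' := by
    have h2 : φ t (φ s v) = φ s (φ t v) := by
      rw [← MulAut.mul_apply, ← map_mul, hts.eq, map_mul, MulAut.mul_apply]
    have h3 : φ t v = φ t v * v⁻¹ * v := (inv_mul_cancel_right _ _).symm
    have h4 : φ s (φ t v) = φ t v * v⁻¹ * φ s v := by
      conv_lhs => rw [h3, map_mul, hW s _ hvt]
    calc φ t w' = φ t v * v⁻¹ * φ s v * (φ t v)⁻¹ := by rw [hw', map_mul, map_inv, h2, h4]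
      _ = φ s v * v⁻¹ * (φ t v * (φ t v)⁻¹) := by
          rw [mul_comm (φ t v) v⁻¹, mul_comm (v⁻¹ * φ t v) (φ s v), ← mul_assoc, mul_assoc]
      _ = w' := by rw [mul_inv_cancel, mul_one, hw']
  have h4 : w' ∈ W := hfix t ht1 _ h1
  have h5 := iterate_shift hW s v h4 d
  rw [hs, map_one, MulAut.one_apply, left_eq_mul] at h5
  have h6 : w' ^ p ^ i = 1 := by
    rw [hw', mul_pow, inv_pow, ← map_pow, hi, map_one, inv_one, one_mul]
  have h7 : w' = 1 := orderOf_eq_one_iff.mp (Nat.eq_one_of_dvd_coprimes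
    (((Nat.Prime.coprime_iff_not_dvd hp.out).mpr hd).pow_left i)
    (orderOf_dvd_of_pow_eq_one h6) (orderOf_dvd_of_pow_eq_one h5))
  exact hv (hfix s hs1 v (mul_inv_eq_one.mp h7))

include hW hfix in
/-- `p`-elements have order at most `p`. -/
theorem pow_eq_one_of_pElement {p : ℕ} [hp : Fact p.Prime] {u : V} (hu : u ∉ W) {j : ℕ}
    (huj : u ^ p ^ j = 1) {g : H} {k : ℕ} (hg : g ^ p ^ k = 1) : g ^ p = 1 := by
  by_contra hgp
  obtain ⟨v, hv, -, hvp, hvg⟩ := exists_fix_mod hW hg hu huj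
  have h1 := iterate_shift hW g v hvg p
  have h2 : (φ g v * v⁻¹) ^ p = 1 := by
    rw [mul_pow, inv_pow, ← map_pow, hW g _ hvp, mul_inv_cancel]
  rw [h2, mul_one] at h1
  exact hv (hfix _ hgp v h1)

include hW hfix in
/-- The nontrivial `p`-subgroups have order `p`. -/
theorem card_eq_prime {p : ℕ} [hp : Fact p.Prime] {S : Subgroup H} (hS : IsPGroup p S) (hS1 : S ≠ ⊥)
    (hexp : ∀ g ∈ S, g ^ p = 1) {y : V} (hy : y ∉ W) {d : ℕ} (hyd : y ^ d = 1) (hd : ¬ p ∣ d) :
    Nat.card S = p := by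
  haveI : Nontrivial S := (Subgroup.nontrivial_iff_ne_bot S).mpr hS1
  haveI := hS.center_nontrivial
  obtain ⟨⟨a₀, ha₀c⟩, ha₀1⟩ := exists_ne (1 : center S)
  have ha1 : (a₀ : H) ≠ 1 := fun h => ha₀1 (Subtype.ext (Subtype.ext h))
  have hord : ∀ b ∈ S, b ≠ 1 → orderOf b = p := fun b hb hb1 => orderOf_eq_prime (hexp b hb) hb1
  have hSa : S = zpowers (a₀ : H) := by
    refine le_antisymm (fun b hb => ?_) (zpowers_le.mpr a₀.2)
    by_contra hba
    have hb1 : b ≠ 1 := fun h => hba (h ▸ one_mem _)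
    have hab : Commute (a₀ : H) b := (congrArg Subtype.val (mem_center_iff.mp ha₀c ⟨b, hb⟩)).symm
    exact hy (Cfsg.Agent.S4134.mem_of_pow_mem hyd
      (Cfsg.Agent.S4134.pow_prime_mem hfix (hord _ a₀.2 ha1) (hord b hb hb1) hab hba y)
      ((Nat.Prime.coprime_iff_not_dvd hp.out).mpr hd))
  rw [hSa, Nat.card_zpowers]
  exact hord _ a₀.2 ha1

include hW hfix in
/-- A `p`-element of order `p` is normalised only by `p`-elements. -/
theorem no_normalizing {p : ℕ} [hp : Fact p.Prime] {u : V} (hu : u ∉ W) {j : ℕ} (huj : u ^ p ^ j = 1)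
    {y : V} (hy : y ∉ W) {d : ℕ} (hyd : y ^ d = 1) (hd : ¬ p ∣ d)
    {t : H} (ht : orderOf t = p) {e : H} (he : (orderOf e).Prime) (hep : orderOf e ≠ p)
    (hen : e ∈ normalizer (zpowers t : Set H)) : False := by
  have ht1 : t ≠ 1 := fun h => hp.out.ne_one (by rw [← ht, h, orderOf_one])
  have he1 : e ≠ 1 := fun h => he.ne_one (by rw [h, orderOf_one])
  have hndvd : ¬ p ∣ orderOf e := fun h => hep ((Nat.prime_dvd_prime_iff_eq hp.out he).mp h).symm
  have hno : ∀ m ∈ zpowers t, Commute m e → m = 1 := by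
    intro m hm hme
    by_contra hm1
    refine he1 (no_commute hW hfix hu huj (t := m) (k := 1) ?_ hm1 (pow_orderOf_eq_one e) hndvd hme)
    rw [pow_one, ← orderOf_dvd_iff_pow_eq_one, ← ht]
    exact orderOf_dvd_of_mem_zpowers hm
  set N := normalizer (zpowers t : Set H) with hN
  have hTN : zpowers t ≤ N := le_normalizer
  haveI : ((zpowers t).subgroupOf N).Normal := normal_in_normalizer
  haveI : Fact (orderOf e).Prime := ⟨he⟩
  have h := Cfsg.Agent.S4134.pow_card_complement_mem (φ := φ.comp N.subtype) (W := W)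
    (fun h h1 v hv => hfix _ (fun hh => h1 (Subtype.ext hh)) v hv) (a := (⟨e, hen⟩ : N))
    (p := orderOf e) (by rw [Subgroup.orderOf_mk]) (M := (zpowers t).subgroupOf N)
    (fun hbot => ht1 (by
      have h1 : (⟨t, hTN (mem_zpowers t)⟩ : N) ∈ (zpowers t).subgroupOf N :=
        mem_subgroupOf.mpr (mem_zpowers t)
      rw [hbot, mem_bot] at h1
      exact congrArg Subtype.val h1))
    (fun m hm hme => Subtype.ext (hno _ (mem_subgroupOf.mp hm) (congrArg Subtype.val hme.eq))) y
  rw [Nat.card_congr (subgroupOfEquivOfLe hTN).toEquiv, Nat.card_zpowers, ht] at h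
  exact hy (Cfsg.Agent.S4134.mem_of_pow_mem hyd h ((Nat.Prime.coprime_iff_not_dvd hp.out).mpr hd))

include hW hfix in
/-- A Sylow subgroup of the acting group has order `p` and is self-normalising. -/
theorem sylow_self_normalizing {p r : ℕ} [hp : Fact p.Prime] [hr : Fact r.Prime] (hpr : r ≠ p)
    (hpH : p ∣ Nat.card H) {u : V} (hu : u ∉ W) {j : ℕ} (huj : u ^ p ^ j = 1)
    {y : V} (hy : y ∉ W) {l : ℕ} (hyl : y ^ r ^ l = 1) (S : Sylow p H) :
    Nat.card (S : Subgroup H) = p ∧ Nat.card (Sylow p H) * p = Nat.card H := by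
  have hd : ¬ p ∣ r ^ l := fun h =>
    hpr ((Nat.prime_dvd_prime_iff_eq hp.out hr.out).mp (hp.out.dvd_of_dvd_pow h)).symm
  have hexp : ∀ g ∈ (S : Subgroup H), g ^ p = 1 := fun g hg => by
    obtain ⟨k, hk⟩ := S.2 ⟨g, hg⟩
    exact pow_eq_one_of_pElement hW hfix hu huj (congrArg Subtype.val hk)
  have hS1 : (S : Subgroup H) ≠ ⊥ := fun h => by
    have h1 := S.dvd_card_of_dvd_card hpH
    rw [h, card_bot] at h1
    exact hp.out.one_lt.ne' (Nat.dvd_one.mp h1)
  have hcard := card_eq_prime hW hfix S.2 hS1 hexp hy hyl hd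
  refine ⟨hcard, ?_⟩
  obtain ⟨t, ht⟩ : ∃ t : (S : Subgroup H), orderOf t = p :=
    exists_prime_orderOf_dvd_card' p (by rw [hcard])
  have htS : zpowers (t : H) = (S : Subgroup H) := eq_of_le_of_card_ge (zpowers_le.mpr t.2)
    (by rw [hcard, Nat.card_zpowers, orderOf_submonoid, ht])
  have hNp : ∀ q : ℕ, q.Prime → q ∣ Nat.card (normalizer ((S : Subgroup H) : Set H)) → q = p := by
    intro q hq hqd
    by_contra hne
    haveI : Fact q.Prime := ⟨hq⟩
    obtain ⟨⟨e, heN⟩, he⟩ := exists_prime_orderOf_dvd_card' q hqd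
    rw [Subgroup.orderOf_mk] at he
    exact no_normalizing hW hfix hu huj hy hyl hd (t := (t : H)) (by rw [orderOf_submonoid, ht])
      (e := e) (he ▸ hq) (he ▸ hne) (by rw [htS]; exact heN)
  have hNpg : IsPGroup p (normalizer ((S : Subgroup H) : Set H)) :=
    IsPGroup.of_card (Nat.eq_prime_pow_of_unique_prime_dvd Nat.card_pos.ne' fun hd he => hNp _ hd he)
  have hNS := S.is_maximal' hNpg le_normalizer
  have h1 := Sylow.card_eq_index_normalizer S
  have h2 := (S : Subgroup H).index_mul_card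
  rw [hcard] at h2
  rw [h1, ← h2]
  exact congrArg (fun K : Subgroup H => K.index * p) hNS

include hW hfix in
/-- No two primes divide both the order of the acting group and of the module modulo `W`. -/
theorem no_two_primes {p r : ℕ} [hp : Fact p.Prime] [hr : Fact r.Prime] (hpr : r ≠ p)
    (hpH : p ∣ Nat.card H) (hrH : r ∣ Nat.card H) {u : V} (hu : u ∉ W) {j : ℕ}
    (huj : u ^ p ^ j = 1) {y : V} (hy : y ∉ W) {l : ℕ} (hyl : y ^ r ^ l = 1) : False := by
  classical
  have hSp := fun S => sylow_self_normalizing hW hfix hpr hpH hu huj hy hyl S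
  have hSr := fun S => sylow_self_normalizing hW hfix hpr.symm hrH hy hyl hu huj S
  let f : (Σ S : Sylow p H, {g : (S : Subgroup H) // g ≠ 1}) ⊕
      (Σ S : Sylow r H, {g : (S : Subgroup H) // g ≠ 1}) ⊕ Unit → H :=
    Sum.elim (fun o => o.2.1.1) (Sum.elim (fun o => o.2.1.1) fun _ => 1)
  have hord : ∀ (q : ℕ) [Fact q.Prime] (S : Sylow q H), Nat.card (S : Subgroup H) = q →
      ∀ g : {g : (S : Subgroup H) // g ≠ 1}, orderOf (g.1.1) = q := by
    intro q _ S hS g
    rw [orderOf_submonoid]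
    exact ((Fact.out : q.Prime).eq_one_or_self_of_dvd _ (by have := orderOf_dvd_natCard g.1; rwa [hS] at this)).resolve_left
      fun h => g.2 (orderOf_eq_one_iff.mp h)
  have hsame : ∀ (q : ℕ) [Fact q.Prime] (S S' : Sylow q H), Nat.card (S : Subgroup H) = q →
      Nat.card (S' : Subgroup H) = q → ∀ x : H, x ∈ (S : Subgroup H) → x ∈ (S' : Subgroup H) →
      orderOf x = q → S = S' := by
    intro q _ S S' hS hS' x hx hx' hq
    have e : ∀ T : Sylow q H, Nat.card (T : Subgroup H) = q → x ∈ (T : Subgroup H) →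
        zpowers x = (T : Subgroup H) := fun T hT hxT =>
      eq_of_le_of_card_ge (zpowers_le.mpr hxT) (by rw [hT, Nat.card_zpowers, hq])
    exact Sylow.ext ((e S hS hx).symm.trans (e S' hS' hx'))
  have hinj : Function.Injective f := by
    rintro (⟨S, g⟩ | ⟨S, g⟩ | _) (⟨S', g'⟩ | ⟨S', g'⟩ | _) he
    · simp only [f, Sum.elim_inl] at he
      obtain rfl := hsame p S S' (hSp S).1 (hSp S').1 _ g.1.2 (he ▸ g'.1.2) (hord p S (hSp S).1 g)
      obtain rfl : g = g' := Subtype.ext (Subtype.ext he)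
      rfl
    · simp only [f, Sum.elim_inl, Sum.elim_inr] at he
      exact absurd ((hord r S' (hSr S').1 g').symm.trans (he ▸ hord p S (hSp S).1 g)) hpr
    · simp only [f, Sum.elim_inl, Sum.elim_inr] at he
      exact absurd (Subtype.ext he) g.2
    · simp only [f, Sum.elim_inl, Sum.elim_inr] at he
      exact absurd ((hord r S (hSr S).1 g).symm.trans (he ▸ hord p S' (hSp S').1 g')) hpr
    · simp only [f, Sum.elim_inl, Sum.elim_inr] at he
      obtain rfl := hsame r S S' (hSr S).1 (hSr S').1 _ g.1.2 (he ▸ g'.1.2) (hord r S (hSr S).1 g)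
      obtain rfl : g = g' := Subtype.ext (Subtype.ext he)
      rfl
    · simp only [f, Sum.elim_inl, Sum.elim_inr] at he
      exact absurd (Subtype.ext he) g.2
    · simp only [f, Sum.elim_inl, Sum.elim_inr] at he
      exact absurd (Subtype.ext he.symm) g'.2
    · simp only [f, Sum.elim_inl, Sum.elim_inr] at he
      exact absurd (Subtype.ext he.symm) g'.2
    · rfl
  have hle := Nat.card_le_card_of_injective f hinj
  haveI := Fintype.ofFinite (Sylow p H)
  haveI := Fintype.ofFinite (Sylow r H)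
  have hne : ∀ (q : ℕ) [Fact q.Prime] (S : Sylow q H), Nat.card (S : Subgroup H) = q →
      Nat.card {g : (S : Subgroup H) // g ≠ 1} = q - 1 := by
    intro q _ S hS
    haveI := Fintype.ofFinite (S : Subgroup H)
    rw [Nat.card_eq_fintype_card, Fintype.card_subtype_compl, Fintype.card_subtype_eq,
      ← Nat.card_eq_fintype_card, hS]
  rw [Nat.card_sum, Nat.card_sum, Nat.card_sigma, Nat.card_sigma,
    Finset.sum_congr rfl fun S _ => hne p S (hSp S).1,
    Finset.sum_congr rfl fun S _ => hne r S (hSr S).1, Finset.sum_const, Finset.sum_const,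
    Finset.card_univ, Finset.card_univ, smul_eq_mul, smul_eq_mul, Nat.card_unique,
    ← Nat.card_eq_fintype_card, ← Nat.card_eq_fintype_card] at hle
  obtain ⟨S₁⟩ : Nonempty (Sylow p H) := inferInstance
  obtain ⟨S₂⟩ : Nonempty (Sylow r H) := inferInstance
  have h1 := (hSp S₁).2
  have h2 := (hSr S₂).2
  have hp2 := hp.out.two_le
  have hr2 := hr.out.two_le
  obtain ⟨P', rfl⟩ : ∃ a, p = a + 1 := ⟨p - 1, by omega⟩
  obtain ⟨R', rfl⟩ : ∃ a, r = a + 1 := ⟨r - 1, by omega⟩
  simp only [Nat.add_sub_cancel] at hle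
  set A := Nat.card (Sylow (P' + 1) H)
  set B := Nat.card (Sylow (R' + 1) H)
  have hP1 : 1 ≤ P' := by omega
  have hR1 : 1 ≤ R' := by omega
  nlinarith [mul_le_mul_of_nonneg_left hP1 (Nat.zero_le A), mul_le_mul_of_nonneg_left hR1 (Nat.zero_le B)]

end Action

variable {G : Type*} [Group G] [Finite G]

/-- The conjugation action of a group of operators on an abelian subgroup it normalises. -/
theorem exists_conj_action (N D B : Subgroup G) (hN : N ≤ normalizer (D : Set G))
    (hNB : ∀ g ∈ N, ∀ b ∈ B, g * b * g⁻¹ ∈ B) (hDB : ∀ d ∈ D, ∀ b ∈ B, d * b = b * d) :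
    haveI : (D.subgroupOf N).Normal := normal_subgroupOf_of_le_normalizer hN
    ∃ φ : (N ⧸ D.subgroupOf N) →* MulAut B, ∀ (g : N) (b : B),
      ((φ (QuotientGroup.mk g) b : B) : G) = g * b * (g : G)⁻¹ := by
  haveI : (D.subgroupOf N).Normal := normal_subgroupOf_of_le_normalizer hN
  let ψ : N →* MulAut B :=
    { toFun := fun g =>
        { toFun := fun b => ⟨g * b * (g : G)⁻¹, hNB g g.2 b b.2⟩
          invFun := fun b => ⟨(g : G)⁻¹ * b * g, by
            have := hNB _ (inv_mem g.2) b b.2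
            rwa [inv_inv] at this⟩
          left_inv := fun b => Subtype.ext (by simp [mul_assoc])
          right_inv := fun b => Subtype.ext (by simp [mul_assoc])
          map_mul' := fun a b => Subtype.ext (by simp [mul_assoc]) }
      map_one' := MulEquiv.ext fun b => Subtype.ext (by simp)
      map_mul' := fun g h => MulEquiv.ext fun b => Subtype.ext (by simp [mul_assoc]) }
  refine ⟨QuotientGroup.lift _ ψ fun d hd => MonoidHom.mem_ker.mpr (MulEquiv.ext fun b =>
    Subtype.ext ?_), fun g b => rfl⟩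
  show (d : G) * b * (d : G)⁻¹ = b
  rw [hDB _ (mem_subgroupOf.mp hd) _ b.2, mul_inv_cancel_right]

/-! ### Generalities on centralisers -/

/-- `x` has `r`-power order. -/
def PElt (r : ℕ) (x : G) : Prop := ∃ k : ℕ, x ^ r ^ k = 1

/-- The exponent of `r` in the order of a subgroup. -/
noncomputable abbrev vv (r : ℕ) (K : Subgroup G) : ℕ := (Nat.card K).factorization r

omit [Finite G] in
theorem pelt_coprime {p r : ℕ} (hp : p.Prime) (hr : r.Prime) (hne : p ≠ r) {a b : G}
    (ha : PElt p a) (hb : PElt r b) : (orderOf a).Coprime (orderOf b) := by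
  obtain ⟨i, hi⟩ := ha
  obtain ⟨j, hj⟩ := hb
  exact ((((Nat.coprime_primes hp hr).mpr hne).pow i j).coprime_dvd_left
    (orderOf_dvd_of_pow_eq_one hi)).coprime_dvd_right (orderOf_dvd_of_pow_eq_one hj)

theorem cen_mul {a b : G} (hc : Commute a b) (hco : (orderOf a).Coprime (orderOf b)) :
    cen (a * b) = cen a ⊓ cen b :=
  le_antisymm (cen_mul_le hc hco) fun u hu => mem_cen.mpr
    ((Commute.mul_left (show Commute a u from mem_cen.mp hu.1) (mem_cen.mp hu.2)).eq)

theorem vv_mono {r : ℕ} {K L : Subgroup G} (h : K ≤ L) : vv r K ≤ vv r L :=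
  (Nat.factorization_le_iff_dvd Nat.card_pos.ne' Nat.card_pos.ne').mpr (card_dvd_of_le h) r

theorem vv_add_index (r : ℕ) (K : Subgroup G) :
    vv r K + K.index.factorization r = (Nat.card G).factorization r := by
  rw [← Finsupp.add_apply, ← Nat.factorization_mul Nat.card_pos.ne' K.index_ne_zero_of_finite,
    K.card_mul_index]

theorem exists_sylow_in {r : ℕ} [Fact r.Prime] (K : Subgroup G) :
    ∃ R ≤ K, IsPGroup r R ∧ Nat.card R = r ^ vv r K := by
  obtain ⟨R⟩ : Nonempty (Sylow r K) := inferInstance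
  refine ⟨(R : Subgroup K).map K.subtype, map_subtype_le _, R.2.map _, ?_⟩
  rw [Subgroup.card_map_of_injective K.subtype_injective, Sylow.card_eq_multiplicity]

omit [Finite G] in
theorem card_mul_rel {K L : Subgroup G} (h : K ≤ L) : Nat.card K * K.relIndex L = Nat.card L := by
  rw [← relIndex_bot_left, ← relIndex_bot_left]
  exact relIndex_mul_relIndex _ _ _ bot_le h

/-- The order of a `p`-subgroup is bounded by the `p`-part. -/
theorem eq_of_le_of_vv {r : ℕ} [hr : Fact r.Prime] {R S K : Subgroup G} (hS : IsPGroup r S)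
    (hRS : R ≤ S) (hSK : S ≤ K) (hR : Nat.card R = r ^ vv r K) : R = S := by
  obtain ⟨i, hi⟩ := IsPGroup.iff_card.mp hS
  refine eq_of_le_of_card_ge hRS ?_
  rw [hR, hi]
  refine Nat.pow_le_pow_right hr.out.pos ?_
  have := vv_mono (r := r) hSK
  rwa [vv, hi, hr.out.factorization_pow, Finsupp.single_eq_same] at this

theorem mem_of_vv {r : ℕ} [hr : Fact r.Prime] {K L : Subgroup G} (hKL : K ≤ L)
    (hn : (K.subgroupOf L).Normal) (hv : vv r L ≤ vv r K) {u : G} (hu : u ∈ L) (hru : PElt r u) :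
    u ∈ K := by
  obtain ⟨i, hi⟩ := hru
  set c := QuotientGroup.mk' (K.subgroupOf L) ⟨u, hu⟩ with hc
  have hnd : ¬ r ∣ (K.subgroupOf L).index := by
    intro hd
    have h1 := congrArg (fun z => z.factorization r) ((K.subgroupOf L).card_mul_index)
    simp only [Nat.card_congr (subgroupOfEquivOfLe hKL).toEquiv] at h1
    rw [Nat.factorization_mul Nat.card_pos.ne' (K.subgroupOf L).index_ne_zero_of_finite,
      Finsupp.add_apply] at h1
    have := hr.out.factorization_pos_of_dvd (K.subgroupOf L).index_ne_zero_of_finite hd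
    simp only [vv] at hv
    omega
  have h1 : orderOf c ∣ r ^ i := orderOf_dvd_of_pow_eq_one (by
    rw [hc, ← map_pow, show (⟨u, hu⟩ : L) ^ r ^ i = 1 from Subtype.ext hi, map_one])
  have h2 : orderOf c ∣ (K.subgroupOf L).index := by
    rw [index_eq_card]; exact orderOf_dvd_natCard c
  have h3 := Nat.eq_one_of_dvd_coprimes
    (((Nat.Prime.coprime_iff_not_dvd hr.out).mpr hnd).pow_left i) h1 h2
  exact mem_subgroupOf.mp ((QuotientGroup.eq_one_iff _).mp (orderOf_eq_one_iff.mp h3))

theorem exists_pelt {r : ℕ} [Fact r.Prime] {K L : Subgroup G} (hv : vv r K < vv r L) :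
    ∃ u ∈ L, u ∉ K ∧ PElt r u := by
  by_contra! hall
  obtain ⟨R, hRL, hR, hRc⟩ := exists_sylow_in (r := r) L
  have hRK : R ≤ K := fun u hu => by
    by_contra huK
    obtain ⟨i, hi⟩ := hR ⟨u, hu⟩
    exact hall u (hRL hu) huK ⟨i, congrArg Subtype.val hi⟩
  have := vv_mono (r := r) hRK
  rw [vv, hRc, (Fact.out : r.Prime).factorization_pow, Finsupp.single_eq_same] at this
  omega

/-- A normalising `r`-element outside a subgroup with less than full `r`-part. -/
theorem exists_normalizing {r : ℕ} [hr : Fact r.Prime] {R K : Subgroup G} (hR : IsPGroup r R)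
    (hRK : R ≤ K) (hRc : Nat.card R = r ^ vv r K)
    (hlt : vv r K < (Nat.card G).factorization r) :
    ∃ g ∈ normalizer (R : Set G), g ∉ K ∧ PElt r g := by
  obtain ⟨P, hP⟩ := hR.exists_le_sylow
  have hne : R.subgroupOf (P : Subgroup G) < ⊤ := by
    rw [lt_top_iff_ne_top, Ne, subgroupOf_eq_top]
    intro h
    have h1 := Nat.le_of_dvd Nat.card_pos (card_dvd_of_le h)
    rw [hRc, Sylow.card_eq_multiplicity] at h1
    exact absurd h1 (not_le.mpr (Nat.pow_lt_pow_right hr.out.one_lt hlt))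
  obtain ⟨g, hgN, hgR⟩ := SetLike.exists_of_lt
    (Group.normalizerCondition_of_isNilpotent (h := P.2.isNilpotent) _ hne)
  rw [mem_subgroupOf] at hgR
  have hgn : (g : G) ∈ normalizer (R : Set G) := by
    refine mem_normalizer_iff.mpr fun u => ⟨fun hu => ?_, fun hu => ?_⟩
    · exact mem_subgroupOf.mp ((mem_normalizer_iff.mp hgN ⟨u, hP hu⟩).mp (mem_subgroupOf.mpr hu))
    · have hu' := hP hu
      have huP : u ∈ (P : Subgroup G) := by
        have := mul_mem (mul_mem (inv_mem g.2) hu') g.2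
        simpa [mul_assoc] using this
      exact mem_subgroupOf.mp ((mem_normalizer_iff.mp hgN ⟨u, huP⟩).mpr (mem_subgroupOf.mpr hu))
  obtain ⟨i, hi⟩ := P.2 g
  refine ⟨g, hgn, fun hgK => ?_, i, congrArg Subtype.val hi⟩
  have hS : IsPGroup r (R ⊔ zpowers (g : G) : Subgroup G) :=
    P.2.to_le (sup_le hP (zpowers_le.mpr g.2))
  have := eq_of_le_of_vv hS le_sup_left (sup_le hRK (zpowers_le.mpr hgK)) hRc
  exact hgR (this ▸ mem_sup_right (mem_zpowers _))

theorem cen_conj_eq {g x : G} {K : Subgroup G} (hx : cen x = K)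
    (hgx : cen (g * x * g⁻¹) = K) : g ∈ normalizer (K : Set G) := by
  refine mem_normalizer_iff.mpr fun u => ?_
  rw [← hgx]
  conv_lhs => rw [hgx, ← hx]
  rw [mem_cen, mem_cen]
  constructor
  · intro h
    calc g * x * g⁻¹ * (g * u * g⁻¹) = g * (x * u) * g⁻¹ := by group
      _ = _ := by rw [h]; group
  · intro h
    calc x * u = g⁻¹ * (g * x * g⁻¹ * (g * u * g⁻¹)) * g := by group
      _ = _ := by rw [h]; group

theorem index_cen_conj (g x : G) : (cen (g * x * g⁻¹)).index = (cen x).index := by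
  have h : cen (g * x * g⁻¹) = (cen x).map (MulAut.conj g).toMonoidHom := by
    ext u
    rw [mem_cen, mem_map_equiv, mem_cen, MulAut.conj_symm_apply]
    constructor
    · intro h
      calc x * (g⁻¹ * u * g) = g⁻¹ * (g * x * g⁻¹ * u) * g := by group
        _ = _ := by rw [h]; group
    · intro h
      calc g * x * g⁻¹ * u = g * (x * (g⁻¹ * u * g)) * g⁻¹ := by group
        _ = _ := by rw [h]; group
  rw [h]
  exact index_map_of_bijective (MulAut.conj g).bijective _

/-- Powers of conjugation with central displacement. -/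
theorem shift_pow {w x c : G} (hc : c ∈ center G) (h : w * x * w⁻¹ = c * x) :
    ∀ l : ℕ, w ^ l * x * (w ^ l)⁻¹ = c ^ l * x := by
  intro l
  induction l with
  | zero => rw [pow_zero, pow_zero, inv_one, mul_one]
  | succ l ih =>
    have hcw : w * c ^ l = c ^ l * w := mem_center_iff.mp (pow_mem hc l) w
    calc w ^ (l + 1) * x * (w ^ (l + 1))⁻¹ = w * (w ^ l * x * (w ^ l)⁻¹) * w⁻¹ := by
          rw [pow_succ', mul_inv_rev]; simp only [mul_assoc]
      _ = (w * c ^ l) * x * w⁻¹ := by rw [ih, mul_assoc w (c ^ l) x]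
      _ = c ^ l * (w * x * w⁻¹) := by rw [hcw]; simp only [mul_assoc]
      _ = c ^ (l + 1) * x := by rw [h, pow_succ, mul_assoc]

/-! ### The class sizes `1, m, m * n` -/

variable {m n : ℕ}

/-- The hypothesis on class sizes. -/
structure Hyp (G : Type*) [Group G] (m n : ℕ) : Prop where
  hm : 1 < m
  hn : 1 < n
  hcop : m.Coprime n
  hidx : ∀ x : G, (cen x).index = 1 ∨ (cen x).index = m ∨ (cen x).index = m * n
  exm : ∃ x : G, (cen x).index = m
  exmn : ∃ x : G, (cen x).index = m * n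

variable (hG : Hyp G m n)

omit [Finite G] in
theorem index_one_of_center {x : G} (hx : x ∈ center G) : (cen x).index = 1 :=
  index_eq_one.mpr (eq_top_iff.mpr fun g _ => mem_cen.mpr (mem_center_iff.mp hx g).symm)

include hG in
omit [Finite G] in
theorem not_central_of_eq {x : G} (h : (cen x).index = m ∨ (cen x).index = m * n) :
    x ∉ center G := fun hx => by
  have h1 := index_one_of_center hx
  have := hG.hm
  have := hG.hn
  rcases h with h | h <;> rw [h1] at h <;> nlinarith

include hG in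
omit [Finite G] in
theorem small_or_big {x : G} (hx : x ∉ center G) : (cen x).index = m ∨ (cen x).index = m * n :=
  (hG.hidx x).resolve_left fun h => hx (mem_center_of_index h)

include hG in
omit [Finite G] in
theorem dvd_small {x : G} (hx : x ∉ center G) (h : (cen x).index ∣ m) : (cen x).index = m := by
  rcases small_or_big hG hx with h1 | h1
  · exact h1
  · rw [h1] at h
    have := Nat.le_of_dvd (by have := hG.hm; omega) h
    have := hG.hm
    have := hG.hn
    nlinarith

include hG in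
omit [Finite G] in
theorem not_dvd_n {r : ℕ} (hr : r.Prime) (hrm : r ∣ m) : ¬ r ∣ n := fun h =>
  hr.one_lt.ne' (Nat.eq_one_of_dvd_coprimes hG.hcop hrm h)

include hG in
omit [Finite G] in
theorem not_dvd_m {r : ℕ} (hr : r.Prime) (hrn : r ∣ n) : ¬ r ∣ m := fun h =>
  hr.one_lt.ne' (Nat.eq_one_of_dvd_coprimes hG.hcop h hrn)

include hG in
theorem vv_cen_of_not_dvd {r : ℕ} (hrn : ¬ r ∣ n) {x : G} (hx : x ∉ center G) :
    vv r (cen x) + m.factorization r = (Nat.card G).factorization r := by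
  rw [← vv_add_index r (cen x)]
  rcases small_or_big hG hx with h | h
  · rw [h]
  · rw [h, Nat.factorization_mul (by have := hG.hm; omega) (by have := hG.hn; omega),
      Finsupp.add_apply, Nat.factorization_eq_zero_of_not_dvd hrn, add_zero]

include hG in
theorem vv_small {r : ℕ} (hrm : ¬ r ∣ m) {x : G} (hx : (cen x).index = m) :
    vv r (cen x) = (Nat.card G).factorization r := by
  rw [← vv_add_index r (cen x), hx, Nat.factorization_eq_zero_of_not_dvd hrm, add_zero]

include hG in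
theorem vv_big {r : ℕ} (hrm : ¬ r ∣ m) {x : G} (hx : (cen x).index = m * n) :
    vv r (cen x) + n.factorization r = (Nat.card G).factorization r := by
  rw [← vv_add_index r (cen x), hx,
    Nat.factorization_mul (by have := hG.hm; omega) (by have := hG.hn; omega), Finsupp.add_apply,
    Nat.factorization_eq_zero_of_not_dvd hrm, zero_add]

include hG in
/-- An element whose centraliser has full `r`-part for a prime `r ∣ n` is small. -/
theorem small_of_full {r : ℕ} (hr : r.Prime) (hrn : r ∣ n) {x : G} (hx : x ∉ center G)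
    (hfull : (Nat.card G).factorization r ≤ vv r (cen x)) : (cen x).index = m := by
  refine (small_or_big hG hx).resolve_right fun h => ?_
  have h1 := vv_big hG (not_dvd_m hG hr hrn) h
  have h2 := hr.factorization_pos_of_dvd (by have := hG.hn; omega) hrn
  omega

include hG in
theorem big_le {t v : G} (ht : (cen t).index = m * n) (hv : v ∈ cen t)
    (hco : (orderOf t).Coprime (orderOf v)) : cen t ≤ cen v := by
  have hc : Commute t v := mem_cen.mp hv
  have hle : cen (t * v) ≤ cen t ⊓ cen v := cen_mul_le hc hco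
  have hd : m * n ∣ (cen (t * v)).index := ht ▸ index_dvd_of_le (hle.trans inf_le_left)
  have heq : (cen (t * v)).index = (cen t).index := by
    rw [ht]
    have := hG.hm
    have := hG.hn
    rcases hG.hidx (t * v) with h | h | h
    · have := Nat.dvd_one.mp (h ▸ hd); nlinarith
    · have := Nat.le_of_dvd (by omega) (h ▸ hd); nlinarith
    · exact h
  have : cen t = cen (t * v) := (eq_of_le_of_card_ge (hle.trans inf_le_left) (by
    have h1 := (cen (t * v)).card_mul_index
    have h2 := (cen t).card_mul_index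
    rw [heq, ← h2] at h1
    exact (Nat.eq_of_mul_eq_mul_right (Nat.pos_of_ne_zero (index_ne_zero_of_finite)) h1).ge)).symm
  rw [this]
  exact hle.trans inf_le_right

include hG in
theorem eq_cen_of_le_small {C : Subgroup G} {v : G} (hC : C.index = m) (hv : v ∉ center G)
    (hle : C ≤ cen v) : cen v = C := by
  have h1 := dvd_small hG hv (hC ▸ index_dvd_of_le hle)
  refine (eq_of_le_of_card_ge hle ?_).symm
  have h2 := C.card_mul_index
  have h3 := (cen v).card_mul_index
  rw [hC, ← h3, h1] at h2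
  exact (Nat.eq_of_mul_eq_mul_right (by have := hG.hm; omega) h2).ge

include hG in
theorem eq_cen_of_le_big {t v : G} (ht : (cen t).index = m * n) (hv : (cen v).index = m * n)
    (hle : cen t ≤ cen v) : cen v = cen t := by
  refine (eq_of_le_of_card_ge hle ?_).symm
  have h2 := (cen t).card_mul_index
  have h3 := (cen v).card_mul_index
  rw [ht, ← h3, hv] at h2
  exact (Nat.eq_of_mul_eq_mul_right
    (Nat.mul_pos (by have := hG.hm; omega) (by have := hG.hn; omega)) h2).ge

include hG in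
theorem pelt_central_of_other {r : ℕ} (hr : r.Prime) (hrm : ¬ r ∣ m) (hrn : ¬ r ∣ n) {u : G}
    (hu : PElt r u) : u ∈ center G := by
  haveI : Fact r.Prime := ⟨hr⟩
  obtain ⟨i, hi⟩ := hu
  obtain ⟨R, hR⟩ := (IsPGroup.of_card_dvd_pow (p := r) (G := zpowers u) (n := i)
    (by rw [Nat.card_zpowers]; exact orderOf_dvd_of_pow_eq_one hi)).exists_le_sylow
  refine sylow_le_center R (fun x hd => ?_) (hR (mem_zpowers u))
  rcases hG.hidx x with h | h | h <;> rw [h] at hd
  · exact hr.one_lt.ne' (Nat.dvd_one.mp hd)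
  · exact hrm hd
  · exact (hr.dvd_mul.mp hd).elim hrm hrn

include hG in
theorem exists_noncentral_pelt {r : ℕ} [hr : Fact r.Prime] (h : r ∣ m ∨ r ∣ n) :
    ∃ u : G, u ∉ center G ∧ PElt r u := by
  by_contra! hall
  obtain ⟨P⟩ : Nonempty (Sylow r G) := inferInstance
  obtain ⟨x, hx⟩ := hG.exmn
  refine P.not_dvd_index (dvd_trans ?_ (index_dvd_of_le (K := cen x) fun u hu => ?_))
  · rw [hx]
    exact h.elim (fun h => h.mul_right n) (fun h => h.mul_left m)
  · obtain ⟨i, hi⟩ := P.2 ⟨u, hu⟩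
    exact center_le_cen x (by_contra fun hc => hall u hc ⟨i, congrArg Subtype.val hi⟩)

omit [Finite G] in
theorem center_subgroupOf_normal (K : Subgroup G) : ((center G).subgroupOf K).Normal :=
  ⟨fun z hz g => by
    rw [show g * z = z * g from Subtype.ext (mem_center_iff.mp (mem_subgroupOf.mp hz) g),
      mul_inv_cancel_right]
    exact hz⟩

include hG in
theorem vv_center_lt {p : ℕ} [hp : Fact p.Prime] (hpm : p ∣ m) {x : G} (hx : x ∉ center G) :
    vv p (center G) < vv p (cen x) := by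
  obtain ⟨y, hy, hyp⟩ := exists_noncentral_pelt hG (Or.inl hpm)
  have h1 := vv_cen_of_not_dvd hG (not_dvd_n hG hp.out hpm) hx
  have h2 := vv_cen_of_not_dvd hG (not_dvd_n hG hp.out hpm) hy
  by_contra hle
  have h3 := mem_of_vv (center_le_cen y) (center_subgroupOf_normal _) (by omega)
    (mem_cen.mpr rfl : y ∈ cen y) hyp
  exact hy h3

include hG in
theorem vv_center_lt_n {q : ℕ} [hq : Fact q.Prime] (hqn : q ∣ n) :
    vv q (center G) < (Nat.card G).factorization q := by
  obtain ⟨x, hx⟩ := hG.exmn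
  have h1 := vv_big hG (not_dvd_m hG hq.out hqn) hx
  have h2 := hq.out.factorization_pos_of_dvd (by have := hG.hn; omega) hqn
  have := vv_mono (r := q) (center_le_cen x)
  omega

include hG in
theorem exists_small_primary :
    ∃ r : ℕ, r.Prime ∧ (r ∣ m ∨ r ∣ n) ∧ ∃ x : G, (cen x).index = m ∧ PElt r x := by
  obtain ⟨x, hx⟩ := hG.exm
  obtain ⟨r, hr, u, hu, huC, hru⟩ :
      ∃ r : ℕ, r.Prime ∧ ∃ u : G, u ∉ center G ∧ cen x ≤ cen u ∧ PElt r u := by
    by_contra! hall
    refine not_central_of_eq hG (Or.inl hx) (Cfsg.Lib.Fusion.induction_parts x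
      (Q := fun y => y ∈ center G) (fun y hy p k hp hk => ?_) (fun a _ b _ ha hb => mul_mem ha hb))
    by_contra hyc
    obtain ⟨i, rfl⟩ := mem_zpowers_iff.mp hy
    refine hall p hp (x ^ i) hyc (fun g hg => mem_cen.mpr ?_) ⟨k, hk ▸ pow_orderOf_eq_one _⟩
    exact ((show Commute x g from mem_cen.mp hg).zpow_left i).eq
  refine ⟨r, hr, ?_, u, dvd_small hG hu (hx ▸ index_dvd_of_le huC), hru⟩
  by_contra! h
  exact hu (pelt_central_of_other hG hr h.1 h.2 hru)

theorem exists_layer_element {p : ℕ} [hp : Fact p.Prime] (P : Sylow p G)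
    (hP : ¬ (P : Subgroup G) ≤ center G) : ∃ z ∈ (P : Subgroup G), z ∉ center G ∧
      z ^ p ∈ center G ∧ ∀ g ∈ (P : Subgroup G), g * z * g⁻¹ * z⁻¹ ∈ center G := by
  set Z₀ := (center G).subgroupOf (P : Subgroup G) with hZ₀
  haveI : Z₀.Normal := center_subgroupOf_normal _
  haveI : Nontrivial ((P : Subgroup G) ⧸ Z₀) := by
    rw [QuotientGroup.nontrivial_iff]
    exact fun h => hP (subgroupOf_eq_top.mp h)
  have hq0 : IsPGroup p ((P : Subgroup G) ⧸ Z₀) := P.2.to_quotient Z₀
  haveI := hq0.center_nontrivial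
  obtain ⟨⟨ξ, hξc⟩, hξ⟩ : ∃ ξ : center ((P : Subgroup G) ⧸ Z₀), orderOf ξ = p := by
    refine exists_prime_orderOf_dvd_card' p ?_
    obtain ⟨k, hk⟩ := IsPGroup.iff_card.mp (hq0.to_subgroup (center ((P : Subgroup G) ⧸ Z₀)))
    rw [hk]
    refine dvd_pow_self p fun h => ?_
    rw [h, pow_zero] at hk
    exact (Finite.one_lt_card (α := center ((P : Subgroup G) ⧸ Z₀))).ne' hk
  obtain ⟨z, rfl⟩ := QuotientGroup.mk_surjective ξ
  rw [Subgroup.orderOf_mk] at hξ
  refine ⟨z, z.2, fun h => ?_, ?_, fun g hg => ?_⟩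
  · have h1 : (z : (P : Subgroup G) ⧸ Z₀) = 1 := (QuotientGroup.eq_one_iff z).mpr h
    rw [h1, orderOf_one] at hξ
    exact hp.out.ne_one hξ.symm
  · have h1 := pow_orderOf_eq_one (z : (P : Subgroup G) ⧸ Z₀)
    rw [hξ, ← QuotientGroup.mk_pow, QuotientGroup.eq_one_iff] at h1
    exact h1
  · have h1 := mem_center_iff.mp hξc (QuotientGroup.mk ⟨g, hg⟩)
    rw [← commutatorElement_eq_one_iff_mul_comm, ← QuotientGroup.mk'_apply, ← QuotientGroup.mk'_apply,
      ← map_commutatorElement, QuotientGroup.mk'_apply, QuotientGroup.eq_one_iff, hZ₀,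
      mem_subgroupOf, commutatorElement_def] at h1
    exact h1

/-- If `D`'s primary elements of the two primes are central in it, two primes cannot both act. -/
theorem no_two_primes_in {p r : ℕ} [hp : Fact p.Prime] [hr : Fact r.Prime] (hpr : r ≠ p)
    (N D B W : Subgroup G) (hDN : D ≤ N) (hN : N ≤ normalizer (D : Set G))
    (hNB : ∀ g ∈ N, ∀ b ∈ B, g * b * g⁻¹ ∈ B) (hDB : ∀ d ∈ D, ∀ b ∈ B, d * b = b * d)
    (hBab : ∀ a ∈ B, ∀ b ∈ B, a * b = b * a) (hWN : ∀ g ∈ N, ∀ w ∈ W, g * w = w * g)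
    (hfix : ∀ g ∈ N, g ∉ D → ∀ b ∈ B, g * b = b * g → b ∈ W)
    {gp : G} (hgp : gp ∈ N) (hgpD : gp ∉ D) (hgpe : PElt p gp)
    {gr : G} (hgr : gr ∈ N) (hgrD : gr ∉ D) (hgre : PElt r gr)
    {u : G} (hu : u ∈ B) (huW : u ∉ W) (hue : PElt p u)
    {y : G} (hy : y ∈ B) (hyW : y ∉ W) (hye : PElt r y) : False := by
  haveI : (D.subgroupOf N).Normal := normal_subgroupOf_of_le_normalizer hN
  haveI : IsMulCommutative B := ⟨⟨fun a b => Subtype.ext (hBab a a.2 b b.2)⟩⟩
  obtain ⟨φ, hφ⟩ := exists_conj_action N D B hN hNB hDB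
  have hW : ∀ h, ∀ w ∈ W.subgroupOf B, φ h w = w := by
    intro h w hw
    obtain ⟨g, rfl⟩ := QuotientGroup.mk_surjective h
    refine Subtype.ext ?_
    rw [hφ, hWN g g.2 w (mem_subgroupOf.mp hw), mul_inv_cancel_right]
  have hfx : ∀ h, h ≠ 1 → ∀ v, φ h v = v → v ∈ W.subgroupOf B := by
    intro h h1 v hv
    obtain ⟨g, rfl⟩ := QuotientGroup.mk_surjective h
    refine mem_subgroupOf.mpr (hfix g g.2 (fun hg => h1 ((QuotientGroup.eq_one_iff g).mpr
      (mem_subgroupOf.mpr hg))) v v.2 ?_)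
    have := congrArg Subtype.val hv
    rw [hφ] at this
    exact mul_inv_eq_iff_eq_mul.mp this
  have hdvd : ∀ (s : ℕ), s.Prime → ∀ g ∈ N, g ∉ D → PElt s g →
      s ∣ Nat.card (N ⧸ D.subgroupOf N) := by
    intro s hs g hg hgD hge
    obtain ⟨i, hi⟩ := hge
    set e := QuotientGroup.mk' (D.subgroupOf N) ⟨g, hg⟩ with he
    have hed : orderOf e ∣ s ^ i := orderOf_dvd_of_pow_eq_one (by
      rw [he, ← map_pow, show (⟨g, hg⟩ : N) ^ s ^ i = 1 from Subtype.ext hi, map_one])
    obtain ⟨k, -, hk⟩ := (Nat.dvd_prime_pow hs).mp hed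
    refine dvd_trans ?_ (orderOf_dvd_natCard e)
    rw [hk]
    refine dvd_pow_self s fun h0 => hgD (mem_subgroupOf.mp ((QuotientGroup.eq_one_iff (⟨g, hg⟩ : N)).mp ?_))
    exact orderOf_eq_one_iff.mp (by rw [← QuotientGroup.mk'_apply, ← he, hk, h0, pow_zero])
  obtain ⟨i, hi⟩ := hue
  obtain ⟨l, hl⟩ := hye
  exact no_two_primes hW hfx hpr (hdvd p hp.out gp hgp hgpD hgpe) (hdvd r hr.out gr hgr hgrD hgre)
    (u := (⟨u, hu⟩ : B)) (fun h => huW (mem_subgroupOf.mp h)) (Subtype.ext hi)
    (y := (⟨y, hy⟩ : B)) (fun h => hyW (mem_subgroupOf.mp h)) (Subtype.ext hl)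

/-! ### There is a small element of order a power of a prime dividing `m` -/

/-- A permutation of `p` points of `p`-power order with a fixed point is trivial. -/
theorem mem_normalCore_of_pelt {p : ℕ} [hp : Fact p.Prime] {C : Subgroup G} (hC : C.index = p)
    {g : G} (hg : g ∈ C) (hge : PElt p g) : g ∈ C.normalCore := by
  classical
  obtain ⟨k, hk⟩ := hge
  haveI := Fintype.ofFinite (G ⧸ C)
  set σ := MulAction.toPermHom G (G ⧸ C) g with hσ
  rw [Subgroup.normalCore_eq_ker, MonoidHom.mem_ker, ← hσ]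
  refine Equiv.Perm.support_eq_empty_iff.mp ?_
  by_contra hne
  have hσp : σ ^ p ^ k = 1 := by rw [hσ, ← map_pow, hk, map_one]
  -- the support has order divisible by `p`, but misses the fixed coset
  have hfix : ((1 : G) : G ⧸ C) ∉ σ.support := by
    rw [Equiv.Perm.notMem_support]
    show g • ((1 : G) : G ⧸ C) = _
    rw [MulAction.Quotient.smul_coe, smul_eq_mul, mul_one, QuotientGroup.eq, mul_one]
    exact inv_mem hg
  have hcard : Fintype.card (G ⧸ C) = p := by
    rw [← Nat.card_eq_fintype_card, ← Subgroup.index_eq_card, hC]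
  obtain ⟨b, hbfix, hb⟩ := Equiv.Perm.exists_fixed_point_of_prime' (hcard ▸ dvd_refl p) hσp
    (a := ((1 : G) : G ⧸ C)) (Equiv.Perm.notMem_support.mp hfix)
  have hlt : σ.support.card < p := by
    rw [← hcard]
    refine Finset.card_lt_univ_of_notMem hfix
  have hdvd : p ∣ σ.support.card := by
    rw [← Equiv.Perm.sum_cycleType]
    refine Multiset.dvd_sum fun c hc => ?_
    have h1 : c ∣ p ^ k := (Equiv.Perm.dvd_of_mem_cycleType hc).trans (orderOf_dvd_of_pow_eq_one hσp)
    obtain ⟨e, -, rfl⟩ := (Nat.dvd_prime_pow hp.out).mp h1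
    refine dvd_pow_self p fun h0 => ?_
    have := Equiv.Perm.two_le_of_mem_cycleType hc
    rw [h0, pow_zero] at this
    omega
  have hpos : 0 < σ.support.card := Finset.card_pos.mpr (Finset.nonempty_of_ne_empty hne)
  have := Nat.le_of_dvd hpos hdvd
  omega

include hG in
theorem exists_small_pi : ∃ p : ℕ, p.Prime ∧ p ∣ m ∧ ∃ x : G, (cen x).index = m ∧ PElt p x := by
  classical
  by_contra! hB
  have hbig : ∀ {p : ℕ}, p.Prime → p ∣ m → ∀ {z : G}, z ∉ center G → PElt p z →
      (cen z).index = m * n := fun {p} hp hpm {z} hz hze =>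
    (small_or_big hG hz).resolve_left fun h => hB p hp hpm z h hze
  obtain ⟨q, hq, hqmn, x, hx, hxq⟩ := exists_small_primary hG
  have hqn : q ∣ n := hqmn.resolve_left fun h => hB q hq h x hx hxq
  haveI : Fact q.Prime := ⟨hq⟩
  have hqm : ¬ q ∣ m := not_dvd_m hG hq hqn
  have hxZ := not_central_of_eq hG (Or.inl hx)
  set p := m.minFac with hpdef
  haveI hpF : Fact p.Prime := ⟨Nat.minFac_prime hG.hm.ne'⟩
  have hpm : p ∣ m := Nat.minFac_dvd m
  have hpn : ¬ p ∣ n := not_dvd_n hG hpF.out hpm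
  have hpq : p ≠ q := fun h => hpn (h ▸ hqn)
  -- every big centraliser contains a non-central `q`-element
  have hqlt : ∀ {t : G}, (cen t).index = m * n → vv q (center G) < vv q (cen t) := by
    intro t ht
    obtain ⟨z', hz', hz'Z, hz'e⟩ := exists_pelt (vv_center_lt hG hpm hxZ)
    have hb := hbig hpF.out hpm hz'Z hz'e
    have h1 := vv_big hG hqm ht
    have h2 := vv_big hG hqm hb
    by_contra hle
    exact hxZ (mem_of_vv (center_le_cen z') (center_subgroupOf_normal _) (by omega)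
      (mem_cen.mpr (mem_cen.mp hz').symm) hxq)
  obtain ⟨P⟩ : Nonempty (Sylow p G) := inferInstance
  have hPZ : ¬ (P : Subgroup G) ≤ center G := fun h =>
    P.not_dvd_index (dvd_trans (hx ▸ hpm) (index_dvd_of_le (h.trans (center_le_cen x))))
  obtain ⟨z, hzP, hzZ, hzp, hzg⟩ := exists_layer_element P hPZ
  have hze : PElt p z := by
    obtain ⟨i, hi⟩ := P.2 ⟨z, hzP⟩; exact ⟨i, congrArg Subtype.val hi⟩
  have hzb := hbig hpF.out hpm hzZ hze
  set D := cen z with hD
  have hPD : (P : Subgroup G) ≤ normalizer (D : Set G) := by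
    intro g hg
    refine cen_conj_eq rfl ?_
    have : g * z * g⁻¹ = (g * z * g⁻¹ * z⁻¹) * z := by group
    rw [this]
    have hc := mem_center_iff.mp (hzg g hg)
    generalize g * z * g⁻¹ * z⁻¹ = c at hc ⊢
    ext u
    rw [hD, mem_cen, mem_cen]
    constructor
    · intro h
      refine mul_left_cancel (a := c) ?_
      rw [← mul_assoc, h, ← mul_assoc, hc u, mul_assoc]
    · intro h
      rw [mul_assoc, h, ← mul_assoc, ← hc u, mul_assoc]
  -- the `q`-elements of `D` form a central subgroup `B`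
  have hBc : ∀ v ∈ D, PElt q v → D ≤ cen v := fun v hv hvq =>
    big_le hG hzb hv (pelt_coprime hpF.out hq hpq hze hvq)
  let B : Subgroup G :=
    { carrier := {v | v ∈ D ∧ PElt q v}
      one_mem' := ⟨one_mem _, 0, one_pow _⟩
      mul_mem' := fun {a b} ha hb => ⟨mul_mem ha.1 hb.1, by
        obtain ⟨i, hi⟩ := ha.2
        obtain ⟨j, hj⟩ := hb.2
        refine ⟨i + j, ?_⟩
        rw [(show Commute a b from mem_cen.mp (hBc a ha.1 ha.2 hb.1)).mul_pow, pow_add, pow_mul, hi,
          one_pow, one_mul, mul_comm (q ^ i), pow_mul, hj, one_pow]⟩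
      inv_mem' := fun {a} ha => ⟨inv_mem ha.1, by
        obtain ⟨i, hi⟩ := ha.2; exact ⟨i, by rw [inv_pow, hi, inv_one]⟩⟩ }
  obtain ⟨b₀, hb₀D, hb₀Z, hb₀e⟩ := exists_pelt (hqlt hzb)
  -- `D` has index exactly `p` in `P`
  have hPDn : ∀ g ∈ (P : Subgroup G), ∀ v ∈ D, g * v * g⁻¹ ∈ D := fun g hg v hv =>
    (mem_normalizer_iff.mp (hPD hg) v).mp hv
  have hPcard0 : Nat.card (P : Subgroup G) = p ^ (Nat.card G).factorization p :=
    Sylow.card_eq_multiplicity P
  set K := (P : Subgroup G) ⊓ D with hK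
  have hPK : (P : Subgroup G) ≤ normalizer (K : Set G) := fun g hg =>
    mem_normalizer_iff.mpr fun u => by
      have h1 := mem_normalizer_iff.mp (hPD hg) u
      rw [hK]
      show u ∈ (P : Subgroup G) ∧ u ∈ D ↔ g * u * g⁻¹ ∈ (P : Subgroup G) ∧ g * u * g⁻¹ ∈ D
      rw [← h1]
      refine and_congr_left fun _ => ⟨fun h => mul_mem (mul_mem hg h) (inv_mem hg), fun h => ?_⟩
      have := mul_mem (mul_mem (inv_mem hg) h) hg
      simpa [mul_assoc] using this
  haveI : (K.subgroupOf (P : Subgroup G)).Normal := normal_subgroupOf_of_le_normalizer hPK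
  have hKP : K ≤ (P : Subgroup G) := inf_le_left
  have hKidx : (K.subgroupOf (P : Subgroup G)).index = p := by
    have hBab : ∀ a ∈ B, ∀ b ∈ B, a * b = b * a := fun a ha b hb => mem_cen.mp (hBc a ha.1 ha.2 hb.1)
    haveI : IsMulCommutative B := ⟨⟨fun a b => Subtype.ext (hBab a a.2 b b.2)⟩⟩
    obtain ⟨φ, hφ⟩ := exists_conj_action (P : Subgroup G) K B hPK
      (fun g hg b hb => ⟨hPDn g hg b hb.1, by
        obtain ⟨i, hi⟩ := hb.2; exact ⟨i, by rw [conj_pow, hi, mul_one, mul_inv_cancel]⟩⟩)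
      (fun d hd b hb => (mem_cen.mp (hBc b hb.1 hb.2 hd.2)).symm)
    have hW : ∀ h, ∀ w ∈ (center G).subgroupOf B, φ h w = w := by
      intro h w hw
      obtain ⟨g, rfl⟩ := QuotientGroup.mk_surjective h
      refine Subtype.ext ?_
      rw [hφ, mem_center_iff.mp (mem_subgroupOf.mp hw) (g : G), mul_inv_cancel_right]
    have hfx : ∀ h, h ≠ 1 → ∀ v, φ h v = v → v ∈ (center G).subgroupOf B := by
      intro h h1 v hv
      obtain ⟨g, rfl⟩ := QuotientGroup.mk_surjective h
      rw [mem_subgroupOf]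
      by_contra hvZ
      have h2 := congrArg Subtype.val hv
      rw [hφ] at h2
      have hgv : (g : G) ∈ cen (v : G) := mem_cen.mpr (mul_inv_eq_iff_eq_mul.mp h2).symm
      have hS : IsPGroup p (K ⊔ zpowers (g : G) : Subgroup G) :=
        P.2.to_le (sup_le hKP (zpowers_le.mpr g.2))
      have hKv : vv p (cen (v : G)) = vv p D := by
        have h3 := vv_cen_of_not_dvd hG hpn hvZ
        have h4 := vv_cen_of_not_dvd hG hpn hzZ
        rw [← hD] at h4
        omega
      have hKc : Nat.card K = p ^ vv p D := by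
        obtain ⟨R, hRD, hR, hRc⟩ := exists_sylow_in (r := p) D
        obtain ⟨j, hj⟩ := IsPGroup.iff_card.mp (P.2.to_le hKP)
        have hle : vv p K ≤ vv p D := vv_mono inf_le_right
        rw [vv, hj, hpF.out.factorization_pow, Finsupp.single_eq_same] at hle
        rw [hj]
        refine congrArg (p ^ ·) (le_antisymm hle ?_)
        -- `P` normalises `D`, so `P ⊓ D` is a Sylow subgroup of `D`
        have hDN : D ≤ normalizer (D : Set G) := le_normalizer
        have h5 : D.relIndex (P : Subgroup G) ∣ D.relIndex (normalizer (D : Set G)) := by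
          haveI : (D.subgroupOf (normalizer (D : Set G))).Normal := normal_in_normalizer
          rw [← relIndex_subgroupOf hPD]
          exact relIndex_dvd_index_of_normal _ _
        have h6 := card_mul_rel (K := (P : Subgroup G) ⊓ D) (L := (P : Subgroup G))
          inf_le_left
        rw [inf_comm, inf_relIndex_right, inf_comm, ← hK, hj, hPcard0] at h6
        have h7 := card_mul_rel hDN
        have h8 : Nat.card D * D.relIndex (P : Subgroup G) ∣ Nat.card G :=
          (mul_dvd_mul_left _ h5).trans (h7 ▸ card_subgroup_dvd_card _)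
        have hne0 : D.relIndex (P : Subgroup G) ≠ 0 := fun h0 => by
          rw [h0, mul_zero] at h6
          exact (pow_pos hpF.out.pos _).ne h6
        have h9 := congrArg (fun x => x.factorization p) h6
        simp only [Nat.factorization_mul (pow_ne_zero _ hpF.out.ne_zero) hne0, Finsupp.add_apply,
          hpF.out.factorization_pow, Finsupp.single_eq_same] at h9
        have h10 := (Nat.factorization_le_iff_dvd (mul_ne_zero Nat.card_pos.ne' hne0)
          Nat.card_pos.ne').mpr h8 p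
        rw [Nat.factorization_mul Nat.card_pos.ne' hne0, Finsupp.add_apply] at h10
        simp only [vv]
        omega
      have h3 := eq_of_le_of_vv hS le_sup_left (sup_le
        (fun k hk => hBc (v : G) v.2.1 v.2.2 hk.2) (zpowers_le.mpr hgv)) (hKc.trans (by rw [hKv]))
      exact h1 ((QuotientGroup.eq_one_iff g).mpr (mem_subgroupOf.mpr
        (h3 ▸ mem_sup_right (mem_zpowers _))))
    set H := (P : Subgroup G) ⧸ K.subgroupOf (P : Subgroup G)
    have hexp : ∀ h : H, h ^ p = 1 := by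
      intro h
      obtain ⟨g, rfl⟩ := QuotientGroup.mk_surjective h
      rw [← QuotientGroup.mk_pow, QuotientGroup.eq_one_iff, mem_subgroupOf]
      refine ⟨pow_mem g.2 p, ?_⟩
      have hc := hzg g g.2
      set c := (g : G) * z * (g : G)⁻¹ * z⁻¹ with hcdef
      have h1 : (g : G) * z * (g : G)⁻¹ = c * z := by rw [hcdef]; group
      have hcp : c ^ p = 1 := by
        have h2 : ((g : G) * z * (g : G)⁻¹) ^ p = (c * z) ^ p := by rw [h1]
        rw [conj_pow, (show Commute c z from (mem_center_iff.mp hc z).symm).mul_pow,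
          mem_center_iff.mp hzp (g : G), mul_inv_cancel_right] at h2
        exact mul_right_cancel (b := z ^ p) (by rw [← h2, one_mul])
      have h3 := shift_pow hc h1 p
      rw [hcp, one_mul, mul_inv_eq_iff_eq_mul] at h3
      exact mem_cen.mpr h3.symm
    have hHp : IsPGroup p (⊤ : Subgroup H) := fun h => ⟨1, by
      rw [pow_one]; exact Subtype.ext (hexp h)⟩
    have hne : (⊤ : Subgroup H) ≠ ⊥ := fun h => by
      have hle : (P : Subgroup G) ≤ D := fun g hg => by
        have h1 : (QuotientGroup.mk ⟨g, hg⟩ : H) ∈ (⊥ : Subgroup H) := h ▸ mem_top _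
        exact (mem_subgroupOf.mp ((QuotientGroup.eq_one_iff _).mp (mem_bot.mp h1))).2
      exact P.not_dvd_index (dvd_trans ((hzb ▸ hpm.mul_right n : p ∣ D.index)) (index_dvd_of_le hle))
    obtain ⟨i, hi⟩ := hb₀e
    have := card_eq_prime hW hfx hHp hne (fun h _ => hexp h) (y := (⟨b₀, hb₀D, i, hi⟩ : B))
      (fun h => hb₀Z (mem_subgroupOf.mp h)) (d := q ^ i) (Subtype.ext hi)
      (fun h => hpq ((Nat.prime_dvd_prime_iff_eq hpF.out hq).mp (hpF.out.dvd_of_dvd_pow h)))
    rwa [card_top, ← index_eq_card] at this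
  have hPcard : Nat.card (P : Subgroup G) = p ^ (Nat.card G).factorization p :=
    Sylow.card_eq_multiplicity P
  have hmp1 : m.factorization p = 1 := by
    have h1 : Nat.card K * p = Nat.card (P : Subgroup G) := by
      conv_rhs => rw [← (K.subgroupOf (P : Subgroup G)).card_mul_index, hKidx,
        Nat.card_congr (subgroupOfEquivOfLe hKP).toEquiv]
    have h2 : vv p D + m.factorization p = (Nat.card G).factorization p := vv_cen_of_not_dvd hG hpn hzZ
    have h3 : vv p K ≤ vv p D := vv_mono inf_le_right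
    have h4 := congrArg (fun x => x.factorization p) h1
    simp only [Nat.factorization_mul Nat.card_pos.ne' hpF.out.ne_zero, Finsupp.add_apply, hPcard,
      hpF.out.factorization_pow, hpF.out.factorization_self, Finsupp.single_eq_same] at h4
    have h5 := hpF.out.factorization_pos_of_dvd (by have := hG.hm; omega) hpm
    simp only [vv] at h2 h3
    omega
  -- only one prime divides `m`
  have huniq : ∀ r : ℕ, r.Prime → r ∣ m → r = p := by
    intro r hr hrm
    by_contra hrp
    haveI : Fact r.Prime := ⟨hr⟩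
    obtain ⟨R, hRD, hRp, hRc⟩ := exists_sylow_in (r := r) D
    have hrlt := vv_center_lt hG hrm hzZ
    obtain ⟨z₂, hz₂R, hz₂Z⟩ : ∃ u ∈ R, u ∉ center G := by
      by_contra! hall
      have := vv_mono (r := r) (K := R) (L := center G) hall
      rw [vv, hRc, hr.factorization_pow, Finsupp.single_eq_same] at this
      simp only [vv, ← hD] at hrlt this ⊢
      omega
    have hz₂e : PElt r z₂ := by
      obtain ⟨i, hi⟩ := hRp ⟨z₂, hz₂R⟩; exact ⟨i, congrArg Subtype.val hi⟩
    have hDz₂ : ∀ {v : G}, v ∈ D → v ∉ center G → PElt r v → cen v = D := fun {v} hv hvZ hve =>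
      eq_cen_of_le_big hG hzb (hbig hr hrm hvZ hve)
        (big_le hG hzb hv (pelt_coprime hpF.out hr (Ne.symm hrp) hze hve))
    have hD2 := hDz₂ (hRD hz₂R) hz₂Z hz₂e
    have hDab : ∀ v ∈ D, D ≤ cen v := by
      intro v hv
      refine Cfsg.Lib.Fusion.induction_parts v (Q := fun y => D ≤ cen y)
        (fun y hy s k hs hk => ?_) (fun a _ b _ ha hb u hu => mem_cen.mpr
          (((show Commute a u from mem_cen.mp (ha hu))).mul_left (mem_cen.mp (hb hu))).eq)
      have hyD : y ∈ D := (zpowers_le.mpr hv) hy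
      have hye : PElt s y := ⟨k, hk ▸ pow_orderOf_eq_one y⟩
      by_cases hsp : s = p
      · have := big_le hG (hbig hr hrm hz₂Z hz₂e) (v := y) (hD2.symm ▸ hyD)
          (pelt_coprime hr hs (hsp ▸ hrp) hz₂e hye)
        rwa [hD2] at this
      · exact big_le hG hzb hyD (pelt_coprime hpF.out hs (Ne.symm hsp) hze hye)
    let V : Subgroup G :=
      { carrier := {v | v ∈ D ∧ ∃ i j : ℕ, v ^ (p ^ i * r ^ j) = 1}
        one_mem' := ⟨one_mem _, 0, 0, one_pow _⟩
        mul_mem' := fun {a b} ha hb => ⟨mul_mem ha.1 hb.1, by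
          obtain ⟨i, j, hi⟩ := ha.2
          obtain ⟨i', j', hi'⟩ := hb.2
          refine ⟨i + i', j + j', ?_⟩
          rw [(show Commute a b from mem_cen.mp (hDab a ha.1 hb.1)).mul_pow,
            show p ^ (i + i') * r ^ (j + j') = p ^ i * r ^ j * (p ^ i' * r ^ j') by ring, pow_mul, hi,
            one_pow, one_mul, mul_comm (p ^ i * r ^ j), pow_mul, hi', one_pow]⟩
        inv_mem' := fun {a} ha => ⟨inv_mem ha.1, by
          obtain ⟨i, j, hi⟩ := ha.2; exact ⟨i, j, by rw [inv_pow, hi, inv_one]⟩⟩ }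
    have hzV : z ∈ V := by
      obtain ⟨i, hi⟩ := hze
      exact ⟨mem_cen.mpr rfl, i, 0, by rw [pow_zero, mul_one, hi]⟩
    have hz₂V : z₂ ∈ V := by
      obtain ⟨i, hi⟩ := hz₂e
      exact ⟨hRD hz₂R, 0, i, by rw [pow_zero, one_mul, hi]⟩
    obtain ⟨gp, hgpP, hgpD⟩ : ∃ g ∈ (P : Subgroup G), g ∉ D := by
      by_contra! hall
      exact P.not_dvd_index (dvd_trans ((hzb ▸ hpm.mul_right n : p ∣ D.index)) (index_dvd_of_le hall))
    obtain ⟨gr, hgrN, hgrD, hgre⟩ := exists_normalizing hRp hRD hRc (by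
      have h1 := vv_cen_of_not_dvd hG (not_dvd_n hG hr hrm) hzZ
      have h2 := hr.factorization_pos_of_dvd (by have := hG.hm; omega) hrm
      rw [← hD] at h1
      omega)
    have hgrD' : gr ∈ normalizer (D : Set G) := by
      have hc : gr * z₂ * gr⁻¹ ∈ R := (mem_normalizer_iff.mp hgrN z₂).mp hz₂R
      refine cen_conj_eq hD2 (hDz₂ (hRD hc) (fun h => hz₂Z ?_) ?_)
      · have h2 := (Subgroup.Normal.conj_mem (H := center G) inferInstance _ h gr⁻¹)
        simpa [mul_assoc] using h2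
      · obtain ⟨i, hi⟩ := hRp ⟨_, hc⟩; exact ⟨i, congrArg Subtype.val hi⟩
    refine no_two_primes_in (p := p) (r := r) hrp (normalizer (D : Set G)) D V (center G) le_normalizer
      le_rfl (fun g hg b hb => ⟨(mem_normalizer_iff.mp hg b).mp hb.1, by
        obtain ⟨i, j, hi⟩ := hb.2; exact ⟨i, j, by rw [conj_pow, hi, mul_one, mul_inv_cancel]⟩⟩)
      (fun d hd b hb => mem_cen.mp (hDab d hd hb.1))
      (fun a ha b hb => mem_cen.mp (hDab a ha.1 hb.1))
      (fun g _ w hw => mem_center_iff.mp hw g) ?_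
      (hPD hgpP) hgpD (by obtain ⟨i, hi⟩ := P.2 ⟨gp, hgpP⟩; exact ⟨i, congrArg Subtype.val hi⟩)
      hgrD' hgrD hgre hzV hzZ hze hz₂V hz₂Z hz₂e
    intro g hg hgD b hb hgb
    refine Cfsg.Lib.Fusion.induction_parts b (Q := fun y => y ∈ center G)
      (fun y hy s k hs hk => ?_) (fun a _ c _ ha hc => mul_mem ha hc)
    by_contra hyZ
    obtain ⟨l, rfl⟩ := mem_zpowers_iff.mp hy
    obtain ⟨i, j, hij⟩ := hb.2
    have hk0 : k ≠ 0 := fun h0 => hyZ (by
      rw [h0, pow_zero, orderOf_eq_one_iff] at hk; rw [hk]; exact one_mem _)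
    have hsd : s ∣ p ^ i * r ^ j := by
      refine (dvd_pow_self s hk0).trans (hk ▸ orderOf_dvd_of_pow_eq_one ?_)
      rw [← zpow_natCast, ← zpow_mul, mul_comm, zpow_mul, zpow_natCast, hij, one_zpow]
    have hsm : s ∣ m := (hs.dvd_mul.mp hsd).elim
      (fun h => (Nat.prime_dvd_prime_iff_eq hs hpF.out).mp (hs.dvd_of_dvd_pow h) ▸ hpm)
      (fun h => (Nat.prime_dvd_prime_iff_eq hs hr).mp (hs.dvd_of_dvd_pow h) ▸ hrm)
    have hyD : b ^ l ∈ D := zpow_mem hb.1 l
    have := eq_cen_of_le_big hG hzb (hbig hs hsm hyZ ⟨k, hk ▸ pow_orderOf_eq_one _⟩) (hDab _ hyD)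
    exact hgD (hD ▸ this ▸ mem_cen.mpr ((show Commute g b from hgb).symm.zpow_left l).eq)
  have hmp : m = p := by
    have h := Nat.eq_prime_pow_of_unique_prime_dvd (n := m) (p := p)
      (by have := hG.hm; omega) fun {d} hd hdd => huniq d hd hdd
    rw [h]
    conv_rhs => rw [← pow_one p]
    congr 1
    rw [h, hpF.out.factorization_pow, Finsupp.single_eq_same] at hmp1
    exact hmp1
  -- every non-central `p`-element commutes with a small `q`-element
  have hcomm : ∀ t : G, t ∉ center G → PElt p t →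
      ∃ x' : G, (cen x').index = m ∧ PElt q x' ∧ t ∈ cen x' := by
    intro t ht hte
    have htb := hbig hpF.out hpm ht hte
    obtain ⟨u, hu, huZ, hue⟩ := exists_pelt (hqlt htb)
    rcases small_or_big hG huZ with hus | hub
    · exact ⟨u, hus, hue, mem_cen.mpr (mem_cen.mp hu).symm⟩
    have hut : cen u = cen t := eq_cen_of_le_big hG htb hub
      (big_le hG htb hu (pelt_coprime hpF.out hq hpq hte hue))
    obtain ⟨i, hi⟩ := hue
    obtain ⟨Q', hQ'⟩ := (IsPGroup.of_card_dvd_pow (p := q) (G := zpowers u) (n := i)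
      (by rw [Nat.card_zpowers]; exact orderOf_dvd_of_pow_eq_one hi)).exists_le_sylow
    obtain ⟨Q₁, hQ₁⟩ := Cfsg.Agent.S4354.exists_sylow_le (p := q) (H := cen x) (by rw [hx]; exact hqm)
    have hxQ₁ : x ∈ (Q₁ : Subgroup G) := by
      obtain ⟨j, hj⟩ := hxq
      have hz : IsPGroup q (zpowers x) := IsPGroup.of_card_dvd_pow (n := j)
        (by rw [Nat.card_zpowers]; exact orderOf_dvd_of_pow_eq_one hj)
      have hnorm : zpowers x ≤ normalizer ((Q₁ : Subgroup G) : Set G) := by
        rw [zpowers_le]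
        refine mem_normalizer_iff.mpr fun v => ⟨fun hv => ?_, fun hv => ?_⟩
        · rw [mem_cen.mp (hQ₁ hv), mul_inv_cancel_right]; exact hv
        · have hc : Commute x (x * v * x⁻¹) := mem_cen.mp (hQ₁ hv)
          have : v = x * v * x⁻¹ := by
            calc v = x⁻¹ * ((x * v * x⁻¹) * x) := by group
              _ = _ := by rw [← hc.eq]; group
          rw [this]; exact hv
      have := Q₁.is_maximal' (IsPGroup.to_sup_of_normal_left' Q₁.2 hz hnorm) le_sup_left
      exact this ▸ mem_sup_right (mem_zpowers x)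
    obtain ⟨g, hg⟩ := MulAction.exists_smul_eq G Q₁ Q'
    refine ⟨g * x * g⁻¹, (index_cen_conj g x).trans hx, ?_, ?_⟩
    · obtain ⟨j, hj⟩ := hxq; exact ⟨j, by rw [conj_pow, hj, mul_one, mul_inv_cancel]⟩
    · have hu' : u ∈ (Q' : Subgroup G) := hQ' (mem_zpowers u)
      rw [← hg, Sylow.coe_subgroup_smul] at hu'
      obtain ⟨v, hv, rfl⟩ := hu'
      have hvx := mem_cen.mp (hQ₁ hv)
      have h1 : g * x * g⁻¹ ∈ cen ((MulDistribMulAction.toMonoidEnd (MulAut G) G (MulAut.conj g)) v) := by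
        rw [mem_cen]
        show g * v * g⁻¹ * (g * x * g⁻¹) = g * x * g⁻¹ * (g * v * g⁻¹)
        calc g * v * g⁻¹ * (g * x * g⁻¹) = g * (v * x) * g⁻¹ := by group
          _ = _ := by rw [← hvx]; group
      exact mem_cen.mpr (mem_cen.mp (hut.le h1)).symm
  -- the maximal subgroups `P ⊓ core (cen x)` of `P`
  let Px : G → Subgroup G := fun s => (P : Subgroup G) ⊓ (cen s).normalCore
  have hPe : ∀ {t : G}, t ∈ (P : Subgroup G) → PElt p t := fun {t} ht => by
    obtain ⟨i, hi⟩ := P.2 ⟨t, ht⟩; exact ⟨i, congrArg Subtype.val hi⟩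
  have hmemPx : ∀ {s : G}, (cen s).index = m → ∀ {t : G}, t ∈ (P : Subgroup G) → t ∈ cen s →
      t ∈ Px s := fun {s} hs {t} ht htc =>
    ⟨ht, mem_normalCore_of_pelt (hs.trans hmp) htc (hPe ht)⟩
  have hPxle : ∀ s, Px s ≤ cen s := fun s => inf_le_right.trans (normalCore_le _)
  have hPxn : ∀ s, ∀ g ∈ (P : Subgroup G), ∀ t ∈ Px s, g * t * g⁻¹ ∈ Px s := fun s g hg t ht =>
    mem_inf.mpr ⟨(P : Subgroup G).mul_mem ((P : Subgroup G).mul_mem hg ht.1) ((P : Subgroup G).inv_mem hg),
      Subgroup.Normal.conj_mem (normalCore_normal _) t ht.2 g⟩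
  have hPxcard : ∀ {s : G}, (cen s).index = m → Nat.card (Px s) * p = Nat.card (P : Subgroup G) := by
    intro s hs
    have hrel : (Px s).relIndex (P : Subgroup G) = (cen s).normalCore.relIndex (P : Subgroup G) :=
      inf_relIndex_left _ _
    have hd1 : (cen s).normalCore.relIndex (P : Subgroup G) ∣ p.factorial := by
      refine (relIndex_dvd_index_of_normal _ _).trans ?_
      rw [normalCore_eq_ker, index_ker]
      refine (card_subgroup_dvd_card _).trans ?_
      rw [Nat.card_perm, ← index_eq_card, hs, hmp]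
    have hd2 : (cen s).normalCore.relIndex (P : Subgroup G) ∣ p ^ (Nat.card G).factorization p :=
      hPcard ▸ relIndex_dvd_card _ _
    obtain ⟨e, -, he⟩ := (Nat.dvd_prime_pow hpF.out).mp hd2
    have hmul : Nat.card (Px s) * (Px s).relIndex (P : Subgroup G) = Nat.card (P : Subgroup G) :=
      card_mul_rel inf_le_left
    rw [hrel, he] at hmul
    suffices e = 1 by rw [this, pow_one] at hmul; exact hmul
    rcases Nat.lt_or_ge e 2 with h2 | h2
    · interval_cases e
      · exfalso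
        rw [pow_zero, mul_one] at hmul
        have hle : (P : Subgroup G) ≤ cen s := fun t ht => hPxle s
          ((eq_of_le_of_card_ge inf_le_left hmul.ge : Px s = (P : Subgroup G)).symm ▸ ht)
        exact P.not_dvd_index (dvd_trans (hs ▸ hpm) (index_dvd_of_le hle))
      · rfl
    · exfalso
      have h3 : p ^ 2 ∣ p.factorial := (pow_dvd_pow p h2).trans (he ▸ hd1)
      obtain ⟨p', hp'⟩ : ∃ a, p = a + 1 := ⟨p - 1, by have := hpF.out.pos; omega⟩
      rw [hp', Nat.factorial_succ, ← hp', pow_two] at h3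
      have := (hpF.out.dvd_factorial).mp ((Nat.mul_dvd_mul_iff_left hpF.out.pos).mp h3)
      omega
  have hCP : ∀ {c : G}, (∀ t ∈ (P : Subgroup G), t * c = c * t) → c ∈ center G := fun {c} hc => by
    by_contra hcZ
    refine P.not_dvd_index (dvd_trans ?_ (index_dvd_of_le (K := cen c)
      fun t ht => mem_cen.mpr (hc t ht).symm))
    rcases small_or_big hG hcZ with h | h <;> rw [h]
    · exact hpm
    · exact hpm.mul_right n
  -- two small `q`-elements with different maximal subgroups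
  obtain ⟨x₁, hx₁, hx₁q⟩ : ∃ x₁ : G, (cen x₁).index = m ∧ PElt q x₁ := ⟨x, hx, hxq⟩
  obtain ⟨t, htP, ht1⟩ : ∃ t ∈ (P : Subgroup G), t ∉ Px x₁ := by
    by_contra! hall
    exact P.not_dvd_index (dvd_trans (hx₁ ▸ hpm) (index_dvd_of_le (fun u hu => hPxle _ (hall u hu))))
  have htZ : t ∉ center G := fun h => ht1 (hmemPx hx₁ htP (center_le_cen _ h))
  obtain ⟨x₂, hx₂, hx₂q, htx₂⟩ := hcomm t htZ (hPe htP)
  have ht2 : t ∈ Px x₂ := hmemPx hx₂ htP htx₂
  have hmax : ∀ {s s' : G}, (cen s).index = m → (cen s').index = m → Px s ≤ Px s' → Px s = Px s' :=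
    fun {s s'} hs hs' hle => eq_of_le_of_card_ge hle (by
      have := (hPxcard hs).trans (hPxcard hs').symm
      exact (Nat.eq_of_mul_eq_mul_right hpF.out.pos this).ge)
  obtain ⟨w, hw1, hw2⟩ : ∃ w ∈ Px x₁, w ∉ Px x₂ := by
    by_contra! hall
    exact ht1 ((hmax hx₁ hx₂ hall).symm ▸ ht2)
  -- the two small elements commute
  have hx12 : x₁ ∈ cen x₂ := by
    set C₂ := cen x₂
    haveI := Fintype.ofFinite (G ⧸ C₂)
    haveI : Fact q.Prime := ⟨hq⟩
    have hz : IsPGroup q (zpowers x₁) := by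
      obtain ⟨j, hj⟩ := hx₁q
      exact IsPGroup.of_card_dvd_pow (n := j) (by
        rw [Nat.card_zpowers]; exact orderOf_dvd_of_pow_eq_one hj)
    obtain ⟨c, hc⟩ := hz.nonempty_fixed_point_of_prime_not_dvd_card (G ⧸ C₂) (by
      rw [← index_eq_card, hx₂]; exact hqm)
    have hcw : ∀ l : ℕ, x₁ • (w ^ l • c) = w ^ l • c := fun l => by
      have h1 : Commute x₁ (w ^ l) := (show Commute x₁ w from mem_cen.mp (hPxle _ hw1)).pow_right l
      rw [← mul_smul, h1.eq, mul_smul]
      exact congrArg _ (hc ⟨x₁, mem_zpowers x₁⟩)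
    have hall : ∀ d : G ⧸ C₂, x₁ • d = d := by
      -- the orbit of `c` under `w` is everything
      have hinj : Function.Injective fun l : Fin p => w ^ (l : ℕ) • c := by
        intro a b hab
        by_contra hne
        obtain ⟨d, hd0, hdp, hd⟩ : ∃ d : ℕ, 0 < d ∧ d < p ∧ w ^ d • c = c := by
          have key : ∀ a b : ℕ, a < b → b < p → w ^ a • c = w ^ b • c →
              ∃ d : ℕ, 0 < d ∧ d < p ∧ w ^ d • c = c := fun a b hab hbp he =>
            ⟨b - a, by omega, by omega, by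
              apply MulAction.injective (w ^ a)
              show w ^ a • w ^ (b - a) • c = w ^ a • c
              rw [← mul_smul, ← pow_add, show a + (b - a) = b by omega, he]⟩
          rcases Nat.lt_or_ge a b with h | h
          · exact key a b h b.2 hab
          · exact key b a (lt_of_le_of_ne h fun e => hne (Fin.ext e.symm)) a.2 hab.symm
        obtain ⟨g, rfl⟩ := QuotientGroup.mk_surjective c
        obtain ⟨i, hi⟩ := hPe hw1.1
        obtain ⟨j, hj⟩ := exists_pow_eq_self_of_coprime (x := w) (n := d) (by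
          refine (((Nat.Prime.coprime_iff_not_dvd hpF.out).mpr fun h =>
            absurd (Nat.le_of_dvd hd0 h) (by omega)).pow_left i).symm.coprime_dvd_right ?_
          exact orderOf_dvd_of_pow_eq_one hi)
        have hwc : w • ((g : G) : G ⧸ C₂) = g := by
          have : ∀ k : ℕ, (w ^ d) ^ k • ((g : G) : G ⧸ C₂) = g := fun k => by
            induction k with
            | zero => simp
            | succ k ih => rw [pow_succ, mul_smul, hd, ih]
          have := this j
          rwa [hj] at this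
        rw [MulAction.Quotient.smul_coe, smul_eq_mul, QuotientGroup.eq] at hwc
        have hgw : g⁻¹ * w * g ∈ C₂ := by
          have := inv_mem hwc
          simpa [mul_assoc] using this
        have hN2 := mem_normalCore_of_pelt (hx₂.trans hmp) hgw ⟨i, by
          rw [show g⁻¹ * w * g = g⁻¹ * w * (g⁻¹)⁻¹ by group, conj_pow, hi, mul_one,
            mul_inv_cancel]⟩
        have hwN := Subgroup.Normal.conj_mem (normalCore_normal _) _ hN2 g
        exact hw2 ⟨hw1.1, by simpa [mul_assoc] using hwN⟩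
      have hbij := (Fintype.bijective_iff_injective_and_card _).mpr ⟨hinj, by
        rw [Fintype.card_fin, ← Nat.card_eq_fintype_card, ← index_eq_card, hx₂, hmp]⟩
      intro d
      obtain ⟨l, rfl⟩ := hbij.2 d
      exact hcw l
    have := hall ((1 : G) : G ⧸ C₂)
    rw [MulAction.Quotient.smul_coe, smul_eq_mul, mul_one, QuotientGroup.eq, mul_one] at this
    exact inv_mem_iff.mp this
  have hc12 : Commute x₁ x₂ := (mem_cen.mp hx12).symm
  set x₃ := x₁ * x₂ with hx₃def
  have hne12 : ∀ v : G, v ∈ Px x₁ → v ∈ cen x₂ → v ∈ Px x₂ := fun v hv hv2 => hmemPx hx₂ hv.1 hv2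
  have hx₃Z : x₃ ∉ center G := fun h => hw2 (hne12 w hw1 (by
    rw [mem_cen]
    have h1 := (mem_center_iff.mp h w)
    have h2 : Commute x₁ w := mem_cen.mp (hPxle _ hw1)
    refine mul_left_cancel (a := x₁) ?_
    rw [← mul_assoc, ← hx₃def, ← h1, hx₃def, ← mul_assoc, ← h2.eq, mul_assoc]))
  have hx₃ : (cen x₃).index = m := by
    set L := cen x₁ ⊓ cen x₂
    have hLle : L ≤ cen x₃ := fun v hv => mem_cen.mpr
      ((show Commute x₁ v from mem_cen.mp hv.1).mul_left (mem_cen.mp hv.2)).eq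
    have hLidx : L.index ≤ p * p := by
      have := index_inf_le (H := cen x₁) (K := cen x₂)
      rwa [hx₁, hx₂, hmp] at this
    have hLp : p * p ∣ L.index := by
      obtain ⟨R, hRL, hR, hRc⟩ := exists_sylow_in (r := p) L
      obtain ⟨P', hP'⟩ := hR.exists_le_sylow
      obtain ⟨g, hg⟩ := MulAction.exists_smul_eq G P' P
      have hsub : R.map (MulAut.conj g).toMonoidHom ≤ Px x₁ ⊓ Px x₂ := by
        rintro _ ⟨v, hv, rfl⟩
        have hvP : g * v * g⁻¹ ∈ (P : Subgroup G) := by
          rw [← hg, Sylow.coe_subgroup_smul]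
          exact ⟨v, hP' hv, rfl⟩
        obtain ⟨i, hi⟩ := hR ⟨v, hv⟩
        have hvi : PElt p v := ⟨i, congrArg Subtype.val hi⟩
        exact ⟨⟨hvP, Subgroup.Normal.conj_mem (normalCore_normal _) v
            (mem_normalCore_of_pelt (hx₁.trans hmp) (hRL hv).1 hvi) g⟩,
          ⟨hvP, Subgroup.Normal.conj_mem (normalCore_normal _) v
            (mem_normalCore_of_pelt (hx₂.trans hmp) (hRL hv).2 hvi) g⟩⟩
      have h1 : Nat.card R ∣ Nat.card (Px x₁ ⊓ Px x₂ : Subgroup G) := by
        rw [← Subgroup.card_map_of_injective (f := (MulAut.conj g).toMonoidHom)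
          (MulAut.conj g).injective]
        exact card_dvd_of_le hsub
      have h2 : Nat.card (Px x₁ ⊓ Px x₂ : Subgroup G) < Nat.card (Px x₁) := by
        refine lt_of_le_of_ne (Nat.le_of_dvd Nat.card_pos (card_dvd_of_le inf_le_left)) fun h => hw2 ?_
        exact ((eq_of_le_of_card_ge inf_le_left h.ge).symm ▸ hw1 : w ∈ Px x₁ ⊓ Px x₂).2
      have h3 : p ^ vv p L * p < p ^ (Nat.card G).factorization p := by
        rw [← hRc, ← hPcard, ← hPxcard hx₁]
        exact Nat.mul_lt_mul_of_pos_right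
          ((Nat.le_of_dvd Nat.card_pos h1).trans_lt h2) hpF.out.pos
      rw [← pow_succ] at h3
      have h4 := (Nat.pow_lt_pow_iff_right hpF.out.one_lt).mp h3
      have h5 := vv_add_index p L
      rw [← pow_two]
      exact (pow_dvd_pow p (show 2 ≤ L.index.factorization p by omega)).trans (Nat.ordProj_dvd _ _)
    have hLeq : L.index = p * p := le_antisymm hLidx
      (Nat.le_of_dvd (Nat.pos_of_ne_zero index_ne_zero_of_finite) hLp)
    refine dvd_small hG hx₃Z ?_
    have hd : (cen x₃).index ∣ p * p := hLeq ▸ index_dvd_of_le hLle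
    rcases small_or_big hG hx₃Z with h | h
    · rw [h]
    · exfalso
      rw [h, hmp] at hd
      have h2 := Nat.dvd_of_mul_dvd_mul_left hpF.out.pos hd
      rcases (Nat.dvd_prime hpF.out).mp h2 with h3 | h3
      · exact hG.hn.ne' h3
      · exact hpn (h3 ▸ dvd_refl p)
  obtain ⟨w₃, hw3, hw31⟩ : ∃ v ∈ Px x₃, v ∉ Px x₁ := by
    by_contra! hall
    have heq := hmax hx₃ hx₁ hall
    refine hw2 (hne12 w hw1 ?_)
    have h3 : Commute x₃ w := mem_cen.mp (hPxle _ (heq.symm ▸ hw1))
    have h1 : Commute x₁ w := mem_cen.mp (hPxle _ hw1)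
    rw [mem_cen]
    have : Commute (x₁⁻¹ * x₃) w := h1.inv_left.mul_left h3
    rwa [hx₃def, inv_mul_cancel_left] at this
  set c := x₁⁻¹ * (w₃ * x₁ * w₃⁻¹) with hcdef
  have h3c : Commute x₃ w₃ := mem_cen.mp (hPxle _ hw3)
  have hcc : c = x₂ * (w₃ * x₂ * w₃⁻¹)⁻¹ := by
    have h1 : w₃ * x₁ * w₃⁻¹ * (w₃ * x₂ * w₃⁻¹) = x₁ * x₂ := by
      rw [← hx₃def]
      calc w₃ * x₁ * w₃⁻¹ * (w₃ * x₂ * w₃⁻¹) = w₃ * x₃ * w₃⁻¹ := by rw [hx₃def]; group
        _ = x₃ := by rw [← h3c.eq, mul_inv_cancel_right]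
    calc c = x₁⁻¹ * (w₃ * x₁ * w₃⁻¹ * (w₃ * x₂ * w₃⁻¹)) * (w₃ * x₂ * w₃⁻¹)⁻¹ := by
          rw [hcdef]; group
      _ = _ := by rw [h1]; group
  have hconj : ∀ s : G, ∀ v ∈ Px s, Commute v (w₃ * s * w₃⁻¹) := by
    intro s v hv
    have h1 : Commute s (w₃⁻¹ * v * (w₃⁻¹)⁻¹) :=
      mem_cen.mp (hPxle s (hPxn s _ (inv_mem hw3.1) v hv))
    show v * (w₃ * s * w₃⁻¹) = w₃ * s * w₃⁻¹ * v
    calc v * (w₃ * s * w₃⁻¹) = w₃ * (w₃⁻¹ * v * (w₃⁻¹)⁻¹ * s) * w₃⁻¹ := by group
      _ = _ := by rw [← h1.eq]; group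
  have hcZ : c ∈ center G := by
    refine hCP fun v hv => ?_
    have hsup : Px x₁ ⊔ Px x₂ = (P : Subgroup G) := by
      refine eq_of_le_of_card_ge (sup_le inf_le_left inf_le_left) ?_
      obtain ⟨i, hi⟩ := IsPGroup.iff_card.mp (P.2.to_le
        (sup_le inf_le_left inf_le_left : Px x₁ ⊔ Px x₂ ≤ (P : Subgroup G)))
      have h1 : Nat.card (Px x₁) < p ^ i := by
        rw [← hi]
        refine lt_of_le_of_ne (Nat.le_of_dvd Nat.card_pos (card_dvd_of_le le_sup_left)) fun h => ht1 ?_
        have := eq_of_le_of_card_ge (le_sup_left : Px x₁ ≤ Px x₁ ⊔ Px x₂) h.ge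
        exact this.symm ▸ mem_sup_right ht2
      have h2 := hPxcard hx₁
      obtain ⟨k, hk⟩ := IsPGroup.iff_card.mp (P.2.to_le (inf_le_left : Px x₁ ≤ (P : Subgroup G)))
      rw [hk] at h1 h2
      rw [hi, ← h2, ← pow_succ]
      exact Nat.pow_le_pow_right hpF.out.pos ((Nat.pow_lt_pow_iff_right hpF.out.one_lt).mp h1)
    have hP1 : Px x₁ ≤ cen c := fun u hu => by
      rw [mem_cen, hcdef]
      exact ((show Commute u x₁ from (mem_cen.mp (hPxle _ hu)).symm).inv_right.mul_right
        (hconj x₁ u hu)).eq.symm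
    have hP2 : Px x₂ ≤ cen c := fun u hu => by
      rw [mem_cen, hcc]
      exact ((show Commute u x₂ from (mem_cen.mp (hPxle _ hu)).symm).mul_right
        (hconj x₂ u hu).inv_right).eq.symm
    exact (mem_cen.mp ((sup_le hP1 hP2 : Px x₁ ⊔ Px x₂ ≤ cen c) (hsup.symm ▸ hv))).symm
  have hcx : w₃ * x₁ * w₃⁻¹ = c * x₁ := by
    rw [← mem_center_iff.mp hcZ x₁, hcdef, mul_inv_cancel_left]
  obtain ⟨i, hi⟩ := hPe hw3.1
  obtain ⟨j, hj⟩ := hx₁q
  have h1 := shift_pow hcZ hcx (p ^ i)
  rw [hi, one_mul, inv_one, mul_one, right_eq_mul] at h1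
  have h2 : c ^ q ^ j = 1 := by
    have h3 := congrArg (· ^ q ^ j) hcx
    simp only [conj_pow, hj, mul_one, mul_inv_cancel] at h3
    rw [(show Commute c x₁ from (mem_center_iff.mp hcZ x₁).symm).mul_pow, hj, mul_one] at h3
    exact h3.symm
  have hc1 : c = 1 := orderOf_eq_one_iff.mp (Nat.eq_one_of_dvd_coprimes
    (((Nat.coprime_primes hpF.out hq).mpr hpq).pow i j) (orderOf_dvd_of_pow_eq_one h1)
    (orderOf_dvd_of_pow_eq_one h2))
  rw [hc1, one_mul, mul_inv_eq_iff_eq_mul] at hcx
  exact hw31 (hmemPx hx₁ hw3.1 (mem_cen.mpr hcx.symm))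

/-! ### The structure when a small element has order a power of a prime dividing `m` -/

/-- If `Q` carries the whole `q`-part of `K` and `L` has `q`-power index in `K`, then `K = Q * L`. -/
theorem exists_decomp {q : ℕ} [hq : Fact q.Prime] {K L Q : Subgroup G} (hL : L ≤ K) (hQ : Q ≤ K)
    (hQc : Nat.card Q = q ^ vv q K) (hv : ∀ r : ℕ, r.Prime → r ≠ q → vv r L = vv r K) {c : G}
    (hc : c ∈ K) : ∃ k ∈ Q, ∃ l ∈ L, c = k * l := by
  classical
  set L' := L.subgroupOf K with hL'
  set Q' := Q.subgroupOf K with hQ'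
  have hLc : Nat.card L' = Nat.card L := Nat.card_congr (subgroupOfEquivOfLe hL).toEquiv
  have hQc' : Nat.card Q' = q ^ vv q K := (Nat.card_congr (subgroupOfEquivOfLe hQ).toEquiv).trans hQc
  have hidx : L'.index = q ^ (vv q K - vv q L) := by
    refine Nat.eq_of_factorization_eq L'.index_ne_zero_of_finite (pow_ne_zero _ hq.out.ne_zero)
      fun r => ?_
    have h1 := L'.card_mul_index
    rw [hLc] at h1
    have h2 := congrArg (fun z => z.factorization r) h1
    simp only [Nat.factorization_mul Nat.card_pos.ne' L'.index_ne_zero_of_finite, Finsupp.add_apply] at h2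
    rw [hq.out.factorization_pow]
    by_cases hr : r.Prime
    · by_cases hrq : r = q
      · subst hrq
        rw [Finsupp.single_eq_same]
        simp only [vv]; omega
      · rw [Finsupp.single_eq_of_ne hrq]
        have := hv r hr hrq
        simp only [vv] at this
        omega
    · rw [Nat.factorization_eq_zero_of_not_prime _ hr, Finsupp.single_eq_of_ne]
      exact fun h => hr (h ▸ hq.out)
  -- the orbit of the trivial coset under `Q'` is everything
  set b : K ⧸ L' := ((1 : K) : K ⧸ L') with hb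
  have horb : (MulAction.orbit Q' b).ncard = (MulAction.stabilizer Q' b).index :=
    (MulAction.index_stabilizer Q' b).symm
  have hstab : Nat.card (MulAction.stabilizer Q' b) ≤ q ^ vv q L := by
    have hQp : IsPGroup q Q' := IsPGroup.of_card hQc'
    obtain ⟨i, hi⟩ := IsPGroup.iff_card.mp (hQp.to_subgroup (MulAction.stabilizer Q' b))
    rw [hi]
    refine Nat.pow_le_pow_right hq.out.pos ?_
    have hle : ((MulAction.stabilizer Q' b).map Q'.subtype).map K.subtype ≤ L := by
      rintro _ ⟨u, ⟨w, hw, rfl⟩, rfl⟩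
      have h1 : (w : K) • b = b := hw
      rw [hb, MulAction.Quotient.smul_coe, smul_eq_mul, mul_one, QuotientGroup.eq, mul_one] at h1
      exact mem_subgroupOf.mp (inv_mem_iff.mp h1)
    have h2 := vv_mono (r := q) hle
    simp only [vv] at h2
    rw [Subgroup.card_map_of_injective K.subtype_injective,
      Subgroup.card_map_of_injective Q'.subtype_injective, hi, hq.out.factorization_pow,
      Finsupp.single_eq_same] at h2
    exact h2
  have hle : Nat.card (K ⧸ L') ≤ (MulAction.orbit Q' b).ncard := by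
    rw [horb, ← index_eq_card, hidx]
    have h1 := (MulAction.stabilizer Q' b).card_mul_index
    rw [hQc'] at h1
    have h3 : vv q L ≤ vv q K := vv_mono hL
    by_contra hlt
    rw [not_le] at hlt
    have := Nat.mul_lt_mul_of_le_of_lt hstab hlt (pow_pos hq.out.pos _)
    rw [h1, ← pow_add, show vv q L + (vv q K - vv q L) = vv q K by omega] at this
    exact lt_irrefl _ this
  have huniv : MulAction.orbit Q' b = Set.univ :=
    Set.eq_of_subset_of_ncard_le (Set.subset_univ _) (by rwa [Set.ncard_univ]) Set.finite_univ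
  obtain ⟨k, hk⟩ : ((⟨c, hc⟩ : K) : K ⧸ L') ∈ MulAction.orbit Q' b := huniv ▸ Set.mem_univ _
  have h1 : (k : K) • b = ((⟨c, hc⟩ : K) : K ⧸ L') := hk
  rw [hb, MulAction.Quotient.smul_coe, smul_eq_mul, mul_one, QuotientGroup.eq] at h1
  exact ⟨((k : K) : G), mem_subgroupOf.mp k.2, _, mem_subgroupOf.mp h1, by simp⟩

/-- Two subgroups of `K` of the order of a Sylow subgroup are conjugate in `K`. -/
theorem exists_conj_of_card {r : ℕ} [Fact r.Prime] {R R₁ K : Subgroup G} (hR : R ≤ K) (hR₁ : R₁ ≤ K)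
    (hRc : Nat.card R = r ^ vv r K) (hR₁c : Nat.card R₁ = r ^ vv r K) :
    ∃ c ∈ K, ∀ u, u ∈ R → c * u * c⁻¹ ∈ R₁ := by
  obtain ⟨c, hc⟩ := MulAction.exists_smul_eq K
    (Sylow.ofCard (R.subgroupOf K) ((Nat.card_congr (subgroupOfEquivOfLe hR).toEquiv).trans hRc))
    (Sylow.ofCard (R₁.subgroupOf K) ((Nat.card_congr (subgroupOfEquivOfLe hR₁).toEquiv).trans hR₁c))
  refine ⟨c, c.2, fun u hu => ?_⟩
  have h1 : (c * ⟨u, hR hu⟩ * c⁻¹ : K) ∈
      ((c • Sylow.ofCard (R.subgroupOf K)
        ((Nat.card_congr (subgroupOfEquivOfLe hR).toEquiv).trans hRc) : Sylow r K) : Subgroup K) :=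
    ⟨⟨u, hR hu⟩, mem_subgroupOf.mpr hu, rfl⟩
  rw [hc] at h1
  exact mem_subgroupOf.mp h1

variable {p : ℕ} [hpF : Fact p.Prime]

include hG in
/-- The centraliser of a small `p`-element and a commuting element of coprime order. -/
theorem full_le {x : G} (hx : (cen x).index = m) {y : G} (hy : y ∈ cen x)
    (hco : (orderOf x).Coprime (orderOf y)) :
    cen x ≤ cen y ∨ ((cen (x * y)).index = m * n ∧ cen (x * y) = cen x ⊓ cen y) := by
  have heq := cen_mul (mem_cen.mp hy : Commute x y) hco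
  by_cases hle : cen x ≤ cen y
  · exact Or.inl hle
  refine Or.inr ⟨?_, heq⟩
  have hd : m ∣ (cen (x * y)).index := hx ▸ index_dvd_of_le (heq.le.trans inf_le_left)
  rcases hG.hidx (x * y) with h | h | h
  · exact absurd (Nat.dvd_one.mp (h ▸ hd)) hG.hm.ne'
  · refine absurd ?_ hle
    have h2 := (cen (x * y)).card_mul_index
    have h3 := (cen x).card_mul_index
    rw [h, ← h3, hx] at h2
    have h4 : cen (x * y) = cen x := eq_of_le_of_card_ge (heq.le.trans inf_le_left)
      (Nat.eq_of_mul_eq_mul_right (by have := hG.hm; omega) h2).ge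
    exact h4 ▸ (heq.le.trans inf_le_right)
  · exact h

include hG in
theorem le_of_full {x : G} (hx : (cen x).index = m) {y : G} (hy : y ∈ cen x)
    (hco : (orderOf x).Coprime (orderOf y)) {r : ℕ} (hr : r.Prime) (hrn : r ∣ n)
    (hfull : (Nat.card G).factorization r ≤ vv r (cen x ⊓ cen y)) : cen x ≤ cen y := by
  refine (full_le hG hx hy hco).resolve_right fun h => ?_
  have h1 := vv_big hG (not_dvd_m hG hr hrn) h.1
  rw [h.2] at h1
  have h2 := hr.factorization_pos_of_dvd (by have := hG.hn; omega) hrn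
  omega

include hG in
/-- In `cen x` the part at some prime `q ∣ n` is a normal Sylow subgroup centralised by all elements of
order prime to `q`; either it is the only prime of `n` or all `q`-elements are central in `cen x`. -/
theorem exists_normal_part (hpm : p ∣ m) {x : G} (hx : (cen x).index = m) (hxp : PElt p x) :
    ∀ q : ℕ, q.Prime → q ∣ n → ∃ Q : Subgroup G, Q ≤ cen x ∧ IsPGroup q Q ∧
      Nat.card Q = q ^ (Nat.card G).factorization q ∧
      (∀ u ∈ cen x, PElt q u → u ∈ Q) ∧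
      (∀ v ∈ cen x, (orderOf v).Coprime q → Q ≤ cen v) := by
  classical
  intro q hq hqn
  haveI : Fact q.Prime := ⟨hq⟩
  set C := cen x with hC
  have hqp : ∀ {r : ℕ}, r.Prime → r ∣ n → r ≠ p := fun hr hrn h => not_dvd_n hG hpF.out hpm (h ▸ hrn)
  have hcox : ∀ {r : ℕ}, r.Prime → r ≠ p → ∀ {y : G}, PElt r y → (orderOf x).Coprime (orderOf y) :=
    fun hr hne _ hy => pelt_coprime hpF.out hr hne.symm hxp hy
  have hxZ := not_central_of_eq hG (Or.inl hx)
  have hvC : ∀ {r : ℕ}, r.Prime → r ∣ n → vv r C = (Nat.card G).factorization r := fun hr hrn =>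
    vv_small hG (not_dvd_m hG hr hrn) hx
  -- the Sylow subgroups of other primes centralise all `q`-elements
  suffices hmain : ∀ u ∈ C, PElt q u → ∀ v ∈ C, (orderOf v).Coprime q → v ∈ cen u by
    obtain ⟨Q, hQC, hQ, hQc⟩ := exists_sylow_in (r := q) C
    rw [hvC hq hqn] at hQc
    have hQe : ∀ u ∈ Q, PElt q u := fun u hu => by
      obtain ⟨i, hi⟩ := hQ ⟨u, hu⟩; exact ⟨i, congrArg Subtype.val hi⟩
    have hcomm : ∀ v ∈ C, (orderOf v).Coprime q → Q ≤ cen v := fun v hv hvq u hu =>
      mem_cen.mpr (mem_cen.mp (hmain u (hQC hu) (hQe u hu) v hv hvq)).symm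
    refine ⟨Q, hQC, hQ, hQc, fun u hu hue => ?_, hcomm⟩
    -- `Q` is normalised by `C`
    have hN : ∀ v ∈ C, v ∈ normalizer (Q : Set G) := by
      intro v hv
      refine Cfsg.Lib.Fusion.induction_parts v (Q := fun y => y ∈ normalizer (Q : Set G))
        (fun y hy r k hr hk => ?_) (fun a _ b _ ha hb => mul_mem ha hb)
      have hyC : y ∈ C := zpowers_le.mpr hv hy
      by_cases hrq : r = q
      · -- an element of `Q`-type: it lies in a Sylow subgroup `Q'` which centralises `R`
        have hsplit : ∀ c ∈ C, ∃ a ∈ Q, ∃ b ∈ C ⊓ normalizer (Q : Set G), c = a * b := fun c hc =>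
          exists_decomp inf_le_left hQC (by rw [hQc, hvC hq hqn]) (fun s hs hsq => by
            haveI : Fact s.Prime := ⟨hs⟩
            refine le_antisymm (vv_mono inf_le_left) ?_
            obtain ⟨R, hRC, hR, hRc⟩ := exists_sylow_in (r := s) C
            have hRn : R ≤ C ⊓ normalizer (Q : Set G) := fun w hw => by
              refine ⟨hRC hw, centralizer_le_normalizer _ (mem_centralizer_iff.mpr fun a ha => ?_)⟩
              obtain ⟨i, hi⟩ := hR ⟨w, hw⟩
              exact (mem_cen.mp (hcomm w (hRC hw) (((Nat.coprime_primes hs hq).mpr hsq).pow_left i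
                |>.coprime_dvd_left (orderOf_dvd_of_pow_eq_one (congrArg Subtype.val hi))) ha)).symm
            have := vv_mono (r := s) hRn
            rwa [vv, hRc, hs.factorization_pow, Finsupp.single_eq_same] at this) hc
        obtain ⟨a, ha, b, hb, rfl⟩ := hsplit y hyC
        exact mul_mem (le_normalizer ha) hb.2
      · refine centralizer_le_normalizer _ (mem_centralizer_iff.mpr fun a ha => ?_)
        exact (mem_cen.mp (hcomm y hyC ((by rw [hk]; exact ((Nat.coprime_primes hr hq).mpr hrq).pow_left k))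
          ha)).symm
    exact mem_of_vv hQC (normal_subgroupOf_of_le_normalizer hN)
      (by rw [hvC hq hqn, vv, hQc, hq.factorization_pow, Finsupp.single_eq_same]) hu hue
  intro u₁ hu₁ hu₁e
  by_cases hab : ∀ y ∈ C, PElt q y → C ≤ cen y
  · exact fun v hv _ => hab u₁ hu₁ hu₁e hv
  push_neg at hab
  obtain ⟨y₀, hy₀C, hy₀e, hy₀n⟩ := hab
  obtain ⟨hy₀b, hy₀eq⟩ := (full_le hG hx hy₀C (hcox hq (hqp hq hqn) hy₀e)).resolve_left hy₀n
  -- no other prime divides `n`
  have hn1 : ∀ q₂ : ℕ, q₂.Prime → q₂ ∣ n → q₂ = q := by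
    intro q₂ hq₂ hq₂n
    by_contra hne
    haveI : Fact q₂.Prime := ⟨hq₂⟩
    -- a non-central `q₂`-element `h`, and a non-central `q`-element in its centraliser
    obtain ⟨h, hhC, hhe, hhn⟩ : ∃ h ∈ C, PElt q₂ h ∧ ¬ C ≤ cen h := by
      by_contra hall
      push_neg at hall
      obtain ⟨R, hRC, hR, hRc⟩ := exists_sylow_in (r := q₂) C
      refine hy₀n (le_of_full hG hx hy₀C (hcox hq (hqp hq hqn) hy₀e) hq₂ hq₂n ?_)
      have hle : R ≤ C ⊓ cen y₀ := fun w hw => ⟨hRC hw, by
        obtain ⟨i, hi⟩ := hR ⟨w, hw⟩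
        exact mem_cen.mpr (mem_cen.mp (hall w (hRC hw) ⟨i, congrArg Subtype.val hi⟩ hy₀C)).symm⟩
      have := vv_mono (r := q₂) hle
      rwa [vv, hRc, hq₂.factorization_pow, Finsupp.single_eq_same, hvC hq₂ hq₂n] at this
    obtain ⟨hhb, hheq⟩ := (full_le hG hx hhC (hcox hq₂ (hqp hq₂ hq₂n) hhe)).resolve_left hhn
    set D := cen (x * h) with hD
    have hDC : D ≤ C := hheq.le.trans inf_le_left
    set Wc := (centralizer (C : Set G)) with hWc
    -- `q`-elements central in `C`
    obtain ⟨y, hyD, hye, hyn⟩ : ∃ y ∈ D, PElt q y ∧ ¬ C ≤ cen y := by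
      by_contra hall
      push_neg at hall
      let Zq : Subgroup G := cen (x * y₀) ⊓ Wc
      have h1 : vv q D ≤ vv q Zq := by
        obtain ⟨R, hRD, hR, hRc⟩ := exists_sylow_in (r := q) D
        have hle : R ≤ Zq := fun w hw => by
          obtain ⟨i, hi⟩ := hR ⟨w, hw⟩
          have h2 := hall w (hRD hw) ⟨i, congrArg Subtype.val hi⟩
          have h3 : w ∈ Wc := mem_centralizer_iff.mpr fun c hc => (mem_cen.mp (h2 hc)).symm
          refine ⟨?_, h3⟩
          rw [hy₀eq]
          exact ⟨hDC (hRD hw), mem_cen.mpr (mem_cen.mp (h2 hy₀C)).symm⟩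
        have := vv_mono (r := q) hle
        rwa [vv, hRc, hq.factorization_pow, Finsupp.single_eq_same] at this
      have h2 := vv_big hG (not_dvd_m hG hq hqn) hhb
      have h3 := vv_big hG (not_dvd_m hG hq hqn) hy₀b
      have hn' : (Zq.subgroupOf (cen (x * y₀))).Normal := by
        refine ⟨fun z hz g => ?_⟩
        rw [show g * z = z * g from Subtype.ext (mem_centralizer_iff.mp (mem_subgroupOf.mp hz).2 g
          ((hy₀eq ▸ g.2 : (g : G) ∈ C ⊓ cen y₀).1)), mul_inv_cancel_right]
        exact hz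
      have h4 := mem_of_vv (u := y₀) inf_le_left hn' (by rw [← hD] at h2; simp only [Zq] at h1 ⊢; omega)
        (hy₀eq ▸ ⟨hy₀C, mem_cen.mpr rfl⟩) hy₀e
      exact hy₀n fun c hc => mem_cen.mpr (mem_centralizer_iff.mp h4.2 c hc).symm
    have hyC : y ∈ C := hDC hyD
    obtain ⟨hyb, hyeq⟩ := (full_le hG hx hyC (hcox hq (hqp hq hqn) hye)).resolve_left hyn
    have hhy : (orderOf (x * h)).Coprime (orderOf y) := by
      refine Nat.Coprime.coprime_dvd_left (Commute.orderOf_mul_dvd_mul_orderOf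
        (mem_cen.mp hhC : Commute x h)) ?_
      exact Nat.Coprime.mul_left (hcox hq (hqp hq hqn) hye) (pelt_coprime hq₂ hq hne hhe hye)
    have hDy : cen (x * y) = D := by
      refine eq_cen_of_le_big hG hhb hyb ?_
      rw [hyeq]
      exact le_inf hDC (big_le hG hhb hyD hhy)
    have hcentral : ∀ v ∈ D, ∀ s : ℕ, s.Prime → s ≠ p → PElt s v → D ≤ cen v := by
      intro v hv s hs hsp hve
      by_cases hsq : s = q
      · refine big_le hG hhb hv ?_
        refine Nat.Coprime.coprime_dvd_left (Commute.orderOf_mul_dvd_mul_orderOf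
          (mem_cen.mp hhC : Commute x h)) ?_
        exact Nat.Coprime.mul_left (hcox hs hsp hve) (pelt_coprime hq₂ hs (hsq.symm ▸ hne) hhe hve)
      · rw [← hDy]
        refine big_le hG hyb (hDy.symm ▸ hv) ?_
        refine Nat.Coprime.coprime_dvd_left (Commute.orderOf_mul_dvd_mul_orderOf
          (mem_cen.mp hyC : Commute x y)) ?_
        exact Nat.Coprime.mul_left (hcox hs hsp hve) (pelt_coprime hq hs (Ne.symm hsq) hye hve)
    have hpart : ∀ v ∈ D, ∀ i j : ℕ, v ^ (q ^ i * q₂ ^ j) = 1 → ∀ y ∈ zpowers v, ∀ s k : ℕ,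
        s.Prime → orderOf y = s ^ k → k ≠ 0 → s = q ∨ s = q₂ := by
      intro v _ i j hij w hw s k hs hk hk0
      obtain ⟨l, rfl⟩ := mem_zpowers_iff.mp hw
      have hsd : s ∣ q ^ i * q₂ ^ j := by
        refine (dvd_pow_self s hk0).trans (hk ▸ orderOf_dvd_of_pow_eq_one ?_)
        rw [← zpow_natCast, ← zpow_mul, mul_comm, zpow_mul, zpow_natCast, hij, one_zpow]
      exact (hs.dvd_mul.mp hsd).imp (fun h => (Nat.prime_dvd_prime_iff_eq hs hq).mp (hs.dvd_of_dvd_pow h))
        (fun h => (Nat.prime_dvd_prime_iff_eq hs hq₂).mp (hs.dvd_of_dvd_pow h))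
    have hVc : ∀ v ∈ D, (∃ i j : ℕ, v ^ (q ^ i * q₂ ^ j) = 1) → D ≤ cen v := by
      rintro v hv ⟨i, j, hij⟩
      refine Cfsg.Lib.Fusion.induction_parts v (Q := fun w => D ≤ cen w)
        (fun w hw s k hs hk => ?_) (fun a _ b _ ha hb c hc => mem_cen.mpr
          ((show Commute a c from mem_cen.mp (ha hc)).mul_left (mem_cen.mp (hb hc))).eq)
      by_cases hk0 : k = 0
      · rw [hk0, pow_zero, orderOf_eq_one_iff] at hk
        intro c _; rw [hk, mem_cen, one_mul, mul_one]
      refine hcentral w (zpowers_le.mpr hv hw) s hs ?_ ⟨k, hk ▸ pow_orderOf_eq_one w⟩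
      rcases hpart v hv i j hij w hw s k hs hk hk0 with rfl | rfl
      · exact hqp hq hqn
      · exact hqp hq₂ hq₂n
    let V : Subgroup G :=
      { carrier := {v | v ∈ D ∧ ∃ i j : ℕ, v ^ (q ^ i * q₂ ^ j) = 1}
        one_mem' := ⟨one_mem _, 0, 0, one_pow _⟩
        mul_mem' := fun {a b} ha hb => ⟨mul_mem ha.1 hb.1, by
          obtain ⟨i, j, hi⟩ := ha.2
          obtain ⟨i', j', hi'⟩ := hb.2
          refine ⟨i + i', j + j', ?_⟩
          rw [(show Commute a b from mem_cen.mp (hVc a ha.1 ha.2 hb.1)).mul_pow,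
            show q ^ (i + i') * q₂ ^ (j + j') = q ^ i * q₂ ^ j * (q ^ i' * q₂ ^ j') by ring, pow_mul, hi,
            one_pow, one_mul, mul_comm (q ^ i * q₂ ^ j), pow_mul, hi', one_pow]⟩
        inv_mem' := fun {a} ha => ⟨inv_mem ha.1, by
          obtain ⟨i, j, hi⟩ := ha.2; exact ⟨i, j, by rw [inv_pow, hi, inv_one]⟩⟩ }
    have hDsame : ∀ v ∈ D, ∀ s : ℕ, s.Prime → s ≠ p → PElt s v → ¬ C ≤ cen v → cen (x * v) = D := by
      intro v hv s hs hsp hve hvn
      obtain ⟨hvb, hveq⟩ := (full_le hG hx (hDC hv) (hcox hs hsp hve)).resolve_left hvn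
      refine eq_cen_of_le_big hG hhb hvb ?_
      rw [hveq]
      exact le_inf hDC (hcentral v hv s hs hsp hve)
    have hnormal : ∀ (s : ℕ) (w : G), s.Prime → s ∣ n → w ∈ D → PElt s w → ¬ C ≤ cen w →
        ∃ g ∈ C ⊓ normalizer (D : Set G), g ∉ D ∧ PElt s g := by
      intro s w hs hsn hw hwe hwn
      haveI : Fact s.Prime := ⟨hs⟩
      obtain ⟨i, hi⟩ := hwe
      obtain ⟨S, hS⟩ := (IsPGroup.of_card_dvd_pow (p := s) (G := zpowers (⟨w, hw⟩ : D)) (n := i)
        (by rw [Nat.card_zpowers]; exact orderOf_dvd_of_pow_eq_one (Subtype.ext hi))).exists_le_sylow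
      set R := (S : Subgroup D).map D.subtype with hRdef
      have hRc : Nat.card R = s ^ vv s D := by
        rw [Subgroup.card_map_of_injective D.subtype_injective, Sylow.card_eq_multiplicity]
      have hwR : w ∈ R := ⟨⟨w, hw⟩, hS (mem_zpowers _), rfl⟩
      have hRp : IsPGroup s R := S.2.map _
      have hRC : R.subgroupOf C ≤ ⊤ := le_top
      obtain ⟨g, hgN, hgD, hge⟩ := exists_normalizing (G := C) (R := R.subgroupOf C) (K := D.subgroupOf C)
        (IsPGroup.of_card ((Nat.card_congr (subgroupOfEquivOfLe ((map_subtype_le _).trans hDC)).toEquiv).trans hRc))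
        (fun u hu => mem_subgroupOf.mpr (map_subtype_le _ (mem_subgroupOf.mp hu)))
        (by rw [Nat.card_congr (subgroupOfEquivOfLe ((map_subtype_le _).trans hDC)).toEquiv, hRc, vv, vv,
              Nat.card_congr (subgroupOfEquivOfLe hDC).toEquiv])
        (by
          have h1 := vv_big hG (not_dvd_m hG hs hsn) hhb
          have h2 := hvC hs hsn
          have h3 := hs.factorization_pos_of_dvd (by have := hG.hn; omega) hsn
          rw [← hD] at h1
          simp only [vv, Nat.card_congr (subgroupOfEquivOfLe hDC).toEquiv] at h1 h2 ⊢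
          omega)
      refine ⟨g, ⟨g.2, ?_⟩, fun hg => hgD (mem_subgroupOf.mpr hg), ?_⟩
      · have hwC : w ∈ C := hDC hw
        have hc : (g : G) * w * (g : G)⁻¹ ∈ R := mem_subgroupOf.mp
          ((mem_normalizer_iff.mp hgN ⟨w, hwC⟩).mp (mem_subgroupOf.mpr hwR))
        have hsp := hqp hs hsn
        have hgx : (g : G) * x * (g : G)⁻¹ = x := by
          rw [← mem_cen.mp g.2, mul_inv_cancel_right]
        refine cen_conj_eq (hDsame w hw s hs hsp ⟨i, hi⟩ hwn) ?_
        rw [show (g : G) * (x * w) * (g : G)⁻¹ = ((g : G) * x * (g : G)⁻¹) * ((g : G) * w * (g : G)⁻¹) by group,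
          hgx]
        refine hDsame _ (map_subtype_le _ hc) s hs hsp ⟨i, by rw [conj_pow, hi, mul_one, mul_inv_cancel]⟩
          fun hle => hwn fun c hc' => ?_
        have h2 : Commute ((g : G) * w * (g : G)⁻¹) ((g : G) * c * (g : G)⁻¹) :=
          mem_cen.mp (hle (mul_mem (mul_mem g.2 hc') (inv_mem g.2)))
        refine mem_cen.mpr ?_
        calc w * c = (g : G)⁻¹ * (((g : G) * w * (g : G)⁻¹) * ((g : G) * c * (g : G)⁻¹)) * g := by group
          _ = _ := by rw [h2.eq]; group
      · obtain ⟨j, hj⟩ := hge; exact ⟨j, congrArg Subtype.val hj⟩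
    obtain ⟨g₁, hg₁, hg₁D, hg₁e⟩ := hnormal q y hq hqn hyD hye hyn
    have hhD : h ∈ D := hheq.symm ▸ ⟨hhC, mem_cen.mpr rfl⟩
    obtain ⟨g₂, hg₂, hg₂D, hg₂e⟩ := hnormal q₂ h hq₂ hq₂n hhD hhe hhn
    refine no_two_primes_in (p := q) (r := q₂) hne (C ⊓ normalizer (D : Set G)) D V (V ⊓ Wc)
      (le_inf hDC le_normalizer) inf_le_right
      (fun g hg b hb => ⟨(mem_normalizer_iff.mp hg.2 b).mp hb.1, by
        obtain ⟨i, j, hi⟩ := hb.2; exact ⟨i, j, by rw [conj_pow, hi, mul_one, mul_inv_cancel]⟩⟩)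
      (fun d hd b hb => (mem_cen.mp (hVc b hb.1 hb.2 hd)).symm)
      (fun a ha b hb => mem_cen.mp (hVc a ha.1 ha.2 hb.1))
      (fun g hg w hw => mem_centralizer_iff.mp hw.2 g hg.1) ?_
      hg₁ hg₁D hg₁e hg₂ hg₂D hg₂e (u := y)
      ⟨hyD, (let ⟨i, hi⟩ := hye; ⟨i, 0, by rw [pow_zero, mul_one, hi]⟩)⟩
      (fun hw => hyn fun c hc => mem_cen.mpr (mem_centralizer_iff.mp hw.2 c hc).symm) hye (y := h)
      ⟨hhD, (let ⟨i, hi⟩ := hhe; ⟨0, i, by rw [pow_zero, one_mul, hi]⟩)⟩
      (fun hw => hhn fun c hc => mem_cen.mpr (mem_centralizer_iff.mp hw.2 c hc).symm) hhe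
    intro g hg hgD b hb hgb
    refine ⟨hb, mem_centralizer_iff.mpr fun c hc => ?_⟩
    obtain ⟨i, j, hij⟩ := hb.2
    suffices hle : C ≤ cen b from (mem_cen.mp (hle hc)).symm
    refine Cfsg.Lib.Fusion.induction_parts b (Q := fun w => C ≤ cen w) (fun w hw s k hs hk => ?_)
      (fun a _ b' _ ha hb' c hc => mem_cen.mpr
        ((show Commute a c from mem_cen.mp (ha hc)).mul_left (mem_cen.mp (hb' hc))).eq)
    by_cases hk0 : k = 0
    · rw [hk0, pow_zero, orderOf_eq_one_iff] at hk
      intro c _; rw [hk, mem_cen, one_mul, mul_one]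
    by_contra hwn
    have hsp : s ≠ p := by
      rcases hpart b hb.1 i j hij w hw s k hs hk hk0 with rfl | rfl
      · exact hqp hq hqn
      · exact hqp hq₂ hq₂n
    have hwe : PElt s w := ⟨k, hk ▸ pow_orderOf_eq_one w⟩
    have hgw : Commute g w := by
      obtain ⟨l, rfl⟩ := mem_zpowers_iff.mp hw
      exact (show Commute g b from hgb).zpow_right l
    exact hgD (hDsame w (zpowers_le.mpr hb.1 hw) s hs hsp hwe hwn ▸ mem_cen.mpr
      ((show Commute x g from mem_cen.mp hg.1).mul_left hgw.symm).eq)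
  -- every Sylow subgroup for another prime centralises every `q`-element of `C`
  set D₀ := cen (x * y₀) with hD₀
  have hD₀C : D₀ ≤ C := hy₀eq.le.trans inf_le_left
  have hrfull : ∀ {r : ℕ}, r.Prime → r ≠ q → ∀ {y : G}, y ∈ C → PElt q y →
      vv r (C ⊓ cen y) = vv r C := by
    intro r hr hrq y hy hye
    rcases full_le hG hx hy (hcox hq (hqp hq hqn) hye) with h | h
    · rw [inf_eq_left.mpr h]
    · have hrn : ¬ r ∣ n := fun hh => hrq (hn1 r hr hh)
      have h1 := vv_cen_of_not_dvd hG hrn (not_central_of_eq hG (Or.inr h.1))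
      have h2 := vv_cen_of_not_dvd hG hrn hxZ
      rw [h.2] at h1
      simp only [← hC] at h1 h2
      omega
  have hcoD : ∀ {r : ℕ}, r.Prime → r ≠ p → r ≠ q → ∀ {v : G}, v ∈ D₀ → PElt r v → D₀ ≤ cen v := by
    intro r hr hrp hrq v hv hve
    refine big_le hG hy₀b hv ?_
    refine Nat.Coprime.coprime_dvd_left (Commute.orderOf_mul_dvd_mul_orderOf
      (mem_cen.mp hy₀C : Commute x y₀)) ?_
    exact Nat.Coprime.mul_left (hcox hr hrp hve) (pelt_coprime hq hr (Ne.symm hrq) hy₀e hve)
  intro v hv hvq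
  refine Cfsg.Lib.Fusion.induction_parts v (Q := fun w => w ∈ cen u₁) (fun w hw r k hr hk => ?_)
    (fun a _ b _ ha hb => mul_mem ha hb)
  by_cases hk0 : k = 0
  · rw [hk0, pow_zero, orderOf_eq_one_iff] at hk; rw [hk]; exact one_mem _
  have hrq : r ≠ q := by
    rintro rfl
    have : r ∣ orderOf v := (dvd_pow_self r hk0).trans (hk ▸ orderOf_dvd_of_mem_zpowers hw)
    exact hr.one_lt.ne' (Nat.eq_one_of_dvd_coprimes hvq this dvd_rfl)
  haveI : Fact r.Prime := ⟨hr⟩
  have hwe : PElt r w := ⟨k, hk ▸ pow_orderOf_eq_one w⟩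
  -- a Sylow `r`-subgroup `R` of `D₀` and a Sylow `q`-subgroup `Q` of `C` containing `u₁`
  obtain ⟨R, hRD, hR, hRc⟩ := exists_sylow_in (r := r) D₀
  have hRC : R ≤ C := hRD.trans hD₀C
  have hRc' : Nat.card R = r ^ vv r C := by
    rw [hRc, hy₀eq, hrfull hr hrq hy₀C hy₀e]
  set L := C ⊓ normalizer (R : Set G) with hLdef
  have hLfull : ∀ s : ℕ, s.Prime → s ≠ q → vv s L = vv s C := by
    intro s hs hsq
    haveI : Fact s.Prime := ⟨hs⟩
    refine le_antisymm (vv_mono inf_le_left) ?_
    by_cases hsr : s = r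
    · subst hsr
      have := vv_mono (r := s) (show R ≤ L from le_inf hRC le_normalizer)
      rwa [vv, hRc', hs.factorization_pow, Finsupp.single_eq_same] at this
    obtain ⟨S, hSD, hS, hSc⟩ := exists_sylow_in (r := s) D₀
    have hSL : S ≤ L := fun a ha => by
      obtain ⟨i, hi⟩ := hS ⟨a, ha⟩
      have hae : PElt s a := ⟨i, congrArg Subtype.val hi⟩
      refine ⟨hD₀C (hSD ha), centralizer_le_normalizer _ (mem_centralizer_iff.mpr fun b hb => ?_)⟩
      by_cases hrp : r = p
      · exact (mem_cen.mp (hcoD hs (hrp ▸ hsr) hsq (hSD ha) hae (hRD hb))).symm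
      · obtain ⟨j, hj⟩ := hR ⟨b, hb⟩
        exact mem_cen.mp (hcoD hr hrp hrq (hRD hb) ⟨j, congrArg Subtype.val hj⟩ (hSD ha))
    have := vv_mono (r := s) hSL
    rw [vv, hSc, hs.factorization_pow, Finsupp.single_eq_same, hy₀eq, hrfull hs hsq hy₀C hy₀e] at this
    exact this
  -- every Sylow `q`-subgroup of `C` centralises `R`
  have hQR : ∀ Q : Subgroup G, Q ≤ C → IsPGroup q Q → Nat.card Q = q ^ vv q C →
      ∀ a ∈ Q, ∀ b ∈ R, a * b = b * a := by
    intro Q hQC hQ hQc
    have htop : (centralizer (R : Set G)).subgroupOf Q = ⊤ := by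
      refine Cfsg.Lib.PGroup.eq_top_of_forall_exists_conj_mem fun a => ?_
      obtain ⟨i, hi⟩ := hQ a
      have hae : PElt q (a : G) := ⟨i, congrArg Subtype.val hi⟩
      obtain ⟨R₁, hR₁, hR₁p, hR₁c⟩ := exists_sylow_in (r := r) (C ⊓ cen (a : G))
      rw [hrfull hr hrq (hQC a.2) hae] at hR₁c
      obtain ⟨c, hc, hcR⟩ := exists_conj_of_card hRC (hR₁.trans inf_le_left) hRc' hR₁c
      obtain ⟨e, he, l, hl, rfl⟩ := exists_decomp (L := L) inf_le_left hQC hQc hLfull hc
      refine ⟨⟨e, he⟩⁻¹, mem_subgroupOf.mpr (mem_centralizer_iff.mpr fun b hb => ?_)⟩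
      have hlb : l⁻¹ * b * l ∈ R := by
        have := (mem_normalizer_iff.mp (inv_mem hl.2) b).mp hb
        rwa [inv_inv] at this
      have h1 := mem_cen.mp (hR₁ (hcR _ hlb)).2
      have h2 : e * l * (l⁻¹ * b * l) * (e * l)⁻¹ = e * b * e⁻¹ := by group
      rw [h2] at h1
      show b * (e⁻¹ * (a : G) * (e⁻¹)⁻¹) = e⁻¹ * (a : G) * (e⁻¹)⁻¹ * b
      calc b * (e⁻¹ * (a : G) * (e⁻¹)⁻¹) = e⁻¹ * (e * b * e⁻¹ * a) * e := by group
        _ = _ := by rw [← h1]; group
    intro a ha b hb
    exact (mem_centralizer_iff.mp (mem_subgroupOf.mp (htop ▸ mem_top (⟨a, ha⟩ : Q))) b hb).symm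
  -- move `w` into `R`
  obtain ⟨R₂, hR₂C, hwR₂, hR₂c⟩ : ∃ R₂ ≤ C, w ∈ R₂ ∧ Nat.card R₂ = r ^ vv r C := by
    obtain ⟨i, hi⟩ := hwe
    have hwC : w ∈ C := zpowers_le.mpr hv hw
    obtain ⟨S, hS⟩ := (IsPGroup.of_card_dvd_pow (p := r) (G := zpowers (⟨w, hwC⟩ : C)) (n := i)
      (by rw [Nat.card_zpowers]; exact orderOf_dvd_of_pow_eq_one (Subtype.ext hi))).exists_le_sylow
    exact ⟨(S : Subgroup C).map C.subtype, map_subtype_le _, ⟨⟨w, hwC⟩, hS (mem_zpowers _), rfl⟩, by
      rw [Subgroup.card_map_of_injective C.subtype_injective, Sylow.card_eq_multiplicity]⟩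
  obtain ⟨c, hc, hcR⟩ := exists_conj_of_card hR₂C hRC hR₂c hRc'
  obtain ⟨i, hi⟩ := hu₁e
  have hcu : c * u₁ * c⁻¹ ∈ C := mul_mem (mul_mem hc hu₁) (inv_mem hc)
  obtain ⟨S, hS⟩ := (IsPGroup.of_card_dvd_pow (p := q) (G := zpowers (⟨_, hcu⟩ : C)) (n := i)
    (by rw [Nat.card_zpowers]; exact orderOf_dvd_of_pow_eq_one (Subtype.ext (by
      rw [SubgroupClass.coe_pow, conj_pow, hi, mul_one, mul_inv_cancel]; rfl)))).exists_le_sylow
  have h3 := hQR ((S : Subgroup C).map C.subtype) (map_subtype_le _) (S.2.map _)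
    (by rw [Subgroup.card_map_of_injective C.subtype_injective, Sylow.card_eq_multiplicity])
    (c * u₁ * c⁻¹) ⟨⟨_, hcu⟩, hS (mem_zpowers _), rfl⟩ (c * w * c⁻¹) (hcR w hwR₂)
  refine mem_cen.mpr ?_
  calc u₁ * w = c⁻¹ * ((c * u₁ * c⁻¹) * (c * w * c⁻¹)) * c := by group
    _ = _ := by rw [h3]; group

include hG in
/-- If a small element has order a power of `p`, then `m = p` and its centraliser is the abelian normal
subgroup of all elements of class size `1` or `p`. -/
theorem structure_thm (hpm : p ∣ m) {x : G} (hx : (cen x).index = m) (hxp : PElt p x) :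
    m = p ∧ (cen x).Normal ∧ (∀ c ∈ cen x, cen x ≤ cen c) ∧
      ∀ s : G, (cen s).index = m → s ∈ cen x := by
  classical
  set C := cen x with hC
  have hxC : x ∈ C := mem_cen.mpr rfl
  have hxZ := not_central_of_eq hG (Or.inl hx)
  have hpn := not_dvd_n hG hpF.out hpm
  obtain ⟨q, hq, hqn⟩ := Nat.exists_prime_and_dvd hG.hn.ne'
  haveI : Fact q.Prime := ⟨hq⟩
  have hqm := not_dvd_m hG hq hqn
  have hqp : q ≠ p := fun h => hpn (h ▸ hqn)
  obtain ⟨Q, hQC, hQ, hQc, hQmem, hQcomm⟩ := exists_normal_part hG hpm hx hxp q hq hqn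
  have hcoq : ∀ {r : ℕ}, r.Prime → r ≠ q → ∀ {v : G}, PElt r v → (orderOf v).Coprime q :=
    fun hr hne _ hv => by
      obtain ⟨i, hi⟩ := hv
      exact (((Nat.coprime_primes hr hq).mpr hne).pow_left i).coprime_dvd_left
        (orderOf_dvd_of_pow_eq_one hi)
  have hQfull : ∀ {v : G}, Q ≤ cen v → (Nat.card G).factorization q ≤ vv q (cen v) := fun h => by
    have := vv_mono (r := q) h
    rwa [vv, hQc, hq.factorization_pow, Finsupp.single_eq_same] at this
  have hQinf : ∀ {v : G}, Q ≤ cen v → (Nat.card G).factorization q ≤ vv q (C ⊓ cen v) := fun h => by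
    have := vv_mono (r := q) (le_inf hQC h)
    rwa [vv, hQc, hq.factorization_pow, Finsupp.single_eq_same] at this
  -- elements of order prime to `p q` are central in `C`
  have hcen' : ∀ {r : ℕ}, r.Prime → r ≠ p → r ≠ q → ∀ {v : G}, v ∈ C → PElt r v → C ≤ cen v :=
    fun hr hrp hrq v hv hve => le_of_full hG hx hv (pelt_coprime hpF.out hr (Ne.symm hrp) hxp hve)
      hq hqn (hQinf (hQcomm v hv (hcoq hr hrq hve)))
  -- `m` is a power of `p`
  have huniq : ∀ r : ℕ, r.Prime → r ∣ m → r = p := by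
    intro r hr hrm
    by_contra hrp
    haveI : Fact r.Prime := ⟨hr⟩
    have hrq : r ≠ q := fun h => hqm (h ▸ hrm)
    obtain ⟨a, haC, haZ, hae⟩ := exists_pelt (vv_center_lt hG hrm hxZ)
    have hCa : cen a = C := eq_cen_of_le_small hG hx haZ (hcen' hr hrp hrq haC hae)
    have hcenp : ∀ v ∈ C, PElt p v → C ≤ cen v := by
      intro v hv hve
      have h1 := le_of_full hG (x := a) (hCa ▸ hx) (y := v) (hCa.symm ▸ hv)
        (pelt_coprime hr hpF.out hrp hae hve) hq hqn
        (hCa.symm ▸ hQinf (hQcomm v hv (hcoq hpF.out (Ne.symm hqp) hve)))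
      rwa [hCa] at h1
    have hpart : ∀ v ∈ C, (∃ i j : ℕ, v ^ (p ^ i * r ^ j) = 1) → ∀ w ∈ zpowers v, ∀ s k : ℕ,
        s.Prime → orderOf w = s ^ k → C ≤ cen w ∧ (w ∉ center G → cen w = C) := by
      rintro v hv ⟨i, j, hij⟩ w hw s k hs hk
      have hwC : w ∈ C := zpowers_le.mpr hv hw
      have hwe : PElt s w := ⟨k, hk ▸ pow_orderOf_eq_one w⟩
      suffices hle : C ≤ cen w from ⟨hle, fun hwZ => eq_cen_of_le_small hG hx hwZ hle⟩
      by_cases hk0 : k = 0
      · rw [hk0, pow_zero, orderOf_eq_one_iff] at hk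
        intro c _; rw [hk, mem_cen, one_mul, mul_one]
      obtain ⟨l, rfl⟩ := mem_zpowers_iff.mp hw
      have hsd : s ∣ p ^ i * r ^ j := by
        refine (dvd_pow_self s hk0).trans (hk ▸ orderOf_dvd_of_pow_eq_one ?_)
        rw [← zpow_natCast, ← zpow_mul, mul_comm, zpow_mul, zpow_natCast, hij, one_zpow]
      rcases hs.dvd_mul.mp hsd with h | h
      · rw [(Nat.prime_dvd_prime_iff_eq hs hpF.out).mp (hs.dvd_of_dvd_pow h)] at hwe
        exact hcenp _ hwC hwe
      · rw [(Nat.prime_dvd_prime_iff_eq hs hr).mp (hs.dvd_of_dvd_pow h)] at hwe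
        exact hcen' hr hrp hrq hwC hwe
    have hVc : ∀ v ∈ C, (∃ i j : ℕ, v ^ (p ^ i * r ^ j) = 1) → C ≤ cen v := fun v hv he =>
      Cfsg.Lib.Fusion.induction_parts v (Q := fun w => C ≤ cen w)
        (fun w hw s k hs hk => (hpart v hv he w hw s k hs hk).1) (fun a _ b _ ha hb c hc => mem_cen.mpr
          ((show Commute a c from mem_cen.mp (ha hc)).mul_left (mem_cen.mp (hb hc))).eq)
    let V : Subgroup G :=
      { carrier := {v | v ∈ C ∧ ∃ i j : ℕ, v ^ (p ^ i * r ^ j) = 1}
        one_mem' := ⟨one_mem _, 0, 0, one_pow _⟩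
        mul_mem' := fun {a b} ha hb => ⟨mul_mem ha.1 hb.1, by
          obtain ⟨i, j, hi⟩ := ha.2
          obtain ⟨i', j', hi'⟩ := hb.2
          refine ⟨i + i', j + j', ?_⟩
          rw [(show Commute a b from mem_cen.mp (hVc a ha.1 ha.2 hb.1)).mul_pow,
            show p ^ (i + i') * r ^ (j + j') = p ^ i * r ^ j * (p ^ i' * r ^ j') by ring, pow_mul, hi,
            one_pow, one_mul, mul_comm (p ^ i * r ^ j), pow_mul, hi', one_pow]⟩
        inv_mem' := fun {a} ha => ⟨inv_mem ha.1, by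
          obtain ⟨i, j, hi⟩ := ha.2; exact ⟨i, j, by rw [inv_pow, hi, inv_one]⟩⟩ }
    have hnormal : ∀ (s : ℕ) (w : G), s.Prime → s ∣ m → w ∈ C → w ∉ center G → PElt s w →
        (∀ u ∈ C, u ∉ center G → PElt s u → cen u = C) →
        ∃ g ∈ normalizer (C : Set G), g ∉ C ∧ PElt s g := by
      intro s w hs hsm hw hwZ hwe hall
      haveI : Fact s.Prime := ⟨hs⟩
      obtain ⟨i, hi⟩ := hwe
      obtain ⟨S, hS⟩ := (IsPGroup.of_card_dvd_pow (p := s) (G := zpowers (⟨w, hw⟩ : C)) (n := i)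
        (by rw [Nat.card_zpowers]; exact orderOf_dvd_of_pow_eq_one (Subtype.ext hi))).exists_le_sylow
      set R := (S : Subgroup C).map C.subtype with hRdef
      have hwR : w ∈ R := ⟨⟨w, hw⟩, hS (mem_zpowers _), rfl⟩
      obtain ⟨g, hgN, hgC, hge⟩ := exists_normalizing (R := R) (K := C) (S.2.map _) (map_subtype_le _)
        (by rw [Subgroup.card_map_of_injective C.subtype_injective, Sylow.card_eq_multiplicity])
        (by
          have h1 := vv_cen_of_not_dvd hG (not_dvd_n hG hs hsm) hxZ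
          have h2 := hs.factorization_pos_of_dvd (by have := hG.hm; omega) hsm
          rw [← hC] at h1
          omega)
      refine ⟨g, cen_conj_eq (hall w hw hwZ ⟨i, hi⟩) (hall _ ?_ (fun h => hwZ ?_) ?_), hgC, hge⟩
      · exact map_subtype_le _ ((mem_normalizer_iff.mp hgN w).mp hwR)
      · have h2 := (Subgroup.Normal.conj_mem (H := center G) inferInstance _ h g⁻¹)
        simpa [mul_assoc] using h2
      · exact ⟨i, by rw [conj_pow, hi, mul_one, mul_inv_cancel]⟩
    obtain ⟨g₁, hg₁, hg₁C, hg₁e⟩ := hnormal p x hpF.out hpm hxC hxZ hxp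
      (fun u hu huZ hue => eq_cen_of_le_small hG hx huZ (hcenp u hu hue))
    obtain ⟨g₂, hg₂, hg₂C, hg₂e⟩ := hnormal r a hr hrm haC haZ hae
      (fun u hu huZ hue => eq_cen_of_le_small hG hx huZ (hcen' hr hrp hrq hu hue))
    refine no_two_primes_in (p := p) (r := r) hrp (normalizer (C : Set G)) C V (center G) le_normalizer
      le_rfl (fun g hg b hb => ⟨(mem_normalizer_iff.mp hg b).mp hb.1, by
        obtain ⟨i, j, hi⟩ := hb.2; exact ⟨i, j, by rw [conj_pow, hi, mul_one, mul_inv_cancel]⟩⟩)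
      (fun d hd b hb => (mem_cen.mp (hVc b hb.1 hb.2 hd)).symm)
      (fun a ha b hb => mem_cen.mp (hVc a ha.1 ha.2 hb.1))
      (fun g _ w hw => mem_center_iff.mp hw g) ?_
      hg₁ hg₁C hg₁e hg₂ hg₂C hg₂e (u := x)
      ⟨hxC, (let ⟨i, hi⟩ := hxp; ⟨i, 0, by rw [pow_zero, mul_one, hi]⟩)⟩ hxZ hxp (y := a)
      ⟨haC, (let ⟨i, hi⟩ := hae; ⟨0, i, by rw [pow_zero, one_mul, hi]⟩)⟩ haZ hae
    intro g _ hgC b hb hgb
    refine Cfsg.Lib.Fusion.induction_parts b (Q := fun y => y ∈ center G)
      (fun w hw s k hs hk => ?_) (fun a _ c _ ha hc => mul_mem ha hc)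
    by_contra hwZ
    have h1 := (hpart b hb.1 hb.2 w hw s k hs hk).2 hwZ
    obtain ⟨l, rfl⟩ := mem_zpowers_iff.mp hw
    exact hgC (h1 ▸ mem_cen.mpr ((show Commute g b from hgb).symm.zpow_left l).eq)
  obtain ⟨a, hma⟩ : ∃ a, m = p ^ a :=
    ⟨_, Nat.eq_prime_pow_of_unique_prime_dvd (by have := hG.hm; omega) fun {d} hd hdd => huniq d hd hdd⟩
  -- a Sylow `p`-subgroup `P` of `G` over one of `C`
  obtain ⟨W, hWC, hW, hWc⟩ := exists_sylow_in (r := p) C
  have hWe : ∀ u ∈ W, PElt p u := fun u hu => by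
    obtain ⟨i, hi⟩ := hW ⟨u, hu⟩; exact ⟨i, congrArg Subtype.val hi⟩
  have hxW : x ∈ W := by
    obtain ⟨i, hi⟩ := hxp
    have hz : IsPGroup p (zpowers x) := IsPGroup.of_card_dvd_pow (n := i)
      (by rw [Nat.card_zpowers]; exact orderOf_dvd_of_pow_eq_one hi)
    have hnorm : zpowers x ≤ normalizer (W : Set G) := zpowers_le.mpr
      (centralizer_le_normalizer _ (mem_centralizer_iff.mpr fun u hu => (mem_cen.mp (hWC hu)).symm))
    exact eq_of_le_of_vv (IsPGroup.to_sup_of_normal_left' hW hz hnorm) le_sup_left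
      (sup_le hWC (zpowers_le.mpr hxC)) hWc ▸ mem_sup_right (mem_zpowers x)
  obtain ⟨P, hWP⟩ := hW.exists_le_sylow
  have hPc : Nat.card (P : Subgroup G) = p ^ (Nat.card G).factorization p := Sylow.card_eq_multiplicity P
  have hGPC : ∀ g : G, ∃ k ∈ (P : Subgroup G), ∃ l ∈ C, g = k * l := fun g =>
    exists_decomp (K := ⊤) le_top le_top (by rw [vv, card_top]; exact hPc) (fun r hr hrp => by
      have h1 := vv_add_index r C
      rw [hx, hma, hpF.out.factorization_pow, Finsupp.single_eq_of_ne hrp] at h1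
      rw [vv, vv, card_top]
      simpa [vv] using h1) (mem_top g)
  set K := pCore p G with hK
  haveI hKn : K.Normal := hK ▸ sSup_normal _ fun _ h => h.1
  have hKp : IsPGroup p K := Cfsg.Lib.Fusion.pCore_isPGroup p
  have hxK : x ∈ K := by
    have hle : normalClosure ({x} : Set G) ≤ (P : Subgroup G) := by
      rw [normalClosure, closure_le]
      intro u hu
      obtain ⟨y, hy, g, hg⟩ : ∃ y ∈ ({x} : Set G), IsConj y u := Group.mem_conjugatesOfSet_iff.mp hu
      rw [Set.mem_singleton_iff.mp hy] at hg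
      obtain ⟨k, hk, l, hl, hgkl⟩ := hGPC (g : G)
      have hu' : u = (g : G) * x * (g : G)⁻¹ := by
        rw [hg, mul_inv_cancel_right]
      rw [hu', hgkl]
      have : k * l * x * (k * l)⁻¹ = k * (l * x * l⁻¹) * k⁻¹ := by group
      rw [this, ← mem_cen.mp hl, mul_inv_cancel_right]
      exact mul_mem (mul_mem hk (hWP hxW)) (inv_mem hk)
    exact Cfsg.Lib.Fusion.le_pCore normalClosure_normal (P.2.to_le hle)
      (subset_normalClosure rfl)
  have hxQ : ∀ h ∈ Q, x * h = h * x := fun h hh => mem_cen.mp (hQC hh)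
  have hpq0 : ∀ {u : G}, u ∈ K → u ∈ Q → u = 1 := fun {u} hu hu' => by
    obtain ⟨i, hi⟩ := hKp ⟨u, hu⟩
    obtain ⟨j, hj⟩ := hQ ⟨u, hu'⟩
    exact orderOf_eq_one_iff.mp (Nat.eq_one_of_dvd_coprimes
      (((Nat.coprime_primes hpF.out hq).mpr (Ne.symm hqp)).pow i j)
      (orderOf_dvd_of_pow_eq_one (congrArg Subtype.val hi))
      (orderOf_dvd_of_pow_eq_one (congrArg Subtype.val hj)))
  have hQe : ∀ h ∈ Q, PElt q h := fun h hh => by
    obtain ⟨i, hi⟩ := hQ ⟨h, hh⟩; exact ⟨i, congrArg Subtype.val hi⟩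
  have hQK : K ≤ centralizer (Q : Set G) := by
    set U := K ⊓ centralizer (Q : Set G) with hU
    by_contra hnot
    have hlt : U.subgroupOf K < ⊤ := by
      rw [lt_top_iff_ne_top, Ne, subgroupOf_eq_top]
      exact fun h => hnot (h.trans inf_le_right)
    obtain ⟨t, htN, htU⟩ := SetLike.exists_of_lt
      (Group.normalizerCondition_of_isNilpotent (h := hKp.isNilpotent) _ hlt)
    refine htU (mem_subgroupOf.mpr ⟨t.2, mem_centralizer_iff.mpr fun h hh => ?_⟩)
    -- `t h t⁻¹` centralises `U`, so lies in `Q`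
    have hmem : ∀ u ∈ U, Commute ((t : G) * h * (t : G)⁻¹) u := by
      intro u hu
      have h1 : (t : G)⁻¹ * u * (t : G) ∈ U := by
        have h2 := (mem_normalizer_iff.mp (inv_mem htN) ⟨u, hu.1⟩).mp (mem_subgroupOf.mpr hu)
        rw [inv_inv] at h2
        exact mem_subgroupOf.mp h2
      have h3 := mem_centralizer_iff.mp h1.2 h hh
      show (t : G) * h * (t : G)⁻¹ * u = u * ((t : G) * h * (t : G)⁻¹)
      calc (t : G) * h * (t : G)⁻¹ * u = (t : G) * (h * ((t : G)⁻¹ * u * t)) * (t : G)⁻¹ := by group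
        _ = _ := by rw [h3]; group
    have hQ' : (t : G) * h * (t : G)⁻¹ ∈ Q := by
      refine hQmem _ (mem_cen.mpr (hmem x ⟨hxK, mem_centralizer_iff.mpr fun h hh => (hxQ h hh).symm⟩).symm) ?_
      obtain ⟨i, hi⟩ := hQe h hh
      exact ⟨i, by rw [conj_pow, hi, mul_one, mul_inv_cancel]⟩
    have h1 : (t : G) * h * (t : G)⁻¹ * h⁻¹ ∈ K := by
      rw [mul_assoc, mul_assoc, ← mul_assoc h]
      exact mul_mem t.2 (Subgroup.Normal.conj_mem hKn _ (inv_mem t.2) h)
    have h2 := hpq0 h1 (mul_mem hQ' (inv_mem hh))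
    rw [mul_inv_eq_one, mul_inv_eq_iff_eq_mul] at h2
    exact h2.symm
  haveI hQn : Q.Normal := ⟨fun h hh g => by
    refine hQmem _ (mem_cen.mpr ?_) ?_
    · have h1 : g⁻¹ * x * g ∈ K := by
        have := Subgroup.Normal.conj_mem hKn x hxK g⁻¹
        rwa [inv_inv] at this
      have h2 := mem_centralizer_iff.mp (hQK h1) h hh
      calc x * (g * h * g⁻¹) = g * ((g⁻¹ * x * g) * h) * g⁻¹ := by group
        _ = _ := by rw [← h2]; group
    · obtain ⟨i, hi⟩ := hQe h hh
      exact ⟨i, by rw [conj_pow, hi, mul_one, mul_inv_cancel]⟩⟩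
  have hQall : ∀ u : G, PElt q u → u ∈ Q := fun u hu =>
    mem_of_vv (L := ⊤) le_top inferInstance
      (by rw [vv, vv, card_top, hQc, hq.factorization_pow, Finsupp.single_eq_same]) (mem_top u) hu
  -- a non-central element of `Q`
  obtain ⟨h₀, hh₀Z, hh₀e⟩ := exists_noncentral_pelt hG (r := q) (Or.inr hqn)
  have hh₀Q : h₀ ∈ Q := hQall h₀ hh₀e
  have hWQ : ∀ u ∈ W, Q ≤ cen u := fun u hu => hQcomm u (hWC hu) (hcoq hpF.out (Ne.symm hqp) (hWe u hu))
  have hvvW : vv p W = vv p C := by rw [vv, hWc, hpF.out.factorization_pow, Finsupp.single_eq_same]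
  -- `W` is the centraliser of `Q` in `P`
  have hWeq : W = (P : Subgroup G) ⊓ centralizer (Q : Set G) := by
    refine eq_of_le_of_vv (P.2.to_le inf_le_left)
      (le_inf hWP fun u hu => mem_centralizer_iff.mpr fun h hh => (mem_cen.mp (hWQ u hu hh)).symm)
      (inf_le_right.trans (fun u hu => mem_cen.mpr (mem_centralizer_iff.mp hu h₀ hh₀Q))) ?_
    have h1 := vv_cen_of_not_dvd hG hpn hh₀Z
    have h2 := vv_cen_of_not_dvd hG hpn hxZ
    rw [← hC] at h2
    rw [hWc]
    congr 1
    omega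
  -- all `q`-elements of `C` are central in `C`
  have hQab : ∀ h ∈ Q, C ≤ cen h := by
    intro y₀ hy₀
    by_contra hy₀n
    obtain ⟨hb, heq⟩ := (full_le hG hx (hQC hy₀)
      (pelt_coprime hpF.out hq (Ne.symm hqp) hxp (hQe _ hy₀))).resolve_left hy₀n
    obtain ⟨t, htP, htW⟩ : ∃ t ∈ (P : Subgroup G), t ∉ W := by
      by_contra! hall
      exact P.not_dvd_index (dvd_trans (hx ▸ hpm) (index_dvd_of_le (fun u hu => hWC (hall u hu))))
    have htZ : t ∉ center G := fun h => htW (hWeq ▸ ⟨htP, center_le_centralizer _ h⟩)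
    have hlt : vv q (center G) < vv q (cen t) := by
      have h1 : vv q (center G) < vv q (cen (x * y₀)) := by
        by_contra hle
        refine hy₀n fun c _ => mem_cen.mpr (mem_center_iff.mp ?_ c).symm
        exact mem_of_vv (L := cen (x * y₀)) (u := y₀) (center_le_cen _) (center_subgroupOf_normal _) (by omega)
          (heq.symm ▸ ⟨hQC hy₀, mem_cen.mpr rfl⟩) (hQe _ hy₀)
      have h2 := vv_big hG hqm hb
      rcases small_or_big hG htZ with h | h
      · have h3 := vv_small hG hqm h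
        omega
      · have h3 := vv_big hG hqm h
        omega
    obtain ⟨y', hy'C, hy'Z, hy'e⟩ := exists_pelt hlt
    have hy'Q := hQall y' hy'e
    have hS : IsPGroup p (W ⊔ zpowers t : Subgroup G) := P.2.to_le (sup_le hWP (zpowers_le.mpr htP))
    have hvy : Nat.card W = p ^ vv p (cen y') := by
      have h1 := vv_cen_of_not_dvd hG hpn hy'Z
      have h2 := vv_cen_of_not_dvd hG hpn hxZ
      rw [← hC] at h2
      rw [hWc]; congr 1; omega
    have := eq_of_le_of_vv hS le_sup_left (sup_le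
      (fun u hu => mem_cen.mpr (mem_cen.mp (hWQ u hu hy'Q)).symm)
      (zpowers_le.mpr (mem_cen.mpr (mem_cen.mp hy'C).symm))) hvy
    exact htW (this ▸ mem_sup_right (mem_zpowers t))
  have hCh₀ : cen h₀ = C := eq_cen_of_le_small hG hx hh₀Z (hQab _ hh₀Q)
  have hCab : ∀ c ∈ C, C ≤ cen c := by
    intro c hc
    refine Cfsg.Lib.Fusion.induction_parts c (Q := fun w => C ≤ cen w) (fun w hw r k hr hk => ?_)
      (fun a _ b _ ha hb u hu => mem_cen.mpr
        ((show Commute a u from mem_cen.mp (ha hu)).mul_left (mem_cen.mp (hb hu))).eq)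
    have hwC : w ∈ C := zpowers_le.mpr hc hw
    have hwe : PElt r w := ⟨k, hk ▸ pow_orderOf_eq_one w⟩
    by_cases hrq : r = q
    · exact hQab w (hQall w (hrq ▸ hwe))
    by_cases hrp : r = p
    · subst hrp
      have h1 := le_of_full hG (x := h₀) (hCh₀ ▸ hx) (y := w) (hCh₀.symm ▸ hwC)
        (pelt_coprime hq hr hqp hh₀e hwe) hq hqn
        (hCh₀.symm ▸ hQinf (hQcomm w hwC (hcoq hr hrq hwe)))
      rwa [hCh₀] at h1
    · exact hcen' hr hrp hrq hwC hwe
  have hCQ : C = centralizer (Q : Set G) := by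
    refine le_antisymm (fun c hc => mem_centralizer_iff.mpr fun h hh => mem_cen.mp (hQab h hh hc)) ?_
    intro c hc
    rw [← hCh₀]
    exact mem_cen.mpr (mem_centralizer_iff.mp hc h₀ hh₀Q)
  haveI hCn : C.Normal := hCQ ▸ Subgroup.normal_centralizer
  have hsmall : ∀ s : G, (cen s).index = m → s ∈ C := by
    intro s hs
    rw [hCQ, mem_centralizer_iff]
    obtain ⟨R, hR⟩ := Cfsg.Agent.S4354.exists_sylow_le (p := q) (H := cen s) (by rw [hs]; exact hqm)
    intro h hh
    have : h ∈ cen s := hR ((eq_of_le_of_card_ge (fun u hu => by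
        obtain ⟨i, hi⟩ := R.2 ⟨u, hu⟩
        exact hQall u ⟨i, congrArg Subtype.val hi⟩)
      (by rw [hQc, Sylow.card_eq_multiplicity])).symm ▸ hh : h ∈ (R : Subgroup G))
    exact (mem_cen.mp this).symm
  refine ⟨?_, hCn, hCab, hsmall⟩
  -- the quotient has order `p`
  have hTn : (⊤ : Subgroup G) ≤ normalizer (C : Set G) := (normalizer_eq_top (H := C)).ge
  haveI : (C.subgroupOf (⊤ : Subgroup G)).Normal := normal_subgroupOf_of_le_normalizer hTn
  haveI : IsMulCommutative C := ⟨⟨fun a b => Subtype.ext (mem_cen.mp (hCab a a.2 b.2))⟩⟩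
  obtain ⟨φ, hφ⟩ := exists_conj_action ⊤ C C hTn
    (fun g _ b hb => Subgroup.Normal.conj_mem hCn b hb g)
    (fun d hd b hb => mem_cen.mp (hCab d hd hb))
  have hW' : ∀ h, ∀ w ∈ (center G).subgroupOf C, φ h w = w := by
    intro h w hw
    obtain ⟨g, rfl⟩ := QuotientGroup.mk_surjective h
    refine Subtype.ext ?_
    rw [hφ, mem_center_iff.mp (mem_subgroupOf.mp hw) (g : G), mul_inv_cancel_right]
  have hfx : ∀ h, h ≠ 1 → ∀ v, φ h v = v → v ∈ (center G).subgroupOf C := by
    intro h h1 v hv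
    obtain ⟨g, rfl⟩ := QuotientGroup.mk_surjective h
    rw [mem_subgroupOf]
    by_contra hvZ
    have h2 := congrArg Subtype.val hv
    rw [hφ] at h2
    refine h1 ((QuotientGroup.eq_one_iff g).mpr (mem_subgroupOf.mpr ?_))
    rw [← eq_cen_of_le_small hG hx hvZ (hCab v v.2)]
    exact mem_cen.mpr (mul_inv_eq_iff_eq_mul.mp h2).symm
  have hHc : Nat.card ((⊤ : Subgroup G) ⧸ C.subgroupOf ⊤) = p ^ a := by
    rw [← index_eq_card, ← hma, ← hx]
    exact relIndex_top_right C
  have hH : IsPGroup p (⊤ : Subgroup ((⊤ : Subgroup G) ⧸ C.subgroupOf ⊤)) :=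
    IsPGroup.of_card (card_top.trans hHc)
  have hne : (⊤ : Subgroup ((⊤ : Subgroup G) ⧸ C.subgroupOf ⊤)) ≠ ⊥ := fun h => by
    have h1 := (congrArg (fun S : Subgroup ((⊤ : Subgroup G) ⧸ C.subgroupOf ⊤) => Nat.card S) h)
    simp only [card_top, card_bot] at h1
    rw [hHc, ← hma] at h1
    exact hG.hm.ne' h1
  obtain ⟨i, hi⟩ := hxp
  obtain ⟨j, hj⟩ := hh₀e
  have hcard := card_eq_prime hW' hfx hH hne (fun g _ => pow_eq_one_of_pElement hW' hfx
      (u := (⟨x, hxC⟩ : C)) (fun h => hxZ (mem_subgroupOf.mp h)) (j := i) (Subtype.ext hi)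
      (k := a) (by rw [← hHc]; exact pow_card_eq_one'))
    (y := (⟨h₀, hQC hh₀Q⟩ : C)) (fun h => hh₀Z (mem_subgroupOf.mp h)) (d := q ^ j) (Subtype.ext hj)
    (fun h => hqp ((Nat.prime_dvd_prime_iff_eq hpF.out hq).mp (hpF.out.dvd_of_dvd_pow h)).symm)
  rw [card_top, hHc] at hcard
  rw [hma, hcard]

/-- The elements of order prime to `p` of an abelian subgroup. -/
theorem exists_pprime_part {p : ℕ} [hp : Fact p.Prime] (A : Subgroup G)
    (hA : ∀ a ∈ A, ∀ b ∈ A, a * b = b * a) : ∃ N ≤ A,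
      (∀ a, a ∈ N ↔ a ∈ A ∧ (orderOf a).Coprime p) ∧ Nat.card N = ordCompl[p] (Nat.card A) := by
  set k := ordCompl[p] (Nat.card A) with hk
  have hkp : ¬ p ∣ k := Nat.not_dvd_ordCompl hp.out Nat.card_pos.ne'
  let N : Subgroup G :=
    { carrier := {a | a ∈ A ∧ (orderOf a).Coprime p}
      one_mem' := ⟨one_mem _, by rw [orderOf_one]; exact Nat.coprime_one_left p⟩
      mul_mem' := fun {a b} ha hb => ⟨mul_mem ha.1 hb.1, (ha.2.mul_left hb.2).coprime_dvd_left
        (Commute.orderOf_mul_dvd_mul_orderOf (hA a ha.1 b hb.1))⟩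
      inv_mem' := fun {a} ha => ⟨inv_mem ha.1, by rw [orderOf_inv]; exact ha.2⟩ }
  refine ⟨N, fun a ha => ha.1, fun a => Iff.rfl, ?_⟩
  have hNp : ¬ p ∣ Nat.card N := fun hd => by
    obtain ⟨⟨a, ha⟩, hao⟩ := exists_prime_orderOf_dvd_card' p hd
    rw [Subgroup.orderOf_mk] at hao
    have h1 := ha.2
    rw [hao, Nat.coprime_self] at h1
    exact hp.out.ne_one h1
  refine Nat.eq_of_factorization_eq Nat.card_pos.ne' (fun h => hkp (h ▸ dvd_zero p)) fun r => ?_
  rw [hk, Nat.factorization_ordCompl]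
  by_cases hr : r.Prime
  · by_cases hrp : r = p
    · subst hrp
      rw [Finsupp.erase_same, Nat.factorization_eq_zero_of_not_dvd hNp]
    · rw [Finsupp.erase_ne hrp]
      haveI : Fact r.Prime := ⟨hr⟩
      refine le_antisymm (vv_mono (K := N) (L := A) fun a ha => ha.1) ?_
      obtain ⟨R, hRA, hR, hRc⟩ := exists_sylow_in (r := r) A
      have hRN : R ≤ N := fun a ha => ⟨hRA ha, by
        obtain ⟨i, hi⟩ := hR ⟨a, ha⟩
        exact (((Nat.coprime_primes hr hp.out).mpr hrp).pow_left i).coprime_dvd_left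
          (orderOf_dvd_of_pow_eq_one (congrArg Subtype.val hi))⟩
      have := vv_mono (r := r) hRN
      rwa [vv, hRc, hr.factorization_pow, Finsupp.single_eq_same] at this
  · simp [Nat.factorization_eq_zero_of_not_prime _ hr, Finsupp.erase]

/-- Let G be a finite group with no nontrivial abelian direct factor whose conjugacy class sizes are exactly 1, m and m·n with m, n > 1 coprime. Then m is a prime p dividing n − 1; the elements whose class has size 1 or p form an abelian normal subgroup of index p; G has a normal p-complement; and the commutator subgroup of a Sylow p-subgroup of G has order p. -/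
theorem result {G : Type*} [Group G] [Finite G] (hnodf : ∀ A B : Subgroup G, A.Normal → B.Normal → A ⊓ B = ⊥ → A ⊔ B = ⊤ → IsMulCommutative A → A = ⊥) (m n : ℕ) (hm : 1 < m) (hn : 1 < n) (hcop : m.Coprime n) (h : Set.range (fun x : G => (Subgroup.centralizer ({x} : Set G)).index) = ({1, m, m * n} : Set ℕ)) : m.Prime ∧ m ∣ n - 1 ∧ (∃ M : Subgroup G, M.Normal ∧ (M : Set G) = {x : G | (Subgroup.centralizer ({x} : Set G)).index = 1 ∨ (Subgroup.centralizer ({x} : Set G)).index = m} ∧ M.index = m ∧ IsMulCommutative M) ∧ (∃ N : Subgroup G, N.Normal ∧ (Nat.card N).Coprime m ∧ ∃ a : ℕ, N.index = m ^ a) ∧ ∀ P : Sylow m G, Nat.card (commutator (P : Subgroup G)) = m := by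
  classical
  have hG : Hyp G m n :=
    { hm := hm, hn := hn, hcop := hcop
      hidx := fun x => by
        have h1 : (cen x).index ∈ ({1, m, m * n} : Set ℕ) := h ▸ ⟨x, rfl⟩
        simpa using h1
      exm := by
        have h1 : m ∈ Set.range (fun x : G => (cen x).index) := by rw [h]; simp
        exact h1
      exmn := by
        have h1 : m * n ∈ Set.range (fun x : G => (cen x).index) := by rw [h]; simp
        exact h1 }
  obtain ⟨p, hp, hpm, x, hx, hxp⟩ := exists_small_pi hG
  haveI : Fact p.Prime := ⟨hp⟩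
  obtain ⟨hmp, hCn, hCab, hsmall⟩ := structure_thm hG hpm hx hxp
  subst hmp
  haveI := hCn
  set C := cen x with hC
  have hxZ := not_central_of_eq hG (Or.inl hx)
  have hZC : center G ≤ C := center_le_cen x
  have hcomm : ∀ a ∈ C, ∀ b ∈ C, a * b = b * a := fun a ha b hb => mem_cen.mp (hCab a ha hb)
  have hbig : ∀ t : G, t ∉ C → (cen t).index = m * n := fun t ht =>
    (small_or_big hG (fun h => ht (hZC h))).resolve_left fun h => ht (hsmall t h)
  have hfix : ∀ t : G, t ∉ C → ∀ c ∈ C, t * c = c * t → c ∈ center G := fun t ht c hc htc => by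
    by_contra hcZ
    exact ht ((eq_cen_of_le_small hG hx hcZ (hCab c hc)).le (mem_cen.mpr htc.symm))
  -- the index of the centre
  have hCidx : ∀ t : G, t ∉ C → Nat.card C = m * n * Nat.card (center G) := by
    intro t ht
    have h1 : cen t ⊓ C = center G := le_antisymm
      (fun c hc => hfix t ht c hc.2 (mem_cen.mp hc.1)) (le_inf (center_le_cen t) hZC)
    have h2 : C.relIndex (cen t) ∣ m := by
      have := relIndex_dvd_index_of_normal C (cen t); rwa [hx] at this
    have h3 : Nat.card (center G) * C.relIndex (cen t) = Nat.card (cen t) := by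
      rw [← h1, ← inf_relIndex_left (cen t) C]
      exact card_mul_rel inf_le_left
    have h4 : C.relIndex (cen t) = m := by
      refine ((Fact.out : m.Prime).eq_one_or_self_of_dvd _ h2).resolve_left fun h5 => ht ?_
      exact relIndex_eq_one.mp h5 (mem_cen.mpr rfl)
    have h6 := C.card_mul_index
    have h7 := (cen t).card_mul_index
    rw [hbig t ht, ← h3, h4, ← h6, hx] at h7
    exact Nat.eq_of_mul_eq_mul_right (Nat.zero_lt_of_lt hm) (by linarith)
  obtain ⟨t₀, ht₀C⟩ : ∃ t : G, t ∉ C := by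
    by_contra! hall
    have h1 : C = ⊤ := eq_top_iff.mpr fun g _ => hall g
    rw [h1, index_top] at hx
    omega
  obtain ⟨N, hNC, hNmem, hNc⟩ := exists_pprime_part (p := m) C hcomm
  have hNn : N.Normal := ⟨fun a ha g => by
    rw [hNmem] at ha ⊢
    refine ⟨Subgroup.Normal.conj_mem hCn a ha.1 g, ?_⟩
    rw [← MulAut.conj_apply, MulEquiv.orderOf_eq]
    exact ha.2⟩
  have hNco : (Nat.card N).Coprime m := by
    rw [hNc]
    exact ((Fact.out : m.Prime).coprime_iff_not_dvd.mpr
      (Nat.not_dvd_ordCompl Fact.out Nat.card_pos.ne')).symm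
  refine ⟨Fact.out, ?_, ⟨C, hCn, ?_, hx, ⟨⟨fun a b => Subtype.ext (hcomm a a.2 b b.2)⟩⟩⟩,
    ⟨N, hNn, hNco, (Nat.card C).factorization m + 1, ?_⟩, fun P => ?_⟩
  · -- `m ∣ n - 1`
    obtain ⟨i, hi⟩ : ∃ t : G, t ∉ C ∧ PElt m t := by
      by_contra hall
      push_neg at hall
      obtain ⟨P⟩ : Nonempty (Sylow m G) := inferInstance
      refine P.not_dvd_index (dvd_trans (hx ▸ dvd_rfl : m ∣ C.index) (index_dvd_of_le fun u hu => ?_))
      by_contra huC
      obtain ⟨i, hi⟩ := P.2 ⟨u, hu⟩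
      exact hall u huC ⟨i, congrArg Subtype.val hi⟩
    obtain ⟨hti, ⟨k, hk⟩⟩ := hi
    haveI := hNn
    let Γ := zpowers (MulAut.conjNormal (H := N) i)
    have hΓ : IsPGroup m Γ := IsPGroup.of_card_dvd_pow (n := k) (by
      rw [Nat.card_zpowers]
      exact orderOf_dvd_of_pow_eq_one (by rw [← map_pow, hk, map_one]))
    haveI := Fintype.ofFinite N
    have hfp := hΓ.card_modEq_card_fixedPoints N
    obtain ⟨M, hMZ, hMmem, hMc⟩ := exists_pprime_part (p := m) (center G)
      (fun a ha b _ => (mem_center_iff.mp ha b).symm)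
    have hfeq : Nat.card (MulAction.fixedPoints Γ N) = Nat.card M := by
      refine Nat.card_congr
        { toFun := fun a => ⟨((a : N) : G), ?_⟩
          invFun := fun a => ⟨⟨(a : G), (hNmem _).mpr ⟨hZC (hMZ a.2), ((hMmem _).mp a.2).2⟩⟩, ?_⟩
          left_inv := fun a => rfl
          right_inv := fun a => rfl }
      · have h1 := a.2 ⟨_, mem_zpowers _⟩
        have h2 : i * ((a : N) : G) * i⁻¹ = (a : N) := by
          have h3 := congrArg Subtype.val h1
          simpa [MulAut.conjNormal_apply] using h3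
        exact (hMmem _).mpr ⟨hfix i hti _ (hNC (a : N).2) (mul_inv_eq_iff_eq_mul.mp h2),
          ((hNmem _).mp (a : N).2).2⟩
      · rintro ⟨g, hg⟩
        obtain ⟨l, rfl⟩ := mem_zpowers_iff.mp hg
        refine Subtype.ext ?_
        show ((MulAut.conjNormal i ^ l) _ : N).1 = _
        rw [← map_zpow, MulAut.conjNormal_apply, mem_center_iff.mp (hMZ a.2) (i ^ l),
          mul_inv_cancel_right]
    rw [hfeq, hNc, hMc, hCidx i hti, Nat.ordCompl_mul, Nat.ordCompl_mul] at hfp
    have e1 : ordCompl[m] m = 1 := by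
      rw [(Fact.out : m.Prime).factorization_self, pow_one, Nat.div_self (by omega)]
    have e2 : ordCompl[m] n = n := by
      rw [Nat.factorization_eq_zero_of_not_dvd (not_dvd_n hG (Fact.out : m.Prime) dvd_rfl), pow_zero, Nat.div_one]
    rw [e1, e2, one_mul] at hfp
    set z' := ordCompl[m] (Nat.card (center G)) with hz'
    have h2 : n * z' ≡ 1 * z' [MOD m] := by rwa [one_mul]
    have h3 := Nat.ModEq.cancel_right_of_coprime (((Fact.out : m.Prime).coprime_iff_not_dvd).mpr
      (Nat.not_dvd_ordCompl Fact.out Nat.card_pos.ne')) h2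
    exact (Nat.modEq_iff_dvd' (by omega)).mp h3.symm
  · -- the set
    ext c
    simp only [SetLike.mem_coe, Set.mem_setOf_eq]
    refine ⟨fun hc => ?_, fun hc => ?_⟩
    · by_cases hcZ : c ∈ center G
      · exact Or.inl (index_one_of_center hcZ)
      · exact Or.inr (by rw [show centralizer ({c} : Set G) = C from
          eq_cen_of_le_small hG hx hcZ (hCab c hc), hx])
    · rcases hc with hc | hc
      · exact hZC (mem_center_of_index hc)
      · exact hsmall c hc
  · -- index of the complement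
    have h1 := N.card_mul_index
    rw [← C.card_mul_index, hx, hNc] at h1
    conv_rhs at h1 => rw [← Nat.ordProj_mul_ordCompl_eq_self (Nat.card C) m, mul_comm (ordProj[m] _),
      mul_assoc, ← pow_succ]
    exact Nat.eq_of_mul_eq_mul_left (Nat.ordCompl_pos m Nat.card_pos.ne') h1
  · -- the commutator subgroup of `P`
    set W := (P : Subgroup G) ⊓ C with hW
    obtain ⟨t, htP, htC⟩ : ∃ t ∈ (P : Subgroup G), t ∉ C := by
      by_contra! hall
      exact P.not_dvd_index (dvd_trans (hx ▸ dvd_rfl : m ∣ C.index) (index_dvd_of_le hall))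
    let δ : W →* G :=
      { toFun := fun w => t * w * t⁻¹ * (w : G)⁻¹
        map_one' := by simp
        map_mul' := fun a b => by
          have h2 : t * b * t⁻¹ * (b : G)⁻¹ ∈ C :=
            mul_mem (Subgroup.Normal.conj_mem hCn _ b.2.2 t) (inv_mem b.2.2)
          have h3 := hcomm _ (inv_mem a.2.2) _ h2
          simp only [Subgroup.coe_mul, mul_inv_rev]
          calc t * (↑a * ↑b) * t⁻¹ * ((b : G)⁻¹ * (a : G)⁻¹)
              = t * a * t⁻¹ * ((t * b * t⁻¹ * (b : G)⁻¹) * (a : G)⁻¹) := by group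
            _ = _ := by rw [← h3]; group }
    set I := δ.range with hI
    have hIW : I ≤ W := by
      rintro _ ⟨w, rfl⟩
      exact ⟨(P : Subgroup G).mul_mem ((P : Subgroup G).mul_mem ((P : Subgroup G).mul_mem htP w.2.1)
          ((P : Subgroup G).inv_mem htP)) ((P : Subgroup G).inv_mem w.2.1),
        C.mul_mem (Subgroup.Normal.conj_mem hCn _ w.2.2 t) (C.inv_mem w.2.2)⟩
    have hIcard : Nat.card I = m := by
      have hker : δ.ker = (center G).subgroupOf W := by
        ext w
        rw [MonoidHom.mem_ker, mem_subgroupOf]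
        show t * w * t⁻¹ * (w : G)⁻¹ = 1 ↔ _
        rw [mul_inv_eq_one, mul_inv_eq_iff_eq_mul]
        exact ⟨fun h => hfix t htC w w.2.2 h, fun h => mem_center_iff.mp h t⟩
      rw [hI, ← index_ker δ, hker]
      -- compare the `m`-parts
      haveI : (W.subgroupOf C).Normal := ⟨fun a ha g => by
        rw [show g * a = a * g from Subtype.ext (hcomm g g.2 a a.2), mul_inv_cancel_right]; exact ha⟩
      have hWv : vv m W = vv m C := by
        have h5 : C.relIndex (P : Subgroup G) ∣ m := by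
          have := relIndex_dvd_index_of_normal C (P : Subgroup G); rwa [hx] at this
        have h6 := card_mul_rel (inf_le_left : W ≤ (P : Subgroup G))
        rw [show W.relIndex (P : Subgroup G) = C.relIndex (P : Subgroup G) from inf_relIndex_left _ _] at h6
        have h7 := vv_add_index m C
        rw [hx, (Fact.out : m.Prime).factorization_self] at h7
        have h0 : C.relIndex (P : Subgroup G) ≠ 0 := fun e => by
          rw [e] at h5; exact absurd (zero_dvd_iff.mp h5) (by omega)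
        have h8 := congrArg (fun z => z.factorization m) h6
        simp only [Nat.factorization_mul Nat.card_pos.ne' h0, Finsupp.add_apply] at h8
        rw [Sylow.card_eq_multiplicity, (Fact.out : m.Prime).factorization_pow, Finsupp.single_eq_same] at h8
        have h9 := (Nat.factorization_le_iff_dvd h0 (by omega)).mpr h5 m
        rw [(Fact.out : m.Prime).factorization_self] at h9
        have := vv_mono (r := m) (inf_le_right : W ≤ C)
        simp only [vv, hW] at h7 h8 this ⊢
        omega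
      have hWZ : vv m (center G ⊓ W) = vv m (center G) := by
        refine le_antisymm (vv_mono inf_le_left) ?_
        obtain ⟨R, hRZ, hR, hRc⟩ := exists_sylow_in (r := m) (center G)
        have hle : R ≤ center G ⊓ W := fun u hu => by
          obtain ⟨i, hi⟩ := hR ⟨u, hu⟩
          exact ⟨hRZ hu, mem_of_vv (inf_le_right : W ≤ C) inferInstance hWv.ge (hZC (hRZ hu))
            ⟨i, congrArg Subtype.val hi⟩⟩
        have := vv_mono (r := m) hle
        rwa [vv, hRc, (Fact.out : m.Prime).factorization_pow, Finsupp.single_eq_same] at this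
      have h6 := ((center G).subgroupOf W).card_mul_index
      obtain ⟨e, he⟩ := IsPGroup.iff_card.mp (P.2.to_le (inf_le_left : W ≤ (P : Subgroup G)))
      obtain ⟨b, -, hb⟩ := (Nat.dvd_prime_pow Fact.out).mp (he ▸ h6 ▸ dvd_mul_left _ _ :
        ((center G).subgroupOf W).index ∣ m ^ e)
      have hc : Nat.card ((center G).subgroupOf W) = Nat.card (center G ⊓ W : Subgroup G) := by
        rw [← inf_subgroupOf_right]
        exact Nat.card_congr (subgroupOfEquivOfLe inf_le_right).toEquiv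
      rw [hc, hb] at h6
      rw [hb]
      conv_rhs => rw [← pow_one m]
      congr 1
      have h7 := congrArg (fun z => z.factorization m) h6
      simp only [Nat.factorization_mul Nat.card_pos.ne' (pow_ne_zero _ (Fact.out : m.Prime).ne_zero),
        Finsupp.add_apply, (Fact.out : m.Prime).factorization_pow, Finsupp.single_eq_same] at h7
      have h8 := congrArg (fun z => z.factorization m) (hCidx t htC)
      simp only [Nat.factorization_mul (mul_ne_zero (by omega : m ≠ 0) (by omega : n ≠ 0)) Nat.card_pos.ne',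
        Nat.factorization_mul (by omega : m ≠ 0) (by omega : n ≠ 0), Finsupp.add_apply,
        (Fact.out : m.Prime).factorization_self,
        Nat.factorization_eq_zero_of_not_dvd (not_dvd_n hG (Fact.out : m.Prime) dvd_rfl)] at h8
      simp only [vv] at hWv hWZ
      omega
    have hIc : commutator (P : Subgroup G) = I.subgroupOf (P : Subgroup G) := by
      refine le_antisymm ?_ ?_
      · -- `P` is generated by `W` and `t`, which commute modulo `I`
        have htW : ∀ v ∈ I, t * v * t⁻¹ * v⁻¹ ∈ I := fun v hv => ⟨⟨v, hIW hv⟩, rfl⟩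
        have hgen : ∀ g ∈ (P : Subgroup G), ∃ (l : ℤ) (w : W), g = t ^ l * w := by
          intro g hg
          have hidx : C.index = m := hx
          have hcyc : (QuotientGroup.mk g : G ⧸ C) ∈ zpowers (QuotientGroup.mk t : G ⧸ C) := by
            have : zpowers (QuotientGroup.mk t : G ⧸ C) = ⊤ := by
              refine eq_top_of_card_eq _ ?_
              rw [Nat.card_zpowers, ← index_eq_card, hidx]
              refine orderOf_eq_prime ?_ fun h => htC ((QuotientGroup.eq_one_iff t).mp h)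
              have := pow_card_eq_one' (x := (QuotientGroup.mk t : G ⧸ C))
              rwa [← index_eq_card, hidx] at this
            rw [this]; exact mem_top _
          obtain ⟨l, hl⟩ := mem_zpowers_iff.mp hcyc
          rw [← QuotientGroup.mk_zpow, QuotientGroup.eq] at hl
          exact ⟨l, ⟨(t ^ l)⁻¹ * g, mem_inf.mpr ⟨(P : Subgroup G).mul_mem
            ((P : Subgroup G).inv_mem ((P : Subgroup G).zpow_mem htP l)) hg, hl⟩⟩, by simp⟩
        haveI hIn : (I.subgroupOf (P : Subgroup G)).Normal := by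
          refine ⟨fun a ha g => mem_subgroupOf.mpr ?_⟩
          obtain ⟨l, w, hg⟩ := hgen g g.2
          have ha' : (a : G) ∈ I := mem_subgroupOf.mp ha
          have hin : ∀ v ∈ I, t * v * t⁻¹ ∈ I := fun v hv => by
            have := mul_mem (htW v hv) hv
            rwa [inv_mul_cancel_right] at this
          have hfix1 : I.map (MulAut.conj t).toMonoidHom = I := eq_of_le_of_card_ge
            (by rintro _ ⟨v, hv, rfl⟩; exact hin v hv)
            (Subgroup.card_map_of_injective (MulAut.conj t).injective).ge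
          have hnorm : t ∈ normalizer (I : Set G) := mem_normalizer_iff.mpr fun v =>
            ⟨hin v, fun hv => by
              rw [← hfix1] at hv
              obtain ⟨v', hv', he⟩ := hv
              exact (MulAut.conj t).injective he ▸ hv'⟩
          show (g : G) * a * (g : G)⁻¹ ∈ I
          rw [hg, show t ^ l * (w : G) * a * (t ^ l * (w : G))⁻¹ = t ^ l * ((w : G) * a * (w : G)⁻¹) * (t ^ l)⁻¹ by group,
            hcomm w w.2.2 a (hIW ha').2, mul_inv_cancel_right]
          exact (mem_normalizer_iff.mp (zpow_mem hnorm l) a).mp ha'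
        rw [_root_.commutator_def, commutator_le]
        intro a _ b _
        rw [← QuotientGroup.eq_one_iff, ← QuotientGroup.mk'_apply, map_commutatorElement,
          commutatorElement_eq_one_iff_mul_comm]
        set π := QuotientGroup.mk' (I.subgroupOf (P : Subgroup G)) with hπ
        have htw : ∀ w : W, Commute (π ⟨t, htP⟩) (π ⟨w, w.2.1⟩) := fun w => by
          rw [commute_iff_eq, ← commutatorElement_eq_one_iff_mul_comm, ← map_commutatorElement, hπ,
            QuotientGroup.mk'_apply, QuotientGroup.eq_one_iff, mem_subgroupOf]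
          exact ⟨w, rfl⟩
        have hdec : ∀ c : (P : Subgroup G), ∃ (l : ℤ) (w : W), π c = π ⟨t, htP⟩ ^ l * π ⟨w, w.2.1⟩ := fun c => by
          obtain ⟨l, w, hw⟩ := hgen c c.2
          exact ⟨l, w, by rw [← map_zpow, ← map_mul]; exact congrArg π (Subtype.ext hw)⟩
        obtain ⟨l, w, hlw⟩ := hdec a
        obtain ⟨l', w', hlw'⟩ := hdec b
        have hww : Commute (π ⟨w, w.2.1⟩) (π ⟨w', w'.2.1⟩) :=
          (show Commute (⟨w, w.2.1⟩ : (P : Subgroup G)) ⟨w', w'.2.1⟩ from
            Subtype.ext (hcomm w w.2.2 w' w'.2.2)).map π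
        rw [hlw, hlw']
        exact (((Commute.zpow_zpow_self _ l l').mul_right ((htw w').zpow_left l)).mul_left
          ((((htw w).zpow_left l').symm).mul_right hww)).eq
      · intro a ha
        obtain ⟨w, hw⟩ := mem_subgroupOf.mp ha
        have : a = ⁅(⟨t, htP⟩ : (P : Subgroup G)), ⟨(w : G), w.2.1⟩⁆ := Subtype.ext hw.symm
        rw [this]
        exact commutator_mem_commutator (mem_top _) (mem_top _)
    rw [hIc, Nat.card_congr (subgroupOfEquivOfLe (hIW.trans inf_le_left)).toEquiv, hIcard]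

end Cfsg.Agent.S4284
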