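import Cfsg.Statements.S4291
import Cfsg.Agent.S3357
import Cfsg.Agent.Lib.Perm.Zas25.SixTypes
-- import your own Cfsg.Agent.* helpers here

set_option autoImplicit false
open Cfsg

namespace Cfsg.Agent.S4291

/-- Let G be a finite group that occurs as a Frobenius complement. Then G has exactly one normal subgroup N such that every Sylow subgroup of N is cyclic and the quotient of G by N is trivial or isomorphic to one of the following five groups: the Klein four-group, the alternating group of degree 4, the symmetric group of degree 4, the alternating group of degree 5, the symmetric group of degree 5. (The quotient is described by a surjective homomorphism with kernel N; the Klein four-group is written as the dihedral group of order 4.) -/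
theorem result {G : Type*} [Group G] [Finite G]
    (hFC : (∃ (L : Type) (_ : Group L) (_ : Finite L) (H : Subgroup L), Cfsg.IsFrobeniusComplement H ∧ Nonempty (G ≃* H))) :
    ∃! N : Subgroup G, N.Normal ∧ (∀ (p : ℕ) [Fact p.Prime] (P : Sylow p N), IsCyclic P) ∧
      (N = ⊤ ∨
        (∃ f : G →* DihedralGroup 2, Function.Surjective f ∧ f.ker = N) ∨
        (∃ f : G →* alternatingGroup (Fin 4), Function.Surjective f ∧ f.ker = N) ∨
        (∃ f : G →* Equiv.Perm (Fin 4), Function.Surjective f ∧ f.ker = N) ∨
        (∃ f : G →* alternatingGroup (Fin 5), Function.Surjective f ∧ f.ker = N) ∨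
        (∃ f : G →* Equiv.Perm (Fin 5), Function.Surjective f ∧ f.ker = N)) := by
  classical
  obtain ⟨L, iL, iF, H, hH, ⟨e⟩⟩ := hFC
  obtain ⟨r, hr, n, ρ₀, hn, -, hfpf⟩ := Cfsg.Agent.S3357.fpf_rep hH
  haveI : Nonempty (Fin n) := ⟨⟨0, hn⟩⟩
  let σ : G →* Module.End (ZMod r) (Fin n → ZMod r) :=
    (Matrix.toLinAlgEquiv' (R := ZMod r) (n := Fin n)).toAlgHom.toRingHom.toMonoidHom.comp
      ((Units.coeHom (Matrix (Fin n) (Fin n) (ZMod r))).comp (ρ₀.comp e.toMonoidHom))
  have hσ : ∀ g : G, g ≠ 1 → ∀ v, σ g v = v → v = 0 := fun g hg v hv =>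
    hfpf (e g) (fun h => hg (e.injective (by rw [h, map_one]))) v hv
  obtain ⟨N, hN, hZ, ht⟩ := Cfsg.Lib.Perm.Zas25.target_exists σ hσ
  refine ⟨N, ⟨hN, fun p hp P => hZ.isZGroup p hp.out P, ht⟩, fun N' hN' => ?_⟩
  haveI := hN'.1
  haveI := hN
  haveI := hZ
  haveI : IsZGroup N' := ⟨fun p hp P => by haveI := Fact.mk hp; exact hN'.2.1 p P⟩
  exact Cfsg.Lib.Perm.Zas25.target_unique σ hσ hN'.2.2 ht

end Cfsg.Agent.S4291
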