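import Cfsg.Statements.S4292
import Cfsg.Agent.Lib.Local.TopModule
import Cfsg.Agent.Lib.Solv.ComplementExamples
import Cfsg.Agent.Lib.Solv.ComplementStructure
import Cfsg.Agent.Lib.Solv.Frobenius
import Cfsg.Agent.Lib.PGroup.Basic
import Mathlib.GroupTheory.SchurZassenhaus
import Mathlib.LinearAlgebra.Matrix.Kronecker
import Mathlib.LinearAlgebra.Dimension.Free
import Mathlib.Algebra.MonoidAlgebra.Basic
import Mathlib.GroupTheory.SpecificGroups.Cyclic

set_option linter.style.haveILetI false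

set_option autoImplicit false
open Cfsg

namespace Cfsg.Agent.S4292

open Subgroup Cfsg.Lib.Solv Cfsg.Lib.Solv.ComplementExamples
open scoped Kronecker

universe u v

/-- A fixed-point-free action as matrices. -/
theorem exists_fpf_matrix {r : ℕ} [Fact r.Prime] {H : Type} [Group H] {W : Type} [CommGroup W] [Finite W]
    [Nontrivial W] (hW : ∀ w : W, w ^ r = 1) (φ : H →* MulAut W)
    (hfpf : ∀ h : H, h ≠ 1 → ∀ w : W, φ h w = w → w = 1) :
    ∃ (n : ℕ) (ρ : H →* Matrix (Fin n) (Fin n) (ZMod r)), n ≠ 0 ∧ ∀ b : H, b ≠ 1 → IsUnit (ρ b - 1) := by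
  obtain ⟨V, i1, i2, i3, R, ev, hR⟩ := Cfsg.Lib.Local.exists_zmod_rep hW φ
  haveI : Nontrivial V := Multiplicative.ofAdd.nontrivial_congr.mpr ev.symm.toEquiv.nontrivial
  let bas := Module.finBasis (ZMod r) V
  refine ⟨_, (LinearMap.toMatrixAlgEquiv bas).toAlgHom.toMonoidHom.comp R, Module.finrank_pos.ne', fun b hb => ?_⟩
  have hinj : Function.Injective ⇑(R b - (1 : Module.End (ZMod r) V)) := by
    rw [injective_iff_map_eq_zero]
    intro v hv
    rw [LinearMap.sub_apply, Module.End.one_apply, sub_eq_zero] at hv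
    obtain ⟨w, hw⟩ := ev.surjective (Multiplicative.ofAdd v)
    have hv' : (ev w).toAdd = v := by rw [hw]; rfl
    rw [← hv', hR] at hv
    have : w = 1 := hfpf b hb w (ev.injective (Multiplicative.toAdd.injective hv))
    rw [← hv', this, map_one, toAdd_one]
  have hu : IsUnit (R b - (1 : Module.End (ZMod r) V)) := (Module.End.isUnit_iff _).mpr
    ⟨hinj, LinearMap.injective_iff_surjective.mp hinj⟩
  have := hu.map (LinearMap.toMatrixAlgEquiv bas).toAlgHom
  rw [map_sub, map_one] at this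
  exact this

/-- A fixed-point-free representation over a prime field. -/
theorem exists_fpf_zmod {L : Type} [Group L] [Finite L] {H : Subgroup L}
    (hH : Cfsg.IsFrobeniusComplement H) :
    ∃ (r : ℕ) (_ : Fact r.Prime) (n : ℕ) (ρ : H →* Matrix (Fin n) (Fin n) (ZMod r)), n ≠ 0 ∧
      ¬ r ∣ Nat.card H ∧ ∀ b : H, b ≠ 1 → IsUnit (ρ b - 1) := by
  classical
  obtain ⟨K, hKeq, hKn, hKc⟩ := frobenius_theorem hH
  obtain ⟨y, hy, hy1⟩ := exists_mem_frobeniusKernel_ne_one hH
  have hyK : y ∈ K := SetLike.mem_coe.mp (hKeq ▸ hy)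
  have hK : K ≠ ⊥ := fun h => hy1 (mem_bot.mp (h ▸ hyK))
  have hidx : K.index = Nat.card H := hKc.symm.index_eq_card
  have hcop : (Nat.card K).Coprime (Nat.card H) := by
    rw [← hKc.index_eq_card]; exact (frob_coprime hH).symm
  obtain ⟨r, hr, hrK⟩ := Nat.exists_prime_and_dvd (fun h => hK (card_eq_one.mp h))
  haveI : Fact r.Prime := ⟨hr⟩
  obtain ⟨R⟩ : Nonempty (Sylow r K) := inferInstance
  set N := normalizer (((R : Subgroup K).map K.subtype : Subgroup L) : Set L) with hN
  have hsup : N ⊔ K = ⊤ := Sylow.normalizer_sup_eq_top R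
  haveI : (K.subgroupOf N).Normal := inferInstance
  have hidxN : (K.subgroupOf N).index = Nat.card H := by
    show K.relIndex N = Nat.card H
    rw [← hidx, ← relIndex_top_right K, ← hsup, relIndex_sup_right]
  have hcopN : (Nat.card (K.subgroupOf N)).Coprime (K.subgroupOf N).index := by
    rw [hidxN]
    refine hcop.coprime_dvd_left ?_
    rw [← card_map_of_injective N.subtype_injective]
    exact card_dvd_of_le (by rintro _ ⟨x, hx, rfl⟩; exact hx)
  obtain ⟨C, hC⟩ := exists_right_complement'_of_coprime hcopN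
  let θ : C →* L ⧸ K := (QuotientGroup.mk' K).comp (N.subtype.comp C.subtype)
  have hθi : Function.Injective θ := (injective_iff_map_eq_one θ).mpr fun c hc => by
    have h1 : (c : N) ∈ K.subgroupOf N := (QuotientGroup.eq_one_iff ((c : N) : L)).mp hc
    exact Subtype.ext (mem_bot.mp (hC.disjoint.eq_bot ▸ mem_inf.mpr ⟨h1, c.2⟩))
  have hcardC : Nat.card C = Nat.card H := hC.symm.index_eq_card.symm.trans hidxN
  let η : H →* L ⧸ K := (QuotientGroup.mk' K).comp H.subtype
  have hηi : Function.Injective η := (injective_iff_map_eq_one η).mpr fun c hc => by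
    have h1 : (c : L) ∈ K := (QuotientGroup.eq_one_iff _).mp hc
    exact Subtype.ext (mem_bot.mp (hKc.disjoint.eq_bot ▸ mem_inf.mpr ⟨h1, c.2⟩))
  have hcardQ : Nat.card (L ⧸ K) = Nat.card H := hidx
  let e : H ≃* C := (MulEquiv.ofBijective η ((Nat.bijective_iff_injective_and_card η).mpr ⟨hηi, hcardQ.symm⟩)).trans
    (MulEquiv.ofBijective θ ((Nat.bijective_iff_injective_and_card θ).mpr ⟨hθi, hcardC.trans hcardQ.symm⟩)).symm
  -- the module
  set Z := (Cfsg.omegaOne r (center (R : Subgroup K))).map ((K.subtype).comp (R : Subgroup K).subtype) with hZ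
  have hea0 : Cfsg.IsElementaryAbelian r (Cfsg.omegaOne r (center (R : Subgroup K))) := by
    have hle : ∀ x ∈ Cfsg.omegaOne r (center (R : Subgroup K)), x ∈ center (R : Subgroup K) ∧ x ^ r = 1 := by
      intro x hx
      induction hx using closure_induction with
      | mem x hx => exact ⟨hx.1, hx.2⟩
      | one => exact ⟨one_mem _, one_pow r⟩
      | mul a b _ _ iha ihb => exact ⟨mul_mem iha.1 ihb.1, by
          rw [(show Commute a b from (mem_center_iff.mp iha.1 b).symm).mul_pow, iha.2, ihb.2, one_mul]⟩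
      | inv a _ iha => exact ⟨inv_mem iha.1, by rw [inv_pow, iha.2, inv_one]⟩
    exact ⟨⟨⟨fun a b => Subtype.ext ((mem_center_iff.mp (hle a a.2).1 b).symm)⟩⟩, fun a ha => (hle a ha).2⟩
  have hea : Cfsg.IsElementaryAbelian r Z := Cfsg.Lib.PGroup.isElementaryAbelian_map hea0 _
  have hZne : Z ≠ ⊥ := by
    intro h
    rw [hZ, Subgroup.map_eq_bot_iff_of_injective _ (f := K.subtype.comp (R : Subgroup K).subtype) ((subtype_injective K).comp (subtype_injective (R : Subgroup K)))] at h
    haveI : Nontrivial (R : Subgroup K) := (nontrivial_iff_ne_bot _).mpr (R.ne_bot_of_dvd_card hrK)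
    obtain ⟨z, -, hz, ho⟩ := Cfsg.Lib.PGroup.exists_mem_center_orderOf_eq R.2
      (N := (⊤ : Subgroup (R : Subgroup K))) top_ne_bot
    have hz1 : z ∈ Cfsg.omegaOne r (center (R : Subgroup K)) :=
      subset_closure ⟨hz, by simpa only [ho] using pow_orderOf_eq_one z⟩
    rw [h, mem_bot] at hz1
    rw [hz1, orderOf_one] at ho
    exact hr.one_lt.ne ho
  have hZK : Z ≤ K := by rintro _ ⟨x, _, rfl⟩; exact (x : K).2
  have hinv : ∀ g ∈ N, ∀ z ∈ Z, g * z * g⁻¹ ∈ Z := by
    rintro g hg _ ⟨x, hx, rfl⟩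
    have hmem : ∀ y : (R : Subgroup K), g * ((y : K) : L) * g⁻¹ ∈ (R : Subgroup K).map K.subtype := fun y =>
      (mem_normalizer_iff.mp hg ((y : K) : L)).mp (mem_map_of_mem K.subtype y.2)
    choose f hf hfe using fun y => hmem y
    let φ : (R : Subgroup K) →* (R : Subgroup K) := MonoidHom.mk' (fun y => ⟨f y, hf y⟩) fun a b => by
      refine Subtype.ext (Subtype.ext ?_)
      show K.subtype (f (a * b)) = K.subtype (f a) * K.subtype (f b)
      rw [hfe, hfe, hfe]
      simp [mul_assoc]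
    have hφi : Function.Injective φ := (injective_iff_map_eq_one φ).mpr fun a ha => by
      have h1 := hfe a
      rw [show f a = 1 from congrArg Subtype.val ha, map_one] at h1
      exact Subtype.ext (Subtype.ext (conj_eq_one_iff.mp h1.symm))
    refine ⟨φ x, ?_, hfe x⟩
    have hsurj : Function.Surjective φ := Finite.injective_iff_surjective.mp hφi
    have hcen : ∀ z ∈ center (R : Subgroup K), φ z ∈ center (R : Subgroup K) := fun z hz =>
      mem_center_iff.mpr fun w => by
        obtain ⟨w', rfl⟩ := hsurj w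
        rw [← map_mul, ← map_mul, mem_center_iff.mp hz w']
    induction hx using closure_induction with
    | mem x hx => exact subset_closure ⟨hcen x hx.1, by show φ x ^ r = 1; rw [← map_pow, hx.2, map_one]⟩
    | one => rw [map_one]; exact one_mem _
    | mul a b _ _ iha ihb => rw [map_mul]; exact mul_mem iha ihb
    | inv a _ iha => rw [map_inv]; exact inv_mem iha
  haveI : Nontrivial Z := (nontrivial_iff_ne_bot Z).mpr hZne
  let φ : H →* MulAut Z := MonoidHom.mk' (fun h =>
    { toFun := fun z => ⟨((e h : N) : L) * z * ((e h : N) : L)⁻¹, hinv _ (e h : N).2 _ z.2⟩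
      invFun := fun z => ⟨((e h : N) : L)⁻¹ * z * (((e h : N) : L)⁻¹)⁻¹, hinv _ (inv_mem (e h : N).2) _ z.2⟩
      left_inv := fun z => Subtype.ext (by simp [mul_assoc])
      right_inv := fun z => Subtype.ext (by simp [mul_assoc])
      map_mul' := fun z w => Subtype.ext (by simp [mul_assoc]) }) fun a b =>
    MulEquiv.ext fun z => Subtype.ext (by simp [mul_assoc])
  obtain ⟨n, ρ, hn, hρ⟩ := @exists_fpf_matrix r _ H _ Z { (inferInstance : Group Z) with mul_comm := hea.1.is_comm.comm } _ _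
    (fun z => Subtype.ext (hea.2 _ z.2)) φ fun b hb x hx' => by
      set c : L := ((e b : N) : L) with hc
      set z : L := (x : L) with hz
      have hcz : c * z * c⁻¹ = z := congrArg Subtype.val hx'
      have hcK : c ∉ K := fun h => hb (e.injective (by
        rw [map_one]
        exact Subtype.ext (mem_bot.mp (hC.disjoint.eq_bot ▸ mem_inf.mpr ⟨mem_subgroupOf.mpr h, (e b).2⟩))))
      have hc1 : c ≠ 1 := fun h => hcK (h ▸ one_mem K)
      have hcker : c ∉ Cfsg.frobeniusKernel H := fun h => hcK (SetLike.mem_coe.mp (hKeq.symm ▸ h))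
      rw [mem_frobeniusKernel_iff, not_or, not_forall] at hcker
      obtain ⟨g, hg⟩ := hcker.2
      rw [not_not] at hg
      have hzH : g⁻¹ * z * g ∈ H := by
        refine centralizer_le_frobenius hH hg (fun h => hc1 ?_) (mem_centralizer_singleton_iff.mpr ?_)
        · have := congrArg (fun t => g * t * g⁻¹) h
          simpa [mul_assoc] using this
        · have hcz' : c * z = z * c := mul_inv_eq_iff_eq_mul.mp hcz
          calc g⁻¹ * z * g * (g⁻¹ * c * g) = g⁻¹ * (z * c) * g := by group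
            _ = _ := by rw [← hcz']; group
      have hz1 : g⁻¹ * z * g = 1 := mem_bot.mp (hKc.disjoint.eq_bot ▸ mem_inf.mpr
        ⟨by simpa using hKn.conj_mem z (hZK x.2) g⁻¹, hzH⟩)
      have : z = 1 := by
        have := congrArg (fun t => g * t * g⁻¹) hz1
        simpa [mul_assoc] using this
      exact Subtype.ext this
  exact ⟨r, inferInstance, n, ρ, hn, fun hd => hr.coprime_iff_not_dvd.mp (hcop.coprime_dvd_left hrK) hd, hρ⟩

/-- Congruence subgroups are `r`-groups. -/
theorem exists_pow_eq_one {r k n : ℕ} [Fact r.Prime] (u : Matrix (Fin n) (Fin n) (ZMod (r ^ k)))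
    (hu : ∃ y, u = 1 + (r : ZMod (r ^ k)) • y) : u ^ r ^ k = 1 := by
  obtain ⟨y, rfl⟩ := hu
  suffices h : ∀ j, ∃ z, (1 + (r : ZMod (r ^ k)) • y) ^ r ^ j = 1 + ((r : ZMod (r ^ k)) ^ (j + 1)) • z by
    obtain ⟨z, hz⟩ := h k
    rw [hz, pow_succ, ← Nat.cast_pow, ZMod.natCast_self, zero_mul, zero_smul, add_zero]
  intro j
  induction j with
  | zero => exact ⟨y, by rw [pow_zero, pow_one, Nat.zero_add, pow_one]⟩
  | succ j ih =>
    obtain ⟨z, hz⟩ := ih
    set a := (r : ZMod (r ^ k)) ^ (j + 1) with ha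
    set w := 1 + a • z with hw
    have hdiv : ∀ i, ∃ t, w ^ i = 1 + a • t := by
      intro i
      induction i with
      | zero => exact ⟨0, by simp⟩
      | succ i ihi =>
        obtain ⟨t, ht⟩ := ihi
        exact ⟨t + z + a • (t * z), by
          rw [pow_succ, ht, hw, mul_add, mul_one, add_mul, one_mul, smul_mul_assoc, mul_smul_comm,
            smul_add, smul_add]
          abel⟩
    choose t ht using hdiv
    have hsum : ∑ i ∈ Finset.range r, w ^ i = (r : ZMod (r ^ k)) • (1 + (r : ZMod (r ^ k)) ^ j • ∑ i ∈ Finset.range r, t i) := by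
      rw [smul_add, smul_smul, ← pow_succ', ← ha, Finset.sum_congr rfl fun i _ => ht i, Finset.sum_add_distrib,
        Finset.sum_const, Finset.card_range, Finset.smul_sum, Nat.cast_smul_eq_nsmul]
    refine ⟨(1 + (r : ZMod (r ^ k)) ^ j • ∑ i ∈ Finset.range r, t i) * z, ?_⟩
    rw [pow_succ r j, pow_mul, hz]
    have h := geom_sum_mul w r
    have hwa : w - 1 = a • z := by rw [hw, add_sub_cancel_left]
    rw [hwa, hsum] at h
    rw [← sub_add_cancel (w ^ r) 1, ← h, add_comm, smul_mul_assoc, mul_smul_comm, smul_smul, ← pow_succ']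

/-- Invertibility can be tested modulo `r`. -/
theorem isUnit_of_map {r k n : ℕ} [Fact r.Prime] (hk : k ≠ 0) (u : Matrix (Fin n) (Fin n) (ZMod (r ^ k)))
    (h : IsUnit ((ZMod.castHom (dvd_pow_self r hk) (ZMod r)).mapMatrix u)) : IsUnit u := by
  haveI : NeZero (r ^ k) := ⟨pow_ne_zero _ (Fact.out : r.Prime).ne_zero⟩
  set f := ZMod.castHom (dvd_pow_self r hk) (ZMod r) with hf
  have hfs : Function.Surjective f := ZMod.castHom_surjective _
  obtain ⟨v, hv⟩ := h.exists_right_inv
  choose g hg using hfs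
  set v' := v.map g with hv'
  have hfv : f.mapMatrix v' = v := Matrix.ext fun i j => hg (v i j)
  have hred : f.mapMatrix (u * v' - 1) = 0 := by rw [map_sub, map_mul, hfv, hv, map_one, sub_self]
  have hdiv : ∀ x : ZMod (r ^ k), f x = 0 → ∃ y, x = (r : ZMod (r ^ k)) * y := fun x hx => by
    rw [hf, ← ZMod.natCast_zmod_val x, map_natCast, ZMod.natCast_eq_zero_iff] at hx
    obtain ⟨c, hc⟩ := hx
    exact ⟨(c : ZMod (r ^ k)), by rw [← ZMod.natCast_zmod_val x, hc, Nat.cast_mul]⟩
  choose y hy using fun i j => hdiv ((u * v' - 1) i j) (congrFun (congrFun hred i) j)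
  have huv : (u * v') ^ r ^ k = 1 := exists_pow_eq_one _ ⟨Matrix.of y, Matrix.ext fun i j => by
    have := hy i j
    rw [Matrix.sub_apply, sub_eq_iff_eq_add'] at this
    rw [Matrix.add_apply, Matrix.smul_apply, Matrix.of_apply, smul_eq_mul]
    exact this⟩
  have hu2 : IsUnit (u * v') := IsUnit.of_pow_eq_one huv (pow_ne_zero _ (Fact.out : r.Prime).ne_zero)
  obtain ⟨w, hw⟩ := hu2.exists_right_inv
  rw [mul_assoc] at hw
  exact IsUnit.of_mul_eq_one _ hw

/-- Lifting a coprime representation modulo `r ^ k`. -/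
theorem exists_lift {r n : ℕ} [Fact r.Prime] {H : Type*} [Group H] [Finite H] (hr : ¬ r ∣ Nat.card H)
    (ρ : H →* Matrix (Fin n) (Fin n) (ZMod r)) (hρ : ∀ b : H, b ≠ 1 → IsUnit (ρ b - 1)) (k : ℕ) :
    ∃ σ : H →* Matrix (Fin n) (Fin n) (ZMod (r ^ (k + 1))),
      ∀ b : H, b ≠ 1 → ∑ i ∈ Finset.range (orderOf b), σ b ^ i = 0 := by
  classical
  haveI : NeZero (r ^ (k + 1)) := ⟨pow_ne_zero _ (Fact.out : r.Prime).ne_zero⟩
  set f := ZMod.castHom (dvd_pow_self r (Nat.succ_ne_zero k)) (ZMod r) with hf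
  let F := f.mapMatrix (m := Fin n)
  let U : (Matrix (Fin n) (Fin n) (ZMod (r ^ (k + 1))))ˣ →* (Matrix (Fin n) (Fin n) (ZMod r))ˣ :=
    Units.map F.toMonoidHom
  have hUs : Function.Surjective U := fun x => by
    choose g hg using (ZMod.castHom_surjective (dvd_pow_self r (Nat.succ_ne_zero k)) : Function.Surjective f)
    have hx : F ((x : Matrix (Fin n) (Fin n) (ZMod r)).map g) = x := Matrix.ext fun i j => hg _
    have hu : IsUnit ((x : Matrix (Fin n) (Fin n) (ZMod r)).map g) :=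
      isUnit_of_map (Nat.succ_ne_zero k) _ (by
        show IsUnit (F _)
        rw [hx]; exact x.isUnit)
    exact ⟨hu.unit, Units.ext hx⟩
  let P : Subgroup (H × (Matrix (Fin n) (Fin n) (ZMod (r ^ (k + 1))))ˣ) :=
    MonoidHom.eqLocus (U.comp (MonoidHom.snd H _)) (ρ.toHomUnits.comp (MonoidHom.fst H _))
  let π : P →* H := (MonoidHom.fst H _).comp P.subtype
  have hπs : Function.Surjective π := fun h => by
    obtain ⟨g, hg⟩ := hUs (ρ.toHomUnits h)
    exact ⟨⟨(h, g), hg⟩, rfl⟩
  have hker : IsPGroup r π.ker := by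
    rintro ⟨⟨⟨h, g⟩, hg⟩, hh⟩
    refine ⟨k + 1, ?_⟩
    have hh1 : h = 1 := hh
    subst hh1
    have hg1 : U g = 1 := by
      have : U g = ρ.toHomUnits 1 := hg
      rwa [map_one] at this
    have hdiv : ∀ x : ZMod (r ^ (k + 1)), f x = 0 → ∃ y, x = (r : ZMod (r ^ (k + 1))) * y := fun x hx => by
      rw [hf, ← ZMod.natCast_zmod_val x, map_natCast, ZMod.natCast_eq_zero_iff] at hx
      obtain ⟨c, hc⟩ := hx
      exact ⟨(c : ZMod (r ^ (k + 1))), by rw [← ZMod.natCast_zmod_val x, hc, Nat.cast_mul]⟩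
    have hred : F ((g : Matrix (Fin n) (Fin n) (ZMod (r ^ (k + 1)))) - 1) = 0 := by
      rw [map_sub, map_one, show F (g : Matrix (Fin n) (Fin n) (ZMod (r ^ (k + 1)))) = 1 from congrArg Units.val hg1, sub_self]
    choose y hy using fun i j => hdiv _ (congrFun (congrFun hred i) j)
    have hpow := exists_pow_eq_one (g : Matrix (Fin n) (Fin n) (ZMod (r ^ (k + 1)))) ⟨Matrix.of y,
      Matrix.ext fun i j => by
        have := hy i j
        rw [Matrix.sub_apply, sub_eq_iff_eq_add'] at this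
        rw [Matrix.add_apply, Matrix.smul_apply, Matrix.of_apply, smul_eq_mul]
        exact this⟩
    have hgp : g ^ r ^ (k + 1) = 1 := Units.ext (by rw [Units.val_pow_eq_pow_val, hpow, Units.val_one])
    exact Subtype.ext (Subtype.ext (Prod.ext (one_pow _) hgp))
  have hidx : π.ker.index = Nat.card H := by
    rw [index_ker, MonoidHom.range_eq_top.mpr hπs, card_top]
  obtain ⟨C, hC⟩ := exists_right_complement'_of_coprime (N := π.ker) (by
    obtain ⟨j, hj⟩ := IsPGroup.iff_card.mp hker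
    rw [hj, hidx]
    exact ((Fact.out : r.Prime).coprime_iff_not_dvd.mpr hr).pow_left j)
  let θ : C →* H := π.comp C.subtype
  have hθ : Function.Bijective θ := (Nat.bijective_iff_injective_and_card θ).mpr
    ⟨(injective_iff_map_eq_one θ).mpr fun c hc =>
      Subtype.ext (mem_bot.mp (hC.disjoint.eq_bot ▸ mem_inf.mpr ⟨hc, c.2⟩)),
      hC.symm.index_eq_card.symm.trans hidx⟩
  let e := MulEquiv.ofBijective θ hθ
  let σ : H →* Matrix (Fin n) (Fin n) (ZMod (r ^ (k + 1))) :=
    ((Units.coeHom _).comp ((MonoidHom.snd H _).comp (P.subtype.comp C.subtype))).comp e.symm.toMonoidHom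
  refine ⟨σ, fun b hb => ?_⟩
  have hFb : F (σ b) = ρ b := by
    have h1 : π (e.symm b : P) = b := e.apply_symm_apply b
    have h2 : U ((e.symm b).1).1.2 = ρ.toHomUnits ((e.symm b).1).1.1 := ((e.symm b).1).2
    rw [show ((e.symm b).1).1.1 = b from h1] at h2
    exact congrArg Units.val h2
  have hu : IsUnit (σ b - 1) := isUnit_of_map (Nat.succ_ne_zero k) _ (by
    show IsUnit (F _)
    rw [map_sub, map_one, hFb]; exact hρ b hb)
  have h := geom_sum_mul (σ b) (orderOf b)
  rw [← map_pow, pow_orderOf_eq_one, map_one, sub_self] at h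
  exact hu.mul_left_eq_zero.mp h

/-- An integral representation in which all power sums vanish. -/
theorem exists_int_rep {H : Type} [Group H] [Finite H] {r n : ℕ} [Fact r.Prime] (hn : n ≠ 0)
    (hr : ¬ r ∣ Nat.card H) (ρ : H →* Matrix (Fin n) (Fin n) (ZMod r))
    (hρ : ∀ b : H, b ≠ 1 → IsUnit (ρ b - 1)) :
    ∃ (m : ℕ) (τ : H →* Matrix (Fin m) (Fin m) ℤ), m ≠ 0 ∧
      ∀ b : H, b ≠ 1 → ∑ i ∈ Finset.range (orderOf b), τ b ^ i = 0 := by
  classical
  choose σ hσ using fun k => exists_lift hr ρ hρ k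
  let R := MonoidAlgebra ℤ H
  let F : ∀ k, R →ₐ[ℤ] Matrix (Fin n) (Fin n) (ZMod (r ^ (k + 1))) := fun k =>
    MonoidAlgebra.lift ℤ (Matrix (Fin n) (Fin n) (ZMod (r ^ (k + 1)))) H (σ k)
  let J : Submodule ℤ R :=
    { carrier := {x | ∃ a : ℤ, a ≠ 0 ∧ ∀ k, F k (a • x) = 0}
      zero_mem' := ⟨1, one_ne_zero, fun k => by simp⟩
      add_mem' := by
        rintro x y ⟨a, ha, hax⟩ ⟨c, hc, hcy⟩
        refine ⟨a * c, mul_ne_zero ha hc, fun k => ?_⟩
        rw [smul_add, map_add, mul_comm a c, mul_smul c a x, map_zsmul, hax k, smul_zero, zero_add,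
          mul_comm c a, mul_smul a c y, map_zsmul, hcy k, smul_zero]
      smul_mem' := by
        rintro c x ⟨a, ha, hax⟩
        exact ⟨a, ha, fun k => by rw [smul_comm, map_zsmul, hax k, smul_zero]⟩ }
  haveI : Module.Finite ℤ R := Module.Finite.equiv (MonoidAlgebra.coeffLinearEquiv ℤ).symm
  haveI : Module.IsTorsionFree ℤ (R ⧸ J) := by
    refine Module.isTorsionFree_iff_smul_eq_zero.mpr fun a x hax => ?_
    obtain ⟨x, rfl⟩ := Submodule.Quotient.mk_surjective J x
    rw [← Submodule.Quotient.mk_smul, Submodule.Quotient.mk_eq_zero] at hax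
    obtain ⟨c, hc, hcx⟩ := hax
    by_cases ha : a = 0
    · exact Or.inl ha
    refine Or.inr ((Submodule.Quotient.mk_eq_zero J).mpr ⟨c * a, mul_ne_zero hc ha, fun k => ?_⟩)
    rw [mul_smul]; exact hcx k
  haveI : Module.Free ℤ (R ⧸ J) := Module.free_of_finite_type_torsion_free'
  haveI : Nontrivial (R ⧸ J) := by
    refine ⟨Submodule.Quotient.mk 1, 0, fun h => ?_⟩
    obtain ⟨a, ha, hak⟩ := (Submodule.Quotient.mk_eq_zero J).mp h
    refine ha ?_
    by_contra ha0
    have hk := hak a.natAbs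
    rw [map_zsmul, map_one] at hk
    have h00 := congrFun (congrFun hk ⟨0, Nat.pos_of_ne_zero hn⟩) ⟨0, Nat.pos_of_ne_zero hn⟩
    rw [Matrix.smul_apply, Matrix.one_apply_eq, zsmul_one, Matrix.zero_apply,
      ZMod.intCast_zmod_eq_zero_iff_dvd] at h00
    have hle := Nat.le_of_dvd (Int.natAbs_pos.mpr ha0) (Int.natCast_dvd.mp h00)
    exact absurd ((Nat.lt_succ_self a.natAbs).trans (Nat.lt_pow_self (Fact.out : r.Prime).one_lt)) (not_lt.mpr hle)
  let bas := Module.finBasis ℤ (R ⧸ J)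
  have hinv : ∀ (h : H), J ≤ J.comap (LinearMap.mulLeft ℤ (MonoidAlgebra.of ℤ H h)) := by
    rintro h x ⟨a, ha, hax⟩
    refine ⟨a, ha, fun k => ?_⟩
    rw [LinearMap.mulLeft_apply, ← mul_smul_comm, map_mul, hax k, mul_zero]
  let μ : H →* Module.End ℤ (R ⧸ J) :=
    { toFun := fun h => J.mapQ J (LinearMap.mulLeft ℤ (MonoidAlgebra.of ℤ H h)) (hinv h)
      map_one' := LinearMap.ext fun x => by
        obtain ⟨x, rfl⟩ := Submodule.Quotient.mk_surjective J x
        simp [← MonoidAlgebra.one_def]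
      map_mul' := fun a b => LinearMap.ext fun x => by
        obtain ⟨x, rfl⟩ := Submodule.Quotient.mk_surjective J x
        rw [Module.End.mul_apply, Submodule.mapQ_apply, Submodule.mapQ_apply, Submodule.mapQ_apply,
          LinearMap.mulLeft_apply, LinearMap.mulLeft_apply, LinearMap.mulLeft_apply, map_mul, mul_assoc] }
  refine ⟨_, (LinearMap.toMatrixAlgEquiv bas).toAlgHom.toMonoidHom.comp μ, Module.finrank_pos.ne', fun b hb => ?_⟩
  have hμ : ∑ i ∈ Finset.range (orderOf b), μ b ^ i = 0 := by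
    refine LinearMap.ext fun x => ?_
    obtain ⟨x, rfl⟩ := Submodule.Quotient.mk_surjective J x
    simp only [← map_pow, LinearMap.sum_apply, LinearMap.zero_apply]
    show ∑ i ∈ Finset.range (orderOf b), J.mkQ (MonoidAlgebra.of ℤ H (b ^ i) * x) = 0
    rw [← map_sum, ← Finset.sum_mul, Submodule.mkQ_apply, Submodule.Quotient.mk_eq_zero]
    refine ⟨1, one_ne_zero, fun k => ?_⟩
    rw [one_smul, map_mul, map_sum]
    have hb' : F k (MonoidAlgebra.of ℤ H b) = σ k b := MonoidAlgebra.lift_of (σ k) b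
    simp only [map_pow, hb']
    rw [hσ k b hb, zero_mul]
  have h := congrArg (LinearMap.toMatrixAlgEquiv bas) hμ
  simp only [map_sum, map_pow, map_zero] at h
  exact h

theorem int_rep_of_occurs {A : Type u} [Group A] [Finite A] (h : OccursAsComplement A) :
    ∃ (m : ℕ) (τ : A →* Matrix (Fin m) (Fin m) ℤ), m ≠ 0 ∧
      ∀ b : A, b ≠ 1 → ∑ i ∈ Finset.range (orderOf b), τ b ^ i = 0 := by
  obtain ⟨L, _, _, H, hH, ⟨e⟩⟩ := h
  obtain ⟨r, hr, n, ρ, hn, hrH, hρ⟩ := exists_fpf_zmod hH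
  obtain ⟨m, τ, hm, hτ⟩ := exists_int_rep hn hrH ρ hρ
  refine ⟨m, τ.comp e.toMonoidHom, hm, fun b hb => ?_⟩
  rw [show orderOf b = orderOf (e b) from (MulEquiv.orderOf_eq e b).symm]
  exact hτ (e b) fun h => hb (e.injective (h.trans (map_one e).symm))

/-- Summing `x ^ i ⊗ y ^ i` over a full period of a pair of coprime periods. -/
theorem sum_kronecker {a b m n : ℕ} (ha : a ≠ 0) (hb : b ≠ 0) (hab : a.Coprime b)
    (x : Matrix (Fin m) (Fin m) ℤ) (y : Matrix (Fin n) (Fin n) ℤ) (hx : x ^ a = 1) (hy : y ^ b = 1) :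
    ∑ i ∈ Finset.range (a * b), (x ^ i) ⊗ₖ (y ^ i) =
      (∑ i ∈ Finset.range a, x ^ i) ⊗ₖ (∑ j ∈ Finset.range b, y ^ j) := by
  rw [show (∑ i ∈ Finset.range a, x ^ i) ⊗ₖ (∑ j ∈ Finset.range b, y ^ j) =
    ∑ q ∈ Finset.range a ×ˢ Finset.range b, (x ^ q.1) ⊗ₖ (y ^ q.2) from Matrix.ext fun u v => by
      rw [Matrix.sum_apply, Finset.sum_product]
      simp only [Matrix.kroneckerMap_apply, Matrix.sum_apply, Finset.sum_mul_sum]]
  refine Finset.sum_nbij' (fun i => (i % a, i % b)) (fun q => ((Nat.chineseRemainder hab q.1 q.2 : ℕ)))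
    ?_ ?_ ?_ ?_ ?_
  · intro i hi
    simp [Nat.mod_lt _ (Nat.pos_of_ne_zero ha), Nat.mod_lt _ (Nat.pos_of_ne_zero hb)]
  · intro q hq
    exact Finset.mem_range.mpr (Nat.chineseRemainder_lt_mul hab _ _ ha hb)
  · intro i hi
    have hlt := Finset.mem_range.mp hi
    refine Nat.ModEq.eq_of_lt_of_lt ?_ (Nat.chineseRemainder_lt_mul hab _ _ ha hb) hlt
    exact (Nat.chineseRemainder_modEq_unique hab (Nat.mod_modEq i a).symm (Nat.mod_modEq i b).symm).symm
  · intro q hq
    simp only [Finset.mem_product, Finset.mem_range] at hq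
    refine Prod.ext ?_ ?_
    · exact Eq.trans (Nat.chineseRemainder hab q.1 q.2).2.1 (Nat.mod_eq_of_lt hq.1)
    · exact Eq.trans (Nat.chineseRemainder hab q.1 q.2).2.2 (Nat.mod_eq_of_lt hq.2)
  · intro i hi
    show (x ^ i) ⊗ₖ (y ^ i) = (x ^ (i % a)) ⊗ₖ (y ^ (i % b))
    have h1 : ∀ {k c : ℕ} (M : Matrix (Fin k) (Fin k) ℤ), M ^ c = 1 → M ^ i = M ^ (i % c) := fun {k c} M h => by
      conv_lhs => rw [← Nat.mod_add_div i c, pow_add, pow_mul, h, one_pow, mul_one]
    rw [← h1 x hx, ← h1 y hy]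

theorem occurs_prod {A : Type u} {B : Type v} [Group A] [Finite A] [Nontrivial A] [Group B] [Finite B]
    (hA : OccursAsComplement A) (hB : OccursAsComplement B) (hcop : (Nat.card A).Coprime (Nat.card B)) :
    OccursAsComplement (A × B) := by
  classical
  obtain ⟨m, σ, hm, hσ⟩ := int_rep_of_occurs hA
  obtain ⟨n, τ, hn, hτ⟩ := int_rep_of_occurs hB
  let ε := Matrix.reindexAlgEquiv ℤ ℤ (finProdFinEquiv (m := m) (n := n))
  let ρ₀ : A × B →* Matrix (Fin m × Fin n) (Fin m × Fin n) ℤ :=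
    { toFun := fun g => (σ g.1) ⊗ₖ (τ g.2)
      map_one' := by simp
      map_mul' := fun g h => by simp [Matrix.mul_kronecker_mul] }
  obtain ⟨q, hq1, hq2⟩ := Nat.exists_infinite_primes (Nat.card (A × B) + 1)
  haveI : Fact q.Prime := ⟨hq2⟩
  refine occurs_of_matrix (Nat.mul_ne_zero hm hn) (ε.toAlgHom.toMonoidHom.comp ρ₀) (fun g hg => ?_) q
    (fun hd => by have := Nat.le_of_dvd Nat.card_pos hd; omega) (Int.castRingHom _)
  obtain ⟨x, y⟩ := g
  have hco : (orderOf x).Coprime (orderOf y) :=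
    (hcop.coprime_dvd_left (orderOf_dvd_natCard x)).coprime_dvd_right (orderOf_dvd_natCard y)
  have hzero : ∑ i ∈ Finset.range (orderOf (x, y)), ρ₀ (x, y) ^ i = 0 := by
    have h1 : ∀ i, ρ₀ (x, y) ^ i = (σ x ^ i) ⊗ₖ (τ y ^ i) := fun i => by
      rw [← map_pow, ← map_pow σ, ← map_pow τ]; rfl
    rw [Finset.sum_congr rfl fun i _ => h1 i, Prod.orderOf, hco.lcm_eq_mul,
      sum_kronecker (orderOf_pos x).ne' (orderOf_pos y).ne' hco _ _
        (by rw [← map_pow, pow_orderOf_eq_one, map_one]) (by rw [← map_pow, pow_orderOf_eq_one, map_one])]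
    by_cases hx : x = 1
    · have hy : y ≠ 1 := fun h => hg (Prod.ext hx h)
      rw [hτ y hy, Matrix.kronecker_zero]
    · rw [hσ x hx, Matrix.zero_kronecker]
  have h := congrArg ε hzero
  simp only [map_sum, map_pow, map_zero] at h
  exact h

theorem occurs_subgroup {A : Type u} [Group A] [Finite A] [Nontrivial A] {L : Type} [Group L] [Finite L]
    {H : Subgroup L} (hH : Cfsg.IsFrobeniusComplement H) (f : A →* H) (hf : Function.Injective f) :
    OccursAsComplement A := by
  obtain ⟨K, hKeq, hKn, hKc⟩ := frobenius_theorem hH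
  obtain ⟨y, hy, hy1⟩ := exists_mem_frobeniusKernel_ne_one hH
  haveI : Nontrivial K := ⟨⟨⟨y, SetLike.mem_coe.mp (hKeq ▸ hy)⟩, 1, fun h => hy1 (congrArg Subtype.val h)⟩⟩
  haveI := hKn
  refine occurs_of_fpf (V := K) ((MulAut.conjNormal (H := K)).comp (H.subtype.comp f)) fun b hb v hv => ?_
  have hv' : (f b : L) * v * (f b : L)⁻¹ = v := congrArg Subtype.val hv
  exact Subtype.ext (fpf_of_frobenius hH hKc.disjoint (f b).2
    (fun h => hb (hf (Subtype.ext (h.trans (by simp))))) v.2 (mul_inv_eq_iff_eq_mul.mp hv').symm)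

/-- Let A and B be nontrivial finite groups. Then the direct product A × B occurs as a Frobenius complement if and only if A and B both occur as Frobenius complements and the orders of A and B are coprime. -/
theorem result {A B : Type*} [Group A] [Finite A] [Nontrivial A] [Group B] [Finite B] [Nontrivial B] :
    (∃ (L : Type) (_ : Group L) (_ : Finite L) (H : Subgroup L), Cfsg.IsFrobeniusComplement H ∧ Nonempty ((A × B) ≃* H)) ↔
    ((∃ (L : Type) (_ : Group L) (_ : Finite L) (H : Subgroup L), Cfsg.IsFrobeniusComplement H ∧ Nonempty (A ≃* H)) ∧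
     (∃ (L : Type) (_ : Group L) (_ : Finite L) (H : Subgroup L), Cfsg.IsFrobeniusComplement H ∧ Nonempty (B ≃* H)) ∧
     (Nat.card A).Coprime (Nat.card B)) := by
  constructor
  · rintro ⟨L, _, _, H, hH, ⟨e⟩⟩
    refine ⟨occurs_subgroup hH (e.toMonoidHom.comp (MonoidHom.inl A B))
      (e.injective.comp fun a b h => congrArg Prod.fst h),
      occurs_subgroup hH (e.toMonoidHom.comp (MonoidHom.inr A B))
      (e.injective.comp fun a b h => congrArg Prod.snd h), ?_⟩
    refine Nat.coprime_of_dvd fun p hp hpA hpB => ?_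
    haveI : Fact p.Prime := ⟨hp⟩
    obtain ⟨a, ha⟩ := exists_prime_orderOf_dvd_card' p hpA
    obtain ⟨b, hb⟩ := exists_prime_orderOf_dvd_card' p hpB
    obtain ⟨K, hKeq, hKn, hKc⟩ := frobenius_theorem hH
    haveI := hKn
    obtain ⟨y, hy, hy1⟩ := exists_mem_frobeniusKernel_ne_one hH
    have hK : K ≠ ⊥ := fun h => hy1 (mem_bot.mp (h ▸ (SetLike.mem_coe.mp (hKeq ▸ hy))))
    let f : A × B →* L := H.subtype.comp e.toMonoidHom
    have hfi : Function.Injective f := H.subtype_injective.comp e.injective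
    set S := ((zpowers a).prod (zpowers b)).map f with hS
    have hSH : S ≤ H := by rintro _ ⟨x, _, rfl⟩; exact (e x).2
    have hScomm : ∀ x ∈ S, ∀ z ∈ S, x * z = z * x := by
      rintro _ ⟨⟨u, v⟩, ⟨hu, hv⟩, rfl⟩ _ ⟨⟨u', v'⟩, ⟨hu', hv'⟩, rfl⟩
      obtain ⟨i, rfl⟩ := mem_zpowers_iff.mp hu
      obtain ⟨j, rfl⟩ := mem_zpowers_iff.mp hv
      obtain ⟨i', rfl⟩ := mem_zpowers_iff.mp hu'
      obtain ⟨j', rfl⟩ := mem_zpowers_iff.mp hv'
      rw [← map_mul, ← map_mul, Prod.mk_mul_mk, Prod.mk_mul_mk, ← zpow_add, ← zpow_add, ← zpow_add, ← zpow_add,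
        add_comm i, add_comm j]
    haveI : IsMulCommutative S := ⟨⟨fun x z => Subtype.ext (hScomm _ x.2 _ z.2)⟩⟩
    haveI hScy : IsCyclic S := Cfsg.Lib.ComplementStructure.isCyclic_of_abelian (K := K) (H := H) hK (fun h hh hh1 =>
      eq_bot_iff.mpr fun k hk => mem_bot.mpr (fpf_of_frobenius hH hKc.disjoint hh hh1 hk.1
        (mem_centralizer_singleton_iff.mp hk.2))) S hSH
    haveI : IsCyclic (zpowers a × zpowers b) :=
      isCyclic_of_surjective
        ((Subgroup.prodEquiv _ _).toMonoidHom.comp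
          (((zpowers a).prod (zpowers b)).equivMapOfInjective f hfi).symm.toMonoidHom)
        ((Subgroup.prodEquiv _ _).surjective.comp
          (((zpowers a).prod (zpowers b)).equivMapOfInjective f hfi).symm.surjective)
    have := coprime_card_of_isCyclic_prod (zpowers a) (zpowers b)
    rw [Nat.card_zpowers, Nat.card_zpowers, ha, hb, Nat.coprime_self] at this
    exact hp.one_lt.ne this.symm
  · rintro ⟨hA, hB, hcop⟩
    obtain ⟨L, i1, i2, H, hH, ⟨e⟩⟩ := occurs_prod hA hB hcop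
    exact ⟨L, i1, i2, H, hH, ⟨e⟩⟩

end Cfsg.Agent.S4292
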