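import Cfsg.Statements.S4295
import Cfsg.Agent.Lib.Fusion.QuaternionKernel
import Mathlib.GroupTheory.SemidirectProduct
import Mathlib.FieldTheory.Finite.Basic
import Mathlib.Data.Nat.Factorization.Induction
import Mathlib.LinearAlgebra.Matrix.Notation

set_option linter.style.haveILetI false

set_option autoImplicit false
open Cfsg

namespace Cfsg.Agent.S4295

open Subgroup Cfsg.Lib.Solv Matrix

/-- Modulo a power of an odd prime `-1` is a sum of two squares. -/
theorem int_lift {p : ℕ} [hp : Fact p.Prime] (hp2 : p ≠ 2) : ∀ k : ℕ, ∃ a b : ℤ, ¬ (p : ℤ) ∣ a ∧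
    (p : ℤ) ^ (k + 1) ∣ a ^ 2 + b ^ 2 + 1 := by
  intro k
  induction k with
  | zero =>
    obtain ⟨a, b, h⟩ := ZMod.sq_add_sq p (-1)
    have key : ∀ a b : ZMod p, a ^ 2 + b ^ 2 = -1 → a ≠ 0 →
        ∃ a b : ℤ, ¬ (p : ℤ) ∣ a ∧ (p : ℤ) ^ (0 + 1) ∣ a ^ 2 + b ^ 2 + 1 := by
      intro a b h ha
      refine ⟨(a.val : ℤ), (b.val : ℤ), fun hd => ha ?_, ?_⟩
      · rw [← ZMod.natCast_zmod_val a, ← Int.cast_natCast, ZMod.intCast_zmod_eq_zero_iff_dvd]; exact hd
      · rw [zero_add, pow_one, ← ZMod.intCast_zmod_eq_zero_iff_dvd]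
        push_cast
        rw [ZMod.natCast_zmod_val, ZMod.natCast_zmod_val, h, neg_add_cancel]
    by_cases ha : a = 0
    · refine key b a (by rw [add_comm]; exact h) fun hb => ?_
      rw [ha, hb] at h
      simp at h
    · exact key a b h ha
  | succ k ih =>
    obtain ⟨a, b, ha, c, hc⟩ := ih
    have hcop : IsCoprime (2 * a) (p : ℤ) := by
      have hp' : Prime (p : ℤ) := Nat.prime_iff_prime_int.mp hp.out
      refine (hp'.coprime_iff_not_dvd.mpr fun hd => ?_).symm
      rcases hp'.dvd_or_dvd hd with h | h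
      · rw [show (2 : ℤ) = ((2 : ℕ) : ℤ) by norm_num, Int.natCast_dvd_natCast] at h
        exact hp2 ((Nat.prime_dvd_prime_iff_eq hp.out Nat.prime_two).mp h)
      · exact ha h
    obtain ⟨u, v, huv⟩ := hcop
    refine ⟨a + (p : ℤ) ^ (k + 1) * (-c * u), b, fun hd => ha ?_, ?_⟩
    · exact (dvd_add_left ((dvd_pow_self _ (Nat.succ_ne_zero k)).mul_right _)).mp hd
    · refine ⟨c * v + (p : ℤ) ^ k * (c * u) ^ 2, ?_⟩
      linear_combination hc - c * (p : ℤ) ^ (k + 1) * huv

theorem exists_sq_add_sq (n : ℕ) (hn : Odd n) : ∃ a b : ZMod n, a * a + b * b = -1 := by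
  induction n using Nat.recOnPosPrimePosCoprime with
  | zero => exact absurd hn (by decide)
  | one => exact ⟨0, 0, Subsingleton.elim _ _⟩
  | prime_pow p k hp hk =>
    haveI := Fact.mk hp
    obtain ⟨k, rfl⟩ := Nat.exists_eq_succ_of_ne_zero hk.ne'
    have hp2 : p ≠ 2 := by
      rintro rfl
      exact (Nat.not_odd_iff_even.mpr ((even_two).pow_of_ne_zero (Nat.succ_ne_zero k))) hn
    obtain ⟨a, b, -, h⟩ := int_lift hp2 k
    refine ⟨(a : ZMod (p ^ (k + 1))), b, ?_⟩
    rw [← sub_eq_zero, sub_neg_eq_add]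
    have h' := (ZMod.intCast_zmod_eq_zero_iff_dvd (a ^ 2 + b ^ 2 + 1) (p ^ (k + 1))).mpr (by exact_mod_cast h)
    push_cast at h'
    linear_combination h'
  | coprime x y hx hy hxy ihx ihy =>
    obtain ⟨hox, hoy⟩ := Nat.odd_mul.mp hn
    obtain ⟨a, b, h⟩ := ihx hox
    obtain ⟨c, d, h'⟩ := ihy hoy
    let e := ZMod.chineseRemainder hxy
    refine ⟨e.symm (a, c), e.symm (b, d), e.injective ?_⟩
    rw [map_add, map_mul, map_mul, map_neg, map_one, RingEquiv.apply_symm_apply, RingEquiv.apply_symm_apply]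
    exact Prod.ext h h'

/-- The two-dimensional representation of the quaternion group. -/
theorem exists_rep (n : ℕ) (hn : Odd n) : ∃ ρ : QuaternionGroup 2 →* Matrix (Fin 2) (Fin 2) (ZMod n),
    ρ (QuaternionGroup.a 2) = -1 := by
  obtain ⟨a, b, hab⟩ := exists_sq_add_sq n hn
  set I : Matrix (Fin 2) (Fin 2) (ZMod n) := !![0, 1; -1, 0] with hI
  set J : Matrix (Fin 2) (Fin 2) (ZMod n) := !![a, b; b, -a] with hJ
  have hI2 : I * I = -1 := by
    ext i j; fin_cases i <;> fin_cases j <;> simp [hI]
  have hJ2 : J * J = -1 := by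
    ext i j; fin_cases i <;> fin_cases j <;> simp [hJ] <;> first | linear_combination hab | ring
  have hIJ : I * J = -(J * I) := by
    ext i j; fin_cases i <;> fin_cases j <;> simp [hI, hJ]
  have hI4 : I ^ 4 = 1 := by
    rw [show (4 : ℕ) = 2 * 2 from rfl, pow_mul, pow_two I, hI2]; simp
  have hmod : ∀ m : ℕ, I ^ m = I ^ (m % 4) := fun m => pow_eq_pow_mod m hI4
  let P : ZMod (2 * 2) → Matrix (Fin 2) (Fin 2) (ZMod n) := fun i => I ^ i.val
  have hP : ∀ i j, P (i + j) = P i * P j := fun i j => by
    show I ^ (i + j).val = I ^ i.val * I ^ j.val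
    rw [← pow_add, hmod (i.val + j.val), ZMod.val_add]
  have hI3 : I * J = J * I ^ 3 := by
    rw [hIJ, pow_succ, pow_two, hI2, neg_mul, one_mul, mul_neg]
  have hswap : ∀ m : ℕ, I ^ m * J = J * I ^ (3 * m) := by
    intro m
    induction m with
    | zero => simp
    | succ m ih => rw [pow_succ', mul_assoc, ih, ← mul_assoc, hI3, mul_assoc, ← pow_add, Nat.mul_succ, add_comm]
  have hPJ : ∀ i, P i * J = J * P (-i) := fun i => by
    show I ^ i.val * J = J * I ^ (-i).val
    rw [hswap, hmod (3 * i.val), hmod (-i).val]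
    congr 2
    revert i
    decide
  refine ⟨{ toFun := fun q => match q with
                | QuaternionGroup.a i => P i
                | QuaternionGroup.xa i => J * P i
            map_one' := pow_zero I
            map_mul' := ?_ }, ?_⟩
  · rintro (i | i) (j | j)
    · rw [QuaternionGroup.a_mul_a]; exact hP i j
    · rw [QuaternionGroup.a_mul_xa]
      show J * P (j - i) = P i * (J * P j)
      rw [← mul_assoc, hPJ, mul_assoc, ← hP, neg_add_eq_sub]
    · rw [QuaternionGroup.xa_mul_a]
      show J * P (i + j) = J * P i * P j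
      rw [hP, mul_assoc]
    · rw [QuaternionGroup.xa_mul_xa]
      show P (((2 : ℕ) : ZMod (2 * 2)) + j - i) = J * P i * (J * P j)
      rw [show J * P i * (J * P j) = J * (P i * J) * P j by simp only [mul_assoc], hPJ, ← mul_assoc J J, hJ2,
        mul_assoc, ← hP, neg_one_mul, add_sub_assoc, hP, neg_add_eq_sub]
      show I ^ (2 : ℕ) * _ = _
      rw [pow_two, hI2, neg_one_mul]
  · show I ^ (2 : ℕ) = -1
    rw [pow_two, hI2]

/-- For a natural number m the following are equivalent: (a) some finite group has a Frobenius complement isomorphic to the quaternion group of order 8 whose Frobenius kernel (the identity together with the elements lying in no conjugate of the complement) has exactly m elements; (b) m is an odd perfect square greater than 1. -/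
theorem result (m : ℕ) :
    (∃ (L : Type) (_ : Group L) (_ : Finite L) (H : Subgroup L), Cfsg.IsFrobeniusComplement H ∧
        Nonempty (H ≃* QuaternionGroup 2) ∧ Nat.card (Cfsg.frobeniusKernel H) = m) ↔
    (Odd m ∧ IsSquare m ∧ 1 < m) := by
  constructor
  · rintro ⟨L, _, _, H, hH, ⟨e⟩, hm⟩
    obtain ⟨h1, h2⟩ := Cfsg.Lib.QuaternionKernel.kernel_card hH (n := 2) e.symm.toMonoidHom e.symm.injective
      (h := 1) rfl one_ne_zero
    refine ⟨hm ▸ h1, hm ▸ h2, hm ▸ ?_⟩
    obtain ⟨y, hy, hy1⟩ := exists_mem_frobeniusKernel_ne_one hH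
    haveI : Nontrivial (Cfsg.frobeniusKernel H) := ⟨⟨⟨y, hy⟩, ⟨1, Or.inl rfl⟩, fun h => hy1 (congrArg Subtype.val h)⟩⟩
    exact Finite.one_lt_card
  · rintro ⟨hodd, ⟨n, rfl⟩, h1⟩
    classical
    have hn : Odd n := (Nat.odd_mul.mp hodd).1
    haveI : NeZero n := ⟨fun h => by rw [h] at h1; simp at h1⟩
    obtain ⟨ρ, hρ⟩ := exists_rep n hn
    let V := Multiplicative (Fin 2 → ZMod n)
    let φ : QuaternionGroup 2 →* MulAut V :=
      { toFun := fun q =>
          { toFun := fun v => Multiplicative.ofAdd (Matrix.mulVec (ρ q) v.toAdd)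
            invFun := fun v => Multiplicative.ofAdd (Matrix.mulVec (ρ q⁻¹) v.toAdd)
            left_inv := fun v => by
              simp only [toAdd_ofAdd, Matrix.mulVec_mulVec, ← map_mul, inv_mul_cancel, map_one, Matrix.one_mulVec, ofAdd_toAdd]
            right_inv := fun v => by
              simp only [toAdd_ofAdd, Matrix.mulVec_mulVec, ← map_mul, mul_inv_cancel, map_one, Matrix.one_mulVec, ofAdd_toAdd]
            map_mul' := fun v w => congrArg Multiplicative.ofAdd (Matrix.mulVec_add (ρ q) v.toAdd w.toAdd) }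
        map_one' := MulEquiv.ext fun v => by
          show Multiplicative.ofAdd (Matrix.mulVec (ρ 1) v.toAdd) = v
          rw [map_one, Matrix.one_mulVec, ofAdd_toAdd]
        map_mul' := fun a b => MulEquiv.ext fun v => by
          show Multiplicative.ofAdd (Matrix.mulVec (ρ (a * b)) v.toAdd) = Multiplicative.ofAdd (Matrix.mulVec (ρ a) (Multiplicative.toAdd (Multiplicative.ofAdd (Matrix.mulVec (ρ b) v.toAdd))))
          rw [toAdd_ofAdd, Matrix.mulVec_mulVec, map_mul] }
    have htwo : IsUnit (2 : ZMod n) := by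
      have := (ZMod.unitOfCoprime 2 (Nat.coprime_two_left.mpr hn)).isUnit
      simpa using this
    have hz : ∀ v : V, φ (QuaternionGroup.a 2) v = v → v = 1 := fun v hv => by
      have hv' : Matrix.mulVec (ρ (QuaternionGroup.a 2)) v.toAdd = v.toAdd := congrArg Multiplicative.toAdd hv
      rw [hρ, Matrix.neg_mulVec, Matrix.one_mulVec] at hv'
      refine Multiplicative.toAdd.injective (funext fun i => ?_)
      have h := congrFun hv' i
      rw [Pi.neg_apply, neg_eq_iff_add_eq_zero, ← two_mul] at h
      exact htwo.mul_right_eq_zero.mp h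
    have hfpf : ∀ q : QuaternionGroup 2, q ≠ 1 → ∀ v : V, φ q v = v → v = 1 := fun q hq v hv => by
      have hcase : ∀ q : QuaternionGroup 2, q ≠ 1 → q = QuaternionGroup.a 2 ∨ q * q = QuaternionGroup.a 2 := by decide
      refine hz v ?_
      rcases hcase q hq with h | h
      · rwa [← h]
      · rw [← h, map_mul, MulAut.mul_apply, hv, hv]
    let X := SemidirectProduct V (QuaternionGroup 2) φ
    haveI : Finite X := Finite.of_equiv _ SemidirectProduct.equivProd.symm
    set K : Subgroup X := (SemidirectProduct.inl : V →* X).range with hK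
    set H : Subgroup X := (SemidirectProduct.inr : QuaternionGroup 2 →* X).range with hH
    haveI : K.Normal := by rw [hK, SemidirectProduct.range_inl_eq_ker_rightHom]; infer_instance
    have hcompl : K.IsComplement' H := by
      refine isComplement'_of_disjoint_and_mul_eq_univ ?_ (Set.eq_univ_of_forall fun x =>
        ⟨_, ⟨x.left, rfl⟩, _, ⟨x.right, rfl⟩, SemidirectProduct.inl_left_mul_inr_right x⟩)
      rw [disjoint_iff, eq_bot_iff]
      rintro x ⟨⟨v, hv⟩, ⟨b, hb⟩⟩
      have h := congrArg SemidirectProduct.left (hv.trans hb.symm)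
      simp only [SemidirectProduct.left_inl, SemidirectProduct.left_inr] at h
      rw [mem_bot, ← hv, h, map_one]
    have hKcard : Nat.card K = n * n := by
      rw [← Nat.card_congr (MonoidHom.ofInjective (f := (SemidirectProduct.inl : V →* X)) SemidirectProduct.inl_injective).toEquiv,
        Nat.card_congr Multiplicative.toAdd, Nat.card_pi, Fin.prod_univ_two, Nat.card_zmod]
    have hfc : Cfsg.IsFrobeniusComplement H := by
      refine isFrobeniusComplement_of_fpf hcompl (fun h => ?_) (fun h => ?_) ?_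
      · rw [h, card_bot] at hKcard; omega
      · have h2 : SemidirectProduct.inr (QuaternionGroup.a 1) ∈ H := ⟨_, rfl⟩
        rw [h, mem_bot] at h2
        have := SemidirectProduct.inr_injective (h2.trans (map_one _).symm)
        exact absurd this (by decide)
      rintro _ ⟨b, rfl⟩ hb1
      rw [eq_bot_iff]
      rintro _ ⟨⟨v, rfl⟩, hvc⟩
      have hb : b ≠ 1 := fun h => hb1 (by rw [h, map_one])
      have hcomm := mem_centralizer_singleton_iff.1 hvc
      have : φ b v = v := by
        apply SemidirectProduct.inl_injective (φ := φ)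
        rw [SemidirectProduct.inl_aut, map_inv, ← hcomm]
        group
      rw [mem_bot, hfpf b hb v this, map_one]
    refine ⟨X, inferInstance, inferInstance, H, hfc,
      ⟨(MonoidHom.ofInjective SemidirectProduct.inr_injective).symm⟩, ?_⟩
    rw [card_frobeniusKernel hfc, hcompl.index_eq_card, hKcard]

end Cfsg.Agent.S4295
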