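import Cfsg.Statements.S4296
import Cfsg.Agent.Lib.Fusion.QuaternionKernel

set_option linter.style.haveILetI false

set_option autoImplicit false
open Cfsg

namespace Cfsg.Agent.S4296

/-- Let H be a Frobenius complement in a finite group, and suppose some Sylow subgroup of H is not cyclic. Then the number of elements of the Frobenius kernel (the identity together with the elements lying in no conjugate of H) is an odd perfect square. -/
theorem result {L : Type*} [Group L] [Finite L] (H : Subgroup L) (hF : Cfsg.IsFrobeniusComplement H)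
    (hZ : ∃ (p : ℕ) (_ : Fact p.Prime) (P : Sylow p H), ¬ IsCyclic P) :
    Odd (Nat.card (Cfsg.frobeniusKernel H)) ∧ IsSquare (Nat.card (Cfsg.frobeniusKernel H)) := by
  obtain ⟨p, hp, P, hP⟩ := hZ
  obtain ⟨K, hKeq, hKn, hKc⟩ := Cfsg.Lib.Solv.frobenius_theorem hF
  haveI := hKn
  obtain ⟨y, hy, hy1⟩ := Cfsg.Lib.Solv.exists_mem_frobeniusKernel_ne_one hF
  have hK : K ≠ ⊥ := fun h => hy1 (Subgroup.mem_bot.mp (h ▸ (SetLike.mem_coe.mp (hKeq ▸ hy))))
  rcases Cfsg.Lib.ComplementStructure.sylow_cyclic_or_quaternion hK (fun x hx hx1 => eq_bot_iff.mpr fun k hk =>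
    Subgroup.mem_bot.mpr (Cfsg.Lib.Solv.fpf_of_frobenius hF hKc.disjoint hx hx1 hk.1
      (Subgroup.mem_centralizer_singleton_iff.mp hk.2))) p P with h | ⟨-, t, ⟨e⟩⟩
  · exact absurd h hP
  rcases t with _ | t
  · haveI : IsCyclic (QuaternionGroup (2 ^ 0)) := by rw [pow_zero]; exact QuaternionGroup.quaternionGroup_one_isCyclic
    exact absurd (isCyclic_of_surjective e.symm e.symm.surjective) hP
  exact Cfsg.Lib.QuaternionKernel.kernel_card hF ((P : Subgroup H).subtype.comp e.symm.toMonoidHom)
    ((P : Subgroup H).subtype_injective.comp e.symm.injective) (h := 2 ^ t) (pow_succ' 2 t) (by positivity)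

end Cfsg.Agent.S4296
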