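import Cfsg.Statements.S4297
import Cfsg.Agent.Lib.Solv.ComplementExamples
import Mathlib.Analysis.Quaternion
import Mathlib.Analysis.SpecialFunctions.Complex.CircleAddChar
import Mathlib.GroupTheory.SpecificGroups.Quaternion

set_option autoImplicit false
open Cfsg

namespace Cfsg.Agent.S4297

open scoped Quaternion

/-- The quaternion `j`. -/
noncomputable def J : ℍ[ℝ] := ⟨0, 0, 1, 0⟩

theorem re_J : J.re = 0 := rfl
theorem imI_J : J.imI = 0 := rfl
theorem imJ_J : J.imJ = 1 := rfl
theorem imK_J : J.imK = 0 := rfl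

theorem J_mul_J : J * J = -1 := by
  apply Quaternion.ext <;> simp [Quaternion.re_mul, Quaternion.imI_mul, Quaternion.imJ_mul,
    Quaternion.imK_mul, re_J, imI_J, imJ_J, imK_J]

/-- The embedding of the dicyclic group into the quaternions. -/
noncomputable def emb (n : ℕ) [NeZero n] : QuaternionGroup n → ℍ[ℝ]
  | .a i => ((ZMod.toCircle i : Circle) : ℂ)
  | .xa i => J * ((ZMod.toCircle i : Circle) : ℂ)

theorem emb_a (n : ℕ) [NeZero n] (i : ZMod (2 * n)) :
    emb n (.a i) = (((ZMod.toCircle i : Circle) : ℂ) : ℍ[ℝ]) := rfl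

theorem emb_xa (n : ℕ) [NeZero n] (i : ZMod (2 * n)) :
    emb n (.xa i) = J * (((ZMod.toCircle i : Circle) : ℂ) : ℍ[ℝ]) := rfl

theorem jc (z : ℂ) : (z : ℍ[ℝ]) * J = J * ((starRingEnd ℂ z : ℂ) : ℍ[ℝ]) := by
  apply Quaternion.ext <;> simp [Quaternion.re_mul, Quaternion.imI_mul, Quaternion.imJ_mul,
    Quaternion.imK_mul, re_J, imI_J, imJ_J, imK_J, Quaternion.re_coeComplex,
    Quaternion.imI_coeComplex, Quaternion.imJ_coeComplex, Quaternion.imK_coeComplex]

theorem conj_toCircle {N : ℕ} [NeZero N] (i : ZMod N) :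
    starRingEnd ℂ (ZMod.toCircle i : Circle) = ((ZMod.toCircle (-i) : Circle) : ℂ) := by
  rw [AddChar.map_neg_eq_inv, Circle.coe_inv_eq_conj]

theorem toCircle_half (n : ℕ) [NeZero n] :
    ((ZMod.toCircle (n : ZMod (2 * n)) : Circle) : ℂ) = -1 := by
  rw [ZMod.toCircle_natCast]
  have : (2 * (Real.pi : ℂ) * Complex.I * (n : ℂ) / ((2 * n : ℕ) : ℂ)) = Real.pi * Complex.I := by
    have : (n : ℂ) ≠ 0 := Nat.cast_ne_zero.2 (NeZero.ne n)
    push_cast
    field_simp
  show Complex.exp _ = -1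
  rw [show (2 * (Real.pi : ℂ) * Complex.I * (n : ℂ) / ((2 * n : ℕ) : ℂ)) = Real.pi * Complex.I from this]
  exact Complex.exp_pi_mul_I

theorem coe_toCircle_add {N : ℕ} [NeZero N] (i j : ZMod N) :
    (((ZMod.toCircle i : Circle) : ℂ) : ℍ[ℝ]) * ((ZMod.toCircle j : Circle) : ℂ) =
      (((ZMod.toCircle (i + j) : Circle) : ℂ) : ℍ[ℝ]) := by
  rw [AddChar.map_add_eq_mul, Circle.coe_mul, Quaternion.coeComplex_mul]

theorem emb_mul (n : ℕ) [NeZero n] (x y : QuaternionGroup n) :
    emb n (x * y) = emb n x * emb n y := by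
  cases x <;> cases y <;> rename_i i j
  · rw [QuaternionGroup.a_mul_a, emb_a, emb_a, emb_a, coe_toCircle_add]
  · rw [QuaternionGroup.a_mul_xa, emb_a, emb_xa, emb_xa, ← mul_assoc, jc, conj_toCircle, mul_assoc,
      coe_toCircle_add, neg_add_eq_sub]
  · rw [QuaternionGroup.xa_mul_a, emb_xa, emb_xa, emb_a, mul_assoc, coe_toCircle_add]
  · rw [QuaternionGroup.xa_mul_xa, emb_xa, emb_xa, emb_a]
    rw [mul_assoc J, ← mul_assoc ((((ZMod.toCircle i : Circle) : ℂ)) : ℍ[ℝ]), jc, conj_toCircle,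
      mul_assoc J, coe_toCircle_add, ← mul_assoc, J_mul_J, neg_one_mul, neg_add_eq_sub,
      show (n : ZMod (2 * n)) + j - i = (n : ZMod (2 * n)) + (j - i) by abel, ← coe_toCircle_add,
      toCircle_half]
    apply Quaternion.ext <;> simp [Quaternion.re_mul, Quaternion.imI_mul, Quaternion.imJ_mul,
      Quaternion.imK_mul]

/-- For every n ≥ 2 the dicyclic group of order 4n (generated by an element a of order 2n and an element x with x² = aⁿ and x a x⁻¹ = a⁻¹) occurs as a Frobenius complement of some finite Frobenius group. -/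
theorem result (n : ℕ) (hn : 2 ≤ n) :
    ∃ (L : Type) (_ : Group L) (_ : Finite L) (H : Subgroup L), Cfsg.IsFrobeniusComplement H ∧ Nonempty (H ≃* QuaternionGroup n) := by
  haveI : NeZero n := ⟨by omega⟩
  have h1 : emb n 1 = 1 := by
    show emb n (QuaternionGroup.a 0) = 1
    simp [emb]
  let f : QuaternionGroup n →* (ℍ[ℝ])ˣ :=
    MonoidHom.toHomUnits { toFun := emb n, map_one' := h1, map_mul' := emb_mul n }
  have hf : Function.Injective f := by
    refine (injective_iff_map_eq_one f).2 fun x hx => ?_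
    have hx' : emb n x = 1 := congrArg Units.val hx
    cases x with
    | a i =>
      have h2 : ((ZMod.toCircle i : Circle) : ℂ) = 1 := by
        have hre := congrArg (fun q : ℍ[ℝ] => q.re) hx'
        have him := congrArg (fun q : ℍ[ℝ] => q.imI) hx'
        simp [emb] at hre him
        exact Complex.ext (by simpa using hre) (by simpa using him)
      have h3 : ZMod.toCircle i = ZMod.toCircle (0 : ZMod (2 * n)) := by
        rw [AddChar.map_zero_eq_one]; exact Circle.ext h2
      rw [ZMod.injective_toCircle h3]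
      rfl
    | xa i =>
      have hre := congrArg (fun q : ℍ[ℝ] => q.re) hx'
      simp [emb, re_J, imI_J] at hre
  obtain ⟨L, i1, i2, C, hC, ⟨e⟩⟩ := Cfsg.Lib.Solv.ComplementExamples.occurs_of_injective f hf
  exact ⟨L, i1, i2, C, hC, ⟨e.symm⟩⟩

end Cfsg.Agent.S4297
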