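import Cfsg.Statements.S4298
import Cfsg.Agent.Lib.Solv.ComplementExamples
import Mathlib.LinearAlgebra.Matrix.ToLinearEquiv
import Mathlib.LinearAlgebra.Matrix.SpecialLinearGroup

set_option autoImplicit false
open Cfsg

namespace Cfsg.Agent.S4298

open Matrix

/-- The table of an embedding of `SL(2,3)` into `SL(2,5)`. -/
def tbl : List ((ZMod 3 × ZMod 3 × ZMod 3 × ZMod 3) × (ZMod 5 × ZMod 5 × ZMod 5 × ZMod 5)) := [
  ((0, 1, 2, 0), (0, 4, 1, 0)),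
  ((0, 1, 2, 1), (2, 4, 3, 4)),
  ((0, 1, 2, 2), (3, 2, 1, 1)),
  ((0, 2, 1, 0), (0, 1, 4, 0)),
  ((0, 2, 1, 1), (2, 3, 4, 4)),
  ((0, 2, 1, 2), (3, 1, 2, 1)),
  ((1, 0, 0, 1), (1, 0, 0, 1)),
  ((1, 0, 1, 1), (1, 2, 1, 3)),
  ((1, 0, 2, 1), (3, 3, 4, 1)),
  ((1, 1, 0, 1), (1, 1, 2, 3)),
  ((1, 1, 1, 2), (0, 2, 2, 0)),
  ((1, 1, 2, 0), (4, 2, 1, 2)),
  ((1, 2, 0, 1), (3, 4, 3, 1)),
  ((1, 2, 1, 0), (4, 1, 2, 2)),
  ((1, 2, 2, 2), (3, 0, 0, 2)),
  ((2, 0, 0, 2), (4, 0, 0, 4)),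
  ((2, 0, 1, 2), (2, 2, 1, 4)),
  ((2, 0, 2, 2), (4, 3, 4, 2)),
  ((2, 1, 0, 2), (2, 1, 2, 4)),
  ((2, 1, 1, 1), (2, 0, 0, 3)),
  ((2, 1, 2, 0), (1, 4, 3, 3)),
  ((2, 2, 0, 2), (4, 4, 3, 2)),
  ((2, 2, 1, 0), (1, 3, 4, 3)),
  ((2, 2, 2, 1), (0, 3, 3, 0))]

/-- The embedding on entries. -/
def emb4 (a b c d : ZMod 3) : ZMod 5 × ZMod 5 × ZMod 5 × ZMod 5 :=
  (tbl.lookup (a, b, c, d)).getD (0, 0, 0, 0)

/-- The product of two matrices given by entries. -/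
def mul4 (x y : ZMod 5 × ZMod 5 × ZMod 5 × ZMod 5) : ZMod 5 × ZMod 5 × ZMod 5 × ZMod 5 :=
  (x.1 * y.1 + x.2.1 * y.2.2.1, x.1 * y.2.1 + x.2.1 * y.2.2.2,
    x.2.2.1 * y.1 + x.2.2.2 * y.2.2.1, x.2.2.1 * y.2.1 + x.2.2.2 * y.2.2.2)

set_option maxRecDepth 4000 in
theorem emb4_mul : ∀ a b c d : ZMod 3, a * d - b * c = 1 → ∀ e f g h : ZMod 3, e * h - f * g = 1 →
    emb4 (a * e + b * g) (a * f + b * h) (c * e + d * g) (c * f + d * h) =
      mul4 (emb4 a b c d) (emb4 e f g h) := by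
  decide +kernel

set_option maxRecDepth 4000 in
theorem emb4_fpf : ∀ a b c d : ZMod 3, a * d - b * c = 1 → (a, b, c, d) ≠ (1, 0, 0, 1) →
    ((emb4 a b c d).1 - 1) * ((emb4 a b c d).2.2.2 - 1) -
      (emb4 a b c d).2.1 * (emb4 a b c d).2.2.1 ≠ 0 := by
  decide +kernel

/-- The embedding as a matrix. -/
def mat (A : Matrix.SpecialLinearGroup (Fin 2) (ZMod 3)) : Matrix (Fin 2) (Fin 2) (ZMod 5) :=
  !![(emb4 (A.1 0 0) (A.1 0 1) (A.1 1 0) (A.1 1 1)).1, (emb4 (A.1 0 0) (A.1 0 1) (A.1 1 0) (A.1 1 1)).2.1;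
    (emb4 (A.1 0 0) (A.1 0 1) (A.1 1 0) (A.1 1 1)).2.2.1, (emb4 (A.1 0 0) (A.1 0 1) (A.1 1 0) (A.1 1 1)).2.2.2]

theorem det4 (A : Matrix.SpecialLinearGroup (Fin 2) (ZMod 3)) :
    A.1 0 0 * A.1 1 1 - A.1 0 1 * A.1 1 0 = 1 := by
  rw [← Matrix.det_fin_two]; exact A.2

/-- The action on the plane. -/
noncomputable def act : Matrix.SpecialLinearGroup (Fin 2) (ZMod 3) →*
    Matrix (Fin 2) (Fin 2) (ZMod 5) where
  toFun := mat
  map_one' := by
    unfold mat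
    simp only [Matrix.SpecialLinearGroup.coe_one]
    decide +kernel
  map_mul' A B := by
    have h := emb4_mul _ _ _ _ (det4 A) _ _ _ _ (det4 B)
    have e : ∀ i j, (A * B).1 i j = A.1 i 0 * B.1 0 j + A.1 i 1 * B.1 1 j := fun i j => by
      rw [Matrix.SpecialLinearGroup.coe_mul, Matrix.mul_apply, Fin.sum_univ_two]
    unfold mat
    rw [e, e, e, e, h]
    ext i j
    fin_cases i <;> fin_cases j <;> simp [mul4, Matrix.mul_apply, Fin.sum_univ_two]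

/-- The group SL(2,3) of order 24 (the binary tetrahedral group) occurs as a Frobenius complement of some finite Frobenius group. -/
theorem result :
    ∃ (L : Type) (_ : Group L) (_ : Finite L) (H : Subgroup L), Cfsg.IsFrobeniusComplement H ∧ Nonempty (H ≃* Matrix.SpecialLinearGroup (Fin 2) (ZMod 3)) := by
  classical
  haveI : Fact (Nat.Prime 5) := ⟨by norm_num⟩
  let φ : Matrix.SpecialLinearGroup (Fin 2) (ZMod 3) →*
      MulAut (Multiplicative (Fin 2 → ZMod 5)) :=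
    { toFun := fun b =>
        { toFun := fun v => Multiplicative.ofAdd (Matrix.mulVec (act b) v.toAdd)
          invFun := fun v => Multiplicative.ofAdd (Matrix.mulVec (act b⁻¹) v.toAdd)
          left_inv := fun v => by simp only [toAdd_ofAdd, Matrix.mulVec_mulVec, ← map_mul, inv_mul_cancel, map_one, Matrix.one_mulVec, ofAdd_toAdd]
          right_inv := fun v => by simp only [toAdd_ofAdd, Matrix.mulVec_mulVec, ← map_mul, mul_inv_cancel, map_one, Matrix.one_mulVec, ofAdd_toAdd]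
          map_mul' := fun v w => by simp only [toAdd_mul, Matrix.mulVec_add, ofAdd_add] }
      map_one' := by
        ext v : 1
        show Multiplicative.ofAdd (Matrix.mulVec (act 1) v.toAdd) = v
        rw [map_one, Matrix.one_mulVec, ofAdd_toAdd]
      map_mul' := fun a b => by
        ext v : 1
        show Multiplicative.ofAdd (Matrix.mulVec (act (a * b)) v.toAdd) = Multiplicative.ofAdd (Matrix.mulVec (act a) (Matrix.mulVec (act b) v.toAdd))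
        rw [map_mul, Matrix.mulVec_mulVec] }
  haveI : Nontrivial (Matrix.SpecialLinearGroup (Fin 2) (ZMod 3)) :=
    ⟨⟨1, ⟨!![1, 1; 0, 1], by decide⟩, fun h => by
      have := congrArg (fun A : Matrix.SpecialLinearGroup (Fin 2) (ZMod 3) => A.1 0 1) h
      simp at this⟩⟩
  suffices h : ∀ A, A ≠ 1 → ∀ v, φ A v = v → v = 1 by
    obtain ⟨L, i1, i2, C, hC, ⟨e⟩⟩ := Cfsg.Lib.Solv.ComplementExamples.occurs_of_fpf φ h
    exact ⟨L, i1, i2, C, hC, ⟨e.symm⟩⟩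
  intro A hA v hv
  have hne : (A.1 0 0, A.1 0 1, A.1 1 0, A.1 1 1) ≠ ((1 : ZMod 3), (0 : ZMod 3), (0 : ZMod 3), (1 : ZMod 3)) := by
    intro h
    simp only [Prod.mk.injEq] at h
    refine hA (Subtype.ext ?_)
    ext i j
    fin_cases i <;> fin_cases j <;> simp [h.1, h.2.1, h.2.2.1, h.2.2.2]
  have h1 := emb4_fpf _ _ _ _ (det4 A) hne
  have hv' : Matrix.mulVec (act A - 1) v.toAdd = 0 := by
    rw [Matrix.sub_mulVec, Matrix.one_mulVec]
    exact sub_eq_zero.2 (congrArg Multiplicative.toAdd hv)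
  have hdet : (act A - 1).det ≠ 0 := by
    rw [Matrix.det_fin_two]
    simpa [act, mat] using h1
  exact congrArg Multiplicative.ofAdd (Matrix.eq_zero_of_mulVec_eq_zero hdet hv')

end Cfsg.Agent.S4298
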