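import Cfsg.Statements.S4299
import Cfsg.Agent.Lib.Solv.ComplementExamples
import Mathlib.Analysis.SpecialFunctions.Complex.CircleAddChar

set_option autoImplicit false
open Cfsg

namespace Cfsg.Agent.S4299

/-- Every nontrivial finite cyclic group occurs as a Frobenius complement of some finite Frobenius group. -/
theorem result {C : Type*} [Group C] [Finite C] [IsCyclic C] [Nontrivial C] :
    ∃ (L : Type) (_ : Group L) (_ : Finite L) (H : Subgroup L), Cfsg.IsFrobeniusComplement H ∧ Nonempty (C ≃* H) := by
  classical
  haveI : NeZero (Nat.card C) := ⟨Nat.card_pos.ne'⟩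
  let ψ : Multiplicative (ZMod (Nat.card C)) →* ℂˣ := Circle.toUnits.comp ZMod.toCircle.toMonoidHom
  have hψ : Function.Injective ψ := fun x y h => by
    have h1 : ZMod.toCircle x.toAdd = ZMod.toCircle y.toAdd :=
      Circle.ext (congrArg Units.val h :)
    exact Multiplicative.toAdd.injective (ZMod.injective_toCircle h1)
  let e := (zmodCyclicMulEquiv (inferInstance : IsCyclic C)).symm
  exact Cfsg.Lib.Solv.ComplementExamples.occurs_of_injective (ψ.comp e.toMonoidHom)
    (hψ.comp e.injective)

end Cfsg.Agent.S4299
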