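import Cfsg.Statements.S4300
import Mathlib.GroupTheory.GroupAction.Primitive
import Mathlib.GroupTheory.Subgroup.Simple

set_option autoImplicit false
open Cfsg

namespace Cfsg.Agent.S4300

open Subgroup

/-- Let G act faithfully and primitively on a set X, and suppose the stabilizer of some point is a simple group. Then either G is simple, or G has a normal subgroup, neither trivial nor the whole group, that acts regularly on X (transitively with trivial point stabilizers). -/
theorem result {G : Type*} [Group G] {X : Type*} [MulAction G X] [FaithfulSMul G X]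
    (hprim : MulAction.IsPreprimitive G X) (x : X) (hsimple : IsSimpleGroup (MulAction.stabilizer G x)) :
    IsSimpleGroup G ∨ ∃ N : Subgroup G, N.Normal ∧ N ≠ ⊥ ∧ N ≠ ⊤ ∧
      MulAction.IsPretransitive N X ∧ ∀ y : X, MulAction.stabilizer N y = ⊥ := by
  classical
  haveI := hprim
  haveI := hsimple
  haveI : MulAction.IsPretransitive G X := hprim.toIsPretransitive
  haveI : MulAction.IsQuasiPreprimitive G X := inferInstance
  refine or_iff_not_imp_left.2 fun hns => ?_
  haveI : Nontrivial (MulAction.stabilizer G x) := hsimple.toNontrivial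
  haveI : Nontrivial G := Function.Injective.nontrivial (MulAction.stabilizer G x).subtype_injective
  obtain ⟨N, hN, hNb, hNt⟩ : ∃ N : Subgroup G, N.Normal ∧ N ≠ ⊥ ∧ N ≠ ⊤ := by
    by_contra hcon
    push Not at hcon
    exact hns ⟨fun N hN => (em (N = ⊥)).imp_right (hcon N hN)⟩
  have htr : MulAction.IsPretransitive N X := by
    refine MulAction.IsQuasiPreprimitive.isPretransitive_of_normal (G := G) fun hfix => hNb ?_
    refine eq_bot_iff.2 fun n hn => ?_
    rw [mem_bot]
    refine eq_of_smul_eq_smul (α := X) fun y => ?_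
    rw [one_smul]
    exact (Set.eq_univ_iff_forall.1 hfix y) ⟨n, hn⟩
  haveI := htr
  refine ⟨N, hN, hNb, hNt, htr, fun y => ?_⟩
  rcases IsSimpleGroup.eq_bot_or_eq_top_of_normal
    (N.subgroupOf (MulAction.stabilizer G x)) inferInstance with h | h
  · rw [eq_bot_iff]
    intro n hn
    obtain ⟨m, hm⟩ := MulAction.exists_smul_eq N x y
    have hn' : (n : G) • y = y := hn
    have hm' : (m : G) • x = y := hm
    have hmem : ((m : G)⁻¹ * n * m) • x = x := by
      rw [mul_smul, mul_smul, hm', hn', ← hm', inv_smul_smul]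
    have h2 : (⟨(m : G)⁻¹ * n * m, hmem⟩ : MulAction.stabilizer G x) ∈
        N.subgroupOf (MulAction.stabilizer G x) :=
      N.mul_mem (N.mul_mem (N.inv_mem m.2) n.2) m.2
    rw [h, mem_bot] at h2
    have h3 : (m : G)⁻¹ * n * m = 1 := congrArg Subtype.val h2
    rw [mem_bot]
    refine Subtype.ext ?_
    calc (n : G) = (m : G) * ((m : G)⁻¹ * n * m) * (m : G)⁻¹ := by group
      _ = 1 := by rw [h3]; group
  · refine absurd (eq_top_iff.2 fun g _ => ?_) hNt
    obtain ⟨m, hm⟩ := MulAction.exists_smul_eq N x (g • x)
    have hm' : (m : G) • x = g • x := hm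
    have h2 : (m : G)⁻¹ * g ∈ N := subgroupOf_eq_top.1 h (show (m : G)⁻¹ * g ∈ MulAction.stabilizer G x by
      rw [MulAction.mem_stabilizer_iff, mul_smul, ← hm', inv_smul_smul])
    simpa using N.mul_mem m.2 h2

end Cfsg.Agent.S4300
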