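import Cfsg.Statements.S4301
import Mathlib

set_option autoImplicit false
open Cfsg

namespace Cfsg.Agent.S4301

/-- One-point extension of a multiply transitive group. Let X be a set and G a group of permutations of Option X (the set X with one extra point ∗ = none) all of whose elements fix ∗, such that G is k-transitive on the points of X for some k ≥ 2, X having at least k points. Suppose a permutation h of Option X and an element g of G satisfy: h interchanges ∗ with a point x of X and fixes a point y of X; g interchanges x and y; (g h)³ and h² lie in G; and for every f in G fixing x, the product h f h lies in G and fixes x. Then an element of the group generated by G and h fixes ∗ exactly when it lies in G, and that group acts (k+1)-transitively on Option X. -/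
theorem result {X : Type*} (G : Subgroup (Equiv.Perm (Option X))) (hfix : ∀ f ∈ G, f none = none)
    (k : ℕ) (hk : 2 ≤ k) (hkX : Nonempty (Fin k ↪ X))
    (htrans : ∀ a b : Fin k ↪ X, ∃ f ∈ G, ∀ i, f (some (a i)) = some (b i))
    (h g : Equiv.Perm (Option X)) (hg : g ∈ G) (x y : X)
    (h1 : h none = some x) (h2 : h (some x) = none) (h3 : h (some y) = some y)
    (h4 : g (some x) = some y) (h5 : g (some y) = some x)
    (h6 : (g * h) ^ 3 ∈ G) (h7 : h ^ 2 ∈ G)
    (h8 : ∀ f ∈ G, f (some x) = some x → h * f * h ∈ G ∧ (h * f * h) (some x) = some x) :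
    (∀ f ∈ Subgroup.closure ((G : Set (Equiv.Perm (Option X))) ∪ {h}), f none = none ↔ f ∈ G) ∧
      MulAction.IsMultiplyPretransitive (Subgroup.closure ((G : Set (Equiv.Perm (Option X))) ∪ {h})) (Option X) (k + 1) := by
  classical
  -- transitivity on pairs of points of `X`
  obtain ⟨b₀⟩ := hkX
  have h2t : ∀ u v u' v' : X, u ≠ v → u' ≠ v' → ∃ f ∈ G, f (some u) = some u' ∧ f (some v) = some v' := by
    intro u v u' v' huv huv'
    let i0 : Fin k := ⟨0, by omega⟩
    let i1 : Fin k := ⟨1, by omega⟩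
    have hi : i0 ≠ i1 := by simp [i0, i1, Fin.ext_iff]
    have hext : ∀ s t : X, s ≠ t → ∃ a : Fin k ↪ X, a i0 = s ∧ a i1 = t := by
      intro s t hst
      let π := Equiv.swap (b₀ i0) s
      refine ⟨b₀.trans ((π.trans (Equiv.swap (π (b₀ i1)) t)).toEmbedding), ?_, ?_⟩
      · show Equiv.swap (π (b₀ i1)) t (π (b₀ i0)) = s
        rw [show π (b₀ i0) = s from Equiv.swap_apply_left _ _,
          Equiv.swap_apply_of_ne_of_ne (fun h => hi (b₀.injective (π.injective
            ((Equiv.swap_apply_left (b₀ i0) s).trans h)))) hst]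
      · exact Equiv.swap_apply_left _ _
    obtain ⟨a, ha0, ha1⟩ := hext u v huv
    obtain ⟨b, hb0, hb1⟩ := hext u' v' huv'
    obtain ⟨f, hf, hfab⟩ := htrans a b
    refine ⟨f, hf, ?_, ?_⟩
    · rw [← ha0, ← hb0]; exact hfab i0
    · rw [← ha1, ← hb1]; exact hfab i1
  have hxy : x ≠ y := fun e => by rw [e, h3] at h2; exact Option.some_ne_none _ h2
  have h1t : ∀ u u' : X, ∃ f ∈ G, f (some u) = some u' := by
    intro u u'
    obtain ⟨v, hv⟩ : ∃ v, u ≠ v := by
      by_cases hux : u = x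
      · exact ⟨y, hux ▸ hxy⟩
      · exact ⟨x, hux⟩
    obtain ⟨v', hv'⟩ : ∃ v', u' ≠ v' := by
      by_cases hux : u' = x
      · exact ⟨y, hux ▸ hxy⟩
      · exact ⟨x, hux⟩
    obtain ⟨f, hf, hfu, -⟩ := h2t u v u' v' hv hv'
    exact ⟨f, hf, hfu⟩
  let D : Set (Equiv.Perm (Option X)) := {w | ∃ a ∈ G, ∃ b ∈ G, w = a * h * b}
  let K : Set (Equiv.Perm (Option X)) := (G : Set (Equiv.Perm (Option X))) ∪ D
  have hGK : ∀ a ∈ G, ∀ w ∈ K, ∀ b ∈ G, a * w * b ∈ K := by
    rintro a ha w (hw | ⟨c, hc, d, hd, rfl⟩) b hb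
    · exact Or.inl (G.mul_mem (G.mul_mem ha hw) hb)
    · exact Or.inr ⟨a * c, G.mul_mem ha hc, d * b, G.mul_mem hd hb, by group⟩
  have he : h * h ∈ G := by rw [← pow_two]; exact h7
  have hhK : h ∈ K := Or.inr ⟨1, G.one_mem, 1, G.one_mem, by group⟩
  have hhgh : h * g * h ∈ K := by
    have h6' : g * h * (g * h) * (g * h) ∈ G := by
      have : (g * h) ^ 3 = g * h * (g * h) * (g * h) := by rw [pow_succ, pow_two]
      rwa [← this]
    refine Or.inr ⟨g⁻¹ * (g * h * (g * h) * (g * h)) * (h * h)⁻¹, G.mul_mem (G.mul_mem (G.inv_mem hg) h6') (G.inv_mem he),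
      g⁻¹, G.inv_mem hg, ?_⟩
    group
  have hhfh : ∀ f ∈ G, h * f * h ∈ K := by
    intro f hf
    by_cases hfx : f (some x) = some x
    · exact Or.inl (h8 f hf hfx).1
    obtain ⟨z, hz⟩ : ∃ z, f (some x) = some z := by
      cases hfz : f (some x) with
      | none => exact absurd (f.injective (hfz.trans (hfix f hf).symm)) (Option.some_ne_none _)
      | some z => exact ⟨z, rfl⟩
    have hzx : z ≠ x := fun e => hfx (e ▸ hz)
    obtain ⟨f₁, hf₁, hf₁x, hf₁y⟩ := h2t x y x z hxy (Ne.symm hzx)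
    have hf₂ : (f₁ * g)⁻¹ * f ∈ G := G.mul_mem (G.inv_mem (G.mul_mem hf₁ hg)) hf
    have hf₂x : ((f₁ * g)⁻¹ * f) (some x) = some x := by
      rw [Equiv.Perm.mul_apply, hz, Equiv.Perm.inv_eq_iff_eq, Equiv.Perm.mul_apply, h4, hf₁y]
    set f₂ := (f₁ * g)⁻¹ * f with hf₂d
    have key : h * f * h = (h * f₁ * h * (h * h)⁻¹) * (h * g * h) * ((h * h)⁻¹ * (h * f₂ * h)) := by
      rw [hf₂d]; group
    rw [key]
    exact hGK _ (G.mul_mem (h8 f₁ hf₁ hf₁x).1 (G.inv_mem he)) _ hhgh _ (G.mul_mem (G.inv_mem he) (h8 f₂ hf₂ hf₂x).1)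
  have hclosed : ∀ u ∈ K, ∀ v ∈ K, u * v ∈ K := by
    rintro u (hu | ⟨a, ha, b, hb, rfl⟩) v hv
    · simpa using hGK u hu v hv 1 G.one_mem
    · rcases hv with hv | ⟨c, hc, d, hd, rfl⟩
      · exact Or.inr ⟨a, ha, b * v, G.mul_mem hb hv, by group⟩
      · have := hGK a ha _ (hhfh _ (G.mul_mem hb hc)) d hd
        rwa [show a * h * b * (c * h * d) = a * (h * (b * c) * h) * d by group]
  have hinv : ∀ u ∈ K, u⁻¹ ∈ K := by
    rintro u (hu | ⟨a, ha, b, hb, rfl⟩)
    · exact Or.inl (G.inv_mem hu)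
    · exact Or.inr ⟨b⁻¹ * (h * h)⁻¹, G.mul_mem (G.inv_mem hb) (G.inv_mem he), a⁻¹, G.inv_mem ha, by group⟩
  set C := Subgroup.closure ((G : Set (Equiv.Perm (Option X))) ∪ {h}) with hC
  have hCK : ∀ w ∈ C, w ∈ K := by
    intro w hw
    let KK : Subgroup (Equiv.Perm (Option X)) :=
      { carrier := K
        mul_mem' := fun {u v} hu hv => hclosed u hu v hv
        one_mem' := Or.inl G.one_mem
        inv_mem' := fun {u} hu => hinv u hu }
    exact (Subgroup.closure_le KK).2 (Set.union_subset (fun f hf => Or.inl hf) (by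
      rintro _ rfl; exact hhK)) hw
  have hGC : G ≤ C := fun f hf => Subgroup.subset_closure (Or.inl hf)
  have hhC : h ∈ C := Subgroup.subset_closure (Or.inr rfl)
  refine ⟨fun f hf => ⟨fun hfn => ?_, fun hfG => hfix f hfG⟩, ?_⟩
  · rcases hCK f hf with hfG | ⟨a, ha, b, hb, rfl⟩
    · exact hfG
    · exfalso
      rw [Equiv.Perm.mul_apply, Equiv.Perm.mul_apply, hfix b hb, h1] at hfn
      exact Option.some_ne_none _ (a.injective (hfn.trans (hfix a ha).symm))
  · have hto : ∀ z : Option X, ∃ w ∈ C, w z = none := by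
      rintro (_ | z)
      · exact ⟨1, C.one_mem, rfl⟩
      · obtain ⟨f, hf, hfz⟩ := h1t z x
        exact ⟨h * f, C.mul_mem hhC (hGC hf), by rw [Equiv.Perm.mul_apply, hfz, h2]⟩
    have hnorm : ∀ a : Fin (k + 1) ↪ Option X, ∃ w ∈ C, w (a 0) = none ∧ ∀ i : Fin k, w (a i.succ) = some (b₀ i) := by
      intro a
      obtain ⟨w, hw, hw0⟩ := hto (a 0)
      have hs : ∀ i : Fin k, ∃ z, w (a i.succ) = some z := fun i => by
        cases hz : w (a i.succ) with
        | none => exact absurd (a.injective (w.injective (hz.trans hw0.symm))) (Fin.succ_ne_zero i)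
        | some z => exact ⟨z, rfl⟩
      choose c hc using hs
      obtain ⟨f, hf, hfc⟩ := htrans ⟨c, fun i j hij =>
        Fin.succ_injective _ (a.injective (w.injective (by rw [hc, hc, hij])))⟩ b₀
      refine ⟨f * w, C.mul_mem (hGC hf) hw, by rw [Equiv.Perm.mul_apply, hw0, hfix f hf], fun i => ?_⟩
      rw [Equiv.Perm.mul_apply, hc]
      exact hfc i
    refine ⟨fun a b => ?_⟩
    obtain ⟨u, hu, hu0, hus⟩ := hnorm a
    obtain ⟨v, hv, hv0, hvs⟩ := hnorm b
    refine ⟨⟨v⁻¹ * u, C.mul_mem (C.inv_mem hv) hu⟩, ?_⟩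
    apply DFunLike.ext
    intro i
    show (v⁻¹ * u) (a i) = b i
    rw [Equiv.Perm.mul_apply, Equiv.Perm.inv_eq_iff_eq]
    refine Fin.cases ?_ (fun j => ?_) i
    · rw [hu0, hv0]
    · rw [hus, hvs]

end Cfsg.Agent.S4301
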