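import Cfsg.Statements.S4303
import Cfsg.Agent.Lib.Fusion.SylowCount

set_option autoImplicit false
universe u
open Cfsg

namespace Cfsg.Agent.S4303

/-- For a finite group `G` and a prime `p`, the number of Sylow `p`-subgroups of `G` is a product of natural numbers each of which is either a prime power congruent to 1 modulo `p` or the number of Sylow `p`-subgroups of some finite simple group. -/
theorem result {G : Type u} [Group G] [Finite G]
    (p : ℕ) [Fact p.Prime] :
    ∃ l : List ℕ, l.prod = Nat.card (Sylow p G) ∧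
      ∀ m ∈ l, (IsPrimePow m ∧ m % p = 1) ∨
        ∃ (S : Type u) (_ : Group S) (_ : Finite S), IsSimpleGroup S ∧ m = Nat.card (Sylow p S) := by
  classical
  refine Cfsg.Lib.Fusion.SylowCount.sylow_number_induction_self (p := p)
    (Q := fun n => ∃ l : List ℕ, l.prod = n ∧ ∀ m ∈ l, (IsPrimePow m ∧ m % p = 1) ∨
        ∃ (S : Type u) (_ : Group S) (_ : Finite S), IsSimpleGroup S ∧ m = Nat.card (Sylow p S))
    ⟨[], rfl, fun m hm => absurd hm (List.not_mem_nil)⟩ ?_ ?_ ?_
  · rintro a b ⟨la, rfl, hla⟩ ⟨lb, rfl, hlb⟩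
    exact ⟨la ++ lb, List.prod_append, fun m hm => (List.mem_append.1 hm).elim (hla m) (hlb m)⟩
  · intro n hn h
    refine ⟨n.primeFactors.toList.map (fun q => q ^ n.factorization q), ?_, fun m hm => Or.inl ?_⟩
    · rw [Finset.prod_map_toList]
      exact Nat.prod_factorization_pow_eq_self hn
    · obtain ⟨q, hq, rfl⟩ := List.mem_map.1 hm
      rw [Finset.mem_toList] at hq
      have hqp := Nat.prime_of_mem_primeFactors hq
      refine ⟨(Nat.prime_iff.1 hqp).isPrimePow.pow ?_, ?_⟩
      · exact (hqp.factorization_pos_of_dvd hn (Nat.dvd_of_mem_primeFactors hq)).ne'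
      · exact (show _ % p = 1 % p from h q hqp).trans (Nat.mod_eq_of_lt (Fact.out (p := p.Prime)).one_lt)
  · intro H N _ hs
    exact ⟨[Nat.card (Sylow p (H ⧸ N))], List.prod_singleton, fun m hm =>
      Or.inr ⟨H ⧸ N, inferInstance, inferInstance, hs, List.mem_singleton.1 hm⟩⟩

end Cfsg.Agent.S4303
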