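import Cfsg.Statements.S4305
import Cfsg.Agent.Lib.SymThree.Main
import Cfsg.Agent.Lib.SymThree.BaseChange
import Cfsg.Agent.Lib.Core.Fitting
import Cfsg.Agent.Lib.Core.Layer
import Cfsg.Agent.Lib.Core.Cores

set_option autoImplicit false
open Cfsg

namespace Cfsg.Agent.S4305

open Subgroup
open Cfsg.Lib.SymThree (Datum Inv Free Action)

universe u

/-- The element of a finite group fixed modulo an invariant subgroup lies in it. -/
theorem mem_of_fixed {G : Type u} [Group G] [Finite G] (σ τ : MulAut G) (d : Datum σ τ)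
    (hcop : (Nat.card G).Coprime 6) (hfpf : ∀ g, σ g = g → τ g = g → g = 1) (N : Subgroup G)
    (hσ : ∀ n ∈ N, σ n ∈ N) (hτ : ∀ n ∈ N, τ n ∈ N) {g : G} (hs : g⁻¹ * σ g ∈ N)
    (ht : g⁻¹ * τ g ∈ N) : g ∈ N := by
  let L : G →* Equiv.Perm G := MulAction.toPermHom G G
  have hL : ∀ a x : G, L a x = a * x := fun a x => rfl
  have hinj : Function.Injective L := fun a b h => by
    have h1 := Equiv.congr_fun h 1
    rwa [hL, hL, mul_one, mul_one] at h1
  let T := MulAut.toPerm (M := G)
  have hconj : ∀ (x : MulAut G) (a : G), T x * L a * (T x)⁻¹ = L (x a) := fun x a =>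
    Equiv.ext fun y => by
      show x (a * x.symm y) = x a * y
      rw [map_mul, MulEquiv.apply_symm_apply]
  have hd : Datum (T σ) (T τ) :=
    ⟨by rw [← map_pow, d.s_pow, map_one], by rw [← map_mul, d.t_mul, map_one],
      by rw [← map_mul, ← map_mul, d.t_s_t, map_inv]⟩
  have hF : Free (T σ) (T τ) L.range := by
    rintro _ ⟨a, rfl⟩ h1 h2
    rw [hconj] at h1 h2
    rw [hfpf a (hinj h1) (hinj h2), map_one]
  have hI : Inv (T σ) (T τ) (N.map L) := by
    rintro _ ⟨a, ha, rfl⟩
    rw [hconj, hconj]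
    exact ⟨mem_map_of_mem _ (hσ a ha), mem_map_of_mem _ (hτ a ha)⟩
  have : Finite (N.map L) := Finite.of_injective _ Subtype.val_injective
  have h := Cfsg.Lib.SymThree.mem_of_fixed_mod hd hF (map_le_range L N) hI
    (by rw [card_map_of_injective hinj]; exact hcop.coprime_dvd_left (card_subgroup_dvd_card N))
    (h := L g) ⟨g, rfl⟩ (by rw [hconj, ← map_inv, ← map_mul]; exact mem_map_of_mem _ hs)
    (by rw [hconj, ← map_inv, ← map_mul]; exact mem_map_of_mem _ ht)
  obtain ⟨a, ha, hag⟩ := h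
  rwa [← hinj hag]

/-- A restriction of an automorphism to an invariant subgroup. -/
noncomputable def restr {G : Type u} [Group G] [Finite G] (N : Subgroup G) (σ : MulAut G)
    (h : ∀ n ∈ N, σ n ∈ N) : MulAut N :=
  MulEquiv.ofBijective ((σ.toMonoidHom.comp N.subtype).codRestrict N fun x => h x x.2)
    (Finite.injective_iff_bijective.mp fun _ _ hab =>
      Subtype.ext (σ.injective (congrArg Subtype.val hab)))

theorem main : ∀ (n : ℕ) (G : Type u) [Group G] [Finite G], Nat.card G = n → Group.IsSolvable G →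
    (Nat.card G).Coprime 6 → ∀ σ τ : MulAut G, Datum σ τ →
    (∀ g, σ g = g → τ g = g → g = 1) → Group.IsNilpotent (commutator G) := by
  intro n
  induction n using Nat.strong_induction_on with
  | _ n ih =>
  intro G _ _ hn hsol hcop σ τ d hfpf
  subst hn
  cases subsingleton_or_nontrivial G
  · infer_instance
  obtain ⟨N, ⟨hNn, hNσ, hNτ, hNne⟩, hmin0⟩ := (Set.toFinite
    {N : Subgroup G | N.Normal ∧ (∀ x ∈ N, σ x ∈ N) ∧ (∀ x ∈ N, τ x ∈ N) ∧ N ≠ ⊥}).exists_minimal
    ⟨⊤, inferInstance, fun x _ => mem_top _, fun x _ => mem_top _, top_ne_bot⟩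
  have hmin : ∀ M : Subgroup G, M.Normal → (∀ x ∈ M, σ x ∈ M) → (∀ x ∈ M, τ x ∈ M) → M ≤ N →
      M = ⊥ ∨ M = N := fun M h1 h2 h3 h4 => by
    by_cases h : M = ⊥
    · exact Or.inl h
    · exact Or.inr (le_antisymm h4 (hmin0 ⟨h1, h2, h3, h⟩ h4))
  have hchar : ∀ (e : MulAut G), (∀ x ∈ N, e x ∈ N) → ∀ x ∈ ⁅N, N⁆, e x ∈ ⁅N, N⁆ := fun e he x hx => by
    have h1 : e x ∈ (⁅N, N⁆).map e.toMonoidHom := mem_map_of_mem _ hx
    rw [map_commutator] at h1
    have h2 : N.map e.toMonoidHom ≤ N := by rintro _ ⟨y, hy, rfl⟩; exact he y hy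
    exact commutator_mono h2 h2 h1
  have hab : ∀ a ∈ N, ∀ b ∈ N, a * b = b * a := by
    rcases hmin ⁅N, N⁆ inferInstance (hchar σ hNσ) (hchar τ hNτ) (commutator_le_self N) with h | h
    · intro a ha b hb
      exact commutatorElement_eq_one_iff_mul_comm.mp
        (mem_bot.mp (h.le (commutator_mem_commutator ha hb)))
    · exact absurd (Cfsg.Lib.SymThree.eq_bot_of_commutator_eq h.ge) hNne
  letI hNc : CommGroup N := { (inferInstance : Group N) with
    mul_comm := fun a b => Subtype.ext (hab a a.2 b b.2) }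
  -- `N` is elementary
  obtain ⟨p, hp, hpN⟩ := Nat.exists_prime_and_dvd (n := Nat.card N)
    (fun h => hNne (card_eq_one.mp h))
  have : Fact p.Prime := ⟨hp⟩
  have hp6 : ¬ p ∣ 6 := fun h => hp.not_dvd_one (hcop.gcd_eq_one ▸
    Nat.dvd_gcd (hpN.trans (card_subgroup_dvd_card N)) h)
  have hexp : ∀ x ∈ N, x ^ p = 1 := by
    let Ω : Subgroup G :=
      { carrier := {x | x ∈ N ∧ x ^ p = 1}
        one_mem' := ⟨one_mem N, one_pow p⟩
        mul_mem' := fun {a b} ha hb => ⟨mul_mem ha.1 hb.1, by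
          rw [(show Commute a b from hab a ha.1 b hb.1).mul_pow, ha.2, hb.2, one_mul]⟩
        inv_mem' := fun {a} ha => ⟨inv_mem ha.1, by rw [inv_pow, ha.2, inv_one]⟩ }
    have h1 : Ω.Normal := ⟨fun x hx g => ⟨hNn.conj_mem x hx.1 g, by rw [conj_pow, hx.2]; group⟩⟩
    rcases hmin Ω h1 (fun x hx => ⟨hNσ x hx.1, by rw [← map_pow, hx.2, map_one]⟩)
      (fun x hx => ⟨hNτ x hx.1, by rw [← map_pow, hx.2, map_one]⟩) (fun x hx => hx.1) with h | h
    · obtain ⟨x, hx⟩ := exists_prime_orderOf_dvd_card' (G := N) p hpN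
      have hx1 : (x : G) ∈ Ω := ⟨x.2, by
        rw [← hx, ← orderOf_coe, pow_orderOf_eq_one]⟩
      rw [h, mem_bot] at hx1
      rw [← orderOf_coe, hx1, orderOf_one] at hx
      exact absurd hx.symm hp.ne_one
    · exact fun x hx => (h ▸ hx : x ∈ Ω).2
  have hNp : IsPGroup p N := fun x => ⟨1, Subtype.ext (by simpa using hexp x x.2)⟩
  -- the action on `N`
  let π : G →* MulAut N := MulAut.conjNormal
  let s : MulAut N := restr N σ hNσ
  let t : MulAut N := restr N τ hNτ
  have hsval : ∀ x : N, ((s x : N) : G) = σ x := fun x => rfl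
  have htval : ∀ x : N, ((t x : N) : G) = τ x := fun x => rfl
  have dst : Datum s t := by
    refine ⟨MulEquiv.ext fun x => Subtype.ext ?_, MulEquiv.ext fun x => Subtype.ext ?_, ?_⟩
    · rw [pow_succ, pow_two, MulAut.mul_apply, MulAut.mul_apply, hsval, hsval, hsval,
        ← MulAut.mul_apply, ← MulAut.mul_apply, ← pow_two, ← pow_succ, d.s_pow]
      rfl
    · rw [MulAut.mul_apply, htval, htval, ← MulAut.mul_apply, d.t_mul]
      rfl
    · refine eq_inv_of_mul_eq_one_left (MulEquiv.ext fun x => Subtype.ext ?_)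
      rw [MulAut.mul_apply, MulAut.mul_apply, MulAut.mul_apply, htval, hsval, htval, hsval,
        ← MulAut.mul_apply, ← MulAut.mul_apply, ← MulAut.mul_apply, d.t_s_t, inv_mul_cancel]
      rfl
  have hcommσ : ∀ g, π (σ g) = s * π g * s⁻¹ := fun g => by
    refine eq_mul_inv_iff_mul_eq.mpr (MulEquiv.ext fun x => Subtype.ext ?_)
    rw [MulAut.mul_apply, MulAut.mul_apply, MulAut.conjNormal_apply, hsval, hsval,
      MulAut.conjNormal_apply, map_mul, map_mul, map_inv]
  have hcommτ : ∀ g, π (τ g) = t * π g * t⁻¹ := fun g => by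
    refine eq_mul_inv_iff_mul_eq.mpr (MulEquiv.ext fun x => Subtype.ext ?_)
    rw [MulAut.mul_apply, MulAut.mul_apply, MulAut.conjNormal_apply, htval, htval,
      MulAut.conjNormal_apply, map_mul, map_mul, map_inv]
  set H := π.range with hH
  have hIH : Inv s t H := by
    rintro _ ⟨g, rfl⟩
    exact ⟨⟨σ g, hcommσ g⟩, ⟨τ g, hcommτ g⟩⟩
  have hFH : Free s t H := by
    rintro _ ⟨g, rfl⟩ h1 h2
    rw [← hcommσ] at h1
    rw [← hcommτ] at h2
    have hkσ : ∀ a ∈ π.ker, σ a ∈ π.ker := fun a ha => by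
      rw [MonoidHom.mem_ker, hcommσ, MonoidHom.mem_ker.mp ha, mul_one, mul_inv_cancel]
    have hkτ : ∀ a ∈ π.ker, τ a ∈ π.ker := fun a ha => by
      rw [MonoidHom.mem_ker, hcommτ, MonoidHom.mem_ker.mp ha, mul_one, mul_inv_cancel]
    exact MonoidHom.mem_ker.mp (mem_of_fixed σ τ d hcop hfpf π.ker hkσ hkτ
      (by rw [MonoidHom.mem_ker, map_mul, map_inv, h1, inv_mul_cancel])
      (by rw [MonoidHom.mem_ker, map_mul, map_inv, h2, inv_mul_cancel]))
  have hHcop : (Nat.card H).Coprime 6 := hcop.coprime_dvd_left (card_range_dvd π)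
  have hHsol : Group.IsSolvable H := Group.isSolvable_of_surjective π.rangeRestrict_surjective
  -- `O_p(H)` is trivial
  have hOp : Cfsg.pCore p H = ⊥ := by
    set O := (Cfsg.pCore p H).map H.subtype with hO
    have hOp : IsPGroup p O := (Lib.Core.pCore_isPGroup p H).map _
    let Wf : Subgroup G :=
      { carrier := {x | ∃ hx : x ∈ N, ∀ o ∈ O, o ⟨x, hx⟩ = ⟨x, hx⟩}
        one_mem' := ⟨one_mem N, fun o _ => map_one o⟩
        mul_mem' := fun {a b} ha hb => ⟨mul_mem ha.1 hb.1, fun o ho => by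
          show o (⟨a, ha.1⟩ * ⟨b, hb.1⟩) = _
          rw [map_mul, ha.2 o ho, hb.2 o ho]; rfl⟩
        inv_mem' := fun {a} ha => ⟨inv_mem ha.1, fun o ho => by
          show o (⟨a, ha.1⟩⁻¹) = _
          rw [map_inv, ha.2 o ho]; rfl⟩ }
    have hOn : ∀ g : G, ∀ o ∈ O, (π g)⁻¹ * o * π g ∈ O := by
      rintro g _ ⟨o, ho, rfl⟩
      refine ⟨⟨π g, g, rfl⟩⁻¹ * o * ⟨π g, g, rfl⟩, ?_, rfl⟩
      have hn : (Cfsg.pCore p H).Normal := inferInstance
      simpa using hn.conj_mem o ho ⟨π g, g, rfl⟩⁻¹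
    have hOinv : Inv s t O := Cfsg.Lib.SymThree.map_subtype_inv hIH (Cfsg.pCore p H)
    have h1 : Wf.Normal := by
      refine ⟨fun x hx g => ⟨hNn.conj_mem x hx.1 g, fun o ho => ?_⟩⟩
      have h2 := hx.2 _ (hOn g o ho)
      have e : π g ⟨x, hx.1⟩ = ⟨g * x * g⁻¹, hNn.conj_mem x hx.1 g⟩ :=
        Subtype.ext (MulAut.conjNormal_apply g _)
      rw [← e]
      conv_rhs => rw [← h2]
      rw [← MulAut.mul_apply, ← MulAut.mul_apply, ← mul_assoc, ← mul_assoc, mul_inv_cancel, one_mul]
    have hWf : ∀ (e : MulAut N) (f : MulAut G), (∀ x : N, ((e x : N) : G) = f x) →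
        (∀ o ∈ O, e⁻¹ * o * e ∈ O) → ∀ x ∈ Wf, f x ∈ Wf := by
      rintro e f hef hOe x ⟨hx, hxo⟩
      have hfx : f x ∈ N := hef ⟨x, hx⟩ ▸ (e ⟨x, hx⟩).2
      refine ⟨hfx, fun o ho => ?_⟩
      have h3 := hxo _ (hOe o ho)
      rw [show (⟨f x, hfx⟩ : N) = e ⟨x, hx⟩ from Subtype.ext (hef ⟨x, hx⟩).symm]
      conv_rhs => rw [← h3]
      rw [← MulAut.mul_apply, ← MulAut.mul_apply, ← mul_assoc, ← mul_assoc, mul_inv_cancel, one_mul]
    have hWσ : ∀ x ∈ Wf, σ x ∈ Wf := hWf s σ hsval fun o ho => by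
      have h3 := (hOinv _ (hOinv o ho).1).1
      rw [dst.s_inv]
      simpa [mul_assoc, dst.s_inv, dst.s3, dst.s3'] using h3
    have hWτ : ∀ x ∈ Wf, τ x ∈ Wf := hWf t τ htval fun o ho => by
      have h3 := (hOinv o ho).2
      rw [dst.t_inv] at h3 ⊢
      exact h3
    rcases hmin Wf h1 hWσ hWτ (fun x hx => hx.1) with hW | hW
    · exfalso
      obtain ⟨b, hb, hb1⟩ := hOp.exists_fixed_point_of_prime_dvd_card_of_fixed_point (N : Type u)
        hpN (a := (1 : N)) (fun o => map_one (o : MulAut N))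
      have : (b : G) ∈ Wf := ⟨b.2, fun o ho => hb ⟨o, ho⟩⟩
      rw [hW, mem_bot] at this
      exact hb1 (Subtype.ext this.symm)
    · apply map_injective H.subtype_injective
      rw [← hO, Subgroup.map_bot]
      refine (eq_bot_iff_forall O).mpr fun o ho => MulEquiv.ext fun x => ?_
      have hx : (x : G) ∈ Wf := hW.ge x.2
      exact hx.2 o ho
  have hFp : ¬ p ∣ Nat.card (Cfsg.fittingSubgroup H) := by
    intro hd
    have hnil := Lib.Core.fittingSubgroup_isNilpotent H
    obtain ⟨x, hx⟩ := exists_prime_orderOf_dvd_card' (G := Cfsg.fittingSubgroup H) p hd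
    obtain ⟨P, hP⟩ := (IsPGroup.of_card (n := 1) (by rw [Nat.card_zpowers, hx, pow_one]) :
      IsPGroup p (zpowers x)).exists_le_sylow
    have hPn : (P : Subgroup (Cfsg.fittingSubgroup H)).Normal :=
      P.normal_of_normalizerCondition (Group.normalizerCondition_of_isNilpotent)
    have hchar := P.characteristic_of_normal hPn
    have hn : ((P : Subgroup (Cfsg.fittingSubgroup H)).map (Cfsg.fittingSubgroup H).subtype).Normal :=
      inferInstance
    have hle := Lib.Core.le_pCore' hn (P.2.map _)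
    rw [hOp, le_bot_iff, Subgroup.map_eq_bot_iff_of_injective _ (subtype_injective _)] at hle
    have : x ∈ (P : Subgroup (Cfsg.fittingSubgroup H)) := hP (mem_zpowers x)
    rw [hle, mem_bot] at this
    rw [this, orderOf_one] at hx
    exact hp.ne_one hx.symm
  obtain ⟨W, _, _, _, ρ, hρ, hsum⟩ := Cfsg.Lib.SymThree.exists_closed_rep (V := N) p
    (fun v => Subtype.ext (by simpa using hexp v v.2))
  have h6 : (6 : AlgebraicClosure (ZMod p)) ≠ 0 := by
    intro h
    have h' : ((6 : ℕ) : AlgebraicClosure (ZMod p)) = 0 := by exact_mod_cast h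
    exact hp6 ((CharP.cast_eq_zero_iff (AlgebraicClosure (ZMod p)) p 6).mp h')
  have hA : Action ρ s t := by
    refine ⟨dst, ?_, h6⟩
    have h := hsum [1, s, s * s, t, t * s, t * (s * s)] fun v => by
      simp only [List.map_cons, List.map_nil, List.prod_cons, List.prod_nil, mul_one,
        MulAut.one_apply]
      have e : ∀ z : N, s (t z) = t (s (s z)) := fun z => by
        rw [← MulAut.mul_apply, ← MulAut.mul_apply, ← MulAut.mul_apply]
        refine DFunLike.congr_fun ?_ z
        rw [mul_assoc, ← dst.s_inv, ← dst.t_s_t, ← mul_assoc, ← mul_assoc, dst.t_mul, one_mul]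
      have e3 : ∀ z : N, s (s (s z)) = z := fun z => by
        rw [← MulAut.mul_apply, ← MulAut.mul_apply, mul_assoc, dst.s3', MulAut.one_apply]
      have e2 : ∀ z : N, t (t z) = z := fun z => by
        rw [← MulAut.mul_apply, dst.t_mul, MulAut.one_apply]
      simp only [MulAut.mul_apply]
      set P := v * (s v * (s (s v) * (t v * (t (s v) * t (s (s v)))))) with hP
      have hs' : s P = P := by
        simp only [hP, map_mul, e, e3]
        ac_rfl
      have ht' : t P = P := by
        simp only [hP, map_mul, e2]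
        ac_rfl
      exact Subtype.ext (hfpf _ ((hsval P).symm.trans (congrArg Subtype.val hs'))
        ((htval P).symm.trans (congrArg Subtype.val ht')))
    simpa [List.map_cons, List.sum_cons, add_assoc] using h
  have hHab := Cfsg.Lib.SymThree.commutative_of_free hA hρ H hHsol hIH hFH hHcop
    (fun h => hFp ((CharP.cast_eq_zero_iff (AlgebraicClosure (ZMod p)) p _).mp h))
  have hcent : ∀ c ∈ commutator G, π c = 1 := by
    have : commutator G ≤ π.ker := by
      rw [_root_.commutator_def, commutator_le]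
      intro a _ b _
      rw [MonoidHom.mem_ker, map_commutatorElement, commutatorElement_eq_one_iff_mul_comm]
      exact hHab _ ⟨a, rfl⟩ _ ⟨b, rfl⟩
    exact fun c hc => this hc
  -- induction
  have hmap : ∀ e : MulAut G, (∀ x ∈ N, e x ∈ N) → N.map e.toMonoidHom = N := fun e he => by
    refine eq_of_le_of_card_ge ?_ (card_map_of_injective e.injective).ge
    rintro _ ⟨x, hx, rfl⟩
    exact he x hx
  let σ' : MulAut (G ⧸ N) := QuotientGroup.congr N N σ (hmap σ hNσ)
  let τ' : MulAut (G ⧸ N) := QuotientGroup.congr N N τ (hmap τ hNτ)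
  have hσ'v : ∀ g : G, σ' (g : G ⧸ N) = (σ g : G) := fun g => rfl
  have hτ'v : ∀ g : G, τ' (g : G ⧸ N) = (τ g : G) := fun g => rfl
  have d' : Datum σ' τ' := by
    refine ⟨MulEquiv.ext fun x => ?_, MulEquiv.ext fun x => ?_, ?_⟩
    · obtain ⟨g, rfl⟩ := QuotientGroup.mk_surjective x
      rw [pow_succ, pow_two, MulAut.mul_apply, MulAut.mul_apply, hσ'v, hσ'v, hσ'v,
        ← MulAut.mul_apply, ← MulAut.mul_apply, ← pow_two, ← pow_succ, d.s_pow]
      rfl
    · obtain ⟨g, rfl⟩ := QuotientGroup.mk_surjective x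
      rw [MulAut.mul_apply, hτ'v, hτ'v, ← MulAut.mul_apply, d.t_mul]
      rfl
    · refine eq_inv_of_mul_eq_one_left (MulEquiv.ext fun x => ?_)
      obtain ⟨g, rfl⟩ := QuotientGroup.mk_surjective x
      rw [MulAut.mul_apply, MulAut.mul_apply, MulAut.mul_apply, hσ'v, hτ'v, hσ'v, hτ'v,
        ← MulAut.mul_apply, ← MulAut.mul_apply, ← MulAut.mul_apply, d.t_s_t, inv_mul_cancel]
      rfl
  have hlt : Nat.card (G ⧸ N) < Nat.card G := by
    rw [← Subgroup.index_eq_card, ← N.card_mul_index]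
    exact lt_mul_of_one_lt_left (Nat.pos_of_ne_zero index_ne_zero_of_finite)
      (N.one_lt_card_iff_ne_bot.mpr hNne)
  have hrec := ih _ hlt (G ⧸ N) rfl
    (Group.isSolvable_of_surjective (QuotientGroup.mk'_surjective N))
    (hcop.coprime_dvd_left (card_quotient_dvd_card N)) σ' τ' d' (fun x h1 h2 => by
      obtain ⟨g, rfl⟩ := QuotientGroup.mk_surjective x
      rw [hσ'v, eq_comm, QuotientGroup.eq] at h1
      rw [hτ'v, eq_comm, QuotientGroup.eq] at h2
      exact (QuotientGroup.eq_one_iff g).mpr (mem_of_fixed σ τ d hcop hfpf N hNσ hNτ h1 h2))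
  let f : commutator G →* commutator (G ⧸ N) :=
    ((QuotientGroup.mk' N).comp (commutator G).subtype).codRestrict _ fun c => by
      have h : (commutator G).map (QuotientGroup.mk' N) = commutator (G ⧸ N) := by
        rw [_root_.commutator_def, map_commutator,
          map_top_of_surjective _ (QuotientGroup.mk'_surjective N), ← _root_.commutator_def]
      exact h.le (mem_map_of_mem _ c.2)
  have := hrec
  refine Subgroup.isNilpotent_of_ker_le_center f (fun c hc => mem_center_iff.mpr fun d => ?_)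
  have hcN : (c : G) ∈ N := (QuotientGroup.eq_one_iff _).mp (congrArg Subtype.val hc)
  apply Subtype.ext
  have := congrArg Subtype.val (DFunLike.congr_fun (hcent d d.2) (⟨c, hcN⟩ : N))
  rw [MulAut.conjNormal_apply, MulAut.one_apply] at this
  exact mul_inv_eq_iff_eq_mul.mp this

/-- Let the symmetric group of degree 3 act by automorphisms on a finite solvable group `G` of order prime to 6, so that only the identity of `G` is fixed by all of it. Then the derived subgroup of `G` is nilpotent. -/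
theorem result {G : Type*} [Group G] [Finite G] [Group.IsSolvable G]
    [MulDistribMulAction (Equiv.Perm (Fin 3)) G] (hcop : (Nat.card G).Coprime 6)
    (hfpf : ∀ g : G, (∀ a : Equiv.Perm (Fin 3), a • g = g) → g = 1) :
    Group.IsNilpotent ↥(commutator G) := by
  let c : Equiv.Perm (Fin 3) := finRotate 3
  let w : Equiv.Perm (Fin 3) := Equiv.swap 0 1
  let φ := MulDistribMulAction.toMulAut (Equiv.Perm (Fin 3)) G
  have hall : ∀ a : Equiv.Perm (Fin 3), a = 1 ∨ a = c ∨ a = c * c ∨ a = w ∨ a = w * c ∨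
      a = w * (c * c) := by decide
  refine main _ G rfl inferInstance hcop (φ c) (φ w) ⟨?_, ?_, ?_⟩ fun g h1 h2 => hfpf g fun a => ?_
  · rw [← map_pow, show c ^ 3 = 1 by decide, map_one]
  · rw [← map_mul, show w * w = 1 by decide, map_one]
  · rw [← map_mul, ← map_mul, show w * c * w = c⁻¹ by decide, map_inv]
  have e1 : c • g = g := h1
  have e2 : w • g = g := h2
  rcases hall a with rfl | rfl | rfl | rfl | rfl | rfl <;> simp [mul_smul, e1, e2]

end Cfsg.Agent.S4305
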