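import Cfsg.Statements.S4306
import Cfsg.Agent.Lib.FitTwo.Main

set_option autoImplicit false
open Cfsg

namespace Cfsg.Agent.S4306

open Subgroup Cfsg.Lib.FitTwo Cfsg.Lib.Solv

universe u v

theorem exists_normal_of_card_mul {A : Type*} [Group A] [Finite A] {p q : ℕ} (hp : p.Prime) (hq : q.Prime)
    (hlt : p < q) (hA : Nat.card A = p * q) : ∃ Q : Subgroup A, Q.Normal ∧ Nat.card Q = q := by
  haveI := Fact.mk hq
  obtain ⟨x, hx⟩ := exists_prime_orderOf_dvd_card' (G := A) q (hA ▸ dvd_mul_left q p)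
  have hc : Nat.card (zpowers x) = q := by rw [Nat.card_zpowers, hx]
  refine ⟨zpowers x, Subgroup.normal_of_index_eq_minFac_card ?_, hc⟩
  have hidx : (zpowers x).index = p := by
    have h := Subgroup.card_mul_index (zpowers x)
    rw [hc, hA, mul_comm p q] at h
    exact Nat.eq_of_mul_eq_mul_left hq.pos h
  rw [hidx, hA]
  refine le_antisymm ?_ (Nat.minFac_le_of_dvd hp.two_le (dvd_mul_right p q))
  rcases (Nat.Prime.dvd_mul (Nat.minFac_prime (n := p * q)
    (Nat.ne_of_gt (Nat.lt_of_lt_of_le hp.one_lt (Nat.le_mul_of_pos_right p hq.pos))))).1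
    (Nat.minFac_dvd (p * q)) with h | h
  · exact ((Nat.prime_dvd_prime_iff_eq (Nat.minFac_prime (Nat.ne_of_gt
      (Nat.lt_of_lt_of_le hp.one_lt (Nat.le_mul_of_pos_right p hq.pos)))) hp).1 h).ge
  · exact hlt.le.trans ((Nat.prime_dvd_prime_iff_eq (Nat.minFac_prime (Nat.ne_of_gt
      (Nat.lt_of_lt_of_le hp.one_lt (Nat.le_mul_of_pos_right p hq.pos)))) hq).1 h).ge

theorem fle_of_action {G : Type u} {A : Type v} [Group G] [Finite G] [Group.IsSolvable G] [Group A] [Finite A]
    [MulDistribMulAction A G] {p q : ℕ} (hp : p.Prime) (hq : q.Prime) (hlt : p < q)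
    (hA : Nat.card A = p * q) (hAna : ¬ IsMulCommutative A) (hcop : (Nat.card G).Coprime (p * q))
    (hfpf : ∀ g : G, (∀ a : A, a • g = g) → g = 1) : FLe 2 G := by
  obtain ⟨Q, hQn, hQc⟩ := exists_normal_of_card_mul hp hq hlt hA
  let φ : A →* MulAut G := MulDistribMulAction.toMulAut A G
  haveI : Finite (G ⋊[φ] A) := Finite.of_equiv _ SemidirectProduct.equivProd.symm
  let i : G →* G ⋊[φ] A := SemidirectProduct.inl
  let j : A →* G ⋊[φ] A := SemidirectProduct.inr
  have hi : Function.Injective i := SemidirectProduct.inl_injective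
  have hj : Function.Injective j := SemidirectProduct.inr_injective
  have hin : i.range.Normal := by
    rw [show i.range = (SemidirectProduct.rightHom : G ⋊[φ] A →* A).ker from
      SemidirectProduct.range_inl_eq_ker_rightHom]
    infer_instance
  have hGc : Nat.card i.range = Nat.card G := (Nat.card_congr (MonoidHom.ofInjective hi).toEquiv).symm
  have hAc : Nat.card j.range = Nat.card A := (Nat.card_congr (MonoidHom.ofInjective hj).toEquiv).symm
  have hpq : Pq j.range (Q.map j) p q :=
    ⟨hp, hq, hlt.ne, hAc.trans hA,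
      fun hc => hAna ⟨⟨fun a b => hj (by rw [map_mul, map_mul]; exact hc _ ⟨a, rfl⟩ _ ⟨b, rfl⟩)⟩⟩,
      map_le_range j Q, (card_map_of_injective hj).trans hQc, by
      have h := le_normalizer_map (H := Q) j
      rwa [normalizer_eq_top, ← MonoidHom.range_eq_map] at h⟩
  have hC : i.range ⊓ centralizer (j.range : Set (G ⋊[φ] A)) = ⊥ := by
    rw [eq_bot_iff]
    rintro _ ⟨⟨g, rfl⟩, hg⟩
    refine mem_bot.2 ?_
    rw [hfpf g fun a => hi ?_, map_one]
    show SemidirectProduct.inl ((φ a) g) = _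
    rw [SemidirectProduct.inl_aut, map_inv]
    exact mul_inv_eq_iff_eq_mul.2 (mem_centralizer_iff.1 hg _ ⟨a, rfl⟩)
  exact (fle_two _ hpq hin (by rw [hAc, hGc, hA]; exact hcop.symm) hC
    (Group.isSolvable_of_surjective (f := i.rangeRestrict) i.rangeRestrict_surjective) rfl).of_equiv
    (MonoidHom.ofInjective hi).symm


/-- Let `A` be a non-abelian group of order `pq` with `p, q` distinct primes, acting by automorphisms on a finite solvable group `G` of order prime to `pq`, so that only the identity of `G` is fixed by all of `A`. Then `G` has Fitting height at most 2: there is a normal nilpotent subgroup `F` of `G` with `G/F` nilpotent. -/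
theorem result {G A : Type*} [Group G] [Finite G]
    [Group.IsSolvable G] [Group A] [Finite A] [MulDistribMulAction A G] (p q : ℕ) (hp : p.Prime) (hq : q.Prime) (hpq : p ≠ q)
    (hA : Nat.card A = p * q) (hAna : ¬ IsMulCommutative A) (hcop : (Nat.card G).Coprime (p * q))
    (hfpf : ∀ g : G, (∀ a : A, a • g = g) → g = 1) :
    ∃ F : Subgroup G, ∃ hF : F.Normal, Group.IsNilpotent ↥F ∧ Group.IsNilpotent (G ⧸ F) := by
  obtain ⟨F, h0, h2, -, hN, hk⟩ : FLe 2 G := by
    rcases lt_or_gt_of_ne hpq with h | h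
    · exact fle_of_action hp hq h hA hAna hcop hfpf
    · exact fle_of_action hq hp h (hA.trans (mul_comm p q)) hAna (mul_comm p q ▸ hcop) hfpf
  haveI := hN 1
  refine ⟨F 1, hN 1, ?_, ?_⟩
  · obtain ⟨k, hk'⟩ := hk 0
    exact (Subgroup.isNilpotent_iff_lowerCentralSeries _).2 ⟨k, le_bot_iff.1 (h0 ▸ hk')⟩
  · obtain ⟨k, hk'⟩ := hk 1
    refine Group.isNilpotent_top.1 ((Subgroup.isNilpotent_iff_lowerCentralSeries _).2 ⟨k, ?_⟩)
    rw [← map_top_of_surjective (QuotientGroup.mk' (F 1)) (QuotientGroup.mk'_surjective _), ← map_lcs,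
      Subgroup.map_eq_bot_iff, QuotientGroup.ker_mk', ← h2]
    exact hk'

end Cfsg.Agent.S4306
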