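import Cfsg.Statements.S4309

set_option autoImplicit false
set_option linter.style.haveILetI false
open Cfsg

namespace Cfsg.Agent.S4309

open Subgroup in
theorem relIndex_dvd_index {G : Type*} [Group G] [Finite G] (H A : Subgroup G) [A.Normal] :
    H.relIndex A ∣ H.index := by
  have h1 : Nat.card (A ⊓ H : Subgroup G) * A.relIndex H = Nat.card H := by
    rw [relIndex, ← card_mul_index (A.subgroupOf H), ← inf_subgroupOf_right A H,
      Nat.card_congr (subgroupOfEquivOfLe (inf_le_right : A ⊓ H ≤ H)).toEquiv]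
  have h2 : Nat.card (A ⊓ H : Subgroup G) * H.relIndex A = Nat.card A := by
    rw [inf_comm, relIndex, ← card_mul_index (H.subgroupOf A), ← inf_subgroupOf_right H A,
      Nat.card_congr (subgroupOfEquivOfLe (inf_le_right : H ⊓ A ≤ A)).toEquiv]
  have h3 : Nat.card A * A.relIndex H = Nat.card (H ⊔ A : Subgroup G) := by
    rw [← relIndex_sup_right (H := H) (K := A), relIndex, ← card_mul_index (A.subgroupOf (H ⊔ A)),
      Nat.card_congr (subgroupOfEquivOfLe (le_sup_right : A ≤ H ⊔ A)).toEquiv]
  have h4 : Nat.card H * H.relIndex (H ⊔ A) = Nat.card (H ⊔ A : Subgroup G) := by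
    rw [relIndex, ← card_mul_index (H.subgroupOf (H ⊔ A)),
      Nat.card_congr (subgroupOfEquivOfLe (le_sup_left : H ≤ H ⊔ A)).toEquiv]
  have h5 : H.relIndex A = H.relIndex (H ⊔ A) := by
    apply Nat.eq_of_mul_eq_mul_left (Nat.card_pos (α := H))
    rw [h4, ← h3, ← h2, ← h1]
    ring
  rw [h5]
  exact Dvd.intro _ (relIndex_mul_index le_sup_left)

/-- Let `π` be a set of primes, `G` a finite group with a Hall `π`-subgroup `H` (every prime divisor of the order of `H` lies in `π` and no prime of `π` divides its index), and `A` a normal subgroup of `G`. Then `H ∩ A` is a Hall `π`-subgroup of `A` and the image of `H` in `G/A` is a Hall `π`-subgroup of `G/A`. -/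
theorem result {G : Type*} [Group G] [Finite G] (π : Set ℕ)
    (H A : Subgroup G) [A.Normal] (hH : Cfsg.IsPiHall π H) :
    Cfsg.IsPiHall π ((H ⊓ A).subgroupOf A) ∧ Cfsg.IsPiHall π (H.map (QuotientGroup.mk' A)) := by
  refine ⟨⟨fun p hp hd => ?_, fun p hp hpi hd => ?_⟩, fun p hp hd => ?_, fun p hp hpi hd => ?_⟩
  · rw [Nat.card_congr (Subgroup.subgroupOfEquivOfLe (inf_le_right : H ⊓ A ≤ A)).toEquiv] at hd
    exact hH.1 p hp (hd.trans (Subgroup.card_dvd_of_le inf_le_left))
  · change p ∣ (H ⊓ A).relIndex A at hd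
    rw [Subgroup.inf_relIndex_right] at hd
    exact hH.2 p hp hpi (hd.trans (relIndex_dvd_index H A))
  · exact hH.1 p hp (hd.trans (Subgroup.card_map_dvd _ _))
  · exact hH.2 p hp hpi (hd.trans (Subgroup.index_map_dvd _ (QuotientGroup.mk'_surjective A)))

end Cfsg.Agent.S4309
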