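import Cfsg.Statements.S4316
import Cfsg.Agent.Lib.Coprime.ClassBound
import Cfsg.Agent.Lib.Coprime.RankTwoDecomp

set_option autoImplicit false
universe u
open Cfsg

namespace Cfsg.Agent.S4316

open Cfsg.Lib.Coprime.ClassBound Cfsg.Lib.Coprime.RankTwo
open scoped Pointwise commutatorElement

section
variable {A G : Type u} [Group A] [Finite A] [Group G] [Finite G] [MulDistribMulAction A G]

theorem mem_fix {a : A} {x : G} :
    x ∈ FixedPoints.subgroup (Subgroup.zpowers a) G ↔ a • x = x := by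
  constructor
  · intro h
    exact h ⟨a, Subgroup.mem_zpowers a⟩
  · rintro h ⟨z, hz⟩
    have : Subgroup.zpowers a ≤ MulAction.stabilizer A x := (Subgroup.zpowers_le).mpr h
    exact this hz

theorem relIndex_centralizer_le {H : Subgroup G} {y : G} (hy : y ∈ H) :
    (Subgroup.centralizer ({y} : Set G)).relIndex H ≤ Nat.card (commutator H) := by
  have h1 : (Subgroup.centralizer ({y} : Set G)).subgroupOf H =
      Subgroup.centralizer ({(⟨y, hy⟩ : H)} : Set H) := by
    ext z
    simp only [Subgroup.mem_subgroupOf, Subgroup.mem_centralizer_iff, Set.mem_singleton_iff,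
      forall_eq]
    exact ⟨fun h => Subtype.ext h, fun h => congrArg Subtype.val h⟩
  rw [Subgroup.relIndex, h1]
  change cls (⟨y, hy⟩ : H) ≤ _
  rw [← card_conjSet]
  refine Nat.card_le_card_of_injective
    (fun z : conjSet (⟨y, hy⟩ : H) => (⟨z.1 * (⟨y, hy⟩ : H)⁻¹, ?_⟩ : commutator H)) ?_
  · obtain ⟨_, g, rfl⟩ := z
    exact Subgroup.commutator_mem_commutator (Subgroup.mem_top g) (Subgroup.mem_top _)
  · intro z z' h
    exact Subtype.ext (mul_right_cancel (congrArg Subtype.val h))

/-- The action on an invariant subgroup. -/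
def resAut (X : Subgroup G) (hX : ∀ a : A, ∀ x ∈ X, a • x ∈ X) : A →* MulAut X where
  toFun a :=
    { toFun := fun x => ⟨a • (x : G), hX a _ x.2⟩
      invFun := fun x => ⟨a⁻¹ • (x : G), hX a⁻¹ _ x.2⟩
      left_inv := fun x => Subtype.ext (inv_smul_smul a (x : G))
      right_inv := fun x => Subtype.ext (smul_inv_smul a (x : G))
      map_mul' := fun x y => Subtype.ext (smul_mul' a (x : G) (y : G)) }
  map_one' := by ext x; exact one_smul A (x : G)
  map_mul' a b := by ext x; exact mul_smul a b (x : G)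

theorem resAut_apply (X : Subgroup G) (hX : ∀ a : A, ∀ x ∈ X, a • x ∈ X) (a : A) (x : X) :
    ((resAut X hX a x : X) : G) = a • (x : G) := rfl

/-- The `q + 1` elements `a b^t`, `b`. -/
def lineA (q : ℕ) (a b : A) : Fin (q + 1) → A := Fin.snoc (fun t => a * b ^ (t : ℕ)) b

theorem map_lineA {Y : Type u} [Group Y] (F : A →* MulAut Y) (q : ℕ) (a b : A) (i : Fin (q + 1)) :
    F (lineA q a b i) = line q (F a) (F b) i := by
  induction i using Fin.lastCases with
  | last => simp [lineA, line]
  | cast t => simp [lineA, line]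

theorem mem_of_pow_mem {H : Subgroup A} {q t : ℕ} (hq : q.Prime) {b : A} (hb : b ^ q = 1)
    (ht : 0 < t) (htq : t < q) (h : b ^ t ∈ H) : b ∈ H := by
  have hcj : t.Coprime (orderOf b) := Nat.Coprime.coprime_dvd_right
    (orderOf_dvd_of_pow_eq_one hb)
    ((hq.coprime_iff_not_dvd.mpr (Nat.not_dvd_of_pos_of_lt ht htq)).symm)
  obtain ⟨m, hm⟩ := exists_pow_eq_self_of_coprime hcj
  rw [← hm]
  exact pow_mem h m

theorem lineA_notMem (q : ℕ) (hq : q.Prime) (hAe : ∀ a : A, a ^ q = 1) (H : Subgroup A) (a b : A)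
    (ha : a ∉ H) (hb : b ∉ H ⊔ Subgroup.zpowers a) (i : Fin (q + 1)) : lineA q a b i ∉ H := by
  induction i using Fin.lastCases with
  | last => simpa [lineA] using fun h => hb (Subgroup.mem_sup_left h)
  | cast t =>
    simp only [lineA, Fin.snoc_castSucc]
    intro h
    rcases Nat.eq_zero_or_pos (t : ℕ) with ht | ht
    · rw [ht, pow_zero, mul_one] at h; exact ha h
    · refine hb (mem_of_pow_mem hq (hAe b) ht t.2 ?_)
      have := mul_mem (inv_mem (Subgroup.mem_sup_right (S := H) (Subgroup.mem_zpowers a)))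
        (Subgroup.mem_sup_left (T := Subgroup.zpowers a) h)
      rwa [inv_mul_cancel_left] at this

variable {q m : ℕ} (hq : q.Prime) (hAc : ∀ a b : A, a * b = b * a) (hAe : ∀ a : A, a ^ q = 1)
  (hcop : ¬ q ∣ Nat.card G)
  (hm : ∀ a : A, a ≠ 1 →
    Nat.card ↥(commutator ↥(FixedPoints.subgroup (Subgroup.zpowers a) G)) ≤ m)

include hAc in
theorem fix_invariant (e : A) : ∀ a : A, ∀ x ∈ FixedPoints.subgroup (Subgroup.zpowers e) G,
    a • x ∈ FixedPoints.subgroup (Subgroup.zpowers e) G := by
  intro a x hx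
  rw [mem_fix] at hx ⊢
  rw [smul_smul, hAc, ← smul_smul, hx]

include hq hAc hAe hcop in
theorem exists_decomp (X : Subgroup G) [Group.IsNilpotent X] (hX : ∀ a : A, ∀ x ∈ X, a • x ∈ X)
    (a b : A) (x : G) (hx : x ∈ X) :
    ∃ f : Fin (q + 1) → G, (∀ i, f i ∈ X ∧ lineA q a b i • f i = f i) ∧ (List.ofFn f).prod = x := by
  obtain ⟨f, hf1, hf2⟩ := (decomp hq _ X rfl (resAut X hX a) (resAut X hX b)
    (by rw [← map_pow, hAe, map_one]) (by rw [← map_pow, hAe, map_one])
    ((show Commute a b from hAc a b).map _)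
    (fun h => hcop (h.trans (Subgroup.card_subgroup_dvd_card X)))).1 ⟨x, hx⟩
  refine ⟨fun i => f i, fun i => ⟨(f i).2, ?_⟩, ?_⟩
  · rw [← resAut_apply X hX, map_lineA, hf1]
  · have h1 := congrArg (fun y : X => (y : G)) hf2
    simpa [SubmonoidClass.coe_list_prod, List.map_ofFn, Function.comp_def] using h1

include hq hAe hcop in
theorem exists_invariant_sylow' (hA : Nat.card A = q ^ 3) (p : ℕ) [Fact p.Prime] :
    ∃ P : Sylow p G, ∀ a : A, ∀ x ∈ (P : Subgroup G), a • x ∈ (P : Subgroup G) := by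
  haveI : Fact q.Prime := ⟨hq⟩
  obtain ⟨P, hP⟩ := (IsPGroup.of_card hA).nonempty_fixed_point_of_prime_not_dvd_card (Sylow p G)
    (fun h => hcop (h.trans ((Sylow.card_dvd_index (Classical.arbitrary (Sylow p G))).trans
      (Subgroup.index_dvd_card _))))
  refine ⟨P, fun a x hx => ?_⟩
  have h := congrArg (fun Q : Sylow p G => (Q : Subgroup G)) (hP a)
  simp only [Sylow.pointwise_smul_def] at h
  rw [← h]
  exact Subgroup.smul_mem_pointwise_smul x a _ hx

include hq hAc hAe hcop hm in
theorem cls_le_of_fixed (hA : Nat.card A = q ^ 3) (c d : A) (hc : c ≠ 1)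
    (hd : d ∉ Subgroup.zpowers c) (y : G) (hyc : c • y = y) (hyd : d • y = y) :
    cls y ≤ (m ^ (q + 1)) ^ (m + 1) := by
  classical
  set D := Subgroup.centralizer ({y} : Set G)
  have hm1 : 0 < m := lt_of_lt_of_le Nat.card_pos (hm c hc)
  have hDinv : ∀ e : A, e • y = y → ∀ x ∈ D, e • x ∈ D := by
    intro e he x hx
    rw [Subgroup.mem_centralizer_iff] at hx ⊢
    rintro z rfl
    have h := hx z rfl
    calc z * e • x = e • z * e • x := by rw [he]
      _ = e • (z * x) := (smul_mul' e z x).symm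
      _ = e • (x * z) := by rw [h]
      _ = e • x * e • z := smul_mul' e x z
      _ = e • x * z := by rw [he]
  have hline : ∀ i, lineA q c d i ≠ 1 ∧ lineA q c d i • y = y := by
    intro i
    refine ⟨fun h => lineA_notMem q hq hAe ⊥ c d (by simpa using hc) (by simpa using hd) i
      (by rw [h]; exact one_mem _), ?_⟩
    induction i using Fin.lastCases with
    | last => simpa [lineA] using hyd
    | cast t =>
      simp only [lineA, Fin.snoc_castSucc]
      have hdt : d ^ (t : ℕ) ∈ MulAction.stabilizer A y := pow_mem (MulAction.mem_stabilizer_iff.mpr hyd) _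
      rw [mul_smul, MulAction.mem_stabilizer_iff.mp hdt, hyc]
  -- the prime parts of the index
  have hpart : ∀ p : ℕ, p.Prime → p ^ D.index.factorization p ≤ m ^ (q + 1) ∧
      (m < p → D.index.factorization p = 0) := by
    intro p hp
    haveI : Fact p.Prime := ⟨hp⟩
    obtain ⟨P, hP⟩ := exists_invariant_sylow' (G := G) hq hAe hcop hA p
    haveI : Group.IsNilpotent (P : Subgroup G) := P.2.isNilpotent
    set ψ := resAut (P : Subgroup G) hP
    set Q := D.subgroupOf (P : Subgroup G)
    have hineq := (decomp hq _ (P : Subgroup G) rfl (ψ c) (ψ d) (by rw [← map_pow, hAe, map_one])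
      (by rw [← map_pow, hAe, map_one]) ((show Commute c d from hAc c d).map ψ)
      (fun h => hcop (h.trans (Subgroup.card_subgroup_dvd_card _)))).2 Q
      (fun x hx => hDinv c hyc _ hx) (fun x hx => hDinv d hyd _ hx)
    simp_rw [← map_lineA ψ] at hineq
    have hfx : ∀ i, Q.relIndex (fx (ψ (lineA q c d i))) ≤ m ∧
        (m < p → Q.relIndex (fx (ψ (lineA q c d i))) = 1) := by
      intro i
      obtain ⟨he1, he2⟩ := hline i
      set C := FixedPoints.subgroup (Subgroup.zpowers (lineA q c d i)) G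
      have h1 : Q.relIndex (fx (ψ (lineA q c d i))) ≤ m := by
        rw [show Q = D.comap ((P : Subgroup G)).subtype from rfl,
          Subgroup.relIndex_comap (f := ((P : Subgroup G)).subtype)]
        refine (Subgroup.relIndex_le_of_le_right (L := C) ?_ ?_).trans
          ((relIndex_centralizer_le (mem_fix.mpr he2)).trans (hm _ he1))
        · rintro _ ⟨x, hx, rfl⟩
          exact mem_fix.mpr (congrArg Subtype.val hx)
        · exact Subgroup.index_ne_zero_of_finite
      refine ⟨h1, fun hmp => ?_⟩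
      obtain ⟨k, hk⟩ := (IsPGroup.iff_card.mp (P.2.to_subgroup (fx (ψ (lineA q c d i)))))
      have h2 : Q.relIndex (fx (ψ (lineA q c d i))) ∣ p ^ k := hk ▸ Subgroup.relIndex_dvd_card _ _
      obtain ⟨j, -, hj⟩ := (Nat.dvd_prime_pow hp).mp h2
      rcases Nat.eq_zero_or_pos j with rfl | hj0
      · simpa using hj
      · have := (Nat.le_self_pow hj0.ne' p).trans (hj ▸ h1)
        omega
    have hQcard : ∀ K : ℕ, (∀ i, Q.relIndex (fx (ψ (lineA q c d i))) ≤ K) →
        Q.index ≤ K ^ (q + 1) := by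
      intro K hK
      have h1 : ∀ i, Nat.card (fx (ψ (lineA q c d i))) =
          Nat.card (Q ⊓ fx (ψ (lineA q c d i)) : Subgroup (P : Subgroup G)) *
            Q.relIndex (fx (ψ (lineA q c d i))) := by
        intro i
        rw [← Subgroup.inf_relIndex_right, Subgroup.relIndex,
          ← Nat.card_congr (Subgroup.subgroupOfEquivOfLe inf_le_right).toEquiv,
          Subgroup.card_mul_index]
      rw [Finset.prod_congr rfl (fun i _ => h1 i), Finset.prod_mul_distrib, ← Q.card_mul_index,
        mul_assoc, mul_comm Q.index, mul_comm (∏ i, Nat.card (Q ⊓ _ : Subgroup _)) (∏ i, Q.relIndex _)] at hineq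
      have h2 : Q.index * ∏ i, Nat.card (Q ⊓ fx (ψ (lineA q c d i)) : Subgroup (P : Subgroup G)) ≤
          (∏ i, Q.relIndex (fx (ψ (lineA q c d i)))) *
            ∏ i, Nat.card (Q ⊓ fx (ψ (lineA q c d i)) : Subgroup (P : Subgroup G)) := by
        refine Nat.le_of_mul_le_mul_left ?_ (Nat.card_pos (α := Q))
        simpa [mul_comm, mul_assoc, mul_left_comm] using hineq
      refine (Nat.le_of_mul_le_mul_right h2 (Finset.prod_pos fun i _ => Nat.card_pos)).trans ?_
      refine (Finset.prod_le_pow_card _ _ K fun i _ => hK i).trans (le_of_eq ?_)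
      rw [Finset.card_univ, Fintype.card_fin]
    have hv : p ^ D.index.factorization p ≤ Q.index := by
      obtain ⟨j, hj⟩ := IsPGroup.iff_card.mp (P.2.to_subgroup Q)
      have hdvd : Nat.card Q ∣ Nat.card D :=
        Subgroup.card_dvd_of_injective
          (({ toFun := fun x : Q => (⟨((x : (P : Subgroup G)) : G), x.2⟩ : D)
              map_one' := rfl
              map_mul' := fun _ _ => rfl }) : Q →* D)
          (fun x x' h => Subtype.ext (Subtype.ext (congrArg (fun z : D => (z : G)) h)))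
      rw [hj] at hdvd
      have hjle : j ≤ (Nat.card D).factorization p :=
        (hp.pow_dvd_iff_le_factorization Nat.card_pos.ne').mp hdvd
      refine Nat.le_of_mul_le_mul_left ?_ (pow_pos hp.pos j)
      rw [← hj, Q.card_mul_index, P.card_eq_multiplicity, hj, ← pow_add, ← D.card_mul_index,
        Nat.factorization_mul Nat.card_pos.ne' Subgroup.index_ne_zero_of_finite, Finsupp.add_apply]
      exact Nat.pow_le_pow_right hp.pos (by omega)
    refine ⟨hv.trans (hQcard m fun i => (hfx i).1), fun hmp => ?_⟩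
    have h := hv.trans (hQcard 1 fun i => ((hfx i).2 hmp).le)
    rw [one_pow] at h
    by_contra hne
    exact absurd ((Nat.le_self_pow hne p).trans h) (not_le.mpr hp.one_lt)
  have hne : D.index ≠ 0 := Subgroup.index_ne_zero_of_finite
  change D.index ≤ _
  rw [← Nat.prod_factorization_pow_eq_self hne, Finsupp.prod, Nat.support_factorization]
  refine (Finset.prod_le_pow_card _ _ (m ^ (q + 1)) fun p hp =>
    (hpart p (Nat.prime_of_mem_primeFactors hp)).1).trans ?_
  refine Nat.pow_le_pow_right (pow_pos hm1 _) ?_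
  refine (Finset.card_le_card (t := Finset.range (m + 1)) fun p hp => ?_).trans
    (le_of_eq (Finset.card_range _))
  rw [Finset.mem_range]
  by_contra hlt
  have h0 := (hpart p (Nat.prime_of_mem_primeFactors hp)).2 (by omega)
  exact (Finsupp.mem_support_iff.mp (by rwa [Nat.support_factorization])) h0

/-- The bound on classes of elements of prime power order. -/
def bnd (q m : ℕ) : ℕ := (((m ^ (q + 1)) ^ (m + 1)) ^ (q + 1)) ^ (q + 1)

include hq hAc hAe hcop hm in
theorem cls_le_of_mem (hA : Nat.card A = q ^ 3) (X : Subgroup G) [Group.IsNilpotent X]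
    (hX : ∀ a : A, ∀ x ∈ X, a • x ∈ X) (x : G) (hx : x ∈ X) : cls x ≤ bnd q m := by
  have hsmall : ∀ H : Subgroup A, Nat.card H < q ^ 3 → ∃ a, a ∉ H := by
    intro H hH
    by_contra hno
    push Not at hno
    rw [show H = ⊤ from eq_top_iff.mpr fun a _ => hno a, Subgroup.card_top, hA] at hH
    exact lt_irrefl _ hH
  have hzp : ∀ a : A, Nat.card (Subgroup.zpowers a) ≤ q := fun a => by
    rw [Nat.card_zpowers]; exact orderOf_le_of_pow_eq_one hq.pos (hAe a)
  have hq3 : q < q ^ 3 := by
    calc q = q ^ 1 := (pow_one q).symm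
      _ < q ^ 3 := Nat.pow_lt_pow_right hq.one_lt (by norm_num)
  have hsup : ∀ a b : A, Nat.card (Subgroup.zpowers a ⊔ Subgroup.zpowers b : Subgroup A) < q ^ 3 := by
    intro a b
    have hcomm : ∀ g : A, g ∈ Subgroup.normalizer ((Subgroup.zpowers a : Subgroup A) : Set A) := by
      intro g
      rw [Subgroup.mem_normalizer_iff]
      intro z
      rw [hAc g z, mul_inv_cancel_right]
    have h : ((Subgroup.zpowers a ⊔ Subgroup.zpowers b : Subgroup A) : Set A) =
        (Subgroup.zpowers b : Set A) * (Subgroup.zpowers a : Set A) := by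
      rw [sup_comm, Subgroup.coe_mul_of_left_le_normalizer_right _ _ fun g _ => hcomm g]
    have h2 : Nat.card (Subgroup.zpowers a ⊔ Subgroup.zpowers b : Subgroup A) ≤ q * q := by
      rw [← SetLike.coe_sort_coe, Nat.card_coe_set_eq, h, ← Nat.card_coe_set_eq]
      exact Set.natCard_mul_le.trans (Nat.mul_le_mul (hzp b) (hzp a))
    calc _ ≤ q * q := h2
      _ < q ^ 3 := by
        rw [pow_succ, pow_two]
        exact lt_mul_of_one_lt_right (Nat.mul_pos hq.pos hq.pos) hq.one_lt
  obtain ⟨a0, ha0⟩ := hsmall ⊥ (by rw [Subgroup.card_bot]; linarith [hq.one_lt])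
  obtain ⟨b0, hb0⟩ := hsmall (Subgroup.zpowers a0) ((hzp a0).trans_lt hq3)
  obtain ⟨f, hf1, hf2⟩ := exists_decomp hq hAc hAe hcop X hX a0 b0 x hx
  rw [← hf2]
  refine (cls_list_prod_le _ (M := ((m ^ (q + 1)) ^ (m + 1)) ^ (q + 1)) ?_).trans
    (le_of_eq (by rw [List.length_ofFn]; rfl))
  intro z hz
  rw [List.mem_ofFn] at hz
  obtain ⟨i, rfl⟩ := hz
  set c := lineA q a0 b0 i
  have hc : c ≠ 1 := fun h => lineA_notMem q hq hAe ⊥ a0 b0 ha0 (by simpa using hb0) i
    (by rw [show lineA q a0 b0 i = 1 from h]; exact one_mem _)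
  obtain ⟨a, ha⟩ := hsmall (Subgroup.zpowers c) ((hzp c).trans_lt hq3)
  obtain ⟨b, hb⟩ := hsmall _ (hsup c a)
  let Y := X ⊓ FixedPoints.subgroup (Subgroup.zpowers c) G
  haveI : Group.IsNilpotent Y :=
    (Group.isNilpotent_congr (Subgroup.subgroupOfEquivOfLe (inf_le_left : Y ≤ X))).mp inferInstance
  obtain ⟨g, hg1, hg2⟩ := exists_decomp hq hAc hAe hcop Y
    (fun e z hz => ⟨hX e z hz.1, fix_invariant hAc c e z hz.2⟩) a b (f i)
    ⟨(hf1 i).1, mem_fix.mpr (hf1 i).2⟩
  rw [← hg2]
  refine (cls_list_prod_le _ (M := (m ^ (q + 1)) ^ (m + 1)) ?_).trans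
    (le_of_eq (by rw [List.length_ofFn]))
  intro z hz
  rw [List.mem_ofFn] at hz
  obtain ⟨j, rfl⟩ := hz
  exact cls_le_of_fixed hq hAc hAe hcop hm hA c (lineA q a b j) hc
    (lineA_notMem q hq hAe _ a b ha hb j) _ (mem_fix.mp (hg1 j).1.2) (hg1 j).2

include hq hAc hAe hcop hm in
theorem cls_le_of_isPElement (hA : Nat.card A = q ^ 3) (p : ℕ) [Fact p.Prime] (u : G)
    (hu : IsPGroup p (Subgroup.zpowers u)) : cls u ≤ bnd q m := by
  obtain ⟨P, hP⟩ := exists_invariant_sylow' (G := G) hq hAe hcop hA p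
  obtain ⟨Q, hQ⟩ := hu.exists_le_sylow
  obtain ⟨g, rfl⟩ := MulAction.exists_smul_eq G P Q
  haveI : Group.IsNilpotent (P : Subgroup G) := P.2.isNilpotent
  have hmem := hQ (Subgroup.mem_zpowers u)
  rw [Sylow.coe_subgroup_smul, Subgroup.mem_pointwise_smul_iff_inv_smul_mem] at hmem
  rw [← cls_map_mulEquiv (MulAut.conj g)⁻¹ u]
  exact cls_le_of_mem hq hAc hAe hcop hm hA _ hP _ hmem

theorem primePart_isPGroup {p : ℕ} (u : G) (e : ℕ) (hu : u ^ p ^ e = 1) :
    IsPGroup p (Subgroup.zpowers u) := by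
  rintro ⟨z, hz⟩
  obtain ⟨k, rfl⟩ := Subgroup.mem_zpowers_iff.mp hz
  exact ⟨e, Subtype.ext (by
    show (u ^ k) ^ p ^ e = 1
    rw [← zpow_natCast, ← zpow_mul, mul_comm, zpow_mul, zpow_natCast, hu, one_zpow])⟩

include hq hAc hAe hcop hm in
theorem cls_le (hA : Nat.card A = q ^ 3) (hm1 : 0 < m) (g : G) :
    cls g ≤ bnd q m ^ (bnd q m + 1) := by
  classical
  have hB : 0 < bnd q m := by unfold bnd; positivity
  -- elements of large prime order are central
  have hbig : ∀ p : ℕ, p.Prime → bnd q m < p → ∀ u : G, IsPGroup p (Subgroup.zpowers u) →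
      cls u ≤ 1 := by
    intro p hp hlt u hu
    haveI : Fact p.Prime := ⟨hp⟩
    refine le_of_eq (Subgroup.index_eq_one.mpr (Subgroup.eq_top_of_card_eq _ ?_))
    refine Nat.dvd_antisymm (Subgroup.card_subgroup_dvd_card _)
      ((Nat.dvd_iff_prime_pow_dvd_dvd _ _).mpr fun r k hr hk => ?_)
    haveI : Fact r.Prime := ⟨hr⟩
    obtain ⟨R⟩ : Nonempty (Sylow r G) := inferInstance
    refine dvd_trans ?_ (Subgroup.card_dvd_of_le (show (R : Subgroup G) ≤ _ from fun v hv => ?_))
    · rw [R.card_eq_multiplicity]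
      exact Nat.pow_dvd_pow r ((hr.pow_dvd_iff_le_factorization Nat.card_pos.ne').mp hk)
    · have hvp : IsPGroup r (Subgroup.zpowers v) := R.2.to_le (Subgroup.zpowers_le.mpr hv)
      have h1 := cls_le_of_isPElement hq hAc hAe hcop hm hA r v hvp
      obtain ⟨j, hj⟩ := IsPGroup.iff_card.mp hu
      have h2 : (Subgroup.centralizer ({v} : Set G)).relIndex (Subgroup.zpowers u) ∣ p ^ j :=
        hj ▸ Subgroup.relIndex_dvd_card _ _
      obtain ⟨i, -, hi⟩ := (Nat.dvd_prime_pow hp).mp h2
      rcases Nat.eq_zero_or_pos i with rfl | hi0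
      · rw [pow_zero, Subgroup.relIndex_eq_one] at hi
        have h3 := hi (Subgroup.mem_zpowers u)
        rw [Subgroup.mem_centralizer_iff] at h3 ⊢
        rintro z rfl
        exact (h3 v rfl).symm
      · exfalso
        have h3 : (Subgroup.centralizer ({v} : Set G)).relIndex (Subgroup.zpowers u) ≤ cls v := by
          rw [cls, ← Subgroup.relIndex_top_right]
          exact Subgroup.relIndex_le_of_le_right le_top (by simp [Subgroup.index_ne_zero_of_finite])
        rw [hi] at h3
        have := ((Nat.le_self_pow hi0.ne' p).trans h3).trans h1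
        omega
  -- induction on the order
  suffices h : ∀ n, ∀ g : G, orderOf g = n →
      cls g ≤ bnd q m ^ (n.primeFactors.filter (· ≤ bnd q m)).card by
    refine (h _ g rfl).trans (Nat.pow_le_pow_right hB ?_)
    refine (Finset.card_le_card (t := Finset.range (bnd q m + 1)) fun p hp => ?_).trans
      (le_of_eq (Finset.card_range _))
    exact Finset.mem_range.mpr (Nat.lt_succ_of_le (Finset.mem_filter.mp hp).2)
  intro n
  induction n using Nat.strong_induction_on with
  | h n ih =>
    intro g hg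
    by_cases hn1 : n = 1
    · rw [hn1, orderOf_eq_one_iff] at hg
      rw [hg, cls_one]
      exact Nat.one_le_pow _ _ hB
    have hnpos : 0 < n := hg ▸ orderOf_pos g
    obtain ⟨p, hp, hpn⟩ := Nat.exists_prime_and_dvd hn1
    haveI : Fact p.Prime := ⟨hp⟩
    set e := n.factorization p
    set n' := n / p ^ e
    have hnn : p ^ e * n' = n := Nat.ordProj_mul_ordCompl_eq_self n p
    have hcopn : (p ^ e).Coprime n' := (Nat.coprime_ordCompl hp hnpos.ne').pow_left e
    obtain ⟨x, y, hxy⟩ : IsCoprime ((p ^ e : ℕ) : ℤ) (n' : ℤ) :=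
      Nat.isCoprime_iff_coprime.mpr hcopn
    set u := g ^ (y * (n' : ℤ))
    set v := g ^ (x * ((p ^ e : ℕ) : ℤ))
    have hgn : ∀ k : ℤ, g ^ (k * (n : ℤ)) = 1 := fun k => by
      rw [mul_comm, zpow_mul, zpow_natCast, ← hg, pow_orderOf_eq_one, one_zpow]
    have hu : u ^ p ^ e = 1 := by
      rw [← zpow_natCast, ← zpow_mul, mul_assoc, ← Nat.cast_mul, mul_comm n', hnn, hgn]
    have hv : v ^ n' = 1 := by
      rw [← zpow_natCast, ← zpow_mul, mul_assoc, ← Nat.cast_mul, hnn, hgn]
    have hguv : v * u = g := by rw [← zpow_add, hxy, zpow_one]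
    have hvdvd : orderOf v ∣ n' := orderOf_dvd_of_pow_eq_one hv
    have hn'pos : 0 < n' := Nat.pos_of_mul_pos_left (hnn.symm ▸ hnpos)
    have hlt : orderOf v < n := by
      refine (Nat.le_of_dvd hn'pos hvdvd).trans_lt ?_
      rw [← hnn]
      exact lt_mul_of_one_lt_left hn'pos
        (Nat.one_lt_pow (hp.factorization_pos_of_dvd hnpos.ne' hpn).ne' hp.one_lt)
    have hsub : (orderOf v).primeFactors ⊆ n.primeFactors.erase p := by
      intro r hr
      obtain ⟨hr1, hr2, -⟩ := Nat.mem_primeFactors.mp hr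
      refine Finset.mem_erase.mpr ⟨?_, Nat.mem_primeFactors.mpr ⟨hr1,
        (hr2.trans hvdvd).trans (hnn ▸ dvd_mul_left n' (p ^ e)), hnpos.ne'⟩⟩
      rintro rfl
      exact Nat.not_dvd_ordCompl hr1 hnpos.ne' (hr2.trans hvdvd)
    have hmemp : p ∈ n.primeFactors := Nat.mem_primeFactors.mpr ⟨hp, hpn, hnpos.ne'⟩
    have hih := ih _ hlt v rfl
    rw [← hguv]
    refine (cls_mul_le v u).trans ?_
    by_cases hpb : p ≤ bnd q m
    · refine (Nat.mul_le_mul hih (cls_le_of_isPElement hq hAc hAe hcop hm hA p u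
        (primePart_isPGroup u e hu))).trans ?_
      rw [← pow_succ]
      refine Nat.pow_le_pow_right hB ?_
      rw [← Finset.card_erase_add_one (Finset.mem_filter.mpr ⟨hmemp, hpb⟩)]
      refine Nat.add_le_add_right (Finset.card_le_card fun r hr => ?_) 1
      obtain ⟨hr1, hr2⟩ := Finset.mem_filter.mp hr
      obtain ⟨hr3, hr4⟩ := Finset.mem_erase.mp (hsub hr1)
      exact Finset.mem_erase.mpr ⟨hr3, Finset.mem_filter.mpr ⟨hr4, hr2⟩⟩
    · refine (Nat.mul_le_mul hih (hbig p hp (not_le.mp hpb) u (primePart_isPGroup u e hu))).trans ?_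
      rw [mul_one]
      refine Nat.pow_le_pow_right hB (Finset.card_le_card fun r hr => ?_)
      obtain ⟨hr1, hr2⟩ := Finset.mem_filter.mp hr
      exact Finset.mem_filter.mpr ⟨(Finset.mem_erase.mp (hsub hr1)).2, hr2⟩

end

/-- There is a function `f` of two natural-number arguments with the following property. Let `q` be a prime and `A` an elementary abelian group of order `q³` acting by automorphisms on a finite group `G` of order prime to `q`, and suppose that for every non-identity `a ∈ A` the derived subgroup of the fixed-point subgroup `C_G(a)` has order at most `m`. Then the derived subgroup of `G` has order at most `f(q, m)`. -/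
theorem result :
    ∃ f : ℕ → ℕ → ℕ, ∀ (q m : ℕ) (A G : Type u) [Group A] [Finite A] [Group G] [Finite G] [MulDistribMulAction A G],
      q.Prime → Nat.card A = q ^ 3 → (∀ a b : A, a * b = b * a) → (∀ a : A, a ^ q = 1) → ¬ q ∣ Nat.card G →
      (∀ a : A, a ≠ 1 → Nat.card ↥(commutator ↥(FixedPoints.subgroup (Subgroup.zpowers a) G)) ≤ m) →
      Nat.card ↥(commutator G) ≤ f q m := by
  refine ⟨fun q m => (Finset.range ((bnd q m ^ (bnd q m + 1)) ^ (bnd q m ^ (bnd q m + 1)) *
    (bnd q m ^ (bnd q m + 1) * (bnd q m ^ (bnd q m + 1) * bnd q m ^ (bnd q m + 1))) + 1)).sup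
      Subgroup.cardCommutatorBound, ?_⟩
  intro q m A G _ _ _ _ _ hq hA hAc hAe hcop hm
  have hm1 : 0 < m := by
    haveI : Nontrivial A := Finite.one_lt_card_iff_nontrivial.mp
      (hA ▸ Nat.one_lt_pow (by norm_num) hq.one_lt)
    obtain ⟨a, ha⟩ := exists_ne (1 : A)
    exact lt_of_lt_of_le Nat.card_pos (hm a ha)
  exact card_commutator_le _ fun g => cls_le hq hAc hAe hcop hm hA hm1 g

end Cfsg.Agent.S4316
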