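import Cfsg.Statements.S4321
import Mathlib
import Cfsg.Agent.S4138
import Cfsg.Agent.S4139
import Cfsg.Agent.Lib.PGroup.Elements
import Cfsg.Agent.Lib.Core.Cores
import Cfsg.Agent.Lib.Char.Burnside

set_option linter.style.haveILetI false

set_option autoImplicit false
open Cfsg

namespace Cfsg.Agent.S4321

open scoped commutatorElement
open Cfsg.Agent.S4138 hiding result

section
variable {G : Type*} [Group G] [Finite G]

theorem dvd_of_split {d a b : ℕ} (hab : d ∣ a * b) (h : ∀ r : ℕ, r.Prime → r ∣ d → ¬ r ∣ b) : d ∣ a :=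
  (Nat.coprime_of_dvd fun r hr hd hb => h r hr hd hb).dvd_of_dvd_mul_right hab

def Near (G : Type*) [Group G] (p r l : ℕ) : Prop :=
  l.Prime ∧ ∃ g : G, p ∣ orderOf g ∧ r ∣ idx g ∧ l ∣ idx g

theorem part_pow (g : G) (p : ℕ) :
    (g ^ ordCompl[p] (orderOf g)) ^ p ^ (orderOf g).factorization p = 1 := by
  rw [← pow_mul, mul_comm, Nat.ordProj_mul_ordCompl_eq_self, pow_orderOf_eq_one]

theorem part_not_central {p : ℕ} (hp : p.Prime) (hZ : ¬ p ∣ Nat.card (Subgroup.center G)) {g : G}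
    (hg : p ∣ orderOf g) :
    g ^ ordCompl[p] (orderOf g) ∉ Subgroup.center G ∧ p ∣ orderOf (g ^ ordCompl[p] (orderOf g)) := by
  have h1 : orderOf (g ^ ordCompl[p] (orderOf g)) = p ^ (orderOf g).factorization p :=
    Cfsg.Lib.PGroup.orderOf_ordCompl_pow hp
  have h2 : p ∣ orderOf (g ^ ordCompl[p] (orderOf g)) :=
    (dvd_pow_self p (hp.factorization_pos_of_dvd (orderOf_pos g).ne' hg).ne').trans h1.symm.dvd
  exact ⟨fun h => hZ (h2.trans (Subgroup.orderOf_dvd_natCard _ h)), h2⟩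

/-- Two classes of `p`-singular elements far apart: one side consists of powers of `p`. -/
theorem far (p : ℕ) [Fact p.Prime] (hZ : ¬ p ∣ Nat.card (Subgroup.center G)) {r s : ℕ} (hs : s.Prime)
    {x y : G} (hx : p ∣ orderOf x) (hxr : r ∣ idx x) (hr : r.Prime) (hy : p ∣ orderOf y)
    (hys : s ∣ idx y)
    (hno : ∀ g : G, p ∣ orderOf g → ∀ l m : ℕ, Near G p r l → Near G p s m → l ∣ idx g → ¬ m ∣ idx g)
    (hdisj : ∀ l, Near G p r l → ¬ Near G p s l)
    (hpB : ¬ Near G p s p) : False := by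
  classical
  have hp : p.Prime := Fact.out
  -- primes of the class size of `g` lie on one side
  have hA : ∀ g : G, idx g ∣ idx x → ∀ l, l.Prime → l ∣ idx g → Near G p r l :=
    fun g hg l hl hd => ⟨hl, x, hx, hxr, hd.trans hg⟩
  have hB : ∀ g : G, idx g ∣ idx y → ∀ l, l.Prime → l ∣ idx g → Near G p s l :=
    fun g hg l hl hd => ⟨hl, y, hy, hys, hd.trans hg⟩
  obtain ⟨huZ, hup⟩ := part_not_central hp hZ hx
  set u0 := x ^ ordCompl[p] (orderOf x)
  have hu0i : idx u0 ∣ idx x := Subgroup.index_dvd_of_le (cent_le_pow x _)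
  obtain ⟨l, hl, hlu⟩ := Nat.exists_prime_and_dvd (n := idx u0) (fun h => huZ (idx_eq_one.1 h))
  have hlA : Near G p r l := hA u0 hu0i l hl hlu
  -- `p`-singular products of commuting elements
  have hmix : ∀ a w : G, p ∣ orderOf (a * w) → ∀ m, Near G p s m → l ∣ idx a → m ∣ idx w →
      idx a ∣ idx (a * w) → idx w ∣ idx (a * w) → False :=
    fun a w h m hm hla hmw ha hw => hno _ h l m hlA hm (hla.trans ha) (hmw.trans hw)
  have hcl : ∀ a b : G, IsConj a b → idx a = idx b := by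
    intro a b hab
    rw [← card_class, ← card_class]
    refine Nat.card_congr (Equiv.setCongr ?_)
    obtain ⟨k, rfl⟩ := isConj_iff.1 hab
    ext c
    exact ⟨fun ⟨g, hg⟩ => ⟨g * k⁻¹, by rw [← hg]; group⟩, fun ⟨g, hg⟩ => ⟨g * k, by rw [← hg]; group⟩⟩
  -- an element of `p'`-index commutes with a conjugate of `u0`
  have hconj : ∀ w : G, ¬ p ∣ idx w → ∃ u : G, idx u = idx u0 ∧ orderOf u = orderOf u0 ∧ Commute u w := by
    intro w hw
    obtain ⟨P, hP⟩ := exists_sylow_cent p hw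
    have hup' : IsPGroup p (Subgroup.zpowers u0) := by
      refine IsPGroup.of_card (n := (orderOf x).factorization p) ?_
      rw [Nat.card_zpowers]
      exact Cfsg.Lib.PGroup.orderOf_ordCompl_pow hp
    obtain ⟨R, hR⟩ := hup'.exists_le_sylow
    obtain ⟨g, hg⟩ := MulAction.exists_smul_eq G R P
    refine ⟨g * u0 * g⁻¹, (hcl u0 _ (isConj_iff.2 ⟨g, rfl⟩)).symm, ?_, ?_⟩
    · exact orderOf_injective (MulAut.conj g).toMonoidHom (MulAut.conj g).injective u0
    · refine (mem_cent.1 (hP ?_)).symm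
      rw [← hg]
      exact ⟨u0, hR (Subgroup.mem_zpowers u0), rfl⟩
  obtain ⟨hvZ0, hvp⟩ := part_not_central hp hZ hy
  set a := orderOf y
  -- `y` has `p'`-index
  have hpb : ¬ p ∣ idx y := fun h => hpB ⟨hp, y, hy, hys, h⟩
  set y' := y ^ (p ^ a.factorization p)
  have hy' : y' ∈ Subgroup.center G := by
    by_contra hh
    have hd : idx y' ∣ idx y := Subgroup.index_dvd_of_le (cent_le_pow y _)
    obtain ⟨u, hui, huo, huc⟩ := hconj y' (fun h => hpb (h.trans hd))
    obtain ⟨m, hm, hmw⟩ := Nat.exists_prime_and_dvd (n := idx y') (fun h => hh (idx_eq_one.1 h))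
    have hco : (orderOf u).Coprime (orderOf y') := by
      rw [huo, Cfsg.Lib.PGroup.orderOf_ordCompl_pow hp]
      refine Nat.Coprime.pow_left _ (hp.coprime_iff_not_dvd.2 fun h => ?_)
      refine Nat.not_dvd_ordCompl hp (orderOf_pos y).ne' (h.trans (orderOf_dvd_of_pow_eq_one ?_))
      rw [← pow_mul, Nat.ordProj_mul_ordCompl_eq_self, pow_orderOf_eq_one]
    have hle := cent_mul_le huc hco
    refine hmix u y' ?_ m (hB y' hd m hm hmw) (hui ▸ hlu) hmw
      (Subgroup.index_dvd_of_le (hle.trans inf_le_left)) (Subgroup.index_dvd_of_le (hle.trans inf_le_right))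
    rw [huc.orderOf_mul_eq_mul_orderOf_of_coprime hco, huo]
    exact hup.mul_right _
  set v := y ^ ordCompl[p] a
  have hCv : Subgroup.centralizer ({v} : Set G) ≤ Subgroup.centralizer ({y} : Set G) := by
    intro g hg
    refine mem_cent.2 ?_
    have hcop : (ordCompl[p] a).Coprime (p ^ a.factorization p) :=
      (Nat.Coprime.pow_left _ (Nat.coprime_ordCompl hp (orderOf_pos y).ne')).symm
    have hb := Nat.gcd_eq_gcd_ab (ordCompl[p] a) (p ^ a.factorization p)
    rw [hcop.gcd_eq_one] at hb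
    have he : y = (y ^ ordCompl[p] a) ^ Nat.gcdA (ordCompl[p] a) (p ^ a.factorization p) *
        (y ^ (p ^ a.factorization p)) ^ Nat.gcdB (ordCompl[p] a) (p ^ a.factorization p) := by
      rw [← zpow_natCast, ← zpow_natCast, ← zpow_mul, ← zpow_mul, ← zpow_add, ← hb, Nat.cast_one,
        zpow_one]
    rw [he]
    exact ((mem_cent.1 hg).zpow_left _).mul_left ((center_commute hy' g).zpow_left _)
  have hvi : idx v = idx y :=
    Nat.dvd_antisymm (Subgroup.index_dvd_of_le (cent_le_pow y _)) (Subgroup.index_dvd_of_le hCv)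
  -- every prime `≠ p` dividing a class size divides `idx y`
  have hall : ∀ t : ℕ, t.Prime → t ≠ p → (∃ g : G, t ∣ idx g) → t ∣ idx y := by
    intro t ht htp ⟨g, hg⟩
    haveI := Fact.mk ht
    set C := Subgroup.centralizer ({v} : Set G)
    have hC : ¬ t ∣ Nat.card (C.map (QuotientGroup.mk' (Subgroup.center G))) := by
      intro hd
      obtain ⟨⟨c, hcK⟩, hc⟩ := exists_prime_orderOf_dvd_card' t hd
      obtain ⟨w, hw, rfl⟩ := Subgroup.mem_map.1 hcK
      set o := orderOf w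
      have hwt : w ^ ordCompl[t] o ∈ Subgroup.center G := by
        by_contra hh
        set w' := w ^ ordCompl[t] o
        have hw'o : orderOf w' = t ^ o.factorization t := Cfsg.Lib.PGroup.orderOf_ordCompl_pow ht
        have hco : ∀ z : G, orderOf z = orderOf (x ^ ordCompl[p] (orderOf x)) ∨ z = v →
            (orderOf z).Coprime (orderOf w') := by
          rintro z (hz | rfl)
          · rw [hz, hw'o, Cfsg.Lib.PGroup.orderOf_ordCompl_pow hp]
            exact ((Nat.coprime_primes hp ht).2 htp.symm).pow _ _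
          · rw [hw'o, Cfsg.Lib.PGroup.orderOf_ordCompl_pow hp]
            exact ((Nat.coprime_primes hp ht).2 htp.symm).pow _ _
        have hvw : Commute v w' := (mem_cent.1 hw).pow_right _
        have hlev := cent_mul_le hvw (hco v (Or.inr rfl))
        have hps : p ∣ orderOf (v * w') := by
          rw [hvw.orderOf_mul_eq_mul_orderOf_of_coprime (hco v (Or.inr rfl))]
          exact hvp.mul_right _
        have hbs : s ∣ idx (v * w') :=
          (hvi ▸ hys).trans (Subgroup.index_dvd_of_le (hlev.trans inf_le_left))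
        have hwd : idx w' ∣ idx (v * w') := Subgroup.index_dvd_of_le (hlev.trans inf_le_right)
        obtain ⟨u, hui, huo, huc⟩ :=
          hconj w' (fun h => hpB ⟨hp, _, hps, hbs, h.trans hwd⟩)
        obtain ⟨m, hm, hmw⟩ := Nat.exists_prime_and_dvd (n := idx w') (fun h => hh (idx_eq_one.1 h))
        have hle := cent_mul_le huc (hco u (Or.inl huo))
        refine hmix u w' ?_ m ⟨hm, _, hps, hbs, hmw.trans hwd⟩ (hui ▸ hlu) hmw
          (Subgroup.index_dvd_of_le (hle.trans inf_le_left))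
          (Subgroup.index_dvd_of_le (hle.trans inf_le_right))
        rw [huc.orderOf_mul_eq_mul_orderOf_of_coprime (hco u (Or.inl huo)), huo]
        exact hup.mul_right _
      have h1 : orderOf (QuotientGroup.mk' (Subgroup.center G) w) = t := by
        rw [← hc]; exact (Subgroup.orderOf_mk _ _).symm
      have h2 : t ∣ ordCompl[t] o := by
        refine (dvd_of_eq h1.symm).trans (orderOf_dvd_of_pow_eq_one ?_)
        rw [← map_pow]
        exact (QuotientGroup.eq_one_iff (w ^ ordCompl[t] o)).2 hwt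
      exact Nat.not_dvd_ordCompl ht (orderOf_pos w).ne' h2
    have hdvd : t ∣ Nat.card (C.map (QuotientGroup.mk' (Subgroup.center G))) * idx v := by
      rw [← Subgroup.relIndex_ker, QuotientGroup.ker_mk']
      refine hg.trans ?_
      show idx g ∣ _ * C.index
      rw [Subgroup.relIndex_mul_index (center_le_cent v)]
      exact Subgroup.index_dvd_of_le (center_le_cent g)
    exact hvi ▸ (ht.dvd_mul.1 hdvd).resolve_left hC
  -- hence the `r`-side consists of powers of `p`
  have honly : ∀ g : G, ∀ t : ℕ, t.Prime → t ∣ idx g → Near G p r t → t = p := by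
    intro g t ht hd hA'
    by_contra htp
    exact hdisj t hA' ⟨ht, y, hy, hys, hall t ht htp ⟨g, hd⟩⟩
  have hlp : l = p := honly u0 l hl hlu hlA
  subst hlp
  haveI := Fact.mk hs
  set Z := Subgroup.center G with hZdef
  set R := Cfsg.pCore l G with hRdef
  haveI hRn : R.Normal := inferInstance
  have hlx : Near G l r l := hlA
  -- `p`-singular classes with size divisible by `p` have `p`-power size
  have hF1 : ∀ g : G, l ∣ orderOf g → l ∣ idx g → ∀ t : ℕ, t.Prime → t ∣ idx g → t = l := by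
    intro g hg hlg t ht htd
    by_contra htl
    exact hno g hg l t hlA ⟨ht, y, hy, hys, hall t ht htl ⟨g, htd⟩⟩ hlg htd
  have hu0t : ∀ t : ℕ, t.Prime → t ∣ idx u0 → t = l :=
    fun t ht hd => honly u0 t ht hd (hA u0 hu0i t ht hd)
  have hu0o : orderOf u0 = l ^ (orderOf x).factorization l := Cfsg.Lib.PGroup.orderOf_ordCompl_pow hp
  have hu0R : u0 ∈ R := by
    obtain ⟨P, hP⟩ := Cfsg.Agent.S4139.pow_ordCompl_mem_sylow_core l (u := u0) ⟨_, part_pow x l⟩
      (fun t ht htl hd => htl (hu0t t ht hd))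
    haveI := Subgroup.normalCore_normal (P : Subgroup G)
    exact Cfsg.Lib.Core.le_pCore (P.2.to_le (Subgroup.normalCore_le _)) hP
  obtain ⟨Pv, hPv⟩ := exists_sylow_cent l (x := v) (hvi ▸ hpb)
  have hRv : R ≤ Subgroup.centralizer ({v} : Set G) :=
    (Cfsg.Lib.Core.pCore_le_sylow Pv).trans hPv
  have huv : Commute v u0 := mem_cent.1 (hRv hu0R)
  have hvu : ¬ l ∣ idx v := hvi ▸ hpb
  have hsv : s ∣ idx v := hvi ▸ hys
  have hu0l : l ∣ idx u0 := hlu
  have hcop : (idx v).Coprime (idx u0) := Nat.coprime_of_dvd fun t ht h1 h2 =>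
    hvu (hu0t t ht h2 ▸ h1)
  -- the product `v * u0`
  have hps : l ∣ orderOf (v * u0) := by
    have h1 : (v * u0) ^ l ^ (a.factorization l + (orderOf x).factorization l) = 1 := by
      rw [huv.mul_pow, pow_add, pow_mul, pow_mul, part_pow, one_pow, one_mul, ← pow_mul, mul_comm,
        pow_mul, part_pow, one_pow]
    obtain ⟨j, _, hj⟩ := (Nat.dvd_prime_pow hp).1 (orderOf_dvd_of_pow_eq_one h1)
    rcases j with _ | j
    · rw [pow_zero, orderOf_eq_one_iff] at hj
      have h2 : v = u0⁻¹ := eq_inv_of_mul_eq_one_left hj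
      have h3 : idx v = idx u0 := by
        rw [h2, idx, idx]
        congr 1
        ext g
        rw [mem_cent, mem_cent, Commute.inv_left_iff]
      exact absurd (h3 ▸ hu0l) hvu
    · exact hj ▸ dvd_pow_self l (Nat.succ_ne_zero j)
  have hd : idx (v * u0) ∣ idx v * idx u0 :=
    idx_mul_coprime hcop ▸ Subgroup.index_dvd_of_le (cent_inf_le_mul v u0)
  have hld : l ∣ idx (v * u0) := by
    by_contra hh
    have h1 : idx (u0 * v) ∣ idx v := by
      rw [← huv.eq]
      exact dvd_of_split hd fun t ht htd htu => hh (hu0t t ht htu ▸ htd)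
    have h2 := nSub_dvd hcop.symm (Nat.le_of_dvd (idx_pos v) h1)
    have h3 : nSub u0 ≤ R := by
      refine (Subgroup.closure_le _).2 ?_
      rintro _ ⟨g, rfl⟩
      exact mul_mem (inv_mem hu0R) (hRn.conj_mem _ hu0R g)
    obtain ⟨e, he⟩ := IsPGroup.iff_card.1 ((Cfsg.Lib.Core.pCore_isPGroup l G).to_le h3)
    have h4 : e = 0 := by
      by_contra he0
      exact hvu ((dvd_pow_self l he0).trans (he ▸ h2))
    rw [h4, pow_zero, Subgroup.card_eq_one] at he
    refine huZ (Subgroup.mem_center_iff.2 fun g => ?_)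
    have h5 := Subgroup.mem_bot.1 (he ▸ mem_nSub u0 g)
    rw [inv_mul_eq_one, eq_mul_inv_iff_mul_eq] at h5
    exact h5.symm
  have hNv : ∀ t : ℕ, t.Prime → t ∣ Nat.card (nSub v) → t = l := by
    have h1 : idx (v * u0) ∣ idx u0 := by
      refine dvd_of_split (by rwa [mul_comm] at hd) fun t ht htd htv => ?_
      exact hvu (hF1 _ hps hld t ht htd ▸ htv)
    exact fun t ht h => hu0t t ht (h.trans (nSub_dvd hcop (Nat.le_of_dvd (idx_pos u0) h1)))
  have hvR : v ∈ R := by
    have hN : IsPGroup l (nSub v) := IsPGroup.of_card (Nat.eq_prime_pow_of_unique_prime_dvd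
      Nat.card_pos.ne' (fun {d} hd1 hd2 => hNv d hd1 hd2))
    have hNR : nSub v ≤ R := Cfsg.Lib.Core.le_pCore hN
    set V := Subgroup.zpowers v ⊔ R with hV
    have hVn : V.Normal := by
      have key : ∀ g : G, ∀ w ∈ V, g * w * g⁻¹ ∈ V := by
        intro g w hw
        have hgv : g * v * g⁻¹ ∈ V := by
          have : g * v * g⁻¹ = v * (v⁻¹ * (g * v * g⁻¹)) := by group
          rw [this]
          exact mul_mem (Subgroup.mem_sup_left (Subgroup.mem_zpowers v))
            (Subgroup.mem_sup_right (hNR (mem_nSub v g)))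
        have : V ≤ V.comap (MulAut.conj g).toMonoidHom := by
          refine sup_le (Subgroup.zpowers_le.2 hgv) fun z hz => ?_
          exact Subgroup.mem_sup_right (hRn.conj_mem z hz g)
        exact this hw
      exact ⟨fun w hw g => key g w hw⟩
    haveI := hVn
    have hzp : IsPGroup l (Subgroup.zpowers v) := IsPGroup.of_card
      (by rw [Nat.card_zpowers]; exact Cfsg.Lib.PGroup.orderOf_ordCompl_pow hp)
    exact Cfsg.Lib.Core.le_pCore
      (Cfsg.Lib.Core.isPGroup_sup_of_normal hzp (Cfsg.Lib.Core.pCore_isPGroup l G))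
      (Subgroup.mem_sup_left (Subgroup.mem_zpowers v))
  -- primary `p'`-elements have `p`-power class size
  have hF4 : ∀ t : ℕ, t.Prime → t ≠ l → ∀ h : G, (∃ i, h ^ t ^ i = 1) →
      ∀ m : ℕ, m.Prime → m ∣ idx h → m = l := by
    intro t ht htl h ⟨i, hi⟩ m hm hmd
    haveI := Fact.mk ht
    obtain ⟨Q', hQ'⟩ := exists_sylow_cent t (x := u0) (fun hh => htl (hu0t t ht hh))
    have hht : IsPGroup t (Subgroup.zpowers h) := by
      obtain ⟨j, _, hj⟩ := (Nat.dvd_prime_pow ht).1 (orderOf_dvd_of_pow_eq_one hi)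
      exact IsPGroup.of_card (n := j) (by rw [Nat.card_zpowers, hj])
    obtain ⟨Q1, hQ1⟩ := hht.exists_le_sylow
    obtain ⟨g, hg⟩ := MulAction.exists_smul_eq G Q1 Q'
    set h' := g * h * g⁻¹
    have hcomm : Commute u0 h' := mem_cent.1 (hQ' (by
      rw [← hg]; exact ⟨h, hQ1 (Subgroup.mem_zpowers h), rfl⟩))
    have hh' : h' ^ t ^ i = 1 := by rw [conj_pow, hi, mul_one, mul_inv_cancel]
    have hco : (orderOf u0).Coprime (orderOf h') := by
      rw [hu0o]
      exact (((Nat.coprime_primes hp ht).2 htl.symm).pow _ i).coprime_dvd_right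
        (orderOf_dvd_of_pow_eq_one hh')
    have hle := cent_mul_le hcomm hco
    refine hF1 (u0 * h') ?_ (hu0l.trans (Subgroup.index_dvd_of_le (hle.trans inf_le_left))) m hm ?_
    · rw [hcomm.orderOf_mul_eq_mul_orderOf_of_coprime hco]; exact hup.mul_right _
    · rw [hcl h h' (isConj_iff.2 ⟨g, rfl⟩)] at hmd
      exact hmd.trans (Subgroup.index_dvd_of_le (hle.trans inf_le_right))
  -- `p'`-elements of `C(v)` are central
  have hCvp : ∀ t : ℕ, t.Prime → t ≠ l → ∀ h : G, (∃ i, h ^ t ^ i = 1) →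
      Commute v h → h ∈ Z := by
    intro t ht htl h ⟨i, hi⟩ hc
    by_contra hhZ
    obtain ⟨m, hm, hmd⟩ := Nat.exists_prime_and_dvd (n := idx h) (fun e => hhZ (idx_eq_one.1 e))
    have hco : (orderOf v).Coprime (orderOf h) := by
      rw [Cfsg.Lib.PGroup.orderOf_ordCompl_pow hp]
      exact (((Nat.coprime_primes hp ht).2 htl.symm).pow _ i).coprime_dvd_right
        (orderOf_dvd_of_pow_eq_one hi)
    have hle := cent_mul_le hc hco
    have hps' : l ∣ orderOf (v * h) := by
      rw [hc.orderOf_mul_eq_mul_orderOf_of_coprime hco]; exact hvp.mul_right _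
    have hmd' := hmd.trans (Subgroup.index_dvd_of_le (hle.trans inf_le_right))
    have hsd := hsv.trans (Subgroup.index_dvd_of_le (hle.trans inf_le_left))
    rw [hF4 t ht htl h ⟨i, hi⟩ m hm hmd] at hmd'
    exact hpB ⟨hp, _, hps', hsd, hmd'⟩
  have hvZ : v ∉ Z := fun h => hZ (hvp.trans (Subgroup.orderOf_dvd_natCard _ h))
  -- a normal subgroup which is a `p`-group modulo the centre lies in `R ⊔ Z`
  have hpmod : ∀ W : Subgroup G, W.Normal → Z ≤ W →
      IsPGroup l (W.map (QuotientGroup.mk' Z)) → W ≤ R ⊔ Z := by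
    intro W hW hZW hWp
    obtain ⟨S⟩ : Nonempty (Sylow l W) := inferInstance
    set ZW := Z.subgroupOf W
    haveI : ZW.Normal := inferInstance
    have hidx : ((S : Subgroup W) ⊔ ZW).index = 1 := by
      refine Nat.eq_one_of_dvd_coprimes ?_ (Subgroup.index_dvd_of_le le_sup_left)
        (Subgroup.index_dvd_of_le le_sup_right)
      obtain ⟨e, he⟩ := IsPGroup.iff_card.1 hWp
      rw [← Subgroup.relIndex_ker, QuotientGroup.ker_mk'] at he
      show (S : Subgroup W).index.Coprime ZW.index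
      rw [show ZW.index = Z.relIndex W from rfl, he]
      exact Nat.Coprime.pow_right e (hp.coprime_iff_not_dvd.2 S.not_dvd_index).symm
    rw [Subgroup.index_eq_one] at hidx
    have hSn : (S : Subgroup W).Normal := by
      have hle : (S : Subgroup W) ⊔ ZW ≤ Subgroup.normalizer ((S : Subgroup W) : Set W) := by
        refine sup_le Subgroup.le_normalizer fun z hz => ?_
        rw [Subgroup.mem_normalizer_iff]
        intro k
        have : z * k * z⁻¹ = k := Subtype.ext (by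
          simpa using mul_inv_eq_iff_eq_mul.2 ((center_commute (Subgroup.mem_subgroupOf.1 hz) (k : G)).eq))
        rw [this]
      exact Subgroup.normalizer_eq_top_iff.1 (top_le_iff.1 (hidx ▸ hle))
    haveI : (S : Subgroup W).Characteristic := Sylow.characteristic_of_normal S hSn
    haveI hSG : ((S : Subgroup W).map W.subtype).Normal := inferInstance
    intro w hw
    obtain ⟨a1, ha1, z1, hz1, he⟩ := (Subgroup.mem_sup_of_normal_right (s := (S : Subgroup W))
      (t := ZW)).1 (hidx ▸ Subgroup.mem_top (⟨w, hw⟩ : W))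
    have : w = (a1 : G) * (z1 : G) := (congrArg Subtype.val he).symm
    rw [this]
    exact mul_mem (Subgroup.mem_sup_left
      (Cfsg.Lib.Core.le_pCore (S.2.map W.subtype) (Subgroup.mem_map_of_mem _ ha1)))
      (Subgroup.mem_sup_right hz1)
  -- a minimal normal subgroup above `R ⊔ Z`
  set M := R ⊔ Z with hM
  haveI hMn : M.Normal := inferInstance
  have hMv : M ≤ Subgroup.centralizer ({v} : Set G) := sup_le hRv (center_le_cent v)
  haveI : Nonempty {N : Subgroup (G ⧸ M) // N.Normal ∧ N ≠ ⊥} := by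
    refine ⟨⟨⊤, inferInstance, fun h => hvZ ?_⟩⟩
    rw [Subgroup.mem_center_iff]
    intro g
    have : QuotientGroup.mk' M g = 1 := Subgroup.mem_bot.1 (h ▸ Subgroup.mem_top _)
    exact (mem_cent.1 (hMv ((QuotientGroup.eq_one_iff g).1 this))).symm.eq
  obtain ⟨⟨Wb, hWbn, hWb1⟩, hWmin⟩ :=
    Finite.exists_min (fun N : {N : Subgroup (G ⧸ M) // N.Normal ∧ N ≠ ⊥} => Nat.card N.1)
  haveI := hWbn
  have hmin : ∀ N : Subgroup (G ⧸ M), N.Normal → N ≤ Wb → N = ⊥ ∨ N = Wb := by
    intro N hN hle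
    by_cases h : N = ⊥
    · exact Or.inl h
    · exact Or.inr (Subgroup.eq_of_le_of_card_ge hle (hWmin ⟨N, hN, h⟩))
  set W := Wb.comap (QuotientGroup.mk' M) with hWdef
  haveI hWn : W.Normal := inferInstance
  have hMW : M ≤ W := fun g hg => by
    show QuotientGroup.mk' M g ∈ Wb
    rw [QuotientGroup.mk'_apply, (QuotientGroup.eq_one_iff g).2 hg]
    exact one_mem _
  have hnotp : ¬ IsPGroup l Wb := by
    intro hWp
    apply hWb1
    have hle : W ≤ M := by
      refine hpmod W hWn ((le_sup_right : Z ≤ M).trans hMW) ?_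
      rintro ⟨q, hq⟩
      obtain ⟨g, hg, rfl⟩ := Subgroup.mem_map.1 hq
      obtain ⟨i, hi⟩ := hWp ⟨_, Subgroup.mem_comap.1 hg⟩
      have h1 : g ^ l ^ i ∈ M := by
        rw [← QuotientGroup.eq_one_iff]
        simpa using congrArg Subtype.val hi
      obtain ⟨r1, hr1, z1, hz1, he⟩ := Subgroup.mem_sup_of_normal_right.1 h1
      obtain ⟨j, hj⟩ := Cfsg.Lib.Core.pCore_isPGroup l G ⟨r1, hr1⟩
      refine ⟨i + j, Subtype.ext ?_⟩
      show QuotientGroup.mk' Z g ^ l ^ (i + j) = 1
      rw [← map_pow, pow_add, pow_mul, ← he, (center_commute hz1 r1).symm.mul_pow,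
        show r1 ^ l ^ j = 1 by simpa using congrArg Subtype.val hj, one_mul]
      exact (QuotientGroup.eq_one_iff _).2 (pow_mem hz1 _)
    rw [eq_bot_iff]
    intro q hq
    obtain ⟨g, rfl⟩ := QuotientGroup.mk'_surjective M q
    exact Subgroup.mem_bot.2 ((QuotientGroup.eq_one_iff g).2 (hle (Subgroup.mem_comap.2 hq)))
  -- it is abelian
  have hWbc : ∀ a b : Wb, a * b = b * a := by
    rcases hmin ⁅Wb, Wb⁆ inferInstance (Subgroup.commutator_le_left _ _) with h | h
    · intro a b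
      exact Subtype.ext (commutatorElement_eq_one_iff_mul_comm.1
        (Subgroup.mem_bot.1 (h ▸ Subgroup.commutator_mem_commutator a.2 b.2)))
    exfalso
    haveI : Nonempty {N : Subgroup Wb // N.Normal ∧ N ≠ ⊤} := ⟨⟨⊥, inferInstance, fun h0 => hWb1 (by
      rw [eq_bot_iff]
      intro q hq
      have : (⟨q, hq⟩ : Wb) ∈ (⊥ : Subgroup Wb) := h0 ▸ Subgroup.mem_top _
      exact Subgroup.mem_bot.2 (congrArg Subtype.val (Subgroup.mem_bot.1 this)))⟩⟩
    obtain ⟨⟨X, hXn, hX1⟩, hXmax⟩ :=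
      Finite.exists_max (fun N : {N : Subgroup Wb // N.Normal ∧ N ≠ ⊤} => Nat.card N.1)
    haveI := hXn
    set π := QuotientGroup.mk' X
    have hπ : Function.Surjective π := QuotientGroup.mk'_surjective X
    haveI : Nontrivial (Wb ⧸ X) := QuotientGroup.nontrivial_iff.2 hX1
    haveI : IsSimpleGroup (Wb ⧸ X) := ⟨fun K hK => by
      by_cases hKt : K = ⊤
      · exact Or.inr hKt
      left
      have hne : K.comap π ≠ ⊤ := fun h0 => hKt (by
        rw [eq_top_iff]
        intro q _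
        obtain ⟨w, rfl⟩ := hπ q
        exact Subgroup.mem_comap.1 (h0 ▸ Subgroup.mem_top w))
      have hXK : X ≤ K.comap π := fun w hw => by
        show π w ∈ K
        rw [show π w = 1 from (QuotientGroup.eq_one_iff w).2 hw]; exact one_mem K
      have := Subgroup.eq_of_le_of_card_ge hXK (hXmax ⟨_, hK.comap π, hne⟩)
      rw [eq_bot_iff]
      intro q hq
      obtain ⟨w, rfl⟩ := hπ q
      exact Subgroup.mem_bot.2 ((QuotientGroup.eq_one_iff w).2 (this.symm ▸ Subgroup.mem_comap.2 hq))⟩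
    have hnc : ¬ ∀ a b : Wb ⧸ X, a * b = b * a := by
      intro hcomm
      apply hX1
      rw [eq_top_iff]
      have h1 : ⁅(⊤ : Subgroup Wb), (⊤ : Subgroup Wb)⁆ ≤ X := by
        rw [Subgroup.commutator_le]
        intro a _ b _
        refine (QuotientGroup.eq_one_iff _).1 ?_
        show π ⁅a, b⁆ = 1
        rw [map_commutatorElement]
        exact commutatorElement_eq_one_iff_mul_comm.2 (hcomm _ _)
      have h2 : ⁅(⊤ : Subgroup Wb), (⊤ : Subgroup Wb)⁆ = ⊤ := by
        apply Subgroup.map_injective Wb.subtype_injective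
        rw [Subgroup.map_commutator, ← MonoidHom.range_eq_map, Subgroup.range_subtype]
        exact h
      exact h2 ▸ h1
    have hnpg : ¬ IsPGroup l (Wb ⧸ X) := by
      intro hPg
      haveI := hPg.center_nontrivial
      have : Subgroup.center (Wb ⧸ X) = ⊤ :=
        ((inferInstance : (Subgroup.center (Wb ⧸ X)).Normal).eq_bot_or_eq_top).resolve_left
          ((Subgroup.nontrivial_iff_ne_bot _).1 inferInstance)
      exact hnc fun a b => (Subgroup.mem_center_iff.1 (this ▸ Subgroup.mem_top b) a)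
    obtain ⟨q, hq, hqd, hql⟩ : ∃ q, q.Prime ∧ q ∣ Nat.card (Wb ⧸ X) ∧ q ≠ l := by
      by_contra hcon
      push Not at hcon
      exact hnpg (IsPGroup.of_card (Nat.eq_prime_pow_of_unique_prime_dvd Nat.card_pos.ne'
        (fun {d} hd1 hd2 => hcon d hd1 hd2)))
    haveI := Fact.mk hq
    obtain ⟨t1, ht1⟩ := exists_prime_orderOf_dvd_card' q hqd
    set φ : W →* Wb ⧸ X := π.comp ((QuotientGroup.mk' M).subgroupComap Wb) with hφ
    have hφs : Function.Surjective φ :=
      hπ.comp (MonoidHom.subgroupComap_surjective_of_surjective _ _ (QuotientGroup.mk'_surjective M))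
    obtain ⟨g, hg⟩ := hφs t1
    set h1 := g ^ ordCompl[q] (orderOf g) with hh1
    have himg : φ h1 ≠ 1 := by
      intro he
      rw [hh1, map_pow, hg, ← orderOf_dvd_iff_pow_eq_one, ht1] at he
      exact Nat.not_dvd_ordCompl hq (orderOf_pos g).ne' he
    have hidx : ∀ m : ℕ, m.Prime → m ∣ idx (φ h1) → m = l := by
      intro m hm hmd
      refine hF4 q hq hql (h1 : G) ⟨(orderOf g).factorization q, ?_⟩ m hm (hmd.trans ?_)
      · rw [← Subgroup.coe_pow, hh1, part_pow, Subgroup.coe_one]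
      · have hle : (Subgroup.centralizer ({(h1 : G)} : Set G)).subgroupOf W ≤
            (Subgroup.centralizer ({φ h1} : Set (Wb ⧸ X))).comap φ := fun k hk => by
          have hc : Commute h1 k := Subtype.ext (mem_cent.1 (Subgroup.mem_subgroupOf.1 hk)).eq
          exact mem_cent.2 (hc.map φ)
        have h2 := Subgroup.index_dvd_of_le hle
        rw [Subgroup.index_comap_of_surjective _ hφs] at h2
        refine h2.trans ?_
        show Subgroup.relIndex _ W ∣ _
        rw [relIndex_eq_sup]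
        exact Subgroup.relIndex_dvd_index_of_le le_sup_left
    have hpk := Nat.eq_prime_pow_of_unique_prime_dvd (idx_pos (φ h1)).ne'
      (fun {d} hd1 hd2 => hidx d hd1 hd2)
    letI : Fintype (Wb ⧸ X) := Fintype.ofFinite _
    haveI : Fact (Nat.card (Wb ⧸ X)).Prime := by
      refine ⟨Cfsg.Lib.Char.prime_card_of_class_prime_pow hp himg (Eq.trans ?_ hpk)⟩
      rw [← card_class]
      refine (Nat.card_eq_finsetCard _).symm.trans (Nat.card_congr (Equiv.subtypeEquivRight fun c => ?_))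
      rw [Cfsg.Lib.Char.mem_classFinset, isConj_iff]
      rfl
    haveI := isCyclic_of_prime_card (α := Wb ⧸ X) rfl
    letI := IsCyclic.commGroup (α := Wb ⧸ X)
    exact hnc fun a b => mul_comm a b
  obtain ⟨q, hq, hqd, hql⟩ : ∃ q, q.Prime ∧ q ∣ Nat.card Wb ∧ q ≠ l := by
    by_contra hcon
    push Not at hcon
    exact hnotp (IsPGroup.of_card (Nat.eq_prime_pow_of_unique_prime_dvd Nat.card_pos.ne'
      (fun {d} hd1 hd2 => hcon d hd1 hd2)))
  haveI := Fact.mk hq
  have hWq : ∀ w ∈ Wb, ∃ n : ℕ, w ^ q ^ n = 1 := by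
    let X : Subgroup (G ⧸ M) :=
      { carrier := {w | w ∈ Wb ∧ ∃ n : ℕ, w ^ q ^ n = 1}
        one_mem' := ⟨one_mem _, 0, one_pow _⟩
        mul_mem' := by
          rintro a b ⟨ha, i, hi⟩ ⟨hb, j, hj⟩
          refine ⟨mul_mem ha hb, i + j, ?_⟩
          have hc : Commute a b := congrArg Subtype.val (hWbc ⟨a, ha⟩ ⟨b, hb⟩)
          rw [hc.mul_pow, pow_add, pow_mul, hi, one_pow, one_mul, mul_comm, pow_mul, hj, one_pow]
        inv_mem' := by
          rintro a ⟨ha, i, hi⟩
          exact ⟨inv_mem ha, i, by rw [inv_pow, hi, inv_one]⟩ }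
    have hXn : X.Normal := ⟨fun a ⟨ha, i, hi⟩ g => ⟨hWbn.conj_mem a ha g, i, by
      rw [conj_pow, hi, mul_one, mul_inv_cancel]⟩⟩
    rcases hmin X hXn (fun a ha => ha.1) with h | h
    · obtain ⟨c, hc⟩ := exists_prime_orderOf_dvd_card' q hqd
      have hcX : (c : G ⧸ M) ∈ X := ⟨c.2, 1, by
        rw [pow_one, ← hc, ← Subgroup.orderOf_coe, pow_orderOf_eq_one]⟩
      rw [h, Subgroup.mem_bot, OneMemClass.coe_eq_one] at hcX
      rw [hcX, orderOf_one] at hc
      exact absurd hc.symm hq.ne_one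
    · intro w hw
      rw [← h] at hw
      exact hw.2
  -- Sylow `q`-subgroups of `W`
  have hsylW : ∀ Q' : Sylow q G, ¬ q ∣ ((Q' : Subgroup G).subgroupOf W).index := by
    intro Q' hd'
    apply Q'.not_dvd_index
    refine hd'.trans ?_
    show Subgroup.relIndex _ W ∣ _
    rw [relIndex_eq_sup]
    exact Subgroup.relIndex_dvd_index_of_le le_sup_left
  let SW : Sylow q G → Sylow q W := fun Q' =>
    (Q'.2.comap_of_injective W.subtype W.subtype_injective).toSylow (hsylW Q')
  obtain ⟨Q⟩ : Nonempty (Sylow q G) := inferInstance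
  set Q0 := (Q : Subgroup G) ⊓ W with hQ0
  have hWQ : ∀ w ∈ W, ∃ m ∈ M, ∃ k ∈ Q0, w = m * k := by
    intro w hw
    set QW := (Q : Subgroup G).subgroupOf W
    set MW := M.subgroupOf W
    have hidx : (MW ⊔ QW).index = 1 := by
      refine Nat.eq_one_of_dvd_coprimes ?_ (Subgroup.index_dvd_of_le le_sup_left)
        (Subgroup.index_dvd_of_le le_sup_right)
      obtain ⟨e, he⟩ := IsPGroup.iff_card.1 (show IsPGroup q (W.map (QuotientGroup.mk' M)) from by
        rintro ⟨c, hc⟩
        obtain ⟨g, hg, rfl⟩ := Subgroup.mem_map.1 hc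
        obtain ⟨n, hn⟩ := hWq _ (Subgroup.mem_comap.1 hg)
        exact ⟨n, Subtype.ext (by simpa using hn)⟩)
      rw [← Subgroup.relIndex_ker, QuotientGroup.ker_mk'] at he
      show MW.index.Coprime QW.index
      rw [show MW.index = M.relIndex W from rfl, he]
      exact Nat.Coprime.pow_left e (hq.coprime_iff_not_dvd.2 (hsylW Q))
    rw [Subgroup.index_eq_one] at hidx
    obtain ⟨m, hm, k, hk, he⟩ := (Subgroup.mem_sup_of_normal_left (s := MW) (t := QW)).1
      (hidx ▸ Subgroup.mem_top (⟨w, hw⟩ : W))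
    exact ⟨m, hm, k, ⟨hk, k.2⟩, (congrArg Subtype.val he).symm⟩
  set H0 : Subgroup R := (Subgroup.centralizer (Q0 : Set G)).subgroupOf R with hH0
  have hconjR : ∀ w : R, l ∣ orderOf (w : G) → l ∣ idx (w : G) → ∃ c : R, c * w * c⁻¹ ∈ H0 := by
    intro w hwp hwd
    obtain ⟨Q', hQ'⟩ := exists_sylow_cent q (x := (w : G)) (fun h => hql (hF1 _ hwp hwd q hq h))
    obtain ⟨g, hg⟩ := MulAction.exists_smul_eq W (SW Q) (SW Q')
    obtain ⟨m, hm, k, hk, he⟩ := hWQ g g.2
    obtain ⟨r1, hr1, z1, hz1, hme⟩ := Subgroup.mem_sup_of_normal_right.1 hm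
    refine ⟨⟨r1⁻¹, inv_mem hr1⟩, Subgroup.mem_subgroupOf.2 (Subgroup.mem_centralizer_iff.2 fun e he' => ?_)⟩
    -- `k` normalises `Q0`
    have hek : k⁻¹ * e * k ∈ Q0 := mul_mem (mul_mem (inv_mem hk) he') hk
    have h1 : (g : G) * (k⁻¹ * e * k) * (g : G)⁻¹ ∈ (Q' : Subgroup G) := by
      have : g • (SW Q) = SW Q' := hg
      have hmem : (g * ⟨k⁻¹ * e * k, hek.2⟩ * g⁻¹ : W) ∈ ((g • SW Q : Sylow q W) : Subgroup W) :=
        ⟨⟨k⁻¹ * e * k, hek.2⟩, hek.1, rfl⟩
      rw [this] at hmem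
      exact hmem
    have h2 : (g : G) * (k⁻¹ * e * k) * (g : G)⁻¹ = r1 * e * r1⁻¹ := by
      rw [he, ← hme]
      calc r1 * z1 * k * (k⁻¹ * e * k) * (r1 * z1 * k)⁻¹ = r1 * (z1 * e * z1⁻¹) * r1⁻¹ := by group
        _ = r1 * e * r1⁻¹ := by rw [(center_commute hz1 e).eq, mul_inv_cancel_right]
    rw [h2] at h1
    have h3 := (Commute.conj_iff r1⁻¹).2 (mem_cent.1 (hQ' h1))
    have h4 : r1⁻¹ * (r1 * e * r1⁻¹) * r1⁻¹⁻¹ = e := by group
    rw [h4] at h3
    exact h3.eq.symm
  have hcover : ∀ w : R, w ∈ Subgroup.center R ∨ ∃ c : R, c * w * c⁻¹ ∈ H0 := by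
    intro w
    by_cases hw1 : (w : G) = 1
    · exact Or.inl (by rw [show w = 1 from Subtype.ext hw1]; exact one_mem _)
    have hwp : l ∣ orderOf (w : G) := by
      obtain ⟨i, hi⟩ := Cfsg.Lib.Core.pCore_isPGroup l G w
      obtain ⟨j, _, hj⟩ := (Nat.dvd_prime_pow hp).1 (orderOf_dvd_of_pow_eq_one
        (show (w : G) ^ l ^ i = 1 from by simpa using congrArg Subtype.val hi))
      rcases j with _ | j
      · exact absurd (orderOf_eq_one_iff.1 (by rw [hj, pow_zero])) hw1
      · exact hj ▸ dvd_pow_self l (Nat.succ_ne_zero j)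
    by_cases hwd : l ∣ idx (w : G)
    · exact Or.inr (hconjR w hwp hwd)
    left
    obtain ⟨P', hP'⟩ := exists_sylow_cent l hwd
    exact Subgroup.mem_center_iff.2 fun c =>
      Subtype.ext (mem_cent.1 (hP' (Cfsg.Lib.Core.pCore_le_sylow P' c.2))).symm.eq
  have hH : Subgroup.center R ⊔ H0 = ⊤ := by
    refine Cfsg.Lib.PGroup.eq_top_of_forall_exists_conj_mem fun w => ?_
    rcases hcover w with h | ⟨c, hc⟩
    · exact ⟨1, by simpa using Subgroup.mem_sup_left h⟩
    · exact ⟨c, Subgroup.mem_sup_right hc⟩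
  set v' : R := ⟨v, hvR⟩
  have hv'c : ∀ c : R, Commute v' c := fun c => Subtype.ext (mem_cent.1 (hRv c.2)).eq
  obtain ⟨r1, hr1⟩ := hconjR ⟨u0, hu0R⟩ hup hu0l
  set u : R := r1 * ⟨u0, hu0R⟩ * r1⁻¹
  have hucj : IsConj (v * u0) ((v' * u : R) : G) := by
    refine isConj_iff.2 ⟨(r1 : G), ?_⟩
    show (r1 : G) * (v * u0) * (r1 : G)⁻¹ = v * ((r1 : G) * u0 * (r1 : G)⁻¹)
    rw [← mul_assoc, ← mul_assoc, ← (show v * (r1 : G) = r1 * v from congrArg Subtype.val (hv'c r1).eq)]
    group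
  have huo : l ∣ orderOf ((v' * u : R) : G) := by
    obtain ⟨k, hk⟩ := isConj_iff.1 hucj
    rw [← hk, ← MulAut.conj_apply]
    exact hps.trans (MulEquiv.orderOf_eq (MulAut.conj k) (v * u0)).symm.dvd
  obtain ⟨c, hc⟩ := hconjR (v' * u) huo (hcl _ _ hucj ▸ hld)
  obtain ⟨z1, hz1, d, hd', rfl⟩ := Subgroup.mem_sup_of_normal_left.1 (hH.symm ▸ Subgroup.mem_top c)
  have hz : ∀ e : R, z1 * e = e * z1 := fun e => (Subgroup.mem_center_iff.1 hz1 e).symm
  have h1 : z1 * d * (v' * u) * (z1 * d)⁻¹ = v' * (d * u * d⁻¹) := by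
    calc z1 * d * (v' * u) * (z1 * d)⁻¹ = z1 * (d * (v' * u) * d⁻¹) * z1⁻¹ := by group
      _ = d * (v' * u) * d⁻¹ := by rw [hz]; group
      _ = v' * (d * u * d⁻¹) := by rw [← mul_assoc d, ← (hv'c d).eq]; group
  rw [h1] at hc
  have hv0 : v' ∈ H0 := by
    have := mul_mem hc (inv_mem (mul_mem (mul_mem hd' hr1) (inv_mem hd')))
    rwa [mul_inv_cancel_right] at this
  apply hWb1
  rw [eq_bot_iff]
  intro w hw
  obtain ⟨g, rfl⟩ := QuotientGroup.mk'_surjective M w
  obtain ⟨m, hm, k, hk, he⟩ := hWQ g (Subgroup.mem_comap.2 hw)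
  refine Subgroup.mem_bot.2 ((QuotientGroup.eq_one_iff g).2 ?_)
  rw [he]
  refine mul_mem hm (Subgroup.mem_sup_right (hCvp q hq hql k ?_ ?_))
  · obtain ⟨i, hi⟩ := Q.2 ⟨k, hk.1⟩
    exact ⟨i, by simpa using congrArg Subtype.val hi⟩
  · exact (Subgroup.mem_centralizer_iff.1 (Subgroup.mem_subgroupOf.1 hv0) k hk).symm

end

/-- Let `G` be a finite group and `p` a prime not dividing the order of the centre of `G`. Consider the primes dividing the size of some conjugacy class of a `p`-singular element (an element of order divisible by `p`), two of them adjacent when their product divides such a class size. Then any two distinct such primes are joined by a path with at most 3 edges (the graph is connected of diameter at most 3). -/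
theorem result {G : Type*} [Group G] [Finite G] (p : ℕ) [Fact p.Prime]
    (hZ : ¬ p ∣ Nat.card ↥(Subgroup.center G)) (r s : ℕ) (hr : (r.Prime ∧ ∃ x : G, p ∣ orderOf x ∧ r ∣ (Subgroup.centralizer ({x} : Set G)).index)) (hs : (s.Prime ∧ ∃ x : G, p ∣ orderOf x ∧ s ∣ (Subgroup.centralizer ({x} : Set G)).index)) (hrs : r ≠ s) :
    (∃ x : G, p ∣ orderOf x ∧ r * s ∣ (Subgroup.centralizer ({x} : Set G)).index) ∨ (∃ t : ℕ, (t.Prime ∧ ∃ x : G, p ∣ orderOf x ∧ t ∣ (Subgroup.centralizer ({x} : Set G)).index) ∧ t ≠ r ∧ t ≠ s ∧ (∃ x : G, p ∣ orderOf x ∧ r * t ∣ (Subgroup.centralizer ({x} : Set G)).index) ∧ (∃ x : G, p ∣ orderOf x ∧ t * s ∣ (Subgroup.centralizer ({x} : Set G)).index)) ∨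
      (∃ t u : ℕ, (t.Prime ∧ ∃ x : G, p ∣ orderOf x ∧ t ∣ (Subgroup.centralizer ({x} : Set G)).index) ∧ (u.Prime ∧ ∃ x : G, p ∣ orderOf x ∧ u ∣ (Subgroup.centralizer ({x} : Set G)).index) ∧ t ≠ r ∧ u ≠ s ∧ t ≠ u ∧ (∃ x : G, p ∣ orderOf x ∧ r * t ∣ (Subgroup.centralizer ({x} : Set G)).index) ∧ (∃ x : G, p ∣ orderOf x ∧ t * u ∣ (Subgroup.centralizer ({x} : Set G)).index) ∧ (∃ x : G, p ∣ orderOf x ∧ u * s ∣ (Subgroup.centralizer ({x} : Set G)).index)) := by
  classical
  by_contra hfail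
  simp only [not_or] at hfail
  obtain ⟨hadj, h2, h3⟩ := hfail
  have mk2 : ∀ {a b : ℕ} {g : G}, a.Prime → b.Prime → a ≠ b → a ∣ idx g → b ∣ idx g → a * b ∣ idx g :=
    fun ha hb hne h1 h2 => ((Nat.coprime_primes ha hb).2 hne).mul_dvd_of_dvd_of_dvd h1 h2
  have hdisj : ∀ l, Near G p r l → ¬ Near G p s l := by
    rintro l ⟨hl, g, hpg, hrg, hlg⟩ ⟨-, g', hpg', hsg', hlg'⟩
    by_cases hlr : l = r
    · subst hlr; exact hadj ⟨g', hpg', mk2 hr.1 hs.1 hrs hlg' hsg'⟩
    by_cases hls : l = s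
    · subst hls; exact hadj ⟨g, hpg, mk2 hr.1 hs.1 hrs hrg hlg⟩
    exact h2 ⟨l, ⟨hl, g, hpg, hlg⟩, hlr, hls, ⟨g, hpg, mk2 hr.1 hl (Ne.symm hlr) hrg hlg⟩,
      ⟨g', hpg', mk2 hl hs.1 hls hlg' hsg'⟩⟩
  have hno : ∀ g : G, p ∣ orderOf g → ∀ l m : ℕ, Near G p r l → Near G p s m → l ∣ idx g →
      ¬ m ∣ idx g := by
    intro g hg l m hl hm hlg hmg
    have hlm : l ≠ m := fun he => hdisj l hl (he ▸ hm)
    obtain ⟨hl', g1, hpg1, hrg1, hlg1⟩ := hl
    obtain ⟨hm', g2, hpg2, hsg2, hmg2⟩ := hm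
    by_cases hlr : l = r
    · subst hlr
      exact hdisj m ⟨hm', g, hg, hlg, hmg⟩ ⟨hm', g2, hpg2, hsg2, hmg2⟩
    by_cases hms : m = s
    · subst hms
      exact hdisj l ⟨hl', g1, hpg1, hrg1, hlg1⟩ ⟨hl', g, hg, hmg, hlg⟩
    exact h3 ⟨l, m, ⟨hl', g1, hpg1, hlg1⟩, ⟨hm', g2, hpg2, hmg2⟩, hlr, hms, hlm,
      ⟨g1, hpg1, mk2 hr.1 hl' (Ne.symm hlr) hrg1 hlg1⟩, ⟨g, hg, mk2 hl' hm' hlm hlg hmg⟩,
      ⟨g2, hpg2, mk2 hm' hs.1 hms hmg2 hsg2⟩⟩
  obtain ⟨xr, hxp, hxr⟩ := hr.2
  obtain ⟨xs, hyp, hys⟩ := hs.2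
  by_cases hpB : Near G p s p
  · exact far p hZ hr.1 hyp hys hs.1 hxp hxr
      (fun g hg l m hl hm h1 h2 => hno g hg m l hm hl h2 h1) (fun l h h' => hdisj l h' h)
      (fun h => hdisj p h hpB)
  · exact far p hZ hs.1 hxp hxr hr.1 hyp hys hno hdisj hpB

end Cfsg.Agent.S4321
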