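import Cfsg.Statements.S4323
import Cfsg.Agent.Lib.Coprime.Ward.Main

set_option autoImplicit false
set_option linter.style.haveILetI false
open Cfsg

namespace Cfsg.Agent.S4323

/-- Let `q` be a prime and `A` a non-cyclic group of order `q²` acting by automorphisms on a finite group `G` of order prime to `q`, such that the fixed-point subgroup `C_G(a)` is abelian for every non-identity `a ∈ A`. Then `G` is solvable. -/
theorem result {A G : Type*} [Group A] [Finite A]
    [Group G] [Finite G] [MulDistribMulAction A G] (q : ℕ) (hq : q.Prime) (hA : Nat.card A = q ^ 2) (hnc : ¬ IsCyclic A)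
    (hcop : ¬ q ∣ Nat.card G) (h : ∀ a : A, a ≠ 1 → IsMulCommutative ↥(FixedPoints.subgroup (Subgroup.zpowers a) G)) :
    Group.IsSolvable G := by
  classical
  let φ := MulDistribMulAction.toMulAut A G
  let X := G ⋊[φ] A
  haveI : Finite X := Finite.of_equiv _ SemidirectProduct.equivProd.symm
  let ι : G →* X := SemidirectProduct.inl
  let κ : A →* X := SemidirectProduct.inr
  have hι : Function.Injective ι := SemidirectProduct.inl_injective
  have hκ : Function.Injective κ := SemidirectProduct.inr_injective
  have hconj : ∀ (a : A) (g : G), κ a * ι g * (κ a)⁻¹ = ι (a • g) := fun a g => by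
    show SemidirectProduct.inr a * SemidirectProduct.inl g * (SemidirectProduct.inr a)⁻¹ =
      SemidirectProduct.inl (φ a g)
    rw [← map_inv]
    exact (SemidirectProduct.inl_aut a g).symm
  have hS : Cfsg.Lib.Coprime.Ward.Setup ι.range κ.range q := by
    refine ⟨hq, ?_, ?_, ?_, ?_, ?_⟩
    · rw [← Nat.card_congr (MonoidHom.ofInjective hκ).toEquiv, hA]
    · intro hc
      exact hnc (isCyclic_of_injective (MonoidHom.ofInjective hκ).toMonoidHom
        (MonoidHom.ofInjective hκ).injective)
    · refine Subgroup.le_normalizer_iff.mpr ?_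
      rintro _ ⟨a, rfl⟩ _ ⟨g, rfl⟩
      exact ⟨a • g, (hconj a g).symm⟩
    · rwa [← Nat.card_congr (MonoidHom.ofInjective hι).toEquiv]
    · rintro _ ⟨a, rfl⟩ ha
      have ha1 : a ≠ 1 := fun e => ha (by rw [e, map_one])
      have hfix : ∀ g : G, κ a * ι g = ι g * κ a → g ∈ FixedPoints.subgroup (Subgroup.zpowers a) G := by
        intro g hg
        have h1 : a ∈ MulAction.stabilizer A g := by
          refine hι ?_
          rw [← hconj, hg, mul_inv_cancel_right]
        exact fun b => (Subgroup.zpowers_le.mpr h1) b.2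
      refine ⟨⟨fun x y => Subtype.ext ?_⟩⟩
      obtain ⟨x, ⟨g, rfl⟩, hx⟩ := x
      obtain ⟨y, ⟨k, rfl⟩, hy⟩ := y
      haveI := h a ha1
      have hgk := congrArg Subtype.val (mul_comm'
        (⟨g, hfix g (Subgroup.mem_centralizer_iff.mp hx _ rfl)⟩ :
          FixedPoints.subgroup (Subgroup.zpowers a) G)
        ⟨k, hfix k (Subgroup.mem_centralizer_iff.mp hy _ rfl)⟩)
      show ι g * ι k = ι k * ι g
      rw [← map_mul, ← map_mul]
      exact congrArg ι hgk
  haveI := Cfsg.Lib.Coprime.Ward.isSolvable _ X ι.range κ.range rfl hS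
  exact Group.isSolvable_of_isSolvable_injective (f := ι.rangeRestrict)
    (fun x y hxy => hι (congrArg Subtype.val hxy))

end Cfsg.Agent.S4323
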