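import Cfsg.Statements.S4337
import Cfsg.Agent.Lib.Char.Burnside

set_option autoImplicit false
set_option linter.style.haveILetI false
open Cfsg

namespace Cfsg.Agent.S4337

open Equiv in
theorem exists_invariant {α : Type*} [DecidableEq α] (l : List (Perm α)) (hl : ∀ t ∈ l, t.IsSwap)
    (T : Finset α) :
    ∃ U : Finset α, T ⊆ U ∧ U.card ≤ l.length + T.card ∧ (∀ t ∈ l, ∀ x ∈ U, t x ∈ U) ∧
      ∀ W : Finset α, T ⊆ W → (∀ t ∈ l, ∀ x ∈ W, t x ∈ W) → U ⊆ W := by
  induction l generalizing T with
  | nil => exact ⟨T, Finset.Subset.refl _, by simp, by simp, fun W hW _ => hW⟩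
  | cons t l ih =>
    have hl' : ∀ s ∈ l, s.IsSwap := fun s hs => hl s (List.mem_cons_of_mem _ hs)
    obtain ⟨a, b, hab, rfl⟩ := hl t List.mem_cons_self
    obtain ⟨U, hTU, hUc, hU, hmin⟩ := ih hl' T
    by_cases h : a ∈ U ∨ b ∈ U
    · set c := if a ∈ U then b else a with hc
      obtain ⟨U', hTU', hUc', hU', hmin'⟩ := ih hl' (T ∪ {c})
      have hUU' : U ⊆ U' := hmin U' (Finset.subset_union_left.trans hTU') hU'
      have hboth : a ∈ U' ∧ b ∈ U' := by
        have hcU' : c ∈ U' := hTU' (Finset.mem_union_right _ (Finset.mem_singleton_self _))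
        rw [hc] at hcU'
        rcases h with ha | hb
        · rw [if_pos ha] at hcU'; exact ⟨hUU' ha, hcU'⟩
        · by_cases ha : a ∈ U
          · exact ⟨hUU' ha, hUU' hb⟩
          · rw [if_neg ha] at hcU'; exact ⟨hcU', hUU' hb⟩
      refine ⟨U', Finset.subset_union_left.trans hTU', ?_, ?_, ?_⟩
      · have := Finset.card_union_le T {c}
        rw [Finset.card_singleton] at this
        simp only [List.length_cons]
        omega
      · intro t ht x hx
        rcases List.mem_cons.mp ht with rfl | ht
        · rw [Equiv.swap_apply_def]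
          split_ifs
          · exact hboth.2
          · exact hboth.1
          · exact hx
        · exact hU' t ht x hx
      · intro W hW hWinv
        have hW' : ∀ t ∈ l, ∀ x ∈ W, t x ∈ W := fun t ht => hWinv t (List.mem_cons_of_mem _ ht)
        refine hmin' W (Finset.union_subset hW (Finset.singleton_subset_iff.mpr ?_)) hW'
        have hUW := hmin W hW hW'
        have hswap := hWinv _ List.mem_cons_self
        rw [hc]
        split_ifs with ha
        · simpa using hswap a (hUW ha)
        · simpa using hswap b (hUW (h.resolve_left ha))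
    · refine ⟨U, hTU, by simp only [List.length_cons]; omega, fun t ht x hx => ?_,
        fun W hW hWinv => hmin W hW fun t ht => hWinv t (List.mem_cons_of_mem _ ht)⟩
      rcases List.mem_cons.mp ht with rfl | ht
      · rw [Equiv.swap_apply_of_ne_of_ne (fun e => h (Or.inl (by rwa [e] at hx))) (fun e => h (Or.inr (by rwa [e] at hx)))]
        exact hx
      · exact hU t ht x hx

/-- A group generated by `l` transpositions embeds in a product of symmetric groups on sets of at most `l.length + 1` points. -/
theorem exists_embedding {α : Type*} [DecidableEq α] (l : List (Equiv.Perm α)) (hl : ∀ t ∈ l, t.IsSwap) :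
    ∃ U : α → Finset α, (∀ x, (U x).card ≤ l.length + 1) ∧
      ∃ f : Subgroup.closure {t | t ∈ l} →* (∀ x : α, Equiv.Perm {y // y ∈ U x}), Function.Injective f := by
  choose U hx hc hU hmin using fun x : α => exists_invariant l hl {x}
  have hinv : ∀ g ∈ Subgroup.closure {t | t ∈ l}, ∀ x y : α, y ∈ U x ↔ g y ∈ U x := by
    intro g hg
    induction hg using Subgroup.closure_induction with
    | mem t ht =>
      intro x y
      refine ⟨hU x t ht y, fun h => ?_⟩
      obtain ⟨a, b, hab, rfl⟩ := hl t ht
      simpa using hU x _ ht _ h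
    | one => simp
    | mul g k _ _ h1 h2 => intro x y; rw [Equiv.Perm.mul_apply, ← h1 x, ← h2 x]
    | inv g _ h1 => intro x y; rw [h1 x (g⁻¹ y)]; simp
  refine ⟨U, fun x => (hc x).trans (by simp), MonoidHom.mk' (fun g x => (g : Equiv.Perm α).subtypePerm
    (fun y => (hinv g g.2 x y).symm)) ?_, ?_⟩
  · intro g k; funext x; ext y; rfl
  · intro g k h
    apply Subtype.ext
    apply Equiv.ext
    intro x
    have h1 := congrArg (fun F => ((F x) ⟨x, hx x (Finset.mem_singleton_self x)⟩ : α)) h
    simpa using h1

instance solvable_pi {ι : Type*} [Fintype ι] {G : ι → Type*} [∀ i, Group (G i)] [h : ∀ i, Group.IsSolvable (G i)] :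
    Group.IsSolvable (∀ i, G i) := by
  choose n hn using fun i => (Group.isSolvable_def (G i)).mp (h i)
  refine (Group.isSolvable_def _).mpr ⟨Finset.univ.sup n, ?_⟩
  rw [eq_bot_iff]
  intro x hx
  rw [Subgroup.mem_bot]
  funext i
  have h1 := map_derivedSeries_le_derivedSeries (Pi.evalMonoidHom G i) (Finset.univ.sup n) ⟨x, hx, rfl⟩
  have h2 := derivedSeries_antitone _ (Finset.le_sup (f := n) (Finset.mem_univ i)) h1
  rw [hn i, Subgroup.mem_bot] at h2
  exact h2

open scoped commutatorElement in
theorem solvable_four : Group.IsSolvable (Equiv.Perm (Fin 4)) := by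
  let V : Subgroup (Equiv.Perm (Fin 4)) :=
    { carrier := {x | x * x = 1 ∧ Equiv.Perm.sign x = 1}
      one_mem' := ⟨one_mul _, map_one _⟩
      mul_mem' := by
        intro a b
        revert a b
        show ∀ a b : Equiv.Perm (Fin 4), (a * a = 1 ∧ Equiv.Perm.sign a = 1) →
          (b * b = 1 ∧ Equiv.Perm.sign b = 1) → (a * b * (a * b) = 1 ∧ Equiv.Perm.sign (a * b) = 1)
        decide +kernel
      inv_mem' := by
        intro a ha
        exact ⟨by rw [← mul_inv_rev, ha.1, inv_one], by rw [map_inv, ha.2, inv_one]⟩ }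
  have h1 : derivedSeries (Equiv.Perm (Fin 4)) 1 ≤ (Equiv.Perm.sign (α := Fin 4)).ker := by
    rw [derivedSeries_succ, Subgroup.commutator_le]
    intro g _ k _
    rw [MonoidHom.mem_ker, map_commutatorElement, commutatorElement_eq_one_iff_commute]
    exact Commute.all _ _
  have h2 : derivedSeries (Equiv.Perm (Fin 4)) 2 ≤ V := by
    rw [derivedSeries_succ, Subgroup.commutator_le]
    have key : ∀ g k : Equiv.Perm (Fin 4), Equiv.Perm.sign g = 1 → Equiv.Perm.sign k = 1 →
        (g * k * g⁻¹ * k⁻¹) * (g * k * g⁻¹ * k⁻¹) = 1 ∧ Equiv.Perm.sign (g * k * g⁻¹ * k⁻¹) = 1 := by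
      decide +kernel
    intro g hg k hk
    exact key g k (h1 hg) (h1 hk)
  refine (Group.isSolvable_def _).mpr ⟨3, ?_⟩
  rw [eq_bot_iff, derivedSeries_succ, Subgroup.commutator_le]
  intro g hg k hk
  have key : ∀ g k : Equiv.Perm (Fin 4), g * g = 1 ∧ Equiv.Perm.sign g = 1 →
      k * k = 1 ∧ Equiv.Perm.sign k = 1 → g * k * g⁻¹ * k⁻¹ = 1 := by
    decide +kernel
  exact Subgroup.mem_bot.mpr (key g k (h2 hg) (h2 hk))

theorem solvable_small {β : Type*} [Fintype β] [DecidableEq β] (h : Fintype.card β ≤ 4) :
    Group.IsSolvable (Equiv.Perm β) := by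
  haveI := solvable_four
  obtain ⟨e⟩ := Function.Embedding.nonempty_of_card_le (α := β) (β := Fin 4) (by simpa using h)
  haveI : DecidablePred (· ∈ Set.range e) := fun _ => Classical.dec _
  exact solvable_of_solvable_injective
    (Equiv.Perm.extendDomainHom_injective (Equiv.ofInjective e e.injective : β ≃ {x // x ∈ Set.range e}))

/-- In a finite symmetric group, any three transpositions generate a solvable subgroup. -/
theorem result (n : ℕ) (a b c : Equiv.Perm (Fin n))
    (ha : a.IsSwap) (hb : b.IsSwap) (hc : c.IsSwap) :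
    Group.IsSolvable (Subgroup.closure ({a, b, c} : Set (Equiv.Perm (Fin n)))) := by
  have hl : ∀ t ∈ [a, b, c], t.IsSwap := by simp [ha, hb, hc]
  obtain ⟨U, hU, f, hf⟩ := exists_embedding [a, b, c] hl
  have hset : ({a, b, c} : Set (Equiv.Perm (Fin n))) = {t | t ∈ [a, b, c]} := by ext; simp
  rw [hset]
  haveI := fun x : Fin n => solvable_small (β := {y // y ∈ U x}) (by simpa using hU x)
  exact solvable_of_solvable_injective hf

end Cfsg.Agent.S4337
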