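import Cfsg.Statements.S4325
import Cfsg.Agent.S4337
import Cfsg.Agent.Lib.Core.Basic

set_option autoImplicit false
set_option linter.style.haveILetI false
open Cfsg

namespace Cfsg.Agent.S4325

/-- Let r be a prime and m a natural number with m + 1 < r, and let π be a set of primes containing every prime below r but not r itself. Then in the symmetric group of degree r any m transpositions generate a π-subgroup, while O_π of the symmetric group is trivial. (So no bound on the number of conjugates that works for all π exists in the π-radical analogue of the Baer–Suzuki Theorem.) -/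
theorem result (r m : ℕ) (hr : r.Prime)
    (hm : m + 1 < r) (π : Set ℕ) (hπ : ∀ q : ℕ, q.Prime → q < r → q ∈ π) (hrπ : r ∉ π)
    (t : Fin m → Equiv.Perm (Fin r)) (ht : ∀ i, (t i).IsSwap) :
    Cfsg.IsPiSubgroup π (Subgroup.closure (Set.range t)) ∧ Cfsg.piCore π (Equiv.Perm (Fin r)) = ⊥ := by
  classical
  have hl : ∀ u ∈ List.ofFn t, u.IsSwap := by
    intro u hu
    obtain ⟨i, rfl⟩ := List.mem_ofFn.mp hu
    exact ht i
  obtain ⟨U, hU, f, hf⟩ := Cfsg.Agent.S4337.exists_embedding _ hl
  have hset : Set.range t = {u | u ∈ List.ofFn t} := by ext; simp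
  refine ⟨?_, ?_⟩
  · intro q hq hd
    rw [hset] at hd
    have h1 := hd.trans (Subgroup.card_dvd_of_injective f hf)
    rw [Nat.card_pi] at h1
    obtain ⟨x, -, hx⟩ := (Nat.Prime.prime hq).exists_mem_finset_dvd h1
    rw [Nat.card_eq_fintype_card, Fintype.card_perm, hq.dvd_factorial] at hx
    refine hπ q hq (lt_of_le_of_lt hx (lt_of_le_of_lt ?_ hm))
    simpa using hU x
  · rw [Cfsg.piCore, eq_bot_iff, sSup_le_iff]
    rintro N ⟨hN, hNπ⟩
    haveI := hN
    intro g hg
    rw [Subgroup.mem_bot]
    ext x
    haveI := Fact.mk hr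
    have hB := MulAction.IsBlock.orbit_of_normal (G := Equiv.Perm (Fin r)) (N := N) x
    have hd := hB.ncard_dvd_card ⟨x, MulAction.mem_orbit_self _⟩
    rw [Nat.card_eq_fintype_card, Fintype.card_fin] at hd
    rcases (Nat.dvd_prime hr).mp hd with h | h
    · obtain ⟨y, hy⟩ := Set.ncard_eq_one.mp h
      have h1 : x = y := by
        have := MulAction.mem_orbit_self (M := N) x
        rw [hy] at this
        exact this
      have h2 : (⟨g, hg⟩ : N) • x ∈ MulAction.orbit N x := MulAction.mem_orbit _ _
      rw [hy, ← h1] at h2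
      exact congrArg Fin.val h2
    · exfalso
      apply hrπ
      refine hNπ r hr ?_
      refine (dvd_of_eq h.symm).trans ?_
      rw [← Nat.card_coe_set_eq, Nat.card_congr (MulAction.orbitEquivQuotientStabilizer N x)]
      exact Subgroup.index_dvd_card _

end Cfsg.Agent.S4325
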