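import Cfsg.Statements.S4326
import Cfsg.Agent.Lib.Fusion.Abelian
import Mathlib.GroupTheory.PGroup

set_option autoImplicit false
open Pointwise
open Cfsg

namespace Cfsg.Agent.S4326

open Subgroup
open scoped Pointwise

/-- Let G be a finite group, p a prime, x an automorphism of G of p-power order and M the subgroup of fixed points of x. Suppose that p divides the index of M and that either M is self-normalizing or M has trivial center. Then some conjugate of M is mapped onto itself by x but is not fixed elementwise by x. -/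
theorem result {G : Type*} [Group G] [Finite G]
    (p : ℕ) [Fact p.Prime] (x : MulAut G) (hx : ∃ k : ℕ, orderOf x = p ^ k) (M : Subgroup G)
    (hM : ∀ g : G, g ∈ M ↔ x g = g) (hp : p ∣ M.index)
    (hself : Subgroup.normalizer (M : Set G) = M ∨ Subgroup.center M = ⊥) :
    ∃ g : G, (∀ y ∈ MulAut.conj g • M, x y ∈ MulAut.conj g • M) ∧ ∃ y ∈ MulAut.conj g • M, x y ≠ y := by
  classical
  obtain ⟨k, hk⟩ := hx
  have hP : IsPGroup p (zpowers x) := IsPGroup.of_card (n := k) (by rw [Nat.card_zpowers, hk])
  have hinv : ∀ i ∈ zpowers x, ∀ m ∈ M, i m = m := by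
    intro i hi m hm
    obtain ⟨j, rfl⟩ := mem_zpowers_iff.1 hi
    exact MulAction.mem_stabilizer_iff.1
      (zpow_mem (show x ∈ MulAction.stabilizer (MulAut G) m from (hM m).1 hm) j)
  letI act : MulAction (zpowers x) (G ⧸ M) :=
    { smul := fun i => Quotient.map' (fun g => (i : MulAut G) g) fun a b h => by
        rw [QuotientGroup.leftRel_apply] at h ⊢
        rw [← map_inv, ← map_mul, hinv _ i.2 _ h]; exact h
      one_smul := fun q => by
        induction q using QuotientGroup.induction_on with | _ g => ?_
        rfl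
      mul_smul := fun i j q => by
        induction q using QuotientGroup.induction_on with | _ g => ?_
        rfl }
  have hfix : ((1 : G) : G ⧸ M) ∈ MulAction.fixedPoints (zpowers x) (G ⧸ M) := fun i => by
    show (((i : MulAut G) 1 : G) : G ⧸ M) = _
    rw [map_one]
  obtain ⟨q, hq, hne⟩ := hP.exists_fixed_point_of_prime_dvd_card_of_fixed_point (G ⧸ M) hp hfix
  induction q using QuotientGroup.induction_on with | _ g => ?_
  have hgM : g ∉ M := fun h => hne (QuotientGroup.eq.2 (by simpa using h))
  have hxg : (x g)⁻¹ * g ∈ M := QuotientGroup.eq.1 (hq ⟨x, mem_zpowers x⟩)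
  set m := g⁻¹ * x g with hm
  have hmM : m ∈ M := by
    have := M.inv_mem hxg
    simpa [hm] using this
  have hxg' : x g = g * m := by rw [hm, mul_inv_cancel_left]
  refine ⟨g, ?_, ?_⟩
  · intro y hy
    rw [mem_pointwise_smul_iff_inv_smul_mem, MulAut.smul_def, MulAut.conj_inv_apply] at hy ⊢
    have h2 : x y = g * (m * (g⁻¹ * y * g) * m⁻¹) * g⁻¹ := by
      have e : y = g * (g⁻¹ * y * g) * g⁻¹ := by group
      conv_lhs => rw [e]
      rw [map_mul, map_mul, (hM _).1 hy, map_inv, hxg']
      group
    rw [h2, show g⁻¹ * (g * (m * (g⁻¹ * y * g) * m⁻¹) * g⁻¹) * g = m * (g⁻¹ * y * g) * m⁻¹ by group]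
    exact M.mul_mem (M.mul_mem hmM hy) (M.inv_mem hmM)
  · by_contra hall
    push Not at hall
    have hsub : ∀ z ∈ M, g * z * g⁻¹ ∈ M := fun z hz =>
      (hM _).2 (hall _ (by
        rw [mem_pointwise_smul_iff_inv_smul_mem, MulAut.smul_def, MulAut.conj_inv_apply]
        simpa [mul_assoc] using hz))
    rcases hself with h | h
    · exact hgM (h ▸ Cfsg.Lib.Fusion.le_normalizer_of_conj_mem hsub)
    · refine hgM ((hM g).2 ?_)
      have hmc : (⟨m, hmM⟩ : M) ∈ center M := by
        rw [mem_center_iff]
        rintro ⟨z, hz⟩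
        refine Subtype.ext ?_
        show z * m = m * z
        have h1 := (hM _).1 (hsub z hz)
        rw [map_mul, map_mul, map_inv, hxg', (hM z).1 hz] at h1
        have h3 : m * z * m⁻¹ = z := by
          calc m * z * m⁻¹ = g⁻¹ * (g * m * z * (g * m)⁻¹) * g := by group
            _ = g⁻¹ * (g * z * g⁻¹) * g := by rw [h1]
            _ = z := by group
        calc z * m = m * z * m⁻¹ * m := by rw [h3]
          _ = m * z := by group
      rw [h, mem_bot] at hmc
      have hm1 : m = 1 := congrArg Subtype.val hmc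
      rw [hxg', hm1, mul_one]

end Cfsg.Agent.S4326
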