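import Cfsg.Statements.S4331
import Mathlib.LinearAlgebra.Matrix.GeneralLinearGroup.Card
import Cfsg.Agent.Lib.Solv.Nilpotent
import Cfsg.Agent.Lib.Core.Cores

set_option autoImplicit false
open Cfsg

namespace Cfsg.Agent.S4331

open Subgroup Matrix

/-- The natural module. -/
abbrev V3 := Fin 2 → ZMod 3

/-- The diagonal reflection. -/
def reflect : GL (Fin 2) (ZMod 3) :=
  { val := !![1, 0; 0, -1], inv := !![1, 0; 0, -1], val_inv := by decide, inv_val := by decide }

/-- The action of invertible matrices on vectors. -/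
def actHom : GL (Fin 2) (ZMod 3) →* MulAut (Multiplicative V3) where
  toFun g :=
    { toFun := fun v => Multiplicative.ofAdd ((g : Matrix (Fin 2) (Fin 2) (ZMod 3)) *ᵥ v.toAdd)
      invFun := fun v => Multiplicative.ofAdd ((↑g⁻¹ : Matrix (Fin 2) (Fin 2) (ZMod 3)) *ᵥ v.toAdd)
      left_inv := fun v => by
        simp only [toAdd_ofAdd, Matrix.mulVec_mulVec, ← Units.val_mul, inv_mul_cancel, Units.val_one,
          Matrix.one_mulVec, ofAdd_toAdd]
      right_inv := fun v => by
        simp only [toAdd_ofAdd, Matrix.mulVec_mulVec, ← Units.val_mul, mul_inv_cancel, Units.val_one,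
          Matrix.one_mulVec, ofAdd_toAdd]
      map_mul' := fun v w => by simp only [toAdd_mul, Matrix.mulVec_add, ofAdd_add] }
  map_one' := MulEquiv.ext fun v => by
    show Multiplicative.ofAdd _ = v
    rw [Units.val_one, Matrix.one_mulVec]
    rfl
  map_mul' g h := MulEquiv.ext fun v => by
    show Multiplicative.ofAdd _ = Multiplicative.ofAdd _
    rw [Units.val_mul, ← Matrix.mulVec_mulVec]
    rfl

theorem actHom_apply (g : GL (Fin 2) (ZMod 3)) (v : Multiplicative V3) :
    (actHom g v).toAdd = (g : Matrix (Fin 2) (Fin 2) (ZMod 3)) *ᵥ v.toAdd := rfl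

theorem actHom_symm_apply (g : GL (Fin 2) (ZMod 3)) (v : Multiplicative V3) :
    ((actHom g).symm v).toAdd = (↑g⁻¹ : Matrix (Fin 2) (Fin 2) (ZMod 3)) *ᵥ v.toAdd := rfl

theorem card_nonzero : (Finset.univ.erase (0 : V3)).card = 8 := by decide

theorem e_ne_zero : ¬ (![1, 0] : V3) 0 = (0 : V3) 0 := by decide

theorem ofAdd_cube : (Multiplicative.ofAdd ![0, 2] : Multiplicative V3) ^ 3 = 1 := by decide

theorem ofAdd_ne_one : (Multiplicative.ofAdd ![0, 2] : Multiplicative V3) ≠ 1 := by decide

theorem reflect_fix (a : ZMod 3) :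
    (reflect : Matrix (Fin 2) (Fin 2) (ZMod 3)) *ᵥ ![a, 0] = ![a, 0] := by
  revert a; decide

theorem reflect_fix_one : (reflect : Matrix (Fin 2) (Fin 2) (ZMod 3)) *ᵥ ![1, 0] = ![1, 0] := reflect_fix 1

theorem reflect_shift : ∀ v : V3,
    ![0, v 1] + v + -((reflect : Matrix (Fin 2) (Fin 2) (ZMod 3)) *ᵥ ![0, v 1]) = ![v 0, 0] := by
  decide

theorem reflect_comm : (![0, 1] : V3) + -((reflect : Matrix (Fin 2) (Fin 2) (ZMod 3)) *ᵥ ![0, 1]) = ![0, 2] := by
  decide

theorem stab_reflect (g : GL (Fin 2) (ZMod 3)) (hg : (g : Matrix (Fin 2) (Fin 2) (ZMod 3)) *ᵥ ![1, 0] = ![1, 0])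
    {k : ℕ} (hk : g ^ 2 ^ k = 1) (hgt : ∀ m : GL (Fin 2) (ZMod 3), m = g * reflect → ∃ j : ℕ, m ^ 2 ^ j = 1) :
    g = 1 ∨ g = reflect := by
  have aux : ∀ (M : GL (Fin 2) (ZMod 3)) (j : ℕ), M ^ 2 ^ j = 1 →
      (M : Matrix (Fin 2) (Fin 2) (ZMod 3)) 0 0 = 1 → (M : Matrix (Fin 2) (Fin 2) (ZMod 3)) 1 0 = 0 →
      (M : Matrix (Fin 2) (Fin 2) (ZMod 3)) 1 1 = 1 → M = 1 := by
    intro M j hj h00 h10 h11
    have hM : (M : Matrix (Fin 2) (Fin 2) (ZMod 3)) = !![1, (M : Matrix (Fin 2) (Fin 2) (ZMod 3)) 0 1; 0, 1] := by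
      ext a b; fin_cases a <;> fin_cases b <;> simp [h00, h10, h11]
    have h3 : M ^ 3 = 1 := by
      refine Units.ext ?_
      rw [Units.val_pow_eq_pow_val, hM, Units.val_one]
      generalize (M : Matrix (Fin 2) (Fin 2) (ZMod 3)) 0 1 = b
      revert b
      decide
    have h1 : M ^ Nat.gcd (2 ^ j) 3 = 1 := pow_gcd_eq_one.2 ⟨hj, h3⟩
    have hc : Nat.gcd (2 ^ j) 3 = 1 := Nat.Coprime.pow_left j (by norm_num)
    rwa [hc, pow_one] at h1
  have h00 : (g : Matrix (Fin 2) (Fin 2) (ZMod 3)) 0 0 = 1 := by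
    simpa [Matrix.mulVec, dotProduct, Fin.sum_univ_two] using congrFun hg 0
  have h10 : (g : Matrix (Fin 2) (Fin 2) (ZMod 3)) 1 0 = 0 := by
    simpa [Matrix.mulVec, dotProduct, Fin.sum_univ_two] using congrFun hg 1
  have hdet : (g : Matrix (Fin 2) (Fin 2) (ZMod 3)) 1 1 ≠ 0 := by
    intro h
    have h2 : (g : Matrix (Fin 2) (Fin 2) (ZMod 3)).det = 0 := by rw [Matrix.det_fin_two, h, h10]; simp
    exact (Matrix.GeneralLinearGroup.det g).ne_zero h2
  rcases (show ∀ d : ZMod 3, d ≠ 0 → d = 1 ∨ d = -1 by decide) _ hdet with h11 | h11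
  · exact Or.inl (aux g k hk h00 h10 h11)
  · right
    obtain ⟨j, hj⟩ := hgt _ rfl
    have h2 := aux (g * reflect) j hj (by simp [reflect, Matrix.mul_apply, Fin.sum_univ_two, h00])
      (by simp [reflect, Matrix.mul_apply, Fin.sum_univ_two, h10])
      (by simp [reflect, Matrix.mul_apply, Fin.sum_univ_two, h11])
    have h3 : reflect * reflect = 1 := Units.ext (by decide)
    calc g = g * reflect * reflect := by rw [mul_assoc, h3, mul_one]
      _ = reflect := by rw [h2, one_mul]


/-- There is a finite solvable group G with a subgroup A of order 2 such that every conjugacy class of G contains an element g for which A is subnormal in the subgroup generated by A and g, and yet A is not contained in O_2(G). (So the corresponding criteria for odd primes fail at the prime 2, even for solvable groups.) -/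
theorem result :
    ∃ (G : Type) (_ : Group G) (_ : Finite G) (A : Subgroup G), Group.IsSolvable G ∧ Nat.card A = 2 ∧
      (∀ c : G, ∃ g : G, IsConj c g ∧ (A.subgroupOf (A ⊔ Subgroup.zpowers g)).IsSubnormal) ∧
      ¬ A ≤ Cfsg.pCore 2 G := by
  classical
  haveI : Fact (Nat.Prime 3) := ⟨Nat.prime_three⟩
  haveI : Fact (Nat.Prime 2) := ⟨Nat.prime_two⟩
  have hrr : reflect * reflect = 1 := Units.ext (by decide)
  have hrne : reflect ≠ 1 := fun h => absurd (congrArg Units.val h) (by decide)
  have hord : orderOf reflect = 2 := orderOf_eq_prime (by rw [sq, hrr]) hrne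
  have hr2 : IsPGroup 2 (zpowers reflect) := IsPGroup.of_card (n := 1) (by rw [Nat.card_zpowers, hord, pow_one])
  obtain ⟨P, hP⟩ := hr2.exists_le_sylow
  let t : (P : Subgroup (GL (Fin 2) (ZMod 3))) := ⟨reflect, hP (mem_zpowers _)⟩
  have hPc : Nat.card (P : Subgroup (GL (Fin 2) (ZMod 3))) = 16 := by
    rw [P.card_eq_multiplicity]
    have h48 : Nat.card (GL (Fin 2) (ZMod 3)) = 2 ^ 4 * 3 ^ 1 := by
      rw [Matrix.card_GL_field, Fin.prod_univ_two]
      simp [ZMod.card]
    rw [h48, Nat.factorization_mul (by norm_num) (by norm_num), Finsupp.add_apply,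
      Nat.Prime.factorization_pow Nat.prime_two, Nat.Prime.factorization_pow Nat.prime_three]
    simp
  have hstab : ∀ g : (P : Subgroup (GL (Fin 2) (ZMod 3))),
      ((g : GL (Fin 2) (ZMod 3)) : Matrix (Fin 2) (Fin 2) (ZMod 3)) *ᵥ ![1, 0] = ![1, 0] → g = 1 ∨ g = t := by
    intro g hg
    obtain ⟨k, hk⟩ := P.2 g
    rcases stab_reflect g hg (congrArg Subtype.val hk) (fun m hm => by
      obtain ⟨j, hj⟩ := P.2 (g * t)
      exact ⟨j, hm ▸ congrArg Subtype.val hj⟩) with h | h
    · exact Or.inl (Subtype.ext h)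
    · exact Or.inr (Subtype.ext h)
  have htrans : ∀ u : V3, u ≠ 0 →
      ∃ g : (P : Subgroup (GL (Fin 2) (ZMod 3))), ((g : GL (Fin 2) (ZMod 3)) : Matrix (Fin 2) (Fin 2) (ZMod 3)) *ᵥ ![1, 0] = u := by
    haveI := Fintype.ofFinite (P : Subgroup (GL (Fin 2) (ZMod 3)))
    let f : ↥(P : Subgroup (GL (Fin 2) (ZMod 3))) → V3 :=
      fun g => ((g : GL (Fin 2) (ZMod 3)) : Matrix (Fin 2) (Fin 2) (ZMod 3)) *ᵥ ![1, 0]
    have hne : Finset.univ.image f ⊆ Finset.univ.erase 0 := by
      intro u hu
      obtain ⟨g, -, rfl⟩ := Finset.mem_image.1 hu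
      refine Finset.mem_erase.2 ⟨fun h => ?_, Finset.mem_univ _⟩
      have h2 := congrArg (fun w => (((g : GL (Fin 2) (ZMod 3))⁻¹ : GL (Fin 2) (ZMod 3)) : Matrix (Fin 2) (Fin 2) (ZMod 3)) *ᵥ w) h
      simp only [f, Matrix.mulVec_mulVec, ← Units.val_mul, inv_mul_cancel, Units.val_one, Matrix.one_mulVec,
        Matrix.mulVec_zero] at h2
      exact e_ne_zero (congrFun h2 0)
    have hle := Finset.card_le_mul_card_image (f := f) Finset.univ 2 (by
      intro u hu
      obtain ⟨g, -, rfl⟩ := Finset.mem_image.1 hu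
      refine le_trans (Finset.card_le_card (t := {g, g * t}) ?_) Finset.card_le_two
      intro x hx
      have hx' : f x = f g := (Finset.mem_filter.1 hx).2
      rcases hstab (g⁻¹ * x) (by
        have h2 := congrArg (fun w => (((g : GL (Fin 2) (ZMod 3))⁻¹ : GL (Fin 2) (ZMod 3)) : Matrix (Fin 2) (Fin 2) (ZMod 3)) *ᵥ w) hx'
        simp only [f, Matrix.mulVec_mulVec, ← Units.val_mul, inv_mul_cancel, Units.val_one, Matrix.one_mulVec] at h2
        exact h2) with h | h
      · simp [(inv_mul_eq_one.1 h).symm]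
      · simp [← h])

    rw [Finset.card_univ, ← Nat.card_eq_fintype_card, hPc] at hle
    have h8 := card_nonzero
    intro u hu
    have := Finset.eq_of_subset_of_card_le hne (by omega) ▸ Finset.mem_erase.2 ⟨hu, Finset.mem_univ u⟩
    obtain ⟨g, -, hg⟩ := Finset.mem_image.1 this
    exact ⟨g, hg⟩
  let φ : (P : Subgroup (GL (Fin 2) (ZMod 3))) →* MulAut (Multiplicative V3) :=
    actHom.comp (P : Subgroup (GL (Fin 2) (ZMod 3))).subtype
  haveI : Finite (Multiplicative V3 ⋊[φ] (P : Subgroup (GL (Fin 2) (ZMod 3)))) := Finite.of_equiv _ SemidirectProduct.equivProd.symm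
  let T : (Multiplicative V3 ⋊[φ] (P : Subgroup (GL (Fin 2) (ZMod 3)))) := SemidirectProduct.inr t
  have hT : orderOf T = 2 := by
    rw [orderOf_injective _ SemidirectProduct.inr_injective, ← orderOf_coe]
    exact hord
  refine ⟨(Multiplicative V3 ⋊[φ] (P : Subgroup (GL (Fin 2) (ZMod 3)))), inferInstance, inferInstance, zpowers T, ?_, by rw [Nat.card_zpowers, hT], ?_, ?_⟩
  · haveI : Group.IsSolvable (P : Subgroup (GL (Fin 2) (ZMod 3))) := by
      haveI := P.2.isNilpotent
      infer_instance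
    haveI : Group.IsSolvable (Multiplicative V3) := Group.isSolvable_of_comm fun a b => mul_comm a b
    exact solvable_of_ker_le_range (SemidirectProduct.inl : _ →* (Multiplicative V3 ⋊[φ] (P : Subgroup (GL (Fin 2) (ZMod 3))))) SemidirectProduct.rightHom
      SemidirectProduct.range_inl_eq_ker_rightHom.ge
  · have hcomm : ∀ g : (Multiplicative V3 ⋊[φ] (P : Subgroup (GL (Fin 2) (ZMod 3)))), Commute g T → ((zpowers T).subgroupOf (zpowers T ⊔ zpowers g)).IsSubnormal := by
      intro g hg
      refine Normal.isSubnormal ((normal_subgroupOf_iff_le_normalizer le_sup_left).2 (sup_le le_normalizer ?_))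
      rw [zpowers_le]
      refine Subgroup.centralizer_le_normalizer _ (mem_centralizer_iff.2 fun w hw => ?_)
      obtain ⟨j, rfl⟩ := mem_zpowers_iff.1 hw
      exact ((hg.zpow_right j).eq).symm
    have hrange : ∀ h, ((zpowers T).subgroupOf (zpowers T ⊔ zpowers (SemidirectProduct.inr h : (Multiplicative V3 ⋊[φ] (P : Subgroup (GL (Fin 2) (ZMod 3))))))).IsSubnormal := by
      intro h
      have hJ : zpowers T ⊔ zpowers (SemidirectProduct.inr h : (Multiplicative V3 ⋊[φ] (P : Subgroup (GL (Fin 2) (ZMod 3))))) ≤ (SemidirectProduct.inr : _ →* (Multiplicative V3 ⋊[φ] (P : Subgroup (GL (Fin 2) (ZMod 3))))).range := by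
        rw [sup_le_iff, zpowers_le, zpowers_le]
        exact ⟨⟨t, rfl⟩, ⟨h, rfl⟩⟩
      have hp : IsPGroup 2 (SemidirectProduct.inr : _ →* (Multiplicative V3 ⋊[φ] (P : Subgroup (GL (Fin 2) (ZMod 3))))).range :=
        P.2.of_surjective _ (SemidirectProduct.inr : _ →* (Multiplicative V3 ⋊[φ] (P : Subgroup (GL (Fin 2) (ZMod 3))))).rangeRestrict_surjective
      haveI := (hp.to_le hJ).isNilpotent
      exact Cfsg.Lib.Solv.isNilpotent_iff_forall_isSubnormal.1 inferInstance _
    have hfix : ∀ (v : V3) (g : (P : Subgroup (GL (Fin 2) (ZMod 3)))), (g = 1 ∨ g = t) →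
        ∃ g' : (Multiplicative V3 ⋊[φ] (P : Subgroup (GL (Fin 2) (ZMod 3)))), IsConj (⟨Multiplicative.ofAdd v, g⟩ : (Multiplicative V3 ⋊[φ] (P : Subgroup (GL (Fin 2) (ZMod 3))))) g' ∧
          ((zpowers T).subgroupOf (zpowers T ⊔ zpowers g')).IsSubnormal := by
      intro v g hg
      rcases hg with rfl | rfl
      · by_cases hv : v = 0
        · refine ⟨_, IsConj.refl _, ?_⟩
          have : (⟨Multiplicative.ofAdd v, 1⟩ : (Multiplicative V3 ⋊[φ] (P : Subgroup (GL (Fin 2) (ZMod 3))))) = SemidirectProduct.inr 1 := by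
            ext <;> simp [hv]
          rw [this]
          exact hrange 1
        · obtain ⟨p, hp⟩ := htrans v hv
          refine ⟨SemidirectProduct.inl (Multiplicative.ofAdd ![1, 0]), isConj_iff.2
            ⟨SemidirectProduct.inr p⁻¹, ?_⟩, hcomm _ ?_⟩
          · refine SemidirectProduct.ext ?_ ?_
            · refine Multiplicative.toAdd.injective ?_
              simp only [φ, SemidirectProduct.mul_left, SemidirectProduct.mul_right, SemidirectProduct.inv_left,
                SemidirectProduct.left_inl, SemidirectProduct.right_inl, SemidirectProduct.left_inr, SemidirectProduct.right_inr,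
                one_mul, mul_one, inv_one, map_one, MonoidHom.comp_apply, Subgroup.coe_subtype, InvMemClass.coe_inv,
                actHom_apply, toAdd_ofAdd, toAdd_mul, toAdd_one, add_zero, ← hp, Matrix.mulVec_mulVec, ← Units.val_mul,
                inv_mul_cancel, Units.val_one, Matrix.one_mulVec]
            · simp
          · refine SemidirectProduct.ext ?_ ?_
            · refine Multiplicative.toAdd.injective ?_
              simp only [T, φ, t, SemidirectProduct.mul_left, SemidirectProduct.left_inl, SemidirectProduct.right_inl,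
                SemidirectProduct.left_inr, SemidirectProduct.right_inr, toAdd_mul, map_one, toAdd_one, MulAut.one_apply,
                MonoidHom.comp_apply, Subgroup.coe_subtype, actHom_apply, toAdd_ofAdd, add_zero, zero_add, reflect_fix_one]
            · simp [T]
      · refine ⟨⟨Multiplicative.ofAdd ![v 0, 0], t⟩, isConj_iff.2
          ⟨SemidirectProduct.inl (Multiplicative.ofAdd ![0, v 1]), ?_⟩, hcomm _ ?_⟩
        · refine SemidirectProduct.ext ?_ ?_
          · refine Multiplicative.toAdd.injective ?_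
            simp only [φ, t, SemidirectProduct.mul_left, SemidirectProduct.mul_right, SemidirectProduct.inv_left,
              SemidirectProduct.left_inl, SemidirectProduct.right_inl, inv_one, map_one, one_mul, MulAut.one_apply,
              map_inv, toAdd_mul, toAdd_inv, MonoidHom.comp_apply, Subgroup.coe_subtype, actHom_apply, toAdd_ofAdd]
            exact reflect_shift v
          · simp
        · refine SemidirectProduct.ext ?_ ?_
          · refine Multiplicative.toAdd.injective ?_
            simp only [T, φ, t, SemidirectProduct.mul_left, SemidirectProduct.mul_right, SemidirectProduct.left_inl,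
              SemidirectProduct.right_inl, SemidirectProduct.left_inr, SemidirectProduct.right_inr, toAdd_mul, map_one,
              toAdd_one, MulAut.one_apply, MonoidHom.comp_apply, Subgroup.coe_subtype, actHom_apply, toAdd_ofAdd,
              add_zero, zero_add, one_mul, reflect_fix]
          · simp [T]
    intro c
    obtain ⟨v', h⟩ := c
    obtain ⟨v, rfl⟩ := Multiplicative.ofAdd.surjective v'
    by_cases hsur : ∃ w : V3, ((h : GL (Fin 2) (ZMod 3)) : Matrix (Fin 2) (Fin 2) (ZMod 3)) *ᵥ w - w = v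
    · obtain ⟨w, hw⟩ := hsur
      refine ⟨SemidirectProduct.inr h, isConj_iff.2 ⟨SemidirectProduct.inl (Multiplicative.ofAdd w), ?_⟩, hrange h⟩
      refine SemidirectProduct.ext ?_ ?_
      · refine Multiplicative.toAdd.injective ?_
        simp [φ, actHom_apply, Matrix.mulVec_neg, ← hw]
      · simp
    · let f : V3 → V3 := fun w => ((h : GL (Fin 2) (ZMod 3)) : Matrix (Fin 2) (Fin 2) (ZMod 3)) *ᵥ w - w
      have hninj : ¬ Function.Injective f := fun hi => hsur (Finite.surjective_of_injective hi v)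
      obtain ⟨a, b, hab, hne⟩ := Function.not_injective_iff.1 hninj
      have hu : ((h : GL (Fin 2) (ZMod 3)) : Matrix (Fin 2) (Fin 2) (ZMod 3)) *ᵥ (a - b) = a - b := by
        rw [Matrix.mulVec_sub]
        exact sub_eq_sub_iff_sub_eq_sub.1 hab
      obtain ⟨p, hp⟩ := htrans _ (sub_ne_zero.2 hne)
      obtain ⟨g', hg', hsn⟩ := hfix ((((p⁻¹ : (P : Subgroup (GL (Fin 2) (ZMod 3)))) : GL (Fin 2) (ZMod 3)) :
          Matrix (Fin 2) (Fin 2) (ZMod 3)) *ᵥ v) (p⁻¹ * h * p) (hstab _ (by
        simp only [Subgroup.coe_mul, Units.val_mul, ← Matrix.mulVec_mulVec, hp, hu]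
        rw [← hp, Matrix.mulVec_mulVec, ← Units.val_mul]
        simp))
      refine ⟨g', (isConj_iff.2 ⟨SemidirectProduct.inr p⁻¹, ?_⟩ : IsConj _ _).trans hg', hsn⟩
      refine SemidirectProduct.ext ?_ ?_
      · refine Multiplicative.toAdd.injective ?_
        simp only [φ, SemidirectProduct.mul_left, SemidirectProduct.mul_right, SemidirectProduct.inv_left,
          SemidirectProduct.left_inr, SemidirectProduct.right_inr, one_mul, mul_one, inv_one, map_one,
          MonoidHom.comp_apply, Subgroup.coe_subtype, InvMemClass.coe_inv,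
          actHom_apply, toAdd_ofAdd, toAdd_mul, toAdd_one, add_zero, Matrix.mulVec_zero]
      · simp [mul_assoc]
  · intro hle
    have hp := Cfsg.Lib.Core.pCore_isPGroup 2 (Multiplicative V3 ⋊[φ] (P : Subgroup (GL (Fin 2) (ZMod 3))))
    have hTm : T ∈ Cfsg.pCore 2 (Multiplicative V3 ⋊[φ] (P : Subgroup (GL (Fin 2) (ZMod 3)))) := hle (mem_zpowers T)
    set u : (Multiplicative V3 ⋊[φ] (P : Subgroup (GL (Fin 2) (ZMod 3)))) := SemidirectProduct.inl (Multiplicative.ofAdd ![0, 1])
    have hn : (Cfsg.pCore 2 (Multiplicative V3 ⋊[φ] (P : Subgroup (GL (Fin 2) (ZMod 3))))).Normal := inferInstance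
    have h1 : u * T * u⁻¹ * T⁻¹ ∈ Cfsg.pCore 2 (Multiplicative V3 ⋊[φ] (P : Subgroup (GL (Fin 2) (ZMod 3)))) := mul_mem (hn.conj_mem T hTm u) (inv_mem hTm)
    have h2 : u * T * u⁻¹ * T⁻¹ = SemidirectProduct.inl (Multiplicative.ofAdd ![0, 2]) := by
      refine SemidirectProduct.ext ?_ ?_
      · refine Multiplicative.toAdd.injective ?_
        simp only [u, T, φ, t, SemidirectProduct.mul_left, SemidirectProduct.mul_right, SemidirectProduct.inv_left,
          SemidirectProduct.inv_right, SemidirectProduct.left_inl, SemidirectProduct.right_inl, SemidirectProduct.left_inr,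
          SemidirectProduct.right_inr, inv_one, map_one, one_mul, mul_one, MulAut.one_apply, map_inv, toAdd_mul, toAdd_inv,
          MonoidHom.comp_apply, Subgroup.coe_subtype, actHom_apply, toAdd_ofAdd, toAdd_one, neg_zero, add_zero]
        exact reflect_comm
      · simp [u, T]
    rw [h2] at h1
    obtain ⟨k, hk⟩ := hp ⟨_, h1⟩
    have h3 : (Multiplicative.ofAdd ![0, 2] : Multiplicative V3) ^ 2 ^ k = 1 := by
      have := congrArg Subtype.val hk
      rw [SubgroupClass.coe_pow, ← map_pow] at this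
      exact SemidirectProduct.inl_injective (this.trans (map_one _).symm)
    have h4 := ofAdd_cube
    have h5 := pow_gcd_eq_one.2 ⟨h3, h4⟩
    have hc : Nat.gcd (2 ^ k) 3 = 1 := Nat.Coprime.pow_left k (by norm_num)
    rw [hc, pow_one] at h5
    exact ofAdd_ne_one h5

end Cfsg.Agent.S4331
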