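import Cfsg.Statements.S4332
import Cfsg.Agent.Lib.Core.Cores

set_option autoImplicit false
open Pointwise
open Cfsg

namespace Cfsg.Agent.S4332

open Equiv Equiv.Perm Subgroup
open scoped Pointwise

set_option maxRecDepth 100000 in
set_option maxHeartbeats 4000000 in
theorem commute_key : ∀ a b c : Fin 8, a ≠ b → b ≠ c → a ≠ c →
    ((a.val < 3 ∧ b.val < 3 ∧ c.val < 3) ∨ (3 ≤ a.val ∧ 3 ≤ b.val ∧ 3 ≤ c.val)) →
    ∀ y : Fin 8, (swap a b * swap b c : Perm (Fin 8)) ((swap 0 1 * swap 1 2 : Perm (Fin 8)) y)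
      = (swap 0 1 * swap 1 2 : Perm (Fin 8)) ((swap a b * swap b c : Perm (Fin 8)) y) := by
  decide +kernel

/-- Three points forming a set which is invariant or disjoint from its image. -/
theorem exists_triple (c : Perm (Fin 8)) : ∃ x y z : Fin 8, x ≠ y ∧ y ≠ z ∧ x ≠ z ∧
    ((∀ u, (u = x ∨ u = y ∨ u = z) → (c u = x ∨ c u = y ∨ c u = z)) ∨
      (∀ u, (u = x ∨ u = y ∨ u = z) → (c u ≠ x ∧ c u ≠ y ∧ c u ≠ z))) := by
  classical
  set M := Finset.univ.filter fun x => c x ≠ x with hM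
  by_cases h6 : M.card < 6
  · have h3 : 3 ≤ (Finset.univ.filter fun x => c x = x).card := by
      have h := Finset.card_filter_add_card_filter_not (s := (Finset.univ : Finset (Fin 8))) (fun x => c x = x)
      simp only [Finset.card_univ, Fintype.card_fin] at h
      have : M.card = (Finset.univ.filter fun x => ¬ c x = x).card := rfl
      omega
    obtain ⟨t, ht, htc⟩ := Finset.exists_subset_card_eq h3
    obtain ⟨x, y, z, hxy, hxz, hyz, rfl⟩ := Finset.card_eq_three.1 htc
    have hx : c x = x := (Finset.mem_filter.1 (ht (by simp))).2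
    have hy : c y = y := (Finset.mem_filter.1 (ht (by simp))).2
    have hz : c z = z := (Finset.mem_filter.1 (ht (by simp))).2
    exact ⟨x, y, z, hxy, hyz, hxz, Or.inl fun u hu => by rcases hu with rfl | rfl | rfl <;> simp [hx, hy, hz]⟩
  by_cases h3 : ∃ x, c x ≠ x ∧ c (c (c x)) = x
  · obtain ⟨x, h1, h3⟩ := h3
    have h2 : c x ≠ c (c x) := fun h => h1 (c.injective h).symm
    have h4 : x ≠ c (c x) := fun h => h1 (by conv_rhs => rw [← h3, ← h])
    exact ⟨x, c x, c (c x), h1.symm, h2, h4,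
      Or.inl fun u hu => by rcases hu with rfl | rfl | rfl <;> simp [h3]⟩
  push Not at h3
  have hmem : ∀ x, x ∈ M ↔ c x ≠ x := fun x => by simp [hM]
  -- two far apart moved points whose neighbourhoods do not cover everything
  obtain ⟨x, y, hx, hy, hxy, hyx, hne, hcov⟩ : ∃ x y, c x ≠ x ∧ c y ≠ y ∧ c x ≠ y ∧ c y ≠ x ∧ x ≠ y ∧
      ({x, c x, c⁻¹ x, y, c y, c⁻¹ y} : Finset (Fin 8)).card ≤ 5 := by
    by_cases h2 : ∃ x, c x ≠ x ∧ c (c x) = x
    · obtain ⟨x, h1, h2⟩ := h2
      have hinv : c⁻¹ x = c x := by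
        rw [Perm.inv_eq_iff_eq]
        exact h2.symm
      obtain ⟨y, hyM, hy⟩ := Finset.not_subset.1 (fun hsub : M ⊆ {x, c x} =>
        h6 (lt_of_le_of_lt (Finset.card_le_card hsub) (lt_of_le_of_lt Finset.card_le_two (by norm_num))))
      simp only [Finset.mem_insert, Finset.mem_singleton, not_or] at hy
      refine ⟨x, y, h1, (hmem y).1 hyM, fun h => hy.2 h.symm, fun h => hy.2 ?_, fun h => hy.1 h.symm, ?_⟩
      · exact c.injective (h.trans h2.symm)
      · rw [hinv]
        refine le_trans (Finset.card_le_card (t := {x, c x, y, c y, c⁻¹ y}) ?_) Finset.card_le_five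
        intro u hu
        simp only [Finset.mem_insert, Finset.mem_singleton] at hu ⊢
        tauto
    · push Not at h2
      obtain ⟨x, hxM⟩ : M.Nonempty := Finset.card_pos.1 (by omega)
      have h1 := (hmem x).1 hxM
      refine ⟨x, c (c x), h1, fun h => h1 (c.injective (c.injective h)), fun h => h1 (c.injective h).symm,
        h3 x h1, fun h => h2 x h1 h.symm, ?_⟩
      refine le_trans (Finset.card_le_card (t := {x, c x, c⁻¹ x, c (c x), c (c (c x))}) ?_) Finset.card_le_five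
      intro u hu
      simp only [Finset.mem_insert, Finset.mem_singleton, Perm.coe_inv, Equiv.symm_apply_apply] at hu ⊢
      tauto
  obtain ⟨z, hzM, hz⟩ := Finset.not_subset.1 (fun hsub : M ⊆ {x, c x, c⁻¹ x, y, c y, c⁻¹ y} =>
    h6 (lt_of_le_of_lt ((Finset.card_le_card hsub).trans hcov) (by norm_num)))
  simp only [Finset.mem_insert, Finset.mem_singleton, not_or, Perm.inv_def] at hz
  obtain ⟨z1, z2, z3, z4, z5, z6⟩ := hz
  have z3' : c z ≠ x := fun h => z3 (by rw [← h]; simp)
  have z6' : c z ≠ y := fun h => z6 (by rw [← h]; simp)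
  refine ⟨x, y, z, hne, fun h => z4 h.symm, fun h => z1 h.symm, Or.inr fun u hu => ?_⟩
  rcases hu with rfl | rfl | rfl
  · exact ⟨hx, hxy, fun h => z2 h.symm⟩
  · exact ⟨hyx, hy, fun h => z5 h.symm⟩
  · exact ⟨z3', z6', (hmem _).1 hzM⟩

/-- The property for the standard three-cycle. -/
theorem exists_commute (c : Perm (Fin 8)) : ∃ g : Perm (Fin 8), IsConj c g ∧
    Commute (g * (swap 0 1 * swap 1 2) * g⁻¹) (swap 0 1 * swap 1 2 : Perm (Fin 8)) := by
  obtain ⟨x, y, z, hxy, hyz, hxz, h⟩ := exists_triple c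
  obtain ⟨π, hπx, hπy, hπz⟩ : ∃ π : Perm (Fin 8), π x = 0 ∧ π y = 1 ∧ π z = 2 := by
    let p1 : Perm (Fin 8) := swap x 0
    let p2 : Perm (Fin 8) := swap (p1 y) 1 * p1
    let p3 : Perm (Fin 8) := swap (p2 z) 2 * p2
    have h1 : p1 x = 0 := swap_apply_left _ _
    have h2 : p2 x = 0 := by
      show swap (p1 y) 1 (p1 x) = 0
      rw [h1, swap_apply_of_ne_of_ne (fun h => hxy (p1.injective (h1.trans h))) (by decide)]
    have h3 : p2 y = 1 := swap_apply_left _ _
    refine ⟨p3, ?_, ?_, swap_apply_left _ _⟩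
    · show swap (p2 z) 2 (p2 x) = 0
      rw [h2, swap_apply_of_ne_of_ne (fun h => hxz (p2.injective (h2.trans h))) (by decide)]
    · show swap (p2 z) 2 (p2 y) = 1
      rw [h3, swap_apply_of_ne_of_ne (fun h => hyz (p2.injective (h3.trans h))) (by decide)]
  refine ⟨π * c * π⁻¹, isConj_iff.2 ⟨π, rfl⟩, ?_⟩
  set g := π * c * π⁻¹ with hg
  have e : g * (swap 0 1 * swap 1 2) * g⁻¹ = swap (g 0) (g 1) * swap (g 1) (g 2) := by
    rw [swap_apply_apply, swap_apply_apply]
    group
  have hlow : ∀ u : Fin 8, u.val < 3 ↔ (π⁻¹ u = x ∨ π⁻¹ u = y ∨ π⁻¹ u = z) := by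
    intro u
    simp only [Perm.inv_eq_iff_eq, hπx, hπy, hπz]
    revert u
    decide
  have hgv : ∀ u : Fin 8, π⁻¹ (g u) = c (π⁻¹ u) := fun u => by simp [hg]
  have hside : ((g 0).val < 3 ∧ (g 1).val < 3 ∧ (g 2).val < 3) ∨
      (3 ≤ (g 0).val ∧ 3 ≤ (g 1).val ∧ 3 ≤ (g 2).val) := by
    rcases h with h | h
    · left
      refine ⟨?_, ?_, ?_⟩ <;> rw [hlow, hgv] <;> refine h _ ((hlow _).1 ?_) <;> decide
    · right
      refine ⟨?_, ?_, ?_⟩ <;> rw [← not_lt, hlow, hgv, not_or, not_or] <;>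
        refine h _ ((hlow _).1 ?_) <;> decide
  rw [e]
  refine Equiv.ext fun v => ?_
  exact commute_key (g 0) (g 1) (g 2) (g.injective.ne (by decide)) (g.injective.ne (by decide))
    (g.injective.ne (by decide)) hside v


/-- In the symmetric group of degree 8, let A be the subgroup generated by a 3-cycle. Then every conjugacy class contains an element g for which A is subnormal in the subgroup generated by A and its conjugate by g, although O_3 of the symmetric group of degree 8 is trivial. -/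
theorem result
    (σ : Equiv.Perm (Fin 8)) (hσ : σ.IsThreeCycle) :
    (∀ c : Equiv.Perm (Fin 8), ∃ g : Equiv.Perm (Fin 8), IsConj c g ∧
      ((Subgroup.zpowers σ).subgroupOf (Subgroup.zpowers σ ⊔ MulAut.conj g • Subgroup.zpowers σ)).IsSubnormal) ∧
    Cfsg.pCore 3 (Equiv.Perm (Fin 8)) = ⊥ := by
  classical
  constructor
  · intro c
    have h0 : (swap 0 1 * swap 1 2 : Perm (Fin 8)).IsThreeCycle := by
      rw [swap_comm 0 1]
      exact isThreeCycle_swap_mul_swap_same (by decide) (by decide) (by decide)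
    obtain ⟨τ, hτ⟩ := isConj_iff.1 ((isConj_iff_cycleType_eq).2 (h0.cycleType.trans hσ.cycleType.symm))
    obtain ⟨g0, hg0, hcomm⟩ := exists_commute c
    refine ⟨τ * g0 * τ⁻¹, hg0.trans (isConj_iff.2 ⟨τ, rfl⟩), ?_⟩
    set g := τ * g0 * τ⁻¹
    have hc : Commute (g * σ * g⁻¹) σ := by
      have e : g * σ * g⁻¹ = MulAut.conj τ (g0 * (swap 0 1 * swap 1 2) * g0⁻¹) := by
        rw [← hτ]; simp [g, mul_assoc]
      rw [e, ← hτ]
      exact hcomm.map (MulAut.conj τ).toMonoidHom
    refine Normal.isSubnormal ((normal_subgroupOf_iff_le_normalizer le_sup_left).2 (sup_le le_normalizer ?_))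
    intro u hu
    obtain ⟨v, hv, rfl⟩ := (Subgroup.mem_smul_pointwise_iff_exists _ _ _).1 hu
    obtain ⟨i, rfl⟩ := mem_zpowers_iff.1 hv
    refine Subgroup.centralizer_le_normalizer _ (mem_centralizer_iff.2 fun w hw => ?_)
    obtain ⟨j, rfl⟩ := mem_zpowers_iff.1 hw
    show σ ^ j * MulAut.conj g (σ ^ i) = MulAut.conj g (σ ^ i) * σ ^ j
    rw [map_zpow]
    exact ((hc.zpow_zpow i j).eq).symm
  · haveI : Finite (Perm (Fin 8)) := inferInstance
    have hp := Cfsg.Lib.Core.pCore_isPGroup 3 (Perm (Fin 8))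
    rcases Subgroup.bot_or_nontrivial (Cfsg.pCore 3 (Perm (Fin 8))) with h' | h'
    · exact h'
    · exfalso
      have h := Equiv.Perm.alternatingGroup_le_of_normal (α := Fin 8) (by simp) h'
      haveI : Fact (Nat.Prime 3) := ⟨Nat.prime_three⟩
      obtain ⟨k, hk⟩ := IsPGroup.iff_card.1 (hp.to_le h)
      have h5 : 5 ∣ Nat.card (alternatingGroup (Fin 8)) := by
        rw [nat_card_alternatingGroup, Nat.card_fin]
        decide
      rw [hk] at h5
      have := Nat.prime_five.dvd_of_dvd_pow h5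
      omega

end Cfsg.Agent.S4332
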