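import Cfsg.Statements.S4333
import Cfsg.Agent.Lib.Subnormal.Zipper
import Cfsg.Agent.Lib.Core.Basic

set_option autoImplicit false
open Pointwise
open Cfsg

namespace Cfsg.Agent.S4333

open Subgroup
open scoped Pointwise

universe u'

theorem isSubnormal_aux : ∀ n : ℕ, ∀ (G : Type u') [Group G] [Finite G] (A : Subgroup G),
    Nat.card G = n →
    (∀ a ∈ A, ∀ g : G, (A.subgroupOf (A ⊔ MulAut.conj (g⁻¹ * a * g) • A)).IsSubnormal) →
    A.IsSubnormal := by
  intro n
  induction n using Nat.strong_induction_on with
  | _ n ih =>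
    intro G _ _ A hn h
    by_contra hA
    have hprop : ∀ H : Subgroup G, H ≠ ⊤ → A ≤ H → (A.subgroupOf H).IsSubnormal := by
      intro H hH hAH
      have hlt : Nat.card H < n := hn ▸ Cfsg.Lib.Core.lt_card_of_ne_top hH
      refine ih _ hlt H (A.subgroupOf H) rfl fun a ha g => ?_
      set x : H := g⁻¹ * a * g
      have hle : ∀ j : H, j ∈ A.subgroupOf H ⊔ MulAut.conj x • A.subgroupOf H →
          (j : G) ∈ A ⊔ MulAut.conj (x : G) • A := by
        intro j hj
        have : (A.subgroupOf H ⊔ MulAut.conj x • A.subgroupOf H) ≤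
            (A ⊔ MulAut.conj (x : G) • A).subgroupOf H := by
          refine sup_le (comap_mono le_sup_left) ?_
          intro y hy
          obtain ⟨z, hz, rfl⟩ := (Subgroup.mem_smul_pointwise_iff_exists _ _ _).1 hy
          exact (le_sup_right : _ ≤ A ⊔ MulAut.conj (x : G) • A)
            ((Subgroup.mem_smul_pointwise_iff_exists _ _ _).2 ⟨z, hz, rfl⟩)
        exact this hj
      let f : ↥(A.subgroupOf H ⊔ MulAut.conj x • A.subgroupOf H) →* ↥(A ⊔ MulAut.conj (x : G) • A) :=
        { toFun := fun j => ⟨(j : H), hle _ j.2⟩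
          map_one' := rfl
          map_mul' := fun _ _ => rfl }
      exact (h a ha g).comap f
    obtain ⟨M, ⟨hM, hAM⟩, huniq⟩ := Cfsg.Lib.Subnormal.zipper A hA hprop
    have hmem : ∀ a ∈ A, ∀ g : G, g⁻¹ * a * g ∈ M := by
      intro a ha g
      set x := g⁻¹ * a * g
      have hne : A ⊔ MulAut.conj x • A ≠ ⊤ := by
        intro htop
        have hsub := h a ha g
        exact hA (hsub.trans le_sup_left (htop ▸ IsSubnormal.top))
      obtain ⟨M', hM', hle⟩ := (eq_top_or_exists_le_coatom _).resolve_left hne
      obtain rfl : M' = M := huniq M' ⟨hM', le_sup_left.trans hle⟩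
      have hxA : MulAut.conj x • A ≤ M' := le_sup_right.trans hle
      have hM2 : IsCoatom (MulAut.conj x⁻¹ • M') := by
        exact (MulAut.conj x⁻¹).mapSubgroup.isCoatom_iff M' |>.2 hM'
      have hA2 : A ≤ MulAut.conj x⁻¹ • M' := by
        intro y hy
        have : MulAut.conj x y ∈ M' := hxA ((Subgroup.smul_mem_pointwise_smul_iff).2 hy)
        refine (Subgroup.mem_smul_pointwise_iff_exists _ _ _).2 ⟨_, this, ?_⟩
        simp [mul_assoc]
      have heq := huniq _ ⟨hM2, hA2⟩
      have hxN : x⁻¹ ∈ normalizer (M' : Set G) := by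
        rw [mem_normalizer_iff]
        intro y
        conv_rhs => rw [← heq]
        exact (Subgroup.smul_mem_pointwise_smul_iff (a := MulAut.conj x⁻¹) (S := M') (x := y)).symm
      have hNM : normalizer (M' : Set G) = M' := by
        rcases hM.le_iff.1 (le_normalizer (H := M')) with htop | h'
        · exact absurd ((hprop M' hM.1 hAM).trans hAM (normalizer_eq_top_iff.1 htop).isSubnormal) hA
        · exact h'
      rw [hNM] at hxN
      simpa using inv_mem hxN
    set K := normalClosure (A : Set G)
    have hKM : K ≤ M := by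
      refine (closure_le _).2 fun y hy => ?_
      obtain ⟨a, ha, hc⟩ := Group.mem_conjugatesOfSet_iff.1 hy
      obtain ⟨g, rfl⟩ := isConj_iff.1 hc
      simpa using hmem a ha g⁻¹
    have hKne : K ≠ ⊤ := fun h' => hM.1 (top_le_iff.1 (h' ▸ hKM))
    exact hA ((hprop K hKne le_normalClosure).trans le_normalClosure normalClosure_normal.isSubnormal)


/-- Let A be a subgroup of a finite group G. If A is subnormal in the subgroup generated by A and its conjugate by g⁻¹ a g, for every a ∈ A and every g ∈ G, then A is subnormal in G. (A sharpening of Wielandt's subnormality criterion: only conjugates of A by conjugates of elements of A are needed.) -/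
theorem result {G : Type*} [Group G] [Finite G]
    (A : Subgroup G)
    (h : ∀ a ∈ A, ∀ g : G, (A.subgroupOf (A ⊔ MulAut.conj (g⁻¹ * a * g) • A)).IsSubnormal) :
    A.IsSubnormal := by
  exact isSubnormal_aux _ G A rfl h

end Cfsg.Agent.S4333
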