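import Cfsg.Statements.S4334
import Cfsg.Agent.S0581
import Cfsg.Agent.Lib.Core.Basic
import Cfsg.Agent.Lib.PGroup.Elements
import Cfsg.Agent.Lib.Fusion.Alperin
import Cfsg.Agent.Lib.Fusion.Basic

set_option autoImplicit false
open Cfsg

namespace Cfsg.Agent.S4334

open Subgroup

/-- In `H = Hs × Ht` (a Hall π-subgroup), elements of π'∪{p}-coprime order normalizing a p-group
centralize it. -/
theorem centralizes_of_pi {G : Type*} [Group G] [Finite G] {σ τ π : Set ℕ} (hπ : π = σ ∪ τ)
    {Hs Ht : Subgroup G} (hs : Cfsg.IsPiHall σ Hs) (ht : Cfsg.IsPiHall τ Ht) [Group.IsNilpotent Hs]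
    (hcomm : ∀ a ∈ Hs, ∀ b ∈ Ht, a * b = b * a) (hd : Disjoint σ τ)
    {p : ℕ} (hp : p.Prime) (hpσ : p ∈ σ) {Q : Subgroup G} (hQ : IsPGroup p Q)
    {g : G} (hg : g ∈ normalizer (Q : Set G)) (hco : (orderOf g).Coprime p)
    (hgπ : ∀ r : ℕ, r.Prime → r ∣ orderOf g → r ∈ π) : g ∈ centralizer (Q : Set G) := by
  classical
  haveI := Fact.mk hp
  obtain ⟨P⟩ := (inferInstance : Nonempty (Sylow p Hs))
  have hP : Nat.card ((P : Subgroup Hs).map Hs.subtype) = p ^ (Nat.card G).factorization p := by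
    rw [card_map_of_injective Hs.subtype_injective, P.card_eq_multiplicity, ← Hs.card_mul_index,
      Nat.factorization_mul Nat.card_pos.ne' Hs.index_ne_zero_of_finite, Finsupp.add_apply,
      Nat.factorization_eq_zero_of_not_dvd (hs.2 p hp hpσ), add_zero]
  let S : Sylow p G := Sylow.ofCard _ hP
  obtain ⟨S', hS'⟩ := hQ.exists_le_sylow
  obtain ⟨x, hx⟩ := MulAction.exists_smul_eq G S S'
  have hQx : ∀ q ∈ Q, ∃ u ∈ (P : Subgroup Hs).map Hs.subtype, q = x * u * x⁻¹ := by
    intro q hq
    have h1 : q ∈ ((x • S : Sylow p G) : Subgroup G) := hx ▸ hS' hq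
    rw [Sylow.coe_subgroup_smul, Subgroup.mem_smul_pointwise_iff_exists] at h1
    obtain ⟨u, hu, rfl⟩ := h1
    exact ⟨u, hu, rfl⟩
  set C := centralizer (Q : Set G) with hC
  -- for each such prime some subgroup of full `r`-part centralizes `Q`
  have hidx : ∀ r : ℕ, r.Prime → r ∈ π → r ≠ p → ¬ r ∣ C.index := by
    intro r hr hrπ hrp hdvd
    obtain ⟨R, hR, hRc⟩ : ∃ R : Subgroup G, ¬ r ∣ R.index ∧
        ∀ u ∈ (P : Subgroup Hs).map Hs.subtype, ∀ b ∈ R, u * b = b * u := by
      rw [hπ] at hrπ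
      rcases hrπ with hrσ | hrτ
      · haveI := Fact.mk hr
        obtain ⟨R⟩ := (inferInstance : Nonempty (Sylow r Hs))
        refine ⟨(R : Subgroup Hs).map Hs.subtype, ?_, ?_⟩
        · rw [index_map_subtype]
          intro h
          rcases hr.dvd_mul.1 h with h | h
          · exact R.not_dvd_index h
          · exact hs.2 r hr hrσ h
        · rintro _ ⟨u, hu, rfl⟩ _ ⟨b, hb, rfl⟩
          obtain ⟨i, hi⟩ := IsPGroup.iff_orderOf.1 P.2 ⟨u, hu⟩
          obtain ⟨j, hj⟩ := IsPGroup.iff_orderOf.1 R.2 ⟨b, hb⟩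
          rw [Subgroup.orderOf_mk] at hi hj
          have hc := Cfsg.Lib.PGroup.commute_of_coprime_orderOf u b (by
            rw [hi, hj]; exact ((Nat.coprime_primes hp hr).2 hrp.symm).pow i j)
          exact congrArg Subtype.val hc.eq
      · refine ⟨Ht, ht.2 r hr hrτ, ?_⟩
        rintro _ ⟨u, -, rfl⟩ b hb
        exact hcomm _ u.2 b hb
    have hle : R.map (MulAut.conj x).toMonoidHom ≤ C := by
      rintro _ ⟨b, hb, rfl⟩
      rw [hC, mem_centralizer_iff]
      intro q hq
      obtain ⟨u, hu, rfl⟩ := hQx q hq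
      simp only [MulEquiv.coe_toMonoidHom, MulAut.conj_apply]
      calc x * u * x⁻¹ * (x * b * x⁻¹) = x * (u * b) * x⁻¹ := by group
        _ = x * (b * u) * x⁻¹ := by rw [hRc u hu b hb]
        _ = _ := by group
    have hi : (R.map (MulAut.conj x).toMonoidHom).index = R.index := index_map_equiv R (MulAut.conj x)
    exact hR (hdvd.trans (hi ▸ index_dvd_of_le hle))
  -- the image of `g` modulo the centralizer is trivial
  set N := normalizer (Q : Set G)
  have hCN : C ≤ N := centralizer_le_normalizer _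
  haveI : (C.subgroupOf N).Normal := ⟨fun c hc y => by
    simp only [mem_subgroupOf, hC, mem_centralizer_iff, Subgroup.coe_mul, InvMemClass.coe_inv] at hc ⊢
    intro q hq
    have h1 : (y : G)⁻¹ * q * y ∈ Q := (mem_normalizer_iff.1 y.2 _).2 (by simpa [mul_assoc] using hq)
    calc q * ((y : G) * c * (y : G)⁻¹) = y * (((y : G)⁻¹ * q * y) * c) * (y : G)⁻¹ := by group
      _ = y * (c * ((y : G)⁻¹ * q * y)) * (y : G)⁻¹ := by rw [hc _ h1]
      _ = _ := by group⟩
  have hcop : (orderOf g).Coprime (C.relIndex N) := by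
    refine Nat.coprime_of_dvd fun r hr h1 h2 => ?_
    have hrp : r ≠ p := by
      rintro rfl
      exact hr.ne_one (Nat.eq_one_of_dvd_coprimes hco h1 dvd_rfl)
    exact hidx r hr (hgπ r hr h1) hrp (h2.trans (relIndex_dvd_index_of_le hCN))
  have h1 : (⟨g, hg⟩ : N) ^ C.relIndex N ∈ C.subgroupOf N := pow_index_mem (C.subgroupOf N) _
  obtain ⟨m, hm⟩ := exists_pow_eq_self_of_coprime hcop.symm
  rw [← hm]
  exact pow_mem h1 m


/-- Let σ and τ be disjoint sets of primes with union π. Suppose a finite group G has a Hall π-subgroup H which is the direct product of a nilpotent σ-subgroup and a τ-subgroup (two elementwise-commuting subgroups generating H), and that the maximal τ-subgroups of G are pairwise conjugate. Then the maximal π-subgroups of G are pairwise conjugate. -/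
theorem result {G : Type*} [Group G] [Finite G]
    (σ τ π : Set ℕ) (hπ : π = σ ∪ τ) (hd : Disjoint σ τ) (H Hs Ht : Subgroup G) (hH : Cfsg.IsPiHall π H)
    (hs : Cfsg.IsPiSubgroup σ Hs) (ht : Cfsg.IsPiSubgroup τ Ht) (hsn : Group.IsNilpotent Hs)
    (hjoin : Hs ⊔ Ht = H) (hcomm : ∀ a ∈ Hs, ∀ b ∈ Ht, a * b = b * a) (hD : Cfsg.IsDPiGroup τ G) :
    Cfsg.IsDPiGroup π G := by
  classical
  subst hjoin
  haveI := hsn
  have hsH : Hs ≤ Hs ⊔ Ht := le_sup_left
  have htH : Ht ≤ Hs ⊔ Ht := le_sup_right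
  have hcop : (Nat.card Hs).Coprime (Nat.card Ht) := Nat.coprime_of_dvd fun r hr h1 h2 =>
    Set.disjoint_left.1 hd (hs r hr h1) (ht r hr h2)
  have hcard : Nat.card ↥(Hs ⊔ Ht) = Nat.card Hs * Nat.card Ht := by
    refine Nat.dvd_antisymm ?_ (hcop.mul_dvd_of_dvd_of_dvd (card_dvd_of_le hsH) (card_dvd_of_le htH))
    haveI : (Ht.subgroupOf (Hs ⊔ Ht)).Normal := (normal_subgroupOf_iff_le_normalizer htH).2
      (sup_le (fun a ha => Subgroup.centralizer_le_normalizer _ (mem_centralizer_iff.2
        fun b hb => (hcomm a ha b hb).symm)) le_normalizer)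
    have h := Cfsg.Lib.Core.card_sup_dvd_mul (Hs.subgroupOf (Hs ⊔ Ht)) (Ht.subgroupOf (Hs ⊔ Ht))
    rw [← subgroupOf_sup hsH htH, subgroupOf_self, card_top,
      Nat.card_congr (subgroupOfEquivOfLe hsH).toEquiv,
      Nat.card_congr (subgroupOfEquivOfLe htH).toEquiv] at h
    exact h
  have hGc : Nat.card Hs * Nat.card Ht * (Hs ⊔ Ht).index = Nat.card G := hcard ▸ card_mul_index _
  have hsi : Hs.index = Nat.card Ht * (Hs ⊔ Ht).index := by
    refine Nat.eq_of_mul_eq_mul_left (Nat.card_pos (α := Hs)) ?_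
    rw [card_mul_index, ← mul_assoc, hGc]
  have hti : Ht.index = Nat.card Hs * (Hs ⊔ Ht).index := by
    refine Nat.eq_of_mul_eq_mul_left (Nat.card_pos (α := Ht)) ?_
    rw [card_mul_index, ← hGc]; ring
  have hsHall : Cfsg.IsPiHall σ Hs := ⟨hs, fun r hr hrσ h => by
    rw [hsi] at h
    rcases hr.dvd_mul.1 h with h | h
    · exact Set.disjoint_left.1 hd hrσ (ht r hr h)
    · exact hH.2 r hr (hπ ▸ Or.inl hrσ) h⟩
  have htHall : Cfsg.IsPiHall τ Ht := ⟨ht, fun r hr hrτ h => by
    rw [hti] at h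
    rcases hr.dvd_mul.1 h with h | h
    · exact Set.disjoint_left.1 hd (hs r hr h) hrτ
    · exact hH.2 r hr (hπ ▸ Or.inr hrτ) h⟩
  have hmain : ∀ K : Subgroup G, Cfsg.IsPiSubgroup π K →
      ∃ g : G, K ≤ (Hs ⊔ Ht).map (MulAut.conj g).toMonoidHom := by
    intro K hK
    -- normal p-complements in K for p ∈ σ
    have hnp : ∀ p : ℕ, p.Prime → p ∈ σ → HasNormalPComplement p K := by
      intro p hp hpσ
      haveI := Fact.mk hp
      obtain ⟨P⟩ := (inferInstance : Nonempty (Sylow p K))
      refine (Cfsg.Lib.Fusion.frobenius P).2 fun Q hQ g hg hco => ?_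
      have hQp : IsPGroup p (Q.map K.subtype) := (Cfsg.Lib.Fusion.isPGroup_le_sylow hQ).map _
      have hgN : (g : G) ∈ normalizer ((Q.map K.subtype : Subgroup G) : Set G) := by
        rw [mem_normalizer_iff]
        intro y
        constructor
        · rintro ⟨q, hq, rfl⟩
          exact ⟨g * q * g⁻¹, (mem_normalizer_iff.1 hg q).1 hq, rfl⟩
        · rintro ⟨q, hq, hy⟩
          refine ⟨g⁻¹ * q * g, ?_, ?_⟩
          · exact (mem_normalizer_iff.1 hg _).2 (by simpa [mul_assoc] using hq)
          · rw [coe_subtype] at hy ⊢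
            simp [hy, mul_assoc]
      have h := centralizes_of_pi hπ hsHall htHall hcomm hd hp hpσ hQp hgN
        (by rwa [orderOf_coe]) (fun r hr h => hK r hr (h.trans (Subgroup.orderOf_dvd_natCard _ g.2)))
      rw [mem_centralizer_iff] at h ⊢
      intro q hq
      exact Subtype.ext (h q ⟨q, hq, rfl⟩)
    set F := (Nat.card K).primeFactors.filter (· ∈ σ) with hF
    set T : Subgroup K := F.inf fun p => pResidual p K with hT
    have hFp : ∀ p ∈ F, p.Prime ∧ p ∈ σ := fun p hp => by
      obtain ⟨h1, h2⟩ := Finset.mem_filter.1 hp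
      exact ⟨(Nat.mem_primeFactors.1 h1).1, h2⟩
    obtain ⟨hTn, hTi⟩ : T.Normal ∧ ∀ r : ℕ, r.Prime → r ∣ T.index → r ∈ σ := by
      rw [hT]
      clear hT T
      suffices hind : ∀ F : Finset ℕ, (∀ p ∈ F, p.Prime ∧ p ∈ σ) →
          (F.inf fun p => pResidual p K).Normal ∧
            ∀ r : ℕ, r.Prime → r ∣ (F.inf fun p => pResidual p K).index → r ∈ σ from hind F hFp
      intro F
      induction F using Finset.induction_on with
      | empty =>
        intro _
        simp only [Finset.inf_empty]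
        exact ⟨inferInstance, fun r hr h => absurd (Nat.dvd_one.1 (index_top (G := K) ▸ h)) hr.ne_one⟩
      | insert p F hpF ih =>
        intro hF'
        obtain ⟨hn, hi⟩ := ih fun q hq => hF' q (Finset.mem_insert_of_mem hq)
        obtain ⟨hp, hpσ⟩ := hF' p (Finset.mem_insert_self p F)
        haveI := Fact.mk hp
        haveI := hn
        rw [Finset.inf_insert]
        refine ⟨inferInstance, fun r hr h => ?_⟩
        set A := pResidual p K
        set B := F.inf fun q => pResidual q K
        have h2 : (A ⊓ B).index ∣ A.index * B.index := by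
          have h3 : B.relIndex A ∣ B.index := relIndex_dvd_index_of_normal B A
          have h4 := relIndex_mul_index (inf_le_left : A ⊓ B ≤ A)
          rw [inf_relIndex_left] at h4
          rw [← h4, mul_comm]
          exact mul_dvd_mul_left _ h3
        rcases hr.dvd_mul.1 (h.trans h2) with h3 | h3
        · obtain ⟨i, hi'⟩ := Cfsg.Lib.Fusion.index_pResidual_eq_pow (p := p) (G := K)
          rw [hi'] at h3
          exact ((Nat.prime_dvd_prime_iff_eq hr hp).1 (hr.dvd_of_dvd_pow h3)) ▸ hpσ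
        · exact hi r hr h3
    haveI := hTn
    have hTτ : ∀ r : ℕ, r.Prime → r ∣ Nat.card T → r ∈ τ := by
      intro r hr h
      have hrK : r ∣ Nat.card K := h.trans T.card_subgroup_dvd_card
      rcases hπ ▸ hK r hr hrK with hrσ | hrτ
      · exfalso
        haveI := Fact.mk hr
        have hle : T ≤ pResidual r K := Finset.inf_le (Finset.mem_filter.2
          ⟨Nat.mem_primeFactors.2 ⟨hr, hrK, Nat.card_pos.ne'⟩, hrσ⟩)
        obtain ⟨P⟩ := (inferInstance : Nonempty (Sylow r K))
        have h5 := Cfsg.Lib.Fusion.coprime_card_of_complement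
          (Cfsg.Lib.Fusion.isComplement'_pResidual (hnp r hr hrσ) P)
        exact hr.ne_one (Nat.eq_one_of_dvd_coprimes h5 (h.trans (card_dvd_of_le hle)) dvd_rfl)
      · exact hrτ
    have hTcop : (Nat.card T).Coprime T.index := Nat.coprime_of_dvd fun r hr h1 h2 =>
      Set.disjoint_left.1 hd (hTi r hr h2) (hTτ r hr h1)
    obtain ⟨S, hS⟩ := exists_right_complement'_of_coprime hTcop
    set T' := T.map K.subtype with hT'
    set S' := S.map K.subtype with hS'
    have hTπ : Cfsg.IsPiSubgroup τ T' := fun r hr h => hTτ r hr (by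
      rwa [hT', card_map_of_injective K.subtype_injective] at h)
    obtain ⟨M, hTM, hM⟩ := Finite.exists_le_maximal (p := Cfsg.IsPiSubgroup τ) hTπ
    have htmax : Maximal (Cfsg.IsPiSubgroup τ) Ht := by
      refine ⟨ht, fun L hL hle => ?_⟩
      have h1 := Cfsg.Lib.Core.card_mul_relIndex hle
      have h2 : Ht.relIndex L = 1 := by
        by_contra hne
        obtain ⟨r, hr, hrd⟩ := Nat.exists_prime_and_dvd hne
        exact htHall.2 r hr (hL r hr (hrd.trans (Dvd.intro_left _ h1)))
          (hrd.trans (relIndex_dvd_index_of_le hle))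
      exact relIndex_eq_one.1 h2
    obtain ⟨g, hg⟩ := hD Ht M htmax hM
    set e := (MulAut.conj g).toMonoidHom with he
    have hTg : T' ≤ Ht.map e := hTM.trans_eq hg
    set N := normalizer (T' : Set G)
    have hsN : Hs.map e ≤ N := by
      rintro _ ⟨a, ha, rfl⟩
      refine Subgroup.centralizer_le_normalizer _ (mem_centralizer_iff.2 fun t ht => ?_)
      obtain ⟨b, hb, rfl⟩ := hTg ht
      rw [← map_mul, ← map_mul, hcomm a ha b hb]
    have hSN : S' ≤ N := (map_mono le_top).trans ((map_mono (le_of_eq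
      (normalizer_eq_top_iff.2 hTn).symm)).trans (le_normalizer_map _))
    have hidx : (Hs.map e).index = Hs.index := index_map_equiv Hs (MulAut.conj g)
    have hcardS : Nat.card S' = T.index := by
      rw [hS', card_map_of_injective K.subtype_injective]
      refine Nat.eq_of_mul_eq_mul_left (Nat.card_pos (α := T)) ?_
      rw [hS.card_mul, card_mul_index]
    obtain ⟨x, hx⟩ := Cfsg.Agent.S0581.result ((Hs.map e).subgroupOf N) (S'.subgroupOf N)
      (Group.nilpotent_of_mulEquiv
        ((Hs.equivMapOfInjective e (MulAut.conj g).injective).trans (subgroupOfEquivOfLe hsN).symm))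
      (by
        refine Nat.coprime_of_dvd fun r hr h1 h2 => ?_
        rw [Nat.card_congr (subgroupOfEquivOfLe hsN).toEquiv,
          card_map_of_injective (MulAut.conj g).injective] at h1
        exact hsHall.2 r hr (hs r hr h1) (hidx ▸ h2.trans (relIndex_dvd_index_of_le hsN)))
      (fun r hr h => by
        rw [Nat.card_congr (subgroupOfEquivOfLe hSN).toEquiv, hcardS] at h
        rw [Nat.card_congr (subgroupOfEquivOfLe hsN).toEquiv,
          card_map_of_injective (MulAut.conj g).injective]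
        have h1 : r ∣ Nat.card Hs * Hs.index := Hs.card_mul_index ▸
          h.trans (T.index_dvd_card.trans K.card_subgroup_dvd_card)
        exact (hr.dvd_mul.1 h1).resolve_right (hsHall.2 r hr (hTi r hr h)))
    refine ⟨x * g, ?_⟩
    have hK' : K = T' ⊔ S' := by
      rw [hT', hS', ← Subgroup.map_sup, hS.sup_eq_top, ← MonoidHom.range_eq_map, range_subtype]
    rw [hK']
    refine sup_le ?_ ?_
    · intro t htT
      have h1 : (x : G)⁻¹ * t * x ∈ T' := by
        have := (mem_normalizer_iff.1 (inv_mem x.2) t).1 htT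
        simpa using this
      obtain ⟨b, hb, hbe⟩ := hTg h1
      refine ⟨b, htH hb, ?_⟩
      simp only [he, MulEquiv.coe_toMonoidHom, MulAut.conj_apply] at hbe ⊢
      calc (x : G) * g * b * ((x : G) * g)⁻¹ = x * (g * b * g⁻¹) * (x : G)⁻¹ := by group
        _ = t := by rw [hbe]; group
    · intro s hs'
      obtain ⟨a, ha, has⟩ := (Subgroup.mem_smul_pointwise_iff_exists _ _ _).1
        (hx (show (⟨s, hSN hs'⟩ : N) ∈ S'.subgroupOf N from hs'))
      obtain ⟨b, hb, hbe⟩ := (ha : (a : G) ∈ Hs.map e)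
      refine ⟨b, hsH hb, ?_⟩
      have has' : (x : G) * a * (x : G)⁻¹ = s := congrArg Subtype.val has
      simp only [he, MulEquiv.coe_toMonoidHom, MulAut.conj_apply] at hbe ⊢
      rw [← has']
      calc (x : G) * g * b * ((x : G) * g)⁻¹ = x * (g * b * g⁻¹) * (x : G)⁻¹ := by group
        _ = _ := by exact congrArg (fun z => (x : G) * z * (x : G)⁻¹) hbe
  intro A B hA hB
  have hconjmax : ∀ A : Subgroup G, Maximal (Cfsg.IsPiSubgroup π) A →
      ∃ g : G, A = (Hs ⊔ Ht).map (MulAut.conj g).toMonoidHom := by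
    intro A hA
    obtain ⟨g, hg⟩ := hmain A hA.1
    refine ⟨g, le_antisymm hg (hA.2 ?_ hg)⟩
    intro r hr h
    rw [card_map_of_injective (MulAut.conj g).injective] at h
    exact hH.1 r hr h
  obtain ⟨a, rfl⟩ := hconjmax A hA
  obtain ⟨b, rfl⟩ := hconjmax B hB
  refine ⟨b * a⁻¹, ?_⟩
  rw [map_map]
  congr 1
  ext y
  simp [mul_assoc]

end Cfsg.Agent.S4334
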