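import Cfsg.Statements.S4342
import Cfsg.Agent.Lib.Fusion.SylowCount

set_option autoImplicit false
open Cfsg

namespace Cfsg.Agent.S4342

open Subgroup

/-- Let H be a normal subgroup of a finite group G and p a prime not dividing the index of H. Then the number of Sylow p-subgroups of H/Z(H) equals the number of Sylow p-subgroups of G. -/
theorem result {G : Type*} [Group G] [Finite G]
    (p : ℕ) [Fact p.Prime] (H : Subgroup G) [H.Normal] (hp : ¬ p ∣ H.index) :
    Nat.card (Sylow p (H ⧸ Subgroup.center H)) = Nat.card (Sylow p G) := by
  obtain ⟨P⟩ : Nonempty (Sylow p H) := inferInstance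
  rw [Cfsg.Agent.S3867.card_quot P (center H), sup_eq_left.2]
  · set P0 := (P : Subgroup H).map H.subtype with hP0
    have hnd : ¬ p ∣ P0.index := by
      rw [← relIndex_mul_index (map_subtype_le _ : P0 ≤ H)]
      refine Fact.out (p := p.Prime) |>.not_dvd_mul ?_ hp
      rw [relIndex, subgroupOf, comap_map_eq_self_of_injective H.subtype_injective]
      exact P.not_dvd_index
    set Q : Sylow p G := (P.2.map H.subtype).toSylow hnd with hQ
    have hQP : (Q : Subgroup G) = P0 := rfl
    rw [Q.card_eq_index_normalizer]
    show _ = (normalizer ((Q : Subgroup G) : Set G)).index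
    rw [hQP]
    have htop : normalizer (P0 : Set G) ⊔ H = ⊤ := by
      rw [hP0]; exact Sylow.normalizer_sup_eq_top P
    rw [Cfsg.Lib.Fusion.SylowCount.index_eq_relIndex_of_sup_eq_top htop, relIndex,
      subgroupOf_normalizer_eq (map_subtype_le _), subgroupOf,
      comap_map_eq_self_of_injective H.subtype_injective]
  · intro z hz
    refine mem_normalizer_iff.2 fun x => ?_
    rw [← mem_center_iff.1 hz x, mul_inv_cancel_right]

end Cfsg.Agent.S4342
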