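import Cfsg.Statements.S4344

set_option autoImplicit false
set_option linter.style.haveILetI false
open Cfsg

namespace Cfsg.Agent.S4344

open scoped Pointwise

/-- Let S be a finite non-abelian simple group, M a maximal subgroup of S and C a cyclic normal subgroup of M. If a Sylow p-subgroup P of S (for a prime p dividing the order of S) is contained in C, then the number of Sylow p-subgroups of S equals the index of M. -/
theorem result {S : Type*} [Group S] [Finite S]
    [IsSimpleGroup S] (hS : ¬ IsMulCommutative S) (p : ℕ) [Fact p.Prime] (hp : p ∣ Nat.card S)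
    (M : Subgroup S) (hM : IsCoatom M) (C : Subgroup S) (hCM : C ≤ M) (hCn : (C.subgroupOf M).Normal)
    (hC : IsCyclic C) (P : Sylow p S) (hP : (P : Subgroup S) ≤ C) :
    Nat.card (Sylow p S) = M.index := by
  set N := Subgroup.normalizer ((P : Subgroup S) : Set S) with hNd
  haveI : IsCyclic C := hC
  have hMN : M ≤ N := by
    intro m hm
    have hcm : ((m • P : Sylow p S) : Subgroup S) ≤ C := by
      intro y hy
      rw [Sylow.coe_subgroup_smul, Subgroup.mem_pointwise_smul_iff_inv_smul_mem, MulAut.smul_def,
        MulAut.conj_inv_apply] at hy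
      have := hCn.conj_mem ⟨_, hCM (hP hy)⟩ (Subgroup.mem_subgroupOf.mpr (hP hy)) ⟨m, hm⟩
      have h2 := Subgroup.mem_subgroupOf.mp this
      simpa [mul_assoc] using h2
    letI := hC.commGroup
    have h1 : P.subtype hP = (m • P : Sylow p S).subtype hcm := by
      haveI := Sylow.unique_of_normal (P.subtype hP) inferInstance
      exact Subsingleton.elim _ _
    have h2 : P = m • P := Sylow.subtype_injective h1
    rw [hNd]
    exact Sylow.smul_eq_iff_mem_normalizer.mp h2.symm
  have hne : N ≠ ⊤ := by
    intro ht
    haveI : (P : Subgroup S).Normal := Subgroup.normalizer_eq_top_iff.mp ht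
    rcases (IsSimpleGroup.eq_bot_or_eq_top_of_normal (P : Subgroup S) inferInstance) with hb | hb
    · refine P.not_dvd_index ?_
      rw [hb, Subgroup.index_bot]
      exact hp
    · have hS' : IsPGroup p S := (hb ▸ P.2).of_equiv Subgroup.topEquiv
      haveI : Nontrivial S := IsSimpleGroup.toNontrivial
      haveI := hS'.center_nontrivial
      rcases (IsSimpleGroup.eq_bot_or_eq_top_of_normal (Subgroup.center S) inferInstance) with hz | hz
      · exact (Subgroup.nontrivial_iff_ne_bot _).mp inferInstance hz
      · exact hS ⟨⟨fun a b => (Subgroup.mem_center_iff.mp (hz ▸ Subgroup.mem_top a) b).symm⟩⟩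
  have hEq : N = M := by
    rcases eq_or_lt_of_le hMN with h | h
    · exact h.symm
    · exact absurd (hM.2 _ h) hne
  rw [Sylow.card_eq_index_normalizer P, ← hEq]; rfl

end Cfsg.Agent.S4344
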