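import Cfsg.Statements.S4345
import Cfsg.Agent.Lib.Fusion.SylowCount

set_option autoImplicit false
open Cfsg

namespace Cfsg.Agent.S4345

open Cfsg.Lib.Fusion in
theorem simple_case {H : Type*} [Group H] [Finite H] [IsSimpleGroup H] [Group.IsSolvable H] (p : ℕ)
    [Fact p.Prime] : Nat.card (Sylow p H) = 1 := by
  obtain ⟨S⟩ : Nonempty (Sylow p H) := inferInstance
  rw [S.card_eq_index_normalizer, Subgroup.index_eq_one]
  show Subgroup.normalizer ((S : Subgroup H) : Set H) = ⊤
  rw [Subgroup.normalizer_eq_top_iff]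
  exact ⟨fun x hx g => by
    rw [IsSimpleGroup.comm_iff_isSolvable.2 ‹_› g x, mul_assoc, mul_inv_cancel, mul_one]; exact hx⟩

/-- Let G be a finite solvable group and p, ℓ primes. Then the largest power of ℓ dividing the number of Sylow p-subgroups of G is congruent to 1 modulo p. -/
theorem result {G : Type*} [Group G] [Finite G]
    (hG : Group.IsSolvable G) (p ℓ : ℕ) [Fact p.Prime] (hℓ : ℓ.Prime) :
    ℓ ^ (Nat.card (Sylow p G)).factorization ℓ ≡ 1 [MOD p] := by
  classical
  refine (Cfsg.Lib.Fusion.SylowCount.sylow_number_induction_self (p := p)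
    (Q := fun n => n ≠ 0 ∧ ℓ ^ n.factorization ℓ ≡ 1 [MOD p]) ⟨one_ne_zero, by simp [Nat.ModEq.refl]⟩
    (fun a b ha hb => ⟨mul_ne_zero ha.1 hb.1, ?_⟩) (fun n hn h => ⟨hn, h ℓ hℓ⟩)
    (fun H N _ hs => ?_)).2
  · rw [Nat.factorization_mul ha.1 hb.1, Finsupp.add_apply, pow_add]
    simpa using ha.2.mul hb.2
  · haveI : Group.IsSolvable H := Group.isSolvable_of_isSolvable_injective H.subtype_injective
    haveI : Group.IsSolvable (H ⧸ N) :=
      Group.isSolvable_of_surjective (f := QuotientGroup.mk' N) (QuotientGroup.mk'_surjective N)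
    rw [simple_case p]
    exact ⟨one_ne_zero, by simp [Nat.ModEq.refl]⟩

end Cfsg.Agent.S4345
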