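import Cfsg.Statements.S4347

set_option autoImplicit false
set_option linter.style.haveILetI false
open Cfsg

namespace Cfsg.Agent.S4347

/-- Let G be a finite group and p a prime. Say a Sylow p-subgroup Q is redundant when every element of p-power order lies in some Sylow p-subgroup other than Q. Then G has no redundant Sylow p-subgroup if and only if some element of p-power order lies in exactly one Sylow p-subgroup. -/
theorem result {G : Type*} [Group G] [Finite G]
    (p : ℕ) [Fact p.Prime] :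
    (¬ ∃ Q : Sylow p G, ∀ x : G, (∃ k : ℕ, orderOf x = p ^ k) → ∃ P : Sylow p G, P ≠ Q ∧ x ∈ P) ↔
      ∃ x : G, (∃ k : ℕ, orderOf x = p ^ k) ∧ ∃! P : Sylow p G, x ∈ P := by
  constructor
  · intro h
    push Not at h
    obtain ⟨x, ⟨k, hk⟩, hx⟩ := h (Classical.arbitrary _)
    have hp : IsPGroup p (Subgroup.zpowers x) :=
      IsPGroup.of_card (n := k) (by rw [Nat.card_zpowers, hk])
    obtain ⟨R, hR⟩ := hp.exists_le_sylow
    refine ⟨x, ⟨k, hk⟩, R, hR (Subgroup.mem_zpowers x), fun P hP => ?_⟩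
    by_contra hne
    by_cases hR0 : R = Classical.arbitrary (Sylow p G)
    · exact hx P (hR0 ▸ hne) hP
    · exact hx R hR0 (hR (Subgroup.mem_zpowers x))
  · rintro ⟨x, ⟨k, hk⟩, R, hR, huniq⟩ ⟨Q, hQ⟩
    obtain ⟨g, rfl⟩ := MulAction.exists_smul_eq G R Q
    obtain ⟨P, hPQ, hP⟩ := hQ (g * x * g⁻¹) ⟨k, by rw [← MulAut.conj_apply, MulEquiv.orderOf_eq, hk]⟩
    apply hPQ
    have : x ∈ g⁻¹ • P := by
      show x ∈ ((g⁻¹ • P : Sylow p G) : Subgroup G)
      rw [Sylow.coe_subgroup_smul, Subgroup.mem_pointwise_smul_iff_inv_smul_mem, MulAut.smul_def,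
        MulAut.conj_inv_apply, inv_inv]
      exact hP
    rw [← huniq _ this, smul_inv_smul]

end Cfsg.Agent.S4347
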