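import Cfsg.Statements.S4348
import Cfsg.Agent.Lib.Core.Cores

set_option autoImplicit false
set_option linter.style.haveILetI false
open Cfsg

namespace Cfsg.Agent.S4348

/-- Let G be a finite group, p a prime and P a Sylow p-subgroup of G, and let O_p(G) be the largest normal p-subgroup of G. If P/O_p(G) is cyclic, then some element of p-power order of G lies in exactly one Sylow p-subgroup. -/
theorem result {G : Type*} [Group G] [Finite G]
    (p : ℕ) [Fact p.Prime] (P : Sylow p G)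
    [hn : ((Cfsg.pCore p G).subgroupOf (P : Subgroup G)).Normal]
    (hc : IsCyclic ((P : Subgroup G) ⧸ (Cfsg.pCore p G).subgroupOf (P : Subgroup G))) :
    ∃ x : G, (∃ k : ℕ, orderOf x = p ^ k) ∧ ∃! Q : Sylow p G, x ∈ Q := by
  classical
  set W := Cfsg.pCore p G with hW
  have hWle : ∀ Q : Sylow p G, W ≤ (Q : Subgroup G) := by
    intro Q
    haveI : W.Normal := inferInstance
    have hp' : IsPGroup p ((Q : Subgroup G) ⊔ W : Subgroup G) :=
      IsPGroup.to_sup_of_normal_right Q.2 (Cfsg.Lib.Core.pCore_isPGroup p G)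
    exact le_sup_right.trans (Q.3 hp' le_sup_left).le
  obtain ⟨⟨g⟩, hg⟩ := hc.exists_generator
  refine ⟨(g : G), ?_, P, g.2, fun Q hQ => ?_⟩
  · obtain ⟨k, hk⟩ := IsPGroup.iff_orderOf.mp P.2 g
    exact ⟨k, by rw [← hk, Subgroup.orderOf_coe]⟩
  · apply Sylow.ext
    refine (P.3 Q.2 ?_)
    intro y hy
    obtain ⟨i, hi⟩ := Subgroup.mem_zpowers_iff.mp (hg (QuotientGroup.mk ⟨y, hy⟩))
    have hi' : ((g ^ i : (P : Subgroup G)) : (P : Subgroup G) ⧸ W.subgroupOf (P : Subgroup G)) =
        QuotientGroup.mk ⟨y, hy⟩ := by rw [QuotientGroup.mk_zpow]; exact hi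
    have h2 := hWle Q (Subgroup.mem_subgroupOf.mp (QuotientGroup.eq.mp hi'))
    have h3 := mul_mem (zpow_mem (K := (Q : Subgroup G)) hQ i) h2
    simpa [mul_assoc] using h3

end Cfsg.Agent.S4348
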