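import Cfsg.Statements.S4349
import Cfsg.Agent.Lib.PGroup.Basic
import Mathlib

set_option linter.style.haveILetI false

set_option autoImplicit false
open Cfsg

namespace Cfsg.Agent.S4349

open Subgroup Equiv Equiv.Perm

universe u

section counting

variable {α : Type u} [Fintype α]

/-- At most two fixed points, and at most one cycle of each length `2 ^ (k + 1)`. -/
def Good (x : Perm α) : Prop :=
  Nat.card {a : α // x a = a} ≤ 2 ∧
    ∀ k, Nat.card {a : α // (x ^ 2 ^ (k + 1)) a = a ∧ (x ^ 2 ^ k) a ≠ a} ≤ 2 ^ (k + 1)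

lemma Good.fix_bound {x : Perm α} (h : Good x) (k : ℕ) :
    Nat.card {a : α // (x ^ 2 ^ k) a = a} + 2 ≤ Nat.card {a : α // x a = a} + 2 ^ (k + 1) := by
  classical
  induction k with
  | zero => simp
  | succ k ih =>
    have h1 : Nat.card {a : α // (x ^ 2 ^ (k + 1)) a = a} ≤
        Nat.card {a : α // (x ^ 2 ^ k) a = a} +
          Nat.card {a : α // (x ^ 2 ^ (k + 1)) a = a ∧ (x ^ 2 ^ k) a ≠ a} := by
      rw [← Nat.card_sum]
      refine Nat.card_le_card_of_injective (fun a => if hh : (x ^ 2 ^ k) a.1 = a.1 then Sum.inl ⟨a.1, hh⟩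
        else Sum.inr ⟨a.1, a.2, hh⟩) ?_
      intro a b hab
      apply Subtype.ext
      dsimp only at hab
      split_ifs at hab <;> simp_all
    have h2 := h.2 k
    have h3 : 2 ^ (k + 1 + 1) = 2 ^ (k + 1) + 2 ^ (k + 1) := by rw [pow_succ]; omega
    omega

/-- Three disjoint invariant sets of the same `2`-power size do not exist. -/
lemma Good.fix_le {x : Perm α} (h : Good x) (k : ℕ) : Nat.card {a : α // (x ^ 2 ^ k) a = a} ≤ 2 ^ (k + 1) := by
  have := h.fix_bound k
  have := h.1
  omega

lemma pow_two_pow_apply_of_invariant {x : Perm α} (hx : ∃ k : ℕ, orderOf x = 2 ^ k) {B : Set α}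
    (hB : ∀ a ∈ B, x a ∈ B) {m : ℕ} (hm : B.ncard ≤ 2 ^ m) {a : α} (ha : a ∈ B) :
    (x ^ 2 ^ m) a = a := by
  classical
  obtain ⟨k, hk⟩ := hx
  have hin : ∀ j : ℕ, (x ^ j) a ∈ B := by
    intro j
    induction j with
    | zero => simpa
    | succ j ih => rw [pow_succ', Perm.mul_apply]; exact hB _ ih
  by_contra hne
  have hk1 : (x ^ 2 ^ k) a = a := by rw [← hk, pow_orderOf_eq_one, Perm.one_apply]
  -- the least exponent fixing `a`
  have hex : ∃ i, (x ^ 2 ^ i) a = a := ⟨k, hk1⟩
  set i := Nat.find hex with hi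
  have hspec : (x ^ 2 ^ i) a = a := Nat.find_spec hex
  have hmi : m < i := by
    by_contra hle
    push Not at hle
    apply hne
    obtain ⟨d, rfl⟩ := Nat.exists_eq_add_of_le hle
    rw [pow_add, pow_mul]
    exact Equiv.Perm.pow_apply_eq_self_of_apply_eq_self hspec _
  have hinj : Set.InjOn (fun j : ℕ => (x ^ j) a) (Set.Iio (2 ^ i)) := by
    have key : ∀ p q : ℕ, p < q → q < 2 ^ i → (x ^ p) a = (x ^ q) a → False := by
      intro p q hpq hq heq
      obtain ⟨d, rfl⟩ := Nat.exists_eq_add_of_le hpq.le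
      have hd : (x ^ d) a = a := by
        rw [pow_add, Perm.mul_apply] at heq
        exact ((x ^ p).injective heq).symm
      have hg : (x ^ Nat.gcd d (2 ^ i)) a = a := by
        have h1 : x ^ d ∈ MulAction.stabilizer (Perm α) a := hd
        have h2 : x ^ 2 ^ i ∈ MulAction.stabilizer (Perm α) a := hspec
        have h3 : x ^ Nat.gcd d (2 ^ i) ∈ MulAction.stabilizer (Perm α) a := by
          rw [← zpow_natCast x (Nat.gcd d _), Nat.gcd_eq_gcd_ab, zpow_add, zpow_mul, zpow_mul, zpow_natCast,
            zpow_natCast]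
          exact mul_mem (zpow_mem h1 _) (zpow_mem h2 _)
        exact h3
      obtain ⟨j, hj, hj'⟩ := (Nat.dvd_prime_pow Nat.prime_two).1 (Nat.gcd_dvd_right d (2 ^ i))
      rw [hj'] at hg
      have : i ≤ j := Nat.find_min' hex hg
      have hle : Nat.gcd d (2 ^ i) ≤ d := Nat.le_of_dvd (by omega) (Nat.gcd_dvd_left _ _)
      rw [hj', le_antisymm hj this] at hle
      omega
    intro p hp q hq heq
    rcases lt_trichotomy p q with h | h | h
    · exact absurd heq (fun he => key p q h hq he)
    · exact h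
    · exact absurd heq.symm (fun he => key q p h hp he)
  have h1 : (Set.Iio (2 ^ i)).ncard ≤ B.ncard := by
    rw [← hinj.ncard_image]
    exact Set.ncard_le_ncard (by rintro _ ⟨j, -, rfl⟩; exact hin j) (Set.toFinite B)
  rw [← Finset.coe_Iio, Set.ncard_coe_finset, Nat.card_Iio] at h1
  exact absurd (hm.trans (Nat.pow_le_pow_right two_pos (Nat.le_sub_one_of_lt hmi))) (by
    have : 2 ^ (i - 1) < 2 ^ i := Nat.pow_lt_pow_right one_lt_two (by omega)
    omega)

lemma not_three {x : Perm α} (hx : ∃ k : ℕ, orderOf x = 2 ^ k) (h : Good x) {A B C : Set α} {m : ℕ}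
    (hA : ∀ a ∈ A, x a ∈ A) (hB : ∀ a ∈ B, x a ∈ B) (hC : ∀ a ∈ C, x a ∈ C)
    (cA : A.ncard = 2 ^ m) (cB : B.ncard = 2 ^ m) (cC : C.ncard = 2 ^ m)
    (hAB : Disjoint A B) (hAC : Disjoint A C) (hBC : Disjoint B C) : False := by
  have hsub : A ∪ B ∪ C ⊆ {a : α | (x ^ 2 ^ m) a = a} := by
    rintro a ((ha | ha) | ha)
    · exact pow_two_pow_apply_of_invariant hx hA cA.le ha
    · exact pow_two_pow_apply_of_invariant hx hB cB.le ha
    · exact pow_two_pow_apply_of_invariant hx hC cC.le ha
  have h1 := Set.ncard_le_ncard hsub (Set.toFinite _)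
  rw [Set.ncard_union_eq (Set.disjoint_union_left.2 ⟨hAC, hBC⟩), Set.ncard_union_eq hAB, cA, cB, cC] at h1
  have h2 := h.fix_le m
  have h3 : 2 ^ (m + 1) = 2 ^ m + 2 ^ m := by rw [pow_succ]; omega
  have h4 : 0 < 2 ^ m := by positivity
  rw [← Nat.card_coe_set_eq] at h1
  simp only [Set.coe_ofPred] at h1
  omega

lemma odd_fix_of_sq_fix {β : Type*} (f : β → β) {o : ℕ} (ho : Odd o) {b : β} (h2 : f (f b) = b) (hn : f^[o] b = b) :
    f b = b := by
  obtain ⟨j, rfl⟩ := ho
  have : ∀ j : ℕ, f^[2 * j] b = b := by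
    intro j
    induction j with
    | zero => rfl
    | succ j ih => rw [show 2 * (j + 1) = 2 + 2 * j by ring, Function.iterate_add_apply, ih]; exact h2
  rw [Function.iterate_add_apply, Function.iterate_one] at hn
  have h3 := congrArg f hn
  rw [← Function.iterate_succ_apply' f (2 * j) (f b), Function.iterate_succ_apply, h2, this] at h3
  exact h3.symm

end counting

section restrict

variable {α : Type u}

/-- The permutations preserving a set. -/
def keep (B : Set α) : Subgroup (Perm α) where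
  carrier := {g | ∀ a, g a ∈ B ↔ a ∈ B}
  one_mem' _ := Iff.rfl
  mul_mem' hg hh a := (hg _).trans (hh a)
  inv_mem' {g} hg a := by simpa using (hg (g⁻¹ a)).symm

/-- Restriction to a preserved set. -/
def res (B : Set α) : keep B →* Perm B where
  toFun g :=
    { toFun := fun a => ⟨g.1 a, (g.2 a).2 a.2⟩
      invFun := fun a => ⟨g.1⁻¹ a, ((keep B).inv_mem g.2 a).2 a.2⟩
      left_inv := fun a => Subtype.ext (by simp)
      right_inv := fun a => Subtype.ext (by simp) }
  map_one' := Equiv.ext fun a => rfl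
  map_mul' _ _ := Equiv.ext fun a => rfl

lemma res_apply (B : Set α) (g : keep B) (a : B) : ((res B g a : B) : α) = g.1 a := rfl

lemma res_pow_apply (B : Set α) (g : keep B) (n : ℕ) (a : B) : ((res B g ^ n) a : α) = (g.1 ^ n) a := by
  rw [← map_pow]; rfl

lemma card_fix_le [Finite α] (B : Set α) {p : α → Prop} {q : B → Prop} (h : ∀ b, q b → p b) :
    Nat.card {b : B // q b} ≤ Nat.card {a : α // p a} :=
  Nat.card_le_card_of_injective (fun b => ⟨b.1.1, h _ b.2⟩) fun a b hab => by
    apply Subtype.ext; apply Subtype.ext; exact (congrArg Subtype.val hab :)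

lemma good_res [Fintype α] {B : Set α} [Fintype B] {x : keep B} (h : Good (x : Perm α)) : Good (res B x) := by
  refine ⟨le_trans (card_fix_le B fun b hb => ?_) h.1, fun k => le_trans (card_fix_le B fun b hb => ?_) (h.2 k)⟩
  · exact congrArg Subtype.val hb
  · refine ⟨by rw [← res_pow_apply]; exact congrArg Subtype.val hb.1, fun hc => hb.2 (Subtype.ext ?_)⟩
    rw [res_pow_apply]; exact hc

end restrict

/-- The orbit of a point under a permutation group. -/
def orb {α : Type u} (D : Subgroup (Perm α)) (a : α) : Set α := {b | ∃ d ∈ D, d a = b}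

lemma orb_eq_orbit {α : Type u} (D : Subgroup (Perm α)) (a : α) : orb D a = MulAction.orbit D a := by
  ext b
  simp only [orb, Set.mem_setOf_eq, MulAction.mem_orbit_iff]
  exact ⟨fun ⟨d, hd, h⟩ => ⟨⟨d, hd⟩, h⟩, fun ⟨d, h⟩ => ⟨d, d.2, h⟩⟩

lemma mem_orb_self {α : Type u} (D : Subgroup (Perm α)) (a : α) : a ∈ orb D a := ⟨1, one_mem D, rfl⟩

lemma orb_eq_of_mem {α : Type u} {D : Subgroup (Perm α)} {a b : α} (h : b ∈ orb D a) : orb D b = orb D a := by
  obtain ⟨d, hd, rfl⟩ := h
  ext c
  refine ⟨fun ⟨e, he, h⟩ => ⟨e * d, mul_mem he hd, h⟩, fun ⟨e, he, h⟩ => ⟨e * d⁻¹, mul_mem he (inv_mem hd), ?_⟩⟩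
  simpa using h

lemma orb_disjoint {α : Type u} {D : Subgroup (Perm α)} {a b : α} (h : orb D a ≠ orb D b) :
    Disjoint (orb D a) (orb D b) :=
  Set.disjoint_left.2 fun c hca hcb => h ((orb_eq_of_mem hca).symm.trans (orb_eq_of_mem hcb))

lemma image_orb {α : Type u} {D : Subgroup (Perm α)} {g : Perm α} (hg : ∀ d, g * d * g⁻¹ ∈ D ↔ d ∈ D) (a : α) :
    g '' orb D a = orb D (g a) := by
  ext b
  constructor
  · rintro ⟨_, ⟨d, hd, rfl⟩, rfl⟩
    exact ⟨g * d * g⁻¹, (hg d).2 hd, by simp⟩
  · rintro ⟨d, hd, rfl⟩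
    refine ⟨_, ⟨g⁻¹ * d * g, (hg _).1 (by simpa [mul_assoc] using hd), rfl⟩, by simp⟩

theorem rigid : ∀ (n : ℕ) {α : Type u} [Fintype α], Fintype.card α = n → ∀ (D : Subgroup (Perm α)), IsPGroup 2 D →
    ∀ x ∈ D, Good x → ∀ g : Perm α, Odd (orderOf g) → (∀ d, g * d * g⁻¹ ∈ D ↔ d ∈ D) → g = 1 := by
  intro n
  induction n using Nat.strong_induction_on with
  | _ n IH =>
    intro α _ hn D hD x hx hgood g hgo hgD
    classical
    haveI : Fact (Nat.Prime 2) := ⟨Nat.prime_two⟩
    have hord : ∀ {D : Subgroup (Perm α)}, IsPGroup 2 D → ∀ {x}, x ∈ D → ∃ k, orderOf x = 2 ^ k := by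
      intro D hD x hx
      obtain ⟨k, hk⟩ := IsPGroup.iff_orderOf.1 hD ⟨x, hx⟩
      exact ⟨k, by rw [← hk, ← orderOf_coe]⟩
    have hiter : ∀ j : ℕ, ∀ a, ((g : α → α))^[j] a = (g ^ j) a := fun j a => by rw [Equiv.Perm.coe_pow]
    -- the restriction step
    have step : ∀ (D' : Subgroup (Perm α)) (x' : Perm α) (B : Set α), IsPGroup 2 D' → x' ∈ D' →
        (hk : D' ≤ keep B) → (hgB : g ∈ keep B) → (hlt : B.ncard < n) →
        (∀ d, g * d * g⁻¹ ∈ D' ↔ d ∈ D') →
        (∀ hh : x' ∈ keep B, Good (res B ⟨x', hh⟩)) → ∀ a ∈ B, g a = a := by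
      intro D' x' B hD' hx' hk hgB hlt hgD' hgd a ha
      let E : Subgroup (Perm B) := (D'.subgroupOf (keep B)).map (res B)
      have hE : IsPGroup 2 E := (hD'.comap_of_injective _ (keep B).subtype_injective).map _
      have hres : res B ⟨g, hgB⟩ = 1 := by
        refine IH _ hlt (α := B) (by rw [← Nat.card_eq_fintype_card, Nat.card_coe_set_eq]) E hE
          (res B ⟨x', hk hx'⟩) ⟨⟨x', hk hx'⟩, hx', rfl⟩ (hgd _) _ ?_ ?_
        · refine hgo.of_dvd_nat ?_
          exact (orderOf_map_dvd _ _).trans (dvd_of_eq (orderOf_coe (⟨g, hgB⟩ : keep B)).symm)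
        · intro d
          constructor
          · rintro ⟨e, he, hee⟩
            refine ⟨(⟨g, hgB⟩ : keep B)⁻¹ * e * ⟨g, hgB⟩, ?_, ?_⟩
            · show (g⁻¹ * (e : Perm α) * g) ∈ D'
              exact (hgD' _).1 (by simpa [mul_assoc] using mem_subgroupOf.1 he)
            · rw [map_mul, map_mul, map_inv, hee]; group
          · rintro ⟨e, he, rfl⟩
            refine ⟨(⟨g, hgB⟩ : keep B) * e * (⟨g, hgB⟩ : keep B)⁻¹, (hgD' _).2 he, ?_⟩
            rw [map_mul, map_mul, map_inv]
      exact congrArg (fun f : Perm B => ((f ⟨a, ha⟩ : B) : α)) hres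
    -- intransitive groups
    have intrans : ∀ (D' : Subgroup (Perm α)), IsPGroup 2 D' → x ∈ D' → (∀ d, g * d * g⁻¹ ∈ D' ↔ d ∈ D') →
        ∀ a, orb D' a ≠ Set.univ → g a = a := by
      intro D' hD' hxD' hgD' a ha
      have hinv : ∀ b, ∀ c ∈ orb D' b, x c ∈ orb D' b := by
        rintro b c ⟨d, hd, rfl⟩
        exact ⟨x * d, mul_mem hxD' hd, rfl⟩
      obtain ⟨m, hm⟩ := hD'.card_orbit a
      have hc0 : (orb D' a).ncard = 2 ^ m := by rw [orb_eq_orbit, ← Nat.card_coe_set_eq, hm]
      have hcim : ∀ j, (orb D' ((g ^ j) a)).ncard = 2 ^ m := by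
        intro j
        induction j with
        | zero => simpa
        | succ j ih =>
          rw [pow_succ', Perm.mul_apply, ← image_orb hgD', Set.ncard_image_of_injective _ g.injective, ih]
      have hfix : orb D' (g a) = orb D' a := by
        have h2 : orb D' (g (g a)) = orb D' a ∨ orb D' (g (g a)) = orb D' (g a) ∨ orb D' (g a) = orb D' a := by
          by_contra h
          push Not at h
          obtain ⟨h1, h2, h3⟩ := h
          exact not_three (hord hD hx) hgood (hinv a) (hinv (g a)) (hinv (g (g a))) hc0 (by simpa using hcim 1)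
            (by simpa [sq] using hcim 2) (orb_disjoint (Ne.symm h3)) (orb_disjoint (Ne.symm h1))
            (orb_disjoint (Ne.symm h2))
        rcases h2 with h | h | h
        · have := odd_fix_of_sq_fix (fun s : Set α => g '' s) hgo (b := orb D' a)
            (by simp only [image_orb hgD']; exact h) (by
              have : ∀ j : ℕ, (fun s : Set α => g '' s)^[j] (orb D' a) = orb D' ((g ^ j) a) := by
                intro j
                induction j with
                | zero => rfl
                | succ j ih =>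
                  rw [Function.iterate_succ_apply', ih, image_orb hgD', pow_succ', Perm.mul_apply]
              rw [this, pow_orderOf_eq_one, Perm.one_apply])
          simpa [image_orb hgD'] using this
        · rw [← image_orb hgD', ← image_orb hgD'] at h
          have := Set.image_injective.2 g.injective h
          rw [image_orb hgD'] at this
          exact this
        · exact h
      refine step D' x (orb D' a) hD' hxD' (fun d hd b => ?_) (fun b => ?_) ?_ hgD' (fun _ => good_res hgood) a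
        (mem_orb_self D' a)
      · refine ⟨fun hb => ?_, fun hb => ?_⟩
        · rw [← orb_eq_of_mem hb]; exact ⟨d⁻¹, inv_mem hd, by simp⟩
        · rw [← orb_eq_of_mem hb]; exact ⟨d, hd, rfl⟩
      · conv_lhs => rw [← hfix, ← image_orb hgD', g.injective.mem_set_image]
      · rw [← hn, ← Nat.card_eq_fintype_card, ← Set.ncard_univ]
        exact Set.ncard_lt_ncard (Set.ssubset_univ_iff.2 ha) (Set.toFinite _)
    refine Equiv.ext fun a => ?_
    by_cases htr : orb D a = Set.univ
    swap
    · exact intrans D hD hx hgD a htr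
    have hall : ∀ b, orb D b = Set.univ := fun b => (orb_eq_of_mem (htr ▸ Set.mem_univ b)).trans htr
    rcases subsingleton_or_nontrivial α with hs | hs
    · exact Subsingleton.elim _ _
    -- the subgroup generated by squares
    let Q : Subgroup (Perm α) := closure {y | ∃ d ∈ D, y = d ^ 2}
    have hQD : Q ≤ D := (closure_le _).2 (by rintro _ ⟨d, hd, rfl⟩; exact pow_mem hd 2)
    have hQsq : ∀ d ∈ D, d ^ 2 ∈ Q := fun d hd => subset_closure ⟨d, hd, rfl⟩
    have hQcomm : ∀ d ∈ D, ∀ e ∈ D, d * e * d⁻¹ * e⁻¹ ∈ Q := by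
      intro d hd e he
      have : d * e * d⁻¹ * e⁻¹ = d ^ 2 * (d⁻¹ * e) ^ 2 * (e⁻¹) ^ 2 := by simp only [sq]; group
      rw [this]
      exact mul_mem (mul_mem (hQsq d hd) (hQsq _ (mul_mem (inv_mem hd) he))) (hQsq _ (inv_mem he))
    have hQn : ∀ d ∈ D, ∀ q ∈ Q, d * q * d⁻¹ ∈ Q := by
      intro d hd q hq
      have := mul_mem (hQcomm d hd q (hQD hq)) hq
      simpa [mul_assoc] using this
    have hgQ1 : ∀ h : Perm α, (∀ d ∈ D, h * d * h⁻¹ ∈ D) → ∀ q ∈ Q, h * q * h⁻¹ ∈ Q := by
      intro h hh q hq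
      have hle : Q.map (MulAut.conj h).toMonoidHom ≤ Q := by
        rw [MonoidHom.map_closure, closure_le]
        rintro _ ⟨_, ⟨d, hd, rfl⟩, rfl⟩
        exact subset_closure ⟨h * d * h⁻¹, hh d hd, by simp [conj_pow]⟩
      exact hle ⟨q, hq, rfl⟩
    have hgQ : ∀ d, g * d * g⁻¹ ∈ Q ↔ d ∈ Q := by
      refine fun d => ⟨fun h => ?_, hgQ1 g (fun e he => (hgD e).2 he) d⟩
      have := hgQ1 g⁻¹ (fun e he => (hgD _).1 (by simpa [mul_assoc] using he)) _ h
      simpa [mul_assoc] using this
    -- `Q` is intransitive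
    have hQint : ∀ b, orb Q b ≠ Set.univ := by
      intro b hb
      set St : Subgroup D := MulAction.stabilizer D b with hSt
      have hne : St ≠ ⊤ := by
        intro h
        obtain ⟨c, hc⟩ := exists_ne b
        obtain ⟨d, hd, rfl⟩ := (hall b).symm ▸ Set.mem_univ c
        have : (⟨d, hd⟩ : D) ∈ St := h ▸ mem_top _
        exact hc this
      obtain ⟨M, hM, hle⟩ := (eq_top_or_exists_le_coatom St).resolve_left hne
      apply hM.1
      rw [eq_top_iff]
      intro d _
      obtain ⟨q, hq, hqd⟩ : (d : Perm α) b ∈ orb Q b := hb ▸ Set.mem_univ _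
      have hqM : ∀ q, ∀ hq : q ∈ Q, (⟨q, hQD hq⟩ : D) ∈ M := by
        intro q hq
        induction hq using closure_induction with
        | mem y hy =>
          obtain ⟨e, he, rfl⟩ := hy
          exact Cfsg.Lib.PGroup.pow_mem_of_isCoatom hD hM ⟨e, he⟩
        | one => exact one_mem M
        | mul y z hy hz ihy ihz => exact mul_mem ihy ihz
        | inv y hy ihy => exact inv_mem ihy
      have h1 : (⟨q, hQD hq⟩ : D)⁻¹ * d ∈ M := by
        refine hle ?_
        show q⁻¹ ((d : Perm α) b) = b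
        rw [← hqd, Equiv.Perm.inv_def, Equiv.symm_apply_apply]
      simpa using mul_mem (hqM q hq) h1
    have hDblk : ∀ d ∈ D, ∀ b, d '' orb Q b = orb Q (d b) := by
      intro d hd b
      refine image_orb (fun e => ⟨fun h => ?_, hQn d hd e⟩) b
      have := hQn d⁻¹ (inv_mem hd) _ h
      simpa [mul_assoc] using this
    by_cases hxfix : x a ∈ orb Q a
    · -- `x` fixes every block
      let D' : Subgroup (Perm α) :=
        { carrier := {d | d ∈ D ∧ ∀ b, d b ∈ orb Q b}
          one_mem' := ⟨one_mem D, fun b => mem_orb_self Q b⟩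
          mul_mem' := fun {d e} hd he => ⟨mul_mem hd.1 he.1, fun b => orb_eq_of_mem (he.2 b) ▸ hd.2 (e b)⟩
          inv_mem' := fun {d} hd => ⟨inv_mem hd.1, fun b => by
            have := hd.2 (d⁻¹ b)
            rw [← Perm.mul_apply, mul_inv_cancel, Perm.one_apply] at this
            rw [orb_eq_of_mem this]
            exact mem_orb_self Q _⟩ }
      have hxD' : x ∈ D' := by
        refine ⟨hx, fun b => ?_⟩
        obtain ⟨d, hd, rfl⟩ := htr.symm ▸ Set.mem_univ b
        obtain ⟨q, hq, hqa⟩ := hxfix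
        refine ⟨x * d * x⁻¹ * d⁻¹ * (d * q * d⁻¹), mul_mem (hQcomm x hx d hd) (hQn d hd q hq), ?_⟩
        simp [hqa]
      have hgD'1 : ∀ h : Perm α, (∀ d ∈ D, h * d * h⁻¹ ∈ D) → (∀ q, h * q * h⁻¹ ∈ Q ↔ q ∈ Q) →
          ∀ d ∈ D', h * d * h⁻¹ ∈ D' := by
        intro h hh hhQ d hd
        refine ⟨hh d hd.1, fun b => ?_⟩
        have := Set.mem_image_of_mem h (hd.2 (h⁻¹ b))
        rw [image_orb hhQ, ← Perm.mul_apply h h⁻¹, mul_inv_cancel, Perm.one_apply] at this
        exact this
      refine intrans D' (hD.to_le fun d hd => hd.1) hxD' (fun d => ⟨fun h => ?_,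
        hgD'1 g (fun e he => (hgD e).2 he) hgQ d⟩) a ?_
      · have := hgD'1 g⁻¹ (fun e he => (hgD _).1 (by simpa [mul_assoc] using he))
          (fun q => by
            have := hgQ (g⁻¹ * q * g⁻¹⁻¹)
            simpa [mul_assoc] using this.symm) _ h
        simpa [mul_assoc] using this
      · intro h
        apply hQint a
        refine Set.eq_univ_of_forall fun b => ?_
        obtain ⟨d, hd, rfl⟩ := h.symm ▸ Set.mem_univ b
        exact hd.2 a
    · -- `x` moves every block, and there are two blocks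
      have hmove : ∀ b, x b ∉ orb Q b := by
        intro b hb
        apply hxfix
        obtain ⟨d, hd, rfl⟩ := (hall b).symm ▸ Set.mem_univ a
        obtain ⟨q, hq, hqa⟩ := hb
        refine ⟨x * d * x⁻¹ * d⁻¹ * (d * q * d⁻¹), mul_mem (hQcomm x hx d hd) (hQn d hd q hq), ?_⟩
        simp [hqa]
      have hf0 : Nat.card {b : α // x b = b} = 0 := by
        haveI : IsEmpty {b : α // x b = b} := ⟨fun b => hmove b.1 (by rw [b.2]; exact mem_orb_self Q _)⟩
        exact Nat.card_of_isEmpty
      obtain ⟨M, hM⟩ := hD.card_orbit a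
      rw [← orb_eq_orbit, htr, Nat.card_congr (Equiv.Set.univ α)] at hM
      have hx2 : x ^ 2 ∈ Q := hQsq x hx
      set U : α → Set α := fun b => orb Q b ∪ orb Q (x b) with hU
      have hUinv : ∀ b, ∀ c ∈ U b, x c ∈ U b := by
        intro b c hc
        have h2 : orb Q (x (x b)) = orb Q b := orb_eq_of_mem ⟨x ^ 2, hx2, by simp [sq]⟩
        rcases hc with hc | hc
        · exact Or.inr (hDblk x hx b ▸ Set.mem_image_of_mem x hc)
        · exact Or.inl (h2 ▸ hDblk x hx (x b) ▸ Set.mem_image_of_mem x hc)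
      obtain ⟨m, hm⟩ := (hD.to_le hQD).card_orbit a
      rw [← orb_eq_orbit, Nat.card_coe_set_eq] at hm
      have hcB : ∀ b, (orb Q b).ncard = 2 ^ m := by
        intro b
        obtain ⟨d, hd, rfl⟩ := htr.symm ▸ Set.mem_univ b
        rw [← hDblk d hd, Set.ncard_image_of_injective _ d.injective, hm]
      have hUc : ∀ b, (U b).ncard = 2 ^ (m + 1) := by
        intro b
        simp only [hU]
        have hd : Disjoint (orb Q b) (orb Q (x b)) := orb_disjoint fun h => hmove b (by rw [h]; exact mem_orb_self Q (x b))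
        rw [Set.ncard_union_eq hd, hcB, hcB, pow_succ]
        ring
      have hUa : U a = Set.univ := by
        by_contra hne
        have hlt : 2 ^ (m + 1) < 2 ^ M := by
          rw [← hUc a, ← hM, ← Set.ncard_univ]
          exact Set.ncard_lt_ncard (Set.ssubset_univ_iff.2 hne) (Set.toFinite _)
        have hmM : m + 1 < M := (Nat.pow_lt_pow_iff_right one_lt_two).1 hlt
        have h1 := hgood.fix_bound (m + 1)
        have h2 : Nat.card α = Nat.card {b : α // (x ^ 2 ^ (m + 1)) b = b} :=
          Nat.card_congr (Equiv.subtypeUnivEquiv fun b =>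
            pow_two_pow_apply_of_invariant (hord hD hx) (hUinv b) (hUc b).le (Or.inl (mem_orb_self Q b))).symm
        have h3 : 2 ^ (m + 1 + 1) ≤ 2 ^ M := Nat.pow_le_pow_right two_pos hmM
        omega
      have hmem : ∀ b, orb Q b = orb Q a ∨ orb Q b = orb Q (x a) := fun b =>
        (hUa.symm ▸ Set.mem_univ b : b ∈ U a).imp orb_eq_of_mem orb_eq_of_mem
      have hgfix : orb Q (g a) = orb Q a := by
        rcases hmem (g a) with h | h
        · exact h
        · have h2 : orb Q (g (g a)) = orb Q a := by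
            rcases hmem (g (g a)) with h' | h'
            · exact h'
            · rw [← h] at h'
              rw [← image_orb hgQ, ← image_orb hgQ] at h'
              have h'' := Set.image_injective.2 g.injective h'
              rw [image_orb hgQ, h] at h''
              exact absurd (h''.symm ▸ mem_orb_self Q (x a) : x a ∈ orb Q a) hxfix
          have := odd_fix_of_sq_fix (fun s : Set α => g '' s) hgo (b := orb Q a)
            (by simp only [image_orb hgQ]; exact h2) (by
              have : ∀ j : ℕ, (fun s : Set α => g '' s)^[j] (orb Q a) = orb Q ((g ^ j) a) := by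
                intro j
                induction j with
                | zero => rfl
                | succ j ih => rw [Function.iterate_succ_apply', ih, image_orb hgQ, pow_succ', Perm.mul_apply]
              rw [this, pow_orderOf_eq_one, Perm.one_apply])
          simpa [image_orb hgQ] using this
      refine step Q (x ^ 2) (orb Q a) (hD.to_le hQD) hx2 (fun d hd b => ?_) (fun b => ?_) ?_ hgQ (fun hh => ?_) a
        (mem_orb_self Q a)
      · refine ⟨fun hb => ?_, fun hb => ?_⟩
        · rw [← orb_eq_of_mem hb]; exact ⟨d⁻¹, inv_mem hd, by simp⟩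
        · rw [← orb_eq_of_mem hb]; exact ⟨d, hd, rfl⟩
      · conv_lhs => rw [← hgfix, ← image_orb hgQ, g.injective.mem_set_image]
      · rw [← hn, ← Nat.card_eq_fintype_card, ← Set.ncard_univ]
        exact Set.ncard_lt_ncard (Set.ssubset_univ_iff.2 (hQint a)) (Set.toFinite _)
      · -- the square of `x` is good on a block
        have hh2 : ∀ j : ℕ, (x ^ 2) ^ j = x ^ (2 * j) := fun j => (pow_mul x 2 j).symm
        have hxnot : ∀ b : orb Q a, x b.1 ∉ orb Q a := fun b hb =>
          hmove b.1 (by rw [orb_eq_of_mem b.2]; exact hb)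
        have half : ∀ (p : α → Prop) (q : orb Q a → Prop) (N : ℕ), (∀ b, q b → p b.1 ∧ p (x b.1)) →
            Nat.card {b : α // p b} ≤ 2 * N → Nat.card {b : orb Q a // q b} ≤ N := by
          intro p q N hpq hN
          have h1 : Nat.card ({b : orb Q a // q b} ⊕ {b : orb Q a // q b}) ≤ Nat.card {b : α // p b} := by
            refine Nat.card_le_card_of_injective (Sum.elim (fun b => ⟨b.1.1, (hpq _ b.2).1⟩)
              (fun b => ⟨x b.1.1, (hpq _ b.2).2⟩)) ?_
            rintro (b | b) (c | c) hbc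
            · exact congrArg Sum.inl (Subtype.ext (Subtype.ext (congrArg Subtype.val hbc :)))
            · have e1 : b.1.1 = x c.1.1 := congrArg Subtype.val hbc
              exact absurd (e1 ▸ b.1.2) (hxnot c.1)
            · have e1 : x b.1.1 = c.1.1 := congrArg Subtype.val hbc
              exact absurd (e1.symm ▸ c.1.2) (hxnot b.1)
            · exact congrArg Sum.inr (Subtype.ext (Subtype.ext (x.injective (congrArg Subtype.val hbc))))
          rw [Nat.card_sum] at h1
          omega
        have hcom : ∀ (j : ℕ) (b : α), (x ^ j) (x b) = x ((x ^ j) b) := fun j b => by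
          rw [← Perm.mul_apply, ← pow_succ, pow_succ', Perm.mul_apply]
        refine ⟨half (fun b => (x ^ 2 ^ 1) b = b) _ _ (fun b hb => ?_) ?_,
          fun k => half (fun b => (x ^ 2 ^ (k + 1 + 1)) b = b ∧ (x ^ 2 ^ (k + 1)) b ≠ b) _ _ (fun b hb => ?_) ?_⟩
        · have hb' : (x ^ 2) b.1 = b.1 := congrArg Subtype.val hb
          exact ⟨by simpa using hb', by rw [pow_one, hcom, hb']⟩
        · have h1 := hgood.fix_bound 1
          rw [hf0] at h1
          omega
        · have hb1 : (x ^ 2 ^ (k + 1 + 1)) b.1 = b.1 := by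
            have h := congrArg Subtype.val hb.1
            rw [res_pow_apply] at h
            simpa [hh2, ← pow_succ'] using h
          have hb2 : (x ^ 2 ^ (k + 1)) b.1 ≠ b.1 := fun hc => hb.2 (Subtype.ext (by
            rw [res_pow_apply]
            simpa [hh2, ← pow_succ'] using hc))
          exact ⟨⟨hb1, hb2⟩, by rw [hcom, hb1], fun hc => hb2 (x.injective (by rw [← hcom]; exact hc))⟩
        · have h1 := hgood.2 (k + 1)
          rw [pow_succ' 2 (k + 1)] at h1 ⊢
          exact h1

/-- The conjugates of a transposition of two equal-period points generate a `2`-group with `x`. -/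
lemma swap_mem {α : Type u} [Fintype α] [DecidableEq α] {x : Perm α} (hx : ∃ k : ℕ, orderOf x = 2 ^ k)
    {a b : α} (hper : ∀ j : ℤ, (x ^ j) a = a ↔ (x ^ j) b = b) (hne : ∀ j : ℤ, (x ^ j) a ≠ b)
    (P : Sylow 2 (Perm α)) (hP : ∀ R : Sylow 2 (Perm α), x ∈ R → R = P) :
    Equiv.swap a b ∈ P := by
  haveI : Fact (Nat.Prime 2) := ⟨Nat.prime_two⟩
  set t : ℤ → Perm α := fun i => Equiv.swap ((x ^ i) a) ((x ^ i) b) with ht
  have hcomm : ∀ i j, t i * t j = t j * t i := by
    intro i j
    have hd : ∀ i j : ℤ, (x ^ i) a ≠ (x ^ j) b := fun i j h => hne (-j + i) (by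
      rw [zpow_add, Perm.mul_apply, h, ← Perm.mul_apply, ← zpow_add, neg_add_cancel, zpow_zero, Perm.one_apply])
    have heqv : (x ^ i) a = (x ^ j) a ↔ (x ^ i) b = (x ^ j) b := by
      have hk : ∀ c : α, (x ^ i) c = (x ^ j) c ↔ (x ^ (-j + i)) c = c := fun c => by
        rw [zpow_add, Perm.mul_apply, zpow_neg, Equiv.Perm.inv_def, Equiv.symm_apply_eq, eq_comm]
      rw [hk, hk, hper]
    by_cases h : (x ^ i) a = (x ^ j) a
    · simp only [ht, h, heqv.1 h]
    · have h' : (x ^ i) b ≠ (x ^ j) b := fun hc => h (heqv.2 hc)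
      refine Equiv.Perm.Disjoint.commute (fun c => ?_)
      by_cases h1 : c = (x ^ i) a ∨ c = (x ^ i) b
      · right
        rcases h1 with rfl | rfl
        · exact Equiv.swap_apply_of_ne_of_ne h (hd i j)
        · exact Equiv.swap_apply_of_ne_of_ne (Ne.symm (hd j i)) h'
      · push Not at h1
        exact Or.inl (Equiv.swap_apply_of_ne_of_ne h1.1 h1.2)
  set E : Subgroup (Perm α) := closure (Set.range t) with hE
  have hEcomm : ∀ y ∈ E, ∀ z ∈ E, y * z = z * y := by
    have h1 : E ≤ centralizer (E : Set (Perm α)) := by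
      rw [hE, centralizer_closure, closure_le]
      rintro _ ⟨i, rfl⟩
      rw [SetLike.mem_coe, mem_centralizer_iff]
      rintro _ ⟨j, rfl⟩
      exact hcomm j i
    exact fun y hy z hz => (mem_centralizer_iff.1 (h1 hy) z hz).symm
  have hE2 : IsPGroup 2 E := by
    intro y
    refine ⟨1, Subtype.ext ?_⟩
    obtain ⟨y, hy⟩ := y
    simp only [pow_one, SubmonoidClass.coe_pow, OneMemClass.coe_one]
    induction hy using closure_induction with
    | mem z hz => obtain ⟨i, rfl⟩ := hz; rw [sq]; exact Equiv.swap_mul_self _ _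
    | one => rw [one_pow]
    | mul y z hy hz ihy ihz => rw [(show Commute y z from hEcomm y hy z hz).mul_pow, ihy, ihz, one_mul]
    | inv y hy ihy => rw [inv_pow, ihy, inv_one]
  have hconj : ∀ i j : ℤ, (x ^ i) * t j * (x ^ i)⁻¹ = t (i + j) := by
    intro i j
    simp only [ht, zpow_add, Perm.mul_apply]
    exact (Equiv.swap_apply_apply (x ^ i) _ _).symm
  have hnorm : zpowers x ≤ normalizer (E : Set (Perm α)) := by
    intro y hy
    obtain ⟨i, rfl⟩ := mem_zpowers_iff.1 hy
    have key : ∀ i : ℤ, ∀ z ∈ E, x ^ i * z * (x ^ i)⁻¹ ∈ E := by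
      intro i z hz
      have hle : E.map (MulAut.conj (x ^ i)).toMonoidHom ≤ E := by
        rw [hE, MonoidHom.map_closure, closure_le]
        rintro _ ⟨_, ⟨j, rfl⟩, rfl⟩
        exact subset_closure ⟨i + j, (hconj i j).symm⟩
      exact hle ⟨z, hz, rfl⟩
    refine mem_normalizer_iff.2 fun z => ⟨key i z, fun hz => ?_⟩
    have := key (-i) _ hz
    simpa [zpow_neg, mul_assoc] using this
  have hX : IsPGroup 2 (zpowers x) := by
    obtain ⟨k, hk⟩ := hx
    exact IsPGroup.of_card (n := k) (by rw [Nat.card_zpowers, hk])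
  obtain ⟨R, hR⟩ := (hX.to_sup_of_normal_right' hE2 hnorm).exists_le_sylow
  rw [← hP R (hR (mem_sup_left (mem_zpowers x)))]
  refine hR (mem_sup_right (subset_closure ⟨0, ?_⟩))
  simp [ht]

/-- Two Sylow subgroups containing a good element coincide. -/
lemma sylow_eq {α : Type u} [Fintype α] (x : Perm α) (hgood : Good x)
    (P Q : Sylow 2 (Perm α)) (hP : x ∈ P) (hQ : x ∈ Q) : P = Q := by
  classical
  haveI : Fact (Nat.Prime 2) := ⟨Nat.prime_two⟩
  by_contra hne
  obtain ⟨D, -, ⟨P, Q, hP, hQ, hPQ, rfl⟩, hmax⟩ :=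
    (Set.toFinite {D : Subgroup (Perm α) | ∃ P Q : Sylow 2 (Perm α), x ∈ P ∧ x ∈ Q ∧ P ≠ Q ∧
      D = (P : Subgroup (Perm α)) ⊓ Q}).exists_le_maximal ⟨P, Q, hP, hQ, hne, rfl⟩
  set D := (P : Subgroup (Perm α)) ⊓ Q with hDdef
  have hD : IsPGroup 2 D := P.isPGroup'.to_le inf_le_left
  have hN : IsPGroup 2 (normalizer (D : Set (Perm α))) := by
    intro y
    obtain ⟨e, o, ho, heq⟩ := Nat.exists_eq_two_pow_mul_odd (orderOf_pos y).ne'
    refine ⟨e, Subtype.ext ?_⟩
    have hz := rigid _ rfl D hD x ⟨hP, hQ⟩ hgood ((y : Perm α) ^ 2 ^ e) ?_ ?_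
    · simpa using hz
    · refine ho.of_dvd_nat ?_
      rw [orderOf_dvd_iff_pow_eq_one, ← pow_mul, ← heq, ← orderOf_coe, pow_orderOf_eq_one]
    · exact fun d => ((mem_normalizer_iff.1 (pow_mem y.2 (2 ^ e))) d).symm
  obtain ⟨R, hR⟩ := hN.exists_le_sylow
  have key : ∀ S T : Sylow 2 (Perm α), D = (S : Subgroup (Perm α)) ⊓ T → x ∈ S → S ≠ T → R = S := by
    intro S T hST hS hne'
    by_contra hRS
    have hlt : D < (S : Subgroup (Perm α)) := by
      refine lt_of_le_of_ne (hST ▸ inf_le_left) fun h => hne' ?_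
      apply Sylow.ext
      refine (S.is_maximal' T.isPGroup' ?_).symm
      calc (S : Subgroup (Perm α)) = D := h.symm
        _ ≤ T := hST ▸ inf_le_right
    haveI := S.isPGroup'.isNilpotent
    have hlt' : D.subgroupOf (S : Subgroup (Perm α)) < ⊤ := by
      rw [lt_top_iff_ne_top, ne_eq, subgroupOf_eq_top]
      exact fun h => hlt.ne (le_antisymm hlt.le h)
    obtain ⟨s, hsN, hsD⟩ := Set.exists_of_ssubset
      (Group.normalizerCondition_of_isNilpotent _ hlt' :
        D.subgroupOf (S : Subgroup (Perm α)) < normalizer (D.subgroupOf (S : Subgroup (Perm α)) : Set S))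
    have hs : (s : Perm α) ∈ R := hR (mem_normalizer_iff.2 fun d => by
      constructor
      · intro hd
        exact (mem_normalizer_iff.1 hsN ⟨d, hlt.le hd⟩).1 hd
      · intro hd
        have h2 : d ∈ (S : Subgroup (Perm α)) := by
          have := mul_mem (mul_mem (inv_mem s.2) (hlt.le hd)) s.2
          simpa [mul_assoc] using this
        exact (mem_normalizer_iff.1 hsN ⟨d, h2⟩).2 hd)
    have hDR : D ≤ (R : Subgroup (Perm α)) := le_trans le_normalizer hR
    have h3 := hmax ⟨S, R, hS, hDR ⟨hP, hQ⟩, Ne.symm hRS, rfl⟩ (le_inf hlt.le hDR)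
    exact hsD (h3 ⟨s.2, hs⟩)
  exact hPQ ((key P Q rfl hP hPQ).symm.trans (key Q P (inf_comm _ _) hQ (Ne.symm hPQ)))

/-- Let n ≥ 2 and let x be an element of 2-power order of the symmetric group of degree n. Then x lies in exactly one Sylow 2-subgroup if and only if x has at most two fixed points and the nontrivial cycles of x have pairwise different lengths. -/
theorem result (n : ℕ) (hn : 2 ≤ n)
    (x : Equiv.Perm (Fin n)) (hx : ∃ k : ℕ, orderOf x = 2 ^ k) :
    (∃! P : Sylow 2 (Equiv.Perm (Fin n)), x ∈ P) ↔ (n ≤ x.support.card + 2 ∧ x.cycleType.Nodup) := by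
  haveI : Fact (Nat.Prime 2) := ⟨Nat.prime_two⟩
  -- periods of moved points
  have hper : ∀ a ∈ x.support, ∀ j : ℤ, (x ^ j) a = a ↔ ((x.cycleOf a).support.card : ℤ) ∣ j := by
    intro a ha j
    have hc := Equiv.Perm.isCycle_cycleOf x (Equiv.Perm.mem_support.1 ha)
    rw [← Equiv.Perm.cycleOf_zpow_apply_self, ← hc.orderOf, orderOf_dvd_iff_zpow_eq_one]
    refine ⟨fun h => ?_, fun h => by rw [h]; rfl⟩
    obtain ⟨m, hm⟩ : ∃ m : ℕ, (x.cycleOf a) ^ j = (x.cycleOf a) ^ m := by
      have := (isOfFinOrder_of_finite (x.cycleOf a)).mem_zpowers_iff_mem_range_orderOf.1 ⟨j, rfl⟩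
      simp only [Finset.mem_image, Finset.mem_range] at this
      obtain ⟨m, -, hm⟩ := this
      exact ⟨m, hm.symm⟩
    rw [hm] at h ⊢
    exact (hc.pow_eq_one_iff' (by rw [Equiv.Perm.cycleOf_apply_self]; exact Equiv.Perm.mem_support.1 ha)).2 h
  obtain ⟨k0, hk0⟩ := hx
  constructor
  · rintro ⟨P, -, hP⟩
    have hthree : ∀ a b c : Fin n, a ≠ b → a ≠ c → b ≠ c → Equiv.swap a b ∈ P → Equiv.swap a c ∈ P → False := by
      intro a b c hab hac hbc h1 h2
      have h3 := (Equiv.Perm.isThreeCycle_swap_mul_swap_same hab hac hbc).orderOf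
      obtain ⟨k, hk⟩ := IsPGroup.iff_orderOf.1 P.isPGroup' ⟨_, mul_mem h1 h2⟩
      rw [← orderOf_coe] at hk
      simp only [MulMemClass.mk_mul_mk, h3] at hk
      rcases k with _ | k
      · simp at hk
      · rw [pow_succ] at hk; omega
    refine ⟨?_, ?_⟩
    · by_contra hlt
      push Not at hlt
      have hc : 2 < (x.supportᶜ).card := by rw [Finset.card_compl, Fintype.card_fin]; omega
      obtain ⟨a, b, c, ha, hb, hc, hab, hac, hbc⟩ := Finset.two_lt_card_iff.1 hc
      simp only [Finset.mem_compl, Equiv.Perm.notMem_support] at ha hb hc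
      have hz : ∀ (d : Fin n), x d = d → ∀ j : ℤ, (x ^ j) d = d := fun d hd j =>
        Equiv.Perm.zpow_apply_eq_self_of_apply_eq_self hd j
      refine hthree a b c hab hac hbc
        (swap_mem ⟨k0, hk0⟩ (fun j => by simp [hz a ha, hz b hb]) (fun j => by rw [hz a ha]; exact hab) P hP)
        (swap_mem ⟨k0, hk0⟩ (fun j => by simp [hz a ha, hz c hc]) (fun j => by rw [hz a ha]; exact hac) P hP)
    · rw [Equiv.Perm.cycleType_def]
      refine Multiset.Nodup.map_on (fun c hc d hd hcd => ?_) x.cycleFactorsFinset.nodup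
      by_contra hne
      rw [Finset.mem_val] at hc hd
      obtain ⟨a, ha, rfl⟩ : ∃ a ∈ x.support, c = x.cycleOf a := by
        obtain ⟨h1, h2⟩ := Equiv.Perm.mem_cycleFactorsFinset_iff.1 hc
        obtain ⟨a, ha⟩ := h1.nonempty_support
        exact ⟨a, Equiv.Perm.mem_cycleFactorsFinset_support_le hc ha,
          Equiv.Perm.cycle_is_cycleOf ha hc⟩
      obtain ⟨b, hb, rfl⟩ : ∃ b ∈ x.support, d = x.cycleOf b := by
        obtain ⟨h1, h2⟩ := Equiv.Perm.mem_cycleFactorsFinset_iff.1 hd
        obtain ⟨b, hb⟩ := h1.nonempty_support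
        exact ⟨b, Equiv.Perm.mem_cycleFactorsFinset_support_le hd hb,
          Equiv.Perm.cycle_is_cycleOf hb hd⟩
      simp only [Function.comp_apply] at hcd
      have hns : ¬ x.SameCycle a b := fun h => hne h.cycleOf_eq
      have hxb : x b ∈ x.support := Equiv.Perm.apply_mem_support.2 hb
      have hb' : x.cycleOf (x b) = x.cycleOf b := by
        rw [Equiv.Perm.cycleOf_self_apply]
      refine hthree a b (x b) (fun h => hns (h ▸ Equiv.Perm.SameCycle.refl x a))
        (fun h => hns (h ▸ Equiv.Perm.sameCycle_apply_left.2 (Equiv.Perm.SameCycle.refl x b)))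
        (Ne.symm (Equiv.Perm.mem_support.1 hb))
        (swap_mem ⟨k0, hk0⟩ (fun j => by rw [hper a ha, hper b hb, hcd]) (fun j h => hns ⟨j, h⟩) P hP)
        (swap_mem ⟨k0, hk0⟩ (fun j => by rw [hper a ha, hper _ hxb, hb', hcd])
          (fun j h => hns (Equiv.Perm.sameCycle_apply_right.1 ⟨j, h⟩)) P hP)
  · rintro ⟨hfix, hnd⟩
    have hgood : Good x := by
      refine ⟨?_, fun k => ?_⟩
      · rw [Nat.card_eq_fintype_card, Fintype.card_subtype]
        have : (Finset.univ.filter fun a => x a = a) = x.supportᶜ := by ext a; simp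
        rw [this, Finset.card_compl, Fintype.card_fin]
        omega
      · rw [Nat.card_eq_fintype_card, Fintype.card_subtype]
        set S := Finset.univ.filter fun a => (x ^ 2 ^ (k + 1)) a = a ∧ (x ^ 2 ^ k) a ≠ a with hS
        rcases S.eq_empty_or_nonempty with h | ⟨a, ha⟩
        · simp [h]
        have hmem : ∀ c ∈ S, c ∈ x.support ∧ (x.cycleOf c).support.card = 2 ^ (k + 1) := by
          intro c hc
          simp only [hS, Finset.mem_filter, Finset.mem_univ, true_and] at hc
          have hcs : c ∈ x.support := Equiv.Perm.mem_support.2 fun h =>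
            hc.2 (Equiv.Perm.pow_apply_eq_self_of_apply_eq_self h _)
          refine ⟨hcs, ?_⟩
          have h1 := hper c hcs (2 ^ (k + 1) : ℕ)
          have h2 := hper c hcs (2 ^ k : ℕ)
          rw [zpow_natCast, Int.natCast_dvd_natCast] at h1 h2
          obtain ⟨i, hi, hi'⟩ := (Nat.dvd_prime_pow Nat.prime_two).1 (h1.1 hc.1)
          rw [hi'] at h2 ⊢
          rcases Nat.lt_or_ge i (k + 1) with h | h
          · exact absurd (h2.2 (pow_dvd_pow 2 (by omega))) hc.2
          · rw [le_antisymm hi h]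
        obtain ⟨has, hac⟩ := hmem a ha
        rw [← hac]
        refine Finset.card_le_card fun c hc => ?_
        obtain ⟨hcs, hcc⟩ := hmem c hc
        rw [Equiv.Perm.cycleType_def] at hnd
        have := Multiset.inj_on_of_nodup_map hnd (x.cycleOf c)
          (Equiv.Perm.cycleOf_mem_cycleFactorsFinset_iff.2 hcs) (x.cycleOf a)
          (Equiv.Perm.cycleOf_mem_cycleFactorsFinset_iff.2 has)
          (by simp [hcc, hac])
        rw [← this, Equiv.Perm.mem_support, Equiv.Perm.cycleOf_apply_self]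
        exact Equiv.Perm.mem_support.1 hcs
    have hX : IsPGroup 2 (Subgroup.zpowers x) := IsPGroup.of_card (n := k0) (by rw [Nat.card_zpowers, hk0])
    obtain ⟨P, hP⟩ := hX.exists_le_sylow
    exact ⟨P, hP (Subgroup.mem_zpowers x), fun Q hQ => sylow_eq x hgood Q P hQ (hP (Subgroup.mem_zpowers x))⟩

end Cfsg.Agent.S4349
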