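import Cfsg.Statements.S4358
import Cfsg.Agent.Lib.Linear.SylowLarge

set_option linter.style.haveILetI false

set_option autoImplicit false
open Cfsg

namespace Cfsg.Agent.S4358

open Finset Matrix
open scoped Pointwise

variable {F : Type*} [Field F] {p : ℕ} [Fact p.Prime]

def mon (t : Fin p → F) (j : Fin p) : Matrix (Fin p) (Fin p) F := fun a b => if b = a + j then t a else 0

theorem mon_mul (t t' : Fin p → F) (j j' : Fin p) : mon t j * mon t' j' = mon (fun a => t a * t' (a + j)) (j + j') := by
  ext a b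
  rw [Matrix.mul_apply, Finset.sum_eq_single (a + j)]
  · simp only [mon, if_true, add_assoc]
    split_ifs <;> simp
  · intro c _ hc
    simp [mon, hc]
  · simp

theorem mon_one : mon (F := F) (fun _ : Fin p => (1 : F)) 0 = 1 := by
  haveI : NeZero p := ⟨(Fact.out : p.Prime).ne_zero⟩
  ext a b
  by_cases h : a = b <;> simp [mon, Matrix.one_apply, h, Ne.symm]

def IsBase (g : GL (Fin p) F) : Prop :=
  ∃ (t : Fin p → F) (j : Fin p), (∀ a, t a ^ p = 1) ∧ (g : Matrix (Fin p) (Fin p) F) = mon t j

theorem isBase_mul {g h : GL (Fin p) F} (hg : IsBase g) (hh : IsBase h) : IsBase (g * h) := by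
  obtain ⟨t, j, ht, hg⟩ := hg
  obtain ⟨t', j', ht', hh⟩ := hh
  exact ⟨fun a => t a * t' (a + j), j + j', fun a => by rw [mul_pow, ht, ht', one_mul], by rw [Units.val_mul, hg, hh, mon_mul]⟩

theorem isBase_one : IsBase (1 : GL (Fin p) F) :=
  haveI : NeZero p := ⟨(Fact.out : p.Prime).ne_zero⟩
  ⟨fun _ => 1, 0, fun _ => one_pow _, by rw [mon_one, Units.val_one]⟩

theorem isBase_inv {g : GL (Fin p) F} (hg : IsBase g) : IsBase g⁻¹ := by
  haveI : NeZero p := ⟨(Fact.out : p.Prime).ne_zero⟩
  obtain ⟨t, j, ht, hg⟩ := hg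
  have ht0 : ∀ a, t a ≠ 0 := fun a h => by
    have := ht a; rw [h, zero_pow (Fact.out : p.Prime).ne_zero] at this; exact zero_ne_one this
  refine ⟨fun a => (t (a - j))⁻¹, -j, fun a => by rw [inv_pow, ht, inv_one], ?_⟩
  have h : (g : Matrix (Fin p) (Fin p) F) * mon (fun a => (t (a - j))⁻¹) (-j) = 1 := by
    rw [hg, mon_mul, ← mon_one]
    congr 1
    · funext a; rw [add_sub_cancel_right, mul_inv_cancel₀ (ht0 a)]
    · exact add_neg_cancel j
  exact (Units.inv_eq_of_mul_eq_one_right h)

variable (F p) in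
def base : Subgroup (GL (Fin p) F) where
  carrier := {g | IsBase g}
  mul_mem' := isBase_mul
  one_mem' := isBase_one
  inv_mem' := isBase_inv

theorem mem_base {g : GL (Fin p) F} : g ∈ base F p ↔ IsBase g := Iff.rfl

theorem mon_ext {t t' : Fin p → F} {j j' : Fin p} (ht : ∀ a, t a ≠ 0) (h : mon t j = mon t' j') : t = t' ∧ j = j' := by
  haveI : NeZero p := ⟨(Fact.out : p.Prime).ne_zero⟩
  have hj : j = j' := by
    by_contra hne
    have := congrFun (congrFun h 0) (0 + j)
    simp [mon, hne, ht 0] at this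
  subst hj
  refine ⟨funext fun a => ?_, rfl⟩
  simpa [mon] using congrFun (congrFun h a) (a + j)

theorem card_base [Fintype F] (h1 : p ∣ Fintype.card F - 1) : Nat.card ↥(base F p) = p ^ (p + 1) := by
  classical
  haveI : NeZero p := ⟨(Fact.out : p.Prime).ne_zero⟩
  have hp := (Fact.out : p.Prime)
  let μ := rootsOfUnity p F
  have hμ : Nat.card μ = p := by
    have h : (rootsOfUnity p F) = (powMonoidHom p : Fˣ →* Fˣ).ker := by ext x; simp [mem_rootsOfUnity]
    show Nat.card ↥(rootsOfUnity p F) = p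
    rw [h, IsCyclic.card_powMonoidHom_ker, Nat.card_eq_fintype_card, Fintype.card_units]
    exact Nat.gcd_eq_right h1
  let f : (Fin p → μ) × Fin p → ↥(base F p) := fun q =>
    ⟨⟨mon (fun a => ((q.1 a : Fˣ) : F)) q.2, mon (fun a => (((q.1 (a - q.2) : Fˣ) : F))⁻¹) (-q.2),
      by
        rw [mon_mul, ← mon_one]
        congr 1
        · funext a; rw [add_sub_cancel_right, mul_inv_cancel₀ (Units.ne_zero _)]
        · exact add_neg_cancel _,
      by
        rw [mon_mul, ← mon_one]
        congr 1
        · funext a; rw [← sub_eq_add_neg, inv_mul_cancel₀ (Units.ne_zero _)]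
        · exact neg_add_cancel _⟩,
      fun a => ((q.1 a : Fˣ) : F), q.2, fun a => by
        have := (mem_rootsOfUnity p _).mp (q.1 a).2
        rw [← Units.val_pow_eq_pow_val, this, Units.val_one], rfl⟩
  have hf : Function.Bijective f := by
    constructor
    · rintro ⟨t, j⟩ ⟨t', j'⟩ h
      obtain ⟨h1', h2'⟩ := mon_ext (fun a => Units.ne_zero _) (congrArg (fun g : ↥(base F p) => ((g : GL (Fin p) F) : Matrix (Fin p) (Fin p) F)) h)
      exact Prod.ext (funext fun a => Subtype.ext (Units.ext (congrFun h1' a))) h2'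
    · rintro ⟨g, t, j, ht, hg⟩
      refine ⟨(fun a => ⟨Units.mk0 (t a) (fun h => by
        have := ht a; rw [h, zero_pow hp.ne_zero] at this; exact zero_ne_one this),
        (mem_rootsOfUnity p _).mpr (Units.ext (by simpa using ht a))⟩, j), Subtype.ext (Units.ext ?_)⟩
      exact hg.symm
  rw [← Nat.card_congr (Equiv.ofBijective f hf), Nat.card_prod, Nat.card_fun, hμ, Nat.card_fin, pow_succ]

theorem sq_not_dvd_sum {q : ℕ} (hp2 : p ≠ 2) (h1 : p ∣ q - 1) (hq : 1 ≤ q) :
    ¬ p ^ 2 ∣ ∑ i ∈ Finset.range p, q ^ i := by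
  obtain ⟨m, hm⟩ := h1
  have hqe : q = p * m + 1 := by omega
  have key : ∀ i : ℕ, (q : ZMod (p ^ 2)) ^ i = 1 + (i : ZMod (p ^ 2)) * (p * m : ℕ) := by
    intro i
    induction i with
    | zero => simp
    | succ i ih =>
      have h0 : ((p : ZMod (p ^ 2)) * p) = 0 := by
        rw [← Nat.cast_mul, ← pow_two]; exact ZMod.natCast_self _
      rw [pow_succ (q : ZMod (p ^ 2)) i, ih, hqe]
      push_cast
      linear_combination (i : ZMod (p ^ 2)) * m * m * h0
  intro hd
  rw [← ZMod.natCast_eq_zero_iff, Nat.cast_sum] at hd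
  simp only [Nat.cast_pow, key, Finset.sum_add_distrib, Finset.sum_const, Finset.card_range, nsmul_one,
    ← Finset.sum_mul] at hd
  rw [← Nat.cast_sum, Finset.sum_range_id, ← Nat.cast_mul, ← Nat.cast_add, ZMod.natCast_eq_zero_iff] at hd
  have hp := (Fact.out : p.Prime)
  obtain ⟨a, ha⟩ := hp.odd_of_ne_two hp2
  have h2 : p * (p - 1) / 2 = p * a := by
    rw [show p - 1 = a * 2 by omega, ← mul_assoc, Nat.mul_div_cancel _ (by norm_num)]
  rw [h2, show p * a * (p * m) = p ^ 2 * (a * m) by ring, Nat.dvd_add_left (Dvd.intro _ rfl)] at hd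
  have := Nat.le_of_dvd hp.pos hd
  nlinarith [hp.two_le]

theorem fact_card [Fintype F] (hp2 : p ≠ 2) (h1 : p ∣ Fintype.card F - 1) (h2 : ¬ p ^ 2 ∣ Fintype.card F - 1) :
    (Nat.card (GL (Fin p) F)).factorization p = p + 1 := by
  classical
  have hp := (Fact.out : p.Prime)
  set q := Fintype.card F with hq
  have hq1 : 1 < q := Fintype.one_lt_card
  have hpq : ¬ p ∣ q := fun h => hp.not_dvd_one (by
    have h' := Nat.dvd_sub h h1
    rwa [show q - (q - 1) = 1 by omega] at h')
  have hd1 : orderOf (q : ZMod p) = 1 := Nat.dvd_one.mp ((Cfsg.Lib.Linear.SylowLarge.dvd_pow_sub_one_iff hpq 1).mp (by rwa [pow_one]))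
  have hf1 : (q - 1).factorization p = 1 := by
    have ha := (hp.dvd_iff_one_le_factorization (by omega)).mp h1
    have hb := mt (hp.pow_dvd_iff_le_factorization (by omega : q - 1 ≠ 0)).mpr h2
    omega
  have hpow : ∀ j, 0 < j → j < p → (q ^ j - 1).factorization p = 1 := by
    intro j hj hjp
    rw [Cfsg.Lib.Linear.SylowLarge.fact_pow_sub_one hpq hq1 hj hjp, hd1, if_pos (one_dvd j),
      Cfsg.Lib.Linear.SylowLarge.vexp, hd1, pow_one, hf1]
  have hfp : (q ^ p - 1).factorization p = 2 := by
    have hS : q ^ p - 1 = (∑ i ∈ Finset.range p, q ^ i) * (q - 1) := by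
      have := geom_sum_mul_add (q - 1) p
      rw [Nat.sub_add_cancel hq1.le] at this
      omega
    have hS0 : (∑ i ∈ Finset.range p, q ^ i) ≠ 0 := fun h => sq_not_dvd_sum hp2 h1 hq1.le (h ▸ dvd_zero _)
    have hdS : p ∣ ∑ i ∈ Finset.range p, q ^ i := by
      rw [← ZMod.natCast_eq_zero_iff, Nat.cast_sum]
      have : (q : ZMod p) = 1 := by
        have := pow_orderOf_eq_one (q : ZMod p); rwa [hd1, pow_one] at this
      simp [Nat.cast_pow, this]
    rw [hS, Nat.factorization_mul hS0 (by omega), Finsupp.add_apply, hf1]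
    have ha := (hp.dvd_iff_one_le_factorization hS0).mp hdS
    have hb := mt (hp.pow_dvd_iff_le_factorization hS0).mpr (sq_not_dvd_sum hp2 h1 hq1.le)
    omega
  rw [Matrix.card_GL_field, Nat.factorization_prod, Finsupp.finsetSum_apply]
  · have : ∀ i : Fin p, (q ^ p - q ^ (i : ℕ)).factorization p = if (i : ℕ) = 0 then 2 else 1 := fun i => by
      have hlt : 1 < q ^ (p - (i : ℕ)) := Nat.one_lt_pow (by omega) hq1
      rw [show q ^ p - q ^ (i : ℕ) = q ^ (i : ℕ) * (q ^ (p - i) - 1) by
        rw [Nat.mul_sub, mul_one, ← pow_add, Nat.add_sub_cancel' i.isLt.le],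
        Nat.factorization_mul (pow_ne_zero _ (by omega)) (by omega), Finsupp.add_apply,
        Nat.factorization_eq_zero_of_not_dvd (fun h => hpq (hp.dvd_of_dvd_pow h)), zero_add]
      split_ifs with h
      · rw [h, Nat.sub_zero]; exact hfp
      · exact hpow _ (by omega) (by omega)
    rw [Finset.sum_congr rfl (fun i _ => this i)]
    obtain ⟨k, rfl⟩ : ∃ k, p = k + 1 := ⟨p - 1, by have := hp.pos; omega⟩
    rw [Fin.sum_univ_succ]
    simp; omega
  · intro i _
    exact (Nat.sub_pos_of_lt (Nat.pow_lt_pow_right hq1 i.isLt)).ne'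

/-- A transvection. -/
def tv (a b : Fin p) (h : a ≠ b) : GL (Fin p) F :=
  ⟨1 + Matrix.single a b 1, 1 - Matrix.single a b 1,
    by simp [Matrix.mul_sub, Matrix.add_mul, Matrix.single_mul_single_of_ne _ _ _ _ h.symm],
    by simp [Matrix.mul_add, Matrix.sub_mul, Matrix.single_mul_single_of_ne _ _ _ _ h.symm]⟩

/-- Monomial matrices. -/
def IsMon (g : Matrix (Fin p) (Fin p) F) : Prop := ∀ b, ∀ a a', g a b ≠ 0 → g a' b ≠ 0 → a = a'

theorem not_normal (hp3 : 3 ≤ p) {ζ : F} (hζp : ζ ^ p = 1) (hζ : ζ ≠ 1) (g : GL (Fin p) F)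
    (hg : ¬ IsMon (g : Matrix (Fin p) (Fin p) F)) :
    ∃ u ∈ base F p, g * u * g⁻¹ ∉ base F p := by
  classical
  haveI : NeZero p := ⟨(Fact.out : p.Prime).ne_zero⟩
  by_contra hall
  push Not at hall
  simp only [IsMon] at hg
  push Not at hg
  obtain ⟨b, a, a', ha, ha', hne⟩ := hg
  have hζ0 : ζ ≠ 0 := fun h => by rw [h, zero_pow (Fact.out : p.Prime).ne_zero] at hζp; exact zero_ne_one hζp
  let d : Fin p → F := Function.update 1 b ζ
  have hd : ∀ c, d c ^ p = 1 := fun c => by
    by_cases h : c = b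
    · subst h; simp [d, hζp]
    · simp [d, h]
  have hdm : mon d 0 = Matrix.diagonal d := by
    ext c e
    by_cases h : c = e <;> simp [mon, Matrix.diagonal, h, Ne.symm]
  let u : GL (Fin p) F := Matrix.GeneralLinearGroup.mkOfDetNeZero (mon d 0) (by
    rw [hdm, Matrix.det_diagonal]
    exact Finset.prod_ne_zero_iff.mpr fun c _ h => by
      have := hd c; rw [h, zero_pow (Fact.out : p.Prime).ne_zero] at this; exact zero_ne_one this)
  obtain ⟨t, j, ht, hv⟩ := hall u ⟨d, 0, hd, rfl⟩
  have ht0 : ∀ c, t c ≠ 0 := fun c h => by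
    have := ht c; rw [h, zero_pow (Fact.out : p.Prime).ne_zero] at this; exact zero_ne_one this
  -- `g u g⁻¹ - 1` has rank one
  set G := (g : Matrix (Fin p) (Fin p) F)
  set G' := ((g⁻¹ : GL (Fin p) F) : Matrix (Fin p) (Fin p) F)
  have hrank : ∀ c e, (mon t j - 1) c e = (ζ - 1) * G c b * G' b e := by
    intro c e
    have hd1 : mon d 0 = 1 + Matrix.single b b (ζ - 1) := by
      rw [hdm]
      ext c e
      by_cases h : c = e
      · subst h
        by_cases hcb : c = b
        · subst hcb; simp [d]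
        · simp [d, hcb, Ne.symm hcb]
      · rw [Matrix.diagonal_apply_ne _ h, Matrix.add_apply, Matrix.one_apply_ne h, Matrix.single_apply,
          if_neg (fun hh => h (hh.1.symm.trans hh.2)), zero_add]
    rw [← hv, Units.val_mul, Units.val_mul, show ((u : GL (Fin p) F) : Matrix (Fin p) (Fin p) F) = mon d 0 from rfl, hd1,
      Matrix.mul_add, Matrix.mul_one, Matrix.add_mul, show G * G' = 1 from Units.mul_inv g, add_sub_cancel_left,
      Matrix.mul_apply, Finset.sum_eq_single b, Matrix.mul_single_apply_same]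
    · ring
    · intro x _ hx
      rw [Matrix.mul_single_apply_of_ne _ _ _ _ _ hx, zero_mul]
    · simp
  by_cases hj : j = 0
  · subst hj
    have hcol : ∀ c, c ≠ a → G' b c = 0 := fun c hc => by
      have := hrank a c
      simpa [mon, hc, Ne.symm hc, Matrix.one_apply, sub_ne_zero.mpr hζ, ha] using this
    have hcol' : G' b a = 0 := by
      have := hrank a' a
      simpa [mon, hne, hne.symm, Matrix.one_apply, sub_ne_zero.mpr hζ, ha'] using this
    have hb : (G' * G) b b = 1 := by rw [show G' * G = 1 from Units.inv_mul g, Matrix.one_apply_eq]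
    rw [Matrix.mul_apply, Finset.sum_eq_zero fun c _ => by
      rcases eq_or_ne c a with rfl | hc
      · rw [hcol', zero_mul]
      · rw [hcol c hc, zero_mul]] at hb
    exact zero_ne_one hb
  · have h2j : j + j ≠ 0 := by
      intro h
      apply hj
      have h' := congrArg Fin.val h
      rw [Fin.val_add, Fin.val_zero] at h'
      have hp := (Fact.out : p.Prime)
      obtain ⟨k, hk⟩ := Nat.dvd_of_mod_eq_zero h'
      obtain ⟨w, hw⟩ := hp.odd_of_ne_two (by omega)
      refine Fin.ext ?_
      have := j.isLt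
      rw [Fin.val_zero]
      rcases Nat.lt_or_ge k 2 with hk2 | hk2
      · interval_cases k
        · omega
        · omega
      · nlinarith
    have h00 := hrank 0 0
    have h12 := hrank j (j + j)
    have h02 := hrank 0 (j + j)
    have h10 := hrank j 0
    have hjjj : j + j ≠ j := fun h => hj (by simpa using h)
    simp [mon, Matrix.one_apply, hj, Ne.symm hj, h2j, Ne.symm h2j, hjjj, Ne.symm hjjj] at h00 h12 h02 h10
    have e : (-1 : F) * t j = ((ζ - 1) * G 0 b * G' b (j + j)) * ((ζ - 1) * G j b * G' b 0) := by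
      rw [h00, h12]; ring
    have h02' : (ζ - 1) * G 0 b * G' b (j + j) = 0 := by
      rcases h02 with (h | h) | h <;> simp [h]
    rw [h02', zero_mul] at e
    exact ht0 j (by simpa using e)

/-- Let p be an odd prime and F a finite field with q elements such that p divides q - 1 but p² does not. Then GL(p, F) has a Sylow p-subgroup Q such that every element of p-power order lies in some Sylow p-subgroup other than Q (a redundant Sylow p-subgroup). -/
theorem result {F : Type*} [Field F] [Fintype F] (p : ℕ) [Fact p.Prime]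
    (hp : p ≠ 2) (h1 : p ∣ Fintype.card F - 1) (h2 : ¬ p ^ 2 ∣ Fintype.card F - 1) :
    ∃ Q : Sylow p (Matrix.GeneralLinearGroup (Fin p) F), ∀ x : Matrix.GeneralLinearGroup (Fin p) F,
      (∃ k : ℕ, orderOf x = p ^ k) → ∃ P : Sylow p (Matrix.GeneralLinearGroup (Fin p) F), P ≠ Q ∧ x ∈ P := by
  classical
  have hpp := (Fact.out : p.Prime)
  have hp3 : 3 ≤ p := by have := hpp.two_le; omega
  haveI : NeZero p := ⟨hpp.ne_zero⟩
  let P₀ : Sylow p (GL (Fin p) F) := Sylow.ofCard (base F p) (by rw [card_base h1, fact_card hp h1 h2])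
  have hP₀ : ∀ g, g ∈ P₀ ↔ IsBase g := fun g => Iff.rfl
  obtain ⟨ζ, hζ⟩ : ∃ ζ : Fˣ, orderOf ζ = p := by
    refine exists_prime_orderOf_dvd_card' p ?_
    rwa [Nat.card_eq_fintype_card, Fintype.card_units]
  have hζp : (ζ : F) ^ p = 1 := by
    rw [← Units.val_pow_eq_pow_val, orderOf_dvd_iff_pow_eq_one.mp (dvd_of_eq hζ), Units.val_one]
  have hζ1 : (ζ : F) ≠ 1 := fun h => hpp.ne_one (by
    rw [← hζ, show ζ = 1 from Units.ext (by rw [h, Units.val_one]), orderOf_one])
  let Two : GL (Fin p) F → Prop := fun x => ∃ g : GL (Fin p) F, x ∈ P₀ ∧ x ∈ g • P₀ ∧ g • P₀ ≠ P₀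
  have hmk : ∀ (x g : GL (Fin p) F), IsBase x → g * x = x * g → ¬ IsMon (g : Matrix (Fin p) (Fin p) F) → Two x := by
    intro x g hx hc hg
    obtain ⟨u, hu, hu'⟩ := not_normal hp3 hζp hζ1 g hg
    refine ⟨g, hx, ?_, fun h => hu' ?_⟩
    · show x ∈ ((g • P₀ : Sylow p (GL (Fin p) F)) : Subgroup (GL (Fin p) F))
      rw [Sylow.coe_subgroup_smul, Subgroup.mem_pointwise_smul_iff_inv_smul_mem, MulAut.smul_def, MulAut.conj_inv_apply,
        mul_assoc, ← hc, inv_mul_cancel_left]
      exact hx
    · have : g * u * g⁻¹ ∈ ((g • P₀ : Sylow p (GL (Fin p) F)) : Subgroup (GL (Fin p) F)) := by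
        rw [Sylow.coe_subgroup_smul, Subgroup.mem_pointwise_smul_iff_inv_smul_mem, MulAut.smul_def, MulAut.conj_inv_apply]
        rw [show g⁻¹ * (g * u * g⁻¹) * g = u by group]
        exact hu
      rwa [h] at this
  -- elements outside the diagonal
  have hcyc : ∀ (x : GL (Fin p) F) (t : Fin p → F) (j : Fin p), (∀ a, t a ^ p = 1) → j ≠ 0 →
      (x : Matrix (Fin p) (Fin p) F) = mon t j → Two x := by
    intro x t j ht hj hx
    set X := (x : Matrix (Fin p) (Fin p) F) with hX
    have ht0 : ∀ a, t a ≠ 0 := fun a h => by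
      have := ht a; rw [h, zero_pow hpp.ne_zero] at this; exact zero_ne_one this
    let jj : ℕ → Fin p := fun k => Nat.rec 0 (fun _ c => c + j) k
    have hjj : ∀ k : ℕ, (jj k).val = k * j.val % p := by
      intro k
      induction k with
      | zero => simp [jj]
      | succ k ih => rw [show jj (k + 1) = jj k + j from rfl, Fin.val_add, ih, Nat.succ_mul, Nat.mod_add_mod]
    have hpw : ∀ k : ℕ, ∃ t' : Fin p → F, (∀ a, t' a ≠ 0) ∧ X ^ k = mon t' (jj k) := by
      intro k
      induction k with
      | zero => exact ⟨fun _ => 1, fun _ => one_ne_zero, by rw [pow_zero, ← mon_one]; rfl⟩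
      | succ k ih =>
        obtain ⟨t', ht', he⟩ := ih
        exact ⟨_, fun a => mul_ne_zero (ht' a) (ht0 _), by rw [pow_succ, he, hx, mon_mul]⟩
    have hjinj : ∀ k l, k < p → l < p → jj k = jj l → k = l := by
      intro k l hk hl h
      have h' := congrArg Fin.val h
      rw [hjj, hjj] at h'
      have hj' : Nat.Coprime p (j : ℕ) := (hpp.coprime_iff_not_dvd).mpr fun hd => hj (Fin.ext (by
        rw [Fin.val_zero]; exact Nat.eq_zero_of_dvd_of_lt hd j.isLt))
      have h2' : k ≡ l [MOD p] := Nat.ModEq.cancel_right_of_coprime hj' h'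
      rwa [Nat.ModEq, Nat.mod_eq_of_lt hk, Nat.mod_eq_of_lt hl] at h2'
    by_cases h1' : X ^ p = 1
    · obtain ⟨a, ha0, ha1⟩ : ∃ a : F, a ≠ 0 ∧ a ≠ 1 := ⟨ζ, ζ.ne_zero, hζ1⟩
      have hpF : (p : F) ≠ 0 := by
        intro h0
        obtain ⟨m, hm⟩ := h1
        have h' : ((Fintype.card F - 1 : ℕ) : F) = 0 := by rw [hm, Nat.cast_mul, h0, zero_mul]
        rw [Nat.cast_sub Fintype.one_lt_card.le, FiniteField.cast_card_eq_zero] at h'
        simp at h'
      set S := ∑ i ∈ Finset.range p, X ^ i with hS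
      have hXS : X * S = S := by
        have h' : S * (X - 1) = 0 := by rw [hS, geom_sum_mul, h1', sub_self]
        rw [mul_sub, mul_one, sub_eq_zero] at h'
        rw [← ((Commute.refl X).pow_right p |> fun _ => Commute.sum_right _ _ _ fun i _ => (Commute.refl X).pow_right i : Commute X S).eq] at h'
        exact h'
      have hSS : S * S = (p : F) • S := by
        have : ∀ i : ℕ, X ^ i * S = S := fun i => by
          induction i with
          | zero => rw [pow_zero, one_mul]
          | succ i ih => rw [pow_succ, mul_assoc, hXS, ih]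
        conv_lhs => arg 1; rw [hS]
        rw [Finset.sum_mul, Finset.sum_congr rfl (fun i _ => this i), Finset.sum_const, Finset.card_range, Nat.cast_smul_eq_nsmul]
      set c := (a - 1) / (p : F) with hc
      set G : Matrix (Fin p) (Fin p) F := 1 + c • S with hG
      have hinv : G * (1 + ((a⁻¹ - 1) / (p : F)) • S) = 1 := by
        rw [hG, Matrix.add_mul, Matrix.one_mul, Matrix.mul_add, Matrix.mul_one, Matrix.smul_mul, Matrix.mul_smul, hSS, smul_smul,
          smul_smul, add_assoc, ← add_smul, ← add_smul]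
        convert add_zero (1 : Matrix (Fin p) (Fin p) F) using 2
        rw [show (a⁻¹ - 1) / (p : F) + (c + c * ((a⁻¹ - 1) / (p : F)) * p) = 0 by rw [hc]; field_simp; ring, zero_smul]
      let g : GL (Fin p) F := ⟨G, _, hinv, mul_eq_one_comm.mp hinv⟩
      refine hmk x g ⟨t, j, ht, hx⟩ (Units.ext ?_) ?_
      · show G * X = X * G
        rw [hG, Matrix.add_mul, Matrix.one_mul, Matrix.mul_add, Matrix.mul_one, Matrix.smul_mul, Matrix.mul_smul]
        congr 2
        rw [hS, Finset.sum_mul, Finset.mul_sum]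
        exact Finset.sum_congr rfl fun i _ => (pow_mul_comm' X i)
      · intro hmon
        have hentry : ∀ k, k < p → k ≠ 0 → ∀ a', G a' (a' + jj k) ≠ 0 := by
          intro k hk hk0 a'
          have hne : a' ≠ a' + jj k := fun h => hk0 (hjinj k 0 hk hpp.pos (by simpa [jj] using h.symm))
          rw [hG, Matrix.add_apply, Matrix.one_apply_ne hne, zero_add, Matrix.smul_apply, hS, Matrix.sum_apply,
            Finset.sum_eq_single k]
          · obtain ⟨t', ht', he⟩ := hpw k
            rw [he, smul_eq_mul]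
            simp [mon, ht' a', hc, sub_ne_zero.mpr ha1, hpF]
          · intro l hl hlk
            obtain ⟨t', -, he⟩ := hpw l
            rw [he]
            simp only [mon]
            rw [if_neg]
            exact fun h => hlk (hjinj l k (Finset.mem_range.mp hl) hk (add_left_cancel h).symm)
          · simp [hk]
        have e := hmon (0 + jj 1) 0 (0 + jj 1 - jj 2) (hentry 1 hpp.one_lt one_ne_zero 0) (by
          have := hentry 2 (by omega) (by omega) (0 + jj 1 - jj 2)
          rwa [sub_add_cancel] at this)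
        rw [zero_add, eq_comm, sub_eq_zero] at e
        exact absurd (hjinj 1 2 hpp.one_lt (by omega) e) (by norm_num)
    · obtain ⟨t', -, he⟩ := hpw p
      have hjp : jj p = 0 := Fin.ext (by rw [hjj, Nat.mul_mod_right, Fin.val_zero])
      rw [hjp] at he
      have hconst : ∀ a, t' (a + j) = t' a := fun a => by
        have hc' : X ^ p * X = X * X ^ p := (pow_mul_comm' X p)
        rw [he, hx, mon_mul, mon_mul] at hc'
        have := congrFun (mon_ext (fun b => mul_ne_zero (by
          intro h0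
          have h3 : Matrix.det (X ^ p) = 0 := by
            rw [he]; exact Matrix.det_eq_zero_of_row_eq_zero b fun e => by simp [mon, h0]
          rw [Matrix.det_pow] at h3
          exact ((Matrix.isUnit_iff_isUnit_det X).mp x.isUnit).ne_zero (pow_eq_zero_iff hpp.ne_zero |>.mp h3)) (ht0 _)) hc').1 a
        simp only [add_zero] at this
        rw [mul_comm] at this
        exact (mul_left_cancel₀ (ht0 a) this).symm
      have hall : ∀ k, t' (jj k) = t' 0 := by
        intro k
        induction k with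
        | zero => rfl
        | succ k ih => show t' (jj k + j) = _; rw [hconst, ih]
      have hsurj : ∀ b : Fin p, ∃ k : Fin p, jj k = b := by
        have : Function.Bijective fun k : Fin p => jj k :=
          Finite.injective_iff_bijective.mp fun k l h => Fin.ext (hjinj _ _ k.2 l.2 h)
        exact this.2
      have hXp : X ^ p = (t' 0) • 1 := by
        rw [he]
        ext a b
        obtain ⟨k, rfl⟩ := hsurj a
        rcases eq_or_ne b (jj k) with rfl | hb
        · simp [mon, hall]
        · simp [mon, hb, Ne.symm hb]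
      have hc1 : t' 0 ≠ 1 := fun h => h1' (by rw [hXp, h, one_smul])
      have hinv : (1 - X) * ((1 - t' 0)⁻¹ • ∑ i ∈ Finset.range p, X ^ i) = 1 := by
        rw [Matrix.mul_smul, mul_neg_geom_sum, hXp]
        ext a b
        have := sub_ne_zero.mpr (Ne.symm hc1)
        by_cases hab : a = b <;> simp [Matrix.one_apply, hab] <;> field_simp
      let g : GL (Fin p) F := ⟨1 - X, _, hinv, mul_eq_one_comm.mp hinv⟩
      refine hmk x g ⟨t, j, ht, hx⟩ (Units.ext ?_) ?_
      · show (1 - X) * X = X * (1 - X)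
        rw [Matrix.sub_mul, Matrix.mul_sub, Matrix.one_mul, Matrix.mul_one]
      · intro hmon
        have hne : (0 : Fin p) ≠ 0 + j := fun h => hj (by simpa using h.symm)
        have e := hmon (0 + j) 0 (0 + j) (by
          show (1 - X) 0 (0 + j) ≠ 0
          rw [hx, Matrix.sub_apply, Matrix.one_apply_ne hne]
          simp [mon, ht0]) (by
          show (1 - X) (0 + j) (0 + j) ≠ 0
          rw [hx, Matrix.sub_apply, Matrix.one_apply_eq]
          simp [mon, hj, Ne.symm hj])
        exact hne e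
  have hconj : ∀ x : GL (Fin p) F, IsBase x → Two x ∨ ∃ g y, Two y ∧ x = g * y * g⁻¹ := by
    intro x hx
    obtain ⟨t, j, ht, hxm⟩ := hx
    by_cases hj : j = 0
    swap
    · exact Or.inl (hcyc x t j ht hj hxm)
    subst hj
    have hdiag : (x : Matrix (Fin p) (Fin p) F) = Matrix.diagonal t := by
      rw [hxm]
      ext a b
      by_cases h : a = b <;> simp [mon, h, Ne.symm]
    by_cases hinj : Function.Injective t
    swap
    · left
      simp only [Function.Injective] at hinj
      push Not at hinj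
      obtain ⟨a, b, hab, hne⟩ := hinj
      refine hmk x (tv a b hne) ⟨t, 0, ht, hxm⟩ (Units.ext ?_) ?_
      · show ((1 : Matrix (Fin p) (Fin p) F) + Matrix.single a b 1) * (x : Matrix (Fin p) (Fin p) F) = (x : Matrix (Fin p) (Fin p) F) * ((1 : Matrix (Fin p) (Fin p) F) + Matrix.single a b 1)
        rw [hdiag, Matrix.add_mul, Matrix.mul_add, Matrix.one_mul, Matrix.mul_one]
        congr 1
        ext c d
        simp only [Matrix.mul_diagonal, Matrix.diagonal_mul, Matrix.single_apply]
        split_ifs with h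
        · rw [← h.1, ← h.2, hab]; ring
        · simp
      · intro hmon
        exact hne (hmon b a b (by simp [tv, hne]) (by simp [tv, hne]))
    · right
      let V : Matrix (Fin p) (Fin p) F := Matrix.vandermonde t
      have hV : V.det ≠ 0 := Matrix.det_vandermonde_ne_zero_iff.mpr hinj
      let v : GL (Fin p) F := Matrix.GeneralLinearGroup.mkOfDetNeZero V hV
      refine ⟨v, v⁻¹ * x * v, ?_, by group⟩
      have hneg : (-1 : Fin p) ≠ 0 := neg_ne_zero.mpr (by
        intro h
        have := congrArg Fin.val h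
        rw [Fin.val_one', Fin.val_zero, Nat.mod_eq_of_lt hpp.one_lt] at this
        exact one_ne_zero this)
      refine hcyc _ (fun _ => 1) (-1) (fun _ => one_pow _) hneg ?_
      have hxV : (x : Matrix (Fin p) (Fin p) F) * V = V * mon (fun _ => (1 : F)) (-1) := by
        ext a b
        rw [hdiag, Matrix.diagonal_mul, Matrix.mul_apply, Finset.sum_eq_single (b + 1)]
        · show t a * t a ^ (b : ℕ) = t a ^ (((b + 1 : Fin p)) : ℕ) * mon (fun _ => (1 : F)) (-1) (b + 1) b
          simp only [mon, add_neg_cancel_right, if_true, mul_one]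
          rw [← pow_succ', Fin.val_add, Fin.val_one', Nat.add_mod_mod]
          exact (pow_eq_pow_mod _ (ht a))
        · intro c _ hc
          rw [mon, if_neg, mul_zero]
          intro h
          exact hc (by rw [h, neg_add_cancel_right])
        · simp
      rw [Units.val_mul, Units.val_mul, mul_assoc, show ((v : GL (Fin p) F) : Matrix (Fin p) (Fin p) F) = V from rfl, hxV,
        ← mul_assoc, show ((v⁻¹ : GL (Fin p) F) : Matrix (Fin p) (Fin p) F) * V = 1 from Units.inv_mul v, one_mul]
  refine ⟨P₀, fun x hxk => ?_⟩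
  obtain ⟨k, hk⟩ := hxk
  have hxp : IsPGroup p (Subgroup.zpowers x) := IsPGroup.of_card (n := k) (by rw [Nat.card_zpowers, hk])
  obtain ⟨P, hP⟩ := hxp.exists_le_sylow
  obtain ⟨g, hg⟩ := MulAction.exists_smul_eq (GL (Fin p) F) P P₀
  have hxb : IsBase (g * x * g⁻¹) := by
    have h' : g * x * g⁻¹ ∈ ((g • P : Sylow p (GL (Fin p) F)) : Subgroup (GL (Fin p) F)) := by
      rw [Sylow.coe_subgroup_smul, Subgroup.mem_pointwise_smul_iff_inv_smul_mem, MulAut.smul_def, MulAut.conj_inv_apply,
        show g⁻¹ * (g * x * g⁻¹) * g = x by group]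
      exact hP (Subgroup.mem_zpowers x)
    rw [hg] at h'
    exact h'
  have hfin : ∀ y h, Two y → x = h * y * h⁻¹ → ∃ P : Sylow p (GL (Fin p) F), P ≠ P₀ ∧ x ∈ P := by
    intro y h ⟨g', hy1, hy2, hne⟩ hxy
    have hmem : ∀ R : Sylow p (GL (Fin p) F), y ∈ R → x ∈ h • R := fun R hR => by
      show x ∈ ((h • R : Sylow p (GL (Fin p) F)) : Subgroup (GL (Fin p) F))
      rw [Sylow.coe_subgroup_smul, Subgroup.mem_pointwise_smul_iff_inv_smul_mem, MulAut.smul_def, MulAut.conj_inv_apply, hxy,
        show h⁻¹ * (h * y * h⁻¹) * h = y by group]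
      exact hR
    by_cases hh : h • P₀ = P₀
    · exact ⟨h • g' • P₀, fun he => hne (MulAction.injective h (he.trans hh.symm)), hmem _ hy2⟩
    · exact ⟨h • P₀, hh, hmem _ hy1⟩
  rcases hconj _ hxb with h | ⟨h', y, hy, hxy⟩
  · exact hfin _ g⁻¹ h (by group)
  · exact hfin y (g⁻¹ * h') hy (by
      calc x = g⁻¹ * (g * x * g⁻¹) * g := by group
        _ = _ := by rw [hxy]; group)

end Cfsg.Agent.S4358
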