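import Mathlib
import Cfsg.Statements.S4359
-- import your own Cfsg.Agent.* helpers here

set_option autoImplicit false
open Pointwise
open Cfsg

namespace Cfsg.Agent.S4359

open scoped Pointwise commutatorElement

section Chain

variable {G : Type*} [Group G] {p : ℕ} (σ : MulAut G) (P : Subgroup G)

/-- The meet of `P` with its first `j` images. -/
def chain : ℕ → Subgroup G
  | 0 => P
  | j + 1 => chain j ⊓ σ • chain j

theorem chain_le_self (j : ℕ) : chain σ P (j + 1) ≤ chain σ P j := inf_le_left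

theorem inv_smul_chain_le (j : ℕ) : σ⁻¹ • chain σ P (j + 1) ≤ chain σ P j := by
  intro x hx
  rw [Subgroup.mem_pointwise_smul_iff_inv_smul_mem, inv_inv] at hx
  have h := Subgroup.mem_pointwise_smul_iff_inv_smul_mem.1 hx.2
  simpa using h

theorem smul_normal {H K : Subgroup G} (a : MulAut G) (h : ∀ x ∈ K, ∀ y ∈ H, x * y * x⁻¹ ∈ H) :
    ∀ x ∈ a • K, ∀ y ∈ a • H, x * y * x⁻¹ ∈ a • H := by
  intro x hx y hy
  rw [Subgroup.mem_pointwise_smul_iff_inv_smul_mem] at hx hy ⊢
  simp only [MulAut.smul_def, map_mul, map_inv] at hx hy ⊢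
  exact h _ hx _ hy

theorem relIndex_smul [Finite G] (a : MulAut G) {H K : Subgroup G} (hle : H ≤ K) :
    (a • H).relIndex (a • K) = H.relIndex K := by
  have hle' : a • H ≤ a • K := Subgroup.pointwise_smul_le_pointwise_smul_iff.2 hle
  have h1 := Subgroup.relIndex_mul_relIndex ⊥ (a • H) (a • K) bot_le hle'
  have h2 := Subgroup.relIndex_mul_relIndex ⊥ H K bot_le hle
  simp only [Subgroup.relIndex_bot_left] at h1 h2
  rw [← Nat.card_congr (Subgroup.equivSMul a H).toEquiv,
    ← Nat.card_congr (Subgroup.equivSMul a K).toEquiv, ← h2] at h1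
  exact Nat.eq_of_mul_eq_mul_left Nat.card_pos h1

theorem relIndex_dvd [Finite G] {H K L : Subgroup G} (hH : ∀ x ∈ K, ∀ y ∈ H, x * y * x⁻¹ ∈ H)
    (hL : L ≤ K) : H.relIndex L ∣ H.relIndex K := by
  haveI : (H.subgroupOf K).Normal := ⟨fun n hn a => hH a a.2 n hn⟩
  rw [← Subgroup.relIndex_subgroupOf hL]
  exact Subgroup.relIndex_dvd_index_of_normal _ _

theorem chain_step [Finite G] (hN : ∀ x ∈ P, ∀ y ∈ chain σ P 1, x * y * x⁻¹ ∈ chain σ P 1)
    (hI : (chain σ P 1).relIndex P ∣ p) : ∀ j,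
    (∀ x ∈ chain σ P j, ∀ y ∈ chain σ P (j + 1), x * y * x⁻¹ ∈ chain σ P (j + 1)) ∧
      (chain σ P (j + 1)).relIndex (chain σ P j) ∣ p
  | 0 => ⟨hN, hI⟩
  | j + 1 => by
    obtain ⟨ih1, ih2⟩ := chain_step hN hI j
    have hn := smul_normal σ ih1
    have hL : chain σ P (j + 1) ≤ σ • chain σ P j := inf_le_right
    refine ⟨fun x hx y hy => ⟨(chain σ P (j + 1)).mul_mem ((chain σ P (j + 1)).mul_mem hx hy.1) ((chain σ P (j + 1)).inv_mem hx),
      hn x (hL hx) y hy.2⟩, ?_⟩
    show (chain σ P (j + 1) ⊓ σ • chain σ P (j + 1)).relIndex (chain σ P (j + 1)) ∣ p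
    rw [Subgroup.inf_relIndex_left]
    exact ((relIndex_dvd hn hL).trans (relIndex_smul σ (chain_le_self σ P j)).dvd).trans ih2

theorem card_step [Finite G] (j : ℕ) : Nat.card (chain σ P (j + 1)) *
    (chain σ P (j + 1)).relIndex (chain σ P j) = Nat.card (chain σ P j) := by
  have h := Subgroup.relIndex_mul_relIndex ⊥ (chain σ P (j + 1)) (chain σ P j) bot_le (chain_le_self σ P j)
  simpa only [Subgroup.relIndex_bot_left] using h

/-- A chain of strict inclusions of index `p` down to the trivial group. -/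
theorem chain_top [Finite G] (hp : p.Prime)
    (hN : ∀ x ∈ P, ∀ y ∈ chain σ P 1, x * y * x⁻¹ ∈ chain σ P 1)
    (hI : (chain σ P 1).relIndex P = p)
    (hcore : ∀ Q : Subgroup G, Q ≤ P → (Q.subgroupOf P).Normal → σ • Q = Q → Q = ⊥) :
    ∃ t, 1 ≤ t ∧ Nat.card P = p ^ t ∧ (∀ l ≤ t, Nat.card (chain σ P (t - l)) = p ^ l) ∧
      ∀ j, j + 1 < t → chain σ P j = chain σ P (j + 1) ⊔ σ⁻¹ • chain σ P (j + 1) := by
  classical
  have step := chain_step σ P hN hI.dvd
  have hex : ∃ t, chain σ P (t + 1) = chain σ P t := by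
    by_contra hne
    push Not at hne
    have hlt : ∀ j, Nat.card (chain σ P j) + j ≤ Nat.card P := by
      intro j
      induction j with
      | zero => exact le_rfl
      | succ j ih =>
        have : Nat.card (chain σ P (j + 1)) < Nat.card (chain σ P j) := by
          refine lt_of_le_of_ne (Subgroup.card_le_of_le (chain_le_self σ P j)) fun h => hne j ?_
          exact Subgroup.eq_of_le_of_card_ge (chain_le_self σ P j) h.ge
        omega
    have := hlt (Nat.card P + 1)
    omega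
  set t := Nat.find hex with htdef
  have ht : chain σ P (t + 1) = chain σ P t := Nat.find_spec hex
  have hidx : ∀ j, j < t → (chain σ P (j + 1)).relIndex (chain σ P j) = p := by
    intro j hj
    rcases (Nat.dvd_prime hp).1 (step j).2 with h | h
    · exact absurd (le_antisymm (chain_le_self σ P j) (Subgroup.relIndex_eq_one.1 h)) (Nat.find_min hex hj)
    · exact h
  have ht1 : 1 ≤ t := by
    rcases Nat.eq_zero_or_pos t with h | h
    · rw [h] at ht
      have hP : chain σ P 0 = P := rfl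
      rw [hP] at ht
      rw [ht, Subgroup.relIndex_self] at hI
      exact absurd hI.symm hp.one_lt.ne'
    · exact h
  have hsup : ∀ j, j + 1 < t → chain σ P j = chain σ P (j + 1) ⊔ σ⁻¹ • chain σ P (j + 1) := by
    intro j hj
    set S := chain σ P (j + 1) ⊔ σ⁻¹ • chain σ P (j + 1) with hS
    have hSle : S ≤ chain σ P j := sup_le (chain_le_self σ P j) (inv_smul_chain_le σ P j)
    have hmul := Subgroup.relIndex_mul_relIndex (chain σ P (j + 1)) S (chain σ P j) le_sup_left hSle
    rw [hidx j (by omega)] at hmul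
    rcases (Nat.dvd_prime hp).1 ⟨_, hmul.symm⟩ with h | h
    · exfalso
      have hle : σ⁻¹ • chain σ P (j + 1) ≤ chain σ P (j + 1) :=
        le_sup_right.trans (Subgroup.relIndex_eq_one.1 h)
      refine Nat.find_min hex hj (le_antisymm (chain_le_self σ P (j + 1)) fun y hy => ⟨hy, ?_⟩)
      have := Subgroup.pointwise_smul_le_pointwise_smul_iff (a := σ).2 hle
      rw [smul_inv_smul] at this
      exact this hy
    · rw [h] at hmul
      have := Subgroup.relIndex_eq_one.1 (Nat.eq_of_mul_eq_mul_left hp.pos (hmul.trans (mul_one p).symm))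
      exact le_antisymm this hSle
  set Q := chain σ P t with hQ
  have hQs : σ • Q = Q := by
    have h1 : Q ≤ σ • Q := by
      conv_lhs => rw [← ht]
      exact inf_le_right
    exact (Subgroup.eq_of_le_of_card_ge h1 (Nat.card_congr (Subgroup.equivSMul σ Q).toEquiv).ge).symm
  have hQmem : ∀ b, b ∈ Q ↔ σ b ∈ Q := by
    intro b
    conv_rhs => rw [← hQs]
    rw [Subgroup.mem_pointwise_smul_iff_inv_smul_mem, MulAut.smul_def, MulAut.inv_apply_self]
  have hnorm : ∀ i j, j + i + 1 = t → chain σ P j ≤ Subgroup.normalizer (Q : Set G) := by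
    intro i
    induction i with
    | zero =>
      intro j hj x hx
      have hjt : Q = chain σ P (j + 1) := by rw [hQ]; congr 1; omega
      rw [Subgroup.mem_normalizer_iff]
      intro b
      rw [hjt]
      refine ⟨fun hb => (step j).1 x hx b hb, fun hb => ?_⟩
      have := (step j).1 x⁻¹ (inv_mem hx) _ hb
      simpa [mul_assoc] using this
    | succ i ih =>
      intro j hj
      have h := ih (j + 1) (by omega)
      rw [hsup j (by omega)]
      refine sup_le h fun y hy => ?_
      rw [Subgroup.mem_pointwise_smul_iff_inv_smul_mem, inv_inv, MulAut.smul_def] at hy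
      have := Subgroup.mem_normalizer_iff.1 (h hy)
      rw [Subgroup.mem_normalizer_iff]
      intro b
      rw [hQmem b, hQmem (y * b * y⁻¹), map_mul, map_mul, map_inv]
      exact this (σ b)
  have hle0 : ∀ j, chain σ P j ≤ P := fun j => by
    induction j with
    | zero => exact le_rfl
    | succ j ih => exact (chain_le_self σ P j).trans ih
  have hbot : Q = ⊥ := hcore Q (hle0 t)
    ((Subgroup.normal_subgroupOf_iff_le_normalizer (hle0 t)).2 (hnorm (t - 1) 0 (by omega))) hQs
  have hcard : ∀ l ≤ t, Nat.card (chain σ P (t - l)) = p ^ l := by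
    intro l
    induction l with
    | zero => intro _; rw [Nat.sub_zero, ← hQ, hbot]; simp
    | succ l ih =>
      intro hl
      have h := card_step σ P (t - (l + 1))
      rw [hidx _ (by omega), show t - (l + 1) + 1 = t - l by omega, ih (by omega)] at h
      rw [← h, pow_succ]
  exact ⟨t, ht1, by simpa [chain] using hcard t le_rfl, hcard, hsup⟩

end Chain

section Seq

variable {G : Type*} [Group G] (σ : MulAut G) (x : G)

/-- The shifted generators. -/
def gen (i : ℤ) : G := (σ ^ (-i)) x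

/-- The span of `l` consecutive generators. -/
def seg (a : ℤ) (l : ℕ) : Subgroup G :=
  Subgroup.closure {y | ∃ i < l, y = gen σ x (a + (i : ℕ))}

theorem pow_gen (k i : ℤ) : (σ ^ (-k)) (gen σ x i) = gen σ x (i + k) := by
  rw [gen, gen, ← MulAut.mul_apply, ← zpow_add]
  congr 2
  ring

theorem gen_mem_seg {a i : ℤ} {l : ℕ} (h1 : a ≤ i) (h2 : i < a + l) : gen σ x i ∈ seg σ x a l :=
  Subgroup.subset_closure ⟨(i - a).toNat, by omega, by congr 1; omega⟩

theorem seg_zero (a : ℤ) : seg σ x a 0 = ⊥ := by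
  simp [seg]

theorem seg_le {a : ℤ} {l : ℕ} {H : Subgroup G} (h : ∀ i : ℤ, a ≤ i → i < a + l → gen σ x i ∈ H) :
    seg σ x a l ≤ H := by
  rw [seg, Subgroup.closure_le]
  rintro y ⟨i, hi, rfl⟩
  exact h _ (by omega) (by omega)

theorem seg_mono {a b : ℤ} {l k : ℕ} (h1 : b ≤ a) (h2 : a + l ≤ b + k) : seg σ x a l ≤ seg σ x b k :=
  seg_le σ x fun _ hi hi' => gen_mem_seg σ x (by omega) (by omega)

theorem seg_one (a : ℤ) : seg σ x a 1 = Subgroup.zpowers (gen σ x a) := by
  refine le_antisymm (seg_le σ x fun i h1 h2 => ?_)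
    (Subgroup.zpowers_le.2 (gen_mem_seg σ x le_rfl (by omega)))
  rw [show i = a by omega]
  exact Subgroup.mem_zpowers _

theorem smul_seg (k a : ℤ) (l : ℕ) : (σ ^ (-k)) • seg σ x a l = seg σ x (a + k) l := by
  rw [seg, seg, Subgroup.smul_closure]
  congr 1
  ext y
  simp only [Set.mem_smul_set, Set.mem_ofPred_eq, MulAut.smul_def]
  constructor
  · rintro ⟨z, ⟨i, hi, rfl⟩, rfl⟩
    exact ⟨i, hi, by rw [pow_gen]; congr 1; ring⟩
  · rintro ⟨i, hi, rfl⟩
    exact ⟨_, ⟨i, hi, rfl⟩, by rw [pow_gen]; congr 1; ring⟩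

theorem commute_seg {y : G} {a : ℤ} {l : ℕ}
    (h : ∀ i : ℤ, a ≤ i → i < a + l → Commute y (gen σ x i)) {z : G} (hz : z ∈ seg σ x a l) :
    Commute y z := by
  have : seg σ x a l ≤ Subgroup.centralizer ({y} : Set G) :=
    seg_le σ x fun i h1 h2 => Subgroup.mem_centralizer_singleton_iff.2 (h i h1 h2).eq.symm
  exact (Subgroup.mem_centralizer_singleton_iff.1 (this hz)).symm

theorem split_left {a : ℤ} {l : ℕ}
    (h : ∀ i : ℤ, a < i → i < a + (l + 1 : ℕ) → Commute (gen σ x a) (gen σ x i)) {z : G}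
    (hz : z ∈ seg σ x a (l + 1)) : ∃ e : ℤ, ∃ w ∈ seg σ x (a + 1) l, z = gen σ x a ^ e * w := by
  have hn : Subgroup.zpowers (gen σ x a) ≤ Subgroup.normalizer (seg σ x (a + 1) l : Set G) := by
    rw [Subgroup.zpowers_le]
    refine Subgroup.centralizer_le_normalizer _ ?_
    rw [Subgroup.mem_centralizer_iff]
    exact fun w hw => ((commute_seg σ x (fun i h1 h2 => h i (by omega) (by omega)) hw).eq).symm
  have : z ∈ ((Subgroup.zpowers (gen σ x a) ⊔ seg σ x (a + 1) l : Subgroup G) : Set G) := by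
    refine seg_le σ x (fun i h1 h2 => ?_) hz
    rcases h1.eq_or_lt with rfl | h1
    · exact Subgroup.mem_sup_left (Subgroup.mem_zpowers _)
    · exact Subgroup.mem_sup_right (gen_mem_seg σ x (by omega) (by omega))
  rw [Subgroup.coe_mul_of_left_le_normalizer_right _ _ hn] at this
  obtain ⟨u, ⟨e, rfl⟩, w, hw, rfl⟩ := Set.mem_mul.1 this
  exact ⟨e, w, hw, rfl⟩

theorem split_right {a : ℤ} {l : ℕ}
    (h : ∀ i : ℤ, a ≤ i → i < a + l → Commute (gen σ x (a + l)) (gen σ x i)) {z : G}
    (hz : z ∈ seg σ x a (l + 1)) : ∃ e : ℤ, ∃ w ∈ seg σ x a l, z = gen σ x (a + l) ^ e * w := by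
  have hn : Subgroup.zpowers (gen σ x (a + l)) ≤ Subgroup.normalizer (seg σ x a l : Set G) := by
    rw [Subgroup.zpowers_le]
    refine Subgroup.centralizer_le_normalizer _ ?_
    rw [Subgroup.mem_centralizer_iff]
    exact fun w hw => ((commute_seg σ x h hw).eq).symm
  have : z ∈ ((Subgroup.zpowers (gen σ x (a + l)) ⊔ seg σ x a l : Subgroup G) : Set G) := by
    refine seg_le σ x (fun i h1 h2 => ?_) hz
    rcases (show i = a + l ∨ i < a + l by omega) with rfl | h2
    · exact Subgroup.mem_sup_left (Subgroup.mem_zpowers _)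
    · exact Subgroup.mem_sup_right (gen_mem_seg σ x h1 h2)
  rw [Subgroup.coe_mul_of_left_le_normalizer_right _ _ hn] at this
  obtain ⟨u, ⟨e, rfl⟩, w, hw, rfl⟩ := Set.mem_mul.1 this
  exact ⟨e, w, hw, rfl⟩

theorem comm_shift {a b : ℤ} (h : Commute (gen σ x a) (gen σ x b)) (k : ℤ) :
    Commute (gen σ x (a + k)) (gen σ x (b + k)) := by
  rw [← pow_gen σ x k a, ← pow_gen σ x k b]
  exact h.map _

theorem gen_pow_eq_one {p : ℕ} (hx : orderOf x = p) (i : ℤ) {e : ℤ} (he : (p : ℤ) ∣ e) :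
    gen σ x i ^ e = 1 := by
  rw [← orderOf_dvd_iff_zpow_eq_one, show orderOf (gen σ x i) = orderOf x from
    (σ ^ (-i)).orderOf_eq x, hx]
  exact he

theorem commute_of_zpow {p : ℕ} (hp : p.Prime) (hx : orderOf x = p) {y : G} {i e : ℤ}
    (he : ¬ (p : ℤ) ∣ e) (h : Commute y (gen σ x i ^ e)) : Commute y (gen σ x i) := by
  obtain ⟨u, v, huv⟩ := (Int.isCoprime_iff_gcd_eq_one.2
    ((Nat.coprime_comm.1 ((hp.coprime_iff_not_dvd).2 (fun hd => he (Int.natCast_dvd.2 hd)))) :
      Int.gcd e (p : ℤ) = 1))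
  have : gen σ x i = (gen σ x i ^ e) ^ u := by
    conv_lhs => rw [← zpow_one (gen σ x i), ← huv, zpow_add,
      gen_pow_eq_one σ x hx i (Dvd.intro_left v rfl), mul_one, mul_comm u e, zpow_mul]
  rw [this]
  exact h.zpow_right u

theorem comm_right {a b d : G} (h : Commute a d) : ⁅a, b * d⁆ = ⁅a, b⁆ := by
  have e : d * a⁻¹ = a⁻¹ * d := h.symm.inv_right.eq
  calc ⁅a, b * d⁆ = a * b * (d * a⁻¹) * d⁻¹ * b⁻¹ := by rw [commutatorElement_def]; group
    _ = a * b * (a⁻¹ * d) * d⁻¹ * b⁻¹ := by rw [e]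
    _ = ⁅a, b⁆ := by rw [commutatorElement_def]; group

theorem comm_left {a b d : G} (h : Commute b d) : ⁅a * d, b⁆ = ⁅a, b⁆ := by
  have e : d * b = b * d := h.eq.symm
  calc ⁅a * d, b⁆ = a * (d * b) * d⁻¹ * a⁻¹ * b⁻¹ := by rw [commutatorElement_def]; group
    _ = a * (b * d) * d⁻¹ * a⁻¹ * b⁻¹ := by rw [e]
    _ = ⁅a, b⁆ := by rw [commutatorElement_def]; group

variable {m t : ℕ}

/-- The commutator of two generators at minimal distance is central in a short window. -/
theorem bound {p : ℕ} (hp : p.Prime) (hx : orderOf x = p)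
    (hW : ∀ (a : ℤ) (l : ℕ), l + 2 ≤ t → ∀ u ∈ seg σ x a (l + 1), ∀ v ∈ seg σ x (a + 1) (l + 1),
      ⁅u, v⁆ ∈ seg σ x (a + 1) l ∧ ⁅v, u⁆ ∈ seg σ x (a + 1) l)
    (hc : ∀ i j : ℤ, i - j < m → j - i < m → Commute (gen σ x i) (gen σ x j))
    (hne : ¬ Commute (gen σ x 0) (gen σ x m)) (hmt : m < t) : 2 * t ≤ 3 * m := by
  set c := ⁅gen σ x 0, gen σ x m⁆ with hcdef
  have hc1 : c ≠ 1 := fun h => hne (commutatorElement_eq_one_iff_mul_comm.1 h)
  have key : ∀ k : ℤ, (-(m : ℤ) < k ∧ k < m ∧ (m : ℤ) - k < t ∨ 0 < k ∧ k < 2 * (m : ℤ) ∧ k < t) →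
      Commute (gen σ x k) c := by
    intro k hk
    have hcc : gen σ x k * c * (gen σ x k)⁻¹ =
        ⁅gen σ x k * gen σ x 0 * (gen σ x k)⁻¹, gen σ x k * gen σ x m * (gen σ x k)⁻¹⁆ :=
      by rw [hcdef, commutatorElement_def, commutatorElement_def]; group
    suffices gen σ x k * c * (gen σ x k)⁻¹ = c from mul_inv_eq_iff_eq_mul.1 this
    rw [hcc]
    rcases hk with ⟨h1, h2, h3⟩ | ⟨h1, h2, h3⟩
    · rw [(hc k 0 (by omega) (by omega)).eq, mul_inv_cancel_right]
      obtain ⟨l, hl⟩ : ∃ l : ℕ, (l : ℤ) + 1 = m - k := ⟨((m : ℤ) - k - 1).toNat, by omega⟩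
      have hd : ⁅(gen σ x m)⁻¹, gen σ x k⁆ ∈ seg σ x (k + 1) l :=
        (hW k l (by omega) _ (gen_mem_seg σ x le_rfl (by omega)) _
          (inv_mem (gen_mem_seg σ x (by omega) (by omega)))).2
      have hcomm : Commute (gen σ x 0) ⁅(gen σ x m)⁻¹, gen σ x k⁆ :=
        commute_seg σ x (fun i h4 h5 => hc 0 i (by omega) (by omega)) hd
      rw [show gen σ x k * gen σ x m * (gen σ x k)⁻¹ = gen σ x m * ⁅(gen σ x m)⁻¹, gen σ x k⁆ by
        rw [commutatorElement_def]; group]
      exact comm_right hcomm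
    · obtain ⟨l, hl⟩ : ∃ l : ℕ, (l : ℤ) + 1 = k := ⟨(k - 1).toNat, by omega⟩
      have hd : ⁅(gen σ x 0)⁻¹, gen σ x k⁆ ∈ seg σ x (0 + 1) l :=
        (hW 0 l (by omega) _ (inv_mem (gen_mem_seg σ x le_rfl (by omega))) _
          (gen_mem_seg σ x (by omega) (by omega))).1
      have hcomm : Commute (gen σ x m) ⁅(gen σ x 0)⁻¹, gen σ x k⁆ :=
        commute_seg σ x (fun i h4 h5 => hc m i (by omega) (by omega)) hd
      rw [show gen σ x k * gen σ x 0 * (gen σ x k)⁻¹ = gen σ x 0 * ⁅(gen σ x 0)⁻¹, gen σ x k⁆ by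
          rw [commutatorElement_def]; group,
        (hc k m (by omega) (by omega)).eq, mul_inv_cancel_right]
      exact comm_left hcomm
  by_contra hlt
  have hm1 : 1 ≤ m := by
    rcases Nat.eq_zero_or_pos m with rfl | h
    · exact absurd (Commute.refl _) hne
    · exact h
  have hone : c ∈ seg σ x (0 + 1) (m - 1) := by
    refine (hW 0 (m - 1) (by omega) _ (gen_mem_seg σ x le_rfl (by omega)) _
      (gen_mem_seg σ x (by omega) (by omega))).1
  have low : ∀ u : ℕ, u + 1 ≤ m → u + 1 + m ≤ t →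
      c ∈ seg σ x ((u : ℤ) + 1) (m - (u + 1)) := by
    intro u
    induction u with
    | zero => intro _ _; simpa using hone
    | succ u ih =>
      intro h1 h2
      obtain ⟨e, w, hw, hcw⟩ := split_left σ x (a := (u : ℤ) + 1) (l := m - (u + 2))
        (fun i h3 h4 => hc _ _ (by omega) (by omega))
        (by rw [show m - (u + 2) + 1 = m - (u + 1) by omega]; exact ih (by omega) (by omega))
      by_cases he : (p : ℤ) ∣ e
      · rw [gen_pow_eq_one σ x hx _ he, one_mul] at hcw
        rw [hcw]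
        exact_mod_cast hw
      · exfalso
        have hy := key ((u : ℤ) + 1 + m) (Or.inr ⟨by omega, by omega, by omega⟩)
        have hyw : Commute (gen σ x ((u : ℤ) + 1 + m)) w :=
          commute_seg σ x (fun i h3 h4 => hc _ _ (by omega) (by omega)) hw
        rw [hcw] at hy
        have := commute_of_zpow σ x hp hx he (by simpa using hy.mul_right hyw.inv_right)
        have := comm_shift σ x this.symm (-((u : ℤ) + 1))
        ring_nf at this
        exact hne this
  obtain ⟨A, hA1, hA2, hA3⟩ : ∃ A : ℤ, (1 ≤ A) ∧ ((m : ℤ) ≤ A ∨ 2 * (m : ℤ) - t < A) ∧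
      c ∈ seg σ x A ((m : ℤ) - A).toNat := by
    rcases le_or_gt (2 * m) t with h | h
    · refine ⟨m, by omega, Or.inl le_rfl, ?_⟩
      have := low (m - 1) (by omega) (by omega)
      convert this using 2 <;> omega
    · refine ⟨(t : ℤ) - m, by omega, Or.inr (by omega), ?_⟩
      have := low (t - m - 1) (by omega) (by omega)
      convert this using 2 <;> omega
  have high : ∀ l : ℕ, A + l ≤ m → c ∈ seg σ x A l → False := by
    intro l
    induction l with
    | zero => intro _ h; rw [seg_zero, Subgroup.mem_bot] at h; exact hc1 h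
    | succ l ih =>
      intro h1 h2
      obtain ⟨e, w, hw, hcw⟩ := split_right σ x (fun i h3 h4 => hc _ _ (by omega) (by omega)) h2
      by_cases he : (p : ℤ) ∣ e
      · rw [gen_pow_eq_one σ x hx _ he, one_mul] at hcw
        exact ih (by omega) (hcw ▸ hw)
      · have hy := key (A + l - m) (Or.inl ⟨by omega, by omega, by omega⟩)
        have hyw : Commute (gen σ x (A + l - m)) w :=
          commute_seg σ x (fun i h3 h4 => hc _ _ (by omega) (by omega)) hw
        rw [hcw] at hy
        have := commute_of_zpow σ x hp hx he (by simpa using hy.mul_right hyw.inv_right)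
        have := comm_shift σ x this ((m : ℤ) - (A + l))
        ring_nf at this
        exact hne this
  rcases le_or_gt A m with h | h
  · exact high _ (by omega) hA3
  · rw [show ((m : ℤ) - A).toNat = 0 by omega, seg_zero, Subgroup.mem_bot] at hA3
    exact hc1 hA3

end Seq

/-- Let P be a subgroup of a finite group G and g an element such that P ∩ g⁻¹Pg is a normal subgroup of prime index p in g⁻¹Pg. Let n ≥ 1 and let K be the subgroup generated by P and its conjugates g⁻ⁱPgⁱ for i ≤ n. Suppose that g normalizes no non-identity normal subgroup of P and that P meets the center of K trivially. Then the order of P is pᵗ for some t with 1 ≤ t ≤ 3n and t ≠ 3n - 1. -/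
theorem result {G : Type*} [Group G] [Finite G]
    (P : Subgroup G) (g : G) (p : ℕ) (hp : p.Prime)
    (hN : ((P ⊓ MulAut.conj g⁻¹ • P).subgroupOf (MulAut.conj g⁻¹ • P)).Normal)
    (hidx : (P ⊓ MulAut.conj g⁻¹ • P).relIndex (MulAut.conj g⁻¹ • P) = p)
    (n : ℕ) (hn : 1 ≤ n) (K : Subgroup G) (hK : K = ⨆ i ∈ Finset.range (n + 1), MulAut.conj (g ^ i)⁻¹ • P)
    (h1 : ∀ Q : Subgroup G, Q ≤ P → (Q.subgroupOf P).Normal → MulAut.conj g • Q = Q → Q = ⊥)
    (h2 : P ⊓ (Subgroup.center K).map K.subtype = ⊥) :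
    ∃ t : ℕ, Nat.card P = p ^ t ∧ 1 ≤ t ∧ t ≤ 3 * n ∧ t ≠ 3 * n - 1 := by
  set σ := MulAut.conj g with hσ
  rw [show MulAut.conj g⁻¹ = σ⁻¹ from map_inv MulAut.conj g] at hN hidx
  have e1 : chain σ P 1 = σ • (P ⊓ σ⁻¹ • P) := by
    rw [Subgroup.smul_inf, smul_inv_smul, inf_comm]; rfl
  have hN1 : ∀ x ∈ P, ∀ y ∈ chain σ P 1, x * y * x⁻¹ ∈ chain σ P 1 := by
    have := smul_normal σ (H := P ⊓ σ⁻¹ • P) (K := σ⁻¹ • P)
      (fun x hx y hy => hN.conj_mem ⟨y, hy.2⟩ hy ⟨x, hx⟩)
    rw [smul_inv_smul, ← e1] at this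
    exact this
  have hI : (chain σ P 1).relIndex P = p := by
    have := relIndex_smul σ (H := P ⊓ σ⁻¹ • P) (K := σ⁻¹ • P) inf_le_right
    rwa [smul_inv_smul, ← e1, hidx] at this
  obtain ⟨t, ht1, htP, hcard, hsup⟩ := chain_top σ P hp hN1 hI h1
  refine ⟨t, htP, ht1, ?_⟩
  haveI : Fact p.Prime := ⟨hp⟩
  have hcard1 : Nat.card ↥(chain σ P (t - 1)) = p := by simpa using hcard 1 ht1
  obtain ⟨x, hxm, hx1⟩ := (chain σ P (t - 1)).bot_or_exists_ne_one.resolve_left (fun h => by
    rw [h, Subgroup.card_bot] at hcard1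
    exact hp.one_lt.ne hcard1)
  have hx : orderOf x = p := by
    have h : orderOf x ∣ p := by
      rw [← hcard1, ← Subgroup.orderOf_mk x hxm]
      exact orderOf_dvd_natCard _
    exact ((Nat.dvd_prime hp).1 h).resolve_left (fun h => hx1 (orderOf_eq_one_iff.1 h))
  have hinv : σ⁻¹ = σ ^ (-(1 : ℤ)) := (zpow_neg_one σ).symm
  have hA : ∀ l ≤ t, chain σ P (t - l) = seg σ x 0 l := by
    intro l
    induction l with
    | zero =>
      intro _
      rw [seg_zero]
      exact Subgroup.card_eq_one.1 (by simpa using hcard 0 (Nat.zero_le t))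
    | succ l ih =>
      intro hl
      rcases Nat.eq_zero_or_pos l with rfl | hl0
      · rw [seg_one, show gen σ x 0 = x by simp [gen]]
        refine (Subgroup.eq_of_le_of_card_ge (Subgroup.zpowers_le.2 hxm) ?_).symm
        rw [Nat.card_zpowers, hx, hcard1]
      · have h := hsup (t - (l + 1)) (by omega)
        rw [show t - (l + 1) + 1 = t - l by omega, ih (by omega), hinv, smul_seg] at h
        rw [h]
        refine le_antisymm (sup_le (seg_mono σ x le_rfl (by omega)) (seg_mono σ x (by omega) (by omega)))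
          (seg_le σ x fun i h3 h4 => ?_)
        rcases (show i < 0 + (l : ℤ) ∨ i = l by omega) with h5 | rfl
        · exact Subgroup.mem_sup_left (gen_mem_seg σ x h3 h5)
        · exact Subgroup.mem_sup_right (gen_mem_seg σ x (by omega) (by omega))
  have step := chain_step σ P hN1 hI.dvd
  have hW0 : ∀ l : ℕ, l + 2 ≤ t → ∀ u ∈ seg σ x 0 (l + 1), ∀ v ∈ seg σ x (0 + 1) (l + 1),
      ⁅u, v⁆ ∈ seg σ x (0 + 1) l ∧ ⁅v, u⁆ ∈ seg σ x (0 + 1) l := by
    intro l hl u hu v hv
    obtain ⟨j, hj⟩ : ∃ j, j + (l + 2) = t := ⟨t - (l + 2), by omega⟩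
    have a1 : chain σ P (j + 1) = seg σ x 0 (l + 1) := by rw [← hA (l + 1) (by omega)]; congr 1; omega
    have a2 : chain σ P (j + 2) = seg σ x 0 l := by rw [← hA l (by omega)]; congr 1; omega
    have a0 : Nat.card (chain σ P j) = p ^ (l + 2) := by rw [← hcard (l + 2) hl, show t - (l + 2) = j by omega]
    set B := σ⁻¹ • chain σ P (j + 1) with hB
    have hBle : B ≤ chain σ P j := inv_smul_chain_le σ P j
    have hBn : (B.subgroupOf (chain σ P j)).Normal := by
      refine Subgroup.normal_of_index_eq_minFac_card ?_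
      rw [a0, hp.pow_minFac (by omega)]
      have h := Subgroup.card_mul_index (B.subgroupOf (chain σ P j))
      rw [Nat.card_congr (Subgroup.subgroupOfEquivOfLe hBle).toEquiv, a0,
        ← Nat.card_congr (Subgroup.equivSMul σ⁻¹ (chain σ P (j + 1))).toEquiv,
        show j + 1 = t - (l + 1) by omega, hcard (l + 1) (by omega), pow_succ p (l + 1)] at h
      exact Nat.eq_of_mul_eq_mul_left (pow_pos hp.pos _) h
    have hv' : v ∈ B := by rw [hB, a1, hinv, smul_seg]; exact hv
    rw [← a1] at hu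
    have huj := chain_le_self σ P j hu
    have hvj := hBle hv'
    have hmem : ⁅u, v⁆ ∈ seg σ x (0 + 1) l := by
      rw [← smul_seg, ← hinv, ← a2, show chain σ P (j + 2) = chain σ P (j + 1) ⊓ σ • chain σ P (j + 1) from rfl,
        Subgroup.smul_inf, inv_smul_smul]
      refine ⟨?_, ?_⟩
      · rw [commutatorElement_def]
        exact B.mul_mem (hBn.conj_mem ⟨v, hvj⟩ hv' ⟨u, huj⟩) (B.inv_mem hv')
      · rw [commutatorElement_def, mul_assoc, mul_assoc, ← mul_assoc v]
        exact Subgroup.mul_mem _ hu ((step j).1 v hvj _ (Subgroup.inv_mem _ hu))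
    exact ⟨hmem, by rw [← commutatorElement_inv]; exact inv_mem hmem⟩
  have hW : ∀ (a : ℤ) (l : ℕ), l + 2 ≤ t → ∀ u ∈ seg σ x a (l + 1), ∀ v ∈ seg σ x (a + 1) (l + 1),
      ⁅u, v⁆ ∈ seg σ x (a + 1) l ∧ ⁅v, u⁆ ∈ seg σ x (a + 1) l := by
    intro a l hl u hu v hv
    have eu : seg σ x a (l + 1) = (σ ^ (-a)) • seg σ x 0 (l + 1) := by rw [smul_seg, zero_add]
    have ev : ∀ k : ℕ, seg σ x (a + 1) k = (σ ^ (-a)) • seg σ x (0 + 1) k := by
      intro k; rw [smul_seg]; congr 1; ring
    rw [eu] at hu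
    rw [ev] at hv
    rw [Subgroup.mem_pointwise_smul_iff_inv_smul_mem] at hu hv
    rw [ev, Subgroup.mem_pointwise_smul_iff_inv_smul_mem, Subgroup.mem_pointwise_smul_iff_inv_smul_mem]
    simp only [MulAut.smul_def, map_commutatorElement] at hu hv ⊢
    exact hW0 l hl _ hu _ hv
  have hconj : ∀ i : ℕ, MulAut.conj (g ^ i)⁻¹ = σ ^ (-(i : ℤ)) := by
    intro i; rw [map_inv, map_pow, zpow_neg, zpow_natCast]
  have hP : P = seg σ x 0 t := by simpa [chain] using hA t le_rfl
  have hKle : K ≤ seg σ x 0 (t + n) := by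
    rw [hK]
    refine iSup₂_le fun i hi => ?_
    rw [Finset.mem_range] at hi
    rw [hconj, hP, smul_seg]
    exact seg_mono σ x (by omega) (by omega)
  have hPK : P ≤ K := by
    rw [hK]
    refine le_trans ?_ (le_iSup₂ (f := fun i (_ : i ∈ Finset.range (n + 1)) =>
      MulAut.conj (g ^ i)⁻¹ • P) 0 (by simp))
    simp
  have central : ∀ j : ℤ, 0 ≤ j → j < t →
      (∀ i : ℤ, 0 ≤ i → i < (t + n : ℕ) → Commute (gen σ x j) (gen σ x i)) → False := by
    intro j hj0 hjt hcomm
    have hjP : gen σ x j ∈ P := by rw [hP]; exact gen_mem_seg σ x hj0 (by omega)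
    have : gen σ x j ∈ P ⊓ (Subgroup.center K).map K.subtype := by
      refine ⟨hjP, ⟨⟨_, hPK hjP⟩, Subgroup.mem_center_iff.2 fun z => Subtype.ext ?_, rfl⟩⟩
      exact ((commute_seg σ x (fun i h3 h4 => hcomm i h3 (by omega)) (hKle z.2)).eq).symm
    rw [h2, Subgroup.mem_bot, gen, EmbeddingLike.map_eq_one_iff] at this
    exact hx1 this
  classical
  have hexm : ∃ m : ℕ, ¬ Commute (gen σ x 0) (gen σ x m) := by
    by_contra h
    push Not at h
    exact central 0 le_rfl (by omega) fun i hi _ => by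
      obtain ⟨k, rfl⟩ := Int.eq_ofNat_of_zero_le hi
      exact h k
  set m := Nat.find hexm with hm
  have hne : ¬ Commute (gen σ x 0) (gen σ x m) := Nat.find_spec hexm
  have hc0 : ∀ k : ℕ, k < m → Commute (gen σ x 0) (gen σ x k) := fun k hk =>
    not_not.1 (Nat.find_min hexm hk)
  have hc : ∀ i j : ℤ, i - j < m → j - i < m → Commute (gen σ x i) (gen σ x j) := by
    intro i j h3 h4
    rcases le_total i j with h | h
    · have := comm_shift σ x (hc0 (j - i).toNat (by omega)) i
      rwa [zero_add, show ((j - i).toNat : ℤ) + i = j by omega] at this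
    · have := (comm_shift σ x (hc0 (i - j).toNat (by omega)) j).symm
      rwa [zero_add, show ((i - j).toNat : ℤ) + j = i by omega] at this
  have hb : m < t → 2 * t ≤ 3 * m := bound σ x hp hx hW hc hne
  have hw : n < m → 2 * m ≤ t + n := by
    intro hnm
    by_contra hlt
    exact central ((t + n - m : ℕ) : ℤ) (by omega) (by omega) fun i h3 h4 =>
      hc _ _ (by omega) (by omega)
  omega


end Cfsg.Agent.S4359
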