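import Cfsg.Statements.S4363
import Cfsg.Agent.Lib.FitHeight.Cases

set_option autoImplicit false
open Cfsg

namespace Cfsg.Agent.S4363

open Subgroup Cfsg.Lib.FitHeight Cfsg.Lib.Solv

/-- The Fitting height bound, for an element acting on a subgroup. -/
theorem fle_of_fixed {Γ : Type*} [Group Γ] [Finite Γ] {G : Subgroup Γ} {s : Γ} {r n : ℕ} (hr : r.Prime)
    (hsr : s ^ r = 1) (hcop : ¬ r ∣ Nat.card G) (hsol : Group.IsSolvable G) (hsG : s ∈ normalizer (G : Set Γ))
    (Fs : ℕ → Subgroup Γ) (h0 : Fs 0 = ⊥) (hmono : Monotone Fs) (hn : ∀ x ∈ G, s * x = x * s → x ∈ Fs n)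
    (hnorm : ∀ i, ∀ x ∈ G, s * x = x * s → x ∈ normalizer (Fs i : Set Γ))
    (hnil : ∀ i, ∃ k, (Fs (i + 1)).lowerCentralSeries k ≤ Fs i) : FLe (n + 2) G := by
  classical
  by_contra hcon
  obtain ⟨q, hqb, hq⟩ := Nat.exists_infinite_primes (Nat.card Γ + 1)
  haveI := Fact.mk hq
  have hFQ : ¬ FQ q (n + 2) (G ⧸ (⊥ : Subgroup G)) := by
    intro h
    refine hcon (FLe.of_equiv QuotientGroup.quotientBot (h.fle ?_))
    refine Subgroup.eq_bot_of_card_eq _ ?_
    obtain ⟨k, hk⟩ := IsPGroup.iff_card.1 (Lib.Core.pCore_isPGroup q (G ⧸ (⊥ : Subgroup G)))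
    rcases Nat.eq_zero_or_pos k with rfl | hk0
    · rw [hk, pow_zero]
    · exfalso
      have h1 : q ∣ Nat.card Γ := ((hk ▸ dvd_pow_self q hk0.ne' : q ∣ _).trans
        (card_subgroup_dvd_card _)).trans ((card_quotient_dvd_card _).trans (card_subgroup_dvd_card G))
      have := Nat.le_of_dvd Nat.card_pos h1
      omega
  obtain ⟨P, k, p, hW, -, -⟩ := exists_weak hr hsr (n + 2) G ⊥ q hq hsol hcop hsG
    (by rw [Subgroup.map_bot]; exact mem_normalizer_of_conj fun x hx => by simp [mem_bot.1 hx]) hFQ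
  obtain ⟨X, K, T⟩ := hW.exists_tower hsol
  let q' : ℕ → ℕ := fun l => if (p l).Prime then p l else 2
  haveI : ∀ l, Fact (q' l).Prime := fun l => ⟨by
    show (if (p l).Prime then p l else 2).Prime
    split_ifs with h
    exacts [h, Nat.prime_two]⟩
  have S : Sys s X K (fun l => AlgebraicClosure (ZMod (q' l))) G r (n + 2) p :=
    ⟨T, hr, hsr, hcop, hsol, fun l hl => by
      have e : q' l = p l := if_pos (T.prime l hl)
      rw [← e]
      infer_instance⟩
  exact S.no_tower Fs h0 hmono hn hnorm hnil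

/-- Let G be a finite solvable group and σ an automorphism of G of prime order r not dividing the order of G, with fixed-point subgroup C. Then the Fitting height of G exceeds that of C by at most 2: if C has a chain of normal subgroups 1 = C₀ ≤ ⋯ ≤ Cₙ = C with nilpotent factors, then G has such a chain of length n + 2. -/
theorem result {G : Type*} [Group G] [Finite G]
    (hG : Group.IsSolvable G) (σ : MulAut G) (r : ℕ) (hr : r.Prime) (hσ : orderOf σ = r) (hcop : ¬ r ∣ Nat.card G)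
    (C : Subgroup G) (hC : ∀ g : G, g ∈ C ↔ σ g = g) (n : ℕ) (hn : (∃ F : Fin (n + 1) → Subgroup ↥C, F 0 = ⊥ ∧ F (Fin.last n) = ⊤ ∧ Monotone F ∧ (∀ i, (F i).Normal) ∧ ∀ i : Fin n, ∃ k : ℕ, (F i.succ).lowerCentralSeries k ≤ F i.castSucc)) :
    (∃ F : Fin ((n + 2) + 1) → Subgroup G, F 0 = ⊥ ∧ F (Fin.last (n + 2)) = ⊤ ∧ Monotone F ∧ (∀ i, (F i).Normal) ∧ ∀ i : Fin (n + 2), ∃ k : ℕ, (F i.succ).lowerCentralSeries k ≤ F i.castSucc) := by
  haveI : Finite (G ⋊[(Subgroup.zpowers σ).subtype] Subgroup.zpowers σ) :=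
    Finite.of_equiv _ SemidirectProduct.equivProd.symm
  let i : G →* G ⋊[(Subgroup.zpowers σ).subtype] Subgroup.zpowers σ := SemidirectProduct.inl
  set s : G ⋊[(Subgroup.zpowers σ).subtype] Subgroup.zpowers σ :=
    SemidirectProduct.inr ⟨σ, Subgroup.mem_zpowers σ⟩ with hs
  have hi : Function.Injective i := SemidirectProduct.inl_injective
  have hconj : ∀ g, s * i g * s⁻¹ = i (σ g) := fun g => by
    rw [hs, ← map_inv]
    exact SemidirectProduct.inl_aut (φ := (Subgroup.zpowers σ).subtype) ⟨σ, Subgroup.mem_zpowers σ⟩ g |>.symm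
  have hsr : s ^ r = 1 := by
    rw [hs, ← map_pow, show (⟨σ, Subgroup.mem_zpowers σ⟩ : Subgroup.zpowers σ) ^ r = 1 from
      Subtype.ext (hσ ▸ pow_orderOf_eq_one σ), map_one]
  have hcard : Nat.card i.range = Nat.card G := (Nat.card_congr (MonoidHom.ofInjective hi).toEquiv).symm
  obtain ⟨F, h0, hlast, hmono, hN, hnil⟩ := (fle_iff_fin n).2 hn
  have hfixed : ∀ x ∈ i.range, s * x = x * s → ∃ c : C, i c = x := by
    rintro _ ⟨g, rfl⟩ h
    refine ⟨⟨g, (hC g).2 (hi ?_)⟩, rfl⟩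
    rw [← hconj, h, mul_inv_cancel_right]
  have h : FLe (n + 2) i.range := by
    refine fle_of_fixed hr hsr (by rwa [hcard])
      (Group.isSolvable_of_surjective (f := i.rangeRestrict) i.rangeRestrict_surjective) ?_
      (fun j => (F j).map (i.comp C.subtype)) ?_ (fun a b hab => Subgroup.map_mono (hmono hab)) ?_ ?_ ?_
    · exact mem_normalizer_of_conj fun x ⟨g, e⟩ => ⟨σ g, by rw [← hconj, e]⟩
    · simp only [h0, Subgroup.map_bot]
    · intro x hx h
      obtain ⟨c, rfl⟩ := hfixed x hx h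
      exact ⟨c, hlast ▸ Subgroup.mem_top c, rfl⟩
    · intro j x hx h
      obtain ⟨c, rfl⟩ := hfixed x hx h
      refine mem_normalizer_of_conj fun y hy => ?_
      obtain ⟨d, hd, rfl⟩ := hy
      exact ⟨c * d * c⁻¹, (hN j).conj_mem d hd c, by simp⟩
    · intro j
      obtain ⟨k, hk⟩ := hnil j
      exact ⟨k, by rw [← map_lcs]; exact Subgroup.map_mono hk⟩
  exact (fle_iff_fin (n + 2)).1 (h.of_equiv (MonoidHom.ofInjective hi).symm)

end Cfsg.Agent.S4363
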