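import Cfsg.Statements.S4369
import Cfsg.Agent.Lib.MinNonCA.Outer
import Cfsg.Agent.Lib.MinNonCA.Quasi
import Cfsg.Agent.Lib.MinNonCA.Converse

set_option autoImplicit false
open Cfsg

namespace Cfsg.Agent.S4369

/-- Call a group a CA-group when the centralizer of every non-central element is abelian. A finite group G is non-solvable, is not a CA-group, and has all its proper subgroups CA-groups, if and only if G is isomorphic to PSL(2, q) where q > 5 is a prime with 16 not dividing q² - 1, or q = 3ᵖ or q = 5ᵖ for an odd prime p. -/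
theorem result {G : Type*} [Group G] [Finite G] :
    (¬ Group.IsSolvable G ∧ ¬ (∀ x : G, x ∉ Subgroup.center G → IsMulCommutative (Subgroup.centralizer ({x} : Set G))) ∧ ∀ H : Subgroup G, H ≠ ⊤ → (∀ x : H, x ∉ Subgroup.center H → IsMulCommutative (Subgroup.centralizer ({x} : Set H)))) ↔
      ∃ (F : Type) (_ : Field F) (_ : Fintype F), Nonempty (G ≃* Matrix.ProjectiveSpecialLinearGroup (Fin 2) F) ∧
        (((Fintype.card F).Prime ∧ 5 < Fintype.card F ∧ ¬ 16 ∣ Fintype.card F ^ 2 - 1) ∨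
         (∃ p : ℕ, p.Prime ∧ p ≠ 2 ∧ (Fintype.card F = 3 ^ p ∨ Fintype.card F = 5 ^ p))) := by
  constructor
  · rintro ⟨hns, hnca, hpr⟩
    have h : Cfsg.Lib.MinNonCA.Min G := ⟨hns, hnca, hpr⟩
    obtain ⟨K, hK⟩ := h.exists_mainComp
    have e := hK.eq_top h
    subst e
    have hq : Cfsg.Lib.MinNonCA.QMin G :=
      ⟨Cfsg.Lib.Core.quasisimple_congr hK.quasi Subgroup.topEquiv, hpr⟩
    exact hq.exists_psl hnca
  · rintro ⟨F, iF, jF, ⟨e⟩, hcond⟩
    obtain ⟨h1, h2, h3⟩ := Cfsg.Lib.MinNonCA.psl_minimal_non_ca hcond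
    refine ⟨fun hs => h1 ?_, fun hc => h2 (Cfsg.Lib.MinNonCA.CA.congr hc e), h3.congr e.symm⟩
    haveI := hs
    exact Group.isSolvable_of_surjective (f := e.toMonoidHom) e.surjective

end Cfsg.Agent.S4369
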