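import Cfsg.Statements.S4370
import Cfsg.Agent.S0016
import Cfsg.Agent.Lib.PGroup.Elements
import Cfsg.Agent.Lib.PGroup.Basic
import Cfsg.Agent.Lib.PGroup.SameOrderIso
import Cfsg.Agent.Lib.Invol.Quaternion

set_option autoImplicit false
set_option linter.style.haveILetI false
open Cfsg

namespace Cfsg.Agent.S4370

open Subgroup

/-- The centralizer of a noncentral element of a generalized quaternion group is cyclic. -/
theorem isCyclic_centralizer_quaternion {n : ℕ} [NeZero n] (x : QuaternionGroup n)
    (hx : x ∉ center (QuaternionGroup n)) :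
    ∃ g : QuaternionGroup n, centralizer ({x} : Set (QuaternionGroup n)) ≤ zpowers g := by
  have hhalf : ∀ j : ZMod (2 * n), j + j = 0 → j = 0 ∨ j = (n : ZMod (2 * n)) := by
    intro j hj
    haveI : NeZero (2 * n) := ⟨mul_ne_zero two_ne_zero (NeZero.ne n)⟩
    have h1 : ((j.val + j.val : ℕ) : ZMod (2 * n)) = 0 := by push_cast; rwa [ZMod.natCast_val, ZMod.cast_id]
    obtain ⟨c, hc⟩ := (ZMod.natCast_eq_zero_iff _ _).1 h1
    have hlt := j.val_lt
    have hc2 : c < 2 := by
      by_contra hcon
      push Not at hcon
      nlinarith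
    interval_cases c
    · left; exact (ZMod.val_eq_zero j).1 (by omega)
    · right; rw [← ZMod.natCast_zmod_val j]; congr 1; omega
  cases x with
  | a i =>
    refine ⟨.a 1, fun y hy => ?_⟩
    have hy' := mem_centralizer_singleton_iff.1 hy
    cases y with
    | a j =>
      haveI : NeZero (2 * n) := ⟨mul_ne_zero two_ne_zero (NeZero.ne n)⟩
      exact ⟨(j.val : ℤ), by
        show (QuaternionGroup.a (1 : ZMod (2 * n))) ^ (j.val : ℤ) = _
        rw [zpow_natCast, QuaternionGroup.a_one_pow, ZMod.natCast_zmod_val]⟩
    | xa j =>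
      exfalso
      rw [QuaternionGroup.xa_mul_a, QuaternionGroup.a_mul_xa] at hy'
      injection hy' with h1
      have h2 : i + i = 0 := by linear_combination h1
      refine hx (mem_center_iff.2 fun g => ?_)
      cases g with
      | a l => rw [QuaternionGroup.a_mul_a, QuaternionGroup.a_mul_a, add_comm]
      | xa l =>
        rw [QuaternionGroup.xa_mul_a, QuaternionGroup.a_mul_xa]
        congr 1
        linear_combination h2
  | xa i =>
    refine ⟨.xa i, fun y hy => ?_⟩
    have hy' := mem_centralizer_singleton_iff.1 hy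
    have hsq : QuaternionGroup.xa i * QuaternionGroup.xa i = QuaternionGroup.a (n : ZMod (2 * n)) := by
      rw [QuaternionGroup.xa_mul_xa]; congr 1; ring
    have hn : QuaternionGroup.a (n : ZMod (2 * n)) ∈ zpowers (QuaternionGroup.xa i) :=
      hsq ▸ mul_mem (mem_zpowers _) (mem_zpowers _)
    cases y with
    | a j =>
      rw [QuaternionGroup.xa_mul_a, QuaternionGroup.a_mul_xa] at hy'
      injection hy' with h1
      rcases hhalf j (by linear_combination -h1) with rfl | rfl
      · rw [← QuaternionGroup.one_def]; exact one_mem _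
      · exact hn
    | xa j =>
      rw [QuaternionGroup.xa_mul_xa, QuaternionGroup.xa_mul_xa] at hy'
      injection hy' with h1
      rcases hhalf (i - j) (by linear_combination h1) with h2 | h2
      · rw [sub_eq_zero.1 h2]; exact mem_zpowers _
      · have : QuaternionGroup.xa j = QuaternionGroup.a (n : ZMod (2 * n)) * QuaternionGroup.xa i := by
          rw [QuaternionGroup.a_mul_xa]; congr 1; rw [← h2]; ring
        rw [this]
        exact mul_mem hn (mem_zpowers _)

/-- Let G be a finite non-abelian nilpotent group. Then the centralizer of every non-central element of G is cyclic if and only if G is isomorphic to the direct product of a generalized quaternion group and a cyclic group of odd order. -/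
theorem result {G : Type*} [Group G] [Finite G] (hG : Group.IsNilpotent G)
    (hna : ¬ IsMulCommutative G) :
    (∀ x : G, x ∉ Subgroup.center G → IsCyclic (Subgroup.centralizer ({x} : Set G))) ↔
      ∃ (k m : ℕ), 1 ≤ k ∧ Odd m ∧ Nonempty (G ≃* QuaternionGroup (2 ^ k) × Multiplicative (ZMod m)) := by
  classical
  constructor
  · intro hcyc
    haveI := hG
    have hcomm : ∀ x y : G, (orderOf x).Coprime (orderOf y) → Commute x y :=
      Cfsg.Lib.PGroup.commute_of_coprime_orderOf
    obtain ⟨p, hp, hnab⟩ : ∃ p : ℕ, p.Prime ∧ ∀ P : Sylow p G, ¬ IsMulCommutative (P : Subgroup G) := by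
      by_contra hcon
      push Not at hcon
      refine hna ⟨⟨fun a b => ?_⟩⟩
      have hab : ∀ (r : ℕ) [Fact r.Prime] (R : Sylow r G), ∀ u ∈ (R : Subgroup G), ∀ g : G, g * u = u * g := by
        intro r hr R u hu g
        have htop : centralizer ({u} : Set G) = ⊤ := by
          rw [← index_eq_one]
          by_contra hne
          obtain ⟨s, hs, hsd⟩ := Nat.exists_prime_and_dvd hne
          haveI : Fact s.Prime := ⟨hs⟩
          obtain ⟨S, hS⟩ := hcon s hs
          refine S.not_dvd_index (hsd.trans (index_dvd_of_le fun v hv => mem_centralizer_singleton_iff.2 ?_))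
          by_cases hsr : s = r
          · subst hsr
            letI := R.unique_of_normal (R.normal_of_normalizerCondition (Group.normalizerCondition_of_isNilpotent (G := G)))
            have hu' : u ∈ (S : Subgroup G) := Subsingleton.elim R S ▸ hu
            exact congrArg Subtype.val (hS.is_comm.comm ⟨v, hv⟩ ⟨u, hu'⟩)
          · obtain ⟨i, hi⟩ := IsPGroup.iff_orderOf.1 S.2 ⟨v, hv⟩
            obtain ⟨j, hj⟩ := IsPGroup.iff_orderOf.1 R.2 ⟨u, hu⟩
            rw [Subgroup.orderOf_mk] at hi hj
            exact (hcomm v u (hi ▸ hj ▸ ((Nat.coprime_primes hs hr.out).2 hsr).pow i j)).eq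
        exact mem_centralizer_singleton_iff.1 (htop ▸ mem_top g)
      have htop : centralizer ({b} : Set G) = ⊤ := by
        rw [← index_eq_one]
        by_contra hne
        obtain ⟨s, hs, hsd⟩ := Nat.exists_prime_and_dvd hne
        haveI : Fact s.Prime := ⟨hs⟩
        obtain ⟨S⟩ : Nonempty (Sylow s G) := inferInstance
        exact S.not_dvd_index (hsd.trans (index_dvd_of_le fun v hv => mem_centralizer_singleton_iff.2
          (hab s S v hv b).symm))
      exact mem_centralizer_singleton_iff.1 (htop ▸ mem_top a)
    haveI : Fact p.Prime := ⟨hp⟩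
    obtain ⟨P⟩ : Nonempty (Sylow p G) := inferInstance
    haveI hPn := P.normal_of_normalizerCondition (Group.normalizerCondition_of_isNilpotent (G := G))
    obtain ⟨u, hu, v, hv, huv⟩ : ∃ u ∈ (P : Subgroup G), ∃ v ∈ (P : Subgroup G), u * v ≠ v * u := by
      by_contra hcon
      push Not at hcon
      exact hnab P ⟨⟨fun a b => Subtype.ext (hcon a a.2 b b.2)⟩⟩
    have huc : u ∉ center G := fun h => huv ((mem_center_iff.1 h v).symm)
    obtain ⟨H, hH⟩ := exists_right_complement'_of_coprime P.card_coprime_index
    have hPH : ∀ a ∈ (P : Subgroup G), ∀ h ∈ H, Commute a h := by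
      intro a ha h hh
      refine hcomm a h ?_
      refine (P.card_coprime_index.coprime_dvd_left (Subgroup.orderOf_dvd_natCard _ ha)).coprime_dvd_right ?_
      rw [← hH.symm.index_eq_card.symm]
      exact Subgroup.orderOf_dvd_natCard _ hh
    have hHu : H ≤ centralizer ({u} : Set G) := fun h hh =>
      mem_centralizer_singleton_iff.2 (hPH u hu h hh).symm.eq
    haveI := hcyc u huc
    haveI hHcyc : IsCyclic H := isCyclic_of_injective (Subgroup.inclusion hHu) (Subgroup.inclusion_injective hHu)
    have hsame : ∀ {w a b : G}, w ∉ center G → a * w = w * a → b * w = w * b → orderOf a = orderOf b →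
        zpowers a = zpowers b := by
      intro w a b hw ha hb hab
      haveI := hcyc w hw
      have h1 := Cfsg.Lib.Invol.zpowers_eq_of_cyclic
        (x := (⟨a, mem_centralizer_singleton_iff.2 ha⟩ : centralizer ({w} : Set G)))
        (y := ⟨b, mem_centralizer_singleton_iff.2 hb⟩) (by rw [Subgroup.orderOf_mk, Subgroup.orderOf_mk, hab])
      have h2 := congrArg (fun K => K.map (centralizer ({w} : Set G)).subtype) h1
      simpa [MonoidHom.map_zpowers] using h2
    have hcom2 : ∀ {a b : G}, a * b = b * a → orderOf a = orderOf b → zpowers a = zpowers b := by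
      intro a b hab ho
      by_cases ha : a ∈ center G
      · by_cases hb : b ∈ center G
        · exact hsame huc (mem_center_iff.1 ha u).symm (mem_center_iff.1 hb u).symm ho
        · exact hsame hb hab rfl ho
      · exact hsame ha rfl hab.symm ho
    have hP1 : (P : Subgroup G) ≠ ⊥ := fun h => huc (by rw [mem_bot.1 (h.le hu)]; exact one_mem _)
    have hPne : (⊤ : Subgroup (P : Subgroup G)) ≠ ⊥ := fun h => hP1 (by
      rw [← range_subtype (P : Subgroup G), MonoidHom.range_eq_map, h, Subgroup.map_bot])
    obtain ⟨z, -, hzc, hzo⟩ := Cfsg.Lib.PGroup.exists_mem_center_orderOf_eq P.2 hPne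
    have huniq : ∀ A B : Subgroup (P : Subgroup G), Nat.card A = p → Nat.card B = p → A = B := by
      have key : ∀ A : Subgroup (P : Subgroup G), Nat.card A = p → A = zpowers z := by
        intro A hA
        haveI : IsCyclic A := isCyclic_of_prime_card hA
        obtain ⟨g, hg⟩ := IsCyclic.exists_generator (α := A)
        have hgA : zpowers (g : (P : Subgroup G)) = A := le_antisymm (zpowers_le.2 g.2) fun w hw => by
          obtain ⟨i, hi⟩ := mem_zpowers_iff.1 (hg ⟨w, hw⟩)
          exact ⟨i, by simpa using congrArg Subtype.val hi⟩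
        have hgo : orderOf (g : (P : Subgroup G)) = p := by rw [← Nat.card_zpowers, hgA, hA]
        have h1 := hcom2 (a := ((g : (P : Subgroup G)) : G)) (b := (z : G))
          (congrArg Subtype.val (mem_center_iff.1 hzc (g : (P : Subgroup G))))
          (by rw [Subgroup.orderOf_coe (g : (P : Subgroup G)), Subgroup.orderOf_coe z, hgo, hzo])
        rw [← hgA]
        refine Subgroup.map_injective (P : Subgroup G).subtype_injective ?_
        rw [MonoidHom.map_zpowers, MonoidHom.map_zpowers]
        exact h1
      exact fun A B hA hB => (key A hA).trans (key B hB).symm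
    rcases Cfsg.Agent.S0016.result p P.2 huniq with hc | ⟨rfl, k, ⟨e⟩⟩
    · exfalso
      haveI := hc
      exact huv (congrArg Subtype.val (IsCyclic.commGroup.mul_comm (⟨u, hu⟩ : (P : Subgroup G)) ⟨v, hv⟩))
    refine ⟨k, Nat.card H, ?_, ?_, ?_⟩
    · by_contra hk
      have hk0 : k = 0 := by omega
      subst hk0
      haveI := Cfsg.Lib.PGroup.SameOrder.quaternion_card_four_cyclic
      haveI : IsCyclic (P : Subgroup G) := isCyclic_of_surjective e.symm e.symm.surjective
      exact huv (congrArg Subtype.val (IsCyclic.commGroup.mul_comm (⟨u, hu⟩ : (P : Subgroup G)) ⟨v, hv⟩))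
    · rw [Nat.odd_iff, ← Nat.two_dvd_ne_zero]
      intro h2
      exact P.not_dvd_index (hH.symm.index_eq_card ▸ h2)
    · let f : ↥(P : Subgroup G) × H →* G := MonoidHom.noncommCoprod (P : Subgroup G).subtype H.subtype
        fun a b => hPH a a.2 b b.2
      have hf : Function.Bijective f := by
        have h2 : Function.Surjective f := fun g => by
          obtain ⟨a, ha, b, hb, rfl⟩ := mem_sup_of_normal_left.1 (hH.sup_eq_top ▸ mem_top g)
          exact ⟨(⟨a, ha⟩, ⟨b, hb⟩), rfl⟩
        exact (Nat.bijective_iff_surjective_and_card f).2 ⟨h2, by rw [Nat.card_prod, hH.card_mul]⟩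
      exact ⟨(MulEquiv.ofBijective f hf).symm.trans (e.prodCongr (zmodCyclicMulEquiv hHcyc).symm)⟩
  · rintro ⟨k, m, hk, hm, ⟨e⟩⟩ x hx
    haveI : NeZero (2 ^ k) := ⟨(Nat.two_pow_pos k).ne'⟩
    haveI : NeZero m := ⟨fun h => by subst h; exact absurd hm (by decide)⟩
    have hx1 : (e x).1 ∉ center (QuaternionGroup (2 ^ k)) := by
      intro h
      refine hx (mem_center_iff.2 fun g => e.injective ?_)
      rw [map_mul, map_mul]
      exact Prod.ext (mem_center_iff.1 h _) (mul_comm (e g).2 (e x).2)
    obtain ⟨g, hg⟩ := isCyclic_centralizer_quaternion (e x).1 hx1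
    haveI : IsCyclic (↥(zpowers g) × Multiplicative (ZMod m)) := Group.isCyclic_prod_iff.2
      ⟨inferInstance, inferInstance, by
        rw [show Nat.card (Multiplicative (ZMod m)) = m by simp]
        refine Nat.Coprime.coprime_dvd_left (card_subgroup_dvd_card _) ?_
        rw [Nat.card_eq_fintype_card (α := QuaternionGroup (2 ^ k)), QuaternionGroup.card,
          show 4 * 2 ^ k = 2 ^ (k + 2) by ring]
        exact Nat.Coprime.pow_left _ (Nat.coprime_two_left.2 hm)⟩
    have hmem : ∀ c : centralizer ({x} : Set G), (e c).1 ∈ zpowers g := fun c => hg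
      (mem_centralizer_singleton_iff.2 (by
        rw [← Prod.fst_mul, ← Prod.fst_mul, ← map_mul, ← map_mul, mem_centralizer_singleton_iff.1 c.2]))
    let f : centralizer ({x} : Set G) →* ↥(zpowers g) × Multiplicative (ZMod m) :=
      MonoidHom.mk' (fun c => (⟨_, hmem c⟩, (e c).2)) fun a b => by
        apply Prod.ext
        · apply Subtype.ext; show (e ((a * b : centralizer ({x} : Set G)) : G)).1 = _; simp
        · show (e ((a * b : centralizer ({x} : Set G)) : G)).2 = _; simp
    refine isCyclic_of_injective f fun a b hab => Subtype.ext (e.injective (Prod.ext ?_ ?_))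
    · exact congrArg (fun w : ↥(zpowers g) × Multiplicative (ZMod m) => (w.1 : QuaternionGroup (2 ^ k))) hab
    · exact congrArg (fun w : ↥(zpowers g) × Multiplicative (ZMod m) => w.2) hab

end Cfsg.Agent.S4370
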