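import Cfsg.Statements.S4376
import Mathlib

set_option autoImplicit false
set_option linter.style.haveILetI false
open Cfsg

namespace Cfsg.Agent.S4376

open Finset

universe u v

/-- The number of solutions of `x ^ n = 1`. -/
noncomputable def solCount (G : Type u) [Group G] (n : ℕ) : ℕ := Nat.card {x : G // x ^ n = 1}

theorem solCount_prod (A : Type u) (B : Type v) [Group A] [Group B] (n : ℕ) :
    solCount (A × B) n = solCount A n * solCount B n := by
  rw [solCount, solCount, solCount, ← Nat.card_prod]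
  exact Nat.card_congr
    { toFun := fun x => (⟨x.1.1, congrArg Prod.fst x.2⟩, ⟨x.1.2, congrArg Prod.snd x.2⟩)
      invFun := fun y => ⟨(y.1.1, y.2.1), Prod.ext y.1.2 y.2.2⟩
      left_inv := fun _ => rfl
      right_inv := fun _ => rfl }

theorem solCount_pi {ι : Type u} [Fintype ι] (A : ι → Type v) [∀ i, Group (A i)] (n : ℕ) :
    solCount (∀ i, A i) n = ∏ i, solCount (A i) n := by
  simp only [solCount]
  rw [← Nat.card_pi]
  exact Nat.card_congr
    { toFun := fun x i => ⟨x.1 i, congrFun x.2 i⟩
      invFun := fun y => ⟨fun i => (y i).1, funext fun i => (y i).2⟩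
      left_inv := fun _ => rfl
      right_inv := fun _ => rfl }

theorem solCount_power (A : Type v) [Group A] (k n : ℕ) :
    solCount (Fin k → A) n = solCount A n ^ k := by
  rw [solCount_pi, Finset.prod_const, Finset.card_univ, Fintype.card_fin]

theorem solCount_eq_card (G : Type u) [Group G] [Fintype G] [DecidableEq G] (n : ℕ) :
    solCount G n = (Finset.univ.filter fun x : G => x ^ n = 1).card := by
  rw [solCount, Nat.card_eq_fintype_card, Fintype.card_subtype]

/-! ### Semidirect products with commutative kernel -/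

theorem semidirect_pow {V K : Type*} [CommGroup V] [Group K] (φ : K →* MulAut V)
    (x : SemidirectProduct V K φ) (n : ℕ) :
    (x ^ n).left = ∏ i ∈ Finset.range n, φ (x.right ^ i) x.left ∧ (x ^ n).right = x.right ^ n := by
  induction n with
  | zero => simp
  | succ n ih =>
    rw [pow_succ, SemidirectProduct.mul_left, SemidirectProduct.mul_right, ih.1, ih.2,
      Finset.prod_range_succ, pow_succ]
    exact ⟨rfl, rfl⟩

/-- The number of `v` with vanishing norm for `α`. -/
noncomputable def normKer {V : Type*} [CommGroup V] (α : MulAut V) (n : ℕ) : ℕ :=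
  Nat.card {v : V // ∏ i ∈ Finset.range n, (α ^ i) v = 1}

theorem solCount_semidirect {V K : Type*} [CommGroup V] [Finite V] [Group K] [Fintype K]
    [DecidableEq K] (φ : K →* MulAut V) (n : ℕ) :
    solCount (SemidirectProduct V K φ) n =
      ∑ a : K, if a ^ n = 1 then normKer (φ a) n else 0 := by
  rw [← Finset.sum_filter, ← Finset.sum_subtype (Finset.univ.filter fun a : K => a ^ n = 1)
    (p := fun a : K => a ^ n = 1) (by simp) (fun a => normKer (φ a) n) |>.symm]
  simp only [normKer, solCount]
  rw [← Nat.card_sigma]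
  exact Nat.card_congr
    { toFun := fun x => ⟨⟨x.1.right, by
          have h := congrArg SemidirectProduct.right x.2
          rwa [(semidirect_pow φ x.1 n).2] at h⟩, ⟨x.1.left, by
          have h := congrArg SemidirectProduct.left x.2
          rw [(semidirect_pow φ x.1 n).1] at h
          simpa [map_pow] using h⟩⟩
      invFun := fun y => ⟨⟨y.2.1, y.1.1⟩, by
          have h1 := semidirect_pow φ (⟨y.2.1, y.1.1⟩ : SemidirectProduct V K φ) n
          refine SemidirectProduct.ext ?_ ?_
          · rw [h1.1]; simpa [map_pow] using y.2.2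
          · rw [h1.2]; exact y.1.2⟩
      left_inv := fun x => rfl
      right_inv := fun y => rfl }

theorem normKer_all {V : Type*} [CommGroup V] (α : MulAut V) {n : ℕ}
    (h : ∀ v, ∏ i ∈ Finset.range n, (α ^ i) v = 1) : normKer α n = Nat.card V :=
  Nat.card_congr (Equiv.subtypeUnivEquiv h)

theorem normKer_fpf {V : Type*} [CommGroup V] (α : MulAut V) {n : ℕ} (hn : α ^ n = 1)
    (h : ∀ v, α v = v → v = 1) : normKer α n = Nat.card V := by
  refine normKer_all α fun v => h _ ?_
  rw [map_prod]
  have h1 : ∀ i, α ((α ^ i) v) = (α ^ (i + 1)) v := fun i => by rw [pow_succ']; rfl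
  simp only [h1]
  have h2 := Finset.prod_range_succ (fun i => (α ^ i) v) n
  rw [Finset.prod_range_succ' (fun i => (α ^ i) v) n, hn, pow_zero] at h2
  exact mul_right_cancel h2

theorem normKer_trivial {V : Type*} [CommGroup V] {p : ℕ} (hp : p.Prime) (hV : ∀ v : V, v ^ p = 1)
    (n : ℕ) : normKer (1 : MulAut V) n = if p ∣ n then Nat.card V else 1 := by
  have h : ∀ v : V, ∏ i ∈ Finset.range n, ((1 : MulAut V) ^ i) v = v ^ n := fun v => by simp
  split_ifs with hd
  · obtain ⟨m, rfl⟩ := hd
    exact normKer_all _ fun v => by rw [h, pow_mul, hV, one_pow]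
  · refine Nat.card_eq_one_iff_unique.mpr ⟨⟨fun x y => Subtype.ext ?_⟩, ⟨⟨1, by simp⟩⟩⟩
    have : ∀ v : {v : V // ∏ i ∈ Finset.range n, ((1 : MulAut V) ^ i) v = 1}, (v : V) = 1 :=
      fun v => by
        have h1 := v.2
        rw [h] at h1
        have h2 := pow_gcd_eq_one.mpr ⟨h1, hV (v : V)⟩
        rwa [Nat.Coprime.gcd_eq_one (hp.coprime_iff_not_dvd.mpr hd).symm, pow_one] at h2
    rw [this x, this y]

theorem normKer_congrPi {ι : Type*} [Fintype ι] {W : ι → Type*} [∀ i, CommGroup (W i)]
    (α : ∀ i, MulAut (W i)) (β : MulAut (∀ i, W i)) (hβ : ∀ v i, β v i = α i (v i)) (n : ℕ) :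
    normKer β n = ∏ i, normKer (α i) n := by
  have hpow : ∀ (k : ℕ) v i, (β ^ k) v i = (α i ^ k) (v i) := fun k => by
    induction k with
    | zero => simp
    | succ k ih => intro v i; rw [pow_succ', pow_succ', MulAut.mul_apply, hβ, ih]; rfl
  simp only [normKer]
  rw [← Nat.card_pi]
  refine Nat.card_congr ((Equiv.subtypeEquivRight fun v => ?_).trans Equiv.subtypePiEquivPi)
  rw [funext_iff]
  refine forall_congr' fun i => ?_
  rw [Finset.prod_apply]
  simp [hpow]

theorem normKer_congrProd {A B : Type*} [CommGroup A] [CommGroup B]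
    (α : MulAut A) (β : MulAut B) (γ : MulAut (A × B)) (hγ : ∀ x, γ x = (α x.1, β x.2)) (n : ℕ) :
    normKer γ n = normKer α n * normKer β n := by
  have hpow : ∀ (k : ℕ) x, (γ ^ k) x = ((α ^ k) x.1, (β ^ k) x.2) := fun k => by
    induction k with
    | zero => simp
    | succ k ih => intro x; rw [pow_succ', pow_succ', pow_succ', MulAut.mul_apply, ih, hγ]; rfl
  simp only [normKer]
  rw [← Nat.card_prod]
  refine Nat.card_congr ((Equiv.subtypeEquivRight fun x => ?_).trans Equiv.subtypeProdEquivProd)
  simp [Prod.ext_iff, Prod.fst_prod, Prod.snd_prod, hpow]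

theorem isSolvable_semidirect {V K : Type*} [CommGroup V] [Group K] [hK : Group.IsSolvable K]
    (φ : K →* MulAut V) : Group.IsSolvable (SemidirectProduct V K φ) :=
  Group.isSolvable_of_ker_le_range (SemidirectProduct.inl : V →* _) SemidirectProduct.rightHom
    (by rw [SemidirectProduct.range_inl_eq_ker_rightHom])

theorem isSolvable_pi {ι : Type*} [Fintype ι] (A : ι → Type*) [∀ i, Group (A i)]
    (h : ∀ i, Group.IsSolvable (A i)) : Group.IsSolvable (∀ i, A i) := by
  choose k hk using fun i => (h i).solvable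
  refine ⟨⟨Finset.univ.sup k, eq_bot_iff.mpr fun x hx => ?_⟩⟩
  rw [Subgroup.mem_bot]
  funext i
  have h1 := map_derivedSeries_le_derivedSeries (Pi.evalMonoidHom A i) (Finset.univ.sup k)
    ⟨x, hx, rfl⟩
  have h2 : derivedSeries (A i) (Finset.univ.sup k) ≤ ⊥ :=
    (derivedSeries_antitone (A i) (Finset.le_sup (Finset.mem_univ i))).trans (hk i).le
  exact Subgroup.mem_bot.mp (h2 h1)

/-! ### The modules -/

/-- The six irreducible modules. -/
inductive Base
  | n3 | n5 | q4 | q25 | q81 | q16
deriving DecidableEq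

/-- The characteristic. -/
@[reducible] def Base.char : Base → ℕ
  | .n3 => 3 | .n5 => 5 | .q4 => 2 | .q25 => 5 | .q81 => 3 | .q16 => 2

/-- The dimension. -/
@[reducible] def Base.dim : Base → ℕ
  | .n3 => 1 | .n5 => 1 | .q4 => 2 | .q25 => 2 | .q81 => 4 | .q16 => 4

/-- The order of the operator. -/
@[reducible] def Base.period : Base → ℕ
  | .n3 => 2 | .n5 => 2 | .q4 => 3 | .q25 => 3 | .q81 => 5 | .q16 => 15

theorem char_prime (b : Base) : b.char.Prime := by cases b <;> norm_num

instance neZero_char (b : Base) : NeZero b.char := ⟨(char_prime b).ne_zero⟩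

instance neZero_period (b : Base) : NeZero b.period := ⟨by cases b <;> decide⟩

/-- The underlying space. -/
abbrev Space (b : Base) : Type := Fin b.dim → ZMod b.char

/-- The operator. -/
def op : (b : Base) → Space b → Space b
  | .n3, v => fun i => -(v i)
  | .n5, v => fun i => -(v i)
  | .q4, v => ![v 1, v 0 + v 1]
  | .q25, v => ![-(v 1), v 0 - v 1]
  | .q81, v => ![v 1, v 2, v 3, -(v 0 + v 1 + v 2 + v 3)]
  | .q16, v => ![v 1, v 2, v 3, v 0 + v 1]

theorem op_add (b : Base) : ∀ v w, op b (v + w) = op b v + op b w := by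
  cases b <;> intro v w <;> funext i <;> fin_cases i <;> simp [op] <;> abel

theorem op_period (b : Base) : ∀ v, (op b)^[b.period] v = v := by
  cases b <;> decide +kernel

theorem op_fpf (b : Base) : ∀ j : Fin b.period, j.val ≠ 0 → ∀ v, (op b)^[j.val] v = v → v = 0 := by
  cases b <;> decide +kernel

/-- The operator as an automorphism. -/
def aut (b : Base) : MulAut (Multiplicative (Space b)) :=
  AddEquiv.toMultiplicative
    { toFun := op b
      invFun := (op b)^[b.period - 1]
      left_inv := fun v => by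
        rw [← Function.iterate_succ_apply, Nat.succ_eq_add_one, Nat.sub_add_cancel (NeZero.one_le)]
        exact op_period b v
      right_inv := fun v => by
        rw [← Function.iterate_succ_apply' (op b), Nat.succ_eq_add_one, Nat.sub_add_cancel (NeZero.one_le)]
        exact op_period b v
      map_add' := op_add b }

theorem aut_pow_apply (b : Base) (k : ℕ) (v : Multiplicative (Space b)) :
    (aut b ^ k) v = Multiplicative.ofAdd ((op b)^[k] (Multiplicative.toAdd v)) := by
  induction k generalizing v with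
  | zero => rfl
  | succ k ih =>
    rw [pow_succ, MulAut.mul_apply, ih, Function.iterate_succ_apply]
    rfl

theorem aut_pow_period (b : Base) : aut b ^ b.period = 1 := by
  refine MulEquiv.ext fun v => ?_
  rw [aut_pow_apply, op_period]
  rfl

/-- Powers of the operator, indexed modulo its order. -/
def powHom (b : Base) : Multiplicative (ZMod b.period) →* MulAut (Multiplicative (Space b)) where
  toFun j := aut b ^ (Multiplicative.toAdd j).val
  map_one' := by simp
  map_mul' i j := by
    rw [← pow_add, toAdd_mul, ZMod.val_add]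
    exact (pow_eq_pow_mod _ (aut_pow_period b)).symm

theorem space_pow (b : Base) (v : Multiplicative (Space b)) : v ^ b.char = 1 := by
  apply Multiplicative.toAdd.injective
  funext i
  show (b.char • Multiplicative.toAdd v) i = 0
  rw [Pi.smul_apply, ZModModule.char_nsmul_eq_zero]

theorem card_space (b : Base) : Nat.card (Multiplicative (Space b)) = b.char ^ b.dim := by
  rw [Nat.card_congr Multiplicative.toAdd, Nat.card_fun, Nat.card_zmod, Nat.card_fin]

theorem normKer_powHom (b : Base) (t : ZMod b.period) (n : ℕ) (hn : n • t = 0) :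
    normKer (powHom b (Multiplicative.ofAdd t)) n =
      if t = 0 ∧ ¬ b.char ∣ n then 1 else b.char ^ b.dim := by
  by_cases ht : t = 0
  · subst ht
    rw [ofAdd_zero, map_one, normKer_trivial (char_prime b) (space_pow b), card_space]
    by_cases hd : b.char ∣ n <;> simp [hd]
  · rw [if_neg (fun h => ht h.1), normKer_fpf _ ?_ ?_, card_space]
    · rw [← map_pow, ← ofAdd_nsmul, hn, ofAdd_zero, map_one]
    · intro v hv
      have h1 : (op b)^[t.val] (Multiplicative.toAdd v) = Multiplicative.toAdd v :=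
        congrArg Multiplicative.toAdd ((aut_pow_apply b t.val v).symm.trans hv)
      have h2 := op_fpf b ⟨t.val, t.val_lt⟩ (fun h => ht ((ZMod.val_eq_zero t).mp h))
        (Multiplicative.toAdd v) h1
      exact Multiplicative.toAdd.injective h2

/-! ### The metabelian groups -/

/-- Orders minus one of four cyclic factors, and modules with the coefficients of their characters. -/
structure Spec where
  m : Fin 4 → ℕ
  mods : List (Base × (Fin 4 → ℕ))

/-- The operator group. -/
abbrev Ops (s : Spec) : Type := ∀ i, ZMod (s.m i + 1)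

/-- A single coordinate of a character, zero if the coefficient does not define one. -/
def coordChar (o m c : ℕ) : ZMod (m + 1) →+ ZMod o :=
  AddMonoidHom.mk' (fun a => if ((c * (m + 1) : ℕ) : ZMod o) = 0 then (c : ZMod o) * (a.val : ℕ) else 0)
    (fun a a' => by
      split_ifs with h
      · rw [ZMod.val_add, ← mul_add, ← Nat.cast_add]
        conv_rhs => rw [← Nat.mod_add_div (a.val + a'.val) (m + 1)]
        rw [← Nat.cast_mul, ← Nat.cast_mul, mul_add, Nat.cast_add, ← mul_assoc,
          Nat.cast_mul (c * (m + 1)), h, zero_mul, add_zero]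
      · rw [add_zero])

/-- The character of a module. -/
def charOf (s : Spec) (j : Fin s.mods.length) : Ops s →+ ZMod (s.mods.get j).1.period :=
  AddMonoidHom.mk' (fun a => ∑ i, coordChar _ (s.m i) ((s.mods.get j).2 i) (a i))
    (fun a a' => by simp [Finset.sum_add_distrib, map_add])

/-- The kernel of the semidirect product. -/
abbrev Kernel (s : Spec) : Type := ∀ j : Fin s.mods.length, Multiplicative (Space (s.mods.get j).1)

/-- The componentwise action. -/
def action (s : Spec) : Multiplicative (Ops s) →* MulAut (Kernel s) where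
  toFun a := MulEquiv.piCongrRight fun j =>
    powHom _ (Multiplicative.ofAdd (charOf s j (Multiplicative.toAdd a)))
  map_one' := by
    refine MulEquiv.ext fun v => funext fun j => ?_
    simp
  map_mul' a a' := by
    refine MulEquiv.ext fun v => funext fun j => ?_
    simp

/-- The group of a specification. -/
abbrev SpecGroup (s : Spec) : Type := SemidirectProduct (Kernel s) (Multiplicative (Ops s)) (action s)

instance specGroup_finite (s : Spec) : Finite (SpecGroup s) :=
  Finite.of_equiv _ SemidirectProduct.equivProd.symm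

theorem specGroup_solvable (s : Spec) : Group.IsSolvable (SpecGroup s) :=
  isSolvable_semidirect _

/-- The number of solutions, computably. -/
def specCount (s : Spec) (n : ℕ) : ℕ :=
  ∑ a : Ops s, if n • a = 0 then
    ∏ j : Fin s.mods.length, (if charOf s j a = 0 ∧ ¬ (s.mods.get j).1.char ∣ n then 1
      else (s.mods.get j).1.char ^ (s.mods.get j).1.dim)
  else 0

theorem solCount_specGroup (s : Spec) (n : ℕ) : solCount (SpecGroup s) n = specCount s n := by
  rw [solCount_semidirect, specCount]
  refine Fintype.sum_equiv Multiplicative.toAdd _ _ fun a => ?_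
  have hiff : a ^ n = 1 ↔ n • Multiplicative.toAdd a = 0 := by
    rw [← toAdd_pow, toAdd_eq_zero]
  by_cases h : a ^ n = 1
  · rw [if_pos h, if_pos (hiff.mp h), normKer_congrPi
      (fun j => powHom _ (Multiplicative.ofAdd (charOf s j (Multiplicative.toAdd a)))) _
      (fun v j => rfl)]
    refine Finset.prod_congr rfl fun j _ => ?_
    rw [normKer_powHom]
    rw [← map_nsmul, hiff.mp h, map_zero]
  · rw [if_neg h, if_neg (fun h' => h (hiff.mpr h'))]

/-! ### The group with a Heisenberg complement -/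

/-- The Heisenberg group of order 27. -/
@[ext] structure Heis where
  x : ZMod 3
  y : ZMod 3
  z : ZMod 3
deriving DecidableEq, Fintype

instance heisMul : Mul Heis := ⟨fun g h => ⟨g.x + h.x, g.y + h.y, g.z + h.z - g.x * h.y⟩⟩

instance heisOne : One Heis := ⟨⟨0, 0, 0⟩⟩

instance heisInv : Inv Heis := ⟨fun g => ⟨-g.x, -g.y, -g.z - g.x * g.y⟩⟩

theorem heis_mul_def (g h : Heis) : g * h = ⟨g.x + h.x, g.y + h.y, g.z + h.z - g.x * h.y⟩ := rfl

theorem heis_one_def : (1 : Heis) = ⟨0, 0, 0⟩ := rfl

instance heisGroup : Group Heis :=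
  Group.ofLeftAxioms
    (fun a b c => by simp only [heis_mul_def]; ext <;> simp <;> ring)
    (fun a => by simp only [heis_mul_def, heis_one_def]; ext <;> simp)
    (fun a => by
      show (⟨-a.x, -a.y, -a.z - a.x * a.y⟩ : Heis) * a = 1
      simp only [heis_mul_def, heis_one_def]; ext <;> simp <;> ring)

theorem heis_solvable : Group.IsSolvable Heis := by
  have : Fact (Nat.Prime 3) := ⟨Nat.prime_three⟩
  have hp : IsPGroup 3 Heis := IsPGroup.of_card (n := 3) (by
    rw [Nat.card_eq_fintype_card]; rfl)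
  have := hp.isNilpotent
  infer_instance

/-- The faithful module. -/
abbrev Faith : Type := ZMod 3 → Space .q4

/-- The monomial action on the faithful module. -/
def faithFun (g : Heis) (v : Faith) : Faith := fun i => (op .q4)^[(g.z + g.y * i).val] (v (i - g.x))

theorem op_q4_iterate_add (a b : ZMod 3) (w : Space .q4) :
    (op .q4)^[a.val] ((op .q4)^[b.val] w) = (op .q4)^[(a + b).val] w := by
  revert a b w
  decide +kernel

theorem faithFun_mul (g h : Heis) (v : Faith) : faithFun g (faithFun h v) = faithFun (g * h) v := by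
  funext i
  simp only [faithFun, heis_mul_def]
  rw [op_q4_iterate_add]
  rw [show g.z + g.y * i + (h.z + h.y * (i - g.x)) = g.z + h.z - g.x * h.y + (g.y + h.y) * i by ring,
    show i - g.x - h.x = i - (g.x + h.x) by ring]

theorem faithFun_one (v : Faith) : faithFun 1 v = v := by
  funext i
  simp [faithFun, heis_one_def]

theorem faithFun_add (g : Heis) (v w : Faith) : faithFun g (v + w) = faithFun g v + faithFun g w := by
  funext i
  simp only [faithFun, Pi.add_apply]
  generalize (g.z + g.y * i).val = k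
  induction k with
  | zero => rfl
  | succ k ih =>
    rw [Function.iterate_succ_apply', Function.iterate_succ_apply', Function.iterate_succ_apply', ih,
      op_add]

/-- The faithful representation. -/
def faithHom : Heis →* MulAut (Multiplicative Faith) where
  toFun g := AddEquiv.toMultiplicative
    { toFun := faithFun g
      invFun := faithFun g⁻¹
      left_inv := fun v => by rw [faithFun_mul, inv_mul_cancel, faithFun_one]
      right_inv := fun v => by rw [faithFun_mul, mul_inv_cancel, faithFun_one]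
      map_add' := faithFun_add g }
  map_one' := MulEquiv.ext fun v => congrArg Multiplicative.ofAdd (faithFun_one _)
  map_mul' g h := MulEquiv.ext fun v => congrArg Multiplicative.ofAdd (faithFun_mul g h _).symm

/-- The quotient maps to `ZMod 3`. -/
def heisX : Heis →* Multiplicative (ZMod 3) where
  toFun g := Multiplicative.ofAdd g.x
  map_one' := rfl
  map_mul' g h := rfl

/-- The second quotient map. -/
def heisY : Heis →* Multiplicative (ZMod 3) where
  toFun g := Multiplicative.ofAdd g.y
  map_one' := rfl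
  map_mul' g h := rfl

/-- The module of the Heisenberg group. -/
abbrev HeisKernel : Type :=
  Multiplicative Faith × (Multiplicative (Space .q4) × Multiplicative (Space .q4))

/-- The action on the module. -/
def heisAction : Heis →* MulAut HeisKernel where
  toFun g := MulEquiv.prodCongr (faithHom g)
    (MulEquiv.prodCongr (powHom .q4 (heisX g)) (powHom .q4 (heisY g)))
  map_one' := by
    refine MulEquiv.ext fun v => ?_
    simp only [map_one]
    rfl
  map_mul' g h := by
    refine MulEquiv.ext fun v => ?_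
    simp only [map_mul]
    rfl

/-- The group of order `2 ^ 10 * 27`. -/
abbrev HeisExt : Type := SemidirectProduct HeisKernel Heis heisAction

instance heisExt_finite : Finite HeisExt := Finite.of_equiv _ SemidirectProduct.equivProd.symm

theorem heisExt_solvable : Group.IsSolvable HeisExt :=
  have := heis_solvable
  isSolvable_semidirect _

/-- The number of solutions, computably. -/
def heisCount (n : ℕ) : ℕ :=
  ∑ g : Heis, if g ^ n = 1 then
    (Finset.univ.filter fun v : Faith => ∑ i ∈ Finset.range n, faithFun (g ^ i) v = 0).card *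
      ((if g.x = 0 ∧ ¬ 2 ∣ n then 1 else 4) * (if g.y = 0 ∧ ¬ 2 ∣ n then 1 else 4))
  else 0

theorem normKer_faith (g : Heis) (n : ℕ) : normKer (faithHom g) n =
    (Finset.univ.filter fun v : Faith => ∑ i ∈ Finset.range n, faithFun (g ^ i) v = 0).card := by
  rw [normKer, ← Fintype.card_subtype, ← Nat.card_eq_fintype_card]
  refine Nat.card_congr (Equiv.subtypeEquiv Multiplicative.toAdd fun v => ?_)
  rw [← toAdd_eq_zero, toAdd_prod]
  simp only [← map_pow]
  rfl

theorem solCount_heisExt (n : ℕ) : solCount HeisExt n = heisCount n := by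
  rw [solCount_semidirect, heisCount]
  refine Finset.sum_congr rfl fun g _ => ?_
  by_cases h : g ^ n = 1
  · have hx : n • (Multiplicative.toAdd (heisX g)) = 0 := by
      rw [← toAdd_pow, ← map_pow, h, map_one]; rfl
    have hy : n • (Multiplicative.toAdd (heisY g)) = 0 := by
      rw [← toAdd_pow, ← map_pow, h, map_one]; rfl
    rw [if_pos h, if_pos h, normKer_congrProd (faithHom g)
      (MulEquiv.prodCongr (powHom .q4 (heisX g)) (powHom .q4 (heisY g))) _ (fun _ => rfl),
      normKer_congrProd (powHom .q4 (heisX g)) (powHom .q4 (heisY g)) _ (fun _ => rfl),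
      normKer_faith]
    have e1 := normKer_powHom .q4 (Multiplicative.toAdd (heisX g)) n hx
    have e2 := normKer_powHom .q4 (Multiplicative.toAdd (heisY g)) n hy
    rw [ofAdd_toAdd] at e1 e2
    rw [e1, e2]
    rfl
  · rw [if_neg h, if_neg h]

/-! ### The two groups -/

def posSpec : List (ℕ × Spec) :=
  [(99, ⟨![5, 5, 0, 0], [(.n3, ![1, 0, 0, 0]), (.n3, ![0, 1, 0, 0]), (.q4, ![1, 1, 0, 0]), (.q4, ![1, 1, 0, 0])]⟩),
   (73, ⟨![1, 1, 1, 1], [(.n5, ![1, 0, 1, 0]), (.n3, ![0, 1, 1, 1]), (.n5, ![0, 0, 0, 1]), (.n5, ![1, 0, 1, 0]), (.n5, ![0, 0, 1, 1]), (.n3, ![0, 1, 1, 1])]⟩),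
   (18, ⟨![1, 1, 1, 0], [(.n5, ![0, 1, 1, 0]), (.n3, ![0, 1, 0, 0]), (.n3, ![0, 1, 0, 0]), (.n3, ![0, 1, 1, 0]), (.n5, ![1, 1, 1, 0]), (.n3, ![0, 1, 0, 0])]⟩),
   (162, ⟨![1, 1, 1, 0], [(.n5, ![0, 1, 0, 0]), (.n5, ![1, 0, 1, 0]), (.n5, ![0, 0, 1, 0]), (.n5, ![0, 1, 0, 0]), (.n5, ![1, 0, 1, 0])]⟩),
   (34, ⟨![1, 1, 1, 1], [(.n3, ![0, 0, 1, 0]), (.n5, ![1, 1, 0, 1]), (.n5, ![0, 1, 0, 0]), (.n3, ![0, 1, 0, 0]), (.n3, ![0, 0, 1, 0]), (.n5, ![1, 1, 1, 1]), (.n3, ![1, 1, 0, 1]), (.n5, ![0, 0, 1, 1])]⟩),
   (8, ⟨![5, 5, 0, 0], [(.q4, ![1, 0, 0, 0])]⟩),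
   (4, ⟨![5, 5, 0, 0], [(.q4, ![0, 1, 0, 0]), (.q25, ![1, 2, 0, 0])]⟩),
   (4, ⟨![1, 1, 1, 1], [(.n3, ![0, 1, 0, 1]), (.n3, ![1, 0, 1, 1]), (.n3, ![1, 0, 0, 1]), (.n5, ![1, 1, 0, 0]), (.n3, ![1, 0, 1, 1]), (.n3, ![1, 0, 0, 1]), (.n5, ![1, 1, 0, 0]), (.n3, ![0, 0, 0, 1]), (.n3, ![1, 0, 0, 1]), (.n3, ![0, 1, 0, 1])]⟩),
   (4, ⟨![14, 0, 0, 0], [(.q4, ![1, 0, 0, 0]), (.q4, ![1, 0, 0, 0]), (.q81, ![1, 0, 0, 0]), (.q4, ![1, 0, 0, 0]), (.q4, ![1, 0, 0, 0])]⟩),
   (4, ⟨![2, 2, 2, 2], [(.q25, ![1, 0, 2, 0]), (.q4, ![1, 2, 1, 2]), (.q4, ![0, 1, 2, 0]), (.q4, ![1, 0, 0, 2]), (.q25, ![1, 0, 0, 0]), (.q4, ![1, 2, 2, 1])]⟩)]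

def negSpec : List (ℕ × Spec) :=
  [(180, ⟨![1, 1, 1, 1], [(.n5, ![1, 1, 1, 0]), (.n5, ![0, 1, 1, 0]), (.n5, ![1, 0, 0, 1]), (.n3, ![0, 1, 0, 1]), (.n5, ![1, 1, 1, 0])]⟩),
   (99, ⟨![5, 5, 0, 0], [(.n5, ![0, 1, 0, 0]), (.q4, ![1, 2, 0, 0]), (.q4, ![1, 2, 0, 0]), (.n5, ![1, 1, 0, 0]), (.n5, ![1, 1, 0, 0]), (.n5, ![0, 1, 0, 0])]⟩),
   (23, ⟨![1, 1, 1, 1], [(.n3, ![1, 1, 1, 0]), (.n3, ![1, 1, 1, 0]), (.n3, ![1, 1, 1, 0]), (.n3, ![1, 1, 1, 0]), (.n3, ![0, 1, 0, 0]), (.n3, ![0, 1, 0, 0]), (.n3, ![0, 0, 0, 1]), (.n5, ![0, 0, 1, 1]), (.n3, ![1, 0, 1, 0]), (.n5, ![0, 0, 1, 1])]⟩),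
   (50, ⟨![1, 1, 1, 0], [(.n3, ![1, 1, 0, 0]), (.n5, ![1, 1, 0, 0]), (.n3, ![1, 0, 0, 0]), (.n5, ![0, 1, 0, 0]), (.n3, ![1, 0, 0, 0])]⟩),
   (18, ⟨![5, 0, 0, 0], [(.q4, ![1, 0, 0, 0]), (.n3, ![1, 0, 0, 0]), (.n3, ![1, 0, 0, 0]), (.n3, ![1, 0, 0, 0])]⟩),
   (4, ⟨![14, 2, 0, 0], [(.q25, ![1, 0, 0, 0]), (.q4, ![1, 2, 0, 0]), (.q4, ![1, 0, 0, 0]), (.q16, ![3, 5, 0, 0])]⟩),
   (4, ⟨![1, 1, 1, 0], [(.n3, ![1, 1, 1, 0]), (.n5, ![0, 0, 1, 0]), (.n3, ![0, 1, 1, 0]), (.n5, ![0, 1, 1, 0]), (.n3, ![1, 0, 0, 0]), (.n3, ![0, 0, 1, 0])]⟩),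
   (4, ⟨![1, 1, 1, 1], [(.n3, ![1, 0, 0, 0]), (.n3, ![1, 1, 0, 1]), (.n3, ![0, 1, 0, 1]), (.n3, ![1, 1, 0, 0]), (.n5, ![1, 0, 0, 1]), (.n5, ![0, 1, 1, 0]), (.n3, ![0, 1, 0, 0]), (.n3, ![1, 0, 1, 0])]⟩),
   (4, ⟨![2, 2, 2, 0], [(.q25, ![0, 1, 2, 0]), (.q25, ![1, 1, 2, 0]), (.q4, ![1, 0, 0, 0]), (.q4, ![1, 0, 1, 0]), (.q4, ![0, 1, 1, 0]), (.q4, ![1, 2, 0, 0])]⟩)]


/-- A product of powers of the groups of a list. -/
abbrev ListGroup (l : List (ℕ × Spec)) : Type :=
  ∀ i : Fin l.length, Fin (l.get i).1 → SpecGroup (l.get i).2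

/-- The number of solutions in a list group. -/
def listCount (l : List (ℕ × Spec)) (n : ℕ) : ℕ :=
  ∏ i : Fin l.length, specCount (l.get i).2 n ^ (l.get i).1

theorem solCount_listGroup (l : List (ℕ × Spec)) (n : ℕ) :
    solCount (ListGroup l) n = listCount l n := by
  rw [solCount_pi, listCount]
  refine Finset.prod_congr rfl fun i _ => ?_
  rw [solCount_power, solCount_specGroup]

/-- The solvable group. -/
abbrev SolvGroup : Type := ListGroup posSpec × (Fin 2 → HeisExt)

/-- The non-solvable group. -/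
abbrev NonSolvGroup : Type := ListGroup negSpec × (Fin 4 → alternatingGroup (Fin 5))

theorem solvGroup_solvable : Group.IsSolvable SolvGroup := by
  have h1 : Group.IsSolvable (ListGroup posSpec) :=
    isSolvable_pi _ fun i => isSolvable_pi _ fun _ => specGroup_solvable _
  have h2 : Group.IsSolvable (Fin 2 → HeisExt) := isSolvable_pi _ fun _ => heisExt_solvable
  infer_instance

theorem nonSolvGroup_not_solvable : ¬ Group.IsSolvable NonSolvGroup := by
  intro h
  have : Group.IsSolvable (alternatingGroup (Fin 5)) := Group.isSolvable_of_surjective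
    (f := ((Pi.evalMonoidHom (fun _ : Fin 4 => alternatingGroup (Fin 5)) 0).comp
      (MonoidHom.snd (ListGroup negSpec) (Fin 4 → alternatingGroup (Fin 5)))))
    fun a => ⟨(1, fun _ => a), rfl⟩
  refine Equiv.Perm.not_isSolvable_fin_5 ?_
  exact Group.isSolvable_of_ker_le_range (alternatingGroup (Fin 5)).subtype Equiv.Perm.sign
    (by rw [Subgroup.range_subtype, alternatingGroup])

/-- Solutions in the alternating group of degree five. -/
def altCount (n : ℕ) : ℕ :=
  (Finset.univ.filter fun x : alternatingGroup (Fin 5) => x ^ n = 1).card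

theorem solCount_solv (n : ℕ) : solCount SolvGroup n = listCount posSpec n * heisCount n ^ 2 := by
  rw [solCount_prod, solCount_listGroup, solCount_power, solCount_heisExt]

theorem solCount_nonSolv (n : ℕ) :
    solCount NonSolvGroup n = listCount negSpec n * altCount n ^ 4 := by
  rw [solCount_prod, solCount_listGroup, solCount_power, solCount_eq_card]
  rfl

/-- The count for the Heisenberg extension with reduced exponents. -/
def heisCountFast (n : ℕ) : ℕ :=
  ∑ g : Heis, if g ^ (n % 3) = 1 then
    (Finset.univ.filter fun v : Faith => ∑ i ∈ Finset.range (n % 6), faithFun (g ^ (i % 3)) v = 0).card *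
      ((if g.x = 0 ∧ ¬ 2 ∣ n then 1 else 4) * (if g.y = 0 ∧ ¬ 2 ∣ n then 1 else 4))
  else 0

theorem heis_pow_three : ∀ g : Heis, g ^ 3 = 1 := by
  decide +kernel

theorem heisCount_fast (n : ℕ) : heisCount n = heisCountFast n := by
  have h : ∀ (g : Heis) (i : ℕ), g ^ i = g ^ (i % 3) := fun g i => pow_eq_pow_mod i (heis_pow_three g)
  have key : ∀ (g : Heis) (v : Faith),
      ∑ i ∈ Finset.range n, faithFun (g ^ i) v = ∑ i ∈ Finset.range (n % 6), faithFun (g ^ i) v := by
    intro g v
    have six : ∀ m, ∑ i ∈ Finset.range (m + 6), faithFun (g ^ i) v = ∑ i ∈ Finset.range m, faithFun (g ^ i) v := by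
      intro m
      have hp : ∀ j, faithFun (g ^ (j + 3)) v = faithFun (g ^ j) v := fun j => by
        rw [pow_add, heis_pow_three, mul_one]
      simp only [Finset.sum_range_succ]
      rw [show m + 5 = (m + 2) + 3 by rfl, show m + 4 = (m + 1) + 3 by rfl, hp, hp, hp]
      have h2 : ∀ x : Faith, x + x = 0 := fun x => funext fun i => funext fun j => CharTwo.add_self_eq_zero _
      generalize faithFun (g ^ m) v = a
      generalize faithFun (g ^ (m + 1)) v = b
      generalize faithFun (g ^ (m + 2)) v = c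
      generalize ∑ i ∈ Finset.range m, faithFun (g ^ i) v = t
      rw [show t + a + b + c + a + b + c = t + (a + a) + (b + b) + (c + c) by abel, h2, h2, h2]
      simp
    induction n using Nat.strong_induction_on with
    | _ n ih =>
      by_cases hn : n < 6
      · rw [Nat.mod_eq_of_lt hn]
      · rw [show n = (n - 6) + 6 by omega, six, ih (n - 6) (by omega), Nat.add_mod_right]
  rw [heisCount, heisCountFast]
  refine Finset.sum_congr rfl fun g _ => ?_
  simp only [key, ← h]

set_option maxHeartbeats 4000000 in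
theorem count_identity : ∀ d ∈ [1, 2, 3, 5, 6, 10, 15, 30],
    listCount posSpec d * heisCount d ^ 2 = listCount negSpec d * altCount d ^ 4 := by
  intro d hd
  rw [heisCount_fast]
  simp only [List.mem_cons, List.not_mem_nil, or_false] at hd
  rcases hd with rfl | rfl | rfl | rfl | rfl | rfl | rfl | rfl
  all_goals decide +kernel

set_option maxHeartbeats 4000000 in
theorem pos_exponent : listCount posSpec 30 * heisCount 30 ^ 2 =
    (∏ i : Fin posSpec.length, ((Fintype.card (Ops (posSpec.get i).2)) *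
      ∏ j : Fin (posSpec.get i).2.mods.length, ((posSpec.get i).2.mods.get j).1.char ^
        ((posSpec.get i).2.mods.get j).1.dim) ^ (posSpec.get i).1) * 27648 ^ 2 := by
  rw [heisCount_fast]
  decide +kernel

theorem neg_exponent : listCount negSpec 30 * altCount 30 ^ 4 =
    (∏ i : Fin negSpec.length, ((Fintype.card (Ops (negSpec.get i).2)) *
      ∏ j : Fin (negSpec.get i).2.mods.length, ((negSpec.get i).2.mods.get j).1.char ^
        ((negSpec.get i).2.mods.get j).1.dim) ^ (negSpec.get i).1) * 60 ^ 4 := by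
  decide +kernel

theorem card_listGroup (l : List (ℕ × Spec)) : Nat.card (ListGroup l) =
    ∏ i : Fin l.length, ((Fintype.card (Ops (l.get i).2)) *
      ∏ j : Fin (l.get i).2.mods.length, ((l.get i).2.mods.get j).1.char ^
        ((l.get i).2.mods.get j).1.dim) ^ (l.get i).1 := by
  rw [Nat.card_pi]
  refine Finset.prod_congr rfl fun i _ => ?_
  rw [Nat.card_fun, Nat.card_fin, SemidirectProduct.card, Nat.card_pi, mul_comm,
    Nat.card_congr Multiplicative.toAdd, Nat.card_eq_fintype_card]
  simp only [card_space]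

theorem pow_thirty_eq_one {A : Type u} [Group A] [Finite A] (h : solCount A 30 = Nat.card A) (x : A) :
    x ^ 30 = 1 := by
  by_contra hx
  have hlt : solCount A 30 < Nat.card A := Finite.card_subtype_lt (x := x) hx
  omega

theorem solv_exponent (x : SolvGroup) : x ^ 30 = 1 := by
  refine pow_thirty_eq_one ?_ x
  rw [solCount_solv, pos_exponent, Nat.card_prod, card_listGroup, Nat.card_fun, Nat.card_fin,
    SemidirectProduct.card, Nat.card_prod, Nat.card_prod, Nat.card_congr Multiplicative.toAdd,
    Nat.card_fun, Nat.card_fun, Nat.card_congr Multiplicative.toAdd, Nat.card_fun,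
    Nat.card_eq_fintype_card (α := Heis)]
  simp only [Nat.card_zmod, Nat.card_fin]
  rfl

theorem nonSolv_exponent (x : NonSolvGroup) : x ^ 30 = 1 := by
  refine pow_thirty_eq_one ?_ x
  rw [solCount_nonSolv, neg_exponent, Nat.card_prod, card_listGroup, Nat.card_fun, Nat.card_fin,
    Nat.card_eq_fintype_card (α := alternatingGroup (Fin 5))]
  rfl

theorem solCount_gcd {A : Type u} [Group A] (h : ∀ x : A, x ^ 30 = 1) (n : ℕ) :
    solCount A n = solCount A (n.gcd 30) :=
  Nat.card_congr (Equiv.subtypeEquivRight fun x =>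
    ⟨fun hx => pow_gcd_eq_one.mpr ⟨hx, h x⟩, fun hx => (pow_gcd_eq_one.mp hx).1⟩)

theorem solCount_eq (n : ℕ) : solCount SolvGroup n = solCount NonSolvGroup n := by
  rw [solCount_gcd solv_exponent, solCount_gcd nonSolv_exponent, solCount_solv, solCount_nonSolv]
  refine count_identity _ ?_
  have h1 : n.gcd 30 ∈ Nat.divisors 30 := Nat.mem_divisors.mpr ⟨Nat.gcd_dvd_right n 30, by norm_num⟩
  have h2 : Nat.divisors 30 = {1, 2, 3, 5, 6, 10, 15, 30} := by decide
  rw [h2] at h1
  simpa using h1

theorem card_orderOf_eq {A : Type u} {B : Type v} [Group A] [Finite A] [Group B] [Finite B]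
    (h : ∀ n, solCount A n = solCount B n) (n : ℕ) :
    Nat.card {a : A // orderOf a = n} = Nat.card {b : B // orderOf b = n} := by
  classical
  have := Fintype.ofFinite A
  have := Fintype.ofFinite B
  induction n using Nat.strong_induction_on with
  | _ n ih =>
    rcases Nat.eq_zero_or_pos n with rfl | hn
    · have : IsEmpty {a : A // orderOf a = 0} := ⟨fun a => (orderOf_pos a.1).ne' a.2⟩
      have : IsEmpty {b : B // orderOf b = 0} := ⟨fun b => (orderOf_pos b.1).ne' b.2⟩
      rw [Nat.card_of_isEmpty, Nat.card_of_isEmpty]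
    have hA := sum_card_orderOf_eq_card_pow_eq_one (G := A) hn.ne'
    have hB := sum_card_orderOf_eq_card_pow_eq_one (G := B) hn.ne'
    have hAB : (Finset.univ.filter fun a : A => a ^ n = 1).card =
        (Finset.univ.filter fun b : B => b ^ n = 1).card := by
      have h1 := h n
      rw [solCount_eq_card, solCount_eq_card] at h1
      convert h1
    have key : ∀ m, m < n → (Finset.univ.filter fun a : A => orderOf a = m).card =
        (Finset.univ.filter fun b : B => orderOf b = m).card := fun m hm => by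
      have := ih m hm
      rwa [Nat.card_eq_fintype_card, Nat.card_eq_fintype_card, Fintype.card_subtype,
        Fintype.card_subtype] at this
    rw [← hA, ← hB, ← Nat.cons_self_properDivisors hn.ne', Finset.sum_cons, Finset.sum_cons,
      Finset.sum_congr rfl fun m hm => key m (Nat.mem_properDivisors.mp hm).2,
      Nat.add_right_cancel_iff] at hAB
    rw [Nat.card_eq_fintype_card, Nat.card_eq_fintype_card, Fintype.card_subtype, Fintype.card_subtype,
      hAB]

/-- There are finite groups G and H having the same number of elements of each order (the same order type) with G solvable and H not solvable. -/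
theorem result :
    ∃ (G : Type) (_ : Group G) (_ : Finite G) (H : Type) (_ : Group H) (_ : Finite H),
      Group.IsSolvable G ∧ ¬ Group.IsSolvable H ∧ ∀ n : ℕ, Nat.card {g : G // orderOf g = n} = Nat.card {h : H // orderOf h = n} := by
  exact ⟨SolvGroup, inferInstance, inferInstance, NonSolvGroup, inferInstance, inferInstance,
    solvGroup_solvable, nonSolvGroup_not_solvable, card_orderOf_eq solCount_eq⟩

end Cfsg.Agent.S4376
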