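import Cfsg.Statements.S4381
import Cfsg.Agent.Lib.Coprime.Action
import Cfsg.Agent.Lib.PGroup.Basic
import Cfsg.Agent.S3775
import Mathlib.GroupTheory.SemidirectProduct

set_option linter.style.haveILetI false

set_option autoImplicit false
open Pointwise
open Cfsg

namespace Cfsg.Agent.S4381

open Subgroup
open scoped Pointwise

variable {A G : Type*} [Group A] [Group G] [MulDistribMulAction A G]

/-- Invariance under the acting group. -/
def InvA (A : Type*) {G : Type*} [Group A] [Group G] [MulDistribMulAction A G] (H : Subgroup G) : Prop :=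
  ∀ a : A, ∀ x ∈ H, a • x ∈ H

theorem invA_sup {H K : Subgroup G} (hH : InvA A H) (hK : InvA A K) : InvA A (H ⊔ K) := by
  intro a x hx
  exact (sup_le (fun y hy => (mem_sup_left (hH a y hy) : MulDistribMulAction.toMonoidHom G a y ∈ H ⊔ K))
    (fun y hy => (mem_sup_right (hK a y hy) : MulDistribMulAction.toMonoidHom G a y ∈ H ⊔ K)) :
      H ⊔ K ≤ (H ⊔ K).comap (MulDistribMulAction.toMonoidHom G a)) hx

theorem invA_char {H : Subgroup G} [hH : H.Characteristic] : InvA A H := fun a _ hx =>
  ((hH.fixed (MulDistribMulAction.toMulEquiv G a)).ge hx)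

/-- Invariant Sylow subgroups. -/
theorem exists_invA_sylow [Finite A] [Finite G] (hcop : (Nat.card A).Coprime (Nat.card G))
    (hsol : Group.IsSolvable A ∨ Group.IsSolvable G) (q : ℕ) [Fact q.Prime] :
    ∃ P : Subgroup G, InvA A P ∧ Nat.card P = q ^ (Nat.card G).factorization q := by
  let φ := MulDistribMulAction.toMulAut A G
  let il : G →* G ⋊[φ] A := SemidirectProduct.inl
  let ir : A →* G ⋊[φ] A := SemidirectProduct.inr
  have hil : Function.Injective il := SemidirectProduct.inl_injective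
  haveI : Finite (G ⋊[φ] A) := Finite.of_equiv _ SemidirectProduct.equivProd.symm
  have hA : Nat.card ir.range = Nat.card A :=
    Nat.card_congr (MonoidHom.ofInjective SemidirectProduct.inr_injective).symm.toEquiv
  have hG : Nat.card il.range = Nat.card G :=
    Nat.card_congr (MonoidHom.ofInjective hil).symm.toEquiv
  have hn : ir.range ≤ normalizer (il.range : Set (G ⋊[φ] A)) := by
    haveI : il.range.Normal := by
      rw [show il.range = SemidirectProduct.rightHom.ker from SemidirectProduct.range_inl_eq_ker_rightHom]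
      infer_instance
    rw [normalizer_eq_top]; exact le_top
  have hs : Group.IsSolvable ir.range ∨ Group.IsSolvable il.range := by
    rcases hsol with h | h
    · exact Or.inl (Group.isSolvable_of_surjective ir.rangeRestrict_surjective)
    · exact Or.inr (Group.isSolvable_of_surjective il.rangeRestrict_surjective)
  obtain ⟨P, hP⟩ := Cfsg.Lib.Coprime.exists_invariant_sylow hn (by rw [hA, hG]; exact hcop) hs q
  refine ⟨((P : Subgroup il.range).map il.range.subtype).comap il, fun a x hx => ?_, ?_⟩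
  · show il (a • x) ∈ (P : Subgroup il.range).map il.range.subtype
    rw [show il (a • x) = ir a * il x * (ir a)⁻¹ from by
      rw [← map_inv]; exact SemidirectProduct.inl_aut (φ := φ) a x]
    exact (mem_normalizer_iff.mp (hP ⟨a, rfl⟩) (il x)).mp hx
  · have h1 : Nat.card ↥((((P : Subgroup il.range).map il.range.subtype).comap il).map il) =
        Nat.card ↥(((P : Subgroup il.range).map il.range.subtype).comap il) := card_map_of_injective hil
    rw [← h1, map_comap_eq_self (map_subtype_le _), card_map_of_injective (subtype_injective _),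
      P.card_eq_multiplicity, hG]

/-- Maximal invariant. -/
def MaxInv (A : Type*) {G : Type*} [Group A] [Group G] [MulDistribMulAction A G] (M : Subgroup G) : Prop :=
  M ≠ ⊤ ∧ InvA A M ∧ ∀ L : Subgroup G, M < L → InvA A L → L = ⊤

theorem exists_maxInv_ge [Finite G] {H : Subgroup G} (hH : InvA A H) (hne : H ≠ ⊤) :
    ∃ M, MaxInv A M ∧ H ≤ M := by
  obtain ⟨M, hM, ⟨h1, h2⟩, hmax⟩ :=
    ({L : Subgroup G | L ≠ ⊤ ∧ InvA A L} : Set _).toFinite.exists_le_maximal (a := H) ⟨hne, hH⟩
  exact ⟨M, ⟨h1, h2, fun L hL hinv => by_contra fun hLt => hL.not_ge (hmax ⟨hLt, hinv⟩ hL.le)⟩, hM⟩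

theorem frattini_le_maxInv [Finite G] {M : Subgroup G} (hM : MaxInv A M) : frattini G ≤ M := by
  rcases (le_sup_left : M ≤ M ⊔ frattini G).eq_or_lt with h | h
  · rw [h]; exact le_sup_right
  · exact absurd (frattini_nongenerating (hM.2.2 _ h (invA_sup hM.2.1 invA_char))) hM.1

/-- Maschke: a unique maximal invariant subgroup is the Frattini subgroup. -/
theorem no_between [Finite A] [Finite G] {p : ℕ} [Fact p.Prime] (hG : IsPGroup p G)
    (hcop : (Nat.card A).Coprime (Nat.card G))
    (huniq : ∀ M N : Subgroup G, MaxInv A M → MaxInv A N → M = N)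
    {L : Subgroup G} (hL : frattini G < L) (hinv : InvA A L) : L = ⊤ := by
  classical
  by_contra hne
  obtain ⟨M, hM, hLM⟩ := exists_maxInv_ge hinv hne
  have hea := Cfsg.Lib.PGroup.isElementaryAbelian_quotient_frattini hG
  letI : CommGroup (G ⧸ frattini G) :=
    { (inferInstance : Group (G ⧸ frattini G)) with
      mul_comm := fun a b => congrArg Subtype.val
        (hea.1.is_comm.comm (⟨a, mem_top a⟩ : (⊤ : Subgroup (G ⧸ frattini G))) ⟨b, mem_top b⟩) }
  have hmap : ∀ a : A, (frattini G).map (MulDistribMulAction.toMulEquiv G a).toMonoidHom = frattini G :=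
    fun a => characteristic_iff_map_eq.mp inferInstance _
  let φ : A →* MulAut (G ⧸ frattini G) := MonoidHom.mk'
    (fun a => QuotientGroup.congr _ _ (MulDistribMulAction.toMulEquiv G a) (hmap a)) fun a b => by
      refine MulEquiv.ext fun x => ?_
      obtain ⟨g, rfl⟩ := QuotientGroup.mk_surjective x
      exact congrArg QuotientGroup.mk (mul_smul a b g)
  set q := QuotientGroup.mk' (frattini G) with hq
  have hqs : Function.Surjective q := QuotientGroup.mk'_surjective _
  have hX : (Nat.card φ.range).Coprime (Nat.card (G ⧸ frattini G)) :=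
    (hcop.coprime_dvd_left (card_range_dvd φ)).coprime_dvd_right (card_quotient_dvd_card _)
  set K := L.map q with hK
  have hKinv : Cfsg.Agent.S3775.Inv φ.range K := by
    rintro _ ⟨a, rfl⟩ _ ⟨l, hl, rfl⟩
    exact ⟨a • l, hinv a l hl, rfl⟩
  obtain ⟨W₀, hW₀, hmax⟩ := ({W : Subgroup (G ⧸ frattini G) | W ⊓ K = ⊥} : Set _).toFinite.exists_maximal
    ⟨⊥, bot_inf_eq K⟩
  have hsup : W₀ ⊔ K = ⊤ := by
    refine eq_top_iff.mpr fun x _ => ?_
    by_contra hx
    have hlt : W₀ < W₀ ⊔ zpowers x := lt_of_le_of_ne le_sup_left fun e =>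
      hx (mem_sup_left (e ▸ mem_sup_right (mem_zpowers x) : x ∈ W₀))
    have hbad : (W₀ ⊔ zpowers x) ⊓ K ≠ ⊥ := fun h => hlt.not_ge (hmax h hlt.le)
    obtain ⟨y, hy, hy1⟩ := (bot_or_exists_ne_one _).resolve_left hbad
    obtain ⟨w, hw, z, hz, rfl⟩ := mem_sup.1 hy.1
    obtain ⟨i, rfl⟩ := mem_zpowers_iff.mp hz
    by_cases hi : (p : ℤ) ∣ i
    · obtain ⟨j, rfl⟩ := hi
      have hx1 : x ^ ((p : ℤ) * j) = 1 := by rw [zpow_mul, zpow_natCast, hea.2 x (mem_top x), one_zpow]
      rw [hx1, mul_one] at hy hy1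
      exact hy1 (mem_bot.mp (hW₀ ▸ mem_inf.mpr ⟨hw, hy.2⟩))
    · obtain ⟨s, t, hst⟩ := (((Nat.prime_iff_prime_int).mp Fact.out).coprime_iff_not_dvd.mpr hi).symm
      have hxi : x ^ i ∈ W₀ ⊔ K := by
        have h := mul_mem (mem_sup_left (T := K) (inv_mem hw)) (mem_sup_right (S := W₀) hy.2)
        rwa [inv_mul_cancel_left] at h
      refine hx ?_
      have hx' : x = (x ^ i) ^ s := by
        conv_lhs => rw [← zpow_one x, ← hst]
        rw [zpow_add, mul_comm t, zpow_mul x (p : ℤ), zpow_natCast, hea.2 x (mem_top x), one_zpow,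
          mul_one, mul_comm s, zpow_mul]
      rw [hx']; exact zpow_mem hxi s
  obtain ⟨W, hWinv, -, hWK, hWsup⟩ := Cfsg.Agent.S3775.exists_invariant_complement φ.range hX
    (N := ⊥) (K := K) (D := ⊤) (W₀ := W₀) (fun x _ b hb => by simp [mem_bot.mp hb]) hKinv
    (fun _ _ _ _ => mem_top _) le_top le_top hW₀ hsup
  have hKbot : K ≠ ⊥ := fun h => hL.not_ge (by
    rw [hK, Subgroup.map_eq_bot_iff, hq, QuotientGroup.ker_mk'] at h; exact h)
  have hWinvA : InvA A (W.comap q) := fun a g hg => hWinv (φ a) ⟨a, rfl⟩ _ hg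
  have hWtop : W.comap q ≠ ⊤ := fun h => hKbot (by
    rw [← map_comap_eq_self_of_surjective hqs W, h, map_top_of_surjective q hqs, top_inf_eq] at hWK
    exact hWK)
  obtain ⟨N, hN, hWN⟩ := exists_maxInv_ge hWinvA hWtop
  rw [← huniq M N hM hN] at hWN
  refine hM.1 (top_le_iff.mp ?_)
  have hLq : L = K.comap q := by
    rw [hK, comap_map_eq, hq, QuotientGroup.ker_mk', sup_eq_left.mpr hL.le]
  refine le_trans ?_ (sup_le hWN hLM)
  rw [hLq, comap_sup_eq q W K hqs, hWsup, comap_top]

/-- Let the finite group A act by automorphisms on the finite group G with the orders of A and G coprime, and assume that A or G is solvable. Call a proper A-invariant subgroup of G maximal A-invariant when no A-invariant subgroup lies strictly between it and G. Then all maximal A-invariant subgroups of G are conjugate under elements of the fixed-point subgroup C_G(A) if and only if G is a p-group for some prime p and A leaves invariant no subgroup strictly between the Frattini subgroup of G and G. In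 that case, if G is nontrivial, the Frattini subgroup is the only maximal A-invariant subgroup (a trivial G has none). -/
theorem result {A G : Type*} [Group A] [Finite A]
    [Group G] [Finite G] [MulDistribMulAction A G] (hcop : (Nat.card A).Coprime (Nat.card G)) (hsol : Group.IsSolvable A ∨ Group.IsSolvable G) :
    ((∀ M N : Subgroup G, (M ≠ ⊤ ∧ (∀ a : A, ∀ x ∈ M, a • x ∈ M) ∧ ∀ L : Subgroup G, M < L → (∀ a : A, ∀ x ∈ L, a • x ∈ L) → L = ⊤) → (N ≠ ⊤ ∧ (∀ a : A, ∀ x ∈ N, a • x ∈ N) ∧ ∀ L : Subgroup G, N < L → (∀ a : A, ∀ x ∈ L, a • x ∈ L) → L = ⊤) →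
        ∃ c : G, (∀ a : A, a • c = c) ∧ N = MulAut.conj c • M) ↔
      ((∃ p : ℕ, p.Prime ∧ IsPGroup p G) ∧ ∀ L : Subgroup G, frattini G < L → (∀ a : A, ∀ x ∈ L, a • x ∈ L) → L = ⊤)) ∧
    (((∃ p : ℕ, p.Prime ∧ IsPGroup p G) ∧ ∀ L : Subgroup G, frattini G < L → (∀ a : A, ∀ x ∈ L, a • x ∈ L) → L = ⊤) →
      ∀ M : Subgroup G, (M ≠ ⊤ ∧ (∀ a : A, ∀ x ∈ M, a • x ∈ M) ∧ ∀ L : Subgroup G, M < L → (∀ a : A, ∀ x ∈ L, a • x ∈ L) → L = ⊤) ↔ (M = frattini G ∧ M ≠ ⊤)) := by
  have hnormal : ∀ {p : ℕ} [Fact p.Prime], IsPGroup p G → ∀ M : Subgroup G, MaxInv A M → M.Normal :=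
    fun {p} _ hp M hM => Subgroup.Normal.of_commutator_le _
      ((Cfsg.Lib.PGroup.commutator_le_frattini hp).trans (frattini_le_maxInv hM))
  have hback : ∀ (hcond : (∃ p : ℕ, p.Prime ∧ IsPGroup p G) ∧
      ∀ L : Subgroup G, frattini G < L → InvA A L → L = ⊤) (M : Subgroup G),
      MaxInv A M ↔ (M = frattini G ∧ M ≠ ⊤) := by
    intro hcond M
    constructor
    · intro hM
      refine ⟨((frattini_le_maxInv hM).eq_or_lt.resolve_right fun h => hM.1 (hcond.2 M h hM.2.1)).symm, hM.1⟩
    · rintro ⟨rfl, hne⟩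
      exact ⟨hne, invA_char, hcond.2⟩
  refine ⟨⟨fun h => ?_, fun hcond M N hM hN => ⟨1, fun a => smul_one a, ?_⟩⟩, hback⟩
  · have h' : ∀ M N : Subgroup G, MaxInv A M → MaxInv A N →
        ∃ c : G, N = MulAut.conj c • M := fun M N hM hN => by
      obtain ⟨c, -, hc⟩ := h M N hM hN; exact ⟨c, hc⟩
    have hp : ∃ p : ℕ, p.Prime ∧ IsPGroup p G := by
      by_contra hnp
      have hproper : ∀ q : ℕ, ∀ [Fact q.Prime], ∀ P : Subgroup G,
          Nat.card P = q ^ (Nat.card G).factorization q → P ≠ ⊤ := by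
        rintro q _ P hP rfl
        exact hnp ⟨q, Fact.out, IsPGroup.of_card (by rw [← hP, card_top])⟩
      have hbot : (⊥ : Subgroup G) ≠ ⊤ := by
        intro hb
        refine hnp ⟨2, Nat.prime_two, IsPGroup.of_card (n := 0) ?_⟩
        rw [pow_zero, ← card_top, ← hb, card_bot]
      obtain ⟨M₀, hM₀, -⟩ := exists_maxInv_ge (A := A) (invA_char (H := (⊥ : Subgroup G))) hbot
      refine hM₀.1 (eq_top_of_card_eq _ (Nat.dvd_antisymm (card_subgroup_dvd_card _) ?_))
      rw [Nat.dvd_iff_prime_pow_dvd_dvd]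
      intro q k hq hk
      haveI : Fact q.Prime := ⟨hq⟩
      obtain ⟨P, hPinv, hPcard⟩ := exists_invA_sylow hcop hsol q
      obtain ⟨M, hM, hPM⟩ := exists_maxInv_ge hPinv (hproper q P hPcard)
      obtain ⟨c, hc⟩ := h' M M₀ hM hM₀
      have hcard : Nat.card M₀ = Nat.card M := by
        rw [hc]; exact card_map_of_injective (MulAut.conj c).injective
      rw [hcard]
      refine (pow_dvd_pow q ((hq.pow_dvd_iff_le_factorization Nat.card_pos.ne').mp hk)).trans ?_
      rw [← hPcard]
      exact card_dvd_of_le hPM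
    obtain ⟨p, hp, hpG⟩ := hp
    haveI : Fact p.Prime := ⟨hp⟩
    refine ⟨⟨p, hp, hpG⟩, fun L hL hinv => no_between hpG hcop (fun M N hM hN => ?_) hL hinv⟩
    obtain ⟨c, hc⟩ := h' M N hM hN
    haveI := hnormal hpG M hM
    rw [hc, Subgroup.Normal.conj_smul_eq_self]
  · rw [map_one, one_smul, ((hback hcond M).mp hM).1, ((hback hcond N).mp hN).1]

end Cfsg.Agent.S4381
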