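import Cfsg.Statements.S4385
import Cfsg.Agent.Lib.Local.DihedralSwap.CaseB
import Cfsg.Agent.Lib.Local.DihedralSwap.CaseC
import Cfsg.Agent.Lib.Core.Cores
-- import your own Cfsg.Agent.* helpers here

set_option autoImplicit false
open Pointwise
open Cfsg

namespace Cfsg.Agent.S4385

open Cfsg.Lib.Local.DihedralSwap

variable {G : Type*} [Group G]

theorem exists_pow_odd [Finite G] (h : G) : ∃ s : ℕ, Odd (orderOf (h ^ (2 ^ s))) := by
  obtain ⟨s, m, hm, hsm⟩ := Nat.exists_eq_pow_mul_and_not_dvd (orderOf_pos h).ne' 2 (by norm_num)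
  refine ⟨s, ?_⟩
  rw [orderOf_pow_of_dvd (by positivity) ⟨m, hsm⟩, hsm, Nat.mul_div_cancel_left _ (by positivity)]
  exact Nat.odd_iff.2 (by omega)

theorem unit_two {n : ℕ} [NeZero n] (hn : Odd n) : IsUnit (2 : ZMod n) := by
  have := (ZMod.isUnit_iff_coprime 2 n).2 (Nat.coprime_two_left.2 hn)
  simpa using this

/-- `n` is odd, as the quotient by the 2-core has trivial 2-core. -/
theorem n_odd [Finite G] {n : ℕ} (hn : 2 ≤ n) (e : G ⧸ Cfsg.pCore 2 G ≃* DihedralGroup n) :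
    Odd n := by
  by_contra hodd
  obtain ⟨m, hm⟩ := Nat.not_odd_iff_even.1 hodd
  haveI : NeZero n := ⟨by omega⟩
  have hbot : Cfsg.pCore 2 (DihedralGroup n) = ⊥ := by
    rw [← Cfsg.Lib.Core.map_pCore_equiv e, Cfsg.Lib.Core.pCore_quotient_pCore_eq_bot,
      Subgroup.map_bot]
  set z : DihedralGroup n := DihedralGroup.r (m : ZMod n) with hz
  have hmm : (m : ZMod n) + m = 0 := by rw [← Nat.cast_add, ← hm, ZMod.natCast_self]
  have hneg : -(m : ZMod n) = m := neg_eq_of_add_eq_zero_left hmm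
  have hz2 : z ^ 2 = 1 := by
    rw [pow_two, hz, DihedralGroup.r_mul_r, hmm]; rfl
  have hc : z ∈ Subgroup.center (DihedralGroup n) := by
    rw [Subgroup.mem_center_iff]
    rintro (j | j)
    · rw [hz, DihedralGroup.r_mul_r, DihedralGroup.r_mul_r, add_comm]
    · rw [hz, DihedralGroup.r_mul_sr, DihedralGroup.sr_mul_r, sub_eq_add_neg, hneg]
  have hN : (Subgroup.zpowers z).Normal := ⟨fun x hx g => by
    have hxc : x ∈ Subgroup.center (DihedralGroup n) := Subgroup.zpowers_le.2 hc hx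
    rwa [Subgroup.mem_center_iff.1 hxc g, mul_inv_cancel_right]⟩
  have hp : IsPGroup 2 (Subgroup.zpowers z) := by
    intro x
    refine ⟨1, Subtype.ext ?_⟩
    obtain ⟨i, hi⟩ := Subgroup.mem_zpowers_iff.1 x.2
    rw [pow_one, Subgroup.coe_pow, ← hi, ← zpow_natCast, ← zpow_mul, mul_comm, zpow_mul,
      zpow_natCast, hz2, one_zpow]; rfl
  have hle := Cfsg.Lib.Core.le_pCore' hN hp
  rw [hbot, le_bot_iff, Subgroup.zpowers_eq_bot, hz] at hle
  have h0 : (m : ZMod n) = 0 := by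
    exact DihedralGroup.r.inj (hle.trans DihedralGroup.one_def)
  rw [ZMod.natCast_eq_zero_iff] at h0
  exact absurd (Nat.le_of_dvd (by omega) h0) (by omega)

theorem mk_isSwap [Finite G]
    (H : Subgroup G) (hO : Cfsg.pCore 2 ↥H ≠ ⊥) (n : ℕ) (hn : 2 ≤ n)
    (e : ↥H ⧸ Cfsg.pCore 2 ↥H ≃* DihedralGroup n)
    (P : Subgroup G) (hPH : P ≤ H) (hP : IsPGroup 2 P) (hPsyl : ¬ 2 ∣ P.relIndex H)
    (y : G)
    (hy2 : y ^ 2 ∈ P ⊔ Subgroup.centralizer (P : Set G)) (hyN : MulAut.conj y • P = P)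
    (hyQ : ∀ Q : Subgroup G, Q ≤ P → (Q.subgroupOf H).Normal → MulAut.conj y • Q = Q → Q = ⊥) :
    ∃ Gen : G → Prop, IsSwap H P ((Cfsg.pCore 2 ↥H).map H.subtype) y Gen := by
  haveI : Fact (Nat.Prime 2) := ⟨Nat.prime_two⟩
  have hnodd := n_odd hn e
  haveI : NeZero n := ⟨by omega⟩
  have h2u : IsUnit (2 : ZMod n) := unit_two hnodd
  set Qh := Cfsg.pCore 2 ↥H with hQh
  set Q := Qh.map H.subtype with hQ
  set π : ↥H →* DihedralGroup n := e.toMonoidHom.comp (QuotientGroup.mk' Qh) with hπ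
  have hπs : Function.Surjective π := e.surjective.comp (QuotientGroup.mk'_surjective _)
  have hπQ : ∀ h : ↥H, π h = 1 ↔ (h : G) ∈ Q := by
    intro h
    rw [hπ, MonoidHom.comp_apply, MulEquiv.coe_toMonoidHom, MulEquiv.map_eq_one_iff,
      QuotientGroup.mk'_apply, QuotientGroup.eq_one_iff, hQ]
    exact (Subgroup.mem_map_iff_mem Subtype.val_injective).symm
  -- `P` as a Sylow subgroup of `H`
  have hPh : IsPGroup 2 (P.subgroupOf H) :=
    hP.of_equiv (Subgroup.subgroupOfEquivOfLe hPH).symm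
  set Ps : Sylow 2 ↥H := hPh.toSylow hPsyl with hPs
  have hPsc : (Ps : Subgroup ↥H) = P.subgroupOf H := IsPGroup.toSylow_coe _ _
  have hQP : Q ≤ P := by
    rintro _ ⟨q, hq, rfl⟩
    have := Cfsg.Lib.Core.pCore_le_sylow Ps hq
    rwa [hPsc] at this
  have hcardP : Nat.card P = 2 * Nat.card Q := by
    have h1 : Nat.card ↥H = Nat.card Q * (2 * n) := by
      rw [Qh.card_eq_card_quotient_mul_card_subgroup, Nat.card_congr e.toEquiv,
        DihedralGroup.nat_card, hQ, Subgroup.card_map_of_injective Subtype.val_injective, mul_comm]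
    have h2 : Nat.card P * P.relIndex H = Nat.card Q * (2 * n) := by
      rw [← h1, Subgroup.relIndex, ← (P.subgroupOf H).card_mul_index,
        Nat.card_congr (Subgroup.subgroupOfEquivOfLe hPH).toEquiv]
    obtain ⟨a, ha⟩ := IsPGroup.exists_card_eq (hP.to_le hQP)
    obtain ⟨b, hb⟩ := IsPGroup.exists_card_eq hP
    rw [ha, hb] at h2
    rw [ha, hb, ← pow_succ']
    have h3 : (2 : ℕ) ^ b * P.relIndex H = 2 ^ (a + 1) * n := by rw [h2, pow_succ]; ring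
    have hc1 : ∀ t, Nat.Coprime (2 ^ t) (P.relIndex H) := fun t =>
      Nat.Coprime.pow_left _ ((Nat.prime_two.coprime_iff_not_dvd).2 hPsyl)
    have hc2 : ∀ t, Nat.Coprime (2 ^ t) n := fun t =>
      Nat.Coprime.pow_left _ (Nat.coprime_two_left.2 hnodd)
    exact Nat.dvd_antisymm ((hc2 b).dvd_of_dvd_mul_right ⟨_, h3.symm⟩)
      ((hc1 (a + 1)).dvd_of_dvd_mul_right ⟨_, h3⟩)
  -- facts on images
  have hrot : ∀ (c : ZMod n), IsUnit c → ∀ j : ZMod n, ∃ t : ℕ,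
      (DihedralGroup.r c) ^ t = DihedralGroup.r j := by
    intro c hc j
    obtain ⟨u, rfl⟩ := hc
    refine ⟨((↑u⁻¹ : ZMod n) * j).val, ?_⟩
    rw [DihedralGroup.r_pow, ZMod.natCast_val, ZMod.cast_id', id, ← mul_assoc, Units.mul_inv,
      one_mul]
  have hrotQ : ∀ {k : ↥H} {c : ZMod n}, IsUnit c → π k = DihedralGroup.r c →
      ∀ {h : ↥H} {j : ZMod n}, π h = DihedralGroup.r j →
      ∃ q ∈ Q, ∃ i : ℕ, (h : G) = q * (k : G) ^ i := by
    intro k c hc hk h j hh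
    obtain ⟨t, ht⟩ := hrot c hc j
    refine ⟨((h * (k ^ t)⁻¹ : ↥H) : G), (hπQ _).1 ?_, t, by simp⟩
    rw [map_mul, map_inv, map_pow, hk, ht, hh, mul_inv_cancel]
  have hPimg : ∀ p : ↥H, (p : G) ∈ P → (p : G) ∉ Q → ∃ i, π p = DihedralGroup.sr i := by
    intro p hp hpQ
    rcases hpi : π p with j | j
    · exfalso
      obtain ⟨m, hm⟩ := hP ⟨p, hp⟩
      have hm' : p ^ (2 ^ m) = 1 := Subtype.ext (by simpa using congrArg Subtype.val hm)
      have h1 := congrArg π hm'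
      rw [map_pow, hpi, map_one, DihedralGroup.r_pow] at h1
      have hj : j * ((2 ^ m : ℕ) : ZMod n) = 0 := by
        exact DihedralGroup.r.inj (h1.trans DihedralGroup.one_def)
      rw [Nat.cast_pow, Nat.cast_ofNat] at hj
      rw [(h2u.pow m).mul_left_eq_zero] at hj
      exact hpQ ((hπQ p).1 (by rw [hpi, hj]; rfl))
    · exact ⟨j, rfl⟩
  have hodd : ∀ (h : ↥H), ∃ s : ℕ, Odd (orderOf ((h : G) ^ (2 ^ s))) := fun h => exists_pow_odd _
  obtain ⟨a, haP, haQ⟩ : ∃ a ∈ P, a ∉ Q := by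
    by_contra hcon
    push Not at hcon
    have := Subgroup.card_le_of_le (show P ≤ Q from hcon)
    have h0 : 0 < Nat.card Q := Nat.card_pos
    omega
  set Gen : G → Prop := fun k => ∃ hk : k ∈ H, Odd (orderOf k) ∧
    ∃ c : ZMod n, IsUnit c ∧ π ⟨k, hk⟩ = DihedralGroup.r c with hGen
  refine ⟨Gen, ⟨hPH, hQP, ?_, ?_, hP, ?_, hcardP, ?_, fun k hk => hk.1, fun k hk => hk.2.1, ?_, ?_,
    ?_, ?_, ?_, ?_, ?_, ?_, ?_, ?_⟩⟩
  · intro h hh
    refine cj_eq_of_le fun x hx => ?_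
    obtain ⟨v, hv, rfl⟩ := mem_cj_iff_exists.1 hx
    obtain ⟨w, hw, rfl⟩ := hv
    exact ⟨⟨h, hh⟩ * w * ⟨h, hh⟩⁻¹,
      (inferInstance : Qh.Normal).conj_mem w hw ⟨h, hh⟩, by simp⟩
  · intro h
    exact hO ((Subgroup.map_eq_bot_iff_of_injective _ Subtype.val_injective).1 h)
  · intro a ha haQ b hb hbQ
    obtain ⟨i, hi⟩ := hPimg ⟨a, hPH ha⟩ ha haQ
    obtain ⟨j, hj⟩ := hPimg ⟨b, hPH hb⟩ hb hbQ
    by_contra hab
    obtain ⟨l, hl⟩ := hPimg ((⟨a, hPH ha⟩ : ↥H)⁻¹ * ⟨b, hPH hb⟩)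
      (mul_mem (inv_mem ha) hb) hab
    rw [map_mul, map_inv, hi, hj, DihedralGroup.inv_sr, DihedralGroup.sr_mul_sr] at hl
    exact absurd hl (by simp)
  · obtain ⟨h, hh⟩ := hπs (DihedralGroup.r 1)
    obtain ⟨s, hs'⟩ := hodd h
    refine ⟨(h : G) ^ (2 ^ s), pow_mem h.2 _, hs', _, h2u.pow s, ?_⟩
    rw [show (⟨(h : G) ^ (2 ^ s), pow_mem h.2 _⟩ : ↥H) = h ^ (2 ^ s) from Subtype.ext rfl,
      map_pow, hh, DihedralGroup.r_pow, one_mul, Nat.cast_pow, Nat.cast_ofNat]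
  · rintro k ⟨hk, -, c, hc, hkc⟩ h hh
    rcases hhi : π ⟨h, hh⟩ with j | j
    · obtain ⟨q, hq, i, hqi⟩ := hrotQ hc hkc hhi
      exact ⟨q, hQP hq, i, hqi⟩
    · obtain ⟨l, hl⟩ := hPimg ⟨a, hPH haP⟩ haP haQ
      obtain ⟨q, hq, i, hqi⟩ := hrotQ hc hkc
        (h := (⟨a, hPH haP⟩ : ↥H)⁻¹ * ⟨h, hh⟩)
        (by rw [map_mul, map_inv, hl, hhi, DihedralGroup.inv_sr, DihedralGroup.sr_mul_sr])
      refine ⟨a * q, mul_mem haP (hQP hq), i, ?_⟩
      have : a⁻¹ * h = q * k ^ i := hqi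
      rw [mul_assoc, ← this, mul_inv_cancel_left]
  · rintro k ⟨hk, -, c, hc, hkc⟩ k₂ ⟨hk₂, -, c₂, -, hkc₂⟩
    exact hrotQ hc hkc hkc₂
  · rintro k ⟨hk, ho, c, hc, hkc⟩
    refine ⟨inv_mem hk, by rwa [orderOf_inv], -c, hc.neg, ?_⟩
    rw [show (⟨k⁻¹, inv_mem hk⟩ : ↥H) = (⟨k, hk⟩ : ↥H)⁻¹ from rfl, map_inv, hkc,
      DihedralGroup.inv_r]
  · rintro k ⟨hk, ho, c, hc, hkc⟩
    refine ⟨mul_mem hk hk, ?_, c + c, ?_, ?_⟩
    · rw [← pow_two]; exact ho.of_dvd_nat (orderOf_pow_dvd 2)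
    · rw [← two_mul]; exact h2u.mul hc
    · rw [show (⟨k * k, mul_mem hk hk⟩ : ↥H) = (⟨k, hk⟩ : ↥H) * ⟨k, hk⟩ from rfl, map_mul, hkc,
        DihedralGroup.r_mul_r]
  · rintro k ⟨hk, -, c, hc, hkc⟩ b hb hbQ
    obtain ⟨i, hi⟩ := hPimg ⟨b, hPH hb⟩ hb hbQ
    refine ⟨b * k * b⁻¹ * k, (hπQ (⟨b, hPH hb⟩ * ⟨k, hk⟩ * ⟨b, hPH hb⟩⁻¹ * ⟨k, hk⟩)).1 ?_,
      by group⟩
    rw [map_mul, map_mul, map_mul, map_inv, hi, hkc, DihedralGroup.inv_sr,
      DihedralGroup.sr_mul_r, DihedralGroup.sr_mul_sr, DihedralGroup.r_mul_r,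
      show i - (i + c) + c = 0 by ring]
    rfl
  · rintro k ⟨hk, -, c, hc, hkc⟩ b hb hbQ
    obtain ⟨i, hi⟩ := hPimg ⟨b, hPH hb⟩ hb hbQ
    set w : ↥H := ⟨b, hPH hb⟩ * (⟨k, hk⟩ * ⟨b, hPH hb⟩ * (⟨k, hk⟩ : ↥H)⁻¹) with hw
    obtain ⟨s, hs'⟩ := hodd w
    refine ⟨(w : G) ^ (2 ^ s), ⟨pow_mem w.2 _, hs', -(2 * c) * 2 ^ s,
      (h2u.mul hc).neg.mul (h2u.pow s), ?_⟩, pow_mem (Subgroup.mem_zpowers _) _⟩
    rw [show (⟨(w : G) ^ (2 ^ s), pow_mem w.2 _⟩ : ↥H) = w ^ (2 ^ s) from Subtype.ext rfl,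
      map_pow, hw, map_mul, map_mul, map_mul, map_inv, hi, hkc, DihedralGroup.inv_r,
      DihedralGroup.r_mul_sr, DihedralGroup.sr_mul_r, DihedralGroup.sr_mul_sr,
      DihedralGroup.r_pow, Nat.cast_pow, Nat.cast_ofNat]
    congr 1; ring
  · rintro k ⟨hk, -, c, hc, hkc⟩ h hh ho
    rcases hhi : π ⟨h, hh⟩ with j | j
    · exact hrotQ hc hkc hhi
    · exfalso
      obtain ⟨m, hm⟩ := ho
      have h1 : (⟨h, hh⟩ : ↥H) ^ (2 * m + 1) = 1 :=
        Subtype.ext (by rw [← hm]; exact pow_orderOf_eq_one h)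
      have h2 := congrArg π h1
      have hsq : (DihedralGroup.sr j : DihedralGroup n) * DihedralGroup.sr j = 1 :=
        DihedralGroup.sr_mul_self j
      rw [map_pow, hhi, map_one, pow_succ, pow_mul, pow_two, hsq, one_pow, one_mul] at h2
      cases (h2.trans DihedralGroup.one_def)
  · exact hyN
  · rw [pow_two, sup_comm, Cfsg.Lib.Core.mem_sup_of_le_normalizer] at hy2
    · obtain ⟨c, hc, p, hp, hcp⟩ := hy2
      refine ⟨p, hp, c, fun x hx => (hc x hx).symm, ?_⟩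
      rw [← hcp]; exact (hc p hp).symm
    · exact le_normalizer_of_cj fun c hc => cj_eq_self_of_commute fun x hx => (hc x hx).symm
  · intro N hN hH hy
    refine hyQ N hN ⟨fun x hx g => ?_⟩ hy
    rw [Subgroup.mem_subgroupOf] at hx ⊢
    simpa using conj_mem_of_cj_eq (hH g g.2) hx

/-- The odd core. -/
theorem oddCore_eq [Finite G] {H L : Subgroup G} (hL : L ≤ H) (hn : ∀ h ∈ H, cj h L = L)
    (hodd : Odd (Nat.card L))
    (h : ∀ x ∈ H, Odd (orderOf x) →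
      (∀ q ∈ (Cfsg.pCore 2 ↥H).map H.subtype, x * q = q * x) → x ∈ L) :
    Cfsg.oddCore ↥H = L.subgroupOf H := by
  have hnorm : (L.subgroupOf H).Normal := ⟨fun x hx g => by
    rw [Subgroup.mem_subgroupOf] at hx ⊢
    simpa using conj_mem_of_cj_eq (hn g g.2) hx⟩
  refine le_antisymm ?_ (le_sSup ⟨hnorm, ?_⟩)
  · intro x hx
    have hco := Cfsg.Lib.Core.pPrimeCore_coprime 2 ↥H
    have hdvd : orderOf x ∣ Nat.card (Cfsg.oddCore ↥H) := Subgroup.orderOf_dvd_natCard _ hx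
    have hoddx : Odd (orderOf x) := (Nat.coprime_two_right.1 hco).of_dvd_nat hdvd
    have hN : (Cfsg.oddCore ↥H).Normal :=
      (Cfsg.Lib.Core.sSup_mem_of_sup_mem (S := {N : Subgroup ↥H | N.Normal ∧ (Nat.card N).Coprime 2})
        ⟨inferInstance, by simp⟩
        fun a ha b hb => by
          have := ha.1; have := hb.1
          exact ⟨Subgroup.sup_normal a b, Cfsg.Lib.Core.coprime_card_sup ha.2 hb.2⟩).1
    rw [Subgroup.mem_subgroupOf]
    refine h x x.2 (by rwa [Subgroup.orderOf_coe]) ?_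
    rintro _ ⟨q, hq, rfl⟩
    have hdis : Disjoint (Cfsg.oddCore ↥H) (Cfsg.pCore 2 ↥H) := by
      rw [disjoint_iff]
      haveI : Fact (Nat.Prime 2) := ⟨Nat.prime_two⟩
      obtain ⟨m, hm⟩ := IsPGroup.exists_card_eq (Cfsg.Lib.Core.pCore_isPGroup 2 ↥H)
      exact Subgroup.inf_eq_bot_of_coprime (by rw [hm]; exact Nat.Coprime.pow_right m hco)
    exact congrArg Subtype.val
      (Subgroup.commute_of_normal_of_disjoint _ _ hN inferInstance hdis x q hx hq).eq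
  · rw [Nat.card_congr (Subgroup.subgroupOfEquivOfLe hL).toEquiv]
    exact Nat.coprime_two_right.2 hodd

theorem caseA_quot [Finite G] {H P : Subgroup G} {y : G} {Gen : G → Prop}
    (hs : IsSwap H P ((Cfsg.pCore 2 ↥H).map H.subtype) y Gen)
    (hZ : ¬ oZ P ≤ (Cfsg.pCore 2 ↥H).map H.subtype) :
    Nat.card P = 4 ∧
      Nonempty (↥H ⧸ Cfsg.oddCore ↥H ≃* Multiplicative (ZMod 2) × Multiplicative (ZMod 2)) := by
  obtain ⟨t, k, htP, htQ, ht2, htc, hk, hinv, hQk, hQ2⟩ := hs.caseA hZ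
  set Q := (Cfsg.pCore 2 ↥H).map H.subtype with hQ
  have hP4 : Nat.card P = 4 := by rw [hs.cardP, hQ2]
  refine ⟨hP4, ?_⟩
  have hkH := hs.gen_mem k hk
  have hq2 : ∀ q ∈ Q, q * q = 1 := by
    intro q hq
    have h := congrArg Subtype.val (pow_card_eq_one' (x := (⟨q, hq⟩ : Q)))
    rw [hQ2, pow_two] at h
    exact h
  set L := Subgroup.zpowers k with hL
  have hLH : L ≤ H := Subgroup.zpowers_le.2 hkH
  have hqc : ∀ q ∈ Q, ∀ l ∈ L, q * l = l * q := fun q hq l hl =>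
    commute_of_mem_zpowers (hQk q hq) hl
  have hLn : ∀ h ∈ H, cj h L = L := by
    refine hs.cj_P_of_H (fun p hp => ?_) hk (cj_eq_self_of_mem (Subgroup.mem_zpowers k))
    rcases hs.cases_P htP htQ hp with hq | ⟨q, hq, rfl⟩
    · exact cj_eq_self_of_commute fun l hl => hqc p hq l hl
    · refine cj_mul_self (cj_eq_of_le fun v hv => ?_) (cj_eq_self_of_commute (hqc q hq))
      obtain ⟨u, hu, rfl⟩ := mem_cj_iff_exists.1 hv
      rw [inverts_of_mem_zpowers hinv hu]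
      exact inv_mem hu
  have hodd : Odd (Nat.card L) := by rw [hL, Nat.card_zpowers]; exact hs.gen_odd k hk
  have heq : Cfsg.oddCore ↥H = L.subgroupOf H := oddCore_eq hLH hLn hodd fun x hx ho _ => by
    obtain ⟨q, hq, i, rfl⟩ := hs.odd_rot k hk x hx ho
    have hc : Commute q (k ^ i) := hqc q hq _ (pow_mem (Subgroup.mem_zpowers k) i)
    obtain ⟨m, hm⟩ := ho
    have hp : (q * k ^ i) ^ (2 * m + 1) = 1 := hm ▸ pow_orderOf_eq_one _
    rw [hc.mul_pow, pow_succ q, pow_mul, pow_two, hq2 q hq, one_pow, one_mul] at hp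
    rw [eq_inv_of_mul_eq_one_left hp]
    exact mul_mem (inv_mem (pow_mem (pow_mem (Subgroup.mem_zpowers k) i) _))
      (pow_mem (Subgroup.mem_zpowers k) i)
  have hnorm : (L.subgroupOf H).Normal := ⟨fun x hx g => by
    rw [Subgroup.mem_subgroupOf] at hx ⊢
    simpa using conj_mem_of_cj_eq (hLn g g.2) hx⟩
  let f : P →* ↥H ⧸ L.subgroupOf H :=
    (QuotientGroup.mk' (L.subgroupOf H)).comp (Subgroup.inclusion hs.PH)
  have hf : Function.Bijective f := by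
    constructor
    · rw [← MonoidHom.ker_eq_bot_iff, Subgroup.eq_bot_iff_forall]
      rintro ⟨p, hp⟩ hker
      rw [MonoidHom.mem_ker, MonoidHom.comp_apply, QuotientGroup.mk'_apply,
        QuotientGroup.eq_one_iff, Subgroup.mem_subgroupOf] at hker
      obtain ⟨i, hi⟩ := mem_powers_iff_mem_zpowers.2 hker
      have hi' : k ^ i = p := hi
      exact Subtype.ext (hi'.symm.trans (hs.pow_gen_eq_one hk (hi'.symm ▸ hp)))
    · intro x
      obtain ⟨⟨h, hh⟩, rfl⟩ := QuotientGroup.mk'_surjective _ x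
      obtain ⟨p, hp, i, rfl⟩ := hs.gen_decomp k hk h hh
      refine ⟨⟨p, hp⟩, ?_⟩
      show ((⟨p, hs.PH hp⟩ : ↥H) : ↥H ⧸ L.subgroupOf H) = _
      rw [QuotientGroup.mk'_apply, QuotientGroup.eq, Subgroup.mem_subgroupOf]
      show p⁻¹ * (p * k ^ i) ∈ L
      rw [inv_mul_cancel_left]
      exact pow_mem (Subgroup.mem_zpowers k) i
  let ef : P ≃* ↥H ⧸ L.subgroupOf H := MulEquiv.ofBijective f hf
  have hPexp : ∀ p : P, p * p = 1 := by
    rintro ⟨p, hp⟩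
    apply Subtype.ext
    show p * p = 1
    rcases hs.cases_P htP htQ hp with hq | ⟨q, hq, rfl⟩
    · exact hq2 p hq
    · calc t * q * (t * q) = t * (q * t) * q := by group
        _ = t * (t * q) * q := by rw [htc q hq]
        _ = (t * t) * (q * q) := by group
        _ = 1 := by rw [ht2, hq2 q hq, one_mul]
  haveI : Nontrivial P := Finite.one_lt_card_iff_nontrivial.1 (by omega)
  haveI : IsKleinFour P := ⟨hP4, by
    refine Nat.dvd_antisymm (Monoid.exponent_dvd_of_forall_pow_eq_one fun p => by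
      rw [pow_two]; exact hPexp p) ?_
    have h1 : Monoid.exponent P ≠ 1 := fun h =>
      not_subsingleton P (Monoid.exp_eq_one_iff.1 h)
    have h2 : Monoid.exponent P ∣ 2 :=
      Monoid.exponent_dvd_of_forall_pow_eq_one fun p => by rw [pow_two]; exact hPexp p
    rcases (Nat.dvd_prime Nat.prime_two).1 h2 with h | h
    · exact absurd h h1
    · rw [h]⟩
  haveI : IsKleinFour (Multiplicative (ZMod 2) × Multiplicative (ZMod 2)) := ⟨by simp, by
    refine Nat.dvd_antisymm (Monoid.exponent_dvd_of_forall_pow_eq_one (by decide)) ?_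
    have := Monoid.order_dvd_exponent
      ((Multiplicative.ofAdd (1 : ZMod 2), 1) : Multiplicative (ZMod 2) × Multiplicative (ZMod 2))
    rwa [orderOf_eq_prime (p := 2) (by decide) (by decide)] at this⟩
  obtain ⟨e4⟩ := IsKleinFour.nonempty_mulEquiv (G₁ := P)
    (G₂ := Multiplicative (ZMod 2) × Multiplicative (ZMod 2))
  exact ⟨((QuotientGroup.quotientMulEquivOfEq heq).trans ef.symm).trans e4⟩

theorem caseB_quot [Finite G] {H P : Subgroup G} {y : G} {Gen : G → Prop}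
    (hs : IsSwap H P ((Cfsg.pCore 2 ↥H).map H.subtype) y Gen)
    (hZ : oZ P ≤ (Cfsg.pCore 2 ↥H).map H.subtype) :
    (Nat.card P = 8 ∨ Nat.card P = 16) ∧
    (Nonempty (↥H ⧸ Cfsg.oddCore ↥H ≃* Equiv.Perm (Fin 4)) ∨
     Nonempty (↥H ⧸ Cfsg.oddCore ↥H ≃* Equiv.Perm (Fin 4) × Multiplicative (ZMod 2))) := by
  set Q := (Cfsg.pCore 2 ↥H).map H.subtype with hQ
  have hV1 : ¬ cj y (oZ Q) ≤ Q := hs.caseC hZ
  obtain ⟨a, ha, haQ⟩ := SetLike.not_le_iff_exists.1 hV1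
  obtain ⟨haP, ha2, hVQ, k, hk, hinv⟩ := hs.caseB hZ ha haQ
  obtain ⟨L, hLH, hLn, hLodd, hLc, c, hc, hcP, M, N, hM, hN, hNc, hker, hcard⟩ :=
    hs.split_structure hZ hVQ haP haQ ha2 hk hinv
  have heq : Cfsg.oddCore ↥H = L.subgroupOf H := oddCore_eq hLH hLn hLodd hLc
  let φ : ↥H →* Equiv.Perm (↥H ⧸ M) × (↥H ⧸ N) :=
    (MulAction.toPermHom ↥H (↥H ⧸ M)).prod (QuotientGroup.mk' N)
  have hφ : φ.ker = Cfsg.oddCore ↥H := by
    rw [MonoidHom.ker_prod, ← Subgroup.normalCore_eq_ker, QuotientGroup.ker_mk', hker, heq]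
  have hMc : Nat.card (↥H ⧸ M) = 4 := hM
  let e4 : ↥H ⧸ M ≃ Fin 4 := Finite.equivFinOfCardEq hMc
  have htarget : Nat.card (Equiv.Perm (↥H ⧸ M) × (↥H ⧸ N)) = 24 * c := by
    rw [Nat.card_prod, Nat.card_perm, hMc]
    congr 1
  have hsurj : φ.range = ⊤ := by
    refine Subgroup.eq_top_of_card_eq _ ?_
    rw [htarget]
    have h1 := φ.ker.card_eq_card_quotient_mul_card_subgroup
    rw [Nat.card_congr (QuotientGroup.quotientKerEquivRange φ).toEquiv, hφ, heq,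
      Nat.card_congr (Subgroup.subgroupOfEquivOfLe hLH).toEquiv, hcard] at h1
    exact (Nat.eq_of_mul_eq_mul_right Nat.card_pos h1).symm
  let e1 : ↥H ⧸ Cfsg.oddCore ↥H ≃* Equiv.Perm (↥H ⧸ M) × (↥H ⧸ N) :=
    (QuotientGroup.quotientMulEquivOfEq hφ.symm).trans
      (QuotientGroup.quotientKerEquivOfSurjective φ (MonoidHom.range_eq_top.1 hsurj))
  refine ⟨by rcases hc with rfl | rfl <;> omega, ?_⟩
  rcases hc with rfl | rfl
  · left
    haveI : Subsingleton (↥H ⧸ N) := (Nat.card_eq_one_iff_unique.1 hNc).1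
    exact ⟨(e1.trans (MulEquiv.ofBijective (MonoidHom.fst (Equiv.Perm (↥H ⧸ M)) (↥H ⧸ N))
      ⟨fun u v h => Prod.ext h (Subsingleton.elim _ _), fun u => ⟨(u, 1), rfl⟩⟩)).trans
        e4.permCongrHom⟩
  · right
    haveI : Fact (Nat.Prime 2) := ⟨Nat.prime_two⟩
    let e2 : ↥H ⧸ N ≃* Multiplicative (ZMod 2) :=
      mulEquivOfPrimeCardEq (p := 2) hNc (by simp)
    exact ⟨e1.trans (e4.permCongrHom.prodCongr e2)⟩

/-- Let H be a subgroup of a finite group G whose largest normal 2-subgroup O_2(H) is nontrivial and such that H/O_2(H) is a dihedral group of order at least 4. Let P be a Sylow 2-subgroup of H and S a Sylow 2-subgroup of G containing P. Suppose y ∈ S lies outside P, normalizes P, has y² in the product of P with the centralizer of P in G, and normalizes no non-identity normal subgroup of H contained in P. Then P has order 4, 8 or 16, and H modulo its largest normal subgroup of odd order is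 isomorphic to the four-group, to the symmetric group of degree 4, or to the direct product of the symmetric group of degree 4 with a group of order 2. -/
theorem result {G : Type*} [Group G] [Finite G]
    (H : Subgroup G) (hO : Cfsg.pCore 2 ↥H ≠ ⊥) (n : ℕ) (hn : 2 ≤ n) (hdih : Nonempty (↥H ⧸ Cfsg.pCore 2 ↥H ≃* DihedralGroup n))
    (P : Subgroup G) (hPH : P ≤ H) (hP : IsPGroup 2 P) (hPsyl : ¬ 2 ∣ P.relIndex H)
    (S : Sylow 2 G) (hPS : P ≤ (S : Subgroup G)) (y : G) (hyS : y ∈ (S : Subgroup G)) (hyP : y ∉ P)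
    (hy2 : y ^ 2 ∈ P ⊔ Subgroup.centralizer (P : Set G)) (hyN : MulAut.conj y • P = P)
    (hyQ : ∀ Q : Subgroup G, Q ≤ P → (Q.subgroupOf H).Normal → MulAut.conj y • Q = Q → Q = ⊥) :
    (Nat.card P = 4 ∨ Nat.card P = 8 ∨ Nat.card P = 16) ∧
    (Nonempty (↥H ⧸ Cfsg.oddCore ↥H ≃* Multiplicative (ZMod 2) × Multiplicative (ZMod 2)) ∨
     Nonempty (↥H ⧸ Cfsg.oddCore ↥H ≃* Equiv.Perm (Fin 4)) ∨
     Nonempty (↥H ⧸ Cfsg.oddCore ↥H ≃* Equiv.Perm (Fin 4) × Multiplicative (ZMod 2))) := by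
  obtain ⟨e⟩ := hdih
  obtain ⟨Gen, hs⟩ := mk_isSwap H hO n hn e P hPH hP hPsyl y hy2 hyN hyQ
  by_cases hZ : Cfsg.Lib.Local.DihedralSwap.oZ P ≤ (Cfsg.pCore 2 ↥H).map H.subtype
  · obtain ⟨h1, h2⟩ := caseB_quot hs hZ
    exact ⟨h1.elim (fun h => Or.inr (Or.inl h)) (fun h => Or.inr (Or.inr h)), Or.inr h2⟩
  · obtain ⟨h1, h2⟩ := caseA_quot hs hZ
    exact ⟨Or.inl h1, Or.inl h2⟩

end Cfsg.Agent.S4385
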