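import Cfsg.Statements.S4387

set_option autoImplicit false
open Pointwise
set_option linter.style.haveILetI false
open Cfsg

namespace Cfsg.Agent.S4387

theorem exists_not_conj_mem {G : Type*} [Group G] [Finite G] (M : Subgroup G) (hM : M ≠ ⊤) :
    ∃ g : G, ∀ x : G, x⁻¹ * g * x ∉ M := by
  classical
  haveI := Fintype.ofFinite G
  haveI := Fintype.ofFinite (G ⧸ M)
  by_contra hcon
  push Not at hcon
  have hfix : ∀ g : G, 1 ≤ Fintype.card (MulAction.fixedBy (G ⧸ M) g) := by
    intro g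
    obtain ⟨x, hx⟩ := hcon g
    refine Fintype.card_pos_iff.mpr ⟨⟨(x : G ⧸ M), ?_⟩⟩
    rw [MulAction.mem_fixedBy, MulAction.Quotient.smul_mk, QuotientGroup.eq, smul_eq_mul,
      show (g * x)⁻¹ * x = (x⁻¹ * g * x)⁻¹ by group]
    exact inv_mem hx
  have h1 : 1 < Fintype.card (MulAction.fixedBy (G ⧸ M) (1 : G)) := by
    have h2 : M.index ≠ 1 := fun h => hM (Subgroup.index_eq_one.mp h)
    have h3 : M.index ≠ 0 := M.index_ne_zero_of_finite
    rw [Subgroup.index_eq_card, Nat.card_eq_fintype_card] at h2 h3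
    have h4 : Fintype.card (MulAction.fixedBy (G ⧸ M) (1 : G)) = Fintype.card (G ⧸ M) :=
      Fintype.card_congr (Equiv.subtypeUnivEquiv fun x => by simp)
    omega
  haveI : Fintype (Quotient (MulAction.orbitRel G (G ⧸ M))) := Fintype.ofFinite _
  have hb := MulAction.sum_card_fixedBy_eq_card_orbits_mul_card_group G (G ⧸ M)
  have horb : Fintype.card (Quotient (MulAction.orbitRel G (G ⧸ M))) ≤ 1 := by
    rw [Fintype.card_le_one_iff_subsingleton]
    exact (MulAction.pretransitive_iff_subsingleton_quotient G (G ⧸ M)).mp inferInstance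
  have hlt : ∑ _g : G, 1 < ∑ g : G, Fintype.card (MulAction.fixedBy (G ⧸ M) g) :=
    Finset.sum_lt_sum (fun g _ => hfix g) ⟨1, Finset.mem_univ _, h1⟩
  simp only [Finset.sum_const, Finset.card_univ, smul_eq_mul, mul_one] at hlt
  rw [hb] at hlt
  exact absurd hlt (not_lt.mpr ((Nat.mul_le_mul_right _ horb).trans (one_mul _).le))

/-- Let G be a non-trivial finite group in which any two maximal subgroups are conjugate. Then G is cyclic of prime-power order. -/
theorem result {G : Type*} [Group G] [Finite G] [Nontrivial G]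
    (h : ∀ M N : Subgroup G, IsCoatom M → IsCoatom N → ∃ g : G, N = MulAut.conj g • M) :
    IsCyclic G ∧ IsPrimePow (Nat.card G) := by
  obtain ⟨M, hM, -⟩ := (eq_top_or_exists_le_coatom (⊥ : Subgroup G)).resolve_left bot_ne_top
  obtain ⟨g, hg⟩ := exists_not_conj_mem M hM.1
  have hgen : Subgroup.zpowers g = ⊤ := by
    by_contra hne
    obtain ⟨N, hN, hle⟩ := (eq_top_or_exists_le_coatom (Subgroup.zpowers g)).resolve_left hne
    obtain ⟨x, rfl⟩ := h M N hM hN
    apply hg x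
    have := hle (Subgroup.mem_zpowers g)
    rw [Subgroup.mem_pointwise_smul_iff_inv_smul_mem, MulAut.smul_def, MulAut.conj_inv_apply] at this
    exact this
  haveI hcyc : IsCyclic G := ⟨⟨g, fun x => Subgroup.mem_zpowers_iff.mp (by rw [hgen]; trivial)⟩⟩
  refine ⟨hcyc, ?_⟩
  have hn := Nat.card_zpowers g
  rw [hgen, Subgroup.card_top] at hn
  rw [hn]
  have hgt : 1 < orderOf g := by
    rw [← hn]
    exact Finite.one_lt_card
  by_contra hnp
  obtain ⟨r, s, hr, hs, hrs, hrd, hsd⟩ : ∃ r s : ℕ, r.Prime ∧ s.Prime ∧ r ≠ s ∧ r ∣ orderOf g ∧ s ∣ orderOf g := by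
    have hr := Nat.minFac_prime hgt.ne'
    have hex : ¬ ∀ s : ℕ, s.Prime → s ∣ orderOf g → s = (orderOf g).minFac := fun hall =>
      hnp (isPrimePow_iff_unique_prime_dvd.mpr
        ⟨_, ⟨hr, Nat.minFac_dvd _⟩, fun s hs => hall s hs.1 hs.2⟩)
    push Not at hex
    obtain ⟨s, hs, hsd, hne⟩ := hex
    exact ⟨_, s, hr, hs, hne.symm, Nat.minFac_dvd _, hsd⟩
  have key : ∀ t : ℕ, t.Prime → t ∣ orderOf g → ∃ N : Subgroup G, IsCoatom N ∧ g ^ t ∈ N := by
    intro t ht htd
    have hne : Subgroup.zpowers (g ^ t) ≠ ⊤ := by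
      intro htop
      have h2 := Nat.card_zpowers (g ^ t)
      rw [htop, Subgroup.card_top, hn, orderOf_pow_of_dvd ht.ne_zero htd] at h2
      exact (Nat.div_lt_self (by omega) ht.one_lt).ne h2.symm
    obtain ⟨N, hN, hle⟩ := (eq_top_or_exists_le_coatom _).resolve_left hne
    exact ⟨N, hN, hle (Subgroup.mem_zpowers _)⟩
  obtain ⟨A, hA, hAr⟩ := key r hr hrd
  obtain ⟨B, hB, hBs⟩ := key s hs hsd
  have hcomm : ∀ (x : G) (K : Subgroup G), MulAut.conj x • K = K := by
    intro x K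
    ext k
    rw [Subgroup.mem_pointwise_smul_iff_inv_smul_mem, MulAut.smul_def, MulAut.conj_inv_apply]
    letI := hcyc.commGroup
    rw [show x⁻¹ * k * x = k by rw [mul_comm, mul_inv_cancel_left]]
  obtain ⟨x, hx⟩ := h A B hA hB
  rw [hcomm] at hx
  rw [hx] at hBs
  have h1 : g ∈ A := by
    have hb := Nat.gcd_eq_gcd_ab r s
    rw [(Nat.coprime_primes hr hs).mpr hrs |>.gcd_eq_one] at hb
    have : g = (g ^ r) ^ Nat.gcdA r s * (g ^ s) ^ Nat.gcdB r s := by
      rw [← zpow_natCast, ← zpow_natCast, ← zpow_mul, ← zpow_mul, ← zpow_add, ← hb]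
      simp
    rw [this]
    exact mul_mem (zpow_mem hAr _) (zpow_mem hBs _)
  exact hA.1 (top_le_iff.mp (hgen ▸ Subgroup.zpowers_le.mpr h1))

end Cfsg.Agent.S4387
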