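import Cfsg.Statements.S4394
import Cfsg.Agent.Lib.Solv.Schmidt
import Cfsg.Agent.Lib.PGroup.Basic
import Cfsg.Agent.Lib.Local.PLengthChain
import Cfsg.Agent.Lib.Coprime.Generation
import Cfsg.Agent.S0625

set_option linter.style.haveILetI false

set_option autoImplicit false
open Cfsg

namespace Cfsg.Agent.S4394

open Subgroup
open scoped commutatorElement

universe u

lemma mem_normalizer_of_forall_conj {X : Type*} [Group X] [Finite X] {K : Subgroup X} {n : X}
    (h : ∀ k ∈ K, n * k * n⁻¹ ∈ K) : n ∈ normalizer (K : Set X) := by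
  rw [Cfsg.Lib.Core.mem_normalizer_iff_map_conj]
  refine eq_of_le_of_card_ge ?_ ?_
  · rintro _ ⟨k, hk, rfl⟩; exact h k hk
  · rw [card_map_of_injective (MulEquiv.injective _)]

/-- What is needed about a non-abelian normal Sylow subgroup of a minimal non-nilpotent group. -/
structure Shape (p : ℕ) (S : Type*) [Group S] : Prop where
  center_eq : center S = commutator S
  pow_central : ∀ x : S, x ^ p ∈ center S
  surj : ∀ x ∉ center S, ∀ d ∈ commutator S, ∃ g, ⁅x, g⁆ = d
  small2 : p = 2 → (center S).index = 4 → ∀ x ∉ center S, x ^ 2 ≠ 1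
  small3 : p = 3 → (center S).index ≠ 9

/-- `|X| ∣ |A| |N|` when `X = A N` with `N` normal. -/
lemma card_dvd_mul {X : Type*} [Group X] [Finite X] (A N : Subgroup X) [N.Normal] (h : A ⊔ N = ⊤) :
    Nat.card X ∣ Nat.card A * Nat.card N := by
  rw [← N.card_mul_index, mul_comm (Nat.card A)]
  refine mul_dvd_mul_left _ ?_
  rw [← relIndex_top_right, ← h, relIndex_sup_right, ← inf_relIndex_right]
  exact (index_dvd_card ((N ⊓ A).subgroupOf A))

section class2

variable {S : Type*} [Group S]

lemma comm_mul_left (hc : commutator S ≤ center S) (a b g : S) : ⁅a * b, g⁆ = ⁅a, g⁆ * ⁅b, g⁆ := by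
  have h : ⁅b, g⁆ ∈ center S := hc (commutator_mem_commutator (mem_top b) (mem_top g))
  have h1 := Subgroup.mem_center_iff.1 h
  calc ⁅a * b, g⁆ = (a * ⁅b, g⁆) * a⁻¹ * ⁅a, g⁆ := by rw [commutatorElement_def, commutatorElement_def, commutatorElement_def]; group
    _ = ⁅b, g⁆ * ⁅a, g⁆ := by rw [h1]; group
    _ = ⁅a, g⁆ * ⁅b, g⁆ := (h1 _).symm

lemma comm_mul_right (hc : commutator S ≤ center S) (a g h : S) : ⁅a, g * h⁆ = ⁅a, g⁆ * ⁅a, h⁆ := by
  have h0 : ⁅a, h⁆ ∈ center S := hc (commutator_mem_commutator (mem_top a) (mem_top h))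
  have h1 := Subgroup.mem_center_iff.1 h0
  calc ⁅a, g * h⁆ = ⁅a, g⁆ * (g * ⁅a, h⁆) * g⁻¹ := by rw [commutatorElement_def, commutatorElement_def, commutatorElement_def]; group
    _ = ⁅a, g⁆ * ⁅a, h⁆ := by rw [h1]; group

lemma comm_pow_left (hc : commutator S ≤ center S) (a g : S) (n : ℕ) : ⁅a ^ n, g⁆ = ⁅a, g⁆ ^ n := by
  induction n with
  | zero => simp
  | succ n ih => rw [pow_succ, comm_mul_left hc, ih, pow_succ]

end class2

section schmidt

variable {p q : ℕ} [Fact p.Prime] [Fact q.Prime] {S : Type*} [Group S] [Finite S]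

lemma shape_of_auto (hpq : p ≠ q) (hS : IsPGroup p S) (σ : MulAut S) (hσq : σ ^ q = 1) (hσ : σ ≠ 1)
    (hinv : ∀ R : Subgroup S, (∀ r ∈ R, σ r ∈ R) → R ≠ ⊤ → ∀ r ∈ R, σ r = r) (hna : ¬ IsMulCommutative S) :
    Shape p S := by
  classical
  have hiter : ∀ g c : S, σ g = g * c → σ c = c → ∀ j : ℕ, (σ ^ j) g = g * c ^ j := by
    intro g c hg hc j
    induction j with
    | zero => simp
    | succ j ih =>
      rw [pow_succ', MulAut.mul_apply, ih, map_mul, map_pow, hg, hc, mul_assoc, ← pow_succ']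
  have hfix : ∀ g c : S, σ g = g * c → σ c = c → c = 1 := by
    intro g c hg hc
    have h1 := hiter g c hg hc q
    rw [hσq, MulAut.one_apply, left_eq_mul] at h1
    obtain ⟨k, hk⟩ := hS c
    have h2 : orderOf c ∣ Nat.gcd q (p ^ k) :=
      Nat.dvd_gcd (orderOf_dvd_iff_pow_eq_one.2 h1) (orderOf_dvd_iff_pow_eq_one.2 hk)
    rw [((Nat.coprime_primes (Fact.out : q.Prime) (Fact.out : p.Prime)).2 (Ne.symm hpq)).pow_right k] at h2
    exact orderOf_eq_one_iff.1 (Nat.dvd_one.1 h2)
  -- the commutator subgroup with `σ` is everything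
  have hgen : closure (Set.range fun g : S => g⁻¹ * σ g) = ⊤ := by
    by_contra hne
    have hM : ∀ r ∈ closure (Set.range fun g : S => g⁻¹ * σ g), σ r ∈ closure (Set.range fun g : S => g⁻¹ * σ g) := by
      intro r hr
      induction hr using closure_induction with
      | mem z hz =>
        obtain ⟨g, rfl⟩ := hz
        exact subset_closure ⟨σ g, by simp⟩
      | one => rw [map_one]; exact one_mem _
      | mul a b _ _ iha ihb => rw [map_mul]; exact mul_mem iha ihb
      | inv a _ iha => rw [map_inv]; exact inv_mem iha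
    apply hσ
    refine MulEquiv.ext fun g => ?_
    have hc := hinv _ hM hne (g⁻¹ * σ g) (subset_closure ⟨g, rfl⟩)
    have h1 := hfix g (g⁻¹ * σ g) (by rw [mul_inv_cancel_left]) hc
    rw [MulAut.one_apply, ← inv_mul_eq_one.1 h1]
  set C : Subgroup S := MonoidHom.eqLocus σ.toMonoidHom (MonoidHom.id S) with hC
  have hCmem : ∀ g, g ∈ C ↔ σ g = g := fun g => Iff.rfl
  haveI : Nontrivial S := by
    by_contra h
    rw [not_nontrivial_iff_subsingleton] at h
    exact hna ⟨⟨fun a b => Subsingleton.elim _ _⟩⟩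
  have hΦC : frattini S ≤ C := fun r hr => hinv _ (fun s hs => by
    have h := Subgroup.Characteristic.fixed (H := frattini S) inferInstance σ
    rw [← h] at hs
    exact hs) (Cfsg.Lib.PGroup.frattini_ne_top) r hr
  have hDC : commutator S ≤ C := (Cfsg.Lib.PGroup.commutator_le_frattini (p := p) hS).trans hΦC
  have hCcent : C ≤ center S := by
    intro c hc
    rw [Subgroup.mem_center_iff]
    intro g
    have hall : closure (Set.range fun g : S => g⁻¹ * σ g) ≤ centralizer ({c} : Set S) := by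
      rw [closure_le]
      rintro _ ⟨h, rfl⟩
      rw [SetLike.mem_coe, mem_centralizer_singleton_iff]
      have h1 : h * c * h⁻¹ ∈ C := by
        have := mul_mem (hDC (commutator_mem_commutator (mem_top h) (mem_top c))) hc
        simpa [commutatorElement_def] using this
      rw [hCmem, map_mul, map_mul, map_inv, (hCmem c).1 hc] at h1
      calc h⁻¹ * σ h * c = h⁻¹ * (σ h * c * (σ h)⁻¹) * σ h := by group
        _ = h⁻¹ * (h * c * h⁻¹) * σ h := by rw [h1]
        _ = c * (h⁻¹ * σ h) := by group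
    exact mem_centralizer_singleton_iff.1 (hall (hgen.symm ▸ mem_top g))
  have hne : center S ≠ ⊤ := fun h => hna ⟨⟨fun a b => Subgroup.mem_center_iff.1 (h ▸ mem_top b) a⟩⟩
  have hcC : center S ≤ C := fun r hr => hinv _ (fun s hs => by
    have h := Subgroup.Characteristic.fixed (H := center S) inferInstance σ
    rw [← h] at hs
    exact hs) hne r hr
  have hDcent : commutator S ≤ center S := hDC.trans hCcent
  -- the centre is the derived group
  have hceq : center S = commutator S := by
    refine le_antisymm (fun z hz => ?_) hDcent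
    let ψ : S →* S ⧸ commutator S :=
      MonoidHom.mk' (fun g => ((g⁻¹ * σ g : S) : S ⧸ commutator S)) fun a b => by
        show ((((a * b)⁻¹ * σ (a * b) : S)) : S ⧸ commutator S) = _
        haveI : IsMulCommutative (S ⧸ commutator S) :=
          Subgroup.Normal.quotient_commutative_iff_commutator_le.mpr le_rfl
        have key : ∀ x y : S ⧸ commutator S, x * y = y * x := fun x y => this.is_comm.comm x y
        simp only [mul_inv_rev, map_mul, QuotientGroup.mk_mul, QuotientGroup.mk_inv]
        rw [key (((b : S ⧸ commutator S))⁻¹) ((a : S ⧸ commutator S)⁻¹), mul_assoc, mul_assoc, ← mul_assoc _ ((σ a : S) : S ⧸ commutator S),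
          key ((b : S ⧸ commutator S))⁻¹ ((σ a : S) : S ⧸ commutator S), mul_assoc]
    let ψ' : S ⧸ commutator S →* S ⧸ commutator S := QuotientGroup.lift (commutator S) ψ fun d hd => by
      rw [MonoidHom.mem_ker]
      show ((d⁻¹ * σ d : S) : S ⧸ commutator S) = 1
      rw [(hCmem d).1 (hDC hd), inv_mul_cancel, QuotientGroup.mk_one]
    have hsurj : Function.Surjective ψ' := by
      rw [← MonoidHom.range_eq_top, eq_top_iff, ← map_top_of_surjective _ (QuotientGroup.mk'_surjective (commutator S)),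
        ← hgen, MonoidHom.map_closure, closure_le]
      rintro _ ⟨_, ⟨g, rfl⟩, rfl⟩
      exact ⟨(g : S ⧸ commutator S), rfl⟩
    have hinj : Function.Injective ψ' := Finite.injective_iff_surjective.2 hsurj
    rw [← QuotientGroup.eq_one_iff]
    refine hinj ?_
    rw [map_one]
    show ((z⁻¹ * σ z : S) : S ⧸ commutator S) = 1
    rw [(hCmem z).1 (hcC hz), inv_mul_cancel, QuotientGroup.mk_one]
  have hpow : ∀ x : S, x ^ p ∈ center S := fun x => hCcent (hΦC (Cfsg.Lib.PGroup.pow_mem_frattini hS x))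
  -- invariant subgroups above the centre
  have hline : ∀ R : Subgroup S, (∀ r ∈ R, σ r ∈ R) → R ≠ ⊤ → R ≤ center S := fun R h h' r hr =>
    hCcent (hinv R h h' r hr)
  refine ⟨hceq, hpow, fun x hx d hd => ?_, ?_, ?_⟩
  · let f : S →* S := MonoidHom.mk' (fun g => ⁅x, g⁆) (comm_mul_right hDcent x)
    let R : Subgroup S :=
      { carrier := {r | ∀ g, ⁅r, g⁆ ∈ f.range}
        one_mem' := fun g => by rw [commutatorElement_one_left]; exact one_mem _
        mul_mem' := fun {a b} ha hb g => by rw [comm_mul_left hDcent]; exact mul_mem (ha g) (hb g)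
        inv_mem' := fun {a} ha g => by
          have h1 : ⁅a⁻¹, g⁆ * ⁅a, g⁆ = 1 := by rw [← comm_mul_left hDcent, inv_mul_cancel, commutatorElement_one_left]
          rw [eq_inv_of_mul_eq_one_left h1]; exact inv_mem (ha g) }
    have hR : R = ⊤ := by
      by_contra h
      refine hx (hline R (fun r hr g => ?_) h (fun g => ⟨g, rfl⟩ : x ∈ R))
      have h1 : σ ⁅r, σ.symm g⁆ = ⁅σ r, g⁆ := by rw [map_commutatorElement, MulEquiv.apply_symm_apply]
      rw [← h1, (hCmem _).1 (hDC (commutator_mem_commutator (mem_top _) (mem_top _)))]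
      exact hr _
    have hle : commutator S ≤ f.range := by
      rw [_root_.commutator_def, commutator_le]
      intro a _ b _
      exact (hR.symm ▸ mem_top a : a ∈ R) b
    obtain ⟨g, hg⟩ := hle hd
    exact ⟨g, hg⟩
  · -- `p = 2`
    intro hp2 hidx x hx hx2
    have hσZ : ∀ z ∈ center S, σ z = z := fun z hz => (hCmem z).1 (hcC hz)
    set π := QuotientGroup.mk' (center S) with hπ
    have hπe : ∀ a b, π a = π b ↔ ∃ z ∈ center S, a * z = b := fun a b => by
      rw [hπ, QuotientGroup.mk'_apply, QuotientGroup.mk'_apply, QuotientGroup.eq]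
      exact ⟨fun h => ⟨_, h, by group⟩, fun ⟨z, hz, h⟩ => by rw [← h, inv_mul_cancel_left]; exact hz⟩
    have hπ1 : ∀ a, π a = 1 ↔ a ∈ center S := fun a => QuotientGroup.eq_one_iff a
    have hσπ : ∀ a b, π a = π b → π (σ a) = π (σ b) := fun a b h => by
      obtain ⟨z, hz, rfl⟩ := (hπe a b).1 h
      exact (hπe _ _).2 ⟨z, hz, by rw [map_mul, hσZ z hz]⟩
    -- no `σ`-fixed nontrivial coset
    have hmove : ∀ v : S, v ∉ center S → π (σ v) ≠ π v := by
      intro v hv h
      refine hv (hline ((zpowers (π v)).comap π) (fun r hr => ?_) ?_ (mem_zpowers (π v)))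
      · obtain ⟨i, hi⟩ := hr
        refine ⟨i, ?_⟩
        show π v ^ i = π (σ r)
        rw [← h, ← map_zpow, ← map_zpow]
        exact hσπ _ _ (by rw [map_zpow]; exact hi)
      · intro htop
        have h1 := congrArg (map π) htop
        rw [map_comap_eq_self_of_surjective (QuotientGroup.mk'_surjective _),
          map_top_of_surjective π (QuotientGroup.mk'_surjective _)] at h1
        have h2 : orderOf (π v) = 4 := by rw [← Nat.card_zpowers, h1, card_top, ← index_eq_card, hidx]
        have h3 : orderOf (π v) ∣ 2 := orderOf_dvd_iff_pow_eq_one.2 (by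
          rw [← map_pow, hπ1]; exact hp2 ▸ hpow v)
        rw [h2] at h3
        exact absurd (Nat.le_of_dvd two_pos h3) (by norm_num)
    set w := σ x with hw
    set u := σ w with hu
    have hwn : w ∉ center S := fun h => hx (by
      have h1 := hσZ w h
      rw [σ.injective h1] at h
      exact h)
    have hun : u ∉ center S := fun h => hwn (by
      have h1 := hσZ u h
      rw [σ.injective h1] at h
      exact h)
    have hwx : π w ≠ π x := hmove x hx
    have huw : π u ≠ π w := hmove w hwn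
    letI : Fintype (S ⧸ center S) := Fintype.ofFinite _
    have hxx : π x * π x = 1 := by rw [← map_mul, ← sq, hx2, map_one]
    have hcov : ∀ a : S ⧸ center S, a = 1 ∨ a = π x ∨ a = π w ∨ a = π x * π w := by
      intro a
      have hS4 : ({1, π x, π w, π x * π w} : Finset (S ⧸ center S)) = Finset.univ := by
        apply Finset.eq_univ_of_card
        rw [← Nat.card_eq_fintype_card, ← index_eq_card, hidx]
        have e1 : π x ≠ 1 := fun h => hx ((hπ1 x).1 h)
        have e2 : π w ≠ 1 := fun h => hwn ((hπ1 w).1 h)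
        have e3 : π x * π w ≠ 1 := fun h => hwx (by
          calc π w = π x * π x * π w := by rw [hxx, one_mul]
            _ = π x := by rw [mul_assoc, h, mul_one])
        have e4 : π x * π w ≠ π x := fun h => e2 (by simpa using h)
        have e5 : π x * π w ≠ π w := fun h => e1 (by simpa using h)
        simp [Finset.card_insert_of_notMem, e1.symm, e2.symm, e3.symm, e4.symm, e5.symm, hwx.symm]
      have := hS4.symm ▸ Finset.mem_univ a
      simpa using this
    rcases hcov (π u) with h | h | h | h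
    · exact hun ((hπ1 u).1 h)
    · -- then the coset of `x * w` is fixed
      refine hmove (x * w) (fun h2 => hwx ?_) ?_
      · calc π w = π x * π x * π w := by rw [hxx, one_mul]
          _ = π x := by rw [mul_assoc, ← map_mul π x w, (hπ1 _).2 h2, mul_one]
      · rw [map_mul, ← hw, ← hu, map_mul, h, ← map_mul]
        refine (hπe _ _).2 ⟨⁅x⁻¹, w⁻¹⁆, hDcent (commutator_mem_commutator (mem_top _) (mem_top _)), ?_⟩
        rw [commutatorElement_def]
        group
    · exact huw h
    · rw [← map_mul, eq_comm, hπe] at h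
      obtain ⟨z, hz, hzu⟩ := h
      have hu2 : u ^ 2 = 1 := by rw [hu, hw, ← map_pow, ← map_pow, hx2, map_one, map_one]
      have hw2 : w ^ 2 = 1 := by rw [hw, ← map_pow, hx2, map_one]
      have hz2 : z ^ 2 = 1 := by
        let f : S →* S := MonoidHom.mk' (fun g => ⁅x, g⁆) (comm_mul_right hDcent x)
        let R : Subgroup S :=
          { carrier := {d | d ∈ center S ∧ d ^ 2 = 1}
            one_mem' := ⟨one_mem _, one_pow _⟩
            mul_mem' := fun {a b} ha hb => ⟨mul_mem ha.1 hb.1, by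
              rw [(show Commute a b from Subgroup.mem_center_iff.1 hb.1 a).mul_pow, ha.2, hb.2, one_mul]⟩
            inv_mem' := fun {a} ha => ⟨inv_mem ha.1, by rw [inv_pow, ha.2, inv_one]⟩ }
        have hle : commutator S ≤ R := by
          rw [_root_.commutator_def, commutator_le]
          intro a _ b _
          refine ⟨hDcent (commutator_mem_commutator (mem_top _) (mem_top _)), ?_⟩
          rw [← comm_pow_left hDcent, commutatorElement_eq_one_iff_mul_comm,
            ← Subgroup.mem_center_iff.1 (hp2 ▸ hpow a) b]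
        exact (hle (hceq ▸ hz)).2
      have hcomm : x * w = w * x := by
        have h1 : (x * w) ^ 2 = 1 := by
          rw [← hzu, (show Commute (x * w) z from Subgroup.mem_center_iff.1 hz _).mul_pow, hz2, mul_one] at hu2
          exact hu2
        rw [sq] at h1 hx2 hw2
        calc x * w = (x * w)⁻¹ := (inv_eq_of_mul_eq_one_right h1).symm
          _ = w⁻¹ * x⁻¹ := mul_inv_rev _ _
          _ = w * x := by rw [inv_eq_of_mul_eq_one_right hx2, inv_eq_of_mul_eq_one_right hw2]
      apply hna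
      have hgen2 : closure (({x, w} : Set S) ∪ (center S : Set S)) = ⊤ := by
        rw [eq_top_iff]
        intro g _
        have hxm : x ∈ closure (({x, w} : Set S) ∪ (center S : Set S)) := subset_closure (by simp)
        have hwm : w ∈ closure (({x, w} : Set S) ∪ (center S : Set S)) := subset_closure (by simp)
        have hzm : ∀ z ∈ center S, z ∈ closure (({x, w} : Set S) ∪ (center S : Set S)) :=
          fun z hz => subset_closure (Or.inr hz)
        rcases hcov (π g) with h | h | h | h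
        · exact hzm g ((hπ1 g).1 h)
        · obtain ⟨z, hz, rfl⟩ := (hπe _ _).1 h.symm
          exact mul_mem hxm (hzm z hz)
        · obtain ⟨z, hz, rfl⟩ := (hπe _ _).1 h.symm
          exact mul_mem hwm (hzm z hz)
        · rw [← map_mul] at h
          obtain ⟨z, hz, rfl⟩ := (hπe _ _).1 h.symm
          exact mul_mem (mul_mem hxm hwm) (hzm z hz)
      have hcc : ∀ a ∈ ({x, w} : Set S) ∪ (center S : Set S), ∀ b ∈ ({x, w} : Set S) ∪ (center S : Set S),
          a * b = b * a := by
        rintro a ha b hb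
        rcases ha with (rfl | rfl) | ha <;> rcases hb with (rfl | rfl) | hb <;>
          first
            | rfl
            | exact hcomm
            | exact hcomm.symm
            | exact Subgroup.mem_center_iff.1 hb _
            | exact (Subgroup.mem_center_iff.1 ha _).symm
      exact ⟨⟨fun a b => by
        have h1 : ∀ g : S, g ∈ centralizer (({x, w} : Set S) ∪ (center S : Set S)) := fun g => by
          have h2 : closure (({x, w} : Set S) ∪ (center S : Set S)) ≤
              centralizer (({x, w} : Set S) ∪ (center S : Set S)) :=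
            (closure_le _).2 fun c hc => mem_centralizer_iff.2 fun d hd => (hcc c hc d hd).symm
          exact h2 (hgen2.symm ▸ mem_top g)
        have h3 : closure (({x, w} : Set S) ∪ (center S : Set S)) ≤ centralizer ({a} : Set S) :=
          (closure_le _).2 fun c hc => mem_centralizer_singleton_iff.2 (mem_centralizer_iff.1 (h1 a) c hc)
        exact (mem_centralizer_singleton_iff.1 (h3 (hgen2.symm ▸ mem_top b))).symm⟩⟩
  · -- `p = 3`
    intro hp3 hidx
    have hσZ : ∀ z ∈ center S, σ z = z := fun z hz => (hCmem z).1 (hcC hz)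
    have hmap : (center S).map σ.toMonoidHom = center S := by
      rw [map_equiv_eq_comap_symm']
      exact Subgroup.Characteristic.fixed inferInstance σ.symm
    let τ : MulAut (S ⧸ center S) := QuotientGroup.congr (center S) (center S) σ hmap
    have hτ : ∀ g : S, τ (g : S ⧸ center S) = ((σ g : S) : S ⧸ center S) := fun g => rfl
    have hτpow : ∀ (j : ℕ) (g : S), (τ ^ j) (g : S ⧸ center S) = (((σ ^ j) g : S) : S ⧸ center S) := by
      intro j
      induction j with
      | zero => intro g; rfl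
      | succ j ih => intro g; rw [pow_succ', MulAut.mul_apply, ih, hτ, pow_succ', MulAut.mul_apply]
    -- no fixed points except `1`
    have hnf : ∀ a : S ⧸ center S, τ a = a → a = 1 := by
      intro a
      induction a using QuotientGroup.induction_on with
      | _ g =>
        intro h
        rw [hτ, eq_comm, QuotientGroup.eq] at h
        have := hfix g (g⁻¹ * σ g) (by rw [mul_inv_cancel_left]) (hσZ _ h)
        rw [inv_mul_eq_one] at this
        rw [QuotientGroup.eq_one_iff]
        exact hCcent ((hCmem g).2 this.symm)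
    have hT : IsPGroup q (zpowers τ) := by
      refine IsPGroup.iff_orderOf.2 fun t => ?_
      have h1 : τ ^ q = 1 := MulEquiv.ext fun a => by
        induction a using QuotientGroup.induction_on with
        | _ g => rw [hτpow, hσq]; rfl
      have h2 : orderOf t ∣ q := by
        rw [← orderOf_coe]
        exact (orderOf_dvd_of_mem_zpowers t.2).trans (orderOf_dvd_of_pow_eq_one h1)
      rcases (Nat.dvd_prime Fact.out).1 h2 with h | h
      · exact ⟨0, by rw [h, pow_zero]⟩
      · exact ⟨1, by rw [h, pow_one]⟩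
    have hmod := hT.card_modEq_card_fixedPoints (S ⧸ center S)
    have hf1 : Nat.card (MulAction.fixedPoints (zpowers τ) (S ⧸ center S)) = 1 := by
      rw [Nat.card_eq_one_iff_unique]
      refine ⟨⟨fun a b => ?_⟩, ⟨⟨1, fun t => map_one (t : MulAut (S ⧸ center S))⟩⟩⟩
      exact Subtype.ext ((hnf a.1 (a.2 ⟨τ, mem_zpowers τ⟩)).trans (hnf b.1 (b.2 ⟨τ, mem_zpowers τ⟩)).symm)
    rw [hf1, ← index_eq_card, hidx] at hmod
    replace hmod := (Nat.modEq_iff_dvd' (by norm_num)).1 hmod.symm
    have hq2 : q = 2 := by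
      have := (Nat.Prime.dvd_of_dvd_pow (Fact.out : q.Prime) (show q ∣ 2 ^ 3 from hmod))
      exact (Nat.prime_dvd_prime_iff_eq Fact.out Nat.prime_two).1 this
    haveI : IsMulCommutative (S ⧸ center S) :=
      Subgroup.Normal.quotient_commutative_iff_commutator_le.mpr hDcent
    have hinvτ : ∀ a : S ⧸ center S, τ a = a⁻¹ := by
      intro a
      have h2 : τ (τ a) = a := by
        rw [← MulAut.mul_apply, ← sq, ← hq2]
        induction a using QuotientGroup.induction_on with
        | _ g => rw [hτpow, hσq]; rfl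
      have h := hnf (a * τ a) (by rw [map_mul, h2, this.is_comm.comm])
      exact eq_inv_of_mul_eq_one_right h
    obtain ⟨v, hv⟩ : ∃ v, v ∉ center S := by
      by_contra h
      push Not at h
      exact hne (eq_top_iff.2 fun g _ => h g)
    refine hv (hline ((zpowers (v : S ⧸ center S)).comap (QuotientGroup.mk' (center S))) (fun r hr => ?_) ?_ ?_)
    · show ((σ r : S) : S ⧸ center S) ∈ zpowers (v : S ⧸ center S)
      rw [← hτ, hinvτ]
      exact inv_mem hr
    · intro htop
      have h1 := congrArg (map (QuotientGroup.mk' (center S))) htop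
      rw [map_comap_eq_self_of_surjective (QuotientGroup.mk'_surjective _),
        map_top_of_surjective _ (QuotientGroup.mk'_surjective _)] at h1
      have h2 : orderOf (v : S ⧸ center S) = 9 := by rw [← Nat.card_zpowers, h1, card_top, ← index_eq_card, hidx]
      have h3 : orderOf (v : S ⧸ center S) ∣ 3 := orderOf_dvd_iff_pow_eq_one.2 (by
        rw [← QuotientGroup.mk_pow, QuotientGroup.eq_one_iff]; exact hp3 ▸ hpow v)
      rw [h2] at h3
      exact absurd (Nat.le_of_dvd (by norm_num) h3) (by norm_num)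
    · exact mem_zpowers (v : S ⧸ center S)

end schmidt

lemma Shape.of_equiv {p : ℕ} {S T : Type*} [Group S] [Group T] (h : Shape p S) (e : S ≃* T) : Shape p T := by
  have hz : ∀ x : S, e x ∈ center T ↔ x ∈ center S := by
    intro x
    rw [Subgroup.mem_center_iff, Subgroup.mem_center_iff]
    refine ⟨fun hh g => e.injective (by simpa using hh (e g)), fun hh g => ?_⟩
    obtain ⟨g, rfl⟩ := e.surjective g
    rw [← map_mul, hh g, map_mul]
  have hd : (commutator S).map e.toMonoidHom = commutator T := by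
    rw [_root_.commutator_def, _root_.commutator_def, map_commutator, map_top_of_surjective _ e.surjective]
  have hidx : (center T).index = (center S).index := by
    rw [← index_comap_of_surjective (center T) (f := e.toMonoidHom) e.surjective]
    congr 1
    ext x
    exact hz x
  refine ⟨?_, fun x => ?_, fun x hx d hd' => ?_, fun hp hi x hx => ?_, fun hp hi => h.small3 hp (hidx ▸ hi)⟩
  · rw [← hd]
    ext t
    obtain ⟨s, rfl⟩ := e.surjective t
    rw [hz, h.center_eq]
    exact ⟨fun hs => ⟨s, hs, rfl⟩, fun ⟨s', hs', hss⟩ => e.injective hss ▸ hs'⟩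
  · obtain ⟨s, rfl⟩ := e.surjective x
    rw [← map_pow, hz]
    exact h.pow_central s
  · obtain ⟨s, rfl⟩ := e.surjective x
    rw [← hd] at hd'
    obtain ⟨d, hd'', rfl⟩ := hd'
    obtain ⟨g, hg⟩ := h.surj s (fun h' => hx ((hz s).2 h')) d hd''
    exact ⟨e g, by rw [← map_commutatorElement, hg]; rfl⟩
  · obtain ⟨s, rfl⟩ := e.surjective x
    rw [← map_pow, MulEquiv.map_ne_one_iff]
    exact h.small2 hp (hidx ▸ hi) s fun h' => hx ((hz s).2 h')

lemma shape_of_schmidt {X : Type u} [Group X] [Finite X] {p : ℕ} [Fact p.Prime] (hX : Cfsg.IsMinimalNonNilpotent X)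
    (P : Sylow p X) (hPn : (P : Subgroup X).Normal) (hP1 : (P : Subgroup X) ≠ ⊥) :
    IsMulCommutative (P : Subgroup X) ∨ Shape p (P : Subgroup X) := by
  classical
  by_cases hab : IsMulCommutative (P : Subgroup X)
  · exact Or.inl hab
  right
  obtain ⟨q, r, hq, hr, hqr, Q, R, y, hQy, hRn, htop⟩ := Cfsg.Lib.Schmidt.structure_thm hX.1 hX.2
  haveI := Fact.mk hq
  haveI := Fact.mk hr
  have hpq : p ≠ q := by
    rintro rfl
    apply hab
    haveI := hPn
    haveI : Subsingleton (Sylow p X) := Sylow.unique_of_normal P hPn |>.instSubsingleton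
    rw [Subsingleton.elim P Q, hQy]
    infer_instance
  have hpr : p = r := by
    by_contra hne
    apply hP1
    have hcard : Nat.card X ∣ Nat.card (Q : Subgroup X) * Nat.card (R : Subgroup X) := by
      haveI := hRn
      exact card_dvd_mul _ _ htop
    obtain ⟨a, ha⟩ := IsPGroup.iff_card.1 Q.2
    obtain ⟨b, hb⟩ := IsPGroup.iff_card.1 R.2
    obtain ⟨c, hc⟩ := IsPGroup.iff_card.1 P.2
    have h1 : p ^ c ∣ q ^ a * r ^ b := by
      rw [← ha, ← hb, ← hc]; exact (card_subgroup_dvd_card _).trans hcard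
    have h2 : Nat.Coprime (p ^ c) (q ^ a * r ^ b) :=
      Nat.Coprime.mul_right (((Nat.coprime_primes Fact.out hq).2 hpq).pow c a)
        (((Nat.coprime_primes Fact.out hr).2 hne).pow c b)
    exact card_eq_one.1 (hc.trans (Nat.eq_one_of_dvd_coprimes h2 dvd_rfl h1))
  subst hpr
  haveI := hPn
  have hPR : P = R := by
    haveI : Subsingleton (Sylow p X) := Sylow.unique_of_normal P hPn |>.instSubsingleton
    exact Subsingleton.elim _ _
  subst hPR
  have hyq : IsPGroup q (zpowers y) := hQy ▸ Q.2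
  have hdis : Disjoint (zpowers y) (P : Subgroup X) := IsPGroup.disjoint_of_ne q p (Ne.symm hpq) _ _ hyq P.2
  rw [hQy] at htop
  let σ : MulAut (P : Subgroup X) := MulAut.conjNormal y
  have hσ : ∀ g : (P : Subgroup X), ((σ g : (P : Subgroup X)) : X) = y * g * y⁻¹ := fun g => MulAut.conjNormal_apply y g
  have hypo : ∀ k : ℕ, ∀ g : (P : Subgroup X), (((σ ^ k) g : (P : Subgroup X)) : X) = y ^ k * g * (y ^ k)⁻¹ := by
    intro k g
    rw [← map_pow]; exact MulAut.conjNormal_apply (y ^ k) g
  have hσ1 : σ ≠ 1 := by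
    intro h
    apply hX.1
    have hcomm : ∀ g ∈ (P : Subgroup X), y * g = g * y := fun g hg => by
      have h1 := hσ ⟨g, hg⟩
      rw [h, MulAut.one_apply] at h1
      exact (eq_mul_inv_iff_mul_eq.1 h1).symm
    refine Cfsg.Lib.Schmidt.isNilpotent_of_commute fun a b ha hb hab' S T s hs t ht => ?_
    haveI := Fact.mk ha
    haveI := Fact.mk hb
    have key : ∀ (a : ℕ) [Fact a.Prime] (S : Sylow a X), (S : Subgroup X) ≤ zpowers y ∨ (S : Subgroup X) ≤ P := by
      intro a _ S
      have hyn : (zpowers y).Normal := by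
        rw [← normalizer_eq_top_iff, eq_top_iff, ← htop, sup_le_iff]
        refine ⟨le_normalizer, le_trans (fun g hg => ?_) (centralizer_le_normalizer _)⟩
        refine mem_centralizer_iff.2 fun z hz => ?_
        obtain ⟨i, rfl⟩ := hz
        exact ((show Commute y g from hcomm g hg).zpow_left i).eq
      by_cases haq : a = q
      · subst haq
        left
        haveI : Subsingleton (Sylow a X) := Sylow.unique_of_normal Q (hQy ▸ hyn) |>.instSubsingleton
        rw [Subsingleton.elim S Q, hQy]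
      · by_cases hap : a = p
        · subst hap
          right
          haveI : Subsingleton (Sylow a X) := Sylow.unique_of_normal P hPn |>.instSubsingleton
          rw [Subsingleton.elim S P]
        · left
          obtain ⟨c, hc⟩ := IsPGroup.iff_card.1 S.2
          obtain ⟨e, he⟩ := IsPGroup.iff_card.1 hyq
          obtain ⟨f, hf⟩ := IsPGroup.iff_card.1 P.2
          have h1 : a ^ c ∣ q ^ e * p ^ f := by
            rw [← hc, ← he, ← hf]
            exact (card_subgroup_dvd_card _).trans (card_dvd_mul _ _ htop)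
          have h2 : Nat.Coprime (a ^ c) (q ^ e * p ^ f) :=
            Nat.Coprime.mul_right (((Nat.coprime_primes Fact.out hq).2 haq).pow c e)
              (((Nat.coprime_primes Fact.out Fact.out).2 hap).pow c f)
          rw [card_eq_one.1 (hc.trans (Nat.eq_one_of_dvd_coprimes h2 dvd_rfl h1))]
          exact bot_le
    have hPP : ∀ (a : ℕ) [Fact a.Prime] (S : Sylow a X), ∀ s ∈ (S : Subgroup X), s ∈ (P : Subgroup X) → a = p ∨ s = 1 := by
      intro a _ S s hs hsP
      by_cases h : a = p
      · exact Or.inl h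
      · exact Or.inr (mem_bot.1 ((IsPGroup.disjoint_of_ne a p h _ _ S.2 P.2).le_bot ⟨hs, hsP⟩))
    have hyg : ∀ u ∈ zpowers y, ∀ g ∈ (P : Subgroup X), Commute u g := by
      rintro _ ⟨i, rfl⟩ g hg
      exact (show Commute y g from hcomm g hg).zpow_left i
    rcases key a S with hS | hS <;> rcases key b T with hT | hT
    · obtain ⟨i, rfl⟩ := hS hs
      obtain ⟨j, rfl⟩ := hT ht
      exact Commute.zpow_zpow_self y i j
    · exact hyg s (hS hs) t (hT ht)
    · exact (hyg t (hT ht) s (hS hs)).symm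
    · rcases hPP a S s hs (hS hs) with h1 | h1 <;> rcases hPP b T t ht (hT ht) with h2 | h2
      · exact absurd (h1.trans h2.symm) hab'
      · rw [h2]; exact Commute.one_right _
      · rw [h1]; exact Commute.one_left _
      · rw [h1]; exact Commute.one_left _
  have hy1 : y ≠ 1 := fun h => hσ1 (by show MulAut.conjNormal y = 1; rw [h, map_one])
  -- proper invariant subgroups are centralised
  have key : ∀ (z : X), z ∈ zpowers y → ∀ R : Subgroup X, R ≤ (P : Subgroup X) → (∀ r ∈ R, z * r * z⁻¹ ∈ R) →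
      zpowers z ⊔ R ≠ ⊤ → ∀ r ∈ R, z * r * z⁻¹ = r := by
    intro z hz R hR hRz hne r hr
    have h := Cfsg.Lib.Schmidt.commute_of_nilpotent (hX.2 _ hne) (Ne.symm hpq) (mem_sup_left (mem_zpowers z))
      (mem_sup_right hr) (hyq.to_le (zpowers_le.2 hz)) (Cfsg.Lib.Schmidt.isPGroup_zpowers_of_mem P.2 (hR hr))
    rw [h.eq, mul_inv_cancel_right]
  refine shape_of_auto (q := q) hpq P.2 σ ?_ hσ1 (fun R hR hRt => ?_) hab
  · refine MulEquiv.ext fun g => Subtype.ext ?_
    rw [hypo q, MulAut.one_apply]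
    refine key (y ^ q) (pow_mem (mem_zpowers y) q) P le_rfl (fun r hr => hPn.conj_mem r hr _) ?_ g g.2
    intro ht
    obtain ⟨a, ha, b, hb, hab'⟩ := mem_sup_of_normal_right.1 (ht.symm ▸ mem_top y)
    obtain ⟨i, rfl⟩ := ha
    have hb1 : b = 1 := by
      refine mem_bot.1 (hdis.le_bot ⟨?_, hb⟩)
      rw [show b = ((y ^ q) ^ i)⁻¹ * y from eq_inv_mul_of_mul_eq hab']
      exact (zpowers y).mul_mem ((zpowers y).inv_mem (zpow_mem (pow_mem (mem_zpowers y) q) i)) (mem_zpowers y)
    replace hab' : (y ^ q) ^ i = y := by rw [hb1, mul_one] at hab'; exact hab'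
    rw [← zpow_natCast, ← zpow_mul] at hab'
    have h2 : (orderOf y : ℤ) ∣ (q : ℤ) * i - 1 := by
      rw [orderOf_dvd_iff_zpow_eq_one, zpow_sub_one, hab', mul_inv_cancel]
    have h3 : q ∣ orderOf y := by
      obtain ⟨e, he⟩ := IsPGroup.iff_orderOf.1 hyq ⟨y, mem_zpowers y⟩
      rw [← orderOf_coe] at he
      simp only at he
      rw [he]
      rcases e with _ | e
      · exact absurd (orderOf_eq_one_iff.1 (he.trans (pow_zero q))) hy1
      · exact dvd_pow_self q (Nat.succ_ne_zero e)
    have h4 : (q : ℤ) ∣ (q : ℤ) * i - 1 := (Int.natCast_dvd_natCast.2 h3).trans h2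
    have h5 : (q : ℤ) ∣ 1 := by
      have := dvd_sub (dvd_mul_right (q : ℤ) i) h4
      simpa using this
    exact hq.ne_one (Nat.dvd_one.1 (Int.natCast_dvd_natCast.1 h5))
  · intro r hr
    refine Subtype.ext ?_
    rw [hσ]
    refine key y (mem_zpowers y) (R.map (P : Subgroup X).subtype) (map_subtype_le R) ?_ ?_ r ⟨r, hr, rfl⟩
    · rintro _ ⟨s, hs, rfl⟩
      exact ⟨σ s, hR s hs, hσ s⟩
    · intro ht
      apply hRt
      rw [eq_top_iff]
      intro g _
      have hn : zpowers y ≤ normalizer (R.map (P : Subgroup X).subtype : Set X) := by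
        rw [zpowers_le]
        refine mem_normalizer_of_forall_conj ?_
        rintro _ ⟨s, hs, rfl⟩
        exact ⟨σ s, hR s hs, hσ s⟩
      obtain ⟨a, ha, b, hb, hab'⟩ := (Set.mem_mul.1 (by
        rw [← coe_mul_of_left_le_normalizer_right _ _ hn, SetLike.mem_coe, ht]; exact mem_top (g : X)) :
          ∃ a ∈ (zpowers y : Set X), ∃ b ∈ ((R.map (P : Subgroup X).subtype : Subgroup X) : Set X), a * b = (g : X))
      have ha1 : a = 1 := by
        refine mem_bot.1 (hdis.le_bot ⟨ha, ?_⟩)
        rw [show a = (g : X) * b⁻¹ from eq_mul_inv_of_mul_eq hab']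
        exact (P : Subgroup X).mul_mem g.2 ((P : Subgroup X).inv_mem (map_subtype_le R hb))
      rw [ha1, one_mul] at hab'
      obtain ⟨s, hs, rfl⟩ := hb
      rw [← show s = g from Subtype.ext hab']
      exact hs

section local_side

variable {G : Type u} [Group G] [Finite G] {p : ℕ} [hp : Fact p.Prime]

/-- A subgroup `D` of a `p`-group `S ≥ O_p(G)` with `[O_p(G), S] ≤ D`, central in `S`, normalised by a
subgroup mapping onto `O_{p'}(G/O_p(G))`, forces `S = O_p(G)`. -/
lemma le_pCore_of_series (hsol : Cfsg.IsPSolvable p G) (hO : Cfsg.pPrimeCore p G = ⊥)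
    (S : Subgroup G) (hS : IsPGroup p S) (hVS : Cfsg.pCore p G ≤ S) (D : Subgroup G) (hDV : D ≤ Cfsg.pCore p G)
    (hcomm : ∀ v ∈ Cfsg.pCore p G, ∀ s ∈ S, s * v * s⁻¹ * v⁻¹ ∈ D)
    (hcent : ∀ d ∈ D, ∀ s ∈ S, s * d = d * s)
    (hnorm : ∀ k : G, QuotientGroup.mk' (Cfsg.pCore p G) k ∈ Cfsg.pPrimeCore p (G ⧸ Cfsg.pCore p G) →
      ∀ d ∈ D, k * d * k⁻¹ ∈ D) :
    S ≤ Cfsg.pCore p G := by
  set V := Cfsg.pCore p G with hV
  set π := QuotientGroup.mk' V with hπ
  set K := Cfsg.pPrimeCore p (G ⧸ V) with hK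
  have hker : π.ker = V := QuotientGroup.ker_mk' V
  have hKn : (K.comap π).Normal := Subgroup.Normal.comap inferInstance π
  -- the stabiliser of the series
  let A : Subgroup G :=
    { carrier := {g | (∀ d ∈ D, g * d = d * g) ∧ ∀ v ∈ V, g * v * g⁻¹ * v⁻¹ ∈ D}
      one_mem' := ⟨fun d _ => by rw [one_mul, mul_one], fun v _ => by simp⟩
      mul_mem' := fun {a b} ha hb => ⟨fun d hd => by rw [mul_assoc, hb.1 d hd, ← mul_assoc, ha.1 d hd, mul_assoc],
        fun v hv => by
          have h1 := ha.2 _ ((inferInstance : V.Normal).conj_mem v hv b)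
          have h2 := mul_mem h1 (hb.2 v hv)
          convert h2 using 1
          group⟩
      inv_mem' := fun {a} ha => ⟨fun d hd => by
          rw [eq_comm, eq_inv_mul_iff_mul_eq, ← mul_assoc, ha.1 d hd, mul_inv_cancel_right],
        fun v hv => by
          have h1 := inv_mem (ha.2 _ ((inferInstance : V.Normal).conj_mem v hv a⁻¹))
          convert h1 using 1
          group⟩ }
  have hsA : ∀ s ∈ S, s ∈ A := fun s hs => ⟨fun d hd => hcent d hd s hs, fun v hv => hcomm v hv s hs⟩
  have hconj : ∀ k ∈ K.comap π, ∀ a ∈ A, k * a * k⁻¹ ∈ A := by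
    intro k hk a ha
    refine ⟨fun d hd => ?_, fun v hv => ?_⟩
    · have h1 := ha.1 _ (hnorm k⁻¹ (inv_mem hk) d hd)
      have h2 := congrArg (fun z => k * z * k⁻¹) h1
      simpa [mul_assoc] using h2
    · have h1 := hnorm k hk _ (ha.2 _ ((inferInstance : V.Normal).conj_mem v hv k⁻¹))
      simpa [mul_assoc] using h1
  have hAV : ∀ c ∈ A, c ∈ K.comap π → c ∈ V := by
    intro c hc hcK
    have hpe : ∀ v ∈ V, ∀ j : ℕ, c ^ j * v * (c ^ j)⁻¹ = (c * v * c⁻¹ * v⁻¹) ^ j * v := by
      intro v hv j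
      induction j with
      | zero => simp
      | succ j ih =>
        have h1 : Commute c ((c * v * c⁻¹ * v⁻¹) ^ j) := (show Commute c _ from hc.1 _ (hc.2 v hv)).pow_right j
        calc c ^ (j + 1) * v * (c ^ (j + 1))⁻¹ = c * (c ^ j * v * (c ^ j)⁻¹) * c⁻¹ := by rw [pow_succ']; group
          _ = c * (c * v * c⁻¹ * v⁻¹) ^ j * (v * c⁻¹) := by rw [ih]; group
          _ = (c * v * c⁻¹ * v⁻¹) ^ j * (c * v * c⁻¹ * v⁻¹) * v := by rw [h1.eq]; group
          _ = _ := by rw [← pow_succ]
    obtain ⟨m, hm⟩ := IsPGroup.iff_card.1 (Cfsg.Lib.Core.pCore_isPGroup p G)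
    have hcV : c ^ Nat.card V ∈ V := by
      refine Cfsg.Lib.Core.centralizer_pCore_le_of_isPSolvable hsol hO ?_
      rw [mem_centralizer_iff]
      intro v hv
      have h1 := hpe v hv (Nat.card V)
      have h2 : (c * v * c⁻¹ * v⁻¹) ^ Nat.card V = 1 := by
        have := pow_card_eq_one' (x := (⟨_, hDV (hc.2 v hv)⟩ : V))
        rw [Subtype.ext_iff, SubmonoidClass.coe_pow] at this
        exact this
      rw [h2, one_mul] at h1
      exact (mul_inv_eq_iff_eq_mul.1 h1).symm
    rw [← hker, MonoidHom.mem_ker, ← orderOf_eq_one_iff]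
    refine Nat.eq_one_of_dvd_coprimes ((Cfsg.Lib.Core.pPrimeCore_coprime p (G ⧸ V)).pow_right m) ?_ ?_
    · have h := orderOf_dvd_natCard (⟨π c, hcK⟩ : K)
      rw [← orderOf_coe] at h
      exact h
    · refine orderOf_dvd_of_pow_eq_one ?_
      rw [← map_pow, ← MonoidHom.mem_ker, hker]
      rw [← hV] at hm
      exact hm ▸ hcV
  intro s hs
  have hcentK : π s ∈ K := by
    refine Cfsg.Lib.Local.centralizer_pPrimeCore_le (Cfsg.Lib.Core.isPSolvable_quotient hsol V)
      Cfsg.Lib.Core.pCore_quotient_pCore_eq_bot ?_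
    rw [mem_centralizer_iff]
    intro y hy
    obtain ⟨k, rfl⟩ := QuotientGroup.mk'_surjective V y
    have hk : k ∈ K.comap π := hy
    have h1 : k * s * k⁻¹ * s⁻¹ ∈ A := mul_mem (hconj k hk s (hsA s hs)) (inv_mem (hsA s hs))
    have h2 : k * s * k⁻¹ * s⁻¹ ∈ K.comap π := by
      have := mul_mem hk (hKn.conj_mem _ (inv_mem hk) s)
      simpa [mul_assoc] using this
    have h3 : π (k * s * k⁻¹ * s⁻¹) = 1 := by rw [← MonoidHom.mem_ker, hker]; exact hAV _ h1 h2
    rw [map_mul, map_mul, map_mul, map_inv, map_inv, mul_inv_eq_one, mul_inv_eq_iff_eq_mul] at h3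
    exact h3
  rw [← hker, MonoidHom.mem_ker, ← orderOf_eq_one_iff]
  obtain ⟨j, hj⟩ := IsPGroup.iff_orderOf.1 hS ⟨s, hs⟩
  rw [← orderOf_coe] at hj
  refine Nat.eq_one_of_dvd_coprimes ((Cfsg.Lib.Core.pPrimeCore_coprime p (G ⧸ V)).pow_right j) ?_ ?_
  · have h := orderOf_dvd_natCard (⟨π s, hcentK⟩ : K)
    rw [← orderOf_coe] at h
    exact h
  · exact (orderOf_map_dvd π s).trans (dvd_of_eq hj)

theorem main (hsol : Cfsg.IsPSolvable p G) (hO : Cfsg.pPrimeCore p G = ⊥) (S : Sylow p G)
    (hsh : IsMulCommutative (S : Subgroup G) ∨ Shape p (S : Subgroup G)) : (S : Subgroup G) ≤ Cfsg.pCore p G := by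
  classical
  set V := Cfsg.pCore p G with hV
  have hVS : V ≤ S := Cfsg.Lib.Core.pCore_le_sylow S
  have hCV : centralizer (V : Set G) ≤ V := Cfsg.Lib.Core.centralizer_pCore_le_of_isPSolvable hsol hO
  by_cases hab : IsMulCommutative (S : Subgroup G)
  · refine le_trans (fun s hs => ?_) hCV
    exact mem_centralizer_iff.2 fun v hv => congrArg Subtype.val (hab.is_comm.comm ⟨v, hVS hv⟩ ⟨s, hs⟩)
  have hsh := hsh.resolve_left hab
  by_contra hSV
  have hS := S.2
  -- the derived group of `S`
  set D := (commutator (S : Subgroup G)).map (S : Subgroup G).subtype with hD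
  have hcentmem : ∀ z : (S : Subgroup G), z ∈ center (S : Subgroup G) ↔ (z : G) ∈ D := fun z => by
    rw [hsh.center_eq, hD]
    exact ⟨fun h => ⟨z, h, rfl⟩, fun ⟨w, hw, hwz⟩ => Subtype.ext hwz ▸ hw⟩
  have hDS : D ≤ S := map_subtype_le _
  have hDcent : ∀ d ∈ D, ∀ s ∈ (S : Subgroup G), s * d = d * s := by
    intro d hd s hs
    have h := (hcentmem ⟨d, hDS hd⟩).2 hd
    exact congrArg Subtype.val (Subgroup.mem_center_iff.1 h ⟨s, hs⟩)
  have hDmem : ∀ a ∈ (S : Subgroup G), ∀ b ∈ (S : Subgroup G), ⁅a, b⁆ ∈ D := fun a ha b hb =>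
    ⟨⁅(⟨a, ha⟩ : (S : Subgroup G)), ⟨b, hb⟩⁆, commutator_mem_commutator (mem_top _) (mem_top _), rfl⟩
  have hcS : ∀ g ∈ (S : Subgroup G), (∀ s ∈ (S : Subgroup G), s * g = g * s) → g ∈ D := fun g hg h =>
    (hcentmem ⟨g, hg⟩).1 (Subgroup.mem_center_iff.2 fun s => Subtype.ext (h s s.2))
  have hpowD : ∀ s ∈ (S : Subgroup G), s ^ p ∈ D := fun s hs => (hcentmem (⟨s, hs⟩ ^ p)).1 (hsh.pow_central _)
  have hDV : D ≤ V := fun d hd => hCV (mem_centralizer_iff.2 fun v hv => hDcent d hd v (hVS hv))
  have hcomm : ∀ v ∈ V, ∀ s ∈ (S : Subgroup G), s * v * s⁻¹ * v⁻¹ ∈ D := fun v hv s hs => hDmem s hs v (hVS hv)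
  set π := QuotientGroup.mk' V with hπ
  set K := Cfsg.pPrimeCore p (G ⧸ V) with hK
  have hker : π.ker = V := QuotientGroup.ker_mk' V
  have hnot : ¬ (∀ k : G, π k ∈ K → ∀ d ∈ D, k * d * k⁻¹ ∈ D) := fun h =>
    hSV (le_pCore_of_series hsol hO S hS hVS D hDV hcomm hDcent h)
  -- `W = Z(V)`
  set W := V ⊓ centralizer (V : Set G) with hW
  have hWn : W.Normal := inferInstance
  have hDW : D ≤ W := fun d hd => ⟨hDV hd, mem_centralizer_iff.2 fun v hv => hDcent d hd v (hVS hv)⟩
  have hWS : W ≤ S := inf_le_left.trans hVS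
  have hWc : ∀ w ∈ W, ∀ v ∈ V, v * w = w * v := fun w hw v hv => mem_centralizer_iff.1 hw.2 v hv
  have hmove : ∀ x ∈ (S : Subgroup G), x ∉ V → ∃ w ∈ W, x * w ≠ w * x := by
    intro x hx hxV
    by_contra h
    push Not at h
    let A : Subgroup G :=
      { carrier := {g | (∀ w ∈ W, g * w = w * g) ∧ ∀ v ∈ V, g * v * g⁻¹ * v⁻¹ ∈ W}
        one_mem' := ⟨fun d _ => by rw [one_mul, mul_one], fun v _ => by simp⟩
        mul_mem' := fun {a b} ha hb => ⟨fun d hd => by rw [mul_assoc, hb.1 d hd, ← mul_assoc, ha.1 d hd, mul_assoc],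
          fun v hv => by
            have h1 := ha.2 _ ((inferInstance : V.Normal).conj_mem v hv b)
            have h2 := mul_mem h1 (hb.2 v hv)
            convert h2 using 1
            group⟩
        inv_mem' := fun {a} ha => ⟨fun d hd => by
            rw [eq_comm, eq_inv_mul_iff_mul_eq, ← mul_assoc, ha.1 d hd, mul_inv_cancel_right],
          fun v hv => by
            have h1 := inv_mem (ha.2 _ ((inferInstance : V.Normal).conj_mem v hv a⁻¹))
            convert h1 using 1
            group⟩ }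
    have hAn : A.Normal := by
      refine ⟨fun a ha g => ⟨fun w hw => ?_, fun v hv => ?_⟩⟩
      · have h1 := congrArg (fun z => g * z * g⁻¹) (ha.1 _ (hWn.conj_mem w hw g⁻¹))
        simpa [mul_assoc] using h1
      · have h1 := hWn.conj_mem _ (ha.2 _ ((inferInstance : V.Normal).conj_mem v hv g⁻¹)) g
        simpa [mul_assoc] using h1
    have hAp : IsPGroup p A := by
      intro a
      obtain ⟨m, hm⟩ := IsPGroup.iff_card.1 (Cfsg.Lib.Core.pCore_isPGroup p G)
      rw [← hV] at hm
      have hcV : (a : G) ^ Nat.card V ∈ centralizer (V : Set G) := by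
        rw [mem_centralizer_iff]
        intro v hv
        have hd := a.2.2 v hv
        have key : ∀ j : ℕ, (a : G) ^ j * v * ((a : G) ^ j)⁻¹ = ((a : G) * v * (a : G)⁻¹ * v⁻¹) ^ j * v := by
          intro j
          induction j with
          | zero => simp
          | succ j ih =>
            have h1 : Commute (a : G) (((a : G) * v * (a : G)⁻¹ * v⁻¹) ^ j) :=
              (show Commute (a : G) _ from a.2.1 _ hd).pow_right j
            calc (a : G) ^ (j + 1) * v * ((a : G) ^ (j + 1))⁻¹
                = a * ((a : G) ^ j * v * ((a : G) ^ j)⁻¹) * (a : G)⁻¹ := by rw [pow_succ']; group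
              _ = a * ((a : G) * v * (a : G)⁻¹ * v⁻¹) ^ j * (v * (a : G)⁻¹) := by rw [ih]; group
              _ = ((a : G) * v * (a : G)⁻¹ * v⁻¹) ^ j * ((a : G) * v * (a : G)⁻¹ * v⁻¹) * v := by rw [h1.eq]; group
              _ = _ := by rw [← pow_succ]
        have h2 : ((a : G) * v * (a : G)⁻¹ * v⁻¹) ^ Nat.card V = 1 := by
          have := pow_card_eq_one' (x := (⟨_, hd.1⟩ : V))
          rw [Subtype.ext_iff, SubmonoidClass.coe_pow] at this
          exact this
        have h1 := key (Nat.card V)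
        rw [h2, one_mul] at h1
        exact (mul_inv_eq_iff_eq_mul.1 h1).symm
      obtain ⟨j, hj⟩ := (Cfsg.Lib.Core.pCore_isPGroup p G) ⟨_, hCV hcV⟩
      refine ⟨m + j, Subtype.ext ?_⟩
      have h3 : ((a : G) ^ Nat.card V) ^ p ^ j = 1 := congrArg Subtype.val hj
      rw [SubmonoidClass.coe_pow, OneMemClass.coe_one, pow_add, pow_mul, ← hm, h3]
    exact hxV (Cfsg.Lib.Core.le_pCore' hAn hAp ⟨h, fun v hv => hDW (hcomm v hv x hx)⟩)
  -- for `w ∈ W ∖ D` the commutators with `w` fill `D`
  have hsurj : ∀ w ∈ (S : Subgroup G), w ∉ D → ∀ d ∈ D, ∃ s ∈ (S : Subgroup G), ⁅w, s⁆ = d := by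
    intro w hw hwD d hd
    obtain ⟨d', hd', rfl⟩ := hd
    obtain ⟨g, hg⟩ := hsh.surj ⟨w, hw⟩ (fun h => hwD ((hcentmem _).1 h)) d' hd'
    exact ⟨g, g.2, by rw [← hg]; rfl⟩
  -- a centraliser of index `≤ p` bounds `D`
  have hbound : ∀ w ∈ (S : Subgroup G), w ∉ D → ∀ B : Subgroup (S : Subgroup G),
      (∀ b ∈ B, (b : G) * w = w * b) → B.index ≤ p → Nat.card D ≤ p := by
    intro w hw hwD B hB hBp
    refine le_trans ?_ hBp
    have hc : commutator (S : Subgroup G) ≤ center (S : Subgroup G) := hsh.center_eq.ge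
    let f : (S : Subgroup G) →* (S : Subgroup G) := MonoidHom.mk' (fun g => ⁅(⟨w, hw⟩ : (S : Subgroup G)), g⁆)
      (comm_mul_right hc _)
    have hBk : B ≤ f.ker := fun b hb => by
      rw [MonoidHom.mem_ker]
      exact commutatorElement_eq_one_iff_mul_comm.2 (Subtype.ext (hB b hb).symm)
    calc Nat.card D ≤ Nat.card f.range := by
          refine Nat.card_le_card_of_injective (fun d => ⟨⟨d.1, hDS d.2⟩, ?_⟩) fun a b h =>
            Subtype.ext (congrArg (fun z => ((z.1 : (S : Subgroup G)) : G)) h)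
          obtain ⟨s, hs, hsd⟩ := hsurj w hw hwD d.1 d.2
          exact ⟨⟨s, hs⟩, Subtype.ext hsd⟩
      _ = f.ker.index := (index_ker f).symm
      _ ≤ B.index := index_antitone hBk
  set P' := (S : Subgroup G).map π with hP'
  haveI hPc : IsMulCommutative P' := by
    refine ⟨⟨fun a b => ?_⟩⟩
    obtain ⟨_, s, hs, rfl⟩ := a
    obtain ⟨_, t, ht, rfl⟩ := b
    refine Subtype.ext ?_
    show π s * π t = π t * π s
    rw [← commutatorElement_eq_one_iff_mul_comm, ← map_commutatorElement, ← MonoidHom.mem_ker, hker]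
    exact hDV (hDmem s hs t ht)
  have hPn : P' ≤ normalizer (K : Set (G ⧸ V)) := by rw [normalizer_eq_top]; exact le_top
  have hcop : (Nat.card P').Coprime (Nat.card K) := by
    obtain ⟨j, hj⟩ := IsPGroup.iff_card.1 (hS.map π)
    rw [hj]
    exact ((Cfsg.Lib.Core.pPrimeCore_coprime p (G ⧸ V)).pow_right j).symm
  have hP1 : P' ≠ ⊥ := fun h => hSV (by rwa [hP', Subgroup.map_eq_bot_iff, hker] at h)
  -- `k` centralising the image of `b` modulo `V`
  have hshift : ∀ k b : G, π k * π b = π b * π k → ∀ w ∈ W, k⁻¹ * b * k * w * (k⁻¹ * b * k)⁻¹ = b * w * b⁻¹ := by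
    intro k b hkb w hw
    have hv : b⁻¹ * (k⁻¹ * b * k) ∈ V := by
      rw [← hker, MonoidHom.mem_ker, map_mul, map_mul, map_mul, map_inv, map_inv, mul_assoc _ (π b) (π k), ← hkb,
        inv_mul_cancel_left, inv_mul_cancel]
    have h1 := hWc w hw _ hv
    calc k⁻¹ * b * k * w * (k⁻¹ * b * k)⁻¹ = b * (b⁻¹ * (k⁻¹ * b * k) * w) * (b⁻¹ * (k⁻¹ * b * k))⁻¹ * b⁻¹ := by group
      _ = b * w * b⁻¹ := by rw [h1]; group
  have hindex : ∀ B : Subgroup (G ⧸ V), ∀ a ∈ P', B ⊔ zpowers a = P' → ((B.comap π).subgroupOf (S : Subgroup G)).index ≤ p := by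
    intro B a ha hBa
    obtain ⟨s, hs, rfl⟩ := ha
    set T : Subgroup (S : Subgroup G) := (B.comap π).subgroupOf (S : Subgroup G)
    set f : (S : Subgroup G) →* G ⧸ V := π.comp (S : Subgroup G).subtype
    haveI hTn : T.Normal := ⟨fun t ht g => by
      show π ((g : G) * t * (g : G)⁻¹) ∈ B
      have h1 : π (g : G) * π (t : G) = π (t : G) * π (g : G) :=
        congrArg Subtype.val (hPc.is_comm.comm (⟨π g, ⟨g, g.2, rfl⟩⟩ : P') ⟨π t, ⟨t, t.2, rfl⟩⟩)
      rw [map_mul, map_mul, map_inv, h1, mul_inv_cancel_right]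
      exact ht⟩
    have hgen : ∀ g : (S : Subgroup G), ∃ i : ℤ, g * ((⟨s, hs⟩ : (S : Subgroup G)) ^ i)⁻¹ ∈ T := by
      intro g
      have hg : π (g : G) ∈ B ⊔ zpowers (π s) := hBa.symm ▸ ⟨g, g.2, rfl⟩
      have hBn : B ≤ normalizer (zpowers (π s) : Set (G ⧸ V)) := by
        refine le_trans (fun b hb => mem_centralizer_iff.2 fun z hz => ?_) (centralizer_le_normalizer _)
        have hbP : b ∈ P' := hBa ▸ mem_sup_left hb
        have hzP : z ∈ P' := hBa ▸ mem_sup_right hz
        exact congrArg Subtype.val (hPc.is_comm.comm (⟨z, hzP⟩ : P') ⟨b, hbP⟩)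
      obtain ⟨b, hb, z, ⟨i, rfl⟩, hbz⟩ := (Set.mem_mul.1 (by
        rw [← coe_mul_of_left_le_normalizer_right _ _ hBn]; exact hg) :
          ∃ b ∈ (B : Set (G ⧸ V)), ∃ z ∈ (zpowers (π s) : Set (G ⧸ V)), b * z = π (g : G))
      refine ⟨i, ?_⟩
      show π ((g : G) * ((s : G) ^ i)⁻¹) ∈ B
      rw [map_mul, map_inv, map_zpow, ← hbz, mul_inv_cancel_right]
      exact hb
    rw [index_eq_card]
    have hle : Nat.card ((S : Subgroup G) ⧸ T) ≤ orderOf ((⟨s, hs⟩ : (S : Subgroup G)) : (S : Subgroup G) ⧸ T) := by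
      rw [← Nat.card_zpowers]
      refine Nat.card_le_card_of_injective (fun x => ⟨x, ?_⟩) fun a b h => congrArg Subtype.val h
      induction x using QuotientGroup.induction_on with
      | _ g =>
        obtain ⟨i, hi⟩ := hgen g
        refine ⟨i, ?_⟩
        show ((⟨s, hs⟩ : (S : Subgroup G)) : (S : Subgroup G) ⧸ T) ^ i = g
        rw [← QuotientGroup.mk_zpow, eq_comm, QuotientGroup.eq]
        have := hTn.conj_mem _ (inv_mem hi) g⁻¹
        simpa [mul_assoc] using this
    refine hle.trans (Nat.le_of_dvd hp.out.pos (orderOf_dvd_of_pow_eq_one ?_))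
    rw [← QuotientGroup.mk_pow, QuotientGroup.eq_one_iff]
    show π ((s : G) ^ p) ∈ B
    rw [show π (s ^ p) = 1 by rw [← MonoidHom.mem_ker, hker]; exact hDV (hpowD s hs)]
    exact one_mem B
  have hKD : ∀ (B : Subgroup (G ⧸ V)), B ∈ Cfsg.Lib.Coprime.cocyclic P' → (Nat.card D ≤ p → B ≠ ⊥) →
      ∀ k : G, π k ∈ K ⊓ centralizer (B : Set (G ⧸ V)) → ∀ d ∈ D, k * d * k⁻¹ ∈ D := by
    rintro B ⟨hBP, a, ha, hBa⟩ hB k hk d hd
    have hkb : ∀ b : G, π b ∈ B → π k * π b = π b * π k := fun b hb =>
      (mem_centralizer_iff.1 hk.2 _ hb).symm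
    by_cases hDp : Nat.card D ≤ p
    · obtain ⟨b', hb', hb1⟩ := B.bot_or_exists_ne_one.resolve_left (hB hDp)
      obtain ⟨b, hb, rfl⟩ := hBP hb'
      obtain ⟨w, hw, hwb⟩ := hmove b hb fun h => hb1 (by rw [← MonoidHom.mem_ker, hker]; exact h)
      set c := ⁅b, w⁆ with hc
      have hcD : c ∈ D := hDmem b hb w (hWS hw)
      have hc1 : c ≠ 1 := fun h => hwb (commutatorElement_eq_one_iff_mul_comm.1 h)
      have hkc : k * c * k⁻¹ ∈ D := by
        have hw' : k * w * k⁻¹ ∈ W := hWn.conj_mem w hw k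
        have h1 := hshift k b (hkb b hb') w hw
        have h2 : k * c * k⁻¹ = ⁅b, k * w * k⁻¹⁆ := by
          rw [hc, commutatorElement_def, commutatorElement_def, ← h1]
          group
        rw [h2]
        exact hDmem b hb _ (hWS hw')
      have hgen : zpowers c = D := by
        refine eq_of_le_of_card_ge (zpowers_le.2 hcD) ?_
        rw [Nat.card_zpowers]
        obtain ⟨j, hj⟩ := IsPGroup.iff_orderOf.1 (hS.to_le hDS) ⟨c, hcD⟩
        rw [← orderOf_coe] at hj
        simp only at hj
        rw [hj]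
        rcases j with _ | j
        · exact absurd (orderOf_eq_one_iff.1 (hj.trans (pow_zero p))) hc1
        · exact hDp.trans (Nat.le_self_pow (Nat.succ_ne_zero j) p)
      obtain ⟨i, rfl⟩ := hgen.symm ▸ hd
      show k * c ^ i * k⁻¹ ∈ D
      rw [← conj_zpow]
      exact zpow_mem hkc i
    · -- `C_W(B) = D`
      have hCW : ∀ w ∈ W, (∀ b ∈ (S : Subgroup G), π b ∈ B → b * w = w * b) → w ∈ D := by
        intro w hw h
        by_contra hwD
        exact hDp (hbound w (hWS hw) hwD ((B.comap π).subgroupOf (S : Subgroup G)) (fun b hb => h b b.2 hb)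
          (hindex B a ha hBa))
      refine hCW _ (hWn.conj_mem d (hDW hd) k) fun b hb hbB => ?_
      have h1 := hshift k b (hkb b hbB) d (hDW hd)
      rw [show b * d * b⁻¹ = d by rw [hDcent d hd b hb, mul_inv_cancel_right]] at h1
      have h2 := congrArg (fun z => k * z * k⁻¹) h1
      simp only [mul_assoc, mul_inv_rev, inv_inv, mul_inv_cancel_left] at h2
      calc b * (k * d * k⁻¹) = b * (k * d * k⁻¹) * b⁻¹ * b := by group
        _ = k * d * k⁻¹ * b := by
          rw [show b * (k * d * k⁻¹) * b⁻¹ = k * d * k⁻¹ from by simpa [mul_assoc] using h2]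
  -- assemble when every relevant `B` is non-trivial
  have hall : (∀ B ∈ Cfsg.Lib.Coprime.cocyclic P', Nat.card D ≤ p → B ≠ ⊥) → False := by
    intro hB
    apply hnot
    let N : Subgroup G := normalizer (D : Set G)
    have hVN : ∀ v ∈ V, v ∈ N := fun v hv => centralizer_le_normalizer _
      (mem_centralizer_iff.2 fun d hd => (hDcent d hd v (hVS hv)).symm)
    have hmem : ∀ k : G, π k ∈ N.map π → k ∈ N := by
      rintro k ⟨n, hn, hnk⟩
      have h1 : n⁻¹ * k ∈ V := by rw [← hker, MonoidHom.mem_ker, map_mul, map_inv, hnk, inv_mul_cancel]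
      simpa using mul_mem hn (hVN _ h1)
    have hle : K ≤ N.map π := by
      rw [← Cfsg.Lib.Coprime.iSup_centralizer_cocyclic_eq hPn hcop, iSup₂_le_iff]
      intro B hBc y hy
      obtain ⟨k, rfl⟩ := QuotientGroup.mk'_surjective V y
      exact ⟨k, mem_normalizer_of_forall_conj (hKD B hBc (hB B hBc) k hy), rfl⟩
    intro k hk d hd
    exact (mem_normalizer_iff.1 (hmem k (hle hk)) d).1 hd
  refine hall fun B hBc hDp hBbot => ?_
  obtain ⟨-, a, ha, hBa⟩ := hBc
  rw [hBbot, bot_sup_eq] at hBa
  -- `P'` has order `p`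
  have hidx : ((⊥ : Subgroup (G ⧸ V)).comap π).subgroupOf (S : Subgroup G) = V.subgroupOf (S : Subgroup G) := by
    rw [MonoidHom.comap_bot, hker]
  have hVidx : (V.subgroupOf (S : Subgroup G)).index ≤ p := hidx ▸ hindex ⊥ a ha (by rw [bot_sup_eq, hBa])
  have hDcard : Nat.card D = p := by
    refine le_antisymm hDp ?_
    obtain ⟨j, hj⟩ := IsPGroup.iff_card.1 (hS.to_le hDS)
    rcases j with _ | j
    · exfalso
      apply hab
      have hDb := card_eq_one.1 (hj.trans (pow_zero p))
      exact ⟨⟨fun s t => Subtype.ext (commutatorElement_eq_one_iff_mul_comm.1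
        (mem_bot.1 (hDb ▸ hDmem s s.2 t t.2)))⟩⟩
    · rw [hj]; exact Nat.le_self_pow (Nat.succ_ne_zero j) p
  have hDnotnormal : ¬ D.Normal := fun h => hnot fun k _ d hd => h.conj_mem d hd k
  have hsmall : ∀ H : Subgroup G, H ≤ D → H = ⊥ ∨ H = D := by
    intro H hH
    rcases (Nat.dvd_prime hp.out).1 (hDcard ▸ card_dvd_of_le hH) with h | h
    · exact Or.inl (card_eq_one.1 h)
    · exact Or.inr (eq_of_le_of_card_ge hH (by rw [hDcard, h]))
  have hVab : ∀ u ∈ V, ∀ v ∈ V, u * v = v * u := by
    have hle : ⁅V, V⁆ ≤ D := commutator_le.2 fun u hu v hv => hDmem u (hVS hu) v (hVS hv)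
    rcases hsmall _ hle with h | h
    · intro u hu v hv
      exact commutatorElement_eq_one_iff_mul_comm.1 (mem_bot.1 (h ▸ commutator_mem_commutator hu hv))
    · exact absurd (h ▸ (inferInstance : ⁅V, V⁆.Normal)) hDnotnormal
  obtain ⟨x, hx, hxV⟩ := Set.not_subset.1 hSV
  have hc : commutator (S : Subgroup G) ≤ center (S : Subgroup G) := hsh.center_eq.ge
  -- `[S : Z(S)] = p²`
  have hidx2 : (center (S : Subgroup G)).index = p ^ 2 := by
    set V₀ := V.subgroupOf (S : Subgroup G)
    have hZV : center (S : Subgroup G) ≤ V₀ := fun z hz => hDV ((hcentmem z).1 hz)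
    have hV₀p : V₀.index = p := by
      obtain ⟨j, hj⟩ := hS.index V₀
      rcases j with _ | j
      · exact absurd (hj.trans (pow_zero p)) fun h => hxV ((index_eq_one.1 h).symm ▸ mem_top (⟨x, hx⟩ : (S : Subgroup G)) :)
      · exact le_antisymm hVidx (hj ▸ Nat.le_self_pow (Nat.succ_ne_zero j) p)
    let f : (S : Subgroup G) →* (S : Subgroup G) := MonoidHom.mk' (fun g => ⁅(⟨x, hx⟩ : (S : Subgroup G)), g⁆)
      (comm_mul_right hc _)
    have hker' : f.ker ⊓ V₀ ≤ center (S : Subgroup G) := by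
      rintro z ⟨hz, hzV⟩
      have hle : zpowers (⟨x, hx⟩ : (S : Subgroup G)) ⊔ V₀ ≤ centralizer ({z} : Set (S : Subgroup G)) := by
        rw [sup_le_iff, zpowers_le, mem_centralizer_singleton_iff]
        exact ⟨commutatorElement_eq_one_iff_mul_comm.1 hz,
          fun v hv => mem_centralizer_singleton_iff.2 (Subtype.ext (hVab v hv z hzV))⟩
      have htop : zpowers (⟨x, hx⟩ : (S : Subgroup G)) ⊔ V₀ = ⊤ := by
        have hlt : V₀ < zpowers (⟨x, hx⟩ : (S : Subgroup G)) ⊔ V₀ :=
          right_lt_sup.2 fun h => hxV (h (mem_zpowers _) :)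
        rw [← index_eq_one]
        rcases (Nat.dvd_prime hp.out).1 (hV₀p ▸ index_dvd_of_le hlt.le) with h | h
        · exact h
        · exact absurd (eq_of_le_of_card_ge hlt.le (by
            have h1 := (zpowers (⟨x, hx⟩ : (S : Subgroup G)) ⊔ V₀).card_mul_index
            have h2 := V₀.card_mul_index
            rw [h] at h1
            rw [hV₀p] at h2
            exact le_of_eq (Nat.eq_of_mul_eq_mul_right hp.out.pos (h1.trans h2.symm)))) hlt.ne
      rw [Subgroup.mem_center_iff]
      exact fun g => mem_centralizer_singleton_iff.1 (hle (htop.symm ▸ mem_top g))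
    have h1 : (center (S : Subgroup G)).index ≤ p ^ 2 := by
      refine (index_antitone hker').trans (index_inf_le.trans ?_)
      rw [hV₀p, sq, index_ker]
      refine Nat.mul_le_mul_right p ?_
      refine le_trans ?_ (le_of_eq hDcard)
      refine Nat.card_le_card_of_injective (fun y => ⟨((y.1 : (S : Subgroup G)) : G), ?_⟩) fun a b h =>
        Subtype.ext (Subtype.ext (congrArg Subtype.val h :))
      obtain ⟨g, hg⟩ := y.2
      rw [← hg]
      exact hDmem x hx g g.2
    obtain ⟨j, hj⟩ := hS.index (center (S : Subgroup G))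
    have h2 : j ≤ 2 := by
      rw [hj] at h1
      exact (Nat.pow_le_pow_iff_right hp.out.one_lt).1 h1
    interval_cases j
    · exfalso
      exact hab ⟨⟨fun a b => Subgroup.mem_center_iff.1 (index_eq_one.1 (hj.trans (pow_zero p)) ▸ mem_top b) a⟩⟩
    · exfalso
      have h3 := index_dvd_of_le hZV
      rw [hj, pow_one, hV₀p] at h3
      have h4 : V₀ = center (S : Subgroup G) := (eq_of_le_of_card_ge hZV (by
        have h5 := V₀.card_mul_index
        have h6 := (center (S : Subgroup G)).card_mul_index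
        rw [hV₀p] at h5
        rw [hj, pow_one] at h6
        exact le_of_eq (Nat.eq_of_mul_eq_mul_right hp.out.pos (h5.trans h6.symm)))).symm
      obtain ⟨w, hw, hwx⟩ := hmove x hx hxV
      have h7 : (⟨w, hWS hw⟩ : (S : Subgroup G)) ∈ center (S : Subgroup G) := h4 ▸ (hw.1 : w ∈ V)
      exact hwx (congrArg Subtype.val (Subgroup.mem_center_iff.1 h7 ⟨x, hx⟩))
    · exact hj
  rcases (show p = 2 ∨ p = 3 ∨ 5 ≤ p by
    have h2 := hp.out.two_le
    have h4 : p ≠ 4 := fun h => absurd (h ▸ hp.out) (by decide)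
    omega) with h2 | h3 | h5
  · -- `p = 2`: `D` consists of the elements of `V` with square one
    apply hDnotnormal
    have hchar : ∀ v, v ∈ D ↔ v ∈ V ∧ v ^ 2 = 1 := by
      intro v
      refine ⟨fun hv => ⟨hDV hv, ?_⟩, fun hv => ?_⟩
      · have h1 := congrArg Subtype.val (pow_card_eq_one' (x := (⟨v, hv⟩ : D)))
        rw [hDcard, h2] at h1
        exact h1
      · by_contra h
        exact hsh.small2 h2 (by rw [hidx2, h2]; norm_num) ⟨v, hVS hv.1⟩ (fun h' => h ((hcentmem _).1 h'))
          (Subtype.ext hv.2)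
    refine ⟨fun d hd g => ?_⟩
    rw [hchar] at hd ⊢
    exact ⟨(inferInstance : V.Normal).conj_mem d hd.1 g, by rw [conj_pow, hd.2, mul_one, mul_inv_cancel]⟩
  · exact hsh.small3 h3 (by rw [hidx2, h3]; norm_num)
  · -- `p ≥ 5`: stability
    obtain ⟨-, hst, -⟩ := Cfsg.Agent.S0625.result (G := G) h5 hsol
    set N := (frattini V).map V.subtype with hN
    have hquad : ⁅⁅V, zpowers x⁆, zpowers x⁆ ≤ N := by
      have hbot : ⁅⁅V, zpowers x⁆, zpowers x⁆ = ⊥ := by
        rw [eq_bot_iff, commutator_le]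
        intro c hc' t ht
        have hcD : c ∈ D := by
          refine (commutator_le.2 fun v hv s hs => hDmem v (hVS hv) s (zpowers_le.2 hx hs)) hc'
        exact mem_bot.2 (commutatorElement_eq_one_iff_mul_comm.2 (hDcent c hcD t (zpowers_le.2 hx ht)).symm)
      rw [hbot]; exact bot_le
    obtain ⟨E, hEn, hCE, ⟨k, hk⟩, hxE⟩ := hst x hquad
    have hNbot : N = ⊥ := by
      have hND : N ≤ D := by
        have h1 := Cfsg.Lib.PGroup.map_frattini_le (p := p) (Cfsg.Lib.Core.pCore_isPGroup p G) hS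
          (inclusion hVS)
        rintro _ ⟨v, hv, rfl⟩
        have h2 : (inclusion hVS v) ∈ center (S : Subgroup G) := by
          refine (Cfsg.Lib.PGroup.frattini_le_of_commutator_le_of_pow_mem (p := p) hc
            hsh.pow_central) (h1 ⟨v, hv, rfl⟩)
        exact (hcentmem _).1 h2
      rcases hsmall N hND with h | h
      · exact h
      · exact absurd (h ▸ (inferInstance : N.Normal)) hDnotnormal
    have hC : Cfsg.sectionKernel V N ≤ V := by
      intro g hg
      refine hCV (mem_centralizer_iff.2 fun v hv => ?_)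
      have h1 := mem_centralizer_iff.1 (Subgroup.mem_comap.1 hg) (QuotientGroup.mk' N v) (mem_map_of_mem _ hv)
      rw [← map_mul, ← map_mul, QuotientGroup.mk'_apply, QuotientGroup.mk'_apply, QuotientGroup.eq, ] at h1
      have h2 : (v * g)⁻¹ * (g * v) = 1 := mem_bot.1 (hNbot ▸ h1)
      exact inv_mul_eq_one.1 h2
    obtain ⟨m, hm⟩ := IsPGroup.iff_card.1 ((Cfsg.Lib.Core.pCore_isPGroup p G).to_le hC)
    have hE : IsPGroup p E := by
      refine IsPGroup.of_card (n := m + k) ?_
      rw [← relIndex_bot_left, ← relIndex_mul_relIndex ⊥ (Cfsg.sectionKernel V N) E bot_le hCE, relIndex_bot_left, hm,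
        hk, pow_add]
    exact hxV (Cfsg.Lib.Core.le_pCore' hEn hE hxE)

end local_side
/-- Let X be a finite minimal non-nilpotent group (not nilpotent, every proper subgroup nilpotent) with a nontrivial normal Sylow p-subgroup P. If G is a finite p-solvable group whose Sylow p-subgroups are isomorphic to P, then G has p-length at most 1. -/
theorem result {G X : Type*} [Group G] [Finite G] [Group X] [Finite X] (p : ℕ) [Fact p.Prime]
    (hX : Cfsg.IsMinimalNonNilpotent X) (P : Sylow p X) (hPn : (P : Subgroup X).Normal) (hP1 : (P : Subgroup X) ≠ ⊥)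
    (hG : Cfsg.IsPSolvable p G) (Q : Sylow p G) (hQ : Nonempty (↥(Q : Subgroup G) ≃* ↥(P : Subgroup X))) : Cfsg.PLengthLE p 1 G := by
  set O := Cfsg.pPrimeCore p G with hO
  set f := QuotientGroup.mk' O with hf
  have hOb : Cfsg.pPrimeCore p (G ⧸ O) = ⊥ := Cfsg.Lib.Core.pPrimeCore_quotient_eq_bot
  let S : Sylow p (G ⧸ O) := Q.mapSurjective (QuotientGroup.mk'_surjective O)
  have hSQ : (S : Subgroup (G ⧸ O)) = (Q : Subgroup G).map f := rfl
  have hinj : Set.InjOn f ((Q : Subgroup G) : Set G) := by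
    intro a ha b hb hab
    rw [hf, QuotientGroup.mk'_apply, QuotientGroup.mk'_apply, QuotientGroup.eq] at hab
    obtain ⟨j, hj⟩ := IsPGroup.iff_card.1 Q.2
    have h1 : a⁻¹ * b ∈ (Q : Subgroup G) ⊓ O := Subgroup.mem_inf.2 ⟨(Q : Subgroup G).mul_mem ((Q : Subgroup G).inv_mem ha) hb, hab⟩
    rw [Subgroup.inf_eq_bot_of_coprime (by
      rw [hj]; exact ((Cfsg.Lib.Core.pPrimeCore_coprime p G).pow_right j).symm), Subgroup.mem_bot] at h1
    exact inv_mul_eq_one.1 h1
  let e : (Q : Subgroup G) ≃* (S : Subgroup (G ⧸ O)) :=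
    MulEquiv.ofBijective ((f.comp (Q : Subgroup G).subtype).codRestrict (S : Subgroup (G ⧸ O))
      fun q => ⟨q, q.2, rfl⟩)
      ⟨fun a b h => Subtype.ext (hinj a.2 b.2 (congrArg Subtype.val h)),
       fun y => by
        obtain ⟨a, ha, hay⟩ := y.2
        exact ⟨⟨a, ha⟩, Subtype.ext hay⟩⟩
  obtain ⟨e0⟩ := hQ
  let e1 := e0.symm.trans e
  have hsh : IsMulCommutative (S : Subgroup (G ⧸ O)) ∨ Shape p (S : Subgroup (G ⧸ O)) := by
    rcases shape_of_schmidt hX P hPn hP1 with h | h
    · refine Or.inl ⟨⟨fun a b => e1.symm.injective ?_⟩⟩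
      rw [map_mul, map_mul]
      exact h.is_comm.comm _ _
    · exact Or.inr (h.of_equiv e1)
  have hle := main (Cfsg.Lib.Core.isPSolvable_quotient hG O) hOb S hsh
  rw [Cfsg.Lib.Local.pLengthLE_iff]
  refine Cfsg.Lib.Local.PChain.reduce (Cfsg.Lib.Local.pChain_of_coprime ?_ 0)
  rw [← Subgroup.index_eq_card, Nat.coprime_comm, Nat.Prime.coprime_iff_not_dvd (Fact.out : p.Prime)]
  exact fun hd => S.not_dvd_index (hd.trans (Subgroup.index_dvd_of_le hle))

end Cfsg.Agent.S4394
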