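import Cfsg.Statements.S4395
import Cfsg.Agent.Lib.Solv.SchmidtCover
-- import your own Cfsg.Agent.* helpers here

set_option autoImplicit false
universe u
open Cfsg

namespace Cfsg.Agent.S4395

open Subgroup Multiplicative
open scoped commutatorElement IsMulCommutative

section pairing

variable {F : Type} [Field F] {P : Type*} [Group P]

/-- The commutator pairing of a central extension of the additive group of `F`. -/
lemma exists_pairing (π : P →* Multiplicative F) (hs : Function.Surjective π) (hc : π.ker ≤ center P)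
    (β : MulAut P) (lam : F) (h : ∀ y, toAdd (π (β y)) = lam * toAdd (π y))
    (hf : ∀ y ∈ π.ker, β y = y) :
    ∃ B : F → F → center P, (∀ x y z, B (x + y) z = B x z * B y z) ∧
      (∀ x y z, B x (y + z) = B x y * B x z) ∧ (∀ x, B x x = 1) ∧
      (∀ x y, B (lam * x) (lam * y) = B x y) ∧ (∀ x y, ((B x y : P)) ∈ π.ker) ∧
      ∀ y z : P, ⁅y, z⁆ = (B (toAdd (π y)) (toAdd (π z)) : P) := by
  have hk : ∀ y z : P, ⁅y, z⁆ ∈ π.ker := fun y z => by
    rw [MonoidHom.mem_ker, map_commutatorElement, commutatorElement_eq_one_iff_mul_comm, mul_comm]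
  have hcc : commutator P ≤ center P := by
    rw [_root_.commutator_def, commutator_le]; exact fun y _ z _ => hc (hk y z)
  have hml : ∀ a b g : P, ⁅a * b, g⁆ = ⁅a, g⁆ * ⁅b, g⁆ := fun a b g => by
    have h1 := mem_center_iff.1 (hc (hk b g))
    calc ⁅a * b, g⁆ = (a * ⁅b, g⁆) * a⁻¹ * ⁅a, g⁆ := by
          rw [commutatorElement_def, commutatorElement_def, commutatorElement_def]; group
      _ = ⁅b, g⁆ * ⁅a, g⁆ := by rw [h1]; group
      _ = ⁅a, g⁆ * ⁅b, g⁆ := (h1 _).symm
  have hmr : ∀ a g k : P, ⁅a, g * k⁆ = ⁅a, g⁆ * ⁅a, k⁆ := fun a g k => by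
    have h1 := mem_center_iff.1 (hc (hk a k))
    calc ⁅a, g * k⁆ = ⁅a, g⁆ * (g * ⁅a, k⁆) * g⁻¹ := by
          rw [commutatorElement_def, commutatorElement_def, commutatorElement_def]; group
      _ = ⁅a, g⁆ * ⁅a, k⁆ := by rw [h1]; group
  have hz : ∀ z ∈ π.ker, ∀ g : P, ⁅z, g⁆ = 1 := fun z hz g =>
    commutatorElement_eq_one_iff_mul_comm.2 (mem_center_iff.1 (hc hz) g).symm
  have hz' : ∀ z ∈ π.ker, ∀ g : P, ⁅g, z⁆ = 1 := fun z hz g =>
    commutatorElement_eq_one_iff_mul_comm.2 (mem_center_iff.1 (hc hz) g)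
  have hwell : ∀ y y' z z' : P, π y = π y' → π z = π z' → ⁅y, z⁆ = ⁅y', z'⁆ := by
    intro y y' z z' h1 h2
    obtain ⟨a, ha, rfl⟩ : ∃ a ∈ π.ker, y' * a = y :=
      ⟨y'⁻¹ * y, by rw [MonoidHom.mem_ker, map_mul, map_inv, h1, inv_mul_cancel], by group⟩
    obtain ⟨b, hb, rfl⟩ : ∃ b ∈ π.ker, z' * b = z :=
      ⟨z'⁻¹ * z, by rw [MonoidHom.mem_ker, map_mul, map_inv, h2, inv_mul_cancel], by group⟩
    rw [hml, hz a ha, mul_one, hmr, hz' b hb, mul_one]
  let s : F → P := fun x => Function.surjInv hs (ofAdd x)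
  have hs' : ∀ x, π (s x) = ofAdd x := fun x => Function.surjInv_eq hs _
  have hsa : ∀ x y, π (s (x + y)) = π (s x * s y) := fun x y => by
    rw [map_mul, hs', hs', hs', ofAdd_add]
  refine ⟨fun x y => ⟨⁅s x, s y⁆, hc (hk _ _)⟩, fun x y z => Subtype.ext ?_, fun x y z => Subtype.ext ?_,
    fun x => Subtype.ext (commutatorElement_self _), fun x y => Subtype.ext ?_, fun x y => hk _ _, fun y z => ?_⟩
  · show ⁅s (x + y), s z⁆ = ⁅s x, s z⁆ * ⁅s y, s z⁆
    rw [← hml]; exact hwell _ _ _ _ (hsa x y) rfl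
  · show ⁅s x, s (y + z)⁆ = ⁅s x, s y⁆ * ⁅s x, s z⁆
    rw [← hmr]; exact hwell _ _ _ _ rfl (hsa y z)
  · show ⁅s (lam * x), s (lam * y)⁆ = ⁅s x, s y⁆
    rw [← hf _ (hk (s x) (s y)), map_commutatorElement]
    refine hwell _ _ _ _ ?_ ?_ <;> exact toAdd.injective (by rw [hs', h, hs', toAdd_ofAdd, toAdd_ofAdd])
  · exact hwell _ _ _ _ (by rw [hs', ofAdd_toAdd]) (by rw [hs', ofAdd_toAdd])

end pairing

section herm

variable {F : Type} [Field F] (σ : F →+* F)

/-- The points of the hermitian curve: a Sylow subgroup of a three-dimensional unitary group. -/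
@[ext] structure Herm where
  x : F
  z : F
  eq : z + σ z = σ x * x

variable {σ} (hσ : ∀ x, σ (σ x) = x)

/-- The group law. -/
@[reducible] def hermGroup : Group (Herm σ) where
  mul a b := ⟨a.x + b.x, a.z + b.z + σ a.x * b.x, by
    simp only [map_add, map_mul, hσ]
    linear_combination a.eq + b.eq⟩
  one := ⟨0, 0, by simp⟩
  inv a := ⟨-a.x, -a.z + σ a.x * a.x, by
    simp only [map_add, map_mul, map_neg, hσ]
    linear_combination (-1 : F) * a.eq⟩
  mul_assoc a b c := Herm.ext (add_assoc _ _ _) (by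
    show a.z + b.z + σ a.x * b.x + c.z + σ (a.x + b.x) * c.x =
      a.z + (b.z + c.z + σ b.x * c.x) + σ a.x * (b.x + c.x)
    rw [map_add]; ring)
  one_mul a := Herm.ext (zero_add _) (by
    show 0 + a.z + σ 0 * a.x = a.z
    rw [map_zero]; ring)
  mul_one a := Herm.ext (add_zero _) (by
    show a.z + 0 + σ a.x * 0 = a.z
    ring)
  inv_mul_cancel a := Herm.ext (neg_add_cancel _) (by
    show -a.z + σ a.x * a.x + a.z + σ (-a.x) * a.x = 0
    rw [map_neg]; ring)

end herm

lemma zmod_two_cases : ∀ z : ZMod 2, z = 0 ∨ z = 1 := by decide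

universe v

/-- A cover yields the universal group. -/
lemma assemble (p q r : ℕ) [Fact p.Prime] [Fact q.Prime] (hpq : p ≠ q) (hr : 1 ≤ r) (a n : ℕ)
    (ha : a = orderOf (p : ZMod q)) {F : Type} [Field F] [Finite F] [Algebra (ZMod p) F]
    (hF : Nat.card F = p ^ a) {lam : F} (hlam : orderOf lam = q)
    {P₀ : Type} [Group P₀] [Finite P₀] (π₀ : P₀ →* Multiplicative F) (α : MulAut P₀)
    (hs : Function.Surjective π₀) (hπα : ∀ y, toAdd (π₀ (α y)) = lam * toAdd (π₀ y))
    (hαq : α ^ q = 1) (hcard : Nat.card P₀ = p ^ n) (hkc : π₀.ker ≤ center P₀)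
    (hkd : π₀.ker ≤ commutator P₀) (hkf : ∀ y ∈ π₀.ker, α y = y)
    (hfac : ∀ {A : Type v} [CommGroup A] (B : F → F → A), (∀ x y z, B (x + y) z = B x z * B y z) →
      (∀ x y z, B x (y + z) = B x y * B x z) → (∀ x, B x x = 1) →
      (∀ x y, B (lam * x) (lam * y) = B x y) →
      ∃ L : π₀.ker →* A, (∀ (y z : P₀) (h : ⁅y, z⁆ ∈ π₀.ker),
        L ⟨⁅y, z⁆, h⟩ = B (toAdd (π₀ y)) (toAdd (π₀ z))) ∧ ∀ k, ∃ x, L k = B 1 x) :
    ∃ (G₀ : Type v) (_ : Group G₀) (_ : Finite G₀),
      (¬ Cfsg.HasNormalPComplement p G₀ ∧ ∀ K : Subgroup G₀, K ≠ ⊤ → Cfsg.HasNormalPComplement p ↥K) ∧ Nat.card G₀ = p ^ n * q ^ r ∧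
      ∀ (X : Type v) [Group X] [Finite X], (¬ Cfsg.HasNormalPComplement p X ∧ ∀ K : Subgroup X, K ≠ ⊤ → Cfsg.HasNormalPComplement p ↥K) →
        (∃ t : ℕ, Nat.card X = p ^ t * q ^ r) → ∃ φ : G₀ →* X, Function.Surjective φ ∧ φ.ker ≤ Subgroup.center G₀ := by
  classical
  haveI : NeZero (q ^ r) := ⟨pow_ne_zero r (Fact.out : q.Prime).ne_zero⟩
  let c : Multiplicative (ZMod (q ^ r)) := ofAdd 1
  have hc : orderOf c = q ^ r := by rw [orderOf_ofAdd_eq_addOrderOf, ZMod.addOrderOf_one]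
  have hgen : ∀ x : Multiplicative (ZMod (q ^ r)), x ∈ zpowers c := fun x =>
    ⟨((toAdd x).val : ℤ), toAdd.injective (by
      show toAdd (c ^ ((toAdd x).val : ℤ)) = _
      rw [zpow_natCast, toAdd_pow, toAdd_ofAdd, nsmul_one, ZMod.natCast_zmod_val])⟩
  have hαc : orderOf α ∣ orderOf c :=
    by rw [hc]; exact (orderOf_dvd_of_pow_eq_one hαq).trans (dvd_pow_self q (by omega : r ≠ 0))
  let act : Multiplicative (ZMod (q ^ r)) →* MulAut P₀ := monoidHomOfForallMemZpowers hgen hαc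
  have hact : act c = α := monoidHomOfForallMemZpowers_apply_gen hgen hαc
  haveI : Finite (P₀ ⋊[act] Multiplicative (ZMod (q ^ r))) :=
    Finite.of_equiv _ SemidirectProduct.equivProd.symm
  let G₀ := ULift.{v} (P₀ ⋊[act] Multiplicative (ZMod (q ^ r)))
  let eG : G₀ ≃* P₀ ⋊[act] Multiplicative (ZMod (q ^ r)) := MulEquiv.ulift
  let ι : P₀ →* G₀ := eG.symm.toMonoidHom.comp SemidirectProduct.inl
  let g : G₀ := eG.symm (SemidirectProduct.inr c)
  have hι : Function.Injective ι := eG.symm.injective.comp SemidirectProduct.inl_injective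
  have hg : orderOf g = q ^ r := by
    refine Eq.trans ?_ hc
    exact (orderOf_injective eG.symm.toMonoidHom eG.symm.injective _).trans
      (orderOf_injective SemidirectProduct.inr SemidirectProduct.inr_injective _)
  have hconj : ∀ y, g * ι y * g⁻¹ = ι (α y) := fun y => by
    show eG.symm _ * eG.symm _ * (eG.symm _)⁻¹ = eG.symm _
    rw [← map_inv eG.symm, ← map_mul, ← map_mul, ← map_inv, ← SemidirectProduct.inl_aut, hact]
  have hdec : ∀ w : G₀, ∃ (y : P₀) (i : ℕ), w = ι y * g ^ i := fun w => by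
    refine ⟨(eG w).left, (toAdd (eG w).right).val, eG.injective ?_⟩
    rw [map_mul, map_pow]
    show eG w = eG (eG.symm _) * eG (eG.symm _) ^ _
    rw [MulEquiv.apply_symm_apply, MulEquiv.apply_symm_apply, ← map_pow]
    have : c ^ (toAdd (eG w).right).val = (eG w).right := toAdd.injective (by
      rw [toAdd_pow, toAdd_ofAdd, nsmul_one, ZMod.natCast_zmod_val])
    rw [this, SemidirectProduct.inl_left_mul_inr_right]
  have htop : ι.range ⊔ zpowers g = ⊤ := eq_top_iff.2 fun w _ => by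
    obtain ⟨y, i, rfl⟩ := hdec w
    exact mul_mem (mem_sup_left ⟨y, rfl⟩) (mem_sup_right (npow_mem_zpowers g i))
  have hP₀ : IsPGroup p P₀ := IsPGroup.of_card hcard
  refine ⟨G₀, inferInstance, inferInstance,
    Cfsg.Lib.SchmidtCover.minimal π₀ α hpq ha hF hlam hs hπα hαq hP₀ hkc hkd hkf hr ι g hι hg hconj htop,
    ?_, fun X _ _ hX ⟨t, ht⟩ => ?_⟩
  · rw [Nat.card_congr Equiv.ulift, SemidirectProduct.card, hcard, Nat.card_congr toAdd, Nat.card_zmod]
  obtain ⟨P, hPn, x, π₁, hPp, hx, hxtop, hs₁, hc₁, h₁, hf₁, hq₁, hi₁⟩ :=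
    Cfsg.Lib.SchmidtCover.exists_data hpq ha hF hlam hr hX.1 hX.2 ht
  haveI := hPn
  obtain ⟨B, hl, hr', halt, hinv, hBk, hB⟩ := exists_pairing π₁ hs₁ hc₁ _ lam h₁ hf₁
  obtain ⟨L, hL, hLB⟩ := hfac B hl hr' halt hinv
  obtain ⟨φ, hφs, hφα, hφπ⟩ := Cfsg.Lib.SchmidtCover.exists_lift hpq hlam π₀ α π₁ _ hs hπα hαq hP₀
    hkc hkd hkf hs₁ h₁ hq₁ hPp hc₁ hf₁ hi₁ L
    (fun y z y' z' h e1 e2 => by rw [hL, hB, e1, e2])
    (fun k => by obtain ⟨w, hw⟩ := hLB k; rw [hw]; exact hBk _ _)
  have hxc : orderOf x ∣ orderOf c := by rw [hx, hc]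
  let fg : Multiplicative (ZMod (q ^ r)) →* X := monoidHomOfForallMemZpowers hgen hxc
  have hfgc : fg c = x := monoidHomOfForallMemZpowers_apply_gen hgen hxc
  have hφi : ∀ (j : ℕ) y, ((φ ((α ^ j) y) : P) : X) = x ^ j * φ y * (x ^ j)⁻¹ := by
    intro j
    induction j with
    | zero => intro y; simp
    | succ j ih =>
      intro y
      rw [pow_succ', MulAut.mul_apply, hφα, MulAut.conjNormal_apply, ih, pow_succ']
      group
  let Φ' : P₀ ⋊[act] Multiplicative (ZMod (q ^ r)) →* X :=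
    SemidirectProduct.lift (P.subtype.comp φ) fg fun w => by
      obtain ⟨i, rfl⟩ := mem_powers_iff_mem_zpowers.2 (hgen w)
      refine MonoidHom.ext fun y => ?_
      rw [map_pow act, hact, map_pow fg, hfgc]
      exact hφi i y
  let Φ : G₀ →* X := Φ'.comp eG.toMonoidHom
  have hΦι : ∀ y, Φ (ι y) = (φ y : X) := fun y => by
    show Φ' (eG (eG.symm _)) = _
    rw [MulEquiv.apply_symm_apply, SemidirectProduct.lift_inl]; rfl
  have hΦg : Φ g = x := by
    show Φ' (eG (eG.symm _)) = _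
    rw [MulEquiv.apply_symm_apply, SemidirectProduct.lift_inr, hfgc]
  refine ⟨Φ, ?_, fun w hw => ?_⟩
  · rw [← MonoidHom.range_eq_top, eq_top_iff, ← hxtop, sup_le_iff, zpowers_le]
    refine ⟨fun z hz => ?_, g, hΦg⟩
    obtain ⟨y, hy⟩ := hφs ⟨z, hz⟩
    exact ⟨ι y, by rw [hΦι, hy]⟩
  obtain ⟨y, i, rfl⟩ := hdec w
  rw [MonoidHom.mem_ker, map_mul, map_pow, hΦι, hΦg] at hw
  have hmem : x ^ i ∈ P ⊓ zpowers x := mem_inf.2 ⟨by
    rw [eq_inv_of_mul_eq_one_right hw]; exact inv_mem (φ y).2, npow_mem_zpowers x i⟩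
  have hxq : IsPGroup q (zpowers x) := IsPGroup.of_card (n := r) (by rw [Nat.card_zpowers, hx])
  rw [(IsPGroup.disjoint_of_ne p q hpq _ _ hPp hxq).eq_bot, mem_bot] at hmem
  have hgi : g ^ i = 1 := orderOf_dvd_iff_pow_eq_one.1 (by
    rw [hg, ← hx]; exact orderOf_dvd_iff_pow_eq_one.2 hmem)
  rw [hmem, mul_one] at hw
  have hy : y ∈ π₀.ker := by
    rw [MonoidHom.mem_ker, ← hφπ, show φ y = 1 from Subtype.ext hw, map_one]
  rw [hgi, mul_one, mem_center_iff]
  intro w
  obtain ⟨z, j, rfl⟩ := hdec w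
  refine (Commute.mul_left ((show Commute z y from mem_center_iff.1 (hkc hy) z).map ι) ?_).eq
  refine Commute.pow_left ?_ j
  have h1 := hconj y
  rw [hkf y hy] at h1
  exact mul_inv_eq_iff_eq_mul.1 h1

/-- The even case. -/
lemma even_case (p q r : ℕ) [Fact p.Prime] [Fact q.Prime] (hpq : p ≠ q) (hr : 1 ≤ r) (b : ℕ)
    (ha : 2 * b = orderOf (p : ZMod q)) {F : Type} [Field F] [Finite F] [Algebra (ZMod p) F]
    (hF : Nat.card F = p ^ (2 * b)) {lam : F} (hlam : orderOf lam = q) (σ : F →+* F)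
    (hσ : ∀ x, σ (σ x) = x) (hσlam : σ lam * lam = 1) (hlam2 : σ lam ≠ lam) :
    ∃ (G₀ : Type v) (_ : Group G₀) (_ : Finite G₀),
      (¬ Cfsg.HasNormalPComplement p G₀ ∧ ∀ K : Subgroup G₀, K ≠ ⊤ → Cfsg.HasNormalPComplement p ↥K) ∧ Nat.card G₀ = p ^ (3 * b) * q ^ r ∧
      ∀ (X : Type v) [Group X] [Finite X], (¬ Cfsg.HasNormalPComplement p X ∧ ∀ K : Subgroup X, K ≠ ⊤ → Cfsg.HasNormalPComplement p ↥K) →
        (∃ t : ℕ, Nat.card X = p ^ t * q ^ r) → ∃ φ : G₀ →* X, Function.Surjective φ ∧ φ.ker ≤ Subgroup.center G₀ := by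
  classical
  have hlamq : lam ^ q = 1 := hlam ▸ pow_orderOf_eq_one lam
  -- traces
  let u := lam - σ lam
  have hu0 : u ≠ 0 := sub_ne_zero.2 (Ne.symm hlam2)
  have hσu : σ u = -u := by rw [map_sub, hσ]; ring
  have htr : ∀ w, σ w = w → ∃ z, z + σ z = w := by
    intro w hw
    by_cases h0 : ∀ z : F, z + σ z = 0
    · exfalso
      have h1 := h0 1
      rw [map_one] at h1
      have h2 := h0 lam
      exact hlam2 (by linear_combination h2 - lam * h1)
    push Not at h0
    obtain ⟨z, hz⟩ := h0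
    have hzfix : σ (z + σ z) = z + σ z := by rw [map_add, hσ, add_comm]
    refine ⟨z * (w / (z + σ z)), ?_⟩
    rw [map_mul, map_div₀, hzfix, hw, ← add_mul]
    exact mul_div_cancel₀ _ hz
  have hK : ∀ k, k + σ k = 0 → ∃ w, w - σ w = k := by
    intro k hk
    obtain ⟨z, hz⟩ := htr (k / u) (by
      rw [map_div₀, hσu, eq_neg_of_add_eq_zero_right hk, neg_div_neg_eq])
    refine ⟨u * z, ?_⟩
    rw [map_mul, hσu, neg_mul, sub_neg_eq_add, ← mul_add, hz, mul_div_cancel₀ _ hu0]
  letI := hermGroup hσ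
  haveI : Finite (Herm σ) := Finite.of_injective (fun a => (a.x, a.z)) fun a c h =>
    Herm.ext (congrArg Prod.fst h) (congrArg Prod.snd h)
  have hmulx : ∀ a c : Herm σ, (a * c).x = a.x + c.x := fun _ _ => rfl
  have hmulz : ∀ a c : Herm σ, (a * c).z = a.z + c.z + σ a.x * c.x := fun _ _ => rfl
  let π₀ : Herm σ →* Multiplicative (F) :=
    MonoidHom.mk' (fun a => Multiplicative.ofAdd a.x) fun a c => by rw [hmulx, ofAdd_add]
  have hker : ∀ a : Herm σ, a ∈ π₀.ker ↔ a.x = 0 := fun a => ofAdd_eq_one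
  let α : MulAut (Herm σ) :=
    { toFun := fun a => ⟨lam * a.x, a.z, by rw [map_mul]; linear_combination a.eq - (σ a.x * a.x) * hσlam⟩
      invFun := fun a => ⟨σ lam * a.x, a.z, by
        rw [map_mul, hσ]; linear_combination a.eq - (σ a.x * a.x) * hσlam⟩
      left_inv := fun a => Herm.ext (by
        show σ lam * (lam * a.x) = a.x
        rw [← mul_assoc, hσlam, one_mul]) rfl
      right_inv := fun a => Herm.ext (by
        show lam * (σ lam * a.x) = a.x
        rw [← mul_assoc, mul_comm lam, hσlam, one_mul]) rfl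
      map_mul' := fun a c => Herm.ext (mul_add _ _ _) (by
        show a.z + c.z + σ a.x * c.x = a.z + c.z + σ (lam * a.x) * (lam * c.x)
        rw [map_mul]; linear_combination (-(σ a.x * c.x)) * hσlam) }
  have hα : ∀ a : Herm σ, α a = ⟨lam * a.x, a.z, (α a).eq⟩ := fun a => rfl
  have hαn : ∀ (j : ℕ) (a : Herm σ), ((α ^ j) a).x = lam ^ j * a.x ∧ ((α ^ j) a).z = a.z := by
    intro j
    induction j with
    | zero => intro a; simp
    | succ j ih =>
      intro a
      rw [pow_succ', MulAut.mul_apply]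
      exact ⟨by show lam * ((α ^ j) a).x = _; rw [(ih a).1, pow_succ', mul_assoc], (ih a).2⟩
  have hcomm : ∀ a c : Herm σ, (⁅a, c⁆).x = 0 ∧ (⁅a, c⁆).z = σ a.x * c.x - σ c.x * a.x := by
    intro a c
    have hx0 : (⁅a, c⁆).x = 0 := by
      show a.x + c.x + -a.x + -c.x = 0
      ring
    refine ⟨hx0, ?_⟩
    have h : ⁅a, c⁆ * (c * a) = a * c := by rw [commutatorElement_def]; group
    have h1 := congrArg Herm.z h
    simp only [hmulz, hx0, map_zero, zero_mul, add_zero] at h1
    linear_combination h1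
  have hpowcard : Nat.card (Herm σ) = p ^ (3 * b) := by
    let F₀ := {w : F // σ w = w}
    have hsol : ∀ x, ∃ z, z + σ z = σ x * x := fun x => htr _ (by rw [map_mul, hσ, mul_comm])
    choose s hs using hsol
    -- the kernel and image of the trace
    let e : F × F₀ ≃ Herm σ :=
      { toFun := fun w => ⟨w.1, s w.1 + u * w.2.1, by
          rw [map_add, map_mul, hσu, w.2.2]; linear_combination hs w.1⟩
        invFun := fun a => (a.x, ⟨(a.z - s a.x) / u, by
          rw [map_div₀, map_sub, hσu, div_eq_div_iff (neg_ne_zero.2 hu0) hu0]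
          linear_combination u * a.eq - u * hs a.x⟩)
        left_inv := fun w => Prod.ext rfl (Subtype.ext (by
          show (s w.1 + u * w.2.1 - s w.1) / u = w.2.1
          rw [add_sub_cancel_left, mul_div_cancel_left₀ _ hu0]))
        right_inv := fun a => Herm.ext rfl (by
          show s a.x + u * ((a.z - s a.x) / u) = a.z
          rw [mul_div_cancel₀ _ hu0, add_sub_cancel]) }
    choose T hT using fun w : F₀ => htr w.1 w.2
    let e' : F₀ × F₀ ≃ F :=
      { toFun := fun w => T w.1 + u * w.2.1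
        invFun := fun z => (⟨z + σ z, by rw [map_add, hσ, add_comm]⟩,
          ⟨(z - T ⟨z + σ z, by rw [map_add, hσ, add_comm]⟩) / u, by
            have h2 := hT ⟨z + σ z, by rw [map_add, hσ, add_comm]⟩
            rw [map_div₀, map_sub, hσu, div_eq_div_iff (neg_ne_zero.2 hu0) hu0]
            linear_combination (-u) * h2⟩)
        left_inv := fun w => by
          have h2 : T w.1 + u * w.2.1 + σ (T w.1 + u * w.2.1) = w.1.1 := by
            rw [map_add, map_mul, hσu, w.2.2]; linear_combination hT w.1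
          refine Prod.ext (Subtype.ext h2) (Subtype.ext ?_)
          show (T w.1 + u * w.2.1 - T ⟨_, _⟩) / u = w.2.1
          rw [show (⟨_, _⟩ : F₀) = w.1 from Subtype.ext h2, add_sub_cancel_left,
            mul_div_cancel_left₀ _ hu0]
        right_inv := fun z => by
          show T _ + u * ((z - T _) / u) = z
          rw [mul_div_cancel₀ _ hu0, add_sub_cancel] }
    have h2 := Nat.card_congr e'
    rw [Nat.card_prod, hF, mul_comm 2 b, pow_mul, ← sq] at h2
    rw [← Nat.card_congr e, Nat.card_prod, hF, Nat.pow_left_injective two_ne_zero h2, ← pow_add]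
    congr 1; omega
  obtain ⟨G₀, i1, i2, hmin, hcard, huniv⟩ := assemble.{v} p q r hpq hr (2 * b) (3 * b) ha hF hlam
    π₀ α (fun m => by
      obtain ⟨z, hz⟩ := htr (σ (Multiplicative.toAdd m) * Multiplicative.toAdd m)
        (by rw [map_mul, hσ, mul_comm])
      exact ⟨⟨_, z, hz⟩, rfl⟩)
    (fun a => rfl)
    (MulEquiv.ext fun a => Herm.ext (by rw [(hαn q a).1, hlamq, one_mul]; rfl) (hαn q a).2)
    hpowcard
    (fun k hk => Subgroup.mem_center_iff.2 fun a => by
      have h0 := (hker k).1 hk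
      exact Herm.ext (by rw [hmulx, hmulx, add_comm]) (by
        rw [hmulz, hmulz, h0, map_zero, zero_mul, mul_zero, add_comm a.z k.z]))
    (fun k hk => by
      have h0 := (hker k).1 hk
      have h1 : k.z + σ k.z = 0 := by rw [k.eq, h0, mul_zero]
      obtain ⟨w, hw⟩ := hK k.z h1
      obtain ⟨z₁, hz₁⟩ := htr (σ 1 * 1) (by simp)
      obtain ⟨z₂, hz₂⟩ := htr (σ w * w) (by rw [map_mul, hσ, mul_comm])
      have h : k = ⁅(⟨1, z₁, hz₁⟩ : Herm σ), ⟨w, z₂, hz₂⟩⁆ :=
        Herm.ext (by rw [(hcomm _ _).1, h0]) (by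
          rw [(hcomm _ _).2, map_one, one_mul, mul_one, hw])
      rw [h]
      exact Subgroup.commutator_mem_commutator (Subgroup.mem_top _) (Subgroup.mem_top _))
    (fun k hk => Herm.ext (by
      show lam * k.x = k.x
      rw [(hker k).1 hk, mul_zero]) rfl)
    (fun {A} _ B hl hr' halt hinv => by
      have hbal := Cfsg.Lib.SchmidtField.balanced ha hF hlam B hl hr' hinv σ hσlam
      have hψ : ∀ x y, B x y = B 1 (σ x * y) := fun x y => by
        have h := hbal x 1 y
        rwa [mul_one] at h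
      have hanti : ∀ w, B 1 w * B 1 (σ w) = 1 := by
        intro w
        have h := halt (1 + w)
        rw [hl, hr', hr', halt, halt, one_mul, mul_one] at h
        rwa [hψ w 1, mul_one] at h
      have hwell : ∀ w w', w - σ w = w' - σ w' → B 1 w = B 1 w' := by
        intro w w' h
        have hfix : σ (w - w') = w - w' := by rw [map_sub]; linear_combination -h
        obtain ⟨z, hz⟩ := htr _ hfix
        have h1 : B 1 (w - w') = 1 := by rw [← hz, hr', hanti]
        rw [← mul_one (B 1 w'), ← h1, ← hr', add_sub_cancel]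
      have hKk : ∀ k : π₀.ker, ∃ w, w - σ w = (k : Herm σ).z := fun k =>
        hK _ (by rw [(k : Herm σ).eq, (hker _).1 k.2, mul_zero])
      choose W hW using hKk
      let L : π₀.ker →* A := MonoidHom.mk' (fun k => B 1 (W k)) fun k l => by
        rw [← hr']
        refine hwell _ _ ?_
        rw [map_add, hW, Subgroup.coe_mul, hmulz, (hker _).1 l.2, mul_zero, add_zero, ← hW k, ← hW l]
        ring
      refine ⟨L, fun y z h => ?_, fun k => ⟨W k, rfl⟩⟩
      show B 1 (W _) = B y.x z.x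
      rw [hψ y.x]
      refine hwell _ _ ?_
      rw [hW, (hcomm y z).2, map_mul, hσ]
      ring)
  exact ⟨G₀, i1, i2, hmin, hcard, huniv⟩

/-- Let p ≠ q be primes, r ≥ 1, a the multiplicative order of p modulo q, and a₀ = a when a is odd, a₀ = 3a/2 when a is even. Call a finite group minimal non-p-nilpotent when it has no normal p-complement but every proper subgroup has one. Then there is a minimal non-p-nilpotent group G₀ of order p^a₀ · q^r such that every minimal non-p-nilpotent group of order p^t · q^r (any t) is a quotient of G₀ by a central subgroup. -/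
theorem result (p q r : ℕ) [Fact p.Prime] [Fact q.Prime] (hpq : p ≠ q) (hr : 1 ≤ r) (a a₀ : ℕ)
    (ha : a = orderOf (p : ZMod q)) (ha₀ : a₀ = if a % 2 = 1 then a else 3 * a / 2) :
    ∃ (G₀ : Type u) (_ : Group G₀) (_ : Finite G₀),
      (¬ Cfsg.HasNormalPComplement p G₀ ∧ ∀ K : Subgroup G₀, K ≠ ⊤ → Cfsg.HasNormalPComplement p ↥K) ∧ Nat.card G₀ = p ^ a₀ * q ^ r ∧
      ∀ (X : Type u) [Group X] [Finite X], (¬ Cfsg.HasNormalPComplement p X ∧ ∀ K : Subgroup X, K ≠ ⊤ → Cfsg.HasNormalPComplement p ↥K) →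
        (∃ t : ℕ, Nat.card X = p ^ t * q ^ r) → ∃ φ : G₀ →* X, Function.Surjective φ ∧ φ.ker ≤ Subgroup.center G₀ := by
  classical
  have ha0 : 0 < a := ha ▸ Cfsg.Lib.SchmidtField.orderOf_pos_of_ne hpq
  have hF : Nat.card (GaloisField p a) = p ^ a := GaloisField.card p a ha0.ne'
  obtain ⟨lam, hlam⟩ := Cfsg.Lib.SchmidtField.exists_root (F := GaloisField p a) p q a
    ((Cfsg.Lib.SchmidtField.dvd_pow_sub_one_iff a).2 ha.symm.dvd) hF
  have hlamq : lam ^ q = 1 := hlam ▸ pow_orderOf_eq_one lam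
  rcases Nat.mod_two_eq_zero_or_one a with hev | hodd
  · -- even: hermitian curve
    rw [if_neg (by omega)] at ha₀
    obtain ⟨b, rfl⟩ : ∃ b, a = 2 * b := ⟨a / 2, by omega⟩
    have hb0 : 0 < b := by omega
    haveI : Fintype (GaloisField p (2 * b)) := Fintype.ofFinite _
    let σ : GaloisField p (2 * b) →+* GaloisField p (2 * b) := iterateFrobenius _ p b
    have hσdef : ∀ x, σ x = x ^ p ^ b := fun x => iterateFrobenius_def p b x
    have hσ : ∀ x, σ (σ x) = x := fun x => by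
      rw [hσdef, hσdef, ← pow_mul, ← pow_add, ← two_mul, ← hF, Nat.card_eq_fintype_card]
      exact FiniteField.pow_card x
    have hqb : q ∣ p ^ b + 1 := by
      have h1 : q ∣ (p ^ b + 1) * (p ^ b - 1) := by
        have h2 := (Cfsg.Lib.SchmidtField.dvd_pow_sub_one_iff (2 * b)).2 ha.symm.dvd
        rwa [mul_comm 2 b, pow_mul, show (p ^ b) ^ 2 - 1 = (p ^ b + 1) * (p ^ b - 1) by
          rw [← Nat.sq_sub_sq, one_pow]] at h2
      refine ((Fact.out : q.Prime).dvd_mul.1 h1).resolve_right fun h3 => ?_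
      have h4 := Nat.le_of_dvd hb0 (ha ▸ (Cfsg.Lib.SchmidtField.dvd_pow_sub_one_iff b).1 h3)
      omega
    have hσlam : σ lam * lam = 1 := by
      rw [hσdef, ← pow_succ]
      exact orderOf_dvd_iff_pow_eq_one.1 (hlam ▸ hqb)
    have hlam2 : σ lam ≠ lam := fun h => by
      rw [h, ← sq] at hσlam
      have h2 : q ∣ 2 := hlam ▸ orderOf_dvd_of_pow_eq_one hσlam
      have h3 : q = 2 := ((Nat.prime_dvd_prime_iff_eq Fact.out Nat.prime_two).1 h2)
      subst h3
      have h4 : orderOf (p : ZMod 2) = 1 := by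
        rw [orderOf_eq_one_iff]
        rcases zmod_two_cases (p : ZMod 2) with h5 | h5
        · exact absurd ((Nat.prime_dvd_prime_iff_eq Nat.prime_two Fact.out).1
            ((ZMod.natCast_eq_zero_iff p 2).1 h5)).symm hpq
        · exact h5
      omega
    obtain ⟨G₀, i1, i2, hmin, hcard, huniv⟩ := even_case.{u} p q r hpq hr b ha hF hlam σ hσ hσlam hlam2
    exact ⟨G₀, i1, i2, hmin, by rw [hcard, ha₀]; congr 2; omega, huniv⟩
  · -- odd: the field itself
    rw [if_pos hodd] at ha₀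
    rw [ha₀]
    have hlam0 : lam ≠ 0 := Cfsg.Lib.SchmidtField.ne_zero hlam
    let α : MulAut (Multiplicative (GaloisField p a)) :=
      AddEquiv.toMultiplicative (AddAut.mulLeft (Units.mk0 lam hlam0))
    have hα : ∀ y, Multiplicative.toAdd (α y) = lam * Multiplicative.toAdd y := fun y => rfl
    have hαn : ∀ (j : ℕ) y, Multiplicative.toAdd ((α ^ j) y) = lam ^ j * Multiplicative.toAdd y := by
      intro j
      induction j with
      | zero => intro y; simp
      | succ j ih => intro y; rw [pow_succ', MulAut.mul_apply, hα, ih, pow_succ', mul_assoc]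
    exact assemble.{u} p q r hpq hr a a ha hF hlam (MonoidHom.id _) α Function.surjective_id hα
      (MulEquiv.ext fun y => Multiplicative.toAdd.injective (by
        rw [hαn, hlamq, one_mul]; rfl))
      (by rw [Nat.card_congr Multiplicative.toAdd, hF])
      (fun y hy => by rw [show y = 1 from hy]; exact one_mem _)
      (fun y hy => by rw [show y = 1 from hy]; exact one_mem _)
      (fun y hy => by rw [show y = 1 from hy, map_one])
      (fun {A} _ B hl hr' halt hinv => by
        have hB := Cfsg.Lib.SchmidtField.eq_one_of_odd ha hF hlam B hl hr' hinv hodd halt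
        exact ⟨1, fun y z h => (hB _ _).symm, fun k => ⟨0, (hB _ _).symm⟩⟩)

end Cfsg.Agent.S4395
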