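import Cfsg.Statements.S4396
import Cfsg.Agent.Lib.ModFree.Frobenius

set_option linter.style.haveILetI false

set_option autoImplicit false
open Cfsg

namespace Cfsg.Agent.S4396

open scoped Pointwise

/-- Let the finite group A act faithfully and linearly on a finite-dimensional vector space V over a field k, and suppose A is a Frobenius group with nilpotent kernel F (every Frobenius kernel is nilpotent) and complement H such that F fixes no nonzero vector. Then V is free as a module for H: there is a subspace W with V the direct sum of the translates hW, h ∈ H. (No assumption on the characteristic of k.) -/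
theorem result {k V A : Type*} [Field k] [AddCommGroup V] [Module k V] [FiniteDimensional k V] [Group A] [Finite A] [DecidableEq A]
    (ρ : Representation k A V) (hρ : Function.Injective ρ)
    (Fk Hc : Subgroup A) [Fk.Normal] (hHc : Cfsg.IsFrobeniusComplement Hc) (hker : Cfsg.frobeniusKernel Hc = (Fk : Set A)) (hnil : Group.IsNilpotent ↥Fk)
    (hCF : ∀ v : V, (∀ f ∈ Fk, ρ f v = v) → v = 0) :
    ∃ W : Submodule k V, DirectSum.IsInternal (fun h : ↥Hc => W.map (ρ (h : A))) := by
  classical
  haveI : Fintype ↥Hc := Fintype.ofFinite _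
  haveI := hnil
  let φ : ↥Hc →* MulAut ↥Fk := (MulAut.conjNormal (H := Fk)).comp Hc.subtype
  have hφ : ∀ (h : ↥Hc) (f : ↥Fk), ((φ h f : ↥Fk) : A) = h * f * (h : A)⁻¹ := fun h f => MulAut.conjNormal_apply _ _
  refine (Cfsg.Lib.ModFree.free_of_nilpotent ↥Fk φ ?_ (ρ.comp Fk.subtype) (ρ.comp Hc.subtype) ?_ ?_).isInternal
  · intro h hh f hf
    have hc : (h : A) * f * (h : A)⁻¹ = f := by rw [← hφ, hf]
    have hfH : (f : A) ∈ Hc := by
      by_contra hne
      have hmem : (h : A) ∈ Hc ⊓ (MulAut.conj (f : A) • Hc) := by
        refine Subgroup.mem_inf.mpr ⟨h.2, Subgroup.mem_pointwise_smul_iff_inv_smul_mem.mpr ?_⟩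
        have : (MulAut.conj (f : A))⁻¹ • (h : A) = h := by
          rw [MulAut.smul_def, MulAut.conj_inv_apply]
          have := mul_inv_eq_iff_eq_mul.mp hc
          rw [mul_assoc, this, ← mul_assoc, inv_mul_cancel, one_mul]
        rw [this]
        exact h.2
      rw [hHc.2.2 _ hne, Subgroup.mem_bot] at hmem
      exact hh (Subtype.ext hmem)
    have hfk : (f : A) ∈ Cfsg.frobeniusKernel Hc := hker ▸ f.2
    rcases hfk with h1 | h1
    · exact Subtype.ext h1
    · exact absurd (by rw [map_one, one_smul]; exact hfH) (h1 1)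
  · intro h f v
    show ρ (h : A) (ρ (f : A) v) = ρ ((φ h f : ↥Fk) : A) (ρ (h : A) v)
    rw [hφ, ← Module.End.mul_apply, ← map_mul, ← Module.End.mul_apply, ← map_mul, inv_mul_cancel_right]
  · intro v hv
    exact hCF v fun f hf => hv ⟨f, hf⟩

end Cfsg.Agent.S4396
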