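import Cfsg.Statements.S4398
import Cfsg.Agent.Lib.Fusion.SectionalRankTwo
import Cfsg.Agent.Lib.TwoGroup.MaximalClass

set_option linter.style.haveILetI false

set_option autoImplicit false
open Cfsg

namespace Cfsg.Agent.S4398

open Subgroup

universe u

variable {S : Type u} [Group S] [Finite S]

theorem exists_inverting {H : Subgroup S} (hH : Nat.card H = 8) (hna : ¬ IsMulCommutative H) (a : S)
    [(zpowers a).Normal] [IsCyclic (S ⧸ zpowers a)] :
    4 ∣ orderOf a ∧ ∃ (t : S) (r : ℤ), t ∉ zpowers a ∧ t * t ∈ zpowers a ∧ t * a * t⁻¹ = a ^ r ∧ (4 : ℤ) ∣ r + 1 := by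
  classical
  haveI : Fact (Nat.Prime 2) := ⟨Nat.prime_two⟩
  set f : H →* S ⧸ zpowers a := (QuotientGroup.mk' (zpowers a)).comp H.subtype with hf
  have hker : f.ker = (zpowers a).subgroupOf H := by
    ext x; simp [hf, mem_subgroupOf]
  have hnc : ¬ f.ker ≤ center H := fun hle =>
    hna ⟨⟨fun x y => commutative_of_cyclic_center_quotient f hle x y⟩⟩
  haveI : IsCyclic f.ker := by
    rw [hker]
    exact isCyclic_of_injective
      (({ toFun := fun x => ⟨((x : H) : S), x.2⟩, map_one' := rfl, map_mul' := fun _ _ => rfl } :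
        (zpowers a).subgroupOf H →* zpowers a))
      (fun x y hxy => Subtype.ext (Subtype.ext (congrArg (fun z : zpowers a => (z : S)) hxy)))
  have hcard : Nat.card f.ker = 4 := by
    have hd := f.ker.card_subgroup_dvd_card
    rw [hH] at hd
    obtain ⟨i, hi3, hi⟩ := (Nat.dvd_prime_pow Nat.prime_two).mp (show Nat.card f.ker ∣ 2 ^ 3 from hd)
    rcases i with _ | _ | _ | _ | i
    · refine absurd ?_ hnc
      rw [f.ker.eq_bot_of_card_eq (hi.trans (pow_zero 2))]; exact bot_le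
    · refine absurd (fun x hx => mem_center_iff.mpr fun g => ?_) hnc
      haveI : Nontrivial f.ker := Finite.one_lt_card_iff_nontrivial.mp (by rw [hi]; norm_num)
      by_cases hx1 : x = 1
      · rw [hx1, mul_one, one_mul]
      have hconj : g * x * g⁻¹ ∈ f.ker := (inferInstance : f.ker.Normal).conj_mem x hx g
      obtain ⟨u, hu, huniq⟩ := (Nat.card_eq_two_iff' (1 : f.ker)).mp (hi.trans (pow_one 2))
      have h1 := huniq ⟨x, hx⟩ fun h => hx1 (congrArg Subtype.val h)
      have h2 := huniq ⟨g * x * g⁻¹, hconj⟩ fun h => hx1 (conj_eq_one_iff.mp (congrArg Subtype.val h))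
      exact mul_inv_eq_iff_eq_mul.mp (congrArg Subtype.val (h2.trans h1.symm))
    · exact hi.trans (by norm_num)
    · refine absurd ?_ hna
      have htop : f.ker = ⊤ := eq_top_of_card_eq _ (by rw [hi, hH]; norm_num)
      haveI : IsCyclic H := isCyclic_of_surjective f.ker.subtype (fun x => ⟨⟨x, htop ▸ mem_top x⟩, rfl⟩)
      haveI : CommGroup H := IsCyclic.commGroup
      infer_instance
    · omega
  obtain ⟨⟨h, hhk⟩, hgen⟩ := IsCyclic.exists_generator (α := f.ker)
  have hho : orderOf h = 4 := by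
    have h1 := orderOf_eq_card_of_forall_mem_zpowers hgen
    rwa [hcard, Subgroup.orderOf_mk] at h1
  have hha : (h : S) ∈ zpowers a := by rw [hker, mem_subgroupOf] at hhk; exact hhk
  obtain ⟨k, hk⟩ := mem_zpowers_iff.mp hha
  have h4a : 4 ∣ orderOf a := by
    rw [← hho, ← Subgroup.orderOf_coe h, ← Nat.card_zpowers, ← Nat.card_zpowers]
    exact card_dvd_of_le (zpowers_le.mpr hha)
  refine ⟨h4a, ?_⟩
  obtain ⟨t, ht⟩ : ∃ t : H, t ∉ f.ker := by
    by_contra! hall
    have htop : f.ker = ⊤ := eq_top_iff.mpr fun x _ => hall x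
    rw [htop, card_top, hH] at hcard
    omega
  have hidx : f.ker.index = 2 := by
    have := f.ker.card_mul_index
    rw [hcard, hH] at this; omega
  have htt : (t : S) * t ∈ zpowers a := by
    have := mul_self_mem_of_index_two hidx t
    rw [hker, mem_subgroupOf] at this; exact this
  have htA : (t : S) ∉ zpowers a := fun hc => ht (by rw [hker, mem_subgroupOf]; exact hc)
  obtain ⟨r, hr⟩ := mem_zpowers_iff.mp ((inferInstance : (zpowers a).Normal).conj_mem a (mem_zpowers a) t)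
  refine ⟨t, r, htA, htt, hr.symm, ?_⟩
  have hth : t * h * t⁻¹ = h ^ r := by
    apply Subtype.ext
    push_cast
    rw [← hk, ← conj_zpow, ← hr, ← zpow_mul, ← zpow_mul, mul_comm]
  by_contra hneg
  rcases Int.even_or_odd r with ⟨l, hl⟩ | ⟨l, hl⟩
  · have h1 : (t * h * t⁻¹) ^ 2 = 1 := by
      rw [hth, hl, ← zpow_natCast, ← zpow_mul, ← orderOf_dvd_iff_zpow_eq_one, hho]
      exact ⟨l, by push_cast; ring⟩
    rw [conj_pow, conj_eq_one_iff, ← orderOf_dvd_iff_pow_eq_one, hho] at h1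
    omega
  · have h4 : (4 : ℤ) ∣ r - 1 := by omega
    have hcomm : t * h * t⁻¹ = h := by
      rw [hth]
      conv_rhs => rw [← zpow_one h]
      rw [Cfsg.Lib.TwoGroup.zpow_eq_iff_dvd, hho]
      exact_mod_cast h4
    refine hnc fun x hx => mem_center_iff.mpr fun g => ?_
    obtain ⟨i, hi⟩ := mem_zpowers_iff.mp (hgen ⟨x, hx⟩)
    have hxi : x = h ^ i := by
      have := congrArg Subtype.val hi
      simpa using this.symm
    have hgh : Commute g h := by
      have hth' : Commute t h := mul_inv_eq_iff_eq_mul.mp hcomm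
      have hmem : ∀ y : H, y ∈ f.ker → Commute y h := fun y hy => by
        obtain ⟨j, hj⟩ := mem_zpowers_iff.mp (hgen ⟨y, hy⟩)
        have := congrArg Subtype.val hj
        simp only [Subgroup.coe_zpow] at this
        rw [← this]; exact (Commute.refl h).zpow_left j
      by_cases hg : g ∈ f.ker
      · exact hmem g hg
      · have hgt : g * t⁻¹ ∈ f.ker := (mul_mem_iff_of_index_two hidx).mpr (by
          simp only [inv_mem_iff, hg, ht])
        have := (hmem _ hgt).mul_left hth'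
        rwa [inv_mul_cancel_right] at this
    rw [hxi]; exact (hgh.zpow_right i).eq

theorem exists_cyclic_index_two (h2 : IsPGroup 2 S) {H : Subgroup S} (hH : Nat.card H = 8)
    (hna : ¬ IsMulCommutative H) (hM : Cfsg.IsMetacyclic S) :
    ∃ C : Subgroup S, IsCyclic C ∧ C.index = 2 := by
  haveI : Fact (Nat.Prime 2) := ⟨Nat.prime_two⟩
  obtain ⟨A, hAn, hAc, hQc⟩ := hM
  obtain ⟨a, rfl⟩ := (Subgroup.isCyclic_iff_exists_zpowers_eq_top A).mp hAc
  haveI := hQc
  obtain ⟨h4a, t, r, htA, htt, hr, h4r⟩ := exists_inverting hH hna a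
  refine ⟨zpowers a, hAc, ?_⟩
  set q : S ⧸ zpowers a := QuotientGroup.mk t with hq
  have hq1 : q ≠ 1 := fun h => htA ((QuotientGroup.eq_one_iff t).mp h)
  have hq2 : q ^ 2 = 1 := by
    rw [sq, hq, ← QuotientGroup.mk_mul]; exact (QuotientGroup.eq_one_iff _).mpr htt
  obtain ⟨g, hg⟩ := hQc.exists_generator
  obtain ⟨j, hj⟩ := mem_zpowers_iff.mp (hg q)
  have hjodd : Odd j := by
    by_contra hne
    obtain ⟨l, hl⟩ := Int.not_odd_iff_even.mp hne
    obtain ⟨u, hu⟩ := QuotientGroup.mk_surjective (g ^ l)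
    have hmem : (u * u)⁻¹ * t ∈ zpowers a := QuotientGroup.eq.mp (by
      rw [QuotientGroup.mk_mul, hu, ← zpow_add, ← hl, hj])
    obtain ⟨i, hi⟩ := mem_zpowers_iff.mp hmem
    obtain ⟨s, hs⟩ := mem_zpowers_iff.mp (hAn.conj_mem a (mem_zpowers a) u)
    have hta : t = u * u * a ^ i := by rw [hi, mul_inv_cancel_left]
    have hss : t * a * t⁻¹ = a ^ (s * s) := by
      rw [hta, zpow_mul, hs, conj_zpow, hs]; group
    rw [hr, Cfsg.Lib.TwoGroup.zpow_eq_iff_dvd] at hss
    have h4 : (4 : ℤ) ∣ r - s * s := (Int.natCast_dvd_natCast.mpr h4a).trans hss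
    rcases Int.even_or_odd s with ⟨w, rfl⟩ | ⟨w, rfl⟩
    · rw [show r - (w + w) * (w + w) = r + 1 - (4 * (w * w) + 1) by ring] at h4
      omega
    · rw [show r - (2 * w + 1) * (2 * w + 1) = r + 1 - (4 * (w * w + w) + 2) by ring] at h4
      omega
  have hgtop : zpowers q = ⊤ := by
    obtain ⟨e, he⟩ := (h2.to_quotient (zpowers a)) g
    have hgq : g ∈ zpowers q := by
      obtain ⟨l, hl⟩ := hjodd
      have hco : IsCoprime j ((2 : ℤ) ^ e) := IsCoprime.pow_right ⟨1, -l, by rw [hl]; ring⟩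
      obtain ⟨x, y, hxy⟩ := hco
      refine mem_zpowers_iff.mpr ⟨x, ?_⟩
      rw [← hj, ← zpow_mul]
      conv_rhs => rw [← zpow_one g, ← hxy]
      rw [zpow_add, mul_comm j x, mul_comm y, zpow_mul _ ((2 : ℤ) ^ e),
        show ((2 : ℤ) ^ e) = ((2 ^ e : ℕ) : ℤ) by push_cast; ring, zpow_natCast, he, one_zpow, mul_one]
    exact eq_top_iff.mpr fun x _ => zpowers_le.mpr hgq (hg x)
  rw [Subgroup.index_eq_card, ← Subgroup.card_top, ← hgtop, Nat.card_zpowers]
  exact orderOf_eq_prime hq2 hq1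

/-- Let S be a finite 2-group of sectional 2-rank at most 2 that contains a subgroup isomorphic to the dihedral group of order 8 or to the quaternion group of order 8. Then S is dihedral of order at least 8, semidihedral of order at least 16 (order 2^(k+4) with an element a of order 2^(k+3) and an involution b with b a b⁻¹ = a^(2^(k+2)−1)), or generalized quaternion of order at least 8. -/
theorem result {S : Type*} [Group S] [Finite S] (h2 : IsPGroup 2 S) (hr : Cfsg.SectionalPRankLE 2 2 S)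
    (hsub : ∃ H : Subgroup S, Nonempty (↥H ≃* DihedralGroup 4) ∨ Nonempty (↥H ≃* QuaternionGroup 2)) :
    ((∃ k : ℕ, Nonempty (S ≃* DihedralGroup (2 ^ (k + 2)))) ∨
      (∃ k : ℕ, Nat.card S = 2 ^ (k + 4) ∧ ∃ a b : S, orderOf a = 2 ^ (k + 3) ∧ orderOf b = 2 ∧ b * a * b⁻¹ = a ^ (2 ^ (k + 2) - 1)) ∨
      (∃ k : ℕ, Nonempty (S ≃* QuaternionGroup (2 ^ (k + 1))))) := by
  classical
  haveI : Fact (Nat.Prime 2) := ⟨Nat.prime_two⟩
  obtain ⟨H, hH⟩ := hsub
  have hH8 : Nat.card H = 8 := by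
    rcases hH with ⟨⟨e⟩⟩ | ⟨⟨e⟩⟩
    · rw [Nat.card_congr e.toEquiv, DihedralGroup.nat_card]
    · rw [Nat.card_congr e.toEquiv, Cfsg.Lib.TwoGroup.card_quaternion two_ne_zero]
  have hna : ¬ IsMulCommutative H := fun hc => by
    rcases hH with ⟨⟨e⟩⟩ | ⟨⟨e⟩⟩
    · have := congrArg e (hc.is_comm.comm (e.symm (DihedralGroup.r 1)) (e.symm (DihedralGroup.sr 0)))
      simp only [map_mul, MulEquiv.apply_symm_apply] at this
      revert this; decide
    · have := congrArg e (hc.is_comm.comm (e.symm (QuaternionGroup.a 1)) (e.symm (QuaternionGroup.xa 0)))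
      simp only [map_mul, MulEquiv.apply_symm_apply] at this
      revert this; decide
  have hnaS : ¬ IsMulCommutative S := fun hc => hna ⟨⟨fun x y => Subtype.ext (hc.is_comm.comm x.1 y.1)⟩⟩
  obtain ⟨C, hC, hCi⟩ := exists_cyclic_index_two h2 hH8 hna (Cfsg.Lib.Fusion.RankTwo.isMetacyclic _ S rfl h2 hr)
  obtain ⟨n, hn⟩ := IsPGroup.iff_card.mp h2
  have h3 : 3 ≤ n := by
    have := H.card_subgroup_dvd_card
    rw [hH8, hn] at this
    exact (Nat.pow_dvd_pow_iff_le_right (by norm_num : 1 < 2)).mp (show 2 ^ 3 ∣ 2 ^ n from this)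
  obtain ⟨a, b, ha, hb, hcases⟩ := Cfsg.Lib.TwoGroup.MaximalClass.exists_generators h3 hn C hC hCi hnaS
  have hai : (zpowers a).index = 2 := by
    have h := (zpowers a).card_mul_index
    rw [Nat.card_zpowers, ha, hn] at h
    have h2n : 2 ^ n = 2 ^ (n - 1) * 2 := by rw [← pow_succ]; congr 1; omega
    rw [h2n] at h
    exact Nat.eq_of_mul_eq_mul_left (pow_pos Nat.two_pos _) h
  have htop : closure ({a, b} : Set S) = ⊤ := by
    rw [eq_top_iff, ← Cfsg.Lib.PGroup.sup_zpowers_eq_top_of_index (p := 2) hai hb, sup_le_iff, zpowers_le, zpowers_le]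
    exact ⟨Cfsg.Lib.TwoGroup.mem_closure_left _ _, Cfsg.Lib.TwoGroup.mem_closure_right _ _⟩
  let eS : S ≃* closure ({a, b} : Set S) := ((MulEquiv.subgroupCongr htop).trans Subgroup.topEquiv).symm
  rcases hcases with ⟨hb2, hinv⟩ | ⟨hb2, hinv⟩ | ⟨h4, hb2, hmod⟩ | ⟨h4, hb2, hsd⟩
  · left
    obtain ⟨k, rfl⟩ : ∃ k, n = k + 3 := ⟨n - 3, by omega⟩
    obtain ⟨e⟩ := Cfsg.Lib.TwoGroup.equiv_dihedral (by rw [← sq]; exact hb2) hinv hb
    rw [ha] at e
    exact ⟨k, ⟨eS.trans e⟩⟩
  · right; right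
    obtain ⟨k, rfl⟩ : ∃ k, n = k + 3 := ⟨n - 3, by omega⟩
    obtain ⟨e⟩ := Cfsg.Lib.TwoGroup.equiv_quaternion (a := a) (b := b) (m := 2 ^ (k + 1))
      (by rw [ha, ← pow_succ']; rfl) (by rw [← sq]; exact hb2) hinv hb
    exact ⟨k, ⟨eS.trans e⟩⟩
  · exfalso
    haveI : (zpowers a).Normal := normal_of_index_eq_two hai
    haveI : IsCyclic (S ⧸ zpowers a) := isCyclic_of_prime_card (p := 2) (by rw [← Subgroup.index_eq_card, hai])
    obtain ⟨h4a, t, r, htA, -, hr', h4r⟩ := exists_inverting hH8 hna a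
    have hmem : b⁻¹ * t ∈ zpowers a := (mul_mem_iff_of_index_two hai).mpr (by
      simp only [inv_mem_iff, hb, htA])
    obtain ⟨i, hi⟩ := mem_zpowers_iff.mp hmem
    have hta : t = b * a ^ i := by rw [hi, mul_inv_cancel_left]
    have h5 : t * a * t⁻¹ = a ^ ((1 + 2 ^ (n - 2) : ℕ) : ℤ) := by
      rw [zpow_natCast, ← hmod, hta]; group
    rw [hr', Cfsg.Lib.TwoGroup.zpow_eq_iff_dvd] at h5
    have h6 : (4 : ℤ) ∣ r - ((1 + 2 ^ (n - 2) : ℕ) : ℤ) := (Int.natCast_dvd_natCast.mpr h4a).trans h5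
    have h7 : (4 : ℕ) ∣ 2 ^ (n - 2) := pow_dvd_pow 2 (show 2 ≤ n - 2 by omega)
    omega
  · right; left
    obtain ⟨k, rfl⟩ : ∃ k, n = k + 4 := ⟨n - 4, by omega⟩
    refine ⟨k, hn, a, b, ha, orderOf_eq_prime hb2 fun h => hb (h ▸ one_mem _), ?_⟩
    exact hsd

end Cfsg.Agent.S4398
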