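import Cfsg.Statements.S4402
import Cfsg.Agent.Lib.TwoGrp.D8WreathExtension
-- import your own Cfsg.Agent.* helpers here

set_option autoImplicit false
open Cfsg

namespace Cfsg.Agent.S4402

open Cfsg.Lib.TwoGrp.D8W

universe u

variable {S : Type u} [Group S] [Finite S] {P : Subgroup S} {c : P → Nat} (hc : Coding c) {a b t : P}
  (hg : Gens c a b t)

include hc hg in
theorem range_iso (hr : Cfsg.SectionalPRankLE 2 4 S) {i : Nat} {l : List (Nat × Bool)}
    (hl : isoOk (rep i) l = true) (hi : Has P c a b t (rep i))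
    (hAll : ∀ φ ∈ (conjN' P).range, ∃ g < 128, ∃ d : Bool, trip c a b t φ = isoT (rep i) (g, d)) :
    Nonempty (P ≃* (conjN' P).range) := by
  classical
  simp only [isoOk, Bool.and_eq_true, beq_iff_eq, List.all_eq_true, List.any_eq_true,
    decide_eq_true_eq, teq_iff, List.mem_range] at hl
  obtain ⟨⟨⟨⟨hlen, hlt⟩, hnd⟩, hcov⟩, hhom⟩ := hl
  set A := (conjN' P).range
  have hex : ∀ x : P, ∃ φ : A, trip c a b t φ.1 = isoT (rep i) (l.getD (c x) (0, false)) := fun x => by
    have hx : c x < l.length := hlen.symm ▸ hc.lt x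
    rw [List.getD_eq_getElem l _ hx]
    obtain ⟨φ, hφ, he⟩ := has_isoT hc hg hi (hlt _ (List.getElem_mem hx))
    exact ⟨⟨φ, hφ⟩, he⟩
  choose F hF using hex
  have heq : ∀ φ ψ : A, trip c a b t φ.1 = trip c a b t ψ.1 → φ = ψ :=
    fun φ ψ h => Subtype.ext (trip_injective hc hg h)
  have hgen : ∀ y : P, c y ∈ [1, 4, 64] → ∀ x, F (x * y) = F x * F y := fun y hy x => heq _ _ (by
    rw [Subgroup.coe_mul, trip_mul hc hg, hF, hF, hF, hc.mul]
    exact (hhom _ (hc.lt x) _ hy).symm)
  let Q : P → Prop := fun y => ∀ x, F (x * y) = F x * F y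
  have hmul : ∀ y z, Q y → Q z → Q (y * z) := fun y z hy hz x => by
    rw [← mul_assoc, hz, hy, hz, mul_assoc]
  have hQa : Q a := hgen a (by simp [hg.ca])
  have hQb : Q b := hgen b (by simp [hg.cb])
  have hQt : Q t := hgen t (by simp [hg.ct])
  have haa : a * a * (a * a) = 1 := hc.inj (by simp only [hc.mul, hg.ca, hc.one]; decide)
  have hQ1 : Q 1 := haa ▸ hmul _ _ (hmul _ _ hQa hQa) (hmul _ _ hQa hQa)
  have hpow : ∀ y, Q y → ∀ k : ℕ, Q (y ^ k) := fun y hy k => by
    induction k with
    | zero => rw [pow_zero]; exact hQ1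
    | succ k ih => rw [pow_succ]; exact hmul _ _ ih hy
  have hQ : ∀ y, Q y := by
    intro y
    set n := c y with hn
    have hy : y = a ^ (n % 4) * b ^ (n / 4 % 2) * t * a ^ (n / 8 % 4) *
        b ^ (n / 32 % 2) * t * t ^ (n / 64 % 2) := by
      refine hc.inj ?_
      simp only [hc.mul]
      rw [hc.pow _ (by omega : n % 4 < 4), hc.pow _ (by omega : n / 4 % 2 < 4),
        hc.pow _ (by omega : n / 8 % 4 < 4), hc.pow _ (by omega : n / 32 % 2 < 4),
        hc.pow _ (by omega : n / 64 % 2 < 4), hg.ca, hg.cb, hg.ct]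
      exact (beq_iff_eq.1 (of_range word_chk (hc.lt y))).symm
    rw [hy]
    exact hmul _ _ (hmul _ _ (hmul _ _ (hmul _ _ (hmul _ _ (hmul _ _ (hpow _ hQa _) (hpow _ hQb _))
      hQt) (hpow _ hQa _)) (hpow _ hQb _)) hQt) (hpow _ hQt _)
  have hinj : Function.Injective F := fun x y h => hc.inj (by
    have h' : isoT (rep i) (l.getD (c x) (0, false)) = isoT (rep i) (l.getD (c y) (0, false)) := by
      rw [← hF, ← hF, h]
    have hx : c x < l.length := hlen.symm ▸ hc.lt x
    have hy : c y < l.length := hlen.symm ▸ hc.lt y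
    rw [List.getD_eq_getElem l _ hx, List.getD_eq_getElem l _ hy] at h'
    have := (hnd.getElem_inj_iff (i := c x) (j := c y) (hi := by rw [List.length_map]; exact hx)
      (hj := by rw [List.length_map]; exact hy)).1 (by rw [List.getElem_map, List.getElem_map]; exact h')
    exact this)
  have hsurj : Function.Surjective F := by
    rintro ⟨φ, hφ⟩
    obtain ⟨g, hg', d, he⟩ := hAll φ hφ
    obtain ⟨m, hm, hme⟩ := hcov g hg' d (by cases d <;> simp)
    obtain ⟨e, he', rfl⟩ := List.mem_map.1 hm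
    obtain ⟨k, hk, hke⟩ := List.getElem_of_mem he'
    obtain ⟨x, hx⟩ := hc.surj k (hlen ▸ hk)
    refine ⟨x, heq _ _ ?_⟩
    rw [hF, hx, List.getD_eq_getElem l _ hk, hke, hme, he]
  exact ⟨MulEquiv.ofBijective (MonoidHom.mk' F fun x y => hQ y x) ⟨hinj, hsurj⟩⟩

/-- Let S be a finite 2-group of sectional 2-rank at most 4 and P a proper subgroup isomorphic to the wreath product of the dihedral group of order 8 by a group of order 2 (equivalently, to a Sylow 2-subgroup of the symmetric group of degree 8; order 128). Then Z(S) = Z(P) has order 2, P has index 2 in its normalizer N_S(P), N_S(P)/Z(S) is again isomorphic to that wreath product, and every elementary abelian subgroup V of order 16 that is normal in P satisfies N_S(V) = P. -/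
theorem result {S : Type*} [Group S] [Finite S] (h2 : IsPGroup 2 S) (hr : Cfsg.SectionalPRankLE 2 4 S)
    (P : Subgroup S) (hPlt : P ≠ ⊤) (hP : ∃ T : Sylow 2 (Equiv.Perm (Fin 8)), Nonempty (↥P ≃* ↥(T : Subgroup (Equiv.Perm (Fin 8))))) :
    Subgroup.center S = (Subgroup.center ↥P).map P.subtype ∧ Nat.card ↥(Subgroup.center S) = 2 ∧
    P.relIndex (Subgroup.normalizer (P : Set S)) = 2 ∧
    (∃ (_ : ((Subgroup.center S).subgroupOf (Subgroup.normalizer (P : Set S))).Normal) (T : Sylow 2 (Equiv.Perm (Fin 8))),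
      Nonempty (↥(Subgroup.normalizer (P : Set S)) ⧸ (Subgroup.center S).subgroupOf (Subgroup.normalizer (P : Set S)) ≃*
        ↥(T : Subgroup (Equiv.Perm (Fin 8))))) ∧
    ∀ V : Subgroup S, V ≤ P → (∀ g ∈ P, ∀ v ∈ V, g * v * g⁻¹ ∈ V) → Cfsg.IsElementaryAbelian 2 V → Nat.card ↥V = 16 →
      Subgroup.normalizer (V : Set S) = P := by
  classical
  obtain ⟨T₀, ⟨e₀⟩⟩ := hP
  obtain ⟨c, hc⟩ := exists_coding T₀ e₀
  haveI := hc.finite
  obtain ⟨a, ha⟩ := hc.surj 1 (by omega)
  obtain ⟨b, hb⟩ := hc.surj 4 (by omega)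
  obtain ⟨t, ht⟩ := hc.surj 64 (by omega)
  have hg : Gens c a b t := ⟨ha, hb, ht⟩
  have hC := centralizer_eq hc hg hr h2
  have hZ2 := card_centerIn hc hg
  -- the centre
  have hZle : Subgroup.center S ≤ centerIn P := by
    rw [← hC]
    exact Subgroup.center_le_centralizer _
  have hZeq : Subgroup.center S = centerIn P := by
    refine Subgroup.eq_of_le_of_card_ge hZle ?_
    haveI : Nontrivial S := by
      by_contra h
      rw [not_nontrivial_iff_subsingleton] at h
      exact hPlt (Subsingleton.elim _ _)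
    haveI : Fact (Nat.Prime 2) := ⟨Nat.prime_two⟩
    haveI := h2.center_nontrivial
    rw [hZ2]
    exact Finite.one_lt_card
  refine ⟨hZeq, hZeq ▸ hZ2, ?_⟩
  set f := conjN' P with hf
  set A := f.range with hA
  -- exactly one good class occurs
  obtain ⟨g₀, -, hg₀⟩ := exists_outside hc hg h2 (lt_top_iff_ne_top.2 hPlt)
  have hni := not_inner_of_notMem hc hg hr h2 hg₀
  obtain ⟨i, hi, hHas, n₀, hn₀, htr₀⟩ : ∃ i ∈ [1, 3], Has P c a b t (rep i) ∧
      ∃ n < 128, trip c a b t (f g₀) = comp (innN n) (rep i) :=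
    (class_cases hc hg hr (φ := f g₀) ⟨g₀, rfl⟩).resolve_left fun ⟨h, hh⟩ => hni h hh
  have hcyc := cyc_chk
  simp only [Bool.and_eq_true, teq_iff] at hcyc
  have huniq : ∀ j ∈ [1, 3], Has P c a b t (rep j) → j = i := by
    intro j hj hHj
    have h13 : ¬ (Has P c a b t (rep 1) ∧ Has P c a b t (rep 3)) := fun h =>
      not_has_two hc hg hr (hcyc.2 ▸ (has_inn hc hg (by omega)).comp' hc hg (h.1.comp' hc hg h.2))
    simp only [List.mem_cons, List.not_mem_nil, or_false] at hi hj
    rcases hi with rfl | rfl <;> rcases hj with rfl | rfl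
    · rfl
    · exact absurd ⟨hHas, hHj⟩ h13
    · exact absurd ⟨hHj, hHas⟩ h13
    · rfl
  have hAll : ∀ φ ∈ A, ∃ g < 128, ∃ d : Bool, trip c a b t φ = isoT (rep i) (g, d) := by
    intro φ hφ
    rcases class_cases hc hg hr hφ with ⟨h, rfl⟩ | ⟨j, hj, hHj, n, hn, he⟩
    · refine ⟨c h, hc.lt h, false, ?_⟩
      show trip c a b t (MulAut.conj h) = comp (innN (c h)) oneT
      rw [← trip_conj hc hg, ← trip_one hc hg, ← trip_mul hc hg, mul_one]
    · obtain rfl := huniq j hj hHj
      exact ⟨n, hn, true, he⟩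
  obtain ⟨F⟩ : Nonempty (P ≃* A) := by
    simp only [List.mem_cons, List.not_mem_nil, or_false] at hi
    rcases hi with rfl | rfl
    · exact range_iso hc hg hr iso1_chk hHas hAll
    · exact range_iso hc hg hr iso3_chk hHas hAll
  have hker : f.ker = (Subgroup.center S).subgroupOf (Subgroup.normalizer (P : Set S)) := by
    ext g
    rw [mem_ker_conjN', hC, Subgroup.mem_subgroupOf, hZeq]
  have hZN : Subgroup.center S ≤ Subgroup.normalizer (P : Set S) :=
    hZeq ▸ (Subgroup.map_subtype_le _).trans Subgroup.le_normalizer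
  refine ⟨?_, ?_, ?_⟩
  · -- the index
    have h1 := f.ker.card_mul_index
    rw [Subgroup.index_ker, hker, Nat.card_congr (Subgroup.subgroupOfEquivOfLe hZN).toEquiv, hZeq,
      hZ2, ← Nat.card_congr F.toEquiv, hc.card] at h1
    have h3 := (P.subgroupOf (Subgroup.normalizer (P : Set S))).card_mul_index
    rw [Nat.card_congr (Subgroup.subgroupOfEquivOfLe Subgroup.le_normalizer).toEquiv, hc.card,
      ← h1] at h3
    show (P.subgroupOf (Subgroup.normalizer (P : Set S))).index = 2
    omega
  · -- the quotient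
    haveI hnorm : ((Subgroup.center S).subgroupOf (Subgroup.normalizer (P : Set S))).Normal :=
      hker ▸ inferInstance
    exact ⟨hnorm, T₀, ⟨((QuotientGroup.quotientMulEquivOfEq hker.symm).trans
      (QuotientGroup.quotientKerEquivRange f)).trans (F.symm.trans e₀)⟩⟩
  · -- normal elementary abelian subgroups of order 16
    intro V hVP hVn hVel hV16
    refine le_antisymm ?_ (fun g hg' => Subgroup.mem_normalizer_iff.2 fun v =>
      ⟨fun hv => hVn g hg' v hv, fun hv => by
        have := hVn g⁻¹ (inv_mem hg') _ hv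
        simpa [mul_assoc] using this⟩)
    by_contra hnle
    set M := Subgroup.normalizer (V : Set S) with hM
    have hPM : P ≤ M := fun g hg' => Subgroup.mem_normalizer_iff.2 fun v =>
      ⟨fun hv => hVn g hg' v hv, fun hv => by
        have := hVn g⁻¹ (inv_mem hg') _ hv
        simpa [mul_assoc] using this⟩
    obtain ⟨g, hgM, hgP⟩ := exists_outside hc hg h2 (lt_of_le_not_ge hPM hnle)
    have hni' := not_inner_of_notMem hc hg hr h2 hgP
    obtain ⟨j, hj, -, n, hn, htr⟩ : ∃ j ∈ [1, 3], Has P c a b t (rep j) ∧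
        ∃ n < 128, trip c a b t (f g) = comp (innN n) (rep j) :=
      (class_cases hc hg hr (φ := f g) ⟨g, rfl⟩).resolve_left fun ⟨h, hh⟩ => hni' h hh
    -- the codes of `V`
    have hcomm : ∀ u v : P, (u : S) ∈ V → (v : S) ∈ V → u * v = v * u := fun u v hu hv =>
      Subtype.ext (by
        have := hVel.1.1.1 ⟨_, hu⟩ ⟨_, hv⟩
        exact congrArg (fun w : V => (w : S)) this)
    have hconj : ∀ u : P, (u : S) ∈ V → ∀ x : P, ((x * u * x⁻¹ : P) : S) ∈ V :=
      fun u hu x => hVn x x.2 _ hu
    have hsq : ∀ u : P, (u : S) ∈ V → mulN (c u) (c u) = 0 := fun u hu => by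
      rw [← hc.mul, ← hc.one]
      exact congrArg c (Subtype.ext (by
        have := hVel.2 _ hu
        rwa [pow_two] at this))
    have hnocl : ∀ u v : P, (u : S) ∈ V → (v : S) ∈ V → ¬ ∃ g < 128,
        mulN (c v) (conjN g (c u)) ≠ mulN (conjN g (c u)) (c v) := by
      rintro u v hu hv ⟨g, hg', hne⟩
      obtain ⟨x, rfl⟩ := hc.surj g hg'
      exact hne (by rw [← hc.conj, ← hc.mul, ← hc.mul, hcomm v _ hv (hconj u hu x)])
    have hmem : ∀ u : P, (u : S) ∈ V → c u ∈ four0 ∨ c u ∈ four1 := by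
      intro u hu
      have h := of_range four_chk (hc.lt u)
      simp only [Bool.or_eq_true, Bool.not_eq_true', beq_eq_false_iff_ne, List.any_eq_true,
        List.mem_range, List.contains_iff_mem] at h
      rcases h with h | h | ⟨g, hg', hne⟩
      · exact absurd (hsq u hu) h
      · exact h
      · exact absurd ⟨g, hg', hne⟩ (hnocl u u hu hu)
    have hside : (∀ u : P, (u : S) ∈ V → c u ∈ four0) ∨ ∀ u : P, (u : S) ∈ V → c u ∈ four1 := by
      by_contra hcon
      push Not at hcon
      obtain ⟨⟨v, hv, hv0⟩, u, hu, hu1⟩ := hcon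
      have h := four_sep_chk
      simp only [List.all_eq_true, Bool.or_eq_true, List.contains_iff_mem, Bool.not_eq_true',
        beq_eq_false_iff_ne, List.any_eq_true, List.mem_range] at h
      rcases (h _ ((hmem u hu).resolve_right hu1)) with h | h
      · exact hu1 h
      rcases h _ ((hmem v hv).resolve_left hv0) with h | ⟨g, hg', hne⟩
      · exact hv0 h
      · exact hnocl u v hu hv ⟨g, hg', hne⟩
    have hCeq : ∀ L : List Nat, L.toFinset.card = 16 → (∀ u : P, (u : S) ∈ V → c u ∈ L) →
        ∀ m ∈ L, ∃ u : P, (u : S) ∈ V ∧ c u = m := by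
      intro L hL hsub m hm
      let G₀ : V → {m // m ∈ L.toFinset} := fun v =>
        ⟨c ⟨v, hVP v.2⟩, List.mem_toFinset.2 (hsub _ v.2)⟩
      have hinj : Function.Injective G₀ := fun v w h => Subtype.ext (by
        have := hc.inj (congrArg Subtype.val h)
        exact congrArg (fun w : P => (w : S)) this)
      have hbij : Function.Bijective G₀ := (Nat.bijective_iff_injective_and_card _).2
        ⟨hinj, by rw [hV16, Nat.card_eq_fintype_card, Fintype.card_coe, hL]⟩
      obtain ⟨v, hv⟩ := hbij.2 ⟨m, List.mem_toFinset.2 hm⟩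
      exact ⟨_, v.2, congrArg Subtype.val hv⟩
    -- `g` moves `V`
    have hmove := four_move_chk
    simp only [List.all_eq_true, Bool.and_eq_true, List.any_eq_true, List.mem_range,
      Bool.not_eq_true', ← Bool.not_eq_true, List.contains_iff_mem] at hmove
    have hjr : rep j ∈ [rep 1, rep 3] := by
      simp only [List.mem_cons, List.not_mem_nil, or_false] at hj ⊢
      rcases hj with rfl | rfl <;> simp
    have hfin : ∀ L : List Nat, L.toFinset.card = 16 → (∀ u : P, (u : S) ∈ V → c u ∈ L) →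
        (∃ m ∈ L, ap (comp (innN n) (rep j)) m ∉ L) → False := by
      rintro L hL hsub ⟨m, hm, hmv⟩
      obtain ⟨u, hu, rfl⟩ := hCeq L hL hsub m hm
      rw [← htr, ← code_apply hc hg] at hmv
      refine hmv (hsub _ ?_)
      rw [conjN'_apply]
      exact (Subgroup.mem_normalizer_iff.1 hgM _).1 hu
    obtain ⟨hm0, hm1⟩ := hmove _ hjr n hn
    rcases hside with h | h
    · exact hfin four0 (by decide) h hm0
    · exact hfin four1 (by decide) h hm1

end Cfsg.Agent.S4402
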