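import Cfsg.Statements.S4403
import Cfsg.Agent.Lib.Core.Layer
import Cfsg.Agent.Lib.Local.Sylow
import Cfsg.Agent.Lib.Core.PSolvable
import Cfsg.Agent.Lib.Core.Cores
import Cfsg.Agent.Lib.Core.Fitting
import Cfsg.Agent.Lib.Fusion.Abelian
import Cfsg.Agent.Lib.Fusion.Basic

set_option autoImplicit false
open Cfsg

namespace Cfsg.Agent.S4403

open Subgroup

variable {K : Type*} [Group K]

theorem fixes_of_congr_one {p o k : ℕ} (hp : p.Prime) {g x : K} {r : ℤ} (hr : g * x * g⁻¹ = x ^ r)
    (hr1 : (p : ℤ) ∣ r - 1) (hgo : g ^ o = 1) (ho : ¬ p ∣ o) (hx : x ^ p ^ k = 1) : g * x * g⁻¹ = x := by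
  have hit : ∀ i : ℕ, g ^ i * x * (g ^ i)⁻¹ = x ^ (r ^ i) := fun i => by
    induction i with
    | zero => simp
    | succ i ih =>
      calc g ^ (i + 1) * x * (g ^ (i + 1))⁻¹ = g ^ i * (g * x * g⁻¹) * (g ^ i)⁻¹ := by rw [pow_succ]; group
        _ = (g ^ i * x * (g ^ i)⁻¹) ^ r := by rw [hr, conj_zpow]
        _ = _ := by rw [ih, ← zpow_mul, pow_succ]
  have h1 := hit o
  rw [hgo, one_mul, inv_one, mul_one] at h1
  have h2 : (orderOf x : ℤ) ∣ r ^ o - 1 := by
    rw [← Int.modEq_iff_dvd, ← zpow_eq_zpow_iff_modEq, zpow_one]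
    exact h1
  obtain ⟨i, -, hi⟩ := (Nat.dvd_prime_pow hp).1 (orderOf_dvd_of_pow_eq_one hx)
  have h3 : IsCoprime ((p : ℤ) ^ i) (∑ j ∈ Finset.range o, r ^ j) := by
    refine IsCoprime.pow_left (((Nat.prime_iff_prime_int.1 hp).coprime_iff_not_dvd).2 fun h => ?_)
    have h5 : ((∑ j ∈ Finset.range o, r ^ j : ℤ) : ZMod p) = 0 :=
      (ZMod.intCast_zmod_eq_zero_iff_dvd _ _).2 h
    have h6 : (r : ZMod p) = 1 := by
      have h7 := (ZMod.intCast_zmod_eq_zero_iff_dvd (r - 1) p).2 hr1
      push_cast at h7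
      exact sub_eq_zero.1 h7
    push_cast at h5
    rw [h6] at h5
    simp only [one_pow, Finset.sum_const, Finset.card_range, nsmul_eq_mul, mul_one] at h5
    exact ho ((ZMod.natCast_eq_zero_iff o p).1 h5)
  rw [hi] at h2
  push_cast at h2
  rw [← geom_sum_mul r o] at h2
  rw [hr]
  conv_rhs => rw [← zpow_one x]
  rw [zpow_eq_zpow_iff_modEq, hi]
  push_cast
  exact (Int.modEq_iff_dvd.2 (h3.dvd_of_dvd_mul_left h2)).symm

variable [Finite K]

theorem mem_sylow_of_normalizes {p : ℕ} [Fact p.Prime] (P : Sylow p K) {u : K}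
    (hu : u ∈ normalizer ((P : Subgroup K) : Set K)) {k : ℕ} (hk : u ^ p ^ k = 1) : u ∈ (P : Subgroup K) := by
  have hz : IsPGroup p (zpowers u) := by
    obtain ⟨i, -, hi⟩ := (Nat.dvd_prime_pow (Fact.out : p.Prime)).1 (orderOf_dvd_of_pow_eq_one hk)
    exact IsPGroup.of_card (n := i) (by rw [Nat.card_zpowers, hi])
  have h := (hz.to_sup_of_normal_right' P.2 (zpowers_le.2 hu))
  exact (P.3 h le_sup_right).le (mem_sup_left (mem_zpowers u))

/-- A normalizing element which fixes the subgroup of order `p` centralizes a cyclic Sylow subgroup. -/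
theorem commutes_of_fix_omega {p : ℕ} [Fact p.Prime] (P : Sylow p K) (hc : IsCyclic (P : Subgroup K))
    {n : K} (hn : n ∈ normalizer ((P : Subgroup K) : Set K)) {w : K} (hw : w ∈ (P : Subgroup K))
    (hwo : orderOf w = p) (hfix : n * w = w * n) : n ∈ centralizer ((P : Subgroup K) : Set K) := by
  have hp := (Fact.out : p.Prime)
  obtain ⟨x, hx⟩ := (Subgroup.isCyclic_iff_exists_zpowers_eq_top _).1 hc
  have hxP : x ∈ (P : Subgroup K) := hx ▸ mem_zpowers x
  obtain ⟨k, hk⟩ := P.2 ⟨x, hxP⟩
  have hxk : x ^ p ^ k = 1 := congrArg Subtype.val hk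
  obtain ⟨a, c, hc', hnc⟩ := Nat.exists_eq_pow_mul_and_not_dvd (orderOf_pos n).ne' p hp.ne_one
  have hcomm : ∀ u : K, u ∈ (P : Subgroup K) → u * x = x * u := fun u hu => by
    rw [← hx] at hu
    obtain ⟨i, rfl⟩ := mem_zpowers_iff.1 hu
    exact ((Commute.refl x).zpow_left i).eq
  have hu : n ^ c ∈ (P : Subgroup K) := mem_sylow_of_normalizes P (pow_mem hn c) (k := a) (by
    rw [← pow_mul, mul_comm, ← hnc, pow_orderOf_eq_one])
  have hv : Commute (n ^ p ^ a) x := by
    set v := n ^ p ^ a
    have hvN : v ∈ normalizer ((P : Subgroup K) : Set K) := pow_mem hn _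
    obtain ⟨r, hr⟩ := mem_zpowers_iff.1 (hx.symm ▸ ((mem_normalizer_iff.1 hvN x).1 hxP) : v * x * v⁻¹ ∈ zpowers x)
    obtain ⟨j, hj⟩ := mem_zpowers_iff.1 (hx.symm ▸ hw : w ∈ zpowers x)
    have hvw : v * w * v⁻¹ = w := by
      have : Commute v w := (show Commute n w from hfix).pow_left _
      rw [this.eq, mul_inv_cancel_right]
    have hr1 : (p : ℤ) ∣ r - 1 := by
      have h1 : w ^ r = w := by
        calc w ^ r = (x ^ r) ^ j := by rw [← hj, ← zpow_mul, ← zpow_mul, mul_comm]
          _ = v * w * v⁻¹ := by rw [hr, conj_zpow, hj]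
          _ = w := hvw
      rw [← hwo, orderOf_dvd_iff_zpow_eq_one, zpow_sub, h1, zpow_one, mul_inv_cancel]
    have := fixes_of_congr_one hp hr.symm hr1 (o := c) (by rw [← pow_mul, ← hnc, pow_orderOf_eq_one]) hc' hxk
    exact mul_inv_eq_iff_eq_mul.1 this
  have hn' : Commute n x := by
    have hcop : Nat.Coprime c (p ^ a) := ((hp.coprime_iff_not_dvd.2 hc').symm).pow_right a
    have e : n = (n ^ c) ^ Nat.gcdA c (p ^ a) * (n ^ p ^ a) ^ Nat.gcdB c (p ^ a) := by
      rw [← zpow_natCast n c, ← zpow_natCast n (p ^ a), ← zpow_mul, ← zpow_mul, ← zpow_add, ← Nat.gcd_eq_gcd_ab,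
        hcop, Nat.cast_one, zpow_one]
    rw [e]
    exact (Commute.zpow_left (show Commute (n ^ c) x from hcomm _ hu) _).mul_left (hv.zpow_left _)
  rw [mem_centralizer_iff]
  intro y hy
  rw [SetLike.mem_coe, ← hx] at hy
  obtain ⟨i, rfl⟩ := mem_zpowers_iff.1 hy
  exact ((hn'.zpow_right i).eq).symm

/-- Two disjoint normal subgroups cannot both have order divisible by `p` when a Sylow is cyclic. -/
theorem not_two_normal {p : ℕ} [Fact p.Prime] (P : Sylow p K) (hc : IsCyclic (P : Subgroup K))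
    (A B : Subgroup K) [A.Normal] [B.Normal] (hd : Disjoint A B) (hA : p ∣ Nat.card A) (hB : p ∣ Nat.card B) :
    False := by
  classical
  have hp := (Fact.out : p.Prime)
  obtain ⟨a, ha⟩ := exists_prime_orderOf_dvd_card' p hA
  obtain ⟨b, hb⟩ := exists_prime_orderOf_dvd_card' p hB
  rw [← orderOf_coe] at ha hb
  have hab : Commute (a : K) (b : K) :=
    Subgroup.commute_of_normal_of_disjoint A B inferInstance inferInstance hd a b a.2 b.2
  set E := zpowers (a : K) ⊔ zpowers (b : K)
  have hE : IsPGroup p E := by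
    refine (IsPGroup.of_card (n := 1) (by rw [Nat.card_zpowers, ha, pow_one])).to_sup_of_normal_right'
      (IsPGroup.of_card (n := 1) (by rw [Nat.card_zpowers, hb, pow_one])) ?_
    rw [zpowers_le]
    refine Subgroup.centralizer_le_normalizer _ (mem_centralizer_iff.2 fun y hy => ?_)
    obtain ⟨i, rfl⟩ := mem_zpowers_iff.1 hy
    exact (hab.zpow_right i).symm.eq
  obtain ⟨S, hS⟩ := hE.exists_le_sylow
  haveI : IsCyclic (S : Subgroup K) := isCyclic_of_surjective (P.equiv S) (P.equiv S).surjective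
  haveI := Fintype.ofFinite (S : Subgroup K)
  set a' : (S : Subgroup K) := ⟨a, hS (mem_sup_left (mem_zpowers _))⟩
  set b' : (S : Subgroup K) := ⟨b, hS (mem_sup_right (mem_zpowers _))⟩
  have hsub : (Finset.univ : Finset (Fin p × Fin p)).image (fun ij => a' ^ (ij.1 : ℕ) * b' ^ (ij.2 : ℕ)) ⊆
      Finset.univ.filter (fun y : (S : Subgroup K) => y ^ p = 1) := by
    intro y hy
    obtain ⟨⟨i, j⟩, -, rfl⟩ := Finset.mem_image.1 hy
    refine Finset.mem_filter.2 ⟨Finset.mem_univ _, Subtype.ext ?_⟩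
    show ((a : K) ^ (i : ℕ) * (b : K) ^ (j : ℕ)) ^ p = 1
    rw [(hab.pow_pow i j).mul_pow, ← pow_mul, ← pow_mul, mul_comm (i : ℕ), mul_comm (j : ℕ), pow_mul, pow_mul]
    have hap : (a : K) ^ p = 1 := (congrArg ((a : K) ^ ·) ha).symm.trans (pow_orderOf_eq_one _)
    have hbp : (b : K) ^ p = 1 := (congrArg ((b : K) ^ ·) hb).symm.trans (pow_orderOf_eq_one _)
    rw [hap, hbp, one_pow, one_pow, one_mul]
  have h1 := (Finset.card_le_card hsub).trans (IsCyclic.card_pow_eq_one_le hp.pos)
  rw [Finset.card_image_of_injective _ ?_, Finset.card_univ, Fintype.card_prod, Fintype.card_fin] at h1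
  · have := hp.two_le
    nlinarith
  · rintro ⟨i, j⟩ ⟨i', j'⟩ h
    have h' : (a : K) ^ (i : ℕ) * (b : K) ^ (j : ℕ) = (a : K) ^ (i' : ℕ) * (b : K) ^ (j' : ℕ) := congrArg Subtype.val h
    have h2 : ((a : K) ^ (i' : ℕ))⁻¹ * (a : K) ^ (i : ℕ) = (b : K) ^ (j' : ℕ) * ((b : K) ^ (j : ℕ))⁻¹ := by
      calc ((a : K) ^ (i' : ℕ))⁻¹ * (a : K) ^ (i : ℕ)
          = ((a : K) ^ (i' : ℕ))⁻¹ * ((a : K) ^ (i : ℕ) * (b : K) ^ (j : ℕ)) * ((b : K) ^ (j : ℕ))⁻¹ := by group
        _ = _ := by rw [h']; group
    have hz : ((a : K) ^ (i' : ℕ))⁻¹ * (a : K) ^ (i : ℕ) = 1 := Subgroup.disjoint_def.1 hd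
      (mul_mem (inv_mem (pow_mem a.2 _)) (pow_mem a.2 _))
      (h2.symm ▸ mul_mem (pow_mem b.2 _) (inv_mem (pow_mem b.2 _)))
    rw [hz] at h2
    have e1 : (a : K) ^ (i' : ℕ) = (a : K) ^ (i : ℕ) := inv_mul_eq_one.1 hz
    have e2 : (b : K) ^ (j' : ℕ) = (b : K) ^ (j : ℕ) := mul_inv_eq_one.1 h2.symm
    exact Prod.ext (Fin.ext (pow_injOn_Iio_orderOf (by simp [ha]) (by simp [ha]) e1.symm))
      (Fin.ext (pow_injOn_Iio_orderOf (by simp [hb]) (by simp [hb]) e2.symm))


/-- Let K be a finite group, p a prime dividing its order with O_{p'}(K) = 1 (no nontrivial normal subgroup of order prime to p), and P a cyclic Sylow p-subgroup of K. Then either P is normal and self-centralizing in K with K/P cyclic of order dividing p − 1 (so K is the semidirect product of P by a group of automorphisms of P of order dividing p − 1), or the generalized Fitting subgroup F*(K) is a non-abelian simple group and p does not divide the index of F*(K) in K. -/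
theorem result {K : Type*} [Group K] [Finite K] (p : ℕ) [Fact p.Prime] (hp : p ∣ Nat.card K) (hO : Cfsg.pPrimeCore p K = ⊥)
    (P : Sylow p K) (hP : IsCyclic ↥(P : Subgroup K)) :
    ((P : Subgroup K).Normal ∧ Subgroup.centralizer ((P : Subgroup K) : Set K) = (P : Subgroup K) ∧
      (∀ (_ : (P : Subgroup K).Normal), IsCyclic (K ⧸ (P : Subgroup K))) ∧ (P : Subgroup K).index ∣ p - 1) ∨
    (IsSimpleGroup ↥(Cfsg.generalizedFittingSubgroup K) ∧ ¬ IsMulCommutative ↥(Cfsg.generalizedFittingSubgroup K) ∧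
      ¬ p ∣ (Cfsg.generalizedFittingSubgroup K).index) := by
  classical
  have hpp := (Fact.out : p.Prime)
  haveI := hP
  have hbot : ∀ N : Subgroup K, N.Normal → ¬ p ∣ Nat.card N → N = ⊥ := fun N hN h => le_bot_iff.1
    (hO ▸ Cfsg.Lib.Core.le_pPrimeCore' hN ((hpp.coprime_iff_not_dvd.2 h).symm))
  by_cases hW : Cfsg.pCore p K = ⊥
  · -- no normal p-subgroup
    right
    haveI : Nontrivial K := by
      refine Finite.one_lt_card_iff_nontrivial.1 (lt_of_lt_of_le hpp.one_lt (Nat.le_of_dvd Nat.card_pos hp))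
    obtain ⟨N, hN⟩ := Cfsg.Lib.Core.exists_isMinNormal_univ (G := K)
    haveI := hN.1
    have hpN : p ∣ Nat.card N := by_contra fun h => hN.2.1 (hbot N hN.1 h)
    have hsolv : ¬ Group.IsSolvable N := by
      intro h
      obtain ⟨-, q, hq, -, hqN⟩ := Cfsg.Lib.Core.minimal_solvable_elementary hN h
      haveI := Fact.mk hq
      obtain ⟨i, hi⟩ := IsPGroup.iff_card.1 hqN
      rw [hi] at hpN
      obtain rfl := (Nat.prime_dvd_prime_iff_eq hpp hq).1 (hpp.dvd_of_dvd_pow hpN)
      exact hN.2.1 (le_bot_iff.1 (hW ▸ Cfsg.Lib.Core.le_pCore hqN))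
    have hCN : centralizer (N : Set K) = ⊥ := by
      by_contra hne
      obtain ⟨M, hM, hMle⟩ := Cfsg.Lib.Core.exists_isMinNormal (N := centralizer (N : Set K)) inferInstance hne
      haveI := hM.1
      rcases hM.inf_eq_bot_or_le N with h | h
      · exact not_two_normal P hP M N (disjoint_iff.2 h) (by_contra fun h' => hM.2.1 (hbot M hM.1 h')) hpN
      · refine hsolv ?_
        have hMN : M = N := (hN.2.2 M hM.1 h).resolve_left hM.2.1
        refine Group.isSolvable_of_comm fun x y => Subtype.ext ?_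
        exact (mem_centralizer_iff.1 (hMle (hMN.symm ▸ y.2)) x x.2)
    -- N is simple
    have hmem : ∀ (L : Subgroup N), L.Normal → L ≠ ⊥ → p ∣ Nat.card L := by
      intro L hL hL1
      by_contra h
      apply hL1
      have h2 : L ≤ Cfsg.pPrimeCore p N := Cfsg.Lib.Core.le_pPrimeCore' hL ((hpp.coprime_iff_not_dvd.2 h).symm)
      haveI := Cfsg.Lib.Core.normal_map_char_of_normal (Cfsg.pPrimeCore p N)
      have h3 : (Cfsg.pPrimeCore p N).map N.subtype = ⊥ := hbot _ inferInstance (by
        rw [card_map_of_injective N.subtype_injective]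
        exact hpp.coprime_iff_not_dvd.1 (Cfsg.Lib.Core.pPrimeCore_coprime p N).symm)
      rw [map_eq_bot_iff_of_injective _ N.subtype_injective] at h3
      exact le_bot_iff.1 (h3 ▸ h2)
    obtain ⟨PN⟩ := (inferInstance : Nonempty (Sylow p N))
    have hPNc : IsCyclic (PN : Subgroup N) := by
      obtain ⟨S, hS⟩ := (PN.2.map N.subtype).exists_le_sylow
      haveI : IsCyclic (S : Subgroup K) := isCyclic_of_surjective (P.equiv S) (P.equiv S).surjective
      haveI : IsCyclic ((PN : Subgroup N).map N.subtype) := Subgroup.isCyclic_of_le hS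
      exact isCyclic_of_surjective ((PN : Subgroup N).equivMapOfInjective _ N.subtype_injective).symm
        (MulEquiv.surjective _)
    haveI : Nontrivial N := (nontrivial_iff_ne_bot _).2 hN.2.1
    obtain ⟨L, hL⟩ := Cfsg.Lib.Core.exists_isMinNormal_univ (G := N)
    have hLtop : L = ⊤ := by
      haveI := hL.1
      have huniq : ∀ φ : MulAut N, L.map φ.toMonoidHom = L := by
        intro φ
        haveI : (L.map φ.toMonoidHom).Normal := Normal.map inferInstance _ φ.surjective
        have hne : L.map φ.toMonoidHom ≠ ⊥ := fun h => hL.2.1 ((map_eq_bot_iff_of_injective _ φ.injective).1 h)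
        rcases hL.inf_eq_bot_or_le (L.map φ.toMonoidHom) with h | h
        · exact (not_two_normal PN hPNc L _ (disjoint_iff.2 h) (hmem L hL.1 hL.2.1) (hmem _ inferInstance hne)).elim
        · exact (eq_of_le_of_card_ge h (card_map_of_injective φ.injective).le).symm
      haveI : L.Characteristic := characteristic_iff_map_eq.2 huniq
      haveI := Cfsg.Lib.Core.normal_map_char_of_normal L
      rcases hN.2.2 (L.map N.subtype) inferInstance (map_subtype_le L) with h | h
      · exact absurd ((map_eq_bot_iff_of_injective _ N.subtype_injective).1 h) hL.2.1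
      · refine map_injective N.subtype_injective ?_
        rw [h, ← MonoidHom.range_eq_map, range_subtype]
    have hsimple : IsSimpleGroup N := ⟨fun H hH => by
      rcases hL.2.2 H hH (hLtop ▸ le_top) with h | h
      · exact Or.inl h
      · exact Or.inr (h.trans hLtop)⟩
    have hna : ¬ IsMulCommutative N := fun h => hsolv (Group.isSolvable_of_comm fun a b => h.is_comm.comm a b)
    have hNsn : N.IsSubnormal := hN.1.isSubnormal
    have hcomp : Cfsg.IsComponent N := Cfsg.Lib.Core.isComponent_of_isSimple_of_isSubnormal hNsn hsimple hna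
    have hF : Cfsg.fittingSubgroup K = ⊥ := by
      rw [Cfsg.Lib.Core.fittingSubgroup_eq_iSup_pCore, iSup_eq_bot]
      intro q
      haveI := Fact.mk q.2
      by_cases hqp : (q : ℕ) = p
      · rw [hqp, hW]
      · refine hbot _ inferInstance fun h => ?_
        obtain ⟨i, hi⟩ := IsPGroup.iff_card.1 (Cfsg.Lib.Core.pCore_isPGroup (q : ℕ) K)
        rw [hi] at h
        exact hqp ((Nat.prime_dvd_prime_iff_eq hpp q.2).1 (hpp.dvd_of_dvd_pow h)).symm
    have hFstar : Cfsg.generalizedFittingSubgroup K = N := by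
      refine le_antisymm ?_ ((Cfsg.Lib.Core.le_layer hcomp).trans Cfsg.Lib.Core.layer_le_generalizedFitting)
      show Cfsg.layer K ⊔ Cfsg.fittingSubgroup K ≤ N
      rw [hF, sup_bot_eq]
      refine sSup_le fun M hM => ?_
      rcases Cfsg.Lib.Core.component_le_or_commute hM hNsn with h | h
      · exact h
      · exfalso
        refine Cfsg.Lib.Core.IsComponent.ne_bot hM ?_
        rw [commutator_eq_bot_iff_le_centralizer, hCN, le_bot_iff] at h
        exact h
    refine ⟨by rw [hFstar]; exact hsimple, by rw [hFstar]; exact hna, ?_⟩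
    rw [hFstar]
    -- the Sylow subgroup lies in N
    suffices hPN : (P : Subgroup K) ≤ N from fun h => P.not_dvd_index (h.trans (index_dvd_of_le hPN))
    set M := N ⊔ (P : Subgroup K) with hM
    set Q := (P : Subgroup K) ⊓ N with hQ
    have hPQ : (P : Subgroup K) ≤ normalizer (Q : Set K) := by
      intro y hy
      rw [mem_normalizer_iff]
      intro z
      constructor
      · rintro ⟨hz1, hz2⟩
        exact ⟨(P : Subgroup K).mul_mem ((P : Subgroup K).mul_mem hy hz1) ((P : Subgroup K).inv_mem hy), hN.1.conj_mem z hz2 y⟩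
      · rintro ⟨hz1, hz2⟩
        refine ⟨?_, ?_⟩
        · have := (P : Subgroup K).mul_mem ((P : Subgroup K).mul_mem ((P : Subgroup K).inv_mem hy) hz1) hy
          rwa [show y⁻¹ * (y * z * y⁻¹) * y = z by group] at this
        · have := hN.1.conj_mem _ hz2 y⁻¹
          simpa [mul_assoc] using this
    obtain ⟨QN, hQN'⟩ := Cfsg.Lib.Local.exists_sylow_inf P N
    have hQN : ((QN : Subgroup N)).map N.subtype = Q := by
      rw [hQ, hQN', subgroupOf_map_subtype]
    obtain ⟨x, hx⟩ := (Subgroup.isCyclic_iff_exists_zpowers_eq_top _).1 hP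
    have hxP : x ∈ (P : Subgroup K) := hx ▸ mem_zpowers x
    obtain ⟨k, hk⟩ := P.2 ⟨x, hxP⟩
    have hxk : x ^ p ^ k = 1 := congrArg Subtype.val hk
    -- an element of N moving Q
    obtain ⟨g, hgN, hgQ, o, hgo, ho, hmove⟩ : ∃ g ∈ N, g ∈ normalizer (Q : Set K) ∧ ∃ o : ℕ, g ^ o = 1 ∧ ¬ p ∣ o ∧
        ∃ y ∈ Q, g * y * g⁻¹ ≠ y := by
      by_contra hcon
      push Not at hcon
      have hle : normalizer ((QN : Subgroup N) : Set N) ≤ centralizer ((QN : Subgroup N) : Set N) := by
        intro n hn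
        have hnQ : (n : K) ∈ normalizer (Q : Set K) := by
          rw [← hQN]
          exact le_normalizer_map N.subtype (mem_map_of_mem N.subtype hn)
        obtain ⟨a, c, hc, hnc⟩ := Nat.exists_eq_pow_mul_and_not_dvd (orderOf_pos n).ne' p hpp.ne_one
        have hu : n ^ c ∈ (QN : Subgroup N) := mem_sylow_of_normalizes QN (pow_mem hn c) (k := a) (by
          rw [← pow_mul, mul_comm, ← hnc, pow_orderOf_eq_one])
        rw [mem_centralizer_iff]
        intro y hy
        have hyQ : (y : K) ∈ Q := hQN ▸ mem_map_of_mem N.subtype hy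
        have h1 := hcon ((n : K) ^ p ^ a) (pow_mem n.2 _) (pow_mem hnQ _) c (by
          rw [← pow_mul, ← hnc, ← orderOf_coe, pow_orderOf_eq_one]) hc y hyQ
        have hv : Commute ((n : K) ^ p ^ a) (y : K) := mul_inv_eq_iff_eq_mul.1 h1
        have hu' : Commute ((n : K) ^ c) (y : K) := by
          haveI : IsMulCommutative (QN : Subgroup N) := by
            haveI : IsCyclic (QN : Subgroup N) :=
              isCyclic_of_surjective (PN.equiv QN) (PN.equiv QN).surjective
            exact ⟨⟨fun a b => IsCyclic.commGroup.mul_comm a b⟩⟩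
          exact congrArg (fun t : (QN : Subgroup N) => ((t : N) : K))
            (IsMulCommutative.is_comm.comm (⟨n ^ c, hu⟩ : (QN : Subgroup N)) ⟨y, hy⟩)
        have hcop : Nat.Coprime c (p ^ a) := ((hpp.coprime_iff_not_dvd.2 hc).symm).pow_right a
        have e : (n : K) = ((n : K) ^ c) ^ Nat.gcdA c (p ^ a) * ((n : K) ^ p ^ a) ^ Nat.gcdB c (p ^ a) := by
          rw [← zpow_natCast (n : K) c, ← zpow_natCast (n : K) (p ^ a), ← zpow_mul, ← zpow_mul, ← zpow_add,
            ← Nat.gcd_eq_gcd_ab, hcop, Nat.cast_one, zpow_one]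
        have hnc' : Commute (n : K) (y : K) := by
          rw [e]; exact (hu'.zpow_left _).mul_left (hv.zpow_left _)
        exact Subtype.ext hnc'.symm.eq
      obtain ⟨R, hR, hRc⟩ := (Cfsg.Lib.Fusion.hasNormalPComplement_iff_exists QN).1
        (Cfsg.Lib.Fusion.hasNormalPComplement_of_normalizer_le_centralizer QN hle)
      rcases hsimple.eq_bot_or_eq_top_of_normal R hR with h | h
      · subst h
        have h2 := hRc.sup_eq_top
        rw [bot_sup_eq] at h2
        refine hsolv ?_
        have hNp : IsPGroup p N := fun n => by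
          obtain ⟨i, hi⟩ := QN.2 ⟨n, h2.symm ▸ mem_top n⟩
          exact ⟨i, congrArg Subtype.val hi⟩
        haveI := hNp.isNilpotent
        infer_instance
      · subst h
        have h2 := hRc.disjoint.eq_bot
        rw [top_inf_eq] at h2
        exact QN.ne_bot_of_dvd_card hpN h2
    -- move the element into the normalizer of P
    set H := M ⊓ normalizer (Q : Set K) with hH
    set C := (centralizer (Q : Set K)).subgroupOf H with hC
    haveI : C.Normal := ⟨fun c hc y => by
      simp only [hC, mem_subgroupOf, mem_centralizer_iff, Subgroup.coe_mul, InvMemClass.coe_inv] at hc ⊢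
      intro q hq
      have h1 : (y : K)⁻¹ * q * y ∈ Q := (mem_normalizer_iff.1 y.2.2 _).2 (by simpa [mul_assoc] using hq)
      calc q * ((y : K) * c * (y : K)⁻¹) = y * (((y : K)⁻¹ * q * y) * c) * (y : K)⁻¹ := by group
        _ = y * (c * ((y : K)⁻¹ * q * y)) * (y : K)⁻¹ := by rw [hc _ h1]
        _ = _ := by group⟩
    have hPH : (P : Subgroup K) ≤ H := le_inf le_sup_right hPQ
    have hPC : (P : Subgroup K) ≤ centralizer (Q : Set K) := fun y hy => mem_centralizer_iff.2 fun q hq => by
      rw [← hx] at hy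
      obtain ⟨i, rfl⟩ := mem_zpowers_iff.1 hy
      obtain ⟨j, rfl⟩ := mem_zpowers_iff.1 (hx.symm ▸ hq.1 : q ∈ zpowers x)
      exact (Commute.zpow_zpow (Commute.refl x) j i).eq
    let PH : Sylow p H := P.subtype hPH
    have hPHC : (PH : Subgroup H) ≤ C := fun y hy => hPC hy
    let PC : Sylow p C := PH.subtype hPHC
    have hfr : normalizer ((PH : Subgroup H) : Set H) ⊔ C = ⊤ := by
      have h := Sylow.normalizer_sup_eq_top PC
      have e : (PC : Subgroup C).map C.subtype = (PH : Subgroup H) := by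
        show ((PH : Subgroup H).subgroupOf C).map C.subtype = _
        exact map_subgroupOf_eq_of_le hPHC
      rwa [e] at h
    have hgH : g ∈ H := ⟨mem_sup_left hgN, hgQ⟩
    obtain ⟨h, hh, c, hc, hhc⟩ := (mem_sup_of_normal_right).1 (hfr ▸ mem_top (⟨g, hgH⟩ : H))
    have hhP : (h : K) ∈ normalizer ((P : Subgroup K) : Set K) := by
      rw [mem_normalizer_iff]
      intro z
      constructor
      · intro hz
        exact (mem_normalizer_iff.1 hh ⟨z, hPH hz⟩).1 hz
      · intro hz
        have h2 := (mem_normalizer_iff.1 (inv_mem hh) ⟨_, hPH hz⟩).1 hz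
        have h3 : ((h⁻¹ * ⟨(h : K) * z * (h : K)⁻¹, hPH hz⟩ * h⁻¹⁻¹ : H) : K) ∈ (P : Subgroup K) := h2
        simpa [mul_assoc] using h3
    obtain ⟨r, hr⟩ := mem_zpowers_iff.1 (hx.symm ▸ ((mem_normalizer_iff.1 hhP x).1 hxP) : (h : K) * x * (h : K)⁻¹ ∈ zpowers x)
    obtain ⟨y, hy, hyne⟩ := hmove
    have hgy : g * y * g⁻¹ = y ^ r := by
      obtain ⟨j, rfl⟩ := mem_zpowers_iff.1 (hx.symm ▸ hy.1 : y ∈ zpowers x)
      have hcy : (c : K) * x ^ j * (c : K)⁻¹ = x ^ j := by
        rw [← (mem_centralizer_iff.1 (mem_subgroupOf.1 hc) _ hy), mul_inv_cancel_right]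
      have hgc : g = (h : K) * c := (congrArg Subtype.val hhc).symm
      rw [hgc]
      calc (h : K) * c * x ^ j * ((h : K) * c)⁻¹ = h * (c * x ^ j * (c : K)⁻¹) * (h : K)⁻¹ := by group
        _ = (x ^ j) ^ r := by rw [hcy, ← conj_zpow, ← hr, ← zpow_mul, ← zpow_mul, mul_comm]
    have hr1 : ¬ (p : ℤ) ∣ r - 1 := by
      intro hd
      obtain ⟨j, hj⟩ := mem_zpowers_iff.1 (hx.symm ▸ hy.1 : y ∈ zpowers x)
      refine hyne (fixes_of_congr_one hpp hgy hd hgo ho (k := k) ?_)
      rw [← hj, ← zpow_natCast, zpow_comm, zpow_natCast, hxk, one_zpow]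
    -- x is a commutator in M
    have hxgen : x ∈ zpowers (x ^ (r - 1)) := by
      obtain ⟨i, -, hi⟩ := (Nat.dvd_prime_pow hpp).1 (orderOf_dvd_of_pow_eq_one hxk)
      have hco : IsCoprime (r - 1) ((p : ℤ) ^ i) :=
        ((((Nat.prime_iff_prime_int.1 hpp).coprime_iff_not_dvd).2 hr1).symm).pow_right
      obtain ⟨u, v, huv⟩ := hco
      refine mem_zpowers_iff.2 ⟨u, ?_⟩
      rw [← zpow_mul]
      conv_rhs => rw [← zpow_one x, ← huv]
      rw [zpow_add, mul_comm (r - 1), mul_comm v, zpow_mul x ((p : ℤ) ^ i), show ((p : ℤ) ^ i) = ((orderOf x : ℕ) : ℤ) by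
        rw [hi]; push_cast; rfl, zpow_natCast, pow_orderOf_eq_one, one_zpow, mul_one]
    have hcomm : x ^ (r - 1) ∈ N := by
      obtain ⟨n', hn', y', hy', hny⟩ := (mem_sup_of_normal_left).1 (h.2.1 : (h : K) ∈ M)
      have hy'x : y' * x * y'⁻¹ = x := by
        obtain ⟨i, rfl⟩ := mem_zpowers_iff.1 (hx.symm ▸ hy' : y' ∈ zpowers x)
        rw [((Commute.refl x).zpow_left i).eq, mul_inv_cancel_right]
      have e : x ^ (r - 1) = n' * (x * n'⁻¹ * x⁻¹) := by
        rw [zpow_sub, zpow_one, hr, ← hny]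
        calc n' * y' * x * (n' * y')⁻¹ * x⁻¹ = n' * (y' * x * y'⁻¹) * n'⁻¹ * x⁻¹ := by group
          _ = _ := by rw [hy'x]; group
      rw [e]
      exact mul_mem hn' (hN.1.conj_mem _ (inv_mem hn') x)
    intro z hz
    rw [← hx] at hz
    exact (zpowers_le.2 ((zpowers_le.2 hcomm) hxgen)) hz
  · -- a normal p-subgroup
    left
    obtain ⟨i, hi⟩ := IsPGroup.iff_card.1 (Cfsg.Lib.Core.pCore_isPGroup p K)
    have hd : p ∣ Nat.card (Cfsg.pCore p K) := by
      rw [hi]
      refine dvd_pow_self p ?_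
      rintro rfl
      rw [pow_zero] at hi
      exact hW (card_eq_one.1 hi)
    obtain ⟨w, hw⟩ := exists_prime_orderOf_dvd_card' p hd
    rw [← orderOf_coe] at hw
    have hwP : (w : K) ∈ (P : Subgroup K) := Cfsg.Lib.Core.pCore_le_sylow P w.2
    set W := zpowers (w : K) with hWdef
    have hWn : W.Normal := by
      have hchar : ∀ v ∈ (P : Subgroup K), v ^ p = 1 → v ∈ W := by
        intro v hv hvp
        by_contra hvW
        haveI := Fintype.ofFinite (P : Subgroup K)
        set w' : (P : Subgroup K) := ⟨w, hwP⟩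
        have hw' : orderOf w' = p := by rw [← orderOf_coe]; exact hw
        have hsub : (insert (⟨v, hv⟩ : (P : Subgroup K)) ((Finset.range p).image fun j => w' ^ j)) ⊆
            Finset.univ.filter (fun y : (P : Subgroup K) => y ^ p = 1) := by
          intro y hy
          refine Finset.mem_filter.2 ⟨Finset.mem_univ _, ?_⟩
          rcases Finset.mem_insert.1 hy with rfl | hy
          · exact Subtype.ext hvp
          · obtain ⟨j, -, rfl⟩ := Finset.mem_image.1 hy
            rw [← pow_mul, mul_comm, pow_mul, (congrArg (w' ^ ·) hw').symm.trans (pow_orderOf_eq_one _), one_pow]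
        have h1 := (Finset.card_le_card hsub).trans (IsCyclic.card_pow_eq_one_le hpp.pos)
        rw [Finset.card_insert_of_notMem (fun h => by
          obtain ⟨j, -, hj⟩ := Finset.mem_image.1 h
          have hj' : (w : K) ^ j = v := congrArg Subtype.val hj
          exact hvW (hj' ▸ pow_mem (mem_zpowers _) j)),
          Finset.card_image_of_injOn (fun a ha b hb h => pow_injOn_Iio_orderOf
            (by simpa [hw'] using ha) (by simpa [hw'] using hb) h), Finset.card_range] at h1
        omega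
      refine ⟨fun v hv g => hchar _ (Cfsg.Lib.Core.pCore_le_sylow P ?_) ?_⟩
      · exact (inferInstance : (Cfsg.pCore p K).Normal).conj_mem v (zpowers_le.2 w.2 hv) g
      · obtain ⟨j, rfl⟩ := mem_zpowers_iff.1 hv
        have h1 : ((w : K) ^ j) ^ p = 1 := by
          rw [← zpow_natCast, zpow_comm, zpow_natCast,
            (congrArg ((w : K) ^ ·) hw).symm.trans (pow_orderOf_eq_one _), one_zpow]
        rw [conj_pow, h1, mul_one, mul_inv_cancel]
    set C1 := centralizer (W : Set K) with hC1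
    haveI := hWn
    have hPC1 : (P : Subgroup K) ≤ C1 := fun y hy => mem_centralizer_iff.2 fun z hz => by
      obtain ⟨j, rfl⟩ := mem_zpowers_iff.1 hz
      exact congrArg Subtype.val (IsCyclic.commGroup.mul_comm
        (⟨_, zpow_mem hwP j⟩ : (P : Subgroup K)) ⟨y, hy⟩)
    let P1 : Sylow p C1 := P.subtype hPC1
    haveI hP1c : IsCyclic (P1 : Subgroup C1) :=
      isCyclic_of_surjective (subgroupOfEquivOfLe hPC1).symm (MulEquiv.surjective _)
    have hle : normalizer ((P1 : Subgroup C1) : Set C1) ≤ centralizer ((P1 : Subgroup C1) : Set C1) := by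
      intro n hn
      refine commutes_of_fix_omega P1 hP1c hn (w := ⟨w, hPC1 hwP⟩) hwP (by rw [← orderOf_coe]; exact hw) ?_
      exact Subtype.ext (mem_centralizer_iff.1 n.2 _ (mem_zpowers _)).symm
    have hcpl := Cfsg.Lib.Fusion.hasNormalPComplement_of_normalizer_le_centralizer P1 hle
    have hres : pResidual p C1 = ⊥ := by
      haveI : (pResidual p C1).Characteristic :=
        characteristic_iff_map_eq.2 fun e => Cfsg.Lib.Fusion.map_pResidual_equiv e
      haveI := Cfsg.Lib.Core.normal_map_char_of_normal (pResidual p C1)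
      refine (map_eq_bot_iff_of_injective _ C1.subtype_injective).1 (hbot _ inferInstance ?_)
      rw [card_map_of_injective C1.subtype_injective]
      exact hpp.coprime_iff_not_dvd.1
        (Cfsg.Lib.Fusion.coprime_card_of_complement (Cfsg.Lib.Fusion.isComplement'_pResidual hcpl P1)).symm
    have hC1P : C1 = (P : Subgroup K) := by
      refine le_antisymm ?_ hPC1
      intro y hy
      have h := (Cfsg.Lib.Fusion.isComplement'_pResidual hcpl P1).sup_eq_top
      rw [hres, bot_sup_eq] at h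
      exact (h ▸ mem_top (⟨y, hy⟩ : C1) : (⟨y, hy⟩ : C1) ∈ (P1 : Subgroup C1))
    haveI hPn : (P : Subgroup K).Normal := hC1P ▸ (inferInstance : C1.Normal)
    -- the automizer of W
    let ψ : K →* MulAut W := MulAut.conjNormal
    have hker : ψ.ker = (P : Subgroup K) := by
      rw [← hC1P]
      ext g
      rw [MonoidHom.mem_ker, hC1, mem_centralizer_iff]
      constructor
      · intro h z hz
        have := congrArg (fun φ : MulAut W => ((φ ⟨z, hz⟩ : W) : K)) h
        simp only [ψ, MulAut.conjNormal_apply, MulAut.one_apply] at this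
        exact (mul_inv_eq_iff_eq_mul.1 this).symm
      · intro h
        refine MulEquiv.ext fun z => Subtype.ext ?_
        simp only [ψ, MulAut.conjNormal_apply, MulAut.one_apply]
        rw [← h z z.2, mul_inv_cancel_right]
    have hWc : Nat.card W = p := by rw [hWdef, Nat.card_zpowers, hw]
    haveI : IsCyclic W := isCyclic_of_prime_card hWc
    haveI : NeZero (Nat.card W) := ⟨Nat.card_pos.ne'⟩
    haveI : Fact (Nat.card W).Prime := ⟨hWc.symm ▸ hpp⟩
    haveI hcu : IsCyclic (ZMod (Nat.card W))ˣ := inferInstance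
    haveI : IsCyclic (MulAut W) :=
      isCyclic_of_surjective (IsCyclic.mulAutMulEquiv W).symm.toMonoidHom (IsCyclic.mulAutMulEquiv W).symm.surjective
    have hinj : Function.Injective (QuotientGroup.lift (P : Subgroup K) ψ hker.ge) := by
      rw [injective_iff_map_eq_one]
      intro q
      induction q using QuotientGroup.induction_on with
      | H g => intro hg; exact (QuotientGroup.eq_one_iff g).2 (hker ▸ hg)
    refine ⟨hPn, le_antisymm ?_ ?_, fun _ => isCyclic_of_injective _ hinj, ?_⟩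
    · conv_rhs => rw [← hC1P]
      exact centralizer_le (zpowers_le.2 hwP)
    · exact fun y hy => mem_centralizer_iff.2 fun z hz => congrArg Subtype.val (IsCyclic.commGroup.mul_comm
        (⟨z, hz⟩ : (P : Subgroup K)) ⟨y, hy⟩)
    · rw [index_eq_card]
      refine (card_dvd_of_injective _ hinj).trans ?_
      rw [Nat.card_congr (IsCyclic.mulAutMulEquiv W).toEquiv, Nat.card_eq_fintype_card, ZMod.card_units, hWc]

end Cfsg.Agent.S4403
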