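import Cfsg.Statements.S4404
import Mathlib
import Cfsg.Agent.Lib.PGroup.Basic
import Cfsg.Agent.Lib.PGroup.NormalStep
import Cfsg.Agent.Lib.Solv.Hall
import Cfsg.Agent.Lib.Core.Basic
import Cfsg.Agent.S4057
import Cfsg.Agent.S3780
import Cfsg.Agent.S0130
-- import your own Cfsg.Agent.* helpers here

set_option autoImplicit false
open Cfsg

namespace Cfsg.Agent.S4404

open Subgroup
open scoped commutatorElement Pointwise

/-! ### Automorphisms of a group of exponent two -/

section Abstract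

variable {M : Type*} [CommGroup M]

/-- `m ↦ a m / m`. -/
def dlt (a : MulAut M) : M →* M := MonoidHom.mk' (fun m => a m * m⁻¹) fun m n => by
  rw [map_mul, mul_inv, mul_mul_mul_comm]

/-- The commutator subgroup of `M` with an automorphism. -/
def W (a : MulAut M) : Subgroup M := (dlt a).range

theorem mem_W (a : MulAut M) (m : M) : a m * m⁻¹ ∈ W a := ⟨m, rfl⟩

/-- The automorphisms that are trivial modulo `V`. -/
def stab (V : Subgroup M) : Subgroup (MulAut M) where
  carrier := {d | W d ≤ V}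
  one_mem' := by rintro _ ⟨m, rfl⟩; simp [dlt]
  mul_mem' := by
    rintro d d' hd hd' _ ⟨m, rfl⟩
    have h1 : d (d' m * m⁻¹) ∈ V := by
      have h := V.mul_mem (hd (mem_W d (d' m * m⁻¹))) (hd' (mem_W d' m))
      rwa [inv_mul_cancel_right] at h
    have h2 := V.mul_mem h1 (hd (mem_W d m))
    rw [map_mul, map_inv, mul_assoc, inv_mul_cancel_left] at h2
    exact h2
  inv_mem' := by
    rintro d hd _ ⟨m, rfl⟩
    have h := V.inv_mem (hd (mem_W d (d⁻¹ m)))
    simp only [MulAut.inv_def, MulEquiv.apply_symm_apply, mul_inv, inv_inv] at h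
    show d⁻¹ m * m⁻¹ ∈ V
    rwa [MulAut.inv_def, mul_comm]

theorem apply_mem {V : Subgroup M} {d : MulAut M} (hd : d ∈ stab V) {v : M} (hv : v ∈ V) : d v ∈ V := by
  have h := V.mul_mem (hd (mem_W d v)) hv
  rwa [inv_mul_cancel_right] at h

theorem W_inv_le (a : MulAut M) : W a⁻¹ ≤ W a :=
  (stab (W a)).inv_mem (le_refl (W a) : a ∈ stab (W a))

theorem apply_mem_W {a : MulAut M} {v : M} (hv : v ∈ W a) : a v ∈ W a :=
  apply_mem (le_refl (W a) : a ∈ stab (W a)) hv

theorem W_conj (e a : MulAut M) : W (e * a * e⁻¹) = (W a).map e.toMonoidHom := by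
  apply le_antisymm
  · rintro _ ⟨m, rfl⟩
    refine ⟨_, mem_W a (e⁻¹ m), ?_⟩
    simp [dlt, MulAut.inv_def]
  · rintro _ ⟨_, ⟨m, rfl⟩, rfl⟩
    exact ⟨e m, by simp [dlt, MulAut.inv_def]⟩

theorem map_W_comm {a b : MulAut M} (h : Commute a b) {v : M} (hv : v ∈ W b) : a v ∈ W b := by
  have e : (W b).map a.toMonoidHom = W b := by
    rw [← W_conj, h.eq, mul_inv_cancel_right]
  exact e ▸ ⟨v, hv, rfl⟩

variable (hexp : ∀ m : M, m ^ 2 = 1)
include hexp

theorem pow_odd {n : ℕ} (hn : Odd n) (v : M) : v ^ n = v := by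
  obtain ⟨k, rfl⟩ := hn
  rw [pow_succ, pow_mul, hexp, one_pow, one_mul]

theorem eq_one_of_fixed {a : MulAut M} (ha : a ^ 3 = 1) {v : M} (hv : v ∈ W a) (hfix : a v = v) : v = 1 := by
  obtain ⟨m, rfl⟩ := hv
  have h1 : a m = dlt a m * m := by simp [dlt]
  have h2 : (a ^ 3) m = dlt a m ^ 3 * m := by
    rw [pow_succ, pow_two, MulAut.mul_apply, MulAut.mul_apply, h1, map_mul, hfix, h1, map_mul, map_mul, hfix, h1]
    rw [pow_succ, pow_two, ← mul_assoc, ← mul_assoc]
  rw [ha, MulAut.one_apply] at h2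
  have h3 : dlt a m ^ 3 = 1 := by
    have := mul_right_cancel ((one_mul m).trans h2)
    exact this.symm
  rwa [pow_odd hexp (n := 3) ⟨1, by norm_num⟩] at h3

theorem eq_one_of_trivial {d : MulAut M} {n : ℕ} (hn : Odd n) (hd : d ^ n = 1) {V : Subgroup M}
    (h1 : W d ≤ V) (h2 : ∀ v ∈ V, d v = v) : d = 1 := by
  refine MulEquiv.ext fun m => ?_
  set v := dlt d m with hv
  have hm : d m = v * m := by simp [hv, dlt]
  have hpow : ∀ k : ℕ, (d ^ k) m = v ^ k * m := by
    intro k
    induction k with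
    | zero => simp
    | succ k ih =>
      rw [pow_succ', MulAut.mul_apply, ih, map_mul, map_pow, h2 v (h1 ⟨m, rfl⟩), hm, pow_succ, mul_assoc]
  have h := hpow n
  rw [hd, MulAut.one_apply, pow_odd hexp hn] at h
  rw [MulAut.one_apply, hm, ← h]

variable [Finite M]

theorem disjoint_of_commute {a b : MulAut M} (ha : a ^ 3 = 1) (hWa : Nat.card (W a) = 4)
    (hWb : Nat.card (W b) = 4) (hab : Commute a b) (hne : W a ≠ W b) : W a ⊓ W b = ⊥ := by
  by_contra hI
  set I := W a ⊓ W b with hIdef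
  have h1 : Nat.card I ∣ 2 ^ 2 := by rw [show 2 ^ 2 = Nat.card (W a) by rw [hWa]; rfl]; exact card_dvd_of_le inf_le_left
  obtain ⟨i, hi, hc⟩ := (Nat.dvd_prime_pow Nat.prime_two).1 h1
  rcases (show i = 0 ∨ i = 1 ∨ i = 2 by omega) with rfl | rfl | rfl
  · exact hI (card_eq_one.1 (by simpa using hc))
  · obtain ⟨c, hcI, hne1⟩ := (Subgroup.bot_or_exists_ne_one I).resolve_left hI
    have hc1 : (⟨c, hcI⟩ : I) ≠ 1 := fun e => hne1 (congrArg Subtype.val e)
    have hac : a c ∈ I := Subgroup.mem_inf.2 ⟨apply_mem_W (Subgroup.mem_inf.1 hcI).1, map_W_comm hab (Subgroup.mem_inf.1 hcI).2⟩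
    refine hc1 (Subtype.ext (eq_one_of_fixed hexp ha (Subgroup.mem_inf.1 hcI).1 ?_))
    haveI : Fintype I := Fintype.ofFinite I
    by_contra hne'
    classical
    have hsub : ({1, ⟨c, hcI⟩, ⟨a c, hac⟩} : Finset I).card ≤ 2 := by
      refine (Finset.card_le_univ _).trans ?_
      rw [← Nat.card_eq_fintype_card, hc]
      norm_num
    rw [Finset.card_insert_of_notMem, Finset.card_insert_of_notMem, Finset.card_singleton] at hsub
    · omega
    · simp only [Finset.mem_singleton, Subtype.ext_iff]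
      exact fun e => hne' e.symm
    · simp only [Finset.mem_insert, Finset.mem_singleton, Subtype.ext_iff, OneMemClass.coe_one, not_or]
      exact ⟨fun e => hne1 e.symm, fun e => hne1 (a.injective (show a c = a 1 by rw [map_one]; exact e.symm))⟩
  · apply hne
    rw [← (eq_of_le_of_card_ge (inf_le_left : I ≤ W a) (by rw [hc, hWa]; norm_num) : I = W a)]
    exact eq_of_le_of_card_ge (inf_le_right : I ≤ W b) (by rw [hc, hWb]; norm_num)

theorem fix_of_commute {a b : MulAut M} (ha : a ^ 3 = 1) (hWa : Nat.card (W a) = 4)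
    (hWb : Nat.card (W b) = 4) (hab : Commute a b) (hne : W a ≠ W b) {w : M} (hw : w ∈ W b) : a w = w := by
  have h : a w * w⁻¹ ∈ W a ⊓ W b :=
    Subgroup.mem_inf.2 ⟨mem_W a w, mul_mem (map_W_comm hab hw) (inv_mem hw)⟩
  rwa [disjoint_of_commute hexp ha hWa hWb hab hne, mem_bot, mul_inv_eq_one] at h

end Abstract

/-- The order of the automorphism group of an elementary abelian `2`-group. -/
theorem card_mulAut_dvd {V : Type*} [CommGroup V] [Finite V] (hexp : ∀ v : V, v ^ 2 = 1) {n : ℕ}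
    (hn : Nat.card V = 2 ^ n) : Nat.card (MulAut V) ∣ ∏ i : Fin n, (2 ^ n - 2 ^ (i : ℕ)) := by
  haveI : Fact (Nat.Prime 2) := ⟨Nat.prime_two⟩
  haveI : Module (ZMod 2) (Additive V) := AddCommGroup.zmodModule fun v => by
    apply Additive.toMul.injective
    rw [toMul_nsmul, toMul_zero]
    exact hexp _
  haveI : Module.Finite (ZMod 2) (Additive V) := Module.Finite.of_finite
  have hfr : Module.finrank (ZMod 2) (Additive V) = n := by
    have h := Module.natCard_eq_pow_finrank (K := ZMod 2) (V := Additive V)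
    rw [show Nat.card (Additive V) = Nat.card V from rfl, hn, Nat.card_zmod] at h
    exact (Nat.pow_right_injective le_rfl h).symm
  let ρ : MulAut V →* (Module.End (ZMod 2) (Additive V))ˣ := MonoidHom.toHomUnits
    { toFun := fun h => (h.toMonoidHom.toAdditive).toZModLinearMap 2
      map_one' := by ext v; rfl
      map_mul' := fun g h => by ext v; rfl }
  have hρ : Function.Injective ρ := fun g h e => MulEquiv.ext fun v => by
    have := congrArg (fun u : (Module.End (ZMod 2) (Additive V))ˣ =>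
      Additive.toMul ((u : Module.End (ZMod 2) (Additive V)) (Additive.ofMul v))) e
    exact this
  let b := (Module.finBasisOfFinrankEq (ZMod 2) (Additive V) hfr)
  let eU : (Module.End (ZMod 2) (Additive V))ˣ ≃* GL (Fin n) (ZMod 2) :=
    Units.mapEquiv (LinearMap.toMatrixAlgEquiv b).toMulEquiv
  have h := Subgroup.card_dvd_of_injective (eU.toMonoidHom.comp ρ) (eU.injective.comp hρ)
  rw [Matrix.card_GL_field, ZMod.card] at h
  exact h

section Odd

variable {M : Type*} [CommGroup M] [Finite M] (hexp : ∀ m : M, m ^ 2 = 1)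
include hexp

theorem card_dvd_of_stab (D : Subgroup (MulAut M)) (hodd : Odd (Nat.card D)) (V : Subgroup M) (hDV : D ≤ stab V)
    {n : ℕ} (hn : Nat.card V = 2 ^ n) : Nat.card D ∣ ∏ i : Fin n, (2 ^ n - 2 ^ (i : ℕ)) := by
  let ρ : D →* MulAut V := MonoidHom.mk'
    (fun d =>
      { toFun := fun v => ⟨(d : MulAut M) v, apply_mem (hDV d.2) v.2⟩
        invFun := fun v => ⟨(d : MulAut M)⁻¹ v, apply_mem ((stab V).inv_mem (hDV d.2)) v.2⟩
        left_inv := fun v => Subtype.ext (by simp [MulAut.inv_def])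
        right_inv := fun v => Subtype.ext (by simp [MulAut.inv_def])
        map_mul' := fun v w => Subtype.ext (map_mul (d : MulAut M) (v : M) w) })
    fun _ _ => MulEquiv.ext fun _ => rfl
  refine (Subgroup.card_dvd_of_injective ρ ?_).trans (card_mulAut_dvd (fun v : V => Subtype.ext (hexp v)) hn)
  rw [injective_iff_map_eq_one]
  intro d hd
  refine Subtype.ext (eq_one_of_trivial hexp hodd ?_ (hDV d.2) fun v hv => ?_)
  · have h : d ^ Nat.card D = 1 := pow_card_eq_one'
    exact congrArg Subtype.val h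
  · exact congrArg Subtype.val (congrArg (fun f : MulAut V => f ⟨v, hv⟩) hd)

theorem fixed_eq_one (D : Subgroup (MulAut M)) (hodd : Odd (Nat.card D)) {s : Set (MulAut M)}
    (hs : s ⊆ D) {V : Subgroup M} (hV : V ≤ ⨆ a ∈ s, W a) {c : M} (hc : c ∈ V) (hfix : ∀ d ∈ D, d c = c) : c = 1 := by
  classical
  haveI : Fintype D := Fintype.ofFinite D
  let N : M →* M := MonoidHom.mk' (fun m => ∏ d : D, (d : MulAut M) m) fun m m' => by
    simp_rw [map_mul]; exact Finset.prod_mul_distrib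
  have hker : (⨆ a ∈ s, W a) ≤ N.ker := by
    refine iSup₂_le fun a ha => ?_
    rintro _ ⟨m, rfl⟩
    rw [MonoidHom.mem_ker, show dlt a m = a m * m⁻¹ from rfl, map_mul, map_inv, mul_inv_eq_one]
    show ∏ d : D, (d : MulAut M) (a m) = ∏ d : D, (d : MulAut M) m
    exact Fintype.prod_equiv (Equiv.mulRight (⟨a, hs ha⟩ : D)) _ _ fun d => rfl
  have h1 : N c = 1 := hker (hV hc)
  have h2 : N c = c ^ Nat.card D := by
    show ∏ d : D, (d : MulAut M) c = _
    rw [Finset.prod_congr rfl fun (d : D) _ => hfix _ d.2, Finset.prod_const, Finset.card_univ,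
      Nat.card_eq_fintype_card]
  rwa [h2, pow_odd hexp hodd] at h1

end Odd

/-- The hypothesis on the ambient odd group. -/
structure Amb (p : ℕ) {A : Type*} [Group A] (G : Subgroup A) : Prop where
  odd : Odd (Nat.card G)
  primes : ∀ q : ℕ, q.Prime → q ∣ Nat.card G → q = 3 ∨ q = p

theorem commute_of_cube {A : Type*} [Group A] {a b c : A} (ha : a ^ 3 = 1) (hc : a * b * a⁻¹ = c * b)
    (hca : Commute a c) : c ^ 3 = 1 := by
  have h : ∀ k : ℕ, a ^ k * b * (a ^ k)⁻¹ = c ^ k * b := by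
    intro k
    induction k with
    | zero => simp
    | succ k ih =>
      calc a ^ (k + 1) * b * (a ^ (k + 1))⁻¹ = a * (a ^ k * b * (a ^ k)⁻¹) * a⁻¹ := by rw [pow_succ']; group
        _ = a * c ^ k * (b * a⁻¹) := by rw [ih]; group
        _ = c ^ k * (a * b * a⁻¹) := by rw [(hca.pow_right k).eq]; group
        _ = c ^ (k + 1) * b := by rw [hc, pow_succ, mul_assoc]
  have h3 := h 3
  rw [ha, one_mul, inv_one, mul_one] at h3
  exact (mul_eq_right.1 h3.symm)

section Small

variable {M : Type*} [CommGroup M] [Finite M] (hexp : ∀ m : M, m ^ 2 = 1) {p : ℕ} (hp : p.Prime)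
  {G : Subgroup (MulAut M)} (hG : Amb p G)
include hexp hp hG

theorem closure_facts {s : Set (MulAut M)} (hs : s ⊆ G) :
    Odd (Nat.card (closure s)) ∧ closure s ≤ stab (⨆ a ∈ s, W a) ∧
      ∀ q : ℕ, q.Prime → q ∣ Nat.card (closure s) → q = 3 ∨ q = p := by
  have hle : closure s ≤ G := (closure_le _).2 hs
  refine ⟨hG.odd.of_dvd_nat (card_dvd_of_le hle), (closure_le _).2 fun a ha => ?_,
    fun q hq hd => hG.primes q hq (hd.trans (card_dvd_of_le hle))⟩
  exact le_iSup₂ (f := fun a (_ : a ∈ s) => W a) a ha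

theorem comm_le_eight {s : Set (MulAut M)} (hs : s ⊆ G) (hp7 : p ≠ 7)
    (hV : Nat.card (⨆ a ∈ s, W a : Subgroup M) ≤ 8) : ∀ a ∈ s, ∀ b ∈ s, Commute a b := by
  obtain ⟨hodd, hst, hpr⟩ := closure_facts hexp hp hG hs
  set D := closure s with hD
  set V : Subgroup M := ⨆ a ∈ s, W a with hVdef
  obtain ⟨n, hn⟩ := (IsPGroup.iff_card (p := 2)).1
    (fun v : V => ⟨1, Subtype.ext (by simpa using hexp (v : M))⟩ : IsPGroup 2 V)
  have hn3 : n ≤ 3 := by
    by_contra h
    have : 2 ^ 4 ≤ 2 ^ n := Nat.pow_le_pow_right (by norm_num) (by omega)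
    omega
  have hd := card_dvd_of_stab hexp D hodd V hst hn
  have h7 : ¬ 7 ∣ Nat.card D := fun h => by
    rcases hpr 7 (by norm_num) h with e | e
    · norm_num at e
    · exact hp7 e.symm
  have h3 : Nat.card D ∣ 3 := by
    have h168 : Nat.card D ∣ 168 := by
      refine hd.trans ?_
      interval_cases n <;> decide
    have h21 : Nat.card D ∣ 8 * 21 := h168
    have h21' : Nat.card D ∣ 21 := (Nat.Coprime.dvd_of_dvd_mul_left
      (Nat.Coprime.pow_right 3 (Nat.coprime_two_right.2 hodd) : (Nat.card D).Coprime (2 ^ 3)) h21)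
    exact Nat.Coprime.dvd_of_dvd_mul_left
      ((Nat.Prime.coprime_iff_not_dvd (by norm_num : Nat.Prime 7)).2 h7).symm (show Nat.card D ∣ 7 * 3 from h21')
  haveI : Fact (Nat.Prime 3) := ⟨Nat.prime_three⟩
  have hcyc : IsCyclic D := by
    rcases (Nat.dvd_prime Nat.prime_three).1 h3 with h | h
    · haveI : Subsingleton D := (Nat.card_eq_one_iff_unique.1 h).1
      infer_instance
    · exact isCyclic_of_prime_card h
  intro a ha b hb
  haveI := hcyc
  letI := IsCyclic.commGroup (α := D)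
  exact congrArg Subtype.val (mul_comm (⟨a, subset_closure ha⟩ : D) ⟨b, subset_closure hb⟩)

theorem comm_sixteen {s : Set (MulAut M)} (hs : s ⊆ G) (hs3 : ∀ a ∈ s, a ^ 3 = 1)
    (hV : Nat.card (⨆ a ∈ s, W a : Subgroup M) = 16) : ∀ a ∈ s, ∀ b ∈ s, Commute a b := by
  classical
  obtain ⟨hodd, hst, hpr⟩ := closure_facts hexp hp hG hs
  set D := closure s with hD
  set V : Subgroup M := ⨆ a ∈ s, W a with hVdef
  have hd : Nat.card D ∣ 2 ^ 6 * 315 := (card_dvd_of_stab hexp D hodd V hst (n := 4) hV).trans (by decide)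
  have hd' : Nat.card D ∣ 315 := Nat.Coprime.dvd_of_dvd_mul_left
    ((Nat.coprime_two_right.2 hodd).pow_right 6) hd
  intro a ha b hb
  set a' : D := ⟨a, subset_closure ha⟩ with ha'
  set b' : D := ⟨b, subset_closure hb⟩ with hb'
  suffices h : Commute a' b' from congrArg Subtype.val h.eq
  by_cases hdiv : ∃ q : ℕ, q.Prime ∧ q ≠ 3 ∧ q ∣ Nat.card D
  swap
  · push Not at hdiv
    have h35 : (Nat.card D).Coprime 35 := Nat.coprime_of_dvd fun q hq h1 h2 => by
      by_cases h3 : q = 3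
      · subst h3; norm_num at h2
      · exact hdiv q hq h3 h1
    have h9 : Nat.card D ∣ 3 ^ 2 := Nat.Coprime.dvd_of_dvd_mul_left h35 (show Nat.card D ∣ 35 * 3 ^ 2 from hd')
    haveI : Fact (Nat.Prime 3) := ⟨Nat.prime_three⟩
    obtain ⟨i, hi, hc⟩ := (Nat.dvd_prime_pow Nat.prime_three).1 h9
    rcases (show i = 0 ∨ i = 1 ∨ i = 2 by omega) with rfl | rfl | rfl
    · haveI : Subsingleton D := (Nat.card_eq_one_iff_unique.1 (by simpa using hc)).1
      exact Subsingleton.elim _ _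
    · haveI : IsCyclic D := isCyclic_of_prime_card (p := 3) (by simpa using hc)
      letI := IsCyclic.commGroup (α := D)
      exact mul_comm a' b'
    · exact ((IsPGroup.isMulCommutative_of_card_eq_prime_sq hc).is_comm.comm a' b' :)
  obtain ⟨q, hq, hq3, hqD⟩ := hdiv
  have hqp : q = p := (hpr q hq hqD).resolve_left hq3
  subst hqp
  have hq57 : q = 5 ∨ q = 7 := by
    have := (Nat.Prime.dvd_mul hq).1 (hqD.trans hd' : q ∣ 9 * 35)
    rcases this with h | h
    · exact absurd ((Nat.prime_dvd_prime_iff_eq hq Nat.prime_three).1 (hq.dvd_of_dvd_pow (n := 2) h)) hq3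
    · rcases (Nat.Prime.dvd_mul hq).1 (show q ∣ 5 * 7 from h) with h | h
      · exact Or.inl ((Nat.prime_dvd_prime_iff_eq hq (by norm_num)).1 h)
      · exact Or.inr ((Nat.prime_dvd_prime_iff_eq hq (by norm_num)).1 h)
  haveI := Fact.mk hq
  have hdq : Nat.card D ∣ q * 3 ^ 2 := by
    rcases hq57 with rfl | rfl
    · refine Nat.Coprime.dvd_of_dvd_mul_left ?_ (show Nat.card D ∣ 7 * (5 * 3 ^ 2) from hd')
      exact Nat.Coprime.symm ((Nat.Prime.coprime_iff_not_dvd (by norm_num)).2 fun h => by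
        rcases hpr 7 (by norm_num) h with e | e <;> norm_num at e)
    · refine Nat.Coprime.dvd_of_dvd_mul_left ?_ (show Nat.card D ∣ 5 * (7 * 3 ^ 2) from hd')
      exact Nat.Coprime.symm ((Nat.Prime.coprime_iff_not_dvd (by norm_num)).2 fun h => by
        rcases hpr 5 (by norm_num) h with e | e <;> norm_num at e)
  obtain ⟨P⟩ := (inferInstance : Nonempty (Sylow q D))
  have hPc : Nat.card (P : Subgroup D) = q := by
    obtain ⟨i, hi⟩ := IsPGroup.iff_card.1 P.isPGroup'
    have h1 : q ^ i ∣ q * 3 ^ 2 := hi ▸ (card_subgroup_dvd_card _).trans hdq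
    have h2 : ¬ q ^ 2 ∣ q * 3 ^ 2 := by rcases hq57 with rfl | rfl <;> decide
    have h3 : 1 ≤ i := by
      by_contra h
      have := P.not_dvd_index
      rw [← card_mul_index (P : Subgroup D), hi, show i = 0 by omega, pow_zero, one_mul] at hqD
      exact this hqD
    have h4 : i < 2 := by
      by_contra h
      exact h2 ((pow_dvd_pow q (not_lt.1 h)).trans h1)
    rw [hi, show i = 1 by omega, pow_one]
  have hidx : (P : Subgroup D).index ∣ 3 ^ 2 := by
    rw [← card_mul_index (P : Subgroup D), hPc] at hdq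
    exact Nat.dvd_of_mul_dvd_mul_left hq.pos hdq
  haveI hPn : (P : Subgroup D).Normal := by
    have h1 : Nat.card (Sylow q D) ∣ 3 ^ 2 := P.card_dvd_index.trans hidx
    have h2 := card_sylow_modEq_one q D
    haveI : Subsingleton (Sylow q D) := by
      refine (Nat.card_eq_one_iff_unique.1 ?_).1
      obtain ⟨i, hi, hc⟩ := (Nat.dvd_prime_pow Nat.prime_three).1 h1
      rw [hc] at h2 ⊢
      rcases (show i = 0 ∨ i = 1 ∨ i = 2 by omega) with rfl | rfl | rfl
      · simp
      · rcases hq57 with rfl | rfl <;> simp [Nat.ModEq] at h2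
      · rcases hq57 with rfl | rfl <;> simp [Nat.ModEq] at h2
    exact Sylow.normal_of_subsingleton P
  rcases hq57 with rfl | rfl
  · have hcen : ∀ g : D, g ^ 3 = 1 → ∀ c ∈ (P : Subgroup D), Commute g c := by
      intro g hg c hc
      haveI : IsCyclic (P : Subgroup D) := isCyclic_of_prime_card hPc
      have h1 : (MulAut.conjNormal g : MulAut (P : Subgroup D)) ^ 3 = 1 := by rw [← map_pow, hg, map_one]
      have h2 : (MulAut.conjNormal g : MulAut (P : Subgroup D)) ^ 4 = 1 := by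
        have h := pow_card_eq_one' (G := MulAut (P : Subgroup D)) (x := MulAut.conjNormal g)
        rwa [IsCyclic.card_mulAut, hPc, Nat.totient_prime (by norm_num)] at h
      rw [pow_succ, h1, one_mul] at h2
      have h3 := congrArg Subtype.val (DFunLike.congr_fun h2 ⟨c, hc⟩)
      rw [MulAut.conjNormal_apply, MulAut.one_apply] at h3
      exact mul_inv_eq_iff_eq_mul.1 h3
    have hab : ∀ u v : D ⧸ (P : Subgroup D), u * v = v * u := by
      haveI : Fact (Nat.Prime 3) := ⟨Nat.prime_three⟩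
      obtain ⟨i, hi, hc⟩ := (Nat.dvd_prime_pow Nat.prime_three).1 hidx
      rw [index_eq_card] at hc
      rcases (show i = 0 ∨ i = 1 ∨ i = 2 by omega) with rfl | rfl | rfl
      · haveI : Subsingleton (D ⧸ (P : Subgroup D)) := (Nat.card_eq_one_iff_unique.1 (by simpa using hc)).1
        exact fun u v => Subsingleton.elim _ _
      · haveI : IsCyclic (D ⧸ (P : Subgroup D)) := isCyclic_of_prime_card (p := 3) (by simpa using hc)
        letI := IsCyclic.commGroup (α := D ⧸ (P : Subgroup D))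
        exact fun u v => mul_comm u v
      · exact fun u v => ((IsPGroup.isMulCommutative_of_card_eq_prime_sq hc).is_comm.comm u v :)
    have hcP : ⁅a', b'⁆ ∈ (P : Subgroup D) := by
      rw [← QuotientGroup.eq_one_iff]
      show QuotientGroup.mk' (P : Subgroup D) ⁅a', b'⁆ = 1
      rw [map_commutatorElement, commutatorElement_eq_one_iff_mul_comm]
      exact hab _ _
    have ha3 : a' ^ 3 = 1 := Subtype.ext (hs3 a ha)
    have h3 : ⁅a', b'⁆ ^ 3 = 1 := commute_of_cube (b := b') ha3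
      (by rw [commutatorElement_def]; group) (hcen a' ha3 _ hcP)
    have h5 : ⁅a', b'⁆ ^ 5 = 1 := by
      have h : (⟨⁅a', b'⁆, hcP⟩ : (P : Subgroup D)) ^ Nat.card (P : Subgroup D) = 1 := pow_card_eq_one'
      rw [hPc] at h
      exact congrArg Subtype.val h
    have h1 : ⁅a', b'⁆ ^ (Nat.gcd 3 5) = 1 := pow_gcd_eq_one.2 ⟨h3, h5⟩
    rw [show Nat.gcd 3 5 = 1 from rfl, pow_one, commutatorElement_eq_one_iff_mul_comm] at h1
    exact h1
  · exfalso
    set P₀ : Subgroup (MulAut M) := (P : Subgroup D).map D.subtype with hP₀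
    have hP₀D : P₀ ≤ D := map_subtype_le _
    have hP₀c : Nat.card P₀ = 7 := by rw [hP₀, card_map_of_injective D.subtype_injective, hPc]
    have hinv : ∀ d ∈ P₀, ∀ v ∈ V, d v ∈ V := fun d hd v hv => apply_mem (hst (hP₀D hd)) hv
    letI : MulAction P₀ V :=
      { smul := fun d v => ⟨(d : MulAut M) v, hinv d d.2 v v.2⟩
        one_smul := fun v => Subtype.ext rfl
        mul_smul := fun d e v => Subtype.ext rfl }
    haveI : Fact (Nat.Prime 7) := ⟨by norm_num⟩
    have hP7 : IsPGroup 7 P₀ := IsPGroup.of_card (n := 1) (by rw [hP₀c, pow_one])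
    have hmod := hP7.card_modEq_card_fixedPoints V
    let C₀ : Subgroup M :=
      { carrier := {v | v ∈ V ∧ ∀ d ∈ P₀, d v = v}
        one_mem' := ⟨one_mem V, fun d _ => map_one d⟩
        mul_mem' := fun {u v} hu hv => ⟨mul_mem hu.1 hv.1, fun d hd => by rw [map_mul, hu.2 d hd, hv.2 d hd]⟩
        inv_mem' := fun {u} hu => ⟨inv_mem hu.1, fun d hd => by rw [map_inv, hu.2 d hd]⟩ }
    have hC₀ : Nat.card (MulAction.fixedPoints P₀ V) = Nat.card C₀ := Nat.card_congr
      { toFun := fun v => ⟨(v : V), (v : V).2, fun d hd => congrArg Subtype.val (v.2 ⟨d, hd⟩)⟩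
        invFun := fun v => ⟨⟨v, v.2.1⟩, fun d => Subtype.ext (v.2.2 d d.2)⟩
        left_inv := fun v => Subtype.ext (Subtype.ext rfl)
        right_inv := fun v => Subtype.ext rfl }
    rw [hC₀, hV] at hmod
    have hC₀V : C₀ ≤ V := fun v hv => hv.1
    have hdvd : Nat.card C₀ ∣ 2 ^ 4 := (card_dvd_of_le hC₀V).trans (dvd_of_eq hV)
    obtain ⟨i, hi, hc⟩ := (Nat.dvd_prime_pow Nat.prime_two).1 hdvd
    rw [hc] at hmod
    rcases (show i = 0 ∨ i = 1 ∨ i = 2 ∨ i = 3 ∨ i = 4 by omega) with rfl | rfl | rfl | rfl | rfl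
    · simp [Nat.ModEq] at hmod
    · haveI : Fact (Nat.Prime 2) := ⟨Nat.prime_two⟩
      obtain ⟨c, hcC, hne1⟩ := (Subgroup.bot_or_exists_ne_one C₀).resolve_left fun h => by
        rw [h, card_bot] at hc; norm_num at hc
      have hc1 : (⟨c, hcC⟩ : C₀) ≠ 1 := fun e => hne1 (congrArg Subtype.val e)
      refine hc1 (Subtype.ext (fixed_eq_one hexp D hodd subset_closure (V := V) le_rfl (hC₀V hcC) fun d hd => ?_))
      have hdc : d c ∈ C₀ := by
        refine ⟨apply_mem (hst hd) hcC.1, fun e he => ?_⟩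
        have he' : d⁻¹ * e * d ∈ P₀ := by
          obtain ⟨e', he', rfl⟩ := he
          exact ⟨_, hPn.conj_mem' e' he' ⟨d, hd⟩, rfl⟩
        have h := congrArg (fun v => d v) (hcC.2 _ he')
        simpa [MulAut.inv_def] using h
      obtain ⟨o, ho1, hou⟩ : ∃ o : C₀, o ≠ 1 ∧ ∀ u : C₀, u ≠ 1 → u = o := by
        obtain ⟨o, o', hoo, huniv⟩ := Nat.card_eq_two_iff.1 (hc.trans (pow_one 2))
        have hu : ∀ u : C₀, u = o ∨ u = o' := fun u => by
          have := huniv.symm ▸ Set.mem_univ u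
          simpa using this
        rcases hu 1 with h | h
        · exact ⟨o', fun e => hoo (by rw [e, h]), fun u hu1 => (hu u).resolve_left (fun e => hu1 (e.trans h.symm))⟩
        · exact ⟨o, fun e => hoo (by rw [e, h]), fun u hu1 => (hu u).resolve_right (fun e => hu1 (e.trans h.symm))⟩
      have hne : (⟨d c, hdc⟩ : C₀) ≠ 1 := fun e => hne1 (d.injective (show d c = d 1 by
        rw [map_one]; exact congrArg Subtype.val e))
      exact congrArg Subtype.val ((hou _ hne).trans (hou _ hc1).symm)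
    · simp [Nat.ModEq] at hmod
    · simp [Nat.ModEq] at hmod
    · have hCV : C₀ = V := eq_of_le_of_card_ge hC₀V (by rw [hc, hV]; norm_num)
      obtain ⟨d, hdP, hd1⟩ := (Subgroup.bot_or_exists_ne_one P₀).resolve_left fun h => by
        rw [h, card_bot] at hP₀c; norm_num at hP₀c
      refine hd1 (eq_one_of_trivial hexp hodd ?_ (hst (hP₀D hdP)) fun v hv => ?_)
      · have h : (⟨d, hP₀D hdP⟩ : D) ^ Nat.card D = 1 := pow_card_eq_one'
        exact congrArg Subtype.val h
      · exact (hCV.symm ▸ hv : v ∈ C₀).2 d hdP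

theorem card_sup_le (U U' : Subgroup M) : Nat.card (U ⊔ U' : Subgroup M) * Nat.card (U ⊓ U' : Subgroup M) ≤
    Nat.card U * Nat.card U' := by
  have h1 : (U ⊓ U').relIndex U * Nat.card (U ⊓ U' : Subgroup M) = Nat.card U :=
    (mul_comm _ _).trans (Cfsg.Lib.Core.card_mul_relIndex inf_le_left)
  have h2 : U'.relIndex (U ⊔ U') * Nat.card U' = Nat.card (U ⊔ U' : Subgroup M) :=
    (mul_comm _ _).trans (Cfsg.Lib.Core.card_mul_relIndex le_sup_right)
  rw [inf_comm, inf_relIndex_right] at h1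
  rw [relIndex_sup_right] at h2
  rw [← h2, inf_comm U U']
  calc U'.relIndex U * Nat.card U' * Nat.card (U' ⊓ U : Subgroup M)
      = U'.relIndex U * Nat.card (U' ⊓ U : Subgroup M) * Nat.card U' := by ring
    _ ≤ Nat.card U * Nat.card U' := by rw [h1]

theorem pair_le {a b : MulAut M} (hWa : Nat.card (W a) = 4) (hWb : Nat.card (W b) = 4) :
    Nat.card (⨆ c ∈ ({a, b} : Set (MulAut M)), W c : Subgroup M) ≤ 16 := by
  rw [iSup_pair]
  have h := card_sup_le hexp hp hG (W a) (W b)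
  rw [hWa, hWb] at h
  exact le_trans (Nat.le_mul_of_pos_right _ Nat.card_pos) h

theorem card_two_pow (V : Subgroup M) : ∃ n, Nat.card V = 2 ^ n :=
  (IsPGroup.iff_card (p := 2)).1 (fun v : V => ⟨1, Subtype.ext (by simpa using hexp (v : M))⟩ : IsPGroup 2 V)

theorem noncomm_pair {a b : MulAut M} (ha : a ∈ G) (hb : b ∈ G) (ha3 : a ^ 3 = 1) (hb3 : b ^ 3 = 1)
    (hWa : Nat.card (W a) = 4) (hWb : Nat.card (W b) = 4) (hab : ¬ Commute a b) :
    p = 7 ∧ Nat.card (W a ⊔ W b : Subgroup M) = 8 := by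
  have hs : ({a, b} : Set (MulAut M)) ⊆ G := Set.insert_subset ha (Set.singleton_subset_iff.2 hb)
  have hs3 : ∀ c ∈ ({a, b} : Set (MulAut M)), c ^ 3 = 1 := by rintro c (rfl | rfl) <;> assumption
  obtain ⟨n, hn⟩ := card_two_pow hexp hp hG (⨆ c ∈ ({a, b} : Set (MulAut M)), W c)
  have hle : 2 ^ n ≤ 2 ^ 4 := hn ▸ pair_le hexp hp hG hWa hWb
  have hn4 : n ≠ 4 := fun e => hab (comm_sixteen hexp hp hG hs hs3 (by rw [hn, e]; rfl) a (by simp) b (by simp))
  have hn3 : n ≤ 3 := by have := (Nat.pow_le_pow_iff_right (by norm_num)).1 hle; omega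
  have h8 : 2 ^ n ≤ 8 := le_trans (Nat.pow_le_pow_right (by norm_num) hn3) (by norm_num)
  have hp7 : p = 7 := by
    by_contra h
    exact hab (comm_le_eight hexp hp hG hs h (hn ▸ h8) a (by simp) b (by simp))
  rw [iSup_pair] at hn
  refine ⟨hp7, ?_⟩
  have h4 : 4 ≤ 2 ^ n := hn ▸ hWa ▸ card_le_of_le (le_sup_left : W a ≤ W a ⊔ W b)
  have hn2 : n ≠ 2 := fun e => by
    rw [e] at hn
    have e1 : W a = W a ⊔ W b := eq_of_le_of_card_ge le_sup_left (by rw [hn, hWa]; norm_num)
    have e2 : W b ≤ W a := e1 ▸ le_sup_right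
    obtain ⟨hodd, hst, hpr⟩ := closure_facts hexp hp hG hs
    have hd := card_dvd_of_stab hexp _ hodd _ hst (n := 2) (by rw [iSup_pair, hn])
    have hd3 : Nat.card (closure ({a, b} : Set (MulAut M))) ∣ 3 :=
      Nat.Coprime.dvd_of_dvd_mul_left (Nat.coprime_two_right.2 hodd) (show _ ∣ 2 * 3 from hd.trans (by decide))
    haveI : Fact (Nat.Prime 3) := ⟨Nat.prime_three⟩
    apply hab
    rcases (Nat.dvd_prime Nat.prime_three).1 hd3 with h | h
    · have h1 := (card_eq_one.1 h)
      have ha1 : a ∈ closure ({a, b} : Set (MulAut M)) := subset_closure (by simp)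
      rw [h1, mem_bot] at ha1
      rw [ha1]
      exact Commute.one_left b
    · haveI : IsCyclic (closure ({a, b} : Set (MulAut M))) := isCyclic_of_prime_card h
      letI := IsCyclic.commGroup (α := closure ({a, b} : Set (MulAut M)))
      exact congrArg Subtype.val (mul_comm (⟨a, subset_closure (by simp)⟩ : closure ({a, b} : Set (MulAut M)))
        ⟨b, subset_closure (by simp)⟩)
  have : 2 ^ 2 ≤ 2 ^ n := h4
  have := (Nat.pow_le_pow_iff_right (by norm_num : 1 < 2)).1 this
  rw [hn, show n = 3 by omega]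
  norm_num

theorem unique_triple {a b c : MulAut M} (ha : a ∈ G) (hb : b ∈ G) (hc : c ∈ G) (ha3 : a ^ 3 = 1) (hb3 : b ^ 3 = 1)
    (hc3 : c ^ 3 = 1) (hWa : Nat.card (W a) = 4) (hWb : Nat.card (W b) = 4) (hWc : Nat.card (W c) = 4)
    (hab : ¬ Commute a b) (hac : ¬ Commute a c) : W a ⊔ W b = W a ⊔ W c := by
  obtain ⟨-, hU⟩ := noncomm_pair hexp hp hG ha hb ha3 hb3 hWa hWb hab
  obtain ⟨-, hU'⟩ := noncomm_pair hexp hp hG ha hc ha3 hc3 hWa hWc hac
  by_contra hne
  have hs : ({a, b, c} : Set (MulAut M)) ⊆ G :=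
    Set.insert_subset ha (Set.insert_subset hb (Set.singleton_subset_iff.2 hc))
  have hV : (⨆ d ∈ ({a, b, c} : Set (MulAut M)), W d) = (W a ⊔ W b) ⊔ (W a ⊔ W c) := by
    rw [iSup_insert, iSup_pair]
    exact le_antisymm (sup_le (le_sup_of_le_left le_sup_left) (sup_le_sup le_sup_right le_sup_right))
      (sup_le (sup_le le_sup_left (le_sup_of_le_right le_sup_left)) (sup_le le_sup_left (le_sup_of_le_right le_sup_right)))
  have h := card_sup_le hexp hp hG (W a ⊔ W b) (W a ⊔ W c)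
  have h4 : 4 ≤ Nat.card ((W a ⊔ W b) ⊓ (W a ⊔ W c) : Subgroup M) :=
    hWa ▸ card_le_of_le (le_inf le_sup_left le_sup_left)
  rw [hU, hU'] at h
  obtain ⟨n, hn⟩ := card_two_pow hexp hp hG ((W a ⊔ W b) ⊔ (W a ⊔ W c))
  have hle : 2 ^ n ≤ 2 ^ 4 := by rw [← hn]; nlinarith
  have h8 : 2 ^ 3 ≤ 2 ^ n := by
    rw [← hn]
    exact (le_of_eq (by rw [hU]; norm_num)).trans (card_le_of_le le_sup_left)
  have h1 := (Nat.pow_le_pow_iff_right (by norm_num : 1 < 2)).1 hle
  have h2 := (Nat.pow_le_pow_iff_right (by norm_num : 1 < 2)).1 h8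
  rcases (show n = 3 ∨ n = 4 by omega) with rfl | rfl
  · have e1 := eq_of_le_of_card_ge (le_sup_left : W a ⊔ W b ≤ _) (by rw [hn, hU]; norm_num : Nat.card ((W a ⊔ W b) ⊔ (W a ⊔ W c) : Subgroup M) ≤ _)
    have e2 := eq_of_le_of_card_ge (le_sup_right : W a ⊔ W c ≤ _) (by rw [hn, hU']; norm_num : Nat.card ((W a ⊔ W b) ⊔ (W a ⊔ W c) : Subgroup M) ≤ _)
    exact hne (e1.trans e2.symm)
  · exact hab (comm_sixteen hexp hp hG hs (by rintro d (rfl | rfl | rfl) <;> assumption) (by rw [hV, hn]; norm_num)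
      a (by simp) b (by simp))

theorem commute_same_partner {a a' b : MulAut M} (ha : a ∈ G) (ha' : a' ∈ G) (ha3 : a ^ 3 = 1) (ha'3 : a' ^ 3 = 1)
    (hWa : Nat.card (W a) = 4) (hW : W a' = W a) (hab : ¬ Commute a b) : ¬ Commute a' b := by
  intro h
  apply hab
  have hs : ({a, a'} : Set (MulAut M)) ⊆ G := Set.insert_subset ha (Set.singleton_subset_iff.2 ha')
  obtain ⟨hodd, hst, -⟩ := closure_facts hexp hp hG hs
  have hd := card_dvd_of_stab hexp _ hodd _ hst (n := 2) (by rw [iSup_pair, hW, sup_idem, hWa]; norm_num)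
  have hd3 : Nat.card (closure ({a, a'} : Set (MulAut M))) ∣ 3 :=
    Nat.Coprime.dvd_of_dvd_mul_left (Nat.coprime_two_right.2 hodd) (show _ ∣ 2 * 3 from hd.trans (by decide))
  have ha'1 : a' ≠ 1 := fun e => by
    have h1 : W (1 : MulAut M) = ⊥ := le_bot_iff.1 ((stab (⊥ : Subgroup M)).one_mem)
    rw [← hW, e, h1, card_bot] at hWa
    norm_num at hWa
  haveI : Fact (Nat.Prime 3) := ⟨Nat.prime_three⟩
  have heq : zpowers a' = closure ({a, a'} : Set (MulAut M)) := by
    refine eq_of_le_of_card_ge (zpowers_le.2 (subset_closure (by simp))) ?_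
    rw [Nat.card_zpowers, orderOf_eq_prime ha'3 ha'1]
    exact Nat.le_of_dvd (by norm_num) hd3
  obtain ⟨k, rfl⟩ := mem_zpowers_iff.1 (heq ▸ subset_closure (by simp) : a ∈ zpowers a')
  exact h.zpow_left k

end Small

section Orbit

variable {M : Type*} [CommGroup M] [Finite M] (hexp : ∀ m : M, m ^ 2 = 1) {p : ℕ} [hp : Fact p.Prime]
  {G : Subgroup (MulAut M)} (hG : Amb p G)

/-- Conjugates by powers. -/
def cj (e x : MulAut M) (i : ℕ) : MulAut M := e ^ i * x * (e ^ i)⁻¹

theorem period_inj {e : MulAut M} (he : e ^ p = 1) {U : Subgroup M} (hne : U.map e.toMonoidHom ≠ U) {i j : ℕ}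
    (hi : i < p) (hj : j < p) (h : U.map (e ^ i).toMonoidHom = U.map (e ^ j).toMonoidHom) : i = j := by
  by_contra hij
  wlog hlt : i < j generalizing i j
  · exact this hj hi h.symm (Ne.symm hij) (by omega)
  apply hne
  let T : Subgroup (MulAut M) :=
    { carrier := {d | U.map d.toMonoidHom = U}
      one_mem' := Subgroup.map_id U
      mul_mem' := fun {d d'} hd hd' => by
        show U.map (d * d').toMonoidHom = U
        rw [show (d * d').toMonoidHom = d.toMonoidHom.comp d'.toMonoidHom from rfl, ← Subgroup.map_map, hd', hd]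
      inv_mem' := fun {d} hd => by
        show U.map d⁻¹.toMonoidHom = U
        conv_lhs => rw [← (hd : U.map d.toMonoidHom = U), Subgroup.map_map]
        rw [show d⁻¹.toMonoidHom.comp d.toMonoidHom = MonoidHom.id M from MonoidHom.ext fun m => by simp [MulAut.inv_def],
          Subgroup.map_id] }
  show e ∈ T
  have hT : e ^ (j - i) ∈ T := by
    show U.map (e ^ (j - i)).toMonoidHom = U
    apply Subgroup.map_injective (f := (e ^ i).toMonoidHom) (e ^ i).injective
    rw [Subgroup.map_map, show (e ^ i).toMonoidHom.comp (e ^ (j - i)).toMonoidHom = (e ^ j).toMonoidHom by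
      rw [show e ^ j = e ^ i * e ^ (j - i) by rw [← pow_add]; congr 1; omega]; rfl, ← h]
  have hcop : (j - i).Coprime p := ((hp.out.coprime_iff_not_dvd).2
    (Nat.not_dvd_of_pos_of_lt (by omega) (by omega))).symm
  obtain ⟨k, hk⟩ := exists_pow_eq_self_of_coprime (x := e) (hcop.coprime_dvd_right (orderOf_dvd_of_pow_eq_one he))
  rw [← hk]
  exact pow_mem hT k

include hexp hG

theorem four_commuting (a : Fin 4 → MulAut M) (ha : ∀ i, a i ∈ G) (ha3 : ∀ i, a i ^ 3 = 1)
    (hW : ∀ i, Nat.card (W (a i)) = 4) (hinj : Function.Injective fun i => W (a i)) (hc : ∀ i j, Commute (a i) (a j)) :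
    ∃ T : Subgroup (MulAut M), T ≤ G ∧ IsMulCommutative T ∧ (∀ t ∈ T, t ^ 3 = 1) ∧ 81 ≤ Nat.card T := by
  classical
  haveI : Fact (Nat.Prime 3) := ⟨Nat.prime_three⟩
  let S : ℕ → Subgroup (MulAut M) := fun k => closure (a '' {i | (i : ℕ) < k})
  have hcomm : ∀ k, IsMulCommutative (S k) := fun k => Subgroup.isMulCommutative_closure (by
    rintro _ ⟨i, -, rfl⟩ _ ⟨j, -, rfl⟩; exact hc i j)
  have hcube : ∀ k, ∀ t ∈ S k, t ^ 3 = 1 := fun k t ht => by
    induction ht using closure_induction with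
    | mem z hz => obtain ⟨i, -, rfl⟩ := hz; exact ha3 i
    | one => exact one_pow 3
    | mul z z' hz hz' h1 h2 =>
      haveI := hcomm k
      rw [(show Commute z z' from congrArg Subtype.val (IsMulCommutative.is_comm.comm (⟨z, hz⟩ : S k) ⟨z', hz'⟩)).mul_pow,
        h1, h2, one_mul]
    | inv z hz h1 => rw [inv_pow, h1, inv_one]
  have hcard : ∀ k, k ≤ 4 → 3 ^ k ≤ Nat.card (S k) := by
    intro k
    induction k with
    | zero => intro _; simp only [pow_zero]; exact Nat.card_pos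
    | succ k ih =>
      intro hk
      have hle : S k ≤ S (k + 1) := closure_mono (Set.image_mono fun i (hi : (i : ℕ) < k) => Nat.lt_succ_of_lt hi)
      set i₀ : Fin 4 := ⟨k, by omega⟩
      have hmem : a i₀ ∈ S (k + 1) := subset_closure ⟨i₀, Nat.lt_succ_self k, rfl⟩
      have hnot : a i₀ ∉ S k := by
        intro h
        have hfix : ∀ t ∈ S k, ∀ w ∈ W (a i₀), t w = w := fun t ht => by
          induction ht using closure_induction with
          | mem z hz =>
            obtain ⟨i, hi, rfl⟩ := hz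
            refine fun w hw => fix_of_commute hexp (ha3 i) (hW i) (hW i₀) (hc i i₀) (fun e => ?_) hw
            have := hinj e
            rw [this] at hi
            exact absurd (hi : k < k) (lt_irrefl k)
          | one => intro w _; rfl
          | mul z z' _ _ h1 h2 => intro w hw; rw [MulAut.mul_apply, h2 w hw, h1 w hw]
          | inv z _ h1 => intro w hw; conv_lhs => rw [← h1 w hw]; simp [MulAut.inv_def]
        obtain ⟨w, hw, hw1⟩ := (Subgroup.bot_or_exists_ne_one (W (a i₀))).resolve_left fun e => by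
          have := hW i₀
          rw [e, card_bot] at this
          norm_num at this
        exact hw1 (eq_one_of_fixed hexp (ha3 i₀) hw (hfix _ h w hw))
      have hlt : Nat.card (S k) < Nat.card (S (k + 1)) := lt_of_le_of_ne (card_le_of_le hle) fun e =>
        hnot ((eq_of_le_of_card_ge hle e.ge).symm ▸ hmem)
      obtain ⟨u, hu⟩ := IsPGroup.iff_card.1 (fun t : S k => ⟨1, Subtype.ext (by simpa using hcube k _ t.2)⟩ : IsPGroup 3 (S k))
      obtain ⟨v, hv⟩ := IsPGroup.iff_card.1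
        (fun t : S (k + 1) => ⟨1, Subtype.ext (by simpa using hcube (k + 1) _ t.2)⟩ : IsPGroup 3 (S (k + 1)))
      have hk' := ih (by omega)
      rw [hu] at hk' hlt
      rw [hv] at hlt ⊢
      have h1 := (Nat.pow_le_pow_iff_right (by norm_num : 1 < 3)).1 hk'
      have h2 := (Nat.pow_lt_pow_iff_right (by norm_num : 1 < 3)).1 hlt
      exact Nat.pow_le_pow_right (by norm_num) (by omega)
  exact ⟨S 4, (closure_le _).2 (by rintro _ ⟨i, -, rfl⟩; exact ha i), hcomm 4, hcube 4, hcard 4 le_rfl⟩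

theorem orbit_dichotomy (hp5 : 5 ≤ p) {x : MulAut M} (hx : x ∈ G) (hx3 : x ^ 3 = 1) (hWx : Nat.card (W x) = 4)
    {E : Subgroup (MulAut M)} (hE : E ≤ G) (hEp : ∀ e ∈ E, e ^ p = 1) :
    (∃ T : Subgroup (MulAut M), T ≤ G ∧ IsMulCommutative T ∧ (∀ t ∈ T, t ^ 3 = 1) ∧ 81 ≤ Nat.card T) ∨
      ∃ V : Subgroup M, W x ≤ V ∧ (Nat.card V = 4 ∨ Nat.card V = 8) ∧ ∀ e ∈ E, V.map e.toMonoidHom = V := by
  classical
  by_cases hfix : ∀ e ∈ E, (W x).map e.toMonoidHom = W x
  · exact Or.inr ⟨W x, le_rfl, Or.inl hWx, hfix⟩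
  push Not at hfix
  obtain ⟨e, he, hne⟩ := hfix
  have hG' : ∀ e ∈ E, ∀ i : ℕ, cj e x i ∈ G := fun e he i =>
    mul_mem (mul_mem (pow_mem (hE he) i) hx) (inv_mem (pow_mem (hE he) i))
  have h3' : ∀ (e : MulAut M) i, cj e x i ^ 3 = 1 := fun e i => by rw [cj, conj_pow, hx3]; group
  have hW' : ∀ (e : MulAut M) i, W (cj e x i) = (W x).map (e ^ i).toMonoidHom := fun e i => W_conj _ _
  have hc' : ∀ (e : MulAut M) i, Nat.card (W (cj e x i)) = 4 := fun e i => by
    rw [hW', card_map_of_injective (e ^ i).injective, hWx]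
  have hfour : ∀ e ∈ E, (W x).map e.toMonoidHom ≠ W x → (∀ i j : Fin 4, Commute (cj e x i) (cj e x j)) →
      ∃ T : Subgroup (MulAut M), T ≤ G ∧ IsMulCommutative T ∧ (∀ t ∈ T, t ^ 3 = 1) ∧ 81 ≤ Nat.card T := by
    intro e he hne hc
    refine four_commuting hexp hG (fun i => cj e x i) (fun i => hG' e he i) (fun i => h3' e i) (fun i => hc' e i)
      (fun i j h => Fin.ext (period_inj (hEp e he) hne (by omega) (by omega) ?_)) hc
    simp only [hW'] at h
    exact h
  by_cases hc : ∀ i j : Fin 4, Commute (cj e x i) (cj e x j)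
  · exact Or.inl (hfour e he hne hc)
  push Not at hc
  obtain ⟨i, j, hij⟩ := hc
  -- a partner of `x`
  set g := e ^ (i : ℕ) with hg
  set y := g⁻¹ * cj e x j * g with hy
  have hgG : g ∈ G := pow_mem (hE he) _
  have hyG : y ∈ G := mul_mem (mul_mem (inv_mem hgG) (hG' e he j)) hgG
  have hy3 : y ^ 3 = 1 := by rw [hy, show g⁻¹ * cj e x j * g = g⁻¹ * cj e x j * g⁻¹⁻¹ by rw [inv_inv], conj_pow, h3']; group
  have hWy : Nat.card (W y) = 4 := by
    rw [hy, show g⁻¹ * cj e x j * g = g⁻¹ * cj e x j * g⁻¹⁻¹ by rw [inv_inv], W_conj,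
      card_map_of_injective g⁻¹.injective, hc']
  have hxy : ¬ Commute x y := fun h => hij (by
    have h1 := congrArg (fun t => g * t * g⁻¹) h.eq
    show cj e x i * cj e x j = cj e x j * cj e x i
    rw [show cj e x i = g * x * g⁻¹ from rfl]
    simp only [hy] at h1
    group at h1 ⊢
    exact h1)
  obtain ⟨-, hU⟩ := noncomm_pair hexp hp.out hG hx hyG hx3 hy3 hWx hWy hxy
  set U := W x ⊔ W y with hUdef
  by_cases hfixU : ∀ f ∈ E, U.map f.toMonoidHom = U
  · exact Or.inr ⟨U, le_sup_left, Or.inr hU, hfixU⟩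
  push Not at hfixU
  obtain ⟨f, hf, hfU⟩ := hfixU
  -- the conjugate pairs
  let yy : ℕ → MulAut M := fun k => f ^ k * y * (f ^ k)⁻¹
  have hyyG : ∀ k, yy k ∈ G := fun k => mul_mem (mul_mem (pow_mem (hE hf) k) hyG) (inv_mem (pow_mem (hE hf) k))
  have hyy3 : ∀ k, yy k ^ 3 = 1 := fun k => by show (f ^ k * y * (f ^ k)⁻¹) ^ 3 = 1; rw [conj_pow, hy3]; group
  have hyyW : ∀ k, Nat.card (W (yy k)) = 4 := fun k => by
    show Nat.card (W (f ^ k * y * (f ^ k)⁻¹)) = 4
    rw [W_conj, card_map_of_injective (f ^ k).injective, hWy]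
  have hnc : ∀ k, ¬ Commute (cj f x k) (yy k) := fun k h => hxy (by
    have h1 := congrArg (fun t => (f ^ k)⁻¹ * t * f ^ k) h.eq
    show x * y = y * x
    simp only [cj, yy] at h1
    group at h1 ⊢
    exact h1)
  have hUk : ∀ k, W (cj f x k) ⊔ W (yy k) = U.map (f ^ k).toMonoidHom := fun k => by
    show _ ⊔ W (f ^ k * y * (f ^ k)⁻¹) = _
    rw [hW', W_conj, hUdef, Subgroup.map_sup]
  have hWne : (W x).map f.toMonoidHom ≠ W x := by
    intro hWf
    apply hfU
    have e1 : W (cj f x 1) = W x := by rw [hW', pow_one, hWf]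
    have h1 := commute_same_partner hexp hp.out hG (hG' f hf 1) hx (h3' f 1) hx3 (hc' f 1) e1.symm (hnc 1)
    have h2 := unique_triple hexp hp.out hG hx hyG (hyyG 1) hx3 hy3 (hyy3 1) hWx hWy (hyyW 1) hxy h1
    calc U.map f.toMonoidHom = W (cj f x 1) ⊔ W (yy 1) := by rw [hUk, pow_one]
      _ = U := by rw [e1, ← h2]
  refine Or.inl (hfour f hf hWne fun i j => ?_)
  by_contra hij
  have h1 := unique_triple hexp hp.out hG (hG' f hf i) (hyyG i) (hG' f hf j) (h3' f i) (hyy3 i) (h3' f j)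
    (hc' f i) (hyyW i) (hc' f j) (hnc i) hij
  have h2 := unique_triple hexp hp.out hG (hG' f hf j) (hyyG j) (hG' f hf i) (h3' f j) (hyy3 j) (h3' f i)
    (hc' f j) (hyyW j) (hc' f i) (hnc j) (fun h => hij h.symm)
  rw [hUk] at h1 h2
  have e : (i : ℕ) = j := period_inj (hEp f hf) hfU (by omega) (by omega) (by rw [h1, h2, sup_comm])
  rw [Fin.ext e] at hij
  exact hij (Commute.refl _)

omit hp in
theorem three_fix [Fact (Nat.Prime 3)] (hG3 : Amb 3 G) {x : MulAut M} (hx : x ∈ G) (hx3 : x ^ 3 = 1)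
    (hWx : Nat.card (W x) = 4) {E : Subgroup (MulAut M)} (hE : E ≤ G) (hEp : ∀ e ∈ E, e ^ 3 = 1)
    (hEc : ∀ a ∈ E, ∀ b ∈ E, a * b = b * a) (hEn : ∀ e ∈ E, x⁻¹ * e * x ∈ E) :
    ∀ e ∈ E, (W x).map e.toMonoidHom = W x := by
  intro f hf
  by_contra hne
  have hW' : ∀ i, W (cj f x i) = (W x).map (f ^ i).toMonoidHom := fun i => W_conj _ _
  have hc' : ∀ i, Nat.card (W (cj f x i)) = 4 := fun i => by
    rw [hW', card_map_of_injective (f ^ i).injective, hWx]
  have hGi : ∀ i, cj f x i ∈ G := fun i => mul_mem (mul_mem (pow_mem (hE hf) i) hx) (inv_mem (pow_mem (hE hf) i))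
  have h3i : ∀ i, cj f x i ^ 3 = 1 := fun i => by rw [cj, conj_pow, hx3]; group
  have hc : ∀ i j, Commute (cj f x i) (cj f x j) := fun i j => by
    by_contra h
    obtain ⟨h7, -⟩ := noncomm_pair hexp Nat.prime_three hG3 (hGi i) (hGi j) (h3i i) (h3i j) (hc' i) (hc' j) h
    norm_num at h7
  have hd : ∀ i, i < 3 → i ≠ 0 → W (cj f x i) ≠ W (cj f x 0) := fun i hi hi0 h =>
    hi0 (period_inj (p := 3) (hEp f hf) hne hi (by norm_num) (by rw [← hW', ← hW', h]))
  have hm : x⁻¹ * (f * x * f⁻¹) ∈ E := by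
    rw [show x⁻¹ * (f * x * f⁻¹) = x⁻¹ * f * x * f⁻¹ by group]
    exact mul_mem (hEn f hf) (inv_mem hf)
  have hcm := hEc f hf _ hm
  have e2 : cj f x 2 = cj f x 1 * x⁻¹ * cj f x 1 := by
    show f ^ 2 * x * (f ^ 2)⁻¹ = f ^ 1 * x * (f ^ 1)⁻¹ * x⁻¹ * (f ^ 1 * x * (f ^ 1)⁻¹)
    have h := congrArg (fun t => (f * x * f⁻¹) * t * f⁻¹) hcm
    group at h ⊢
    exact h
  obtain ⟨w, hw, hw1⟩ := (Subgroup.bot_or_exists_ne_one (W x)).resolve_left fun h => by
    rw [h, card_bot] at hWx
    norm_num at hWx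
  refine hw1 (eq_one_of_fixed hexp hx3 hw ?_)
  have hx0 : cj f x 0 = x := by simp [cj]
  have f1 : cj f x 1 w = w := fix_of_commute hexp (h3i 1) (hc' 1) hWx (hx0 ▸ hc 1 0)
    (fun h => hd 1 (by norm_num) (by norm_num) (hx0.symm ▸ h)) hw
  have f2 : cj f x 2 w = w := fix_of_commute hexp (h3i 2) (hc' 2) hWx (hx0 ▸ hc 2 0)
    (fun h => hd 2 (by norm_num) (by norm_num) (hx0.symm ▸ h)) hw
  rw [e2, MulAut.mul_apply, MulAut.mul_apply, f1] at f2
  have h4 : x⁻¹ w = w := (cj f x 1).injective (f2.trans f1.symm)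
  conv_lhs => rw [← h4]
  simp [MulAut.inv_def]

end Orbit

/-! ### Facts about `p`-groups of small rank -/

theorem card_pgroup_mulAut_le {P : Type*} [Group P] [Finite P] {p : ℕ} [hp : Fact p.Prime] (_hp2 : p ≠ 2)
    (A : Subgroup P) [IsMulCommutative A] (hAp : ∀ a ∈ A, a ^ p = 1) (ha : Nat.card A = p ^ 2)
    (R : Subgroup (MulAut A)) (hR : IsPGroup p R) : Nat.card R ≤ p := by
  letI : CommGroup A := { (inferInstance : Group A) with mul_comm := fun a b => IsMulCommutative.is_comm.comm a b }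
  haveI : Module (ZMod p) (Additive A) := AddCommGroup.zmodModule fun v => by
    apply Additive.toMul.injective
    rw [toMul_nsmul, toMul_zero]
    exact Subtype.ext (by simpa using hAp _ (Additive.toMul v).2)
  haveI : Module.Finite (ZMod p) (Additive A) := Module.Finite.of_finite
  have hfr : Module.finrank (ZMod p) (Additive A) = 2 := by
    have h := Module.natCard_eq_pow_finrank (K := ZMod p) (V := Additive A)
    rw [show Nat.card (Additive A) = Nat.card A from rfl, ha, Nat.card_zmod] at h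
    exact (Nat.pow_right_injective hp.out.two_le h).symm
  let ρ : R →* (Module.End (ZMod p) (Additive A))ˣ := MonoidHom.toHomUnits
    { toFun := fun h => (((h : MulAut A)).toMonoidHom.toAdditive).toZModLinearMap p
      map_one' := by ext v; rfl
      map_mul' := fun g h => by ext v; rfl }
  have hρ : Function.Injective ρ := fun g h e => Subtype.ext (MulEquiv.ext fun v => by
    have := congrArg (fun u : (Module.End (ZMod p) (Additive A))ˣ =>
      Additive.toMul ((u : Module.End (ZMod p) (Additive A)) (Additive.ofMul v))) e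
    exact this)
  let eU : (Module.End (ZMod p) (Additive A))ˣ ≃* GL (Fin 2) (ZMod p) :=
    Units.mapEquiv (LinearMap.toMatrixAlgEquiv (Module.finBasisOfFinrankEq (ZMod p) (Additive A) hfr)).toMulEquiv
  have h := Subgroup.card_dvd_of_injective (eU.toMonoidHom.comp ρ) (eU.injective.comp hρ)
  rw [Matrix.card_GL_field, ZMod.card] at h
  simp only [Fin.prod_univ_two, Fin.val_zero, Fin.val_one, pow_zero, pow_one] at h
  obtain ⟨i, hi⟩ := IsPGroup.iff_card.1 hR
  rw [hi] at h ⊢
  have e : p ^ 2 - p = p * (p - 1) := by rw [pow_two, Nat.mul_sub, mul_one]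
  rw [e, ← mul_assoc, mul_comm _ p, mul_assoc] at h
  have hcop : ∀ t : ℕ, 0 < t → t < p → Nat.Coprime p t := fun t h0 h1 =>
    (Nat.Prime.coprime_iff_not_dvd hp.out).2 (Nat.not_dvd_of_pos_of_lt h0 h1)
  have h1 : Nat.Coprime p (p ^ 2 - 1) := by
    refine (Nat.Prime.coprime_iff_not_dvd hp.out).2 fun hd => ?_
    have h2 : p ∣ p ^ 2 := dvd_pow_self p two_ne_zero
    have h3 := Nat.dvd_sub h2 hd
    rw [Nat.sub_sub_self (Nat.one_le_pow _ _ hp.out.pos)] at h3
    exact hp.out.one_lt.ne' (Nat.dvd_one.1 h3)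
  have h2 : Nat.Coprime p (p - 1) := hcop _ (by have := hp.out.two_le; omega) (by have := hp.out.two_le; omega)
  have h3 : p ^ i ∣ p := (Nat.Coprime.pow_left i (h1.mul_right h2)).dvd_of_dvd_mul_right h
  exact Nat.le_of_dvd hp.out.pos h3

theorem exists_normal_three {P : Type*} [Group P] [Finite P] {p : ℕ} [hp : Fact p.Prime] (hp2 : p ≠ 2)
    (hP : IsPGroup p P) (E : Subgroup P) (hE : Cfsg.IsElementaryAbelian p E) (hE3 : Nat.card E = p ^ 3) :
    ∃ N : Subgroup P, N.Normal ∧ Cfsg.IsElementaryAbelian p N ∧ Nat.card N = p ^ 3 := by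
  classical
  obtain ⟨A, -, ⟨hAn, hAc, hAe⟩, hmax⟩ :=
    (Set.toFinite {A : Subgroup P | A.Normal ∧ IsMulCommutative A ∧ ∀ a ∈ A, a ^ p ^ 1 = 1}).exists_le_maximal
      (a := ⊥) ⟨inferInstance, inferInstance, fun a ha => by rw [mem_bot.1 ha, one_pow]⟩
  haveI := hAn
  haveI := hAc
  have hAp : ∀ a ∈ A, a ^ p = 1 := fun a ha => by simpa using hAe a ha
  have hcrit : ∀ x ∈ centralizer (A : Set P), x ^ p = 1 → x ∈ A := fun x hx hxp =>
    S0130.result hP 1 (by simpa using hp2) A hAc hAe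
      (fun B hBn hBc hBe hAB => le_antisymm (hmax ⟨hBn, hBc, hBe⟩ hAB) hAB) x hx (by simpa using hxp)
  obtain ⟨a, ha⟩ := IsPGroup.iff_card.1 (hP.to_subgroup A)
  by_cases h3 : 3 ≤ a
  · obtain ⟨N, hN, hNA, hNc⟩ := Cfsg.Lib.PGroup.NormalStep.exists_normal_le hP A 3 (by rw [ha]; exact pow_dvd_pow p h3)
    exact ⟨N, hN, Cfsg.Lib.PGroup.isElementaryAbelian_of_le ⟨hAc, hAp⟩ hNA, hNc⟩
  exfalso
  have hEA : ¬ E ≤ A := fun h => by
    have := card_le_of_le h
    rw [hE3, ha] at this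
    exact h3 ((Nat.pow_le_pow_iff_right hp.out.one_lt).1 this)
  have hAEc : ¬ E ≤ centralizer (A : Set P) := fun h => hEA fun x hx => hcrit x (h hx) (hE.2 x hx)
  haveI := hE.1
  by_cases ha2 : a ≤ 1
  · apply hAEc
    have hAz : A ≤ center P := by
      rcases (show a = 0 ∨ a = 1 by omega) with rfl | rfl
      · rw [(card_eq_one.1 (by simpa using ha) : A = ⊥)]; exact bot_le
      · exact Cfsg.Lib.PGroup.le_center_of_card_eq_prime hP (by simpa using ha)
    intro x _
    rw [mem_centralizer_iff]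
    exact fun y hy => (mem_center_iff.1 (hAz hy) x).symm
  obtain rfl : a = 2 := by omega
  let φ : E →* MulAut A := (MulAut.conjNormal (H := A)).comp E.subtype
  have hker : φ.ker.map E.subtype ≤ A ⊓ E := by
    rintro _ ⟨x, hx, rfl⟩
    refine Subgroup.mem_inf.2 ⟨hcrit _ ?_ (hE.2 _ x.2), x.2⟩
    rw [mem_centralizer_iff]
    intro y hy
    have h := congrArg Subtype.val (DFunLike.congr_fun (MonoidHom.mem_ker.1 hx) ⟨y, hy⟩)
    simp only [φ, MonoidHom.comp_apply, MulAut.conjNormal_apply, MulAut.one_apply, coe_subtype] at h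
    exact (mul_inv_eq_iff_eq_mul.1 h).symm
  have hrng : Nat.card φ.range ≤ p := card_pgroup_mulAut_le hp2 A hAp ha φ.range
    ((hP.to_subgroup E).of_surjective φ.rangeRestrict φ.rangeRestrict_surjective)
  have h1 := Subgroup.card_mul_index φ.ker
  rw [index_ker, hE3] at h1
  have h2 : Nat.card φ.ker ≤ Nat.card (A ⊓ E : Subgroup P) := by
    rw [← card_map_of_injective E.subtype_injective]; exact card_le_of_le hker
  have h3' : p ^ 2 ≤ Nat.card φ.ker := by
    have h := Nat.mul_le_mul_left (Nat.card φ.ker) hrng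
    rw [h1, pow_succ] at h
    exact Nat.le_of_mul_le_mul_right h hp.out.pos
  have h4 : A ⊓ E = A := eq_of_le_of_card_ge inf_le_left (by rw [ha]; exact h3'.trans h2)
  apply hAEc
  intro x hx
  rw [mem_centralizer_iff]
  intro y hy
  exact congrArg Subtype.val (IsMulCommutative.is_comm.comm (⟨y, (Subgroup.mem_inf.1 (h4.symm ▸ hy : y ∈ A ⊓ E)).2⟩ : E) ⟨x, hx⟩)

theorem quotient_card_le {P : Type*} [Group P] [Finite P] (hP : IsPGroup 3 P)
    (hno : ∀ F : Subgroup P, Cfsg.IsElementaryAbelian 3 F → Nat.card F ≠ 27)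
    {T : Type*} [Group T] [Finite T] (hTc : ∀ a b : T, a * b = b * a) (hTe : ∀ a : T, a ^ 3 = 1)
    (f : P →* T) (hf : Function.Surjective f) : Nat.card T ≤ 27 := by
  classical
  haveI : Fact (Nat.Prime 3) := ⟨Nat.prime_three⟩
  have hab : ∀ A : Subgroup P, A.Normal → IsMulCommutative A → ∃ S : Finset P, S.card ≤ 2 ∧ closure (S : Set P) = A := by
    intro A _ hA
    letI : CommGroup A := { (inferInstance : Group A) with mul_comm := fun a b => hA.is_comm.comm a b }
    let q : A →* A := powMonoidHom 3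
    have hk : Nat.card q.ker ∣ 3 ^ 2 := by
      obtain ⟨i, hi⟩ := IsPGroup.iff_card.1 ((hP.to_subgroup A).to_subgroup q.ker)
      rw [hi]
      refine pow_dvd_pow 3 (Nat.not_lt.1 fun h => ?_)
      have hi2 : 3 ^ 3 ≤ Nat.card (q.ker.map A.subtype) := by
        rw [card_map_of_injective A.subtype_injective, hi]; exact Nat.pow_le_pow_right (by norm_num) h
      obtain ⟨j, hj⟩ := IsPGroup.iff_card.1 (hP.to_subgroup (q.ker.map A.subtype))
      rw [hj] at hi2
      obtain ⟨F₀, hF₀⟩ := Sylow.exists_subgroup_card_pow_prime (G := (q.ker.map A.subtype : Subgroup P)) 3 (n := 3)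
        (by rw [hj]; exact pow_dvd_pow 3 ((Nat.pow_le_pow_iff_right (by norm_num)).1 hi2))
      set F := F₀.map (q.ker.map A.subtype).subtype with hFdef
      have hFc : Nat.card F = 3 ^ 3 := by rw [hFdef, card_map_of_injective (subtype_injective _), hF₀]
      have hF : F ≤ q.ker.map A.subtype := map_subtype_le _
      refine hno F ⟨⟨⟨fun a b => Subtype.ext ?_⟩⟩, fun a ha => ?_⟩ (by rw [hFc]; norm_num)
      · exact congrArg (fun x : A => (x : P)) (hA.is_comm.comm (⟨a, map_subtype_le _ (hF a.2)⟩ : A) ⟨b, map_subtype_le _ (hF b.2)⟩)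
      · obtain ⟨c, hc, rfl⟩ := hF ha
        exact congrArg Subtype.val (hc : c ^ 3 = 1)
    have hidx : q.range.index ∣ 3 ^ 2 := by
      have e : q.range.index = Nat.card q.ker := by
        have e1 := card_mul_index q.range
        have e2 := card_mul_index q.ker
        rw [index_ker] at e2
        exact Nat.eq_of_mul_eq_mul_left Nat.card_pos (e1.trans (e2.symm.trans (mul_comm _ _)))
      rw [e]; exact hk
    obtain ⟨S, hS, hSt⟩ := S3780.exists_generators (p := 3) 2 q.range hidx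
    have hfr : q.range ≤ frattini A := by
      rintro _ ⟨a, rfl⟩; exact Cfsg.Lib.PGroup.pow_mem_frattini (hP.to_subgroup A) a
    have hS2 : closure (S : Set A) = ⊤ := frattini_nongenerating (by
      rw [eq_top_iff, ← hSt, sup_comm]
      exact sup_le_sup le_rfl hfr)
    refine ⟨S.map ⟨A.subtype, A.subtype_injective⟩, by rw [Finset.card_map]; exact hS, ?_⟩
    rw [Finset.coe_map]
    show closure (A.subtype '' (S : Set A)) = A
    rw [← MonoidHom.map_closure, hS2, ← MonoidHom.range_eq_map, range_subtype]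
  obtain ⟨S, hS, hSt⟩ := S4057.main (p := 3) (by norm_num) hP 2 hab ⊤
  haveI : IsMulCommutative (⊤ : Subgroup T) := ⟨⟨fun a b => Subtype.ext (hTc a b)⟩⟩
  have h := S4057.card_closure_le (p := 3) (⊤ : Subgroup T) (fun a _ => hTe a) (S.image f) (fun a _ => mem_top a)
  have hle : Nat.card (closure ((S.image f : Finset T) : Set T)) = Nat.card T := by
    rw [Finset.coe_image, ← MonoidHom.map_closure, hSt, map_top_of_surjective f hf, card_top]
  rw [hle] at h
  exact h.trans (le_trans (Nat.pow_le_pow_right (by norm_num) (Finset.card_image_le.trans hS)) (by norm_num))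

/-- Let S be a finite solvable group and M a normal elementary abelian 2-subgroup of S. Suppose S contains an elementary abelian subgroup of order p³ for some odd prime p, and a cyclic 3-subgroup Q such that the cubes of the elements of Q centralize M and the commutator subgroup [Q, M] has order 4 (a four-group inside M). Then S contains an elementary abelian subgroup F of order r³, for some odd prime r, whose centralizer of [Q, M] in F — the subgroup C_F([Q, M]) — is not cyclic. -/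
theorem result {S : Type*} [Group S] [Finite S]
    [Group.IsSolvable S] (M : Subgroup S) [M.Normal] (hM : Cfsg.IsElementaryAbelian 2 M)
    (p : ℕ) (hp : p.Prime) (hp2 : p ≠ 2) (E : Subgroup S) (hE : Cfsg.IsElementaryAbelian p E) (hE3 : Nat.card ↥E = p ^ 3)
    (Q : Subgroup S) (hQc : IsCyclic ↥Q) (hQ3 : IsPGroup 3 ↥Q)
    (hQ1 : ∀ x ∈ Q, x ^ 3 ∈ Subgroup.centralizer (M : Set S)) (hQM : Nat.card ↥⁅Q, M⁆ = 4) :
    ∃ (r : ℕ) (F : Subgroup S), r.Prime ∧ r ≠ 2 ∧ Cfsg.IsElementaryAbelian r F ∧ Nat.card ↥F = r ^ 3 ∧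
      ¬ IsCyclic ↥(F ⊓ Subgroup.centralizer ((⁅Q, M⁆ : Subgroup S) : Set S)) := by
  classical
  haveI := hM.1
  haveI : Fact p.Prime := ⟨hp⟩
  haveI h3fact : Fact (Nat.Prime 3) := ⟨Nat.prime_three⟩
  letI : CommGroup M := { (inferInstance : Group M) with mul_comm := fun a b => IsMulCommutative.is_comm.comm a b }
  have hexp : ∀ m : M, m ^ 2 = 1 := fun m => Subtype.ext (by simpa using hM.2 m m.2)
  let φ : S →* MulAut M := MulAut.conjNormal
  obtain ⟨x₀, hx₀⟩ := (Subgroup.isCyclic_iff_exists_zpowers_eq_top Q).1 hQc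
  have hxQ : x₀ ∈ Q := hx₀ ▸ mem_zpowers x₀
  set x := φ x₀ with hxdef
  have hx3 : x ^ 3 = 1 := by
    rw [hxdef, ← map_pow]
    refine MulEquiv.ext fun m => Subtype.ext ?_
    rw [MulAut.conjNormal_apply, MulAut.one_apply, mul_inv_eq_iff_eq_mul]
    exact (mem_centralizer_iff.1 (hQ1 x₀ hxQ) m m.2).symm
  have hdlt : ∀ (g : S) (m : M), ((dlt (φ g) m : M) : S) = ⁅g, (m : S)⁆ := fun g m => by
    show ((φ g m : M) : S) * (m : S)⁻¹ = _
    rw [MulAut.conjNormal_apply, commutatorElement_def]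
  have hQW : ⁅Q, M⁆ = (W x).map M.subtype := by
    refine le_antisymm (commutator_le.2 fun q hq m hm => ?_) ?_
    · have h : φ q ∈ stab (W x) := by
        obtain ⟨k, rfl⟩ := mem_zpowers_iff.1 (hx₀.symm ▸ hq : q ∈ zpowers x₀)
        rw [map_zpow]
        exact zpow_mem (le_refl (W x) : x ∈ stab (W x)) k
      exact ⟨_, h ⟨⟨m, hm⟩, rfl⟩, hdlt q ⟨m, hm⟩⟩
    · rintro _ ⟨_, ⟨m, rfl⟩, rfl⟩
      show ((dlt x m : M) : S) ∈ _
      rw [hdlt x₀ m]
      exact commutator_mem_commutator hxQ m.2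
  have hWx : Nat.card (W x) = 4 := by rw [← hQM, hQW, card_map_of_injective M.subtype_injective]
  have hamb : ∀ (q : ℕ), q.Prime → q ≠ 2 → ∀ H : Subgroup S,
      (∀ s : ℕ, s.Prime → s ∣ Nat.card H → s = 3 ∨ s = q) → Amb q (H.map φ) := by
    intro q hq hq2 H hH
    refine ⟨?_, fun s hs hd => hH s hs (hd.trans (card_map_dvd _ _))⟩
    refine Nat.not_even_iff_odd.1 fun h => ?_
    rcases hH 2 Nat.prime_two ((even_iff_two_dvd.1 h).trans (card_map_dvd _ _)) with e | e
    · norm_num at e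
    · exact hq2 e.symm
  have final : ∀ (r : ℕ) (F : Subgroup S), r.Prime → r ≠ 2 → Cfsg.IsElementaryAbelian r F → Nat.card F = r ^ 3 →
      ∀ V : Subgroup M, W x ≤ V → (Nat.card V = 4 ∨ Nat.card V = 8) → (r = 3 → Nat.card V = 4) →
      (∀ f ∈ F, V.map (φ f).toMonoidHom = V) →
      ¬ IsCyclic ↥(F ⊓ Subgroup.centralizer ((⁅Q, M⁆ : Subgroup S) : Set S)) := by
    intro r F hr hr2 hF hF3 V hWV hV hV3 hinv hcyc
    haveI := Fact.mk hr
    have hFV : ∀ f ∈ F, φ f ∈ stab (⊤ : Subgroup M) := fun f _ => fun y _ => mem_top y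
    let ψ : F →* MulAut V := MonoidHom.mk'
      (fun f =>
        { toFun := fun v => ⟨φ (f : S) v, (hinv f f.2).le ⟨v, v.2, rfl⟩⟩
          invFun := fun v => ⟨φ ((f : S)⁻¹) v, (hinv _ (inv_mem f.2)).le ⟨v, v.2, rfl⟩⟩
          left_inv := fun v => Subtype.ext (by
            show φ ((f : S)⁻¹) (φ (f : S) v) = v
            rw [← MulAut.mul_apply, ← map_mul, inv_mul_cancel, map_one, MulAut.one_apply])
          right_inv := fun v => Subtype.ext (by
            show φ (f : S) (φ ((f : S)⁻¹) v) = v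
            rw [← MulAut.mul_apply, ← map_mul, mul_inv_cancel, map_one, MulAut.one_apply])
          map_mul' := fun v w => Subtype.ext (map_mul (φ (f : S)) (v : M) w) })
      fun f g => MulEquiv.ext fun v => Subtype.ext (by
        show φ ((f * g : F) : S) (v : M) = φ (f : S) (φ (g : S) v)
        rw [Subgroup.coe_mul, map_mul, MulAut.mul_apply])
    have hker : ψ.ker.map F.subtype ≤ F ⊓ Subgroup.centralizer ((⁅Q, M⁆ : Subgroup S) : Set S) := by
      rintro _ ⟨f, hf, rfl⟩
      refine Subgroup.mem_inf.2 ⟨f.2, ?_⟩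
      rw [mem_centralizer_iff]
      intro y hy
      rw [SetLike.mem_coe, hQW] at hy
      obtain ⟨w, hw, rfl⟩ := hy
      have h := congrArg (fun e : MulAut V => ((e ⟨w, hWV hw⟩ : V) : M)) (MonoidHom.mem_ker.1 hf)
      have h2 : φ (f : S) w = w := h
      have h3 := congrArg Subtype.val h2
      rw [MulAut.conjNormal_apply] at h3
      exact (mul_inv_eq_iff_eq_mul.1 h3).symm
    obtain ⟨n, hn⟩ : ∃ n, Nat.card V = 2 ^ n ∧ (n = 2 ∨ n = 3) := by
      rcases hV with h | h
      · exact ⟨2, by rw [h]; norm_num, Or.inl rfl⟩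
      · exact ⟨3, by rw [h]; norm_num, Or.inr rfl⟩
    have hdvd : Nat.card ψ.range ∣ ∏ i : Fin n, (2 ^ n - 2 ^ (i : ℕ)) :=
      (card_subgroup_dvd_card _).trans (card_mulAut_dvd (fun v : V => Subtype.ext (hexp v)) hn.1)
    have hr3 : Nat.card ψ.range ∣ r ^ 3 := hF3 ▸ card_range_dvd ψ
    obtain ⟨i, hi, hic⟩ := (Nat.dvd_prime_pow hr).1 hr3
    have hi1 : i ≤ 1 := by
      by_contra h
      have h2 : r ^ 2 ∣ ∏ i : Fin n, (2 ^ n - 2 ^ (i : ℕ)) := (pow_dvd_pow r (by omega)).trans (hic ▸ hdvd)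
      rcases hn with ⟨hnc, rfl | rfl⟩
      · have h6 : r ^ 2 ∣ 6 := h2.trans (by decide)
        have := Nat.le_of_dvd (by norm_num) h6
        have : 3 ≤ r := by have := hr.two_le; omega
        nlinarith
      · have h168 : r ^ 2 ∣ 168 := h2.trans (by decide)
        have h3r : r ≠ 3 := fun e => by
          have := hV3 e
          rw [hnc] at this
          norm_num at this
        have hr168 : r ∣ 8 * (3 * 7) := (dvd_pow_self r two_ne_zero).trans h168
        rcases (Nat.Prime.dvd_mul hr).1 hr168 with h | h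
        · exact hr2 ((Nat.prime_dvd_prime_iff_eq hr Nat.prime_two).1 (hr.dvd_of_dvd_pow (show r ∣ 2 ^ 3 from h)))
        · rcases (Nat.Prime.dvd_mul hr).1 h with h | h
          · exact h3r ((Nat.prime_dvd_prime_iff_eq hr Nat.prime_three).1 h)
          · obtain rfl := (Nat.prime_dvd_prime_iff_eq hr (by norm_num)).1 h
            norm_num at h168
    have hk : r ^ 2 ≤ Nat.card ψ.ker := by
      have h1 := Subgroup.card_mul_index ψ.ker
      rw [index_ker, hic, hF3] at h1
      have h3 := Nat.mul_le_mul_left (Nat.card ψ.ker) (Nat.pow_le_pow_right hr.pos hi1)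
      rw [h1, pow_succ] at h3
      exact Nat.le_of_mul_le_mul_right (by simpa using h3) hr.pos
    haveI := hcyc
    obtain ⟨g, hg⟩ := IsCyclic.exists_generator (α := ↥(F ⊓ Subgroup.centralizer ((⁅Q, M⁆ : Subgroup S) : Set S)))
    have hcard : Nat.card ↥(F ⊓ Subgroup.centralizer ((⁅Q, M⁆ : Subgroup S) : Set S)) ≤ r := by
      rw [← orderOf_eq_card_of_forall_mem_zpowers hg]
      exact Nat.le_of_dvd hr.pos (orderOf_dvd_of_pow_eq_one
        (Subtype.ext (by simpa using hF.2 _ (Subgroup.mem_inf.1 g.2).1)))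
    have := card_le_of_le hker
    rw [card_map_of_injective F.subtype_injective] at this
    have h5 := (hk.trans this).trans hcard
    rw [pow_two] at h5
    nlinarith [hr.two_le]
  have case27 : ∀ F : Subgroup S, Cfsg.IsElementaryAbelian 3 F → Nat.card F = 27 →
      ∃ (r : ℕ) (F : Subgroup S), r.Prime ∧ r ≠ 2 ∧ Cfsg.IsElementaryAbelian r F ∧ Nat.card ↥F = r ^ 3 ∧
      ¬ IsCyclic ↥(F ⊓ Subgroup.centralizer ((⁅Q, M⁆ : Subgroup S) : Set S)) := by
    intro F hF hF27
    obtain ⟨P, hQP⟩ := (show IsPGroup 3 Q from hQ3).exists_le_sylow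
    obtain ⟨P', hFP⟩ := (IsPGroup.of_card (n := 3) (by rw [hF27]; norm_num) : IsPGroup 3 F).exists_le_sylow
    obtain ⟨g, hg⟩ := MulAction.exists_smul_eq S P' P
    set F' := F.map (MulAut.conj g).toMonoidHom with hF'
    have hF'P : F' ≤ (P : Subgroup S) := by
      rintro _ ⟨f, hf, rfl⟩
      rw [← hg]
      exact ⟨f, hFP hf, rfl⟩
    have hE' : Cfsg.IsElementaryAbelian 3 (F'.subgroupOf (P : Subgroup S)) := by
      haveI := hF.1
      refine ⟨⟨⟨fun a b => Subtype.ext (Subtype.ext ?_)⟩⟩, fun a ha => Subtype.ext ?_⟩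
      · obtain ⟨a', ha', ea⟩ := mem_subgroupOf.1 a.2
        obtain ⟨b', hb', eb⟩ := mem_subgroupOf.1 b.2
        show ((a : (P : Subgroup S)) : S) * ((b : (P : Subgroup S)) : S) = (b : (P : Subgroup S)) * (a : (P : Subgroup S))
        rw [← ea, ← eb, ← map_mul, ← map_mul]
        exact congrArg _ (congrArg Subtype.val (hF.1.is_comm.comm (⟨a', ha'⟩ : F) ⟨b', hb'⟩))
      · obtain ⟨a', ha', ea⟩ := mem_subgroupOf.1 ha
        rw [SubmonoidClass.coe_pow, ← ea, ← map_pow, hF.2 a' ha', map_one]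
        rfl
    obtain ⟨N, hNn, hNe, hNc⟩ := exists_normal_three (p := 3) (by norm_num) P.isPGroup' _ hE' (by
      rw [Nat.card_congr (subgroupOfEquivOfLe hF'P).toEquiv, hF', card_map_of_injective (MulAut.conj g).injective,
        hF27]; norm_num)
    set N' := N.map (P : Subgroup S).subtype with hN'
    have hN'e : Cfsg.IsElementaryAbelian 3 N' := by
      refine ⟨⟨⟨fun a b => Subtype.ext ?_⟩⟩, ?_⟩
      · obtain ⟨a', ha', ea⟩ := a.2
        obtain ⟨b', hb', eb⟩ := b.2
        show (a : S) * (b : S) = b * a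
        rw [← ea, ← eb, ← map_mul, ← map_mul]
        exact congrArg _ (congrArg Subtype.val (hNe.1.is_comm.comm (⟨a', ha'⟩ : N) ⟨b', hb'⟩))
      · rintro _ ⟨a', ha', rfl⟩
        rw [← map_pow, hNe.2 a' ha', map_one]
    have hN'c : Nat.card N' = 3 ^ 3 := by rw [hN', card_map_of_injective (subtype_injective _), hNc]
    have hA : Amb 3 ((P : Subgroup S).map φ) := hamb 3 Nat.prime_three (by norm_num) _ fun s hs hd => by
      obtain ⟨i, hi⟩ := IsPGroup.iff_card.1 P.isPGroup'
      rw [hi] at hd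
      exact Or.inl ((Nat.prime_dvd_prime_iff_eq hs Nat.prime_three).1 (hs.dvd_of_dvd_pow hd))
    have hfix := three_fix (M := M) hexp hA hA ⟨x₀, hQP hxQ, rfl⟩ hx3 hWx (E := N'.map φ) (map_mono (map_subtype_le _))
      (by rintro _ ⟨a, ha, rfl⟩; rw [← map_pow, hN'e.2 a ha, map_one])
      (by
        rintro _ ⟨a, ha, rfl⟩ _ ⟨b, hb, rfl⟩
        rw [← map_mul, ← map_mul]
        exact congrArg _ (congrArg Subtype.val (hN'e.1.is_comm.comm (⟨a, ha⟩ : N') ⟨b, hb⟩)))
      (by
        rintro _ ⟨_, ⟨a, ha, rfl⟩, rfl⟩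
        refine ⟨_, ⟨_, hNn.conj_mem' a ha ⟨x₀, hQP hxQ⟩, rfl⟩, ?_⟩
        simp [hxdef])
    exact ⟨3, N', Nat.prime_three, by norm_num, hN'e, hN'c,
      final 3 N' Nat.prime_three (by norm_num) hN'e hN'c (W x) le_rfl (Or.inl hWx) (fun _ => hWx)
        fun f hf => hfix _ (mem_map_of_mem φ hf)⟩
  by_cases hex : ∃ F : Subgroup S, Cfsg.IsElementaryAbelian 3 F ∧ Nat.card F = 27
  · obtain ⟨F, hF, hF27⟩ := hex
    exact case27 F hF hF27
  push Not at hex
  have hp3 : p ≠ 3 := fun e => hex E (e ▸ hE) (by rw [hE3, e]; norm_num)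
  have hp5 : 5 ≤ p := by
    rcases Nat.lt_or_ge p 5 with h | h
    · have := hp.two_le
      rcases (show p = 2 ∨ p = 3 ∨ p = 4 by omega) with h | h | h
      · exact absurd h hp2
      · exact absurd h hp3
      · rw [h] at hp; norm_num at hp
    · exact h
  -- a Hall subgroup
  set N := Nat.card S with hNdef
  have hN0 : N ≠ 0 := Nat.card_pos.ne'
  have hcop3p : (3 ^ N.factorization 3).Coprime (p ^ N.factorization p) :=
    Nat.Coprime.pow _ _ ((Nat.coprime_primes Nat.prime_three hp).2 (Ne.symm hp3))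
  obtain ⟨k, hk⟩ : 3 ^ N.factorization 3 * p ^ N.factorization p ∣ N :=
    hcop3p.mul_dvd_of_dvd_of_dvd (Nat.ordProj_dvd N 3) (Nat.ordProj_dvd N p)
  have hk3 : ¬ 3 ∣ k := fun h => by
    have h1 : 3 ^ (N.factorization 3 + 1) ∣ N := by
      rw [pow_succ]
      exact (mul_dvd_mul (dvd_mul_right _ _) h).trans (dvd_of_eq hk.symm)
    exact absurd ((Nat.Prime.pow_dvd_iff_le_factorization Nat.prime_three hN0).1 h1) (by omega)
  have hkp : ¬ p ∣ k := fun h => by
    have h1 : p ^ (N.factorization p + 1) ∣ N := by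
      rw [pow_succ]
      exact (mul_dvd_mul (dvd_mul_left _ _) h).trans (dvd_of_eq hk.symm)
    exact absurd ((Nat.Prime.pow_dvd_iff_le_factorization hp hN0).1 h1) (by omega)
  have hc3 : ∀ i, (3 ^ i).Coprime k := fun i => Nat.Coprime.pow_left i ((Nat.prime_three.coprime_iff_not_dvd).2 hk3)
  have hcp : ∀ i, (p ^ i).Coprime k := fun i => Nat.Coprime.pow_left i ((hp.coprime_iff_not_dvd).2 hkp)
  have hmk : (3 ^ N.factorization 3 * p ^ N.factorization p).Coprime k := (hc3 _).mul_left (hcp _)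
  obtain ⟨j, hj⟩ := IsPGroup.iff_card.1 hQ3
  obtain ⟨H, hH, hQH⟩ := Cfsg.Lib.Solv.hall_dominance (G := S) hk hmk (K := Q) (hj ▸ hc3 j)
  obtain ⟨g, hg⟩ := Cfsg.Lib.Solv.hall_le_conj (G := S) hk hmk hH (K := E) (hE3 ▸ hcp 3)
  set E' := E.map (MulAut.conj g⁻¹).toMonoidHom with hE'def
  have hE'H : E' ≤ H := by
    rintro _ ⟨e, he, rfl⟩
    obtain ⟨h, hh, rfl⟩ := hg he
    simpa [MulAut.smul_def, mul_assoc] using hh
  have hE'e : Cfsg.IsElementaryAbelian p E' := by
    refine ⟨⟨⟨fun a b => Subtype.ext ?_⟩⟩, ?_⟩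
    · obtain ⟨a', ha', ea⟩ := a.2
      obtain ⟨b', hb', eb⟩ := b.2
      show (a : S) * (b : S) = b * a
      rw [← ea, ← eb, ← map_mul, ← map_mul]
      exact congrArg _ (congrArg Subtype.val (hE.1.is_comm.comm (⟨a', ha'⟩ : E) ⟨b', hb'⟩))
    · rintro _ ⟨a', ha', rfl⟩
      rw [← map_pow, hE.2 a' ha', map_one]
  have hE'c : Nat.card E' = p ^ 3 := by rw [hE'def, card_map_of_injective (MulAut.conj g⁻¹).injective, hE3]
  have hA : Amb p (H.map φ) := hamb p hp hp2 H fun s hs hd => by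
    rw [hH] at hd
    rcases (Nat.Prime.dvd_mul hs).1 hd with h | h
    · exact Or.inl ((Nat.prime_dvd_prime_iff_eq hs Nat.prime_three).1 (hs.dvd_of_dvd_pow h))
    · exact Or.inr ((Nat.prime_dvd_prime_iff_eq hs hp).1 (hs.dvd_of_dvd_pow h))
  rcases orbit_dichotomy (M := M) hexp hA hp5 (x := x) ⟨x₀, hQH hxQ, rfl⟩ hx3 hWx (E := E'.map φ) (map_mono hE'H)
    (by rintro _ ⟨a, ha, rfl⟩; rw [← map_pow, hE'e.2 a ha, map_one]) with ⟨T, hTG, hTc, hTe, hT81⟩ | ⟨V, hWV, hV, hinv⟩
  · exfalso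
    set Y := H ⊓ T.comap φ with hY
    let f : Y →* T := MonoidHom.mk' (fun y => ⟨φ y, (Subgroup.mem_inf.1 y.2).2⟩)
      fun a b => Subtype.ext (map_mul φ (a : S) b)
    have hf : Function.Surjective f := by
      rintro ⟨t, ht⟩
      obtain ⟨h, hh, rfl⟩ := hTG ht
      exact ⟨⟨h, Subgroup.mem_inf.2 ⟨hh, ht⟩⟩, rfl⟩
    obtain ⟨P⟩ := (inferInstance : Nonempty (Sylow 3 Y))
    have htop : (P : Subgroup Y).map f = ⊤ := by
      rw [← index_eq_one]
      obtain ⟨i, hi⟩ := IsPGroup.iff_card.1 (fun t : T => ⟨1, Subtype.ext (by simpa using hTe _ t.2)⟩ : IsPGroup 3 T)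
      obtain ⟨i', -, hi'⟩ := (Nat.dvd_prime_pow Nat.prime_three).1 (hi ▸ index_dvd_card ((P : Subgroup Y).map f))
      rcases i' with _ | i'
      · simpa using hi'
      · exfalso
        exact P.not_dvd_index ((dvd_pow_self 3 i'.succ_ne_zero).trans (hi' ▸ index_map_dvd _ hf))
    have h27 := quotient_card_le (P := (P : Subgroup Y)) P.isPGroup' (fun F hF hc => hex ((F.map (P : Subgroup Y).subtype).map Y.subtype)
        ⟨⟨⟨fun a b => Subtype.ext (by
          obtain ⟨_, ⟨a', ha', rfl⟩, ea⟩ := a.2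
          obtain ⟨_, ⟨b', hb', rfl⟩, eb⟩ := b.2
          show (a : S) * (b : S) = b * a
          rw [← ea, ← eb, ← map_mul, ← map_mul, ← map_mul, ← map_mul]
          exact congrArg (fun z => Y.subtype ((P : Subgroup Y).subtype z))
            (congrArg Subtype.val (hF.1.is_comm.comm (⟨a', ha'⟩ : F) ⟨b', hb'⟩)))⟩⟩,
          by rintro _ ⟨_, ⟨a', ha', rfl⟩, rfl⟩; rw [← map_pow, ← map_pow, hF.2 a' ha', map_one, map_one]⟩
        (by rw [card_map_of_injective Y.subtype_injective, card_map_of_injective (subtype_injective _), hc]))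
      (T := T) (fun a b => hTc.is_comm.comm a b) (fun a => Subtype.ext (by simpa using hTe _ a.2))
      (f.comp (P : Subgroup Y).subtype) (by
        intro t
        obtain ⟨y, hy, rfl⟩ := (htop.symm ▸ mem_top t : t ∈ (P : Subgroup Y).map f)
        exact ⟨⟨y, hy⟩, rfl⟩)
    omega
  · exact ⟨p, E', hp, hp2, hE'e, hE'c, final p E' hp hp2 hE'e hE'c V hWV hV (fun e => absurd e hp3)
      fun f hf => hinv _ (mem_map_of_mem φ hf)⟩

end Cfsg.Agent.S4404
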