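import Cfsg.Statements.S4405
import Cfsg.Agent.Lib.Core.Fitting
import Cfsg.Agent.Lib.Core.Cores
import Cfsg.Agent.Lib.PGroup.Basic

set_option linter.style.haveILetI false

set_option autoImplicit false
open Cfsg

namespace Cfsg.Agent.S4405

open Subgroup
open scoped commutatorElement

universe u

variable {Q : Type u} [Group Q] [Finite Q]

/-- An element of order five has `1` or all sixteen points fixed on an invariant group of order sixteen. -/
theorem fixed_five (H : Subgroup Q) [H.Normal] (hH : Nat.card H = 16) (s : Q) (hs : s ^ 5 = 1) :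
    Nat.card (H ⊓ centralizer {s} : Subgroup Q) = 1 ∨ Nat.card (H ⊓ centralizer {s} : Subgroup Q) = 16 := by
  classical
  haveI : Fact (Nat.Prime 5) := ⟨by norm_num⟩
  have hP : IsPGroup 5 (zpowers s) := by
    intro x
    refine ⟨1, Subtype.ext ?_⟩
    obtain ⟨i, hi⟩ := mem_zpowers_iff.mp x.2
    rw [pow_one, Subgroup.coe_pow, ← hi, ← zpow_natCast, ← zpow_mul, mul_comm, zpow_mul, zpow_natCast, hs,
      one_zpow, Subgroup.coe_one]
  letI : MulAction (zpowers s) H :=
    MulAction.compHom H ((MulAut.conjNormal (H := H)).comp (zpowers s).subtype)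
  have hsmul : ∀ (x : zpowers s) (h : H), ((x • h : H) : Q) = x * h * (x : Q)⁻¹ := fun x h =>
    MulAut.conjNormal_apply (x : Q) h
  have hmod := hP.card_modEq_card_fixedPoints H
  have hset : Nat.card (MulAction.fixedPoints (zpowers s) H) = Nat.card (H ⊓ centralizer {s} : Subgroup Q) := by
    refine Nat.card_congr
      { toFun := fun h => ⟨(h.1 : Q), h.1.2, mem_centralizer_singleton_iff.mpr ?_⟩
        invFun := fun g => ⟨⟨g.1, g.2.1⟩, fun x => ?_⟩
        left_inv := fun h => rfl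
        right_inv := fun g => rfl }
    · have := congrArg Subtype.val (h.2 ⟨s, mem_zpowers s⟩)
      rw [hsmul] at this
      exact (mul_inv_eq_iff_eq_mul.mp this).symm
    · apply Subtype.ext
      rw [hsmul]
      obtain ⟨i, hi⟩ := mem_zpowers_iff.mp x.2
      have hc : Commute s g.1 := (mem_centralizer_singleton_iff.mp g.2.2).symm
      rw [← hi, (hc.zpow_left i).eq, mul_inv_cancel_right]
  rw [hH, hset] at hmod
  have hd : Nat.card (H ⊓ centralizer {s} : Subgroup Q) ∣ 2 ^ 4 := by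
    rw [show (2 : ℕ) ^ 4 = 16 by norm_num, ← hH]; exact card_dvd_of_le inf_le_left
  obtain ⟨i, hi, he⟩ := (Nat.dvd_prime_pow Nat.prime_two).mp hd
  rw [he] at hmod ⊢
  interval_cases i <;> first | (left; rfl) | (right; rfl) | (exfalso; revert hmod; unfold Nat.ModEq; norm_num)

/-- An involution not centralizing a fixed-point-free element has small fixed subgroup. -/
theorem fixed_two (H : Subgroup Q) [H.Normal] (hH : Nat.card H = 16) (t s : Q)
    (hf : ∀ u ∈ H, Commute u s → u = 1) (hab : ∀ u ∈ H, ∀ v ∈ H, u * v = v * u)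
    (hτ : ∃ (j : ℤ) (h : Q), h ∈ H ∧ IsCoprime j 5 ∧ s * t * s⁻¹ * t⁻¹ = s ^ j * h) (hs : s ^ 5 = 1) :
    Nat.card (H ⊓ centralizer {t} : Subgroup Q) ≤ 4 := by
  classical
  by_contra! hlt
  set U := H ⊓ centralizer ({t} : Set Q) with hU
  let f : U × U → H := fun uv => ⟨uv.1.1 * (s * uv.2.1 * s⁻¹),
    mul_mem uv.1.2.1 ((inferInstance : H.Normal).conj_mem _ uv.2.2.1 s)⟩
  have hni : ¬ Function.Injective f := fun hi => by
    have := Nat.card_le_card_of_injective f hi
    rw [Nat.card_prod, hH] at this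
    nlinarith
  obtain ⟨⟨u, v⟩, ⟨u', v'⟩, he, hne⟩ := Function.not_injective_iff.mp hni
  have he' : (u : Q) * (s * v * s⁻¹) = u' * (s * v' * s⁻¹) := congrArg Subtype.val he
  have hv : (v : Q) ≠ v' := by
    intro h
    apply hne
    rw [h] at he'
    exact Prod.ext (Subtype.ext (mul_right_cancel he')) (Subtype.ext h)
  set w := (u' : Q)⁻¹ * u with hw
  have hw2 : w = s * ((v' : Q) * (v : Q)⁻¹) * s⁻¹ := by
    rw [hw, eq_mul_inv_of_mul_eq he']; group
  have hwU : w ∈ U := mul_mem (inv_mem u'.2) u.2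
  have hv'v : (v' : Q) * (v : Q)⁻¹ ∈ U := mul_mem v'.2 (inv_mem v.2)
  have hc1 : Commute w t := mem_centralizer_singleton_iff.mp hwU.2
  have hc2 : Commute w (s * t * s⁻¹) := by
    have h0 : Commute ((v' : Q) * (v : Q)⁻¹) t := mem_centralizer_singleton_iff.mp hv'v.2
    rw [hw2, commute_iff_eq]
    calc s * ((v' : Q) * (v : Q)⁻¹) * s⁻¹ * (s * t * s⁻¹) = s * (((v' : Q) * (v : Q)⁻¹) * t) * s⁻¹ := by group
      _ = s * (t * ((v' : Q) * (v : Q)⁻¹)) * s⁻¹ := by rw [h0.eq]
      _ = _ := by group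
  obtain ⟨j, h, hh, hj, hjh⟩ := hτ
  have hc3 : Commute w (s ^ j) := by
    have h1 : Commute w (s * t * s⁻¹ * t⁻¹) := hc2.mul_right hc1.inv_right
    have h2 : s ^ j = s * t * s⁻¹ * t⁻¹ * h⁻¹ := by rw [hjh, mul_inv_cancel_right]
    rw [h2]
    exact h1.mul_right (show Commute w h⁻¹ from (show Commute w h from hab w hwU.1 h hh).inv_right)
  have hc4 : Commute w s := by
    obtain ⟨x, y, hxy⟩ := hj
    have : (s ^ j) ^ x = s := by
      rw [← zpow_mul]
      conv_rhs => rw [← zpow_one s, ← hxy]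
      rw [zpow_add, mul_comm j x, mul_comm y, zpow_mul _ (5 : ℤ), show (5 : ℤ) = ((5 : ℕ) : ℤ) by norm_num,
        zpow_natCast, hs, one_zpow, mul_one]
    rw [← this]; exact hc3.zpow_right x
  have hw1 := hf w hwU.1 hc4
  rw [hw2, conj_eq_one_iff, mul_inv_eq_one] at hw1
  exact hv hw1.symm

/-- The main argument, in `G`. -/
theorem main {G : Type u} [Group G] [Finite G]
    (hG : Nat.card G = 320) (hHF : Cfsg.pCore 2 G = Cfsg.fittingSubgroup G)
    (hex : Cfsg.IsExtraspecial 2 ↥(Cfsg.pCore 2 G)) (h32 : Nat.card ↥(Cfsg.pCore 2 G) = 32)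
    (hminus : ∀ A : Subgroup G, A ≤ Cfsg.pCore 2 G → Cfsg.IsElementaryAbelian 2 A → Nat.card ↥A ≤ 4)
    (T : G) (hT : T * T = 1) (hTH : T ∉ Cfsg.pCore 2 G)
    (C : Subgroup G) (hC : C = Cfsg.pCore 2 G ⊓ Subgroup.centralizer ({T} : Set G)) :
    Nat.card C ≤ 4 := by
  classical
  haveI : Fact (Nat.Prime 2) := ⟨Nat.prime_two⟩
  haveI : Fact (Nat.Prime 5) := ⟨by norm_num⟩
  set H := Cfsg.pCore 2 G with hHdef
  haveI hHn : H.Normal := inferInstance
  obtain ⟨⟨-, hfr, hcm⟩, hzc⟩ := hex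
  set Z := (center H).map H.subtype with hZdef
  have hZcard : Nat.card Z = 2 := by rw [hZdef, card_map_of_injective H.subtype_injective, hzc]
  haveI hZn : Z.Normal := by rw [hZdef]; infer_instance
  have hZH : Z ≤ H := map_subtype_le _
  have hcomm : ∀ a ∈ H, ∀ b ∈ H, ⁅a, b⁆ ∈ Z := fun a ha b hb => by
    refine ⟨⁅(⟨a, ha⟩ : H), ⟨b, hb⟩⁆, hcm ▸ (_root_.commutator_def H ▸ commutator_mem_commutator (mem_top _) (mem_top _)), ?_⟩
    rw [map_commutatorElement]; rfl
  have hZcent : ∀ z ∈ Z, ∀ g : G, g * z = z * g := by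
    intro z hz g
    by_cases hz1 : z = 1
    · simp [hz1]
    obtain ⟨u, hu, huniq⟩ := (Nat.card_eq_two_iff' (1 : Z)).mp hZcard
    have h1 := huniq ⟨z, hz⟩ fun h => hz1 (congrArg Subtype.val h)
    have h2 := huniq ⟨g * z * g⁻¹, hZn.conj_mem z hz g⟩ fun h => hz1 (conj_eq_one_iff.mp (congrArg Subtype.val h))
    exact mul_inv_eq_iff_eq_mul.mp (congrArg Subtype.val (h2.trans h1.symm))
  set π := QuotientGroup.mk' Z with hπ
  set HQ := H.map π with hHQ
  haveI : HQ.Normal := hHn.map π (QuotientGroup.mk'_surjective _)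
  have hHQcard : Nat.card HQ = 16 := by
    have h1 := card_mul_index (Z.subgroupOf H)
    rw [Nat.card_congr (subgroupOfEquivOfLe hZH).toEquiv, hZcard, h32] at h1
    have h2 : HQ ≃* (H ⧸ Z.subgroupOf H) := by
      refine ((QuotientGroup.quotientMulEquivOfEq ?_).trans
        (QuotientGroup.quotientKerEquivOfSurjective (π.subgroupMap H) (π.subgroupMap_surjective H))).symm
      ext x
      simp [MonoidHom.mem_ker, mem_subgroupOf, Subtype.ext_iff, hπ]
    rw [Nat.card_congr h2.toEquiv, ← index_eq_card]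
    omega
  have hab : ∀ u ∈ HQ, ∀ v ∈ HQ, u * v = v * u := by
    rintro _ ⟨a, ha, rfl⟩ _ ⟨b, hb, rfl⟩
    rw [← commutatorElement_eq_one_iff_mul_comm, ← map_commutatorElement]
    exact (QuotientGroup.eq_one_iff _).mpr (hcomm a ha b hb)
  -- the element of order five
  obtain ⟨σ, hσ⟩ := exists_prime_orderOf_dvd_card' (G := G) 5 (by rw [hG]; norm_num)
  have hσ5 : σ ^ 5 = 1 := hσ ▸ pow_orderOf_eq_one σ
  have hσH : σ ∉ H := fun h => by
    have := Subgroup.orderOf_dvd_natCard H h
    rw [hσ, h32] at this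
    norm_num at this
  set ρ := QuotientGroup.mk' H with hρ
  have hQ10 : Nat.card (G ⧸ H) = 10 := by
    have h1 := H.card_mul_index
    rw [h32, hG, index_eq_card] at h1
    omega
  have hσρ : orderOf (ρ σ) = 5 := orderOf_eq_prime (by rw [← map_pow, hσ5, map_one])
    fun h => hσH ((QuotientGroup.eq_one_iff σ).mp h)
  set K := (zpowers (ρ σ)).comap ρ with hK
  haveI hKn : K.Normal := by
    refine normal_of_index_eq_two ?_
    rw [hK, index_comap_of_surjective _ (QuotientGroup.mk'_surjective _)]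
    have := (zpowers (ρ σ)).card_mul_index
    rw [Nat.card_zpowers, hσρ, hQ10] at this
    omega
  have hKmem : ∀ g ∈ K, ∃ (j : ℤ) (h : G), h ∈ H ∧ g = σ ^ j * h := by
    intro g hg
    obtain ⟨j, hj⟩ := mem_zpowers_iff.mp hg
    refine ⟨j, (σ ^ j)⁻¹ * g, QuotientGroup.eq.mp ?_, by group⟩
    rw [← map_zpow] at hj; exact hj
  -- it acts fixed point freely
  have hcard : Nat.card (HQ ⊓ centralizer {π σ} : Subgroup (G ⧸ Z)) = 1 := by
    refine (fixed_five HQ hHQcard (π σ) (by rw [← map_pow, hσ5, map_one])).resolve_right fun h16 => ?_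
    have htop : HQ ⊓ centralizer {π σ} = HQ := eq_of_le_of_card_ge inf_le_left (by rw [h16, hHQcard])
    have hcen : ∀ h ∈ H, σ * h = h * σ := by
      intro h hh
      have h1 : π h ∈ HQ ⊓ centralizer {π σ} := by rw [htop]; exact mem_map_of_mem π hh
      have h2 : ⁅σ, h⁆ ∈ Z := by
        rw [← QuotientGroup.eq_one_iff, ← QuotientGroup.mk'_apply, ← hπ, map_commutatorElement,
          commutatorElement_eq_one_iff_mul_comm]
        exact (mem_centralizer_singleton_iff.mp h1.2).symm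
      set z := ⁅σ, h⁆ with hz
      have hconj : σ * h * σ⁻¹ = z * h := by rw [hz, commutatorElement_def]; group
      have hiter : ∀ i : ℕ, σ ^ i * h * (σ ^ i)⁻¹ = z ^ i * h := by
        intro i
        induction i with
        | zero => simp
        | succ i ih =>
          calc σ ^ (i + 1) * h * (σ ^ (i + 1))⁻¹ = σ * (σ ^ i * h * (σ ^ i)⁻¹) * σ⁻¹ := by rw [pow_succ']; group
            _ = σ * z ^ i * h * σ⁻¹ := by rw [ih]; group
            _ = z ^ i * (σ * h * σ⁻¹) := by rw [hZcent _ (pow_mem h2 i) σ]; group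
            _ = _ := by rw [hconj, ← mul_assoc, ← pow_succ]
      have h5 := hiter 5
      rw [hσ5, one_mul, inv_one, mul_one] at h5
      have hz5 : z ^ 5 = 1 := mul_eq_right.mp h5.symm
      have hz2 : z ^ 2 = 1 := by
        have := pow_card_eq_one' (x := (⟨z, h2⟩ : Z))
        rw [hZcard] at this
        exact congrArg Subtype.val this
      have hz1 : z = 1 := by
        calc z = z ^ 5 * ((z ^ 2) ^ 2)⁻¹ := by group
          _ = 1 := by rw [hz5, hz2]; simp
      rw [hz1, one_mul] at hconj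
      exact mul_inv_eq_iff_eq_mul.mp hconj
    -- then it generates a normal nilpotent subgroup
    have hn : (zpowers σ).Normal := ⟨fun x hx g => by
      obtain ⟨i, rfl⟩ := mem_zpowers_iff.mp hx
      rw [← conj_zpow]
      refine zpow_mem ?_ i
      obtain ⟨j, h, hh, hgh⟩ := hKmem _ (hKn.conj_mem σ (show σ ∈ K from mem_zpowers (ρ σ)) g)
      have hp : (g * σ * g⁻¹) ^ 5 = 1 := by rw [conj_pow, hσ5, mul_one, mul_inv_cancel]
      rw [hgh, ((show Commute σ h from hcen h hh).zpow_left j).mul_pow, ← zpow_natCast (σ ^ j), ← zpow_mul,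
        mul_comm, zpow_mul, zpow_natCast σ, hσ5, one_zpow, one_mul] at hp
      have hh1 : h = 1 := by
        rw [← orderOf_eq_one_iff]
        have a1 := orderOf_dvd_of_pow_eq_one hp
        have a2 := Subgroup.orderOf_dvd_natCard H hh
        rw [h32] at a2
        exact Nat.dvd_one.mp ((show Nat.gcd 5 32 = 1 by norm_num) ▸ Nat.dvd_gcd a1 a2)
      rw [hgh, hh1, mul_one]
      exact zpow_mem (mem_zpowers σ) j⟩
    exact hσH (hHF ▸ Cfsg.Lib.Core.le_fittingSubgroup' hn (IsPGroup.of_card (p := 5) (n := 1) (by rw [Nat.card_zpowers, hσ, pow_one])).isNilpotent (mem_zpowers σ))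
  have hf : ∀ u ∈ HQ, Commute u (π σ) → u = 1 := fun u hu hc =>
    mem_bot.mp (Subgroup.card_eq_one.mp hcard ▸ (⟨hu, mem_centralizer_singleton_iff.mpr hc.eq⟩ :
      u ∈ HQ ⊓ centralizer {π σ}))
  -- the commutator with the involution is outside `H`
  have hρT : ρ T * ρ T = 1 := by rw [← map_mul, hT, map_one]
  set τ := σ * T * σ⁻¹ * T⁻¹ with hτ
  have hτH : τ ∉ H := by
    intro hτ'
    have h1 : Commute (ρ σ) (ρ T) := by
      have : ρ τ = 1 := (QuotientGroup.eq_one_iff τ).mpr hτ'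
      rw [hτ, ← commutatorElement_def, map_commutatorElement, commutatorElement_eq_one_iff_mul_comm] at this
      exact this
    have h2 : centralizer {ρ T} = ⊤ := by
      refine eq_top_of_le_card _ ?_
      rw [hQ10]
      have a1 := Subgroup.orderOf_dvd_natCard (centralizer {ρ T}) (mem_centralizer_singleton_iff.mpr h1.eq)
      have a2 := Subgroup.orderOf_dvd_natCard (centralizer {ρ T})
        (mem_centralizer_singleton_iff.mpr (rfl : ρ T * ρ T = ρ T * ρ T))
      rw [hσρ] at a1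
      rw [orderOf_eq_prime (p := 2) (x := ρ T) (by rw [sq]; exact hρT) fun h => hTH ((QuotientGroup.eq_one_iff T).mp h)] at a2
      exact Nat.le_of_dvd Nat.card_pos ((by norm_num : Nat.Coprime 5 2).mul_dvd_of_dvd_of_dvd a1 a2)
    haveI hn : (zpowers (ρ T)).Normal := ⟨fun x hx g => by
      obtain ⟨i, rfl⟩ := mem_zpowers_iff.mp hx
      have hg : Commute g (ρ T) := mem_centralizer_singleton_iff.mp (h2 ▸ mem_top g)
      rw [(hg.zpow_right i).eq, mul_inv_cancel_right]; exact hx⟩
    have hp : IsPGroup 2 ((zpowers (ρ T)).comap ρ) := by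
      refine IsPGroup.comap_of_ker_isPGroup ?_ ρ ?_
      · intro x
        refine ⟨1, Subtype.ext ?_⟩
        obtain ⟨i, hi⟩ := mem_zpowers_iff.mp x.2
        rw [pow_one, Subgroup.coe_pow, ← hi, ← zpow_natCast, ← zpow_mul, mul_comm, zpow_mul, zpow_natCast, sq,
          hρT, one_zpow, Subgroup.coe_one]
      · rw [hρ, QuotientGroup.ker_mk']
        exact Cfsg.Lib.Core.pCore_isPGroup 2 G
    exact hTH (Cfsg.Lib.Core.le_pCore' (hn.comap ρ) hp (mem_zpowers (ρ T)))
  obtain ⟨j, h, hh, hjh⟩ : ∃ (j : ℤ) (h : G), h ∈ H ∧ τ = σ ^ j * h := hKmem τ (by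
    rw [hτ, mul_assoc σ T, mul_assoc σ]
    exact mul_mem (show σ ∈ K from mem_zpowers (ρ σ)) (hKn.conj_mem _ (inv_mem (show σ ∈ K from mem_zpowers (ρ σ))) T))
  have hj : IsCoprime j 5 := by
    refine ((Int.prime_iff_natAbs_prime.mpr (by norm_num)).coprime_iff_not_dvd.mpr ?_).symm
    rintro ⟨l, hl⟩
    apply hτH
    rw [hjh, hl, zpow_mul, show (5 : ℤ) = ((5 : ℕ) : ℤ) by norm_num, zpow_natCast, hσ5, one_zpow, one_mul]
    exact hh
  have hU := fixed_two HQ hHQcard (π T) (π σ) hf hab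
    ⟨j, π h, mem_map_of_mem π hh, hj, by rw [← map_inv, ← map_inv, ← map_mul, ← map_mul, ← map_mul, ← hτ, hjh, map_mul, map_zpow]⟩
    (by rw [← map_pow, hσ5, map_one])
  -- now the commutator map
  set U := HQ ⊓ centralizer {π T} with hUdef
  by_contra! hC4
  have hCH : C ≤ H := hC ▸ inf_le_left
  have hCc : ∀ c ∈ C, Commute c T := fun c hc => by
    rw [hC] at hc; exact mem_centralizer_singleton_iff.mp hc.2
  have hCU : C ≤ U.comap π ⊓ H := fun c hc => ⟨⟨mem_map_of_mem π (hCH hc),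
    mem_centralizer_singleton_iff.mpr (by rw [← map_mul, ← map_mul, (hCc c hc).eq])⟩, hCH hc⟩
  have hU' : Nat.card (U.comap π) = 2 * Nat.card U := by
    have h1 := Z.card_mul_index
    have h2 := (U.comap π).card_mul_index
    have h3 := U.card_mul_index
    rw [index_comap_of_surjective _ (QuotientGroup.mk'_surjective _)] at h2
    rw [hZcard, index_eq_card] at h1
    rw [← h1, ← h3] at h2
    exact Nat.eq_of_mul_eq_mul_right (Nat.pos_of_ne_zero index_ne_zero_of_finite) (by rw [h2]; ring)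
  have h8 : 8 ≤ Nat.card C := by
    obtain ⟨i, -, hi⟩ := (Nat.dvd_prime_pow Nat.prime_two).mp (show Nat.card C ∣ 2 ^ 5 by
      rw [show (2 : ℕ) ^ 5 = 32 by norm_num, ← h32]; exact card_dvd_of_le hCH)
    rw [hi] at hC4 ⊢
    have : 3 ≤ i := by
      by_contra hlt
      have := Nat.pow_le_pow_right Nat.two_pos (show i ≤ 2 by omega)
      omega
    exact (show (8 : ℕ) = 2 ^ 3 by norm_num) ▸ Nat.pow_le_pow_right Nat.two_pos this
  have hCU' : C = U.comap π := by
    have hle : C ≤ U.comap π := hCU.trans inf_le_left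
    refine eq_of_le_of_card_ge hle ?_
    omega
  have hU4 : Nat.card U = 4 := by
    have := card_le_of_le (le_of_eq hCU')
    omega
  have hcl : ∀ u ∈ HQ, π T * u * (π T)⁻¹ * u⁻¹ ∈ U := by
    intro u hu
    have hTu : π T * u * (π T)⁻¹ ∈ HQ := (inferInstance : HQ.Normal).conj_mem u hu _
    refine Subgroup.mem_inf.mpr ⟨mul_mem hTu (inv_mem hu), mem_centralizer_singleton_iff.mpr ?_⟩
    have hTT : π T * π T = 1 := by rw [← map_mul, hT, map_one]
    have hTi : (π T)⁻¹ = π T := inv_eq_of_mul_eq_one_left hTT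
    have hu2 : u * u = 1 := by
      obtain ⟨a, ha, rfl⟩ := hu
      rw [← map_mul]
      refine (QuotientGroup.eq_one_iff _).mpr ⟨(⟨a, ha⟩ : H) ^ 2, ?_, by simp [sq]⟩
      rw [SetLike.mem_coe, ← hfr]
      exact Cfsg.Lib.PGroup.pow_mem_frattini ((Cfsg.Lib.Core.pCore_isPGroup 2 G)) _
    have hui : u⁻¹ = u := inv_eq_of_mul_eq_one_left hu2
    rw [hTi] at hTu ⊢
    rw [hui]
    calc π T * u * π T * u * π T = π T * u * (π T * u * π T) := by group
      _ = π T * ((π T * u * π T) * u) := by rw [mul_assoc (π T) u, hab u hu _ hTu]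
      _ = _ := by group
  let δ : HQ →* U :=
    { toFun := fun u => ⟨_, hcl u.1 u.2⟩
      map_one' := by simp
      map_mul' := fun u v => by
        apply Subtype.ext
        show π T * (u.1 * v.1) * (π T)⁻¹ * (u.1 * v.1)⁻¹ =
          (π T * u.1 * (π T)⁻¹ * (u.1)⁻¹) * (π T * v.1 * (π T)⁻¹ * (v.1)⁻¹)
        have h1 := hab _ (inv_mem u.2) _ (hcl v.1 v.2).1
        calc π T * (u.1 * v.1) * (π T)⁻¹ * (u.1 * v.1)⁻¹
            = π T * u.1 * (π T)⁻¹ * ((π T * v.1 * (π T)⁻¹ * (v.1)⁻¹) * (u.1)⁻¹) := by group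
          _ = _ := by rw [← h1]; group }
  have hδ : Function.Surjective δ := by
    have hk : Nat.card δ.ker ≤ 4 := by
      refine le_trans (Nat.card_le_card_of_injective (fun u => (⟨u.1.1, u.1.2, mem_centralizer_singleton_iff.mpr ?_⟩ : U))
        (fun a b hab' => Subtype.ext (Subtype.ext (congrArg (fun x : U => (x : G ⧸ Z)) hab')))) hU4.le
      have := congrArg Subtype.val (MonoidHom.mem_ker.mp u.2)
      exact (mul_inv_eq_iff_eq_mul.mp (mul_inv_eq_one.mp this)).symm
    rw [← MonoidHom.range_eq_top]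
    refine eq_top_of_le_card _ ?_
    have h1 := δ.ker.card_mul_index
    rw [index_ker, hHQcard] at h1
    rw [hU4]
    nlinarith
  have hsq : ∀ c ∈ C, c * c = 1 := by
    intro c hc
    rw [hCU'] at hc
    obtain ⟨⟨_, a, ha, rfl⟩, ha'⟩ := hδ ⟨π c, hc⟩
    have he : π (T * a * T⁻¹ * a⁻¹) = π c := by
      have := congrArg Subtype.val ha'
      rw [map_mul, map_mul, map_mul, map_inv, map_inv]; exact this
    set d := T * a * T⁻¹ * a⁻¹ with hd
    have hdC : d ∈ C := by rw [hCU', mem_comap, he]; exact hc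
    obtain ⟨z, hz, hcz⟩ : ∃ z ∈ Z, c = d * z := ⟨d⁻¹ * c, QuotientGroup.eq.mp he, by group⟩
    have hdd : d * d = 1 := by
      have hTi : T⁻¹ = T := inv_eq_of_mul_eq_one_left hT
      have h1 : T * d = d⁻¹ * T := by
        rw [hd, hTi]
        simp only [mul_inv_rev, inv_inv, hTi]
        calc T * (T * a * T * a⁻¹) = (T * T) * (a * T * a⁻¹) := by group
          _ = a * T * a⁻¹ * (T * T) := by rw [hT, one_mul, mul_one]
          _ = _ := by group
      rw [← (hCc d hdC).eq] at h1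
      have h2 := mul_right_cancel h1
      rwa [eq_inv_iff_mul_eq_one] at h2
    have hzz : z * z = 1 := by
      have := pow_card_eq_one' (x := (⟨z, hz⟩ : Z))
      rw [hZcard, sq] at this
      exact congrArg Subtype.val this
    rw [hcz, ← sq, (show Commute d z from hZcent z hz d).mul_pow, sq, sq, hdd, hzz, one_mul]
  have hele : Cfsg.IsElementaryAbelian 2 C := by
    refine ⟨⟨⟨fun x y => Subtype.ext ?_⟩⟩, fun a ha => by rw [sq]; exact hsq a ha⟩
    have h1 := hsq _ (mul_mem x.2 y.2)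
    have h2 := inv_eq_of_mul_eq_one_left h1
    rw [mul_inv_rev, inv_eq_of_mul_eq_one_left (hsq _ x.2), inv_eq_of_mul_eq_one_left (hsq _ y.2)] at h2
    exact h2.symm
  exact absurd (hminus C hCH hele) (by omega)

/-- Let G be a finite group of order 320 = 64·5 whose largest normal 2-subgroup H = O₂(G) equals the Fitting subgroup F(G) and is extraspecial of order 32 containing no elementary abelian subgroup of order 8 (so H is the central product of a quaternion group and a dihedral group of order 8). If T is an involution of G outside H whose centralizer in H contains an elementary abelian subgroup of order 4, then C_H(T) itself is elementary abelian of order 4. -/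
theorem result {G : Type*} [Group G] [Finite G]
    (hG : Nat.card G = 320) (hHF : Cfsg.pCore 2 G = Cfsg.fittingSubgroup G)
    (hex : Cfsg.IsExtraspecial 2 ↥(Cfsg.pCore 2 G)) (h32 : Nat.card ↥(Cfsg.pCore 2 G) = 32)
    (hminus : ∀ A : Subgroup G, A ≤ Cfsg.pCore 2 G → Cfsg.IsElementaryAbelian 2 A → Nat.card ↥A ≤ 4)
    (T : G) (hT : orderOf T = 2) (hTH : T ∉ Cfsg.pCore 2 G)
    (V : Subgroup G) (hV : V ≤ Cfsg.pCore 2 G ⊓ Subgroup.centralizer ({T} : Set G)) (hV4 : Nat.card ↥V = 4) (hVe : Cfsg.IsElementaryAbelian 2 V) :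
    Nat.card ↥(Cfsg.pCore 2 G ⊓ Subgroup.centralizer ({T} : Set G)) = 4 ∧
      Cfsg.IsElementaryAbelian 2 (Cfsg.pCore 2 G ⊓ Subgroup.centralizer ({T} : Set G)) := by
  set C := Cfsg.pCore 2 G ⊓ Subgroup.centralizer ({T} : Set G) with hC
  have h4 := main hG hHF hex h32 hminus T (by rw [← sq, ← hT, pow_orderOf_eq_one]) hTH C hC
  have hVC : V = C := Subgroup.eq_of_le_of_card_ge hV (by omega)
  exact ⟨hVC ▸ hV4, hVC ▸ hVe⟩

end Cfsg.Agent.S4405
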