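import Cfsg.Statements.S4406
import Mathlib

set_option autoImplicit false
open Cfsg

namespace Cfsg.Agent.S4406

local notation "A" => alternatingGroup (Fin 4)

set_option synthInstance.maxSize 1024 in
theorem rot : ∀ a k : A, a * a * a = 1 → a ≠ 1 → k * k = 1 → k ≠ 1 →
    a * k * a⁻¹ * (a * k * a⁻¹) = 1 ∧ a * k * a⁻¹ ≠ k ∧ k * (a * k * a⁻¹) = a * a * k * (a * a)⁻¹ := by
  decide +kernel

set_option synthInstance.maxSize 1024 in
theorem third : ∀ b k w : A, b * b * b = 1 → b ≠ 1 → k * k = 1 → k ≠ 1 → w * w = 1 → w ≠ 1 → w ≠ k →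
    w = b * k * b⁻¹ ∨ w = b⁻¹ * k * b := by
  decide +kernel

theorem pow_sixteen : ∀ x : A, (x * x) * (x * x) = 1 → x * x = 1 := by
  decide +kernel

theorem sq_eight : ∀ x : A, x ^ 8 * x ^ 8 = 1 → x ^ 8 = 1 := by
  decide +kernel

theorem pow_nine : ∀ x : A, (x * x * x) * (x * x * x) * (x * x * x) = 1 → x * x * x = 1 := by
  decide +kernel

theorem card_sq : Nat.card {x : A // x * x = 1} = 4 := by
  rw [Nat.card_eq_fintype_card]
  decide +kernel

theorem main (X : Sylow 2 (A × A)) (Q : Sylow 3 (A × A)) (B : Subgroup (A × A))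
    (hBX : B ≤ (X : Subgroup (A × A))) (hB4 : Nat.card B = 4) :
    B ⊓ ((X : Subgroup _) ⊓ Subgroup.prod ⊤ ⊥) ≠ ⊥ ∨ B ⊓ ((X : Subgroup _) ⊓ Subgroup.prod ⊥ ⊤) ≠ ⊥ ∨
      ∃ R : Subgroup (A × A), R ≤ (Q : Subgroup _) ∧ Nat.card R = 3 ∧
        R ≠ (Q : Subgroup _) ⊓ Subgroup.prod ⊤ ⊥ ∧ R ≠ (Q : Subgroup _) ⊓ Subgroup.prod ⊥ ⊤ ∧
        R ≤ Subgroup.normalizer (B : Set _) := by
  haveI : Fact (Nat.Prime 3) := ⟨by norm_num⟩
  have hcA : Nat.card A = 12 := by rw [nat_card_alternatingGroup, Nat.card_eq_fintype_card, Fintype.card_fin]; rfl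
  have hcP : Nat.card (A × A) = 2 ^ 4 * 9 ∧ Nat.card (A × A) = 3 ^ 2 * 16 := by
    rw [Nat.card_prod, hcA]; norm_num
  have hXc : Nat.card (X : Subgroup (A × A)) = 2 ^ 4 := by
    rw [X.card_eq_multiplicity, hcP.1, Nat.factorization_mul (by norm_num) (by norm_num),
      Nat.Prime.factorization_pow Nat.prime_two, Finsupp.add_apply, Finsupp.single_eq_same,
      Nat.factorization_eq_zero_of_not_dvd (by norm_num : ¬ 2 ∣ 9), add_zero]
  have hQc : Nat.card (Q : Subgroup (A × A)) = 3 ^ 2 := by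
    rw [Q.card_eq_multiplicity, hcP.2, Nat.factorization_mul (by norm_num) (by norm_num),
      Nat.Prime.factorization_pow Nat.prime_three, Finsupp.add_apply, Finsupp.single_eq_same,
      Nat.factorization_eq_zero_of_not_dvd (by norm_num : ¬ 3 ∣ 16), add_zero]
  have hX : ∀ z ∈ (X : Subgroup (A × A)), z.1 * z.1 = 1 ∧ z.2 * z.2 = 1 := by
    have key : ∀ x : A, x ^ (2 ^ 4) = 1 → x * x = 1 := fun x hx => by
      refine pow_sixteen x (pow_sixteen (x * x) ?_)
      have e : x * x * (x * x) * (x * x * (x * x)) = x ^ 8 := by simp [pow_succ, mul_assoc]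
      have h8 : (x ^ 8) * (x ^ 8) = 1 := by rw [← pow_add]; exact hx
      rw [e]
      exact (Cfsg.Agent.S4406.sq_eight x h8)
    intro z hz
    have h1 : z ^ (2 ^ 4) = 1 := by
      rw [← hXc]
      exact congrArg Subtype.val (pow_card_eq_one' (x := (⟨z, hz⟩ : (X : Subgroup (A × A)))))
    exact ⟨key _ (congrArg Prod.fst h1), key _ (congrArg Prod.snd h1)⟩
  have hQ : ∀ z ∈ (Q : Subgroup (A × A)), z.1 * z.1 * z.1 = 1 ∧ z.2 * z.2 * z.2 = 1 := by
    have key : ∀ x : A, x ^ (3 ^ 2) = 1 → x * x * x = 1 := fun x hx => by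
      refine pow_nine x ?_
      simpa [pow_succ, mul_assoc] using hx
    intro z hz
    have h1 : z ^ (3 ^ 2) = 1 := by
      rw [← hQc]
      exact congrArg Subtype.val (pow_card_eq_one' (x := (⟨z, hz⟩ : (Q : Subgroup (A × A)))))
    exact ⟨key _ (congrArg Prod.fst h1), key _ (congrArg Prod.snd h1)⟩
  by_cases h2 : B ⊓ ((X : Subgroup _) ⊓ Subgroup.prod ⊤ ⊥) = ⊥
  swap
  · exact Or.inl h2
  by_cases h1 : B ⊓ ((X : Subgroup _) ⊓ Subgroup.prod ⊥ ⊤) = ⊥
  swap
  · exact Or.inr (Or.inl h1)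
  refine Or.inr (Or.inr ?_)
  have hfst : ∀ z ∈ B, z.1 = 1 → z = 1 := fun z hz hz1 => by
    rw [← Subgroup.mem_bot, ← h1]
    exact ⟨hz, hBX hz, Subgroup.mem_prod.2 ⟨hz1 ▸ Subgroup.one_mem _, Subgroup.mem_top _⟩⟩
  have hsnd : ∀ z ∈ B, z.2 = 1 → z = 1 := fun z hz hz1 => by
    rw [← Subgroup.mem_bot, ← h2]
    exact ⟨hz, hBX hz, Subgroup.mem_prod.2 ⟨Subgroup.mem_top _, hz1 ▸ Subgroup.one_mem _⟩⟩
  -- every involution of the first factor is a first coordinate of `B`
  have hproj : Function.Bijective (fun z : B => (⟨(z : A × A).1, (hX _ (hBX z.2)).1⟩ : {x : A // x * x = 1})) := by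
    letI : Fintype B := Fintype.ofFinite B
    rw [Fintype.bijective_iff_injective_and_card]
    refine ⟨fun z w hzw => ?_, ?_⟩
    · have h := hfst _ (B.mul_mem z.2 (B.inv_mem w.2)) (by
        rw [Prod.fst_mul, Prod.fst_inv, show (z : A × A).1 = (w : A × A).1 from congrArg Subtype.val hzw, mul_inv_cancel])
      exact Subtype.ext (mul_inv_eq_one.1 h)
    · rw [← Nat.card_eq_fintype_card, ← Nat.card_eq_fintype_card, hB4, card_sq]
  -- the two coordinate subgroups of `Q`
  have hker : ∀ (π : A × A →* A), ∃ z ∈ (Q : Subgroup (A × A)), z ≠ 1 ∧ π z = 1 := by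
    intro π
    by_contra hc
    push Not at hc
    have hinj : Function.Injective (π.comp (Q : Subgroup (A × A)).subtype) := by
      rw [injective_iff_map_eq_one]
      intro z hz
      by_contra hz1
      exact hc z z.2 (fun h => hz1 (Subtype.ext h)) hz
    have := Subgroup.card_dvd_of_injective _ hinj
    rw [hQc, hcA] at this
    norm_num at this
  obtain ⟨qa, hqa, hqa1, hqa2⟩ := hker (MonoidHom.snd _ _)
  obtain ⟨qb, hqb, hqb1, hqb2⟩ := hker (MonoidHom.fst _ _)
  simp only [MonoidHom.coe_snd, MonoidHom.coe_fst] at hqa2 hqb2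
  set a := qa.1 with ha
  set b := qb.2 with hb
  have ha3 : a * a * a = 1 := (hQ qa hqa).1
  have hb3 : b * b * b = 1 := (hQ qb hqb).2
  have ha1 : a ≠ 1 := fun h => hqa1 (Prod.ext h hqa2)
  have hb1 : b ≠ 1 := fun h => hqb1 (Prod.ext hqb2 h)
  obtain ⟨v, hv, hv1⟩ := B.bot_or_exists_ne_one.resolve_left (fun h => by rw [h, Subgroup.card_bot] at hB4; omega)
  have hk2 := (hX v (hBX hv)).1
  have hl2 := (hX v (hBX hv)).2
  have hk1 : v.1 ≠ 1 := fun h => hv1 (hfst v hv h)
  have hl1 : v.2 ≠ 1 := fun h => hv1 (hsnd v hv h)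
  obtain ⟨hak2, hakne, hak3⟩ := rot a v.1 ha3 ha1 hk2 hk1
  obtain ⟨⟨u, hu⟩, huk⟩ := hproj.2 ⟨a * v.1 * a⁻¹, hak2⟩
  have hu1 : u.1 = a * v.1 * a⁻¹ := congrArg Subtype.val huk
  have hu2 : u.2 * u.2 = 1 := (hX u (hBX hu)).2
  have hune : u.2 ≠ v.2 := fun h => hakne (by
    have := hsnd _ (B.mul_mem hu (B.inv_mem hv)) (by rw [Prod.snd_mul, Prod.snd_inv, h, mul_inv_cancel])
    rw [← hu1, mul_inv_eq_one.1 this])
  have hu2ne : u.2 ≠ 1 := fun h => by
    have := hsnd u hu h
    rw [this] at hu1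
    exact hk1 (conj_eq_one_iff.1 hu1.symm)
  -- choose the diagonal element
  obtain ⟨c, hc3, hc1, hcu, hcQ⟩ : ∃ c : A, c * c * c = 1 ∧ c ≠ 1 ∧ u.2 = c * v.2 * c⁻¹ ∧
      ((a, c) : A × A) ∈ (Q : Subgroup (A × A)) := by
    have hQa : ((a, 1) : A × A) ∈ (Q : Subgroup (A × A)) := by
      rwa [show ((a, 1) : A × A) = qa from Prod.ext rfl hqa2.symm]
    have hQb : ((1, b) : A × A) ∈ (Q : Subgroup (A × A)) := by
      rwa [show ((1, b) : A × A) = qb from Prod.ext hqb2.symm rfl]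
    rcases third b v.2 u.2 hb3 hb1 hl2 hl1 hu2 hu2ne hune with h | h
    · refine ⟨b, hb3, hb1, h, ?_⟩
      have := (Q : Subgroup (A × A)).mul_mem hQa hQb
      simpa using this
    · refine ⟨b⁻¹, ?_, fun e => hb1 (inv_eq_one.1 e), by rw [inv_inv]; exact h, ?_⟩
      · have : b⁻¹ * b⁻¹ * b⁻¹ = (b * b * b)⁻¹ := by group
        rw [this, hb3, inv_one]
      · have := (Q : Subgroup (A × A)).mul_mem hQa ((Q : Subgroup (A × A)).inv_mem hQb)
        simpa using this
  set r : A × A := (a, c) with hr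
  have hr3 : orderOf r = 3 := orderOf_eq_prime (by
      rw [pow_succ, pow_two]
      exact Prod.ext ha3 hc3) fun h => ha1 (congrArg Prod.fst h)
  refine ⟨Subgroup.zpowers r, Subgroup.zpowers_le.2 hcQ, by rw [Nat.card_zpowers, hr3], ?_, ?_, ?_⟩
  · intro h
    have := (h ▸ Subgroup.mem_zpowers r : r ∈ (Q : Subgroup _) ⊓ Subgroup.prod ⊤ ⊥)
    exact hc1 (Subgroup.mem_bot.1 (Subgroup.mem_prod.1 this.2).2)
  · intro h
    have := (h ▸ Subgroup.mem_zpowers r : r ∈ (Q : Subgroup _) ⊓ Subgroup.prod ⊥ ⊤)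
    exact ha1 (Subgroup.mem_bot.1 (Subgroup.mem_prod.1 this.2).1)
  · obtain ⟨-, -, hcl3⟩ := rot c v.2 hc3 hc1 hl2 hl1
    have e1 : r * v * r⁻¹ = u := Prod.ext hu1.symm hcu.symm
    have e2 : r * u * r⁻¹ = v * u := by
      refine Prod.ext ?_ ?_
      · show a * u.1 * a⁻¹ = v.1 * u.1
        rw [hu1, hak3]; group
      · show c * u.2 * c⁻¹ = v.2 * u.2
        rw [hcu, hcl3]; group
    have huv : u ≠ v := fun h => hune (by rw [h])
    have hun : u ≠ 1 := fun h => hu2ne (by rw [h]; rfl)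
    have hgen : B ≤ Subgroup.closure {v, u} := by
      have hle : Subgroup.closure {v, u} ≤ B := (Subgroup.closure_le B).2 (by
        rintro _ (rfl | rfl) <;> assumption)
      refine (Subgroup.eq_of_le_of_card_ge hle ?_).ge
      refine hB4.le.trans ?_
      have h3 : ({1, v, u, v * u} : Finset (A × A)).card = 4 := by
        have hvv : v * v = 1 := Prod.ext hk2 hl2
        have n1 : v ≠ v * u := fun h => hun (mul_left_cancel (h.symm.trans (mul_one v).symm))
        have n2 : u ≠ v * u := fun h => hv1 (mul_right_cancel ((one_mul u).trans h)).symm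
        have n3 : (1 : A × A) ≠ v * u := fun h => huv (mul_left_cancel (a := v) (h.symm.trans hvv.symm))
        rw [Finset.card_insert_of_notMem, Finset.card_insert_of_notMem, Finset.card_pair n2]
        · simp only [Finset.mem_insert, Finset.mem_singleton, not_or]
          exact ⟨Ne.symm huv, n1⟩
        · simp only [Finset.mem_insert, Finset.mem_singleton, not_or]
          exact ⟨Ne.symm hv1, Ne.symm hun, n3⟩
      refine h3.ge.trans ?_
      letI : Fintype (Subgroup.closure {v, u} : Subgroup (A × A)) := Fintype.ofFinite _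
      rw [Nat.card_eq_fintype_card]
      refine (Finset.card_le_card (t := ((Subgroup.closure {v, u} : Subgroup (A × A)) : Set (A × A)).toFinset) ?_).trans
        (Set.toFinset_card _).le
      intro z hz
      have hvm : v ∈ Subgroup.closure {v, u} := Subgroup.subset_closure (Or.inl rfl)
      have hum : u ∈ Subgroup.closure {v, u} := Subgroup.subset_closure (Or.inr rfl)
      rw [Set.mem_toFinset]
      simp only [Finset.mem_insert, Finset.mem_singleton] at hz
      rcases hz with rfl | rfl | rfl | rfl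
      · exact Subgroup.one_mem _
      · exact hvm
      · exact hum
      · exact Subgroup.mul_mem _ hvm hum
    have hinto : B.map (MulAut.conj r).toMonoidHom ≤ B := by
      refine (Subgroup.map_mono hgen).trans ?_
      rw [MonoidHom.map_closure, Subgroup.closure_le]
      rintro _ ⟨z, rfl | rfl, rfl⟩
      · show r * _ * r⁻¹ ∈ B
        rw [e1]
        exact hu
      · show r * _ * r⁻¹ ∈ B
        rw [e2]
        exact B.mul_mem hv hu
    have heq : B.map (MulAut.conj r).toMonoidHom = B := Subgroup.eq_of_le_of_card_ge hinto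
      (le_of_eq (Subgroup.card_map_of_injective (MulEquiv.injective _)).symm)
    rw [Subgroup.zpowers_le, Subgroup.mem_normalizer_iff]
    intro z
    constructor
    · intro hz
      exact heq.le ⟨z, hz, rfl⟩
    · intro hz
      obtain ⟨z', hz', e⟩ := heq.ge hz
      rwa [← (MulAut.conj r).injective e]


/-- In the direct product P = A₄ × A₄, let X be the Sylow 2-subgroup, X₁ and X₂ its intersections with the two direct factors, Q a Sylow 3-subgroup and Q₁, Q₂ its intersections with the two factors. Then every subgroup B of X of order 4 either meets X₁ or X₂ nontrivially, or is normalized by one of the two subgroups of Q of order 3 other than Q₁ and Q₂. -/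
theorem result
    (X : Sylow 2 (↥(alternatingGroup (Fin 4)) × ↥(alternatingGroup (Fin 4))))
    (Q : Sylow 3 (↥(alternatingGroup (Fin 4)) × ↥(alternatingGroup (Fin 4))))
    (B : Subgroup (↥(alternatingGroup (Fin 4)) × ↥(alternatingGroup (Fin 4)))) (hBX : B ≤ (X : Subgroup _)) (hB4 : Nat.card ↥B = 4) :
    B ⊓ ((X : Subgroup _) ⊓ Subgroup.prod ⊤ ⊥) ≠ ⊥ ∨ B ⊓ ((X : Subgroup _) ⊓ Subgroup.prod ⊥ ⊤) ≠ ⊥ ∨
      ∃ R : Subgroup (↥(alternatingGroup (Fin 4)) × ↥(alternatingGroup (Fin 4))), R ≤ (Q : Subgroup _) ∧ Nat.card ↥R = 3 ∧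
        R ≠ (Q : Subgroup _) ⊓ Subgroup.prod ⊤ ⊥ ∧ R ≠ (Q : Subgroup _) ⊓ Subgroup.prod ⊥ ⊤ ∧ R ≤ Subgroup.normalizer (B : Set _) := by
  classical
  exact Cfsg.Agent.S4406.main X Q B hBX hB4

end Cfsg.Agent.S4406
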