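import Cfsg.Statements.S4407
import Cfsg.Agent.Lib.TwoGroup.Models

set_option linter.style.haveILetI false

set_option autoImplicit false
open Cfsg

namespace Cfsg.Agent.S4407

open Subgroup

universe u v

variable {S : Type u} [Group S] [Finite S] {M : Type v} [AddCommGroup M] [Module (ZMod 2) M] [Finite M]

omit [Finite M] in
theorem add_self' (m : M) : m + m = 0 := by
  rw [← two_smul (ZMod 2) m, show (2 : ZMod 2) = 0 from rfl, zero_smul]

theorem dihedral_subsets : ∀ (j : ZMod 4) (F : Finset (DihedralGroup 4)), F.card = 4 →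
    (∀ a ∈ F, a * a = 1) → (∀ a ∈ F, ∀ b ∈ F, a * b ∈ F) →
    F = {1, DihedralGroup.r 2, DihedralGroup.sr j, DihedralGroup.sr (j + 2)} ∨
      F = {1, DihedralGroup.r 2, DihedralGroup.sr (j + 1), DihedralGroup.sr (j + 3)} := by
  decide +kernel

theorem four_mul : ∀ (j : ZMod 4) (a b : DihedralGroup 4),
    a ∈ ({1, DihedralGroup.r 2, DihedralGroup.sr (j + 1), DihedralGroup.sr (j + 3)} : Finset (DihedralGroup 4)) →
    b ∈ ({1, DihedralGroup.r 2, DihedralGroup.sr (j + 1), DihedralGroup.sr (j + 3)} : Finset (DihedralGroup 4)) →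
    a * b ∈ ({1, DihedralGroup.r 2, DihedralGroup.sr (j + 1), DihedralGroup.sr (j + 3)} : Finset (DihedralGroup 4)) ∧
      a * a = 1 := by decide +kernel

theorem four_card : ∀ j : ZMod 4,
    ({1, DihedralGroup.r 2, DihedralGroup.sr (j + 1), DihedralGroup.sr (j + 3)} : Finset (DihedralGroup 4)).card = 4 := by
  decide +kernel

theorem dihedral_facts : ∀ j : ZMod 4, (DihedralGroup.sr j : DihedralGroup 4) * DihedralGroup.sr j = 1 ∧
    DihedralGroup.r 1 * DihedralGroup.r 1 = (DihedralGroup.r 2 : DihedralGroup 4) ∧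
    DihedralGroup.r 1 * DihedralGroup.r 1 * (DihedralGroup.r 1 * DihedralGroup.r 1) = (1 : DihedralGroup 4) ∧
    DihedralGroup.sr j * DihedralGroup.r 1 * (DihedralGroup.sr j)⁻¹ = (DihedralGroup.r 1 : DihedralGroup 4)⁻¹ ∧
    DihedralGroup.r 2 * DihedralGroup.sr j = (DihedralGroup.sr (j + 2) : DihedralGroup 4) ∧
    DihedralGroup.r 1 * DihedralGroup.sr j = (DihedralGroup.sr (j + 3) : DihedralGroup 4) ∧
    DihedralGroup.r 2 * (DihedralGroup.r 1 * DihedralGroup.sr j) = (DihedralGroup.sr (j + 1) : DihedralGroup 4) ∧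
    DihedralGroup.sr j * DihedralGroup.r 1 = (DihedralGroup.sr (j + 1) : DihedralGroup 4) ∧
    (DihedralGroup.r 2 : DihedralGroup 4) ≠ 1 ∧ DihedralGroup.sr j * DihedralGroup.r 2 ≠ (1 : DihedralGroup 4) ∧
    (DihedralGroup.sr j : DihedralGroup 4) ≠ 1 := by decide

theorem dihedral_gen : ∀ (j : ZMod 4) (g : DihedralGroup 4), ∃ i : Fin 4, ∃ k : Fin 2,
    g = (DihedralGroup.r 1) ^ (i : ℕ) * (DihedralGroup.sr j) ^ (k : ℕ) := by decide

theorem zmod2_cases : ∀ c : ZMod 2, c = 0 ∨ c = 1 := by decide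

/-- The module, for a frame with a fixed vector on the first axis. -/
theorem module_of_frame (ρ : Representation (ZMod 2) S M) (a b r s : S)
    (hgen : Subgroup.closure ({a, r, s} : Set S) = ⊤)
    (ha3 : a * a * a = 1) (hab : a * b = b * a)
    (hra : r * a * r⁻¹ = b) (hrb : r * b * r⁻¹ = a⁻¹) (hsa : s * a = a * s) (hsb : s * b * s⁻¹ = b⁻¹)
    (hs2 : s * s = 1) (hsr : s * r * s⁻¹ = r⁻¹) (hr4 : r * r * (r * r) = 1)
    (hirr : ∀ N : Submodule (ZMod 2) M, (∀ g : S, ∀ m ∈ N, ρ g m ∈ N) → N = ⊥ ∨ N = ⊤)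
    (hfix : ∀ m, ρ a m = m → ρ b m = m → m = 0) (hne : ∃ m : M, m ≠ 0 ∧ ρ a m = m) :
    Nat.card M = 16 ∧
      Nat.card {m : M // ρ (r * r) m = m ∧ ρ s m = m} ≠ 2 ∧
      Nat.card {m : M // ρ (r * r) m = m ∧ ρ (r * s) m = m} = 2 := by
  classical
  have act : ∀ (g h : S) (m : M), ρ (g * h) m = ρ g (ρ h m) := fun g h m => by rw [map_mul]; rfl
  have act1 : ∀ m : M, ρ 1 m = m := fun m => by rw [map_one]; rfl
  have actinv : ∀ (g : S) (m : M), ρ g⁻¹ (ρ g m) = m := fun g m => by rw [← act, inv_mul_cancel, act1]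
  have actinv' : ∀ (g : S) (m : M), ρ g (ρ g⁻¹ m) = m := fun g m => by rw [← act, mul_inv_cancel, act1]
  have fixinv : ∀ (g : S) (m : M), ρ g m = m → ρ g⁻¹ m = m := fun g m hm => by
    conv_lhs => rw [← hm]
    exact actinv g m
  have inj : ∀ (g : S) (m m' : M), ρ g m = ρ g m' → m = m' := fun g m m' h => by
    rw [← actinv g m, h, actinv]
  set q := r * r with hq
  -- relations
  have h_ar : a * r = r * b⁻¹ := by
    rw [show r * b⁻¹ = (r * b * r⁻¹)⁻¹ * r by group, hrb, inv_inv]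
  have h_br : b * r = r * a := by rw [← hra]; group
  have hqa : q * a * q⁻¹ = a⁻¹ := by rw [hq, ← hrb, ← hra]; group
  have hqb : q * b * q⁻¹ = b⁻¹ := by
    calc q * b * q⁻¹ = r * (r * b * r⁻¹) * r⁻¹ := by rw [hq]; group
      _ = (r * a * r⁻¹)⁻¹ := by rw [hrb]; group
      _ = _ := by rw [hra]
  have hqi : q⁻¹ = q := inv_eq_of_mul_eq_one_left hr4
  have h_bq : b * q = q * b⁻¹ := by
    rw [← hqb, show q * (q * b * q⁻¹) = q * q * b * q⁻¹ by group, show q * q = 1 from hr4, one_mul, hqi]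
  have h_aq : a * q = q * a⁻¹ := by
    rw [← hqa, show q * (q * a * q⁻¹) = q * q * a * q⁻¹ by group, show q * q = 1 from hr4, one_mul, hqi]
  have h_qa : q * a = a⁻¹ * q := by rw [← hqa]; group
  have h_bs : b * s = s * b⁻¹ := by
    rw [← hsb, show s * (s * b * s⁻¹) = s * s * b * s⁻¹ by group, hs2, one_mul, inv_eq_of_mul_eq_one_left hs2]
  have h_sr : s * r = r⁻¹ * s := by rw [← hsr]; group
  have h_ri : r⁻¹ = r * q := inv_eq_of_mul_eq_one_right (by rw [hq, ← mul_assoc]; exact hr4)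
  have hqs : q * s = s * q := by
    have h3 : r⁻¹ * r⁻¹ = q := by rw [← mul_inv_rev, ← hq, hqi]
    calc q * s = r⁻¹ * (r⁻¹ * s) := by rw [← h3, mul_assoc]
      _ = r⁻¹ * (s * r) := by rw [h_sr]
      _ = (r⁻¹ * s) * r := (mul_assoc _ _ _).symm
      _ = (s * r) * r := by rw [h_sr]
      _ = _ := by rw [mul_assoc, ← hq]
  have hinvar : ∀ N : Submodule (ZMod 2) M, N ≠ ⊥ → (∀ m ∈ N, ρ a m ∈ N) → (∀ m ∈ N, ρ r m ∈ N) →
      (∀ m ∈ N, ρ s m ∈ N) → N = ⊤ := by
    intro N hN h1 h2 h3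
    refine (hirr N fun g => ?_).resolve_left hN
    have hg : g ∈ closure ({a, r, s} : Set S) := hgen ▸ mem_top g
    induction hg using closure_induction with
    | mem g hg => rcases hg with rfl | rfl | rfl <;> assumption
    | one => exact fun m hm => by rw [act1]; exact hm
    | mul g h _ _ ihg ihh => exact fun m hm => by rw [act]; exact ihg _ (ihh m hm)
    | inv g _ ih =>
      have hpow : ∀ k : ℕ, ∀ m ∈ N, ρ (g ^ k) m ∈ N := by
        intro k
        induction k with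
        | zero => exact fun m hm => by rw [pow_zero, act1]; exact hm
        | succ k ihk => exact fun m hm => by rw [pow_succ, act]; exact ihk _ (ih m hm)
      intro m hm
      have : g⁻¹ = g ^ (orderOf g - 1) := inv_eq_of_mul_eq_one_left (by
        rw [← pow_succ, Nat.sub_add_cancel (orderOf_pos g), pow_orderOf_eq_one])
      rw [this]
      exact hpow _ m hm
  have invo : ∀ (g : S), g * g = 1 → ∀ N : Submodule (ZMod 2) M, (∀ m ∈ N, ρ g m ∈ N) → N ≠ ⊥ →
      ∃ m ∈ N, m ≠ 0 ∧ ρ g m = m := by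
    intro g hg N hgN hN
    obtain ⟨m, hm, hm0⟩ := (Submodule.ne_bot_iff N).mp hN
    by_cases h : m + ρ g m = 0
    · refine ⟨m, hm, hm0, ?_⟩
      calc ρ g m = m + (m + ρ g m) := by rw [← add_assoc, add_self', zero_add]
        _ = m := by rw [h, add_zero]
    · refine ⟨m + ρ g m, N.add_mem hm (hgN m hm), h, ?_⟩
      rw [map_add, ← act, hg, act1, add_comm]
  -- the second axis
  set M₂ : Submodule (ZMod 2) M := LinearMap.ker (ρ b - 1) with hM₂
  have hM₂m : ∀ m, m ∈ M₂ ↔ ρ b m = m := fun m => by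
    rw [hM₂, LinearMap.mem_ker, LinearMap.sub_apply, Module.End.one_apply, sub_eq_zero]
  have hM₂ne : M₂ ≠ ⊥ := by
    obtain ⟨m, hm0, hm⟩ := hne
    refine (Submodule.ne_bot_iff _).mpr ⟨ρ r m, (hM₂m _).mpr (by rw [← act, h_br, act, hm]), fun h => hm0 (inj r _ _ (by rw [h, map_zero]))⟩
  have hsM₂ : ∀ m ∈ M₂, ρ s m ∈ M₂ := fun m hm => by
    rw [hM₂m] at hm ⊢
    rw [← act, h_bs, act, fixinv b m hm]
  have hqM₂ : ∀ m ∈ M₂, ρ q m ∈ M₂ := fun m hm => by
    rw [hM₂m] at hm ⊢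
    rw [← act, h_bq, act, fixinv b m hm]
  have haM₂ : ∀ m ∈ M₂, ρ a m ∈ M₂ := fun m hm => by
    rw [hM₂m] at hm ⊢
    rw [← act, ← hab, act, hm]
  have hrM₂ : ∀ m ∈ M₂, ρ a (ρ r m) = ρ r m := fun m hm => by
    rw [← act, h_ar, act, fixinv b m ((hM₂m m).mp hm)]
  have hzero : ∀ m ∈ M₂, ∀ m' ∈ M₂, m = ρ r m' → m = 0 := fun m hm m' hm' h =>
    hfix m (by rw [h]; exact hrM₂ m' hm') ((hM₂m m).mp hm)
  have cover : ∀ T : Submodule (ZMod 2) M, T ≠ ⊥ → T ≤ M₂ → (∀ t ∈ T, ρ a t ∈ T) → (∀ t ∈ T, ρ q t ∈ T) →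
      (∀ t ∈ T, ρ s t = t) → (∀ m, ∃ t ∈ T, ∃ t' ∈ T, m = t + ρ r t') ∧ M₂ ≤ T := by
    intro T hT hTM hTa hTq hTs
    have hsr' : ∀ t ∈ T, ρ s (ρ r t) = ρ r (ρ q t) := fun t ht => by
      rw [← act, h_sr, act, hTs t ht, h_ri, act]
    have htop := hinvar (T ⊔ T.map (ρ r)) (fun h => hT (eq_bot_iff.mpr (h ▸ le_sup_left)))
      (fun m hm => by
        obtain ⟨t, ht, _, ⟨t', ht', rfl⟩, rfl⟩ := Submodule.mem_sup.mp hm
        rw [map_add, hrM₂ t' (hTM ht')]
        exact Submodule.add_mem_sup (hTa t ht) (Submodule.mem_map_of_mem ht'))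
      (fun m hm => by
        obtain ⟨t, ht, _, ⟨t', ht', rfl⟩, rfl⟩ := Submodule.mem_sup.mp hm
        rw [map_add, ← act r r t', ← hq, add_comm]
        exact Submodule.add_mem_sup (hTq t' ht') (Submodule.mem_map_of_mem ht))
      (fun m hm => by
        obtain ⟨t, ht, _, ⟨t', ht', rfl⟩, rfl⟩ := Submodule.mem_sup.mp hm
        rw [map_add, hTs t ht, hsr' t' ht']
        exact Submodule.add_mem_sup ht (Submodule.mem_map_of_mem (hTq t' ht')))
    have hall : ∀ m, ∃ t ∈ T, ∃ t' ∈ T, m = t + ρ r t' := fun m => by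
      obtain ⟨t, ht, _, ⟨t', ht', rfl⟩, hm⟩ := Submodule.mem_sup.mp (htop ▸ Submodule.mem_top : m ∈ T ⊔ T.map (ρ r))
      exact ⟨t, ht, t', ht', hm.symm⟩
    refine ⟨hall, fun m hm => ?_⟩
    obtain ⟨t, ht, t', ht', rfl⟩ := hall m
    have h0 : ρ r t' = 0 := hzero _ (by
      have := M₂.add_mem hm (hTM ht)
      rwa [add_right_comm, add_self', zero_add] at this) t' (hTM ht') rfl
    rw [h0, add_zero]; exact ht
  -- `s` is trivial on it
  have hs_triv : ∀ m ∈ M₂, ρ s m = m := by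
    set T : Submodule (ZMod 2) M := M₂ ⊓ LinearMap.ker (ρ s - 1) with hT
    have hTm : ∀ t, t ∈ T ↔ t ∈ M₂ ∧ ρ s t = t := fun t => by
      rw [hT, Submodule.mem_inf]
      refine and_congr Iff.rfl ?_
      rw [LinearMap.mem_ker, LinearMap.sub_apply, Module.End.one_apply, sub_eq_zero]
    obtain ⟨t, ht, ht0, hts⟩ := invo s hs2 M₂ hsM₂ hM₂ne
    obtain ⟨-, hle⟩ := cover T ((Submodule.ne_bot_iff T).mpr ⟨t, (hTm t).mpr ⟨ht, hts⟩, ht0⟩) inf_le_left
      (fun t ht => (hTm _).mpr ⟨haM₂ t ((hTm t).mp ht).1, by rw [← act, hsa, act, ((hTm t).mp ht).2]⟩)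
      (fun t ht => (hTm _).mpr ⟨hqM₂ t ((hTm t).mp ht).1, by rw [← act, ← hqs, act, ((hTm t).mp ht).2]⟩)
      (fun t ht => ((hTm t).mp ht).2)
    exact fun m hm => ((hTm m).mp (hle hm)).2
  obtain ⟨w, hw, hw0, hwq⟩ := invo q hr4 M₂ hqM₂ hM₂ne
  set w' := ρ a w with hw'
  have hsum : ∀ m ∈ M₂, ρ a (ρ a m) = m + ρ a m := by
    intro m hm
    have h0 : m + ρ a m + ρ a (ρ a m) = 0 := by
      refine hfix _ ?_ ?_
      · rw [map_add, map_add, ← act a a (ρ a m), ← act (a * a) a m, ha3, act1]; abel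
      · have e1 := (hM₂m _).mp (haM₂ m hm)
        have e2 := (hM₂m _).mp (haM₂ _ (haM₂ m hm))
        rw [map_add, map_add, (hM₂m m).mp hm, e1, e2]
    calc ρ a (ρ a m) = (m + ρ a m) + (m + ρ a m + ρ a (ρ a m)) := by rw [← add_assoc, add_self', zero_add]
      _ = _ := by rw [h0, add_zero]
  have hqw' : ρ q w' = w + w' := by
    rw [hw', ← act, h_qa, act, hwq, show a⁻¹ = a * a from inv_eq_of_mul_eq_one_left ha3, act, hsum w hw]
  set T₂ : Submodule (ZMod 2) M := Submodule.span (ZMod 2) {w, w'} with hT₂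
  have hT₂m : ∀ t, t ∈ T₂ → ∃ c d : ZMod 2, t = c • w + d • w' := fun t ht => by
    obtain ⟨c, d, h⟩ := Submodule.mem_span_pair.mp ht
    exact ⟨c, d, h.symm⟩
  have hT₂le : T₂ ≤ M₂ := by
    rw [hT₂, Submodule.span_le]
    rintro t (rfl | rfl)
    · exact hw
    · exact haM₂ w hw
  have hwT : w ∈ T₂ := Submodule.subset_span (by simp)
  have hw'T : w' ∈ T₂ := Submodule.subset_span (by simp)
  obtain ⟨hall, hle₂⟩ := cover T₂ ((Submodule.ne_bot_iff _).mpr ⟨w, hwT, hw0⟩) hT₂le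
    (fun t ht => by
      obtain ⟨c, d, rfl⟩ := hT₂m t ht
      rw [map_add, map_smul, map_smul, hsum w hw]
      exact T₂.add_mem (T₂.smul_mem c hw'T) (T₂.smul_mem d (T₂.add_mem hwT hw'T)))
    (fun t ht => by
      obtain ⟨c, d, rfl⟩ := hT₂m t ht
      rw [map_add, map_smul, map_smul, hwq, hqw']
      exact T₂.add_mem (T₂.smul_mem c hwT) (T₂.smul_mem d (T₂.add_mem hwT hw'T)))
    (fun t ht => hs_triv t (hT₂le ht))
  have huniq : ∀ t ∈ M₂, ∀ t' ∈ M₂, ∀ u ∈ M₂, ∀ u' ∈ M₂, t + ρ r t' = u + ρ r u' → t = u ∧ t' = u' := by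
    intro t ht t' ht' u hu u' hu' h
    have h1 : t - u = ρ r (u' - t') := by
      rw [map_sub, sub_eq_sub_iff_add_eq_add, h, add_comm]
    have h2 := hzero _ (M₂.sub_mem ht hu) _ (M₂.sub_mem hu' ht') h1
    rw [h2] at h1
    refine ⟨sub_eq_zero.mp h2, (sub_eq_zero.mp (inj r (u' - t') 0 ?_)).symm⟩
    rw [map_zero]; exact h1.symm
  have hww' : w' ≠ w := fun h => hw0 (hfix w (hw' ▸ h) ((hM₂m w).mp hw))
  have hind : ∀ c d : ZMod 2, c • w + d • w' = 0 → c = 0 ∧ d = 0 := by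
    have hw'0 : w' ≠ 0 := fun h => hw0 (inj a w 0 (by rw [map_zero]; exact h))
    intro c d h
    rcases (zmod2_cases c) with rfl | rfl <;>
      rcases (zmod2_cases d) with rfl | rfl
    · exact ⟨rfl, rfl⟩
    · simp [hw'0] at h
    · simp [hw0] at h
    · exfalso
      rw [one_smul, one_smul] at h
      exact hww' (calc w' = (w + w') + w := by rw [add_comm w w', add_assoc, add_self', add_zero]
        _ = w := by rw [h, zero_add])
  have hM₂4 : Nat.card M₂ = 4 := by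
    have hb : Function.Bijective (fun x : ZMod 2 × ZMod 2 => (⟨x.1 • w + x.2 • w', M₂.add_mem (M₂.smul_mem _ hw) (M₂.smul_mem _ (haM₂ w hw))⟩ : M₂)) := by
      refine ⟨fun x y hxy => ?_, fun t => ?_⟩
      · have h : x.1 • w + x.2 • w' = y.1 • w + y.2 • w' := congrArg Subtype.val hxy
        obtain ⟨h1, h2⟩ := hind (x.1 - y.1) (x.2 - y.2) (by rw [sub_smul, sub_smul, ← sub_eq_zero.mpr h]; abel)
        exact Prod.ext (sub_eq_zero.mp h1) (sub_eq_zero.mp h2)
      · obtain ⟨c, d, h⟩ := hT₂m t (hle₂ t.2)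
        exact ⟨(c, d), Subtype.ext h.symm⟩
    rw [← Nat.card_eq_of_bijective _ hb, Nat.card_prod, Nat.card_zmod]
  have hqfix : ∀ t ∈ M₂, ρ q t = t → t = 0 ∨ t = w := by
    intro t ht hqt
    obtain ⟨c, d, rfl⟩ := hT₂m t (hle₂ ht)
    rw [map_add, map_smul, map_smul, hwq, hqw', smul_add] at hqt
    have hd : d • w = 0 := by
      have := add_left_cancel hqt
      rwa [add_eq_right] at this
    rcases (zmod2_cases d) with rfl | rfl
    · rcases (zmod2_cases c) with rfl | rfl <;> simp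
    · rw [one_smul] at hd; exact absurd hd hw0
  have hqr : ∀ t, ρ q (ρ r t) = ρ r (ρ q t) := fun t => by rw [← act, ← act, hq, mul_assoc]
  refine ⟨?_, ?_, ?_⟩
  · have hb : Function.Bijective (fun x : M₂ × M₂ => (x.1 : M) + ρ r x.2) := by
      refine ⟨fun x y hxy => ?_, fun m => ?_⟩
      · obtain ⟨h1, h2⟩ := huniq _ x.1.2 _ x.2.2 _ y.1.2 _ y.2.2 hxy
        exact Prod.ext (Subtype.ext h1) (Subtype.ext h2)
      · obtain ⟨t, ht, t', ht', rfl⟩ := hall m
        exact ⟨(⟨t, hT₂le ht⟩, ⟨t', hT₂le ht'⟩), rfl⟩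
    rw [← Nat.card_eq_of_bijective _ hb, Nat.card_prod, hM₂4]
  · have hsr2 : ρ s (ρ r w) = ρ r w := by rw [← act, h_sr, act, hs_triv w hw, h_ri, act, hwq]
    intro h2
    let f : Fin 3 → {m : M // ρ (r * r) m = m ∧ ρ s m = m} := ![⟨0, map_zero _, map_zero _⟩, ⟨w, hwq, hs_triv w hw⟩,
      ⟨ρ r w, by rw [← hq, hqr, hwq], hsr2⟩]
    have hrw : ρ r w ≠ 0 := fun h => hw0 (inj r w 0 (by rw [map_zero]; exact h))
    have hwrw : w ≠ ρ r w := fun h => hw0 (hzero w hw w hw h)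
    have hf : Function.Injective f := by
      intro i j hij
      fin_cases i <;> fin_cases j <;>
        simp [f, Subtype.ext_iff, hw0, hw0.symm, hrw, hrw.symm, hwrw, hwrw.symm] at hij ⊢
    have := Nat.card_le_card_of_injective f hf
    rw [Nat.card_fin, h2] at this
    omega
  · rw [Nat.card_eq_two_iff' (⟨0, map_zero _, map_zero _⟩ : {m : M // ρ (r * r) m = m ∧ ρ (r * s) m = m})]
    have hrs : ∀ t ∈ M₂, ∀ t' ∈ M₂, ρ (r * s) (t + ρ r t') = t' + ρ r t := by
      intro t ht t' ht'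
      rw [act, map_add, hs_triv t ht, ← act s r, h_sr, act, hs_triv t' ht', map_add, actinv', add_comm]
    refine ⟨⟨w + ρ r w, by rw [← hq, map_add, hqr, hwq], hrs w hw w hw⟩, ?_, ?_⟩
    · intro h
      have h' : w + ρ r w = 0 + ρ r 0 := by rw [map_zero, add_zero]; exact congrArg Subtype.val h
      exact hw0 (huniq w hw w hw 0 M₂.zero_mem 0 M₂.zero_mem h').1
    · rintro ⟨m, hm1, hm2⟩ hne'
      obtain ⟨t, ht, t', ht', rfl⟩ := hall m
      rw [hrs t (hT₂le ht) t' (hT₂le ht')] at hm2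
      obtain ⟨e1, -⟩ := huniq t' (hT₂le ht') t (hT₂le ht) t (hT₂le ht) t' (hT₂le ht') hm2
      rw [← hq, map_add, hqr] at hm1
      obtain ⟨e2, -⟩ := huniq _ (hqM₂ t (hT₂le ht)) _ (hqM₂ t' (hT₂le ht')) t (hT₂le ht) t' (hT₂le ht') hm1
      apply Subtype.ext
      show t + ρ r t' = w + ρ r w
      rcases hqfix t (hT₂le ht) e2 with h | h
      · exact absurd (Subtype.ext (show t + ρ r t' = 0 by rw [e1, h, map_zero, add_zero])) hne'
      · rw [e1, h]

/-- Let S be a finite group with a normal elementary abelian subgroup A of order 9 that is self-centralizing (C_S(A) = A), and a dihedral subgroup X of order 8 with S = AX. Let M be a finite-dimensional module for S over the field with two elements that is faithful and irreducible. Then M has 16 elements, and X contains exactly one subgroup B of order 4 and exponent 2 whose fixed points on M form a subspace with exactly 2 elements (equivalently, M is free of rank one over the group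 algebra of B). -/
theorem result {S : Type*} [Group S] [Finite S]
    (A : Subgroup S) [A.Normal] (hA : Cfsg.IsElementaryAbelian 3 A) (hA9 : Nat.card ↥A = 9)
    (hAC : Subgroup.centralizer (A : Set S) = A) (X : Subgroup S) (hX : Nonempty (↥X ≃* DihedralGroup 4)) (hAX : A ⊔ X = ⊤)
    {M : Type*} [AddCommGroup M] [Module (ZMod 2) M] [Finite M] (ρ : Representation (ZMod 2) S M)
    (hfaith : Function.Injective ρ)
    (hirr : ∀ N : Submodule (ZMod 2) M, (∀ s : S, ∀ m ∈ N, ρ s m ∈ N) → N = ⊥ ∨ N = ⊤) (hM : Nontrivial M) :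
    Nat.card M = 16 ∧
      ∃! B : Subgroup S, B ≤ X ∧ Nat.card ↥B = 4 ∧ (∀ b ∈ B, b ^ 2 = 1) ∧
        Nat.card {m : M // ∀ b ∈ B, ρ b m = m} = 2 := by
  classical
  obtain ⟨e⟩ := hX
  obtain ⟨hAab, hA3⟩ := hA
  have hAc : ∀ x ∈ A, ∀ y ∈ A, x * y = y * x := fun x hx y hy =>
    congrArg Subtype.val (hAab.is_comm.comm ⟨x, hx⟩ ⟨y, hy⟩)
  have hA3' : ∀ x ∈ A, x * x * x = 1 := fun x hx => by rw [← hA3 x hx, pow_succ, sq]
  have hXA : ∀ x ∈ X, x ∈ A → x = 1 := fun x hx hxA => by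
    rw [← orderOf_eq_one_iff]
    have h1 := Subgroup.orderOf_dvd_natCard A hxA
    have h2 := Subgroup.orderOf_dvd_natCard X hx
    rw [hA9] at h1
    rw [Nat.card_congr e.toEquiv, DihedralGroup.nat_card] at h2
    exact Nat.dvd_one.mp ((show Nat.gcd 9 (2 * 4) = 1 by norm_num) ▸ Nat.dvd_gcd h1 h2)
  have hfaithA : ∀ x ∈ X, (∀ a ∈ A, x * a = a * x) → x = 1 := fun x hx h => hXA x hx (by
    rw [← hAC, mem_centralizer_iff]
    exact fun a ha => (h a ha).symm)
  have hAn : ∀ (g : S), ∀ a ∈ A, g * a * g⁻¹ ∈ A := fun g a ha => (inferInstance : A.Normal).conj_mem a ha g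
  let η : DihedralGroup 4 → S := fun d => (e.symm d : S)
  have ηm : ∀ d d', η (d * d') = η d * η d' := fun d d' => by simp [η]
  have η1 : η 1 = 1 := by simp [η]
  have ηinj : Function.Injective η := fun d d' h => e.symm.injective (Subtype.ext h)
  have ηinv : ∀ d, η d⁻¹ = (η d)⁻¹ := fun d => by simp [η]
  have ηX : ∀ d, η d ∈ X := fun d => (e.symm d).2
  set R := η (DihedralGroup.r 1) with hR
  set q := R * R with hq
  have hqd : η (DihedralGroup.r 2) = q := by rw [hq, hR, ← ηm, (dihedral_facts 0).2.1]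
  have hR4 : R * R * (R * R) = 1 := by rw [hR, ← ηm, ← ηm, (dihedral_facts 0).2.2.1, η1]
  have hq1 : q ≠ 1 := fun h => (dihedral_facts 0).2.2.2.2.2.2.2.2.1 (ηinj (by rw [hqd, h, η1]))
  have hqq : q * q = 1 := hR4
  have hqinv : ∀ a ∈ A, q * a * q⁻¹ = a⁻¹ := by
    have hfix : ∀ c ∈ A, q * c * q⁻¹ = c → c = 1 := by
      by_contra hex
      push Not at hex
      obtain ⟨c, hcA, hc, hc1⟩ := hex
      obtain ⟨a, haA, ha⟩ : ∃ a ∈ A, q * a ≠ a * q := by
        by_contra! hall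
        exact hq1 (hfaithA q (hqd ▸ ηX _) hall)
      set d := a⁻¹ * (q * a * q⁻¹) with hd
      have hdA : d ∈ A := mul_mem (inv_mem haA) (hAn q a haA)
      have hd1 : d ≠ 1 := fun h => ha (mul_inv_eq_iff_eq_mul.mp (inv_mul_eq_one.mp h).symm)
      have hdq : q * d * q⁻¹ = d⁻¹ := by
        rw [hd]
        calc q * (a⁻¹ * (q * a * q⁻¹)) * q⁻¹ = (q * a * q⁻¹)⁻¹ * ((q * q) * a * (q * q)⁻¹) := by group
          _ = _ := by rw [hqq]; group
      -- elements inverted by `q`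
      have hI : ∀ x ∈ A, q * x * q⁻¹ = x⁻¹ → x = 1 ∨ x = d ∨ x = d⁻¹ := by
        intro x hx hxq
        by_contra hnot
        push Not at hnot
        obtain ⟨hx1, hxd, hxd'⟩ := hnot
        let f : Fin 4 × Fin 3 → A := fun y => ⟨![1, d, d⁻¹, x] y.1 * ![1, c, c⁻¹] y.2, by
          refine mul_mem ?_ ?_
          · rcases y.1 with ⟨i, hi⟩; interval_cases i <;> simp [one_mem, hdA, hx, inv_mem]
          · rcases y.2 with ⟨i, hi⟩; interval_cases i <;> simp [one_mem, hcA, inv_mem]⟩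
        have hinv : ∀ i, q * (![1, d, d⁻¹, x] i) * q⁻¹ = (![1, d, d⁻¹, x] i)⁻¹ := by
          intro i
          fin_cases i
          · simp
          · exact hdq
          · show q * d⁻¹ * q⁻¹ = d⁻¹⁻¹
            rw [show q * d⁻¹ * q⁻¹ = (q * d * q⁻¹)⁻¹ by group, hdq]
          · exact hxq
        have hcfix : ∀ i, q * (![1, c, c⁻¹] i) * q⁻¹ = ![1, c, c⁻¹] i := by
          intro i
          fin_cases i
          · simp
          · exact hc
          · show q * c⁻¹ * q⁻¹ = c⁻¹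
            rw [show q * c⁻¹ * q⁻¹ = (q * c * q⁻¹)⁻¹ by group, hc]
        have hinj : Function.Injective f := by
          rintro ⟨i, k⟩ ⟨i', k'⟩ h
          have h : ![1, d, d⁻¹, x] i * ![1, c, c⁻¹] k = ![1, d, d⁻¹, x] i' * ![1, c, c⁻¹] k' := congrArg Subtype.val h
          have hIA : ∀ i, ![1, d, d⁻¹, x] i ∈ A := fun i => by fin_cases i <;> simp [one_mem, hdA, hx, inv_mem]
          set u := (![1, d, d⁻¹, x] i')⁻¹ * ![1, d, d⁻¹, x] i with hu
          have huA : u ∈ A := mul_mem (inv_mem (hIA i')) (hIA i)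
          have hu' : u = ![1, c, c⁻¹] k' * (![1, c, c⁻¹] k)⁻¹ := by
            rw [hu, eq_mul_inv_iff_mul_eq, mul_assoc, h, inv_mul_cancel_left]
          have e1 : q * u * q⁻¹ = u := by
            calc q * u * q⁻¹ = (q * ![1, c, c⁻¹] k' * q⁻¹) * (q * ![1, c, c⁻¹] k * q⁻¹)⁻¹ := by rw [hu']; group
              _ = _ := by rw [hcfix, hcfix, hu']
          have e2 : q * u * q⁻¹ = u⁻¹ := by
            calc q * u * q⁻¹ = (q * ![1, d, d⁻¹, x] i' * q⁻¹)⁻¹ * (q * ![1, d, d⁻¹, x] i * q⁻¹) := by rw [hu]; group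
              _ = _ := by
                have key : ∀ y ∈ A, ∀ z ∈ A, y * z⁻¹ = (y⁻¹ * z)⁻¹ := fun y hy z hz => by
                  rw [mul_inv_rev, inv_inv]; exact hAc y hy _ (inv_mem hz)
                rw [hinv, hinv, inv_inv]
                exact key _ (hIA i') _ (hIA i)
          have hu1 : u = 1 := by
            have h2 := e1.symm.trans e2
            calc u = u * u * u * (u * u)⁻¹ := by group
              _ = _ := by rw [hA3' u huA]; nth_rw 2 [h2]; simp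
          have hdd : d ≠ d⁻¹ := fun h => hd1 (by
            calc d = d * d * d * (d * d)⁻¹ := by group
              _ = _ := by rw [hA3' d hdA]; nth_rw 2 [h]; simp)
          have hcc : c ≠ c⁻¹ := fun h => hc1 (by
            calc c = c * c * c * (c * c)⁻¹ := by group
              _ = _ := by rw [hA3' c hcA]; nth_rw 2 [h]; simp)
          have hi' : ![1, d, d⁻¹, x] i = ![1, d, d⁻¹, x] i' := (inv_mul_eq_one.mp hu1).symm
          have hk' : ![1, c, c⁻¹] k = ![1, c, c⁻¹] k' := by rw [hi'] at h; exact mul_left_cancel h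
          refine Prod.ext ?_ ?_
          · fin_cases i <;> fin_cases i' <;>
              simp [hd1, hd1.symm, hx1, Ne.symm hx1, hxd, Ne.symm hxd, hxd', Ne.symm hxd', hdd, hdd.symm] at hi' ⊢
          · fin_cases k <;> fin_cases k' <;> simp [hc1, Ne.symm hc1, hcc, hcc.symm] at hk' ⊢
        have h12 := Nat.card_le_card_of_injective f hinj
        rw [Nat.card_prod, Nat.card_fin, Nat.card_fin, hA9] at h12
        omega
      have hRd : q * (R * d * R⁻¹) * q⁻¹ = (R * d * R⁻¹)⁻¹ := by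
        calc q * (R * d * R⁻¹) * q⁻¹ = R * (q * d * q⁻¹) * R⁻¹ := by rw [hq]; group
          _ = _ := by rw [hdq]; group
      have hfixd : q * d * q⁻¹ = d := by
        rw [show q * d * q⁻¹ = R * (R * d * R⁻¹) * R⁻¹ by rw [hq]; group]
        rcases hI _ (hAn R d hdA) hRd with h | h | h
        · exact absurd (conj_eq_one_iff.mp h) hd1
        · rw [h, h]
        · rw [h, show R * d⁻¹ * R⁻¹ = (R * d * R⁻¹)⁻¹ by group, h, inv_inv]
      rw [hdq] at hfixd
      exact hd1 (by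
        calc d = d * d * d * (d * d)⁻¹ := by group
          _ = _ := by rw [hA3' d hdA]; nth_rw 2 [← hfixd]; simp)
    intro a ha
    have hc := hfix (a * (q * a * q⁻¹)) (mul_mem ha (hAn q a ha)) (by
      calc q * (a * (q * a * q⁻¹)) * q⁻¹ = (q * a * q⁻¹) * ((q * q) * a * (q * q)⁻¹) := by group
        _ = (q * a * q⁻¹) * a := by rw [hqq]; group
        _ = _ := hAc _ (hAn q a ha) a ha)
    exact eq_inv_of_mul_eq_one_right hc
  -- the first frame
  set s₀ := η (DihedralGroup.sr 0) with hs₀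
  have hs₀2 : s₀ * s₀ = 1 := by rw [hs₀, ← ηm, (dihedral_facts 0).1, η1]
  obtain ⟨a, haA, hsa, ha1⟩ : ∃ a ∈ A, s₀ * a = a * s₀ ∧ a ≠ 1 := by
    by_contra! hnone
    have hinv : ∀ x ∈ A, s₀ * x * s₀⁻¹ = x⁻¹ := by
      intro x hx
      have hc := hnone (x * (s₀ * x * s₀⁻¹)) (mul_mem hx (hAn s₀ x hx)) (by
        have h1 : s₀ * (x * (s₀ * x * s₀⁻¹)) * s₀⁻¹ = x * (s₀ * x * s₀⁻¹) := by
          calc s₀ * (x * (s₀ * x * s₀⁻¹)) * s₀⁻¹ = (s₀ * x * s₀⁻¹) * ((s₀ * s₀) * x * (s₀ * s₀)⁻¹) := by group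
            _ = (s₀ * x * s₀⁻¹) * x := by rw [hs₀2]; group
            _ = _ := hAc _ (hAn s₀ x hx) x hx
        exact mul_inv_eq_iff_eq_mul.mp h1)
      exact eq_inv_of_mul_eq_one_right hc
    refine (dihedral_facts 0).2.2.2.2.2.2.2.2.2.1 (ηinj ?_)
    rw [η1, ηm, hqd, ← hs₀]
    refine hfaithA _ (mul_mem (ηX _) (hqd ▸ ηX _)) fun x hx => mul_inv_eq_iff_eq_mul.mp ?_
    calc s₀ * q * x * (s₀ * q)⁻¹ = s₀ * (q * x * q⁻¹) * s₀⁻¹ := by group
      _ = _ := by rw [hqinv x hx, show s₀ * x⁻¹ * s₀⁻¹ = (s₀ * x * s₀⁻¹)⁻¹ by group, hinv x hx, inv_inv]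
  set b := R * a * R⁻¹ with hb
  have hbA : b ∈ A := hAn R a haA
  have hspan : ∀ x ∈ A, x ∈ Subgroup.closure ({a, b} : Set S) := by
    have hle : Subgroup.closure ({a, b} : Set S) ≤ A := by
      rw [Subgroup.closure_le]; rintro y (rfl | rfl) <;> assumption
    have hlt : Subgroup.zpowers a < Subgroup.closure ({a, b} : Set S) := by
      refine lt_of_le_of_ne (Subgroup.zpowers_le.mpr (Subgroup.subset_closure (by simp))) fun h => ?_
      have hbm : b ∈ Subgroup.zpowers a := h ▸ Subgroup.subset_closure (by simp)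
      obtain ⟨i, hi⟩ := Subgroup.mem_zpowers_iff.mp hbm
      have e1 : q * a * q⁻¹ = a ^ (i * i) := by
        calc q * a * q⁻¹ = R * b * R⁻¹ := by rw [hq, hb]; group
          _ = R * a ^ i * R⁻¹ := by rw [hi]
          _ = (R * a * R⁻¹) ^ i := conj_zpow.symm
          _ = _ := by rw [← hb, ← hi, zpow_mul]
      rw [hqinv a haA, ← zpow_neg_one, Cfsg.Lib.TwoGroup.zpow_eq_iff_dvd,
        orderOf_eq_prime (hA3 a haA) ha1] at e1
      rcases (show i % 3 = 0 ∨ i % 3 = 1 ∨ i % 3 = 2 by omega) with h | h | h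
      · obtain ⟨t, rfl⟩ : ∃ t, i = 3 * t := ⟨i / 3, by omega⟩
        rw [show -1 - 3 * t * (3 * t) = 3 * (-3 * t * t) - 1 by ring] at e1; omega
      · obtain ⟨t, rfl⟩ : ∃ t, i = 3 * t + 1 := ⟨i / 3, by omega⟩
        rw [show -1 - (3 * t + 1) * (3 * t + 1) = 3 * (-3 * t * t - 2 * t) - 2 by ring] at e1; omega
      · obtain ⟨t, rfl⟩ : ∃ t, i = 3 * t + 2 := ⟨i / 3, by omega⟩
        rw [show -1 - (3 * t + 2) * (3 * t + 2) = 3 * (-3 * t * t - 4 * t - 1) - 2 by ring] at e1; omega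
    have h3 : Nat.card (Subgroup.zpowers a) = 3 := by
      rw [Nat.card_zpowers, orderOf_eq_prime (hA3 a haA) ha1]
    have h4 : 3 < Nat.card (Subgroup.closure ({a, b} : Set S)) := by
      refine lt_of_le_of_ne (h3 ▸ Subgroup.card_le_of_le hlt.le) fun h => hlt.ne ?_
      exact Subgroup.eq_of_le_of_card_ge hlt.le (by rw [h3, ← h])
    obtain ⟨i, hi, hic⟩ := (Nat.dvd_prime_pow Nat.prime_three).mp
      (show Nat.card (Subgroup.closure ({a, b} : Set S)) ∣ 3 ^ 2 by
        rw [show (3 : ℕ) ^ 2 = 9 by norm_num, ← hA9]; exact Subgroup.card_dvd_of_le hle)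
    have hi2 : i = 2 := by interval_cases i <;> simp_all
    have heq : Subgroup.closure ({a, b} : Set S) = A :=
      Subgroup.eq_of_le_of_card_ge hle (by rw [hic, hi2, hA9]; norm_num)
    exact fun x hx => heq.symm ▸ hx
  have hgenX : ∀ (j : ZMod 4) (K : Subgroup S), R ∈ K → η (DihedralGroup.sr j) ∈ K → X ≤ K := by
    intro j K hRK hsK x hx
    obtain ⟨i, k, hik⟩ := dihedral_gen j (e ⟨x, hx⟩)
    have hx' : x = η (e ⟨x, hx⟩) := by simp [η]
    have hp : ∀ (d : DihedralGroup 4) (n : ℕ), η (d ^ n) = η d ^ n := fun d n => by simp [η]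
    rw [hx', hik, ηm, hp, hp]
    exact mul_mem (pow_mem hRK _) (pow_mem hsK _)
  have hgen : ∀ (j : ZMod 4) (a' : S), a ∈ Subgroup.closure ({a', R, η (DihedralGroup.sr j)} : Set S) →
      Subgroup.closure ({a', R, η (DihedralGroup.sr j)} : Set S) = ⊤ := by
    intro j a' ha'
    set K := Subgroup.closure ({a', R, η (DihedralGroup.sr j)} : Set S) with hK
    have hRK : R ∈ K := Subgroup.subset_closure (by simp)
    rw [eq_top_iff, ← hAX, sup_le_iff]
    refine ⟨fun x hx => ?_, hgenX j K hRK (Subgroup.subset_closure (by simp))⟩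
    refine (Subgroup.closure_le K).mpr ?_ (hspan x hx)
    rintro y (rfl | rfl)
    · exact ha'
    · exact mul_mem (mul_mem hRK ha') (inv_mem hRK)
  -- no vector fixed by `A`
  have act : ∀ (g h : S) (m : M), ρ (g * h) m = ρ g (ρ h m) := fun g h m => by rw [map_mul]; rfl
  have act1 : ∀ m : M, ρ 1 m = m := fun m => by rw [map_one]; rfl
  have hfixA : ∀ m : M, (∀ x ∈ A, ρ x m = m) → m = 0 := by
    let N : Submodule (ZMod 2) M :=
      { carrier := {m | ∀ x ∈ A, ρ x m = m}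
        add_mem' := fun {m n} hm hn x hx => by rw [map_add, hm x hx, hn x hx]
        zero_mem' := fun x _ => map_zero _
        smul_mem' := fun c {m} hm x hx => by rw [map_smul, hm x hx] }
    have hN := hirr N fun g m hm x hx => by
      rw [← act, show x * g = g * (g⁻¹ * x * g) by group, act]
      exact congrArg _ (hm _ (by simpa using hAn g⁻¹ x hx))
    rcases hN with h | h
    · intro m hm
      have hm' : m ∈ N := hm
      rw [h] at hm'
      exact (Submodule.mem_bot _).mp hm'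
    · exfalso
      have : ρ a = ρ 1 := LinearMap.ext fun m => by
        have hm : m ∈ N := by rw [h]; exact Submodule.mem_top
        rw [act1]; exact hm a haA
      exact ha1 (hfaith this)
  have actinv : ∀ (g : S) (m : M), ρ g⁻¹ (ρ g m) = m := fun g m => by rw [← act, inv_mul_cancel, act1]
  let Stab : M → Subgroup S := fun m =>
    { carrier := {g | ρ g m = m}
      one_mem' := act1 m
      mul_mem' := fun {g h} hg hh => by
        show ρ (g * h) m = m
        rw [act]; rw [show ρ h m = m from hh]; exact hg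
      inv_mem' := fun {g} hg => by
        show ρ g⁻¹ m = m
        have := actinv g m
        rwa [show ρ g m = m from hg] at this }
  have hfix2 : ∀ (a' b' : S), (∀ x ∈ A, x ∈ Subgroup.closure ({a', b'} : Set S)) →
      ∀ m, ρ a' m = m → ρ b' m = m → m = 0 := fun a' b' hsp m h1 h2 => hfixA m fun x hx => by
    have : Subgroup.closure ({a', b'} : Set S) ≤ Stab m := by
      rw [Subgroup.closure_le]; rintro y (rfl | rfl) <;> assumption
    exact this (hsp x hx)
  -- relations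
  have hRb : R * b * R⁻¹ = a⁻¹ := by
    rw [← hqinv a haA, hq, hb]; group
  have hsr₀ : s₀ * R * s₀⁻¹ = R⁻¹ := by rw [hs₀, hR, ← ηinv, ← ηm, ← ηm, (dihedral_facts 0).2.2.2.1, ηinv]
  have hsb : s₀ * b * s₀⁻¹ = b⁻¹ := by
    have hRi : R⁻¹ = R * q := inv_eq_of_mul_eq_one_right (by rw [← mul_assoc, ← hq]; exact hqq)
    calc s₀ * b * s₀⁻¹ = (s₀ * R * s₀⁻¹) * ((s₀ * a) * s₀⁻¹) * (s₀ * R * s₀⁻¹)⁻¹ := by rw [hb]; group
      _ = R⁻¹ * a * R := by rw [hsr₀, hsa]; group
      _ = R⁻¹ * a * (R⁻¹)⁻¹ := by group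
      _ = R * (q * a * q⁻¹) * R⁻¹ := by
          conv_lhs => rw [hRi]
          group
      _ = _ := by rw [hqinv a haA, hb]; group
  have hab : a * b = b * a := hAc a haA b hbA
  -- some element fixes a vector
  obtain ⟨m₀, hm₀, hcases⟩ : ∃ m : M, m ≠ 0 ∧ (ρ a m = m ∨ ρ b m = m ∨ ρ (a * b) m = m ∨ ρ (a * b⁻¹) m = m) := by
    by_contra! hnone
    have hsum : ∀ x ∈ A, (∀ m, ρ x m = m → m = 0) → ∀ m, ρ x (ρ x m) = m + ρ x m := by
      intro x hx hxf m
      have h0 : m + ρ x m + ρ x (ρ x m) = 0 := hxf _ (by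
        rw [map_add, map_add, ← act x x (ρ x m), ← act (x * x) x m, hA3' x hx, act1]; abel)
      calc ρ x (ρ x m) = (m + ρ x m) + (m + ρ x m + ρ x (ρ x m)) := by rw [← add_assoc, add_self', zero_add]
        _ = _ := by rw [h0, add_zero]
    obtain ⟨m, hm⟩ := exists_ne (0 : M)
    have f : ∀ x, (∀ m : M, m ≠ 0 → ρ x m ≠ m) → ∀ m, ρ x m = m → m = 0 := fun x h m hxm => by
      by_contra hm0; exact h m hm0 hxm
    have ha' := hsum a haA (f a fun m hm => (hnone m hm).1)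
    have hb' := hsum b hbA (f b fun m hm => (hnone m hm).2.1)
    have hab' := hsum (a * b) (mul_mem haA hbA) (f _ fun m hm => (hnone m hm).2.2.1) m
    have e : ρ (a * b) (ρ (a * b) m) = (m + ρ a m) + (ρ b m + ρ a (ρ b m)) := by
      rw [← act, show a * b * (a * b) = a * a * (b * b) by
        rw [mul_assoc a b, ← mul_assoc b a b, ← hab, mul_assoc a b b, ← mul_assoc], act, act b b, hb' m, map_add, act, act, ha', ha']
    rw [e, act a b m] at hab'
    have hz : ρ a m + ρ b m = 0 := by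
      calc ρ a m + ρ b m = ((m + m) + (ρ a (ρ b m) + ρ a (ρ b m))) + (ρ a m + ρ b m) := by
            rw [add_self', add_self', add_zero, zero_add]
        _ = ((m + ρ a m) + (ρ b m + ρ a (ρ b m))) + (m + ρ a (ρ b m)) := by abel
        _ = 0 := by rw [hab', add_self']
    have hab2 : ρ a m = ρ b m := by
      calc ρ a m = ρ a m + (ρ b m + ρ b m) := by rw [add_self', add_zero]
        _ = _ := by rw [← add_assoc, hz, zero_add]
    have h3 : ρ (a * b⁻¹) (ρ b m) = ρ b m := by rw [act, actinv, hab2]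
    have h4 := f _ (fun m hm => (hnone m hm).2.2.2) _ h3
    exact hm (by rw [← actinv b m, h4, map_zero])
  -- the good frame
  have hback : ∀ (x : S) (m : M), ρ (R * x * R⁻¹) m = m → ρ x (ρ R⁻¹ m) = ρ R⁻¹ m := by
    intro x m hm
    rw [← act, show x * R⁻¹ = R⁻¹ * (R * x * R⁻¹) by group, act, hm]
  have hback0 : ∀ m : M, m ≠ 0 → ρ R⁻¹ m ≠ 0 := fun m hm h => hm (by
    rw [← act1 m, ← mul_inv_cancel R, act, h, map_zero])
  have haa : (a * a)⁻¹ = a := inv_eq_of_mul_eq_one_left (by rw [← mul_assoc]; exact hA3' a haA)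
  obtain ⟨j, a', b', h1, h2, h3, h4, h5, h6, h7, hne⟩ : ∃ (j : ZMod 4) (a' b' : S), a' ∈ A ∧
      (∀ x ∈ A, x ∈ Subgroup.closure ({a', b'} : Set S)) ∧ Subgroup.closure ({a', R, η (DihedralGroup.sr j)} : Set S) = ⊤ ∧
      R * a' * R⁻¹ = b' ∧ R * b' * R⁻¹ = a'⁻¹ ∧ η (DihedralGroup.sr j) * a' = a' * η (DihedralGroup.sr j) ∧
      η (DihedralGroup.sr j) * b' * (η (DihedralGroup.sr j))⁻¹ = b'⁻¹ ∧ ∃ m : M, m ≠ 0 ∧ ρ a' m = m := by
    by_cases hfirst : ∃ m : M, m ≠ 0 ∧ ρ a m = m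
    · exact ⟨0, a, b, haA, hspan, hgen 0 a (Subgroup.subset_closure (by simp)), rfl, hRb, hsa, hsb, hfirst⟩
    refine ⟨1, a * b⁻¹, a * b, mul_mem haA (inv_mem hbA), ?_, hgen 1 _ ?_, ?_, ?_, ?_, ?_, ?_⟩
    · intro x hx
      refine (Subgroup.closure_le _).mpr ?_ (hspan x hx)
      have hamem : a ∈ Subgroup.closure ({a * b⁻¹, a * b} : Set S) := by
        have h := inv_mem (mul_mem (Subgroup.subset_closure (by simp : a * b⁻¹ ∈ ({a * b⁻¹, a * b} : Set S)))
          (Subgroup.subset_closure (by simp : a * b ∈ ({a * b⁻¹, a * b} : Set S))))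
        rwa [show a * b⁻¹ * (a * b) = a * (b⁻¹ * a * b) by group, show b⁻¹ * a * b = a by
          rw [mul_assoc, hab, inv_mul_cancel_left], haa] at h
      rintro y (rfl | rfl)
      · exact hamem
      · have h := mul_mem (inv_mem hamem) (Subgroup.subset_closure (by simp : a * b ∈ ({a * b⁻¹, a * b} : Set S)))
        rwa [inv_mul_cancel_left] at h
    · set K := Subgroup.closure ({a * b⁻¹, R, η (DihedralGroup.sr 1)} : Set S)
      have hK : a * b⁻¹ ∈ K := Subgroup.subset_closure (by simp)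
      have hRK : R ∈ K := Subgroup.subset_closure (by simp)
      have h := inv_mem (mul_mem hK (mul_mem (mul_mem hRK hK) (inv_mem hRK)))
      rwa [show R * (a * b⁻¹) * R⁻¹ = (R * a * R⁻¹) * (R * b * R⁻¹)⁻¹ by group, ← hb, hRb, inv_inv,
        ← hab, show a * b⁻¹ * (a * b) = a * (b⁻¹ * a * b) by group, show b⁻¹ * a * b = a by
          rw [mul_assoc, hab, inv_mul_cancel_left], haa] at h
    · rw [show R * (a * b⁻¹) * R⁻¹ = (R * a * R⁻¹) * (R * b * R⁻¹)⁻¹ by group, ← hb, hRb, inv_inv, hab]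
    · rw [show R * (a * b) * R⁻¹ = (R * a * R⁻¹) * (R * b * R⁻¹) by group, ← hb, hRb, mul_inv_rev, inv_inv]
    · rw [show η (DihedralGroup.sr 1) = s₀ * R by rw [hs₀, hR, ← ηm, (dihedral_facts 0).2.2.2.2.2.2.2.1, zero_add]]
      refine mul_inv_eq_iff_eq_mul.mp ?_
      calc s₀ * R * (a * b⁻¹) * (s₀ * R)⁻¹ = s₀ * ((R * a * R⁻¹) * (R * b * R⁻¹)⁻¹) * s₀⁻¹ := by group
        _ = (s₀ * b * s₀⁻¹) * ((s₀ * a) * s₀⁻¹) := by rw [← hb, hRb, inv_inv]; group
        _ = _ := by rw [hsb, hsa, mul_inv_cancel_right]; exact (hAc a haA _ (inv_mem hbA)).symm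
    · rw [show η (DihedralGroup.sr 1) = s₀ * R by rw [hs₀, hR, ← ηm, (dihedral_facts 0).2.2.2.2.2.2.2.1, zero_add]]
      calc s₀ * R * (a * b) * (s₀ * R)⁻¹ = s₀ * ((R * a * R⁻¹) * (R * b * R⁻¹)) * s₀⁻¹ := by group
        _ = (s₀ * b * s₀⁻¹) * ((s₀ * a) * s₀⁻¹)⁻¹ := by rw [← hb, hRb]; group
        _ = _ := by rw [hsb, hsa, mul_inv_cancel_right]; exact (mul_inv_rev a b).symm
    · rcases hcases with h | h | h | h
      · exact absurd ⟨m₀, hm₀, h⟩ hfirst
      · exact absurd ⟨ρ R⁻¹ m₀, hback0 _ hm₀, hback a m₀ (hb ▸ h)⟩ hfirst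
      · refine ⟨ρ R⁻¹ m₀, hback0 _ hm₀, hback _ m₀ ?_⟩
        rw [show R * (a * b⁻¹) * R⁻¹ = (R * a * R⁻¹) * (R * b * R⁻¹)⁻¹ by group, ← hb, hRb, inv_inv, ← hab]
        exact h
      · exact ⟨m₀, hm₀, h⟩
  set σ := η (DihedralGroup.sr j) with hσ
  have hF := dihedral_facts j
  obtain ⟨hc16, hc1, hc2⟩ := module_of_frame ρ a' b' R σ h3 (hA3' a' h1)
    (hAc a' h1 b' (h4 ▸ hAn R a' h1)) h4 h5 h6 h7
    (by rw [hσ, ← ηm, hF.1, η1]) (by rw [hσ, hR, ← ηinv, ← ηm, ← ηm, hF.2.2.2.1, ηinv]) hR4 hirr (hfix2 a' b' h2) hne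
  refine ⟨hc16, ?_⟩
  set G₂ : Finset (DihedralGroup 4) :=
    {1, DihedralGroup.r 2, DihedralGroup.sr (j + 1), DihedralGroup.sr (j + 3)} with hG₂
  let K : Subgroup (DihedralGroup 4) :=
    { carrier := ↑G₂
      one_mem' := by simp [hG₂]
      mul_mem' := fun {a b} ha hb => (four_mul j a b ha hb).1
      inv_mem' := fun {a} ha => by rw [inv_eq_of_mul_eq_one_left (four_mul j a a ha ha).2]; exact ha }
  let ηh : DihedralGroup 4 →* S := { toFun := η, map_one' := η1, map_mul' := ηm }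
  set B₀ := K.map ηh with hB₀
  have hB₀m : ∀ x, x ∈ B₀ ↔ ∃ d ∈ G₂, η d = x := fun x => Iff.rfl
  refine ⟨B₀, ⟨?_, ?_, ?_, ?_⟩, ?_⟩
  · rintro x hx
    obtain ⟨d, -, rfl⟩ := (hB₀m x).mp hx
    exact ηX d
  · rw [hB₀, Subgroup.card_map_of_injective (show Function.Injective ηh from ηinj)]
    show Nat.card {d // d ∈ G₂} = 4
    rw [Nat.card_eq_fintype_card, Fintype.card_coe, hG₂, four_card]
  · intro x hx
    obtain ⟨d, hd, rfl⟩ := (hB₀m x).mp hx
    rw [sq, ← ηm, (four_mul j d d hd hd).2, η1]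
  · refine (Nat.card_congr (Equiv.subtypeEquivRight (p := fun m : M => ∀ b ∈ B₀, ρ b m = m)
      (q := fun m : M => ρ (R * R) m = m ∧ ρ (R * σ) m = m) fun m => ⟨fun h => ⟨?_, ?_⟩, fun h => ?_⟩)).trans hc2
    · exact h _ ((hB₀m _).mpr ⟨DihedralGroup.r 2, by simp [hG₂], hqd⟩)
    · exact h _ ((hB₀m _).mpr ⟨DihedralGroup.sr (j + 3), by simp [hG₂], by rw [hσ, hR, ← ηm, hF.2.2.2.2.2.1]⟩)
    · intro x hx
      obtain ⟨d, hd, rfl⟩ := (hB₀m x).mp hx
      simp only [hG₂, Finset.mem_insert, Finset.mem_singleton] at hd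
      rcases hd with rfl | rfl | rfl | rfl
      · rw [η1, act1]
      · rw [hqd]; exact h.1
      · rw [← hF.2.2.2.2.2.2.1, ηm, ηm, hqd, ← hσ, ← hR, act, h.2]; exact h.1
      · rw [← hF.2.2.2.2.2.1, ηm, ← hσ, ← hR]; exact h.2
  · rintro B ⟨hBX, hB4, hBsq, hBfix⟩
    set F : Finset (DihedralGroup 4) := Finset.univ.filter (fun d => η d ∈ B) with hFdef
    have hFm : ∀ d, d ∈ F ↔ η d ∈ B := fun d => by simp [hFdef]
    have hsurj : ∀ x ∈ B, ∃ d, η d = x := fun x hx => ⟨e ⟨x, hBX hx⟩, by simp [η]⟩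
    have hFcard : F.card = 4 := by
      refine ((Fintype.card_coe F).symm.trans Nat.card_eq_fintype_card.symm).trans (Eq.trans ?_ hB4)
      exact Nat.card_eq_of_bijective (fun d : F => (⟨η d.1, (hFm _).mp d.2⟩ : B))
        ⟨fun d d' h => Subtype.ext (ηinj (show η d.1 = η d'.1 from congrArg (fun z : B => (z : S)) h)), fun x => by
          obtain ⟨d, hd⟩ := hsurj x x.2
          exact ⟨⟨d, (hFm d).mpr (hd ▸ x.2)⟩, Subtype.ext hd⟩⟩
    have hcl := dihedral_subsets j F hFcard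
      (fun d hd => ηinj (by rw [ηm, η1, ← sq]; exact hBsq _ ((hFm d).mp hd)))
      (fun d hd d' hd' => (hFm _).mpr (by rw [ηm]; exact mul_mem ((hFm d).mp hd) ((hFm d').mp hd')))
    rcases hcl with hcl | hcl
    · exfalso
      apply hc1
      refine (Nat.card_congr (Equiv.subtypeEquivRight fun m => ⟨fun h x hx => ?_, fun h => ⟨?_, ?_⟩⟩)).trans hBfix
      · obtain ⟨d, rfl⟩ := hsurj x hx
        have hd := (hFm d).mpr hx
        simp only [hcl, Finset.mem_insert, Finset.mem_singleton] at hd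
        rcases hd with rfl | rfl | rfl | rfl
        · rw [η1, act1]
        · rw [hqd]; exact h.1
        · exact h.2
        · rw [← hF.2.2.2.2.1, ηm, hqd, ← hσ, act, h.2]; exact h.1
      · have hqB := (hFm (DihedralGroup.r 2)).mp (by rw [hcl]; simp)
        rw [hqd] at hqB
        exact h _ hqB
      · exact h _ ((hFm _).mp (by rw [hcl]; simp))
    · ext x
      constructor
      · intro hx
        obtain ⟨d, rfl⟩ := hsurj x hx
        exact (hB₀m _).mpr ⟨d, by rw [hG₂, ← hcl]; exact (hFm d).mpr hx, rfl⟩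
      · intro hx
        obtain ⟨d, hd, rfl⟩ := (hB₀m x).mp hx
        exact (hFm d).mp (by rw [hcl]; exact hd)

end Cfsg.Agent.S4407
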