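import Cfsg.Statements.S4408
import Cfsg.Agent.Lib.Coprime.Generation
import Cfsg.Agent.Lib.Coprime.PGroupAction
import Cfsg.Agent.Lib.Core.Fitting
import Cfsg.Agent.Lib.Local.Basic
import Cfsg.Agent.Lib.Core.Layer

set_option autoImplicit false
set_option linter.style.haveILetI false
open Cfsg

namespace Cfsg.Agent.S4408

open Subgroup
open scoped commutatorElement

variable {S : Type*} [Group S] [Finite S] {I : Subgroup S}

/-- An element of prime order in a `p`-group on which `I` acts by `±1`, not fixed by `t`. -/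
theorem exists_inverted {p : ℕ} [hp : Fact p.Prime] (hI : Cfsg.IsElementaryAbelian 2 I) (hp2 : p ≠ 2)
    (R : Subgroup S) (hR : IsPGroup p R) (hIR : I ≤ normalizer (R : Set S)) {t : S} (ht : t ∈ I)
    (hne : t ∉ centralizer (R : Set S)) :
    ∃ z ∈ R, orderOf z = p ∧ (∀ i ∈ I, i * z * i⁻¹ = z ∨ i * z * i⁻¹ = z⁻¹) ∧ t * z * t⁻¹ = z⁻¹ := by
  haveI := hI.1
  have hcop : (Nat.card I).Coprime (Nat.card R) := by
    obtain ⟨m, hm⟩ := IsPGroup.iff_card.1 (show IsPGroup 2 I from fun i => ⟨1, Subtype.ext (by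
      simpa using hI.2 i i.2)⟩)
    obtain ⟨k, hk⟩ := IsPGroup.iff_card.1 hR
    rw [hm, hk]
    exact Nat.Coprime.pow m k ((Nat.coprime_primes Nat.prime_two hp.out).2 (Ne.symm hp2))
  obtain ⟨B, hB, hne'⟩ : ∃ B ∈ Cfsg.Lib.Coprime.cocyclic I, ¬ (R ⊓ centralizer (B : Set S)) ≤ centralizer ({t} : Set S) := by
    by_contra hcon
    push Not at hcon
    refine hne (mem_centralizer_iff.2 fun x hx => ?_)
    exact mem_centralizer_singleton_iff.1
      (((Cfsg.Lib.Coprime.le_iSup_centralizer_cocyclic R hIR hcop).trans (iSup₂_le hcon)) hx)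
  obtain ⟨hBI, c, hcI, hBc⟩ := hB
  obtain ⟨x, ⟨hxR, hxB⟩, hxt⟩ := SetLike.not_le_iff_exists.1 hne'
  have hcom : ∀ a ∈ I, ∀ b ∈ I, a * b = b * a := fun a ha b hb =>
    congrArg Subtype.val (hI.1.is_comm.comm ⟨a, ha⟩ ⟨b, hb⟩)
  have htt : t * t = 1 := by rw [← sq]; exact hI.2 t ht
  set y := x⁻¹ * (t * x * t⁻¹) with hy
  have hty : t * y * t⁻¹ = y⁻¹ := by
    have hti : t⁻¹ = t := inv_eq_of_mul_eq_one_left htt
    rw [hy, hti, mul_inv_rev, inv_inv, mul_inv_rev, mul_inv_rev, hti]
    calc t * (x⁻¹ * (t * x * t)) * t = t * x⁻¹ * t * x * (t * t) := by group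
      _ = t * x⁻¹ * t * x := by rw [htt, mul_one]
      _ = _ := by group
  have hyR : y ∈ R := mul_mem (inv_mem hxR) ((mem_normalizer_iff.1 (hIR ht) x).1 hxR)
  have hy1 : y ≠ 1 := fun h => hxt (mem_centralizer_singleton_iff.2 (by
    rw [hy, inv_mul_eq_one, eq_mul_inv_iff_mul_eq] at h
    exact h))
  obtain ⟨k, hk⟩ := IsPGroup.iff_orderOf.1 hR ⟨y, hyR⟩
  rw [Subgroup.orderOf_mk] at hk
  have hk0 : k ≠ 0 := by
    rintro rfl
    rw [pow_zero, orderOf_eq_one_iff] at hk
    exact hy1 hk
  set z := y ^ p ^ (k - 1) with hz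
  have hzo : orderOf z = p := by
    rw [hz, orderOf_pow' _ (pow_ne_zero _ hp.out.ne_zero), hk, Nat.gcd_eq_right (pow_dvd_pow p (Nat.sub_le k 1)),
      Nat.pow_div (Nat.sub_le k 1) hp.out.pos, show k - (k - 1) = 1 by omega, pow_one]
  have htz : t * z * t⁻¹ = z⁻¹ := by rw [hz, ← conj_pow, hty, inv_pow]
  have hbz : ∀ b ∈ B, b * z * b⁻¹ = z := by
    intro b hb
    have h1 : b * x = x * b := mem_centralizer_iff.1 hxB b hb
    have h2 : b * y = y * b := by
      have hbt : Commute b t := hcom b (hBI hb) t ht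
      exact ((Commute.inv_right (show Commute b x from h1)).mul_right ((hbt.mul_right h1).mul_right hbt.inv_right))
    rw [hz, ← conj_pow, h2, mul_inv_cancel_right]
  have hc2 : c⁻¹ = c := inv_eq_of_mul_eq_one_left (by rw [← sq]; exact hI.2 c hcI)
  have hsplit : ∀ i ∈ I, ∃ b ∈ B, i = b ∨ i = b * c := by
    intro i hi
    rw [← hBc] at hi
    obtain ⟨b, hb, w, hw, rfl⟩ := Cfsg.Lib.Coprime.exists_mul_of_mem_sup (N := B) (A := zpowers c)
      (zpowers_le.2 (mem_normalizer_iff.2 fun h => ⟨fun hh => by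
          rwa [← hcom h (hBI hh) c hcI, mul_inv_cancel_right],
        fun hh => by
          have h3 : h = c⁻¹ * (c * h * c⁻¹) * c := by group
          rw [h3, hcom c⁻¹ (inv_mem hcI) _ (hBI hh), inv_mul_cancel_right]
          exact hh⟩)) hi
    obtain ⟨j, rfl⟩ := mem_zpowers_iff.1 hw
    rcases Int.even_or_odd j with ⟨l, rfl⟩ | ⟨l, rfl⟩
    · exact ⟨b, hb, Or.inl (by rw [← two_mul, zpow_mul, zpow_ofNat, hI.2 c hcI, one_zpow, mul_one])⟩
    · exact ⟨b, hb, Or.inr (by rw [zpow_add_one, zpow_mul, zpow_ofNat, hI.2 c hcI, one_zpow, one_mul])⟩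
  have hcz : c * z * c⁻¹ = z⁻¹ := by
    obtain ⟨b, hb, rfl | rfl⟩ := hsplit t ht
    · exfalso
      rw [hbz t hb] at htz
      have h2 : z ^ 2 = 1 := by rw [sq]; nth_rw 1 [htz]; rw [inv_mul_cancel]
      have := Nat.le_of_dvd two_pos (hzo ▸ orderOf_dvd_of_pow_eq_one h2)
      have := hp.out.two_le
      omega
    · rw [mul_inv_rev] at htz
      have h4 := hbz b⁻¹ (inv_mem hb)
      calc c * z * c⁻¹ = b⁻¹ * (b * c * z * (c⁻¹ * b⁻¹)) * b := by group
        _ = b⁻¹ * z⁻¹ * b := by rw [htz]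
        _ = (b⁻¹ * z * b⁻¹⁻¹)⁻¹ := by group
        _ = z⁻¹ := by rw [h4]
  refine ⟨z, pow_mem hyR _, hzo, fun i hi => ?_, htz⟩
  obtain ⟨b, hb, rfl | rfl⟩ := hsplit i hi
  · exact Or.inl (hbz i hb)
  · right
    rw [mul_inv_rev, show b * c * z * (c⁻¹ * b⁻¹) = b * (c * z * c⁻¹) * b⁻¹ by group, hcz,
      show b * z⁻¹ * b⁻¹ = (b * z * b⁻¹)⁻¹ by group, hbz b hb]

/-- Elements of coprime prime power orders in a nilpotent subgroup commute. -/
theorem commute_of_sylow {F : Subgroup S} (hF : Group.IsNilpotent F) {p r : ℕ} [Fact p.Prime] [Fact r.Prime]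
    (hpr : p ≠ r) (P : Sylow p F) (R : Sylow r F) {a b : S} (ha : a ∈ (P : Subgroup F).map F.subtype)
    (hb : b ∈ (R : Subgroup F).map F.subtype) : a * b = b * a := by
  obtain ⟨x, hx, rfl⟩ := ha
  obtain ⟨y, hy, rfl⟩ := hb
  have hPn := P.normal_of_normalizerCondition (Group.normalizerCondition_of_isNilpotent (G := F))
  have hRn := R.normal_of_normalizerCondition (Group.normalizerCondition_of_isNilpotent (G := F))
  exact congrArg Subtype.val (Subgroup.commute_of_normal_of_disjoint _ _ hPn hRn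
    (IsPGroup.disjoint_of_ne p r hpr _ _ P.2 R.2) x y hx hy)

/-- A subgroup is centralized as soon as all its Sylow subgroups are. -/
theorem mem_centralizer_of_sylow {F : Subgroup S} {t : S}
    (h : ∀ (r : ℕ), r.Prime → ∃ R : Sylow r F, t ∈ centralizer (((R : Subgroup F).map F.subtype : Subgroup S) : Set S)) :
    t ∈ centralizer (F : Set S) := by
  have htop : (centralizer ({t} : Set S)).subgroupOf F = ⊤ := by
    rw [← index_eq_one]
    by_contra hne
    obtain ⟨r, hr, hrd⟩ := Nat.exists_prime_and_dvd hne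
    haveI : Fact r.Prime := ⟨hr⟩
    obtain ⟨R, hR⟩ := h r hr
    refine R.not_dvd_index (hrd.trans (index_dvd_of_le fun x hx => ?_))
    rw [mem_subgroupOf]
    exact mem_centralizer_singleton_iff.2 (mem_centralizer_iff.1 hR x (mem_map_of_mem F.subtype hx))
  exact mem_centralizer_iff.2 fun x hx =>
    mem_centralizer_singleton_iff.1 (mem_subgroupOf.1 (htop ▸ mem_top (⟨x, hx⟩ : F)) )

/-- The recursive construction. -/
theorem exists_factors (hI : Cfsg.IsElementaryAbelian 2 I) : ∀ (m : ℕ) (J F W : Subgroup S), J ≤ I →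
    Nat.card J = 2 ^ m → Group.IsNilpotent F → Odd (Nat.card F) → I ≤ normalizer (F : Set S) →
    J ⊓ centralizer (F : Set S) = ⊥ → W ≤ F → F ≤ centralizer (W : Set S) → J ≤ centralizer (W : Set S) →
    ∃ f : Fin m → Subgroup S, (∀ i, (Nat.card ↥(f i)).Prime) ∧ (∀ i, f i ≤ F) ∧
      (∀ i, I ≤ normalizer ((f i) : Set S)) ∧ (∀ i j, i ≠ j → ∀ a ∈ f i, ∀ b ∈ f j, a * b = b * a) ∧
      Nat.card ↥(W ⊔ ⨆ i, f i) = Nat.card W * ∏ i, Nat.card ↥(f i) ∧
      J ⊓ centralizer ((⨆ i, f i : Subgroup S) : Set S) = ⊥ := by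
  intro m
  induction m with
  | zero =>
    intro J F W _ hJ _ _ _ _ _ _ _
    refine ⟨fun i => i.elim0, fun i => i.elim0, fun i => i.elim0, fun i => i.elim0, fun i => i.elim0,
      by simp, ?_⟩
    exact le_bot_iff.1 (inf_le_left.trans (Subgroup.card_eq_one.1 (by simpa using hJ)).le)
  | succ m ih =>
    intro J F W hJI hJ hF hodd hIF hfaith hWF hFW hJW
    have hJne : J ≠ ⊥ := fun h => by
      rw [h, card_bot] at hJ
      exact absurd hJ (Nat.one_lt_pow m.succ_ne_zero one_lt_two).ne
    obtain ⟨t, htJ, ht1⟩ := J.bot_or_exists_ne_one.resolve_left hJne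
    have htF : t ∉ centralizer (F : Set S) := fun h => ht1 (mem_bot.1 (hfaith.le ⟨htJ, h⟩))
    obtain ⟨p, hp, hR⟩ : ∃ p : ℕ, p.Prime ∧ ∀ R : Sylow p F,
        t ∉ centralizer (((R : Subgroup F).map F.subtype : Subgroup S) : Set S) := by
      by_contra hcon
      push Not at hcon
      exact htF (mem_centralizer_of_sylow hcon)
    haveI : Fact p.Prime := ⟨hp⟩
    obtain ⟨P⟩ : Nonempty (Sylow p F) := inferInstance
    set R := (P : Subgroup F).map F.subtype with hRdef
    haveI := P.characteristic_of_normal (P.normal_of_normalizerCondition (Group.normalizerCondition_of_isNilpotent (G := F)))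
    have hIR : I ≤ normalizer (R : Set S) := hIF.trans (Cfsg.Lib.Core.normalizer_le_normalizer_map_char _)
    have hp2 : p ≠ 2 := by
      rintro rfl
      refine hR P (mem_centralizer_iff.2 fun x hx => ?_)
      have h1 : Nat.card (P : Subgroup F) ∣ Nat.card F := card_subgroup_dvd_card _
      obtain ⟨k, hk⟩ := IsPGroup.iff_card.1 P.2
      have hk0 : k = 0 := by
        by_contra hk0
        exact (Nat.not_even_iff_odd.2 (hodd.of_dvd_nat h1)) (hk ▸ (Nat.even_pow.2 ⟨even_two, hk0⟩))
      rw [hk0, pow_zero, Subgroup.card_eq_one] at hk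
      obtain ⟨y, hy, rfl⟩ := hx
      rw [mem_bot.1 (hk.le hy), map_one, one_mul, mul_one]
    obtain ⟨z, hzR, hzo, hzI, htz⟩ := exists_inverted hI hp2 R (P.2.map _) hIR (hJI htJ) (hR P)
    have hzF : z ∈ F := map_subtype_le _ hzR
    have hzz : ∀ w ∈ zpowers z, ∀ u ∈ zpowers z, w * u = u * w := fun w hw u hu =>
      congrArg Subtype.val (mul_comm' (⟨w, hw⟩ : zpowers z) ⟨u, hu⟩)
    have hzn : I ≤ normalizer ((zpowers z : Subgroup S) : Set S) := by
      intro i hi
      rw [Cfsg.Lib.Core.mem_normalizer_iff_map_conj, MonoidHom.map_zpowers]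
      rcases hzI i hi with h | h
      · show zpowers (i * z * i⁻¹) = zpowers z
        rw [h]
      · show zpowers (i * z * i⁻¹) = zpowers z
        rw [h, zpowers_inv]
    set J₁ := J ⊓ centralizer ({z} : Set S) with hJ₁
    have htz' : t ∉ centralizer ({z} : Set S) := fun h => by
      have h1 := mem_centralizer_singleton_iff.1 h
      rw [h1, mul_inv_cancel_right] at htz
      have h2 : z ^ 2 = 1 := by rw [sq]; nth_rw 1 [htz]; rw [inv_mul_cancel]
      have := Nat.le_of_dvd two_pos (hzo ▸ orderOf_dvd_of_pow_eq_one h2)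
      have := hp.two_le
      omega
    have hJ₁c : Nat.card J₁ = 2 ^ m := by
      have hidx : (J₁.subgroupOf J).index = 2 := by
        rw [index_eq_two_iff]
        refine ⟨⟨t, htJ⟩, fun b => ?_⟩
        simp only [mem_subgroupOf, hJ₁, Subgroup.mem_inf, Subgroup.coe_mul, SetLike.coe_mem, true_and,
          J.mul_mem b.2 htJ, mem_centralizer_singleton_iff]
        rcases hzI b (hJI b.2) with h | h
        · refine Or.inr ⟨mul_inv_eq_iff_eq_mul.1 h, fun hbt => htz' (mem_centralizer_singleton_iff.2 ?_)⟩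
          exact mul_left_cancel (a := (b : S)) (by
            rw [← mul_assoc, hbt, ← mul_assoc (b : S), mul_inv_eq_iff_eq_mul.1 h, mul_assoc])
        · refine Or.inl ⟨?_, fun hb => ?_⟩
          · calc (b : S) * t * z = (b : S) * (t * z * t⁻¹) * (b : S)⁻¹ * (b * t) := by group
              _ = ((b : S) * z * (b : S)⁻¹)⁻¹ * (b * t) := by rw [htz]; group
              _ = z * (b * t) := by rw [h, inv_inv]
          · rw [hb, mul_inv_cancel_right] at h
            have h2 : z ^ 2 = 1 := by rw [sq]; nth_rw 1 [h]; rw [inv_mul_cancel]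
            have := Nat.le_of_dvd two_pos (hzo ▸ orderOf_dvd_of_pow_eq_one h2)
            have := hp.two_le
            omega
      have h1 := card_mul_index (J₁.subgroupOf J)
      rw [hidx, Nat.card_congr (subgroupOfEquivOfLe (inf_le_left : J₁ ≤ J)).toEquiv, hJ, pow_succ] at h1
      exact Nat.eq_of_mul_eq_mul_right two_pos h1
    set F₁ := F ⊓ centralizer ({z} : Set S) with hF₁
    have hIF₁ : I ≤ normalizer (F₁ : Set S) := by
      refine (le_inf hIF ?_).trans inf_normalizer_le_normalizer_inf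
      refine hzn.trans ?_
      rw [← centralizer_closure ({z} : Set S), ← zpowers_eq_closure]
      exact Cfsg.Lib.Local.normalizer_le_normalizer_centralizer _
    have hfaith₁ : J₁ ⊓ centralizer (F₁ : Set S) = ⊥ := by
      refine eq_bot_iff.2 fun s hs => hfaith.le ⟨hs.1.1, mem_centralizer_of_sylow fun r hr => ?_⟩
      haveI : Fact r.Prime := ⟨hr⟩
      by_cases hrp : p = r
      · subst hrp
        refine ⟨P, ?_⟩
        have hQc : zpowers s ≤ centralizer ((zpowers z : Subgroup S) : Set S) := zpowers_le.2 (by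
          rw [zpowers_eq_closure, centralizer_closure]
          exact hs.1.2)
        have hzpR : IsPGroup p (zpowers z) := IsPGroup.of_card (n := 1) (by rw [Nat.card_zpowers, hzo, pow_one])
        have hsI : s ∈ I := hJI hs.1.1
        have hscop : (Nat.card (zpowers s)).Coprime p := by
          rw [Nat.card_zpowers]
          exact Nat.Coprime.coprime_dvd_left (orderOf_dvd_of_pow_eq_one (hI.2 s hsI))
            ((Nat.coprime_primes Nat.prime_two hp).2 (Ne.symm hp2))
        have hfix : R ⊓ centralizer ((zpowers z : Subgroup S) : Set S) ≤ centralizer ((zpowers s : Subgroup S) : Set S) := by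
          rintro x ⟨hxR, hxz⟩
          rw [zpowers_eq_closure, centralizer_closure] at hxz ⊢
          refine mem_centralizer_singleton_iff.2 ?_
          exact mem_centralizer_iff.1 hs.2 x ⟨map_subtype_le _ hxR, hxz⟩
        have h0 := Cfsg.Lib.Coprime.commutator_eq_bot_of_AxB R (zpowers z) (zpowers s) (P.2.map _) hzpR hscop
          ((zpowers_le.2 hzR).trans le_normalizer) (zpowers_le.2 (hIR hsI)) hQc hfix
        rw [commutator_eq_bot_iff_le_centralizer, le_centralizer_iff] at h0
        exact h0 (mem_zpowers s)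
      · obtain ⟨Q⟩ : Nonempty (Sylow r F) := inferInstance
        refine ⟨Q, mem_centralizer_iff.2 fun x hx => mem_centralizer_iff.1 hs.2 x ⟨map_subtype_le _ hx, ?_⟩⟩
        exact mem_centralizer_singleton_iff.2 (commute_of_sylow hF hrp P Q hzR hx).symm
    have hzW : z ∉ W := fun h => htz' (mem_centralizer_singleton_iff.2
      ((mem_centralizer_iff.1 (hJW htJ) z h).symm))
    have hcW : ∀ w ∈ W, z * w = w * z := fun w hw => (mem_centralizer_iff.1 (hFW hzF) w hw).symm
    obtain ⟨f, hf1, hf2, hf3, hf4, hf5, hf6⟩ := ih J₁ F₁ (W ⊔ zpowers z) (inf_le_left.trans hJI) hJ₁c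
      (Cfsg.Lib.Core.isNilpotent_of_le inf_le_left hF) (hodd.of_dvd_nat (card_dvd_of_le inf_le_left)) hIF₁ hfaith₁
      (sup_le (le_inf hWF fun w hw => mem_centralizer_singleton_iff.2 (hcW w hw).symm)
        (zpowers_le.2 ⟨hzF, mem_centralizer_singleton_iff.2 rfl⟩))
      (by
        rw [le_centralizer_iff]
        refine sup_le (le_centralizer_iff.1 (inf_le_left.trans hFW)) (zpowers_le.2 ?_)
        exact mem_centralizer_iff.2 fun x hx => mem_centralizer_singleton_iff.1 hx.2)
      (by
        rw [le_centralizer_iff]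
        refine sup_le (le_centralizer_iff.1 (inf_le_left.trans hJW)) (zpowers_le.2 ?_)
        exact mem_centralizer_iff.2 fun x hx => mem_centralizer_singleton_iff.1 hx.2)
    refine ⟨Fin.cons (zpowers z) f, ?_, ?_, ?_, ?_, ?_, ?_⟩
    · refine Fin.cases ?_ hf1
      rw [Fin.cons_zero, Nat.card_zpowers, hzo]; exact hp
    · exact Fin.cases (by rw [Fin.cons_zero]; exact zpowers_le.2 hzF) fun i => by
        rw [Fin.cons_succ]; exact (hf2 i).trans inf_le_left
    · exact Fin.cases (by rw [Fin.cons_zero]; exact hzn) fun i => by rw [Fin.cons_succ]; exact hf3 i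
    · have hzf : ∀ i, ∀ a ∈ zpowers z, ∀ b ∈ f i, a * b = b * a := by
        intro i a ha b hb
        have h1 : zpowers z ≤ centralizer ({b} : Set S) := zpowers_le.2 (mem_centralizer_singleton_iff.2
          (mem_centralizer_singleton_iff.1 (hf2 i hb).2).symm)
        exact mem_centralizer_singleton_iff.1 (h1 ha)
      intro i j
      refine Fin.cases ?_ ?_ i <;> refine Fin.cases ?_ ?_ j
      · exact fun h => absurd rfl h
      · intro j _ a ha b hb; rw [Fin.cons_zero] at ha; rw [Fin.cons_succ] at hb; exact hzf j a ha b hb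
      · intro i _ a ha b hb; rw [Fin.cons_succ] at ha; rw [Fin.cons_zero] at hb; exact (hzf i b hb a ha).symm
      · intro j i hij a ha b hb
        rw [Fin.cons_succ] at ha hb
        exact hf4 i j (fun h => hij (by rw [h])) a ha b hb
    · have hd : Disjoint W (zpowers z) := by
        rw [disjoint_iff, eq_bot_iff]
        rintro w ⟨hw, hwz⟩
        by_contra hw1
        refine hzW ?_
        have : zpowers w = zpowers z := eq_of_le_of_card_ge (zpowers_le.2 hwz) (by
          rw [Nat.card_zpowers, Nat.card_zpowers, hzo]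
          exact Nat.le_of_dvd (orderOf_pos w) (by
            rcases (Nat.dvd_prime hp).1 (hzo ▸ orderOf_dvd_of_mem_zpowers hwz) with h | h
            · exact absurd (orderOf_eq_one_iff.1 h) hw1
            · rw [h]))
        exact zpowers_le.2 hw (this ▸ mem_zpowers z)
      have hnorm : zpowers z ≤ normalizer (W : Set S) := (zpowers_le.2 (mem_centralizer_iff.2 fun w hw =>
        (hcW w hw).symm) : zpowers z ≤ centralizer (W : Set S)).trans (centralizer_le_normalizer (W : Set S))
      rw [Cfsg.Lib.Coprime.card_sup_of_disjoint hnorm hd] at hf5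
      have hsup : (⨆ i, (Fin.cons (zpowers z) f : Fin (m + 1) → Subgroup S) i) = zpowers z ⊔ ⨆ i, f i := by
        refine le_antisymm (iSup_le (Fin.cases ?_ fun i => ?_)) (sup_le ?_ (iSup_le fun i => ?_))
        · exact le_iSup (Fin.cons (zpowers z) f : Fin (m + 1) → Subgroup S) 0
        · exact le_iSup (Fin.cons (zpowers z) f : Fin (m + 1) → Subgroup S) i.succ
        · rw [Fin.cons_zero]; exact le_sup_left
        · rw [Fin.cons_succ]; exact le_sup_of_le_right (le_iSup f i)
      rw [hsup, Fin.prod_univ_succ, Fin.cons_zero]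
      simp only [Fin.cons_succ]
      rw [← sup_assoc, hf5, mul_assoc]
    · refine eq_bot_iff.2 fun s hs => hf6.le ⟨⟨hs.1, ?_⟩, ?_⟩
      · refine mem_centralizer_singleton_iff.2 ((mem_centralizer_iff.1 hs.2 z ?_).symm)
        exact le_iSup (Fin.cons (zpowers z) f : Fin (m + 1) → Subgroup S) 0 (by rw [Fin.cons_zero]; exact mem_zpowers z)
      · refine centralizer_le (SetLike.coe_subset_coe.2 ?_) hs.2
        refine iSup_le fun i => ?_
        exact le_iSup (Fin.cons (zpowers z) f : Fin (m + 1) → Subgroup S) i.succ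

/-- Let S be a finite solvable group whose Fitting subgroup F(S) has odd order, and let I be an elementary abelian 2-subgroup of S of order 2ⁿ with n ≥ 1. Then F(S) contains subgroups A₁, …, Aₙ of prime order, each normalized by I, pairwise commuting and generating a subgroup A of order |A₁|⋯|Aₙ| (their internal direct product), such that no non-identity element of I centralizes A. -/
theorem result {S : Type*} [Group S] [Finite S]
    [Group.IsSolvable S] (hF : Odd (Nat.card ↥(Cfsg.fittingSubgroup S)))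
    (I : Subgroup S) (hI : Cfsg.IsElementaryAbelian 2 I) (n : ℕ) (hn : 1 ≤ n) (hIn : Nat.card ↥I = 2 ^ n) :
    ∃ f : Fin n → Subgroup S, (∀ i, (Nat.card ↥(f i)).Prime) ∧ (∀ i, f i ≤ Cfsg.fittingSubgroup S) ∧
      (∀ i, I ≤ Subgroup.normalizer ((f i) : Set S)) ∧ (∀ i j, i ≠ j → ∀ a ∈ f i, ∀ b ∈ f j, a * b = b * a) ∧
      Nat.card ↥(⨆ i, f i) = ∏ i, Nat.card ↥(f i) ∧ I ⊓ Subgroup.centralizer ((⨆ i, f i : Subgroup S) : Set S) = ⊥ := by
  have hF' := Cfsg.Lib.Core.fittingSubgroup_isNilpotent S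
  haveI : (Cfsg.fittingSubgroup S).Normal := Cfsg.Lib.Core.fittingSubgroup_normal' S
  have hfaith : I ⊓ Subgroup.centralizer ((Cfsg.fittingSubgroup S : Subgroup S) : Set S) = ⊥ := by
    refine eq_bot_iff.2 fun i hi => ?_
    have h1 : i ∈ Cfsg.fittingSubgroup S := Cfsg.Lib.Core.centralizer_fitting_le_of_isSolvable hi.2
    have h2 : orderOf i ∣ 2 := orderOf_dvd_of_pow_eq_one (hI.2 i hi.1)
    have h3 : orderOf i ∣ Nat.card ↥(Cfsg.fittingSubgroup S) := Subgroup.orderOf_dvd_natCard _ h1
    exact Subgroup.mem_bot.2 (orderOf_eq_one_iff.1 (Nat.eq_one_of_dvd_coprimes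
      (Nat.coprime_two_left.2 hF) h2 h3))
  obtain ⟨f, h1, h2, h3, h4, h5, h6⟩ := exists_factors hI n I (Cfsg.fittingSubgroup S) ⊥ le_rfl hIn hF' hF
    (Subgroup.normalizer_eq_top (Cfsg.fittingSubgroup S) ▸ le_top) hfaith bot_le
    (by rw [Subgroup.le_centralizer_iff]; exact bot_le) (by rw [Subgroup.le_centralizer_iff]; exact bot_le)
  rw [bot_sup_eq, Subgroup.card_bot, one_mul] at h5
  exact ⟨f, h1, h2, h3, h4, h5, h6⟩

end Cfsg.Agent.S4408
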