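import Cfsg.Statements.S4409
import Cfsg.Agent.Lib.Coprime.Action
import Cfsg.Agent.Lib.Coprime.Generation
import Cfsg.Agent.Lib.Core.Layer
import Cfsg.Agent.Lib.Core.Fitting
import Cfsg.Agent.Lib.PGroup.Basic
import Cfsg.Agent.Lib.Solv.Hall
import Cfsg.Agent.S0016
import Cfsg.Agent.S0095
-- import your own Cfsg.Agent.* helpers here

set_option autoImplicit false
open Cfsg

namespace Cfsg.Agent.S4409

open Subgroup
open scoped commutatorElement

variable {G : Type*} [Group G]

/-- `P` has a non-cyclic abelian subgroup of order eight. -/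
def NA8 (P : Subgroup G) : Prop :=
  ∃ A : Subgroup G, A ≤ P ∧ IsMulCommutative ↥A ∧ ¬ IsCyclic ↥A ∧ Nat.card ↥A = 8

theorem NA8.mono {P R : Subgroup G} (h : NA8 P) (hle : P ≤ R) : NA8 R :=
  let ⟨A, hA, h'⟩ := h
  ⟨A, hA.trans hle, h'⟩

theorem card_finset_le [Finite G] (U : Subgroup G) (s : Finset G) (h : ∀ a ∈ s, a ∈ U) :
    s.card ≤ Nat.card U := by
  have h1 : (s : Set G).ncard ≤ (U : Set G).ncard := Set.ncard_le_ncard h (Set.toFinite _)
  rw [Set.ncard_coe_finset] at h1
  exact h1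

theorem eq_of_card_le_two [Finite G] {U : Subgroup G} (hU : Nat.card U ≤ 2) {a b : G} (ha : a ∈ U) (hb : b ∈ U)
    (ha1 : a ≠ 1) (hb1 : b ≠ 1) : a = b := by
  classical
  by_contra hne
  have h := card_finset_le U {1, a, b} (by simp [ha, hb, one_mem])
  rw [Finset.card_insert_of_notMem (by simp [Ne.symm ha1, Ne.symm hb1]),
    Finset.card_pair hne] at h
  omega

theorem pow_card_mem [Finite G] {U : Subgroup G} {x : G} (hx : x ∈ U) : x ^ Nat.card U = 1 := by
  have h : (⟨x, hx⟩ : U) ^ Nat.card U = 1 := pow_card_eq_one'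
  exact congrArg Subtype.val h

theorem card_pow_two {P : Subgroup G} [Finite G] (hP : IsPGroup 2 P) : ∃ n, Nat.card P = 2 ^ n :=
  haveI : Fact (Nat.Prime 2) := ⟨Nat.prime_two⟩
  IsPGroup.iff_card.mp hP

theorem comm_of_commutes {A : Subgroup G} (h : ∀ a ∈ A, ∀ b ∈ A, a * b = b * a) : IsMulCommutative ↥A :=
  ⟨⟨fun a b => Subtype.ext (h a a.2 b b.2)⟩⟩

theorem commutes_of_comm {A : Subgroup G} (h : IsMulCommutative ↥A) {a b : G} (ha : a ∈ A) (hb : b ∈ A) :
    a * b = b * a :=
  congrArg Subtype.val (h.is_comm.comm ⟨a, ha⟩ ⟨b, hb⟩)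

/-- `U ∪ x U` for `x` centralising `U` with square in `U`. -/
def ext2 (U : Subgroup G) (x : G) (hc : ∀ u ∈ U, x * u = u * x) (hx : x * x ∈ U) : Subgroup G where
  carrier := {a | a ∈ U ∨ x⁻¹ * a ∈ U}
  one_mem' := Or.inl (one_mem U)
  mul_mem' := by
    intro a b ha hb
    rcases ha with ha | ha <;> rcases hb with hb | hb
    · exact Or.inl (mul_mem ha hb)
    · right
      have e : x⁻¹ * (a * b) = a * (x⁻¹ * b) := by
        have h1 : Commute x a := hc a ha
        rw [← mul_assoc, ← mul_assoc, h1.inv_left.eq]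
      rw [e]; exact mul_mem ha hb
    · right
      rw [← mul_assoc]; exact mul_mem ha hb
    · left
      have h1 : Commute x (x⁻¹ * a) := hc _ ha
      have e : a * b = (x * x) * ((x⁻¹ * a) * (x⁻¹ * b)) := by
        calc a * b = (x * (x⁻¹ * a)) * (x * (x⁻¹ * b)) := by group
          _ = x * ((x⁻¹ * a) * x) * (x⁻¹ * b) := by group
          _ = x * (x * (x⁻¹ * a)) * (x⁻¹ * b) := by rw [h1.eq]
          _ = _ := by group
      rw [e]; exact mul_mem hx (mul_mem ha hb)
  inv_mem' := by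
    intro a ha
    rcases ha with ha | ha
    · exact Or.inl (inv_mem ha)
    · right
      have h1 : Commute x (x⁻¹ * a) := hc _ ha
      have e : x⁻¹ * a⁻¹ = (x * x)⁻¹ * (x⁻¹ * a)⁻¹ := by
        calc x⁻¹ * a⁻¹ = x⁻¹ * (x * (x⁻¹ * a))⁻¹ := by group
          _ = x⁻¹ * ((x⁻¹ * a) * x)⁻¹ := by rw [h1.eq]
          _ = _ := by group
      rw [e]; exact mul_mem (inv_mem hx) (inv_mem ha)

theorem le_ext2 {U : Subgroup G} {x : G} {hc : ∀ u ∈ U, x * u = u * x} {hx : x * x ∈ U} :
    U ≤ ext2 U x hc hx := fun _ h => Or.inl h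

theorem self_mem_ext2 {U : Subgroup G} {x : G} {hc : ∀ u ∈ U, x * u = u * x} {hx : x * x ∈ U} :
    x ∈ ext2 U x hc hx := Or.inr (by rw [inv_mul_cancel]; exact one_mem U)

theorem ext2_le {U : Subgroup G} {x : G} {hc : ∀ u ∈ U, x * u = u * x} {hx : x * x ∈ U} {P : Subgroup G}
    (hU : U ≤ P) (hxP : x ∈ P) : ext2 U x hc hx ≤ P := by
  rintro a (ha | ha)
  · exact hU ha
  · have := mul_mem hxP (hU ha)
    rwa [mul_inv_cancel_left] at this

theorem card_ext2 [Finite G] {U : Subgroup G} {x : G} {hc : ∀ u ∈ U, x * u = u * x} {hx : x * x ∈ U}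
    (hxU : x ∉ U) : Nat.card (ext2 U x hc hx) = 2 * Nat.card U := by
  have he : ((ext2 U x hc hx : Subgroup G) : Set G) = (U : Set G) ∪ (x * ·) '' (U : Set G) := by
    ext a
    show (a ∈ U ∨ x⁻¹ * a ∈ U) ↔ _
    constructor
    · rintro (h | h)
      · exact Or.inl h
      · exact Or.inr ⟨_, h, mul_inv_cancel_left x a⟩
    · rintro (h | ⟨u, hu, rfl⟩)
      · exact Or.inl h
      · exact Or.inr (by rw [inv_mul_cancel_left]; exact hu)
  have hd : Disjoint (U : Set G) ((x * ·) '' (U : Set G)) := by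
    rw [Set.disjoint_left]
    rintro a ha ⟨u, hu, rfl⟩
    exact hxU (by simpa [mul_assoc] using mul_mem (SetLike.mem_coe.1 ha) (inv_mem hu))
  have h1 : Nat.card (ext2 U x hc hx) = ((ext2 U x hc hx : Subgroup G) : Set G).ncard :=
    Nat.card_coe_set_eq _
  have h2 : Nat.card U = (U : Set G).ncard := Nat.card_coe_set_eq _
  rw [h1, h2, he, Set.ncard_union_eq hd, Set.ncard_image_of_injective _ (mul_right_injective x), two_mul]

theorem ext2_commutes {U : Subgroup G} {x : G} {hc : ∀ u ∈ U, x * u = u * x} {hx : x * x ∈ U}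
    (hU : ∀ a ∈ U, ∀ b ∈ U, a * b = b * a) :
    ∀ a ∈ ext2 U x hc hx, ∀ b ∈ ext2 U x hc hx, a * b = b * a := by
  have key : ext2 U x hc hx ≤ centralizer ((ext2 U x hc hx : Subgroup G) : Set G) := by
    have h1 : ext2 U x hc hx ≤ centralizer ({x} : Set G) :=
      ext2_le (fun u hu => mem_centralizer_singleton_iff.2 (hc u hu).symm) (mem_centralizer_singleton_iff.2 rfl)
    have h2 : ext2 U x hc hx ≤ centralizer (U : Set G) :=
      ext2_le (fun a ha => mem_centralizer_iff.2 fun b hb => hU b hb a ha)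
        (mem_centralizer_iff.2 fun b hb => (hc b hb).symm)
    refine ext2_le (fun u hu => mem_centralizer_iff.2 fun b hb => ?_) (mem_centralizer_iff.2 fun b hb => ?_)
    · exact (mem_centralizer_iff.1 (h2 hb) u hu).symm
    · exact mem_centralizer_singleton_iff.1 (h1 hb)
  exact fun a ha b hb => mem_centralizer_iff.1 (key hb) a ha

/-- The basic source of non-cyclic abelian subgroups of order eight. -/
theorem na8_ext2 [Finite G] {U P : Subgroup G} {x : G} (hUP : U ≤ P) (hU4 : Nat.card U = 4)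
    (hU : ∀ a ∈ U, ∀ b ∈ U, a * b = b * a) (hxP : x ∈ P) (hxU : x ∉ U)
    (hc : ∀ u ∈ U, x * u = u * x) (hx : x * x ∈ U) (hx4 : x ^ 4 = 1) : NA8 P := by
  refine ⟨ext2 U x hc hx, ext2_le hUP hxP, comm_of_commutes (ext2_commutes hU), fun hcy => ?_,
    by rw [card_ext2 hxU, hU4]⟩
  have h4 : ∀ a ∈ ext2 U x hc hx, a ^ 4 = 1 := by
    rintro a (ha | ha)
    · rw [← hU4]; exact pow_card_mem ha
    · have h1 : Commute x (x⁻¹ * a) := hc _ ha
      have : a = x * (x⁻¹ * a) := by group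
      rw [this, h1.mul_pow, hx4, one_mul, ← hU4]; exact pow_card_mem ha
  obtain ⟨g, hg⟩ := hcy.exists_generator
  have h1 : orderOf g = Nat.card (ext2 U x hc hx) := orderOf_eq_card_of_forall_mem_zpowers hg
  rw [card_ext2 hxU, hU4] at h1
  have h2 : orderOf g ∣ 4 := orderOf_dvd_of_pow_eq_one (Subtype.ext (by simpa using h4 g g.2))
  rw [h1] at h2
  exact absurd (Nat.le_of_dvd (by norm_num) h2) (by norm_num)

theorem exists_sq_mem [Finite G] {U P : Subgroup G} (hP : IsPGroup 2 P) (hUP : U ≤ P) (hne : U ≠ P) :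
    ∃ x ∈ P, x ∉ U ∧ x * x ∈ U := by
  classical
  obtain ⟨a, haP, haU⟩ := SetLike.exists_of_lt (lt_of_le_of_ne hUP hne)
  obtain ⟨k, hk⟩ := hP ⟨a, haP⟩
  have hk' : a ^ 2 ^ k = 1 := by simpa using congrArg Subtype.val hk
  have hex : ∃ j, a ^ 2 ^ j ∈ U := ⟨k, by rw [hk']; exact one_mem U⟩
  have h0 : Nat.find hex ≠ 0 := fun e => by
    have := Nat.find_spec hex
    rw [e, pow_zero, pow_one] at this
    exact haU this
  obtain ⟨j, hj⟩ := Nat.exists_eq_succ_of_ne_zero h0
  refine ⟨a ^ 2 ^ j, pow_mem haP _, Nat.find_min hex (by omega), ?_⟩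
  rw [← pow_add, ← two_mul, ← pow_succ']
  have := Nat.find_spec hex
  rwa [hj] at this

theorem odd_comm [Finite G] {H : Subgroup G} (hH : Odd (Nat.card H)) {h u : G} (hh : h ∈ H)
    (h2 : Commute (h * h) u) : Commute h u := by
  obtain ⟨m, hm⟩ := hH
  have e : h = (h * h) ^ (m + 1) := by
    rw [← pow_two, ← pow_mul, show 2 * (m + 1) = Nat.card H + 1 by omega, pow_succ, pow_card_mem hh, one_mul]
  rw [e]; exact h2.pow_left _

theorem conj_fixed_of_two [Finite G] {H : Subgroup G} (hH : Odd (Nat.card H)) {h u u' : G} (hh : h ∈ H)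
    (hu : h * u * h⁻¹ = u ∨ (h * u * h⁻¹ = u' ∧ h * u' * h⁻¹ = u)) : Commute h u := by
  rcases hu with h1 | ⟨h1, h2⟩
  · exact mul_inv_eq_iff_eq_mul.1 h1
  · refine odd_comm hH hh (mul_inv_eq_iff_eq_mul.1 ?_)
    calc h * h * u * (h * h)⁻¹ = h * (h * u * h⁻¹) * h⁻¹ := by group
      _ = u := by rw [h1, h2]

theorem mul_mem_of_card_two [Finite G] {U Y : Subgroup G} (hUY : U ≤ Y) (hc : Nat.card Y = 2 * Nat.card U)
    {a b : G} (ha : a ∈ Y) (hb : b ∈ Y) : a * b ∈ U ↔ (a ∈ U ↔ b ∈ U) := by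
  have hi : (U.subgroupOf Y).index = 2 := by
    have h := Cfsg.Lib.Core.card_mul_relIndex hUY
    rw [hc, mul_comm 2] at h
    exact Nat.eq_of_mul_eq_mul_left Nat.card_pos h
  simpa [Subgroup.mem_subgroupOf] using Subgroup.mul_mem_iff_of_index_two hi (a := ⟨a, ha⟩) (b := ⟨b, hb⟩)

theorem coprime_two [Finite G] {H P : Subgroup G} (hH : Odd (Nat.card H)) (hP : IsPGroup 2 P) :
    (Nat.card H).Coprime (Nat.card P) := by
  obtain ⟨n, hn⟩ := card_pow_two hP
  rw [hn]; exact Nat.Coprime.pow_right n (Nat.coprime_two_right.2 hH)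

theorem solv_or [Finite G] {H P : Subgroup G} (hP : IsPGroup 2 P) :
    Group.IsSolvable H ∨ Group.IsSolvable P := by
  haveI : Fact (Nat.Prime 2) := ⟨Nat.prime_two⟩
  haveI := hP.isNilpotent
  exact Or.inr IsNilpotent.to_isSolvable

theorem stability [Finite G] {H U Y : Subgroup G} (hH : Odd (Nat.card H)) (hY : IsPGroup 2 Y) (hUY : U ≤ Y)
    (hc : Nat.card Y = 2 * Nat.card U) (hHY : H ≤ normalizer (Y : Set G)) (hHU : H ≤ normalizer (U : Set G))
    (hcen : H ≤ centralizer (U : Set G)) : H ≤ centralizer (Y : Set G) := by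
  have h1 : ⁅Y, H⁆ ≤ U := by
    refine commutator_le.2 fun x hx h hh => ?_
    have hy : h * x⁻¹ * h⁻¹ ∈ Y := Cfsg.Lib.Coprime.conj_mem_of_mem_normalizer (hHY hh) (inv_mem hx)
    have e : ⁅x, h⁆ = x * (h * x⁻¹ * h⁻¹) := by rw [commutatorElement_def]; group
    rw [e, mul_mem_of_card_two hUY hc hx hy]
    constructor
    · exact fun h' => Cfsg.Lib.Coprime.conj_mem_of_mem_normalizer (hHU hh) (inv_mem h')
    · intro h'
      have := Cfsg.Lib.Coprime.conj_mem_of_mem_normalizer (hHU (inv_mem hh)) h'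
      exact inv_mem_iff.1 (by simpa [mul_assoc] using this)
  have h2 : ⁅⁅Y, H⁆, H⁆ = ⊥ := le_bot_iff.1 ((commutator_mono h1 le_rfl).trans
    (le_of_eq ((commutator_comm _ _).trans (commutator_eq_bot_iff_le_centralizer.2 hcen))))
  have h3 := Cfsg.Lib.Coprime.commutator_eq_bot_of_commutator_commutator_eq_bot hHY (coprime_two hH hY)
    (solv_or hY) h2
  rw [commutator_comm] at h3
  exact commutator_eq_bot_iff_le_centralizer.1 h3

theorem le_centralizer_bot' {H : Subgroup G} {P : Subgroup G} (e : P = ⊥) : H ≤ centralizer (P : Set G) := by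
  subst e
  exact fun g _ => mem_centralizer_iff.2 fun x hx => by rw [mem_bot.1 hx, one_mul, mul_one]

theorem centralizes_of_small [Finite G] {H U : Subgroup G} (hU : Nat.card U ≤ 2)
    (hHU : H ≤ normalizer (U : Set G)) : H ≤ centralizer (U : Set G) := by
  intro h hh
  refine mem_centralizer_iff.2 fun u hu => ?_
  by_cases h1 : u = 1
  · simp [h1]
  have he := eq_of_card_le_two hU (Cfsg.Lib.Coprime.conj_mem_of_mem_normalizer (hHU hh) hu) hu
    (fun e => h1 (conj_eq_one_iff.1 e)) h1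
  exact (mul_inv_eq_iff_eq_mul.1 he).symm

/-- Elementary of order four, or quaternion of order eight. -/
def Shape (Y : Subgroup G) : Prop :=
  (Nat.card Y = 4 ∧ ∀ y ∈ Y, y * y = 1) ∨
  (Nat.card Y = 8 ∧ ¬ IsMulCommutative ↥Y ∧
    ∀ a ∈ Y, ∀ b ∈ Y, a * a = 1 → b * b = 1 → a ≠ 1 → b ≠ 1 → a = b)

theorem comm_of_exp_two {Y : Subgroup G} (h : ∀ y ∈ Y, y * y = 1) : ∀ a ∈ Y, ∀ b ∈ Y, a * b = b * a := by
  intro a ha b hb
  have e : ∀ y ∈ Y, y⁻¹ = y := fun y hy => inv_eq_of_mul_eq_one_right (h y hy)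
  calc a * b = (a * b)⁻¹ := (e _ (mul_mem ha hb)).symm
    _ = b * a := by rw [mul_inv_rev, e a ha, e b hb]

/-- An element of order four in a quaternion shape. -/
theorem quat_pow_four [Finite G] {Y : Subgroup G} (h8 : Nat.card Y = 8) (hna : ¬ IsMulCommutative ↥Y) {y : G}
    (hy : y ∈ Y) : y ^ 4 = 1 := by
  by_contra h4
  haveI : Fact (Nat.Prime 2) := ⟨Nat.prime_two⟩
  have h : orderOf y = 2 ^ (2 + 1) := orderOf_eq_prime_pow (by simpa using h4)
    (by simpa [← h8] using pow_card_mem hy)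
  have he : zpowers y = Y := eq_of_le_of_card_ge (zpowers_le.2 hy) (by rw [Nat.card_zpowers, h, h8]; norm_num)
  exact hna (he ▸ (inferInstance : IsMulCommutative ↥(zpowers y)))

theorem quat_four_elems [Finite G] {U : Subgroup G} (hU : Nat.card U = 4) {u : G} (hu : u ∈ U) (hu2 : u * u ≠ 1) :
    ∀ w ∈ U, w = 1 ∨ w = u * u ∨ w = u ∨ w = u⁻¹ := by
  classical
  intro w hw
  have hu4 : u * u * (u * u) = 1 := by
    have := pow_card_mem hu
    rw [hU] at this
    rw [← this]; simp [pow_succ, mul_assoc]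
  have hu1 : u ≠ 1 := fun e => hu2 (by rw [e, one_mul])
  have d1 : u * u ≠ u := fun e => hu1 (mul_left_cancel (e.trans (mul_one u).symm))
  have d2 : u ≠ u⁻¹ := fun e => hu2 (by nth_rewrite 2 [e]; exact mul_inv_cancel u)
  have d3 : u * u ≠ u⁻¹ := fun e => hu1 (by
    have h3 : u * u * u = 1 := by rw [e, inv_mul_cancel]
    rw [← mul_assoc, h3, one_mul] at hu4
    exact hu4)
  by_contra hne
  push Not at hne
  have h := card_finset_le U {w, 1, u * u, u, u⁻¹} (by simp [hw, one_mem, hu, mul_mem hu hu])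
  rw [Finset.card_insert_of_notMem (by simp [hne.1, hne.2.1, hne.2.2.1, hne.2.2.2]),
    Finset.card_insert_of_notMem (by
      simp only [Finset.mem_insert, Finset.mem_singleton, not_or]
      exact ⟨Ne.symm hu2, Ne.symm hu1, fun e => hu1 (inv_eq_one.1 e.symm)⟩),
    Finset.card_insert_of_notMem (by simp [d1, d3]), Finset.card_pair d2, hU] at h
  omega

theorem quat_exists_sq_ne [Finite G] {U : Subgroup G} (hU : 2 < Nat.card U)
    (huniq : ∀ a ∈ U, ∀ b ∈ U, a * a = 1 → b * b = 1 → a ≠ 1 → b ≠ 1 → a = b) : ∃ u ∈ U, u * u ≠ 1 := by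
  by_contra h
  push Not at h
  haveI : Nontrivial U := Finite.one_lt_card_iff_nontrivial.mp (by omega)
  obtain ⟨⟨a, ha⟩, ha1⟩ := exists_ne (1 : U)
  have ha1' : a ≠ 1 := fun e => ha1 (Subtype.ext e)
  have : Nat.card U ≤ 2 := by
    have h1 : (U : Set G) ⊆ {1, a} := fun w hw => by
      by_cases hw1 : w = 1
      · exact Or.inl hw1
      · exact Or.inr (huniq w hw a ha (h w hw) (h a ha) hw1 ha1')
    have h2 := Set.ncard_le_ncard h1 (Set.toFinite _)
    rw [Set.ncard_pair (Ne.symm ha1')] at h2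
    exact h2
  omega

theorem Shape.isPGroup [Finite G] {Y : Subgroup G} (h : Shape Y) : IsPGroup 2 Y := by
  rcases h with ⟨h4, -⟩ | ⟨h8, -⟩
  · exact IsPGroup.of_card (n := 2) h4
  · exact IsPGroup.of_card (n := 3) h8

/-- Invariant proper subgroups of a shape moved by a group of odd order. -/
theorem small_invariant [Finite G] {H Y U : Subgroup G} (hH : Odd (Nat.card H)) (hY : Shape Y)
    (hHY : H ≤ normalizer (Y : Set G)) (hmove : ¬ H ≤ centralizer (Y : Set G)) (hUY : U ≤ Y)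
    (hHU : H ≤ normalizer (U : Set G)) (hne : U ≠ Y) :
    H ≤ centralizer (U : Set G) ∧ Nat.card U ≤ 2 ∧ ((∀ y ∈ Y, y * y = 1) → Nat.card U ≤ 1) := by
  have hd : Nat.card U ∣ Nat.card Y := card_dvd_of_le hUY
  have hlt : Nat.card U < Nat.card Y := by
    rcases (Nat.le_of_dvd Nat.card_pos hd).lt_or_eq with h | h
    · exact h
    · exact absurd (eq_of_le_of_card_ge hUY h.ge) hne
  rcases hY with ⟨h4, hexp⟩ | ⟨h8, hna, huniq⟩
  · have h12 : Nat.card U = 1 ∨ Nat.card U = 2 := by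
      rw [h4] at hd hlt
      have := Nat.le_of_dvd (by norm_num) hd
      interval_cases h : Nat.card U <;> omega
    have hcen : H ≤ centralizer (U : Set G) := centralizes_of_small (by omega) hHU
    rcases h12 with h1 | h1
    · exact ⟨hcen, by omega, fun _ => by omega⟩
    · exact absurd (stability hH (IsPGroup.of_card (n := 2) h4) hUY (by omega) hHY hHU hcen) hmove
  · have h124 : Nat.card U = 1 ∨ Nat.card U = 2 ∨ Nat.card U = 4 := by
      rw [h8] at hd hlt
      have := Nat.le_of_dvd (by norm_num) hd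
      interval_cases h : Nat.card U <;> omega
    rcases h124 with h1 | h1 | h1
    · exact ⟨centralizes_of_small (by omega) hHU, by omega, fun _ => by omega⟩
    · exact ⟨centralizes_of_small (by omega) hHU, by omega, fun h => absurd (comm_of_commutes (comm_of_exp_two h)) hna⟩
    · obtain ⟨u, hu, hu2⟩ := quat_exists_sq_ne (by omega)
        (fun a ha b hb => huniq a (hUY ha) b (hUY hb))
      have hfour := quat_four_elems h1 hu hu2
      have hcen : H ≤ centralizer (U : Set G) := by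
        intro h hh
        have hv : h * u * h⁻¹ ∈ U := Cfsg.Lib.Coprime.conj_mem_of_mem_normalizer (hHU hh) hu
        have hv2 : h * u * h⁻¹ * (h * u * h⁻¹) ≠ 1 := by
          rw [show h * u * h⁻¹ * (h * u * h⁻¹) = h * (u * u) * h⁻¹ by group]
          exact fun e => hu2 (conj_eq_one_iff.1 e)
        have hcomm : Commute h u := by
          refine conj_fixed_of_two (u' := u⁻¹) hH hh ?_
          rcases hfour _ hv with e | e | e | e
          · rw [e, one_mul] at hv2; exact absurd rfl hv2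
          · have hu4 := pow_card_mem hu
            rw [h1] at hu4
            exact absurd (by rw [e, ← hu4]; simp [pow_succ, mul_assoc]) hv2
          · exact Or.inl e
          · exact Or.inr ⟨e, by rw [← conj_inv, e, inv_inv]⟩
        refine mem_centralizer_iff.2 fun w hw => ?_
        rcases hfour w hw with rfl | rfl | rfl | rfl
        · simp
        · exact (hcomm.mul_right hcomm).eq.symm
        · exact hcomm.eq.symm
        · exact hcomm.inv_right.eq.symm
      exact absurd (stability hH (IsPGroup.of_card (n := 3) h8) hUY (by omega) hHY hHU hcen) hmove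

theorem le_normalizer_commutator_left (X Y : Subgroup G) [Finite G] :
    X ≤ normalizer ((⁅X, Y⁆ : Subgroup G) : Set G) := by
  intro g hg
  rw [Cfsg.Lib.Core.mem_normalizer_iff_map_conj]
  refine eq_of_le_of_card_ge (map_le_iff_le_comap.2 (commutator_le.2 fun a ha b hb => ?_))
    (card_map_of_injective (MulAut.conj g).injective).ge
  show g * ⁅a, b⁆ * g⁻¹ ∈ ⁅X, Y⁆
  rw [show g * ⁅a, b⁆ * g⁻¹ = ⁅g * a, b⁆ * ⁅g, b⁆⁻¹ by simp only [commutatorElement_def]; group]
  exact mul_mem (commutator_mem_commutator (mul_mem hg ha) hb) (inv_mem (commutator_mem_commutator hg hb))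

theorem le_normalizer_commutator_of {X M L : Subgroup G} (h1 : X ≤ normalizer (M : Set G))
    (h2 : X ≤ normalizer (L : Set G)) : X ≤ normalizer ((⁅M, L⁆ : Subgroup G) : Set G) := fun g hg => by
  rw [Cfsg.Lib.Core.mem_normalizer_iff_map_conj, map_commutator,
    Cfsg.Lib.Core.mem_normalizer_iff_map_conj.1 (h1 hg), Cfsg.Lib.Core.mem_normalizer_iff_map_conj.1 (h2 hg)]

/-- The Frattini subgroup of `P`, inside the ambient group. -/
def Phi (P : Subgroup G) : Subgroup G := (frattini ↥P).map P.subtype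

theorem phi_le (P : Subgroup G) : Phi P ≤ P := map_subtype_le _

theorem normalizer_le_phi (P : Subgroup G) : normalizer (P : Set G) ≤ normalizer (Phi P : Set G) :=
  Cfsg.Lib.Core.normalizer_le_normalizer_map_char _

theorem sq_mem_phi [Finite G] {P : Subgroup G} (hP : IsPGroup 2 P) {x : G} (hx : x ∈ P) : x * x ∈ Phi P := by
  haveI : Fact (Nat.Prime 2) := ⟨Nat.prime_two⟩
  exact ⟨⟨x, hx⟩ ^ 2, Cfsg.Lib.PGroup.pow_mem_frattini hP _, by simp [pow_two]⟩

theorem commutator_le_phi [Finite G] {P : Subgroup G} (hP : IsPGroup 2 P) : ⁅P, P⁆ ≤ Phi P := by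
  haveI : Fact (Nat.Prime 2) := ⟨Nat.prime_two⟩
  rw [← map_subtype_commutator]
  exact map_mono (Cfsg.Lib.PGroup.commutator_le_frattini hP)

theorem phi_le_of [Finite G] {P N : Subgroup G} (hc : ⁅P, P⁆ ≤ N) (hs : ∀ x ∈ P, x * x ∈ N) :
    Phi P ≤ N := by
  haveI : Fact (Nat.Prime 2) := ⟨Nat.prime_two⟩
  have h : frattini ↥P ≤ N.subgroupOf P :=
    Cfsg.Lib.PGroup.frattini_le_of_commutator_le_of_pow_mem (p := 2)
      (by rw [← Subgroup.map_le_map_iff_of_injective P.subtype_injective, map_subtype_commutator,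
            subgroupOf_map_subtype]
          exact le_inf hc (commutator_le_self P))
      (fun g => by simpa [mem_subgroupOf, pow_two] using hs g g.2)
  rintro _ ⟨x, hx, rfl⟩
  exact h hx

theorem phi_ne [Finite G] {P : Subgroup G} (hne : P ≠ ⊥) : Phi P ≠ P := by
  haveI : Nontrivial P := (Subgroup.nontrivial_iff_ne_bot P).2 hne
  intro h
  apply Cfsg.Lib.PGroup.frattini_ne_top (G := ↥P)
  exact map_injective P.subtype_injective (by rw [← MonoidHom.range_eq_map, range_subtype]; exact h)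

theorem small_central [Finite G] {P U : Subgroup G} (hU : Nat.card U ≤ 2) (hPU : P ≤ normalizer (U : Set G)) :
    P ≤ centralizer (U : Set G) := centralizes_of_small hU hPU

theorem le_centralizer_swap {A B : Subgroup G} (h : A ≤ centralizer (B : Set G)) : B ≤ centralizer (A : Set G) :=
  le_centralizer_iff.1 h

/-- The Frattini subgroup is central when `P = [P, H]`. -/
theorem phi_central [Finite G] {H P : Subgroup G} (hP : IsPGroup 2 P) (hH : Odd (Nat.card H))
    (hHP : H ≤ normalizer (P : Set G)) (htop : ⁅P, H⁆ = P)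
    (h : H ≤ centralizer (Phi P : Set G) ∨ Shape (Phi P)) : Phi P ≤ centralizer (P : Set G) := by
  have hN : H ≤ normalizer (Phi P : Set G) := hHP.trans (normalizer_le_phi P)
  have hPN : P ≤ normalizer (Phi P : Set G) := le_normalizer.trans (normalizer_le_phi P)
  have hD : ⁅Phi P, P⁆ ≤ Phi P := le_normalizer_iff_commutator_le_left.1 hPN
  by_cases hc : H ≤ centralizer (Phi P : Set G)
  · have h1 : ⁅⁅H, Phi P⁆, P⁆ = ⊥ := by
      rw [commutator_eq_bot_iff_le_centralizer.2 hc, commutator_bot_left]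
    have h2 : ⁅⁅Phi P, P⁆, H⁆ = ⊥ := le_bot_iff.1 ((commutator_mono hD le_rfl).trans
      (by rw [commutator_comm, commutator_eq_bot_iff_le_centralizer.2 hc]))
    have h3 := commutator_commutator_eq_bot_of_rotate h1 h2
    rw [htop, commutator_comm] at h3
    exact commutator_eq_bot_iff_le_centralizer.1 h3
  have hS := h.resolve_left hc
  set U := ⁅Phi P, P⁆ with hUdef
  haveI : Fact (Nat.Prime 2) := ⟨Nat.prime_two⟩
  have hne : Phi P ≠ ⊥ := fun e => hc (le_centralizer_bot' e)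
  have hUne : U ≠ Phi P :=
    (Cfsg.Lib.PGroup.commutator_lt_of_isPGroup hS.isPGroup hP hPN hne).ne
  obtain ⟨-, hU2, hU1⟩ := small_invariant hH hS hN hc hD (le_normalizer_commutator_of hN hHP) hUne
  rcases hS with ⟨-, hexp⟩ | ⟨-, hna, -⟩
  · have : U = ⊥ := card_eq_one.1 (le_antisymm (hU1 hexp) Nat.card_pos)
    exact commutator_eq_bot_iff_le_centralizer.1 this
  · exfalso
    have hUc : P ≤ centralizer (U : Set G) :=
      small_central hU2 (le_normalizer_commutator_of hPN le_normalizer)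
    have hUP : ⁅U, P⁆ = ⊥ := by
      rw [commutator_comm]; exact commutator_eq_bot_iff_le_centralizer.2 hUc
    have hPP : ⁅⁅P, P⁆, Phi P⁆ = ⊥ := commutator_commutator_eq_bot_of_rotate
      (by rw [commutator_comm P (Phi P)]; exact hUP) hUP
    refine hna (comm_of_commutes fun a ha b hb => ?_)
    have hle : Phi P ≤ centralizer (Phi P : Set G) := by
      refine phi_le_of (commutator_eq_bot_iff_le_centralizer.1 hPP) fun x hx => mem_centralizer_iff.2 fun q hq => ?_
      have hu : ⁅q, x⁆ ∈ U := commutator_mem_commutator hq hx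
      have hu2 : ⁅q, x⁆ * ⁅q, x⁆ = 1 := by
        by_cases e : ⁅q, x⁆ = 1
        · rw [e, one_mul]
        by_contra hne2
        exact e (mul_left_cancel ((eq_of_card_le_two hU2 (mul_mem hu hu) hu hne2 e).trans (mul_one _).symm))
      have hxu : x * ⁅q, x⁆ = ⁅q, x⁆ * x := (mem_centralizer_iff.1 (hUc hx) _ hu).symm
      have e1 : q * x = ⁅q, x⁆ * (x * q) := by rw [commutatorElement_def]; group
      calc q * (x * x) = ⁅q, x⁆ * (x * q) * x := by rw [← e1, mul_assoc]
        _ = ⁅q, x⁆ * x * (q * x) := by group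
        _ = ⁅q, x⁆ * x * (⁅q, x⁆ * (x * q)) := by rw [← e1]
        _ = ⁅q, x⁆ * (x * ⁅q, x⁆) * (x * q) := by group
        _ = ⁅q, x⁆ * ⁅q, x⁆ * (x * x * q) := by rw [hxu]; group
        _ = x * x * q := by rw [hu2, one_mul]
    exact (mem_centralizer_iff.1 (hle ha) b hb).symm

/-- Squares lie in `D` when commutators do and `H` centralises squares. -/
theorem squares_mem [Finite G] {H P D : Subgroup G} (hHP : H ≤ normalizer (P : Set G)) (htop : ⁅P, H⁆ = P)
    (hPD : ⁅P, P⁆ ≤ D) (hDc : D ≤ centralizer (P : Set G))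
    (hfix : ∀ x ∈ P, ∀ h ∈ H, Commute h (x * x)) : ∀ x ∈ P, x * x ∈ D := by
  have hmul : ∀ x ∈ P, ∀ y ∈ P, (x * y) * (x * y) = ⁅y, x⁆ * ((x * x) * (y * y)) := by
    intro x hx y hy
    have hc : x * ⁅y, x⁆ = ⁅y, x⁆ * x :=
      mem_centralizer_iff.1 (hDc (hPD (commutator_mem_commutator hy hx))) x hx
    calc (x * y) * (x * y) = x * (⁅y, x⁆ * (x * y)) * y := by rw [commutatorElement_def]; group
      _ = x * ⁅y, x⁆ * x * (y * y) := by group
      _ = _ := by rw [hc]; group
  let T : Subgroup G :=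
    { carrier := {x | x ∈ P ∧ x * x ∈ D}
      one_mem' := ⟨one_mem P, by rw [one_mul]; exact one_mem D⟩
      mul_mem' := fun {x y} hx hy => ⟨mul_mem hx.1 hy.1, by
        rw [hmul x hx.1 y hy.1]
        exact mul_mem (hPD (commutator_mem_commutator hy.1 hx.1)) (mul_mem hx.2 hy.2)⟩
      inv_mem' := fun {x} hx => ⟨inv_mem hx.1, by rw [← mul_inv_rev]; exact inv_mem hx.2⟩ }
  have hle : ⁅P, H⁆ ≤ T := by
    refine commutator_le.2 fun x hx h hh => ?_
    have hy : h * x⁻¹ * h⁻¹ ∈ P := Cfsg.Lib.Coprime.conj_mem_of_mem_normalizer (hHP hh) (inv_mem hx)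
    have e : ⁅x, h⁆ = x * (h * x⁻¹ * h⁻¹) := by rw [commutatorElement_def]; group
    rw [e]
    refine ⟨mul_mem hx hy, ?_⟩
    have e2 : h * x⁻¹ * h⁻¹ * (h * x⁻¹ * h⁻¹) = (x * x)⁻¹ := by
      have := (hfix x hx h hh).inv_right.eq
      calc _ = h * (x * x)⁻¹ * h⁻¹ := by group
        _ = (x * x)⁻¹ := by rw [this, mul_inv_cancel_right]
    rw [hmul x hx _ hy, e2, mul_inv_cancel, mul_one]
    exact hPD (commutator_mem_commutator hy hx)
  rw [htop] at hle
  exact fun x hx => (hle hx).2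

/-- Fixed points of `H` on `P = [P, H]` lie in `D` if commutators do. -/
theorem fixed_le [Finite G] {H P D : Subgroup G} (hP : IsPGroup 2 P) (hH : Odd (Nat.card H))
    (hHP : H ≤ normalizer (P : Set G)) (htop : ⁅P, H⁆ = P) (hPD : ⁅P, P⁆ ≤ D) (hDP : D ≤ P)
    (hHD : H ≤ normalizer (D : Set G)) (hPN : P ≤ normalizer (D : Set G)) :
    P ⊓ centralizer (H : Set G) ≤ D := by
  set M := normalizer (D : Set G) with hM
  haveI : (D.subgroupOf M).Normal := (normal_subgroupOf_iff_le_normalizer (hDP.trans hPN)).mpr le_rfl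
  set f := QuotientGroup.mk' (D.subgroupOf M) with hf
  set P' := P.subgroupOf M with hP'
  set H' := H.subgroupOf M with hH'
  have hN' : H' ≤ normalizer (P' : Set M) := by
    intro g hg
    refine mem_normalizer_iff.mpr fun x => ?_
    rw [mem_subgroupOf, mem_subgroupOf]
    exact mem_normalizer_iff.mp (hHP hg) (x : G)
  have hN : H'.map f ≤ normalizer ((P'.map f : Subgroup _) : Set (M ⧸ D.subgroupOf M)) :=
    (map_mono hN').trans (le_normalizer_map f)
  have hP'p : IsPGroup 2 P' := hP.of_equiv (subgroupOfEquivOfLe hPN).symm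
  have hcop : (Nat.card (H'.map f)).Coprime (Nat.card (P'.map f)) := by
    have h1 : Nat.card (H'.map f) ∣ Nat.card H :=
      (Cfsg.Lib.Core.card_map_dvd f H').trans (by rw [Nat.card_congr (subgroupOfEquivOfLe hHD).toEquiv])
    have h2 : Nat.card (P'.map f) ∣ Nat.card P :=
      (Cfsg.Lib.Core.card_map_dvd f P').trans (by rw [Nat.card_congr (subgroupOfEquivOfLe hPN).toEquiv])
    exact ((coprime_two hH hP).coprime_dvd_left h1).coprime_dvd_right h2
  haveI : IsMulCommutative ↥(P'.map f) := by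
    refine comm_of_commutes ?_
    rintro _ ⟨a, ha, rfl⟩ _ ⟨b, hb, rfl⟩
    rw [← commutatorElement_eq_one_iff_mul_comm, ← map_commutatorElement, hf, QuotientGroup.mk'_apply,
      QuotientGroup.eq_one_iff, mem_subgroupOf]
    exact hPD (commutator_mem_commutator (mem_subgroupOf.1 ha) (mem_subgroupOf.1 hb))
  have hd := Cfsg.Lib.Coprime.disjoint_commutator_centralizer (G := P'.map f) (A := H'.map f) hN hcop
  have htop' : ⁅P', H'⁆ = P' := map_injective M.subtype_injective (by
    rw [map_commutator, map_subgroupOf_eq_of_le hPN, map_subgroupOf_eq_of_le hHD, htop])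
  rw [← map_commutator, htop'] at hd
  intro x hx
  have hxM : x ∈ M := hPN hx.1
  have h1 : f ⟨x, hxM⟩ = 1 := by
    refine Subgroup.disjoint_def.1 hd ⟨⟨x, hxM⟩, mem_subgroupOf.2 hx.1, rfl⟩ (mem_centralizer_iff.2 ?_)
    rintro _ ⟨h, hh, rfl⟩
    rw [← map_mul, ← map_mul]
    exact congrArg f (Subtype.ext (mem_centralizer_iff.1 hx.2 h (mem_subgroupOf.1 hh)))
  rw [hf, QuotientGroup.mk'_apply, QuotientGroup.eq_one_iff, mem_subgroupOf] at h1
  exact h1

theorem four_of_two_involutions [Finite G] {P : Subgroup G} {a b : G} (ha : a ∈ P ⊓ centralizer (P : Set G))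
    (hb : b ∈ P ⊓ centralizer (P : Set G)) (ha2 : a * a = 1) (hb2 : b * b = 1) (ha1 : a ≠ 1) (hb1 : b ≠ 1)
    (hab : a ≠ b) :
    ∃ E : Subgroup G, E ≤ P ⊓ centralizer (P : Set G) ∧ Nat.card E = 4 ∧ ∀ e ∈ E, e * e = 1 := by
  haveI : Fact (Nat.Prime 2) := ⟨Nat.prime_two⟩
  have hcab : Commute a b := mem_centralizer_iff.1 hb.2 a ha.1
  have hz : ∀ u ∈ zpowers a, b * u = u * b := fun u hu => by
    obtain ⟨k, rfl⟩ := mem_zpowers_iff.1 hu
    exact (hcab.symm.zpow_right k).eq
  have hnot : b ∉ zpowers a := fun h => by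
    have h2 : Nat.card (zpowers a) ≤ 2 := by
      rw [Nat.card_zpowers]
      exact Nat.le_of_dvd (by norm_num) (orderOf_dvd_of_pow_eq_one (by rw [pow_two, ha2]))
    exact hab (eq_of_card_le_two h2 (mem_zpowers a) h ha1 hb1)
  refine ⟨ext2 (zpowers a) b hz (by rw [hb2]; exact one_mem _), ext2_le (zpowers_le.2 ha) hb, ?_, ?_⟩
  · rw [card_ext2 hnot, Nat.card_zpowers, orderOf_eq_prime (by rw [pow_two, ha2]) ha1]
  · have hzp : ∀ u ∈ zpowers a, u * u = 1 := fun u hu => by
      obtain ⟨k, rfl⟩ := mem_zpowers_iff.1 hu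
      rw [← (Commute.refl a).mul_zpow, ha2, one_zpow]
    rintro e (he | he)
    · exact hzp e he
    · have hc : Commute b (b⁻¹ * e) := hz _ he
      have e1 : e = b * (b⁻¹ * e) := by group
      rw [e1, hc.symm.mul_mul_mul_comm, hb2, one_mul, hzp _ he]

theorem na8_of_exp_two [Finite G] {P : Subgroup G} (hP : IsPGroup 2 P) (h : ∀ y ∈ P, y * y = 1)
    (h8 : 8 ≤ Nat.card P) : NA8 P := by
  haveI : Fact (Nat.Prime 2) := ⟨Nat.prime_two⟩
  obtain ⟨n, hn⟩ := card_pow_two hP
  have hn3 : 3 ≤ n := by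
    by_contra hlt
    have := Nat.pow_le_pow_right (show 0 < 2 by norm_num) (show n ≤ 2 by omega)
    omega
  obtain ⟨A, hA⟩ := Sylow.exists_subgroup_card_pow_prime 2 (G := P) (n := 3)
    (hn ▸ pow_dvd_pow 2 hn3)
  have hc : Nat.card (A.map P.subtype) = 8 := by rw [Cfsg.Lib.Core.card_map_subtype, hA]; norm_num
  refine ⟨A.map P.subtype, map_subtype_le A,
    comm_of_commutes (comm_of_exp_two fun y hy => h y (map_subtype_le A hy)), fun hcy => ?_, hc⟩
  obtain ⟨g, hg⟩ := hcy.exists_generator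
  have h1 : orderOf g = Nat.card (A.map P.subtype) := orderOf_eq_card_of_forall_mem_zpowers hg
  have h2 : orderOf g ∣ 2 := orderOf_dvd_of_pow_eq_one
    (Subtype.ext (by simpa [pow_two] using h g (map_subtype_le A g.2)))
  rw [h1, hc] at h2
  exact absurd (Nat.le_of_dvd (by norm_num) h2) (by norm_num)

/-- The case `[P, H] < P`. -/
theorem split_case [Finite G] {H P : Subgroup G} (hP : IsPGroup 2 P) (hH : Odd (Nat.card H))
    (hHP : H ≤ normalizer (P : Set G)) (hne : ⁅P, H⁆ ≠ P) (hS : Shape ⁅P, H⁆)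
    (hmove : ¬ H ≤ centralizer ((⁅P, H⁆ : Subgroup G) : Set G)) :
    ∃ (c : G) (hc : ∀ u ∈ ⁅P, H⁆, c * u = u * c) (hc2 : c * c ∈ ⁅P, H⁆),
      c ∈ P ∧ c ∉ ⁅P, H⁆ ∧ c ∈ centralizer (H : Set G) ∧
      H ≤ normalizer ((ext2 ⁅P, H⁆ c hc hc2 : Subgroup G) : Set G) ∧ NA8 (ext2 ⁅P, H⁆ c hc hc2) := by
  haveI : Fact (Nat.Prime 2) := ⟨Nat.prime_two⟩
  set M := ⁅P, H⁆ with hM
  have hMP : M ≤ P := le_normalizer_iff_commutator_le_left.1 hHP
  have hPM : P ≤ normalizer (M : Set G) := le_normalizer_commutator_left P H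
  have hHM : H ≤ normalizer (M : Set G) := le_normalizer_commutator_of hHP le_normalizer
  set C := P ⊓ centralizer (H : Set G) with hC
  have hcop := coprime_two hH hP
  have hsup : M ⊔ C = P := Cfsg.Lib.Coprime.commutator_sup_centralizer_eq hHP hcop (solv_or hP)
  have hMne : M ≠ ⊥ := fun e => hmove (le_centralizer_bot' e)
  have hUne : ⁅M, P⁆ ≠ M := (Cfsg.Lib.PGroup.commutator_lt_of_isPGroup hS.isPGroup hP hPM hMne).ne
  have hsmall := small_invariant hH hS hHM hmove (le_normalizer_iff_commutator_le_left.1 hPM)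
    (le_normalizer_commutator_of hHM hHP) hUne
  have hMM : ⁅M, H⁆ = M := Cfsg.Lib.Coprime.commutator_commutator_eq hHP hcop (solv_or hP)
  have hCM : C ≤ centralizer (M : Set G) := by
    have h1 : ⁅⁅H, C⁆, M⁆ = ⊥ := by
      rw [commutator_comm H C, commutator_eq_bot_iff_le_centralizer.2 (inf_le_right : C ≤ centralizer (H : Set G)),
        commutator_bot_left]
    have h2 : ⁅⁅C, M⁆, H⁆ = ⊥ := le_bot_iff.1 ((commutator_mono
      ((commutator_comm C M).trans_le (commutator_mono le_rfl inf_le_left)) le_rfl).trans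
      (le_of_eq ((commutator_comm _ _).trans (commutator_eq_bot_iff_le_centralizer.2 hsmall.1))))
    have h3 := commutator_commutator_eq_bot_of_rotate h1 h2
    rw [hMM, commutator_comm] at h3
    exact commutator_eq_bot_iff_le_centralizer.1 h3
  have hIne : M ⊓ C ≠ M := fun e => hmove (le_centralizer_swap (fun m hm => ((e.ge : M ≤ M ⊓ C) hm).2.2))
  have hHI : H ≤ normalizer ((M ⊓ C : Subgroup G) : Set G) := fun h hh => by
    refine mem_normalizer_iff.mpr fun x => ?_
    constructor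
    · intro hx
      rwa [mem_centralizer_iff.1 hx.2.2 h hh, mul_inv_cancel_right]
    · intro hx
      have h1 := mem_centralizer_iff.1 hx.2.2 h⁻¹ (inv_mem hh)
      have e : x = h * x * h⁻¹ := by
        calc x = h⁻¹ * (h * x * h⁻¹) * h := by group
          _ = (h * x * h⁻¹) * h⁻¹ * h := by rw [h1]
          _ = h * x * h⁻¹ := by group
      rw [e]; exact hx
  obtain ⟨-, hI2, hI1⟩ := small_invariant hH hS hHM hmove inf_le_left hHI hIne
  have hCne : M ⊓ C ≠ C := fun e => hne (le_antisymm hMP (hsup.ge.trans (sup_le le_rfl (e.ge.trans inf_le_left))))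
  obtain ⟨c, hcC, hcI, hc2⟩ := exists_sq_mem (hP.to_le inf_le_left) inf_le_right hCne
  have hcM : c ∉ M := fun h => hcI ⟨h, hcC⟩
  have hcm : ∀ u ∈ M, c * u = u * c := fun u hu => (mem_centralizer_iff.1 (hCM hcC) u hu).symm
  have hc22 : c * c * (c * c) = 1 := by
    by_cases e : c * c = 1
    · rw [e, one_mul]
    · by_contra hne2
      exact e (mul_left_cancel ((eq_of_card_le_two hI2 (mul_mem hc2 hc2) hc2 hne2 e).trans (mul_one _).symm))
  have hc4 : c ^ 4 = 1 := by rw [← hc22]; simp [pow_succ, mul_assoc]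
  refine ⟨c, hcm, hc2.1, hcC.1, hcM, hcC.2, ?_, ?_⟩
  · intro h hh
    rw [Cfsg.Lib.Core.mem_normalizer_iff_map_conj]
    refine eq_of_le_of_card_ge (map_le_iff_le_comap.2 (ext2_le (fun u hu => ?_) ?_))
      (card_map_of_injective (MulAut.conj h).injective).ge
    · show h * u * h⁻¹ ∈ ext2 M c hcm hc2.1
      exact le_ext2 (Cfsg.Lib.Coprime.conj_mem_of_mem_normalizer (hHM hh) hu)
    · show h * c * h⁻¹ ∈ ext2 M c hcm hc2.1
      rw [mem_centralizer_iff.1 hcC.2 h hh, mul_inv_cancel_right]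
      exact self_mem_ext2
  · rcases hS with ⟨h4, hexp⟩ | ⟨h8, hna, huniq⟩
    · exact na8_ext2 le_ext2 h4 (comm_of_exp_two hexp) self_mem_ext2 hcM hcm hc2.1 hc4
    · obtain ⟨y, hy, hy2⟩ := quat_exists_sq_ne (by omega) huniq
      have hy4 : y ^ 4 = 1 := quat_pow_four h8 hna hy
      have hyo : orderOf y = 2 ^ (1 + 1) :=
        orderOf_eq_prime_pow (by rw [pow_one, pow_two]; exact hy2) (by simpa using hy4)
      refine na8_ext2 ((zpowers_le.2 hy).trans le_ext2) (by rw [Nat.card_zpowers, hyo]; norm_num)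
        (fun a ha b hb => commutes_of_comm inferInstance ha hb) self_mem_ext2
        (fun h => hcM (zpowers_le.2 hy h)) (fun u hu => hcm u (zpowers_le.2 hy hu)) ?_ hc4
      by_cases e : c * c = 1
      · rw [e]; exact one_mem _
      · rw [huniq (c * c) hc2.1 (y * y) (mul_mem hy hy) hc22
          (by rw [← hy4]; simp [pow_succ, mul_assoc]) e hy2]
        exact mul_mem (mem_zpowers y) (mem_zpowers y)

/-- A `2`-group without `NA8` moved by a group of odd order. -/
theorem key [Finite G] {H : Subgroup G} (hH : Odd (Nat.card H)) (P : Subgroup G) (hP : IsPGroup 2 P)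
    (hHP : H ≤ normalizer (P : Set G)) (hmove : ¬ H ≤ centralizer (P : Set G)) (hfree : ¬ NA8 P) : Shape P := by
  haveI : Fact (Nat.Prime 2) := ⟨Nat.prime_two⟩
  induction P using WellFoundedLT.induction with
  | ind P ih =>
  have hMP : ⁅P, H⁆ ≤ P := le_normalizer_iff_commutator_le_left.1 hHP
  by_cases htop : ⁅P, H⁆ = P
  swap
  · exfalso
    have hmM : ¬ H ≤ centralizer ((⁅P, H⁆ : Subgroup G) : Set G) := fun h => hmove (by
      have h2 : ⁅⁅P, H⁆, H⁆ = ⊥ := (commutator_comm _ _).trans (commutator_eq_bot_iff_le_centralizer.2 h)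
      have h3 := Cfsg.Lib.Coprime.commutator_eq_bot_of_commutator_commutator_eq_bot hHP (coprime_two hH hP)
        (solv_or hP) h2
      rw [commutator_comm] at h3
      exact commutator_eq_bot_iff_le_centralizer.1 h3)
    have hS := ih _ (lt_of_le_of_ne hMP htop) (hP.to_le hMP)
      (le_normalizer_commutator_of hHP le_normalizer) hmM (fun h => hfree (h.mono hMP))
    obtain ⟨c, hc, hc2, hcP, -, -, -, hna⟩ := split_case hP hH hHP htop hS hmM
    exact hfree (hna.mono (ext2_le hMP hcP))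
  have hPne : P ≠ ⊥ := fun e => hmove (le_centralizer_bot' e)
  have hHPhi : H ≤ normalizer (Phi P : Set G) := hHP.trans (normalizer_le_phi P)
  have hfour : ∀ E : Subgroup G, E ≤ P ⊓ centralizer (P : Set G) → Nat.card E = 4 → (∀ e ∈ E, e * e = 1) →
      E = P := by
    intro E hE h4 hexp
    by_contra hne
    obtain ⟨x, hxP, hxE, hx2⟩ := exists_sq_mem hP (hE.trans inf_le_left) hne
    exact hfree (na8_ext2 (hE.trans inf_le_left) h4 (comm_of_exp_two hexp) hxP hxE
      (fun u hu => mem_centralizer_iff.1 (hE hu).2 x hxP) hx2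
      (by rw [← hexp _ hx2]; simp [pow_succ, mul_assoc]))
  have hcenPhi : H ≤ centralizer (Phi P : Set G) := by
    by_contra hm
    have hS := ih _ (lt_of_le_of_ne (phi_le P) (phi_ne hPne)) (hP.to_le (phi_le P)) hHPhi hm
      (fun h => hfree (h.mono (phi_le P)))
    have hc := phi_central hP hH hHP htop (Or.inr hS)
    rcases hS with ⟨h4, hexp⟩ | ⟨-, hna, -⟩
    · exact phi_ne hPne (hfour _ (le_inf (phi_le P) hc) h4 hexp)
    · exact hna (comm_of_commutes fun a ha b hb => (mem_centralizer_iff.1 (hc ha) b (phi_le P hb)).symm)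
  have hc := phi_central hP hH hHP htop (Or.inl hcenPhi)
  by_cases hinv : ∃ a b, a ∈ P ⊓ centralizer (P : Set G) ∧ b ∈ P ⊓ centralizer (P : Set G) ∧ a * a = 1 ∧
      b * b = 1 ∧ a ≠ 1 ∧ b ≠ 1 ∧ a ≠ b
  · obtain ⟨a, b, ha, hb, ha2, hb2, ha1, hb1, hab⟩ := hinv
    obtain ⟨E, hE, h4, hexp⟩ := four_of_two_involutions ha hb ha2 hb2 ha1 hb1 hab
    obtain rfl := hfour E hE h4 hexp
    exact Or.inl ⟨h4, hexp⟩
  have huz : ∀ a ∈ P ⊓ centralizer (P : Set G), ∀ b ∈ P ⊓ centralizer (P : Set G),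
      a * a = 1 → b * b = 1 → a ≠ 1 → b ≠ 1 → a = b := fun a ha b hb h1 h2 h3 h4 =>
    by_contra fun h5 => hinv ⟨a, b, ha, hb, h1, h2, h3, h4, h5⟩
  have hcomm : ∀ x ∈ P, ∀ y ∈ P, ⁅x, y⁆ ∈ P ⊓ centralizer (P : Set G) ∧ ⁅x, y⁆ * ⁅x, y⁆ = 1 := by
    intro x hx y hy
    have hu : ⁅x, y⁆ ∈ Phi P := commutator_le_phi hP (commutator_mem_commutator hx hy)
    refine ⟨⟨phi_le P hu, hc hu⟩, ?_⟩
    have hxu : x * ⁅x, y⁆ = ⁅x, y⁆ * x := mem_centralizer_iff.1 (hc hu) x hx
    have hxx : y * (x * x) = x * x * y := mem_centralizer_iff.1 (hc (sq_mem_phi hP hx)) y hy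
    calc ⁅x, y⁆ * ⁅x, y⁆ = ⁅x, y⁆ * (x * y * x⁻¹ * y⁻¹) := by rw [← commutatorElement_def]
      _ = x * ⁅x, y⁆ * (y * x⁻¹ * y⁻¹) := by rw [hxu]; group
      _ = (x * x) * y * (x * x)⁻¹ * y⁻¹ := by rw [commutatorElement_def]; group
      _ = 1 := by rw [← hxx]; group
  have hfix : ∀ x ∈ P, ∀ h ∈ H, Commute h (x * x) := fun x hx h hh =>
    (mem_centralizer_iff.1 (hcenPhi hh) _ (sq_mem_phi hP hx)).symm
  by_cases hab : ∀ x ∈ P, ∀ y ∈ P, x * y = y * x
  · have hbot : ⁅P, P⁆ ≤ ⊥ := commutator_le.2 fun x hx y hy =>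
      mem_bot.2 (commutatorElement_eq_one_iff_mul_comm.2 (hab x hx y hy))
    have hexp : ∀ x ∈ P, x * x = 1 := fun x hx => mem_bot.1 (squares_mem hHP htop hbot bot_le hfix x hx)
    obtain ⟨n, hn⟩ := card_pow_two hP
    refine Or.inl ⟨?_, hexp⟩
    rcases le_or_gt 3 n with h3 | h3
    · exact absurd (na8_of_exp_two hP hexp (hn ▸ Nat.pow_le_pow_right (show 0 < 2 by norm_num) h3)) hfree
    · interval_cases n
      · exact absurd (centralizes_of_small (by omega) hHP) hmove
      · exact absurd (centralizes_of_small (by omega) hHP) hmove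
      · exact hn
  push Not at hab
  obtain ⟨a, haP, b, hbP, hab⟩ := hab
  obtain ⟨z, hzdef⟩ : ∃ z, z = ⁅a, b⁆ := ⟨_, rfl⟩
  obtain ⟨hzZ, hz2⟩ := hcomm a haP b hbP
  rw [← hzdef] at hzZ hz2
  have hz1 : z ≠ 1 := fun e => hab (commutatorElement_eq_one_iff_mul_comm.1 (hzdef ▸ e))
  have hzo : orderOf z = 2 := orderOf_eq_prime (by rw [pow_two, hz2]) hz1
  have hD : ∀ u ∈ zpowers z, u = 1 ∨ u = z := fun u hu => by
    by_cases e : u = 1
    · exact Or.inl e
    · exact Or.inr (eq_of_card_le_two (by rw [Nat.card_zpowers, hzo]) hu (mem_zpowers z) e hz1)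
  have hcz : ⁅P, P⁆ ≤ zpowers z := commutator_le.2 fun x hx y hy => by
    obtain ⟨hm, hm2⟩ := hcomm x hx y hy
    by_cases e : ⁅x, y⁆ = 1
    · rw [e]; exact one_mem _
    · rw [huz _ hm z hzZ hm2 hz2 e hz1]; exact mem_zpowers z
  have hsq := squares_mem hHP htop hcz (zpowers_le.2 hzZ.2) hfix
  have hz4 : ∀ x ∈ P, x ^ 4 = 1 := fun x hx => by
    rcases hD _ (hsq x hx) with e | e
    · rw [show x ^ 4 = (x * x) * (x * x) by simp [pow_succ, mul_assoc], e, one_mul]
    · rw [show x ^ 4 = (x * x) * (x * x) by simp [pow_succ, mul_assoc], e, hz2]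
  have hzcomm : ∀ x ∈ P, Commute x z := fun x hx => mem_centralizer_iff.1 hzZ.2 x hx
  have hza : a ∉ zpowers z := fun h => by
    rcases hD a h with e | e
    · exact hab (by rw [e, one_mul, mul_one])
    · exact hab (by rw [e]; exact (hzcomm b hbP).symm.eq)
  obtain ⟨n, hn⟩ := card_pow_two hP
  have hU4 : ∀ x ∈ P, x ∉ zpowers z → ∀ (hc : ∀ u ∈ zpowers z, x * u = u * x) (h2 : x * x ∈ zpowers z),
      Nat.card (ext2 (zpowers z) x hc h2) = 4 ∧
        (∀ u ∈ ext2 (zpowers z) x hc h2, ∀ v ∈ ext2 (zpowers z) x hc h2, u * v = v * u) :=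
    fun x _ hxz hc h2 => ⟨by rw [card_ext2 hxz, Nat.card_zpowers, hzo],
      ext2_commutes fun u hu v hv => commutes_of_comm inferInstance hu hv⟩
  have hzc : ∀ x ∈ P, ∀ u ∈ zpowers z, x * u = u * x := fun x hx u hu => by
    obtain ⟨k, rfl⟩ := mem_zpowers_iff.1 hu
    exact ((hzcomm x hx).zpow_right k).eq
  have h8 : Nat.card P = 8 := by
    rcases lt_trichotomy n 3 with h3 | h3 | h3
    · exfalso
      set U := ext2 (zpowers z) a (hzc a haP) (hsq a haP) with hU
      have hUP : U ≤ P := ext2_le (zpowers_le.2 hzZ.1) haP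
      obtain ⟨hc4, hcU⟩ := hU4 a haP hza (hzc a haP) (hsq a haP)
      have heq : U = P := eq_of_le_of_card_ge hUP (by
        rw [hc4, hn]; exact Nat.pow_le_pow_right (by norm_num) (show n ≤ 2 by omega))
      exact hab (hcU a (heq.ge haP) b (heq.ge hbP))
    · rw [hn, h3]; norm_num
    · exfalso
      set K := P ⊓ centralizer ({a} : Set G) with hK
      have hsub : (P : Set G) ⊆ (K : Set G) ∪ (b * ·) '' (K : Set G) := by
        intro y hy
        by_cases hya : y * a = a * y
        · exact Or.inl ⟨hy, mem_centralizer_singleton_iff.2 hya⟩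
        refine Or.inr ⟨b⁻¹ * y, Subgroup.mem_inf.2 ⟨mul_mem (inv_mem hbP) hy, mem_centralizer_singleton_iff.2 ?_⟩,
          mul_inv_cancel_left b y⟩
        have key : ∀ w ∈ P, w * a ≠ a * w → w * a * w⁻¹ = z * a := fun w hw hne => by
          have hm := hcz (commutator_mem_commutator hw haP)
          rcases hD _ hm with e | e
          · exact absurd (commutatorElement_eq_one_iff_mul_comm.1 e) hne
          · rw [← e, commutatorElement_def]; group
        have k1 := key b hbP (fun e => hab e.symm)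
        have k2 := key y hy hya
        have : b⁻¹ * y * a * (b⁻¹ * y)⁻¹ = a := by
          calc b⁻¹ * y * a * (b⁻¹ * y)⁻¹ = b⁻¹ * (y * a * y⁻¹) * b := by group
            _ = b⁻¹ * (b * a * b⁻¹) * b := by rw [k1, k2]
            _ = a := by group
        exact mul_inv_eq_iff_eq_mul.1 this
      have hKcard : 8 ≤ Nat.card K := by
        have h1 := (Set.ncard_le_ncard hsub (Set.toFinite _)).trans (Set.ncard_union_le _ _)
        rw [Set.ncard_image_of_injective _ (mul_right_injective b)] at h1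
        have hPc : Nat.card P = (P : Set G).ncard := Nat.card_coe_set_eq _
        have hKc : Nat.card K = (K : Set G).ncard := Nat.card_coe_set_eq _
        have : 16 ≤ Nat.card P := hn ▸ Nat.pow_le_pow_right (show 0 < 2 by norm_num) (show 4 ≤ n by omega)
        omega
      set U := ext2 (zpowers z) a (hzc a haP) (hsq a haP) with hU
      obtain ⟨hc4, hcU⟩ := hU4 a haP hza (hzc a haP) (hsq a haP)
      obtain ⟨y, hyK, hyU⟩ : ∃ y ∈ K, y ∉ U := by
        by_contra hcon
        push Not at hcon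
        have := card_le_of_le (show K ≤ U from hcon)
        have hU4' : Nat.card U = 4 := hc4
        omega
      have hyc : ∀ u ∈ U, y * u = u * y := fun u hu => by
        have : U ≤ centralizer ({y} : Set G) := ext2_le
          (fun w hw => mem_centralizer_singleton_iff.2 (hzc y hyK.1 w hw).symm)
          (mem_centralizer_singleton_iff.2 (mem_centralizer_singleton_iff.1 hyK.2).symm)
        exact (mem_centralizer_singleton_iff.1 (this hu)).symm
      exact hfree (na8_ext2 (ext2_le (zpowers_le.2 hzZ.1) haP) hc4 hcU hyK.1 hyU hyc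
        (le_ext2 (hsq y hyK.1)) (hz4 y hyK.1))
  refine Or.inr ⟨h8, fun h => hab (commutes_of_comm h haP hbP), ?_⟩
  suffices hone : ∀ t ∈ P, t * t = 1 → t ≠ 1 → t = z from
    fun u hu v hv hu2 hv2 hu1 hv1 => (hone u hu hu2 hu1).trans (hone v hv hv2 hv1).symm
  intro t ht ht2 ht1
  by_contra htz
  have htnz : t ∉ zpowers z := fun h => (hD t h).elim ht1 htz
  have htc : ∀ u ∈ zpowers z, t * u = u * t := hzc t ht
  have htsq : t * t ∈ zpowers z := by rw [ht2]; exact one_mem _
  have hHz : ∀ h ∈ H, Commute h z := fun h hh =>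
    (mem_centralizer_iff.1 (hcenPhi hh) z (commutator_le_phi hP (hzdef ▸ commutator_mem_commutator haP hbP))).symm
  obtain ⟨h, hh, hh1, hh2⟩ : ∃ h ∈ H, h * t * h⁻¹ ≠ t ∧ h * t * h⁻¹ ≠ t * z := by
    by_contra hcon
    push Not at hcon
    have hfixt : ∀ h ∈ H, Commute h t := fun h hh => by
      by_cases e : h * t * h⁻¹ = t
      · exact mul_inv_eq_iff_eq_mul.1 e
      · refine conj_fixed_of_two (u' := t * z) hH hh (Or.inr ⟨hcon h hh e, ?_⟩)
        calc h * (t * z) * h⁻¹ = (h * t * h⁻¹) * (h * z * h⁻¹) := by group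
          _ = t := by rw [hcon h hh e, (hHz h hh).eq, mul_inv_cancel_right, mul_assoc, hz2, mul_one]
    set U := ext2 (zpowers z) t htc htsq with hU
    have hUc : H ≤ centralizer (U : Set G) := le_centralizer_swap (ext2_le
      (zpowers_le.2 (mem_centralizer_iff.2 fun h hh => (hHz h hh).eq))
      (mem_centralizer_iff.2 fun h hh => (hfixt h hh).eq))
    have hUN : H ≤ normalizer (U : Set G) := hUc.trans (centralizer_le_normalizer _)
    exact hmove (stability hH hP (ext2_le (zpowers_le.2 hzZ.1) ht)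
      (by rw [h8, (hU4 t ht htnz htc htsq).1]) hHP hUN hUc)
  obtain ⟨t₂, ht₂def⟩ : ∃ t₂, t₂ = h * t * h⁻¹ := ⟨_, rfl⟩
  obtain ⟨t₃, ht₃def⟩ : ∃ t₃, t₃ = h * t₂ * h⁻¹ := ⟨_, rfl⟩
  rw [← ht₂def] at hh1 hh2
  have hconjz : ∀ w, h * (w * z) * h⁻¹ = h * w * h⁻¹ * z := fun w => by
    calc h * (w * z) * h⁻¹ = h * w * (z * h⁻¹) := by group
      _ = h * w * (h⁻¹ * z) := by rw [((hHz h hh).inv_left).eq]
      _ = h * w * h⁻¹ * z := by group
  have hinj : ∀ v w, h * v * h⁻¹ = h * w * h⁻¹ → v = w := fun v w e => (MulAut.conj h).injective (by simpa using e)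
  have h32 : t₃ ≠ t₂ := fun e => hh1 (hinj _ _ (by rw [← ht₃def, e, ht₂def]))
  have h32' : t₃ ≠ t₂ * z := fun e => hh2 (hinj _ _ (by rw [← ht₃def, e, hconjz, ← ht₂def]))
  have hpow4 : ∀ w, h * (h * (h * (h * w * h⁻¹) * h⁻¹) * h⁻¹) * h⁻¹ = w → Commute h w := fun w e => by
    refine odd_comm hH hh (odd_comm hH (mul_mem hh hh) (mul_inv_eq_iff_eq_mul.1 ?_))
    calc h * h * (h * h) * w * (h * h * (h * h))⁻¹ = _ := by group
      _ = w := e
  have h31 : t₃ ≠ t := fun e => hh1 (by
    have := hpow4 t (by rw [← ht₂def, ← ht₃def, e, ← ht₂def, ← ht₃def, e])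
    rw [ht₂def, this.eq, mul_inv_cancel_right])
  have h31' : t₃ ≠ t * z := fun e => hh1 (by
    have := hpow4 t (by rw [← ht₂def, ← ht₃def, e, hconjz, hconjz, ← ht₂def, ← ht₃def, e, mul_assoc, hz2, mul_one])
    rw [ht₂def, this.eq, mul_inv_cancel_right])
  have ht₂P : t₂ ∈ P := ht₂def ▸ Cfsg.Lib.Coprime.conj_mem_of_mem_normalizer (hHP hh) ht
  have ht₃P : t₃ ∈ P := ht₃def ▸ Cfsg.Lib.Coprime.conj_mem_of_mem_normalizer (hHP hh) ht₂P
  have hsq₂ : t₂ * t₂ = 1 := by rw [ht₂def, show h * t * h⁻¹ * (h * t * h⁻¹) = h * (t * t) * h⁻¹ by group, ht2]; group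
  have hsq₃ : t₃ * t₃ = 1 := by
    rw [ht₃def, show h * t₂ * h⁻¹ * (h * t₂ * h⁻¹) = h * (t₂ * t₂) * h⁻¹ by group, hsq₂]; group
  have hn1 : ∀ w, w ≠ 1 → h * w * h⁻¹ ≠ 1 := fun w hw e => hw (conj_eq_one_iff.1 e)
  have hnz : ∀ w, w ≠ z → h * w * h⁻¹ ≠ z := fun w hw e => hw (hinj _ _ (by
    rw [e, (hHz h hh).eq, mul_inv_cancel_right]))
  have ht₂1 : t₂ ≠ 1 := ht₂def ▸ hn1 t ht1
  have ht₂z : t₂ ≠ z := ht₂def ▸ hnz t htz
  have ht₃1 : t₃ ≠ 1 := ht₃def ▸ hn1 t₂ ht₂1
  have ht₃z : t₃ ≠ z := ht₃def ▸ hnz t₂ ht₂z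
  have hall : ∀ y ∈ P, y * y = 1 := by
    classical
    intro y hy
    have hz_sq : ∀ w ∈ P, w * w = 1 → w * z * (w * z) = 1 := fun w hw e => by
      rw [(hzcomm w hw).symm.mul_mul_mul_comm, e, hz2, one_mul]
    have hmem : y ∈ ({1, z, t, t * z, t₂, t₂ * z, t₃, t₃ * z} : Finset G) := by
      by_contra hny
      have hle := card_finset_le P (insert y ({1, z, t, t * z, t₂, t₂ * z, t₃, t₃ * z} : Finset G))
        (by simp [hy, ht, (Subgroup.mem_inf.1 hzZ).1, ht₂P, ht₃P, one_mem, mul_mem])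
      have hcard : ({1, z, t, t * z, t₂, t₂ * z, t₃, t₃ * z} : Finset G).card = 8 := by
        have e1 : ∀ w, w ≠ z → w * z ≠ 1 := fun w hw e => hw (mul_right_cancel (e.trans hz2.symm))
        have e2 : ∀ w, w ≠ 1 → w * z ≠ z := fun w hw e => hw (mul_eq_right.1 e)
        have e3 : ∀ w, w * z ≠ w := fun w e => hz1 (mul_eq_left.1 e)
        have e4 : ∀ v w, v ≠ w → v * z ≠ w * z := fun v w hvw e => hvw (mul_right_cancel e)
        have e5 : ∀ v w, v ≠ w * z → v * z ≠ w := fun v w hvw e => hvw (by rw [← e, mul_assoc, hz2, mul_one])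
        repeat rw [Finset.card_insert_of_notMem]
        · rw [Finset.card_singleton]
        all_goals simp only [Finset.mem_insert, Finset.mem_singleton, not_or]
        · exact (e3 t₃).symm
        · exact ⟨e5 _ _ (fun e => h32' (by rw [e, mul_assoc, hz2, mul_one])), e4 _ _ h32.symm⟩
        · exact ⟨(e3 t₂).symm, h32.symm, fun e => h32' (by rw [e, mul_assoc, hz2, mul_one])⟩
        · exact ⟨e5 _ _ (fun e => hh2 (by rw [e, mul_assoc, hz2, mul_one])) , e4 _ _ hh1.symm,
            e5 _ _ (fun e => h31' (by rw [e, mul_assoc, hz2, mul_one])), e4 _ _ h31.symm⟩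
        · exact ⟨(e3 t).symm, hh1.symm, fun e => hh2 (by rw [e, mul_assoc, hz2, mul_one]), h31.symm,
            fun e => h31' (by rw [e, mul_assoc, hz2, mul_one])⟩
        · exact ⟨Ne.symm htz, (e2 t ht1).symm, Ne.symm ht₂z, (e2 t₂ ht₂1).symm, Ne.symm ht₃z, (e2 t₃ ht₃1).symm⟩
        · exact ⟨Ne.symm hz1, Ne.symm ht1, (e1 t htz).symm, Ne.symm ht₂1, (e1 t₂ ht₂z).symm, Ne.symm ht₃1,
            (e1 t₃ ht₃z).symm⟩
      rw [Finset.card_insert_of_notMem hny, hcard, h8] at hle
      omega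
    simp only [Finset.mem_insert, Finset.mem_singleton] at hmem
    rcases hmem with rfl | rfl | rfl | rfl | rfl | rfl | rfl | rfl
    exacts [one_mul 1, hz2, ht2, hz_sq t ht ht2, hsq₂, hz_sq t₂ ht₂P hsq₂, hsq₃, hz_sq t₃ ht₃P hsq₃]
  exact hab (comm_of_exp_two hall a haP b hbP)

theorem conj_orbit_bound [Finite G] {K : Subgroup G} {q : G} {O : Finset G} (hO : ∀ x ∈ K, x * q * x⁻¹ ∈ O) :
    Nat.card K ≤ O.card * Nat.card (K ⊓ centralizer ({q} : Set G) : Subgroup G) := by
  classical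
  haveI := Fintype.ofFinite K
  rw [Nat.card_eq_fintype_card, ← Finset.card_univ, mul_comm]
  refine Finset.card_le_mul_card_image_of_maps_to (f := fun x : K => (x : G) * q * (x : G)⁻¹)
    (fun x _ => hO x x.2) _ fun v _ => ?_
  rcases (Finset.univ.filter fun x : K => (x : G) * q * (x : G)⁻¹ = v).eq_empty_or_nonempty with h | ⟨x₀, hx₀⟩
  · rw [h, Finset.card_empty]; exact Nat.zero_le _
  rw [Finset.mem_filter] at hx₀
  rw [← Finset.card_map ⟨fun x : K => (x₀ : G)⁻¹ * x, fun a b e => Subtype.ext (mul_left_cancel e)⟩]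
  refine card_finset_le _ _ fun w hw => ?_
  obtain ⟨x, hx, rfl⟩ := Finset.mem_map.1 hw
  rw [Finset.mem_filter] at hx
  refine Subgroup.mem_inf.2 ⟨mul_mem (inv_mem x₀.2) x.2, mem_centralizer_singleton_iff.2 ?_⟩
  show (x₀ : G)⁻¹ * x * q = q * ((x₀ : G)⁻¹ * x)
  calc (x₀ : G)⁻¹ * x * q = (x₀ : G)⁻¹ * ((x : G) * q * (x : G)⁻¹) * x := by group
    _ = (x₀ : G)⁻¹ * ((x₀ : G) * q * (x₀ : G)⁻¹) * x := by rw [hx.2, hx₀.2]
    _ = _ := by group

/-- A self-centralising shape is not the `2`-core below an `NA8`. -/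
theorem core_contra [Finite G] {Q X A : Subgroup G} [Q.Normal] (hX : IsPGroup 2 X) (hQX : Q ≤ X)
    (hC : centralizer (Q : Set G) ≤ Q) (hS : Shape Q) (hAX : A ≤ X) (hA : IsMulCommutative ↥A)
    (hAc : ¬ IsCyclic ↥A) (hA8 : Nat.card A = 8) : False := by
  classical
  haveI : Fact (Nat.Prime 2) := ⟨Nat.prime_two⟩
  have hXN : X ≤ normalizer (Q : Set G) := by rw [normalizer_eq_top (H := Q)]; exact le_top
  have hQne : Q ≠ ⊥ := fun e => by
    rcases hS with ⟨h, -⟩ | ⟨h, -⟩ <;> rw [e, card_bot] at h <;> omega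
  set U := ⁅Q, X⁆ with hU
  have hUQ : U ≤ Q := le_normalizer_iff_commutator_le_left.1 hXN
  have hUne : U ≠ Q := (Cfsg.Lib.PGroup.commutator_lt_of_isPGroup hS.isPGroup hX hXN hQne).ne
  have hXU : X ≤ normalizer (U : Set G) := le_normalizer_commutator_of hXN le_normalizer
  have hUcard : Nat.card U ∣ Nat.card Q := card_dvd_of_le hUQ
  have hUlt : Nat.card U < Nat.card Q := by
    rcases (Nat.le_of_dvd Nat.card_pos hUcard).lt_or_eq with h | h
    · exact h
    · exact absurd (eq_of_le_of_card_ge hUQ h.ge) hUne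
  rcases hS with ⟨h4, hexp⟩ | ⟨h8, hna, huniq⟩
  · have hU2 : Nat.card U ≤ 2 := by
      rw [h4] at hUcard hUlt
      have := Nat.le_of_dvd (by norm_num) hUcard
      interval_cases h : Nat.card U <;> omega
    have hUc := small_central hU2 hXU
    haveI : Nontrivial Q := (Subgroup.nontrivial_iff_ne_bot Q).2 hQne
    obtain ⟨e₀, he₀, he₁, he₀c⟩ : ∃ e₀ ∈ Q, e₀ ≠ 1 ∧ X ≤ centralizer ({e₀} : Set G) := by
      by_cases hb : U = ⊥
      · obtain ⟨⟨e, he⟩, he1⟩ := exists_ne (1 : Q)
        exact ⟨e, he, fun h => he1 (Subtype.ext h), fun x hx => mem_centralizer_singleton_iff.2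
          ((mem_centralizer_iff.1 (commutator_eq_bot_iff_le_centralizer.1 hb he) x hx))⟩
      · obtain ⟨u, hu, hu1⟩ := (Subgroup.bot_or_exists_ne_one U).resolve_left hb
        exact ⟨u, hUQ hu, hu1, fun x hx => mem_centralizer_singleton_iff.2 (mem_centralizer_iff.1 (hUc hx) u hu).symm⟩
    obtain ⟨e, he, hee⟩ : ∃ e ∈ Q, e ∉ ({1, e₀} : Finset G) := by
      by_contra hcon
      push Not at hcon
      have h1 : (Q : Set G) ⊆ (({1, e₀} : Finset G) : Set G) := fun q hq => hcon q hq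
      have h2 := Set.ncard_le_ncard h1 (Set.toFinite _)
      rw [Set.ncard_coe_finset, Finset.card_pair (Ne.symm he₁)] at h2
      have h3 : Nat.card Q = (Q : Set G).ncard := Nat.card_coe_set_eq _
      omega
    simp only [Finset.mem_insert, Finset.mem_singleton, not_or] at hee
    have hQel : ∀ q ∈ Q, q = 1 ∨ q = e₀ ∨ q = e ∨ q = e * e₀ := by
      intro q hq
      by_contra hcon
      push Not at hcon
      have h := card_finset_le Q {q, 1, e₀, e, e * e₀} (by simp [hq, one_mem, he₀, he, mul_mem he he₀])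
      have n1 : e * e₀ ≠ 1 := fun h => hee.2 (mul_right_cancel (h.trans (hexp e₀ he₀).symm))
      have n2 : e * e₀ ≠ e₀ := fun h => hee.1 (mul_eq_right.1 h)
      have n3 : e * e₀ ≠ e := fun h => he₁ (mul_eq_left.1 h)
      rw [Finset.card_insert_of_notMem (by simp [hcon.1, hcon.2.1, hcon.2.2.1, hcon.2.2.2]),
        Finset.card_insert_of_notMem (by simp [Ne.symm he₁, Ne.symm hee.1, Ne.symm n1]),
        Finset.card_insert_of_notMem (by simp [Ne.symm hee.2, Ne.symm n2]),
        Finset.card_pair (Ne.symm n3), h4] at h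
      omega
    have hconj : ∀ x ∈ X, x * e * x⁻¹ ∈ ({e, e * e₀} : Finset G) := by
      intro x hx
      have h1 := Cfsg.Lib.Coprime.conj_mem_of_mem_normalizer (hXN hx) he
      have hfx : x * e₀ * x⁻¹ = e₀ := by rw [mem_centralizer_singleton_iff.1 (he₀c hx), mul_inv_cancel_right]
      simp only [Finset.mem_insert, Finset.mem_singleton]
      rcases hQel _ h1 with h | h | h | h
      · exact absurd (conj_eq_one_iff.1 h) hee.1
      · exact absurd ((MulAut.conj x).injective (by simpa using h.trans hfx.symm)) hee.2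
      · exact Or.inl h
      · exact Or.inr h
    have hker : X ⊓ centralizer ({e} : Set G) ≤ Q := fun x hx => hC (mem_centralizer_iff.2 fun q hq => by
      have hce₀ : Commute e₀ x := (mem_centralizer_singleton_iff.1 (he₀c hx.1)).symm
      have hce : Commute e x := (mem_centralizer_singleton_iff.1 hx.2).symm
      rcases hQel q hq with rfl | rfl | rfl | rfl
      exacts [by simp, hce₀.eq, hce.eq, (hce.mul_left hce₀).eq])
    have hXle : Nat.card X ≤ 8 := by
      refine (conj_orbit_bound hconj).trans ?_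
      have h1 : ({e, e * e₀} : Finset G).card ≤ 2 := Finset.card_le_two
      have h2 := card_le_of_le hker
      rw [h4] at h2
      exact (Nat.mul_le_mul h1 h2).trans (le_of_eq (by norm_num))
    have hAeq : A = X := eq_of_le_of_card_ge hAX (by omega)
    have hAQ : A ≤ Q := fun a ha => hC (mem_centralizer_iff.2 fun q hq =>
      commutes_of_comm hA (hAeq.ge (hQX hq)) ha)
    have := card_le_of_le hAQ
    omega
  -- quaternion case
  obtain ⟨q₀, hq₀, hq₀2⟩ := quat_exists_sq_ne (by omega) huniq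
  have hq₀4 : q₀ * q₀ * (q₀ * q₀) = 1 := by
    rw [← quat_pow_four h8 hna hq₀]; simp [pow_succ, mul_assoc]
  obtain ⟨z, hzdef⟩ : ∃ z, z = q₀ * q₀ := ⟨_, rfl⟩
  have hzQ : z ∈ Q := hzdef ▸ mul_mem hq₀ hq₀
  rw [← hzdef] at hq₀2 hq₀4
  have hzu : ∀ v ∈ Q, v * v = 1 → v = 1 ∨ v = z := fun v hv hv2 => by
    by_cases e : v = 1
    · exact Or.inl e
    · exact Or.inr (huniq v hv z hzQ hv2 hq₀4 e hq₀2)
  have hsqz : ∀ v ∈ Q, v * v ≠ 1 → v * v = z := fun v hv hv2 => by
    rcases hzu _ (mul_mem hv hv) (by rw [← quat_pow_four h8 hna hv]; simp [pow_succ, mul_assoc]) with e | e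
    · exact absurd e hv2
    · exact e
  have hord : ∀ v ∈ Q, v * v ≠ 1 → Nat.card (zpowers v) = 4 := fun v hv hv2 => by
    rw [Nat.card_zpowers, orderOf_eq_prime_pow (p := 2) (n := 1) (by rwa [pow_one, pow_two])
      (by simpa using quat_pow_four h8 hna hv)]
    norm_num
  have hgen : ∀ v ∈ Q, v * v ≠ 1 → ∀ q ∈ Q, q ∉ zpowers v → ∀ x : G, Commute x v → Commute x q →
      ∀ p ∈ Q, Commute x p := by
    intro v hv hv2 q hq hqv x hxv hxq p hp
    have hle : zpowers v ≤ Q := zpowers_le.2 hv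
    have hzv : ∀ w ∈ zpowers v, Commute x w := fun w hw => by
      obtain ⟨k, rfl⟩ := mem_zpowers_iff.1 hw
      exact hxv.zpow_right k
    by_cases hpv : p ∈ zpowers v
    · exact hzv p hpv
    · have h1 : q⁻¹ * p ∈ zpowers v := by
        rw [mul_mem_of_card_two hle (by rw [h8, hord v hv hv2]) (inv_mem hq) hp, inv_mem_iff]
        exact iff_of_false hqv hpv
      have h2 := hxq.mul_right (hzv _ h1)
      rwa [mul_inv_cancel_left] at h2
  have hcenQ : ∀ x ∈ Q, (∀ p ∈ Q, Commute x p) → x = 1 ∨ x = z := by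
    intro x hx hxc
    refine hzu x hx (by_contra fun hx2 => hna (comm_of_commutes fun a ha b hb => ?_))
    obtain ⟨r, hr, hrx⟩ : ∃ r ∈ Q, r ∉ zpowers x := by
      by_contra hcon
      push Not at hcon
      have := card_le_of_le (show Q ≤ zpowers x from hcon)
      rw [hord x hx hx2] at this
      omega
    have hcr : ∀ p ∈ Q, Commute r p := hgen x hx hx2 r hr hrx r (hxc r hr).symm (Commute.refl r)
    exact (hgen x hx hx2 r hr hrx a (hxc a ha).symm (hcr a ha).symm b hb).eq
  obtain ⟨w, hw, hw2, hwX⟩ : ∃ w ∈ Q, w * w ≠ 1 ∧ ∀ x ∈ X, x * w * x⁻¹ = w ∨ x * w * x⁻¹ = w * z := by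
    by_cases hU2 : Nat.card U ≤ 2
    · refine ⟨q₀, hq₀, hzdef ▸ hq₀2, fun x hx => ?_⟩
      have hu : ⁅q₀, x⁆ ∈ U := commutator_mem_commutator hq₀ hx
      by_cases e : ⁅q₀, x⁆ = 1
      · left
        rw [← commutatorElement_eq_one_iff_mul_comm.1 e, mul_inv_cancel_right]
      · right
        have e2 : ⁅q₀, x⁆ * ⁅q₀, x⁆ = 1 := by
          by_contra hne2
          exact e (mul_left_cancel ((eq_of_card_le_two hU2 (mul_mem hu hu) hu hne2 e).trans (mul_one _).symm))
        rcases hzu _ (hUQ hu) e2 with h | h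
        · exact absurd h e
        · have h' : q₀ * (x * q₀⁻¹ * x⁻¹) = z := by rw [← h, commutatorElement_def]; group
          have h'' : x * q₀⁻¹ * x⁻¹ = q₀ := mul_left_cancel (h'.trans hzdef)
          calc x * q₀ * x⁻¹ = (x * q₀⁻¹ * x⁻¹)⁻¹ := by group
            _ = q₀⁻¹ := by rw [h'']
            _ = q₀ * z := by
              refine inv_eq_of_mul_eq_one_right ?_
              rw [← mul_assoc, ← hzdef, hq₀4]
    · have hU4 : Nat.card U = 4 := by
        rw [h8] at hUcard hUlt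
        have := Nat.le_of_dvd (by norm_num) hUcard
        interval_cases h : Nat.card U <;> omega
      obtain ⟨u, hu, hu2⟩ := quat_exists_sq_ne (by omega) (fun a ha b hb => huniq a (hUQ ha) b (hUQ hb))
      refine ⟨u, hUQ hu, hu2, fun x hx => ?_⟩
      have hx2 : x * u * x⁻¹ * (x * u * x⁻¹) ≠ 1 := by
        rw [show x * u * x⁻¹ * (x * u * x⁻¹) = x * (u * u) * x⁻¹ by group]
        exact fun e => hu2 (conj_eq_one_iff.1 e)
      have hu4 : u * u * (u * u) = 1 := by rw [hsqz u (hUQ hu) hu2, hq₀4]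
      rcases quat_four_elems hU4 hu hu2 _ (Cfsg.Lib.Coprime.conj_mem_of_mem_normalizer (hXU hx) hu) with e | e | e | e
      · rw [e, one_mul] at hx2; exact absurd rfl hx2
      · rw [e, hu4] at hx2; exact absurd rfl hx2
      · exact Or.inl e
      · refine Or.inr (e.trans (inv_eq_of_mul_eq_one_right ?_))
        rw [← hsqz u (hUQ hu) hu2, ← mul_assoc, hu4]
  have hX16 : Nat.card X ≤ 16 := by
    refine (conj_orbit_bound (O := {w, w * z}) (q := w) fun x hx => by simpa using hwX x hx).trans ?_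
    obtain ⟨q, hq, hqw⟩ : ∃ q ∈ Q, q ∉ zpowers w := by
      by_contra hcon
      push Not at hcon
      have := card_le_of_le (show Q ≤ zpowers w from hcon)
      rw [hord w hw hw2] at this
      omega
    have h1 : ({w, w * z} : Finset G).card ≤ 2 := Finset.card_le_two
    have h2 : Nat.card (X ⊓ centralizer ({w} : Set G) : Subgroup G) ≤ 4 * 2 := by
      haveI := Fintype.ofFinite G
      refine (conj_orbit_bound (O := Finset.univ.filter fun v => v ∈ Q ∧ v ∉ zpowers w) (q := q) ?_).trans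
        (Nat.mul_le_mul ?_ ?_)
      · intro x hx
        refine Finset.mem_filter.2 ⟨Finset.mem_univ _,
          Cfsg.Lib.Coprime.conj_mem_of_mem_normalizer (hXN hx.1) hq, fun h => hqw ?_⟩
        obtain ⟨k, hk⟩ := mem_zpowers_iff.1 h
        have hcw : Commute x w := mem_centralizer_singleton_iff.1 hx.2
        refine mem_zpowers_iff.2 ⟨k, ?_⟩
        have : x * q * x⁻¹ = x * w ^ k * x⁻¹ := by rw [(hcw.zpow_right k).eq, mul_inv_cancel_right, hk]
        exact ((MulAut.conj x).injective (by simpa using this)).symm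
      · have hd : Disjoint (Finset.univ.filter fun v => v ∈ Q ∧ v ∉ zpowers w)
            (Finset.univ.filter fun v => v ∈ zpowers w) := by
          rw [Finset.disjoint_filter]; exact fun v _ h h' => h.2 h'
        have hle := card_finset_le Q ((Finset.univ.filter fun v => v ∈ Q ∧ v ∉ zpowers w) ∪
            (Finset.univ.filter fun v => v ∈ zpowers w)) (fun v hv => by
          rcases Finset.mem_union.1 hv with h | h
          · exact (Finset.mem_filter.1 h).2.1
          · exact zpowers_le.2 hw (Finset.mem_filter.1 h).2)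
        have hz : (Finset.univ.filter fun v => v ∈ zpowers w).card = 4 := by
          rw [← hord w hw hw2, Nat.card_eq_fintype_card, Fintype.card_subtype]
        rw [Finset.card_union_of_disjoint hd, hz, h8] at hle
        omega
      · have hsub : ((X ⊓ centralizer ({w} : Set G)) ⊓ centralizer ({q} : Set G) : Subgroup G) ≤ zpowers z := by
          intro x hx
          have hall := hgen w hw hw2 q hq hqw x (mem_centralizer_singleton_iff.1 hx.1.2)
            (mem_centralizer_singleton_iff.1 hx.2)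
          have hxQ : x ∈ Q := hC (mem_centralizer_iff.2 fun p hp => (hall p hp).eq.symm)
          rcases hcenQ x hxQ hall with rfl | rfl
          · exact one_mem _
          · exact mem_zpowers _
        refine (card_le_of_le hsub).trans ?_
        rw [Nat.card_zpowers]
        exact Nat.le_of_dvd (by norm_num) (orderOf_dvd_of_pow_eq_one (by rw [pow_two, hq₀4]))
    exact (Nat.mul_le_mul h1 h2).trans (le_of_eq (by norm_num))
  have hprod : Nat.card A * Nat.card Q = Nat.card (A ⊔ Q : Subgroup G) * Nat.card (A ⊓ Q : Subgroup G) := by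
    have h1 := Cfsg.Lib.Core.card_mul_relIndex (le_sup_right : Q ≤ A ⊔ Q)
    rw [relIndex_sup_right, ← inf_relIndex_right, inf_comm Q A] at h1
    have h2 := Cfsg.Lib.Core.card_mul_relIndex (inf_le_left : A ⊓ Q ≤ A)
    rw [← h1, ← h2]; ring
  have hBd : Nat.card (A ⊓ Q : Subgroup G) ∣ 8 := hA8 ▸ card_dvd_of_le inf_le_left
  have hB4 : Nat.card (A ⊓ Q : Subgroup G) = 4 := by
    have h1 := card_le_of_le (sup_le hAX hQX : A ⊔ Q ≤ X)
    have h2 : Nat.card (A ⊓ Q : Subgroup G) ≠ 8 := fun e => by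
      have hQA : A ⊓ Q = Q := eq_of_le_of_card_ge inf_le_right (by omega)
      exact hna (comm_of_commutes fun a ha b hb => commutes_of_comm hA (hQA.ge ha).1 (hQA.ge hb).1)
    have h3 := Nat.le_of_dvd (by norm_num) hBd
    rw [hA8, h8] at hprod
    interval_cases h : Nat.card (A ⊓ Q : Subgroup G) <;> omega
  obtain ⟨y, hy, hy2⟩ := quat_exists_sq_ne (U := A ⊓ Q) (by omega)
    (fun a ha b hb => huniq a ha.2 b hb.2)
  have hB := quat_four_elems hB4 hy hy2
  have hyy : y * y = z := hsqz y hy.2 hy2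
  obtain ⟨a, haA, haB, haa⟩ := exists_sq_mem (hX.to_le hAX) (inf_le_left : A ⊓ Q ≤ A) (fun e => by
    have := congrArg (fun K : Subgroup G => Nat.card K) e
    omega)
  have haQ : a ∉ Q := fun h => haB ⟨haA, h⟩
  have hay : Commute a y := commutes_of_comm hA haA hy.1
  have hord8 : ∀ g ∈ A, g * g * (g * g) ≠ 1 → False := fun g hg hg4 => hAc (by
    have h : orderOf g = 2 ^ (2 + 1) := orderOf_eq_prime_pow (by simpa [pow_succ, mul_assoc] using hg4)
      (by simpa [← hA8] using pow_card_mem hg)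
    have he : zpowers g = A := eq_of_le_of_card_ge (zpowers_le.2 hg) (by rw [Nat.card_zpowers, h, hA8]; norm_num)
    exact he ▸ (inferInstance : IsCyclic ↥(zpowers g)))
  obtain ⟨t, ht2, htQ, hty⟩ : ∃ t, t * t = 1 ∧ t ∉ Q ∧ Commute t y := by
    rcases hB _ haa with e | e | e | e
    · exact ⟨a, e, haQ, hay⟩
    · refine ⟨a * y, ?_, fun h => haQ ?_, hay.mul_left (Commute.refl y)⟩
      · rw [hay.symm.mul_mul_mul_comm, e, hyy, hq₀4]
      · simpa using mul_mem h (inv_mem hy.2)
    · exact (hord8 a haA (by rw [e]; exact hy2)).elim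
    · refine (hord8 a haA ?_).elim
      rw [e, ← mul_inv_rev]
      exact fun h => hy2 (inv_eq_one.1 h)
  obtain ⟨q, hq, hqy⟩ : ∃ q ∈ Q, q ∉ zpowers y := by
    by_contra hcon
    push Not at hcon
    have := card_le_of_le (show Q ≤ zpowers y from hcon)
    rw [hord y hy.2 hy2] at this
    omega
  have hle : zpowers y ≤ Q := zpowers_le.2 hy.2
  have hfour := quat_four_elems (hord y hy.2 hy2) (mem_zpowers y) hy2
  have hc2 : Nat.card Q = 2 * Nat.card (zpowers y) := by rw [h8, hord y hy.2 hy2]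
  have hnc : q * y ≠ y * q := fun e => hna (comm_of_commutes fun u hu v hv =>
    (hgen y hy.2 hy2 q hq hqy u (hgen y hy.2 hy2 q hq hqy y (Commute.refl y) e.symm u hu).symm
      (hgen y hy.2 hy2 q hq hqy q e (Commute.refl q) u hu).symm v hv).eq)
  have hqyq : q⁻¹ * y * q = y⁻¹ := by
    have hin : q⁻¹ * y * q ∈ zpowers y := by
      rw [mul_assoc, mul_mem_of_card_two hle hc2 (inv_mem hq) (mul_mem hy.2 hq), inv_mem_iff]
      exact iff_of_false hqy fun h => hqy (by simpa using mul_mem (inv_mem (mem_zpowers y)) h)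
    rcases hfour _ hin with e | e | e | e
    · have : y = 1 := by
        calc y = q * (q⁻¹ * y * q) * q⁻¹ := by group
          _ = 1 := by rw [e]; group
      rw [this, one_mul] at hy2; exact absurd rfl hy2
    · exfalso
      have h2 : q⁻¹ * (y * y) * q = y * y * (y * y) := by
        calc q⁻¹ * (y * y) * q = (q⁻¹ * y * q) * (q⁻¹ * y * q) := by group
          _ = _ := by rw [e]
      rw [hyy, hq₀4] at h2
      exact hq₀2 (by
        calc z = q * (q⁻¹ * z * q) * q⁻¹ := by group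
          _ = 1 := by rw [h2]; group)
    · exact absurd (by
        calc q * y = q * (q⁻¹ * y * q) := by rw [e]
          _ = y * q := by group) hnc
    · exact e
  have hyq : y * q * y⁻¹ = q * z := by
    calc y * q * y⁻¹ = q * (q⁻¹ * y * q) * y⁻¹ := by group
      _ = q * (y⁻¹ * y⁻¹) := by rw [hqyq, mul_assoc]
      _ = q * z := by
        congr 1
        rw [← mul_inv_rev, hyy]
        exact inv_eq_of_mul_eq_one_right hq₀4
  have htN : t ∈ normalizer (Q : Set G) := by rw [normalizer_eq_top (H := Q)]; exact mem_top t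
  have htq := Cfsg.Lib.Coprime.conj_mem_of_mem_normalizer htN hq
  have htz : t * z * t⁻¹ = z := by
    rw [← hyy, (hty.mul_right hty).eq, mul_inv_cancel_right]
  have hfin : ∀ v : G, Commute v y → Commute v q → v ∈ Q := fun v h1 h2 =>
    hC (mem_centralizer_iff.2 fun p hp => (hgen y hy.2 hy2 q hq hqy v h1 h2 p hp).eq.symm)
  have hin : q⁻¹ * (t * q * t⁻¹) ∈ zpowers y := by
    rw [mul_mem_of_card_two hle hc2 (inv_mem hq) htq, inv_mem_iff]
    refine iff_of_false hqy fun h => hqy ?_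
    obtain ⟨k, hk⟩ := mem_zpowers_iff.1 h
    refine mem_zpowers_iff.2 ⟨k, ?_⟩
    have : t * q * t⁻¹ = t * y ^ k * t⁻¹ := by rw [(hty.zpow_right k).eq, mul_inv_cancel_right, hk]
    exact ((MulAut.conj t).injective (by simpa using this)).symm
  have htt : ∀ v, t * (t * v * t⁻¹) * t⁻¹ = v := fun v => by
    calc t * (t * v * t⁻¹) * t⁻¹ = (t * t) * v * (t * t)⁻¹ := by group
      _ = v := by rw [ht2]; group
  have hbad : ∀ v, t * v * t⁻¹ = v → q⁻¹ * (t * q * t⁻¹) = v → v * v = 1 := fun v hv e => by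
    have e2 : t * q * t⁻¹ = q * v := by rw [← e]; group
    have e3 : q * (v * v) = q := by
      calc q * (v * v) = (q * v) * v := by group
        _ = (t * q * t⁻¹) * (t * v * t⁻¹) := by rw [e2, hv]
        _ = t * (q * v) * t⁻¹ := by group
        _ = t * (t * q * t⁻¹) * t⁻¹ := by rw [e2]
        _ = q := htt q
    exact mul_eq_left.1 e3
  rcases hfour _ hin with e | e | e | e
  · exact htQ (hfin t hty (inv_mul_eq_one.1 e |> fun h => mul_inv_eq_iff_eq_mul.1 h.symm))
  · rw [hyy] at e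
    have e2 : t * q * t⁻¹ = q * z := by rw [← e]; group
    have : t * y ∈ Q := by
      refine hfin _ (hty.mul_left (Commute.refl y)) (mul_inv_eq_iff_eq_mul.1 ?_)
      calc t * y * q * (t * y)⁻¹ = t * (y * q * y⁻¹) * t⁻¹ := by group
        _ = (t * q * t⁻¹) * (t * z * t⁻¹) := by rw [hyq]; group
        _ = q := by rw [e2, htz, mul_assoc, hq₀4, mul_one]
    exact htQ (by simpa using mul_mem this (inv_mem hy.2))
  · exact hy2 (hbad y (by rw [hty.eq, mul_inv_cancel_right]) e)
  · have := hbad y⁻¹ (by rw [hty.inv_right.eq, mul_inv_cancel_right]) e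
    rw [← mul_inv_rev, inv_eq_one] at this
    exact hy2 this

/-- Let S be a finite solvable group with O_{2'}(S) = 1 that contains a non-cyclic abelian subgroup of order 8, while no proper subgroup of S of 2-power index contains one. Then a Sylow 2-subgroup X of S is normal in S, and one of the following holds: X is abelian; X is extraspecial of order at least 32; X has a generalized quaternion subgroup X₀ of index 2 with X = X₀·C_X(X₀); or X is special with centre of order 4. -/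
theorem result {S : Type*} [Group S] [Finite S]
    [Group.IsSolvable S] (hO : Cfsg.pPrimeCore 2 S = ⊥)
    (h8 : ∃ A : Subgroup S, IsMulCommutative ↥A ∧ ¬ IsCyclic ↥A ∧ Nat.card ↥A = 8)
    (hmin : ∀ R : Subgroup S, R ≠ ⊤ → (∃ k : ℕ, R.index = 2 ^ k) →
      ¬ ∃ A : Subgroup S, A ≤ R ∧ IsMulCommutative ↥A ∧ ¬ IsCyclic ↥A ∧ Nat.card ↥A = 8)
    (X : Sylow 2 S) :
    (X : Subgroup S).Normal ∧
      (IsMulCommutative ↥X ∨
        (Cfsg.IsExtraspecial 2 ↥X ∧ 32 ≤ Nat.card ↥X) ∨
        (∃ (X₀ : Subgroup S) (k : ℕ), X₀ ≤ (X : Subgroup S) ∧ X₀.relIndex (X : Subgroup S) = 2 ∧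
          Nonempty (↥X₀ ≃* QuaternionGroup (2 ^ (k + 1))) ∧ X₀ ⊔ ((X : Subgroup S) ⊓ Subgroup.centralizer (X₀ : Set S)) = (X : Subgroup S)) ∨
        (Cfsg.IsSpecial 2 ↥X ∧ Nat.card ↥(Subgroup.center ↥X) = 4)) := by
  classical
  haveI : Fact (Nat.Prime 2) := ⟨Nat.prime_two⟩
  obtain ⟨H, hHcard⟩ := Cfsg.Lib.Solv.hall_exists (G := S) (m := (X : Subgroup S).index)
    (k := Nat.card (X : Subgroup S)) (by rw [mul_comm]; exact (X : Subgroup S).card_mul_index.symm)
    X.card_coprime_index.symm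
  have hXp : IsPGroup 2 (X : Subgroup S) := X.isPGroup'
  obtain ⟨nX, hnX⟩ := card_pow_two hXp
  have hodd : Odd (Nat.card H) := by
    rw [hHcard, Nat.odd_iff, ← Nat.two_dvd_ne_zero]
    exact X.not_dvd_index
  set Q := Cfsg.pCore 2 S with hQdef
  have hQp : IsPGroup 2 Q := Cfsg.Lib.Core.pCore_isPGroup 2 S
  have hQX : Q ≤ X := Cfsg.Lib.Core.pCore_le_sylow X
  have hF : Cfsg.fittingSubgroup S ≤ Q := by
    rw [Cfsg.Lib.Core.fittingSubgroup_eq_iSup_pCore]
    refine iSup_le fun r => ?_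
    by_cases hr : (r : ℕ) = 2
    · rw [hr]
    · haveI : Fact (r : ℕ).Prime := ⟨r.2⟩
      obtain ⟨k, hk⟩ := IsPGroup.iff_card.1 (Cfsg.Lib.Core.pCore_isPGroup (r : ℕ) S)
      have h1 : Cfsg.pCore (r : ℕ) S ≤ Cfsg.pPrimeCore 2 S := Cfsg.Lib.Core.le_pPrimeCore
        (by rw [hk]; exact Nat.Coprime.pow_left k ((Nat.coprime_primes r.2 Nat.prime_two).2 hr))
      rw [hO, le_bot_iff] at h1
      rw [h1]; exact bot_le
  have hCQ : Subgroup.centralizer (Q : Set S) ≤ Q :=
    (Subgroup.centralizer_le (SetLike.coe_subset_coe.2 hF)).trans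
      (Cfsg.Lib.Core.centralizer_fitting_le_of_isSolvable.trans hF)
  have hQN : H ≤ Subgroup.normalizer (Q : Set S) := by rw [Subgroup.normalizer_eq_top (H := Q)]; exact le_top
  have hfree : ∀ Y : Subgroup S, Y ≤ X → H ≤ Subgroup.normalizer (Y : Set S) → Y ≠ X → ¬ NA8 Y := by
    intro Y hYX hHY hne hY
    have hYp : IsPGroup 2 Y := hXp.to_le hYX
    have hcard : Nat.card (H ⊔ Y : Subgroup S) = Nat.card H * Nat.card Y := by
      refine Nat.eq_of_mul_eq_mul_right (m := 1) one_pos ?_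
      rw [mul_one, mul_one]
      have hnorm : (Y.subgroupOf (H ⊔ Y)).Normal :=
        (Subgroup.normal_subgroupOf_iff_le_normalizer le_sup_right).2 (sup_le hHY Subgroup.le_normalizer)
      have h1 := Cfsg.Lib.Core.card_mul_relIndex (le_sup_right : Y ≤ H ⊔ Y)
      have h2 : Y.relIndex (H ⊔ Y) ∣ Nat.card H := by
        have e : Y.relIndex (H ⊔ Y) = Y.relIndex H := by
          have h' := Subgroup.relIndex_sup_right (H := H.subgroupOf (H ⊔ Y)) (K := Y.subgroupOf (H ⊔ Y))
          rwa [← Subgroup.subgroupOf_sup le_sup_left le_sup_right, Subgroup.relIndex_subgroupOf le_rfl,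
            Subgroup.relIndex_subgroupOf le_sup_left] at h'
        rw [e]; exact Subgroup.relIndex_dvd_card _ _
      have h3 : Nat.card H ∣ Nat.card (H ⊔ Y : Subgroup S) := Subgroup.card_dvd_of_le le_sup_left
      rw [← h1] at h3
      have h4 : Nat.card H ∣ Y.relIndex (H ⊔ Y) := (coprime_two hodd hYp).dvd_of_dvd_mul_left h3
      rw [← h1, Nat.dvd_antisymm h2 h4, mul_comm]
    obtain ⟨m, hm⟩ := card_pow_two hYp
    have hlt : m < nX := by
      by_contra hge
      push Not at hge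
      exact hne (Subgroup.eq_of_le_of_card_ge hYX (by
        rw [hm, hnX]; exact Nat.pow_le_pow_right (by norm_num) hge))
    have hidx : (H ⊔ Y).index = 2 ^ (nX - m) := by
      have h1 := (H ⊔ Y).card_mul_index
      have h2 := (X : Subgroup S).card_mul_index
      rw [hcard, hm, ← h2, hnX, ← hHcard] at h1
      have h3 : 2 ^ nX = 2 ^ m * 2 ^ (nX - m) := by rw [← pow_add, Nat.add_sub_of_le hlt.le]
      rw [h3] at h1
      have hpos : 0 < Nat.card H * 2 ^ m := Nat.mul_pos Nat.card_pos (by positivity)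
      refine Nat.eq_of_mul_eq_mul_left hpos ?_
      rw [h1]; ring
    refine hmin (H ⊔ Y) (fun e => ?_) ⟨_, hidx⟩ ?_
    · have : (H ⊔ Y).index = 1 := by rw [e, Subgroup.index_top]
      rw [hidx] at this
      have := (Nat.pow_eq_one.1 this).resolve_left (by norm_num)
      omega
    · obtain ⟨A, hA, hA'⟩ := hY
      exact ⟨A, hA.trans le_sup_right, hA'⟩
  obtain ⟨A₀, hA₀c, hA₀n, hA₀8⟩ := h8
  have hA₀p : IsPGroup 2 A₀ := IsPGroup.of_card (n := 3) hA₀8
  obtain ⟨A, hAX, hAc, hAn, hA8⟩ : ∃ A : Subgroup S, A ≤ X ∧ IsMulCommutative ↥A ∧ ¬ IsCyclic ↥A ∧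
      Nat.card ↥A = 8 := by
    obtain ⟨T, hT⟩ := hA₀p.exists_le_sylow
    obtain ⟨g, hg⟩ := MulAction.exists_smul_eq S T X
    let e := A₀.equivMapOfInjective (MulAut.conj g).toMonoidHom (MulAut.conj g).injective
    refine ⟨A₀.map (MulAut.conj g).toMonoidHom, ?_,
      comm_of_commutes ?_, fun hc => hA₀n ?_, by rw [← Nat.card_congr e.toEquiv, hA₀8]⟩
    · rw [← hg]
      exact Subgroup.map_mono hT
    · rintro _ ⟨a, ha, rfl⟩ _ ⟨b, hb, rfl⟩
      rw [← map_mul, ← map_mul, commutes_of_comm hA₀c ha hb]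
    · exact isCyclic_of_surjective e.symm.toMonoidHom e.symm.surjective
  by_cases hH1 : H = ⊥
  · have hXtop : (X : Subgroup S) = ⊤ := Subgroup.index_eq_one.1 (by rw [← hHcard, hH1, Subgroup.card_bot])
    refine ⟨by rw [hXtop]; infer_instance, Or.inl ?_⟩
    have hSp : IsPGroup 2 S := IsPGroup.of_card (n := nX) (by rw [← hnX, hXtop, Subgroup.card_top])
    by_cases hA : A = ⊤
    · subst hA
      exact comm_of_commutes fun a _ b _ => commutes_of_comm hAc (Subgroup.mem_top a) (Subgroup.mem_top b)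
    · obtain ⟨M, hM, hAM⟩ := (eq_top_or_exists_le_coatom A).resolve_left hA
      exact absurd ⟨A, hAM, hAc, hAn, hA8⟩
        (hmin M hM.1 ⟨1, by rw [pow_one]; exact Cfsg.Lib.PGroup.index_of_isCoatom hSp hM⟩)
  have hmoveQ : ¬ H ≤ Subgroup.centralizer (Q : Set S) := fun h => hH1 (by
    have hle : H ≤ Q := h.trans hCQ
    refine Subgroup.card_eq_one.1 (Nat.eq_one_of_dvd_coprimes (coprime_two hodd hQp) dvd_rfl ?_)
    exact Subgroup.card_dvd_of_le hle)
  have hQeq : (X : Subgroup S) = Q := by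
    by_contra hne
    have hnf := hfree Q hQX hQN (Ne.symm hne)
    exact core_contra hXp hQX hCQ (key hodd Q hQp hQN hmoveQ hnf) hAX hAc hAn hA8
  have hXn : (X : Subgroup S).Normal := by rw [hQeq]; infer_instance
  refine ⟨hXn, ?_⟩
  by_cases hab : IsMulCommutative ↥(X : Subgroup S)
  · exact Or.inl hab
  right
  show (Cfsg.IsExtraspecial 2 ↥(X : Subgroup S) ∧ 32 ≤ Nat.card ↥(X : Subgroup S)) ∨ _ ∨
    (Cfsg.IsSpecial 2 ↥(X : Subgroup S) ∧ Nat.card ↥(Subgroup.center ↥(X : Subgroup S)) = 4)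
  generalize hP : (X : Subgroup S) = P at hAX hfree hXn hab hXp hQeq hnX ⊢
  subst hQeq
  have hne0 : Q ≠ ⊥ := fun e => hmoveQ (by
    rw [e]; exact fun g _ => Subgroup.mem_centralizer_iff.2 fun x hx => by rw [Subgroup.mem_bot.1 hx, one_mul, mul_one])
  have hMP : ⁅Q, H⁆ ≤ Q := Subgroup.le_normalizer_iff_commutator_le_left.1 hQN
  by_cases htop : ⁅Q, H⁆ = Q
  swap
  · have hHM : H ≤ Subgroup.normalizer ((⁅Q, H⁆ : Subgroup S) : Set S) :=
      le_normalizer_commutator_of hQN Subgroup.le_normalizer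
    have hmM : ¬ H ≤ Subgroup.centralizer ((⁅Q, H⁆ : Subgroup S) : Set S) := fun h => hmoveQ (by
      have h2 : ⁅⁅Q, H⁆, H⁆ = ⊥ :=
        (Subgroup.commutator_comm _ _).trans (Subgroup.commutator_eq_bot_iff_le_centralizer.2 h)
      have h3 := Cfsg.Lib.Coprime.commutator_eq_bot_of_commutator_commutator_eq_bot hQN (coprime_two hodd hQp)
        (solv_or hQp) h2
      rw [Subgroup.commutator_comm] at h3
      exact Subgroup.commutator_eq_bot_iff_le_centralizer.1 h3)
    have hS := key hodd _ (hQp.to_le hMP) hHM hmM (hfree _ hMP hHM htop)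
    obtain ⟨c, hc, hc2, hcQ, hcM, -, hTN, hTna⟩ := split_case hQp hodd hQN htop hS hmM
    have hT : ext2 ⁅Q, H⁆ c hc hc2 = Q :=
      by_contra fun h => hfree _ (ext2_le hMP hcQ) hTN h hTna
    rcases hS with ⟨h4, hexp⟩ | ⟨h8', hna, huniq⟩
    · exact absurd (comm_of_commutes (by rw [← hT]; exact ext2_commutes (comm_of_exp_two hexp))) hab
    · refine Or.inr (Or.inl ⟨⁅Q, H⁆, 0, hMP, ?_, ?_, ?_⟩)
      · have h1 := Cfsg.Lib.Core.card_mul_relIndex hMP
        have h2 : Nat.card Q = 2 * Nat.card (⁅Q, H⁆ : Subgroup S) := by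
          conv_lhs => rw [← hT]
          exact card_ext2 hcM
        rw [h2, mul_comm 2] at h1
        exact Nat.eq_of_mul_eq_mul_left Nat.card_pos h1
      · have hu : ∀ K L : Subgroup ↥(⁅Q, H⁆ : Subgroup S), Nat.card K = 2 → Nat.card L = 2 → K = L := by
          intro K L hK hL
          obtain ⟨k, hk, hk1⟩ := (Subgroup.bot_or_exists_ne_one K).resolve_left (fun e => by
            rw [e, Subgroup.card_bot] at hK; omega)
          obtain ⟨l, hl, hl1⟩ := (Subgroup.bot_or_exists_ne_one L).resolve_left (fun e => by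
            rw [e, Subgroup.card_bot] at hL; omega)
          have hk2 : k * k = 1 := by rw [← pow_two, ← hK]; exact pow_card_mem hk
          have hl2 : l * l = 1 := by rw [← pow_two, ← hL]; exact pow_card_mem hl
          have hkl : k = l := Subtype.ext (huniq k k.2 l l.2 (congrArg Subtype.val hk2) (congrArg Subtype.val hl2)
            (fun e => hk1 (Subtype.ext e)) (fun e => hl1 (Subtype.ext e)))
          ext v
          constructor
          · intro hv
            by_cases e : v = 1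
            · rw [e]; exact one_mem L
            · rw [eq_of_card_le_two hK.le hv hk e hk1, hkl]; exact hl
          · intro hv
            by_cases e : v = 1
            · rw [e]; exact one_mem K
            · rw [eq_of_card_le_two hL.le hv hl e hl1, ← hkl]; exact hk
        rcases Cfsg.Agent.S0016.result 2 (IsPGroup.of_card (n := 3) h8') hu with hcy | ⟨-, n, ⟨e⟩⟩
        · exact absurd (have := hcy; (inferInstance : IsMulCommutative _)) hna
        · haveI : NeZero (2 ^ n) := ⟨by positivity⟩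
          have hcd : Nat.card (QuaternionGroup (2 ^ n)) = 4 * 2 ^ n := by
            rw [Nat.card_eq_fintype_card, QuaternionGroup.card]
          rw [← Nat.card_congr e.toEquiv, h8'] at hcd
          have hn1 : n = 1 := Nat.pow_right_injective (le_refl 2) (show 2 ^ n = 2 ^ 1 by omega)
          subst hn1
          exact ⟨e⟩
      · refine le_antisymm (sup_le hMP inf_le_left) ?_
        intro x hx
        rw [← hT] at hx
        rcases hx with hx | hx
        · exact Subgroup.mem_sup_left hx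
        · have h' := Subgroup.mul_mem_sup hx (show c ∈ Q ⊓ Subgroup.centralizer ((⁅Q, H⁆ : Subgroup S) : Set S) from
            Subgroup.mem_inf.2 ⟨hcQ, Subgroup.mem_centralizer_iff.2 fun u hu => (hc u hu).symm⟩)
          rwa [← hc _ hx, mul_inv_cancel_left] at h'
  have hHPhi : H ≤ Subgroup.normalizer (Phi Q : Set S) := hQN.trans (normalizer_le_phi Q)
  have hcen : H ≤ Subgroup.centralizer (Phi Q : Set S) ∨ Shape (Phi Q) := by
    by_cases h : H ≤ Subgroup.centralizer (Phi Q : Set S)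
    · exact Or.inl h
    · exact Or.inr (key hodd _ (hQp.to_le (phi_le Q)) hHPhi h (hfree _ (phi_le Q) hHPhi (phi_ne hne0)))
  have hc := phi_central hQp hodd hQN htop hcen
  set Z := Q ⊓ Subgroup.centralizer (Q : Set S) with hZ
  have hZQ : Z ≤ Q := inf_le_left
  have hHZ : H ≤ Subgroup.normalizer (Z : Set S) := Cfsg.Lib.Coprime.le_normalizer_inf_centralizer hQN hQN
  have hZne : Z ≠ Q := fun e => hab (comm_of_commutes fun a ha b hb =>
    (Subgroup.mem_centralizer_iff.1 (e.ge ha).2 b hb).symm)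
  have hPZ : Phi Q ≤ Z := le_inf (phi_le Q) hc
  have hcomQ : ⁅Q, Q⁆ ≠ ⊥ := fun e => hab (comm_of_commutes fun a ha b hb =>
    commutatorElement_eq_one_iff_mul_comm.1 (Subgroup.mem_bot.1 (e ▸ Subgroup.commutator_mem_commutator ha hb)))
  have hmapC : (Subgroup.center ↥Q).map Q.subtype = Z := by
    ext x
    constructor
    · rintro ⟨y, hy, rfl⟩
      exact Subgroup.mem_inf.2 ⟨y.2, Subgroup.mem_centralizer_iff.2 fun g hg =>
        congrArg Subtype.val (Subgroup.mem_center_iff.1 hy ⟨g, hg⟩)⟩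
    · intro hx
      exact ⟨⟨x, hx.1⟩, Subgroup.mem_center_iff.2 fun g => Subtype.ext (Subgroup.mem_centralizer_iff.1 hx.2 g g.2), rfl⟩
  have hspecial : Phi Q = Z → ⁅Q, Q⁆ = Z → Cfsg.IsSpecial 2 ↥Q := fun h1 h2 =>
    ⟨hQp, Subgroup.map_injective Q.subtype_injective (h1.trans hmapC.symm),
      Subgroup.map_injective Q.subtype_injective ((Subgroup.map_subtype_commutator Q).trans (h2.trans hmapC.symm))⟩
  have hcardC : Nat.card (Subgroup.center ↥Q) = Nat.card Z := by
    rw [← hmapC, Cfsg.Lib.Core.card_map_subtype]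
  by_cases hmZ : H ≤ Subgroup.centralizer (Z : Set S)
  · have hPhiZ : Phi Q = Z := le_antisymm hPZ fun x hx =>
      fixed_le hQp hodd hQN htop (commutator_le_phi hQp) (phi_le Q) hHPhi
        (Subgroup.le_normalizer.trans (normalizer_le_phi Q))
        (Subgroup.mem_inf.2 ⟨hx.1, le_centralizer_swap hmZ hx⟩)
    have hsq := squares_mem hQN htop (le_refl ⁅Q, Q⁆) ((commutator_le_phi hQp).trans hc)
      (fun x hx h hh => (Subgroup.mem_centralizer_iff.1 (hmZ hh) _ (hPhiZ ▸ sq_mem_phi hQp hx)).symm)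
    have hcZ : ⁅Q, Q⁆ = Z := le_antisymm ((commutator_le_phi hQp).trans hPZ)
      (hPhiZ.ge.trans (phi_le_of le_rfl hsq))
    let T : Subgroup S :=
      { carrier := {x | x ∈ Z ∧ x * x = 1}
        one_mem' := ⟨one_mem Z, one_mul 1⟩
        mul_mem' := fun {x y} hx hy => ⟨mul_mem hx.1 hy.1, by
          have hxy : Commute y x := (Subgroup.mem_centralizer_iff.1 hy.1.2 x hx.1.1).symm
          rw [hxy.mul_mul_mul_comm, hx.2, hy.2, one_mul]⟩
        inv_mem' := fun {x} hx => ⟨inv_mem hx.1, by rw [← mul_inv_rev, hx.2, inv_one]⟩ }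
    have hTle : ⁅Q, Q⁆ ≤ T := Subgroup.commutator_le.2 fun x hx y hy => by
      have hu : ⁅x, y⁆ ∈ Phi Q := commutator_le_phi hQp (Subgroup.commutator_mem_commutator hx hy)
      refine ⟨hPZ hu, ?_⟩
      have hxu : x * ⁅x, y⁆ = ⁅x, y⁆ * x := Subgroup.mem_centralizer_iff.1 (hc hu) x hx
      have hxx : y * (x * x) = x * x * y := Subgroup.mem_centralizer_iff.1 (hc (sq_mem_phi hQp hx)) y hy
      calc ⁅x, y⁆ * ⁅x, y⁆ = ⁅x, y⁆ * (x * y * x⁻¹ * y⁻¹) := by rw [← commutatorElement_def]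
        _ = x * ⁅x, y⁆ * (y * x⁻¹ * y⁻¹) := by rw [hxu]; group
        _ = (x * x) * y * (x * x)⁻¹ * y⁻¹ := by rw [commutatorElement_def]; group
        _ = 1 := by rw [← hxx]; group
    have hexp : ∀ x ∈ Z, x * x = 1 := fun x hx => (hTle (hcZ.ge hx)).2
    obtain ⟨k, hk⟩ := card_pow_two (hQp.to_le hZQ)
    have hk2 : k ≤ 2 := by
      by_contra hgt
      exact hfree Z hZQ hHZ hZne (na8_of_exp_two (hQp.to_le hZQ) hexp
        (hk ▸ Nat.pow_le_pow_right (show 0 < 2 by norm_num) (show 3 ≤ k by omega)))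
    interval_cases k
    · exact absurd (hcZ.trans (Subgroup.card_eq_one.1 (by simpa using hk))) hcomQ
    · have hes : Cfsg.IsExtraspecial 2 ↥Q := ⟨hspecial hPhiZ hcZ, by rw [hcardC, hk, pow_one]⟩
      obtain ⟨n, hn1, hn⟩ := Cfsg.Agent.S0095.result hes
      refine Or.inl ⟨hes, ?_⟩
      rcases eq_or_lt_of_le hn1 with rfl | hn2
      · have hAQ : A = Q := Subgroup.eq_of_le_of_card_ge hAX (by rw [hn, hA8]; norm_num)
        exact absurd (hAQ ▸ hAc) hab
      · rw [hn]
        exact (show (32 : ℕ) = 2 ^ (2 * 2 + 1) by norm_num).trans_le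
          (Nat.pow_le_pow_right (by norm_num) (by omega))
    · exact Or.inr (Or.inr ⟨hspecial hPhiZ hcZ, by rw [hcardC, hk]; norm_num⟩)
  · have hS := key hodd Z (hQp.to_le hZQ) hHZ hmZ (hfree Z hZQ hHZ hZne)
    rcases hS with ⟨h4, hexp⟩ | ⟨-, hna, -⟩
    swap
    · exact absurd (comm_of_commutes fun a ha b hb => (Subgroup.mem_centralizer_iff.1 (Subgroup.mem_inf.1 ha).2 b (hZQ hb)).symm) hna
    have hsm : ∀ U : Subgroup S, U ≤ Z → H ≤ Subgroup.normalizer (U : Set S) → U ≠ Z → U = ⊥ :=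
      fun U hU hHU hne => Subgroup.card_eq_one.1 (le_antisymm
        ((small_invariant hodd (Or.inl ⟨h4, hexp⟩) hHZ hmZ hU hHU hne).2.2 hexp) Nat.card_pos)
    have hPhiZ : Phi Q = Z := by
      by_contra hne
      exact hcomQ (le_bot_iff.1 ((commutator_le_phi hQp).trans (le_of_eq (hsm _ hPZ hHPhi hne))))
    have hcZ : ⁅Q, Q⁆ = Z := by
      by_contra hne
      exact hcomQ (hsm _ ((commutator_le_phi hQp).trans hPZ) (le_normalizer_commutator_of hQN hQN) hne)
    exact Or.inr (Or.inr ⟨hspecial hPhiZ hcZ, by rw [hcardC, h4]⟩)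

end Cfsg.Agent.S4409
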