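import Cfsg.Statements.S4410
import Cfsg.Agent.Lib.Core.Layer
import Cfsg.Agent.Lib.Core.Fitting
import Cfsg.Agent.Lib.Local.FittingStarAction
import Cfsg.Agent.Lib.TwoGroup.Models
import Mathlib.LinearAlgebra.Matrix.GeneralLinearGroup.Card

set_option linter.style.haveILetI false

set_option autoImplicit false
open Cfsg

namespace Cfsg.Agent.S4410

open Subgroup
open scoped commutatorElement

universe u

variable {V : Type u} [AddCommGroup V] [Module (ZMod 2) V] [Finite V]

omit [Finite V] in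
theorem add_self' (v : V) : v + v = 0 := by
  rw [← two_smul (ZMod 2) v, show (2 : ZMod 2) = 0 from rfl, zero_smul]

omit [Finite V] in
theorem sub_eq_add' (v w : V) : v - w = v + w := by
  rw [sub_eq_iff_eq_add, add_assoc, add_self', add_zero]

theorem card_aut_dvd (W : Submodule (ZMod 2) V) (hd : Module.finrank (ZMod 2) W ≤ 3) :
    Nat.card (W ≃ₗ[ZMod 2] W) ∣ 168 ∧
      (Module.finrank (ZMod 2) W ≤ 2 → Nat.card (W ≃ₗ[ZMod 2] W) ∣ 6) := by
  haveI : Fact (Nat.Prime 2) := ⟨Nat.prime_two⟩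
  set d := Module.finrank (ZMod 2) W with hd'
  let b := Module.finBasis (ZMod 2) W
  have h : Nat.card (W ≃ₗ[ZMod 2] W) = Nat.card (GL (Fin d) (ZMod 2)) :=
    (Nat.card_congr (LinearMap.GeneralLinearGroup.generalLinearEquiv (ZMod 2) W).toEquiv).symm.trans
      (Nat.card_congr (Units.mapEquiv (LinearMap.toMatrixAlgEquiv b).toMulEquiv).toEquiv)
  rw [h, Matrix.card_GL_field, ZMod.card]
  refine ⟨?_, fun hd2 => ?_⟩
  · interval_cases d <;> simp [Fin.prod_univ_succ]
  · interval_cases d <;> simp [Fin.prod_univ_succ]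

/-- The group moving vectors only inside `W`. -/
def movers (W : Submodule (ZMod 2) V) : Subgroup (V ≃ₗ[ZMod 2] V) where
  carrier := {g | ∀ v, g v + v ∈ W}
  one_mem' := fun v => by
    show v + v ∈ W
    rw [add_self']; exact W.zero_mem
  mul_mem' := fun {a b} ha hb v => by
    have h1 : a (b v) + v = (a (b v) + b v) + (b v + v) := by
      rw [add_assoc, ← add_assoc (b v) (b v) v, add_self', zero_add]
    show a (b v) + v ∈ W
    rw [h1]; exact W.add_mem (ha _) (hb _)
  inv_mem' := fun {a} ha v => by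
    have h1 := ha (a⁻¹ v)
    rw [← LinearEquiv.mul_apply, mul_inv_cancel, add_comm] at h1
    exact h1

omit [Finite V] in
theorem movers_mono {W W' : Submodule (ZMod 2) V} (h : W ≤ W') : movers W ≤ movers W' :=
  fun _ hg v => h (hg v)

omit [Finite V] in
theorem movers_maps {W : Submodule (ZMod 2) V} {g : V ≃ₗ[ZMod 2] V} (hg : g ∈ movers W) {w : V} (hw : w ∈ W) :
    g w ∈ W := by
  have := W.add_mem (hg w) hw
  rwa [add_assoc, add_self', add_zero] at this

/-- Restriction to `W`. -/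
noncomputable def restr (W : Submodule (ZMod 2) V) : movers W →* (W ≃ₗ[ZMod 2] W) where
  toFun g := LinearEquiv.ofLinear
    ((g.1 : V →ₗ[ZMod 2] V).restrict fun _ hw => movers_maps g.2 hw)
    ((g.1⁻¹ : V ≃ₗ[ZMod 2] V).toLinearMap.restrict fun _ hw => movers_maps (inv_mem g.2) hw)
    (by ext w; exact LinearEquiv.apply_symm_apply g.1 w.1)
    (by ext w; exact LinearEquiv.symm_apply_apply g.1 w.1)
  map_one' := by ext w; rfl
  map_mul' a b := by ext w; rfl

/-- An odd order subgroup of movers embeds. -/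
theorem card_dvd_of_le_movers (W : Submodule (ZMod 2) V) (R : Subgroup (V ≃ₗ[ZMod 2] V)) (hR : R ≤ movers W)
    (hodd : Odd (Nat.card R)) : Nat.card R ∣ Nat.card (W ≃ₗ[ZMod 2] W) := by
  haveI : Finite (W ≃ₗ[ZMod 2] W) := Finite.of_injective _ DFunLike.coe_injective
  refine Subgroup.card_dvd_of_injective ((restr W).comp (Subgroup.inclusion hR)) ?_
  rw [injective_iff_map_eq_one]
  intro r hr
  have hfix : ∀ w ∈ W, r.1 w = w := fun w hw =>
    congrArg Subtype.val (LinearEquiv.congr_fun hr ⟨w, hw⟩)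
  have hsq : r ^ 2 = 1 := by
    refine Subtype.ext (LinearEquiv.ext fun v => ?_)
    rw [Subgroup.coe_pow, sq, LinearEquiv.mul_apply]
    have hm := hfix _ (hR r.2 v)
    rw [map_add] at hm
    exact add_right_cancel (hm.trans (add_comm _ _))
  have h2 := (orderOf_dvd_of_pow_eq_one hsq)
  have h3 := orderOf_dvd_natCard r
  obtain ⟨k, hk⟩ := hodd
  rw [← orderOf_eq_one_iff]
  rcases (Nat.dvd_prime Nat.prime_two).mp h2 with h | h
  · exact h
  · rw [h, hk] at h3
    omega

/-- The key bound. -/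
theorem same_cyclic (F : Subgroup (V ≃ₗ[ZMod 2] V)) (hFn : Group.IsNilpotent F) (hodd : Odd (Nat.card F))
    (L L₁ L₂ : Submodule (ZMod 2) V) (hL : Module.finrank (ZMod 2) L = 1) (hL₁ : Module.finrank (ZMod 2) L₁ = 1)
    (hL₂ : Module.finrank (ZMod 2) L₂ = 1) (y y' : V ≃ₗ[ZMod 2] V) (hy : y ∈ F) (hy' : y' ∈ F)
    (hy1 : y ∈ movers (L ⊔ L₁)) (hy2 : y' ∈ movers (L ⊔ L₂)) (hne : y ≠ 1) : y' ∈ zpowers y := by
  classical
  haveI : Fact (Nat.Prime 3) := ⟨Nat.prime_three⟩
  haveI : Finite (V ≃ₗ[ZMod 2] V) := Finite.of_injective _ DFunLike.coe_injective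
  have cube : ∀ (z : V ≃ₗ[ZMod 2] V) (L' : Submodule (ZMod 2) V), Module.finrank (ZMod 2) L' = 1 → z ∈ F →
      z ∈ movers (L ⊔ L') → z ^ 3 = 1 := by
    intro z L' hL' hz hzm
    have hd : Module.finrank (ZMod 2) (L ⊔ L' : Submodule (ZMod 2) V) ≤ 2 := by
      have := Submodule.finrank_add_le_finrank_add_finrank L L'
      omega
    have hod : Odd (Nat.card (zpowers z)) := hodd.of_dvd_nat (card_dvd_of_le (zpowers_le.mpr hz))
    have h6 := (card_dvd_of_le_movers _ _ (zpowers_le.mpr hzm) hod).trans ((card_aut_dvd _ (by omega)).2 hd)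
    rw [Nat.card_zpowers] at h6 hod
    have h3 : orderOf z ∣ 3 := by
      have hco : Nat.Coprime (orderOf z) 2 := (Nat.coprime_two_right).mpr hod
      exact hco.dvd_of_dvd_mul_left (show orderOf z ∣ 2 * 3 from h6)
    exact orderOf_dvd_iff_pow_eq_one.mp h3
  have hc := cube y L₁ hL₁ hy hy1
  have hc' := cube y' L₂ hL₂ hy' hy2
  set R := closure ({y, y'} : Set (V ≃ₗ[ZMod 2] V)) with hR
  have hRF : R ≤ F := by
    rw [hR, closure_le]; rintro g (rfl | rfl) <;> assumption
  haveI := hFn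
  haveI : Group.IsNilpotent R := Group.nilpotent_of_mulEquiv (subgroupOfEquivOfLe hRF)
  have hRW : R ≤ movers (L ⊔ L₁ ⊔ L₂) := by
    rw [hR, closure_le]
    rintro g (rfl | rfl)
    · exact movers_mono le_sup_left hy1
    · exact movers_mono (sup_le (le_sup_left.trans le_sup_left) le_sup_right) hy2
  have hd : Module.finrank (ZMod 2) (L ⊔ L₁ ⊔ L₂ : Submodule (ZMod 2) V) ≤ 3 := by
    have h1 := Submodule.finrank_add_le_finrank_add_finrank L L₁
    have h2 := Submodule.finrank_add_le_finrank_add_finrank (L ⊔ L₁) L₂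
    omega
  have hR168 := (card_dvd_of_le_movers _ R hRW (hodd.of_dvd_nat (card_dvd_of_le hRF))).trans (card_aut_dvd _ hd).1
  -- `R` is a `3`-group
  set P : Sylow 3 R := default with hP
  have hPn : (P : Subgroup R).Normal :=
    ((Group.isNilpotent_of_finite_tfae (G := R)).out 0 3 rfl rfl).mp inferInstance 3 inferInstance P
  letI := Sylow.unique_of_normal P hPn
  have hmem : ∀ g : R, g ^ 3 = 1 → g ∈ (P : Subgroup R) := by
    intro g hg
    have hpg : IsPGroup 3 (zpowers g) := fun x => ⟨1, Subtype.ext (by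
      obtain ⟨i, hi⟩ := mem_zpowers_iff.mp x.2
      rw [pow_one, Subgroup.coe_pow, ← hi, ← zpow_natCast, ← zpow_mul, mul_comm, zpow_mul, zpow_natCast, hg,
        one_zpow, Subgroup.coe_one])⟩
    obtain ⟨Q, hQ⟩ := hpg.exists_le_sylow
    rw [Subsingleton.elim P Q]
    exact hQ (mem_zpowers g)
  have htop : (P : Subgroup R) = ⊤ := by
    have h1 : ∀ g : V ≃ₗ[ZMod 2] V, ∀ hg : g ∈ R, (⟨g, hg⟩ : R) ∈ (P : Subgroup R) := by
      intro g hg
      induction hg using closure_induction with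
      | mem g hg =>
        refine hmem _ (Subtype.ext ?_)
        rcases hg with rfl | rfl <;> simpa
      | one => exact one_mem _
      | mul a b ha hb iha ihb => exact mul_mem iha ihb
      | inv a ha iha => exact inv_mem iha
    exact eq_top_iff.mpr fun g _ => h1 g.1 g.2
  obtain ⟨k, hk⟩ := IsPGroup.iff_card.mp P.isPGroup'
  rw [htop, card_top] at hk
  have hk1 : k ≤ 1 := by
    rw [hk] at hR168
    by_contra hlt
    have : 3 ^ 2 ∣ 168 := (pow_dvd_pow 3 (by omega)).trans hR168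
    norm_num at this
  have hy3 : orderOf y = 3 := orderOf_eq_prime hc hne
  have : zpowers y = R := eq_of_le_of_card_ge (zpowers_le.mpr (subset_closure (by simp))) (by
    rw [hk, Nat.card_zpowers, hy3]
    exact (Nat.pow_le_pow_right (by norm_num : 0 < 3) hk1).trans (by norm_num))
  rw [this]; exact subset_closure (by simp)

theorem main (S : Subgroup (V ≃ₗ[ZMod 2] V)) (hS : Group.IsSolvable ↥S) (hO2 : Cfsg.pCore 2 ↥S = ⊥)
    (P : V ≃ₗ[ZMod 2] V) (hPS : P ∈ S) (hP4 : orderOf P = 4) (L : Submodule (ZMod 2) V)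
    (hL : Module.finrank (ZMod 2) L = 1) (hPL : P ^ 2 ∈ movers L) : False := by
  classical
  haveI : Finite (V ≃ₗ[ZMod 2] V) := Finite.of_injective _ DFunLike.coe_injective
  haveI : Fact (Nat.Prime 2) := ⟨Nat.prime_two⟩
  set T := P ^ 2 with hT
  have hT2 : T * T = 1 := by rw [hT, ← pow_add, show 2 + 2 = 4 from rfl, ← hP4, pow_orderOf_eq_one]
  have hT1 : T ≠ 1 := by
    intro h
    have := Nat.le_of_dvd two_pos (orderOf_dvd_of_pow_eq_one h)
    omega
  have hTi : T⁻¹ = T := inv_eq_of_mul_eq_one_left hT2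
  set FS := Cfsg.fittingSubgroup S with hFS
  set F := FS.map S.subtype with hF
  haveI : FS.Normal := Cfsg.Lib.Core.fittingSubgroup_normal' _
  have hFn : Group.IsNilpotent F := by
    haveI : Group.IsNilpotent FS := Cfsg.Lib.Core.fittingSubgroup_isNilpotent S
    exact Group.nilpotent_of_mulEquiv (FS.equivMapOfInjective _ S.subtype_injective)
  have hodd : Odd (Nat.card F) := by
    rw [hF, card_map_of_injective S.subtype_injective, Nat.odd_iff, ← Nat.two_dvd_ne_zero]
    exact Cfsg.Lib.Local.FStarAction.not_dvd_card_fitting hO2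
  have hTS : T ∈ S := hT ▸ pow_mem hPS 2
  have hFnorm : ∀ g ∈ S, ∀ f ∈ F, g * f * g⁻¹ ∈ F := by
    rintro g hg _ ⟨f, hf, rfl⟩
    exact ⟨⟨g, hg⟩ * f * ⟨g, hg⟩⁻¹, (inferInstance : FS.Normal).conj_mem f hf _, rfl⟩
  have hyF : ∀ x ∈ F, ⁅T, x⁆ ∈ F := fun x hx => by
    rw [commutatorElement_def]
    exact mul_mem (hFnorm T hTS x hx) (inv_mem hx)
  have hmov : ∀ x : V ≃ₗ[ZMod 2] V, ⁅T, x⁆ ∈ movers (L ⊔ L.map (x : V →ₗ[ZMod 2] V)) := by
    intro x
    rw [commutatorElement_def, mul_assoc T x, mul_assoc T]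
    refine mul_mem (movers_mono le_sup_left hPL) (movers_mono le_sup_right ?_)
    intro v
    refine ⟨T⁻¹ (x⁻¹ v) + x⁻¹ v, (movers L).inv_mem hPL (x⁻¹ v), ?_⟩
    show x (T⁻¹ (x⁻¹ v) + x⁻¹ v) = x (T⁻¹ (x⁻¹ v)) + v
    rw [map_add, ← LinearEquiv.mul_apply x x⁻¹, mul_inv_cancel]
    rfl
  have hrank : ∀ x : V ≃ₗ[ZMod 2] V, Module.finrank (ZMod 2) (L.map (x : V →ₗ[ZMod 2] V)) = 1 := fun x => by
    rw [LinearEquiv.finrank_map_eq]; exact hL
  have hinv : ∀ x : V ≃ₗ[ZMod 2] V, T * ⁅T, x⁆ * T⁻¹ = ⁅T, x⁆⁻¹ := fun x => by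
    rw [commutatorElement_def]
    calc T * (T * x * T⁻¹ * x⁻¹) * T⁻¹ = (T * T) * x * T⁻¹ * x⁻¹ * T⁻¹ := by group
      _ = x * T * x⁻¹ * T⁻¹ := by rw [hT2, one_mul, hTi]
      _ = _ := by group
  obtain ⟨x, hx, hxne⟩ : ∃ x ∈ F, ⁅T, x⁆ ≠ 1 := by
    by_contra! hall
    have hc : (⟨T, hTS⟩ : S) ∈ centralizer (FS : Set S) := by
      rw [mem_centralizer_iff]
      intro f hf
      exact Subtype.ext ((commutatorElement_eq_one_iff_mul_comm.mp (hall _ (mem_map_of_mem S.subtype hf))).symm)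
    haveI := hS
    have hmem : T ∈ F := mem_map_of_mem S.subtype (Cfsg.Lib.Core.centralizer_fitting_le_of_isSolvable hc)
    have hd := Subgroup.orderOf_dvd_natCard F hmem
    rw [orderOf_eq_prime (p := 2) (by rw [sq, hT2]) hT1] at hd
    exact (Nat.not_even_iff_odd.mpr hodd) (even_iff_two_dvd.mpr hd)
  set y := ⁅T, x⁆ with hy
  set x' := P * x * P⁻¹ with hx'
  have hy' : P * y * P⁻¹ = ⁅T, x'⁆ := by
    have hPT : P * T * P⁻¹ = T := by rw [hT]; group
    have : P * y * P⁻¹ = ⁅P * T * P⁻¹, x'⁆ := by rw [hy, hx']; simp only [commutatorElement_def]; group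
    rw [this, hPT]
  have hx'F : x' ∈ F := hFnorm P hPS x hx
  have hmem := same_cyclic F hFn hodd L _ _ hL (hrank x) (hrank x') y ⁅T, x'⁆ (hyF x hx) (hyF x' hx'F) (hmov x) (hmov x') hxne
  rw [← hy'] at hmem
  have hy3 : y ^ 3 = 1 := by
    have hd := Submodule.finrank_add_le_finrank_add_finrank L (L.map (x : V →ₗ[ZMod 2] V))
    have hod : Odd (Nat.card (zpowers y)) := hodd.of_dvd_nat (card_dvd_of_le (zpowers_le.mpr (hyF x hx)))
    have h6 := (card_dvd_of_le_movers _ _ (zpowers_le.mpr (hmov x)) hod).trans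
      ((card_aut_dvd _ (by have := hrank x; omega)).2 (by have := hrank x; omega))
    rw [Nat.card_zpowers] at h6 hod
    exact orderOf_dvd_iff_pow_eq_one.mp
      ((Nat.coprime_two_right.mpr hod).dvd_of_dvd_mul_left (show orderOf y ∣ 2 * 3 from h6))
  obtain ⟨i, hi⟩ := mem_zpowers_iff.mp hmem
  have hii : T * y * T⁻¹ = y ^ (i * i) := by
    rw [hT]
    calc P ^ 2 * y * (P ^ 2)⁻¹ = P * (P * y * P⁻¹) * P⁻¹ := by rw [sq]; group
      _ = P * y ^ i * P⁻¹ := by rw [hi]
      _ = (P * y * P⁻¹) ^ i := conj_zpow.symm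
      _ = _ := by rw [← hi, zpow_mul]
  rw [hinv x, ← hy, ← zpow_neg_one, Cfsg.Lib.TwoGroup.zpow_eq_iff_dvd, orderOf_eq_prime hy3 hxne] at hii
  rcases (show i % 3 = 0 ∨ i % 3 = 1 ∨ i % 3 = 2 by omega) with h | h | h <;>
    [obtain ⟨t, rfl⟩ : ∃ t, i = 3 * t := ⟨i / 3, by omega⟩;
     obtain ⟨t, rfl⟩ : ∃ t, i = 3 * t + 1 := ⟨i / 3, by omega⟩;
     obtain ⟨t, rfl⟩ : ∃ t, i = 3 * t + 2 := ⟨i / 3, by omega⟩] <;>
    push_cast at hii
  · rw [show -1 - 3 * t * (3 * t) = 3 * (-3 * t * t) - 1 by ring] at hii; omega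
  · rw [show -1 - (3 * t + 1) * (3 * t + 1) = 3 * (-3 * t * t - 2 * t) - 2 by ring] at hii; omega
  · rw [show -1 - (3 * t + 2) * (3 * t + 2) = 3 * (-3 * t * t - 4 * t - 1) - 2 by ring] at hii; omega

/-- Let V be a finite-dimensional vector space over the field with two elements and S a solvable group of linear automorphisms of V with O₂(S) = 1. If P ∈ S has order 4 and (P − 1)³ = 0 on V, then the image of (P − 1)² has at least 4 elements; equivalently, in the decomposition of V into indecomposable modules for the cyclic group generated by P, at least two summands have dimension 3. -/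
theorem result
    {V : Type*} [AddCommGroup V] [Module (ZMod 2) V] [Finite V]
    (S : Subgroup (V ≃ₗ[ZMod 2] V)) (hS : Group.IsSolvable ↥S) (hO2 : Cfsg.pCore 2 ↥S = ⊥)
    (P : V ≃ₗ[ZMod 2] V) (hPS : P ∈ S) (hP4 : orderOf P = 4)
    (hcub : ((P : V →ₗ[ZMod 2] V) - LinearMap.id) ^ 3 = 0) :
    4 ≤ Nat.card ↥(LinearMap.range (((P : V →ₗ[ZMod 2] V) - LinearMap.id) ^ 2)) := by
  classical
  set f := (P : V →ₗ[ZMod 2] V) - LinearMap.id with hf
  have hrange : ∀ v, (P ^ 2) v + v = (f ^ 2) v := by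
    intro v
    have h2 : ∀ w : V, f w = P w + w := fun w => by
      show P w - w = _
      exact sub_eq_add' _ _
    rw [pow_two f, Module.End.mul_apply, h2, h2, map_add, sq, LinearEquiv.mul_apply]
    calc P (P v) + v = P (P v) + (P v + P v) + v := by rw [add_self', add_zero]
      _ = _ := by abel
  set L := LinearMap.range (f ^ 2) with hLdef
  haveI : Fact (Nat.Prime 2) := ⟨Nat.prime_two⟩
  by_contra hlt
  have hcard : Nat.card L = 2 ^ Module.finrank (ZMod 2) L := by
    rw [Module.natCard_eq_pow_finrank (K := ZMod 2), Nat.card_zmod]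
  have hne : Module.finrank (ZMod 2) L ≠ 0 := by
    intro h0
    rw [Submodule.finrank_eq_zero] at h0
    have hP2 : P ^ 2 = 1 := LinearEquiv.ext fun v => by
      have : (f ^ 2) v ∈ L := LinearMap.mem_range_self _ v
      rw [h0, Submodule.mem_bot, ← hrange] at this
      rw [← sub_eq_zero, sub_eq_add']
      exact this
    have := Nat.le_of_dvd two_pos (orderOf_dvd_of_pow_eq_one hP2)
    omega
  have h1 : Module.finrank (ZMod 2) L = 1 := by
    by_contra h
    apply hlt
    rw [hcard]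
    exact (Nat.pow_le_pow_right two_pos (show 2 ≤ Module.finrank (ZMod 2) L by omega)).trans_eq' (by norm_num)
  exact main S hS hO2 P hPS hP4 L h1 fun v => by rw [hrange]; exact LinearMap.mem_range_self _ v

end Cfsg.Agent.S4410
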