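import Cfsg.Statements.S4412
import Mathlib
import Cfsg.Agent.Lib.Coprime.Generation
import Cfsg.Agent.Lib.Core.Basic

set_option linter.style.haveILetI false

set_option autoImplicit false
open Cfsg

namespace Cfsg.Agent.S4412

variable {P : Type*} [Group P]

/-- Fixed points of an automorphism. -/
def fx (T : MulAut P) : Subgroup P := (T.toMonoidHom).eqLocus (MonoidHom.id P)

theorem mem_fx {T : MulAut P} {x : P} : x ∈ fx T ↔ T x = x := Iff.rfl

theorem fx_eq_zpowers {T : MulAut P} {g : P} (h : ∀ x : P, (T x = x ↔ x ∈ Subgroup.zpowers g)) :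
    fx T = Subgroup.zpowers g := Subgroup.ext h

theorem generation [Finite P] (K : Subgroup (MulAut P)) [IsMulCommutative K] (hK : ¬ IsCyclic K)
    (hcop : (Nat.card K).Coprime (Nat.card P)) (D : Subgroup P) (hD : ∀ a ∈ K, ∀ x ∈ D, a x ∈ D) :
    D ≤ ⨆ a : {a : MulAut P // a ∈ K ∧ a ≠ 1}, D ⊓ fx (a : MulAut P) := by
  classical
  let X := P ⋊[MonoidHom.id (MulAut P)] (MulAut P)
  haveI : Finite (MulAut P) := Finite.of_injective (fun e : MulAut P => (e : P → P)) (DFunLike.coe_injective)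
  haveI : Finite X := Finite.of_equiv (P × MulAut P) SemidirectProduct.equivProd.symm
  let iP : P →* X := SemidirectProduct.inl
  let iA : MulAut P →* X := SemidirectProduct.inr
  have hiP : Function.Injective iP := SemidirectProduct.inl_injective
  have hiA : Function.Injective iA := SemidirectProduct.inr_injective
  let eA := Subgroup.equivMapOfInjective K iA hiA
  haveI : IsMulCommutative ↥(K.map iA) := ⟨⟨fun a b => by
    apply eA.symm.injective
    rw [map_mul, map_mul, mul_comm']⟩⟩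
  have hnc : ¬ IsCyclic ↥(K.map iA) := fun h =>
    hK (isCyclic_of_surjective eA.symm.toMonoidHom eA.symm.surjective)
  have hconj : ∀ (a : MulAut P) (x : P), iA a * iP x * (iA a)⁻¹ = iP (a x) := by
    intro a x
    show SemidirectProduct.inr a * SemidirectProduct.inl x * (SemidirectProduct.inr a)⁻¹ = SemidirectProduct.inl (a x)
    rw [← map_inv]
    exact (SemidirectProduct.inl_aut (φ := MonoidHom.id (MulAut P)) a x).symm
  have hAG : K.map iA ≤ Subgroup.normalizer ((D.map iP : Subgroup X) : Set X) := by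
    rintro _ ⟨a, ha, rfl⟩
    rw [Subgroup.mem_normalizer_iff_map_conj_eq]
    refine Subgroup.eq_of_le_of_card_ge ?_ (Subgroup.card_map_of_injective (MulAut.conj _).injective).ge
    rintro _ ⟨_, ⟨x, hx, rfl⟩, rfl⟩
    exact ⟨a x, hD a ha x hx, (hconj a x).symm⟩
  have hc : (Nat.card ↥(K.map iA)).Coprime (Nat.card ↥(D.map iP)) := by
    rw [Subgroup.card_map_of_injective hiA, Subgroup.card_map_of_injective hiP]
    exact hcop.coprime_dvd_right (Subgroup.card_subgroup_dvd_card D)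
  have h := Cfsg.Lib.Coprime.le_iSup_centralizer_of_not_isCyclic hnc hAG hc
  have h2 : D.map iP ≤ (⨆ a : {a : MulAut P // a ∈ K ∧ a ≠ 1}, D ⊓ fx (a : MulAut P)).map iP := by
    refine h.trans (iSup_le fun b => ?_)
    obtain ⟨a, ha, hab⟩ := b.2.1
    have ha1 : a ≠ 1 := fun h => b.2.2 (by rw [← hab, h, map_one])
    rintro _ ⟨⟨x, hx, rfl⟩, hy⟩
    refine ⟨x, Subgroup.mem_iSup_of_mem (⟨a, ha, ha1⟩ : {a : MulAut P // a ∈ K ∧ a ≠ 1}) ⟨hx, ?_⟩, rfl⟩
    have hy' := Subgroup.mem_centralizer_singleton_iff.1 hy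
    refine hiP ?_
    show iP (a x) = iP x
    rw [← hconj a x, hab, ← hy', mul_inv_cancel_right]
  exact (Subgroup.map_le_map_iff_of_injective hiP).1 h2

theorem cyclic_invol [Finite P] {p : ℕ} [Fact p.Prime] (hp2 : p ≠ 2) (hP : IsPGroup p P) (a : MulAut P)
    {g : P} (hag : a g ∈ Subgroup.zpowers g) (ha : a (a g) = g) : a g = g ∨ a g = g⁻¹ := by
  obtain ⟨k, hk⟩ := hag
  have hk' : g ^ k = a g := hk
  have h1 : g ^ (k * k - 1) = 1 := by
    rw [zpow_sub, zpow_one, zpow_mul, hk', ← map_zpow, hk', ha, mul_inv_cancel]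
  obtain ⟨e, he⟩ := hP g
  obtain ⟨i, -, hi⟩ := (Nat.dvd_prime_pow Fact.out).1 (orderOf_dvd_of_pow_eq_one he)
  have hd : ((p : ℤ) ^ i) ∣ (k - 1) * (k + 1) := by
    have := orderOf_dvd_iff_zpow_eq_one.2 h1
    rw [hi] at this
    rw [show (k - 1) * (k + 1) = k * k - 1 by ring]
    exact_mod_cast this
  have hpz : Prime (p : ℤ) := Nat.prime_iff_prime_int.1 Fact.out
  have hor : ¬ ((p : ℤ) ∣ k - 1 ∧ (p : ℤ) ∣ k + 1) := by
    rintro ⟨u, v⟩
    have h2 : (p : ℤ) ∣ 2 := by simpa [show (k + 1) - (k - 1) = 2 by ring] using dvd_sub v u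
    have := Int.le_of_dvd (by norm_num) h2
    have := (Fact.out : p.Prime).two_le
    omega
  by_cases hm : (p : ℤ) ∣ k - 1
  · left
    have := hpz.pow_dvd_of_dvd_mul_right i (fun h => hor ⟨hm, h⟩) hd
    rw [← hk', ← sub_add_cancel k 1, zpow_add, zpow_one,
      orderOf_dvd_iff_zpow_eq_one.1 (by rw [hi]; exact_mod_cast this), one_mul]
  · right
    have := hpz.pow_dvd_of_dvd_mul_left i hm hd
    rw [← hk', show k = (k + 1) + (-1) by ring, zpow_add,
      orderOf_dvd_iff_zpow_eq_one.1 (by rw [hi]; exact_mod_cast this), one_mul, zpow_neg_one]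

theorem eq_one_of_eq_inv [Finite P] {p : ℕ} [Fact p.Prime] (hp2 : p ≠ 2) (hP : IsPGroup p P) {g : P}
    (h : g = g⁻¹) : g = 1 := by
  have h2 : g ^ 2 = 1 := by rw [pow_two]; nth_rewrite 2 [h]; exact mul_inv_cancel g
  obtain ⟨e, he⟩ := hP g
  have hc : Nat.Coprime 2 (p ^ e) :=
    ((Nat.coprime_primes Nat.prime_two Fact.out).2 (fun h => hp2 h.symm)).pow_right e
  rw [← pow_one g, ← hc.gcd_eq_one]
  exact pow_gcd_eq_one.2 ⟨h2, he⟩

/-- Let p be an odd prime, P a finite p-group and I an elementary abelian subgroup of order 8 of Aut(P). Call T ∈ I, T ≠ 1, broad when its fixed-point subgroup C_P(T) is not cyclic. Suppose I has a proper subgroup I₀ containing no broad element such that the product of any two broad elements lies in I₀. Then P is abelian of rank exactly 3 (generated by three elements but not by two), there are exactly three broad elements and they generate I, and I₀ is exactly the set of products of two broad elements. -/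
theorem result
    {P : Type*} [Group P] [Finite P] (p : ℕ) (hp : p.Prime) (hp2 : p ≠ 2) (hP : IsPGroup p P)
    (I : Subgroup (MulAut P)) (hI : Cfsg.IsElementaryAbelian 2 I) (hI8 : Nat.card ↥I = 8)
    (I₀ : Subgroup (MulAut P)) (hI₀ : I₀ < I)
    (hdisj : ∀ T ∈ I₀, T ≠ 1 → ∃ g : P, ∀ x : P, (T x = x ↔ x ∈ Subgroup.zpowers g))
    (hprod : ∀ T ∈ I, ∀ T' ∈ I, T ≠ 1 → T' ≠ 1 → (¬ ∃ g : P, ∀ x : P, (T x = x ↔ x ∈ Subgroup.zpowers g)) →
      (¬ ∃ g : P, ∀ x : P, (T' x = x ↔ x ∈ Subgroup.zpowers g)) → T * T' ∈ I₀) :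
    IsMulCommutative P ∧ (∃ a b c : P, Subgroup.closure {a, b, c} = ⊤) ∧ (¬ ∃ a b : P, Subgroup.closure {a, b} = ⊤) ∧
      Nat.card {T : MulAut P // T ∈ I ∧ T ≠ 1 ∧ ¬ ∃ g : P, ∀ x : P, (T x = x ↔ x ∈ Subgroup.zpowers g)} = 3 ∧
      Subgroup.closure {T : MulAut P | T ∈ I ∧ T ≠ 1 ∧ ¬ ∃ g : P, ∀ x : P, (T x = x ↔ x ∈ Subgroup.zpowers g)} = I ∧
      (I₀ : Set (MulAut P)) = {S : MulAut P | ∃ T T' : MulAut P, T ∈ I ∧ T' ∈ I ∧ T ≠ 1 ∧ T' ≠ 1 ∧
        (¬ ∃ g : P, ∀ x : P, (T x = x ↔ x ∈ Subgroup.zpowers g)) ∧ (¬ ∃ g : P, ∀ x : P, (T' x = x ↔ x ∈ Subgroup.zpowers g)) ∧ S = T * T'} := by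
  classical
  haveI := Fact.mk hp
  obtain ⟨hIc, hI2⟩ := hI
  haveI := hIc
  have hIcomm : ∀ a ∈ I, ∀ b ∈ I, a * b = b * a := fun a ha b hb =>
    congrArg Subtype.val (mul_comm' (⟨a, ha⟩ : I) ⟨b, hb⟩)
  haveI : Finite (MulAut P) := Finite.of_injective (fun e : MulAut P => (e : P → P)) (DFunLike.coe_injective)
  set broad : MulAut P → Prop := fun T => ¬ ∃ g : P, ∀ x : P, (T x = x ↔ x ∈ Subgroup.zpowers g) with hbr
  have hb0 : ∀ T ∈ I₀, T ≠ 1 → ¬ broad T := fun T hT hT1 h => h (hdisj T hT hT1)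
  have hI₀card : Nat.card I₀ = 4 ∨ Nat.card I₀ ≤ 2 := by
    have h1 := Subgroup.card_dvd_of_le hI₀.le
    rw [hI8] at h1
    have h2 : Nat.card I₀ ≠ 8 := fun h => hI₀.ne (Subgroup.eq_of_le_of_card_ge hI₀.le (by rw [h, hI8]))
    have := (Nat.dvd_prime_pow Nat.prime_two).1 (show Nat.card I₀ ∣ 2 ^ 3 from h1)
    obtain ⟨i, hi, he⟩ := this
    interval_cases i <;> omega
  -- a four-group without broad elements
  obtain ⟨u, v, hu, hv, hu1, hv1, huv, hbu, hbv, hbuv⟩ : ∃ u v : MulAut P, u ∈ I ∧ v ∈ I ∧ u ≠ 1 ∧ v ≠ 1 ∧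
      u ≠ v ∧ ¬ broad u ∧ ¬ broad v ∧ ¬ broad (u * v) := by
    have hinv : ∀ a ∈ I, a⁻¹ = a := fun a ha => inv_eq_of_mul_eq_one_right (by rw [← pow_two]; exact hI2 a ha)
    rcases hI₀card with h4 | h2
    · obtain ⟨u, hu, hu1⟩ := I₀.bot_or_exists_ne_one.resolve_left (fun h => by rw [h] at h4; simp at h4)
      obtain ⟨v, hv, hv1, huv⟩ : ∃ v ∈ I₀, v ≠ 1 ∧ v ≠ u := by
        by_contra h
        push Not at h
        have hsub : (I₀ : Set (MulAut P)) ⊆ ↑({1, u} : Finset (MulAut P)) := by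
          intro x hx
          simp only [Finset.coe_insert, Finset.coe_singleton, Set.mem_insert_iff, Set.mem_singleton_iff]
          by_cases h1 : x = 1
          · exact Or.inl h1
          · exact Or.inr (h x hx h1)
        have := Set.ncard_le_ncard hsub
        rw [Set.ncard_coe_finset, ← Nat.card_coe_set_eq] at this
        have h5 := Finset.card_le_two (a := (1 : MulAut P)) (b := u)
        rw [SetLike.coe_sort_coe, h4] at this
        omega
      refine ⟨u, v, hI₀.le hu, hI₀.le hv, hu1, hv1, huv.symm, hb0 u hu hu1, hb0 v hv hv1,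
        hb0 _ (I₀.mul_mem hu hv) fun h => huv ?_⟩
      rw [← hinv u (hI₀.le hu)]
      exact (inv_eq_of_mul_eq_one_right h).symm
    · let Is : Finset (MulAut P) := (Set.toFinite (I : Set (MulAut P))).toFinset
      let B := Is.filter (fun T => T ≠ 1 ∧ broad T)
      have hIs : ∀ a, a ∈ Is ↔ a ∈ I := fun a => by simp [Is]
      have hIscard : Is.card = 8 := by
        rw [← hI8, ← Set.ncard_eq_toFinset_card, ← Nat.card_coe_set_eq]; rfl
      have hB : B.card ≤ 2 := by
        rcases B.eq_empty_or_nonempty with h | ⟨T, hT⟩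
        · rw [h]; simp
        obtain ⟨hT0, hT1, hTb⟩ := Finset.mem_filter.1 hT
        calc B.card ≤ ((Set.toFinite (I₀ : Set (MulAut P))).toFinset.image (fun x => T⁻¹ * x)).card := by
              refine Finset.card_le_card fun S hS => Finset.mem_image.2 ⟨T * S, ?_, by group⟩
              obtain ⟨hS0, hS1, hSb⟩ := Finset.mem_filter.1 hS
              simpa using hprod T ((hIs T).1 hT0) S ((hIs S).1 hS0) hT1 hS1 hTb hSb
          _ ≤ (Set.toFinite (I₀ : Set (MulAut P))).toFinset.card := Finset.card_image_le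
          _ ≤ 2 := by
              rw [← Set.ncard_eq_toFinset_card, ← Nat.card_coe_set_eq]
              exact h2
      obtain ⟨u, hu, hu'⟩ : ∃ u ∈ Is, u ∉ insert 1 B := Finset.exists_mem_notMem_of_card_lt_card
        (lt_of_le_of_lt (Finset.card_insert_le _ _) (by omega))
      obtain ⟨v, hv, hv'⟩ : ∃ v ∈ Is, v ∉ ({1, u} : Finset (MulAut P)) ∪ B ∪ B.image (fun x => u * x) := by
        refine Finset.exists_mem_notMem_of_card_lt_card ?_
        have := Finset.card_union_le (({1, u} : Finset (MulAut P)) ∪ B) (B.image (fun x => u * x))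
        have := Finset.card_union_le ({1, u} : Finset (MulAut P)) B
        have := Finset.card_le_two (a := (1 : MulAut P)) (b := u)
        have := Finset.card_image_le (s := B) (f := fun x => u * x)
        omega
      simp only [Finset.mem_insert, not_or] at hu'
      simp only [Finset.mem_union, Finset.mem_insert, Finset.mem_singleton, Finset.mem_image, not_or] at hv'
      have hnotB : ∀ a, a ∈ I → a ≠ 1 → a ∉ B → ¬ broad a := fun a ha ha1 hn h =>
        hn (Finset.mem_filter.2 ⟨(hIs a).2 ha, ha1, h⟩)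
      have huI := (hIs u).1 hu
      have hvI := (hIs v).1 hv
      refine ⟨u, v, huI, hvI, hu'.1, hv'.1.1.1, Ne.symm hv'.1.1.2, hnotB u huI hu'.1 hu'.2,
        hnotB v hvI hv'.1.1.1 hv'.1.2, hnotB _ (I.mul_mem huI hvI) (fun h => hv'.1.1.2 ?_) fun h => hv'.2 ⟨_, h, ?_⟩⟩
      · rw [← hinv u huI]; exact (inv_eq_of_mul_eq_one_right h).symm
      · have : u * u = 1 := by rw [← pow_two]; exact hI2 u huI
        rw [← mul_assoc, this, one_mul]
  simp only [hbr, not_not] at hbu hbv hbuv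
  obtain ⟨g₁, hg₁⟩ := hbu
  obtain ⟨g₂, hg₂⟩ := hbv
  obtain ⟨g₃, hg₃⟩ := hbuv
  set W := Subgroup.closure ({u, v} : Set (MulAut P)) with hW
  have hWI : W ≤ I := (Subgroup.closure_le _).2 (by
    rintro x (rfl | rfl) <;> assumption)
  have huu : u * u = 1 := by rw [← pow_two]; exact hI2 u hu
  have hvv : v * v = 1 := by rw [← pow_two]; exact hI2 v hv
  have hWmem : ∀ a ∈ W, a = 1 ∨ a = u ∨ a = v ∨ a = u * v := by
    intro a ha
    induction ha using Subgroup.closure_induction with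
    | mem x hx => rcases hx with rfl | rfl <;> tauto
    | one => tauto
    | mul x y _ _ hx hy =>
      have c := hIcomm u hu v hv
      have e1 : v * (u * v) = u := by rw [c, ← mul_assoc, hvv, one_mul]
      have e2 : u * (u * v) = v := by rw [← mul_assoc, huu, one_mul]
      rcases hx with rfl | rfl | rfl | rfl <;> rcases hy with rfl | rfl | rfl | rfl <;>
        simp [huu, hvv, e1, e2, mul_assoc, ← c]
    | inv x hx' hx =>
      have : x⁻¹ = x := inv_eq_of_mul_eq_one_right (by rw [← pow_two]; exact hI2 x (hWI hx'))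
      rw [this]; exact hx
  haveI : IsMulCommutative W := ⟨⟨fun a b => Subtype.ext (hIcomm a (hWI a.2) b (hWI b.2))⟩⟩
  have hWnc : ¬ IsCyclic W := by
    intro h
    obtain ⟨⟨g, hg⟩, hgen⟩ := h.exists_generator
    have hcases : ∀ x ∈ W, x = 1 ∨ x = g := by
      intro x hx
      obtain ⟨k, hk⟩ := hgen ⟨x, hx⟩
      have hk' : g ^ k = x := congrArg Subtype.val hk
      have hg2 : g ^ (2 : ℤ) = 1 := by exact_mod_cast hI2 g (hWI hg)
      rcases Int.even_or_odd k with ⟨l, rfl⟩ | ⟨l, rfl⟩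
      · left; rw [← hk', show l + l = 2 * l by ring, zpow_mul, hg2, one_zpow]
      · right; rw [← hk', zpow_add_one, zpow_mul, hg2, one_zpow, one_mul]
    rcases hcases u (Subgroup.subset_closure (by simp)) with h1 | h1
    · exact hu1 h1
    rcases hcases v (Subgroup.subset_closure (by simp)) with h2 | h2
    · exact hv1 h2
    exact huv (h1.trans h2.symm)
  have hcop : (Nat.card W).Coprime (Nat.card P) := by
    obtain ⟨e, he⟩ := hP.exists_card_eq
    have h8 : Nat.card W ∣ 2 ^ 3 := by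
      have := Subgroup.card_dvd_of_le hWI
      rwa [hI8] at this
    rw [he]
    exact Nat.Coprime.coprime_dvd_left h8 (((Nat.coprime_primes Nat.prime_two hp).2 (fun h => hp2 h.symm)).pow _ _)
  have htop : Subgroup.closure ({g₁, g₂, g₃} : Set P) = ⊤ := by
    rw [eq_top_iff]
    refine (generation W hWnc hcop ⊤ (fun _ _ _ _ => Subgroup.mem_top _)).trans (iSup_le fun a => ?_)
    rintro x ⟨-, hx⟩
    have hsub : ∀ g ∈ ({g₁, g₂, g₃} : Set P), Subgroup.zpowers g ≤ Subgroup.closure ({g₁, g₂, g₃} : Set P) :=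
      fun g hg => Subgroup.zpowers_le.2 (Subgroup.subset_closure hg)
    rcases hWmem a a.2.1 with h | h | h | h
    · exact absurd h a.2.2
    · exact hsub g₁ (by simp) ((hg₁ x).1 (h ▸ hx))
    · exact hsub g₂ (by simp) ((hg₂ x).1 (h ▸ hx))
    · exact hsub g₃ (by simp) ((hg₃ x).1 (h ▸ hx))
  let gs : Fin 3 → P := ![g₁, g₂, g₃]
  let ws : Fin 3 → MulAut P := ![u, v, u * v]
  have hws : ∀ i, ws i ∈ I := by intro i; fin_cases i <;> first | exact hu | exact hv | exact I.mul_mem hu hv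
  have hfix : ∀ i (x : P), (ws i x = x ↔ x ∈ Subgroup.zpowers (gs i)) := by
    intro i; fin_cases i <;> first | exact hg₁ | exact hg₂ | exact hg₃
  have hgsset : ({g₁, g₂, g₃} : Set P) = Set.range gs := by
    ext x
    simp only [Set.mem_insert_iff, Set.mem_singleton_iff, Set.mem_range, gs]
    constructor
    · rintro (rfl | rfl | rfl)
      exacts [⟨0, rfl⟩, ⟨1, rfl⟩, ⟨2, rfl⟩]
    · rintro ⟨i, rfl⟩; fin_cases i <;> simp
  rw [hgsset] at htop
  have happ : ∀ (a b : MulAut P) (x : P), (a * b) x = a (b x) := fun a b x => rfl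
  have hsign : ∀ a ∈ I, ∀ i, a (gs i) = gs i ∨ a (gs i) = (gs i)⁻¹ := by
    intro a ha i
    refine cyclic_invol hp2 hP a ((hfix i _).1 ?_) ?_
    · rw [← happ, hIcomm _ (hws i) a ha, happ, (hfix i _).2 (Subgroup.mem_zpowers _)]
    · rw [← happ, ← pow_two, hI2 a ha]; rfl
  let f : I → (Fin 3 → Bool) := fun a i => decide ((a : MulAut P) (gs i) = gs i)
  have hfinj : Function.Injective f := by
    intro a b hab
    refine Subtype.ext ?_
    have : (a : MulAut P).toMonoidHom = (b : MulAut P).toMonoidHom := by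
      refine MonoidHom.eq_of_eqOn_dense htop ?_
      rintro _ ⟨i, rfl⟩
      have hi := congrFun hab i
      simp only [f, decide_eq_decide] at hi
      show (a : MulAut P) (gs i) = (b : MulAut P) (gs i)
      rcases hsign a a.2 i with h1 | h1 <;> rcases hsign b b.2 i with h2 | h2
      · rw [h1, h2]
      · rw [h1, hi.1 h1]
      · rw [h2, hi.2 h2]
      · rw [h1, h2]
    exact MulEquiv.ext fun x => DFunLike.congr_fun this x
  have hfsurj : Function.Surjective f := by
    letI : Fintype I := Fintype.ofFinite _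
    exact ((Fintype.bijective_iff_injective_and_card f).2 ⟨hfinj, by
      rw [← Nat.card_eq_fintype_card, hI8]; simp⟩).2
  have hpat : ∀ q : Fin 3 → Bool, ∃ a ∈ I, ∀ i, if q i then a (gs i) = gs i else
      (a (gs i) = (gs i)⁻¹ ∧ a (gs i) ≠ gs i) := by
    intro q
    obtain ⟨a, ha⟩ := hfsurj q
    refine ⟨a, a.2, fun i => ?_⟩
    have hi := congrFun ha i
    simp only [f] at hi
    cases hq : q i
    · rw [hq, decide_eq_false_iff_not] at hi
      simp only [Bool.false_eq_true, if_false]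
      exact ⟨(hsign a a.2 i).resolve_left hi, hi⟩
    · rw [hq, decide_eq_true_iff] at hi
      simpa using hi
  have huniq : ∀ a ∈ I, ∀ b ∈ I, (∀ i, (a (gs i) = gs i ↔ b (gs i) = gs i)) → a = b := by
    intro a ha b hb h
    exact congrArg Subtype.val (hfinj (a₁ := ⟨a, ha⟩) (a₂ := ⟨b, hb⟩) (funext fun i => by simp [f, h i]))
  have hne1 : ∀ i, gs i ≠ 1 := by
    intro i h
    obtain ⟨a, -, ha⟩ := hpat (fun _ => false)
    have := ha i
    simp only [Bool.false_eq_true, if_false] at this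
    exact this.2 (by rw [h, map_one])
  have hwsf : ∀ i j, ws i (gs j) = gs j ↔ j = i := by
    intro i j
    refine ⟨fun h => ?_, fun h => h ▸ (hfix j _).2 (Subgroup.mem_zpowers _)⟩
    by_contra hne
    obtain ⟨a, -, ha⟩ := hpat (fun l => decide (l = i))
    obtain ⟨k, hk⟩ := (hfix i _).1 h
    have h1 := ha j
    have h2 := ha i
    simp only [hne, decide_false, Bool.false_eq_true, if_false] at h1
    simp only [decide_true, if_true] at h2
    apply h1.2
    have hk' : gs i ^ k = gs j := hk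
    rw [← hk', map_zpow, h2]
  -- the inverting element
  obtain ⟨J, hJI, hJ⟩ := hpat (fun _ => false)
  simp only [Bool.false_eq_true, if_false] at hJ
  have hJfix : ∀ x : P, J x = x → x = 1 := by
    have hle : fx J ≤ ⊥ := by
      refine (generation W hWnc hcop (fx J) ?_).trans (iSup_le fun a => ?_)
      · intro a ha x hx
        show J (a x) = a x
        rw [← happ, hIcomm J hJI a (hWI ha), happ, mem_fx.1 hx]
      · rintro x ⟨hx1, hx2⟩
        obtain ⟨i, hi⟩ : ∃ i, (a : MulAut P) = ws i := by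
          rcases hWmem a a.2.1 with h | h | h | h
          · exact absurd h a.2.2
          · exact ⟨0, h⟩
          · exact ⟨1, h⟩
          · exact ⟨2, h⟩
        have hx2' : ws i x = x := hi ▸ hx2
        obtain ⟨k, hk⟩ := (hfix i x).1 hx2'
        have hk' : gs i ^ k = x := hk
        rw [Subgroup.mem_bot]
        refine eq_one_of_eq_inv hp2 hP ?_
        conv_lhs => rw [← mem_fx.1 hx1]
        rw [← hk', map_zpow, (hJ i).1, inv_zpow]
    exact fun x hx => Subgroup.mem_bot.1 (hle hx)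
  have hJinv : ∀ x : P, J x = x⁻¹ := fun x => by
    have h1 : MonoidHom.FixedPointFree (⇑J) := fun y hy => hJfix y hy
    have h2 : Function.Involutive (⇑J) := fun y => by rw [← happ, ← pow_two, hI2 J hJI]; rfl
    exact congrFun (MonoidHom.FixedPointFree.coe_eq_inv_of_involutive (φ := J) h1 h2) x
  have hcomm : ∀ x y : P, x * y = y * x := by
    intro x y
    have := map_mul J x y
    rw [hJinv, hJinv, hJinv, mul_inv_rev] at this
    have := congrArg (·⁻¹) this
    simpa using this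
  have hPc : IsMulCommutative P := ⟨⟨hcomm⟩⟩
  letI : CommGroup P := { (inferInstance : Group P) with mul_comm := hcomm }
  have hrep : ∀ y : P, ∃ k : Fin 3 → ℤ, y = gs 0 ^ k 0 * gs 1 ^ k 1 * gs 2 ^ k 2 := by
    intro y
    have hy : y ∈ Subgroup.closure (Set.range gs) := htop ▸ Subgroup.mem_top y
    induction hy using Subgroup.closure_induction with
    | mem x hx =>
      obtain ⟨i, rfl⟩ := hx
      refine ⟨fun j => if j = i then 1 else 0, ?_⟩
      fin_cases i <;> simp
    | one => exact ⟨0, by simp⟩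
    | mul x y _ _ hx hy =>
      obtain ⟨k, rfl⟩ := hx; obtain ⟨l, rfl⟩ := hy
      refine ⟨k + l, ?_⟩
      simp only [Pi.add_apply, zpow_add]
      ac_rfl
    | inv x _ hx =>
      obtain ⟨k, rfl⟩ := hx
      exact ⟨-k, by simp [zpow_neg, mul_inv, mul_comm, mul_left_comm]⟩
  -- generators are independent modulo `p`-th powers
  have hindep : ∀ (i : Fin 3) (y z : P) (a : MulAut P), a (gs i) = (gs i)⁻¹ →
      (∀ j, j ≠ i → a (gs j) = gs j) → a y = y → gs i ≠ y * z ^ p := by
    intro i y z a hai haj hay heq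
    set w := z * (a z)⁻¹ with hw
    have hinvol : ∀ x, a (a x) = x := by
      intro x
      have h0 : ∀ j, a (a (gs j)) = gs j := fun j => by
        by_cases hj : j = i
        · subst hj; rw [hai, map_inv, hai, inv_inv]
        · rw [haj j hj, haj j hj]
      obtain ⟨k, rfl⟩ := hrep x
      simp only [map_mul, map_zpow, h0]
    have hwi : a w = w⁻¹ := by rw [hw, map_mul, map_inv, hinvol, mul_inv_rev, inv_inv]
    obtain ⟨m, hm⟩ : ∃ m : ℤ, w = gs i ^ m := by
      obtain ⟨k, hk⟩ := hrep w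
      have key : w * (gs i ^ k i)⁻¹ = 1 := by
        refine eq_one_of_eq_inv hp2 hP ?_
        have hfixc : a (w * (gs i ^ k i)⁻¹) = w * (gs i ^ k i)⁻¹ := by
          have hA : ∀ y₁ y₂ : P, a y₁ = y₁ → a y₂ = y₂ → w * (gs i ^ k i)⁻¹ = y₁ * y₂ →
              a (w * (gs i ^ k i)⁻¹) = w * (gs i ^ k i)⁻¹ := by
            intro y₁ y₂ e₁ e₂ e
            rw [e, map_mul, e₁, e₂]
          have hpw : ∀ j, j ≠ i → a (gs j ^ k j) = gs j ^ k j := fun j hj => by rw [map_zpow, haj j hj]
          have hi3 : i = 0 ∨ i = 1 ∨ i = 2 := by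
            have : ∀ l : Fin 3, l = 0 ∨ l = 1 ∨ l = 2 := by decide
            exact this i
          rcases hi3 with rfl | rfl | rfl
          · exact hA _ _ (hpw 1 (by decide)) (hpw 2 (by decide)) (by
              rw [hk, mul_inv_eq_iff_eq_mul, mul_assoc, hcomm])
          · exact hA _ _ (hpw 0 (by decide)) (hpw 2 (by decide)) (by
              rw [hk, mul_inv_eq_iff_eq_mul, mul_right_comm])
          · exact hA _ _ (hpw 0 (by decide)) (hpw 1 (by decide)) (by
              rw [hk, mul_inv_eq_iff_eq_mul])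
        rw [map_mul, hwi, map_inv, map_zpow, hai, inv_zpow, inv_inv] at hfixc
        calc w * (gs i ^ k i)⁻¹ = w⁻¹ * gs i ^ k i := hfixc.symm
          _ = (w * (gs i ^ k i)⁻¹)⁻¹ := by rw [mul_inv w, inv_inv]
      exact ⟨k i, by rwa [mul_inv_eq_one] at key⟩
    have h2 : gs i ^ (2 - (p : ℤ) * m) = 1 := by
      have e : a (gs i) = y * (a z) ^ p := by rw [heq, map_mul, map_pow, hay]
      have : gs i * gs i = w ^ p := by
        have e2 : gs i * (a (gs i))⁻¹ = w ^ p := by
          rw [e]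
          conv_lhs => rw [heq]
          rw [hw, mul_pow, inv_pow, mul_inv, mul_mul_mul_comm, mul_inv_cancel, one_mul]
        rwa [hai, inv_inv] at e2
      rw [zpow_sub, zpow_ofNat, pow_two, this, hm, ← zpow_natCast, ← zpow_mul, mul_comm m, mul_inv_cancel]
    obtain ⟨e, he⟩ := hP (gs i)
    apply hne1 i
    have hcop2 : IsCoprime (2 - (p : ℤ) * m) ((p : ℤ) ^ e) := by
      refine IsCoprime.pow_right ?_
      rw [isCoprime_comm, Prime.coprime_iff_not_dvd (Nat.prime_iff_prime_int.1 hp)]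
      intro hd
      have h3 : (p : ℤ) ∣ 2 := by
        have := dvd_add hd (dvd_mul_right (p : ℤ) m)
        simpa using this
      have := Int.le_of_dvd (by norm_num) h3
      have := hp.two_le
      omega
    obtain ⟨r, s, hrs⟩ := hcop2
    calc gs i = gs i ^ (r * (2 - (p : ℤ) * m) + s * (p : ℤ) ^ e) := by rw [hrs, zpow_one]
      _ = 1 := by
        rw [zpow_add, mul_comm r, zpow_mul, h2, one_zpow, one_mul, mul_comm s, zpow_mul, ← Nat.cast_pow,
          zpow_natCast, he, one_zpow]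
  let Φ : Subgroup P := (powMonoidHom p : P →* P).range
  have hnot2 : ¬ ∃ a b : P, Subgroup.closure {a, b} = ⊤ := by
    rintro ⟨a, b, hab⟩
    let π := QuotientGroup.mk' Φ
    have hπp : ∀ x : P, π x ^ p = 1 := fun x => by
      rw [← map_pow]
      exact (QuotientGroup.eq_one_iff _).2 ⟨x, rfl⟩
    have hzc : ∀ x : P, Nat.card (Subgroup.zpowers (π x)) ∣ p := fun x => by
      rw [Nat.card_zpowers]; exact orderOf_dvd_of_pow_eq_one (hπp x)
    have hle : Nat.card (P ⧸ Φ) ∣ p * p := by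
      have htop' : (⊤ : Subgroup (P ⧸ Φ)) = Subgroup.zpowers (π a) ⊔ Subgroup.zpowers (π b) := by
        rw [← Subgroup.map_top_of_surjective π (QuotientGroup.mk'_surjective Φ), ← hab, MonoidHom.map_closure,
          Set.image_pair, Set.insert_eq, Subgroup.closure_union, Subgroup.zpowers_eq_closure, Subgroup.zpowers_eq_closure]
      rw [← Subgroup.card_top, htop']
      exact (Cfsg.Lib.Core.card_sup_dvd_mul _ _).trans (mul_dvd_mul (hzc a) (hzc b))
    have hmemΦ : ∀ (i : Fin 3) (S : Subgroup P) (T : MulAut P), T (gs i) = (gs i)⁻¹ →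
        (∀ j, j ≠ i → T (gs j) = gs j) → (∀ y ∈ S, T y = y) → π (gs i) ∉ S.map π := by
      rintro i S T h1 h2 h3 ⟨y, hy, he⟩
      obtain ⟨z, hz⟩ := (QuotientGroup.eq).1 he
      exact hindep i y z T h1 h2 (h3 y hy) (by
        show gs i = y * z ^ p
        rw [show z ^ p = y⁻¹ * gs i from hz, mul_inv_cancel_left])
    have hpow : ∀ H : Subgroup (P ⧸ Φ), ∃ k, Nat.card H = p ^ k := fun H => ((hP.to_quotient Φ).to_subgroup H).exists_card_eq
    obtain ⟨T0, -, hT0⟩ := hpat (fun j => !decide (j = 0))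
    obtain ⟨T1, -, hT1⟩ := hpat (fun j => !decide (j = 1))
    obtain ⟨T2, -, hT2⟩ := hpat (fun j => !decide (j = 2))
    have hT : ∀ (i : Fin 3) (T : MulAut P), (∀ j, if (!decide (j = i)) = true then T (gs j) = gs j else
        (T (gs j) = (gs j)⁻¹ ∧ T (gs j) ≠ gs j)) → T (gs i) = (gs i)⁻¹ ∧ ∀ j, j ≠ i → T (gs j) = gs j := by
      intro i T h
      refine ⟨?_, fun j hj => by simpa [hj] using h j⟩
      have := h i
      simp only [decide_true, Bool.not_true, Bool.false_eq_true, if_false] at this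
      exact this.1
    have m2 := hmemΦ 2 ⊥ T2 (hT 2 T2 hT2).1 (hT 2 T2 hT2).2 (fun y hy => by rw [Subgroup.mem_bot.1 hy, map_one])
    have m1 := hmemΦ 1 (Subgroup.zpowers (gs 2)) T1 (hT 1 T1 hT1).1 (hT 1 T1 hT1).2 (by
      rintro y ⟨k, rfl⟩
      show T1 (gs 2 ^ k) = gs 2 ^ k
      rw [map_zpow, (hT 1 T1 hT1).2 2 (by decide)])
    have m0 := hmemΦ 0 (Subgroup.zpowers (gs 2) ⊔ Subgroup.zpowers (gs 1)) T0 (hT 0 T0 hT0).1 (hT 0 T0 hT0).2 (by
      have hle2 : Subgroup.zpowers (gs 2) ⊔ Subgroup.zpowers (gs 1) ≤ fx T0 := sup_le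
        (Subgroup.zpowers_le.2 ((hT 0 T0 hT0).2 2 (by decide))) (Subgroup.zpowers_le.2 ((hT 0 T0 hT0).2 1 (by decide)))
      exact fun y hy => hle2 hy)
    rw [Subgroup.map_bot, Subgroup.mem_bot] at m2
    set C2 := (Subgroup.zpowers (gs 2)).map π
    set C1 := (Subgroup.zpowers (gs 2) ⊔ Subgroup.zpowers (gs 1)).map π
    have l1 : C2 < C1 := lt_of_le_of_ne (Subgroup.map_mono le_sup_left) (fun h => m1 (h.symm ▸
      Subgroup.mem_map_of_mem π (Subgroup.mem_sup_right (Subgroup.mem_zpowers _))))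
    have l0 : C1 < ⊤ := lt_of_le_of_ne le_top (fun h => m0 (h.symm ▸ Subgroup.mem_top _))
    have l2 : 1 < Nat.card C2 := Subgroup.one_lt_card_iff_ne_bot _ |>.2 (fun h => m2 (by
      rw [← Subgroup.mem_bot, ← h]; exact Subgroup.mem_map_of_mem π (Subgroup.mem_zpowers _)))
    have hstep : ∀ H K : Subgroup (P ⧸ Φ), H < K → p * Nat.card H ≤ Nat.card K := by
      intro H K hHK
      obtain ⟨a, ha⟩ := hpow H
      obtain ⟨b, hb⟩ := hpow K
      have hlt : Nat.card H < Nat.card K := by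
        by_contra h
        exact hHK.ne (Subgroup.eq_of_le_of_card_ge hHK.le (not_lt.1 h))
      rw [ha, hb] at hlt ⊢
      rw [← pow_succ']
      exact Nat.pow_le_pow_right hp.pos ((Nat.pow_lt_pow_iff_right hp.one_lt).1 hlt)
    have e2 : p ≤ Nat.card C2 := by
      obtain ⟨a, ha⟩ := hpow C2
      rw [ha] at l2 ⊢
      calc p = p ^ 1 := (pow_one p).symm
        _ ≤ p ^ a := Nat.pow_le_pow_right hp.pos (by
          rcases a with _ | a
          · simp at l2
          · omega)
    have e1 := hstep _ _ l1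
    have e0 := hstep _ _ l0
    rw [Subgroup.card_top] at e0
    have := Nat.le_of_dvd (Nat.mul_pos hp.pos hp.pos) hle
    have := hp.two_le
    nlinarith
  -- the broad elements
  have hmul : ∀ a ∈ I, ∀ b ∈ I, ∀ i, ((a * b) (gs i) = gs i ↔ (a (gs i) = gs i ↔ b (gs i) = gs i)) := by
    intro a ha b hb i
    have hne : (gs i)⁻¹ ≠ gs i := fun h => hne1 i (eq_one_of_eq_inv hp2 hP h.symm)
    rw [happ]
    rcases hsign a ha i with h1 | h1 <;> rcases hsign b hb i with h2 | h2 <;>
      simp [h1, h2, hne, map_inv]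
  choose T hTI hT using fun i : Fin 3 => hpat (fun j => !decide (j = i))
  have hTf : ∀ i j, T i (gs j) = gs j ↔ j ≠ i := by
    intro i j
    have := hT i j
    by_cases h : j = i
    · subst h
      simp only [decide_true, Bool.not_true, Bool.false_eq_true, if_false] at this
      simpa using this.2
    · simpa [h] using this
  have hT1 : ∀ i, T i ≠ 1 := fun i h => by
    have := (hTf i i).1 (by rw [h]; rfl)
    exact this rfl
  have hTbroad : ∀ i, ¬ ∃ g : P, ∀ x : P, (T i x = x ↔ x ∈ Subgroup.zpowers g) := by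
    rintro i ⟨g, hg⟩
    refine hnot2 ⟨gs i, g, ?_⟩
    rw [eq_top_iff, ← htop, Subgroup.closure_le]
    rintro _ ⟨j, rfl⟩
    by_cases h : j = i
    · subst h; exact Subgroup.subset_closure (by simp)
    · exact (Subgroup.zpowers_le.2 (Subgroup.subset_closure (by simp))) ((hg _).1 ((hTf i j).2 h))
  have hclass : ∀ a ∈ I, a = 1 ∨ a = J ∨ (∃ i, a = T i) ∨ ∃ i, a = ws i := by
    intro a ha
    have hthree : ∀ l : Fin 3, l = 0 ∨ l = 1 ∨ l = 2 := by decide
    by_cases h0 : a (gs 0) = gs 0 <;> by_cases h1 : a (gs 1) = gs 1 <;> by_cases h2 : a (gs 2) = gs 2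
    · exact Or.inl (huniq a ha 1 I.one_mem fun i => by rcases hthree i with rfl | rfl | rfl <;> simp [h0, h1, h2])
    · exact Or.inr (Or.inr (Or.inl ⟨2, huniq a ha _ (hTI 2) fun i => by rw [hTf]; rcases hthree i with rfl | rfl | rfl <;> simp [h0, h1, h2]⟩))
    · exact Or.inr (Or.inr (Or.inl ⟨1, huniq a ha _ (hTI 1) fun i => by rw [hTf]; rcases hthree i with rfl | rfl | rfl <;> simp [h0, h1, h2]⟩))
    · exact Or.inr (Or.inr (Or.inr ⟨0, huniq a ha _ (hws 0) fun i => by rw [hwsf]; rcases hthree i with rfl | rfl | rfl <;> simp [h0, h1, h2]⟩))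
    · exact Or.inr (Or.inr (Or.inl ⟨0, huniq a ha _ (hTI 0) fun i => by rw [hTf]; rcases hthree i with rfl | rfl | rfl <;> simp [h0, h1, h2]⟩))
    · exact Or.inr (Or.inr (Or.inr ⟨1, huniq a ha _ (hws 1) fun i => by rw [hwsf]; rcases hthree i with rfl | rfl | rfl <;> simp [h0, h1, h2]⟩))
    · exact Or.inr (Or.inr (Or.inr ⟨2, huniq a ha _ (hws 2) fun i => by rw [hwsf]; rcases hthree i with rfl | rfl | rfl <;> simp [h0, h1, h2]⟩))
    · exact Or.inr (Or.inl (huniq a ha J hJI fun i => by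
        rcases hthree i with rfl | rfl | rfl <;> simp [h0, h1, h2, (hJ _).2]))
  have hbroad : ∀ a, (a ∈ I ∧ a ≠ 1 ∧ ¬ ∃ g : P, ∀ x : P, (a x = x ↔ x ∈ Subgroup.zpowers g)) ↔ ∃ i, a = T i := by
    intro a
    constructor
    · rintro ⟨ha, ha1, hab⟩
      rcases hclass a ha with h | h | h | ⟨i, h⟩
      · exact absurd h ha1
      · refine absurd ⟨1, fun x => ?_⟩ hab
        rw [Subgroup.zpowers_one_eq_bot, Subgroup.mem_bot, h]
        exact ⟨hJfix x, fun e => by rw [e, map_one]⟩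
      · exact h
      · exact absurd ⟨gs i, fun x => h ▸ hfix i x⟩ hab
    · rintro ⟨i, rfl⟩; exact ⟨hTI i, hT1 i, hTbroad i⟩
  have hTinj : Function.Injective T := by
    intro i j h
    by_contra hne
    have := (hTf j i).2 hne
    rw [← h, hTf] at this
    exact this rfl
  have hTT : ∀ i j k : Fin 3, i ≠ j → k ≠ i → k ≠ j → T i * T j = ws k := by
    intro i j k hij hki hkj
    refine huniq _ (I.mul_mem (hTI i) (hTI j)) _ (hws k) fun l => ?_
    rw [hmul _ (hTI i) _ (hTI j), hTf, hTf, hwsf]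
    revert hij hki hkj
    revert i j k l
    decide
  have hT0 : ∀ i j, T i * T j ∈ I₀ := fun i j =>
    hprod _ (hTI i) _ (hTI j) (hT1 i) (hT1 j) (hTbroad i) (hTbroad j)
  have hws0 : ∀ k : Fin 3, ∃ i j, T i * T j = ws k := by
    intro k
    have : ∀ k : Fin 3, ∃ i j : Fin 3, i ≠ j ∧ k ≠ i ∧ k ≠ j := by decide
    obtain ⟨i, j, h1, h2, h3⟩ := this k
    exact ⟨i, j, hTT i j k h1 h2 h3⟩
  refine ⟨hPc, ⟨gs 0, gs 1, gs 2, ?_⟩, hnot2, ?_, ?_, ?_⟩
  · rw [eq_top_iff, ← htop]
    refine Subgroup.closure_mono ?_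
    rintro _ ⟨i, rfl⟩
    fin_cases i <;> simp
  · let e : Fin 3 ≃ {a : MulAut P // a ∈ I ∧ a ≠ 1 ∧ ¬ ∃ g : P, ∀ x : P, (a x = x ↔ x ∈ Subgroup.zpowers g)} :=
      Equiv.ofBijective (fun i => ⟨T i, (hbroad _).2 ⟨i, rfl⟩⟩)
        ⟨fun i j h => hTinj (congrArg Subtype.val h), fun a => by
          obtain ⟨i, hi⟩ := (hbroad _).1 a.2; exact ⟨i, Subtype.ext hi.symm⟩⟩
    rw [← Nat.card_congr e, Nat.card_fin]
  · refine le_antisymm ((Subgroup.closure_le _).2 fun a ha => ha.1) fun a ha => ?_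
    have hTc : ∀ i, T i ∈ Subgroup.closure {a : MulAut P | a ∈ I ∧ a ≠ 1 ∧ ¬ ∃ g : P, ∀ x : P, (a x = x ↔ x ∈ Subgroup.zpowers g)} :=
      fun i => Subgroup.subset_closure ((hbroad _).2 ⟨i, rfl⟩)
    rcases hclass a ha with rfl | rfl | ⟨i, rfl⟩ | ⟨i, rfl⟩
    · exact Subgroup.one_mem _
    · have : a = T 0 * T 1 * T 2 := by
        refine huniq _ ha _ (I.mul_mem (I.mul_mem (hTI 0) (hTI 1)) (hTI 2)) fun l => ?_
        rw [hmul _ (I.mul_mem (hTI 0) (hTI 1)) _ (hTI 2), hmul _ (hTI 0) _ (hTI 1), hTf, hTf, hTf]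
        have := (hJ l).2
        simp only [this, false_iff]
        revert l; intro l; fin_cases l <;> simp
      rw [this]
      exact Subgroup.mul_mem _ (Subgroup.mul_mem _ (hTc 0) (hTc 1)) (hTc 2)
    · exact hTc i
    · obtain ⟨x, y, h⟩ := hws0 i
      rw [← h]; exact Subgroup.mul_mem _ (hTc x) (hTc y)
  · ext S
    simp only [SetLike.mem_coe, Set.mem_setOf_eq]
    constructor
    · intro hS
      have key : ∀ {i j}, S = T i * T j → ∃ A B : MulAut P, A ∈ I ∧ B ∈ I ∧ A ≠ 1 ∧ B ≠ 1 ∧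
        (¬ ∃ g : P, ∀ x : P, (A x = x ↔ x ∈ Subgroup.zpowers g)) ∧ (¬ ∃ g : P, ∀ x : P, (B x = x ↔ x ∈ Subgroup.zpowers g)) ∧ S = A * B :=
        fun {i j} h => ⟨T i, T j, hTI i, hTI j, hT1 i, hT1 j, hTbroad i, hTbroad j, h⟩
      rcases hclass S (hI₀.le hS) with h | h | ⟨i, h⟩ | ⟨i, h⟩
      · exact key (i := 0) (j := 0) (by rw [h, ← pow_two, hI2 _ (hTI 0)])
      · exfalso
        -- `J` and the products would give everything
        refine hI₀.ne (le_antisymm hI₀.le fun a ha => ?_)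
        have hT0' : ∀ i, T i ∈ I₀ := by
          intro i
          have : T i = J * ws i := by
            refine huniq _ (hTI i) _ (I.mul_mem hJI (hws i)) fun l => ?_
            rw [hmul _ hJI _ (hws i), hTf, hwsf]
            simp [(hJ l).2]
          rw [this]
          obtain ⟨x, y, hxy⟩ := hws0 i
          exact I₀.mul_mem (h ▸ hS) (hxy ▸ hT0 x y)
        rcases hclass a ha with rfl | rfl | ⟨i, rfl⟩ | ⟨i, rfl⟩
        · exact I₀.one_mem
        · exact h ▸ hS
        · exact hT0' i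
        · obtain ⟨x, y, hxy⟩ := hws0 i
          exact hxy ▸ hT0 x y
      · exact absurd (hdisj S hS (h ▸ hT1 i)) (h ▸ hTbroad i)
      · obtain ⟨x, y, hxy⟩ := hws0 i
        exact key (i := x) (j := y) (h.trans hxy.symm)
    · rintro ⟨A, B, hA, hB, hA1, hB1, hAb, hBb, rfl⟩
      exact hprod A hA B hB hA1 hB1 hAb hBb

end Cfsg.Agent.S4412
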