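import Cfsg.Statements.S4414
import Cfsg.Agent.S4282

set_option linter.style.haveILetI false

set_option autoImplicit false
open Cfsg

namespace Cfsg.Agent.S4414

open Cfsg.Agent.S4282

noncomputable section

variable {S : Type*} [Group S] {E : Type*} [AddCommGroup E] [Module (ZMod 2) E] [Finite E]

/-- An algebraic closure of the field with two elements. -/
abbrev KK : Type := AlgebraicClosure (ZMod 2)

/-- `E` with scalars extended, as functionals on the dual. -/
abbrev Ext (E : Type*) [AddCommGroup E] [Module (ZMod 2) E] : Type _ := Module.Dual (ZMod 2) E →ₗ[ZMod 2] KK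

/-- The extended action. -/
def act (ρ : Representation (ZMod 2) S E) : S →* Module.End KK (Ext E) where
  toFun g :=
    { toFun := fun f => f.comp (ρ g).dualMap
      map_add' := fun a b => rfl
      map_smul' := fun c a => rfl }
  map_one' := LinearMap.ext fun f => LinearMap.ext fun φ => by
    show f ((ρ 1).dualMap φ) = f φ
    rw [map_one]; rfl
  map_mul' a b := LinearMap.ext fun f => LinearMap.ext fun φ => by
    show f ((ρ (a * b)).dualMap φ) = f ((ρ b).dualMap ((ρ a).dualMap φ))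
    rw [map_mul]; rfl

theorem act_apply (ρ : Representation (ZMod 2) S E) (g : S) (f : Ext E) (φ : Module.Dual (ZMod 2) E) :
    act ρ g f φ = f ((ρ g).dualMap φ) := rfl

/-- Vectors of `E` as extended vectors. -/
def ev (v : E) : Ext E := (Algebra.linearMap (ZMod 2) KK).comp (Module.Dual.eval (ZMod 2) E v)

theorem act_ev (ρ : Representation (ZMod 2) S E) (g : S) (v : E) : act ρ g (ev v) = ev (ρ g v) := rfl

/-- Fixed points in `E`. -/
def fixE (ρ : Representation (ZMod 2) S E) (R : Subgroup S) : Submodule (ZMod 2) E where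
  carrier := {v | ∀ s ∈ R, ρ s v = v}
  add_mem' := fun {a b} ha hb s hs => by rw [map_add, ha s hs, hb s hs]
  zero_mem' := fun s _ => map_zero _
  smul_mem' := fun c a ha s hs => by rw [map_smul, ha s hs]

theorem fix_mem_span (ρ : Representation (ZMod 2) S E) (R : Subgroup S) {ι : Type*} [Fintype ι]
    (b : Module.Basis ι (ZMod 2) (fixE ρ R)) (f : Ext E) (hf : ∀ s ∈ R, act ρ s f = f) :
    f ∈ Submodule.span KK (Set.range fun i => ev ((b i : fixE ρ R) : E)) := by
  classical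
  choose φ hφ using fun i => LinearMap.exists_extend (b.coord i)
  have hφ' : ∀ i j, φ i (b j : E) = if j = i then 1 else 0 := by
    intro i j
    have := LinearMap.congr_fun (hφ i) (b j)
    rw [LinearMap.comp_apply, Module.Basis.coord_apply, b.repr_self, Finsupp.single_apply] at this
    exact this
  have hann : ∀ ψ : Module.Dual (ZMod 2) E, (∀ v ∈ fixE ρ R, ψ v = 0) → f ψ = 0 := by
    intro ψ hψ
    by_contra hne
    obtain ⟨π, hπ⟩ := Module.Projective.exists_dual_ne_zero (ZMod 2) hne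
    obtain ⟨e, he⟩ := (Module.bijective_dual_eval (ZMod 2) E).2 (π.comp f)
    have heq : ∀ χ : Module.Dual (ZMod 2) E, π (f χ) = χ e := fun χ => by
      show (π.comp f) χ = _
      rw [← he]; rfl
    have hmem : e ∈ fixE ρ R := fun s hs => by
      refine (Module.bijective_dual_eval (ZMod 2) E).1 (LinearMap.ext fun χ => ?_)
      show χ (ρ s e) = χ e
      rw [← heq χ, ← LinearMap.congr_fun (hf s hs) χ, act_apply, heq]; rfl
    exact hπ (by rw [heq, hψ e hmem])
  have key : f = ∑ i, f (φ i) • ev ((b i : fixE ρ R) : E) := by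
    refine LinearMap.ext fun ψ => ?_
    have h0 := hann (ψ - ∑ i, ψ (b i : E) • φ i) (by
      intro v hv
      have : (⟨v, hv⟩ : fixE ρ R) = ∑ j, b.repr ⟨v, hv⟩ j • b j := (b.sum_repr _).symm
      have hv' : v = ∑ j, b.repr ⟨v, hv⟩ j • (b j : E) := by
        have := congrArg Subtype.val this
        simp only [Submodule.coe_sum, Submodule.coe_smul] at this
        exact this
      rw [hv']
      simp [map_sum, LinearMap.sum_apply, hφ', mul_comm])
    rw [map_sub, sub_eq_zero, map_sum] at h0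
    rw [h0, LinearMap.sum_apply]
    refine Finset.sum_congr rfl fun i _ => ?_
    rw [map_smul, LinearMap.smul_apply, smul_eq_mul, Algebra.smul_def]
    exact mul_comm _ _
  rw [key]
  exact Submodule.sum_mem _ fun i _ => Submodule.smul_mem _ _ (Submodule.subset_span ⟨i, rfl⟩)

variable (P : Subgroup S) [P.Normal]

/-- Twisted character. -/
def tw (g : S) (χ : P →* KK) : P →* KK := χ.comp (MulAut.conjNormal g⁻¹ : MulAut P).toMonoidHom

theorem tw_apply (g : S) (χ : P →* KK) (x : P) : tw P g χ x = χ ((MulAut.conjNormal g⁻¹ : MulAut P) x) := rfl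

theorem tw_one (χ : P →* KK) : tw P 1 χ = χ := by ext x; simp [tw_apply]

theorem tw_mul (a b : S) (χ : P →* KK) : tw P (a * b) χ = tw P a (tw P b χ) := by
  ext x
  simp only [tw_apply]
  rw [mul_inv_rev, map_mul]
  rfl


theorem tw_inj (g : S) : Function.Injective (tw P g) := fun a b h => by
  have := congrArg (tw P g⁻¹) h
  rwa [← tw_mul, ← tw_mul, inv_mul_cancel, tw_one, tw_one] at this

variable [Fintype P]

/-- Component of a vector. -/
def proj (ρ : Representation (ZMod 2) S E) (χ : P →* KK) : Module.End KK (Ext E) :=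
  ∑ x : P, χ x⁻¹ • act ρ x

omit [Finite E] in
theorem act_proj (ρ : Representation (ZMod 2) S E) (g : S) (χ : P →* KK) (u : Ext E) :
    act ρ g (proj P ρ χ u) = proj P ρ (tw P g χ) (act ρ g u) := by
  simp only [proj, LinearMap.sum_apply, LinearMap.smul_apply, map_sum, map_smul]
  refine Fintype.sum_equiv (MulAut.conjNormal g : MulAut P).toEquiv _ _ fun x => ?_
  have e1 : tw P g χ ((MulAut.conjNormal g : MulAut P) x)⁻¹ = χ x⁻¹ := by
    rw [tw_apply, ← map_inv, ← MulAut.mul_apply, ← map_mul, inv_mul_cancel, map_one]; rfl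
  show χ x⁻¹ • act ρ g (act ρ x u) = tw P g χ ((MulAut.conjNormal g : MulAut P) x)⁻¹ • _
  rw [e1, ← Module.End.mul_apply, ← Module.End.mul_apply, ← map_mul, ← map_mul]
  congr 3
  simp [MulAut.conjNormal_apply]

omit [Finite E] in
theorem proj_eig (ρ : Representation (ZMod 2) S E) (χ ψ : P →* KK) (w : Ext E)
    (hw : ∀ x : P, act ρ x w = ψ x • w) [Decidable (χ = ψ)] :
    proj P ρ χ w = (if χ = ψ then (Fintype.card P : KK) else 0) • w := by
  simp only [proj, LinearMap.sum_apply, LinearMap.smul_apply, hw, smul_smul, ← Finset.sum_smul]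
  congr 1
  split_ifs with h
  · subst h
    rw [Finset.sum_congr rfl fun x _ => show χ x⁻¹ * χ x = 1 by rw [← map_mul, inv_mul_cancel, map_one]]
    simp
  · obtain ⟨y, hy⟩ : ∃ y, χ y ≠ ψ y := by by_contra h'; push Not at h'; exact h (MonoidHom.ext h')
    set T := ∑ x : P, χ x⁻¹ * ψ x
    have h1 : (χ y⁻¹ * ψ y) * T = T := by
      rw [Finset.mul_sum]
      refine Fintype.sum_equiv (Equiv.mulRight y) _ _ fun x => ?_
      show _ = χ (x * y)⁻¹ * ψ (x * y)
      rw [mul_inv_rev, map_mul, map_mul]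
      ring
    by_contra hT
    apply hy
    have h2 : χ y⁻¹ * ψ y = 1 := by
      have := mul_right_cancel₀ hT (h1.trans (one_mul T).symm)
      exact this
    calc χ y = χ y * (χ y⁻¹ * ψ y) := by rw [h2, mul_one]
      _ = ψ y := by rw [← mul_assoc, ← map_mul, mul_inv_cancel, map_one, one_mul]

end

/-- Let S be a finite solvable group whose order is divisible only by the primes 2, p, q (p, q distinct odd primes), with a Sylow system S₂, S_p, S_q (pairwise permutable Sylow subgroups) such that: S_p is a minimal normal subgroup of S of order p or p²; S_q has order q and [S_p, S_q] = S_p; and O₂(S) = 1. Let E be an irreducible module for S over the field with two elements on which S_p acts faithfully, and E₀ the subspace of fixed points of S₂. Then either E₀ has at least 8 elements, or E₀ has exactly 4 elements and S_q does not leave E₀ invariant. -/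
theorem result {S : Type*} [Group S] [Finite S]
    [Group.IsSolvable S] (p q : ℕ) (hp : p.Prime) (hq : q.Prime) (hp2 : p ≠ 2) (hq2 : q ≠ 2) (hpq : p ≠ q)
    (hπ : ∀ r : ℕ, r.Prime → r ∣ Nat.card S → r = 2 ∨ r = p ∨ r = q)
    (S₂ : Sylow 2 S) (Sp : Sylow p S) (Sq : Sylow q S)
    (h2q : Nat.card ↥((S₂ : Subgroup S) ⊔ (Sq : Subgroup S)) = Nat.card ↥S₂ * Nat.card ↥Sq)
    (h2p : Nat.card ↥((S₂ : Subgroup S) ⊔ (Sp : Subgroup S)) = Nat.card ↥S₂ * Nat.card ↥Sp)
    (hpq' : Nat.card ↥((Sp : Subgroup S) ⊔ (Sq : Subgroup S)) = Nat.card ↥Sp * Nat.card ↥Sq)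
    (hSpN : (Sp : Subgroup S).Normal) (hSpmin : ∀ N : Subgroup S, N.Normal → N ≤ (Sp : Subgroup S) → N = ⊥ ∨ N = (Sp : Subgroup S))
    (hSpcard : Nat.card ↥Sp = p ∨ Nat.card ↥Sp = p ^ 2)
    (hSq : Nat.card ↥Sq = q) (hcomm : ⁅(Sp : Subgroup S), (Sq : Subgroup S)⁆ = (Sp : Subgroup S))
    (hO2 : Cfsg.pCore 2 S = ⊥)
    {E : Type*} [AddCommGroup E] [Module (ZMod 2) E] [Finite E] (ρ : Representation (ZMod 2) S E) (hE : Nontrivial E)
    (hirr : ∀ N : Submodule (ZMod 2) E, (∀ s : S, ∀ m ∈ N, ρ s m ∈ N) → N = ⊥ ∨ N = ⊤)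
    (hfaith : ∀ x ∈ (Sp : Subgroup S), ρ x = 1 → x = 1) :
    8 ≤ Nat.card {v : E // ∀ s ∈ (S₂ : Subgroup S), ρ s v = v} ∨
      (Nat.card {v : E // ∀ s ∈ (S₂ : Subgroup S), ρ s v = v} = 4 ∧
        ∃ x ∈ (Sq : Subgroup S), ∃ v : E, (∀ s ∈ (S₂ : Subgroup S), ρ s v = v) ∧ ¬ ∀ s ∈ (S₂ : Subgroup S), ρ s (ρ x v) = ρ x v) := by
  classical
  haveI : Fact p.Prime := ⟨hp⟩
  haveI : Fact q.Prime := ⟨hq⟩
  haveI := hSpN
  set P : Subgroup S := (Sp : Subgroup S) with hP
  letI : Fintype P := Fintype.ofFinite _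
  have hPK : (Fintype.card P : KK) ≠ 0 := by
    obtain ⟨k, hk⟩ := Sp.isPGroup'.exists_card_eq
    rw [← Nat.card_eq_fintype_card, hk, Nat.cast_pow]
    refine pow_ne_zero _ ?_
    rw [Ne, CharP.cast_eq_zero_iff KK 2 p]
    exact fun h => hp2 ((Nat.prime_dvd_prime_iff_eq Nat.prime_two hp).1 h).symm
  let A := act ρ
  have hgrp : ∀ (a b : S) (f : Ext E), A (a * b) f = A a (A b f) := fun a b f => by rw [map_mul]; rfl
  have hcomm' : ∀ x y : P, x * y = y * x := by
    rcases hSpcard with h | h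
    · haveI : IsCyclic P := isCyclic_of_prime_card h
      letI : CommGroup P := IsCyclic.commGroup
      exact mul_comm
    · exact IsPGroup.commutative_of_card_eq_prime_sq h
  -- no fixed vectors of `P`
  have hPfix : fixE ρ P = ⊥ := by
    refine (hirr _ ?_).resolve_right fun h => ?_
    · intro s v hv x hx
      have hx' : s⁻¹ * x * s ∈ P := by simpa using hSpN.conj_mem x hx s⁻¹
      rw [← Module.End.mul_apply, ← map_mul, show x * s = s * (s⁻¹ * x * s) by group, map_mul,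
        Module.End.mul_apply, hv _ hx']
    · have hbot : P = ⊥ := (Subgroup.eq_bot_iff_forall _).2 fun x hx => hfaith x hx (LinearMap.ext fun v =>
        (show v ∈ fixE ρ P from h ▸ Submodule.mem_top) x hx)
      rcases hSpcard with h' | h' <;> change Nat.card P = _ at h' <;> rw [hbot, Subgroup.card_bot] at h'
      · exact hp.one_lt.ne h'
      · exact (Nat.one_lt_pow two_ne_zero hp.one_lt).ne h'
  have hPfixK : ∀ f : Ext E, (∀ x ∈ P, A x f = f) → f = 0 := by
    intro f hf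
    have hmem := fix_mem_span ρ P (Module.finBasis (ZMod 2) (fixE ρ P)) f hf
    have h0 : Module.finrank (ZMod 2) (fixE ρ P) = 0 := by rw [hPfix]; exact finrank_bot _ _
    haveI : IsEmpty (Fin (Module.finrank (ZMod 2) (fixE ρ P))) := by rw [h0]; infer_instance
    simpa [Set.range_eq_empty] using hmem
  -- a common eigenvector
  haveI : Nontrivial (Ext E) := by
    obtain ⟨v, hv⟩ := exists_ne (0 : E)
    refine ⟨⟨ev v, 0, fun h => hv ?_⟩⟩
    refine (Module.bijective_dual_eval (ZMod 2) E).1 ?_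
    rw [map_zero]
    refine LinearMap.ext fun φ => ?_
    have h' := LinearMap.congr_fun h φ
    exact (map_eq_zero_iff _ (algebraMap (ZMod 2) KK).injective).1 h'
  obtain ⟨w, χ, hw0, hw⟩ : ∃ (w : Ext E) (χ : P →* KK), w ≠ 0 ∧ ∀ x : P, A x w = χ x • w := by
    obtain ⟨U, ⟨hU0, hU⟩, hUmin⟩ := (wellFounded_lt (α := Submodule KK (Ext E))).has_min
      {U : Submodule KK (Ext E) | U ≠ ⊥ ∧ Inv A P U} ⟨⊤, top_ne_bot, fun _ _ _ _ => Submodule.mem_top⟩
    have hmin : ∀ X ≤ U, Inv A P X → X = ⊥ ∨ X = U := by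
      intro X hX hXi
      by_contra h
      push Not at h
      exact hUmin X ⟨h.1, hXi⟩ (lt_of_le_of_ne hX h.2)
    have hσ := irr_resRep hU hU0 hmin
    have hsc : ∀ x : P, ∃ c : KK, ∀ u, resRep A P U hU x u = c • u := fun x =>
      scalar hσ _ fun m u => by
        refine (app_mul (resRep A P U hU) x m u).symm.trans ?_
        rw [hcomm' x m]
        exact app_mul (resRep A P U hU) m x u
    choose c hc using hsc
    obtain ⟨u, hu, hu0⟩ := (Submodule.ne_bot_iff U).1 hU0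
    have hc' : ∀ x : P, A x u = c x • u := fun x => congrArg Subtype.val (hc x ⟨u, hu⟩)
    have hc1 : c 1 = 1 := by
      have h1 := hc' 1
      rw [Subgroup.coe_one, map_one, Module.End.one_apply] at h1
      exact (smul_left_injective KK hu0 (((one_smul KK u).trans h1))).symm
    refine ⟨u, { toFun := c, map_one' := hc1, map_mul' := fun x y => ?_ }, hu0, hc'⟩
    have h1 := hc' (x * y)
    rw [Subgroup.coe_mul, hgrp, hc', map_smul, hc', smul_smul] at h1
    rw [mul_comm]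
    exact (smul_left_injective KK hu0 h1).symm
  -- an element of order `q`
  obtain ⟨h₀, hh₀, hh₀1⟩ : ∃ h₀ ∈ (Sq : Subgroup S), h₀ ≠ 1 := by
    have h0 : (Sq : Subgroup S) ≠ ⊥ := by
      intro h
      have h' : Nat.card (Sq : Subgroup S) = q := hSq
      rw [h, Subgroup.card_bot] at h'; exact hq.one_lt.ne h'
    obtain ⟨a, ha⟩ := Subgroup.ne_bot_iff_exists_ne_one.1 h0
    exact ⟨a, a.2, fun h => ha (Subtype.ext h)⟩
  have hgen : ∀ h ∈ (Sq : Subgroup S), h ≠ 1 → ∀ k ∈ (Sq : Subgroup S), k ∈ Subgroup.zpowers h := by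
    intro h hh h1 k hk
    have := mem_zpowers_of_prime_card hSq (g := (⟨h, hh⟩ : (Sq : Subgroup S))) (g' := ⟨k, hk⟩)
      (fun e => h1 (congrArg Subtype.val e))
    obtain ⟨j, hj⟩ := Subgroup.mem_zpowers_iff.1 this
    exact Subgroup.mem_zpowers_iff.2 ⟨j, by simpa using congrArg Subtype.val hj⟩
  have htw : ∀ h ∈ (Sq : Subgroup S), h ≠ 1 → ∀ ψ : P →* KK, ψ ≠ 1 → tw P h ψ ≠ ψ := by
    intro h hh h1 ψ hψ hfix
    apply hψ
    let St : Subgroup S :=
      { carrier := {g | tw P g ψ = ψ}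
        one_mem' := tw_one P ψ
        mul_mem' := fun {a b} ha hb => by show tw P (a * b) ψ = ψ; rw [tw_mul, hb, ha]
        inv_mem' := fun {a} ha => by
          show tw P a⁻¹ ψ = ψ
          conv_lhs => rw [← ha]
          rw [← tw_mul, inv_mul_cancel, tw_one] }
    have hSqSt : ∀ k ∈ (Sq : Subgroup S), tw P k ψ = ψ := fun k hk =>
      (Subgroup.zpowers_le (H := St)).2 hfix (hgen h hh h1 k hk)
    have hle : ⁅P, (Sq : Subgroup S)⁆ ≤ (MonoidHom.toHomUnits ψ).ker.map P.subtype := by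
      rw [Subgroup.commutator_le]
      intro x hx k hk
      have hk' : k * x⁻¹ * k⁻¹ ∈ P := hSpN.conj_mem _ (P.inv_mem hx) k
      refine ⟨⟨x, hx⟩ * ⟨_, hk'⟩, ?_, by simp [commutatorElement_def, mul_assoc]⟩
      refine MonoidHom.mem_ker.2 (Units.ext ?_)
      show ψ _ = 1
      have h2 : ψ ⟨_, hk'⟩ = ψ ⟨x, hx⟩⁻¹ := by
        conv_lhs => rw [← hSqSt k hk]
        rw [tw_apply]
        congr 1
        exact Subtype.ext (by simp [MulAut.conjNormal_apply, mul_assoc])
      rw [map_mul, h2, ← map_mul, mul_inv_cancel, map_one]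
    change ⁅P, (Sq : Subgroup S)⁆ = P at hcomm
    rw [hcomm] at hle
    refine MonoidHom.ext fun x => ?_
    obtain ⟨y, hy, hy'⟩ := hle x.2
    rw [show x = y from Subtype.ext hy'.symm]
    exact congrArg Units.val (MonoidHom.mem_ker.1 hy)
  have hχ1 : ∀ (u : Ext E) (ψ : P →* KK), u ≠ 0 → (∀ x : P, A x u = ψ x • u) → ψ ≠ 1 := by
    intro u ψ hu hψ h1
    exact hu (hPfixK u fun x hx => by rw [hψ ⟨x, hx⟩, h1]; simp)
  have heig : ∀ (g : S) (u : Ext E) (ψ : P →* KK), (∀ x : P, A x u = ψ x • u) →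
      ∀ x : P, A x (A g u) = tw P g ψ x • A g u := by
    intro g u ψ hψ x
    have e : (x : S) * g = g * (((MulAut.conjNormal g⁻¹ : MulAut P) x : P) : S) := by
      simp [MulAut.conjNormal_apply, mul_assoc]
    rw [← hgrp, e, hgrp, hψ, map_smul]
    rfl
  -- orbits of the Sylow 2-subgroup
  set R : Subgroup S := (S₂ : Subgroup S) with hR
  letI : Fintype R := Fintype.ofFinite _
  let O : (P →* KK) → Finset (P →* KK) := fun ψ => Finset.univ.image fun s : R => tw P s ψ
  have hOmem : ∀ ψ, ψ ∈ O ψ := fun ψ => Finset.mem_image.2 ⟨1, Finset.mem_univ _, tw_one P ψ⟩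
  have hOs : ∀ ψ φ (s : R), φ ∈ O ψ → tw P s φ ∈ O ψ := by
    intro ψ φ s hφ
    obtain ⟨t, -, rfl⟩ := Finset.mem_image.1 hφ
    exact Finset.mem_image.2 ⟨s * t, Finset.mem_univ _, by rw [Subgroup.coe_mul, tw_mul]⟩
  have hOcard : ∀ ψ, ∃ k, (O ψ).card = 2 ^ k := by
    intro ψ
    letI : MulAction R (P →* KK) :=
      { smul := fun s φ => tw P s φ
        one_smul := fun φ => tw_one P φ
        mul_smul := fun s t φ => tw_mul P s t φ }
    have h1 : (O ψ).card = (MulAction.stabilizer R ψ).index := by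
      rw [MulAction.index_stabilizer, ← Set.ncard_coe_finset]
      congr 1
      simp only [O, Finset.coe_image, Finset.coe_univ, Set.image_univ]
      rfl
    obtain ⟨k, hk⟩ := S₂.isPGroup'.index (MulAction.stabilizer R ψ)
    exact ⟨k, h1.trans hk⟩
  have hmove : ∀ h ∈ (Sq : Subgroup S), h ≠ 1 → ∀ X : Finset (P →* KK), (∀ ψ ∈ X, ψ ≠ 1) →
      (∃ k, X.card = 2 ^ k) → X.image (tw P h) ≠ X := by
    intro h hh h1 X hX ⟨k, hk⟩ heq
    let f : Equiv.Perm X :=
      Equiv.ofBijective (fun ψ => ⟨tw P h ψ, (congrArg (fun Y : Finset (P →* KK) => tw P h (ψ : P →* KK) ∈ Y) heq).mp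
          (Finset.mem_image_of_mem _ ψ.2)⟩)
        (Finite.injective_iff_bijective.1 fun a b e => Subtype.ext (tw_inj P h (congrArg Subtype.val e)))
    have hfpow : ∀ (i : ℕ) (ψ : X), (((f ^ i) ψ : X) : P →* KK) = tw P (h ^ i) ψ := by
      intro i
      induction i with
      | zero => intro ψ; simp [tw_one]
      | succ i ih =>
        intro ψ
        rw [pow_succ', Equiv.Perm.mul_apply, pow_succ', tw_mul, ← ih]
        rfl
    have hfq : f ^ q = 1 := by
      refine Equiv.ext fun ψ => Subtype.ext ?_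
      have : h ^ q = 1 := by
        have h2 := pow_card_eq_one' (G := (Sq : Subgroup S)) (x := ⟨h, hh⟩)
        rw [show Nat.card (Sq : Subgroup S) = q from hSq] at h2
        simpa using congrArg Subtype.val h2
      rw [hfpow, this, tw_one]; rfl
    have hnofix : ∀ ψ : X, f ψ ≠ ψ := fun ψ e => htw h hh h1 ψ (hX ψ ψ.2) (congrArg Subtype.val e)
    have hdvd : ¬ q ∣ Fintype.card X := by
      rw [Fintype.card_coe, hk]
      exact fun hd => hq2 ((Nat.prime_dvd_prime_iff_eq hq Nat.prime_two).1 (hq.dvd_of_dvd_pow hd))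
    obtain ⟨ψ, hψ⟩ := Equiv.Perm.exists_fixed_point_of_prime (p := q) (n := 1) hdvd (σ := f) (by rwa [pow_one])
    exact hnofix ψ hψ
  -- fixed vectors supported by one orbit
  have hfixvec : ∀ (u : Ext E) (ψ : P →* KK), u ≠ 0 → (∀ x : P, A x u = ψ x • u) →
      ∃ v : Ext E, (∀ s ∈ R, A s v = v) ∧ ∀ φ, proj P ρ φ v ≠ 0 ↔ φ ∈ O ψ := by
    intro u ψ hu hψ
    let L : (R → ZMod 2) →ₗ[ZMod 2] Ext E := Fintype.linearCombination (ZMod 2) fun s : R => A s u
    have hinv : ∀ (t : R) (v : Ext E), v ∈ LinearMap.range L → A t v ∈ LinearMap.range L := by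
      rintro t _ ⟨c, rfl⟩
      refine ⟨fun s => c (t⁻¹ * s), ?_⟩
      simp only [L, Fintype.linearCombination_apply, map_sum]
      refine (Fintype.sum_equiv (Equiv.mulLeft t) _ _ fun s => ?_).symm
      show A t (c s • A s u) = c (t⁻¹ * (t * s)) • A ((t * s : R) : S) u
      rw [inv_mul_cancel_left, Subgroup.coe_mul, hgrp, LinearMap.map_smul_of_tower]
    haveI : Finite (LinearMap.range L) := Finite.of_surjective L.rangeRestrict L.surjective_rangeRestrict
    letI : MulAction R (LinearMap.range L) :=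
      { smul := fun t v => ⟨A t v, hinv t v v.2⟩
        one_smul := fun v => Subtype.ext (by show A ((1 : R) : S) (v : Ext E) = v; rw [Subgroup.coe_one, map_one]; rfl)
        mul_smul := fun a b v => Subtype.ext (hgrp a b v) }
    have h2 : (2 : ℕ) ∣ Nat.card (LinearMap.range L) := by
      haveI : Nontrivial (LinearMap.range L) := by
        refine ⟨⟨⟨u, Pi.single 1 1, ?_⟩, 0, fun e => hu (congrArg Subtype.val e)⟩⟩
        simp [L, Fintype.linearCombination_apply, Pi.single_apply, ite_smul, A]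
      rw [Module.natCard_eq_pow_finrank (K := ZMod 2), Nat.card_zmod]
      exact dvd_pow_self 2 (Module.finrank_pos (R := ZMod 2)).ne'
    obtain ⟨v, hv, hv0⟩ := S₂.isPGroup'.exists_fixed_point_of_prime_dvd_card_of_fixed_point
      (LinearMap.range L) h2 (a := 0) (fun t => Subtype.ext (map_zero (A (t : S))))
    have hvfix : ∀ s ∈ R, A s (v : Ext E) = v := fun s hs => congrArg Subtype.val (hv ⟨s, hs⟩)
    refine ⟨v, hvfix, fun φ => ?_⟩
    have hproj : ∀ (φ : P →* KK) (s : R), proj P ρ φ (A s u) =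
        (if φ = tw P s ψ then (Fintype.card P : KK) else 0) • A s u := fun φ s =>
      proj_eig P ρ φ _ _ (heig s u ψ hψ)
    obtain ⟨c, hc⟩ := v.2
    have hzero : φ ∉ O ψ → proj P ρ φ (v : Ext E) = 0 := by
      intro hφ
      rw [← hc, Fintype.linearCombination_apply, map_sum]
      refine Finset.sum_eq_zero fun s _ => ?_
      rw [LinearMap.map_smul_of_tower, hproj,
        if_neg fun e => hφ (Finset.mem_image.2 ⟨s, Finset.mem_univ _, e.symm⟩), zero_smul, smul_zero]
    refine ⟨fun h => not_imp_comm.1 hzero h, fun hφ h0 => ?_⟩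
    -- all components vanish
    have hall : ∀ φ' ∈ O ψ, proj P ρ φ' (v : Ext E) = 0 := by
      intro φ' hφ'
      obtain ⟨s, -, rfl⟩ := Finset.mem_image.1 hφ
      obtain ⟨t, -, rfl⟩ := Finset.mem_image.1 hφ'
      have h3 := act_proj P ρ ((t * s⁻¹ : R) : S) (tw P s ψ) (v : Ext E)
      rw [← tw_mul, ← Subgroup.coe_mul, inv_mul_cancel_right, hvfix _ (t * s⁻¹).2, h0, map_zero] at h3
      exact h3.symm
    have hsum : (∑ φ' ∈ O ψ, proj P ρ φ' (v : Ext E)) = (Fintype.card P : KK) • (v : Ext E) := by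
      rw [← hc, Fintype.linearCombination_apply, Finset.smul_sum]
      rw [Finset.sum_congr rfl fun φ' _ => map_sum (proj P ρ φ') _ _, Finset.sum_comm]
      refine Finset.sum_congr rfl fun s _ => ?_
      rw [Finset.sum_congr rfl fun φ' _ => show proj P ρ φ' (c s • A s u) = c s • proj P ρ φ' (A s u) from
        LinearMap.map_smul_of_tower _ _ _, ← Finset.smul_sum, smul_comm (Fintype.card P : KK)]
      congr 1
      rw [Finset.sum_congr rfl fun φ' _ => hproj φ' s, ← Finset.sum_smul, Finset.sum_ite_eq',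
        if_pos (Finset.mem_image.2 ⟨s, Finset.mem_univ _, rfl⟩ : tw P s ψ ∈ O ψ)]
    rw [Finset.sum_eq_zero hall] at hsum
    exact hv0 (Subtype.ext ((smul_eq_zero.1 hsum.symm).resolve_left hPK).symm)
  -- two orbits
  have hne1 : ∀ ψ : P →* KK, ψ ≠ 1 → ∀ φ ∈ O ψ, φ ≠ 1 := by
    intro ψ hψ φ hφ h1
    obtain ⟨s, -, rfl⟩ := Finset.mem_image.1 hφ
    exact hψ (tw_inj P s (h1.trans (by ext x; rfl)))
  have hχ := hχ1 w χ hw0 hw
  obtain ⟨φ₁, hφ₁, hφ₁'⟩ : ∃ φ₁ ∈ O χ, tw P h₀ φ₁ ∉ O χ := by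
    by_contra h
    push Not at h
    refine hmove h₀ hh₀ hh₀1 (O χ) (hne1 χ hχ) (hOcard χ) (Finset.eq_of_subset_of_card_le ?_ ?_)
    · intro ψ hψ
      obtain ⟨φ, hφ, rfl⟩ := Finset.mem_image.1 hψ
      exact h φ hφ
    · rw [Finset.card_image_of_injective _ (tw_inj P h₀)]
  obtain ⟨s₁, -, rfl⟩ := Finset.mem_image.1 hφ₁
  set χ₂ := tw P h₀ (tw P s₁ χ) with hχ₂
  set w₂ := A h₀ (A s₁ w) with hw₂'
  have hw₂ : ∀ x : P, A x w₂ = χ₂ x • w₂ := heig h₀ _ _ (heig s₁ w χ hw)
  have hAinj : ∀ g : S, Function.Injective (A g) := fun g a b e => by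
    have := congrArg (A g⁻¹) e
    rwa [app_inv_self, app_inv_self] at this
  have hw₂0 : w₂ ≠ 0 := fun e => hw0 (hAinj s₁ ((hAinj h₀ (e.trans (map_zero (A h₀)).symm)).trans (map_zero (A (s₁ : S))).symm))
  obtain ⟨v₁, hv₁, hsupp₁⟩ := hfixvec w χ hw0 hw
  obtain ⟨v₂, hv₂, hsupp₂⟩ := hfixvec w₂ χ₂ hw₂0 hw₂
  have hdisj : ∀ φ, φ ∈ O χ → φ ∉ O χ₂ := by
    intro φ h1 h2
    apply hφ₁'
    obtain ⟨s, -, rfl⟩ := Finset.mem_image.1 h2
    have := hOs χ _ s⁻¹ h1
    rwa [← tw_mul, ← Subgroup.coe_mul, inv_mul_cancel, Subgroup.coe_one, tw_one] at this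
  have hli : LinearIndependent KK ![v₁, v₂] := by
    refine LinearIndependent.pair_iff.2 fun a b hab => ⟨?_, ?_⟩
    · have h1 := congrArg (proj P ρ χ) hab
      rw [map_add, map_smul, map_smul, map_zero, show proj P ρ χ v₂ = 0 from
        by_contra fun h => hdisj χ (hOmem χ) ((hsupp₂ χ).1 h), smul_zero, add_zero] at h1
      exact (smul_eq_zero.1 h1).resolve_right ((hsupp₁ χ).2 (hOmem χ))
    · have h1 := congrArg (proj P ρ χ₂) hab
      rw [map_add, map_smul, map_smul, map_zero, show proj P ρ χ₂ v₁ = 0 from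
        by_contra fun h => hdisj χ₂ ((hsupp₁ χ₂).1 h) (hOmem χ₂), smul_zero, zero_add] at h1
      exact (smul_eq_zero.1 h1).resolve_right ((hsupp₂ χ₂).2 (hOmem χ₂))
  set d := Module.finrank (ZMod 2) (fixE ρ R) with hd
  let b : Module.Basis (Fin d) (ZMod 2) (fixE ρ R) := Module.finBasis (ZMod 2) (fixE ρ R)
  let F := Submodule.span KK (Set.range fun i => ev ((b i : fixE ρ R) : E))
  haveI : FiniteDimensional KK F := FiniteDimensional.span_of_finite KK (Set.finite_range _)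
  have hspan : Submodule.span KK (Set.range ![v₁, v₂]) ≤ F := by
    rw [Submodule.span_le]
    rintro _ ⟨i, rfl⟩
    fin_cases i
    · exact fix_mem_span ρ R b v₁ hv₁
    · exact fix_mem_span ρ R b v₂ hv₂
  have hFd : Module.finrank KK F ≤ d := by
    refine (finrank_range_le_card (R := KK) (fun i => ev ((b i : fixE ρ R) : E))).trans ?_
    rw [Fintype.card_fin]
  have h2le : Module.finrank KK (Submodule.span KK (Set.range ![v₁, v₂])) = 2 := by
    rw [finrank_span_eq_card hli, Fintype.card_fin]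
  have hd2 : 2 ≤ d := by
    have := Submodule.finrank_mono hspan
    omega
  have hcard : Nat.card {v : E // ∀ s ∈ (S₂ : Subgroup S), ρ s v = v} = 2 ^ d := by
    rw [hd, show Nat.card {v : E // ∀ s ∈ (S₂ : Subgroup S), ρ s v = v} = Nat.card (fixE ρ R) from rfl,
      Module.natCard_eq_pow_finrank (K := ZMod 2), Nat.card_zmod]
  rw [hcard]
  rcases Nat.lt_or_ge 2 d with h3 | h3
  · left
    calc 8 = 2 ^ 3 := rfl
      _ ≤ 2 ^ d := Nat.pow_le_pow_right two_pos h3
  right
  have hd' : d = 2 := by omega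
  refine ⟨by rw [hd']; rfl, h₀, hh₀, ?_⟩
  by_contra hcon
  push Not at hcon
  have hFeq : Submodule.span KK (Set.range ![v₁, v₂]) = F :=
    Submodule.eq_of_le_of_finrank_le hspan (by omega)
  have hFinv : ∀ f ∈ F, A h₀ f ∈ F := by
    intro f hf
    induction hf using Submodule.span_induction with
    | mem x hx =>
      obtain ⟨i, rfl⟩ := hx
      change A h₀ (ev ((b i : fixE ρ R) : E)) ∈ F
      rw [show A h₀ (ev ((b i : fixE ρ R) : E)) = ev (ρ h₀ (b i : E)) from rfl]
      refine fix_mem_span ρ R b _ fun s hs => ?_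
      rw [act_ev]
      exact congrArg ev (hcon _ (b i).2 s hs)
    | zero => rw [map_zero]; exact F.zero_mem
    | add x y _ _ hx hy => rw [map_add]; exact F.add_mem hx hy
    | smul c x _ hx => rw [map_smul]; exact F.smul_mem c hx
  have hcomb : ∀ f ∈ F, ∃ a c : KK, f = a • v₁ + c • v₂ := by
    intro f hf
    rw [show f ∈ F ↔ f ∈ Submodule.span KK (Set.range ![v₁, v₂]) by rw [hFeq], Matrix.range_cons, Matrix.range_cons, Matrix.range_empty] at hf
    simp only [Set.union_empty, Set.singleton_union] at hf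
    obtain ⟨a, c, h⟩ := Submodule.mem_span_pair.1 hf
    exact ⟨a, c, h.symm⟩
  have himg : ∀ (g : S) (v : Ext E) (X : Finset (P →* KK)), (∀ φ, proj P ρ φ v ≠ 0 ↔ φ ∈ X) →
      ∀ φ, proj P ρ φ (A g v) ≠ 0 ↔ φ ∈ X.image (tw P g) := by
    intro g v X hX φ
    obtain ⟨φ', rfl⟩ : ∃ φ', tw P g φ' = φ := ⟨tw P g⁻¹ φ, by rw [← tw_mul, mul_inv_cancel, tw_one]⟩
    rw [← act_proj, (tw_inj P g).mem_finset_image, ← hX φ']
    exact (map_ne_zero_iff _ (hAinj g))
  have hmv : ∀ ψ : P →* KK, ψ ≠ 1 → (O ψ).image (tw P h₀) ≠ O ψ := fun ψ hψ =>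
    hmove h₀ hh₀ hh₀1 (O ψ) (hne1 ψ hψ) (hOcard ψ)
  have hcs : ∀ ψ, ((O ψ).image (tw P h₀)).card = (O ψ).card := fun ψ =>
    Finset.card_image_of_injective _ (tw_inj P h₀)
  have hsub : ∀ (v : Ext E) (a c : KK) (X : Finset (P →* KK)), (∀ φ, proj P ρ φ v ≠ 0 ↔ φ ∈ X) →
      v = a • v₁ + c • v₂ → (a ≠ 0 → O χ ⊆ X) ∧ (c ≠ 0 → O χ₂ ⊆ X) ∧ (a = 0 → X ⊆ O χ₂) := by
    intro v a c X hX hv
    have e1 : ∀ φ ∈ O χ, proj P ρ φ v₂ = 0 := fun φ h => by_contra fun h' => hdisj φ h ((hsupp₂ φ).1 h')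
    have e2 : ∀ φ ∈ O χ₂, proj P ρ φ v₁ = 0 := fun φ h => by_contra fun h' => hdisj φ ((hsupp₁ φ).1 h') h
    refine ⟨fun ha φ hφ => (hX φ).1 ?_, fun hc φ hφ => (hX φ).1 ?_, fun ha φ hφ => ?_⟩
    · rw [hv, map_add, map_smul, map_smul, e1 φ hφ, smul_zero, add_zero]
      exact smul_ne_zero ha ((hsupp₁ φ).2 hφ)
    · rw [hv, map_add, map_smul, map_smul, e2 φ hφ, smul_zero, zero_add]
      exact smul_ne_zero hc ((hsupp₂ φ).2 hφ)
    · refine (hsupp₂ φ).1 fun h => (hX φ).2 hφ ?_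
      rw [hv, ha, zero_smul, zero_add, map_smul, h, smul_zero]
  have hχ₂1 : χ₂ ≠ 1 := hχ1 w₂ χ₂ hw₂0 hw₂
  obtain ⟨a, c, h1⟩ := hcomb _ (hFinv v₁ (fix_mem_span ρ R b v₁ hv₁))
  obtain ⟨a', c', h2⟩ := hcomb _ (hFinv v₂ (fix_mem_span ρ R b v₂ hv₂))
  obtain ⟨p1, p2, p3⟩ := hsub _ a c _ (himg h₀ v₁ _ hsupp₁) h1
  obtain ⟨q1, q2, q3⟩ := hsub _ a' c' _ (himg h₀ v₂ _ hsupp₂) h2
  have ha0 : a = 0 := by
    by_contra ha
    exact hmv χ hχ (Finset.eq_of_subset_of_card_le (p1 ha) (hcs χ).le).symm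
  have hc0 : c ≠ 0 := by
    intro hc
    rw [ha0, hc, zero_smul, zero_smul, zero_add] at h1
    have := hAinj h₀ (h1.trans (map_zero (A h₀)).symm)
    exact (hsupp₁ χ).2 (hOmem χ) (by rw [this, map_zero])
  have hI : (O χ).image (tw P h₀) = O χ₂ := Finset.Subset.antisymm (p3 ha0) (p2 hc0)
  have ha'0 : a' ≠ 0 := by
    intro ha'
    exact hmv χ₂ hχ₂1 (Finset.eq_of_subset_of_card_le (q3 ha') (hcs χ₂).ge)
  have hII : (O χ₂).image (tw P h₀) = O χ := by
    refine (Finset.eq_of_subset_of_card_le (q1 ha'0) (le_of_eq ?_)).symm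
    rw [hcs, ← hI, hcs]
  have hh2 : h₀ * h₀ ≠ 1 := by
    intro h
    have h2 : orderOf (⟨h₀, hh₀⟩ : (Sq : Subgroup S)) ∣ 2 := orderOf_dvd_of_pow_eq_one (Subtype.ext (by simpa [pow_two] using h))
    have h3 : orderOf (⟨h₀, hh₀⟩ : (Sq : Subgroup S)) ∣ q := by
      have h9 := orderOf_dvd_natCard (⟨h₀, hh₀⟩ : (Sq : Subgroup S))
      rwa [show Nat.card (Sq : Subgroup S) = q from hSq] at h9
    have h4 := Nat.dvd_gcd h2 h3
    rw [((Nat.coprime_primes Nat.prime_two hq).2 (Ne.symm hq2)).gcd_eq_one, Nat.dvd_one, orderOf_eq_one_iff] at h4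
    exact hh₀1 (congrArg Subtype.val h4)
  refine hmove (h₀ * h₀) ((Sq : Subgroup S).mul_mem hh₀ hh₀) hh2 (O χ) (hne1 χ hχ) (hOcard χ) ?_
  rw [show tw P (h₀ * h₀) = tw P h₀ ∘ tw P h₀ from funext fun φ => tw_mul P h₀ h₀ φ, ← Finset.image_image, hI, hII]

end Cfsg.Agent.S4414
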