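import Cfsg.Statements.S4415
import Cfsg.Agent.Lib.Linear.CubicOuter

set_option autoImplicit false
open Cfsg

namespace Cfsg.Agent.S4415

/-- Let S be a finite solvable group acting faithfully on a finite-dimensional space E over the field with three elements, with O₃(S) = 1. Let B ≤ S have order 3 and suppose: E = E₀ ⊕ E₁ with B fixing E₁ pointwise, E₀ B-invariant of order 27 and indecomposable under B (a generator of B has a single Jordan block on E₀); B normalizes but does not centralize some subgroup Q of S that is elementary abelian of order 4; and B is the centre of a Sylow 3-subgroup of S. Put R = [O_{3'}(S), B]. Then R is elementary abelian of order 4 or extraspecial of order 32 containing an elementary abelian subgroup of order 8 (a central product of two quaternion groups), and E is the direct sum of a subspace fixed pointwise by R and an RB-invariant subspace on which the subgroup RB acts faithfully and irreducibly.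 -/
theorem result {S : Type*} [Group S] [Finite S]
    [Group.IsSolvable S] {E : Type*} [AddCommGroup E] [Module (ZMod 3) E] [Finite E] (ρ : Representation (ZMod 3) S E)
    (hfaith : Function.Injective ρ) (hO3 : Cfsg.pCore 3 S = ⊥)
    (B : Subgroup S) (hB : Nat.card ↥B = 3) (b : S) (hb : Subgroup.zpowers b = B)
    (E₀ E₁ : Submodule (ZMod 3) E) (hE01 : E₀ ⊓ E₁ = ⊥) (hE01' : E₀ ⊔ E₁ = ⊤)
    (hE1 : ∀ v ∈ E₁, ρ b v = v) (hE0inv : ∀ v ∈ E₀, ρ b v ∈ E₀) (hE0 : Nat.card ↥E₀ = 27)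
    (hind : ∃ v ∈ E₀, ρ b (ρ b v - v) - (ρ b v - v) ≠ 0)
    (Q : Subgroup S) (hQ : Cfsg.IsElementaryAbelian 2 Q) (hQ4 : Nat.card ↥Q = 4)
    (hBQ : B ≤ Subgroup.normalizer (Q : Set S)) (hBQ' : ¬ B ≤ Subgroup.centralizer (Q : Set S))
    (P : Sylow 3 S) (hBZ : (Subgroup.center ↥(P : Subgroup S)).map (P : Subgroup S).subtype = B) :
    ((Cfsg.IsElementaryAbelian 2 ⁅Cfsg.pPrimeCore 3 S, B⁆ ∧ Nat.card ↥⁅Cfsg.pPrimeCore 3 S, B⁆ = 4) ∨
      (Cfsg.IsExtraspecial 2 ↥⁅Cfsg.pPrimeCore 3 S, B⁆ ∧ Nat.card ↥⁅Cfsg.pPrimeCore 3 S, B⁆ = 32 ∧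
        ∃ A : Subgroup S, A ≤ ⁅Cfsg.pPrimeCore 3 S, B⁆ ∧ Cfsg.IsElementaryAbelian 2 A ∧ Nat.card ↥A = 8)) ∧
    ∃ F₀ F₁ : Submodule (ZMod 3) E, F₀ ⊓ F₁ = ⊥ ∧ F₀ ⊔ F₁ = ⊤ ∧
      (∀ r ∈ ⁅Cfsg.pPrimeCore 3 S, B⁆, ∀ v ∈ F₁, ρ r v = v) ∧ (∀ r ∈ ⁅Cfsg.pPrimeCore 3 S, B⁆ ⊔ B, ∀ v ∈ F₀, ρ r v ∈ F₀) ∧
      (∀ r ∈ ⁅Cfsg.pPrimeCore 3 S, B⁆ ⊔ B, (∀ v ∈ F₀, ρ r v = v) → r = 1) ∧
      (∀ N : Submodule (ZMod 3) E, N ≤ F₀ → (∀ r ∈ ⁅Cfsg.pPrimeCore 3 S, B⁆ ⊔ B, ∀ v ∈ N, ρ r v ∈ N) → N = ⊥ ∨ N = F₀) := by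
  have hb3 : b ^ 3 = 1 := by
    have hord : orderOf b = 3 := by rw [← Nat.card_zpowers, hb, hB]
    rw [← hord, pow_orderOf_eq_one]
  have hbB : b ∈ B := hb ▸ Subgroup.mem_zpowers b
  -- the rank
  have hrank : Nat.card (LinearMap.range (ρ b - 1)) ≤ 9 := by
    have hle : LinearMap.range (ρ b - 1) ≤ Submodule.map (ρ b - 1) E₀ := by
      rintro _ ⟨w, rfl⟩
      obtain ⟨w₀, h0, w₁, h1, rfl⟩ :=
        Submodule.mem_sup.1 (hE01' ▸ Submodule.mem_top : w ∈ E₀ ⊔ E₁)
      refine ⟨w₀, h0, ?_⟩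
      have hz : (ρ b - 1) w₁ = 0 := by
        rw [LinearMap.sub_apply, Module.End.one_apply, hE1 w₁ h1, sub_self]
      rw [map_add, hz, add_zero]
    refine (Nat.card_mono (Set.toFinite _) hle).trans ?_
    -- the kernel on `E₀` is not trivial
    let f : E₀ →ₗ[ZMod 3] E := (ρ b - 1).comp E₀.subtype
    have hf : LinearMap.range f = Submodule.map (ρ b - 1) E₀ := by
      rw [LinearMap.range_comp, Submodule.range_subtype]
    have hbb : ∀ w, ρ b (ρ b (ρ b w)) = w := fun w => by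
      rw [← Module.End.mul_apply, ← Module.End.mul_apply, ← map_mul, ← map_mul, ← pow_three', hb3,
        map_one, Module.End.one_apply]
    have hker : LinearMap.ker f ≠ ⊥ := by
      obtain ⟨v, hv, hne⟩ := hind
      intro hk
      refine hne ?_
      have hmem : ρ b (ρ b v - v) - (ρ b v - v) ∈ E₀ :=
        sub_mem (hE0inv _ (sub_mem (hE0inv _ hv) hv)) (sub_mem (hE0inv _ hv) hv)
      have h1 : f ⟨_, hmem⟩ = 0 := by
        simp only [f, LinearMap.comp_apply, Submodule.subtype_apply, LinearMap.sub_apply,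
          Module.End.one_apply, map_sub, hbb]
        have h3 : ∀ x : E, x + x + x = 0 := fun x => add_eq_right.1 (Cfsg.Lib.CubicFour.four_smul x)
        calc v - ρ b (ρ b v) - (ρ b (ρ b v) - ρ b v) - (ρ b (ρ b v) - ρ b v - (ρ b v - v))
            = (ρ b v + ρ b v + ρ b v) - (ρ b (ρ b v) + ρ b (ρ b v) + ρ b (ρ b v)) := by abel
          _ = 0 := by rw [h3, h3, sub_zero]
      have := LinearMap.mem_ker.2 h1
      rw [hk, Submodule.mem_bot] at this
      exact congrArg Subtype.val this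
    have hr := f.finrank_range_add_finrank_ker
    have h3 : Module.finrank (ZMod 3) E₀ = 3 := by
      have := Module.natCard_eq_pow_finrank (K := ZMod 3) (V := E₀)
      rw [hE0, Nat.card_zmod] at this
      exact (Nat.pow_right_injective (by norm_num : 2 ≤ 3) this).symm
    have hk1 : 1 ≤ Module.finrank (ZMod 3) (LinearMap.ker f) :=
      Nat.one_le_iff_ne_zero.2 fun h0 => hker (Submodule.finrank_eq_zero.1 h0)
    rw [← hf, Module.natCard_eq_pow_finrank (K := ZMod 3), Nat.card_zmod]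
    calc 3 ^ Module.finrank (ZMod 3) (LinearMap.range f) ≤ 3 ^ 2 :=
          Nat.pow_le_pow_right (by norm_num) (by omega)
      _ = 9 := by norm_num
  -- the four-group
  have hnor : ∀ x ∈ Q, b * x * b⁻¹ ∈ Q := fun x hx =>
    (Subgroup.mem_normalizer_iff.1 (hBQ hbB) x).1 hx
  have hnc : ∃ x ∈ Q, b * x ≠ x * b := by
    by_contra hc
    push Not at hc
    refine hBQ' ?_
    rw [← hb, Subgroup.zpowers_le, Subgroup.mem_centralizer_iff]
    exact fun x hx => (hc x hx).symm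
  obtain ⟨q, -, hq⟩ := Cfsg.Lib.CubicOuter.exists_isFour hQ hQ4 hb3 hnor hnc
  -- `b` is central in `P`
  obtain ⟨b', hb', hbb'⟩ := Subgroup.mem_map.1 (hBZ.symm ▸ hbB :
    b ∈ (Subgroup.center ↥(P : Subgroup S)).map (P : Subgroup S).subtype)
  have hbP : b ∈ P := hbb' ▸ b'.2
  have hbc : ∀ x ∈ P, b * x = x * b := fun x hx => by
    rw [← hbb']
    exact congrArg Subtype.val (Subgroup.mem_center_iff.1 hb' ⟨x, hx⟩).symm
  subst hb
  exact Cfsg.Lib.CubicOuter.main ρ hfaith hb3 hrank hq P hbP hbc _ rfl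

end Cfsg.Agent.S4415
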