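import Cfsg.Statements.S4416
import Cfsg.Agent.Lib.PGroup.ExtraspecialClassify

set_option autoImplicit false
open Cfsg

namespace Cfsg.Agent.S4416

/-- Classification of extraspecial 2-groups in intrinsic form. An extraspecial 2-group has order 2^(2m+1) for some m ≥ 1, and the number of its elements squaring to the identity is either 2^(2m) + 2^m or 2^(2m) − 2^m; two extraspecial 2-groups of the same order with the same number of such elements are isomorphic. (The two cases are the central products of m dihedral groups of order 8, and of m − 1 dihedral groups with one quaternion group.) -/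
theorem result (E : Type*) [Group E] [Finite E] (hE : Cfsg.IsExtraspecial 2 E) :
    (∃ m : ℕ, 1 ≤ m ∧ Nat.card E = 2 ^ (2 * m + 1) ∧
      (Nat.card {x : E // x ^ 2 = 1} = 2 ^ (2 * m) + 2 ^ m ∨ Nat.card {x : E // x ^ 2 = 1} = 2 ^ (2 * m) - 2 ^ m)) ∧
    ∀ (E' : Type*) [Group E'] [Finite E'], Cfsg.IsExtraspecial 2 E' → Nat.card E' = Nat.card E →
      Nat.card {x : E' // x ^ 2 = 1} = Nat.card {x : E // x ^ 2 = 1} → Nonempty (E ≃* E') := by
  haveI : Fact (Nat.Prime 2) := ⟨Nat.prime_two⟩
  obtain ⟨z, L, s, k, hl, c, d⟩ := Cfsg.Lib.Extraspecial.two_kinds hE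
  refine ⟨⟨L.length, hl, c, ?_⟩, fun E' _ _ hE' hcard hinv => ?_⟩
  · rcases d with d | d
    · exact Or.inl d.2
    · exact Or.inr d.2
  obtain ⟨z', L', s', k', -, c', d'⟩ := Cfsg.Lib.Extraspecial.two_kinds hE'
  have hlen : L.length = L'.length := by
    have := Nat.pow_right_injective (le_refl 2) (c.symm.trans (hcard.symm.trans c')); omega
  have h1 : 2 ^ L.length ≤ 2 ^ (2 * L.length) := Nat.pow_le_pow_right (by norm_num) (by omega)
  have h2 : 0 < 2 ^ L.length := Nat.two_pow_pos _
  rcases d with d | d <;> rcases d' with d' | d'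
  · exact Cfsg.Lib.Extraspecial.equiv_DD s s' k k' hlen d.1 d'.1
  · exfalso
    rw [d.2, d'.2, ← hlen] at hinv
    omega
  · exfalso
    rw [d.2, d'.2, ← hlen] at hinv
    omega
  · exact Cfsg.Lib.Extraspecial.equiv_QQ s s' k k' hlen d.1 d'.1

end Cfsg.Agent.S4416
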