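import Cfsg.Statements.S4417
import Cfsg.Agent.S4010
import Cfsg.Agent.S4015

set_option linter.style.haveILetI false

set_option autoImplicit false
open Cfsg

namespace Cfsg.Agent.S4417

/-- Let F be a field with q elements, p a prime not dividing q, and e the multiplicative order of q modulo p; assume e ≤ n. Then every p-subgroup of GL_n(F) has derived length at most ⌊log₂(n/e)⌋ + 1: that term of its derived series is trivial (n/e is the integer quotient). -/
theorem result {F : Type*} [Field F] [Fintype F] (q : ℕ) (hF : Fintype.card F = q) (p : ℕ) [Fact p.Prime] (hpq : ¬ p ∣ q) (n e : ℕ) (he : e = orderOf (q : ZMod p)) (hen : e ≤ n) (P : Subgroup (GL (Fin n) F)) (hP : IsPGroup p P) : derivedSeries ↥P (Nat.log 2 (n / e) + 1) = ⊥ := by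
  classical
  have hpp : p.Prime := Fact.out
  by_cases h2 : p = 2
  · subst h2
    have hq0 : (q : ZMod 2) = 1 := by
      rw [← Nat.cast_one, ZMod.natCast_eq_natCast_iff', Nat.one_mod]
      omega
    have he1 : e = 1 := by rw [he, hq0, orderOf_one]
    subst he1
    rw [Nat.div_one]
    exact Cfsg.Agent.S4010.result 2 hP F n hen P.subtype P.subtype_injective
  · obtain ⟨T, hT⟩ := hP.exists_le_sylow
    have hb := (Cfsg.Agent.S4015.result p h2 F q hF hpq n (he ▸ hen) T).1
    rw [← he] at hb
    have hle : Nat.log p (n / e) + 1 ≤ Nat.log 2 (n / e) + 1 :=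
      Nat.add_le_add_right (Nat.log_anti_left (by norm_num) hpp.two_le) 1
    rw [eq_bot_iff]
    intro x hx
    have h1 : Subgroup.inclusion hT x ∈ derivedSeries ↥(T : Subgroup (GL (Fin n) F)) (Nat.log p (n / e) + 1) :=
      derivedSeries_antitone _ hle (map_derivedSeries_le_derivedSeries (Subgroup.inclusion hT) _ ⟨x, hx, rfl⟩)
    rw [hb, Subgroup.mem_bot] at h1
    exact Subgroup.mem_bot.2 (Subgroup.inclusion_injective hT (by rw [h1, map_one]))

end Cfsg.Agent.S4417
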