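import Cfsg.Statements.S4419
import Cfsg.Agent.Lib.Core.Cores
import Cfsg.Agent.Lib.PGroup.FrattiniStab
import Cfsg.Agent.Lib.PGroup.Huppert
import Cfsg.Agent.Lib.Fusion.Alperin

set_option autoImplicit false
open Cfsg

namespace Cfsg.Agent.S4419


open Cfsg.Lib

/-- A `p'`-automorphism of order prime to `p ^ 2 - 1` of a `p`-group with small Frattini quotient
is trivial. -/
theorem aut_eq_one {p : ℕ} [hp : Fact p.Prime] {Q : Type*} [Group Q] [Finite Q] (hQ : IsPGroup p Q)
    (hV : Nat.card (Q ⧸ frattini Q) ≤ p ^ 2) (α : MulAut Q) (h1 : (orderOf α).Coprime p)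
    (h2 : (orderOf α).Coprime (p ^ 2 - 1)) : α = 1 := by
  classical
  by_contra hne
  obtain ⟨r, hr, hrd⟩ := Nat.exists_prime_and_dvd (n := orderOf α) (by
    rwa [Ne, orderOf_eq_one_iff])
  haveI : Fact r.Prime := ⟨hr⟩
  haveI : Finite (MulAut Q) := Finite.of_injective (fun a : MulAut Q => (a : Q → Q))
    DFunLike.coe_injective
  set β := α ^ (orderOf α / r) with hβdef
  have hβ : orderOf β = r := orderOf_pow_orderOf_div (orderOf_pos α).ne' hrd
  have hrp : ¬ r ∣ p := fun h => hr.ne_one (Nat.eq_one_of_dvd_coprimes h1 hrd h)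
  have hr2 : ¬ r ∣ p ^ 2 - 1 := fun h => hr.ne_one (Nat.eq_one_of_dvd_coprimes h2 hrd h)
  -- the action on the Frattini quotient
  have hmap : ∀ γ : MulAut Q, (frattini Q).map γ.toMonoidHom = frattini Q := fun γ =>
    Subgroup.characteristic_iff_map_eq.mp inferInstance γ
  let φ : MulAut Q →* MulAut (Q ⧸ frattini Q) :=
    { toFun := fun γ => QuotientGroup.congr (frattini Q) (frattini Q) γ (hmap γ)
      map_one' := MulEquiv.ext fun v => by
        obtain ⟨x, rfl⟩ := QuotientGroup.mk_surjective v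
        rfl
      map_mul' := fun γ δ => MulEquiv.ext fun v => by
        obtain ⟨x, rfl⟩ := QuotientGroup.mk_surjective v
        rfl }
  have hφ : φ β = 1 := by
    let W : Subgroup (Q ⧸ frattini Q) :=
      { carrier := {v | φ β v = v}
        one_mem' := map_one _
        mul_mem' := fun {a b} (ha : φ β a = a) (hb : φ β b = b) => show φ β (a * b) = a * b by
          rw [map_mul, ha, hb]
        inv_mem' := fun {a} (ha : φ β a = a) => show φ β a⁻¹ = a⁻¹ by rw [map_inv, ha] }
    have hord : φ β ^ r = 1 := by rw [← map_pow, ← hβ, pow_orderOf_eq_one, map_one]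
    let Z : Subgroup (MulAut (Q ⧸ frattini Q)) := Subgroup.zpowers (φ β)
    have hZ : IsPGroup r Z := by
      obtain ⟨j, -, hj⟩ := (Nat.dvd_prime_pow hr).mp
        (show orderOf (φ β) ∣ r ^ 1 by rw [pow_one]; exact orderOf_dvd_of_pow_eq_one hord)
      exact IsPGroup.of_card (n := j) (by rw [Nat.card_zpowers, hj])
    have hmod := hZ.card_modEq_card_fixedPoints (α := Q ⧸ frattini Q)
    have hfix : Nat.card (MulAction.fixedPoints Z (Q ⧸ frattini Q)) = Nat.card W := by
      refine Nat.card_congr (Equiv.subtypeEquivRight fun v => ⟨fun h => ?_, fun h z => ?_⟩)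
      · exact h ⟨φ β, Subgroup.mem_zpowers _⟩
      · have hle : Subgroup.zpowers (φ β) ≤ MulAction.stabilizer (MulAut (Q ⧸ frattini Q)) v :=
          Subgroup.zpowers_le.mpr h
        exact hle z.2
    rw [hfix] at hmod
    obtain ⟨k, hk⟩ := IsPGroup.iff_card.mp (hQ.to_quotient (frattini Q))
    obtain ⟨j, hjk, hj⟩ := (Nat.dvd_prime_pow hp.out).mp (hk ▸ W.card_subgroup_dvd_card)
    have hk2 : k ≤ 2 := by
      rw [hk] at hV
      exact (Nat.pow_le_pow_iff_right hp.out.one_lt).mp hV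
    rw [hk, hj] at hmod
    have hkj : k = j := by
      by_contra hkne
      have hd : r ∣ p ^ k - p ^ j :=
        (Nat.modEq_iff_dvd' (Nat.pow_le_pow_right hp.out.pos hjk)).mp hmod.symm
      obtain ⟨i, rfl⟩ : ∃ i, k = j + i := ⟨k - j, by omega⟩
      rw [pow_add, show p ^ j * p ^ i - p ^ j = p ^ j * (p ^ i - 1) by
        rw [Nat.mul_sub, mul_one]] at hd
      rcases (Nat.Prime.dvd_mul hr).mp hd with h | h
      · exact hrp (hr.dvd_of_dvd_pow h)
      · refine hr2 (h.trans ?_)
        simpa only [one_pow] using Nat.pow_sub_pow_dvd_pow_sub_pow p 1 (by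
          have : i = 1 ∨ i = 2 := by omega
          rcases this with rfl | rfl <;> norm_num)
    have htop : W = ⊤ := W.eq_top_of_card_eq (by rw [hj, hk, hkj])
    exact MulEquiv.ext fun v => (htop.symm ▸ Subgroup.mem_top v : v ∈ W)
  have hmem : β ∈ PGroup.frattiniStab Q := by
    intro x
    rw [← QuotientGroup.eq]
    have := congrArg (fun γ : MulAut (Q ⧸ frattini Q) => γ (x : Q ⧸ frattini Q)) hφ
    exact this.symm
  obtain ⟨m, hm⟩ := (PGroup.isPGroup_frattiniStab hQ).exists_card_eq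
  have hd := Subgroup.orderOf_dvd_natCard (PGroup.frattiniStab Q) hmem
  rw [hm, hβ] at hd
  exact hrp (hr.dvd_of_dvd_pow hd)

/-- A group with two generators and elementary abelian of exponent `p` has order at most `p ^ 2`. -/
theorem card_frattini_quotient_le {p : ℕ} [hp : Fact p.Prime] {R : Type*} [Group R] [Finite R]
    (hR : IsPGroup p R) (hm : Cfsg.IsMetacyclic R) (H : Subgroup R) :
    Nat.card (↥H ⧸ frattini ↥H) ≤ p ^ 2 := by
  obtain ⟨N, hN, hNc, hQc⟩ := hm
  haveI := hN
  haveI := hNc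
  haveI := hQc
  let g : ↥H →* R ⧸ N := (QuotientGroup.mk' N).comp H.subtype
  haveI : IsCyclic ↥g.ker :=
    isCyclic_of_injective
      ((((H.subtype).comp g.ker.subtype)).codRestrict N fun x =>
        (QuotientGroup.eq_one_iff _).mp x.2)
      (fun a b hab => Subtype.ext (Subtype.ext (congrArg (fun t : ↥N => (t : R)) hab)))
  obtain ⟨⟨a, ha⟩, hagen⟩ := IsCyclic.exists_generator (α := ↥g.ker)
  obtain ⟨⟨b', hb'⟩, hbgen⟩ := IsCyclic.exists_generator (α := ↥g.range)
  obtain ⟨b, rfl⟩ := hb'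
  have hV := PGroup.isElementaryAbelian_quotient_frattini (p := p) (hR.to_subgroup H)
  refine le_trans (Nat.card_le_card_of_surjective (fun ij : Fin p × Fin p =>
    ((b : ↥H ⧸ frattini ↥H) ^ (ij.1 : ℕ) * (a : ↥H ⧸ frattini ↥H) ^ (ij.2 : ℕ))) ?_)
    (by simp [sq])
  intro v
  obtain ⟨x, rfl⟩ := QuotientGroup.mk_surjective v
  obtain ⟨i, hi⟩ := Subgroup.mem_zpowers_iff.mp (hbgen ⟨g x, ⟨x, rfl⟩⟩)
  have hi' : g b ^ i = g x := congrArg (fun t : ↥g.range => (t : R ⧸ N)) hi
  have hker : (b ^ i)⁻¹ * x ∈ g.ker := by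
    rw [MonoidHom.mem_ker, map_mul, map_inv, map_zpow, hi', inv_mul_cancel]
  obtain ⟨j, hj⟩ := Subgroup.mem_zpowers_iff.mp (hagen ⟨_, hker⟩)
  have hj' : a ^ j = (b ^ i)⁻¹ * x := by simpa using congrArg (fun t : ↥g.ker => (t : ↥H)) hj
  have hx : x = b ^ i * a ^ j := by rw [hj', mul_inv_cancel_left]
  have hred : ∀ (w : ↥H ⧸ frattini ↥H) (k : ℤ), ∃ l : Fin p, w ^ (l : ℕ) = w ^ k := by
    intro w k
    have h0 : (0 : ℤ) ≤ k % (p : ℤ) := Int.emod_nonneg _ (by exact_mod_cast hp.out.ne_zero)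
    have h1 : k % (p : ℤ) < p := Int.emod_lt_of_pos _ (by exact_mod_cast hp.out.pos)
    refine ⟨⟨(k % (p : ℤ)).toNat, by omega⟩, ?_⟩
    have hw : w ^ (p : ℤ) = 1 := by
      rw [zpow_natCast]
      exact hV.2 w (Subgroup.mem_top _)
    show w ^ (k % (p : ℤ)).toNat = w ^ k
    rw [← zpow_natCast, Int.toNat_of_nonneg h0]
    conv_rhs => rw [← Int.emod_add_mul_ediv k p, zpow_add, zpow_mul, hw, one_zpow, mul_one]
  obtain ⟨l1, hl1⟩ := hred (b : ↥H ⧸ frattini ↥H) i
  obtain ⟨l2, hl2⟩ := hred (a : ↥H ⧸ frattini ↥H) j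
  refine ⟨(l1, l2), ?_⟩
  show (b : ↥H ⧸ frattini ↥H) ^ (l1 : ℕ) * (a : ↥H ⧸ frattini ↥H) ^ (l2 : ℕ) = _
  rw [hl1, hl2, hx, QuotientGroup.mk_mul, QuotientGroup.mk_zpow, QuotientGroup.mk_zpow]

/-- The criterion in a group whose `p'`-elements have order prime to `p ^ 2 - 1`. -/
theorem criterion {p : ℕ} [hp : Fact p.Prime] {H : Type*} [Group H] [Finite H] (P : Sylow p H)
    (hP : Cfsg.IsMetacyclic ↥(P : Subgroup H))
    (hord : ∀ x : H, (orderOf x).Coprime p → (orderOf x).Coprime (p ^ 2 - 1)) :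
    Cfsg.HasNormalPComplement p H := by
  refine Fusion.hasNormalPComplement_of_tame P fun Q _ x hx hxp => ?_
  set D : Subgroup H := (P : Subgroup H) ⊓ (Q : Subgroup H) with hD
  have hle : D ≤ (P : Subgroup H) := inf_le_left
  let e : ↥(D.subgroupOf (P : Subgroup H)) ≃* ↥D := Subgroup.subgroupOfEquivOfLe hle
  have hcard : Nat.card (↥D ⧸ frattini ↥D) ≤ p ^ 2 := by
    have h := card_frattini_quotient_le P.2 hP (D.subgroupOf (P : Subgroup H))
    refine le_trans (Nat.card_le_card_of_surjective (QuotientGroup.map _ (frattini ↥D)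
      e.toMonoidHom ?_) ?_) h
    · rw [← Subgroup.map_le_iff_le_comap]
      exact PGroup.map_frattini_le ((P.2).to_subgroup _) ((P.2).to_le hle) _
    · intro v
      obtain ⟨y, rfl⟩ := QuotientGroup.mk_surjective v
      exact ⟨QuotientGroup.mk (e.symm y), congrArg QuotientGroup.mk (e.apply_symm_apply y)⟩
  set α := Subgroup.normalizerMonoidHom D ⟨x, hx⟩ with hα
  have hdvd : orderOf α ∣ orderOf x := by
    rw [← Subgroup.orderOf_mk x hx]
    exact orderOf_map_dvd _ _
  have h1 : α = 1 := aut_eq_one ((P.2).to_le hle) hcard α (Nat.Coprime.coprime_dvd_left hdvd hxp)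
    (Nat.Coprime.coprime_dvd_left hdvd (hord x hxp))
  have hk : (⟨x, hx⟩ : ↥(Subgroup.normalizer (D : Set H))) ∈ (Subgroup.normalizerMonoidHom D).ker :=
    MonoidHom.mem_ker.mpr h1
  rw [Subgroup.normalizerMonoidHom_ker, Subgroup.mem_subgroupOf] at hk
  exact hk

/-- Let p be a prime and G a finite group whose Sylow p-subgroups are metacyclic (a cyclic normal subgroup with cyclic quotient). Then G has a normal p-complement if and only if the order of G/O_{p′,p}(G) is coprime to p² − 1. -/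
theorem result {G : Type*} [Group G] [Finite G] (p : ℕ) [Fact p.Prime] (S : Sylow p G) (hS : Cfsg.IsMetacyclic ↥(S : Subgroup G)) : Cfsg.HasNormalPComplement p G ↔ Nat.Coprime (Nat.card (G ⧸ Cfsg.pPrimePCore p G)) (p ^ 2 - 1) := by
  haveI hOn : (Cfsg.pPrimeCore p G).Normal := inferInstance
  set f := QuotientGroup.mk' (Cfsg.pPrimeCore p G) with hfdef
  have hf : Function.Surjective f := QuotientGroup.mk'_surjective _
  have hidx : Nat.card (G ⧸ Cfsg.pPrimePCore p G) =
      (Cfsg.pCore p (G ⧸ Cfsg.pPrimeCore p G)).index :=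
    Subgroup.index_comap_of_surjective _ hf
  constructor
  · intro h
    have hN := (Fusion.hasNormalPComplement_iff_coprime (p := p) (G := G)).mp h
    haveI := Fusion.pResidual_normal p G
    have hres : Cfsg.pResidual p G ≤ Cfsg.pPrimeCore p G := Core.le_pPrimeCore hN
    have hq : IsPGroup p (G ⧸ Cfsg.pPrimeCore p G) := by
      intro v
      obtain ⟨g, rfl⟩ := QuotientGroup.mk_surjective v
      obtain ⟨k, hk⟩ := (Fusion.isPGroup_quotient_pResidual (p := p) (G := G)) (QuotientGroup.mk g)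
      refine ⟨k, ?_⟩
      rw [← QuotientGroup.mk_pow, QuotientGroup.eq_one_iff] at hk ⊢
      exact hres hk
    rw [hidx, Core.pCore_eq_top hq, Subgroup.index_top]
    exact Nat.coprime_one_left _
  · intro h
    rw [hidx] at h
    have hP : Cfsg.IsMetacyclic ↥((S.mapSurjective hf : Sylow p (G ⧸ Cfsg.pPrimeCore p G)) :
        Subgroup (G ⧸ Cfsg.pPrimeCore p G)) := by
      rw [Sylow.coe_mapSurjective]
      exact PGroup.Huppert.isMetacyclic_map (f.subgroupMap (S : Subgroup G))
        (f.subgroupMap_surjective _) hS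
    have hbar := criterion (S.mapSurjective hf) hP fun x hx => by
      refine Nat.Coprime.coprime_dvd_left ?_ h
      set O := Cfsg.pCore p (G ⧸ Cfsg.pPrimeCore p G) with hO
      have hb : x ^ O.index ∈ O := Subgroup.pow_index_mem O x
      obtain ⟨k, hk⟩ := Core.pCore_isPGroup p (G ⧸ Cfsg.pPrimeCore p G) ⟨_, hb⟩
      have hk' : (x ^ O.index) ^ p ^ k = 1 := congrArg Subtype.val hk
      rw [← pow_mul] at hk'
      exact (hx.pow_right k).dvd_of_dvd_mul_right (orderOf_dvd_of_pow_eq_one hk')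
    rw [Fusion.hasNormalPComplement_iff_coprime] at hbar
    set K := (Cfsg.pResidual p (G ⧸ Cfsg.pPrimeCore p G)) with hK
    haveI : K.Normal := Fusion.pResidual_normal p _
    refine Fusion.hasNormalPComplement_of_normal (K.comap f) ?_ ?_
    · rw [Core.card_comap_eq f hf K, QuotientGroup.ker_mk']
      exact Nat.Coprime.mul_left (Core.pPrimeCore_coprime p G) hbar
    · intro v
      obtain ⟨g, rfl⟩ := QuotientGroup.mk_surjective v
      obtain ⟨k, hk⟩ := (Fusion.isPGroup_quotient_pResidual (p := p)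
        (G := G ⧸ Cfsg.pPrimeCore p G)) (QuotientGroup.mk (f g))
      refine ⟨k, ?_⟩
      rw [← QuotientGroup.mk_pow, QuotientGroup.eq_one_iff] at hk ⊢
      rw [Subgroup.mem_comap, map_pow]
      exact hk

end Cfsg.Agent.S4419
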