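import Cfsg.Statements.S4421

set_option autoImplicit false
set_option linter.style.haveILetI false
open Cfsg

namespace Cfsg.Agent.S4421

/-- A factorization of a normalizer from two-step control of fusion. Let `G` be a finite group and `A ≤ S ≤ H` subgroups of `G` such that: (i) `S` controls the `G`-fusion of `A` in the sense that every `G`-conjugate of `A` lying in `S` is an `S`-conjugate of `A`; (ii) `H` controls the `G`-fusion of `S` in the same sense; (iii) every conjugate of `S` by an element of the normalizer of `A` lies in `H`. Then `N_G(A) = N_H(A) · (N_G(S) ∩ N_G(A))`: every element of the normalizer of `A` is a product of an element of `H` normalizing `A` and an element normalizing both `S` and `A`. -/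
theorem result {G : Type*} [Group G] [Finite G] (A S H : Subgroup G)
    (hAS : A ≤ S) (hSH : S ≤ H)
    (h1 : ∀ g : G, A.map (MulAut.conj g).toMonoidHom ≤ S → ∃ s ∈ S, A.map (MulAut.conj g).toMonoidHom = A.map (MulAut.conj s).toMonoidHom)
    (h2 : ∀ g : G, S.map (MulAut.conj g).toMonoidHom ≤ H → ∃ y ∈ H, S.map (MulAut.conj g).toMonoidHom = S.map (MulAut.conj y).toMonoidHom)
    (h3 : ∀ x ∈ Subgroup.normalizer (A : Set G), S.map (MulAut.conj x).toMonoidHom ≤ H) :
    ∀ x ∈ Subgroup.normalizer (A : Set G), ∃ y ∈ H ⊓ Subgroup.normalizer (A : Set G),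
      ∃ z ∈ Subgroup.normalizer (S : Set G) ⊓ Subgroup.normalizer (A : Set G), x = y * z := by
  intro x hx
  obtain ⟨y, hy, he⟩ := h2 x (h3 x hx)
  have hmap : ∀ (u v : G) (K : Subgroup G), K.map (MulAut.conj (u * v)).toMonoidHom =
      (K.map (MulAut.conj v).toMonoidHom).map (MulAut.conj u).toMonoidHom := by
    intro u v K
    rw [Subgroup.map_map]
    congr 1
    ext k
    simp
  have hnorm : ∀ (u : G) (K : Subgroup G), K.map (MulAut.conj u).toMonoidHom = K ↔
      u ∈ Subgroup.normalizer (K : Set G) := by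
    intro u K
    constructor
    · intro h
      rw [Subgroup.mem_normalizer_iff]
      intro k
      constructor
      · intro hk
        exact h ▸ Subgroup.mem_map_of_mem _ hk
      · intro hk
        rw [← h] at hk
        obtain ⟨k', hk', e⟩ := hk
        have : k' = k := by simpa using e
        exact this ▸ hk'
    · intro h
      ext k
      constructor
      · rintro ⟨k', hk', rfl⟩
        exact (Subgroup.mem_normalizer_iff.mp h k').mp hk'
      · intro hk
        refine ⟨u⁻¹ * k * u, ?_, by simp [mul_assoc]⟩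
        apply (Subgroup.mem_normalizer_iff.mp h _).mpr
        simpa [mul_assoc] using hk
  have h1A : A.map (MulAut.conj y⁻¹).toMonoidHom ≤ S := by
    calc A.map (MulAut.conj y⁻¹).toMonoidHom
        = A.map (MulAut.conj (y⁻¹ * x)).toMonoidHom := by rw [hmap, (hnorm x A).mpr hx]
      _ ≤ S.map (MulAut.conj (y⁻¹ * x)).toMonoidHom := Subgroup.map_mono hAS
      _ = S := by rw [hmap, he, ← hmap, inv_mul_cancel]; exact (hnorm 1 S).mpr (one_mem _)
  obtain ⟨s, hs, hse⟩ := h1 y⁻¹ h1A
  have hys : y * s ∈ Subgroup.normalizer (A : Set G) := by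
    rw [← hnorm, hmap, ← hse, ← hmap, mul_inv_cancel]
    exact (hnorm 1 A).mpr (one_mem _)
  refine ⟨y * s, ⟨H.mul_mem hy (hSH hs), hys⟩, (y * s)⁻¹ * x,
    ⟨?_, (Subgroup.normalizer (A : Set G)).mul_mem ((Subgroup.normalizer (A : Set G)).inv_mem hys) hx⟩, by group⟩
  have hz : y⁻¹ * x ∈ Subgroup.normalizer (S : Set G) := by
    rw [← hnorm, hmap, he, ← hmap, inv_mul_cancel]
    exact (hnorm 1 S).mpr (one_mem _)
  rw [show (y * s)⁻¹ * x = s⁻¹ * (y⁻¹ * x) by group]
  exact (Subgroup.normalizer (S : Set G)).mul_mem (Subgroup.le_normalizer (S.inv_mem hs)) hz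

end Cfsg.Agent.S4421
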