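import Cfsg.Statements.S4422

set_option autoImplicit false
set_option linter.style.haveILetI false
open Cfsg

namespace Cfsg.Agent.S4422

theorem modEq_one (e : ℕ) : ∀ m : ℕ, m ≠ 0 → (∀ r : ℕ, r.Prime → r ∣ m → r ≡ 1 [MOD e]) → m ≡ 1 [MOD e] := by
  intro m
  induction m using Nat.recOnMul with
  | zero => intro h; exact absurd rfl h
  | one => intros; rfl
  | prime r hr => intro _ h; exact h r hr dvd_rfl
  | mul a b iha ihb =>
    intro h0 h
    have := (iha (left_ne_zero_of_mul h0) fun r hr hd => h r hr (hd.mul_right b)).mul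
      (ihb (right_ne_zero_of_mul h0) fun r hr hd => h r hr (hd.mul_left a))
    simpa using this

/-- Primitive divisors of `q^e - 1` are congruent to 1 modulo `e`. Let `q ≥ 2` and `e ≥ 1` be natural numbers and let `m` be a divisor of `q^e - 1` that is coprime to `q^i - 1` for every `1 ≤ i < e` (so `m` divides the primitive part of `q^e - 1`, the largest such divisor). Then `m ≡ 1 (mod e)`. -/
theorem result (q e m : ℕ) (hq : 2 ≤ q) (he : 1 ≤ e)
    (hm : m ∣ q ^ e - 1) (hcop : ∀ i : ℕ, 1 ≤ i → i < e → Nat.Coprime m (q ^ i - 1)) :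
    m % e = 1 % e := by
  refine modEq_one e m ?_ fun r hr hrm => ?_
  · rintro rfl
    have h1 := Nat.one_lt_pow (n := e) (by omega) (show 1 < q by omega)
    simp at hm
    omega
  haveI := Fact.mk hr
  have hcast : ∀ i, ((q ^ i - 1 : ℕ) : ZMod r) = (q : ZMod r) ^ i - 1 := fun i => by
    rw [Nat.cast_sub (Nat.one_le_pow _ _ (by omega)), Nat.cast_pow, Nat.cast_one]
  have he1 : (q : ZMod r) ^ e = 1 := by
    have h := (ZMod.natCast_eq_zero_iff _ _).mpr (hrm.trans hm)
    rwa [hcast, sub_eq_zero] at h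
  have hq0 : (q : ZMod r) ≠ 0 := by
    intro h
    rw [h, zero_pow (by omega)] at he1
    exact zero_ne_one he1
  have ho : orderOf (q : ZMod r) = e := by
    refine (orderOf_eq_iff (by omega)).mpr ⟨he1, fun i hi hi0 h => ?_⟩
    have h1 : r ∣ q ^ i - 1 := by
      rw [← ZMod.natCast_eq_zero_iff, hcast, h, sub_self]
    exact hr.one_lt.ne' (Nat.eq_one_of_dvd_coprimes (hcop i hi0 hi) hrm h1)
  have := ZMod.orderOf_dvd_card_sub_one hq0
  rw [ho] at this
  exact ((Nat.modEq_iff_dvd' hr.one_lt.le).mpr this).symm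

end Cfsg.Agent.S4422
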