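import Cfsg.Statements.S4423
import Cfsg.Agent.S3430
import Cfsg.Agent.S4230

set_option linter.style.haveILetI false

set_option autoImplicit false
open Cfsg

namespace Cfsg.Agent.S4423

open Polynomial Cfsg.Agent.S3430

theorem cyc_nat (n q : ℕ) (hq : 2 ≤ q) : ∃ M : ℕ, (cyclotomic n ℤ).eval (q : ℤ) = (M : ℤ) ∧ 0 < M ∧
    M ∣ q ^ n - 1 := by
  set Φ : ℤ := (cyclotomic n ℤ).eval (q : ℤ) with hΦ
  have hΦpos : 0 < Φ := by
    have h := cyclotomic_pos' n (R := ℝ) (x := (q : ℝ)) (by exact_mod_cast hq)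
    rw [← cast_eval] at h
    exact_mod_cast h
  obtain ⟨M, hM⟩ : ∃ M : ℕ, Φ = (M : ℤ) := ⟨Φ.natAbs, (Int.natAbs_of_nonneg hΦpos.le).symm⟩
  refine ⟨M, hM, by omega, ?_⟩
  rw [← Int.natCast_dvd_natCast, ← hM, Nat.cast_sub (Nat.one_le_pow _ _ (by omega))]
  simpa [hΦ] using eval_dvd (x := (q : ℤ)) (cyclotomic.dvd_X_pow_sub_one n ℤ)

/-- A non-primitive prime divisor of the cyclotomic value divides the index, and only once. -/
theorem nonprimitive (n q M s : ℕ) (hn : 3 ≤ n) (hq : 2 ≤ q)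
    (hM : (cyclotomic n ℤ).eval (q : ℤ) = (M : ℤ)) (hMdvd : M ∣ q ^ n - 1)
    (hs : s.Prime) (hsM : s ∣ M) (hprim : ∃ i : ℕ, 1 ≤ i ∧ i < n ∧ s ∣ q ^ i - 1) :
    s ∣ n ∧ ¬ s * s ∣ M := by
  haveI := Fact.mk hs
  have hsd : s ∣ q ^ n - 1 := hsM.trans hMdvd
  set Φ : ℤ := (cyclotomic n ℤ).eval (q : ℤ) with hΦ
  have hqn : (q : ZMod s) ^ n = 1 := by
    have h := (ZMod.natCast_eq_zero_iff _ _).2 hsd
    rwa [Nat.cast_sub (Nat.one_le_pow _ _ (by omega)), sub_eq_zero, Nat.cast_pow, Nat.cast_one] at h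
  have hsq0 : ¬ s ∣ q := by
    intro h
    have : (q : ZMod s) = 0 := (ZMod.natCast_eq_zero_iff _ _).2 h
    rw [this, zero_pow (by omega)] at hqn
    exact zero_ne_one hqn
  obtain ⟨i, hi1, hin, hi⟩ := hprim
  have hioi : (q : ZMod s) ^ i = 1 := by
    have h := (ZMod.natCast_eq_zero_iff _ _).2 hi
    rwa [Nat.cast_sub (Nat.one_le_pow _ _ (by omega)), sub_eq_zero, Nat.cast_pow, Nat.cast_one] at h
  have hsM' : (s : ℤ) ∣ Φ := hM ▸ Int.natCast_dvd_natCast.2 hsM
  by_cases hs2 : s = 2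
  · subst hs2
    obtain ⟨k, m, hm, rfl⟩ := Nat.exists_eq_two_pow_mul_odd (n := n) (by omega)
    haveI : NeZero (m : ZMod 2) := ⟨by
      rw [ne_eq, ZMod.natCast_eq_zero_iff]; exact hm.not_two_dvd_nat⟩
    have hroot : (cyclotomic (2 ^ k * m) (ZMod 2)).IsRoot (q : ZMod 2) := by
      rw [IsRoot, ← map_cyclotomic_int, ← Int.cast_natCast (R := ZMod 2),
        eval_intCast_map, eq_intCast, ZMod.intCast_zmod_eq_zero_iff_dvd]
      exact_mod_cast hsM'
    rw [isRoot_cyclotomic_prime_pow_mul_iff_of_charP] at hroot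
    have hq1 : (q : ZMod 2) = 1 := (zmod_two _).resolve_left fun e => hsq0 ((ZMod.natCast_eq_zero_iff _ _).1 e)
    rw [hq1] at hroot
    obtain rfl : m = 1 := hroot.eq_orderOf.trans orderOf_one
    obtain ⟨k, rfl⟩ : ∃ j, k = j + 2 := by
      rcases k with _ | _ | j
      · simp at hn
      · simp at hn
      · exact ⟨j, rfl⟩
    refine ⟨(dvd_pow_self 2 (k + 1).succ_ne_zero).mul_right _, fun h4 => ?_⟩
    have hev : Φ = ((q : ℤ) ^ (2 ^ k)) ^ 2 + 1 := by
      simp only [hΦ, mul_one, cyclotomic_prime_pow_eq_geom_sum Nat.prime_two, Finset.sum_range_succ,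
        Finset.sum_range_zero, pow_zero, pow_one, zero_add, eval_add, eval_one, eval_pow, eval_X]
      rw [pow_succ 2 k, pow_mul, add_comm]
    have h5 : ((M : ℤ) : ZMod 4) = 0 := by
      rw [Int.cast_natCast, ZMod.natCast_eq_zero_iff]; exact h4
    rw [← hM, hev] at h5
    push_cast at h5
    exact zmod_four _ h5
  obtain ⟨j, hj⟩ := (Cfsg.Agent.S4230.result s q n hs hs2 hsq0).1 hsM'
  obtain ⟨j, rfl⟩ : ∃ t, j = t + 1 := by
    rcases j with _ | t
    · rw [pow_zero, mul_one] at hj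
      have := Nat.le_of_dvd hi1 (orderOf_dvd_of_pow_eq_one hioi)
      omega
    · exact ⟨t, rfl⟩
  set e := orderOf (q : ZMod s) with he
  have he0 : 0 < e := by
    rcases Nat.eq_zero_or_pos e with h | h
    · rw [h, zero_mul] at hj; omega
    · exact h
  refine ⟨hj ▸ (dvd_pow_self s j.succ_ne_zero).mul_left e, fun h => ?_⟩
  set x : ℤ := (q : ℤ) ^ (e * s ^ j) with hx
  have hd : e * s ^ j ∈ n.properDivisors := by
    rw [Nat.mem_properDivisors]
    refine ⟨⟨s, by rw [hj, pow_succ, mul_assoc]⟩, ?_⟩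
    rw [hj, pow_succ, ← mul_assoc]
    exact lt_mul_of_one_lt_right (by have := hs.pos; positivity) hs.one_lt
  have h1 := eval_dvd (x := (q : ℤ)) (X_pow_sub_one_mul_cyclotomic_dvd_X_pow_sub_one_of_dvd ℤ hd)
  simp only [eval_mul, eval_sub, eval_pow, eval_X, eval_one] at h1
  rw [show (q : ℤ) ^ n = x ^ s by rw [hx, ← pow_mul, hj, pow_succ, mul_assoc],
    ← geom_sum_mul x s, mul_comm _ (x - 1)] at h1
  have hx1 : x - 1 ≠ 0 := by
    have : 1 < x := one_lt_pow₀ (by exact_mod_cast hq) (by have := hs.pos; positivity)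
    omega
  have h2 : Φ ∣ ∑ i ∈ Finset.range s, x ^ i := (mul_dvd_mul_iff_left hx1).1 h1
  have hxr : (s : ℤ) ∣ x - 1 := by
    rw [← ZMod.intCast_zmod_eq_zero_iff_dvd, hx]
    push_cast
    rw [pow_mul, he, pow_orderOf_eq_one, one_pow, sub_self]
  obtain ⟨t, ht⟩ := hxr
  have h4 := odd_sq_dvd_geom_sum₂_sub (a := (1 : ℤ)) (b := t) (p := s) (hs.odd_of_ne_two hs2)
  rw [show (1 : ℤ) + s * t = x by rw [← ht]; ring] at h4
  simp only [one_pow, mul_one] at h4
  have h' : (s : ℤ) ^ 2 ∣ Φ := by rw [hM, pow_two]; exact_mod_cast h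
  have h5 := Int.dvd_sub (h'.trans h2) h4
  rw [sub_sub_cancel] at h5
  have h6 : s ^ 2 ∣ s := by exact_mod_cast h5
  have := Nat.le_of_dvd hs.pos h6
  have := hs.two_le
  nlinarith

theorem generic (n q : ℕ) (hn : 3 ≤ n) (hq : 2 ≤ q) (hbig : 12 * n ^ 2 < q ^ n.totient) :
    ∃ m : ℕ, m ∣ q ^ n - 1 ∧ (∀ i : ℕ, 1 ≤ i → i < n → Nat.Coprime m (q ^ i - 1)) ∧ 3 * n + 1 ≤ m := by
  classical
  obtain ⟨M, hM, hM0, hMd⟩ := cyc_nat n q hq
  set T := M.primeFactors.filter (fun s => ∀ i < n, 1 ≤ i → ¬ s ∣ q ^ i - 1) with hT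
  set U := M.primeFactors.filter (fun s => ¬ ∀ i < n, 1 ≤ i → ¬ s ∣ q ^ i - 1) with hU
  set m := ∏ s ∈ T, s ^ M.factorization s with hm
  have hsplit : m * ∏ s ∈ U, s ^ M.factorization s = M := by
    rw [hm, hT, hU, Finset.prod_filter_mul_prod_filter_not]
    exact (Nat.prod_primeFactors_pow_factorization hM0.ne').symm
  have hmM : m ∣ M := Dvd.intro _ hsplit
  refine ⟨m, hmM.trans hMd, fun i h1 h2 => ?_, ?_⟩
  · rw [hm]
    refine Nat.Coprime.prod_left fun s hs => Nat.Coprime.pow_left _ ?_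
    obtain ⟨hs1, hs2⟩ := Finset.mem_filter.1 hs
    exact (Nat.prime_of_mem_primeFactors hs1).coprime_iff_not_dvd.2 (hs2 i h2 h1)
  · have hP : ∏ s ∈ U, s ^ M.factorization s ∣ n := by
      have heq : ∏ s ∈ U, s ^ M.factorization s = ∏ s ∈ U, s := by
        refine Finset.prod_congr rfl fun s hs => ?_
        obtain ⟨hs1, hs2⟩ := Finset.mem_filter.1 hs
        push Not at hs2
        obtain ⟨i, hi1, hi2, hi3⟩ := hs2
        have hp := Nat.prime_of_mem_primeFactors hs1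
        have hsd := Nat.dvd_of_mem_primeFactors hs1
        have h2 := (nonprimitive n q M s hn hq hM hMd hp hsd ⟨i, hi2, hi1, hi3⟩).2
        have hlo : 1 ≤ M.factorization s := hp.factorization_pos_of_dvd hM0.ne' hsd
        have hhi : M.factorization s < 2 := by
          by_contra hc
          push Not at hc
          apply h2
          rw [← pow_two]
          exact (hp.pow_dvd_iff_le_factorization hM0.ne').2 hc
        rw [show M.factorization s = 1 by omega, pow_one]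
      rw [heq]
      refine Finset.prod_primes_dvd _ (fun s hs => (Nat.prime_of_mem_primeFactors (Finset.mem_filter.1 hs).1).prime) fun s hs => ?_
      obtain ⟨hs1, hs2⟩ := Finset.mem_filter.1 hs
      push Not at hs2
      obtain ⟨i, hi1, hi2, hi3⟩ := hs2
      exact (nonprimitive n q M s hn hq hM hMd (Nat.prime_of_mem_primeFactors hs1)
        (Nat.dvd_of_mem_primeFactors hs1) ⟨i, hi2, hi1, hi3⟩).1
    have hPn := Nat.le_of_dvd (by omega) hP
    by_contra hlt
    push Not at hlt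
    have hMle : M ≤ 3 * n * n := by
      calc M = m * ∏ s ∈ U, s ^ M.factorization s := hsplit.symm
        _ ≤ 3 * n * n := Nat.mul_le_mul (by omega) hPn
    have h := phi_lower n q (by omega) hq
    rw [← cast_eval, hM] at h
    push_cast at h
    have h' : q ^ n.totient ≤ 4 * M := by exact_mod_cast h
    nlinarith

theorem two_pow_gt54 (k : ℕ) (hk : 19 ≤ k) : 54 * k ^ 3 < 2 ^ k := by
  induction k, hk using Nat.le_induction with
  | base => norm_num
  | succ k hk ih =>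
    rw [pow_succ 2 k]
    have h1 : 19 * k ^ 2 ≤ k ^ 3 := by nlinarith
    have h2 : 19 * k ≤ k ^ 2 := by nlinarith
    nlinarith

def degs : List ℕ := [3, 4, 5, 6, 7, 8, 9, 10, 11, 12, 14, 15, 16, 18, 20, 21, 22, 24, 26, 28, 30, 36, 42]

def wit : List (ℕ × ℕ × ℕ) := [(3, 3, 13), (3, 5, 31), (3, 6, 43), (3, 7, 19), (3, 8, 73), (3, 9, 91), (3, 10, 37), (4, 4, 17), (4, 5, 13), (4, 6, 37), (4, 7, 25), (4, 8, 65), (4, 9, 41), (4, 10, 101), (4, 11, 61), (4, 12, 145), (4, 13, 85), (5, 2, 31), (5, 3, 121), (5, 4, 341), (6, 6, 31), (6, 7, 43), (6, 8, 19), (6, 9, 73), (6, 10, 91), (6, 11, 37), (6, 12, 133), (6, 13, 157), (6, 14, 61), (6, 15, 211), (6, 16, 241), (6, 17, 91), (6, 18, 307), (6, 19, 343), (6, 20, 127), (7, 2, 127), (8, 3, 41), (8, 4, 257), (8, 5, 313), (9, 2, 73), (9, 3, 757), (10, 3, 61), (10, 4, 41), (10, 5, 521), (11, 2, 2047), (12, 3, 73), (12, 4, 241), (12, 5, 601), (12, 6, 1261), (14, 2, 43), (14, 3, 547), (15, 2,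 151), (16, 2, 257), (18, 3, 703), (21, 2, 337), (22, 2, 683), (24, 2, 241), (24, 3, 6481), (26, 2, 2731), (28, 2, 3277), (30, 2, 331), (30, 3, 8401), (36, 2, 4033), (42, 2, 5419)]

def excep : List (ℕ × ℕ) := [(2, 6), (2, 4), (2, 10), (2, 12), (2, 18), (3, 4), (3, 6), (5, 6), (2, 3), (2, 8), (2, 20), (4, 3), (4, 6)]

theorem degs_complete : ∀ n < 163, 3 ≤ n → 12 * n ^ 2 < 2 ^ n.totient ∨ n ∈ degs := by decide +kernel

theorem degs_twentyone : ∀ n ∈ degs, 12 * n ^ 2 < 21 ^ n.totient := by decide +kernel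

theorem degs_q : ∀ n ∈ degs, ∀ q < 21, q < 2 ∨ 12 * n ^ 2 < q ^ n.totient ∨ (q, n) ∈ excep ∨
    (n, q) ∈ wit.map fun t => (t.1, t.2.1) := by decide +kernel

theorem wit_ok : ∀ t ∈ wit, t.2.2 ∣ t.2.1 ^ t.1 - 1 ∧
    (∀ i < t.1, i < 1 ∨ Nat.gcd t.2.2 (t.2.1 ^ i - 1) = 1) ∧ 3 * t.1 + 1 ≤ t.2.2 := by decide +kernel

def excWit : List (ℕ × ℕ × ℕ) := [(2, 6, 1), (2, 4, 5), (2, 10, 11), (2, 12, 13), (2, 18, 19), (3, 4, 5), (3, 6, 7), (5, 6, 7), (2, 3, 7), (2, 8, 17), (2, 20, 41), (4, 3, 7), (4, 6, 13)]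

theorem excWit_ok : ∀ t ∈ excWit, 0 < t.2.2 ∧ t.2.2 ≤ 2 * t.2.1 + 1 ∧
    t.1 ^ t.2.1 - 1 ∣ t.2.2 * (((List.range (t.2.1 - 1)).map fun i => t.1 ^ (i + 1) - 1).prod) ^ 6 := by
  decide +kernel

/-- Size of the primitive part of `q^e - 1`. For a prime power `q` and `e ≥ 3`, call a divisor of `q^e - 1` primitive when it is coprime to `q^i - 1` for every `1 ≤ i < e`; the primitive part is the largest primitive divisor. Apart from thirteen exceptional pairs, the primitive part is at least `3e + 1`: there is a primitive divisor `m ≥ 3e + 1` unless `(q, e)` is `(2, 6)` (where every primitive divisor is 1), one of `(2,4), (2,10), (2,12), (2,18), (3,4), (3,6), (5,6)` (where the primitive part is exactly `e + 1`), or one of `(2,3), (2,8), (2,20), (4,3), (4,6)` (where it is exactly `2e + 1`). The statement asserts the existence of a primitive divisor `m ≥ 3e + 1` outside the thirteen pairs, and that every primitive divisor is at most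 `2e + 1` for the thirteen pairs. -/
theorem result (q e : ℕ) (hq : IsPrimePow q) (he : 3 ≤ e) :
    ((q, e) ∉ [(2, 6), (2, 4), (2, 10), (2, 12), (2, 18), (3, 4), (3, 6), (5, 6), (2, 3), (2, 8), (2, 20), (4, 3), (4, 6)] →
      ∃ m : ℕ, m ∣ q ^ e - 1 ∧ (∀ i : ℕ, 1 ≤ i → i < e → Nat.Coprime m (q ^ i - 1)) ∧ 3 * e + 1 ≤ m) ∧
    ((q, e) ∈ [(2, 6), (2, 4), (2, 10), (2, 12), (2, 18), (3, 4), (3, 6), (5, 6), (2, 3), (2, 8), (2, 20), (4, 3), (4, 6)] →
      ∀ m : ℕ, m ∣ q ^ e - 1 → (∀ i : ℕ, 1 ≤ i → i < e → Nat.Coprime m (q ^ i - 1)) → m ≤ 2 * e + 1) := by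
  have hq2 : 2 ≤ q := hq.two_le
  refine ⟨fun hne => ?_, fun hmem m hm hc => ?_⟩
  · by_cases hbig : 12 * e ^ 2 < q ^ e.totient
    · exact generic e q he hq2 hbig
    push Not at hbig
    have h2 : 2 ^ e.totient ≤ 12 * e ^ 2 := (Nat.pow_le_pow_left hq2 _).trans hbig
    have hcube := Cfsg.Agent.S3430.totient_cube e (by omega)
    have hk : e.totient < 19 := by
      by_contra hk
      have := two_pow_gt54 e.totient (by omega)
      nlinarith
    have he163 : e < 163 := by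
      have : e.totient ^ 3 ≤ 18 ^ 3 := Nat.pow_le_pow_left (by omega) 3
      nlinarith
    have hd := (degs_complete e he163 he).resolve_left (by omega)
    have hq21 : q < 21 := by
      by_contra h
      have := Nat.pow_le_pow_left (show 21 ≤ q by omega) e.totient
      have := degs_twentyone e hd
      omega
    obtain ⟨⟨a, b, c⟩, ht, hab⟩ := List.mem_map.1
      ((((degs_q e hd q hq21).resolve_left (by omega)).resolve_left (by omega)).resolve_left hne)
    simp only [Prod.mk.injEq] at hab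
    obtain ⟨rfl, rfl⟩ := hab
    obtain ⟨h1, h3, h4⟩ := wit_ok _ ht
    exact ⟨c, h1, fun i hi1 hi2 => (h3 i hi2).resolve_left (by omega), h4⟩
  · obtain ⟨⟨a, b, c⟩, ht, hab⟩ : ∃ t ∈ excWit, (t.1, t.2.1) = (q, e) := by
      have : (q, e) ∈ excWit.map fun t => (t.1, t.2.1) := hmem
      exact List.mem_map.1 this
    simp only [Prod.mk.injEq] at hab
    obtain ⟨rfl, rfl⟩ := hab
    obtain ⟨h0, hle, hd⟩ := excWit_ok _ ht
    have hcop : Nat.Coprime m ((((List.range (b - 1)).map fun i => a ^ (i + 1) - 1).prod) ^ 6) := by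
      refine Nat.Coprime.pow_right _ (Nat.coprime_list_prod_right_iff.2 fun x hx => ?_)
      obtain ⟨i, hi, rfl⟩ := List.mem_map.1 hx
      rw [List.mem_range] at hi
      exact hc (i + 1) (by omega) (by omega)
    exact (Nat.le_of_dvd h0 (hcop.dvd_of_dvd_mul_right (hm.trans hd))).trans hle

end Cfsg.Agent.S4423
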