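import Cfsg.Statements.S4430
import Cfsg.Agent.Lib.Block.ThirdMain

set_option autoImplicit false
open Cfsg

namespace Cfsg.Agent.S4430

/-- Let H be a subgroup of the finite group G, b a block of H whose induced block B₀ in G is defined (relative to a maximal ideal M of the algebraic integers containing p), and ξ ∈ b. For a block B of G let n_B be the value at 1 of the B-part of the induced character ξ^G (a natural number: the sum over χ ∈ B of the multiplicity of χ in ξ^G times χ(1)). Then for B = B₀ the exact power of p dividing n_B equals the exact power of p dividing ξ^G(1), while for every other block B either n_B = 0 or n_B is divisible by a strictly higher power of p than ξ^G(1). -/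
theorem result {G : Type*} [Group G] [Fintype G] (p : ℕ) [Fact p.Prime] (M : Ideal Cfsg.AlgInt) (hM : Cfsg.IsPModular p M) (H : Subgroup G) [Fintype H] (b : Set (Cfsg.IrrCharacter H)) (B₀ : Set (Cfsg.IrrCharacter G)) (hind : Cfsg.IsInducedBlock M H b B₀) (ξ : Cfsg.IrrCharacter H) (hξ : ξ ∈ b) : (∃ n : ℕ, Cfsg.blockPart B₀ (Cfsg.indFun H (ξ : H → ℂ)) 1 = (n : ℂ) ∧ n ≠ 0 ∧ n.factorization p = (Cfsg.charDegree (Cfsg.indFun H (ξ : H → ℂ))).factorization p) ∧ ∀ B : Set (Cfsg.IrrCharacter G), Cfsg.IsPBlock M B → B ≠ B₀ → ∃ n : ℕ, Cfsg.blockPart B (Cfsg.indFun H (ξ : H → ℂ)) 1 = (n : ℂ) ∧ (n = 0 ∨ (Cfsg.charDegree (Cfsg.indFun H (ξ : H → ℂ))).factorization p < n.factorization p) := by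
  classical
  have hξc := ξ.2.isCharacter
  have hdeg : Cfsg.indFun H (ξ : H → ℂ) 1 = ((H.index * Cfsg.charDegree (ξ : H → ℂ) : ℕ) : ℂ) := by
    rw [Cfsg.Lib.Char.indFun_apply_one, Cfsg.Lib.Block.apply_one_eq_charDegree ξ, Nat.cast_mul]
  rw [Cfsg.Lib.Block.charDegree_eq_of_apply_one hdeg]
  have hN : H.index * Cfsg.charDegree (ξ : H → ℂ) ≠ 0 :=
    Nat.mul_ne_zero Subgroup.index_ne_zero_of_finite (Cfsg.Lib.Block.charDegree_pos ξ).ne'
  set N := H.index * Cfsg.charDegree (ξ : H → ℂ) with hNdef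
  have hval : ∀ B : Set (Cfsg.IrrCharacter G), Cfsg.IsPBlock M B → ∃ n : ℕ,
      Cfsg.blockPart B (Cfsg.indFun H (ξ : H → ℂ)) 1 = (n : ℂ) ∧
      Cfsg.MemLocalIdeal M ((n : ℂ) / (N : ℕ) - if B = B₀ then 1 else 0) := by
    intro B hB
    have hnat : ∀ χ : Cfsg.IrrCharacter G, ∃ m : ℕ,
        Cfsg.classInner (Cfsg.indFun H (ξ : H → ℂ)) (χ : G → ℂ) * (χ : G → ℂ) 1 = (m : ℂ) := by
      intro χ
      obtain ⟨m, hm⟩ := (Cfsg.Lib.Char.isCharacter_indFun H hξc).exists_nat_classInner χ.2.isCharacter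
      exact ⟨m * Cfsg.charDegree (χ : G → ℂ), by
        rw [hm, Cfsg.Lib.Block.apply_one_eq_charDegree χ, Nat.cast_mul]⟩
    choose m hm using hnat
    refine ⟨∑ χ ∈ B.toFinset, m χ, ?_, ?_⟩
    · rw [Nat.cast_sum]
      simp only [Cfsg.blockPart, finsum_mem_eq_toFinset_sum]
      refine Finset.sum_congr rfl fun χ _ => ?_
      rw [← hm χ]
      congr 1
      simp only [Cfsg.classInner]
      congr 1
      exact Finset.sum_congr (by ext; simp) fun _ _ => rfl
    · have e := Cfsg.Lib.Block.blockPart_indFun_one hM B ξ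
      have e2 : Cfsg.blockPart B (Cfsg.indFun H (ξ : H → ℂ)) 1 = ((∑ χ ∈ B.toFinset, m χ : ℕ) : ℂ) := by
        rw [Nat.cast_sum]
        simp only [Cfsg.blockPart, finsum_mem_eq_toFinset_sum]
        refine Finset.sum_congr rfl fun χ _ => ?_
        rw [← hm χ]
        congr 1
        simp only [Cfsg.classInner]
        congr 1
        exact Finset.sum_congr (by ext; simp) fun _ _ => rfl
      rw [e2, Cfsg.Lib.Block.apply_one_eq_charDegree ξ, ← Nat.cast_mul, ← hNdef] at e
      rw [e, mul_div_cancel_left₀ _ (Nat.cast_ne_zero.2 hN)]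
      obtain ⟨χ₁, hχ₁⟩ := Cfsg.Lib.Block.nonempty_of_isPBlock hM hind.2.1
      have h := Cfsg.Lib.Block.vec_restrict_sub_mem hM hind hξ hχ₁
        (Cfsg.Lib.Block.vInt_indVec hM hB)
      convert h using 3
      simp only [Cfsg.Lib.Block.indVec]
      refine if_congr ⟨fun he => he ▸ hχ₁, fun h' => ?_⟩ rfl rfl
      exact Cfsg.Lib.Block.isPBlock_eq_of_mem hM hB hind.2.1 h' hχ₁
  constructor
  · obtain ⟨n, hn, hmem⟩ := hval B₀ hind.2.1
    rw [if_pos rfl] at hmem
    have hn0 : n ≠ 0 := fun h => by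
      rw [h, Nat.cast_zero, zero_div, zero_sub] at hmem
      have := Cfsg.Lib.Block.memLocalIdeal_neg hM hmem
      rw [neg_neg] at this
      exact Cfsg.Lib.Block.not_memLocalIdeal_one hM this
    refine ⟨n, hn, hn0, ?_⟩
    rcases Nat.lt_trichotomy (n.factorization p) (N.factorization p) with h | h | h
    · exfalso
      have h1 := Cfsg.Lib.Block.natCast_div_mem_ideal (p := p) hM (a := N) hn0 (Or.inr h)
      have h2 : ((N : ℕ) : ℂ) / (n : ℕ) * ((n : ℂ) / (N : ℕ) - 1) =
          1 - ((N : ℕ) : ℂ) / (n : ℕ) := by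
        field_simp [Nat.cast_ne_zero.2 hn0, Nat.cast_ne_zero.2 hN]
      have h3 := Cfsg.Lib.Block.memLocalIdeal_mul_left hM
        (Cfsg.Lib.Block.memLocRing_of_memLocalIdeal hM h1) hmem
      rw [h2] at h3
      have h4 := Cfsg.Lib.Block.memLocalIdeal_add hM h3 h1
      rw [sub_add_cancel] at h4
      exact Cfsg.Lib.Block.not_memLocalIdeal_one hM h4
    · exact h
    · exfalso
      have h1 := Cfsg.Lib.Block.natCast_div_mem_ideal (p := p) hM (a := n) hN (Or.inr h)
      have h4 := Cfsg.Lib.Block.memLocalIdeal_sub hM h1 hmem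
      rw [sub_sub_cancel] at h4
      exact Cfsg.Lib.Block.not_memLocalIdeal_one hM h4
  · intro B hB hne
    obtain ⟨n, hn, hmem⟩ := hval B hB
    rw [if_neg hne, sub_zero] at hmem
    refine ⟨n, hn, ?_⟩
    by_contra hcon
    simp only [not_or, not_lt] at hcon
    rcases Nat.lt_or_eq_of_le hcon.2 with h | h
    · have h1 := Cfsg.Lib.Block.natCast_div_mem_ideal (p := p) hM (a := N) hcon.1 (Or.inr h)
      have h2 := Cfsg.Lib.Block.memLocalIdeal_mul_left hM
        (Cfsg.Lib.Block.memLocRing_of_memLocalIdeal hM h1) hmem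
      rw [div_mul_div_cancel₀ (Nat.cast_ne_zero.2 hcon.1), div_self (Nat.cast_ne_zero.2 hN)] at h2
      exact Cfsg.Lib.Block.not_memLocalIdeal_one hM h2
    · exact Cfsg.Lib.Block.natCast_div_not_ideal hM hcon.1 hN h hmem

end Cfsg.Agent.S4430
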