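import Cfsg.Statements.S4440
import Cfsg.Agent.Lib.Block.RegularSupport
import Cfsg.Agent.S0909
-- import your own Cfsg.Agent.* helpers here

set_option autoImplicit false
open Cfsg

namespace Cfsg.Agent.S4440


/-- Let G be a finite p-solvable group and fix a maximal ideal M of the algebraic integers containing p. Let U be a set of irreducible characters of G such that the class function Σ_{χ ∈ U} χ(1)·χ vanishes at every p-singular element of G. Then U is a union of p-blocks: if χ ∈ U and ψ lies in the same block as χ, then ψ ∈ U. -/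
theorem result {G : Type*} [Group G] [Finite G] (p : ℕ) [Fact p.Prime] (M : Ideal Cfsg.AlgInt) (hM : Cfsg.IsPModular p M) (hsolv : Cfsg.IsPSolvable p G) (U : Set (Cfsg.IrrCharacter G)) (hU : ∀ x : G, p ∣ orderOf x → ∑ᶠ χ ∈ U, (χ : G → ℂ) 1 * (χ : G → ℂ) x = 0) (χ : Cfsg.IrrCharacter G) (hχ : χ ∈ U) (ψ : Cfsg.IrrCharacter G) (hψ : Cfsg.SameBlock M (χ : G → ℂ) (ψ : G → ℂ)) : ψ ∈ U := by
  classical
  haveI := Fintype.ofFinite G
  have hidem : Lib.Block.IsIdem (Lib.Block.zc (Lib.Block.indVec U)) := by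
    refine Lib.Block.isIdem_zc (funext fun η => ?_)
    by_cases h : η ∈ U <;> simp [Lib.Block.indVec, h]
  have hval : ∀ g : G, blockCoeff U g =
      (Nat.card G : ℂ)⁻¹ * ∑ᶠ η ∈ U, (η : G → ℂ) 1 * (η : G → ℂ) g⁻¹ := fun g => by
    rw [blockCoeff]
    congr 1
    exact finsum_mem_congr rfl fun η _ => by rw [η.2.isCharacter.apply_inv]
  refine S0909.result p M hM U (fun g => ?_) χ hχ hψ
  rw [← Lib.Block.zc_indVec]
  exact Lib.Block.IsIdem.mem_locRing_of_isPSolvable hM hsolv hidem (fun x hx => by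
    rw [Lib.Block.zc_indVec, hval, hU x⁻¹ (by rwa [orderOf_inv]), mul_zero]) g

end Cfsg.Agent.S4440
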