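import Cfsg.Statements.S4442
import Cfsg.Agent.Lib.Block.CyclicPrimeApps

set_option autoImplicit false
open Cfsg

namespace Cfsg.Agent.S4442

/-- Blocks of defect one. Let p be an odd prime and G a finite group whose Sylow p-subgroup P has order p; let C = C_G(P) and N = N_G(P), and fix a maximal ideal M of the algebraic integers containing p. Let B be a block of G with defect group P, b a block of C inducing B, and θ the member of b having P in its kernel (there is exactly one). Let T be the stabilizer of θ in N (the elements g ∈ N with θ(g c g⁻¹) = θ(c) for all c ∈ C) and e the index of C in T. Then e divides p − 1 and B contains exactly e + (p − 1)/e irreducible characters. Moreover B is the disjoint union of a set X of e characters and a set Y of (p − 1)/e characters such that, with f the index of C in N: every χ ∈ X has χ(1) ≡ ±(f/e)·θ(1) (mod p), there is one sign ε with ψ(1) ≡ ε f θ(1) (mod p) for all ψ ∈ Y, and all members of Y agree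 on the p-regular elements of G. -/
theorem result {G : Type*} [Group G] [Finite G] (p : ℕ) [Fact p.Prime] (M : Ideal Cfsg.AlgInt) (hM : Cfsg.IsPModular p M) (hodd : p ≠ 2) (P : Sylow p G) (hP : Nat.card P = p) (B : Set (Cfsg.IrrCharacter G)) (hB : Cfsg.IsPBlock M B) (hBP : Cfsg.IsDefectGroup p M B P) (b : Set (Cfsg.IrrCharacter (Subgroup.centralizer ((P : Subgroup G) : Set G)))) (hind : Cfsg.IsInducedBlock M (Subgroup.centralizer ((P : Subgroup G) : Set G)) b B) (θ : Cfsg.IrrCharacter (Subgroup.centralizer ((P : Subgroup G) : Set G))) (hθ : θ ∈ b) (hθP : ∀ x : Subgroup.centralizer ((P : Subgroup G) : Set G), (x : G) ∈ (P : Subgroup G) → (θ : Subgroup.centralizer ((P : Subgroup G) : Set G) → ℂ) x = (θ : Subgroup.centralizer ((P : Subgroup G) : Set G) → ℂ) 1) (T : Subgroup G) (hT : ∀ g : G, g ∈ T ↔ (g ∈ Subgroup.normalizer ((P : Subgroup G) : Set G) ∧ ∀ c c' : Subgroup.centralizer ((P : Subgroup G) : Set G), (c' : G) = g * c * g⁻¹ → (θ : Subgroup.centralizer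 ((P : Subgroup G) : Set G) → ℂ) c' = (θ : Subgroup.centralizer ((P : Subgroup G) : Set G) → ℂ) c)) (e f : ℕ) (he : (Subgroup.centralizer ((P : Subgroup G) : Set G)).relIndex T = e) (hf : (Subgroup.centralizer ((P : Subgroup G) : Set G)).relIndex (Subgroup.normalizer ((P : Subgroup G) : Set G)) = f) : e ∣ p - 1 ∧ Nat.card B = e + (p - 1) / e ∧ ∃ X Y : Set (Cfsg.IrrCharacter G), B = X ∪ Y ∧ Disjoint X Y ∧ Nat.card X = e ∧ Nat.card Y = (p - 1) / e ∧ (∀ χ ∈ X, (Cfsg.charDegree (χ : G → ℂ) : ℤ) ≡ ((f / e * Cfsg.charDegree (θ : Subgroup.centralizer ((P : Subgroup G) : Set G) → ℂ) : ℕ) : ℤ) [ZMOD p] ∨ (Cfsg.charDegree (χ : G → ℂ) : ℤ) ≡ -((f / e * Cfsg.charDegree (θ : Subgroup.centralizer ((P : Subgroup G) : Set G) → ℂ) : ℕ) : ℤ) [ZMOD p]) ∧ (∃ ε : ℤ, (ε = 1 ∨ ε = -1) ∧ ∀ ψ ∈ Y, (Cfsg.charDegree (ψ : G → ℂ) : ℤ) ≡ ε * ((f * Cfsg.charDegree (θ : Subgroup.centralizer ((P : Subgroup G) : Set G) → ℂ) : ℕ) : ℤ) [ZMOD p]) ∧ ∀ ψ ∈ Y, ∀ ψ' ∈ Y, ∀ g : G, ¬ p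 ∣ orderOf g → (ψ : G → ℂ) g = (ψ' : G → ℂ) g := by
  classical
  haveI hp := Fact.mk hM.1
  haveI := Fintype.ofFinite G
  haveI := Fintype.ofFinite (Subgroup.centralizer ((P : Subgroup G) : Set G))
  have hfix := fun (g : G) (hg : g ∈ (Subgroup.normalizer ((P : Subgroup G) : Set G))) =>
    Cfsg.Lib.Block.stabilizes_iff_fix hM hB hBP hP hind hθ hθP hg
  have hT' : ∀ g : G, g ∈ T ↔ g ∈ (Subgroup.normalizer ((P : Subgroup G) : Set G)) ∧ StabilizesBlock (Subgroup.centralizer ((P : Subgroup G) : Set G)) b g := fun g => by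
    rw [hT g]
    exact and_congr_right fun hg => (hfix g hg).symm
  obtain ⟨X, Y, δ, δ₀, hdiv, hBXY, hdis, hX, hY, hYne, hrank, hδ, hδ₀, hYagree, hrel, -, -, hcX,
    hcY, -⟩ := Cfsg.Lib.Block.prime_structure hM hB hBP hP hind hθ hθP T hT'
  rw [he] at hX hY hcY hdiv
  have hTN : T ≤ (Subgroup.normalizer ((P : Subgroup G) : Set G)) := fun g hg => ((hT g).1 hg).1
  have hCT : (Subgroup.centralizer ((P : Subgroup G) : Set G)) ≤ T := fun g hg => (hT' g).2 ⟨Subgroup.centralizer_le_normalizer _ hg, by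
    rw [hfix g (Subgroup.centralizer_le_normalizer _ hg)]
    intro c c' e'
    have : c' = ⟨g, hg⟩ * c * ⟨g, hg⟩⁻¹ := Subtype.ext e'
    rw [this, θ.2.isClassFunction]⟩
  have hfe : e * T.relIndex (Subgroup.normalizer ((P : Subgroup G) : Set G)) = f := by rw [← he, ← hf, Subgroup.relIndex_mul_relIndex (Subgroup.centralizer ((P : Subgroup G) : Set G)) T (Subgroup.normalizer ((P : Subgroup G) : Set G)) hCT hTN]
  have he0 : 0 < e := Nat.pos_of_dvd_of_pos hdiv (Nat.sub_pos_of_lt hp.out.one_lt)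
  have hr : f / e = T.relIndex (Subgroup.normalizer ((P : Subgroup G) : Set G)) := by rw [← hfe, Nat.mul_div_cancel_left _ he0]
  have hcb := Cfsg.Lib.Block.root_card hM hB hBP hP hind
  refine ⟨hdiv, ?_, X, Y, hBXY, hdis, hX, hY, fun χ hχ => ?_, ⟨δ₀, hδ₀, fun ψ hψ => ?_⟩, hYagree⟩
  · rw [hBXY, Nat.card_coe_set_eq, Set.ncard_union_eq hdis, ← Nat.card_coe_set_eq,
      ← Nat.card_coe_set_eq, hX, hY]
  · have hχB : χ ∈ B := hBXY ▸ Or.inl hχ
    have h := Cfsg.Lib.Block.degree_congr hM hB hBP hP hind hθ T hT' hχB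
      (((p : ℤ) - 1) * δ χ) (by
        rw [← Finset.add_sum_erase _ _ (Set.mem_toFinset.2 hθ), sub_self, zero_add,
          Finset.sum_congr rfl fun ξ hξ => by
            rw [hcX χ hχ ξ (Set.mem_toFinset.1 (Finset.mem_erase.1 hξ).2)
              (Finset.mem_erase.1 hξ).1, add_sub_cancel_left],
          Finset.sum_const, Finset.card_erase_of_mem (Set.mem_toFinset.2 hθ), Set.toFinset_card,
          ← Nat.card_eq_fintype_card, hcb, nsmul_eq_mul, Nat.cast_sub hp.out.one_le]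
        push_cast
        ring)
    rw [hr, Nat.cast_mul]
    set r : ℤ := ((T.relIndex (Subgroup.normalizer ((P : Subgroup G) : Set G)) : ℕ) : ℤ)
    set m : ℤ := ((Cfsg.charDegree (θ : (Subgroup.centralizer ((P : Subgroup G) : Set G)) → ℂ) : ℕ) : ℤ)
    rcases hδ χ hχ with hd | hd
    · exact Or.inr (h.trans (Int.modEq_iff_dvd.2 ⟨-(r * m), by rw [hd]; ring⟩))
    · exact Or.inl (h.trans (Int.modEq_iff_dvd.2 ⟨r * m, by rw [hd]; ring⟩))
  · have hψB : ψ ∈ B := hBXY ▸ Or.inr hψ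
    have h := Cfsg.Lib.Block.degree_congr hM hB hBP hP hind hθ T hT' hψB ((e : ℤ) * δ₀)
      (by rw [hcY ψ hψ]; push_cast; rfl)
    refine h.trans ?_
    rw [← hfe]
    push_cast
    ring_nf
    exact Int.ModEq.refl _

end Cfsg.Agent.S4442
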