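import Cfsg.Statements.S4443
import Cfsg.Agent.Lib.Block.ClassMatrixApps

set_option autoImplicit false
open Cfsg

namespace Cfsg.Agent.S4443

/-- Let D be a normal p-subgroup of the finite group G, of order p^d, let p^a be the p-part of the order of G, and fix a Sylow p-subgroup S and a maximal ideal M of the algebraic integers containing p. Index by a finite type ι (via an injective map K) exactly the conjugacy classes of p-regular elements x of G for which D is a Sylow p-subgroup of C_G(x). For classes K_i, K_j let ω(i, j) be the number of pairs (y, z) ∈ K_i × K_j with z y⁻¹ ∈ S; this number is divisible by p^(a−d). Then the number of p-blocks of G having D as a defect group equals the rank over ℤ/pℤ of the matrix with (i, j) entry ω(i, j)/p^(a−d) reduced modulo p. -/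
theorem result {G : Type*} [Group G] [Finite G] (p : ℕ) [Fact p.Prime] (M : Ideal Cfsg.AlgInt) (hM : Cfsg.IsPModular p M) (D : Subgroup G) [D.Normal] (hD : IsPGroup p D) (S : Sylow p G) {ι : Type*} [Fintype ι] [DecidableEq ι] (K : ι → ConjClasses G) (hKinj : Function.Injective K) (hK : ∀ C : ConjClasses G, (∃ i, K i = C) ↔ ∃ x ∈ C.carrier, ¬ p ∣ orderOf x ∧ ∃ Q : Sylow p (Subgroup.centralizer ({x} : Set G)), (Q : Subgroup (Subgroup.centralizer ({x} : Set G))).map (Subgroup.centralizer ({x} : Set G)).subtype = D) : Nat.card {B : Set (Cfsg.IrrCharacter G) // Cfsg.IsPBlock M B ∧ Cfsg.IsDefectGroup p M B D} = (Matrix.of fun i j : ι => ((Nat.card {yz : G × G // yz.1 ∈ (K i).carrier ∧ yz.2 ∈ (K j).carrier ∧ yz.2 * yz.1⁻¹ ∈ (S : Subgroup G)} / p ^ ((Nat.card G).factorization p - (Nat.card D).factorization p) : ℕ) : ZMod p)).rank := by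
  haveI := Fintype.ofFinite G
  set k := (Nat.card G).factorization p - (Nat.card D).factorization p with hkdef
  have hk : k + (Nat.card D).factorization p = (Nat.card G).factorization p := by
    have := (Nat.factorization_le_iff_dvd Nat.card_pos.ne' Nat.card_pos.ne').2
      (Subgroup.card_subgroup_dvd_card D) p
    omega
  have hout : ∀ i, ConjClasses.mk (K i).out = K i := fun i => Quotient.out_eq (K i)
  have hconj : ∀ i (y : G), y ∈ (K i).carrier ↔ IsConj (K i).out y := fun i y => by
    rw [ConjClasses.mem_carrier_iff_mk_eq]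
    exact ⟨fun h => ConjClasses.mk_eq_mk_iff_isConj.1 ((hout i).trans h.symm),
      fun h => (ConjClasses.mk_eq_mk_iff_isConj.2 h.symm).trans (hout i)⟩
  have hcen : ∀ i, ∃ P : Sylow p (Subgroup.centralizer ({(K i).out} : Set G)),
      Cfsg.Lib.Block.cenSyl (K i).out P = D := by
    intro i
    obtain ⟨x, hx, -, Q, hQ⟩ := (hK (K i)).1 ⟨i, rfl⟩
    obtain ⟨c, hc⟩ := isConj_iff.1 ((hconj i x).1 hx).symm
    set e := (Subgroup.centralizer ({x} : Set G)).map (MulAut.conj c).toMonoidHom with he
    have hce : e = Subgroup.centralizer ({(K i).out} : Set G) := by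
      ext z
      rw [he, Subgroup.mem_map_equiv]
      simp only [Subgroup.mem_centralizer_iff, Set.mem_singleton_iff, forall_eq, ← hc,
        MulAut.conj_symm_apply]
      constructor
      · intro h
        calc c * x * c⁻¹ * z = c * (x * (c⁻¹ * z * c)) * c⁻¹ := by group
          _ = c * (c⁻¹ * z * c * x) * c⁻¹ := by rw [h]
          _ = z * (c * x * c⁻¹) := by group
      · intro h
        calc x * (c⁻¹ * z * c) = c⁻¹ * (c * x * c⁻¹ * z) * c := by group
          _ = c⁻¹ * (z * (c * x * c⁻¹)) * c := by rw [h]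
          _ = c⁻¹ * z * c * x := by group
    set D' : Subgroup G := D.map (MulAut.conj c).toMonoidHom with hD'
    have hDD : D' = D := Cfsg.Lib.Block.map_conj_eq_self
      ((Subgroup.normalizer_eq_top_iff.2 inferInstance).ge (Subgroup.mem_top c))
    have hle : D ≤ Subgroup.centralizer ({(K i).out} : Set G) := by
      rw [← hDD, hD', ← hce, he]
      exact Subgroup.map_mono (hQ ▸ Subgroup.map_subtype_le _)
    refine ⟨Sylow.ofCard (D.subgroupOf _) ?_, ?_⟩
    · rw [Nat.card_congr (Subgroup.subgroupOfEquivOfLe hle).toEquiv]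
      conv_lhs => rw [← hQ, Subgroup.card_map_of_injective (Subgroup.subtype_injective _),
        Q.card_eq_multiplicity]
      rw [← hce, he, Subgroup.card_map_of_injective (MulAut.conj c).injective]
    · rw [Cfsg.Lib.Block.cenSyl, Sylow.coe_ofCard, Subgroup.map_subgroupOf_eq_of_le hle]
  have h := Cfsg.Lib.Block.card_defBlock_eq_rank (M := M) hM S hk (fun i => (K i).out)
    (fun i j hij => hKinj (by rw [← hout i, ← hout j]; exact ConjClasses.mk_eq_mk_iff_isConj.2 hij))
    hcen (fun y hy hP => ?_)
  · rw [show Nat.card {B : Set (Cfsg.IrrCharacter G) // Cfsg.IsPBlock M B ∧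
      Cfsg.IsDefectGroup p M B D} = _ from h]
    congr 2
    funext i j
    refine congrArg (fun n : ℕ => ((n / p ^ k : ℕ) : ZMod p)) ?_
    exact Nat.card_congr (Equiv.subtypeEquivRight fun yz => by rw [hconj, hconj])
  · obtain ⟨P, hP⟩ := hP
    obtain ⟨i, hi⟩ := (hK (ConjClasses.mk y)).2
      ⟨y, ConjClasses.mem_carrier_mk, hy, P, hP⟩
    exact ⟨i, ConjClasses.mk_eq_mk_iff_isConj.1 (by rw [hout, hi])⟩

end Cfsg.Agent.S4443
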