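import Cfsg.Statements.S4444
import Cfsg.Agent.Lib.Char.GlaubermanP
-- import your own Cfsg.Agent.* helpers here

set_option autoImplicit false
open Cfsg

namespace Cfsg.Agent.S4444

set_option linter.style.haveILetI false
open Cfsg Cfsg.Lib.Char


/-- The Glauberman correspondence for a p-group of operators. Inside a finite group Γ let S normalise G with the orders of G and S coprime, S a p-group, and let C = G ⊓ C(S) be the fixed points. Call an irreducible character χ of G S-invariant when χ(s g s⁻¹) = χ(g) for s ∈ S, g ∈ G. Then: (i) for every S-invariant χ there is exactly one irreducible character β of C whose multiplicity [χ_C, β] in the restriction of χ is not divisible by p; (ii) that multiplicity is ≡ 1 or ≡ −1 (mod p); (iii) distinct S-invariant χ give distinct β; (iv) every irreducible character of C arises in this way. So χ ↦ β is a bijection from the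 S-invariant irreducible characters of G onto the irreducible characters of C. -/
theorem result {Γ : Type*} [Group Γ] [Fintype Γ] (G S : Subgroup Γ) [Fintype G] (hnorm : ∀ s ∈ S, ∀ g ∈ G, s * g * s⁻¹ ∈ G) (hcop : (Nat.card G).Coprime (Nat.card S)) (p : ℕ) (hp : p.Prime) (hS : IsPGroup p S) (C : Subgroup Γ) [Fintype C] (hC : C = G ⊓ Subgroup.centralizer (S : Set Γ)) (hCG : C ≤ G) : (∀ χ : Cfsg.IrrCharacter G, (∀ s ∈ S, ∀ g g' : G, (g' : Γ) = s * g * s⁻¹ → (χ : G → ℂ) g' = (χ : G → ℂ) g) → ∃! β : Cfsg.IrrCharacter C, ∃ m : ℕ, Cfsg.classInner (fun c : C => (χ : G → ℂ) ⟨c, hCG c.2⟩) (β : C → ℂ) = (m : ℂ) ∧ ¬ p ∣ m) ∧ (∀ χ : Cfsg.IrrCharacter G, (∀ s ∈ S, ∀ g g' : G, (g' : Γ) = s * g * s⁻¹ → (χ : G → ℂ) g' = (χ : G → ℂ) g) → ∀ β : Cfsg.IrrCharacter C, ∀ m : ℕ, Cfsg.classInner (fun c : C => (χ : G → ℂ) ⟨c, hCG c.2⟩) (β : C → ℂ) = (m : ℂ) → ¬ p ∣ m → ((m : ℤ) ≡ 1 [ZMOD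 p] ∨ (m : ℤ) ≡ -1 [ZMOD p])) ∧ (∀ χ χ' : Cfsg.IrrCharacter G, (∀ s ∈ S, ∀ g g' : G, (g' : Γ) = s * g * s⁻¹ → (χ : G → ℂ) g' = (χ : G → ℂ) g) → (∀ s ∈ S, ∀ g g' : G, (g' : Γ) = s * g * s⁻¹ → (χ' : G → ℂ) g' = (χ' : G → ℂ) g) → ∀ β : Cfsg.IrrCharacter C, ∀ m m' : ℕ, Cfsg.classInner (fun c : C => (χ : G → ℂ) ⟨c, hCG c.2⟩) (β : C → ℂ) = (m : ℂ) → ¬ p ∣ m → Cfsg.classInner (fun c : C => (χ' : G → ℂ) ⟨c, hCG c.2⟩) (β : C → ℂ) = (m' : ℂ) → ¬ p ∣ m' → χ = χ') ∧ (∀ β : Cfsg.IrrCharacter C, ∃ χ : Cfsg.IrrCharacter G, (∀ s ∈ S, ∀ g g' : G, (g' : Γ) = s * g * s⁻¹ → (χ : G → ℂ) g' = (χ : G → ℂ) g) ∧ ∃ m : ℕ, Cfsg.classInner (fun c : C => (χ : G → ℂ) ⟨c, hCG c.2⟩) (β : C → ℂ) = (m : ℂ) ∧ ¬ p ∣ m) := by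
  have hSG : S ≤ Subgroup.normalizer (G : Set Γ) := fun s hs => by
    rw [Subgroup.mem_normalizer_iff]
    intro g
    refine ⟨fun hg => hnorm s hs g hg, fun hg => ?_⟩
    have h := hnorm s⁻¹ (inv_mem hs) _ hg
    rwa [inv_inv, show s⁻¹ * (s * g * s⁻¹) * s = g by group] at h
  have h := isCorrespondence_pGroup hp S hS G C hSG hcop hCG fun x => by
    rw [hC]; exact Iff.rfl
  refine ⟨fun χ hχ => ?_, fun χ hχ β m hm hnd => ?_, fun χ χ' hχ hχ' β m m' hm hnd hm' hnd' => ?_,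
    fun β => ?_⟩
  · obtain ⟨β, hβ⟩ := h.exists_corr _ χ.2 hχ
    obtain ⟨m, hm⟩ := (χ.2.isCharacter.comp (Subgroup.inclusion hCG)).exists_nat_classInner
      hβ.1.isCharacter
    exact ⟨⟨β, hβ.1⟩, ⟨m, hm, (hβ.not_dvd_iff hp hβ.1 hm).mpr rfl⟩,
      fun η ⟨k, hk, hk'⟩ => Subtype.ext ((hβ.not_dvd_iff hp η.2 hk).mp hk')⟩
  · obtain ⟨b, hb⟩ := h.exists_corr _ χ.2 hχ
    have he := (hb.not_dvd_iff hp β.2 hm).mp hnd
    obtain ⟨-, ε, hε, hall⟩ := hb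
    rcases hε with rfl | rfl
    · exact Or.inl ((hall _ m β.2 hm).1 he)
    · exact Or.inr ((hall _ m β.2 hm).1 he)
  · obtain ⟨b, hb⟩ := h.exists_corr _ χ.2 hχ
    obtain ⟨b', hb'⟩ := h.exists_corr _ χ'.2 hχ'
    rw [← (hb.not_dvd_iff hp β.2 hm).mp hnd] at hb
    rw [← (hb'.not_dvd_iff hp β.2 hm').mp hnd'] at hb'
    exact Subtype.ext (h.injective _ _ _ χ.2 hχ χ'.2 hχ' hb hb')
  · obtain ⟨χ, hχ, hi, hc⟩ := h.surjective _ β.2
    obtain ⟨m, hm⟩ := (hχ.isCharacter.comp (Subgroup.inclusion hCG)).exists_nat_classInner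
      β.2.isCharacter
    exact ⟨⟨χ, hχ⟩, hi, m, hm, (hc.not_dvd_iff hp β.2 hm).mpr rfl⟩

end Cfsg.Agent.S4444
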