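import Cfsg.Statements.S4446
import Cfsg.Agent.Lib.Char.GlaubermanCyclic
-- import your own Cfsg.Agent.* helpers here

set_option autoImplicit false
open Cfsg

namespace Cfsg.Agent.S4446

set_option linter.style.haveILetI false
open Cfsg Cfsg.Lib.Char


/-- Let the finite group Γ be generated by a normal subgroup G and a cyclic subgroup S of coprime orders, C = G ⊓ C(S), and let χ be an S-invariant irreducible character of G with canonical extension χ̂ to Γ (the extension whose determinantal order is coprime to the order of S). Then there are exactly one irreducible character β of C and one sign ε such that χ̂(c s) = ε β(c) for every c ∈ C and every generator s of S; this β is a constituent of the restriction of χ to C; distinct S-invariant χ give distinct β; and every irreducible character of C arises in this way. -/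
theorem result {Γ : Type*} [Group Γ] [Fintype Γ] (G S : Subgroup Γ) [Fintype G] (hnorm : ∀ s ∈ S, ∀ g ∈ G, s * g * s⁻¹ ∈ G) (hcop : (Nat.card G).Coprime (Nat.card S)) (htop : G ⊔ S = ⊤) (hcyc : IsCyclic S) (C : Subgroup Γ) [Fintype C] (hC : C = G ⊓ Subgroup.centralizer (S : Set Γ)) (hCG : C ≤ G) : (∀ (χ : Cfsg.IrrCharacter G) (χh : Cfsg.IrrCharacter Γ), (∀ s ∈ S, ∀ g g' : G, (g' : Γ) = s * g * s⁻¹ → (χ : G → ℂ) g' = (χ : G → ℂ) g) → (∀ g : G, (χh : Γ → ℂ) g = (χ : G → ℂ) g) → (Cfsg.detOrder (χh : Γ → ℂ)).Coprime (Nat.card S) → (∃! βε : Cfsg.IrrCharacter C × ℤ, (βε.2 = 1 ∨ βε.2 = -1) ∧ ∀ c : C, ∀ s : Γ, Subgroup.zpowers s = S → (χh : Γ → ℂ) ((c : Γ) * s) = (βε.2 : ℂ) * (βε.1 : C → ℂ) c) ∧ ∀ β : Cfsg.IrrCharacter C, ∀ ε : ℤ, (ε = 1 ∨ ε = -1) → (∀ c : C, ∀ s : Γ, Subgroup.zpowers s = S → (χh : Γ → ℂ) ((c : Γ) * s) = (ε : ℂ) * (β : C → ℂ) c) → Cfsg.classInner (fun c : C => (χ : G → ℂ) ⟨c, hCG c.2⟩)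 (β : C → ℂ) ≠ 0) ∧ (∀ (χ χ' : Cfsg.IrrCharacter G) (χh χh' : Cfsg.IrrCharacter Γ), (∀ s ∈ S, ∀ g g' : G, (g' : Γ) = s * g * s⁻¹ → (χ : G → ℂ) g' = (χ : G → ℂ) g) → (∀ s ∈ S, ∀ g g' : G, (g' : Γ) = s * g * s⁻¹ → (χ' : G → ℂ) g' = (χ' : G → ℂ) g) → (∀ g : G, (χh : Γ → ℂ) g = (χ : G → ℂ) g) → (∀ g : G, (χh' : Γ → ℂ) g = (χ' : G → ℂ) g) → (Cfsg.detOrder (χh : Γ → ℂ)).Coprime (Nat.card S) → (Cfsg.detOrder (χh' : Γ → ℂ)).Coprime (Nat.card S) → ∀ β : Cfsg.IrrCharacter C, ∀ ε ε' : ℤ, (ε = 1 ∨ ε = -1) → (ε' = 1 ∨ ε' = -1) → (∀ c : C, ∀ s : Γ, Subgroup.zpowers s = S → (χh : Γ → ℂ) ((c : Γ) * s) = (ε : ℂ) * (β : C → ℂ) c) → (∀ c : C, ∀ s : Γ, Subgroup.zpowers s = S → (χh' : Γ → ℂ) ((c : Γ) * s) = (ε' : ℂ) * (β : C → ℂ) c) → χ = χ') ∧ (∀ β : Cfsg.IrrCharacter C, ∃ (χ : Cfsg.IrrCharacter G) (χh : Cfsg.IrrCharacter Γ) (ε : ℤ), (∀ s ∈ S, ∀ g g' : G, (g' : Γ) = s * g * s⁻¹ → (χ : G → ℂ) g' = (χ : G → ℂ) g) ∧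 (∀ g : G, (χh : Γ → ℂ) g = (χ : G → ℂ) g) ∧ (Cfsg.detOrder (χh : Γ → ℂ)).Coprime (Nat.card S) ∧ (ε = 1 ∨ ε = -1) ∧ ∀ c : C, ∀ s : Γ, Subgroup.zpowers s = S → (χh : Γ → ℂ) ((c : Γ) * s) = (ε : ℂ) * (β : C → ℂ) c) := by
  haveI hN : G.Normal := Subgroup.normalizer_eq_top_iff.mp (top_le_iff.mp (by
    rw [← htop]
    refine sup_le Subgroup.le_normalizer fun s hs => ?_
    rw [Subgroup.mem_normalizer_iff]
    intro g
    refine ⟨fun hg => hnorm s hs g hg, fun hg => ?_⟩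
    have h := hnorm s⁻¹ (inv_mem hs) _ hg
    rwa [inv_inv, show s⁻¹ * (s * g * s⁻¹) * s = g by group] at h))
  obtain ⟨s, hs⟩ := S.isCyclic_iff_exists_zpowers_eq_top.mp hcyc
  have hm : Nat.card S = orderOf s := by rw [← hs, Nat.card_zpowers]
  have htop' : G ⊔ Subgroup.zpowers s = ⊤ := by rw [hs, htop]
  have hcop' : (Nat.card G).Coprime (orderOf s) := hm ▸ hcop
  have hidx : G.index = Nat.card S := by rw [index_eq_orderOf htop' hcop', hm]
  have hC' : ∀ x, x ∈ C ↔ x ∈ G ∧ Commute x s := fun x => by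
    rw [hC, Subgroup.mem_inf, ← hs]
    refine and_congr Iff.rfl ⟨fun h => ((Subgroup.mem_centralizer_iff.mp h) s
      (Subgroup.mem_zpowers s)).symm, fun h => Subgroup.mem_centralizer_iff.mpr ?_⟩
    rintro y ⟨i, rfl⟩
    exact (h.zpow_right i).symm.eq
  have hgen : ∀ t : Γ, Subgroup.zpowers t = S →
      ∃ k : ℕ, k.Coprime (orderOf s) ∧ t = s ^ k := fun t ht => by
    have h1 : t ∈ Subgroup.zpowers s := by rw [hs, ← ht]; exact Subgroup.mem_zpowers t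
    obtain ⟨k, hk⟩ : ∃ k : ℕ, s ^ k = t := mem_powers_iff_mem_zpowers.mpr h1
    refine ⟨k, ?_, hk.symm⟩
    have h2 : orderOf (s ^ k) = orderOf s := by
      rw [hk, ← Nat.card_zpowers, ← Nat.card_zpowers, ht, hs]
    rw [orderOf_pow] at h2
    show k.gcd _ = 1
    rw [Nat.gcd_comm]
    exact (Nat.div_eq_self.mp h2).resolve_left (orderOf_pos s).ne'
  have hinv' : ∀ χ : G → ℂ,
      (∀ t ∈ S, ∀ g g' : G, (g' : Γ) = t * g * t⁻¹ → χ g' = χ g) →
      ∀ n : G, χ (MulAut.conjNormal s n) = χ n := fun χ h n =>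
    h s (by rw [← hs]; exact Subgroup.mem_zpowers s) n _ (MulAut.conjNormal_apply s n)
  refine ⟨fun χ χh hinv hres hdet => ?_, fun χ χ' χh χh' _ _ hres hres' _ _ β ε ε' hε hε' h1 h2 => ?_,
    fun β => ?_⟩
  · have hcan : IsCanonExt G (χ : G → ℂ) (χh : Γ → ℂ) := ⟨χh.2, hres, hidx ▸ hdet⟩
    obtain ⟨b, e, he, hb, hb0, -⟩ :=
      exists_slice_eq htop' hcop' hC' χ.2 (hinv' _ hinv) hcan
    have huniq : ∀ β : IrrCharacter C, ∀ ε : ℤ, (ε = 1 ∨ ε = -1) →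
        (∀ c : C, ∀ t : Γ, Subgroup.zpowers t = S →
          (χh : Γ → ℂ) ((c : Γ) * t) = (ε : ℂ) * (β : C → ℂ) c) → β = b ∧ ε = e := by
      intro β ε hε h
      have h3 : (ε : ℂ) • (β : C → ℂ) = (e : ℂ) • (b : C → ℂ) := funext fun c => by
        have h4 := hb 1 (Nat.coprime_one_left _) c
        rw [pow_one, h c s hs] at h4
        simpa using h4
      have hβ : β = b := by
        by_contra hne
        have h5 := congrArg (fun g => classInner g (β : C → ℂ)) h3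
        simp only [classInner_smul_left, classInner_irr_self β.2,
          classInner_irr_ne b.2 β.2 (fun h' => hne (Subtype.ext h'.symm)), mul_one, mul_zero,
          Int.cast_eq_zero] at h5
        rcases hε with rfl | rfl <;> omega
      subst hβ
      have h5 := congrArg (fun g => classInner g (β : C → ℂ)) h3
      simp only [classInner_smul_left, classInner_irr_self β.2, mul_one, Int.cast_inj] at h5
      exact ⟨rfl, h5⟩
    refine ⟨⟨(b, e), ⟨he, fun c t ht => ?_⟩, fun ⟨β, ε⟩ ⟨hε, h⟩ => ?_⟩, fun β ε hε h => ?_⟩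
    · obtain ⟨k, hk, rfl⟩ := hgen t ht
      exact hb k hk c
    · obtain ⟨rfl, rfl⟩ := huniq β ε hε h
      rfl
    · obtain ⟨rfl, -⟩ := huniq β ε hε h
      simp only [← hres]
      exact hb0
  · exact Subtype.ext (eq_of_slice_eq htop' hcop' hC' χ.2 χh.2 hres χh'.2 hres' β.2 hε hε'
      (fun c => h1 c s hs) fun c => h2 c s hs)
  · obtain ⟨χ, χh, ε, hχ, hi, hh, hε, hb⟩ := exists_of_slice htop' hcop' hC' β.2
    refine ⟨⟨χ, hχ⟩, ⟨χh, hh.1⟩, ε, fun t ht g g' hg => ?_, hh.2.1, hidx ▸ hh.2.2, hε,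
      fun c t ht => ?_⟩
    · have := invariant_of_gen htop' hχ hi t g
      rw [show g' = MulAut.conjNormal t g from Subtype.ext hg]
      exact this
    · obtain ⟨k, hk, rfl⟩ := hgen t ht
      exact hb k hk c

end Cfsg.Agent.S4446
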