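import Cfsg.Statements.S4447
import Cfsg.Agent.Lib.Block.CoprimeOperators

set_option autoImplicit false
open Cfsg

set_option linter.style.haveILetI false

namespace Cfsg.Agent.S4447

/-- Inside a finite group Γ let S normalise G and also normalise a normal subgroup N of G, with the order of S coprime to the index of N in G and S or G/N solvable. Then for every S-invariant irreducible character χ of G, the restriction of χ to N has an S-invariant irreducible constituent. -/
theorem result {Γ : Type*} [Group Γ] [Fintype Γ] (G S N : Subgroup Γ) [Fintype G] [Fintype N] (hnorm : ∀ s ∈ S, ∀ g ∈ G, s * g * s⁻¹ ∈ G) (hNG : N ≤ G) [hNn : (N.subgroupOf G).Normal] (hNS : ∀ s ∈ S, ∀ n ∈ N, s * n * s⁻¹ ∈ N) (hcop : (N.relIndex G).Coprime (Nat.card S)) (hsolv : Group.IsSolvable S ∨ Group.IsSolvable (G ⧸ N.subgroupOf G)) (χ : Cfsg.IrrCharacter G) (hinv : (∀ s ∈ S, ∀ g g' : G, (g' : Γ) = s * g * s⁻¹ → (χ : G → ℂ) g' = (χ : G → ℂ) g)) : ∃ θ : Cfsg.IrrCharacter N, Cfsg.classInner (fun n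 : N => (χ : G → ℂ) ⟨n, hNG n.2⟩) (θ : N → ℂ) ≠ 0 ∧ (∀ s ∈ S, ∀ g g' : N, (g' : Γ) = s * g * s⁻¹ → (θ : N → ℂ) g' = (θ : N → ℂ) g) := by
  classical
  have hn : ∀ (A B : Subgroup Γ), (∀ a ∈ A, ∀ b ∈ B, a * b * a⁻¹ ∈ B) →
      A ≤ Subgroup.normalizer (B : Set Γ) := by
    intro A B hAB a ha
    rw [Subgroup.mem_normalizer_iff]
    intro b
    refine ⟨fun hb => hAB a ha b hb, fun hb => ?_⟩
    have h := hAB a⁻¹ (inv_mem ha) _ hb
    rwa [inv_inv, show a⁻¹ * (a * b * a⁻¹) * a = b by group] at h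
  let D : Subgroup Γ := G ⊔ S
  have hDG : D ≤ Subgroup.normalizer (G : Set Γ) := sup_le Subgroup.le_normalizer (hn S G hnorm)
  have hGN : G ≤ Subgroup.normalizer (N : Set Γ) :=
    (Subgroup.normal_subgroupOf_iff_le_normalizer hNG).mp hNn
  have hDN : D ≤ Subgroup.normalizer (N : Set Γ) := sup_le hGN (hn S N hNS)
  let G' := G.subgroupOf D
  let N' := N.subgroupOf D
  let S' := S.subgroupOf D
  haveI : G'.Normal := Subgroup.normal_subgroupOf_of_le_normalizer hDG
  haveI : N'.Normal := Subgroup.normal_subgroupOf_of_le_normalizer hDN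
  haveI := Fintype.ofFinite D
  haveI := Fintype.ofFinite G'
  haveI := Fintype.ofFinite N'
  have hND : N ≤ D := hNG.trans le_sup_left
  have hN'G' : N' ≤ G' := fun x hx => hNG hx
  let eG : G' ≃* G := Subgroup.subgroupOfEquivOfLe le_sup_left
  let eN : N' ≃* N := Subgroup.subgroupOfEquivOfLe hND
  have hsup : G' ⊔ S' = ⊤ := by
    show G.subgroupOf D ⊔ S.subgroupOf D = ⊤
    rw [← Subgroup.subgroupOf_sup le_sup_left le_sup_right]
    exact Subgroup.subgroupOf_self D
  have hcop' : (N'.relIndex G').Coprime (Nat.card S') := by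
    show ((N.subgroupOf D).relIndex (G.subgroupOf D)).Coprime _
    rw [Subgroup.relIndex_subgroupOf le_sup_left,
      Nat.card_congr (Subgroup.subgroupOfEquivOfLe (le_sup_right : S ≤ D)).toEquiv]
    exact hcop
  have hquot : Group.IsSolvable (G ⧸ N.subgroupOf G) → Group.IsSolvable (G' ⧸ N'.subgroupOf G') :=
    fun h => by
      haveI := h
      let q : G ⧸ N.subgroupOf G ≃* G' ⧸ N'.subgroupOf G' :=
        QuotientGroup.congr _ _ eG.symm (by
          ext x
          constructor
          · rintro ⟨y, hy, rfl⟩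
            exact hy
          · intro hx
            exact ⟨eG x, hx, eG.symm_apply_apply x⟩)
      exact Group.isSolvable_of_surjective (f := q.toMonoidHom) q.surjective
  have hsolS : Group.IsSolvable S → Group.IsSolvable S' := fun h => by
    haveI := h
    exact Group.isSolvable_of_surjective
      (f := (Subgroup.subgroupOfEquivOfLe (le_sup_right : S ≤ D)).symm.toMonoidHom)
      (MulEquiv.surjective _)
  have hDinv : D ≤ Lib.Char.invStab G (χ : G → ℂ) := sup_le
    (fun g hg => ⟨Subgroup.le_normalizer hg, fun x => χ.2.isClassFunction x ⟨g, hg⟩⟩)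
    (fun s hs => ⟨hn S G hnorm hs, fun x => hinv s hs x _ rfl⟩)
  obtain ⟨θ, hθ, hne, hfix⟩ := Lib.Block.exists_fixed_constituent G' N' S' hsup hN'G' hcop'
    (hsolv.imp hsolS hquot) (Lib.Char.isIrrCharacter_comp_equiv eG χ.2) (fun x g => by
      obtain ⟨hx, h⟩ := hDinv x.2
      exact h (eG g))
  refine ⟨⟨fun n => θ (eN.symm n), Lib.Char.isIrrCharacter_comp_equiv eN.symm hθ⟩, ?_, ?_⟩
  · rw [← Lib.Char.classInner_comp_equiv eN]
    simp only [MulEquiv.symm_apply_apply]
    exact hne
  · intro s hs g g' hg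
    show θ (eN.symm g') = θ (eN.symm g)
    refine Eq.trans (congrArg θ (Subtype.ext (Subtype.ext ?_))) (hfix ⟨s, le_sup_right (a := G) hs⟩ hs (eN.symm g))
    exact hg

end Cfsg.Agent.S4447
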