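import Cfsg.Statements.S4451
import Cfsg.Agent.Lib.Char.FixedPointFreeSlices
import Cfsg.Agent.Lib.Block.Basic

set_option autoImplicit false
open Cfsg

namespace Cfsg.Agent.S4451

/-- Let the finite group Γ be generated by a normal subgroup G and a cyclic subgroup S of coprime orders such that every non-identity element of S has the same centraliser C = G ⊓ C(S) in G. Let χ be an S-invariant irreducible character of G, χ̂ its canonical extension to Γ (determinantal order coprime to the order of S), and β the irreducible character of C with χ̂(c s) = ε₀ β(c) for c ∈ C and generators s of S (ε₀ = ±1). Then there are a sign ε = ±1, which may differ from ε₀, and a linear character μ of S with μ² = 1, such that: (a) χ̂(c x) = ε β(c) μ(x) for all c ∈ C and all x ∈ S other than 1; (b) the restriction of χ to C equals |S|·ϑ + ε β for some character ϑ of C or ϑ = 0; (c) |S| divides χ(1) − ε β(1).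 -/
theorem result {Γ : Type*} [Group Γ] [Fintype Γ] (G S : Subgroup Γ) [Fintype G] (hnorm : ∀ s ∈ S, ∀ g ∈ G, s * g * s⁻¹ ∈ G) (hcop : (Nat.card G).Coprime (Nat.card S)) (htop : G ⊔ S = ⊤) (hcyc : IsCyclic S) (C : Subgroup Γ) [Fintype C] (hC : C = G ⊓ Subgroup.centralizer (S : Set Γ)) (hCG : C ≤ G) (hfpf : ∀ x ∈ S, x ≠ 1 → G ⊓ Subgroup.centralizer ({x} : Set Γ) = C) (χ : Cfsg.IrrCharacter G) (hinv : (∀ s ∈ S, ∀ g g' : G, (g' : Γ) = s * g * s⁻¹ → (χ : G → ℂ) g' = (χ : G → ℂ) g)) (χh : Cfsg.IrrCharacter Γ) (hext : (∀ g : G, (χh : Γ → ℂ) g = (χ : G → ℂ) g)) (hdet : (Cfsg.detOrder (χh : Γ → ℂ)).Coprime (Nat.card S)) (β : Cfsg.IrrCharacter C) (ε₀ : ℤ) (hε₀ : ε₀ = 1 ∨ ε₀ = -1) (hβ : ∀ c : C, ∀ s : Γ, Subgroup.zpowers s = S → (χh : Γ → ℂ) ((c : Γ) * s) = (ε₀ : ℂ) * (β : C → ℂ) c) : ∃ ε : ℤ, (ε = 1 ∨ ε = -1) ∧ (∃ μ : S → ℂ, Cfsg.IsCharacter S μ ∧ μ 1 = 1 ∧ (∀ x : S, μ x * μ x = 1) ∧ ∀ c : C, ∀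 x : S, x ≠ 1 → (χh : Γ → ℂ) ((c : Γ) * x) = (ε : ℂ) * (β : C → ℂ) c * μ x) ∧ (∃ ϑ : C → ℂ, Cfsg.IsCharacter C ϑ ∧ (fun c : C => (χ : G → ℂ) ⟨c, hCG c.2⟩) = fun c => (Nat.card S : ℂ) * ϑ c + (ε : ℂ) * (β : C → ℂ) c) ∧ (Nat.card S : ℤ) ∣ (Cfsg.charDegree (χ : G → ℂ) : ℤ) - ε * (Cfsg.charDegree (β : C → ℂ) : ℤ) := by
  classical
  obtain ⟨s, rfl⟩ := Subgroup.isCyclic_iff_exists_zpowers_eq_top S |>.1 hcyc
  haveI hGn : G.Normal := by
    rw [← Subgroup.normalizer_eq_top_iff, eq_top_iff, ← htop]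
    refine sup_le Subgroup.le_normalizer fun t ht => ?_
    rw [Subgroup.mem_normalizer_iff]
    refine fun g => ⟨fun hg => hnorm t ht g hg, fun hg => ?_⟩
    have h := hnorm t⁻¹ (inv_mem ht) _ hg
    rwa [inv_inv, ← mul_assoc, ← mul_assoc, inv_mul_cancel, one_mul, inv_mul_cancel_right] at h
  by_cases hs : s = 1
  · -- a trivial operator group
    subst hs
    refine ⟨ε₀, hε₀, ⟨fun _ => 1, Cfsg.Lib.Char.isCharacter_one, rfl, fun _ => one_mul 1,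
      fun c x hx => absurd (Subtype.ext (Subgroup.mem_bot.1 (Subgroup.zpowers_one_eq_bot (G := Γ) ▸ x.2))) hx⟩, ⟨fun _ => 0, Cfsg.Lib.Char.isCharacter_zero, ?_⟩,
      ?_⟩
    · funext c
      show (χ : G → ℂ) ⟨c, hCG c.2⟩ = _
      rw [← hext ⟨c, hCG c.2⟩, mul_zero, zero_add, ← hβ c 1 rfl, mul_one]
    · rw [Subgroup.zpowers_one_eq_bot, Subgroup.card_bot, Nat.cast_one]
      exact one_dvd _
  have hcop' : (Nat.card G).Coprime (orderOf s) := by rwa [Nat.card_zpowers] at hcop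
  have hC' : ∀ y ∈ Subgroup.zpowers s, y ≠ 1 → ∀ x, x ∈ C ↔ x ∈ G ∧ Commute x y := by
    intro y hy hy1 x
    rw [← hfpf y hy hy1, Subgroup.mem_inf, Subgroup.mem_centralizer_singleton_iff]
    exact and_congr_right fun _ => ⟨fun h => h, fun h => h⟩
  obtain ⟨ε, hε, μ, hμ, hμ1, hμ2, hval, ϑ, hϑ, hres⟩ :=
    Cfsg.Lib.Char.slices_of_common_centralizer hcop' hs hC' χ.2 χh.2 hext β hε₀
      fun c => hβ c s rfl
  refine ⟨ε, hε, ⟨μ, hμ, hμ1, hμ2, hval⟩, ⟨ϑ, hϑ, funext fun c => ?_⟩, ?_⟩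
  · rw [← hres c]
    exact (hext ⟨c, hCG c.2⟩).symm
  · obtain ⟨d, hd⟩ := hϑ.exists_degree
    have h := hres 1
    rw [hd, Subgroup.coe_one, show (χh : Γ → ℂ) 1 = (χ : G → ℂ) 1 from by
        rw [← hext 1, Subgroup.coe_one],
      χ.2.apply_one_eq_charDegree, β.2.apply_one_eq_charDegree] at h
    refine ⟨d, ?_⟩
    have h' : ((Cfsg.charDegree (χ : G → ℂ) : ℤ) : ℂ) =
        (((Nat.card (Subgroup.zpowers s) : ℤ) * d + ε * Cfsg.charDegree (β : C → ℂ) : ℤ) : ℂ) := by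
      push_cast; exact h
    rw [Int.cast_injective h']
    ring

end Cfsg.Agent.S4451
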