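import Cfsg.Statements.S4452
import Cfsg.Agent.Lib.Char.ComplementDegree
-- import your own Cfsg.Agent.* helpers here

set_option autoImplicit false
open Cfsg

namespace Cfsg.Agent.S4452

set_option linter.style.haveILetI false
open Cfsg Cfsg.Lib.Char


/-- Let the finite group G be the product of a normal subgroup K and a solvable subgroup H of coprime orders, and let N = N_G(H). Then the number of irreducible characters of G of degree coprime to the order of H equals the number of irreducible characters of N of degree coprime to the order of H. (The two sets are in fact in a canonical bijection; only the equality of their sizes is stated here.) -/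
theorem result {G : Type*} [Group G] [Finite G] (K H : Subgroup G) [K.Normal] (hKH : K ⊔ H = ⊤) (hcop : (Nat.card K).Coprime (Nat.card H)) (hsolv : Group.IsSolvable H) : Nat.card {χ : Cfsg.IrrCharacter G // (Cfsg.charDegree (χ : G → ℂ)).Coprime (Nat.card H)} = Nat.card {η : Cfsg.IrrCharacter (Subgroup.normalizer (H : Set G)) // (Cfsg.charDegree (η : Subgroup.normalizer (H : Set G) → ℂ)).Coprime (Nat.card H)} := by
  classical
  set N : Subgroup G := Subgroup.normalizer (H : Set G) with hN
  let C : Subgroup G := K ⊓ Subgroup.centralizer (H : Set G)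
  have hHN : H ≤ N := Subgroup.le_normalizer
  have hCN : C ≤ N := fun x hx => Subgroup.centralizer_le_normalizer _ hx.2
  have hbot : K ⊓ H = ⊥ := Subgroup.inf_eq_bot_of_coprime hcop
  haveI hCn : (C.subgroupOf N).Normal := ⟨fun x hx n => by
    rw [Subgroup.mem_subgroupOf] at hx ⊢
    refine ⟨(inferInstance : K.Normal).conj_mem _ hx.1 _, Subgroup.mem_centralizer_iff.mpr fun h hh => ?_⟩
    have hnh : (n : G)⁻¹ * h * n ∈ H := (Subgroup.mem_normalizer_iff.mp n.2 _).mpr (by
      rw [show (n : G) * ((n : G)⁻¹ * h * n) * (n : G)⁻¹ = h by group]; exact hh)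
    have h1 := Subgroup.mem_centralizer_iff.mp hx.2 _ hnh
    calc h * ((n : G) * x * (n : G)⁻¹) = n * ((n : G)⁻¹ * h * n * x) * (n : G)⁻¹ := by group
      _ = n * ((x : G) * ((n : G)⁻¹ * h * n)) * (n : G)⁻¹ := by rw [h1]
      _ = (n : G) * x * (n : G)⁻¹ * h := by group⟩
  have hsup : C.subgroupOf N ⊔ H.subgroupOf N = ⊤ := by
    rw [eq_top_iff]
    intro n _
    have hx : (n : G) ∈ K ⊔ H := hKH ▸ Subgroup.mem_top _
    obtain ⟨k, hk, h, hh, hkh⟩ := Subgroup.mem_sup_of_normal_left.mp hx
    have hkN : k ∈ N := by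
      rw [show k = (n : G) * h⁻¹ by rw [← hkh, mul_inv_cancel_right]]
      exact mul_mem n.2 (inv_mem (hHN hh))
    have hkC : k ∈ C := ⟨hk, Subgroup.mem_centralizer_iff.mpr fun y hy => by
      have h1 : k * y * k⁻¹ * y⁻¹ ∈ K ⊓ H :=
        ⟨by
          rw [show k * y * k⁻¹ * y⁻¹ = k * (y * k⁻¹ * y⁻¹) by group]
          exact Subgroup.mul_mem _ hk ((inferInstance : K.Normal).conj_mem _ (Subgroup.inv_mem _ hk) _),
        Subgroup.mul_mem _ ((Subgroup.mem_normalizer_iff.mp hkN y).mp hy) (Subgroup.inv_mem _ hy)⟩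
      rw [hbot, Subgroup.mem_bot] at h1
      calc y * k = (k * y * k⁻¹ * y⁻¹)⁻¹ * (k * y) := by group
        _ = k * y := by rw [h1, inv_one, one_mul]⟩
    rw [show n = (⟨k, hkN⟩ : N) * ⟨h, hHN hh⟩ from Subtype.ext hkh.symm]
    exact mul_mem (Subgroup.mem_sup_left hkC) (Subgroup.mem_sup_right hh)
  have hcardC : Nat.card (C.subgroupOf N) = Nat.card C :=
    Nat.card_congr (Subgroup.subgroupOfEquivOfLe hCN).toEquiv
  have hcardH : Nat.card (H.subgroupOf N) = Nat.card H :=
    Nat.card_congr (Subgroup.subgroupOfEquivOfLe hHN).toEquiv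
  have hsolv' : Group.IsSolvable (H.subgroupOf N) := by
    haveI := hsolv
    exact Group.isSolvable_of_surjective (f := (Subgroup.subgroupOfEquivOfLe hHN).symm.toMonoidHom)
      (Subgroup.subgroupOfEquivOfLe hHN).symm.surjective
  have hcop' : (Nat.card (C.subgroupOf N)).Coprime (Nat.card (H.subgroupOf N)) := by
    rw [hcardC, hcardH]
    exact hcop.coprime_dvd_left (Subgroup.card_dvd_of_le inf_le_left)
  rw [← hcardH.symm.trans hcardH, card_coprime_degree K H hKH hcop hsolv]
  rw [← hcardH, card_coprime_degree (C.subgroupOf N) (H.subgroupOf N) hsup hcop' hsolv']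
  congr 1
  · refine card_irr_congr ?_
    have hle : C.subgroupOf N ≤ Subgroup.centralizer (H.subgroupOf N : Set N) := by
      intro x hx
      have h2 : (x : G) ∈ Subgroup.centralizer (H : Set G) := hx.2
      exact Subgroup.mem_centralizer_iff.mpr fun y hy =>
        Subtype.ext (Subgroup.mem_centralizer_iff.mp h2 (y : G) hy)
    refine MulEquiv.trans ?_ (MulEquiv.subgroupCongr (inf_eq_left.mpr hle).symm)
    exact (Subgroup.subgroupOfEquivOfLe hCN).symm
  · exact Nat.card_congr
      { toFun := fun l => l.comp (Subgroup.subgroupOfEquivOfLe hHN).toMonoidHom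
        invFun := fun l => l.comp (Subgroup.subgroupOfEquivOfLe hHN).symm.toMonoidHom
        left_inv := fun l => MonoidHom.ext fun x => by simp
        right_inv := fun l => MonoidHom.ext fun x => by simp }

end Cfsg.Agent.S4452
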