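import Cfsg.Statements.S4453
import Cfsg.Agent.Lib.Char.SectionParity.Ambient
import Cfsg.Agent.S4447

set_option autoImplicit false
open Cfsg
open Cfsg.Lib.Char Cfsg.Lib.Char.SectionParity

set_option linter.style.haveILetI false

namespace Cfsg.Agent.S4453

/-- Inner products agree along an isomorphism, whatever the instances. -/
theorem classInner_of_equiv {A B : Type*} [Group A] [Group B] {iA : Fintype A} {iB : Fintype B}
    (e : A ≃* B) {φ ψ : A → ℂ} {φ' ψ' : B → ℂ} (h1 : ∀ a, φ a = φ' (e a))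
    (h2 : ∀ a, ψ a = ψ' (e a)) : classInner φ ψ = classInner φ' ψ' := by
  rw [funext h1, funext h2, classInner_comp_equiv]

/-- Inside a finite group Γ let S normalise the solvable subgroup G of odd order with the orders of G and S coprime, let C = G ⊓ C(S), and let L ≤ K be S-invariant normal subgroups of G with K/L abelian, G = KC and H = LC (so C ≤ H ≤ G). Then for each S-invariant irreducible character χ of G there is exactly one S-invariant irreducible character ψ of H whose multiplicity in the restriction of χ to H is odd, and χ ↦ ψ is a bijection from the S-invariant irreducible characters of G onto those of H (distinct χ give distinct ψ, and every S-invariant ψ arises). -/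
theorem result {Γ : Type*} [Group Γ] [Fintype Γ] (G S : Subgroup Γ) [Fintype G] (hnorm : ∀ s ∈ S, ∀ g ∈ G, s * g * s⁻¹ ∈ G) (hcop : (Nat.card G).Coprime (Nat.card S)) (hGsolv : Group.IsSolvable G) (hodd : Odd (Nat.card G)) (C : Subgroup Γ) [Fintype C] (hC : C = G ⊓ Subgroup.centralizer (S : Set Γ)) (hCG : C ≤ G) (K L H : Subgroup Γ) [Fintype H] (hLK : L ≤ K) (hKG : K ≤ G) (hKn : ∀ g ∈ G, ∀ k ∈ K, g * k * g⁻¹ ∈ K) (hLn : ∀ g ∈ G, ∀ l ∈ L, g * l * g⁻¹ ∈ L) (hKS : ∀ s ∈ S, ∀ k ∈ K, s * k * s⁻¹ ∈ K) (hLS : ∀ s ∈ S, ∀ l ∈ L, s * l * s⁻¹ ∈ L) (hab : ∀ a ∈ K, ∀ b ∈ K, a * b * a⁻¹ * b⁻¹ ∈ L) (hGKC : K ⊔ C = G) (hH : H = L ⊔ C) (hHG : H ≤ G) : (∀ χ : Cfsg.IrrCharacter G, (∀ s ∈ S, ∀ g g' : G, (g' : Γ) = s * g * s⁻¹ → (χ : G → ℂ) g' = (χ : G → ℂ) g) → ∃! ψ : Cfsg.IrrCharacter H, (∀ s ∈ S, ∀ g g' : H, (g' : Γ) = s * g * s⁻¹ → (ψ : H → ℂ) g' = (ψ : H → ℂ) g) ∧ ∃ m : ℕ, Cfsg.classInner (fun h : H => (χ : G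 → ℂ) ⟨h, hHG h.2⟩) (ψ : H → ℂ) = (m : ℂ) ∧ Odd m) ∧ (∀ χ χ' : Cfsg.IrrCharacter G, (∀ s ∈ S, ∀ g g' : G, (g' : Γ) = s * g * s⁻¹ → (χ : G → ℂ) g' = (χ : G → ℂ) g) → (∀ s ∈ S, ∀ g g' : G, (g' : Γ) = s * g * s⁻¹ → (χ' : G → ℂ) g' = (χ' : G → ℂ) g) → ∀ ψ : Cfsg.IrrCharacter H, (∀ s ∈ S, ∀ g g' : H, (g' : Γ) = s * g * s⁻¹ → (ψ : H → ℂ) g' = (ψ : H → ℂ) g) → ∀ m m' : ℕ, Cfsg.classInner (fun h : H => (χ : G → ℂ) ⟨h, hHG h.2⟩) (ψ : H → ℂ) = (m : ℂ) → Odd m → Cfsg.classInner (fun h : H => (χ' : G → ℂ) ⟨h, hHG h.2⟩) (ψ : H → ℂ) = (m' : ℂ) → Odd m' → χ = χ') ∧ (∀ ψ : Cfsg.IrrCharacter H, (∀ s ∈ S, ∀ g g' : H, (g' : Γ) = s * g * s⁻¹ → (ψ : H → ℂ) g' = (ψ : H → ℂ) g) → ∃ χ : Cfsg.IrrCharacter G, (∀ s ∈ S, ∀ g g' : G, (g' : Γ) = s * g * s⁻¹ → (χ : G → ℂ) g' = (χ : G → ℂ) g) ∧ ∃ m : ℕ, Cfsg.classInner (fun h : H => (χ : G → ℂ) ⟨h, hHG h.2⟩) (ψ : H → ℂ) = (m : ℂ) ∧ Odd m) := by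
  classical
  haveI hGsol : Group.IsSolvable G := hGsolv
  have hn : ∀ (A B : Subgroup Γ), (∀ a ∈ A, ∀ b ∈ B, a * b * a⁻¹ ∈ B) →
      A ≤ Subgroup.normalizer (B : Set Γ) := by
    intro A B hAB a ha
    rw [Subgroup.mem_normalizer_iff]
    intro b
    refine ⟨fun hb => hAB a ha b hb, fun hb => ?_⟩
    have h := hAB a⁻¹ (inv_mem ha) _ hb
    rwa [inv_inv, show a⁻¹ * (a * b * a⁻¹) * a = b by group] at h
  have hCs : ∀ c ∈ C, ∀ s ∈ S, s * c = c * s := fun c hc s hs => by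
    rw [hC] at hc
    exact Subgroup.mem_centralizer_iff.mp hc.2 s hs
  have hLG : L ≤ G := hLK.trans hKG
  have hLH : L ≤ H := hH ▸ le_sup_left
  have hCH : C ≤ H := hH ▸ le_sup_right
  have hCs' : ∀ c ∈ C, ∀ s ∈ S, s * c * s⁻¹ = c := fun c hc s hs => by
    rw [hCs c hc s hs, mul_inv_cancel_right]
  -- the smaller section
  set K₂ : Subgroup Γ := L ⊔ ⁅K, S⁆ with hK₂
  have hKSn : S ≤ Subgroup.normalizer (K : Set Γ) := hn S K hKS
  have hK₂K : K₂ ≤ K := sup_le hLK (Cfsg.Lib.Coprime.commutator_le_of_le_normalizer hKSn)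
  have hK₂n : ∀ g ∈ G, ∀ k ∈ K₂, g * k * g⁻¹ ∈ K₂ := by
    have hle : G ≤ Subgroup.normalizer (K₂ : Set Γ) := by
      rw [← hGKC]
      refine sup_le ?_ (hn C K₂ fun c hc x hx => ?_)
      · exact (le_inf (hn K L fun k hk => hLn k (hKG hk))
          (Subgroup.normalizer_commutator_ge_left K S)).trans
          (fun x hx => by
            rw [Subgroup.mem_normalizer_iff]
            intro y
            obtain ⟨h1, h2⟩ := Subgroup.mem_inf.mp hx
            have hmap : ∀ z : Γ, z ∈ Subgroup.normalizer (L : Set Γ) →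
                z ∈ Subgroup.normalizer ((⁅K, S⁆ : Subgroup Γ) : Set Γ) → ∀ w ∈ K₂, z * w * z⁻¹ ∈ K₂ := by
              intro z hz1 hz2 w hw
              have h3 : K₂.map (MulAut.conj z).toMonoidHom ≤ K₂ := by
                rw [hK₂, Subgroup.map_sup]
                refine sup_le_sup ?_ ?_
                · rintro _ ⟨l, hl, rfl⟩
                  exact (Subgroup.mem_normalizer_iff.mp hz1 l).mp hl
                · rintro _ ⟨l, hl, rfl⟩
                  exact (Subgroup.mem_normalizer_iff.mp hz2 l).mp hl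
              exact h3 ⟨w, hw, rfl⟩
            refine ⟨fun hy => hmap x h1 h2 y hy, fun hy => ?_⟩
            have h4 := hmap x⁻¹ (inv_mem h1) (inv_mem h2) _ hy
            rwa [inv_inv, show x⁻¹ * (x * y * x⁻¹) * x = y by group] at h4)
      · exact conj_mem_sup_commutator (hKn c (hCG hc)) (hLn c (hCG hc))
          (fun s hs => by rw [← hCs c hc s hs, mul_inv_cancel_right]) hx
    exact fun g hg k hk => (Subgroup.mem_normalizer_iff.mp (hle hg) k).mp hk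
  have hK₂S : ∀ s ∈ S, ∀ k ∈ K₂, s * k * s⁻¹ ∈ K₂ := by
    intro s hs k hk
    have h : K₂.map (MulAut.conj s).toMonoidHom ≤ K₂ := by
      rw [hK₂, Subgroup.map_sup]
      refine sup_le_sup ?_ ?_
      · rintro _ ⟨l, hl, rfl⟩; exact hLS s hs l hl
      · rintro _ ⟨l, hl, rfl⟩
        exact (Subgroup.mem_normalizer_iff.mp
          (Subgroup.normalizer_commutator_ge_right K S hs) l).mp hl
    exact h ⟨k, hk, rfl⟩
  have hcopK : (Nat.card S).Coprime (Nat.card K) :=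
    hcop.symm.coprime_dvd_right (Subgroup.card_dvd_of_le hKG)
  have hfree : ∀ k ∈ K₂, (∀ s ∈ S, s * k * s⁻¹ * k⁻¹ ∈ L) → k ∈ L := fun k hk hfix =>
    mem_of_fixed_of_mem_commutator hcopK hLK (fun a ha => hLn a (hKG ha)) hKS hLS hab hk hfix
  have hKsol : Group.IsSolvable K :=
    Group.isSolvable_of_isSolvable_injective (f := Subgroup.inclusion hKG) (Subgroup.inclusion_injective hKG)
  have hKdec : K ≤ K₂ ⊔ C := fun x hx => by
    obtain ⟨n, hn', c, hc, rfl⟩ :=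
      Cfsg.Lib.Coprime.le_commutator_sup_centralizer hKSn hcopK (Or.inr hKsol) hx
    refine Subgroup.mul_mem_sup (le_sup_right (a := L) hn') ?_
    rw [hC]
    exact ⟨hKG hc.1, hc.2⟩
  have hGdec : G = K₂ ⊔ C :=
    le_antisymm (hGKC ▸ sup_le hKdec le_sup_right) (sup_le (hK₂K.trans hKG) hCG)
  have hHS : ∀ h ∈ H, ∀ s ∈ S, s * h * s⁻¹ * h⁻¹ ∈ L := by
    intro h hh s hs
    rw [hH] at hh
    rw [← SetLike.mem_coe, Subgroup.coe_mul_of_right_le_normalizer_left L C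
      (hn C L fun c hc => hLn c (hCG hc))] at hh
    obtain ⟨l, hl, c, hc, rfl⟩ := hh
    have h1 : s * (l * c) * s⁻¹ * (l * c)⁻¹ = s * l * s⁻¹ * l⁻¹ := by
      rw [show s * (l * c) * s⁻¹ = s * l * s⁻¹ * (s * c * s⁻¹) by group, hCs' c hc s hs]
      group
    rw [h1]
    exact L.mul_mem (hLS s hs l hl) (L.inv_mem hl)
  have hSH : ∀ s ∈ S, ∀ h ∈ H, s * h * s⁻¹ ∈ H := fun s hs h hh => by
    have := H.mul_mem (hLH (hHS h hh s hs)) hh
    rwa [inv_mul_cancel_right] at this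
  have htop : ∀ g ∈ G, ∃ k ∈ K₂, ∃ h ∈ H, g = k * h := by
    intro g hg
    rw [hGdec] at hg
    rw [← SetLike.mem_coe, Subgroup.coe_mul_of_right_le_normalizer_left K₂ C
      (hn C K₂ fun c hc => hK₂n c (hCG hc))] at hg
    obtain ⟨k, hk, c, hc, rfl⟩ := hg
    exact ⟨k, hk, c, hCH hc, rfl⟩
  let φ : S →* MulAut G :=
    { toFun := fun s =>
        { toFun := fun g => ⟨(s : Γ) * g * (s : Γ)⁻¹, hnorm s s.2 g g.2⟩
          invFun := fun g => ⟨(s : Γ)⁻¹ * g * (s : Γ), by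
            have := hnorm _ (inv_mem s.2) g g.2
            rwa [inv_inv] at this⟩
          left_inv := fun g => Subtype.ext (by simp [mul_assoc])
          right_inv := fun g => Subtype.ext (by simp [mul_assoc])
          map_mul' := fun a b => Subtype.ext (by push_cast; group) }
      map_one' := MulEquiv.ext fun g => Subtype.ext (by simp)
      map_mul' := fun s t => MulEquiv.ext fun g => Subtype.ext (by
        show ((s : Γ) * t) * g * ((s : Γ) * t)⁻¹ = (s : Γ) * ((t : Γ) * g * (t : Γ)⁻¹) * (s : Γ)⁻¹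
        group) }
  haveI : Fintype S := Fintype.ofFinite _
  haveI : Fintype L := Fintype.ofFinite _
  let D : Layout G S :=
    { K := K₂.subgroupOf G
      L := L.subgroupOf G
      H := H.subgroupOf G
      nK := ⟨fun k hk g => Subgroup.mem_subgroupOf.mpr
        (hK₂n g g.2 k (Subgroup.mem_subgroupOf.mp hk))⟩
      nL := ⟨fun l hl g => Subgroup.mem_subgroupOf.mpr
        (hLn g g.2 l (Subgroup.mem_subgroupOf.mp hl))⟩
      le := fun _ hl => Subgroup.mem_subgroupOf.mpr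
        (le_sup_left (b := ⁅K, S⁆) (Subgroup.mem_subgroupOf.mp hl))
      comm := fun a ha b hb => Subgroup.mem_subgroupOf.mpr
        (hab a (hK₂K (Subgroup.mem_subgroupOf.mp ha)) b (hK₂K (Subgroup.mem_subgroupOf.mp hb)))
      odd := hodd
      inf := by
        ext g
        simp only [Subgroup.mem_inf, Subgroup.mem_subgroupOf]
        exact ⟨fun h => hfree _ h.1 fun s hs => hHS _ h.2 s hs,
          fun h => ⟨le_sup_left (b := ⁅K, S⁆) h, hLH h⟩⟩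
      top := fun g => by
        obtain ⟨k, hk, h, hh, he⟩ := htop g g.2
        exact ⟨⟨k, hKG (hK₂K hk)⟩, hk, ⟨h, hHG hh⟩, hh, Subtype.ext he⟩
      φ := φ
      mapL := fun s l hl => Subgroup.mem_subgroupOf.mpr
        (hLS s s.2 l (Subgroup.mem_subgroupOf.mp hl))
      mapK := fun s k hk => Subgroup.mem_subgroupOf.mpr
        (hK₂S s s.2 k (Subgroup.mem_subgroupOf.mp hk))
      triv := fun s h hh => Subgroup.mem_subgroupOf.mpr
        (hHS h (Subgroup.mem_subgroupOf.mp hh) s s.2)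
      coprime := hcop.symm
      free := fun k hk h => Subgroup.mem_subgroupOf.mpr (hfree k (Subgroup.mem_subgroupOf.mp hk)
        fun s hs => Subgroup.mem_subgroupOf.mp (h ⟨s, hs⟩)) }
  let eL : D.L ≃* L := Subgroup.subgroupOfEquivOfLe hLG
  let eH : D.H ≃* H := Subgroup.subgroupOfEquivOfLe hHG
  have hIG : ∀ χ : G → ℂ,
      (∀ s ∈ S, ∀ g g' : G, (g' : Γ) = s * g * s⁻¹ → χ g' = χ g) ↔ D.InvG χ := by
    refine fun χ => ⟨fun h s g => h s s.2 g _ rfl, fun h s hs g g' hg => ?_⟩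
    rw [show g' = D.φ ⟨s, hs⟩ g from Subtype.ext hg]
    exact h _ g
  have hIH : ∀ ψ : H → ℂ, (∀ s ∈ S, ∀ g g' : H, (g' : Γ) = s * g * s⁻¹ → ψ g' = ψ g) ↔
      D.InvH fun x => ψ (eH x) := by
    refine fun ψ => ⟨fun h s x => h s s.2 (eH x) _ rfl, fun h s hs g g' hg => ?_⟩
    have h1 := h ⟨s, hs⟩ (eH.symm g)
    simp only [eH.apply_symm_apply] at h1
    rw [← h1]
    exact congrArg ψ (Subtype.ext hg)
  have hOdd : ∀ (χ : G → ℂ) (ψ : H → ℂ), D.OddMult χ (fun x => ψ (eH x)) ↔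
      ∃ m : ℕ, Cfsg.classInner (fun h : H => χ ⟨h, hHG h.2⟩) ψ = (m : ℂ) ∧ Odd m := by
    intro χ ψ
    refine exists_congr fun m => and_congr_left' ?_
    rw [classInner_of_equiv eH (φ := fun h : D.H => χ (h : G)) (ψ := fun x => ψ (eH x))
      (φ' := fun h : H => χ ⟨h, hHG h.2⟩) (ψ' := ψ) (fun _ => rfl) (fun _ => rfl)]
  -- the invariant constituents below
  haveI hLnG : (L.subgroupOf G).Normal := D.nL
  haveI hLnH : (L.subgroupOf H).Normal := ⟨fun l hl g => Subgroup.mem_subgroupOf.mpr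
    (hLn g (hHG g.2) l (Subgroup.mem_subgroupOf.mp hl))⟩
  haveI : Group.IsSolvable H :=
    Group.isSolvable_of_isSolvable_injective (f := Subgroup.inclusion hHG) (Subgroup.inclusion_injective hHG)
  have hθinv : ∀ θ : L → ℂ, (∀ s ∈ S, ∀ g g' : L, (g' : Γ) = s * g * s⁻¹ → θ g' = θ g) →
      D.InvL fun x => θ (eL x) := fun θ h s x => h s s.2 (eL x) _ rfl
  have hbelowG : ∀ χ : IrrCharacter G, D.InvG χ → ∃ θ : D.L → ℂ, IsIrrCharacter D.L θ ∧
      D.InvL θ ∧ D.OverG χ θ := by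
    intro χ hχ
    obtain ⟨θ, hne, hinv⟩ := S4447.result G S L hnorm hLG hLS
      (hcop.coprime_dvd_left (Subgroup.relIndex_dvd_card L G)) (Or.inr inferInstance) χ ((hIG χ).mpr hχ)
    refine ⟨fun x => (θ : L → ℂ) (eL x), isIrrCharacter_comp_equiv eL θ.2, hθinv θ hinv, ?_⟩
    exact fun h0 => hne ((classInner_of_equiv eL (fun _ => rfl) (fun _ => rfl)).symm.trans h0)
  have hbelowH : ∀ ψ : IrrCharacter H,
      (∀ s ∈ S, ∀ g g' : H, (g' : Γ) = s * g * s⁻¹ → (ψ : H → ℂ) g' = (ψ : H → ℂ) g) →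
      ∃ θ : D.L → ℂ, IsIrrCharacter D.L θ ∧
        D.InvL θ ∧ D.OverH (fun x => (ψ : H → ℂ) (eH x)) θ := by
    intro ψ hψ
    obtain ⟨θ, hne, hinv⟩ := S4447.result H S L hSH hLH hLS
      ((hcop.coprime_dvd_left (Subgroup.card_dvd_of_le hHG)).coprime_dvd_left
        (Subgroup.relIndex_dvd_card L H)) (Or.inr inferInstance) ψ hψ
    refine ⟨fun x => (θ : L → ℂ) (eL x), isIrrCharacter_comp_equiv eL θ.2, hθinv θ hinv, ?_⟩
    exact fun h0 => hne ((classInner_of_equiv eL (fun _ => rfl) (fun _ => rfl)).symm.trans h0)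
  have htrans : ∀ (χ : IrrCharacter G) (ψ : D.H → ℂ) (θ : D.L → ℂ), IsIrrCharacter D.H ψ →
      D.OddMult χ ψ → IsIrrCharacter D.L θ → D.OverH ψ θ → D.OverG χ θ :=
    fun χ ψ θ hψ hm hθ ho => D.overG_trans χ.2.isCharacter hψ hm hθ ho
  refine ⟨?_, ?_, ?_⟩
  · intro χ hχ
    obtain ⟨θ, hθ, hθi, hχθ⟩ := hbelowG χ ((hIG χ).mp hχ)
    let A : Anchor G S := ⟨D, θ, hθ, hθi⟩
    obtain ⟨ψ, hψ, hψi, -, hψm, huniq⟩ := A.exists_partner χ.2 ((hIG χ).mp hχ) hχθ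
    have hback : (fun x => ψ (eH.symm (eH x))) = ψ := funext fun x => by
      rw [eH.symm_apply_apply]
    refine ⟨⟨fun h => ψ (eH.symm h), isIrrCharacter_comp_equiv eH.symm hψ⟩, ⟨?_, ?_⟩, ?_⟩
    · refine (hIH _).mpr ?_
      rw [hback]
      exact hψi
    · refine (hOdd χ _).mp ?_
      rw [hback]
      exact hψm
    · rintro ψ' ⟨hψ'i, hψ'm⟩
      have hψ'D : IsIrrCharacter D.H (fun x => (ψ' : H → ℂ) (eH x)) :=
        isIrrCharacter_comp_equiv eH ψ'.2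
      have hm' := (hOdd χ ψ').mpr hψ'm
      obtain ⟨θ', hθ', hθ'i, hψθ⟩ := hbelowH ψ' hψ'i
      have hχθ' := htrans χ _ θ' hψ'D hm' hθ' hψθ
      have hover : D.OverH (fun x => (ψ' : H → ℂ) (eH x)) θ :=
        D.overH_transfer χ.2 hθ hθi hχθ hθ' hθ'i hχθ' hψ'D.isClassFunction hψθ
      have := huniq _ hψ'D hover hm'
      refine Subtype.ext (funext fun x => ?_)
      show _ = ψ (eH.symm x)
      rw [← this]
      simp
  · intro χ χ' hχ hχ' ψ hψ m m' hm hmo hm' hmo'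
    obtain ⟨θ, hθ, hθi, hψθ⟩ := hbelowH ψ hψ
    let A : Anchor G S := ⟨D, θ, hθ, hθi⟩
    have hψD : IsIrrCharacter D.H (fun x => (ψ : H → ℂ) (eH x)) :=
      isIrrCharacter_comp_equiv eH ψ.2
    have h1 := (hOdd χ ψ).mpr ⟨m, hm, hmo⟩
    have h2 := (hOdd χ' ψ).mpr ⟨m', hm', hmo'⟩
    exact Subtype.ext (A.partner_injective χ.2 ((hIG χ).mp hχ) (htrans χ _ θ hψD h1 hθ hψθ)
      χ'.2 ((hIG χ').mp hχ') (htrans χ' _ θ hψD h2 hθ hψθ) hψD hψθ h1 h2)
  · intro ψ hψ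
    obtain ⟨θ, hθ, hθi, hψθ⟩ := hbelowH ψ hψ
    let A : Anchor G S := ⟨D, θ, hθ, hθi⟩
    obtain ⟨χ, hχ, hχi, hm⟩ := A.partner_surjective (ψ := fun x => (ψ : H → ℂ) (eH x))
      (isIrrCharacter_comp_equiv eH ψ.2) ((hIH ψ).mp hψ) hψθ
    exact ⟨⟨χ, hχ⟩, (hIG χ).mpr hχi, (hOdd χ ψ).mp hm⟩

end Cfsg.Agent.S4453
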