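import Cfsg.Statements.S4454
import Cfsg.Agent.Lib.Char.Gallagher
import Cfsg.Agent.Lib.Char.Extension
import Cfsg.Agent.Lib.Char.Subconstituents
import Cfsg.Agent.Lib.Char.Quotient
import Cfsg.Agent.Lib.Char.Linear
import Cfsg.Agent.Lib.Char.Constituents
import Cfsg.Agent.Lib.Char.Formulas

set_option autoImplicit false
set_option linter.style.haveILetI false
open Cfsg

namespace Cfsg.Agent.S4454

open Cfsg.Lib.Char
open scoped ComplexConjugate

universe u

/-- Averaging a character over cosets of a normal subgroup along a surjection. -/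
theorem sum_fibre {A B : Type*} [Group A] [Group B] [Fintype A] [Fintype B] (π : A →* B)
    (hπ : Function.Surjective π) (T : B → ℂ) :
    ∑ a : A, T (π a) = (Nat.card π.ker : ℂ) * ∑ b : B, T b := by
  classical
  rw [← Finset.sum_fiberwise Finset.univ π, Finset.mul_sum]
  refine Finset.sum_congr rfl fun b _ => ?_
  rw [Finset.sum_congr rfl (g := fun _ => T b) fun a ha => by rw [(Finset.mem_filter.mp ha).2],
    Finset.sum_const, nsmul_eq_mul]
  congr 2
  obtain ⟨a₀, rfl⟩ := hπ b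
  rw [← Nat.card_eq_finsetCard]
  exact Nat.card_congr
    { toFun := fun a => ⟨a₀⁻¹ * (a : A), by
        rw [MonoidHom.mem_ker, map_mul, map_inv, (Finset.mem_filter.mp a.2).2, inv_mul_cancel]⟩
      invFun := fun k => ⟨a₀ * (k : A), Finset.mem_filter.mpr ⟨Finset.mem_univ _, by
        rw [map_mul, MonoidHom.mem_ker.mp k.2, mul_one]⟩⟩
      left_inv := fun a => Subtype.ext (mul_inv_cancel_left _ _)
      right_inv := fun k => Subtype.ext (inv_mul_cancel_left _ _) }

/-- An extension from a normal subgroup with abelian quotient has all its twists distinct. -/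
theorem norm_coset {Γ : Type u} [Group Γ] [Fintype Γ] (G : Subgroup Γ) [G.Normal] [Fintype G]
    (hab : ∀ a b : Γ, a * b * a⁻¹ * b⁻¹ ∈ G) {χ : G → ℂ} (hχ : IsIrrCharacter G χ)
    {ξ : Γ → ℂ} (hξ : IsIrrCharacter Γ ξ) (hext : ∀ g : G, ξ g = χ g) (h : Γ) :
    ∑ g : G, ξ ((g : Γ) * h) * conj (ξ ((g : Γ) * h)) = (Nat.card G : ℂ) := by
  classical
  have hχinv : ∀ x, conjTwist G χ x = χ := fun x => funext fun g => by
    rw [conjTwist_apply, ← hext, ← hext]
    exact hξ.isClassFunction (g : Γ) x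
  have hone : ∀ x, conjTwist G (fun _ : G => (1 : ℂ)) x = fun _ => 1 := fun x => rfl
  have hprod : IsIrrCharacter G ((fun _ : G => (1 : ℂ)) * χ) := by
    rwa [show (fun _ : G => (1 : ℂ)) * χ = χ from one_mul χ]
  have hinj := (gallagher_bijOn G isIrrCharacter_one hone hχinv hprod hξ.isCharacter hext).injOn
  set F : Γ → ℂ := ξ * fun x => conj (ξ x) with hF
  have hFc : IsCharacter Γ F := hξ.isCharacter.mul hξ.isCharacter.conjFn
  have hexp : ∀ x, F x = ∑ β : IrrCharacter Γ, classInner F (β : Γ → ℂ) * (β : Γ → ℂ) x := by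
    intro x
    have := congrFun (eq_sum_classInner (f := F) hFc.isClassFunction) x
    simpa using this
  have hterm : ∀ β : IrrCharacter Γ, classInner F (β : Γ → ℂ) * ∑ g : G, (β : Γ → ℂ) ((g : Γ) * h)
      = if (β : Γ → ℂ) = (fun _ => 1) then (Nat.card G : ℂ) else 0 := by
    intro β
    split_ifs with hβ
    · rw [hβ]
      have h1 : classInner F (fun _ => (1 : ℂ)) = 1 := by
        rw [classInner_one_right, ← classInner_irr_self hξ]
        rfl
      simp [h1, Nat.card_eq_fintype_card]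
    · rcases sum_coset_char_cases G β.2 with h0 | ⟨hker, hne, -⟩
      · rw [h0 h, mul_zero]
      · obtain ⟨γ, hγ, hγe⟩ := exists_deflate_irr G β.2 fun n hn => hker ⟨n, hn⟩
        have hβ1 : (β : Γ → ℂ) 1 = 1 := by
          rw [← hγe 1]
          refine degree_eq_one_of_comm (fun a b => ?_) hγ
          obtain ⟨a, rfl⟩ := QuotientGroup.mk_surjective a
          obtain ⟨b, rfl⟩ := QuotientGroup.mk_surjective b
          have h2 := (QuotientGroup.eq_one_iff (a * b * a⁻¹ * b⁻¹)).mpr (hab a b)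
          simp only [QuotientGroup.mk_mul, QuotientGroup.mk_inv] at h2
          exact commutatorElement_eq_one_iff_mul_comm.mp h2
        obtain ⟨l, hl⟩ := exists_hom_of_degree_one β.2.isCharacter hβ1
        have hir : IsIrrCharacter Γ ((β : Γ → ℂ) * ξ) := by
          rw [hl, mul_comm]; exact isIrrCharacter_mul_linear hξ l
        have hdiff : (β : Γ → ℂ) * ξ ≠ ξ := by
          intro e
          refine hβ (hinj (Set.mem_setOf.mpr ⟨β.2, hne⟩)
            (Set.mem_setOf.mpr ⟨isIrrCharacter_one, ?_⟩) ?_)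
          · rw [classInner_indFun G _ (isIrrCharacter_one.isClassFunction),
              classInner_irr_self (isIrrCharacter_one : IsIrrCharacter G fun _ => 1)]
            exact one_ne_zero
          · show (β : Γ → ℂ) * ξ = (fun _ => (1 : ℂ)) * ξ
            rw [e]
            exact (one_mul ξ).symm
        have h3 := classInner_irr_ne hξ hir (Ne.symm hdiff)
        rw [show classInner F (β : Γ → ℂ) = classInner ξ ((β : Γ → ℂ) * ξ) by
          simp only [classInner, hF, Pi.mul_apply, map_mul]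
          congr 1
          exact Finset.sum_congr rfl fun x _ => by ring, h3, zero_mul]
  calc ∑ g : G, ξ ((g : Γ) * h) * conj (ξ ((g : Γ) * h))
      = ∑ g : G, F ((g : Γ) * h) := rfl
    _ = ∑ β : IrrCharacter Γ, classInner F (β : Γ → ℂ) * ∑ g : G, (β : Γ → ℂ) ((g : Γ) * h) := by
      simp only [hexp, Finset.mul_sum]
      exact Finset.sum_comm
    _ = _ := by
      rw [Finset.sum_congr rfl fun β _ => hterm β,
        Finset.sum_eq_single (⟨_, isIrrCharacter_one⟩ : IrrCharacter Γ)]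
      · exact if_pos rfl
      · exact fun β _ hne => if_neg fun e => hne (Subtype.ext e)
      · exact fun hh => absurd (Finset.mem_univ _) hh

/-- The arithmetic at the end. -/
theorem dvd_of_variance {ι : Type*} (S : Finset ι) (a : ι → ℕ) {f e : ℕ} (hf : 2 ≤ f)
    (hS : S.card = f) (hsum : ∑ i ∈ S, a i = e)
    (hsq : f * ∑ i ∈ S, a i ^ 2 = e ^ 2 + (f - 1)) :
    (f : ℤ) ∣ (e : ℤ) - 1 ∨ (f : ℤ) ∣ (e : ℤ) + 1 := by
  set q : ℤ := ((e / f : ℕ) : ℤ) with hq
  set r : ℤ := ((e % f : ℕ) : ℤ) with hr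
  have he : (e : ℤ) = f * q + r := by rw [hq, hr]; exact_mod_cast (Nat.div_add_mod e f).symm
  have hr0 : 0 ≤ r := by positivity
  have hrf : r < f := by rw [hr]; exact_mod_cast Nat.mod_lt e (by omega)
  set T : ℤ := ∑ i ∈ S, ((a i : ℤ) - q) ^ 2 with hT
  have hlin : ∑ i ∈ S, ((a i : ℤ) - q) = r := by
    rw [Finset.sum_sub_distrib, Finset.sum_const, hS, nsmul_eq_mul]
    have : ∑ i ∈ S, (a i : ℤ) = (e : ℤ) := by exact_mod_cast hsum
    rw [this, he]; ring
  have hge : r ≤ T := by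
    rw [← hlin, hT]
    exact Finset.sum_le_sum fun i _ => Int.le_self_sq _
  have hexp : T = (∑ i ∈ S, (a i : ℤ) ^ 2) - 2 * q * e + f * q ^ 2 := by
    have h1 : ∑ i ∈ S, (a i : ℤ) = (e : ℤ) := by exact_mod_cast hsum
    rw [hT]
    simp only [sub_sq, Finset.sum_add_distrib, Finset.sum_sub_distrib, ← Finset.mul_sum,
      ← Finset.sum_mul, Finset.sum_const, hS, nsmul_eq_mul, h1]
    ring
  have hsq' : (f : ℤ) * (∑ i ∈ S, (a i : ℤ) ^ 2) = (e : ℤ) ^ 2 + ((f : ℤ) - 1) := by
    have h := congrArg (fun m : ℕ => (m : ℤ)) hsq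
    push_cast [Nat.cast_sub (show 1 ≤ f by omega)] at h
    exact h
  have hkey : (f : ℤ) * T = r ^ 2 + ((f : ℤ) - 1) := by
    rw [hexp]
    linear_combination hsq' + ((e : ℤ) + r - (f : ℤ) * q) * he
  by_cases h1 : r = 1
  · exact Or.inl ⟨q, by rw [he, h1]; ring⟩
  by_cases h2 : r = (f : ℤ) - 1
  · exact Or.inr ⟨q + 1, by rw [he, h2]; ring⟩
  exfalso
  rcases (lt_or_eq_of_le hr0) with h3 | h3
  · have hle : (f : ℤ) * r ≤ r ^ 2 + ((f : ℤ) - 1) :=
      hkey ▸ mul_le_mul_of_nonneg_left hge (by positivity)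
    have e1 : 2 ≤ r := by omega
    have e2 : r ≤ (f : ℤ) - 2 := by omega
    nlinarith [mul_pos (show (0 : ℤ) < r - 1 by linarith) (show (0 : ℤ) < (f : ℤ) - 1 - r by linarith)]
  · have h4 : (f : ℤ) ∣ 1 := ⟨1 - T, by rw [← h3] at hkey; linear_combination hkey⟩
    have := Int.le_of_dvd one_pos h4
    omega

/-- Let N ≤ G be normal subgroups of the finite group Γ with Γ/G cyclic and Γ/N a Frobenius group with kernel G/N: G ≠ Γ, N ≠ G, and no element of Γ outside G fixes a non-identity coset of N in G under conjugation. Let ϑ be an irreducible character of N invariant under conjugation by Γ and suppose ϑ is fully ramified in G: the character of G induced from ϑ equals e·χ for an irreducible character χ of G and a natural number e. Then the index of G in Γ divides e − 1 or e + 1. -/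
theorem result {Γ : Type*} [Group Γ] [Fintype Γ] (G N : Subgroup Γ) [hG : G.Normal] [hN : N.Normal] [Fintype G] [Fintype N] (hNG : N ≤ G) (hGlt : G ≠ ⊤) (hNlt : N ≠ G) (hcyc : IsCyclic (Γ ⧸ G)) (hfrob : ∀ x : Γ, x ∉ G → ∀ g : Γ, g ∈ G → x * g * x⁻¹ * g⁻¹ ∈ N → g ∈ N) (θ : Cfsg.IrrCharacter N) (hinv : ∀ (x : Γ) (n : N), (θ : N → ℂ) ⟨x * n * x⁻¹, hN.conj_mem n n.2 x⟩ = (θ : N → ℂ) n) (χ : Cfsg.IrrCharacter G) (e : ℕ) (hram : Cfsg.indFun (N.subgroupOf G) (fun n : N.subgroupOf G => (θ : N → ℂ) ⟨(n : G), n.2⟩) = fun g => (e : ℂ) * (χ : G → ℂ) g) : (G.index : ℤ) ∣ (e : ℤ) - 1 ∨ (G.index : ℤ) ∣ (e : ℤ) + 1 := by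
  classical
  set f := G.index with hf
  have hf2 : 2 ≤ f := by
    have h0 : f ≠ 0 := Subgroup.index_ne_zero_of_finite
    have h1 : f ≠ 1 := fun h => hGlt (Subgroup.index_eq_one.mp h)
    omega
  haveI hN' : (N.subgroupOf G).Normal := hN.subgroupOf G
  haveI := Fintype.ofFinite (N.subgroupOf G)
  set θ' : N.subgroupOf G → ℂ := fun n => (θ : N → ℂ) ⟨(n : G), n.2⟩ with hθ'
  have hθ'irr : IsIrrCharacter (N.subgroupOf G) θ' :=
    isIrrCharacter_comp_equiv (Subgroup.subgroupOfEquivOfLe hNG) θ.2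
  have hθ'inv : ∀ g : G, conjTwist (N.subgroupOf G) θ' g = θ' := fun g =>
    funext fun n => hinv (g : Γ) ⟨(n : G), n.2⟩
  have hχθ : classInner (fun n : N.subgroupOf G => (χ : G → ℂ) n) θ' = (e : ℂ) := by
    have h1 : classInner (indFun (N.subgroupOf G) θ') (χ : G → ℂ) = (e : ℂ) := by
      rw [hram, show (fun g => (e : ℂ) * (χ : G → ℂ) g) = (e : ℂ) • (χ : G → ℂ) from rfl,
        classInner_smul_left, classInner_irr_self χ.2, mul_one]
    rw [classInner_indFun _ _ χ.2.isClassFunction, ← classInner_conj_symm] at h1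
    have h2 := congrArg conj h1
    rwa [Complex.conj_conj, Complex.conj_natCast] at h2
  have he0 : (e : ℂ) ≠ 0 := by
    intro h0
    have h := congrFun hram 1
    rw [h0, zero_mul, indFun_apply_one, mul_eq_zero] at h
    rcases h with h | h
    · exact Nat.cast_ne_zero.mpr Subgroup.index_ne_zero_of_finite h
    · exact hθ'irr.apply_one_ne_zero h
  have hres : ∀ (g : Γ) (hg : g ∈ G) (hn : g ∈ N),
      (χ : G → ℂ) ⟨g, hg⟩ = (e : ℂ) * (θ : N → ℂ) ⟨g, hn⟩ := by
    intro g hg hn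
    have h := congrFun (clifford_invariant (N.subgroupOf G) χ.2 hθ'irr hθ'inv (hχθ.symm ▸ he0))
      ⟨⟨g, hg⟩, hn⟩
    rw [hχθ] at h
    exact h
  -- `χ` is invariant and extends
  have hχinv : ∀ x : Γ, conjTwist G (χ : G → ℂ) x = (χ : G → ℂ) := by
    intro x
    by_contra hne
    have h0 := classInner_irr_ne (isIrrCharacter_conjTwist G χ.2 x) χ.2 hne
    have h1 : classInner (fun n : N.subgroupOf G => conjTwist G (χ : G → ℂ) x n) θ' = (e : ℂ) := by
      rw [show (fun n : N.subgroupOf G => conjTwist G (χ : G → ℂ) x n) = (e : ℂ) • θ' from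
        funext fun n => by
          show (χ : G → ℂ) ⟨x * ((n : G) : Γ) * x⁻¹, _⟩ = (e : ℂ) * θ' n
          rw [hres (x * ((n : G) : Γ) * x⁻¹) (hG.conj_mem _ (n : G).2 x) (hN.conj_mem ((n : G) : Γ) n.2 x)]
          exact congrArg ((e : ℂ) * ·) (hinv x ⟨(n : G), n.2⟩),
        classInner_smul_left, classInner_irr_self hθ'irr, mul_one]
    have h2 : classInner (indFun (N.subgroupOf G) θ') (conjTwist G (χ : G → ℂ) x) = (e : ℂ) := by
      rw [classInner_indFun _ _ (isIrrCharacter_conjTwist G χ.2 x).isClassFunction,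
        ← classInner_conj_symm, h1, Complex.conj_natCast]
    rw [hram, show (fun g => (e : ℂ) * (χ : G → ℂ) g) = (e : ℂ) • (χ : G → ℂ) from rfl,
      classInner_smul_left, classInner_irr_ne χ.2 (isIrrCharacter_conjTwist G χ.2 x) (Ne.symm hne),
      mul_zero] at h2
    exact he0 h2.symm
  obtain ⟨dim, ρ, hρ, hρχ⟩ := χ.2
  haveI := hρ
  obtain ⟨R, hR⟩ := exists_extension_of_cyclic ρ (fun x g => by
    rw [hρχ]
    exact congrFun (hχinv x) g) hcyc
  have hRirr : R.IsIrreducible := isIrreducible_of_extension hR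
  set ξ := R.character with hξ
  have hξirr : IsIrrCharacter Γ ξ := isIrrCharacter_character R
  have hξext : ∀ g : G, ξ g = (χ : G → ℂ) g := fun g => by
    rw [← hρχ, hξ]
    show LinearMap.trace ℂ _ (R g) = LinearMap.trace ℂ _ (ρ g)
    rw [hR g]
  have habG : ∀ a b : Γ, a * b * a⁻¹ * b⁻¹ ∈ G := by
    intro a b
    haveI := hcyc
    letI : CommGroup (Γ ⧸ G) := IsCyclic.commGroup
    rw [← QuotientGroup.eq_one_iff]
    simp only [QuotientGroup.mk_mul, QuotientGroup.mk_inv]
    rw [mul_comm (a : Γ ⧸ G) (b : Γ ⧸ G), mul_inv_cancel_right, mul_inv_cancel]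
  let F : Γ → ℂ := fun y => ξ y * conj (ξ y)
  have hFclass : ∀ y z : Γ, F (z * y * z⁻¹) = F y := fun y z => by
    simp only [F, hξirr.isClassFunction y z]
  have hFG : ∀ h : Γ, ∑ g : G, F (h * g) = (Nat.card G : ℂ) := by
    intro h
    rw [← norm_coset G habG χ.2 hξirr hξext h]
    refine Fintype.sum_equiv (MulAut.conjNormal h : MulAut G).toEquiv _ _ fun g => ?_
    show F (h * g) = F ((h * (g : Γ) * h⁻¹) * h)
    rw [inv_mul_cancel_right]
  haveI := Fintype.ofFinite (G ⧸ N.subgroupOf G)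
  let π := QuotientGroup.mk' (N.subgroupOf G)
  have hker : Nat.card π.ker = Nat.card N := by
    rw [QuotientGroup.ker_mk']
    exact Nat.card_congr (Subgroup.subgroupOfEquivOfLe hNG).toEquiv
  -- the sum over a coset of `N` outside `G`
  have hout : ∀ h : Γ, h ∉ G → ∑ n : N, F (h * n) = (Nat.card N : ℂ) := by
    intro h hh
    let T : G → ℂ := fun g => ∑ n : N, F (h * (g : Γ) * n)
    have hT : ∀ g₁ g₂ : G, π g₁ = π g₂ → T g₁ = T g₂ := by
      intro g₁ g₂ hq
      have hm : (g₁ : Γ)⁻¹ * g₂ ∈ N := Subgroup.mem_subgroupOf.mp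
          (QuotientGroup.eq.mp (hq : (g₁ : G ⧸ N.subgroupOf G) = g₂))
      refine (Fintype.sum_equiv (Equiv.mulLeft (⟨_, hm⟩ : N)) _ _ fun n => ?_).symm
      show F (h * (g₂ : Γ) * n) = F (h * (g₁ : Γ) * (((g₁ : Γ)⁻¹ * g₂) * n))
      simp [mul_assoc]
    let c : G → G := fun g => ⟨h⁻¹ * g * h * (g : Γ)⁻¹, mul_mem (by
      have := hG.conj_mem (g : Γ) g.2 h⁻¹
      rwa [inv_inv] at this) (inv_mem g.2)⟩
    have hconj : ∀ g : G, ∀ n : Γ, n ∈ N → (g : Γ) * n * (g : Γ)⁻¹ ∈ N := fun g n hn =>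
      hN.conj_mem n hn g
    have hwd : ∀ g₁ g₂ : G, π g₁ = π g₂ ↔ π (c g₁) = π (c g₂) := by
      intro g₁ g₂
      constructor
      · intro hq
        have hm : (g₁ : Γ)⁻¹ * g₂ ∈ N := Subgroup.mem_subgroupOf.mp
          (QuotientGroup.eq.mp (hq : (g₁ : G ⧸ N.subgroupOf G) = g₂))
        refine QuotientGroup.eq.mpr ?_
        show ((h⁻¹ * g₁ * h * (g₁ : Γ)⁻¹)⁻¹ * (h⁻¹ * g₂ * h * (g₂ : Γ)⁻¹)) ∈ N
        rw [show (h⁻¹ * (g₁ : Γ) * h * (g₁ : Γ)⁻¹)⁻¹ * (h⁻¹ * g₂ * h * (g₂ : Γ)⁻¹) =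
          (g₁ : Γ) * ((h⁻¹ * ((g₁ : Γ)⁻¹ * g₂) * h) * ((g₁ : Γ)⁻¹ * g₂)⁻¹) * (g₁ : Γ)⁻¹ by
            simp [mul_assoc]]
        refine hconj g₁ _ (mul_mem ?_ (inv_mem hm))
        have := hN.conj_mem _ hm h⁻¹
        rwa [inv_inv] at this
      · intro hq
        have hm : (h⁻¹ * g₁ * h * (g₁ : Γ)⁻¹)⁻¹ * (h⁻¹ * g₂ * h * (g₂ : Γ)⁻¹) ∈ N :=
          Subgroup.mem_subgroupOf.mp
            (QuotientGroup.eq.mp (hq : ((c g₁ : G) : G ⧸ N.subgroupOf G) = (c g₂ : G)))
        have hm' := hN.conj_mem _ hm (g₁ : Γ)⁻¹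
        refine QuotientGroup.eq.mpr (hfrob h⁻¹ (fun hi => hh (by simpa using inv_mem hi))
          ((g₁ : Γ)⁻¹ * g₂) (mul_mem (inv_mem g₁.2) g₂.2) ?_)
        convert hm' using 1
        simp [mul_assoc]
    let T' : G ⧸ N.subgroupOf G → ℂ := fun q => T q.out
    have hT' : ∀ g : G, T' (π g) = T g := fun g => hT _ _ (Quotient.out_eq _)
    let c' : G ⧸ N.subgroupOf G → G ⧸ N.subgroupOf G := fun q => π (c q.out)
    have hc' : Function.Bijective c' := by
      refine Finite.injective_iff_bijective.mp fun q r hqr => ?_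
      rw [← q.out_eq, ← r.out_eq]
      exact (hwd _ _).mpr hqr
    have hval : ∀ g : G, T (c g) = ∑ n : N, F (h * n) := by
      intro g
      refine Fintype.sum_equiv (MulAut.conjNormal ((g : Γ)⁻¹) : MulAut N).toEquiv _ _ fun n => ?_
      show F (h * (h⁻¹ * g * h * (g : Γ)⁻¹) * n) = F (h * ((g : Γ)⁻¹ * n * ((g : Γ)⁻¹)⁻¹))
      rw [← hFclass (h * ((g : Γ)⁻¹ * n * ((g : Γ)⁻¹)⁻¹)) (g : Γ)]
      congr 1
      simp [mul_assoc]
    have hsum1 : ∑ q, T' q = (Nat.card G : ℂ) := by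
      have h1 := sum_fibre π (QuotientGroup.mk'_surjective _) T'
      have h2 : ∑ g : G, T g = (Nat.card N : ℂ) * (Nat.card G : ℂ) := by
        rw [Finset.sum_comm, Finset.sum_congr rfl (g := fun _ => (Nat.card G : ℂ)) fun n _ => by
          rw [← hFG h]
          refine Fintype.sum_equiv (Equiv.mulRight (⟨(n : Γ), hNG n.2⟩ : G)) _ _ fun g => ?_
          show F (h * (g : Γ) * n) = F (h * ((g : Γ) * n))
          rw [mul_assoc], Finset.sum_const, Finset.card_univ, nsmul_eq_mul]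
        simp only [Nat.card_eq_fintype_card]
      simp only [hT', h2, hker] at h1
      exact (mul_left_cancel₀ card_cast_ne_zero h1).symm
    have hsum2 : ∑ q, T' q = ∑ q : G ⧸ N.subgroupOf G, ∑ n : N, F (h * n) := by
      rw [← hc'.sum_comp]
      refine Finset.sum_congr rfl fun q _ => ?_
      rw [hT' (c q.out), hval]
    rw [hsum2, Finset.sum_const, Finset.card_univ, nsmul_eq_mul, ← Nat.card_eq_fintype_card,
      ← Subgroup.index_eq_card] at hsum1
    have hGc : (Nat.card G : ℂ) = ((N.subgroupOf G).index : ℂ) * (Nat.card N : ℂ) := by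
      rw [← (N.subgroupOf G).card_mul_index,
        Nat.card_congr (Subgroup.subgroupOfEquivOfLe hNG).toEquiv, Nat.cast_mul, mul_comm]
    rw [hGc] at hsum1
    exact mul_left_cancel₀ (Nat.cast_ne_zero.mpr Subgroup.index_ne_zero_of_finite) hsum1
  -- a cyclic supplement
  obtain ⟨x₀, hx₀⟩ := hcyc.exists_generator
  obtain ⟨x, rfl⟩ := QuotientGroup.mk_surjective x₀
  have hxf : x ^ f ∈ N := by
    have hxG : x ∉ G := fun hx => hGlt ((Subgroup.eq_top_iff' G).mpr fun y => by
      have h1 := hx₀ (y : Γ ⧸ G)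
      rw [(QuotientGroup.eq_one_iff x).mpr hx, Subgroup.zpowers_one_eq_bot, Subgroup.mem_bot,
        QuotientGroup.eq_one_iff] at h1
      exact h1)
    refine hfrob x hxG _ (G.pow_index_mem x) ?_
    rw [← pow_succ', pow_succ, mul_inv_cancel_right, mul_inv_cancel]
    exact N.one_mem
  let H : Subgroup Γ := N ⊔ Subgroup.zpowers x
  haveI := Fintype.ofFinite H
  have hNH : N ≤ H := le_sup_left
  have hHG : ∀ y ∈ H, y ∈ G → y ∈ N := by
    intro y hy hyG
    obtain ⟨n, hn, z, hz, rfl⟩ := Subgroup.mem_sup_of_normal_left.mp hy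
    obtain ⟨i, rfl⟩ := Subgroup.mem_zpowers_iff.mp hz
    have h1 : x ^ i ∈ G := by
      have := mul_mem (inv_mem (hNG hn)) hyG
      simpa using this
    have hord : orderOf (x : Γ ⧸ G) = f := by
      rw [orderOf_eq_card_of_forall_mem_zpowers hx₀, hf, Subgroup.index_eq_card]
    have h2 : (f : ℤ) ∣ i := by
      rw [← hord, orderOf_dvd_iff_zpow_eq_one, ← QuotientGroup.mk_zpow,
        QuotientGroup.eq_one_iff]
      exact h1
    obtain ⟨j, rfl⟩ := h2
    refine mul_mem hn ?_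
    rw [zpow_mul, zpow_natCast]
    exact N.zpow_mem hxf j
  haveI hNHn : (N.subgroupOf H).Normal := hN.subgroupOf H
  haveI := Fintype.ofFinite (N.subgroupOf H)
  let pH : H →* Γ ⧸ G := (QuotientGroup.mk' G).comp H.subtype
  have hpHs : Function.Surjective pH := fun q => by
    obtain ⟨i, rfl⟩ := Subgroup.mem_zpowers_iff.mp (hx₀ q)
    exact ⟨⟨x ^ i, Subgroup.mem_sup_right (Subgroup.zpow_mem _ (Subgroup.mem_zpowers x) i)⟩,
      map_zpow (QuotientGroup.mk' G) x i⟩
  have hpHk : pH.ker = N.subgroupOf H := Subgroup.ext fun y => by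
    rw [MonoidHom.mem_ker, Subgroup.mem_subgroupOf]
    show ((y : Γ) : Γ ⧸ G) = 1 ↔ _
    rw [QuotientGroup.eq_one_iff]
    exact ⟨hHG y y.2, fun h => hNG h⟩
  have hidx : (N.subgroupOf H).index = f := by
    rw [← hpHk, Subgroup.index_ker, MonoidHom.range_eq_top.mpr hpHs, Subgroup.card_top, hf,
      Subgroup.index_eq_card]
  have hcardN : Nat.card (N.subgroupOf H) = Nat.card N :=
    Nat.card_congr (Subgroup.subgroupOfEquivOfLe hNH).toEquiv
  have hHcard : Nat.card H = Nat.card N * f := by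
    rw [← (N.subgroupOf H).card_mul_index, hidx, hcardN]
  have hHab : ∀ a b : H, a * b * a⁻¹ * b⁻¹ ∈ N.subgroupOf H := fun a b => by
    rw [Subgroup.mem_subgroupOf]
    exact hHG _ (a * b * a⁻¹ * b⁻¹).2 (by push_cast; exact habG _ _)
  set ψ : H → ℂ := fun y => ξ y with hψ
  have hψc : IsCharacter H ψ := hξirr.isCharacter.comp H.subtype
  -- norm of the restriction
  have hin : ∀ y : Γ, y ∈ N → ∑ n : N, F (y * n) = (e : ℂ) ^ 2 * (Nat.card N : ℂ) := by
    intro y hy
    have h1 : ∑ n : N, F (y * n) = ∑ n : N, F n :=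
      Fintype.sum_equiv (Equiv.mulLeft (⟨y, hy⟩ : N)) _ _ fun n => rfl
    have h2 := classInner_irr_self θ.2
    rw [classInner, inv_mul_eq_one₀ card_cast_ne_zero] at h2
    rw [h1, h2, Finset.mul_sum]
    refine Finset.sum_congr rfl fun n _ => ?_
    show ξ n * conj (ξ n) = _
    rw [show ξ (n : Γ) = (e : ℂ) * (θ : N → ℂ) n from
      (hξext ⟨n, hNG n.2⟩).trans (hres _ _ n.2), map_mul, Complex.conj_natCast]
    ring
  have hnorm : classInner ψ ψ * (f : ℂ) = (e : ℂ) ^ 2 + ((f : ℂ) - 1) := by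
    have h1 : ∑ y : H, ∑ n : N, F ((y : Γ) * n) = (Nat.card N : ℂ) * ∑ y : H, F y := by
      have hn : ∀ n : N, ∑ y : H, F ((y : Γ) * n) = ∑ y : H, F y := fun n =>
        Fintype.sum_equiv (Equiv.mulRight (⟨(n : Γ), hNH n.2⟩ : H)) _ _ fun y => rfl
      rw [Finset.sum_comm, Finset.sum_congr rfl fun n _ => hn n, Finset.sum_const, Finset.card_univ, nsmul_eq_mul, Nat.card_eq_fintype_card]
    have h2 : ∑ y : H, ∑ n : N, F ((y : Γ) * n) = ∑ y : H, ((Nat.card N : ℂ) +
        if (y : Γ) ∈ N then ((e : ℂ) ^ 2 - 1) * (Nat.card N : ℂ) else 0) := by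
      refine Finset.sum_congr rfl fun y _ => ?_
      split_ifs with hy
      · rw [hin _ hy]; ring
      · rw [hout _ fun h => hy (hHG _ y.2 h), add_zero]
    rw [h2, Finset.sum_add_distrib, ← Finset.sum_filter, Finset.sum_const, Finset.sum_const,
      Finset.card_univ, ← Nat.card_eq_fintype_card, hHcard] at h1
    have hfil : (Finset.univ.filter fun y : H => (y : Γ) ∈ N).card = Nat.card N := by
      rw [← Nat.card_eq_finsetCard, ← hcardN]
      exact Nat.card_congr (Equiv.subtypeEquivRight fun y => by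
        rw [Finset.mem_filter, Subgroup.mem_subgroupOf]; simp)
    rw [hfil, nsmul_eq_mul, nsmul_eq_mul, Nat.cast_mul] at h1
    have hN0 : (Nat.card N : ℂ) ≠ 0 := Nat.cast_ne_zero.mpr Nat.card_pos.ne'
    have hf0 : (f : ℂ) ≠ 0 := Nat.cast_ne_zero.mpr (by omega)
    have h3 : ∑ y : H, F y = (Nat.card N : ℂ) * ((e : ℂ) ^ 2 + ((f : ℂ) - 1)) := by
      refine mul_left_cancel₀ hN0 (h1.symm.trans ?_)
      ring
    rw [classInner, hHcard, Nat.cast_mul, show ∑ y : H, ψ y * conj (ψ y) = ∑ y : H, F y from rfl,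
      h3]
    field_simp
  -- the characters of `H` over `θ`
  set θ₂ : N.subgroupOf H → ℂ := fun n => (θ : N → ℂ) ⟨(n : H), n.2⟩ with hθ₂
  have hθ₂irr : IsIrrCharacter (N.subgroupOf H) θ₂ :=
    isIrrCharacter_comp_equiv (Subgroup.subgroupOfEquivOfLe hNH) θ.2
  have hθ₂inv : ∀ y : H, conjTwist (N.subgroupOf H) θ₂ y = θ₂ := fun y =>
    funext fun n => hinv (y : Γ) ⟨(n : H), n.2⟩
  obtain ⟨dim₂, σ, hσ, hσθ⟩ := hθ₂irr
  haveI := hσ
  haveI hcycH : IsCyclic (H ⧸ N.subgroupOf H) := by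
    haveI := hcyc
    exact isCyclic_of_surjective
      (((QuotientGroup.quotientMulEquivOfEq hpHk.symm).trans
        (QuotientGroup.quotientKerEquivOfSurjective pH hpHs)).symm.toMonoidHom)
      (MulEquiv.surjective _)
  obtain ⟨S₂, hS₂⟩ := exists_extension_of_cyclic σ (fun y n => by
    rw [hσθ]
    exact congrFun (hθ₂inv y) n) hcycH
  haveI : S₂.IsIrreducible := isIrreducible_of_extension hS₂
  have hext₂ : ∀ n : N.subgroupOf H, S₂.character n = θ₂ n := fun n => by
    rw [← hσθ]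
    show LinearMap.trace ℂ _ (S₂ n) = LinearMap.trace ℂ _ (σ n)
    rw [hS₂ n]
  have hθ₂irr' : IsIrrCharacter (N.subgroupOf H) θ₂ := hσθ ▸ isIrrCharacter_character σ
  have hprod : IsIrrCharacter (N.subgroupOf H)
      ((fun _ : N.subgroupOf H => (1 : ℂ)) * θ₂) := by
    rwa [show (fun _ : N.subgroupOf H => (1 : ℂ)) * θ₂ = θ₂ from one_mul θ₂]
  have hbij := gallagher_bijOn (N.subgroupOf H) isIrrCharacter_one (fun _ => rfl) hθ₂inv hprod
    (isCharacter_character S₂) hext₂
  rw [show (fun _ : N.subgroupOf H => (1 : ℂ)) * θ₂ = θ₂ from one_mul θ₂] at hbij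
  set S : Finset (IrrCharacter H) := Finset.univ.filter fun φ =>
    classInner (indFun (N.subgroupOf H) θ₂) (φ : H → ℂ) ≠ 0 with hSdef
  have hrest : ∀ φ ∈ S, (fun n : N.subgroupOf H => (φ : H → ℂ) n) = θ₂ := by
    intro φ hφ
    obtain ⟨β, ⟨hβ, hβne⟩, hβe⟩ := hbij.surjOn
      (Set.mem_setOf.mpr ⟨φ.2, (Finset.mem_filter.mp hφ).2⟩)
    have hker : ∀ n : N.subgroupOf H, β n = β 1 := fun n => apply_eq_of_constituent
      (isCharacter_indFun (N.subgroupOf H) isIrrCharacter_one.isCharacter) hβ hβne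
      (indFun_one_apply (N.subgroupOf H) n)
    obtain ⟨γ, hγ, hγe⟩ := exists_deflate_irr (N.subgroupOf H) hβ fun n hn => hker ⟨n, hn⟩
    have hβ1 : β 1 = 1 := by
      rw [← hγe 1]
      refine degree_eq_one_of_comm (fun a b => ?_) hγ
      haveI := hcycH
      letI : CommGroup (H ⧸ N.subgroupOf H) := IsCyclic.commGroup
      exact mul_comm a b
    funext n
    rw [← hβe]
    show β n * S₂.character n = θ₂ n
    rw [hker n, hβ1, one_mul, hext₂]
  choose a ha using fun φ : IrrCharacter H => hψc.exists_nat_classInner φ.2.isCharacter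
  have hψN : (fun n : N.subgroupOf H => ψ n) = (e : ℂ) • θ₂ := funext fun n =>
    (hξext ⟨(n : H), hNG n.2⟩).trans (hres _ _ n.2)
  have houtS : ∀ φ : IrrCharacter H, φ ∉ S → a φ = 0 := by
    intro φ hφ
    by_contra ha0
    have hne : classInner ψ (φ : H → ℂ) ≠ 0 := by rw [ha]; exact Nat.cast_ne_zero.mpr ha0
    obtain ⟨θ₃, hθ₃⟩ := exists_irr_constituent_res (N.subgroupOf H) φ.2
    have hle := classInner_res_le_of_constituent (N.subgroupOf H) hψc φ.2 hne θ₃.2.isCharacter
    rw [hψN, classInner_smul_left] at hle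
    by_cases hθ : θ₂ = (θ₃ : N.subgroupOf H → ℂ)
    · apply hφ
      refine Finset.mem_filter.mpr ⟨Finset.mem_univ _, ?_⟩
      rw [classInner_indFun _ _ φ.2.isClassFunction, ← classInner_conj_symm, hθ]
      exact (map_ne_zero _).mpr hθ₃
    · rw [classInner_irr_ne hθ₂irr' θ₃.2 hθ, mul_zero, Complex.zero_re] at hle
      exact hθ₃ ((eq_zero_iff_re_classInner (φ.2.isCharacter.comp (N.subgroupOf H).subtype)
        θ₃.2.isCharacter).mpr (le_antisymm hle
          (classInner_re_nonneg (φ.2.isCharacter.comp (N.subgroupOf H).subtype) θ₃.2.isCharacter)))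
  have hψexp : ψ = ∑ φ ∈ S, (a φ : ℂ) • (φ : H → ℂ) := by
    conv_lhs => rw [eq_sum_classInner hψc.isClassFunction]
    simp only [ha]
    exact (Finset.sum_subset (Finset.subset_univ S) fun φ _ h => by
      rw [houtS φ h, Nat.cast_zero, zero_smul]).symm
  have hsum : ∑ φ ∈ S, a φ = e := by
    have h1 := congrArg (fun F : H → ℂ => classInner (fun n : N.subgroupOf H => F n) θ₂) hψexp
    rw [hψN, classInner_smul_left, classInner_irr_self hθ₂irr', mul_one,
      show (fun n : N.subgroupOf H => (∑ φ ∈ S, (a φ : ℂ) • (φ : H → ℂ)) n) =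
        ∑ φ ∈ S, (a φ : ℂ) • θ₂ from funext fun n => by
          simp only [Finset.sum_apply, Pi.smul_apply]
          exact Finset.sum_congr rfl fun φ hφ => by rw [← congrFun (hrest φ hφ) n],
      classInner_sum_left] at h1
    simp only [classInner_smul_left, classInner_irr_self hθ₂irr', mul_one] at h1
    exact_mod_cast h1.symm
  have hcard : S.card = f := by
    have h1 := classInner_indFun_self (N.subgroupOf H) hθ₂irr'
    have hI : inertia (N.subgroupOf H) θ₂ = ⊤ :=
      (Subgroup.eq_top_iff' _).mpr fun y => (mem_inertia _).mpr (hθ₂inv y)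
    rw [hI, Subgroup.card_top, classInner_eq_sum (isCharacter_indFun _
      hθ₂irr'.isCharacter).isClassFunction] at h1
    rw [Finset.sum_congr rfl (g := fun φ => if φ ∈ S then (1 : ℂ) else 0) fun φ _ => by
      split_ifs with hφ
      · rw [classInner_indFun _ _ φ.2.isClassFunction, hrest φ hφ, classInner_irr_self hθ₂irr']
        simp
      · have h0 : classInner (indFun (N.subgroupOf H) θ₂) (φ : H → ℂ) = 0 := by
          by_contra hc
          exact hφ (Finset.mem_filter.mpr ⟨Finset.mem_univ _, hc⟩)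
        simp [h0], ← Finset.sum_filter, Finset.sum_const, nsmul_eq_mul, mul_one,
      Finset.filter_mem_eq_inter, Finset.univ_inter, hHcard, hcardN, ← Nat.cast_mul,
      Nat.cast_inj] at h1
    exact Nat.eq_of_mul_eq_mul_left Nat.card_pos h1
  refine dvd_of_variance S a hf2 hcard hsum ?_
  have h1 : classInner ψ ψ = ((∑ φ ∈ S, a φ ^ 2 : ℕ) : ℂ) := by
    rw [classInner_eq_sum hψc.isClassFunction]
    simp only [ha, Complex.conj_natCast]
    rw [← Finset.sum_subset (Finset.subset_univ S) fun φ _ h => by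
      rw [houtS φ h, Nat.cast_zero, zero_mul], Nat.cast_sum]
    exact Finset.sum_congr rfl fun φ _ => by push_cast; ring
  rw [h1] at hnorm
  apply Nat.cast_injective (R := ℂ)
  push_cast [Nat.cast_sub (show 1 ≤ f by omega)] at hnorm ⊢
  rw [mul_comm]
  exact hnorm

end Cfsg.Agent.S4454
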