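import Cfsg.Statements.S4459
import Cfsg.Agent.Lib.Char.TwoDegrees
import Cfsg.Agent.Lib.Char.DegreeDiv
import Cfsg.Agent.Lib.Char.Ito
import Cfsg.Agent.Lib.Char.UniformCent
import Mathlib.GroupTheory.SpecificGroups.Cyclic
import Mathlib.GroupTheory.Perm.Cycle.Type
import Mathlib.GroupTheory.IndexNormal


set_option autoImplicit false
open Cfsg

namespace Cfsg.Agent.S4459

open Cfsg.Lib.Char
open scoped ComplexConjugate commutatorElement

universe u

theorem exists_scalar {P : Type u} [Group P] [Fintype P] {χ : P → ℂ} (hχ : IsIrrCharacter P χ)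
    {z : P} (hz : ∀ g, g * z = z * g) : ∃ c : ℂ, ∀ g, χ (z * g) = c * χ g :=
  ⟨χ z / χ 1, fun g => by
    rw [div_mul_eq_mul_div, eq_div_iff hχ.apply_one_ne_zero]
    exact irr_apply_central_mul hχ hz g⟩

theorem norm_central {P : Type u} [Group P] [Fintype P] {χ : P → ℂ} (hχ : IsIrrCharacter P χ)
    {z : P} (hz : ∀ g, g * z = z * g) : ‖χ z‖ = (χ 1).re := by
  have h := irr_apply_central_mul hχ hz z⁻¹
  rw [mul_inv_cancel, hχ.isCharacter.apply_inv, Complex.mul_conj, Complex.normSq_eq_norm_sq] at h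
  obtain ⟨d, hd⟩ := hχ.isCharacter.exists_degree
  rw [hd] at h ⊢
  have h' : (d : ℝ) * d = ‖χ z‖ ^ 2 := by exact_mod_cast h
  rw [Complex.natCast_re]
  nlinarith [norm_nonneg (χ z), (Nat.cast_nonneg d : (0 : ℝ) ≤ d)]

theorem exists_index_prime {P : Type u} [Group P] [Fintype P] {p : ℕ} [hp : Fact p.Prime]
    (hP : IsPGroup p P) (H : Subgroup P) (hH : H ≠ ⊤) :
    ∃ B : Subgroup P, H ≤ B ∧ B.Normal ∧ B.index = p := by
  obtain ⟨n, hn⟩ := IsPGroup.iff_card.mp hP
  obtain ⟨j, hj⟩ := IsPGroup.iff_card.mp (hP.to_subgroup H)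
  have hlt : Nat.card H < Nat.card P :=
    lt_of_le_of_ne (Nat.le_of_dvd Nat.card_pos H.card_subgroup_dvd_card)
      fun h => hH (Subgroup.eq_top_of_card_eq _ h)
  rw [hj, hn] at hlt
  have hjn := (Nat.pow_lt_pow_iff_right hp.out.one_lt).mp hlt
  obtain ⟨B, hB, hHB⟩ := Sylow.exists_subgroup_card_pow_prime_le p
    (hn ▸ pow_dvd_pow p (show n - 1 ≤ n by omega)) H hj (show j ≤ n - 1 by omega)
  have hBi : B.index = p := by
    have h := B.card_mul_index
    rw [hB, hn, show n = (n - 1) + 1 by omega, pow_succ, Nat.add_sub_cancel] at h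
    exact Nat.eq_of_mul_eq_mul_left (pow_pos hp.out.pos _) h
  refine ⟨B, hHB, Subgroup.normal_of_index_eq_minFac_card ?_, hBi⟩
  rw [hBi, hn, Nat.pow_minFac (by omega), hp.out.minFac_eq]

theorem mem_center_of_index_le {P : Type u} [Group P] [Fintype P] (a : P)
    (h : ∀ g : P, ⁅g, a⁆ = 1) : a ∈ Subgroup.center P :=
  Subgroup.mem_center_iff.mpr fun g => commutatorElement_eq_one_iff_mul_comm.mp (h g)

/-- The class two argument inside a maximal subgroup with small derived subgroup. -/
theorem index_center_of_maximal {P : Type u} [Group P] [Fintype P] {p : ℕ} [hp : Fact p.Prime]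
    (hP : IsPGroup p P)
    (hcd : ∀ χ : IrrCharacter P, (χ : P → ℂ) 1 = 1 ∨ (χ : P → ℂ) 1 = (p : ℂ))
    (hno : ¬ ∃ B : Subgroup P, B.Normal ∧ B.index = p ∧ ∀ a ∈ B, ∀ b ∈ B, a * b = b * a)
    (K : Subgroup P) (hK : Nat.card K = p) (hKz : K ≤ Subgroup.center P)
    (B : Subgroup P) [hB : B.Normal] (hBi : B.index = p) (hBK : ∀ a ∈ B, ∀ b ∈ B, ⁅a, b⁆ ∈ K) :
    (Subgroup.center P).index = p ^ 3 := by
  classical
  haveI := Fintype.ofFinite B
  let Z : Subgroup P := B ⊓ Subgroup.centralizer (B : Set P)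
  haveI := Fintype.ofFinite Z
  have hKB : K ≤ B := by
    obtain ⟨a, ha, b, hb, hab⟩ : ∃ a ∈ B, ∃ b ∈ B, a * b ≠ b * a := by
      by_contra h
      push Not at h
      exact hno ⟨B, hB, hBi, h⟩
    intro k hk
    have hne : (⟨⁅a, b⁆, hBK a ha b hb⟩ : K) ≠ 1 := fun h =>
      hab (commutatorElement_eq_one_iff_mul_comm.mp (congrArg Subtype.val h))
    obtain ⟨i, hi⟩ := Subgroup.mem_zpowers_iff.mp
      (mem_zpowers_of_prime_card (g' := (⟨k, hk⟩ : K)) hK hne)
    have := congrArg Subtype.val hi
    simp only [SubgroupClass.coe_zpow] at this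
    rw [← this]
    exact B.zpow_mem (by
      show a * b * a⁻¹ * b⁻¹ ∈ B
      exact mul_mem (mul_mem (mul_mem ha hb) (inv_mem ha)) (inv_mem hb)) i
  have hKZ : K ≤ Z := fun k hk => ⟨hKB hk, Subgroup.mem_centralizer_iff.mpr fun b _ =>
    Subgroup.mem_center_iff.mp (hKz hk) b⟩
  -- the characters of `B` over a faithful character of `K`
  have hover : ∀ lam : Z →* ℂˣ, (∃ k : Z, (k : P) ∈ K ∧ lam k ≠ 1) →
      (∀ (g : P) (z : Z) (h : g * z * g⁻¹ ∈ Z), lam ⟨_, h⟩ = lam z) ∧
      ∃ φ : B → ℂ, IsIrrCharacter B φ ∧ φ 1 = (p : ℂ) ∧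
        ∀ (x : B), (x : P) ∉ Z → φ x = 0 := by
    rintro lam ⟨k₀, hk₀, hlk⟩
    haveI hZn : (Z.subgroupOf B).Normal := ⟨fun z hz g => by
      rw [Subgroup.mem_subgroupOf] at hz ⊢
      have h : (g : P) * (z : P) = (z : P) * (g : P) := Subgroup.mem_centralizer_iff.mp hz.2 g g.2
      simpa [h] using hz⟩
    haveI := Fintype.ofFinite (Z.subgroupOf B)
    let lamB : (Z.subgroupOf B) →* ℂˣ :=
      lam.comp (Subgroup.subgroupOfEquivOfLe (inf_le_left : Z ≤ B)).toMonoidHom
    obtain ⟨φ, hφ⟩ := exists_constituent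
      (isCharacter_indFun (Z.subgroupOf B) (isIrrCharacter_linear lamB).isCharacter) (by
        rw [indFun_apply_one]
        exact mul_ne_zero (Nat.cast_ne_zero.mpr Subgroup.index_ne_zero_of_finite)
          (Units.ne_zero _))
    have hc : classInner (fun n : Z.subgroupOf B => (φ : B → ℂ) n) (fun n => (lamB n : ℂ)) ≠ 0 := by
      rw [classInner_indFun _ _ φ.2.isClassFunction, ← classInner_conj_symm] at hφ
      exact fun e => hφ (by rw [e, map_zero])
    have hsc := clifford_invariant (Z.subgroupOf B) φ.2 (isIrrCharacter_linear lamB) (fun g => by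
      funext z
      simp only [conjTwist_apply]
      congr 2
      apply Subtype.ext
      apply Subtype.ext
      show (g : P) * ((z : B) : P) * (g : P)⁻¹ = ((z : B) : P)
      rw [Subgroup.mem_centralizer_iff.mp (Subgroup.mem_subgroupOf.mp z.2).2 g g.2,
        mul_inv_cancel_right]) hc
    have hval : ∀ z : Z, (φ : B → ℂ) ⟨z, z.2.1⟩ = (φ : B → ℂ) 1 * (lam z : ℂ) := by
      intro z
      have h1 := congrFun hsc ⟨⟨z, z.2.1⟩, Subgroup.mem_subgroupOf.mpr z.2⟩
      have h2 := congrFun hsc 1
      simp only [Pi.smul_apply, smul_eq_mul, map_one, Units.val_one, mul_one,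
        OneMemClass.coe_one] at h1 h2
      rw [← h2] at h1
      exact h1
    have hφ1 : (φ : B → ℂ) 1 = (p : ℂ) := by
      obtain ⟨χ, hχ⟩ := exists_constituent (isCharacter_indFun B φ.2.isCharacter) (by
        rw [indFun_apply_one]
        exact mul_ne_zero (Nat.cast_ne_zero.mpr Subgroup.index_ne_zero_of_finite)
          φ.2.apply_one_ne_zero)
      have hc' : classInner (fun n : B => (χ : P → ℂ) n) (φ : B → ℂ) ≠ 0 := by
        rw [classInner_indFun B _ χ.2.isClassFunction, ← classInner_conj_symm] at hχ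
        exact fun e => hχ (by rw [e, map_zero])
      obtain ⟨e, he⟩ := (χ.2.isCharacter.comp B.subtype).exists_nat_classInner φ.2.isCharacter
      have he' : classInner (fun n : B => (χ : P → ℂ) n) (φ : B → ℂ) = (e : ℂ) := he
      obtain ⟨d, hd⟩ := φ.2.isCharacter.exists_degree
      have h := clifford_degree B χ.2 φ.2 hc'
      rw [he', hd] at h
      have hd1 : d ≠ 1 := by
        intro h1
        subst h1
        obtain ⟨f, hf⟩ := exists_hom_of_degree_one φ.2.isCharacter (by rw [hd, Nat.cast_one])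
        apply hlk
        -- `k₀` is a commutator power in `B`
        obtain ⟨a, ha, b, hb, hab⟩ : ∃ a ∈ B, ∃ b ∈ B, a * b ≠ b * a := by
          by_contra h
          push Not at h
          exact hno ⟨B, hB, hBi, h⟩
        obtain ⟨i, hi⟩ := Subgroup.mem_zpowers_iff.mp
          (mem_zpowers_of_prime_card (g' := (⟨k₀, hk₀⟩ : K)) (g := ⟨⁅a, b⁆, hBK a ha b hb⟩) hK
            fun h => hab (commutatorElement_eq_one_iff_mul_comm.mp (congrArg Subtype.val h)))
        have h1 := hval k₀
        rw [hd, Nat.cast_one, one_mul, hf] at h1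
        rw [← Units.val_inj, ← h1]
        simp only
        rw [show (⟨k₀, k₀.2.1⟩ : B) = ⁅(⟨a, ha⟩ : B), ⟨b, hb⟩⁆ ^ i from
          Subtype.ext (congrArg Subtype.val hi).symm, map_zpow, map_commutatorElement,
          commutatorElement_eq_one_iff_mul_comm.mpr (mul_comm _ _), one_zpow]
      rcases hcd χ with h1 | h1 <;> rw [h1] at h <;> norm_cast at h
      · exact absurd (Nat.eq_one_of_mul_eq_one_left h.symm) hd1
      · rcases hp.out.eq_one_or_self_of_dvd d (Dvd.intro_left _ h.symm) with h2 | h2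
        · exact absurd h2 hd1
        · rw [hd, h2]
    refine ⟨fun g z h => ?_, φ, φ.2, hφ1, fun x hx => ?_⟩
    · obtain ⟨χ, hχ⟩ := exists_constituent (isCharacter_indFun B φ.2.isCharacter) (by
        rw [indFun_apply_one]
        exact mul_ne_zero (Nat.cast_ne_zero.mpr Subgroup.index_ne_zero_of_finite)
          φ.2.apply_one_ne_zero)
      have hc' : classInner (fun n : B => (χ : P → ℂ) n) (φ : B → ℂ) ≠ 0 := by
        rw [classInner_indFun B _ χ.2.isClassFunction, ← classInner_conj_symm] at hχ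
        exact fun e => hχ (by rw [e, map_zero])
      have hle := degree_le_of_constituent φ.2 (χ.2.isCharacter.comp B.subtype) hc'
      have hχ1 : (χ : P → ℂ) 1 = (p : ℂ) := by
        refine (hcd χ).resolve_left fun h1 => ?_
        change _ ≤ ((χ : P → ℂ) 1).re at hle
        rw [h1, hφ1, Complex.natCast_re, Complex.one_re] at hle
        exact absurd (by exact_mod_cast hle : p ≤ 1) (not_le.mpr hp.out.one_lt)
      have heq := eq_of_constituent_of_degree (χ.2.isCharacter.comp B.subtype) φ.2 hc' (by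
        show (χ : P → ℂ) 1 = _
        rw [hχ1, hφ1])
      have e1 := hval ⟨_, h⟩
      have e2 := hval z
      rw [← congrFun heq] at e1 e2
      change (χ : P → ℂ) (g * z * g⁻¹) = _ at e1
      change (χ : P → ℂ) z = _ at e2
      rw [χ.2.isCharacter.conj_invariant, e2] at e1
      exact Units.ext (mul_left_cancel₀ φ.2.apply_one_ne_zero e1).symm
    · -- vanishing
      obtain ⟨y, hy, hxy⟩ : ∃ y ∈ B, y * (x : P) ≠ (x : P) * y := by
        by_contra h
        push Not at h
        exact hx ⟨x.2, Subgroup.mem_centralizer_iff.mpr h⟩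
      set k : P := ⁅y, (x : P)⁆ with hk
      have hkK : k ∈ K := hBK y hy x x.2
      have hlk' : lam ⟨k, hKZ hkK⟩ ≠ 1 := by
        intro h1
        apply hlk
        obtain ⟨i, hi⟩ := Subgroup.mem_zpowers_iff.mp
          (mem_zpowers_of_prime_card (g' := (⟨k₀, hk₀⟩ : K)) (g := ⟨k, hkK⟩) hK
            fun h => hxy (commutatorElement_eq_one_iff_mul_comm.mp (congrArg Subtype.val h)))
        rw [show k₀ = (⟨k, hKZ hkK⟩ : Z) ^ i from Subtype.ext (congrArg Subtype.val hi).symm,
          map_zpow, h1, one_zpow]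
      have h2 := φ.2.isCharacter.conj_invariant x ⟨y, hy⟩
      have hex : (⟨y, hy⟩ : B) * x * (⟨y, hy⟩ : B)⁻¹ = ⟨k, hKB hkK⟩ * x :=
        Subtype.ext (by simp [hk, commutatorElement_def, mul_assoc])
      rw [hex] at h2
      have h3 : (φ : B → ℂ) (⟨k, hKB hkK⟩ * x) = (lam ⟨k, hKZ hkK⟩ : ℂ) * (φ : B → ℂ) x := by
        have h := irr_apply_central_mul φ.2 (z := (⟨k, hKB hkK⟩ : B))
          (fun g => Subtype.ext (Subgroup.mem_center_iff.mp (hKz hkK) g)) x
        have hk' := hval ⟨k, hKZ hkK⟩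
        refine mul_right_cancel₀ φ.2.apply_one_ne_zero (h.trans ?_)
        rw [show (φ : B → ℂ) ⟨k, hKB hkK⟩ = (φ : B → ℂ) 1 * (lam ⟨k, hKZ hkK⟩ : ℂ) from hk']
        ring
      rw [h3] at h2
      by_contra hne
      exact hlk' (Units.ext ((mul_eq_right₀ hne).mp h2))
  obtain ⟨a, ha, b, hb, hab⟩ : ∃ a ∈ B, ∃ b ∈ B, a * b ≠ b * a := by
    by_contra h
    push Not at h
    exact hno ⟨B, hB, hBi, h⟩
  have hk1 : (⟨⁅a, b⁆, hKZ (hBK a ha b hb)⟩ : Z) ≠ 1 := fun h =>
    hab (commutatorElement_eq_one_iff_mul_comm.mp (congrArg Subtype.val h))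
  have hZc : ∀ u v : Z, u * v = v * u := fun u v =>
    Subtype.ext (Subgroup.mem_centralizer_iff.mp v.2.2 u u.2.1)
  obtain ⟨lam₀, hlam₀⟩ : ∃ f : Z →* ℂˣ, f ⟨⁅a, b⁆, hKZ (hBK a ha b hb)⟩ ≠ 1 := by
    by_contra h
    push Not at h
    exact hk1 (eq_one_of_forall_hom hZc h)
  haveI hZn : Z.Normal := inferInstance
  have hcen : Z ≤ Subgroup.center P := by
    intro z hz
    refine mem_center_of_index_le z fun g => ?_
    have hg : g * z * g⁻¹ ∈ Z := hZn.conj_mem z hz g
    have hmem : ⁅g, z⁆ ∈ Z := mul_mem hg (inv_mem hz)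
    have h1 : (⟨⁅g, z⁆, hmem⟩ : Z) = 1 := eq_one_of_forall_hom hZc fun f => by
      have key : ∀ l : Z →* ℂˣ, (∃ k : Z, (k : P) ∈ K ∧ l k ≠ 1) →
          l ⟨⁅g, z⁆, hmem⟩ = 1 := by
        intro l hl
        rw [show (⟨⁅g, z⁆, hmem⟩ : Z) = ⟨g * z * g⁻¹, hg⟩ * (⟨z, hz⟩ : Z)⁻¹ from rfl, map_mul,
          map_inv, (hover l hl).1 g ⟨z, hz⟩ hg, mul_inv_cancel]
      by_cases hf : ∃ k : Z, (k : P) ∈ K ∧ f k ≠ 1
      · exact key f hf
      · push Not at hf
        have h2 := key (f * lam₀) ⟨⟨_, hKZ (hBK a ha b hb)⟩, hBK a ha b hb, by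
          rw [MonoidHom.mul_apply, hf _ (hBK a ha b hb), one_mul]; exact hlam₀⟩
        rw [MonoidHom.mul_apply, key lam₀ ⟨⟨_, hKZ (hBK a ha b hb)⟩, hBK a ha b hb, hlam₀⟩,
          mul_one] at h2
        exact h2
    exact congrArg Subtype.val h1
  obtain ⟨-, φ, hφ, hφ1, hvan⟩ := hover lam₀ ⟨⟨_, hKZ (hBK a ha b hb)⟩, hBK a ha b hb, hlam₀⟩
  have hBZ : Nat.card B ≤ p ^ 2 * Nat.card Z := by
    have h1 := classInner_irr_self hφ
    rw [classInner, inv_mul_eq_one₀ card_cast_ne_zero] at h1
    have h2 := congrArg Complex.re h1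
    rw [Complex.natCast_re, Complex.re_sum,
      ← Finset.sum_filter_add_sum_filter_not Finset.univ (fun x : B => (x : P) ∈ Z),
      Finset.sum_eq_zero (s := Finset.univ.filter fun x : B => (x : P) ∉ Z) (fun x hx => by
        rw [hvan x (Finset.mem_filter.mp hx).2, zero_mul, Complex.zero_re]), add_zero] at h2
    have h3 := Finset.sum_le_card_nsmul (Finset.univ.filter fun x : B => (x : P) ∈ Z)
      (fun x => (φ x * conj (φ x)).re) ((p : ℝ) ^ 2) fun x _ => by
        rw [Complex.mul_conj, Complex.ofReal_re, Complex.normSq_eq_norm_sq]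
        exact pow_le_pow_left₀ (norm_nonneg _)
          (by have := hφ.isCharacter.norm_le x; rwa [hφ1, Complex.natCast_re] at this) 2
    rw [← h2, nsmul_eq_mul] at h3
    have h4 : (Finset.univ.filter fun x : B => (x : P) ∈ Z).card ≤ Nat.card Z := by
      rw [← Nat.card_eq_finsetCard]
      exact Nat.card_le_card_of_injective (fun x => (⟨x.1, (Finset.mem_filter.mp x.2).2⟩ : Z))
        fun x y h => Subtype.ext (Subtype.ext (congrArg (fun t : Z => (t : P)) h))
    have h5 : (Nat.card B : ℝ) ≤ ((p ^ 2 * Nat.card Z : ℕ) : ℝ) := by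
      refine h3.trans ?_
      push_cast
      rw [mul_comm]
      gcongr
    exact_mod_cast h5
  obtain ⟨j, hj⟩ := hP.index (Subgroup.center P)
  have hle3 : (Subgroup.center P).index ≤ p ^ 3 := by
    have h1 := Z.card_mul_index
    have h2 := B.card_mul_index
    rw [hBi] at h2
    have h3 : Z.index ≤ p ^ 3 := by
      refine Nat.le_of_mul_le_mul_left ?_ (Nat.card_pos (α := Z))
      rw [h1, ← h2]
      calc Nat.card B * p ≤ p ^ 2 * Nat.card Z * p := Nat.mul_le_mul_right p hBZ
        _ = Nat.card Z * p ^ 3 := by ring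
    exact (Subgroup.index_antitone hcen).trans h3
  rw [hj] at hle3 ⊢
  have hj3 : j ≤ 3 := (Nat.pow_le_pow_iff_right hp.out.one_lt).mp hle3
  by_contra hne
  have hj2 : j ≤ 2 := by
    rcases Nat.lt_or_ge j 3 with h | h
    · omega
    · exact absurd (by rw [show j = 3 by omega]) hne
  -- index at most `p ^ 2` gives an abelian maximal subgroup
  have htop : Subgroup.center P ≠ ⊤ := fun h => hab (Subgroup.mem_center_iff.mp
    (h ▸ Subgroup.mem_top b) a)
  obtain ⟨M, hM, hMn, hMi⟩ := exists_index_prime hP _ htop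
  refine hno ⟨M, hMn, hMi, ?_⟩
  have hrel := Subgroup.relIndex_mul_index hM
  rw [hj, hMi] at hrel
  have hrl : (Subgroup.center P).relIndex M ∣ p := by
    have h : p ^ j ∣ p ^ 2 := pow_dvd_pow p hj2
    rw [← hrel, pow_two] at h
    exact Nat.dvd_of_mul_dvd_mul_right hp.out.pos h
  haveI : IsCyclic (↥M ⧸ (Subgroup.center P).subgroupOf M) := by
    rcases (Nat.dvd_prime hp.out).mp hrl with h | h
    · haveI : Subsingleton (↥M ⧸ (Subgroup.center P).subgroupOf M) :=
        (Nat.card_eq_one_iff_unique.mp (by rw [← Subgroup.index_eq_card]; exact h)).1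
      infer_instance
    · exact isCyclic_of_prime_card (p := p) (by rw [← Subgroup.index_eq_card]; exact h)
  intro x hx y hy
  exact congrArg Subtype.val (commutative_of_cyclic_center_quotient
    (QuotientGroup.mk' ((Subgroup.center P).subgroupOf M)) (by
      rw [QuotientGroup.ker_mk']
      intro w hw
      exact Subgroup.mem_center_iff.mpr fun v =>
        Subtype.ext (Subgroup.mem_center_iff.mp (Subgroup.mem_subgroupOf.mp hw) v))
    (⟨x, hx⟩ : M) ⟨y, hy⟩)

theorem p_group_case : ∀ (n : ℕ) {P : Type u} [Group P] [Fintype P] {p : ℕ} [Fact p.Prime],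
    Nat.card P = n → IsPGroup p P →
    (∀ χ : IrrCharacter P, (χ : P → ℂ) 1 = 1 ∨ (χ : P → ℂ) 1 = (p : ℂ)) →
    (∃ a b : P, a * b ≠ b * a) →
    (∃ B : Subgroup P, B.Normal ∧ B.index = p ∧ ∀ a ∈ B, ∀ b ∈ B, a * b = b * a) ∨
      (Subgroup.center P).index = p ^ 3 := by
  intro n
  induction n using Nat.strong_induction_on with
  | _ n ih =>
  intro P _ _ p hp hn hP hcd hna
  classical
  by_cases hno : ∃ B : Subgroup P, B.Normal ∧ B.index = p ∧ ∀ a ∈ B, ∀ b ∈ B, a * b = b * a
  · exact Or.inl hno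
  refine Or.inr ?_
  obtain ⟨a₀, b₀, hab₀⟩ := hna
  haveI : Nontrivial P := ⟨⟨a₀ * b₀, b₀ * a₀, hab₀⟩⟩
  haveI := hP.center_nontrivial
  obtain ⟨k₀, hk₀⟩ := exists_prime_orderOf_dvd_card' (G := Subgroup.center P) p (by
    obtain ⟨j, hj⟩ := IsPGroup.iff_card.mp (hP.to_subgroup (Subgroup.center P))
    rw [hj]
    refine dvd_pow_self p fun h => ?_
    rw [h, pow_zero] at hj
    exact absurd hj (Finite.one_lt_card (α := Subgroup.center P)).ne')
  let K : Subgroup P := Subgroup.zpowers (k₀ : P)
  have hK : Nat.card K = p := by rw [Nat.card_zpowers, Subgroup.orderOf_coe, hk₀]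
  have hKz : K ≤ Subgroup.center P := Subgroup.zpowers_le.mpr k₀.2
  haveI hKn : K.Normal := ⟨fun x hx g => by
    rwa [Subgroup.mem_center_iff.mp (hKz hx) g, mul_inv_cancel_right]⟩
  haveI := Fintype.ofFinite (P ⧸ K)
  have hQ : IsPGroup p (P ⧸ K) := hP.to_quotient K
  have hcdQ := degrees_of_surjective (QuotientGroup.mk' K) (QuotientGroup.mk'_surjective K) hcd
  have hlt : Nat.card (P ⧸ K) < n := by
    rw [← hn, ← K.index_eq_card, ← K.card_mul_index, hK]
    exact lt_mul_of_one_lt_left (Nat.pos_of_ne_zero Subgroup.index_ne_zero_of_finite)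
      hp.out.one_lt
  by_cases hQab : ∀ a b : P ⧸ K, a * b = b * a
  · have htop : (⊥ : Subgroup P) ≠ ⊤ := bot_ne_top
    obtain ⟨B, -, hBn, hBi⟩ := exists_index_prime hP _ htop
    refine index_center_of_maximal hP hcd hno K hK hKz B hBi fun a _ b _ => ?_
    rw [← QuotientGroup.eq_one_iff, ← QuotientGroup.mk'_apply, map_commutatorElement,
      commutatorElement_eq_one_iff_mul_comm]
    exact hQab _ _
  push Not at hQab
  rcases ih _ hlt rfl hQ hcdQ hQab with ⟨B', hB', hB'i, hB'c⟩ | hZ
  · haveI : (B'.comap (QuotientGroup.mk' K)).Normal := hB'.comap _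
    refine index_center_of_maximal hP hcd hno K hK hKz (B'.comap (QuotientGroup.mk' K)) (by
      rw [Subgroup.index_comap_of_surjective _ (QuotientGroup.mk'_surjective K), hB'i])
      fun a ha b hb => ?_
    rw [← QuotientGroup.eq_one_iff, ← QuotientGroup.mk'_apply, map_commutatorElement,
      commutatorElement_eq_one_iff_mul_comm]
    exact hB'c _ ha _ hb
  · set Y := (Subgroup.center (P ⧸ K)).comap (QuotientGroup.mk' K) with hY
    have hYi : Y.index = p ^ 3 := by
      rw [hY, Subgroup.index_comap_of_surjective _ (QuotientGroup.mk'_surjective K), hZ]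
    have hCY : Subgroup.center P ≤ Y := fun z hz => by
      rw [hY, Subgroup.mem_comap]
      refine Subgroup.mem_center_iff.mpr fun q => ?_
      obtain ⟨g, rfl⟩ := QuotientGroup.mk'_surjective K q
      rw [← map_mul, ← map_mul, Subgroup.mem_center_iff.mp hz g]
    suffices hle : Y ≤ Subgroup.center P by rw [le_antisymm hCY hle, hYi]
    intro y hy
    by_contra hyc
    have hcomm : ∀ g : P, ⁅g, y⁆ ∈ K := fun g => by
      rw [← QuotientGroup.eq_one_iff, ← QuotientGroup.mk'_apply, map_commutatorElement,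
        commutatorElement_eq_one_iff_mul_comm]
      exact Subgroup.mem_center_iff.mp hy _
    let F : P →* K :=
      { toFun := fun g => ⟨⁅g, y⁆, hcomm g⟩
        map_one' := Subtype.ext (by simp [commutatorElement_def])
        map_mul' := fun g h => Subtype.ext (by
          show ⁅g * h, y⁆ = ⁅g, y⁆ * ⁅h, y⁆
          have hc := Subgroup.mem_center_iff.mp (hKz (hcomm h))
          calc ⁅g * h, y⁆ = g * ⁅h, y⁆ * y * g⁻¹ * y⁻¹ := by
                simp [commutatorElement_def, mul_assoc]
            _ = ⁅h, y⁆ * ⁅g, y⁆ := by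
                rw [hc g]; simp [commutatorElement_def, mul_assoc]
            _ = ⁅g, y⁆ * ⁅h, y⁆ := (hc _).symm) }
    have hFs : F.range = ⊤ := by
      refine (Subgroup.eq_bot_or_eq_top_of_prime_card (hp := ⟨hK ▸ hp.out⟩) F.range).resolve_left
        fun hb => hyc (mem_center_of_index_le y fun g => ?_)
      have h1 : F g ∈ F.range := ⟨g, rfl⟩
      rw [hb, Subgroup.mem_bot] at h1
      exact congrArg Subtype.val h1
    set M := F.ker with hM
    have hMi : M.index = p := by rw [hM, Subgroup.index_ker, hFs, Subgroup.card_top, hK]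
    haveI := Fintype.ofFinite M
    have hyM : y ∈ M := by
      rw [hM, MonoidHom.mem_ker]
      exact Subtype.ext (commutatorElement_self y)
    refine hno ⟨M, inferInstance, hMi, fun u hu v hv => ?_⟩
    rw [← commutatorElement_eq_one_iff_mul_comm]
    obtain ⟨k, hk1⟩ : ∃ k : K, k ≠ 1 := by
      haveI : Nontrivial K := Finite.one_lt_card_iff_nontrivial.mp (hK.symm ▸ hp.out.one_lt)
      exact exists_ne 1
    obtain ⟨g, hg⟩ : ∃ g, F g = k := (hFs.symm ▸ Subgroup.mem_top k : k ∈ F.range)
    have hgy : g * y * g⁻¹ = (k : P) * y := by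
      rw [← congrArg Subtype.val hg]
      simp [F, commutatorElement_def, mul_assoc]
    set w := ⁅u, v⁆ with hw
    by_contra hw1
    have hterm : ∀ χ : IrrCharacter P,
        (χ : P → ℂ) 1 * ((χ : P → ℂ) w - (χ : P → ℂ) (w * k)) =
        (χ : P → ℂ) 1 * ((χ : P → ℂ) 1 - (χ : P → ℂ) k) := by
      intro χ
      obtain ⟨c, hc⟩ : ∃ c : ℂ, ∀ x, (χ : P → ℂ) (k * x) = c * (χ : P → ℂ) x :=
        exists_scalar χ.2 (Subgroup.mem_center_iff.mp (hKz k.2))
      by_cases hc1 : c = 1
      · have h1 : ∀ x, (χ : P → ℂ) (k * x) = (χ : P → ℂ) x := fun x => by rw [hc, hc1, one_mul]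
        have := h1 1
        rw [mul_one] at this
        rw [this]
        have h2 : (χ : P → ℂ) (w * (k : P)) = (χ : P → ℂ) w := by
          rw [Subgroup.mem_center_iff.mp (hKz k.2) w, h1]
        rw [h2, sub_self, sub_self]
      have hy0 : (χ : P → ℂ) y = 0 := by
        have h1 := χ.2.isCharacter.conj_invariant y g
        rw [hgy, hc] at h1
        by_contra h0
        exact hc1 ((mul_eq_right₀ h0).mp h1)
      have hwχ : (χ : P → ℂ) w = (χ : P → ℂ) 1 := by
        have hlin : ∀ θ : IrrCharacter M, (θ : M → ℂ) 1 = 1 ∨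
            ∀ [Fintype M], classInner (fun m : M => (χ : P → ℂ) m) (θ : M → ℂ) = 0 := by
          intro θ
          by_cases h1 : (θ : M → ℂ) 1 = 1
          · exact Or.inl h1
          refine Or.inr ?_
          intro _
          by_contra hne
          obtain ⟨d, hd⟩ := θ.2.isCharacter.exists_degree
          obtain ⟨i, hi⟩ := IsPGroup.iff_card.mp (hP.to_subgroup M)
          obtain ⟨l, -, hl⟩ := (Nat.dvd_prime_pow hp.out).mp (hi ▸ degree_dvd_card θ.2 hd)
          have hle := degree_le_of_constituent θ.2 (χ.2.isCharacter.comp M.subtype) hne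
          change _ ≤ ((χ : P → ℂ) 1).re at hle
          have hl0 : l ≠ 0 := by rintro rfl; exact h1 (by rw [hd, hl, pow_zero, Nat.cast_one])
          have hpd : p ≤ d := hl ▸ Nat.le_self_pow hl0 p
          rcases hcd χ with h | h <;> rw [h, hd] at hle
          · rw [Complex.natCast_re, Complex.one_re] at hle
            have : d ≤ 1 := by exact_mod_cast hle
            exact absurd (hpd.trans this) (not_le.mpr hp.out.one_lt)
          · rw [Complex.natCast_re, Complex.natCast_re] at hle
            have hdp : d = p := le_antisymm (by exact_mod_cast hle) hpd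
            have heq := eq_of_constituent_of_degree (χ.2.isCharacter.comp M.subtype) θ.2 hne (by
              show (χ : P → ℂ) 1 = _
              rw [h, hd, hdp])
            obtain ⟨c', hc'⟩ := exists_scalar θ.2 (z := (⟨y, hyM⟩ : M)) fun x => by
              apply Subtype.ext
              have := congrArg Subtype.val (MonoidHom.mem_ker.mp x.2)
              exact commutatorElement_eq_one_iff_mul_comm.mp this
            have e1 := hc' 1
            rw [mul_one, ← congrFun heq] at e1
            change (χ : P → ℂ) y = _ at e1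
            rw [hy0] at e1
            have e2 := hc' (⟨y, hyM⟩ : M)⁻¹
            rw [mul_inv_cancel] at e2
            rcases mul_eq_zero.mp e1.symm with h0 | h0
            · rw [h0, zero_mul] at e2
              exact θ.2.apply_one_ne_zero e2
            · exact θ.2.apply_one_ne_zero h0
        have h := (χ.2.isCharacter.comp M.subtype).commutator_mem_ker hlin ⟨u, hu⟩ ⟨v, hv⟩
        exact h
      have h2 : (χ : P → ℂ) (w * (k : P)) = (χ : P → ℂ) (k : P) := by
        have e := hc 1
        rw [mul_one] at e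
        rw [Subgroup.mem_center_iff.mp (hKz k.2) w, hc, hwχ, e]
      rw [h2, hwχ]
    have hsum := Finset.sum_congr rfl (fun χ (_ : χ ∈ Finset.univ) => hterm χ)
    simp only [mul_sub, Finset.sum_sub_distrib] at hsum
    rw [sum_degree_mul, sum_degree_mul, sum_degree_mul, sum_degree_mul, if_neg hw1,
      if_pos rfl, if_neg (show (k : P) ≠ 1 from fun h => hk1 (Subtype.ext h))] at hsum
    have hc := card_cast_ne_zero (G := P)
    split_ifs at hsum
    · refine hc ?_
      linear_combination (-1 / 2 : ℂ) * hsum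
    · refine hc ?_
      linear_combination -hsum


/-- Let G be a non-abelian finite group and p a prime. Then the irreducible character degrees of G are exactly 1 and p if and only if either G has an abelian normal subgroup of index p or the centre of G has index p³. -/
theorem result {G : Type*} [Group G] [Finite G] (hG : ∃ a b : G, a * b ≠ b * a) (p : ℕ) (hp : p.Prime) : ((∀ χ : Cfsg.IrrCharacter G, Cfsg.charDegree (χ : G → ℂ) = 1 ∨ Cfsg.charDegree (χ : G → ℂ) = p) ∧ ∃ χ : Cfsg.IrrCharacter G, Cfsg.charDegree (χ : G → ℂ) = p) ↔ ((∃ A : Subgroup G, A.Normal ∧ (∀ a ∈ A, ∀ b ∈ A, a * b = b * a) ∧ A.index = p) ∨ (Subgroup.center G).index = p ^ 3) := by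
  classical
  haveI := Fintype.ofFinite G
  haveI := Fact.mk hp
  constructor
  · rintro ⟨hcd, χ₀, hχ₀⟩
    have hcd' : ∀ χ : IrrCharacter G, (χ : G → ℂ) 1 = 1 ∨ (χ : G → ℂ) 1 = (p : ℂ) := fun χ => by
      rw [χ.2.apply_one_eq_charDegree]
      exact_mod_cast hcd χ
    rcases two_degree_structure hp.one_lt hcd'
        ⟨χ₀, by rw [χ₀.2.apply_one_eq_charDegree, hχ₀]⟩ with
      ⟨N, hN, hNc, hNi, -⟩ | ⟨q, e, hq, hpe, P, A, hP, hA, hPp, hAc, hAz, hinf, hsup⟩
    · exact Or.inl ⟨N, hN, hNc, hNi⟩
    obtain rfl : q = p := (Nat.prime_dvd_prime_iff_eq hq hp).mp (hpe ▸ dvd_pow_self q (by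
      rintro rfl; rw [pow_zero] at hpe; exact hp.one_lt.ne' hpe))
    haveI := hA
    haveI := hP
    haveI := Fintype.ofFinite P
    obtain ⟨π, hπs, hπ, hπA⟩ := exists_projection A P hinf hsup
    have hsplit : ∀ x : G, ∃ a ∈ Subgroup.center G, x = a * (π x : G) := fun x =>
      ⟨_, hAz (hπA x), (inv_mul_cancel_right _ _).symm⟩
    have hcomm : ∀ x y : G, π x * π y = π y * π x → x * y = y * x := by
      intro x y h
      obtain ⟨a, ha, hax⟩ := hsplit x
      obtain ⟨b, hb, hby⟩ := hsplit y
      have ca : ∀ g, Commute a g := fun g => (Subgroup.mem_center_iff.mp ha g).symm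
      have cb : ∀ g, Commute b g := fun g => (Subgroup.mem_center_iff.mp hb g).symm
      have h' : Commute (π x : G) (π y : G) := congrArg Subtype.val h
      have := ((ca b).mul_right (ca _)).mul_left ((cb (π x : G)).symm.mul_right h')
      rw [← hax, ← hby] at this
      exact this.eq
    have hPna : ∃ a b : P, a * b ≠ b * a := by
      obtain ⟨a, b, hab⟩ := hG
      exact ⟨π a, π b, fun h => hab (hcomm a b h)⟩
    rcases p_group_case _ rfl hPp (degrees_of_surjective π hπs hcd') hPna with
      ⟨B, hB, hBi, hBc⟩ | hZ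
    · exact Or.inl ⟨B.comap π, hB.comap π, fun a ha b hb => hcomm a b (hBc _ ha _ hb),
        by rw [Subgroup.index_comap_of_surjective _ hπs, hBi]⟩
    · refine Or.inr ?_
      rw [← hZ, ← Subgroup.index_comap_of_surjective _ hπs]
      congr 1
      refine le_antisymm (fun x hx => ?_) fun x hx => ?_
      · rw [Subgroup.mem_comap]
        refine Subgroup.mem_center_iff.mpr fun s => ?_
        obtain ⟨y, rfl⟩ := hπs s
        rw [← map_mul, ← map_mul, Subgroup.mem_center_iff.mp hx y]
      · exact Subgroup.mem_center_iff.mpr fun y =>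
          hcomm y x (Subgroup.mem_center_iff.mp hx (π y))
  · intro h
    have key : ∀ χ : IrrCharacter G,
        Cfsg.charDegree (χ : G → ℂ) = 1 ∨ Cfsg.charDegree (χ : G → ℂ) = p := by
      intro χ
      have hd := χ.2.apply_one_eq_charDegree
      rcases h with ⟨A, hA, hAc, hAi⟩ | hZ
      · haveI := hA
        exact (Nat.dvd_prime hp).mp (hAi ▸ degree_dvd_index_of_comm A hAc χ.2 hd)
      · have hnorm : ∀ n ∈ Subgroup.center G, ‖(χ : G → ℂ) n‖ = ((χ : G → ℂ) 1).re :=
          fun n hn => norm_central χ.2 fun g => Subgroup.mem_center_iff.mp hn g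
        have hdvd := hZ ▸ degree_dvd_index_of_scalar (Subgroup.center G) χ.2 hnorm hd
        obtain ⟨i, hi3, hi⟩ := (Nat.dvd_prime_pow hp).mp hdvd
        have hsq : Cfsg.charDegree (χ : G → ℂ) ^ 2 * Nat.card (Subgroup.center G) ≤ Nat.card G := by
          have h1 := classInner_irr_self χ.2
          rw [classInner, inv_mul_eq_one₀ card_cast_ne_zero] at h1
          have h2 := congrArg Complex.re h1
          rw [Complex.natCast_re, Complex.re_sum] at h2
          have h3 : ∑ x ∈ Finset.univ.filter (fun x : G => x ∈ Subgroup.center G),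
              ((Cfsg.charDegree (χ : G → ℂ) : ℝ) ^ 2) ≤ (Nat.card G : ℝ) := by
            rw [h2]
            refine le_trans (Finset.sum_le_sum fun x hx => ?_)
              (Finset.sum_le_sum_of_subset_of_nonneg (Finset.subset_univ _) fun x _ _ => ?_)
            · rw [Complex.mul_conj, Complex.ofReal_re, Complex.normSq_eq_norm_sq,
                hnorm x (Finset.mem_filter.mp hx).2, hd, Complex.natCast_re]
            · rw [Complex.mul_conj, Complex.ofReal_re]
              exact Complex.normSq_nonneg _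
          rw [Finset.sum_const, nsmul_eq_mul, mul_comm] at h3
          have h4 : (Finset.univ.filter fun x : G => x ∈ Subgroup.center G).card
              = Nat.card (Subgroup.center G) := by
            rw [← Nat.card_eq_finsetCard]
            exact Nat.card_congr (Equiv.subtypeEquivRight (by simp))
          rw [h4] at h3
          exact_mod_cast h3
        rw [← (Subgroup.center G).card_mul_index, hZ, mul_comm (Nat.card _), hi, ← pow_mul] at hsq
        have := (Nat.pow_le_pow_iff_right hp.one_lt).mp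
          (Nat.le_of_mul_le_mul_right hsq Nat.card_pos)
        rw [hi]
        rcases Nat.lt_or_ge i 1 with h0 | h0
        · exact Or.inl (by rw [show i = 0 by omega, pow_zero])
        · exact Or.inr (by rw [show i = 1 by omega, pow_one])
    refine ⟨key, ?_⟩
    by_contra hall
    push Not at hall
    obtain ⟨a, b, hab⟩ := hG
    refine hab (comm_iff_all_linear.mpr (fun χ => ?_) a b)
    rw [χ.2.apply_one_eq_charDegree, (key χ).resolve_right (hall χ), Nat.cast_one]


end Cfsg.Agent.S4459
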