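import Cfsg.Statements.S4460
import Cfsg.Agent.Lib.Char.ThreeDegrees

set_option autoImplicit false
open Cfsg

namespace Cfsg.Agent.S4460

/-- A finite group with exactly three distinct irreducible character degrees is solvable of derived length at most 3: its third derived subgroup is trivial. -/
theorem result {G : Type*} [Group G] [Finite G] (hcd : Nat.card {n : ℕ // ∃ χ : Cfsg.IrrCharacter G, Cfsg.charDegree (χ : G → ℂ) = n} = 3) : derivedSeries G 3 = ⊥ := by
  classical
  haveI := Fintype.ofFinite G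
  set S : Set ℕ := {d | ∃ χ : Cfsg.IrrCharacter G, Cfsg.charDegree (χ : G → ℂ) = d} with hS
  have hcard : S.ncard = 3 := by rw [← Nat.card_coe_set_eq]; exact hcd
  obtain ⟨x, y, z, -, -, -, hxyz⟩ := Set.ncard_eq_three.1 hcard
  have hmem : ∀ χ : Cfsg.IrrCharacter G, Cfsg.charDegree (χ : G → ℂ) = x ∨
      Cfsg.charDegree (χ : G → ℂ) = y ∨ Cfsg.charDegree (χ : G → ℂ) = z := fun χ => by
    have : Cfsg.charDegree (χ : G → ℂ) ∈ S := ⟨χ, rfl⟩
    rw [hxyz] at this
    simpa using this
  have hone : (1 : ℕ) = x ∨ 1 = y ∨ 1 = z := by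
    have h := hmem ⟨fun _ => 1, Cfsg.Lib.Char.isIrrCharacter_one⟩
    simpa [Cfsg.charDegree] using h
  rcases hone with rfl | rfl | rfl
  · exact Cfsg.Lib.Char.derivedSeries_three_eq_bot _ G y z rfl hmem
  · exact Cfsg.Lib.Char.derivedSeries_three_eq_bot _ G x z rfl fun χ => or_left_comm.1 (hmem χ)
  · exact Cfsg.Lib.Char.derivedSeries_three_eq_bot _ G x y rfl fun χ => (or_assoc.2 (hmem χ)).symm

end Cfsg.Agent.S4460
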