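import Cfsg.Statements.S4464
import Cfsg.Agent.Lib.Block.SmallFixed
import Cfsg.Agent.Lib.Char.Constituents
import Cfsg.Agent.Lib.Char.Formulas
import Cfsg.Agent.Lib.Char.Subconstituents
import Cfsg.Agent.Lib.Char.Quotient
import Cfsg.Agent.Lib.Char.Clifford

set_option autoImplicit false
open Cfsg Cfsg.Lib.Char
open scoped ComplexConjugate Pointwise

namespace Cfsg.Agent.S4464

universe u

/-- A nontrivial irreducible character of degree below the order of a TI Sylow subgroup has no
trivial constituent on the normalizer. -/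
theorem res_one_eq_zero {G : Type u} [Group G] [Fintype G] {p : ℕ} [Fact p.Prime] (P : Sylow p G)
    (hTI : ∀ g : G, g ∉ Subgroup.normalizer ((P : Subgroup G) : Set G) →
      (P : Subgroup G) ⊓ (MulAut.conj g • (P : Subgroup G)) = ⊥)
    (H : Subgroup G) [Fintype H] (hH : Subgroup.normalizer ((P : Subgroup G) : Set G) ≤ H)
    (φ : IrrCharacter G) (hne : (φ : G → ℂ) ≠ fun _ => 1)
    (hlt : charDegree (φ : G → ℂ) < Nat.card (P : Subgroup G)) :
    classInner (fun h : H => (φ : G → ℂ) h) (fun _ => (1 : ℂ)) = 0 := by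
  classical
  obtain ⟨n, ρ, hρ, hρφ⟩ := φ.2
  have hn : Module.finrank ℂ (Fin n → ℂ) < Nat.card ↥(P : Subgroup G) := by
    have : charDegree (φ : G → ℂ) = Module.finrank ℂ (Fin n → ℂ) := by
      unfold charDegree
      rw [← hρφ, Representation.char_one]
      simp
    omega
  have hnofix : ∀ v : Fin n → ℂ, (∀ g : G, ρ g v = v) → v = 0 := by
    intro v hv
    by_contra hv0
    apply hne
    have hirr := (isIrreducible_iff_submodule ρ).mp hρ
    have htop : Submodule.span ℂ {v} = ⊤ := by
      refine (hirr.2 _ fun g x hx => ?_).resolve_left ?_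
      · obtain ⟨a, rfl⟩ := Submodule.mem_span_singleton.mp hx
        rw [map_smul, hv g]
        exact Submodule.mem_span_singleton.mpr ⟨a, rfl⟩
      · rwa [Submodule.span_singleton_eq_bot]
    have hid : ∀ g : G, ρ g = 1 := fun g => LinearMap.ext fun x => by
      obtain ⟨a, rfl⟩ := Submodule.mem_span_singleton.mp
        (htop ▸ Submodule.mem_top : x ∈ Submodule.span ℂ {v})
      rw [map_smul, hv g]; rfl
    have h1 : Module.finrank ℂ (Fin n → ℂ) = 1 := by
      have := finrank_span_singleton (K := ℂ) hv0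
      rwa [htop, finrank_top] at this
    funext g
    rw [← hρφ]
    show LinearMap.trace ℂ _ (ρ g) = 1
    rw [hid, LinearMap.trace_one, h1, Nat.cast_one]
  have hop : ∑ h : ↥H, ρ (h : G) = 0 := by
    refine LinearMap.ext fun v => ?_
    rw [LinearMap.sum_apply, LinearMap.zero_apply]
    refine Cfsg.Lib.Block.eq_zero_of_small_fixed ρ P hTI H hH hn hnofix fun a ha => ?_
    rw [map_sum]
    refine Fintype.sum_equiv (Equiv.mulLeft (⟨a, ha⟩ : ↥H)) _ _ fun h => ?_
    simp only [Equiv.coe_mulLeft, Subgroup.coe_mul]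
    rw [map_mul, Module.End.mul_apply]
  rw [classInner_one_right, ← hρφ]
  show _ * ∑ h : ↥H, LinearMap.trace ℂ _ (ρ (h : G)) = 0
  rw [← map_sum, hop, map_zero, mul_zero]

/-- Small degrees force a normal Sylow subgroup. -/
theorem sylow_normal : ∀ (n : ℕ) {G : Type u} [Group G] [Finite G] {p : ℕ} [Fact p.Prime],
    Nat.card G = n → (∀ χ : IrrCharacter G, charDegree (χ : G → ℂ) < p) → ∀ P : Sylow p G,
      (P : Subgroup G).Normal ∧ ∀ x ∈ (P : Subgroup G), ∀ y ∈ (P : Subgroup G), x * y = y * x := by
  intro n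
  induction n using Nat.strong_induction_on with
  | _ n ih =>
  intro G _ _ p hp hn hb
  classical
  haveI := Fintype.ofFinite G
  subst hn
  have hres : ∀ (H : Subgroup G) (θ : IrrCharacter H), charDegree (θ : H → ℂ) < p := by
    intro H θ
    haveI := Fintype.ofFinite H
    obtain ⟨χ, hχ⟩ := exists_constituent (isCharacter_indFun H θ.2.isCharacter) (by
      rw [indFun_apply_one]
      exact mul_ne_zero (Nat.cast_ne_zero.mpr Subgroup.index_ne_zero_of_finite)
        θ.2.apply_one_ne_zero)
    have hc : classInner (fun x : H => (χ : G → ℂ) x) (θ : H → ℂ) ≠ 0 := by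
      rw [classInner_indFun H _ χ.2.isClassFunction, ← classInner_conj_symm] at hχ
      exact fun e => hχ (by rw [e, map_zero])
    have hle := degree_le_of_constituent θ.2 (χ.2.isCharacter.comp H.subtype) hc
    change _ ≤ ((χ : G → ℂ) 1).re at hle
    rw [θ.2.apply_one_eq_charDegree, χ.2.apply_one_eq_charDegree, Complex.natCast_re,
      Complex.natCast_re, Nat.cast_le] at hle
    exact hle.trans_lt (hb χ)
  intro P
  -- Sylow subgroups are abelian
  have habel : ∀ Q : Sylow p G, ∀ x ∈ (Q : Subgroup G), ∀ y ∈ (Q : Subgroup G), x * y = y * x := by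
    intro Q x hx y hy
    haveI := Fintype.ofFinite (Q : Subgroup G)
    refine congrArg Subtype.val (comm_iff_all_linear.mpr (fun θ => ?_)
      (⟨x, hx⟩ : (Q : Subgroup G)) ⟨y, hy⟩)
    obtain ⟨i, hi⟩ := IsPGroup.iff_card.mp Q.isPGroup'
    obtain ⟨l, -, hl⟩ := (Nat.dvd_prime_pow hp.out).mp (hi ▸ charDegree_dvd_card θ.2)
    rcases Nat.eq_zero_or_pos l with rfl | hl0
    · rw [θ.2.apply_one_eq_charDegree, hl, pow_zero, Nat.cast_one]
    · exact absurd (hl ▸ hres _ θ) (not_lt.mpr (Nat.le_self_pow (by omega) p))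
  refine ⟨?_, habel P⟩
  by_cases hTI : ∀ g : G, g ∉ Subgroup.normalizer ((P : Subgroup G) : Set G) →
      (P : Subgroup G) ⊓ (MulAut.conj g • (P : Subgroup G)) = ⊥
  · -- the permutation character on the normalizer is trivial
    rcases eq_or_ne (P : Subgroup G) ⊥ with hP | hP
    · rw [hP]; infer_instance
    have hcard : p ≤ Nat.card (P : Subgroup G) := by
      obtain ⟨i, hi⟩ := IsPGroup.iff_card.mp P.isPGroup'
      rw [hi]
      refine Nat.le_self_pow (fun h => hP ?_) p
      rw [h, pow_zero] at hi
      exact Subgroup.eq_bot_of_card_eq _ hi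
    set H := Subgroup.normalizer ((P : Subgroup G) : Set G) with hH
    haveI := Fintype.ofFinite H
    set π := indFun H (fun _ => (1 : ℂ)) with hπ
    have hπc : IsCharacter G π := isCharacter_indFun H (isCharacter_one : IsCharacter H fun _ => 1)
    let one : IrrCharacter G := ⟨fun _ => 1, isIrrCharacter_one⟩
    have hone : classInner π (one : G → ℂ) = 1 := by
      rw [hπ, classInner_indFun H _ one.2.isClassFunction]
      exact classInner_irr_self (isIrrCharacter_one : IsIrrCharacter H fun _ => 1)
    have hzero : ∀ φ : IrrCharacter G, φ ≠ one → classInner π (φ : G → ℂ) = 0 := by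
      intro φ hne
      rw [hπ, classInner_indFun H _ φ.2.isClassFunction, ← classInner_conj_symm,
        res_one_eq_zero P hTI H le_rfl φ (fun h => hne (Subtype.ext h)) ((hb φ).trans_le hcard),
        map_zero]
    have h1 := congrFun (eq_sum_classInner (f := π) hπc.isClassFunction) 1
    rw [Finset.sum_apply, Finset.sum_eq_single one (fun φ _ hne => by
      rw [Pi.smul_apply, hzero φ hne, zero_smul]) (fun h => absurd (Finset.mem_univ _) h),
      Pi.smul_apply, hone, one_smul, hπ, indFun_apply_one, mul_one] at h1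
    have htop : H = ⊤ := Subgroup.index_eq_one.mp (Nat.cast_eq_one.mp h1)
    exact Subgroup.normalizer_eq_top_iff.mp htop
  · push Not at hTI
    obtain ⟨g, hg, hne⟩ := hTI
    obtain ⟨z, hz, hz1⟩ : ∃ z ∈ (P : Subgroup G) ⊓ (MulAut.conj g • (P : Subgroup G)), z ≠ 1 := by
      by_contra h
      push Not at h
      exact hne (eq_bot_iff.mpr fun z hz => Subgroup.mem_bot.mpr (h z hz))
    have hPC : (P : Subgroup G) ≤ Subgroup.centralizer {z} := fun x hx =>
      Subgroup.mem_centralizer_singleton_iff.mpr (habel P x hx z hz.1)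
    have hQC : ((g • P : Sylow p G) : Subgroup G) ≤ Subgroup.centralizer {z} := fun x hx =>
      Subgroup.mem_centralizer_singleton_iff.mpr
        (habel (g • P) x hx z (by rw [Sylow.coe_subgroup_smul]; exact hz.2))
    by_cases htop : Subgroup.centralizer {z} = ⊤
    · -- a central subgroup of `P`
      let Z : Subgroup G := Subgroup.zpowers z
      have hZc : Z ≤ Subgroup.center G := Subgroup.zpowers_le.mpr (Subgroup.mem_center_iff.mpr
        fun x => Subgroup.mem_centralizer_singleton_iff.mp (htop ▸ Subgroup.mem_top x))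
      have hZP : Z ≤ (P : Subgroup G) := Subgroup.zpowers_le.mpr hz.1
      haveI : Z.Normal := ⟨fun x hx g => by
        rwa [Subgroup.mem_center_iff.mp (hZc hx) g, mul_inv_cancel_right]⟩
      have hlt : Nat.card (G ⧸ Z) < Nat.card G := by
        rw [← Z.index_eq_card, ← Z.card_mul_index]
        refine lt_mul_of_one_lt_left (Nat.pos_of_ne_zero Subgroup.index_ne_zero_of_finite) ?_
        by_contra h
        exact hz1 (Subgroup.mem_bot.mp (Subgroup.eq_bot_of_card_le Z (not_lt.mp h) ▸
          Subgroup.mem_zpowers z))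
      haveI := Fintype.ofFinite (G ⧸ Z)
      have hbQ : ∀ φ : IrrCharacter (G ⧸ Z), charDegree (φ : G ⧸ Z → ℂ) < p := by
        intro φ
        have h := hb ⟨_, isIrrCharacter_inflate Z φ.2⟩
        have h2 : charDegree (fun x : G => (φ : G ⧸ Z → ℂ) x) = charDegree (φ : G ⧸ Z → ℂ) := by
          unfold charDegree; rfl
        rwa [h2] at h
      have hN := (ih _ hlt rfl hbQ (P.mapSurjective (QuotientGroup.mk'_surjective Z))).1
      rw [Sylow.coe_mapSurjective] at hN
      have := hN.comap (QuotientGroup.mk' Z)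
      rwa [Subgroup.comap_map_eq_self (by rw [QuotientGroup.ker_mk']; exact hZP)] at this
    · exfalso
      have hlt : Nat.card (Subgroup.centralizer ({z} : Set G)) < Nat.card G :=
        lt_of_le_of_ne (Nat.le_of_dvd Nat.card_pos (Subgroup.card_subgroup_dvd_card _))
          fun h => htop (Subgroup.eq_top_of_card_eq _ h)
      have hN : ((P.subtype hPC : Sylow p (Subgroup.centralizer ({z} : Set G))) : Subgroup (Subgroup.centralizer ({z} : Set G))).Normal :=
        (ih _ hlt rfl (hres _) (P.subtype hPC)).1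
      haveI := Sylow.unique_of_normal (P.subtype hPC) hN
      have heq : P.subtype hPC = (g • P).subtype hQC := Subsingleton.elim _ _
      exact hg (Sylow.smul_eq_iff_mem_normalizer.mp (Sylow.subtype_injective heq).symm)

/-- Let p be a prime and G a finite group all of whose irreducible character degrees are less than p. Then G has a normal abelian Sylow p-subgroup. -/
theorem result {G : Type*} [Group G] [Finite G] (p : ℕ) (hp : p.Prime) (hb : ∀ χ : Cfsg.IrrCharacter G, Cfsg.charDegree (χ : G → ℂ) < p) : ∃ P : Subgroup G, P.Normal ∧ (∀ x ∈ P, ∀ y ∈ P, x * y = y * x) ∧ IsPGroup p P ∧ ¬ p ∣ P.index := by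
  haveI := Fact.mk hp
  obtain ⟨P⟩ := (inferInstance : Nonempty (Sylow p G))
  obtain ⟨h1, h2⟩ := sylow_normal _ rfl hb P
  exact ⟨P, h1, h2, P.isPGroup', P.not_dvd_index⟩

end Cfsg.Agent.S4464
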