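import Cfsg.Statements.S4465
import Cfsg.Agent.Lib.Block.LargePrimeHall

set_option autoImplicit false
open Cfsg

namespace Cfsg.Agent.S4465

universe u

open Cfsg.Lib Cfsg.Lib.Block in
open scoped Pointwise in
theorem hall_aux (n : ℕ) : ∀ (N : ℕ) {G : Type u} [Group G] [Finite G], Nat.card G = N →
    ∀ χ : G → ℂ, IsCharacter G χ → χ 1 = n → (∀ g : G, χ g = χ 1 → g = 1) →
    ∃ A : Subgroup G, (∀ q : ℕ, q.Prime → q ∣ Nat.card A → n + 1 < q) ∧
      ∀ q : ℕ, q.Prime → q ∣ A.index → q ≤ n + 1 := by
  intro N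
  induction N using Nat.strong_induction_on with
  | _ N ih =>
  intro G _ _ hN χ hχ hn hfaith
  classical
  haveI := Fintype.ofFinite G
  -- proper subgroups by induction
  have hsub : ∀ H : Subgroup G, H ≠ ⊤ → ∃ A : Subgroup H,
      (∀ q : ℕ, q.Prime → q ∣ Nat.card A → n + 1 < q) ∧
        ∀ q : ℕ, q.Prime → q ∣ A.index → q ≤ n + 1 := by
    intro H hH
    have hlt : Nat.card H < N := by
      rw [← hN]
      exact lt_of_le_of_ne (Nat.le_of_dvd Nat.card_pos H.card_subgroup_dvd_card)
        fun h => hH (H.eq_top_of_card_eq h)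
    exact ih _ hlt rfl (fun h : H => χ h) (hχ.comp H.subtype) hn
      fun h hh => Subtype.ext (hfaith h hh)
  have hdone : ∀ H : Subgroup G, H ≠ ⊤ → (∀ q : ℕ, q.Prime → n + 1 < q → ¬ q ∣ H.index) →
      ∃ A : Subgroup G, (∀ q : ℕ, q.Prime → q ∣ Nat.card A → n + 1 < q) ∧
        ∀ q : ℕ, q.Prime → q ∣ A.index → q ≤ n + 1 := by
    intro H hH hidx
    obtain ⟨A, hA1, hA2⟩ := hsub H hH
    refine ⟨A.map H.subtype, fun q hq hd => hA1 q hq ?_, fun q hq hd => ?_⟩
    · rwa [Subgroup.card_map_of_injective H.subtype_injective] at hd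
    · rw [Subgroup.index_map_subtype] at hd
      rcases hq.dvd_mul.1 hd with h | h
      · exact hA2 q hq h
      · by_contra hc
        exact hidx q hq (by omega) h
  by_cases hdiv : ∃ p : ℕ, p.Prime ∧ n + 1 < p ∧ p ∣ Nat.card G
  swap
  · refine ⟨⊥, fun q hq hd => ?_, fun q hq hd => ?_⟩
    · rw [Subgroup.card_bot] at hd
      exact absurd hd hq.not_dvd_one
    · rw [Subgroup.index_bot] at hd
      by_contra hc
      exact hdiv ⟨q, hq, by omega, hd⟩
  by_cases hcen : ∃ p : ℕ, p.Prime ∧ n + 1 < p ∧ ∃ z ∈ Subgroup.center G, orderOf z = p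
  · -- a central element of large prime order
    obtain ⟨p, hp, hpn, z, hz, hzp⟩ := hcen
    haveI := Fact.mk hp
    obtain ⟨M, hMn, hzM, hMreg⟩ := exists_normal_of_central hχ hn hpn hfaith hz hzp
    obtain ⟨B, hB1, hB2⟩ := hsub M fun h => hzM (h ▸ Subgroup.mem_top z)
    set B' := B.map M.subtype with hB'
    have hB'card : Nat.card B' = Nat.card B :=
      Subgroup.card_map_of_injective M.subtype_injective
    have hB'idx : B'.index = B.index * M.index := Subgroup.index_map_subtype B
    have hB'comm := comm_of_large_primes hχ hfaith hn B' (fun q hq hd => hB1 q hq (hB'card ▸ hd))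
    have hMidx : ∀ q : ℕ, q.Prime → q ≠ p → ¬ q ∣ M.index := by
      intro q hq hqp hd
      haveI := Fact.mk hq
      haveI := hMn
      obtain ⟨gb, hgb⟩ := exists_prime_orderOf_dvd_card' (G := G ⧸ M) q hd
      obtain ⟨g, rfl⟩ := QuotientGroup.mk'_surjective M gb
      obtain ⟨k, hk⟩ := exists_orderOf_pPt (p := p) g
      have hreg := hMreg _ (not_dvd_orderOf_pReg (p := p) g)
      have he : QuotientGroup.mk' M g = QuotientGroup.mk' M (pPt p g) := by
        conv_lhs => rw [← pPt_mul_pReg (p := p) g]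
        rw [map_mul, (QuotientGroup.eq_one_iff _).2 hreg |> fun h =>
          (show QuotientGroup.mk' M (pReg p g) = 1 from h), mul_one]
      rw [he] at hgb
      have h1 := orderOf_map_dvd (QuotientGroup.mk' M) (pPt p g)
      rw [hgb, hk] at h1
      exact hqp ((Nat.prime_dvd_prime_iff_eq hq hp).1 (hq.dvd_of_dvd_pow h1))
    -- every Sylow subgroup for another large prime is central
    by_cases hall : ∀ q : ℕ, q.Prime → n + 1 < q → q ≠ p → ∀ Q : Sylow q G,
        (Q : Subgroup G) ≤ Subgroup.center G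
    · obtain ⟨P⟩ := Sylow.nonempty (p := p) (G := G)
      let K : Subgroup G :=
        { carrier := {c | c ∈ Subgroup.center G ∧ ∀ r : ℕ, r.Prime → r ∣ orderOf c → n + 1 < r}
          one_mem' := ⟨one_mem _, fun r hr h => absurd (orderOf_one (G := G) ▸ h) hr.not_dvd_one⟩
          mul_mem' := fun {a b} ha hb => ⟨mul_mem ha.1 hb.1, fun r hr h => by
            have hc : Commute a b := (Subgroup.mem_center_iff.1 ha.1 b).symm
            rcases hr.dvd_mul.1 (h.trans hc.orderOf_mul_dvd_mul_orderOf) with h | h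
            · exact ha.2 r hr h
            · exact hb.2 r hr h⟩
          inv_mem' := fun {a} ha => ⟨inv_mem ha.1, fun r hr h => ha.2 r hr (orderOf_inv a ▸ h)⟩ }
      have hcomm : ∀ (a : (P : Subgroup G)) (c : K),
          Commute ((P : Subgroup G).subtype a) (K.subtype c) := fun a c =>
        Subgroup.mem_center_iff.1 c.2.1 a
      set f := MonoidHom.noncommCoprod (P : Subgroup G).subtype K.subtype hcomm with hf
      refine ⟨f.range, fun q hq hd => ?_, fun q hq hd => ?_⟩
      · haveI := Fact.mk hq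
        have h := hd.trans (Subgroup.card_range_dvd f)
        rw [Nat.card_prod] at h
        rcases hq.dvd_mul.1 h with h | h
        · obtain ⟨k, hk⟩ := IsPGroup.iff_card.1 P.2
          rw [hk] at h
          rw [(Nat.prime_dvd_prime_iff_eq hq hp).1 (hq.dvd_of_dvd_pow h)]
          exact hpn
        · obtain ⟨c, hc⟩ := exists_prime_orderOf_dvd_card' q h
          exact c.2.2 q hq (by rw [← Subgroup.orderOf_mk (c : G) c.2, hc])
      · by_contra hc
        push Not at hc
        haveI := Fact.mk hq
        rcases eq_or_ne q p with rfl | hqp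
        · refine P.not_dvd_index (hd.trans (Subgroup.index_dvd_of_le ?_))
          intro a ha
          exact ⟨(⟨a, ha⟩, 1), by simp [hf]⟩
        · obtain ⟨Q⟩ := Sylow.nonempty (p := q) (G := G)
          refine Q.not_dvd_index (hd.trans (Subgroup.index_dvd_of_le ?_))
          intro a ha
          refine ⟨(1, ⟨a, hall q hq hc hqp Q ha, fun r hr h => ?_⟩), by simp [hf]⟩
          obtain ⟨k, hk⟩ := exists_orderOf_eq_pow_of_mem Q.2 ha
          rw [hk] at h
          rw [(Nat.prime_dvd_prime_iff_eq hr hq).1 (hr.dvd_of_dvd_pow h)]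
          exact hc
    push Not at hall
    obtain ⟨q, hq, hqn, hqp, Q₀, hQ₀⟩ := hall
    haveI := Fact.mk hq
    -- a Sylow subgroup inside the Hall subgroup of the normal subgroup
    obtain ⟨S⟩ := Sylow.nonempty (p := q) (G := B')
    set Q := (S : Subgroup B').map B'.subtype with hQdef
    have hQB : Q ≤ B' := Subgroup.map_subtype_le _
    have hQM : Q ≤ M := hQB.trans (Subgroup.map_subtype_le _)
    have hQcard : Nat.card Q = q ^ (Nat.card G).factorization q := by
      rw [hQdef, Subgroup.card_map_of_injective B'.subtype_injective, S.card_eq_multiplicity]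
      congr 1
      rw [← B'.card_mul_index, Nat.factorization_mul Nat.card_pos.ne'
        Subgroup.index_ne_zero_of_finite, Finsupp.add_apply, Nat.factorization_eq_zero_of_not_dvd
        (n := B'.index) (p := q) ?_, add_zero]
      rw [hB'idx]
      intro h
      rcases hq.dvd_mul.1 h with h | h
      · have := hB2 q hq h; omega
      · exact hMidx q hq hqp h
    have hCne : Subgroup.centralizer (Q : Set G) ≠ ⊤ := by
      intro htop
      refine hQ₀ ?_
      obtain ⟨g, hg⟩ := MulAction.exists_smul_eq G (Sylow.ofCard Q hQcard) Q₀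
      rw [← hg, Sylow.coe_subgroup_smul]
      rintro _ ⟨w, hw, rfl⟩
      have hwc : w ∈ Subgroup.center G := Subgroup.mem_center_iff.2 fun v => by
        have hv : v ∈ Subgroup.centralizer (Q : Set G) := htop ▸ Subgroup.mem_top v
        exact (Subgroup.mem_centralizer_iff.1 hv w hw).symm
      exact (inferInstance : (Subgroup.center G).Normal).conj_mem w hwc g
    refine hdone _ hCne fun r hr hrn hd => ?_
    set C := Subgroup.centralizer (Q : Set G) with hC
    have hB'C : B' ≤ C := fun b hb => Subgroup.mem_centralizer_iff.2 fun w hw =>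
      hB'comm w (hQB hw) b hb
    haveI := hMn
    have hsup : C ⊔ M = ⊤ := by
      refine top_le_iff.1 ?_
      intro g _
      -- Frattini
      have hQs : Nat.card (Q.subgroupOf M) = q ^ (Nat.card M).factorization q := by
        rw [Nat.card_congr (Subgroup.subgroupOfEquivOfLe hQM).toEquiv, hQcard]
        congr 1
        rw [← M.card_mul_index, Nat.factorization_mul Nat.card_pos.ne'
          Subgroup.index_ne_zero_of_finite, Finsupp.add_apply,
          Nat.factorization_eq_zero_of_not_dvd (hMidx q hq hqp), add_zero]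
      have hfr := Sylow.normalizer_sup_eq_top (Sylow.ofCard (Q.subgroupOf M) hQs)
      rw [Sylow.coe_ofCard, Subgroup.subgroupOf_map_subtype, inf_of_le_left hQM] at hfr
      have hg : g ∈ Subgroup.normalizer (Q : Set G) ⊔ M := hfr ▸ Subgroup.mem_top g
      obtain ⟨h, hh, m, hm, rfl⟩ := Subgroup.mem_sup_of_normal_right.1 hg
      refine mul_mem ?_ (Subgroup.mem_sup_right hm)
      rw [← pPt_mul_pReg (p := p) h]
      refine mul_mem (Subgroup.mem_sup_left ?_) (Subgroup.mem_sup_right
        (hMreg _ (not_dvd_orderOf_pReg (p := p) h)))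
      have huN : pPt p h ∈ Subgroup.normalizer (Q : Set G) :=
        (Subgroup.zpowers_le.2 hh) (pPt_mem_zpowers h)
      set W := Subgroup.zpowers (pPt p h) ⊔ Q with hW
      have hWcard : ∀ s : ℕ, s.Prime → s ∣ Nat.card W → n + 1 < s := by
        intro s hs hsd
        haveI := Fact.mk hs
        obtain ⟨w, hw⟩ := exists_prime_orderOf_dvd_card' s hsd
        by_contra hsn
        have hsp : s ≠ p := fun h => hsn (by omega)
        have hsq : s ≠ q := fun h => hsn (by omega)
        have hWle : W ≤ Subgroup.normalizer (Q : Set G) :=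
          sup_le (Subgroup.zpowers_le.2 huN) Subgroup.le_normalizer
        haveI : (Q.subgroupOf W).Normal := (Subgroup.normal_subgroupOf_iff_le_normalizer le_sup_right).2 hWle
        -- the quotient by `Q` is a cyclic `p`-group
        have himg : ∀ v : W, ∃ j : ℤ, (QuotientGroup.mk v : W ⧸ Q.subgroupOf W) =
            QuotientGroup.mk (⟨pPt p h, le_sup_left (a := Subgroup.zpowers (pPt p h))
              (Subgroup.mem_zpowers _)⟩ ^ j) := by
          rintro ⟨v, hv⟩
          obtain ⟨a, ha, b, hb, hab⟩ := Set.mem_mul.1 (show v ∈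
              ((Subgroup.zpowers (pPt p h) : Set G) * (Q : Set G)) by
            rw [← Subgroup.coe_mul_of_left_le_normalizer_right _ _
              (Subgroup.zpowers_le.2 huN)]
            exact hv)
          obtain ⟨j, rfl⟩ := ha
          refine ⟨j, (QuotientGroup.eq).2 ?_⟩
          rw [Subgroup.mem_subgroupOf]
          simp only [Subgroup.coe_mul, InvMemClass.coe_inv, SubgroupClass.coe_zpow]
          rw [← hab, mul_inv_rev, mul_assoc, inv_mul_cancel, mul_one]
          exact inv_mem hb
        obtain ⟨j, hj⟩ := himg w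
        obtain ⟨k, hk⟩ := exists_orderOf_pPt (p := p) h
        have h1 : w ^ (p ^ k) ∈ Q.subgroupOf W := by
          rw [← QuotientGroup.eq_one_iff, QuotientGroup.mk_pow, hj, ← QuotientGroup.mk_pow,
            QuotientGroup.eq_one_iff]
          rw [← zpow_natCast, ← zpow_mul, mul_comm, zpow_mul, zpow_natCast]
          rw [Subgroup.mem_subgroupOf]
          simp only [SubgroupClass.coe_zpow, SubmonoidClass.coe_pow]
          rw [← hk, pow_orderOf_eq_one, one_zpow]
          exact one_mem _
        have hco : s.Coprime (p ^ k) := Nat.Coprime.pow_right _ ((Nat.coprime_primes hs hp).2 hsp)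
        have h2 : orderOf (w ^ (p ^ k)) = s := by rw [Nat.Coprime.orderOf_pow (hw ▸ hco), hw]
        obtain ⟨i, hi⟩ := exists_orderOf_eq_pow_of_mem
          (IsPGroup.of_card (n := (Nat.card G).factorization q) hQcard) (Subgroup.mem_subgroupOf.1 h1)
        rw [Subgroup.orderOf_coe, h2] at hi
        exact hsq ((Nat.prime_dvd_prime_iff_eq hs hq).1
          (hs.dvd_of_dvd_pow (dvd_of_eq hi : s ∣ q ^ i)))
      refine Subgroup.mem_centralizer_iff.2 fun w hw => ?_
      exact comm_of_large_primes hχ hfaith hn W hWcard w (le_sup_right (b := Q) hw) _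
        (le_sup_left (a := Subgroup.zpowers (pPt p h)) (Subgroup.mem_zpowers _))
    have hCM : (C ⊓ M).index = C.index * M.index := by
      rw [← Subgroup.relIndex_mul_index (inf_le_left : C ⊓ M ≤ C), Subgroup.inf_relIndex_left,
        ← Subgroup.relIndex_sup_right (H := C) (K := M), hsup, Subgroup.relIndex_top_right]
      ring
    have hdvd : C.index * M.index ∣ B.index * M.index := by
      rw [← hCM, ← hB'idx]
      exact Subgroup.index_dvd_of_le (le_inf hB'C (Subgroup.map_subtype_le _))
    have := hB2 r hr (hd.trans (Nat.dvd_of_mul_dvd_mul_right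
      (Nat.pos_of_ne_zero Subgroup.index_ne_zero_of_finite) hdvd))
    omega
  -- no large central element
  push Not at hcen
  have hproper : ∀ x : G, ∀ p : ℕ, p.Prime → n + 1 < p → orderOf x = p →
      Subgroup.centralizer ({x} : Set G) ≠ ⊤ := fun x p hp hpn hx h =>
    hcen p hp hpn x (Subgroup.mem_center_iff.2 fun v =>
      (Subgroup.mem_centralizer_iff.1 (h ▸ Subgroup.mem_top v :
        v ∈ Subgroup.centralizer ({x} : Set G)) x rfl).symm) hx
  have hfull : ∀ (p : ℕ) [Fact p.Prime], n + 1 < p → ∀ x : G, orderOf x = p →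
      ¬ p ∣ (Subgroup.centralizer ({x} : Set G)).index := by
    intro p _ hpn x hx hd
    have hxp : IsPGroup p (Subgroup.zpowers x) :=
      IsPGroup.of_card (n := 1) (by rw [Nat.card_zpowers, hx, pow_one])
    obtain ⟨T, hT⟩ := hxp.exists_le_sylow
    refine T.not_dvd_index (hd.trans (Subgroup.index_dvd_of_le fun t ht => ?_))
    refine Subgroup.mem_centralizer_iff.2 fun w hw => ?_
    rw [Set.mem_singleton_iff] at hw
    rw [hw]
    refine comm_of_large_primes hχ hfaith hn (T : Subgroup G) (fun s hs hsd => ?_) x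
      (hT (Subgroup.mem_zpowers x)) t ht
    obtain ⟨k, hk⟩ := IsPGroup.iff_card.1 T.2
    rw [hk] at hsd
    rw [(Nat.prime_dvd_prime_iff_eq hs Fact.out).1 (hs.dvd_of_dvd_pow hsd)]
    exact hpn
  -- subgroups inside proper centralizers
  have hin : ∀ x : G, Subgroup.centralizer ({x} : Set G) ≠ ⊤ →
      ∃ A : Subgroup G, (∀ a ∈ A, ∀ b ∈ A, a * b = b * a) ∧
        ∀ r : ℕ, r.Prime → n + 1 < r → ¬ r ∣ (Subgroup.centralizer ({x} : Set G)).index →
          ¬ r ∣ A.index := by
    intro x hx
    obtain ⟨A, hA1, hA2⟩ := hsub _ hx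
    refine ⟨A.map (Subgroup.centralizer ({x} : Set G)).subtype, ?_, fun r hr hrn hidx hd => ?_⟩
    · refine comm_of_large_primes hχ hfaith hn _ fun s hs hsd => hA1 s hs ?_
      rwa [Subgroup.card_map_of_injective (Subgroup.subtype_injective _)] at hsd
    · rw [Subgroup.index_map_subtype] at hd
      rcases hr.dvd_mul.1 hd with h | h
      · have := hA2 r hr h; omega
      · exact hidx h
  obtain ⟨p, hp, hpn, hpd⟩ := hdiv
  haveI := Fact.mk hp
  obtain ⟨x, hx⟩ := exists_prime_orderOf_dvd_card' p hpd
  refine hdone _ (hproper x p hp hpn hx) fun q hq hqn hd => ?_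
  haveI := Fact.mk hq
  rcases eq_or_ne q p with rfl | hqp
  · exact hfull q hqn x hx hd
  have hqd : q ∣ Nat.card G := hd.trans (Subgroup.index_dvd_card _)
  obtain ⟨w, hw⟩ := exists_orderOf_mul_dvd hχ hfaith hn (Ne.symm hqp) hpn hqn hpd hqd
  obtain ⟨c, hc⟩ := hw
  -- commuting elements of orders `p` and `q`
  set x' := w ^ (c * q) with hx'def
  set y := w ^ (c * p) with hydef
  have hcpos : 0 < c := Nat.pos_of_ne_zero fun h => (orderOf_pos w).ne' (by rw [hc, h, mul_zero])
  have hx' : orderOf x' = p := by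
    rw [hx'def, orderOf_pow, hc, show p * q * c = p * (c * q) by ring,
      Nat.gcd_mul_left_left, Nat.mul_div_cancel _ (Nat.mul_pos hcpos hq.pos)]
  have hy : orderOf y = q := by
    rw [hydef, orderOf_pow, hc, show p * q * c = q * (c * p) by ring,
      Nat.gcd_mul_left_left, Nat.mul_div_cancel _ (Nat.mul_pos hcpos hp.pos)]
  have hyC : y ∈ Subgroup.centralizer ({x'} : Set G) := by
    refine Subgroup.mem_centralizer_iff.2 fun v hv => ?_
    rw [Set.mem_singleton_iff] at hv
    rw [hv]
    exact ((Commute.refl w).pow_pow _ _).eq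
  set C' := Subgroup.centralizer ({x'} : Set G) with hC'
  obtain ⟨A₀, hA₀1, hA₀2⟩ := hsub C' (hproper x' p hp hpn hx')
  have hqC : ¬ q ∣ A₀.index := fun h => by have := hA₀2 q hq h; omega
  obtain ⟨e, he⟩ := exists_conj_mem_of_index (G := C') hqC (x := ⟨y, hyC⟩)
    ⟨1, by rw [Subgroup.orderOf_mk, hy, pow_one]⟩
  set y' := (e : G) * y * (e : G)⁻¹ with hy'def
  have hy'o : orderOf y' = q := by
    rw [hy'def, show (e : G) * y * (e : G)⁻¹ = MulAut.conj (e : G) y from rfl,
      MulEquiv.orderOf_eq, hy]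
  have hp' : ¬ p ∣ (Subgroup.centralizer ({y'} : Set G)).index := by
    intro h
    have hle : A₀.map C'.subtype ≤ Subgroup.centralizer ({y'} : Set G) := by
      rintro _ ⟨a, ha, rfl⟩
      refine Subgroup.mem_centralizer_iff.2 fun v hv => ?_
      rw [Set.mem_singleton_iff] at hv
      rw [hv]
      have hcA := comm_of_large_primes (hχ.comp C'.subtype)
        (fun g hg => Subtype.ext (hfaith g hg)) hn A₀ hA₀1 _ he a ha
      exact congrArg Subtype.val hcA
    have h2 := h.trans (Subgroup.index_dvd_of_le hle)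
    rw [Subgroup.index_map_subtype] at h2
    rcases hp.dvd_mul.1 h2 with h3 | h3
    · have := hA₀2 p hp h3; omega
    · exact hfull p hpn x' hx' h3
  obtain ⟨A₂, hA₂c, hA₂⟩ := hin y' (hproper y' q hq hqn hy'o)
  obtain ⟨g, hg⟩ := exists_conj_mem_of_index (hA₂ p hp hpn hp') (x := x) ⟨1, by rw [hx, pow_one]⟩
  have hle : A₂.map (MulAut.conj g⁻¹).toMonoidHom ≤ Subgroup.centralizer ({x} : Set G) := by
    rintro _ ⟨a, ha, rfl⟩
    refine Subgroup.mem_centralizer_iff.2 fun v hv => ?_
    rw [Set.mem_singleton_iff] at hv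
    rw [hv]
    show x * (g⁻¹ * a * g⁻¹⁻¹) = g⁻¹ * a * g⁻¹⁻¹ * x
    calc x * (g⁻¹ * a * g⁻¹⁻¹) = g⁻¹ * ((g * x * g⁻¹) * a) * g := by group
      _ = g⁻¹ * (a * (g * x * g⁻¹)) * g := by rw [hA₂c _ hg a ha]
      _ = g⁻¹ * a * g⁻¹⁻¹ * x := by group
  have h3 := hd.trans (Subgroup.index_dvd_of_le hle)
  rw [Subgroup.index_map_of_bijective (MulAut.conj g⁻¹).bijective A₂] at h3
  exact hA₂ q hq hqn (hfull q hqn y' hy'o) h3

/-- Let the finite group G have a faithful character χ of degree n (G is a linear group of degree n), and let π be the set of primes greater than n + 1. Then G has an abelian Hall π-subgroup: an abelian subgroup A whose order is divisible only by primes greater than n + 1 and whose index is divisible by no prime greater than n + 1. -/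
theorem result {G : Type*} [Group G] [Finite G] (χ : G → ℂ) (hχ : Cfsg.IsCharacter G χ) (hfaith : ∀ g : G, χ g = χ 1 → g = 1) (n : ℕ) (hn : Cfsg.charDegree χ = n) : ∃ A : Subgroup G, (∀ x ∈ A, ∀ y ∈ A, x * y = y * x) ∧ (∀ q : ℕ, q.Prime → q ∣ Nat.card A → n + 1 < q) ∧ ∀ q : ℕ, q.Prime → q ∣ A.index → q ≤ n + 1 := by
  haveI := Fintype.ofFinite G
  obtain ⟨d, hd⟩ := hχ.exists_degree
  obtain rfl : d = n := (Cfsg.Lib.Block.charDegree_eq_of_apply_one hd).symm.trans hn
  obtain ⟨A, hA1, hA2⟩ := hall_aux d _ rfl χ hχ hd hfaith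
  exact ⟨A, Cfsg.Lib.Block.comm_of_large_primes hχ hfaith hd A hA1, hA1, hA2⟩

end Cfsg.Agent.S4465
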