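import Cfsg.Statements.S4467
import Cfsg.Agent.Lib.Char.PrimePowerDegree

set_option autoImplicit false
open Cfsg

namespace Cfsg.Agent.S4467

/-- Let the finite solvable group G have a faithful irreducible character of degree n, and suppose that for the prime p a Sylow p-subgroup of G is not normal. Then n is divisible by a prime power q > 1 with q congruent to −1, 0 or 1 modulo p. -/
theorem result {G : Type*} [Group G] [Finite G] (χ : Cfsg.IrrCharacter G) (hfaith : ∀ g : G, (χ : G → ℂ) g = (χ : G → ℂ) 1 → g = 1) (n : ℕ) (hn : Cfsg.charDegree (χ : G → ℂ) = n) (hsolv : Group.IsSolvable G) (p : ℕ) (hp : p.Prime) (P : Sylow p G) (hP : ¬ (P : Subgroup G).Normal) : ∃ q : ℕ, IsPrimePow q ∧ q ∣ n ∧ ((q : ℤ) ≡ -1 [ZMOD p] ∨ (q : ℤ) ≡ 0 [ZMOD p] ∨ (q : ℤ) ≡ 1 [ZMOD p]) := by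
  haveI : Fact p.Prime := ⟨hp⟩
  haveI := hsolv
  obtain ⟨d, -, hd⟩ := χ.2.exists_degree
  have h1 : (χ : G → ℂ) 1 = (n : ℂ) := by
    rw [← hn, Cfsg.charDegree, hd, Complex.natCast_re, Nat.floor_natCast]
  obtain ⟨q, i, hq, hi, hdvd, hc⟩ :=
    Cfsg.Lib.Char.pGood_degree _ G rfl (χ : G → ℂ) χ.2 hfaith n h1 P hP
  refine ⟨q ^ i, ⟨q, i, hq.prime, hi, rfl⟩, hdvd, ?_⟩
  rcases hc with h | h | h
  · refine Or.inr (Or.inr (Int.modEq_iff_dvd.2 ?_))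
    have h2 : (p : ℤ) ∣ ((q ^ i - 1 : ℕ) : ℤ) := Int.natCast_dvd_natCast.2 h
    rw [Nat.cast_sub (Nat.one_le_pow _ _ hq.pos), Nat.cast_one] at h2
    rw [← neg_sub, dvd_neg]
    exact h2
  · refine Or.inl (Int.modEq_iff_dvd.2 ?_)
    have h2 : (p : ℤ) ∣ ((q ^ i + 1 : ℕ) : ℤ) := Int.natCast_dvd_natCast.2 h
    rw [Nat.cast_add, Nat.cast_one] at h2
    rw [show (-1 : ℤ) - ((q ^ i : ℕ) : ℤ) = -(((q ^ i : ℕ) : ℤ) + 1) by ring, dvd_neg]
    exact h2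
  · refine Or.inr (Or.inl (Int.modEq_zero_iff_dvd.2 ?_))
    rw [h]
    exact Int.natCast_dvd_natCast.2 (dvd_pow_self p hi.ne')

end Cfsg.Agent.S4467
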