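import Cfsg.Statements.S4471
import Cfsg.Agent.Lib.Char.DegreeBelowTwoP

set_option autoImplicit false
open Cfsg

namespace Cfsg.Agent.S4471

open Cfsg.Lib

/-- Let p ≥ 7 be a prime and let the finite group G have a faithful irreducible character of degree n with n < 2p and n ≠ p. If the Sylow p-subgroups of G are non-abelian then p² does not divide the index of O_p(G) in G; consequently, in every case G/O_p(G) has abelian Sylow p-subgroups. -/
theorem result {G : Type*} [Group G] [Finite G] (χ : Cfsg.IrrCharacter G) (hfaith : ∀ g : G, (χ : G → ℂ) g = (χ : G → ℂ) 1 → g = 1) (n : ℕ) (hn : Cfsg.charDegree (χ : G → ℂ) = n) (p : ℕ) (hp : p.Prime) (h7 : 7 ≤ p) (hn2 : n < 2 * p) (hnp : n ≠ p) : ((∃ P : Sylow p G, ∃ x ∈ (P : Subgroup G), ∃ y ∈ (P : Subgroup G), x * y ≠ y * x) → ¬ p ^ 2 ∣ (Cfsg.pCore p G).index) ∧ ∀ Q : Sylow p (G ⧸ Cfsg.pCore p G), ∀ x ∈ (Q : Subgroup (G ⧸ Cfsg.pCore p G)), ∀ y ∈ (Q : Subgroup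 (G ⧸ Cfsg.pCore p G)), x * y = y * x := by
  classical
  haveI : Fact p.Prime := ⟨hp⟩
  haveI : (Cfsg.pCore p G).Normal := Subgroup.sSup_normal _ fun _ hN => hN.1
  have h1 : (∃ P : Sylow p G, ∃ x ∈ (P : Subgroup G), ∃ y ∈ (P : Subgroup G), x * y ≠ y * x) →
      ¬ p ^ 2 ∣ (Cfsg.pCore p G).index := fun ⟨P, hP⟩ =>
    Char.BelowTwoP.sq_not_dvd_index hp h7 χ hfaith hn hn2 hnp P hP
  refine ⟨h1, fun Q => ?_⟩
  by_cases h : ∃ P : Sylow p G, ∃ x ∈ (P : Subgroup G), ∃ y ∈ (P : Subgroup G), x * y ≠ y * x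
  · obtain ⟨e, he⟩ := IsPGroup.iff_card.1 Q.2
    have hdvd := Subgroup.card_subgroup_dvd_card (Q : Subgroup (G ⧸ Cfsg.pCore p G))
    rw [← Subgroup.index_eq_card, he] at hdvd
    have he1 : e ≤ 1 := by
      by_contra hlt
      exact h1 h ((pow_dvd_pow p (by omega : 2 ≤ e)).trans hdvd)
    haveI : IsCyclic (Q : Subgroup (G ⧸ Cfsg.pCore p G)) :=
      isCyclic_of_card_dvd_prime (p := p) (he ▸ (pow_dvd_pow p he1).trans (pow_one p).dvd)
    intro x hx y hy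
    exact congrArg Subtype.val (IsCyclic.commGroup.mul_comm
      (⟨x, hx⟩ : (Q : Subgroup (G ⧸ Cfsg.pCore p G))) ⟨y, hy⟩)
  · push Not at h
    obtain ⟨P, hP⟩ :=
      Sylow.mapSurjective_surjective (QuotientGroup.mk'_surjective (Cfsg.pCore p G)) p Q
    subst hP
    intro x hx y hy
    rw [Sylow.coe_mapSurjective] at hx hy
    obtain ⟨a, ha, rfl⟩ := hx
    obtain ⟨b, hb, rfl⟩ := hy
    rw [← map_mul, ← map_mul, h P a ha b hb]

end Cfsg.Agent.S4471
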