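import Cfsg.Statements.S4476
import Cfsg.Agent.Lib.Char.Indicator
import Cfsg.Agent.Lib.Char.Formulas
import Mathlib.Algebra.Order.Chebyshev
import Mathlib.GroupTheory.GroupAction.CardCommute

set_option autoImplicit false
open Cfsg

namespace Cfsg.Agent.S4476

/-- Let G be a finite group of even order g with exactly t involutions, and put α = (g − 1)/t (a rational number). Then (a) some non-identity element x of G has at most α² conjugates; and (b) some non-principal real-valued irreducible character of G has degree at most α. -/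
theorem result {G : Type*} [Group G] [Fintype G] (heven : Even (Nat.card G)) (t : ℕ) (ht : Nat.card {x : G // orderOf x = 2} = t) : (∃ x : G, x ≠ 1 ∧ ((Subgroup.centralizer ({x} : Set G)).index : ℚ) ≤ (((Nat.card G : ℚ) - 1) / t) ^ 2) ∧ ∃ χ : Cfsg.IrrCharacter G, (χ : G → ℂ) ≠ (fun _ => 1) ∧ (∀ g : G, ((χ : G → ℂ) g).im = 0) ∧ (Cfsg.charDegree (χ : G → ℂ) : ℚ) ≤ ((Nat.card G : ℚ) - 1) / t := by
  classical
  have hG0 : (Nat.card G : ℂ) ≠ 0 := Nat.cast_ne_zero.2 Nat.card_pos.ne'
  have hG1 : 1 < Nat.card G := by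
    obtain ⟨m, hm⟩ := heven
    have := Nat.card_pos (α := G)
    omega
  have htpos : 1 ≤ t := by
    haveI : Fact (Nat.Prime 2) := ⟨Nat.prime_two⟩
    obtain ⟨x, hx⟩ := exists_prime_orderOf_dvd_card' 2 (even_iff_two_dvd.1 heven)
    rw [← ht]
    exact Nat.one_le_iff_ne_zero.2 fun h0 => by
      haveI := (Nat.card_eq_zero.1 h0).resolve_right (fun h => h.not_finite inferInstance)
      exact IsEmpty.false (⟨x, hx⟩ : {x : G // orderOf x = 2})
  let one : Cfsg.IrrCharacter G := ⟨fun _ => 1, Cfsg.Lib.Char.isIrrCharacter_one⟩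
  let d : Cfsg.IrrCharacter G → ℕ := fun χ => Cfsg.charDegree (χ : G → ℂ)
  let real : Finset (Cfsg.IrrCharacter G) :=
    Finset.univ.filter fun χ => χ ≠ one ∧ ∀ g : G, ((χ : G → ℂ) g).im = 0
  have hd : ∀ χ : Cfsg.IrrCharacter G, (χ : G → ℂ) 1 = (d χ : ℂ) :=
    fun χ => χ.2.apply_one_eq_charDegree
  have hd1 : d one = 1 := by simp [d, one, Cfsg.charDegree]
  -- the count of solutions of `x ^ 2 = 1`
  have hcount : ∑ χ : Cfsg.IrrCharacter G, (χ : G → ℂ) 1 *
      ((Nat.card G : ℂ)⁻¹ * ∑ s : G, (χ : G → ℂ) (s * s)) = (t : ℂ) + 1 := by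
    simp only [Finset.mul_sum]
    rw [Finset.sum_comm]
    have h1 : ∀ s : G, ∑ χ : Cfsg.IrrCharacter G,
        (χ : G → ℂ) 1 * ((Nat.card G : ℂ)⁻¹ * (χ : G → ℂ) (s * s)) =
        if s * s = 1 then (1 : ℂ) else 0 := by
      intro s
      rw [Finset.sum_congr rfl (g := fun χ : Cfsg.IrrCharacter G => (Nat.card G : ℂ)⁻¹ *
        ((χ : G → ℂ) 1 * (χ : G → ℂ) (s * s))) fun χ _ => by ring, ← Finset.mul_sum,
        Cfsg.Lib.Char.sum_degree_mul]
      split_ifs <;> simp
    rw [Finset.sum_congr rfl fun s _ => h1 s, Finset.sum_boole]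
    have hset : (Finset.univ.filter fun s : G => s * s = 1) =
        insert 1 (Finset.univ.filter fun s : G => orderOf s = 2) := by
      ext s
      simp only [Finset.mem_filter, Finset.mem_univ, true_and, Finset.mem_insert]
      rw [orderOf_eq_prime_iff (p := 2), pow_two]
      constructor
      · intro h
        by_cases hs : s = 1
        · exact Or.inl hs
        · exact Or.inr ⟨h, hs⟩
      · rintro (rfl | ⟨h, -⟩)
        · exact one_mul 1
        · exact h
    rw [hset, Finset.card_insert_of_notMem (by simp), ← ht, Nat.card_eq_fintype_card,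
      Fintype.card_subtype]
    push_cast
    rfl
  have hterm : ∀ χ : Cfsg.IrrCharacter G, χ ≠ one → ((χ : G → ℂ) 1 *
      ((Nat.card G : ℂ)⁻¹ * ∑ s : G, (χ : G → ℂ) (s * s))).re ≤ if χ ∈ real then (d χ : ℝ) else 0 := by
    intro χ hne
    rcases Cfsg.Lib.Char.indicator_cases χ.2 with ⟨hr, h⟩ | ⟨hr, h | ⟨h, -⟩⟩
    · rw [if_neg (fun hm => hr (Finset.mem_filter.1 hm).2.2), h]
      simp
    · rw [if_pos (Finset.mem_filter.2 ⟨Finset.mem_univ _, hne, hr⟩), h, inv_mul_cancel₀ hG0, mul_one,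
        hd, Complex.natCast_re]
    · rw [if_pos (Finset.mem_filter.2 ⟨Finset.mem_univ _, hne, hr⟩), h, mul_neg,
        inv_mul_cancel₀ hG0, mul_neg, mul_one, hd, Complex.neg_re, Complex.natCast_re]
      exact neg_le_self (Nat.cast_nonneg _)
  have htle : (t : ℝ) ≤ ∑ χ ∈ real, (d χ : ℝ) := by
    have h := congrArg Complex.re hcount
    rw [Complex.re_sum, ← Finset.add_sum_erase _ _ (Finset.mem_univ one)] at h
    have h1 := Finset.sum_le_sum fun χ (hχ : χ ∈ Finset.univ.erase one) =>
      hterm χ (Finset.ne_of_mem_erase hχ)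
    rw [← Finset.sum_filter] at h1
    have h2 : (Finset.univ.erase one).filter (fun χ => χ ∈ real) = real := by
      ext χ
      simp [real]
    rw [h2] at h1
    have h3 : ((one : G → ℂ) 1 *
        ((Nat.card G : ℂ)⁻¹ * ∑ s : G, (one : G → ℂ) (s * s))).re = 1 := by
      simp [one, ← Nat.card_eq_fintype_card]
    rw [h3, Complex.add_re, Complex.natCast_re, Complex.one_re] at h
    linarith
  have hsq : ∑ χ ∈ real, (d χ : ℝ) ^ 2 ≤ (Nat.card G : ℝ) - 1 := by
    have h : ∑ χ : Cfsg.IrrCharacter G, (d χ : ℝ) ^ 2 = (Nat.card G : ℝ) := by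
      have h := congrArg Complex.re (Cfsg.Lib.Char.sum_sq_degree (G := G))
      simp only [hd, ← Nat.cast_pow, ← Nat.cast_sum, Complex.natCast_re] at h
      exact_mod_cast h
    rw [← h, ← Finset.add_sum_erase _ _ (Finset.mem_univ one), hd1]
    simp only [Nat.cast_one, one_pow, add_sub_cancel_left]
    exact Finset.sum_le_sum_of_subset_of_nonneg
      (fun χ hχ => Finset.mem_erase.2 ⟨(Finset.mem_filter.1 hχ).2.1, Finset.mem_univ _⟩)
      fun _ _ _ => sq_nonneg _
  have hN : (0 : ℝ) < (Nat.card G : ℝ) - 1 := by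
    have : (1 : ℝ) < (Nat.card G : ℝ) := by exact_mod_cast hG1
    linarith
  have ht0 : (0 : ℝ) < t := by exact_mod_cast htpos
  set q : ℝ := ((Nat.card G : ℝ) - 1) / t with hq
  have hq0 : 0 < q := div_pos hN ht0
  have hqt : q * t = (Nat.card G : ℝ) - 1 := div_mul_cancel₀ _ ht0.ne'
  constructor
  · by_contra hcon
    push_neg at hcon
    have hall : ∀ x : G, x ≠ 1 → q ^ 2 < ((Subgroup.centralizer ({x} : Set G)).index : ℝ) := by
      intro x hx
      have h := (Rat.cast_lt (K := ℝ)).2 (hcon x hx)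
      push_cast at h
      exact h
    have hkk : (Nat.card (ConjClasses G) : ℝ) * Nat.card G =
        ∑ x : G, (Nat.card (Subgroup.centralizer ({x} : Set G)) : ℝ) := by
      rw [← Nat.cast_mul, ← Nat.cast_sum, ← card_comm_eq_card_conjClasses_mul_card]
      congr 1
      rw [Nat.card_congr (Equiv.subtypeProdEquivSigmaSubtype fun a b : G => Commute a b), Nat.card_sigma]
      refine Finset.sum_congr rfl fun x _ => Nat.card_congr (Equiv.subtypeEquivRight fun y => ?_)
      rw [Subgroup.mem_centralizer_singleton_iff]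
      exact ⟨fun h => h.symm, fun h => h.symm⟩
    rw [← Finset.add_sum_erase _ _ (Finset.mem_univ (1 : G))] at hkk
    have hC1 : Nat.card (Subgroup.centralizer ({(1 : G)} : Set G)) = Nat.card G := by
      rw [show Subgroup.centralizer ({(1 : G)} : Set G) = ⊤ from
        eq_top_iff.2 fun g _ => Subgroup.mem_centralizer_singleton_iff.2 (by rw [mul_one, one_mul]),
        Subgroup.card_top]
    rw [hC1] at hkk
    have hlt : ∑ x ∈ Finset.univ.erase (1 : G), (Nat.card (Subgroup.centralizer ({x} : Set G)) : ℝ) <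
        ∑ _x ∈ Finset.univ.erase (1 : G), (Nat.card G : ℝ) / q ^ 2 := by
      obtain ⟨x0, hx0⟩ := Fintype.exists_ne_of_one_lt_card (Nat.card_eq_fintype_card (α := G) ▸ hG1) (1 : G)
      refine Finset.sum_lt_sum_of_nonempty ⟨x0, Finset.mem_erase.2 ⟨hx0, Finset.mem_univ _⟩⟩
        fun x hx => ?_
      rw [lt_div_iff₀ (by positivity), ← (Subgroup.centralizer ({x} : Set G)).card_mul_index,
        Nat.cast_mul]
      exact mul_lt_mul_of_pos_left (hall x (Finset.ne_of_mem_erase hx))
        (by exact_mod_cast Nat.card_pos)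
    rw [Finset.sum_const, Finset.card_erase_of_mem (Finset.mem_univ _), Finset.card_univ,
      ← Nat.card_eq_fintype_card, nsmul_eq_mul, Nat.cast_sub hG1.le, Nat.cast_one] at hlt
    have hcs : (∑ χ ∈ real, (d χ : ℝ)) ^ 2 ≤ (real.card : ℝ) * ∑ χ ∈ real, (d χ : ℝ) ^ 2 :=
      sq_sum_le_card_mul_sum_sq
    have hrk : (real.card : ℝ) + 1 ≤ (Nat.card (ConjClasses G) : ℝ) := by
      rw [← Cfsg.Lib.Char.card_irr_eq_card_conjClasses, Nat.card_eq_fintype_card]
      have hnot : one ∉ real := by simp [real]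
      have := (Finset.card_insert_of_notMem hnot) ▸ Finset.card_le_univ (insert one real)
      exact_mod_cast this
    have h2 : (t : ℝ) ^ 2 ≤ ((Nat.card (ConjClasses G) : ℝ) - 1) * ((Nat.card G : ℝ) - 1) :=
      le_trans (le_trans (pow_le_pow_left₀ ht0.le htle 2) hcs)
        (mul_le_mul (by linarith) hsq (Finset.sum_nonneg fun _ _ => sq_nonneg _)
          (by linarith [Nat.cast_nonneg (α := ℝ) real.card]))
    have h3 : ((Nat.card (ConjClasses G) : ℝ) - 1) * (Nat.card G : ℝ) <
        (t : ℝ) ^ 2 / ((Nat.card G : ℝ) - 1) * (Nat.card G : ℝ) := by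
      have e : ((Nat.card G : ℝ) - 1) * ((Nat.card G : ℝ) / q ^ 2) =
          (t : ℝ) ^ 2 / ((Nat.card G : ℝ) - 1) * (Nat.card G : ℝ) := by
        rw [← hqt]; field_simp
      rw [← e]; linarith
    have h4 := (lt_div_iff₀ hN).1 (lt_of_mul_lt_mul_right h3 (Nat.cast_nonneg _))
    linarith
  · by_contra hcon
    push_neg at hcon
    have hbig : ∀ χ ∈ real, q < (d χ : ℝ) := by
      intro χ hχ
      obtain ⟨-, hne, hr⟩ := Finset.mem_filter.1 hχ
      have h := (Rat.cast_lt (K := ℝ)).2 (hcon χ (fun e => hne (Subtype.ext e)) hr)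
      push_cast at h
      exact h
    have hne : real.Nonempty := by
      by_contra h
      rw [Finset.not_nonempty_iff_eq_empty] at h
      rw [h, Finset.sum_empty] at htle
      linarith
    have h1 : ∑ χ ∈ real, q * (d χ : ℝ) < ∑ χ ∈ real, (d χ : ℝ) ^ 2 := by
      refine Finset.sum_lt_sum_of_nonempty hne fun χ hχ => ?_
      rw [sq]
      exact mul_lt_mul_of_pos_right (hbig χ hχ) (hq0.trans (hbig χ hχ))
    rw [← Finset.mul_sum] at h1
    nlinarith [mul_le_mul_of_nonneg_left htle hq0.le]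

end Cfsg.Agent.S4476
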