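import Cfsg.Statements.S4477
import Cfsg.Agent.Lib.Char.Indicator
import Cfsg.Agent.Lib.Char.Formulas
import Cfsg.Agent.Lib.Char.Linear
import Mathlib.GroupTheory.Nilpotent
import Mathlib.GroupTheory.SpecificGroups.Cyclic

set_option autoImplicit false
open Cfsg

namespace Cfsg.Agent.S4477

/-- Let G be a finite 2-group whose number of involutions is congruent to 1 modulo 4. Then G is cyclic or its commutator subgroup has index 4. -/
theorem result {G : Type*} [Group G] [Finite G] (hG : IsPGroup 2 G) (ht : Nat.card {x : G // orderOf x = 2} % 4 = 1) : IsCyclic G ∨ (commutator G).index = 4 := by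
  classical
  haveI := Fintype.ofFinite G
  haveI : Fact (Nat.Prime 2) := ⟨Nat.prime_two⟩
  have hG0 : (Nat.card G : ℂ) ≠ 0 := Nat.cast_ne_zero.2 Nat.card_pos.ne'
  haveI : Finite (G →* ℂˣ) := Nat.finite_of_card_ne_zero
    (by rw [Cfsg.Lib.Char.card_linear_eq_index]; exact Subgroup.index_ne_zero_of_finite)
  haveI := Fintype.ofFinite (G →* ℂˣ)
  by_contra hcon
  push_neg at hcon
  obtain ⟨hncyc, hidx⟩ := hcon
  -- at least four homomorphisms of square one
  let T : Subgroup (G →* ℂˣ) := (powMonoidHom 2).ker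
  have hT : ∀ f : G →* ℂˣ, f ∈ T ↔ f ^ 2 = 1 := fun f => Iff.rfl
  obtain ⟨k, hk⟩ := IsPGroup.iff_card.1 hG
  have hk0 : k ≠ 0 := by
    rintro rfl
    haveI := Finite.card_le_one_iff_subsingleton.1 (hk.trans (pow_zero 2)).le
    exact hncyc isCyclic_of_subsingleton
  haveI : Group.IsNilpotent G := hG.isNilpotent
  have hTpow : ∃ r : ℕ, Nat.card T = 2 ^ r := by
    refine IsPGroup.iff_card.1 (fun f => ⟨1, Subtype.ext ?_⟩)
    rw [pow_one]
    exact (hT f).1 f.2
  obtain ⟨r, hr⟩ := hTpow
  have hsign : ∀ M : Subgroup G, IsCoatom M →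
      ∃ f : G →* ℂˣ, f ∈ T ∧ f.ker = M := by
    intro M hM
    haveI : M.Normal := Subgroup.NormalizerCondition.normal_of_coatom M Group.normalizerCondition_of_isNilpotent hM
    haveI : Nontrivial (G ⧸ M) := QuotientGroup.nontrivial_iff.2 hM.1
    haveI : IsSimpleGroup (G ⧸ M) := by
      refine ⟨fun K hK => ?_⟩
      have hle : M ≤ K.comap (QuotientGroup.mk' M) := fun m hm => by
        rw [Subgroup.mem_comap, QuotientGroup.mk'_apply, (QuotientGroup.eq_one_iff m).2 hm]
        exact K.one_mem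
      rcases (eq_or_lt_of_le hle) with h | h
      · left
        rw [← Subgroup.map_comap_eq_self_of_surjective (QuotientGroup.mk'_surjective M) K, ← h,
          QuotientGroup.map_mk'_self]
      · right
        rw [← Subgroup.map_comap_eq_self_of_surjective (QuotientGroup.mk'_surjective M) K,
          hM.2 _ h, Subgroup.map_top_of_surjective _ (QuotientGroup.mk'_surjective M)]
    have hq : IsPGroup 2 (G ⧸ M) := hG.to_quotient M
    haveI := hq.isNilpotent
    have hcomm : IsMulCommutative (G ⧸ M) := by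
      rcases Subgroup.Normal.eq_bot_or_eq_top
        (inferInstance : (Subgroup.center (G ⧸ M)).Normal) with h | h
      · exact absurd h hq.bot_lt_center.ne'
      · exact ⟨⟨fun a b => (Subgroup.mem_center_iff.1 (h ▸ Subgroup.mem_top b) a)⟩⟩
    letI : CommGroup (G ⧸ M) := { (inferInstance : Group (G ⧸ M)) with
      mul_comm := hcomm.is_comm.comm }
    obtain ⟨p, hp, hpc⟩ : ∃ p : ℕ, p.Prime ∧ Nat.card (G ⧸ M) = p :=
      ⟨_, IsSimpleGroup.prime_card, rfl⟩
    have h2 : p = 2 := by
      obtain ⟨j, hj⟩ := IsPGroup.iff_card.1 hq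
      rw [hpc] at hj
      exact (Nat.prime_dvd_prime_iff_eq hp Nat.prime_two).1 (hp.dvd_of_dvd_pow hj.dvd)
    subst h2
    have hidx2 : M.index = 2 := hpc
    have hone : ∀ a b : G, a * b ∈ M ↔ (a ∈ M ↔ b ∈ M) :=
      fun a b => Subgroup.mul_mem_iff_of_index_two hidx2
    let f : G →* ℂˣ :=
      { toFun := fun g => if g ∈ M then 1 else -1
        map_one' := if_pos M.one_mem
        map_mul' := fun a b => by
          by_cases ha : a ∈ M <;> by_cases hb : b ∈ M <;> simp [hone, ha, hb] }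
    refine ⟨f, (hT f).2 (MonoidHom.ext fun g => ?_), ?_⟩
    · rw [MonoidHom.pow_apply, MonoidHom.one_apply]
      show (if g ∈ M then (1 : ℂˣ) else -1) ^ 2 = 1
      split_ifs <;> simp
    · ext g
      rw [MonoidHom.mem_ker]
      show (if g ∈ M then (1 : ℂˣ) else -1) = 1 ↔ g ∈ M
      by_cases hg : g ∈ M <;> simp [hg, Units.ext_iff] <;> norm_num
  have hT4 : 4 ∣ Nat.card T := by
    rw [hr]
    rcases Nat.lt_or_ge r 2 with h | h
    swap
    · exact pow_dvd_pow 2 h
    exfalso
    apply hncyc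
    -- at most one maximal subgroup
    have huniq : ∀ M M' : Subgroup G, IsCoatom M → IsCoatom M' → M = M' := by
      intro M M' hM hM'
      obtain ⟨f, hf, hfk⟩ := hsign M hM
      obtain ⟨f', hf', hfk'⟩ := hsign M' hM'
      by_contra hne
      have h1 : (⟨f, hf⟩ : T) ≠ 1 := fun e => hM.1 (by
        rw [← hfk, show f = 1 from congrArg Subtype.val e, MonoidHom.ker_one])
      have h1' : (⟨f', hf'⟩ : T) ≠ 1 := fun e => hM'.1 (by
        rw [← hfk', show f' = 1 from congrArg Subtype.val e, MonoidHom.ker_one])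
      have h2 : (⟨f, hf⟩ : T) ≠ ⟨f', hf'⟩ := fun e => hne (by
        rw [← hfk, ← hfk', show f = f' from congrArg Subtype.val e])
      have h3 : 3 ≤ Nat.card T := by
        rw [Nat.card_eq_fintype_card, ← Finset.card_univ]
        calc 3 = ({1, ⟨f, hf⟩, ⟨f', hf'⟩} : Finset T).card := by
              rw [Finset.card_insert_of_notMem, Finset.card_pair h2]
              simp only [Finset.mem_insert, Finset.mem_singleton, not_or]
              exact ⟨h1.symm, h1'.symm⟩
          _ ≤ _ := Finset.card_le_univ _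
      have h4 : Nat.card T ≤ 2 := hr ▸ (Nat.pow_le_pow_right (by norm_num) (show r ≤ 1 by omega))
      omega
    haveI : Nontrivial G := Finite.one_lt_card_iff_nontrivial.1 (hk ▸ Nat.one_lt_two_pow hk0)
    obtain ⟨M, hM, -⟩ := (IsCoatomic.eq_top_or_exists_le_coatom (⊥ : Subgroup G)).resolve_left
      bot_ne_top
    obtain ⟨x, hx⟩ : ∃ x : G, x ∉ M := by
      by_contra h
      push_neg at h
      exact hM.1 (eq_top_iff.2 fun g _ => h g)
    refine ⟨⟨x, fun g => ?_⟩⟩
    rcases IsCoatomic.eq_top_or_exists_le_coatom (Subgroup.zpowers x) with h | ⟨M', hM', hle⟩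
    · exact (h.symm ▸ Subgroup.mem_top g : g ∈ Subgroup.zpowers x)
    · exact absurd ((huniq M' M hM' hM) ▸ hle (Subgroup.mem_zpowers x)) hx
  -- the index of the derived group
  obtain ⟨j, hj⟩ : ∃ j : ℕ, (commutator G).index = 2 ^ j :=
    hG.index (commutator G)
  have hTle : Nat.card T ≤ (commutator G).index := by
    rw [← Cfsg.Lib.Char.card_linear_eq_index]
    exact Nat.le_of_dvd Nat.card_pos (Subgroup.card_subgroup_dvd_card T)
  have hj3 : 3 ≤ j := by
    by_contra h
    have h4 : 4 ≤ 2 ^ j := hj ▸ (Nat.le_of_dvd Nat.card_pos hT4).trans hTle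
    have hj2 : j = 2 := by
      interval_cases j <;> simp_all
    exact hidx (by rw [hj, hj2]; norm_num)
  -- degrees
  let d : Cfsg.IrrCharacter G → ℕ := fun χ => Cfsg.charDegree (χ : G → ℂ)
  have hd : ∀ χ : Cfsg.IrrCharacter G, (χ : G → ℂ) 1 = (d χ : ℂ) :=
    fun χ => χ.2.apply_one_eq_charDegree
  have hdpow : ∀ χ, ∃ i : ℕ, d χ = 2 ^ i := fun χ => by
    obtain ⟨i, -, hi⟩ := (Nat.dvd_prime_pow Nat.prime_two).1
      (hk ▸ Cfsg.Lib.Char.charDegree_dvd_card χ.2)
    exact ⟨i, hi⟩
  let A := Finset.univ.filter fun χ : Cfsg.IrrCharacter G => d χ = 2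
  let realA := A.filter fun χ : Cfsg.IrrCharacter G => ∀ g : G, ((χ : G → ℂ) g).im = 0
  have hAeven : (A.card : ZMod 2) = 0 := by
    have h : ∑ χ : Cfsg.IrrCharacter G, d χ ^ 2 = Nat.card G := by
      have h := Cfsg.Lib.Char.sum_sq_degree (G := G)
      simp only [hd] at h
      exact_mod_cast h
    have hG8 : 8 ∣ Nat.card G := by
      refine dvd_trans ?_ ((Subgroup.index_dvd_card (commutator G)))
      rw [hj]; exact pow_dvd_pow 2 hj3
    have hterm : ∀ χ : Cfsg.IrrCharacter G, ((d χ ^ 2 : ℕ) : ZMod 8) =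
        (if d χ = 1 then 1 else 0) + 4 * (if d χ = 2 then 1 else 0) := by
      intro χ
      obtain ⟨i, hi⟩ := hdpow χ
      rcases i with _ | _ | i
      · simp [hi]
      · simp [hi] <;> norm_num
      · rw [hi, if_neg, if_neg]
        · have e : (2 ^ (i + 2)) ^ 2 = 8 * (2 * 4 ^ i) := by
            rw [← pow_mul, mul_comm (i + 2) 2, pow_mul]; ring
          rw [e, Nat.cast_mul, show ((8 : ℕ) : ZMod 8) = 0 from by decide, zero_mul]
          ring
        · have := Nat.one_le_pow i 2 (by norm_num)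
          rw [pow_add]; omega
        · have := Nat.one_le_pow i 2 (by norm_num)
          rw [pow_add]; omega
    have h8 := congrArg (fun n : ℕ => (n : ZMod 8)) h
    simp only [Nat.cast_sum] at h8
    rw [Finset.sum_congr rfl fun χ _ => hterm χ, Finset.sum_add_distrib, ← Finset.mul_sum,
      Finset.sum_boole, Finset.sum_boole, (CharP.cast_eq_zero_iff (ZMod 8) 8 (Nat.card G)).2 hG8] at h8
    have hL : (Finset.univ.filter fun χ : Cfsg.IrrCharacter G => d χ = 1).card = (commutator G).index := by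
      rw [← Cfsg.Lib.Char.card_degree_one, Nat.card_eq_fintype_card, Fintype.card_subtype]
      refine congrArg _ (Finset.filter_congr fun χ _ => ?_)
      rw [hd, Nat.cast_eq_one]
    rw [hL, (CharP.cast_eq_zero_iff (ZMod 8) 8 _).2 (hj ▸ pow_dvd_pow 2 hj3), zero_add,
      show (4 : ZMod 8) = ((4 : ℕ) : ZMod 8) from rfl, ← Nat.cast_mul,
      CharP.cast_eq_zero_iff (ZMod 8) 8] at h8
    exact (CharP.cast_eq_zero_iff (ZMod 2) 2 _).2 (by
      obtain ⟨c, hc⟩ := h8
      exact ⟨c, (by omega : (Finset.univ.filter fun χ : Cfsg.IrrCharacter G => d χ = 2).card = 2 * c)⟩)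
  have hrealA : (realA.card : ZMod 2) = 0 := by
    have hpair : ((A.filter fun χ : Cfsg.IrrCharacter G => ¬ ∀ g : G, ((χ : G → ℂ) g).im = 0).card : ZMod 2) = 0 := by
      rw [Finset.card_eq_sum_ones, Nat.cast_sum]
      refine Finset.sum_involution (fun χ _ => Cfsg.Lib.Char.irrConj χ) (fun _ _ => by rw [← Nat.cast_add, CharP.cast_eq_zero_iff (ZMod 2) 2])
        (fun χ hχ _ h => (Finset.mem_filter.1 hχ).2 ((Cfsg.Lib.Char.irrConj_eq_iff χ).1 h))
        (fun χ hχ => ?_) (fun χ _ => ?_)
      · obtain ⟨hA, hr⟩ := Finset.mem_filter.1 hχ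
        refine Finset.mem_filter.2 ⟨Finset.mem_filter.2 ⟨Finset.mem_univ _, ?_⟩, fun h => hr fun g => ?_⟩
        · have e := (Cfsg.Lib.Char.irrConj χ).2.apply_one_eq_charDegree
          rw [show ((Cfsg.Lib.Char.irrConj χ : Cfsg.IrrCharacter G) : G → ℂ) 1 =
            (starRingEnd ℂ) ((χ : G → ℂ) 1) from rfl, hd, Complex.conj_natCast] at e
          exact (Nat.cast_injective e).symm.trans (Finset.mem_filter.1 hA).2
        · have := h g
          change ((starRingEnd ℂ) ((χ : G → ℂ) g)).im = 0 at this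
          simpa using this
      · exact Subtype.ext (funext fun g => Complex.conj_conj _)
    have e := Finset.card_filter_add_card_filter_not
      (fun χ : Cfsg.IrrCharacter G => ∀ g : G, ((χ : G → ℂ) g).im = 0) (s := A)
    rw [← e, Nat.cast_add, hpair, add_zero] at hAeven
    exact hAeven
  -- the indicator identity
  have hnu : ∀ χ : Cfsg.IrrCharacter G, ∃ z : ℤ, (Nat.card G : ℂ)⁻¹ * ∑ s : G, (χ : G → ℂ) (s * s) = z ∧
      ((∀ g : G, ((χ : G → ℂ) g).im = 0) → (z = 1 ∨ (z = -1 ∧ d χ ≠ 1))) ∧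
      ((¬ ∀ g : G, ((χ : G → ℂ) g).im = 0) → z = 0) := by
    intro χ
    rcases Cfsg.Lib.Char.indicator_cases χ.2 with ⟨hr', h⟩ | ⟨hr', h | ⟨h, he⟩⟩
    · exact ⟨0, by simp [h], fun h' => absurd h' hr', fun _ => rfl⟩
    · exact ⟨1, by rw [h, inv_mul_cancel₀ hG0, Int.cast_one], fun _ => Or.inl rfl, fun h' => absurd hr' h'⟩
    · refine ⟨-1, by rw [h, mul_neg, inv_mul_cancel₀ hG0]; simp, fun _ => Or.inr ⟨rfl, fun h1 => ?_⟩,
        fun h' => absurd hr' h'⟩
      exact (Nat.not_even_one) (he 1 (by rw [hd, h1, Nat.cast_one]))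
  choose z hz hz1 hz0 using hnu
  have hcount : ∑ χ : Cfsg.IrrCharacter G, (d χ : ℤ) * z χ =
      ((Finset.univ.filter fun s : G => s * s = 1).card : ℤ) := by
    apply Int.cast_injective (α := ℂ)
    rw [Int.cast_sum, Int.cast_natCast]
    simp only [Int.cast_mul, Int.cast_natCast, ← hd, ← hz, Finset.mul_sum]
    rw [Finset.sum_comm]
    have h1 : ∀ s : G, ∑ χ : Cfsg.IrrCharacter G,
        (χ : G → ℂ) 1 * ((Nat.card G : ℂ)⁻¹ * (χ : G → ℂ) (s * s)) =
        if s * s = 1 then (1 : ℂ) else 0 := by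
      intro s
      rw [Finset.sum_congr rfl (g := fun χ : Cfsg.IrrCharacter G => (Nat.card G : ℂ)⁻¹ *
        ((χ : G → ℂ) 1 * (χ : G → ℂ) (s * s))) fun χ _ => by ring, ← Finset.mul_sum,
        Cfsg.Lib.Char.sum_degree_mul]
      split_ifs <;> simp
    rw [Finset.sum_congr rfl fun s _ => h1 s, Finset.sum_boole]
  have hterm4 : ∀ χ : Cfsg.IrrCharacter G, (((d χ : ℤ) * z χ : ℤ) : ZMod 4) =
      (if d χ = 1 ∧ (∀ g : G, ((χ : G → ℂ) g).im = 0) then 1 else 0) +
      2 * (if χ ∈ realA then 1 else 0) := by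
    intro χ
    by_cases hr' : ∀ g : G, ((χ : G → ℂ) g).im = 0
    swap
    · rw [hz0 χ hr', mul_zero, Int.cast_zero, if_neg (fun h => hr' h.2),
        if_neg (fun h => hr' (Finset.mem_filter.1 h).2)]
      simp
    obtain ⟨i, hi⟩ := hdpow χ
    rcases i with _ | _ | i
    · rw [pow_zero] at hi
      rw [(hz1 χ hr').resolve_right (fun h => h.2 hi), hi, if_pos ⟨rfl, hr'⟩,
        if_neg (fun h => by
          have := (Finset.mem_filter.1 (Finset.mem_filter.1 h).1).2
          omega)]
      simp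
    · rw [pow_one] at hi
      rw [if_neg (fun h => by omega), if_pos (show χ ∈ realA from Finset.mem_filter.2
        ⟨Finset.mem_filter.2 ⟨Finset.mem_univ _, hi⟩, hr'⟩), hi]
      rcases hz1 χ hr' with h | ⟨h, -⟩ <;> rw [h] <;> decide
    · have h4 : d χ = 4 * 2 ^ i := by rw [hi]; ring
      have hpos := Nat.one_le_pow i 2 (by norm_num)
      rw [if_neg (fun h => by omega), if_neg (fun h => by
        have := (Finset.mem_filter.1 (Finset.mem_filter.1 h).1).2
        omega), h4]
      push_cast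
      rw [show (4 : ZMod 4) = 0 from by decide]
      ring
  have hlin : (Finset.univ.filter fun χ : Cfsg.IrrCharacter G =>
      d χ = 1 ∧ ∀ g : G, ((χ : G → ℂ) g).im = 0).card = Nat.card T := by
    rw [← Nat.card_eq_finsetCard]
    refine (Nat.card_congr (Equiv.ofBijective (fun f : T =>
      (⟨⟨fun g => ((f : G →* ℂˣ) g : ℂ), Cfsg.Lib.Char.isIrrCharacter_linear _⟩, ?_⟩ :
        {χ // χ ∈ _})) ⟨?_, ?_⟩)).symm
    · refine Finset.mem_filter.2 ⟨Finset.mem_univ _, by simp [d, Cfsg.charDegree], fun g => ?_⟩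
      have h := congrArg (fun u : G →* ℂˣ => ((u g : ℂˣ) : ℂ)) ((hT _).1 f.2)
      simp only [MonoidHom.pow_apply, Units.val_pow_eq_pow_val, MonoidHom.one_apply, Units.val_one,
        sq_eq_one_iff] at h
      show (((f : G →* ℂˣ) g : ℂ)).im = 0
      rcases h with h | h <;> simp [h]
    · intro a b h
      exact Subtype.ext (Cfsg.Lib.Char.linearChar_injective (congrArg (fun c => (c.1 : G → ℂ)) h))
    · rintro ⟨χ, hχ⟩
      obtain ⟨-, h1, hr'⟩ := Finset.mem_filter.1 hχ
      obtain ⟨f, hf⟩ := Cfsg.Lib.Char.exists_hom_of_degree_one χ.2.isCharacter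
        (by rw [hd, h1, Nat.cast_one])
      refine ⟨⟨f, (hT f).2 (MonoidHom.ext fun g => Units.ext ?_)⟩, Subtype.ext (Subtype.ext hf.symm)⟩
      have hreal : (starRingEnd ℂ) (f g : ℂ) = (f g : ℂ) := by
        apply Complex.conj_eq_iff_im.2
        have h := hr' g
        rw [hf] at h
        exact h
      have hnorm : ‖(f g : ℂ)‖ = 1 := by
        refine Complex.norm_eq_one_of_pow_eq_one (n := Nat.card G) ?_ Nat.card_pos.ne'
        rw [← Units.val_pow_eq_pow_val, ← map_pow, pow_card_eq_one', map_one, Units.val_one]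
      rw [MonoidHom.pow_apply, Units.val_pow_eq_pow_val, MonoidHom.one_apply, Units.val_one, sq]
      conv_lhs => arg 2; rw [← hreal]
      rw [Complex.mul_conj', hnorm]
      norm_num
  have hset : (Finset.univ.filter fun s : G => s * s = 1).card =
      Nat.card {x : G // orderOf x = 2} + 1 := by
    rw [show (Finset.univ.filter fun s : G => s * s = 1) =
      insert 1 (Finset.univ.filter fun s : G => orderOf s = 2) from ?_,
      Finset.card_insert_of_notMem (by simp), Nat.card_eq_fintype_card, Fintype.card_subtype]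
    ext s
    simp only [Finset.mem_filter, Finset.mem_univ, true_and, Finset.mem_insert]
    rw [orderOf_eq_prime_iff (p := 2), pow_two]
    constructor
    · intro h
      by_cases hs : s = 1
      · exact Or.inl hs
      · exact Or.inr ⟨h, hs⟩
    · rintro (rfl | ⟨h, -⟩)
      · exact one_mul 1
      · exact h
  have h4 := congrArg (fun n : ℤ => (n : ZMod 4)) hcount
  simp only [Int.cast_natCast, Int.cast_sum] at h4
  rw [Finset.sum_congr rfl fun χ _ => hterm4 χ, Finset.sum_add_distrib, ← Finset.mul_sum,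
    Finset.sum_boole, Finset.sum_boole, Finset.filter_univ_mem, hlin, hset,
    (CharP.cast_eq_zero_iff (ZMod 4) 4 _).2 hT4, zero_add] at h4
  have h5 : (2 : ZMod 4) * (realA.card : ZMod 4) = 0 := by
    obtain ⟨c, hc⟩ := (CharP.cast_eq_zero_iff (ZMod 2) 2 _).1 hrealA
    rw [hc, Nat.cast_mul, ← mul_assoc, show (2 : ZMod 4) * ((2 : ℕ) : ZMod 4) = 0 from by decide, zero_mul]
  rw [h5, eq_comm, CharP.cast_eq_zero_iff (ZMod 4) 4] at h4
  omega

end Cfsg.Agent.S4477
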