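import Cfsg.Statements.S4478
import Cfsg.Agent.Lib.Block.RegInt
import Cfsg.Agent.Lib.Block.Defect
import Cfsg.Agent.Lib.Char.Indicator

set_option autoImplicit false
open Cfsg

namespace Cfsg.Agent.S4478

/-- Let G be a finite group of even order and χ an irreducible character of G whose degree x is divisible by the full power of 2 dividing the order of G and, for every odd prime p such that G has an element of order 2p, by the full power of p dividing the order of G. Then all involutions of G are conjugate, the centralizer of every involution has order exactly x with x coprime to its index, and the Frobenius–Schur indicator of χ equals 1. -/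
theorem result {G : Type*} [Group G] [Fintype G] (heven : Even (Nat.card G)) (χ : Cfsg.IrrCharacter G) (h2 : 2 ^ (Nat.card G).factorization 2 ∣ Cfsg.charDegree (χ : G → ℂ)) (hp : ∀ p : ℕ, p.Prime → p ≠ 2 → (∃ g : G, orderOf g = 2 * p) → p ^ (Nat.card G).factorization p ∣ Cfsg.charDegree (χ : G → ℂ)) : (∀ s t : G, orderOf s = 2 → orderOf t = 2 → IsConj s t) ∧ (∀ s : G, orderOf s = 2 → Nat.card (Subgroup.centralizer ({s} : Set G)) = Cfsg.charDegree (χ : G → ℂ) ∧ (Nat.card (Subgroup.centralizer ({s} : Set G))).Coprime (Subgroup.centralizer ({s} : Set G)).index) ∧ (Nat.card G : ℂ)⁻¹ * ∑ g : G, (χ : G → ℂ) (g * g) = 1 := by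
  classical
  have hG0 : (Nat.card G : ℂ) ≠ 0 := Cfsg.Lib.Char.card_cast_ne_zero
  set x := Cfsg.charDegree (χ : G → ℂ) with hx
  have hx1 : (χ : G → ℂ) 1 = (x : ℂ) := Cfsg.Lib.Block.apply_one_eq_charDegree χ
  have hxpos : 0 < x := Cfsg.Lib.Block.charDegree_pos χ
  -- vanishing on singular elements
  have van : ∀ (r : ℕ) [Fact r.Prime], r ^ (Nat.card G).factorization r ∣ x →
      ∀ g : G, r ∣ orderOf g → (χ : G → ℂ) g = 0 := by
    intro r _ hr g hg
    obtain ⟨M, hM⟩ := Cfsg.Lib.Block.exists_isPModular (Fact.out : r.Prime)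
    have hI := Cfsg.Lib.Block.vInt_singleton hM χ
      (((Fact.out : r.Prime).pow_dvd_iff_le_factorization hxpos.ne').1 hr)
    have h0 := Cfsg.Lib.Block.blockCoeff_eq_zero_of_dvd hM hI hg
    rw [Cfsg.blockCoeff, finsum_mem_singleton, mul_eq_zero, inv_eq_zero, mul_eq_zero] at h0
    rcases h0 with h0 | h0 | h0
    · exact absurd h0 hG0
    · exact absurd h0 χ.2.apply_one_ne_zero
    · simpa using h0
  have van2 : ∀ g : G, 2 ∣ orderOf g → (χ : G → ℂ) g = 0 := fun g hg => by
    haveI : Fact (Nat.Prime 2) := ⟨Nat.prime_two⟩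
    exact van 2 h2 g hg
  have hord : ∀ s c : G, orderOf s = 2 → Commute s c → ∀ r : ℕ, r.Prime → r ≠ 2 → r ∣ orderOf c →
      r ^ (Nat.card G).factorization r ∣ x := by
    intro s c hs hsc r hr hr2 hrc
    refine hp r hr hr2 ⟨s * c ^ (orderOf c / r), ?_⟩
    have h1 := orderOf_pow_orderOf_div (orderOf_pos c).ne' hrc
    rw [(hsc.pow_right _).orderOf_mul_eq_mul_orderOf_of_coprime (by
      rw [hs, h1]; exact (Nat.coprime_primes Nat.prime_two hr).2 hr2.symm), hs, h1]
  have vanC : ∀ s c : G, orderOf s = 2 → Commute s c → c ≠ 1 → (χ : G → ℂ) c = 0 := by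
    intro s c hs hsc hc
    obtain ⟨r, hr, hrc⟩ := Nat.exists_prime_and_dvd (mt orderOf_eq_one_iff.1 hc)
    by_cases hr2 : r = 2
    · exact van2 c (hr2 ▸ hrc)
    · haveI : Fact r.Prime := ⟨hr⟩
      exact van r (hord s c hs hsc r hr hr2 hrc) c hrc
  have hle : ∀ s : G, orderOf s = 2 → Nat.card (Subgroup.centralizer ({s} : Set G)) ≤ x := by
    intro s hs
    obtain ⟨m, hm⟩ := Cfsg.Lib.Block.exists_restrict_mult χ (Subgroup.centralizer ({s} : Set G))
    rw [finsum_eq_single _ (1 : Subgroup.centralizer ({s} : Set G)) (fun c hc => vanC s c hs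
      (Subgroup.mem_centralizer_iff.1 c.2 s rfl) fun h => hc (Subtype.ext h)),
      OneMemClass.coe_one, hx1] at hm
    refine Nat.le_of_dvd hxpos ⟨m, ?_⟩
    exact_mod_cast hm
  -- the indicator
  set T := (Finset.univ : Finset G).filter fun g => orderOf g = 2 with hT
  have hTmem : ∀ g : G, g ∈ T ↔ orderOf g = 2 := fun g => by simp [hT]
  obtain ⟨s₀, hs₀⟩ : ∃ s : G, orderOf s = 2 := by
    haveI : Fact (Nat.Prime 2) := ⟨Nat.prime_two⟩
    exact exists_prime_orderOf_dvd_card' 2 (even_iff_two_dvd.1 heven)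
  set O := (Finset.univ : Finset G).filter fun g => Odd (orderOf g) with hO
  have hOmem : ∀ g : G, g ∈ O ↔ Odd (orderOf g) := fun g => by simp [hO]
  have hoddsum : ∑ g ∈ O, (χ : G → ℂ) (g * g) = 0 := by
    have h1 : ∑ g : G, (χ : G → ℂ) g = 0 := by
      have h := Cfsg.Lib.Char.classInner_irr χ.2 (Cfsg.Lib.Char.isIrrCharacter_one (G := G))
      rw [if_neg (fun h1 : (χ : G → ℂ) = fun _ => 1 => one_ne_zero ((congrFun h1 s₀).symm.trans
        (van2 s₀ (hs₀ ▸ dvd_rfl)))), Cfsg.classInner, mul_eq_zero, inv_eq_zero] at h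
      rcases h with h | h
      · exact absurd h hG0
      · simpa [finsum_eq_sum_of_fintype] using h
    rw [← h1, ← Finset.sum_subset (Finset.subset_univ O) fun g _ hg => van2 g (by
      rw [hOmem, Nat.not_odd_iff_even, even_iff_two_dvd] at hg; exact hg)]
    have hsq : ∀ g ∈ O, orderOf (g * g) = orderOf g := fun g hg => by
      rw [← sq, Nat.Coprime.orderOf_pow ((Nat.coprime_two_right).2 ((hOmem g).1 hg))]
    refine Finset.sum_nbij' (fun g => g * g) (fun g => g ^ ((orderOf g + 1) / 2))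
      (fun g hg => ?_) (fun g hg => ?_) (fun g hg => ?_) (fun g hg => ?_) fun g _ => rfl
    · exact (hOmem _).2 ((hsq g hg).symm ▸ (hOmem g).1 hg)
    · refine (hOmem _).2 (Odd.of_dvd_nat ((hOmem g).1 hg) (orderOf_pow_dvd _))
    · show (g * g) ^ ((orderOf (g * g) + 1) / 2) = g
      obtain ⟨m, hm⟩ := (hOmem g).1 hg
      rw [hsq g hg, hm, show (2 * m + 1 + 1) / 2 = m + 1 by omega, ← sq, ← pow_mul,
        show 2 * (m + 1) = orderOf g + 1 by omega, pow_succ, pow_orderOf_eq_one, one_mul]
    · show g ^ ((orderOf g + 1) / 2) * g ^ ((orderOf g + 1) / 2) = g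
      obtain ⟨m, hm⟩ := (hOmem g).1 hg
      rw [hm, show (2 * m + 1 + 1) / 2 = m + 1 by omega, ← pow_add,
        show m + 1 + (m + 1) = orderOf g + 1 by omega, pow_succ, pow_orderOf_eq_one, one_mul]
  have hsum : ∑ g : G, (χ : G → ℂ) (g * g) = (T.card * x : ℕ) := by
    have hdisj : Disjoint T O := Finset.disjoint_left.2 fun g hg hg' => by
      rw [hTmem] at hg; rw [hOmem, hg] at hg'; exact absurd hg' (by decide)
    rw [← Finset.sum_subset (Finset.subset_univ (T ∪ O)) fun g _ hg => ?_,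
      Finset.sum_union hdisj, hoddsum, add_zero, Finset.sum_congr rfl fun g hg => ?_,
      Finset.sum_const, nsmul_eq_mul, Nat.cast_mul]
    · rw [show g * g = 1 from by rw [← sq, ← (hTmem g).1 hg, pow_orderOf_eq_one], hx1]
    · rw [Finset.mem_union, hTmem, hOmem, not_or, Nat.not_odd_iff_even, even_iff_two_dvd] at hg
      refine vanC (g ^ (orderOf g / 2)) (g * g) (orderOf_pow_orderOf_div (orderOf_pos g).ne' hg.2)
        (((Commute.refl g).pow_left _).mul_right ((Commute.refl g).pow_left _)) fun h => hg.1 ?_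
      refine Nat.dvd_antisymm (orderOf_dvd_of_pow_eq_one (by rw [sq]; exact h)) hg.2
  have hTpos : 0 < T.card := Finset.card_pos.2 ⟨s₀, (hTmem s₀).2 hs₀⟩
  have htx : T.card * x = Nat.card G ∧ ∑ g : G, (χ : G → ℂ) (g * g) = Nat.card G := by
    have hpos : (0 : ℕ) < T.card * x := Nat.mul_pos hTpos hxpos
    rcases Cfsg.Lib.Char.indicator_cases χ.2 with ⟨-, h⟩ | ⟨-, h | ⟨h, -⟩⟩
    · rw [hsum, Nat.cast_eq_zero] at h
      omega
    · exact ⟨by rw [hsum] at h; exact_mod_cast h, h⟩
    · rw [hsum, eq_neg_iff_add_eq_zero, ← Nat.cast_add, Nat.cast_eq_zero] at h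
      omega
  -- one class
  have hclass : ∀ s : G, orderOf s = 2 → Cfsg.Lib.Char.classFinset s ⊆ T ∧
      T.card ≤ (Cfsg.Lib.Char.classFinset s).card := by
    intro s hs
    refine ⟨fun g hg => ?_, ?_⟩
    · obtain ⟨c, rfl⟩ := isConj_iff.1 (Cfsg.Lib.Char.mem_classFinset.1 hg)
      rw [hTmem, ← hs]
      exact (MulAut.conj c).orderOf_eq s
    · rw [Cfsg.Lib.Char.card_classFinset]
      refine Nat.le_of_mul_le_mul_right ?_ hxpos
      rw [htx.1, ← Subgroup.index_mul_card (Subgroup.centralizer ({s} : Set G))]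
      exact Nat.mul_le_mul_left _ (hle s hs)
  refine ⟨fun s t hs ht => ?_, fun s hs => ?_, ?_⟩
  · obtain ⟨h1, h2'⟩ := hclass s hs
    exact Cfsg.Lib.Char.mem_classFinset.1 (Finset.eq_of_subset_of_card_le h1 h2' ▸ (hTmem t).2 ht)
  · obtain ⟨h1, h2'⟩ := hclass s hs
    have hi : (Subgroup.centralizer ({s} : Set G)).index = T.card := by
      rw [← Cfsg.Lib.Char.card_classFinset]
      exact le_antisymm (Finset.card_le_card h1) h2'
    have hC : Nat.card (Subgroup.centralizer ({s} : Set G)) = x := by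
      have h := Subgroup.index_mul_card (Subgroup.centralizer ({s} : Set G))
      rw [hi, ← htx.1] at h
      exact Nat.eq_of_mul_eq_mul_left hTpos h
    refine ⟨hC, Nat.coprime_of_dvd fun r hr hrC hri => ?_⟩
    have hfull : r ^ (Nat.card G).factorization r ∣ x := by
      by_cases hr2 : r = 2
      · exact hr2 ▸ h2
      · haveI : Fact r.Prime := ⟨hr⟩
        obtain ⟨c, hc⟩ := exists_prime_orderOf_dvd_card' r hrC
        exact hord s c hs (Subgroup.mem_centralizer_iff.1 c.2 s rfl) r hr hr2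
          (by rw [orderOf_submonoid, hc])
    rw [← hC, hr.pow_dvd_iff_le_factorization Nat.card_pos.ne',
      ← Subgroup.index_mul_card (Subgroup.centralizer ({s} : Set G)),
      Nat.factorization_mul Subgroup.index_ne_zero_of_finite Nat.card_pos.ne',
      Finsupp.add_apply] at hfull
    have := hr.factorization_pos_of_dvd Subgroup.index_ne_zero_of_finite hri
    omega
  · rw [htx.2, inv_mul_cancel₀ hG0]

end Cfsg.Agent.S4478
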