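import Cfsg.Statements.S4481
import Cfsg.Agent.Lib.Block.DihedralPrincipal

set_option autoImplicit false
open Cfsg

namespace Cfsg.Agent.S4481

/-- The principal 2-block of a group with dihedral Sylow 2-subgroups. Let G be a finite group whose Sylow 2-subgroup P is dihedral of order 2^n ≥ 8, let σ be an element of P of order 2^(n−1), ζ a primitive 2^(n−1)-th root of unity, and M a maximal ideal of the algebraic integers containing 2. Then the principal 2-block consists of exactly 3 + 2^(n−2) irreducible characters, which can be labelled 1, χ₁, χ₂, χ₃ and χ^(j) for 1 ≤ j ≤ 2^(n−2) − 1 (all distinct), with signs δ₁, δ₂, δ₃ such that for 0 < λ < 2^(n−1): χ₁(σ^λ) = δ₁, χ₂(σ^λ) = δ₂(−1)^(λ+1), χ₃(σ^λ) = δ₃(−1)^(λ+1) and χ^(j)(σ^λ) = δ₁(ζ^(jλ) + ζ^(−jλ)); and for every element ρ of odd order and every j: 1 + δ₁χ₁(ρ) = −δ₂χ₂(ρ) − δ₃χ₃(ρ)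 = δ₁χ^(j)(ρ). -/
theorem result {G : Type*} [Group G] [Finite G] (M : Ideal Cfsg.AlgInt) (hM : Cfsg.IsPModular 2 M) (n : ℕ) (hn : 3 ≤ n) (P : Sylow 2 G) (hP : Nonempty ((P : Subgroup G) ≃* DihedralGroup (2 ^ (n - 1)))) (σ : G) (hσ : σ ∈ (P : Subgroup G)) (hσo : orderOf σ = 2 ^ (n - 1)) (ζ : ℂ) (hζ : IsPrimitiveRoot ζ (2 ^ (n - 1))) : Nat.card (Cfsg.principalBlock M G) = 3 + 2 ^ (n - 2) ∧ ∃ (χ₁ χ₂ χ₃ : Cfsg.IrrCharacter G) (χ' : Fin (2 ^ (n - 2) - 1) → Cfsg.IrrCharacter G) (δ₁ δ₂ δ₃ : ℤ), (δ₁ = 1 ∨ δ₁ = -1) ∧ (δ₂ = 1 ∨ δ₂ = -1) ∧ (δ₃ = 1 ∨ δ₃ = -1) ∧ Function.Injective χ' ∧ (χ₁ : G → ℂ) ≠ (fun _ => 1) ∧ (χ₂ : G → ℂ) ≠ (fun _ => 1) ∧ (χ₃ : G → ℂ) ≠ (fun _ => 1) ∧ χ₁ ≠ χ₂ ∧ χ₁ ≠ χ₃ ∧ χ₂ ≠ χ₃ ∧ (∀ j, χ' j ≠ χ₁ ∧ χ' j ≠ χ₂ ∧ χ' j ≠ χ₃ ∧ (χ' j : G → ℂ) ≠ (fun _ => 1)) ∧ Cfsg.principalBlock M G = {χ : Cfsg.IrrCharacter G | (χ : G → ℂ) = (fun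 _ => 1) ∨ χ = χ₁ ∨ χ = χ₂ ∨ χ = χ₃ ∨ ∃ j, χ = χ' j} ∧ (∀ l : ℕ, 0 < l → l < 2 ^ (n - 1) → (χ₁ : G → ℂ) (σ ^ l) = δ₁ ∧ (χ₂ : G → ℂ) (σ ^ l) = δ₂ * (-1) ^ (l + 1) ∧ (χ₃ : G → ℂ) (σ ^ l) = δ₃ * (-1) ^ (l + 1) ∧ ∀ j : Fin (2 ^ (n - 2) - 1), (χ' j : G → ℂ) (σ ^ l) = δ₁ * (ζ ^ (((j : ℕ) + 1) * l) + (ζ ^ (((j : ℕ) + 1) * l))⁻¹)) ∧ ∀ ρ : G, Odd (orderOf ρ) → ∀ j : Fin (2 ^ (n - 2) - 1), 1 + δ₁ * (χ₁ : G → ℂ) ρ = -δ₂ * (χ₂ : G → ℂ) ρ - δ₃ * (χ₃ : G → ℂ) ρ ∧ 1 + δ₁ * (χ₁ : G → ℂ) ρ = δ₁ * (χ' j : G → ℂ) ρ := by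
  classical
  letI : Fintype G := Fintype.ofFinite G
  haveI : Fact (Nat.Prime 2) := ⟨Nat.prime_two⟩
  obtain ⟨e⟩ := hP
  obtain ⟨m, hm⟩ : ∃ m, m = 2 ^ (n - 1) := ⟨_, rfl⟩
  rw [← hm] at e hσo hζ ⊢
  have hh2 : 2 * 2 ^ (n - 2) = m := by rw [hm, ← pow_succ']; congr 1; omega
  have h2h : 2 ≤ 2 ^ (n - 2) := le_trans (by norm_num) (Nat.pow_le_pow_right two_pos (by omega : 1 ≤ n - 2))
  haveI : NeZero m := ⟨by omega⟩
  obtain ⟨s, hs⟩ : ∃ s : DihedralGroup m, s = e ⟨σ, hσ⟩ := ⟨_, rfl⟩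
  have hso : orderOf s = m := by rw [hs, MulEquiv.orderOf_eq, Subgroup.orderOf_mk, hσo]
  obtain ⟨k, hk⟩ : ∃ k, s = DihedralGroup.r k := by
    rcases hsr : s with k | k
    · exact ⟨k, rfl⟩
    · rw [hsr, DihedralGroup.orderOf_sr] at hso; omega
  have hgen : Subgroup.zpowers s = Subgroup.zpowers (DihedralGroup.r (1 : ZMod m)) := by
    refine Subgroup.eq_of_le_of_card_ge (Subgroup.zpowers_le.2 ⟨(k.val : ℤ), ?_⟩) ?_
    · show DihedralGroup.r (1 : ZMod m) ^ (k.val : ℤ) = s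
      rw [hk, zpow_natCast, DihedralGroup.r_one_pow, ZMod.natCast_zmod_val]
    · rw [Nat.card_zpowers, Nat.card_zpowers, DihedralGroup.orderOf_r_one, hso]
  have hmem : ∀ j : ZMod m, DihedralGroup.r j ∈ Subgroup.zpowers s := fun j => by
    rw [hgen]
    exact ⟨(j.val : ℤ), by
      show DihedralGroup.r (1 : ZMod m) ^ (j.val : ℤ) = _
      rw [zpow_natCast, DihedralGroup.r_one_pow, ZMod.natCast_zmod_val]⟩
  have hback : ∀ x : (P : Subgroup G), e x ∈ Subgroup.zpowers s → (x : G) ∈ Subgroup.zpowers σ := by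
    intro x hx
    obtain ⟨i, hi⟩ := Subgroup.mem_zpowers_iff.1 hx
    rw [hs, ← map_zpow] at hi
    exact ⟨i, by have := congrArg Subtype.val (e.injective hi); simpa using this⟩
  obtain ⟨t, ht⟩ : ∃ t : (P : Subgroup G), t = e.symm (DihedralGroup.sr 0) := ⟨_, rfl⟩
  have het : e t = DihedralGroup.sr 0 := by rw [ht, MulEquiv.apply_symm_apply]
  have D : Lib.Block.DihSylow P σ (t : G) (2 ^ (n - 2)) := by
    refine ⟨(Nat.even_pow.2 ⟨even_two, by omega⟩), h2h, hσ, t.2, by omega, ?_, ?_, ?_, ?_⟩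
    · exact congrArg Subtype.val (show t * t = 1 from e.injective (by
        rw [map_mul, map_one, het, DihedralGroup.sr_mul_self]))
    · exact congrArg Subtype.val (show t * (⟨σ, hσ⟩ : (P : Subgroup G)) * t⁻¹ = ⟨σ, hσ⟩⁻¹ from
        e.injective (by
          rw [map_mul, map_mul, map_inv, map_inv, het, ← hs, hk, DihedralGroup.inv_sr,
            DihedralGroup.sr_mul_r, DihedralGroup.sr_mul_sr, DihedralGroup.inv_r]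
          simp))
    · intro x hx
      rcases hex : e ⟨x, hx⟩ with j | j
      · exact Or.inl (hback ⟨x, hx⟩ (hex ▸ hmem j))
      · refine Or.inr (hback (⟨x, hx⟩ * t) ?_)
        rw [map_mul, hex, het, DihedralGroup.sr_mul_sr]
        exact hmem _
    · rw [Nat.card_congr e.toEquiv, DihedralGroup.nat_card]; omega
  obtain ⟨χ₁, χ₂, χ₃, χ', δ₁, δ₂, δ₃, d1, d2, d3, hinj, n1, n2, n3, n12, n13, n23, hne, hset,
    hcard, hval, hreg⟩ := D.principal_shape hM (ζ := ζ) (by rw [hh2]; exact hζ)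
  have htriv : ∀ χ : IrrCharacter G, (χ : G → ℂ) = (fun _ => 1) ↔ χ = Lib.Block.trivChar G := fun χ => by
    constructor
    · exact fun h => Subtype.ext (h.trans Lib.Block.trivChar_coe.symm)
    · rintro rfl; exact Lib.Block.trivChar_coe
  refine ⟨by rw [hcard]; omega, χ₁, χ₂, χ₃, χ', δ₁, δ₂, δ₃, d1, d2, d3, hinj,
    fun h => n1 ((htriv _).1 h), fun h => n2 ((htriv _).1 h), fun h => n3 ((htriv _).1 h),
    n12, n13, n23, fun j => ⟨(hne j).1, (hne j).2.1, (hne j).2.2.1,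
      fun h => (hne j).2.2.2 ((htriv _).1 h)⟩, ?_, fun l h0 hl => hval l h0 (by omega),
    fun ρ hρ j => ?_⟩
  · rw [hset]
    ext χ
    simp only [Set.mem_setOf_eq, htriv]
  · have hreg2 : IsPRegular 2 ρ := fun hd => by
      obtain ⟨a, ha⟩ := hρ
      omega
    exact ⟨(hreg ρ hreg2).1, (hreg ρ hreg2).2 j⟩

end Cfsg.Agent.S4481
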