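import Cfsg.Statements.S4483
import Cfsg.Agent.Lib.Block.Principal
import Cfsg.Agent.Lib.Char.PermLemma

set_option autoImplicit false
open Cfsg

namespace Cfsg.Agent.S4483

/-- Let G be a finite group of order 2^n·g₀ with g₀ odd, and M a maximal ideal of the algebraic integers containing 2. Every real-valued irreducible character of G of odd degree lies in the principal 2-block; consequently G has at most 2^(2n) real-valued irreducible characters of odd degree. -/
theorem result {G : Type*} [Group G] [Finite G] (M : Ideal Cfsg.AlgInt) (hM : Cfsg.IsPModular 2 M) : (∀ χ : Cfsg.IrrCharacter G, (∀ g : G, ((χ : G → ℂ) g).im = 0) → Odd (Cfsg.charDegree (χ : G → ℂ)) → χ ∈ Cfsg.principalBlock M G) ∧ Nat.card {χ : Cfsg.IrrCharacter G // (∀ g : G, ((χ : G → ℂ) g).im = 0) ∧ Odd (Cfsg.charDegree (χ : G → ℂ))} ≤ 2 ^ (2 * (Nat.card G).factorization 2) := by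
  haveI := Fintype.ofFinite G
  haveI : Fact (Nat.Prime 2) := ⟨Nat.prime_two⟩
  classical
  have hmem : ∀ χ : IrrCharacter G, (∀ g : G, ((χ : G → ℂ) g).im = 0) →
      Odd (charDegree (χ : G → ℂ)) → χ ∈ principalBlock M G := fun χ hreal hodd =>
    Lib.Block.mem_principal_two_of_real hM χ (fun g _ => by
      rw [χ.2.isCharacter.apply_inv]; exact Complex.conj_eq_iff_im.2 (hreal g)) hodd
  refine ⟨hmem, ?_⟩
  have h1 : Nat.card {χ : IrrCharacter G // (∀ g : G, ((χ : G → ℂ) g).im = 0) ∧
      Odd (charDegree (χ : G → ℂ))} ≤ Nat.card (principalBlock M G) :=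
    Nat.card_le_card_of_injective (fun χ => ⟨χ.1, hmem χ.1 χ.2.1 χ.2.2⟩)
      fun a b h => Subtype.ext (congrArg (fun x : principalBlock M G => x.1) h)
  have h2 := Lib.Block.card_block_le hM (Lib.Block.isPBlock_principal (M := M) (G := G))
  have h3 : 2 ^ (2 * blockDefect 2 (principalBlock M G)) ≤
      2 ^ (2 * (Nat.card G).factorization 2) :=
    Nat.pow_le_pow_right (by norm_num)
      (Nat.mul_le_mul_left 2 (by rw [Lib.Block.blockDefect_eq]; omega))
  have h4 : 0 < 2 ^ (2 * (Nat.card G).factorization 2) := Nat.pow_pos (by norm_num)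
  rcases Nat.eq_zero_or_pos ((Nat.card G).factorization 2) with h5 | h5
  · rw [h5, mul_zero, pow_zero] at h3 h4 ⊢
    omega
  · have h6 : 4 ∣ 2 ^ (2 * (Nat.card G).factorization 2) :=
      pow_dvd_pow 2 (show 2 ≤ 2 * (Nat.card G).factorization 2 by omega)
    omega

end Cfsg.Agent.S4483
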