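import Cfsg.Statements.S4484
import Cfsg.Agent.Lib.Block.Vanish
import Cfsg.Agent.Lib.Block.PPart
import Cfsg.Agent.Lib.Block.RegInt
import Cfsg.Agent.Lib.Char.SmallEigen
import Cfsg.Agent.Lib.Char.Burnside
import Cfsg.Agent.Lib.Core.Fitting
-- import your own Cfsg.Agent.* helpers here

set_option autoImplicit false
open Cfsg

namespace Cfsg.Agent.S4484

open Cfsg.Lib
open scoped ComplexConjugate InnerProductSpace

universe u

theorem norm_exp_sub_one_lt {θ : ℝ} (h : |θ| < Real.pi / 3) :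
    ‖Complex.exp ((θ : ℂ) * Complex.I) - 1‖ < 1 := by
  refine lt_of_pow_lt_pow_left₀ 2 (by norm_num) ?_
  rw [← Complex.normSq_eq_norm_sq, Complex.normSq_apply]
  simp only [Complex.sub_re, Complex.sub_im, Complex.exp_ofReal_mul_I_re, Complex.exp_ofReal_mul_I_im,
    Complex.one_re, Complex.one_im, sub_zero]
  have hcos : (1 : ℝ) / 2 < Real.cos θ := by
    rw [← Real.cos_pi_div_three, ← Real.cos_abs θ]
    exact Real.cos_lt_cos_of_nonneg_of_le_pi (abs_nonneg _) (by linarith [Real.pi_pos]) h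
  have h1 := Real.cos_sq_add_sin_sq θ
  nlinarith

/-- Few roots of unity can be moved simultaneously into an arc. -/
theorem exists_short_power {p : ℕ} (hp : p.Prime) {ζ : ℂ}
    (hζ : ζ = Complex.exp (2 * Real.pi * Complex.I / p)) (L : Finset ℕ) (hL : 6 ^ L.card < p) :
    ∃ m, 0 < m ∧ m < p ∧ ∀ l ∈ L, ‖(ζ ^ l) ^ m - 1‖ < 1 := by
  classical
  have hp0 : 0 < p := hp.pos
  have hζp : ζ ^ p = 1 := hζ ▸ (Complex.isPrimitiveRoot_exp p hp0.ne').pow_eq_one
  let box : Fin p → L → Fin 6 := fun m l => ⟨(((l : ℕ) * m) % p) * 6 / p, by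
    rw [Nat.div_lt_iff_lt_mul hp0]
    have := Nat.mod_lt ((l : ℕ) * m) hp0
    omega⟩
  obtain ⟨m₁, m₂, hne, hbox⟩ := Fintype.exists_ne_map_eq_of_card_lt box (by
    simpa [Fintype.card_fin, Fintype.card_coe] using hL)
  wlog hlt : (m₁ : ℕ) < m₂ generalizing m₁ m₂
  · exact this m₂ m₁ hne.symm hbox.symm
      (lt_of_le_of_ne (not_lt.1 hlt) fun e => hne (Fin.ext e.symm))
  refine ⟨(m₂ : ℕ) - m₁, by omega, by omega, fun l hl => ?_⟩
  have hb := congrArg Fin.val (congrFun hbox ⟨l, hl⟩)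
  simp only [box] at hb
  set x₁ := (l * (m₁ : ℕ)) % p with hx₁
  set x₂ := (l * (m₂ : ℕ)) % p with hx₂
  have e0 : ∀ k, ζ ^ k = ζ ^ (k % p) := fun k => by
    conv_lhs => rw [← Nat.mod_add_div k p, pow_add, pow_mul, hζp, one_pow, mul_one]
  have e1 : (ζ ^ l) ^ ((m₂ : ℕ) - m₁) * ζ ^ x₁ = ζ ^ x₂ := by
    rw [hx₁, hx₂, ← e0, ← e0, ← pow_mul, ← pow_add, ← mul_add, Nat.sub_add_cancel hlt.le]
  have d1 := Nat.div_add_mod (x₁ * 6) p
  have d2 := Nat.div_add_mod (x₂ * 6) p
  have r1 := Nat.mod_lt (x₁ * 6) hp0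
  have r2 := Nat.mod_lt (x₂ * 6) hp0
  rw [hb] at d1
  have hsmall : |((x₂ : ℤ) : ℝ) - ((x₁ : ℤ) : ℝ)| < (p : ℝ) / 6 := by
    have h1 : |((x₂ : ℤ) - x₁) * 6| < (p : ℤ) := by
      rw [abs_lt]
      constructor <;> omega
    rw [abs_lt] at h1 ⊢
    obtain ⟨a, b⟩ := h1
    have a' : (-(p : ℝ)) < (((x₂ : ℤ) : ℝ) - ((x₁ : ℤ) : ℝ)) * 6 := by exact_mod_cast a
    have b' : (((x₂ : ℤ) : ℝ) - ((x₁ : ℤ) : ℝ)) * 6 < (p : ℝ) := by exact_mod_cast b
    constructor <;> linarith
  have e2 : (ζ ^ l) ^ ((m₂ : ℕ) - m₁) =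
      Complex.exp (((2 * Real.pi * ((((x₂ : ℤ) : ℝ) - ((x₁ : ℤ) : ℝ))) / p : ℝ) : ℂ) * Complex.I) := by
    have hne0 : ζ ^ x₁ ≠ 0 := pow_ne_zero _ (hζ ▸ Complex.exp_ne_zero _)
    rw [← mul_left_inj' hne0, e1, hζ, ← Complex.exp_nat_mul, ← Complex.exp_nat_mul, ← Complex.exp_add]
    congr 1
    push_cast
    field_simp
    ring
  rw [e2]
  refine norm_exp_sub_one_lt ?_
  have hpR : (0 : ℝ) < p := by exact_mod_cast hp0
  rw [abs_div, abs_mul, abs_of_pos Real.two_pi_pos, abs_of_pos hpR, div_lt_iff₀ hpR]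
  nlinarith [Real.pi_pos]

section

variable {G : Type u} [Group G] [Fintype G] {n : ℕ} (ρ : Representation ℂ G (Fin n → ℂ))

/-- Blichfeldt: in a simple group no element has all eigenvalues close to one of them. -/
theorem blichfeldt [IsSimpleGroup G] [ρ.IsIrreducible] {w : G} (hw : w ≠ 1) {ι : Type} [Fintype ι]
    (b : Module.Basis ι ℂ (Fin n → ℂ)) (μ : ι → ℂ) (hb : ∀ i, ρ w (b i) = μ i • b i)
    {o : ℕ} (ho : 0 < o) (hμ : ∀ i, μ i ^ o = 1) (hwo : w ^ o = 1) (i₀ : ι) (hclose : ∀ i, ‖μ i - μ i₀‖ < 1) :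
    ∃ c : ℂ, ρ w = c • LinearMap.id := by
  classical
  haveI : Nonempty ι := ⟨i₀⟩
  set c₀ := μ i₀ with hc₀
  obtain ⟨j, hj⟩ := Finite.exists_max fun i => ‖μ i - c₀‖
  set ε := ‖μ j - c₀‖ with hε
  have hε1 : ε < 1 := hclose j
  have hε0 : 0 ≤ ε := norm_nonneg _
  have hnorm : ∀ i, ‖μ i‖ = 1 := fun i => Complex.norm_eq_one_of_pow_eq_one (hμ i) ho.ne'
  have hc0 : c₀ ≠ 0 := fun e => by have := hnorm i₀; rw [← hc₀, e, norm_zero] at this; exact zero_ne_one this
  let N : (Fin n → ℂ) → ℝ := fun v => ‖Char.unitMap ρ v‖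
  have hNρ : ∀ g v, N (ρ g v) = N v := fun g v => Char.norm_unitMap ρ g v
  -- the projection on the eigenspace of `c₀`
  let P : Module.End ℂ (Fin n → ℂ) := (o : ℂ)⁻¹ • ∑ k ∈ Finset.range o, (c₀⁻¹) ^ k • ρ (w ^ k)
  have hPb : ∀ i, P (b i) = if μ i = c₀ then b i else 0 := by
    intro i
    have hk : ∀ k, ρ (w ^ k) (b i) = μ i ^ k • b i := by
      intro k
      induction k with
      | zero => simp
      | succ m ih => rw [pow_succ, map_mul, Module.End.mul_apply, hb, map_smul, ih, smul_smul, pow_succ']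
    simp only [P, LinearMap.smul_apply, LinearMap.coe_sum, Finset.sum_apply, hk, smul_smul, ← mul_pow,
      ← Finset.sum_smul]
    split_ifs with h
    · rw [h, inv_mul_cancel₀ hc0]
      simp [ho.ne']
    · have h1 : c₀⁻¹ * μ i ≠ 1 := fun e => h (by rwa [inv_mul_eq_one₀ hc0, eq_comm] at e)
      rw [geom_sum_eq h1, mul_pow, hμ, inv_pow, hμ, inv_one, one_mul, sub_self, zero_div, mul_zero, zero_smul]
  -- eigencomponents
  let C : Finset ℂ := Finset.univ.image μ
  let Y : ℂ → (Fin n → ℂ) → (Fin n → ℂ) := fun c v => ∑ i ∈ Finset.univ.filter (μ · = c), b.repr v i • b i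
  have hY : ∀ v, ∑ c ∈ C, Y c v = v := fun v => by
    simp only [Y, C]
    rw [Finset.sum_fiberwise_of_maps_to (fun i _ => Finset.mem_image_of_mem μ (Finset.mem_univ i)), b.sum_repr]
  have hPY : ∀ v, P v = Y c₀ v := fun v => by
    conv_lhs => rw [← b.sum_repr v]
    simp only [map_sum, map_smul, hPb, Y, Finset.sum_filter, smul_ite, smul_zero]
  have hWY : ∀ c v, ρ w (Y c v) = c • Y c v := fun c v => by
    simp only [Y, map_sum, map_smul, hb, Finset.smul_sum, smul_smul]
    refine Finset.sum_congr rfl fun i hi => ?_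
    rw [(Finset.mem_filter.1 hi).2, mul_comm]
  have horth : ∀ c ∈ C, ∀ d ∈ C, c ≠ d → ∀ v v', ⟪Char.unitMap ρ (Y c v), Char.unitMap ρ (Y d v')⟫_ℂ = 0 := by
    intro c hc d hd hcd v v'
    obtain ⟨i, -, rfl⟩ := Finset.mem_image.1 hc
    have h1 := Char.inner_unitMap ρ w (Y (μ i) v) (Y d v')
    rw [hWY, hWY, map_smul, map_smul, inner_smul_left, inner_smul_right, ← mul_assoc] at h1
    by_contra h0
    have h2 := (mul_eq_right₀ h0).mp h1
    apply hcd
    calc μ i = μ i * (conj (μ i) * d) := by rw [h2, mul_one]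
      _ = d := by rw [← mul_assoc, Complex.mul_conj', hnorm]; simp
  have hsq : ∀ (f : ℂ → ℂ) v, ‖∑ c ∈ C, f c • Char.unitMap ρ (Y c v)‖ ^ 2 =
      ∑ c ∈ C, ‖f c‖ ^ 2 * N (Y c v) ^ 2 := by
    intro f v
    rw [← Finset.sum_attach C (fun c => ‖f c‖ ^ 2 * N (Y c v) ^ 2), ← Finset.sum_attach C, ← Finset.univ_eq_attach,
      Char.norm_sum_sq_of_orth (fun c : C => f c • Char.unitMap ρ (Y c v)) (fun c d hcd => by
        rw [inner_smul_left, inner_smul_right, horth c c.2 d d.2 (fun e => hcd (Subtype.ext e)), mul_zero, mul_zero])]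
    exact Finset.sum_congr rfl fun c _ => by rw [norm_smul, mul_pow]
  have hrest : ∀ v, Char.unitMap ρ (v - P v) = ∑ c ∈ C, (if c = c₀ then 0 else 1 : ℂ) • Char.unitMap ρ (Y c v) := by
    intro v
    have hmem : c₀ ∈ C := Finset.mem_image_of_mem μ (Finset.mem_univ i₀)
    have hv' : v - P v = ∑ c ∈ C.erase c₀, Y c v := by
      rw [Finset.sum_erase_eq_sub hmem, hY, hPY]
    rw [hv', map_sum, ← Finset.sum_erase C (a := c₀) (by simp)]
    exact Finset.sum_congr rfl fun c hc => by rw [if_neg (Finset.ne_of_mem_erase hc), one_smul]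
  have hle : ∀ v, N (v - P v) ≤ N v := by
    intro v
    refine le_of_pow_le_pow_left₀ two_ne_zero (norm_nonneg _) ?_
    have h1 : Char.unitMap ρ v = ∑ c ∈ C, (1 : ℂ) • Char.unitMap ρ (Y c v) := by
      conv_lhs => rw [← hY v, map_sum]
      simp
    simp only [N]
    rw [hrest, h1, hsq, hsq]
    refine Finset.sum_le_sum fun c _ => ?_
    split_ifs <;> simp [sq_nonneg]
  have hcontr : ∀ v, N (ρ w v - c₀ • v) ≤ ε * N (v - P v) := by
    intro v
    refine le_of_pow_le_pow_left₀ two_ne_zero (mul_nonneg hε0 (norm_nonneg _)) ?_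
    have h1 : Char.unitMap ρ (ρ w v - c₀ • v) = ∑ c ∈ C, (c - c₀) • Char.unitMap ρ (Y c v) := by
      conv_lhs => rw [← hY v, map_sum, Finset.smul_sum, ← Finset.sum_sub_distrib, map_sum]
      exact Finset.sum_congr rfl fun c _ => by rw [hWY, ← sub_smul, map_smul]
    simp only [N]
    rw [mul_pow, h1, hrest, hsq, hsq, Finset.mul_sum]
    refine Finset.sum_le_sum fun c hc => ?_
    obtain ⟨i, -, rfl⟩ := Finset.mem_image.1 hc
    split_ifs with h
    · simp [h]
    · rw [norm_one, one_pow, one_mul]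
      exact mul_le_mul_of_nonneg_right (pow_le_pow_left₀ (norm_nonneg _) (hj i) 2) (sq_nonneg _)
  have hPP : ∀ v, P (P v) = P v := fun v => by
    conv_lhs => rw [hPY v]
    simp only [Y, map_sum]
    rw [hPY v]
    simp only [Y]
    exact Finset.sum_congr rfl fun i hi => by rw [map_smul, hPb, if_pos (Finset.mem_filter.1 hi).2]
  -- the subspace
  let U : Submodule ℂ (Fin n → ℂ) := LinearMap.range P
  have hUfix : ∀ u, u ∈ U ↔ P u = u := fun u => ⟨fun ⟨x, hx⟩ => by rw [← hx, hPP], fun h => ⟨u, h⟩⟩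
  have hUw : ∀ u ∈ U, ρ w u = c₀ • u := fun u hu => by
    rw [← (hUfix u).1 hu, hPY, hWY]
  let St : G → Prop := fun a => ∀ u ∈ U, ρ a u ∈ U
  have hStmul : ∀ a a', St a → St a' → St (a * a') := fun a a' h h' u hu => by
    rw [map_mul, Module.End.mul_apply]; exact h _ (h' u hu)
  have hSt1 : St 1 := fun u hu => by simpa using hu
  have hStinv : ∀ a, St a → St a⁻¹ := fun a h => by
    rw [inv_eq_of_mul_eq_one_right (show a * a ^ (orderOf a - 1) = 1 by
      rw [← pow_succ', Nat.sub_add_cancel (orderOf_pos a), pow_orderOf_eq_one])]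
    generalize orderOf a - 1 = k
    induction k with
    | zero => simpa using hSt1
    | succ k ih => rw [pow_succ]; exact hStmul _ _ ih h
  have hStw : St w := fun u hu => by rw [hUw u hu]; exact U.smul_mem _ hu
  let next : G → G := fun a => a⁻¹ * w * a
  have key : ∀ a, St (next a) := by
    intro a
    let s : ℕ → G := fun k => next^[k] a
    have hs : ∀ k, s (k + 1) = next (s k) := fun k => Function.iterate_succ_apply' next k a
    have hbound : ∀ k, ∀ u ∈ U, N (ρ (s k) u - P (ρ (s k) u)) ≤ ε ^ k * N u := by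
      intro k
      induction k with
      | zero => intro u _; rw [pow_zero, one_mul, ← hNρ (s 0) u]; exact hle _
      | succ k ih =>
        intro u hu
        set v := ρ (s k) u with hv
        set x := ρ (s (k + 1)) u with hx
        have e1 : x = ρ (s k)⁻¹ (ρ w v) := by
          rw [hx, hs, hv, ← Module.End.mul_apply, ← Module.End.mul_apply, ← map_mul, ← map_mul]
        have e2 : c₀ • u = ρ (s k)⁻¹ (c₀ • v) := by
          rw [map_smul, hv, ← Module.End.mul_apply, ← map_mul, inv_mul_cancel, map_one, Module.End.one_apply]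
        have e3 : x - P x = (x - c₀ • u) - P (x - c₀ • u) := by
          rw [map_sub, map_smul, (hUfix u).1 hu]; abel
        rw [e3]
        refine (hle _).trans ?_
        rw [e1, e2, ← map_sub, hNρ]
        refine (hcontr v).trans ?_
        rw [pow_succ', mul_assoc]
        exact mul_le_mul_of_nonneg_left (ih u hu) hε0
    obtain ⟨i, l, hil, hsil⟩ : ∃ i l, i < l ∧ s i = s l := by
      obtain ⟨i, l, hne, e⟩ := Finite.exists_ne_map_eq_of_infinite s
      rcases lt_or_gt_of_ne hne with h | h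
      exacts [⟨i, l, h, e⟩, ⟨l, i, h, e.symm⟩]
    have hper : ∀ r, s (i + r * (l - i)) = s i := by
      intro r
      induction r with
      | zero => simp
      | succ r ih =>
        have e : i + (r + 1) * (l - i) = (l - i) + (i + r * (l - i)) := by ring
        show next^[i + (r + 1) * (l - i)] a = s i
        rw [e, Function.iterate_add_apply]
        show next^[l - i] (s (i + r * (l - i))) = s i
        rw [ih]
        show next^[l - i] (next^[i] a) = s i
        rw [← Function.iterate_add_apply, Nat.sub_add_cancel hil.le]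
        exact hsil.symm
    have hex : ∃ k, St (s k) := by
      refine ⟨i, fun u hu => (hUfix _).2 ?_⟩
      by_contra h
      have hpos : 0 < N (ρ (s i) u - P (ρ (s i) u)) :=
        Char.norm_unitMap_pos ρ (sub_ne_zero.2 (Ne.symm h))
      obtain ⟨r, hr⟩ : ∃ r, ε ^ r * N u < N (ρ (s i) u - P (ρ (s i) u)) := by
        by_cases hu0 : N u = 0
        · exact ⟨0, by rw [hu0, mul_zero]; exact hpos⟩
        · have hNu : 0 < N u := lt_of_le_of_ne (norm_nonneg _) (Ne.symm hu0)
          obtain ⟨r, hr⟩ := exists_pow_lt_of_lt_one (div_pos hpos hNu) hε1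
          exact ⟨r, (lt_div_iff₀ hNu).1 hr⟩
      have h1 := hbound (i + r * (l - i)) u hu
      rw [hper] at h1
      have h2 : ε ^ (i + r * (l - i)) ≤ ε ^ r := pow_le_pow_of_le_one hε0 hε1.le (by
        have : r * 1 ≤ r * (l - i) := Nat.mul_le_mul_left r (by omega)
        omega)
      nlinarith [norm_nonneg (Char.unitMap ρ u), mul_le_mul_of_nonneg_right h2 (norm_nonneg (Char.unitMap ρ u))]
    classical
    have hk := Nat.find_spec hex
    rcases Nat.lt_or_ge (Nat.find hex) 2 with h2 | h2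
    · rcases Nat.lt_or_ge (Nat.find hex) 1 with h1 | h1
      · rw [Nat.lt_one_iff.1 h1] at hk
        exact hStmul _ _ (hStmul _ _ (hStinv a hk) hStw) hk
      · rw [show Nat.find hex = 1 by omega] at hk
        exact hk
    · exfalso
      obtain ⟨k, hke⟩ : ∃ k, Nat.find hex = k + 1 + 1 := ⟨Nat.find hex - 2, by omega⟩
      have hnot : ¬ St (s (k + 1)) := Nat.find_min hex (by omega)
      rw [hke, hs] at hk
      apply hnot
      intro u hu
      refine (hUfix _).2 ?_
      by_contra hne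
      -- the image of `U` is invariant under `w`
      have hinv : ∀ x ∈ U.map (ρ (s (k + 1))), ρ w x ∈ U.map (ρ (s (k + 1))) := by
        rintro _ ⟨y, hy, rfl⟩
        refine ⟨ρ (next (s (k + 1))) y, hk y hy, ?_⟩
        rw [← Module.End.mul_apply, ← Module.End.mul_apply, ← map_mul, ← map_mul]
        congr 2
        simp only [next]
        group
      have hinvk : ∀ m, ∀ x ∈ U.map (ρ (s (k + 1))), ρ (w ^ m) x ∈ U.map (ρ (s (k + 1))) := by
        intro m
        induction m with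
        | zero => intro x hx; simpa using hx
        | succ m ih => intro x hx; rw [pow_succ', map_mul, Module.End.mul_apply]; exact hinv _ (ih x hx)
      have hr : ρ (s (k + 1)) u - P (ρ (s (k + 1)) u) ∈ U.map (ρ (s (k + 1))) := by
        refine sub_mem ⟨u, hu, rfl⟩ ?_
        simp only [P, LinearMap.smul_apply, LinearMap.coe_sum, Finset.sum_apply]
        exact Submodule.smul_mem _ _ (sum_mem fun m _ => Submodule.smul_mem _ _ (hinvk m _ ⟨u, hu, rfl⟩))
      obtain ⟨u', hu', he⟩ := hr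
      have h1 := hbound (k + 1) u' hu'
      rw [he, map_sub, hPP, sub_self, sub_zero, ← hNρ (s (k + 1)) u', he] at h1
      have hpos : 0 < N (ρ (s (k + 1)) u - P (ρ (s (k + 1)) u)) :=
        Char.norm_unitMap_pos ρ (sub_ne_zero.2 (Ne.symm hne))
      have h3 : ε ^ (k + 1) < 1 := pow_lt_one₀ hε0 hε1 (Nat.succ_ne_zero k)
      nlinarith
  have hall : ∀ g, St g := by
    have htop : Subgroup.normalClosure ({w} : Set G) = ⊤ :=
      (Subgroup.Normal.eq_bot_or_eq_top Subgroup.normalClosure_normal).resolve_left fun h => hw (by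
        have := Subgroup.subset_normalClosure (s := ({w} : Set G)) rfl
        rwa [h, SetLike.mem_coe, Subgroup.mem_bot] at this)
    intro g
    have hg : g ∈ Subgroup.normalClosure ({w} : Set G) := htop ▸ Subgroup.mem_top g
    refine (Subgroup.closure_le ({ carrier := {x | St x}, one_mem' := hSt1, mul_mem' := fun {x y} => hStmul x y, inv_mem' := fun {x} => hStinv x } : Subgroup G)).2 ?_ hg
    intro x hx
    obtain ⟨y, hy, hc⟩ := Group.mem_conjugatesOfSet_iff.1 hx
    rw [Set.mem_singleton_iff] at hy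
    subst hy
    obtain ⟨h, rfl⟩ := isConj_iff.1 hc
    simpa [next] using key h⁻¹
  have hU : U = ⊤ := by
    refine (((Char.isIrreducible_iff_submodule ρ).1 inferInstance).2 U hall).resolve_left fun h => ?_
    have : b i₀ ∈ U := (hUfix _).2 (by rw [hPb, if_pos rfl])
    rw [h, Submodule.mem_bot] at this
    exact b.ne_zero i₀ this
  exact ⟨c₀, LinearMap.ext fun v => by
    rw [hUw v (hU ▸ Submodule.mem_top), LinearMap.smul_apply, LinearMap.id_apply]⟩

end

/-- An irreducible character of the principal block with nonzero value and degree prime to `q`. -/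
theorem exists_char {G : Type u} [Group G] [Fintype G] {p q : ℕ} [Fact p.Prime] (hq : q.Prime)
    {M : Ideal AlgInt} (hM : IsPModular p M) {z : G} (hz : orderOf z = p) :
    ∃ χ : IrrCharacter G, χ ∈ principalBlock M G ∧ (χ : G → ℂ) ≠ (fun _ => 1) ∧ (χ : G → ℂ) z ≠ 0 ∧
      ¬ q ∣ charDegree (χ : G → ℂ) := by
  classical
  by_contra hcon
  push Not at hcon
  refine Char.not_isIntegral_one_div_prime hq ?_
  have hne : ¬ IsConj (Block.pPt p z) (Block.pPt p (1 : G))⁻¹ := by
    rw [(Block.pPt_eq_one_iff (1 : G)).2 (by rw [orderOf_one]; exact (Fact.out : p.Prime).not_dvd_one), inv_one]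
    intro hc
    rw [isConj_one_left, Block.pPt_eq_one_iff] at hc
    exact hc (hz ▸ dvd_rfl)
  have hsum := Block.sum_block_mul_eq_zero hM (Block.vInt_indVec hM (Block.isPBlock_principal (G := G) (M := M))) hne
  rw [finsum_mem_eq_toFinset_sum, ← Finset.sum_erase_add _ _ (Set.mem_toFinset.2 (Block.trivChar_mem_principal (G := G) hM))] at hsum
  have hone : ((Block.trivChar G : IrrCharacter G) : G → ℂ) z * ((Block.trivChar G : IrrCharacter G) : G → ℂ) 1 = 1 :=
    one_mul _
  rw [hone] at hsum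
  have h2 : IsIntegral ℤ ((∑ χ ∈ (principalBlock M G).toFinset.erase (Block.trivChar G),
      (χ : G → ℂ) z * (χ : G → ℂ) 1) / q) := by
    rw [Finset.sum_div]
    refine IsIntegral.sum _ fun χ hχ => ?_
    by_cases h0 : (χ : G → ℂ) z = 0
    · simp [h0, isIntegral_zero]
    obtain ⟨hne', hmem⟩ := Finset.mem_erase.1 hχ
    obtain ⟨k, hk⟩ := hcon χ (Set.mem_toFinset.1 hmem) (fun h => hne' (Subtype.ext h)) h0
    rw [Block.apply_one_eq_charDegree, hk]
    push_cast
    rw [mul_comm (q : ℂ), ← mul_assoc, mul_div_cancel_right₀ _ (Nat.cast_ne_zero.mpr hq.ne_zero)]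
    exact (χ.2.isCharacter.isIntegral z).mul isIntegral_algebraMap
  rw [eq_neg_of_add_eq_zero_left hsum, neg_div] at h2
  simpa using h2.neg

theorem classSize_eq_of_zpowers {G : Type u} [Group G] {z y : G} (h : Subgroup.zpowers z = Subgroup.zpowers y) :
    (Subgroup.centralizer ({z} : Set G)).index = (Subgroup.centralizer ({y} : Set G)).index := by
  congr 1
  have e : ∀ x : G, Subgroup.centralizer ({x} : Set G) = Subgroup.centralizer (Subgroup.zpowers x : Set G) := fun x => by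
    rw [Subgroup.zpowers_eq_closure, Subgroup.centralizer_closure]
  rw [e, e, h]

theorem geom_root {p : ℕ} {c : ℂ} (hc : c ^ p = 1) :
    ∑ i ∈ Finset.range p, c ^ i = if c = 1 then (p : ℂ) else 0 := by
  split_ifs with h
  · simp [h]
  · rw [geom_sum_eq h, hc, sub_self, zero_div]

/-- A refinement of Burnside's result on simple groups of order divisible by only two primes. Let G be a finite simple group of order p^a · q^b · g₀ with p, q distinct primes, a > 0, g₀ coprime to p and q, and the order of G different from p. Then g₀ − 1 > log p / log 6, that is 6^(g₀ − 1) > p. -/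
theorem result {G : Type*} [Group G] [Finite G] [IsSimpleGroup G] (p q a b g₀ : ℕ) (hp : p.Prime) (hq : q.Prime) (hpq : p ≠ q) (ha : 0 < a) (hg : Nat.card G = p ^ a * q ^ b * g₀) (hcop : ¬ p ∣ g₀) (hcoq : ¬ q ∣ g₀) (hne : Nat.card G ≠ p) : p < 6 ^ (g₀ - 1) := by
  classical
  haveI : Fact p.Prime := ⟨hp⟩
  letI := Fintype.ofFinite G
  by_contra hcon
  push Not at hcon
  have hg0 : g₀ ≠ 0 := by
    rintro rfl
    rw [mul_zero] at hg
    exact Nat.card_pos.ne' hg
  have hpG : p ∣ Nat.card G := by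
    rw [hg]; exact ((dvd_pow_self p ha.ne').mul_right _).mul_right _
  have hnab : ¬ ∀ x y : G, x * y = y * x := fun h => by
    rcases (Nat.dvd_prime (Char.prime_card_of_simple_comm h)).1 hpG with e | e
    · exact hp.one_lt.ne' e
    · exact hne e.symm
  -- a central element of a Sylow subgroup
  obtain ⟨P⟩ : Nonempty (Sylow p G) := inferInstance
  haveI : Nontrivial (P : Subgroup G) := (Subgroup.nontrivial_iff_ne_bot _).2 (P.ne_bot_of_dvd_card hpG)
  haveI := P.isPGroup'.center_nontrivial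
  obtain ⟨z₀, hz₀⟩ : ∃ z₀ : Subgroup.center (P : Subgroup G), orderOf z₀ = p := by
    refine exists_prime_orderOf_dvd_card' p ?_
    obtain ⟨i, hi⟩ := (IsPGroup.iff_card (p := p)).1 (P.isPGroup'.to_subgroup (Subgroup.center (P : Subgroup G)))
    have h1 : 1 < Nat.card (Subgroup.center (P : Subgroup G)) := Finite.one_lt_card
    rcases i with _ | i
    · rw [hi, pow_zero] at h1; omega
    · exact hi ▸ dvd_pow_self p i.succ_ne_zero
  set z : G := ((z₀ : (P : Subgroup G)) : G) with hz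
  have hzp : orderOf z = p := by rw [hz, Subgroup.orderOf_coe, Subgroup.orderOf_coe, hz₀]
  have hzpow : z ^ p = 1 := hzp ▸ pow_orderOf_eq_one z
  set K := (Subgroup.centralizer ({z} : Set G)).index with hK
  have hPC : (P : Subgroup G) ≤ Subgroup.centralizer ({z} : Set G) := fun x hx =>
    Subgroup.mem_centralizer_singleton_iff.2
      (congrArg Subtype.val (Subgroup.mem_center_iff.1 z₀.2 ⟨x, hx⟩))
  have hKdvd : K ∣ q ^ b * g₀ := by
    have h1 : K ∣ (P : Subgroup G).index := Subgroup.index_dvd_of_le hPC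
    have h2 : Nat.Coprime K (p ^ a) :=
      (((hp.coprime_iff_not_dvd).2 fun h => P.not_dvd_index (h.trans h1)).symm).pow_right a
    refine h2.dvd_of_dvd_mul_left ?_
    rw [← mul_assoc, ← hg]
    exact Subgroup.index_dvd_card _
  have hKp : ¬ p ∣ K := fun h => P.not_dvd_index (h.trans (Subgroup.index_dvd_of_le hPC))
  obtain ⟨M, hM⟩ := Block.exists_isPModular hp
  obtain ⟨χ, hχB, hχne, hχ0, hχq⟩ := exists_char hq hM hzp
  set d := charDegree (χ : G → ℂ) with hd
  have hd0 : 0 < d := Block.charDegree_pos χ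
  set e := Nat.gcd d K with he
  have he0 : 0 < e := Nat.gcd_pos_of_pos_left _ hd0
  have heg : e ∣ g₀ := by
    refine Nat.Coprime.dvd_of_dvd_mul_left (Nat.Coprime.pow_right b ?_) ((Nat.gcd_dvd_right d K).trans hKdvd)
    exact ((hq.coprime_iff_not_dvd).2 fun h => hχq (h.trans (Nat.gcd_dvd_left d K))).symm
  have hele : e ≤ g₀ := Nat.le_of_dvd (Nat.pos_of_ne_zero hg0) heg
  obtain ⟨D, hD⟩ : ∃ D, d = e * D := Nat.gcd_dvd_left d K
  obtain ⟨K', hK'⟩ : ∃ K', K = e * K' := Nat.gcd_dvd_right d K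
  have hD0 : 0 < D := pos_of_mul_pos_right (hD ▸ hd0) he0.le
  -- eigenvalues
  obtain ⟨χf, nn, ρ, hρ, hρχ⟩ : ∃ (χf : G → ℂ) (nn : ℕ) (ρ : Representation ℂ G (Fin nn → ℂ)),
      ρ.IsIrreducible ∧ ρ.character = (χ : G → ℂ) := by
    obtain ⟨nn, ρ, h1, h2⟩ := χ.2
    exact ⟨χ, nn, ρ, h1, h2⟩
  haveI := hρ
  obtain ⟨bs, μ, hb, hμ⟩ := Char.exists_eigenbasis ρ z
  rw [hzp] at hμ
  have hpows : ∀ i : ℕ, (χ : G → ℂ) (z ^ i) = ∑ l, μ l ^ i := by
    intro i
    rw [← hρχ]
    refine Char.trace_eq_sum_of_eigenbasis _ bs _ fun l => ?_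
    induction i with
    | zero => simp
    | succ m ih => rw [pow_succ, map_mul, Module.End.mul_apply, hb, map_smul, ih, smul_smul, pow_succ']
  have hdn : d = Fintype.card (Fin (Module.finrank ℂ (Fin nn → ℂ))) := by
    rw [hd]
    refine Block.charDegree_eq_of_apply_one ?_
    have := hpows 0
    simpa using this
  -- integrality
  have hint : ∀ i : ℕ, IsIntegral ℤ ((χ : G → ℂ) (z ^ i) / (D : ℂ)) := by
    intro i
    by_cases hi : p ∣ i
    · obtain ⟨t, rfl⟩ := hi
      rw [pow_mul, hzpow, one_pow, Block.apply_one_eq_charDegree, ← hd, hD]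
      push_cast
      rw [mul_div_cancel_right₀ _ (Nat.cast_ne_zero.mpr hD0.ne')]
      exact isIntegral_algebraMap
    have hz' : Subgroup.zpowers (z ^ i) = Subgroup.zpowers z := by
      refine Subgroup.eq_of_le_of_card_ge (Subgroup.zpowers_le.2 (pow_mem (Subgroup.mem_zpowers z) i)) ?_
      rw [Nat.card_zpowers, Nat.card_zpowers, Nat.Coprime.orderOf_pow (hzp.symm ▸ (hp.coprime_iff_not_dvd).2 hi)]
    have hc := Block.isIntegral_centralChar_irr χ (z ^ i)
    rw [centralChar, classSize_eq_of_zpowers hz', ← hK, Block.apply_one_eq_charDegree, ← hd] at hc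
    have hbz : (e : ℂ) = (d : ℂ) * (Nat.gcdA d K : ℂ) + (K : ℂ) * (Nat.gcdB d K : ℂ) := by
      have := congrArg (fun x : ℤ => (x : ℂ)) (Nat.gcd_eq_gcd_ab d K)
      push_cast at this
      rw [he]
      exact this
    have key : (χ : G → ℂ) (z ^ i) / (D : ℂ) = (Nat.gcdA d K : ℂ) * (χ : G → ℂ) (z ^ i) +
        (Nat.gcdB d K : ℂ) * ((K : ℂ) * (χ : G → ℂ) (z ^ i) / (d : ℂ)) := by
      have h1 : (D : ℂ) ≠ 0 := Nat.cast_ne_zero.mpr hD0.ne'
      have h2 : (e : ℂ) ≠ 0 := Nat.cast_ne_zero.mpr he0.ne'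
      have h3 : (d : ℂ) = (e : ℂ) * D := by rw [hD]; push_cast; rfl
      rw [h3] at hbz ⊢
      field_simp
      linear_combination ((χ : G → ℂ) (z ^ i)) * hbz
    rw [key]
    exact (isIntegral_algebraMap.mul (χ.2.isCharacter.isIntegral _)).add (isIntegral_algebraMap.mul hc)
  set γ : ℕ → ℂ := fun i => (χ : G → ℂ) (z ^ i) / (D : ℂ) with hγ
  set ζ : ℂ := Complex.exp (2 * Real.pi * Complex.I / p) with hζ
  have hprim : IsPrimitiveRoot ζ p := Complex.isPrimitiveRoot_exp p hp.ne_zero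
  let m : ℕ → ℕ := fun j => (Finset.univ.filter fun l => μ l = ζ ^ j).card
  have hexp : ∀ l, ∃ j < p, μ l = ζ ^ j := fun l => by
    haveI : NeZero p := ⟨hp.ne_zero⟩
    obtain ⟨j, hj, e⟩ := hprim.eq_pow_of_pow_eq_one (hμ l)
    exact ⟨j, hj, e.symm⟩
  have hζ1 : ∀ k : ℕ, ((ζ ^ k)⁻¹) ^ p = 1 := fun k => by
    rw [inv_pow, ← pow_mul, mul_comm, pow_mul, hprim.pow_eq_one, one_pow, inv_one]
  have hmj : ∀ j, ∑ i ∈ Finset.range p, ((ζ ^ j)⁻¹) ^ i * (χ : G → ℂ) (z ^ i) = (p : ℂ) * (m j : ℂ) := by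
    intro j
    simp only [hpows, Finset.mul_sum, ← mul_pow]
    rw [Finset.sum_comm]
    have : ∀ l, ∑ i ∈ Finset.range p, ((ζ ^ j)⁻¹ * μ l) ^ i = if μ l = ζ ^ j then (p : ℂ) else 0 := fun l => by
      rw [geom_root (by rw [mul_pow, hζ1, hμ, one_mul])]
      exact if_congr (by rw [inv_mul_eq_one₀ (pow_ne_zero _ (hprim.ne_zero hp.ne_zero)), eq_comm]) rfl rfl
    simp only [this, m, ← Finset.sum_filter, Finset.sum_const, nsmul_eq_mul]
    rw [mul_comm]
  have ht : ∀ j, D ∣ p * m j := fun j => by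
    refine Char.natCast_dvd_of_isIntegral hD0.ne' ?_
    push_cast
    rw [← hmj, Finset.sum_div]
    refine IsIntegral.sum _ fun i _ => ?_
    rw [mul_div_assoc]
    refine IsIntegral.mul (IsIntegral.of_pow hp.pos ?_) (hint i)
    rw [← pow_mul, mul_comm, pow_mul, hζ1, one_pow]
    exact isIntegral_one
  choose t ht' using ht
  have hroot : ∀ k : ℕ, ζ ^ k ∈ Block.locRing hM := fun k => Block.root_of_unity_mem_locRing hM hp.pos (by
    rw [← pow_mul, mul_comm, pow_mul, hprim.pow_eq_one, one_pow])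
  have hresroot : ∀ c : ℂ, c ∈ Block.locRing hM → c ^ p = 1 → Block.res hM c = 1 := fun c hc hcp => by
    have h1 : (Block.res hM c - 1) ^ p = 0 := by
      rw [sub_pow_char, one_pow, ← Block.res_pow hM hc, hcp, Block.res_one, sub_self]
    exact sub_eq_zero.1 (pow_eq_zero_iff hp.ne_zero |>.1 h1)
  have hγmem : ∀ i, γ i ∈ Block.locRing hM := fun i => Block.isIntegral_mem_locRing hM (hint i)
  have htsum : ∀ j, (t j : ℂ) = ∑ i ∈ Finset.range p, ((ζ ^ j)⁻¹) ^ i * γ i := fun j => by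
    simp only [hγ, ← mul_div_assoc, ← Finset.sum_div, hmj]
    rw [eq_div_iff (Nat.cast_ne_zero.mpr hD0.ne')]
    exact_mod_cast (by rw [ht' j, mul_comm] : t j * D = p * m j)
  have htres : ∀ j, ((t j : ℕ) : Block.resField hM) = ∑ i ∈ Finset.range p, Block.res hM (γ i) := fun j => by
    have hi : ∀ i, ((ζ ^ j)⁻¹) ^ i ∈ Block.locRing hM := fun i => Block.root_of_unity_mem_locRing hM hp.pos (by
      rw [← pow_mul, mul_comm, pow_mul, hζ1, one_pow])
    rw [← Block.res_natCast hM, htsum j, Block.res_sum hM _ _ fun i _ => mul_mem (hi i) (hγmem i)]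
    refine Finset.sum_congr rfl fun i _ => ?_
    rw [Block.res_mul hM (hi i) (hγmem i), hresroot _ (hi i) (by rw [← pow_mul, mul_comm, pow_mul, hζ1, one_pow]),
      one_mul]
  set r := t 0 % p with hr
  have hmod : ∀ j, t j % p = r := fun j => by
    have h := (htres j).trans (htres 0).symm
    exact (CharP.natCast_eq_natCast (Block.resField hM) p).1 h
  let aa : ℕ → ℕ := fun j => t j / p
  have hta : ∀ j, t j = r + p * aa j := fun j => by
    rw [← hmod j]; exact (Nat.mod_add_div (t j) p).symm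
  have hcount : ∑ j ∈ Finset.range p, m j = d := by
    have hfib : ∀ j ∈ Finset.range p, m j = ∑ l, if μ l = ζ ^ j then 1 else 0 := fun j _ => by
      simp [m, Finset.sum_boole]
    rw [Finset.sum_congr rfl hfib, Finset.sum_comm, hdn, ← Finset.card_univ, Finset.card_eq_sum_ones]
    refine Finset.sum_congr rfl fun l _ => ?_
    obtain ⟨j, hj, ej⟩ := hexp l
    rw [Finset.sum_eq_single j (fun k hk hkj => if_neg fun e => hkj (hprim.pow_inj (Finset.mem_range.1 hk) hj
      (e.symm.trans ej))) (fun h => absurd (Finset.mem_range.2 hj) h), if_pos ej]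
  have hsumt : p * e = p * r + p * ∑ j ∈ Finset.range p, aa j := by
    have h1 : D * (p * e) = D * ∑ j ∈ Finset.range p, t j := by
      rw [Finset.mul_sum, ← Finset.sum_congr rfl fun j _ => ht' j, ← Finset.mul_sum, hcount, hD]
      ring
    rw [Nat.eq_of_mul_eq_mul_left hD0 h1, Finset.sum_congr rfl fun j _ => hta j, Finset.sum_add_distrib,
      Finset.sum_const, Finset.card_range, smul_eq_mul, Finset.mul_sum]
  have hea : e = r + ∑ j ∈ Finset.range p, aa j :=
    Nat.eq_of_mul_eq_mul_left hp.pos (by rw [hsumt, Nat.mul_add])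
  -- the value
  have hgeo : ∑ j ∈ Finset.range p, ζ ^ j = 0 := hprim.geom_sum_eq_zero hp.one_lt
  have hval : γ 1 = ∑ j ∈ Finset.range p, (aa j : ℂ) * ζ ^ j := by
    have h0 : (χ : G → ℂ) z = ∑ j ∈ Finset.range p, (m j : ℂ) * ζ ^ j := by
      have h1 := hpows 1
      simp only [pow_one] at h1
      rw [h1]
      have hfib : ∀ j ∈ Finset.range p, (m j : ℂ) * ζ ^ j = ∑ l, if μ l = ζ ^ j then μ l else 0 := fun j _ => by
        rw [← Finset.sum_filter, Finset.sum_congr rfl fun l hl => (Finset.mem_filter.1 hl).2, Finset.sum_const,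
          nsmul_eq_mul]
      rw [Finset.sum_congr rfl hfib, Finset.sum_comm]
      refine Finset.sum_congr rfl fun l _ => ?_
      obtain ⟨j, hj, ej⟩ := hexp l
      rw [Finset.sum_eq_single j (fun k hk hkj => if_neg fun e => hkj (hprim.pow_inj (Finset.mem_range.1 hk) hj
        (e.symm.trans ej))) (fun h => absurd (Finset.mem_range.2 hj) h), if_pos ej]
    have hDC : (D : ℂ) ≠ 0 := Nat.cast_ne_zero.mpr hD0.ne'
    have hpC : (p : ℂ) ≠ 0 := Nat.cast_ne_zero.mpr hp.ne_zero
    simp only [hγ, pow_one]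
    rw [div_eq_iff hDC, h0, Finset.sum_mul, ← mul_right_inj' hpC, Finset.mul_sum, Finset.mul_sum]
    have key : ∀ j, (p : ℂ) * ((m j : ℂ) * ζ ^ j) =
        (D : ℂ) * r * ζ ^ j + (p : ℂ) * ((aa j : ℂ) * ζ ^ j * D) := fun j => by
      have := congrArg (fun x : ℕ => (x : ℂ)) (ht' j)
      rw [hta j] at this
      push_cast at this
      linear_combination (ζ ^ j) * this
    rw [Finset.sum_congr rfl fun j _ => key j, Finset.sum_add_distrib, ← Finset.mul_sum, hgeo, mul_zero, zero_add]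
  have hres1 : Block.res hM (γ 1) = ((∑ j ∈ Finset.range p, aa j : ℕ) : Block.resField hM) := by
    rw [hval, Block.res_sum hM _ _ fun j _ => mul_mem (natCast_mem _ _) (hroot j), Nat.cast_sum]
    refine Finset.sum_congr rfl fun j _ => ?_
    rw [Block.res_mul hM (natCast_mem _ _) (hroot j), Block.res_natCast,
      hresroot _ (hroot j) (by rw [← pow_mul, mul_comm, pow_mul, hprim.pow_eq_one, one_pow]), mul_one]
  have hres2 : Block.res hM (γ 1) = (e : Block.resField hM) := by
    have hsb : MemLocalIdeal M (centralChar (fun _ : G => (1 : ℂ)) z - centralChar (χ : G → ℂ) z) := hχB z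
    have h1 : centralChar (fun _ : G => (1 : ℂ)) z = (e : ℂ) * (K' : ℂ) := by
      rw [centralChar, ← hK, mul_one, div_one, hK']; push_cast; rfl
    have h2 : centralChar (χ : G → ℂ) z = γ 1 * (K' : ℂ) := by
      rw [centralChar, ← hK, Block.apply_one_eq_charDegree, ← hd, hD, hK']
      simp only [hγ, pow_one]
      push_cast
      field_simp [Nat.cast_ne_zero.mpr hD0.ne', Nat.cast_ne_zero.mpr he0.ne']
    rw [h1, h2, ← Block.res_eq_iff hM (mul_mem (natCast_mem _ _) (natCast_mem _ _))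
      (mul_mem (hγmem 1) (natCast_mem _ _)), Block.res_mul hM (natCast_mem _ _) (natCast_mem _ _),
      Block.res_mul hM (hγmem 1) (natCast_mem _ _), Block.res_natCast, Block.res_natCast] at hsb
    refine (mul_right_cancel₀ ?_ hsb).symm
    rw [Ne, CharP.cast_eq_zero_iff (Block.resField hM) p]
    exact fun h => hKp (hK' ▸ h.mul_left e)
  have hr0 : r = 0 := by
    have h := hres2.symm.trans hres1
    rw [hea, Nat.cast_add, add_eq_right, CharP.cast_eq_zero_iff (Block.resField hM) p] at h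
    exact Nat.eq_zero_of_dvd_of_lt h (Nat.mod_lt _ hp.pos)
  -- few eigenvalues
  set S := (Finset.range p).filter (fun j => m j ≠ 0) with hS
  have hScard : S.card ≤ e := by
    rw [hea, hr0, zero_add, Finset.card_eq_sum_ones, hS, Finset.sum_filter]
    refine Finset.sum_le_sum fun j _ => ?_
    split_ifs with h
    · refine Nat.one_le_iff_ne_zero.2 fun h0 => h ?_
      have := ht' j
      rw [hta j, hr0, h0, mul_zero, add_zero, mul_zero] at this
      exact (mul_eq_zero.1 this).resolve_left hp.ne_zero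
    · exact Nat.zero_le _
  have hnn : 0 < Module.finrank ℂ (Fin nn → ℂ) := by
    rw [Fintype.card_fin] at hdn; omega
  obtain ⟨i₀, -⟩ : ∃ i₀ : Fin (Module.finrank ℂ (Fin nn → ℂ)), True := ⟨⟨0, hnn⟩, trivial⟩
  obtain ⟨j₀, hj₀, ej₀⟩ := hexp i₀
  have hmem : ∀ l j, j < p → μ l = ζ ^ j → j ∈ S := fun l j hj ej =>
    Finset.mem_filter.2 ⟨Finset.mem_range.2 hj, Finset.card_ne_zero.2 ⟨l, Finset.mem_filter.2 ⟨Finset.mem_univ _, ej⟩⟩⟩
  set L := (S.erase j₀).image (fun j => j + (p - j₀)) with hL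
  have hLcard : L.card ≤ g₀ - 1 := by
    refine Finset.card_image_le.trans ?_
    rw [Finset.card_erase_of_mem (hmem i₀ j₀ hj₀ ej₀)]
    omega
  have h6 : 6 ^ L.card < p := by
    refine lt_of_le_of_ne ((Nat.pow_le_pow_right (by norm_num) hLcard).trans hcon) fun h => ?_
    rcases Nat.eq_zero_or_pos L.card with h0 | h0
    · rw [h0, pow_zero] at h; exact hp.one_lt.ne h
    · have h2 : (2 : ℕ) ∣ p := h ▸ (dvd_pow (by norm_num : (2 : ℕ) ∣ 6) h0.ne')
      have h3 : (3 : ℕ) ∣ p := h ▸ (dvd_pow (by norm_num : (3 : ℕ) ∣ 6) h0.ne')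
      rw [Nat.prime_dvd_prime_iff_eq Nat.prime_two hp] at h2
      rw [Nat.prime_dvd_prime_iff_eq Nat.prime_three hp] at h3
      omega
  obtain ⟨k, hk0, hkp, hk⟩ := exists_short_power hp hζ L h6
  have hw : z ^ k ≠ 1 := fun h => by
    have := orderOf_dvd_of_pow_eq_one h
    rw [hzp] at this
    exact absurd (Nat.le_of_dvd hk0 this) (by omega)
  obtain ⟨c, hc⟩ := blichfeldt ρ hw bs (fun l => μ l ^ k) (fun l => by
      clear hk hw hk0 hkp
      induction k with
      | zero => simp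
      | succ m ih => rw [pow_succ, map_mul, Module.End.mul_apply, hb, map_smul, ih, smul_smul, pow_succ'])
    hp.pos (fun l => by rw [← pow_mul, mul_comm, pow_mul, hμ, one_pow])
    (by rw [← pow_mul, mul_comm, pow_mul, hzpow, one_pow]) i₀ (fun l => by
      obtain ⟨j, hj, ej⟩ := hexp l
      by_cases hjj : j = j₀
      · rw [ej, ej₀, hjj, sub_self, norm_zero]; exact one_pos
      have h1 := hk (j + (p - j₀)) (Finset.mem_image_of_mem _ (Finset.mem_erase.2 ⟨hjj, hmem l j hj ej⟩))
      have hn1 : ∀ x : ℕ, ‖ζ ^ x‖ = 1 := fun x => Complex.norm_eq_one_of_pow_eq_one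
        (by rw [← pow_mul, mul_comm, pow_mul, hprim.pow_eq_one, one_pow]) hp.ne_zero
      have e1 : (ζ ^ (j + (p - j₀))) ^ k - 1 = ((ζ ^ j) ^ k - (ζ ^ j₀) ^ k) * (ζ ^ (p - j₀)) ^ k := by
        rw [sub_mul, ← mul_pow, ← mul_pow, ← pow_add, ← pow_add, Nat.add_sub_of_le hj₀.le, hprim.pow_eq_one, one_pow]
      rw [e1, norm_mul, norm_pow _ k, hn1, one_pow, mul_one] at h1
      rwa [ej, ej₀])
  -- a scalar element
  have htop : Char.scalarSubgroup ρ = ⊤ :=
    (Subgroup.Normal.eq_bot_or_eq_top (Char.scalarSubgroup_normal ρ)).resolve_left fun h => hw (by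
      have : z ^ k ∈ Char.scalarSubgroup ρ := ⟨c, hc⟩
      rwa [h, Subgroup.mem_bot] at this)
  apply hnab
  intro x y
  have hker : MonoidHom.ker ρ = ⊥ :=
    (Subgroup.Normal.eq_bot_or_eq_top (inferInstance : (MonoidHom.ker ρ).Normal)).resolve_right fun h => by
      apply hχne
      have htriv : ∀ x, ρ x = 1 := fun x => MonoidHom.mem_ker.mp (h ▸ Subgroup.mem_top x)
      have hirr := Char.classInner_irreducible_self ρ
      have hc' : ρ.character = fun _ => (Module.finrank ℂ (Fin nn → ℂ) : ℂ) := funext fun x => by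
        simp [Representation.character, htriv]
      rw [hc'] at hirr
      simp [classInner, ← Nat.card_eq_fintype_card] at hirr
      rw [inv_mul_cancel_left₀ Char.card_cast_ne_zero, Nat.card_fin] at hirr
      have hn1 : nn = 1 := by
        have h' : ((nn * nn : ℕ) : ℂ) = ((1 : ℕ) : ℂ) := by push_cast; exact hirr
        exact (mul_eq_one.mp (Nat.cast_inj.mp h')).1
      subst hn1
      rw [← hρχ, hc']
      exact funext fun _ => by simp
  apply (MonoidHom.ker_eq_bot_iff (f := ρ)).mp hker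
  obtain ⟨cx, hcx⟩ : x ∈ Char.scalarSubgroup ρ := htop ▸ Subgroup.mem_top x
  obtain ⟨cy, hcy⟩ : y ∈ Char.scalarSubgroup ρ := htop ▸ Subgroup.mem_top y
  rw [map_mul, map_mul, hcx, hcy]
  ext v
  simp [smul_smul, mul_comm]

end Cfsg.Agent.S4484
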