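import Cfsg.Statements.S4485
import Cfsg.Agent.Lib.Char.UniformCent
import Cfsg.Agent.Lib.Char.Constituents
import Mathlib.GroupTheory.Transfer
-- import your own Cfsg.Agent.* helpers here

set_option autoImplicit false
open Cfsg

namespace Cfsg.Agent.S4485

open Cfsg Cfsg.Lib.Char

universe u

open scoped ComplexConjugate in
theorem aux {p : ℕ} [Fact p.Prime] : ∀ m : ℕ, ∀ {G : Type u} [Group G] [Finite G],
    Nat.card G = m → ∀ (P : Sylow p G), IsUniformCent p P → ∀ (χ : G → ℂ), IsCharacter G χ →
      (∀ g : G, χ g = χ 1 → g = 1) → charDegree χ ^ 2 + 1 < Nat.card (P : Subgroup G) →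
      (P : Subgroup G).Normal := by
  intro m
  induction m using Nat.strong_induction_on with
  | _ m ih =>
  intro G _ _ hcard P hstar χ hχ hfaith hdeg
  classical
  haveI := Fintype.ofFinite G
  by_cases hex : ∃ K : Subgroup G, K.Normal ∧ K ≠ ⊤ ∧ (P : Subgroup G) ≤ K
  · obtain ⟨K, hKn, hK, hPK⟩ := hex
    have hlt : Nat.card K < m := by
      rw [← hcard]
      refine lt_of_le_of_ne (Subgroup.card_le_card_group K) fun e => hK ?_
      exact Subgroup.eq_top_of_card_eq K e
    have hPc : Nat.card ((P.subtype hPK : Sylow p K) : Subgroup K) = Nat.card (P : Subgroup G) :=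
      Nat.card_congr (Subgroup.subgroupOfEquivOfLe hPK).toEquiv
    have hQ : ((P.subtype hPK : Sylow p K) : Subgroup K).Normal := by
      refine ih _ hlt rfl (P.subtype hPK) ?_ (fun k => χ k) (hχ.comp K.subtype) ?_ ?_
      · intro y hy hy1
        have h1 := hstar (y : G) hy (fun e => hy1 (Subtype.ext e))
        ext c
        rw [Subgroup.mem_centralizer_singleton_iff, Subgroup.mem_centralizer_iff]
        constructor
        · intro h a ha
          have h2 : (c : G) ∈ Subgroup.centralizer ((P : Subgroup G) : Set G) := by
            rw [← h1, Subgroup.mem_centralizer_singleton_iff]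
            exact congrArg Subtype.val h
          exact Subtype.ext (Subgroup.mem_centralizer_iff.mp h2 a ha)
        · intro h
          exact (h y hy).symm
      · intro k hk
        exact Subtype.ext (hfaith k hk)
      · rw [hPc]
        exact hdeg
    haveI := hQ
    haveI : (((P.subtype hPK : Sylow p K) : Subgroup K)).Characteristic :=
      Sylow.characteristic_of_normal _ hQ
    haveI := hKn
    have h2 : ((((P.subtype hPK : Sylow p K) : Subgroup K)).map K.subtype).Normal :=
      ConjAct.normal_of_characteristic_of_normal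
    rwa [Sylow.coe_subtype, Subgroup.subgroupOf_map_subtype, inf_eq_left.mpr hPK] at h2
  have hcomm : ∀ a b : G, a * b = b * a := by
    intro a b
    have h1 : a * b * a⁻¹ * b⁻¹ = 1 := by
      refine hfaith _ (hχ.commutator_mem_ker (fun φ => ?_) a b)
      by_cases h0 : classInner χ (φ : G → ℂ) = 0
      · exact Or.inr (by intro _; convert h0)
      refine Or.inl ?_
      by_cases hφ : (φ : G → ℂ) = fun _ => 1
      · rw [hφ]
      have hle := degree_le_of_constituent φ.2 hχ h0
      rw [φ.2.apply_one_eq_charDegree, hχ.apply_one_eq_charDegree, Complex.natCast_re,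
        Complex.natCast_re, Nat.cast_le] at hle
      have hsq := Nat.pow_le_pow_left hle 2
      obtain ⟨hd, -⟩ := uc_main (P := P) hstar φ (by omega)
        (fun K hKn hPK => by_contra fun hne => hex ⟨K, hKn, hne, hPK⟩) hφ
      rw [φ.2.apply_one_eq_charDegree, hd, Nat.cast_one]
    exact commutatorElement_eq_one_iff_mul_comm.mp h1
  exact ⟨fun x hx g => by rwa [hcomm g x, mul_inv_cancel_right]⟩


/-- Let G be a finite group and p a prime dividing its order such that every non-identity element of a Sylow p-subgroup P has the same centralizer as P itself (so P is abelian); let p^n be the order of P. If G has a faithful character of degree x with x² < p^n − 1, then P is normal in G. -/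
theorem result {G : Type*} [Group G] [Finite G] (p : ℕ) (hp : p.Prime) (hpG : p ∣ Nat.card G) (P : Sylow p G) (hstar : ∀ x ∈ (P : Subgroup G), x ≠ 1 → Subgroup.centralizer ({x} : Set G) = Subgroup.centralizer ((P : Subgroup G) : Set G)) (n : ℕ) (hn : Nat.card P = p ^ n) (χ : G → ℂ) (hχ : Cfsg.IsCharacter G χ) (hfaith : ∀ g : G, χ g = χ 1 → g = 1) (hdeg : Cfsg.charDegree χ ^ 2 + 1 < p ^ n) : (P : Subgroup G).Normal := by
  haveI : Fact p.Prime := ⟨hp⟩
  exact aux _ rfl P hstar χ hχ hfaith (by rw [hn]; exact hdeg)


end Cfsg.Agent.S4485
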