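import Cfsg.Statements.S4490
import Cfsg.Agent.Lib.Block.Principal
import Cfsg.Agent.Lib.Char.PermLemma

set_option autoImplicit false
open Cfsg

namespace Cfsg.Agent.S4490

/-- Let G be a finite group and M a maximal ideal of the algebraic integers containing 2. Every 2-block B of G whose defect groups are the Sylow 2-subgroups of G (a block of full defect) and which is not the principal block is different from its complex-conjugate block, the block formed by the complex conjugates of the members of B. -/
theorem result {G : Type*} [Group G] [Finite G] (M : Ideal Cfsg.AlgInt) (hM : Cfsg.IsPModular 2 M) (B : Set (Cfsg.IrrCharacter G)) (hB : Cfsg.IsPBlock M B) (P : Sylow 2 G) (hfull : Cfsg.IsDefectGroup 2 M B (P : Subgroup G)) (hnp : B ≠ Cfsg.principalBlock M G) : {ψ : Cfsg.IrrCharacter G | ∃ χ ∈ B, (ψ : G → ℂ) = fun g => (starRingEnd ℂ) ((χ : G → ℂ) g)} ≠ B := by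
  haveI := Fintype.ofFinite G
  haveI : Fact (Nat.Prime 2) := ⟨Nat.prime_two⟩
  classical
  intro heq
  refine hnp (Lib.Block.eq_principal_two_of_inv hM hB ?_ fun g _ => ?_)
  · obtain ⟨x, hx, S, hS⟩ := hfull
    have h1 : Nat.card (P : Subgroup G) = Nat.card ↥(S : Subgroup (Subgroup.centralizer ({x} : Set G))) := by
      rw [hS, Subgroup.card_map_of_injective (Subgroup.subtype_injective _)]
    rw [P.card_eq_multiplicity, S.card_eq_multiplicity] at h1
    have h2 := Lib.Block.factorization_cenCard_defectClass hM hB hx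
    rw [Lib.Block.cenCard] at h2
    rw [← h2, Nat.pow_right_injective le_rfl h1]
  · refine Lib.Block.blockCoeff_inv_of_twist Lib.Char.irrConj ?_ ?_ ?_ ?_
    · intro a b h
      apply Subtype.ext
      funext x
      exact (starRingEnd ℂ).injective (congrFun (congrArg Subtype.val h) x)
    · intro χ hχ
      exact Set.mem_of_eq_of_mem rfl (heq ▸ (⟨χ, hχ, rfl⟩ : Lib.Char.irrConj χ ∈ {ψ : IrrCharacter G | ∃ χ ∈ B, (ψ : G → ℂ) = fun g => (starRingEnd ℂ) ((χ : G → ℂ) g)}))
    · intro χ _
      exact Lib.Block.conj_apply_one χ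
    · intro χ _
      exact (χ.2.isCharacter.apply_inv g).symm

end Cfsg.Agent.S4490
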