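import Cfsg.Statements.S4495
import Cfsg.Agent.Lib.Block.SelfCentral
-- import your own Cfsg.Agent.* helpers here

set_option autoImplicit false
open Cfsg

namespace Cfsg.Agent.S4495

/-- Let the finite group G contain an element x of prime order p with C_G(x) = ⟨x⟩, and let t be the number of conjugacy classes of elements of order p. If t ≠ p − 1 then the commutator subgroup has index at most (p − 1)/t; if t = p − 1 it has index exactly p. -/
theorem result {G : Type*} [Group G] [Finite G] (p : ℕ) (hp : p.Prime) (x : G) (hx : orderOf x = p) (hC : Subgroup.centralizer ({x} : Set G) = Subgroup.zpowers x) (t : ℕ) (ht : Nat.card {C : ConjClasses G // ∃ g ∈ C.carrier, orderOf g = p} = t) : (t ≠ p - 1 → (commutator G).index * t ≤ p - 1) ∧ (t = p - 1 → (commutator G).index = p) := by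
  classical
  letI : Fintype G := Fintype.ofFinite G
  haveI : Fact p.Prime := ⟨hp⟩
  obtain ⟨P, hP⟩ := Cfsg.Lib.Block.sc_exists_sylow hx hC
  have hte := Cfsg.Lib.Block.sc_classes hx hC hP
  rw [ht] at hte
  set e := (P : Subgroup G).relIndex (Subgroup.normalizer ((P : Subgroup G) : Set G)) with he
  have hp1 : 0 < p - 1 := by have := hp.one_lt; omega
  have ht0 : 0 < t := Nat.pos_of_ne_zero fun h => by rw [h, zero_mul] at hte; omega
  have he1 : e = 1 ↔ t = p - 1 := by
    constructor
    · intro h; rw [h, mul_one] at hte; exact hte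
    · intro h; rw [h] at hte; exact (mul_eq_left₀ hp1.ne').1 hte
  refine ⟨fun h => ?_, fun h => (Cfsg.Lib.Block.sc_complement hx hC hP (he1.2 h)).2.1⟩
  have hne : e ≠ 1 := fun h' => h (he1.1 h')
  rw [← hte, mul_comm t]
  refine Nat.mul_le_mul_right t (Nat.le_of_dvd ?_ (Cfsg.Lib.Block.sc_index_commutator_dvd hx hC hP hne))
  exact Nat.pos_of_ne_zero Subgroup.index_ne_zero_of_finite

end Cfsg.Agent.S4495
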