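import Cfsg.Statements.S4496
import Mathlib.GroupTheory.Sylow
import Mathlib.GroupTheory.Abelianization.Defs
import Mathlib.Tactic.Group
import Mathlib.GroupTheory.Complement
import Mathlib.GroupTheory.OrderOfElement

set_option autoImplicit false
open Cfsg

namespace Cfsg.Agent.S4496

/-- Let the finite group G contain an element x of prime order p with C_G(x) = ⟨x⟩. Then: (a) every normal subgroup of order divisible by p contains the commutator subgroup; (b) every normal subgroup S of order prime to p has order dividing the number of subgroups of order p of G and congruent to 1 modulo p, and in G/S the image of x again has prime order p and commutes only with its own powers. -/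
theorem result {G : Type*} [Group G] [Finite G] (p : ℕ) (hp : p.Prime) (x : G) (hx : orderOf x = p) (hC : Subgroup.centralizer ({x} : Set G) = Subgroup.zpowers x) (S : Subgroup G) [S.Normal] : (p ∣ Nat.card S → commutator G ≤ S) ∧ (¬ p ∣ Nat.card S → Nat.card S ∣ Nat.card {H : Subgroup G // Nat.card H = p} ∧ Nat.card S % p = 1 ∧ orderOf (QuotientGroup.mk x : G ⧸ S) = p ∧ Subgroup.centralizer ({(QuotientGroup.mk x : G ⧸ S)} : Set (G ⧸ S)) = Subgroup.zpowers (QuotientGroup.mk x : G ⧸ S)) := by
  classical
  haveI := Fact.mk hp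
  haveI := Fintype.ofFinite G
  set X := Subgroup.zpowers x with hX
  have hXcard : Nat.card X = p := by rw [hX, Nat.card_zpowers, hx]
  have hXp : IsPGroup p X := IsPGroup.of_card (n := 1) (by rw [hXcard, pow_one])
  obtain ⟨P, hP⟩ := hXp.exists_le_sylow
  have hPX : (P : Subgroup G) = X := by
    refine le_antisymm ?_ hP
    have hne : Nontrivial (P : Subgroup G) :=
      Finite.one_lt_card_iff_nontrivial.1 (lt_of_lt_of_le hp.one_lt
        (le_trans (le_of_eq hXcard.symm) (Nat.le_of_dvd Nat.card_pos (Subgroup.card_dvd_of_le hP))))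
    obtain ⟨z, hz, hz1⟩ := (Subgroup.bot_or_exists_ne_one _).resolve_left
      ((Subgroup.nontrivial_iff_ne_bot _).1 P.isPGroup'.center_nontrivial)
    have hzX : (z : G) ∈ X := by
      rw [← hC, Subgroup.mem_centralizer_iff]
      intro y hy
      rw [Set.mem_singleton_iff.1 hy]
      exact congrArg Subtype.val
        (Subgroup.mem_center_iff.1 hz ⟨x, hP (Subgroup.mem_zpowers x)⟩)
    have hzgen : X = Subgroup.zpowers (z : G) := by
      refine (Subgroup.eq_of_le_of_card_ge (Subgroup.zpowers_le.2 hzX) ?_).symm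
      rw [hXcard, Nat.card_zpowers]
      have hd : orderOf (z : G) ∣ p := by
        have h := Subgroup.card_dvd_of_le (Subgroup.zpowers_le.2 hzX)
        rwa [hXcard, Nat.card_zpowers] at h
      rcases (Nat.dvd_prime hp).1 hd with h | h
      · exact absurd (Subtype.ext (orderOf_eq_one_iff.1 h) : z = 1) hz1
      · omega
    intro y hy
    rw [← hC, Subgroup.mem_centralizer_iff]
    intro w hw
    rw [Set.mem_singleton_iff.1 hw]
    have hxz : x ∈ Subgroup.zpowers (z : G) := hzgen ▸ Subgroup.mem_zpowers x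
    obtain ⟨k, hk⟩ := Subgroup.mem_zpowers_iff.1 hxz
    have hcy : Commute (z : G) y :=
      (congrArg Subtype.val (Subgroup.mem_center_iff.1 hz ⟨y, hy⟩)).symm
    rw [← hk]
    exact hcy.zpow_left k
  have hcomm_zpow : ∀ y : G, Commute y x → y ∈ X := fun y hy => by
    rw [← hC, Subgroup.mem_centralizer_iff]
    intro w hw
    rw [Set.mem_singleton_iff.1 hw]
    exact hy.symm.eq
  refine ⟨fun hdvd => ?_, fun hndvd => ?_⟩
  · have hxS : x ∈ S := by
      obtain ⟨s, hs⟩ := exists_prime_orderOf_dvd_card' p hdvd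
      rw [← Subgroup.orderOf_coe] at hs
      have hsp : IsPGroup p (Subgroup.zpowers (s : G)) :=
        IsPGroup.of_card (n := 1) (by rw [Nat.card_zpowers, hs, pow_one])
      obtain ⟨Q, hQ⟩ := hsp.exists_le_sylow
      obtain ⟨c, hc⟩ := MulAction.exists_smul_eq G Q P
      have hmem : MulAut.conj c (s : G) ∈ X := by
        rw [← hPX, ← hc]
        exact ⟨(s : G), hQ (Subgroup.mem_zpowers _), rfl⟩
      have heq : Subgroup.zpowers (MulAut.conj c (s : G)) = X := by
        refine Subgroup.eq_of_le_of_card_ge (Subgroup.zpowers_le.2 hmem) ?_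
        rw [hXcard, Nat.card_zpowers,
          show orderOf (MulAut.conj c (s : G)) = orderOf (s : G) from (MulAut.conj c).orderOf_eq _,
          hs]
      have hxz : x ∈ Subgroup.zpowers (MulAut.conj c (s : G)) := heq ▸ Subgroup.mem_zpowers x
      refine Subgroup.zpowers_le.2 ?_ hxz
      exact (inferInstance : S.Normal).conj_mem _ s.2 c
    have hXS : X ≤ S := Subgroup.zpowers_le.2 hxS
    have hFr := P.normalizer_sup_eq_top' (N := S) (hPX ▸ hXS)
    rw [← Subgroup.Normal.quotient_commutative_iff_commutator_le]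
    refine ⟨⟨fun a b => ?_⟩⟩
    induction a using QuotientGroup.induction_on with
    | H a =>
      induction b using QuotientGroup.induction_on with
      | H b =>
        have hrep : ∀ y : G, ∃ n ∈ Subgroup.normalizer ((P : Subgroup G) : Set G),
            (y : G ⧸ S) = (n : G ⧸ S) := by
          intro y
          have hy : y ∈ (Subgroup.normalizer ((P : Subgroup G) : Set G) ⊔ S : Subgroup G) :=
            hFr ▸ Subgroup.mem_top y
          rw [← SetLike.mem_coe, Subgroup.mul_normal] at hy
          obtain ⟨n, hn, s, hs, rfl⟩ := hy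
          exact ⟨n, hn, by rw [QuotientGroup.eq]; simpa using hs⟩
        obtain ⟨n₁, hn₁, e₁⟩ := hrep a
        obtain ⟨n₂, hn₂, e₂⟩ := hrep b
        rw [e₁, e₂, ← QuotientGroup.mk_mul, ← QuotientGroup.mk_mul, QuotientGroup.eq]
        have hconj : ∀ n ∈ Subgroup.normalizer ((P : Subgroup G) : Set G),
            ∃ k : ℤ, n * x * n⁻¹ = x ^ k := fun n hn => by
          have h1 : n * x * n⁻¹ ∈ (P : Subgroup G) :=
            (Subgroup.mem_normalizer_iff.1 hn x).1 (hP (Subgroup.mem_zpowers x))
          rw [hPX] at h1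
          obtain ⟨k, hk⟩ := Subgroup.mem_zpowers_iff.1 h1
          exact ⟨k, hk.symm⟩
        obtain ⟨k₁, hk₁⟩ := hconj n₁ hn₁
        obtain ⟨k₂, hk₂⟩ := hconj n₂ hn₂
        have hm : ∀ (n : G) (k i : ℤ), n * x * n⁻¹ = x ^ k → n * x ^ i * n⁻¹ = x ^ (k * i) :=
          fun n k i h => by rw [← MulAut.conj_apply, map_zpow, MulAut.conj_apply, h, zpow_mul]
        refine hXS (hcomm_zpow _ ?_)
        have h12 : (n₁ * n₂) * x * (n₁ * n₂)⁻¹ = (n₂ * n₁) * x * (n₂ * n₁)⁻¹ := by
          rw [show n₁ * n₂ * x * (n₁ * n₂)⁻¹ = n₁ * (n₂ * x * n₂⁻¹) * n₁⁻¹ by group,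
            show n₂ * n₁ * x * (n₂ * n₁)⁻¹ = n₂ * (n₁ * x * n₁⁻¹) * n₂⁻¹ by group,
            hk₁, hk₂, hm n₁ k₁ k₂ hk₁, hm n₂ k₂ k₁ hk₂, mul_comm]
        show (n₁ * n₂)⁻¹ * (n₂ * n₁) * x = x * ((n₁ * n₂)⁻¹ * (n₂ * n₁))
        calc (n₁ * n₂)⁻¹ * (n₂ * n₁) * x
            = (n₁ * n₂)⁻¹ * ((n₂ * n₁) * x * (n₂ * n₁)⁻¹) * (n₂ * n₁) := by group
          _ = (n₁ * n₂)⁻¹ * ((n₁ * n₂) * x * (n₁ * n₂)⁻¹) * (n₂ * n₁) := by rw [h12]
          _ = x * ((n₁ * n₂)⁻¹ * (n₂ * n₁)) := by group
  · have hinter : ∀ y : G, y ∈ S → y ∈ X → y = 1 := by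
      intro y hyS hyX
      have h1 : orderOf y ∣ p := by
        have := Subgroup.card_dvd_of_le (Subgroup.zpowers_le.2 hyX)
        rwa [hXcard, Nat.card_zpowers] at this
      have h2 : orderOf y ∣ Nat.card S := by
        have := Subgroup.card_dvd_of_le (Subgroup.zpowers_le.2 hyS)
        rwa [Nat.card_zpowers] at this
      rcases (Nat.dvd_prime hp).1 h1 with h | h
      · exact orderOf_eq_one_iff.1 h
      · exact absurd (h ▸ h2) hndvd
    have hfree : ∀ s ∈ S, Commute s x → s = 1 := fun s hs hc => hinter s hs (hcomm_zpow s hc)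
    have hnorm : ∀ s ∈ S, s ∈ Subgroup.normalizer (X : Set G) → s = 1 := by
      intro s hs hN
      have h1 := (Subgroup.mem_normalizer_iff.1 hN x).1 (Subgroup.mem_zpowers x)
      have h2 : s * x * s⁻¹ * x⁻¹ = 1 := by
        refine hinter _ ?_ (mul_mem h1 (inv_mem (Subgroup.mem_zpowers x)))
        rw [show s * x * s⁻¹ * x⁻¹ = s * (x * s⁻¹ * x⁻¹) by group]
        exact mul_mem hs ((inferInstance : S.Normal).conj_mem _ (inv_mem hs) x)
      exact hfree s hs (mul_inv_eq_iff_eq_mul.1 (mul_inv_eq_one.1 h2))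
    refine ⟨?_, ?_, ?_, ?_⟩
    · have hcount : Nat.card {H : Subgroup G // Nat.card H = p} =
          (Subgroup.normalizer (X : Set G)).index := by
        rw [← hPX]
        refine Eq.trans ?_ P.card_eq_index_normalizer
        refine Nat.card_congr (Equiv.ofBijective
          (fun H : {H : Subgroup G // Nat.card H = p} => (Sylow.ofCard H.1 (by
            rw [H.2, ← P.card_eq_multiplicity, hPX, hXcard]) : Sylow p G)) ⟨?_, ?_⟩)
        · exact fun a b h => Subtype.ext (congrArg (fun Q : Sylow p G => (Q : Subgroup G)) h)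
        · intro Q
          refine ⟨⟨(Q : Subgroup G), ?_⟩, Sylow.ext rfl⟩
          rw [Q.card_eq_multiplicity, ← P.card_eq_multiplicity, hPX, hXcard]
      rw [hcount]
      have hdisj : Disjoint S (Subgroup.normalizer (X : Set G)) := by
        rw [Subgroup.disjoint_def]
        exact fun {y} h1 h2 => hnorm y h1 h2
      have h3 : Nat.card S ∣ Nat.card (G ⧸ Subgroup.normalizer (X : Set G)) := by
        set N := Subgroup.normalizer (X : Set G)
        have h4 : Nat.card ↥(S ⊔ N) = Nat.card S * Nat.card N := by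
          rw [← Nat.card_prod]
          refine (Nat.card_congr (Equiv.ofBijective
            (fun a : S × N => (⟨(a.1 : G) * (a.2 : G),
              mul_mem (Subgroup.mem_sup_left a.1.2) (Subgroup.mem_sup_right a.2.2)⟩ : ↥(S ⊔ N)))
            ⟨?_, ?_⟩)).symm
          · intro a b h
            have h' : (a.1 : G) * (a.2 : G) = (b.1 : G) * (b.2 : G) := congrArg Subtype.val h
            have := Subgroup.mul_injective_of_disjoint hdisj h'
            exact this
          · intro y
            have hy : (y : G) ∈ ((S ⊔ N : Subgroup G) : Set G) := y.2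
            rw [Subgroup.normal_mul] at hy
            obtain ⟨a, ha, b, hb, hab⟩ := hy
            exact ⟨⟨⟨a, ha⟩, ⟨b, hb⟩⟩, Subtype.ext hab⟩
        refine Nat.dvd_of_mul_dvd_mul_right (k := Nat.card N) Nat.card_pos ?_
        rw [← h4, ← N.card_eq_card_quotient_mul_card_subgroup]
        exact Subgroup.card_subgroup_dvd_card _
      rwa [Subgroup.index_eq_card]
    · letI : MulAction X S :=
        { smul := fun u s => ⟨(u : G) * s * (u : G)⁻¹,
            (inferInstance : S.Normal).conj_mem _ s.2 _⟩
          one_smul := fun s => Subtype.ext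
            (show ((1 : X) : G) * s * ((1 : X) : G)⁻¹ = s by simp)
          mul_smul := fun u v s => Subtype.ext
            (show ((u * v : X) : G) * s * ((u * v : X) : G)⁻¹ =
              (u : G) * ((v : G) * s * (v : G)⁻¹) * (u : G)⁻¹ by simp [mul_assoc]) }
      have h := hXp.card_modEq_card_fixedPoints S
      have hfix : Nat.card (MulAction.fixedPoints X S) = 1 := by
        rw [Nat.card_eq_one_iff_unique]
        refine ⟨⟨fun a b => ?_⟩, ⟨⟨1, fun u => Subtype.ext
          (show (u : G) * ((1 : S) : G) * (u : G)⁻¹ = ((1 : S) : G) by simp)⟩⟩⟩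
        have h1 : ∀ c : MulAction.fixedPoints X S, (c.1 : G) = 1 := by
          intro c
          have := congrArg Subtype.val (c.2 ⟨x, Subgroup.mem_zpowers x⟩)
          exact hfree _ c.1.2 (mul_inv_eq_iff_eq_mul.1 this).symm
        exact Subtype.ext (Subtype.ext ((h1 a).trans (h1 b).symm))
      rw [hfix] at h
      have h' : Nat.card S % p = 1 % p := h
      rwa [Nat.one_mod_eq_one.2 hp.ne_one] at h'
    · have hd : orderOf (x : G ⧸ S) ∣ p := hx ▸ orderOf_map_dvd (QuotientGroup.mk' S) x
      rcases (Nat.dvd_prime hp).1 hd with h | h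
      · have hxS : x ∈ S := (QuotientGroup.eq_one_iff x).1 (orderOf_eq_one_iff.1 h)
        have := hinter x hxS (Subgroup.mem_zpowers x)
        rw [this, orderOf_one] at hx
        exact absurd hx hp.one_lt.ne
      · exact h
    · ext y
      induction y using QuotientGroup.induction_on with
      | H y =>
        constructor
        · intro hy
          have hyx := Subgroup.mem_centralizer_iff.1 hy _ rfl
          rw [← QuotientGroup.mk_mul, ← QuotientGroup.mk_mul, QuotientGroup.eq] at hyx
          let f : S → S := fun s => ⟨x⁻¹ * ((s : G) * x * (s : G)⁻¹), by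
            rw [show x⁻¹ * ((s : G) * x * (s : G)⁻¹) = (x⁻¹ * (s : G) * x⁻¹⁻¹) * (s : G)⁻¹ by group]
            exact mul_mem ((inferInstance : S.Normal).conj_mem _ s.2 x⁻¹) (inv_mem s.2)⟩
          have hinj : Function.Injective f := by
            intro a b hab
            have h1 : (a : G) * x * (a : G)⁻¹ = (b : G) * x * (b : G)⁻¹ :=
              mul_left_cancel (congrArg Subtype.val hab)
            refine Subtype.ext (inv_mul_eq_one.1 (hfree _ (mul_mem (inv_mem a.2) b.2) ?_))
            show (a : G)⁻¹ * b * x = x * ((a : G)⁻¹ * b)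
            calc (a : G)⁻¹ * b * x = (a : G)⁻¹ * ((b : G) * x * (b : G)⁻¹) * b := by group
              _ = (a : G)⁻¹ * ((a : G) * x * (a : G)⁻¹) * b := by rw [h1]
              _ = x * ((a : G)⁻¹ * b) := by group
          have hmem : x⁻¹ * (y * x * y⁻¹) ∈ S := by
            have h2 := (inferInstance : S.Normal).conj_mem _ hyx y
            have h3 : x⁻¹ * (y * x * y⁻¹) = y * ((x * y)⁻¹ * (y * x)) * y⁻¹ := by group
            rw [h3]
            exact h2
          obtain ⟨s, hs⟩ := Finite.surjective_of_injective hinj ⟨_, hmem⟩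
          have h1 : (s : G) * x * (s : G)⁻¹ = y * x * y⁻¹ :=
            mul_left_cancel (congrArg Subtype.val hs)
          have h2 : (s : G)⁻¹ * y ∈ X := by
            refine hcomm_zpow _ ?_
            show (s : G)⁻¹ * y * x = x * ((s : G)⁻¹ * y)
            calc (s : G)⁻¹ * y * x = (s : G)⁻¹ * (y * x * y⁻¹) * y := by group
              _ = (s : G)⁻¹ * ((s : G) * x * (s : G)⁻¹) * y := by rw [h1]
              _ = x * ((s : G)⁻¹ * y) := by group
          obtain ⟨k, hk⟩ := Subgroup.mem_zpowers_iff.1 h2
          refine Subgroup.mem_zpowers_iff.2 ⟨k, ?_⟩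
          rw [← QuotientGroup.mk_zpow, hk, QuotientGroup.eq]
          simpa using (inferInstance : S.Normal).conj_mem _ s.2 y⁻¹
        · intro hy
          obtain ⟨k, hk⟩ := Subgroup.mem_zpowers_iff.1 hy
          rw [Subgroup.mem_centralizer_iff]
          intro w hw
          rw [Set.mem_singleton_iff.1 hw, ← hk]
          exact ((Commute.refl (x : G ⧸ S)).zpow_right k).eq

end Cfsg.Agent.S4496
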