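import Cfsg.Statements.S4497
import Cfsg.Agent.Lib.Block.SelfCentral
-- import your own Cfsg.Agent.* helpers here

set_option autoImplicit false
open Cfsg

namespace Cfsg.Agent.S4497

/-- Let the finite group G contain an element x of prime order p with C_G(x) = ⟨x⟩, let t be the number of conjugacy classes of elements of order p, and let S* = O_{p′}(G) be the largest normal subgroup of order prime to p. Then S* ≤ G′; if t ≠ p − 1 the quotient G′/S* is simple (in particular non-trivial); if t = p − 1 then G′ = S*. -/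
theorem result {G : Type*} [Group G] [Finite G] (p : ℕ) (hp : p.Prime) (x : G) (hx : orderOf x = p) (hC : Subgroup.centralizer ({x} : Set G) = Subgroup.zpowers x) (t : ℕ) (ht : Nat.card {C : ConjClasses G // ∃ g ∈ C.carrier, orderOf g = p} = t) : Cfsg.pPrimeCore p G ≤ commutator G ∧ (t ≠ p - 1 → ∀ h : ((Cfsg.pPrimeCore p G).subgroupOf (commutator G)).Normal, IsSimpleGroup (↥(commutator G) ⧸ (Cfsg.pPrimeCore p G).subgroupOf (commutator G))) ∧ (t = p - 1 → commutator G = Cfsg.pPrimeCore p G) := by
  classical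
  letI : Fintype G := Fintype.ofFinite G
  haveI : Fact p.Prime := ⟨hp⟩
  obtain ⟨P, hP⟩ := Cfsg.Lib.Block.sc_exists_sylow hx hC
  have hte := Cfsg.Lib.Block.sc_classes hx hC hP
  rw [ht] at hte
  set e := (P : Subgroup G).relIndex (Subgroup.normalizer ((P : Subgroup G) : Set G)) with he
  have hp1 : 0 < p - 1 := by have := hp.one_lt; omega
  have ht0 : 0 < t := Nat.pos_of_ne_zero fun h => by rw [h, zero_mul] at hte; omega
  have he1 : e = 1 ↔ t = p - 1 := by
    constructor
    · intro h; rw [h, mul_one] at hte; exact hte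
    · intro h; rw [h] at hte; exact (mul_eq_left₀ hp1.ne').1 hte
  refine ⟨Cfsg.Lib.Block.sc_pPrimeCore_le hx hC hP, fun h hn => ?_,
    fun h => (Cfsg.Lib.Block.sc_complement hx hC hP (he1.2 h)).1⟩
  have hne : e ≠ 1 := fun h' => h (he1.1 h')
  have hPK := Cfsg.Lib.Block.sc_sylow_le_commutator hx hC hP hne
  have hnd := Cfsg.Lib.Core.pPrimeCore_not_dvd p G
  have hxP : x ∈ (P : Subgroup G) := by rw [hP]; exact Subgroup.mem_zpowers x
  set K := commutator G with hK
  haveI : Nontrivial (↥K ⧸ (Cfsg.pPrimeCore p G).subgroupOf K) := by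
    rw [QuotientGroup.nontrivial_iff]
    intro htop
    rw [Subgroup.subgroupOf_eq_top] at htop
    refine hnd ?_
    have := Subgroup.card_dvd_of_le (hPK.trans htop)
    rwa [Cfsg.Lib.Block.sc_card hx hC hP] at this
  refine ⟨fun Q hQ => ?_⟩
  set f := QuotientGroup.mk' ((Cfsg.pPrimeCore p G).subgroupOf K) with hf
  have hfs : Function.Surjective f := QuotientGroup.mk'_surjective _
  haveI hMn : (Q.comap f).Normal := hQ.comap f
  by_cases hdiv : p ∣ Nat.card (Q.comap f)
  · right
    obtain ⟨y, hy⟩ := exists_prime_orderOf_dvd_card' p hdiv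
    have hyK : orderOf ((y : K) : G) = p := by
      rw [orderOf_submonoid, orderOf_submonoid, hy]
    let P' : Sylow p K := P.subtype hPK
    obtain ⟨S, hS⟩ := (IsPGroup.of_card (G := Subgroup.zpowers (y : K)) (p := p) (n := 1)
      (by rw [Nat.card_zpowers, orderOf_submonoid, hy, pow_one])).exists_le_sylow
    have hall : ∀ S' : Sylow p K, (S' : Subgroup K) ≤ Q.comap f := by
      intro S'
      obtain ⟨a, ha⟩ := MulAction.exists_smul_eq K S S'
      rw [← ha, Sylow.coe_subgroup_smul]
      rintro _ ⟨z, hz, rfl⟩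
      refine hMn.conj_mem z ?_ a
      have hcS : Nat.card (S : Subgroup K) = p := by
        obtain ⟨b, hb⟩ := MulAction.exists_smul_eq K P' S
        rw [← hb, Sylow.coe_subgroup_smul]
        refine (Nat.card_congr (Subgroup.equivSMul _ _).toEquiv).symm.trans ?_
        show Nat.card ((P : Subgroup G).subgroupOf K) = p
        rw [Nat.card_congr (Subgroup.subgroupOfEquivOfLe hPK).toEquiv,
          Cfsg.Lib.Block.sc_card hx hC hP]
      have hle : Subgroup.zpowers (y : K) = (S : Subgroup K) := Subgroup.eq_of_le_of_card_ge hS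
        (by rw [hcS, Nat.card_zpowers, orderOf_submonoid, hy])
      exact Subgroup.zpowers_le.2 y.2 (hle ▸ hz)
    have hle : Subgroup.normalClosure ((P : Subgroup G) : Set G) ≤ (Q.comap f).map K.subtype := by
      rw [Subgroup.normalClosure, Subgroup.closure_le]
      intro w hw
      rw [Group.conjugatesOfSet, Set.mem_iUnion₂] at hw
      obtain ⟨z, hz, hzw⟩ := hw
      obtain ⟨a, rfl⟩ := isConj_iff.1 hzw
      have hPa : ((a • P : Sylow p G) : Subgroup G) ≤ K := by
        rw [Sylow.coe_subgroup_smul]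
        rintro _ ⟨u, hu, rfl⟩
        exact (inferInstance : K.Normal).conj_mem u (hPK hu) a
      have hm : a * z * a⁻¹ ∈ ((a • P : Sylow p G) : Subgroup G) := by
        rw [Sylow.coe_subgroup_smul]
        exact ⟨z, hz, rfl⟩
      exact ⟨⟨_, hPa hm⟩, hall (Sylow.subtype (a • P) hPa) hm, rfl⟩
    have htopK : Q.comap f = ⊤ := by
      refine top_le_iff.1 fun k _ => ?_
      obtain ⟨k', hk', e'⟩ := hle (Cfsg.Lib.Block.sc_commutator_le hx hC hP _
        Subgroup.subset_normalClosure k.2)
      rwa [← Subtype.ext (a1 := k') (a2 := k) e']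
    rw [← Subgroup.map_comap_eq_self_of_surjective hfs Q, htopK,
      Subgroup.map_top_of_surjective f hfs]
  · left
    have h1 : Q.comap f ≤ Cfsg.pPrimeCore p K :=
      Cfsg.Lib.Core.le_pPrimeCore' hMn (Cfsg.Lib.Core.coprime_iff_not_dvd'.2 hdiv)
    have h2 : (Q.comap f).map K.subtype ≤ Cfsg.pPrimeCore p G := by
      refine (Subgroup.map_mono h1).trans (Cfsg.Lib.Core.le_pPrimeCore'
        (ConjAct.normal_of_characteristic_of_normal) ?_)
      rw [Cfsg.Lib.Core.card_map_subtype]
      exact Cfsg.Lib.Core.pPrimeCore_coprime p K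
    have h3 : Q.comap f ≤ (Cfsg.pPrimeCore p G).subgroupOf K := fun k hk => h2 ⟨k, hk, rfl⟩
    rw [← Subgroup.map_comap_eq_self_of_surjective hfs Q, eq_bot_iff]
    refine (Subgroup.map_mono h3).trans ?_
    rw [hf, QuotientGroup.map_mk'_self]

end Cfsg.Agent.S4497
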