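import Cfsg.Statements.S4498
import Cfsg.Agent.Lib.Block.Vanish
import Cfsg.Agent.Lib.Block.Principal

set_option autoImplicit false
open Cfsg
open scoped ComplexConjugate

namespace Cfsg.Agent.S4498

/-- Let p and q be distinct primes dividing the order of the finite group G, and suppose G has no element of order p·q. Fix maximal ideals M_p over p and M_q over q of the algebraic integers. Then the principal p-block and the principal q-block of G have a non-principal irreducible character in common. -/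
theorem result {G : Type*} [Group G] [Finite G] (p q : ℕ) [Fact p.Prime] [Fact q.Prime] (hpq : p ≠ q) (hp : p ∣ Nat.card G) (hq : q ∣ Nat.card G) (hno : ∀ g : G, orderOf g ≠ p * q) (Mp Mq : Ideal Cfsg.AlgInt) (hMp : Cfsg.IsPModular p Mp) (hMq : Cfsg.IsPModular q Mq) : ∃ χ : Cfsg.IrrCharacter G, (χ : G → ℂ) ≠ (fun _ => 1) ∧ χ ∈ Cfsg.principalBlock Mp G ∧ χ ∈ Cfsg.principalBlock Mq G := by
  classical
  haveI := Fintype.ofFinite G
  by_contra hcon
  obtain ⟨x, hx⟩ := exists_prime_orderOf_dvd_card' p hp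
  obtain ⟨y, hy⟩ := exists_prime_orderOf_dvd_card' q hq
  set Bp := Cfsg.principalBlock Mp G with hBp
  set Bq := Cfsg.principalBlock Mq G with hBq
  have hIp := Cfsg.Lib.Block.vInt_indVec hMp (Cfsg.Lib.Block.isPBlock_principal (G := G) (M := Mp))
  have hIq := Cfsg.Lib.Block.vInt_indVec hMq (Cfsg.Lib.Block.isPBlock_principal (G := G) (M := Mq))
  have hsum : ∀ g : G, (∑ᶠ χ ∈ Bp, (χ : G → ℂ) g * conj ((χ : G → ℂ) x)) *
      (∑ᶠ χ ∈ Bq, (χ : G → ℂ) y * conj ((χ : G → ℂ) g)) = 0 := by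
    intro g
    by_cases hgp : p ∣ orderOf g
    · by_cases hgq : q ∣ orderOf g
      · have hd : p * q ∣ orderOf g :=
          ((Nat.coprime_primes (Fact.out : p.Prime) (Fact.out : q.Prime)).2 hpq).mul_dvd_of_dvd_of_dvd hgp hgq
        exact absurd (orderOf_pow_orderOf_div (orderOf_pos g).ne' hd) (hno _)
      · rw [Cfsg.Lib.Block.sum_block_mul_conj_eq_zero hMq hIq (g := y) (h := g)
          fun h => Cfsg.Lib.Block.not_isConj_pPt_of_dvd hgq (hy ▸ dvd_rfl) h.symm, mul_zero]
    · rw [Cfsg.Lib.Block.sum_block_mul_conj_eq_zero hMp hIp (g := g) (h := x)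
        (Cfsg.Lib.Block.not_isConj_pPt_of_dvd hgp (hx ▸ dvd_rfl)), zero_mul]
  have horth : ∀ χ ψ : Cfsg.IrrCharacter G,
      ∑ g : G, (χ : G → ℂ) g * conj ((ψ : G → ℂ) g) = if χ = ψ then (Nat.card G : ℂ) else 0 := by
    intro χ ψ
    have h := Cfsg.Lib.Char.classInner_irr χ.2 ψ.2
    rw [Cfsg.classInner, inv_mul_eq_iff_eq_mul₀ Cfsg.Lib.Char.card_cast_ne_zero] at h
    rw [h]
    by_cases hc : χ = ψ
    · simp [hc]
    · rw [if_neg hc, if_neg fun h' => hc (Subtype.ext h'), mul_zero]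
  have h0 := Finset.sum_eq_zero (s := (Finset.univ : Finset G)) fun g _ => hsum g
  simp only [finsum_mem_eq_finite_toFinset_sum _ (Set.toFinite _), Finset.sum_mul, Finset.mul_sum] at h0
  rw [Finset.sum_comm, Finset.sum_congr rfl fun χ _ => Finset.sum_comm, Finset.sum_comm,
    Finset.sum_congr rfl fun (χ : Cfsg.IrrCharacter G) _ => Finset.sum_congr rfl fun (ψ : Cfsg.IrrCharacter G) _ => (show
      ∑ g : G, (χ : G → ℂ) g * conj ((χ : G → ℂ) x) * ((ψ : G → ℂ) y * conj ((ψ : G → ℂ) g)) =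
        conj ((χ : G → ℂ) x) * (ψ : G → ℂ) y * if χ = ψ then (Nat.card G : ℂ) else 0 from by
      rw [← horth χ ψ, Finset.mul_sum]
      exact Finset.sum_congr rfl fun g _ => by ring),
    Finset.sum_eq_single (Cfsg.Lib.Block.trivChar G) (fun χ hχ hne => Finset.sum_eq_zero fun ψ hψ => by
      rw [Set.Finite.mem_toFinset] at hχ hψ
      rw [if_neg, mul_zero]
      rintro rfl
      exact hcon ⟨χ, fun h => hne (Subtype.ext h), hχ, hψ⟩)
      (fun h => absurd ((Set.Finite.mem_toFinset _).2 (Cfsg.Lib.Block.trivChar_mem_principal hMp)) h),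
    Finset.sum_eq_single (Cfsg.Lib.Block.trivChar G) (fun ψ _ hne => by
      rw [if_neg (Ne.symm hne), mul_zero])
      (fun h => absurd ((Set.Finite.mem_toFinset _).2 (Cfsg.Lib.Block.trivChar_mem_principal hMq)) h),
    Cfsg.Lib.Block.trivChar_coe, if_pos rfl, map_one, one_mul, one_mul] at h0
  exact Cfsg.Lib.Char.card_cast_ne_zero h0

end Cfsg.Agent.S4498
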