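import Cfsg.Statements.S4501
import Cfsg.Agent.Lib.Small.SmallCofactor
-- import your own Cfsg.Agent.* helpers here

set_option autoImplicit false
open Cfsg

namespace Cfsg.Agent.S4501

open Cfsg.Lib Cfsg.Lib.Small Cfsg.Lib.Small.SmallCofactor

theorem psl_five_or_seven {G : Type*} [Group G] [Finite G] [IsSimpleGroup G]
    (h : Nat.card G = 60 ∨ Nat.card G = 168) :
    Nonempty (G ≃* alternatingGroup (Fin 5)) ∨
      Nonempty (G ≃* Matrix.ProjectiveSpecialLinearGroup (Fin 2) (ZMod 7)) := by
  haveI : Fact (Nat.Prime 7) := ⟨by norm_num⟩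
  rcases h with h | h
  · exact Or.inl (Cfsg.Agent.S0494.result h)
  · exact Or.inr (Cfsg.Agent.S0495.result h (ZMod.card 7))

/-- Order `4 p^a q^b`. -/
theorem four {G : Type*} [Group G] [Fintype G] [IsSimpleGroup G] (hnc : ¬ IsCyclic G) (p q a b : ℕ)
    (hp : p.Prime) (hq : q.Prime) (hpq : p ≠ q) (ha : a ≤ 2)
    (hG : Nat.card G = 4 * p ^ a * q ^ b) : Nat.card G = 60 := by
  rcases (show a = 0 ∨ 1 ≤ a by omega) with rfl | ha1
  · exact absurd (show Nat.card G = 2 ^ 2 * q ^ b by rw [hG]; ring)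
      (not_two_primes hnc Nat.prime_two hq)
  by_cases hp2 : p = 2
  · exact absurd (show Nat.card G = 2 ^ (a + 2) * q ^ b by rw [hG, hp2]; ring)
      (not_two_primes hnc Nat.prime_two hq)
  by_cases hq2 : q = 2
  · exact absurd (show Nat.card G = p ^ a * 2 ^ (b + 2) by rw [hG, hq2]; ring)
      (not_two_primes hnc hp Nat.prime_two)
  have hb1 : b ≠ 0 := fun h => not_two_primes hnc (i := a) (j := 2) hp Nat.prime_two
    (by rw [hG, h]; ring)
  rw [mul_assoc] at hG
  by_cases hp3 : p = 3
  · subst hp3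
    have hq5 : 5 ≤ q := by
      have := hq.two_le
      have hq4 : q ≠ 4 := fun h => by rw [h] at hq; norm_num at hq
      omega
    rcases (show a = 1 ∨ a = 2 by omega) with rfl | rfl
    · exact twelve hnc hq hq5 (b := b) (by rw [hG]; ring)
    · exact (thirty_six hnc hq hq5 hG).elim
  have hp5 : 5 ≤ p := by
    have := hp.two_le
    have hp4 : p ≠ 4 := fun h => by rw [h] at hp; norm_num at hp
    omega
  have hq3 : q = 3 := by
    by_contra hq3
    have hg : Odd (p ^ a * q ^ b) := (hp.odd_of_ne_two hp2).pow.mul (hq.odd_of_ne_two hq2).pow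
    haveI : Fact (Nat.Prime 2) := ⟨Nat.prime_two⟩
    obtain ⟨P⟩ : Nonempty (Sylow 2 G) := inferInstance
    exact no_three_free hnc hG hg (fun h => (Nat.prime_three.dvd_mul.1 h).elim
      (fun h => hp3 ((Nat.prime_dvd_prime_iff_eq Nat.prime_three hp).1
        (Nat.prime_three.dvd_of_dvd_pow h)).symm)
      (fun h => hq3 ((Nat.prime_dvd_prime_iff_eq Nat.prime_three hq).1
        (Nat.prime_three.dvd_of_dvd_pow h)).symm))
  subst hq3
  rcases (show a = 1 ∨ a = 2 by omega) with rfl | rfl
  swap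
  · exact four_three hnc hp hp5 (Or.inl rfl) hG
  by_cases h5 : p = 5
  · exact four_three hnc hp hp5 (Or.inr ⟨rfl, h5⟩) hG
  have hp6 : p ≠ 6 := fun h => by rw [h] at hp; norm_num at hp
  exact (large_prime hnc hp (by omega) hG).elim

/-- Order `3 p^a q^b`. -/
theorem three {G : Type*} [Group G] [Fintype G] [IsSimpleGroup G] (hnc : ¬ IsCyclic G) (p q a b : ℕ)
    (hp : p.Prime) (hq : q.Prime) (hpq : p ≠ q) (ha : a ≤ 2)
    (hG : Nat.card G = 3 * p ^ a * q ^ b) : Nat.card G = 60 ∨ Nat.card G = 168 := by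
  rcases (show a = 0 ∨ 1 ≤ a by omega) with rfl | ha1
  · exact absurd (show Nat.card G = 3 ^ 1 * q ^ b by rw [hG]; ring)
      (not_two_primes hnc Nat.prime_three hq)
  have hb1 : b ≠ 0 := fun h => not_two_primes hnc (i := a) (j := 1) hp Nat.prime_three
    (by rw [hG, h]; ring)
  by_cases hp3 : p = 3
  · exact absurd (show Nat.card G = 3 ^ (a + 1) * q ^ b by rw [hG, hp3]; ring)
      (not_two_primes hnc Nat.prime_three hq)
  by_cases hq3 : q = 3
  · exact absurd (show Nat.card G = p ^ a * 3 ^ (b + 1) by rw [hG, hq3]; ring)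
      (not_two_primes hnc hp Nat.prime_three)
  rw [mul_assoc] at hG
  by_cases hp2 : p = 2
  · subst hp2
    rcases (show a = 1 ∨ a = 2 by omega) with rfl | rfl
    · exfalso
      refine smallest_once hnc Nat.prime_two ((Nat.minFac_eq_two_iff _).2 ⟨3 * q ^ b, by
        rw [hG]; ring⟩) ?_
      exact fac_of_eq Nat.prime_two hq hpq (by norm_num) hG
    · exact Or.inl (four 3 q 1 b (hnc := hnc) Nat.prime_three hq (Ne.symm hq3) (by norm_num)
        (by rw [hG]; ring))
  by_cases hq2 : q = 2
  swap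
  · exfalso
    have h3m : ¬ 3 ∣ p ^ a * q ^ b := fun h => (Nat.prime_three.dvd_mul.1 h).elim
      (fun h => hp3 ((Nat.prime_dvd_prime_iff_eq Nat.prime_three hp).1
        (Nat.prime_three.dvd_of_dvd_pow h)).symm)
      (fun h => hq3 ((Nat.prime_dvd_prime_iff_eq Nat.prime_three hq).1
        (Nat.prime_three.dvd_of_dvd_pow h)).symm)
    refine smallest_once hnc Nat.prime_three ?_ (fac_three h3m hG)
    have hodd : Odd (Nat.card G) := by
      rw [hG]
      exact (by decide : Odd 3).mul ((hp.odd_of_ne_two hp2).pow.mul (hq.odd_of_ne_two hq2).pow)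
    have hle := Nat.minFac_le_of_dvd (by norm_num) (Dvd.intro _ hG.symm)
    have hpm := Nat.minFac_prime (n := Nat.card G) (fun h => by
      rw [hG, mul_eq_one] at h; omega)
    have hne : (Nat.card G).minFac ≠ 2 := fun h => Nat.not_even_iff_odd.2 hodd
      (even_iff_two_dvd.2 (h ▸ Nat.minFac_dvd _))
    have := hpm.two_le
    omega
  subst hq2
  have hp5 : 5 ≤ p := by
    have := hp.two_le
    have hp4 : p ≠ 4 := fun h => by rw [h] at hp; norm_num at hp
    omega
  rcases (show a = 1 ∨ a = 2 by omega) with rfl | rfl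
  · exact ThreePrime.card_cases (b := b) hnc Nat.prime_three Nat.prime_two hp (by norm_num)
      (by omega) (Ne.symm hp2) (by rw [hG]; ring)
  · exact (three_two hnc hp hp5 hG).elim

/-- Let G be a non-abelian finite simple group and p, q distinct primes. If the order of G is 4·p^a·q^b with a ≤ 2, then G is isomorphic to the alternating group of degree 5. If the order of G is 3·p^a·q^b with a ≤ 2, then G is isomorphic to the alternating group of degree 5 or to PSL(2,7). -/
theorem result {G : Type*} [Group G] [Finite G] [IsSimpleGroup G] (hna : ∃ x y : G, x * y ≠ y * x) (p q a b : ℕ) (hp : p.Prime) (hq : q.Prime) (hpq : p ≠ q) (ha : a ≤ 2) : (Nat.card G = 4 * p ^ a * q ^ b → Nonempty (G ≃* alternatingGroup (Fin 5))) ∧ (Nat.card G = 3 * p ^ a * q ^ b → Nonempty (G ≃* alternatingGroup (Fin 5)) ∨ Nonempty (G ≃* Matrix.ProjectiveSpecialLinearGroup (Fin 2) (ZMod 7))) := by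
  haveI := Fintype.ofFinite G
  have hnc : ¬ IsCyclic G := fun h => by
    obtain ⟨x, y, hxy⟩ := hna
    let _ := h.commGroup
    exact hxy (mul_comm x y)
  exact ⟨fun h => Cfsg.Agent.S0494.result (four hnc p q a b hp hq hpq ha h),
    fun h => psl_five_or_seven (three hnc p q a b hp hq hpq ha h)⟩

end Cfsg.Agent.S4501
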