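import Cfsg.Statements.S4506
import Cfsg.Agent.Lib.Block.GaloisTwist
import Cfsg.Agent.Lib.Block.LocalRing
import Cfsg.Agent.Lib.Block.RegInt
import Cfsg.Agent.Lib.Char.ElementaryPart
import Cfsg.Agent.Lib.Char.Formulas
import Mathlib.NumberTheory.NumberField.Cyclotomic.Basic
import Mathlib.GroupTheory.GroupAction.Quotient

set_option autoImplicit false
set_option linter.style.haveILetI false
open Cfsg

namespace Cfsg.Agent.S4506

open scoped ComplexConjugate
open Cfsg.Lib

universe u

/-- An integral element of a cyclotomic field is an integral polynomial in the root of unity. -/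
theorem exists_poly {N : ℕ} [NeZero N] {y : ℂ} (hy : y ∈ Char.cycField N) (hint : IsIntegral ℤ y) :
    ∃ r : Polynomial ℤ,
      Polynomial.aeval (Complex.exp (2 * Real.pi * Complex.I / (N : ℂ))) r = y := by
  have hζ := Complex.isPrimitiveRoot_exp N (NeZero.ne N)
  haveI : IsCyclotomicExtension {N} ℚ (Char.cycField N) := by
    show IsCyclotomicExtension {N} ℚ
      (IntermediateField.adjoin ℚ {Complex.exp (2 * Real.pi * Complex.I / (N : ℂ))}).toSubalgebra
    rw [IntermediateField.adjoin_simple_toSubalgebra_of_isAlgebraic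
      (Char.zeta_isIntegral N).isAlgebraic]
    exact hζ.adjoin_isCyclotomicExtension ℚ
  haveI := Char.finiteDimensional_cycField N
  haveI : NumberField (Char.cycField N) := ⟨⟩
  have hz : IsPrimitiveRoot (Char.cycGen N) N :=
    IsPrimitiveRoot.of_map_of_injective (f := (Char.cycField N).val) hζ Subtype.val_injective
  have hint' : IsIntegral ℤ (⟨y, hy⟩ : Char.cycField N) :=
    (isIntegral_algHom_iff ((Char.cycField N).val.restrictScalars ℤ) Subtype.val_injective).mp hint
  obtain ⟨⟨z, hz'⟩, he⟩ :=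
    (IsCyclotomicExtension.Rat.isIntegralClosure_adjoin_singleton hz).isIntegral_iff.mp hint'
  rw [Algebra.adjoin_singleton_eq_range_aeval] at hz'
  obtain ⟨r, hr⟩ := hz'
  refine ⟨r, ?_⟩
  have he' : z = (⟨y, hy⟩ : Char.cycField N) := he
  have hr' : Polynomial.aeval (Char.cycGen N) r = z := hr
  have h := Polynomial.aeval_algHom_apply ((Char.cycField N).val.restrictScalars ℤ) (Char.cycGen N) r
  rw [hr', he'] at h
  exact h

theorem exists_int_of_integral_ratio {A B : ℕ} (hA : A ≠ 0) {x : ℂ} (hx : IsIntegral ℤ x)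
    (h : (A : ℂ) * x = (B : ℂ)) : ∃ c : ℕ, A * c = B ∧ x = (c : ℂ) := by
  have hA' : (A : ℂ) ≠ 0 := Nat.cast_ne_zero.mpr hA
  have hx' : x = (B : ℂ) / A := by rw [eq_div_iff hA', mul_comm, h]
  obtain ⟨c, hc⟩ := Char.natCast_dvd_of_isIntegral hA (hx' ▸ hx)
  exact ⟨c, hc.symm, by rw [hx', hc, Nat.cast_mul, mul_div_cancel_left₀ _ hA']⟩

/-- Sums of a root of unity over the twists fixing the roots of order `n`. -/
theorem dvd_sum_twists {p a n : ℕ} (hp : p.Prime) (ha : 1 ≤ a) (hn : ¬ p ∣ n) [NeZero (p ^ a * n)]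
    (hd : n ∣ p ^ a * n) (z : ℂ) (hz : z ^ (p ^ a * n) = 1) :
    ∃ c : ℂ, IsIntegral ℤ c ∧
      ∑ u : (ZMod.unitsMap hd).ker, z ^ ((u : (ZMod (p ^ a * n))ˣ) : ZMod (p ^ a * n)).val =
        (p : ℂ) ^ (a - 1) * c := by
  classical
  set N := p ^ a * n with hN
  have hn0 : n ≠ 0 := fun h => hn (h ▸ dvd_zero p)
  haveI : NeZero (p * n) := ⟨mul_ne_zero hp.ne_zero hn0⟩
  haveI : NeZero n := ⟨hn0⟩
  have hd' : p * n ∣ N := Nat.mul_dvd_mul_right (dvd_pow_self p (by omega)) n
  set Γ := (ZMod.unitsMap hd).ker with hΓ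
  set W : Subgroup Γ := (ZMod.unitsMap hd').ker.subgroupOf Γ with hW
  have hint : ∀ x : ℂ, x ^ N = 1 → IsIntegral ℤ x := fun x hx =>
    IsIntegral.of_pow (NeZero.pos N) (hx ▸ isIntegral_one)
  have hval : ∀ u : (ZMod N)ˣ, ∀ m : ℕ, ∀ hm : m ∣ N, u ∈ (ZMod.unitsMap hm).ker →
      ((u : ZMod N).val : ZMod m) = 1 := by
    intro u m hm hu
    have h := congrArg Units.val (MonoidHom.mem_ker.mp hu)
    rw [ZMod.unitsMap_val, Units.val_one] at h
    rw [← h, ← ZMod.natCast_val]
  have hcast : ∀ u : (ZMod N)ˣ, ∀ m : ℕ, ∀ hm : m ∣ N, ((u : ZMod N).val : ZMod m) = 1 →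
      u ∈ (ZMod.unitsMap hm).ker := by
    intro u m hm h
    rw [MonoidHom.mem_ker, Units.ext_iff, ZMod.unitsMap_val, ← ZMod.natCast_val, h, Units.val_one]
  have hsub : (ZMod.unitsMap hd').ker ≤ Γ := fun u hu => hcast u n hd (by
    have h : (((u : ZMod N).val : ℕ) : ZMod (p * n)) = ((1 : ℕ) : ZMod (p * n)) := by
      rw [hval u _ hd' hu, Nat.cast_one]
    have h' : (((u : ZMod N).val : ℕ) : ZMod n) = ((1 : ℕ) : ZMod n) :=
      (ZMod.natCast_eq_natCast_iff _ _ _).mpr
        (((ZMod.natCast_eq_natCast_iff _ _ _).mp h).of_mul_left p)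
    rw [h', Nat.cast_one])
  have hcop : ∀ j : ℕ, (1 + j * (p * n)).Coprime N := by
    intro j
    have h1 : ∀ d, d ∣ p * n → (1 + j * (p * n)).Coprime d := fun d hd =>
      ((Nat.coprime_add_mul_right_left 1 (p * n) j).mpr (Nat.coprime_one_left _)).coprime_dvd_right hd
    exact Nat.Coprime.mul_right ((h1 p (dvd_mul_right p n)).pow_right a) (h1 n (dvd_mul_left n p))
  have hcardW : Nat.card W = p ^ (a - 1) := by
    rw [hW, Nat.card_congr (Subgroup.subgroupOfEquivOfLe hsub).toEquiv]
    have h1 := (ZMod.unitsMap hd').ker.card_mul_index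
    rw [Subgroup.index_ker, MonoidHom.range_eq_top.mpr (ZMod.unitsMap_surjective hd'),
      Subgroup.card_top] at h1
    simp only [Nat.card_eq_fintype_card (α := (ZMod N)ˣ),
      Nat.card_eq_fintype_card (α := (ZMod (p * n))ˣ), ZMod.card_units_eq_totient] at h1
    have hc : Nat.Coprime p n := hp.coprime_iff_not_dvd.mpr hn
    rw [show Nat.totient N = p ^ (a - 1) * (p - 1) * Nat.totient n from by
        rw [hN, Nat.totient_mul (hc.pow_left a), Nat.totient_prime_pow hp ha],
      Nat.totient_mul hc, Nat.totient_prime hp, ← mul_assoc] at h1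
    have h2 := Nat.eq_of_mul_eq_mul_right (Nat.totient_pos.mpr (Nat.pos_of_ne_zero hn0)) h1
    exact Nat.eq_of_mul_eq_mul_right (by have := hp.two_le; omega) h2
  -- the inner sums
  have hinner : ∀ x : ℂ, x ^ N = 1 → ∃ c : ℂ, IsIntegral ℤ c ∧
      ∑ w : W, x ^ (((w : Γ) : (ZMod N)ˣ) : ZMod N).val = (p : ℂ) ^ (a - 1) * c := by
    intro x hx
    let e : Fin (p ^ (a - 1)) → W := fun j =>
      ⟨⟨ZMod.unitOfCoprime _ (hcop j), hsub (hcast _ _ hd' (by
          rw [ZMod.coe_unitOfCoprime, ZMod.natCast_val, ZMod.cast_natCast hd', Nat.cast_add,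
            Nat.cast_mul, ZMod.natCast_self, mul_zero, add_zero, Nat.cast_one]))⟩,
        Subgroup.mem_subgroupOf.mpr (hcast _ _ hd' (by
          rw [ZMod.coe_unitOfCoprime, ZMod.natCast_val, ZMod.cast_natCast hd', Nat.cast_add,
            Nat.cast_mul, ZMod.natCast_self, mul_zero, add_zero, Nat.cast_one]))⟩
    have hpa : p * p ^ (a - 1) = p ^ a := by rw [← pow_succ']; congr 1; omega
    have heinj : Function.Injective e := by
      intro i j h
      have h1 : ((1 + (i : ℕ) * (p * n) : ℕ) : ZMod N) = ((1 + (j : ℕ) * (p * n) : ℕ) : ZMod N) :=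
        congrArg (fun w : W => (((w : Γ) : (ZMod N)ˣ) : ZMod N)) h
      rw [ZMod.natCast_eq_natCast_iff'] at h1
      have hlt : ∀ k : Fin (p ^ (a - 1)), 1 + (k : ℕ) * (p * n) < N + 1 := fun k => by
        have h2 : (k : ℕ) * (p * n) < p ^ (a - 1) * (p * n) :=
          Nat.mul_lt_mul_of_pos_right k.2 (Nat.mul_pos hp.pos (Nat.pos_of_ne_zero hn0))
        have h3 : p ^ (a - 1) * (p * n) = N := by rw [hN, ← hpa]; ring
        omega
      rcases Nat.lt_trichotomy (i : ℕ) j with h2 | h2 | h2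
      · exfalso
        have h3 : N ∣ ((j : ℕ) - i) * (p * n) := by
          have h4 := (Nat.modEq_iff_dvd' (Nat.add_le_add_left (Nat.mul_le_mul_right _ h2.le) 1)).mp (h1 : _ ≡ _ [MOD N])
          rwa [Nat.add_sub_add_left, ← Nat.sub_mul] at h4
        have h4 := Nat.le_of_dvd (Nat.mul_pos (by omega) (Nat.mul_pos hp.pos
          (Nat.pos_of_ne_zero hn0))) h3
        have h5 : ((j : ℕ) - i) * (p * n) ≤ (j : ℕ) * (p * n) :=
          Nat.mul_le_mul_right _ (Nat.sub_le _ _)
        have := hlt j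
        omega
      · exact Fin.ext h2
      · exfalso
        have h3 : N ∣ ((i : ℕ) - j) * (p * n) := by
          have h4 := (Nat.modEq_iff_dvd' (Nat.add_le_add_left (Nat.mul_le_mul_right _ h2.le) 1)).mp (h1.symm : _ ≡ _ [MOD N])
          rwa [Nat.add_sub_add_left, ← Nat.sub_mul] at h4
        have h4 := Nat.le_of_dvd (Nat.mul_pos (by omega) (Nat.mul_pos hp.pos
          (Nat.pos_of_ne_zero hn0))) h3
        have h5 : ((i : ℕ) - j) * (p * n) ≤ (i : ℕ) * (p * n) :=
          Nat.mul_le_mul_right _ (Nat.sub_le _ _)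
        have := hlt i
        omega
    have he : Function.Bijective e := (Nat.bijective_iff_injective_and_card e).mpr
      ⟨heinj, by rw [Nat.card_eq_fintype_card, Fintype.card_fin, hcardW]⟩
    rw [← (Equiv.ofBijective e he).sum_comp]
    have hterm : ∀ j : Fin (p ^ (a - 1)),
        x ^ ((((Equiv.ofBijective e he j : W) : Γ) : (ZMod N)ˣ) : ZMod N).val =
          x * (x ^ (p * n)) ^ (j : ℕ) := fun j => by
      show x ^ ((1 + (j : ℕ) * (p * n) : ℕ) : ZMod N).val = _
      rw [ZMod.val_natCast, ← pow_eq_pow_mod _ hx, pow_add, pow_one, mul_comm (j : ℕ), pow_mul]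
    rw [Finset.sum_congr rfl fun j _ => hterm j, ← Finset.mul_sum,
      Fin.sum_univ_eq_sum_range fun j => (x ^ (p * n)) ^ j]
    by_cases h1 : x ^ (p * n) = 1
    · refine ⟨x, hint x hx, ?_⟩
      simp [h1, mul_comm]
    · refine ⟨0, isIntegral_zero, ?_⟩
      rw [geom_sum_eq h1, ← pow_mul, show p * n * p ^ (a - 1) = N by rw [hN, ← hpa]; ring, hx,
        sub_self, zero_div, mul_zero, mul_zero]
  -- group the twists by cosets of `W`
  haveI := Fintype.ofFinite (Γ ⧸ W)
  have hfib : ∀ q : Γ ⧸ W, ∃ c : ℂ, IsIntegral ℤ c ∧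
      ∑ w : W, z ^ (((q.out * w : Γ) : (ZMod N)ˣ) : ZMod N).val = (p : ℂ) ^ (a - 1) * c := by
    intro q
    set x := z ^ ((q.out : (ZMod N)ˣ) : ZMod N).val with hx
    obtain ⟨c, hc, he⟩ := hinner x (by rw [hx, ← pow_mul, mul_comm, pow_mul, hz, one_pow])
    refine ⟨c, hc, he ▸ Finset.sum_congr rfl fun w _ => ?_⟩
    rw [hx, ← pow_mul, Subgroup.coe_mul, Units.val_mul, ZMod.val_mul, ← pow_eq_pow_mod _ hz]
  choose c hc he using hfib
  refine ⟨∑ q, c q, IsIntegral.sum _ fun q _ => hc q, ?_⟩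
  have hb : Function.Bijective (fun qw : (Γ ⧸ W) × W => qw.1.out * (qw.2 : Γ)) := by
    refine ⟨fun x y h => ?_, fun g => ?_⟩
    · have hq : x.1 = y.1 := by
        rw [← x.1.out_eq, ← y.1.out_eq]
        refine QuotientGroup.eq.mpr ?_
        have h' : x.1.out * (x.2 : Γ) = y.1.out * (y.2 : Γ) := h
        rw [show x.1.out⁻¹ * y.1.out = (x.2 : Γ) * (y.2 : Γ)⁻¹ by
          rw [eq_mul_inv_iff_mul_eq, mul_assoc, ← h', inv_mul_cancel_left]]
        exact mul_mem x.2.2 (inv_mem y.2.2)
      refine Prod.ext hq (Subtype.ext ?_)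
      have h' : x.1.out * (x.2 : Γ) = y.1.out * (y.2 : Γ) := h
      rw [hq] at h'
      exact mul_left_cancel h'
    · refine ⟨((g : Γ ⧸ W), ⟨(g : Γ ⧸ W).out⁻¹ * g, ?_⟩), mul_inv_cancel_left _ _⟩
      exact QuotientGroup.eq.mp (g : Γ ⧸ W).out_eq
  rw [← hb.sum_comp, Fintype.sum_prod_type, Finset.mul_sum]
  exact Finset.sum_congr rfl fun q _ => he q

theorem main {G : Type u} [Group G] [Fintype G] (p a n : ℕ) [hp : Fact p.Prime] (ha : 1 ≤ a)
    (hn : ¬ p ∣ n) (hG : Nat.card G = p ^ a * n) (χ : IrrCharacter G) (r : ℕ)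
    (hr : Nat.card {ψ : IrrCharacter G // ∃ σ : ℂ ≃+* ℂ,
      σ (Complex.exp (2 * Real.pi * Complex.I / (n : ℂ))) =
        Complex.exp (2 * Real.pi * Complex.I / (n : ℂ)) ∧
      (ψ : G → ℂ) = fun g => σ ((χ : G → ℂ) g)} = r) :
    (r * charDegree (χ : G → ℂ)).factorization p ≤ a ∧
      (p ^ a ∣ r * charDegree (χ : G → ℂ) → p ^ a ∣ charDegree (χ : G → ℂ)) := by
  classical
  set N := p ^ a * n with hN
  have hn0 : n ≠ 0 := fun h => hn (h ▸ dvd_zero p)
  haveI : NeZero N := ⟨mul_ne_zero (pow_ne_zero _ hp.out.ne_zero) hn0⟩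
  haveI : NeZero (Nat.card G) := ⟨Nat.card_pos.ne'⟩
  have hd : n ∣ N := dvd_mul_left n _
  set Γ := (ZMod.unitsMap hd).ker with hΓ
  have hcop : ∀ u : Γ, (((u : (ZMod N)ˣ) : ZMod N).val).Coprime (Nat.card G) := fun u => by
    rw [hG]; exact ZMod.val_coe_unit_coprime _
  have hpow : ∀ (g : G) {i j : ℕ}, i ≡ j [MOD N] → g ^ i = g ^ j := fun g i j h =>
    Char.pow_eq_pow_of_card_dvd (N := N) (hG ▸ dvd_rfl) h g
  letI act : MulAction Γ (IrrCharacter G) :=
    { smul := fun u φ => Block.powTwist _ (hcop u) φ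
      one_smul := fun φ => Subtype.ext (funext fun g => by
        show (φ : G → ℂ) (g ^ ((1 : ZMod N)).val) = (φ : G → ℂ) g
        rw [hpow g (j := 1) ((ZMod.natCast_eq_natCast_iff _ _ _).mp (by
          rw [ZMod.natCast_zmod_val, Nat.cast_one])), pow_one])
      mul_smul := fun u v φ => Subtype.ext (funext fun g => by
        show (φ : G → ℂ) (g ^ _) = (φ : G → ℂ) ((g ^ _) ^ _)
        rw [← pow_mul]
        refine congrArg (φ : G → ℂ) (hpow g ((ZMod.natCast_eq_natCast_iff _ _ _).mp ?_))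
        push_cast
        rw [ZMod.natCast_zmod_val, ZMod.natCast_zmod_val, ZMod.natCast_zmod_val]) }
  have hmod : ∀ u : Γ, (((u : (ZMod N)ˣ) : ZMod N).val : ZMod n) = 1 := fun u => by
    have h := congrArg Units.val (MonoidHom.mem_ker.mp u.2)
    rw [ZMod.unitsMap_val, Units.val_one] at h
    rw [← h, ← ZMod.natCast_val]
  -- the orbit
  set Hs := MulAction.stabilizer Γ χ with hHs
  haveI : NeZero n := ⟨hn0⟩
  have horb : (MulAction.orbit Γ χ).ncard = r := by
    rw [← hr, ← Nat.card_coe_set_eq]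
    refine Nat.card_congr (Equiv.subtypeEquivRight fun ψ => ⟨?_, ?_⟩)
    · rintro ⟨u, rfl⟩
      obtain ⟨s, hs1, hs2⟩ := Block.exists_ringEquiv_pow (hcop u)
      refine ⟨s, ?_, funext fun g => (hs2 _ χ.2.isCharacter g).symm⟩
      have hζ := Complex.isPrimitiveRoot_exp n hn0
      rw [hs1 _ (by rw [hG, hN, mul_comm (p ^ a) n, pow_mul, hζ.pow_eq_one, one_pow])]
      conv_rhs => rw [← pow_one (Complex.exp _)]
      rw [pow_eq_pow_mod _ hζ.pow_eq_one, pow_eq_pow_mod 1 hζ.pow_eq_one]
      congr 1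
      exact (ZMod.natCast_eq_natCast_iff' _ _ _).mp (by rw [hmod u, Nat.cast_one])
    · rintro ⟨s, hs, hψ⟩
      obtain ⟨k, hk, hs1, hs2⟩ := Block.exists_pow_of_ringEquiv (G := G) s
      have hζ := Complex.isPrimitiveRoot_exp n hn0
      rw [hs1 _ (by rw [hG, hN, mul_comm (p ^ a) n, pow_mul, hζ.pow_eq_one, one_pow])] at hs
      have hk1 := Block.modEq_one_of_root hn0 hs
      refine ⟨⟨ZMod.unitOfCoprime k (hG ▸ hk), ?_⟩, Subtype.ext (funext fun g => ?_)⟩
      · rw [MonoidHom.mem_ker, Units.ext_iff, ZMod.unitsMap_val, ZMod.coe_unitOfCoprime,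
          ZMod.cast_natCast hd, Units.val_one, ← Nat.cast_one, ZMod.natCast_eq_natCast_iff]
        exact hk1
      · rw [hψ]
        show (χ : G → ℂ) (g ^ ((k : ZMod N)).val) = s ((χ : G → ℂ) g)
        rw [hs2 _ χ.2.isCharacter, ZMod.val_natCast, hpow g (Nat.mod_modEq k N)]
  have hcardΓ' : Nat.card Γ = Nat.totient (p ^ a) := by
    have h2 := Γ.card_mul_index
    rw [hΓ, Subgroup.index_ker, MonoidHom.range_eq_top.mpr (ZMod.unitsMap_surjective hd),
      Subgroup.card_top] at h2
    simp only [Nat.card_eq_fintype_card (α := (ZMod N)ˣ),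
      Nat.card_eq_fintype_card (α := (ZMod n)ˣ), ZMod.card_units_eq_totient] at h2
    rw [show Nat.totient N = Nat.totient (p ^ a) * Nat.totient n from by
      rw [hN, Nat.totient_mul ((hp.out.coprime_iff_not_dvd.mpr hn).pow_left a)]] at h2
    exact Nat.eq_of_mul_eq_mul_right (Nat.totient_pos.mpr (Nat.pos_of_ne_zero hn0)) h2
  have hrs : r * Nat.card Hs = Nat.totient (p ^ a) := by
    rw [← hcardΓ', ← Hs.card_mul_index, MulAction.index_stabilizer, horb, mul_comm]
  obtain ⟨d, hd1⟩ := χ.2.isCharacter.exists_degree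
  have hdeg : charDegree (χ : G → ℂ) = d := by
    have := χ.2.apply_one_eq_charDegree
    rw [hd1] at this
    exact_mod_cast this.symm
  rw [hdeg]
  have hd0 : d ≠ 0 := fun h => χ.2.apply_one_ne_zero (by rw [hd1, h, Nat.cast_zero])
  have hdC : (d : ℂ) ≠ 0 := Nat.cast_ne_zero.mpr hd0
  -- the twisted central characters, summed
  haveI : Finite (ConjClasses G) := Quotient.finite _
  haveI := Fintype.ofFinite (ConjClasses G)
  haveI := Fintype.ofFinite Hs
  let rep : ConjClasses G → G := fun C => C.out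
  have hT : ∀ g : G, ∃ c : ℂ, IsIntegral ℤ c ∧
      ((Char.classFinset g).card : ℂ) * (∑ u : Γ, (u • χ : IrrCharacter G).1 g) / d =
        (p : ℂ) ^ (a - 1) * c := by
    intro g
    have hy1 : IsIntegral ℤ (((Char.classFinset g).card : ℂ) * (χ : G → ℂ) g / d) := by
      have := χ.2.isIntegral_class g
      rwa [hd1] at this
    obtain ⟨P, hP⟩ := exists_poly (N := N) (div_mem (mul_mem (natCast_mem _ _)
      (Char.char_mem_cycField (hG ▸ dvd_rfl) χ.2.isCharacter g)) (natCast_mem _ _)) hy1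
    have hroot : ∀ i : ℕ, ∃ c : ℂ, IsIntegral ℤ c ∧
        ∑ u : Γ, (Complex.exp (2 * Real.pi * Complex.I / (N : ℂ)) ^ i) ^
          ((u : (ZMod N)ˣ) : ZMod N).val = (p : ℂ) ^ (a - 1) * c := fun i =>
      dvd_sum_twists hp.out ha hn hd _ (by
        rw [← hN, ← pow_mul, mul_comm i N, pow_mul,
          (Complex.isPrimitiveRoot_exp N (NeZero.ne N)).pow_eq_one, one_pow])
    choose c hc he using hroot
    refine ⟨∑ i ∈ P.support, (P.coeff i : ℂ) * c i, IsIntegral.sum _ fun i _ =>
      IsIntegral.mul (by simpa using isIntegral_algebraMap (R := ℤ) (A := ℂ) (x := P.coeff i))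
        (hc i), ?_⟩
    rw [Finset.mul_sum, Finset.sum_div, Finset.mul_sum]
    have hu : ∀ u : Γ, ((Char.classFinset g).card : ℂ) * (u • χ : IrrCharacter G).1 g / d =
        ∑ i ∈ P.support, (P.coeff i : ℂ) *
          (Complex.exp (2 * Real.pi * Complex.I / (N : ℂ)) ^ i) ^
            ((u : (ZMod N)ˣ) : ZMod N).val := by
      intro u
      obtain ⟨s, hs1, hs2⟩ := Block.exists_ringEquiv_pow (hcop u)
      have h1 : s (((Char.classFinset g).card : ℂ) * (χ : G → ℂ) g / d) =
          ((Char.classFinset g).card : ℂ) * (u • χ : IrrCharacter G).1 g / d := by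
        rw [map_div₀, map_mul, map_natCast, map_natCast, hs2 _ χ.2.isCharacter g]
        rfl
      rw [← h1, ← hP, Polynomial.aeval_eq_sum_range' (Nat.lt_succ_self _), map_sum]
      rw [← Finset.sum_subset (s₁ := P.support) (fun i hi => Finset.mem_range.mpr
        (Nat.lt_succ_of_le (Polynomial.le_natDegree_of_mem_supp i hi))) (fun i _ hi => by
          rw [Polynomial.notMem_support_iff.mp hi, zero_smul, map_zero])]
      refine Finset.sum_congr rfl fun i _ => ?_
      rw [zsmul_eq_mul, map_mul, map_intCast, map_pow, hs1 _ (by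
        rw [hG]; exact (Complex.isPrimitiveRoot_exp N (NeZero.ne N)).pow_eq_one), ← pow_mul,
        ← pow_mul, mul_comm i]
    rw [Finset.sum_congr rfl fun u _ => hu u, Finset.sum_comm]
    refine Finset.sum_congr rfl fun i _ => ?_
    rw [← Finset.mul_sum, he i]
    ring
  choose T hTi hTe using hT
  have hsum : ∀ F : G → ℂ, IsClassFunction G F →
      (p : ℂ) ^ (a - 1) * (d : ℂ) * ∑ C : ConjClasses G, T (rep C) * conj (F (rep C)) =
        ∑ u : Γ, ∑ g : G, (u • χ : IrrCharacter G).1 g * conj (F g) := by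
    intro F hF
    rw [Finset.mul_sum, Finset.sum_comm (s := (Finset.univ : Finset Γ))]
    conv_rhs => rw [← Finset.sum_fiberwise Finset.univ ConjClasses.mk]
    refine Finset.sum_congr rfl fun C _ => ?_
    have hC : ConjClasses.mk (rep C) = C := Quotient.out_eq C
    have hfil : (Finset.univ.filter fun x : G => ConjClasses.mk x = C) =
        Char.classFinset (rep C) := by
      ext x
      rw [Finset.mem_filter, Char.mem_classFinset, ← ConjClasses.mk_eq_mk_iff_isConj, hC]
      exact ⟨fun h => h.2.symm, fun h => ⟨Finset.mem_univ x, h.symm⟩⟩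
    rw [hfil, Char.sum_classFinset (f := fun x => ∑ u : Γ, (u • χ : IrrCharacter G).1 x *
      conj (F x)) (fun x k => Finset.sum_congr rfl fun u _ => by
        rw [(u • χ : IrrCharacter G).2.isClassFunction x k, hF x k]),
      ← Finset.sum_mul, ← mul_assoc, show (p : ℂ) ^ (a - 1) * (d : ℂ) * T (rep C) =
        (d : ℂ) * ((p : ℂ) ^ (a - 1) * T (rep C)) by ring, ← hTe]
    field_simp
  -- first consequence
  set X := ∑ C : ConjClasses G, T (rep C) * conj ((χ : G → ℂ) (rep C)) with hX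
  have hXi : IsIntegral ℤ X := IsIntegral.sum _ fun C _ => (hTi _).mul
    (Char.isIntegral_conj (χ.2.isCharacter.isIntegral _))
  have horth : ∀ ψ : IrrCharacter G, ∑ g : G, (ψ : G → ℂ) g * conj ((χ : G → ℂ) g) =
      if ψ = χ then (Nat.card G : ℂ) else 0 := by
    intro ψ
    split_ifs with h
    · subst h
      have h1 := Char.classInner_irr_self ψ.2
      rwa [classInner, inv_mul_eq_one₀ Char.card_cast_ne_zero, eq_comm] at h1
    · have h1 := Char.classInner_irr_ne ψ.2 χ.2 (fun e => h (Subtype.ext e))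
      rw [classInner, mul_eq_zero, inv_eq_zero] at h1
      exact h1.resolve_left Char.card_cast_ne_zero
  have hX1 : ((p ^ (a - 1) * d : ℕ) : ℂ) * X = ((Nat.card Hs * Nat.card G : ℕ) : ℂ) := by
    push_cast
    rw [hX, hsum _ χ.2.isClassFunction, Finset.sum_congr rfl fun u _ => horth (u • χ),
      ← Finset.sum_filter, Finset.sum_const, nsmul_eq_mul]
    congr 2
    rw [← Nat.card_eq_finsetCard]
    exact Nat.card_congr (Equiv.subtypeEquivRight fun u => by
      rw [Finset.mem_filter, MulAction.mem_stabilizer_iff]; simp)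
  obtain ⟨c, hc, hXc⟩ := exists_int_of_integral_ratio
    (mul_ne_zero (pow_ne_zero _ hp.out.ne_zero) hd0) hXi hX1
  have hr0 : r ≠ 0 := fun h => by
    rw [h, zero_mul] at hrs
    exact (Nat.totient_pos.mpr (pow_pos hp.out.pos a)).ne hrs
  have hHs0 : Nat.card Hs ≠ 0 := Nat.card_pos.ne'
  have hc0 : c ≠ 0 := fun h => by
    rw [h, mul_zero] at hc
    exact (mul_ne_zero hHs0 Nat.card_pos.ne') hc.symm
  have e1 : r.factorization p + (Nat.card Hs).factorization p = a - 1 := by
    have h := congrArg (fun m => Nat.factorization m p) hrs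
    simp only [Nat.totient_prime_pow hp.out ha, Nat.factorization_mul hr0 hHs0, Finsupp.add_apply,
      Nat.factorization_mul (pow_ne_zero _ hp.out.ne_zero)
        (show p - 1 ≠ 0 by have := hp.out.two_le; omega), hp.out.factorization_pow,
      Finsupp.single_eq_same] at h
    rw [Nat.factorization_eq_zero_of_not_dvd (n := p - 1) (fun h' => by
      have := hp.out.two_le; have := Nat.le_of_dvd (by omega) h'; omega)] at h
    omega
  have e2 : (a - 1) + d.factorization p + c.factorization p =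
      (Nat.card Hs).factorization p + a := by
    have h := congrArg (fun m => Nat.factorization m p) hc
    simp only [hG, hN, Nat.factorization_mul (mul_ne_zero (pow_ne_zero _ hp.out.ne_zero) hd0) hc0,
      Nat.factorization_mul hHs0 (mul_ne_zero (pow_ne_zero _ hp.out.ne_zero) hn0),
      Nat.factorization_mul (pow_ne_zero _ hp.out.ne_zero) hn0,
      Nat.factorization_mul (pow_ne_zero _ hp.out.ne_zero) hd0, Finsupp.add_apply,
      hp.out.factorization_pow, Finsupp.single_eq_same,
      Nat.factorization_eq_zero_of_not_dvd hn] at h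
    omega
  have hle : (r * d).factorization p ≤ a := by
    rw [Nat.factorization_mul hr0 hd0, Finsupp.add_apply]
    omega
  refine ⟨hle, fun hdvd => ?_⟩
  have hge := (hp.out.pow_dvd_iff_le_factorization (mul_ne_zero hr0 hd0)).mp hdvd
  rw [Nat.factorization_mul hr0 hd0, Finsupp.add_apply] at hge hle
  rcases Nat.eq_zero_or_pos (r.factorization p) with h0 | hpos
  · exact (hp.out.pow_dvd_iff_le_factorization hd0).mpr (by omega)
  exfalso
  have hcp : ¬ p ∣ c := fun h => by
    have := hp.out.factorization_pos_of_dvd hc0 h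
    omega
  -- compare with the values at the regular parts
  obtain ⟨M, hM⟩ := Block.exists_isPModular hp.out
  obtain ⟨k, k', ⟨hk1, hk0⟩, -, -⟩ :=
    Char.exists_part_exponents (m := n) (n := p ^ a)
      ((hp.out.coprime_iff_not_dvd.mpr hn).symm.pow_right a)
  let f : G → ℂ := fun g => (χ : G → ℂ) (g ^ k)
  have hf : IsClassFunction G f := fun g h => by
    show (χ : G → ℂ) ((h * g * h⁻¹) ^ k) = (χ : G → ℂ) (g ^ k)
    rw [conj_pow]; exact χ.2.isClassFunction _ _
  have hfg : IsGeneralizedCharacter G f :=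
    Char.isGeneralizedCharacter_of_elementary hf fun E q hq hE => by
      have hh := (χ.2.isCharacter.comp E.subtype).comp
        (Char.partHom hq hE ((hp.out.coprime_iff_not_dvd.mpr hn).symm.pow_right a)
          (by rw [mul_comm n, ← hN, ← hG]; exact E.card_subgroup_dvd_card) ⟨hk1, hk0⟩)
      exact hh.isGeneralized
  obtain ⟨i, hi⟩ := χ.2.isGeneralized.exists_int_classInner hfg
  rw [classInner, inv_mul_eq_iff_eq_mul₀ Char.card_cast_ne_zero] at hi
  set Y := ∑ C : ConjClasses G, T (rep C) * conj (f (rep C)) with hY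
  have hfu : ∀ u : Γ, ∑ g : G, (u • χ : IrrCharacter G).1 g * conj (f g) =
      (Nat.card G : ℂ) * i := by
    intro u
    rw [← hi]
    refine Fintype.sum_bijective _ (Char.powBij_of_coprime (hcop u)) _ _ fun g => ?_
    show (χ : G → ℂ) (g ^ _) * conj ((χ : G → ℂ) (g ^ k)) =
      (χ : G → ℂ) (g ^ _) * conj ((χ : G → ℂ) ((g ^ _) ^ k))
    rw [← pow_mul g _ k]
    congr 2
    refine congrArg (χ : G → ℂ) (hpow g (Nat.ModEq.symm ((Nat.modEq_and_modEq_iff_modEq_mul
      ((hp.out.coprime_iff_not_dvd.mpr hn).pow_left a)).mp ⟨?_, ?_⟩)))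
    · simpa using (hk0.mul_left _).trans hk0.symm
    · have h1 : ((u : (ZMod N)ˣ) : ZMod N).val ≡ 1 [MOD n] :=
        (ZMod.natCast_eq_natCast_iff _ _ _).mp (by rw [hmod u, Nat.cast_one])
      simpa using h1.mul_right k
  obtain ⟨e, he⟩ : d ∣ Nat.card G := Char.degree_dvd_card χ.2 hd1
  have hpe : p ∣ e := by
    have he0 : e ≠ 0 := fun h => Nat.card_pos.ne' (by rw [he, h, mul_zero])
    have h := congrArg (fun m => Nat.factorization m p) he
    simp only [hG, hN, Nat.factorization_mul hd0 he0,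
      Nat.factorization_mul (pow_ne_zero _ hp.out.ne_zero) hn0, Finsupp.add_apply,
      hp.out.factorization_pow, Finsupp.single_eq_same,
      Nat.factorization_eq_zero_of_not_dvd hn] at h
    exact Nat.dvd_of_factorization_pos (by omega)
  have hcardΓ : Nat.card Γ = p ^ (a - 1) * (p - 1) := by
    rw [hcardΓ', Nat.totient_prime_pow hp.out ha]
  have hY1 : Y = ((p - 1) * e : ℕ) * (i : ℂ) := by
    have h := hsum f hf
    rw [Finset.sum_congr rfl fun u _ => hfu u, Finset.sum_const, Finset.card_univ,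
      ← Nat.card_eq_fintype_card, hcardΓ, he, nsmul_eq_mul] at h
    have hne : (p : ℂ) ^ (a - 1) * (d : ℂ) ≠ 0 :=
      mul_ne_zero (pow_ne_zero _ (Nat.cast_ne_zero.mpr hp.out.ne_zero)) hdC
    refine mul_left_cancel₀ hne (h.trans ?_)
    push_cast
    ring
  have hYM : MemLocalIdeal M Y := by
    rw [hY1]
    exact Block.memLocalIdeal_mul_right hM
      ((Block.memLocalIdeal_natCast_iff hM _).mpr (hpe.mul_left _))
      (Block.isIntegral_mem_locRing hM
        (by simpa using isIntegral_algebraMap (R := ℤ) (A := ℂ) (x := i)))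
  have hdiff : MemLocalIdeal M (X - Y) := by
    rw [hX, hY, ← Finset.sum_sub_distrib]
    refine Block.memLocalIdeal_sum hM _ _ fun C _ => ?_
    rw [← mul_sub, ← map_sub]
    refine Block.memLocalIdeal_mul_left hM (Block.isIntegral_mem_locRing hM (hTi _)) ?_
    obtain ⟨m, μ, hμ, hμk⟩ := Char.exists_sum_roots χ.2.isCharacter (rep C)
    have h1 := hμk 1
    simp only [pow_one] at h1
    show MemLocalIdeal M (conj ((χ : G → ℂ) (rep C) - (χ : G → ℂ) (rep C ^ k)))
    rw [h1, hμk k, ← Finset.sum_sub_distrib, map_sum]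
    refine Block.memLocalIdeal_sum hM _ _ fun j _ => ?_
    rw [map_sub, map_pow]
    set x := conj (μ j) with hx
    have hxN : x ^ N = 1 := by
      obtain ⟨t, ht⟩ := orderOf_dvd_natCard (rep C)
      rw [hx, ← map_pow, ← hG, ht, pow_mul, hμ j, one_pow, map_one]
    have hx0 : x ≠ 0 := fun h0 => by
      rw [h0, zero_pow (NeZero.ne N)] at hxN
      exact zero_ne_one hxN
    set η := x ^ k * x⁻¹ with hη
    have hηp : η ^ (p ^ a) = 1 := by
      have hmodN : k * p ^ a ≡ 1 * p ^ a [MOD N] := by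
        rw [hN, mul_comm (p ^ a) n]
        exact hk1.mul_right' _
      rw [one_mul] at hmodN
      rw [hη, mul_pow, inv_pow, ← pow_mul, pow_eq_pow_mod _ hxN, hmodN, ← pow_eq_pow_mod _ hxN,
        mul_inv_cancel₀ (pow_ne_zero _ hx0)]
    have hsub : x - x ^ k = -(x * (η - 1)) := by
      rw [hη]; field_simp; ring
    rw [hsub]
    exact Block.memLocalIdeal_neg hM (Block.memLocalIdeal_mul_left hM
      (Block.root_of_unity_mem_locRing hM (NeZero.pos N) hxN)
      (Block.memLocalIdeal_sub_one_of_pow_prime_pow hM hηp))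
  have hXM : MemLocalIdeal M X := by
    have := Block.memLocalIdeal_add hM hdiff hYM
    rwa [sub_add_cancel] at this
  rw [hXc] at hXM
  exact hcp ((Block.memLocalIdeal_natCast_iff hM c).mp hXM)

/-- Let G be a finite group, p a prime, p^a the p-part of the order of G and g′ its p′-part. Call two irreducible characters p-conjugate when one is obtained from the other by applying a field automorphism of ℂ that fixes the g′-th roots of unity, and let r be the number of characters p-conjugate to the irreducible character χ (χ included). Then the exponent of p in r·χ(1) is at most a; and if p^a divides r·χ(1) then p^a already divides χ(1). -/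
theorem result {G : Type*} [Group G] [Finite G] (p : ℕ) (hp : p.Prime) (χ : Cfsg.IrrCharacter G) (r : ℕ) (hr : Nat.card {ψ : Cfsg.IrrCharacter G // ∃ σ : ℂ ≃+* ℂ, σ (Complex.exp (2 * Real.pi * Complex.I / ((Nat.card G / p ^ (Nat.card G).factorization p) : ℕ))) = Complex.exp (2 * Real.pi * Complex.I / ((Nat.card G / p ^ (Nat.card G).factorization p) : ℕ)) ∧ (ψ : G → ℂ) = fun g => σ ((χ : G → ℂ) g)} = r) : (r * Cfsg.charDegree (χ : G → ℂ)).factorization p ≤ (Nat.card G).factorization p ∧ (p ^ (Nat.card G).factorization p ∣ r * Cfsg.charDegree (χ : G → ℂ) → p ^ (Nat.card G).factorization p ∣ Cfsg.charDegree (χ : G → ℂ)) := by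
  classical
  haveI := Fintype.ofFinite G
  haveI := Fact.mk hp
  haveI : NeZero (Nat.card G) := ⟨Nat.card_pos.ne'⟩
  rcases Nat.eq_zero_or_pos ((Nat.card G).factorization p) with h0 | hpos
  · refine ⟨?_, fun _ => by rw [h0, pow_zero]; exact one_dvd _⟩
    rw [h0] at hr ⊢
    have hr1 : r = 1 := by
      rw [← hr, Nat.card_eq_one_iff_unique]
      refine ⟨⟨?_⟩, ⟨⟨χ, RingEquiv.refl ℂ, rfl, rfl⟩⟩⟩
      have key : ∀ ψ : IrrCharacter G, (∃ σ : ℂ ≃+* ℂ,
          σ (Complex.exp (2 * Real.pi * Complex.I / ((Nat.card G / p ^ 0) : ℕ))) =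
            Complex.exp (2 * Real.pi * Complex.I / ((Nat.card G / p ^ 0) : ℕ)) ∧
          (ψ : G → ℂ) = fun g => σ ((χ : G → ℂ) g)) → ψ = χ := by
        rintro ψ ⟨s, hs, hψ⟩
        rw [pow_zero, Nat.div_one] at hs
        obtain ⟨k, hk, hs1, hs2⟩ := Cfsg.Lib.Block.exists_pow_of_ringEquiv (G := G) s
        rw [hs1 _ (Complex.isPrimitiveRoot_exp _ Nat.card_pos.ne').pow_eq_one] at hs
        have hk1 := Cfsg.Lib.Block.modEq_one_of_root Nat.card_pos.ne' hs
        refine Subtype.ext (hψ.trans (funext fun g => ?_))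
        rw [hs2 _ χ.2.isCharacter,
          Cfsg.Lib.Char.pow_eq_pow_of_card_dvd dvd_rfl hk1 g, pow_one]
      rintro ⟨a, ha⟩ ⟨b, hb⟩
      exact Subtype.ext ((key a ha).trans (key b hb).symm)
    rw [hr1, one_mul, Nat.le_zero, Nat.factorization_eq_zero_iff]
    refine Or.inr (Or.inl fun h => ?_)
    have h1 := Nat.Prime.factorization_pos_of_dvd hp Nat.card_pos.ne'
      (h.trans (Cfsg.Lib.Char.charDegree_dvd_card χ.2))
    omega
  · exact main p _ _ hpos (Nat.not_dvd_ordCompl hp Nat.card_pos.ne')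
      (Nat.ordProj_mul_ordCompl_eq_self _ p).symm χ r hr

end Cfsg.Agent.S4506
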