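import Cfsg.Statements.S4507
import Cfsg.Agent.Lib.Block.CyclicPrimeGalois
import Cfsg.Agent.Lib.Block.CyclicPrimeCount
-- import your own Cfsg.Agent.* helpers here

set_option autoImplicit false
open Cfsg

namespace Cfsg.Agent.S4507

/-- Let G be a finite group whose order g is divisible by the prime p exactly once, g′ = g/p, and fix a maximal ideal M of the algebraic integers containing p. Call two irreducible characters p-conjugate when a field automorphism of ℂ fixing the g′-th roots of unity carries one to the other. Let B be a p-block of positive defect (its defect group is a Sylow p-subgroup). Then B contains a subset Y (the exceptional family) such that: Y is a full p-conjugacy class (its members are pairwise p-conjugate and every p-conjugate of a member of Y lies in Y); every member of B outside Y is p-conjugate only to itself; the size t of Y divides p − 1 and B has exactly t + (p − 1)/t members; and there are signs δ_χ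 = ±1 (χ ∈ B) such that for every p-regular element x and every θ ∈ Y, Σ_{χ ∈ B ∖ Y} δ_χ χ(x) + δ_θ θ(x) = 0. -/
theorem result {G : Type*} [Group G] [Finite G] (p : ℕ) [Fact p.Prime] (M : Ideal Cfsg.AlgInt) (hM : Cfsg.IsPModular p M) (hdiv : p ∣ Nat.card G) (hsq : ¬ p ^ 2 ∣ Nat.card G) (B : Set (Cfsg.IrrCharacter G)) (hB : Cfsg.IsPBlock M B) (hd : 0 < Cfsg.blockDefect p B) : ∃ Y : Set (Cfsg.IrrCharacter G), Y ⊆ B ∧ Y.Nonempty ∧ (∀ θ ∈ Y, ∀ ψ : Cfsg.IrrCharacter G, (∃ σ : ℂ ≃+* ℂ, σ (Complex.exp (2 * Real.pi * Complex.I / ((Nat.card G / p ^ (Nat.card G).factorization p) : ℕ))) = Complex.exp (2 * Real.pi * Complex.I / ((Nat.card G / p ^ (Nat.card G).factorization p) : ℕ)) ∧ (ψ : G → ℂ) = fun g => σ ((θ : G → ℂ) g)) ↔ ψ ∈ Y) ∧ (∀ χ ∈ B, χ ∉ Y → ∀ ψ : Cfsg.IrrCharacter G, (∃ σ : ℂ ≃+* ℂ, σ (Complex.exp (2 * Real.pi * Complex.I / ((Nat.card G / p ^ (Nat.card G).factorization p) : ℕ))) = Complex.exp (2 * Real.pi * Complex.I / ((Nat.card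 G / p ^ (Nat.card G).factorization p) : ℕ)) ∧ (ψ : G → ℂ) = fun g => σ ((χ : G → ℂ) g)) → ψ = χ) ∧ Nat.card Y ∣ p - 1 ∧ Nat.card B = Nat.card Y + (p - 1) / Nat.card Y ∧ ∃ δ : Cfsg.IrrCharacter G → ℤ, (∀ χ ∈ B, δ χ = 1 ∨ δ χ = -1) ∧ ∀ x : G, ¬ p ∣ orderOf x → ∀ θ ∈ Y, (∑ᶠ χ ∈ B \ Y, (δ χ : ℂ) * (χ : G → ℂ) x) + (δ θ : ℂ) * (θ : G → ℂ) x = 0 := by
  classical
  letI : Fintype G := Fintype.ofFinite G
  have hpp : p.Prime := Fact.out
  obtain ⟨P⟩ : Nonempty (Sylow p G) := inferInstance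
  have h1 : (Nat.card G).factorization p = 1 := by
    refine le_antisymm ?_ (Nat.Prime.factorization_pos_of_dvd hpp Nat.card_pos.ne' hdiv)
    by_contra h
    exact hsq ((Nat.Prime.pow_dvd_iff_le_factorization hpp Nat.card_pos.ne').2 (by omega))
  have hcard : Nat.card (P : Subgroup G) = p := by rw [P.card_eq_multiplicity, h1, pow_one]
  have hD := Cfsg.Lib.Block.isDefectGroup_of_pos hM P hcard hB hd.ne'
  obtain ⟨f, hmax⟩ := Cfsg.Lib.Block.exists_pair_at_defect hM hB hD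
  have hind : IsInducedBlock M (Subgroup.centralizer ((P : Subgroup G) : Set G)) f B :=
    (Cfsg.Lib.Block.isBrauerPairOf_iff_induced hM P.2 le_rfl
      (Cfsg.Lib.Block.le_centralizer_self hcard)
      (Subgroup.centralizer_le_normalizer _) (fun v => Cfsg.Lib.Block.invOn_self v) hmax.1.1.2
      hmax.1.1.2 (fun _ => rfl) hB).1 hmax.1
  obtain ⟨θ₀, hθ₀, hθ₀P⟩ := Cfsg.Lib.Block.root_exists_trivial hM hB hD hcard hind
  obtain ⟨T, hT⟩ := Cfsg.Lib.Block.exists_stabilizer_subgroup hM hB hD hcard hind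
  obtain ⟨X, Y, δ, δ₀, hdvd, hBXY, hdis, hX, hY, hYne, hδ, hδ₀, hrel, hgal, htrans⟩ :=
    Cfsg.Lib.Block.prime_galois hM hB hD hcard hind hθ₀ hθ₀P T hT
  set e := (Subgroup.centralizer ((P : Subgroup G) : Set G)).relIndex T with he
  set n := Nat.card G / p ^ (Nat.card G).factorization p with hn
  have hn0 : n ≠ 0 := (Nat.ordCompl_pos p Nat.card_pos.ne').ne'
  have hζn := Complex.isPrimitiveRoot_exp n hn0
  have hexp : ∀ s : ℂ ≃+* ℂ, s (Complex.exp (2 * Real.pi * Complex.I / (n : ℕ))) =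
      Complex.exp (2 * Real.pi * Complex.I / (n : ℕ)) → ∃ (k : ℕ) (hk : k.Coprime (Nat.card G)),
      k ≡ 1 [MOD n] ∧ ∀ χ : IrrCharacter G,
        (fun g => s ((χ : G → ℂ) g)) = (Cfsg.Lib.Block.powTwist k hk χ : G → ℂ) := by
    intro s hs
    obtain ⟨k, hk, hroot, hchar⟩ := Cfsg.Lib.Block.exists_pow_of_ringEquiv (G := G) s
    refine ⟨k, hk, Cfsg.Lib.Block.modEq_one_of_root hn0 ?_, fun χ =>
      funext fun g => hchar _ χ.2.isCharacter g⟩
    rw [← hroot _ ?_, hs]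
    obtain ⟨c, hc⟩ := Nat.ordCompl_dvd (Nat.card G) p
    rw [hc, pow_mul, hζn.pow_eq_one, one_pow]
  refine ⟨Y, hBXY ▸ Set.subset_union_right, hYne, fun θ hθ ψ => ⟨?_, ?_⟩, ?_, ?_, ?_, ?_⟩
  · rintro ⟨s, hs, hψ⟩
    obtain ⟨k, hk, hk1, htw⟩ := hexp s hs
    rw [show ψ = Cfsg.Lib.Block.powTwist k hk θ from Subtype.ext (hψ.trans (htw θ))]
    exact (hgal k hk hk1).2 θ hθ
  · intro hψ
    obtain ⟨k, hk, hk1, heq⟩ := htrans θ hθ ψ hψ
    obtain ⟨s, hroot, hchar⟩ := Cfsg.Lib.Block.exists_ringEquiv_pow hk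
    refine ⟨s, ?_, funext fun g => ?_⟩
    · rw [hroot _ ?_]
      · conv_rhs => rw [← pow_one (Complex.exp (2 * Real.pi * Complex.I / (n : ℕ)))]
        rw [pow_eq_pow_mod k hζn.pow_eq_one, pow_eq_pow_mod 1 hζn.pow_eq_one]
        exact congrArg _ hk1
      · obtain ⟨c, hc⟩ := Nat.ordCompl_dvd (Nat.card G) p
        rw [hc, pow_mul, hζn.pow_eq_one, one_pow]
    · rw [hchar _ θ.2.isCharacter g, ← heq]
      rfl
  · rintro χ hχ hχY ψ ⟨s, hs, hψ⟩
    obtain ⟨k, hk, hk1, htw⟩ := hexp s hs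
    have hX' : χ ∈ X := by
      rw [hBXY] at hχ
      exact hχ.resolve_right hχY
    exact (Subtype.ext (hψ.trans (htw χ))).trans ((hgal k hk hk1).1 χ hX')
  · rw [hY]
    exact Nat.div_dvd_of_dvd hdvd
  · rw [hBXY, Nat.card_coe_set_eq, Set.ncard_union_eq hdis, ← Nat.card_coe_set_eq,
      ← Nat.card_coe_set_eq, hX, hY, Nat.div_div_self hdvd (by have := hpp.one_lt; omega), add_comm]
  · refine ⟨fun χ => if χ ∈ Y then δ₀ else δ χ, fun χ hχ => ?_, fun x hx θ hθ => ?_⟩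
    · simp only []
      split_ifs with h
      · exact hδ₀
      · rw [hBXY] at hχ
        exact hδ χ (hχ.resolve_right h)
    · have hdiff : B \ Y = X := by rw [hBXY, Set.union_diff_right, hdis.sdiff_eq_left]
      simp only []
      rw [hdiff, if_pos hθ, finsum_mem_congr rfl fun χ hχ => by
        rw [if_neg (Set.disjoint_left.1 hdis hχ)], add_comm]
      exact hrel θ hθ x hx

end Cfsg.Agent.S4507
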