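import Cfsg.Statements.S4508
import Cfsg.Agent.Lib.Block.SelfCentralChar
-- import your own Cfsg.Agent.* helpers here

set_option autoImplicit false
open Cfsg

namespace Cfsg.Agent.S4508

/-- Let the finite group G contain an element x of prime order p with C_G(x) = ⟨x⟩, and let t be the number of conjugacy classes of elements of order p. If G has an irreducible character of degree p − 1, then t is even or the commutator subgroup has even index. -/
theorem result {G : Type*} [Group G] [Finite G] (p : ℕ) (hp : p.Prime) (x : G) (hx : orderOf x = p) (hC : Subgroup.centralizer ({x} : Set G) = Subgroup.zpowers x) (t : ℕ) (ht : Nat.card {C : ConjClasses G // ∃ g ∈ C.carrier, orderOf g = p} = t) (χ : Cfsg.IrrCharacter G) (hχ : Cfsg.charDegree (χ : G → ℂ) + 1 = p) : Even t ∨ Even (commutator G).index := by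
  classical
  letI : Fintype G := Fintype.ofFinite G
  haveI : Fact p.Prime := ⟨hp⟩
  obtain ⟨P, hP⟩ := Cfsg.Lib.Block.sc_exists_sylow hx hC
  have hte := Cfsg.Lib.Block.sc_classes hx hC hP
  rw [ht] at hte
  set e := (P : Subgroup G).relIndex (Subgroup.normalizer ((P : Subgroup G) : Set G)) with he
  by_cases he1 : e = 1
  · rw [he1, mul_one] at hte
    rcases hp.eq_two_or_odd' with h2 | hodd
    · exact Or.inr (by rw [(Cfsg.Lib.Block.sc_complement hx hC hP he1).2.1, h2]; exact even_two)
    · exact Or.inl (by rw [hte]; exact Nat.Odd.sub_odd hodd odd_one)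
  by_cases ht2 : Even t
  · exact Or.inl ht2
  right
  have hodd : Odd ((p - 1) / e) := by
    rw [← hte, Nat.mul_div_cancel _ (Cfsg.Lib.Block.relIndex_pos_of_finite _ _)]
    exact Nat.not_even_iff_odd.1 ht2
  obtain ⟨ψ, g, hg⟩ := Cfsg.Lib.Block.exists_det_neg_one hx hC hP hχ he1 hodd
  have hle : commutator G ≤ ψ.ker := Abelianization.commutator_subset_ker ψ
  refine even_iff_two_dvd.2 (dvd_trans ?_ (Subgroup.index_dvd_of_le hle))
  rw [Subgroup.index_ker]
  have ho : orderOf (ψ g) = 2 := by
    refine orderOf_eq_prime ?_ ?_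
    · rw [hg, sq, neg_mul_neg, one_mul]
    · rw [hg]
      intro h
      have := congrArg (fun u : ℂˣ => (u : ℂ)) h
      norm_num at this
  rw [← ho]
  refine dvd_trans (dvd_of_eq ?_) (orderOf_dvd_natCard (⟨ψ g, ⟨g, rfl⟩⟩ : ψ.range))
  exact Subgroup.orderOf_coe (⟨ψ g, ⟨g, rfl⟩⟩ : ψ.range)

end Cfsg.Agent.S4508
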