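import Cfsg.Statements.S4509
import Cfsg.Agent.Lib.Block.SelfCentral
-- import your own Cfsg.Agent.* helpers here

set_option autoImplicit false
open Cfsg
open scoped commutatorElement

namespace Cfsg.Agent.S4509

/-- Let the finite group G contain an element x of prime order p with C_G(x) = ⟨x⟩; let t be the number of conjugacy classes of elements of order p and 1 + n·p the number of subgroups of order p. Then G has a normal subgroup of order 1 + n·p if and only if either t = p − 1, or t < p − 1 and G″ ≠ G′. Moreover, if t = p − 1 then G′ has order 1 + n·p and G/G′ is cyclic of order p; and if t < p − 1 and G″ ≠ G′ then G″ has order 1 + n·p and G′ has order p·(1 + n·p). -/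
theorem result {G : Type*} [Group G] [Finite G] (p : ℕ) (hp : p.Prime) (x : G) (hx : orderOf x = p) (hC : Subgroup.centralizer ({x} : Set G) = Subgroup.zpowers x) (t : ℕ) (ht : Nat.card {C : ConjClasses G // ∃ g ∈ C.carrier, orderOf g = p} = t) (n : ℕ) (hn : Nat.card {H : Subgroup G // Nat.card H = p} = 1 + n * p) : ((∃ S : Subgroup G, S.Normal ∧ Nat.card S = 1 + n * p) ↔ (t = p - 1 ∨ (t < p - 1 ∧ derivedSeries G 2 ≠ derivedSeries G 1))) ∧ (t = p - 1 → Nat.card (commutator G) = 1 + n * p ∧ IsCyclic (G ⧸ commutator G) ∧ (commutator G).index = p) ∧ (t < p - 1 → derivedSeries G 2 ≠ derivedSeries G 1 → Nat.card (derivedSeries G 2) = 1 + n * p ∧ Nat.card (commutator G) = p * (1 + n * p)) := by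
  classical
  letI : Fintype G := Fintype.ofFinite G
  haveI : Fact p.Prime := ⟨hp⟩
  obtain ⟨P, hP⟩ := Cfsg.Lib.Block.sc_exists_sylow hx hC
  have hte := Cfsg.Lib.Block.sc_classes hx hC hP
  rw [ht] at hte
  rw [Cfsg.Lib.Block.sc_count hx hC hP] at hn
  set N := Subgroup.normalizer ((P : Subgroup G) : Set G) with hN
  set e := (P : Subgroup G).relIndex N with he
  have hp1 : 0 < p - 1 := by have := hp.one_lt; omega
  have ht0 : 0 < t := Nat.pos_of_ne_zero fun h => by rw [h, zero_mul] at hte; omega
  have hep : e < p := by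
    have : e ≤ p - 1 := Nat.le_of_dvd hp1 (Cfsg.Lib.Block.sc_relIndex_dvd hx hC hP)
    omega
  have hG : Nat.card G = (1 + n * p) * (p * e) := by
    rw [← N.index_mul_card, hn, hN, Cfsg.Lib.Block.sc_card_normalizer hx hC hP]
  have hcop : ¬ p ∣ 1 + n * p := fun h => by
    have := (Nat.dvd_add_left (dvd_mul_left p n)).1 h
    exact hp.ne_one (Nat.dvd_one.1 this)
  -- the case of a normal complement
  have hcaseA : t = p - 1 → Nat.card (commutator G) = 1 + n * p ∧ IsCyclic (G ⧸ commutator G) ∧
      (commutator G).index = p := by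
    intro h
    have h1 : e = 1 := by rw [h] at hte; exact (mul_eq_left₀ hp1.ne').1 hte
    obtain ⟨-, hidx, hcyc⟩ := Cfsg.Lib.Block.sc_complement hx hC hP h1
    refine ⟨?_, hcyc, hidx⟩
    have h2 := (commutator G).index_mul_card
    rw [hidx, hG, h1, mul_one, mul_comm (1 + n * p)] at h2
    exact Nat.eq_of_mul_eq_mul_left hp.pos h2
  -- the imperfect case
  have hd1 : derivedSeries G 1 = commutator G := by rw [derivedSeries_one]
  have hd2 : derivedSeries G 2 = ⁅commutator G, commutator G⁆ := by
    show ⁅derivedSeries G 1, derivedSeries G 1⁆ = _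
    rw [hd1]
  have hcaseB : t < p - 1 → derivedSeries G 2 ≠ derivedSeries G 1 →
      Nat.card (derivedSeries G 2) = 1 + n * p ∧ Nat.card (commutator G) = p * (1 + n * p) := by
    intro h hne
    have he1 : e ≠ 1 := fun h1 => by rw [h1, mul_one] at hte; omega
    have hPK := Cfsg.Lib.Block.sc_sylow_le_commutator hx hC hP he1
    have hnd : ¬ p ∣ Nat.card (derivedSeries G 2) := by
      intro hdiv
      refine hne (le_antisymm (derivedSeries_antitone G (by omega)) ?_)
      rw [hd1]
      refine Cfsg.Lib.Block.sc_commutator_le hx hC hP _ ?_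
      obtain ⟨y, hy⟩ := exists_prime_orderOf_dvd_card' p hdiv
      obtain ⟨S, hS⟩ := (IsPGroup.of_card (G := Subgroup.zpowers (y : G)) (p := p) (n := 1)
        (by rw [Nat.card_zpowers, orderOf_submonoid, hy, pow_one])).exists_le_sylow
      have hcS : Nat.card (S : Subgroup G) = p := by
        rw [S.card_eq_multiplicity, Cfsg.Lib.Block.sc_factorization hx hC hP, pow_one]
      have hle : Subgroup.zpowers (y : G) = (S : Subgroup G) := Subgroup.eq_of_le_of_card_ge hS
        (by rw [hcS, Nat.card_zpowers, orderOf_submonoid, hy])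
      obtain ⟨a, ha⟩ := MulAction.exists_smul_eq G S P
      rw [← ha, Sylow.coe_subgroup_smul]
      rintro _ ⟨z, hz, rfl⟩
      exact (derivedSeries_normal G 2).conj_mem z
        (Subgroup.zpowers_le.2 y.2 (hle ▸ hz)) a
    haveI := derivedSeries_normal G 2
    have hS : derivedSeries G 2 = Cfsg.pPrimeCore p G := by
      refine le_antisymm (Cfsg.Lib.Core.le_pPrimeCore (Cfsg.Lib.Core.coprime_iff_not_dvd'.2 hnd)) ?_
      rw [hd2]
      refine (Cfsg.Lib.Block.sc_le_commutator_of_mem hx hC hP _ (commutator G)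
        (Cfsg.Lib.Core.pPrimeCore_not_dvd p G) (hPK (by rw [hP]; exact Subgroup.mem_zpowers x))).trans ?_
      exact Subgroup.commutator_mono (Cfsg.Lib.Block.sc_pPrimeCore_le hx hC hP) le_rfl
    have hab : ∀ a ∈ commutator G, ∀ b ∈ commutator G,
        ⁅a, b⁆ ∈ derivedSeries G 2 := fun a ha b hb => by
      rw [hd2]; exact Subgroup.commutator_mem_commutator ha hb
    -- the commutator subgroup is the core extended by the Sylow subgroup
    have hKle : commutator G ≤ derivedSeries G 2 ⊔ (P : Subgroup G) := by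
      haveI : (derivedSeries G 2 ⊔ (P : Subgroup G)).Normal := by
        refine ⟨fun w hw g => ?_⟩
        rw [Subgroup.mem_sup_of_normal_left] at hw
        obtain ⟨u, hu, z, hz, rfl⟩ := hw
        have htop : Subgroup.normalizer ((P : Subgroup G) : Set G) ⊔ commutator G = ⊤ :=
          Sylow.normalizer_sup_eq_top' P hPK
        have hg : g ∈ Subgroup.normalizer ((P : Subgroup G) : Set G) ⊔ commutator G :=
          htop ▸ Subgroup.mem_top g
        rw [Subgroup.mem_sup_of_normal_right] at hg
        obtain ⟨m, hm, c, hc, rfl⟩ := hg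
        rw [show m * c * (u * z) * (m * c)⁻¹ =
          (m * c * u * (m * c)⁻¹) * ((m * ⁅c, z⁆ * m⁻¹) * (m * z * m⁻¹)) by
            simp only [commutatorElement_def]; group]
        refine mul_mem (Subgroup.mem_sup_left ((derivedSeries_normal G 2).conj_mem u hu _))
          (mul_mem (Subgroup.mem_sup_left ((derivedSeries_normal G 2).conj_mem _
            (hab c hc z (hPK hz)) _)) (Subgroup.mem_sup_right ?_))
        exact (Subgroup.mem_normalizer_iff.1 hm z).1 hz
      exact Cfsg.Lib.Block.sc_commutator_le hx hC hP _ le_sup_right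
    have hKeq : commutator G = derivedSeries G 2 ⊔ (P : Subgroup G) := le_antisymm hKle
      (sup_le ((derivedSeries_antitone G (by omega : 1 ≤ 2)).trans hd1.le) hPK)
    have htop : N ⊔ commutator G = ⊤ := Sylow.normalizer_sup_eq_top' P hPK
    have hinf : derivedSeries G 2 ⊓ N = ⊥ := by
      rw [hS]; exact Cfsg.Lib.Block.sc_commutator_inf_normalizer hx hC hP
    have htop2 : derivedSeries G 2 ⊔ N = ⊤ := by
      rw [eq_top_iff, ← htop]
      refine sup_le le_sup_right ?_
      rw [hKeq]
      exact sup_le le_sup_left (le_trans Subgroup.le_normalizer le_sup_right)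
    have hcS : Nat.card (derivedSeries G 2) = 1 + n * p := by
      have h1 : (derivedSeries G 2).index = Nat.card N := by
        rw [← Subgroup.relIndex_top_right, ← htop2, sup_comm, Subgroup.relIndex_sup_right,
          ← Subgroup.inf_relIndex_right, hinf, Subgroup.relIndex_bot_left]
      have h2 := (derivedSeries G 2).index_mul_card
      rw [h1, hG, hN, Cfsg.Lib.Block.sc_card_normalizer hx hC hP, mul_comm (1 + n * p)] at h2
      exact Nat.eq_of_mul_eq_mul_left (Nat.mul_pos hp.pos
        (Cfsg.Lib.Block.relIndex_pos_of_finite _ _)) h2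
    refine ⟨hcS, ?_⟩
    have h3 : (derivedSeries G 2).relIndex (commutator G) = p := by
      rw [hKeq, sup_comm, Subgroup.relIndex_sup_right, ← Subgroup.inf_relIndex_right,
        eq_bot_iff.2 (le_trans (inf_le_inf_left _ Subgroup.le_normalizer) hinf.le),
        Subgroup.relIndex_bot_left, Cfsg.Lib.Block.sc_card hx hC hP]
    rw [← Cfsg.Lib.Core.card_mul_relIndex (hKeq ▸ le_sup_left), h3, hcS, mul_comm]
  refine ⟨⟨?_, ?_⟩, hcaseA, hcaseB⟩
  · rintro ⟨S, hSn, hScard⟩
    by_cases h : t = p - 1
    · exact Or.inl h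
    have htlt : t < p - 1 := by
      have : t ≤ t * e := Nat.le_mul_of_pos_right t (Cfsg.Lib.Block.relIndex_pos_of_finite _ _)
      omega
    refine Or.inr ⟨htlt, fun heq => ?_⟩
    have he1 : e ≠ 1 := fun h1 => by rw [h1, mul_one] at hte; omega
    have hPK := Cfsg.Lib.Block.sc_sylow_le_commutator hx hC hP he1
    have hidx : S.index = p * e := by
      have h2 := S.index_mul_card
      rw [hScard, hG, mul_comm] at h2
      exact Nat.eq_of_mul_eq_mul_left (by omega) h2
    -- the Sylow subgroup of the quotient is normal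
    have hPbar : Nat.card (Sylow p (G ⧸ S)) = 1 := by
      obtain ⟨Q⟩ : Nonempty (Sylow p (G ⧸ S)) := inferInstance
      have h1 := card_sylow_modEq_one p (G ⧸ S)
      have h2 : (Q : Subgroup (G ⧸ S)).index = e := by
        have hc : Nat.card (Q : Subgroup (G ⧸ S)) = p := by
          rw [Q.card_eq_multiplicity, ← Subgroup.index_eq_card, hidx,
            Nat.factorization_mul hp.ne_zero (Cfsg.Lib.Block.relIndex_pos_of_finite _ _).ne',
            Finsupp.add_apply, hp.factorization_self, Nat.factorization_eq_zero_of_not_dvd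
              (fun hd => absurd (Nat.le_of_dvd (Cfsg.Lib.Block.relIndex_pos_of_finite _ _) hd)
                (by rw [← he]; omega)), add_zero, pow_one]
        have h3 := (Q : Subgroup (G ⧸ S)).index_mul_card
        rw [hc, ← Subgroup.index_eq_card, hidx, mul_comm p] at h3
        exact Nat.eq_of_mul_eq_mul_right hp.pos h3
      have h3 : Nat.card (Sylow p (G ⧸ S)) ≤ e := Nat.le_of_dvd
        (Cfsg.Lib.Block.relIndex_pos_of_finite _ _) (h2 ▸ Q.card_dvd_index)
      have h4 : Nat.card (Sylow p (G ⧸ S)) % p = 1 % p := h1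
      rwa [Nat.mod_eq_of_lt (by omega), Nat.mod_eq_of_lt hp.one_lt] at h4
    haveI : Subsingleton (Sylow p (G ⧸ S)) := (Nat.card_eq_one_iff_unique.1 hPbar).1
    let Q := P.mapSurjective (QuotientGroup.mk'_surjective S)
    haveI : (Q : Subgroup (G ⧸ S)).Normal := Q.normal_of_subsingleton
    have hQc : IsCyclic (Q : Subgroup (G ⧸ S)) := by
      haveI : IsCyclic (P : Subgroup G) := isCyclic_of_prime_card (Cfsg.Lib.Block.sc_card hx hC hP)
      exact isCyclic_of_surjective ((QuotientGroup.mk' S).subgroupMap (P : Subgroup G))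
        ((QuotientGroup.mk' S).subgroupMap_surjective _)
    have hKR : commutator G ≤ (Q : Subgroup (G ⧸ S)).comap (QuotientGroup.mk' S) :=
      Cfsg.Lib.Block.sc_commutator_le hx hC hP _ fun z hz => ⟨z, hz, rfl⟩
    have h2S : derivedSeries G 2 ≤ S := by
      rw [hd2, Subgroup.commutator_le]
      intro a ha b hb
      rw [← QuotientGroup.eq_one_iff]
      show QuotientGroup.mk' S ⁅a, b⁆ = 1
      rw [map_commutatorElement]
      refine commutatorElement_eq_one_iff_mul_comm.2 ?_
      letI := hQc.commGroup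
      exact congrArg Subtype.val
        (mul_comm (⟨_, hKR ha⟩ : (Q : Subgroup (G ⧸ S))) ⟨_, hKR hb⟩)
    have h5 := Subgroup.card_dvd_of_le (hPK.trans ((hd1 ▸ heq).symm.le.trans h2S))
    rw [Cfsg.Lib.Block.sc_card hx hC hP, hScard] at h5
    exact hcop h5
  · rintro (h | ⟨h, hne⟩)
    · exact ⟨commutator G, inferInstance, (hcaseA h).1⟩
    · exact ⟨derivedSeries G 2, derivedSeries_normal G 2, (hcaseB h hne).1⟩

end Cfsg.Agent.S4509
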