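import Cfsg.Statements.S4514
import Cfsg.Agent.Lib.Block.ConstDiff.Main
import Cfsg.Agent.Lib.AbTwo.Basic
import Cfsg.Agent.Lib.Core.Cores


set_option autoImplicit false
open Cfsg

namespace Cfsg.Agent.S4514

/-- Let G be a finite group, u an element of G, and fix a maximal ideal M of the algebraic integers containing 2 (defining the 2-blocks). There is a complex number k with χ(1) − χ(u) = k for every non-principal irreducible character χ in the principal 2-block if and only if one of the following holds: u lies in O(G); or G/O(G) has order 2 and u ∉ O(G); or G/O(G) ≅ PSL(2, 2ⁿ) for some n ≥ 2, u ∉ O(G) and u² ∈ O(G). -/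
theorem result {G : Type*} [Group G] [Finite G] (M : Ideal Cfsg.AlgInt) (hM : Cfsg.IsPModular 2 M) (u : G) :
    (∃ k : ℂ, ∀ χ : Cfsg.IrrCharacter G, χ ∈ Cfsg.principalBlock M G → (χ : G → ℂ) ≠ (fun _ => 1) →
        (χ : G → ℂ) 1 - (χ : G → ℂ) u = k) ↔
      (u ∈ Cfsg.oddCore G ∨ (Nat.card (G ⧸ Cfsg.oddCore G) = 2 ∧ u ∉ Cfsg.oddCore G) ∨
        (∃ (F : Type) (_ : Field F) (_ : Fintype F) (n : ℕ), 2 ≤ n ∧ Fintype.card F = 2 ^ n ∧
          Nonempty (G ⧸ Cfsg.oddCore G ≃* Matrix.ProjectiveSpecialLinearGroup (Fin 2) F) ∧ u ∉ Cfsg.oddCore G ∧ u ^ 2 ∈ Cfsg.oddCore G)) := by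
  classical
  haveI := Fintype.ofFinite G
  have hK : ¬ 2 ∣ Nat.card (oddCore G) := Lib.AbTwo.not_dvd_of_odd Lib.AbTwo.odd_oddCore
  haveI := Fintype.ofFinite (G ⧸ oddCore G)
  have hQ : oddCore (G ⧸ oddCore G) = ⊥ := Lib.Core.pPrimeCore_quotient_eq_bot
  have hone : ((u : G ⧸ oddCore G) = 1) ↔ u ∈ oddCore G := QuotientGroup.eq_one_iff u
  constructor
  · rintro ⟨k, h⟩
    rcases Lib.Block.ConstDiff.core_free_mp hM hQ
      ⟨k, (Lib.Block.ConstDiff.const_quotient hM (oddCore G) hK u k).2 h⟩ with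
      h1 | ⟨h2, h1⟩ | ⟨F, iF, iF', n, hn, hF, e, h1, h2⟩
    · exact Or.inl (hone.1 h1)
    · exact Or.inr (Or.inl ⟨h2, fun hu => h1 (hone.2 hu)⟩)
    · refine Or.inr (Or.inr ⟨F, iF, iF', n, hn, hF, e, fun hu => h1 (hone.2 hu), ?_⟩)
      rwa [← QuotientGroup.eq_one_iff, QuotientGroup.mk_pow]
  · intro h
    obtain ⟨k, hk⟩ := Lib.Block.ConstDiff.core_free_mpr hM (u := (u : G ⧸ oddCore G)) (by
      rcases h with h1 | ⟨h2, h1⟩ | ⟨F, iF, iF', n, hn, hF, e, h1, h2⟩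
      · exact Or.inl (hone.2 h1)
      · exact Or.inr (Or.inl ⟨h2, fun hu => h1 (hone.1 hu)⟩)
      · refine Or.inr (Or.inr ⟨F, iF, iF', n, hn, hF, e, fun hu => h1 (hone.1 hu), ?_⟩)
        rwa [← QuotientGroup.mk_pow, QuotientGroup.eq_one_iff])
    exact ⟨k, (Lib.Block.ConstDiff.const_quotient hM (oddCore G) hK u k).1 hk⟩

end Cfsg.Agent.S4514
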