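import Cfsg.Statements.S4518
import Cfsg.Agent.Lib.Char.Clifford
import Cfsg.Agent.Lib.Char.Galois

set_option autoImplicit false
open Cfsg Cfsg.Lib.Char

namespace Cfsg.Agent.S4518

/-- Let N be a normal subgroup of the finite group G whose index is not divisible by the prime p, and let k be coprime to the order of G with k ^ (p ^ e) ≡ 1 modulo the order of G for some e (so g ↦ g ^ k induces a field automorphism of p-power order on character values). If an irreducible character χ of G satisfies χ (g ^ k) = χ g for all g, then every irreducible constituent θ of the restriction of χ to N satisfies θ (n ^ k) = θ n for all n. -/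
theorem result {G : Type*} [Group G] [Fintype G] (p : ℕ) [Fact p.Prime] (N : Subgroup G) [N.Normal] [Fintype N] (hidx : ¬ p ∣ N.index) (k e : ℕ) (hk : Nat.Coprime k (Nat.card G)) (hke : k ^ (p ^ e) ≡ 1 [MOD Nat.card G]) (χ : Cfsg.IrrCharacter G) (hχ : ∀ g : G, (χ : G → ℂ) (g ^ k) = (χ : G → ℂ) g) (θ : Cfsg.IrrCharacter N) (hθ : Cfsg.classInner (fun n : N => (χ : G → ℂ) n) (θ : N → ℂ) ≠ 0) : ∀ n : N, (θ : N → ℂ) (n ^ k) = (θ : N → ℂ) n := by
  classical
  have hkN : k.Coprime (Nat.card N) :=
    hk.coprime_dvd_right (Subgroup.card_subgroup_dvd_card N)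
  set θk : N → ℂ := fun n => (θ : N → ℂ) (n ^ k) with hθk
  have hirr : IsIrrCharacter N θk := isIrrCharacter_comp_pow hkN θ.2
  have hc : classInner (fun n : N => (χ : G → ℂ) n) θk ≠ 0 := by
    have he : classInner (fun n : N => (χ : G → ℂ) n) θk
        = classInner (fun n : N => (χ : G → ℂ) n) (θ : N → ℂ) := by
      have hsum := Fintype.sum_bijective (fun n : N => n ^ k) (powBij_of_coprime hkN)
        (fun n : N => (χ : G → ℂ) n * (starRingEnd ℂ) ((θ : N → ℂ) (n ^ k)))
        (fun n : N => (χ : G → ℂ) n * (starRingEnd ℂ) ((θ : N → ℂ) n))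
        (fun n => by simp [hχ])
      unfold classInner
      rw [← hsum]
    rwa [he]
  obtain ⟨g, hg⟩ := (mem_twistOrbit N).mp
    (mem_twistOrbit_of_constituent N χ.2 θ.2 hirr hθ hc)
  have hcomm : ∀ (f : N → ℂ) (a : G), conjTwist N (fun n => f (n ^ k)) a
      = fun n => conjTwist N f a (n ^ k) := by
    intro f a
    funext n
    rw [conjTwist_apply, conjTwist_apply]
    exact congrArg f (Subtype.ext (by simp [conj_pow]))
  have hpow : ∀ j : ℕ, conjTwist N (θ : N → ℂ) (g ^ j)
      = fun n => (θ : N → ℂ) (n ^ (k ^ j)) := by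
    intro j
    induction j with
    | zero => simp [conjTwist_one]
    | succ j ih =>
      rw [pow_succ', ← conjTwist_conjTwist, hg, hθk, hcomm, ih]
      funext n
      show (θ : N → ℂ) ((n ^ k) ^ k ^ j) = _
      rw [← pow_mul, pow_succ']
  have hfix : g ^ (p ^ e) ∈ inertia N (θ : N → ℂ) := by
    rw [mem_inertia, hpow]
    funext n
    have h1 : n ^ k ^ p ^ e = n ^ 1 := (pow_eq_pow_iff_modEq).mpr (hke.of_dvd
      ((orderOf_dvd_natCard n).trans (Subgroup.card_subgroup_dvd_card N)))
    rw [h1, pow_one]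
  have hin : g ^ N.index ∈ inertia N (θ : N → ℂ) :=
    le_inertia N θ.2.isClassFunction (Subgroup.pow_index_mem N g)
  have hg1 : g ∈ inertia N (θ : N → ℂ) := by
    have hco : Nat.Coprime (p ^ e) N.index :=
      ((Fact.out : p.Prime).coprime_iff_not_dvd.mpr hidx).pow_left e
    have hb : (g : G) ^ ((p ^ e).gcd N.index : ℕ) ∈ inertia N (θ : N → ℂ) := by
      rw [← zpow_natCast, Nat.gcd_eq_gcd_ab, zpow_add, zpow_mul, zpow_mul, zpow_natCast,
        zpow_natCast]
      exact mul_mem (zpow_mem hfix _) (zpow_mem hin _)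
    rwa [Nat.coprime_iff_gcd_eq_one.mp hco, pow_one] at hb
  intro n
  have h := congrFun (hg.symm.trans (mem_inertia N |>.mp hg1)) n
  exact h

end Cfsg.Agent.S4518
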