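import Cfsg.Statements.S4520
import Cfsg.Agent.Lib.Block.Principal
import Cfsg.Agent.Lib.Block.PrincipalCover
import Cfsg.Agent.Lib.Block.CoverConstituent
import Cfsg.Agent.Lib.Block.GaloisTwist
import Cfsg.Agent.Lib.Char.Ramification

set_option autoImplicit false
open Cfsg

namespace Cfsg.Agent.S4520

open Cfsg.Lib Cfsg.Lib.Block in

/-- Let N be a normal subgroup of odd index in the finite group G, M a maximal ideal of the algebraic integers containing 2, and k coprime to the order of G with k ^ (2 ^ e) ≡ 1 modulo the order of G for some e and g ^ k = g⁻¹ for every element g of odd order. Let θ be an irreducible character of N and χ an irreducible character of G over θ, both unchanged by composing with g ↦ g ^ k. Then χ lies in the principal 2-block of G if and only if θ lies in the principal 2-block of N. -/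
theorem result {G : Type*} [Group G] [Fintype G] (M : Ideal Cfsg.AlgInt) (hM : Cfsg.IsPModular 2 M) (N : Subgroup G) [N.Normal] [Fintype N] (hidx : Odd N.index) (k e : ℕ) (hk : Nat.Coprime k (Nat.card G)) (hke : k ^ (2 ^ e) ≡ 1 [MOD Nat.card G]) (hk₂ : ∀ g : G, Odd (orderOf g) → g ^ k = g⁻¹) (θ : Cfsg.IrrCharacter N) (hθ : ∀ n : N, (θ : N → ℂ) (n ^ k) = (θ : N → ℂ) n) (χ : Cfsg.IrrCharacter G) (hχ : ∀ g : G, (χ : G → ℂ) (g ^ k) = (χ : G → ℂ) g) (hover : Cfsg.classInner (fun n : N => (χ : G → ℂ) n) (θ : N → ℂ) ≠ 0) : χ ∈ Cfsg.principalBlock M G ↔ θ ∈ Cfsg.principalBlock M N := by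
  classical
  haveI : Fact (Nat.Prime 2) := ⟨Nat.prime_two⟩
  refine ⟨fun h => principal_constituent_mem N hM h hover, fun hθB => ?_⟩
  set B := blockOf M (χ : G → ℂ) with hBdef
  have hB : IsPBlock M B := isPBlock_blockOf χ
  have hχB : χ ∈ B := self_mem_blockOf hM χ
  -- a member of odd degree
  obtain ⟨ψ, hψ, hψ1⟩ := exists_over_of_covered (N := N) hM isPBlock_principal hB
    ⟨χ, hχB, θ, hθB, hover⟩ (trivChar_mem_principal hM)
  obtain ⟨d, hd0, hd⟩ := ψ.2.exists_degree
  have hdvd : d ∣ N.index := by
    have h := (Char.degree_ratio_dvd_index N ψ.2 (trivChar N).2 hψ1 hd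
      (show (trivChar N : N → ℂ) 1 = ((1 : ℕ) : ℂ) by simp [trivChar_coe])).2
    rwa [Nat.div_one] at h
  have hmin : minVal 2 B = 0 := by
    have h := minVal_le (p := 2) hψ
    rw [charDegree_eq_of_apply_one hd, Nat.factorization_eq_zero_of_not_dvd (fun h2 => ?_)] at h
    · omega
    · exact (Nat.not_even_iff_odd.2 hidx) (even_iff_two_dvd.2 (h2.trans hdvd))
  have hfull : blockDefect 2 B = (Nat.card G).factorization 2 := by
    have h := blockDefect_add_minVal (p := 2) (nonempty_of_isPBlock hM hB)
    omega
  -- the twist stabilizes the block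
  have hclass : ∀ g : G, Subgroup.centralizer ({g ^ k} : Set G) =
      Subgroup.centralizer ({g} : Set G) := by
    intro g
    obtain ⟨j, hj⟩ := exists_pow_eq_self_of_coprime
      (Nat.Coprime.coprime_dvd_right (orderOf_dvd_natCard g) hk)
    ext x
    rw [Subgroup.mem_centralizer_singleton_iff, Subgroup.mem_centralizer_singleton_iff]
    constructor
    · intro h
      have h' : Commute x ((g ^ k) ^ j) := Commute.pow_right h j
      rw [hj] at h'
      exact h'
    · intro h
      exact Commute.pow_right h k
  have hcc : ∀ (η : IrrCharacter G) (g : G),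
      centralChar (powTwist k hk η : G → ℂ) g = centralChar (η : G → ℂ) (g ^ k) := by
    intro η g
    simp only [centralChar, powTwist_apply, one_pow, hclass g]
  have hmaps : ∀ η ∈ B, powTwist k hk η ∈ B := by
    intro η hη
    have h := sameBlock_of_mem hM hB hχB hη
    refine mem_of_sameBlock hM hB hχB fun g => ?_
    have hχk : (powTwist k hk χ : G → ℂ) = (χ : G → ℂ) := funext hχ
    rw [← hχk, hcc, hcc]
    exact h (g ^ k)
  have heq : B = principalBlock M G := eq_principal_two_of_inv hM hB hfull fun g hg =>
    blockCoeff_inv_of_twist (powTwist k hk) (powTwist_injective k hk) hmaps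
      (fun η _ => by rw [powTwist_apply, one_pow])
      (fun η _ => by rw [powTwist_apply, hk₂ g (Nat.not_even_iff_odd.1 fun h => hg
        (even_iff_two_dvd.1 h))])
  exact heq ▸ hχB

end Cfsg.Agent.S4520
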