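import Cfsg.Statements.S4531
import Cfsg.Agent.Lib.Block.DihedralCenter
import Cfsg.Agent.Lib.Block.DihedralSolvable

set_option autoImplicit false
open Cfsg

namespace Cfsg.Agent.S4531

open Cfsg.Lib.Block

/-- Let the finite group G have a 2-block B (relative to a maximal ideal M of the algebraic integers containing 2) of 2-regular rank three (three irreducible Brauer characters) whose defect group D is dihedral of order 2 ^ n with n ≥ 3 or semidihedral. Then the centre of G has odd order and G is not solvable. -/
theorem result {G : Type*} [Group G] [Finite G] (M : Ideal Cfsg.AlgInt) (hM : Cfsg.IsPModular 2 M) (B : Set (Cfsg.IrrCharacter G)) (hB : Cfsg.IsPBlock M B) (D : Subgroup G) (hD : Cfsg.IsDefectGroup 2 M B D) (hD' : (∃ n : ℕ, 3 ≤ n ∧ Nonempty (D ≃* DihedralGroup (2 ^ (n - 1)))) ∨ Cfsg.IsQuasiDihedral D) (hl : Cfsg.blockRank 2 B = 3) : Odd (Nat.card (Subgroup.center G)) ∧ ¬ Group.IsSolvable G := by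
  classical
  letI : Fintype G := Fintype.ofFinite G
  haveI : Fact (Nat.Prime 2) := ⟨Nat.prime_two⟩
  refine ⟨?_, fun hsol => ?_⟩
  · by_contra hodd
    rw [Nat.not_odd_iff_even, even_iff_two_dvd] at hodd
    obtain ⟨z, hz⟩ := exists_prime_orderOf_dvd_card' 2 hodd
    have hz2 : orderOf (z : G) = 2 := by rw [orderOf_submonoid, hz]
    rcases hD' with ⟨n, hn, ⟨e⟩⟩ | hsd
    · have := blockRank_dihedral_central hM hB hD hn e z.2 hz2
      omega
    · have := blockRank_semidihedral_central hM hB hD hsd z.2 hz2
      omega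
  · haveI := hsol
    have hshape : IsTameShape D := by
      rcases hD' with ⟨n, hn, ⟨e⟩⟩ | hsd
      · exact isTameShape_dihedral hn e
      · exact isTameShape_semidihedral hsd
    have := blockRank_solvable_le_two hM (Nat.card G) rfl
      Cfsg.Lib.Core.isPSolvable_of_isSolvable B hB D hD hshape
    omega

end Cfsg.Agent.S4531
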