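import Cfsg.Statements.S4541
import Cfsg.Agent.Lib.Block.TwoSubsection

set_option autoImplicit false
open Cfsg

namespace Cfsg.Agent.S4541

open Cfsg.Lib in
theorem arith (k μ Q l : ℕ) (hμ : Odd μ) (h1 : k * μ ≤ Q * l) (h2 : k + μ ^ 2 ≤ Q * μ + 1) :
    (Odd (Nat.sqrt l) → k ≤ Nat.sqrt l * Q) ∧
      (¬ Odd (Nat.sqrt l) → (Nat.sqrt l + 1) * k ≤ l * Q) ∧ (l ≤ 3 → k ≤ Q) := by
  have hs1 := Nat.sqrt_le l
  have hs2 := Nat.lt_succ_sqrt l
  obtain ⟨a, rfl⟩ := hμ
  set s := Nat.sqrt l with hs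
  have hodd : Odd s → k ≤ s * Q := by
    rintro ⟨c, hc⟩
    rcases le_or_gt (2 * a + 1) s with h | h
    · have : Q * (2 * a + 1) ≤ Q * s := Nat.mul_le_mul_left _ h
      nlinarith
    · have hl : l ≤ s * (s + 2) := by
        simp only [Nat.succ_eq_add_one] at hs2
        nlinarith
      have h3 : k * (s + 2) ≤ k * (2 * a + 1) := Nat.mul_le_mul_left _ (by omega)
      have h4 : Q * l ≤ Q * (s * (s + 2)) := Nat.mul_le_mul_left _ hl
      exact Nat.le_of_mul_le_mul_right (by linarith [Nat.mul_comm Q (s * (s + 2))] : k * (s + 2) ≤ s * Q * (s + 2)) (by omega)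
  refine ⟨hodd, fun hev => ?_, fun h3 => ?_⟩
  · rw [Nat.not_odd_iff_even] at hev
    obtain ⟨c, hc⟩ := hev
    rcases le_or_gt (2 * a + 1) s with h | h
    · obtain ⟨t, ht⟩ : ∃ t, s = t + 1 := ⟨s - 1, by omega⟩
      have h5 : k ≤ Q * t := by
        have : Q * (2 * a + 1) ≤ Q * t := Nat.mul_le_mul_left _ (by omega)
        nlinarith
      have h6 : (s + 1) * k ≤ (s + 1) * (Q * t) := Nat.mul_le_mul_left _ h5
      have h7 : (s + 1) * t ≤ l := by rw [ht] at hs1 ⊢; nlinarith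
      have h8 := Nat.mul_le_mul_left Q h7
      linarith [Nat.mul_comm Q l]
    · have h3 : k * (s + 1) ≤ k * (2 * a + 1) := Nat.mul_le_mul_left _ (by omega)
      linarith [Nat.mul_comm Q l]
  · rcases Nat.eq_zero_or_pos l with rfl | hl
    · nlinarith
    · have : s = 1 := le_antisymm
        (by nlinarith) (Nat.sqrt_pos.2 hl)
      simpa [this] using hodd (by rw [this]; exact odd_one)

open Cfsg.Lib Cfsg.Lib.Block in
/-- Let B be a 2-block of the finite group G (relative to a maximal ideal M of the algebraic integers containing 2), u a 2-element, and b a block of the centralizer of u inducing B (a subsection (u, b)), of defect q and 2-regular rank l; write s for the integer square root of l and k₀(B) for the number of members of B of height zero. If s is odd then k₀(B) ≤ s·2 ^ q, and otherwise (s + 1)·k₀(B) ≤ l·2 ^ q; in particular k₀(B) ≤ 2 ^ q when l ≤ 3. -/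
theorem result {G : Type*} [Group G] [Finite G] (M : Ideal Cfsg.AlgInt) (hM : Cfsg.IsPModular 2 M) (B : Set (Cfsg.IrrCharacter G)) (hB : Cfsg.IsPBlock M B) (u : G) (hu : ∃ j : ℕ, orderOf u = 2 ^ j) (b : Set (Cfsg.IrrCharacter ↥(Subgroup.centralizer ({u} : Set G)))) (hb : Cfsg.IsInducedBlock M (Subgroup.centralizer ({u} : Set G)) b B) : (Odd (Nat.sqrt (Cfsg.blockRank 2 b)) → Nat.card {χ : Cfsg.IrrCharacter G // χ ∈ B ∧ Cfsg.blockHeight 2 B (χ : G → ℂ) = 0} ≤ Nat.sqrt (Cfsg.blockRank 2 b) * 2 ^ Cfsg.blockDefect 2 b) ∧ (¬ Odd (Nat.sqrt (Cfsg.blockRank 2 b)) → (Nat.sqrt (Cfsg.blockRank 2 b) + 1) * Nat.card {χ : Cfsg.IrrCharacter G // χ ∈ B ∧ Cfsg.blockHeight 2 B (χ : G → ℂ) = 0} ≤ Cfsg.blockRank 2 b * 2 ^ Cfsg.blockDefect 2 b) ∧ (Cfsg.blockRank 2 b ≤ 3 → Nat.card {χ : Cfsg.IrrCharacter G // χ ∈ B ∧ Cfsg.blockHeight 2 B (χ : G → ℂ) = 0} ≤ 2 ^ Cfsg.blockDefect 2 b) := by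
  classical
  haveI := Fintype.ofFinite G
  haveI := Fintype.ofFinite ↥(Subgroup.centralizer ({u} : Set G))
  have hk : Nat.card {χ : Cfsg.IrrCharacter G // χ ∈ B ∧ Cfsg.blockHeight 2 B (χ : G → ℂ) = 0} =
      (B.toFinset.filter fun χ : Cfsg.IrrCharacter G => Cfsg.blockHeight 2 B (χ : G → ℂ) = 0).card := by
    rw [Nat.card_eq_fintype_card, Fintype.card_subtype]
    congr 1
    ext χ
    simp
  rw [hk]
  rcases (B.toFinset.filter fun χ : Cfsg.IrrCharacter G => Cfsg.blockHeight 2 B (χ : G → ℂ) = 0).eq_empty_or_nonempty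
    with he | hne
  · simp [he]
  haveI : Fact (Nat.Prime 2) := ⟨Nat.prime_two⟩
  obtain ⟨μ, hμ, h1, h2⟩ := exists_odd_bound (H := Subgroup.centralizer ({u} : Set G)) hM hu
    (fun h => Subgroup.mem_centralizer_iff.1 h.2 u (Set.mem_singleton u)) le_rfl hb rfl hne
  exact arith _ μ _ _ hμ h1 h2

end Cfsg.Agent.S4541
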