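import Cfsg.Statements.S4549
import Cfsg.Agent.Lib.Block.TwoFixedOdd
import Cfsg.Agent.Lib.Block.SubsectionApps

set_option autoImplicit false
open Cfsg

namespace Cfsg.Agent.S4549

open Cfsg.Lib Cfsg.Lib.Block in

/-- Let G be a finite group and M a maximal ideal of the algebraic integers containing 2. Let k be a natural number with g ^ k = g ^ 3 for every 2-element g and g ^ k = g for every element g of odd order (such k exist); an irreducible character χ is unchanged by g ↦ g ^ k exactly when it is fixed by the field automorphism that cubes the 2-power roots of unity and fixes the roots of unity of odd order. Then G has a normal 2-complement if and only if every member χ of the principal 2-block of odd degree with χ (g ^ k) = χ g for all g has degree one. -/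
theorem result {G : Type*} [Group G] [Finite G] (M : Ideal Cfsg.AlgInt) (hM : Cfsg.IsPModular 2 M) (k : ℕ) (hk₁ : ∀ g : G, (∃ j : ℕ, orderOf g = 2 ^ j) → g ^ k = g ^ 3) (hk₂ : ∀ g : G, Odd (orderOf g) → g ^ k = g) : Cfsg.HasNormalPComplement 2 G ↔ ∀ χ ∈ Cfsg.principalBlock M G, Odd (Cfsg.charDegree (χ : G → ℂ)) → (∀ g : G, (χ : G → ℂ) (g ^ k) = (χ : G → ℂ) g) → Cfsg.charDegree (χ : G → ℂ) = 1 := by
  classical
  haveI : Fact (Nat.Prime 2) := ⟨Nat.prime_two⟩
  haveI := Fintype.ofFinite G
  have hk := twist_coprime hk₁ hk₂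
  constructor
  · -- the members are characters of the 2-quotient
    rintro ⟨P, N, hN, hc⟩ χ hχ hodd -
    haveI := hN
    haveI := Fintype.ofFinite N
    obtain ⟨j, hj⟩ : ∃ j, Nat.card (P : Subgroup G) = 2 ^ j := IsPGroup.iff_card.1 P.2
    have hmul := hc.card_mul
    have hidx : N.index = 2 ^ j := by
      have h1 := N.card_mul_index
      rw [← hmul, hj] at h1
      exact Nat.eq_of_mul_eq_mul_left Nat.card_pos h1
    have hN2 : ¬ 2 ∣ Nat.card N := by
      intro h2
      have h1 : Nat.card (P : Subgroup G) = 2 ^ (Nat.card G).factorization 2 := P.card_eq_multiplicity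
      have h3 : 2 ^ ((Nat.card G).factorization 2 + 1) ∣ Nat.card G := by
        rw [pow_succ', ← h1]
        exact (Nat.mul_dvd_mul_right h2 _).trans (dvd_of_eq hmul)
      exact Nat.pow_succ_factorization_not_dvd Nat.card_pos.ne' Nat.prime_two h3
    have htriv := principal_trivial_on hM hN2 hχ
    obtain ⟨d, hd0, hd⟩ := χ.2.exists_degree
    have hc : classInner (fun n : N => (χ : G → ℂ) n) (fun _ => 1) ≠ 0 := by
      rw [Char.classInner_one_right, Finset.sum_congr rfl fun (n : N) _ => htriv n n.2,
        Finset.sum_const, Finset.card_univ, nsmul_eq_mul, ← Nat.card_eq_fintype_card, ← mul_assoc,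
        inv_mul_cancel₀ Char.card_cast_ne_zero, one_mul]
      exact χ.2.apply_one_ne_zero
    have h := (Char.degree_ratio_dvd_index N χ.2 Char.isIrrCharacter_one hc hd
      (show (1 : ℂ) = ((1 : ℕ) : ℂ) from Nat.cast_one.symm)).2
    rw [Nat.div_one, hidx] at h
    rw [charDegree_eq_of_apply_one hd] at hodd ⊢
    obtain ⟨i, -, hi⟩ := (Nat.dvd_prime_pow Nat.prime_two).1 h
    rcases Nat.eq_zero_or_pos i with rfl | hi0
    · simpa using hi
    · exact absurd hodd (Nat.not_odd_iff_even.2 (hi ▸ (Nat.even_pow.2 ⟨even_two, hi0.ne'⟩)))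
  · intro hyp
    set K := oddGenerated G with hKdef
    obtain ⟨j, hj⟩ := exists_pow_index_oddGenerated (G := G)
    haveI := Fintype.ofFinite K
    by_cases hK2 : 2 ∣ Nat.card K
    swap
    · obtain ⟨P⟩ := Sylow.nonempty (p := 2) (G := G)
      refine ⟨P, K, inferInstance, Subgroup.isComplement'_of_coprime ?_ ?_⟩
      · rw [P.card_eq_multiplicity, ← K.card_mul_index, hj, Nat.factorization_mul Nat.card_pos.ne'
          (pow_ne_zero _ two_ne_zero), Finsupp.add_apply, Nat.factorization_eq_zero_of_not_dvd hK2,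
          zero_add, Nat.prime_two.factorization_pow, Finsupp.single_eq_same]
      · obtain ⟨i, hi⟩ := IsPGroup.iff_card.1 P.2
        rw [hi]
        exact Nat.Coprime.pow_right i (Nat.prime_two.coprime_iff_not_dvd.2 hK2).symm
    exfalso
    have hk₁K : ∀ g : K, (∃ i : ℕ, orderOf g = 2 ^ i) → g ^ k = g ^ 3 := fun g hg =>
      Subtype.ext (by
        simp only [SubmonoidClass.coe_pow]
        exact hk₁ g (by simpa [Subgroup.orderOf_coe] using hg))
    have hk₂K : ∀ g : K, Odd (orderOf g) → g ^ k = g := fun g hg =>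
      Subtype.ext (by
        simp only [SubmonoidClass.coe_pow]
        exact hk₂ g (by rwa [Subgroup.orderOf_coe]))
    have hoddS := odd_card_fixed hk₁K hk₂K hM oddGenerated_self hK2
    set S := ((principalBlock M K).toFinset).filter fun θ : IrrCharacter K =>
      Odd (charDegree (θ : K → ℂ)) ∧ charDegree (θ : K → ℂ) ≠ 1 ∧
        ∀ g, (θ : K → ℂ) (g ^ k) = (θ : K → ℂ) g with hS
    -- the Sylow subgroup acts
    obtain ⟨P⟩ := Sylow.nonempty (p := 2) (G := G)
    have htwS : ∀ (x : G), ∀ θ ∈ S, twistIrr K x θ ∈ S := by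
      intro x θ hθ
      rw [hS, Finset.mem_filter, Set.mem_toFinset] at hθ ⊢
      obtain ⟨hθB, h1, h2, h3⟩ := hθ
      refine ⟨?_, ?_, ?_, fun n => ?_⟩
      · have htriv : twistIrr K x (trivChar K) = trivChar K := Subtype.ext (funext fun n => by
          rw [twistIrr_apply, trivChar_coe])
        refine mem_of_sameBlock hM isPBlock_principal (trivChar_mem_principal hM) ?_
        rw [← htriv, sameBlock_twistIrr]
        exact sameBlock_of_mem hM isPBlock_principal (trivChar_mem_principal hM) hθB
      · rwa [show charDegree (twistIrr K x θ : K → ℂ) = charDegree (θ : K → ℂ) by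
          simp only [charDegree, twistIrr, compIrr_apply, map_one]]
      · rwa [show charDegree (twistIrr K x θ : K → ℂ) = charDegree (θ : K → ℂ) by
          simp only [charDegree, twistIrr, compIrr_apply, map_one]]
      · rw [twistIrr, compIrr_apply, compIrr_apply, map_pow, h3]
    letI : MulAction (P : Subgroup G) S :=
      { smul := fun x θ => ⟨twistIrr K (x : G)⁻¹ θ.1, htwS _ _ θ.2⟩
        one_smul := fun θ => Subtype.ext (Subtype.ext (by
          show (twistIrr K ((1 : G))⁻¹ θ.1 : K → ℂ) = _
          rw [coe_twistIrr, inv_one, Char.conjTwist_one]))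
        mul_smul := fun x y θ => Subtype.ext (by
          show twistIrr K ((x : G) * y)⁻¹ θ.1 = twistIrr K (x : G)⁻¹ (twistIrr K (y : G)⁻¹ θ.1)
          rw [mul_inv_rev, twistIrr_mul]) }
    have hfix := (IsPGroup.card_modEq_card_fixedPoints (p := 2) P.2 S)
    have hne : (MulAction.fixedPoints (P : Subgroup G) S).Nonempty := by
      by_contra he
      rw [Set.not_nonempty_iff_eq_empty] at he
      rw [Nat.card_congr (Equiv.setCongr he), Nat.card_eq_fintype_card (α := (S : Finset (IrrCharacter K))), Fintype.card_coe,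
        Nat.card_eq_fintype_card, Fintype.card_eq_zero] at hfix
      have h1 := Nat.odd_iff.1 hoddS
      rw [Nat.ModEq, h1] at hfix
      simp at hfix
    obtain ⟨⟨θ, hθ⟩, hθfix⟩ := hne
    rw [hS, Finset.mem_filter, Set.mem_toFinset] at hθ
    obtain ⟨hθB, hθodd, hθ1, hθk⟩ := hθ
    have hinv : ∀ g, twistIrr K g θ = θ := by
      have hPK : (P : Subgroup G) ⊔ K = ⊤ := by
        refine Subgroup.index_eq_one.1 ?_
        have h1 := Subgroup.index_dvd_of_le (le_sup_left : (P : Subgroup G) ≤ (P : Subgroup G) ⊔ K)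
        have h2 := Subgroup.index_dvd_of_le (le_sup_right : K ≤ (P : Subgroup G) ⊔ K)
        rw [hj] at h2
        exact Nat.eq_one_of_dvd_coprimes
          (Nat.Coprime.pow_right j (Nat.prime_two.coprime_iff_not_dvd.2 P.not_dvd_index).symm) h1 h2
      intro g
      have hg : g ∈ Char.inertia K (θ : K → ℂ) := by
        refine (show (P : Subgroup G) ⊔ K ≤ Char.inertia K (θ : K → ℂ) from sup_le (fun x hx => ?_)
          (Char.le_inertia K θ.2.isClassFunction)) (hPK ▸ Subgroup.mem_top g)
        have h := congrArg (fun z : S => (z.1 : K → ℂ)) (hθfix (⟨x, hx⟩⁻¹ : (P : Subgroup G)))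
        have h' : (twistIrr K ((x⁻¹)⁻¹) θ : K → ℂ) = (θ : K → ℂ) := h
        rw [inv_inv, coe_twistIrr] at h'
        exact (Char.mem_inertia K).2 h'
      exact Subtype.ext (by rw [coe_twistIrr]; exact (Char.mem_inertia K).1 hg)
    obtain ⟨χ, hχ, hχk⟩ := exists_fixed_extension_twoFixedOdd hk₁ hk₂ K ⟨j, hj⟩ oddGenerated_self θ hinv hθodd hθk
    have hdeg : charDegree (χ : G → ℂ) = charDegree (θ : K → ℂ) := by
      have h := hχ 1
      rw [OneMemClass.coe_one] at h
      simp only [charDegree, h]
    have hc : classInner (fun n : K => (χ : G → ℂ) n) (θ : K → ℂ) ≠ 0 := by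
      rw [funext hχ, Char.classInner_irr_self θ.2]
      exact one_ne_zero
    have hχB : χ ∈ principalBlock M G := by
      obtain ⟨ψ, hψ, hψc⟩ := exists_principal_over K hM hθB
      obtain ⟨B, -, huniq⟩ := existsUnique_over K hM ⟨j, hj⟩ (isPBlock_principal (M := M) (G := K))
      rw [huniq _ ⟨isPBlock_principal, ψ, hψ, θ, hθB, hψc⟩,
        ← huniq _ ⟨isPBlock_blockOf χ, χ, self_mem_blockOf hM χ, θ, hθB, hc⟩]
      exact self_mem_blockOf hM χ
    exact hθ1 (hdeg ▸ hyp χ hχB (hdeg ▸ hθodd) hχk)

end Cfsg.Agent.S4549
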