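import Cfsg.Statements.S4550
import Cfsg.Agent.Lib.Block.PrincipalSums
import Cfsg.Agent.Lib.Block.GaloisTwist
import Cfsg.Agent.Lib.Block.Vanish
import Mathlib.GroupTheory.PGroup

set_option autoImplicit false
open Cfsg Cfsg.Lib.Block

namespace Cfsg.Agent.S4550

/-- The principal 2-block of a group of even order has evenly many characters of odd degree. -/
theorem even_odd_degree_count {G : Type*} [Group G] [Fintype G] (M : Ideal Cfsg.AlgInt)
    (hM : Cfsg.IsPModular 2 M) (hev : Even (Nat.card G)) :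
    Even (Nat.card {χ : Cfsg.IrrCharacter G //
      χ ∈ Cfsg.principalBlock M G ∧ Odd (Cfsg.charDegree (χ : G → ℂ))}) := by
  classical
  haveI : Fact (Nat.Prime 2) := ⟨Nat.prime_two⟩
  obtain ⟨x, hx⟩ := exists_prime_orderOf_dvd_card' 2 (even_iff_two_dvd.mp hev)
  haveI : CharP (resField hM) 2 := inferInstance
  have hne : ¬ IsConj (pPt 2 (1 : G)) (pPt 2 x)⁻¹ := by
    have := not_isConj_pPt_of_dvd (p := 2) (g := (1 : G)) (h := x⁻¹) (by simp)
      (by rw [orderOf_inv, hx])
    rwa [pPt_inv] at this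
  have h0 := sum_block_mul_eq_zero hM (vInt_indVec hM (isPBlock_principal (M := M) (G := G))) hne
  rw [finsum_mem_eq_finite_toFinset_sum _ (Set.toFinite _)] at h0
  set B := (Set.toFinite (principalBlock M G)).toFinset with hBdef
  have hres : res hM (∑ χ ∈ B, (χ : G → ℂ) 1 * (χ : G → ℂ) x)
      = ∑ χ ∈ B, (charDegree (χ : G → ℂ) : resField hM) := by
    rw [res_sum hM _ _ fun χ _ => mul_mem
      (charVal_mem_locRing hM χ 1) (charVal_mem_locRing hM χ x)]
    refine Finset.sum_congr rfl fun χ _ => ?_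
    obtain ⟨n, μ, hμ, hk⟩ := Cfsg.Lib.Char.exists_sum_roots χ.2.isCharacter x
    have hn : charDegree (χ : G → ℂ) = n := charDegree_eq_of_apply_one (by simpa using hk 0)
    have hval : (χ : G → ℂ) x = ∑ i, μ i := by simpa using hk 1
    have hmem : ∀ i, μ i = 1 ∨ μ i = -1 := fun i => by
      have := hμ i
      rw [hx] at this
      exact sq_eq_one_iff.mp this
    have hone : ∀ i, res hM (μ i) = 1 := fun i => by
      rcases hmem i with h | h
      · rw [h, res_one]
      · rw [h, res_neg hM (one_mem _), res_one, CharTwo.neg_eq]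
    have hloc : ∀ i, μ i ∈ locRing hM := fun i => by
      rcases hmem i with h | h <;> rw [h]
      · exact one_mem _
      · exact neg_mem (one_mem _)
    rw [res_mul hM (charVal_mem_locRing hM χ 1) (charVal_mem_locRing hM χ x),
      apply_one_eq_charDegree, res_natCast, hval, res_sum hM _ _ fun i _ => hloc i]
    simp only [hone, Finset.sum_const, Finset.card_univ, Fintype.card_fin, nsmul_eq_mul, mul_one]
    rw [hn, ← Nat.cast_mul, CharP.cast_eq_mod (resField hM) 2 (n * n),
      CharP.cast_eq_mod (resField hM) 2 n]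
    congr 1
    rw [Nat.mul_mod]
    rcases Nat.mod_two_eq_zero_or_one n with h | h <;> rw [h]
  rw [h0, res_zero] at hres
  have hcount : Nat.card {χ : IrrCharacter G //
      χ ∈ principalBlock M G ∧ Odd (charDegree (χ : G → ℂ))}
      = (B.filter fun χ : IrrCharacter G => Odd (charDegree (χ : G → ℂ))).card := by
    rw [← Nat.card_eq_finsetCard]
    exact Nat.card_congr (Equiv.subtypeEquivRight fun χ => by simp [hBdef])
  rw [hcount, even_iff_two_dvd, ← CharP.cast_eq_zero_iff (resField hM) 2, hres,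
    Finset.card_eq_sum_ones, Nat.cast_sum, Finset.sum_filter]
  refine Finset.sum_congr rfl fun χ _ => ?_
  rw [CharP.cast_eq_mod (resField hM) 2 (charDegree (χ : G → ℂ))]
  by_cases h : Odd (charDegree (χ : G → ℂ))
  · rw [if_pos h, Nat.odd_iff.mp h]
  · rw [if_neg h, Nat.even_iff.mp (Nat.not_odd_iff_even.mp h), Nat.cast_zero]

/-- Let G be a finite group of even order and M a maximal ideal of the algebraic integers containing 2. Let k be a natural number with g ^ k = g ^ 3 for every 2-element g and g ^ k = g for every element g of odd order (such k exist); an irreducible character χ is unchanged by g ↦ g ^ k exactly when it is fixed by the field automorphism that cubes the 2-power roots of unity and fixes the roots of unity of odd order. Then the number of members χ of the principal 2-block of odd degree with χ (g ^ k) = χ g for all g is even. -/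
theorem result {G : Type*} [Group G] [Finite G] (M : Ideal Cfsg.AlgInt) (hM : Cfsg.IsPModular 2 M) (hev : Even (Nat.card G)) (k : ℕ) (hk₁ : ∀ g : G, (∃ j : ℕ, orderOf g = 2 ^ j) → g ^ k = g ^ 3) (hk₂ : ∀ g : G, Odd (orderOf g) → g ^ k = g) : Even (Nat.card {χ : Cfsg.IrrCharacter G // χ ∈ Cfsg.principalBlock M G ∧ Odd (Cfsg.charDegree (χ : G → ℂ)) ∧ ∀ g : G, (χ : G → ℂ) (g ^ k) = (χ : G → ℂ) g}) := by
  classical
  haveI : Fact (Nat.Prime 2) := ⟨Nat.prime_two⟩
  haveI := Fintype.ofFinite G
  have hk : k.Coprime (Nat.card G) := by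
    refine Nat.coprime_of_dvd fun q hq hqk hqG => ?_
    obtain ⟨g, hg⟩ := @exists_prime_orderOf_dvd_card' G _ _ q ⟨hq⟩ hqG
    have hg1 : g ≠ 1 := fun h => hq.one_lt.ne (by rw [← hg, h, orderOf_one])
    have h0 : g ^ k = 1 := orderOf_dvd_iff_pow_eq_one.mp (hg ▸ hqk)
    by_cases h2 : q = 2
    · have h3 := hk₁ g ⟨1, by rw [hg, h2, pow_one]⟩
      have hsq : g ^ 2 = 1 := by rw [← h2, ← hg, pow_orderOf_eq_one]
      rw [h0, pow_succ, hsq, one_mul] at h3
      exact hg1 h3.symm
    · exact hg1 ((hk₂ g (hg ▸ hq.odd_of_ne_two h2)).symm.trans h0)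
  -- the twist has two-power order
  obtain ⟨a, ha⟩ : ∃ a : ℕ, ∀ g : G, g ^ (k ^ 2 ^ a) = g := by
    refine ⟨(Nat.card G).factorization 2, fun g => ?_⟩
    have hx : ∀ m : ℕ, (pPt 2 g) ^ (k ^ m) = pPt 2 g ^ (3 ^ m) := by
      intro m
      induction m with
      | zero => simp
      | succ m ih =>
        obtain ⟨j, hj⟩ := exists_orderOf_pPt (p := 2) g
        obtain ⟨i, -, hi⟩ := (Nat.dvd_prime_pow Nat.prime_two).mp
          (hj ▸ orderOf_pow_dvd (x := pPt 2 g) (3 ^ m))
        rw [pow_succ, pow_mul, ih, hk₁ _ ⟨i, hi⟩, ← pow_mul, ← pow_succ]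
    have hy : ∀ m : ℕ, (pReg 2 g) ^ (k ^ m) = pReg 2 g := by
      intro m
      induction m with
      | zero => simp
      | succ m ih =>
        rw [pow_succ, pow_mul, ih, hk₂ _ (Nat.odd_iff.mpr ?_)]
        have := not_dvd_orderOf_pReg (p := 2) g
        omega
    have h3 : pPt 2 g ^ (3 ^ 2 ^ (Nat.card G).factorization 2) = pPt 2 g := by
      obtain ⟨j, hj⟩ := exists_orderOf_pPt (p := 2) g
      have hle : j ≤ (Nat.card G).factorization 2 :=
        (Nat.prime_two.pow_dvd_iff_le_factorization Nat.card_pos.ne').mp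
          (hj ▸ orderOf_dvd_natCard _)
      conv_rhs => rw [← pow_one (pPt 2 g)]
      apply pow_eq_pow_iff_modEq.mpr
      rw [hj]
      refine Nat.ModEq.of_dvd (pow_dvd_pow 2 hle) ?_
      -- `3 ^ 2 ^ t ≡ 1` modulo `2 ^ t`
      generalize (Nat.card G).factorization 2 = t
      have key : ∀ t : ℕ, ∃ c, 3 ^ 2 ^ t = 2 ^ (t + 1) * c + 1 := by
        intro t
        induction t with
        | zero => exact ⟨1, rfl⟩
        | succ t ih =>
          obtain ⟨c, hc⟩ := ih
          refine ⟨2 ^ t * c * c + c, ?_⟩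
          rw [pow_succ, pow_mul, hc]
          ring
      obtain ⟨c, hc⟩ := key t
      rw [hc, pow_succ, mul_assoc]
      exact ((Nat.modEq_iff_dvd' (Nat.le_add_left 1 _)).mpr ⟨2 * c, by omega⟩).symm
    conv_lhs => rw [← pPt_mul_pReg (p := 2) g]
    rw [(pPt_commute_pReg g).mul_pow, hx, hy, h3, pPt_mul_pReg]
  let X := {χ : IrrCharacter G // χ ∈ principalBlock M G ∧ Odd (charDegree (χ : G → ℂ))}
  have hmaps : ∀ χ : IrrCharacter G, (χ ∈ principalBlock M G ∧ Odd (charDegree (χ : G → ℂ))) →
      (powTwist k hk χ ∈ principalBlock M G ∧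
        Odd (charDegree ((powTwist k hk χ : IrrCharacter G) : G → ℂ))) := fun χ h => by
    refine ⟨principal_comp_pow hM hk h.1, ?_⟩
    have : (powTwist k hk χ : G → ℂ) 1 = (χ : G → ℂ) 1 := by rw [powTwist_apply, one_pow]
    unfold charDegree at h ⊢
    rw [this]
    exact h.2
  let τ : X → X := fun χ => ⟨powTwist k hk χ.1, hmaps χ.1 χ.2⟩
  have hτinj : Function.Injective τ := fun a b h => Subtype.ext
    (powTwist_injective k hk (congrArg Subtype.val h))
  let e : Equiv.Perm X := Equiv.ofBijective τ (Finite.injective_iff_bijective.mp hτinj)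
  have hiter : ∀ (m : ℕ) (χ : X) (g : G),
      (((e ^ m) χ).1 : G → ℂ) g = (χ.1 : G → ℂ) (g ^ (k ^ m)) := by
    intro m
    induction m with
    | zero => intro χ g; simp
    | succ m ih =>
      intro χ g
      rw [pow_succ', Equiv.Perm.mul_apply]
      show (((τ ((e ^ m) χ))).1 : G → ℂ) g = _
      rw [show ((τ ((e ^ m) χ)).1 : G → ℂ) g = (((e ^ m) χ).1 : G → ℂ) (g ^ k) from rfl, ih,
        ← pow_mul, pow_succ']
  have hord : e ^ (2 ^ a) = 1 := by
    refine Equiv.ext fun χ => Subtype.ext (Subtype.ext (funext fun g => ?_))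
    rw [hiter, ha, Equiv.Perm.one_apply]
  have hP : IsPGroup 2 (Subgroup.zpowers e) := by
    rw [IsPGroup.iff_card, Nat.card_zpowers]
    obtain ⟨j, -, hj⟩ := (Nat.dvd_prime_pow Nat.prime_two).mp (orderOf_dvd_of_pow_eq_one hord)
    exact ⟨j, hj⟩
  have hmod := hP.card_modEq_card_fixedPoints X
  have hfix : Nat.card (MulAction.fixedPoints (Subgroup.zpowers e) X)
      = Nat.card {χ : IrrCharacter G // χ ∈ principalBlock M G ∧
          Odd (charDegree (χ : G → ℂ)) ∧ ∀ g : G, (χ : G → ℂ) (g ^ k) = (χ : G → ℂ) g} := by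
    refine Nat.card_congr ?_
    refine (Equiv.subtypeEquivRight fun χ => ?_).trans
      ((Equiv.subtypeSubtypeEquivSubtypeInter
        (fun χ : IrrCharacter G => χ ∈ principalBlock M G ∧ Odd (charDegree (χ : G → ℂ)))
        (fun χ : IrrCharacter G => ∀ g : G, (χ : G → ℂ) (g ^ k) = (χ : G → ℂ) g)).trans
        (Equiv.subtypeEquivRight fun χ => and_assoc))
    constructor
    · intro h g
      exact congrArg (fun η : X => (η.1 : G → ℂ) g) (h ⟨e, Subgroup.mem_zpowers e⟩)
    · intro h s
      have he : e χ = χ := Subtype.ext (Subtype.ext (funext h))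
      obtain ⟨s, hs⟩ := s
      obtain ⟨i, rfl⟩ := Subgroup.mem_zpowers_iff.mp hs
      exact Equiv.Perm.zpow_apply_eq_self_of_apply_eq_self he i
  rw [← hfix, Nat.even_iff, ← hmod]
  exact Nat.even_iff.mp (even_odd_degree_count M hM hev)

end Cfsg.Agent.S4550
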