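import Cfsg.Statements.S4552
import Cfsg.Agent.Lib.Block.HomocyclicTwo

set_option autoImplicit false
open Cfsg

namespace Cfsg.Agent.S4552

/-- Let B be a 2-block of the finite group G (relative to a maximal ideal M of the algebraic integers containing 2) whose defect group D is the direct product of two cyclic groups of the same order 2 ^ m, m ≥ 2. Then either B has 2-regular rank one and exactly 4 ^ m irreducible characters, or B has 2-regular rank three and exactly (4 ^ m + 8) / 3 irreducible characters. -/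
theorem result {G : Type*} [Group G] [Finite G] (M : Ideal Cfsg.AlgInt) (hM : Cfsg.IsPModular 2 M) (B : Set (Cfsg.IrrCharacter G)) (hB : Cfsg.IsPBlock M B) (D : Subgroup G) (hD : Cfsg.IsDefectGroup 2 M B D) (m : ℕ) (hm : 2 ≤ m) (hiso : Nonempty (D ≃* Multiplicative (ZMod (2 ^ m) × ZMod (2 ^ m)))) : (Cfsg.blockRank 2 B = 1 ∧ Nat.card B = 4 ^ m) ∨ (Cfsg.blockRank 2 B = 3 ∧ 3 * Nat.card B = 4 ^ m + 8) := by
  letI : Fintype G := Fintype.ofFinite G
  haveI : Fact (Nat.Prime 2) := ⟨Nat.prime_two⟩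
  obtain ⟨φ⟩ := hiso
  have hab : ∀ x ∈ D, ∀ y ∈ D, x * y = y * x := fun x hx y hy =>
    congrArg Subtype.val (φ.injective (by rw [map_mul, map_mul, mul_comm]) :
      (⟨x, hx⟩ : D) * ⟨y, hy⟩ = ⟨y, hy⟩ * ⟨x, hx⟩)
  have hcard : Nat.card D = 4 ^ m := by
    rw [Nat.card_congr (φ.toEquiv.trans Multiplicative.toAdd), Nat.card_prod, Nat.card_zmod,
      ← mul_pow]
    norm_num
  have h4 : 16 ≤ 4 ^ m :=
    le_trans (by norm_num) (Nat.pow_le_pow_right (by norm_num : 0 < 4) hm)
  have hD1 : D ≠ ⊥ := fun h => by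
    rw [h, Subgroup.card_bot] at hcard
    omega
  have hinv : Nat.card {x : D // x ^ 2 = 1} ≤ 4 := by
    haveI : NeZero (2 ^ m) := ⟨by positivity⟩
    have hval : ∀ x : D, x ^ 2 = 1 → (Multiplicative.toAdd (φ x)).1 + (Multiplicative.toAdd (φ x)).1 = 0 ∧
        (Multiplicative.toAdd (φ x)).2 + (Multiplicative.toAdd (φ x)).2 = 0 := fun x hx => by
      have h := congrArg (fun y => Multiplicative.toAdd (φ y)) hx
      simp only [map_pow, map_one, toAdd_one, toAdd_pow, two_nsmul] at h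
      exact ⟨congrArg Prod.fst h, congrArg Prod.snd h⟩
    refine (Nat.card_le_card_of_injective
      (fun x => ((⟨_, (hval x.1 x.2).1⟩, ⟨_, (hval x.1 x.2).2⟩) :
        {a : ZMod (2 ^ m) // a + a = 0} × {a : ZMod (2 ^ m) // a + a = 0})) ?_).trans ?_
    · intro x y h
      simp only [Prod.mk.injEq, Subtype.mk.injEq] at h
      exact Subtype.ext (φ.injective (Multiplicative.toAdd.injective (Prod.ext h.1 h.2)))
    · rw [Nat.card_prod]
      exact Nat.mul_le_mul Cfsg.Lib.Block.natCard_two_torsion_zmod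
        Cfsg.Lib.Block.natCard_two_torsion_zmod
  obtain ⟨e, he, hl, hk, hdvd⟩ :=
    Cfsg.Lib.Block.three_involutions_invariants hM hB hD hab hD1 hinv
  rw [hcard] at hk hdvd
  rcases he with rfl | rfl
  · exact Or.inl ⟨hl, by rw [hk, Nat.div_one]; omega⟩
  · obtain ⟨j, hj⟩ := hdvd
    exact Or.inr ⟨hl, by rw [hk, hj]; omega⟩

end Cfsg.Agent.S4552
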