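import Cfsg.Statements.S4558
import Cfsg.Agent.Lib.Block.Kulshammer
import Cfsg.Agent.Lib.Block.DefectLocal
import Cfsg.Agent.Lib.Block.RegInt

set_option autoImplicit false
open Cfsg

namespace Cfsg.Agent.S4558

/-- Let χ be a character of the finite group G and g an element of p-power order for the prime p. If χ g = 0, then p divides the degree of χ. -/
theorem result {G : Type*} [Group G] [Finite G] (p : ℕ) [Fact p.Prime] (χ : G → ℂ) (hχ : Cfsg.IsCharacter G χ) (g : G) (hg : ∃ j : ℕ, orderOf g = p ^ j) (h0 : χ g = 0) : p ∣ Cfsg.charDegree χ := by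
  haveI := Fintype.ofFinite G
  obtain ⟨M, hM⟩ := Cfsg.Lib.Block.exists_isPModular (Fact.out : p.Prime)
  obtain ⟨n, hn⟩ := hχ.exists_degree
  rw [Cfsg.Lib.Block.charDegree_eq_of_apply_one hn]
  have h := Cfsg.Lib.Block.charVal_sub_pReg_mem (p := p) hM hχ g
  rw [(Cfsg.Lib.Block.pReg_eq_one_iff g).2 hg, h0, hn, zero_sub] at h
  refine (Cfsg.Lib.Block.memLocalIdeal_natCast_iff hM n).1 ?_
  simpa using Cfsg.Lib.Block.memLocalIdeal_neg hM h

end Cfsg.Agent.S4558
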