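import Cfsg.Statements.S4561
import Cfsg.Agent.Lib.Char.WreathCentralType
import Cfsg.Agent.Lib.Solv.Schmidt

set_option autoImplicit false
universe u
open Cfsg

namespace Cfsg.Agent.S4561

open Cfsg.Lib.Char in
theorem centralTypeData_of_solvable : ∀ (c : ℕ) (G : Type u) [Group G] [Finite G],
    Nat.card G = c → Group.IsSolvable G → CentralTypeData G := by
  intro c
  induction c using Nat.strong_induction_on with
  | _ c ih =>
  intro G _ _ hc hsolv
  classical
  haveI := hsolv
  haveI := Fintype.ofFinite G
  rcases subsingleton_or_nontrivial G with hG | hG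
  · have h1 : Nat.card G = 1 := Nat.card_unique
    have hZ : Nat.card (Subgroup.center G) = 1 := Nat.card_unique
    refine ⟨G, inferInstance, inferInstance, ⟨_, isIrrCharacter_one⟩,
      fun h _ => Subsingleton.elim _ _, ?_, ⟨QuotientGroup.mk' _, fun a b _ => Subsingleton.elim _ _⟩,
      fun p hp => ⟨Iff.rfl, by rw [hZ, h1]⟩, by rw [hZ]; exact squarefree_one⟩
    simp [charDegree, show Subgroup.center G = ⊤ from Subsingleton.elim _ _]
  obtain ⟨N, hN, hp⟩ := Cfsg.Lib.Schmidt.exists_normal_prime_index (G := G)
  haveI := hN
  have hlt : Nat.card N < c := by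
    rw [← hc, ← N.card_mul_index]
    exact lt_mul_right Nat.card_pos hp.one_lt
  exact CentralTypeData.of_normal N hp (ih _ hlt N rfl inferInstance)

/-- For every finite solvable group G there is a finite group H with a faithful irreducible character χ whose degree squared equals the index of the centre Z(H) (so χ is fully ramified over the centre), such that G is isomorphic to a subgroup of H/Z(H), the primes dividing the orders of H, of Z(H) and of G are the same, and the order of Z(H) is squarefree. -/
theorem result {G : Type u} [Group G] [Finite G] (hsolv : Group.IsSolvable G) : ∃ (H : Type u) (_ : Group H) (_ : Finite H) (χ : Cfsg.IrrCharacter H), (∀ h : H, (χ : H → ℂ) h = (χ : H → ℂ) 1 → h = 1) ∧ (Cfsg.charDegree (χ : H → ℂ)) ^ 2 = (Subgroup.center H).index ∧ (∃ f : G →* H ⧸ Subgroup.center H, Function.Injective f) ∧ (∀ p : ℕ, p.Prime → ((p ∣ Nat.card H ↔ p ∣ Nat.card G) ∧ (p ∣ Nat.card (Subgroup.center H) ↔ p ∣ Nat.card G))) ∧ Squarefree (Nat.card (Subgroup.center H)) := by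
  exact centralTypeData_of_solvable (Nat.card G) G rfl hsolv

end Cfsg.Agent.S4561
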