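import Cfsg.Statements.S4563
import Cfsg.Agent.Lib.Char.RamifiedSylow
import Cfsg.Agent.Lib.Solv.SylowSystem
-- import your own Cfsg.Agent.* helpers here

set_option autoImplicit false
open Cfsg

namespace Cfsg.Agent.S4563

open Cfsg.Lib.Char Cfsg.Lib.Char.RamifiedSylow
open scoped ComplexConjugate

universe uH

theorem main {H : Type uH} [Group H] [Fintype H] (Z : Subgroup H) [Z.Normal] [Fintype Z]
    (χ : Cfsg.IrrCharacter H) (θ : Cfsg.IrrCharacter ↥Z) (e : ℕ) (he : e ^ 2 = Z.index)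
    (hχθ : ∀ z : ↥Z, (χ : H → ℂ) z = (e : ℂ) * (θ : ↥Z → ℂ) z) (K : Subgroup H) [K.Normal]
    [Fintype K] (hZK : Z ≤ K) (φ : ↥K → ℂ) (hφ : Cfsg.IsCharacter ↥K φ)
    (hind : Cfsg.indFun K φ = (χ : H → ℂ)) (p : ℕ) [Fact p.Prime] (P : Sylow p (H ⧸ K)) :
    ∃ M : Subgroup (H ⧸ K), Nat.card M * Nat.card P = Nat.card (H ⧸ K) := by
  classical
  have hp : p.Prime := Fact.out
  obtain ⟨Q, k, hZQ, hpQ, hk, hQmap, hrelQ, hQN, hfr⟩ := exists_setup Z K hZK P
  let N : Subgroup H := Subgroup.normalizer ((Q ⊓ K : Subgroup H) : Set H)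
  haveI : Fintype N := Fintype.ofFinite _
  let B : Subgroup N := (Q ⊓ K).subgroupOf N
  let Q' : Subgroup N := Q.subgroupOf N
  haveI : B.Normal := Subgroup.normal_in_normalizer
  haveI : Fintype B := Fintype.ofFinite _
  haveI : Fintype Q' := Fintype.ofFinite _
  haveI : Fintype Q := Fintype.ofFinite _
  haveI : (B.subgroupOf Q').Normal := Subgroup.Normal.subgroupOf inferInstance Q'
  haveI : Fintype (B.subgroupOf Q') := Fintype.ofFinite _
  have hBQ : B ≤ Q' := fun x hx => hx.1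
  let ι : Z →* B :=
    { toFun := fun z => ⟨⟨z, hQN (hZQ z.2)⟩, hZQ z.2, hZK z.2⟩
      map_one' := rfl
      map_mul' := fun _ _ => rfl }
  have he0 : e ≠ 0 := by
    rintro rfl
    exact Subgroup.index_ne_zero_of_finite (H := Z) he.symm
  have hθinv : ∀ (g : H) (z : Z),
      (θ : Z → ℂ) (MulAut.conjNormal g z) = (θ : Z → ℂ) z := by
    intro g z
    apply mul_left_cancel₀ (Nat.cast_ne_zero.mpr he0 : (e : ℂ) ≠ 0)
    rw [← hχθ, ← hχθ]
    exact χ.2.isCharacter.conj_invariant _ _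
  have hconjH : ∀ (g : H) (f : Z → ℂ),
      classInner (fun z => f (MulAut.conjNormal g z)) θ = classInner f θ := by
    intro g f
    have h := classInner_comp_equiv (MulAut.conjNormal g : MulAut Z) f (θ : Z → ℂ)
    simpa only [hθinv] using h
  have hconj : ∀ (g : N) (ψ : B → ℂ), IsIrrCharacter B ψ →
      classInner (fun z => conjTwist B ψ g (ι z)) θ = classInner (fun z => ψ (ι z)) θ :=
    fun g ψ _ => hconjH (g : H) (fun z => ψ (ι z))
  -- the multiplicity of `θ` in `φ`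
  obtain ⟨m, hm⟩ := (hφ.comp (Subgroup.inclusion hZK)).exists_nat_classInner θ.2.isCharacter
  have hem : e = K.index * m := by
    have e2 : (fun z : Z => (χ : H → ℂ) z) =
        (Nat.card K : ℂ)⁻¹ •
          ∑ g : H, (fun z : Z => φ (Subgroup.inclusion hZK (MulAut.conjNormal g z))) := by
      funext z
      have h := congrFun (indFun_res K φ) (Subgroup.inclusion hZK z)
      rw [hind] at h
      simp only [Pi.smul_apply, Finset.sum_apply] at h ⊢
      exact h
    have e1 : classInner (fun z : Z => (χ : H → ℂ) z) θ = e := by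
      rw [show (fun z : Z => (χ : H → ℂ) z) = (e : ℂ) • (θ : Z → ℂ) from funext hχθ,
        classInner_smul_left, classInner_irr_self θ.2, mul_one]
    have e3 : ∀ g : H, classInner (fun z : Z =>
        φ (Subgroup.inclusion hZK (MulAut.conjNormal g z))) θ = m := fun g =>
      (hconjH g fun z => φ (Subgroup.inclusion hZK z)).trans hm
    rw [e2, classInner_smul_left, classInner_sum_left, Finset.sum_congr rfl fun g _ => e3 g,
      Finset.sum_const, Finset.card_univ, nsmul_eq_mul, ← mul_assoc, ← Nat.card_eq_fintype_card, card_inv_mul_card] at e1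
    exact_mod_cast e1.symm
  -- constituents on `B`
  let jK : B →* K :=
    { toFun := fun b => ⟨((b : N) : H), b.2.2⟩
      map_one' := rfl
      map_mul' := fun _ _ => rfl }
  have hf := hφ.comp jK
  choose w hw using fun ψ : IrrCharacter B => hf.exists_nat_classInner ψ.2.isCharacter
  choose a ha using fun ψ : IrrCharacter B =>
    (ψ.2.isCharacter.comp ι).exists_nat_classInner θ.2.isCharacter
  have hwa : m = ∑ ψ : IrrCharacter B, w ψ * a ψ := by
    have h := classInner_comp_expand hf.isClassFunction ι (θ : Z → ℂ)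
    have h' : (m : ℂ) = ∑ ψ : IrrCharacter B, ((w ψ * a ψ : ℕ) : ℂ) := by
      rw [← hm]
      refine h.trans (Finset.sum_congr rfl fun ψ _ => ?_)
      push_cast
      rw [← hw ψ, ← ha ψ]
    exact_mod_cast h'
  let eQ : Q' ≃* Q := Subgroup.subgroupOfEquivOfLe hQN
  have huniq : ∀ ω₁ ω₂ : Q' → ℂ, IsIrrCharacter Q' ω₁ → IsIrrCharacter Q' ω₂ →
      classInner (fun z => ω₁ (Subgroup.inclusion hBQ (ι z))) θ ≠ 0 →
      classInner (fun z => ω₂ (Subgroup.inclusion hBQ (ι z))) θ ≠ 0 →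
      ω₁ = ω₂ ∧ ∀ d : ℕ, classInner (fun z => ω₁ (Subgroup.inclusion hBQ (ι z))) θ = d →
        d * d = p ^ k := by
    intro ω₁ ω₂ h₁ h₂ e₁ e₂
    obtain ⟨h, hd⟩ := unique_over Z χ θ e he hχθ hp Q hZQ hk hpQ
      (fun x => ω₁ (eQ.symm x)) (fun x => ω₂ (eQ.symm x))
      (isIrrCharacter_comp_equiv eQ.symm h₁) (isIrrCharacter_comp_equiv eQ.symm h₂) e₁ e₂
    refine ⟨?_, hd⟩
    funext x
    simpa using congrFun h (eQ x)
  obtain ⟨j, hj⟩ := IsPGroup.iff_card.mp P.2
  have hrp : (B.subgroupOf Q').index = p ^ j := by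
    change B.relIndex Q' = _
    have hBeq : B = Q' ⊓ K.subgroupOf N := rfl
    have hker : ((QuotientGroup.mk' K).comp N.subtype).ker = K.subgroupOf N := by
      ext x
      simp [Subgroup.mem_subgroupOf]
    rw [← hj, hBeq, Subgroup.inf_relIndex_left, ← hker, Subgroup.relIndex_ker, ← Subgroup.map_map,
      Subgroup.map_subgroupOf_eq_of_le hQN, hQmap]
  -- dichotomy
  have key : ∀ ψ : IrrCharacter B, a ψ ≠ 0 →
      (inertia B (ψ : B → ℂ)).relIndex Q' = B.relIndex Q' ∨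
        ∃ d, d * d = p ^ k ∧ p * d ∣ p ^ j * a ψ := by
    intro ψ hψ
    let ι' : Z →* B.subgroupOf Q' :=
      (Subgroup.subgroupOfEquivOfLe hBQ).symm.toMonoidHom.comp ι
    have hconj' : ∀ (g : Q') (ξ : B.subgroupOf Q' → ℂ), IsIrrCharacter (B.subgroupOf Q') ξ →
        classInner (fun z => conjTwist (B.subgroupOf Q') ξ g (ι' z)) θ =
          classInner (fun z => ξ (ι' z)) θ :=
      fun g ξ _ => hconjH ((g : N) : H) (fun z => ξ (ι' z))
    obtain ⟨c, d, ω, hω, hd, hd0, hcd, hct⟩ := exists_mult (B.subgroupOf Q') θ.2.isCharacter ι'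
      hconj' (fun ω₁ ω₂ h₁ h₂ e₁ e₂ => (huniq ω₁ ω₂ h₁ h₂ e₁ e₂).1)
      (isIrrCharacter_resTo B ψ.2 hBQ) hψ (ha ψ)
    have hdd := (huniq ω ω hω hω (hd.trans_ne (Nat.cast_ne_zero.mpr hd0))
      (hd.trans_ne (Nat.cast_ne_zero.mpr hd0))).2 d hd
    rw [hrp] at hcd hct
    by_cases hc : c = 1
    · left
      rw [hc, one_mul, one_mul] at hct
      rw [relIndex_inertia B Q' hBQ, hct]
      exact hrp.symm
    · right
      refine ⟨d, hdd, hcd ▸ Nat.mul_dvd_mul_right ?_ d⟩
      obtain ⟨i, -, hi⟩ := (Nat.dvd_prime_pow hp).mp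
        (show c ∣ p ^ j from ⟨c * (inertia (B.subgroupOf Q') (resTo B (ψ : B → ℂ) Q')).index,
          by rw [← hct, mul_assoc]⟩)
      rw [hi]
      exact dvd_pow_self p fun h0 => hc (by rw [hi, h0, pow_zero])
  obtain ⟨ψ, hψ, hgood⟩ : ∃ ψ : IrrCharacter B, a ψ ≠ 0 ∧
      (inertia B (ψ : B → ℂ)).relIndex Q' = B.relIndex Q' := by
    by_contra! hnone
    have hm0 : m ≠ 0 := fun h => he0 (by rw [hem, h, mul_zero])
    obtain ⟨ψ₀, -, hψ₀⟩ := Finset.exists_ne_zero_of_sum_ne_zero (hwa ▸ hm0)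
    obtain ⟨d₀, hd₀, -⟩ := (key ψ₀ (right_ne_zero_of_mul hψ₀)).resolve_left
      (hnone ψ₀ (right_ne_zero_of_mul hψ₀))
    have hdvd : p * d₀ ∣ p ^ j * m := by
      rw [hwa, Finset.mul_sum]
      refine Finset.dvd_sum fun ψ _ => ?_
      by_cases h0 : a ψ = 0
      · simp [h0]
      obtain ⟨d, hd, hdiv⟩ := (key ψ h0).resolve_left (hnone ψ h0)
      rw [Nat.mul_self_inj.mp (hd₀.trans hd.symm), mul_left_comm]
      exact hdiv.mul_left _
    have h1 : p * d₀ ∣ e := by
      refine hdvd.trans ?_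
      rw [hem]
      refine Nat.mul_dvd_mul_right ?_ m
      rw [← hj, Subgroup.index_eq_card]
      exact Subgroup.card_subgroup_dvd_card _
    have h2 : (p * d₀) ^ 2 ∣ p ^ k * Q.index := by
      rw [← hk, Subgroup.relIndex_mul_index hZQ, ← he]
      exact pow_dvd_pow_of_dvd h1 2
    rw [← hd₀, show (p * d₀) ^ 2 = (d₀ * d₀) * (p * p) by ring] at h2
    have h3 := Nat.dvd_of_mul_dvd_mul_left
      (Nat.pos_of_ne_zero fun h => (pow_pos hp.pos k).ne' (hd₀.symm.trans h)) h2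
    exact hpQ ((dvd_mul_right p p).trans h3)
  have hidx := index_inertia_of_relIndex θ.2.isCharacter B Q' hBQ ι
    (fun g ξ hξ h => by rwa [hconj g ξ hξ])
    (fun ω₁ ω₂ h₁ h₂ e₁ e₂ => (huniq ω₁ ω₂ h₁ h₂ e₁ e₂).1) ψ.2
    ((ha ψ).trans_ne (Nat.cast_ne_zero.mpr hψ)) hgood
  exact exists_index_eq K P Q hQmap hrelQ hQN hfr (inertia B (ψ : B → ℂ))
    (le_inertia B ψ.2.isClassFunction) hidx

/-- Let χ be an irreducible character of the finite group H that is fully ramified over the normal subgroup Z: the restriction of χ to Z is e times an irreducible character of Z with e ^ 2 equal to the index of Z. If K is a proper normal subgroup of H containing Z and χ is induced from a character of K, then H/K is solvable; in particular, if K is solvable then so is H. -/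
theorem result {H : Type*} [Group H] [Fintype H] (Z : Subgroup H) [Z.Normal] (χ : Cfsg.IrrCharacter H) (hfr : ∃ (θ : Cfsg.IrrCharacter ↥Z) (e : ℕ), e ^ 2 = Z.index ∧ ∀ z : ↥Z, (χ : H → ℂ) z = (e : ℂ) * (θ : ↥Z → ℂ) z) (K : Subgroup H) [K.Normal] [Fintype K] (hZK : Z ≤ K) (hK : K ≠ ⊤) (φ : ↥K → ℂ) (hφ : Cfsg.IsCharacter ↥K φ) (hind : Cfsg.indFun K φ = (χ : H → ℂ)) : Group.IsSolvable (H ⧸ K) ∧ (Group.IsSolvable ↥K → Group.IsSolvable H) := by
  classical
  obtain ⟨θ, e, he, hχθ⟩ := hfr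
  haveI : Fintype Z := Fintype.ofFinite _
  have hsol : Group.IsSolvable (H ⧸ K) := by
    refine Cfsg.Lib.SylowSystem.solvable_of_complements fun p hp => ?_
    haveI : Fact p.Prime := ⟨hp⟩
    obtain ⟨P⟩ : Nonempty (Sylow p (H ⧸ K)) := inferInstance
    obtain ⟨M, hM⟩ := main Z χ θ e he hχθ K hZK φ hφ hind p P
    refine ⟨M, ?_⟩
    rw [← P.card_eq_multiplicity]
    refine Nat.eq_of_mul_eq_mul_left (Nat.card_pos (α := M)) ?_
    rw [M.card_mul_index, hM]
  refine ⟨hsol, fun hKs => ?_⟩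
  haveI := hKs
  haveI := hsol
  exact solvable_of_ker_le_range K.subtype (QuotientGroup.mk' K) (by rw [QuotientGroup.ker_mk', Subgroup.range_subtype])

end Cfsg.Agent.S4563
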