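import Cfsg.Statements.S4565
import Cfsg.Agent.Lib.Char.Extension
import Cfsg.Agent.Lib.Char.Gallagher
-- import your own Cfsg.Agent.* helpers here

set_option autoImplicit false
open Cfsg

namespace Cfsg.Agent.S4565

open Cfsg.Lib.Char
open scoped ComplexConjugate

section

variable {G : Type*} [Group G] [Fintype G] (N : Subgroup G) [N.Normal] [Fintype N]

theorem coset_sums {Γ : G → ℂ} (hΓ : IsCharacter G Γ) :
    (∑ n : N, Γ n = 0 → ∀ g, ∑ n : N, Γ ((n : G) * g) = 0) ∧
    (∑ n : N, Γ n = Nat.card N → classInner Γ (fun _ => 1) = 1 →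
      ∀ g, ∑ n : N, Γ ((n : G) * g) = Nat.card N) := by
  classical
  have hN0 : (Nat.card N : ℂ) ≠ 0 := Nat.cast_ne_zero.mpr Nat.card_pos.ne'
  choose m hm using fun φ : IrrCharacter G => hΓ.exists_nat_classInner φ.2.isCharacter
  choose k hk using fun φ : IrrCharacter G =>
    (φ.2.isCharacter.comp N.subtype).exists_nat_classInner
      (isCharacter_one (G := N))
  have e := eq_sum_classInner hΓ.isClassFunction
  simp only [hm] at e
  have hsum : ∀ g, ∑ n : N, Γ ((n : G) * g) = (Nat.card N : ℂ) *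
      ∑ φ : IrrCharacter G, ((m φ * k φ : ℕ) : ℂ) * ((φ : G → ℂ) g / (φ : G → ℂ) 1) := by
    intro g
    have h1 : ∀ n : N, Γ ((n : G) * g) =
        ∑ φ : IrrCharacter G, (m φ : ℂ) * (φ : G → ℂ) ((n : G) * g) := fun n => by
      have := congrFun e ((n : G) * g)
      simpa using this
    simp only [h1]
    rw [Finset.sum_comm, Finset.mul_sum]
    refine Finset.sum_congr rfl fun φ _ => ?_
    have h2 : classInner (fun n : N => (φ : G → ℂ) n) (fun _ => 1) = k φ := hk φ
    rw [← Finset.mul_sum, sum_coset_char N φ.2 g, h2]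
    push_cast
    ring
  have hone : ∑ n : N, Γ n = (Nat.card N : ℂ) *
      ∑ φ : IrrCharacter G, ((m φ * k φ : ℕ) : ℂ) := by
    have h := hsum 1
    simp only [mul_one] at h
    rw [h]
    congr 1
    exact Finset.sum_congr rfl fun φ _ => by rw [div_self φ.2.apply_one_ne_zero, mul_one]
  constructor
  · intro h0 g
    rw [hone, mul_eq_zero] at h0
    have h0' := h0.resolve_left hN0
    rw [← Nat.cast_sum, Nat.cast_eq_zero, Finset.sum_eq_zero_iff] at h0'
    rw [hsum]
    simp [fun φ => h0' φ (Finset.mem_univ _)]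
  · intro h1 hc g
    rw [hone, mul_eq_left₀ hN0, ← Nat.cast_sum, Nat.cast_eq_one] at h1
    let φ₀ : IrrCharacter G := ⟨fun _ => 1, isIrrCharacter_one⟩
    have hm0 : m φ₀ = 1 := by
      have := hm φ₀
      rw [hc] at this
      exact_mod_cast this.symm
    have hk0 : k φ₀ = 1 := by
      have := hk φ₀
      change classInner (fun _ : N => (1 : ℂ)) (fun _ => 1) = _ at this
      rw [classInner_irr_self isIrrCharacter_one] at this
      exact_mod_cast this.symm
    have hz : ∀ φ : IrrCharacter G, φ ≠ φ₀ → m φ * k φ = 0 := by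
      intro φ hφ
      by_contra hne
      have hp : ∑ ψ ∈ ({φ₀, φ} : Finset (IrrCharacter G)), m ψ * k ψ ≤ ∑ ψ, m ψ * k ψ :=
        Finset.sum_le_sum_of_subset (Finset.subset_univ _)
      rw [Finset.sum_pair (Ne.symm hφ), h1, hm0, hk0] at hp
      omega
    rw [hsum, Finset.sum_eq_single φ₀]
    · simp [hm0, hk0, φ₀]
    · intro φ _ hφ
      simp [hz φ hφ]
    · simp

end

theorem main {H : Type*} [Group H] [Finite H] (Z : Subgroup H) [Z.Normal] (χ : Cfsg.IrrCharacter H)
    (θ : Cfsg.IrrCharacter ↥Z) (e : ℕ) (he : e ^ 2 = Z.index)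
    (hχθ : ∀ z : ↥Z, (χ : H → ℂ) z = (e : ℂ) * (θ : ↥Z → ℂ) z)
    (x : H) (hxZ : x ∉ Z)
    (hcent : ∀ h : H, Commute (h : H ⧸ Z) (x : H ⧸ Z) →
      (h : H ⧸ Z) ∈ Subgroup.zpowers (x : H ⧸ Z)) : False := by
  classical
  haveI := Fintype.ofFinite H
  haveI : Fintype Z := Fintype.ofFinite _
  have he0 : (e : ℂ) ≠ 0 := by
    rw [Nat.cast_ne_zero]
    rintro rfl
    exact Subgroup.index_ne_zero_of_finite (H := Z) he.symm
  have hH0 : (Nat.card H : ℂ) ≠ 0 := card_cast_ne_zero
  have hnormθ : ∑ z : Z, (θ : Z → ℂ) z * conj ((θ : Z → ℂ) z) = Nat.card Z := by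
    have h := classInner_irr_self θ.2
    rw [classInner, inv_mul_eq_iff_eq_mul₀ card_cast_ne_zero, mul_one] at h
    exact h
  have hnormχ : ∑ y : H, (χ : H → ℂ) y * conj ((χ : H → ℂ) y) = Nat.card H := by
    have h := classInner_irr_self χ.2
    rw [classInner, inv_mul_eq_iff_eq_mul₀ card_cast_ne_zero, mul_one] at h
    exact h
  -- the character vanishes off `Z`
  have hcard : ((e : ℂ) * e) * (Nat.card Z : ℂ) = Nat.card H := by
    rw [← Z.card_mul_index, ← he]
    push_cast
    ring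
  have hsplit : ∀ F : H → ℂ,
      ∑ z : Z, F z + ∑ y ∈ Finset.univ.filter (fun y : H => y ∉ Z), F y = ∑ y, F y := by
    intro F
    rw [← Finset.sum_filter_add_sum_filter_not Finset.univ (fun y : H => y ∈ Z) F]
    congr 1
    refine (Finset.sum_subtype (Finset.univ.filter (fun y : H => y ∈ Z)) ?_ F).symm
    intro y; simp
  have hoff : ∀ y, y ∉ Z → (χ : H → ℂ) y = 0 := by
    have h1 := hsplit fun y => (χ : H → ℂ) y * conj ((χ : H → ℂ) y)
    have h2 : ∑ z : Z, (χ : H → ℂ) z * conj ((χ : H → ℂ) z) = Nat.card H := by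
      rw [← hcard, ← hnormθ, Finset.mul_sum]
      refine Finset.sum_congr rfl fun z _ => ?_
      rw [hχθ z, map_mul, Complex.conj_natCast]
      ring
    rw [hnormχ, h2, add_eq_left] at h1
    intro y hy
    have h3 := congrArg Complex.re h1
    simp only [Complex.re_sum, Complex.mul_conj, Complex.ofReal_re, Complex.zero_re] at h3
    exact Complex.normSq_eq_zero.mp
      ((Finset.sum_eq_zero_iff_of_nonneg fun i _ => Complex.normSq_nonneg _).mp h3 y
        (by simp [hy]))
  have hψθ : ∀ ψ : H → ℂ, IsIrrCharacter H ψ → ψ ≠ (χ : H → ℂ) →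
      ∑ z : Z, (θ : Z → ℂ) z * conj (ψ z) = 0 := by
    intro ψ hψ hne
    have h := classInner_irr_ne χ.2 hψ hne.symm
    rw [classInner, mul_eq_zero, inv_eq_zero] at h
    have h' := h.resolve_left hH0
    rw [← hsplit, Finset.sum_eq_zero (s := Finset.univ.filter _)] at h'
    · rw [add_zero] at h'
      simp only [hχθ, mul_assoc, ← Finset.mul_sum] at h'
      exact (mul_eq_zero.mp h').resolve_left he0
    · intro y hy
      rw [hoff y (Finset.mem_filter.mp hy).2, zero_mul]
  -- the preimage of the cyclic subgroup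
  let U : Subgroup H := (Subgroup.zpowers (x : H ⧸ Z)).comap (QuotientGroup.mk' Z)
  have hZU : Z ≤ U := by
    intro z hz
    change (z : H ⧸ Z) ∈ Subgroup.zpowers (x : H ⧸ Z)
    rw [(QuotientGroup.eq_one_iff z).mpr hz]
    exact one_mem _
  have hxU : x ∈ U := Subgroup.mem_zpowers _
  let N : Subgroup U := Z.subgroupOf U
  haveI hNn : N.Normal := by
    constructor
    intro a ha g
    exact Subgroup.Normal.conj_mem (inferInstance : Z.Normal) (a : H) ha (g : H)
  haveI : Fintype N := Fintype.ofFinite _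
  have hcyc : IsCyclic (U ⧸ N) := by
    refine ⟨⟨((⟨x, hxU⟩ : U) : U ⧸ N), fun q => ?_⟩⟩
    obtain ⟨u, rfl⟩ := QuotientGroup.mk_surjective q
    obtain ⟨i, hi⟩ := Subgroup.mem_zpowers_iff.mp (show ((u : H) : H ⧸ Z) ∈ Subgroup.zpowers (x : H ⧸ Z) from u.2)
    refine ⟨i, ?_⟩
    change ((⟨x, hxU⟩ : U) : U ⧸ N) ^ i = _
    rw [← QuotientGroup.mk_zpow, QuotientGroup.eq] at hi ⊢
    exact hi
  let eN : N ≃* Z := Subgroup.subgroupOfEquivOfLe hZU
  obtain ⟨n, σθ, hσirr, hσθ⟩ := θ.2
  let σ : Representation ℂ N (Fin n → ℂ) := σθ.comp eN.toMonoidHom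
  have hσirr' : IsIrrCharacter N σ.character :=
    IsIrrCharacter.comp_surjective ⟨n, σθ, hσirr, rfl⟩ eN.toMonoidHom eN.surjective
  haveI : σ.IsIrreducible := (isIrreducible_iff_isIrrCharacter σ).mpr hσirr'
  have hσval : ∀ a : N, σ.character a = (θ : Z → ℂ) (eN a) := fun a => congrFun hσθ (eN a)
  have hinv : ∀ (g : U) (a : N), σ.character (MulAut.conjNormal g a) = σ.character a := by
    intro g a
    rw [hσval, hσval]
    apply mul_left_cancel₀ he0
    rw [← hχθ, ← hχθ]
    exact χ.2.isCharacter.conj_invariant _ _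
  obtain ⟨ρ, hρ⟩ := exists_extension_of_cyclic σ hinv hcyc
  let η : U → ℂ := ρ.character
  haveI := isIrreducible_of_extension hρ
  have hη : IsIrrCharacter U η := isIrrCharacter_character ρ
  have hηN : ∀ a : N, η (a : U) = (θ : Z → ℂ) (eN a) := fun a => by
    rw [← hσval]
    exact congrArg (LinearMap.trace ℂ _) (hρ a)
  -- the class function
  let G₀ : H → ℂ := fun y =>
    if hy : y ∈ U then (if (y : H ⧸ Z) = (x : H ⧸ Z) then η ⟨y, hy⟩ else 0) else 0
  let f : H → ℂ := fun y => ∑ h : H, G₀ (h⁻¹ * y * h)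
  have hf : IsClassFunction H f := by
    intro g k
    refine Fintype.sum_equiv (Equiv.mulLeft k⁻¹) _ _ fun h => ?_
    simp only [Equiv.coe_mulLeft]
    congr 1
    group
  have hG₀ : ∀ z : Z, ∀ hz : (z : H) * x ∈ U, G₀ ((z : H) * x) = η ⟨(z : H) * x, hz⟩ := by
    intro z hz
    have : (((z : H) * x : H) : H ⧸ Z) = (x : H ⧸ Z) := by
      rw [QuotientGroup.mk_mul, (QuotientGroup.eq_one_iff _).mpr z.2, one_mul]
    simp [G₀, hz, this]
  have hzxU : ∀ z : Z, (z : H) * x ∈ U := fun z => mul_mem (hZU z.2) hxU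
  have horth : ∀ ψ : H → ℂ, IsIrrCharacter H ψ →
      ∑ z : Z, η ⟨(z : H) * x, hzxU z⟩ * conj (ψ ((z : H) * x)) = 0 := by
    intro ψ hψ
    by_cases hne : ψ = (χ : H → ℂ)
    · refine Finset.sum_eq_zero fun z _ => ?_
      rw [hne, hoff _ ((mul_mem_cancel_left z.2).not.mpr hxZ), map_zero, mul_zero]
    · have hΓ : IsCharacter U (η * fun u : U => conj (ψ (u : H))) :=
        hη.isCharacter.mul (hψ.isCharacter.comp U.subtype).conjFn
      have h0 : ∑ a : N, (η * fun u : U => conj (ψ (u : H))) (a : U) = 0 := by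
        rw [← hψθ ψ hψ hne]
        refine Fintype.sum_equiv eN.toEquiv _ _ fun a => ?_
        rw [Pi.mul_apply, hηN a]
        rfl
      have h1 := (coset_sums N hΓ).1 h0 ⟨x, hxU⟩
      rw [← h1]
      exact (Fintype.sum_equiv eN.toEquiv _ _ fun a => rfl).symm
  have hf0 : f = 0 := by
    refine eq_zero_of_orthogonal hf fun ψ hψ => ?_
    rw [classInner]
    simp only [f, Finset.sum_mul]
    rw [Finset.sum_comm]
    have hconj : ∀ h : H, ∑ y, G₀ (h⁻¹ * y * h) * conj (ψ y) = ∑ y, G₀ y * conj (ψ y) := by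
      intro h
      refine Fintype.sum_equiv (MulAut.conj h⁻¹).toEquiv _ _ fun y => ?_
      simp only [MulEquiv.toEquiv_eq_coe, EquivLike.coe_coe, MulAut.conj_apply, inv_inv]
      congr 2
      rw [show h⁻¹ * y * h = h⁻¹ * y * (h⁻¹)⁻¹ by rw [inv_inv],
        hψ.isCharacter.conj_invariant]
    have hzero : ∑ y, G₀ y * conj (ψ y) = 0 := by
      rw [← horth ψ hψ]
      rw [← Finset.sum_subset (s₁ := Finset.univ.image fun z : Z => (z : H) * x)
        (Finset.subset_univ _) (f := fun y => G₀ y * conj (ψ y))]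
      · rw [Finset.sum_image fun a _ b _ hab => Subtype.ext (mul_right_cancel hab)]
        exact Finset.sum_congr rfl fun z _ => by rw [hG₀ z (hzxU z)]
      · intro y _ hy
        have : G₀ y = 0 := by
          simp only [G₀]
          split_ifs with h1 h2
          · refine absurd (Finset.mem_image.mpr ?_) hy
            refine ⟨⟨y * x⁻¹, ?_⟩, Finset.mem_univ _, inv_mul_cancel_right y x⟩
            rw [← QuotientGroup.eq_one_iff, QuotientGroup.mk_mul, h2, QuotientGroup.mk_inv,
              mul_inv_cancel]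
          all_goals rfl
        rw [this, zero_mul]
    simp [hconj, hzero]
  -- a nonzero value
  have hex : ∃ z : Z, η ⟨(z : H) * x, hzxU z⟩ ≠ 0 := by
    by_contra! hall
    have hΓ : IsCharacter U (η * fun u : U => conj (η u)) := hη.isCharacter.mul hη.isCharacter.conjFn
    have h0 : ∑ a : N, (η * fun u : U => conj (η u)) (a : U) = Nat.card N := by
      rw [Nat.card_congr eN.toEquiv, ← hnormθ]
      refine Fintype.sum_equiv eN.toEquiv _ _ fun a => ?_
      rw [Pi.mul_apply, hηN a]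
      rfl
    have h1 : classInner (η * fun u : U => conj (η u)) (fun _ => 1) = 1 := by
      simpa [classInner] using classInner_irr_self hη
    have h2 := (coset_sums N hΓ).2 h0 h1 ⟨x, hxU⟩
    rw [Finset.sum_eq_zero] at h2
    · exact (Nat.cast_ne_zero.mpr Nat.card_pos.ne') h2.symm
    · intro a _
      have := hall (eN a)
      rw [Pi.mul_apply]
      rw [show ((a : U) * ⟨x, hxU⟩ : U) = ⟨((eN a : Z) : H) * x, hzxU _⟩ from rfl, this, zero_mul]
  obtain ⟨z, hz⟩ := hex
  have hfz := congrFun hf0 ((z : H) * x)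
  have hval : f ((z : H) * x) = (Nat.card U : ℂ) * η ⟨(z : H) * x, hzxU z⟩ := by
    have hy : (((z : H) * x : H) : H ⧸ Z) = (x : H ⧸ Z) := by
      rw [QuotientGroup.mk_mul, (QuotientGroup.eq_one_iff _).mpr z.2, one_mul]
    have hoffU : ∀ h : H, h ∉ U → G₀ (h⁻¹ * ((z : H) * x) * h) = 0 := by
      intro h hh
      simp only [G₀]
      split_ifs with h1 h2
      · refine absurd (hcent h ?_) hh
        rw [QuotientGroup.mk_mul, QuotientGroup.mk_mul, QuotientGroup.mk_inv, hy] at h2
        exact (show (x : H ⧸ Z) * h = h * x from by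
          rw [← inv_mul_eq_iff_eq_mul, ← mul_assoc]; exact h2).symm
      all_goals rfl
    simp only [f]
    rw [← Finset.sum_filter_add_sum_filter_not Finset.univ (fun h : H => h ∈ U),
      Finset.sum_eq_zero (s := Finset.univ.filter fun h : H => ¬ h ∈ U), add_zero]
    · rw [Finset.sum_congr rfl (g := fun _ => η ⟨(z : H) * x, hzxU z⟩), Finset.sum_const,
        nsmul_eq_mul]
      · congr 2
        rw [Nat.card_eq_fintype_card, Fintype.card_subtype]
      · intro h hh
        have hhU : h ∈ U := (Finset.mem_filter.mp hh).2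
        have hcm : Commute (h : H ⧸ Z) (x : H ⧸ Z) := by
          obtain ⟨i, hi⟩ := Subgroup.mem_zpowers_iff.mp (show (h : H ⧸ Z) ∈ Subgroup.zpowers (x : H ⧸ Z) from hhU)
          rw [← hi]
          exact (Commute.refl _).zpow_left i
        have hU' : h⁻¹ * ((z : H) * x) * h ∈ U := mul_mem (mul_mem (inv_mem hhU) (hzxU z)) hhU
        have hq : ((h⁻¹ * ((z : H) * x) * h : H) : H ⧸ Z) = (x : H ⧸ Z) := by
          rw [QuotientGroup.mk_mul, QuotientGroup.mk_mul, QuotientGroup.mk_inv, hy, mul_assoc,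
            ← hcm.eq, inv_mul_cancel_left]
        simp only [G₀, dif_pos hU', if_pos hq]
        have h3 := hη.isClassFunction ⟨(z : H) * x, hzxU z⟩ (⟨h, hhU⟩⁻¹ : U)
        rw [inv_inv] at h3
        exact h3
    · intro h hh
      exact hoffU h (Finset.mem_filter.mp hh).2
  rw [hval, Pi.zero_apply, mul_eq_zero] at hfz
  exact hfz.elim (Nat.cast_ne_zero.mpr Nat.card_pos.ne') hz

/-- Let χ be an irreducible character of the finite group H that is fully ramified over the normal subgroup Z: the restriction of χ to Z is e times an irreducible character of Z with e ^ 2 equal to the index of Z. If Z ≠ H, then H/Z has no cyclic subgroup that is its own centralizer. -/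
theorem result {H : Type*} [Group H] [Finite H] (Z : Subgroup H) [Z.Normal] (χ : Cfsg.IrrCharacter H) (hfr : ∃ (θ : Cfsg.IrrCharacter ↥Z) (e : ℕ), e ^ 2 = Z.index ∧ ∀ z : ↥Z, (χ : H → ℂ) z = (e : ℂ) * (θ : ↥Z → ℂ) z) (hZ : Z ≠ ⊤) (C : Subgroup (H ⧸ Z)) (hC : IsCyclic C) : Subgroup.centralizer (C : Set (H ⧸ Z)) ≠ C := by
  intro hcen
  obtain ⟨θ, e, he, hχθ⟩ := hfr
  obtain ⟨c, hc⟩ := hC.exists_generator
  obtain ⟨x, hx⟩ := QuotientGroup.mk_surjective (c : H ⧸ Z)
  have hCx : C = Subgroup.zpowers (x : H ⧸ Z) := by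
    rw [hx]
    refine le_antisymm (fun y hy => ?_) (Subgroup.zpowers_le.mpr c.2)
    obtain ⟨i, hi⟩ := Subgroup.mem_zpowers_iff.mp (hc ⟨y, hy⟩)
    exact ⟨i, congrArg Subtype.val hi⟩
  refine main Z χ θ e he hχθ x (fun hxZ => hZ ?_) (fun h hh => ?_)
  · rw [(QuotientGroup.eq_one_iff x).mpr hxZ, Subgroup.zpowers_one_eq_bot] at hCx
    subst hCx
    rw [Subgroup.eq_top_iff']
    intro y
    rw [← QuotientGroup.eq_one_iff, ← Subgroup.mem_bot, ← hcen, Subgroup.mem_centralizer_iff]
    intro a ha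
    rw [Subgroup.mem_bot.mp ha, one_mul, mul_one]
  · rw [← hCx, ← hcen, Subgroup.mem_centralizer_iff]
    intro a ha
    rw [hCx] at ha
    obtain ⟨i, rfl⟩ := Subgroup.mem_zpowers_iff.mp ha
    exact ((hh.zpow_right i).eq).symm

end Cfsg.Agent.S4565
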