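import Cfsg.Statements.S4566
import Cfsg.Agent.Lib.Block.CentralDefect
import Cfsg.Agent.Lib.Char.Clifford

set_option autoImplicit false
open Cfsg

namespace Cfsg.Agent.S4566

/-- Let N be a central subgroup of the finite group G, ψ a faithful irreducible (hence degree-one) character of N, and χ an irreducible character of G whose restriction to N contains ψ. If g ∈ G and some x ∈ G has commutator x⁻¹ g⁻¹ x g in N but different from 1, then χ g = 0. -/
theorem result {G : Type*} [Group G] [Fintype G] (N : Subgroup G) [Fintype N] (hN : N ≤ Subgroup.center G) (ψ : Cfsg.IrrCharacter ↥N) (hfaith : ∀ n : ↥N, (ψ : ↥N → ℂ) n = (ψ : ↥N → ℂ) 1 → n = 1) (χ : Cfsg.IrrCharacter G) (hover : Cfsg.classInner (fun n : ↥N => (χ : G → ℂ) n) (ψ : ↥N → ℂ) ≠ 0) (g x : G) (hcomm : x⁻¹ * g⁻¹ * x * g ∈ N) (hne : x⁻¹ * g⁻¹ * x * g ≠ 1) : (χ : G → ℂ) g = 0 := by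
  classical
  set z := x⁻¹ * g⁻¹ * x * g with hz
  haveI : N.Normal := ⟨fun a ha b => by
    rw [Subgroup.mem_center_iff.1 (hN ha) b, mul_inv_cancel_right]; exact ha⟩
  obtain ⟨c, -, hc⟩ := Cfsg.Lib.Block.exists_central_scalar χ (hN hcomm)
  have hconj : (χ : G → ℂ) g = (χ : G → ℂ) (x⁻¹ * g * x) := by
    have := χ.2.isClassFunction g x⁻¹
    rw [inv_inv] at this
    exact this.symm
  have e : (χ : G → ℂ) g = c * (χ : G → ℂ) g := by
    conv_lhs => rw [show g = x⁻¹ * g * x * z by rw [hz]; group]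
    rw [Subgroup.mem_center_iff.1 (hN hcomm) (x⁻¹ * g * x), hc, ← hconj]
  by_contra h0
  have hc1 : c = 1 := by
    have h2 : c * (χ : G → ℂ) g = 1 * (χ : G → ℂ) g := by rw [← e, one_mul]
    exact mul_right_cancel₀ h0 h2
  have hz1 : (χ : G → ℂ) z = (χ : G → ℂ) 1 := by
    have := hc 1
    rwa [mul_one, hc1, one_mul] at this
  have hres := Cfsg.Lib.Char.clifford_res N χ.2 ψ.2 hover
  have horb : Cfsg.Lib.Char.twistOrbit N (ψ : N → ℂ) = {(ψ : N → ℂ)} := by
    ext φ
    rw [Finset.mem_singleton, Cfsg.Lib.Char.mem_twistOrbit]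
    have hfix : ∀ y : G, Cfsg.Lib.Char.conjTwist N (ψ : N → ℂ) y = (ψ : N → ℂ) := fun y =>
      funext fun m => by
        rw [Cfsg.Lib.Char.conjTwist_apply]
        exact congrArg _ (Subtype.ext (show y * (m : G) * y⁻¹ = m by
          rw [Subgroup.mem_center_iff.1 (hN m.2) y, mul_inv_cancel_right]))
    exact ⟨fun ⟨y, hy⟩ => by rw [← hy, hfix], fun h => ⟨1, by rw [hfix, h]⟩⟩
  rw [horb, Finset.sum_singleton] at hres
  have e1 := congrFun hres ⟨z, hcomm⟩
  have e2 := congrFun hres 1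
  simp only [Pi.smul_apply, smul_eq_mul, OneMemClass.coe_one] at e1 e2
  rw [hz1, e2] at e1
  refine hne ?_
  exact congrArg Subtype.val (hfaith ⟨z, hcomm⟩ (mul_left_cancel₀ hover e1.symm))

end Cfsg.Agent.S4566
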